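import Mathlib
import Groth.Prelude.Def_FlatCA
import Groth.Agent.S1224
import Groth.Agent.Lib.R2H4PureDescent
import Groth.Agent.Lib.R2H4PureClosed

/-!
# helper4 (round 2): an impurity over a directed colimit of rings descends to a stage (S1296)

* `ass_comap_of_field_baseChange`: associated primes contract to associated primes along `F → K ⊗_k F`;
* `fiber_ass_contract`, `fiberIdeal_comap_mem_ass`: relative associated points of a base change contract to relative
  associated points;
* `impurity_descend`: an impurity over `A'` descends to an intermediate base `A1 → A'` once the closure condition does;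
* `isSumOf_of_mem_map`, `exists_not_mem_of_closure`, `exists_stage_list`: the finite data to be descended;
* `main` (= S1296).
-/

set_option autoImplicit false
set_option linter.style.haveILetI false
set_option linter.unusedSectionVars false
universe u

namespace Groth.Agent.Lib.R2H4.PureStage

open TensorProduct FlatCA Groth.Agent.Lib.R2H4.PureDescent Groth.Agent.Lib.R2H4.PureClosed

section S1

open Groth.Agent.Lib.R2H4.PureClosed


/-- Associated primes contract to associated primes along a base change of fields `F → F' = K ⊗_k F`. -/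
theorem ass_comap_of_field_baseChange (k K F F' : Type u) [Field k] [Field K] [CommRing F]
    [CommRing F'] [Algebra k K] [Algebra k F] [Algebra K F'] [Algebra F F'] [Algebra k F']
    [IsScalarTower k K F'] [IsScalarTower k F F'] [Algebra.IsPushout k K F F']
    [IsNoetherianRing F] [IsNoetherianRing F']
    (M M' : Type u) [AddCommGroup M] [Module F M] [AddCommGroup M'] [Module F' M'] [Module F M']
    [IsScalarTower F F' M'] [Module k M] [IsScalarTower k F M] [Module K M'] [IsScalarTower K F' M']
    [Module k M'] [IsScalarTower k K M'] [IsScalarTower k F M']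
    (g : M →ₗ[F] M') (hg : IsBaseChange F' g) (Q' : Ideal F')
    (hQ' : Q' ∈ associatedPrimes F' M') :
    Q'.comap (algebraMap F F') ∈ associatedPrimes F M := by
  classical
  have hgK : IsBaseChange K (g.restrictScalars k) :=
    (isBaseChange_iff_of_isPushout k K F F' M M' g).mp hg
  let e : K ⊗[k] M ≃ₗ[K] M' := hgK.equiv
  have he : ∀ (c : K) (m : M), e (c ⊗ₜ m) = c • g m := fun c m => hgK.equiv_tmul c m
  let b := Module.Free.chooseBasis k K
  let E := TensorProduct.equivFinsuppOfBasisLeft (N := M) b
  -- the `F`-semilinear description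
  have hΨ : ∀ x : (Module.Free.ChooseBasisIndex k K) →₀ M,
      e (E.symm x) = x.sum fun i n => b i • g n := by
    intro x
    rw [TensorProduct.equivFinsuppOfBasisLeft_symm_apply, Finsupp.sum, map_sum]
    simp only [he]
    rfl
  have hsm : ∀ (a : F) (x : (Module.Free.ChooseBasisIndex k K) →₀ M),
      e (E.symm (a • x)) = a • e (E.symm x) := by
    intro a x
    rw [hΨ, hΨ, Finsupp.sum_smul_index' (fun i => by simp), Finsupp.smul_sum]
    refine Finsupp.sum_congr fun i _ => ?_
    rw [map_smul, ← algebraMap_smul F' (b i) (g (x i)), ← algebraMap_smul F' (b i) (a • g (x i)),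
      smul_comm]
  haveI hQ'p : Q'.IsPrime := hQ'.isPrime
  obtain ⟨_, z, hz⟩ := (isAssociatedPrime_iff (R := F') (M := M')).mp hQ'
  let f := E (e.symm z)
  have hfz : e (E.symm f) = z := by simp [f]
  let M0 : Submodule F M := Submodule.span F (f.support.image f : Set M)
  have hann : Q'.comap (algebraMap F F') = Module.annihilator F M0 := by
    ext a
    rw [Ideal.mem_comap, hz, Submodule.mem_colon_singleton, Submodule.mem_bot, algebraMap_smul,
      ← hfz, ← hsm, LinearEquiv.map_eq_zero_iff, LinearEquiv.map_eq_zero_iff,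
      ← Submodule.annihilator_top, Submodule.annihilator_top, Module.mem_annihilator]
    constructor
    · intro h ⟨m, hm⟩
      ext
      change a • m = 0
      have hm' : m ∈ Submodule.span F (f.support.image f : Set M) := hm
      refine Submodule.span_induction (p := fun m _ => a • m = 0) ?_ ?_ ?_ ?_ hm'
      · intro y hy
        simp only [Finset.coe_image, Set.mem_image, Finset.mem_coe] at hy
        obtain ⟨j, _, rfl⟩ := hy
        have := DFunLike.congr_fun h j
        simpa using this
      · exact smul_zero a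
      · intro x y _ _ hx hy
        rw [smul_add, hx, hy, add_zero]
      · intro c x _ hx
        rw [smul_comm, hx, smul_zero]
    · intro h
      ext j
      by_cases hj : j ∈ f.support
      · have hmem : f j ∈ M0 := Submodule.subset_span (by
          simp only [Finset.coe_image, Set.mem_image, Finset.mem_coe]
          exact ⟨j, hj, rfl⟩)
        have := h ⟨f j, hmem⟩
        have h2 := congrArg Subtype.val this
        simpa using h2
      · rw [Finsupp.notMem_support_iff] at hj
        simp [hj]
  haveI hqp : (Q'.comap (algebraMap F F')).IsPrime := Ideal.comap_isPrime _ _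
  haveI : Module.Finite F M0 :=
    Module.Finite.iff_fg.mpr (Submodule.fg_span (Finset.finite_toSet _))
  have h1 : Q'.comap (algebraMap F F') ∈ (Module.annihilator F M0).minimalPrimes := by
    rw [← hann, Ideal.minimalPrimes_eq_subsingleton_self]
    rfl
  have h2 := Module.associatedPrimes.minimalPrimes_annihilator_subset_associatedPrimes (R := F) (M := M0) h1
  exact associatedPrimes.subset_of_injective (f := M0.subtype) M0.subtype_injective h2

end S1

section S2

attribute [local instance] Algebra.TensorProduct.rightAlgebra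

/-- wrapper of `ass_comap_of_field_baseChange` building the auxiliary module structures. -/
theorem ass_comap_of_field_baseChange' (k K F F' : Type u) [Field k] [Field K] [CommRing F]
    [CommRing F'] [Algebra k K] [Algebra k F] [Algebra K F'] [Algebra F F'] [Algebra k F']
    [IsScalarTower k K F'] [IsScalarTower k F F'] [Algebra.IsPushout k K F F']
    [IsNoetherianRing F] [IsNoetherianRing F']
    (M M' : Type u) [AddCommGroup M] [Module F M] [AddCommGroup M'] [Module F' M'] [Module F M']
    [IsScalarTower F F' M'] (g : M →ₗ[F] M') (hg : IsBaseChange F' g) (Q' : Ideal F')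
    (hQ' : Q' ∈ associatedPrimes F' M') :
    Q'.comap (algebraMap F F') ∈ associatedPrimes F M := by
  letI : Module k M := Module.compHom M (algebraMap k F)
  haveI : IsScalarTower k F M := .of_algebraMap_smul fun _ _ => rfl
  letI : Module K M' := Module.compHom M' (algebraMap K F')
  haveI : IsScalarTower K F' M' := .of_algebraMap_smul fun _ _ => rfl
  letI : Module k M' := Module.compHom M' (algebraMap k F')
  haveI : IsScalarTower k F' M' := .of_algebraMap_smul fun _ _ => rfl
  haveI : IsScalarTower k K M' := .of_algebraMap_smul fun c x => by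
    rw [← algebraMap_smul F' (algebraMap k K c) x, ← IsScalarTower.algebraMap_apply k K F',
      algebraMap_smul]
  haveI : IsScalarTower k F M' := .of_algebraMap_smul fun c x => by
    rw [← algebraMap_smul F' (algebraMap k F c) x, ← IsScalarTower.algebraMap_apply k F F',
      algebraMap_smul]
  exact ass_comap_of_field_baseChange k K F F' M M' g hg Q' hQ'

section Fiber

variable (R S R' S' k k' A A' : Type u) [CommRing R] [CommRing S] [CommRing R'] [CommRing S']
  [Field k] [Field k'] [CommRing A] [CommRing A']
  [Algebra R S] [Algebra R R'] [Algebra R' S'] [Algebra R S'] [Algebra S S']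
  [IsScalarTower R R' S'] [IsScalarTower R S S'] [Algebra.IsPushout R R' S S']
  [Algebra R k] [Algebra R' k'] [Algebra R k'] [Algebra k k'] [IsScalarTower R R' k']
  [IsScalarTower R k k']
  [Algebra k A] [Algebra S A] [Algebra R A] [IsScalarTower R k A] [IsScalarTower R S A]
  [Algebra.IsPushout R k S A]
  [Algebra k' A'] [Algebra S' A'] [Algebra R' A'] [IsScalarTower R' k' A'] [IsScalarTower R' S' A']
  [Algebra.IsPushout R' k' S' A']

include R R' in
/-- the comparison map of fibre rings `A = k ⊗_R S → A' = k' ⊗_{R'} S'` contracts associated primes of fibre modules to associated primes. -/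
theorem fiber_ass_contract [IsNoetherianRing A] [IsNoetherianRing A'] :
    ∃ φ : A →+* A', (∀ x : k, φ (algebraMap k A x) = algebraMap k' A' (algebraMap k k' x)) ∧
      (∀ s : S, φ (algebraMap S A s) = algebraMap S' A' (algebraMap S S' s)) ∧
      ∀ (N N' M M' : Type u) [AddCommGroup N] [Module S N] [AddCommGroup N']
        [Module S' N'] [Module S N'] [IsScalarTower S S' N']
        [AddCommGroup M] [Module A M] [Module S M] [IsScalarTower S A M]
        [AddCommGroup M'] [Module A' M'] [Module S' M'] [IsScalarTower S' A' M']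
        (f : N →ₗ[S] N') (_ : IsBaseChange S' f) (i : N →ₗ[S] M) (_ : IsBaseChange A i)
        (i' : N' →ₗ[S'] M') (_ : IsBaseChange A' i'),
        ∀ Q ∈ associatedPrimes A' M', Q.comap φ ∈ associatedPrimes A M := by
  letI aRA' : Algebra R A' := ((algebraMap R' A').comp (algebraMap R R')).toAlgebra
  haveI : IsScalarTower R R' A' := .of_algebraMap_eq fun _ => rfl
  letI aSA' : Algebra S A' := ((algebraMap S' A').comp (algebraMap S S')).toAlgebra
  haveI : IsScalarTower S S' A' := .of_algebraMap_eq fun _ => rfl
  letI akA' : Algebra k A' := ((algebraMap k' A').comp (algebraMap k k')).toAlgebra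
  haveI : IsScalarTower k k' A' := .of_algebraMap_eq fun _ => rfl
  haveI : IsScalarTower R k' A' := .of_algebraMap_eq fun x => by
    rw [IsScalarTower.algebraMap_apply R R' A', IsScalarTower.algebraMap_apply R' k' A',
      ← IsScalarTower.algebraMap_apply R R' k']
  haveI : IsScalarTower R S' A' := .of_algebraMap_eq fun x => by
    rw [IsScalarTower.algebraMap_apply R R' A', IsScalarTower.algebraMap_apply R' S' A',
      ← IsScalarTower.algebraMap_apply R R' S']
  haveI : IsScalarTower R S A' := .of_algebraMap_eq fun x => by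
    rw [IsScalarTower.algebraMap_apply R S' A', IsScalarTower.algebraMap_apply R S S',
      ← IsScalarTower.algebraMap_apply S S' A']
  haveI : IsScalarTower R k A' := .of_algebraMap_eq fun x => by
    rw [IsScalarTower.algebraMap_apply R k' A', IsScalarTower.algebraMap_apply R k k',
      ← IsScalarTower.algebraMap_apply k k' A']
  let φ : A →ₐ[R] A' := Algebra.pushoutDesc A (IsScalarTower.toAlgHom R k A')
    (IsScalarTower.toAlgHom R S A') (fun _ _ => mul_comm _ _)
  have hφl : ∀ x : k, φ (algebraMap k A x) = algebraMap k A' x := fun x =>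
    Algebra.pushoutDesc_left A (IsScalarTower.toAlgHom R k A')
      (IsScalarTower.toAlgHom R S A') (fun _ _ => mul_comm _ _) x
  have hφr : ∀ s : S, φ (algebraMap S A s) = algebraMap S A' s := fun x =>
    Algebra.pushoutDesc_right A (IsScalarTower.toAlgHom R k A')
      (IsScalarTower.toAlgHom R S A') (fun _ _ => mul_comm _ _) x
  letI aAA' : Algebra A A' := φ.toRingHom.toAlgebra
  haveI : IsScalarTower k A A' := .of_algebraMap_eq fun x => (hφl x).symm
  haveI : IsScalarTower S A A' := .of_algebraMap_eq fun x => (hφr x).symm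
  haveI : IsScalarTower R A A' := .of_algebraMap_eq fun x => (φ.commutes x).symm
  have hP1 : Algebra.IsPushout R k' S A' :=
    (Algebra.IsPushout.comp_iff R R' S S').mpr inferInstance
  haveI hP2 : Algebra.IsPushout k k' A A' := (Algebra.IsPushout.comp_iff R k S A).mp hP1
  -- `A'` is faithfully flat over `A`
  have hP3 : Algebra.IsPushout k A k' A' := hP2.symm
  have hbc : IsBaseChange A (IsScalarTower.toAlgHom k k' A').toLinearMap := hP3.out
  haveI hff : Module.FaithfullyFlat A A' :=
    Module.FaithfullyFlat.of_linearEquiv (R := A) (M := A ⊗[k] k') (N := A') hbc.equiv.symm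
  haveI : Module.Flat A A' := hff.toFlat
  refine ⟨φ.toRingHom, hφl, hφr, ?_⟩
  intro N N' M M' _ _ _ _ _ _ _ _ _ _ _ _ _ _ f hf i hi i' hi' Q hQ
  letI mSM' : Module S M' := Module.compHom M' (algebraMap S S')
  haveI : IsScalarTower S S' M' := .of_algebraMap_smul fun _ _ => rfl
  haveI : IsScalarTower S A' M' := .of_algebraMap_smul fun s x => by
    rw [IsScalarTower.algebraMap_apply S S' A', algebraMap_smul, algebraMap_smul]
  letI mAM' : Module A M' := Module.compHom M' (algebraMap A A')
  haveI : IsScalarTower A A' M' := .of_algebraMap_smul fun _ _ => rfl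
  haveI : IsScalarTower S A M' := .of_algebraMap_smul fun s x => by
    rw [← algebraMap_smul A' (algebraMap S A s) x, ← IsScalarTower.algebraMap_apply S A A',
      algebraMap_smul]
  have hc : IsBaseChange A' ((i'.restrictScalars S).comp f) := IsBaseChange.comp hf hi'
  let F : M →ₗ[A] M' := hi.lift ((i'.restrictScalars S).comp f)
  have hF : IsBaseChange A' F := by
    refine IsBaseChange.of_comp hi ?_
    have : (F.restrictScalars S).comp i = (i'.restrictScalars S).comp f := hi.lift_comp _
    rw [this]
    exact hc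
  exact ass_comap_of_field_baseChange' k k' A A' M M' F hF Q hQ

end Fiber

end S2

section S3

attribute [local instance] Algebra.TensorProduct.rightAlgebra

variable (R S : Type u) [CommRing R] [CommRing S] [Algebra R S] (p : Ideal R) [p.IsPrime]
variable (R' : Type u) [CommRing R'] [Algebra R R'] (p' : Ideal R') [p'.IsPrime] [hp' : p'.LiesOver p]
  (S' : Type u) [CommRing S'] [Algebra R' S'] [Algebra R S'] [Algebra S S'] [IsScalarTower R R' S']
  [IsScalarTower R S S'] [Algebra.IsPushout R R' S S']

include hp' in
/-- relative associated points of a base change contract to relative associated points. -/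
theorem fiberIdeal_comap_mem_ass [Algebra.FiniteType R S]
    (N N' : Type u) [AddCommGroup N] [Module S N] [Module R N] [IsScalarTower R S N]
    [AddCommGroup N'] [Module S' N'] [Module R' N'] [IsScalarTower R' S' N'] [Module S N']
    [IsScalarTower S S' N'] (f : N →ₗ[S] N') (hf : IsBaseChange S' f)
    (q' : Ideal S') [q'.IsPrime] [q'.LiesOver p']
    (hq' : fiberIdeal p' q' ∈ associatedPrimes (p'.Fiber S') (fiberMod p' S' N')) :
    fiberIdeal p (q'.comap (algebraMap S S')) ∈ associatedPrimes (p.Fiber S) (fiberMod p S N) := by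
  letI : Algebra p.ResidueField p'.ResidueField :=
    (Ideal.ResidueField.mapₐ p p' (Algebra.ofId R R') (p'.over_def p)).toRingHom.toAlgebra
  haveI : IsScalarTower R p.ResidueField p'.ResidueField := .of_algebraMap_eq fun x =>
    ((Ideal.ResidueField.mapₐ p p' (Algebra.ofId R R') (p'.over_def p)).commutes x).symm
  haveI : Algebra.FiniteType R' S' := by
    have e : R' ⊗[R] S ≃ₐ[R'] S' := Algebra.IsPushout.equiv R R' S S'
    exact Algebra.FiniteType.equiv inferInstance e
  haveI : IsNoetherianRing (p.Fiber S) :=
    Algebra.FiniteType.isNoetherianRing p.ResidueField (p.Fiber S)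
  haveI : IsNoetherianRing (p'.Fiber S') :=
    Algebra.FiniteType.isNoetherianRing p'.ResidueField (p'.Fiber S')
  obtain ⟨φ, -, hr, hM⟩ := fiber_ass_contract R S R' S' p.ResidueField p'.ResidueField
    (p.Fiber S) (p'.Fiber S')
  haveI hT1 : IsScalarTower S (p.Fiber S) (FlatCA.fiberMod p S N) :=
    inferInstanceAs (IsScalarTower S (p.Fiber S) ((p.Fiber S) ⊗[S] N))
  letI : Module S' (FlatCA.fiberMod p' S' N') :=
    inferInstanceAs (Module S' ((p'.Fiber S') ⊗[S'] N'))
  haveI hT2 : IsScalarTower S' (p'.Fiber S') (FlatCA.fiberMod p' S' N') :=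
    inferInstanceAs (IsScalarTower S' (p'.Fiber S') ((p'.Fiber S') ⊗[S'] N'))
  have hQ := @hM N N' (FlatCA.fiberMod p S N) (FlatCA.fiberMod p' S' N')
    _ _ _ _ _ _ _ _ _ hT1 _ _ _ hT2 f hf
    (FlatCA.toFiberMod p S N) (TensorProduct.isBaseChange S N (p.Fiber S))
    (FlatCA.toFiberMod p' S' N') (TensorProduct.isBaseChange S' N' (p'.Fiber S'))
    (fiberIdeal p' q') hq'
  haveI hQp : ((fiberIdeal p' q').comap φ).IsPrime := hQ.isPrime
  have hcomp : φ.comp (Algebra.TensorProduct.includeRight (R := R) (A := p.ResidueField)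
      (B := S)).toRingHom = ((Algebra.TensorProduct.includeRight (R := R')
      (A := p'.ResidueField) (B := S')).toRingHom).comp (algebraMap S S') :=
    RingHom.ext fun s => hr s
  have h1 : ((fiberIdeal p' q').comap φ).comap (Algebra.TensorProduct.includeRight (R := R)
      (A := p.ResidueField) (B := S)).toRingHom = q'.comap (algebraMap S S') := by
    rw [Ideal.comap_comap, hcomp, ← Ideal.comap_comap, Groth.Agent.S1224.comap_fiberIdeal p' q']
  rw [← h1, fiberIdeal_comap_eq]
  exact hQ

end S3

section S4

section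

variable {A B : Type u} [CommRing A] [CommRing B] [Algebra A B] [Algebra.FiniteType A B]
  (N : Type u) [AddCommGroup N] [Module B N] (p : Ideal A) [p.IsPrime]
  (A1 : Type u) [CommRing A1] [Algebra A A1]
  (A' B' N' : Type u) [CommRing A'] [CommRing B'] [Algebra A A'] [Algebra A1 A']
  [IsScalarTower A A1 A'] [Algebra B B'] [Algebra A' B'] [Algebra A B'] [IsScalarTower A B B']
  [IsScalarTower A A' B'] [AddCommGroup N'] [Module B' N'] [Module B N'] [IsScalarTower B B' N']
  [Module A' N'] [IsScalarTower A' B' N'] (f : N →ₗ[B] N') (t' t : Ideal A') [t'.IsPrime]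
  [t.IsPrime] (P : Ideal B') [P.IsPrime]
  (B1 N1 : Type u) [CommRing B1] [Algebra B B1] [Algebra A1 B1] [Algebra A B1]
  [IsScalarTower A B B1] [IsScalarTower A A1 B1] [Algebra.IsPushout A B A1 B1]
  [AddCommGroup N1] [Module B1 N1] [Module B N1] [IsScalarTower B B1 N1] [Module A1 N1]
  [IsScalarTower A1 B1 N1] (f1 : N →ₗ[B] N1) (hf1 : IsBaseChange B1 f1)
  [Algebra A1 B'] [IsScalarTower A1 A' B'] [Algebra B1 B'] [IsScalarTower B B1 B']
  [IsScalarTower A1 B1 B']

include hf1 in
/-- an impurity over `A'` descends to the intermediate base `A1 → A'` as soon as the closure condition does. -/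
theorem impurity_descend (himp : IsImpurity A B N p A' B' N' f t' t P)
    (hcl : ∃ (s : A1) (x : B1), algebraMap A1 A' s ∉ t ∧
      x ∈ (t.comap (algebraMap A1 A')).map (algebraMap A1 B1) ∧
      algebraMap B1 B' (algebraMap A1 B1 s - x) ∈ P) :
    IsImpurity A B N p A1 B1 N1 f1 (t'.comap (algebraMap A1 A')) (t.comap (algebraMap A1 A'))
      (P.comap (algebraMap B1 B')) := by
  obtain ⟨h1, h2, h3, h4, h5, h6, h7⟩ := himp
  haveI := h1
  haveI := h5
  -- pushouts
  haveI tAB1B' : IsScalarTower A B1 B' := .of_algebraMap_eq fun a => by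
    rw [IsScalarTower.algebraMap_apply A B B', IsScalarTower.algebraMap_apply B B1 B',
      ← IsScalarTower.algebraMap_apply A B B1]
  haveI hPa : Algebra.IsPushout A A1 B B1 := Algebra.IsPushout.symm inferInstance
  have hPb : Algebra.IsPushout A A' B B' := Algebra.IsPushout.symm h1
  haveI hPc : Algebra.IsPushout A1 A' B1 B' := (Algebra.IsPushout.comp_iff A A1 B B1).mp hPb
  haveI hFT : Algebra.FiniteType A1 B1 := by
    have e : A1 ⊗[A] B ≃ₐ[A1] B1 := Algebra.IsPushout.equiv A A1 B B1
    exact Algebra.FiniteType.equiv inferInstance e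
  -- modules
  letI mB1N' : Module B1 N' := Module.compHom N' (algebraMap B1 B')
  haveI tB1B'N' : IsScalarTower B1 B' N' := .of_algebraMap_smul fun _ _ => rfl
  haveI tBB1N' : IsScalarTower B B1 N' := .of_algebraMap_smul fun b n => by
    rw [← algebraMap_smul B' (algebraMap B B1 b) n, ← IsScalarTower.algebraMap_apply B B1 B',
      algebraMap_smul]
  let f' : N1 →ₗ[B1] N' := hf1.lift f
  have hf' : IsBaseChange B' f' := by
    refine IsBaseChange.of_comp hf1 ?_
    have : (f'.restrictScalars B).comp f1 = f := hf1.lift_comp _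
    rw [this]
    exact h2
  -- primes
  haveI hlo1 : (P.comap (algebraMap B1 B')).LiesOver (t'.comap (algebraMap A1 A')) := by
    constructor
    rw [Ideal.under_def, Ideal.comap_comap, ← IsScalarTower.algebraMap_eq A1 B1 B',
      IsScalarTower.algebraMap_eq A1 A' B', ← Ideal.comap_comap]
    congr 1
    exact h5.over
  haveI hlo2 : t'.LiesOver (t'.comap (algebraMap A1 A')) := ⟨rfl⟩
  refine ⟨inferInstance, hf1, Ideal.comap_mono h3, ?_, hlo1, ?_, ?_⟩
  · constructor
    rw [Ideal.under_def, Ideal.comap_comap, ← IsScalarTower.algebraMap_eq A A1 A']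
    exact h4.over
  · exact fiberIdeal_comap_mem_ass A1 B1 (t'.comap (algebraMap A1 A')) A' t' B' N1 N' f' hf' P h6
  · intro P'' hP'' hle hlo
    obtain ⟨s, x, hs, hx, hsx⟩ := hcl
    apply hs
    have h8 : algebraMap A1 B1 s ∈ P'' := by
      have e1 : algebraMap A1 B1 s = (algebraMap A1 B1 s - x) + x := by ring
      rw [e1]
      refine Ideal.add_mem _ (hle ?_) ?_
      · exact hsx
      · have : (t.comap (algebraMap A1 A')).map (algebraMap A1 B1) ≤ P'' := by
          rw [Ideal.map_le_iff_le_comap]
          exact hlo.over.le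
        exact this hx
    have h9 : s ∈ P''.under A1 := h8
    rw [← hlo.over] at h9
    exact h9

end

end S4

section S5

section

variable {A B A' B' : Type u} [CommRing A] [CommRing B] [CommRing A'] [CommRing B'] [Algebra A B]
  [Algebra A A'] [Algebra B B'] [Algebra A' B'] [Algebra A B'] [IsScalarTower A B B']
  [IsScalarTower A A' B']

/-- sums of products `β · τ` with `τ ∈ t` -/
def IsSumOf (t : Ideal A') (y : B') : Prop :=
  ∃ l : List (B × A'), (∀ x ∈ l, x.2 ∈ t) ∧
    y = (l.map fun x => algebraMap B B' x.1 * algebraMap A' B' x.2).sum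

theorem IsSumOf.zero (t : Ideal A') : IsSumOf (B := B) t (0 : B') := ⟨[], by simp, by simp⟩

theorem IsSumOf.add {t : Ideal A'} {y z : B'} (hy : IsSumOf (B := B) t y)
    (hz : IsSumOf (B := B) t z) : IsSumOf (B := B) t (y + z) := by
  obtain ⟨l, hl, rfl⟩ := hy
  obtain ⟨m, hm, rfl⟩ := hz
  refine ⟨l ++ m, ?_, by simp⟩
  intro x hx
  rcases List.mem_append.mp hx with h | h
  · exact hl x h
  · exact hm x h

theorem IsSumOf.smul {t : Ideal A'} {y : B'} (s : A') (hy : IsSumOf (B := B) t y) :
    IsSumOf (B := B) t (s • y) := by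
  obtain ⟨l, hl, rfl⟩ := hy
  refine ⟨l.map fun x => (x.1, s * x.2), ?_, ?_⟩
  · intro x hx
    obtain ⟨x', hx', rfl⟩ := List.mem_map.mp hx
    exact Ideal.mul_mem_left _ _ (hl x' hx')
  · rw [List.smul_sum, List.map_map, List.map_map]
    congr 1
    apply List.map_congr_left
    intro x _
    simp only [Function.comp_apply, map_mul, Algebra.smul_def]
    ring

end

theorem isSumOf_of_mem_map (A B A' B' : Type u) [CommRing A] [CommRing B] [CommRing A'] [CommRing B']
    [Algebra A B] [Algebra A A'] [Algebra B B'] [Algebra A' B'] [Algebra A B'] [IsScalarTower A B B']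
    [IsScalarTower A A' B'] [Algebra.IsPushout A B A' B']
    (t : Ideal A') (y : B') (hy : y ∈ t.map (algebraMap A' B')) :
    IsSumOf (B := B) t y := by
  have hy' : y ∈ (t • ⊤ : Submodule A' B') := by
    rw [Ideal.smul_top_eq_map]
    exact hy
  have hP : Algebra.IsPushout A A' B B' := Algebra.IsPushout.symm inferInstance
  refine Submodule.smul_induction_on hy' ?_ ?_
  · intro r hr n _
    refine hP.out.inductionOn n (fun n => IsSumOf (B := B) t (r • n)) ?_ ?_ ?_ ?_
    · rw [smul_zero]
      exact IsSumOf.zero t
    · intro β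
      refine ⟨[(β, r)], by simpa using hr, ?_⟩
      simp [Algebra.smul_def, mul_comm]
    · intro s n hn
      change IsSumOf t (r • s • n)
      rw [smul_comm]
      exact hn.smul s
    · intro n₁ n₂ h₁ h₂
      change IsSumOf t (r • (n₁ + n₂))
      rw [smul_add]
      exact h₁.add h₂
  · intro x y hx hy
    exact hx.add hy

end S5

section S6

/-- if no prime containing `P` lies over `t`, some `s ∉ t` lies in `P + tB'`. -/
theorem exists_not_mem_of_closure {A' B' : Type u} [CommRing A'] [CommRing B'] [Algebra A' B']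
    (t : Ideal A') [t.IsPrime] (P : Ideal B')
    (h7 : ∀ (P' : Ideal B') [P'.IsPrime], P ≤ P' → ¬ P'.LiesOver t) :
    ∃ s : A', s ∉ t ∧ algebraMap A' B' s ∈ P ⊔ t.map (algebraMap A' B') := by
  by_contra hcon
  push Not at hcon
  have hdisj : Disjoint ((P ⊔ t.map (algebraMap A' B') : Ideal B') : Set B')
      (Submonoid.map (algebraMap A' B') t.primeCompl : Set B') := by
    rw [Set.disjoint_left]
    rintro z hz ⟨s, hs, rfl⟩
    exact hcon s hs hz
  obtain ⟨P'', hP''p, hle, hd⟩ := Ideal.exists_le_prime_disjoint _ _ hdisj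
  haveI := hP''p
  apply h7 P'' (le_sup_left.trans hle)
  constructor
  apply le_antisymm
  · rw [Ideal.under_def, ← Ideal.map_le_iff_le_comap]
    exact le_sup_right.trans hle
  · intro a ha
    by_contra hat
    exact Set.disjoint_left.mp hd ha ⟨a, hat, rfl⟩

/-- finitely many elements of a directed colimit come from a common stage -/
theorem exists_stage_list {ι : Type u} [Preorder ι] (G : ι → Type u) [∀ i, CommRing (G i)]
    (g : ∀ i j, i ≤ j → G i →+* G j) (A' : Type u) [CommRing A'] [∀ i, Algebra (G i) A']
    (h : IsDirectedColimitRing G g A') (l : List A') :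
    ∃ i, ∀ a ∈ l, ∃ x : G i, algebraMap (G i) A' x = a := by
  obtain ⟨hdir, hne, -, -, hcompat, hsurj, -⟩ := h
  induction l with
  | nil =>
    obtain ⟨i⟩ := hne
    exact ⟨i, by simp⟩
  | cons a l ih =>
    obtain ⟨i, hi⟩ := ih
    obtain ⟨j, x, hx⟩ := hsurj a
    obtain ⟨k, hik, hjk⟩ := hdir.directed i j
    refine ⟨k, ?_⟩
    intro b hb
    rcases List.mem_cons.mp hb with rfl | hb
    · refine ⟨g j k hjk x, ?_⟩
      have := congrArg (fun φ => φ x) (hcompat j k hjk)
      simp only [RingHom.comp_apply] at this
      rw [this, hx]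
    · obtain ⟨y, hy⟩ := hi b hb
      refine ⟨g i k hik y, ?_⟩
      have := congrArg (fun φ => φ y) (hcompat i k hik)
      simp only [RingHom.comp_apply] at this
      rw [this, hy]

end S6

section S7

theorem main {A B : Type u} [CommRing A] [CommRing B] [Algebra A B] [Algebra.FiniteType A B]
    (N : Type u) [AddCommGroup N] [Module B N] (p : Ideal A) [p.IsPrime]
    {ι : Type u} [Preorder ι] (G : ι → Type u) [∀ i, CommRing (G i)] [∀ i, Algebra A (G i)]
    (g : ∀ i j, i ≤ j → G i →ₐ[A] G j)
    (A' : Type u) [CommRing A'] [Algebra A A'] [∀ i, Algebra (G i) A'] [∀ i, IsScalarTower A (G i) A']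
    (hcolim : FlatCA.IsDirectedColimitRing G (fun i j h => (g i j h).toRingHom) A')
    (B' N' : Type u) [CommRing B'] [Algebra B B'] [Algebra A' B'] [Algebra A B'] [IsScalarTower A B B'] [IsScalarTower A A' B']
    [AddCommGroup N'] [Module B' N'] [Module B N'] [IsScalarTower B B' N'] [Module A' N'] [IsScalarTower A' B' N']
    (f : N →ₗ[B] N') (t' t : Ideal A') [t'.IsPrime] [t.IsPrime] (P : Ideal B') [P.IsPrime]
    (himp : FlatCA.IsImpurity A B N p A' B' N' f t' t P) :
    ∃ i : ι, FlatCA.HasImpurity A B N p (fun A'' _ _ t'' => ∃ e : A'' ≃ₐ[A] G i, t''.map e = t.comap (algebraMap (G i) A')) := by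
  classical
  have h1 := himp.1
  haveI := h1
  have h7 := himp.2.2.2.2.2.2
  obtain ⟨s', hs', hs'J⟩ := exists_not_mem_of_closure t P h7
  obtain ⟨π, hπ, y, hy, hsum⟩ := Submodule.mem_sup.mp hs'J
  obtain ⟨l, hl, hyl⟩ := isSumOf_of_mem_map A B A' B' t y hy
  obtain ⟨i, hi⟩ := exists_stage_list G _ A' hcolim (s' :: l.map Prod.snd)
  obtain ⟨s, hs⟩ := hi s' List.mem_cons_self
  have hi' : ∀ a : A', ∃ x : G i, a ∈ l.map Prod.snd → algebraMap (G i) A' x = a := by
    intro a
    by_cases ha : a ∈ l.map Prod.snd
    · obtain ⟨x, hx⟩ := hi a (List.mem_cons_of_mem _ ha)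
      exact ⟨x, fun _ => hx⟩
    · exact ⟨0, fun h => absurd h ha⟩
  choose lift hlift using hi'
  refine ⟨i, ?_⟩
  -- stage data
  letI aGB' : Algebra (G i) B' := ((algebraMap A' B').comp (algebraMap (G i) A')).toAlgebra
  haveI tGA'B' : IsScalarTower (G i) A' B' := .of_algebraMap_eq fun _ => rfl
  haveI tAGB' : IsScalarTower A (G i) B' := .of_algebraMap_eq fun a => by
    rw [IsScalarTower.algebraMap_apply A A' B', IsScalarTower.algebraMap_apply A (G i) A',
      ← IsScalarTower.algebraMap_apply (G i) A' B']
  obtain ⟨B1, N1, iB1, aBB1, aGB1, aAB1, tABB1, tAGB1, hP1, iN1, mB1N1, mBN1, tBB1N1, mGN1, tGB1N1,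
    f1, hf1⟩ := exists_baseChange_data A B N (G i)
  let χ : B1 →ₐ[A] B' := Algebra.pushoutDesc B1 (IsScalarTower.toAlgHom A B B')
    (IsScalarTower.toAlgHom A (G i) B') (fun _ _ => mul_comm _ _)
  have hχl : ∀ x : B, χ (algebraMap B B1 x) = algebraMap B B' x := fun x =>
    Algebra.pushoutDesc_left B1 (IsScalarTower.toAlgHom A B B')
      (IsScalarTower.toAlgHom A (G i) B') (fun _ _ => mul_comm _ _) x
  have hχr : ∀ x : G i, χ (algebraMap (G i) B1 x) = algebraMap (G i) B' x := fun x =>
    Algebra.pushoutDesc_right B1 (IsScalarTower.toAlgHom A B B')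
      (IsScalarTower.toAlgHom A (G i) B') (fun _ _ => mul_comm _ _) x
  letI aB1B' : Algebra B1 B' := χ.toRingHom.toAlgebra
  haveI tBB1B' : IsScalarTower B B1 B' := .of_algebraMap_eq fun x => (hχl x).symm
  haveI tGB1B' : IsScalarTower (G i) B1 B' := .of_algebraMap_eq fun x => (hχr x).symm
  -- the closure condition at stage `i`
  let x : B1 := (l.map fun z => algebraMap B B1 z.1 * algebraMap (G i) B1 (lift z.2)).sum
  have hx : x ∈ (t.comap (algebraMap (G i) A')).map (algebraMap (G i) B1) := by
    refine list_sum_mem ?_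
    intro w hw
    obtain ⟨z, hz, rfl⟩ := List.mem_map.mp hw
    refine Ideal.mul_mem_left _ _ (Ideal.mem_map_of_mem _ ?_)
    rw [Ideal.mem_comap, hlift z.2 (List.mem_map_of_mem hz)]
    exact hl z hz
  have hximg : algebraMap B1 B' x = y := by
    rw [hyl, map_list_sum, List.map_map]
    congr 1
    apply List.map_congr_left
    intro z hz
    simp only [Function.comp_apply, map_mul]
    rw [← IsScalarTower.algebraMap_apply B B1 B', ← IsScalarTower.algebraMap_apply (G i) B1 B',
      IsScalarTower.algebraMap_apply (G i) A' B', hlift z.2 (List.mem_map_of_mem hz)]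
  have hcl : ∃ (s : G i) (x : B1), algebraMap (G i) A' s ∉ t ∧
      x ∈ (t.comap (algebraMap (G i) A')).map (algebraMap (G i) B1) ∧
      algebraMap B1 B' (algebraMap (G i) B1 s - x) ∈ P := by
    refine ⟨s, x, by rw [hs]; exact hs', hx, ?_⟩
    rw [map_sub, ← IsScalarTower.algebraMap_apply (G i) B1 B',
      IsScalarTower.algebraMap_apply (G i) A' B', hs, hximg, ← hsum, add_sub_cancel_right]
    exact hπ
  have himp1 := impurity_descend N p (G i) A' B' N' f t' t P B1 N1 f1 hf1 himp hcl
  refine ⟨G i, B1, N1, inferInstance, iB1, inferInstance, aBB1, aGB1, aAB1, tABB1, tAGB1, iN1, mB1N1,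
    mBN1, tBB1N1, mGN1, tGB1N1, f1, t'.comap (algebraMap (G i) A'), t.comap (algebraMap (G i) A'),
    inferInstance, inferInstance, P.comap (algebraMap B1 B'), inferInstance, himp1,
    AlgEquiv.refl, ?_⟩
  exact Ideal.map_id _

end S7

end Groth.Agent.Lib.R2H4.PureStage
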