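import Mathlib
import Groth.Prelude.Def_Mor2
import Groth.Prelude.Def_Pi1
import Groth.Agent.Lib.R2H4NormQAff
import Groth.Agent.Lib.R2H4NormNormal
import Groth.Agent.Lib.R2H4QAClopen
import Groth.Agent.Lib.Helper10RedInd
import Groth.Agent.Lib.Helper18Norm2

/-!
# Quasi-affineness descends along finite surjective morphisms (helper4, round 2)

* `isQuasiAffine_of_finite_surjective_normal`: target integral normal.
* `isQuasiAffine_of_finLocFree`: morphism finite locally free.
-/

set_option autoImplicit false
set_option linter.style.haveILetI false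
universe u
open CategoryTheory CategoryTheory.Limits AlgebraicGeometry TopologicalSpace

namespace Groth.Agent.Lib.R2H4.QAFinite

open Groth.Agent.Lib.R2H4.NormQAff Groth.Agent.Lib.R2H4.NormNormal Groth.Agent.Lib.R2H4.QAClopen

open Scheme.IdealSheafData in
theorem isQuasiAffine_of_finite_surjective_normal {X Y : Scheme.{u}} (π : X ⟶ Y) [IsFinite π]
    [Surjective π] [X.IsQuasiAffine] [IsIntegral Y] (hY : Pi1.IsNormalScheme Y) :
    Y.IsQuasiAffine := by
  obtain ⟨x, hx⟩ := π.surjective (genericPoint Y)
  let Z : Closeds X := ⟨closure {x}, isClosed_closure⟩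
  let i : (vanishingIdeal Z).subscheme ⟶ X := (vanishingIdeal Z).subschemeι
  have hrange : Set.range i = closure {x} := by
    rw [range_subschemeι, coe_support_vanishingIdeal]; rfl
  haveI : IsReduced (vanishingIdeal Z).subscheme :=
    Groth.Agent.Lib.Helper10.RedInd.isReduced_subscheme_vanishingIdeal Z
  haveI : IrreducibleSpace (vanishingIdeal Z).subscheme := by
    have h1 : IsIrreducible (Set.range i) := by
      rw [hrange]; exact isIrreducible_singleton.closure
    haveI := Subtype.irreducibleSpace h1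
    exact (i.isClosedEmbedding.isEmbedding.toHomeomorph).irreducibleSpace_iff.2 inferInstance
  haveI : IsIntegral (vanishingIdeal Z).subscheme := isIntegral_of_irreducibleSpace_of_isReduced _
  haveI : Surjective (i ≫ π) := by
    constructor
    rw [← Set.range_eq_univ, Scheme.Hom.comp_base, TopCat.coe_comp, Set.range_comp, hrange,
      ← π.isClosedMap.closure_image_eq_of_continuous π.continuous, Set.image_singleton, hx]
    exact (genericPoint_spec Y).def
  haveI : CompactSpace (vanishingIdeal Z).subscheme := i.isClosedEmbedding.compactSpace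
  haveI : (vanishingIdeal Z).subscheme.IsQuasiAffine := Scheme.IsQuasiAffine.of_isImmersion i
  obtain ⟨d, ⟨N⟩⟩ := hasNorm_of_finite_surjective_normal (i ≫ π) hY
  exact isQuasiAffine_of_normOfDegree (i ≫ π) N

theorem isQuasiAffine_of_finLocFree {X Y : Scheme.{u}} (π : X ⟶ Y) [Surjective π]
    [X.IsQuasiAffine] (h : Mor2.IsFinLocFree π) : Y.IsQuasiAffine := by
  obtain ⟨hfin, hflat, hfp⟩ := h
  haveI := hfin; haveI := hflat; haveI := hfp
  haveI : CompactSpace Y :=
    ⟨by rw [← Set.range_eq_univ.2 π.surjective]; exact isCompact_range π.continuous⟩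
  apply isQuasiAffine_of_clopen_cover
  intro y
  have hlc := Scheme.Hom.isLocallyConstant_finrank π
  let W : Y.Opens := ⟨π.finrank ⁻¹' {π.finrank y}, hlc.isOpen_fiber _⟩
  have hWc : IsClosed (W : Set Y) := hlc.isClosed_fiber _
  refine ⟨W, hWc, rfl, ?_⟩
  have hdeg : Mor2.IsFinLocFreeOfDeg (π.finrank y) (π ∣_ W) := by
    refine ⟨⟨inferInstance, inferInstance, inferInstance⟩, fun w => ?_⟩
    have := Scheme.Hom.finrank_of_isPullback (π ⁻¹ᵁ W).ι (π ∣_ W) π W.ι
      (isPullback_morphismRestrict π W).flip w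
    rw [this]; exact w.2
  have hd : 1 ≤ π.finrank y := (Scheme.Hom.one_le_finrank_iff_surjective π).2 inferInstance y
  obtain ⟨N⟩ := Groth.Agent.Helper18Norm.main_S8878 (π ∣_ W) (π.finrank y) hd hdeg
  haveI : CompactSpace (π ⁻¹ᵁ W).toScheme :=
    isCompact_iff_compactSpace.mp ((hWc.preimage π.continuous).isCompact)
  haveI : (π ⁻¹ᵁ W).toScheme.IsQuasiAffine := Scheme.IsQuasiAffine.of_isImmersion (π ⁻¹ᵁ W).ι
  exact isQuasiAffine_of_normOfDegree (π ∣_ W) N

end Groth.Agent.Lib.R2H4.QAFinite
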