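import Mathlib
import Groth.Prelude
import Groth.Agent.S0484
import Groth.Agent.Lib.Helper23QCohAbelian
import Groth.Agent.Lib.Helper23TensorQCoh

/-!
# Largest quasi-coherent submodule (helper4, round 2)

For `F` quasi-coherent and `G ⊆ F` any submodule, the sum of all quasi-coherent submodules of `F` contained in
`G` is quasi-coherent and is universal among maps from quasi-coherent modules to `G`.
-/

set_option autoImplicit false
universe u
open CategoryTheory CategoryTheory.Limits AlgebraicGeometry TopologicalSpace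

namespace Groth.Agent.Lib.R2H4QCohSub

theorem exists_largest (X : Scheme.{u}) (F G : X.Modules) (hF : Coh.IsQCoh F) (j : G ⟶ F) [Mono j] :
    ∃ (G' : X.Modules) (k : G' ⟶ G), Coh.IsQCoh G' ∧ Mono k ∧
      ∀ H : X.Modules, Coh.IsQCoh H → Function.Bijective (fun φ : H ⟶ G' => φ ≫ k) := by
  classical
  haveI : IsGrothendieckAbelian.{u} X.Modules :=
    Groth.Agent.S0484.result (Opens.grothendieckTopology X) X.ringCatSheaf
  haveI : WellPowered.{u} X.Modules := IsGrothendieckAbelian.wellPowered _
  haveI : F.IsQuasicoherent := hF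
  -- image of a morphism between quasi-coherent modules is quasi-coherent
  have himg : ∀ {A : X.Modules} (_ : A.IsQuasicoherent) (a : A ⟶ F),
      (Limits.image a).IsQuasicoherent := by
    intro A hA a
    haveI := hA
    haveI : (cokernel a).IsQuasicoherent :=
      Groth.Agent.Lib.Helper23.QCohLocal.isQuasicoherent_cokernel a
    haveI : (Abelian.image a).IsQuasicoherent :=
      Groth.Agent.Lib.Helper23.QCohLocal.isQuasicoherent_kernel (cokernel.π a)
    exact Groth.Agent.Lib.Helper23.TensorQCoh.isQuasicoherent_of_iso (Abelian.imageIsoImage a)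
  let P : Subobject F → Prop := fun S =>
    ((S : X.Modules)).IsQuasicoherent ∧ S ≤ Subobject.mk j
  let I : Type u := Shrink.{u} {S : Subobject F // P S}
  let e : I ≃ {S : Subobject F // P S} := (equivShrink _).symm
  let E : I → X.Modules := fun i => ((e i).1 : X.Modules)
  let σ : (∐ E) ⟶ F := Sigma.desc (fun i => (e i).1.arrow)
  have hQ : (∐ E).IsQuasicoherent :=
    Groth.Agent.Lib.Helper23.QCohLocal.isQuasicoherent_colimit (Discrete.functor E)
      (fun i => (e i.as).2.1)
  have hG' : (Limits.image σ).IsQuasicoherent := himg hQ σ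
  -- σ factors through j
  let τ : (∐ E) ⟶ G := Sigma.desc (fun i => Subobject.ofLEMk _ j (e i).2.2)
  have hτ : τ ≫ j = σ := by
    refine Sigma.hom_ext _ _ (fun i => ?_)
    simp [τ, σ]
  let MF : MonoFactorisation σ := { I := G, m := j, e := τ, fac := hτ }
  let k : Limits.image σ ⟶ G := image.lift MF
  have hk : k ≫ j = image.ι σ := image.lift_fac MF
  have hkm : Mono k := by
    haveI : Mono (k ≫ j) := by rw [hk]; infer_instance
    exact mono_of_mono k j
  have key : ∀ x : {S : Subobject F // P S}, x.1 ≤ Subobject.mk (image.ι σ) := by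
    intro x
    obtain ⟨i, rfl⟩ := e.surjective x
    refine Subobject.le_mk_of_comm (Sigma.ι E i ≫ factorThruImage σ) ?_
    simp [σ]
  refine ⟨Limits.image σ, k, hG', hkm, fun H hH => ⟨fun φ₁ φ₂ h => ?_, fun ψ => ?_⟩⟩
  · exact (cancel_mono k).1 h
  · have hS : P (Subobject.mk (image.ι (ψ ≫ j))) := by
      refine ⟨?_, ?_⟩
      · haveI := himg hH (ψ ≫ j)
        exact Groth.Agent.Lib.Helper23.TensorQCoh.isQuasicoherent_of_iso
          (Subobject.underlyingIso (image.ι (ψ ≫ j))).symm
      · let MF' : MonoFactorisation (ψ ≫ j) := { I := G, m := j, e := ψ, fac := rfl }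
        exact Subobject.mk_le_mk_of_comm (image.lift MF') (image.lift_fac MF')
    have hle := key ⟨_, hS⟩
    refine ⟨factorThruImage (ψ ≫ j) ≫ Subobject.ofMkLEMk _ _ hle, ?_⟩
    change (factorThruImage (ψ ≫ j) ≫ Subobject.ofMkLEMk _ _ hle) ≫ k = ψ
    rw [← cancel_mono j, Category.assoc, Category.assoc, hk, Subobject.ofMkLEMk_comp,
      image.fac]

end Groth.Agent.Lib.R2H4QCohSub
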