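import Mathlib
import Groth.Prelude.Def_RegImm
import Groth.Prelude.Def_Mor2
import Groth.Prelude.Def_MoreMor
import Groth.Agent.Lib.R2H4QFRefine
import Groth.Agent.Lib.Helper20EtFinPart

/-!
# fppf covers are étale-locally dominated by finite locally free covers (helper4, round 2)

`main1379` (= S1379): the quasi-finite flat slice of `R2H4SliceCM.main1349` through a point over
`s`, then helper20's `exists_etale_finite_part` (étale-local finite part of a quasi-finite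
morphism), restricted over its open image.
-/

set_option autoImplicit false
set_option linter.style.haveILetI false
universe u
open scoped TensorProduct
open CategoryTheory CategoryTheory.Limits AlgebraicGeometry TopologicalSpace

namespace Groth.Agent.Lib.R2H4.QFRefineEt


open Groth.Agent.Lib.R2H4.QFRefine

section Main

variable {S₁ S : Scheme.{u}}

set_option maxHeartbeats 1600000 in
/-- **S1379** -/
theorem main1379 (g : S₁ ⟶ S) [Flat g] [LocallyOfFinitePresentation g] [Surjective g] (s : S) :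
    ∃ (S' V : Scheme.{u}) (e : S' ⟶ S) (π : V ⟶ S'), Etale e ∧ s ∈ Set.range ⇑e ∧ Surjective π ∧
      IsFinite π ∧ Flat π ∧ LocallyOfFinitePresentation π ∧
      ∀ v : ↑V, ∃ (W : V.Opens) (r : ↑W ⟶ S₁), v ∈ W ∧ r ≫ g = W.ι ≫ π ≫ e := by
  obtain ⟨x, hxs, hxcm, hxcl⟩ := exists_cm_closed_point g s (g.surjective s)
  obtain ⟨V₀, Z, i, -, ⟨z₀, hz₀⟩, hfl, hlfp, hqf, -⟩ :=
    Groth.Agent.Lib.R2H4.SliceCM.main1349 g x hxcm hxcl
  set w : Z ⟶ S := i ≫ V₀.ι ≫ g with hw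
  haveI := hfl
  haveI := hlfp
  haveI := hqf
  have hwz : w z₀ = s := by
    rw [hw, ← Category.assoc, Scheme.Hom.comp_apply, hz₀, hxs]
  obtain ⟨U, e, u, he, heu, VV, hfin, hiff⟩ :=
    Groth.Agent.Lib.Helper20.EtSplit.exists_etale_finite_part w hwz (w.quasiFiniteAt z₀)
  haveI := he
  haveI := hfin
  set π₀ : ↑VV ⟶ U := VV.ι ≫ pullback.snd w e with hπ₀
  have hopen : IsOpen (Set.range π₀) := π₀.isOpenMap.isOpen_range
  let U' : U.Opens := ⟨Set.range π₀, hopen⟩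
  have huU' : u ∈ U' := by
    obtain ⟨p, hp1, hp2⟩ := Scheme.Pullback.exists_preimage_pullback z₀ u (hwz.trans heu.symm)
    have hpV : p ∈ VV := (hiff p hp2).mpr hp1
    refine ⟨⟨p, hpV⟩, ?_⟩
    rw [hπ₀, Scheme.Hom.comp_apply]
    exact hp2
  refine ⟨↑U', ↑(π₀ ⁻¹ᵁ U'), U'.ι ≫ e, π₀ ∣_ U', inferInstance, ?_, ?_,
    inferInstance, inferInstance, inferInstance, fun v => ?_⟩
  · have hur : u ∈ Set.range U'.ι := by
      rw [Scheme.Opens.range_ι]
      exact huU'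
    obtain ⟨y, hy⟩ := hur
    refine ⟨y, ?_⟩
    rw [Scheme.Hom.comp_apply, hy]
    exact heu
  · refine ⟨fun y => ?_⟩
    have hy : U'.ι y ∈ U' := by
      have : U'.ι y ∈ Set.range U'.ι := ⟨y, rfl⟩
      rwa [Scheme.Opens.range_ι] at this
    obtain ⟨v, hv⟩ := hy
    have hvr : v ∈ Set.range (π₀ ⁻¹ᵁ U').ι := by
      rw [Scheme.Opens.range_ι]
      exact ⟨v, rfl⟩
    obtain ⟨v', hv'⟩ := hvr
    refine ⟨v', ?_⟩
    apply U'.ι.isOpenEmbedding.injective
    rw [← Scheme.Hom.comp_apply, morphismRestrict_ι, Scheme.Hom.comp_apply, hv', hv]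
  · refine ⟨⊤, (⊤ : (↑(π₀ ⁻¹ᵁ U') : Scheme.{u}).Opens).ι ≫ (π₀ ⁻¹ᵁ U').ι ≫ VV.ι ≫
      pullback.fst w e ≫ i ≫ V₀.ι, trivial, ?_⟩
    simp only [Category.assoc]
    congr 1
    have e1 : π₀ ∣_ U' ≫ U'.ι ≫ e = (π₀ ⁻¹ᵁ U').ι ≫ VV.ι ≫ pullback.snd w e ≫ e := by
      rw [← Category.assoc, morphismRestrict_ι, Category.assoc, hπ₀, Category.assoc]
    rw [e1, ← pullback.condition]

end Main


end Groth.Agent.Lib.R2H4.QFRefineEt
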