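import Mathlib
import Groth.Agent.Lib.R2H4FEtSplit
import Groth.Agent.Lib.H9HensSub3

set_option autoImplicit false
open CategoryTheory CategoryTheory.Limits AlgebraicGeometry
universe u

namespace Groth.Agent.Lib.R2H4QfhCover

/-- Finite coproducts (any finite index type) of finite morphisms are finite. -/
theorem isFinite_sigmaDesc {ι : Type u} [Finite ι] {X : Scheme.{u}} (Z : ι → Scheme.{u})
    (g : ∀ i, Z i ⟶ X) (hg : ∀ i, IsFinite (g i)) : IsFinite (Sigma.desc g) := by
  obtain ⟨n, ⟨e⟩⟩ := Finite.exists_equiv_fin ι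
  have h1 : IsFinite (Sigma.desc (fun j : Fin n => g (e.symm j))) :=
    Groth.Agent.Lib.R2H4.FEtSplit.isFinite_sigmaDesc_fin n (fun j => Z (e.symm j))
      (fun j => g (e.symm j)) (fun j => hg _)
  have h2 : Sigma.desc g = (Sigma.reindex e.symm Z).inv ≫
      Sigma.desc (fun j : Fin n => g (e.symm j)) := by
    rw [Iso.eq_inv_comp]
    apply Sigma.hom_ext
    intro j
    simp
  rw [h2]
  exact (MorphismProperty.cancel_left_of_respectsIso @IsFinite (Sigma.reindex e.symm Z).inv _).mpr h1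

variable {X S Y : Scheme.{u}} (q : X ⟶ S) {G : Type u} [Group G] (ρ : G →* Aut X)

theorem main [Finite G] [IsFinite q]
    (htrans : ∀ (Ω : Type u) [Field Ω] [IsAlgClosed Ω] (τ₁ τ₂ : Spec (CommRingCat.of Ω) ⟶ X),
      τ₁ ≫ q = τ₂ ≫ q → ∃ g : G, τ₁ ≫ (ρ g).hom = τ₂)
    (r : Y ⟶ X) (a : Y ⟶ S) (ha : r ≫ q = a) (υ : (∐ fun _ : G => Y) ⟶ pullback a q)
    (hυ₁ : ∀ σ : G, Sigma.ι (fun _ : G => Y) σ ≫ υ ≫ pullback.fst a q = 𝟙 Y)
    (hυ₂ : ∀ σ : G, Sigma.ι (fun _ : G => Y) σ ≫ υ ≫ pullback.snd a q = r ≫ (ρ σ).hom) :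
    IsFinite υ ∧ Surjective υ := by
  subst ha
  constructor
  · have h1 : υ ≫ pullback.fst (r ≫ q) q = Sigma.desc (fun _ : G => 𝟙 Y) := by
      apply Sigma.hom_ext
      intro σ
      rw [hυ₁ σ]
      simp
    haveI : IsFinite (υ ≫ pullback.fst (r ≫ q) q) := by
      rw [h1]
      exact isFinite_sigmaDesc _ _ (fun _ => inferInstance)
    exact IsFinite.of_comp υ (pullback.fst (r ≫ q) q)
  · refine ⟨fun z => ?_⟩
    let Ω := AlgebraicClosure ((pullback (r ≫ q) q).residueField z)
    let t : Spec (CommRingCat.of Ω) ⟶ pullback (r ≫ q) q :=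
      Spec.map (CommRingCat.ofHom (algebraMap ((pullback (r ≫ q) q).residueField z) Ω)) ≫
        (pullback (r ≫ q) q).fromSpecResidueField z
    obtain ⟨g, hg⟩ := htrans Ω (t ≫ pullback.fst _ _ ≫ r) (t ≫ pullback.snd _ _) (by
      simp only [Category.assoc]
      rw [← pullback.condition])
    have ht : (t ≫ pullback.fst _ _) ≫ Sigma.ι (fun _ : G => Y) g ≫ υ = t := by
      apply pullback.hom_ext
      · simp only [Category.assoc]
        rw [hυ₁ g, Category.comp_id]
      · simp only [Category.assoc]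
        rw [hυ₂ g, ← hg]
        simp only [Category.assoc]
    obtain ⟨w⟩ : Nonempty (Spec (CommRingCat.of Ω)) := inferInstance
    have hw : t.base w = z := by
      change ((pullback (r ≫ q) q).fromSpecResidueField z).base _ = z
      exact Scheme.fromSpecResidueField_apply _ _
    refine ⟨((t ≫ pullback.fst _ _) ≫ Sigma.ι (fun _ : G => Y) g).base w, ?_⟩
    have h3 : (((t ≫ pullback.fst _ _) ≫ Sigma.ι (fun _ : G => Y) g) ≫ υ).base w = t.base w := by
      rw [Category.assoc, ht]
    exact h3.trans hw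


theorem univSubmersive_of_finite_surjective {X S : Scheme.{u}} (g : X ⟶ S) [IsFinite g]
    [Surjective g] : SGA1.UnivSubmersive g :=
  Groth.Agent.Lib.H9HensSub3.univSubmersive_of_finite_family g (ι := PUnit.{1}) (fun _ => X)
    (fun _ => 𝟙 X) (fun _ => by rw [Category.id_comp]; infer_instance)
    (fun x => ⟨PUnit.unit, x, rfl⟩)

universe w

/-- the sheaf condition hypothesis used in S13740 -/
def QfhSheaf (F : Scheme.{u}ᵒᵖ ⥤ Type w) : Prop :=
  ∀ ⦃T : Scheme.{u}⦄ (E : PreZeroHypercover.{u} T), Finite E.I₀ →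
    (∀ i, LocallyOfFiniteType (E.f i)) → (∀ i, QuasiCompact (E.f i)) →
    (∀ i, LocallyQuasiFinite (E.f i)) → SGA1.UnivSubmersive (Sigma.desc E.f) →
    Presieve.IsSheafFor F E.presieve₀

theorem isSheafFor_of_finite_surjective {F : Scheme.{u}ᵒᵖ ⥤ Type w} (hF : QfhSheaf F)
    {T : Scheme.{u}} (E : PreZeroHypercover.{u} T) [Finite E.I₀] (hfin : ∀ i, IsFinite (E.f i))
    (hsurj : Surjective (Sigma.desc E.f)) : Presieve.IsSheafFor F E.presieve₀ := by
  haveI : IsFinite (Sigma.desc E.f) := isFinite_sigmaDesc _ _ hfin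
  exact hF E inferInstance (fun i => inferInstance) (fun i => inferInstance)
    (fun i => inferInstance) (univSubmersive_of_finite_surjective _)

theorem sections_eq_invariants [Finite G] [IsFinite q] [Surjective q]
    (hρ : ∀ g : G, (ρ g).hom ≫ q = q)
    (htrans : ∀ (Ω : Type u) [Field Ω] [IsAlgClosed Ω] (τ₁ τ₂ : Spec (CommRingCat.of Ω) ⟶ X),
      τ₁ ≫ q = τ₂ ≫ q → ∃ g : G, τ₁ ≫ (ρ g).hom = τ₂)
    (F : Scheme.{u}ᵒᵖ ⥤ Type w) (hF : QfhSheaf F) :
    Function.Injective (F.map q.op) ∧ Set.range (F.map q.op) =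
      {f : F.obj (Opposite.op X) | ∀ g : G, F.map (ρ g).hom.op f = f} := by
  -- the one-element cover `q`
  let E₁ : PreZeroHypercover.{u} S := { I₀ := PUnit, X := fun _ => X, f := fun _ => q }
  have hE₁ : Presieve.IsSheafFor F E₁.presieve₀ := by
    haveI : Finite E₁.I₀ := inferInstanceAs (Finite PUnit)
    refine isSheafFor_of_finite_surjective hF E₁ (fun _ => inferInstanceAs (IsFinite q)) ?_
    refine ⟨fun s => ?_⟩
    obtain ⟨x, rfl⟩ := (inferInstance : Surjective q).surj s
    refine ⟨(Sigma.ι E₁.X PUnit.unit).base x, ?_⟩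
    rw [← Scheme.Hom.comp_apply, Sigma.ι_desc]
  -- the cover of `X ×_S X` by the graphs of the `ρ σ`
  let E₂ : PreZeroHypercover.{u} (pullback q q) :=
    { I₀ := G, X := fun _ => X,
      f := fun σ => pullback.lift (𝟙 X) (ρ σ).hom (by rw [Category.id_comp, hρ σ]) }
  have hE₂ : Presieve.IsSheafFor F E₂.presieve₀ := by
    haveI : Finite E₂.I₀ := inferInstanceAs (Finite G)
    have hm := main q ρ htrans (𝟙 X) q (Category.id_comp q) (Sigma.desc E₂.f)
      (fun σ => by rw [Sigma.ι_desc_assoc]; exact pullback.lift_fst _ _ _)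
      (fun σ => by rw [Sigma.ι_desc_assoc, Category.id_comp]; exact pullback.lift_snd _ _ _)
    refine isSheafFor_of_finite_surjective hF E₂ (fun σ => ?_) hm.2
    haveI : IsFinite (E₂.f σ ≫ pullback.fst q q) := by
      have : E₂.f σ ≫ pullback.fst q q = 𝟙 X := pullback.lift_fst _ _ _
      rw [this]; infer_instance
    exact IsFinite.of_comp (E₂.f σ) (pullback.fst q q)
  constructor
  · intro s t hst
    refine hE₁.isSeparatedFor.ext fun Z f hf => ?_
    obtain ⟨i⟩ := hf
    exact hst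
  · ext x
    constructor
    · rintro ⟨s, rfl⟩ g
      change F.map (ρ g).hom.op (F.map q.op s) = F.map q.op s
      rw [← FunctorToTypes.map_comp_apply, ← op_comp, hρ g]
    · intro hx
      have hx' : ∀ g : G, F.map (ρ g).hom.op x = x := hx
      have hkey : F.map (pullback.fst q q).op x = F.map (pullback.snd q q).op x := by
        refine hE₂.isSeparatedFor.ext fun Z f hf => ?_
        obtain ⟨σ⟩ := hf
        rw [← FunctorToTypes.map_comp_apply, ← FunctorToTypes.map_comp_apply, ← op_comp,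
          ← op_comp]
        have h1 : E₂.f σ ≫ pullback.fst q q = 𝟙 X := pullback.lift_fst _ _ _
        have h2 : E₂.f σ ≫ pullback.snd q q = (ρ σ).hom := pullback.lift_snd _ _ _
        rw [h1, h2, hx' σ, op_id, FunctorToTypes.map_id_apply]
      have hcompat : Presieve.Arrows.Compatible F E₁.f (fun _ => x) := by
        intro i j Z gi gj hg
        change gi ≫ q = gj ≫ q at hg
        change F.map gi.op x = F.map gj.op x
        have e1 : pullback.lift gi gj hg ≫ pullback.fst q q = gi := pullback.lift_fst _ _ _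
        have e2 : pullback.lift gi gj hg ≫ pullback.snd q q = gj := pullback.lift_snd _ _ _
        have h3 := congrArg (F.map (pullback.lift gi gj hg).op) hkey
        rw [← FunctorToTypes.map_comp_apply, ← FunctorToTypes.map_comp_apply, ← op_comp,
          ← op_comp, e1, e2] at h3
        exact h3
      obtain ⟨t, ht, -⟩ := (Presieve.isSheafFor_arrows_iff F E₁.f).mp hE₁ (fun _ => x) hcompat
      exact ⟨t, ht PUnit.unit⟩

end Groth.Agent.Lib.R2H4QfhCover
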