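import Mathlib
import Groth.Agent.Lib.R2H4InertiaUnram
import Groth.Agent.Lib.Helper20QuotRestrict
import Groth.Agent.S2909

set_option autoImplicit false
open CategoryTheory CategoryTheory.Limits AlgebraicGeometry
universe u

namespace Groth.Agent.Lib.R2H4QuotEtale

open SGA1 Groth.Agent.Lib.Helper20 Groth.Agent.Lib.R2H4InertiaUnram

theorem etale_stableSource :
    RingHom.StableUnderCompositionWithLocalizationAwaySource RingHom.Etale := by
  introv _ _ hf
  exact RingHom.Etale.stableUnderComposition _ _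
    (RingHom.etale_algebraMap.mpr (Algebra.Etale.of_isLocalizationAway r)) hf

variable {X X' Y : Scheme.{u}} {G : Type u} [Group G] [Finite G] {ρ : G →* Aut X}

/-- the affine-local statement: on affine pieces, both `p` and `q` are étale. -/
theorem etale_appLE [IsLocallyNoetherian Y] (f : X ⟶ Y) [Etale f] (p : X ⟶ X')
    (hp : IsQuot ρ p) (q : X' ⟶ Y) (hq : p ≫ q = f)
    (V : Y.Opens) (hV : IsAffineOpen V) (W : X'.Opens) (hW : IsAffineOpen W) (e : W ≤ q ⁻¹ᵁ V) :
    (p.app W).hom.Etale ∧ (q.appLE V W e).hom.Etale := by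
  subst hq
  haveI := hp.affine
  have hT : IsAffineOpen (p ⁻¹ᵁ W) := hW.preimage p
  haveI : IsNoetherianRing Γ(Y, V) := IsLocallyNoetherian.component_noetherian ⟨V, hV⟩
  have hcomp : q.appLE V W e ≫ p.app W = (p ≫ q).appLE V (p ⁻¹ᵁ W) (p.preimage_mono e) := by
    rw [Scheme.Hom.app_eq_appLE, Scheme.Hom.appLE_comp_appLE]
  have h1 : ((p.app W).hom.comp (q.appLE V W e).hom).Etale := by
    have h := HasRingHomProperty.appLE (P := @Etale) (f := p ≫ q) inferInstance ⟨V, hV⟩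
      ⟨p ⁻¹ᵁ W, hT⟩ (p.preimage_mono e)
    rw [← hcomp] at h
    exact h
  letI := sectionAction ρ p hp.inv W
  exact ringHom_etale_of_isInvariant (q.appLE V W e).hom (p.app W).hom G (smulCommClass hp W)
    (isInvariant hp W) (hp.injective W) h1

theorem main [IsLocallyNoetherian Y] (f : X ⟶ Y) [Etale f] (hρ : ∀ g : G, (ρ g).hom ≫ f = f)
    (p : X ⟶ X') (hp : SGA1.IsQuot ρ p) (q : X' ⟶ Y) (hq : p ≫ q = f) :
    Etale p ∧ Etale q ∧ (IsFinite f → IsFinite q) := by
  haveI := hp.affine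
  have hkey := fun V hV W hW e => etale_appLE f p hp q hq V hV W hW e
  have hloc : ∀ x' : X', ∃ (V : Y.Opens) (W : X'.Opens), IsAffineOpen V ∧ IsAffineOpen W ∧
      x' ∈ W ∧ W ≤ q ⁻¹ᵁ V := by
    intro x'
    obtain ⟨V, hV, hxV, -⟩ := TopologicalSpace.Opens.isBasis_iff_nbhd.mp Y.isBasis_affineOpens
      (TopologicalSpace.Opens.mem_top (q.base x'))
    obtain ⟨W, hW, hxW, e⟩ := TopologicalSpace.Opens.isBasis_iff_nbhd.mp X'.isBasis_affineOpens
      (show x' ∈ q ⁻¹ᵁ V from hxV)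
    exact ⟨V, W, hV, hW, hxW, e⟩
  have hpE : Etale p := by
    rw [HasRingHomProperty.iff_exists_appLE (P := @Etale) etale_stableSource]
    intro x
    obtain ⟨V, W, hV, hW, hxW, e⟩ := hloc (p.base x)
    refine ⟨⟨W, hW⟩, ⟨p ⁻¹ᵁ W, hW.preimage p⟩, hxW, le_rfl, ?_⟩
    have := (hkey V hV W hW e).1
    rwa [Scheme.Hom.app_eq_appLE] at this
  have hqE : Etale q := by
    rw [HasRingHomProperty.iff_exists_appLE (P := @Etale) etale_stableSource]
    intro x'
    obtain ⟨V, W, hV, hW, hxW, e⟩ := hloc x'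
    exact ⟨⟨V, hV⟩, ⟨W, hW⟩, hxW, e, (hkey V hV W hW e).2⟩
  refine ⟨hpE, hqE, fun hfin => ?_⟩
  obtain ⟨haff, -, -, -⟩ := Groth.Agent.S2909.result ρ p hp f q hq hρ
  haveI : IsAffineHom q := haff.mp inferInstance
  rw [IsFinite.iff_isIntegralHom_and_locallyOfFiniteType]
  refine ⟨⟨fun U hU => ?_⟩, inferInstance⟩
  subst hq
  have h1 : ((p ≫ q).app U).hom.IsIntegral :=
    RingHom.Finite.to_isIntegral (IsFinite.finite_app (p ≫ q) U hU)
  rw [Scheme.Hom.comp_app] at h1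
  exact RingHom.IsIntegral.tower_bot _ _ (hp.injective (q ⁻¹ᵁ U)) h1

end Groth.Agent.Lib.R2H4QuotEtale
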