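import Mathlib
import Groth.Agent.Lib.Helper20Quot

set_option autoImplicit false
universe u
open CategoryTheory CategoryTheory.Limits AlgebraicGeometry TopologicalSpace

namespace Groth.Agent.Lib.R2H4SigmaIso

open Groth.Agent.Lib.Helper20

variable {Z : Scheme.{u}} {G : Type u} [Finite G] (Xg : G → Scheme.{u}) (f : ∀ g, Xg g ⟶ Z)

theorem sigma_jointly_surjective (x : (∐ Xg : Scheme.{u})) :
    ∃ (g : G) (y : Xg g), (Sigma.ι Xg g).base y = x := by
  obtain ⟨g, y, hy⟩ := (sigmaOpenCover Xg).exists_eq x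
  exact ⟨g, y, hy⟩

theorem sigmaDesc_apply (g : G) (y : Xg g) :
    (Sigma.desc f).base ((Sigma.ι Xg g).base y) = (f g).base y := by
  rw [← Scheme.Hom.comp_apply, Sigma.ι_desc]

theorem preimage_sigmaDesc (W : Z.Opens) :
    Sigma.desc f ⁻¹ᵁ W = ⨆ g, (Sigma.ι Xg g) ''ᵁ (f g ⁻¹ᵁ W) := by
  apply le_antisymm
  · intro x hx
    obtain ⟨g, y, rfl⟩ := sigma_jointly_surjective Xg x
    refine Opens.mem_iSup.mpr ⟨g, y, ?_, rfl⟩
    change (Sigma.desc f).base ((Sigma.ι Xg g).base y) ∈ W at hx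
    rwa [sigmaDesc_apply] at hx
  · refine iSup_le fun g => ?_
    rintro _ ⟨y, hy, rfl⟩
    change (Sigma.desc f).base ((Sigma.ι Xg g).base y) ∈ W
    rw [sigmaDesc_apply]
    exact hy

theorem isAffineOpen_preimage_sigmaDesc (W : Z.Opens) (haff : ∀ g, IsAffineOpen (f g ⁻¹ᵁ W)) :
    IsAffineOpen (Sigma.desc f ⁻¹ᵁ W) := by
  rw [preimage_sigmaDesc]
  refine IsAffineOpen.iSup_of_disjoint (fun g => (haff g).image_of_isOpenImmersion _) ?_
  intro g h hgh
  exact (disjoint_opensRange_sigmaι Xg g h hgh).mono (Scheme.Hom.image_le_opensRange _ _)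
    (Scheme.Hom.image_le_opensRange _ _)

theorem le_preimage_ι (W : Z.Opens) (g : G) :
    f g ⁻¹ᵁ W ≤ Sigma.ι Xg g ⁻¹ᵁ (Sigma.desc f ⁻¹ᵁ W) := by
  rw [← Scheme.Hom.comp_preimage, Sigma.ι_desc]

theorem ι_appLE_app (W : Z.Opens) (g : G) :
    (Sigma.desc f).app W ≫ (Sigma.ι Xg g).appLE (Sigma.desc f ⁻¹ᵁ W) (f g ⁻¹ᵁ W)
      (le_preimage_ι Xg f W g) = (f g).app W := by
  rw [Scheme.Hom.app_eq_appLE, Scheme.Hom.appLE_comp_appLE, Scheme.Hom.app_eq_appLE]
  exact appLE_congr_hom (Sigma.ι_desc f g) _ _ _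

theorem bijective_app_sigmaDesc (W : Z.Opens)
    (hbij : Function.Bijective (fun (t : Γ(Z, W)) (g : G) => ((f g).app W).hom t)) :
    Function.Bijective ((Sigma.desc f).app W).hom := by
  have hι : ∀ (g : G) (t : Γ(Z, W)),
      ((Sigma.ι Xg g).appLE (Sigma.desc f ⁻¹ᵁ W) (f g ⁻¹ᵁ W) (le_preimage_ι Xg f W g)).hom
        (((Sigma.desc f).app W).hom t) = ((f g).app W).hom t := fun g t =>
    congrArg (fun m => m.hom t) (ι_appLE_app Xg f W g)
  constructor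
  · intro t t' htt'
    apply hbij.1
    funext g
    change ((f g).app W).hom t = ((f g).app W).hom t'
    rw [← hι g t, ← hι g t', htt']
  · intro s
    obtain ⟨t, ht⟩ := hbij.2 fun g =>
      ((Sigma.ι Xg g).appLE (Sigma.desc f ⁻¹ᵁ W) (f g ⁻¹ᵁ W) (le_preimage_ι Xg f W g)).hom s
    refine ⟨t, ?_⟩
    have hle : ∀ g, (Sigma.ι Xg g) ''ᵁ (f g ⁻¹ᵁ W) ≤ Sigma.desc f ⁻¹ᵁ W := fun g => by
      rw [preimage_sigmaDesc]
      exact le_iSup (fun g => (Sigma.ι Xg g) ''ᵁ (f g ⁻¹ᵁ W)) g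
    fapply (∐ Xg : Scheme.{u}).sheaf.eq_of_locally_eq'
      (fun g : G => (Sigma.ι Xg g) ''ᵁ (f g ⁻¹ᵁ W)) (Sigma.desc f ⁻¹ᵁ W)
      (fun g => homOfLE (hle g)) (by rw [preimage_sigmaDesc])
    intro g
    change ((∐ Xg : Scheme.{u}).presheaf.map (homOfLE (hle g)).op).hom _ =
      ((∐ Xg : Scheme.{u}).presheaf.map (homOfLE (hle g)).op).hom s
    have hinj : Function.Injective ((Sigma.ι Xg g).appLE ((Sigma.ι Xg g) ''ᵁ (f g ⁻¹ᵁ W))
        (f g ⁻¹ᵁ W) ((Sigma.ι Xg g).preimage_image_eq _).ge).hom := by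
      rw [← Scheme.Hom.appIso_hom']
      exact (ConcreteCategory.bijective_of_isIso ((Sigma.ι Xg g).appIso _).hom).injective
    apply hinj
    have hcomp : (∐ Xg : Scheme.{u}).presheaf.map (homOfLE (hle g)).op ≫
        (Sigma.ι Xg g).appLE ((Sigma.ι Xg g) ''ᵁ (f g ⁻¹ᵁ W)) (f g ⁻¹ᵁ W)
          ((Sigma.ι Xg g).preimage_image_eq _).ge =
        (Sigma.ι Xg g).appLE (Sigma.desc f ⁻¹ᵁ W) (f g ⁻¹ᵁ W) (le_preimage_ι Xg f W g) :=
      Scheme.Hom.map_appLE _ _ _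
    have e1 := congrArg (fun m => m.hom (((Sigma.desc f).app W).hom t)) hcomp
    have e2 := congrArg (fun m => m.hom s) hcomp
    simp only [CommRingCat.hom_comp, RingHom.comp_apply] at e1 e2
    rw [e1, e2, hι g t]
    exact congrFun ht g

theorem isIso_app_of_eq {X Y : Scheme.{u}} (φ : X ⟶ Y) {W W' : Y.Opens} (e : W' = W)
    (h : Function.Bijective (φ.app W).hom) : IsIso (φ.app W') := by
  subst e
  exact (ConcreteCategory.isIso_iff_bijective _).mpr h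

/-- `∐_g X_g → Z` is an isomorphism if over a cover of `Z` by affine opens `W` the preimages in
each `X_g` are affine and `Γ(Z, W) → ∏_g Γ(X_g, f_g⁻¹ W)` is bijective. -/
theorem isIso_sigmaDesc {ι : Type*} (W : ι → Z.Opens) (hW : ∀ i, IsAffineOpen (W i))
    (hcov : ⨆ i, W i = ⊤) (haff : ∀ i g, IsAffineOpen (f g ⁻¹ᵁ W i))
    (hbij : ∀ i, Function.Bijective (fun (t : Γ(Z, W i)) (g : G) => ((f g).app (W i)).hom t)) :
    IsIso (Sigma.desc f) := by
  rw [← MorphismProperty.isomorphisms.iff]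
  refine (HasAffineProperty.iff_of_iSup_eq_top (P := MorphismProperty.isomorphisms Scheme.{u})
    (fun i => (⟨W i, hW i⟩ : Z.affineOpens)) hcov).mpr fun i => ⟨?_, ?_⟩
  · exact isAffineOpen_preimage_sigmaDesc Xg f (W i) (haff i)
  · rw [morphismRestrict_appTop]
    have h1 : IsIso ((Sigma.desc f).app ((W i).ι ''ᵁ ⊤)) :=
      isIso_app_of_eq (Sigma.desc f) (Scheme.Opens.ι_image_top (W i))
        (bijective_app_sigmaDesc Xg f (W i) (hbij i))
    exact IsIso.comp_isIso' h1 (Functor.map_isIso _ _)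

/-- variant of `isIso_sigmaDesc` with the preimages given up to equality -/
theorem isIso_sigmaDesc' {ι : Type*} (W : ι → Z.Opens) (hW : ∀ i, IsAffineOpen (W i))
    (hcov : ⨆ i, W i = ⊤) (U : ∀ (_ : ι) (g : G), (Xg g).Opens)
    (hU : ∀ i g, U i g = f g ⁻¹ᵁ W i) (haff : ∀ i g, IsAffineOpen (U i g))
    (hbij : ∀ i, Function.Bijective
      (fun (t : Γ(Z, W i)) (g : G) => ((f g).appLE (W i) (U i g) (hU i g).le).hom t)) :
    IsIso (Sigma.desc f) := by
  obtain rfl : U = fun i g => f g ⁻¹ᵁ W i := by funext i g; exact hU i g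
  refine isIso_sigmaDesc Xg f W hW hcov haff fun i => ?_
  have := hbij i
  simp only [Scheme.Hom.appLE_eq_app] at this
  exact this

end Groth.Agent.Lib.R2H4SigmaIso
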