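import Mathlib
import Groth.Agent.Lib.R2H4GaloisCore
import Groth.Agent.Lib.R2H4SigmaIso
import Groth.Agent.Lib.Helper20QuotTop
import Groth.Agent.Lib.H6xQuotBaseChange

set_option autoImplicit false
universe u
open CategoryTheory CategoryTheory.Limits AlgebraicGeometry TopologicalSpace

namespace Groth.Agent.Lib.R2H4QuotFree

open SGA1 Groth.Agent.Lib.Helper20 Groth.Agent.Lib.R2H4GaloisCore Groth.Agent.Lib.R2H4SigmaIso

variable {X Y : Scheme.{u}} {G : Type u} [Group G] [Finite G] {ρ : G →* Aut X} {p : X ⟶ Y}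

/-- the action is free on geometric points -/
def GeomFree (ρ : G →* Aut X) : Prop :=
  ∀ (K : Type u) [Field K] [IsAlgClosed K] (ξ : Spec (CommRingCat.of K) ⟶ X) (g : G),
    ξ ≫ (ρ g).hom = ξ → g = 1

theorem freeAct (hp : IsQuot ρ p) (hfree : GeomFree ρ) (V : Y.Opens) (hV : IsAffineOpen V) :
    letI := sectionAction ρ p hp.inv V
    FreeAct Γ(X, p ⁻¹ᵁ V) G := by
  letI := sectionAction ρ p hp.inv V
  intro g hg
  by_contra hne
  obtain ⟨m, hm, hle⟩ := Ideal.exists_le_maximal _ hne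
  have := hp.affine
  have hU : IsAffineOpen (p ⁻¹ᵁ V) := hV.preimage p
  letI : Field (Γ(X, p ⁻¹ᵁ V) ⧸ m) := Ideal.Quotient.field m
  let K := AlgebraicClosure (Γ(X, p ⁻¹ᵁ V) ⧸ m)
  let χ : Γ(X, p ⁻¹ᵁ V) →+* K :=
    (algebraMap (Γ(X, p ⁻¹ᵁ V) ⧸ m) K).comp (Ideal.Quotient.mk m)
  have hχ : ∀ a : Γ(X, p ⁻¹ᵁ V), χ (g • a) = χ a := by
    intro a
    have h1 : g • a - a ∈ m := hle (Ideal.subset_span ⟨a, rfl⟩)
    have h2 : Ideal.Quotient.mk m (g • a) = Ideal.Quotient.mk m a := by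
      rw [← sub_eq_zero, ← map_sub]
      exact Ideal.Quotient.eq_zero_iff_mem.mpr h1
    change algebraMap _ K (Ideal.Quotient.mk m (g • a)) = algebraMap _ K (Ideal.Quotient.mk m a)
    rw [h2]
  let ξ : Spec (CommRingCat.of K) ⟶ X := Spec.map (CommRingCat.ofHom χ) ≫ hU.fromSpec
  have hξ : ξ ≫ (ρ g⁻¹).hom = ξ := by
    change (Spec.map (CommRingCat.ofHom χ) ≫ hU.fromSpec) ≫ (ρ g⁻¹).hom = _
    rw [Category.assoc, ← hU.SpecMap_appLE_fromSpec (ρ g⁻¹).hom hU
      (preimage_le_of_inv ρ p hp.inv g⁻¹ V), ← Category.assoc, ← Spec.map_comp]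
    congr 2
    ext a
    exact hχ a
  have := hfree K ξ g⁻¹ hξ
  exact hg (inv_eq_one.mp this)

theorem exists_coord (hp : IsQuot ρ p) (hfree : GeomFree ρ) (V : Y.Opens) (hV : IsAffineOpen V) :
    letI := sectionAction ρ p hp.inv V
    ∃ (n : ℕ) (x y : Fin n → Γ(X, p ⁻¹ᵁ V)), IsGaloisCoord (G := G) x y := by
  letI := (p.app V).hom.toAlgebra
  letI := sectionAction ρ p hp.inv V
  haveI := smulCommClass hp V
  exact exists_isGaloisCoord Γ(Y, V) (freeAct hp hfree V hV)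

theorem projective_app (hp : IsQuot ρ p) (hfree : GeomFree ρ) (V : Y.Opens) (hV : IsAffineOpen V) :
    letI := (p.app V).hom.toAlgebra
    Module.Projective Γ(Y, V) Γ(X, p ⁻¹ᵁ V) ∧ Module.Finite Γ(Y, V) Γ(X, p ⁻¹ᵁ V) := by
  classical
  letI := (p.app V).hom.toAlgebra
  letI := sectionAction ρ p hp.inv V
  haveI := smulCommClass hp V
  haveI := isInvariant hp V
  letI := Fintype.ofFinite G
  obtain ⟨n, x, y, hxy⟩ := exists_coord hp hfree V hV
  exact projective_of_isGaloisCoord (hp.injective V) hxy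

theorem flat_of_geomFree (hp : IsQuot ρ p) (hfree : GeomFree ρ) : Flat p := by
  rw [HasRingHomProperty.iff_appLE (P := @Flat)]
  intro V U e
  have h1 : (p.app V.1).hom.Flat := by
    letI := (p.app V.1).hom.toAlgebra
    have := (projective_app hp hfree V.1 V.2).1
    change Module.Flat Γ(Y, V.1) Γ(X, p ⁻¹ᵁ V.1)
    infer_instance
  have := hp.affine
  have h2 : ((𝟙 X : X ⟶ X).appLE (p ⁻¹ᵁ V.1) U.1 e).hom.Flat :=
    HasRingHomProperty.appLE (P := @Flat) (f := 𝟙 X) inferInstance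
      ⟨p ⁻¹ᵁ V.1, V.2.preimage p⟩ U e
  have h3 : p.appLE V.1 U.1 e = p.app V.1 ≫ (𝟙 X : X ⟶ X).appLE (p ⁻¹ᵁ V.1) U.1 e := by
    rw [Scheme.Hom.app_eq_appLE, Scheme.Hom.appLE_comp_appLE]
    rfl
  rw [h3, CommRingCat.hom_comp]
  exact h1.comp h2

section graphs

variable (hp : IsQuot ρ p)

/-- the graph of `g` -/
noncomputable def graph (g : G) : X ⟶ pullback p p :=
  pullback.lift (𝟙 X) (ρ g).hom ((Category.id_comp p).trans (hp.inv g).symm)

/-- the affine opens of `X ×_Y X` over affine opens of `Y` -/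
noncomputable def WW (p : X ⟶ Y) (V : Y.Opens) : (pullback p p).Opens :=
  pullback.fst p p ⁻¹ᵁ (p ⁻¹ᵁ V) ⊓ pullback.snd p p ⁻¹ᵁ (p ⁻¹ᵁ V)

theorem WW_eq (V : Y.Opens) : WW p V = (pullback.fst p p ≫ p) ⁻¹ᵁ V := by
  have h2 : pullback.snd p p ⁻¹ᵁ (p ⁻¹ᵁ V) = pullback.fst p p ⁻¹ᵁ (p ⁻¹ᵁ V) := by
    rw [← Scheme.Hom.comp_preimage, ← Scheme.Hom.comp_preimage, pullback.condition]
  rw [WW, h2, inf_idem, ← Scheme.Hom.comp_preimage]

include hp in
theorem isAffineOpen_WW (V : Y.Opens) (hV : IsAffineOpen V) : IsAffineOpen (WW p V) := by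
  have := hp.affine
  have : IsAffineHom (pullback.fst p p) := MorphismProperty.pullback_fst _ _ ‹_›
  rw [WW_eq]
  exact hV.preimage _

theorem iSup_WW : ⨆ V : Y.affineOpens, WW p V.1 = ⊤ := by
  simp_rw [WW_eq]
  rw [← Scheme.Hom.preimage_iSup, iSup_affineOpens_eq_top, Scheme.Hom.preimage_top]

theorem graph_preimage (g : G) (V : Y.Opens) : p ⁻¹ᵁ V = graph hp g ⁻¹ᵁ WW p V := by
  rw [WW_eq, ← Scheme.Hom.comp_preimage, graph, pullback.lift_fst_assoc, Category.id_comp]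

include hp in
theorem isPushout_WW (V : Y.Opens) (hV : IsAffineOpen V) :
    IsPushout (p.appLE V (p ⁻¹ᵁ V) le_rfl) (p.appLE V (p ⁻¹ᵁ V) le_rfl)
      ((pullback.fst p p).appLE (p ⁻¹ᵁ V) (WW p V) inf_le_left)
      ((pullback.snd p p).appLE (p ⁻¹ᵁ V) (WW p V) inf_le_right) := by
  have := hp.affine
  have hU : IsAffineOpen (p ⁻¹ᵁ V) := hV.preimage p
  have H : IsPullback (pullback.fst p p) (pullback.snd p p) p p := IsPullback.of_hasPullback p p
  have := isIso_pushoutSection_of_isAffineOpen H (US := V) (UT := p ⁻¹ᵁ V) (UX := p ⁻¹ᵁ V)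
    le_rfl le_rfl (UY := WW p V) rfl hV hU hU
  exact (isIso_pushoutSection_iff H le_rfl le_rfl rfl).mp this

theorem graph_appLE_congr {g g' : G} (e : g = g') (V : Y.Opens) :
    (graph hp g).appLE (WW p V) (p ⁻¹ᵁ V) (graph_preimage hp g V).le =
      (graph hp g').appLE (WW p V) (p ⁻¹ᵁ V) (graph_preimage hp g' V).le := by
  subst e; rfl

theorem fst_graph_appLE (g : G) (V : Y.Opens) :
    (pullback.fst p p).appLE (p ⁻¹ᵁ V) (WW p V) inf_le_left ≫
      (graph hp g).appLE (WW p V) (p ⁻¹ᵁ V) (graph_preimage hp g V).le = 𝟙 _ := by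
  rw [Scheme.Hom.appLE_comp_appLE]
  have h1 : graph hp g ≫ pullback.fst p p = 𝟙 X := pullback.lift_fst _ _ _
  rw [appLE_congr_hom h1, id_appLE]

theorem snd_graph_appLE (g : G) (V : Y.Opens) :
    (pullback.snd p p).appLE (p ⁻¹ᵁ V) (WW p V) inf_le_right ≫
      (graph hp g).appLE (WW p V) (p ⁻¹ᵁ V) (graph_preimage hp g V).le =
      (ρ g).hom.appLE (p ⁻¹ᵁ V) (p ⁻¹ᵁ V) (preimage_le_of_inv ρ p hp.inv g V) := by
  rw [Scheme.Hom.appLE_comp_appLE]
  have h1 : graph hp g ≫ pullback.snd p p = (ρ g).hom := pullback.lift_snd _ _ _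
  rw [appLE_congr_hom h1]

theorem bijective_graphs (hfree : GeomFree ρ) (V : Y.Opens) (hV : IsAffineOpen V) :
    Function.Bijective (fun (t : Γ(pullback p p, WW p V)) (g : G) =>
      ((graph hp g).appLE (WW p V) (p ⁻¹ᵁ V) (graph_preimage hp g V).le).hom t) := by
  classical
  letI := (p.app V).hom.toAlgebra
  letI := sectionAction ρ p hp.inv V
  haveI := smulCommClass hp V
  haveI := isInvariant hp V
  letI := Fintype.ofFinite G
  obtain ⟨n, x, y, hxy⟩ := exists_coord hp hfree V hV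
  have HP := isPushout_WW hp V hV
  have hw := HP.w
  rw [← Scheme.Hom.app_eq_appLE] at hw
  have key := bijective_pushout (B := Γ(Y, V)) hxy
    ((pullback.fst p p).appLE (p ⁻¹ᵁ V) (WW p V) inf_le_left).hom
    ((pullback.snd p p).appLE (p ⁻¹ᵁ V) (WW p V) inf_le_right).hom
    (fun b => congrArg (fun m => m.hom b) hw)
    (fun t => Groth.Agent.Lib.H6xQuotBaseChange.exists_sum_of_isPushout HP t)
    (fun g => ((graph hp g⁻¹).appLE (WW p V) (p ⁻¹ᵁ V) (graph_preimage hp g⁻¹ V).le).hom)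
    (fun g a => congrArg (fun m => m.hom a) (fst_graph_appLE hp g⁻¹ V))
    (fun g a => congrArg (fun m => m.hom a) (snd_graph_appLE hp g⁻¹ V))
  have hinvol : Function.Bijective (fun (c : G → Γ(X, p ⁻¹ᵁ V)) (g : G) => c g⁻¹) :=
    Function.Involutive.bijective fun c => by funext g; simp
  have := hinvol.comp key
  convert this using 1
  funext t g
  change _ = ((graph hp g⁻¹⁻¹).appLE (WW p V) (p ⁻¹ᵁ V) _).hom t
  rw [graph_appLE_congr hp (inv_inv g) V]

/-- the graphs of the group elements decompose `X ×_Y X` -/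
theorem isIso_graphs (hfree : GeomFree ρ) :
    IsIso (Sigma.desc (fun g : G => graph hp g) : (∐ fun _ : G => X) ⟶ pullback p p) := by
  have := hp.affine
  refine isIso_sigmaDesc' (fun _ : G => X) (fun g => graph hp g) (fun V : Y.affineOpens => WW p V.1)
    (fun V => isAffineOpen_WW hp V.1 V.2) iSup_WW (fun V _ => p ⁻¹ᵁ V.1)
    (fun V g => graph_preimage hp g V.1) (fun V _ => V.2.preimage p)
    (fun V => bijective_graphs hp hfree V.1 V.2)

end graphs

section sect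

variable (hp : IsQuot ρ p) (s : Y ⟶ X) (hs : s ≫ p = 𝟙 Y)

include hp hs in
theorem section_preimage (g : G) (V : Y.Opens) : V = (s ≫ (ρ g).hom) ⁻¹ᵁ (p ⁻¹ᵁ V) := by
  rw [← Scheme.Hom.comp_preimage, Category.assoc, hp.inv, hs, Scheme.Hom.id_preimage]

include hs in
theorem le_section_preimage (V : Y.Opens) : V ≤ s ⁻¹ᵁ (p ⁻¹ᵁ V) := by
  rw [← Scheme.Hom.comp_preimage, hs, Scheme.Hom.id_preimage]

include hp hs in
theorem bijective_section' (hfree : GeomFree ρ) (V : Y.Opens) (hV : IsAffineOpen V) :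
    Function.Bijective (fun (a : Γ(X, p ⁻¹ᵁ V)) (g : G) =>
      ((s ≫ (ρ g).hom).appLE (p ⁻¹ᵁ V) V (section_preimage hp s hs g V).le).hom a) := by
  classical
  letI := (p.app V).hom.toAlgebra
  letI := sectionAction ρ p hp.inv V
  haveI := smulCommClass hp V
  haveI := isInvariant hp V
  letI := Fintype.ofFinite G
  obtain ⟨n, x, y, hxy⟩ := exists_coord hp hfree V hV
  have hsec : p.app V ≫ s.appLE (p ⁻¹ᵁ V) V (le_section_preimage s hs V) = 𝟙 _ := by
    rw [Scheme.Hom.app_eq_appLE, Scheme.Hom.appLE_comp_appLE, appLE_congr_hom hs, id_appLE]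
  have key := bijective_section (B := Γ(Y, V)) hxy
    (s.appLE (p ⁻¹ᵁ V) V (le_section_preimage s hs V)).hom
    (fun b => congrArg (fun m => m.hom b) hsec)
  have hinvol : Function.Bijective (fun (c : G → Γ(Y, V)) (g : G) => c g⁻¹) :=
    Function.Involutive.bijective fun c => by funext g; simp
  have := hinvol.comp key
  convert this using 1
  funext a g
  have h1 : (s ≫ (ρ g).hom).appLE (p ⁻¹ᵁ V) V (section_preimage hp s hs g V).le =
      (ρ g).hom.appLE (p ⁻¹ᵁ V) (p ⁻¹ᵁ V) (preimage_le_of_inv ρ p hp.inv g V) ≫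
        s.appLE (p ⁻¹ᵁ V) V (le_section_preimage s hs V) := by
    rw [Scheme.Hom.appLE_comp_appLE]
  rw [h1]
  change _ = (s.appLE (p ⁻¹ᵁ V) V (le_section_preimage s hs V)).hom
    (actHom ρ p hp.inv g⁻¹⁻¹ V a)
  rw [inv_inv]
  rfl

include hp hs in
theorem isIso_section (hfree : GeomFree ρ) :
    IsIso (Sigma.desc (fun g : G => s ≫ (ρ g).hom) : (∐ fun _ : G => Y) ⟶ X) := by
  have := hp.affine
  refine isIso_sigmaDesc' (fun _ : G => Y) (fun g => s ≫ (ρ g).hom)
    (fun V : Y.affineOpens => p ⁻¹ᵁ V.1) (fun V => V.2.preimage p) ?_ (fun V _ => V.1)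
    (fun V g => section_preimage hp s hs g V.1) (fun V _ => V.2)
    (fun V => bijective_section' hp s hs hfree V.1 V.2)
  rw [← Scheme.Hom.preimage_iSup, iSup_affineOpens_eq_top, Scheme.Hom.preimage_top]

end sect

end Groth.Agent.Lib.R2H4QuotFree
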