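import Mathlib
import Groth.Agent.Lib.R2H4QuotChart
import Groth.Agent.Lib.R2H4InvProd

set_option autoImplicit false
universe u
open CategoryTheory CategoryTheory.Limits AlgebraicGeometry TopologicalSpace

namespace Groth.Agent.Lib.R2H4QuotProd

open SGA1 Groth.Agent.Lib.Helper20 Groth.Agent.Lib.R2H4QuotChart Groth.Agent.Lib.R2H4InvProd

/-- affine-ness of "boxes" in a fibre product -/
theorem isAffineOpen_box {X Y S T : Scheme.{u}} {f : T ⟶ S} {g : Y ⟶ X} {iX : X ⟶ S} {iY : Y ⟶ T}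
    (H : IsPullback g iY iX f) {US : S.Opens} {UT : T.Opens} {UX : X.Opens}
    (hUST : UT ≤ f ⁻¹ᵁ US) (hUSX : UX ≤ iX ⁻¹ᵁ US) {UY : Y.Opens}
    (hUY : UY = g ⁻¹ᵁ UX ⊓ iY ⁻¹ᵁ UT) (hUS : IsAffineOpen US) (hUT : IsAffineOpen UT)
    (hUX : IsAffineOpen UX) : IsAffineOpen UY := by
  have : IsAffine US.toScheme := hUS
  have : IsAffine UT.toScheme := hUT
  have : IsAffine UX.toScheme := hUX
  exact .of_isIso (Scheme.Hom.isPullback_resLE H hUST hUSX hUY).isoPullback.hom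

variable {S X Y XG YH : Scheme.{u}} {G H : Type u} [Group G] [Finite G] [Group H] [Finite H]

theorem isQuot_prod (fX : X ⟶ S) (fY : Y ⟶ S) (gX : XG ⟶ S) (gY : YH ⟶ S)
    (hfield : ∀ (A : CommRingCat.{u}) (φ : Γ(S, ⊤) ⟶ A), φ.hom.Flat)
    (hS : IsAffine S)
    (ρ : G →* Aut X) (σ : H →* Aut Y)
    (p : X ⟶ XG) (hp : p ≫ gX = fX) (q : Y ⟶ YH) (hq : q ≫ gY = fY)
    (hP : SGA1.IsQuot ρ p) (hQ : SGA1.IsQuot σ q)
    (θ : G × H →* Aut (pullback fX fY))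
    (hθ1 : ∀ gh : G × H, (θ gh).hom ≫ pullback.fst fX fY = pullback.fst fX fY ≫ (ρ gh.1).hom)
    (hθ2 : ∀ gh : G × H, (θ gh).hom ≫ pullback.snd fX fY = pullback.snd fX fY ≫ (σ gh.2).hom)
    (π : pullback fX fY ⟶ pullback gX gY) (hπ1 : π ≫ pullback.fst gX gY = pullback.fst fX fY ≫ p)
    (hπ2 : π ≫ pullback.snd gX gY = pullback.snd fX fY ≫ q) :
    SGA1.IsQuot θ π := by
  haveI : IsAffineHom p := hP.affine
  haveI : IsAffineHom q := hQ.affine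
  have hinv : ∀ gh : G × H, (θ gh).hom ≫ π = π := by
    intro gh
    apply pullback.hom_ext
    · rw [Category.assoc, hπ1, ← Category.assoc, hθ1, Category.assoc, hP.inv]
    · rw [Category.assoc, hπ2, ← Category.assoc, hθ2, Category.assoc, hQ.inv]
  refine isQuot_of_charts θ π hinv fun z => ?_
  obtain ⟨U, hU, hzU, -⟩ := Opens.isBasis_iff_nbhd.mp XG.isBasis_affineOpens
    (Opens.mem_top ((pullback.fst gX gY).base z))
  obtain ⟨V, hV, hzV, -⟩ := Opens.isBasis_iff_nbhd.mp YH.isBasis_affineOpens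
    (Opens.mem_top ((pullback.snd gX gY).base z))
  set W : (pullback gX gY).Opens := pullback.fst gX gY ⁻¹ᵁ U ⊓ pullback.snd gX gY ⁻¹ᵁ V with hW
  have hStop : IsAffineOpen (⊤ : S.Opens) := isAffineOpen_top S
  have hpU : IsAffineOpen (p ⁻¹ᵁ U) := hU.preimage p
  have hqV : IsAffineOpen (q ⁻¹ᵁ V) := hV.preimage q
  have hπW : π ⁻¹ᵁ W = pullback.fst fX fY ⁻¹ᵁ (p ⁻¹ᵁ U) ⊓ pullback.snd fX fY ⁻¹ᵁ (q ⁻¹ᵁ V) := by
    rw [hW, Scheme.Hom.preimage_inf, ← Scheme.Hom.comp_preimage, ← Scheme.Hom.comp_preimage,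
      hπ1, hπ2, Scheme.Hom.comp_preimage, Scheme.Hom.comp_preimage]
  have HT' : IsPullback (pullback.fst gX gY) (pullback.snd gX gY) gX gY := .of_hasPullback _ _
  have HT : IsPullback (pullback.fst fX fY) (pullback.snd fX fY) fX fY := .of_hasPullback _ _
  have hWaff : IsAffineOpen W :=
    isAffineOpen_box HT' (US := ⊤) (fun _ _ => trivial) (fun _ _ => trivial) hW hStop hV hU
  have hπWaff : IsAffineOpen (π ⁻¹ᵁ W) :=
    isAffineOpen_box HT (US := ⊤) (fun _ _ => trivial) (fun _ _ => trivial) hπW hStop hqV hpU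
  refine ⟨W, ⟨hzU, hzV⟩, hWaff, hπWaff, ?_⟩
  have e1 : V ≤ gY ⁻¹ᵁ ⊤ := fun _ _ => trivial
  have e2 : U ≤ gX ⁻¹ᵁ ⊤ := fun _ _ => trivial
  have e3 : q ⁻¹ᵁ V ≤ fY ⁻¹ᵁ ⊤ := fun _ _ => trivial
  have e4 : p ⁻¹ᵁ U ≤ fX ⁻¹ᵁ ⊤ := fun _ _ => trivial
  have hisoQ := isIso_pushoutSection_of_isAffineOpen HT' e1 e2 hW hStop hV hU
  have HQ := (isIso_pushoutSection_iff HT' e1 e2 hW).mp hisoQ
  have hisoP := isIso_pushoutSection_of_isAffineOpen HT e3 e4 hπW hStop hqV hpU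
  have HP := (isIso_pushoutSection_iff HT e3 e4 hπW).mp hisoP
  have eρ : ∀ g : G, p ⁻¹ᵁ U ≤ (ρ g).hom ⁻¹ᵁ (p ⁻¹ᵁ U) := fun g =>
    preimage_le_of_inv ρ p hP.inv g U
  have eσ : ∀ h : H, q ⁻¹ᵁ V ≤ (σ h).hom ⁻¹ᵁ (q ⁻¹ᵁ V) := fun h =>
    preimage_le_of_inv σ q hQ.inv h V
  have eθ : ∀ gh : G × H, π ⁻¹ᵁ W ≤ (θ gh).hom ⁻¹ᵁ (π ⁻¹ᵁ W) := fun gh =>
    preimage_le_of_inv θ π hinv gh W
  have hσ1 : (σ 1).hom = 𝟙 Y := rho_one_hom σ
  have hρ1 : (ρ 1).hom = 𝟙 X := rho_one_hom ρ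
  obtain ⟨hinj, hrange⟩ := quot_of_isPushout₂ HP HQ (p.appLE U (p ⁻¹ᵁ U) le_rfl)
    (q.appLE V (q ⁻¹ᵁ V) le_rfl)
    (by rw [Scheme.Hom.appLE_comp_appLE]; exact appLE_congr_hom hp _ _ _)
    (by rw [Scheme.Hom.appLE_comp_appLE]; exact appLE_congr_hom hq _ _ _)
    (π.appLE W (π ⁻¹ᵁ W) le_rfl)
    (by
      rw [Scheme.Hom.appLE_comp_appLE, Scheme.Hom.appLE_comp_appLE]
      exact appLE_congr_hom hπ1 _ _ _)
    (by
      rw [Scheme.Hom.appLE_comp_appLE, Scheme.Hom.appLE_comp_appLE]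
      exact appLE_congr_hom hπ2 _ _ _)
    (hfield _ _) (hfield _ _)
    (fun g : G => (ρ g).hom.appLE (p ⁻¹ᵁ U) (p ⁻¹ᵁ U) (eρ g))
    (fun h : H => (σ h).hom.appLE (q ⁻¹ᵁ V) (q ⁻¹ᵁ V) (eσ h))
    (fun g => by rw [Scheme.Hom.appLE_comp_appLE]; exact appLE_congr_hom (hP.inv g) _ _ _)
    (fun h => by rw [Scheme.Hom.appLE_comp_appLE]; exact appLE_congr_hom (hQ.inv h) _ _ _)
    (by rw [Scheme.Hom.appLE_eq_app]; exact hP.injective U)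
    (by rw [Scheme.Hom.appLE_eq_app]; exact hQ.injective V)
    (fun x hx => by rw [Scheme.Hom.appLE_eq_app]; exact (hP.range_iff U x).mpr hx)
    (fun x hx => by rw [Scheme.Hom.appLE_eq_app]; exact (hQ.range_iff V x).mpr hx)
    (fun g : G => (θ (g, 1)).hom.appLE (π ⁻¹ᵁ W) (π ⁻¹ᵁ W) (eθ (g, 1)))
    (fun h : H => (θ (1, h)).hom.appLE (π ⁻¹ᵁ W) (π ⁻¹ᵁ W) (eθ (1, h)))
    (fun g => by
      rw [Scheme.Hom.appLE_comp_appLE, Scheme.Hom.appLE_comp_appLE]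
      exact appLE_congr_hom (hθ1 (g, 1)) _ _ _)
    (fun g => by
      rw [Scheme.Hom.appLE_comp_appLE]
      refine appLE_congr_hom ?_ _ _ _
      rw [hθ2 (g, 1)]
      change _ ≫ (σ 1).hom = _
      rw [hσ1, Category.comp_id])
    (fun h => by
      rw [Scheme.Hom.appLE_comp_appLE]
      refine appLE_congr_hom ?_ _ _ _
      rw [hθ1 (1, h)]
      change _ ≫ (ρ 1).hom = _
      rw [hρ1, Category.comp_id])
    (fun h => by
      rw [Scheme.Hom.appLE_comp_appLE, Scheme.Hom.appLE_comp_appLE]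
      exact appLE_congr_hom (hθ2 (1, h)) _ _ _)
  exact ⟨le_rfl, eθ, hinj, fun s hs => hrange s (fun g => hs (g, 1)) (fun h => hs (1, h))⟩

end Groth.Agent.Lib.R2H4QuotProd
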