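import Mathlib
import Groth.Agent.Lib.Helper28RegLoc
import Groth.Agent.Lib.Helper28FlatNormal

/-!
# Regularity at a rational point and extension of the base field (helper4, round 2)

* `isRegularLocalRing_iff_localization_of_flat_of_eq_map`: for a flat algebra `A → B` over a
  Noetherian local ring `A` and a prime `P = m_A B` of `B` with `B_P` Noetherian,
  `A` is regular iff `B_P` is regular.
* `ker_rid_comp_map_eq_map`: for a `k`-algebra map `π : A → k`, the kernel of the induced
  `K ⊗[k] A → K` is the extension of `ker π`.
-/

set_option autoImplicit false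
universe u

open TensorProduct IsLocalRing

namespace Groth.Agent.Lib.R2H4.RatPtReg

theorem isRegularLocalRing_iff_localization_of_flat_of_eq_map
    {A B : Type u} [CommRing A] [IsLocalRing A] [IsNoetherianRing A] [CommRing B] [Algebra A B]
    [Module.Flat A B] (P : Ideal B) [P.IsPrime] [IsNoetherianRing (Localization.AtPrime P)]
    (hP : P = (maximalIdeal A).map (algebraMap A B)) :
    IsRegularLocalRing A ↔ IsRegularLocalRing (Localization.AtPrime P) := by
  have hflat : Module.Flat B (Localization.AtPrime P) := IsLocalization.flat _ P.primeCompl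
  have hflat' : Module.Flat A (Localization.AtPrime P) :=
    Module.Flat.trans A B (Localization.AtPrime P)
  have hmap : (maximalIdeal A).map (algebraMap A (Localization.AtPrime P)) =
      maximalIdeal (Localization.AtPrime P) := by
    rw [IsScalarTower.algebraMap_eq A B (Localization.AtPrime P), ← Ideal.map_map, ← hP]
    exact Localization.AtPrime.map_eq_maximalIdeal
  have hloc : IsLocalHom (algebraMap A (Localization.AtPrime P)) := by
    apply ((IsLocalRing.local_hom_TFAE (algebraMap A (Localization.AtPrime P))).out 0 2).mpr
    rw [hmap]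
  constructor
  · intro hA
    have : IsRegularLocalRing (Localization.AtPrime P ⧸ maximalIdeal (Localization.AtPrime P)) :=
      inferInstanceAs (IsRegularLocalRing (ResidueField (Localization.AtPrime P)))
    exact Groth.Agent.Lib.Helper28.isRegularLocalRing_of_flat_of_isRegularLocalRing_fibre
      (R := A) (S := Localization.AtPrime P) (maximalIdeal (Localization.AtPrime P)) hmap.symm
  · intro hB
    exact Groth.Agent.Lib.Helper28.isRegularLocalRing_of_flat_of_isLocalHom A
      (Localization.AtPrime P)

theorem ker_rid_comp_map_eq_map (k K A : Type u) [Field k] [Field K] [Algebra k K]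
    [CommRing A] [Algebra k A] (π : A →ₐ[k] k) :
    RingHom.ker ((Algebra.TensorProduct.rid k K K).toAlgHom.comp
      (Algebra.TensorProduct.map (AlgHom.id K K) π)) =
      (RingHom.ker π).map (Algebra.TensorProduct.includeRight : A →ₐ[k] K ⊗[k] A) := by
  set φ := (Algebra.TensorProduct.rid k K K).toAlgHom.comp
      (Algebra.TensorProduct.map (AlgHom.id K K) π) with hφ
  have hφt : ∀ (x : K) (a : A), φ (x ⊗ₜ[k] a) = π a • x := by
    intro x a
    simp [hφ]
  apply le_antisymm
  · -- every `t` differs from `(φ t) ⊗ 1` by an element of the extended ideal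
    have key : ∀ t : K ⊗[k] A, t - (φ t) ⊗ₜ[k] (1 : A) ∈
        (RingHom.ker π).map (Algebra.TensorProduct.includeRight : A →ₐ[k] K ⊗[k] A) := by
      intro t
      induction t using TensorProduct.induction_on with
      | zero => simp
      | tmul x a =>
        have h1 : x ⊗ₜ[k] a - (φ (x ⊗ₜ[k] a)) ⊗ₜ[k] (1 : A) =
            (x ⊗ₜ[k] (1 : A)) * (Algebra.TensorProduct.includeRight : A →ₐ[k] K ⊗[k] A)
              (a - algebraMap k A (π a)) := by
          rw [hφt, Algebra.TensorProduct.includeRight_apply, Algebra.TensorProduct.tmul_mul_tmul,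
            mul_one, one_mul, TensorProduct.tmul_sub, TensorProduct.smul_tmul,
            Algebra.algebraMap_eq_smul_one]
        rw [h1]
        apply Ideal.mul_mem_left
        apply Ideal.mem_map_of_mem
        rw [RingHom.mem_ker, map_sub, AlgHom.commutes]
        simp
      | add t s ht hs =>
        have : t + s - (φ (t + s)) ⊗ₜ[k] (1 : A) =
            (t - (φ t) ⊗ₜ[k] (1 : A)) + (s - (φ s) ⊗ₜ[k] (1 : A)) := by
          rw [map_add, TensorProduct.add_tmul]; ring
        rw [this]
        exact Ideal.add_mem _ ht hs
    intro t ht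
    have h := key t
    rw [RingHom.mem_ker] at ht
    rwa [ht, TensorProduct.zero_tmul, sub_zero] at h
  · rw [Ideal.map_le_iff_le_comap]
    intro a ha
    rw [RingHom.mem_ker] at ha
    rw [Ideal.mem_comap, RingHom.mem_ker, Algebra.TensorProduct.includeRight_apply, hφt, ha,
      zero_smul]

/-- `A → K ⊗[k] A` is flat. -/
theorem flat_includeRight (D R B : Type u) [CommRing D] [CommRing R] [CommRing B] [Algebra D R]
    [Algebra D B] [Module.Flat D R] :
    letI : Algebra B (R ⊗[D] B) :=
      (Algebra.TensorProduct.includeRight : B →ₐ[D] R ⊗[D] B).toRingHom.toAlgebra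
    Module.Flat B (R ⊗[D] B) := by
  let : Algebra B (R ⊗[D] B) :=
    (Algebra.TensorProduct.includeRight : B →ₐ[D] R ⊗[D] B).toRingHom.toAlgebra
  let e : (R ⊗[D] B) ≃ₗ[B] (B ⊗[D] R) :=
    { (Algebra.TensorProduct.comm D R B).toLinearEquiv with
      map_smul' := by
        intro b x
        change (Algebra.TensorProduct.comm D R B) (b • x) =
          b • (Algebra.TensorProduct.comm D R B) x
        rw [Algebra.smul_def, Algebra.smul_def, map_mul]
        congr 1 }
  exact Module.Flat.of_linearEquiv e

/-- EGA-style: regularity at a rational point is insensitive to extension of the base field. -/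
theorem isRegularLocalRing_iff_baseChange (k K A : Type u) [Field k] [Field K]
    [Algebra k K] [CommRing A] [Algebra k A] [IsLocalRing A] [IsNoetherianRing A]
    (π : A →ₐ[k] k) (hπ : RingHom.ker π = IsLocalRing.maximalIdeal A)
    (P : Ideal (K ⊗[k] A)) [P.IsPrime]
    (hP : P = RingHom.ker ((Algebra.TensorProduct.rid k K K).toAlgHom.comp
      (Algebra.TensorProduct.map (AlgHom.id K K) π)))
    [IsNoetherianRing (Localization.AtPrime P)] :
    IsRegularLocalRing A ↔ IsRegularLocalRing (Localization.AtPrime P) := by
  let : Algebra A (K ⊗[k] A) :=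
    (Algebra.TensorProduct.includeRight : A →ₐ[k] K ⊗[k] A).toRingHom.toAlgebra
  have hflat : Module.Flat A (K ⊗[k] A) := flat_includeRight k K A
  refine isRegularLocalRing_iff_localization_of_flat_of_eq_map P ?_
  rw [hP, ker_rid_comp_map_eq_map, hπ]
  rfl

end Groth.Agent.Lib.R2H4.RatPtReg
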