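/-
Reduced fibres of a flat proper morphism from a smooth proper surface to a smooth curve with
`O_S = π_* O_X`: `h⁰(X_s, O) = 1` and `h¹(X_s, O) = h¹(X_η, O)` (S18413).  (helper4)

* `fiber_dim_le_one`: fibres of a flat morphism `X → S` with `X` smooth of relative dimension 2 and `S` smooth
  of relative dimension 1 over a common base have dimension `≤ 1`;
* `nonempty_fiber_of_injective`: if `O_S → π_* O_X` is injective on all opens and `π` is proper, all fibres
  are nonempty;
* `chi_eq_sub`: `χ = h⁰ − h¹` (in terms of `PerfAux.betti`) on a proper fibre of dimension `≤ 1`;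
* `betti_zero_closed`, `main`.
-/
import Mathlib
import Groth.Prelude
import Groth.Agent.Lib.Helper3SmDim
import Groth.Agent.Lib.Helper3CompDim
import Groth.Agent.Lib.Helper3DimCons
import Groth.Agent.Lib.Helper3FlatFibDim2
import Groth.Agent.Lib.R2H4FibSemi
import Groth.Agent.Lib.R2H4SelfInt
import Groth.Agent.Lib.R2H1CurveEuler
import Groth.Agent.Lib.H9ZarLocalU
import Groth.Agent.Lib.H9Models
import Groth.Agent.Lib.H9CbF
import Groth.Agent.Lib.Helper6SepCl2

set_option autoImplicit false
set_option linter.style.haveILetI false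
set_option linter.unusedSectionVars false
universe u

namespace Groth.Agent.Lib.R2H4RedFibGenus

open CategoryTheory CategoryTheory.Limits AlgebraicGeometry TopologicalSpace Opposite


theorem natCast_le_one_of_add (a : WithBot ℕ∞) (h : (2 : WithBot ℕ∞) = a + 1) (n : ℕ)
    (hn : (n : WithBot ℕ∞) ≤ a) : (n : WithBot ℕ∞) ≤ 1 := by
  induction a using WithBot.recBotCoe with
  | bot => simp at hn
  | coe m =>
    induction m using ENat.recTopCoe with
    | top =>
      exfalso
      have h3 : (2 : ℕ∞) = ⊤ + 1 := by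
        have e2 : (2 : WithBot ℕ∞) = ((2 : ℕ∞) : WithBot ℕ∞) := rfl
        rw [e2, ← WithBot.coe_one, ← WithBot.coe_add, WithBot.coe_inj] at h
        exact h
      simp at h3
    | coe m =>
      have h3 : (2 : ℕ∞) = (m : ℕ∞) + 1 := by
        have e2 : (2 : WithBot ℕ∞) = ((2 : ℕ∞) : WithBot ℕ∞) := rfl
        rw [e2, ← WithBot.coe_one, ← WithBot.coe_add, WithBot.coe_inj] at h
        exact h
      have h4 : (2 : ℕ) = m + 1 := by exact_mod_cast h3
      have h5 : m = 1 := by omega
      subst h5
      exact hn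

/-- fibres of a flat morphism from a smooth surface to a smooth curve have dimension `≤ 1` -/
theorem fiber_dim_le_one {T X S : Scheme.{u}} (π : X ⟶ S) (g : S ⟶ T)
    [SmoothOfRelativeDimension 1 g] [SmoothOfRelativeDimension 2 (π ≫ g)]
    [LocallyOfFiniteType π] [Flat π] (y : S) :
    topologicalKrullDim ↥(π.fiber y) ≤ 1 := by
  apply Groth.Agent.Lib.Helper3.FlatFibDim2.le_of_forall_natCast_le
  intro n hn
  rw [Groth.Agent.Lib.Helper3.DimCons.natCast_le_fibre_dim_iff] at hn
  obtain ⟨x, hx, -⟩ := hn
  have hx' : (n : WithBot ℕ∞) ≤ FlatMor.fibreDimAt π x := hx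
  haveI : Smooth g := SmoothOfRelativeDimension.smooth 1 g
  haveI : LocallyOfFiniteType g := inferInstance
  have h1 := (Groth.Agent.Lib.Helper3.CompDim.fibreDimAt_comp π g x).2 (Flat.stalkMap π x)
  rw [Groth.Agent.Lib.Helper3.SmDim.fibreDimAt_eq_of_smoothOfRelativeDimension 2 (π ≫ g) x,
    Groth.Agent.Lib.Helper3.SmDim.fibreDimAt_eq_of_smoothOfRelativeDimension 1 g (π x)] at h1
  exact natCast_le_one_of_add _ h1 n hx'



/-- if `O_S → π_* O_X` is injective on all opens and `π` is closed, the fibres are nonempty -/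
theorem nonempty_fiber_of_injective {X S : Scheme.{u}} (π : X ⟶ S) [IsProper π]
    (hO : ∀ U : S.Opens, Function.Injective (π.app U)) (y : S) : Nonempty ↥(π.fiber y) := by
  by_contra hne
  rw [not_nonempty_iff] at hne
  have hy : y ∉ Set.range π := by
    rintro ⟨x, rfl⟩
    exact hne.false (π.asFiber x)
  have hcl : IsClosed (Set.range π) := (Scheme.Hom.isClosedMap π).isClosed_range
  let U : S.Opens := ⟨(Set.range π)ᶜ, hcl.isOpen_compl⟩
  have hU : π ⁻¹ᵁ U = ⊥ := by
    rw [eq_bot_iff]
    intro x hx
    exact (hx ⟨x, rfl⟩).elim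
  haveI : Subsingleton Γ(X, π ⁻¹ᵁ U) := by rw [hU]; infer_instance
  haveI : Nonempty U := ⟨⟨y, hy⟩⟩
  haveI : Nontrivial Γ(S, U) := Scheme.component_nontrivial S U
  obtain ⟨a, b, hab⟩ := exists_pair_ne Γ(S, U)
  exact hab (hO U (Subsingleton.elim _ _))

/-- `χ = h⁰ - h¹` on a fibre of dimension `≤ 1` -/
theorem chi_eq_sub {X S : Scheme.{u}} (π : X ⟶ S) [IsProper π] [LocallyOfFinitePresentation π]
    (F : X.Modules) [F.IsQuasicoherent] (y : S)
    (hd : topologicalKrullDim ↥(π.fiber y) ≤ 1) :
    Groth.Agent.Lib.R2H4SnapperFam.chi π F y =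
      (PerfAux.betti π F y 0 : ℤ) - (PerfAux.betti π F y 1 : ℤ) := by
  letI : (π.fiber y).Over (Spec (CommRingCat.of (S.residueField y))) :=
    ⟨π.fiberToSpecResidueField y⟩
  haveI : IsProper ((π.fiber y) ↘ Spec (CommRingCat.of (S.residueField y))) :=
    inferInstanceAs (IsProper (pullback.snd π (S.fromSpecResidueField y)))
  exact Groth.Agent.Lib.R2H1.CurveEuler.euler_eq_h0_sub_h1 (S.residueField y) (π.fiber y) hd _
    (Groth.Agent.Lib.Helper2.PullbackSec.isQuasicoherent_pullback (π.fiberι y) F)

section Main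

variable {k : Type u} [Field k] [IsAlgClosed k] {X S : Scheme.{u}}
    (π : X ⟶ S) (g : S ⟶ Spec (CommRingCat.of k))
    [SmoothOfRelativeDimension 1 g] [IrreducibleSpace S]
    [SmoothOfRelativeDimension 2 (π ≫ g)] [IsProper (π ≫ g)]
    [IsProper π] [Flat π]

include g in
theorem betti_zero_closed (hO : ∀ U : S.Opens, Function.Bijective (π.app U))
    (s : S) (hs : IsClosed ({s} : Set S)) [AlgebraicGeometry.IsReduced (π.fiber s)] :
    PerfAux.betti π (Coh.structureModule X) s 0 = 1 := by
  haveI : Smooth g := SmoothOfRelativeDimension.smooth 1 g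
  haveI : IsLocallyNoetherian S := LocallyOfFiniteType.isLocallyNoetherian g
  haveI : IsAlgClosed (S.residueField s) :=
    Groth.Agent.Lib.R2H4FibSemi.isAlgClosed_residueField_of_isClosed k g s hs
  obtain ⟨_, ⟨U, hU, rfl⟩, hsU, -⟩ := S.isBasis_affineOpens.exists_subset_of_mem_open
    (Set.mem_univ s) isOpen_univ
  haveI : ConnectedSpace ↥(π.fiber s) :=
    Groth.Agent.Lib.H9ZarLocalU.connectedSpace_fiber_of_nhd π s U hU hsU
      ((ConcreteCategory.isIso_iff_bijective _).mpr (hO U))
  letI : (π.fiber s).Over (Spec (CommRingCat.of (S.residueField s))) :=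
    ⟨π.fiberToSpecResidueField s⟩
  haveI : IsProper (π.fiberToSpecResidueField s) :=
    inferInstanceAs (IsProper (pullback.snd π (S.fromSpecResidueField s)))
  haveI : GeometricallyReduced (π.fiberToSpecResidueField s) :=
    Groth.Agent.Lib.Helper6.SepCl.geometricallyReduced_of_perfectField (S.residueField s)
      (π.fiber s)
  haveI : GeometricallyConnected (π.fiberToSpecResidueField s) :=
    Groth.Agent.Lib.Helper6.SepCl.geometricallyConnected_of_isSepClosed (S.residueField s)
      (π.fiber s)
  have hiso : IsIso (π.fiberToSpecResidueField s).appTop :=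
    Groth.Agent.Lib.H9Models.isIso_appTop_of_geometricallyConnected (S.residueField s)
      (π.fiberToSpecResidueField s)
  exact Groth.Agent.Lib.H9CbF.fiberRank_eq_one π _ (Iso.refl _) s
    ((ConcreteCategory.isIso_iff_bijective _).mp hiso)

include g in
theorem main (hO : ∀ U : S.Opens, Function.Bijective (π.app U))
    (s : S) (hs : IsClosed ({s} : Set S)) [AlgebraicGeometry.IsReduced (π.fiber s)] :
    PerfAux.betti π (Coh.structureModule X) s 0 = 1 ∧
      PerfAux.betti π (Coh.structureModule X) s 1 =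
        PerfAux.betti π (Coh.structureModule X) (genericPoint S) 1 := by
  have h0s := betti_zero_closed π g hO s hs
  refine ⟨h0s, ?_⟩
  haveI : Smooth g := SmoothOfRelativeDimension.smooth 1 g
  haveI : IsLocallyNoetherian S := LocallyOfFiniteType.isLocallyNoetherian g
  haveI : LocallyOfFinitePresentation π :=
    LocallyOfFinitePresentation.iff_locallyOfFiniteType.mpr inferInstance
  haveI : HasInjectiveResolutions X.Modules :=
    Groth.Agent.Lib.R2H3.RpushRestrict.hasInjectiveResolutions_modules X
  have hOi : PicF.IsInvertible (Coh.structureModule X) :=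
    Groth.Agent.Lib.Helper23.TensorUnit.isInvertible_structureModule X
  haveI : (Coh.structureModule X).IsQuasicoherent :=
    Groth.Agent.Lib.Helper23.SecTw.isQuasicoherent_of_isInvertible _ hOi
  have hfp : CohB1.IsFP (Coh.structureModule X) :=
    Groth.Agent.Lib.Helper2.LocFree.isFP_of_isFinLocFree _
      (Groth.Agent.Helper18PBUnit.isFinLocFree_of_isInvertible hOi)
  have hfl : FlatMod.IsFlatOver π (Coh.structureModule X) :=
    Groth.Agent.Lib.R2H4TrivInt.isFlatOver_of_isInvertible π _ hOi
  set η := genericPoint S with hη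
  -- `h⁰(η) = 1`
  have hopen := Groth.Agent.Lib.R2H4FibSemi.isOpen_fiberRank_lt π (Coh.structureModule X) hfp hfl 0 2
  have hle : CohIII.fiberRank π (Coh.structureModule X) 0 η < 2 := by
    have hsp : η ⤳ s := genericPoint_specializes s
    refine hsp.mem_open hopen ?_
    change PerfAux.betti π (Coh.structureModule X) s 0 < 2
    rw [h0s]; norm_num
  have hge : 0 < CohIII.fiberRank π (Coh.structureModule X) 0 η := by
    rw [Groth.Agent.Lib.R2H4FibSemi.fiberRank_structure]
    haveI := Groth.Agent.Lib.R2H4FibSemi.finite_fiber π η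
    obtain ⟨x⟩ := nonempty_fiber_of_injective π (fun U => (hO U).1) η
    haveI : Nonempty ((⊤ : (π.fiber η).Opens)) := ⟨⟨x, trivial⟩⟩
    haveI : Nontrivial Γ(π.fiber η, ⊤) := Scheme.component_nontrivial _ _
    exact Module.finrank_pos
  have h0η : PerfAux.betti π (Coh.structureModule X) η 0 = 1 := by
    change CohIII.fiberRank π (Coh.structureModule X) 0 η = 1
    omega
  -- Euler characteristics
  have hχ := Groth.Agent.Lib.R2H4SelfInt.isLocallyConstant_chi_of_isInvertible π
    (Coh.structureModule X) hOi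
  have hχe : Groth.Agent.Lib.R2H4SnapperFam.chi π (Coh.structureModule X) s =
      Groth.Agent.Lib.R2H4SnapperFam.chi π (Coh.structureModule X) η :=
    hχ.apply_eq_of_preconnectedSpace s η
  rw [chi_eq_sub π _ s (fiber_dim_le_one π g s), chi_eq_sub π _ η (fiber_dim_le_one π g η),
    h0s, h0η] at hχe
  omega

end Main

end Groth.Agent.Lib.R2H4RedFibGenus
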