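import Mathlib
import Groth.Prelude.Def_RegImm
import Groth.Prelude.Def_Mor2
import Groth.Prelude.Def_CInt
import Groth.Agent.Lib.R2H4SyntNhdB
import Groth.Agent.Lib.R2H4SyntStd
import Groth.Agent.Lib.Helper6FSReg
import Groth.Agent.Lib.R2H4RegSpread
import Groth.Agent.Lib.R2H4CIFieldD
import Groth.Agent.Lib.R2H4RegSeqOpen
import Groth.Agent.Lib.R2H4CIComp
import Groth.Agent.Lib.R2LeadSyntI
import Groth.Agent.Lib.R2H4SyntLocal

/-!
# A syntomic closed subscheme of a smooth scheme is regularly immersed (helper4, round 2)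

* `local_data'`: for a surjection `φ : P ↠ S` of `R`-algebras with f.g. kernel, `S` flat at `q` with
  complete intersection fibre local ring and the fibre local ring of `P` at `φ⁻¹ q` regular, the
  kernel is generated near `φ⁻¹ q` by a sequence that is regular on the fibre local ring of `P`.
* `isRegularLocalRing_fibLoc_of_smooth`.
* `main_ring`: ring form (kernel generated by a regular sequence on a basic open), via
  `R2H4RegSpread.main'`.
* `main1677`: scheme form (= S1677).
-/

set_option autoImplicit false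
set_option linter.style.haveILetI false
universe u
open scoped TensorProduct
open CategoryTheory CategoryTheory.Limits AlgebraicGeometry TopologicalSpace

namespace Groth.Agent.Lib.R2H4.RegCl


open IsLocalRing RingTheory.Sequence
open Groth.Agent.Lib.R2H4.SyntNhd

section LocalData

variable (R P S : Type u) [CommRing R] [CommRing P] [CommRing S] [Algebra R P] [Algebra R S]

/-- **Local generators of the kernel of a surjection onto an algebra with c.i. fibre local ring.**
Let `φ : P ↠ S` be a surjection of `R`-algebras with finitely generated kernel `I`, `q` a prime of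
`S` at which `S` is flat over `R`, such that the fibre local ring of `P` at `φ⁻¹ q` is regular and
the fibre local ring of `S` at `q` is a complete intersection. Then `I` is generated near `φ⁻¹ q`
by elements forming a regular sequence in the fibre local ring of `P`. -/
theorem local_data' (φ : P →ₐ[R] S) (hφ : Function.Surjective φ)
    (hfg : (RingHom.ker φ.toRingHom).FG) (q : Ideal S) [q.IsPrime]
    (hflat : Module.Flat R (Localization.AtPrime q))
    (hC : IsRegularLocalRing (EGA4.FibLocRing R P (q.comap φ.toRingHom)))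
    (κ T : Type u) [Field κ] [CommRing T] [IsLocalRing T] [Algebra κ T] (hT : Synt.IsCIOver κ T)
    (ε : EGA4.FibLocRing R S q ≃+* T) :
    ∃ (c : ℕ) (F : Fin c → P) (g : P),
      (∀ i, F i ∈ RingHom.ker φ.toRingHom) ∧ g ∉ q.comap φ.toRingHom ∧
      (∀ a ∈ RingHom.ker φ.toRingHom, g * a ∈ Ideal.span (Set.range F)) ∧
      IsRegular (EGA4.FibLocRing R P (q.comap φ.toRingHom))
        ((List.ofFn F).map (algebraMap P (EGA4.FibLocRing R P (q.comap φ.toRingHom)))) := by
  classical
  set I : Ideal P := RingHom.ker φ.toRingHom with hI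
  set q' : Ideal P := q.comap φ.toRingHom with hq'def
  haveI hq' : q'.IsPrime := Ideal.comap_isPrime _ _
  have hIq : I ≤ q' := by
    intro x hx
    rw [hq'def, Ideal.mem_comap, (RingHom.mem_ker).mp hx]
    exact q.zero_mem
  let B := Localization.AtPrime q'
  let π₀ : B →+* Localization.AtPrime q := Localization.localRingHom q' q φ.toRingHom rfl
  have hπ₀ : Function.Surjective π₀ :=
    RingHom.surjective_localRingHom_of_surjective φ.toRingHom hφ q
  have hkerI : RingHom.ker π₀ = I.map (algebraMap P B) := by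
    rw [hI]
    exact Groth.Agent.Lib.R2H4.CIField.ker_localRingHom φ.toRingHom hφ q
  have hcomm : ∀ x : R, π₀ (algebraMap R B x) = algebraMap R (Localization.AtPrime q) x := by
    intro x
    rw [IsScalarTower.algebraMap_apply R P B, Localization.localRingHom_to_map,
      IsScalarTower.algebraMap_apply R S (Localization.AtPrime q)]
    congr 1
    exact φ.commutes x
  let π : B →ₐ[R] Localization.AtPrime q := { π₀ with commutes' := hcomm }
  have hπ : Function.Surjective π := hπ₀
  -- flatness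
  have hflat' : Module.Flat R (B ⧸ I.map (algebraMap P B)) := by
    have e1 : (B ⧸ RingHom.ker π.toRingHom) ≃ₐ[R] Localization.AtPrime q :=
      Ideal.quotientKerAlgEquivOfSurjective hπ
    have hk : RingHom.ker π.toRingHom = I.map (algebraMap P B) := hkerI
    have e2 : (B ⧸ RingHom.ker π.toRingHom) ≃ₐ[R] (B ⧸ I.map (algebraMap P B)) :=
      Ideal.quotientEquivAlgOfEq R hk
    exact Module.Flat.of_linearEquiv (e2.symm.trans e1).toLinearEquiv
  -- the fibre local rings
  let C := EGA4.FibLocRing R P q'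
  have hpp : q'.comap (algebraMap R P) = q.comap (algebraMap R S) := by
    rw [hq'def, Ideal.comap_comap]
    congr 1
    ext x
    exact φ.commutes x
  set 𝔭P : Ideal B := (q'.comap (algebraMap R P)).map (algebraMap R B) with h𝔭P
  set 𝔭S : Ideal (Localization.AtPrime q) :=
    (q.comap (algebraMap R S)).map (algebraMap R (Localization.AtPrime q)) with h𝔭S
  have h𝔭 : 𝔭S = 𝔭P.map π₀ := by
    rw [h𝔭P, h𝔭S, Ideal.map_map, hpp]
    congr 1
    ext x
    exact (hcomm x).symm
  have hle : 𝔭P ≤ 𝔭S.comap π₀ := by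
    rw [h𝔭]
    exact Ideal.le_comap_map
  let πb : C →+* T := (ε : _ →+* T).comp (Ideal.quotientMap 𝔭S π₀ hle)
  have hπb : Function.Surjective πb :=
    ε.surjective.comp (Ideal.quotientMap_surjective hπ₀)
  have hkerπb : RingHom.ker πb = I.map (algebraMap P C) := by
    have h1 : RingHom.ker πb = RingHom.ker (Ideal.quotientMap 𝔭S π₀ hle) := by
      ext x
      simp only [πb, RingHom.mem_ker, RingHom.comp_apply]
      exact map_eq_zero_iff _ ε.injective
    rw [h1, ker_quotientMap π₀ hπ₀ 𝔭P 𝔭S h𝔭 hle, hkerI, Ideal.map_map]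
    rfl
  haveI hC' : IsRegularLocalRing C := hC
  obtain ⟨rs, hreg, hrs⟩ := Groth.Agent.Lib.R2H4.CIField.ker_regular_of_isCIOver κ T hT C πb hπb
  obtain ⟨c, F, g, hFI, hgq, hgI, hregF⟩ := dataB (R := R) I hfg q' hflat' hC rs hreg
    (hrs.symm.trans hkerπb)
  exact ⟨c, F, g, hFI, hgq, hgI, hregF⟩

/-- the fibre local rings of a smooth algebra are regular -/
theorem isRegularLocalRing_fibLoc_of_smooth [Algebra.Smooth R P] (q : Ideal P) [q.IsPrime] :
    IsRegularLocalRing (EGA4.FibLocRing R P q) := by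
  obtain ⟨Q, hQ, ⟨ε⟩⟩ := Groth.Agent.Lib.R2LeadSyntD.exists_fibre_prime (R := R) q
  let p : PrimeSpectrum R := ⟨q.comap (algebraMap R P), inferInstance⟩
  haveI : Algebra.FiniteType p.asIdeal.ResidueField (p.asIdeal.Fiber P) := inferInstance
  haveI : IsNoetherianRing (p.asIdeal.Fiber P) :=
    Algebra.FiniteType.isNoetherianRing p.asIdeal.ResidueField _
  haveI : Algebra.FormallySmooth p.asIdeal.ResidueField (p.asIdeal.Fiber P) := inferInstance
  haveI : IsRegularRing (p.asIdeal.Fiber P) :=
    Groth.Agent.Lib.Helper6.FSReg.isRegularRing_of_formallySmooth p.asIdeal.ResidueField _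
  haveI : IsRegularLocalRing (Localization.AtPrime Q) := inferInstance
  exact IsRegularLocalRing.of_ringEquiv (R := Localization.AtPrime Q) ε

end LocalData



open IsLocalRing RingTheory.Sequence
open Groth.Agent.Lib.R2H4.SyntNhd

section RingMain

/-- **Ring form of "a syntomic closed subscheme of a smooth scheme is regularly immersed".** -/
theorem main_ring (A B C : Type u) [CommRing A] [CommRing B] [CommRing C] [Algebra A B]
    [Algebra A C] [Algebra.Smooth A B] (φ : B →ₐ[A] C) (hφ : Function.Surjective φ)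
    (hC : Synt.IsSyntomic A C) (q : Ideal C) [q.IsPrime] :
    ∃ g : B, g ∉ q.comap φ.toRingHom ∧ ∃ l : List B,
      ∀ (L : Type u) [CommRing L] [Algebra B L] [IsLocalization.Away g L],
        IsRegular L (l.map (algebraMap B L)) ∧
        (RingHom.ker φ.toRingHom).map (algebraMap B L) = Ideal.ofList (l.map (algebraMap B L)) := by
  classical
  obtain ⟨hCflat, hCfp, hCfib⟩ := hC
  haveI := hCflat
  haveI := hCfp
  haveI : Algebra.FinitePresentation A B := inferInstance
  set q' : Ideal B := q.comap φ.toRingHom with hq'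
  have hfg : (RingHom.ker φ.toRingHom).FG :=
    Algebra.FinitePresentation.ker_fG_of_surjective φ hφ
  have hflat : Module.Flat A (Localization.AtPrime q) := by
    haveI : Module.Flat C (Localization.AtPrime q) := IsLocalization.flat _ q.primeCompl
    exact Module.Flat.trans A C _
  have hBreg : IsRegularLocalRing (EGA4.FibLocRing A B q') :=
    isRegularLocalRing_fibLoc_of_smooth A B q'
  obtain ⟨Q, hQ, hQq⟩ := Groth.Agent.Lib.R2H4.SyntStd.exists_fibre_prime' (R := A) (S := C) q
  haveI := hQ
  have hCI : Synt.IsCIOver (q.comap (algebraMap A C)).ResidueField (Localization.AtPrime Q) :=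
    Groth.Agent.Lib.R2H4.CIField.isCIOver_atPrime_of_isLCIOver _ _
      (hCfib ⟨q.comap (algebraMap A C), Ideal.comap_isPrime _ _⟩) Q
  obtain ⟨ε, -⟩ := Groth.Agent.Lib.R2H4.RegSeqOpen.exists_equiv (q.comap (algebraMap A C)) Q q hQq
  obtain ⟨c, F, g, hFI, hgq, hgI, hregF⟩ := local_data' A B C φ hφ hfg q hflat hBreg
    (q.comap (algebraMap A C)).ResidueField (Localization.AtPrime Q) hCI ε.symm
  have hflatB : Module.Flat A (Localization.AtPrime q') := by
    haveI : Module.Flat B (Localization.AtPrime q') := IsLocalization.flat _ q'.primeCompl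
    exact Module.Flat.trans A B _
  obtain ⟨c', hc', hW⟩ := Groth.Agent.Lib.R2H4.RegSpread.main' (A := A) q' (List.ofFn F) hflatB hregF
  have hcg : c' * g ∉ q' := by
    intro hmem
    rcases (Ideal.IsPrime.mem_or_mem inferInstance hmem) with h | h
    · exact hc' h
    · exact hgq h
  refine ⟨c' * g, hcg, List.ofFn F, ?_⟩
  · intro L _ _ _
    have hW' := hW g L
    have hideal : (RingHom.ker φ.toRingHom).map (algebraMap B L) =
        Ideal.ofList ((List.ofFn F).map (algebraMap B L)) := by
      rw [← Ideal.map_ofList]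
      apply le_antisymm
      · rw [Ideal.map_le_iff_le_comap]
        intro a ha
        rw [Ideal.mem_comap]
        have h1 : g * a ∈ Ideal.ofList (List.ofFn F) := by
          have := hgI a ha
          rwa [← Groth.Agent.Lib.R2H4.RelGCIFlat.ofList_ofFn] at this
        have h2 : algebraMap B L g * algebraMap B L a ∈
            (Ideal.ofList (List.ofFn F)).map (algebraMap B L) := by
          rw [← map_mul]
          exact Ideal.mem_map_of_mem _ h1
        have hu : IsUnit (algebraMap B L g) := by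
          have h3 : IsUnit (algebraMap B L (c' * g)) :=
            IsLocalization.map_units L (⟨c' * g, 1, pow_one _⟩ : Submonoid.powers (c' * g))
          rw [map_mul] at h3
          exact isUnit_of_mul_isUnit_right h3
        exact (Ideal.unit_mul_mem_iff_mem _ hu).mp h2
      · apply Ideal.map_mono
        rw [Ideal.ofList, Ideal.span_le]
        intro x hx
        obtain ⟨j, rfl⟩ := (List.mem_ofFn' F x).mp hx
        exact hFI j
    refine ⟨⟨hW', ?_⟩, hideal⟩
    rw [smul_eq_mul, Ideal.mul_top, ← hideal]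
    intro htop
    have hle : (RingHom.ker φ.toRingHom).map (algebraMap B L) ≤ q'.map (algebraMap B L) := by
      apply Ideal.map_mono
      intro x hx
      rw [hq', Ideal.mem_comap, (RingHom.mem_ker).mp hx]
      exact q.zero_mem
    have h4 : q'.map (algebraMap B L) = ⊤ := top_le_iff.mp (htop ▸ hle)
    have hdisj : Disjoint (Submonoid.powers (c' * g) : Set B) (q' : Set B) := by
      rw [Set.disjoint_left]
      rintro x ⟨n, rfl⟩ hx
      exact hcg (Ideal.IsPrime.mem_of_pow_mem inferInstance n hx)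
    exact (IsLocalization.map_algebraMap_ne_top_iff_disjoint
      (Submonoid.powers (c' * g)) L q').mpr hdisj h4

end RingMain



open IsLocalRing RingTheory.Sequence

section Sch

theorem main1677 {X Y S : Scheme.{u}} (p : X ⟶ S) [Smooth p] (i : Y ⟶ X)
    [IsClosedImmersion i] (hY : CInt.IsCIMorphism (i ≫ p)) : Mor2.IsRegularClosedImmersion i := by
  refine ⟨inferInstance, fun z => ?_⟩
  obtain ⟨hfl, hfp, hci⟩ := hY
  haveI := hfl
  haveI := hfp
  have hK : ∀ y, Synt.IsKoszulAt (i ≫ p) y :=
    (Groth.Agent.Lib.R2H4.CIComp.main8660 (i ≫ p)).mpr ⟨hfl, hfp, hci⟩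
  have hsynt : Synt.IsSyntomicMor (i ≫ p) :=
    Groth.Agent.Lib.R2LeadSyntI.isSyntomicMor_of_flat_of_isKoszulAt _ hK
  -- charts
  obtain ⟨V, hV, hzV, -⟩ :=
    (TopologicalSpace.Opens.isBasis_iff_nbhd.mp S.isBasis_affineOpens)
      (show p (i z) ∈ (⊤ : S.Opens) from trivial)
  obtain ⟨U, hU, hzU, hUV⟩ :=
    (TopologicalSpace.Opens.isBasis_iff_nbhd.mp X.isBasis_affineOpens)
      (show i z ∈ p ⁻¹ᵁ V from hzV)
  have hW : IsAffineOpen (i ⁻¹ᵁ U) := hU.preimage i
  have hzW : z ∈ i ⁻¹ᵁ U := hzU
  have hWV : i ⁻¹ᵁ U ≤ (i ≫ p) ⁻¹ᵁ V := fun y hy => hUV hy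
  letI algAB : Algebra Γ(S, V) Γ(X, U) := (p.appLE V U hUV).hom.toAlgebra
  letI algAC : Algebra Γ(S, V) Γ(Y, i ⁻¹ᵁ U) := ((i ≫ p).appLE V (i ⁻¹ᵁ U) hWV).hom.toAlgebra
  haveI : Algebra.Smooth Γ(S, V) Γ(X, U) :=
    HasRingHomProperty.appLE (P := @Smooth) p inferInstance ⟨V, hV⟩ ⟨U, hU⟩ hUV
  have hS : Synt.IsSyntomic Γ(S, V) Γ(Y, i ⁻¹ᵁ U) :=
    (Groth.Agent.Lib.R2H4.SyntLocal.isSyntomicMor_iff (i ≫ p)).mp hsynt ⟨i ⁻¹ᵁ U, hW⟩ ⟨V, hV⟩ hWV
  have hcomm : ∀ a : Γ(S, V), (i.app U).hom (algebraMap Γ(S, V) Γ(X, U) a) =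
      algebraMap Γ(S, V) Γ(Y, i ⁻¹ᵁ U) a := by
    intro a
    have h1 := Scheme.Hom.appLE_comp_appLE i p V U (i ⁻¹ᵁ U) hUV le_rfl
    rw [Scheme.Hom.appLE_eq_app] at h1
    exact congrArg (fun f => f.hom a) h1
  let φ : Γ(X, U) →ₐ[Γ(S, V)] Γ(Y, i ⁻¹ᵁ U) := { (i.app U).hom with commutes' := hcomm }
  have hφ : Function.Surjective φ := i.app_surjective U hU
  haveI hqprime : (hW.primeIdealOf ⟨z, hzW⟩).asIdeal.IsPrime := (hW.primeIdealOf ⟨z, hzW⟩).isPrime
  obtain ⟨g, hg, l, hL⟩ := main_ring Γ(S, V) Γ(X, U) Γ(Y, i ⁻¹ᵁ U) φ hφ hS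
    (hW.primeIdealOf ⟨z, hzW⟩).asIdeal
  have hU' : IsAffineOpen (X.basicOpen g) := hU.basicOpen g
  letI algBL : Algebra Γ(X, U) Γ(X, X.basicOpen g) :=
    (X.presheaf.map (homOfLE (X.basicOpen_le g)).op).hom.toAlgebra
  haveI : IsLocalization.Away g Γ(X, X.basicOpen g) := hU.isLocalization_basicOpen g
  obtain ⟨hreg, hideal⟩ := hL Γ(X, X.basicOpen g)
  refine ⟨X.basicOpen g, hU', ?_, l.map (algebraMap Γ(X, U) Γ(X, X.basicOpen g)), hreg, ?_⟩
  · have h1 : z ∈ Y.basicOpen ((i.app U).hom g) := by
      rw [Groth.Agent.Lib.R2H4.SyntStd.mem_basicOpen_iff_not_mem_primeIdealOf hW z hzW]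
      exact hg
    rw [← Scheme.preimage_basicOpen] at h1
    exact h1
  · rw [← hideal]
    have h2 := (i.ker).map_ideal_basicOpen ⟨U, hU⟩ g
    rw [Scheme.Hom.ker_apply] at h2
    exact h2.symm

end Sch


end Groth.Agent.Lib.R2H4.RegCl
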