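import Mathlib
import Groth.Agent.Lib.Helper14GeomIrr
import Groth.Agent.Lib.R2H3RelCartierAlg

/-!
# Principal relative effective Cartier divisors avoiding points (helper4, round 2)

`k` algebraically closed, `A` a f.t. `k`-domain, `R` any `k`-algebra:
* `repr_map`: coordinates (w.r.t. a `k`-basis of `A`) of the image of `x : R ⊗[k] A` under `φ ⊗ id`.
* `mem_of_map_residueField_eq_zero`: an element dying in `κ(p) ⊗[k] A` lies in every prime over `p`.
* `isSMulRegular_fibre`: an element with nonzero image in `κ(q) ⊗[k] A` is regular on the fibre.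
* `main` (= S19308).
-/

set_option autoImplicit false
set_option linter.style.haveILetI false
universe u
open TensorProduct

namespace Groth.Agent.Lib.R2H4.RelCartierAvoid

section RC1


variable (k : Type u) [Field k] (A : Type u) [CommRing A] [Algebra k A]

/-- coordinates of a base-changed element -/
theorem repr_map {ι : Type*} (b : Module.Basis ι k A) {R R' : Type u} [CommRing R] [CommRing R']
    [Algebra k R] [Algebra k R'] (φ : R →ₐ[k] R') (x : R ⊗[k] A) (j : ι) :
    (Algebra.TensorProduct.basis R' b).repr (Algebra.TensorProduct.map φ (AlgHom.id k A) x) j =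
      φ ((Algebra.TensorProduct.basis R b).repr x j) := by
  induction x using TensorProduct.induction_on with
  | zero => simp
  | tmul r a =>
    rw [Algebra.TensorProduct.map_tmul, Algebra.TensorProduct.basis_repr_tmul,
      Algebra.TensorProduct.basis_repr_tmul]
    simp only [AlgHom.coe_id, id_eq, Finsupp.smul_apply, Finsupp.mapRange_apply, smul_eq_mul,
      map_mul, AlgHom.commutes]
  | add x y hx hy =>
    simp only [map_add, Finsupp.add_apply, hx, hy]

/-- an element dying in the fibre over `p` lies in every prime over `p` -/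
theorem mem_of_map_residueField_eq_zero {R : Type u} [CommRing R] [Algebra k R]
    (P : Ideal (R ⊗[k] A)) [P.IsPrime] (p : Ideal R) [p.IsPrime]
    (hP : P.comap (Algebra.TensorProduct.includeLeftRingHom : R →+* R ⊗[k] A) = p)
    (x : R ⊗[k] A)
    (hx : Algebra.TensorProduct.map (IsScalarTower.toAlgHom k R p.ResidueField) (AlgHom.id k A) x
      = 0) : x ∈ P := by
  let K := P.ResidueField
  let g : R →ₐ[k] K := (IsScalarTower.toAlgHom k (R ⊗[k] A) K).comp
    (Algebra.TensorProduct.includeLeft : R →ₐ[k] R ⊗[k] A)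
  have hg : ∀ a : R, g a = algebraMap (R ⊗[k] A) K (a ⊗ₜ 1) := fun a => rfl
  have hf₁ : p ≤ RingHom.ker g := by
    intro a ha
    rw [RingHom.mem_ker]
    rw [hg, Ideal.algebraMap_residueField_eq_zero]
    rw [← hP] at ha
    exact ha
  have hf₂ : p.primeCompl ≤ (IsUnit.submonoid K).comap g := by
    intro a ha
    change IsUnit (g a)
    rw [hg, isUnit_iff_ne_zero, Ne, Ideal.algebraMap_residueField_eq_zero]
    intro h
    apply ha
    rw [← hP]
    exact h
  let gbar : p.ResidueField →ₐ[k] K := Ideal.ResidueField.liftₐ p g hf₁ hf₂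
  let h : A →ₐ[k] K := (IsScalarTower.toAlgHom k (R ⊗[k] A) K).comp
    (Algebra.TensorProduct.includeRight : A →ₐ[k] R ⊗[k] A)
  let ψ : p.ResidueField ⊗[k] A →ₐ[k] K :=
    Algebra.TensorProduct.lift gbar h (fun _ _ => Commute.all _ _)
  have hcomp : ψ.comp (Algebra.TensorProduct.map (IsScalarTower.toAlgHom k R p.ResidueField)
      (AlgHom.id k A)) = IsScalarTower.toAlgHom k (R ⊗[k] A) K := by
    apply Algebra.TensorProduct.ext'
    intro a c
    simp only [AlgHom.comp_apply, Algebra.TensorProduct.map_tmul, AlgHom.coe_id, id_eq,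
      IsScalarTower.coe_toAlgHom', ψ, Algebra.TensorProduct.lift_tmul, gbar,
      Ideal.ResidueField.liftₐ_algebraMap]
    rw [hg]
    change algebraMap (R ⊗[k] A) K (a ⊗ₜ 1) * algebraMap (R ⊗[k] A) K (1 ⊗ₜ c) = _
    rw [← map_mul, Algebra.TensorProduct.tmul_mul_tmul, mul_one, one_mul]
  have h0 : algebraMap (R ⊗[k] A) K x = 0 := by
    have := congrArg (fun F => F x) hcomp
    simp only [AlgHom.comp_apply, hx, map_zero] at this
    exact this.symm
  exact (Ideal.algebraMap_residueField_eq_zero).mp h0


end RC1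

section RC2


variable (k : Type u) [Field k] (A : Type u) [CommRing A] [Algebra k A]

/-- fibrewise nonvanishing gives fibrewise regularity (geometrically integral fibres) -/
theorem isSMulRegular_fibre [IsAlgClosed k] [IsDomain A] {R : Type u} [CommRing R] [Algebra k R]
    (q : Ideal R) [q.IsPrime] (x : R ⊗[k] A)
    (hx : Algebra.TensorProduct.map (IsScalarTower.toAlgHom k R q.ResidueField) (AlgHom.id k A) x
      ≠ 0) : IsSMulRegular ((R ⊗[k] A) ⊗[R] q.ResidueField) x := by
  haveI : IsDomain (A ⊗[k] q.ResidueField) :=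
    Groth.Agent.Lib.Helper14.GeomIrr.isDomain_tensor_of_isAlgClosed A q.ResidueField
  haveI : IsDomain (q.ResidueField ⊗[k] A) :=
    (Algebra.TensorProduct.comm k q.ResidueField A).toMulEquiv.isDomain
  let Φ : R ⊗[k] A →ₐ[k] q.ResidueField ⊗[k] A :=
    Algebra.TensorProduct.map (IsScalarTower.toAlgHom k R q.ResidueField) (AlgHom.id k A)
  let e : (R ⊗[k] A) ⊗[R] q.ResidueField ≃ₐ[R] q.ResidueField ⊗[k] A :=
    (Algebra.TensorProduct.comm R (R ⊗[k] A) q.ResidueField).trans
      ((Algebra.TensorProduct.cancelBaseChange k R R q.ResidueField A))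
  have he : ∀ (b : R ⊗[k] A) (c : q.ResidueField), e (b ⊗ₜ c) = Φ b * (c ⊗ₜ 1) := by
    intro b c
    induction b using TensorProduct.induction_on with
    | zero => simp
    | tmul r a =>
      simp only [e, AlgEquiv.trans_apply, Algebra.TensorProduct.comm_tmul,
        Algebra.TensorProduct.cancelBaseChange_tmul, Φ, Algebra.TensorProduct.map_tmul,
        AlgHom.coe_id, id_eq, IsScalarTower.coe_toAlgHom', Algebra.TensorProduct.tmul_mul_tmul,
        mul_one, Algebra.smul_def]
    | add y z hy hz =>
      rw [TensorProduct.add_tmul, map_add, hy, hz, map_add, add_mul]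
  have hsm : ∀ y : (R ⊗[k] A) ⊗[R] q.ResidueField, e (x • y) = Φ x * e y := by
    intro y
    induction y using TensorProduct.induction_on with
    | zero => simp
    | tmul b c =>
      rw [TensorProduct.smul_tmul', smul_eq_mul, he, he, map_mul, mul_assoc]
    | add y z hy hz =>
      rw [smul_add, map_add, hy, hz, map_add, mul_add]
  intro y₁ y₂ h
  have h' : e (x • y₁) = e (x • y₂) := congrArg e h
  rw [hsm, hsm] at h'
  exact e.injective (mul_left_cancel₀ hx h')


end RC2

section RC3


theorem main
    (k : Type u) [Field k] [IsAlgClosed k]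
    (A : Type u) [CommRing A] [Algebra k A] [IsDomain A] [Algebra.FiniteType k A]
    (Z : Finset (A →ₐ[k] k))
    (R : Type u) [CommRing R] [Algebra k R]
    (U : TopologicalSpace.Opens (PrimeSpectrum (TensorProduct k R A)))
    (hZ : ∀ z ∈ Z, ∀ q : PrimeSpectrum R,
      PrimeSpectrum.comap (Algebra.TensorProduct.lift (AlgHom.id k R) ((Algebra.ofId k R).comp z)
        (fun _ _ => Commute.all _ _)).toRingHom q ∈ U)
    (hsurj : ∀ q : PrimeSpectrum R, ∃ P ∈ U,
      PrimeSpectrum.comap (Algebra.TensorProduct.includeLeftRingHom : R →+* TensorProduct k R A) P = q)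
    (p : PrimeSpectrum R) :
    ∃ r : R, r ∉ p.asIdeal ∧
      ∃ f : TensorProduct k (Localization.Away r) A,
        f ∈ nonZeroDivisors (TensorProduct k (Localization.Away r) A) ∧
        Module.Flat (Localization.Away r)
          (TensorProduct k (Localization.Away r) A ⧸ Ideal.span {f}) ∧
        (∀ z ∈ Z, IsUnit (Algebra.TensorProduct.lift (AlgHom.id k (Localization.Away r))
          ((Algebra.ofId k (Localization.Away r)).comp z) (fun _ _ => Commute.all _ _) f)) ∧
        (∀ P : PrimeSpectrum (TensorProduct k (Localization.Away r) A), f ∉ P.asIdeal →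
          PrimeSpectrum.comap (Algebra.TensorProduct.map
            (IsScalarTower.toAlgHom k R (Localization.Away r)) (AlgHom.id k A)).toRingHom P ∈ U) := by
  classical
  obtain ⟨I, hI⟩ := (PrimeSpectrum.isClosed_iff_zeroLocus_ideal _).mp U.isOpen.isClosed_compl
  have hUI : ∀ Q : PrimeSpectrum (R ⊗[k] A), Q ∈ U ↔ ¬ I ≤ Q.asIdeal := by
    intro Q
    have : Q ∈ (U : Set _)ᶜ ↔ Q ∈ PrimeSpectrum.zeroLocus (I : Set (R ⊗[k] A)) := by rw [hI]
    rw [Set.mem_compl_iff, PrimeSpectrum.mem_zeroLocus, SetLike.coe_subset_coe] at this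
    constructor
    · intro hQ h
      exact (this.mpr h) hQ
    · intro h
      by_contra hQ
      exact h (this.mp hQ)
  obtain ⟨P, hPU, hPp⟩ := hsurj p
  let σ : (A →ₐ[k] k) → (R ⊗[k] A →ₐ[k] R) := fun z =>
    Algebra.TensorProduct.lift (AlgHom.id k R) ((Algebra.ofId k R).comp z)
        (fun _ _ => Commute.all _ _)
  let Pz : (A →ₐ[k] k) → PrimeSpectrum (R ⊗[k] A) := fun z => PrimeSpectrum.comap (σ z).toRingHom p
  -- prime avoidance
  let S : Finset (PrimeSpectrum (R ⊗[k] A)) := insert P (Z.image Pz)
  have hS : ∀ Q ∈ S, ¬ I ≤ Q.asIdeal := by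
    intro Q hQ
    rw [Finset.mem_insert, Finset.mem_image] at hQ
    rcases hQ with rfl | ⟨z, hz, rfl⟩
    · exact (hUI _).mp hPU
    · exact (hUI _).mp (hZ z hz p)
  have havoid : ¬ ((I : Set (R ⊗[k] A)) ⊆ ⋃ Q ∈ (S : Set (PrimeSpectrum (R ⊗[k] A))), Q.asIdeal) := by
    rw [Ideal.subset_union_prime P P (fun Q _ _ _ => Q.isPrime)]
    rintro ⟨Q, hQ, hle⟩
    exact hS Q hQ hle
  rw [Set.not_subset] at havoid
  obtain ⟨f, hfI, hfS⟩ := havoid
  have hfS' : ∀ Q ∈ S, f ∉ Q.asIdeal := by
    intro Q hQ hf
    apply hfS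
    simp only [Set.mem_iUnion]
    exact ⟨Q, hQ, hf⟩
  have hfP : f ∉ P.asIdeal := hfS' P (Finset.mem_insert_self _ _)
  have hfz : ∀ z ∈ Z, σ z f ∉ p.asIdeal := by
    intro z hz h
    exact hfS' (Pz z) (Finset.mem_insert_of_mem (Finset.mem_image_of_mem _ hz)) h
  -- coordinates
  let b := Module.Free.chooseBasis k A
  let c := (Algebra.TensorProduct.basis R b).repr f
  have hcj : ∃ j, c j ∉ p.asIdeal := by
    by_contra hcon
    push Not at hcon
    apply hfP
    have hPp' : P.asIdeal.comap (Algebra.TensorProduct.includeLeftRingHom : R →+* R ⊗[k] A)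
        = p.asIdeal := by
      rw [← hPp]
      rfl
    apply mem_of_map_residueField_eq_zero k A P.asIdeal p.asIdeal hPp' f
    apply (Algebra.TensorProduct.basis p.asIdeal.ResidueField b).repr.injective
    ext j
    rw [repr_map k A b, map_zero, Finsupp.zero_apply, IsScalarTower.coe_toAlgHom',
      Ideal.algebraMap_residueField_eq_zero]
    exact hcon j
  obtain ⟨j, hj⟩ := hcj
  let r : R := c j * ∏ z ∈ Z, σ z f
  have hr : r ∉ p.asIdeal := by
    intro h
    rcases p.isPrime.mem_or_mem h with h1 | h2
    · exact hj h1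
    · obtain ⟨z, hz, hz'⟩ := (Ideal.IsPrime.prod_mem_iff (hp := p.isPrime)).mp h2
      exact hfz z hz hz'
  refine ⟨r, hr, ?_⟩
  let ι : R →ₐ[k] Localization.Away r := IsScalarTower.toAlgHom k R (Localization.Away r)
  let G : R ⊗[k] A →ₐ[k] (Localization.Away r) ⊗[k] A :=
    Algebra.TensorProduct.map ι (AlgHom.id k A)
  have hru : IsUnit (ι r) := IsLocalization.Away.algebraMap_isUnit r
  have hcu : IsUnit (ι (c j)) := by
    have : ι r = ι (c j) * ι (∏ z ∈ Z, σ z f) := map_mul _ _ _
    rw [this] at hru
    exact isUnit_of_mul_isUnit_left hru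
  have hzu : ∀ z ∈ Z, IsUnit (ι (σ z f)) := by
    intro z hz
    have h1 : ι r = ι (σ z f) * ι (c j * ∏ w ∈ Z.erase z, σ w f) := by
      rw [← map_mul]
      congr 1
      change c j * ∏ w ∈ Z, σ w f = _
      rw [← Finset.mul_prod_erase Z (fun w => σ w f) hz]
      ring
    rw [h1] at hru
    exact isUnit_of_mul_isUnit_left hru
  refine ⟨G f, ?_⟩
  haveI : Algebra.FinitePresentation k A := Algebra.FinitePresentation.of_finiteType.mp inferInstance
  have hfib : ∀ (q : Ideal (Localization.Away r)) [q.IsPrime],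
      IsSMulRegular (((Localization.Away r) ⊗[k] A) ⊗[Localization.Away r] q.ResidueField) (G f) := by
    intro q _
    apply isSMulRegular_fibre k A q (G f)
    intro h0
    have h1 := congrArg (fun y => (Algebra.TensorProduct.basis q.ResidueField b).repr y j) h0
    simp only [map_zero, Finsupp.zero_apply] at h1
    rw [repr_map k A b, repr_map k A b, IsScalarTower.coe_toAlgHom'] at h1
    exact (hcu.map (algebraMap (Localization.Away r) q.ResidueField)).ne_zero h1
  obtain ⟨hnzd, hflat⟩ :=
    Groth.Agent.Lib.R2H3.RelCartierAlg.mem_nonZeroDivisors_and_flat_quotient_of_fibrewise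
      (Localization.Away r) ((Localization.Away r) ⊗[k] A) (G f) hfib
  refine ⟨hnzd, hflat, ?_, ?_⟩
  · intro z hz
    have hcomp : (Algebra.TensorProduct.lift (AlgHom.id k (Localization.Away r))
          ((Algebra.ofId k (Localization.Away r)).comp z) (fun _ _ => Commute.all _ _)).comp G =
        ι.comp (σ z) := by
      apply Algebra.TensorProduct.ext'
      intro a c'
      simp only [AlgHom.comp_apply, G, Algebra.TensorProduct.map_tmul, AlgHom.coe_id, id_eq,
        Algebra.TensorProduct.lift_tmul, σ, map_mul, Algebra.ofId_apply, AlgHom.commutes]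
    have := congrArg (fun F => F f) hcomp
    simp only [AlgHom.comp_apply] at this
    rw [this]
    exact hzu z hz
  · intro P' hP'
    rw [hUI]
    intro hle
    apply hP'
    exact hle hfI


end RC3

end Groth.Agent.Lib.R2H4.RelCartierAvoid
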