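import Mathlib
import Groth.Prelude.Def_FrobAlg

/-!
# Basic facts on the relative Frobenius (universe polymorphic)
-/

set_option autoImplicit false

namespace Groth.Agent.Lib.R2H7.RelFrob

open TensorProduct FrobAlg

universe u v w

variable (p : ℕ) [Fact p.Prime] (A : Type u) [CommRing A] [CharP A p]
  (B : Type v) [CommRing B] [Algebra A B] [CharP B p]

theorem relFrob_tmul (b : B) (a : Twist p A) :
    relFrob p A B (b ⊗ₜ[A] a) = b ^ p * algebraMap A B ((toTwist p A).symm a) := by
  unfold FrobAlg.relFrob
  simp only [RingHom.coe_comp, Function.comp_apply, AlgHom.toRingHom_eq_coe, RingHom.coe_coe,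
    Algebra.TensorProduct.lift_tmul]
  rfl

theorem relFrob_tmul_one (b : B) : relFrob p A B (b ⊗ₜ[A] (1 : Twist p A)) = b ^ p := by
  rw [relFrob_tmul, map_one, map_one, mul_one]

theorem relFrob_one_tmul (a : Twist p A) :
    relFrob p A B ((1 : B) ⊗ₜ[A] a) = algebraMap A B ((toTwist p A).symm a) := by
  rw [relFrob_tmul, one_pow, one_mul]

theorem natCast_baseChange_eq_zero : ((p : ℕ) : BaseChange p A B) = 0 := by
  have h1 : ((p : ℕ) : BaseChange p A B) = ((p : ℕ) : B) ⊗ₜ[A] (1 : Twist p A) := by
    have h1 : ((p : ℕ) : BaseChange p A B) =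
        algebraMap B (BaseChange p A B) ((p : ℕ) : B) := (map_natCast _ p).symm
    rw [h1, Algebra.TensorProduct.algebraMap_apply, Algebra.algebraMap_self, RingHom.id_apply]
  rw [h1, CharP.cast_eq_zero, zero_tmul]

theorem charP_baseChange : CharP (BaseChange p A B) p := by
  constructor
  intro n
  constructor
  · intro h
    have := congrArg (relFrob p A B) h
    rw [map_natCast, map_zero] at this
    exact (CharP.cast_eq_zero_iff B p n).1 this
  · rintro ⟨k, rfl⟩
    rw [Nat.cast_mul, natCast_baseChange_eq_zero, zero_mul]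

theorem twist_pow (a : Twist p A) :
    a ^ p = algebraMap A (Twist p A) ((toTwist p A).symm a) := by
  rw [FrobAlg.algebraMap_twist]
  rfl

/-- the `p`-th power in the Frobenius twist -/
theorem pow_eq_relFrob_tmul (x : BaseChange p A B) :
    x ^ p = (relFrob p A B x) ⊗ₜ[A] (1 : Twist p A) := by
  haveI := charP_baseChange p A B
  have hp : p.Prime := Fact.out
  induction x using TensorProduct.induction_on with
  | zero => simp [zero_pow hp.ne_zero]
  | tmul b a =>
    rw [relFrob_tmul, Algebra.TensorProduct.tmul_pow, twist_pow, Algebra.algebraMap_eq_smul_one,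
      ← TensorProduct.smul_tmul, Algebra.smul_def, mul_comm]
  | add x y hx hy =>
    rw [add_pow_char, hx, hy, map_add, TensorProduct.add_tmul]

theorem relFrob_ker_pow (x : BaseChange p A B) (hx : relFrob p A B x = 0) : x ^ p = 0 := by
  rw [pow_eq_relFrob_tmul, hx, zero_tmul]

/-- naturality of the relative Frobenius -/
theorem relFrob_natural (B₂ : Type w) [CommRing B₂] [Algebra A B₂] [CharP B₂ p]
    (g : B →ₐ[A] B₂) (x : BaseChange p A B) :
    relFrob p A B₂ (Algebra.TensorProduct.map g (AlgHom.id A (Twist p A)) x) =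
      g (relFrob p A B x) := by
  induction x using TensorProduct.induction_on with
  | zero => simp
  | tmul b a =>
    rw [Algebra.TensorProduct.map_tmul, relFrob_tmul, relFrob_tmul, map_mul, map_pow,
      AlgHom.commutes]
    rfl
  | add x y hx hy => rw [map_add, map_add, hx, hy, map_add, map_add]

end Groth.Agent.Lib.R2H7.RelFrob
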