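import Mathlib

/-!
# The monomials with exponents `< p` form a basis of `K[X₁..Xₙ]` over any ring mapping onto
`K[X₁ᵖ..Xₙᵖ]` compatibly with monomial bases
-/

set_option autoImplicit false
set_option linter.style.haveILetI false

namespace Groth.Agent.Lib.R2H7.RelFrob

open MvPolynomial

universe u v w

/-- division with remainder on exponent vectors -/
noncomputable def divModEquiv (σ : Type v) [Finite σ] (p : ℕ) (hp : 0 < p) :
    (σ → Fin p) × (σ →₀ ℕ) ≃ (σ →₀ ℕ) where
  toFun x := p • x.2 + Finsupp.equivFunOnFinite.symm (fun i => ((x.1 i : Fin p) : ℕ))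
  invFun m := (fun i => ⟨m i % p, Nat.mod_lt _ hp⟩, Finsupp.mapRange (· / p) (Nat.zero_div p) m)
  left_inv := by
    rintro ⟨e, m⟩
    refine Prod.ext ?_ ?_
    · funext i
      apply Fin.ext
      simp only [Finsupp.coe_add, Finsupp.coe_smul, Pi.add_apply, Pi.smul_apply, smul_eq_mul,
        Finsupp.coe_equivFunOnFinite_symm]
      rw [Nat.mul_add_mod, Nat.mod_eq_of_lt (e i).2]
    · ext i
      simp only [Finsupp.mapRange_apply, Finsupp.coe_add, Finsupp.coe_smul, Pi.add_apply,
        Pi.smul_apply, smul_eq_mul, Finsupp.coe_equivFunOnFinite_symm]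
      rw [Nat.mul_add_div hp, Nat.div_eq_of_lt (e i).2, add_zero]
  right_inv := by
    intro m
    ext i
    simp only [Finsupp.coe_add, Finsupp.coe_smul, Pi.add_apply, Pi.smul_apply, smul_eq_mul,
      Finsupp.coe_equivFunOnFinite_symm, Finsupp.mapRange_apply]
    exact Nat.div_add_mod (m i) p

theorem divModEquiv_apply (σ : Type v) [Finite σ] (p : ℕ) (hp : 0 < p) (e : σ → Fin p)
    (m : σ →₀ ℕ) : divModEquiv σ p hp (e, m) =
      p • m + Finsupp.equivFunOnFinite.symm (fun i => ((e i : Fin p) : ℕ)) := rfl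

variable {K : Type u} [CommRing K] {σ : Type v} [Finite σ] (p : ℕ) (hp : 0 < p)
  {S : Type w} [CommRing S] (φ : S →+* MvPolynomial σ K) (β : ((σ →₀ ℕ) →₀ K) ≃+ S)

/-- the small monomials -/
noncomputable def smallMonomial (e : σ → Fin p) : MvPolynomial σ K :=
  monomial (Finsupp.equivFunOnFinite.symm (fun i => ((e i : Fin p) : ℕ))) (1 : K)

include hp in
theorem smallMonomial_bijective
    (hβ : ∀ m a, φ (β (Finsupp.single m a)) = monomial (p • m) a) :
    letI := φ.toAlgebra
    Function.Bijective (Finsupp.linearCombination S (smallMonomial (K := K) (σ := σ) p)) := by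
  letI := φ.toAlgebra
  set Ψ := Finsupp.linearCombination S (smallMonomial (K := K) (σ := σ) p) with hΨ
  let e1 : ((σ → Fin p) × (σ →₀ ℕ) →₀ K) ≃+ ((σ → Fin p) →₀ ((σ →₀ ℕ) →₀ K)) :=
    Finsupp.curryAddEquiv
  let e2 : ((σ → Fin p) →₀ ((σ →₀ ℕ) →₀ K)) ≃+ ((σ → Fin p) →₀ S) :=
    Finsupp.mapRange.addEquiv β
  let e3 : ((σ → Fin p) × (σ →₀ ℕ) →₀ K) ≃+ MvPolynomial σ K :=
    ((Finsupp.domLCongr (divModEquiv σ p hp)).trans (basisMonomials σ K).repr.symm).toAddEquiv
  have key : (Ψ.toAddMonoidHom.comp (e2.toAddMonoidHom.comp e1.toAddMonoidHom)) =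
      e3.toAddMonoidHom := by
    apply Finsupp.addHom_ext
    rintro ⟨e, m⟩ a
    have h1 : e1 (Finsupp.single (e, m) a) = Finsupp.single e (Finsupp.single m a) := by
      change (Finsupp.single (e, m) a).curry = _
      rw [Finsupp.curry_single]
    have h2 : e2 (Finsupp.single e (Finsupp.single m a)) =
        Finsupp.single e (β (Finsupp.single m a)) := by
      change Finsupp.mapRange β (map_zero β) _ = _
      rw [Finsupp.mapRange_single]
    have h3 : e3 (Finsupp.single (e, m) a) = monomial (divModEquiv σ p hp (e, m)) a := by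
      change (basisMonomials σ K).repr.symm
        (Finsupp.domLCongr (divModEquiv σ p hp) (Finsupp.single (e, m) a)) = _
      rw [Finsupp.domLCongr_single, Module.Basis.repr_symm_single, coe_basisMonomials,
        smul_monomial, smul_eq_mul, mul_one]
    change Ψ (e2 (e1 (Finsupp.single (e, m) a))) = e3 (Finsupp.single (e, m) a)
    rw [h1, h2, h3, hΨ, Finsupp.linearCombination_single, Algebra.smul_def,
      RingHom.algebraMap_toAlgebra, hβ, smallMonomial, monomial_mul, mul_one, divModEquiv_apply]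
  have key' : ∀ x, Ψ x = e3 (e1.symm (e2.symm x)) := by
    intro x
    have := DFunLike.congr_fun key (e1.symm (e2.symm x))
    simpa using this
  have hfun : (Ψ : ((σ → Fin p) →₀ S) → MvPolynomial σ K) = e3 ∘ e1.symm ∘ e2.symm := by
    funext x
    exact key' x
  rw [hfun]
  exact e3.bijective.comp (e1.symm.bijective.comp e2.symm.bijective)

end Groth.Agent.Lib.R2H7.RelFrob
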