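import Mathlib
import Groth.Prelude.Def_FrobAlg
import Groth.Agent.Lib.R2H7RelFrobBasic
import Groth.Agent.Lib.R2H7ExpandBasis

/-!
# The relative Frobenius of a polynomial ring is free of rank `p ^ n`
-/

set_option autoImplicit false
set_option linter.style.haveILetI false

namespace Groth.Agent.Lib.R2H7.RelFrob

open TensorProduct FrobAlg MvPolynomial

universe u v

variable (p : ℕ) [Fact p.Prime] (A : Type u) [CommRing A] [CharP A p] (σ : Type v) [Finite σ]

/-- the additive identification of the Frobenius twist of the polynomial ring with finitely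
supported families of coefficients -/
noncomputable def betaEquiv : ((σ →₀ ℕ) →₀ A) ≃+ BaseChange p A (MvPolynomial σ A) :=
  (Finsupp.mapRange.addEquiv (toTwist p A).toAddEquiv).trans
    (((basisMonomials σ (Twist p A)).repr.symm.toAddEquiv).trans
      (((algebraTensorAlgEquiv (σ := σ) A (Twist p A)).symm.toLinearEquiv.toAddEquiv).trans
        (TensorProduct.comm A (Twist p A) (MvPolynomial σ A)).toAddEquiv))

theorem betaEquiv_single (m : σ →₀ ℕ) (a : A) :
    betaEquiv p A σ (Finsupp.single m a) = (monomial m (1 : A)) ⊗ₜ[A] (toTwist p A a) := by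
  change (TensorProduct.comm A (Twist p A) (MvPolynomial σ A))
    ((algebraTensorAlgEquiv (σ := σ) A (Twist p A)).symm
      ((basisMonomials σ (Twist p A)).repr.symm
        (Finsupp.mapRange (toTwist p A) (map_zero _) (Finsupp.single m a)))) = _
  rw [Finsupp.mapRange_single, Module.Basis.repr_symm_single, coe_basisMonomials, smul_monomial,
    smul_eq_mul, mul_one, algebraTensorAlgEquiv_symm_monomial, TensorProduct.comm_tmul]

theorem relFrob_betaEquiv_single (m : σ →₀ ℕ) (a : A) :
    relFrob p A (MvPolynomial σ A) (betaEquiv p A σ (Finsupp.single m a)) =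
      monomial (p • m) a := by
  rw [betaEquiv_single, relFrob_tmul, RingEquiv.symm_apply_apply, monomial_pow, one_pow,
    MvPolynomial.algebraMap_eq, C_apply, monomial_mul, add_zero, one_mul]

/-- the small monomials generate freely -/
theorem relFrob_mvPolynomial_bijective :
    letI := (relFrob p A (MvPolynomial σ A)).toAlgebra
    Function.Bijective (Finsupp.linearCombination (BaseChange p A (MvPolynomial σ A))
      (smallMonomial (K := A) (σ := σ) p)) :=
  smallMonomial_bijective p (Fact.out : p.Prime).pos (relFrob p A (MvPolynomial σ A))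
    (betaEquiv p A σ) (relFrob_betaEquiv_single p A σ)

/-- the basis of small monomials of the polynomial ring over its Frobenius twist -/
noncomputable def relFrobBasis :
    letI := (relFrob p A (MvPolynomial σ A)).toAlgebra
    Module.Basis (σ → Fin p) (BaseChange p A (MvPolynomial σ A)) (MvPolynomial σ A) :=
  letI := (relFrob p A (MvPolynomial σ A)).toAlgebra
  Module.Basis.ofRepr (LinearEquiv.ofBijective _ (relFrob_mvPolynomial_bijective p A σ)).symm

theorem relFrob_mvPolynomial_flat : (relFrob p A (MvPolynomial σ A)).Flat := by
  letI := (relFrob p A (MvPolynomial σ A)).toAlgebra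
  haveI : Module.Free (BaseChange p A (MvPolynomial σ A)) (MvPolynomial σ A) :=
    Module.Free.of_basis (relFrobBasis p A σ)
  change Module.Flat (BaseChange p A (MvPolynomial σ A)) (MvPolynomial σ A)
  infer_instance

end Groth.Agent.Lib.R2H7.RelFrob
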