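import Mathlib

/-!
# A radicial étale ring map is bijective (universe polymorphic)
-/

set_option autoImplicit false

namespace Groth.Agent.Lib.R2H7.RelFrob

open TensorProduct

universe u v

/-- A formally unramified, essentially finite type algebra in which every `p`-th power comes from
the base (and `p = 0`) has injective multiplication map `S ⊗[R] S → S`. -/
theorem lmul_injective_of_radicial (p : ℕ) (hp : p.Prime) (R : Type u) (S : Type v) [CommRing R]
    [CommRing S] [Algebra R S] [Algebra.FormallyUnramified R S] [Algebra.EssFiniteType R S]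
    (hp0 : (p : S) = 0) (hrad : ∀ s : S, ∃ r : R, algebraMap R S r = s ^ p) :
    Function.Injective (Algebra.TensorProduct.lmul' R : S ⊗[R] S →ₐ[R] S) := by
  rcases subsingleton_or_nontrivial (S ⊗[R] S) with hsub | hnt
  · intro x y _; exact Subsingleton.elim _ _
  have hp0' : ((p : ℕ) : S ⊗[R] S) = 0 := by
    have : ((p : ℕ) : S ⊗[R] S) = algebraMap S (S ⊗[R] S) (p : S) := (map_natCast _ p).symm
    rw [this, hp0, map_zero]
  haveI : Fact p.Prime := ⟨hp⟩
  haveI : CharP (S ⊗[R] S) p := (CharP.charP_iff_prime_eq_zero hp).mpr hp0'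
  have hnil : ∀ s : S, ((1 : S) ⊗ₜ[R] s - s ⊗ₜ[R] (1 : S)) ^ p = 0 := by
    intro s
    obtain ⟨r, hr⟩ := hrad s
    rw [sub_pow_char, Algebra.TensorProduct.tmul_pow, Algebra.TensorProduct.tmul_pow, one_pow,
      ← hr, Algebra.algebraMap_eq_smul_one, TensorProduct.tmul_smul, TensorProduct.smul_tmul',
      sub_self]
  let t := Algebra.FormallyUnramified.elem R S
  have hI : ∀ x ∈ KaehlerDifferential.ideal R S, IsNilpotent x ∧ x * t = 0 := by
    intro x hx
    rw [← KaehlerDifferential.span_range_eq_ideal] at hx
    induction hx using Submodule.span_induction with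
    | mem x hx =>
      obtain ⟨s, rfl⟩ := hx
      exact ⟨⟨p, hnil s⟩, Algebra.FormallyUnramified.one_tmul_sub_tmul_one_mul_elem s⟩
    | zero => exact ⟨IsNilpotent.zero, zero_mul _⟩
    | add x y _ _ hx hy =>
      exact ⟨Commute.isNilpotent_add (Commute.all _ _) hx.1 hy.1,
        by rw [add_mul, hx.2, hy.2, add_zero]⟩
    | smul a x _ hx =>
      exact ⟨by rw [smul_eq_mul]; exact Commute.isNilpotent_mul_left (Commute.all _ _) hx.1,
        by rw [smul_eq_mul, mul_assoc, hx.2, mul_zero]⟩
  have h1t : (1 - t) ∈ KaehlerDifferential.ideal R S := by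
    change _ ∈ RingHom.ker _
    rw [RingHom.mem_ker, map_sub, map_one]
    change 1 - Algebra.TensorProduct.lmul' R t = 0
    rw [Algebra.FormallyUnramified.lmul_elem, sub_self]
  have htunit : IsUnit t := by
    have := (hI _ h1t).1.isUnit_one_sub
    rwa [sub_sub_cancel] at this
  rw [injective_iff_map_eq_zero]
  intro x hx
  have hxI : x ∈ KaehlerDifferential.ideal R S := hx
  have := (hI x hxI).2
  exact (htunit.mul_left_eq_zero).mp this

/-- A faithfully flat ring map with injective multiplication `S ⊗[R] S → S` is bijective. -/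
theorem bijective_of_faithfullyFlat_of_lmul_injective (R : Type u) (S : Type v) [CommRing R]
    [CommRing S] [Algebra R S] [Module.FaithfullyFlat R S]
    (h : Function.Injective (Algebra.TensorProduct.lmul' R : S ⊗[R] S →ₐ[R] S)) :
    Function.Bijective (algebraMap R S) := by
  let f : R →ₗ[R] S := Algebra.linearMap R S
  have hbij : Function.Bijective (f.lTensor S) := by
    have hcomp : ∀ s : S, f.lTensor S (s ⊗ₜ[R] (1 : R)) = s ⊗ₜ[R] (1 : S) := by
      intro s; simp [f]
    have hsurjR : ∀ y : S ⊗[R] R, ∃ s : S, y = s ⊗ₜ[R] (1 : R) := by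
      intro y
      refine ⟨TensorProduct.rid R S y, ?_⟩
      have := (TensorProduct.rid R S).symm_apply_apply y
      rw [TensorProduct.rid_symm_apply] at this
      exact this.symm
    constructor
    · intro y₁ y₂ hy
      obtain ⟨s₁, rfl⟩ := hsurjR y₁
      obtain ⟨s₂, rfl⟩ := hsurjR y₂
      rw [hcomp, hcomp] at hy
      have := congrArg (Algebra.TensorProduct.lmul' R : S ⊗[R] S →ₐ[R] S) hy
      simp only [Algebra.TensorProduct.lmul'_apply_tmul, mul_one] at this
      rw [this]
    · intro z
      refine ⟨(Algebra.TensorProduct.lmul' R z) ⊗ₜ[R] (1 : R), ?_⟩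
      rw [hcomp]
      apply h
      simp
  have := (Module.FaithfullyFlat.lTensor_bijective_iff_bijective R S f).mp hbij
  exact this

/-- A flat, radicial ring map of characteristic `p` whose kernel consists of nilpotents, which is
formally unramified and essentially of finite type, is bijective. -/
theorem bijective_of_flat_of_unramified_of_radicial (p : ℕ) (hp : p.Prime) (R : Type u) (S : Type v)
    [CommRing R] [CommRing S] [Algebra R S] [Module.Flat R S] [Algebra.FormallyUnramified R S]
    [Algebra.EssFiniteType R S] (hp0 : (p : S) = 0)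
    (hrad : ∀ s : S, ∃ r : R, algebraMap R S r = s ^ p)
    (hker : ∀ r : R, algebraMap R S r = 0 → IsNilpotent r) :
    Function.Bijective (algebraMap R S) := by
  haveI : Algebra.IsIntegral R S := ⟨fun s => by
    obtain ⟨r, hr⟩ := hrad s
    refine ⟨Polynomial.X ^ p - Polynomial.C r, Polynomial.monic_X_pow_sub_C _ hp.ne_zero, ?_⟩
    rw [Polynomial.eval₂_sub, Polynomial.eval₂_pow, Polynomial.eval₂_X, Polynomial.eval₂_C, hr,
      sub_self]⟩
  have hsurj : Function.Surjective (PrimeSpectrum.comap (algebraMap R S)) := by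
    intro P
    have hle : (⊥ : Ideal S).comap (algebraMap R S) ≤ P.asIdeal := by
      intro x hx
      have hx0 : algebraMap R S x = 0 := hx
      obtain ⟨n, hn⟩ := hker x hx0
      exact P.2.mem_of_pow_mem n (hn ▸ P.asIdeal.zero_mem)
    obtain ⟨Q, -, hQ, hQP⟩ := Ideal.exists_ideal_over_prime_of_isIntegral P.asIdeal ⊥ hle
    exact ⟨⟨Q, hQ⟩, PrimeSpectrum.ext hQP⟩
  haveI : Module.FaithfullyFlat R S := Module.FaithfullyFlat.of_comap_surjective hsurj
  exact bijective_of_faithfullyFlat_of_lmul_injective R S
    (lmul_injective_of_radicial p hp R S hp0 hrad)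

end Groth.Agent.Lib.R2H7.RelFrob
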