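import Mathlib
import Groth.Prelude.Def_FrobAlg
import Groth.Agent.Lib.R2H7RelFrobBasic
import Groth.Agent.Lib.R2H7RadicialEtale

/-!
# The relative Frobenius of an étale algebra is bijective (universe polymorphic)
-/

set_option autoImplicit false
set_option linter.style.haveILetI false

namespace Groth.Agent.Lib.R2H7.RelFrob

open TensorProduct FrobAlg

universe u v

theorem relFrob_bijective_of_etale (p : ℕ) [Fact p.Prime] (A : Type u) [CommRing A] [CharP A p]
    (B : Type v) [CommRing B] [Algebra A B] [CharP B p] [Algebra.Etale A B] :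
    Function.Bijective (FrobAlg.relFrob p A B) := by
  have hp : p.Prime := Fact.out
  let T := FrobAlg.Twist p A
  let B' := FrobAlg.BaseChange p A B
  let e : A ≃+* T := FrobAlg.toTwist p A
  letI algTB : Algebra T B := ((algebraMap A B).comp (e.symm : T →+* A)).toAlgebra
  letI algTA : Algebra T A := (e.symm : T →+* A).toAlgebra
  haveI : IsScalarTower T A B := IsScalarTower.of_algebraMap_eq (fun _ => rfl)
  have hTA : Algebra.Etale T A :=
    Algebra.Etale.of_equiv (AlgEquiv.ofRingEquiv (f := e.symm) (fun _ => rfl) : T ≃ₐ[T] A)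
  have hTB : Algebra.Etale T B := Algebra.Etale.comp T A B
  have hTB' : Algebra.Etale T B' := Algebra.Etale.of_equiv (Algebra.TensorProduct.commRight A T B)
  letI algB'B : Algebra B' B := (FrobAlg.relFrob p A B).toAlgebra
  have htower : ∀ t : T, algebraMap T B t = algebraMap B' B (algebraMap T B' t) := by
    intro t
    change algebraMap A B (e.symm t) = FrobAlg.relFrob p A B ((1 : B) ⊗ₜ[A] t)
    rw [relFrob_tmul, one_pow, one_mul]
  haveI tower : @IsScalarTower T B' B Algebra.toSMul Algebra.toSMul Algebra.toSMul :=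
    IsScalarTower.of_algebraMap_eq htower
  haveI : Algebra.Etale B' B := Algebra.Etale.of_restrictScalars T B' B
  haveI : Module.Flat B' B := inferInstance
  have hrad : ∀ s : B, ∃ r : B', algebraMap B' B r = s ^ p := fun s =>
    ⟨s ⊗ₜ[A] (1 : T), relFrob_tmul_one p A B s⟩
  have hp0 : ((p : ℕ) : B) = 0 := CharP.cast_eq_zero B p
  exact bijective_of_flat_of_unramified_of_radicial p hp B' B hp0 hrad
    (fun r hr => ⟨p, relFrob_ker_pow p A B r hr⟩)

end Groth.Agent.Lib.R2H7.RelFrob
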