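import Mathlib
import Groth.Prelude.Def_FrobAlg
import Groth.Agent.Lib.R2H7RelFrobBasic
import Groth.Agent.Lib.R2H7RelFrobEtale

/-!
# The relative Frobenius of an étale `C`-algebra `B` (over a base `A`) is the base change of the
relative Frobenius of `C` over `A`
-/

set_option autoImplicit false

namespace Groth.Agent.Lib.R2H7.RelFrob

open TensorProduct FrobAlg

universe u v w

namespace Tower

variable (p : ℕ) [Fact p.Prime] (A : Type u) [CommRing A] [CharP A p]
  (C : Type v) [CommRing C] [Algebra A C] [CharP C p]
  (B : Type w) [CommRing B] [Algebra A B] [CharP B p] [Algebra C B] [IsScalarTower A C B]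

/-- the map `C ⊗ T → B ⊗ T` -/
noncomputable def mapBC : BaseChange p A C →ₐ[A] BaseChange p A B :=
  Algebra.TensorProduct.map (IsScalarTower.toAlgHom A C B) (AlgHom.id A (Twist p A))

/-- `B ⊗ T` as an algebra over `C ⊗ T` -/
@[reducible] noncomputable def algC'B' : Algebra (BaseChange p A C) (BaseChange p A B) :=
  (mapBC p A C B).toRingHom.toAlgebra

/-- the twisted copy of `C` as an algebra over `C ⊗ T` through the relative Frobenius -/
@[reducible] noncomputable def algC'TC : Algebra (BaseChange p A C) (Twist p C) :=
  ((toTwist p C : C →+* Twist p C).comp (relFrob p A C)).toAlgebra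

/-- the target copy of `B` as an algebra over `B ⊗ T` through the relative Frobenius -/
@[reducible] noncomputable def algB'TB : Algebra (BaseChange p A B) (Target p C B) :=
  ((toTarget p C B : B →+* Target p C B).comp (relFrob p A B)).toAlgebra

/-- the target copy of `B` as an algebra over the twisted copy of `C` -/
@[reducible] noncomputable def algTCTB : Algebra (Twist p C) (Target p C B) :=
  (inclHom p C B).toRingHom.toAlgebra

/-- the target copy of `B` as an algebra over `B` through the Frobenius -/
@[reducible] noncomputable def algBTB : Algebra B (Target p C B) :=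
  (frobHom p C B).toRingHom.toAlgebra

/-- the target copy of `B` as an algebra over `C ⊗ T` -/
@[reducible] noncomputable def algC'TB : Algebra (BaseChange p A C) (Target p C B) :=
  (((inclHom p C B).toRingHom.comp (toTwist p C : C →+* Twist p C)).comp (relFrob p A C)).toAlgebra

end Tower

section

variable (p : ℕ) [Fact p.Prime] (A : Type u) [CommRing A] [CharP A p]
  (C : Type v) [CommRing C] [Algebra A C] [CharP C p]
  (B : Type w) [CommRing B] [Algebra A B] [CharP B p] [Algebra C B] [IsScalarTower A C B]

attribute [local instance] Tower.algC'B' Tower.algC'TC Tower.algB'TB Tower.algTCTB Tower.algBTB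
  Tower.algC'TB

theorem algebraMap_C'B' (x : BaseChange p A C) :
    algebraMap (BaseChange p A C) (BaseChange p A B) x = Tower.mapBC p A C B x := rfl

theorem algebraMap_C'TC (x : BaseChange p A C) :
    algebraMap (BaseChange p A C) (Twist p C) x = toTwist p C (relFrob p A C x) := rfl

theorem algebraMap_B'TB (x : BaseChange p A B) :
    algebraMap (BaseChange p A B) (Target p C B) x = toTarget p C B (relFrob p A B x) := rfl

theorem algebraMap_TCTB (x : Twist p C) :
    algebraMap (Twist p C) (Target p C B) x =
      toTarget p C B (algebraMap C B ((toTwist p C).symm x)) := rfl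

theorem algebraMap_BTB (x : B) :
    algebraMap B (Target p C B) x = toTarget p C B (x ^ p) := rfl

theorem algebraMap_C'TB (x : BaseChange p A C) :
    algebraMap (BaseChange p A C) (Target p C B) x =
      toTarget p C B (algebraMap C B (relFrob p A C x)) := rfl

instance tower1 : IsScalarTower C (BaseChange p A C) (Twist p C) :=
  IsScalarTower.of_algebraMap_eq (fun c => by
    rw [algebraMap_C'TC, Algebra.TensorProduct.algebraMap_apply, Algebra.algebraMap_self,
      RingHom.id_apply, relFrob_tmul_one, FrobAlg.algebraMap_twist])

instance tower3 : IsScalarTower C (BaseChange p A C) (BaseChange p A B) :=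
  IsScalarTower.of_algebraMap_eq (fun c => by
    rw [algebraMap_C'B', Algebra.TensorProduct.algebraMap_apply,
      Algebra.TensorProduct.algebraMap_apply, Algebra.algebraMap_self,
      RingHom.id_apply, Tower.mapBC, Algebra.TensorProduct.map_tmul]
    rfl)

instance tower4 : IsScalarTower C (Twist p C) (Target p C B) :=
  IsScalarTower.of_algebraMap_eq (fun c => ((inclHom p C B).commutes c).symm)

instance tower5 : IsScalarTower (BaseChange p A C) (Twist p C) (Target p C B) :=
  IsScalarTower.of_algebraMap_eq (fun _ => rfl)

instance tower6 : IsScalarTower (BaseChange p A C) (BaseChange p A B) (Target p C B) :=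
  IsScalarTower.of_algebraMap_eq (fun x => by
    rw [algebraMap_C'TB, algebraMap_B'TB, algebraMap_C'B', Tower.mapBC, relFrob_natural]
    rfl)

instance tower7 : IsScalarTower C B (Target p C B) :=
  IsScalarTower.of_algebraMap_eq (fun c => ((frobHom p C B).commutes c).symm)

instance tower9 : IsScalarTower B (BaseChange p A B) (Target p C B) :=
  IsScalarTower.of_algebraMap_eq (fun b => by
    rw [algebraMap_BTB, algebraMap_B'TB, Algebra.TensorProduct.algebraMap_apply,
      Algebra.algebraMap_self, RingHom.id_apply, relFrob_tmul_one])

instance tower8 : IsScalarTower C (BaseChange p A B) (Target p C B) :=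
  IsScalarTower.of_algebraMap_eq (fun c => by
    rw [IsScalarTower.algebraMap_apply C B (BaseChange p A B),
      ← IsScalarTower.algebraMap_apply B (BaseChange p A B) (Target p C B),
      ← IsScalarTower.algebraMap_apply C B (Target p C B)])

/-- the left square: `B ⊗ T` is the base change of `B` along `C → C ⊗ T` -/
theorem isPushout_left :
    Algebra.IsPushout C (BaseChange p A C) B (BaseChange p A B) := by
  have h : Algebra.IsPushout C B (BaseChange p A C) (BaseChange p A B) := by
    apply Algebra.IsPushout.tensorProduct_tensorProduct A (Twist p A) C B
    ext t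
    change Tower.mapBC p A C B ((1 : C) ⊗ₜ[A] t) = (1 : B) ⊗ₜ[A] t
    rw [Tower.mapBC, Algebra.TensorProduct.map_tmul, map_one]
    rfl
  exact h.symm

/-- the relative Frobenius of `B` over `C` as a `B`-algebra isomorphism -/
noncomputable def relFrobEquiv [Algebra.Etale C B] :
    BaseChange p C B ≃ₐ[B] Target p C B :=
  AlgEquiv.ofBijective
    { toRingHom := (toTarget p C B : B →+* Target p C B).comp (relFrob p C B)
      commutes' := fun b => by
        change toTarget p C B (relFrob p C B (algebraMap B (BaseChange p C B) b)) = _
        rw [Algebra.TensorProduct.algebraMap_apply, Algebra.algebraMap_self, RingHom.id_apply,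
          relFrob_tmul_one, algebraMap_BTB] }
    ((toTarget p C B).bijective.comp (relFrob_bijective_of_etale p C B))

theorem relFrobEquiv_apply [Algebra.Etale C B] (x : BaseChange p C B) :
    relFrobEquiv p C B x = toTarget p C B (relFrob p C B x) := rfl

/-- the outer rectangle: the target copy of `B` is the base change of `B` along the Frobenius of
`C`, for `B` étale over `C` -/
theorem isPushout_outer [Algebra.Etale C B] :
    Algebra.IsPushout C (Twist p C) B (Target p C B) := by
  have h0 : Algebra.IsPushout C B (Twist p C) (BaseChange p C B) := inferInstance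
  have h : Algebra.IsPushout C B (Twist p C) (Target p C B) := by
    refine Algebra.IsPushout.of_equiv (relFrobEquiv p C B) ?_
    ext t
    change relFrobEquiv p C B (algebraMap (Twist p C) (BaseChange p C B) t) = _
    rw [relFrobEquiv_apply, algebraMap_TCTB]
    change toTarget p C B (relFrob p C B ((1 : B) ⊗ₜ[C] t)) = _
    rw [relFrob_one_tmul]
  exact h.symm

/-- the right square: for `B` étale over `C`, the relative Frobenius of `B` over `A` is the base
change of the relative Frobenius of `C` over `A` -/
theorem isPushout_right [Algebra.Etale C B] :
    Algebra.IsPushout (BaseChange p A C) (Twist p C) (BaseChange p A B) (Target p C B) := by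
  haveI := isPushout_left p A C B
  exact (Algebra.IsPushout.comp_iff C (BaseChange p A C) B (BaseChange p A B) (T := Twist p C)
    (T' := Target p C B)).mp (isPushout_outer p C B)

/-- flatness of the relative Frobenius passes to étale algebras -/
theorem relFrob_flat_of_etale [Algebra.Etale C B] (h : (relFrob p A C).Flat) :
    (relFrob p A B).Flat := by
  have hC : ((toTwist p C : C →+* Twist p C).comp (relFrob p A C)).Flat :=
    RingHom.Flat.comp h (RingHom.Flat.of_bijective (toTwist p C).bijective)
  haveI hC' : Module.Flat (BaseChange p A C) (Twist p C) := hC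
  have hpo : Algebra.IsPushout (BaseChange p A C) (BaseChange p A B) (Twist p C) (Target p C B) :=
    (isPushout_right p A C B).symm
  have hB : Module.Flat (BaseChange p A B) (Target p C B) :=
    Module.Flat.isBaseChange (BaseChange p A C) (BaseChange p A B) (Twist p C) (Target p C B)
      hpo.out
  have hB' : ((toTarget p C B : B →+* Target p C B).comp (relFrob p A B)).Flat := hB
  exact (RingHom.Flat.comp_iff_of_bijective_left (toTarget p C B).bijective).mp hB'

end

end Groth.Agent.Lib.R2H7.RelFrob
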