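import Mathlib
import Groth.Prelude.Def_FrobAlg
import Groth.Agent.Lib.R2H7RelFrobBasic
import Groth.Agent.Lib.R2H7RelFrobPushout
import Groth.Agent.Lib.R2H7RelFrobPoly

/-!
# The relative Frobenius of a smooth algebra is flat
-/

set_option autoImplicit false
set_option linter.style.haveILetI false

namespace Groth.Agent.Lib.R2H7.RelFrob

open TensorProduct FrobAlg

universe u v

/-- the relative Frobenius of an algebra which is étale over a polynomial ring is flat -/
theorem relFrob_flat_of_etale_mvPolynomial (p : ℕ) [Fact p.Prime] (A : Type u) [CommRing A]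
    [CharP A p] (B : Type v) [CommRing B] [Algebra A B] [CharP B p] (n : ℕ)
    (g : MvPolynomial (Fin n) A →ₐ[A] B) (hg : g.toRingHom.Etale) :
    (relFrob p A B).Flat := by
  letI : Algebra (MvPolynomial (Fin n) A) B := g.toRingHom.toAlgebra
  haveI : IsScalarTower A (MvPolynomial (Fin n) A) B :=
    IsScalarTower.of_algebraMap_eq (fun a => (g.commutes a).symm)
  haveI : Algebra.Etale (MvPolynomial (Fin n) A) B := hg
  exact relFrob_flat_of_etale p A (MvPolynomial (Fin n) A) B
    (relFrob_mvPolynomial_flat p A (Fin n))

theorem relFrob_flat_of_isStandardSmooth (p : ℕ) [Fact p.Prime] (A : Type u) [CommRing A]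
    [CharP A p] (B : Type v) [CommRing B] [Algebra A B] [CharP B p]
    [Algebra.IsStandardSmooth A B] : (relFrob p A B).Flat := by
  obtain ⟨ι, σ, hσ, hι, ⟨P⟩⟩ := Algebra.IsStandardSmooth.out (R := A) (S := B)
  haveI : Algebra.IsStandardSmoothOfRelativeDimension P.dimension A B :=
    ⟨⟨ι, σ, hσ, hι, P, rfl⟩⟩
  obtain ⟨g, hg⟩ :=
    Algebra.IsStandardSmoothOfRelativeDimension.exists_etale_mvPolynomial P.dimension A B
  exact relFrob_flat_of_etale_mvPolynomial p A B P.dimension g hg

/-- flatness of a ring map can be checked on a cover of the target by basic opens -/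
theorem flat_of_span_target {R : Type u} {S : Type v} [CommRing R] [CommRing S] (f : R →+* S)
    (s : Set S) (hs : Ideal.span s = ⊤)
    (h : ∀ r : s, ((algebraMap S (Localization.Away (r : S))).comp f).Flat) : f.Flat := by
  letI := f.toAlgebra
  change Module.Flat R S
  refine Module.flat_of_isLocalized_span _ _ s hs _
    (fun r ↦ Algebra.linearMap S <| Localization.Away r.1) ?_
  intro r
  have h' := h r
  dsimp only [RingHom.Flat] at h'
  convert! h'; ext
  apply Algebra.smul_def

theorem relFrob_flat_of_smooth (p : ℕ) [Fact p.Prime] (A : Type u) [CommRing A]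
    [CharP A p] (B : Type v) [CommRing B] [Algebra A B] [CharP B p]
    [Algebra.Smooth A B] : (relFrob p A B).Flat := by
  have hp : p.Prime := Fact.out
  obtain ⟨s, hs, hstd⟩ := Algebra.Smooth.exists_span_eq_top_isStandardSmooth A B
  apply flat_of_span_target (relFrob p A B) s hs
  rintro ⟨r, hr⟩
  haveI : Algebra.IsStandardSmooth A (Localization.Away r) := hstd r hr
  rcases subsingleton_or_nontrivial (Localization.Away r) with hsub | hnt
  · letI := ((algebraMap B (Localization.Away r)).comp (relFrob p A B)).toAlgebra
    change Module.Flat (BaseChange p A B) (Localization.Away r)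
    infer_instance
  · have hp0 : ((p : ℕ) : Localization.Away r) = 0 := by
      rw [← map_natCast (algebraMap B (Localization.Away r)), CharP.cast_eq_zero, map_zero]
    haveI : CharP (Localization.Away r) p := (CharP.charP_iff_prime_eq_zero hp).mpr hp0
    have h1 : (relFrob p A (Localization.Away r)).Flat :=
      relFrob_flat_of_isStandardSmooth p A (Localization.Away r)
    have h2 : (Algebra.TensorProduct.map (IsScalarTower.toAlgHom A B (Localization.Away r))
        (AlgHom.id A (Twist p A))).toRingHom.Flat := by
      apply RingHom.Flat.tensorProductMap (S := A)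
      · change (algebraMap B (Localization.Away r)).Flat
        rw [RingHom.flat_algebraMap_iff]
        exact IsLocalization.flat _ (Submonoid.powers r)
      · exact RingHom.Flat.id _
    have h3 : (algebraMap B (Localization.Away r)).comp (relFrob p A B) =
        (relFrob p A (Localization.Away r)).comp
          (Algebra.TensorProduct.map (IsScalarTower.toAlgHom A B (Localization.Away r))
            (AlgHom.id A (Twist p A))).toRingHom := by
      refine RingHom.ext (fun x => ?_)
      exact (relFrob_natural p A B (Localization.Away r)
        (IsScalarTower.toAlgHom A B (Localization.Away r)) x).symm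
    rw [h3]
    exact RingHom.Flat.comp h2 h1

end Groth.Agent.Lib.R2H7.RelFrob
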