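import Mathlib
import Groth.Prelude.Def_LCI2
import Groth.Prelude.Def_RegImm
import Groth.Agent.Lib.R2LeadSyntI
import Groth.Agent.Lib.R2H3KzSection
import Groth.Agent.Lib.R2H3KzLCIEquiv

set_option autoImplicit false
set_option linter.style.haveILetI false
universe u

open CategoryTheory CategoryTheory.Limits AlgebraicGeometry

namespace Groth.Agent.Lib.R2LeadSyntR

/-- a morphism between smooth `S`-schemes is Koszul-lci at every point -/
theorem isKoszulAt_of_smooth_over {X Y S : Scheme.{u}} (p : X ⟶ S) (q : Y ⟶ S) [Smooth p] [Smooth q]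
    (f : X ⟶ Y) (hf : f ≫ q = p) (x : X) : Synt.IsKoszulAt f x := by
  let Γf : X ⟶ pullback p q := pullback.lift (𝟙 X) f (by rw [Category.id_comp, hf])
  have hsec : Γf ≫ pullback.fst p q = 𝟙 X := pullback.lift_fst _ _ _
  have hsnd : Γf ≫ pullback.snd p q = f := pullback.lift_snd _ _ _
  haveI : Smooth (pullback.fst p q) := MorphismProperty.pullback_fst _ _ inferInstance
  haveI : Smooth (pullback.snd p q) := MorphismProperty.pullback_snd _ _ inferInstance
  have hreg : RegImm.IsRegularImmersion .koszul Γf :=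
    Groth.Agent.Lib.R2H3.KzSection.isRegularImmersion_section_koszul (pullback.fst p q) Γf hsec
  haveI : IsImmersion Γf := hreg.1
  have hlft : LocallyOfFiniteType f := by
    rw [← hsnd]
    infer_instance
  refine ⟨⊤, pullback p q, (⊤ : X.Opens).ι ≫ Γf, pullback.snd p q, trivial, inferInstance,
    Groth.Agent.Lib.R2H3.KzLCIEquiv.koszul_openImmersion_comp _ _ hreg, inferInstance, ?_⟩
  rw [Category.assoc, hsnd]

theorem main {X Y S : Scheme.{u}}
    (p : X ⟶ S) (q : Y ⟶ S) [Smooth p] [Smooth q] (f : X ⟶ Y) (hf : f ≫ q = p) [Flat f] :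
    Synt.IsSyntomicMor f :=
  Groth.Agent.Lib.R2LeadSyntI.isSyntomicMor_of_flat_of_isKoszulAt f
    (isKoszulAt_of_smooth_over p q f hf)

end Groth.Agent.Lib.R2LeadSyntR
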