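import Mathlib
import Groth.Prelude.Def_Frob
import Groth.Prelude.Def_FrobAlg
import Groth.Prelude.Def_RegImm
import Groth.Agent.Lib.Helper20Perfection
import Groth.Agent.Lib.R2H7RelFrobSmooth
import Groth.Agent.Lib.R2LeadSyntR

/-!
# The relative Frobenius of a smooth morphism is flat and syntomic (helper4, round 2)

`relFrob_natural`: naturality of `FrobSch.relFrob` in commutative squares.
`twistIso`, `relFrob_Spec`: for `Spec B → Spec A` the scheme-level relative Frobenius is `Spec` of
the ring-level `FrobAlg.relFrob` (bridge to helper7's ring-level theory).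
`flat_relFrob`: `relFrob f p` is flat for smooth `f`.  `main15541`: it is syntomic.
-/

set_option autoImplicit false
set_option linter.style.haveILetI false
universe u

namespace Groth.Agent.Lib.R2H4.RelFrobFlat

open AlgebraicGeometry CategoryTheory CategoryTheory.Limits FrobSch TensorProduct

section Natural

variable (p : ℕ) [Fact p.Prime]

/-- naturality of the relative Frobenius in commutative squares -/
theorem relFrob_natural {X S X' S' : Scheme.{u}} [IsCharP S p] [IsCharP S' p]
    (f : X ⟶ S) (f' : X' ⟶ S') (iX : X' ⟶ X) (iS : S' ⟶ S) (h : f' ≫ iS = iX ≫ f) :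
    iX ≫ relFrob f p = relFrob f' p ≫
      pullback.map f' (frob S' p) f (frob S p) iX iS iS h (frob_comp p iS) := by
  haveI : IsCharP X p := IsCharP.of_hom f p
  haveI : IsCharP X' p := IsCharP.of_hom f' p
  apply pullback.hom_ext
  · rw [Category.assoc, relFrob_fst, Category.assoc, pullback.lift_fst, relFrob_fst_assoc,
      frob_comp]
  · rw [Category.assoc, relFrob_snd, Category.assoc, pullback.lift_snd, relFrob_snd_assoc, h]

end Natural

section SpecBridge

variable (p : ℕ) [Fact p.Prime] (A B : Type u) [CommRing A] [CommRing B] [Algebra A B]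
  [CharP A p] [CharP B p]

/-- the Frobenius of `Spec A` as `Spec` of the structure map of the Frobenius-twisted copy -/
theorem frob_Spec_twist :
    frob (Spec (CommRingCat.of A)) p =
      (Spec.map (CommRingCat.ofHom (algebraMap A (FrobAlg.Twist p A))) :
        Spec (CommRingCat.of A) ⟶ Spec (CommRingCat.of A)) := by
  rw [Groth.Agent.Lib.Helper20.Perfection.frob_Spec p (CommRingCat.of A) (CharP.cast_eq_zero A p)]
  rfl

/-- comparison of the Frobenius twist of `Spec B` with `Spec` of the tensor product -/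
noncomputable def twistIso :
    pullback (Spec.map (CommRingCat.ofHom (algebraMap A B))) (frob (Spec (CommRingCat.of A)) p) ≅
      Spec (CommRingCat.of (B ⊗[A] FrobAlg.Twist p A)) :=
  pullback.congrHom rfl (frob_Spec_twist p A) ≪≫ pullbackSpecIso A B (FrobAlg.Twist p A)

theorem twistIso_inv_fst :
    (twistIso p A B).inv ≫ pullback.fst _ _ =
      Spec.map (CommRingCat.ofHom (Algebra.TensorProduct.includeLeftRingHom :
        B →+* B ⊗[A] FrobAlg.Twist p A)) := by
  rw [twistIso, Iso.trans_inv, Category.assoc, pullback.congrHom_inv, pullback.lift_fst,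
    Category.comp_id]
  exact pullbackSpecIso_inv_fst A B (FrobAlg.Twist p A)

theorem twistIso_inv_snd :
    (twistIso p A B).inv ≫ pullback.snd _ _ =
      (Spec.map (CommRingCat.ofHom (Algebra.TensorProduct.includeRight.toRingHom :
        FrobAlg.Twist p A →+* B ⊗[A] FrobAlg.Twist p A)) :
        Spec (CommRingCat.of (B ⊗[A] FrobAlg.Twist p A)) ⟶ Spec (CommRingCat.of A)) := by
  rw [twistIso, Iso.trans_inv, Category.assoc, pullback.congrHom_inv, pullback.lift_snd,
    Category.comp_id]
  exact pullbackSpecIso_inv_snd A B (FrobAlg.Twist p A)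

/-- the relative Frobenius of `Spec B → Spec A` is `Spec` of the ring-level relative Frobenius -/
theorem relFrob_Spec :
    relFrob (Spec.map (CommRingCat.ofHom (algebraMap A B))) p =
      Spec.map (CommRingCat.ofHom (FrobAlg.relFrob p A B)) ≫ (twistIso p A B).inv := by
  apply pullback.hom_ext
  · rw [relFrob_fst, Category.assoc, twistIso_inv_fst, ← Spec.map_comp,
      Groth.Agent.Lib.Helper20.Perfection.frob_Spec p (CommRingCat.of B) (CharP.cast_eq_zero B p)]
    congr 1
    ext b
    change b ^ p = FrobAlg.relFrob p A B (b ⊗ₜ[A] (1 : FrobAlg.Twist p A))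
    rw [Groth.Agent.Lib.R2H7.RelFrob.relFrob_tmul_one]
  · rw [relFrob_snd, Category.assoc, twistIso_inv_snd]
    have h2 : (CommRingCat.ofHom (algebraMap A B) : CommRingCat.of A ⟶ CommRingCat.of B) =
        (CommRingCat.ofHom (Algebra.TensorProduct.includeRight.toRingHom :
          FrobAlg.Twist p A →+* B ⊗[A] FrobAlg.Twist p A) :
          CommRingCat.of A ⟶ CommRingCat.of (B ⊗[A] FrobAlg.Twist p A)) ≫
          CommRingCat.ofHom (FrobAlg.relFrob p A B) := by
      ext a
      change algebraMap A B a = FrobAlg.relFrob p A B ((1 : B) ⊗ₜ[A] (a : FrobAlg.Twist p A))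
      rw [Groth.Agent.Lib.R2H7.RelFrob.relFrob_one_tmul]
      rfl
    rw [h2, Spec.map_comp]

end SpecBridge

variable (p : ℕ) [Fact p.Prime]

/-- flatness of the relative Frobenius of a smooth morphism of affine schemes -/
theorem flat_relFrob_Spec (A B : CommRingCat.{u}) (φ : A ⟶ B) [CharP A p] [CharP B p]
    (hsm : φ.hom.Smooth) : Flat (relFrob (Spec.map φ) p) := by
  letI : Algebra A B := φ.hom.toAlgebra
  haveI : Algebra.Smooth A B := hsm
  have h1 : relFrob (Spec.map φ) p =
      Spec.map (CommRingCat.ofHom (FrobAlg.relFrob p A B)) ≫ (twistIso p A B).inv :=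
    relFrob_Spec p A B
  rw [h1]
  have h2 : (FrobAlg.relFrob p A B).Flat :=
    Groth.Agent.Lib.R2H7.RelFrob.relFrob_flat_of_smooth p A B
  haveI : Flat (Spec.map (CommRingCat.ofHom (FrobAlg.relFrob p A B))) :=
    (HasRingHomProperty.Spec_iff (P := @Flat)).mpr h2
  infer_instance

variable (p : ℕ) [Fact p.Prime]

/-- the relative Frobenius of a smooth morphism is flat -/
theorem flat_relFrob {X S : Scheme.{u}} [IsCharP S p] (f : X ⟶ S) [Smooth f] :
    Flat (relFrob f p) := by
  have hp : p.Prime := Fact.out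
  haveI : IsCharP X p := IsCharP.of_hom f p
  -- choose affine charts
  have hchart : ∀ x : X, ∃ (U : X.affineOpens) (V : S.affineOpens), x ∈ U.1 ∧ U.1 ≤ f ⁻¹ᵁ V.1 := by
    intro x
    obtain ⟨V, hV, hxV, -⟩ := TopologicalSpace.Opens.isBasis_iff_nbhd.mp S.isBasis_affineOpens
      (show f.base x ∈ (⊤ : S.Opens) from trivial)
    obtain ⟨U, hU, hxU, hUV⟩ := TopologicalSpace.Opens.isBasis_iff_nbhd.mp X.isBasis_affineOpens
      (show x ∈ f ⁻¹ᵁ V from hxV)
    exact ⟨⟨U, hU⟩, ⟨V, hV⟩, hxU, hUV⟩
  choose U V hxU hUV using hchart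
  apply IsZariskiLocalAtSource.of_iSup_eq_top (P := @Flat) (fun x => (U x).1)
  · rw [eq_top_iff]
    intro x _
    exact TopologicalSpace.Opens.mem_iSup.mpr ⟨x, hxU x⟩
  · intro x
    have hU := (U x).2
    have hV := (V x).2
    -- nontriviality and characteristic
    haveI : Nonempty (U x).1 := ⟨⟨x, hxU x⟩⟩
    haveI : Nonempty (V x).1 := ⟨⟨f.base x, hUV x (hxU x)⟩⟩
    haveI : CharP Γ(X, (U x).1) p :=
      (CharP.charP_iff_prime_eq_zero hp).mpr (natCast_eq_zero_app X p (U x).1)
    haveI : CharP Γ(S, (V x).1) p :=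
      (CharP.charP_iff_prime_eq_zero hp).mpr (natCast_eq_zero_app S p (V x).1)
    have hsm : (f.appLE (V x).1 (U x).1 (hUV x)).hom.Smooth :=
      HasRingHomProperty.appLE @Smooth f inferInstance (V x) (U x) (hUV x)
    haveI hfl := flat_relFrob_Spec p _ _ (f.appLE (V x).1 (U x).1 (hUV x)) hsm
    have hsq : Spec.map (f.appLE (V x).1 (U x).1 (hUV x)) ≫ hV.fromSpec = hU.fromSpec ≫ f :=
      IsAffineOpen.SpecMap_appLE_fromSpec f hV hU (hUV x)
    have hnat := relFrob_natural p f (Spec.map (f.appLE (V x).1 (U x).1 (hUV x))) hU.fromSpec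
      hV.fromSpec hsq
    have hι : (U x).1.ι = hU.isoSpec.hom ≫ hU.fromSpec := (hU.isoSpec_hom_fromSpec).symm
    rw [hι, Category.assoc, hnat]
    infer_instance

/-- **S15541.** the relative Frobenius of a smooth morphism is syntomic -/
theorem main15541 (p : ℕ) [Fact p.Prime] (S X : Scheme.{u})
    [FrobSch.IsCharP S p] (f : X ⟶ S) [Smooth f] :
    Synt.IsSyntomicMor (FrobSch.relFrob f p) := by
  haveI := flat_relFrob p f
  haveI : Smooth (pullback.snd f (frob S p)) := MorphismProperty.pullback_snd _ _ inferInstance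
  exact Groth.Agent.Lib.R2LeadSyntR.main f (pullback.snd f (frob S p)) (relFrob f p)
    (relFrob_snd f p)

end Groth.Agent.Lib.R2H4.RelFrobFlat
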