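import Mathlib
import Groth.Agent.Lib.R2H4LiftApply

set_option autoImplicit false
set_option linter.style.haveILetI false
set_option linter.unusedSimpArgs false
universe u

namespace Groth.Agent.Lib.R2H4.ResMod

open Groth.Agent.Lib.R2H4

section BaseIso

variable {R₀ R₁ R₂ : Type u} [CommRing R₀] [CommRing R₁] [CommRing R₂] [Algebra R₀ R₁]
  [Algebra R₀ R₂]

/-- two quotients of `R₀` with the same kernel: the first is an algebra over the second,
bijectively -/
theorem exists_algebra_bijective (h₁ : Function.Surjective (algebraMap R₀ R₁))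
    (h₂ : Function.Surjective (algebraMap R₀ R₂))
    (hk : RingHom.ker (algebraMap R₀ R₂) ≤ RingHom.ker (algebraMap R₀ R₁))
    (hk' : RingHom.ker (algebraMap R₀ R₁) ≤ RingHom.ker (algebraMap R₀ R₂)) :
    ∃ e : R₂ →+* R₁, Function.Bijective e ∧
      ∀ r, e (algebraMap R₀ R₂ r) = algebraMap R₀ R₁ r := by
  let e : R₂ →ₐ[R₀] R₁ :=
    AlgHom.liftOfSurjective (Algebra.ofId R₀ R₂) h₂ (Algebra.ofId R₀ R₁) hk
  have he : ∀ r, e (algebraMap R₀ R₂ r) = algebraMap R₀ R₁ r := fun r =>
    AlgHom.liftOfSurjective_apply (Algebra.ofId R₀ R₂) h₂ (Algebra.ofId R₀ R₁) hk r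
  refine ⟨e.toRingHom, ⟨?_, ?_⟩, he⟩
  · rw [injective_iff_map_eq_zero]
    intro x hx
    obtain ⟨r, rfl⟩ := h₂ x
    have h1 : algebraMap R₀ R₁ r = 0 := by rw [← he]; exact hx
    exact hk' h1
  · intro y
    obtain ⟨r, rfl⟩ := h₁ y
    exact ⟨algebraMap R₀ R₂ r, he r⟩

theorem formallySmooth_of_base {S : Type u} [CommRing S] [Algebra R₀ S] [Algebra R₁ S]
    [Algebra R₂ S] [IsScalarTower R₀ R₁ S] [IsScalarTower R₀ R₂ S]
    (h₁ : Function.Surjective (algebraMap R₀ R₁))
    (h₂ : Function.Surjective (algebraMap R₀ R₂))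
    (hk : RingHom.ker (algebraMap R₀ R₂) ≤ RingHom.ker (algebraMap R₀ R₁))
    (hk' : RingHom.ker (algebraMap R₀ R₁) ≤ RingHom.ker (algebraMap R₀ R₂))
    (h : Algebra.FormallySmooth R₁ S) : Algebra.FormallySmooth R₂ S := by
  obtain ⟨e, hbij, he⟩ := exists_algebra_bijective h₁ h₂ hk hk'
  letI : Algebra R₂ R₁ := e.toAlgebra
  haveI : IsScalarTower R₂ R₁ S := IsScalarTower.of_algebraMap_eq (fun x => by
    obtain ⟨r, rfl⟩ := h₂ x
    change algebraMap R₂ S (algebraMap R₀ R₂ r) = algebraMap R₁ S (e (algebraMap R₀ R₂ r))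
    rw [he, ← IsScalarTower.algebraMap_apply, ← IsScalarTower.algebraMap_apply])
  haveI : Algebra.FormallySmooth R₂ R₁ :=
    Algebra.FormallySmooth.of_equiv (AlgEquiv.ofBijective (Algebra.ofId R₂ R₁) hbij)
  exact Algebra.FormallySmooth.comp R₂ R₁ S

theorem finitePresentation_of_base {S : Type u} [CommRing S] [Algebra R₀ S] [Algebra R₁ S]
    [Algebra R₂ S] [IsScalarTower R₀ R₁ S] [IsScalarTower R₀ R₂ S]
    (h₁ : Function.Surjective (algebraMap R₀ R₁))
    (h₂ : Function.Surjective (algebraMap R₀ R₂))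
    (hk : RingHom.ker (algebraMap R₀ R₂) ≤ RingHom.ker (algebraMap R₀ R₁))
    (hk' : RingHom.ker (algebraMap R₀ R₁) ≤ RingHom.ker (algebraMap R₀ R₂))
    (h : Algebra.FinitePresentation R₁ S) : Algebra.FinitePresentation R₂ S := by
  obtain ⟨e, hbij, he⟩ := exists_algebra_bijective h₁ h₂ hk hk'
  letI : Algebra R₂ R₁ := e.toAlgebra
  haveI : IsScalarTower R₂ R₁ S := IsScalarTower.of_algebraMap_eq (fun x => by
    obtain ⟨r, rfl⟩ := h₂ x
    change algebraMap R₂ S (algebraMap R₀ R₂ r) = algebraMap R₁ S (e (algebraMap R₀ R₂ r))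
    rw [he, ← IsScalarTower.algebraMap_apply, ← IsScalarTower.algebraMap_apply])
  haveI : Algebra.FinitePresentation R₂ R₁ :=
    Algebra.FinitePresentation.equiv (AlgEquiv.ofBijective (Algebra.ofId R₂ R₁) hbij)
  exact Algebra.FinitePresentation.trans R₂ R₁ S

theorem singularIdeal_le_of_base {S : Type u} [CommRing S] [Algebra R₀ S] [Algebra R₁ S]
    [Algebra R₂ S] [IsScalarTower R₀ R₁ S] [IsScalarTower R₀ R₂ S]
    (h₁ : Function.Surjective (algebraMap R₀ R₁))
    (h₂ : Function.Surjective (algebraMap R₀ R₂))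
    (hk : RingHom.ker (algebraMap R₀ R₂) ≤ RingHom.ker (algebraMap R₀ R₁))
    (hk' : RingHom.ker (algebraMap R₀ R₁) ≤ RingHom.ker (algebraMap R₀ R₂)) :
    Smoothing.singularIdeal R₁ S ≤ Smoothing.singularIdeal R₂ S := by
  intro c hc
  apply DelocWeak.mem_singularIdeal_of_forall
  intro Q _ hcQ
  rw [Smoothing.singularIdeal, PrimeSpectrum.mem_vanishingIdeal] at hc
  have h3 : Algebra.IsSmoothAt R₁ Q := by
    by_contra hns
    exact hcQ (hc ⟨Q, inferInstance⟩ hns)
  exact formallySmooth_of_base h₁ h₂ hk hk' h3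

end BaseIso

/-- smoothness of a principal localization passes to a quotient model -/
theorem formallySmooth_away_of_model {R A R' A' : Type u} [CommRing R] [CommRing A] [Algebra R A]
    [CommRing R'] [Algebra R R'] [CommRing A'] [Algebra R A'] [Algebra R' A']
    [IsScalarTower R R' A'] (hR' : Function.Surjective (algebraMap R R'))
    (pA : A →ₐ[R] A') (hpA : Function.Surjective pA)
    (hkA : RingHom.ker pA.toRingHom ≤ (RingHom.ker (algebraMap R R')).map (algebraMap R A))
    (a : A) [Algebra.FormallySmooth R (Localization.Away a)] :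
    Algebra.FormallySmooth R' (Localization.Away (pA a)) := by
  apply Algebra.FormallySmooth.of_comp_surjective
  intro T _ _ N hN ubar
  letI : Algebra R T := ((algebraMap R' T).comp (algebraMap R R')).toAlgebra
  haveI : IsScalarTower R R' T := IsScalarTower.of_algebraMap_eq (fun _ => rfl)
  have hu : IsUnit (((algebraMap A' (Localization.Away (pA a))).comp (pA : A →+* A')) a) :=
    IsLocalization.Away.algebraMap_isUnit (pA a)
  let ι : Localization.Away a →ₐ[R] Localization.Away (pA a) :=
    { toRingHom := IsLocalization.Away.lift a hu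
      commutes' := fun r => by
        change IsLocalization.Away.lift a hu (algebraMap R (Localization.Away a) r) = _
        rw [IsScalarTower.algebraMap_apply R A (Localization.Away a), IsLocalization.Away.lift_eq,
          RingHom.comp_apply]
        change algebraMap A' (Localization.Away (pA a)) (pA (algebraMap R A r)) = _
        rw [pA.commutes, ← IsScalarTower.algebraMap_apply] }
  have hι : ∀ y : A, ι (algebraMap A (Localization.Away a) y) =
      algebraMap A' (Localization.Away (pA a)) (pA y) := fun y =>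
    IsLocalization.Away.lift_eq a hu y
  obtain ⟨v, hv⟩ := Algebra.FormallySmooth.comp_surjective R (Localization.Away a) N hN
    ((ubar.restrictScalars R).comp ι)
  have hv' : ∀ z, Ideal.Quotient.mk N (v z) = ubar (ι z) := fun z => congr($hv z)
  let w : A →ₐ[R] T := v.comp (IsScalarTower.toAlgHom R A (Localization.Away a))
  have hw : RingHom.ker pA.toRingHom ≤ RingHom.ker w.toRingHom := by
    refine le_trans hkA ?_
    rw [Ideal.map_le_iff_le_comap]
    intro r hr
    change w (algebraMap R A r) = 0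
    rw [w.commutes]
    change algebraMap R' T (algebraMap R R' r) = 0
    rw [show algebraMap R R' r = 0 from hr, map_zero]
  let u₁R : A' →ₐ[R] T := AlgHom.liftOfSurjective pA hpA w hw
  have hu₁R : ∀ y, u₁R (pA y) = w y := fun y => AlgHom.liftOfSurjective_apply pA hpA w hw y
  let u₁ : A' →ₐ[R'] T :=
    { u₁R.toRingHom with
      commutes' := fun r' => by
        obtain ⟨r, rfl⟩ := hR' r'
        change u₁R (algebraMap R' A' (algebraMap R R' r)) = algebraMap R' T (algebraMap R R' r)
        rw [← IsScalarTower.algebraMap_apply R R' A', u₁R.commutes]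
        rfl }
  refine Desing.exists_lift_of_algHom (pA a) N hN ubar u₁ ?_
  intro x
  obtain ⟨y, rfl⟩ := hpA x
  change Ideal.Quotient.mk N (u₁R (pA y)) = _
  rw [hu₁R]
  change Ideal.Quotient.mk N (v (algebraMap A (Localization.Away a) y)) = _
  rw [hv', hι]

/-- the singular ideal maps into the singular ideal of a quotient model -/
theorem map_singularIdeal_le_of_model {R A R' A' : Type u} [CommRing R] [CommRing A]
    [Algebra R A] [Algebra.FinitePresentation R A]
    [CommRing R'] [Algebra R R'] [CommRing A'] [Algebra R A'] [Algebra R' A']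
    [IsScalarTower R R' A'] [Algebra.FinitePresentation R' A']
    (hR' : Function.Surjective (algebraMap R R'))
    (pA : A →ₐ[R] A') (hpA : Function.Surjective pA)
    (hkA : RingHom.ker pA.toRingHom ≤ (RingHom.ker (algebraMap R R')).map (algebraMap R A))
    (a : A) (ha : a ∈ Smoothing.singularIdeal R A) : pA a ∈ Smoothing.singularIdeal R' A' := by
  haveI : Algebra.Smooth R (Localization.Away a) := DelocWeak.smooth_away_of_mem_singularIdeal a ha
  haveI := formallySmooth_away_of_model hR' pA hpA hkA a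
  apply DelocWeak.mem_singularIdeal_of_forall
  intro Q _ hQ
  exact Desing.isSmoothAt_of_formallySmooth_away (pA a) Q hQ

end Groth.Agent.Lib.R2H4.ResMod
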