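import Mathlib
import Groth.Agent.Lib.R2H4ResModA

set_option autoImplicit false
set_option linter.style.haveILetI false
set_option linter.unusedSimpArgs false
universe u

namespace Groth.Agent.Lib.R2H4.ResMod

open Groth.Agent.Lib.R2H4

theorem step_aux {R A Λ : Type u} [CommRing R] [IsNoetherianRing R] [CommRing A] [Algebra R A]
    [Algebra.FinitePresentation R A] [CommRing Λ] [Algebra R Λ] (φ : A →ₐ[R] Λ) (𝔮 : Ideal Λ)
    [𝔮.IsPrime] (π : R) (hπ𝔮 : algebraMap R Λ π ∈ 𝔮)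
    (hR : ∀ r : R, π ^ 2 * r = 0 → π * r = 0) (hΛ : ∀ x : Λ, π ^ 2 • x = 0 → π • x = 0)
    (hstd : Smoothing.IsStrictlyStandard R A (algebraMap R A π))
    {R' A' Λ' : Type u} [CommRing R'] [Algebra R R'] [CommRing A'] [Algebra R A'] [Algebra R' A']
    [IsScalarTower R R' A'] [Algebra.FinitePresentation R' A']
    [CommRing Λ'] [Algebra R Λ'] [Algebra R' Λ'] [IsScalarTower R R' Λ']
    (hR' : Function.Surjective (algebraMap R R'))
    (hkR : RingHom.ker (algebraMap R R') = Ideal.span {π ^ 8})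
    (pA : A →ₐ[R] A') (hpA : Function.Surjective pA)
    (hkA : RingHom.ker pA.toRingHom ≤ (RingHom.ker (algebraMap R R')).map (algebraMap R A))
    (pΛ : Λ →ₐ[R] Λ') (hpΛ : Function.Surjective pΛ)
    (hkΛ : RingHom.ker pΛ.toRingHom = Ideal.span {algebraMap R Λ (π ^ 8)})
    (φ' : A' →ₐ[R'] Λ') (hφ' : ∀ a, φ' (pA a) = pΛ (φ a))
    {C : Type u} [CommRing C] [Algebra R' C] [Algebra R C] [IsScalarTower R R' C]
    [Algebra.FinitePresentation R' C]
    [Algebra (R ⧸ Ideal.span {π ^ 8}) C] [IsScalarTower R (R ⧸ Ideal.span {π ^ 8}) C]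
    (γ' : A' →ₐ[R'] C) (h' : C →ₐ[R'] Λ') (hγh : h'.comp γ' = φ')
    (hle : Smoothing.singRad R' φ' ≤ Smoothing.singRad R' h')
    (hnle : ¬ Smoothing.singRad R' h' ≤ 𝔮.map pΛ) :
    Smoothing.Resolvable R φ 𝔮 := by
  classical
  have hs2 : Function.Surjective (algebraMap R (R ⧸ Ideal.span {π ^ 8})) :=
    Ideal.Quotient.mk_surjective
  have hk2 : RingHom.ker (algebraMap R (R ⧸ Ideal.span {π ^ 8})) = Ideal.span {π ^ 8} :=
    Ideal.mk_ker
  have hk : RingHom.ker (algebraMap R (R ⧸ Ideal.span {π ^ 8})) ≤ RingHom.ker (algebraMap R R') := by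
    rw [hk2, hkR]
  have hk' : RingHom.ker (algebraMap R R') ≤ RingHom.ker (algebraMap R (R ⧸ Ideal.span {π ^ 8})) := by
    rw [hk2, hkR]
  haveI : Algebra.FinitePresentation (R ⧸ Ideal.span {π ^ 8}) C :=
    finitePresentation_of_base hR' hs2 hk hk' inferInstance
  have hsingC : Smoothing.singularIdeal R' C ≤ Smoothing.singularIdeal (R ⧸ Ideal.span {π ^ 8}) C :=
    singularIdeal_le_of_base hR' hs2 hk hk'
  let γ : A →ₐ[R] C := (γ'.restrictScalars R).comp pA
  let mkΛ : Λ →ₐ[R] Λ ⧸ Ideal.span {algebraMap R Λ (π ^ 8)} := Ideal.Quotient.mkₐ R _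
  have hmkker : RingHom.ker pΛ.toRingHom ≤ RingHom.ker mkΛ.toRingHom := by
    rw [hkΛ]
    intro x hx
    exact Ideal.Quotient.eq_zero_iff_mem.mpr hx
  let eΛ : Λ' →ₐ[R] Λ ⧸ Ideal.span {algebraMap R Λ (π ^ 8)} :=
    AlgHom.liftOfSurjective pΛ hpΛ mkΛ hmkker
  have heΛ : ∀ l, eΛ (pΛ l) = Ideal.Quotient.mk _ l := fun l =>
    AlgHom.liftOfSurjective_apply pΛ hpΛ mkΛ hmkker l
  let g : C →ₐ[R] Λ ⧸ Ideal.span {algebraMap R Λ (π ^ 8)} := eΛ.comp (h'.restrictScalars R)
  have hfac : ∀ a, g (γ a) = Ideal.Quotient.mk _ (φ a) := by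
    intro a
    change eΛ (h' (γ' (pA a))) = _
    have h1 : h' (γ' (pA a)) = φ' (pA a) := congr($hγh (pA a))
    rw [h1, hφ', heΛ]
  obtain ⟨B, _, _, hBfp, α, β, hβα, hBsm, hsing⟩ := LiftApply.main π hR hΛ φ hstd γ g hfac
  haveI := hBfp
  have hpi : algebraMap R Λ π ∈ Smoothing.singRad R β := by
    have h1 : algebraMap R B π ∈ Smoothing.singularIdeal R B :=
      DelocWeak.mem_singularIdeal_of_forall _ (fun Q _ hQ => hBsm Q hQ)
    have h2 := Ideal.mem_map_of_mem β h1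
    rw [AlgHom.commutes] at h2
    exact Ideal.le_radical h2
  have hP2 : ∀ (y : Λ') (l : Λ), y ∈ (Smoothing.singularIdeal R' C).map h' → pΛ l = y →
      l ∈ Smoothing.singRad R β := by
    intro y l hy hl
    have h1 : eΛ y ∈ (Smoothing.singularIdeal (R ⧸ Ideal.span {π ^ 8}) C).map g := by
      have h2 : (Smoothing.singularIdeal R' C).map h' ≤
          ((Smoothing.singularIdeal (R ⧸ Ideal.span {π ^ 8}) C).map g).comap eΛ := by
        rw [Ideal.map_le_iff_le_comap]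
        intro c hc
        exact Ideal.mem_map_of_mem g (hsingC hc)
      exact h2 hy
    have h3 := hsing h1
    rw [← hl, heΛ] at h3
    obtain ⟨l', hl', hll'⟩ := (Ideal.mem_map_iff_of_surjective _ Ideal.Quotient.mk_surjective).mp h3
    have h4 : l' - l ∈ Ideal.span {algebraMap R Λ (π ^ 8)} := Ideal.Quotient.eq.mp hll'
    have h5 : l' - l ∈ Smoothing.singRad R β := by
      obtain ⟨t, ht⟩ := Ideal.mem_span_singleton'.mp h4
      rw [← ht, map_pow]
      exact Ideal.mul_mem_left _ _ (Ideal.pow_mem_of_mem _ hpi 8 (by norm_num))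
    have e : l = l' - (l' - l) := by ring
    rw [e]
    exact sub_mem hl' h5
  refine ⟨B, inferInstance, inferInstance, hBfp, α, β, hβα, ?_, ?_⟩
  · change ((Smoothing.singularIdeal R A).map φ).radical ≤ Smoothing.singRad R β
    have hrad : (Smoothing.singRad R β).IsRadical := Ideal.radical_isRadical _
    rw [hrad.radical_le_iff, Ideal.map_le_iff_le_comap]
    intro a ha
    have h1 : pA a ∈ Smoothing.singularIdeal R' A' :=
      map_singularIdeal_le_of_model hR' pA hpA hkA a ha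
    have h2 : φ' (pA a) ∈ Smoothing.singRad R' φ' :=
      Ideal.le_radical (Ideal.mem_map_of_mem φ' h1)
    obtain ⟨N, hN⟩ := hle h2
    have h3 := hP2 _ (φ a ^ N) hN (by rw [map_pow, ← hφ'])
    exact hrad (⟨N, h3⟩ : φ a ∈ (Smoothing.singRad R β).radical)
  · intro hcon
    apply hnle
    haveI hq' : (𝔮.map pΛ).IsPrime := Ideal.map_isPrime_of_surjective hpΛ (by
      change RingHom.ker pΛ.toRingHom ≤ 𝔮
      rw [hkΛ, Ideal.span_le, Set.singleton_subset_iff, map_pow]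
      exact Ideal.pow_mem_of_mem _ hπ𝔮 8 (by norm_num))
    change ((Smoothing.singularIdeal R' C).map h').radical ≤ _
    rw [hq'.radical_le_iff]
    intro y hy
    obtain ⟨l, rfl⟩ := hpΛ y
    exact Ideal.mem_map_of_mem pΛ (hcon (hP2 _ l hy rfl))

/-- the one-step reduction: a quotient model modulo `π⁸` is resolvable ⇒ the problem is -/
theorem step {R A Λ : Type u} [CommRing R] [IsNoetherianRing R] [CommRing A] [Algebra R A]
    [Algebra.FinitePresentation R A] [CommRing Λ] [Algebra R Λ] (φ : A →ₐ[R] Λ) (𝔮 : Ideal Λ)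
    [𝔮.IsPrime] (π : R) (hπ𝔮 : algebraMap R Λ π ∈ 𝔮)
    (hR : ∀ r : R, π ^ 2 * r = 0 → π * r = 0) (hΛ : ∀ x : Λ, π ^ 2 • x = 0 → π • x = 0)
    (hstd : Smoothing.IsStrictlyStandard R A (algebraMap R A π))
    {R' A' Λ' : Type u} [CommRing R'] [Algebra R R'] [CommRing A'] [Algebra R A'] [Algebra R' A']
    [IsScalarTower R R' A'] [Algebra.FinitePresentation R' A']
    [CommRing Λ'] [Algebra R Λ'] [Algebra R' Λ'] [IsScalarTower R R' Λ']
    (hR' : Function.Surjective (algebraMap R R'))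
    (hkR : RingHom.ker (algebraMap R R') = Ideal.span {π ^ 8})
    (pA : A →ₐ[R] A') (hpA : Function.Surjective pA)
    (hkA : RingHom.ker pA.toRingHom ≤ (RingHom.ker (algebraMap R R')).map (algebraMap R A))
    (pΛ : Λ →ₐ[R] Λ') (hpΛ : Function.Surjective pΛ)
    (hkΛ : RingHom.ker pΛ.toRingHom = Ideal.span {algebraMap R Λ (π ^ 8)})
    (φ' : A' →ₐ[R'] Λ') (hφ' : ∀ a, φ' (pA a) = pΛ (φ a))
    (hres : Smoothing.Resolvable R' φ' (𝔮.map pΛ)) : Smoothing.Resolvable R φ 𝔮 := by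
  obtain ⟨C, _, _, hCfp, γ', h', hγh, hle, hnle⟩ := hres
  haveI := hCfp
  letI : Algebra R C := ((algebraMap R' C).comp (algebraMap R R')).toAlgebra
  haveI : IsScalarTower R R' C := IsScalarTower.of_algebraMap_eq (fun _ => rfl)
  have hzero : ∀ a ∈ Ideal.span {π ^ 8}, algebraMap R C a = 0 := by
    intro a ha
    rw [← hkR] at ha
    change algebraMap R' C (algebraMap R R' a) = 0
    rw [show algebraMap R R' a = 0 from ha, map_zero]
  letI : Algebra (R ⧸ Ideal.span {π ^ 8}) C :=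
    (Ideal.Quotient.lift (Ideal.span {π ^ 8}) (algebraMap R C) hzero).toAlgebra
  haveI : IsScalarTower R (R ⧸ Ideal.span {π ^ 8}) C :=
    IsScalarTower.of_algebraMap_eq (fun _ => rfl)
  exact step_aux φ 𝔮 π hπ𝔮 hR hΛ hstd hR' hkR pA hpA hkA pΛ hpΛ hkΛ φ' hφ' γ' h' hγh hle hnle

end Groth.Agent.Lib.R2H4.ResMod
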