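import Mathlib
import Groth.Agent.Lib.R2H4ResModB
import Groth.Agent.S6829

set_option autoImplicit false
set_option linter.style.haveILetI false
set_option linter.unusedSimpArgs false
universe u

namespace Groth.Agent.Lib.R2H4.ResMod

open Groth.Agent.Lib.R2H4
open TensorProduct

/-- strictly standard elements are transported by algebra isomorphisms -/
theorem isStrictlyStandard_of_algEquiv {R A A₂ : Type u} [CommRing R] [CommRing A] [Algebra R A]
    [CommRing A₂] [Algebra R A₂] (e : A ≃ₐ[R] A₂) (a : A)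
    (h : Smoothing.IsStrictlyStandard R A a) : Smoothing.IsStrictlyStandard R A₂ (e a) := by
  obtain ⟨P, hmem, hkill⟩ := h
  let P₂ : Smoothing.MarkedPresentation R A₂ :=
    { n := P.n
      m := P.m
      c := P.c
      hcn := P.hcn
      hcm := P.hcm
      rel := P.rel
      hom := e.toAlgHom.comp P.hom
      surj := e.surjective.comp P.surj
      ker_eq := by
        rw [← P.ker_eq]
        ext x
        change e (P.hom x) = 0 ↔ P.hom x = 0
        exact map_eq_zero_iff e e.injective }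
  refine ⟨P₂, ?_, ?_⟩
  · have h1 := Ideal.mem_map_of_mem (e : A →+* A₂) hmem
    rw [Ideal.map_span, ← Set.range_comp] at h1
    exact h1
  · intro a' ha' j hj
    have h1 : P.hom a' = a := e.injective ha'
    exact hkill a' h1 j hj

/-- strictly standard elements pass to the quotient by an extended ideal -/
theorem isStrictlyStandard_quotient {R A : Type u} [CommRing R] [CommRing A] [Algebra R A]
    [Algebra.FinitePresentation R A] (J : Ideal R) (a : A)
    (h : Smoothing.IsStrictlyStandard R A a) :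
    Smoothing.IsStrictlyStandard (R ⧸ J) (A ⧸ J.map (algebraMap R A))
      (Ideal.Quotient.mk (J.map (algebraMap R A)) a) := by
  have h1 := (Groth.Agent.S6829.result (R' := R ⧸ J) a).2 h
  have h2 := isStrictlyStandard_of_algEquiv
    (Algebra.TensorProduct.quotIdealMapEquivQuotTensor A J).symm _ h1
  have e : (Algebra.TensorProduct.quotIdealMapEquivQuotTensor A J).symm ((1 : R ⧸ J) ⊗ₜ[R] a) =
      Ideal.Quotient.mk (J.map (algebraMap R A)) a := by
    rw [AlgEquiv.symm_apply_eq, Algebra.TensorProduct.quotIdealMapEquivQuotTensor_mk]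
  rw [e] at h2
  exact h2

/-- finite presentation passes to the quotient by an extended ideal -/
theorem finitePresentation_quotient {R A : Type u} [CommRing R] [CommRing A] [Algebra R A]
    [Algebra.FinitePresentation R A] (J : Ideal R) :
    Algebra.FinitePresentation (R ⧸ J) (A ⧸ J.map (algebraMap R A)) :=
  Algebra.FinitePresentation.equiv (Algebra.TensorProduct.quotIdealMapEquivQuotTensor A J).symm

section QuotMap

variable {R A Λ : Type u} [CommRing R] [CommRing A] [Algebra R A] [CommRing Λ] [Algebra R Λ]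
  (φ : A →ₐ[R] Λ) (I : Ideal R)

/-- the induced map on quotients by an extended ideal -/
noncomputable def quotMap :
    (A ⧸ I.map (algebraMap R A)) →ₐ[R ⧸ I] (Λ ⧸ I.map (algebraMap R Λ)) :=
  { Ideal.quotientMap (I.map (algebraMap R Λ)) (φ : A →+* Λ) (by
      rw [Ideal.map_le_iff_le_comap]
      intro r hr
      rw [Ideal.mem_comap, Ideal.mem_comap]
      have h1 : (φ : A →+* Λ) (algebraMap R A r) = algebraMap R Λ r := φ.commutes r
      rw [h1]
      exact Ideal.mem_map_of_mem _ hr) with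
    commutes' := fun x => by
      obtain ⟨r, rfl⟩ := Ideal.Quotient.mk_surjective x
      change Ideal.quotientMap _ (φ : A →+* Λ) _ (Ideal.Quotient.mk _ (algebraMap R A r)) =
        Ideal.Quotient.mk _ (algebraMap R Λ r)
      rw [Ideal.quotientMap_mk]
      change Ideal.Quotient.mk _ (φ (algebraMap R A r)) = _
      rw [φ.commutes] }

theorem quotMap_mk (a : A) :
    quotMap φ I (Ideal.Quotient.mk _ a) = Ideal.Quotient.mk _ (φ a) := rfl

end QuotMap

/-- the relative one-step reduction -/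
theorem stepRel {R A Λ : Type u} [CommRing R] [IsNoetherianRing R] [CommRing A] [Algebra R A]
    [Algebra.FinitePresentation R A] [CommRing Λ] [Algebra R Λ] (φ : A →ₐ[R] Λ) (𝔮 : Ideal Λ)
    [𝔮.IsPrime] (I : Ideal R) (hI𝔮 : I.map (algebraMap R Λ) ≤ 𝔮)
    (π : R) (hπ𝔮 : algebraMap R Λ π ∈ 𝔮)
    (hR : ∀ x : R, π ^ 2 * x ∈ I → π * x ∈ I)
    (hΛ : ∀ x : Λ, algebraMap R Λ π ^ 2 * x ∈ I.map (algebraMap R Λ) →
      algebraMap R Λ π * x ∈ I.map (algebraMap R Λ))
    (hstd : Smoothing.IsStrictlyStandard R A (algebraMap R A π))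
    {R' A' Λ' : Type u} [CommRing R'] [Algebra R R'] [CommRing A'] [Algebra R A'] [Algebra R' A']
    [IsScalarTower R R' A'] [Algebra.FinitePresentation R' A']
    [CommRing Λ'] [Algebra R Λ'] [Algebra R' Λ'] [IsScalarTower R R' Λ']
    (hR' : Function.Surjective (algebraMap R R'))
    (hkR : RingHom.ker (algebraMap R R') = I ⊔ Ideal.span {π ^ 8})
    (pA : A →ₐ[R] A') (hpA : Function.Surjective pA)
    (hkA : RingHom.ker pA.toRingHom = (I ⊔ Ideal.span {π ^ 8}).map (algebraMap R A))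
    (pΛ : Λ →ₐ[R] Λ') (hpΛ : Function.Surjective pΛ)
    (hkΛ : RingHom.ker pΛ.toRingHom = (I ⊔ Ideal.span {π ^ 8}).map (algebraMap R Λ))
    (φ' : A' →ₐ[R'] Λ') (hφ' : ∀ a, φ' (pA a) = pΛ (φ a))
    (hres : Smoothing.Resolvable R' φ' (𝔮.map pΛ)) :
    Smoothing.Resolvable (R ⧸ I) (quotMap φ I) (𝔮.map (Ideal.Quotient.mk (I.map (algebraMap R Λ)))) := by
  classical
  -- structures over `R ⧸ I`
  have h0 : ∀ a ∈ I, algebraMap R R' a = 0 := fun a ha => by
    have : a ∈ RingHom.ker (algebraMap R R') := by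
      rw [hkR]
      exact Ideal.mem_sup_left ha
    exact this
  letI algR' : Algebra (R ⧸ I) R' := (Ideal.Quotient.lift I (algebraMap R R') h0).toAlgebra
  have halgR' : ∀ r, algebraMap (R ⧸ I) R' (Ideal.Quotient.mk I r) = algebraMap R R' r := fun _ => rfl
  letI algA' : Algebra (R ⧸ I) A' := ((algebraMap R' A').comp (algebraMap (R ⧸ I) R')).toAlgebra
  haveI : IsScalarTower (R ⧸ I) R' A' := IsScalarTower.of_algebraMap_eq (fun _ => rfl)
  letI algΛ' : Algebra (R ⧸ I) Λ' := ((algebraMap R' Λ').comp (algebraMap (R ⧸ I) R')).toAlgebra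
  haveI : IsScalarTower (R ⧸ I) R' Λ' := IsScalarTower.of_algebraMap_eq (fun _ => rfl)
  -- the maps
  have hA0 : ∀ a ∈ I.map (algebraMap R A), pA.toRingHom a = 0 := fun a ha => by
    have : a ∈ RingHom.ker pA.toRingHom := by
      rw [hkA]
      exact Ideal.map_mono le_sup_left ha
    exact this
  let pA₁ : (A ⧸ I.map (algebraMap R A)) →ₐ[R ⧸ I] A' :=
    { Ideal.Quotient.lift (I.map (algebraMap R A)) pA.toRingHom hA0 with
      commutes' := fun x => by
        obtain ⟨r, rfl⟩ := Ideal.Quotient.mk_surjective x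
        change pA (algebraMap R A r) = algebraMap R' A' (algebraMap R R' r)
        rw [pA.commutes, ← IsScalarTower.algebraMap_apply] }
  have hpA₁ : ∀ a, pA₁ (Ideal.Quotient.mk _ a) = pA a := fun _ => rfl
  have hΛ0 : ∀ a ∈ I.map (algebraMap R Λ), pΛ.toRingHom a = 0 := fun a ha => by
    have : a ∈ RingHom.ker pΛ.toRingHom := by
      rw [hkΛ]
      exact Ideal.map_mono le_sup_left ha
    exact this
  let pΛ₁ : (Λ ⧸ I.map (algebraMap R Λ)) →ₐ[R ⧸ I] Λ' :=
    { Ideal.Quotient.lift (I.map (algebraMap R Λ)) pΛ.toRingHom hΛ0 with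
      commutes' := fun x => by
        obtain ⟨r, rfl⟩ := Ideal.Quotient.mk_surjective x
        change pΛ (algebraMap R Λ r) = algebraMap R' Λ' (algebraMap R R' r)
        rw [pΛ.commutes, ← IsScalarTower.algebraMap_apply] }
  have hpΛ₁ : ∀ l, pΛ₁ (Ideal.Quotient.mk _ l) = pΛ l := fun _ => rfl
  haveI : Algebra.FinitePresentation (R ⧸ I) (A ⧸ I.map (algebraMap R A)) :=
    finitePresentation_quotient I
  haveI hq₁ : (𝔮.map (Ideal.Quotient.mk (I.map (algebraMap R Λ)))).IsPrime :=
    Ideal.map_isPrime_of_surjective Ideal.Quotient.mk_surjective (by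
      rw [Ideal.mk_ker]
      exact hI𝔮)
  -- kernels
  have hkR₁ : RingHom.ker (algebraMap (R ⧸ I) R') = Ideal.span {(Ideal.Quotient.mk I π) ^ 8} := by
    change RingHom.ker (Ideal.Quotient.lift I (algebraMap R R') h0) = _
    rw [Ideal.ker_quotient_lift, hkR, Ideal.map_sup, Ideal.map_quotient_self, bot_sup_eq,
      Ideal.map_span, Set.image_singleton, map_pow]
  have hkA₁ : RingHom.ker pA₁.toRingHom ≤
      (RingHom.ker (algebraMap (R ⧸ I) R')).map
        (algebraMap (R ⧸ I) (A ⧸ I.map (algebraMap R A))) := by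
    change RingHom.ker (Ideal.Quotient.lift (I.map (algebraMap R A)) pA.toRingHom hA0) ≤ _
    rw [Ideal.ker_quotient_lift, hkA, hkR₁, Ideal.map_sup, Ideal.map_sup, Ideal.map_quotient_self,
      bot_sup_eq,
      Ideal.map_span, Set.image_singleton, Ideal.map_span, Set.image_singleton, Ideal.map_span,
      Set.image_singleton]
    apply le_of_eq
    congr 2
  have hkΛ₁ : RingHom.ker pΛ₁.toRingHom = Ideal.span
      {algebraMap (R ⧸ I) (Λ ⧸ I.map (algebraMap R Λ)) ((Ideal.Quotient.mk I π) ^ 8)} := by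
    change RingHom.ker (Ideal.Quotient.lift (I.map (algebraMap R Λ)) pΛ.toRingHom hΛ0) = _
    rw [Ideal.ker_quotient_lift, hkΛ, Ideal.map_sup, Ideal.map_sup, Ideal.map_quotient_self,
      bot_sup_eq,
      Ideal.map_span, Set.image_singleton, Ideal.map_span, Set.image_singleton]
    congr 2
  -- hypotheses over the quotient
  have hπ𝔮₁ : algebraMap (R ⧸ I) (Λ ⧸ I.map (algebraMap R Λ)) (Ideal.Quotient.mk I π) ∈
      𝔮.map (Ideal.Quotient.mk (I.map (algebraMap R Λ))) :=
    Ideal.mem_map_of_mem _ hπ𝔮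
  have hR₁ : ∀ x : R ⧸ I, (Ideal.Quotient.mk I π) ^ 2 * x = 0 → (Ideal.Quotient.mk I π) * x = 0 := by
    intro x hx
    obtain ⟨y, rfl⟩ := Ideal.Quotient.mk_surjective x
    rw [← map_pow, ← map_mul, Ideal.Quotient.eq_zero_iff_mem] at hx
    rw [← map_mul, Ideal.Quotient.eq_zero_iff_mem]
    exact hR y hx
  have hΛ₁ : ∀ x : Λ ⧸ I.map (algebraMap R Λ), (Ideal.Quotient.mk I π) ^ 2 • x = 0 →
      (Ideal.Quotient.mk I π) • x = 0 := by
    intro x hx
    obtain ⟨y, rfl⟩ := Ideal.Quotient.mk_surjective x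
    rw [← map_pow, Ideal.Quotient.mk_smul_mk_quotient_map_quotient,
      Ideal.Quotient.eq_zero_iff_mem, map_pow] at hx
    rw [Ideal.Quotient.mk_smul_mk_quotient_map_quotient, Ideal.Quotient.eq_zero_iff_mem]
    exact hΛ y hx
  have hstd₁ : Smoothing.IsStrictlyStandard (R ⧸ I) (A ⧸ I.map (algebraMap R A))
      (algebraMap (R ⧸ I) (A ⧸ I.map (algebraMap R A)) (Ideal.Quotient.mk I π)) :=
    isStrictlyStandard_quotient I _ hstd
  have hR'₁ : Function.Surjective (algebraMap (R ⧸ I) R') := fun y => by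
    obtain ⟨r, rfl⟩ := hR' y
    exact ⟨Ideal.Quotient.mk I r, rfl⟩
  have hpA₁s : Function.Surjective pA₁ := fun y => by
    obtain ⟨a, rfl⟩ := hpA y
    exact ⟨Ideal.Quotient.mk _ a, rfl⟩
  have hpΛ₁s : Function.Surjective pΛ₁ := fun y => by
    obtain ⟨a, rfl⟩ := hpΛ y
    exact ⟨Ideal.Quotient.mk _ a, rfl⟩
  have hφ'₁ : ∀ a, φ' (pA₁ a) = pΛ₁ (quotMap φ I a) := by
    intro a
    obtain ⟨b, rfl⟩ := Ideal.Quotient.mk_surjective a
    rw [hpA₁, quotMap_mk, hpΛ₁, hφ']
  have hqmap : (𝔮.map (Ideal.Quotient.mk (I.map (algebraMap R Λ)))).map pΛ₁ = 𝔮.map pΛ := by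
    apply le_antisymm
    · rw [Ideal.map_le_iff_le_comap, Ideal.map_le_iff_le_comap]
      intro l hl
      exact Ideal.mem_map_of_mem pΛ hl
    · rw [Ideal.map_le_iff_le_comap]
      intro l hl
      rw [Ideal.mem_comap, ← hpΛ₁]
      exact Ideal.mem_map_of_mem pΛ₁ (Ideal.mem_map_of_mem _ hl)
  refine step (quotMap φ I) (𝔮.map (Ideal.Quotient.mk (I.map (algebraMap R Λ))))
    (Ideal.Quotient.mk I π) hπ𝔮₁ hR₁ hΛ₁ hstd₁ hR'₁ hkR₁ pA₁ hpA₁s hkA₁ pΛ₁ hpΛ₁s hkΛ₁ φ' hφ'₁ ?_
  rw [hqmap]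
  exact hres

end Groth.Agent.Lib.R2H4.ResMod
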