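import Mathlib
import Groth.Agent.Lib.R2H4ResModC

set_option autoImplicit false
set_option linter.style.haveILetI false
set_option linter.unusedSimpArgs false
universe u

namespace Groth.Agent.Lib.R2H4.ResMod

open Groth.Agent.Lib.R2H4

section Chain

variable {R A Λ : Type u} [CommRing R] [CommRing A] [Algebra R A] [CommRing Λ] [Algebra R Λ]
  (π : ℕ → R)

/-- `J i = (π_0^8, …, π_{i-1}^8)` -/
def J (i : ℕ) : Ideal R := Ideal.span ((fun j => π j ^ 8) '' Set.Iio i)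

theorem J_succ (i : ℕ) : J π (i + 1) = J π i ⊔ Ideal.span {π i ^ 8} := by
  unfold J
  rw [show Set.Iio (i + 1) = insert i (Set.Iio i) from Order.Iio_succ_eq_insert i,
    Set.image_insert_eq, Ideal.span_insert, sup_comm]

theorem J_zero : J π 0 = ⊥ := by
  unfold J
  simp

theorem J_map_le (𝔮 : Ideal Λ) (r : ℕ) (h : ∀ i < r, algebraMap R Λ (π i) ∈ 𝔮) (i : ℕ)
    (hi : i ≤ r) : (J π i).map (algebraMap R Λ) ≤ 𝔮 := by
  unfold J
  rw [Ideal.map_span, Ideal.span_le]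
  rintro _ ⟨_, ⟨j, hj, rfl⟩, rfl⟩
  rw [map_pow]
  exact Ideal.pow_mem_of_mem _ (h j (lt_of_lt_of_le hj hi)) 8 (by norm_num)

variable [IsNoetherianRing R] [Algebra.FinitePresentation R A] (φ : A →ₐ[R] Λ) (𝔮 : Ideal Λ)
  [𝔮.IsPrime]

theorem chain (r : ℕ) (hπ𝔮 : ∀ i < r, algebraMap R Λ (π i) ∈ 𝔮)
    (hR : ∀ i < r, ∀ x : R, π i ^ 2 * x ∈ J π i → π i * x ∈ J π i)
    (hΛ : ∀ i < r, ∀ x : Λ, algebraMap R Λ (π i) ^ 2 * x ∈ (J π i).map (algebraMap R Λ) →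
      algebraMap R Λ (π i) * x ∈ (J π i).map (algebraMap R Λ))
    (hstd : ∀ i < r, Smoothing.IsStrictlyStandard R A (algebraMap R A (π i)))
    (hres : Smoothing.Resolvable (R ⧸ J π r) (quotMap φ (J π r))
      (𝔮.map (Ideal.Quotient.mk ((J π r).map (algebraMap R Λ))))) :
    ∀ (k i : ℕ), i + k = r →
      Smoothing.Resolvable (R ⧸ J π i) (quotMap φ (J π i))
        (𝔮.map (Ideal.Quotient.mk ((J π i).map (algebraMap R Λ)))) := by
  intro k
  induction k with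
  | zero =>
    intro i hi
    rw [add_zero] at hi
    subst hi
    exact hres
  | succ k ih =>
    intro i hi
    have hir : i < r := by omega
    have h1 := ih (i + 1) (by omega)
    haveI : Algebra.FinitePresentation (R ⧸ J π (i + 1))
        (A ⧸ (J π (i + 1)).map (algebraMap R A)) := finitePresentation_quotient _
    refine stepRel φ 𝔮 (J π i) (J_map_le π 𝔮 r hπ𝔮 i hir.le) (π i) (hπ𝔮 i hir) (hR i hir)
      (hΛ i hir) (hstd i hir)
      (R' := R ⧸ J π (i + 1)) (A' := A ⧸ (J π (i + 1)).map (algebraMap R A))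
      (Λ' := Λ ⧸ (J π (i + 1)).map (algebraMap R Λ))
      Ideal.Quotient.mk_surjective ?_
      (Ideal.Quotient.mkₐ R _) (Ideal.Quotient.mkₐ_surjective R _) ?_
      (Ideal.Quotient.mkₐ R _) (Ideal.Quotient.mkₐ_surjective R _) ?_
      (quotMap φ (J π (i + 1))) (fun a => rfl) h1
    · rw [← J_succ]
      exact Ideal.mk_ker
    · rw [← J_succ]
      exact Ideal.Quotient.mkₐ_ker R _
    · rw [← J_succ]
      exact Ideal.Quotient.mkₐ_ker R _

theorem main_aux (r : ℕ) (hr : 0 < r) (hπ𝔮 : ∀ i < r, algebraMap R Λ (π i) ∈ 𝔮)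
    (hR : ∀ i < r, ∀ x : R, π i ^ 2 * x ∈ J π i → π i * x ∈ J π i)
    (hΛ : ∀ i < r, ∀ x : Λ, algebraMap R Λ (π i) ^ 2 * x ∈ (J π i).map (algebraMap R Λ) →
      algebraMap R Λ (π i) * x ∈ (J π i).map (algebraMap R Λ))
    (hstd : ∀ i < r, Smoothing.IsStrictlyStandard R A (algebraMap R A (π i)))
    (K : Ideal R) (hK : K = J π r)
    (φK : (A ⧸ K.map (algebraMap R A)) →ₐ[R ⧸ K] (Λ ⧸ K.map (algebraMap R Λ)))
    (hφK : ∀ a : A, φK (Ideal.Quotient.mk _ a) = Ideal.Quotient.mk _ (φ a))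
    (hres : Smoothing.Resolvable (R ⧸ K) φK
      (𝔮.map (Ideal.Quotient.mk (K.map (algebraMap R Λ))))) :
    Smoothing.Resolvable R φ 𝔮 := by
  subst hK
  have hφK' : φK = quotMap φ (J π r) := by
    apply AlgHom.ext
    intro a
    obtain ⟨b, rfl⟩ := Ideal.Quotient.mk_surjective a
    rw [hφK, quotMap_mk]
  rw [hφK'] at hres
  have h1 := chain π φ 𝔮 r hπ𝔮 hR hΛ hstd hres (r - 1) 1 (by omega)
  have hJ1 : J π 1 = Ideal.span {π 0 ^ 8} := by
    rw [show (1 : ℕ) = 0 + 1 from rfl, J_succ, J_zero, bot_sup_eq]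
  haveI : Algebra.FinitePresentation (R ⧸ J π 1) (A ⧸ (J π 1).map (algebraMap R A)) :=
    finitePresentation_quotient _
  refine step φ 𝔮 (π 0) (hπ𝔮 0 hr) ?_ ?_ (hstd 0 hr)
    (R' := R ⧸ J π 1) (A' := A ⧸ (J π 1).map (algebraMap R A))
    (Λ' := Λ ⧸ (J π 1).map (algebraMap R Λ))
    Ideal.Quotient.mk_surjective ?_
    (Ideal.Quotient.mkₐ R _) (Ideal.Quotient.mkₐ_surjective R _) ?_
    (Ideal.Quotient.mkₐ R _) (Ideal.Quotient.mkₐ_surjective R _) ?_
    (quotMap φ (J π 1)) (fun a => rfl) h1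
  · intro x hx
    have h2 := hR 0 hr x
    rw [J_zero, Ideal.mem_bot, Ideal.mem_bot] at h2
    exact h2 hx
  · intro x hx
    have h2 := hΛ 0 hr x
    rw [J_zero, Ideal.map_bot, Ideal.mem_bot, Ideal.mem_bot] at h2
    rw [Algebra.smul_def, map_pow] at hx
    rw [Algebra.smul_def]
    exact h2 hx
  · rw [← hJ1]
    exact Ideal.mk_ker
  · apply le_of_eq
    rw [show RingHom.ker (algebraMap R (R ⧸ J π 1)) = J π 1 from Ideal.mk_ker]
    exact Ideal.Quotient.mkₐ_ker R _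
  · rw [show Ideal.span {algebraMap R Λ (π 0 ^ 8)} = (J π 1).map (algebraMap R Λ) by
      rw [hJ1, Ideal.map_span, Set.image_singleton]]
    exact Ideal.Quotient.mkₐ_ker R _

end Chain

/-- the statement form -/
theorem main {R A Λ : Type u} [CommRing R] [IsNoetherianRing R]
    [CommRing A] [Algebra R A] [Algebra.FinitePresentation R A] [CommRing Λ] [Algebra R Λ]
    (φ : A →ₐ[R] Λ) (𝔮 : Ideal Λ) [𝔮.IsPrime] {r : ℕ} (hr : 0 < r) (π : Fin r → R)
    (hπ𝔮 : ∀ i, algebraMap R Λ (π i) ∈ 𝔮)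
    (hR : ∀ i : Fin r, ∀ x : R ⧸ Ideal.span (Set.range fun j : {j : Fin r // (j : ℕ) < (i : ℕ)} => π j ^ 8),
      Ideal.Quotient.mk _ (π i) ^ 2 * x = 0 → Ideal.Quotient.mk _ (π i) * x = 0)
    (hΛ : ∀ i : Fin r, ∀ x : Λ ⧸ Ideal.span (Set.range fun j : {j : Fin r // (j : ℕ) < (i : ℕ)} =>
        algebraMap R Λ (π j) ^ 8),
      Ideal.Quotient.mk _ (algebraMap R Λ (π i)) ^ 2 * x = 0 → Ideal.Quotient.mk _ (algebraMap R Λ (π i)) * x = 0)
    (hstd : ∀ i, Smoothing.IsStrictlyStandard R A (algebraMap R A (π i)))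
    (K : Ideal R) (hK : K = Ideal.span (Set.range fun i => π i ^ 8))
    (φK : (A ⧸ K.map (algebraMap R A)) →ₐ[R ⧸ K] (Λ ⧸ K.map (algebraMap R Λ)))
    (hφK : ∀ a : A, φK (Ideal.Quotient.mk _ a) = Ideal.Quotient.mk _ (φ a))
    (hres : Smoothing.Resolvable (R ⧸ K) φK (𝔮.map (Ideal.Quotient.mk (K.map (algebraMap R Λ))))) :
    Smoothing.Resolvable R φ 𝔮 := by
  classical
  let π' : ℕ → R := fun j => if h : j < r then π ⟨j, h⟩ else 0
  have hπ' : ∀ (j : ℕ) (hj : j < r), π' j = π ⟨j, hj⟩ := fun j hj => dif_pos hj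
  have hset : ∀ i : Fin r, (Set.range fun j : {j : Fin r // (j : ℕ) < (i : ℕ)} => π j ^ 8) =
      (fun j => π' j ^ 8) '' Set.Iio (i : ℕ) := by
    intro i
    ext x
    constructor
    · rintro ⟨⟨j, hj⟩, rfl⟩
      exact ⟨j.1, hj, by simp only [hπ' j.1 j.2]⟩
    · rintro ⟨j, hj, rfl⟩
      have hjr : j < r := lt_trans hj i.2
      exact ⟨⟨⟨j, hjr⟩, hj⟩, by simp only [hπ' j hjr]⟩
  have hJ : ∀ i : Fin r,
      Ideal.span (Set.range fun j : {j : Fin r // (j : ℕ) < (i : ℕ)} => π j ^ 8) = J π' i := by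
    intro i
    unfold J
    rw [hset]
  have hJΛ : ∀ i : Fin r, Ideal.span (Set.range fun j : {j : Fin r // (j : ℕ) < (i : ℕ)} =>
      algebraMap R Λ (π j) ^ 8) = (J π' i).map (algebraMap R Λ) := by
    intro i
    rw [← hJ, Ideal.map_span, ← Set.range_comp]
    congr 2
    ext j
    simp only [Function.comp_apply, map_pow]
  have hKJ : K = J π' r := by
    rw [hK]
    unfold J
    congr 1
    ext x
    constructor
    · rintro ⟨j, rfl⟩
      exact ⟨j.1, j.2, by simp only [hπ' j.1 j.2]⟩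
    · rintro ⟨j, hj, rfl⟩
      exact ⟨⟨j, hj⟩, by simp only [hπ' j hj]⟩
  refine main_aux π' φ 𝔮 r hr ?_ ?_ ?_ ?_ K hKJ φK hφK hres
  · intro i hi
    rw [hπ' i hi]
    exact hπ𝔮 _
  · intro i hi x hx
    have h1 := hR ⟨i, hi⟩ (Ideal.Quotient.mk _ x)
    rw [← map_pow, ← map_mul, ← map_mul, Ideal.Quotient.eq_zero_iff_mem,
      Ideal.Quotient.eq_zero_iff_mem, hJ ⟨i, hi⟩] at h1
    rw [hπ' i hi] at hx ⊢
    exact h1 hx
  · intro i hi x hx
    have h1 := hΛ ⟨i, hi⟩ (Ideal.Quotient.mk _ x)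
    rw [← map_pow, ← map_mul, ← map_mul, Ideal.Quotient.eq_zero_iff_mem,
      Ideal.Quotient.eq_zero_iff_mem, hJΛ ⟨i, hi⟩] at h1
    rw [hπ' i hi] at hx ⊢
    exact h1 hx
  · intro i hi
    rw [hπ' i hi]
    exact hstd _

end Groth.Agent.Lib.R2H4.ResMod
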