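import Mathlib
import Groth.Prelude.Def_Grpd
import Groth.Agent.Lib.R2H4SchImage
import Groth.Agent.Lib.R2H4PairGrpd

set_option autoImplicit false
universe u
open CategoryTheory CategoryTheory.Limits AlgebraicGeometry

namespace Groth.Agent.Lib.R2H4.SchImagePair

open Groth.Agent.Lib.R2H4.SchImage Groth.Agent.Lib.R2H4.PairGrpd

/-- `U ×_S U` is affine when `U` is the spectrum of a field. -/
theorem isAffine_pullback_of_field {S U : Scheme.{u}} (pU : U ⟶ S) {k : Type u} [Field k]
    (eU : U ≅ Spec (CommRingCat.of k)) : IsAffine (pullback pU pU) := by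
  obtain ⟨h1, h2⟩ := subsingleton_and_isIntegral_of_iso eU
  have : Nonempty U := inferInstance
  obtain ⟨x⟩ := this
  obtain ⟨_, ⟨(V : S.Opens), (hV : IsAffineOpen V), rfl⟩, hxV, -⟩ :=
    S.isBasis_affineOpens.exists_subset_of_mem_open (Set.mem_univ (pU x)) isOpen_univ
  have hr : Set.range pU ⊆ Set.range V.ι := by
    rintro _ ⟨y, rfl⟩
    rw [Subsingleton.elim y x, Scheme.Opens.range_ι]
    exact hxV
  obtain ⟨l, hl⟩ : ∃ l : U ⟶ V, l ≫ V.ι = pU :=
    ⟨IsOpenImmersion.lift V.ι pU hr, IsOpenImmersion.lift_fac _ _ _⟩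
  have : IsAffine U := IsAffine.of_isIso eU.hom
  have : IsAffine V := hV
  subst hl
  have hP : IsPullback (pullback.fst l l) (pullback.snd l l) (l ≫ V.ι) (l ≫ V.ι) :=
    IsPullback.of_isLimit' ⟨by rw [pullback.condition_assoc]⟩
      (pullbackIsPullbackOfCompMono l l V.ι)
  exact IsAffine.of_isIso hP.isoPullback.inv

end Groth.Agent.Lib.R2H4.SchImagePair

namespace Groth.Agent.Lib.R2H4.SchImagePair

open Groth.Agent.Lib.R2H4.SchImage Groth.Agent.Lib.R2H4.PairGrpd

set_option backward.isDefEq.respectTransparency false in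
/-- S7509: the groupoid on the scheme-theoretic image of `j`. -/
theorem exists_groupoid_on_image_j (S : Scheme.{u}) (G : Grpd.GroupoidScheme S) (k : Type u)
    [Field k] (eU : G.U ≅ Spec (CommRingCat.of k)) [CompactSpace G.R] :
    ∃ (G' : Grpd.GroupoidScheme S) (φ : Grpd.GroupoidScheme.Hom G G'), IsIso φ.fU ∧
      IsClosedImmersion G'.j ∧ G'.j.ker = (G.j ≫ pullback.map G.pU G.pU G'.pU G'.pU φ.fU φ.fU (𝟙 S)
        ((Category.comp_id _).trans φ.fU_over.symm)
        ((Category.comp_id _).trans φ.fU_over.symm)).ker := by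
  have h1 : Subsingleton (pairGroupoid G.pU).U := (subsingleton_and_isIntegral_of_iso eU).1
  have h2 : IsIntegral (pairGroupoid G.pU).U := (subsingleton_and_isIntegral_of_iso eU).2
  have h3 : IsIso (toPair G).fU := by
    change IsIso (𝟙 _)
    infer_instance
  have h4 : QuasiCompact (toPair G).fR := by
    change QuasiCompact G.j
    have := isAffine_pullback_of_field G.pU eU
    infer_instance
  have hj : (imgGroupoid (toPair G)).j = (toPair G).fR.imageι := by
    apply pullback.hom_ext
    · exact pullback.lift_fst _ _ _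
    · exact pullback.lift_snd _ _ _
  refine ⟨imgGroupoid (toPair G), toImg (toPair G), h3, ?_, ?_⟩
  · rw [hj]
    infer_instance
  · rw [hj]
    have hm : pullback.map G.pU G.pU (imgGroupoid (toPair G)).pU (imgGroupoid (toPair G)).pU
        (toImg (toPair G)).fU (toImg (toPair G)).fU (𝟙 S)
        ((Category.comp_id _).trans (toImg (toPair G)).fU_over.symm)
        ((Category.comp_id _).trans (toImg (toPair G)).fU_over.symm) = 𝟙 _ := by
      apply pullback.hom_ext
      · rw [pullback.lift_fst, Category.id_comp]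
        exact Category.comp_id _
      · rw [pullback.lift_snd, Category.id_comp]
        exact Category.comp_id _
    rw [hm, Category.comp_id]
    exact Scheme.IdealSheafData.ker_subschemeι _

end Groth.Agent.Lib.R2H4.SchImagePair
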