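import Mathlib
import Groth.Prelude.Def_Smoothing
import Groth.Agent.Lib.R2H4Desing

/-!
# The algebra `B = A[x, z]/(x_i^n - Σ_j z_ij a_j)` over `k[x]` (helper4, round 2)

* `AR`, `PB`, `relB`, `JB`, `BB`, `gB`, `rel_eq`; `BB` is finitely presented over `k[x]`.
* `liftB`: maps out of `B`; `algHom_ext_B`.
* `formallySmooth_away`, `smooth_away_a`: `B_{a_j}` is smooth over `k[x]` when `A_{a_j}` is smooth
  over `k`; `smooth_away_X`: `B_{x_i}` is smooth over `k[x]`.
-/

set_option autoImplicit false
set_option linter.style.haveILetI false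
set_option linter.unusedSimpArgs false
set_option linter.unusedSectionVars false
universe u

namespace Groth.Agent.Lib.R2H4.SepB
section Part1

open TensorProduct MvPolynomial

section Defs

variable (k : Type u) [Field k] (A : Type u) [CommRing A] [Algebra k A] (d r n : ℕ) (a : Fin r → A)

/-- the polynomial ring `k[x₁, …, x_d]` -/
abbrev Rk := MvPolynomial (Fin d) k

/-- `A[x₁, …, x_d]` as the base change (a `def`, to hide the tensor product instance diamonds) -/
def AR : Type u := MvPolynomial (Fin d) k ⊗[k] A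

noncomputable instance : CommRing (AR k A d) :=
  inferInstanceAs (CommRing (MvPolynomial (Fin d) k ⊗[k] A))

noncomputable instance : Algebra (MvPolynomial (Fin d) k) (AR k A d) :=
  inferInstanceAs (Algebra (MvPolynomial (Fin d) k) (MvPolynomial (Fin d) k ⊗[k] A))

noncomputable instance : Algebra k (AR k A d) :=
  inferInstanceAs (Algebra k (MvPolynomial (Fin d) k ⊗[k] A))

instance : IsScalarTower k (MvPolynomial (Fin d) k) (AR k A d) :=
  inferInstanceAs (IsScalarTower k (MvPolynomial (Fin d) k) (MvPolynomial (Fin d) k ⊗[k] A))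

instance [Algebra.FinitePresentation k A] :
    Algebra.FinitePresentation (MvPolynomial (Fin d) k) (AR k A d) :=
  inferInstanceAs (Algebra.FinitePresentation (MvPolynomial (Fin d) k)
    (MvPolynomial (Fin d) k ⊗[k] A))

variable {k A d} in
/-- pure tensors in `AR` -/
noncomputable def tm (p : MvPolynomial (Fin d) k) (x : A) : AR k A d := p ⊗ₜ[k] x

/-- `A → A[x]` -/
noncomputable def incR : A →ₐ[k] AR k A d :=
  (Algebra.TensorProduct.includeRight : A →ₐ[k] MvPolynomial (Fin d) k ⊗[k] A)

theorem incR_apply (x : A) : incR k A d x = tm 1 x := rfl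

theorem algebraMap_AR (p : MvPolynomial (Fin d) k) :
    algebraMap (MvPolynomial (Fin d) k) (AR k A d) p = tm p 1 := rfl

/-- `A[x, z]` -/
abbrev PB := MvPolynomial (Fin d × Fin r) (AR k A d)

variable {A r}

/-- the relation `x_i^n - Σ_j z_ij a_j` -/
noncomputable def relB (i : Fin d) : PB k A d r :=
  C (tm (X i : MvPolynomial (Fin d) k) (1 : A)) ^ n -
    ∑ j, X (i, j) * C (tm (1 : MvPolynomial (Fin d) k) (a j))

/-- the ideal of relations -/
noncomputable def JB : Ideal (PB k A d r) := Ideal.span (Set.range (relB k d n a))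

/-- the algebra `B = A[x, z]/(x_i^n - Σ_j z_ij a_j)` -/
abbrev BB := PB k A d r ⧸ JB k d n a

/-- the quotient map -/
noncomputable abbrev mkB : PB k A d r →ₐ[Rk k d] BB k d n a := Ideal.Quotient.mkₐ _ (JB k d n a)

/-- the structure map `A → B` -/
noncomputable def gB : A →ₐ[k] BB k d n a :=
  ((mkB k d n a).restrictScalars k).comp
    ((IsScalarTower.toAlgHom k (AR k A d) (PB k A d r)).comp
      (incR k A d))

theorem gB_apply (x : A) :
    gB k d n a x = Ideal.Quotient.mk (JB k d n a) (C (tm (1 : MvPolynomial (Fin d) k) x)) := rfl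

theorem algebraMap_X (i : Fin d) :
    algebraMap (Rk k d) (BB k d n a) (X i) =
      Ideal.Quotient.mk (JB k d n a) (C (tm (X i : MvPolynomial (Fin d) k) (1 : A))) := rfl

instance [Algebra.FinitePresentation k A] : Algebra.FinitePresentation (Rk k d) (BB k d n a) := by
  haveI : Algebra.FinitePresentation (Rk k d) (AR k A d) := inferInstance
  haveI : Algebra.FinitePresentation (AR k A d) (PB k A d r) := inferInstance
  haveI : Algebra.FinitePresentation (Rk k d) (PB k A d r) :=
    Algebra.FinitePresentation.trans (Rk k d) (AR k A d) (PB k A d r)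
  exact Algebra.FinitePresentation.quotient (Submodule.fg_span (Set.finite_range _))

/-- the defining relation in `B` -/
theorem rel_eq (i : Fin d) :
    algebraMap (Rk k d) (BB k d n a) (X i) ^ n =
      ∑ j, Ideal.Quotient.mk (JB k d n a) (X (i, j)) * gB k d n a (a j) := by
  rw [algebraMap_X, ← map_pow, ← sub_eq_zero]
  simp only [gB_apply, ← map_mul, ← map_sum, ← map_sub]
  rw [Ideal.Quotient.eq_zero_iff_mem]
  exact Ideal.subset_span ⟨i, rfl⟩

end Defs

section Lift

variable {k : Type u} [Field k] {A : Type u} [CommRing A] [Algebra k A] {d r : ℕ}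
  {T : Type*} [CommRing T] [Algebra (MvPolynomial (Fin d) k) T] [Algebra k T]
  [IsScalarTower k (MvPolynomial (Fin d) k) T]

/-- `A[x] → T` -/
noncomputable def liftAR (α : A →ₐ[k] T) : AR k A d →ₐ[MvPolynomial (Fin d) k] T :=
  (Algebra.TensorProduct.lift (Algebra.ofId (MvPolynomial (Fin d) k) T) α
    (fun _ _ => Commute.all _ _) : MvPolynomial (Fin d) k ⊗[k] A →ₐ[MvPolynomial (Fin d) k] T)

theorem liftAR_tm (α : A →ₐ[k] T) (p : MvPolynomial (Fin d) k) (x : A) :
    liftAR α (tm p x) = algebraMap (MvPolynomial (Fin d) k) T p * α x :=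
  Algebra.TensorProduct.lift_tmul _ _ _ p x

/-- `A[x, z] → T` -/
noncomputable def liftPB (α : A →ₐ[k] T) (ζ : Fin d × Fin r → T) :
    PB k A d r →ₐ[MvPolynomial (Fin d) k] T :=
  { toRingHom := MvPolynomial.eval₂Hom (liftAR α).toRingHom ζ
    commutes' := fun p => by
      change MvPolynomial.eval₂Hom (liftAR α).toRingHom ζ
        (algebraMap (MvPolynomial (Fin d) k) (PB k A d r) p) = _
      rw [MvPolynomial.algebraMap_apply, MvPolynomial.eval₂Hom_C]
      exact (liftAR α).commutes p }

theorem liftPB_C (α : A →ₐ[k] T) (ζ : Fin d × Fin r → T) (t : AR k A d) :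
    liftPB α ζ (C t) = liftAR α t := MvPolynomial.eval₂Hom_C _ _ _

theorem liftPB_X (α : A →ₐ[k] T) (ζ : Fin d × Fin r → T) (s : Fin d × Fin r) :
    liftPB α ζ (X s) = ζ s := MvPolynomial.eval₂Hom_X' _ _ _

variable (n : ℕ) (a : Fin r → A)

/-- `B → T` from a compatible family -/
noncomputable def liftB (α : A →ₐ[k] T) (ζ : Fin d × Fin r → T)
    (hrel : ∀ i, algebraMap (MvPolynomial (Fin d) k) T (X i) ^ n = ∑ j, ζ (i, j) * α (a j)) :
    BB k d n a →ₐ[MvPolynomial (Fin d) k] T :=
  Ideal.Quotient.liftₐ (JB k d n a) (liftPB α ζ) (by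
    have hle : JB k d n a ≤ RingHom.ker (liftPB α ζ).toRingHom := by
      rw [JB, Ideal.span_le]
      rintro _ ⟨i, rfl⟩
      change liftPB α ζ (relB k d n a i) = 0
      rw [relB, map_sub, map_pow, map_sum, liftPB_C, liftAR_tm, map_one, mul_one, sub_eq_zero, hrel]
      refine Finset.sum_congr rfl fun j _ => ?_
      rw [map_mul, liftPB_X, liftPB_C, liftAR_tm, map_one, one_mul]
    exact fun x hx => hle hx)

theorem liftB_mk (α : A →ₐ[k] T) (ζ : Fin d × Fin r → T)
    (hrel : ∀ i, algebraMap (MvPolynomial (Fin d) k) T (X i) ^ n = ∑ j, ζ (i, j) * α (a j))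
    (q : PB k A d r) :
    liftB n a α ζ hrel (Ideal.Quotient.mk (JB k d n a) q) = liftPB α ζ q := rfl

theorem liftB_gB (α : A →ₐ[k] T) (ζ : Fin d × Fin r → T)
    (hrel : ∀ i, algebraMap (MvPolynomial (Fin d) k) T (X i) ^ n = ∑ j, ζ (i, j) * α (a j))
    (x : A) : liftB n a α ζ hrel (gB k d n a x) = α x := by
  rw [gB_apply, liftB_mk, liftPB_C, liftAR_tm, map_one, one_mul]

theorem liftB_X (α : A →ₐ[k] T) (ζ : Fin d × Fin r → T)
    (hrel : ∀ i, algebraMap (MvPolynomial (Fin d) k) T (X i) ^ n = ∑ j, ζ (i, j) * α (a j))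
    (s : Fin d × Fin r) :
    liftB n a α ζ hrel (Ideal.Quotient.mk (JB k d n a) (X s)) = ζ s := by
  rw [liftB_mk, liftPB_X]

/-- two maps out of `B` agree if they agree on `A` and on the `z`-variables -/
theorem algHom_ext_B {f g : BB k d n a →ₐ[MvPolynomial (Fin d) k] T}
    (h1 : ∀ x : A, f (gB k d n a x) = g (gB k d n a x))
    (h2 : ∀ s, f (Ideal.Quotient.mk (JB k d n a) (X s)) = g (Ideal.Quotient.mk (JB k d n a) (X s))) :
    f = g := by
  have hcomp : f.comp (mkB k d n a) = g.comp (mkB k d n a) := by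
    apply MvPolynomial.algHom_ext'
    · have : ((f.comp (mkB k d n a)).comp (IsScalarTower.toAlgHom (MvPolynomial (Fin d) k)
          (AR k A d) (PB k A d r)) : MvPolynomial (Fin d) k ⊗[k] A →ₐ[MvPolynomial (Fin d) k] T) =
          (g.comp (mkB k d n a)).comp (IsScalarTower.toAlgHom (MvPolynomial (Fin d) k)
          (AR k A d) (PB k A d r)) := by
        apply Algebra.TensorProduct.ext'
        intro p x
        have e : (p ⊗ₜ[k] x : MvPolynomial (Fin d) k ⊗[k] A) = p • ((1 : MvPolynomial (Fin d) k) ⊗ₜ[k] x) := by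
          rw [TensorProduct.smul_tmul', smul_eq_mul, mul_one]
        rw [e, map_smul, map_smul]
        congr 1
        exact h1 x
      exact this
    · intro s
      exact h2 s
  apply AlgHom.ext
  intro y
  obtain ⟨q, rfl⟩ := Ideal.Quotient.mk_surjective y
  exact congr($hcomp q)

end Lift

end Part1

section Part2

open TensorProduct MvPolynomial

section Smooth

variable {k : Type u} [Field k] {A : Type u} [CommRing A] [Algebra k A] {d r : ℕ}
  (n : ℕ) (a : Fin r → A)

/-- `B_{a_j}` is formally smooth over `k[x]` when `A_{a_j}` is formally smooth over `k` -/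
theorem formallySmooth_away (j : Fin r) [Algebra.FormallySmooth k (Localization.Away (a j))]
    (b : BB k d n a) (hb : b = gB k d n a (a j)) :
    Algebra.FormallySmooth (MvPolynomial (Fin d) k) (Localization.Away b) := by
  classical
  apply Algebra.FormallySmooth.of_comp_surjective
  intro T _ _ N hN ubar
  letI : Algebra k T := ((algebraMap (MvPolynomial (Fin d) k) T).comp
    (algebraMap k (MvPolynomial (Fin d) k))).toAlgebra
  haveI : IsScalarTower k (MvPolynomial (Fin d) k) T := IsScalarTower.of_algebraMap_eq (fun _ => rfl)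
  -- the map `A → T/N`
  let ι : BB k d n a →ₐ[MvPolynomial (Fin d) k] Localization.Away b :=
    IsScalarTower.toAlgHom (MvPolynomial (Fin d) k) (BB k d n a) (Localization.Away b)
  let αbar : A →ₐ[k] T ⧸ N := ((ubar.comp ι).restrictScalars k).comp (gB k d n a)
  have hαbar : ∀ x, αbar x = ubar (algebraMap (BB k d n a) (Localization.Away b) (gB k d n a x)) :=
    fun x => rfl
  have hu : IsUnit (αbar.toRingHom (a j)) := by
    change IsUnit (αbar (a j))
    rw [hαbar, ← hb]
    exact (IsLocalization.Away.algebraMap_isUnit b).map ubar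
  let αbar' : Localization.Away (a j) →ₐ[k] T ⧸ N :=
    { toRingHom := IsLocalization.Away.lift (a j) hu
      commutes' := fun c => by
        change IsLocalization.Away.lift (a j) hu (algebraMap k (Localization.Away (a j)) c) = _
        rw [IsScalarTower.algebraMap_apply k A (Localization.Away (a j)),
          IsLocalization.Away.lift_eq]
        exact αbar.commutes c }
  have hαbar' : ∀ x : A, αbar' (algebraMap A (Localization.Away (a j)) x) = αbar x := fun x =>
    IsLocalization.Away.lift_eq (a j) hu x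
  obtain ⟨α', hα'⟩ := Algebra.FormallySmooth.comp_surjective k (Localization.Away (a j)) N hN αbar'
  let α : A →ₐ[k] T := α'.comp (IsScalarTower.toAlgHom k A (Localization.Away (a j)))
  have hα : ∀ x, Ideal.Quotient.mk N (α x) = αbar x := fun x => by
    change Ideal.Quotient.mk N (α' (algebraMap A (Localization.Away (a j)) x)) = _
    have := congr($hα' (algebraMap A (Localization.Away (a j)) x))
    rw [← hαbar']
    exact this
  -- `α (a j)` is a unit
  have hunit : IsUnit (α (a j)) := by
    apply (IsNilpotent.isUnit_quotient_mk_iff (I := N) ⟨2, hN⟩).mp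
    rw [hα]
    exact hu
  obtain ⟨uinv, huinv⟩ := hunit.exists_left_inv
  -- lifts of the `z`-variables
  have hz : ∀ s : Fin d × Fin r, ∃ τ : T, Ideal.Quotient.mk N τ =
      ubar (ι (Ideal.Quotient.mk (JB k d n a) (X s))) := fun s => Ideal.Quotient.mk_surjective _
  choose ζ₀ hζ₀ using hz
  let ε : Fin d → T := fun i =>
    algebraMap (MvPolynomial (Fin d) k) T (X i) ^ n - ∑ j', ζ₀ (i, j') * α (a j')
  have hε : ∀ i, ε i ∈ N := by
    intro i
    rw [← Ideal.Quotient.eq_zero_iff_mem]
    change Ideal.Quotient.mk N (algebraMap (MvPolynomial (Fin d) k) T (X i) ^ n -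
      ∑ j', ζ₀ (i, j') * α (a j')) = 0
    rw [map_sub, map_pow, map_sum, sub_eq_zero]
    have h1 : Ideal.Quotient.mk N (algebraMap (MvPolynomial (Fin d) k) T (X i)) =
        ubar (ι (algebraMap (MvPolynomial (Fin d) k) (BB k d n a) (X i))) := by
      rw [AlgHom.commutes, AlgHom.commutes]
      rfl
    rw [h1, ← map_pow, ← map_pow, rel_eq, map_sum, map_sum]
    refine Finset.sum_congr rfl fun j' _ => ?_
    rw [map_mul, map_mul, map_mul, hζ₀, hα]
    rfl
  let ζ : Fin d × Fin r → T := fun s => ζ₀ s + (if s.2 = j then uinv * ε s.1 else 0)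
  have hζ : ∀ s, Ideal.Quotient.mk N (ζ s) = ubar (ι (Ideal.Quotient.mk (JB k d n a) (X s))) := by
    intro s
    change Ideal.Quotient.mk N (ζ₀ s + (if s.2 = j then uinv * ε s.1 else 0)) = _
    rw [map_add, hζ₀]
    have : Ideal.Quotient.mk N (if s.2 = j then uinv * ε s.1 else 0) = 0 := by
      rw [Ideal.Quotient.eq_zero_iff_mem]
      split_ifs
      · exact N.mul_mem_left _ (hε s.1)
      · exact N.zero_mem
    rw [this, add_zero]
  have hrel : ∀ i, algebraMap (MvPolynomial (Fin d) k) T (X i) ^ n = ∑ j', ζ (i, j') * α (a j') := by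
    intro i
    have e1 : ∀ j', ζ (i, j') * α (a j') =
        ζ₀ (i, j') * α (a j') + (if j' = j then uinv * ε i * α (a j') else 0) := by
      intro j'
      change (ζ₀ (i, j') + (if j' = j then uinv * ε i else 0)) * α (a j') = _
      rw [add_mul]
      split_ifs <;> simp
    rw [Finset.sum_congr rfl (fun j' _ => e1 j'), Finset.sum_add_distrib,
      Finset.sum_ite_eq' Finset.univ j, if_pos (Finset.mem_univ j)]
    have e2 : uinv * ε i * α (a j) = ε i := by
      rw [mul_comm uinv, mul_assoc, huinv, mul_one]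
    rw [e2]
    change _ = _ + (algebraMap (MvPolynomial (Fin d) k) T (X i) ^ n - ∑ j', ζ₀ (i, j') * α (a j'))
    ring
  refine Desing.exists_lift_of_algHom b N hN ubar (liftB n a α ζ hrel) ?_
  have hcomp : (Ideal.Quotient.mkₐ (MvPolynomial (Fin d) k) N).comp (liftB n a α ζ hrel) =
      ubar.comp ι := by
    apply algHom_ext_B
    · intro x
      change Ideal.Quotient.mk N (liftB n a α ζ hrel (gB k d n a x)) = ubar (ι (gB k d n a x))
      rw [liftB_gB, hα]
      rfl
    · intro s
      change Ideal.Quotient.mk N (liftB n a α ζ hrel (Ideal.Quotient.mk (JB k d n a) (X s))) =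
        ubar (ι (Ideal.Quotient.mk (JB k d n a) (X s)))
      rw [liftB_X, hζ]
  intro x
  exact congr($hcomp x)

/-- `B_{x_i}` is smooth over `k[x]` -/
theorem smooth_away_X [Algebra.FinitePresentation k A]
    (hsm : ∀ j, Algebra.FormallySmooth k (Localization.Away (a j))) (i : Fin d) :
    Algebra.Smooth (MvPolynomial (Fin d) k)
      (Localization.Away (algebraMap (MvPolynomial (Fin d) k) (BB k d n a) (X i))) := by
  classical
  rw [← Algebra.basicOpen_subset_smoothLocus_iff_smooth]
  intro Q hQ
  have hQ' : algebraMap (MvPolynomial (Fin d) k) (BB k d n a) (X i) ∉ Q.asIdeal := hQ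
  have hex : ∃ j, gB k d n a (a j) ∉ Q.asIdeal := by
    by_contra hcon
    push Not at hcon
    apply hQ'
    apply Q.2.mem_of_pow_mem n
    rw [rel_eq]
    exact Ideal.sum_mem _ fun j _ => Ideal.mul_mem_left _ _ (hcon j)
  obtain ⟨j, hj⟩ := hex
  haveI := hsm j
  haveI := formallySmooth_away (k := k) (d := d) n a j (gB k d n a (a j)) rfl
  exact Desing.isSmoothAt_of_formallySmooth_away (gB k d n a (a j)) Q.asIdeal hj

/-- `B_{a_j}` is smooth over `k[x]` -/
theorem smooth_away_a [Algebra.FinitePresentation k A] (j : Fin r)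
    [Algebra.FormallySmooth k (Localization.Away (a j))] :
    Algebra.Smooth (MvPolynomial (Fin d) k) (Localization.Away (gB k d n a (a j))) := by
  haveI := formallySmooth_away (k := k) (d := d) n a j (gB k d n a (a j)) rfl
  haveI : Algebra.FinitePresentation (BB k d n a) (Localization.Away (gB k d n a (a j))) :=
    IsLocalization.Away.finitePresentation (gB k d n a (a j))
  haveI : Algebra.FinitePresentation (MvPolynomial (Fin d) k)
      (Localization.Away (gB k d n a (a j))) :=
    Algebra.FinitePresentation.trans (MvPolynomial (Fin d) k) (BB k d n a) _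
  exact ⟨inferInstance, inferInstance⟩

end Smooth

end Part2

end Groth.Agent.Lib.R2H4.SepB
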