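import Mathlib

/-!
# Powers of `a` are strictly standard when `A_a` is smooth with stably free differentials, part A
(helper4, round 2)

* `exists_minor_combination`: a left inverse `S' * M = 1` writes `1` as a combination of the maximal
  minors of `M` (the half of Cauchy–Binet we need).
* `appendL`, `exists_basis_and_minors`: from a split exact `0 → N → F → Ω → 0` with `F` free of rank
  `n` and `Ω × B^p ≃ B^q`, a basis `θ` of `N × B^q` of size `n + p` whose coordinate matrix has
  maximal minors generating the unit ideal.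
* `exists_retraction`: the localized conormal sequence of a presentation is split when `A_a` is smooth.
* `xx`, `yv`, `ev` and the partial-derivative bookkeeping for `R[x][y]`.
* `key_identity`, `cotangent_mk_smul`, `exists_denoms`.
-/

set_option autoImplicit false
set_option linter.style.haveILetI false
set_option linter.unusedSimpArgs false
universe u

namespace Groth.Agent.Lib.R2H4.StdPow

section SP1

open Matrix

/-- Cauchy–Binet, the part we need: a left inverse expresses `1` through the maximal minors. -/
theorem exists_minor_combination {B : Type*} [CommRing B] {c N : ℕ}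
    (S' : Matrix (Fin c) (Fin N) B) (M : Matrix (Fin N) (Fin c) B) (h : S' * M = 1) :
    ∃ β : (Fin c → Fin N) → B, ∑ σ, β σ * (M.submatrix σ id).det = 1 := by
  classical
  refine ⟨fun σ => ∏ i, S' i (σ i), ?_⟩
  have h1 : (S' * M).det = 1 := by rw [h, Matrix.det_one]
  rw [← h1]
  have h2 : S' * M = Matrix.of (fun i => ∑ l, S' i l • M l) := by
    ext i j
    simp [Matrix.mul_apply, Finset.sum_apply]
  rw [h2]
  have h3 := (Matrix.detRowAlternating (R := B) (n := Fin c)).toMultilinearMap.map_sum
    (fun i l => S' i l • M l)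
  change Matrix.det (fun i => ∑ l, S' i l • M l) = _ at h3
  change _ = Matrix.det (fun i => ∑ l, S' i l • M l)
  rw [h3]
  apply Finset.sum_congr rfl
  intro σ _
  have h4 := (Matrix.detRowAlternating (R := B) (n := Fin c)).toMultilinearMap.map_smul_univ
    (fun i => S' i (σ i)) (fun i => M (σ i))
  change Matrix.det (fun i => S' i (σ i) • M (σ i)) = _ at h4
  change _ = Matrix.det (fun i => S' i (σ i) • M (σ i))
  rw [h4, smul_eq_mul]
  rfl

/-- appending coordinates, linearly -/
noncomputable def appendL (B : Type*) [CommRing B] (n q : ℕ) :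
    ((Fin n → B) × (Fin q → B)) ≃ₗ[B] (Fin (n + q) → B) where
  toFun x := Fin.append x.1 x.2
  invFun y := (fun i => y (Fin.castAdd q i), fun k => y (Fin.natAdd n k))
  map_add' x y := by
    funext l
    induction l using Fin.addCases with
    | left i => simp [Fin.append_left]
    | right k => simp [Fin.append_right]
  map_smul' r x := by
    funext l
    induction l using Fin.addCases with
    | left i => simp [Fin.append_left]
    | right k => simp [Fin.append_right]
  left_inv x := by
    ext i
    · simp [Fin.append_left]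
    · simp [Fin.append_right]
  right_inv y := by
    funext l
    induction l using Fin.addCases with
    | left i => simp [Fin.append_left]
    | right k => simp [Fin.append_right]

theorem appendL_castAdd {B : Type*} [CommRing B] {n q : ℕ} (x : (Fin n → B) × (Fin q → B))
    (i : Fin n) : appendL B n q x (Fin.castAdd q i) = x.1 i := Fin.append_left _ _ _

theorem appendL_natAdd {B : Type*} [CommRing B] {n q : ℕ} (x : (Fin n → B) × (Fin q → B))
    (k : Fin q) : appendL B n q x (Fin.natAdd n k) = x.2 k := Fin.append_right _ _ _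

section Abstract

variable {B : Type*} [CommRing B] {N F Om : Type*} [AddCommGroup N] [AddCommGroup F]
  [AddCommGroup Om] [Module B N] [Module B F] [Module B Om]

/-- the stable-freeness bookkeeping: `N × B^q ≃ B^(n+p)`, together with the minors identity -/
theorem exists_basis_and_minors {n p q : ℕ} (f : N →ₗ[B] F) (g : F →ₗ[B] Om)
    (hfg : Function.Exact f g) (hg : Function.Surjective g) (l : F →ₗ[B] N)
    (hl : ∀ x, l (f x) = x) (e : (Om × (Fin p → B)) ≃ₗ[B] (Fin q → B))
    (b : Module.Basis (Fin n) B F) :
    ∃ (θ : Module.Basis (Fin (n + p)) B (N × (Fin q → B)))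
      (β : (Fin (n + p) → Fin (n + q)) → B),
      ∑ σ, β σ * (Matrix.of fun (i : Fin (n + p)) (k : Fin (n + p)) =>
        appendL B n q (b.equivFun (f (θ i).1), (θ i).2) (σ k)).det = 1 := by
  classical
  have hgf : ∀ y, g (f y) = 0 := fun y => (hfg (f y)).mpr ⟨y, rfl⟩
  -- the isomorphism `F × B^p ≃ N × B^q`
  let Θinv : (F × (Fin p → B)) →ₗ[B] (N × (Fin q → B)) :=
    (l ∘ₗ LinearMap.fst B F (Fin p → B)).prod
      (e.toLinearMap ∘ₗ (g.prodMap LinearMap.id))
  have hΘ : ∀ x u, Θinv (x, u) = (l x, e (g x, u)) := fun x u => rfl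
  have hinj : Function.Injective Θinv := by
    rw [injective_iff_map_eq_zero]
    rintro ⟨x, u⟩ hxu
    rw [hΘ] at hxu
    have h1 : l x = 0 := congrArg Prod.fst hxu
    have h2 : e (g x, u) = 0 := congrArg Prod.snd hxu
    have h3 : (g x, u) = 0 := e.map_eq_zero_iff.mp h2
    have h4 : g x = 0 := congrArg Prod.fst h3
    have h5 : u = 0 := congrArg Prod.snd h3
    obtain ⟨y, rfl⟩ := (hfg x).mp h4
    rw [hl] at h1
    rw [h1, map_zero, h5]
    rfl
  have hsurj : Function.Surjective Θinv := by
    rintro ⟨ν, w⟩
    obtain ⟨x₀, hx₀⟩ := hg (e.symm w).1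
    refine ⟨(x₀ - f (l x₀) + f ν, (e.symm w).2), ?_⟩
    rw [hΘ]
    refine Prod.ext ?_ ?_
    · simp [hl]
    · change e (g (x₀ - f (l x₀) + f ν), (e.symm w).2) = w
      rw [map_add, map_sub, hgf, hgf, sub_zero, add_zero, hx₀]
      exact e.apply_symm_apply w
  let Θ : (F × (Fin p → B)) ≃ₗ[B] (N × (Fin q → B)) := LinearEquiv.ofBijective Θinv ⟨hinj, hsurj⟩
  -- bases
  let b₀ : Module.Basis (Fin (n + p)) B (F × (Fin p → B)) :=
    Module.Basis.ofEquivFun ((b.equivFun.prodCongr (LinearEquiv.refl B (Fin p → B))).trans
      (appendL B n p))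
  let θ : Module.Basis (Fin (n + p)) B (N × (Fin q → B)) := b₀.map Θ
  -- the two maps in coordinates
  let E : (F × (Fin q → B)) ≃ₗ[B] (Fin (n + q) → B) :=
    (b.equivFun.prodCongr (LinearEquiv.refl B (Fin q → B))).trans (appendL B n q)
  let Dmap : (N × (Fin q → B)) →ₗ[B] (F × (Fin q → B)) := f.prodMap LinearMap.id
  let Lmap : (F × (Fin q → B)) →ₗ[B] (N × (Fin q → B)) := l.prodMap LinearMap.id
  have hLD : ∀ z, Lmap (Dmap z) = z := by
    rintro ⟨ν, w⟩
    change (l (f ν), w) = (ν, w)
    rw [hl]
  let M : Matrix (Fin (n + q)) (Fin (n + p)) B := fun l' i => E (Dmap (θ i)) l'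
  let S' : Matrix (Fin (n + p)) (Fin (n + q)) B :=
    fun i l' => θ.repr (Lmap (E.symm (Pi.single l' 1))) i
  have hSM : S' * M = 1 := by
    ext i j
    rw [Matrix.mul_apply]
    have h1 : ∑ l', S' i l' * M l' j =
        θ.repr (Lmap (E.symm (∑ l', M l' j • Pi.single l' 1))) i := by
      rw [map_sum, map_sum, map_sum, Finsupp.finsetSum_apply]
      apply Finset.sum_congr rfl
      intro l' _
      rw [map_smul, map_smul, map_smul, Finsupp.smul_apply, smul_eq_mul, mul_comm]
    have h2 : (∑ l', M l' j • (Pi.single l' 1 : Fin (n + q) → B)) = E (Dmap (θ j)) := by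
      funext l''
      simp [M, Finset.sum_apply, Pi.single_apply]
    rw [h1, h2, E.symm_apply_apply, hLD, Module.Basis.repr_self, Matrix.one_apply]
    simp [Finsupp.single_apply, eq_comm]
  obtain ⟨β, hβ⟩ := exists_minor_combination S' M hSM
  refine ⟨θ, β, ?_⟩
  rw [← hβ]
  apply Finset.sum_congr rfl
  intro σ _
  congr 1
  rw [← Matrix.det_transpose]
  congr 1

end Abstract

end SP1

section SP2

open TensorProduct KaehlerDifferential MvPolynomial

variable {R A : Type u} [CommRing R] [CommRing A] [Algebra R A]

/-- the localized conormal sequence of a presentation is split exact when `A_a` is smooth -/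
theorem exists_retraction (a : A) [Algebra.Smooth R (Localization.Away a)] {n : ℕ}
    (G : Algebra.Generators R A (Fin n)) :
    ∃ l : (Localization.Away a) ⊗[A] G.toExtension.CotangentSpace →ₗ[Localization.Away a]
        (Localization.Away a) ⊗[A] G.toExtension.Cotangent,
      ∀ x, l (LinearMap.baseChange (Localization.Away a) G.toExtension.cotangentComplex x) = x := by
  classical
  let B := Localization.Away a
  let Q := G.toExtension
  let f : B ⊗[A] Q.Cotangent →ₗ[B] B ⊗[A] Q.CotangentSpace :=
    LinearMap.baseChange B Q.cotangentComplex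
  let g : B ⊗[A] Q.CotangentSpace →ₗ[B] B ⊗[A] Ω[A⁄R] :=
    LinearMap.baseChange B Q.toKaehler
  have hfg : Function.Exact f g := by
    change Function.Exact (LinearMap.baseChange B Q.cotangentComplex : _ → _)
      (LinearMap.baseChange B Q.toKaehler : _ → _)
    rw [LinearMap.baseChange_eq_ltensor, LinearMap.baseChange_eq_ltensor]
    exact lTensor_exact B Q.exact_cotangentComplex_toKaehler Q.toKaehler_surjective
  have hg : Function.Surjective g := by
    change Function.Surjective (LinearMap.baseChange B Q.toKaehler : _ → _)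
    rw [LinearMap.baseChange_eq_ltensor]
    exact LinearMap.lTensor_surjective B Q.toKaehler_surjective
  haveI : Module.Flat A B := IsLocalization.flat _ (Submonoid.powers a)
  haveI : Algebra.FormallyEtale A B := Algebra.FormallyEtale.of_isLocalization (Submonoid.powers a)
  have hsm : Algebra.FormallySmooth R B := inferInstance
  obtain ⟨hproj, hH1⟩ := (Algebra.formallySmooth_iff R B).mp hsm
  haveI := hproj
  haveI := hH1
  -- injectivity
  have hsub : Subsingleton (B ⊗[A] Q.H1Cotangent) := by
    let e1 : B ⊗[A] Q.H1Cotangent ≃ₗ[A] B ⊗[A] Algebra.H1Cotangent R A :=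
      LinearEquiv.lTensor B G.equivH1Cotangent
    let e2 : B ⊗[A] Algebra.H1Cotangent R A ≃ₗ[B] Algebra.H1Cotangent R B :=
      Algebra.tensorH1CotangentOfIsLocalization R B (Submonoid.powers a)
    exact (e1.toEquiv.trans e2.toEquiv).subsingleton
  have hinj : Function.Injective f := by
    rw [injective_iff_map_eq_zero]
    intro x hx
    have hex : Function.Exact (Q.h1Cotangentι.lTensor B) (Q.cotangentComplex.lTensor B) :=
      Module.Flat.lTensor_exact B Q.exact_hCotangentι_cotangentComplex
    have hx' : (Q.cotangentComplex.lTensor B) x = 0 := by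
      rw [← LinearMap.baseChange_eq_ltensor]
      exact hx
    obtain ⟨y, rfl⟩ := (hex x).mp hx'
    rw [Subsingleton.elim y 0, map_zero]
  -- projectivity
  haveI : Module.Projective B (B ⊗[A] Ω[A⁄R]) :=
    Module.Projective.of_equiv (tensorKaehlerEquivOfFormallyEtale R A B).symm
  obtain ⟨s, hs⟩ := Module.projective_lifting_property g LinearMap.id hg
  have h01 : (Function.Injective f ∧ ∃ l, g ∘ₗ l = LinearMap.id) ↔
      (Function.Surjective g ∧ ∃ l, l ∘ₗ f = LinearMap.id) := (hfg.split_tfae' (g := g)).out 0 1
  obtain ⟨-, l, hl⟩ := h01.mp ⟨hinj, s, hs⟩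
  exact ⟨l, fun x => congr($hl x)⟩

end SP2

section SP3

open MvPolynomial

section Poly

variable {R : Type u} [CommRing R] (n q : ℕ)

/-- inclusion of `R[x]` in `R[x, y]` -/
noncomputable def xx : MvPolynomial (Fin n) R →ₐ[R] MvPolynomial (Fin (n + q)) R :=
  rename (Fin.castAdd q)

/-- the variables `y_k` -/
noncomputable def yv (k : Fin q) : MvPolynomial (Fin (n + q)) R := X (Fin.natAdd n k)

/-- `y ↦ 0` -/
noncomputable def ev : MvPolynomial (Fin (n + q)) R →ₐ[R] MvPolynomial (Fin n) R :=
  aeval (Fin.append (fun i => (X i : MvPolynomial (Fin n) R)) (fun _ => 0))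

theorem ev_xx (z : MvPolynomial (Fin n) R) : ev n q (xx n q z) = z := by
  have : (ev n q).comp (xx n q) = AlgHom.id R _ := by
    apply MvPolynomial.algHom_ext
    intro i
    change aeval _ (rename (Fin.castAdd q) (X i)) = X i
    rw [rename_X, aeval_X, Fin.append_left]
  exact congr($this z)

theorem ev_yv (k : Fin q) : ev n q (yv n q k) = (0 : MvPolynomial (Fin n) R) := by
  change aeval _ (X (Fin.natAdd n k)) = _
  rw [aeval_X, Fin.append_right]

theorem sub_xx_ev_mem (z : MvPolynomial (Fin (n + q)) R) :
    z - xx n q (ev n q z) ∈ Ideal.span (Set.range (yv (R := R) n q)) := by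
  induction z using MvPolynomial.induction_on with
  | C r =>
    have h1 : ev n q (C r : MvPolynomial (Fin (n + q)) R) = C r := aeval_C _ _
    have h2 : xx n q (C r : MvPolynomial (Fin n) R) = C r := rename_C _ _
    rw [h1, h2, sub_self]
    exact Ideal.zero_mem _
  | add z w hz hw =>
    have e : z + w - xx n q (ev n q (z + w)) =
        (z - xx n q (ev n q z)) + (w - xx n q (ev n q w)) := by
      rw [map_add, map_add]
      ring
    rw [e]
    exact add_mem hz hw
  | mul_X z l hz =>
    have e : z * X l - xx n q (ev n q (z * X l)) =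
        (z - xx n q (ev n q z)) * X l +
          xx n q (ev n q z) * (X l - xx n q (ev n q (X l))) := by
      rw [map_mul, map_mul]
      ring
    rw [e]
    refine add_mem (Ideal.mul_mem_right _ _ hz) (Ideal.mul_mem_left _ _ ?_)
    induction l using Fin.addCases with
    | left i =>
      have h1 : ev n q (X (Fin.castAdd q i) : MvPolynomial (Fin (n + q)) R) = X i := by
        change aeval _ (X (Fin.castAdd q i)) = _
        rw [aeval_X, Fin.append_left]
      have h2 : xx n q (X i : MvPolynomial (Fin n) R) = X (Fin.castAdd q i) := rename_X _ _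
      rw [h1, h2, sub_self]
      exact Ideal.zero_mem _
    | right k =>
      have h1 : ev n q (X (Fin.natAdd n k) : MvPolynomial (Fin (n + q)) R) = 0 := ev_yv n q k
      rw [h1, map_zero, sub_zero]
      exact Ideal.subset_span ⟨k, rfl⟩

theorem pderiv_castAdd_xx (i : Fin n) (z : MvPolynomial (Fin n) R) :
    pderiv (Fin.castAdd q i) (xx n q z) = xx n q (pderiv i z) :=
  pderiv_rename (Fin.castAdd_injective n q) i z

theorem pderiv_natAdd_xx (k : Fin q) (z : MvPolynomial (Fin n) R) :
    pderiv (Fin.natAdd n k) (xx n q z) = 0 := by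
  induction z using MvPolynomial.induction_on with
  | C r =>
    have h2 : xx n q (C r : MvPolynomial (Fin n) R) = C r := rename_C _ _
    rw [h2, pderiv_C]
  | add z w hz hw => rw [map_add, map_add, hz, hw, add_zero]
  | mul_X z i hz =>
    have h2 : xx n q (X i : MvPolynomial (Fin n) R) = X (Fin.castAdd q i) := rename_X _ _
    have hne : Fin.natAdd n k ≠ Fin.castAdd q i := by
      intro h
      have := congrArg Fin.val h
      simp only [Fin.val_natAdd, Fin.val_castAdd] at this
      omega
    rw [map_mul, Derivation.leibniz, hz, h2, pderiv_X_of_ne hne.symm, smul_zero, smul_zero,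
      add_zero]

theorem pderiv_castAdd_yv (i : Fin n) (k : Fin q) :
    pderiv (Fin.castAdd q i) (yv (R := R) n q k) = 0 := by
  have hne : Fin.castAdd q i ≠ Fin.natAdd n k := by
    intro h
    have := congrArg Fin.val h
    simp only [Fin.val_natAdd, Fin.val_castAdd] at this
    omega
  exact pderiv_X_of_ne hne.symm

theorem pderiv_natAdd_yv [DecidableEq (Fin q)] (k k' : Fin q) :
    pderiv (Fin.natAdd n k) (yv (R := R) n q k') = if k' = k then 1 else 0 := by
  unfold yv
  by_cases h : k' = k
  · subst h
    rw [pderiv_X_self, if_pos rfl]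
  · rw [if_neg h]
    apply pderiv_X_of_ne
    intro h'
    apply h
    have := congrArg Fin.val h'
    simp only [Fin.val_natAdd] at this
    exact Fin.ext (by omega)

end Poly

end SP3

section SP4

open TensorProduct KaehlerDifferential MvPolynomial

/-- the bookkeeping identity behind `KillsTail` -/
theorem key_identity {S : Type*} [CommRing S] {ι κ : Type*} [Fintype ι] [Fintype κ]
    (αV αu h : S) (g G C : ι → S) (W : ι → κ → S) (U y : κ → S)
    (hg : ∀ i, g i = G i + ∑ k, W i k * y k) :
    αV * αu * (h + ∑ k, U k * y k) =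
      ∑ i, (αV * C i) * g i + αV * (αu * h - ∑ i, C i * G i) +
        ∑ k, (αV * (αu * U k - ∑ i, C i * W i k)) * y k := by
  have e1 : ∑ i, (αV * C i) * g i =
      αV * ∑ i, C i * G i + αV * ∑ k, (∑ i, C i * W i k) * y k := by
    simp only [hg, mul_add, Finset.mul_sum, Finset.sum_add_distrib, Finset.sum_mul]
    congr 1
    · exact Finset.sum_congr rfl fun i _ => by ring
    · rw [Finset.sum_comm]
      exact Finset.sum_congr rfl fun k _ => Finset.sum_congr rfl fun i _ => by ring
  have e2 : ∑ k, (αV * (αu * U k - ∑ i, C i * W i k)) * y k =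
      αV * αu * ∑ k, U k * y k - αV * ∑ k, (∑ i, C i * W i k) * y k := by
    simp only [Finset.mul_sum, ← Finset.sum_sub_distrib]
    exact Finset.sum_congr rfl fun k _ => by ring
  rw [e1, e2]
  ring

variable {R A : Type u} [CommRing R] [CommRing A] [Algebra R A]

theorem cotangent_mk_smul {n : ℕ} (G : Algebra.Generators R A (Fin n)) (r : G.toExtension.Ring)
    (x : G.toExtension.ker) :
    Algebra.Extension.Cotangent.mk (r • x) =
      (algebraMap G.toExtension.Ring A r) • Algebra.Extension.Cotangent.mk x := by
  rw [map_smul, ← algebraMap_smul A r (Algebra.Extension.Cotangent.mk x)]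

/-- denominators in the localized conormal module -/
theorem exists_denoms (a : A) {n : ℕ} (G : Algebra.Generators R A (Fin n)) (q : ℕ)
    (ν : (Localization.Away a) ⊗[A] G.toExtension.Cotangent) (w : Fin q → Localization.Away a) :
    ∃ (s : ℕ) (H : G.toExtension.ker) (W : Fin q → A),
      (algebraMap A (Localization.Away a) a) ^ s • ν =
        (1 : Localization.Away a) ⊗ₜ[A] Algebra.Extension.Cotangent.mk H ∧
      ∀ k, (algebraMap A (Localization.Away a) a) ^ s * w k =
        algebraMap A (Localization.Away a) (W k) := by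
  classical
  obtain ⟨ã, hã⟩ := G.toExtension.algebraMap_surjective a
  obtain ⟨⟨m, ⟨_, t, rfl⟩⟩, hm⟩ := IsLocalizedModule.surj (Submonoid.powers a)
    (TensorProduct.mk A (Localization.Away a) G.toExtension.Cotangent 1) ν
  obtain ⟨H, rfl⟩ := Algebra.Extension.Cotangent.mk_surjective m
  obtain ⟨⟨_, t', rfl⟩, hW⟩ :=
    IsLocalization.exist_integer_multiples_of_finite (Submonoid.powers a) w
  choose W hW' using hW
  have h1 : (a ^ t) • ν =
      (1 : Localization.Away a) ⊗ₜ[A] Algebra.Extension.Cotangent.mk H := hm
  refine ⟨t' + t, ã ^ t' • H, fun k => a ^ t * W k, ?_, ?_⟩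
  · rw [pow_add, mul_smul, ← map_pow, ← map_pow, algebraMap_smul, algebraMap_smul, h1,
      cotangent_mk_smul, map_pow, hã, TensorProduct.tmul_smul]
  · intro k
    have h2 : algebraMap A (Localization.Away a) (W k) = a ^ t' • w k := hW' k
    rw [map_mul, h2, Algebra.smul_def, map_pow, map_pow, pow_add]
    ring

end SP4

end Groth.Agent.Lib.R2H4.StdPow
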