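import Mathlib
import Groth.Prelude.Def_Smoothing
import Groth.Agent.Lib.R2H4StdPowA

/-!
# Powers of `a` are strictly standard when `A_a` is smooth with stably free differentials, part B
(helper4, round 2)

* `tail`: the `KillsTail` estimate for the enlarged presentation.
* `isStrictlyStandard_zero`, `trivial_case`, `le_of_stablyFree`.
* `main`: if `A` is finitely presented over `R`, `A_a` is smooth over `R` and
  `Ω[A_a/R] × A_a^p ≃ A_a^q`, then `a ^ N` is strictly standard in `A` over `R` for all large `N`.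
-/

set_option autoImplicit false
set_option linter.style.haveILetI false
set_option linter.unusedSimpArgs false
universe u

namespace Groth.Agent.Lib.R2H4.StdPow

section SP5

open TensorProduct KaehlerDifferential MvPolynomial

variable {R A : Type u} [CommRing R] [CommRing A] [Algebra R A]

section Tail

variable (a : A) {n : ℕ} (φ : MvPolynomial (Fin n) R →ₐ[R] A) (hφ : Function.Surjective φ)

/-- the generators attached to the presentation -/
noncomputable abbrev GG : Algebra.Generators R A (Fin n) := Algebra.Generators.ofAlgHom φ hφ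

theorem GG_algebraMap (r : MvPolynomial (Fin n) R) :
    algebraMap (GG φ hφ).toExtension.Ring A r = φ r := by
  change algebraMap (GG φ hφ).Ring A r = _
  rw [Algebra.Generators.algebraMap_apply]
  have : (aeval (GG φ hφ).val : MvPolynomial (Fin n) R →ₐ[R] A) = φ := by
    ext i
    simp [GG, Algebra.Generators.ofAlgHom]
  rw [this]

theorem GG_mem_ker (x : MvPolynomial (Fin n) R) :
    x ∈ (GG φ hφ).toExtension.ker ↔ φ x = 0 := by
  change x ∈ (GG φ hφ).ker ↔ _
  rw [Algebra.Generators.ker_ofAlgHom]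
  rfl

theorem tail {c q : ℕ} (ã : MvPolynomial (Fin n) R) (hã : φ ã = a)
    (θ : Module.Basis (Fin c) (Localization.Away a)
      ((Localization.Away a) ⊗[A] (GG φ hφ).toExtension.Cotangent × (Fin q → Localization.Away a)))
    (s : Fin c → ℕ) (Gi : Fin c → (GG φ hφ).toExtension.ker)
    (W : Fin c → Fin q → MvPolynomial (Fin n) R)
    (hs1 : ∀ i, (algebraMap A (Localization.Away a) a) ^ (s i) • (θ i).1 =
      (1 : Localization.Away a) ⊗ₜ[A] Algebra.Extension.Cotangent.mk (Gi i))
    (hs2 : ∀ i k, (algebraMap A (Localization.Away a) a) ^ (s i) * (θ i).2 k =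
      algebraMap A (Localization.Away a) (φ (W i k)))
    (H : (GG φ hφ).toExtension.ker) (U : Fin q → MvPolynomial (Fin n) R) :
    ∃ e₁ : ℕ, xx n q ã ^ e₁ * (xx n q H.1 + ∑ k, xx n q (U k) * yv n q k) ∈
      Ideal.span (Set.range fun i => xx n q (Gi i).1 + ∑ k, xx n q (W i k) * yv n q k) ⊔
        ((RingHom.ker φ.toRingHom).map (xx n q) ⊔ Ideal.span (Set.range (yv (R := R) n q))) ^ 2 := by
  classical
  let Q := (GG φ hφ).toExtension
  let αB : Localization.Away a := algebraMap A (Localization.Away a) a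
  let inv : Localization.Away a := IsLocalization.Away.invSelf a
  have hinv : αB * inv = 1 := IsLocalization.Away.mul_invSelf a
  have hal : ∀ r : MvPolynomial (Fin n) R, algebraMap Q.Ring A r = φ r := GG_algebraMap φ hφ
  let z : (Localization.Away a) ⊗[A] Q.Cotangent × (Fin q → Localization.Away a) :=
    ((1 : Localization.Away a) ⊗ₜ[A] Algebra.Extension.Cotangent.mk H,
      fun k => algebraMap A (Localization.Away a) (φ (U k)))
  let γ : Fin c → (Localization.Away a) ⊗[A] Q.Cotangent × (Fin q → Localization.Away a) :=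
    fun i => ((1 : Localization.Away a) ⊗ₜ[A] Algebra.Extension.Cotangent.mk (Gi i),
      fun k => algebraMap A (Localization.Away a) (φ (W i k)))
  have hγ : ∀ i, αB ^ (s i) • θ i = γ i := fun i => by
    refine Prod.ext (hs1 i) (funext fun k => ?_)
    change αB ^ (s i) * (θ i).2 k = _
    exact hs2 i k
  let c' : Fin c → Localization.Away a := fun i => θ.repr z i * inv ^ (s i)
  have hz : ∑ i, c' i • γ i = z := by
    calc ∑ i, c' i • γ i = ∑ i, θ.repr z i • θ i :=
          Finset.sum_congr rfl (fun i _ => by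
            rw [← hγ, smul_smul]
            congr 1
            change θ.repr z i * inv ^ (s i) * αB ^ (s i) = _
            rw [mul_assoc, ← mul_pow, mul_comm inv, hinv, one_pow, mul_one])
      _ = z := θ.sum_repr z
  obtain ⟨⟨_, u, rfl⟩, hC⟩ :=
    IsLocalization.exist_integer_multiples_of_finite (Submonoid.powers a) c'
  choose Cc hCc using hC
  choose C hC' using fun i => hφ (Cc i)
  have hCB : ∀ i, algebraMap A (Localization.Away a) (φ (C i)) = αB ^ u * c' i := fun i => by
    rw [hC', hCc, Algebra.smul_def, map_pow]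
  have hmain : αB ^ u • z = ∑ i, algebraMap A (Localization.Away a) (φ (C i)) • γ i := by
    rw [← hz, Finset.smul_sum]
    exact Finset.sum_congr rfl fun i _ => by rw [smul_smul, hCB]
  -- first components
  let ãQ : Q.Ring := ã
  let CQ : Fin c → Q.Ring := C
  have halpow : ∀ m : ℕ, algebraMap Q.Ring A (ãQ ^ m) = a ^ m := fun m => by
    rw [map_pow]
    exact congrArg (· ^ m) ((hal ã).trans hã)
  have h1 : (1 : Localization.Away a) ⊗ₜ[A]
      (Algebra.Extension.Cotangent.mk (ãQ ^ u • H - ∑ i, CQ i • Gi i) : Q.Cotangent) = 0 := by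
    have h := congrArg Prod.fst hmain
    simp only [Prod.smul_fst, Prod.fst_sum] at h
    rw [map_sub, map_sum, TensorProduct.tmul_sub, TensorProduct.tmul_sum, sub_eq_zero,
      cotangent_mk_smul, halpow, TensorProduct.tmul_smul]
    have e1 : a ^ u • ((1 : Localization.Away a) ⊗ₜ[A] Algebra.Extension.Cotangent.mk H) =
        αB ^ u • ((1 : Localization.Away a) ⊗ₜ[A] (Algebra.Extension.Cotangent.mk H : Q.Cotangent)) := by
      rw [← map_pow, algebraMap_smul]
    rw [e1]
    refine h.trans (Finset.sum_congr rfl fun i _ => ?_)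
    rw [cotangent_mk_smul, TensorProduct.tmul_smul, algebraMap_smul]
    exact congrArg (· • _) (hal (C i)).symm
  obtain ⟨⟨_, v, rfl⟩, hv⟩ := (IsLocalizedModule.eq_zero_iff (Submonoid.powers a)
    (TensorProduct.mk A (Localization.Away a) Q.Cotangent 1)).mp h1
  have hkerEq : Q.ker = (show Ideal Q.Ring from RingHom.ker φ.toRingHom) :=
    Ideal.ext fun x => GG_mem_ker φ hφ x
  have hv'Q : (ãQ ^ v * (ãQ ^ u * (H.1 : Q.Ring) - ∑ i, CQ i * ((Gi i).1 : Q.Ring)) : Q.Ring) ∈
      Q.ker ^ 2 := by
    have h2 : (a ^ v) • (Algebra.Extension.Cotangent.mk (ãQ ^ u • H - ∑ i, CQ i • Gi i) : Q.Cotangent)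
        = 0 := hv
    rw [← halpow, ← cotangent_mk_smul, Algebra.Extension.Cotangent.mk_eq_zero_iff] at h2
    have e : (↑(ãQ ^ v • (ãQ ^ u • H - ∑ i, CQ i • Gi i)) : Q.Ring) =
        ãQ ^ v * (ãQ ^ u * (H.1 : Q.Ring) - ∑ i, CQ i * ((Gi i).1 : Q.Ring)) := by
      simp [Submodule.coe_sum, smul_eq_mul]
    rw [← e]
    exact h2
  let Hp : MvPolynomial (Fin n) R := H.1
  let Gp : Fin c → MvPolynomial (Fin n) R := fun i => (Gi i).1
  have hv' : ã ^ v * (ã ^ u * Hp - ∑ i, C i * Gp i) ∈ (RingHom.ker φ.toRingHom) ^ 2 := by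
    exact Ideal.pow_right_mono hkerEq.le 2 hv'Q
  -- second components
  have h3 : ∀ k, ∃ vk : ℕ, ã ^ vk * (ã ^ u * U k - ∑ i, C i * W i k) ∈ RingHom.ker φ.toRingHom := by
    intro k
    have h := congrFun (congrArg Prod.snd hmain) k
    simp only [Prod.smul_snd, Prod.snd_sum, Pi.smul_apply, Finset.sum_apply, smul_eq_mul] at h
    have h4 : algebraMap A (Localization.Away a) (φ (ã ^ u * U k - ∑ i, C i * W i k)) = 0 := by
      rw [map_sub, map_mul, map_pow, hã, map_sum, map_sub, map_mul, map_pow, map_sum, sub_eq_zero]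
      refine h.trans (Finset.sum_congr rfl fun i _ => ?_)
      rw [map_mul, map_mul]
    obtain ⟨⟨_, vk, rfl⟩, hvk⟩ := (IsLocalization.map_eq_zero_iff (Submonoid.powers a)
      (Localization.Away a) _).mp h4
    refine ⟨vk, ?_⟩
    change φ _ = 0
    rw [map_mul, map_pow, hã]
    exact hvk
  choose vk hvk using h3
  let V : ℕ := v + ∑ k, vk k
  have hVv : ã ^ V * (ã ^ u * Hp - ∑ i, C i * Gp i) ∈ (RingHom.ker φ.toRingHom) ^ 2 := by
    have e : ã ^ V * (ã ^ u * Hp - ∑ i, C i * Gp i) =
        ã ^ (∑ k, vk k) * (ã ^ v * (ã ^ u * Hp - ∑ i, C i * Gp i)) := by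
      change ã ^ (v + ∑ k, vk k) * _ = _
      rw [pow_add]
      ring
    rw [e]
    exact Ideal.mul_mem_left _ _ hv'
  have hVk : ∀ k, ã ^ V * (ã ^ u * U k - ∑ i, C i * W i k) ∈ RingHom.ker φ.toRingHom := by
    intro k
    have hle : vk k ≤ V := le_trans (Finset.single_le_sum (f := vk) (fun _ _ => Nat.zero_le _)
      (Finset.mem_univ k)) (Nat.le_add_left _ _)
    obtain ⟨d, hd⟩ := Nat.exists_eq_add_of_le hle
    have e : ã ^ V * (ã ^ u * U k - ∑ i, C i * W i k) =
        ã ^ d * (ã ^ vk k * (ã ^ u * U k - ∑ i, C i * W i k)) := by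
      rw [hd, pow_add]
      ring
    rw [e]
    exact Ideal.mul_mem_left _ _ (hvk k)
  refine ⟨V + u, ?_⟩
  have hid := key_identity (xx n q ã ^ V) (xx n q ã ^ u) (xx n q H.1)
    (fun i => xx n q (Gi i).1 + ∑ k, xx n q (W i k) * yv n q k) (fun i => xx n q (Gi i).1)
    (fun i => xx n q (C i)) (fun i k => xx n q (W i k)) (fun k => xx n q (U k))
    (yv (R := R) n q) (fun i => rfl)
  rw [pow_add, hid]
  set I' : Ideal (MvPolynomial (Fin (n + q)) R) :=
    (RingHom.ker φ.toRingHom).map (xx n q) ⊔ Ideal.span (Set.range (yv (R := R) n q))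
  have hkerI' : ∀ x ∈ RingHom.ker φ.toRingHom, xx n q x ∈ I' := fun x hx =>
    Ideal.mem_sup_left (Ideal.mem_map_of_mem _ hx)
  have hQker : ∀ x ∈ (RingHom.ker φ.toRingHom) ^ 2, xx n q x ∈ I' ^ 2 := by
    intro x hx
    have h5 : (RingHom.ker φ.toRingHom) ^ 2 ≤ (I' ^ 2).comap (xx n q) := by
      have h6 : (RingHom.ker φ.toRingHom) ≤ I'.comap (xx n q) := fun y hy => hkerI' y hy
      calc (RingHom.ker φ.toRingHom) ^ 2 ≤ (I'.comap (xx n q)) ^ 2 := Ideal.pow_right_mono h6 2
        _ ≤ (I' ^ 2).comap (xx n q) := Ideal.le_comap_pow _ 2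
    exact h5 hx
  refine add_mem (add_mem ?_ ?_) ?_
  · refine Ideal.mem_sup_left (Ideal.sum_mem _ fun i _ => Ideal.mul_mem_left _ _ ?_)
    exact Ideal.subset_span ⟨i, rfl⟩
  · refine Ideal.mem_sup_right ?_
    have e : xx n q ã ^ V * (xx n q ã ^ u * xx n q H.1 - ∑ i, xx n q (C i) * xx n q (Gi i).1) =
        xx n q (ã ^ V * (ã ^ u * Hp - ∑ i, C i * Gp i)) := by
      simp only [Hp, Gp, map_mul, map_sub, map_pow, map_sum]
    rw [e]
    exact hQker _ hVv
  · refine Ideal.mem_sup_right (Ideal.sum_mem _ fun k _ => ?_)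
    have e : xx n q ã ^ V * (xx n q ã ^ u * xx n q (U k) - ∑ i, xx n q (C i) * xx n q (W i k)) =
        xx n q (ã ^ V * (ã ^ u * U k - ∑ i, C i * W i k)) := by
      simp only [map_mul, map_sub, map_pow, map_sum]
    rw [e, pow_two]
    exact Ideal.mul_mem_mul (hkerI' _ (hVk k))
      (Ideal.mem_sup_right (Ideal.subset_span ⟨k, rfl⟩))

end Tail

end SP5

section SP6

open TensorProduct KaehlerDifferential MvPolynomial

section Small

variable {R : Type u} [CommRing R] (n q : ℕ)

theorem ev_pderiv_castAdd_gg (i : Fin n) (G0 : MvPolynomial (Fin n) R)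
    (Wk : Fin q → MvPolynomial (Fin n) R) :
    ev n q (pderiv (Fin.castAdd q i) (xx n q G0 + ∑ k, xx n q (Wk k) * yv n q k)) =
      pderiv i G0 := by
  rw [map_add, map_sum, map_add, map_sum, pderiv_castAdd_xx, ev_xx]
  have h : ∀ k, ev n q (pderiv (Fin.castAdd q i) (xx n q (Wk k) * yv n q k)) = 0 := by
    intro k
    rw [Derivation.leibniz, pderiv_castAdd_yv, smul_zero, zero_add, smul_eq_mul, map_mul, ev_yv,
      zero_mul]
  rw [Finset.sum_eq_zero (fun k _ => h k), add_zero]

theorem ev_pderiv_natAdd_gg (k₀ : Fin q) (G0 : MvPolynomial (Fin n) R)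
    (Wk : Fin q → MvPolynomial (Fin n) R) :
    ev n q (pderiv (Fin.natAdd n k₀) (xx n q G0 + ∑ k, xx n q (Wk k) * yv n q k)) = Wk k₀ := by
  classical
  rw [map_add, map_sum, map_add, map_sum, pderiv_natAdd_xx, map_zero, zero_add]
  have h : ∀ k, ev n q (pderiv (Fin.natAdd n k₀) (xx n q (Wk k) * yv n q k)) =
      if k = k₀ then Wk k else 0 := by
    intro k
    rw [Derivation.leibniz, pderiv_natAdd_xx, smul_zero, add_zero, pderiv_natAdd_yv, smul_eq_mul]
    split_ifs with hk
    · rw [mul_one, ev_xx]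
    · rw [mul_zero, map_zero]
  rw [Finset.sum_congr rfl (fun k _ => h k), Finset.sum_ite_eq' Finset.univ k₀]
  simp

end Small

section Zero

variable {R A : Type u} [CommRing R] [CommRing A] [Algebra R A]

theorem isStrictlyStandard_zero [Algebra.FinitePresentation R A] :
    Smoothing.IsStrictlyStandard R A (0 : A) := by
  classical
  obtain ⟨n, φ, hφ, hfg⟩ := Algebra.FinitePresentation.out (R := R) (A := A)
  obtain ⟨m, f₀, hf₀⟩ := Submodule.fg_iff_exists_fin_generating_family.mp hfg
  let P : Smoothing.MarkedPresentation R A :=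
    { n := n, m := m, c := 0, hcn := Nat.zero_le _, hcm := Nat.zero_le _, rel := f₀, hom := φ,
      surj := hφ, ker_eq := hf₀.symm }
  refine ⟨P, Ideal.zero_mem _, ?_⟩
  intro a' ha' j _
  refine Ideal.mem_sup_right ?_
  rw [pow_two]
  have h1 : a' ∈ Ideal.span (Set.range P.rel) := by
    rw [← P.ker_eq]
    exact ha'
  exact Ideal.mul_mem_mul h1 (Ideal.subset_span ⟨j, rfl⟩)

theorem trivial_case [Algebra.FinitePresentation R A] (a : A)
    (h : Subsingleton (Localization.Away a)) :
    ∃ e₀ : ℕ, ∀ n : ℕ, e₀ ≤ n → Smoothing.IsStrictlyStandard R A (a ^ n) := by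
  have h1 : algebraMap A (Localization.Away a) 1 = algebraMap A (Localization.Away a) 0 :=
    Subsingleton.elim _ _
  obtain ⟨⟨_, w, rfl⟩, hw⟩ := (IsLocalization.eq_iff_exists (Submonoid.powers a) _).mp h1
  have hw' : a ^ w = 0 := by simpa using hw
  refine ⟨w, fun n hn => ?_⟩
  obtain ⟨d, rfl⟩ := Nat.exists_eq_add_of_le hn
  rw [pow_add, hw', zero_mul]
  exact isStrictlyStandard_zero

theorem le_of_stablyFree {B Om : Type*} [CommRing B] [Nontrivial B] [AddCommGroup Om] [Module B Om]
    {p q : ℕ} (e : (Om × (Fin p → B)) ≃ₗ[B] (Fin q → B)) : p ≤ q := by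
  have hinj : Function.Injective (e.toLinearMap ∘ₗ LinearMap.inr B Om (Fin p → B)) :=
    e.injective.comp LinearMap.inr_injective
  have := LinearMap.finrank_le_finrank_of_injective hinj
  simpa using this

end Zero

end SP6

section SP7

open TensorProduct KaehlerDifferential MvPolynomial

section Main

variable {R A : Type u} [CommRing R] [CommRing A] [Algebra R A]

theorem GG_aeval {n : ℕ} (φ : MvPolynomial (Fin n) R →ₐ[R] A) (hφ : Function.Surjective φ)
    (x : MvPolynomial (Fin n) R) : aeval (GG φ hφ).val x = φ x := by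
  have : (aeval (GG φ hφ).val : MvPolynomial (Fin n) R →ₐ[R] A) = φ := by
    ext i
    simp [GG, Algebra.Generators.ofAlgHom]
  rw [this]

set_option maxHeartbeats 1000000 in
theorem main [Algebra.FinitePresentation R A] (a : A) [Algebra.Smooth R (Localization.Away a)]
    (p q : ℕ) (e : (Ω[Localization.Away a⁄R] × (Fin p → Localization.Away a))
      ≃ₗ[Localization.Away a] (Fin q → Localization.Away a)) :
    ∃ e₀ : ℕ, ∀ N : ℕ, e₀ ≤ N → Smoothing.IsStrictlyStandard R A (a ^ N) := by
  classical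
  rcases subsingleton_or_nontrivial (Localization.Away a) with hB | hB
  · exact trivial_case a hB
  have hpq : p ≤ q := le_of_stablyFree e
  obtain ⟨n, φ, hφ, hfg⟩ := Algebra.FinitePresentation.out (R := R) (A := A)
  obtain ⟨m, f₀, hf₀⟩ := Submodule.fg_iff_exists_fin_generating_family.mp hfg
  let B := Localization.Away a
  let G := GG φ hφ
  let Q := G.toExtension
  let αB : B := algebraMap A B a
  let fN : B ⊗[A] Q.Cotangent →ₗ[B] B ⊗[A] Q.CotangentSpace :=
    LinearMap.baseChange B Q.cotangentComplex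
  let gF : B ⊗[A] Q.CotangentSpace →ₗ[B] B ⊗[A] Ω[A⁄R] :=
    LinearMap.baseChange B Q.toKaehler
  have hfg' : Function.Exact fN gF := by
    change Function.Exact (LinearMap.baseChange B Q.cotangentComplex : _ → _)
      (LinearMap.baseChange B Q.toKaehler : _ → _)
    rw [LinearMap.baseChange_eq_ltensor, LinearMap.baseChange_eq_ltensor]
    exact lTensor_exact B Q.exact_cotangentComplex_toKaehler Q.toKaehler_surjective
  have hgs : Function.Surjective gF := by
    change Function.Surjective (LinearMap.baseChange B Q.toKaehler : _ → _)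
    rw [LinearMap.baseChange_eq_ltensor]
    exact LinearMap.lTensor_surjective B Q.toKaehler_surjective
  obtain ⟨l, hl⟩ := exists_retraction a G
  haveI : Algebra.FormallyEtale A B :=
    Algebra.FormallyEtale.of_isLocalization (Submonoid.powers a)
  let e' : ((B ⊗[A] Ω[A⁄R]) × (Fin p → B)) ≃ₗ[B] (Fin q → B) :=
    (LinearEquiv.prodCongr (tensorKaehlerEquivOfFormallyEtale R A B) (LinearEquiv.refl B _)).trans e
  let b : Module.Basis (Fin n) B (B ⊗[A] Q.CotangentSpace) := G.cotangentSpaceBasis.baseChange B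
  obtain ⟨θ, β, hβ⟩ := exists_basis_and_minors fN gF hfg' hgs l hl e' b
  choose s Gi W' hs1 hs2 using fun i => exists_denoms a G q (θ i).1 (θ i).2
  choose W hW using fun i k => hφ (W' i k)
  have hs2' : ∀ i k, αB ^ (s i) * (θ i).2 k = algebraMap A B (φ (W i k)) := fun i k => by
    rw [hW]
    exact hs2 i k
  obtain ⟨ã, hã⟩ := hφ a
  -- the new presentation
  let gg : Fin (n + p) → MvPolynomial (Fin (n + q)) R := fun i =>
    xx n q (Gi i).1 + ∑ k, xx n q (W i k) * yv n q k
  let tl : Fin (m + q) → MvPolynomial (Fin (n + q)) R :=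
    Fin.append (fun j => xx n q (f₀ j)) (yv n q)
  let rel' : Fin ((n + p) + (m + q)) → MvPolynomial (Fin (n + q)) R := Fin.append gg tl
  let hom' : MvPolynomial (Fin (n + q)) R →ₐ[R] A := φ.comp (ev n q)
  have hsurj : Function.Surjective hom' := fun x => by
    obtain ⟨y, rfl⟩ := hφ x
    exact ⟨xx n q y, congrArg φ (ev_xx n q y)⟩
  have hcn : n + p ≤ n + q := Nat.add_le_add_left hpq n
  have hcm : n + p ≤ (n + p) + (m + q) := Nat.le_add_right _ _
  have hkerφ : ∀ x, x ∈ RingHom.ker φ.toRingHom ↔ φ x = 0 := fun x => Iff.rfl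
  have hf₀mem : ∀ j, φ (f₀ j) = 0 := fun j => by
    have : f₀ j ∈ RingHom.ker φ.toRingHom := by
      rw [← hf₀]
      exact Submodule.subset_span ⟨j, rfl⟩
    exact this
  have hGi : ∀ i, φ (Gi i).1 = 0 := fun i => (GG_mem_ker φ hφ _).mp (Gi i).2
  have hhomgg : ∀ i, hom' (gg i) = 0 := fun i => by
    change φ (ev n q (xx n q (Gi i).1 + ∑ k, xx n q (W i k) * yv n q k)) = 0
    rw [map_add, map_sum, ev_xx, Finset.sum_eq_zero (fun k _ => by rw [map_mul, ev_yv, mul_zero]),
      add_zero, hGi]
  have hhomtl : ∀ j, hom' (tl j) = 0 := fun j => by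
    induction j using Fin.addCases with
    | left j₀ =>
      change φ (ev n q (Fin.append (fun j => xx n q (f₀ j)) (yv n q) (Fin.castAdd q j₀))) = 0
      rw [Fin.append_left, ev_xx, hf₀mem]
    | right k₀ =>
      change φ (ev n q (Fin.append (fun j => xx n q (f₀ j)) (yv n q) (Fin.natAdd m k₀))) = 0
      rw [Fin.append_right, ev_yv, map_zero]
  let I' : Ideal (MvPolynomial (Fin (n + q)) R) :=
    (RingHom.ker φ.toRingHom).map (xx n q) ⊔ Ideal.span (Set.range (yv (R := R) n q))
  have hggrel : ∀ i, gg i ∈ Ideal.span (Set.range rel') := fun i =>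
    Ideal.subset_span ⟨Fin.castAdd (m + q) i, Fin.append_left _ _ _⟩
  have htlrel : ∀ j, tl j ∈ Ideal.span (Set.range rel') := fun j =>
    Ideal.subset_span ⟨Fin.natAdd (n + p) j, Fin.append_right _ _ _⟩
  have hI'le : I' ≤ Ideal.span (Set.range rel') := by
    refine sup_le ?_ ?_
    · rw [Ideal.map_le_iff_le_comap, ← hf₀]
      change Ideal.span (Set.range f₀) ≤ _
      rw [Ideal.span_le]
      rintro _ ⟨j, rfl⟩
      have := htlrel (Fin.castAdd q j)
      change Fin.append (fun j => xx n q (f₀ j)) (yv n q) (Fin.castAdd q j) ∈ _ at this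
      rw [Fin.append_left] at this
      exact this
    · rw [Ideal.span_le]
      rintro _ ⟨k, rfl⟩
      have := htlrel (Fin.natAdd m k)
      change Fin.append (fun j => xx n q (f₀ j)) (yv n q) (Fin.natAdd m k) ∈ _ at this
      rw [Fin.append_right] at this
      exact this
  have hker_eq : RingHom.ker hom'.toRingHom = Ideal.span (Set.range rel') := by
    apply le_antisymm
    · intro z hz
      have hz' : φ (ev n q z) = 0 := hz
      have e1 : z = (z - xx n q (ev n q z)) + xx n q (ev n q z) := by ring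
      rw [e1]
      refine Ideal.add_mem _ (hI'le (Ideal.mem_sup_right (sub_xx_ev_mem n q z)))
        (hI'le (Ideal.mem_sup_left (Ideal.mem_map_of_mem _ hz')))
    · rw [Ideal.span_le]
      rintro _ ⟨j, rfl⟩
      change hom' (Fin.append gg tl j) = 0
      induction j using Fin.addCases with
      | left i => rw [Fin.append_left]; exact hhomgg i
      | right j => rw [Fin.append_right]; exact hhomtl j
  let P : Smoothing.MarkedPresentation R A :=
    { n := n + q, m := (n + p) + (m + q), c := n + p, hcn := hcn, hcm := hcm, rel := rel',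
      hom := hom', surj := hsurj, ker_eq := hker_eq }
  -- entries of the Jacobian matrix
  have hrelcast : ∀ j : Fin (n + p), rel' (Fin.castLE hcm j) = gg j := fun j => by
    have : Fin.castLE hcm j = Fin.castAdd (m + q) j := by ext; simp
    rw [this]
    exact Fin.append_left _ _ _
  have hJ : ∀ j i, b.repr (fN ((1 : B) ⊗ₜ[A] Algebra.Extension.Cotangent.mk (Gi j))) i =
      algebraMap A B (φ (pderiv i (Gi j).1)) := by
    intro j i
    change (G.cotangentSpaceBasis.baseChange B).repr
        (LinearMap.baseChange B Q.cotangentComplex ((1 : B) ⊗ₜ[A] _)) i = _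
    rw [LinearMap.baseChange_tmul, Algebra.Extension.cotangentComplex_mk,
        Module.Basis.baseChange_repr_tmul, Algebra.Generators.cotangentSpaceBasis_repr_one_tmul,
        GG_aeval, Algebra.smul_def, mul_one]
  have hentry : ∀ (j : Fin (n + p)) (l' : Fin (n + q)),
      algebraMap A B (hom' (pderiv l' (rel' (Fin.castLE hcm j)))) =
        αB ^ s j * appendL B n q (b.equivFun (fN (θ j).1), (θ j).2) l' := by
    intro j l'
    rw [hrelcast]
    induction l' using Fin.addCases with
    | left i =>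
      rw [appendL_castAdd]
      change algebraMap A B (φ (ev n q (pderiv (Fin.castAdd q i) (gg j)))) = _
      rw [ev_pderiv_castAdd_gg, ← hJ, ← hs1]
      change _ = αB ^ s j * b.repr (fN (θ j).1) i
      rw [map_smul, map_smul]
      rfl
    | right k =>
      rw [appendL_natAdd]
      change algebraMap A B (φ (ev n q (pderiv (Fin.natAdd n k) (gg j)))) = _
      rw [ev_pderiv_natAdd_gg]
      exact (hs2' j k).symm
  have hminor : ∀ σ : Fin (n + p) → Fin (n + q),
      algebraMap A B (hom' (Smoothing.jacobianMinor rel' (Fin.castLE hcm) σ)) =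
        (∏ j, αB ^ s j) * (Matrix.of fun (i : Fin (n + p)) (k : Fin (n + p)) =>
          appendL B n q (b.equivFun (fN (θ i).1), (θ i).2) (σ k)).det := by
    intro σ
    unfold Smoothing.jacobianMinor
    rw [AlgHom.map_det, RingHom.map_det, ← Matrix.det_mul_column]
    congr 1
    ext j k
    exact hentry j (σ k)
  -- condition (1)
  obtain ⟨⟨_, t, rfl⟩, ht⟩ :=
    IsLocalization.exist_integer_multiples_of_finite (Submonoid.powers a) β
  choose β' hβ' using ht
  have hβ'' : ∀ σ, algebraMap A B (β' σ) = αB ^ t * β σ := fun σ => by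
    rw [hβ', Algebra.smul_def, map_pow]
  let S : ℕ := ∑ j, s j
  have hprod : (∏ j, αB ^ s j) = αB ^ S := Finset.prod_pow_eq_pow_sum _ _ _
  have hcond1 : algebraMap A B (a ^ (t + S)) =
      algebraMap A B (∑ σ, β' σ * hom' (Smoothing.jacobianMinor rel' (Fin.castLE hcm) σ)) := by
    rw [map_sum]
    simp only [map_mul, hminor, hβ'', hprod]
    have e1 : ∀ σ : Fin (n + p) → Fin (n + q),
        αB ^ t * β σ * (αB ^ S * (Matrix.of fun (i : Fin (n + p)) (k : Fin (n + p)) =>
          appendL B n q (b.equivFun (fN (θ i).1), (θ i).2) (σ k)).det) =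
        αB ^ (t + S) * (β σ * (Matrix.of fun (i : Fin (n + p)) (k : Fin (n + p)) =>
          appendL B n q (b.equivFun (fN (θ i).1), (θ i).2) (σ k)).det) := fun σ => by
      rw [pow_add]; ring
    rw [Finset.sum_congr rfl (fun σ _ => e1 σ), ← Finset.mul_sum, hβ, mul_one, map_pow]
  obtain ⟨⟨_, w, rfl⟩, hw⟩ := (IsLocalization.eq_iff_exists (Submonoid.powers a) _).mp hcond1
  have hw' : a ^ (w + (t + S)) =
      a ^ w * ∑ σ, β' σ * hom' (Smoothing.jacobianMinor rel' (Fin.castLE hcm) σ) := by
    rw [pow_add]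
    exact hw
  -- condition (2)
  have hs1' : ∀ i, (algebraMap A (Localization.Away a) a) ^ (s i) • (θ i).1 =
      (1 : Localization.Away a) ⊗ₜ[A] Algebra.Extension.Cotangent.mk (Gi i) := hs1
  have htail : ∀ j'' : Fin (m + q), ∃ e₁ : ℕ, xx n q ã ^ e₁ * tl j'' ∈
      Ideal.span (Set.range gg) ⊔ I' ^ 2 := by
    intro j''
    induction j'' using Fin.addCases with
    | left j₀ =>
      have hmem : f₀ j₀ ∈ Q.ker := (GG_mem_ker φ hφ _).mpr (hf₀mem j₀)
      obtain ⟨e₁, he₁⟩ := tail a φ hφ ã hã θ s Gi W hs1' hs2' ⟨f₀ j₀, hmem⟩ (fun _ => 0)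
      refine ⟨e₁, ?_⟩
      change xx n q ã ^ e₁ * Fin.append (fun j => xx n q (f₀ j)) (yv n q) (Fin.castAdd q j₀) ∈ _
      rw [Fin.append_left]
      have e2 : xx n q (f₀ j₀) + (∑ k, xx n q ((fun _ : Fin q => (0 : MvPolynomial (Fin n) R)) k) *
          yv (R := R) n q k) = xx n q (f₀ j₀) := by
        simp
      rw [e2] at he₁
      exact he₁
    | right k₀ =>
      obtain ⟨e₁, he₁⟩ := tail a φ hφ ã hã θ s Gi W hs1' hs2' 0
        (fun k => if k = k₀ then 1 else 0)
      refine ⟨e₁, ?_⟩
      change xx n q ã ^ e₁ * Fin.append (fun j => xx n q (f₀ j)) (yv n q) (Fin.natAdd m k₀) ∈ _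
      rw [Fin.append_right]
      have e2 : (∑ k, xx n q (if k = k₀ then (1 : MvPolynomial (Fin n) R) else 0) * yv n q k) =
          yv (R := R) n q k₀ := by
        rw [Finset.sum_eq_single k₀]
        · rw [if_pos rfl, map_one, one_mul]
        · intro k _ hk
          rw [if_neg hk, map_zero, zero_mul]
        · intro h
          exact absurd (Finset.mem_univ _) h
      have e5 : xx n q ((0 : Q.ker) : Q.Ring) = 0 := by
        rw [Submodule.coe_zero]
        exact map_zero (xx n q)
      rw [e2, e5, zero_add] at he₁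
      exact he₁
  choose e₁ he₁ using htail
  let E : ℕ := ∑ j, e₁ j
  refine ⟨max (w + (t + S)) E, fun N hN => ?_⟩
  have hN1 : w + (t + S) ≤ N := le_trans (le_max_left _ _) hN
  have hN2 : E ≤ N := le_trans (le_max_right _ _) hN
  refine ⟨P, ?_, ?_⟩
  · obtain ⟨d, rfl⟩ := Nat.exists_eq_add_of_le hN1
    rw [pow_add, hw', mul_comm]
    refine Ideal.mul_mem_left _ _ (Ideal.mul_mem_left _ _ (Ideal.sum_mem _ fun σ _ => ?_))
    exact Ideal.mul_mem_left _ _ (Ideal.subset_span ⟨σ, rfl⟩)
  · intro a' ha' j hj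
    change hom' a' = a ^ N at ha'
    change n + p ≤ (j : ℕ) at hj
    change a' * rel' j ∈ Ideal.span (rel' '' {j' : Fin ((n + p) + (m + q)) | (j' : ℕ) < n + p}) ⊔
      Ideal.span (Set.range rel') ^ 2
    have himg : rel' '' {j' : Fin ((n + p) + (m + q)) | (j' : ℕ) < n + p} = Set.range gg := by
      ext x
      constructor
      · rintro ⟨j', hj', rfl⟩
        refine ⟨⟨j', hj'⟩, ?_⟩
        have : j' = Fin.castAdd (m + q) ⟨j', hj'⟩ := by ext; simp
        exact ((congrArg rel' this).trans (Fin.append_left _ _ _)).symm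
      · rintro ⟨i, rfl⟩
        exact ⟨Fin.castAdd (m + q) i, by simp, Fin.append_left _ _ _⟩
    rw [himg]
    -- write `j = natAdd j''`
    have hjlt : (j : ℕ) < (n + p) + (m + q) := j.2
    obtain ⟨j'', rfl⟩ : ∃ j'' : Fin (m + q), j = Fin.natAdd (n + p) j'' := by
      refine ⟨⟨(j : ℕ) - (n + p), by omega⟩, ?_⟩
      ext
      simp only [Fin.val_natAdd]
      omega
    have hrelj : rel' (Fin.natAdd (n + p) j'') = tl j'' := Fin.append_right _ _ _
    rw [hrelj]
    have hdiff : a' - xx n q ã ^ N ∈ Ideal.span (Set.range rel') := by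
      rw [← hker_eq]
      change hom' (a' - xx n q ã ^ N) = 0
      rw [map_sub, ha', map_pow]
      change a ^ N - (φ (ev n q (xx n q ã))) ^ N = 0
      rw [ev_xx, hã, sub_self]
    have e3 : a' * tl j'' = (a' - xx n q ã ^ N) * tl j'' + xx n q ã ^ N * tl j'' := by ring
    rw [e3]
    refine Ideal.add_mem _ (Ideal.mem_sup_right ?_) ?_
    · rw [pow_two]
      exact Ideal.mul_mem_mul hdiff (htlrel j'')
    · have hle : e₁ j'' ≤ N := le_trans (Finset.single_le_sum (f := e₁)
        (fun _ _ => Nat.zero_le _) (Finset.mem_univ j'')) hN2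
      obtain ⟨d, hd⟩ := Nat.exists_eq_add_of_le hle
      have e4 : xx n q ã ^ N * tl j'' = xx n q ã ^ d * (xx n q ã ^ e₁ j'' * tl j'') := by
        rw [hd, pow_add]; ring
      rw [e4]
      refine Ideal.mul_mem_left _ _ ?_
      have hmono : Ideal.span (Set.range gg) ⊔ I' ^ 2 ≤
          Ideal.span (Set.range gg) ⊔ Ideal.span (Set.range rel') ^ 2 :=
        sup_le_sup_left (Ideal.pow_right_mono hI'le 2) _
      exact hmono (he₁ j'')

end Main

end SP7

end Groth.Agent.Lib.R2H4.StdPow
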