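import Mathlib
import Groth.Agent.Lib.R2H1SwanParam

/-!
# Swan's parameter lemma with the same exponent (helper4, round 2)

`main_n` is helper1's `R2H1.SwanParam.main` with the conclusion `π i ^ n ∈ I` for the *given* `n`
(the proof there already produces `N = n`; the statement hides it).  The proof text is copied.
-/

set_option autoImplicit false
set_option linter.style.haveILetI false
set_option linter.unusedSimpArgs false
set_option linter.unusedSectionVars false
universe u

namespace Groth.Agent.Lib.R2H4.SwanParamN
section Part1

open Groth.Agent.Lib.R2H1.SwanParam Groth.Agent.Lib IsLocalRing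

theorem main_n {Λ : Type u} [CommRing Λ] [IsNoetherianRing Λ] (I q : Ideal Λ)
    [q.IsPrime] (n e d : ℕ) (hn : 0 < n) (he : 0 < e)
    (hpow : (q ^ n).map (algebraMap Λ (Localization.AtPrime q)) ≤
      I.map (algebraMap Λ (Localization.AtPrime q)))
    [IsRegularLocalRing (Localization.AtPrime q)] (hd : ringKrullDim (Localization.AtPrime q) = d) :
    ∃ (π : Fin d → Λ),
      Ideal.span (Set.range fun i => algebraMap Λ (Localization.AtPrime q) (π i)) =
        q.map (algebraMap Λ (Localization.AtPrime q)) ∧
      (∀ i, π i ^ n ∈ I) ∧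
      ∀ i : Fin d, ∀ x : Λ ⧸ Ideal.span (Set.range fun j : {j : Fin d // (j : ℕ) < (i : ℕ)} => π j ^ e),
        Ideal.Quotient.mk _ (π i) ^ 2 * x = 0 → Ideal.Quotient.mk _ (π i) * x = 0 := by
  classical
  have hNA : IsNoetherianRing (Localization.AtPrime q) := inferInstance
  -- step 1: a regular system of parameters `z`
  have hreg : ((maximalIdeal (Localization.AtPrime q)).spanFinrank : WithBot ℕ∞) =
      ringKrullDim (Localization.AtPrime q) := IsRegularLocalRing.spanFinrank_maximalIdeal
  rw [hd] at hreg
  have hreg' : (maximalIdeal (Localization.AtPrime q)).spanFinrank = d := by exact_mod_cast hreg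
  obtain ⟨s, z, hs, hsup⟩ := Helper5.exists_extension_span_eq_maximalIdeal
    (R := Localization.AtPrime q) (r := 0) (fun i => i.elim0) (linearIndependent_empty_type)
  obtain rfl : d = s := by omega
  have hz : Ideal.span (Set.range fun i => (z i : Localization.AtPrime q)) =
      maximalIdeal (Localization.AtPrime q) := by
    have : (Set.range fun i : Fin 0 =>
        ((Fin.elim0 i : maximalIdeal (Localization.AtPrime q)) : Localization.AtPrime q)) = ∅ :=
      Set.range_eq_empty _
    rw [this, Ideal.span_empty, sup_bot_eq] at hsup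
    exact hsup
  -- numerators
  have h1 : ∀ i, ∃ x : Λ × q.primeCompl,
      (z i : Localization.AtPrime q) * algebraMap Λ (Localization.AtPrime q) x.2 =
        algebraMap Λ (Localization.AtPrime q) x.1 :=
    fun i => IsLocalization.surj q.primeCompl (z i : Localization.AtPrime q)
  choose x hx using h1
  have hunit : ∀ m : Λ, m ∈ q.primeCompl → IsUnit (algebraMap Λ (Localization.AtPrime q) m) :=
    fun m hm => IsLocalization.map_units (Localization.AtPrime q) (⟨m, hm⟩ : q.primeCompl)
  -- `π⁰ i ∈ q`
  have hx1q : ∀ i, (x i).1 ∈ q := by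
    intro i
    rw [← IsLocalization.AtPrime.to_map_mem_maximal_iff (Localization.AtPrime q) q, ← hx i]
    exact Ideal.mul_mem_right _ _ (z i).2
  have h2 : ∀ i, ∃ m ∈ q.primeCompl, m * (x i).1 ^ n ∈ I := by
    intro i
    have : algebraMap Λ (Localization.AtPrime q) ((x i).1 ^ n) ∈
        I.map (algebraMap Λ (Localization.AtPrime q)) :=
      hpow (Ideal.mem_map_of_mem _ (Ideal.pow_mem_pow (hx1q i) n))
    exact (IsLocalization.algebraMap_mem_map_algebraMap_iff q.primeCompl _ _ _).mp this
  choose m hmS hmI using h2
  -- the induction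
  have key : ∀ t : ℕ, t ≤ d → ∃ π : Fin d → Λ,
      (∀ i, ∃ c : Localization.AtPrime q, IsUnit c ∧
        algebraMap Λ (Localization.AtPrime q) (π i) = c * (z i : Localization.AtPrime q)) ∧
      (∀ i, π i ^ n ∈ I) ∧
      ∀ i : Fin d, (i : ℕ) < t → ∀ y : Λ,
        π i ^ 2 * y ∈ Ideal.span (Set.range fun j : {j : Fin d // (j : ℕ) < (i : ℕ)} => π j ^ e) →
        π i * y ∈ Ideal.span (Set.range fun j : {j : Fin d // (j : ℕ) < (i : ℕ)} => π j ^ e) := by
    intro t
    induction t with
    | zero =>
      intro _
      refine ⟨fun i => m i * (x i).1, ?_, ?_, fun i hi => absurd hi (Nat.not_lt_zero _)⟩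
      · intro i
        refine ⟨algebraMap Λ (Localization.AtPrime q) (m i) *
          algebraMap Λ (Localization.AtPrime q) (x i).2, (hunit _ (hmS i)).mul (hunit _ (x i).2.2), ?_⟩
        rw [map_mul, ← hx i]
        ring
      · intro i
        obtain ⟨k, hk⟩ : ∃ k, n = k + 1 := ⟨n - 1, by omega⟩
        have : (m i * (x i).1) ^ n = m i ^ k * (m i * (x i).1 ^ n) := by
          rw [mul_pow]
          conv_lhs => rw [hk, pow_succ]
          rw [← hk]
          ring
        rw [this]
        exact I.mul_mem_left _ (hmI i)
    | succ t ih =>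
      intro ht
      obtain ⟨π, h1, h2, h3⟩ := ih (by omega)
      obtain ⟨tt, htt⟩ : ∃ tt : Fin d, (tt : ℕ) = t := ⟨⟨t, by omega⟩, rfl⟩
      have H : ∀ y, π tt ^ 2 * y ∈
          Ideal.span (Set.range fun j : {j : Fin d // (j : ℕ) < (tt : ℕ)} => π j ^ e) →
          ∃ s ∈ q.primeCompl, s * (π tt * y) ∈
            Ideal.span (Set.range fun j : {j : Fin d // (j : ℕ) < (tt : ℕ)} => π j ^ e) := by
        intro y hy
        have hspan : Ideal.span (Set.range fun i => algebraMap Λ (Localization.AtPrime q) (π i)) =
            maximalIdeal (Localization.AtPrime q) := by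
          rw [span_range_eq_of_isUnit_mul _ _ h1]; exact hz
        have hmap : (Ideal.span (Set.range fun j : {j : Fin d // (j : ℕ) < (tt : ℕ)} => π j ^ e)).map
            (algebraMap Λ (Localization.AtPrime q)) =
            Ideal.span (Set.range fun j : {j : Fin d // (j : ℕ) < (tt : ℕ)} =>
              (algebraMap Λ (Localization.AtPrime q) (π j)) ^ e) := by
          rw [Ideal.map_span, ← Set.range_comp]
          congr 2
          funext j
          simp only [Function.comp_apply, map_pow]
        have hy' : algebraMap Λ (Localization.AtPrime q) (π tt) *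
            (algebraMap Λ (Localization.AtPrime q) (π tt) * algebraMap Λ (Localization.AtPrime q) y) ∈
            Ideal.span (Set.range fun j : {j : Fin d // (j : ℕ) < (tt : ℕ)} =>
              (algebraMap Λ (Localization.AtPrime q) (π j)) ^ e) := by
          rw [← hmap]
          have := Ideal.mem_map_of_mem (algebraMap Λ (Localization.AtPrime q)) hy
          rwa [map_mul, map_pow, pow_two, mul_assoc] at this
        have h4 := nzd_pow_of_regular_sop hd
          (fun i => algebraMap Λ (Localization.AtPrime q) (π i)) hspan e he tt _ hy'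
        rw [← hmap, ← map_mul] at h4
        exact (IsLocalization.algebraMap_mem_map_algebraMap_iff q.primeCompl _ _ _).mp h4
      obtain ⟨u, hu, hu'⟩ := exists_mul_ann_eq q.primeCompl _ (π tt) H
      refine ⟨Function.update π tt (u * π tt), ?_, ?_, ?_⟩
      · intro i
        by_cases hi : i = tt
        · rw [hi, Function.update_self]
          obtain ⟨c, hc, hci⟩ := h1 tt
          exact ⟨algebraMap Λ (Localization.AtPrime q) u * c, (hunit u hu).mul hc, by
            rw [map_mul, hci, mul_assoc]⟩
        · rw [Function.update_of_ne hi]; exact h1 i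
      · intro i
        by_cases hi : i = tt
        · rw [hi, Function.update_self, mul_pow]; exact I.mul_mem_left _ (h2 tt)
        · rw [Function.update_of_ne hi]; exact h2 i
      · intro i hi y hy
        have hJeq : (fun j : {j : Fin d // (j : ℕ) < (i : ℕ)} =>
            Function.update π tt (u * π tt) j ^ e) =
            fun j : {j : Fin d // (j : ℕ) < (i : ℕ)} => π j ^ e := by
          funext j
          rw [Function.update_of_ne]
          intro hj
          have h5 : ((j : Fin d) : ℕ) = t := by rw [hj, htt]
          have h6 := j.2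
          omega
        rw [hJeq] at hy ⊢
        by_cases hit : i = tt
        · subst hit
          rw [Function.update_self] at hy ⊢
          exact hu' y hy
        · have hilt : (i : ℕ) < t := by
            have : (i : ℕ) ≠ t := fun h => hit (Fin.ext (by rw [h, htt]))
            omega
          rw [Function.update_of_ne hit] at hy ⊢
          exact h3 i hilt y hy
  obtain ⟨π, h1, h2, h3⟩ := key d le_rfl
  refine ⟨π, ?_, h2, ?_⟩
  · rw [span_range_eq_of_isUnit_mul _ _ h1, hz]
    exact (Localization.AtPrime.map_eq_maximalIdeal).symm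
  · intro i x hx
    obtain ⟨y, rfl⟩ := Ideal.Quotient.mk_surjective x
    rw [← map_pow, ← map_mul, Ideal.Quotient.eq_zero_iff_mem] at hx
    rw [← map_mul, Ideal.Quotient.eq_zero_iff_mem]
    exact h3 i i.2 y hx

end Part1

end Groth.Agent.Lib.R2H4.SwanParamN
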