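import Mathlib
import Groth.Agent.Lib.Helper26SymSmooth
import Groth.Agent.Lib.R2H3FSmChart

/-!
# Kähler differentials of symmetric algebras (R2 helper4)

* `kaehlerEquiv`: `Ω[Sym_A K ⁄ A] ≃ Sym_A K ⊗[A] K` (for any `IsSymmetricAlgebra`).
* `free_kaehler`: if `K` is projective and `Ω[A⁄R] × K` is free then `Ω[Sym_A K ⁄ R]` is free.
* `isSymmetricAlgebra_localization`: a localization of `Sym_A K` at `a ∈ A` is the symmetric algebra
  of `A_a ⊗ K` over `A_a`.
* `free_prod_of_surjective`: splitting of a base-changed presentation with projective cokernel.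
* `finiteType_sym`: `Sym_A K` is of finite type for finite `K`.
* `main`: S2110 (a finite type retract `C` of `A` with `Ω[C_a⁄R]` free whenever `A_a` is smooth).
-/

set_option autoImplicit false
set_option linter.style.haveILetI false
universe u
open TensorProduct

namespace Groth.Agent.Lib.R2H4.SymKaehler


section KaehlerSym

variable {A : Type u} [CommRing A] {K : Type u} [AddCommGroup K] [Module A K]
  {C : Type u} [CommRing C] [Algebra A C] {ι : K →ₗ[A] C}

open KaehlerDifferential (D)

/-- the linear map `K → C ⊕ (C ⊗ K)` -/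
noncomputable def ell (ι : K →ₗ[A] C) : K →ₗ[A] TrivSqZeroExt C (C ⊗[A] K) :=
  (TrivSqZeroExt.inlAlgHom A C (C ⊗[A] K)).toLinearMap ∘ₗ ι +
    ((TrivSqZeroExt.inrHom C (C ⊗[A] K)).restrictScalars A) ∘ₗ (TensorProduct.mk A C K 1)

theorem ell_apply (k : K) : ell ι k = TrivSqZeroExt.inl (ι k) + TrivSqZeroExt.inr (1 ⊗ₜ[A] k) := rfl

variable (h : IsSymmetricAlgebra ι)

noncomputable def theta : C →ₐ[A] TrivSqZeroExt C (C ⊗[A] K) := h.lift (ell ι)

theorem theta_ι (k : K) :
    theta h (ι k) = TrivSqZeroExt.inl (ι k) + TrivSqZeroExt.inr (1 ⊗ₜ[A] k) := by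
  simp [theta, IsSymmetricAlgebra.lift_eq, ell_apply]

theorem fst_theta (x : C) : (theta h x).fst = x := by
  have : (TrivSqZeroExt.fstHom A C (C ⊗[A] K)).comp (theta h) = AlgHom.id A C := by
    apply h.algHom_ext
    ext k
    simp [theta_ι]
  exact congr($this x)

noncomputable def delta : C →ₗ[A] C ⊗[A] K :=
  ((TrivSqZeroExt.sndHom C (C ⊗[A] K)).restrictScalars A) ∘ₗ (theta h).toLinearMap

theorem delta_ι (k : K) : delta h (ι k) = 1 ⊗ₜ[A] k := by
  simp [delta, theta_ι]

theorem delta_mul (x y : C) : delta h (x * y) = x • delta h y + y • delta h x := by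
  simp only [delta, LinearMap.comp_apply, AlgHom.toLinearMap_apply, map_mul,
    LinearMap.restrictScalars_apply, TrivSqZeroExt.sndHom_apply, TrivSqZeroExt.snd_mul,
    fst_theta, op_smul_eq_smul]

noncomputable def der : Derivation A C (C ⊗[A] K) := Derivation.mk' (delta h) (delta_mul h)

theorem der_ι (k : K) : der h (ι k) = 1 ⊗ₜ[A] k := delta_ι h k

noncomputable def fwd (ι : K →ₗ[A] C) : C ⊗[A] K →ₗ[C] Ω[C⁄A] :=
  LinearMap.liftBaseChange C ((D A C).toLinearMap ∘ₗ ι)

theorem fwd_tmul (c : C) (k : K) : fwd ι (c ⊗ₜ[A] k) = c • D A C (ι k) := rfl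

noncomputable def bwd : Ω[C⁄A] →ₗ[C] C ⊗[A] K := (der h).liftKaehlerDifferential

theorem bwd_D (x : C) : bwd h (D A C x) = der h x := Derivation.liftKaehlerDifferential_comp_D _ x

theorem bwd_fwd (z : C ⊗[A] K) : bwd h (fwd ι z) = z := by
  induction z using TensorProduct.induction_on with
  | zero => simp
  | tmul c k =>
    rw [fwd_tmul, map_smul, bwd_D, der_ι, TensorProduct.smul_tmul', smul_eq_mul, mul_one]
  | add x y hx hy => rw [map_add, map_add, hx, hy]

theorem fwd_der (x : C) : fwd ι (der h x) = D A C x := by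
  induction x using h.induction with
  | algebraMap a => simp
  | ι k => rw [der_ι, fwd_tmul, one_smul]
  | mul x y hx hy =>
    rw [Derivation.leibniz, map_add, map_smul, map_smul, hx, hy, Derivation.leibniz]
  | add x y hx hy => rw [map_add, map_add, map_add, hx, hy]

theorem fwd_bwd (w : Ω[C⁄A]) : fwd ι (bwd h w) = w := by
  have : (fwd ι ∘ₗ bwd h) = LinearMap.id := by
    apply Derivation.liftKaehlerDifferential_unique
    ext x
    simp [LinearMap.compDer, bwd_D, fwd_der h]
  exact congr($this w)

/-- Kähler differentials of a symmetric algebra. -/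
noncomputable def kaehlerEquiv : Ω[C⁄A] ≃ₗ[C] C ⊗[A] K :=
  LinearEquiv.ofLinearMap (bwd h) (fwd ι) (LinearMap.ext (bwd_fwd h)) (LinearMap.ext (fwd_bwd h))

end KaehlerSym



section Free

variable {R A C : Type u} [CommRing R] [CommRing A] [CommRing C] [Algebra R A] [Algebra A C]
  [Algebra R C] [IsScalarTower R A C]
  {K : Type u} [AddCommGroup K] [Module A K] {ι : K →ₗ[A] C}

theorem free_kaehler (h : IsSymmetricAlgebra ι) [Module.Projective A K]
    [Module.Free A (Ω[A⁄R] × K)] : Module.Free C Ω[C⁄R] := by
  haveI : Algebra.FormallySmooth A C := Groth.Agent.Lib.Helper26.SymSmooth.formallySmooth h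
  have hinj := Groth.Agent.Lib.R2H3.FSmChart.mapBaseChange_injective_of_formallySmooth R A C
  have hex := KaehlerDifferential.exact_mapBaseChange_map R A C
  have hsurj := KaehlerDifferential.map_surjective R A C
  haveI : Module.Projective C (C ⊗[A] K) := inferInstance
  haveI : Module.Projective C Ω[C⁄A] := Module.Projective.of_equiv (kaehlerEquiv h).symm
  obtain ⟨l, hl⟩ := Module.projective_lifting_property (KaehlerDifferential.map R A C C)
    LinearMap.id hsurj
  let e := (hex.splitSurjectiveEquiv hinj ⟨l, hl⟩).1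
  let e2 : Ω[C⁄R] ≃ₗ[C] C ⊗[A] (Ω[A⁄R] × K) :=
    e.trans ((LinearEquiv.prodCongr (LinearEquiv.refl C _) (kaehlerEquiv h)).trans
      (TensorProduct.prodRight A C C Ω[A⁄R] K).symm)
  exact Module.Free.of_equiv e2.symm

end Free



section Loc



variable {A K C : Type u} [CommRing A] [AddCommGroup K] [Module A K] [CommRing C] [Algebra A C]
  {ι : K →ₗ[A] C}

/-- The base-changed structure map `A' ⊗ K → C'`. -/
noncomputable def ιLoc (ι : K →ₗ[A] C) (A' C' : Type u) [CommRing A'] [Algebra A A'] [CommRing C']
    [Algebra C C'] [Algebra A' C'] [Algebra A C'] [IsScalarTower A C C'] [IsScalarTower A A' C'] :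
    A' ⊗[A] K →ₗ[A'] C' :=
  LinearMap.liftBaseChange A' (((Algebra.linearMap C C').restrictScalars A) ∘ₗ ι)

theorem ιLoc_tmul (A' C' : Type u) [CommRing A'] [Algebra A A'] [CommRing C']
    [Algebra C C'] [Algebra A' C'] [Algebra A C'] [IsScalarTower A C C'] [IsScalarTower A A' C']
    (x : A') (k : K) : ιLoc ι A' C' (x ⊗ₜ[A] k) = x • algebraMap C C' (ι k) := rfl

theorem isSymmetricAlgebra_localization (h : IsSymmetricAlgebra ι) (a : A)
    (A' C' : Type u) [CommRing A'] [Algebra A A'] [IsLocalization.Away a A'] [CommRing C']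
    [Algebra C C'] [IsLocalization.Away (algebraMap A C a) C'] [Algebra A' C'] [Algebra A C']
    [IsScalarTower A C C'] [IsScalarTower A A' C'] :
    IsSymmetricAlgebra (ιLoc ι A' C') := by
  let Φ : (SymmetricAlgebra A' (A' ⊗[A] K)) →ₐ[A'] C' := SymmetricAlgebra.lift (ιLoc ι A' C')
  let j : K →ₗ[A] (SymmetricAlgebra A' (A' ⊗[A] K)) :=
    ((SymmetricAlgebra.ι A' (A' ⊗[A] K)).restrictScalars A) ∘ₗ (TensorProduct.mk A A' K 1)
  let g₀ : C →ₐ[A] (SymmetricAlgebra A' (A' ⊗[A] K)) := h.lift j
  have hg₀ι : ∀ k, g₀ (ι k) = SymmetricAlgebra.ι A' (A' ⊗[A] K) (1 ⊗ₜ[A] k) := fun k => by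
    simp [g₀, j, IsSymmetricAlgebra.lift_eq]
  have hunit : IsUnit (g₀.toRingHom (algebraMap A C a)) := by
    have : g₀.toRingHom (algebraMap A C a) = algebraMap A' (SymmetricAlgebra A' (A' ⊗[A] K)) (algebraMap A A' a) := by
      change g₀ (algebraMap A C a) = _
      rw [AlgHom.commutes]
      rfl
    rw [this]
    exact (IsLocalization.Away.algebraMap_isUnit a).map _
  let Ψ : C' →+* (SymmetricAlgebra A' (A' ⊗[A] K)) := IsLocalization.Away.lift (algebraMap A C a) hunit
  have hΨ : ∀ c, Ψ (algebraMap C C' c) = g₀ c := fun c =>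
    IsLocalization.Away.lift_eq (algebraMap A C a) hunit c
  have hΦg : ∀ c, Φ (g₀ c) = algebraMap C C' c := by
    have : (Φ.restrictScalars A).comp g₀ = IsScalarTower.toAlgHom A C C' := by
      apply h.algHom_ext
      ext k
      change Φ (g₀ (ι k)) = algebraMap C C' (ι k)
      rw [hg₀ι]
      simp [Φ, ιLoc_tmul]
    exact fun c => congr($this c)
  have h1 : ∀ x, Φ (Ψ x) = x := by
    have : (Φ.toRingHom.comp Ψ) = RingHom.id C' := by
      apply IsLocalization.ringHom_ext (Submonoid.powers (algebraMap A C a))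
      ext c
      simp only [RingHom.coe_comp, Function.comp_apply, RingHom.id_comp]
      rw [hΨ]
      exact hΦg c
    exact fun x => congr($this x)
  have hΨA' : ∀ x : A', Ψ (algebraMap A' C' x) = algebraMap A' (SymmetricAlgebra A' (A' ⊗[A] K)) x := by
    have : (Ψ.comp (algebraMap A' C')) = algebraMap A' (SymmetricAlgebra A' (A' ⊗[A] K)) := by
      apply IsLocalization.ringHom_ext (Submonoid.powers a)
      ext r
      simp only [RingHom.coe_comp, Function.comp_apply]
      rw [← IsScalarTower.algebraMap_apply A A' C', IsScalarTower.algebraMap_apply A C C', hΨ,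
        AlgHom.commutes]
      rfl
    exact fun x => congr($this x)
  have h2 : ∀ y, Ψ (Φ y) = y := by
    let ΨΦ : (SymmetricAlgebra A' (A' ⊗[A] K)) →ₐ[A'] (SymmetricAlgebra A' (A' ⊗[A] K)) :=
      { toRingHom := Ψ.comp Φ.toRingHom
        commutes' := fun x => by
          change Ψ (Φ (algebraMap A' (SymmetricAlgebra A' (A' ⊗[A] K)) x)) = _
          rw [AlgHom.commutes, hΨA'] }
    have : ΨΦ = AlgHom.id A' (SymmetricAlgebra A' (A' ⊗[A] K)) := by
      apply SymmetricAlgebra.algHom_ext
      ext k
      change Ψ (Φ (SymmetricAlgebra.ι A' (A' ⊗[A] K) (1 ⊗ₜ[A] k))) = _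
      simp only [Φ, SymmetricAlgebra.lift_ι_apply, ιLoc_tmul, one_smul]
      rw [hΨ, hg₀ι]
      rfl
    exact fun y => congr($this y)
  exact ⟨fun x y hxy => by rw [← h2 x, ← h2 y]; exact congrArg Ψ hxy, fun x => ⟨Ψ x, h1 x⟩⟩

end Loc



section Split

variable {A A' : Type u} [CommRing A] [CommRing A'] [Algebra A A'] [Module.Flat A A']
  {N Om Om' : Type u} [AddCommGroup N] [Module A N] [Module.Free A N] [AddCommGroup Om]
  [Module A Om] [AddCommGroup Om'] [Module A' Om'] [Module.Projective A' Om']

theorem free_prod_of_surjective (ϖ : N →ₗ[A] Om) (hϖ : Function.Surjective ϖ)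
    (e : A' ⊗[A] Om ≃ₗ[A'] Om') :
    Module.Free A' (Om' × (A' ⊗[A] LinearMap.ker ϖ)) ∧
      Module.Projective A' (A' ⊗[A] LinearMap.ker ϖ) := by
  let f : A' ⊗[A] LinearMap.ker ϖ →ₗ[A'] A' ⊗[A] N := (LinearMap.ker ϖ).subtype.baseChange A'
  let g : A' ⊗[A] N →ₗ[A'] A' ⊗[A] Om := ϖ.baseChange A'
  have hf : Function.Injective f := by
    change Function.Injective ((LinearMap.ker ϖ).subtype.baseChange A')
    rw [LinearMap.baseChange_eq_ltensor]
    exact Module.Flat.lTensor_preserves_injective_linearMap _ (Submodule.subtype_injective _)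
  have hg : Function.Surjective g := by
    change Function.Surjective (ϖ.baseChange A')
    rw [LinearMap.baseChange_eq_ltensor]
    exact LinearMap.lTensor_surjective _ hϖ
  have hex : Function.Exact f g := by
    change Function.Exact ((LinearMap.ker ϖ).subtype.baseChange A') (ϖ.baseChange A')
    rw [LinearMap.baseChange_eq_ltensor, LinearMap.baseChange_eq_ltensor]
    exact Module.Flat.lTensor_exact A' (LinearMap.exact_subtype_ker_map ϖ)
  haveI : Module.Projective A' (A' ⊗[A] Om) := Module.Projective.of_equiv e.symm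
  obtain ⟨l, hl⟩ := Module.projective_lifting_property g LinearMap.id hg
  let E := (hex.splitSurjectiveEquiv hf ⟨l, hl⟩).1
  have hfree : Module.Free A' ((A' ⊗[A] LinearMap.ker ϖ) × (A' ⊗[A] Om)) :=
    Module.Free.of_equiv E
  refine ⟨?_, ?_⟩
  · exact Module.Free.of_equiv
      ((LinearEquiv.prodComm A' _ _).trans (LinearEquiv.prodCongr e (LinearEquiv.refl A' _)))
  · exact Module.Projective.of_split (LinearMap.inl A' _ (A' ⊗[A] Om)) (LinearMap.fst A' _ _)
      (by ext; simp)

end Split



theorem finiteType_sym {A K : Type u} [CommRing A] [AddCommGroup K] [Module A K]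
    [Module.Finite A K] : Algebra.FiniteType A (SymmetricAlgebra A K) := by
  classical
  obtain ⟨s, hs⟩ := (Module.Finite.fg_top : (⊤ : Submodule A K).FG)
  refine ⟨⟨s.image (SymmetricAlgebra.ι A K), ?_⟩⟩
  rw [eq_top_iff]
  rintro x -
  have hK : ∀ k : K, SymmetricAlgebra.ι A K k ∈
      Algebra.adjoin A ((s.image (SymmetricAlgebra.ι A K) : Finset _) : Set (SymmetricAlgebra A K)) := by
    intro k
    have hk : k ∈ Submodule.span A (s : Set K) := by rw [hs]; trivial
    induction hk using Submodule.span_induction with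
    | mem x hx =>
      apply Algebra.subset_adjoin
      simp only [Finset.coe_image]
      exact ⟨x, hx, rfl⟩
    | zero => rw [map_zero]; exact Subalgebra.zero_mem _
    | add x y _ _ hx hy => rw [map_add]; exact Subalgebra.add_mem _ hx hy
    | smul a x _ hx => rw [map_smul]; exact Subalgebra.smul_mem _ hx a
  induction x using SymmetricAlgebra.induction with
  | algebraMap r => exact Subalgebra.algebraMap_mem _ r
  | ι k => exact hK k
  | mul a b ha hb => exact Subalgebra.mul_mem _ ha hb
  | add a b ha hb => exact Subalgebra.add_mem _ ha hb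


section Main

theorem main {R A : Type u} [CommRing R] [CommRing A] [Algebra R A]
    [Algebra.FinitePresentation R A] :
    ∃ (C : Type u) (_ : CommRing C) (_ : Algebra A C) (_ : Algebra R C) (_ : IsScalarTower R A C),
      Algebra.FiniteType A C ∧ Nonempty (C →ₐ[A] A) ∧
      ∀ a : A, Algebra.Smooth R (Localization.Away a) →
        Module.Free (Localization.Away (algebraMap A C a))
          Ω[Localization.Away (algebraMap A C a)⁄R] := by
  obtain ⟨n, f, hf⟩ := Module.Finite.exists_fin' A Ω[A⁄R]
  have hfg : (LinearMap.ker f).FG := Module.FinitePresentation.fg_ker f hf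
  haveI : Module.Finite A (LinearMap.ker f) := Module.Finite.iff_fg.mpr hfg
  refine ⟨SymmetricAlgebra A (LinearMap.ker f), inferInstance, inferInstance, inferInstance,
    inferInstance, finiteType_sym, ⟨SymmetricAlgebra.algebraMapInv⟩, ?_⟩
  intro a hsm
  let C := SymmetricAlgebra A (LinearMap.ker f)
  letI : Algebra (Localization.Away a) (Localization.Away (algebraMap A C a)) :=
    (Localization.awayMap (algebraMap A C) a).toAlgebra
  have hmap : ∀ x : A, algebraMap (Localization.Away a) (Localization.Away (algebraMap A C a))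
      (algebraMap A (Localization.Away a) x) =
      algebraMap C (Localization.Away (algebraMap A C a)) (algebraMap A C x) := fun x => by
    change Localization.awayMap (algebraMap A C) a (algebraMap A _ x) = _
    simp only [Localization.awayMap, IsLocalization.Away.map, IsLocalization.map_eq]
  haveI : IsScalarTower A (Localization.Away a) (Localization.Away (algebraMap A C a)) :=
    IsScalarTower.of_algebraMap_eq fun x => by
      rw [hmap, ← IsScalarTower.algebraMap_apply]
  haveI : IsScalarTower R (Localization.Away a) (Localization.Away (algebraMap A C a)) :=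
    IsScalarTower.of_algebraMap_eq fun x => by
      rw [IsScalarTower.algebraMap_apply R A (Localization.Away a), hmap,
        ← IsScalarTower.algebraMap_apply R A C, ← IsScalarTower.algebraMap_apply]
  have hsym := isSymmetricAlgebra_localization
    (SymmetricAlgebra.isSymmetricAlgebra_ι (R := A) (M := LinearMap.ker f)) a
    (Localization.Away a) (Localization.Away (algebraMap A C a))
  haveI : Algebra.FormallyEtale A (Localization.Away a) :=
    Algebra.FormallyEtale.of_isLocalization (Submonoid.powers a)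
  haveI : Module.Flat A (Localization.Away a) := IsLocalization.flat _ (Submonoid.powers a)
  obtain ⟨h1, h2⟩ := free_prod_of_surjective (A' := Localization.Away a) f hf
    (KaehlerDifferential.tensorKaehlerEquivOfFormallyEtale R A (Localization.Away a))
  haveI := h1
  haveI := h2
  exact free_kaehler (R := R) hsym

end Main

end Groth.Agent.Lib.R2H4.SymKaehler
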