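import Mathlib
import Groth.Agent.Lib.R2H4SymKaehler

/-!
# S2110 strengthened over a Noetherian base (helper4, round 2)

`SymKaehler.main'`: the retract `C` of `A` is finitely presented over `R` and `C_a` is smooth over
`R` with free differentials whenever `A_a` is smooth over `R`.
-/

set_option autoImplicit false
set_option linter.style.haveILetI false
set_option linter.unusedSimpArgs false
set_option linter.unusedSectionVars false
universe u

namespace Groth.Agent.Lib.R2H4.SymKaehler
section Part1

/-- strengthened form of `main` over a Noetherian base: `C` is finitely presented over `R` and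
`C_a` is smooth over `R` (with free differentials) whenever `A_a` is smooth over `R`. -/
theorem main' {R A : Type u} [CommRing R] [IsNoetherianRing R] [CommRing A] [Algebra R A]
    [Algebra.FinitePresentation R A] :
    ∃ (C : Type u) (_ : CommRing C) (_ : Algebra A C) (_ : Algebra R C) (_ : IsScalarTower R A C),
      Algebra.FinitePresentation R C ∧ Nonempty (C →ₐ[A] A) ∧
      ∀ a : A, Algebra.Smooth R (Localization.Away a) →
        Algebra.Smooth R (Localization.Away (algebraMap A C a)) ∧
        Module.Free (Localization.Away (algebraMap A C a))
          Ω[Localization.Away (algebraMap A C a)⁄R] := by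
  obtain ⟨n, f, hf⟩ := Module.Finite.exists_fin' A Ω[A⁄R]
  have hfg : (LinearMap.ker f).FG := Module.FinitePresentation.fg_ker f hf
  haveI : Module.Finite A (LinearMap.ker f) := Module.Finite.iff_fg.mpr hfg
  haveI hft : Algebra.FiniteType A (SymmetricAlgebra A (LinearMap.ker f)) := finiteType_sym
  haveI hftR : Algebra.FiniteType R (SymmetricAlgebra A (LinearMap.ker f)) :=
    Algebra.FiniteType.trans (S := A) inferInstance hft
  haveI hfpR : Algebra.FinitePresentation R (SymmetricAlgebra A (LinearMap.ker f)) :=
    Algebra.FinitePresentation.of_finiteType.mp hftR
  refine ⟨SymmetricAlgebra A (LinearMap.ker f), inferInstance, inferInstance, inferInstance,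
    inferInstance, hfpR, ⟨SymmetricAlgebra.algebraMapInv⟩, ?_⟩
  intro a hsm
  let C := SymmetricAlgebra A (LinearMap.ker f)
  letI : Algebra (Localization.Away a) (Localization.Away (algebraMap A C a)) :=
    (Localization.awayMap (algebraMap A C) a).toAlgebra
  have hmap : ∀ x : A, algebraMap (Localization.Away a) (Localization.Away (algebraMap A C a))
      (algebraMap A (Localization.Away a) x) =
      algebraMap C (Localization.Away (algebraMap A C a)) (algebraMap A C x) := fun x => by
    change Localization.awayMap (algebraMap A C) a (algebraMap A _ x) = _
    simp only [Localization.awayMap, IsLocalization.Away.map, IsLocalization.map_eq]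
  haveI : IsScalarTower A (Localization.Away a) (Localization.Away (algebraMap A C a)) :=
    IsScalarTower.of_algebraMap_eq fun x => by
      rw [hmap, ← IsScalarTower.algebraMap_apply]
  haveI : IsScalarTower R (Localization.Away a) (Localization.Away (algebraMap A C a)) :=
    IsScalarTower.of_algebraMap_eq fun x => by
      rw [IsScalarTower.algebraMap_apply R A (Localization.Away a), hmap,
        ← IsScalarTower.algebraMap_apply R A C, ← IsScalarTower.algebraMap_apply]
  have hsym := isSymmetricAlgebra_localization
    (SymmetricAlgebra.isSymmetricAlgebra_ι (R := A) (M := LinearMap.ker f)) a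
    (Localization.Away a) (Localization.Away (algebraMap A C a))
  haveI : Algebra.FormallyEtale A (Localization.Away a) :=
    Algebra.FormallyEtale.of_isLocalization (Submonoid.powers a)
  haveI : Module.Flat A (Localization.Away a) := IsLocalization.flat _ (Submonoid.powers a)
  obtain ⟨h1, h2⟩ := free_prod_of_surjective (A' := Localization.Away a) f hf
    (KaehlerDifferential.tensorKaehlerEquivOfFormallyEtale R A (Localization.Away a))
  haveI := h1
  haveI := h2
  refine ⟨?_, free_kaehler (R := R) hsym⟩
  haveI : Algebra.FormallySmooth (Localization.Away a) (Localization.Away (algebraMap A C a)) :=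
    Groth.Agent.Lib.Helper26.SymSmooth.formallySmooth hsym
  haveI : Algebra.FormallySmooth R (Localization.Away a) := hsm.1
  haveI : Algebra.FormallySmooth R (Localization.Away (algebraMap A C a)) :=
    Algebra.FormallySmooth.comp R (Localization.Away a) (Localization.Away (algebraMap A C a))
  haveI : Algebra.FinitePresentation C (Localization.Away (algebraMap A C a)) :=
    IsLocalization.Away.finitePresentation (algebraMap A C a)
  haveI : Algebra.FinitePresentation R (Localization.Away (algebraMap A C a)) :=
    Algebra.FinitePresentation.trans R C (Localization.Away (algebraMap A C a))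
  exact ⟨inferInstance, inferInstance⟩

end Part1

end Groth.Agent.Lib.R2H4.SymKaehler
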