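import Mathlib
import Groth.Prelude.Def_Smoothing
import Groth.Agent.Lib.R2H4StdPowB
import Groth.Agent.Lib.R2H4SwanParamN
import Groth.Agent.Lib.R2H4SymKaehler2
import Groth.Agent.Lib.R2H4SepB
import Groth.Agent.Lib.R2H4ArtinRes
import Groth.Agent.Lib.R2H4ResModD
import Groth.Agent.Lib.R2H4DelocWeak

/-!
# Resolution for regular `Λ_𝔮` with separable residue field (helper4, round 2)

`SepMain.main`: `k` a field, `A` finitely presented, `Λ` Noetherian, `𝔮` minimal over the singular
radical with `Λ_𝔮` regular and `κ(𝔮)/k` geometrically reduced ⇒ `k → A → Λ ⊇ 𝔮` can be resolved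
(Stacks 07F?/16.12.1).  Ingredients: `exists_pow_le`, `ann_pow`, `exists_stdPow`,
`singularIdeal_le_of_poly`, and the libs `SepB`, `SymKaehler2`, `StdPow`, `SwanParamN`, `ResMod`,
`ArtinRes`.
-/

set_option autoImplicit false
set_option linter.style.haveILetI false
set_option linter.unusedSimpArgs false
set_option linter.unusedSectionVars false
universe u

namespace Groth.Agent.Lib.R2H4.SepMain
section Part1

open IsLocalRing

section PowLe

variable {Λ : Type u} [CommRing Λ] [IsNoetherianRing Λ]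

/-- if `𝔮` is minimal over `I` then a power of `𝔮 Λ_𝔮` lies in `I Λ_𝔮` -/
theorem exists_pow_le (I 𝔮 : Ideal Λ) [𝔮.IsPrime] (hmin : 𝔮 ∈ I.radical.minimalPrimes) :
    ∃ n : ℕ, 0 < n ∧ (𝔮 ^ n).map (algebraMap Λ (Localization.AtPrime 𝔮)) ≤
      I.map (algebraMap Λ (Localization.AtPrime 𝔮)) := by
  classical
  have hNoeth : IsNoetherianRing (Localization.AtPrime 𝔮) := inferInstance
  have hmaxS : 𝔮.map (algebraMap Λ (Localization.AtPrime 𝔮)) =
      maximalIdeal (Localization.AtPrime 𝔮) := Localization.AtPrime.map_eq_maximalIdeal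
  have hI𝔮 : I ≤ 𝔮 := Ideal.le_radical.trans hmin.1.2
  have hJle : I.map (algebraMap Λ (Localization.AtPrime 𝔮)) ≤ maximalIdeal (Localization.AtPrime 𝔮) := by
    rw [← hmaxS]
    exact Ideal.map_mono hI𝔮
  have hrad : (I.map (algebraMap Λ (Localization.AtPrime 𝔮))).radical =
      maximalIdeal (Localization.AtPrime 𝔮) := by
    apply le_antisymm
    · exact (Ideal.IsPrime.radical_le_iff (IsLocalRing.maximalIdeal.isMaximal _).isPrime).mpr hJle
    · rw [Ideal.radical_eq_sInf]
      refine le_sInf ?_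
      rintro P ⟨hJP, hP⟩
      haveI := hP
      have hP'prime : (P.comap (algebraMap Λ (Localization.AtPrime 𝔮))).IsPrime :=
        Ideal.comap_isPrime _ _
      have hIP' : I ≤ P.comap (algebraMap Λ (Localization.AtPrime 𝔮)) :=
        Ideal.map_le_iff_le_comap.mp hJP
      have hP'𝔮 : P.comap (algebraMap Λ (Localization.AtPrime 𝔮)) ≤ 𝔮 := by
        have h1 : P ≤ maximalIdeal (Localization.AtPrime 𝔮) := IsLocalRing.le_maximalIdeal hP.ne_top
        have h2 : (maximalIdeal (Localization.AtPrime 𝔮)).comap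
            (algebraMap Λ (Localization.AtPrime 𝔮)) = 𝔮 :=
          IsLocalization.AtPrime.under_maximalIdeal (Localization.AtPrime 𝔮) 𝔮
        exact (Ideal.comap_mono h1).trans h2.le
      have h𝔮P' : 𝔮 ≤ P.comap (algebraMap Λ (Localization.AtPrime 𝔮)) :=
        hmin.2 ⟨hP'prime, (Ideal.IsPrime.radical_le_iff hP'prime).mpr hIP'⟩ hP'𝔮
      rw [← hmaxS, Ideal.map_le_iff_le_comap]
      exact h𝔮P'
  obtain ⟨n, hn⟩ := Ideal.exists_radical_pow_le_of_fg
    (I.map (algebraMap Λ (Localization.AtPrime 𝔮)))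
    (IsNoetherian.noetherian (I.map (algebraMap Λ (Localization.AtPrime 𝔮))).radical)
  refine ⟨n + 1, Nat.succ_pos n, ?_⟩
  rw [Ideal.map_pow, hmaxS, ← hrad]
  exact (Ideal.pow_le_pow_right (Nat.le_succ n)).trans hn

end PowLe

section AnnPow

variable {Λ : Type*} [CommRing Λ]

/-- `Ann π = Ann π²` modulo `J` implies `Ann π^c = Ann π^{2c}` modulo `J` -/
theorem ann_pow (J : Ideal Λ) (π : Λ) (h : ∀ y, π ^ 2 * y ∈ J → π * y ∈ J) (c : ℕ) (hc : 0 < c)
    (y : Λ) (hy : (π ^ c) ^ 2 * y ∈ J) : π ^ c * y ∈ J := by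
  have key : ∀ m : ℕ, ∀ z, π ^ (m + 1) * z ∈ J → π * z ∈ J := by
    intro m
    induction m with
    | zero => intro z hz; simpa using hz
    | succ m ih =>
      intro z hz
      have h1 : π ^ 2 * (π ^ m * z) ∈ J := by
        have e : π ^ 2 * (π ^ m * z) = π ^ (m + 1 + 1) * z := by ring
        rw [e]
        exact hz
      have h2 := h _ h1
      have e2 : π * (π ^ m * z) = π ^ (m + 1) * z := by ring
      rw [e2] at h2
      exact ih z h2
  obtain ⟨c', rfl⟩ : ∃ c', c = c' + 1 := ⟨c - 1, by omega⟩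
  have h1 : π ^ (2 * c' + 1 + 1) * y ∈ J := by
    have e : π ^ (2 * c' + 1 + 1) * y = (π ^ (c' + 1)) ^ 2 * y := by ring
    rw [e]
    exact hy
  have h2 := key _ y h1
  have e : π ^ (c' + 1) * y = π ^ c' * (π * y) := by ring
  rw [e]
  exact J.mul_mem_left _ h2

end AnnPow

section Std

variable {R C : Type u} [CommRing R] [CommRing C] [Algebra R C] [Algebra.FinitePresentation R C]

/-- powers of `b` are strictly standard once `C_b` is smooth with free differentials -/
theorem exists_stdPow (b : C) [Algebra.Smooth R (Localization.Away b)]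
    [Module.Free (Localization.Away b) Ω[Localization.Away b⁄R]] :
    ∃ e₀ : ℕ, ∀ N : ℕ, e₀ ≤ N → Smoothing.IsStrictlyStandard R C (b ^ N) := by
  rcases subsingleton_or_nontrivial (Localization.Away b) with hB | hB
  · exact StdPow.trivial_case b hB
  haveI : Algebra.FiniteType R (Localization.Away b) := inferInstance
  haveI : Module.Finite (Localization.Away b) Ω[Localization.Away b⁄R] := inferInstance
  let bas := Module.finBasis (Localization.Away b) Ω[Localization.Away b⁄R]
  let e : (Ω[Localization.Away b⁄R] × (Fin 0 → Localization.Away b)) ≃ₗ[Localization.Away b]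
      (Fin (Module.finrank (Localization.Away b) Ω[Localization.Away b⁄R]) → Localization.Away b) :=
    (LinearEquiv.prodUnique).trans bas.equivFun
  exact StdPow.main b 0 _ e

end Std

end Part1

section Part2

open IsLocalRing MvPolynomial

section Conv

/-- smoothness over `k[x]` implies smoothness over `k` -/
theorem singularIdeal_le_of_poly {k : Type u} [Field k] {d : ℕ} {D : Type u} [CommRing D]
    [Algebra (MvPolynomial (Fin d) k) D] [Algebra k D] [IsScalarTower k (MvPolynomial (Fin d) k) D] :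
    Smoothing.singularIdeal (MvPolynomial (Fin d) k) D ≤ Smoothing.singularIdeal k D := by
  intro c hc
  apply DelocWeak.mem_singularIdeal_of_forall
  intro Q _ hcQ
  have hQ : Algebra.IsSmoothAt (MvPolynomial (Fin d) k) Q := by
    by_contra hns
    have hmem : (⟨Q, inferInstance⟩ : PrimeSpectrum D) ∈
        (Algebra.smoothLocus (MvPolynomial (Fin d) k) D)ᶜ := hns
    rw [Smoothing.singularIdeal, PrimeSpectrum.mem_vanishingIdeal] at hc
    exact hcQ (hc _ hmem)
  change Algebra.FormallySmooth k (Localization.AtPrime Q)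
  haveI : Algebra.FormallySmooth (MvPolynomial (Fin d) k) (Localization.AtPrime Q) := hQ
  exact Algebra.FormallySmooth.comp k (MvPolynomial (Fin d) k) (Localization.AtPrime Q)

end Conv

section Main

set_option maxHeartbeats 1600000 in
theorem main {k A Λ : Type u} [Field k] [CommRing A] [Algebra k A]
    [Algebra.FinitePresentation k A] [CommRing Λ] [Algebra k Λ] [IsNoetherianRing Λ]
    (φ : A →ₐ[k] Λ) (𝔮 : Ideal Λ) [𝔮.IsPrime] (hmin : 𝔮 ∈ (Smoothing.singRad k φ).minimalPrimes)
    [IsRegularLocalRing (Localization.AtPrime 𝔮)]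
    [Algebra.IsGeometricallyReduced k 𝔮.ResidueField] : Smoothing.Resolvable k φ 𝔮 := by
  classical
  have hNoethS : IsNoetherianRing (Localization.AtPrime 𝔮) := inferInstance
  -- the dimension
  obtain ⟨d, hd⟩ : ∃ d : ℕ, ringKrullDim (Localization.AtPrime 𝔮) = d :=
    ⟨_, (IsRegularLocalRing.spanFinrank_maximalIdeal (R := Localization.AtPrime 𝔮)).symm⟩
  rcases Nat.eq_zero_or_pos d with hd0 | hdpos
  · subst hd0
    exact ArtinRes.dim_zero_case φ 𝔮 (by simpa using hd)
  -- the ideal `I = H Λ`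
  set I : Ideal Λ := (Smoothing.singularIdeal k A).map φ with hI
  have hmin' : 𝔮 ∈ I.radical.minimalPrimes := hmin
  have hI𝔮 : I ≤ 𝔮 := Ideal.le_radical.trans hmin.1.2
  obtain ⟨n, hn, hpow⟩ := exists_pow_le I 𝔮 hmin'
  -- generators of the singular ideal
  haveI : IsNoetherianRing A := Algebra.FiniteType.isNoetherianRing k A
  obtain ⟨r, a, ha⟩ := Submodule.fg_iff_exists_fin_generating_family.mp
    ((isNoetherianRing_iff_ideal_fg A).mp inferInstance (Smoothing.singularIdeal k A))
  have haH : ∀ j, a j ∈ Smoothing.singularIdeal k A := fun j => by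
    rw [← ha]
    exact Submodule.subset_span ⟨j, rfl⟩
  have hsmA : ∀ j, Algebra.FormallySmooth k (Localization.Away (a j)) := fun j =>
    (DelocWeak.smooth_away_of_mem_singularIdeal (a j) (haH j)).1
  have hIspan : I = Ideal.span (Set.range fun j => φ (a j)) := by
    rw [hI, ← ha]
    change Ideal.map φ (Ideal.span (Set.range a)) = _
    rw [Ideal.map_span, ← Set.range_comp]
    rfl
  -- the algebras `B` and `C`
  obtain ⟨C, _, _, _, _, hCfp, ⟨ρ⟩, hC⟩ :=
    SymKaehler.main' (R := MvPolynomial (Fin d) k) (A := SepB.BB k d n a)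
  haveI := hCfp
  have hstdex : ∀ i : Fin d, ∃ e₀ : ℕ, ∀ N : ℕ, e₀ ≤ N → Smoothing.IsStrictlyStandard
      (MvPolynomial (Fin d) k) C
      (algebraMap (SepB.BB k d n a) C (algebraMap (MvPolynomial (Fin d) k) (SepB.BB k d n a) (X i)) ^ N) := by
    intro i
    obtain ⟨h1, h2⟩ := hC _ (SepB.smooth_away_X n a hsmA i)
    haveI := h1
    haveI := h2
    exact exists_stdPow _
  choose e₀ he₀ using hstdex
  let c : ℕ := 1 + ∑ i, e₀ i
  have hcpos : 0 < c := Nat.lt_of_lt_of_le Nat.zero_lt_one (Nat.le_add_right 1 _)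
  have hstd : ∀ i : Fin d, Smoothing.IsStrictlyStandard (MvPolynomial (Fin d) k) C
      (algebraMap (MvPolynomial (Fin d) k) C (X i ^ c)) := by
    intro i
    have hle : e₀ i ≤ c := le_trans (Finset.single_le_sum (f := e₀) (fun _ _ => Nat.zero_le _)
      (Finset.mem_univ i)) (Nat.le_add_left _ _)
    have := he₀ i c hle
    rwa [← IsScalarTower.algebraMap_apply, ← map_pow] at this
  -- the parameters
  obtain ⟨π, hspan, hπI, hann⟩ :=
    SwanParamN.main_n I 𝔮 n (c * 8) d hn (Nat.mul_pos hcpos (by norm_num)) hpow hd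
  have hπ𝔮 : ∀ i, π i ∈ 𝔮 := fun i => Ideal.IsPrime.mem_of_pow_mem inferInstance n (hI𝔮 (hπI i))
  have hlam : ∀ i, ∃ l : Fin r → Λ, ∑ j, l j * φ (a j) = π i ^ n := fun i => by
    have := hπI i
    rw [hIspan] at this
    exact Ideal.mem_span_range_iff_exists_fun.mp this
  choose lam hlam' using hlam
  -- `Λ` as a `k[x]`-algebra
  letI algRΛ : Algebra (MvPolynomial (Fin d) k) Λ :=
    (MvPolynomial.aeval π : MvPolynomial (Fin d) k →ₐ[k] Λ).toRingHom.toAlgebra
  have halgX : ∀ i, algebraMap (MvPolynomial (Fin d) k) Λ (X i) = π i := fun i =>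
    MvPolynomial.aeval_X π i
  haveI : IsScalarTower k (MvPolynomial (Fin d) k) Λ := IsScalarTower.of_algebraMap_eq (fun x =>
    ((MvPolynomial.aeval π : MvPolynomial (Fin d) k →ₐ[k] Λ).commutes x).symm)
  have hrel : ∀ i, algebraMap (MvPolynomial (Fin d) k) Λ (X i) ^ n =
      ∑ j, (fun s : Fin d × Fin r => lam s.1 s.2) (i, j) * φ (a j) := fun i => by
    rw [halgX]
    exact (hlam' i).symm
  let ψB : SepB.BB k d n a →ₐ[MvPolynomial (Fin d) k] Λ :=
    SepB.liftB n a φ (fun s : Fin d × Fin r => lam s.1 s.2) hrel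
  have hψB : ∀ x, ψB (SepB.gB k d n a x) = φ x := fun x => SepB.liftB_gB n a φ _ hrel x
  let ψC : C →ₐ[MvPolynomial (Fin d) k] Λ := ψB.comp (ρ.restrictScalars (MvPolynomial (Fin d) k))
  have hψC : ∀ y : SepB.BB k d n a, ψC (algebraMap (SepB.BB k d n a) C y) = ψB y := fun y => by
    change ψB (ρ (algebraMap (SepB.BB k d n a) C y)) = ψB y
    rw [ρ.commutes]
    rfl
  -- resolve over `k[x]`
  have hresR : Smoothing.Resolvable (MvPolynomial (Fin d) k) ψC 𝔮 := by
    let K : Ideal (MvPolynomial (Fin d) k) :=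
      Ideal.span (Set.range fun i : Fin d => ((X i : MvPolynomial (Fin d) k) ^ c) ^ 8)
    have hKle : K ≤ PolyArt.mm k d := by
      rw [Ideal.span_le]
      rintro _ ⟨i, rfl⟩
      change ((X i : MvPolynomial (Fin d) k) ^ c) ^ 8 ∈ PolyArt.mm k d
      rw [← pow_mul]
      obtain ⟨m, hm⟩ : ∃ m, c * 8 = m + 1 := ⟨c * 8 - 1, by omega⟩
      rw [hm, pow_succ]
      exact Ideal.mul_mem_left _ _ (Ideal.subset_span ⟨i, rfl⟩)
    have hKnil : ∀ i : Fin d, ∃ N : ℕ, (X i : MvPolynomial (Fin d) k) ^ N ∈ K := fun i =>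
      ⟨c * 8, by rw [pow_mul]; exact Ideal.subset_span ⟨i, rfl⟩⟩
    have hx : Ideal.span (Set.range fun i => algebraMap Λ (Localization.AtPrime 𝔮)
        (algebraMap (MvPolynomial (Fin d) k) Λ (X i))) =
        𝔮.map (algebraMap Λ (Localization.AtPrime 𝔮)) := by
      rw [← hspan]
      congr 2
      funext i
      rw [halgX]
    haveI : Algebra.FinitePresentation (MvPolynomial (Fin d) k ⧸ K)
        (C ⧸ K.map (algebraMap (MvPolynomial (Fin d) k) C)) := ResMod.finitePresentation_quotient K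
    refine ResMod.main ψC 𝔮 hdpos (fun i => (X i : MvPolynomial (Fin d) k) ^ c) ?_ ?_ ?_ hstd K rfl
      (ResMod.quotMap ψC K) (fun y => ResMod.quotMap_mk ψC K y)
      (ArtinRes.art K hKle hKnil 𝔮 hd hx (ResMod.quotMap ψC K))
    · intro i
      rw [map_pow, halgX]
      exact Ideal.pow_mem_of_mem _ (hπ𝔮 i) c hcpos
    · intro i y hy
      exact PolyArt.ann_cond c i y hy
    · intro i y hy
      obtain ⟨y, rfl⟩ := Ideal.Quotient.mk_surjective y
      have hJeq : (Ideal.span (Set.range fun j : {j : Fin d // (j : ℕ) < (i : ℕ)} =>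
          algebraMap (MvPolynomial (Fin d) k) Λ ((X (j : Fin d) : MvPolynomial (Fin d) k) ^ c) ^ 8)) =
          Ideal.span (Set.range fun j : {j : Fin d // (j : ℕ) < (i : ℕ)} => π j ^ (c * 8)) := by
        congr 2
        funext j
        rw [map_pow, halgX, ← pow_mul]
      rw [← map_pow, ← map_mul, Ideal.Quotient.eq_zero_iff_mem, map_pow, halgX] at hy
      rw [← map_mul, Ideal.Quotient.eq_zero_iff_mem, map_pow, halgX]
      rw [hJeq] at hy ⊢
      refine ann_pow _ (π i) ?_ c hcpos y hy
      intro z hz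
      have := hann i (Ideal.Quotient.mk _ z) (by
        rw [← map_pow, ← map_mul, Ideal.Quotient.eq_zero_iff_mem]
        exact hz)
      rwa [← map_mul, Ideal.Quotient.eq_zero_iff_mem] at this
  -- convert to a resolution over `k`
  obtain ⟨D, _, _, hDfp, g', h', hcomp, hle, hnot⟩ := hresR
  haveI := hDfp
  letI algkD : Algebra k D := Algebra.compHom D (algebraMap k (MvPolynomial (Fin d) k))
  haveI : IsScalarTower k (MvPolynomial (Fin d) k) D := IsScalarTower.of_algebraMap_eq (fun _ => rfl)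
  haveI : Algebra.FinitePresentation k D :=
    Algebra.FinitePresentation.trans k (MvPolynomial (Fin d) k) D
  letI algkC : Algebra k C := Algebra.compHom C (algebraMap k (MvPolynomial (Fin d) k))
  haveI : IsScalarTower k (MvPolynomial (Fin d) k) C := IsScalarTower.of_algebraMap_eq (fun _ => rfl)
  have htow : ∀ x : k, algebraMap k C x =
      algebraMap (SepB.BB k d n a) C (algebraMap k (SepB.BB k d n a) x) := fun x => by
    change algebraMap (MvPolynomial (Fin d) k) C (algebraMap k (MvPolynomial (Fin d) k) x) = _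
    rw [IsScalarTower.algebraMap_apply (MvPolynomial (Fin d) k) (SepB.BB k d n a) C,
      ← IsScalarTower.algebraMap_apply k (MvPolynomial (Fin d) k) (SepB.BB k d n a)]
  haveI : IsScalarTower k (SepB.BB k d n a) C :=
    IsScalarTower.of_algebraMap_eq (R := k) (S := SepB.BB k d n a) (A := C) htow
  let gC : A →ₐ[k] C := (IsScalarTower.toAlgHom k (SepB.BB k d n a) C).comp (SepB.gB k d n a)
  have hgC : ∀ x, ψC (gC x) = φ x := fun x => by
    change ψC (algebraMap (SepB.BB k d n a) C (SepB.gB k d n a x)) = φ x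
    rw [hψC, hψB]
  let g : A →ₐ[k] D := (g'.restrictScalars k).comp gC
  let h : D →ₐ[k] Λ := h'.restrictScalars k
  have hh' : ∀ y, h y = h' y := fun y => rfl
  have hgh : ∀ y : C, h' (g' y) = ψC y := fun y => congr($hcomp y)
  have hsing : Smoothing.singRad (MvPolynomial (Fin d) k) h' ≤ Smoothing.singRad k h := by
    apply Ideal.radical_mono
    rw [Ideal.map_le_iff_le_comap]
    intro y hy
    rw [Ideal.mem_comap, ← hh']
    exact Ideal.mem_map_of_mem h (singularIdeal_le_of_poly hy)
  refine ⟨D, inferInstance, algkD, inferInstance, g, h, ?_, ?_, ?_⟩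
  · ext x
    change h' (g' (gC x)) = φ x
    rw [hgh, hgC]
  · refine le_trans ?_ hsing
    refine le_trans ?_ hle
    change I.radical ≤ ((Smoothing.singularIdeal (MvPolynomial (Fin d) k) C).map ψC).radical
    rw [Ideal.radical_le_radical_iff, hIspan, Ideal.span_le]
    rintro _ ⟨j, rfl⟩
    change φ (a j) ∈ (((Smoothing.singularIdeal (MvPolynomial (Fin d) k) C).map ψC).radical : Ideal Λ)
    rw [← hgC]
    refine Ideal.le_radical (Ideal.mem_map_of_mem ψC ?_)
    haveI := hsmA j
    obtain ⟨h1, -⟩ := hC _ (SepB.smooth_away_a (d := d) n a j)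
    apply DelocWeak.mem_singularIdeal_of_forall
    intro Q _ hQ
    rw [← Algebra.basicOpen_subset_smoothLocus_iff_smooth] at h1
    exact h1 (show (⟨Q, inferInstance⟩ : PrimeSpectrum C) ∈ PrimeSpectrum.basicOpen _ from hQ)
  · exact fun hcon => hnot (hsing.trans hcon)

end Main

end Part2

end Groth.Agent.Lib.R2H4.SepMain
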