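import Mathlib
import Groth.Agent.Lib.R2H4SerreSupp
import Groth.Agent.Lib.Helper23UnitStalk
import Groth.Agent.Lib.R2H2PdSheaf
set_option backward.isDefEq.respectTransparency.types false

/-!
# Serre subcategories of `Coh(X)` of finite type and closed subsets (helper4, run 2)

Corollaries of `R2H4SerreSupp.main`: `main13990` (closed subsets ↔ Serre subcategories of finite
type) and `main13991` (irreducible closed subsets ↔ irreducible Serre subcategories).
-/

set_option autoImplicit false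
set_option linter.style.haveILetI false
universe u

open CategoryTheory CategoryTheory.Limits AlgebraicGeometry TopologicalSpace
open scoped ZeroObject

namespace Groth.Agent.Lib.R2H4SerreSupp2

open Groth.Agent.Lib.R2H4SerreSupp Groth.Agent.Lib.R2H2.DevA Groth.Agent.Lib.R2H2.DevE

variable {X : Scheme.{u}}

/-- `P` is a Serre class on coherent modules. -/
def IsSerre (P : ObjectProperty X.Modules) : Prop :=
  ∀ S : ShortComplex X.Modules, S.ShortExact → Coh.IsCoh S.X₁ → Coh.IsCoh S.X₂ →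
    Coh.IsCoh S.X₃ → (P S.X₂ ↔ P S.X₁ ∧ P S.X₃)

theorem isSerre_support (Z : Set X) : IsSerre (fun M : X.Modules => CohB1.support M ⊆ Z) := by
  intro S hS _ _ _
  change CohB1.support S.X₂ ⊆ _ ↔ CohB1.support S.X₁ ⊆ _ ∧ CohB1.support S.X₃ ⊆ _
  rw [support_eq_union S hS, Set.union_subset_iff]

/-- the structure sheaf of the reduced closed subscheme on `Z`, as an `O_X`-module -/
noncomputable def OZ (Z : Closeds X) : X.Modules :=
  (Scheme.Modules.pushforward (Scheme.IdealSheafData.vanishingIdeal Z).subschemeι).obj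
    (Coh.structureModule _)

theorem isCoh_OZ (Z : Closeds X) : Coh.IsCoh (OZ Z) := isCoh_pushO _

theorem support_OZ (Z : Closeds X) : CohB1.support (OZ Z) = (Z : Set X) := by
  have hr : Set.range ⇑(Scheme.IdealSheafData.vanishingIdeal Z).subschemeι = (Z : Set X) := by
    rw [Scheme.IdealSheafData.range_subschemeι, Scheme.IdealSheafData.coe_support_vanishingIdeal]
  apply subset_antisymm
  · exact (support_push_subset _ _).trans hr.le
  · intro x hx
    rw [← hr] at hx
    obtain ⟨z, rfl⟩ := hx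
    have := nontrivial_stalk_push (Scheme.IdealSheafData.vanishingIdeal Z).subschemeι
      (Scheme.IdealSheafData.vanishingIdeal Z).subschemeι.isEmbedding (Coh.structureModule _) z
      inferInstance
    exact not_subsingleton_iff_nontrivial.2 this

variable [IsNoetherian X]

/-- reformulation of `main` -/
theorem mem_of_support_subset (F E : X.Modules) (hF : Coh.IsCoh F) (hE : Coh.IsCoh E)
    (h : CohB1.support E ⊆ CohB1.support F) (Q : ObjectProperty X.Modules) (hQ : IsSerre Q)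
    (hQF : Q F) : Q E :=
  (main X F E hF hE).2 h Q hQF hQ

theorem main13990 (X : Scheme.{u}) [IsNoetherian X] :
    (∀ Z : TopologicalSpace.Closeds X,
      (∀ S : ShortComplex X.Modules, S.ShortExact → Coh.IsCoh S.X₁ → Coh.IsCoh S.X₂ →
          Coh.IsCoh S.X₃ → (CohB1.support S.X₂ ⊆ (↑Z : Set X) ↔
            CohB1.support S.X₁ ⊆ (↑Z : Set X) ∧ CohB1.support S.X₃ ⊆ (↑Z : Set X))) ∧
      ∃ F : X.Modules, Coh.IsCoh F ∧ CohB1.support F ⊆ (↑Z : Set X) ∧
        ∀ Q : ObjectProperty X.Modules, (∀ S : ShortComplex X.Modules, S.ShortExact → Coh.IsCoh S.X₁ → Coh.IsCoh S.X₂ →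
          Coh.IsCoh S.X₃ → (Q S.X₂ ↔ Q S.X₁ ∧ Q S.X₃)) → Q F →
          ∀ M : X.Modules, Coh.IsCoh M → CohB1.support M ⊆ (↑Z : Set X) → Q M) ∧
    (∀ P : ObjectProperty X.Modules, (∀ S : ShortComplex X.Modules, S.ShortExact → Coh.IsCoh S.X₁ → Coh.IsCoh S.X₂ →
          Coh.IsCoh S.X₃ → (P S.X₂ ↔ P S.X₁ ∧ P S.X₃)) →
      (∃ F : X.Modules, Coh.IsCoh F ∧ P F ∧
        ∀ Q : ObjectProperty X.Modules, (∀ S : ShortComplex X.Modules, S.ShortExact → Coh.IsCoh S.X₁ → Coh.IsCoh S.X₂ →
          Coh.IsCoh S.X₃ → (Q S.X₂ ↔ Q S.X₁ ∧ Q S.X₃)) → Q F →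
          ∀ M : X.Modules, Coh.IsCoh M → P M → Q M) →
      ∃! Z : TopologicalSpace.Closeds X, ∀ M : X.Modules, Coh.IsCoh M →
        (P M ↔ CohB1.support M ⊆ (↑Z : Set X))) := by
  refine ⟨fun Z => ⟨isSerre_support (Z : Set X), OZ Z, isCoh_OZ Z, (support_OZ Z).le, ?_⟩, ?_⟩
  · intro Q hQ hQF M hM hMZ
    exact mem_of_support_subset (OZ Z) M (isCoh_OZ Z) hM (by rw [support_OZ]; exact hMZ) Q hQ hQF
  · intro P hP ⟨F, hF, hPF, hgen⟩
    let Z : Closeds X := ⟨CohB1.support F, Groth.Agent.S0020.result X F hF.2⟩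
    have hZ : ∀ M : X.Modules, Coh.IsCoh M → (P M ↔ CohB1.support M ⊆ (Z : Set X)) := by
      intro M hM
      constructor
      · intro hPM
        exact hgen (fun M : X.Modules => CohB1.support M ⊆ CohB1.support F)
          (isSerre_support _) subset_rfl M hM hPM
      · intro hsub
        exact mem_of_support_subset F M hF hM hsub P hP hPF
    refine ⟨Z, hZ, fun Z' hZ' => ?_⟩
    apply le_antisymm
    · -- Z' ≤ Z
      have h1 : P (OZ Z') := (hZ' _ (isCoh_OZ Z')).2 (support_OZ Z').le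
      have h2 := (hZ _ (isCoh_OZ Z')).1 h1
      rw [support_OZ] at h2
      exact h2
    · exact (hZ' F hF).1 hPF

theorem main13991 (X : Scheme.{u}) [IsNoetherian X]
    (Z : TopologicalSpace.Closeds X) :
    IsPreirreducible (↑Z : Set X) ↔
    ∀ J₁ J₂ : ObjectProperty X.Modules, (∀ S : ShortComplex X.Modules, S.ShortExact → Coh.IsCoh S.X₁ → Coh.IsCoh S.X₂ →
        Coh.IsCoh S.X₃ → (J₁ S.X₂ ↔ J₁ S.X₁ ∧ J₁ S.X₃)) → (∀ S : ShortComplex X.Modules, S.ShortExact → Coh.IsCoh S.X₁ → Coh.IsCoh S.X₂ →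
        Coh.IsCoh S.X₃ → (J₂ S.X₂ ↔ J₂ S.X₁ ∧ J₂ S.X₃)) →
      (∀ M : X.Modules, Coh.IsCoh M → J₁ M → CohB1.support M ⊆ (↑Z : Set X)) →
      (∀ M : X.Modules, Coh.IsCoh M → J₂ M → CohB1.support M ⊆ (↑Z : Set X)) →
      (∀ Q : ObjectProperty X.Modules, (∀ S : ShortComplex X.Modules, S.ShortExact → Coh.IsCoh S.X₁ → Coh.IsCoh S.X₂ →
        Coh.IsCoh S.X₃ → (Q S.X₂ ↔ Q S.X₁ ∧ Q S.X₃)) →
        (∀ M : X.Modules, Coh.IsCoh M → J₁ M → Q M) → (∀ M : X.Modules, Coh.IsCoh M → J₂ M → Q M) →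
        ∀ M : X.Modules, Coh.IsCoh M → CohB1.support M ⊆ (↑Z : Set X) → Q M) →
      (∀ M : X.Modules, Coh.IsCoh M → CohB1.support M ⊆ (↑Z : Set X) → J₁ M) ∨
        (∀ M : X.Modules, Coh.IsCoh M → CohB1.support M ⊆ (↑Z : Set X) → J₂ M) := by
  constructor
  · intro hirr J₁ J₂ hJ₁ hJ₂ h₁Z h₂Z hgen
    by_cases hne : (Z : Set X).Nonempty
    swap
    · -- Z empty: the class of zero modules
      rw [Set.not_nonempty_iff_eq_empty] at hne
      -- some J contains a coherent module, or else the empty class is a counterexample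
      by_cases hex : ∃ M : X.Modules, Coh.IsCoh M ∧ (J₁ M ∨ J₂ M)
      · obtain ⟨M, hM, hJM⟩ := hex
        rcases hJM with hJM | hJM
        · left
          intro E hE hEZ
          refine mem_of_support_subset M E hM hE ?_ J₁ hJ₁ hJM
          rw [hne] at hEZ
          exact fun x hx => (hEZ hx).elim
        · right
          intro E hE hEZ
          refine mem_of_support_subset M E hM hE ?_ J₂ hJ₂ hJM
          rw [hne] at hEZ
          exact fun x hx => (hEZ hx).elim
      · exfalso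
        push_neg at hex
        have hz : IsZero (0 : X.Modules) := isZero_zero _
        have := hgen (fun _ => False) (fun S _ _ _ _ => by simp)
          (fun M hM h => (hex M hM).1 h) (fun M hM h => (hex M hM).2 h) 0
          (Groth.Agent.Lib.R2H2.KcohLoc.isCoh_of_isZero hz)
          (by rw [support_of_isZero hz]; exact Set.empty_subset _)
        exact this
    · have hZirr : IsIrreducible (Z : Set X) := ⟨hne, hirr⟩
      obtain ⟨ξ, hξ⟩ : ∃ ξ : X, closure {ξ} = (Z : Set X) := by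
        obtain ⟨ξ, hξ⟩ := QuasiSober.sober hZirr Z.isClosed
        exact ⟨ξ, hξ⟩
      have hξZ : ξ ∈ (Z : Set X) := by rw [← hξ]; exact subset_closure rfl
      have hex : ∃ M : X.Modules, Coh.IsCoh M ∧ (J₁ M ∨ J₂ M) ∧ ξ ∈ CohB1.support M := by
        by_contra hcon
        push_neg at hcon
        have hQ : IsSerre (fun M : X.Modules => ξ ∉ CohB1.support M) := by
          intro S hS _ _ _
          change ξ ∉ CohB1.support S.X₂ ↔ ξ ∉ CohB1.support S.X₁ ∧ ξ ∉ CohB1.support S.X₃
          rw [support_eq_union S hS, Set.mem_union, not_or]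
        have := hgen (fun M : X.Modules => ξ ∉ CohB1.support M) hQ
          (fun M hM h => hcon M hM (Or.inl h)) (fun M hM h => hcon M hM (Or.inr h)) (OZ Z)
          (isCoh_OZ Z) (support_OZ Z).le
        apply this
        rw [support_OZ]
        exact hξZ
      obtain ⟨M, hM, hJM, hξM⟩ := hex
      have hZM : (Z : Set X) ⊆ CohB1.support M := by
        rw [← hξ]
        exact (Groth.Agent.S0020.result X M hM.2).closure_subset_iff.2
          (Set.singleton_subset_iff.2 hξM)
      rcases hJM with hJM | hJM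
      · left
        intro E hE hEZ
        exact mem_of_support_subset M E hM hE (hEZ.trans hZM) J₁ hJ₁ hJM
      · right
        intro E hE hEZ
        exact mem_of_support_subset M E hM hE (hEZ.trans hZM) J₂ hJ₂ hJM
  · intro h
    rw [isPreirreducible_iff_isClosed_union_isClosed]
    intro z₁ z₂ hz₁ hz₂ hZz
    let Z₁ : Closeds X := ⟨(Z : Set X) ∩ z₁, Z.isClosed.inter hz₁⟩
    let Z₂ : Closeds X := ⟨(Z : Set X) ∩ z₂, Z.isClosed.inter hz₂⟩
    have hZ12 : (Z : Set X) ⊆ (Z₁ : Set X) ∪ (Z₂ : Set X) := by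
      intro x hx
      rcases hZz hx with h1 | h2
      · exact Or.inl ⟨hx, h1⟩
      · exact Or.inr ⟨hx, h2⟩
    have key := h (fun M : X.Modules => CohB1.support M ⊆ (Z₁ : Set X))
      (fun M : X.Modules => CohB1.support M ⊆ (Z₂ : Set X)) (isSerre_support _) (isSerre_support _)
      (fun M _ hM => hM.trans Set.inter_subset_left)
      (fun M _ hM => hM.trans Set.inter_subset_left) ?_
    · rcases key with h1 | h2
      · left
        have := h1 (OZ Z) (isCoh_OZ Z) (support_OZ Z).le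
        rw [support_OZ] at this
        exact this.trans Set.inter_subset_right
      · right
        have := h2 (OZ Z) (isCoh_OZ Z) (support_OZ Z).le
        rw [support_OZ] at this
        exact this.trans Set.inter_subset_right
    · intro Q hQ hQ₁ hQ₂ M hM hMZ
      have q₁ : Q (OZ Z₁) := hQ₁ _ (isCoh_OZ Z₁) (support_OZ Z₁).le
      have q₂ : Q (OZ Z₂) := hQ₂ _ (isCoh_OZ Z₂) (support_OZ Z₂).le
      let S : ShortComplex X.Modules :=
        ShortComplex.mk (biprod.inl : OZ Z₁ ⟶ OZ Z₁ ⊞ OZ Z₂) (biprod.snd : OZ Z₁ ⊞ OZ Z₂ ⟶ OZ Z₂)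
          (by simp)
      have hS : S.ShortExact := (ShortComplex.Splitting.ofHasBinaryBiproduct _ _).shortExact
      have cF : Coh.IsCoh (OZ Z₁ ⊞ OZ Z₂) :=
        Groth.Agent.Lib.R2H2.PdSheaf.isCoh_biprod _ _ (isCoh_OZ Z₁) (isCoh_OZ Z₂)
      have qF : Q (OZ Z₁ ⊞ OZ Z₂) := (hQ S hS (isCoh_OZ Z₁) cF (isCoh_OZ Z₂)).2 ⟨q₁, q₂⟩
      have sF : CohB1.support (OZ Z₁ ⊞ OZ Z₂) = (Z₁ : Set X) ∪ (Z₂ : Set X) := by
        have := support_eq_union S hS
        rw [show CohB1.support S.X₁ = (Z₁ : Set X) from support_OZ Z₁,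
          show CohB1.support S.X₃ = (Z₂ : Set X) from support_OZ Z₂] at this
        exact this
      exact mem_of_support_subset _ M cF hM (by rw [sF]; exact hMZ.trans hZ12) Q hQ qF

end Groth.Agent.Lib.R2H4SerreSupp2
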