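import Mathlib
import Groth.Agent.Lib.Helper6SmNorm
import Groth.Agent.Lib.Helper6EtNormal
import Groth.Agent.Lib.Helper12GeomRed

/-!
helper4 (run 2): ascent and descent of "reduced" and "normal domain" for local rings along a morphism
which is smooth at a point.
* `normal_of_smooth_of_isLocalization` : ring-level ascent of normality to a local ring of a smooth algebra;
* `ring_main` : for `A → B` smooth, `R = A_p`, `T = B_Q`, `ψ : R → T` local and compatible:
  `T` reduced iff `R` reduced, `T` normal domain iff `R` normal domain;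
* `main` : the scheme statement at a point of the smooth locus.
-/

set_option autoImplicit false
set_option linter.style.haveILetI false
set_option linter.unusedSectionVars false
universe u
open CategoryTheory CategoryTheory.Limits AlgebraicGeometry TensorProduct

namespace Groth.Agent.Lib.R2H4SmAtNormal

attribute [local instance] Algebra.TensorProduct.rightAlgebra in
/-- `B_Q` is a local ring of the smooth `R`-algebra `R ⊗[A] B` when `R` is a localization of `A`
mapping compatibly to `B_Q`. -/
theorem exists_ringEquiv_localization_tensor {A B R T : Type u} [CommRing A] [CommRing B]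
    [CommRing R] [CommRing T] [Algebra A B] [Algebra A R] (M : Submonoid A)
    [IsLocalization M R] [Algebra B T] (Q : Ideal B) [Q.IsPrime]
    [IsLocalization.AtPrime T Q] (ψ : R →+* T)
    (hψ : ψ.comp (algebraMap A R) = (algebraMap B T).comp (algebraMap A B)) :
    ∃ (Q' : Ideal (R ⊗[A] B)) (_ : Q'.IsPrime), Nonempty (Localization.AtPrime Q' ≃+* T) := by
  haveI hlocC : IsLocalization (Algebra.algebraMapSubmonoid B M) (R ⊗[A] B) :=
    (Algebra.isLocalization_iff_isPushout M R).2 inferInstance
  haveI hTloc : IsLocalRing T := IsLocalization.AtPrime.isLocalRing T Q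
  -- elements of `M` become units in `T`
  have hunit : ∀ m ∈ M, IsUnit (algebraMap B T (algebraMap A B m)) := by
    intro m hm
    have : algebraMap B T (algebraMap A B m) = ψ (algebraMap A R m) := by
      rw [← RingHom.comp_apply, ← hψ, RingHom.comp_apply]
    rw [this]
    exact (IsLocalization.map_units R ⟨m, hm⟩).map ψ
  have hle : Algebra.algebraMapSubmonoid B M ≤ Q.primeCompl := by
    rintro _ ⟨m, hm, rfl⟩
    intro hmQ
    have h1 := hunit m hm
    have h2 : algebraMap B T (algebraMap A B m) ∈ IsLocalRing.maximalIdeal T := by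
      rw [← IsLocalization.AtPrime.map_eq_maximalIdeal Q T]
      exact Ideal.mem_map_of_mem _ hmQ
    exact (IsLocalRing.mem_maximalIdeal _).mp h2 h1
  -- the map `R ⊗ B → T`
  let φ : R ⊗[A] B →+* T :=
    IsLocalization.lift (M := Algebra.algebraMapSubmonoid B M) (g := algebraMap B T)
      (fun y => by
        obtain ⟨_, ⟨m, hm, rfl⟩⟩ := y
        exact hunit m hm)
  letI : Algebra (R ⊗[A] B) T := φ.toAlgebra
  haveI : IsScalarTower B (R ⊗[A] B) T := IsScalarTower.of_algebraMap_eq (fun b => by
    show algebraMap B T b = φ (algebraMap B (R ⊗[A] B) b)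
    exact (IsLocalization.lift_eq _ b).symm)
  haveI h1 : IsLocalization
      (Submonoid.map (algebraMap B (R ⊗[A] B)) Q.primeCompl) T :=
    IsLocalization.isLocalization_of_submonoid_le (R ⊗[A] B) T
      (Algebra.algebraMapSubmonoid B M) Q.primeCompl hle
  let Q' : Ideal (R ⊗[A] B) := (IsLocalRing.maximalIdeal T).comap φ
  haveI : Q'.IsPrime := Ideal.comap_isPrime φ _
  haveI h2 : IsLocalization.AtPrime T Q' := by
    refine IsLocalization.of_le (Submonoid.map (algebraMap B (R ⊗[A] B)) Q.primeCompl)
      Q'.primeCompl ?_ ?_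
    · rintro _ ⟨b, hb, rfl⟩
      intro hmem
      have h3 : φ (algebraMap B (R ⊗[A] B) b) ∈ IsLocalRing.maximalIdeal T := hmem
      have h4 : φ (algebraMap B (R ⊗[A] B) b) = algebraMap B T b := IsLocalization.lift_eq _ b
      rw [h4] at h3
      exact (IsLocalRing.mem_maximalIdeal _).mp h3 (IsLocalization.map_units T ⟨b, hb⟩)
    · intro r hr
      have h3 : φ r ∉ IsLocalRing.maximalIdeal T := hr
      have h4 : IsUnit (φ r) := by
        by_contra hnu
        exact h3 ((IsLocalRing.mem_maximalIdeal _).mpr hnu)
      exact h4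
  exact ⟨Q', inferInstance,
    ⟨(IsLocalization.algEquiv Q'.primeCompl (Localization.AtPrime Q') T).toRingEquiv⟩⟩

attribute [local instance] Algebra.TensorProduct.rightAlgebra in
/-- ring-level ascent of normality to a local ring of a smooth algebra. -/
theorem normal_of_smooth_of_isLocalization {A B R T : Type u} [CommRing A] [CommRing B]
    [CommRing R] [CommRing T] [Algebra A B] [Algebra.Smooth A B] [Algebra A R] (M : Submonoid A)
    [IsLocalization M R] [IsDomain R] [IsIntegrallyClosed R] [Algebra B T] (Q : Ideal B) [Q.IsPrime]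
    [IsLocalization.AtPrime T Q] (ψ : R →+* T)
    (hψ : ψ.comp (algebraMap A R) = (algebraMap B T).comp (algebraMap A B)) :
    IsDomain T ∧ IsIntegrallyClosed T := by
  haveI : Algebra.Smooth R (R ⊗[A] B) := inferInstance
  obtain ⟨Q', hQ', ⟨e⟩⟩ := exists_ringEquiv_localization_tensor M Q ψ hψ
  obtain ⟨hd, hic⟩ :=
    Groth.Agent.Lib.Helper6.SmNorm.isDomain_and_isIntegrallyClosed_localization R (R ⊗[A] B) Q'
  haveI := hd
  haveI := hic
  exact ⟨e.symm.toMulEquiv.isDomain _, IsIntegrallyClosed.of_equiv e⟩

/-- ring-level: reducedness and normality of `B_Q` and `A_p` are equivalent for `A → B` smooth. -/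
theorem ring_main {A B R T : Type u} [CommRing A] [CommRing B] [CommRing R] [CommRing T]
    [Algebra A B] [Algebra.Smooth A B] [Algebra A R] (p : Ideal A) [p.IsPrime]
    [IsLocalization.AtPrime R p] [Algebra B T] (Q : Ideal B) [Q.IsPrime]
    [IsLocalization.AtPrime T Q] (ψ : R →+* T)
    (hψ : ψ.comp (algebraMap A R) = (algebraMap B T).comp (algebraMap A B))
    (hloc : IsLocalHom ψ) :
    (IsReduced T ↔ IsReduced R) ∧
      ((IsDomain T ∧ IsIntegrallyClosed T) ↔ (IsDomain R ∧ IsIntegrallyClosed R)) := by
  haveI : IsLocalRing R := IsLocalization.AtPrime.isLocalRing R p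
  haveI : IsLocalRing T := IsLocalization.AtPrime.isLocalRing T Q
  letI : Algebra R T := ψ.toAlgebra
  letI : Algebra A T := ((algebraMap B T).comp (algebraMap A B)).toAlgebra
  haveI : IsScalarTower A B T := IsScalarTower.of_algebraMap_eq (fun _ => rfl)
  haveI : IsScalarTower A R T := IsScalarTower.of_algebraMap_eq (fun a => by
    show (algebraMap B T) (algebraMap A B a) = ψ (algebraMap A R a)
    rw [← RingHom.comp_apply, ← RingHom.comp_apply, hψ])
  haveI : Module.Flat B T := IsLocalization.flat T Q.primeCompl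
  haveI : Module.Flat A T := Module.Flat.trans A B T
  haveI : Module.Flat R T :=
    (Module.flat_iff_of_isLocalization R p.primeCompl T).mpr inferInstance
  haveI : IsLocalHom (algebraMap R T) := hloc
  haveI : Module.FaithfullyFlat R T := Module.FaithfullyFlat.of_flat_of_isLocalHom
  have hinj : Function.Injective (algebraMap R T) := FaithfulSMul.algebraMap_injective R T
  refine ⟨⟨fun h => isReduced_of_injective (algebraMap R T) hinj, fun h =>
    Groth.Agent.Lib.Helper12.GeomRed.isReduced_of_smooth_of_isLocalization p.primeCompl Q ψ hψ⟩,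
    ⟨fun h => Groth.Agent.Lib.Helper6.EtNormal.normal_of_faithfullyFlat R T h, fun h => ?_⟩⟩
  obtain ⟨h1, h2⟩ := h
  exact normal_of_smooth_of_isLocalization p.primeCompl Q ψ hψ

/-- at a point of the smooth locus the local rings of source and target are simultaneously reduced,
and simultaneously normal domains. -/
theorem main {X Y : Scheme.{u}} (f : X ⟶ Y) [LocallyOfFinitePresentation f] (x : ↥X)
    (hx : x ∈ f.smoothLocus) :
    (IsReduced ↑(X.presheaf.stalk x) ↔ IsReduced ↑(Y.presheaf.stalk (f.base x))) ∧
    ((IsDomain ↑(X.presheaf.stalk x) ∧ IsIntegrallyClosed ↑(X.presheaf.stalk x)) ↔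
      (IsDomain ↑(Y.presheaf.stalk (f.base x)) ∧
        IsIntegrallyClosed ↑(Y.presheaf.stalk (f.base x)))) := by
  obtain ⟨U, hU, V, hV, hVU, hxV, hsm⟩ := exists_smooth_of_formallySmooth_stalk f x hx
  have hfxU : f x ∈ U := hVU hxV
  algebraize [(f.appLE U V hVU).hom]
  haveI : Algebra.Smooth Γ(Y, U) Γ(X, V) := hsm
  letI := X.presheaf.algebra_section_stalk (⟨x, hxV⟩ : V)
  haveI := hV.isLocalization_stalk ⟨x, hxV⟩
  letI := Y.presheaf.algebra_section_stalk (⟨f x, hfxU⟩ : U)
  haveI := hU.isLocalization_stalk ⟨f x, hfxU⟩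
  refine ring_main (A := Γ(Y, U)) (B := Γ(X, V)) (R := Y.presheaf.stalk (f x))
    (T := X.presheaf.stalk x) (hU.primeIdealOf ⟨f x, hfxU⟩).asIdeal
    (hV.primeIdealOf ⟨x, hxV⟩).asIdeal (f.stalkMap x).hom ?_ inferInstance
  ext y
  simp only [RingHom.comp_apply, RingHom.algebraMap_toAlgebra]
  rw [Scheme.Hom.germ_stalkMap_apply, Scheme.Hom.appLE]
  simp only [CommRingCat.hom_comp, RingHom.comp_apply]
  exact (TopCat.Presheaf.germ_res_apply _ _ _ _ _).symm

end Groth.Agent.Lib.R2H4SmAtNormal
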