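import Mathlib
import Groth.Agent.Lib.R2H4SmAtNormal
import Groth.Agent.Lib.H5bSynt
import Groth.Agent.Lib.Helper6SmSynt
import Groth.Agent.Lib.Helper6SmRk
import Groth.Agent.Lib.Helper28Normal
import Groth.Agent.Lib.Helper28RegDescent

/-!
helper4 (run 2): Serre's conditions `(S_n)` and `(R_n)` for the local rings of source and target at a
point where a morphism is smooth (`main`).  `(S_n)` is helper5's `stalk_iff_of_isSyntomicAt` applied to a
smooth chart; `(R_n)` descends by `hasRk_localization_comap_of_flat` and ascends through the smooth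
`A_p`-algebra `A_p ⊗_A B` (`Helper6SmRk.main`), of which `B_Q` is a local ring
(`R2H4SmAtNormal.exists_ringEquiv_localization_tensor`).
-/

set_option autoImplicit false
set_option linter.style.haveILetI false
set_option linter.unusedSectionVars false
universe u
open CategoryTheory CategoryTheory.Limits AlgebraicGeometry TensorProduct

namespace Groth.Agent.Lib.R2H4SmAtSkRk

open Groth.Agent.Lib.Helper28

/-- `(R_n)` is invariant under ring isomorphisms (copy of helper9's lemma, lighter imports). -/
theorem hasRk_of_ringEquiv {R S : Type u} [CommRing R] [CommRing S] (e : R ≃+* S) (n : ℕ)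
    (h : LocCoh.HasRk n R) : LocCoh.HasRk n S := by
  intro p hp hht
  haveI hp' : (p.comap (e : R →+* S)).IsPrime := Ideal.comap_isPrime _ _
  have hh : (p.comap (e : R →+* S)).height = p.height := RingEquiv.height_comap e p
  have hreg := h (p.comap (e : R →+* S)) (by rw [hh]; exact hht)
  have hmap : (p.comap (e : R →+* S)).primeCompl.map (e : R →* S) = p.primeCompl := by
    ext y
    constructor
    · rintro ⟨x, hx, rfl⟩
      exact hx
    · intro hy
      refine ⟨e.symm y, ?_, by simp⟩
      change e.symm y ∈ (p.comap (e : R →+* S)).primeCompl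
      rw [Ideal.mem_primeCompl_iff, Ideal.mem_comap]
      simpa using hy
  let f : Localization.AtPrime (p.comap (e : R →+* S)) ≃+* Localization.AtPrime p :=
    IsLocalization.ringEquivOfRingEquiv (Localization.AtPrime (p.comap (e : R →+* S)))
      (Localization.AtPrime p) e hmap
  exact IsRegularLocalRing.of_ringEquiv f

attribute [local instance] Algebra.TensorProduct.rightAlgebra in
/-- ring-level: `(R_n)` for `B_Q` and `A_{Q ∩ A}` are equivalent for `A → B` smooth, Noetherian. -/
theorem hasRk_localization_iff {A B : Type u} [CommRing A] [CommRing B] [IsNoetherianRing A]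
    [IsNoetherianRing B] [Algebra A B] [Algebra.Smooth A B] (n : ℕ) (Q : Ideal B) [Q.IsPrime] :
    LocCoh.HasRk n (Localization.AtPrime Q) ↔
      LocCoh.HasRk n (Localization.AtPrime (Q.comap (algebraMap A B))) := by
  constructor
  · intro h
    exact hasRk_localization_comap_of_flat n Q h
  · intro h
    let p : Ideal A := Q.comap (algebraMap A B)
    let R := Localization.AtPrime p
    let T := Localization.AtPrime Q
    let ψ : R →+* T := Localization.localRingHom p Q (algebraMap A B) rfl
    have hψ : ψ.comp (algebraMap A R) = (algebraMap B T).comp (algebraMap A B) := by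
      ext a
      exact Localization.localRingHom_to_map p Q (algebraMap A B) rfl a
    obtain ⟨Q', hQ', ⟨e⟩⟩ :=
      Groth.Agent.Lib.R2H4SmAtNormal.exists_ringEquiv_localization_tensor
        (A := A) (B := B) (R := R) (T := T) p.primeCompl Q ψ hψ
    haveI : IsNoetherianRing R := IsLocalization.isNoetherianRing p.primeCompl _ inferInstance
    haveI : Algebra.Smooth R (R ⊗[A] B) := inferInstance
    haveI : IsNoetherianRing (R ⊗[A] B) := Algebra.FiniteType.isNoetherianRing R (R ⊗[A] B)
    have h1 : LocCoh.HasRk n (R ⊗[A] B) :=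
      (Groth.Agent.Lib.Helper6.SmRk.main R (R ⊗[A] B) n).1 h
    have h2 : LocCoh.HasRk n (Localization.AtPrime Q') := hasRk_localization_atPrime Q' h1
    exact hasRk_of_ringEquiv e n h2

/-- at a point where `f` is smooth, `(S_n)` and `(R_n)` hold for the local ring of the source iff they
hold for the local ring of the target. -/
theorem main {X Y : Scheme.{u}} (f : X ⟶ Y) [IsLocallyNoetherian Y] [LocallyOfFiniteType f]
    (x : ↥X) (hx : ∃ U : X.Opens, x ∈ U ∧ Smooth (U.ι ≫ f)) (n : ℕ) :
    (LocCoh.HasSk n ↑(X.presheaf.stalk x) ↑(X.presheaf.stalk x) ↔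
        LocCoh.HasSk n ↑(Y.presheaf.stalk (f.base x)) ↑(Y.presheaf.stalk (f.base x))) ∧
      (LocCoh.HasRk n ↑(X.presheaf.stalk x) ↔ LocCoh.HasRk n ↑(Y.presheaf.stalk (f.base x))) := by
  haveI : IsLocallyNoetherian X := LocallyOfFiniteType.isLocallyNoetherian f
  obtain ⟨W, hxW, hW⟩ := hx
  have hxs : x ∈ f.smoothLocus := by
    have h1 : W.ι ⁻¹ᵁ f.smoothLocus = (W.ι ≫ f).smoothLocus :=
      Scheme.Hom.preimage_smoothLocus_eq W.ι f
    rw [(W.ι ≫ f).smoothLocus_eq_top] at h1
    have h2 : (⟨x, hxW⟩ : W) ∈ W.ι ⁻¹ᵁ f.smoothLocus := by rw [h1]; trivial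
    exact h2
  obtain ⟨U, hU, V, hV, hVU, hxV, hsm⟩ := exists_smooth_of_formallySmooth_stalk f x hxs
  letI := (f.appLE U V hVU).hom.toAlgebra
  haveI : Algebra.Smooth Γ(Y, U) Γ(X, V) := hsm
  haveI hNA : IsNoetherianRing Γ(Y, U) := IsLocallyNoetherian.component_noetherian ⟨U, hU⟩
  haveI hNB : IsNoetherianRing Γ(X, V) := IsLocallyNoetherian.component_noetherian ⟨V, hV⟩
  have hsyn : Synt.IsSyntomicAt f x :=
    ⟨⟨V, hV⟩, ⟨U, hU⟩, hVU, hxV, Groth.Agent.Lib.Helper6.SmSynt.isSyntomic_of_smooth _ _⟩
  refine ⟨(Groth.Agent.Lib.H5b.Synt.stalk_iff_of_isSyntomicAt f x hsyn).2 n, ?_⟩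
  obtain ⟨Q, hQ, ⟨e1⟩, ⟨e2⟩⟩ :=
    Groth.Agent.Lib.H5b.Synt.exists_chart f x ⟨V, hV⟩ ⟨U, hU⟩ hVU hxV
  constructor
  · intro h
    have h1 := hasRk_of_ringEquiv e1 n h
    have h2 := (hasRk_localization_iff (A := Γ(Y, U)) (B := Γ(X, V)) n Q).mp h1
    exact hasRk_of_ringEquiv e2.symm n h2
  · intro h
    have h1 := hasRk_of_ringEquiv e2 n h
    have h2 := (hasRk_localization_iff (A := Γ(Y, U)) (B := Γ(X, V)) n Q).mpr h1
    exact hasRk_of_ringEquiv e1.symm n h2

end Groth.Agent.Lib.R2H4SmAtSkRk
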