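import Mathlib
open CategoryTheory AlgebraicGeometry Limits MorphismProperty

namespace Groth.Agent.Lib.R2H4.SmallEtSheafA
universe w u
variable {X : Scheme.{u}}


/-- Zariski topology on the small étale site. -/
abbrev Jz (X : Scheme.{u}) : GrothendieckTopology X.Etale :=
  X.smallGrothendieckTopology (P := @IsOpenImmersion)

set_option backward.isDefEq.respectTransparency.types false in
lemma Jz_eq (X : Scheme.{u}) : Jz X = (X.smallPretopology @IsOpenImmersion @Etale).toGrothendieck :=
  Scheme.smallGrothendieckTopology_eq_toGrothendieck_smallPretopology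
    (P := @IsOpenImmersion) (Q := @Etale) X (fun _ _ f hf => by
      have : IsOpenImmersion f := hf
      infer_instance)

set_option backward.isDefEq.respectTransparency.types false in
lemma mem_Jz_iff (U : X.Etale) (R : Sieve U) :
    R ∈ Jz X U ↔ ∀ x : U.left, ∃ (Y : X.Etale) (f : Y ⟶ U) (y : Y.left),
      R f ∧ IsOpenImmersion f.left ∧ f.left y = x := by
  rw [Jz_eq]
  exact Scheme.mem_toGrothendieck_smallPretopology _ _

set_option backward.isDefEq.respectTransparency.types false in
lemma Je_eq (X : Scheme.{u}) : X.smallEtaleTopology = (X.smallPretopology @Etale @Etale).toGrothendieck :=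
  Scheme.smallGrothendieckTopology_eq_toGrothendieck_smallPretopology
    (P := @Etale) (Q := @Etale) X le_rfl

set_option backward.isDefEq.respectTransparency.types false in
lemma mem_Je_iff (U : X.Etale) (R : Sieve U) :
    R ∈ X.smallEtaleTopology U ↔ ∀ x : U.left, ∃ (Y : X.Etale) (f : Y ⟶ U) (y : Y.left),
      R f ∧ Etale f.left ∧ f.left y = x := by
  rw [Je_eq]
  exact Scheme.mem_toGrothendieck_smallPretopology _ _



/-- object of `X.Etale` from an étale map to `U.left`. -/
noncomputable abbrev ob (U : X.Etale) {W : Scheme.{u}} (g : W ⟶ U.left) [Etale g] : X.Etale :=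
  Scheme.Etale.mk (g ≫ U.hom)

set_option backward.isDefEq.respectTransparency.types false in
/-- the structure morphism `ob U g ⟶ U`. -/
noncomputable def hm (U : X.Etale) {W : Scheme.{u}} (g : W ⟶ U.left) [Etale g] : ob U g ⟶ U :=
  MorphismProperty.Over.homMk g rfl trivial

set_option backward.isDefEq.respectTransparency.types false in
@[simp] lemma hm_left (U : X.Etale) {W : Scheme.{u}} (g : W ⟶ U.left) [Etale g] :
    (hm U g).left = g := rfl

set_option backward.isDefEq.respectTransparency.types false in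
/-- lifting morphisms to `ob U g`. -/
noncomputable def lift (U : X.Etale) {W : Scheme.{u}} (g : W ⟶ U.left) [Etale g] {T : X.Etale}
    (h : T ⟶ U) (k : T.left ⟶ W) (hk : k ≫ g = h.left) : T ⟶ ob U g :=
  MorphismProperty.Over.homMk k (by
    have := CategoryTheory.Over.w h.hom
    simp only [ob]
    change k ≫ g ≫ U.hom = T.hom
    rw [← Category.assoc, hk]
    exact CategoryTheory.Over.w h.hom) trivial

set_option backward.isDefEq.respectTransparency.types false in
@[simp] lemma lift_left (U : X.Etale) {W : Scheme.{u}} (g : W ⟶ U.left) [Etale g] {T : X.Etale}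
    (h : T ⟶ U) (k : T.left ⟶ W) (hk : k ≫ g = h.left) : (lift U g h k hk).left = k := rfl

set_option backward.isDefEq.respectTransparency.types false in
@[simp] lemma lift_hm (U : X.Etale) {W : Scheme.{u}} (g : W ⟶ U.left) [Etale g] {T : X.Etale}
    (h : T ⟶ U) (k : T.left ⟶ W) (hk : k ≫ g = h.left) : lift U g h k hk ≫ hm U g = h := by
  apply MorphismProperty.Over.Hom.ext
  change (lift U g h k hk).left ≫ (hm U g).left = h.left
  exact hk



set_option backward.isDefEq.respectTransparency.types false in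
lemma hom_ext_ob (U : X.Etale) {W : Scheme.{u}} (g : W ⟶ U.left) [Etale g] [Mono g] {T : X.Etale}
    (α β : T ⟶ ob U g) (h : α ≫ hm U g = β ≫ hm U g) : α = β := by
  apply MorphismProperty.Over.Hom.ext
  have h' : (α ≫ hm U g).left = (β ≫ hm U g).left := by rw [h]
  change α.left ≫ (hm U g).left = β.left ≫ (hm U g).left at h'
  rw [hm_left] at h'
  exact (cancel_mono g).1 h'

set_option backward.isDefEq.respectTransparency.types false in
lemma comp_left' {A B C : X.Etale} (f : A ⟶ B) (g : B ⟶ C) : (f ≫ g).left = f.left ≫ g.left := rfl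

lemma exists_affineOpen_mem_le (Y : Scheme.{u}) (V : Y.Opens) (x : Y) (hx : x ∈ V) :
    ∃ a : Y.affineOpens, x ∈ a.1 ∧ a.1 ≤ V := by
  obtain ⟨_, ⟨a, ha, rfl⟩, hxa, hle⟩ := Y.isBasis_affineOpens.exists_subset_of_mem_open
    (show x ∈ (V : Set Y) from hx) V.2
  exact ⟨⟨a, ha⟩, hxa, hle⟩

/-- the affine Zariski 1-hypercover of an object of the small étale site. -/
noncomputable def affHyp (Z : X.Etale) : (Jz X).OneHypercover Z where
  I₀ := Z.left.affineOpens
  X a := ob Z a.1.ι
  f a := hm Z a.1.ι
  I₁ a b := {c : Z.left.affineOpens // c.1 ≤ a.1 ⊓ b.1}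
  Y a b c := ob Z c.1.1.ι
  p₁ a b c := lift Z a.1.ι (hm Z c.1.1.ι) (Z.left.homOfLE (le_trans c.2 inf_le_left)) (Scheme.homOfLE_ι _ _)
  p₂ a b c := lift Z b.1.ι (hm Z c.1.1.ι) (Z.left.homOfLE (le_trans c.2 inf_le_right)) (Scheme.homOfLE_ι _ _)
  w a b c := by rw [lift_hm, lift_hm]
  mem₀ := by
    rw [mem_Jz_iff]
    intro x
    obtain ⟨a, hxa, -⟩ := exists_affineOpen_mem_le Z.left ⊤ x trivial
    refine ⟨ob Z (Scheme.Opens.ι a.1), hm Z _, ⟨x, hxa⟩, ?_, ?_, rfl⟩
    · exact ⟨_, 𝟙 _, hm Z _, ⟨a⟩, by simp⟩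
    · exact inferInstanceAs (IsOpenImmersion (Scheme.Opens.ι a.1))
  mem₁ a b W p₁ p₂ hw := by
    rw [mem_Jz_iff]
    intro x
    obtain ⟨q, hq⟩ : ∃ q : W ⟶ Z, q = p₁ ≫ hm Z a.1.ι := ⟨_, rfl⟩
    have hza : q.left x ∈ a.1 := by
      rw [hq, comp_left', hm_left]
      exact ((p₁.left x)).2
    have hzb : q.left x ∈ b.1 := by
      rw [hq, hw, comp_left', hm_left]
      exact ((p₂.left x)).2
    obtain ⟨c, hxc, hcab⟩ := exists_affineOpen_mem_le Z.left (a.1 ⊓ b.1) (q.left x) ⟨hza, hzb⟩
    let O : W.left.Opens := q.left ⁻¹ᵁ c.1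
    have hxO : x ∈ O := hxc
    refine ⟨ob W O.ι, hm W O.ι, ⟨x, hxO⟩, ?_, ?_, rfl⟩
    · refine ⟨⟨c, hcab⟩, lift Z c.1.ι (hm W O.ι ≫ q) (q.left.resLE c.1 O le_rfl) ?_, ?_, ?_⟩
      · rw [comp_left', hm_left]; exact Scheme.Hom.resLE_comp_ι _ _
      · apply hom_ext_ob
        rw [Category.assoc, Category.assoc, lift_hm, lift_hm, hq]
      · apply hom_ext_ob
        rw [Category.assoc, Category.assoc, lift_hm, lift_hm, hq, hw]
    · exact inferInstanceAs (IsOpenImmersion (Scheme.Opens.ι O))



set_option backward.isDefEq.respectTransparency.types false in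
/-- the projection from the fibre product object to `V`. -/
noncomputable def pbSnd {U V Z : X.Etale} (f : V ⟶ U) (g : Z ⟶ U) :
    ob Z (pullback.fst g.left f.left) ⟶ V :=
  MorphismProperty.Over.homMk (pullback.snd g.left f.left) (by
    change pullback.snd g.left f.left ≫ V.hom = pullback.fst g.left f.left ≫ Z.hom
    have hV : f.left ≫ U.hom = V.hom := CategoryTheory.Over.w f.hom
    have hZ : g.left ≫ U.hom = Z.hom := CategoryTheory.Over.w g.hom
    rw [← hV, ← hZ]
    exact (pullback.condition_assoc _).symm) trivial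

set_option backward.isDefEq.respectTransparency.types false in
lemma pbSnd_comp {U V Z : X.Etale} (f : V ⟶ U) (g : Z ⟶ U) :
    pbSnd f g ≫ f = hm Z (pullback.fst g.left f.left) ≫ g := by
  apply MorphismProperty.Over.Hom.ext
  change pullback.snd g.left f.left ≫ f.left = pullback.fst g.left f.left ≫ g.left
  exact pullback.condition.symm

set_option backward.isDefEq.respectTransparency.types false in
lemma pullback_generate_singleton {U V Z : X.Etale} (f : V ⟶ U) (g : Z ⟶ U) :
    (Sieve.generate (Presieve.singleton f)).pullback g =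
      Sieve.generate (Presieve.singleton (hm Z (pullback.fst g.left f.left))) := by
  ext T h
  constructor
  · rintro ⟨Y, k, _, ⟨⟩, hk⟩
    have hk' : k.left ≫ f.left = h.left ≫ g.left := by
      have := congrArg (fun φ => φ.left) hk
      exact this
    refine ⟨_, lift Z (pullback.fst g.left f.left) h
      (pullback.lift h.left k.left hk'.symm) (pullback.lift_fst _ _ _), hm Z _, ⟨⟩, lift_hm _ _ _ _ _⟩
  · rintro ⟨Y, k, _, ⟨⟩, hk⟩
    refine ⟨V, k ≫ pbSnd f g, f, ⟨⟩, ?_⟩
    rw [Category.assoc, pbSnd_comp, ← Category.assoc, hk]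

variable (F : X.Etaleᵒᵖ ⥤ Type w)

set_option backward.isDefEq.respectTransparency.types false in
lemma isSheafFor_pullback_singleton_of_affine
    (hs : ∀ (U V : X.Etale) [IsAffine U.left] [IsAffine V.left] (f : V ⟶ U) [Surjective f.left],
          Presieve.IsSheafFor F (Presieve.singleton f))
    {U V Z : X.Etale} [IsAffine U.left] [IsAffine V.left] [IsAffine Z.left] (f : V ⟶ U)
    [Surjective f.left] (g : Z ⟶ U) :
    Presieve.IsSheafFor F ((Sieve.generate (Presieve.singleton f)).pullback g).arrows := by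
  rw [pullback_generate_singleton, ← Presieve.isSheafFor_iff_generate]
  haveI : IsAffine (ob Z (pullback.fst g.left f.left)).left :=
    inferInstanceAs (IsAffine (pullback g.left f.left))
  haveI : Surjective (hm Z (pullback.fst g.left f.left)).left := by
    rw [hm_left]
    exact MorphismProperty.pullback_fst (P := @Surjective) _ _ inferInstance
  exact hs _ _ _

set_option backward.isDefEq.respectTransparency.types false in
lemma mem_finest_singleton (hz : Presieve.IsSheaf (Jz X) F)
    (hs : ∀ (U V : X.Etale) [IsAffine U.left] [IsAffine V.left] (f : V ⟶ U) [Surjective f.left],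
          Presieve.IsSheafFor F (Presieve.singleton f))
    {U V : X.Etale} [IsAffine U.left] [IsAffine V.left] (f : V ⟶ U) [Surjective f.left] :
    Sieve.generate (Presieve.singleton f) ∈ Sheaf.finestTopologySingle F U := by
  intro Z g
  refine (affHyp Z).isSheafFor_sieve_of_pullback hz (fun a => ?_) (fun a b c => ?_)
  · rw [← Sieve.pullback_comp]
    haveI : IsAffine ((affHyp Z).X a).left := a.2
    exact isSheafFor_pullback_singleton_of_affine F hs f _
  · rw [← Sieve.pullback_comp]
    haveI : IsAffine ((affHyp Z).Y c).left := c.1.2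
    exact (isSheafFor_pullback_singleton_of_affine F hs f _).isSeparatedFor



set_option backward.isDefEq.respectTransparency.types false in
lemma exists_lift_of_left {T Y U : X.Etale} (h : T ⟶ U) (f : Y ⟶ U) (k : T.left ⟶ Y.left)
    (hk : k ≫ f.left = h.left) : ∃ φ : T ⟶ Y, φ ≫ f = h := by
  have hY : f.left ≫ U.hom = Y.hom := CategoryTheory.Over.w f.hom
  have hT : h.left ≫ U.hom = T.hom := CategoryTheory.Over.w h.hom
  refine ⟨MorphismProperty.Over.homMk k (by rw [← hY, ← Category.assoc, hk, hT]) trivial, ?_⟩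
  apply MorphismProperty.Over.Hom.ext
  exact hk

set_option backward.isDefEq.respectTransparency.types false in
lemma mem_pullback_of_factor (U : X.Etale) {W : Scheme.{u}} (q : W ⟶ U.left) [Etale q] (S : Sieve U)
    {A : Scheme.{u}} (i : A ⟶ W) [IsOpenImmersion i] (Y : X.Etale) (f : Y ⟶ U) (hf : S f)
    (j : A ⟶ Y.left) (hj : j ≫ f.left = i ≫ q) (z : A) :
    ∃ (Y' : X.Etale) (f' : Y' ⟶ ob U q) (y : Y'.left),
      (S.pullback (hm U q)) f' ∧ IsOpenImmersion f'.left ∧ f'.left y = i z := by
  obtain ⟨i', rfl⟩ : ∃ i' : A ⟶ (ob U q).left, i' = i := ⟨i, rfl⟩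
  haveI hoi : IsOpenImmersion i' := ‹_›
  haveI : Etale i' := inferInstance
  refine ⟨ob (ob U q) i', hm _ _, z, ?_, by rw [hm_left]; exact hoi, ?_⟩
  · change S.arrows (hm _ _ ≫ hm U q)
    obtain ⟨φ, hφ⟩ := exists_lift_of_left (hm (ob U q) i' ≫ hm U q) f j (by
      rw [comp_left', hm_left, hm_left]; exact hj)
    rw [← hφ]
    exact S.downward_closed hf φ
  · rw [hm_left]; rfl

set_option backward.isDefEq.respectTransparency.types false in
lemma exists_affine_refinement (U : X.Etale) [CompactSpace U.left]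
    (S : Sieve U) (hS : S ∈ X.smallEtaleTopology U) :
    ∃ (W : Scheme.{u}) (q : W ⟶ U.left) (_ : Etale q), IsAffine W ∧ Surjective q ∧
      (S.pullback (hm U q)) ∈ Jz X (ob U q) := by
  rw [mem_Je_iff] at hS
  choose Y f y hSf hfet hfy using hS
  have hex : ∀ x : U.left, ∃ a : (Y x).left.affineOpens, y x ∈ a.1 := fun x => by
    obtain ⟨a, ha, -⟩ := exists_affineOpen_mem_le (Y x).left ⊤ (y x) trivial
    exact ⟨a, ha⟩
  choose a ha using hex
  let g : ∀ x : U.left, ((a x).1 : Scheme.{u}) ⟶ U.left := fun x => (a x).1.ι ≫ (f x).left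
  have hget : ∀ x, Etale (g x) := fun x => inferInstance
  have hopen : ∀ x, IsOpen (Set.range (g x)) := fun x => (g x).isOpenMap.isOpen_range
  have hmem : ∀ x, x ∈ Set.range (g x) := fun x => ⟨⟨y x, ha x⟩, by
    change (f x).left ((a x).1.ι ⟨y x, ha x⟩) = x
    exact hfy x⟩
  obtain ⟨t, ht⟩ := isCompact_univ.elim_finite_subcover (fun x => Set.range (g x)) hopen
    (fun x _ => Set.mem_iUnion.2 ⟨x, hmem x⟩)
  let W : Scheme.{u} := ∐ (fun k : t => ((a k.1).1 : Scheme.{u}))
  let q : W ⟶ U.left := Sigma.desc (fun k : t => g k.1)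
  have hq : Etale q := IsZariskiLocalAtSource.sigmaDesc (P := @Etale) (fun k => hget k.1)
  have hWaff : IsAffine W := by
    haveI : ∀ k : t, IsAffine ((a k.1).1 : Scheme.{u}) := fun k => (a k.1).2
    infer_instance
  refine ⟨W, q, hq, hWaff, ⟨fun u => ?_⟩, ?_⟩
  · have := ht (Set.mem_univ u)
    simp only [Set.mem_iUnion] at this
    obtain ⟨k, hk, z, hz⟩ := this
    refine ⟨Sigma.ι (fun k : t => ((a k.1).1 : Scheme.{u})) ⟨k, hk⟩ z, ?_⟩
    rw [← Scheme.Hom.comp_apply, Sigma.ι_desc]
    exact hz
  · rw [mem_Jz_iff]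
    intro w
    obtain ⟨k, z, hz⟩ : ∃ (k : t) (z : ((a k.1).1 : Scheme.{u})),
        Sigma.ι (fun k : t => ((a k.1).1 : Scheme.{u})) k z = w :=
      (sigmaOpenCover (fun k : t => ((a k.1).1 : Scheme.{u}))).exists_eq w
    rw [← hz]
    exact mem_pullback_of_factor U q S (Sigma.ι (fun k : t => ((a k.1).1 : Scheme.{u})) k) (Y k.1)
      (f k.1) (hSf k.1) (a k.1).1.ι (by
        change g k.1 = _
        exact (Sigma.ι_desc (fun k : t => g k.1) k).symm) z


section
variable (F : X.Etaleᵒᵖ ⥤ Type w)

lemma Jz_le_finest (hz : Presieve.IsSheaf (Jz X) F) : Jz X ≤ Sheaf.finestTopologySingle F := by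
  intro U S hS Y f
  exact hz _ ((Jz X).pullback_stable f hS)

set_option backward.isDefEq.respectTransparency.types false in
lemma mem_finest_of_affine (hz : Presieve.IsSheaf (Jz X) F)
    (hs : ∀ (U V : X.Etale) [IsAffine U.left] [IsAffine V.left] (f : V ⟶ U) [Surjective f.left],
          Presieve.IsSheafFor F (Presieve.singleton f))
    (U : X.Etale) [IsAffine U.left] (S : Sieve U) (hS : S ∈ X.smallEtaleTopology U) :
    S ∈ Sheaf.finestTopologySingle F U := by
  obtain ⟨W, q, _, hW, hq, hmem⟩ := exists_affine_refinement U S hS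
  haveI : IsAffine (ob U q).left := hW
  haveI : Surjective (hm U q).left := by rw [hm_left]; exact hq
  have h1 : Sieve.generate (Presieve.singleton (hm U q)) ∈ Sheaf.finestTopologySingle F U :=
    mem_finest_singleton F hz hs (hm U q)
  refine (Sheaf.finestTopologySingle F).transitive h1 S ?_
  rintro Y h ⟨Y', k, _, ⟨⟩, rfl⟩
  rw [Sieve.pullback_comp]
  apply (Sheaf.finestTopologySingle F).pullback_stable
  exact Jz_le_finest F hz _ hmem

set_option backward.isDefEq.respectTransparency.types false in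
lemma mem_finest (hz : Presieve.IsSheaf (Jz X) F)
    (hs : ∀ (U V : X.Etale) [IsAffine U.left] [IsAffine V.left] (f : V ⟶ U) [Surjective f.left],
          Presieve.IsSheafFor F (Presieve.singleton f))
    (U : X.Etale) (S : Sieve U) (hS : S ∈ X.smallEtaleTopology U) :
    S ∈ Sheaf.finestTopologySingle F U := by
  refine (Sheaf.finestTopologySingle F).transitive (Jz_le_finest F hz _ (affHyp U).mem₀) S ?_
  rintro Y h ⟨Y', k, _, ⟨a⟩, rfl⟩
  rw [Sieve.pullback_comp]
  apply (Sheaf.finestTopologySingle F).pullback_stable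
  haveI : IsAffine ((affHyp U).X a).left := a.2
  exact mem_finest_of_affine F hz hs _ _ ((X.smallEtaleTopology).pullback_stable _ hS)

lemma Jz_le_Je : Jz X ≤ X.smallEtaleTopology := by
  intro U S hS
  rw [mem_Jz_iff] at hS
  rw [mem_Je_iff]
  intro x
  obtain ⟨Y, f, y, h1, h2, h3⟩ := hS x
  exact ⟨Y, f, y, h1, inferInstance, h3⟩

set_option backward.isDefEq.respectTransparency.types false in
theorem isSheaf_iff :
    Presieve.IsSheaf X.smallEtaleTopology F ↔
      Presieve.IsSheaf (X.smallGrothendieckTopology (P := @IsOpenImmersion)) F ∧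
        ∀ (U V : X.Etale) [IsAffine U.left] [IsAffine V.left] (f : V ⟶ U) [Surjective f.left],
          Presieve.IsSheafFor F (Presieve.singleton f) := by
  constructor
  · intro hF
    refine ⟨Presieve.isSheaf_of_le _ Jz_le_Je hF, ?_⟩
    intro U V _ _ f _
    rw [Presieve.isSheafFor_iff_generate]
    apply hF
    rw [mem_Je_iff]
    intro x
    obtain ⟨y, hy⟩ := f.left.surjective x
    exact ⟨V, f, y, Sieve.le_generate (Presieve.singleton f) V f (Presieve.singleton.mk), inferInstance, hy⟩
  · rintro ⟨hz, hs⟩ U S hS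
    have := mem_finest F hz hs U S hS U (𝟙 U)
    rwa [Sieve.pullback_id] at this


end

end Groth.Agent.Lib.R2H4.SmallEtSheafA
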