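import Mathlib
import Groth.Agent.Lib.R2H4RelGCIJac

/-!
# Local closed embeddings into standard smooth algebras (helper4, round 2)

For a finite type algebra `B` over `A` and a prime `q` with `dim_κ(q) Ω_{B/A} ⊗ κ(q) = r`, a principal
open neighbourhood of `q` is a quotient of a standard smooth `A`-algebra of relative dimension `r`.
-/

set_option autoImplicit false
set_option linter.style.haveILetI false
universe u

namespace Groth.Agent.Lib.R2H4.StdSmoothEmb

open TensorProduct KaehlerDifferential Algebra.Extension

theorem exists_relations_of_finrank {A B : Type u} [CommRing A] [CommRing B] [Algebra A B] {n : ℕ}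
    (G : Algebra.Generators A B (Fin n)) (K : Type u) [Field K] [Algebra B K] (r : ℕ)
    (hr : Module.finrank K (K ⊗[B] Ω[B⁄A]) = r) :
    ∃ c : ℕ, c + r = n ∧ ∃ F : Fin c → G.ker,
      ∀ v : Fin c → K, (∀ i, ∑ j, algebraMap B K
        (algebraMap G.Ring B (MvPolynomial.pderiv i (F j).1)) * v j = 0) → v = 0 := by
  classical
  let E := G.toExtension
  let d : E.Cotangent →ₗ[B] E.CotangentSpace := E.cotangentComplex
  let π : E.CotangentSpace →ₗ[B] Ω[B⁄A] := E.toKaehler
  have hex : Function.Exact d π := Algebra.Extension.exact_cotangentComplex_toKaehler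
  have hsurj : Function.Surjective π := E.toKaehler_surjective
  let dK : K ⊗[B] E.Cotangent →ₗ[K] K ⊗[B] E.CotangentSpace := d.baseChange K
  let πK : K ⊗[B] E.CotangentSpace →ₗ[K] K ⊗[B] Ω[B⁄A] := π.baseChange K
  have hexK : Function.Exact dK πK := by
    have := lTensor_exact K hex hsurj
    exact this
  have hsurjK : Function.Surjective πK := LinearMap.lTensor_surjective K hsurj
  let bK : Module.Basis (Fin n) K (K ⊗[B] E.CotangentSpace) := G.cotangentSpaceBasis.baseChange K
  have hfin : Module.finrank K (K ⊗[B] E.CotangentSpace) = n := by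
    rw [Module.finrank_eq_card_basis bK]; simp
  haveI : Module.Finite K (K ⊗[B] E.CotangentSpace) := Module.Finite.of_basis bK
  have hker : Module.finrank K (LinearMap.ker πK) + r = n := by
    have h1 := LinearMap.finrank_range_add_finrank_ker πK
    rw [LinearMap.range_eq_top.mpr hsurjK, finrank_top, hr, hfin] at h1
    omega
  let u : G.ker → K ⊗[B] E.CotangentSpace := fun F => dK (1 ⊗ₜ Cotangent.mk F)
  have hspan : Submodule.span K (Set.range u) = LinearMap.ker πK := by
    rw [hexK.linearMap_ker_eq]
    apply le_antisymm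
    · rw [Submodule.span_le]
      rintro _ ⟨F, rfl⟩
      exact ⟨_, rfl⟩
    · rintro _ ⟨z, rfl⟩
      induction z with
      | zero => simp
      | add x y hx hy => rw [map_add]; exact Submodule.add_mem _ hx hy
      | tmul x y =>
        obtain ⟨F, rfl⟩ := Cotangent.mk_surjective y
        have h1 : x ⊗ₜ[B] (Cotangent.mk F : E.Cotangent) = x • ((1 : K) ⊗ₜ[B] Cotangent.mk F) := by
          rw [TensorProduct.smul_tmul', smul_eq_mul, mul_one]
        rw [h1, map_smul]
        exact Submodule.smul_mem _ _ (Submodule.subset_span ⟨F, rfl⟩)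
  obtain ⟨ι, a, ha, hsp, hli⟩ := exists_linearIndependent' K u
  haveI : Finite ι := hli.finite
  haveI : Fintype ι := Fintype.ofFinite ι
  have hcard : Fintype.card ι = Module.finrank K (LinearMap.ker πK) := by
    rw [← hspan, ← hsp]
    exact (finrank_span_eq_card hli).symm
  let e : Fin (Fintype.card ι) ≃ ι := (Fintype.equivFin ι).symm
  refine ⟨Fintype.card ι, by omega, fun j => a (e j), fun v hv => ?_⟩
  have hli' : LinearIndependent K (u ∘ a ∘ e) := hli.comp e e.injective
  rw [Fintype.linearIndependent_iff] at hli'
  refine funext fun j => hli' v ?_ j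
  apply bK.repr.injective
  ext i
  have hcoord : ∀ F : G.ker, bK.repr (u F) i =
      algebraMap B K (algebraMap G.Ring B (MvPolynomial.pderiv i F.1)) := by
    intro F
    change bK.repr (d.baseChange K (1 ⊗ₜ Cotangent.mk F)) i = _
    rw [LinearMap.baseChange_tmul]
    change bK.repr (1 ⊗ₜ E.cotangentComplex (Cotangent.mk F)) i = _
    rw [Algebra.Extension.cotangentComplex_mk, Module.Basis.baseChange_repr_tmul,
      Algebra.Generators.cotangentSpaceBasis_repr_one_tmul, Algebra.smul_def, mul_one,
      Algebra.Generators.algebraMap_apply]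
  simp only [map_sum, map_smul, Finsupp.coe_finsetSum, Finsupp.coe_smul, Finset.sum_apply,
    Pi.smul_apply, smul_eq_mul, Function.comp_apply, hcoord, map_zero, Finsupp.coe_zero,
    Pi.zero_apply]
  rw [← hv i]
  exact Finset.sum_congr rfl fun j _ => mul_comm _ _

open Groth.Agent.Lib.R2H4.RelGCIJac

theorem main (A B : Type u) [CommRing A] [CommRing B] [Algebra A B] [Algebra.FiniteType A B]
    (q : Ideal B) [q.IsPrime] (r : ℕ)
    (hr : Module.finrank q.ResidueField (q.ResidueField ⊗[B] Ω[B⁄A]) = r) :
    ∃ g : B, g ∉ q ∧ ∃ (D : Type u) (_ : CommRing D) (_ : Algebra A D),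
      Algebra.IsStandardSmoothOfRelativeDimension r A D ∧
        ∃ φ : D →ₐ[A] Localization.Away g, Function.Surjective φ := by
  classical
  obtain ⟨n, ⟨G⟩⟩ := Algebra.FiniteType.iff_exists_generators.mp ‹Algebra.FiniteType A B›
  obtain ⟨c, hcr, F, hF⟩ := exists_relations_of_finrank G q.ResidueField r hr
  let F' : Fin c → MvPolynomial (Fin n) A := fun j => (F j).1
  let ψ : MvPolynomial (Fin n) A →+* q.ResidueField :=
    (algebraMap B q.ResidueField).comp (algebraMap G.Ring B)
  let M : Matrix (Fin n) (Fin c) q.ResidueField := fun i j => ψ (MvPolynomial.pderiv i (F' j))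
  obtain ⟨I, hI⟩ := exists_minor_ne_zero M (fun v hv => hF v (fun i => by
    have h1 := congrFun hv i
    simpa [Matrix.mulVec, dotProduct, M, ψ, F'] using h1))
  let h : MvPolynomial (Fin n) A :=
    Matrix.det (Matrix.of fun j i => MvPolynomial.pderiv (I i) (F' j))
  have hψh : ψ h ≠ 0 := by
    have h1 : M.submatrix I id = (ψ.mapMatrix
        (Matrix.of fun j i => MvPolynomial.pderiv (I i) (F' j))).transpose := by
      ext i j
      rfl
    rw [h1, Matrix.det_transpose, ← RingHom.map_det] at hI
    exact hI
  let gD : MvPolynomial (Fin n) A ⧸ Ideal.span (Set.range F') := Ideal.Quotient.mk _ h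
  let P₀ : Algebra.PreSubmersivePresentation A
      (MvPolynomial (Fin n) A ⧸ Ideal.span (Set.range F')) (Fin n) (Fin c) :=
    Algebra.PreSubmersivePresentation.naive (v := F') I I.injective
  have hjac : P₀.jacobian = gD := by
    rw [Algebra.PreSubmersivePresentation.jacobian_eq_jacobiMatrix_det]
    have h1 : P₀.jacobiMatrix =
        (Matrix.of fun j i => MvPolynomial.pderiv (I i) (F' j)).transpose := by
      refine Matrix.ext fun i j => ?_
      exact Algebra.PreSubmersivePresentation.jacobiMatrix_naive (R := A) (v := F') I I.injective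
        _ _ i j
    rw [h1, Matrix.det_transpose]
    rfl
  let Q := Algebra.PreSubmersivePresentation.localizationAway (Localization.Away gD) gD
  have hunit : IsUnit (Q.comp P₀).jacobian := by
    rw [Algebra.PreSubmersivePresentation.comp_jacobian_eq_jacobian_smul_jacobian,
      Algebra.PreSubmersivePresentation.localizationAway_jacobian, hjac, Algebra.smul_def]
    exact (IsLocalization.Away.algebraMap_isUnit gD).mul (IsLocalization.Away.algebraMap_isUnit gD)
  let SP : Algebra.SubmersivePresentation A (Localization.Away gD) _ _ := ⟨Q.comp P₀, hunit⟩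
  have hdim : SP.dimension = r := by
    change Nat.card (Unit ⊕ Fin n) - Nat.card (Unit ⊕ Fin c) = r
    simp only [Nat.card_eq_fintype_card, Fintype.card_sum, Fintype.card_unit, Fintype.card_fin]
    omega
  have hstd : Algebra.IsStandardSmoothOfRelativeDimension r A (Localization.Away gD) :=
    SP.isStandardSmoothOfRelativeDimension hdim
  let φ₀ : (MvPolynomial (Fin n) A ⧸ Ideal.span (Set.range F')) →ₐ[A] B :=
    Ideal.Quotient.liftₐ (Ideal.span (Set.range F')) (IsScalarTower.toAlgHom A G.Ring B) (by
      intro x hx
      have h1 : Ideal.span (Set.range F') ≤ RingHom.ker (algebraMap G.Ring B) := by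
        rw [Ideal.span_le]
        rintro _ ⟨j, rfl⟩
        exact (F j).2
      exact h1 hx)
  have hφ₀ : Function.Surjective φ₀ :=
    Ideal.Quotient.lift_surjective_of_surjective _ _ G.algebraMap_surjective
  refine ⟨φ₀ gD, ?_, Localization.Away gD, inferInstance, inferInstance, hstd,
    IsLocalization.Away.mapₐ _ _ φ₀ gD, IsLocalization.Away.mapₐ_surjective_of_surjective gD hφ₀⟩
  intro hmem
  apply hψh
  change algebraMap B q.ResidueField (algebraMap G.Ring B h) = 0
  have h2 : φ₀ gD = algebraMap G.Ring B h := rfl
  rw [← h2]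
  exact (Ideal.algebraMap_residueField_eq_zero).mpr hmem

end Groth.Agent.Lib.R2H4.StdSmoothEmb
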