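import Mathlib
import Groth.Prelude
import Groth.Agent.Lib.R2H4SurfCone
import Groth.Agent.Lib.R2H4ModNegC
import Groth.Agent.Lib.R2H4DiffCartier
import Groth.Agent.Lib.R2H4NakaiCore
import Groth.Agent.Lib.R2H4SurfDual
import Groth.Agent.Lib.R2H1SpecialFibreProd
set_option backward.isDefEq.respectTransparency.types false

/-!
# The Nakai–Moishezon criterion for real classes on a smooth projective surface (helper4, round 2)

* `exists_components` : an effective Cartier divisor on a regular Noetherian scheme is a product of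
  powers of integral effective Cartier divisors;
* `exists_curve_decomp` : the class of an invertible module with a nonzero section is a
  nonnegative combination of classes of integral curves;
* `mem_ampleCone_of_pos` : `x² > 0` and `x·C > 0` for all curves `C` imply `x ∈ Amp(X)`.
-/

set_option autoImplicit false
set_option linter.style.haveILetI false
set_option linter.unusedSectionVars false
universe u
open CategoryTheory CategoryTheory.Limits AlgebraicGeometry TopologicalSpace Filter Topology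

noncomputable section

namespace Groth.Agent.Lib.R2H4SurfNakai

open Groth.Agent.Lib.H9N1RAmple Groth.Agent.Lib.H9N1RHodgeAlg Groth.Agent.Lib.R2H4SurfCone
  Groth.Agent.Lib.R2H4TensorPows Groth.Agent.Lib.R2H4ModProd Groth.Agent.Lib.R2H4ModSec

section Comp

variable {X : Scheme.{u}} [IsNoetherian X]

/-- the irreducible components of a subset -/
def comps (T : Set X) : Set (Set X) :=
  {Z | Maximal (fun S : Set X => IsIrreducible S ∧ S ⊆ T) Z}

theorem isClosed_of_mem_comps {T : Set X} (hT : IsClosed T) {Z : Set X} (hZ : Z ∈ comps T) :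
    IsClosed Z := by
  have h1 : closure Z ⊆ Z :=
    hZ.2 ⟨hZ.1.1.closure, hT.closure_subset_iff.2 hZ.1.2⟩ subset_closure
  exact closure_subset_iff_isClosed.1 h1

theorem finite_comps {T : Set X} (hT : IsClosed T) : (comps T).Finite := by
  classical
  obtain ⟨𝒮, h𝒮f, h𝒮c, h𝒮i, h𝒮U⟩ :=
    NoetherianSpace.exists_finite_set_isClosed_irreducible (α := X) hT
  refine h𝒮f.subset ?_
  intro Z hZ
  have hsub : Z ⊆ ⋃₀ ((h𝒮f.toFinset : Finset (Set X)) : Set (Set X)) := by
    rw [Set.Finite.coe_toFinset, ← h𝒮U]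
    exact hZ.1.2
  obtain ⟨S, hS, hZS⟩ := (isIrreducible_iff_sUnion_isClosed.1 hZ.1.1) h𝒮f.toFinset
    (fun S hS => h𝒮c S (h𝒮f.mem_toFinset.1 hS)) hsub
  have hS' : S ∈ 𝒮 := h𝒮f.mem_toFinset.1 hS
  have hST : S ⊆ T := by
    rw [h𝒮U]
    exact Set.subset_sUnion_of_mem hS'
  have := hZ.2 ⟨h𝒮i S hS', hST⟩ hZS
  have hEq : Z = S := Set.Subset.antisymm hZS this
  rw [hEq]
  exact hS'

/-- decomposition of an effective Cartier divisor on a regular Noetherian scheme into integral
effective Cartier divisors -/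
theorem exists_components (hreg : ∀ x : X, IsRegularLocalRing (X.presheaf.stalk x))
    (D : X.IdealSheafData) (hD : BlowUp.IsEffCartierIdeal D) :
    ∃ (n : ℕ) (E : Fin n → X.IdealSheafData) (m : Fin n → ℕ),
      (∀ c, BlowUp.IsEffCartierIdeal (E c)) ∧ (∀ c, IsIntegral (E c).subscheme) ∧
      D = ∏ c, E c ^ m c := by
  classical
  have hTcl : IsClosed (D.support : Set X) := D.support.isClosed
  have hfin := finite_comps hTcl
  let s : Finset (Set X) := hfin.toFinset
  let n : ℕ := s.card
  let en : Fin n ≃ s := s.equivFin.symm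
  let Zs : Fin n → Set X := fun c => ((en c : s) : Set X)
  have hZmem : ∀ c, Zs c ∈ comps (D.support : Set X) := fun c =>
    hfin.mem_toFinset.1 (en c).2
  have hZinj : Function.Injective Zs := fun c c' h => en.injective (Subtype.ext h)
  have hZsurj : ∀ Z ∈ comps (D.support : Set X), ∃ c, Zs c = Z := fun Z hZ =>
    ⟨en.symm ⟨Z, hfin.mem_toFinset.2 hZ⟩, by
      change ((en (en.symm ⟨Z, hfin.mem_toFinset.2 hZ⟩) : s) : Set X) = Z
      rw [Equiv.apply_symm_apply]⟩
  have hZcl : ∀ c, IsClosed (Zs c) := fun c => isClosed_of_mem_comps hTcl (hZmem c)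
  let Zc : Fin n → Closeds X := fun c => ⟨Zs c, hZcl c⟩
  let E : Fin n → X.IdealSheafData := fun c => Scheme.IdealSheafData.vanishingIdeal (Zc c)
  have hEsupp : ∀ c, ((E c).support : Set X) = Zs c := fun c =>
    Scheme.IdealSheafData.coe_support_vanishingIdeal _
  have hgen : ∀ c, ∃ ξ : X, closure {ξ} = Zs c := fun c => by
    obtain ⟨ξ, hξ⟩ := QuasiSober.sober (hZmem c).1.1 (hZcl c)
    exact ⟨ξ, hξ.def⟩
  choose ξ hξ using hgen
  have hint : ∀ c, IsIntegral (E c).subscheme := fun c => by
    haveI : IrreducibleSpace ↥(Scheme.IdealSheafData.vanishingIdeal (Zc c)).subscheme :=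
      Groth.Agent.Lib.Helper6.EquiSub.irreducibleSpace_subscheme (X' := Zc c) (ξ c) (hξ c)
    haveI : IsReduced (Scheme.IdealSheafData.vanishingIdeal (Zc c)).subscheme :=
      Groth.Agent.Lib.Helper11RedCl.isReduced_subscheme_vanishingIdeal (Zc c)
    exact isIntegral_of_irreducibleSpace_of_isReduced _
  have hinjE : Function.Injective (fun c => ((E c).support : Set X)) := by
    intro c c' h
    apply hZinj
    rw [← hEsupp c, ← hEsupp c']
    exact h
  have hrange : Set.range (fun c => ((E c).support : Set X)) =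
      {Z | Maximal (fun S : Set X => IsIrreducible S ∧ S ⊆ (D.support : Set X)) Z} := by
    ext Z
    constructor
    · rintro ⟨c, rfl⟩
      have hmx : Maximal (fun S : Set X => IsIrreducible S ∧
          S ⊆ (D.support : Set X)) ((E c).support : Set X) := by
        rw [hEsupp c]
        exact hZmem c
      exact hmx
    · intro hZ
      obtain ⟨c, hc⟩ := hZsurj Z hZ
      exact ⟨c, by change ((E c).support : Set X) = Z; rw [hEsupp c, hc]⟩
  obtain ⟨hEcart, hDprod⟩ := Groth.Agent.Lib.R2H1.SpecialFibreProd.main_abstract X hreg D hD E hint ξ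
    (fun c => by rw [hξ c, hEsupp c]) hinjE hrange
  exact ⟨n, E, _, hEcart, hint, hDprod⟩

end Comp

section Cl

variable (k : Type u) [Field k] (X : Scheme.{u}) [X.Over (Spec (CommRingCat.of k))] [PicGrp.Law X]

theorem clR_bigMod : ∀ (n : ℕ) (L : Fin n → X.Modules) (m : Fin n → ℕ)
    (hL : ∀ i, PicF.IsInvertible (L i)) (h : PicF.IsInvertible (bigMod n L m)),
    NumR.clR k X (bigMod n L m) h = ∑ i, (m i : ℝ) • NumR.clR k X (L i) (hL i)
  | 0, _, _, _, h => by
    rw [Finset.univ_eq_empty, Finset.sum_empty]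
    exact clR_structure k X h
  | n + 1, L, m, hL, h => by
    have h1 := isInvertible_bigMod n (fun i => L i.castSucc) (fun i => m i.castSucc)
      (fun i => hL i.castSucc)
    have h2 : PicF.IsInvertible (CohB1.tensorPow (L (Fin.last n)) (m (Fin.last n))) :=
      Groth.Agent.Lib.Helper23.SecTw.isInvertible_tensorPow (hL (Fin.last n)) _
    have h3 : NumR.clR k X (bigMod (n + 1) L m) h =
        NumR.clR k X (bigMod n (fun i => L i.castSucc) (fun i => m i.castSucc)) h1 +
          NumR.clR k X (CohB1.tensorPow (L (Fin.last n)) (m (Fin.last n))) h2 :=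
      clR_tensor k X h1 h2 h
    rw [h3, clR_bigMod n _ _ (fun i => hL i.castSucc) h1,
      clR_tensorPow k X (hL (Fin.last n)) _ h2, Fin.sum_univ_castSucc]

end Cl

section Surf

variable (k : Type u) [Field k] (X : Scheme.{u}) [X.Over (Spec (CommRingCat.of k))]
  [IsProper (X ↘ (Spec (CommRingCat.of k)))] [Smooth (X ↘ (Spec (CommRingCat.of k)))]
  [AlgebraicGeometry.IsIntegral X] [PicGrp.Law X]

theorem eq_one_of_le_one {d : WithBot ℕ∞} (h1 : d ≤ 1) (h0 : ¬ d ≤ 0) : d = 1 := by
  induction d with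
  | bot => exact absurd bot_le h0
  | coe e =>
    induction e with
    | top => exact absurd h1 (by decide)
    | coe n =>
      have h1' : n ≤ 1 := by exact_mod_cast h1
      have h0' : ¬ n ≤ 0 := fun h => h0 (by exact_mod_cast h)
      have : n = 1 := by omega
      rw [this]; rfl

/-- the class of an invertible module with a nonzero section is a nonnegative combination of
curve classes -/
theorem exists_curve_decomp (hdim : topologicalKrullDim X = 2) (E : X.Modules)
    (hE : PicF.IsInvertible E) (s : Coh.structureModule X ⟶ E) (hs : s ≠ 0) :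
    ∃ (n : ℕ) (C : Fin n → X.IdealSheafData) (m : Fin n → ℕ)
      (_ : ∀ c, IsIntegral (C c).subscheme)
      (_ : ∀ c, topologicalKrullDim ((C c).support : Set X) = 1)
      (hI : ∀ c, PicF.IsInvertible (ClSub.idealMod (C c))),
      NumR.clR k X E hE = ∑ c, (m c : ℝ) • NumR.curveCl k X (C c) (hI c) := by
  haveI := Groth.Agent.Lib.R2H1.CurveEuler.isNoetherian_of_proper k X
  have hreg : ∀ x : X, Curv2.IsAssPoint (Coh.structureModule X) x → x ∈ CohB1.genLocus E s :=
    fun x hx => Groth.Agent.Lib.R2H4NakaiCore.mem_genLocus_of_isAssPoint E hE s hs x hx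
  set D := PicF2.zeroScheme E s with hDdef
  have hD : BlowUp.IsEffCartierIdeal D :=
    Groth.Agent.Lib.R2H4DiffCartier.isEffCartier_zeroScheme E hE s hreg
  obtain ⟨φ⟩ := Groth.Agent.Lib.R2H4DiffCartier.nonempty_iso_tensor_zeroScheme E hE s hreg
  obtain ⟨n, C, m, hCcart, hCint, hprod⟩ := exists_components
    (fun x => Groth.Agent.Lib.H9NegDefGeo.isRegular k x) D hD
  have hCd : ∀ c, topologicalKrullDim ((C c).support : Set X) = 1 := by
    intro c
    haveI := hCint c
    have hle := Groth.Agent.Lib.H9NegDefGeo.dim_support_le_one k hdim (C c) (hCcart c)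
    have hx : (C c).subschemeι (genericPoint ↥(C c).subscheme) ∈ (C c).support := by
      rw [← SetLike.mem_coe, ← Scheme.IdealSheafData.range_subschemeι]
      exact ⟨_, rfl⟩
    exact eq_one_of_le_one hle
      (Groth.Agent.Lib.H9NegDefGeo.not_dim_support_le_zero k hdim (C c) (hCcart c) _ hx)
  have hI : ∀ c, PicF.IsInvertible (ClSub.idealMod (C c)) := fun c =>
    Groth.Agent.Helper18Cart.isInvertible_of_isEffCartier _ (hCcart c)
  obtain ⟨L', hL'⟩ := Groth.Agent.Lib.R2H4ModNegC.exists_inverses C hCcart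
  have e' : ∀ c, CohB1.tensorMod (L' c) (ClSub.idealMod (C c)) ≅ Coh.structureModule X :=
    fun c => (hL' c).some
  have hL'inv : ∀ c, PicF.IsInvertible (L' c) := fun c =>
    Groth.Agent.Lib.Helper2.TensorInv.isInvertible_of_tensor_iso (L' c) _ (e' c)
  have hbig := isInvertible_bigMod n L' m hL'inv
  set t := bigSec n L' (fun c => canSec (C c) (L' c) (e' c)) m with ht
  have hzt : PicF2.zeroScheme (bigMod n L' m) t = D := by
    rw [ht, zeroScheme_bigSec n L' _ m hL'inv, hprod]
    refine Finset.prod_congr rfl (fun c _ => ?_)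
    rw [zeroScheme_canSec (C c) (L' c) (hL'inv c) (e' c)]
  have hregt : ∀ x : X, Curv2.IsAssPoint (Coh.structureModule X) x →
      x ∈ CohB1.genLocus (bigMod n L' m) t := by
    intro x hx
    by_contra hxn
    have h1 : x ∈ (PicF2.zeroScheme (bigMod n L' m) t).support :=
      (mem_support_zeroScheme_iff (bigMod n L' m) hbig t x).2 hxn
    rw [hzt] at h1
    have hV : ((⟨(D.support : Set X)ᶜ, D.support.isClosed.isOpen_compl⟩ : X.Opens) : Set X).Nonempty :=
      ⟨genericPoint X, Groth.Agent.Lib.H9NegDefGeo.genericPoint_not_mem_support D hD⟩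
    have h2 := Groth.Agent.Lib.R2H4NakaiCore.mem_of_isAssPoint x hx _ hV
    exact h2 h1
  obtain ⟨ψ⟩ := Groth.Agent.Lib.R2H4DiffCartier.nonempty_iso_tensor_zeroScheme (bigMod n L' m) hbig
    t hregt
  rw [hzt] at ψ
  obtain ⟨θ⟩ := Groth.Agent.Lib.R2H4ModNegA.nonempty_iso_of_inverse E (bigMod n L' m)
    (ClSub.idealMod D) φ.symm ψ.symm
  refine ⟨n, C, m, hCint, hCd, hI, ?_⟩
  rw [clR_congr k X hE hbig θ, clR_bigMod k X n L' m hL'inv hbig]
  refine Finset.sum_congr rfl (fun c _ => ?_)
  congr 1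
  unfold NumR.curveCl
  rw [clR_inverse k X (hL'inv c) (hI c) (e' c), neg_neg]

theorem exists_pos_le : ∀ (r : ℕ) (f : Fin r → ℝ), (∀ i, 0 < f i) → ∀ ε₁ : ℝ, 0 < ε₁ →
    ∃ ε : ℝ, 0 < ε ∧ ε ≤ ε₁ ∧ ∀ i, ε ≤ f i
  | 0, _, _, ε₁, h => ⟨ε₁, h, le_rfl, fun i => i.elim0⟩
  | r + 1, f, hf, ε₁, h => by
    obtain ⟨ε', h1, h2, h3⟩ := exists_pos_le r (fun i => f i.succ) (fun i => hf i.succ) ε₁ h
    refine ⟨min ε' (f 0), lt_min h1 (hf 0), (min_le_left _ _).trans h2, ?_⟩
    intro i
    induction i using Fin.cases with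
    | zero => exact min_le_right _ _
    | succ j => exact (min_le_left _ _).trans (h3 j)

variable [Module.Finite ℝ (NumR.N1R k X)]

/-- **Nakai–Moishezon for real classes** on a smooth projective surface -/
theorem mem_ampleCone_of_pos (hdim : topologicalKrullDim X = 2)
    (B : NumR.N1R k X →ₗ[ℝ] NumR.N1R k X →ₗ[ℝ] ℝ) (hB : NumR.IsIntForm₂ k X B)
    (H : X.Modules) (hH : CohB1.IsAmple H) (x : NumR.N1R k X) (hxx : 0 < B x x)
    (hxC : ∀ (I : X.IdealSheafData), AlgebraicGeometry.IsIntegral I.subscheme →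
      topologicalKrullDim (I.support : Set X) = 1 → ∀ hI : PicF.IsInvertible (ClSub.idealMod I),
        0 < B x (NumR.curveCl k X I hI)) :
    x ∈ NumR.ampleCone k X := by
  haveI : IsTopologicalAddGroup (NumR.N1R k X) := IsModuleTopology.topologicalAddGroup ℝ _
  have hsymm := Groth.Agent.Lib.H9N1RHodge.symm k X hdim B hB
  set h := NumR.clR k X H hH.1 with hh
  have hHamp : h ∈ NumR.ampleCone k X := ConvexCone.subset_hull ⟨H, hH.1, hH, rfl⟩
  have hxnef : x ∈ NumR.nefCone₂ k X B := fun C hCi hCd hI => (hxC C hCi hCd hI).le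
  have hxpos : x ∈ NumR.posCone k X B H hH.1 := by
    have h1 : x ∈ {x | 0 < B x x ∧ x ∈ NumR.nefCone₂ k X B} := ⟨hxx, hxnef⟩
    rw [← closure_ampleCone_inter_posCone k X hdim B hB H hH] at h1
    exact h1.2
  have hopenA := isOpen_ampleCone k X
  have hopenP : IsOpen (NumR.posCone k X B H hH.1) := isOpen_posCone B h
  -- a rational class `z` in the positive cone with `x - z` ample
  let U : Set (NumR.N1R k X) := {z | x - z ∈ NumR.ampleCone k X ∧ z ∈ NumR.posCone k X B H hH.1}
  have hU : IsOpen U :=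
    (hopenA.preimage (continuous_const.sub continuous_id)).inter hopenP
  have hne : U.Nonempty := by
    have hcont : Continuous (fun ε : ℝ => x - ε • h) :=
      continuous_const.sub ((continuous_id (X := ℝ)).smul (continuous_const (y := h)))
    have hop := hopenP.preimage hcont
    have h0 : (0 : ℝ) ∈ (fun ε : ℝ => x - ε • h) ⁻¹' NumR.posCone k X B H hH.1 := by
      change x - (0 : ℝ) • h ∈ NumR.posCone k X B H hH.1
      rwa [zero_smul, sub_zero]
    obtain ⟨δ, hδ, hball⟩ := Metric.isOpen_iff.mp hop 0 h0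
    have hε : x - (δ / 2) • h ∈ NumR.posCone k X B H hH.1 := by
      apply hball
      rw [Metric.mem_ball, dist_zero_right, Real.norm_eq_abs, abs_of_pos (half_pos hδ)]
      exact half_lt_self hδ
    refine ⟨x - (δ / 2) • h, ?_, hε⟩
    change x - (x - (δ / 2) • h) ∈ NumR.ampleCone k X
    rw [sub_sub_cancel]
    exact (NumR.ampleCone k X).smul_mem (half_pos hδ) hHamp
  obtain ⟨z, ⟨hz1, hz2⟩, N, L, hL, hN, hNz⟩ := exists_rat_mem k X U hU hne
  have hN0 : (0 : ℝ) < N := by exact_mod_cast hN
  -- numerical positivity of `L`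
  have hLL : 0 < FGA.intNum k X 2 ![L, L] (Coh.structureModule X) := by
    have h1 := hB L L hL hL
    rw [← hNz] at h1
    simp only [map_smul, LinearMap.smul_apply, smul_eq_mul] at h1
    have h2 : (0 : ℝ) < (N : ℝ) * ((N : ℝ) * B z z) := mul_pos hN0 (mul_pos hN0 hz2.1)
    rw [h1] at h2
    exact_mod_cast h2
  have hLH : 0 < FGA.intNum k X 2 ![L, H] (Coh.structureModule X) := by
    have h1 := hB L H hL hH.1
    rw [← hNz] at h1
    simp only [map_smul, LinearMap.smul_apply, smul_eq_mul] at h1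
    have h2 : (0 : ℝ) < (N : ℝ) * B z h := mul_pos hN0 hz2.2
    rw [h1] at h2
    exact_mod_cast h2
  obtain ⟨N₁, hN₁⟩ := Groth.Agent.Lib.R2H4SurfDual.pow_sections_nontrivial k hdim H hH L hL hLL hLH
  have hnt := hN₁ (N₁ + 1) (Nat.le_succ _)
  have hLn : PicF.IsInvertible (CohB1.tensorPow L (N₁ + 1)) :=
    Groth.Agent.Lib.Helper23.SecTw.isInvertible_tensorPow hL _
  obtain ⟨s, hs⟩ : ∃ s : Coh.structureModule X ⟶ CohB1.tensorPow L (N₁ + 1), s ≠ 0 := by
    obtain ⟨a, b, hab⟩ := exists_pair_ne (Coh.HH X (CohB1.tensorPow L (N₁ + 1)) 0)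
    refine ⟨(Groth.Agent.Lib.R2H2.PnBeilinson.clsEquiv (k := k) _).symm (a - b), ?_⟩
    intro h0
    apply hab
    have := (LinearEquiv.map_eq_zero_iff _).1 h0
    exact sub_eq_zero.1 this
  obtain ⟨r, C, m, hCi, hCd, hI, hcl⟩ := exists_curve_decomp k X hdim _ hLn s hs
  rw [clR_tensorPow k X hL _ hLn, ← hNz, smul_smul] at hcl
  set ν : ℝ := ((N₁ + 1 : ℕ) : ℝ) * (N : ℝ) with hν
  have hν0 : 0 < ν := mul_pos (by positivity) hN0
  -- pairing of `z` with a curve different from all the `C c`
  have hzC : ∀ (I : X.IdealSheafData) (hIi : IsIntegral I.subscheme)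
      (hId : topologicalKrullDim (I.support : Set X) = 1)
      (hII : PicF.IsInvertible (ClSub.idealMod I)), (∀ c, C c ≠ I) →
      0 ≤ B z (NumR.curveCl k X I hII) := by
    intro I hIi hId hII hne
    have h1 : ν * B z (NumR.curveCl k X I hII) =
        ∑ c, (m c : ℝ) * B (NumR.curveCl k X (C c) (hI c)) (NumR.curveCl k X I hII) := by
      have := congrArg (fun w => B w (NumR.curveCl k X I hII)) hcl
      simpa only [map_smul, LinearMap.smul_apply, smul_eq_mul, map_sum, LinearMap.sum_apply] using this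
    have h2 : 0 ≤ ν * B z (NumR.curveCl k X I hII) := by
      rw [h1]
      refine Finset.sum_nonneg (fun c _ => mul_nonneg (Nat.cast_nonneg _) ?_)
      haveI := hCi c
      haveI := hIi
      have h3 := Groth.Agent.Lib.H9NegDefGeo.gram_offdiag_nonneg k hdim (C c) I (hCd c) hId (hne c)
      unfold NumR.curveCl
      rw [map_neg, map_neg, LinearMap.neg_apply, neg_neg, hB]
      exact_mod_cast h3
    exact (mul_nonneg_iff_of_pos_left hν0).1 h2
  -- small `ε`
  obtain ⟨H', hH', ⟨eH⟩⟩ := Groth.Agent.Lib.R2H1.InvExists.exists_inverse H hH.1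
  obtain ⟨ε₁, hε₁, ha1⟩ := internal k X (x - z) hz1 H' hH'
  rw [clR_inverse k X hH.1 hH' eH, smul_neg, ← sub_eq_add_neg] at ha1
  have hhC : ∀ c, 0 < B h (NumR.curveCl k X (C c) (hI c)) := fun c =>
    ample_pos_curve k X hdim B hB H hH (C c) (hCi c) (hCd c) (hI c)
  obtain ⟨ε, hε0, hε1, hεc⟩ := exists_pos_le r
    (fun c => B x (NumR.curveCl k X (C c) (hI c)) / B h (NumR.curveCl k X (C c) (hI c)))
    (fun c => div_pos (hxC (C c) (hCi c) (hCd c) (hI c)) (hhC c)) ε₁ hε₁
  have ha2 : x - z - ε • h ∈ NumR.ampleCone k X := by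
    have h1 := seg_one _ (NumR.ampleCone k X).convex (x - z) (-h) hz1 ε₁ hε₁
      (by rwa [smul_neg, ← sub_eq_add_neg]) ε hε0.le hε1
    rwa [smul_neg, ← sub_eq_add_neg] at h1
  have hwnef : x - ε • h ∈ NumR.nefCone₂ k X B := by
    intro I hIi hId hII
    by_cases hex : ∃ c, C c = I
    · obtain ⟨c, rfl⟩ := hex
      have h1 := hεc c
      rw [le_div_iff₀ (hhC c)] at h1
      rw [map_sub, LinearMap.sub_apply, map_smul, LinearMap.smul_apply, smul_eq_mul, sub_nonneg]
      exact h1
    · push Not at hex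
      have h1 := (ampleCone_pos_curve k X hdim B hB _ ha2 I hIi hId hII).le
      have h2 := hzC I hIi hId hII hex
      have h3 : x - ε • h = (x - z - ε • h) + z := by abel
      rw [h3, map_add, LinearMap.add_apply]
      exact add_nonneg h1 h2
  have := nef_add_ample k X hdim B hB (x - ε • h) (ε • h) hwnef
    ((NumR.ampleCone k X).smul_mem hε0 hHamp)
  rwa [sub_add_cancel] at this

end Surf

end Groth.Agent.Lib.R2H4SurfNakai
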