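import Mathlib
import Groth.Prelude
import Groth.Agent.Lib.R2H4SurfCone
import Groth.Agent.Lib.H9NegDefAlg
import Groth.Agent.Lib.H9NegDefRank
import Groth.Agent.Lib.H9N1RNondeg
set_option backward.isDefEq.respectTransparency.types false

/-!
# Walls of the nef cone of a smooth projective surface (helper4, round 2)

`walls_iff` : `closure(Amp) ∩ C₊ ∩ ⋂ W^{C_i} ≠ ∅` iff the curves `C_i` span a negative definite lattice.
-/

set_option autoImplicit false
set_option linter.style.haveILetI false
set_option linter.unusedSectionVars false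
universe u
open CategoryTheory CategoryTheory.Limits AlgebraicGeometry TopologicalSpace Filter Topology

noncomputable section

namespace Groth.Agent.Lib.R2H4SurfWalls

open Groth.Agent.Lib.H9N1RAmple Groth.Agent.Lib.H9N1RHodgeAlg Groth.Agent.Lib.R2H4SurfCone

section Alg

variable {V : Type*} [AddCommGroup V] [Module ℝ V] {r : ℕ}

theorem B_lin (B : V →ₗ[ℝ] V →ₗ[ℝ] ℝ) (v : Fin r → V) (G : Fin r → Fin r → ℤ)
    (hG : ∀ i j, B (v i) (v j) = ((G i j : ℤ) : ℝ)) (a b : Fin r → ℝ) :
    B (∑ i, a i • v i) (∑ j, b j • v j) = ∑ i, ∑ j, a i * b j * ((G i j : ℤ) : ℝ) := by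
  rw [LinearMap.map_sum₂]
  refine Finset.sum_congr rfl fun i _ => ?_
  rw [LinearMap.map_smul₂, map_sum, smul_eq_mul, Finset.mul_sum]
  refine Finset.sum_congr rfl fun j _ => ?_
  rw [map_smul, smul_eq_mul, hG]
  ring

theorem B_lin_int (B : V →ₗ[ℝ] V →ₗ[ℝ] ℝ) (v : Fin r → V) (G : Fin r → Fin r → ℤ)
    (hG : ∀ i j, B (v i) (v j) = ((G i j : ℤ) : ℝ)) (a b : Fin r → ℤ) :
    B (∑ i, (a i : ℝ) • v i) (∑ j, (b j : ℝ) • v j) =
      ((Groth.Agent.Lib.H9NegDefAlg.B G a b : ℤ) : ℝ) := by
  rw [B_lin B v G hG]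
  unfold Groth.Agent.Lib.H9NegDefAlg.B
  push_cast
  rfl

end Alg

section Surf

variable (k : Type u) [Field k] (X : Scheme.{u}) [X.Over (Spec (CommRingCat.of k))]
  [IsProper (X ↘ (Spec (CommRingCat.of k)))] [Smooth (X ↘ (Spec (CommRingCat.of k)))]
  [AlgebraicGeometry.IsIntegral X] [PicGrp.Law X] [Module.Finite ℝ (NumR.N1R k X)]

theorem walls_iff (hdim : topologicalKrullDim X = 2)
    (B : NumR.N1R k X →ₗ[ℝ] NumR.N1R k X →ₗ[ℝ] ℝ) (hB : NumR.IsIntForm₂ k X B)
    (H : X.Modules) (hH : CohB1.IsAmple H)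
    (r : ℕ) (C : Fin r → X.IdealSheafData) (hC : Function.Injective C)
    (hCi : ∀ i, AlgebraicGeometry.IsIntegral (C i).subscheme)
    (hCd : ∀ i, topologicalKrullDim ((C i).support : Set X) = 1)
    (hCinv : ∀ i, PicF.IsInvertible (ClSub.idealMod (C i))) :
    (∃ x : NumR.N1R k X, x ∈ closure (NumR.ampleCone k X : Set (NumR.N1R k X)) ∧
        x ∈ NumR.posCone k X B H hH.1 ∧ ∀ i, x ∈ NumR.wall k X B (C i) (hCinv i)) ↔
      (∀ a : Fin r → ℤ, a ≠ 0 →
      ∑ i, ∑ j, a i * a j * FGA.intNum k X 2 ![(ClSub.idealMod (C i)), (ClSub.idealMod (C j))]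
        (Coh.structureModule X) < 0) := by
  classical
  have hsymmB := Groth.Agent.Lib.H9N1RHodge.symm k X hdim B hB
  have hyp := Groth.Agent.Lib.H9N1RHodge.hyp k X hdim B hB H hH
  set h := NumR.clR k X H hH.1 with hh
  let v : Fin r → NumR.N1R k X := fun i => NumR.curveCl k X (C i) (hCinv i)
  let G : Fin r → Fin r → ℤ := fun i j =>
    FGA.intNum k X 2 ![(ClSub.idealMod (C i)), (ClSub.idealMod (C j))] (Coh.structureModule X)
  have hG : ∀ i j, B (v i) (v j) = ((G i j : ℤ) : ℝ) := by
    intro i j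
    change B (NumR.curveCl k X (C i) (hCinv i)) (NumR.curveCl k X (C j) (hCinv j)) = _
    unfold NumR.curveCl
    rw [map_neg, map_neg, LinearMap.neg_apply, neg_neg, hB]
  have hGsymm : ∀ i j, G i j = G j i := fun i j =>
    Groth.Agent.Lib.H9NegDefGeo.intNum_comm k hdim _ _
  have hGoff : ∀ i j, i ≠ j → 0 ≤ G i j := by
    intro i j hij
    haveI := hCi i
    haveI := hCi j
    exact Groth.Agent.Lib.H9NegDefGeo.gram_offdiag_nonneg k hdim (C i) (C j) (hCd i) (hCd j)
      (fun hc => hij (hC hc))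
  -- pairing with `h`
  have hu : ∀ i, ∃ u : ℤ, 0 < u ∧ B h (v i) = (u : ℝ) := by
    intro i
    have hpos := ample_pos_curve k X hdim B hB H hH (C i) (hCi i) (hCd i) (hCinv i)
    have hint : ∃ u : ℤ, B h (v i) = (u : ℝ) := by
      change ∃ u : ℤ, B (NumR.clR k X H hH.1) (NumR.curveCl k X (C i) (hCinv i)) = (u : ℝ)
      unfold NumR.curveCl
      rw [map_neg, hB]
      exact ⟨-_, by push_cast; rfl⟩
    obtain ⟨u, hu⟩ := hint
    refine ⟨u, ?_, hu⟩
    have : (0 : ℝ) < (u : ℝ) := by rw [← hu]; exact hpos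
    exact_mod_cast this
  choose u hu0 huB using hu
  have hBG : ∀ a : Fin r → ℤ, Groth.Agent.Lib.H9NegDefAlg.B G a a =
      ∑ i, ∑ j, a i * a j * FGA.intNum k X 2 ![(ClSub.idealMod (C i)), (ClSub.idealMod (C j))]
        (Coh.structureModule X) := fun a => rfl
  constructor
  · rintro ⟨x, hxcl, hxpos, hxw⟩
    have hxv : ∀ i, B x (v i) = 0 := fun i => hxw i
    have hnondeg := Groth.Agent.Lib.H9N1RNondeg.nondeg k X hdim B hB
    intro a ha
    rw [← hBG]
    -- use helper9's abstract criterion with the functionals `G(·, j)` and `u`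
    refine Groth.Agent.Lib.H9NegDefAlg.negDef_of_negDef_on_nontrivial G
      (ι := Option (Fin r)) (fun m i => match m with | some j => G i j | none => u i)
      hGsymm hGoff (fun j => ⟨some j, fun i => rfl⟩) u hu0 ⟨none, fun i => rfl⟩ ?_ a ha
    intro b hb
    by_contra hnn
    rw [not_lt] at hnn
    set c := ∑ i, (b i : ℝ) • v i with hc
    have hcc : 0 ≤ B c c := by
      rw [hc, B_lin_int B v G hG]
      exact_mod_cast hnn
    have hxc : B x c = 0 := by
      rw [hc, map_sum]
      refine Finset.sum_eq_zero fun i _ => ?_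
      rw [map_smul, hxv i, smul_zero]
    have hc0 : c = 0 := hyp.eq_zero hnondeg x c hxpos.1 hxpos.2 hcc hxc
    obtain ⟨m, hm⟩ := hb
    apply hm
    cases m with
    | some j =>
      have h1 : B c (v j) = 0 := by rw [hc0]; simp
      rw [hc] at h1
      simp only [map_sum, map_smul, LinearMap.sum_apply, LinearMap.smul_apply, smul_eq_mul,
        hG] at h1
      have h2 : ((∑ i, b i * G i j : ℤ) : ℝ) = 0 := by
        push_cast
        exact h1
      exact_mod_cast h2
    | none =>
      have h1 : B h c = 0 := by rw [hc0]; simp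
      rw [hc] at h1
      simp only [map_sum, map_smul, smul_eq_mul, huB] at h1
      have h2 : ((∑ i, b i * u i : ℤ) : ℝ) = 0 := by
        push_cast
        exact h1
      exact_mod_cast h2
  · intro hneg
    have hneg' : ∀ a : Fin r → ℤ, a ≠ 0 → Groth.Agent.Lib.H9NegDefAlg.B G a a < 0 := hneg
    let GM : Matrix (Fin r) (Fin r) ℤ := Matrix.of G
    have hdet : GM.det ≠ 0 := by
      refine Groth.Agent.Lib.H9NegDefRank.det_ne_zero GM ?_
      intro a ha
      have := hneg' a ha
      unfold Groth.Agent.Lib.H9NegDefRank.qf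
      unfold Groth.Agent.Lib.H9NegDefAlg.B at this
      simpa [GM] using this
    set d := GM.det with hd
    -- Cramer: `G s₀ = d • (-u)`
    let s₀ : Fin r → ℤ := (Matrix.adjugate GM).mulVec (fun j => - u j)
    have hs₀ : GM.mulVec s₀ = fun j => d * (- u j) := by
      change GM.mulVec ((Matrix.adjugate GM).mulVec (fun j => - u j)) = _
      rw [Matrix.mulVec_mulVec, Matrix.mul_adjugate, Matrix.smul_mulVec, Matrix.one_mulVec]
      funext j
      simp [hd]
    let s : Fin r → ℤ := fun i => d * s₀ i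
    have hs : ∀ j, - (d * d * u j) = ∑ i, s i * G i j := by
      intro j
      have h1 := congrFun hs₀ j
      unfold Matrix.mulVec dotProduct at h1
      have h2 : ∑ i, s i * G i j = d * ∑ i, GM j i * s₀ i := by
        rw [Finset.mul_sum]
        refine Finset.sum_congr rfl fun i _ => ?_
        change d * s₀ i * G i j = d * (G j i * s₀ i)
        rw [hGsymm j i]
        ring
      rw [h2, h1]
      ring
    have hsnn : ∀ i, 0 ≤ s i :=
      Groth.Agent.Lib.H9NegDefAlg.nonneg_of_orth G hGsymm hGoff hneg' (fun j => d * d * u j)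
        (fun j => mul_nonneg (mul_self_nonneg d) (hu0 j).le) s hs
    have hD0 : (0 : ℝ) < ((d * d : ℤ) : ℝ) := by
      have : 0 < d * d := mul_self_pos.mpr hdet
      exact_mod_cast this
    set D₀ : ℝ := ((d * d : ℤ) : ℝ) with hD₀
    set x := h + D₀⁻¹ • ∑ i, (s i : ℝ) • v i with hx
    have hxv : ∀ j, B x (v j) = 0 := by
      intro j
      rw [hx, map_add, LinearMap.add_apply, map_smul, LinearMap.smul_apply, huB, smul_eq_mul]
      simp only [map_sum, map_smul, LinearMap.sum_apply, LinearMap.smul_apply, smul_eq_mul, hG]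
      have h2 : (∑ i, (s i : ℝ) * ((G i j : ℤ) : ℝ)) = - (D₀ * (u j : ℝ)) := by
        have := congrArg (fun z : ℤ => (z : ℝ)) (hs j)
        push_cast at this
        rw [hD₀]
        push_cast
        linarith
      rw [h2]
      field_simp
      ring
    have hxh : B x h = B h h + D₀⁻¹ * ∑ i, (s i : ℝ) * (u i : ℝ) := by
      rw [hx, map_add, LinearMap.add_apply, map_smul, LinearMap.smul_apply, smul_eq_mul]
      simp only [map_sum, map_smul, LinearMap.sum_apply, LinearMap.smul_apply, smul_eq_mul]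
      congr 2
      refine Finset.sum_congr rfl fun i _ => ?_
      rw [hsymmB (v i) h, huB]
    have hsum_nn : 0 ≤ ∑ i, (s i : ℝ) * (u i : ℝ) :=
      Finset.sum_nonneg fun i _ => mul_nonneg (by exact_mod_cast hsnn i)
        (by exact_mod_cast (hu0 i).le)
    have hhh : 0 < B h h := hyp.pos
    have hxh0 : 0 < B x h := by
      rw [hxh]
      have : 0 ≤ D₀⁻¹ * ∑ i, (s i : ℝ) * (u i : ℝ) := mul_nonneg (inv_pos.mpr hD0).le hsum_nn
      linarith
    have hxx : B x x = B x h := by
      have h0 : B x (h + D₀⁻¹ • ∑ i, (s i : ℝ) • v i) =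
          B x h + D₀⁻¹ * ∑ i, (s i : ℝ) * B x (v i) := by
        simp only [map_add, map_smul, map_sum, smul_eq_mul]
      have h1 : B x x = B x h + D₀⁻¹ * ∑ i, (s i : ℝ) * B x (v i) := by
        rw [← h0, ← hx]
      rw [h1]
      simp only [hxv, mul_zero, Finset.sum_const_zero, add_zero]
    have hxnef : x ∈ NumR.nefCone₂ k X B := by
      intro I hIi hId hII
      by_cases hex : ∃ c, C c = I
      · obtain ⟨c, rfl⟩ := hex
        exact (hxv c).ge
      · push Not at hex
        have h1 := ample_pos_curve k X hdim B hB H hH I hIi hId hII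
        have h2 : 0 ≤ ∑ i, (s i : ℝ) * B (v i) (NumR.curveCl k X I hII) := by
          refine Finset.sum_nonneg fun i _ => mul_nonneg (by exact_mod_cast hsnn i) ?_
          haveI := hCi i
          haveI := hIi
          have h3 := Groth.Agent.Lib.H9NegDefGeo.gram_offdiag_nonneg k hdim (C i) I (hCd i) hId (hex i)
          change 0 ≤ B (NumR.curveCl k X (C i) (hCinv i)) (NumR.curveCl k X I hII)
          unfold NumR.curveCl
          rw [map_neg, map_neg, LinearMap.neg_apply, neg_neg, hB]
          exact_mod_cast h3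
        rw [hx, map_add, LinearMap.add_apply, map_smul, LinearMap.smul_apply, smul_eq_mul]
        simp only [map_sum, map_smul, LinearMap.sum_apply, LinearMap.smul_apply, smul_eq_mul]
        have : 0 ≤ D₀⁻¹ * ∑ i, (s i : ℝ) * B (v i) (NumR.curveCl k X I hII) :=
          mul_nonneg (inv_pos.mpr hD0).le h2
        linarith
    have hmem : x ∈ {x | 0 < B x x ∧ x ∈ NumR.nefCone₂ k X B} := ⟨by rw [hxx]; exact hxh0, hxnef⟩
    rw [← closure_ampleCone_inter_posCone k X hdim B hB H hH] at hmem
    exact ⟨x, hmem.1, hmem.2, fun i => hxv i⟩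

end Surf

end Groth.Agent.Lib.R2H4SurfWalls
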