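import Mathlib
import Groth.Prelude.Def_RegImm
import Groth.Prelude.Def_MoreMor
import Groth.Agent.S9142
import Groth.Agent.Lib.Helper28PolyCM
import Groth.Agent.Lib.Helper5FiberStalk
import Groth.Agent.Lib.H5bSynt

set_option autoImplicit false
universe u
open scoped TensorProduct
open AlgebraicGeometry CategoryTheory CategoryTheory.Limits

namespace Groth.Agent.Lib.R2H4.SyntCM

open Groth.Agent.Lib.Helper28

/-- The fibre local rings of a syntomic algebra are Cohen–Macaulay (primes of the fibre ring). -/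
theorem cm_fibLoc_aux (A B : Type u) [CommRing A] [CommRing B] [Algebra A B]
    (h : Synt.IsSyntomic A B) (p : PrimeSpectrum A) (q : Ideal (p.asIdeal.Fiber B)) [q.IsPrime] :
    LocCoh.IsCohenMacaulayLocalRing
      (Localization.AtPrime (q.comap Algebra.TensorProduct.includeRight) ⧸
        (p.asIdeal.map (algebraMap A B)).map
          (algebraMap B (Localization.AtPrime (q.comap Algebra.TensorProduct.includeRight)))) := by
  have hCM : LocCoh.IsCohenMacaulayRing (p.asIdeal.Fiber B) :=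
    Groth.Agent.S9142.result _ _ (h.2.2 p)
  have h1 : LocCoh.IsCohenMacaulayLocalRing (Localization.AtPrime q) :=
    hCM.isCohenMacaulayLocalRing_localization q
  exact isCohenMacaulayLocalRing_of_ringEquiv (R := Localization.AtPrime q)
    (Ideal.Fiber.algEquivAux₂ p.asIdeal q).toRingEquiv

/-- The fibre local rings of a syntomic algebra are Cohen–Macaulay. -/
theorem cm_fibLoc (A B : Type u) [CommRing A] [CommRing B] [Algebra A B]
    (h : Synt.IsSyntomic A B) (Q : Ideal B) [hQ : Q.IsPrime] :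
    LocCoh.IsCohenMacaulayLocalRing
      (Localization.AtPrime Q ⧸
        (Q.comap (algebraMap A B)).map (algebraMap A (Localization.AtPrime Q))) := by
  have hP : (Q.comap (algebraMap A B)).IsPrime := Ideal.IsPrime.comap _
  let p : PrimeSpectrum A := ⟨Q.comap (algebraMap A B), hP⟩
  let Q0 : PrimeSpectrum.comap (algebraMap A B) ⁻¹' {p} := ⟨⟨Q, hQ⟩, rfl⟩
  let q : PrimeSpectrum (p.asIdeal.Fiber B) := PrimeSpectrum.preimageEquivFiber A B p Q0
  have hq : q.asIdeal.comap Algebra.TensorProduct.includeRight = Q := by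
    have h1 := (PrimeSpectrum.preimageEquivFiber A B p).symm_apply_apply Q0
    exact congrArg (fun z => z.1.asIdeal) h1
  have h2 := cm_fibLoc_aux A B h p q.asIdeal
  have key : ∀ (Q' : Ideal B) [Q'.IsPrime], Q' = Q →
      LocCoh.IsCohenMacaulayLocalRing (Localization.AtPrime Q' ⧸
        (p.asIdeal.map (algebraMap A B)).map (algebraMap B (Localization.AtPrime Q'))) →
      LocCoh.IsCohenMacaulayLocalRing (Localization.AtPrime Q ⧸
        (Q.comap (algebraMap A B)).map (algebraMap A (Localization.AtPrime Q))) := by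
    intro Q' _ hQ' h3
    subst hQ'
    have hI : (p.asIdeal.map (algebraMap A B)).map (algebraMap B (Localization.AtPrime Q')) =
        (Q'.comap (algebraMap A B)).map (algebraMap A (Localization.AtPrime Q')) := by
      rw [Ideal.map_map, ← IsScalarTower.algebraMap_eq]
    exact isCohenMacaulayLocalRing_of_ringEquiv (Ideal.quotEquivOfEq hI)
  exact key _ hq h2

/-- A syntomic morphism is Cohen–Macaulay at every point. -/
theorem isCMAt_of_isSyntomicMor {X S : Scheme.{u}} (f : X ⟶ S) (hf : Synt.IsSyntomicMor f) (x : X) :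
    MoreMor.IsCMAt f x := by
  have hfl : Flat f := Groth.Agent.Lib.H5b.Synt.flat_of_isSyntomicMor f hf
  refine ⟨Flat.stalkMap f x, ?_⟩
  obtain ⟨U, V, e, hx, hsyn⟩ := hf x
  obtain ⟨e0⟩ := Groth.Agent.Lib.Helper5.FiberStalk.nonempty_stalk_asFiber_equiv f x
  let _ : Algebra Γ(S, V.1) Γ(X, U.1) := (f.appLE V.1 U.1 e).hom.toAlgebra
  obtain ⟨Q, hQ⟩ : ∃ Q, Q = (U.2.primeIdealOf ⟨x, hx⟩).asIdeal := ⟨_, rfl⟩
  have hQp : Q.IsPrime := hQ ▸ (U.2.primeIdealOf ⟨x, hx⟩).isPrime
  have hcm := cm_fibLoc Γ(S, V.1) Γ(X, U.1) hsyn Q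
  -- the stalk of `X` as a localization of `Γ(X, U)`
  let _ : Algebra Γ(X, U.1) (X.presheaf.stalk x) :=
    TopCat.Presheaf.algebra_section_stalk X.presheaf ⟨x, hx⟩
  have hloc : IsLocalization.AtPrime (X.presheaf.stalk x) Q := by
    subst hQ
    exact U.2.isLocalization_stalk ⟨x, hx⟩
  let _ : Algebra Γ(S, V.1) (X.presheaf.stalk x) :=
    ((algebraMap Γ(X, U.1) (X.presheaf.stalk x)).comp
      (algebraMap Γ(S, V.1) Γ(X, U.1))).toAlgebra
  have : IsScalarTower Γ(S, V.1) Γ(X, U.1) (X.presheaf.stalk x) :=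
    IsScalarTower.of_algebraMap_eq' rfl
  let ε : X.presheaf.stalk x ≃ₐ[Γ(X, U.1)] Localization.AtPrime Q :=
    IsLocalization.algEquiv Q.primeCompl _ _
  -- the stalk of `S` as a localization of `Γ(S, V)`
  let _ : Algebra Γ(S, V.1) (S.presheaf.stalk (f x)) :=
    TopCat.Presheaf.algebra_section_stalk S.presheaf ⟨f x, e hx⟩
  have hlocS : IsLocalization.AtPrime (S.presheaf.stalk (f x))
      (V.2.primeIdealOf ⟨f x, e hx⟩).asIdeal := V.2.isLocalization_stalk ⟨f x, e hx⟩
  have hP : Q.comap (algebraMap Γ(S, V.1) Γ(X, U.1)) =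
      (V.2.primeIdealOf ⟨f x, e hx⟩).asIdeal := by
    rw [hQ]
    exact congrArg PrimeSpectrum.asIdeal
      (IsAffineOpen.comap_primeIdealOf_appLE (f := f) (x := x) V.1 V.2 U.1 U.2 e hx)
  have hmax : IsLocalRing.maximalIdeal (S.presheaf.stalk (f x)) =
      (Q.comap (algebraMap Γ(S, V.1) Γ(X, U.1))).map
        (algebraMap Γ(S, V.1) (S.presheaf.stalk (f x))) := by
    rw [hP]
    exact (IsLocalization.AtPrime.map_eq_maximalIdeal _ _).symm
  have hcompat : (f.stalkMap x).hom.comp (algebraMap Γ(S, V.1) (S.presheaf.stalk (f x))) =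
      algebraMap Γ(S, V.1) (X.presheaf.stalk x) := by
    have h1 : S.presheaf.germ V.1 (f x) (e hx) ≫ f.stalkMap x =
        f.appLE V.1 U.1 e ≫ X.presheaf.germ U.1 x hx := by
      rw [Scheme.Hom.germ_stalkMap, Scheme.Hom.appLE, Category.assoc, X.presheaf.germ_res]
    exact congrArg CommRingCat.Hom.hom h1
  have hJ : (IsLocalRing.maximalIdeal (S.presheaf.stalk (f x))).map (f.stalkMap x).hom =
      (Q.comap (algebraMap Γ(S, V.1) Γ(X, U.1))).map
        (algebraMap Γ(S, V.1) (X.presheaf.stalk x)) := by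
    rw [hmax, Ideal.map_map, hcompat]
  have hmap : ((IsLocalRing.maximalIdeal (S.presheaf.stalk (f x))).map (f.stalkMap x).hom).map
      (ε : X.presheaf.stalk x →+* Localization.AtPrime Q) =
      (Q.comap (algebraMap Γ(S, V.1) Γ(X, U.1))).map
        (algebraMap Γ(S, V.1) (Localization.AtPrime Q)) := by
    rw [hJ, Ideal.map_map]
    congr 1
    ext a
    simp [IsScalarTower.algebraMap_apply Γ(S, V.1) Γ(X, U.1) (X.presheaf.stalk x),
      IsScalarTower.algebraMap_apply Γ(S, V.1) Γ(X, U.1) (Localization.AtPrime Q)]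
  let ε' := Ideal.quotientEquiv _ _ ε.toRingEquiv hmap.symm
  exact isCohenMacaulayLocalRing_of_ringEquiv (R := Localization.AtPrime Q ⧸
    (Q.comap (algebraMap Γ(S, V.1) Γ(X, U.1))).map
      (algebraMap Γ(S, V.1) (Localization.AtPrime Q))) (e0.trans ε').symm

end Groth.Agent.Lib.R2H4.SyntCM
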