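import Mathlib
import Groth.Prelude.Def_RegImm
import Groth.Agent.Lib.R2H4RelGCIAway
import Groth.Agent.Lib.R2H4SyntStd

/-!
# Lifting syntomic algebras over `R ⧸ I` locally to relative global complete intersections over `R`
(helper4, round 2)
-/

set_option autoImplicit false
universe u
open scoped TensorProduct

namespace Groth.Agent.Lib.R2H4.SyntLift

section Q2

variable {R A : Type u} [CommRing R] [CommRing A] [Algebra R A]

/-- localizing at an element congruent to `1` modulo `J` does not change the quotient by `J` -/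
theorem nonempty_quotient_equiv_away (J : Ideal A) (h : A) (hh : h - 1 ∈ J) :
    Nonempty ((A ⧸ J) ≃ₐ[R]
      (Localization.Away h ⧸ J.map (algebraMap A (Localization.Away h)))) := by
  let L := Localization.Away h
  let JL : Ideal L := J.map (algebraMap A L)
  let φ₀ : A →ₐ[R] L ⧸ JL := (Ideal.Quotient.mkₐ R JL).comp (IsScalarTower.toAlgHom R A L)
  have hφ₀ : ∀ a ∈ J, φ₀ a = 0 := by
    intro a ha
    change Ideal.Quotient.mk JL (algebraMap A L a) = 0
    exact Ideal.Quotient.eq_zero_iff_mem.mpr (Ideal.mem_map_of_mem _ ha)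
  let φ : (A ⧸ J) →ₐ[R] L ⧸ JL := Ideal.Quotient.liftₐ J φ₀ hφ₀
  have hφ : ∀ a : A, φ (Ideal.Quotient.mk J a) = Ideal.Quotient.mk JL (algebraMap A L a) :=
    fun a => rfl
  have hh1 : ∀ k : ℕ, h ^ k - 1 ∈ J := by
    intro k
    induction k with
    | zero => simp
    | succ k ih =>
      have : h ^ (k + 1) - 1 = h ^ k * (h - 1) + (h ^ k - 1) := by ring
      rw [this]
      exact J.add_mem (J.mul_mem_left _ hh) ih
  refine ⟨AlgEquiv.ofBijective φ ⟨?_, ?_⟩⟩
  · rw [injective_iff_map_eq_zero]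
    intro x hx
    obtain ⟨a, rfl⟩ := Ideal.Quotient.mk_surjective x
    rw [hφ, Ideal.Quotient.eq_zero_iff_mem,
      IsLocalization.mem_map_algebraMap_iff (Submonoid.powers h)] at hx
    obtain ⟨⟨⟨b, hb⟩, ⟨_, k, rfl⟩⟩, hbk⟩ := hx
    rw [← map_mul, IsLocalization.eq_iff_exists (Submonoid.powers h)] at hbk
    obtain ⟨⟨_, m, rfl⟩, hm⟩ := hbk
    rw [Ideal.Quotient.eq_zero_iff_mem]
    have h1 : h ^ m * (a * h ^ k) ∈ J := by
      have : h ^ m * (a * h ^ k) = h ^ m * b := hm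
      rw [this]
      exact J.mul_mem_left _ hb
    have h2 : a = h ^ m * (a * h ^ k) - a * (h ^ (m + k) - 1) := by
      rw [pow_add]
      ring
    rw [h2]
    exact J.sub_mem h1 (J.mul_mem_left _ (hh1 _))
  · intro y
    obtain ⟨y, rfl⟩ := Ideal.Quotient.mk_surjective y
    obtain ⟨a, ⟨_, k, rfl⟩, rfl⟩ := IsLocalization.exists_mk'_eq (Submonoid.powers h) y
    refine ⟨Ideal.Quotient.mk J a, ?_⟩
    rw [hφ, Ideal.Quotient.eq, ← Ideal.neg_mem_iff]
    have h3 : -(algebraMap A L a - IsLocalization.mk' L a (⟨h ^ k, k, rfl⟩ : Submonoid.powers h)) =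
        IsLocalization.mk' L (a * (1 - h ^ k)) (⟨h ^ k, k, rfl⟩ : Submonoid.powers h) := by
      rw [IsLocalization.eq_mk'_iff_mul_eq]
      have := IsLocalization.mk'_spec L a (⟨h ^ k, k, rfl⟩ : Submonoid.powers h)
      rw [neg_sub, sub_mul, this, ← map_mul, ← map_sub]
      congr 1
      change a - a * h ^ k = _
      ring
    rw [h3, IsLocalization.mk'_mem_map_algebraMap_iff]
    refine ⟨1, one_mem _, ?_⟩
    rw [one_mul]
    have : a * (1 - h ^ k) = -(a * (h ^ k - 1)) := by ring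
    rw [this]
    exact J.neg_mem (J.mul_mem_left _ (hh1 k))

end Q2

section Q1

variable (R : Type u) [CommRing R] (I : Ideal R) (n c : ℕ) (F : Fin c → MvPolynomial (Fin n) R)

/-- reduction modulo `I` of a presented algebra -/
theorem nonempty_quotient_equiv_relGCIRing :
    Nonempty ((Synt.RelGCIRing R n c F ⧸ I.map (algebraMap R (Synt.RelGCIRing R n c F))) ≃ₐ[R]
      Synt.RelGCIRing (R ⧸ I) n c (fun i => MvPolynomial.map (Ideal.Quotient.mk I) (F i))) := by
  let A := MvPolynomial (Fin n) R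
  let Ā := MvPolynomial (Fin n) (R ⧸ I)
  let Fb : Fin c → Ā := fun i => MvPolynomial.map (Ideal.Quotient.mk I) (F i)
  let S₀ := Synt.RelGCIRing R n c F
  let Tb := Synt.RelGCIRing (R ⧸ I) n c Fb
  let m : A →ₐ[R] Ā := MvPolynomial.mapAlgHom (Ideal.Quotient.mkₐ R I)
  have hm : ∀ p : A, m p = MvPolynomial.map (Ideal.Quotient.mk I) p := fun p => rfl
  have hmsurj : Function.Surjective m :=
    MvPolynomial.map_surjective _ Ideal.Quotient.mk_surjective
  let Φ₀ : A →ₐ[R] Tb := (Ideal.Quotient.mkₐ R (Ideal.span (Set.range Fb))).comp m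
  have hΦ₀ : ∀ a ∈ Ideal.span (Set.range F), Φ₀ a = 0 := by
    intro a ha
    have : Ideal.span (Set.range F) ≤ RingHom.ker Φ₀.toRingHom := by
      rw [Ideal.span_le]
      rintro _ ⟨i, rfl⟩
      rw [SetLike.mem_coe, RingHom.mem_ker]
      change Ideal.Quotient.mk _ (m (F i)) = 0
      exact Ideal.Quotient.eq_zero_iff_mem.mpr (Ideal.subset_span ⟨i, rfl⟩)
    exact (RingHom.mem_ker).mp (this ha)
  let Φ₁ : S₀ →ₐ[R] Tb := Ideal.Quotient.liftₐ _ Φ₀ hΦ₀
  have hΦ₁ : ∀ p : A, Φ₁ (Ideal.Quotient.mk _ p) = Ideal.Quotient.mk _ (m p) := fun p => rfl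
  have hΦ₁I : ∀ a ∈ I.map (algebraMap R S₀), Φ₁ a = 0 := by
    intro a ha
    have : I.map (algebraMap R S₀) ≤ RingHom.ker Φ₁.toRingHom := by
      rw [Ideal.map_le_iff_le_comap]
      intro r hr
      rw [Ideal.mem_comap, RingHom.mem_ker]
      change Φ₁ (algebraMap R S₀ r) = 0
      rw [Φ₁.commutes, IsScalarTower.algebraMap_apply R (R ⧸ I) Tb,
        Ideal.Quotient.algebraMap_eq, Ideal.Quotient.eq_zero_iff_mem.mpr hr, map_zero]
    exact (RingHom.mem_ker).mp (this ha)
  let Φ : (S₀ ⧸ I.map (algebraMap R S₀)) →ₐ[R] Tb := Ideal.Quotient.liftₐ _ Φ₁ hΦ₁I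
  have hΦ : ∀ s : S₀, Φ (Ideal.Quotient.mk _ s) = Φ₁ s := fun s => rfl
  refine ⟨AlgEquiv.ofBijective Φ ⟨?_, ?_⟩⟩
  · rw [injective_iff_map_eq_zero]
    intro x hx
    obtain ⟨s, rfl⟩ := Ideal.Quotient.mk_surjective x
    obtain ⟨p, rfl⟩ := Ideal.Quotient.mk_surjective s
    rw [hΦ, hΦ₁, Ideal.Quotient.eq_zero_iff_mem] at hx
    have hspan : Ideal.span (Set.range Fb) = (Ideal.span (Set.range F)).map m.toRingHom := by
      rw [Ideal.map_span, ← Set.range_comp]
      rfl
    rw [hspan] at hx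
    obtain ⟨p', hp', hpp'⟩ := (Ideal.mem_map_iff_of_surjective m.toRingHom hmsurj).mp hx
    have hker : p - p' ∈ I.map (MvPolynomial.C : R →+* A) := by
      have h1 : p - p' ∈ RingHom.ker (MvPolynomial.map (Ideal.Quotient.mk I) :
          MvPolynomial (Fin n) R →+* MvPolynomial (Fin n) (R ⧸ I)) := by
        rw [RingHom.mem_ker, map_sub, sub_eq_zero]
        exact hpp'.symm
      rw [MvPolynomial.ker_map, Ideal.mk_ker] at h1
      exact h1
    rw [Ideal.Quotient.eq_zero_iff_mem]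
    have h2 : Ideal.Quotient.mk (Ideal.span (Set.range F)) p =
        Ideal.Quotient.mk (Ideal.span (Set.range F)) (p - p') := by
      rw [map_sub, Ideal.Quotient.eq_zero_iff_mem.mpr hp', sub_zero]
    rw [h2]
    have h3 : (I.map (MvPolynomial.C : R →+* A)).map (Ideal.Quotient.mk (Ideal.span (Set.range F))) =
        I.map (algebraMap R S₀) := by
      rw [Ideal.map_map]
      rfl
    rw [← h3]
    exact Ideal.mem_map_of_mem _ hker
  · intro y
    obtain ⟨y, rfl⟩ := Ideal.Quotient.mk_surjective y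
    obtain ⟨p, rfl⟩ := hmsurj y
    exact ⟨Ideal.Quotient.mk _ (Ideal.Quotient.mk _ p), rfl⟩

end Q1

open Groth.Agent.Lib.R2H4.SyntStd

section Main

variable (R : Type u) [CommRing R] (I : Ideal R)

/-- lifting one relative global complete intersection over `R ⧸ I` to `R` -/
theorem exists_lift_relGCI (n c : ℕ) (Fb : Fin c → MvPolynomial (Fin n) (R ⧸ I))
    (hrel : Synt.IsRelGCI (R ⧸ I) n c Fb) :
    ∃ (n' c' : ℕ) (F : Fin c' → MvPolynomial (Fin n') R), Synt.IsRelGCI R n' c' F ∧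
      Nonempty (Synt.RelGCIRing (R ⧸ I) n c Fb ≃ₐ[R]
        (Synt.RelGCIRing R n' c' F ⧸ I.map (algebraMap R (Synt.RelGCIRing R n' c' F)))) := by
  have hsurj : Function.Surjective (MvPolynomial.map (Ideal.Quotient.mk I) :
      MvPolynomial (Fin n) R → MvPolynomial (Fin n) (R ⧸ I)) :=
    MvPolynomial.map_surjective _ Ideal.Quotient.mk_surjective
  choose F hF using fun i => hsurj (Fb i)
  have hFb : (fun i => MvPolynomial.map (Ideal.Quotient.mk I) (F i)) = Fb := funext hF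
  rw [← hFb] at hrel ⊢
  obtain ⟨h, hh1, hrel', ⟨e⟩⟩ := Groth.Agent.Lib.R2H4.RelGCIAway.exists_relGCI_of_closed R n c F I hrel
  refine ⟨n + 1, c + 1, _, hrel', ?_⟩
  let S₀ := Synt.RelGCIRing R n c F
  let hb : S₀ := Ideal.Quotient.mk (Ideal.span (Set.range F)) h
  obtain ⟨e₁⟩ := nonempty_quotient_equiv_relGCIRing R I n c F
  have hmem : hb - 1 ∈ I.map (algebraMap R S₀) := by
    rw [← Ideal.Quotient.eq_zero_iff_mem, map_sub, map_one, sub_eq_zero]
    exact hh1
  obtain ⟨e₂⟩ := nonempty_quotient_equiv_away (R := R) (I.map (algebraMap R S₀)) hb hmem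
  have hmap : (I.map (algebraMap R S₀)).map (algebraMap S₀ (Localization.Away hb)) =
      I.map (algebraMap R (Localization.Away hb)) := by
    rw [Ideal.map_map, ← IsScalarTower.algebraMap_eq]
  let e₃ : (Localization.Away hb ⧸ (I.map (algebraMap R S₀)).map
      (algebraMap S₀ (Localization.Away hb))) ≃ₐ[R]
      (Localization.Away hb ⧸ I.map (algebraMap R (Localization.Away hb))) :=
    Ideal.quotientEquivAlgOfEq R hmap
  let e₄ := Ideal.quotientEquivAlg (I.map (algebraMap R (Localization.Away hb)))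
    (I.map (algebraMap R (Synt.RelGCIRing R (n + 1) (c + 1) _))) e (by
      rw [Ideal.map_map]
      congr 1
      ext r
      exact (e.commutes r).symm)
  exact ⟨e₁.symm.trans (e₂.trans (e₃.trans e₄))⟩

theorem main9150 (Sb : Type u) [CommRing Sb]
    [Algebra R Sb] [Algebra (R ⧸ I) Sb] [IsScalarTower R (R ⧸ I) Sb]
    (h : Synt.IsSyntomic (R ⧸ I) Sb) :
    ∃ s : Finset Sb, Ideal.span (s : Set Sb) = ⊤ ∧ ∀ g ∈ s,
      ∃ (n c : ℕ) (F : Fin c → MvPolynomial (Fin n) R), Synt.IsRelGCI R n c F ∧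
        Nonempty (Localization.Away g ≃ₐ[R]
          (Synt.RelGCIRing R n c F ⧸ I.map (algebraMap R (Synt.RelGCIRing R n c F)))) := by
  classical
  set G : Set Sb := {g | ∃ (n c : ℕ) (F : Fin c → MvPolynomial (Fin n) R), Synt.IsRelGCI R n c F ∧
        Nonempty (Localization.Away g ≃ₐ[R]
          (Synt.RelGCIRing R n c F ⧸ I.map (algebraMap R (Synt.RelGCIRing R n c F))))} with hG
  have hspan : Ideal.span G = ⊤ := by
    by_contra hne
    obtain ⟨m, hm, hle⟩ := Ideal.exists_le_maximal _ hne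
    haveI := hm.isPrime
    obtain ⟨g, hgm, n, c, Fb, hrel, ⟨ε⟩⟩ := exists_relGCI_nhd_of_isSyntomic (R ⧸ I) Sb h m
    obtain ⟨n', c', F, hrel', ⟨e'⟩⟩ := exists_lift_relGCI R I n c Fb hrel
    have hgG : g ∈ G := ⟨n', c', F, hrel', ⟨(ε.restrictScalars R).trans e'⟩⟩
    exact hgm (hle (Ideal.subset_span hgG))
  obtain ⟨s, hsG, hs⟩ := (Ideal.span_eq_top_iff_finite G).mp hspan
  exact ⟨s, hs, fun g hg => hsG hg⟩

end Main

end Groth.Agent.Lib.R2H4.SyntLift
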