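import Mathlib
import Groth.Prelude
import Groth.Agent.Lib.R2H4GermInj

/-!
# Torsion free modules on reduced Noetherian schemes and dense opens (helper4, round 2)

* `exists_isMaxPt_germ_ne_zero`: a nonzero germ of a torsion free quasi-coherent module on a reduced locally
  Noetherian scheme stays nonzero at some maximal point.
* `mem_of_isMaxPt_of_dense`: maximal points of a Noetherian scheme lie in every dense open.
* `eq_zero_of_restrict_eq_zero`: morphisms into a torsion free module vanishing on a dense open vanish.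
* `exists_iso_of_restrict_iso`: S18914.
-/

set_option autoImplicit false
universe u
open CategoryTheory CategoryTheory.Limits AlgebraicGeometry TopologicalSpace

namespace Groth.Agent.Lib.R2H4TFDense

open Groth.Agent.Lib.Helper11SchImage Groth.Agent.Lib.R2H4GermInj

variable {X : Scheme.{u}}

/-- a nonzero germ of a torsion free module survives at a maximal point -/
theorem exists_isMaxPt_germ_ne_zero [IsReduced X] [IsLocallyNoetherian X] (F : X.Modules)
    [F.IsQuasicoherent] (htF : TorSh.IsTorsionFree F) (U : X.Opens) (s : Γ(F, U)) (y : X)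
    (hyU : y ∈ U) (hne : F.presheaf.germ U y hyU s ≠ 0) :
    ∃ (η : X) (hηU : η ∈ U), IsMaxPt η ∧ η ⤳ y ∧ F.presheaf.germ U η hηU s ≠ 0 := by
  set m := F.presheaf.germ U y hyU s with hm
  let I : Ideal (X.presheaf.stalk y) :=
    LinearMap.ker (LinearMap.toSpanSingleton (X.presheaf.stalk y) (F.presheaf.stalk y) m)
  have hImem : ∀ a, a ∈ I ↔ a • m = 0 := by
    intro a
    rw [LinearMap.mem_ker, LinearMap.toSpanSingleton_apply]
  have hI : ∀ a ∈ I, a ∉ nonZeroDivisors (X.presheaf.stalk y) := by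
    intro a haI hreg
    apply hne
    have h1 : a • m = 0 := (hImem a).1 haI
    have := htF y
    have hreg' : IsRegular a := isRegular_iff_mem_nonZeroDivisors.2 hreg
    have h2 : IsSMulRegular (F.presheaf.stalk y) a := hreg'.isSMulRegular
    exact h2 (show a • m = a • 0 by rw [h1, smul_zero])
  obtain ⟨P, hPmin, hIP⟩ := exists_minimalPrime_ge (X.presheaf.stalk y) I hI
  have hPprime : P.IsPrime := hPmin.1.1
  let Pt : ↥(Spec (X.presheaf.stalk y)) := ⟨P, hPprime⟩
  set η := X.fromSpecStalk y Pt with hη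
  have hmax : IsMaxPt η := isMaxPt_fromSpecStalk y Pt hPmin
  have hηy : η ⤳ y := by
    have h1 : η ∈ Set.range (X.fromSpecStalk y) := ⟨Pt, rfl⟩
    rw [Scheme.range_fromSpecStalk] at h1
    exact h1
  have hηU : η ∈ U := hηy.mem_open U.2 hyU
  refine ⟨η, hηU, hmax, hηy, ?_⟩
  intro hsη
  obtain ⟨W, hW, hyW, hWU'⟩ := exists_isAffineOpen_mem_and_subset (X := X) (x := y) (U := U) hyU
  have hWU : W ≤ U := hWU'
  have hηW : η ∈ W := hηy.mem_open W.2 hyW
  have hsηW : F.presheaf.germ W η hηW (F.presheaf.map (homOfLE hWU).op s) = 0 :=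
    (TopCat.Presheaf.germ_res_apply F.presheaf (homOfLE hWU) η hηW s).trans hsη
  obtain ⟨t, hηt, hts⟩ :=
    Groth.Agent.Lib.Helper2.QCoh.exists_smul_eq_zero_of_germ_eq_zero hW F η hηW _ hsηW
  have htI : X.presheaf.germ W y hyW t ∈ I := by
    rw [hImem]
    have e1 : m = F.presheaf.germ W y hyW (F.presheaf.map (homOfLE hWU).op s) :=
      (TopCat.Presheaf.germ_res_apply F.presheaf (homOfLE hWU) y hyW s).symm
    rw [e1, ← Mero.germ_smul, hts, map_zero]
  have htP : X.presheaf.germ W y hyW t ∈ P := hIP htI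
  have hunit : IsUnit (X.presheaf.germ W η hηW t) := (X.mem_basicOpen t η hηW).1 hηt
  have hPt : Spec.map (X.presheaf.stalkSpecializes hηy) (IsLocalRing.closedPoint _) = Pt := by
    apply (X.fromSpecStalk y).isEmbedding.injective
    rw [← Scheme.Hom.comp_apply, Scheme.SpecMap_stalkSpecializes_fromSpecStalk,
      Scheme.fromSpecStalk_closedPoint]
  have hmem : (X.presheaf.stalkSpecializes hηy).hom (X.presheaf.germ W y hyW t) ∈
      IsLocalRing.maximalIdeal (X.presheaf.stalk η) := by
    have h2 : X.presheaf.germ W y hyW t ∈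
        (Spec.map (X.presheaf.stalkSpecializes hηy) (IsLocalRing.closedPoint _)).asIdeal := by
      rw [hPt]
      exact htP
    exact h2
  rw [TopCat.Presheaf.germ_stalkSpecializes_apply] at hmem
  exact (IsLocalRing.mem_maximalIdeal _).1 hmem hunit

/-- maximal points of a Noetherian scheme lie in every dense open -/
theorem mem_of_isMaxPt_of_dense [IsNoetherian X] (U : X.Opens) (hU : Dense (U : Set X)) (η : X)
    (hη : IsMaxPt η) : η ∈ U := by
  have hZ : irreducibleComponent η ∈ irreducibleComponents X :=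
    irreducibleComponent_mem_irreducibleComponents η
  obtain ⟨ξ, hξ⟩ := QuasiSober.sober (isIrreducible_irreducibleComponent (x := η))
    (isClosed_irreducibleComponent (x := η))
  have hξη : ξ ⤳ η := by
    rw [specializes_iff_mem_closure, hξ.def]
    exact mem_irreducibleComponent
  have hξe : ξ = η := hη ξ hξη
  obtain ⟨o, ho, hne, hsub⟩ :=
    NoetherianSpace.exists_isOpen_nonempty_subset_irreducibleComponent (irreducibleComponent η) hZ
  obtain ⟨z, hzo, hzU⟩ := hU.inter_open_nonempty o ho hne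
  have hz : z ∈ closure ({η} : Set X) := by
    rw [← hξe, hξ.def]
    exact hsub hzo
  rw [← specializes_iff_mem_closure] at hz
  exact hz.mem_open U.2 hzU

/-- a morphism into a torsion free module which vanishes on a dense open vanishes -/
theorem eq_zero_of_restrict_eq_zero [IsReduced X] [IsNoetherian X] {K F : X.Modules}
    [F.IsQuasicoherent] (htF : TorSh.IsTorsionFree F) (U : X.Opens) (hU : Dense (U : Set X))
    (g : K ⟶ F) (hg : (Scheme.Modules.restrictFunctor U.ι).map g = 0) : g = 0 := by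
  ext V s
  change g.app V s = 0
  apply Groth.Agent.Lib.Helper2.QcPush.section_eq_zero_of_germ F V
  intro y hyV
  by_contra hne
  obtain ⟨η, hηV, hmax, -, hηne⟩ := exists_isMaxPt_germ_ne_zero F htF V (g.app V s) y hyV hne
  have hηU : η ∈ U := mem_of_isMaxPt_of_dense U hU η hmax
  apply hηne
  have himg : U.ι ''ᵁ (U.ι ⁻¹ᵁ V) = U ⊓ V := by
    rw [Scheme.Hom.image_preimage_eq_opensRange_inf, Scheme.Opens.opensRange_ι]
  have hle : U.ι ''ᵁ (U.ι ⁻¹ᵁ V) ≤ V := by rw [himg]; exact inf_le_right
  have hηW : η ∈ U.ι ''ᵁ (U.ι ⁻¹ᵁ V) := by rw [himg]; exact ⟨hηU, hηV⟩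
  have h0 : g.app (U.ι ''ᵁ (U.ι ⁻¹ᵁ V)) (K.presheaf.map (homOfLE hle).op s) = 0 := by
    have h1 : ((Scheme.Modules.restrictFunctor U.ι).map g).app (U.ι ⁻¹ᵁ V)
        (K.presheaf.map (homOfLE hle).op s) = 0 := by
      rw [hg]
      rfl
    exact h1
  have hnat : F.presheaf.map (homOfLE hle).op (g.app V s) =
      g.app (U.ι ''ᵁ (U.ι ⁻¹ᵁ V)) (K.presheaf.map (homOfLE hle).op s) := by
    exact (congr($((Scheme.Modules.Hom.mapPresheaf g).naturality (homOfLE hle).op) s)).symm
  rw [← TopCat.Presheaf.germ_res_apply F.presheaf (homOfLE hle) η hηW, hnat, h0, map_zero]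

/-- quotients of `E` by torsion free modules which agree on a dense open agree (S18914) -/
theorem exists_iso_of_restrict_iso [IsReduced X] [IsNoetherian X] (E F₁ F₂ : X.Modules)
    [F₁.IsQuasicoherent] [F₂.IsQuasicoherent]
    (ht₁ : TorSh.IsTorsionFree F₁) (ht₂ : TorSh.IsTorsionFree F₂)
    (q₁ : E ⟶ F₁) (q₂ : E ⟶ F₂) [Epi q₁] [Epi q₂]
    (U : X.Opens) (hU : Dense (U : Set X))
    (φ : F₁.restrict U.ι ≅ F₂.restrict U.ι)
    (hφ : (Scheme.Modules.restrictFunctor U.ι).map q₁ ≫ φ.hom =
      (Scheme.Modules.restrictFunctor U.ι).map q₂) :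
    ∃ ψ : F₁ ≅ F₂, q₁ ≫ ψ.hom = q₂ ∧ (Scheme.Modules.restrictFunctor U.ι).map ψ.hom = φ.hom := by
  have hφ' : (Scheme.Modules.restrictFunctor U.ι).map q₂ ≫ φ.inv =
      (Scheme.Modules.restrictFunctor U.ι).map q₁ := by
    rw [← hφ, Category.assoc, Iso.hom_inv_id, Category.comp_id]
  have h12 : kernel.ι q₁ ≫ q₂ = 0 := by
    apply eq_zero_of_restrict_eq_zero ht₂ U hU
    rw [Functor.map_comp, ← hφ, ← Category.assoc, ← Functor.map_comp, kernel.condition,
      Functor.map_zero, zero_comp]
  have h21 : kernel.ι q₂ ≫ q₁ = 0 := by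
    apply eq_zero_of_restrict_eq_zero ht₁ U hU
    rw [Functor.map_comp, ← hφ', ← Category.assoc, ← Functor.map_comp, kernel.condition,
      Functor.map_zero, zero_comp]
  let ψ : F₁ ≅ F₂ :=
    { hom := Abelian.epiDesc q₁ q₂ h12
      inv := Abelian.epiDesc q₂ q₁ h21
      hom_inv_id := by
        rw [← cancel_epi q₁, Abelian.comp_epiDesc_assoc, Abelian.comp_epiDesc, Category.comp_id]
      inv_hom_id := by
        rw [← cancel_epi q₂, Abelian.comp_epiDesc_assoc, Abelian.comp_epiDesc, Category.comp_id] }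
  have h1 : q₁ ≫ ψ.hom = q₂ := Abelian.comp_epiDesc q₁ q₂ h12
  refine ⟨ψ, h1, ?_⟩
  haveI : (Scheme.Modules.restrictFunctor U.ι).PreservesEpimorphisms :=
    Functor.preservesEpimorphisms_of_adjunction (Scheme.Modules.restrictAdjunction U.ι)
  haveI : Epi ((Scheme.Modules.restrictFunctor U.ι).map q₁) := inferInstance
  rw [← cancel_epi ((Scheme.Modules.restrictFunctor U.ι).map q₁), ← Functor.map_comp, h1, hφ]

end Groth.Agent.Lib.R2H4TFDense
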