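import Mathlib
import Groth.Agent.Lib.R2LeadCohFormalA
import Groth.Agent.Lib.R2H3FormalKer
import Groth.Agent.Lib.R2H3GradedNoeth
import Groth.Agent.Lib.R2H3GradedFam
import Groth.Agent.Lib.R2H2PnHilbPoly
import Groth.Agent.Lib.Helper26ModSec
import Groth.Agent.Lib.Helper26ModLim

/-!
# Kernels of levelwise epimorphisms onto coherent formal modules (lead, round 2)

`X` Noetherian over `Spec A`, `I` a finitely generated ideal, `E` coherent, `G` a coherent formal module and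
`φ : completion I E ⟶ G` a levelwise epimorphism.  By a graded Artin–Rees argument (helper3's
`GradedNoeth.exists_bound`) the levelwise kernels `K_n = Ker φ_n` give a coherent formal module
`K'_n = K_{c+n}/I^{n+1}K_{c+n}` with a morphism `j : K' ⟶ completion I E` whose levelwise images are the `K_n`
(`exists_kernel_system`).
-/

set_option autoImplicit false
set_option linter.style.haveILetI false
universe u
open CategoryTheory CategoryTheory.Limits AlgebraicGeometry TopologicalSpace Opposite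

namespace Groth.Agent.Lib.R2Lead.CohFormalC

open Groth.Agent.Lib.R2H2.FlatDev Groth.Agent.Lib.R2Lead.CohFormalA Groth.Agent.Lib.R2H3.FormalKer
  Groth.Agent.Lib.R2H3.GradedFam Groth.Agent.Lib.R2H2.SheafBC Groth.Agent.Lib.Helper20.PullbackAff
  Groth.Agent.Lib.Helper26.ModSec Groth.Agent.Lib.Helper20.Thickening

variable {A : Type u} [CommRing A] {X : Scheme.{u}} [X.Over (Spec (CommRingCat.of A))]

/-! ### sections killed by a morphism -/

/-- the sections over `U` killed by `f` -/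
def kerS {M N : X.Modules} (f : M ⟶ N) (U : X.Opens) : Submodule Γ(X, U) Γ(M, U) where
  carrier := {x | f.app U x = 0}
  add_mem' := fun {y z} hy hz => by
    change f.app U (y + z) = 0
    rw [map_add, hy, hz, add_zero]
  zero_mem' := map_zero _
  smul_mem' := fun r y hy => by
    change f.app U (r • y) = 0
    rw [Scheme.Modules.Hom.app_smul, hy, smul_zero]

theorem mem_kerS {M N : X.Modules} (f : M ⟶ N) (U : X.Opens) (x : Γ(M, U)) :
    x ∈ kerS f U ↔ f.app U x = 0 := Iff.rfl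

/-- `J`-multiples lift along maps surjective on sections -/
theorem exists_mem_JS_app_eq (J : Ideal A) {M N : X.Modules} (f : M ⟶ N) (U : X.Opens)
    (hf : Function.Surjective (f.app U)) (y : Γ(N, U)) (hy : y ∈ JS J N U) :
    ∃ x ∈ JS J M U, f.app U x = y := by
  unfold JS at hy ⊢
  refine Submodule.smul_induction_on hy ?_ ?_
  · intro c hc w _
    obtain ⟨w', rfl⟩ := hf w
    exact ⟨c • w', Submodule.smul_mem_smul hc Submodule.mem_top, Scheme.Modules.Hom.app_smul _ _ _⟩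
  · rintro y₁ y₂ ⟨x₁, h₁, rfl⟩ ⟨x₂, h₂, rfl⟩
    exact ⟨x₁ + x₂, Submodule.add_mem _ h₁ h₂, map_add _ _ _⟩

/-- `J`-multiples of sections of a kernel -/
theorem exists_mem_JS_kernelι (J : Ideal A) {M N : X.Modules} (f : M ⟶ N) (U : X.Opens) (x : Γ(M, U))
    (hx : x ∈ (J.map (bW (X ↘ Spec (CommRingCat.of A)) U)) • kerS f U) :
    ∃ s ∈ JS J (kernel f) U, (kernel.ι f).app U s = x := by
  refine Submodule.smul_induction_on hx ?_ ?_
  · intro c hc w hw
    obtain ⟨s, rfl⟩ := exists_app_kernelι f U w hw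
    exact ⟨c • s, Submodule.smul_mem_smul hc Submodule.mem_top, Scheme.Modules.Hom.app_smul _ _ _⟩
  · rintro y₁ y₂ ⟨x₁, h₁, rfl⟩ ⟨x₂, h₂, rfl⟩
    exact ⟨x₁ + x₂, Submodule.add_mem _ h₁ h₂, map_add _ _ _⟩

/-! ### the setting -/

section setting

variable {I : Ideal A} {E : X.Modules} {G : ℕᵒᵖ ⥤ X.Modules}
  (φ : Formal.completion I E ⟶ G)

local notation "Ê" => Formal.completion I E

theorem tr_φ (n : ℕ) : tr Ê n ≫ φ.app (op n) = φ.app (op (n + 1)) ≫ tr G n :=
  φ.naturality _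

theorem map_le_φ {n m : ℕ} (h : n ≤ m) :
    (Ê).map (homOfLE h).op ≫ φ.app (op n) = φ.app (op m) ≫ G.map (homOfLE h).op :=
  φ.naturality _

theorem abar_φ (hE : Formal.IsCohFormal I Ê) (hG : Formal.IsCohFormal I G) (a : A) (ha : a ∈ I) (n : ℕ) :
    abar hE a ha n ≫ φ.app (op (n + 1)) = φ.app (op n) ≫ abar hG a ha n := by
  haveI := epi_tr hE n
  rw [← cancel_epi (tr Ê n), ← Category.assoc, tr_abar, ← Category.assoc, tr_φ, Category.assoc, tr_abar,
    Groth.Agent.S9530.smulMod_comp]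

/-- the levelwise kernels -/
noncomputable abbrev K (n : ℕ) : X.Modules := kernel (φ.app (op n))

/-- the transition maps of the levelwise kernels -/
noncomputable def κle {n m : ℕ} (h : n ≤ m) : K φ m ⟶ K φ n :=
  kernel.lift _ (kernel.ι (φ.app (op m)) ≫ (Ê).map (homOfLE h).op) (by
    rw [Category.assoc, map_le_φ, ← Category.assoc, kernel.condition, zero_comp])

@[reassoc]
theorem κle_ι {n m : ℕ} (h : n ≤ m) :
    κle φ h ≫ kernel.ι (φ.app (op n)) = kernel.ι (φ.app (op m)) ≫ (Ê).map (homOfLE h).op :=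
  kernel.lift_ι _ _ _

theorem κle_refl (n : ℕ) : κle φ (le_refl n) = 𝟙 _ := by
  rw [← cancel_mono (kernel.ι (φ.app (op n))), κle_ι, Category.id_comp]
  have : (homOfLE (le_refl n)).op = 𝟙 (op n) := rfl
  rw [this, (Ê).map_id, Category.comp_id]

theorem κle_comp {n m l : ℕ} (h : n ≤ m) (h' : m ≤ l) :
    κle φ h' ≫ κle φ h = κle φ (h.trans h') := by
  rw [← cancel_mono (kernel.ι (φ.app (op n))), Category.assoc, κle_ι, κle_ι_assoc, κle_ι, ← (Ê).map_comp]
  rfl

end setting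

/-! ### surjectivity on sections and Artin–Rees -/

section AR

variable {I : Ideal A} {E : X.Modules} {G : ℕᵒᵖ ⥤ X.Modules}
  (hE : Coh.IsCoh E) (hG : Formal.IsCohFormal I G)
  (φ : Formal.completion I E ⟶ G) (hφ : ∀ n, Epi (φ.app (op n)))

local notation "Ê" => Formal.completion I E

include hE hG hφ in
/-- sections of `K_n` over affine opens lift to `K_{n+1}` -/
theorem exists_lift_kerS (n : ℕ) {U : X.Opens} (hU : IsAffineOpen U)
    (x : Γ((Ê).obj (op n), U)) (hx : x ∈ kerS (φ.app (op n)) U) :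
    ∃ y ∈ kerS (φ.app (op (n + 1))) U, (tr Ê n).app U y = x := by
  have hÊ := isCohFormal_completion I hE
  haveI : ∀ m, ((Ê).obj (op m)).IsQuasicoherent := fun m => (hÊ.1 m).1
  haveI : ∀ m, (G.obj (op m)).IsQuasicoherent := fun m => (hG.1 m).1
  haveI := epi_tr hÊ n
  haveI := hφ (n + 1)
  obtain ⟨y0, hy0⟩ := Groth.Agent.Lib.Helper23.FinType.surjective_app_of_epi (tr Ê n) hU x
  have h1 : (tr G n).app U ((φ.app (op (n + 1))).app U y0) = 0 := by
    change (φ.app (op (n + 1)) ≫ tr G n).app U y0 = 0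
    rw [← tr_φ]
    change (φ.app (op n)).app U ((tr Ê n).app U y0) = 0
    rw [hy0]
    exact hx
  have h2 := (tr_app_eq_zero_iff hG n hU _).1 h1
  obtain ⟨z, hz, hzy⟩ := exists_mem_JS_app_eq (I ^ (n + 1)) (φ.app (op (n + 1))) U
    (Groth.Agent.Lib.Helper23.FinType.surjective_app_of_epi (φ.app (op (n + 1))) hU) _ h2
  refine ⟨y0 - z, ?_, ?_⟩
  · change (φ.app (op (n + 1))).app U (y0 - z) = 0
    rw [map_sub, hzy, sub_self]
  · rw [map_sub, hy0, (tr_app_eq_zero_iff hÊ n hU z).2 hz, sub_zero]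

include hE in
theorem abar_tr_app (a : A) (ha : a ∈ I) (m : ℕ) (U : X.Opens) (y : Γ((Ê).obj (op (m + 1)), U)) :
    (abar (isCohFormal_completion I hE) a ha m).app U ((tr Ê m).app U y) =
      (bW (X ↘ Spec (CommRingCat.of A)) U a : Γ(X, U)) • y := by
  change (tr Ê m ≫ abar (isCohFormal_completion I hE) a ha m).app U y = _
  rw [tr_abar]
  rfl

variable [IsLocallyNoetherian X]

include hE hG hφ in
/-- **Artin–Rees** for the levelwise kernels over an affine open -/
theorem exists_AR (hI : I.FG) {U : X.Opens} (hU : IsAffineOpen U) :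
    ∃ d' : ℕ, ∀ m i : ℕ, d' + i ≤ m → ∀ x : Γ((Ê).obj (op (m + 1)), U),
      (tr Ê m).app U x = 0 → (φ.app (op (m + 1))).app U x = 0 →
      x ∈ ((I ^ i).map (bW (X ↘ Spec (CommRingCat.of A)) U)) • kerS (φ.app (op (m + 1))) U := by
  classical
  have hÊ := isCohFormal_completion I hE
  obtain ⟨r, a, hspan⟩ := Submodule.fg_iff_exists_fin_generating_family.1 hI
  have ha : ∀ j, a j ∈ I := fun j => by
    rw [← hspan]
    exact Submodule.subset_span ⟨j, rfl⟩
  haveI : IsNoetherianRing Γ(X, U) := IsLocallyNoetherian.component_noetherian ⟨U, hU⟩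
  let 𝔈 : OpFam X r := kerFam hÊ a ha
  have hgen : GenOn 𝔈 hU 0 := genOn_kerFam hÊ a ha hspan hU
  have hcoh : ∀ k, Coh.IsCoh (𝔈.M k) := isCoh_kerFam hÊ a ha
  have hfin : ∀ k, Module.Finite Γ(X, U) (Nsec 𝔈 hU k) := fun k => by
    haveI : (𝔈.M k).IsQuasicoherent := (hcoh k).1
    exact Groth.Agent.Lib.Helper26.ModLim.finite_ΓUF (𝔈.M k) (hcoh k).2 hU
  -- the stable family of submodules
  let ψ : ∀ k, 𝔈.M k ⟶ G.obj (op (k + 1)) := fun k => kernel.ι (tr Ê k) ≫ φ.app (op (k + 1))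
  let P : ∀ k, Submodule Γ(X, U) (Nsec 𝔈 hU k) := fun k => LinearMap.ker ((ΓUF hU).map (ψ k)).hom
  have hψ : ∀ (j : Fin r) (k : ℕ), 𝔈.T j k ≫ ψ (k + 1) = ψ k ≫ abar hG (a j) (ha j) (k + 1) := by
    intro j k
    change Top hÊ (a j) (ha j) k ≫ kernel.ι (tr Ê (k + 1)) ≫ φ.app (op (k + 1 + 1)) =
      (kernel.ι (tr Ê k) ≫ φ.app (op (k + 1))) ≫ abar hG (a j) (ha j) (k + 1)
    rw [← Category.assoc, Top_ι, Category.assoc, abar_φ φ hÊ hG, Category.assoc]
  have hP : ∀ j k, (P k).map (tsec 𝔈 hU j k) ≤ P (k + 1) := by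
    rintro j k _ ⟨x, hx, rfl⟩
    change ((ΓUF hU).map (ψ (k + 1))).hom (((ΓUF hU).map (𝔈.T j k)).hom x) = 0
    have h1 : ((ΓUF hU).map (ψ (k + 1))).hom (((ΓUF hU).map (𝔈.T j k)).hom x) =
        ((ΓUF hU).map (𝔈.T j k ≫ ψ (k + 1))).hom x := by
      rw [Functor.map_comp]
      rfl
    rw [h1, hψ, Functor.map_comp]
    change ((ΓUF hU).map (abar hG (a j) (ha j) (k + 1))).hom (((ΓUF hU).map (ψ k)).hom x) = 0
    have hx' : ((ΓUF hU).map (ψ k)).hom x = 0 := hx
    rw [hx', map_zero]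
  obtain ⟨d', hd'⟩ := Groth.Agent.Lib.R2H3.GradedNoeth.exists_bound (R := Γ(X, U)) (Nsec 𝔈 hU) (tsec 𝔈 hU)
    (fun j j' k x => tsec_comm 𝔈 hU j j' k x) hfin 0 hgen P hP
  -- membership in `P` in terms of sections
  have hPmem : ∀ k (y : Γ(𝔈.M k, U)), toΓUF hU (𝔈.M k) y ∈ P k ↔ (ψ k).app U y = 0 := by
    intro k y
    change ((ΓUF hU).map (ψ k)).hom (toΓUF hU (𝔈.M k) y) = 0 ↔ _
    rw [ΓUF_map_toΓUF]
    constructor
    · intro h
      exact (toΓUF_bijective hU _).1 (h.trans (map_zero _).symm)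
    · intro h
      rw [h, map_zero]
  -- the inductive claim
  have claim : ∀ i : ℕ, ∀ y : Γ(𝔈.M (d' + i), U), (ψ (d' + i)).app U y = 0 →
      (kernel.ι (tr Ê (d' + i))).app U y ∈
        ((I ^ i).map (bW (X ↘ Spec (CommRingCat.of A)) U)) • kerS (φ.app (op (d' + i + 1))) U := by
    intro i
    induction i with
    | zero =>
      intro y hy
      rw [pow_zero, Ideal.one_eq_top, Ideal.map_top, Submodule.top_smul]
      exact hy
    | succ i ih =>
      intro y hy
      have hyP : toΓUF hU (𝔈.M (d' + i + 1)) y ∈ P (d' + i + 1) := (hPmem _ y).2 hy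
      have hsup := hd' (d' + i) (Nat.le_add_right _ _) hyP
      -- the predicate
      let g : Nsec 𝔈 hU (d' + i + 1) →+ Γ((Ê).obj (op (d' + i + 1 + 1)), U) :=
        ((kernel.ι (tr Ê (d' + i + 1))).app U).hom.comp
          ((ΓUEquiv hU (𝔈.M (d' + i + 1))).symm.toLinearMap.toAddMonoidHom)
      let C : Nsec 𝔈 hU (d' + i + 1) → Prop := fun z =>
        g z ∈ ((I ^ (i + 1)).map (bW (X ↘ Spec (CommRingCat.of A)) U)) •
            kerS (φ.app (op (d' + i + 1 + 1))) U
      have hC : C (toΓUF hU (𝔈.M (d' + i + 1)) y) := by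
        refine Submodule.iSup_induction (fun j => (P (d' + i)).map (tsec 𝔈 hU j (d' + i))) (motive := C)
          hsup ?_ ?_ ?_
        · rintro j _ ⟨x, hx, rfl⟩
          obtain ⟨x0, rfl⟩ := (toΓUF_bijective hU (𝔈.M (d' + i))).2 x
          have hx0 : (ψ (d' + i)).app U x0 = 0 := (hPmem _ x0).1 hx
          have h1 := ih x0 hx0
          have h2 : tsec 𝔈 hU j (d' + i) (toΓUF hU (𝔈.M (d' + i)) x0) =
              toΓUF hU (𝔈.M (d' + i + 1)) ((𝔈.T j (d' + i)).app U x0) := ΓUF_map_toΓUF hU _ x0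
          change (kernel.ι (tr Ê (d' + i + 1))).app U ((ΓUEquiv hU (𝔈.M (d' + i + 1))).symm
            (tsec 𝔈 hU j (d' + i) (toΓUF hU (𝔈.M (d' + i)) x0))) ∈ _
          rw [h2]
          have h3 : (ΓUEquiv hU (𝔈.M (d' + i + 1))).symm
              (toΓUF hU (𝔈.M (d' + i + 1)) ((𝔈.T j (d' + i)).app U x0)) = (𝔈.T j (d' + i)).app U x0 :=
            (ΓUEquiv hU (𝔈.M (d' + i + 1))).symm_apply_apply _
          rw [h3]
          have h4 : (kernel.ι (tr Ê (d' + i + 1))).app U ((𝔈.T j (d' + i)).app U x0) =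
              (abar hÊ (a j) (ha j) (d' + i + 1)).app U ((kernel.ι (tr Ê (d' + i))).app U x0) := by
            change (Top hÊ (a j) (ha j) (d' + i) ≫ kernel.ι (tr Ê (d' + i + 1))).app U x0 = _
            rw [Top_ι]
            rfl
          rw [h4]
          -- `abar` maps `I^i K_{k+1}` into `I^{i+1} K_{k+2}`
          refine Submodule.smul_induction_on h1 ?_ ?_
          · intro c hc w hw
            obtain ⟨w', hw', rfl⟩ := exists_lift_kerS hE hG φ hφ (d' + i + 1) hU w hw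
            rw [Scheme.Modules.Hom.app_smul, abar_tr_app hE]
            rw [pow_succ, Ideal.map_mul, Submodule.mul_smul]
            refine Submodule.smul_mem_smul hc ?_
            exact Submodule.smul_mem_smul (Ideal.mem_map_of_mem _ (ha j)) hw'
          · intro y₁ y₂ h₁ h₂
            rw [map_add]
            exact Submodule.add_mem _ h₁ h₂
        · change g 0 ∈ _
          rw [map_zero]
          exact Submodule.zero_mem _
        · intro z₁ z₂ h₁ h₂
          change g (z₁ + z₂) ∈ _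
          rw [map_add]
          exact Submodule.add_mem _ h₁ h₂
      have h5 : (ΓUEquiv hU (𝔈.M (d' + i + 1))).symm (toΓUF hU (𝔈.M (d' + i + 1)) y) = y :=
        (ΓUEquiv hU (𝔈.M (d' + i + 1))).symm_apply_apply _
      change (kernel.ι (tr Ê (d' + i + 1))).app U ((ΓUEquiv hU (𝔈.M (d' + i + 1))).symm
        (toΓUF hU (𝔈.M (d' + i + 1)) y)) ∈ _ at hC
      rwa [h5] at hC
  refine ⟨d', fun m i hmi x hx1 hx2 => ?_⟩
  obtain ⟨i', rfl⟩ := Nat.exists_eq_add_of_le (le_trans (Nat.le_add_right d' i) hmi)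
  have hii' : i ≤ i' := by omega
  obtain ⟨y, rfl⟩ := exists_app_kernelι (tr Ê (d' + i')) U x hx1
  have h6 := claim i' y hx2
  refine Submodule.smul_mono_left (Ideal.map_mono (Ideal.pow_le_pow_right hii')) h6

end AR

/-! ### epi and mono via sections over affine opens -/

section bridge

theorem epi_of_surjective_app_affine {M N : X.Modules} [M.IsQuasicoherent] [N.IsQuasicoherent] (ψ : M ⟶ N)
    (h : ∀ U : X.Opens, IsAffineOpen U → Function.Surjective (ψ.app U)) : Epi ψ := by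
  rw [epi_iff_ΓUF ψ (fun U : X.affineOpens => (U : X.Opens)) (iSup_affineOpens_eq_top X) (fun U => U.2)]
  intro U
  rw [ModuleCat.epi_iff_surjective]
  intro y
  obtain ⟨y0, rfl⟩ := (toΓUF_bijective U.2 N).2 y
  obtain ⟨x0, rfl⟩ := h U.1 U.2 y0
  exact ⟨toΓUF U.2 M x0, ΓUF_map_toΓUF U.2 ψ x0⟩

theorem mono_of_injective_app_cover {M N : X.Modules} [M.IsQuasicoherent] [N.IsQuasicoherent] (ψ : M ⟶ N)
    {ι : Type*} (V : ι → X.Opens) (hV : IsOpenCover V) (hVa : ∀ i, IsAffineOpen (V i))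
    (h : ∀ i, Function.Injective (ψ.app (V i))) : Mono ψ := by
  rw [mono_iff_ΓUF ψ V hV hVa]
  intro i
  rw [ModuleCat.mono_iff_injective]
  intro x y hxy
  obtain ⟨x0, rfl⟩ := (toΓUF_bijective (hVa i) M).2 x
  obtain ⟨y0, rfl⟩ := (toΓUF_bijective (hVa i) M).2 y
  have h1 : toΓUF (hVa i) N (ψ.app (V i) x0) = toΓUF (hVa i) N (ψ.app (V i) y0) := by
    rw [← ΓUF_map_toΓUF, ← ΓUF_map_toΓUF]
    exact hxy
  rw [h i ((toΓUF_bijective (hVa i) N).1 h1)]

theorem exists_isIso_desc_of_eq {J : Ideal A} {M T : X.Modules} (g g' : M ⟶ T) (hgg' : g = g')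
    (h : ∃ h0 : Formal.smulFamily J M ≫ g' = 0, IsIso (cokernel.desc _ g' h0)) :
    ∃ h0 : Formal.smulFamily J M ≫ g = 0, IsIso (cokernel.desc _ g h0) := by
  subst hgg'
  exact h

end bridge

/-! ### the kernel system -/

section kernelSystem

variable {I : Ideal A} {E : X.Modules} {G : ℕᵒᵖ ⥤ X.Modules}
  (hE : Coh.IsCoh E) (hG : Formal.IsCohFormal I G)
  (φ : Formal.completion I E ⟶ G) (hφ : ∀ n, Epi (φ.app (op n)))

local notation "Ê" => Formal.completion I E

variable [IsLocallyNoetherian X]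

include hE hG in
theorem isCoh_K (n : ℕ) : Coh.IsCoh (K φ n) :=
  Groth.Agent.Lib.R2H2.PdSheaf.isCoh_kernel ((isCohFormal_completion I hE).1 n) (hG.1 n) _

include hE hG hφ in
theorem epi_κle_succ (n : ℕ) : Epi (κle φ (Nat.le_succ n)) := by
  have hÊ := isCohFormal_completion I hE
  haveI : ∀ m, (K φ m).IsQuasicoherent := fun m => (isCoh_K hE hG φ m).1
  refine epi_of_surjective_app_affine _ fun U hU y => ?_
  have hy : (kernel.ι (φ.app (op n))).app U y ∈ kerS (φ.app (op n)) U := by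
    change (kernel.ι (φ.app (op n)) ≫ φ.app (op n)).app U y = 0
    rw [kernel.condition]
    rfl
  obtain ⟨y', hy', hy'y⟩ := exists_lift_kerS hE hG φ hφ n hU _ hy
  obtain ⟨s, hs⟩ := exists_app_kernelι (φ.app (op (n + 1))) U y' hy'
  refine ⟨s, ?_⟩
  apply Groth.Agent.Lib.Helper20.StalkExact.injective_app_of_mono (kernel.ι (φ.app (op n))) U
  change (κle φ (Nat.le_succ n) ≫ kernel.ι (φ.app (op n))).app U s = _
  rw [κle_ι]
  change (tr Ê n).app U ((kernel.ι (φ.app (op (n + 1)))).app U s) = _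
  rw [hs, hy'y]

include hE hG hφ in
theorem epi_κle {n m : ℕ} (h : n ≤ m) : Epi (κle φ h) := by
  induction m, h using Nat.le_induction with
  | base =>
    rw [κle_refl]
    infer_instance
  | succ m h ih =>
    rw [← κle_comp φ h (Nat.le_succ m)]
    haveI := ih
    haveI := epi_κle_succ hE hG φ hφ m
    exact epi_comp _ _

include hE hG hφ in
/-- the key consequence of Artin–Rees -/
theorem mono_modJMap_κle (n c : ℕ) {ι : Type*} (V : ι → X.Opens) (hV : IsOpenCover V)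
    (hVa : ∀ i, IsAffineOpen (V i))
    (hAR : ∀ i, ∀ x : Γ((Ê).obj (op (c + n + 1)), V i),
      (tr Ê (c + n)).app (V i) x = 0 → (φ.app (op (c + n + 1))).app (V i) x = 0 →
      x ∈ ((I ^ (n + 1)).map (bW (X ↘ Spec (CommRingCat.of A)) (V i))) •
        kerS (φ.app (op (c + n + 1))) (V i)) :
    Mono (modJMap (I ^ (n + 1)) (κle φ (Nat.le_succ (c + n)))) := by
  haveI : ∀ m, (K φ m).IsQuasicoherent := fun m => (isCoh_K hE hG φ m).1
  haveI := epi_κle_succ hE hG φ hφ (c + n)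
  refine mono_of_injective_app_cover _ V hV hVa fun i => ?_
  rw [injective_iff_map_eq_zero]
  intro xb hxb
  obtain ⟨x, rfl⟩ := πJ_app_surjective (I ^ (n + 1)) (K φ (c + n + 1)) (hVa i) xb
  have h1 : (πJ (I ^ (n + 1)) (K φ (c + n))).app (V i)
      ((κle φ (Nat.le_succ (c + n))).app (V i) x) = 0 := by
    change (κle φ (Nat.le_succ (c + n)) ≫ πJ (I ^ (n + 1)) (K φ (c + n))).app (V i) x = 0
    rw [← πJ_modJMap]
    exact hxb
  have h2 := mem_of_πJ_app_eq_zero (I ^ (n + 1)) (K φ (c + n)) (hVa i) _ h1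
  obtain ⟨y, hy, hyx⟩ := exists_mem_JS_app_eq (I ^ (n + 1)) (κle φ (Nat.le_succ (c + n))) (V i)
    (Groth.Agent.Lib.Helper23.FinType.surjective_app_of_epi _ (hVa i)) _ h2
  -- `z = x - y` is killed by `κ`
  have hz1 : (tr Ê (c + n)).app (V i) ((kernel.ι (φ.app (op (c + n + 1)))).app (V i) (x - y)) = 0 := by
    change (kernel.ι (φ.app (op (c + n + 1))) ≫ (Ê).map (homOfLE (Nat.le_succ (c + n))).op).app (V i)
      (x - y) = 0
    rw [← κle_ι]
    change (kernel.ι (φ.app (op (c + n)))).app (V i) ((κle φ (Nat.le_succ (c + n))).app (V i) (x - y)) = 0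
    rw [map_sub, hyx, sub_self, map_zero]
  have hz2 : (φ.app (op (c + n + 1))).app (V i)
      ((kernel.ι (φ.app (op (c + n + 1)))).app (V i) (x - y)) = 0 := by
    change (kernel.ι (φ.app (op (c + n + 1))) ≫ φ.app (op (c + n + 1))).app (V i) (x - y) = 0
    rw [kernel.condition]
    rfl
  obtain ⟨s, hs, hsz⟩ := exists_mem_JS_kernelι (I ^ (n + 1)) (φ.app (op (c + n + 1))) (V i) _
    (hAR i _ hz1 hz2)
  have hsz' : s = x - y :=
    Groth.Agent.Lib.Helper20.StalkExact.injective_app_of_mono (kernel.ι (φ.app (op (c + n + 1)))) (V i) hsz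
  have hx : x = y + s := by
    rw [hsz']
    abel
  rw [hx]
  exact πJ_app_eq_zero_of_mem _ _ _ _ (Submodule.add_mem _ hy hs)

/-- the terms of the kernel system -/
noncomputable abbrev K'obj (c n : ℕ) : X.Modules := modJ (I ^ (n + 1)) (K φ (c + n))

/-- the transition maps of the kernel system -/
noncomputable def K'tr (c n : ℕ) : K'obj φ c (n + 1) ⟶ K'obj φ c n :=
  modLE (Ideal.pow_le_pow_right (Nat.le_succ (n + 1))) (K φ (c + (n + 1))) ≫
    modJMap (I ^ (n + 1)) (κle φ (n := c + n) (m := c + (n + 1)) (Nat.le_succ (c + n)))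

/-- the kernel system -/
noncomputable def K' (c : ℕ) : ℕᵒᵖ ⥤ X.Modules :=
  Functor.ofOpSequence (X := K'obj φ c) (K'tr φ c)

theorem K'_map_succ (c n : ℕ) : (K' φ c).map (homOfLE (Nat.le_succ n)).op = K'tr φ c n :=
  Functor.ofOpSequence_map_homOfLE_succ _ n

/-- the levelwise maps `K'_n ⟶ Ê_n` -/
noncomputable def jApp (c n : ℕ) : K'obj φ c n ⟶ (Ê).obj (op n) :=
  descJ (I ^ (n + 1)) (kernel.ι (φ.app (op (c + n))) ≫ (Ê).map (homOfLE (Nat.le_add_left n c)).op)
    (killedBy_modJ (I ^ (n + 1)) E)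

@[reassoc]
theorem π_jApp (c n : ℕ) : πJ (I ^ (n + 1)) (K φ (c + n)) ≫ jApp φ c n =
    kernel.ι (φ.app (op (c + n))) ≫ (Ê).map (homOfLE (Nat.le_add_left n c)).op :=
  πJ_descJ _ _ _

theorem K'tr_jApp (c n : ℕ) :
    K'tr φ c n ≫ jApp φ c n = jApp φ c (n + 1) ≫ (Ê).map (homOfLE (Nat.le_succ n)).op := by
  rw [← cancel_epi (πJ (I ^ (n + 1 + 1)) (K φ (c + (n + 1))))]
  unfold K'tr
  rw [Category.assoc, πJ_modLE_assoc, πJ_modJMap_assoc, π_jApp, κle_ι_assoc]
  have h2 := π_jApp_assoc φ c (n + 1) ((Ê).map (homOfLE (Nat.le_succ n)).op)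
  refine Eq.trans ?_ h2.symm
  rw [← (Ê).map_comp, ← (Ê).map_comp]
  exact congrArg (fun k => kernel.ι (φ.app (op (c + (n + 1)))) ≫ (Ê).map k) (Subsingleton.elim _ _)

/-- the morphism from the kernel system to the completion -/
noncomputable def j (c : ℕ) : K' φ c ⟶ Ê :=
  NatTrans.ofOpSequence (F := K' φ c) (G := Ê) (fun n => jApp φ c n) (fun n => by
    have h := K'tr_jApp φ c n
    rw [← K'_map_succ] at h
    exact h)

theorem j_app (c n : ℕ) : (j φ c).app (op n) = jApp φ c n := rfl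

theorem jApp_φ (c n : ℕ) : jApp φ c n ≫ φ.app (op n) = 0 := by
  rw [← cancel_epi (πJ (I ^ (n + 1)) (K φ (c + n))), π_jApp_assoc, map_le_φ, ← Category.assoc,
    kernel.condition, zero_comp, comp_zero]

theorem j_φ (c n : ℕ) : (j φ c).app (op n) ≫ φ.app (op n) = 0 :=
  jApp_φ φ c n

include hE hG hφ in
theorem ι_comp_eq_zero_of_jApp (c n : ℕ) {Z : X.Modules} (g : (Ê).obj (op n) ⟶ Z)
    (hg : jApp φ c n ≫ g = 0) : kernel.ι (φ.app (op n)) ≫ g = 0 := by
  haveI := epi_κle hE hG φ hφ (Nat.le_add_left n c)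
  rw [← cancel_epi (κle φ (Nat.le_add_left n c)), κle_ι_assoc, comp_zero, ← π_jApp_assoc, hg,
    comp_zero]

include hE hG hφ in
theorem ι_comp_eq_zero_of_j (c n : ℕ) {Z : X.Modules} (g : (Ê).obj (op n) ⟶ Z)
    (hg : (j φ c).app (op n) ≫ g = 0) : kernel.ι (φ.app (op n)) ≫ g = 0 :=
  ι_comp_eq_zero_of_jApp hE hG φ hφ c n g hg

include hE hG hφ in
/-- **the kernel system is a coherent formal module** (for `c` beyond the Artin–Rees bounds of a finite
affine cover) -/
theorem isCohFormal_K' (c : ℕ) {ι : Type*} (V : ι → X.Opens) (hV : IsOpenCover V)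
    (hVa : ∀ i, IsAffineOpen (V i))
    (hAR : ∀ n i, ∀ x : Γ((Ê).obj (op (c + n + 1)), V i),
      (tr Ê (c + n)).app (V i) x = 0 → (φ.app (op (c + n + 1))).app (V i) x = 0 →
      x ∈ ((I ^ (n + 1)).map (bW (X ↘ Spec (CommRingCat.of A)) (V i))) •
        kerS (φ.app (op (c + n + 1))) (V i)) :
    Formal.IsCohFormal I (K' φ c) := by
  refine ⟨fun n => isCoh_modJ _ (isCoh_K hE hG φ (c + n)), fun n => killedBy_modJ _ _, fun n => ?_⟩
  refine exists_isIso_desc_of_eq _ _ (K'_map_succ φ c n) ?_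
  obtain ⟨h1, hiso⟩ := exists_isIso_desc_modLE (J := I ^ (n + 1 + 1)) (J' := I ^ (n + 1))
    (Ideal.pow_le_pow_right (Nat.le_succ (n + 1))) (K φ (c + (n + 1)))
  haveI := hiso
  haveI := epi_κle_succ hE hG φ hφ (c + n)
  haveI := mono_modJMap_κle hE hG φ hφ n c V hV hVa (hAR n)
  haveI : IsIso (modJMap (I ^ (n + 1)) (κle φ (Nat.le_succ (c + n)))) := isIso_of_mono_of_epi _
  have key : ∃ h0' : Formal.smulFamily (I ^ (n + 1)) (modJ (I ^ (n + 1 + 1)) (K φ (c + (n + 1)))) ≫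
      (modLE (Ideal.pow_le_pow_right (Nat.le_succ (n + 1))) (K φ (c + (n + 1))) ≫
        modJMap (I ^ (n + 1)) (κle φ (n := c + n) (m := c + (n + 1)) (Nat.le_succ (c + n)))) = 0,
      IsIso (cokernel.desc _ _ h0') := by
    have h0' : Formal.smulFamily (I ^ (n + 1)) (modJ (I ^ (n + 1 + 1)) (K φ (c + (n + 1)))) ≫
        (modLE (Ideal.pow_le_pow_right (Nat.le_succ (n + 1))) (K φ (c + (n + 1))) ≫
          modJMap (I ^ (n + 1)) (κle φ (n := c + n) (m := c + (n + 1)) (Nat.le_succ (c + n)))) = 0 := by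
      rw [← Category.assoc, h1, zero_comp]
    refine ⟨h0', ?_⟩
    have h2 : cokernel.desc _ _ h0' = cokernel.desc _ _ h1 ≫
        modJMap (I ^ (n + 1)) (κle φ (n := c + n) (m := c + (n + 1)) (Nat.le_succ (c + n))) := by
      rw [← cancel_epi (cokernel.π (Formal.smulFamily (I ^ (n + 1))
        (modJ (I ^ (n + 1 + 1)) (K φ (c + (n + 1)))))), cokernel.π_desc, cokernel.π_desc_assoc]
    rw [h2]
    infer_instance
  exact key

end kernelSystem

/-! ### the final statement -/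

theorem exists_kernel_system [IsNoetherian X] {I : Ideal A} (hI : I.FG) {E : X.Modules}
    {G : ℕᵒᵖ ⥤ X.Modules} (hE : Coh.IsCoh E) (hG : Formal.IsCohFormal I G)
    (φ : Formal.completion I E ⟶ G) (hφ : ∀ n, Epi (φ.app (op n))) :
    ∃ (K₁ : ℕᵒᵖ ⥤ X.Modules) (j₁ : K₁ ⟶ Formal.completion I E), Formal.IsCohFormal I K₁ ∧
      (∀ n, j₁.app (op n) ≫ φ.app (op n) = 0) ∧
      ∀ (n : ℕ) (Z : X.Modules) (g : (Formal.completion I E).obj (op n) ⟶ Z),
        j₁.app (op n) ≫ g = 0 → kernel.ι (φ.app (op n)) ≫ g = 0 := by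
  classical
  obtain ⟨s, hs⟩ := Groth.Agent.Lib.Helper26.ModLim.exists_finite_affine_cover X
  choose d' hd' using fun U : X.affineOpens => exists_AR hE hG φ hφ hI U.2
  let c : ℕ := s.sup d' + 1
  refine ⟨K' φ c, j φ c, ?_, fun n => j_φ φ c n, fun n Z g hg => ι_comp_eq_zero_of_j hE hG φ hφ c n g hg⟩
  refine isCohFormal_K' hE hG φ hφ c (fun k : s => (k.1 : X.Opens)) hs (fun k => k.1.2) ?_
  intro n k x hx1 hx2
  refine hd' k.1 (c + n) (n + 1) ?_ x hx1 hx2
  have : d' k.1 ≤ s.sup d' := Finset.le_sup k.2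
  omega

end Groth.Agent.Lib.R2Lead.CohFormalC
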