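import Mathlib
import Groth.Prelude.Def_FlatMod2
import Groth.Agent.Lib.Helper2QCoh
import Groth.Agent.Lib.Helper20StalkExact
import Groth.Agent.Lib.Helper23QCohAbelian
import Groth.Agent.Lib.Helper23QCohLocal
import Groth.Agent.Lib.Helper23FinTypeLocal
import Groth.Agent.Lib.Helper26ModLim
import Groth.Agent.Lib.H6xFinPushC
import Groth.Agent.Lib.Helper23Serre2
import Groth.Agent.Lib.R2H2DeligneAR
import Groth.Agent.Lib.R2H2DeligneSurj
import Groth.Agent.Lib.R2H2SubSec2
import Groth.Agent.Lib.R2H3FPColim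
import Groth.Agent.Lib.R2LeadCohFormalC

/-!
# Coherent modules are quotients of torsion-free coherent modules (helper4, S14989)

On a Noetherian integral scheme `Y` in which the intersection of two affine opens is affine, every
coherent module `F` is a quotient of a coherent module with torsion-free stalks.

* `TF M` : sectionwise torsion-freeness; stable under subobjects (`TF.of_mono`), finite biproducts
  (`TF.biproduct`), finite coproducts (`TF.sigma`), direct image from an open (`TF.pushforward`);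
  holds for the structure module of an integral scheme (`TF.structureModule`); implies torsion-free
  stalks (`TF.noZeroSMulDivisors`).
* `main`.
-/

set_option autoImplicit false
set_option linter.unusedSectionVars false
set_option linter.style.haveILetI false
universe u
open CategoryTheory CategoryTheory.Limits AlgebraicGeometry TopologicalSpace Opposite

noncomputable section

namespace Groth.Agent.Lib.R2H4TFQuot

variable {Y : Scheme.{u}}

/-- sectionwise torsion-freeness -/
def TF (M : Y.Modules) : Prop :=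
  ∀ (W : Y.Opens) (a : Γ(Y, W)) (x : Γ(M, W)), a • x = 0 → a = 0 ∨ x = 0

theorem TF.of_mono {M N : Y.Modules} (i : M ⟶ N) [Mono i] (h : TF N) : TF M := by
  intro W a x hax
  have h0 : a • (Scheme.Modules.Hom.app i W x) = 0 := by
    rw [← Scheme.Modules.Hom.app_smul, hax, map_zero]
  rcases h W a _ h0 with h1 | h1
  · exact Or.inl h1
  · right
    exact Groth.Agent.Lib.Helper20.StalkExact.injective_app_of_mono i W (h1.trans (map_zero _).symm)

/-- evaluation at a section, additive in the morphism -/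
def evalHom {M N : Y.Modules} (W : Y.Opens) (s : Γ(M, W)) : (M ⟶ N) →+ Γ(N, W) where
  toFun φ := Scheme.Modules.Hom.app φ W s
  map_zero' := rfl
  map_add' _ _ := rfl

theorem TF.biproduct {ι : Type*} [Fintype ι] [DecidableEq ι] (M : ι → Y.Modules) [HasBiproduct M]
    (h : ∀ i, TF (M i)) : TF (⨁ M) := by
  intro W a x hax
  by_cases ha : a = 0
  · exact Or.inl ha
  right
  have hπ : ∀ i, Scheme.Modules.Hom.app (biproduct.π M i) W x = 0 := by
    intro i
    have h0 : a • (Scheme.Modules.Hom.app (biproduct.π M i) W x) = 0 := by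
      rw [← Scheme.Modules.Hom.app_smul, hax, map_zero]
    rcases h i W a _ h0 with h1 | h1
    · exact absurd h1 ha
    · exact h1
  have htot : (∑ i : ι, biproduct.π M i ≫ biproduct.ι M i) = 𝟙 (⨁ M) :=
    Groth.Agent.Lib.R2H3.FPColim.biproduct_total M
  have h1 : evalHom (N := ⨁ M) W x (∑ i : ι, biproduct.π M i ≫ biproduct.ι M i) =
      ∑ i : ι, evalHom (N := ⨁ M) W x (biproduct.π M i ≫ biproduct.ι M i) := map_sum _ _ _
  have h2 : evalHom (N := ⨁ M) W x (𝟙 (⨁ M)) = x := rfl
  rw [htot, h2] at h1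
  rw [h1]
  refine Finset.sum_eq_zero (fun i _ => ?_)
  change Scheme.Modules.Hom.app (biproduct.ι M i) W (Scheme.Modules.Hom.app (biproduct.π M i) W x) = 0
  rw [hπ i, map_zero]

theorem TF.sigma {ι : Type*} [Fintype ι] [DecidableEq ι] (M : ι → Y.Modules) [HasBiproduct M]
    (h : ∀ i, TF (M i)) : TF (∐ M) :=
  TF.of_mono (biproduct.isoCoproduct M).inv (TF.biproduct M h)

theorem TF.structureModule [IsIntegral Y] : TF (Coh.structureModule Y) := by
  intro W a x hax
  by_cases hW : Nonempty W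
  · haveI : IsDomain Γ(Y, W) := inferInstance
    have h1 : a * (show Γ(Y, W) from x) = 0 := hax
    rcases mul_eq_zero.1 h1 with h2 | h2
    · exact Or.inl h2
    · exact Or.inr h2
  · left
    have hbot : W = ⊥ := by
      ext y
      simp only [Opens.coe_bot, Set.mem_empty_iff_false, iff_false]
      exact fun hy => hW ⟨⟨y, hy⟩⟩
    subst hbot
    haveI : Subsingleton Γ(Y, (⊥ : Y.Opens)) := inferInstance
    exact Subsingleton.elim _ _

theorem subsingleton_sections_bot (M : Y.Modules) : Subsingleton Γ(M, (⊥ : Y.Opens)) := by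
  let Fs : TopCat.Sheaf Ab Y := ⟨M.presheaf, Scheme.Modules.isSheaf M⟩
  have ht : IsTerminal (Fs.val.obj (op ⊥)) := TopCat.Sheaf.isTerminalOfEmpty Fs
  refine ⟨fun a b => ?_⟩
  have h1 : (AddCommGrpCat.ofHom (AddMonoidHom.id Γ(M, (⊥ : Y.Opens))) : Fs.val.obj (op ⊥) ⟶ Fs.val.obj (op ⊥)) = 0 :=
    ht.hom_ext _ _
  have h2 := congrArg (fun f => f.hom a) h1
  have h3 := congrArg (fun f => f.hom b) h1
  exact (h2.trans h3.symm)

theorem TF.pushforward [IsIntegral Y] (V : Y.Opens) (N : (V : Scheme.{u}).Modules) (h : TF N) :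
    TF ((Scheme.Modules.pushforward V.ι).obj N) := by
  intro W a x hax
  by_cases hx : x = 0
  · exact Or.inr hx
  left
  have h0 : (V.ι.app W a) • (show Γ(N, V.ι ⁻¹ᵁ W) from x) = 0 := hax
  rcases h (V.ι ⁻¹ᵁ W) (V.ι.app W a) x h0 with h1 | h1
  · -- restriction is injective
    have hne : (V.ι ⁻¹ᵁ W) ≠ ⊥ := by
      intro hb
      apply hx
      have hs : Subsingleton Γ(N, V.ι ⁻¹ᵁ W) := by
        rw [hb]
        exact subsingleton_sections_bot N
      exact @Subsingleton.elim _ hs x 0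
    have hne' : Nonempty (V.ι ''ᵁ (V.ι ⁻¹ᵁ W) : Y.Opens) := by
      by_contra hcon
      apply hne
      ext y
      simp only [Opens.coe_bot, Set.mem_empty_iff_false, iff_false]
      intro hy
      exact hcon ⟨⟨V.ι y, ⟨y, hy, rfl⟩⟩⟩
    have hle : V.ι ''ᵁ (V.ι ⁻¹ᵁ W) ≤ W := by
      rintro _ ⟨y, hy, rfl⟩
      exact hy
    have hinj := AlgebraicGeometry.map_injective_of_isIntegral Y (homOfLE hle)
    have happ : V.ι.app W a = Y.presheaf.map (homOfLE hle).op a := by
      rw [Scheme.Opens.ι_app]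
      rfl
    rw [happ] at h1
    exact hinj (h1.trans (map_zero _).symm)
  · exact absurd h1 hx

theorem TF.noZeroSMulDivisors {M : Y.Modules} (h : TF M) (y : Y) :
    NoZeroSMulDivisors (Y.presheaf.stalk y) (M.presheaf.stalk y) := by
  refine ⟨fun {c m} hcm => ?_⟩
  obtain ⟨U, hyU, a, rfl⟩ := Y.presheaf.exists_germ_eq c
  obtain ⟨V, hyV, x, rfl⟩ := M.presheaf.exists_germ_eq m
  let W : Y.Opens := U ⊓ V
  have hyW : y ∈ W := ⟨hyU, hyV⟩
  let a' : Γ(Y, W) := Y.presheaf.map (homOfLE (inf_le_left : W ≤ U)).op a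
  let x' : Γ(M, W) := M.presheaf.map (homOfLE (inf_le_right : W ≤ V)).op x
  have ha' : Y.presheaf.germ W y hyW a' = Y.presheaf.germ U y hyU a :=
    TopCat.Presheaf.germ_res_apply Y.presheaf (homOfLE (inf_le_left : W ≤ U)) y hyW a
  have hx' : M.presheaf.germ W y hyW x' = M.presheaf.germ V y hyV x :=
    TopCat.Presheaf.germ_res_apply M.presheaf (homOfLE (inf_le_right : W ≤ V)) y hyW x
  have h1 : M.presheaf.germ W y hyW (a' • x') = 0 := by
    rw [Groth.Agent.Lib.Helper2.QCoh.germ_smul, ha', hx']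
    exact hcm
  have h2 : M.presheaf.germ W y hyW (a' • x') = M.presheaf.germ W y hyW 0 := by
    rw [h1, map_zero]
  obtain ⟨W', hyW', i₁, i₂, h3⟩ := TopCat.Presheaf.germ_eq M.presheaf y hyW hyW _ _ h2
  have h4 : (Y.presheaf.map i₁.op a') • (M.presheaf.map i₁.op x') = 0 := by
    rw [← Scheme.Modules.map_smul]
    rw [h3, map_zero]
  rcases h W' _ _ h4 with h5 | h5
  · left
    rw [← ha']
    have : Y.presheaf.germ W y hyW a' = Y.presheaf.germ W' y hyW' (Y.presheaf.map i₁.op a') :=
      (TopCat.Presheaf.germ_res_apply Y.presheaf i₁ y hyW' a').symm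
    rw [this, h5, map_zero]
  · right
    rw [← hx']
    have : M.presheaf.germ W y hyW x' = M.presheaf.germ W' y hyW' (M.presheaf.map i₁.op x') :=
      (TopCat.Presheaf.germ_res_apply M.presheaf i₁ y hyW' x').symm
    rw [this, h5, map_zero]

/-- locally equal sections are equal -/
theorem section_ext_local (M : Y.Modules) {U : Y.Opens} (s t : Γ(M, U))
    (h : ∀ x ∈ U, ∃ (W : Y.Opens) (hle : W ≤ U), x ∈ W ∧
      M.presheaf.map (homOfLE hle).op s = M.presheaf.map (homOfLE hle).op t) : s = t := by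
  refine TopCat.Sheaf.eq_of_locally_eq' ⟨M.presheaf, M.isSheaf⟩
    (fun W : {W : Y.Opens // ∃ hle : W ≤ U,
      M.presheaf.map (homOfLE hle).op s = M.presheaf.map (homOfLE hle).op t} => W.1) U
    (fun W => homOfLE W.2.choose) ?_ s t (fun W => W.2.choose_spec)
  intro x hx
  obtain ⟨W, hle, hxW, hW⟩ := h x hx
  exact Opens.mem_iSup.mpr ⟨⟨W, hle, hW⟩, hxW⟩

section Main

variable [IsNoetherian Y]

theorem isAffineOpen_preimage_ι
    (hd : ∀ V W : Y.Opens, IsAffineOpen V → IsAffineOpen W → IsAffineOpen (V ⊓ W))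
    {V : Y.Opens} (hV : IsAffineOpen V) {U : Y.Opens} (hU : IsAffineOpen U) :
    IsAffineOpen (V.ι ⁻¹ᵁ U) := by
  rw [← V.ι.isAffineOpen_iff_of_isOpenImmersion, V.ι.image_preimage_eq_opensRange_inf,
    Scheme.Opens.opensRange_ι]
  exact hd V U hV hU

/-- direct image along the inclusion of an affine open preserves epimorphisms of quasi-coherent
modules (affine diagonal) -/
theorem epi_push
    (hd : ∀ V W : Y.Opens, IsAffineOpen V → IsAffineOpen W → IsAffineOpen (V ⊓ W))
    {V : Y.Opens} (hV : IsAffineOpen V) {M N : (V : Scheme.{u}).Modules}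
    [M.IsQuasicoherent] [N.IsQuasicoherent] (q : M ⟶ N) [Epi q] :
    Epi ((Scheme.Modules.pushforward V.ι).map q) := by
  haveI : ((Scheme.Modules.pushforward V.ι).obj M).IsQuasicoherent :=
    Groth.Agent.Lib.Helper23.QCohLocal.isQuasicoherent_pushforward V.ι M
  haveI : ((Scheme.Modules.pushforward V.ι).obj N).IsQuasicoherent :=
    Groth.Agent.Lib.Helper23.QCohLocal.isQuasicoherent_pushforward V.ι N
  refine Groth.Agent.Lib.R2Lead.CohFormalC.epi_of_surjective_app_affine _ (fun U hU => ?_)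
  exact Groth.Agent.Lib.Helper23.FinType.surjective_app_of_epi q
    (isAffineOpen_preimage_ι hd hV hU)

variable [IsIntegral Y]

theorem main
    (hd : ∀ V W : Y.Opens, IsAffineOpen V → IsAffineOpen W → IsAffineOpen (V ⊓ W))
    (F : Y.Modules) (hF : Coh.IsCoh F) :
    ∃ (F' : Y.Modules) (π : F' ⟶ F), Coh.IsCoh F' ∧ TF F' ∧ Epi π := by
  classical
  haveI hFq : F.IsQuasicoherent := hF.1
  obtain ⟨s, hs⟩ := Groth.Agent.Lib.Helper26.ModLim.exists_finite_affine_cover Y
  let J := {k : ↥s // Nonempty ↥(k.1.1 : Y.Opens)}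
  let V : J → Y.Opens := fun k => k.1.1.1
  have hVa : ∀ k, IsAffineOpen (V k) := fun k => k.1.1.2
  haveI hVne : ∀ k, Nonempty ↥(V k) := fun k => k.2
  have hcov : ∀ y : Y, ∃ k : J, y ∈ V k := by
    intro y
    obtain ⟨k, hk⟩ := hs.exists_mem y
    exact ⟨⟨k, ⟨⟨y, hk⟩⟩⟩, hk⟩
  haveI hFft : SheafOfModules.IsFiniteType (R := Y.ringCatSheaf) F := hF.2
  have hcohR : ∀ k, Coh.IsCoh (F.restrict (V k).ι) := fun k =>
    ⟨inferInstance, Groth.Agent.Lib.Helper23.FinType.isFiniteType_restrict (V k).ι F⟩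
  haveI : ∀ k, IsAffine (V k : Scheme.{u}) := fun k => hVa k
  choose n q hq using fun k =>
    Groth.Agent.Lib.H6xFinPush.exists_epi_freeMod_of_isFT (F.restrict (V k).ι) (hcohR k).1 (hcohR k).2
  haveI : ∀ k, Epi (q k) := hq
  haveI : ∀ k, (F.restrict (V k).ι).IsQuasicoherent := fun k => (hcohR k).1
  haveI : ∀ k, (FlatMod.freeMod (V k : Scheme.{u}) (n k)).IsQuasicoherent := fun k =>
    Groth.Agent.Lib.Helper23.Serre.isQuasicoherent_freeMod (n k)
  let A : J → Y.Modules := fun k => (Scheme.Modules.pushforward (V k).ι).obj (FlatMod.freeMod (V k : Scheme.{u}) (n k))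
  let T : J → Y.Modules := fun k => (Scheme.Modules.pushforward (V k).ι).obj (F.restrict (V k).ι)
  let η : ∀ k, F ⟶ T k := fun k => (Scheme.Modules.restrictAdjunction (V k).ι).unit.app F
  let ρ : ∀ k, A k ⟶ T k := fun k => (Scheme.Modules.pushforward (V k).ι).map (q k)
  haveI : ∀ k, Epi (ρ k) := fun k => (epi_push hd (hVa k) (q k) : Epi ((Scheme.Modules.pushforward (V k).ι).map (q k)))
  haveI hAq : ∀ k, (A k).IsQuasicoherent := fun k =>
    Groth.Agent.Lib.Helper23.QCohLocal.isQuasicoherent_pushforward (V k).ι _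
  haveI hTq : ∀ k, (T k).IsQuasicoherent := fun k =>
    Groth.Agent.Lib.Helper23.QCohLocal.isQuasicoherent_pushforward (V k).ι _
  let η' : F ⟶ ⨁ T := biproduct.lift η
  let ρ' : (⨁ A) ⟶ ⨁ T := biproduct.map ρ
  haveI : Epi ρ' := inferInstance
  haveI : Mono η' := by
    refine Preadditive.mono_of_cancel_zero _ (fun {Z} z hz => ?_)
    have hzk : ∀ k, z ≫ η k = 0 := by
      intro k
      have := congrArg (fun φ => φ ≫ biproduct.π T k) hz
      simpa [η'] using this
    apply Scheme.Modules.hom_ext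
    intro W
    ext t
    change Scheme.Modules.Hom.app z W t = 0
    apply section_ext_local F
    intro y hy
    obtain ⟨k, hk⟩ := hcov y
    refine ⟨(V k).ι ''ᵁ ((V k).ι ⁻¹ᵁ W), (V k).ι.image_preimage_le W, ?_, ?_⟩
    · rw [(V k).ι.image_preimage_eq_opensRange_inf, Scheme.Opens.opensRange_ι]
      exact ⟨hk, hy⟩
    · have h1 := congrArg (fun φ : Z ⟶ T k => Scheme.Modules.Hom.app φ W t) (hzk k)
      rw [map_zero]
      exact h1
  let G : Y.Modules := pullback η' ρ'
  let p₁ : G ⟶ F := pullback.fst η' ρ'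
  let p₂ : G ⟶ ⨁ A := pullback.snd η' ρ'
  haveI : Epi p₁ := inferInstance
  haveI : Mono p₂ := inferInstance
  haveI hAAq : (⨁ A : Y.Modules).IsQuasicoherent :=
    Groth.Agent.Lib.R2H3.FPColim.isQuasicoherent_biproduct' A hAq
  haveI hTTq : (⨁ T : Y.Modules).IsQuasicoherent :=
    Groth.Agent.Lib.R2H3.FPColim.isQuasicoherent_biproduct' T hTq
  haveI hFAq : (F ⊞ (⨁ A) : Y.Modules).IsQuasicoherent :=
    Groth.Agent.Lib.Helper23.QCohLocal.isQuasicoherent_biprod F (⨁ A)
  haveI hGq : G.IsQuasicoherent :=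
    Groth.Agent.Lib.R2H2.DeligneAR.isQuasicoherent_of_isLimit
      (Abelian.PullbackToBiproductIsKernel.pullbackToBiproduct η' ρ') (biprod.desc η' (-ρ'))
      (Abelian.PullbackToBiproductIsKernel.pullbackToBiproductFork η' ρ').condition
      (Abelian.PullbackToBiproductIsKernel.isLimitPullbackToBiproduct η' ρ')
  -- coherent submodule
  obtain ⟨G'', i, hi, hG''c, hsurj⟩ :=
    Groth.Agent.Lib.R2H2.DeligneSurj.exists_coh_sub_range_ge G F hF p₁ s (fun _ => ⊤)
      (fun W _ x _ => Groth.Agent.Lib.Helper23.FinType.surjective_app_of_epi p₁ W.2 x)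
  haveI := hi
  haveI : G''.IsQuasicoherent := hG''c.1
  refine ⟨G'', i ≫ p₁, hG''c, ?_, ?_⟩
  · -- torsion-free
    haveI : Mono (i ≫ p₂) := mono_comp i p₂
    refine TF.of_mono (i ≫ p₂) (TF.biproduct A (fun k => ?_))
    haveI : Nonempty ((V k : Scheme.{u}) : Type u) := hVne k
    haveI : IsIntegral (V k : Scheme.{u}) := isIntegral_of_isOpenImmersion (V k).ι
    have h1 : TF (FlatMod.freeMod (V k : Scheme.{u}) (n k)) :=
      TF.sigma (fun _ : Fin (n k) => Coh.structureModule (V k : Scheme.{u}))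
        (fun _ => TF.structureModule)
    exact TF.pushforward (V k) _ h1
  · refine Groth.Agent.Lib.R2H2.SubSec.epi_of_surjective_app_cover (i ≫ p₁)
      {W : Y.Opens | ∃ k : ↥s, W = k.1.1} ?_ ?_ ?_
    · rintro W ⟨k, rfl⟩
      exact k.1.2
    · intro y
      obtain ⟨k, hk⟩ := hs.exists_mem y
      exact ⟨k.1.1, ⟨k, rfl⟩, hk⟩
    · rintro W ⟨k, rfl⟩ x
      exact hsurj k.1 k.2 (Submodule.mem_top)

end Main

end Groth.Agent.Lib.R2H4TFQuot
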