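import Mathlib
import Groth.Prelude.Def_W4stkadequateTF
import Groth.Agent.Lib.Helper13AdeqA
import Groth.Agent.Lib.Helper13AdeqD
import Groth.Agent.Lib.R2H4AdeqSplitA

/-!
# Tangent functors of module-valued functors (helper4, round 2)

* algebra identities for `AdeqTF.inl`, `AdeqTF.fst`, `AdeqTF.map`;
* `tangentMap_comp`, `tangentMap_id`, `tangentMap_zero`;
* `tanHom`: the map on tangent modules induced by a morphism of functors, its naturality, and the
  short exact sequence `0 → TF → TG → TH → 0` attached to `0 → F → G → H → 0`;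
* `rightExact_X₃`, `rightExact_X₂`, `biprod_bijective`: the diagram chases for
  "right exact tangent functors".
-/

set_option autoImplicit false
universe u
open CategoryTheory Limits
open Adeq AdeqTF

namespace Groth.Agent.Lib.R2H4.TangentFunctor
open Groth.Agent.Helper13Adeq Groth.Agent.Lib.R2H4.AdeqSplit

section Alg
variable {A : Type u} [CommRing A] (B : Adeq.Alg A)

theorem inl_fst (N : ModuleCat.{u} B) : inl B N ≫ fst B N = 𝟙 B := by
  apply CommAlgCat.hom_ext
  refine AlgHom.ext fun x => ?_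
  rfl

theorem ext_map_comp {N N' N'' : ModuleCat.{u} B} (f : N ⟶ N') (g : N' ⟶ N'') :
    map B f ≫ map B g = map B (f ≫ g) := by
  apply CommAlgCat.hom_ext
  refine AlgHom.ext fun x => ?_
  change TrivSqZeroExt.map g.hom (TrivSqZeroExt.map f.hom x) = TrivSqZeroExt.map (f ≫ g).hom x
  refine TrivSqZeroExt.ext ?_ ?_
  · rw [TrivSqZeroExt.fst_map, TrivSqZeroExt.fst_map, TrivSqZeroExt.fst_map]
  · rw [TrivSqZeroExt.snd_map, TrivSqZeroExt.snd_map, TrivSqZeroExt.snd_map]
    rfl

theorem ext_map_id (N : ModuleCat.{u} B) : map B (𝟙 N) = 𝟙 (ext B N) := by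
  apply CommAlgCat.hom_ext
  refine AlgHom.ext fun x => ?_
  change TrivSqZeroExt.map (𝟙 N : N ⟶ N).hom x = x
  refine TrivSqZeroExt.ext ?_ ?_
  · rw [TrivSqZeroExt.fst_map]
  · rw [TrivSqZeroExt.snd_map]
    rfl

theorem ext_map_zero (N N' : ModuleCat.{u} B) : map B (0 : N ⟶ N') = fst B N ≫ inl B N' := by
  apply CommAlgCat.hom_ext
  refine AlgHom.ext fun x => ?_
  change TrivSqZeroExt.map (0 : N ⟶ N').hom x = TrivSqZeroExt.inl (TrivSqZeroExt.fst x)
  refine TrivSqZeroExt.ext ?_ ?_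
  · rw [TrivSqZeroExt.fst_map, TrivSqZeroExt.fst_inl]
  · rw [TrivSqZeroExt.snd_map, TrivSqZeroExt.snd_inl]
    rfl

theorem inl_map {N N' : ModuleCat.{u} B} (g : N ⟶ N') : inl B N ≫ map B g = inl B N' := by
  apply CommAlgCat.hom_ext
  refine AlgHom.ext fun x => ?_
  change TrivSqZeroExt.map g.hom (TrivSqZeroExt.inl x) = TrivSqZeroExt.inl x
  rw [TrivSqZeroExt.map_inl]

end Alg

section Tan
variable {A : Type u} [CommRing A] (B : Adeq.Alg A)

theorem mem_tangent {N : ModuleCat.{u} B} (F : MVF A) (x : F.obj (pt (ext B N))) :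
    x ∈ tangent B N F ↔ mapEl F (fst B N) x = 0 := Iff.rfl

theorem tangentMap_val (F : MVF A) {N N' : ModuleCat.{u} B} (g : N ⟶ N') (x : tangent B N F) :
    ((tangentMap B F g x : tangent B N' F) : F.obj (pt (ext B N'))) = mapEl F (map B g) x.1 := rfl

theorem tangentMap_comp (F : MVF A) {N N' N'' : ModuleCat.{u} B} (f : N ⟶ N') (g : N' ⟶ N'')
    (x : tangent B N F) : tangentMap B F g (tangentMap B F f x) = tangentMap B F (f ≫ g) x := by
  apply Subtype.ext
  rw [tangentMap_val, tangentMap_val, tangentMap_val, ← mapEl_comp, ext_map_comp]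

theorem tangentMap_id (F : MVF A) (N : ModuleCat.{u} B) (x : tangent B N F) :
    tangentMap B F (𝟙 N) x = x := by
  apply Subtype.ext
  rw [tangentMap_val, ext_map_id, mapEl_id]

theorem tangentMap_zero (F : MVF A) (N N' : ModuleCat.{u} B) (x : tangent B N F) :
    tangentMap B F (0 : N ⟶ N') x = 0 := by
  apply Subtype.ext
  rw [tangentMap_val, ext_map_zero, mapEl_comp, (mem_tangent B F x.1).1 x.2, mapEl_zero]
  rfl

theorem tangentMap_comp_eq_zero (F : MVF A) {N N' N'' : ModuleCat.{u} B} (f : N ⟶ N') (g : N' ⟶ N'')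
    (h : f ≫ g = 0) (x : tangent B N F) : tangentMap B F g (tangentMap B F f x) = 0 := by
  rw [tangentMap_comp, h, tangentMap_zero]

/-- the map on tangent modules induced by a morphism of functors -/
noncomputable def tanHom {F G : MVF A} (φ : F ⟶ G) (N : ModuleCat.{u} B) :
    tangent B N F →+ tangent B N G :=
  ((φ.app (pt (ext B N))).hom.toAddMonoidHom.comp (tangent B N F).subtype).codRestrict (tangent B N G)
    (fun x => by
      rw [mem_tangent]
      change mapEl G (fst B N) (φ.app (pt (ext B N)) x.1) = 0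
      rw [← app_mapEl, (mem_tangent B F x.1).1 x.2, app_zero])

theorem tanHom_val {F G : MVF A} (φ : F ⟶ G) (N : ModuleCat.{u} B) (x : tangent B N F) :
    ((tanHom B φ N x : tangent B N G) : G.obj (pt (ext B N))) = φ.app (pt (ext B N)) x.1 := rfl

theorem tanHom_tangentMap {F G : MVF A} (φ : F ⟶ G) {N N' : ModuleCat.{u} B} (g : N ⟶ N')
    (x : tangent B N F) :
    tanHom B φ N' (tangentMap B F g x) = tangentMap B G g (tanHom B φ N x) := by
  apply Subtype.ext
  rw [tanHom_val, tangentMap_val, tangentMap_val, tanHom_val, app_mapEl]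

theorem tanHom_injective {F G : MVF A} (φ : F ⟶ G) (N : ModuleCat.{u} B)
    (h : Function.Injective (φ.app (pt (ext B N)))) : Function.Injective (tanHom B φ N) := by
  intro x y hxy
  apply Subtype.ext
  apply h
  exact congrArg Subtype.val hxy

theorem tanHom_surjective {F G : MVF A} (φ : F ⟶ G) (N : ModuleCat.{u} B)
    (h : Function.Surjective (φ.app (pt (ext B N)))) : Function.Surjective (tanHom B φ N) := by
  intro z
  obtain ⟨y, hy⟩ := h z.1
  have hz : mapEl G (fst B N) z.1 = 0 := (mem_tangent B G z.1).1 z.2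
  refine ⟨⟨y - mapEl F (inl B N) (mapEl F (fst B N) y), ?_⟩, ?_⟩
  · rw [mem_tangent]
    have e1 : mapEl F (fst B N) (mapEl F (inl B N) (mapEl F (fst B N) y)) = mapEl F (fst B N) y := by
      rw [← mapEl_comp F (inl B N), inl_fst, mapEl_id]
    have e2 : mapEl F (fst B N) (y - mapEl F (inl B N) (mapEl F (fst B N) y)) =
        mapEl F (fst B N) y - mapEl F (fst B N) (mapEl F (inl B N) (mapEl F (fst B N) y)) :=
      map_sub (F.map (ptHom (fst B N))).hom _ _
    rw [e2, e1, sub_self]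
  · apply Subtype.ext
    rw [tanHom_val]
    change φ.app (pt (ext B N)) (y - mapEl F (inl B N) (mapEl F (fst B N) y)) = z.1
    rw [app_sub, app_mapEl, app_mapEl, hy, hz, mapEl_zero, sub_zero]

theorem tanHom_exact {F G H : MVF A} (φ : F ⟶ G) (ψ : G ⟶ H) (N : ModuleCat.{u} B)
    (hφ : Function.Injective (φ.app (pt B)))
    (h : Function.Exact (φ.app (pt (ext B N))) (ψ.app (pt (ext B N)))) (y : tangent B N G) :
    tanHom B ψ N y = 0 ↔ ∃ x, tanHom B φ N x = y := by
  constructor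
  · intro hy
    have hy' : ψ.app (pt (ext B N)) y.1 = 0 := congrArg Subtype.val hy
    obtain ⟨x, hx⟩ := (h y.1).1 hy'
    refine ⟨⟨x, ?_⟩, Subtype.ext hx⟩
    rw [mem_tangent]
    apply hφ
    rw [app_mapEl, hx, (mem_tangent B G y.1).1 y.2, app_zero]
  · rintro ⟨x, rfl⟩
    apply Subtype.ext
    rw [tanHom_val, tanHom_val]
    exact (h _).2 ⟨x.1, rfl⟩

end Tan

section Chase
variable {A : Type u} [CommRing A]

/-- `F` has right exact tangent functors -/
def RightExactTangent (F : MVF A) : Prop :=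
  ∀ (B : Adeq.Alg A) (S : ShortComplex (ModuleCat.{u} B)), S.ShortExact →
    Function.Surjective (AdeqTF.tangentMap B F S.g) ∧
      (AdeqTF.tangentMap B F S.g).ker = (AdeqTF.tangentMap B F S.f).range

variable (C : ShortComplex (MVF A)) (hC : C.ShortExact)
include hC

theorem f_app_injective (X : (Alg A)ᵒᵖᵒᵖ) : Function.Injective (C.f.app X) := by
  have := hC.mono_f
  exact PresheafOfModules.injective_of_mono C.f X

theorem g_app_surjective (X : (Alg A)ᵒᵖᵒᵖ) : Function.Surjective (C.g.app X) := by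
  have := hC.epi_g
  exact PresheafOfModules.surjective_of_epi C.g X

theorem fg_app_exact (X : (Alg A)ᵒᵖᵒᵖ) : Function.Exact (C.f.app X) (C.g.app X) :=
  PshMod.exact_app C hC.exact X

theorem Ti_injective (B : Alg A) (N : ModuleCat.{u} B) : Function.Injective (tanHom B C.f N) :=
  tanHom_injective B C.f N (f_app_injective C hC _)

theorem Tp_surjective (B : Alg A) (N : ModuleCat.{u} B) : Function.Surjective (tanHom B C.g N) :=
  tanHom_surjective B C.g N (g_app_surjective C hC _)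

theorem Tip_exact (B : Alg A) (N : ModuleCat.{u} B) (y : tangent B N C.X₂) :
    tanHom B C.g N y = 0 ↔ ∃ x, tanHom B C.f N x = y :=
  tanHom_exact B C.f C.g N (f_app_injective C hC _) (fg_app_exact C hC _) y

theorem rightExact_X₃ (h₁ : RightExactTangent C.X₁) (h₂ : RightExactTangent C.X₂) :
    RightExactTangent C.X₃ := by
  intro B S hS
  obtain ⟨h₁s, h₁e⟩ := h₁ B S hS
  obtain ⟨h₂s, h₂e⟩ := h₂ B S hS
  constructor
  · intro z
    obtain ⟨y, hy⟩ := Tp_surjective C hC B S.X₃ z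
    obtain ⟨y', hy'⟩ := h₂s y
    refine ⟨tanHom B C.g S.X₂ y', ?_⟩
    rw [← tanHom_tangentMap, hy', hy]
  · ext z
    rw [AddMonoidHom.mem_ker, AddMonoidHom.mem_range]
    constructor
    · intro hz
      obtain ⟨y, hy⟩ := Tp_surjective C hC B S.X₂ z
      have h1 : tanHom B C.g S.X₃ (tangentMap B C.X₂ S.g y) = 0 := by
        rw [tanHom_tangentMap, hy, hz]
      obtain ⟨x₂, hx₂⟩ := (Tip_exact C hC B S.X₃ _).1 h1
      obtain ⟨x, hx⟩ := h₁s x₂
      have h2 : tangentMap B C.X₂ S.g (y - tanHom B C.f S.X₂ x) = 0 := by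
        rw [map_sub, ← tanHom_tangentMap, hx, hx₂, sub_self]
      have h3 : y - tanHom B C.f S.X₂ x ∈ (tangentMap B C.X₂ S.g).ker := h2
      rw [h₂e] at h3
      obtain ⟨w, hw⟩ := h3
      refine ⟨tanHom B C.g S.X₁ w, ?_⟩
      rw [← tanHom_tangentMap, hw, map_sub, hy,
        (Tip_exact C hC B S.X₂ _).2 ⟨x, rfl⟩, sub_zero]
    · rintro ⟨w, rfl⟩
      exact tangentMap_comp_eq_zero B C.X₃ S.f S.g S.zero w

theorem rightExact_X₂ (h₁ : RightExactTangent C.X₁) (h₃ : RightExactTangent C.X₃) :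
    RightExactTangent C.X₂ := by
  intro B S hS
  obtain ⟨h₁s, h₁e⟩ := h₁ B S hS
  obtain ⟨h₃s, h₃e⟩ := h₃ B S hS
  constructor
  · intro y₂
    obtain ⟨z, hz⟩ := h₃s (tanHom B C.g S.X₃ y₂)
    obtain ⟨y, hy⟩ := Tp_surjective C hC B S.X₂ z
    have h1 : tanHom B C.g S.X₃ (tangentMap B C.X₂ S.g y - y₂) = 0 := by
      rw [map_sub, tanHom_tangentMap, hy, hz, sub_self]
    obtain ⟨x₂, hx₂⟩ := (Tip_exact C hC B S.X₃ _).1 h1
    obtain ⟨x, hx⟩ := h₁s x₂
    refine ⟨y - tanHom B C.f S.X₂ x, ?_⟩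
    rw [map_sub, ← tanHom_tangentMap, hx, hx₂, sub_sub_cancel]
  · ext y
    rw [AddMonoidHom.mem_ker, AddMonoidHom.mem_range]
    constructor
    · intro hy
      have h1 : tanHom B C.g S.X₂ y ∈ (tangentMap B C.X₃ S.g).ker := by
        rw [AddMonoidHom.mem_ker, ← tanHom_tangentMap, hy, _root_.map_zero]
      rw [h₃e] at h1
      obtain ⟨z₁, hz₁⟩ := h1
      obtain ⟨y₁, hy₁⟩ := Tp_surjective C hC B S.X₁ z₁
      have h2 : tanHom B C.g S.X₂ (y - tangentMap B C.X₂ S.f y₁) = 0 := by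
        rw [map_sub, tanHom_tangentMap, hy₁, hz₁, sub_self]
      obtain ⟨x, hx⟩ := (Tip_exact C hC B S.X₂ _).1 h2
      have h3 : tanHom B C.f S.X₃ (tangentMap B C.X₁ S.g x) = 0 := by
        rw [tanHom_tangentMap, hx, map_sub, hy,
          tangentMap_comp_eq_zero B C.X₂ S.f S.g S.zero, sub_zero]
      have h4 : tangentMap B C.X₁ S.g x = 0 := Ti_injective C hC B S.X₃ (h3.trans (_root_.map_zero _).symm)
      have h5 : x ∈ (tangentMap B C.X₁ S.g).ker := h4
      rw [h₁e] at h5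
      obtain ⟨x₁, hx₁⟩ := h5
      refine ⟨y₁ + tanHom B C.f S.X₁ x₁, ?_⟩
      rw [map_add, ← tanHom_tangentMap, hx₁, hx, add_sub_cancel]
    · rintro ⟨w, rfl⟩
      exact tangentMap_comp_eq_zero B C.X₂ S.f S.g S.zero w

end Chase

section Biprod
variable {A : Type u} [CommRing A]

theorem biprod_bijective (F : MVF A) (hF : RightExactTangent F) (B : Adeq.Alg A)
    (N₁ N₂ : ModuleCat.{u} B) :
    Function.Bijective ((AdeqTF.tangentMap B F (biprod.inl : N₁ ⟶ N₁ ⊞ N₂)).coprod
      (AdeqTF.tangentMap B F (biprod.inr : N₂ ⟶ N₁ ⊞ N₂))) := by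
  constructor
  · rw [injective_iff_map_eq_zero]
    rintro ⟨x₁, x₂⟩ h0
    have h : tangentMap B F (biprod.inl : N₁ ⟶ N₁ ⊞ N₂) x₁ +
        tangentMap B F (biprod.inr : N₂ ⟶ N₁ ⊞ N₂) x₂ = 0 := h0
    have h1 := congrArg (tangentMap B F (biprod.fst : N₁ ⊞ N₂ ⟶ N₁)) h
    rw [map_add, tangentMap_comp, tangentMap_comp, biprod.inl_fst, biprod.inr_fst, tangentMap_id,
      tangentMap_zero, add_zero, _root_.map_zero] at h1
    have h2 := congrArg (tangentMap B F (biprod.snd : N₁ ⊞ N₂ ⟶ N₂)) h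
    rw [map_add, tangentMap_comp, tangentMap_comp, biprod.inl_snd, biprod.inr_snd, tangentMap_id,
      tangentMap_zero, zero_add, _root_.map_zero] at h2
    exact Prod.ext h1 h2
  · intro y
    have hS := (ShortComplex.Splitting.ofHasBinaryBiproduct N₁ N₂).shortExact
    obtain ⟨-, he⟩ := hF B _ hS
    have h1 : y - tangentMap B F (biprod.inr : N₂ ⟶ N₁ ⊞ N₂)
        (tangentMap B F (biprod.snd : N₁ ⊞ N₂ ⟶ N₂) y) ∈
        (tangentMap B F (biprod.snd : N₁ ⊞ N₂ ⟶ N₂)).ker := by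
      rw [AddMonoidHom.mem_ker, map_sub, tangentMap_comp B F biprod.inr biprod.snd, biprod.inr_snd,
        tangentMap_id, sub_self]
    rw [he] at h1
    obtain ⟨x₁, hx₁⟩ := h1
    refine ⟨(x₁, tangentMap B F (biprod.snd : N₁ ⊞ N₂ ⟶ N₂) y), ?_⟩
    rw [AddMonoidHom.coprod_apply]
    change tangentMap B F biprod.inl x₁ + _ = y
    rw [hx₁, sub_add_cancel]

end Biprod

end Groth.Agent.Lib.R2H4.TangentFunctor
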