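import Mathlib
import Groth.Prelude.Def_W4stkadequateTF
import Groth.Agent.Lib.Helper23PshModGroth
import Groth.Agent.Lib.R2H4TangentFunctor

/-!
# Injective module-valued functors and tangent modules (helper4, round 2)

* `Fmap R p : F R X₀' ⟶ F R X₀` between the free presheaves of modules on representables; it is a
  monomorphism when `p` is.
* `map_surjective_of_injective`: an injective presheaf of modules sends monomorphisms `p` of the base
  category to surjections `I.map p.op`.
* `mapEl_surjective_of_injective`, `tangentMap_surjective_of_injective` for `Adeq.MVF A`.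
-/

set_option autoImplicit false
universe u
open CategoryTheory Limits Opposite

namespace Groth.Agent.Lib.R2H4.TangentInj
open Groth.Agent.Lib.Helper23PshModGroth

section General
variable {C₀ : Type (u+1)} [Category.{u} C₀] (R : C₀ᵒᵖ ⥤ RingCat.{u})

/-- the map of free presheaves of modules induced by a map of representing objects -/
noncomputable def Fmap {X₀' X₀ : C₀} (p : X₀' ⟶ X₀) : F R X₀' ⟶ F R X₀ :=
  toM R (F R X₀) X₀' ((F R X₀).map p.op (gen R X₀))

lemma Fmap_app_gen {X₀' X₀ : C₀} (p : X₀' ⟶ X₀) :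
    (Fmap R p).app (op X₀') (gen R X₀') = (F R X₀).map p.op (gen R X₀) :=
  toM_app R (F R X₀) X₀' _

lemma Fmap_app_apply {X₀' X₀ : C₀} (p : X₀' ⟶ X₀) (Y : C₀ᵒᵖ) (x : Idx X₀' Y →₀ R.obj Y) :
    ev R (F R X₀) X₀' ((F R X₀).map p.op (gen R X₀)) Y x =
      Finsupp.mapDomain (fun h : Idx X₀' Y => (⟨h.down ≫ p⟩ : Idx X₀ Y)) x := by
  induction x using Finsupp.induction_linear with
  | zero => rw [map_zero, Finsupp.mapDomain_zero]; rfl
  | add a b ha hb => rw [map_add, ha, hb, Finsupp.mapDomain_add]; rfl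
  | single h r =>
    rw [ev_single, Finsupp.mapDomain_single]
    have e1 : (F R X₀).map p.op (gen R X₀) = tr R X₀ p.op (Finsupp.single ⟨𝟙 X₀⟩ 1) := rfl
    have e2 : (F R X₀).restrictₛₗ h.down.op ((F R X₀).map p.op (gen R X₀)) =
        tr R X₀ h.down.op (tr R X₀ p.op (Finsupp.single ⟨𝟙 X₀⟩ 1)) := rfl
    rw [e2, tr_single, tr_single]
    change r • (Finsupp.single _ _ : Idx X₀ Y →₀ R.obj Y) = _
    rw [Finsupp.smul_single]
    simp

lemma Fmap_app_injective {X₀' X₀ : C₀} (p : X₀' ⟶ X₀) [Mono p] (Y : C₀ᵒᵖ) :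
    Function.Injective ((Fmap R p).app Y) := by
  intro x y hxy
  have hx : ev R (F R X₀) X₀' ((F R X₀).map p.op (gen R X₀)) Y x =
      ev R (F R X₀) X₀' ((F R X₀).map p.op (gen R X₀)) Y y := hxy
  rw [Fmap_app_apply, Fmap_app_apply] at hx
  refine Finsupp.mapDomain_injective ?_ hx
  intro h h' hh
  have h1 : h.down ≫ p = h'.down ≫ p := congrArg ULift.down hh
  exact ULift.ext _ _ ((cancel_mono p).1 h1)

instance Fmap_mono {X₀' X₀ : C₀} (p : X₀' ⟶ X₀) [Mono p] : Mono (Fmap R p) :=
  PresheafOfModules.mono_of_injective (fun Y => Fmap_app_injective R p Y)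

/-- an injective presheaf of modules sends monomorphisms of the base category to surjections -/
theorem map_surjective_of_injective (I : PresheafOfModules.{u+1} R) [Injective I] {X₀' X₀ : C₀}
    (p : X₀' ⟶ X₀) [Mono p] : Function.Surjective (I.map p.op) := by
  intro z
  let ψ : F R X₀ ⟶ I := Injective.factorThru (toM R I X₀' z) (Fmap R p)
  have hψ : Fmap R p ≫ ψ = toM R I X₀' z := Injective.comp_factorThru _ _
  refine ⟨ψ.app (op X₀) (gen R X₀), ?_⟩
  have h1 : I.map p.op (ψ.app (op X₀) (gen R X₀)) =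
      ψ.app (op X₀') ((F R X₀).map p.op (gen R X₀)) :=
    (PresheafOfModules.naturality_apply ψ p.op (gen R X₀)).symm
  rw [h1, ← Fmap_app_gen]
  have h2 : ψ.app (op X₀') ((Fmap R p).app (op X₀') (gen R X₀')) =
      (Fmap R p ≫ ψ).app (op X₀') (gen R X₀') := rfl
  rw [h2, hψ, toM_app]

end General

section MVFInj
open Adeq AdeqTF Groth.Agent.Helper13Adeq Groth.Agent.Lib.R2H4.TangentFunctor
variable {A : Type u} [CommRing A]

/-- an injective module-valued functor sends surjective algebra maps to surjections -/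
theorem mapEl_surjective_of_injective (I : MVF A) [Injective I] {C C' : Alg A} (π : C ⟶ C')
    (hπ : Function.Surjective π.hom) : Function.Surjective (mapEl I π) := by
  have : Epi π := ConcreteCategory.epi_of_surjective π hπ
  have : Mono π.op := inferInstance
  exact map_surjective_of_injective (ringOf A) I π.op

theorem ext_map_surjective (B : Alg A) {N N' : ModuleCat.{u} B} (g : N ⟶ N')
    (hg : Function.Surjective g.hom) : Function.Surjective (AdeqTF.map B g).hom := by
  intro x
  obtain ⟨n, hn⟩ := hg (TrivSqZeroExt.snd x)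
  refine ⟨TrivSqZeroExt.inl (TrivSqZeroExt.fst x) + TrivSqZeroExt.inr n, ?_⟩
  change TrivSqZeroExt.map g.hom _ = x
  refine TrivSqZeroExt.ext ?_ ?_
  · rw [TrivSqZeroExt.fst_map]
    simp
  · rw [TrivSqZeroExt.snd_map]
    simp [hn]

theorem tangentMap_surjective_of_injective (I : MVF A) [Injective I] (B : Alg A)
    {N N' : ModuleCat.{u} B} (g : N ⟶ N') (hg : Function.Surjective g.hom) :
    Function.Surjective (tangentMap B I g) := by
  intro z
  have hz : mapEl I (fst B N') z.1 = 0 := (mem_tangent B I z.1).1 z.2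
  obtain ⟨y, hy⟩ := mapEl_surjective_of_injective I (AdeqTF.map B g) (ext_map_surjective B g hg) z.1
  have h0 : mapEl I (fst B N) y = 0 := by
    rw [← AdeqTF.map_fst B g, mapEl_comp, hy, hz]
  refine ⟨⟨y, (mem_tangent B I y).2 h0⟩, ?_⟩
  apply Subtype.ext
  rw [tangentMap_val]
  exact hy

end MVFInj

end Groth.Agent.Lib.R2H4.TangentInj
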