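import Mathlib
import Groth.Prelude
import Groth.Agent.Lib.R2H4ChiBC
import Groth.Agent.Lib.R2H1DegPullback
import Groth.Agent.Lib.Helper2PullbackSec3
import Groth.Agent.Lib.Helper23FinPres
import Groth.Agent.Lib.R2H3AmpleSV
import Groth.Agent.Lib.R2H3NegTwist

/-!
# τ-equivalence to zero and Euler characteristics (helper4)

* `isFlatOver_of_field`: every module on a scheme over a field is flat over the field;
* `chi_point`: the fibrewise Euler characteristic of `X ⟶ Spec k` at the point of `Spec k` is the Euler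
  characteristic over `k`;
* `euler_tensor_of_isAlgEquivZero`: `χ(F ⊗ N) = χ(F)` for `N` algebraically equivalent to zero, `F` coherent;
* `euler_tensorPow_of_isTauEquivZero`: `χ(F ⊗ L^m) = χ(F)` for all `m` when `L` is τ-equivalent to zero
  (Snapper polynomial + periodicity);
* `s4276`, `s4305`.
-/

set_option autoImplicit false
set_option linter.style.haveILetI false
set_option linter.unusedSectionVars false
universe u
open CategoryTheory CategoryTheory.Limits AlgebraicGeometry TopologicalSpace Opposite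
open AlgebraicGeometry.Scheme.Modules

noncomputable section

namespace Groth.Agent.Lib.R2H4TauChi

open Groth.Agent.Lib.Helper23.SecTw Groth.Agent.Lib.Helper23.PB Groth.Agent.Lib.R2H4TensorPows
open Groth.Agent.Lib.R2H4SnapperFam (chi)
open Groth.Agent.Lib.R2H4ChiBC

section Field

theorem flat_of_isField {R M : Type*} [CommRing R] [AddCommGroup M] [Module R M] (h : IsField R) :
    Module.Flat R M := by
  letI := h.toField
  infer_instance

variable (k : Type u) [Field k]

theorem isFlatOver_of_field {X : Scheme.{u}} (p : X ⟶ Spec (CommRingCat.of k)) (M : X.Modules) :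
    FlatMod.IsFlatOver p M := by
  intro x
  haveI : Subsingleton ↥(Spec (CommRingCat.of k)) :=
    inferInstanceAs (Subsingleton (PrimeSpectrum k))
  letI := FlatMod.moduleStalkOver p M x
  show Module.Flat ((Spec (CommRingCat.of k)).presheaf.stalk (p x)) (M.presheaf.stalk x)
  exact flat_of_isField (Groth.Agent.Lib.R2H1.DegPullback.isField_stalk_of_eq_genericPoint (p x)
    (Subsingleton.elim _ _))

/-- the fibrewise Euler characteristic over the point of `Spec k` -/
theorem chi_point {X : Scheme.{u}} (p : X ⟶ Spec (CommRingCat.of k)) [QuasiCompact p] [QuasiSeparated p]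
    (A : X.Modules) [A.IsQuasicoherent] (x₀ : Spec (CommRingCat.of k)) :
    chi p A x₀ = @Curv2.euler k _ X ⟨p⟩ A := by
  letI : X.Over (Spec (CommRingCat.of k)) := ⟨p⟩
  let φ : CommRingCat.of k ⟶ (Spec (CommRingCat.of k)).residueField x₀ :=
    Spec.preimage ((Spec (CommRingCat.of k)).fromSpecResidueField x₀)
  have hφ : Spec.map φ = (Spec (CommRingCat.of k)).fromSpecResidueField x₀ := Spec.map_preimage _
  letI : Algebra k ((Spec (CommRingCat.of k)).residueField x₀) := φ.hom.toAlgebra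
  letI : (p.fiber x₀).Over (Spec (CommRingCat.of ((Spec (CommRingCat.of k)).residueField x₀))) :=
    ⟨p.fiberToSpecResidueField x₀⟩
  haveI : CompactSpace X := QuasiCompact.compactSpace_of_compactSpace p
  haveI : QuasiSeparatedSpace X := quasiSeparatedSpace_of_quasiSeparated p
  have hpb : IsPullback (p.fiberι x₀)
      ((p.fiber x₀) ↘ Spec (CommRingCat.of ((Spec (CommRingCat.of k)).residueField x₀)))
      (X ↘ Spec (CommRingCat.of k))
      (Spec.map (CommRingCat.ofHom (algebraMap k ((Spec (CommRingCat.of k)).residueField x₀)))) := by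
    have h1 : Spec.map (CommRingCat.ofHom (algebraMap k
        ((Spec (CommRingCat.of k)).residueField x₀))) =
        (Spec (CommRingCat.of k)).fromSpecResidueField x₀ := hφ
    rw [h1]
    exact IsPullback.of_hasPullback p _
  haveI : Coh.IsQCoh A := ‹A.IsQuasicoherent›
  exact Groth.Agent.Lib.R2H4BCGlue.euler_eq (k := k)
    (k' := (Spec (CommRingCat.of k)).residueField x₀) (p.fiberι x₀) A
    (fun i => Groth.Agent.S0034.result k ((Spec (CommRingCat.of k)).residueField x₀)
      X (p.fiber x₀) (p.fiberι x₀) hpb A i)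

end Field

section AlgEquiv

variable (k : Type u) [Field k] (X : Scheme.{u}) [X.Over (Spec (CommRingCat.of k))]
  [IsProper (X ↘ Spec (CommRingCat.of k))]

/-- **tensoring with a module algebraically equivalent to zero does not change the Euler characteristic** -/
theorem euler_tensor_of_isAlgEquivZero (N : X.Modules) (hN : Pic13.IsAlgEquivZero k X N)
    (F : X.Modules) (hF : Coh.IsCoh F) :
    Curv2.euler k X (CohB1.tensorMod F N) = Curv2.euler k X F := by
  obtain ⟨T, q, hconn, hlft, hqc, M, hM, t, t₀, ht, ht₀, ⟨e⟩, ⟨e₀⟩⟩ := hN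
  haveI := hconn
  let p : X ⟶ Spec (CommRingCat.of k) := X ↘ Spec (CommRingCat.of k)
  haveI : IsProper p := ‹IsProper (X ↘ Spec (CommRingCat.of k))›
  haveI : IsNoetherian X := Groth.Agent.Lib.R2H1.CurveEuler.isNoetherian_of_proper k X
  haveI : LocallyOfFinitePresentation p :=
    LocallyOfFinitePresentation.iff_locallyOfFiniteType.mpr inferInstance
  let pr₁ : Pic13.prodK k X q ⟶ X := pullback.fst p q
  let p₂ : Pic13.prodK k X q ⟶ T := pullback.snd p q
  haveI : IsProper p₂ := inferInstanceAs (IsProper (pullback.snd p q))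
  haveI : LocallyOfFinitePresentation p₂ :=
    inferInstanceAs (LocallyOfFinitePresentation (pullback.snd p q))
  haveI : F.IsQuasicoherent := hF.1
  haveI : SheafOfModules.IsFiniteType (R := X.ringCatSheaf) F := hF.2
  have hFfp : CohB1.IsFP F :=
    Groth.Agent.Lib.Helper23.FinType.isFinitePresentation_of_isFiniteType F
  let E : (Pic13.prodK k X q).Modules := (Scheme.Modules.pullback pr₁).obj F
  haveI hEq : E.IsQuasicoherent := Groth.Agent.Lib.Helper2.PullbackSec.isQuasicoherent_pullback pr₁ F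
  have hEfp : CohB1.IsFP E := Groth.Agent.Helper18Strict.isFP_pullback pr₁ F hFfp
  have hEfl : FlatMod.IsFlatOver p₂ E := fun x' =>
    Groth.Agent.Lib.Helper2.PullbackSec.isFlatOverAt_pullback_of_isPullback
      (IsPullback.of_hasPullback p q) F x' (isFlatOver_of_field k p F _)
  haveI : M.IsQuasicoherent := isQuasicoherent_of_isInvertible M hM
  let G : (Pic13.prodK k X q).Modules := CohB1.tensorMod E M
  have hGfp : CohB1.IsFP G :=
    Groth.Agent.Lib.R2H4SnapperFam.isFP_tensorMod_of_isInvertible E M hEfp hM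
  have hGfl : FlatMod.IsFlatOver p₂ G :=
    Groth.Agent.Lib.R2H2.FlatTwist.isFlatOver_tensorMod_of_isInvertible p₂ E M hM hEfl
  have hlc : IsLocallyConstant (fun s : T => chi p₂ G s) := Groth.Agent.S1026.result p₂ G hGfp hGfl
  haveI : G.IsQuasicoherent := Groth.Agent.Lib.Helper23.TensorQCoh.isQuasicoherent_tensorMod E M
  let x₀ : Spec (CommRingCat.of k) := IsLocalRing.closedPoint k
  have hx : ∀ (t : Spec (CommRingCat.of k) ⟶ T) (ht : t ≫ q = 𝟙 _),
      Curv2.euler k X (CohB1.tensorMod F (Pic13.fibreMod k X q t ht M)) = chi p₂ G (t x₀) := by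
    intro t ht
    have h1 := chi_baseChange (isPullback_sliceAt k X q t ht) G x₀
    haveI : ((Scheme.Modules.pullback (Pic13.sliceAt k X q t ht)).obj G).IsQuasicoherent :=
      Groth.Agent.Lib.Helper2.PullbackSec.isQuasicoherent_pullback _ G
    rw [← h1, chi_point k p _ x₀]
    have hsl : Pic13.sliceAt k X q t ht ≫ pr₁ = 𝟙 X := pullback.lift_fst _ _ _
    let a : (Scheme.Modules.pullback (Pic13.sliceAt k X q t ht)).obj E ≅ F :=
      (Scheme.Modules.pullbackComp (Pic13.sliceAt k X q t ht) pr₁).app F ≪≫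
        (Scheme.Modules.pullbackCongr hsl).app F ≪≫ (Scheme.Modules.pullbackId X).app F
    exact Groth.Agent.Lib.R2H4SSDescent.euler_eq_of_iso
      ((Groth.Agent.Lib.Helper23.RestrTensor.pullbackTensorIso E M (Pic13.sliceAt k X q t ht) ≪≫
        tIso a (Iso.refl _)).symm)
  have h2 : Curv2.euler k X (CohB1.tensorMod F N) =
      Curv2.euler k X (CohB1.tensorMod F (Pic13.fibreMod k X q t ht M)) :=
    Groth.Agent.Lib.R2H4SSDescent.euler_eq_of_iso (tIso (Iso.refl _) e.symm)
  have h3 : Curv2.euler k X F =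
      Curv2.euler k X (CohB1.tensorMod F (Pic13.fibreMod k X q t₀ ht₀ M)) :=
    Groth.Agent.Lib.R2H4SSDescent.euler_eq_of_iso ((rUnit F).symm ≪≫ tIso (Iso.refl _) e₀.symm)
  rw [h2, h3, hx t ht, hx t₀ ht₀]
  exact hlc.apply_eq_of_preconnectedSpace _ _

open MvPolynomial in
/-- **tensoring with powers of a module τ-equivalent to zero does not change the Euler characteristic** -/
theorem euler_tensorPow_of_isTauEquivZero (d : ℕ) (hd : topologicalKrullDim X ≤ d)
    (L : X.Modules) (hL : PicF.IsInvertible L) (hτ : Pic13.IsTauEquivZero k X L)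
    (F : X.Modules) (hF : Coh.IsCoh F) (m : ℕ) :
    Curv2.euler k X (CohB1.tensorMod F (CohB1.tensorPow L m)) = Curv2.euler k X F := by
  obtain ⟨n, hn, hA⟩ := hτ
  have hsupp : topologicalKrullDim (CohB1.support F) ≤ d :=
    (topologicalKrullDim_subspace_le _ _).trans hd
  obtain ⟨P, hP, hev⟩ := Groth.Agent.Lib.R2H4Snapper.s1528 k F hF d hsupp 1 (fun _ => L)
    (fun _ => hL)
  have hev' : ∀ j : ℕ, (Curv2.euler k X (CohB1.tensorMod F (CohB1.tensorPow L j)) : ℚ) =
      eval (fun _ : Fin 1 => (j : ℚ)) P := fun j => hev (fun _ => j)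
  have hcoh : ∀ j : ℕ, Coh.IsCoh (CohB1.tensorMod F (CohB1.tensorPow L j)) := fun j =>
    Groth.Agent.Lib.R2H4SSDescent.isCoh_tensorMod _ _ hF
      (Groth.Agent.Lib.R2H4SSDescent.isCoh_of_isInvertible _ (isInvertible_tensorPow hL j))
  have hper : ∀ j : ℕ, Curv2.euler k X (CohB1.tensorMod F (CohB1.tensorPow L (j + n))) =
      Curv2.euler k X (CohB1.tensorMod F (CohB1.tensorPow L j)) := by
    intro j
    obtain ⟨a⟩ := Groth.Agent.Lib.R2H3.AmpleSV.nonempty_tensor_tensorPow_add_iso F L j n (j + n) rfl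
    rw [← Groth.Agent.Lib.R2H4SSDescent.euler_eq_of_iso a]
    exact euler_tensor_of_isAlgEquivZero k X _ hA _ (hcoh j)
  have hmul : ∀ j : ℕ, Curv2.euler k X (CohB1.tensorMod F (CohB1.tensorPow L (j * n))) =
      Curv2.euler k X (CohB1.tensorMod F (CohB1.tensorPow L 0)) := by
    intro j
    induction j with
    | zero => rw [Nat.zero_mul]
    | succ j ih => rw [Nat.succ_mul, hper, ih]
  have hP0 : P - C (eval (fun _ : Fin 1 => (0 : ℚ)) P) = 0 := by
    apply MvPolynomial.eq_zero_of_eval_zero_at_prod_finset _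
      (fun _ => (Finset.range (d + 1)).image (fun j : ℕ => ((j * n : ℕ) : ℚ)))
    · intro i
      have h1 : (P - C (eval (fun _ : Fin 1 => (0 : ℚ)) P)).degreeOf i ≤
          (P - C (eval (fun _ : Fin 1 => (0 : ℚ)) P)).totalDegree := degreeOf_le_totalDegree _ _
      have h2 : (P - C (eval (fun _ : Fin 1 => (0 : ℚ)) P)).totalDegree ≤
          max P.totalDegree (C (eval (fun _ : Fin 1 => (0 : ℚ)) P)).totalDegree :=
        totalDegree_sub _ _
      have h3 : (C (eval (fun _ : Fin 1 => (0 : ℚ)) P) : MvPolynomial (Fin 1) ℚ).totalDegree = 0 :=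
        totalDegree_C _
      have hinj : Function.Injective (fun j : ℕ => ((j * n : ℕ) : ℚ)) := by
        intro a b hab
        have : a * n = b * n := Nat.cast_injective hab
        exact Nat.eq_of_mul_eq_mul_right hn this
      rw [Finset.card_image_of_injective _ hinj, Finset.card_range]
      rw [h3] at h2
      have h4 : max P.totalDegree 0 ≤ d := max_le hP (Nat.zero_le _)
      omega
    · intro x hx
      obtain ⟨j, -, hj⟩ := Finset.mem_image.1 (hx 0)
      have hx' : x = fun _ : Fin 1 => ((j * n : ℕ) : ℚ) := by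
        funext i
        rw [Fin.fin_one_eq_zero i]
        exact hj.symm
      rw [hx', map_sub, eval_C, ← hev' (j * n), hmul j, hev' 0]
      simp
  have hPc : P = C (eval (fun _ : Fin 1 => (0 : ℚ)) P) := sub_eq_zero.1 hP0
  have h1 : (Curv2.euler k X (CohB1.tensorMod F (CohB1.tensorPow L m)) : ℚ) =
      (Curv2.euler k X (CohB1.tensorMod F (CohB1.tensorPow L 0)) : ℚ) := by
    rw [hev' m, hev' 0, hPc, eval_C, eval_C]
  have h2 : Curv2.euler k X (CohB1.tensorMod F (CohB1.tensorPow L m)) =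
      Curv2.euler k X (CohB1.tensorMod F (CohB1.tensorPow L 0)) := Int.cast_injective h1
  rw [h2]
  exact Groth.Agent.Lib.R2H4SSDescent.euler_eq_of_iso (rUnit F)

/-- **S4276** -/
theorem s4276 (d : ℕ) (hd : topologicalKrullDim X ≤ d)
    (L : X.Modules) (hL : PicF.IsInvertible L) (hτ : Pic13.IsTauEquivZero k X L) (F : X.Modules)
    (hF : Coh.IsCoh F) :
    FGA.eulerCharLE k X (CohB1.tensorMod F L) d = FGA.eulerCharLE k X F d := by
  rw [Groth.Agent.Lib.R2H4GVSch.eulerCharLE_eq_euler k X d hd,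
    Groth.Agent.Lib.R2H4GVSch.eulerCharLE_eq_euler k X d hd,
    ← euler_tensorPow_of_isTauEquivZero k X d hd L hL hτ F hF 1]
  exact Groth.Agent.Lib.R2H4SSDescent.euler_eq_of_iso (tIso (Iso.refl F) (lUnit L).symm)

/-- the inverse direction: twisting by powers of an inverse of a module τ-equivalent to zero -/
theorem euler_tensorPow_inverse (d : ℕ) (hd : topologicalKrullDim X ≤ d)
    (L L' : X.Modules) (hL : PicF.IsInvertible L) (hLL' : ClSub.IsInverseOf L L')
    (hτ : Pic13.IsTauEquivZero k X L) (F : X.Modules) (hF : Coh.IsCoh F) (m : ℕ) :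
    Curv2.euler k X (CohB1.tensorMod F (CohB1.tensorPow L' m)) = Curv2.euler k X F := by
  have hL' : PicF.IsInvertible L' := Groth.Agent.Lib.R2H3.NegTwist.isInvertible_of_isInverseOf L L' hLL'
  have hcoh : Coh.IsCoh (CohB1.tensorMod F (CohB1.tensorPow L' m)) :=
    Groth.Agent.Lib.R2H4SSDescent.isCoh_tensorMod _ _ hF
      (Groth.Agent.Lib.R2H4SSDescent.isCoh_of_isInvertible _ (isInvertible_tensorPow hL' m))
  rw [← euler_tensorPow_of_isTauEquivZero k X d hd L hL hτ _ hcoh m]
  obtain ⟨a⟩ := Groth.Agent.Lib.R2H3.NegTwist.nonempty_step_iso F L L' hL hLL' 0 m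
  rw [Nat.zero_add] at a
  exact Groth.Agent.Lib.R2H4SSDescent.euler_eq_of_iso (a ≪≫ rUnit F)

/-- **S4305** -/
theorem s4305 (d : ℕ) (hd : topologicalKrullDim X ≤ d) (H H' L L' : X.Modules) (hH : CohB1.IsAmple H)
    (hL : PicF.IsInvertible L)
    (hHH' : Nonempty (CohB1.tensorMod H H' ≅ Coh.structureModule X))
    (hLL' : Nonempty (CohB1.tensorMod L L' ≅ Coh.structureModule X))
    (hτ : Pic13.IsTauEquivZero k X L) (m n : ℕ) :
      FGA.eulerCharLE k X (CohB1.tensorMod (CohB1.tensorPow L m) (CohB1.tensorPow H n)) d =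
        FGA.eulerCharLE k X (CohB1.tensorPow H n) d ∧
      FGA.eulerCharLE k X (CohB1.tensorMod (CohB1.tensorPow L m) (CohB1.tensorPow H' n)) d =
        FGA.eulerCharLE k X (CohB1.tensorPow H' n) d ∧
      FGA.eulerCharLE k X (CohB1.tensorMod (CohB1.tensorPow L' m) (CohB1.tensorPow H n)) d =
        FGA.eulerCharLE k X (CohB1.tensorPow H n) d ∧
      FGA.eulerCharLE k X (CohB1.tensorMod (CohB1.tensorPow L' m) (CohB1.tensorPow H' n)) d =
        FGA.eulerCharLE k X (CohB1.tensorPow H' n) d := by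
  have hHi : PicF.IsInvertible H := hH.1
  have hH'i : PicF.IsInvertible H' :=
    Groth.Agent.Lib.R2H3.NegTwist.isInvertible_of_isInverseOf H H' hHH'
  have c1 : Coh.IsCoh (CohB1.tensorPow H n) :=
    Groth.Agent.Lib.R2H4SSDescent.isCoh_of_isInvertible _ (isInvertible_tensorPow hHi n)
  have c2 : Coh.IsCoh (CohB1.tensorPow H' n) :=
    Groth.Agent.Lib.R2H4SSDescent.isCoh_of_isInvertible _ (isInvertible_tensorPow hH'i n)
  have key1 : ∀ (F : X.Modules), Coh.IsCoh F →
      FGA.eulerCharLE k X (CohB1.tensorMod (CohB1.tensorPow L m) F) d = FGA.eulerCharLE k X F d := by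
    intro F hF
    rw [Groth.Agent.Lib.R2H4GVSch.eulerCharLE_eq_euler k X d hd,
      Groth.Agent.Lib.R2H4GVSch.eulerCharLE_eq_euler k X d hd,
      ← euler_tensorPow_of_isTauEquivZero k X d hd L hL hτ F hF m]
    exact Groth.Agent.Lib.R2H4SSDescent.euler_eq_of_iso (tComm _ _)
  have key2 : ∀ (F : X.Modules), Coh.IsCoh F →
      FGA.eulerCharLE k X (CohB1.tensorMod (CohB1.tensorPow L' m) F) d = FGA.eulerCharLE k X F d := by
    intro F hF
    rw [Groth.Agent.Lib.R2H4GVSch.eulerCharLE_eq_euler k X d hd,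
      Groth.Agent.Lib.R2H4GVSch.eulerCharLE_eq_euler k X d hd,
      ← euler_tensorPow_inverse k X d hd L L' hL hLL' hτ F hF m]
    exact Groth.Agent.Lib.R2H4SSDescent.euler_eq_of_iso (tComm _ _)
  exact ⟨key1 _ c1, key1 _ c2, key2 _ c1, key2 _ c2⟩

end AlgEquiv

section Pullback

variable (k : Type u) [Field k] (X : Scheme.{u}) [X.Over (Spec (CommRingCat.of k))]

theorem isAlgEquivZero_of_iso {N N' : X.Modules} (e : N ≅ N') (hN : Pic13.IsAlgEquivZero k X N) :
    Pic13.IsAlgEquivZero k X N' := by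
  obtain ⟨T, q, hconn, hlft, hqc, M, hM, t, t₀, ht, ht₀, ⟨e₁⟩, h₀⟩ := hN
  exact ⟨T, q, hconn, hlft, hqc, M, hM, t, t₀, ht, ht₀, ⟨e₁ ≪≫ e⟩, h₀⟩

/-- algebraic equivalence to zero is preserved by pullback along a `k`-morphism -/
theorem isAlgEquivZero_pullback {Y : Scheme.{u}} [Y.Over (Spec (CommRingCat.of k))] (h : Y ⟶ X)
    (hh : h ≫ (X ↘ Spec (CommRingCat.of k)) = Y ↘ Spec (CommRingCat.of k))
    (N : X.Modules) (hN : Pic13.IsAlgEquivZero k X N) :
    Pic13.IsAlgEquivZero k Y ((Scheme.Modules.pullback h).obj N) := by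
  obtain ⟨T, q, hconn, hlft, hqc, M, hM, t, t₀, ht, ht₀, ⟨e₁⟩, ⟨e₀⟩⟩ := hN
  let hT : Pic13.prodK k Y q ⟶ Pic13.prodK k X q :=
    pullback.map (Y ↘ Spec (CommRingCat.of k)) q (X ↘ Spec (CommRingCat.of k)) q h (𝟙 T) (𝟙 _)
      (by rw [Category.comp_id, hh]) (by rw [Category.comp_id, Category.id_comp])
  have hsl : ∀ (t : Spec (CommRingCat.of k) ⟶ T) (ht : t ≫ q = 𝟙 _),
      Pic13.sliceAt k Y q t ht ≫ hT = h ≫ Pic13.sliceAt k X q t ht := by
    intro t ht
    apply pullback.hom_ext
    · simp only [hT, Pic13.sliceAt, Category.assoc, pullback.lift_fst, pullback.lift_fst_assoc,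
        Category.id_comp, Category.comp_id]
    · simp only [hT, Pic13.sliceAt, Category.assoc, pullback.lift_snd, Category.comp_id]
      rw [← Category.assoc, hh]
  have key : ∀ (t : Spec (CommRingCat.of k) ⟶ T) (ht : t ≫ q = 𝟙 _),
      Pic13.fibreMod k Y q t ht ((Scheme.Modules.pullback hT).obj M) ≅
        (Scheme.Modules.pullback h).obj (Pic13.fibreMod k X q t ht M) := fun t ht =>
    (Scheme.Modules.pullbackComp (Pic13.sliceAt k Y q t ht) hT).app M ≪≫
      (Scheme.Modules.pullbackCongr (hsl t ht)).app M ≪≫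
      ((Scheme.Modules.pullbackComp h (Pic13.sliceAt k X q t ht)).app M).symm
  refine ⟨T, q, hconn, hlft, hqc, (Scheme.Modules.pullback hT).obj M, isInvertible_pullback hT M hM,
    t, t₀, ht, ht₀, ⟨key t ht ≪≫ (Scheme.Modules.pullback h).mapIso e₁⟩,
    ⟨key t₀ ht₀ ≪≫ (Scheme.Modules.pullback h).mapIso e₀ ≪≫ pullbackUnitIso h⟩⟩

/-- τ-equivalence to zero is preserved by pullback along a `k`-morphism -/
theorem isTauEquivZero_pullback {Y : Scheme.{u}} [Y.Over (Spec (CommRingCat.of k))] (h : Y ⟶ X)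
    (hh : h ≫ (X ↘ Spec (CommRingCat.of k)) = Y ↘ Spec (CommRingCat.of k))
    (L : X.Modules) (hL : PicF.IsInvertible L) (hτ : Pic13.IsTauEquivZero k X L) :
    Pic13.IsTauEquivZero k Y ((Scheme.Modules.pullback h).obj L) := by
  obtain ⟨n, hn, hA⟩ := hτ
  obtain ⟨a⟩ := nonempty_pullback_tensorPow_iso h L hL n
  exact ⟨n, hn, isAlgEquivZero_of_iso k Y a (isAlgEquivZero_pullback k X h hh _ hA)⟩

/-- **S4278** -/
theorem s4278 [IsProper (X ↘ Spec (CommRingCat.of k))]
    (L : X.Modules) (hL : PicF.IsInvertible L) (hτ : Pic13.IsTauEquivZero k X L) :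
    Pic13.IsNumEquivZero k X L := by
  intro Y i _ hint hdim
  letI : Y.Over (Spec (CommRingCat.of k)) := ⟨i ≫ (X ↘ Spec (CommRingCat.of k))⟩
  haveI : IsProper (Y ↘ Spec (CommRingCat.of k)) :=
    inferInstanceAs (IsProper (i ≫ (X ↘ Spec (CommRingCat.of k))))
  have h1 := isTauEquivZero_pullback k X i rfl L hL hτ
  have hO : Coh.IsCoh (Coh.structureModule Y) :=
    Groth.Agent.Lib.R2H4SSDescent.isCoh_of_isInvertible _
      (Groth.Agent.Lib.Helper23.TensorUnit.isInvertible_structureModule Y)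
  have h2 := s4276 k Y 1 (le_of_eq hdim) _ (isInvertible_pullback i L hL) h1 _ hO
  unfold Pic13.curveDeg
  rw [← h2, sub_eq_zero]
  exact Groth.Agent.Lib.R2H4SelfInt.eulerCharLE_congr k Y (lUnit _).symm 1

end Pullback

end Groth.Agent.Lib.R2H4TauChi
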