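import Mathlib
import Groth.Agent.Lib.R2H4NakaiMain
import Groth.Agent.Lib.R2H4TauChi
import Groth.Agent.Lib.R2H4FlatLF
set_option backward.isDefEq.respectTransparency.types false

/-!
helper4 (run 2): twisting an ample module by a numerically trivial one (S4280).
`isAmple_twist` : `H` ample, `E` invertible with `χ(F ⊗ E^j) = χ(F)` for all coherent `F` ⟹ `E ⊗ H`
ample (via Nakai–Moishezon); `s4280` : `L` τ-equivalent to zero ⟹ `L^m ⊗ H`, `L'^m ⊗ H` ample.
-/

set_option autoImplicit false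
set_option linter.style.haveILetI false
set_option linter.unusedSectionVars false
universe u v

open CategoryTheory CategoryTheory.Limits AlgebraicGeometry TopologicalSpace Opposite

namespace Groth.Agent.Lib.R2H4TauAmple

open Groth.Agent.Lib.R2H4TensorPows Groth.Agent.Lib.R2H4NumPoly

variable (k : Type u) [Field k] (X : Scheme.{u}) [X.Over (Spec (CommRingCat.of k))]
    [IsProper (X ↘ (Spec (CommRingCat.of k)))]

/-- an ample module twisted by an invertible module which does not change Euler characteristics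
is ample -/
theorem isAmple_twist (H : X.Modules) (hH : CohB1.IsAmple H) (E : X.Modules)
    (hE : PicF.IsInvertible E)
    (hχ : ∀ (F : X.Modules), Coh.IsCoh F → ∀ j : ℕ,
      Curv2.euler k X (CohB1.tensorMod F (CohB1.tensorPow E j)) = Curv2.euler k X F) :
    CohB1.IsAmple (CohB1.tensorMod E H) := by
  haveI := Groth.Agent.Lib.R2H1.CurveEuler.isNoetherian_of_proper k X
  have hN : PicF.IsInvertible (CohB1.tensorMod E H) :=
    Groth.Agent.Lib.Helper23.SecTw.isInvertible_tensorMod hE hH.1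
  refine Groth.Agent.Lib.R2H4NakaiMain.main k X _ hN (fun Z hZ d hd hdim P hP => ?_)
  have hsupp : CohB1.support (ClSub.quotMod Z) = (Z.support : Set X) := by
    refine Set.Subset.antisymm (Groth.Agent.Lib.R2H1.DegCartier.support_quotMod_subset Z)
      (fun x hx => ?_)
    haveI := Groth.Agent.Lib.R2H4FlatLF.nontrivial_stalk_quotMod Z x hx
    exact not_subsingleton _
  have cF : Coh.IsCoh (ClSub.quotMod Z) := Groth.Agent.Lib.R2H4Quo.isCoh_quotMod Z
  refine Groth.Agent.Lib.R2H4FGAPos.pos_coh k d (fun _ => H) (fun _ => hH)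
    (ClSub.quotMod Z) cF (by rw [hsupp]; exact hdim) P (fun n => ?_)
  unfold fE ev
  rw [← hP n]
  congr 1
  obtain ⟨e₁⟩ := Groth.Agent.Lib.R2H4AsympRR.nonempty_powsConst (ClSub.quotMod Z) H d n
  obtain ⟨e₂⟩ := Groth.Agent.Lib.R2H4AsympRR.nonempty_powsConst (ClSub.quotMod Z)
    (CohB1.tensorMod E H) d n
  obtain ⟨e₃⟩ := Groth.Agent.Lib.Helper23.SecTw.nonempty_tensorPow_tensorMod_iso E H hE hH.1
    (∑ i, n i)
  have cFH : Coh.IsCoh (CohB1.tensorMod (ClSub.quotMod Z) (CohB1.tensorPow H (∑ i, n i))) :=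
    Groth.Agent.Lib.R2H3.AmpleSV.isCoh_tensorMod_invertible _ _ cF
      (Groth.Agent.Lib.Helper23.SecTw.isInvertible_tensorPow hH.1 _)
  rw [Groth.Agent.Lib.R2H1.DegCartier.euler_congr k e₁,
    Groth.Agent.Lib.R2H1.DegCartier.euler_congr k (e₂ ≪≫ tIso (Iso.refl _) e₃.symm ≪≫
      tIso (Iso.refl _) (tComm _ _) ≪≫ (tAssoc _ _ _).symm)]
  exact (hχ _ cFH (∑ i, n i)).symm

/-- **S4280** over an arbitrary field -/
theorem s4280 (H : X.Modules) (hH : CohB1.IsAmple H) (L L' : X.Modules)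
    (hL : PicF.IsInvertible L)
    (hLL' : Nonempty (CohB1.tensorMod L L' ≅ Coh.structureModule X))
    (hτ : Pic13.IsTauEquivZero k X L) (m : ℕ) :
    CohB1.IsAmple (CohB1.tensorMod (CohB1.tensorPow L m) H) ∧
      CohB1.IsAmple (CohB1.tensorMod (CohB1.tensorPow L' m) H) := by
  haveI : CompactSpace X :=
    QuasiCompact.compactSpace_of_compactSpace (X ↘ Spec (CommRingCat.of k))
  have hfin := Groth.Agent.Lib.Helper3.DimCons.topologicalKrullDim_lt_top_of_lft_field k
    (X ↘ Spec (CommRingCat.of k))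
  obtain ⟨d, hd⟩ := Groth.Agent.Lib.R2H4NakaiCore.exists_nat_gt_of_lt_top _ hfin
  have hL' : PicF.IsInvertible L' :=
    Groth.Agent.Lib.R2H3.NegTwist.isInvertible_of_isInverseOf L L' hLL'
  constructor
  · refine isAmple_twist k X H hH _ (Groth.Agent.Lib.Helper23.SecTw.isInvertible_tensorPow hL m)
      (fun F hF j => ?_)
    obtain ⟨Φ⟩ := Groth.Agent.Lib.Helper23.SecTw.nonempty_tensorPow_tensorPow_iso L hL m j (m * j) rfl
    rw [Groth.Agent.Lib.R2H1.DegCartier.euler_congr k (tIso (Iso.refl F) Φ)]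
    exact Groth.Agent.Lib.R2H4TauChi.euler_tensorPow_of_isTauEquivZero k X d hd.le L hL hτ F hF _
  · refine isAmple_twist k X H hH _ (Groth.Agent.Lib.Helper23.SecTw.isInvertible_tensorPow hL' m)
      (fun F hF j => ?_)
    obtain ⟨Φ⟩ := Groth.Agent.Lib.Helper23.SecTw.nonempty_tensorPow_tensorPow_iso L' hL' m j (m * j) rfl
    rw [Groth.Agent.Lib.R2H1.DegCartier.euler_congr k (tIso (Iso.refl F) Φ)]
    exact Groth.Agent.Lib.R2H4TauChi.euler_tensorPow_inverse k X d hd.le L L' hL hLL' hτ F hF _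

end Groth.Agent.Lib.R2H4TauAmple
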