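import Mathlib
import Groth.Prelude
import Groth.Agent.Lib.R2H2FibreCoh
import Groth.Agent.Lib.R2H2FormalFn
import Groth.Agent.Lib.H9ZarLift
import Groth.Agent.Lib.H9ZarModPow
import Groth.Agent.Lib.R2H1CurveDegSec
import Groth.Agent.Lib.R2H4FFPic
import Groth.Agent.S9705
import Groth.Agent.Lib.Helper23FinTypeLocal
import Groth.Agent.Lib.Helper23Restr

/-!
# An invertible module trivial on all thickenings of the closed fibre is trivial (helper4, round 2)

`Y` proper over a Noetherian local ring `(A, 𝔪)`; `L` invertible on `Y`, trivial on every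
`Y ×_A A/𝔪^{N+1}`.  Then `L` is trivial.  Uses helper2's `range_eq` (the Artin–Rees part of the theorem on
formal functions, no completeness needed) and `isIso_ubar` (`M/JM ≅ g_* g^* M`).
-/

set_option autoImplicit false
set_option linter.style.haveILetI false
set_option linter.unusedSectionVars false
universe u
open CategoryTheory CategoryTheory.Limits AlgebraicGeometry TopologicalSpace Opposite

noncomputable section

namespace Groth.Agent.Lib.R2H4ThickTriv

open Groth.Agent.Lib.Helper23.SecTw Groth.Agent.Lib.Helper23.GenLocus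
  Groth.Agent.Lib.Helper23.Extend Groth.Agent.Lib.Helper6 Groth.Agent.Helper13PullbackUnit
  Groth.Agent.Lib.Helper27PullGen Groth.Agent.Lib.Helper23.PB Groth.Agent.Lib.Helper23.GenNear
  Groth.Agent.Lib.R2H2.FlatDev Groth.Agent.Lib.R2H2.FibreCoh Groth.Agent.Lib.R2H2.SheafBC

section Quot

variable {A : Type u} [CommRing A] {X : Scheme.{u}} [X.Over (Spec (CommRingCat.of A))]

/-- the closed subscheme `X ×_A A/J` -/
abbrev XJ (X : Scheme.{u}) [X.Over (Spec (CommRingCat.of A))] (J : Ideal A) : Scheme.{u} :=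
  pullback (X ↘ Spec (CommRingCat.of A)) (Spec.map (CommRingCat.ofHom (algebraMap A (A ⧸ J))))

abbrev gJ (X : Scheme.{u}) [X.Over (Spec (CommRingCat.of A))] (J : Ideal A) : XJ X J ⟶ X :=
  pullback.fst _ _

abbrev fJ (X : Scheme.{u}) [X.Over (Spec (CommRingCat.of A))] (J : Ideal A) :
    XJ X J ⟶ Spec (CommRingCat.of (A ⧸ J)) :=
  pullback.snd _ _

theorem hJ (X : Scheme.{u}) [X.Over (Spec (CommRingCat.of A))] (J : Ideal A) :
    IsPullback (gJ X J) (fJ X J) (X ↘ Spec (CommRingCat.of A))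
      (Spec.map (CommRingCat.ofHom (algebraMap A (A ⧸ J)))) :=
  IsPullback.of_hasPullback _ _

theorem quot_surj (J : Ideal A) : Function.Surjective (algebraMap A (A ⧸ J)) :=
  Ideal.Quotient.mk_surjective

theorem quot_zero (J : Ideal A) : ∀ a ∈ J, algebraMap A (A ⧸ J) a = 0 :=
  fun _ ha => Ideal.Quotient.eq_zero_iff_mem.2 ha

theorem quot_mem (J : Ideal A) : ∀ a : A, algebraMap A (A ⧸ J) a = 0 → a ∈ J :=
  fun _ ha => Ideal.Quotient.eq_zero_iff_mem.1 ha

/-- `M / J M ⟶ g_* g^* M` -/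
def ubarJ (J : Ideal A) (M : X.Modules) :
    modJ J M ⟶ (Scheme.Modules.pushforward (gJ X J)).obj ((Scheme.Modules.pullback (gJ X J)).obj M) :=
  ubar (fJ X J) (gJ X J) (hJ X J) M J (quot_zero J)

theorem π_ubarJ (J : Ideal A) (M : X.Modules) : πJ J M ≫ ubarJ J M = un (gJ X J) M :=
  π_ubar (fJ X J) (gJ X J) (hJ X J) M J (quot_zero J)

instance isIso_ubarJ (J : Ideal A) (M : X.Modules) [M.IsQuasicoherent] : IsIso (ubarJ J M) :=
  isIso_ubar (fJ X J) (gJ X J) (hJ X J) M (quot_surj J) J (quot_zero J) (quot_mem J)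

theorem mem_JS_of_πJ_app_eq_zero (J : Ideal A) (M : X.Modules) [M.IsQuasicoherent] {U : X.Opens}
    (hU : IsAffineOpen U) (m : Γ(M, U)) (hm : (πJ J M).app U m = 0) : m ∈ JS J M U := by
  apply mem_JS_of_un_app_eq_zero (fJ X J) (gJ X J) (hJ X J) M (quot_surj J) J (quot_mem J) hU m
  rw [← π_ubarJ J M]
  change (ubarJ J M).app U ((πJ J M).app U m) = 0
  rw [hm, map_zero]

end Quot


section Nakayama

variable {A : Type u} [CommRing A] {X : Scheme.{u}} [X.Over (Spec (CommRingCat.of A))]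

/-- elements of `J · Γ(X, W)` are non-units at points over `V(J)` -/
theorem not_isUnit_germ_of_mem_map (J : Ideal A) (W : X.Opens) (y : X) (hyW : y ∈ W)
    (hy : J ≤ ((X ↘ Spec (CommRingCat.of A)).base y).asIdeal) (r : Γ(X, W))
    (hr : r ∈ J.map (bW (X ↘ Spec (CommRingCat.of A)) W)) :
    ¬ IsUnit (X.presheaf.germ W y hyW r) := by
  have hle : J.map (bW (X ↘ Spec (CommRingCat.of A)) W) ≤
      (IsLocalRing.maximalIdeal (X.presheaf.stalk y)).comap (X.presheaf.germ W y hyW).hom := by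
    rw [Ideal.map_le_iff_le_comap]
    intro a ha
    change (X.presheaf.germ W y hyW).hom (bW (X ↘ Spec (CommRingCat.of A)) W a) ∈
      IsLocalRing.maximalIdeal (X.presheaf.stalk y)
    rw [IsLocalRing.mem_maximalIdeal, mem_nonunits_iff]
    intro hu
    have h1 : y ∈ X.basicOpen (bW (X ↘ Spec (CommRingCat.of A)) W a) :=
      (X.mem_basicOpen _ y hyW).2 hu
    have h2 : X.basicOpen (bW (X ↘ Spec (CommRingCat.of A)) W a) =
        W ⊓ X.basicOpen (Coh.toGlobal (X ↘ Spec (CommRingCat.of A)) a) :=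
      Scheme.basicOpen_res X (Coh.toGlobal (X ↘ Spec (CommRingCat.of A)) a) (homOfLE le_top).op
    rw [h2] at h1
    exact (Groth.Agent.Lib.H9ZarModPow.mem_basicOpen_toGlobal a y).1 h1.2 (hy ha)
  have := hle hr
  change (X.presheaf.germ W y hyW).hom r ∈ IsLocalRing.maximalIdeal (X.presheaf.stalk y) at this
  rwa [IsLocalRing.mem_maximalIdeal, mem_nonunits_iff] at this

/-- Nakayama: a global section of an invertible module which generates it modulo `J` generates it near every
point over `V(J)` -/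
theorem exists_isGen_nhd (J : Ideal A) (L : X.Modules) (hL : PicF.IsInvertible L) (s : Γ(L, ⊤))
    (hepi : Epi (secHom L s ≫ πJ J L)) (y : X)
    (hy : J ≤ ((X ↘ Spec (CommRingCat.of A)).base y).asIdeal) :
    ∃ (V : X.Opens) (hV : V ≤ ⊤), y ∈ V ∧ IsGen L V (res L hV s) := by
  haveI : L.IsQuasicoherent := isQuasicoherent_of_isInvertible L hL
  haveI : (Coh.structureModule X).IsQuasicoherent :=
    Groth.Agent.Lib.Helper23.Serre.isQuasicoherent_structureModule' X
  obtain ⟨W₀, ε, hyW₀, hε⟩ := exists_gen L hL y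
  obtain ⟨W, hWaff, hyW, hWW₀'⟩ := exists_isAffineOpen_mem_and_subset (x := y) (U := W₀) hyW₀
  have hWW₀ : W ≤ W₀ := hWW₀'
  have he : IsGen L W (res L hWW₀ ε) := hε.mono hWW₀
  obtain ⟨c, hc⟩ : ∃ c : Γ(X, W), c • res L hWW₀ ε = res L (le_top : W ≤ ⊤) s := by
    have := coef_spec he le_rfl (res L (le_top : W ≤ ⊤) s)
    rw [res_self] at this
    exact ⟨_, this⟩
  -- surjectivity on `W`
  have hsurj := Groth.Agent.Lib.Helper23.FinType.surjective_app_of_epi (secHom L s ≫ πJ J L) hWaff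
  obtain ⟨a0, ha0⟩ := hsurj ((πJ J L).app W (res L hWW₀ ε))
  have h1 : (secHom L s).app W a0 = (ofS W a0 * c) • res L hWW₀ ε := by
    have := app_toS (secHom L s) W (ofS W a0)
    rw [toS_ofS, sv_secHom] at this
    rw [this, ← hc, mul_smul]
  have h2 : (πJ J L).app W ((1 - ofS W a0 * c) • res L hWW₀ ε) = 0 := by
    rw [sub_smul, one_smul, map_sub, ← h1]
    have : (πJ J L).app W ((secHom L s).app W a0) = (πJ J L).app W (res L hWW₀ ε) := ha0
    rw [this, sub_self]
  have h3 := mem_JS_of_πJ_app_eq_zero J L hWaff _ h2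
  -- `1 - a c ∈ J Γ(X, W)`
  have h4 : ∃ j ∈ J.map (bW (X ↘ Spec (CommRingCat.of A)) W),
      (1 - ofS W a0 * c) • res L hWW₀ ε = j • res L hWW₀ ε := by
    refine Submodule.smul_induction_on (p := fun x => ∃ j ∈ J.map (bW (X ↘ Spec (CommRingCat.of A)) W),
      x = j • res L hWW₀ ε) h3 ?_ ?_
    · intro r hr n _
      have hn := coef_spec he le_rfl n
      rw [res_self] at hn
      exact ⟨r * coef he le_rfl n, Ideal.mul_mem_right _ _ hr, by rw [mul_smul, hn]⟩
    · rintro x x' ⟨j, hj, rfl⟩ ⟨j', hj', rfl⟩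
      exact ⟨j + j', Ideal.add_mem _ hj hj', (add_smul _ _ _).symm⟩
  obtain ⟨j, hj, hj'⟩ := h4
  have h5 : 1 - ofS W a0 * c = j := by
    apply (he W le_rfl).1
    change (1 - ofS W a0 * c) • res L le_rfl (res L hWW₀ ε) = j • res L le_rfl (res L hWW₀ ε)
    rw [res_self]
    exact hj'
  have h6 : ¬ IsUnit (X.presheaf.germ W y hyW (1 - ofS W a0 * c)) := by
    rw [h5]
    exact not_isUnit_germ_of_mem_map J W y hyW hy j hj
  have h7 : IsUnit (X.presheaf.germ W y hyW c) := by
    have hsum : X.presheaf.germ W y hyW (1 - ofS W a0 * c) +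
        X.presheaf.germ W y hyW (ofS W a0 * c) = 1 := by
      rw [← map_add, sub_add_cancel, map_one]
    rcases IsLocalRing.isUnit_or_isUnit_of_add_one hsum with h | h
    · exact absurd h h6
    · rw [map_mul] at h
      exact isUnit_of_mul_isUnit_right h
  have hyV : y ∈ X.basicOpen c := (X.mem_basicOpen c y hyW).2 h7
  refine ⟨X.basicOpen c, le_top, hyV, ?_⟩
  have hVW : X.basicOpen c ≤ W := X.basicOpen_le c
  have h8 : res L (le_top : X.basicOpen c ≤ ⊤) s =
      resf hVW c • res L hVW (res L hWW₀ ε) := by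
    rw [← res_smul, hc, res_res]
  rw [h8]
  exact (isGen_smul_iff (he.mono hVW) _).2 (RingedSpace.isUnit_res_basicOpen X.toRingedSpace c)

end Nakayama


section Main

open Groth.Agent.Lib.R2H2.FormalFn Groth.Agent.Lib.R2H2.ReesCoh Groth.Agent.Lib.H9ZarLift

variable (A : Type u) [CommRing A] [IsNoetherianRing A] [IsLocalRing A]
  (Y : Scheme.{u}) [Y.Over (Spec (CommRingCat.of A))] [IsProper (Y ↘ Spec (CommRingCat.of A))]

/-- a global section generating `L` near every closed point of the closed fibre -/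
theorem exists_section (L : Y.Modules) (hL : PicF.IsInvertible L)
    (htriv : ∀ N : ℕ, Nonempty ((Scheme.Modules.pullback
      (gJ Y (IsLocalRing.maximalIdeal A ^ (N + 1)))).obj L ≅
        Coh.structureModule (XJ Y (IsLocalRing.maximalIdeal A ^ (N + 1))))) :
    ∃ s : Γ(L, ⊤), Epi (secHom L s ≫ πJ (IsLocalRing.maximalIdeal A ^ (0 + 1)) L) := by
  haveI : L.IsQuasicoherent := isQuasicoherent_of_isInvertible L hL
  haveI : (Coh.structureModule Y).IsQuasicoherent :=
    Groth.Agent.Lib.Helper23.Serre.isQuasicoherent_structureModule' Y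
  have hF : Coh.IsCoh L := Groth.Agent.Lib.R2H1.CurveDegSec.isCoh_of_isInvertible L hL
  obtain ⟨c, hc⟩ := range_eq (IsLocalRing.maximalIdeal A) Y L 0 hF
  have hr := hc 0 c (Nat.zero_le c) (by omega)
  obtain ⟨ε⟩ := htriv c
  -- the epimorphism `O → L / 𝔪^(c+1) L`
  let α : (Scheme.Modules.pullback (gJ Y (IsLocalRing.maximalIdeal A ^ (c + 1)))).obj
      (Coh.structureModule Y) ≅
      (Scheme.Modules.pullback (gJ Y (IsLocalRing.maximalIdeal A ^ (c + 1)))).obj L :=
    pullbackUnitIso (gJ Y (IsLocalRing.maximalIdeal A ^ (c + 1))) ≪≫ ε.symm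
  let ρ : Coh.structureModule Y ⟶ modJ (IsLocalRing.maximalIdeal A ^ (c + 1)) L :=
    πJ (IsLocalRing.maximalIdeal A ^ (c + 1)) (Coh.structureModule Y) ≫
      ubarJ (IsLocalRing.maximalIdeal A ^ (c + 1)) (Coh.structureModule Y) ≫
      (Scheme.Modules.pushforward (gJ Y (IsLocalRing.maximalIdeal A ^ (c + 1)))).map α.hom ≫
      inv (ubarJ (IsLocalRing.maximalIdeal A ^ (c + 1)) L)
  haveI hρ : Epi ρ := by
    dsimp only [ρ]
    infer_instance
  let tr : modJ (IsLocalRing.maximalIdeal A ^ (c + 1)) L ⟶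
      modJ (IsLocalRing.maximalIdeal A ^ (0 + 1)) L :=
    (Formal.completion (IsLocalRing.maximalIdeal A) L).map (homOfLE (Nat.zero_le c)).op
  have htr : πJ (IsLocalRing.maximalIdeal A ^ (c + 1)) L ≫ tr =
      πJ (IsLocalRing.maximalIdeal A ^ (0 + 1)) L :=
    completion_π (IsLocalRing.maximalIdeal A) Y L (Nat.zero_le c)
  haveI : Epi tr := epi_of_epi_fac htr
  let t : Γ(modJ (IsLocalRing.maximalIdeal A ^ (c + 1)) L, ⊤) := sv ρ ⊤
  let T : Coh.HH Y (modJ (IsLocalRing.maximalIdeal A ^ (c + 1)) L) 0 := (h0 _).symm t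
  have hmem : Hm tr 0 T ∈ Set.range (Formal.toHHmodPow (IsLocalRing.maximalIdeal A) L 0 0) := by
    rw [← hr]
    exact ⟨T, rfl⟩
  obtain ⟨x, hx⟩ := hmem
  refine ⟨h0 L x, ?_⟩
  have e1 := h0_natural (πJ (IsLocalRing.maximalIdeal A ^ (0 + 1)) L) x
  have e2 := h0_natural tr T
  have e3 : (πJ (IsLocalRing.maximalIdeal A ^ (0 + 1)) L).app ⊤ (h0 L x) = tr.app ⊤ t := by
    rw [← e1]
    have : tr.app ⊤ t = tr.app ⊤ (h0 _ T) := by rw [AddEquiv.apply_symm_apply]
    rw [this, ← e2]
    exact congrArg (h0 _) hx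
  have e4 : secHom L (h0 L x) ≫ πJ (IsLocalRing.maximalIdeal A ^ (0 + 1)) L = ρ ≫ tr := by
    apply hom_ext_of_sv
    rw [sv_comp, sv_comp, sv_secHom, res_self]
    exact e3
  rw [e4]
  infer_instance

/-- **the local form of S7934** -/
theorem main_local (L : Y.Modules) (hL : PicF.IsInvertible L)
    (htriv : ∀ N : ℕ, Nonempty ((Scheme.Modules.pullback
      (gJ Y (IsLocalRing.maximalIdeal A ^ (N + 1)))).obj L ≅
        Coh.structureModule (XJ Y (IsLocalRing.maximalIdeal A ^ (N + 1))))) :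
    Nonempty (L ≅ Coh.structureModule Y) := by
  obtain ⟨s, hs⟩ := exists_section A Y L hL htriv
  have hloc : ∀ y : Y, ∃ (V : Y.Opens) (hV : V ≤ ⊤), y ∈ V ∧ IsGen L V (res L hV s) := by
    by_contra hcon
    push Not at hcon
    -- the bad locus is closed and nonempty
    let G : Y.Opens := ⨆ V : {V : Y.Opens // IsGen L V (res L (le_top : V ≤ ⊤) s)}, V.1
    have hGc : IsClosed ((G : Set Y)ᶜ) := G.2.isClosed_compl
    obtain ⟨y₀, hy₀⟩ := hcon
    have hne : ((G : Set Y)ᶜ).Nonempty := by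
      refine ⟨y₀, fun hy => ?_⟩
      obtain ⟨⟨V, hV⟩, hyV⟩ := Opens.mem_iSup.1 hy
      exact hy₀ V le_top hyV hV
    haveI : CompactSpace Y := by
      haveI : CompactSpace (Spec (CommRingCat.of A)) := inferInstance
      exact QuasiCompact.compactSpace_of_compactSpace (Y ↘ Spec (CommRingCat.of A))
    obtain ⟨y, hyG, hycl⟩ := hGc.exists_closed_singleton hne
    -- `y` lies over the closed point
    have hfy : IsClosed ({(Y ↘ Spec (CommRingCat.of A)).base y} : Set (Spec (CommRingCat.of A))) := by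
      have := (Y ↘ Spec (CommRingCat.of A)).isClosedMap _ hycl
      rwa [Set.image_singleton] at this
    have hmax : ((Y ↘ Spec (CommRingCat.of A)).base y).asIdeal.IsMaximal :=
      (PrimeSpectrum.isClosed_singleton_iff_isMaximal _).1 hfy
    have hle : IsLocalRing.maximalIdeal A ^ (0 + 1) ≤
        ((Y ↘ Spec (CommRingCat.of A)).base y).asIdeal := by
      rw [zero_add, pow_one, IsLocalRing.eq_maximalIdeal hmax]
    obtain ⟨V, hV, hyV, hgen⟩ := exists_isGen_nhd _ L hL s hs y hle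
    exact hyG (Opens.mem_iSup.2 ⟨⟨V, hgen⟩, hyV⟩)
  have hgen : IsGen L ⊤ s := by
    apply isGen_of_cover
    intro x _
    obtain ⟨V, hV, hxV, hg⟩ := hloc x
    exact ⟨V, hV, hxV, hg⟩
  haveI := Groth.Agent.Lib.R2H4FFPic.isIso_secHom_of_isGen L s hgen
  exact ⟨(asIso (secHom L s)).symm⟩

end Main

end Groth.Agent.Lib.R2H4ThickTriv
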