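/-
Helper library (helper4): for a continuous map `f : X ⟶ S` with a section and an abelian sheaf `F`
on `S`, the rows `p ↦ H^q(X_p, F|X_p)` of the descent spectral sequence (with the alternating sum of
the coface maps as differential) have cohomology `H^q(S, F)` in degree `0` and vanishing cohomology
in the other degrees.
-/
import Mathlib
import Groth.Prelude.Def_CohPull
import Groth.Agent.Lib.R2H4SectionRows
import Groth.Agent.Lib.R2H4TopPull

set_option autoImplicit false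

open CategoryTheory CategoryTheory.Limits Opposite TopologicalSpace

namespace Groth.Agent.Lib.R2H4.TopDescent

open Groth.Agent.Lib.R2H4.PullExt Groth.Agent.Lib.R2H4.PullAdj Groth.Agent.Lib.R2H4.TopPull
  Groth.Agent.Lib.R2H4.SectionRows

universe u

/-- The functor `(Y, g) ↦ H^q(Y, g^* F)` (in the model `Ext^q(g^* ℤ_S, g^* F)`). -/
noncomputable def cohFunctor {S : TopCat.{u}} (F : CohTop.Ab S) (q : ℕ) :
    (Over S)ᵒᵖ ⥤ AddCommGrpCat.{u} :=
  extFunctor.{u} pullData.{u} (S := S) (CohTop.const S (ULift.{u} ℤ)) F q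

/-- The value of `cohFunctor` at `(Y, g)` is `H^q(Y, g^* F)`. -/
noncomputable def cohFunctorObjIso {S Y : TopCat.{u}} (F : CohTop.Ab S) (q : ℕ) (g : Y ⟶ S) :
    (cohFunctor F q).obj (op (Over.mk g)) ≅
      AddCommGrpCat.of (CohTop.H ((CohTop.pull g).obj F) q) :=
  (extAddEquivOfIso ((pullConstIso g).app (AddCommGrpCat.of (ULift.{u} ℤ))).symm
    (Iso.refl ((CohTop.pull g).obj F)) q).toAddCommGrpIso

/-- The value of `cohFunctor` at `(S, 𝟙)` is `H^q(S, F)`. -/
noncomputable def cohFunctorObjIdIso {S : TopCat.{u}} (F : CohTop.Ab S) (q : ℕ) :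
    (cohFunctor F q).obj (op (Over.mk (𝟙 S))) ≅ AddCommGrpCat.of (CohTop.H F q) :=
  (extAddEquivOfIso ((pullData.{u}.unit S).app (CohTop.const S (ULift.{u} ℤ))).symm
    ((pullData.{u}.unit S).app F) q).toAddCommGrpIso

theorem exists_rows {X S : TopCat.{u}} (f : X ⟶ S) (s : S ⟶ X) (hs : s ≫ f = 𝟙 S)
    (F : CohTop.Ab S) (q : ℕ) :
    ∃ R : CochainComplex AddCommGrpCat.{u} ℤ, (∀ p : ℤ, p < 0 → IsZero (R.X p)) ∧
      (∀ n : ℕ, Nonempty (R.X n ≅ AddCommGrpCat.of (CohTop.H ((CohTop.pull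
        (WidePullback.base (fun _ : Fin (n + 1) => f) :
          widePullback S (fun _ : Fin (n + 1) => X) (fun _ => f) ⟶ S)).obj F) q))) ∧
      Nonempty (R.homology 0 ≅ AddCommGrpCat.of (CohTop.H F q)) ∧
      ∀ p : ℤ, p ≠ 0 → IsZero (R.homology p) := by
  have sp : SplitEpi (Arrow.mk f).hom := ⟨s, hs⟩
  refine ⟨row (Arrow.mk f) (cohFunctor F q), isZero_row_X _ _, fun n => ?_, ?_,
    isZero_row_homology _ sp _⟩
  · exact ⟨rowXIso (Arrow.mk f) (cohFunctor F q) n ≪≫ cohFunctorObjIso F q _⟩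
  · obtain ⟨e⟩ := nonempty_row_homology_zero_iso (Arrow.mk f) sp (cohFunctor F q)
    exact ⟨e ≪≫ cohFunctorObjIdIso F q⟩

end Groth.Agent.Lib.R2H4.TopDescent
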