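import Mathlib

set_option autoImplicit false
universe u
open scoped BigOperators

namespace Groth.Agent.Lib.R2H4.TorsFreeA

variable {A B : Type u} [CommRing A] [CommRing B] [Algebra A B]

/-- elements of the annihilator ideal of `I` kill `I B`. -/
lemma smul_eq_zero_of_mem_map (I : Ideal A) (c : A)
    (hc : c ∈ Submodule.annihilator (I : Submodule A A))
    (z : B) (hz : z ∈ I.map (algebraMap A B)) : c • z = 0 := by
  unfold Ideal.map at hz
  induction hz using Submodule.span_induction with
  | mem x hx =>
    obtain ⟨t, ht, rfl⟩ := hx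
    have h1 : c * t = 0 := by
      have := Submodule.mem_annihilator.mp hc t ht
      simpa using this
    rw [Algebra.smul_def, ← map_mul, h1, map_zero]
  | zero => simp
  | add x y _ _ hx hy => rw [smul_add, hx, hy, add_zero]
  | smul b x _ hx =>
    rw [smul_eq_mul, ← mul_smul_comm, hx, mul_zero]

/-- The algebraic core. -/
theorem alg_core [Module.Flat A B] (I : Ideal A) (hI : I.FG) (g : B)
    (hg : ∀ a ∈ I, a • g = 0) (r : ℕ) (b : Fin r → B)
    (hgen : ∀ y : B, ∃ α : Fin r → A, y - ∑ i, α i • b i ∈ I.map (algebraMap A B))
    (hind : ∀ α : Fin r → A, ∑ i, α i • b i ∈ I.map (algebraMap A B) → ∀ i, α i ∈ I) :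
    ∃ (F : Ideal A) (φ : (Fin r → ↥F) →ₗ[A] B), Function.Injective φ ∧ g ∈ LinearMap.range φ := by
  classical
  set F : Ideal A := Submodule.annihilator (I : Submodule A A) with hF
  have hFI : ∀ c ∈ F, ∀ t ∈ I, c * t = 0 := fun c hc t ht => by
    have := Submodule.mem_annihilator.mp hc t ht
    simpa using this
  let φ : (Fin r → ↥F) →ₗ[A] B :=
    { toFun := fun x => ∑ i, (x i : A) • b i
      map_add' := fun x y => by
        simp only [Pi.add_apply, Submodule.coe_add, add_smul, Finset.sum_add_distrib]
      map_smul' := fun a x => by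
        simp only [Pi.smul_apply, Submodule.coe_smul, smul_eq_mul, RingHom.id_apply,
          Finset.smul_sum, mul_smul] }
  refine ⟨F, φ, ?_, ?_⟩
  · -- injectivity
    rw [injective_iff_map_eq_zero]
    intro x hx
    have hx' : ∑ i, (x i : A) • b i = 0 := hx
    obtain ⟨k, a, y, hb, hrel⟩ := Module.Flat.isTrivialRelation_of_sum_smul_eq_zero
      (R := A) (M := B) (f := fun i => (x i : A)) (x := b) hx'
    choose d hd using fun j => hgen (y j)
    -- m i l = ∑ j, a i j * d j l
    have hm : ∀ i l, (∑ j, a i j * d j l) - (if i = l then 1 else 0) ∈ I := by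
      intro i
      apply hind
      have h1 : ∑ l, ((∑ j, a i j * d j l) - (if i = l then 1 else 0)) • b l =
          - ∑ j, a i j • (y j - ∑ l, d j l • b l) := by
        have e1 : ∑ l, (if i = l then (1 : A) else 0) • b l = b i := by
          simp
        have e2 : ∑ j, a i j • (y j - ∑ l, d j l • b l) =
            b i - ∑ l, (∑ j, a i j * d j l) • b l := by
          simp only [smul_sub, Finset.sum_sub_distrib]
          rw [← hb i]
          congr 1
          simp only [Finset.smul_sum, Finset.sum_smul, mul_smul]
          exact Finset.sum_comm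
        simp only [sub_smul, Finset.sum_sub_distrib]
        rw [e1, e2]
        ring
      rw [h1]
      refine (Ideal.neg_mem_iff _).mpr (Ideal.sum_mem _ fun j _ => ?_)
      rw [Algebra.smul_def]
      exact Ideal.mul_mem_left _ _ (hd j)
    funext l
    apply Subtype.ext
    show (x l : A) = 0
    have h2 : (x l : A) = ∑ i, (x i : A) * (if i = l then 1 else 0) := by simp
    have h3 : ∀ i, (x i : A) * (if i = l then 1 else 0) = (x i : A) * ∑ j, a i j * d j l := by
      intro i
      have := hFI (x i) (x i).2 _ (hm i l)
      rw [mul_sub] at this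
      exact (sub_eq_zero.mp this).symm
    rw [h2, Finset.sum_congr rfl fun i _ => h3 i]
    simp only [Finset.mul_sum]
    rw [Finset.sum_comm]
    refine Finset.sum_eq_zero fun j _ => ?_
    have := hrel j
    calc ∑ i, (x i : A) * (a i j * d j l) = (∑ i, (x i : A) * a i j) * d j l := by
          rw [Finset.sum_mul]; exact Finset.sum_congr rfl fun i _ => by ring
      _ = 0 := by rw [this, zero_mul]
  · -- g is in the range
    haveI : Module.Finite A I := Module.Finite.iff_fg.mpr hI
    have hx0 : (LinearMap.toSpanSingleton A B g) ∘ₗ (Submodule.subtype I) = 0 := by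
      ext t
      simp only [LinearMap.coe_comp, Submodule.coe_subtype, Function.comp_apply,
        LinearMap.toSpanSingleton_apply, LinearMap.zero_apply]
      exact hg t t.2
    obtain ⟨k, a, y, hxy, haf⟩ :=
      Module.Flat.exists_factorization_of_comp_eq_zero_of_free hx0
    set c : Fin k →₀ A := a 1 with hc
    have hcF : ∀ j, c j ∈ F := by
      intro j
      rw [hF, Submodule.mem_annihilator]
      intro t ht
      have h1 : a t = 0 := by
        have := LinearMap.congr_fun haf ⟨t, ht⟩
        simpa using this
      have h2 : a t = t • c := by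
        rw [hc, ← map_smul, smul_eq_mul, mul_one]
      rw [h2] at h1
      have := DFunLike.congr_fun h1 j
      simp only [Finsupp.coe_smul, Pi.smul_apply, smul_eq_mul, Finsupp.coe_zero,
        Pi.zero_apply] at this
      rw [smul_eq_mul, mul_comm]
      exact this
    have hg1 : g = ∑ j, c j • y (Finsupp.single j 1) := by
      have h1 : g = y c := by
        have := LinearMap.congr_fun hxy 1
        simpa using this
      rw [h1]
      conv_lhs => rw [← Finsupp.univ_sum_single c]
      rw [map_sum]
      refine Finset.sum_congr rfl fun j _ => ?_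
      rw [← map_smul, Finsupp.smul_single, smul_eq_mul, mul_one]
    choose α hα using fun j => hgen (y (Finsupp.single j 1))
    have hg2 : g = ∑ i, (∑ j, c j * α j i) • b i := by
      rw [hg1]
      have h3 : ∀ j, c j • y (Finsupp.single j 1) = ∑ i, (c j * α j i) • b i := by
        intro j
        have h4 := smul_eq_zero_of_mem_map I (c j) (hcF j) _ (hα j)
        rw [smul_sub, sub_eq_zero] at h4
        rw [h4, Finset.smul_sum]
        exact Finset.sum_congr rfl fun i _ => by rw [mul_smul]
      rw [Finset.sum_congr rfl fun j _ => h3 j, Finset.sum_comm]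
      exact Finset.sum_congr rfl fun i _ => by rw [Finset.sum_smul]
    refine ⟨fun i => ⟨∑ j, c j * α j i, Ideal.sum_mem _ fun j _ => Ideal.mul_mem_right _ _ (hcF j)⟩,
      ?_⟩
    rw [hg2]
    rfl

end Groth.Agent.Lib.R2H4.TorsFreeA
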