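import Mathlib
import Groth.Agent.Lib.R2H4FibRankG

set_option autoImplicit false
universe u
open AlgebraicGeometry CategoryTheory Limits Opposite TopologicalSpace

namespace Groth.Agent.Lib.R2H4.TorsFreeB
open Groth.Agent.Lib.R2H4.FibRankA Groth.Agent.Lib.R2H4.FibRankB Groth.Agent.Lib.R2H4.FibRankC
  Groth.Agent.Lib.R2H4.FibRankD Groth.Agent.Lib.R2H4.FibRankE Groth.Agent.Lib.R2H4.FibRankF
  Groth.Agent.Lib.R2H4.FibRankG

/-- an increasing exhaustion of a spectral space by closed sets with compact complements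
stabilises. -/
lemma exists_eq_univ_of_iUnion_eq_univ {X : Type*} [TopologicalSpace X] [CompactSpace X]
    [QuasiSober X] [PrespectralSpace X] [QuasiSeparatedSpace X] (Z : ℕ → Set X)
    (hcl : ∀ r, IsClosed (Z r)) (hco : ∀ r, IsCompact (Z r)ᶜ) (hmono : Monotone Z)
    (hcov : ⋃ r, Z r = Set.univ) : ∃ R, Z R = Set.univ := by
  have hopen : ∀ r, IsOpen (X := WithConstructibleTopology X)
      ((WithTopology.ofTopology : WithConstructibleTopology X → X) ⁻¹' Z r) := by
    intro r
    rw [WithConstructibleTopology.isOpen_iff]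
    exact (hco r).isOpen_constructibleTopology_of_isClosed (hcl r)
  have hc : (Set.univ : Set (WithConstructibleTopology X)) ⊆
      ⋃ r, (WithTopology.ofTopology : WithConstructibleTopology X → X) ⁻¹' Z r := by
    intro x _
    have : WithTopology.ofTopology x ∈ ⋃ r, Z r := by rw [hcov]; trivial
    simpa using this
  obtain ⟨s, hs⟩ := isCompact_univ.elim_finite_subcover _ hopen hc
  refine ⟨s.sup id, Set.eq_univ_of_forall fun x => ?_⟩
  have := hs (Set.mem_univ (WithTopology.toTopology (constructibleTopology X) x))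
  simp only [Set.mem_iUnion, Set.mem_preimage, exists_prop] at this
  obtain ⟨i, hi, hx⟩ := this
  exact hmono (Finset.le_sup (f := id) hi) hx

/-- (BD) the fibre degree is bounded on a quasi-compact quasi-separated base. -/
theorem exists_bound {X S : Scheme.{u}} (f : X ⟶ S) [Flat f] [LocallyOfFinitePresentation f]
    [IsSeparated f] [LocallyQuasiFinite f] [QuasiCompact f] [CompactSpace S]
    [QuasiSeparatedSpace S] : ∃ R : ℕ, ∀ s, fibRk f s ≤ (R : Cardinal.{u}) := by
  obtain ⟨R, hR⟩ := exists_eq_univ_of_iUnion_eq_univ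
    (fun r : ℕ => {s : S | ¬ ((r + 1 : ℕ) : Cardinal.{u}) ≤ fibRk f s})
    (fun r => by
      rw [← isOpen_compl_iff]
      have : {s : S | ¬ ((r + 1 : ℕ) : Cardinal.{u}) ≤ fibRk f s}ᶜ =
          {s : S | ((r + 1 : ℕ) : Cardinal.{u}) ≤ fibRk f s} := by
        ext s; simp
      rw [this]
      exact isOpen_le_fibRk (r + 1) f)
    (fun r => by
      have : {s : S | ¬ ((r + 1 : ℕ) : Cardinal.{u}) ≤ fibRk f s}ᶜ =
          {s : S | ((r + 1 : ℕ) : Cardinal.{u}) ≤ fibRk f s} := by
        ext s; simp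
      rw [this]
      exact isCompact_le_fibRk (r + 1) f)
    (fun r r' hrr' s hs h => hs (le_trans (Nat.cast_le.mpr (by omega)) h))
    (by
      apply Set.eq_univ_of_forall
      intro s
      obtain ⟨n, hn⟩ := Cardinal.lt_aleph0.mp (fibRk_lt_aleph0 f s)
      refine Set.mem_iUnion.mpr ⟨n, ?_⟩
      show ¬ ((n + 1 : ℕ) : Cardinal.{u}) ≤ fibRk f s
      rw [hn, Nat.cast_le]
      omega)
  refine ⟨R, fun s => ?_⟩
  have hs : s ∈ {s : S | ¬ ((R + 1 : ℕ) : Cardinal.{u}) ≤ fibRk f s} := by rw [hR]; trivial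
  obtain ⟨n, hn⟩ := Cardinal.lt_aleph0.mp (fibRk_lt_aleph0 f s)
  have hs' : ¬ ((R + 1 : ℕ) : Cardinal.{u}) ≤ fibRk f s := hs
  rw [hn] at hs' ⊢
  rw [Nat.cast_le] at hs' ⊢
  omega

end Groth.Agent.Lib.R2H4.TorsFreeB
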