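import Mathlib
import Groth.Agent.Lib.R2H4FibRankG
import Groth.Agent.Lib.R2H4TorsFreeB

set_option autoImplicit false
universe u
open AlgebraicGeometry CategoryTheory Limits Opposite TopologicalSpace

namespace Groth.Agent.Lib.R2H4.TorsFreeC
open Groth.Agent.Lib.R2H4.FibRankA Groth.Agent.Lib.R2H4.FibRankB Groth.Agent.Lib.R2H4.FibRankC
  Groth.Agent.Lib.R2H4.FibRankD Groth.Agent.Lib.R2H4.FibRankE Groth.Agent.Lib.R2H4.FibRankF
  Groth.Agent.Lib.R2H4.FibRankG Groth.Agent.Lib.R2H4.TorsFreeB

section Pullback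
variable {K : Type u} [Field K]

lemma rk_of_isPullback {P X T S : Scheme.{u}} {fst' : P ⟶ X} {snd' : P ⟶ T} {f : X ⟶ S}
    {h : T ⟶ S} (hP : IsPullback fst' snd' f h) (g : Spec (CommRingCat.of K) ⟶ T) :
    rk (pullback.snd snd' g) = rk (pullback.snd f (g ≫ h)) :=
  rk_congr _ _ ((IsPullback.paste_horiz (IsPullback.of_hasPullback snd' g) hP).isoPullback)
    (IsPullback.isoPullback_hom_snd _)

lemma le_fibRk_of_isPullback {P X T S : Scheme.{u}} {fst' : P ⟶ X} {snd' : P ⟶ T} {f : X ⟶ S}
    [LocallyQuasiFinite f] {h : T ⟶ S} (hP : IsPullback fst' snd' f h) (t : T) (d : ℕ) :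
    (d : Cardinal.{u}) ≤ fibRk snd' t ↔ (d : Cardinal.{u}) ≤ fibRk f (h t) := by
  unfold fibRk
  rw [rk_of_isPullback (K := T.residueField t) hP (T.fromSpecResidueField t)]
  obtain ⟨x₀⟩ : Nonempty (Spec (T.residueField t)) := inferInstance
  have := le_rk_iff_le_fibRk (K := T.residueField t) f (T.fromSpecResidueField t ≫ h) x₀ d
  have hx : (T.fromSpecResidueField t ≫ h) x₀ = h t := by
    rw [Scheme.Hom.comp_apply, Scheme.fromSpecResidueField_apply]
  rw [hx] at this
  exact this

end Pullback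

section Ring
variable (A B : Type u) [CommRing A] [CommRing B] [Algebra A B]

/-- the structure morphism `Spec B ⟶ Spec A`. -/
noncomputable abbrev sm : Spec (CommRingCat.of B) ⟶ Spec (CommRingCat.of A) :=
  Spec.map (CommRingCat.ofHom (algebraMap A B))

/-- fibre degree as a function on the prime spectrum. -/
noncomputable def dg (p : PrimeSpectrum A) : Cardinal.{u} := fibRk (sm A B) p

instance [Module.Flat A B] : Flat (sm A B) := by
  rw [Flat.SpecMap_iff]
  simpa using RingHom.flat_algebraMap_iff.mpr inferInstance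

instance [Algebra.FinitePresentation A B] : LocallyOfFinitePresentation (sm A B) := by
  rw [HasRingHomProperty.Spec_iff (P := @LocallyOfFinitePresentation)]
  simpa using RingHom.finitePresentation_algebraMap.mpr inferInstance

instance [Algebra.QuasiFinite A B] : LocallyQuasiFinite (sm A B) := by
  rw [HasRingHomProperty.Spec_iff (P := @LocallyQuasiFinite)]
  simpa using RingHom.quasiFinite_algebraMap.mpr inferInstance

variable [Module.Flat A B] [Algebra.FinitePresentation A B] [Algebra.QuasiFinite A B]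

lemma dg_lt_aleph0 (p : PrimeSpectrum A) : dg A B p < Cardinal.aleph0 :=
  fibRk_lt_aleph0 (sm A B) p

lemma isOpen_le_dg (d : ℕ) : IsOpen {p : PrimeSpectrum A | (d : Cardinal.{u}) ≤ dg A B p} :=
  isOpen_le_fibRk d (sm A B)

lemma isCompact_le_dg (d : ℕ) : IsCompact {p : PrimeSpectrum A | (d : Cardinal.{u}) ≤ dg A B p} :=
  isCompact_le_fibRk d (sm A B)

lemma exists_dg_le : ∃ R : ℕ, ∀ p : PrimeSpectrum A, dg A B p ≤ (R : Cardinal.{u}) :=
  exists_bound (sm A B)

lemma one_le_dg (q : PrimeSpectrum B) : 1 ≤ dg A B (PrimeSpectrum.comap (algebraMap A B) q) :=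
  one_le_fibRk (sm A B) q

end Ring

section BaseChange
open TensorProduct

lemma le_dg_of_isPushout (A A' B B' : Type u) [CommRing A] [CommRing A'] [CommRing B]
    [CommRing B'] [Algebra A A'] [Algebra A B] [Algebra A' B'] [Algebra B B'] [Algebra A B']
    [IsScalarTower A A' B'] [IsScalarTower A B B'] [Algebra.IsPushout A A' B B']
    [Algebra.QuasiFinite A B] (p' : PrimeSpectrum A') (d : ℕ) :
    (d : Cardinal.{u}) ≤ dg A' B' p' ↔
      (d : Cardinal.{u}) ≤ dg A B (PrimeSpectrum.comap (algebraMap A A') p') := by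
  have h1 := CommRingCat.isPushout_of_isPushout A A' B B'
  have h2 := (isPullback_SpecMap_of_isPushout _ _ _ _ h1).flip
  exact le_fibRk_of_isPullback h2 p' d

lemma dg_eq_of_isPushout (A A' B B' : Type u) [CommRing A] [CommRing A'] [CommRing B]
    [CommRing B'] [Algebra A A'] [Algebra A B] [Algebra A' B'] [Algebra B B'] [Algebra A B']
    [IsScalarTower A A' B'] [IsScalarTower A B B'] [Algebra.IsPushout A A' B B']
    [Algebra.QuasiFinite A B] (p' : PrimeSpectrum A') (r : ℕ)
    (h : dg A B (PrimeSpectrum.comap (algebraMap A A') p') = r) : dg A' B' p' = r := by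
  apply card_eq_of_forall_nat
  intro d
  rw [le_dg_of_isPushout A A' B B', h]
  exact Nat.cast_le

attribute [local instance] Algebra.TensorProduct.rightAlgebra in
theorem finite_rank_of_dg (A B C : Type u) [CommRing A] [CommRing B] [CommRing C] [Algebra A B]
    [Algebra A C] [Module.Flat A B] [Algebra.FinitePresentation A B] [Algebra.QuasiFinite A B]
    (r : ℕ) (h : ∀ t : PrimeSpectrum C, dg A B (PrimeSpectrum.comap (algebraMap A C) t) = r) :
    Module.Finite C (C ⊗[A] B) ∧ ∀ t : PrimeSpectrum C, Module.rankAtStalk (C ⊗[A] B) t = r := by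
  have h1 : ∀ t : PrimeSpectrum C, dg C (C ⊗[A] B) t = r := fun t =>
    dg_eq_of_isPushout A C B (C ⊗[A] B) t r (h t)
  haveI hfin : IsFinite (sm C (C ⊗[A] B)) := isFinite_of_fibRk_const r (sm C (C ⊗[A] B)) h1
  have hfin' : Module.Finite C (C ⊗[A] B) := by
    have := (IsFinite.SpecMap_iff _).mp hfin
    simpa [RingHom.finite_algebraMap] using this
  refine ⟨hfin', fun t => ?_⟩
  have h2 := fibRk_eq_finrank (sm C (C ⊗[A] B)) t
  have h3 : dg C (C ⊗[A] B) t = r := h1 t
  unfold dg at h3
  rw [h3] at h2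
  have h4 : (sm C (C ⊗[A] B)).finrank t = r := by exact_mod_cast h2.symm
  rw [← h4]
  exact (Scheme.Hom.finrank_SpecMap_algebraMap C (C ⊗[A] B) t).symm

end BaseChange

end Groth.Agent.Lib.R2H4.TorsFreeC
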