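import Mathlib

set_option autoImplicit false
universe u
open scoped BigOperators TensorProduct

namespace Groth.Agent.Lib.R2H4.TorsFreeD

/-- a surjection from `C^r` onto a finite projective module of constant rank `r` is injective. -/
theorem injective_of_surjective_of_rankAtStalk {C P : Type*} [CommRing C] [AddCommGroup P]
    [Module C P] [Module.Finite C P] [Module.Projective C P] (r : ℕ)
    (hr : ∀ t, Module.rankAtStalk (R := C) P t = r) (ψ : (Fin r → C) →ₗ[C] P)
    (hψ : Function.Surjective ψ) : Function.Injective ψ := by
  cases subsingleton_or_nontrivial C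
  · haveI : Subsingleton (Fin r → C) := inferInstance
    exact Function.injective_of_subsingleton _
  obtain ⟨s, hs⟩ := Module.projective_lifting_property ψ LinearMap.id hψ
  have hs' : ∀ x, ψ (s x) = x := fun x => LinearMap.congr_fun hs x
  let K := LinearMap.ker ψ
  let π : (Fin r → C) →ₗ[C] K := LinearMap.codRestrict K (LinearMap.id - s ∘ₗ ψ) (fun x => by
    simp only [K, LinearMap.mem_ker, LinearMap.sub_apply, LinearMap.id_coe, id_eq,
      LinearMap.coe_comp, Function.comp_apply, map_sub, hs', sub_self])
  have hπ : ∀ k : K, π k = k := by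
    intro k
    apply Subtype.ext
    have hk : ψ (k : Fin r → C) = 0 := k.2
    simp only [π, LinearMap.codRestrict_apply, LinearMap.sub_apply, LinearMap.id_coe, id_eq,
      LinearMap.coe_comp, Function.comp_apply, hk, map_zero, sub_zero]
  haveI : Module.Finite C K := Module.Finite.of_surjective π (fun k => ⟨k, hπ k⟩)
  haveI : Module.Projective C K := Module.Projective.of_split K.subtype π (LinearMap.ext hπ)
  let e : (Fin r → C) ≃ₗ[C] P × K := LinearEquiv.ofLinear (ψ.prod π) (s.coprod K.subtype)
    (by
      apply LinearMap.ext
      rintro ⟨p, k⟩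
      have hk : ψ (k : Fin r → C) = 0 := k.2
      apply Prod.ext
      · simp [hs', hk]
      · apply Subtype.ext
        simp [π, hs', hk])
    (by
      apply LinearMap.ext
      intro x
      simp [π])
  have h1 := Module.rankAtStalk_eq_of_equiv e
  rw [Module.rankAtStalk_prod] at h1
  have h2 : Module.rankAtStalk (R := C) K = 0 := by
    ext t
    have h3 := congr_fun h1 t
    simp only [Module.rankAtStalk_eq_finrank_of_free, Module.finrank_fin_fun, Pi.natCast_apply,
      Nat.cast_id, Pi.add_apply, hr] at h3
    simp only [Pi.zero_apply]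
    omega
  have h4 := Module.rankAtStalk_eq_zero_iff_subsingleton.mp h2
  rw [← LinearMap.ker_eq_bot]
  exact Submodule.eq_bot_of_subsingleton

end Groth.Agent.Lib.R2H4.TorsFreeD
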