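import Mathlib

set_option autoImplicit false
universe u
open scoped BigOperators TensorProduct

namespace Groth.Agent.Lib.R2H4.TorsFreeE

/-- a finite-dimensional fibre is spanned by the images of exactly `finrank` elements. -/
lemma exists_fin_span (A B k : Type*) [CommRing A] [CommRing B] [Field k] [Algebra A k]
    [Algebra A B] (r : ℕ) [Module.Finite k (k ⊗[A] B)]
    (hr : Module.finrank k (k ⊗[A] B) = r) :
    ∃ b : Fin r → B, Submodule.span k (Set.range fun i => (1 : k) ⊗ₜ[A] b i) = ⊤ := by
  classical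
  set s : Set (k ⊗[A] B) := Set.range (fun y : B => (1 : k) ⊗ₜ[A] y) with hs
  have hspan : ⊤ ≤ Submodule.span k s := by
    intro x hx0
    clear hx0
    induction x using TensorProduct.induction_on with
    | zero => exact Submodule.zero_mem _
    | tmul m y =>
      have : m ⊗ₜ[A] y = m • ((1 : k) ⊗ₜ[A] y) := by
        rw [TensorProduct.smul_tmul', smul_eq_mul, mul_one]
      rw [this]
      exact Submodule.smul_mem _ _ (Submodule.subset_span ⟨y, rfl⟩)
    | add x y hx hy => exact Submodule.add_mem _ hx hy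
  let bas := Module.Basis.ofSpan hspan
  haveI : Fintype ↑((linearIndepOn_empty k id).extend (Set.empty_subset s)) :=
    FiniteDimensional.fintypeBasisIndex bas
  have hcard : Fintype.card ↑((linearIndepOn_empty k id).extend (Set.empty_subset s)) = r := by
    rw [← Module.finrank_eq_card_basis bas, hr]
  let e := (Fintype.equivFinOfCardEq hcard).symm
  have hmem : ∀ i, bas (e i) ∈ s := fun i => Module.Basis.ofSpan_subset hspan ⟨e i, rfl⟩
  choose b hb using hmem
  refine ⟨b, ?_⟩
  have h1 : (Set.range fun i => (1 : k) ⊗ₜ[A] b i) = Set.range bas := by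
    ext x
    constructor
    · rintro ⟨i, rfl⟩
      exact ⟨e i, (hb i).symm⟩
    · rintro ⟨j, rfl⟩
      refine ⟨e.symm j, ?_⟩
      show (1 : k) ⊗ₜ[A] b (e.symm j) = bas j
      have := hb (e.symm j)
      simp only [Equiv.apply_symm_apply] at this
      exact this
  rw [h1]
  exact bas.span_eq

/-- Nakayama-type spreading out: if the images of `b i ∈ M₀` span the fibre of `B` at `p₀` and
`B ⧸ M₀` is a finite module, then some `a ∉ p₀` multiplies `B` into `M₀`. -/
lemma exists_smul_mem_of_span_fibre (A B : Type*) [CommRing A] [CommRing B] [Algebra A B]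
    (p₀ : PrimeSpectrum A) (M₀ : Submodule A B) [Module.Finite A (B ⧸ M₀)] (r : ℕ)
    (b : Fin r → B) (hb : ∀ i, b i ∈ M₀)
    (hspan : Submodule.span p₀.asIdeal.ResidueField
      (Set.range fun i => (1 : p₀.asIdeal.ResidueField) ⊗ₜ[A] b i) = ⊤) :
    ∃ a : A, a ∉ p₀.asIdeal ∧ ∀ y : B, a • y ∈ M₀ := by
  set k := p₀.asIdeal.ResidueField with hk
  let T : k ⊗[A] B →ₗ[k] k ⊗[A] (B ⧸ M₀) := LinearMap.baseChange k M₀.mkQ
  have hT0 : ∀ x, T x = 0 := by
    have h1 : Submodule.span k (Set.range fun i => (1 : k) ⊗ₜ[A] b i) ≤ LinearMap.ker T := by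
      rw [Submodule.span_le]
      rintro _ ⟨i, rfl⟩
      show T ((1 : k) ⊗ₜ[A] b i) = 0
      rw [LinearMap.baseChange_tmul, Submodule.mkQ_apply,
        (Submodule.Quotient.mk_eq_zero M₀).mpr (hb i), TensorProduct.tmul_zero]
    rw [hspan, top_le_iff] at h1
    intro x
    have : x ∈ LinearMap.ker T := by rw [h1]; trivial
    exact this
  have hsurj : Function.Surjective T := by
    have := LinearMap.lTensor_surjective k (Submodule.mkQ_surjective M₀)
    intro z
    obtain ⟨x, hx⟩ := this z
    exact ⟨x, by rw [← hx]; rfl⟩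
  have hsub : Subsingleton (k ⊗[A] (B ⧸ M₀)) := by
    refine ⟨fun x y => ?_⟩
    obtain ⟨x', rfl⟩ := hsurj x
    obtain ⟨y', rfl⟩ := hsurj y
    rw [hT0, hT0]
  have hns : p₀ ∉ Module.support A (B ⧸ M₀) := by
    rw [Module.mem_support_iff_nontrivial_residueField_tensorProduct]
    exact not_nontrivial_iff_subsingleton.mpr hsub
  rw [Module.mem_support_iff_of_finite, SetLike.not_le_iff_exists] at hns
  obtain ⟨a, ha, hap⟩ := hns
  refine ⟨a, hap, fun y => ?_⟩
  rw [Module.mem_annihilator] at ha
  have := ha (Submodule.Quotient.mk y)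
  rw [← Submodule.Quotient.mk_smul, Submodule.Quotient.mk_eq_zero] at this
  exact this

/-- generation passes to the localisation. -/
lemma hgen_of_localization (A B A' B' : Type*) [CommRing A] [CommRing B] [CommRing A']
    [CommRing B'] [Algebra A B] [Algebra A A'] [Algebra A B'] [Algebra A' B'] [Algebra B B']
    [IsScalarTower A A' B'] [IsScalarTower A B B'] (a : A) [IsLocalization.Away a A']
    [IsLocalization.Away (algebraMap A B a) B'] (I : Ideal A) (r : ℕ) (b : Fin r → B)
    (ha : ∀ y : B, a • y ∈ (I • ⊤ : Submodule A B) ⊔ Submodule.span A (Set.range b)) (y' : B') :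
    ∃ α : Fin r → A', y' - ∑ i, α i • algebraMap B B' (b i) ∈
      (I.map (algebraMap A A')).map (algebraMap A' B') := by
  set J' : Ideal B' := (I.map (algebraMap A A')).map (algebraMap A' B') with hJ'
  set M₀' : Submodule A' B' :=
    J'.restrictScalars A' ⊔ Submodule.span A' (Set.range fun i => algebraMap B B' (b i)) with hM₀'
  suffices h : y' ∈ M₀' by
    obtain ⟨z, hz, w, hw, hzw⟩ := Submodule.mem_sup.mp h
    obtain ⟨α, hα⟩ := (Submodule.mem_span_range_iff_exists_fun A').mp hw
    refine ⟨α, ?_⟩
    rw [hα, ← hzw, add_sub_cancel_right]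
    exact hz
  let L : B →ₗ[A] B' := (IsScalarTower.toAlgHom A B B').toLinearMap
  have hL : ∀ y, L y = algebraMap B B' y := fun y => rfl
  have himg : ∀ y ∈ (I • ⊤ : Submodule A B) ⊔ Submodule.span A (Set.range b),
      algebraMap B B' y ∈ M₀' := by
    have : (I • ⊤ : Submodule A B) ⊔ Submodule.span A (Set.range b) ≤
        (M₀'.restrictScalars A).comap L := by
      refine sup_le ?_ ?_
      · rw [Submodule.smul_le]
        intro t ht y _
        show L (t • y) ∈ M₀'
        rw [map_smul, hL, Algebra.smul_def, IsScalarTower.algebraMap_apply A A' B']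
        refine Submodule.mem_sup_left ?_
        exact Ideal.mul_mem_right _ _ (Ideal.mem_map_of_mem _ (Ideal.mem_map_of_mem _ ht))
      · rw [Submodule.span_le]
        rintro _ ⟨i, rfl⟩
        show L (b i) ∈ M₀'
        exact Submodule.mem_sup_right (Submodule.subset_span ⟨i, rfl⟩)
    intro y hy
    exact this hy
  obtain ⟨n, y, hy⟩ := IsLocalization.Away.surj (algebraMap A B a) y'
  have hu : IsUnit (algebraMap A A' a) := IsLocalization.Away.algebraMap_isUnit a
  obtain ⟨u, hu'⟩ := hu
  have hcomp : algebraMap B B' (algebraMap A B a) = algebraMap A' B' (u : A') := by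
    rw [hu', ← IsScalarTower.algebraMap_apply A B B', ← IsScalarTower.algebraMap_apply A A' B']
  have hw := himg (a • y) (ha y)
  have key : y' = ((↑(u⁻¹ ^ (n + 1)) : A')) • algebraMap B B' (a • y) := by
    rw [Algebra.smul_def a y, map_mul, ← hy, hcomp, Algebra.smul_def, Units.val_pow_eq_pow_val,
      map_pow]
    have h1 : algebraMap A' B' (↑u⁻¹ : A') * algebraMap A' B' (u : A') = 1 := by
      rw [← map_mul, Units.inv_mul, map_one]
    calc y' = y' * (algebraMap A' B' (↑u⁻¹ : A') * algebraMap A' B' (u : A')) ^ (n + 1) := by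
          rw [h1, one_pow, mul_one]
      _ = _ := by ring
  rw [key]
  exact Submodule.smul_mem _ _ hw

end Groth.Agent.Lib.R2H4.TorsFreeE
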