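import Mathlib
import Groth.Agent.Lib.R2H4TorsFreeD

set_option autoImplicit false
universe u
open scoped BigOperators TensorProduct

namespace Groth.Agent.Lib.R2H4.TorsFreeF
open Groth.Agent.Lib.R2H4.TorsFreeD

/-- independence modulo `I'` from the rank of the reduction. -/
lemma hind_of_rank (A' B' : Type*) [CommRing A'] [CommRing B'] [Algebra A' B'] (I' : Ideal A')
    (r : ℕ) (b' : Fin r → B')
    [Module.Finite (A' ⧸ I') ((A' ⧸ I') ⊗[A'] B')]
    [Module.Projective (A' ⧸ I') ((A' ⧸ I') ⊗[A'] B')]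
    (hr : ∀ t, Module.rankAtStalk (R := A' ⧸ I') ((A' ⧸ I') ⊗[A'] B') t = r)
    (hgen : ∀ y' : B', ∃ α : Fin r → A', y' - ∑ i, α i • b' i ∈ I'.map (algebraMap A' B'))
    (α : Fin r → A') (hα : ∑ i, α i • b' i ∈ I'.map (algebraMap A' B')) (i : Fin r) :
    α i ∈ I' := by
  have hsm : ∀ (a₁ : A') (y : B'), (Ideal.Quotient.mk I' a₁) • ((1 : A' ⧸ I') ⊗ₜ[A'] y) =
      (1 : A' ⧸ I') ⊗ₜ[A'] (a₁ • y) := by
    intro a₁ y
    rw [TensorProduct.smul_tmul', smul_eq_mul, mul_one, ← TensorProduct.smul_tmul,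
      Algebra.smul_def, mul_one, Ideal.Quotient.algebraMap_eq]
  have h0 : ∀ z ∈ I'.map (algebraMap A' B'), (1 : A' ⧸ I') ⊗ₜ[A'] z = 0 := by
    have : I'.map (algebraMap A' B') ≤
        RingHom.ker (Algebra.TensorProduct.includeRight : B' →ₐ[A'] (A' ⧸ I') ⊗[A'] B') := by
      rw [Ideal.map_le_iff_le_comap]
      intro t ht
      rw [Ideal.mem_comap, RingHom.mem_ker]
      show (1 : A' ⧸ I') ⊗ₜ[A'] (algebraMap A' B' t) = 0
      rw [Algebra.algebraMap_eq_smul_one, ← hsm, Ideal.Quotient.eq_zero_iff_mem.mpr ht, zero_smul]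
    intro z hz
    exact this hz
  let ψ : (Fin r → A' ⧸ I') →ₗ[A' ⧸ I'] (A' ⧸ I') ⊗[A'] B' :=
    Fintype.linearCombination (A' ⧸ I') (fun i => (1 : A' ⧸ I') ⊗ₜ[A'] b' i)
  have hψ : ∀ β : Fin r → A', ψ (fun i => Ideal.Quotient.mk I' (β i)) =
      (1 : A' ⧸ I') ⊗ₜ[A'] (∑ i, β i • b' i) := by
    intro β
    rw [Fintype.linearCombination_apply, TensorProduct.tmul_sum]
    exact Finset.sum_congr rfl fun i _ => hsm _ _
  have hone : ∀ y' : B', (1 : A' ⧸ I') ⊗ₜ[A'] y' ∈ LinearMap.range ψ := by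
    intro y'
    obtain ⟨β, hβ⟩ := hgen y'
    refine ⟨fun i => Ideal.Quotient.mk I' (β i), ?_⟩
    rw [hψ]
    have := h0 _ hβ
    rw [TensorProduct.tmul_sub, sub_eq_zero] at this
    exact this.symm
  have hsurj : Function.Surjective ψ := by
    rw [← LinearMap.range_eq_top, eq_top_iff]
    intro x hx0
    clear hx0
    induction x using TensorProduct.induction_on with
    | zero => exact Submodule.zero_mem _
    | tmul c y' =>
      obtain ⟨a₁, rfl⟩ := Ideal.Quotient.mk_surjective c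
      have : (Ideal.Quotient.mk I' a₁) ⊗ₜ[A'] y' = (1 : A' ⧸ I') ⊗ₜ[A'] (a₁ • y') := by
        rw [← hsm, TensorProduct.smul_tmul', smul_eq_mul, mul_one]
      rw [this]
      exact hone _
    | add x y hx hy => exact Submodule.add_mem _ hx hy
  have hinj := injective_of_surjective_of_rankAtStalk r hr ψ hsurj
  have h1 : ψ (fun i => Ideal.Quotient.mk I' (α i)) = 0 := by
    rw [hψ]
    exact h0 _ hα
  have h2 := hinj (h1.trans (map_zero ψ).symm)
  have h3 := congr_fun h2 i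
  exact Ideal.Quotient.eq_zero_iff_mem.mp h3

end Groth.Agent.Lib.R2H4.TorsFreeF
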