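import Mathlib
import Groth.Agent.Lib.R2H4TorsFreeA
import Groth.Agent.Lib.R2H4TorsFreeC
import Groth.Agent.Lib.R2H4TorsFreeE
import Groth.Agent.Lib.R2H4TorsFreeF

set_option autoImplicit false
universe u
open scoped BigOperators TensorProduct

namespace Groth.Agent.Lib.R2H4.TorsFreeG
open Groth.Agent.Lib.R2H4.TorsFreeA Groth.Agent.Lib.R2H4.TorsFreeC Groth.Agent.Lib.R2H4.TorsFreeE
  Groth.Agent.Lib.R2H4.TorsFreeF

/-- Step 2: if the fibre degree is constant `= r` on `V(I)`, `I g = 0`, `I` f.g. and `q` is a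
prime in the support of `g`, then after inverting some `a` with `φ a ∉ q` the conclusion holds. -/
theorem step2 (A B : Type u) [CommRing A] [CommRing B] [Algebra A B] [Module.Flat A B]
    [Algebra.FinitePresentation A B] [Algebra.QuasiFinite A B]
    (I : Ideal A) (hI : I.FG) (g : B) (hg : ∀ t ∈ I, t • g = 0) (q : Ideal B) [hqp : q.IsPrime]
    (hq : ∀ y : B, y * g = 0 → y ∈ q) (r : ℕ)
    (hdeg : ∀ p : PrimeSpectrum A, I ≤ p.asIdeal → dg A B p = r) :
    0 < r ∧ ∃ a : A, algebraMap A B a ∉ q ∧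
      ∀ (A' B' : Type u) [CommRing A'] [CommRing B'] [Algebra A A'] [Algebra A B']
        [Algebra A' B'] [Algebra B B'] [IsScalarTower A A' B'] [IsScalarTower A B B']
        [IsLocalization.Away a A'] [IsLocalization.Away (algebraMap A B a) B']
        [Module.Flat A' B'] [Algebra.FinitePresentation A' B'] [Algebra.QuasiFinite A' B'],
        algebraMap B B' g ≠ 0 ∧ ∃ (F : Ideal A') (φ : (Fin r → ↥F) →ₗ[A'] B'),
          Function.Injective φ ∧ algebraMap B B' g ∈ LinearMap.range φ := by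
  classical
  let p₀ : PrimeSpectrum A := PrimeSpectrum.comap (algebraMap A B) ⟨q, hqp⟩
  have hp₀ : ∀ x : A, x ∈ p₀.asIdeal ↔ algebraMap A B x ∈ q := fun x => Iff.rfl
  have hIp₀ : I ≤ p₀.asIdeal := by
    intro t ht
    rw [hp₀]
    apply hq
    rw [← Algebra.smul_def]
    exact hg t ht
  have hr0 : dg A B p₀ = r := hdeg p₀ hIp₀
  have hrpos : 0 < r := by
    have h1 := one_le_dg A B ⟨q, hqp⟩
    have h2 : dg A B (PrimeSpectrum.comap (algebraMap A B) ⟨q, hqp⟩) = r := hr0
    rw [h2] at h1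
    exact_mod_cast h1
  -- the fibre at p₀
  have hk : ∀ t : PrimeSpectrum p₀.asIdeal.ResidueField,
      dg A B (PrimeSpectrum.comap (algebraMap A p₀.asIdeal.ResidueField) t) = r := by
    intro t
    have h1 : PrimeSpectrum.comap (algebraMap A p₀.asIdeal.ResidueField) t ∈
        Set.range (PrimeSpectrum.comap (algebraMap A p₀.asIdeal.ResidueField)) := ⟨t, rfl⟩
    rw [PrimeSpectrum.residueField_comap, Set.mem_singleton_iff] at h1
    rw [h1]
    exact hr0
  obtain ⟨hkfin, hkrank⟩ := finite_rank_of_dg A B p₀.asIdeal.ResidueField r hk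
  have hkfr : Module.finrank p₀.asIdeal.ResidueField (p₀.asIdeal.ResidueField ⊗[A] B) = r := by
    have h1 := hkrank ⟨⊥, Ideal.isPrime_bot⟩
    rw [Module.rankAtStalk_eq_finrank_of_free] at h1
    exact h1
  obtain ⟨b, hb⟩ := exists_fin_span A B p₀.asIdeal.ResidueField r hkfr
  -- the finite quotient
  set M₀ : Submodule A B := (I • ⊤ : Submodule A B) ⊔ Submodule.span A (Set.range b) with hM₀
  have hC : ∀ t : PrimeSpectrum (A ⧸ I),
      dg A B (PrimeSpectrum.comap (algebraMap A (A ⧸ I)) t) = r := fun t => hdeg _ (by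
    intro x hx
    show algebraMap A (A ⧸ I) x ∈ t.asIdeal
    rw [Ideal.Quotient.algebraMap_eq, Ideal.Quotient.eq_zero_iff_mem.mpr hx]
    exact zero_mem _)
  obtain ⟨hCfin, -⟩ := finite_rank_of_dg A B (A ⧸ I) r hC
  haveI : Module.Finite A ((A ⧸ I) ⊗[A] B) := Module.Finite.trans (A ⧸ I) _
  haveI : Module.Finite A (B ⧸ (I • ⊤ : Submodule A B)) :=
    Module.Finite.equiv (TensorProduct.quotTensorEquivQuotSMul B I)
  haveI : Module.Finite A (B ⧸ M₀) :=
    Module.Finite.of_surjective (Submodule.factor (le_sup_left : (I • ⊤ : Submodule A B) ≤ M₀))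
      (Submodule.factor_surjective _)
  obtain ⟨a, hap, ha⟩ := exists_smul_mem_of_span_fibre A B p₀ M₀ r b
    (fun i => Submodule.mem_sup_right (Submodule.subset_span ⟨i, rfl⟩)) hb
  rw [hp₀] at hap
  refine ⟨hrpos, a, hap, ?_⟩
  intro A' B' _ _ _ _ _ _ _ _ _ _ _ _ _
  haveI hpo : Algebra.IsPushout A A' B B' := by
    haveI : IsLocalization (Algebra.algebraMapSubmonoid B (Submonoid.powers a)) B' := by
      rw [Algebra.algebraMapSubmonoid_powers]
      infer_instance
    exact (Algebra.isPushout_of_isLocalization (Submonoid.powers a) A' B B').symm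
  have hI' : (I.map (algebraMap A A')).FG := hI.map _
  have hg' : ∀ t ∈ I.map (algebraMap A A'), t • algebraMap B B' g = 0 := by
    intro t ht
    unfold Ideal.map at ht
    induction ht using Submodule.span_induction with
    | mem x hx =>
      obtain ⟨t₀, ht₀, rfl⟩ := hx
      rw [Algebra.smul_def, ← IsScalarTower.algebraMap_apply A A' B',
        IsScalarTower.algebraMap_apply A B B', ← map_mul, ← Algebra.smul_def, hg t₀ ht₀, map_zero]
    | zero => rw [zero_smul]
    | add x y _ _ hx hy => rw [add_smul, hx, hy, add_zero]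
    | smul c x _ hx => rw [smul_eq_mul, mul_smul, hx, smul_zero]
  have hg'0 : algebraMap B B' g ≠ 0 := by
    intro h0
    obtain ⟨⟨m, hm⟩, hmg⟩ :=
      (IsLocalization.map_eq_zero_iff (Submonoid.powers (algebraMap A B a)) B' g).mp h0
    obtain ⟨n, rfl⟩ := hm
    have h1 : (algebraMap A B a) ^ n ∈ q := hq _ hmg
    exact hap (hqp.mem_of_pow_mem n h1)
  have hgen := hgen_of_localization A B A' B' a I r b ha
  have hC' : ∀ t : PrimeSpectrum (A' ⧸ I.map (algebraMap A A')),
      dg A' B' (PrimeSpectrum.comap (algebraMap A' (A' ⧸ I.map (algebraMap A A'))) t) = r := by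
    intro t
    apply dg_eq_of_isPushout A A' B B'
    apply hdeg
    intro x hx
    show algebraMap A' (A' ⧸ I.map (algebraMap A A')) (algebraMap A A' x) ∈ t.asIdeal
    rw [Ideal.Quotient.algebraMap_eq,
      Ideal.Quotient.eq_zero_iff_mem.mpr (Ideal.mem_map_of_mem _ hx)]
    exact zero_mem _
  obtain ⟨hfin', hrank'⟩ := finite_rank_of_dg A' B' (A' ⧸ I.map (algebraMap A A')) r hC'
  haveI := hfin'
  haveI : Module.FinitePresentation (A' ⧸ I.map (algebraMap A A'))
      ((A' ⧸ I.map (algebraMap A A')) ⊗[A'] B') :=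
    Module.FinitePresentation.of_finite_of_finitePresentation _ _
  haveI : Module.Projective (A' ⧸ I.map (algebraMap A A'))
      ((A' ⧸ I.map (algebraMap A A')) ⊗[A'] B') :=
    Module.Flat.projective_of_finitePresentation
  have hind := hind_of_rank A' B' (I.map (algebraMap A A')) r (fun i => algebraMap B B' (b i))
    hrank' hgen
  obtain ⟨F, φ, hφ, hgφ⟩ := alg_core (I.map (algebraMap A A')) hI' (algebraMap B B' g) hg' r
    (fun i => algebraMap B B' (b i)) hgen hind
  exact ⟨hg'0, F, φ, hφ, hgφ⟩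

end Groth.Agent.Lib.R2H4.TorsFreeG
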