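import Mathlib
import Groth.Agent.Lib.R2H4TorsFreeC

set_option autoImplicit false
universe u
open scoped BigOperators TensorProduct

namespace Groth.Agent.Lib.R2H4.TorsFreeH
open Groth.Agent.Lib.R2H4.TorsFreeC

/-- Step 1a: choose a point of the support of `g` of maximal fibre degree `r`, a finitely
generated ideal `I` killing `g` with `V(I) = {deg ≤ r}` and a basic open `D(a₁) ⊆ {deg ≥ r}`. -/
theorem step1a (A B : Type u) [CommRing A] [CommRing B] [Algebra A B] [Module.Flat A B]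
    [Algebra.FinitePresentation A B] [Algebra.QuasiFinite A B] (g : B) (hg : g ≠ 0) :
    ∃ (I : Ideal A) (q : Ideal B) (_ : q.IsPrime) (r : ℕ) (a₁ : A), I.FG ∧
      (∀ t ∈ I, t • g = 0) ∧ (∀ y : B, y * g = 0 → y ∈ q) ∧ algebraMap A B a₁ ∉ q ∧
      ∀ p : PrimeSpectrum A, I ≤ p.asIdeal → a₁ ∉ p.asIdeal → dg A B p = r := by
  classical
  -- the annihilator of g
  set J : Ideal B := Submodule.annihilator (Submodule.span B {g}) with hJ
  have hJmem : ∀ y : B, y ∈ J ↔ y * g = 0 := by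
    intro y
    rw [hJ, Submodule.mem_annihilator_span_singleton, smul_eq_mul]
  have hJtop : J ≠ ⊤ := by
    intro h
    have : (1 : B) ∈ J := by rw [h]; trivial
    rw [hJmem, one_mul] at this
    exact hg this
  -- the degree function (as a natural number)
  let d : PrimeSpectrum B → ℕ := fun q =>
    Cardinal.toNat (dg A B (PrimeSpectrum.comap (algebraMap A B) q))
  have hd : ∀ p : PrimeSpectrum A, dg A B p = ((Cardinal.toNat (dg A B p) : ℕ) : Cardinal.{u}) :=
    fun p => (Cardinal.cast_toNat_of_lt_aleph0 (dg_lt_aleph0 A B p)).symm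
  obtain ⟨R, hR⟩ := exists_dg_le A B
  have hdR : ∀ q, d q ≤ R := by
    intro q
    have h1 := hR (PrimeSpectrum.comap (algebraMap A B) q)
    rw [hd] at h1
    exact_mod_cast h1
  -- choose a maximal value
  let S : Set ℕ := {n | ∃ q : PrimeSpectrum B, J ≤ q.asIdeal ∧ d q = n}
  have hSne : S.Nonempty := by
    obtain ⟨m, hm, hJm⟩ := Ideal.exists_le_maximal J hJtop
    exact ⟨d ⟨m, hm.isPrime⟩, ⟨m, hm.isPrime⟩, hJm, rfl⟩
  have hSbdd : BddAbove S := ⟨R, by rintro n ⟨q, -, rfl⟩; exact hdR q⟩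
  obtain ⟨q₀, hJq₀, hq₀⟩ := Nat.sSup_mem hSne hSbdd
  set r := sSup S with hr
  have hmax : ∀ q : PrimeSpectrum B, J ≤ q.asIdeal → d q ≤ r := fun q hq =>
    le_csSup hSbdd ⟨q, hq, rfl⟩
  set p₀ : PrimeSpectrum A := PrimeSpectrum.comap (algebraMap A B) q₀ with hp₀
  have hp₀r : dg A B p₀ = r := by
    rw [hd p₀]
    exact congrArg _ hq₀
  -- the f.g. ideal cutting out {deg ≤ r}
  obtain ⟨I₀, hI₀fg, hI₀⟩ := PrimeSpectrum.isCompact_isOpen_iff_ideal.mp
    ⟨isCompact_le_dg A B (r + 1), isOpen_le_dg A B (r + 1)⟩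
  have hI₀mem : ∀ p : PrimeSpectrum A, I₀ ≤ p.asIdeal ↔ ¬ ((r + 1 : ℕ) : Cardinal.{u}) ≤ dg A B p := by
    intro p
    have h1 : p ∈ (PrimeSpectrum.zeroLocus (I₀ : Set A))ᶜ ↔
        p ∈ {p : PrimeSpectrum A | ((r + 1 : ℕ) : Cardinal.{u}) ≤ dg A B p} := by rw [hI₀]
    rw [Set.mem_compl_iff, PrimeSpectrum.mem_zeroLocus, Set.mem_setOf_eq] at h1
    constructor
    · intro h h'
      exact (h1.mpr h') h
    · intro h
      by_contra h'
      exact h (h1.mp h')
  have hrad : I₀.map (algebraMap A B) ≤ J.radical := by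
    rw [Ideal.map_le_iff_le_comap]
    intro t ht
    rw [Ideal.mem_comap, Ideal.radical_eq_sInf, Ideal.mem_sInf]
    rintro q' ⟨hJq', hq'⟩
    have h1 := hmax ⟨q', hq'⟩ hJq'
    have h2 : I₀ ≤ (PrimeSpectrum.comap (algebraMap A B) ⟨q', hq'⟩).asIdeal := by
      rw [hI₀mem, hd, Nat.cast_le]
      have : Cardinal.toNat (dg A B (PrimeSpectrum.comap (algebraMap A B) ⟨q', hq'⟩)) ≤ r := h1
      omega
    exact h2 ht
  obtain ⟨N, hN⟩ := Ideal.exists_pow_le_of_le_radical_of_fg hrad (hI₀fg.map _)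
  refine ⟨I₀ ^ (N + 1), q₀.asIdeal, q₀.isPrime, r, ?_⟩
  -- the basic open
  have hopen := isOpen_le_dg A B r
  have hp₀mem : p₀ ∈ {p : PrimeSpectrum A | ((r : ℕ) : Cardinal.{u}) ≤ dg A B p} := by
    show ((r : ℕ) : Cardinal.{u}) ≤ dg A B p₀
    rw [hp₀r]
  obtain ⟨_, ⟨a₁, rfl⟩, ha₁p₀, ha₁sub⟩ :=
    PrimeSpectrum.isTopologicalBasis_basic_opens.exists_subset_of_mem_open hp₀mem hopen
  refine ⟨a₁, hI₀fg.pow, ?_, ?_, ?_, ?_⟩
  · intro t ht
    have h1 : algebraMap A B t ∈ J := by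
      apply hN
      rw [← Ideal.map_pow]
      apply Ideal.mem_map_of_mem
      exact Ideal.pow_le_pow_right (Nat.le_succ N) ht
    rw [hJmem] at h1
    rw [Algebra.smul_def]
    exact h1
  · intro y hy
    exact hJq₀ ((hJmem y).mpr hy)
  · exact ha₁p₀
  · intro p hIp ha₁p
    have h1 : I₀ ≤ p.asIdeal := by
      have := (PrimeSpectrum.zeroLocus_pow I₀ (Nat.succ_ne_zero N))
      have h2 : p ∈ PrimeSpectrum.zeroLocus ((I₀ ^ (N + 1) : Ideal A) : Set A) := hIp
      rw [this] at h2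
      exact h2
    have h2 := (hI₀mem p).mp h1
    have h3 : ((r : ℕ) : Cardinal.{u}) ≤ dg A B p := ha₁sub (show p ∈ PrimeSpectrum.basicOpen a₁ from ha₁p)
    rw [hd p] at h2 h3 ⊢
    rw [Nat.cast_le] at h2 h3
    congr 1
    omega

lemma isPushout_of_away (A B A' B' : Type*) [CommRing A] [CommRing B] [CommRing A']
    [CommRing B'] [Algebra A B] [Algebra A A'] [Algebra A B'] [Algebra A' B'] [Algebra B B']
    [IsScalarTower A A' B'] [IsScalarTower A B B'] (a : A) [IsLocalization.Away a A']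
    [IsLocalization.Away (algebraMap A B a) B'] : Algebra.IsPushout A A' B B' := by
  haveI : IsLocalization (Algebra.algebraMapSubmonoid B (Submonoid.powers a)) B' := by
    rw [Algebra.algebraMapSubmonoid_powers]
    infer_instance
  exact (Algebra.isPushout_of_isLocalization (Submonoid.powers a) A' B B').symm

/-- Step 1b: transfer of the data of step 1a to the localisation at `a₁`. -/
theorem step1b (A B : Type u) [CommRing A] [CommRing B] [Algebra A B]
    [Algebra.QuasiFinite A B] (g : B) (I : Ideal A) (q : Ideal B) [hqp : q.IsPrime] (r : ℕ)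
    (a₁ : A) (hI : I.FG) (hIg : ∀ t ∈ I, t • g = 0) (hq : ∀ y : B, y * g = 0 → y ∈ q)
    (ha₁ : algebraMap A B a₁ ∉ q)
    (hdeg : ∀ p : PrimeSpectrum A, I ≤ p.asIdeal → a₁ ∉ p.asIdeal → dg A B p = r)
    (A' B' : Type u) [CommRing A'] [CommRing B'] [Algebra A A'] [Algebra A B'] [Algebra A' B']
    [Algebra B B'] [IsScalarTower A A' B'] [IsScalarTower A B B'] [IsLocalization.Away a₁ A']
    [IsLocalization.Away (algebraMap A B a₁) B'] :
    ∃ (I' : Ideal A') (q' : Ideal B') (_ : q'.IsPrime), I'.FG ∧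
      (∀ t ∈ I', t • algebraMap B B' g = 0) ∧
      (∀ y' : B', y' * algebraMap B B' g = 0 → y' ∈ q') ∧
      ∀ p' : PrimeSpectrum A', I' ≤ p'.asIdeal → dg A' B' p' = r := by
  haveI hpo : Algebra.IsPushout A A' B B' := isPushout_of_away A B A' B' a₁
  have hdisj : Disjoint ((Submonoid.powers (algebraMap A B a₁) : Submonoid B) : Set B) (q : Set B) := by
    rw [Set.disjoint_left]
    rintro x ⟨n, rfl⟩ hx
    exact ha₁ (hqp.mem_of_pow_mem n hx)
  have hq'p : (q.map (algebraMap B B')).IsPrime :=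
    IsLocalization.isPrime_of_isPrime_disjoint (Submonoid.powers (algebraMap A B a₁)) B' q hqp hdisj
  refine ⟨I.map (algebraMap A A'), q.map (algebraMap B B'), hq'p, hI.map _, ?_, ?_, ?_⟩
  · intro t ht
    unfold Ideal.map at ht
    induction ht using Submodule.span_induction with
    | mem x hx =>
      obtain ⟨t₀, ht₀, rfl⟩ := hx
      rw [Algebra.smul_def, ← IsScalarTower.algebraMap_apply A A' B',
        IsScalarTower.algebraMap_apply A B B', ← map_mul, ← Algebra.smul_def, hIg t₀ ht₀, map_zero]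
    | zero => rw [zero_smul]
    | add x y _ _ hx hy => rw [add_smul, hx, hy, add_zero]
    | smul c x _ hx => rw [smul_eq_mul, mul_smul, hx, smul_zero]
  · intro y' hy'
    obtain ⟨n, y, hy⟩ := IsLocalization.Away.surj (algebraMap A B a₁) y'
    have hu : IsUnit (algebraMap B B' (algebraMap A B a₁) ^ n) :=
      (IsLocalization.Away.algebraMap_isUnit (algebraMap A B a₁)).pow n
    have h1 : algebraMap B B' (y * g) = 0 := by
      rw [map_mul, ← hy, mul_right_comm, hy', zero_mul]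
    obtain ⟨⟨m, hm⟩, hmg⟩ :=
      (IsLocalization.map_eq_zero_iff (Submonoid.powers (algebraMap A B a₁)) B' (y * g)).mp h1
    obtain ⟨k, rfl⟩ := hm
    have h2 : algebraMap A B a₁ ^ k * y ∈ q := by
      apply hq
      rw [mul_assoc]
      exact hmg
    have h3 : y ∈ q := by
      rcases hqp.mem_or_mem h2 with h | h
      · exact absurd (hqp.mem_of_pow_mem k h) ha₁
      · exact h
    have h4 : y' * algebraMap B B' (algebraMap A B a₁) ^ n ∈ q.map (algebraMap B B') := by
      rw [hy]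
      exact Ideal.mem_map_of_mem _ h3
    exact (Ideal.mul_unit_mem_iff_mem _ hu).mp h4
  · intro p' hp'
    apply dg_eq_of_isPushout A A' B B'
    apply hdeg
    · exact Ideal.map_le_iff_le_comap.mp hp'
    · intro ha
      have h1 : algebraMap A A' a₁ ∈ p'.asIdeal := ha
      exact p'.isPrime.ne_top (Ideal.eq_top_of_isUnit_mem _ h1
        (IsLocalization.Away.algebraMap_isUnit a₁))

end Groth.Agent.Lib.R2H4.TorsFreeH
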