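import Mathlib
import Groth.Agent.Lib.R2H4TorsFreeG
import Groth.Agent.Lib.R2H4TorsFreeH

set_option autoImplicit false
universe u
open scoped BigOperators TensorProduct

namespace Groth.Agent.Lib.R2H4.TorsFreeI
open Groth.Agent.Lib.R2H4.TorsFreeC Groth.Agent.Lib.R2H4.TorsFreeG Groth.Agent.Lib.R2H4.TorsFreeH

/-- The algebraic form of the theorem, with two successive basic localisations. -/
theorem alg_main (A B : Type u) [CommRing A] [CommRing B] [Algebra A B] [Module.Flat A B]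
    [Algebra.FinitePresentation A B] [Algebra.QuasiFinite A B] (g : B) (hg : g ≠ 0) :
    ∃ a₁ : A, ∀ (A₁ B₁ : Type u) [CommRing A₁] [CommRing B₁] [Algebra A A₁] [Algebra A B₁]
      [Algebra A₁ B₁] [Algebra B B₁] [IsScalarTower A A₁ B₁] [IsScalarTower A B B₁]
      [IsLocalization.Away a₁ A₁] [IsLocalization.Away (algebraMap A B a₁) B₁]
      [Module.Flat A₁ B₁] [Algebra.FinitePresentation A₁ B₁] [Algebra.QuasiFinite A₁ B₁],
      ∃ r : ℕ, 0 < r ∧ ∃ a₂ : A₁, ∀ (A₂ B₂ : Type u) [CommRing A₂] [CommRing B₂] [Algebra A₁ A₂]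
        [Algebra A₁ B₂] [Algebra A₂ B₂] [Algebra B₁ B₂] [IsScalarTower A₁ A₂ B₂]
        [IsScalarTower A₁ B₁ B₂] [IsLocalization.Away a₂ A₂]
        [IsLocalization.Away (algebraMap A₁ B₁ a₂) B₂]
        [Module.Flat A₂ B₂] [Algebra.FinitePresentation A₂ B₂] [Algebra.QuasiFinite A₂ B₂],
        algebraMap B₁ B₂ (algebraMap B B₁ g) ≠ 0 ∧
          ∃ (F : Ideal A₂) (φ : (Fin r → ↥F) →ₗ[A₂] B₂), Function.Injective φ ∧
            algebraMap B₁ B₂ (algebraMap B B₁ g) ∈ LinearMap.range φ := by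
  obtain ⟨I, q, hqp, r, a₁, hI, hIg, hq, ha₁, hdeg⟩ := step1a A B g hg
  refine ⟨a₁, ?_⟩
  intro A₁ B₁ _ _ _ _ _ _ _ _ _ _ _ _ _
  obtain ⟨I', q', hq'p, hI', hI'g, hq', hdeg'⟩ :=
    step1b A B g I q r a₁ hI hIg hq ha₁ hdeg A₁ B₁
  obtain ⟨hrpos, a₂, -, h2⟩ := step2 A₁ B₁ I' hI' (algebraMap B B₁ g) hI'g q' hq' r hdeg'
  exact ⟨r, hrpos, a₂, h2⟩

end Groth.Agent.Lib.R2H4.TorsFreeI
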