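import Mathlib
import Groth.Agent.Lib.R2H4TorsFreeI

set_option autoImplicit false
universe u
open AlgebraicGeometry CategoryTheory Limits Opposite TopologicalSpace

namespace Groth.Agent.Lib.R2H4.TorsFreeJ
open Groth.Agent.Lib.R2H4.TorsFreeI

/-- (W0) a nonzero global function is nonzero on some affine open mapping into an affine open. -/
lemma exists_affine_pair {X S : Scheme.{u}} (f : X ⟶ S) (g : Γ(X, ⊤)) (hg : g ≠ 0) :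
    ∃ (U₀ : S.Opens) (_ : IsAffineOpen U₀) (V₀ : X.Opens) (_ : IsAffineOpen V₀)
      (_ : V₀ ≤ f ⁻¹ᵁ U₀), X.presheaf.map (homOfLE le_top).op g ≠ (0 : Γ(X, V₀)) := by
  by_contra h
  push Not at h
  apply hg
  refine X.sheaf.eq_of_locally_eq'
    (fun i : {p : S.affineOpens × X.affineOpens // p.2.1 ≤ f ⁻¹ᵁ p.1.1} => i.1.2.1) ⊤
    (fun i => homOfLE le_top) ?_ g 0 (fun i => ?_)
  · intro x _
    obtain ⟨_, ⟨U, hU, rfl⟩, hxU, -⟩ :=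
      S.isBasis_affineOpens.exists_subset_of_mem_open (Set.mem_univ (f x)) isOpen_univ
    obtain ⟨_, ⟨V, hV, rfl⟩, hxV, hVU⟩ :=
      X.isBasis_affineOpens.exists_subset_of_mem_open (show x ∈ (f ⁻¹ᵁ U : Set X) from hxU)
        (f ⁻¹ᵁ U).2
    exact Opens.mem_iSup.2 ⟨⟨(⟨U, hU⟩, ⟨V, hV⟩), hVU⟩, hxV⟩
  · have := h i.1.1.1 i.1.1.2 i.1.2.1 i.1.2.2 i.2
    rw [map_zero]
    exact this

/-- (W1) shrinking a pair of affine opens to basic opens. -/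
lemma shrink {X S : Scheme.{u}} (f : X ⟶ S) (U₀ : S.Opens) (hU₀ : IsAffineOpen U₀)
    (V₀ : X.Opens) (hV₀ : IsAffineOpen V₀) (h₀ : V₀ ≤ f ⁻¹ᵁ U₀) (a : Γ(S, U₀)) :
    ∃ (U₁ : S.Opens) (_ : IsAffineOpen U₁) (V₁ : X.Opens) (_ : IsAffineOpen V₁)
      (_ : V₁ ≤ f ⁻¹ᵁ U₁) (hUle : U₁ ≤ U₀) (hVle : V₁ ≤ V₀),
      letI := (S.presheaf.map (homOfLE hUle).op).hom.toAlgebra
      letI := (X.presheaf.map (homOfLE hVle).op).hom.toAlgebra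
      IsLocalization.Away a Γ(S, U₁) ∧
        IsLocalization.Away ((f.appLE U₀ V₀ h₀).hom a) Γ(X, V₁) := by
  refine ⟨S.basicOpen a, hU₀.basicOpen a, X.basicOpen ((f.appLE U₀ V₀ h₀).hom a),
    hV₀.basicOpen _, ?_, S.basicOpen_le a, X.basicOpen_le _, ?_, ?_⟩
  · have := Scheme.basicOpen_appLE f V₀ U₀ h₀ a
    rw [show X.basicOpen ((f.appLE U₀ V₀ h₀).hom a) = V₀ ⊓ f ⁻¹ᵁ S.basicOpen a from this]
    exact inf_le_right
  · exact hU₀.isLocalization_basicOpen a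
  · exact hV₀.isLocalization_basicOpen _

section AppLE
variable {X S : Scheme.{u}} (f : X ⟶ S) {U : S.Opens} {V : X.Opens}

lemma flat_appLE [Flat f] (hU : IsAffineOpen U) (hV : IsAffineOpen V) (h : V ≤ f ⁻¹ᵁ U) :
    letI := (f.appLE U V h).hom.toAlgebra
    Module.Flat Γ(S, U) Γ(X, V) :=
  HasRingHomProperty.appLE (P := @Flat) f inferInstance ⟨U, hU⟩ ⟨V, hV⟩ h

lemma fp_appLE [LocallyOfFinitePresentation f] (hU : IsAffineOpen U) (hV : IsAffineOpen V)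
    (h : V ≤ f ⁻¹ᵁ U) :
    letI := (f.appLE U V h).hom.toAlgebra
    Algebra.FinitePresentation Γ(S, U) Γ(X, V) :=
  HasRingHomProperty.appLE (P := @LocallyOfFinitePresentation) f inferInstance ⟨U, hU⟩ ⟨V, hV⟩ h

lemma qf_appLE [LocallyQuasiFinite f] (hU : IsAffineOpen U) (hV : IsAffineOpen V)
    (h : V ≤ f ⁻¹ᵁ U) :
    letI := (f.appLE U V h).hom.toAlgebra
    Algebra.QuasiFinite Γ(S, U) Γ(X, V) :=
  HasRingHomProperty.appLE (P := @LocallyQuasiFinite) f inferInstance ⟨U, hU⟩ ⟨V, hV⟩ h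

end AppLE

theorem main1480 {X S : Scheme.{u}} (f : X ⟶ S) [Flat f] [LocallyOfFinitePresentation f]
    [LocallyQuasiFinite f] (g : Γ(X, ⊤)) (hg : g ≠ 0) :
    ∃ (U : S.Opens) (hU : IsAffineOpen U) (V : X.Opens) (hV : IsAffineOpen V)
      (hVU : V ≤ f ⁻¹ᵁ U),
      X.presheaf.map (homOfLE le_top).op g ≠ (0 : Γ(X, V)) ∧
      ∃ (F : Ideal Γ(S, U)) (r : ℕ), 0 < r ∧
        letI := (f.appLE U V hVU).hom.toAlgebra
        ∃ φ : (Fin r → ↥F) →ₗ[Γ(S, U)] Γ(X, V), Function.Injective φ ∧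
          X.presheaf.map (homOfLE le_top).op g ∈ LinearMap.range φ := by
  obtain ⟨U₀, hU₀, V₀, hV₀, h₀, hg₀⟩ := exists_affine_pair f g hg
  letI alg₀ : Algebra Γ(S, U₀) Γ(X, V₀) := (f.appLE U₀ V₀ h₀).hom.toAlgebra
  haveI : Module.Flat Γ(S, U₀) Γ(X, V₀) := flat_appLE f hU₀ hV₀ h₀
  haveI : Algebra.FinitePresentation Γ(S, U₀) Γ(X, V₀) := fp_appLE f hU₀ hV₀ h₀
  haveI : Algebra.QuasiFinite Γ(S, U₀) Γ(X, V₀) := qf_appLE f hU₀ hV₀ h₀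
  obtain ⟨a₁, H₁⟩ := alg_main Γ(S, U₀) Γ(X, V₀) (X.presheaf.map (homOfLE le_top).op g) hg₀
  -- first shrink
  obtain ⟨U₁, hU₁, V₁, hV₁, h₁, hUle₁, hVle₁, hlocA₁, hlocB₁⟩ := shrink f U₀ hU₀ V₀ hV₀ h₀ a₁
  letI algA₁ : Algebra Γ(S, U₀) Γ(S, U₁) := (S.presheaf.map (homOfLE hUle₁).op).hom.toAlgebra
  letI algB₁ : Algebra Γ(X, V₀) Γ(X, V₁) := (X.presheaf.map (homOfLE hVle₁).op).hom.toAlgebra
  letI alg₁ : Algebra Γ(S, U₁) Γ(X, V₁) := (f.appLE U₁ V₁ h₁).hom.toAlgebra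
  letI alg₀₁ : Algebra Γ(S, U₀) Γ(X, V₁) := (f.appLE U₀ V₁ (hVle₁.trans h₀)).hom.toAlgebra
  haveI : IsScalarTower Γ(S, U₀) Γ(S, U₁) Γ(X, V₁) := IsScalarTower.of_algebraMap_eq' (by
    show (f.appLE U₀ V₁ _).hom = (f.appLE U₁ V₁ h₁).hom.comp (S.presheaf.map _).hom
    rw [← CommRingCat.hom_comp, Scheme.Hom.map_appLE])
  haveI : IsScalarTower Γ(S, U₀) Γ(X, V₀) Γ(X, V₁) := IsScalarTower.of_algebraMap_eq' (by
    show (f.appLE U₀ V₁ _).hom = (X.presheaf.map _).hom.comp (f.appLE U₀ V₀ h₀).hom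
    rw [← CommRingCat.hom_comp, Scheme.Hom.appLE_map])
  haveI : IsLocalization.Away a₁ Γ(S, U₁) := hlocA₁
  haveI : IsLocalization.Away (algebraMap Γ(S, U₀) Γ(X, V₀) a₁) Γ(X, V₁) := hlocB₁
  haveI : Module.Flat Γ(S, U₁) Γ(X, V₁) := flat_appLE f hU₁ hV₁ h₁
  haveI : Algebra.FinitePresentation Γ(S, U₁) Γ(X, V₁) := fp_appLE f hU₁ hV₁ h₁
  haveI : Algebra.QuasiFinite Γ(S, U₁) Γ(X, V₁) := qf_appLE f hU₁ hV₁ h₁
  obtain ⟨r, hr, a₂, H₂⟩ := H₁ Γ(S, U₁) Γ(X, V₁)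
  -- second shrink
  obtain ⟨U₂, hU₂, V₂, hV₂, h₂, hUle₂, hVle₂, hlocA₂, hlocB₂⟩ := shrink f U₁ hU₁ V₁ hV₁ h₁ a₂
  letI algA₂ : Algebra Γ(S, U₁) Γ(S, U₂) := (S.presheaf.map (homOfLE hUle₂).op).hom.toAlgebra
  letI algB₂ : Algebra Γ(X, V₁) Γ(X, V₂) := (X.presheaf.map (homOfLE hVle₂).op).hom.toAlgebra
  letI alg₂ : Algebra Γ(S, U₂) Γ(X, V₂) := (f.appLE U₂ V₂ h₂).hom.toAlgebra
  letI alg₁₂ : Algebra Γ(S, U₁) Γ(X, V₂) := (f.appLE U₁ V₂ (hVle₂.trans h₁)).hom.toAlgebra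
  haveI : IsScalarTower Γ(S, U₁) Γ(S, U₂) Γ(X, V₂) := IsScalarTower.of_algebraMap_eq' (by
    show (f.appLE U₁ V₂ _).hom = (f.appLE U₂ V₂ h₂).hom.comp (S.presheaf.map _).hom
    rw [← CommRingCat.hom_comp, Scheme.Hom.map_appLE])
  haveI : IsScalarTower Γ(S, U₁) Γ(X, V₁) Γ(X, V₂) := IsScalarTower.of_algebraMap_eq' (by
    show (f.appLE U₁ V₂ _).hom = (X.presheaf.map _).hom.comp (f.appLE U₁ V₁ h₁).hom
    rw [← CommRingCat.hom_comp, Scheme.Hom.appLE_map])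
  haveI : IsLocalization.Away a₂ Γ(S, U₂) := hlocA₂
  haveI : IsLocalization.Away (algebraMap Γ(S, U₁) Γ(X, V₁) a₂) Γ(X, V₂) := hlocB₂
  haveI : Module.Flat Γ(S, U₂) Γ(X, V₂) := flat_appLE f hU₂ hV₂ h₂
  haveI : Algebra.FinitePresentation Γ(S, U₂) Γ(X, V₂) := fp_appLE f hU₂ hV₂ h₂
  haveI : Algebra.QuasiFinite Γ(S, U₂) Γ(X, V₂) := qf_appLE f hU₂ hV₂ h₂
  obtain ⟨hne, F, φ, hφ, hgφ⟩ := H₂ Γ(S, U₂) Γ(X, V₂)
  have hres : algebraMap Γ(X, V₁) Γ(X, V₂)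
      (algebraMap Γ(X, V₀) Γ(X, V₁) (X.presheaf.map (homOfLE le_top).op g)) =
      X.presheaf.map (homOfLE le_top).op g := by
    show (X.presheaf.map _).hom ((X.presheaf.map _).hom ((X.presheaf.map _).hom g)) = _
    rw [← CommRingCat.comp_apply, ← CommRingCat.comp_apply, ← Functor.map_comp,
      ← Functor.map_comp]
    rfl
  rw [hres] at hne hgφ
  exact ⟨U₂, hU₂, V₂, hV₂, h₂, hne, F, r, hr, φ, hφ, hgφ⟩

end Groth.Agent.Lib.R2H4.TorsFreeJ
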