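import Mathlib
import Groth.Prelude.Def_RegImm
import Groth.Prelude.Def_Pi1
import Groth.Prelude.Def_EGA4b
import Groth.Agent.Lib.H6xCIG
import Groth.Agent.Lib.H6xCII
import Groth.Agent.Lib.H6xCIJ
import Groth.Agent.Lib.Helper28FlatNormal
import Groth.Agent.Lib.Helper19RegSecA
import Groth.Agent.Lib.Helper5FlatReg
import Groth.Agent.Lib.R2H4SyntNhdA

/-!
# Transversally regular generating sequences and complete intersection closed fibres
(helper4, round 2)

`main5068`: `A → C` flat local homomorphism of Noetherian local rings with regular closed fibre,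
`B = C/J` local: `J` is generated by a sequence transversally regular relative to `A` iff `B` is
`A`-flat and `B/m_A B` is a complete intersection.
-/

set_option autoImplicit false
set_option linter.unusedSectionVars false
universe u
open scoped TensorProduct
open IsLocalRing RingTheory.Sequence

namespace Groth.Agent.Lib.R2H4.TransReg


open Groth.Agent.Lib.H6xCI Groth.Agent.Lib.R2H4.SyntNhd

section Main

variable (A C B : Type u) [CommRing A] [IsLocalRing A] [IsNoetherianRing A]
  [CommRing C] [IsLocalRing C] [IsNoetherianRing C] [Algebra A C] [IsLocalHom (algebraMap A C)]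
  [CommRing B] [IsLocalRing B] [Algebra C B] [Algebra A B] [IsScalarTower A C B]
  [IsLocalHom (algebraMap A B)]

theorem mB_le_comap : EGA4.mB A C ≤ (EGA4.mB A B).comap (algebraMap C B) := by
  rw [← Ideal.map_le_iff_le_comap, Ideal.map_map, ← IsScalarTower.algebraMap_eq]

/-- the induced map on closed fibres -/
noncomputable def fibMap : EGA4.FibRing A C →+* EGA4.FibRing A B :=
  Ideal.quotientMap (EGA4.mB A B) (algebraMap C B) (mB_le_comap A C B)

variable {A C B}

theorem fibMap_surjective (hsurj : Function.Surjective (algebraMap C B)) :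
    Function.Surjective (fibMap A C B) :=
  Ideal.quotientMap_surjective hsurj

theorem ker_fibMap (hsurj : Function.Surjective (algebraMap C B)) :
    RingHom.ker (fibMap A C B) =
      (RingHom.ker (algebraMap C B)).map (Ideal.Quotient.mk (EGA4.mB A C)) := by
  refine ker_quotientMap (algebraMap C B) hsurj (EGA4.mB A C) (EGA4.mB A B) ?_ (mB_le_comap A C B)
  change (maximalIdeal A).map (algebraMap A B) = ((maximalIdeal A).map (algebraMap A C)).map _
  rw [Ideal.map_map, ← IsScalarTower.algebraMap_eq]

/-- `C ⧸ ker` is `A`-flat iff `B` is. -/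
theorem flat_quotient_ker_iff (hsurj : Function.Surjective (algebraMap C B)) :
    Module.Flat A (C ⧸ RingHom.ker (algebraMap C B)) ↔ Module.Flat A B := by
  let e : (C ⧸ RingHom.ker (algebraMap C B)) ≃ₐ[C] B :=
    Ideal.quotientKerAlgEquivOfSurjective (f := Algebra.ofId C B) hsurj
  exact Module.Flat.equiv_iff ((e.restrictScalars A).toLinearEquiv)

end Main



open Groth.Agent.Lib.H6xCI Groth.Agent.Lib.R2H4.SyntNhd

section Main

variable {A C B : Type u} [CommRing A] [IsLocalRing A] [IsNoetherianRing A]
  [CommRing C] [IsLocalRing C] [IsNoetherianRing C] [Algebra A C] [IsLocalHom (algebraMap A C)]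
  [Module.Flat A C]
  [CommRing B] [IsLocalRing B] [Algebra C B] [Algebra A B] [IsScalarTower A C B]
  [IsLocalHom (algebraMap A B)]

theorem ker_le_maximalIdeal' : RingHom.ker (algebraMap C B) ≤ maximalIdeal C :=
  IsLocalRing.le_maximalIdeal (RingHom.ker_ne_top _)

theorem quot_ofList_equiv (rs : List C) :
    Nonempty ((C ⧸ (Ideal.ofList rs • (⊤ : Submodule C C))) ≃ₗ[C] (C ⧸ Ideal.ofList rs)) :=
  ⟨Submodule.quotEquivOfEq _ _ (by rw [smul_eq_mul, Ideal.mul_top])⟩

/-- forward direction -/
theorem forward (hreg : IsRegularLocalRing (EGA4.FibRing A C))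
    (hsurj : Function.Surjective (algebraMap C B)) (rs : List C)
    (hrs : Ideal.ofList rs = RingHom.ker (algebraMap C B))
    (htr : RegImm.IsTransRegularSeq A C rs) :
    Module.Flat A B ∧ Pi1.IsCompleteIntersection (EGA4.FibRing A B) := by
  haveI := hreg
  obtain ⟨hwr, hfl⟩ := htr
  have hflatB : Module.Flat A B := by
    rw [← flat_quotient_ker_iff hsurj, ← hrs]
    have := hfl rs.length le_rfl
    rwa [List.take_length] at this
  refine ⟨hflatB, ?_⟩
  haveI : IsNoetherianRing B := isNoetherianRing_of_surjective C B _ hsurj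
  -- the sequence is regular
  have hregC : IsRegular C rs := by
    refine ⟨hwr, ?_⟩
    rw [smul_eq_mul, Ideal.mul_top, hrs]
    exact (RingHom.ker_ne_top _).symm
  -- dimensions
  obtain ⟨a, ha⟩ := exists_natCast_ringKrullDim A
  obtain ⟨c, hc⟩ := exists_natCast_ringKrullDim C
  obtain ⟨b, hb⟩ := exists_natCast_ringKrullDim B
  obtain ⟨e, he⟩ := exists_natCast_ringKrullDim (EGA4.FibRing A C)
  obtain ⟨d, hd⟩ := exists_natCast_ringKrullDim (EGA4.FibRing A B)
  have h1 := Groth.Agent.Lib.Helper28.ringKrullDim_eq_add_of_flat (R := A) (S := C)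
    (EGA4.mB A C) rfl
  have h2 := Groth.Agent.Lib.Helper28.ringKrullDim_eq_add_of_flat (R := A) (S := B)
    (EGA4.mB A B) rfl
  have h3 := ringKrullDim_add_length_eq_ringKrullDim_of_isRegular rs hregC
  have h4 : ringKrullDim (C ⧸ Ideal.ofList rs) = ringKrullDim B := by
    rw [hrs]
    exact ringKrullDim_eq_of_ringEquiv (RingHom.quotientKerEquivOfSurjective hsurj)
  rw [hc, he, ha] at h1
  rw [hb, hd, ha] at h2
  rw [h4, hb, hc] at h3
  have h1' : c = e + a := by exact_mod_cast h1
  have h2' : b = d + a := by exact_mod_cast h2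
  have h3' : b + rs.length = c := by exact_mod_cast h3
  have hker : Ideal.ofList (rs.map (Ideal.Quotient.mk (EGA4.mB A C))) =
      RingHom.ker (fibMap A C B) := by
    rw [ker_fibMap hsurj, ← hrs, Ideal.map_ofList]
  have hR := isRegular_of_length_eq (fibMap A C B) (fibMap_surjective hsurj) d e hd he
    (rs.map (Ideal.Quotient.mk (EGA4.mB A C))) hker (by rw [List.length_map]; omega)
  exact (ci_iff_of_surjective (fibMap A C B) (fibMap_surjective hsurj)).mpr ⟨_, hker, hR⟩

end Main



open Groth.Agent.Lib.H6xCI Groth.Agent.Lib.R2H4.SyntNhd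

section Main

variable {A C B : Type u} [CommRing A] [IsLocalRing A] [IsNoetherianRing A]
  [CommRing C] [IsLocalRing C] [IsNoetherianRing C] [Algebra A C] [IsLocalHom (algebraMap A C)]
  [Module.Flat A C]
  [CommRing B] [IsLocalRing B] [Algebra C B] [Algebra A B] [IsScalarTower A C B]
  [IsLocalHom (algebraMap A B)]

/-- lifting a list through a surjection, with membership in an ideal -/
theorem exists_lift_list {R S : Type u} [CommRing R] [CommRing S] (f : R →+* S)
    (hf : Function.Surjective f) (J : Ideal R) (l : List S) (hl : ∀ x ∈ l, x ∈ J.map f) :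
    ∃ rs : List R, (∀ r ∈ rs, r ∈ J) ∧ rs.map f = l := by
  induction l with
  | nil => exact ⟨[], by simp, rfl⟩
  | cons x l ih =>
    obtain ⟨rs, h1, h2⟩ := ih (fun y hy => hl y (List.mem_cons_of_mem _ hy))
    obtain ⟨r, hr, hrx⟩ := (Ideal.mem_map_iff_of_surjective f hf).mp (hl x List.mem_cons_self)
    refine ⟨r :: rs, ?_, by rw [List.map_cons, hrx, h2]⟩
    intro y hy
    rcases List.mem_cons.mp hy with rfl | hy
    · exact hr
    · exact h1 y hy

/-- backward direction -/
theorem backward (hreg : IsRegularLocalRing (EGA4.FibRing A C))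
    (hsurj : Function.Surjective (algebraMap C B)) (hflat : Module.Flat A B)
    (hci : Pi1.IsCompleteIntersection (EGA4.FibRing A B)) :
    ∃ rs : List C, Ideal.ofList rs = RingHom.ker (algebraMap C B) ∧
      RegImm.IsTransRegularSeq A C rs := by
  haveI := hreg
  obtain ⟨rbs, hrbs, hregb⟩ :=
    (ci_iff_of_surjective (fibMap A C B) (fibMap_surjective hsurj)).mp hci
  rw [ker_fibMap hsurj] at hrbs
  obtain ⟨rs, hrsJ, hrsmap⟩ := exists_lift_list (Ideal.Quotient.mk (EGA4.mB A C))
    Ideal.Quotient.mk_surjective (RingHom.ker (algebraMap C B)) rbs (fun x hx => by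
      rw [← hrbs]
      exact Ideal.subset_span hx)
  have hle : Ideal.ofList rs ≤ RingHom.ker (algebraMap C B) := by
    rw [Ideal.ofList, Ideal.span_le]
    exact fun x hx => hrsJ x hx
  haveI : Module.Flat A (C ⧸ RingHom.ker (algebraMap C B)) :=
    (flat_quotient_ker_iff hsurj).mpr hflat
  have hJ : RingHom.ker (algebraMap C B) = Ideal.ofList rs := by
    refine eq_of_flat_of_le_sup (R := A) _ _ hle (IsNoetherian.noetherian _) (maximalIdeal A)
      (IsLocalRing.map_maximalIdeal_le (algebraMap A C)) ?_
    intro x hx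
    have h1 : Ideal.Quotient.mk (EGA4.mB A C) x ∈
        (Ideal.ofList rs).map (Ideal.Quotient.mk (EGA4.mB A C)) := by
      rw [Ideal.map_ofList, hrsmap, hrbs]
      exact Ideal.mem_map_of_mem _ hx
    obtain ⟨y, hy, hyx⟩ := (Ideal.mem_map_iff_of_surjective _ Ideal.Quotient.mk_surjective).mp h1
    have h2 : x - y ∈ EGA4.mB A C := by
      rw [← Ideal.Quotient.eq_zero_iff_mem, map_sub, hyx, sub_self]
    refine Submodule.mem_sup.mpr ⟨y, hy, x - y, h2, by ring⟩
  refine ⟨rs, hJ.symm, ?_⟩
  have hwr : IsWeaklyRegular C rs := by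
    apply Groth.Agent.Lib.Helper19.RegSec.isWeaklyRegular_of_isWeaklyRegular_fibre (R := A)
    change IsWeaklyRegular (EGA4.FibRing A C) (rs.map (Ideal.Quotient.mk (EGA4.mB A C)))
    rw [hrsmap]
    exact hregb.toIsWeaklyRegular
  refine ⟨hwr, ?_⟩
  have hmem : ∀ f ∈ rs, f ∈ (⊥ : Ideal C).jacobson := by
    intro f hf
    rw [IsLocalRing.jacobson_eq_maximalIdeal ⊥ bot_ne_top]
    exact ker_le_maximalIdeal' (hrsJ f hf)
  obtain ⟨e0⟩ := quot_ofList_equiv rs
  have hfl0 : Module.Flat A (C ⧸ (Ideal.ofList rs • (⊤ : Submodule C C))) := by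
    have : Module.Flat A (C ⧸ Ideal.ofList rs) := by rw [← hJ]; infer_instance
    exact Groth.Agent.Lib.Helper5.flat_of_linearEquiv_tower e0.symm this
  have hall := Groth.Agent.Lib.Helper5.flat_quot_take_of_isWeaklyRegular (A := A) rs C hmem hwr hfl0
  intro j hj
  obtain ⟨ej⟩ := quot_ofList_equiv (rs.take j)
  exact Groth.Agent.Lib.Helper5.flat_of_linearEquiv_tower ej (hall j hj)

/-- **Transversally regular generating sequences of the kernel of `C → B` exist iff `B` is `A`-flat
and the closed fibre of `B` is a complete intersection** (closed fibre of `C` regular). -/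
theorem main5068 (hreg : IsRegularLocalRing (EGA4.FibRing A C))
    (hsurj : Function.Surjective (algebraMap C B)) :
    (∃ rs : List C, Ideal.ofList rs = RingHom.ker (algebraMap C B) ∧
        RegImm.IsTransRegularSeq A C rs) ↔
      (Module.Flat A B ∧ Pi1.IsCompleteIntersection (EGA4.FibRing A B)) :=
  ⟨fun ⟨rs, h1, h2⟩ => forward hreg hsurj rs h1 h2, fun ⟨h1, h2⟩ => backward hreg hsurj h1 h2⟩

end Main


end Groth.Agent.Lib.R2H4.TransReg
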