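import Mathlib
import Groth.Agent.Lib.R2H4PicDescCI

/-!
# Gluing invertible modules on a union of closed subschemes meeting in discrete sets (helper4, round 2)

`X` reduced, `Z i` (`i : Fin n`) closed subschemes covering `X`.

* `Vi Z i` : the open of points lying on `Z i` only; `Bad Z x` : `x` lies on two different `Z i`.
* `isIso_restrict` : `Z i → X` is an isomorphism over `Vi Z i`.
* `existsUnique_section` : over an open `W` without bad points, a section of `O_X` is the same as a family of sections of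
  the `O_{Z i}` over the preimages of `W`.
* `nonempty_pullback_iso_of_coc` : comparison of a pullback of a glued invertible module with a module with matching
  frames.
* `exists_glue_of_cover` : **the gluing theorem** (S7670).
-/

set_option autoImplicit false
set_option linter.style.haveILetI false
universe u
open CategoryTheory Limits AlgebraicGeometry TopologicalSpace Opposite

namespace Groth.Agent.Lib.R2H4UnionGlue
open Groth.Agent.Lib.Helper23.SecTw Groth.Agent.Lib.Helper6 Groth.Agent.Lib.R2H4CocycleGlue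
  Groth.Agent.Lib.R2H4FiniteTriv Groth.Agent.Lib.Helper23.Extend Groth.Agent.Helper13PullbackUnit
  Groth.Agent.Lib.Helper27PullGen Groth.Agent.Lib.R2H4FinitePicDesc Groth.Agent.Lib.R2H4UnitLift
  Groth.Agent.Lib.Helper23.GenNear Groth.Agent.Lib.R2H4PicDescCI

section Top

variable {X : Scheme.{u}} {n : ℕ} (Z : Fin n → X.IdealSheafData)

/-- the open of points lying on `Z i` only -/
def Vi (i : Fin n) : X.Opens :=
  ⟨(⋃ j : {j : Fin n // j ≠ i}, ((Z j.1).support : Set X))ᶜ,
    (isClosed_iUnion_of_finite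
      (fun j : {j : Fin n // j ≠ i} => (Z j.1).support.isClosed)).isOpen_compl⟩

theorem mem_Vi_iff (i : Fin n) (x : X) : x ∈ Vi Z i ↔ ∀ j, j ≠ i → x ∉ (Z j).support := by
  change x ∈ (⋃ j : {j : Fin n // j ≠ i}, ((Z j.1).support : Set X))ᶜ ↔ _
  simp only [Set.mem_compl_iff, Set.mem_iUnion, not_exists, Subtype.forall, SetLike.mem_coe]

/-- `x` lies on two different members -/
def Bad (x : X) : Prop := ∃ i j, i ≠ j ∧ x ∈ (Z i).support ∧ x ∈ (Z j).support

variable (hcov : ⋃ i, ((Z i).support : Set X) = Set.univ)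
include hcov

theorem exists_mem_support (x : X) : ∃ i, x ∈ (Z i).support := by
  have : x ∈ ⋃ i, ((Z i).support : Set X) := hcov ▸ Set.mem_univ x
  simpa using this

theorem mem_support_of_mem_Vi {i : Fin n} {x : X} (hx : x ∈ Vi Z i) : x ∈ (Z i).support := by
  obtain ⟨j, hj⟩ := exists_mem_support Z hcov x
  by_cases hji : j = i
  · exact hji ▸ hj
  · exact absurd hj ((mem_Vi_iff Z i x).mp hx j hji)

theorem eq_of_mem_Vi {i j : Fin n} {x : X} (hi : x ∈ Vi Z i) (hj : x ∈ Vi Z j) : i = j := by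
  by_contra hij
  exact (mem_Vi_iff Z i x).mp hi j (fun h => hij h.symm) (mem_support_of_mem_Vi Z hcov hj)

theorem exists_mem_Vi_of_not_bad {x : X} (hx : ¬ Bad Z x) : ∃ i, x ∈ Vi Z i := by
  obtain ⟨i, hi⟩ := exists_mem_support Z hcov x
  refine ⟨i, (mem_Vi_iff Z i x).mpr (fun j hji hj => hx ⟨i, j, fun h => hji h.symm, hi, hj⟩)⟩

omit hcov in
theorem mem_Vi_of_not_bad_of_mem {i : Fin n} {x : X} (hx : ¬ Bad Z x) (hi : x ∈ (Z i).support) :
    x ∈ Vi Z i :=
  (mem_Vi_iff Z i x).mpr (fun j hji hj => hx ⟨i, j, fun h => hji h.symm, hi, hj⟩)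

end Top

section Nhd

variable {X : Type*} [TopologicalSpace X]

theorem exists_open_of_discrete_set (A : Set X) (hA : IsClosed A) (hd : DiscreteTopology ↥A) (p : X) :
    ∃ O : Opens X, p ∈ O ∧ ∀ z ∈ O, z ∈ A → z = p := by
  by_cases hp : p ∈ A
  · have h1 : IsOpen ({⟨p, hp⟩} : Set ↥A) := isOpen_discrete _
    obtain ⟨O, hO, hOeq⟩ := isOpen_induced_iff.mp h1
    refine ⟨⟨O, hO⟩, ?_, fun z hzO hzA => ?_⟩
    · have : (⟨p, hp⟩ : ↥A) ∈ Subtype.val ⁻¹' O := by
        rw [hOeq]; exact Set.mem_singleton _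
      exact this
    · have : (⟨z, hzA⟩ : ↥A) ∈ Subtype.val ⁻¹' O := hzO
      rw [hOeq] at this
      exact congrArg Subtype.val (Set.mem_singleton_iff.mp this)
  · exact ⟨⟨Aᶜ, hA.isOpen_compl⟩, hp, fun z hzO hzA => absurd hzA hzO⟩

end Nhd

section Nhd2

variable {X : Scheme.{u}} {n : ℕ} (Z : Fin n → X.IdealSheafData)

theorem exists_open_bad
    (hdisc : ∀ i j, i ≠ j →
      DiscreteTopology ↥(((Z i).support : Set X) ∩ ((Z j).support : Set X))) (p : X) :
    ∃ O : X.Opens, p ∈ O ∧ ∀ z ∈ O, Bad Z z → z = p := by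
  have h : ∀ q : {q : Fin n × Fin n // q.1 ≠ q.2}, ∃ O : X.Opens, p ∈ O ∧
      ∀ z ∈ O, z ∈ ((Z q.1.1).support : Set X) ∩ ((Z q.1.2).support : Set X) → z = p := fun q =>
    exists_open_of_discrete_set _ ((Z q.1.1).support.isClosed.inter (Z q.1.2).support.isClosed)
      (hdisc q.1.1 q.1.2 q.2) p
  choose O hpO hO using h
  refine ⟨⟨⋂ q, (O q : Set X), isOpen_iInter_of_finite (fun q => (O q).isOpen)⟩, ?_, ?_⟩
  · exact Set.mem_iInter.mpr hpO
  · rintro z hz ⟨i, j, hij, hi, hj⟩
    exact hO ⟨(i, j), hij⟩ z (Set.mem_iInter.mp hz _) ⟨hi, hj⟩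

end Nhd2

section Iso

variable {X : Scheme.{u}} [IsReduced X] {n : ℕ} (Z : Fin n → X.IdealSheafData)
  (hcov : ⋃ i, ((Z i).support : Set X) = Set.univ)
include hcov

theorem isIso_restrict (i : Fin n) : IsIso ((Z i).subschemeι ∣_ Vi Z i) := by
  haveI : Surjective ((Z i).subschemeι ∣_ Vi Z i) := by
    refine ⟨fun x => ?_⟩
    have hx : x.1 ∈ Set.range (Z i).subschemeι := by
      rw [Scheme.IdealSheafData.range_subschemeι]
      exact mem_support_of_mem_Vi Z hcov x.2
    obtain ⟨z, hz⟩ := hx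
    refine ⟨⟨z, show (Z i).subschemeι z ∈ Vi Z i from hz ▸ x.2⟩, Subtype.ext ?_⟩
    rw [morphismRestrict_base_coe]
    exact hz
  exact isIso_of_isClosedImmersion_of_surjective _

theorem bijective_app (i : Fin n) (W : X.Opens) (hW : W ≤ Vi Z i) :
    Function.Bijective ((Z i).subschemeι.app W) := by
  haveI := isIso_restrict Z hcov i
  haveI : IsIso ((Z i).subschemeι.app W) :=
    isIso_app_of_isIso_restrict (Z i).subschemeι (Vi Z i) W hW
  exact ConcreteCategory.bijective_of_isIso _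

omit hcov [IsReduced X] in
theorem preimage_le (i : Fin n) (W : X.Opens) (hW : ∀ x ∈ W, ¬ Bad Z x) :
    (Z i).subschemeι ⁻¹ᵁ W ≤ (Z i).subschemeι ⁻¹ᵁ (W ⊓ Vi Z i) := by
  intro z hz
  refine ⟨hz, mem_Vi_of_not_bad_of_mem Z (hW _ hz) ?_⟩
  have : (Z i).subschemeι z ∈ Set.range (Z i).subschemeι := ⟨z, rfl⟩
  rw [Scheme.IdealSheafData.range_subschemeι] at this
  exact this

omit hcov [IsReduced X] in
theorem resf_injective_of_le {Y : Scheme.{u}} {A B : Y.Opens} (h : A ≤ B) (h' : B ≤ A) :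
    Function.Injective (resf h : Γ(Y, B) → Γ(Y, A)) := by
  have e : A = B := le_antisymm h h'
  subst e
  intro a b hab
  rwa [resf_self', resf_self'] at hab

/-- over an open without bad points, sections of `O_X` are families of sections of the `O_{Z i}` -/
theorem existsUnique_section (W : X.Opens) (hW : ∀ x ∈ W, ¬ Bad Z x)
    (t : ∀ i, Γ((Z i).subscheme, (Z i).subschemeι ⁻¹ᵁ W)) :
    ∃! r : Γ(X, W), ∀ i, (Z i).subschemeι.app W r = t i := by
  have hcover : W ≤ ⨆ i, W ⊓ Vi Z i := by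
    intro x hx
    obtain ⟨i, hi⟩ := exists_mem_Vi_of_not_bad Z hcov (hW x hx)
    exact Opens.mem_iSup.2 ⟨i, hx, hi⟩
  -- uniqueness
  have huniq : ∀ r r' : Γ(X, W), (∀ i, (Z i).subschemeι.app W r = (Z i).subschemeι.app W r') →
      r = r' := by
    intro r r' h
    refine X.sheaf.eq_of_locally_eq' (fun i => W ⊓ Vi Z i) W (fun i => homOfLE inf_le_left) hcover
      r r' (fun i => ?_)
    apply (bijective_app Z hcov i (W ⊓ Vi Z i) inf_le_right).1
    change (Z i).subschemeι.app (W ⊓ Vi Z i) (resf inf_le_left r) =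
      (Z i).subschemeι.app (W ⊓ Vi Z i) (resf inf_le_left r')
    rw [app_resf, app_resf, h i]
  -- existence
  have hex : ∀ i, ∃ ri : Γ(X, W ⊓ Vi Z i), (Z i).subschemeι.app (W ⊓ Vi Z i) ri =
      resf ((Z i).subschemeι.preimage_mono inf_le_left) (t i) :=
    fun i => (bijective_app Z hcov i (W ⊓ Vi Z i) inf_le_right).2 _
  choose ri hri using hex
  have hcompat : TopCat.Presheaf.IsCompatible X.sheaf.1 (fun i => W ⊓ Vi Z i) ri := by
    intro i j
    by_cases hij : i = j
    · subst hij; rfl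
    · refine X.sheaf.eq_of_locally_eq' (fun e : PEmpty.{1} => e.elim) _ (fun e => e.elim) ?_ _ _
        (fun e => e.elim)
      intro x hx
      exact absurd (eq_of_mem_Vi Z hcov hx.1.2 hx.2.2) hij
  obtain ⟨r, hr, -⟩ := X.sheaf.existsUnique_gluing' (fun i => W ⊓ Vi Z i) W
    (fun i => homOfLE inf_le_left) hcover ri hcompat
  refine ⟨r, fun i => ?_, fun r' hr' => huniq r' r (fun i => ?_)⟩
  · apply resf_injective_of_le ((Z i).subschemeι.preimage_mono inf_le_left) (preimage_le Z i W hW)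
    rw [← app_resf, ← hri i]
    congr 1
    exact hr i
  · rw [hr' i]
    apply resf_injective_of_le ((Z i).subschemeι.preimage_mono inf_le_left) (preimage_le Z i W hW)
    rw [← app_resf, ← hri i]
    congr 1
    exact (hr i).symm

end Iso

section Descent

variable {X Y : Scheme.{u}} (f : X ⟶ Y)

/-- the pullback of a module with frames `ε i` and transition functions `c i j` is isomorphic to a module on the source
with frames `e i` on the preimages and transition functions `f^♯ (c i j)`. -/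
theorem nonempty_pullback_iso_of_coc (L : X.Modules) {ι : Type*} (W : ι → Y.Opens)
    (hcov : ∀ y : Y, ∃ i, y ∈ W i) (c : ∀ i j, Γ(Y, W i ⊓ W j))
    (N : Y.Modules) (hN : PicF.IsInvertible N) (ε : ∀ i, Γ(N, W i)) (hgen : ∀ i, IsGen N (W i) (ε i))
    (htr : ∀ i j, res N (inf_le_right : W i ⊓ W j ≤ W j) (ε j) =
      c i j • res N (inf_le_left : W i ⊓ W j ≤ W i) (ε i))
    (e : ∀ i, Γ(L, f ⁻¹ᵁ W i)) (he : ∀ i, IsGen L (f ⁻¹ᵁ W i) (e i))
    (hLrel : ∀ i j, res L (inf_le_right : f ⁻¹ᵁ W i ⊓ f ⁻¹ᵁ W j ≤ f ⁻¹ᵁ W j) (e j) =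
      f.appLE (W i ⊓ W j) (f ⁻¹ᵁ W i ⊓ f ⁻¹ᵁ W j) (fun _ hx => hx) (c i j) •
        res L (inf_le_left : f ⁻¹ᵁ W i ⊓ f ⁻¹ᵁ W j ≤ f ⁻¹ᵁ W i) (e i)) :
    Nonempty ((Scheme.Modules.pullback f).obj N ≅ L) := by
  haveI : N.IsQuasicoherent := isQuasicoherent_of_isInvertible N hN
  let a : ∀ i, Γ((Scheme.Modules.pullback f).obj N, f ⁻¹ᵁ W i) :=
    fun i => unitSec f N (le_refl (f ⁻¹ᵁ W i)) (ε i)
  have ha : ∀ i, IsGen ((Scheme.Modules.pullback f).obj N) (f ⁻¹ᵁ W i) (a i) :=
    fun i => isGen_pullback f N (W i) (ε i) (hgen i)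
  have hle : ∀ i j, f ⁻¹ᵁ W i ⊓ f ⁻¹ᵁ W j ≤ f ⁻¹ᵁ (W i ⊓ W j) := fun i j x hx => hx
  obtain ⟨Ψ, hΨ⟩ := exists_hom_of_frames ((Scheme.Modules.pullback f).obj N) L
    (fun i => f ⁻¹ᵁ W i) (fun x => hcov (f x)) a e ha (fun i j g hg => by
      have hP : res ((Scheme.Modules.pullback f).obj N)
          (inf_le_right : f ⁻¹ᵁ W i ⊓ f ⁻¹ᵁ W j ≤ f ⁻¹ᵁ W j) (a j) =
          f.appLE (W i ⊓ W j) (f ⁻¹ᵁ W i ⊓ f ⁻¹ᵁ W j) (hle i j) (c i j) •
            res ((Scheme.Modules.pullback f).obj N)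
              (inf_le_left : f ⁻¹ᵁ W i ⊓ f ⁻¹ᵁ W j ≤ f ⁻¹ᵁ W i) (a i) := by
        have h1 := congrArg (unitSec f N (hle i j)) (htr i j)
        rw [unitSec_smul, unitSec_res, unitSec_res] at h1
        exact h1
      have hgc : g * f.appLE (W i ⊓ W j) (f ⁻¹ᵁ W i ⊓ f ⁻¹ᵁ W j) (hle i j) (c i j) = 1 := by
        apply ((ha i) _ inf_le_left).1
        change (g * _) • res ((Scheme.Modules.pullback f).obj N) inf_le_left (a i) =
          (1 : Γ(X, f ⁻¹ᵁ W i ⊓ f ⁻¹ᵁ W j)) • res ((Scheme.Modules.pullback f).obj N) inf_le_left (a i)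
        rw [one_smul, mul_smul, ← hP, ← hg]
      rw [hLrel i j, ← mul_smul, hgc, one_smul])
  have : IsIso Ψ := isIso_of_frames Ψ (fun i => f ⁻¹ᵁ W i) (fun x => hcov (f x)) a e ha he hΨ
  exact ⟨asIso Ψ⟩

end Descent

section Main

variable {X : Scheme.{u}} [IsReduced X] {n : ℕ} (Z : Fin n → X.IdealSheafData)

/-- **Gluing invertible modules on a union of closed subschemes with discrete pairwise intersections.** -/
theorem exists_glue_of_cover (hcov : ⋃ i, ((Z i).support : Set X) = Set.univ)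
    (hdisc : ∀ i j, i ≠ j →
      DiscreteTopology ↥(((Z i).support : Set X) ∩ ((Z j).support : Set X)))
    (L : ∀ i, (Z i).subscheme.Modules) (hL : ∀ i, PicF.IsInvertible (L i)) :
    ∃ M : X.Modules, PicF.IsInvertible M ∧
      ∀ i, Nonempty ((Scheme.Modules.pullback (Z i).subschemeι).obj M ≅ L i) := by
  classical
  -- C1 : local frames
  have hloc : ∀ p : X, ∃ W : X.Opens, p ∈ W ∧ (∀ z ∈ W, Bad Z z → z = p) ∧
      ∀ i, ∃ s : Γ(L i, (Z i).subschemeι ⁻¹ᵁ W), IsGen (L i) ((Z i).subschemeι ⁻¹ᵁ W) s := by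
    intro p
    obtain ⟨O, hpO, hO⟩ := exists_open_bad Z hdisc p
    have h := fun i => exists_nhd_frame_preimage (Z i).subschemeι (L i) (hL i) p
    choose W₁ e₁ hpW₁ he₁ using h
    let W : X.Opens :=
      O ⊓ ⟨⋂ i, (W₁ i : Set X), isOpen_iInter_of_finite (fun i => (W₁ i).isOpen)⟩
    have hWle : ∀ i, W ≤ W₁ i := fun i x hx => Set.mem_iInter.mp hx.2 i
    refine ⟨W, ⟨hpO, Set.mem_iInter.mpr hpW₁⟩, fun z hz => hO z hz.1, fun i => ?_⟩
    exact ⟨res (L i) ((Z i).subschemeι.preimage_mono (hWle i)) (e₁ i), (he₁ i).mono _⟩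
  choose W hpW hWbad hs using hloc
  choose s hs using hs
  have hcovW : ∀ x : X, ∃ p, x ∈ W p := fun x => ⟨x, hpW x⟩
  have hnobad : ∀ p q, p ≠ q → ∀ x ∈ W p ⊓ W q, ¬ Bad Z x := by
    intro p q hpq x hx hbad
    exact hpq ((hWbad p x hx.1 hbad).symm.trans (hWbad q x hx.2 hbad))
  -- C2 : the ratios of the frames
  let g : ∀ p q i, Γ((Z i).subscheme, (Z i).subschemeι ⁻¹ᵁ (W p ⊓ W q)) := fun p q i =>
    coef (hs p i) ((Z i).subschemeι.preimage_mono (inf_le_left : W p ⊓ W q ≤ W p))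
      (res (L i) ((Z i).subschemeι.preimage_mono (inf_le_right : W p ⊓ W q ≤ W q)) (s q i))
  have hg : ∀ p q i,
      g p q i • res (L i) ((Z i).subschemeι.preimage_mono (inf_le_left : W p ⊓ W q ≤ W p)) (s p i) =
        res (L i) ((Z i).subschemeι.preimage_mono (inf_le_right : W p ⊓ W q ≤ W q)) (s q i) :=
    fun p q i => coef_spec _ _ _
  let c : ∀ p q, Γ(X, W p ⊓ W q) := fun p q =>
    if h : p = q then 1 else
      (existsUnique_section Z hcov (W p ⊓ W q) (hnobad p q h) (g p q)).exists.choose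
  have hc_eq : ∀ p, c p p = 1 := fun p => dif_pos rfl
  have hc_ne : ∀ p q (_ : p ≠ q) i, (Z i).subschemeι.app (W p ⊓ W q) (c p q) = g p q i := by
    intro p q h i
    have : c p q =
        (existsUnique_section Z hcov (W p ⊓ W q) (hnobad p q h) (g p q)).exists.choose := dif_neg h
    rw [this]
    exact (existsUnique_section Z hcov (W p ⊓ W q) (hnobad p q h) (g p q)).exists.choose_spec i
  -- the uniform transition property
  have hP : ∀ p q i (T : X.Opens) (hT : T ≤ W p ⊓ W q),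
      (Z i).subschemeι.app T (resf hT (c p q)) •
        res (L i) ((Z i).subschemeι.preimage_mono (hT.trans inf_le_left)) (s p i) =
      res (L i) ((Z i).subschemeι.preimage_mono (hT.trans inf_le_right)) (s q i) := by
    intro p q i T hT
    by_cases h : p = q
    · subst h
      rw [hc_eq, resf_one, map_one, one_smul]
    · have h1 := congrArg (res (L i) ((Z i).subschemeι.preimage_mono hT)) (hg p q i)
      rw [res_smul, res_res, res_res, ← hc_ne p q h i, ← app_resf] at h1
      exact h1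
  have hext : ∀ (T : X.Opens) (_ : ∀ x ∈ T, ¬ Bad Z x) (r r' : Γ(X, T)),
      (∀ i, (Z i).subschemeι.app T r = (Z i).subschemeι.app T r') → r = r' := by
    intro T hT r r' h
    exact (existsUnique_section Z hcov T hT (fun i => (Z i).subschemeι.app T r')).unique h
      (fun i => rfl)
  -- C3 : the cocycle
  have hcoc : IsCoc W c := by
    refine isCoc_of_res W c (fun p q => ?_) (fun p q r => ?_)
    · by_cases h : p = q
      · subst h; rw [hc_eq]; exact isUnit_one
      · have hle : W p ⊓ W q ≤ W q ⊓ W p := fun x hx => ⟨hx.2, hx.1⟩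
        have h1 : resf hle (c q p) * c p q = 1 := by
          apply hext (W p ⊓ W q) (hnobad p q h)
          intro i
          refine ((hs p i) _ ((Z i).subschemeι.preimage_mono
            (inf_le_left : W p ⊓ W q ≤ W p))).1 ?_
          beta_reduce
          have e1 := hP p q i (W p ⊓ W q) le_rfl
          rw [resf_self'] at e1
          have e2 := hP q p i (W p ⊓ W q) hle
          rw [map_mul, map_one, one_smul, mul_smul, e1]
          exact e2
        exact IsUnit.of_mul_eq_one_right _ h1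
    · by_cases hall : p = q ∧ q = r
      · obtain ⟨rfl, rfl⟩ := hall
        rw [hc_eq, resf_one, mul_one]
      · have hT3 : ∀ x ∈ W p ⊓ W q ⊓ W r, ¬ Bad Z x := by
          intro x hx hbad
          apply hall
          have ep := hWbad p x hx.1.1 hbad
          have eq := hWbad q x hx.1.2 hbad
          have er := hWbad r x hx.2 hbad
          exact ⟨ep.symm.trans eq, eq.symm.trans er⟩
        apply hext _ hT3
        intro i
        refine ((hs p i) _ ((Z i).subschemeι.preimage_mono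
          ((inf_le_left : W p ⊓ W q ⊓ W r ≤ W p ⊓ W q).trans inf_le_left))).1 ?_
        beta_reduce
        rw [map_mul, mul_comm, mul_smul]
        have e1 := hP p q i (W p ⊓ W q ⊓ W r) inf_le_left
        have e2 := hP q r i (W p ⊓ W q ⊓ W r)
          (le_inf (inf_le_left.trans inf_le_right) inf_le_right)
        have e3 := hP p r i (W p ⊓ W q ⊓ W r)
          (le_inf (inf_le_left.trans inf_le_left) inf_le_right)
        rw [e1, e2]
        exact e3
  -- C4 : glue
  obtain ⟨M, ε, hM, hgen, htr⟩ := exists_glue W hcovW c hcoc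
  refine ⟨M, hM, fun i => ?_⟩
  -- C5 : compare
  refine nonempty_pullback_iso_of_coc (Z i).subschemeι (L i) W hcovW c M hM ε hgen htr
    (fun p => s p i) (fun p => hs p i) (fun p q => ?_)
  have h1 := hP p q i (W p ⊓ W q) le_rfl
  rw [resf_self'] at h1
  have hle : (Z i).subschemeι ⁻¹ᵁ W p ⊓ (Z i).subschemeι ⁻¹ᵁ W q ≤
      (Z i).subschemeι ⁻¹ᵁ (W p ⊓ W q) := fun x hx => hx
  have h2 := congrArg (res (L i) hle) h1
  rw [res_smul, res_res, res_res] at h2
  exact h2.symm

end Main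

end Groth.Agent.Lib.R2H4UnionGlue
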