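import Mathlib
import Groth.Prelude.Def_W4stkdualitygroupp2Univ

namespace Groth.Agent.Lib.R2H4.UnivAlgEt

open Synt

/-- the naive presubmersive presentation of the universal algebra -/
noncomputable def pres (n d : ℕ) :
    Algebra.PreSubmersivePresentation (UnivBase n d) (UnivAlg n d) (Fin n) (Fin n) :=
  (Algebra.PreSubmersivePresentation.naive (R := UnivBase n d) (v := univPoly n d) id
    Function.injective_id :
    Algebra.PreSubmersivePresentation (UnivBase n d)
      (MvPolynomial (Fin n) (UnivBase n d) ⧸ Ideal.span (Set.range (univPoly n d))) (Fin n) (Fin n))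

noncomputable def Δ (n d : ℕ) : UnivAlg n d := (pres n d).jacobian

instance etale_away (n d : ℕ) : Algebra.Etale (UnivBase n d) (Localization.Away (Δ n d)) := by
  have hΔ : IsUnit (algebraMap (UnivAlg n d) (Localization.Away (Δ n d)) (Δ n d)) :=
    IsLocalization.Away.algebraMap_isUnit _
  let P : Algebra.SubmersivePresentation (UnivBase n d) (Localization.Away (Δ n d)) _ _ :=
    { toPreSubmersivePresentation :=
        .comp (.localizationAway (Localization.Away (Δ n d)) (Δ n d)) (pres n d),
      jacobian_isUnit := by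
        rw [Algebra.PreSubmersivePresentation.comp_jacobian_eq_jacobian_smul_jacobian,
          Algebra.PreSubmersivePresentation.localizationAway_jacobian, Algebra.smul_def]
        exact hΔ.mul hΔ }
  have : Algebra.IsStandardSmoothOfRelativeDimension 0 (UnivBase n d)
      (Localization.Away (Δ n d)) :=
    ⟨_, _, _, inferInstance, P, by
      simp only [Algebra.PreSubmersivePresentation.dimension_comp_eq_dimension_add_dimension, P]
      simp [Algebra.Presentation.dimension]⟩
  infer_instance

section


variable (n d : ℕ)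

/-- the point of the base: `a_{i,E} = 1` if `E = e_i`, else `0`. -/
noncomputable def a₀ : Fin n × UnivIdx n d → ℤ :=
  fun p ↦ if p.2.exponent = Finsupp.single p.1 1 then 1 else 0

noncomputable def evA : UnivBase n d →+* ℤ := MvPolynomial.eval (a₀ n d)

noncomputable def Θ : MvPolynomial (Fin n) (UnivBase n d) →+* ℤ :=
  MvPolynomial.eval₂Hom (evA n d) (fun _ ↦ 0)

lemma Θ_monomial (s : Fin n →₀ ℕ) (c : UnivBase n d) :
    Θ n d (MvPolynomial.monomial s c) = if s = 0 then evA n d c else 0 := by
  simp only [Θ, MvPolynomial.coe_eval₂Hom, MvPolynomial.eval₂_monomial]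
  split_ifs with h
  · subst h; simp
  · obtain ⟨i, hi⟩ : ∃ i, s i ≠ 0 := by
      by_contra hcon
      push Not at hcon
      exact h (Finsupp.ext hcon)
    rw [Finsupp.prod, Finset.prod_eq_zero (i := i) (Finsupp.mem_support_iff.mpr hi)
      (zero_pow hi), mul_zero]

lemma Θ_univPoly (i : Fin n) : Θ n d (univPoly n d i) = 0 := by
  rw [univPoly, map_sum]
  refine Finset.sum_eq_zero fun E _ ↦ ?_
  rw [Θ_monomial]
  split_ifs with h
  · simp only [evA, MvPolynomial.eval_X, a₀]
    rw [if_neg]
    rw [h]
    intro h0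
    have := congrArg (fun f ↦ f i) h0
    simp at this
  · rfl

lemma Θ_mem (x : MvPolynomial (Fin n) (UnivBase n d)) (hx : x ∈ univIdeal n d) : Θ n d x = 0 := by
  have : univIdeal n d ≤ RingHom.ker (Θ n d) := by
    rw [univIdeal, Ideal.span_le]
    rintro _ ⟨i, rfl⟩
    exact Θ_univPoly n d i
  exact this hx

/-- the evaluation at the point -/
noncomputable def θ : UnivAlg n d →+* ℤ :=
  Ideal.Quotient.lift (univIdeal n d) (Θ n d) (Θ_mem n d)



lemma θ_algebraMap (p : (pres n d).Ring) :
    θ n d (algebraMap (pres n d).Ring (UnivAlg n d) p) = Θ n d p := by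
  have h : (θ n d).comp (algebraMap (pres n d).Ring (UnivAlg n d)) = Θ n d := by
    apply MvPolynomial.ringHom_ext
    · intro a
      have e1 : algebraMap (pres n d).Ring (UnivAlg n d) (MvPolynomial.C a) =
          MvPolynomial.aeval (pres n d).val (MvPolynomial.C a) :=
        Algebra.Generators.algebraMap_apply _ _
      show θ n d (algebraMap (pres n d).Ring (UnivAlg n d) (MvPolynomial.C a)) = _
      rw [e1, MvPolynomial.aeval_C]
      rfl
    · intro i
      have e1 : algebraMap (pres n d).Ring (UnivAlg n d) (MvPolynomial.X i) =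
          MvPolynomial.aeval (pres n d).val (MvPolynomial.X i) :=
        Algebra.Generators.algebraMap_apply _ _
      show θ n d (algebraMap (pres n d).Ring (UnivAlg n d) (MvPolynomial.X i)) = _
      rw [e1, MvPolynomial.aeval_X]
      rfl
  exact congrFun (congrArg DFunLike.coe h) p

/-- the index `e_j` -/
def eIdx (hd : 1 ≤ d) (j : Fin n) : UnivIdx n d :=
  ⟨fun k ↦ if k = j then ⟨1, by omega⟩ else ⟨0, by omega⟩, by
    have : ∀ k : Fin n, ((if k = j then (⟨1, by omega⟩ : Fin (d + 1)) else ⟨0, by omega⟩ : Fin (d + 1)) : ℕ) =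
        if k = j then 1 else 0 := by
      intro k; split_ifs <;> rfl
    simp only [this, Finset.sum_ite_eq', Finset.mem_univ, if_true]
    exact hd⟩

lemma eIdx_exponent (hd : 1 ≤ d) (j : Fin n) : (eIdx n d hd j).exponent = Finsupp.single j 1 := by
  ext k
  simp only [UnivIdx.exponent, eIdx, Finsupp.equivFunOnFinite_symm_apply_apply, Finsupp.single_apply]
  split_ifs with h1 h2 h2
  · rfl
  · exact absurd h1.symm h2
  · exact absurd h2.symm h1
  · rfl

lemma exponent_injective : Function.Injective (UnivIdx.exponent (n := n) (d := d)) := by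
  intro E F h
  apply Subtype.ext
  funext k
  apply Fin.ext
  have := congrArg (fun f ↦ f k) h
  simpa [UnivIdx.exponent] using this

lemma Θ_pderiv (hd : 1 ≤ d) (i j : Fin n) :
    Θ n d (MvPolynomial.pderiv i (univPoly n d j)) = if i = j then 1 else 0 := by
  rw [univPoly, map_sum, map_sum]
  rw [Finset.sum_eq_single (eIdx n d hd j)]
  · rw [MvPolynomial.pderiv_monomial, Θ_monomial, eIdx_exponent]
    by_cases hij : i = j
    · subst hij
      simp [evA, a₀, eIdx_exponent]
    · rw [if_neg hij]
      rw [if_neg]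
      intro h0
      have := congrArg (fun f ↦ f j) h0
      simp [hij] at this
  · intro E _ hE
    rw [MvPolynomial.pderiv_monomial, Θ_monomial]
    split_ifs with h
    · simp only [map_mul, evA, MvPolynomial.eval_X, a₀]
      rw [if_neg, zero_mul]
      intro hexp
      apply hE
      apply exponent_injective
      rw [hexp, eIdx_exponent]
    · rfl
  · intro h; exact absurd (Finset.mem_univ _) h

lemma θ_Δ (hd : 1 ≤ d) : θ n d (Δ n d) = 1 := by
  rw [Δ, Algebra.PreSubmersivePresentation.jacobian_eq_jacobiMatrix_det]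
  refine (θ_algebraMap n d _).trans ?_
  rw [RingHom.map_det]
  have : (Θ n d).mapMatrix (pres n d).jacobiMatrix = 1 := by
    ext i j
    rw [RingHom.mapMatrix_apply, Matrix.map_apply]
    have h1 : (pres n d).jacobiMatrix i j = MvPolynomial.pderiv i (univPoly n d j) :=
      Algebra.PreSubmersivePresentation.jacobiMatrix_naive _ _ _ _ i j
    rw [h1, Θ_pderiv n d hd, Matrix.one_apply]
  rw [this, Matrix.det_one]

end


theorem main (n d : ℕ) (hd : 1 ≤ d) : ∃ q : PrimeSpectrum (Synt.UnivAlg n d),
    Algebra.QuasiFiniteAt (Synt.UnivBase n d) q.asIdeal ∧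
      Algebra.IsEtaleAt (Synt.UnivBase n d) q.asIdeal := by
  have hker : (RingHom.ker (θ n d)).IsPrime := RingHom.ker_isPrime _
  let q : PrimeSpectrum (UnivAlg n d) := ⟨RingHom.ker (θ n d), hker⟩
  have hΔq : Δ n d ∉ q.asIdeal := by
    show ¬ (Δ n d ∈ RingHom.ker (θ n d))
    rw [RingHom.mem_ker, θ_Δ n d hd]
    exact one_ne_zero
  have hsub : (PrimeSpectrum.basicOpen (Δ n d) : Set _) ⊆
      Algebra.etaleLocus (UnivBase n d) (UnivAlg n d) :=
    Algebra.basicOpen_subset_etaleLocus_iff.mpr inferInstance
  have het : Algebra.IsEtaleAt (UnivBase n d) q.asIdeal := hsub hΔq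
  refine ⟨q, ?_, het⟩
  have h1 : Algebra.FormallyUnramified (UnivBase n d) (Localization.AtPrime q.asIdeal) :=
    inferInstance
  have h0 : Algebra.FiniteType (UnivBase n d) (UnivAlg n d) :=
    Algebra.FiniteType.of_surjective (UnivAlg.mk n d) Ideal.Quotient.mk_surjective
  have h2 : Algebra.EssFiniteType (UnivBase n d) (Localization.AtPrime q.asIdeal) :=
    Algebra.EssFiniteType.comp _ (UnivAlg n d) _
  exact inferInstance

end Groth.Agent.Lib.R2H4.UnivAlgEt
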