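import Mathlib
import Groth.Prelude.Def_W4stkdualitygroupp2Univ

namespace Groth.Agent.Lib.R2H4.UnivAlgPoly

open Synt MvPolynomial

variable (n d : ℕ)

/-- the zero index -/
def E₀ : UnivIdx n d := ⟨fun _ ↦ 0, by simp⟩

lemma E₀_exponent : (E₀ n d).exponent = 0 := by
  ext k
  simp [UnivIdx.exponent, E₀]

/-- the variables of the polynomial ring isomorphic to the universal algebra -/
abbrev τ : Type := {p : Fin n × UnivIdx n d // p.2 ≠ E₀ n d} ⊕ Fin n

abbrev R' : Type := MvPolynomial (τ n d) ℤ

noncomputable def mono (s : Fin n →₀ ℕ) : R' n d := s.prod fun j e ↦ (X (Sum.inr j) : R' n d) ^ e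

open Classical in
noncomputable def h (i : Fin n) : R' n d :=
  ∑ E : UnivIdx n d, if hE : E = E₀ n d then 0 else X (Sum.inl ⟨(i, E), hE⟩) * mono n d E.exponent

open Classical in
noncomputable def φA : UnivBase n d →+* R' n d :=
  eval₂Hom (Int.castRingHom _)
    (fun p ↦ if hE : p.2 = E₀ n d then - h n d p.1 else X (Sum.inl ⟨p, hE⟩))

noncomputable def F : MvPolynomial (Fin n) (UnivBase n d) →+* R' n d :=
  eval₂Hom (φA n d) (fun j ↦ X (Sum.inr j))

lemma F_monomial (s : Fin n →₀ ℕ) (c : UnivBase n d) :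
    F n d (monomial s c) = φA n d c * mono n d s := by
  simp only [F, coe_eval₂Hom, eval₂_monomial, mono]

open Classical in
lemma φA_X (p : Fin n × UnivIdx n d) :
    φA n d (X p) = if hE : p.2 = E₀ n d then - h n d p.1 else X (Sum.inl ⟨p, hE⟩) := by
  simp only [φA, coe_eval₂Hom, eval₂_X]

lemma mono_zero : mono n d 0 = 1 := by simp [mono]

open Classical in
lemma F_univPoly (i : Fin n) : F n d (univPoly n d i) = 0 := by
  rw [univPoly, map_sum]
  have key : ∀ E : UnivIdx n d, F n d (monomial E.exponent (X (i, E))) =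
      (if E = E₀ n d then - h n d i else 0) +
        (if hE : E = E₀ n d then 0 else X (Sum.inl ⟨(i, E), hE⟩) * mono n d E.exponent) := by
    intro E
    rw [F_monomial, φA_X]
    by_cases hE : E = E₀ n d
    · subst hE
      simp [E₀_exponent, mono_zero]
    · simp [hE]
  simp only [key, Finset.sum_add_distrib, Finset.sum_ite_eq', Finset.mem_univ, if_true]
  rw [h]
  exact neg_add_cancel _

lemma F_mem (x : MvPolynomial (Fin n) (UnivBase n d)) (hx : x ∈ univIdeal n d) : F n d x = 0 := by
  have : univIdeal n d ≤ RingHom.ker (F n d) := by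
    rw [univIdeal, Ideal.span_le]
    rintro _ ⟨i, rfl⟩
    exact F_univPoly n d i
  exact this hx

noncomputable def Fbar : UnivAlg n d →+* R' n d :=
  Ideal.Quotient.lift (univIdeal n d) (F n d) (F_mem n d)

noncomputable def mkB : MvPolynomial (Fin n) (UnivBase n d) →+* UnivAlg n d :=
  Ideal.Quotient.mk (univIdeal n d)

lemma Fbar_mkB (x : MvPolynomial (Fin n) (UnivBase n d)) : Fbar n d (mkB n d x) = F n d x := rfl

lemma mkB_surjective : Function.Surjective (mkB n d) := Ideal.Quotient.mk_surjective

lemma mkB_univPoly (i : Fin n) : mkB n d (univPoly n d i) = 0 :=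
  Ideal.Quotient.eq_zero_iff_mem.mpr (Ideal.subset_span ⟨i, rfl⟩)

noncomputable def G : R' n d →+* UnivAlg n d :=
  eval₂Hom (Int.castRingHom _)
    (fun t ↦ Sum.elim (fun p ↦ mkB n d (C (X p.1))) (fun j ↦ mkB n d (X j)) t)

lemma G_X_inl (p : {p : Fin n × UnivIdx n d // p.2 ≠ E₀ n d}) :
    G n d (X (Sum.inl p)) = mkB n d (C (X p.1)) := by
  simp only [G, coe_eval₂Hom, eval₂_X, Sum.elim_inl]

lemma G_X_inr (j : Fin n) : G n d (X (Sum.inr j)) = mkB n d (X j) := by
  simp only [G, coe_eval₂Hom, eval₂_X, Sum.elim_inr]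

lemma G_mono (s : Fin n →₀ ℕ) : G n d (mono n d s) = mkB n d (monomial s 1) := by
  rw [mono, monomial_eq, map_one, one_mul, Finsupp.prod, Finsupp.prod, map_prod, map_prod]
  refine Finset.prod_congr rfl fun j _ ↦ ?_
  rw [map_pow, map_pow, G_X_inr]

open Classical in
lemma G_h (i : Fin n) : G n d (h n d i) = - mkB n d (C (X (i, E₀ n d))) := by
  have key : ∀ E : UnivIdx n d,
      G n d (if hE : E = E₀ n d then 0 else X (Sum.inl ⟨(i, E), hE⟩) * mono n d E.exponent) =
        mkB n d (monomial E.exponent (X (i, E))) -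
          (if E = E₀ n d then mkB n d (C (X (i, E₀ n d))) else 0) := by
    intro E
    by_cases hE : E = E₀ n d
    · subst hE
      simp [E₀_exponent]
    · rw [dif_neg hE, if_neg hE, sub_zero, map_mul, G_X_inl, G_mono, ← map_mul]
      congr 1
      rw [C_mul_monomial, mul_one]
  rw [h, map_sum, Finset.sum_congr rfl (fun E _ ↦ key E)]
  refine (Finset.sum_sub_distrib (fun E : UnivIdx n d ↦ mkB n d (monomial E.exponent (X (i, E))))
    (fun E ↦ if E = E₀ n d then mkB n d (C (X (i, E₀ n d))) else 0)).trans ?_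
  rw [Finset.sum_ite_eq' Finset.univ (E₀ n d), if_pos (Finset.mem_univ _), ← map_sum]
  have : ∑ E : UnivIdx n d, monomial E.exponent (X (i, E)) = univPoly n d i := rfl
  rw [this, mkB_univPoly, zero_sub]

lemma Fbar_G (r : R' n d) : Fbar n d (G n d r) = r := by
  have hh : (Fbar n d).comp (G n d) = RingHom.id _ := by
    apply MvPolynomial.ringHom_ext
    · intro z
      simp
    · intro t
      rcases t with p | j
      · show Fbar n d (G n d (X (Sum.inl p))) = X (Sum.inl p)
        rw [G_X_inl, Fbar_mkB]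
        show F n d (monomial 0 (X p.1)) = _
        rw [F_monomial, φA_X, dif_neg p.2, mono_zero, mul_one]
      · show Fbar n d (G n d (X (Sum.inr j))) = X (Sum.inr j)
        rw [G_X_inr, Fbar_mkB]
        simp only [F, coe_eval₂Hom, eval₂_X]
  exact congrFun (congrArg DFunLike.coe hh) r

open Classical in
lemma G_φA (a : UnivBase n d) : G n d (φA n d a) = mkB n d (C a) := by
  have hh : (G n d).comp (φA n d) = (mkB n d).comp C := by
    apply MvPolynomial.ringHom_ext
    · intro z
      simp
    · intro p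
      show G n d (φA n d (X p)) = mkB n d (C (X p))
      rw [φA_X]
      by_cases hE : p.2 = E₀ n d
      · rw [dif_pos hE, map_neg, G_h, neg_neg]
        obtain ⟨i, E⟩ := p
        simp only at hE
        subst hE
        rfl
      · rw [dif_neg hE, G_X_inl]
  exact congrFun (congrArg DFunLike.coe hh) a

lemma G_F (y : MvPolynomial (Fin n) (UnivBase n d)) : G n d (F n d y) = mkB n d y := by
  have hh : (G n d).comp (F n d) = mkB n d := by
    apply MvPolynomial.ringHom_ext
    · intro a
      show G n d (F n d (C a)) = mkB n d (C a)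
      have : F n d (C a) = φA n d a := by simp only [F, coe_eval₂Hom, eval₂_C]
      rw [this, G_φA]
    · intro j
      show G n d (F n d (X j)) = mkB n d (X j)
      have : F n d (X j) = X (Sum.inr j) := by simp only [F, coe_eval₂Hom, eval₂_X]
      rw [this, G_X_inr]
  exact congrFun (congrArg DFunLike.coe hh) y

lemma G_Fbar (b : UnivAlg n d) : G n d (Fbar n d b) = b := by
  obtain ⟨y, rfl⟩ := mkB_surjective n d b
  rw [Fbar_mkB, G_F]

/-- the universal algebra is a polynomial ring over `ℤ`. -/
noncomputable def equiv : UnivAlg n d ≃+* R' n d :=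
  RingEquiv.ofRingHom (Fbar n d) (G n d) (RingHom.ext (Fbar_G n d)) (RingHom.ext (G_Fbar n d))

theorem main : IsDomain (Synt.UnivAlg n d) ∧
    ∀ q : PrimeSpectrum (Synt.UnivAlg n d), IsRegularLocalRing (Localization.AtPrime q.asIdeal) := by
  have hfin : Finite (τ n d) := by
    have : Finite (UnivIdx n d) := inferInstance
    infer_instance
  have hreg : IsRegularRing (UnivAlg n d) := IsRegularRing.of_ringEquiv (equiv n d).symm
  refine ⟨(equiv n d).toMulEquiv.isDomain _, fun q ↦ inferInstance⟩

end Groth.Agent.Lib.R2H4.UnivAlgPoly
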