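import Mathlib
import Groth.Prelude.Def_HTop
import Groth.Prelude.Def_SGA1
import Groth.Agent.Lib.R2H4ValLift3
import Groth.Agent.Lib.R2H4HCoverSigma
import Groth.Agent.Lib.Helper10QCClosed

/-!
# V coverings are universally submersive (helper4, round 2)

* `isVCover_of_hom`, `exists_eq_of_hasValLift` (V covers are jointly surjective).
* `isQuotientMap_of_isVCover_singleton`, `univSubmersive_of_isVCover_singleton`,
  `univSubmersive_sigmaDesc_of_isVCover`.
-/

set_option autoImplicit false
universe w w' u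
open CategoryTheory CategoryTheory.Limits AlgebraicGeometry Opposite HTop

namespace Groth.Agent.Lib.R2H4.VSubm

open Groth.Agent.Lib.R2H4.ValLift Groth.Agent.Lib.Helper10 Groth.Agent.Lib.R2H4.ValLift3
  Groth.Agent.Lib.R2H4.HCoverSigma

/-- A family refined by a V covering is a V covering. -/
theorem isVCover_of_hom {T : Scheme.{u}} {E : PreZeroHypercover.{w} T} {E' : PreZeroHypercover.{w'} T}
    (hE : IsVCover E) (φ : E.Hom E') : IsVCover E' := by
  intro U
  obtain ⟨F, hF, hFE⟩ := hE U
  exact ⟨F, hF, hFE.of_hom φ⟩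

/-- A family with the valuative lifting property is jointly surjective. -/
theorem exists_eq_of_hasValLift {T : Scheme.{u}} (E : PreZeroHypercover.{w} T) (hE : HasValLift E)
    (t : T) : ∃ (j : E.I₀) (x : E.X j), E.f j x = t := by
  obtain ⟨W, hWd, hWv, φ, hφ, j, g', hg'⟩ := hE (T.residueField t) (T.fromSpecResidueField t)
  let c : Spec W := IsLocalRing.closedPoint W
  refine ⟨j, g' c, ?_⟩
  rw [← Scheme.Hom.comp_apply, hg', Scheme.Hom.comp_apply]
  exact T.fromSpecResidueField_apply t _

/-- A morphism which on its own is a V covering is a topological quotient map. -/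
theorem isQuotientMap_of_isVCover_singleton {P Y : Scheme.{u}} (r : P ⟶ Y)
    (hr : IsVCover (PreZeroHypercover.singleton.{w} r)) : Topology.IsQuotientMap r := by
  have hlift : HasValLift (PreZeroHypercover.singleton.{w} r) := hasValLift_of_isVCover _ hr
  have hspec := (hasValLift_singleton_iff_specializes r).1 hlift
  have hspec' : ∀ y' y : Y, y' ⤳ y → ∃ p' p : P, p' ⤳ p ∧ r p' = y' ∧ r p = y := by
    intro y' y hyy
    obtain ⟨w', w, hw'w, hw', hw⟩ := hspec Y (𝟙 Y) y' y hyy
    have hc : ∀ z : ↑(pullback (𝟙 Y) r), r (pullback.snd (𝟙 Y) r z) = pullback.fst (𝟙 Y) r z := by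
      intro z
      have := congrArg (fun m : pullback (𝟙 Y) r ⟶ Y => m z) (pullback.condition (f := 𝟙 Y) (g := r))
      exact this.symm
    refine ⟨pullback.snd (𝟙 Y) r w', pullback.snd (𝟙 Y) r w,
      hw'w.map (pullback.snd (𝟙 Y) r).continuous, ?_, ?_⟩
    · rw [hc, hw']
    · rw [hc, hw]
  have hsurj : Function.Surjective r := by
    intro y
    obtain ⟨p', p, -, hp', -⟩ := hspec' y y specializes_rfl
    exact ⟨p', hp'⟩
  rw [Topology.isQuotientMap_iff_isClosed]
  refine ⟨hsurj, fun C => ⟨fun hC => hC.preimage r.continuous, fun hC => ?_⟩⟩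
  have hstab : StableUnderSpecialization C := by
    intro y' y hyy hy'
    obtain ⟨p', p, hp'p, hp', hp⟩ := hspec' y' y hyy
    have h1 : p' ∈ r ⁻¹' C := by
      change r p' ∈ C
      rw [hp']; exact hy'
    have h2 : p ∈ r ⁻¹' C := hp'p.mem_closed hC h1
    change r p ∈ C at h2
    rwa [hp] at h2
  rw [TopologicalSpace.IsOpenCover.isClosed_iff_coe_preimage (iSup_affineOpens_eq_top Y)]
  intro U
  obtain ⟨F, hF, hFE⟩ := hr U
  have hFE' : ∀ j, ∃ h : F.X j ⟶ P, h ≫ r = F.f j ≫ (U : Y.Opens).ι := by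
    intro j
    obtain ⟨i, h, hh⟩ := hFE j
    exact ⟨h, hh⟩
  choose h hh using hFE'
  have : Finite F.I₀ := hF.finite_index
  have : ∀ j, IsAffine (F.X j) := hF.isAffine_obj
  have : IsAffine ((U : Y.Opens) : Scheme.{u}) := hF.isAffine
  let G : ULift.{u} F.I₀ → Scheme.{u} := fun j => F.X j.down
  let Gf : ∀ j : ULift.{u} F.I₀, G j ⟶ ((U : Y.Opens) : Scheme.{u}) := fun j => F.f j.down
  have : ∀ j, IsAffine (G j) := fun j => hF.isAffine_obj j.down
  let Y' : Scheme.{u} := ∐ G
  let p : Y' ⟶ ((U : Y.Opens) : Scheme.{u}) := Sigma.desc Gf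
  let CU : Set ((U : Y.Opens) : Scheme.{u}) := (U : Y.Opens).ι ⁻¹' C
  change IsClosed CU
  have hpsurj : Function.Surjective p := by
    intro t
    obtain ⟨j, x, hx⟩ := exists_eq_of_hasValLift F hF.lift t
    refine ⟨Sigma.ι G ⟨j⟩ x, ?_⟩
    rw [← Scheme.Hom.comp_apply, Sigma.ι_desc]
    exact hx
  have hcl : IsClosed (p ⁻¹' CU) := by
    rw [← (sigmaMk G).isClosed_preimage, isClosed_sigma_iff]
    intro j
    have : Sigma.mk j ⁻¹' (⇑(sigmaMk G) ⁻¹' (p ⁻¹' CU)) = (h j.down) ⁻¹' (r ⁻¹' C) := by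
      ext x
      simp only [Set.mem_preimage, sigmaMk_mk]
      have h1 : p (Sigma.ι G j x) = F.f j.down x := by
        rw [← Scheme.Hom.comp_apply, Sigma.ι_desc]
      have h2 : r (h j.down x) = (U : Y.Opens).ι (F.f j.down x) := by
        rw [← Scheme.Hom.comp_apply, hh j.down, Scheme.Hom.comp_apply]
      rw [h1, h2]
      rfl
    rw [this]
    exact (hC.preimage (h j.down).continuous)
  have himg : p '' (p ⁻¹' CU) = CU := Set.image_preimage_eq CU hpsurj
  rw [← himg]
  apply QCClosed.isClosed_image_of_stableUnderSpecialization p _ hcl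
  rw [himg]
  exact hstab.preimage (U : Y.Opens).ι.continuous

/-- A morphism which on its own is a V covering is universally submersive. -/
theorem univSubmersive_of_isVCover_singleton {P Y : Scheme.{u}} (r : P ⟶ Y)
    (hr : IsVCover (PreZeroHypercover.singleton.{w} r)) : SGA1.UnivSubmersive r := by
  intro X' Y' i₁ i₂ f' hpb
  apply isQuotientMap_of_isVCover_singleton.{w} f'
  have h2 : IsVCover ((PreZeroHypercover.singleton.{w} r).pullback₁ i₂) :=
    isVCover_pullback i₂ _ hr
  refine isVCover_of_hom h2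
    { s₀ := fun _ => PUnit.unit
      h₀ := fun _ => hpb.lift (pullback.fst i₂ r) (pullback.snd i₂ r) pullback.condition
      w₀ := fun _ => hpb.lift_fst _ _ _ }

/-- The coproduct morphism of a V covering is universally submersive. -/
theorem univSubmersive_sigmaDesc_of_isVCover {X : Scheme.{u}} (E : PreZeroHypercover.{u} X)
    (hE : IsVCover E) : SGA1.UnivSubmersive (Sigma.desc E.f) :=
  univSubmersive_of_isVCover_singleton.{0} _ (isVCover_sigmaDesc E hE)

end Groth.Agent.Lib.R2H4.VSubm
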