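import Mathlib
import Groth.Prelude.Def_HTop
import Groth.Agent.Lib.R2H4LocSheaf
import Groth.Agent.Lib.R2H4ValLift3
import Groth.Agent.S7469
import Groth.Agent.Lib.R2H4VSubm

/-!
# V sheaves: Zariski sheaf + sheaf condition for standard V coverings (helper4, round 2)

* `isStandardV_reindex`, `isVCover_of_isStandardV`.
* `isVSheaf_of_zariski_of_standardV`, `isSheaf_zariski_of_isVSheaf`.
* `isStandardV_singleton_sigmaDesc`, `isVSheaf_of_zariski_of_standardV_singleton`.
-/

set_option autoImplicit false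
universe w w' u
open CategoryTheory CategoryTheory.Limits AlgebraicGeometry Opposite HTop

namespace Groth.Agent.Lib.R2H4.VSheaf

open Groth.Agent.Lib.R2H4.LocSheaf Groth.Agent.Lib.R2H4.ValLift3

/-- Re-indexing a standard V covering along a surjection of index types. -/
theorem isStandardV_reindex {T : Scheme.{u}} (E : PreZeroHypercover.{w} T) (hE : IsStandardV E)
    {J : Type w'} [Finite J] (e : J → E.I₀) (he : Function.Surjective e) :
    IsStandardV ({ I₀ := J, X := fun j => E.X (e j), f := fun j => E.f (e j) } :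
      PreZeroHypercover.{w'} T) := by
  refine ⟨hE.isAffine, inferInstanceAs (Finite J), fun j => hE.isAffine_obj (e j), ?_⟩
  intro V _ _ g
  obtain ⟨W, hWd, hWv, φ, hφ, i, g', hg'⟩ := hE.lift V g
  obtain ⟨j, rfl⟩ := he i
  exact ⟨W, hWd, hWv, φ, hφ, j, g', hg'⟩

/-- A standard V covering is a V covering. -/
theorem isVCover_of_isStandardV {T : Scheme.{u}} (E : PreZeroHypercover.{w} T) (hE : IsStandardV E) :
    IsVCover E := by
  intro U
  have : IsAffine ((U : T.Opens) : Scheme.{u}) := U.2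
  have h1 : IsStandardV (E.pullback₁ (U : T.Opens).ι) := Groth.Agent.S7469.result _ E hE
  have : Finite E.I₀ := hE.finite_index
  let n := Nat.card E.I₀
  let e : Fin n ≃ E.I₀ := (Finite.equivFin E.I₀).symm
  refine ⟨_, isStandardV_reindex (E.pullback₁ (U : T.Opens).ι) h1 (J := Fin n) e e.surjective, ?_⟩
  intro j
  exact ⟨e j, pullback.snd _ _, pullback.condition.symm⟩

/-- The class of standard V coverings, as presieves. -/
def KV : ∀ T : Scheme.{u}, Presieve T → Prop :=
  fun T R => ∃ G : PreZeroHypercover.{u} T, IsStandardV G ∧ R = G.presieve₀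

theorem stableAff_KV : StableAff KV.{u} := by
  intro T R hR T' _ f
  obtain ⟨G, hG, rfl⟩ := hR
  refine ⟨(G.pullback₁ f).presieve₀, ⟨G.pullback₁ f, Groth.Agent.S7469.result f G hG, rfl⟩, ?_⟩
  rintro Z g ⟨j⟩
  exact ⟨_, pullback.snd f (G.f j), G.f j, ⟨j⟩, pullback.condition.symm⟩

/-- The sieve generated by a V covering is locally refined by standard V coverings. -/
theorem locRef_of_isVCover {X : Scheme.{u}} (E : PreZeroHypercover.{w} X) (hE : IsVCover E) :
    LocRef KV.{u} (Sieve.generate E.presieve₀) := by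
  intro x
  obtain ⟨_, ⟨U, hU, rfl⟩, hxU, -⟩ := X.isBasis_affineOpens.exists_subset_of_mem_open
    (Set.mem_univ x) isOpen_univ
  obtain ⟨G₀, hG₀, hG₀E⟩ := hE ⟨U, hU⟩
  have : Finite G₀.I₀ := hG₀.finite_index
  let G : PreZeroHypercover.{u} ((U : X.Opens) : Scheme.{u}) :=
    { I₀ := ULift.{u} G₀.I₀, X := fun j => G₀.X j.down, f := fun j => G₀.f j.down }
  have hG : IsStandardV G :=
    isStandardV_reindex G₀ hG₀ (J := ULift.{u} G₀.I₀) ULift.down ULift.down_surjective
  refine ⟨U, hxU, G.presieve₀, ⟨G, hG, rfl⟩, ?_⟩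
  rintro Z g ⟨j⟩
  obtain ⟨i, h, hh⟩ := hG₀E j.down
  exact ⟨_, h, E.f i, ⟨i⟩, hh⟩

theorem isVSheaf_of_zariski_of_standardV (F : Scheme.{u}ᵒᵖ ⥤ Type w)
    (hF : Presieve.IsSheaf Scheme.zariskiTopology F)
    (hstd : ∀ (T : Scheme.{u}) (E : PreZeroHypercover.{u} T), IsStandardV E →
      Presieve.IsSheafFor F E.presieve₀) : IsVSheaf F := by
  intro X R hR
  rw [vPrecoverage, PreZeroHypercoverFamily.mem_precoverage_iff] at hR
  obtain ⟨E, hE, rfl⟩ := hR
  rw [Presieve.isSheafFor_iff_generate]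
  exact isSheafFor_of_locRef hF KV (fun T R ⟨G, hG, hR⟩ => hR ▸ hstd T G hG) stableAff_KV _
    (locRef_of_isVCover E hE)

theorem isSheaf_zariski_of_isVSheaf (F : Scheme.{u}ᵒᵖ ⥤ Type w) (hF : IsVSheaf F) :
    Presieve.IsSheaf Scheme.zariskiTopology F := by
  rw [Scheme.zariskiTopology, Scheme.grothendieckTopology,
    Precoverage.isSheaf_toGrothendieck_iff_of_isStableUnderBaseChange]
  intro Y S hS
  apply hF
  rw [Precoverage.mem_iff_exists_zeroHypercover] at hS
  obtain ⟨𝒰, rfl⟩ := hS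
  rw [presieve₀_mem_vPrecoverage_iff]
  have h𝒰 : ∀ i, IsOpenImmersion (𝒰.f i) := fun i => Scheme.Cover.map_prop 𝒰 i
  have : QuasiCompactCover 𝒰.toPreZeroHypercover :=
    QuasiCompactCover.of_isOpenMap (𝒰 := 𝒰) fun i => (𝒰.f i).isOpenEmbedding.isOpenMap
  exact isVCover_of_flat_quasiCompactCover _ (fun i => inferInstance)

/-- The coproduct morphism of a standard V covering is, on its own, a standard V covering. -/
theorem isStandardV_singleton_sigmaDesc {T : Scheme.{u}} (E : PreZeroHypercover.{u} T)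
    (hE : IsStandardV E) : IsStandardV (PreZeroHypercover.singleton.{w} (Sigma.desc E.f)) := by
  have : Finite E.I₀ := hE.finite_index
  have : ∀ j, IsAffine (E.X j) := hE.isAffine_obj
  refine ⟨hE.isAffine, inferInstanceAs (Finite PUnit), fun _ => ?_, ?_⟩
  · change IsAffine (∐ E.X)
    infer_instance
  · intro V _ _ g
    obtain ⟨W, hWd, hWv, φ, hφ, j, g', hg'⟩ := hE.lift V g
    refine ⟨W, hWd, hWv, φ, hφ, PUnit.unit, g' ≫ Sigma.ι E.X j, ?_⟩
    change (g' ≫ Sigma.ι E.X j) ≫ Sigma.desc E.f = _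
    rw [Category.assoc, Sigma.ι_desc, hg']

theorem isVSheaf_of_zariski_of_standardV_singleton (F : Scheme.{u}ᵒᵖ ⥤ Type w)
    (hF : Presieve.IsSheaf Scheme.zariskiTopology F)
    (hstd : ∀ (U V : Scheme.{u}) (f : V ⟶ U), IsStandardV (PreZeroHypercover.singleton.{w'} f) →
      Presieve.IsSheafFor F (Presieve.singleton f)) : IsVSheaf F := by
  apply isVSheaf_of_zariski_of_standardV F hF
  intro T E hE
  have : Finite E.I₀ := hE.finite_index
  let 𝒰 : Scheme.Cover.{u} (Scheme.precoverage ⊤) T :=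
    { toPreZeroHypercover := E
      mem₀ := by
        rw [Scheme.presieve₀_mem_precoverage_iff]
        refine ⟨fun t => ?_, fun _ => trivial⟩
        obtain ⟨j, x, hx⟩ := Groth.Agent.Lib.R2H4.VSubm.exists_eq_of_hasValLift E hE.lift t
        exact ⟨j, x, hx⟩ }
  have : Finite 𝒰.I₀ := hE.finite_index
  have h1 := Scheme.Cover.isSheafFor_sigma_iff (F := F) hF 𝒰
  have h2 : Presieve.IsSheafFor F (Presieve.ofArrows 𝒰.sigma.X 𝒰.sigma.f) := by
    have h3 : Presieve.ofArrows 𝒰.sigma.X 𝒰.sigma.f = Presieve.singleton (Sigma.desc E.f) :=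
      Scheme.Cover.presieve₀_sigma 𝒰
    rw [h3]
    exact hstd _ _ _ (isStandardV_singleton_sigmaDesc E hE)
  exact h1.1 h2

end Groth.Agent.Lib.R2H4.VSheaf
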