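import Mathlib
import Groth.Prelude.Def_HTop
import Groth.Prelude.Def_MoreMor
import Groth.Agent.Lib.R2H4ValLift

/-!
# h and ph sheaves take thickenings to bijections (helper4, round 2)
-/

set_option autoImplicit false
universe v w u
open CategoryTheory CategoryTheory.Limits AlgebraicGeometry Opposite HTop
open Groth.Agent.Lib.R2H4.ValLift

namespace Groth.Agent.Lib.R2H4.ValLift2

/-- a sheaf of types takes a covering monomorphism to a bijection. -/
theorem bijective_map_of_mono_of_generate_singleton_mem {C : Type*} [Category C]
    (J : GrothendieckTopology C) (F : Sheaf J (Type v)) {X X' : C} (f : X ⟶ X') [Mono f]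
    (h : Sieve.generate (Presieve.singleton f) ∈ J X') : Function.Bijective (F.obj.map f.op) := by
  have hs : Presieve.IsSheaf J F.obj := (isSheaf_iff_isSheaf_of_type J F.obj).1 F.property
  have h1 : Presieve.IsSheafFor F.obj (Presieve.singleton f) := by
    rw [Presieve.isSheafFor_iff_generate]; exact hs _ h
  rw [Presieve.isSheafFor_singleton] at h1
  rw [Function.bijective_iff_existsUnique]
  intro x
  exact h1 x (fun p₁ p₂ hp => by rw [(cancel_mono f).1 hp])

theorem isPhCover_singleton_of_proper_surjective {X Y : Scheme.{u}} (f : Y ⟶ X) [IsProper f]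
    [Surjective f] : HTop.IsPhCover (PreZeroHypercover.singleton.{0} f) := by
  refine ⟨fun i => ?_, fun U => ?_⟩
  · change LocallyOfFiniteType f; infer_instance
  · haveI : IsAffine ((U : X.Opens) : Scheme.{u}) := U.2
    haveI : IsProper (f ∣_ (U : X.Opens)) :=
      IsZariskiLocalAtTarget.restrict (P := @IsProper) (inferInstance : IsProper f) _
    haveI : Surjective (f ∣_ (U : X.Opens)) :=
      IsZariskiLocalAtTarget.restrict (P := @Surjective) (inferInstance : Surjective f) _
    obtain ⟨F, hF, hh⟩ := exists_isStandardPh_of_proper_surjective (f ∣_ (U : X.Opens))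
    refine ⟨F, hF, fun j => ?_⟩
    obtain ⟨h, hj⟩ := hh j
    refine ⟨PUnit.unit, h ≫ (f ⁻¹ᵁ (U : X.Opens)).ι, ?_⟩
    change (h ≫ (f ⁻¹ᵁ (U : X.Opens)).ι) ≫ f = _
    rw [Category.assoc, ← morphismRestrict_ι, ← Category.assoc, hj]

/-- membership of the sieve generated by one morphism in a topology over `S`. -/
theorem generate_singleton_mem_over {S : Scheme.{u}} (K : Precoverage Scheme.{u})
    {X X' : Over S} (f : X ⟶ X') (h : Presieve.singleton f.left ∈ K X'.left) :
    Sieve.generate (Presieve.singleton f) ∈ (K.toGrothendieck.over S) X' := by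
  rw [GrothendieckTopology.mem_over_iff, Sieve.overEquiv_generate]
  refine GrothendieckTopology.superset_covering _ ?_ (Precoverage.generate_mem_toGrothendieck h)
  apply Sieve.generate_mono
  rintro Z g ⟨⟩
  exact ⟨X, f, 𝟙 _, Presieve.singleton.mk, by simp⟩

theorem hSheaf_map_bijective_of_thickening (S : Scheme.{u}) (F : HTop.ShH S) {X X' : Over S}
    (f : X ⟶ X') (hf : MoreMor.IsThickening f.left) [LocallyOfFinitePresentation f.left] :
    Function.Bijective (F.obj.map f.op) := by
  haveI : IsClosedImmersion f.left := hf.1
  haveI : Surjective f.left := hf.2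
  haveI : Mono f := (Over.forget S).mono_of_mono_map (inferInstanceAs (Mono f.left))
  apply bijective_map_of_mono_of_generate_singleton_mem (HTop.Jh S) F f
  apply generate_singleton_mem_over
  have h1 := (presieve₀_mem_hPrecoverage_iff (PreZeroHypercover.singleton.{0} f.left)).2
    (isHCover_singleton_of_proper_surjective f.left)
  rwa [PreZeroHypercover.presieve₀_singleton] at h1

theorem phSheaf_map_bijective_of_thickening (S : Scheme.{u}) (F : HTop.ShPh S) {X X' : Over S}
    (f : X ⟶ X') (hf : MoreMor.IsThickening f.left) :
    Function.Bijective (F.obj.map f.op) := by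
  haveI : IsClosedImmersion f.left := hf.1
  haveI : Surjective f.left := hf.2
  haveI : Mono f := (Over.forget S).mono_of_mono_map (inferInstanceAs (Mono f.left))
  apply bijective_map_of_mono_of_generate_singleton_mem (HTop.Jph S) F f
  apply generate_singleton_mem_over
  have h1 := (presieve₀_mem_phPrecoverage_iff (PreZeroHypercover.singleton.{0} f.left)).2
    (isPhCover_singleton_of_proper_surjective f.left)
  rwa [PreZeroHypercover.presieve₀_singleton] at h1

end Groth.Agent.Lib.R2H4.ValLift2
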