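import Mathlib
import Groth.Prelude
import Groth.Agent.Lib.R2H4VolBig

/-!
# Homogeneity of the volume (helper4, round 2)

`vol(L^a) = a^d vol(L)` where `vol(L) = limsup h⁰(L^m) / m^d` on an integral proper scheme of
dimension `d` over a field carrying an ample invertible module.
-/

set_option autoImplicit false
set_option linter.style.haveILetI false
set_option linter.unusedSectionVars false
universe u
open CategoryTheory CategoryTheory.Limits AlgebraicGeometry TopologicalSpace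
open scoped ENNReal Topology

noncomputable section

namespace Groth.Agent.Lib.R2H4VolHom

open Groth.Agent.Lib.R2H4H0Growth Groth.Agent.Lib.R2H4TensorPows Groth.Agent.Lib.R2H4VolBasic
  Groth.Agent.Lib.R2H4VolBig Filter

section Real

/-- `((n + c) / n)^d → 1` in `ℝ≥0∞` -/
theorem tendsto_ratio (c d : ℕ) :
    Tendsto (fun n : ℕ => ((n + c : ℕ) : ℝ≥0∞) ^ d / (n : ℝ≥0∞) ^ d) atTop (𝓝 1) := by
  have h1 : Tendsto (fun n : ℕ => (((n : ℝ) + c) / n) ^ d) atTop (𝓝 1) := by
    have h2 : Tendsto (fun n : ℕ => 1 + (c : ℝ) / n) atTop (𝓝 (1 + 0)) :=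
      tendsto_const_nhds.add (tendsto_const_div_atTop_nhds_zero_nat (c : ℝ))
    have h3 : Tendsto (fun n : ℕ => (1 + (c : ℝ) / n) ^ d) atTop (𝓝 ((1 + 0) ^ d)) := h2.pow d
    rw [add_zero, one_pow] at h3
    refine h3.congr' ?_
    refine (eventually_ge_atTop 1).mono fun n hn => ?_
    have hn0 : (n : ℝ) ≠ 0 := by
      have : (0 : ℝ) < n := by exact_mod_cast hn
      exact this.ne'
    field_simp
  have h4 := (ENNReal.continuous_ofReal.tendsto 1).comp h1
  rw [ENNReal.ofReal_one] at h4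
  refine h4.congr' ?_
  refine (eventually_ge_atTop 1).mono fun n hn => ?_
  have hn0 : (0 : ℝ) < n := by exact_mod_cast hn
  simp only [Function.comp]
  rw [div_pow, ENNReal.ofReal_div_of_pos (pow_pos hn0 d), ENNReal.ofReal_pow (by positivity),
    ENNReal.ofReal_pow hn0.le, ENNReal.ofReal_natCast]
  congr 2
  have : ((n : ℝ) + c) = ((n + c : ℕ) : ℝ) := by push_cast; ring
  rw [this, ENNReal.ofReal_natCast]

end Real

section Main

variable (k : Type u) [Field k] {X : Scheme.{u}} [X.Over (Spec (CommRingCat.of k))]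
  [IsProper (X ↘ (Spec (CommRingCat.of k)))]

/-- **homogeneity of the volume** -/
theorem limsup_pow_eq [IsIntegral X] (A : X.Modules) (hA : CohB1.IsAmple A) (d : ℕ)
    (hd : topologicalKrullDim X = ((d : ℕ) : WithBot ℕ∞)) (L : X.Modules)
    (hL : PicF.IsInvertible L) (a : ℕ) (ha : 0 < a) :
    limsup (fun m : ℕ => ((h0 k (CohB1.tensorPow (CohB1.tensorPow L a) m) : ℕ) : ℝ≥0∞) /
        (m : ℝ≥0∞) ^ d) atTop =
      (a : ℝ≥0∞) ^ d * limsup (fun m : ℕ => ((h0 k (CohB1.tensorPow L m) : ℕ) : ℝ≥0∞) /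
        (m : ℝ≥0∞) ^ d) atTop := by
  set u : ℕ → ℝ≥0∞ := fun m => ((h0 k (CohB1.tensorPow L m) : ℕ) : ℝ≥0∞) / (m : ℝ≥0∞) ^ d with hu
  set w : ℕ → ℝ≥0∞ := fun m =>
    ((h0 k (CohB1.tensorPow (CohB1.tensorPow L a) m) : ℕ) : ℝ≥0∞) / (m : ℝ≥0∞) ^ d with hw
  have had0 : ((a : ℝ≥0∞)) ^ d ≠ 0 := by
    apply pow_ne_zero
    exact_mod_cast (Nat.pos_iff_ne_zero.1 ha)
  have hadt : ((a : ℝ≥0∞)) ^ d ≠ ⊤ := ENNReal.pow_ne_top (ENNReal.natCast_ne_top a)
  -- `w m = a^d u (a m)`
  have hwu : ∀ m : ℕ, w m = (a : ℝ≥0∞) ^ d * u (a * m) := by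
    intro m
    simp only [hw, hu]
    rw [h0_pow_pow k L hL a m]
    push_cast
    rw [mul_pow, ← mul_div_assoc, ENNReal.mul_div_mul_left _ _ had0 hadt]
  have hφ : Tendsto (fun m : ℕ => a * m) atTop atTop :=
    tendsto_atTop_mono (fun m => Nat.le_mul_of_pos_left m ha) tendsto_id
  refine le_antisymm ?_ ?_
  · -- `≤`
    have h1 : limsup w atTop = (a : ℝ≥0∞) ^ d * limsup (u ∘ fun m : ℕ => a * m) atTop := by
      rw [← ENNReal.limsup_const_mul_of_ne_top hadt]
      exact limsup_congr (Eventually.of_forall fun m => hwu m)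
    rw [h1]
    exact mul_le_mul_right (hφ.limsup_comp_le_limsup) _
  · -- `≥`
    rcases eq_or_ne (limsup u atTop) 0 with hz | hz
    · rw [hz, mul_zero]
      exact bot_le
    have hpos : 0 < limsup u atTop := pos_iff_ne_zero.2 hz
    obtain ⟨c, hc, hfreq⟩ := exists_freq_of_limsup_pos d _ hpos
    obtain ⟨B, hB, m₀, hm₀, φ, hφm, r₀, hr₀⟩ := exists_big_data k A hA d hd L hL c hc hfreq
    set C := r₀ + a with hC
    -- the auxiliary sequence
    set u' : ℕ → ℝ≥0∞ := fun n =>
      ((h0 k (CohB1.tensorPow L n) : ℕ) : ℝ≥0∞) / ((n + C : ℕ) : ℝ≥0∞) ^ d with hu'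
    set v : ℕ → ℝ≥0∞ := fun n => ((n + C : ℕ) : ℝ≥0∞) ^ d / (n : ℝ≥0∞) ^ d with hv
    have huv : ∀ n : ℕ, 1 ≤ n → u n = u' n * v n := by
      intro n hn
      simp only [hu, hu', hv]
      have hn0 : ((n : ℝ≥0∞)) ^ d ≠ 0 := by
        apply pow_ne_zero
        exact_mod_cast (Nat.pos_iff_ne_zero.1 hn)
      have hC0 : (((n + C : ℕ) : ℝ≥0∞)) ^ d ≠ 0 := by
        apply pow_ne_zero
        exact_mod_cast (Nat.pos_iff_ne_zero.1 (Nat.add_pos_left hn C))
      have hCt : (((n + C : ℕ) : ℝ≥0∞)) ^ d ≠ ⊤ :=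
        ENNReal.pow_ne_top (ENNReal.natCast_ne_top _)
      rw [div_eq_mul_inv, div_eq_mul_inv, div_eq_mul_inv, mul_assoc,
        ← mul_assoc ((((n + C : ℕ) : ℝ≥0∞) ^ d)⁻¹), ENNReal.inv_mul_cancel hC0 hCt, one_mul]
    have h1 : limsup u atTop ≤ limsup u' atTop := by
      have h2 : limsup u atTop = limsup (u' * v) atTop :=
        limsup_congr ((eventually_ge_atTop 1).mono fun n hn => huv n hn)
      rw [h2]
      have hv1 : limsup v atTop = 1 := (tendsto_ratio C d).limsup_eq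
      refine (ENNReal.limsup_mul_le' (Or.inr (by rw [hv1]; exact ENNReal.one_ne_top))
        (Or.inr (by rw [hv1]; exact one_ne_zero))).trans ?_
      rw [hv1, mul_one]
    -- the comparison with `w`
    set μ : ℕ → ℕ := fun n => (n + r₀) / a + 1 with hμ
    have hμt : Tendsto μ atTop atTop := by
      rw [tendsto_atTop_atTop]
      intro b
      refine ⟨b * a, fun n hn => ?_⟩
      simp only [hμ]
      have : b ≤ (n + r₀) / a := by
        rw [Nat.le_div_iff_mul_le ha]
        omega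
      omega
    have h2 : ∀ n : ℕ, (a : ℝ≥0∞) ^ d * u' n ≤ w (μ n) := by
      intro n
      have h3 : n + r₀ < a * μ n := by
        have := Nat.lt_mul_div_succ (n + r₀) ha
        simpa [hμ, Nat.succ_eq_add_one] using this
      have h4 : a * μ n ≤ n + C := by
        have := Nat.mul_div_le (n + r₀) a
        simp only [hμ, hC]
        rw [Nat.mul_add, Nat.mul_one]
        omega
      obtain ⟨s, hs⟩ := hr₀ (a * μ n - n) (by omega)
      have h5 : h0 k (CohB1.tensorPow L n) ≤ h0 k (CohB1.tensorPow L (a * μ n)) := by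
        have := h0_le_of_section k L hL n (a * μ n - n) s hs
        have h6 : n + (a * μ n - n) = a * μ n := by omega
        rwa [h6] at this
      rw [hwu (μ n)]
      refine mul_le_mul_right ?_ _
      simp only [hu', hu]
      refine ENNReal.div_le_div (by exact_mod_cast h5) ?_
      refine pow_le_pow_left₀ bot_le ?_ d
      exact_mod_cast h4
    calc (a : ℝ≥0∞) ^ d * limsup u atTop
        ≤ (a : ℝ≥0∞) ^ d * limsup u' atTop := mul_le_mul_right h1 _
      _ = limsup (fun n => (a : ℝ≥0∞) ^ d * u' n) atTop :=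
          (ENNReal.limsup_const_mul_of_ne_top hadt).symm
      _ ≤ limsup (w ∘ μ) atTop := limsup_le_limsup (Eventually.of_forall h2)
      _ ≤ limsup w atTop := hμt.limsup_comp_le_limsup

end Main

end Groth.Agent.Lib.R2H4VolHom
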