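import Mathlib
import Groth.Agent.Lib.Helper2PullbackSec2
import Groth.Prelude.Def_CurvBase
import Groth.Prelude.Def_Coh

/-!
# Weakly associated points under flat pullback at generic points of fibres (helper4, S8899)

* `ker_tmul_eq`: for `A` flat over `R`, `Ann_A(1 ⊗ m) = Ann_R(m) A`.
* `radical_ker_tmul_eq`: local flat `R → A` with zero-dimensional closed fibre: `rad Ann(1 ⊗ m) = m_A`.
* `fibre_prime_eq`: primes of `O_{X,x}` containing `m_{f x} O_{X,x}` are points of the fibre specialising to `x`.
* `main`: S8899.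
-/
set_option autoImplicit false
universe u
open CategoryTheory CategoryTheory.Limits AlgebraicGeometry TopologicalSpace TensorProduct

namespace Groth.Agent.Lib.R2H4WeakAss


section alg
variable {R A N : Type*} [CommRing R] [CommRing A] [Algebra R A] [AddCommGroup N] [Module R N]

theorem mem_ker_tmul_iff (m : N) (a : A) :
    a ∈ LinearMap.ker (LinearMap.toSpanSingleton A (A ⊗[R] N) ((1 : A) ⊗ₜ[R] m)) ↔
      a ⊗ₜ[R] m = (0 : A ⊗[R] N) := by
  rw [LinearMap.mem_ker, LinearMap.toSpanSingleton_apply, TensorProduct.smul_tmul', smul_eq_mul,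
    mul_one]

theorem map_ker_le (m : N) :
    Ideal.map (algebraMap R A) (LinearMap.ker (LinearMap.toSpanSingleton R N m)) ≤
      LinearMap.ker (LinearMap.toSpanSingleton A (A ⊗[R] N) ((1 : A) ⊗ₜ[R] m)) := by
  rw [Ideal.map_le_iff_le_comap]
  intro r hr
  rw [Ideal.mem_comap, mem_ker_tmul_iff]
  rw [LinearMap.mem_ker, LinearMap.toSpanSingleton_apply] at hr
  rw [Algebra.algebraMap_eq_smul_one, TensorProduct.smul_tmul, hr, tmul_zero]

theorem ker_le_map [Module.Flat R A] (m : N) :
    LinearMap.ker (LinearMap.toSpanSingleton A (A ⊗[R] N) ((1 : A) ⊗ₜ[R] m)) ≤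
      Ideal.map (algebraMap R A) (LinearMap.ker (LinearMap.toSpanSingleton R N m)) := by
  intro a ha
  rw [mem_ker_tmul_iff] at ha
  set f := LinearMap.toSpanSingleton R N m with hf
  have h1 : (a ⊗ₜ[R] (1 : R) : A ⊗[R] R) ∈ LinearMap.ker (AlgebraTensorModule.lTensor A A f) := by
    rw [LinearMap.mem_ker, AlgebraTensorModule.lTensor_tmul, hf, LinearMap.toSpanSingleton_apply,
      one_smul, ha]
  rw [Module.Flat.ker_lTensor_eq] at h1
  obtain ⟨y, hy⟩ := h1
  have key : ∀ y : A ⊗[R] (LinearMap.ker f),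
      (TensorProduct.rid R A) (AlgebraTensorModule.lTensor A A (LinearMap.ker f).subtype y) ∈
        Ideal.map (algebraMap R A) (LinearMap.ker f) := by
    intro y
    induction y using TensorProduct.induction_on with
    | zero => simp
    | tmul b i =>
      rw [AlgebraTensorModule.lTensor_tmul, Submodule.subtype_apply, TensorProduct.rid_tmul,
        Algebra.smul_def, mul_comm]
      exact Ideal.mul_mem_left _ _ (Ideal.mem_map_of_mem _ i.2)
    | add x y hx hy =>
      rw [map_add, map_add]
      exact Ideal.add_mem _ hx hy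
  have := key y
  rw [hy, TensorProduct.rid_tmul, one_smul] at this
  exact this

theorem ker_tmul_eq [Module.Flat R A] (m : N) :
    LinearMap.ker (LinearMap.toSpanSingleton A (A ⊗[R] N) ((1 : A) ⊗ₜ[R] m)) =
      Ideal.map (algebraMap R A) (LinearMap.ker (LinearMap.toSpanSingleton R N m)) :=
  le_antisymm (ker_le_map m) (map_ker_le m)

/-- radical of annihilator is the maximal ideal after flat local base change with 0-dim'l fibre. -/
theorem radical_ker_tmul_eq [IsLocalRing R] [IsLocalRing A] [IsLocalHom (algebraMap R A)]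
    [Module.Flat R A] (m : N)
    (hm : Ideal.radical (LinearMap.ker (LinearMap.toSpanSingleton R N m)) = IsLocalRing.maximalIdeal R)
    (hfib : ∀ q : Ideal A, q.IsPrime → Ideal.map (algebraMap R A) (IsLocalRing.maximalIdeal R) ≤ q →
      q = IsLocalRing.maximalIdeal A) :
    Ideal.radical (LinearMap.ker (LinearMap.toSpanSingleton A (A ⊗[R] N) ((1 : A) ⊗ₜ[R] m))) =
      IsLocalRing.maximalIdeal A := by
  rw [ker_tmul_eq]
  set I := LinearMap.ker (LinearMap.toSpanSingleton R N m) with hI
  have hIne : I ≠ ⊤ := by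
    intro h
    rw [h, Ideal.radical_top] at hm
    exact (IsLocalRing.maximalIdeal.isMaximal R).ne_top hm.symm
  apply le_antisymm
  · have h1 : Ideal.map (algebraMap R A) I ≤ IsLocalRing.maximalIdeal A := by
      refine (Ideal.map_mono ?_).trans (IsLocalRing.map_maximalIdeal_le (algebraMap R A))
      exact IsLocalRing.le_maximalIdeal hIne
    exact (Ideal.radical_mono h1).trans (Ideal.IsPrime.radical_le_iff
      (IsLocalRing.maximalIdeal.isMaximal A).isPrime |>.mpr le_rfl)
  · have h2 : IsLocalRing.maximalIdeal A =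
        (Ideal.map (algebraMap R A) (IsLocalRing.maximalIdeal R)).radical := by
      rw [Ideal.radical_eq_sInf]
      apply le_antisymm
      · refine le_sInf ?_
        rintro q ⟨hq1, hq2⟩
        rw [hfib q hq2 hq1]
      · exact sInf_le ⟨IsLocalRing.map_maximalIdeal_le (algebraMap R A),
          (IsLocalRing.maximalIdeal.isMaximal A).isPrime⟩
    rw [h2, ← hm]
    refine (Ideal.radical_mono (Ideal.map_radical_le _)).trans ?_
    rw [Ideal.radical_idem]

end alg


/-- primes of `O_{X,x}` over the closed point of `O_{S,f x}` correspond to points of the fibre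
specialising to `x`. -/
theorem fibre_prime_eq {X S : Scheme.{u}} (f : X ⟶ S) (x : ↥X)
    (hgen : ∀ y : ↥X, f y = f x → y ⤳ x → y = x)
    (q : Ideal (X.presheaf.stalk x)) (hq : q.IsPrime)
    (hle : Ideal.map (f.stalkMap x).hom (IsLocalRing.maximalIdeal (S.presheaf.stalk (f x))) ≤ q) :
    q = IsLocalRing.maximalIdeal (X.presheaf.stalk x) := by
  set Q : Spec (X.presheaf.stalk x) := ⟨q, hq⟩ with hQ
  set y := X.fromSpecStalk x Q with hy
  have hyx : y ⤳ x := by
    have : y ∈ Set.range (X.fromSpecStalk x) := ⟨Q, rfl⟩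
    rw [Scheme.range_fromSpecStalk] at this
    exact this
  have hcomap : Spec.map (f.stalkMap x) Q = IsLocalRing.closedPoint (S.presheaf.stalk (f x)) := by
    apply PrimeSpectrum.ext
    change Ideal.comap (f.stalkMap x).hom q = IsLocalRing.maximalIdeal _
    have h1 : IsLocalRing.maximalIdeal (S.presheaf.stalk (f x)) ≤ Ideal.comap (f.stalkMap x).hom q :=
      Ideal.map_le_iff_le_comap.mp hle
    exact ((IsLocalRing.maximalIdeal.isMaximal _).eq_of_le (Ideal.IsPrime.comap _).ne_top h1).symm
  have hfy : f y = f x := by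
    have h2 := congrArg (fun g => g Q) (Scheme.SpecMap_stalkMap_fromSpecStalk f (x := x))
    simp only [Scheme.Hom.comp_apply] at h2
    rw [hy, ← h2, hcomap, Scheme.fromSpecStalk_closedPoint]
  have hyx' : y = x := hgen y hfy hyx
  have hinj : Function.Injective (X.fromSpecStalk x) :=
    (Scheme.Hom.isEmbedding (X.fromSpecStalk x)).injective
  have : Q = IsLocalRing.closedPoint (X.presheaf.stalk x) := by
    apply hinj
    rw [Scheme.fromSpecStalk_closedPoint]
    exact hyx'
  exact congrArg PrimeSpectrum.asIdeal this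

theorem main {X S : Scheme.{u}} (f : X ⟶ S) (G : S.Modules) (hG : Coh.IsQCoh G)
    (x : ↥X) (hfl : (f.stalkMap x).hom.Flat) (hgen : ∀ y : ↥X, f y = f x → y ⤳ x → y = x)
    (hs : Curv2.IsWeakAssPoint G (f x)) :
    Curv2.IsWeakAssPoint ((Scheme.Modules.pullback f).obj G) x := by
  letI : Algebra (S.presheaf.stalk (f x)) (X.presheaf.stalk x) := (f.stalkMap x).hom.toAlgebra
  haveI : IsLocalHom (algebraMap (S.presheaf.stalk (f x)) (X.presheaf.stalk x)) :=
    inferInstanceAs (IsLocalHom (f.stalkMap x).hom)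
  haveI : Module.Flat (S.presheaf.stalk (f x)) (X.presheaf.stalk x) := hfl
  haveI : G.IsQuasicoherent := hG
  obtain ⟨m, hm⟩ := hs
  obtain ⟨T⟩ := Groth.Agent.Lib.Helper2.PullbackSec.nonempty_stalk_linearEquiv f G x
  refine ⟨T ((1 : X.presheaf.stalk x) ⊗ₜ[S.presheaf.stalk (f x)] m), ?_⟩
  have hker : LinearMap.ker (LinearMap.toSpanSingleton (X.presheaf.stalk x) _
      (T ((1 : X.presheaf.stalk x) ⊗ₜ[S.presheaf.stalk (f x)] m))) =
      LinearMap.ker (LinearMap.toSpanSingleton (X.presheaf.stalk x) _
        ((1 : X.presheaf.stalk x) ⊗ₜ[S.presheaf.stalk (f x)] m)) := by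
    ext a
    rw [LinearMap.mem_ker, LinearMap.mem_ker, LinearMap.toSpanSingleton_apply,
      LinearMap.toSpanSingleton_apply, ← map_smul, LinearEquiv.map_eq_zero_iff]
  rw [hker]
  exact radical_ker_tmul_eq m hm (fun q hq hle => fibre_prime_eq f x hgen q hq hle)

end Groth.Agent.Lib.R2H4WeakAss
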