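import Mathlib

universe u

namespace Groth.Agent.Lib.R2H4.ZMTIdem

variable (A B : Type u) [CommRing A] [CommRing B] [Algebra A B]

/-- The image of the integral closure in `B`, as a `B'`-submodule. -/
noncomputable def N : Submodule (integralClosure A B) B :=
  LinearMap.range (Algebra.linearMap (integralClosure A B) B)

lemma mem_N {x : B} : x ∈ N A B ↔ IsIntegral A x := by
  constructor
  · rintro ⟨b, rfl⟩
    exact b.2
  · intro h
    exact ⟨⟨x, h⟩, rfl⟩

/-- The ideal of `r` in the integral closure `B'` with `B'_r = B_r`. -/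
noncomputable def K : Ideal (integralClosure A B) :=
  ⨅ x : B, ((N A B).colon {x}).radical

variable {A B}

lemma mem_K {r : integralClosure A B} :
    r ∈ K A B ↔ ∀ x : B, ∃ m : ℕ, IsIntegral A ((r : B) ^ m * x) := by
  simp only [K, Ideal.mem_iInf, Ideal.mem_radical_iff, Submodule.mem_colon_singleton, mem_N]
  refine forall_congr' fun x ↦ exists_congr fun m ↦ ?_
  rw [Algebra.smul_def]
  rfl

lemma exists_pow_mul_mem (I : Ideal A) (g : integralClosure A B) (hg : g ∈ K A B) (y : B)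
    (hy : y ∈ I.map (algebraMap A B)) :
    ∃ (n : ℕ) (z : integralClosure A B),
      z ∈ I.map (algebraMap A (integralClosure A B)) ∧ (z : B) = (g : B) ^ n * y := by
  unfold Ideal.map at hy
  induction hy using Submodule.span_induction with
  | mem y hy =>
    obtain ⟨a, ha, rfl⟩ := hy
    exact ⟨0, algebraMap A _ a, Ideal.mem_map_of_mem _ ha, by simp⟩
  | zero => exact ⟨0, 0, zero_mem _, by simp⟩
  | add y₁ y₂ _ _ h₁ h₂ =>
    obtain ⟨n₁, z₁, hz₁, e₁⟩ := h₁
    obtain ⟨n₂, z₂, hz₂, e₂⟩ := h₂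
    refine ⟨n₁ + n₂, g ^ n₂ * z₁ + g ^ n₁ * z₂,
      add_mem (Ideal.mul_mem_left _ _ hz₁) (Ideal.mul_mem_left _ _ hz₂), ?_⟩
    push_cast
    rw [e₁, e₂]
    ring
  | smul b y _ h =>
    obtain ⟨n, z, hz, e⟩ := h
    obtain ⟨m, hm⟩ := mem_K.mp hg b
    refine ⟨m + n, ⟨_, hm⟩ * z, Ideal.mul_mem_left _ _ hz, ?_⟩
    push_cast
    rw [e, smul_eq_mul]
    ring

lemma pow_mul_mem_of_coe_mem (I : Ideal A) (g : integralClosure A B) (hg : g ∈ K A B)
    (y : integralClosure A B) (hy : (y : B) ∈ I.map (algebraMap A B)) :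
    ∃ n : ℕ, g ^ n * y ∈ I.map (algebraMap A (integralClosure A B)) := by
  obtain ⟨n, z, hz, e⟩ := exists_pow_mul_mem I g hg _ hy
  refine ⟨n, ?_⟩
  convert hz using 1
  ext
  push_cast
  exact e.symm

lemma bijective_of_mem_K (g : integralClosure A B) (hg : g ∈ K A B) :
    Function.Bijective (algebraMap (Localization.Away g)
      (Localization (Algebra.algebraMapSubmonoid B (Submonoid.powers g)))) := by
  refine ⟨localizationAlgebra_injective _ _ Subtype.val_injective, ?_⟩
  intro x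
  obtain ⟨b, s, rfl⟩ := IsLocalization.exists_mk'_eq
    (Algebra.algebraMapSubmonoid B (Submonoid.powers g)) x
  obtain ⟨_, ⟨_, ⟨n, rfl⟩, rfl⟩⟩ := s
  obtain ⟨m, hm⟩ := mem_K.mp hg b
  refine ⟨IsLocalization.mk' _ (⟨_, hm⟩ : integralClosure A B)
    (⟨g ^ (m + n), ⟨m + n, rfl⟩⟩ : Submonoid.powers g), ?_⟩
  rw [localizationAlgebraMap_def, IsLocalization.map_mk', IsLocalization.mk'_eq_iff_eq]
  congr 1
  simp only [Subalgebra.algebraMap_eq, map_pow, RingHom.coe_comp, Function.comp_apply,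
    Algebra.algebraMap_self, RingHom.id_apply, RingHom.coe_coe, Subalgebra.coe_val]
  ring

lemma quasiFiniteAt_of_ker_le {C : Type u} [CommRing C] [Algebra A C] [Module.Finite A C]
    [Algebra.FiniteType A B] (I : Ideal A) (t : B) (ht : t * (1 - t) ∈ I.map (algebraMap A B))
    (ψ : B →ₐ[A] C) (hψ : Function.Surjective ψ)
    (hker : RingHom.ker ψ.toRingHom = I.map (algebraMap A B) ⊔ Ideal.span {1 - t})
    (q : PrimeSpectrum B) (hq : RingHom.ker ψ.toRingHom ≤ q.asIdeal) :
    Algebra.QuasiFiniteAt A q.asIdeal := by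
  apply Algebra.QuasiFiniteAt.of_isOpen_singleton_fiber
  have hrange : Set.range (PrimeSpectrum.comap ψ.toRingHom) =
      PrimeSpectrum.zeroLocus (RingHom.ker ψ.toRingHom) :=
    range_comap_of_surjective _ _ hψ
  obtain ⟨q₁, rfl⟩ : q ∈ Set.range (PrimeSpectrum.comap ψ.toRingHom) := by
    rw [hrange]; exact hq
  have hcomp : ∀ q' : PrimeSpectrum C, (PrimeSpectrum.comap ψ.toRingHom q').comap (algebraMap A B) =
      q'.comap (algebraMap A C) := by
    intro q'
    ext a
    simp
  set p := (PrimeSpectrum.comap ψ.toRingHom q₁).comap (algebraMap A B) with hp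
  have hIp : I ≤ p.asIdeal := by
    intro a ha
    show algebraMap A B a ∈ (PrimeSpectrum.comap ψ.toRingHom q₁).asIdeal
    apply hq
    rw [hker]
    exact Ideal.mem_sup_left (Ideal.mem_map_of_mem _ ha)
  have hdisc := Algebra.QuasiFinite.isDiscrete_comap_preimage_singleton (R := A) (S := C) p
  have hq₁mem : q₁ ∈ PrimeSpectrum.comap (algebraMap A C) ⁻¹' {p} := (hcomp q₁).symm
  have hopen : IsOpen ({⟨q₁, hq₁mem⟩} : Set (PrimeSpectrum.comap (algebraMap A C) ⁻¹' {p})) := by
    have := hdisc.to_subtype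
    exact isOpen_discrete _
  obtain ⟨U₁, hU₁, hU₁eq⟩ := isOpen_induced_iff.mp hopen
  obtain ⟨U, hU, rfl⟩ :=
    (PrimeSpectrum.isClosedEmbedding_comap_of_surjective _ _ hψ).isInducing.isOpen_iff.mp hU₁
  refine isOpen_induced_iff.mpr ⟨U ∩ (PrimeSpectrum.basicOpen t : Set _),
    hU.inter (PrimeSpectrum.basicOpen t).isOpen, ?_⟩
  ext ⟨q', hq'⟩
  simp only [Set.mem_preimage, Set.mem_inter_iff, Set.mem_singleton_iff, Subtype.mk.injEq]
  constructor
  · rintro ⟨hq'U, hq'e⟩
    have hJ : I.map (algebraMap A B) ≤ q'.asIdeal := by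
      rw [Ideal.map_le_iff_le_comap]
      intro a ha
      have h1 : a ∈ p.asIdeal := hIp ha
      have h2 : q'.comap (algebraMap A B) = p := hq'
      rw [← h2] at h1
      exact h1
    have h1e : 1 - t ∈ q'.asIdeal := (q'.2.mem_or_mem (hJ ht)).resolve_left hq'e
    have hker' : RingHom.ker ψ.toRingHom ≤ q'.asIdeal := by
      rw [hker]; exact sup_le hJ ((Ideal.span_singleton_le_iff_mem _).mpr h1e)
    obtain ⟨q'₁, rfl⟩ : q' ∈ Set.range (PrimeSpectrum.comap ψ.toRingHom) := by
      rw [hrange]; exact hker'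
    have hq'₁mem : q'₁ ∈ PrimeSpectrum.comap (algebraMap A C) ⁻¹' {p} := by
      have h2 : (PrimeSpectrum.comap ψ.toRingHom q'₁).comap (algebraMap A B) = p := hq'
      rw [hcomp] at h2
      exact h2
    have h3 : (⟨q'₁, hq'₁mem⟩ : PrimeSpectrum.comap (algebraMap A C) ⁻¹' {p}) ∈
        Subtype.val ⁻¹' (PrimeSpectrum.comap ψ.toRingHom ⁻¹' U) := hq'U
    rw [hU₁eq] at h3
    have h4 : q'₁ = q₁ := congrArg Subtype.val h3
    rw [h4]
  · intro h
    subst h
    have h3 : (⟨q₁, hq₁mem⟩ : PrimeSpectrum.comap (algebraMap A C) ⁻¹' {p}) ∈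
        Subtype.val ⁻¹' (PrimeSpectrum.comap ψ.toRingHom ⁻¹' U) := by
      rw [hU₁eq]; rfl
    refine ⟨h3, ?_⟩
    show t ∉ (PrimeSpectrum.comap ψ.toRingHom q₁).asIdeal
    intro htq
    have h1e : 1 - t ∈ (PrimeSpectrum.comap ψ.toRingHom q₁).asIdeal := by
      apply hq
      rw [hker]
      exact Ideal.mem_sup_right (Ideal.mem_span_singleton_self _)
    have : (1 : B) ∈ (PrimeSpectrum.comap ψ.toRingHom q₁).asIdeal := by
      have := add_mem htq h1e
      simpa using this
    exact (PrimeSpectrum.comap ψ.toRingHom q₁).2.ne_top ((Ideal.eq_top_iff_one _).mpr this)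

lemma exists_mem_K_notMem {C : Type u} [CommRing C] [Algebra A C] [Module.Finite A C]
    [Algebra.FiniteType A B] (I : Ideal A) (t : B) (ht : t * (1 - t) ∈ I.map (algebraMap A B))
    (ψ : B →ₐ[A] C) (hψ : Function.Surjective ψ)
    (hker : RingHom.ker ψ.toRingHom = I.map (algebraMap A B) ⊔ Ideal.span {1 - t})
    (q : Ideal B) [q.IsPrime] (hq : RingHom.ker ψ.toRingHom ≤ q) :
    ∃ r ∈ K A B, (r : B) ∉ q := by
  have := quasiFiniteAt_of_ker_le I t ht ψ hψ hker ⟨q, inferInstance⟩ hq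
  have hz := Algebra.ZariskisMainProperty.of_finiteType (R := A) q
  obtain ⟨r, hrq, hr, H⟩ := Algebra.zariskisMainProperty_iff.mp hz
  exact ⟨⟨r, hr⟩, mem_K.mpr H, hrq⟩

lemma K_sup_comap_ker_eq_top {C : Type u} [CommRing C] [Algebra A C] [Module.Finite A C]
    [Algebra.FiniteType A B] (I : Ideal A) (t : B) (ht : t * (1 - t) ∈ I.map (algebraMap A B))
    (ψ : B →ₐ[A] C) (hψ : Function.Surjective ψ)
    (hker : RingHom.ker ψ.toRingHom = I.map (algebraMap A B) ⊔ Ideal.span {1 - t}) :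
    K A B ⊔ (RingHom.ker ψ.toRingHom).comap (algebraMap (integralClosure A B) B) = ⊤ := by
  by_contra h
  obtain ⟨M, hM, hle⟩ := Ideal.exists_le_maximal _ h
  have hMp : M.IsPrime := hM.isPrime
  -- the composite `B' → B → C`
  let φ : integralClosure A B →ₐ[A] C := ψ.comp (integralClosure A B).val
  let : Algebra (integralClosure A B) C := φ.toRingHom.toAlgebra
  have : IsScalarTower A (integralClosure A B) C :=
    IsScalarTower.of_algebraMap_eq fun a ↦ (φ.commutes a).symm
  have : Algebra.IsIntegral A C := inferInstance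
  have : Algebra.IsIntegral (integralClosure A B) C := Algebra.IsIntegral.tower_top A
  have hbot : (⊥ : Ideal C).comap (algebraMap (integralClosure A B) C) ≤ M := by
    refine le_trans ?_ (le_sup_right.trans hle)
    intro x hx
    exact hx
  obtain ⟨Q, -, hQp, hQ⟩ := Ideal.exists_ideal_over_prime_of_isIntegral M (⊥ : Ideal C) hbot
  have hqp : (Q.comap ψ.toRingHom).IsPrime := Ideal.comap_isPrime _ _
  obtain ⟨r, hrK, hrq⟩ := exists_mem_K_notMem I t ht ψ hψ hker (Q.comap ψ.toRingHom)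
    (Ideal.comap_mono bot_le)
  apply hrq
  have : r ∈ M := (le_sup_left.trans hle) hrK
  rw [← hQ] at this
  exact this

theorem main (A B : Type u) [CommRing A] [CommRing B]
    [Algebra A B] [Algebra.FiniteType A B] (I : Ideal A) (e : B ⧸ Ideal.map (algebraMap A B) I)
    (he : IsIdempotentElem e)
    (hfin : Module.Finite (A ⧸ I) ((B ⧸ Ideal.map (algebraMap A B) I) ⧸ Ideal.span {1 - e})) :
    ∃ g : integralClosure A B,
      IsIdempotentElem (Ideal.Quotient.mk (Ideal.map (algebraMap A (integralClosure A B)) I) g) ∧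
      Ideal.Quotient.mk (Ideal.map (algebraMap A B) I) (g : B) = e ∧
      Function.Bijective (algebraMap (Localization.Away g)
        (Localization (Algebra.algebraMapSubmonoid B (Submonoid.powers g)))) := by
  obtain ⟨t, rfl⟩ := Ideal.Quotient.mk_surjective e
  set J := Ideal.map (algebraMap A B) I with hJ
  set π := Ideal.Quotient.mk J with hπ
  have ht : t * (1 - t) ∈ J := by
    rw [← Ideal.Quotient.eq_zero_iff_mem]
    simp only [map_mul, map_sub, map_one]
    rw [mul_sub, mul_one, he.eq, sub_self]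
  have hfinA : Module.Finite A ((B ⧸ J) ⧸ Ideal.span {1 - π t}) :=
    Module.Finite.trans (A ⧸ I) _
  let ψ : B →ₐ[A] ((B ⧸ J) ⧸ Ideal.span {1 - π t}) :=
    (Ideal.Quotient.mkₐ A _).comp (Ideal.Quotient.mkₐ A J)
  have hψ : Function.Surjective ψ :=
    (Ideal.Quotient.mkₐ_surjective A _).comp (Ideal.Quotient.mkₐ_surjective A J)
  have hker : RingHom.ker ψ.toRingHom = J ⊔ Ideal.span {1 - t} := by
    have h1 : ψ.toRingHom = (Ideal.Quotient.mk (Ideal.span {1 - π t})).comp π := rfl
    rw [h1, ← RingHom.comap_ker, Ideal.mk_ker]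
    have h2 : Ideal.span {1 - π t} = (Ideal.span {1 - t}).map π := by
      rw [Ideal.map_span, Set.image_singleton, map_sub, map_one]
    rw [h2, Ideal.comap_map_of_surjective π Ideal.Quotient.mk_surjective, ← RingHom.ker_eq_comap_bot,
      Ideal.mk_ker, sup_comm]
  have htop := K_sup_comap_ker_eq_top I t ht ψ hψ hker
  have h1mem : (1 : integralClosure A B) ∈ K A B ⊔
      (RingHom.ker ψ.toRingHom).comap (algebraMap (integralClosure A B) B) := by
    rw [htop]; exact Submodule.mem_top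
  obtain ⟨κ, hκ, ℓ, hℓ, hsum⟩ := Submodule.mem_sup.mp h1mem
  have hℓ' : (ℓ : B) ∈ J ⊔ Ideal.span {1 - t} := hker ▸ hℓ
  obtain ⟨j, hj, c', hc', hjc⟩ := Submodule.mem_sup.mp hℓ'
  obtain ⟨c, rfl⟩ := Ideal.mem_span_singleton'.mp hc'
  have h2 : (1 - π t) * π t = 0 := by rw [sub_mul, one_mul, he.eq, sub_self]
  have hπκ : π (κ : B) * π t = π t := by
    have hsum' : (κ : B) + (ℓ : B) = 1 := by
      have := congrArg (Subtype.val) hsum
      simpa using this
    have h3 : (κ : B) = 1 - (j + c * (1 - t)) := by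
      rw [hjc]; linear_combination hsum'
    rw [h3]
    simp only [map_sub, map_add, map_mul, map_one]
    rw [Ideal.Quotient.eq_zero_iff_mem.mpr hj]
    linear_combination (- π c) * h2
  obtain ⟨m, hm⟩ := mem_K.mp hκ t
  obtain ⟨g, hg⟩ : ∃ g : integralClosure A B, g = κ * ⟨(κ : B) ^ m * t, hm⟩ := ⟨_, rfl⟩
  have hgK : g ∈ K A B := hg ▸ Ideal.mul_mem_right _ _ hκ
  have hpow : ∀ n, π (κ : B) ^ n * π t = π t := by
    intro n
    induction n with
    | zero => simp
    | succ n ih => rw [pow_succ, mul_assoc, hπκ, ih]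
  have hπg : π (g : B) = π t := by
    rw [hg]
    push_cast
    rw [map_mul, map_mul, map_pow, hpow m, hπκ]
  have hy : ((g * g - g : integralClosure A B) : B) ∈ J := by
    rw [← Ideal.Quotient.eq_zero_iff_mem]
    push_cast
    rw [map_sub, map_mul, hπg, he.eq, sub_self]
  obtain ⟨n, hn⟩ := pow_mul_mem_of_coe_mem I g hgK _ hy
  set π' := Ideal.Quotient.mk (I.map (algebraMap A (integralClosure A B))) with hπ'
  have hx : π' g ^ (n + 2) = π' g ^ (n + 1) := by
    have h4 := Ideal.Quotient.eq_zero_iff_mem.mpr hn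
    rw [map_mul, map_pow, map_sub, map_mul] at h4
    linear_combination h4
  have hx' : ∀ k, π' g ^ (n + 1 + k) = π' g ^ (n + 1) := by
    intro k
    induction k with
    | zero => rfl
    | succ k ih => rw [← add_assoc, pow_succ, ih, ← pow_succ, hx]
  refine ⟨g ^ (n + 1), ?_, ?_,
    bijective_of_mem_K _ (Ideal.pow_mem_of_mem _ hgK _ (Nat.succ_pos n))⟩
  · show π' (g ^ (n + 1)) * π' (g ^ (n + 1)) = π' (g ^ (n + 1))
    rw [map_pow, ← pow_add, hx']
  · push_cast
    rw [map_pow, hπg]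
    exact he.pow_succ_eq n

end Groth.Agent.Lib.R2H4.ZMTIdem
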