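import Mathlib
import Groth.Agent.Lib.Helper15DvrLen

/-!
# Duality for fractional ideals with respect to a canonical ideal (part A)

`O` a domain with fraction field `K`, `ω ⊆ K` an `O`-submodule such that `K ⧸ ω` is an injective
`O`-module.  We set up relative lengths `relLen A B = length (B / A)`, show that linear maps between
submodules of `K` are multiplications, lift maps `I → K ⧸ ω` to `K` for finitely generated `I`,
and identify `(ω : J) / (ω : I)` with `Hom (I / J, K ⧸ ω)`.
-/

set_option autoImplicit false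
set_option linter.style.haveILetI false
set_option linter.unusedSectionVars false
universe u

namespace Groth.Agent.Lib.R2H7.CanDual

section RelLen

variable {R : Type*} [Ring R] {M : Type*} [AddCommGroup M] [Module R M]

/-- the length of `B / (A ∩ B)` -/
noncomputable def relLen (A B : Submodule R M) : ℕ∞ :=
  Module.length R (↥B ⧸ Submodule.comap B.subtype A)

theorem relLen_add {A B C : Submodule R M} (hAB : A ≤ B) (hBC : B ≤ C) :
    relLen A C = relLen A B + relLen B C := by
  let f : (↥B ⧸ A.comap B.subtype) →ₗ[R] (↥C ⧸ A.comap C.subtype) :=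
    Submodule.mapQ _ _ (Submodule.inclusion hBC) (fun x hx => hx)
  let g : (↥C ⧸ A.comap C.subtype) →ₗ[R] (↥C ⧸ B.comap C.subtype) :=
    Submodule.mapQ _ _ LinearMap.id (fun x hx => hAB hx)
  have hfm : ∀ b : ↥B, f (Submodule.Quotient.mk b) =
      Submodule.Quotient.mk (Submodule.inclusion hBC b) := fun b => rfl
  have hgm : ∀ c : ↥C, g (Submodule.Quotient.mk c) = Submodule.Quotient.mk c := fun c => rfl
  have hf : Function.Injective f := by
    rw [← LinearMap.ker_eq_bot, LinearMap.ker_eq_bot']
    intro x hx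
    obtain ⟨b, rfl⟩ := Submodule.Quotient.mk_surjective _ x
    rw [hfm, Submodule.Quotient.mk_eq_zero] at hx
    exact (Submodule.Quotient.mk_eq_zero _).mpr hx
  have hg : Function.Surjective g := by
    intro y
    obtain ⟨c, rfl⟩ := Submodule.Quotient.mk_surjective _ y
    exact ⟨Submodule.Quotient.mk c, rfl⟩
  have hex : Function.Exact f g := by
    intro y
    constructor
    · intro hy
      obtain ⟨c, rfl⟩ := Submodule.Quotient.mk_surjective _ y
      rw [hgm, Submodule.Quotient.mk_eq_zero] at hy
      have hc : c.1 ∈ B := hy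
      refine ⟨Submodule.Quotient.mk ⟨c.1, hc⟩, ?_⟩
      rw [hfm]
      rfl
    · rintro ⟨x, rfl⟩
      obtain ⟨b, rfl⟩ := Submodule.Quotient.mk_surjective _ x
      rw [hfm, hgm, Submodule.Quotient.mk_eq_zero]
      exact b.2
  exact Module.length_eq_add_of_exact f g hf hg hex

theorem relLen_eq_zero_of_le {A B : Submodule R M} (h : B ≤ A) : relLen A B = 0 := by
  unfold relLen
  rw [Module.length_eq_zero_iff]
  constructor
  intro x y
  obtain ⟨a, rfl⟩ := Submodule.Quotient.mk_surjective _ x
  obtain ⟨b, rfl⟩ := Submodule.Quotient.mk_surjective _ y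
  rw [Submodule.Quotient.eq]
  exact A.sub_mem (h a.2) (h b.2)

theorem le_of_relLen_eq_zero {A B : Submodule R M} (h : relLen A B = 0) : B ≤ A := by
  unfold relLen at h
  rw [Module.length_eq_zero_iff] at h
  intro b hb
  have := h.elim (Submodule.Quotient.mk ⟨b, hb⟩ : ↥B ⧸ Submodule.comap B.subtype A) 0
  rw [Submodule.Quotient.mk_eq_zero] at this
  exact this

/-- relative length is invariant under injective linear maps -/
theorem relLen_map {M' : Type*} [AddCommGroup M'] [Module R M'] (φ : M →ₗ[R] M')
    (hφ : Function.Injective φ) (A B : Submodule R M) :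
    relLen (A.map φ) (B.map φ) = relLen A B := by
  unfold relLen
  let e : ↥B ≃ₗ[R] ↥(B.map φ) := Submodule.equivMapOfInjective φ hφ B
  have he : (A.comap B.subtype).map (e : ↥B →ₗ[R] ↥(B.map φ)) =
      (A.map φ).comap (B.map φ).subtype := by
    ext y
    constructor
    · rintro ⟨b, hb, rfl⟩
      exact ⟨b.1, hb, rfl⟩
    · intro hy
      obtain ⟨a, ha, hay⟩ := hy
      obtain ⟨b, hb, hby⟩ := y.2
      have hab : a = b := hφ (hay.trans hby.symm)
      refine ⟨⟨b, hb⟩, ?_, ?_⟩
      · show b ∈ A
        exact hab ▸ ha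
      · exact Subtype.ext hby
  exact (Submodule.Quotient.equiv _ _ e he).symm.length_eq

end RelLen

section Frac

variable {O : Type u} [CommRing O] [IsDomain O] {K : Type u} [Field K] [Algebra O K]
  [IsFractionRing O K]

/-- `O`-linear maps from a submodule of `K` to `K` are multiplications. -/
theorem exists_mul_eq (I : Submodule O K) (ψ : ↥I →ₗ[O] K) : ∃ x : K, ∀ i : ↥I, ψ i = x * i.1 := by
  by_cases hI : ∃ i₀ : ↥I, i₀.1 ≠ 0
  · obtain ⟨i₀, hi₀⟩ := hI
    refine ⟨ψ i₀ / i₀.1, fun i => ?_⟩
    obtain ⟨a, s, hs, has⟩ := IsFractionRing.div_surjective (A := O) (i.1 / i₀.1)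
    have hs0 : algebraMap O K s ≠ 0 := by
      intro h0
      exact (nonZeroDivisors.ne_zero hs) ((IsFractionRing.injective O K) (h0.trans (map_zero _).symm))
    have h1 : s • i = a • i₀ := by
      apply Subtype.ext
      show s • i.1 = a • i₀.1
      rw [Algebra.smul_def, Algebra.smul_def]
      field_simp at has
      linear_combination (-1 : K) * has
    have h2 : s • ψ i = a • ψ i₀ := by rw [← map_smul, ← map_smul, h1]
    rw [Algebra.smul_def, Algebra.smul_def] at h2
    field_simp
    field_simp at has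
    have h3 : ψ i = algebraMap O K a * ψ i₀ / algebraMap O K s := by
      field_simp
      linear_combination h2
    rw [h3]
    field_simp
    linear_combination (ψ i₀) * has
  · push Not at hI
    refine ⟨0, fun i => ?_⟩
    have : i = 0 := Subtype.ext (hI i)
    rw [this, map_zero]
    simp

variable (ω : Submodule O K)

/-- Maps from a finitely generated submodule of `K` to the injective module `K ⧸ ω` lift to
multiplications. -/
theorem exists_mul_lift [Module.Injective O (K ⧸ ω)] (I : Submodule O K) (hI : I.FG)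
    (φ : ↥I →ₗ[O] K ⧸ ω) : ∃ z : K, ∀ i : ↥I, φ i = ω.mkQ (z * i.1) := by
  obtain ⟨d, hd, hdI⟩ := FractionalIdeal.isFractional_of_fg (S := nonZeroDivisors O) hI
  have hd0 : algebraMap O K d ≠ 0 := by
    intro h0
    exact (nonZeroDivisors.ne_zero hd) ((IsFractionRing.injective O K) (h0.trans (map_zero _).symm))
  -- the map I → O, i ↦ d i
  have hint : ∀ i : ↥I, ∃ a : O, algebraMap O K a = d • i.1 := fun i => hdI i.1 i.2
  choose c hc using hint
  let cl : ↥I →ₗ[O] O :=
    { toFun := c
      map_add' := fun x y => by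
        apply IsFractionRing.injective O K
        rw [map_add, hc, hc, hc]
        simp [smul_add]
      map_smul' := fun r x => by
        apply IsFractionRing.injective O K
        rw [RingHom.id_apply, smul_eq_mul, map_mul, hc, hc]
        show d • (r • x.1) = algebraMap O K r * d • x.1
        rw [smul_comm, Algebra.smul_def r] }
  have hcl : Function.Injective cl := by
    rw [← LinearMap.ker_eq_bot, LinearMap.ker_eq_bot']
    intro x hx
    have h1 : algebraMap O K (c x) = 0 := by
      have : c x = 0 := hx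
      rw [this, map_zero]
    rw [hc, Algebra.smul_def] at h1
    rcases mul_eq_zero.mp h1 with h | h
    · exact absurd h hd0
    · exact Subtype.ext h
  obtain ⟨h, hh⟩ := Module.Injective.extension_property O (K ⧸ ω) ↥I O cl hcl φ
  obtain ⟨y, hy⟩ := Submodule.Quotient.mk_surjective ω (h 1)
  refine ⟨y * algebraMap O K d, fun i => ?_⟩
  have h1 : φ i = h (cl i) := by rw [← hh]; rfl
  have h2 : h (cl i) = c i • h 1 := by
    rw [← map_smul, smul_eq_mul, mul_one]
    rfl
  rw [h1, h2, ← hy]
  show c i • ω.mkQ y = ω.mkQ (y * algebraMap O K d * i.1)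
  rw [← map_smul]
  congr 1
  rw [Algebra.smul_def, hc, Algebra.smul_def]
  ring

/-- the comparison map `(ω : J) → Hom (I / J, K ⧸ ω)` -/
noncomputable def dualMap (I J : Submodule O K) :
    ↥(ω / J) →ₗ[O] ((↥I ⧸ J.comap I.subtype) →ₗ[O] (K ⧸ ω)) where
  toFun x := Submodule.liftQ _ (ω.mkQ ∘ₗ (LinearMap.mulLeft O x.1) ∘ₗ I.subtype) (by
    intro i hi
    rw [LinearMap.mem_ker]
    show ω.mkQ (x.1 * i.1) = 0
    rw [Submodule.mkQ_apply, Submodule.Quotient.mk_eq_zero]
    exact Submodule.mem_div_iff_forall_mul_mem.mp x.2 _ hi)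
  map_add' x y := by
    apply LinearMap.ext
    intro q
    obtain ⟨i, rfl⟩ := Submodule.Quotient.mk_surjective _ q
    simp only [LinearMap.add_apply]
    erw [Submodule.liftQ_apply, Submodule.liftQ_apply, Submodule.liftQ_apply]
    show ω.mkQ ((x.1 + y.1) * i.1) = ω.mkQ (x.1 * i.1) + ω.mkQ (y.1 * i.1)
    rw [add_mul, map_add]
  map_smul' r x := by
    apply LinearMap.ext
    intro q
    obtain ⟨i, rfl⟩ := Submodule.Quotient.mk_surjective _ q
    simp only [LinearMap.smul_apply, RingHom.id_apply]
    erw [Submodule.liftQ_apply, Submodule.liftQ_apply]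
    show ω.mkQ ((r • x.1) * i.1) = r • ω.mkQ (x.1 * i.1)
    rw [smul_mul_assoc, map_smul]

theorem dualMap_apply_mk (I J : Submodule O K) (x : ↥(ω / J)) (i : ↥I) :
    dualMap ω I J x (Submodule.Quotient.mk i) = ω.mkQ (x.1 * i.1) := rfl

theorem ker_dualMap (I J : Submodule O K) :
    LinearMap.ker (dualMap ω I J) = (ω / I).comap (ω / J).subtype := by
  ext x
  rw [LinearMap.mem_ker, Submodule.mem_comap, Submodule.mem_div_iff_forall_mul_mem]
  constructor
  · intro h i hi
    have := LinearMap.congr_fun h (Submodule.Quotient.mk ⟨i, hi⟩)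
    rw [dualMap_apply_mk, LinearMap.zero_apply, Submodule.mkQ_apply,
      Submodule.Quotient.mk_eq_zero] at this
    exact this
  · intro h
    apply LinearMap.ext
    intro q
    obtain ⟨i, rfl⟩ := Submodule.Quotient.mk_surjective _ q
    rw [dualMap_apply_mk, LinearMap.zero_apply, Submodule.mkQ_apply,
      Submodule.Quotient.mk_eq_zero]
    exact h i.1 i.2

theorem dualMap_surjective [Module.Injective O (K ⧸ ω)] (I J : Submodule O K) (hI : I.FG)
    (hJI : J ≤ I) : Function.Surjective (dualMap ω I J) := by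
  intro φ
  obtain ⟨z, hz⟩ := exists_mul_lift ω I hI (φ ∘ₗ (J.comap I.subtype).mkQ)
  have hzJ : z ∈ ω / J := by
    rw [Submodule.mem_div_iff_forall_mul_mem]
    intro j hj
    have h1 := hz ⟨j, hJI hj⟩
    have h2 : (φ ∘ₗ (J.comap I.subtype).mkQ) ⟨j, hJI hj⟩ = 0 := by
      rw [LinearMap.comp_apply, Submodule.mkQ_apply]
      have : (Submodule.Quotient.mk ⟨j, hJI hj⟩ : ↥I ⧸ J.comap I.subtype) = 0 := by
        rw [Submodule.Quotient.mk_eq_zero]
        exact hj
      rw [this, map_zero]
    rw [h2] at h1
    have h3 := h1.symm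
    rw [Submodule.mkQ_apply, Submodule.Quotient.mk_eq_zero] at h3
    exact h3
  refine ⟨⟨z, hzJ⟩, ?_⟩
  apply LinearMap.ext
  intro q
  obtain ⟨i, rfl⟩ := Submodule.Quotient.mk_surjective _ q
  rw [dualMap_apply_mk]
  exact (hz i).symm

/-- `length ((ω : J) / (ω : I)) = length Hom (I / J, K ⧸ ω)` -/
theorem relLen_div_eq [Module.Injective O (K ⧸ ω)] (I J : Submodule O K) (hI : I.FG)
    (hJI : J ≤ I) :
    relLen (ω / I) (ω / J) =
      Module.length O ((↥I ⧸ J.comap I.subtype) →ₗ[O] (K ⧸ ω)) := by
  unfold relLen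
  rw [← ker_dualMap ω I J]
  exact ((dualMap ω I J).quotKerEquivOfSurjective (dualMap_surjective ω I J hI hJI)).length_eq

end Frac

end Groth.Agent.Lib.R2H7.CanDual
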