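/-
`Ext` along a short exact sequence `0 → K → M → Q → 0` of modules with `M` projective:
dimension shifting `Ext^i(K, Y) ≃ Ext^{i+1}(Q, Y)` for `i ≥ 1` and the presentation of
`Ext^1(Q, Y)` as the cokernel of `Hom(M, Y) → Hom(K, Y)`; two surjections with the same kernel
have isomorphic targets.  (helper7)
-/
import Mathlib
import Groth.Agent.Lib.Helper29ExtSes

set_option autoImplicit false
open CategoryTheory CategoryTheory.Abelian

noncomputable section

namespace Groth.Agent.Lib.R2H7.GrLDExt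

open Groth.Agent.Lib.Helper29ExtSes

universe u

/-- Two surjections with the same kernel have isomorphic targets. -/
theorem nonempty_equiv_of_ker_eq {A : Type*} [CommRing A] {M N N' : Type*} [AddCommGroup M]
    [Module A M] [AddCommGroup N] [Module A N] [AddCommGroup N'] [Module A N']
    (p : M →ₗ[A] N) (q : M →ₗ[A] N') (hp : Function.Surjective p) (hq : Function.Surjective q)
    (hk : LinearMap.ker p = LinearMap.ker q) : Nonempty (N ≃ₗ[A] N') :=
  ⟨(p.quotKerEquivOfSurjective hp).symm.trans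
    ((Submodule.quotEquivOfEq _ _ hk).trans (q.quotKerEquivOfSurjective hq))⟩

variable {A : Type u} [CommRing A]
variable {K M Q : Type u} [AddCommGroup K] [Module A K] [AddCommGroup M] [Module A M]
  [AddCommGroup Q] [Module A Q] (Y : Type u) [AddCommGroup Y] [Module A Y]
variable (f : K →ₗ[A] M) (g : M →ₗ[A] Q)
variable (hf : Function.Injective f) (hg : Function.Surjective g) (hex : Function.Exact f g)

include hf hg hex in
/-- Dimension shifting in the first variable. -/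
theorem nonempty_ext_shift [Module.Projective A M] (i : ℕ) (hi : 1 ≤ i) :
    Nonempty (Ext.{u} (ModuleCat.of A K) (ModuleCat.of A Y) i ≃ₗ[A]
      Ext.{u} (ModuleCat.of A Q) (ModuleCat.of A Y) (i + 1)) := by
  have hS := ses_shortExact f g hf hg hex
  have hproj : Projective (ModuleCat.of A M) :=
    (IsProjective.iff_projective.{u, u} M).mp inferInstance
  obtain ⟨j, rfl⟩ : ∃ j, i = j + 1 := ⟨i - 1, by omega⟩
  refine ⟨LinearEquiv.ofBijective
    (hS.extClass.precompOfLinear A (ModuleCat.of A Y) (add_comm 1 (j + 1))) ⟨?_, ?_⟩⟩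
  · rw [injective_iff_map_eq_zero]
    intro x hx
    have hx' : hS.extClass.comp x (add_comm 1 (j + 1)) = 0 := hx
    obtain ⟨y, hy⟩ := Ext.contravariant_sequence_exact₁ hS (ModuleCat.of A Y) x
      (add_comm 1 (j + 1)) hx'
    have hy0 : y = 0 := Ext.eq_zero_of_projective y
    rw [← hy, hy0, Ext.comp_zero]
  · intro z
    obtain ⟨x, hx⟩ := Ext.contravariant_sequence_exact₃ hS (ModuleCat.of A Y) z
      (Ext.eq_zero_of_projective _) (add_comm 1 (j + 1))
    exact ⟨x, hx⟩

include hf hg hex in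
/-- `Ext^1(Q, Y)` is the cokernel of `Hom(M, Y) → Hom(K, Y)`. -/
theorem exists_ext_one_coker [Module.Projective A M] :
    ∃ dl : (K →ₗ[A] Y) →ₗ[A] Ext.{u} (ModuleCat.of A Q) (ModuleCat.of A Y) 1,
      Function.Surjective dl ∧ ∀ φ : K →ₗ[A] Y, dl φ = 0 ↔ ∃ ψ : M →ₗ[A] Y, ψ ∘ₗ f = φ := by
  have hS := ses_shortExact f g hf hg hex
  have hproj : Projective (ModuleCat.of A M) :=
    (IsProjective.iff_projective.{u, u} M).mp inferInstance
  let e1 : (ModuleCat.of A K ⟶ ModuleCat.of A Y) ≃ₗ[A] (K →ₗ[A] Y) := ModuleCat.homLinearEquiv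
  let e0 : Ext.{u} (ModuleCat.of A K) (ModuleCat.of A Y) 0 ≃ₗ[A]
      (ModuleCat.of A K ⟶ ModuleCat.of A Y) := Ext.linearEquiv₀
  let dl : (K →ₗ[A] Y) →ₗ[A] Ext.{u} (ModuleCat.of A Q) (ModuleCat.of A Y) 1 :=
    (hS.extClass.precompOfLinear A (ModuleCat.of A Y) (add_zero 1)) ∘ₗ
      e0.symm.toLinearMap ∘ₗ e1.symm.toLinearMap
  have hdl : ∀ φ : K →ₗ[A] Y,
      dl φ = hS.extClass.comp (Ext.mk₀ (ModuleCat.ofHom φ)) (add_zero 1) := fun φ => rfl
  refine ⟨dl, ?_, ?_⟩
  · intro z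
    obtain ⟨x, hx⟩ := Ext.contravariant_sequence_exact₃ hS (ModuleCat.of A Y) z
      (Ext.eq_zero_of_projective _) (add_zero 1)
    obtain ⟨φ, rfl⟩ := (Ext.mk₀_bijective _ _).2 x
    exact ⟨φ.hom, hx⟩
  · intro φ
    rw [hdl]
    constructor
    · intro h
      obtain ⟨y, hy⟩ := Ext.contravariant_sequence_exact₁ hS (ModuleCat.of A Y) _ (add_zero 1) h
      obtain ⟨ψ, rfl⟩ := (Ext.mk₀_bijective _ _).2 y
      rw [Ext.mk₀_comp_mk₀] at hy
      have h2 := (Ext.mk₀_bijective _ _).1 hy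
      refine ⟨ψ.hom, ?_⟩
      have h3 := congrArg ModuleCat.Hom.hom h2
      exact h3
    · rintro ⟨ψ, rfl⟩
      have h1 : ModuleCat.ofHom (ψ ∘ₗ f) = (ses f g hex).f ≫ ModuleCat.ofHom ψ := rfl
      rw [h1, ← Ext.mk₀_comp_mk₀]
      exact hS.extClass_comp_assoc _

end Groth.Agent.Lib.R2H7.GrLDExt
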