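/-
`Ext^1(M, N)` for a module `M` generated by `m0, m 1, …, m r` whose relation module is
`{(-E b, b) : b ∈ I^r}` for an ideal `I` and a linear map `E : I^r → A`:
`Ext^1(M, N)` is the quotient of `Hom(I, N)^r` by the maps `a ↦ a • x j - E (single j a) • x0`,
and a length formula.  (helper7)
-/
import Mathlib
import Groth.Agent.Lib.R2H7GrLDExt

set_option autoImplicit false
open CategoryTheory CategoryTheory.Abelian

noncomputable section

namespace Groth.Agent.Lib.R2H7.ExtGen

universe u

variable {A : Type u} [CommRing A] (I : Ideal A) {r : ℕ} (E : (Fin r → ↥I) →ₗ[A] A)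
variable {M : Type u} [AddCommGroup M] [Module A M] (N : Type u) [AddCommGroup N] [Module A N]
variable (m0 : M) (m : Fin r → M)

/-- the presentation map `A × A^r → M` -/
def pres : (A × (Fin r → A)) →ₗ[A] M :=
  (LinearMap.toSpanSingleton A M m0).coprod (Fintype.linearCombination A m)

theorem pres_apply (x : A × (Fin r → A)) : pres m0 m x = x.1 • m0 + ∑ j, x.2 j • m j := by
  simp [pres, Fintype.linearCombination_apply]

theorem pres_surjective (hspan : Submodule.span A (insert m0 (Set.range m)) = ⊤) :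
    Function.Surjective (pres (A := A) m0 m) := by
  rw [← LinearMap.range_eq_top, pres, LinearMap.range_coprod, Fintype.range_linearCombination,
    ← LinearMap.span_singleton_eq_range, ← Submodule.span_union, Set.singleton_union]
  exact hspan

variable (hrel : ∀ (a0 : A) (a : Fin r → A), a0 • m0 + ∑ j, a j • m j = 0 ↔
  ∃ b : Fin r → ↥I, (∀ j, (b j : A) = a j) ∧ a0 = - E b)

/-- the `I^r → ker pres` map -/
def kinv : (Fin r → ↥I) →ₗ[A] ↥(LinearMap.ker (pres (A := A) m0 m)) :=
  LinearMap.codRestrict _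
    (LinearMap.prod (-E) (LinearMap.pi fun j => I.subtype ∘ₗ LinearMap.proj j))
    (fun b => by
      rw [LinearMap.mem_ker, pres_apply]
      exact (hrel _ _).mpr ⟨b, fun j => rfl, rfl⟩)

theorem kinv_coe (b : Fin r → ↥I) :
    ((kinv I E m0 m hrel b : ↥(LinearMap.ker (pres (A := A) m0 m))) : A × (Fin r → A)) =
      (-E b, fun j => (b j : A)) := rfl

/-- the `ker pres → I^r` map -/
def kap : ↥(LinearMap.ker (pres (A := A) m0 m)) →ₗ[A] (Fin r → ↥I) :=
  LinearMap.pi fun j => LinearMap.codRestrict I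
    (LinearMap.proj j ∘ₗ LinearMap.snd A A (Fin r → A) ∘ₗ (LinearMap.ker (pres m0 m)).subtype)
    (fun x => by
      have hx : pres m0 m x.1 = 0 := x.2
      rw [pres_apply] at hx
      obtain ⟨b, hb, -⟩ := (hrel _ _).mp hx
      change x.1.2 j ∈ I
      rw [← hb j]
      exact (b j).2)

theorem kap_coe (x : ↥(LinearMap.ker (pres (A := A) m0 m))) (j : Fin r) :
    ((kap I E m0 m hrel x j : ↥I) : A) = x.1.2 j := rfl

theorem kap_kinv (b : Fin r → ↥I) : kap I E m0 m hrel (kinv I E m0 m hrel b) = b := by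
  funext j
  exact Subtype.ext rfl

theorem kinv_kap (x : ↥(LinearMap.ker (pres (A := A) m0 m))) :
    kinv I E m0 m hrel (kap I E m0 m hrel x) = x := by
  have hx : pres m0 m x.1 = 0 := x.2
  rw [pres_apply] at hx
  obtain ⟨b, hb, h0⟩ := (hrel _ _).mp hx
  have hbk : kap I E m0 m hrel x = b := by
    funext j
    exact Subtype.ext (by rw [kap_coe, hb j])
  apply Subtype.ext
  rw [kinv_coe, hbk]
  refine Prod.ext ?_ ?_
  · exact h0.symm
  · funext j
    exact hb j

theorem lsum_single (φ : Fin r → (↥I →ₗ[A] N)) (j : Fin r) (a : ↥I) :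
    LinearMap.lsum A (fun _ : Fin r => ↥I) ℕ φ (Pi.single j a) = φ j a := by
  rw [LinearMap.lsum_apply, LinearMap.sum_apply]
  rw [Finset.sum_eq_single j]
  · simp
  · intro j' _ hj'
    simp [Pi.single_eq_of_ne hj']
  · intro h
    exact absurd (Finset.mem_univ j) h

theorem lsum_apply' (φ : Fin r → (↥I →ₗ[A] N)) (b : Fin r → ↥I) :
    LinearMap.lsum A (fun _ : Fin r => ↥I) ℕ φ b = ∑ j, φ j (b j) := by
  rw [LinearMap.lsum_apply, LinearMap.sum_apply]
  rfl

include hrel in
/-- `Ext^1(M, N)` as a quotient of `Hom(I, N)^r`. -/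
theorem exists_ext_one (hspan : Submodule.span A (insert m0 (Set.range m)) = ⊤) :
    ∃ Φ : (Fin r → (↥I →ₗ[A] N)) →ₗ[A] Ext.{u} (ModuleCat.of A M) (ModuleCat.of A N) 1,
      Function.Surjective Φ ∧ ∀ φ, Φ φ = 0 ↔ ∃ (x0 : N) (x : Fin r → N), ∀ (j : Fin r) (a : ↥I),
        φ j a = (a : A) • x j - E (Pi.single j a) • x0 := by
  classical
  obtain ⟨dl, hdl, hker⟩ := GrLDExt.exists_ext_one_coker N
    (LinearMap.ker (pres (A := A) m0 m)).subtype (pres m0 m)
    (Submodule.injective_subtype _) (pres_surjective m0 m hspan)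
    (LinearMap.exact_subtype_ker_map _)
  let Ψ : (Fin r → (↥I →ₗ[A] N)) →ₗ[A] (↥(LinearMap.ker (pres (A := A) m0 m)) →ₗ[A] N) :=
    (LinearMap.lcomp A N (kap I E m0 m hrel)) ∘ₗ
      (LinearMap.lsum A (fun _ : Fin r => ↥I) A).toLinearMap
  have hΨ : ∀ φ x, Ψ φ x = ∑ j, φ j (kap I E m0 m hrel x j) := by
    intro φ x
    change LinearMap.lsum A (fun _ : Fin r => ↥I) A φ (kap I E m0 m hrel x) = _
    rw [LinearMap.lsum_apply, LinearMap.sum_apply]
    rfl
  refine ⟨dl ∘ₗ Ψ, ?_, ?_⟩
  · intro z
    obtain ⟨ψ, rfl⟩ := hdl z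
    refine ⟨fun j => ψ ∘ₗ kinv I E m0 m hrel ∘ₗ LinearMap.single A (fun _ : Fin r => ↥I) j, ?_⟩
    change dl (Ψ _) = dl ψ
    congr 1
    ext x
    rw [hΨ]
    simp only [LinearMap.comp_apply]
    rw [← map_sum, ← map_sum]
    congr 1
    rw [← kinv_kap I E m0 m hrel x]
    congr 1
    rw [kap_kinv]
    exact Finset.univ_sum_single _
  · intro φ
    rw [LinearMap.comp_apply, hker]
    constructor
    · rintro ⟨χ, hχ⟩
      refine ⟨χ (1, 0), fun j => χ (0, Pi.single j 1), ?_⟩
      intro j a
      have h1 := LinearMap.congr_fun hχ (kinv I E m0 m hrel (Pi.single j a))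
      rw [hΨ, LinearMap.comp_apply, Submodule.subtype_apply, kinv_coe] at h1
      have h2 : ∑ j', φ j' (kap I E m0 m hrel (kinv I E m0 m hrel (Pi.single j a)) j') =
          φ j a := by
        rw [kap_kinv, Finset.sum_eq_single j]
        · rw [Pi.single_eq_same]
        · intro j' _ hj'
          rw [Pi.single_eq_of_ne hj', map_zero]
        · intro h
          exact absurd (Finset.mem_univ j) h
      rw [h2] at h1
      rw [← h1]
      have h3 : ((-E (Pi.single j a), fun j' => ((Pi.single j a : Fin r → ↥I) j' : A)) :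
          A × (Fin r → A)) =
          (-E (Pi.single j a)) • ((1, 0) : A × (Fin r → A)) +
            (a : A) • ((0, Pi.single j 1) : A × (Fin r → A)) := by
        refine Prod.ext ?_ ?_
        · simp
        · funext j'
          by_cases hj' : j' = j
          · subst hj'
            simp
          · simp [Pi.single_eq_of_ne hj']
      rw [h3, map_add, map_smul, map_smul, neg_smul]
      abel
    · rintro ⟨x0, x, hx⟩
      refine ⟨(LinearMap.toSpanSingleton A N x0).coprod (Fintype.linearCombination A x), ?_⟩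
      ext y
      rw [LinearMap.comp_apply, Submodule.subtype_apply, hΨ]
      rw [← kinv_kap I E m0 m hrel y]
      set b := kap I E m0 m hrel y with hb
      rw [kinv_coe, kap_kinv]
      simp only [LinearMap.coprod_apply, LinearMap.toSpanSingleton_apply,
        Fintype.linearCombination_apply]
      have hE : E b = ∑ j, E (Pi.single j (b j)) := by
        rw [← map_sum, Finset.univ_sum_single]
      rw [Finset.sum_congr rfl (fun j _ => hx j (b j)), Finset.sum_sub_distrib, ← Finset.sum_smul,
        ← hE, neg_smul]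
      abel

/-- `x ↦ (a ↦ a • x)` -/
def beta : N →ₗ[A] (↥I →ₗ[A] N) :=
  (LinearMap.lcomp A N I.subtype) ∘ₗ (LinearMap.lsmul A N).flip

theorem beta_apply (x : N) (a : ↥I) : beta I N x a = (a : A) • x := rfl

/-- `x ↦ (a ↦ E (single j a) • x)` -/
def gam (j : Fin r) : N →ₗ[A] (↥I →ₗ[A] N) :=
  (LinearMap.lcomp A N (E ∘ₗ LinearMap.single A (fun _ : Fin r => ↥I) j)) ∘ₗ
    (LinearMap.lsmul A N).flip

theorem gam_apply (j : Fin r) (x : N) (a : ↥I) : gam I E N j x a = E (Pi.single j a) • x := rfl

/-- the map `N → (Hom(I,N)/N)^r` whose kernel is the "multiplier" submodule -/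
def theta : N →ₗ[A] (Fin r → ((↥I →ₗ[A] N) ⧸ LinearMap.range (beta I N))) :=
  LinearMap.pi fun j => (LinearMap.range (beta I N)).mkQ ∘ₗ gam I E N j

theorem mem_ker_theta (x0 : N) :
    x0 ∈ LinearMap.ker (theta I E N) ↔ ∀ j, ∃ y : N, ∀ a : ↥I,
      E (Pi.single j a) • x0 = (a : A) • y := by
  rw [LinearMap.mem_ker]
  constructor
  · intro h j
    have hj := congrFun h j
    change (LinearMap.range (beta I N)).mkQ (gam I E N j x0) = 0 at hj
    rw [Submodule.mkQ_apply, Submodule.Quotient.mk_eq_zero] at hj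
    obtain ⟨y, hy⟩ := hj
    refine ⟨y, fun a => ?_⟩
    have := LinearMap.congr_fun hy a
    rw [beta_apply, gam_apply] at this
    exact this.symm
  · intro h
    funext j
    obtain ⟨y, hy⟩ := h j
    change (LinearMap.range (beta I N)).mkQ (gam I E N j x0) = 0
    rw [Submodule.mkQ_apply, Submodule.Quotient.mk_eq_zero]
    refine ⟨y, ?_⟩
    ext a
    rw [beta_apply, gam_apply]
    exact (hy a).symm

include hrel in
/-- The length formula. -/
theorem length_ext_one_add (hspan : Submodule.span A (insert m0 (Set.range m)) = ⊤) :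
    Module.length A (Ext.{u} (ModuleCat.of A M) (ModuleCat.of A N) 1) +
        Module.length A (N ⧸ LinearMap.ker (theta I E N)) =
      (r : ℕ∞) * Module.length A ((↥I →ₗ[A] N) ⧸ LinearMap.range (beta I N)) := by
  classical
  obtain ⟨Φ, hΦs, hΦk⟩ := exists_ext_one I E N m0 m hrel hspan
  set B := LinearMap.range (beta I N) with hB
  let q : (Fin r → (↥I →ₗ[A] N)) →ₗ[A] (Fin r → ((↥I →ₗ[A] N) ⧸ B)) :=
    LinearMap.pi fun j => B.mkQ ∘ₗ LinearMap.proj j
  have hq : Function.Surjective q := by
    intro z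
    choose w hw using fun j => Submodule.Quotient.mk_surjective B (z j)
    exact ⟨w, funext hw⟩
  set T := LinearMap.range (theta I E N) with hT
  let π : (Fin r → (↥I →ₗ[A] N)) →ₗ[A] ((Fin r → ((↥I →ₗ[A] N) ⧸ B)) ⧸ T) := T.mkQ ∘ₗ q
  have hπ : Function.Surjective π := (Submodule.mkQ_surjective T).comp hq
  have hkk : LinearMap.ker Φ = LinearMap.ker π := by
    ext φ
    rw [LinearMap.mem_ker, LinearMap.mem_ker, hΦk]
    change _ ↔ T.mkQ (q φ) = 0
    rw [Submodule.mkQ_apply, Submodule.Quotient.mk_eq_zero]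
    constructor
    · rintro ⟨x0, x, hx⟩
      refine ⟨-x0, ?_⟩
      funext j
      change (LinearMap.range (beta I N)).mkQ (gam I E N j (-x0)) = B.mkQ (φ j)
      rw [Submodule.mkQ_apply, Submodule.mkQ_apply, eq_comm, Submodule.Quotient.eq]
      refine ⟨x j, ?_⟩
      ext a
      rw [beta_apply, LinearMap.sub_apply, gam_apply, hx j a, smul_neg]
      abel
    · rintro ⟨x0, hx0⟩
      have h := fun j => congrFun hx0 j
      have h' : ∀ j, ∃ y : N, beta I N y = φ j - gam I E N j x0 := by
        intro j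
        have hj := h j
        change (LinearMap.range (beta I N)).mkQ (gam I E N j x0) = B.mkQ (φ j) at hj
        rw [Submodule.mkQ_apply, Submodule.mkQ_apply, eq_comm, Submodule.Quotient.eq] at hj
        exact hj
      choose x hx using h'
      refine ⟨-x0, x, fun j a => ?_⟩
      have := LinearMap.congr_fun (hx j) a
      rw [beta_apply, LinearMap.sub_apply, gam_apply] at this
      rw [this, smul_neg]
      abel
  obtain ⟨e⟩ := GrLDExt.nonempty_equiv_of_ker_eq Φ π hΦs hπ hkk
  rw [e.length_eq]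
  have h1 := Module.length_eq_add_of_exact T.subtype T.mkQ T.injective_subtype
    T.mkQ_surjective (LinearMap.exact_subtype_mkQ T)
  rw [Module.length_pi, ENat.card_eq_coe_fintype_card, Fintype.card_fin] at h1
  rw [h1, ← ((theta I E N).quotKerEquivRange).length_eq, add_comm]

end Groth.Agent.Lib.R2H7.ExtGen
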