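/-
`Ext^1(M, N)` for modules embedded in an ambient ring `R ⊇ A`: `M = A + ∑ A e_j`, with the relations
among `1, e_1, …, e_r` governed by an ideal `I` (`∑ a_j e_j ∈ A ↔ a_j ∈ I`).  Length formula in terms
of relative lengths of submodules of `R`.  (helper7)
-/
import Mathlib
import Groth.Agent.Lib.R2H7ExtGen
import Groth.Agent.Lib.R2H7CanDualA

set_option autoImplicit false
open CategoryTheory CategoryTheory.Abelian

noncomputable section

namespace Groth.Agent.Lib.R2H7.ExtAmb

open Groth.Agent.Lib.R2H7.CanDual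

universe u

theorem relLen_top {R M : Type*} [Ring R] [AddCommGroup M] [Module R M] (B : Submodule R M) :
    relLen B ⊤ = Module.length R (M ⧸ B) := by
  unfold relLen
  refine (Submodule.Quotient.equiv _ _ (Submodule.topEquiv) ?_).length_eq
  ext x
  simp only [Submodule.mem_map, Submodule.mem_comap, Submodule.subtype_apply]
  constructor
  · rintro ⟨y, hy, rfl⟩
    exact hy
  · intro hx
    exact ⟨⟨x, trivial⟩, hx, rfl⟩

variable {k : Type*} [Field k] {R : Type u} [CommRing R] [Algebra k R] (A : Subalgebra k R)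
variable (I : Ideal ↥A) {r : ℕ} (e : Fin r → R)
variable (heI : ∀ a ∈ I, ∀ j, (a : R) * e j ∈ A)

/-- multiplication by `e j` as a map `I → A` -/
def epsl (j : Fin r) : ↥I →ₗ[↥A] ↥A where
  toFun a := ⟨(a.1 : R) * e j, heI a.1 a.2 j⟩
  map_add' a b := by
    apply Subtype.ext
    simp [add_mul]
  map_smul' c a := by
    apply Subtype.ext
    simp [mul_assoc]

theorem epsl_coe (j : Fin r) (a : ↥I) : ((epsl A I e heI j a : ↥A) : R) = (a.1 : R) * e j := rfl

/-- `b ↦ ∑ b_j e_j` as a map `I^r → A` -/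
def Elin : (Fin r → ↥I) →ₗ[↥A] ↥A := ∑ j, (epsl A I e heI j) ∘ₗ LinearMap.proj j

theorem Elin_coe (b : Fin r → ↥I) :
    ((Elin A I e heI b : ↥A) : R) = ∑ j, ((b j).1 : R) * e j := by
  simp only [Elin, LinearMap.sum_apply, LinearMap.comp_apply, LinearMap.proj_apply]
  rw [AddSubmonoidClass.coe_finset_sum]
  rfl

theorem Elin_single_coe (j : Fin r) (a : ↥I) :
    ((Elin A I e heI (Pi.single j a) : ↥A) : R) = (a.1 : R) * e j := by
  classical
  rw [Elin_coe, Finset.sum_eq_single j]
  · rw [Pi.single_eq_same]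
  · intro j' _ hj'
    rw [Pi.single_eq_of_ne hj']
    simp
  · intro h
    exact absurd (Finset.mem_univ j) h

variable (c₀ : ↥A)

set_option synthInstance.maxHeartbeats 400000 in
set_option maxHeartbeats 1600000 in
include heI in
theorem length_ext_one_add {M N : Type u} [AddCommGroup M] [Module ↥A M] [AddCommGroup N]
    [Module ↥A N] (ιM : M →ₗ[↥A] R) (ιN : N →ₗ[↥A] R) (hιM : Function.Injective ιM)
    (hιN : Function.Injective ιN) (hc₀I : c₀ ∈ I) (hc₀ : ∀ x : R, (c₀ : R) * x = 0 → x = 0)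
    (hH : ∀ a : Fin r → ↥A, (∑ j, (a j : R) * e j) ∈ A → ∀ j, a j ∈ I)
    (hM : LinearMap.range ιM = Submodule.span ↥A (insert 1 (Set.range e)))
    (H P Nm : Submodule ↥A R)
    (hHmem : ∀ x, x ∈ H ↔ ∀ a ∈ I, ∃ y, x * (a : R) = (c₀ : R) * ιN y)
    (hP : ∀ z, z ∈ P ↔ ∃ y, z = (c₀ : R) * ιN y)
    (hNm : ∀ x, x ∈ Nm ↔ ∃ y, x = ιN y ∧ ∀ j, ∃ y', e j * x = ιN y') :
    Module.length ↥A (Ext.{u} (ModuleCat.of ↥A M) (ModuleCat.of ↥A N) 1) +
        relLen Nm (LinearMap.range ιN) = (r : ℕ∞) * relLen P H := by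
  classical
  have h1 : (1 : R) ∈ LinearMap.range ιM := by
    rw [hM]; exact Submodule.subset_span (Set.mem_insert _ _)
  obtain ⟨m0, hm0⟩ := h1
  have he : ∀ j, e j ∈ LinearMap.range ιM := by
    intro j
    rw [hM]; exact Submodule.subset_span (Set.mem_insert_of_mem _ ⟨j, rfl⟩)
  choose m hm using he
  have hspan : Submodule.span ↥A (insert m0 (Set.range m)) = ⊤ := by
    apply Submodule.map_injective_of_injective hιM
    have hcomp : ⇑ιM ∘ m = e := funext hm
    rw [Submodule.map_span, Submodule.map_top, hM, Set.image_insert_eq, hm0, ← Set.range_comp,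
      hcomp]
  have hsm : ∀ (a : ↥A) (x : R), a • x = (a : R) * x := fun a x => Subalgebra.smul_def a x
  have hrel : ∀ (a0 : ↥A) (a : Fin r → ↥A), a0 • m0 + ∑ j, a j • m j = 0 ↔
      ∃ b : Fin r → ↥I, (∀ j, (b j : ↥A) = a j) ∧ a0 = - Elin A I e heI b := by
    intro a0 a
    have key : ιM (a0 • m0 + ∑ j, a j • m j) = (a0 : R) + ∑ j, (a j : R) * e j := by
      rw [map_add, map_sum, map_smul, hm0, hsm, mul_one]
      congr 1
      refine Finset.sum_congr rfl fun j _ => ?_
      rw [map_smul, hm j, hsm]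
    rw [← (injective_iff_map_eq_zero' ιM).mp hιM, key]
    constructor
    · intro h
      have hsum : (∑ j, (a j : R) * e j) ∈ A := by
        have : (∑ j, (a j : R) * e j) = -(a0 : R) := by linear_combination h
        rw [this]
        exact A.neg_mem a0.2
      have hI := hH a hsum
      refine ⟨fun j => ⟨a j, hI j⟩, fun j => rfl, ?_⟩
      apply Subtype.ext
      rw [NegMemClass.coe_neg, Elin_coe]
      linear_combination h
    · rintro ⟨b, hb, h0⟩
      rw [h0, NegMemClass.coe_neg, Elin_coe]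
      have : ∀ j, ((b j).1 : R) * e j = (a j : R) * e j := fun j => by rw [hb j]
      rw [Finset.sum_congr rfl (fun j _ => this j)]
      ring
  have hmain := ExtGen.length_ext_one_add I (Elin A I e heI) N m0 m hrel hspan
  set c₀I : ↥I := ⟨c₀, hc₀I⟩ with hc₀Idef
  let ev : (↥I →ₗ[↥A] N) →ₗ[↥A] R := ιN ∘ₗ LinearMap.applyₗ c₀I
  have hev : ∀ φ : ↥I →ₗ[↥A] N, ev φ = ιN (φ c₀I) := fun φ => rfl
  have F1 : ∀ (φ : ↥I →ₗ[↥A] N) (a : ↥I), (c₀ : R) * ιN (φ a) = (a.1 : R) * ιN (φ c₀I) := by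
    intro φ a
    have h : (c₀ : ↥A) • φ a = (a : ↥A) • φ c₀I := by
      rw [← map_smul, ← map_smul]
      congr 1
      apply Subtype.ext
      change c₀ * a.1 = a.1 * c₀
      exact mul_comm _ _
    have h2 := congrArg ιN h
    rw [map_smul, map_smul, hsm, hsm] at h2
    exact h2
  have hevinj : Function.Injective ev := by
    rw [injective_iff_map_eq_zero]
    intro φ hφ
    rw [hev] at hφ
    ext a
    have := F1 φ a
    rw [hφ, mul_zero] at this
    have h0 := hc₀ _ this
    rw [LinearMap.zero_apply]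
    exact (injective_iff_map_eq_zero' ιN).mp hιN _ |>.mp h0
  have hBmap : (LinearMap.range (ExtGen.beta I N)).map ev = P := by
    ext z
    rw [hP, Submodule.mem_map]
    constructor
    · rintro ⟨_, ⟨x, rfl⟩, rfl⟩
      refine ⟨x, ?_⟩
      rw [hev, ExtGen.beta_apply, map_smul, hsm]
    · rintro ⟨y, rfl⟩
      refine ⟨_, ⟨y, rfl⟩, ?_⟩
      rw [hev, ExtGen.beta_apply, map_smul, hsm]
  have hTop : (⊤ : Submodule ↥A (↥I →ₗ[↥A] N)).map ev = H := by
    rw [Submodule.map_top]
    ext x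
    rw [LinearMap.mem_range, hHmem]
    constructor
    · rintro ⟨φ, rfl⟩ a ha
      refine ⟨φ ⟨a, ha⟩, ?_⟩
      rw [hev, F1 φ ⟨a, ha⟩, mul_comm]
    · intro hx
      let lam : N →ₗ[↥A] R := (LinearMap.lsmul ↥A R c₀) ∘ₗ ιN
      have hlam : ∀ y, lam y = (c₀ : R) * ιN y := fun y => hsm _ _
      have hlaminj : Function.Injective lam := by
        rw [injective_iff_map_eq_zero]
        intro y hy
        rw [hlam] at hy
        exact (injective_iff_map_eq_zero' ιN).mp hιN _ |>.mp (hc₀ _ hy)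
      let mu : ↥I →ₗ[↥A] R := (LinearMap.toSpanSingleton ↥A R x) ∘ₗ I.subtype
      have hmu : ∀ a : ↥I, mu a = (a.1 : R) * x := fun a => hsm _ _
      have hmur : ∀ a : ↥I, mu a ∈ LinearMap.range lam := by
        intro a
        obtain ⟨y, hy⟩ := hx a.1 a.2
        exact ⟨y, by rw [hlam, hmu, ← hy, mul_comm]⟩
      let φ : ↥I →ₗ[↥A] N :=
        (LinearEquiv.ofInjective lam hlaminj).symm.toLinearMap ∘ₗ
          (mu.codRestrict (LinearMap.range lam) hmur)
      have hφ : ∀ a : ↥I, lam (φ a) = mu a := by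
        intro a
        have := (LinearEquiv.ofInjective lam hlaminj).apply_symm_apply ⟨mu a, hmur a⟩
        exact congrArg Subtype.val this
      refine ⟨φ, ?_⟩
      rw [hev]
      have h3 := hφ c₀I
      rw [hlam, hmu] at h3
      have h4 : (c₀ : R) * (ιN (φ c₀I) - x) = 0 := by
        rw [mul_sub, h3]
        exact sub_self _
      exact sub_eq_zero.mp (hc₀ _ h4)
  have hD : Module.length ↥A ((↥I →ₗ[↥A] N) ⧸ LinearMap.range (ExtGen.beta I N)) =
      relLen P H := by
    rw [← relLen_top, ← relLen_map ev hevinj, hBmap, hTop]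
  have hKmap : (LinearMap.ker (ExtGen.theta I (Elin A I e heI) N)).map ιN = Nm := by
    ext x
    rw [hNm, Submodule.mem_map]
    constructor
    · rintro ⟨x0, hx0, rfl⟩
      rw [ExtGen.mem_ker_theta] at hx0
      refine ⟨x0, rfl, fun j => ?_⟩
      obtain ⟨y, hy⟩ := hx0 j
      refine ⟨y, ?_⟩
      have h2 := congrArg ιN (hy c₀I)
      rw [map_smul, map_smul, hsm, hsm, Elin_single_coe] at h2
      have h4 : (c₀ : R) * (e j * ιN x0 - ιN y) = 0 := by
        have : ((c₀I : ↥I).1 : R) = (c₀ : R) := rfl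
        rw [this] at h2
        linear_combination h2
      exact sub_eq_zero.mp (hc₀ _ h4)
    · rintro ⟨y, rfl, hy⟩
      refine ⟨y, ?_, rfl⟩
      rw [ExtGen.mem_ker_theta]
      intro j
      obtain ⟨y', hy'⟩ := hy j
      refine ⟨y', fun a => ?_⟩
      apply hιN
      rw [map_smul, map_smul, hsm, hsm, Elin_single_coe, ← hy']
      ring
  have hN : Module.length ↥A (N ⧸ LinearMap.ker (ExtGen.theta I (Elin A I e heI) N)) =
      relLen Nm (LinearMap.range ιN) := by
    rw [← relLen_top, ← relLen_map ιN hιN, hKmap, Submodule.map_top]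
  rw [← hD, ← hN]
  exact hmain

end Groth.Agent.Lib.R2H7.ExtAmb
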