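import Mathlib

/-!
# Rank-one torsion-free modules over a unibranch curve singularity (S15023)

`A ⊆ k[[t]]` a subalgebra with `k[[t]]` finite and birational over it.  Every finitely generated
torsion-free `A`-module of rank one is isomorphic to a submodule `M'` of `k[[t]]` with
`t^{2δ} k[[t]] ⊆ M'` and `dim k[[t]]/M' = δ`.
-/

namespace Groth.Agent.Lib.R2H7.CurveMod

open PowerSeries

universe u

variable {k : Type u} [Field k]

section Basics

theorem exists_eq_X_pow_mul (f : PowerSeries k) (n : ℕ) (h : (n : ℕ∞) ≤ order f) :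
    ∃ g : PowerSeries k, f = X ^ n * g := by
  have : (X : PowerSeries k) ^ n ∣ f := by
    rw [X_pow_dvd_iff]
    intro m hm
    exact coeff_of_lt_order m (lt_of_lt_of_le (by exact_mod_cast hm) h)
  exact this

theorem isUnit_of_order_eq_zero (u : PowerSeries k) (h : order u = 0) : IsUnit u := by
  rw [isUnit_iff_constantCoeff, isUnit_iff_ne_zero]
  intro h0
  have := order_ne_zero_iff_constCoeff_eq_zero.mpr h0
  exact this h

theorem order_X_pow_mul (n : ℕ) (f : PowerSeries k) :
    order (X ^ n * f) = (n : ℕ∞) + order f := by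
  rw [order_mul, order_X_pow]

/-- Cancelling leading terms. -/
theorem exists_sub_smul_order_gt (f g : PowerSeries k) (n : ℕ) (hf : (n : ℕ∞) ≤ order f)
    (hg : order g = n) : ∃ c : k, ((n + 1 : ℕ) : ℕ∞) ≤ order (f - c • g) := by
  have hg' := order_eq_nat.mp hg
  refine ⟨coeff n f / coeff n g, ?_⟩
  apply nat_le_order
  intro i hi
  rw [map_sub, coeff_smul]
  rcases Nat.lt_succ_iff_lt_or_eq.mp hi with h | h
  · rw [hg'.2 i h, coeff_of_lt_order i (lt_of_lt_of_le (by exact_mod_cast h) hf)]
    simp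
  · subst h
    rw [smul_eq_mul, div_mul_cancel₀ _ hg'.1, sub_self]

end Basics

section Dim

open Classical in
/-- The codimension of a subspace `V ⊇ t^N k[[t]]` is the number of gaps of its value set. -/
theorem finrank_quotient (V : Submodule k (PowerSeries k)) (N : ℕ)
    (hN : ∀ f : PowerSeries k, X ^ N * f ∈ V) :
    Module.finrank k (PowerSeries k ⧸ V) =
      ((Finset.range N).filter (fun n : ℕ => ¬ ∃ f ∈ V, order f = (n : ℕ∞))).card := by
  classical
  set s := (Finset.range N).filter (fun n : ℕ => ¬ ∃ f ∈ V, order f = (n : ℕ∞)) with hs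
  let b : s → PowerSeries k ⧸ V := fun n => Submodule.Quotient.mk (X ^ (n : ℕ))
  have hli : LinearIndependent k b := by
    rw [Fintype.linearIndependent_iff]
    intro c hc
    by_contra hne
    rw [not_forall] at hne
    let c' : ℕ → k := fun n => if h : n ∈ s then c ⟨n, h⟩ else 0
    have hc's : ∀ n, c' n ≠ 0 → n ∈ s := by
      intro n hn
      by_contra hns
      exact hn (dif_neg hns)
    have hc'c : ∀ i : s, c' i = c i := fun i => by
      simp only [c']
      rw [dif_pos i.2]
    have hgV : PowerSeries.mk c' ∈ V := by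
      have : PowerSeries.mk c' = ∑ i : s, c i • (X : PowerSeries k) ^ (i : ℕ) := by
        ext j
        rw [coeff_mk, map_sum]
        simp only [coeff_smul, coeff_X_pow, smul_eq_mul, mul_ite, mul_one, mul_zero]
        by_cases hj : j ∈ s
        · rw [Finset.sum_eq_single ⟨j, hj⟩]
          · simp only [if_true]
            exact hc'c ⟨j, hj⟩
          · intro i _ hij
            rw [if_neg]
            intro h
            exact hij (Subtype.ext h.symm)
          · intro h
            exact absurd (Finset.mem_univ _) h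
        · rw [Finset.sum_eq_zero]
          · exact dif_neg hj
          · intro i _
            rw [if_neg]
            intro h
            exact hj (h ▸ i.2)
      rw [this]
      have h0 : V.mkQ (∑ i : s, c i • (X : PowerSeries k) ^ (i : ℕ)) = 0 := by
        rw [map_sum]
        simp only [map_smul]
        exact hc
      exact (Submodule.Quotient.mk_eq_zero V).mp h0
    have hex : ∃ n, c' n ≠ 0 := by
      obtain ⟨i, hi⟩ := hne
      exact ⟨i, by rw [hc'c]; exact hi⟩
    have h1 : c' (Nat.find hex) ≠ 0 := Nat.find_spec hex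
    have h2 : ∀ m < Nat.find hex, c' m = 0 := fun m hm => not_not.mp (Nat.find_min hex hm)
    have hord : order (PowerSeries.mk c') = (Nat.find hex : ℕ) :=
      order_eq_nat.mpr ⟨by rw [coeff_mk]; exact h1, fun i hi => by rw [coeff_mk]; exact h2 i hi⟩
    have hmem := hc's _ h1
    rw [hs, Finset.mem_filter] at hmem
    exact hmem.2 ⟨_, hgV, hord⟩
  have hspan : ⊤ ≤ Submodule.span k (Set.range b) := by
    have key : ∀ d : ℕ, ∀ f : PowerSeries k, (N : ℕ∞) ≤ order f + d →
        Submodule.Quotient.mk f ∈ Submodule.span k (Set.range b) := by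
      intro d
      induction d with
      | zero =>
        intro f hf
        simp only [Nat.cast_zero, add_zero] at hf
        obtain ⟨g, rfl⟩ := exists_eq_X_pow_mul f N hf
        rw [(Submodule.Quotient.mk_eq_zero V).mpr (hN g)]
        exact zero_mem _
      | succ d ih =>
        intro f hf
        by_cases hfd : (N : ℕ∞) ≤ order f + d
        · exact ih f hfd
        · have hne : order f ≠ ⊤ := by
            intro h
            apply hfd
            rw [h]
            simp
          obtain ⟨n, hn⟩ := ENat.ne_top_iff_exists.mp hne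
          rw [← hn] at hf hfd
          have hf' : N ≤ n + (d + 1) := by exact_mod_cast hf
          have hfd' : ¬ N ≤ n + d := by exact_mod_cast hfd
          by_cases hv : ∃ g ∈ V, order g = (n : ℕ∞)
          · obtain ⟨g, hgV, hg⟩ := hv
            obtain ⟨c, hc⟩ := exists_sub_smul_order_gt f g n (le_of_eq hn) hg
            have h3 := ih (f - c • g) (by
              calc (N : ℕ∞) ≤ ((n + 1 : ℕ) : ℕ∞) + d := by exact_mod_cast (by omega)
                _ ≤ order (f - c • g) + d := by gcongr)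
            have e : (Submodule.Quotient.mk f : PowerSeries k ⧸ V) =
                Submodule.Quotient.mk (f - c • g) := by
              rw [Submodule.Quotient.eq]
              have : f - (f - c • g) = c • g := by abel
              rw [this]
              exact V.smul_mem c hgV
            rw [e]
            exact h3
          · have hns : n ∈ s := by
              rw [hs, Finset.mem_filter, Finset.mem_range]
              exact ⟨by omega, hv⟩
            obtain ⟨c, hc⟩ := exists_sub_smul_order_gt f (X ^ n) n (le_of_eq hn) (order_X_pow n)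
            have h3 := ih (f - c • X ^ n) (by
              calc (N : ℕ∞) ≤ ((n + 1 : ℕ) : ℕ∞) + d := by exact_mod_cast (by omega)
                _ ≤ order (f - c • X ^ n) + d := by gcongr)
            have e : (Submodule.Quotient.mk f : PowerSeries k ⧸ V) =
                Submodule.Quotient.mk (f - c • X ^ n) + c • b ⟨n, hns⟩ := by
              simp only [b]
              rw [← Submodule.Quotient.mk_smul, ← Submodule.Quotient.mk_add]
              congr 1
              abel
            rw [e]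
            exact add_mem h3 (Submodule.smul_mem _ _ (Submodule.subset_span ⟨⟨n, hns⟩, rfl⟩))
    intro x _
    obtain ⟨f, rfl⟩ := Submodule.Quotient.mk_surjective V x
    exact key N f le_add_self
  rw [Module.finrank_eq_card_basis (Module.Basis.mk hli hspan), Fintype.card_coe]

end Dim

section Comb

open Classical in
/-- If `S + Γ ⊆ S` then every gap of `S` is smaller than `#gaps(Γ) + #gaps(S)`. -/
theorem gap_bound (Γ S : Set ℕ) (hΓfin : Γᶜ.Finite) (hSfin : Sᶜ.Finite)
    (hadd : ∀ s ∈ S, ∀ g ∈ Γ, s + g ∈ S) (n : ℕ) (hn : n ∉ S) :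
    n < Γᶜ.ncard + Sᶜ.ncard := by
  classical
  have hAC : ((Finset.range (n + 1)).filter (fun x => x ∈ Γ)).card ≤
      ((Finset.range (n + 1)).filter (fun x => x ∉ S)).card := by
    apply Finset.card_le_card_of_injOn (fun x => n - x)
    · intro x hx
      rw [Finset.mem_coe, Finset.mem_filter, Finset.mem_range] at hx ⊢
      show n - x < n + 1 ∧ n - x ∉ S
      refine ⟨by omega, fun h => hn ?_⟩
      have := hadd _ h x hx.2
      rwa [Nat.sub_add_cancel (by omega)] at this
    · intro x hx y hy hxy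
      rw [Finset.mem_coe, Finset.mem_filter, Finset.mem_range] at hx hy
      simp only at hxy
      omega
  have hB : ((Finset.range (n + 1)).filter (fun x => x ∉ Γ)).card ≤ Γᶜ.ncard := by
    rw [← Set.ncard_coe_finset]
    apply Set.ncard_le_ncard _ hΓfin
    intro x hx
    simp only [Finset.coe_filter, Finset.mem_range, Set.mem_ofPred_eq] at hx
    exact hx.2
  have hC : ((Finset.range (n + 1)).filter (fun x => x ∉ S)).card ≤ Sᶜ.ncard := by
    rw [← Set.ncard_coe_finset]
    apply Set.ncard_le_ncard _ hSfin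
    intro x hx
    simp only [Finset.coe_filter, Finset.mem_range, Set.mem_ofPred_eq] at hx
    exact hx.2
  have hsum := Finset.card_filter_add_card_filter_not (s := Finset.range (n + 1))
    (fun x => x ∈ Γ)
  rw [Finset.card_range] at hsum
  omega

open Classical in
theorem count_shift (S : Set ℕ) (hSfin : Sᶜ.Finite) (e N : ℕ) (he : e ≤ N)
    (hN : ∀ n, n ∉ S → n + e < N) :
    ((Finset.range N).filter (fun n : ℕ => ¬ (e ≤ n ∧ n - e ∈ S))).card = e + Sᶜ.ncard := by
  classical
  have hset : (Finset.range N).filter (fun n : ℕ => ¬ (e ≤ n ∧ n - e ∈ S)) =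
      Finset.range e ∪ (hSfin.toFinset.image (fun g => g + e)) := by
    ext n
    simp only [Finset.mem_filter, Finset.mem_range, Finset.mem_union, Finset.mem_image,
      Set.Finite.mem_toFinset, Set.mem_compl_iff]
    constructor
    · rintro ⟨hnN, h⟩
      by_cases hen : e ≤ n
      · right
        exact ⟨n - e, fun hs => h ⟨hen, hs⟩, by omega⟩
      · left
        omega
    · rintro (h | ⟨g, hg, rfl⟩)
      · exact ⟨by omega, fun h' => by omega⟩
      · refine ⟨hN g hg, fun h' => hg ?_⟩
        have := h'.2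
        rwa [Nat.add_sub_cancel] at this
  rw [hset, Finset.card_union_of_disjoint, Finset.card_range,
    Finset.card_image_of_injective _ (fun a b h => by simpa using h),
    ← Set.ncard_eq_toFinset_card _ hSfin]
  rw [Finset.disjoint_left]
  intro x hx hx'
  rw [Finset.mem_range] at hx
  rw [Finset.mem_image] at hx'
  obtain ⟨g, _, rfl⟩ := hx'
  omega

end Comb

section Embed

open TensorProduct

/-- A finitely generated torsion-free module of rank one over a domain embeds into the domain. -/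
theorem exists_injective_to_ring {A : Type*} [CommRing A] [IsDomain A] {M : Type*}
    [AddCommGroup M] [Module A M] [Module.Finite A M] [NoZeroSMulDivisors A M]
    (hrk : Module.finrank (FractionRing A) (TensorProduct A (FractionRing A) M) = 1) :
    ∃ ψ : M →ₗ[A] A, Function.Injective ψ := by
  classical
  let e : (TensorProduct A (FractionRing A) M) ≃ₗ[FractionRing A] FractionRing A :=
    LinearEquiv.ofFinrankEq _ _ (by rw [hrk, Module.finrank_self])
  have hmk : Function.Injective (TensorProduct.mk A (FractionRing A) M 1) := by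
    rw [IsLocalizedModule.injective_iff_isRegular (nonZeroDivisors A)]
    intro c
    exact smul_right_injective M (nonZeroDivisors.ne_zero c.2)
  let φ : M →ₗ[A] FractionRing A :=
    (e.toLinearMap.restrictScalars A) ∘ₗ (TensorProduct.mk A (FractionRing A) M 1)
  have hφ : Function.Injective φ := e.injective.comp hmk
  obtain ⟨s, hs⟩ := (Module.Finite.fg_top : (⊤ : Submodule A M).FG)
  obtain ⟨d, hd⟩ := IsLocalization.exist_integer_multiples (nonZeroDivisors A) s φ
  have hall : ∀ m : M, ∃ a : A, algebraMap A (FractionRing A) a = (d : A) • φ m := by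
    intro m
    have hm : m ∈ Submodule.span A (s : Set M) := by rw [hs]; trivial
    induction hm using Submodule.span_induction with
    | mem x hx =>
      obtain ⟨a, ha⟩ := hd x hx
      exact ⟨a, ha⟩
    | zero => exact ⟨0, by simp⟩
    | add x y _ _ hx hy =>
      obtain ⟨a, ha⟩ := hx
      obtain ⟨b, hb⟩ := hy
      exact ⟨a + b, by rw [map_add, map_add, smul_add, ha, hb]⟩
    | smul c x _ hx =>
      obtain ⟨a, ha⟩ := hx
      exact ⟨c * a, by rw [map_mul, map_smul, smul_comm, ← ha, Algebra.smul_def]⟩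
  choose ψf hψf using hall
  have hinj := IsFractionRing.injective A (FractionRing A)
  refine ⟨{ toFun := ψf, map_add' := ?_, map_smul' := ?_ }, ?_⟩
  · intro x y
    apply hinj
    rw [map_add, hψf, hψf, hψf, map_add, smul_add]
  · intro c x
    apply hinj
    rw [hψf, RingHom.id_apply, smul_eq_mul, map_mul, hψf, map_smul, smul_comm, Algebra.smul_def]
  · intro x y hxy
    have h1 : (d : A) • φ x = (d : A) • φ y := by
      rw [← hψf, ← hψf]
      exact congrArg _ hxy
    have hd0 : (d : A) ≠ 0 := nonZeroDivisors.ne_zero d.2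
    have h2 : φ x = φ y := by
      rw [Algebra.smul_def, Algebra.smul_def] at h1
      exact mul_left_cancel₀ (fun h => hd0 (hinj (by rw [h, map_zero]))) h1
    exact hφ h2

end Embed

section Curve

variable (A : Subalgebra k (PowerSeries k))

/-- The conductor: a power of `t` carrying `k[[t]]` into `A`. -/
theorem exists_conductor (hA : Module.Finite ↥A (PowerSeries k))
    (hbir : ∀ f : PowerSeries k, ∃ a ∈ A, a ≠ 0 ∧ a * f ∈ A) :
    ∃ c : ℕ, ∀ f : PowerSeries k, X ^ c * f ∈ A := by
  classical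
  obtain ⟨s, hs⟩ := hA.fg_top
  choose a haA ha0 haf using hbir
  have hdA : (∏ g ∈ s, a g) ∈ A := Subalgebra.prod_mem _ (fun g _ => haA g)
  have hd0 : (∏ g ∈ s, a g) ≠ 0 := Finset.prod_ne_zero_iff.mpr (fun g _ => ha0 g)
  have hdg : ∀ g ∈ s, (∏ g ∈ s, a g) * g ∈ A := by
    intro g hg
    rw [← Finset.mul_prod_erase s a hg, mul_right_comm]
    exact A.mul_mem (haf g) (Subalgebra.prod_mem _ (fun g' _ => haA g'))
  have hdall : ∀ f : PowerSeries k, (∏ g ∈ s, a g) * f ∈ A := by
    intro f
    have hf : f ∈ Submodule.span ↥A (s : Set (PowerSeries k)) := by rw [hs]; trivial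
    induction hf using Submodule.span_induction with
    | mem x hx => exact hdg x hx
    | zero => rw [mul_zero]; exact A.zero_mem
    | add x y _ _ hx hy => rw [mul_add]; exact A.add_mem hx hy
    | smul c x _ hx =>
      have : (∏ g ∈ s, a g) * (c • x) = (c : PowerSeries k) * ((∏ g ∈ s, a g) * x) := by
        rw [Subalgebra.smul_def, smul_eq_mul]
        ring
      rw [this]
      exact A.mul_mem c.2 hx
  refine ⟨(order (∏ g ∈ s, a g)).toNat, fun f => ?_⟩
  have hw : IsUnit (divXPowOrder (∏ g ∈ s, a g)) := by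
    rw [isUnit_iff_constantCoeff, isUnit_iff_ne_zero, constantCoeff_divXPowOrder]
    exact coeff_order hd0
  obtain ⟨w, hw⟩ := hw
  have : X ^ (order (∏ g ∈ s, a g)).toNat * f =
      (∏ g ∈ s, a g) * (((w⁻¹ : (PowerSeries k)ˣ) : PowerSeries k) * f) := by
    conv_rhs => rw [← X_pow_order_mul_divXPowOrder (f := ∏ g ∈ s, a g), ← hw]
    rw [mul_assoc, ← mul_assoc (w : PowerSeries k), Units.mul_inv, one_mul]
  rw [this]
  exact hdall _

/-- Normalisation: a nonzero submodule is isomorphic to one containing a unit. -/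
theorem exists_normalized (M₀ : Submodule ↥A (PowerSeries k)) (hM₀ : M₀ ≠ ⊥) :
    ∃ M₁ : Submodule ↥A (PowerSeries k), Nonempty (↥M₀ ≃ₗ[↥A] ↥M₁) ∧
      ∃ u ∈ M₁, order u = 0 := by
  classical
  have hex : ∃ n : ℕ, ∃ g ∈ M₀, order g = (n : ℕ∞) := by
    obtain ⟨g, hg, hg0⟩ := (Submodule.ne_bot_iff M₀).mp hM₀
    have : order g ≠ ⊤ := fun h => hg0 (order_eq_top.mp h)
    obtain ⟨n, hn⟩ := ENat.ne_top_iff_exists.mp this
    exact ⟨n, g, hg, hn.symm⟩
  obtain ⟨g₀, hg₀M, hg₀⟩ := Nat.find_spec hex
  have hmin : ∀ g ∈ M₀, ((Nat.find hex : ℕ) : ℕ∞) ≤ order g := by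
    intro g hg
    by_cases hg0 : order g = ⊤
    · rw [hg0]; exact le_top
    · obtain ⟨n, hn⟩ := ENat.ne_top_iff_exists.mp hg0
      rw [← hn]
      have : Nat.find hex ≤ n := Nat.find_min' hex ⟨g, hg, hn.symm⟩
      exact_mod_cast this
  let μ : PowerSeries k →ₗ[↥A] PowerSeries k := LinearMap.mulLeft ↥A (X ^ Nat.find hex)
  have hμ : ∀ f, μ f = X ^ Nat.find hex * f := fun f => rfl
  have hres : ∀ x ∈ M₀.comap μ, μ x ∈ M₀ := fun x hx => hx
  refine ⟨M₀.comap μ, ⟨(LinearEquiv.ofBijective (μ.restrict hres) ⟨?_, ?_⟩).symm⟩, ?_⟩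
  · intro x y hxy
    have h := congrArg Subtype.val hxy
    simp only [LinearMap.restrict_coe_apply, hμ] at h
    exact Subtype.ext (mul_left_cancel₀ (pow_ne_zero _ X_ne_zero) h)
  · rintro ⟨g, hg⟩
    obtain ⟨f, rfl⟩ := exists_eq_X_pow_mul g _ (hmin g hg)
    exact ⟨⟨f, hg⟩, Subtype.ext rfl⟩
  · obtain ⟨u, rfl⟩ := exists_eq_X_pow_mul g₀ _ (le_of_eq hg₀.symm)
    refine ⟨u, hg₀M, ?_⟩
    rw [order_X_pow_mul] at hg₀
    by_cases hu : order u = ⊤
    · rw [hu] at hg₀
      simp at hg₀
    · obtain ⟨m, hm⟩ := ENat.ne_top_iff_exists.mp hu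
      rw [← hm] at hg₀ ⊢
      have : Nat.find hex + m = Nat.find hex := by exact_mod_cast hg₀
      have : m = 0 := by omega
      rw [this]
      rfl

/-- A subspace containing `t^c k[[t]]` and elements of every order `≥ N₀` contains
`t^{N₀} k[[t]]`. -/
theorem mem_of_order_ge (V : Submodule k (PowerSeries k)) (c N₀ : ℕ)
    (hc : ∀ f : PowerSeries k, X ^ c * f ∈ V)
    (hS : ∀ n : ℕ, N₀ ≤ n → ∃ g ∈ V, order g = (n : ℕ∞)) :
    ∀ f : PowerSeries k, (N₀ : ℕ∞) ≤ order f → f ∈ V := by
  have key : ∀ d : ℕ, ∀ f : PowerSeries k, (N₀ : ℕ∞) ≤ order f → (c : ℕ∞) ≤ order f + d →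
      f ∈ V := by
    intro d
    induction d with
    | zero =>
      intro f _ hf
      simp only [Nat.cast_zero, add_zero] at hf
      obtain ⟨g, rfl⟩ := exists_eq_X_pow_mul f c hf
      exact hc g
    | succ d ih =>
      intro f hfN hf
      by_cases hfd : (c : ℕ∞) ≤ order f + d
      · exact ih f hfN hfd
      · have hne : order f ≠ ⊤ := by
          intro h
          apply hfd
          rw [h]
          simp
        obtain ⟨n, hn⟩ := ENat.ne_top_iff_exists.mp hne
        rw [← hn] at hf hfd hfN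
        have hf' : c ≤ n + (d + 1) := by exact_mod_cast hf
        have hfd' : ¬ c ≤ n + d := by exact_mod_cast hfd
        have hfN' : N₀ ≤ n := by exact_mod_cast hfN
        obtain ⟨g, hgV, hg⟩ := hS n hfN'
        obtain ⟨a, ha⟩ := exists_sub_smul_order_gt f g n (le_of_eq hn) hg
        have h3 := ih (f - a • g)
          (le_trans (by exact_mod_cast (by omega : N₀ ≤ n + 1)) ha) (by
          calc (c : ℕ∞) ≤ ((n + 1 : ℕ) : ℕ∞) + d := by exact_mod_cast (by omega)
            _ ≤ order (f - a • g) + d := by gcongr)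
        have : f = (f - a • g) + a • g := by abel
        rw [this]
        exact V.add_mem h3 (V.smul_mem a hgV)
  intro f hf
  exact key c f hf le_add_self

/-- Core construction: from a submodule containing a unit. -/
theorem exists_lattice_of_unit (c : ℕ) (hc : ∀ f : PowerSeries k, X ^ c * f ∈ A)
    (Γ : Set ℕ) (hΓ : ∀ n : ℕ, n ∈ Γ ↔ ∃ f ∈ A, PowerSeries.order f = n)
    (M₁ : Submodule ↥A (PowerSeries k)) (u : PowerSeries k) (huM : u ∈ M₁) (hu : order u = 0) :
    ∃ M' : Submodule ↥A (PowerSeries k),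
      (Ideal.span {(PowerSeries.X : PowerSeries k) ^ (2 * Γᶜ.ncard)}).restrictScalars ↥A ≤ M' ∧
      Nonempty (↥M₁ ≃ₗ[↥A] ↥M') ∧
      Module.finrank k (PowerSeries k ⧸ M'.restrictScalars k) = Γᶜ.ncard := by
  classical
  obtain ⟨u', hu'⟩ := isUnit_of_order_eq_zero u hu
  -- `t^c k[[t]] ⊆ M₁`
  have hcM : ∀ f : PowerSeries k, X ^ c * f ∈ M₁ := by
    intro f
    have h1 : X ^ c * f = (⟨X ^ c * (((u'⁻¹ : (PowerSeries k)ˣ) : PowerSeries k) * f), hc _⟩ : ↥A) • u := by
      rw [Subalgebra.smul_def, smul_eq_mul, ← hu']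
      rw [mul_assoc, mul_assoc, mul_comm f, ← mul_assoc ((u'⁻¹ : (PowerSeries k)ˣ) : PowerSeries k),
        Units.inv_mul, one_mul]
    rw [h1]
    exact M₁.smul_mem _ huM
  -- value sets
  let S : Set ℕ := {n | ∃ f ∈ M₁, order f = (n : ℕ∞)}
  have hΓS : Γ ⊆ S := by
    intro n hn
    obtain ⟨a, haA, ha⟩ := (hΓ n).mp hn
    refine ⟨(⟨a, haA⟩ : ↥A) • u, M₁.smul_mem _ huM, ?_⟩
    rw [Subalgebra.smul_def, smul_eq_mul, order_mul, hu, add_zero]
    exact ha
  have hadd : ∀ s ∈ S, ∀ g ∈ Γ, s + g ∈ S := by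
    rintro s ⟨f, hfM, hf⟩ g hg
    obtain ⟨a, haA, ha⟩ := (hΓ g).mp hg
    refine ⟨(⟨a, haA⟩ : ↥A) • f, M₁.smul_mem _ hfM, ?_⟩
    rw [Subalgebra.smul_def, smul_eq_mul, order_mul, hf]
    show order a + (s : ℕ∞) = ((s + g : ℕ) : ℕ∞)
    rw [ha]
    push_cast
    rw [add_comm]
  have hXS : ∀ n, c ≤ n → n ∈ S := by
    intro n hn
    refine ⟨X ^ c * X ^ (n - c), hcM _, ?_⟩
    rw [← pow_add, Nat.add_sub_cancel' hn, order_X_pow]
  have hXΓ : ∀ n, c ≤ n → n ∈ Γ := by
    intro n hn
    rw [hΓ]
    refine ⟨X ^ c * X ^ (n - c), hc _, ?_⟩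
    rw [← pow_add, Nat.add_sub_cancel' hn, order_X_pow]
  have hSfin : Sᶜ.Finite := by
    apply (Finset.range c).finite_toSet.subset
    intro n hn
    rw [Finset.mem_coe, Finset.mem_range]
    by_contra h
    exact hn (hXS n (not_lt.mp h))
  have hΓfin : Γᶜ.Finite := by
    apply (Finset.range c).finite_toSet.subset
    intro n hn
    rw [Finset.mem_coe, Finset.mem_range]
    by_contra h
    exact hn (hXΓ n (not_lt.mp h))
  have hℓδ : Sᶜ.ncard ≤ Γᶜ.ncard :=
    Set.ncard_le_ncard (Set.compl_subset_compl.mpr hΓS) hΓfin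
  have hbound : ∀ n, n ∉ S → n < Γᶜ.ncard + Sᶜ.ncard := gap_bound Γ S hΓfin hSfin hadd
  -- `t^{δ+ℓ} k[[t]] ⊆ M₁`
  have hbig : ∀ f : PowerSeries k, X ^ (Γᶜ.ncard + Sᶜ.ncard) * f ∈ M₁ := by
    intro f
    have := mem_of_order_ge (M₁.restrictScalars k) c (Γᶜ.ncard + Sᶜ.ncard)
      (fun f => hcM f)
      (fun n hn => by
        by_contra hcon
        have hnS : n ∉ S := fun ⟨g, hg, hgo⟩ => hcon ⟨g, hg, hgo⟩
        have := hbound n hnS
        omega)
      (X ^ (Γᶜ.ncard + Sᶜ.ncard) * f)
      (by rw [order_X_pow_mul]; exact le_self_add)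
    exact this
  -- shift
  let μ : PowerSeries k →ₗ[↥A] PowerSeries k :=
    LinearMap.mulLeft ↥A (X ^ (Γᶜ.ncard - Sᶜ.ncard))
  have hμ : ∀ f, μ f = X ^ (Γᶜ.ncard - Sᶜ.ncard) * f := fun f => rfl
  have hμinj : Function.Injective μ := fun x y hxy =>
    mul_left_cancel₀ (pow_ne_zero _ X_ne_zero) hxy
  have hmemM' : ∀ f : PowerSeries k, f ∈ M₁.map μ ↔ ∃ g ∈ M₁, X ^ (Γᶜ.ncard - Sᶜ.ncard) * g = f := by
    intro f
    rw [Submodule.mem_map]
    rfl
  have hbigM' : ∀ f : PowerSeries k, X ^ (2 * Γᶜ.ncard) * f ∈ M₁.map μ := by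
    intro f
    rw [hmemM']
    refine ⟨X ^ (Γᶜ.ncard + Sᶜ.ncard) * f, hbig f, ?_⟩
    rw [← mul_assoc, ← pow_add]
    congr 2
    omega
  refine ⟨M₁.map μ, ?_, ⟨Submodule.equivMapOfInjective μ hμinj M₁⟩, ?_⟩
  · intro f hf
    rw [Submodule.restrictScalars_mem, Ideal.mem_span_singleton'] at hf
    obtain ⟨g, rfl⟩ := hf
    rw [mul_comm]
    exact hbigM' g
  · rw [finrank_quotient ((M₁.map μ).restrictScalars k) (2 * Γᶜ.ncard) (fun f => hbigM' f)]
    have hval : ∀ n : ℕ, (∃ f ∈ (M₁.map μ).restrictScalars k, order f = (n : ℕ∞)) ↔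
        (Γᶜ.ncard - Sᶜ.ncard ≤ n ∧ n - (Γᶜ.ncard - Sᶜ.ncard) ∈ S) := by
      intro n
      constructor
      · rintro ⟨f, hf, hfo⟩
        rw [Submodule.restrictScalars_mem, hmemM'] at hf
        obtain ⟨g, hg, rfl⟩ := hf
        rw [order_X_pow_mul] at hfo
        by_cases hgo : order g = ⊤
        · rw [hgo] at hfo
          simp at hfo
        · obtain ⟨j, hj⟩ := ENat.ne_top_iff_exists.mp hgo
          rw [← hj] at hfo
          have hnj : Γᶜ.ncard - Sᶜ.ncard + j = n := by exact_mod_cast hfo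
          refine ⟨by omega, g, hg, ?_⟩
          rw [← hj]
          congr 1
          omega
      · rintro ⟨hle, g, hg, hgo⟩
        refine ⟨X ^ (Γᶜ.ncard - Sᶜ.ncard) * g, ?_, ?_⟩
        · rw [Submodule.restrictScalars_mem, hmemM']
          exact ⟨g, hg, rfl⟩
        · rw [order_X_pow_mul, hgo]
          norm_cast
          omega
    rw [Finset.filter_congr (fun n _ => not_congr (hval n))]
    rw [count_shift S hSfin (Γᶜ.ncard - Sᶜ.ncard) (2 * Γᶜ.ncard) (by omega)
      (fun n hn => by have := hbound n hn; omega)]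
    omega

/-- Main theorem (S15023). -/
theorem main (hA : Module.Finite ↥A (PowerSeries k))
    (hbir : ∀ f : PowerSeries k, ∃ a ∈ A, a ≠ 0 ∧ a * f ∈ A)
    (Γ : Set ℕ) (hΓ : ∀ n : ℕ, n ∈ Γ ↔ ∃ f ∈ A, PowerSeries.order f = n)
    (M : Type u) [AddCommGroup M] [Module ↥A M] [Module.Finite ↥A M] [NoZeroSMulDivisors ↥A M]
    (hrk : Module.finrank (FractionRing ↥A) (TensorProduct ↥A (FractionRing ↥A) M) = 1) :
    ∃ M' : Submodule ↥A (PowerSeries k),
      (Ideal.span {(PowerSeries.X : PowerSeries k) ^ (2 * Γᶜ.ncard)}).restrictScalars ↥A ≤ M' ∧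
      Nonempty (M ≃ₗ[↥A] ↥M') ∧
      Module.finrank k (PowerSeries k ⧸ M'.restrictScalars k) = Γᶜ.ncard := by
  obtain ⟨c, hc⟩ := exists_conductor A hA hbir
  obtain ⟨ψ, hψ⟩ := exists_injective_to_ring (A := ↥A) (M := M) hrk
  let ι : M →ₗ[↥A] PowerSeries k := (Algebra.linearMap ↥A (PowerSeries k)) ∘ₗ ψ
  have hι : Function.Injective ι := Subtype.val_injective.comp hψ
  have hM0 : LinearMap.range ι ≠ ⊥ := by
    intro h
    have hsub : Subsingleton M := by
      refine ⟨fun x y => hι ?_⟩
      have hx : ι x ∈ LinearMap.range ι := ⟨x, rfl⟩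
      have hy : ι y ∈ LinearMap.range ι := ⟨y, rfl⟩
      rw [h, Submodule.mem_bot] at hx hy
      rw [hx, hy]
    have : Module.finrank (FractionRing ↥A) (TensorProduct ↥A (FractionRing ↥A) M) = 0 :=
      Module.finrank_zero_of_subsingleton
    omega
  obtain ⟨M₁, ⟨e₁⟩, u, huM, hu⟩ := exists_normalized A (LinearMap.range ι) hM0
  obtain ⟨M', h1, ⟨e₂⟩, h3⟩ := exists_lattice_of_unit A c hc Γ hΓ M₁ u huM hu
  exact ⟨M', h1, ⟨((LinearEquiv.ofInjective ι hι).trans e₁).trans e₂⟩, h3⟩

end Curve

end Groth.Agent.Lib.R2H7.CurveMod
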