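import Mathlib
import Groth.Agent.Lib.R2H7CurveMod

/-!
# Closed subalgebras of `k⟦t⟧` with finite normalization (ring-theoretic facts)

`A ⊆ k⟦t⟧` a `k`-subalgebra, `t`-adically closed, with `k⟦t⟧` finite over `A`, value semigroup `Γ`
with conductor `c`.  Then `t^c k⟦t⟧ ⊆ A`, `A` is a one-dimensional Noetherian local domain with
fraction field `Frac k⟦t⟧`.
-/

set_option autoImplicit false
set_option linter.style.haveILetI false
set_option linter.unusedSectionVars false
universe u

namespace Groth.Agent.Lib.R2H7.CanDualPS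

open PowerSeries Groth.Agent.Lib.R2H7

variable {k : Type u} [Field k] (A : Subalgebra k (PowerSeries k))

/-- `t`-adic closedness -/
def IsClosedSub : Prop :=
  ∀ f : PowerSeries k, (∀ n : ℕ, ∃ g ∈ A, (n : ℕ∞) ≤ PowerSeries.order (f - g)) → f ∈ A

variable {A}

theorem mem_of_order_ge (hcl : IsClosedSub A) (c : ℕ)
    (hc : ∀ n : ℕ, c ≤ n → ∃ f ∈ A, PowerSeries.order f = n) (f : PowerSeries k)
    (hf : (c : ℕ∞) ≤ order f) : f ∈ A := by
  apply hcl
  intro N
  induction N with
  | zero => exact ⟨0, A.zero_mem, by simp⟩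
  | succ N ih =>
    obtain ⟨g, hg, hgN⟩ := ih
    by_cases hNc : N < c
    · refine ⟨0, A.zero_mem, ?_⟩
      rw [sub_zero]
      refine le_trans ?_ hf
      exact_mod_cast hNc
    · push Not at hNc
      obtain ⟨a, haA, haN⟩ := hc N hNc
      obtain ⟨l, hl⟩ := CurveMod.exists_sub_smul_order_gt (f - g) a N hgN haN
      exact ⟨g + l • a, A.add_mem hg (A.smul_mem haA l), by rw [← sub_sub]; exact hl⟩

theorem X_pow_mul_mem (hcl : IsClosedSub A) (c : ℕ)
    (hc : ∀ n : ℕ, c ≤ n → ∃ f ∈ A, PowerSeries.order f = n) (f : PowerSeries k) :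
    X ^ c * f ∈ A := by
  apply mem_of_order_ge hcl c hc
  rw [CurveMod.order_X_pow_mul]
  exact le_self_add

/-- inverses of units of `k⟦t⟧` lying in `A` are in `A` -/
theorem inv_mem (hcl : IsClosedSub A) {a : PowerSeries k} (ha : a ∈ A) (h0 : order a = 0) :
    ∃ b ∈ A, a * b = 1 := by
  have hu : IsUnit a := CurveMod.isUnit_of_order_eq_zero a h0
  obtain ⟨b, hab⟩ := hu.exists_right_inv
  refine ⟨b, ?_, hab⟩
  have ha0 : constantCoeff a ≠ 0 := by
    intro h
    have : (1 : ℕ∞) ≤ order a := by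
      have := nat_le_order a 1 (by
        intro i hi
        have : i = 0 := by omega
        subst this
        rwa [coeff_zero_eq_constantCoeff])
      exact_mod_cast this
    rw [h0] at this
    exact absurd this (by norm_num)
  set a₀ := constantCoeff a with ha₀
  set x : PowerSeries k := 1 - a₀⁻¹ • a with hx
  have hxA : x ∈ A := A.sub_mem A.one_mem (A.smul_mem ha _)
  have hx0 : constantCoeff x = 0 := by
    rw [hx, map_sub, map_one, PowerSeries.smul_eq_C_mul, map_mul, constantCoeff_C, ← ha₀,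
      inv_mul_cancel₀ ha0, sub_self]
  have hxord : ∀ N : ℕ, (N : ℕ∞) ≤ order (x ^ N) := by
    intro N
    have h1 : (1 : ℕ∞) ≤ order x := by
      have := nat_le_order x 1 (by
        intro i hi
        have : i = 0 := by omega
        subst this
        rwa [coeff_zero_eq_constantCoeff])
      exact_mod_cast this
    calc (N : ℕ∞) = N • (1 : ℕ∞) := by simp
      _ ≤ N • order x := nsmul_le_nsmul_right h1 N
      _ ≤ order (x ^ N) := le_order_pow x N
  have hax : a = a₀ • (1 - x) := by
    rw [hx, sub_sub_cancel, smul_smul, mul_inv_cancel₀ ha0, one_smul]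
  apply hcl
  intro N
  refine ⟨a₀⁻¹ • ∑ i ∈ Finset.range N, x ^ i, A.smul_mem (A.sum_mem fun i _ => A.pow_mem hxA i) _, ?_⟩
  have hgeom : (∑ i ∈ Finset.range N, x ^ i) * (1 - x) = 1 - x ^ N := geom_sum_mul_neg x N
  have hkey : b - a₀⁻¹ • ∑ i ∈ Finset.range N, x ^ i = (a₀⁻¹ • b) * (a₀ • x ^ N) - 0 := by
    have h1 : a₀⁻¹ • ∑ i ∈ Finset.range N, x ^ i =
        (a₀⁻¹ • ∑ i ∈ Finset.range N, x ^ i) * (a * b) := by rw [hab, mul_one]
    rw [h1, hax, sub_zero]
    have h2 : (a₀⁻¹ • ∑ i ∈ Finset.range N, x ^ i) * (a₀ • (1 - x) * b) =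
        ((∑ i ∈ Finset.range N, x ^ i) * (1 - x)) * b := by
      rw [smul_mul_assoc, smul_mul_assoc, mul_smul_comm, smul_smul, inv_mul_cancel₀ ha0, one_smul,
        mul_assoc]
    rw [h2, hgeom, smul_mul_assoc, mul_smul_comm, smul_smul, inv_mul_cancel₀ ha0, one_smul]
    ring
  rw [hkey, sub_zero, smul_mul_assoc, mul_smul_comm, smul_smul, inv_mul_cancel₀ ha0, one_smul]
  calc (N : ℕ∞) ≤ order (x ^ N) := hxord N
    _ ≤ order b + order (x ^ N) := le_add_self
    _ ≤ order (b * x ^ N) := le_order_mul _ _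

theorem isUnit_iff (hcl : IsClosedSub A) (a : ↥A) : IsUnit a ↔ order a.1 = 0 := by
  constructor
  · intro h
    exact order_zero_of_unit (h.map A.val)
  · intro h
    obtain ⟨b, hb, hab⟩ := inv_mem hcl a.2 h
    exact IsUnit.of_mul_eq_one ⟨b, hb⟩ (Subtype.ext hab)

theorem isLocalRing (hcl : IsClosedSub A) : IsLocalRing ↥A := by
  apply IsLocalRing.of_nonunits_add
  intro a b ha hb
  rw [mem_nonunits_iff, isUnit_iff hcl] at ha hb ⊢
  have h1 : ∀ x : PowerSeries k, order x ≠ 0 → (1 : ℕ∞) ≤ order x := fun x hx =>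
    Order.one_le_iff_ne_zero.mpr hx
  have := le_trans (le_min (h1 _ ha) (h1 _ hb)) (min_order_le_order_add a.1 b.1)
  intro h0
  have h2 : order (a.1 + b.1) = 0 := h0
  rw [h2] at this
  exact absurd this (by norm_num)

/-- multiplication by `X ^ N` as an `A`-linear map -/
noncomputable def mulX (A : Subalgebra k (PowerSeries k)) (N : ℕ) :
    PowerSeries k →ₗ[↥A] PowerSeries k :=
  (LinearMap.mulLeft (PowerSeries k) (X ^ N)).restrictScalars ↥A

theorem mulX_apply (N : ℕ) (f : PowerSeries k) : mulX A N f = X ^ N * f := rfl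

theorem range_mulX_fg (hA : Module.Finite ↥A (PowerSeries k)) (N : ℕ) :
    (LinearMap.range (mulX A N)).FG := by
  rw [← Submodule.map_top]
  exact (Module.Finite.fg_top).map _

theorem mem_range_mulX {N : ℕ} {f : PowerSeries k} :
    f ∈ LinearMap.range (mulX A N) ↔ (N : ℕ∞) ≤ order f := by
  constructor
  · rintro ⟨g, rfl⟩
    rw [mulX_apply, CurveMod.order_X_pow_mul]
    exact le_self_add
  · intro h
    obtain ⟨g, rfl⟩ := CurveMod.exists_eq_X_pow_mul f N h
    exact ⟨g, rfl⟩

/-- every `A`-submodule of `k⟦t⟧` is finitely generated -/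
theorem submodule_fg (hA : Module.Finite ↥A (PowerSeries k)) (hcl : IsClosedSub A) (c : ℕ)
    (hc : ∀ n : ℕ, c ≤ n → ∃ f ∈ A, PowerSeries.order f = n)
    (S : Submodule ↥A (PowerSeries k)) : S.FG := by
  classical
  by_cases hS : S = ⊥
  · rw [hS]; exact Submodule.fg_bot
  obtain ⟨s₀, hs₀S, hs₀⟩ := (Submodule.ne_bot_iff S).mp hS
  obtain ⟨j, hj⟩ : ∃ j : ℕ, order s₀ = j := by
    have : order s₀ ≠ ⊤ := fun h => hs₀ (order_eq_top.mp h)
    exact ⟨(order s₀).toNat, (ENat.natCast_toNat this).symm⟩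
  set N := j + c with hN
  -- the range of multiplication by X^N lies in S
  have hNS : LinearMap.range (mulX A N) ≤ S := by
    rintro _ ⟨f, rfl⟩
    obtain ⟨u, hu⟩ := CurveMod.exists_eq_X_pow_mul s₀ j (le_of_eq hj.symm)
    have hu0 : order u = 0 := by
      have h1 : order s₀ = (j : ℕ∞) + order u := by rw [hu, CurveMod.order_X_pow_mul]
      rw [hj] at h1
      have h2 : (j : ℕ∞) + 0 = (j : ℕ∞) + order u := by rw [add_zero]; exact h1
      exact (WithTop.add_left_cancel (ENat.natCast_ne_top j) h2).symm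
    obtain ⟨v, huv⟩ := (CurveMod.isUnit_of_order_eq_zero u hu0).exists_right_inv
    have hmem : X ^ c * (v * f) ∈ A := X_pow_mul_mem hcl c hc _
    have : mulX A N f = (⟨_, hmem⟩ : ↥A) • s₀ := by
      rw [mulX_apply]
      show X ^ N * f = (X ^ c * (v * f)) * s₀
      rw [hN, pow_add]
      rw [hu]
      calc X ^ j * X ^ c * f = X ^ j * X ^ c * f * (u * v) := by rw [huv, mul_one]
        _ = X ^ c * (v * f) * (X ^ j * u) := by ring
    rw [this]
    exact S.smul_mem _ hs₀S
  -- choose elements of each order below N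
  let J : Finset ℕ := (Finset.range N).filter (fun i => ∃ s ∈ S, order s = (i : ℕ∞))
  have hJ : ∀ i ∈ J, ∃ s ∈ S, order s = (i : ℕ∞) := fun i hi => (Finset.mem_filter.mp hi).2
  choose! σ hσS hσord using hJ
  let T : Submodule ↥A (PowerSeries k) :=
    LinearMap.range (mulX A N) ⊔ Submodule.span ↥A (σ '' (J : Set ℕ))
  have hTfg : T.FG :=
    (range_mulX_fg hA N).sup (Submodule.fg_span ((Finset.finite_toSet J).image σ))
  have hTS : T ≤ S := by
    apply sup_le hNS
    rw [Submodule.span_le]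
    rintro _ ⟨i, hi, rfl⟩
    exact hσS i hi
  have hST : ∀ d : ℕ, ∀ s ∈ S, (N : ℕ∞) ≤ order s + d → s ∈ T := by
    intro d
    induction d with
    | zero =>
      intro s _ hs
      rw [Nat.cast_zero, add_zero] at hs
      exact Submodule.mem_sup_left (mem_range_mulX.mpr hs)
    | succ d ih =>
      intro s hsS hs
      by_cases hs0 : s = 0
      · rw [hs0]; exact T.zero_mem
      obtain ⟨i, hi⟩ : ∃ i : ℕ, order s = i := by
        have : order s ≠ ⊤ := fun h => hs0 (order_eq_top.mp h)
        exact ⟨(order s).toNat, (ENat.natCast_toNat this).symm⟩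
      by_cases hiN : N ≤ i
      · exact Submodule.mem_sup_left (mem_range_mulX.mpr (by rw [hi]; exact_mod_cast hiN))
      · push Not at hiN
        have hiJ : i ∈ J := Finset.mem_filter.mpr ⟨Finset.mem_range.mpr hiN, s, hsS, hi⟩
        obtain ⟨l, hl⟩ := CurveMod.exists_sub_smul_order_gt s (σ i) i (le_of_eq hi.symm)
          (hσord i hiJ)
        have hlA : l • σ i = (algebraMap k ↥A l) • σ i := by
          rw [Algebra.smul_def, Algebra.smul_def]
          rfl
        have hmemS : s - l • σ i ∈ S := by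
          rw [hlA]
          exact S.sub_mem hsS (S.smul_mem _ (hσS i hiJ))
        have hmemT : s - l • σ i ∈ T := by
          apply ih _ hmemS
          rw [hi] at hs
          have h1 : (N : ℕ∞) ≤ ((i + 1 : ℕ) : ℕ∞) + d := by
            have : ((i : ℕ∞) + ((d + 1 : ℕ) : ℕ∞)) = ((i + 1 : ℕ) : ℕ∞) + d := by
              push_cast
              ring
            rw [← this]
            exact hs
          exact le_trans h1 (add_le_add hl le_rfl)
        have hσT : l • σ i ∈ T := by
          rw [hlA]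
          exact T.smul_mem _ (Submodule.mem_sup_right (Submodule.subset_span ⟨i, hiJ, rfl⟩))
        have : s = (s - l • σ i) + l • σ i := by ring
        rw [this]
        exact T.add_mem hmemT hσT
  have hSeq : S = T := by
    apply le_antisymm _ hTS
    intro s hs
    by_cases hs0 : s = 0
    · rw [hs0]; exact T.zero_mem
    exact hST N s hs le_add_self
  rw [hSeq]
  exact hTfg

theorem isNoetherian_powerSeries (hA : Module.Finite ↥A (PowerSeries k)) (hcl : IsClosedSub A)
    (c : ℕ) (hc : ∀ n : ℕ, c ≤ n → ∃ f ∈ A, PowerSeries.order f = n) :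
    IsNoetherian ↥A (PowerSeries k) :=
  isNoetherian_def.mpr (submodule_fg hA hcl c hc)

theorem isNoetherianRing (hA : Module.Finite ↥A (PowerSeries k)) (hcl : IsClosedSub A)
    (c : ℕ) (hc : ∀ n : ℕ, c ≤ n → ∃ f ∈ A, PowerSeries.order f = n) :
    IsNoetherianRing ↥A := by
  haveI := isNoetherian_powerSeries hA hcl c hc
  exact isNoetherian_of_injective (Algebra.linearMap ↥A (PowerSeries k))
    (fun a b h => Subtype.ext h)

theorem krullDimLE_one (hA : Module.Finite ↥A (PowerSeries k)) : Ring.KrullDimLE 1 ↥A := by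
  haveI : Algebra.IsIntegral ↥A (PowerSeries k) := Algebra.IsIntegral.of_finite _ _
  apply Ring.KrullDimLE.mk₁'
  intro I hI0 hIp
  obtain ⟨Q, -, hQp, hQI⟩ := Ideal.exists_ideal_over_prime_of_isIntegral I
    (⊥ : Ideal (PowerSeries k)) (by
      intro x hx
      rw [Ideal.mem_comap, Ideal.mem_bot] at hx
      have : x = 0 := Subtype.ext hx
      rw [this]
      exact I.zero_mem)
  have hQ0 : Q ≠ ⊥ := by
    intro h
    apply hI0
    rw [← hQI, h, eq_bot_iff]
    intro x hx
    rw [Ideal.mem_comap, Ideal.mem_bot] at hx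
    rw [Ideal.mem_bot]
    exact Subtype.ext hx
  haveI : Q.IsMaximal := hQp.isMaximal hQ0
  rw [← hQI]
  exact Ideal.isMaximal_comap_of_isIntegral_of_isMaximal Q

theorem not_isField (hcl : IsClosedSub A) (c : ℕ) (hc0 : c ≠ 0)
    (hc : ∀ n : ℕ, c ≤ n → ∃ f ∈ A, PowerSeries.order f = n) : ¬ IsField ↥A := by
  intro hF
  obtain ⟨f, hfA, hford⟩ := hc c le_rfl
  have hf0 : (⟨f, hfA⟩ : ↥A) ≠ 0 := by
    intro h
    have : f = 0 := congrArg Subtype.val h
    rw [this, order_zero] at hford
    exact absurd hford (by simp)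
  obtain ⟨g, hg⟩ := hF.mul_inv_cancel hf0
  have hu : IsUnit (⟨f, hfA⟩ : ↥A) := IsUnit.of_mul_eq_one g hg
  rw [isUnit_iff hcl] at hu
  rw [hford] at hu
  exact hc0 (by exact_mod_cast hu)

section Frac

variable (K : Type u) [Field K] [Algebra (PowerSeries k) K] [IsFractionRing (PowerSeries k) K]

theorem isFractionRing (hcl : IsClosedSub A) (c : ℕ)
    (hc : ∀ n : ℕ, c ≤ n → ∃ f ∈ A, PowerSeries.order f = n) : IsFractionRing ↥A K := by
  have hinj : Function.Injective (algebraMap ↥A K) := by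
    intro a b h
    apply Subtype.ext
    exact IsFractionRing.injective (PowerSeries k) K h
  haveI : FaithfulSMul ↥A K := (faithfulSMul_iff_algebraMap_injective ↥A K).mpr hinj
  apply IsFractionRing.of_field
  intro z
  obtain ⟨p, q, hq, hpq⟩ := IsFractionRing.div_surjective (A := PowerSeries k) z
  have hq0 : algebraMap (PowerSeries k) K q ≠ 0 := by
    intro h0
    exact (nonZeroDivisors.ne_zero hq)
      ((IsFractionRing.injective (PowerSeries k) K) (h0.trans (map_zero _).symm))
  have hX0 : algebraMap (PowerSeries k) K (X ^ c) ≠ 0 := by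
    intro h0
    exact (pow_ne_zero c X_ne_zero)
      ((IsFractionRing.injective (PowerSeries k) K) (h0.trans (map_zero _).symm))
  refine ⟨⟨X ^ c * p, X_pow_mul_mem hcl c hc p⟩, ⟨X ^ c * q, X_pow_mul_mem hcl c hc q⟩, ?_⟩
  show z = algebraMap (PowerSeries k) K (X ^ c * p) / algebraMap (PowerSeries k) K (X ^ c * q)
  rw [map_mul, map_mul, ← hpq]
  field_simp

end Frac

end Groth.Agent.Lib.R2H7.CanDualPS
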