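/-
Length over a local ring with a coefficient field equals the dimension over that field.
-/
import Mathlib

set_option autoImplicit false
universe u v w

namespace Groth.Agent.Lib.R2H7.CoeffLength

open IsLocalRing

section lengthL

variable {k : Type v} {A : Type u} [Field k] [CommRing A] [IsLocalRing A] [Algebra k A]
  (hk : Function.Surjective (residue A ∘ algebraMap k A))

include hk in
/-- The residue field is one-dimensional over the coefficient field. -/
theorem finrank_quot_maximal : Module.finrank k (A ⧸ maximalIdeal A) = 1 := by
  have hbij : Function.Bijective (Algebra.linearMap k (A ⧸ maximalIdeal A)) := by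
    constructor
    · exact (algebraMap k (A ⧸ maximalIdeal A)).injective
    · intro y
      obtain ⟨c, hc⟩ := hk y
      exact ⟨c, hc⟩
  rw [← (LinearEquiv.ofBijective _ hbij).finrank_eq, Module.finrank_self]

include hk in
/-- Over a local ring with coefficient field `k`, the length of a module of finite length is its
dimension over `k`. -/
theorem finite_and_finrank_eq (d : ℕ) : ∀ (M : Type w) [AddCommGroup M] [Module A M] [Module k M]
    [IsScalarTower k A M], Module.length A M = d → Module.Finite k M ∧ Module.finrank k M = d := by
  induction d with
  | zero =>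
    intro M _ _ _ _ h
    rw [Nat.cast_zero, Module.length_eq_zero_iff] at h
    exact ⟨inferInstance, Module.finrank_zero_of_subsingleton⟩
  | succ d ih =>
    intro M _ _ _ _ h
    have hfl : IsFiniteLength A M := Module.length_ne_top_iff.mp (by rw [h]; exact ENat.natCast_ne_top _)
    obtain ⟨hnoeth, hart⟩ := isFiniteLength_iff_isNoetherian_isArtinian.mp hfl
    have hnt : Nontrivial M := Module.length_pos_iff.mp (by
      rw [h]; exact_mod_cast Nat.succ_pos d)
    have hbt : (⊥ : Submodule A M) ≠ ⊤ := bot_ne_top
    obtain ⟨N, hN, -⟩ := (IsCoatomic.eq_top_or_exists_le_coatom (⊥ : Submodule A M)).resolve_left hbt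
    have hsimple : IsSimpleModule A (M ⧸ N) := isSimpleModule_iff_isCoatom.mpr hN
    have hlen := Module.length_eq_add_of_exact N.subtype N.mkQ N.injective_subtype
      N.mkQ_surjective (LinearMap.exact_subtype_mkQ N)
    rw [Module.length_eq_one (R := A) (M := M ⧸ N), h] at hlen
    have hNlen : Module.length A N = d := by
      have hne : Module.length A N ≠ ⊤ := by
        intro htop
        rw [htop, top_add] at hlen
        exact ENat.natCast_ne_top _ hlen
      obtain ⟨e, he⟩ := ENat.ne_top_iff_exists.mp hne
      rw [← he] at hlen ⊢
      have : d + 1 = e + 1 := by exact_mod_cast hlen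
      have : e = d := by omega
      rw [this]
    obtain ⟨hNfin, hNrank⟩ := ih N hNlen
    obtain ⟨I, hI, ⟨eI⟩⟩ := isSimpleModule_iff_quot_maximal.mp hsimple
    have hIm : I = maximalIdeal A := IsLocalRing.eq_maximalIdeal hI
    subst hIm
    have hq1 : Module.finrank k (M ⧸ N) = 1 := by
      rw [(eI.restrictScalars k).finrank_eq]
      exact finrank_quot_maximal hk
    have hqfin : Module.Finite k (M ⧸ N) := Module.finite_of_finrank_pos (by rw [hq1]; exact one_pos)
    have hNfin' : Module.Finite k (N.restrictScalars k) := hNfin
    have hqfin' : Module.Finite k (M ⧸ N.restrictScalars k) :=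
      Module.Finite.equiv (Submodule.Quotient.restrictScalarsEquiv k N).symm
    have hMfin : Module.Finite k M := Module.Finite.of_submodule_quotient (N.restrictScalars k)
    refine ⟨hMfin, ?_⟩
    have h1 := Submodule.finrank_quotient_add_finrank (N.restrictScalars k)
    have h2 : Module.finrank k (M ⧸ N.restrictScalars k) = 1 := by
      rw [(Submodule.Quotient.restrictScalarsEquiv k N).finrank_eq]
      exact hq1
    have h3 : Module.finrank k (N.restrictScalars k) = d := hNrank
    rw [h2, h3] at h1
    omega

end lengthL

end Groth.Agent.Lib.R2H7.CoeffLength
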