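/-
Monomial calculus in `k⟦X⟧`: power series with support in a set `S ⊆ ℕ`; monomial subalgebras
`A = {f | supp f ⊆ Γ}` are local with residue field `k`; relative lengths of monomial `A`-submodules
are cardinalities of differences of supports; spans of monomials.  (helper7)
-/
import Mathlib
import Groth.Agent.Lib.R2H7CanDualA
import Groth.Agent.Lib.R2H7CanDualPSA
import Groth.Agent.Lib.R2H7CoeffLength

set_option autoImplicit false

noncomputable section

namespace Groth.Agent.Lib.R2H7.MonoLen

open PowerSeries Groth.Agent.Lib.R2H7.CanDual Groth.Agent.Lib.R2H7.CanDualPS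

universe u

variable {k : Type u} [Field k]

/-- the support of `f` is contained in `S` -/
def SuppIn (S : Set ℕ) (f : PowerSeries k) : Prop := ∀ n, coeff n f ≠ 0 → n ∈ S

/-- sumset -/
def addSet (S T : Set ℕ) : Set ℕ := {d | ∃ s ∈ S, ∃ t ∈ T, s + t = d}

theorem SuppIn.mono {S T : Set ℕ} (h : S ⊆ T) {f : PowerSeries k} (hf : SuppIn S f) :
    SuppIn T f := fun n hn => h (hf n hn)

theorem SuppIn.coeff_eq_zero {S : Set ℕ} {f : PowerSeries k} (hf : SuppIn S f) {n : ℕ}
    (hn : n ∉ S) : coeff n f = 0 := by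
  by_contra h
  exact hn (hf n h)

theorem suppIn_zero (S : Set ℕ) : SuppIn S (0 : PowerSeries k) := fun n hn => by simp at hn

theorem SuppIn.add {S : Set ℕ} {f g : PowerSeries k} (hf : SuppIn S f) (hg : SuppIn S g) :
    SuppIn S (f + g) := by
  intro n hn
  by_contra h
  apply hn
  rw [map_add, hf.coeff_eq_zero h, hg.coeff_eq_zero h, add_zero]

theorem SuppIn.neg {S : Set ℕ} {f : PowerSeries k} (hf : SuppIn S f) : SuppIn S (-f) := by
  intro n hn
  apply hf n
  rw [map_neg] at hn
  exact fun h => hn (by rw [h, neg_zero])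

theorem SuppIn.smul {S : Set ℕ} {f : PowerSeries k} (hf : SuppIn S f) (c : k) :
    SuppIn S (c • f) := by
  intro n hn
  apply hf n
  rw [coeff_smul] at hn
  exact fun h => hn (by rw [h, smul_zero])

theorem suppIn_X_pow {S : Set ℕ} {a : ℕ} : SuppIn S ((X : PowerSeries k) ^ a) ↔ a ∈ S := by
  constructor
  · intro h
    apply h a
    rw [coeff_X_pow, if_pos rfl]
    exact one_ne_zero
  · intro h n hn
    rw [coeff_X_pow] at hn
    by_cases hna : n = a
    · rw [hna]; exact h
    · rw [if_neg hna] at hn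
      exact absurd rfl hn

theorem SuppIn.mul {S T : Set ℕ} {f g : PowerSeries k} (hf : SuppIn S f) (hg : SuppIn T g) :
    SuppIn (addSet S T) (f * g) := by
  intro n hn
  rw [coeff_mul] at hn
  obtain ⟨p, hp, hpne⟩ := Finset.exists_ne_zero_of_sum_ne_zero hn
  have h1 : coeff p.1 f ≠ 0 := left_ne_zero_of_mul hpne
  have h2 : coeff p.2 g ≠ 0 := right_ne_zero_of_mul hpne
  exact ⟨p.1, hf _ h1, p.2, hg _ h2, Finset.HasAntidiagonal.mem_antidiagonal.mp hp⟩

/-- shifting supports -/
theorem suppIn_X_pow_mul {S : Set ℕ} (c : ℕ) (y : PowerSeries k) :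
    SuppIn S (X ^ c * y) ↔ ∀ n, coeff n y ≠ 0 → c + n ∈ S := by
  constructor
  · intro h n hn
    apply h (c + n)
    rw [coeff_X_pow_mul', if_pos (Nat.le_add_right _ _), Nat.add_sub_cancel_left]
    exact hn
  · intro h n hn
    rw [coeff_X_pow_mul'] at hn
    by_cases hcn : c ≤ n
    · rw [if_pos hcn] at hn
      have := h _ hn
      rwa [Nat.add_sub_cancel' hcn] at this
    · rw [if_neg hcn] at hn
      exact absurd rfl hn

theorem exists_eq_X_pow_mul {S T : Set ℕ} (c : ℕ) (hT : ∀ d, d ∈ T → ∃ t ∈ S, d = c + t)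
    (hS : ∀ t ∈ S, c + t ∈ T)
    {z : PowerSeries k} (hz : SuppIn T z) : ∃ y : PowerSeries k, SuppIn S y ∧ z = X ^ c * y := by
  have hdvd : (X : PowerSeries k) ^ c ∣ z := by
    rw [X_pow_dvd_iff]
    intro m hm
    by_contra h
    obtain ⟨t, -, ht⟩ := hT m (hz m h)
    omega
  obtain ⟨y, rfl⟩ := hdvd
  refine ⟨y, ?_, rfl⟩
  intro n hn
  have := hz (c + n) (by
    rw [coeff_X_pow_mul', if_pos (Nat.le_add_right _ _), Nat.add_sub_cancel_left]
    exact hn)
  obtain ⟨t, ht, hct⟩ := hT _ this
  have : n = t := by omega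
  rw [this]
  exact ht

section Mono

variable (A : Subalgebra k (PowerSeries k)) (Γ : Set ℕ) (hA : ∀ f, f ∈ A ↔ SuppIn Γ f)

include hA in
theorem zero_mem_Γ : 0 ∈ Γ := by
  have h1 : SuppIn Γ (1 : PowerSeries k) := (hA 1).mp A.one_mem
  have := (suppIn_X_pow (k := k) (S := Γ) (a := 0))
  rw [pow_zero] at this
  exact this.mp h1

include hA in
theorem add_mem_Γ {s t : ℕ} (hs : s ∈ Γ) (ht : t ∈ Γ) : s + t ∈ Γ := by
  have h1 : (X : PowerSeries k) ^ s ∈ A := (hA _).mpr (suppIn_X_pow.mpr hs)
  have h2 : (X : PowerSeries k) ^ t ∈ A := (hA _).mpr (suppIn_X_pow.mpr ht)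
  have := A.mul_mem h1 h2
  rw [← pow_add] at this
  exact suppIn_X_pow.mp ((hA _).mp this)

include hA in
theorem isClosedSub : IsClosedSub A := by
  intro f hf
  rw [hA]
  intro n hn
  obtain ⟨g, hg, hgn⟩ := hf (n + 1)
  have h0 : coeff n (f - g) = 0 := by
    apply coeff_of_lt_order
    refine lt_of_lt_of_le ?_ hgn
    exact_mod_cast Nat.lt_succ_self n
  rw [map_sub, sub_eq_zero] at h0
  rw [h0] at hn
  exact (hA g).mp hg n hn

theorem residue_surjective [IsLocalRing ↥A] (hcl : IsClosedSub A) :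
    Function.Surjective (IsLocalRing.residue ↥A ∘ algebraMap k ↥A) := by
  intro y
  obtain ⟨a, rfl⟩ := IsLocalRing.residue_surjective y
  refine ⟨constantCoeff a.1, ?_⟩
  rw [Function.comp_apply, eq_comm]
  change Ideal.Quotient.mk _ a = Ideal.Quotient.mk _ _
  rw [Ideal.Quotient.eq, IsLocalRing.mem_maximalIdeal, mem_nonunits_iff, CanDualPS.isUnit_iff hcl]
  intro h0
  have hne : (a - algebraMap k ↥A (constantCoeff a.1) : ↥A).1 ≠ 0 := by
    intro h
    rw [h, order_zero] at h0
    exact absurd h0 (by simp)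
  have := coeff_order hne
  rw [h0] at this
  apply this
  change coeff 0 (a.1 - algebraMap k (PowerSeries k) (constantCoeff a.1)) = 0
  rw [map_sub, ← C_eq_algebraMap, coeff_zero_C, coeff_zero_eq_constantCoeff_apply, sub_self]

/-- the `A`-submodule of series supported in `S` (for `Γ + S ⊆ S`) -/
def suppSub (S : Set ℕ) (hS : ∀ t ∈ Γ, ∀ d ∈ S, t + d ∈ S) : Submodule ↥A (PowerSeries k) where
  carrier := {f | SuppIn S f}
  add_mem' := fun ha hb => ha.add hb
  zero_mem' := suppIn_zero S
  smul_mem' := by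
    intro a f hf
    rw [Subalgebra.smul_def]
    refine ((hA _).mp a.2).mul hf |>.mono ?_
    rintro d ⟨t, ht, s, hs, rfl⟩
    exact hS t ht s hs

theorem mem_suppSub {S : Set ℕ} (hS : ∀ t ∈ Γ, ∀ d ∈ S, t + d ∈ S) (f : PowerSeries k) :
    f ∈ suppSub A Γ hA S hS ↔ SuppIn S f := Iff.rfl

end Mono

section Len

/-- generic: relative length over a local ring with coefficient field via a `k`-linear
"coefficient" map -/
theorem relLen_eq_card_of_coeffMap {B V : Type*} [CommRing B] [IsLocalRing B] [Algebra k B]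
    (hk : Function.Surjective (IsLocalRing.residue B ∘ algebraMap k B))
    [AddCommGroup V] [Module B V] [Module k V] [IsScalarTower k B V]
    (P Q : Submodule B V) {T : Type*} [Fintype T] (c : V →ₗ[k] (T → k))
    (hsurj : ∀ g, ∃ f ∈ Q, c f = g) (hker : ∀ f ∈ Q, c f = 0 ↔ f ∈ P) :
    relLen P Q = (Fintype.card T : ℕ∞) := by
  classical
  unfold relLen
  set p : Submodule B ↥Q := Submodule.comap Q.subtype P with hp
  let c' : ↥Q →ₗ[k] (T → k) := c ∘ₗ (Q.subtype.restrictScalars k)
  have hc' : ∀ f : ↥Q, c' f = c f.1 := fun f => rfl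
  have hcs : Function.Surjective c' := by
    intro g
    obtain ⟨f, hf, hfg⟩ := hsurj g
    exact ⟨⟨f, hf⟩, hfg⟩
  have hck : LinearMap.ker c' = p.restrictScalars k := by
    ext f
    rw [LinearMap.mem_ker, Submodule.restrictScalars_mem, hp, Submodule.mem_comap,
      Submodule.subtype_apply, hc']
    exact hker f.1 f.2
  let e1 : (↥Q ⧸ p) ≃ₗ[k] (T → k) :=
    (Submodule.Quotient.restrictScalarsEquiv k p).symm.trans
      ((Submodule.quotEquivOfEq _ _ hck.symm).trans (c'.quotKerEquivOfSurjective hcs))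
  haveI : Module.Finite k (↥Q ⧸ p) := Module.Finite.equiv e1.symm
  have hfr : Module.finrank k (↥Q ⧸ p) = Fintype.card T := by
    rw [e1.finrank_eq, Module.finrank_fintype_fun_eq_card]
  have hN : IsNoetherian B (↥Q ⧸ p) := isNoetherian_of_tower k inferInstance
  have hAr : IsArtinian B (↥Q ⧸ p) := isArtinian_of_tower k inferInstance
  have hfl : Module.length B (↥Q ⧸ p) ≠ ⊤ := Module.length_ne_top
  obtain ⟨d, hd⟩ := ENat.ne_top_iff_exists.mp hfl
  have := (CoeffLength.finite_and_finrank_eq hk d (↥Q ⧸ p) hd.symm).2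
  rw [← hd, ← hfr, this]

variable (A : Subalgebra k (PowerSeries k)) [IsLocalRing ↥A]
  (hk : Function.Surjective (IsLocalRing.residue ↥A ∘ algebraMap k ↥A))

include hk in
/-- relative length of monomial submodules = number of monomials in the difference -/
theorem relLen_eq_ncard (P Q : Submodule ↥A (PowerSeries k)) (S' S : Set ℕ)
    (hP : ∀ f, f ∈ P ↔ SuppIn S' f) (hQ : ∀ f, f ∈ Q ↔ SuppIn S f) (hSS : S' ⊆ S)
    (hfin : (S \ S').Finite) : relLen P Q = ((S \ S').ncard : ℕ∞) := by
  classical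
  letI : Fintype ↥(S \ S') := hfin.fintype
  let c : PowerSeries k →ₗ[k] (↥(S \ S') → k) := LinearMap.pi fun s => coeff s.1
  have hc : ∀ f s, c f s = coeff s.1 f := fun f s => rfl
  rw [relLen_eq_card_of_coeffMap hk P Q c, Set.ncard_eq_toFinset_card', Set.toFinset_card]
  · intro g
    let f : PowerSeries k := PowerSeries.mk fun n => if h : n ∈ S \ S' then g ⟨n, h⟩ else 0
    have hf : f ∈ Q := by
      rw [hQ]
      intro n hn
      rw [coeff_mk] at hn
      by_cases h : n ∈ S \ S'
      · exact h.1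
      · rw [dif_neg h] at hn
        exact absurd rfl hn
    refine ⟨f, hf, ?_⟩
    funext s
    rw [hc, coeff_mk, dif_pos s.2]
  · intro f hf
    rw [hP]
    constructor
    · intro h n hn
      by_contra hnS
      have hnS2 : n ∈ S \ S' := ⟨(hQ _).mp hf n hn, hnS⟩
      exact hn (congrFun h ⟨n, hnS2⟩)
    · intro h
      funext s
      exact h.coeff_eq_zero s.2.2

end Len

section Span

variable (A : Subalgebra k (PowerSeries k)) (Γ : Set ℕ) (hA : ∀ f, f ∈ A ↔ SuppIn Γ f)

include hA in
/-- the span of finitely many monomials -/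
theorem mem_span_iff (G : Finset ℕ) (f : PowerSeries k) :
    f ∈ Submodule.span ↥A ((fun a : ℕ => (X : PowerSeries k) ^ a) '' (G : Set ℕ)) ↔
      SuppIn (addSet (G : Set ℕ) Γ) f := by
  classical
  constructor
  · intro hf
    induction hf using Submodule.span_induction with
    | mem x hx =>
      obtain ⟨g, hg, rfl⟩ := hx
      rw [suppIn_X_pow]
      exact ⟨g, hg, 0, zero_mem_Γ A Γ hA, add_zero g⟩
    | zero => exact suppIn_zero _
    | add x y _ _ hx hy => exact hx.add hy
    | smul a x _ hx =>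
      rw [Subalgebra.smul_def]
      refine (((hA _).mp a.2).mul hx).mono ?_
      rintro d ⟨t, ht, _, ⟨g, hg, s, hs, rfl⟩, rfl⟩
      exact ⟨g, hg, t + s, add_mem_Γ A Γ hA ht hs, by omega⟩
  · intro hf
    -- choice function
    let γ : ℕ → ℕ := fun d => if h : d ∈ addSet (G : Set ℕ) Γ then Classical.choose h else 0
    have hγ : ∀ d, d ∈ addSet (G : Set ℕ) Γ → γ d ∈ (G : Set ℕ) ∧ ∃ s ∈ Γ, γ d + s = d := by
      intro d hd
      have := Classical.choose_spec hd
      simp only [γ, dif_pos hd]
      exact this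
    let a : ℕ → PowerSeries k := fun g => PowerSeries.mk fun m =>
      if (m + g ∈ addSet (G : Set ℕ) Γ ∧ γ (m + g) = g) then coeff (m + g) f else 0
    have haA : ∀ g, a g ∈ A := by
      intro g
      rw [hA]
      intro m hm
      simp only [a, coeff_mk] at hm
      by_cases hc : (m + g ∈ addSet (G : Set ℕ) Γ ∧ γ (m + g) = g)
      · obtain ⟨-, s, hs, hsum⟩ := hγ _ hc.1
        rw [hc.2] at hsum
        have : m = s := by omega
        rw [this]; exact hs
      · rw [if_neg hc] at hm
        exact absurd rfl hm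
    have hsum : f = ∑ g ∈ G, (⟨a g, haA g⟩ : ↥A) • (X : PowerSeries k) ^ g := by
      ext d
      rw [map_sum]
      have hterm : ∀ g ∈ G, coeff d ((⟨a g, haA g⟩ : ↥A) • (X : PowerSeries k) ^ g) =
          if (d ∈ addSet (G : Set ℕ) Γ ∧ γ d = g) then coeff d f else 0 := by
        intro g _
        rw [Subalgebra.smul_def]
        change coeff d (a g * X ^ g) = _
        rw [coeff_mul_X_pow']
        by_cases hgd : g ≤ d
        · rw [if_pos hgd]
          simp only [a, coeff_mk]
          rw [Nat.sub_add_cancel hgd]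
        · rw [if_neg hgd]
          by_cases hc : (d ∈ addSet (G : Set ℕ) Γ ∧ γ d = g)
          · exfalso
            obtain ⟨-, s, hs, hsum⟩ := hγ _ hc.1
            rw [hc.2] at hsum
            omega
          · rw [if_neg hc]
      rw [Finset.sum_congr rfl hterm]
      by_cases hd : d ∈ addSet (G : Set ℕ) Γ
      · have hγd := (hγ d hd).1
        rw [Finset.sum_eq_single (γ d)]
        · rw [if_pos ⟨hd, rfl⟩]
        · intro g _ hg
          rw [if_neg]
          rintro ⟨-, h⟩
          exact hg h.symm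
        · intro h
          exact absurd (Finset.mem_coe.mp hγd) h
      · rw [hf.coeff_eq_zero hd]
        symm
        apply Finset.sum_eq_zero
        intro g _
        rw [if_neg]
        rintro ⟨h, -⟩
        exact hd h
    rw [hsum]
    refine Submodule.sum_mem _ fun g hg => Submodule.smul_mem _ _ (Submodule.subset_span ?_)
    exact ⟨g, Finset.mem_coe.mpr hg, rfl⟩

end Span

end Groth.Agent.Lib.R2H7.MonoLen
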