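/-
Length of `Ext^1(M, N)` for monomial modules over a monomial subalgebra `A = {f | supp f ⊆ Γ}` of
`k⟦X⟧`, `M = A + ∑ A X^{g_j}` with relations governed by a monomial ideal: purely combinatorial
formula.  (helper7)
-/
import Mathlib
import Groth.Agent.Lib.R2H7ExtAmb
import Groth.Agent.Lib.R2H7MonoLen

set_option autoImplicit false
open CategoryTheory CategoryTheory.Abelian

noncomputable section

namespace Groth.Agent.Lib.R2H7.MonoExt

open PowerSeries Groth.Agent.Lib.R2H7.CanDual Groth.Agent.Lib.R2H7.MonoLen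

universe u

variable {k : Type u} [Field k] (A : Subalgebra k (PowerSeries k)) (Γ : Set ℕ)
  (hA : ∀ f, f ∈ A ↔ SuppIn Γ f)

/-- the monomial ideal of `A` with support `SI` -/
def monoIdeal (SI : Set ℕ) (hSIid : ∀ s ∈ SI, ∀ t ∈ Γ, s + t ∈ SI) : Ideal ↥A where
  carrier := {a | SuppIn SI a.1}
  add_mem' := fun ha hb => SuppIn.add ha hb
  zero_mem' := suppIn_zero SI
  smul_mem' := by
    intro c a ha
    change SuppIn SI (c.1 * a.1)
    refine (((hA _).mp c.2).mul ha).mono ?_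
    rintro d ⟨t, ht, s, hs, rfl⟩
    rw [add_comm]
    exact hSIid s hs t ht

theorem mem_monoIdeal {SI : Set ℕ} (hSIid : ∀ s ∈ SI, ∀ t ∈ Γ, s + t ∈ SI) (a : ↥A) :
    a ∈ monoIdeal A Γ hA SI hSIid ↔ SuppIn SI a.1 := Iff.rfl

set_option synthInstance.maxHeartbeats 400000 in
set_option maxHeartbeats 1600000 in
include hA in
/-- The combinatorial length formula for `Ext^1` of monomial modules. -/
theorem length_ext_one_add {r : ℕ} (g : Fin r → ℕ) (SI : Set ℕ) (hSIΓ : SI ⊆ Γ)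
    (hSIid : ∀ s ∈ SI, ∀ t ∈ Γ, s + t ∈ SI) (c : ℕ) (hc : c ∈ SI)
    (heI : ∀ s ∈ SI, ∀ j, s + g j ∈ Γ)
    (hHc : ∀ j, ∀ s ∈ Γ, s ∉ SI → s + g j ∉ Γ ∧ ∀ j', j' ≠ j → ∀ s' ∈ Γ, s + g j ≠ s' + g j')
    {M N : Type u} [AddCommGroup M] [Module ↥A M] [AddCommGroup N] [Module ↥A N]
    (ιM : M →ₗ[↥A] PowerSeries k) (ιN : N →ₗ[↥A] PowerSeries k)
    (hιM : Function.Injective ιM) (hιN : Function.Injective ιN)
    (hM : LinearMap.range ιM = Submodule.span ↥A
      (insert 1 (Set.range fun j => (X : PowerSeries k) ^ g j)))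
    (SN : Set ℕ) (hN : ∀ x, x ∈ LinearMap.range ιN ↔ SuppIn SN x)
    (SH SP SNm : Set ℕ) (hSP : ∀ d, d ∈ SP ↔ ∃ t ∈ SN, d = c + t)
    (hSH : ∀ d, d ∈ SH ↔ ∀ s ∈ SI, d + s ∈ SP)
    (hSNm : ∀ d, d ∈ SNm ↔ d ∈ SN ∧ ∀ j, d + g j ∈ SN)
    (hfin1 : (SH \ SP).Finite) (hfin2 : (SN \ SNm).Finite) :
    Module.length ↥A (Ext.{u} (ModuleCat.of ↥A M) (ModuleCat.of ↥A N) 1) +
        ((SN \ SNm).ncard : ℕ∞) = (r : ℕ∞) * ((SH \ SP).ncard : ℕ∞) := by
  classical
  have hcl := isClosedSub A Γ hA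
  haveI : IsLocalRing ↥A := CanDualPS.isLocalRing hcl
  have hk := residue_surjective A hcl
  have hsm : ∀ (a : ↥A) (x : PowerSeries k), a • x = (a : PowerSeries k) * x :=
    fun a x => Subalgebra.smul_def a x
  -- `Γ + SN ⊆ SN`
  have hΓN : ∀ t ∈ Γ, ∀ d ∈ SN, t + d ∈ SN := by
    intro t ht d hd
    have h1 : (X : PowerSeries k) ^ d ∈ LinearMap.range ιN := (hN _).mpr (suppIn_X_pow.mpr hd)
    have h2 : (⟨X ^ t, (hA _).mpr (suppIn_X_pow.mpr ht)⟩ : ↥A) • (X : PowerSeries k) ^ d ∈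
        LinearMap.range ιN := Submodule.smul_mem _ _ h1
    rw [hsm] at h2
    change (X : PowerSeries k) ^ t * X ^ d ∈ _ at h2
    rw [← pow_add] at h2
    exact suppIn_X_pow.mp ((hN _).mp h2)
  have hΓP : ∀ t ∈ Γ, ∀ d ∈ SP, t + d ∈ SP := by
    intro t ht d hd
    obtain ⟨t', ht', rfl⟩ := (hSP d).mp hd
    exact (hSP _).mpr ⟨t + t', hΓN t ht t' ht', by omega⟩
  have hΓH : ∀ t ∈ Γ, ∀ d ∈ SH, t + d ∈ SH := by
    intro t ht d hd
    rw [hSH] at hd ⊢
    intro s hs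
    have := hd (s + t) (hSIid s hs t ht)
    have h2 : t + d + s = d + (s + t) := by omega
    rw [h2]; exact this
  have hΓNm : ∀ t ∈ Γ, ∀ d ∈ SNm, t + d ∈ SNm := by
    intro t ht d hd
    rw [hSNm] at hd ⊢
    refine ⟨hΓN t ht d hd.1, fun j => ?_⟩
    have := hΓN t ht _ (hd.2 j)
    have h2 : t + d + g j = t + (d + g j) := by omega
    rw [h2]; exact this
  have hSPH : SP ⊆ SH := by
    intro d hd
    rw [hSH]
    intro s hs
    rw [add_comm]
    exact hΓP s (hSIΓ hs) d hd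
  have hSNmN : SNm ⊆ SN := fun d hd => ((hSNm d).mp hd).1
  set I := monoIdeal A Γ hA SI hSIid with hI
  let e : Fin r → PowerSeries k := fun j => X ^ g j
  have heI' : ∀ a ∈ I, ∀ j, (a : PowerSeries k) * e j ∈ A := by
    intro a ha j
    rw [hA]
    have h1 : SuppIn SI a.1 := ha
    have h2 : SuppIn {g j} ((X : PowerSeries k) ^ g j) := suppIn_X_pow.mpr rfl
    refine (h1.mul h2).mono ?_
    rintro d ⟨s, hs, t, ht, rfl⟩
    rw [Set.mem_singleton_iff] at ht
    rw [ht]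
    exact heI s hs j
  let c₀ : ↥A := ⟨X ^ c, (hA _).mpr (suppIn_X_pow.mpr (hSIΓ hc))⟩
  have hc₀I : c₀ ∈ I := (suppIn_X_pow.mpr hc : SuppIn SI ((X : PowerSeries k) ^ c))
  have hc₀ : ∀ x : PowerSeries k, (c₀ : PowerSeries k) * x = 0 → x = 0 := by
    intro x hx
    rcases mul_eq_zero.mp hx with h | h
    · exact absurd h (pow_ne_zero _ X_ne_zero)
    · exact h
  have hH : ∀ a : Fin r → ↥A, (∑ j, (a j : PowerSeries k) * e j) ∈ A → ∀ j, a j ∈ I := by
    intro a hsum j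
    change SuppIn SI (a j).1
    intro s hs
    by_contra hsI
    have hsΓ : s ∈ Γ := (hA _).mp (a j).2 s hs
    obtain ⟨h1, h2⟩ := hHc j s hsΓ hsI
    apply h1
    apply (hA _).mp hsum
    rw [map_sum, Finset.sum_eq_single j]
    · change coeff (s + g j) ((a j).1 * X ^ g j) ≠ 0
      rw [coeff_mul_X_pow', if_pos (Nat.le_add_left _ _), Nat.add_sub_cancel]
      exact hs
    · intro j' _ hj'
      change coeff (s + g j) ((a j').1 * X ^ g j') = 0
      rw [coeff_mul_X_pow']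
      by_cases hle : g j' ≤ s + g j
      · rw [if_pos hle]
        by_contra hne
        have hs' : s + g j - g j' ∈ Γ := (hA _).mp (a j').2 _ hne
        exact h2 j' hj' _ hs' (by omega)
      · rw [if_neg hle]
    · intro h
      exact absurd (Finset.mem_univ j) h
  -- the submodules
  set H := suppSub A Γ hA SH hΓH with hHdef
  set P := suppSub A Γ hA SP hΓP with hPdef
  set Nm := suppSub A Γ hA SNm hΓNm with hNmdef
  set N0 := suppSub A Γ hA SN hΓN with hN0def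
  have hrange : LinearMap.range ιN = N0 := by
    ext x
    rw [hN]
    rfl
  have hshift : ∀ z : PowerSeries k, SuppIn SP z ↔ ∃ y, z = (c₀ : PowerSeries k) * ιN y := by
    intro z
    constructor
    · intro hz
      obtain ⟨y, hy, rfl⟩ := exists_eq_X_pow_mul (S := SN) (T := SP) c
        (fun d hd => (hSP d).mp hd) (fun t ht => (hSP _).mpr ⟨t, ht, rfl⟩) hz
      obtain ⟨y', rfl⟩ := (hN y).mpr hy
      exact ⟨y', rfl⟩
    · rintro ⟨y, rfl⟩
      change SuppIn SP (X ^ c * ιN y)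
      rw [suppIn_X_pow_mul]
      intro n hn
      exact (hSP _).mpr ⟨n, (hN _).mp ⟨y, rfl⟩ n hn, rfl⟩
  have hHmem : ∀ x, x ∈ H ↔ ∀ a ∈ I, ∃ y, x * (a : PowerSeries k) = (c₀ : PowerSeries k) * ιN y := by
    intro x
    constructor
    · intro hx a ha
      rw [← hshift]
      have h1 : SuppIn SH x := hx
      have h2 : SuppIn SI a.1 := ha
      refine (h1.mul h2).mono ?_
      rintro d ⟨d', hd', s, hs, rfl⟩
      exact (hSH d').mp hd' s hs
    · intro hx
      change SuppIn SH x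
      intro n hn
      rw [hSH]
      intro s hs
      have hXs : (⟨X ^ s, (hA _).mpr (suppIn_X_pow.mpr (hSIΓ hs))⟩ : ↥A) ∈ I :=
        (suppIn_X_pow.mpr hs : SuppIn SI ((X : PowerSeries k) ^ s))
      have h3 := (hshift _).mpr (hx _ hXs)
      apply h3
      change coeff (n + s) (x * X ^ s) ≠ 0
      rw [coeff_mul_X_pow', if_pos (Nat.le_add_left _ _), Nat.add_sub_cancel]
      exact hn
  have hP : ∀ z, z ∈ P ↔ ∃ y, z = (c₀ : PowerSeries k) * ιN y := fun z => hshift z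
  have hNm : ∀ x, x ∈ Nm ↔ ∃ y, x = ιN y ∧ ∀ j, ∃ y', e j * x = ιN y' := by
    intro x
    constructor
    · intro hx
      have h1 : SuppIn SNm x := hx
      have hxN : SuppIn SN x := h1.mono hSNmN
      obtain ⟨y, rfl⟩ := (hN x).mpr hxN
      refine ⟨y, rfl, fun j => ?_⟩
      have : SuppIn SN (e j * ιN y) := by
        change SuppIn SN (X ^ g j * ιN y)
        rw [suppIn_X_pow_mul]
        intro n hn
        rw [add_comm]
        exact ((hSNm n).mp (h1 n hn)).2 j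
      obtain ⟨y', hy'⟩ := (hN _).mpr this
      exact ⟨y', hy'.symm⟩
    · rintro ⟨y, rfl, hy⟩
      change SuppIn SNm (ιN y)
      intro n hn
      rw [hSNm]
      refine ⟨(hN _).mp ⟨y, rfl⟩ n hn, fun j => ?_⟩
      obtain ⟨y', hy'⟩ := hy j
      have h1 : SuppIn SN (e j * ιN y) := by
        rw [hy']
        exact (hN _).mp ⟨y', rfl⟩
      change SuppIn SN (X ^ g j * ιN y) at h1
      rw [suppIn_X_pow_mul] at h1
      rw [add_comm]
      exact h1 n hn
  have hmain := ExtAmb.length_ext_one_add A I e heI' c₀ ιM ιN hιM hιN hc₀I hc₀ hH hM H P Nm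
    hHmem hP hNm
  rw [hrange] at hmain
  have hl1 : relLen Nm N0 = ((SN \ SNm).ncard : ℕ∞) :=
    relLen_eq_ncard A hk Nm N0 SNm SN (fun f => Iff.rfl) (fun f => Iff.rfl) hSNmN hfin2
  have hl2 : relLen P H = ((SH \ SP).ncard : ℕ∞) :=
    relLen_eq_ncard A hk P H SP SH (fun f => Iff.rfl) (fun f => Iff.rfl) hSPH hfin1
  rw [hl1, hl2] at hmain
  exact hmain

end Groth.Agent.Lib.R2H7.MonoExt
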