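/-
`Ext^1` lengths between rank one modules over the `A_{2δ}` curve singularity `k⟦t², t^{2δ+1}⟧`
(S15030).  (helper7)
-/
import Mathlib
import Groth.Agent.Lib.R2H7MonoExt

set_option autoImplicit false
open CategoryTheory CategoryTheory.Abelian

noncomputable section

namespace Groth.Agent.Lib.R2H7.AEven

open PowerSeries Groth.Agent.Lib.R2H7.CanDual Groth.Agent.Lib.R2H7.MonoLen

universe u

/-- the semigroup `⟨2, 2δ+1⟩` -/
def Γe (δ : ℕ) : Set ℕ := {m | m % 2 = 0 ∨ 2 * δ + 1 ≤ m}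

theorem mem_Γe {δ m : ℕ} : m ∈ Γe δ ↔ (m % 2 = 0 ∨ 2 * δ + 1 ≤ m) := Iff.rfl

theorem mem_closure_iff (δ m : ℕ) :
    m ∈ AddSubmonoid.closure ({2, 2 * δ + 1} : Set ℕ) ↔ (m % 2 = 0 ∨ 2 * δ + 1 ≤ m) := by
  constructor
  · intro h
    induction h using AddSubmonoid.closure_induction with
    | mem x hx =>
      rcases hx with rfl | hx
      · left; rfl
      · rw [Set.mem_singleton_iff] at hx
        right; omega
    | zero => left; rfl
    | add x y _ _ hx hy => omega
  · intro h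
    have h2 : 2 ∈ AddSubmonoid.closure ({2, 2 * δ + 1} : Set ℕ) :=
      AddSubmonoid.subset_closure (Set.mem_insert _ _)
    have h3 : 2 * δ + 1 ∈ AddSubmonoid.closure ({2, 2 * δ + 1} : Set ℕ) :=
      AddSubmonoid.subset_closure (Set.mem_insert_of_mem _ rfl)
    by_cases hm : m % 2 = 0
    · have : m = (m / 2) • 2 := by rw [smul_eq_mul]; omega
      rw [this]
      exact AddSubmonoid.nsmul_mem _ h2 _
    · have hge : 2 * δ + 1 ≤ m := by
        rcases h with h | h
        · exact absurd h hm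
        · exact h
      have : m = (2 * δ + 1) + ((m - (2 * δ + 1)) / 2) • 2 := by rw [smul_eq_mul]; omega
      rw [this]
      exact AddSubmonoid.add_mem _ h3 (AddSubmonoid.nsmul_mem _ h2 _)

variable {k : Type u} [Field k] (δ : ℕ) (A : Subalgebra k (PowerSeries k))
  (hmono : ∀ f : PowerSeries k, f ∈ A ↔ ∀ n : ℕ, PowerSeries.coeff n f ≠ 0 →
    n ∈ AddSubmonoid.closure ({2, 2 * δ + 1} : Set ℕ))

include hmono in
theorem hA : ∀ f, f ∈ A ↔ SuppIn (Γe δ) f := by
  intro f
  rw [hmono]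
  constructor
  · intro h n hn
    exact (mem_closure_iff δ n).mp (h n hn)
  · intro h n hn
    exact (mem_closure_iff δ n).mpr (h n hn)

/-- evens in `[lo, lo + 2m)` / odds, as the image of `range m` -/
def step (lo m : ℕ) : Finset ℕ := (Finset.range m).image fun t => lo + 2 * t

theorem mem_step {lo m d : ℕ} : d ∈ step lo m ↔ (lo ≤ d ∧ d < lo + 2 * m ∧ (d - lo) % 2 = 0) := by
  unfold step
  rw [Finset.mem_image]
  constructor
  · rintro ⟨t, ht, rfl⟩
    rw [Finset.mem_range] at ht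
    omega
  · rintro ⟨h1, h2, h3⟩
    exact ⟨(d - lo) / 2, by rw [Finset.mem_range]; omega, by omega⟩

theorem card_step (lo m : ℕ) : (step lo m).card = m := by
  unfold step
  rw [Finset.card_image_of_injective _ (fun a b h => by simpa using h), Finset.card_range]

include hmono in
/-- the span of `1, X^e` (`e` odd) -/
theorem mem_span_pair (e : ℕ) (he : e % 2 = 1) (he2 : e ≤ 2 * δ + 1) (x : PowerSeries k) :
    x ∈ Submodule.span ↥A ({1, (X : PowerSeries k) ^ e} : Set (PowerSeries k)) ↔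
      SuppIn {d | d % 2 = 0 ∨ e ≤ d} x := by
  classical
  have hset : ({1, (X : PowerSeries k) ^ e} : Set (PowerSeries k)) =
      (fun a : ℕ => (X : PowerSeries k) ^ a) '' (↑({0, e} : Finset ℕ) : Set ℕ) := by
    rw [Finset.coe_insert, Finset.coe_singleton, Set.image_insert_eq, Set.image_singleton, pow_zero]
  rw [hset, mem_span_iff A (Γe δ) (hA δ A hmono)]
  have h2 : addSet (↑({0, e} : Finset ℕ) : Set ℕ) (Γe δ) = {d | d % 2 = 0 ∨ e ≤ d} := by
    ext d
    constructor
    · rintro ⟨g, hg, s, hs, rfl⟩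
      have hg' : g = 0 ∨ g = e := by simpa using hg
      rw [mem_Γe] at hs
      change (g + s) % 2 = 0 ∨ e ≤ g + s
      rcases hg' with rfl | rfl <;> omega
    · intro hd
      have hd' : d % 2 = 0 ∨ e ≤ d := hd
      by_cases hev : d % 2 = 0
      · exact ⟨0, by simp, d, Or.inl hev, by omega⟩
      · exact ⟨e, by simp, d - e, Or.inl (by omega), by omega⟩
  rw [h2]

set_option maxHeartbeats 3200000 in
include hmono in
theorem main15030 (i j : ℕ) (hi : i ≤ δ) (hj : j ≤ δ) :
    Module.length ↥A (Ext.{u}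
      (ModuleCat.of ↥A ↥(Submodule.span ↥A
        ({1, (PowerSeries.X : PowerSeries k) ^ (2 * δ + 1 - 2 * i)} : Set (PowerSeries k))))
      (ModuleCat.of ↥A ↥(Submodule.span ↥A
        ({1, (PowerSeries.X : PowerSeries k) ^ (2 * δ + 1 - 2 * j)} : Set (PowerSeries k)))) 1) =
      ((2 * min i j : ℕ) : ℕ∞) := by
  classical
  have hA' := hA δ A hmono
  set ei := 2 * δ + 1 - 2 * i with hei
  set ej := 2 * δ + 1 - 2 * j with hej
  set Msub := Submodule.span ↥A ({1, (X : PowerSeries k) ^ ei} : Set (PowerSeries k)) with hMsub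
  set Nsub := Submodule.span ↥A ({1, (X : PowerSeries k) ^ ej} : Set (PowerSeries k)) with hNsub
  let SN : Set ℕ := {d | d % 2 = 0 ∨ ej ≤ d}
  have hSNmem : ∀ d, d ∈ SN ↔ (d % 2 = 0 ∨ ej ≤ d) := fun d => Iff.rfl
  have hN : ∀ x, x ∈ LinearMap.range Nsub.subtype ↔ SuppIn SN x := by
    intro x
    rw [Submodule.range_subtype, hNsub]
    exact mem_span_pair δ A hmono ej (by omega) (by omega) x
  have hM : LinearMap.range Msub.subtype = Submodule.span ↥A
      (insert 1 (Set.range fun _ : Fin 1 => (X : PowerSeries k) ^ ei)) := by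
    rw [Submodule.range_subtype, hMsub, Set.range_const]
  let SI : Set ℕ := {s | (s % 2 = 0 ∧ 2 * i ≤ s) ∨ (s % 2 = 1 ∧ 2 * δ + 1 ≤ s)}
  have hSImem : ∀ s, s ∈ SI ↔ ((s % 2 = 0 ∧ 2 * i ≤ s) ∨ (s % 2 = 1 ∧ 2 * δ + 1 ≤ s)) :=
    fun s => Iff.rfl
  let SP : Set ℕ := {d | ∃ t ∈ SN, d = 2 * i + t}
  let SH : Set ℕ := {d | ∀ s ∈ SI, d + s ∈ SP}
  let SNm : Set ℕ := {d | d ∈ SN ∧ ∀ _ : Fin 1, d + ei ∈ SN}
  have hSPmem : ∀ d, d ∈ SP ↔ (2 * i ≤ d ∧ ((d - 2 * i) % 2 = 0 ∨ ej ≤ d - 2 * i)) := by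
    intro d
    constructor
    · rintro ⟨t, ht, rfl⟩
      rw [hSNmem] at ht
      refine ⟨by omega, ?_⟩
      rw [Nat.add_sub_cancel_left]
      exact ht
    · rintro ⟨h1, h2⟩
      exact ⟨d - 2 * i, (hSNmem _).mpr h2, by omega⟩
  have hSHmem : ∀ d, d ∈ SH ↔ ((d % 2 = 0 ∨ ej ≤ d) ∧ (d % 2 = 1 ∨ 2 * i ≤ d + 2 * j)) := by
    intro d
    constructor
    · intro hd
      have h1 := hd (2 * i) ((hSImem _).mpr (Or.inl ⟨by omega, le_refl _⟩))
      have h2 := hd (2 * δ + 1) ((hSImem _).mpr (Or.inr ⟨by omega, le_refl _⟩))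
      rw [hSPmem] at h1 h2
      omega
    · rintro ⟨h1, h2⟩ s hs
      rw [hSImem] at hs
      rw [hSPmem]
      omega
  have hset1 : SH \ SP = ↑(step (2 * (i - j)) (min i j) ∪ step ej i) := by
    ext d
    rw [Set.mem_sdiff, hSHmem, hSPmem, Finset.coe_union, Set.mem_union, Finset.mem_coe,
      Finset.mem_coe, mem_step, mem_step]
    omega
  have hset2 : SN \ SNm = ↑(step 0 (i - j)) := by
    ext d
    rw [Set.mem_sdiff, Finset.mem_coe, mem_step]
    constructor
    · rintro ⟨hd, hnm⟩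
      have h1 : ¬ (d + ei ∈ SN) := fun h => hnm ⟨hd, fun _ => h⟩
      rw [hSNmem] at hd h1
      omega
    · rintro ⟨-, h2, h3⟩
      refine ⟨(hSNmem _).mpr (Or.inl (by omega)), ?_⟩
      rintro ⟨-, h⟩
      have := h 0
      rw [hSNmem] at this
      omega
  have hdisj : Disjoint (step (2 * (i - j)) (min i j)) (step ej i) := by
    rw [Finset.disjoint_left]
    intro d h1 h2
    rw [mem_step] at h1 h2
    omega
  have hmain := MonoExt.length_ext_one_add (M := ↥Msub) (N := ↥Nsub) A (Γe δ) hA'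
    (fun _ : Fin 1 => ei) SI
    (by
      intro s hs
      rw [hSImem] at hs
      rw [mem_Γe]
      omega)
    (by
      intro s hs t ht
      rw [hSImem] at hs ⊢
      rw [mem_Γe] at ht
      omega)
    (2 * i) ((hSImem _).mpr (Or.inl ⟨by omega, le_refl _⟩))
    (by
      intro s hs _
      rw [hSImem] at hs
      rw [mem_Γe]
      omega)
    (by
      intro j0 s hs hsI
      rw [mem_Γe] at hs
      rw [hSImem] at hsI
      refine ⟨?_, ?_⟩
      · rw [mem_Γe]
        omega
      · intro j' hj'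
        exact absurd (Subsingleton.elim j' j0) hj')
    Msub.subtype Nsub.subtype (Submodule.injective_subtype _) (Submodule.injective_subtype _)
    hM SN hN SH SP SNm (fun d => Iff.rfl) (fun d => Iff.rfl) (fun d => Iff.rfl)
    (by rw [hset1]; exact Finset.finite_toSet _) (by rw [hset2]; exact Finset.finite_toSet _)
  rw [hset1, hset2, Set.ncard_coe_finset, Set.ncard_coe_finset, Finset.card_union_of_disjoint hdisj,
    card_step, card_step, card_step] at hmain
  have harith : ((2 * min i j : ℕ) : ℕ∞) + ((i - j : ℕ) : ℕ∞) =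
      ((1 : ℕ) : ℕ∞) * ((min i j + i : ℕ) : ℕ∞) := by
    have h1 : 2 * min i j + (i - j) = 1 * (min i j + i) := by
      rcases le_total i j with h | h
      · rw [min_eq_left h]; omega
      · rw [min_eq_right h]; omega
    exact_mod_cast h1
  exact ENat.add_left_injective_of_ne_top (ENat.coe_ne_top _) (hmain.trans harith.symm)

end Groth.Agent.Lib.R2H7.AEven
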