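import Groth.Agent.Lib.R2H7ExtAmb
import Groth.Agent.Lib.R2H7MonoLen

/-!
# The two-branch singularity `A_{2δ-1}`: `Ext¹` between rank one modules

`O ⊂ k[[t]] × k[[t]]` is the ring of pairs `(f, g)` with `t^δ ∣ f - g`.  The lattices
`lat m n = {(f, g) : t^m ∣ g, t^n ∣ f - g}` (for `n ≤ δ + m`) are `O`-submodules and the relative
lengths are `(m' - m) + (n' - n)`.  Combined with `ExtAmb.length_ext_one_add` this gives
`ℓ Ext¹(I_i, I_j) = 2 min i j`.
-/

open CategoryTheory CategoryTheory.Abelian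

noncomputable section

namespace Groth.Agent.Lib.R2H7.AOdd

open PowerSeries Groth.Agent.Lib.R2H7.CanDual Groth.Agent.Lib.R2H7.MonoLen

universe u

variable {k : Type u} [Field k]

theorem le_order_iff_dvd (n : ℕ) (h : PowerSeries k) :
    (n : ℕ∞) ≤ order h ↔ (X : PowerSeries k) ^ n ∣ h := by
  constructor
  · intro hh
    rw [X_pow_dvd_iff]
    intro m hm
    exact coeff_of_lt_order m (lt_of_lt_of_le (by exact_mod_cast hm) hh)
  · intro hh
    exact nat_le_order h n (X_pow_dvd_iff.mp hh)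

theorem X_pow_ne_zero' (n : ℕ) : (X : PowerSeries k) ^ n ≠ 0 := pow_ne_zero n X_ne_zero

variable (δ : ℕ) (O : Subalgebra k (PowerSeries k × PowerSeries k))
  (hO : ∀ f : PowerSeries k × PowerSeries k, f ∈ O ↔ (X : PowerSeries k) ^ δ ∣ f.1 - f.2)

include hO in
theorem constCoeff_eq (hδ : 1 ≤ δ) (a : ↥O) : constantCoeff a.1.1 = constantCoeff a.1.2 := by
  have h := (hO a.1).mp a.2
  have h1 : (X : PowerSeries k) ∣ a.1.1 - a.1.2 := dvd_trans (dvd_pow_self X (by omega)) h
  rw [X_dvd_iff, map_sub, sub_eq_zero] at h1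
  exact h1

include hO in
theorem isUnit_iff (hδ : 1 ≤ δ) (a : ↥O) : IsUnit a ↔ constantCoeff a.1.1 ≠ 0 := by
  constructor
  · intro h
    have h1 : IsUnit a.1 := h.map O.val
    have h2 : IsUnit a.1.1 := h1.map (RingHom.fst (PowerSeries k) (PowerSeries k))
    have h3 := (PowerSeries.isUnit_iff_constantCoeff).mp h2
    exact h3.ne_zero
  · intro h1
    have h2 : constantCoeff a.1.2 ≠ 0 := by rwa [← constCoeff_eq δ O hO hδ a]
    have e1 := PowerSeries.inv_mul_cancel a.1.1 h1
    have e2 := PowerSeries.inv_mul_cancel a.1.2 h2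
    have hb : ((a.1.1⁻¹, a.1.2⁻¹) : PowerSeries k × PowerSeries k) ∈ O := by
      rw [hO]
      have e : a.1.1⁻¹ - a.1.2⁻¹ = a.1.1⁻¹ * a.1.2⁻¹ * (a.1.2 - a.1.1) := by
        calc a.1.1⁻¹ - a.1.2⁻¹ = a.1.1⁻¹ * (a.1.2⁻¹ * a.1.2) - a.1.2⁻¹ * (a.1.1⁻¹ * a.1.1) := by
              rw [e1, e2, mul_one, mul_one]
          _ = _ := by ring
      change X ^ δ ∣ a.1.1⁻¹ - a.1.2⁻¹
      rw [e]
      exact Dvd.dvd.mul_left ((dvd_sub_comm).mp ((hO a.1).mp a.2)) _
    rw [isUnit_iff_exists_inv]
    refine ⟨⟨_, hb⟩, ?_⟩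
    apply Subtype.ext
    change a.1 * (a.1.1⁻¹, a.1.2⁻¹) = 1
    refine Prod.ext ?_ ?_
    · change a.1.1 * a.1.1⁻¹ = 1
      exact PowerSeries.mul_inv_cancel _ h1
    · change a.1.2 * a.1.2⁻¹ = 1
      exact PowerSeries.mul_inv_cancel _ h2

include hO in
theorem isLocalRing (hδ : 1 ≤ δ) : IsLocalRing ↥O := by
  have : Nontrivial ↥O := ⟨⟨0, 1, fun h => by
    have h1 := congrArg (fun x : ↥O => constantCoeff x.1.1) h
    simp at h1⟩⟩
  refine IsLocalRing.of_nonunits_add fun a b ha hb => ?_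
  rw [mem_nonunits_iff, isUnit_iff δ O hO hδ, not_not] at ha hb ⊢
  change constantCoeff (a.1.1 + b.1.1) = 0
  rw [map_add, ha, hb, add_zero]

include hO in
theorem residue_surjective (hδ : 1 ≤ δ) [IsLocalRing ↥O] :
    Function.Surjective (IsLocalRing.residue ↥O ∘ algebraMap k ↥O) := by
  intro y
  obtain ⟨a, rfl⟩ := IsLocalRing.residue_surjective y
  refine ⟨constantCoeff a.1.1, ?_⟩
  rw [Function.comp_apply, eq_comm]
  change Ideal.Quotient.mk _ a = Ideal.Quotient.mk _ _
  rw [Ideal.Quotient.eq, IsLocalRing.mem_maximalIdeal, mem_nonunits_iff, isUnit_iff δ O hO hδ,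
    not_not]
  change constantCoeff (a.1.1 - algebraMap k (PowerSeries k) (constantCoeff a.1.1)) = 0
  rw [map_sub, ← C_eq_algebraMap, constantCoeff_C, sub_self]

/-- the lattice `{(f, g) : X^m ∣ g, X^n ∣ f - g}` -/
def lat (m n : ℕ) (hn : n ≤ δ + m) : Submodule ↥O (PowerSeries k × PowerSeries k) where
  carrier := {x | (X : PowerSeries k) ^ m ∣ x.2 ∧ (X : PowerSeries k) ^ n ∣ x.1 - x.2}
  add_mem' := by
    rintro x y ⟨h1, h2⟩ ⟨h3, h4⟩
    refine ⟨dvd_add h1 h3, ?_⟩
    have e : (x + y).1 - (x + y).2 = (x.1 - x.2) + (y.1 - y.2) := by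
      rw [Prod.fst_add, Prod.snd_add]; ring
    change X ^ n ∣ (x + y).1 - (x + y).2
    rw [e]
    exact dvd_add h2 h4
  zero_mem' := ⟨dvd_zero _, by simp⟩
  smul_mem' := by
    rintro a x ⟨h1, h2⟩
    have ha := (hO a.1).mp a.2
    rw [Subalgebra.smul_def, smul_eq_mul]
    refine ⟨Dvd.dvd.mul_left h1 _, ?_⟩
    have e : (a.1 * x).1 - (a.1 * x).2 = a.1.1 * (x.1 - x.2) + (a.1.1 - a.1.2) * x.2 := by
      rw [Prod.fst_mul, Prod.snd_mul]; ring
    change X ^ n ∣ (a.1 * x).1 - (a.1 * x).2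
    rw [e]
    refine dvd_add (Dvd.dvd.mul_left h2 _) ?_
    refine dvd_trans (pow_dvd_pow X hn) ?_
    rw [pow_add]
    exact mul_dvd_mul ha h1

theorem mem_lat {m n : ℕ} (hn : n ≤ δ + m) (x : PowerSeries k × PowerSeries k) :
    x ∈ lat δ O hO m n hn ↔
      ((X : PowerSeries k) ^ m ∣ x.2 ∧ (X : PowerSeries k) ^ n ∣ x.1 - x.2) := Iff.rfl

theorem lat_le {m n m' n' : ℕ} (hn : n ≤ δ + m) (hn' : n' ≤ δ + m') (hm : m ≤ m') (hnn : n ≤ n') :
    lat δ O hO m' n' hn' ≤ lat δ O hO m n hn := by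
  rintro x ⟨h1, h2⟩
  exact ⟨dvd_trans (pow_dvd_pow X hm) h1, dvd_trans (pow_dvd_pow X hnn) h2⟩

include hO in
theorem relLen_lat [IsLocalRing ↥O]
    (hk : Function.Surjective (IsLocalRing.residue ↥O ∘ algebraMap k ↥O))
    {m n m' n' : ℕ} (hn : n ≤ δ + m) (hn' : n' ≤ δ + m') (hm : m ≤ m') (hnn : n ≤ n') :
    relLen (lat δ O hO m' n' hn') (lat δ O hO m n hn) = (((m' - m) + (n' - n) : ℕ) : ℕ∞) := by
  classical
  let T := Fin (m' - m) ⊕ Fin (n' - n)
  let c : (PowerSeries k × PowerSeries k) →ₗ[k] (T → k) :=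
    LinearMap.pi fun s => Sum.elim
      (fun s : Fin (m' - m) => (coeff (m + s.1)) ∘ₗ LinearMap.snd k (PowerSeries k) (PowerSeries k))
      (fun s : Fin (n' - n) => (coeff (n + s.1)) ∘ₗ
        (LinearMap.fst k (PowerSeries k) (PowerSeries k) -
          LinearMap.snd k (PowerSeries k) (PowerSeries k))) s
  have hc1 : ∀ x (s : Fin (m' - m)), c x (Sum.inl s) = coeff (m + s.1) x.2 := fun x s => rfl
  have hc2 : ∀ x (s : Fin (n' - n)), c x (Sum.inr s) = coeff (n + s.1) (x.1 - x.2) :=
    fun x s => rfl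
  rw [relLen_eq_card_of_coeffMap hk _ _ c, Fintype.card_sum, Fintype.card_fin, Fintype.card_fin]
  · intro τ
    let g : PowerSeries k := X ^ m * PowerSeries.mk fun s =>
      if h : s < m' - m then τ (Sum.inl ⟨s, h⟩) else 0
    let d : PowerSeries k := X ^ n * PowerSeries.mk fun s =>
      if h : s < n' - n then τ (Sum.inr ⟨s, h⟩) else 0
    refine ⟨(g + d, g), ⟨dvd_mul_right _ _, ?_⟩, ?_⟩
    · change X ^ n ∣ g + d - g
      rw [add_sub_cancel_left]
      exact dvd_mul_right _ _
    · funext s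
      rcases s with s | s
      · rw [hc1]
        change coeff (m + s.1) (X ^ m * _) = _
        rw [add_comm, coeff_X_pow_mul, coeff_mk, dif_pos s.2]
      · rw [hc2]
        change coeff (n + s.1) (g + d - g) = _
        rw [add_sub_cancel_left]
        change coeff (n + s.1) (X ^ n * _) = _
        rw [add_comm, coeff_X_pow_mul, coeff_mk, dif_pos s.2]
  · rintro x ⟨hx1, hx2⟩
    rw [mem_lat]
    constructor
    · intro h
      constructor
      · rw [X_pow_dvd_iff] at hx1 ⊢
        intro q hq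
        by_cases hqm : q < m
        · exact hx1 q hqm
        · have := congrFun h (Sum.inl ⟨q - m, by omega⟩)
          rw [hc1] at this
          have e : m + (q - m) = q := by omega
          change coeff (m + (q - m)) x.2 = 0 at this
          rwa [e] at this
      · rw [X_pow_dvd_iff] at hx2 ⊢
        intro q hq
        by_cases hqm : q < n
        · exact hx2 q hqm
        · have := congrFun h (Sum.inr ⟨q - n, by omega⟩)
          rw [hc2] at this
          have e : n + (q - n) = q := by omega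
          change coeff (n + (q - n)) (x.1 - x.2) = 0 at this
          rwa [e] at this
    · rintro ⟨h1, h2⟩
      rw [X_pow_dvd_iff] at h1 h2
      funext s
      rcases s with s | s
      · rw [hc1]
        exact h1 _ (by have := s.2; omega)
      · rw [hc2]
        exact h2 _ (by have := s.2; omega)

include hO in
theorem span_eq_lat (j : ℕ) :
    Submodule.span ↥O ({((X : PowerSeries k) ^ j, (X : PowerSeries k) ^ j),
      ((X : PowerSeries k) ^ δ, 0)} : Set (PowerSeries k × PowerSeries k)) =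
      lat δ O hO j δ (Nat.le_add_right _ _) := by
  apply le_antisymm
  · rw [Submodule.span_le]
    rintro x hx
    rcases hx with rfl | rfl
    · exact ⟨dvd_refl _, by simp⟩
    · exact ⟨dvd_zero _, by simp⟩
  · rintro x ⟨⟨v, hv⟩, ⟨w, hw⟩⟩
    have hvO : ((v, v) : PowerSeries k × PowerSeries k) ∈ O := (hO _).mpr (by simp)
    have hwO : ((w, w) : PowerSeries k × PowerSeries k) ∈ O := (hO _).mpr (by simp)
    have hx : x = (⟨(v, v), hvO⟩ : ↥O) • (((X : PowerSeries k) ^ j, (X : PowerSeries k) ^ j) :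
          PowerSeries k × PowerSeries k) +
        (⟨(w, w), hwO⟩ : ↥O) • (((X : PowerSeries k) ^ δ, 0) : PowerSeries k × PowerSeries k) := by
      rw [Subalgebra.smul_def, Subalgebra.smul_def, smul_eq_mul, smul_eq_mul]
      refine Prod.ext ?_ ?_
      · change x.1 = v * X ^ j + w * X ^ δ
        linear_combination hv + hw
      · change x.2 = v * X ^ j + w * 0
        linear_combination hv
    rw [hx]
    exact add_mem (Submodule.smul_mem _ _ (Submodule.subset_span (by simp)))
      (Submodule.smul_mem _ _ (Submodule.subset_span (by simp)))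

set_option maxHeartbeats 3200000 in
include hO in
theorem main19532 (hδ : 1 ≤ δ) (i j : ℕ) (hi : i ≤ δ) (hj : j ≤ δ) :
    Module.length ↥O (Ext.{u}
      (ModuleCat.of ↥O ↥(Submodule.span ↥O ({((X : PowerSeries k) ^ i, (X : PowerSeries k) ^ i),
        ((X : PowerSeries k) ^ δ, 0)} : Set (PowerSeries k × PowerSeries k))))
      (ModuleCat.of ↥O ↥(Submodule.span ↥O ({((X : PowerSeries k) ^ j, (X : PowerSeries k) ^ j),
        ((X : PowerSeries k) ^ δ, 0)} : Set (PowerSeries k × PowerSeries k)))) 1) =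
      ((2 * min i j : ℕ) : ℕ∞) := by
  classical
  haveI : IsLocalRing ↥O := isLocalRing δ O hO hδ
  have hk := residue_surjective δ O hO hδ
  set Msub := Submodule.span ↥O ({((X : PowerSeries k) ^ i, (X : PowerSeries k) ^ i),
        ((X : PowerSeries k) ^ δ, 0)} : Set (PowerSeries k × PowerSeries k)) with hMsub
  set Nsub := Submodule.span ↥O ({((X : PowerSeries k) ^ j, (X : PowerSeries k) ^ j),
        ((X : PowerSeries k) ^ δ, 0)} : Set (PowerSeries k × PowerSeries k)) with hNsub
  have hNlat : Nsub = lat δ O hO j δ (Nat.le_add_right _ _) := span_eq_lat δ O hO j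
  have hMlat : Msub = lat δ O hO i δ (Nat.le_add_right _ _) := span_eq_lat δ O hO i
  -- the data
  let c₀R : PowerSeries k × PowerSeries k := ((X : PowerSeries k) ^ i, (X : PowerSeries k) ^ i)
  have hc₀O : c₀R ∈ O := (hO _).mpr (by simp [c₀R])
  let c₀ : ↥O := ⟨c₀R, hc₀O⟩
  let eR : PowerSeries k × PowerSeries k := ((X : PowerSeries k) ^ (δ - i), 0)
  let e : Fin 1 → PowerSeries k × PowerSeries k := fun _ => eR
  have hXX : (X : PowerSeries k) ^ i * X ^ (δ - i) = X ^ δ := by
    rw [← pow_add, Nat.add_sub_cancel' hi]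
  let I : Ideal ↥O :=
    { carrier := {a | (X : PowerSeries k) ^ i ∣ a.1.2}
      add_mem' := fun {a b} ha hb => dvd_add ha hb
      zero_mem' := dvd_zero _
      smul_mem' := fun a b hb => Dvd.dvd.mul_left hb _ }
  have hImem : ∀ a : ↥O, a ∈ I ↔ (X : PowerSeries k) ^ i ∣ a.1.2 := fun a => Iff.rfl
  -- elements of I have first coordinate divisible by X^i
  have hfst : ∀ x : PowerSeries k × PowerSeries k, (X : PowerSeries k) ^ i ∣ x.2 →
      (X : PowerSeries k) ^ δ ∣ x.1 - x.2 → (X : PowerSeries k) ^ i ∣ x.1 := by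
    intro x h1 h2
    have : x.1 = x.2 + (x.1 - x.2) := by ring
    rw [this]
    exact dvd_add h1 (dvd_trans (pow_dvd_pow X hi) h2)
  have hsnd : ∀ x : PowerSeries k × PowerSeries k, (X : PowerSeries k) ^ i ∣ x.1 →
      (X : PowerSeries k) ^ δ ∣ x.1 - x.2 → (X : PowerSeries k) ^ i ∣ x.2 := by
    intro x h1 h2
    have : x.2 = x.1 - (x.1 - x.2) := by ring
    rw [this]
    exact dvd_sub h1 (dvd_trans (pow_dvd_pow X hi) h2)
  have heI : ∀ a ∈ I, ∀ j0, (a : PowerSeries k × PowerSeries k) * e j0 ∈ O := by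
    intro a ha j0
    rw [hO]
    change X ^ δ ∣ a.1.1 * X ^ (δ - i) - a.1.2 * 0
    rw [mul_zero, sub_zero, ← hXX]
    exact mul_dvd_mul_right (hfst a.1 ha ((hO a.1).mp a.2)) _
  have hH : ∀ a : Fin 1 → ↥O, (∑ j0, ((a j0 : ↥O) : PowerSeries k × PowerSeries k) * e j0) ∈ O →
      ∀ j0, a j0 ∈ I := by
    intro a ha j0
    rw [Fin.sum_univ_one, hO] at ha
    change X ^ δ ∣ (a 0).1.1 * X ^ (δ - i) - (a 0).1.2 * 0 at ha
    rw [mul_zero, sub_zero, ← hXX, mul_dvd_mul_iff_right (X_pow_ne_zero' _)] at ha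
    have h0 : j0 = 0 := Subsingleton.elim _ _
    rw [h0, hImem]
    exact hsnd (a 0).1 ha ((hO (a 0).1).mp (a 0).2)
  have hc₀I : c₀ ∈ I := dvd_refl _
  have hc₀ : ∀ x : PowerSeries k × PowerSeries k,
      (c₀ : PowerSeries k × PowerSeries k) * x = 0 → x = 0 := by
    intro x hx
    have h1 : (X : PowerSeries k) ^ i * x.1 = 0 := congrArg Prod.fst hx
    have h2 : (X : PowerSeries k) ^ i * x.2 = 0 := congrArg Prod.snd hx
    refine Prod.ext ?_ ?_
    · exact (mul_eq_zero.mp h1).resolve_left (X_pow_ne_zero' _)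
    · exact (mul_eq_zero.mp h2).resolve_left (X_pow_ne_zero' _)
  -- division by c₀ on M
  let μ : (PowerSeries k × PowerSeries k) →ₗ[↥O] (PowerSeries k × PowerSeries k) :=
    { toFun := fun x => c₀R * x
      map_add' := fun x y => mul_add _ _ _
      map_smul' := fun a x => by
        rw [Subalgebra.smul_def, Subalgebra.smul_def, smul_eq_mul, smul_eq_mul, RingHom.id_apply]
        exact mul_left_comm _ _ _ }
  have hμapp : ∀ x, μ x = c₀R * x := fun x => rfl
  have hμ : Function.Injective μ := by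
    rw [injective_iff_map_eq_zero]
    intro x hx
    exact hc₀ x hx
  have hle : Msub ≤ LinearMap.range μ := by
    rw [hMsub, Submodule.span_le]
    rintro x hx
    rcases hx with rfl | rfl
    · exact ⟨1, by rw [hμapp, mul_one]⟩
    · refine ⟨eR, ?_⟩
      rw [hμapp]
      refine Prod.ext ?_ ?_
      · exact hXX
      · exact mul_zero _
  let ιM : ↥Msub →ₗ[↥O] (PowerSeries k × PowerSeries k) :=
    (LinearEquiv.ofInjective μ hμ).symm.toLinearMap ∘ₗ Submodule.inclusion hle
  have hιMspec : ∀ m : ↥Msub, μ (ιM m) = m.1 := by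
    intro m
    have := LinearEquiv.ofInjective_symm_apply (f := μ) (h := hμ) (Submodule.inclusion hle m)
    exact this
  have hιM : Function.Injective ιM := by
    intro m m' h
    apply Subtype.ext
    rw [← hιMspec m, ← hιMspec m', h]
  have hM : LinearMap.range ιM = Submodule.span ↥O (insert 1 (Set.range e)) := by
    apply Submodule.map_injective_of_injective hμ
    rw [← LinearMap.range_comp, Submodule.map_span]
    have h1 : μ ∘ₗ ιM = Msub.subtype := LinearMap.ext fun m => hιMspec m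
    rw [h1, Submodule.range_subtype, hMsub, Set.range_const, Set.image_insert_eq,
      Set.image_singleton, hμapp, hμapp, mul_one]
    congr 2
    refine congrArg _ (Prod.ext ?_ ?_)
    · exact hXX.symm
    · exact (mul_zero _).symm
  let ιN : ↥Nsub →ₗ[↥O] (PowerSeries k × PowerSeries k) := Nsub.subtype
  have hιN : Function.Injective ιN := Submodule.injective_subtype _
  have hmaxδ : max i j ≤ δ := max_le hi hj
  have hNmem : ∀ x : PowerSeries k × PowerSeries k, x ∈ Nsub ↔
      ((X : PowerSeries k) ^ j ∣ x.2 ∧ (X : PowerSeries k) ^ δ ∣ x.1 - x.2) := by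
    intro x
    rw [hNlat]
    exact Iff.rfl
  -- the three lattices
  let H := lat δ O hO (max i j) δ (Nat.le_add_right _ _)
  let P := lat δ O hO (i + j) (δ + i) (by omega)
  have hshift : ∀ z : PowerSeries k × PowerSeries k, z ∈ P ↔
      ∃ y : ↥Nsub, z = (c₀ : PowerSeries k × PowerSeries k) * ιN y := by
    intro z
    constructor
    · rintro ⟨⟨v, hv⟩, ⟨w, hw⟩⟩
      have hy : ((X ^ j * v + X ^ δ * w, X ^ j * v) : PowerSeries k × PowerSeries k) ∈ Nsub := by
        rw [hNmem]
        refine ⟨dvd_mul_right _ _, ?_⟩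
        change X ^ δ ∣ X ^ j * v + X ^ δ * w - X ^ j * v
        rw [add_sub_cancel_left]
        exact dvd_mul_right _ _
      refine ⟨⟨_, hy⟩, Prod.ext ?_ ?_⟩
      · change z.1 = X ^ i * (X ^ j * v + X ^ δ * w)
        rw [pow_add] at hv hw
        linear_combination hv + hw
      · change z.2 = X ^ i * (X ^ j * v)
        rw [pow_add] at hv
        linear_combination hv
    · rintro ⟨y, rfl⟩
      obtain ⟨h1, h2⟩ := (hNmem y.1).mp y.2
      refine ⟨?_, ?_⟩
      · change X ^ (i + j) ∣ X ^ i * y.1.2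
        rw [pow_add]
        exact mul_dvd_mul_left _ h1
      · change X ^ (δ + i) ∣ X ^ i * y.1.1 - X ^ i * y.1.2
        rw [← mul_sub, add_comm, pow_add]
        exact mul_dvd_mul_left _ h2
  have hHmem : ∀ x, x ∈ H ↔ ∀ a ∈ I, ∃ y,
      x * (a : PowerSeries k × PowerSeries k) = (c₀ : PowerSeries k × PowerSeries k) * ιN y := by
    intro x
    constructor
    · rintro ⟨hx1, hx2⟩ a ha
      rw [← hshift]
      have ha2 := (hO a.1).mp a.2
      have hx0 : (X : PowerSeries k) ^ (max i j) ∣ x.1 := by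
        have : x.1 = x.2 + (x.1 - x.2) := by ring
        rw [this]
        exact dvd_add hx1 (dvd_trans (pow_dvd_pow X hmaxδ) hx2)
      refine ⟨?_, ?_⟩
      · change X ^ (i + j) ∣ x.2 * a.1.2
        refine dvd_trans (pow_dvd_pow X (show i + j ≤ max i j + i by
          rcases le_total i j with h | h
          · rw [max_eq_right h]; omega
          · rw [max_eq_left h]; omega)) ?_
        rw [pow_add]
        exact mul_dvd_mul hx1 ha
      · change X ^ (δ + i) ∣ x.1 * a.1.1 - x.2 * a.1.2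
        have e1 : x.1 * a.1.1 - x.2 * a.1.2 = x.1 * (a.1.1 - a.1.2) + (x.1 - x.2) * a.1.2 := by
          ring
        rw [e1]
        refine dvd_add ?_ ?_
        · refine dvd_trans (pow_dvd_pow X (show δ + i ≤ max i j + δ by
            have := le_max_left i j
            omega)) ?_
          rw [pow_add]
          exact mul_dvd_mul hx0 ha2
        · rw [pow_add]
          exact mul_dvd_mul hx2 ha
    · intro hx
      -- first `a = c₀`
      obtain ⟨y, hy⟩ := hx c₀ hc₀I
      have hxy : x = y.1 := by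
        have h0 : (c₀ : PowerSeries k × PowerSeries k) * (x - y.1) = 0 := by
          rw [mul_sub, sub_eq_zero, mul_comm]
          exact hy
        exact sub_eq_zero.mp (hc₀ _ h0)
      obtain ⟨h1, h2⟩ := (hNmem x).mp (hxy ▸ y.2)
      -- then `a = (0, X^δ)`
      have haO : ((0, X ^ δ) : PowerSeries k × PowerSeries k) ∈ O := by
        rw [hO]
        change X ^ δ ∣ 0 - X ^ δ
        rw [zero_sub]
        exact (dvd_neg).mpr (dvd_refl _)
      have haI : (⟨_, haO⟩ : ↥O) ∈ I := pow_dvd_pow X hi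
      have h3 := (hshift _).mpr (hx ⟨_, haO⟩ haI)
      have h4 : (X : PowerSeries k) ^ (δ + i) ∣ x.1 * 0 - x.2 * X ^ δ := h3.2
      rw [mul_zero, zero_sub, dvd_neg, pow_add, mul_comm x.2,
        mul_dvd_mul_iff_left (X_pow_ne_zero' _)] at h4
      refine ⟨?_, h2⟩
      rcases le_total i j with h | h
      · rw [max_eq_right h]; exact h1
      · rw [max_eq_left h]; exact h4
  have hP : ∀ z, z ∈ P ↔ ∃ y, z = (c₀ : PowerSeries k × PowerSeries k) * ιN y := hshift
  have hNm : ∀ x, x ∈ H ↔ ∃ y, x = ιN y ∧ ∀ j0, ∃ y', e j0 * x = ιN y' := by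
    intro x
    constructor
    · rintro ⟨hx1, hx2⟩
      have hxN : x ∈ Nsub := (hNmem x).mpr ⟨dvd_trans (pow_dvd_pow X (le_max_right i j)) hx1, hx2⟩
      refine ⟨⟨x, hxN⟩, rfl, fun j0 => ?_⟩
      have hxi : (X : PowerSeries k) ^ i ∣ x.1 :=
        hfst x (dvd_trans (pow_dvd_pow X (le_max_left i j)) hx1) hx2
      have hex : e j0 * x ∈ Nsub := by
        rw [hNmem]
        refine ⟨?_, ?_⟩
        · change X ^ j ∣ 0 * x.2
          rw [zero_mul]
          exact dvd_zero _
        · change X ^ δ ∣ X ^ (δ - i) * x.1 - 0 * x.2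
          rw [zero_mul, sub_zero, ← hXX, mul_comm]
          exact mul_dvd_mul_left _ hxi
      exact ⟨⟨_, hex⟩, rfl⟩
    · rintro ⟨y, rfl, hy⟩
      obtain ⟨y', hy'⟩ := hy 0
      obtain ⟨h1, h2⟩ := (hNmem y.1).mp y.2
      have hmem' : e 0 * ιN y ∈ Nsub := by
        rw [hy']
        exact y'.2
      have h3 := ((hNmem _).mp hmem').2
      change X ^ δ ∣ X ^ (δ - i) * y.1.1 - 0 * y.1.2 at h3
      rw [zero_mul, sub_zero, ← hXX, mul_comm, mul_dvd_mul_iff_left (X_pow_ne_zero' _)] at h3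
      have h4 := hsnd y.1 h3 h2
      refine ⟨?_, h2⟩
      rcases le_total i j with h | h
      · rw [max_eq_right h]; exact h1
      · rw [max_eq_left h]; exact h4
  have hmain := ExtAmb.length_ext_one_add (M := ↥Msub) (N := ↥Nsub) O I e heI c₀ ιM ιN hιM hιN
    hc₀I hc₀ hH hM H P H hHmem hP hNm
  have hrange : LinearMap.range ιN = lat δ O hO j δ (Nat.le_add_right _ _) := by
    rw [Submodule.range_subtype, hNlat]
  rw [hrange] at hmain
  have hl1 : relLen H (lat δ O hO j δ (Nat.le_add_right _ _)) =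
      (((max i j - j) + (δ - δ) : ℕ) : ℕ∞) :=
    relLen_lat δ O hO hk _ _ (le_max_right i j) le_rfl
  have hl2 : relLen P H = (((i + j - max i j) + (δ + i - δ) : ℕ) : ℕ∞) :=
    relLen_lat δ O hO hk _ _ (by
      rcases le_total i j with h | h
      · rw [max_eq_right h]; omega
      · rw [max_eq_left h]; omega) (by omega)
  rw [hl1, hl2] at hmain
  have harith : ((2 * min i j : ℕ) : ℕ∞) + (((max i j - j) + (δ - δ) : ℕ) : ℕ∞) =
      ((1 : ℕ) : ℕ∞) * (((i + j - max i j) + (δ + i - δ) : ℕ) : ℕ∞) := by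
    have h1 : 2 * min i j + ((max i j - j) + (δ - δ)) =
        1 * ((i + j - max i j) + (δ + i - δ)) := by
      rcases le_total i j with h | h
      · rw [min_eq_left h, max_eq_right h]; omega
      · rw [min_eq_right h, max_eq_left h]; omega
    exact_mod_cast h1
  exact ENat.add_left_injective_of_ne_top (ENat.natCast_ne_top _) (hmain.trans harith.symm)

end Groth.Agent.Lib.R2H7.AOdd
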