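import Mathlib
import Groth.Prelude.Def_W4c1gvcharpAbut
import Groth.Agent.Lib.Helper27SubobjAb

/-!
# A morphism of abutments vanishing on a line (helper7, round 2)
-/

set_option autoImplicit false
set_option linter.style.haveILetI false
universe v u
open CategoryTheory CategoryTheory.Limits

namespace Groth.Agent.Lib.R2H7.AbutZero

variable {C : Type u} [Category.{v} C] [Abelian C]

/-! ### pages -/

lemma homologyMap_eq_zero_of_f_eq_zero {ι : Type*} {c : ComplexShape ι}
    {K L : HomologicalComplex C c} (ψ : K ⟶ L) (i : ι) (h : ψ.f i = 0) :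
    HomologicalComplex.homologyMap ψ i = 0 := by
  have h1 : HomologicalComplex.cyclesMap ψ i = 0 := by
    rw [← cancel_mono (L.iCycles i), HomologicalComplex.cyclesMap_i, h, comp_zero, zero_comp]
  rw [← cancel_epi (K.homologyπ i), HomologicalComplex.homologyπ_naturality, h1, zero_comp,
    comp_zero]

lemma isZero_homology_of_isZero {ι : Type*} {c : ComplexShape ι}
    (K : HomologicalComplex C c) (i : ι) (h : IsZero (K.X i)) : IsZero (K.homology i) := by
  have h1 : IsZero (K.cycles i) := IsZero.of_mono (K.iCycles i) h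
  exact IsZero.of_epi (K.homologyπ i) h1

section Pages

variable (E E' : E₂CohomologicalSpectralSequence C) (φ : E ⟶ E')

theorem hom_f_eq_zero (pq : ℤ × ℤ) (h2 : (φ.hom 2 le_rfl).f pq = 0) :
    ∀ (r : ℤ) (hr : 2 ≤ r), (φ.hom r hr).f pq = 0 := by
  refine Int.leInduction (motive := fun r hr => (φ.hom r hr).f pq = 0) h2 ?_
  intro r hr ih
  have hc := φ.comm r (r + 1) pq rfl hr
  rw [homologyMap_eq_zero_of_f_eq_zero _ _ ih, zero_comp] at hc
  exact (cancel_epi (E.iso r (r + 1) pq rfl hr).hom).1 (by rw [← hc, comp_zero])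

theorem isZero_page (pq : ℤ × ℤ) (h2 : IsZero ((E.page 2 le_rfl).X pq)) :
    ∀ (r : ℤ) (hr : 2 ≤ r), IsZero ((E.page r hr).X pq) := by
  refine Int.leInduction (motive := fun r hr => IsZero ((E.page r hr).X pq)) h2 ?_
  intro r hr ih
  exact IsZero.of_iso (isZero_homology_of_isZero _ _ ih) (E.iso r (r + 1) pq rfl hr).symm

variable {E} {H : ℤ → C} (a : SpSeq.Abutment E H)

theorem isZero_gr_line (l i : ℤ) (h2 : IsZero ((E.page 2 le_rfl).X (i, l - i))) :
    IsZero (SpSeq.grPiece (a.fil l) (a.anti l) i) := by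
  have h1 : IsZero (SpSeq.grPiece (a.fil (i + (l - i))) (a.anti (i + (l - i))) i) :=
    IsZero.of_iso (isZero_page E (i, l - i) h2 _ (a.stat (i, l - i)).1) (a.β (i, l - i)).symm
  have aux : ∀ m : ℤ, m = l → IsZero (SpSeq.grPiece (a.fil m) (a.anti m) i) →
      IsZero (SpSeq.grPiece (a.fil l) (a.anti l) i) := by
    rintro _ rfl h
    exact h
  exact aux _ (by ring) h1

end Pages

/-! ### filtrations -/

section Fil

variable {X : C} (fil : ℤ → Subobject X) (anti : Antitone fil)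

lemma fil_succ_eq_of_isZero_gr (i : ℤ) (h : IsZero (SpSeq.grPiece fil anti i)) :
    fil (i + 1) = fil i := by
  refine le_antisymm (anti (Int.le_add_one le_rfl)) ?_
  exact Groth.Agent.Lib.Helper27.SubobjAb.le_of_cokernel_π_eq_zero (anti (Int.le_add_one le_rfl))
    (h.eq_of_tgt _ _)

include anti in
lemma fil_eq_top (a₀ : ℤ) (hgr : ∀ i, i < a₀ → fil (i + 1) = fil i) (hA : ∃ A, fil A = ⊤) :
    fil a₀ = ⊤ := by
  obtain ⟨A, hA⟩ := hA
  by_cases h : a₀ ≤ A
  · exact top_le_iff.1 (hA ▸ anti h)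
  · push Not at h
    have key : ∀ (n : ℤ) (_ : A ≤ n), n ≤ a₀ → fil n = ⊤ := by
      refine Int.leInduction (motive := fun n _ => n ≤ a₀ → fil n = ⊤) (fun _ => hA) ?_
      intro n hn ih hle
      rw [hgr n (by omega)]
      exact ih (by omega)
    exact key a₀ h.le le_rfl

include anti in
lemma fil_eq_bot (a₀ : ℤ) (hgr : ∀ i, a₀ < i → fil (i + 1) = fil i) (hB : ∃ B, fil B = ⊥) :
    fil (a₀ + 1) = ⊥ := by
  obtain ⟨B, hB⟩ := hB
  by_cases h : B ≤ a₀ + 1
  · exact le_bot_iff.1 (hB ▸ anti h)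
  · push Not at h
    have key : ∀ (n : ℤ) (_ : a₀ + 1 ≤ n), fil n = fil (a₀ + 1) := by
      refine Int.leInduction (motive := fun n _ => fil n = fil (a₀ + 1)) rfl ?_
      intro n hn ih
      rw [hgr n (by omega)]
      exact ih
    rw [← key B h.le]
    exact hB

end Fil

lemma mono_cokernel_π_of_eq_zero {P Q : C} (u : P ⟶ Q) (hu : u = 0) : Mono (cokernel.π u) := by
  subst hu
  infer_instance

theorem filLift_hom_eq_zero {K L : SpSeq.FilObj C} (g : SpSeqMor.FilLift K L) (a₀ : ℤ)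
    (hK : K.fil a₀ = ⊤) (hL : L.fil (a₀ + 1) = ⊥) (hg : g.gr a₀ = 0) : g.hom = 0 := by
  have hg' : cokernel.map (K.stepLE (Int.le_add_one (le_refl a₀)))
      (L.stepLE (Int.le_add_one (le_refl a₀))) (g.lift (a₀ + 1)) (g.lift a₀)
      (g.stepLE_lift (Int.le_add_one (le_refl a₀))) = 0 := hg
  have h1 : g.lift a₀ ≫ cokernel.π (L.stepLE (Int.le_add_one (le_refl a₀))) = 0 := by
    have h := cokernel.π_desc (K.stepLE (Int.le_add_one (le_refl a₀)))
      (g.lift a₀ ≫ cokernel.π (L.stepLE (Int.le_add_one (le_refl a₀))))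
      (by
        have := g.stepLE_lift (Int.le_add_one (le_refl a₀))
        rw [← Category.assoc, this, Category.assoc, cokernel.condition, comp_zero])
    have h' : cokernel.π (K.stepLE (Int.le_add_one (le_refl a₀))) ≫
        cokernel.map (K.stepLE (Int.le_add_one (le_refl a₀)))
          (L.stepLE (Int.le_add_one (le_refl a₀))) (g.lift (a₀ + 1)) (g.lift a₀)
          (g.stepLE_lift (Int.le_add_one (le_refl a₀))) =
        g.lift a₀ ≫ cokernel.π (L.stepLE (Int.le_add_one (le_refl a₀))) := h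
    rw [← h', hg', comp_zero]
  have hz : IsZero (L.step (a₀ + 1)) := by
    have aux : ∀ S : Subobject L.obj, S = ⊥ → IsZero (S : C) := by
      rintro _ rfl
      exact IsZero.of_iso (isZero_zero _) Subobject.botCoeIsoZero
    exact aux _ hL
  haveI : Mono (cokernel.π (L.stepLE (Int.le_add_one (le_refl a₀)))) :=
    mono_cokernel_π_of_eq_zero _ (hz.eq_of_src _ _)
  have h2 : g.lift a₀ = 0 := (cancel_mono _).1 (by rw [h1, zero_comp])
  have h3 : (K.fil a₀).arrow ≫ g.hom = 0 := by rw [← g.lift_arrow, h2, zero_comp]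
  haveI : IsIso (K.fil a₀).arrow := (Subobject.isIso_arrow_iff_eq_top _).2 hK
  exact (cancel_epi (K.fil a₀).arrow).1 (by rw [h3, comp_zero])

theorem main (E E' : E₂CohomologicalSpectralSequence C) (φ : E ⟶ E') (H H' : ℤ → C)
    (a : SpSeq.Abutment E H) (a' : SpSeq.Abutment E' H')
    (ha : ∀ n : ℤ, a.IsFinite n) (ha' : ∀ n : ℤ, a'.IsFinite n)
    (f : SpSeqMor.AbutHom φ a a') (l a₀ : ℤ)
    (hE : ∀ i : ℤ, i < a₀ → IsZero ((E.page 2 le_rfl).X (i, l - i)))
    (hE' : ∀ i : ℤ, a₀ < i → IsZero ((E'.page 2 le_rfl).X (i, l - i)))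
    (hφ : (φ.hom 2 le_rfl).f (a₀, l - a₀) = 0) : f.hom l = 0 := by
  have hK : (a.filObj l).fil a₀ = ⊤ :=
    fil_eq_top (a.fil l) (a.anti l) a₀
      (fun i hi => fil_succ_eq_of_isZero_gr _ _ i (isZero_gr_line a l i (hE i hi))) (ha l).1
  have hL : (a'.filObj l).fil (a₀ + 1) = ⊥ :=
    fil_eq_bot (a'.fil l) (a'.anti l) a₀
      (fun i hi => fil_succ_eq_of_isZero_gr _ _ i (isZero_gr_line a' l i (hE' i hi))) (ha' l).2
  refine filLift_hom_eq_zero (f.fil l) a₀ hK hL ?_
  -- the graded map vanishes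
  set pq : ℤ × ℤ := (a₀, l - a₀) with hpq
  obtain ⟨k, k', hkk⟩ : ∃ k k' : ℕ, a.rk pq + k = a'.rk pq + k' :=
    ⟨(max (a.rk pq) (a'.rk pq) - a.rk pq).toNat, (max (a.rk pq) (a'.rk pq) - a'.rk pq).toNat, by
      have h1 := le_max_left (a.rk pq) (a'.rk pq)
      have h2 := le_max_right (a.rk pq) (a'.rk pq)
      omega⟩
  have hc := f.comm pq k k' hkk
  rw [hom_f_eq_zero E E' φ pq hφ, zero_comp, comp_zero, comp_zero] at hc
  have h0 : (f.fil (pq.1 + pq.2)).gr pq.1 = 0 := by
    apply (cancel_epi (a.β pq).hom).1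
    rw [hc]
    exact comp_zero.symm
  have aux : ∀ m : ℤ, m = l → (f.fil m).gr a₀ = 0 → (f.fil l).gr a₀ = 0 := by
    rintro _ rfl h
    exact h
  exact aux (pq.1 + pq.2) (by rw [hpq]; ring) h0

end Groth.Agent.Lib.R2H7.AbutZero
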