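import Mathlib
import Groth.Agent.Lib.Helper25SubDiag
import Groth.Agent.Lib.Helper25MultRigid2
import Groth.Agent.Lib.Helper22Amitsur

/-!
# R2H7GLLift: lifting group-like elements of Hopf algebras along nil ideals

`GLmod S B K x`: `x` is group-like modulo the ideal `K` of the base.  `LiftGL S B K`: elements which
are group-like modulo `K` are congruent modulo `K` to group-like elements.  `UniqGL S B K`:
group-like elements congruent modulo `K` are equal.

* `uniqGL_of_noPrimMod`: uniqueness for Hopf algebras without primitive elements modulo ideals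
  (e.g. of multiplicative type) and nil ideals `K`.
* `liftGL_monoidAlgebra`: lifting for group algebras and nil ideals (lifting of complete orthogonal
  idempotents).
* `isGroupLikeElem_map`: group-like elements are functorial in the base (`X ↦ X ⊗[R] A`).
* `liftGL_of_faithfullyFlat`: faithfully flat descent of the lifting property.
-/

set_option autoImplicit false
universe u v

namespace Groth.Agent.Lib.R2H7.GLLift

open TensorProduct Coalgebra Groth.Agent.Lib.Helper25

section Defs

variable (S : Type u) [CommRing S] (B : Type v) [CommRing B] [HopfAlgebra S B] (K : Ideal S)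

/-- `x` is group-like modulo `K`. -/
def GLmod (x : B) : Prop :=
  comul (R := S) x - x ⊗ₜ[S] x ∈ K • (⊤ : Submodule S (B ⊗[S] B)) ∧ counit (R := S) x - 1 ∈ K

/-- Elements group-like modulo `K` lift to group-like elements. -/
def LiftGL : Prop :=
  ∀ x : B, GLmod S B K x → ∃ g : B, IsGroupLikeElem S g ∧ g - x ∈ K • (⊤ : Submodule S B)

/-- Group-like elements congruent modulo `K` are equal. -/
def UniqGL : Prop :=
  ∀ g g' : B, IsGroupLikeElem S g → IsGroupLikeElem S g' →
    g - g' ∈ K • (⊤ : Submodule S B) → g = g'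

end Defs

section Equiv

variable {S : Type u} [CommRing S] {B : Type v} [CommRing B] [HopfAlgebra S B]
  {B' : Type v} [CommRing B'] [HopfAlgebra S B'] {K : Ideal S}

theorem GLmod.map (e : B →ₐc[S] B') {x : B} (hx : GLmod S B K x) : GLmod S B' K (e x) := by
  refine ⟨?_, ?_⟩
  · have h1 : comul (R := S) (e x) - e x ⊗ₜ[S] e x =
        TensorProduct.map (e : B →ₗ[S] B') (e : B →ₗ[S] B') (comul (R := S) x - x ⊗ₜ[S] x) := by
      rw [map_sub, TensorProduct.map_tmul]
      congr 1
      exact (CoalgHomClass.map_comp_comul_apply e x).symm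
    rw [h1]
    exact map_mem_smul_top _ K hx.1
  · have h2 : counit (R := S) (e x) = counit (R := S) x := CoalgHomClass.counit_comp_apply e x
    rw [h2]
    exact hx.2

theorem LiftGL.of_equiv (e : B ≃ₐc[S] B') (h : LiftGL S B' K) : LiftGL S B K := by
  intro x hx
  obtain ⟨g, hg, hgx⟩ := h (e x) (hx.map (e : B →ₐc[S] B'))
  refine ⟨e.symm g, hg.map e.symm, ?_⟩
  have h3 := map_mem_smul_top ((e.symm : B' →ₐc[S] B) : B' →ₗ[S] B) K hgx
  have h4 : e.symm g - x = e.symm (g - e x) := by
    rw [map_sub, BialgEquiv.symm_apply_apply]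
  rw [h4]
  exact h3

end Equiv

section Uniq

variable {S : Type u} [CommRing S] {B : Type v} [CommRing B] [HopfAlgebra S B]

/-- A membership in `K • ⊤` is witnessed by a finitely generated subideal. -/
theorem exists_fg_le_of_mem_smul_top {N : Type*} [AddCommGroup N] [Module S N] (K : Ideal S)
    {z : N} (hz : z ∈ K • (⊤ : Submodule S N)) :
    ∃ K₀ : Ideal S, K₀.FG ∧ K₀ ≤ K ∧ z ∈ K₀ • (⊤ : Submodule S N) := by
  refine Submodule.smul_induction_on hz ?_ ?_
  · intro r hr n _
    refine ⟨Ideal.span {r}, ⟨{r}, by simp⟩, (Ideal.span_singleton_le_iff_mem K).mpr hr, ?_⟩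
    exact Submodule.smul_mem_smul (Ideal.mem_span_singleton_self r) Submodule.mem_top
  · rintro x y ⟨K₁, h1, h1', hx⟩ ⟨K₂, h2, h2', hy⟩
    refine ⟨K₁ ⊔ K₂, Submodule.FG.sup h1 h2, sup_le h1' h2', ?_⟩
    exact Submodule.add_mem _ (Submodule.smul_mono le_sup_left le_rfl hx)
      (Submodule.smul_mono le_sup_right le_rfl hy)

theorem mul_mem_smul_top (K : Ideal S) (b : B) {z : B} (hz : z ∈ K • (⊤ : Submodule S B)) :
    b * z ∈ K • (⊤ : Submodule S B) := by
  refine Submodule.smul_induction_on hz ?_ ?_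
  · intro r hr n _
    rw [mul_smul_comm]
    exact Submodule.smul_mem_smul hr Submodule.mem_top
  · intro x y hx hy
    rw [mul_add]
    exact Submodule.add_mem _ hx hy

theorem primDefect_sub_one {u : B} (hu : IsGroupLikeElem S u) :
    primDefect S B (u - 1) = (u - 1) ⊗ₜ[S] (u - 1) := by
  have h1 : comul (R := S) (1 : B) = (1 : B) ⊗ₜ[S] (1 : B) :=
    (IsGroupLikeElem.one (R := S) (A := B)).comul_eq_tmul_self
  rw [primDefect_apply, map_sub, hu.comul_eq_tmul_self]
  change u ⊗ₜ[S] u - comul (R := S) (1 : B) - _ - _ = _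
  rw [h1]
  simp only [sub_tmul, tmul_sub]
  abel

/-- Uniqueness of group-like lifts modulo a nil ideal, for Hopf algebras with no primitive elements
modulo ideals of the base. -/
theorem uniqGL_of_noPrimMod (hP : NoPrimMod S B) (K : Ideal S) (hK : ∀ x ∈ K, IsNilpotent x) :
    UniqGL S B K := by
  intro g g' hg hg' hgg
  obtain ⟨K₀, hfg, hle, hmem⟩ := exists_fg_le_of_mem_smul_top K hgg
  have hnil : IsNilpotent K₀ := by
    rw [Ideal.FG.isNilpotent_iff_le_nilradical hfg]
    intro x hx
    exact mem_nilradical.mpr (hK x (hle hx))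
  set u : B := HopfAlgebra.antipode S g * g' with hu
  have hug : IsGroupLikeElem S u := hg.antipode.mul hg'
  have hx0 : u - 1 = HopfAlgebra.antipode S g * (g' - g) := by
    rw [mul_sub, hg.antipode_mul_cancel]
  have hx1 : u - 1 ∈ K₀ • (⊤ : Submodule S B) := by
    rw [hx0]
    apply mul_mem_smul_top
    have : g' - g = -(g - g') := by ring
    rw [this]
    exact Submodule.neg_mem _ hmem
  have hstep : ∀ m : ℕ, u - 1 ∈ (K₀ ^ (m + 1)) • (⊤ : Submodule S B) := by
    intro m
    induction m with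
    | zero => simpa using hx1
    | succ m ih =>
      apply hP
      rw [primDefect_sub_one hug]
      have h1 := tmul_mem_smul_top (K₀ ^ (m + 1)) (K₀ ^ (m + 1)) ih ih
      have hle2 : K₀ ^ (m + 1) * K₀ ^ (m + 1) ≤ K₀ ^ (m + 1 + 1) := by
        rw [← pow_add]
        exact Ideal.pow_le_pow_right (by omega)
      exact Submodule.smul_mono hle2 le_rfl h1
  obtain ⟨n, hn⟩ := hnil
  have h1 := hstep n
  have h2 : K₀ ^ (n + 1) = ⊥ := by
    rw [pow_succ, hn]
    simp
  rw [h2, Submodule.bot_smul, Submodule.mem_bot, sub_eq_zero] at h1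
  have h3 : g * u = g' := by
    rw [hu, ← mul_assoc, hg.mul_antipode_cancel, one_mul]
  rw [← h3, h1, mul_one]

end Uniq

section MonoidAlg

variable {S : Type u} [CommRing S] {N : Type v} [CommGroup N]

theorem eq_sum_single (x : MonoidAlgebra S N) :
    x = ∑ n ∈ x.coeff.support, MonoidAlgebra.single n (x.coeff n) := by
  conv_lhs => rw [← MonoidAlgebra.sum_coeff_single x]
  rfl

theorem counit_eq_sum (x : MonoidAlgebra S N) :
    counit (R := S) x = ∑ n ∈ x.coeff.support, x.coeff n := by
  conv_lhs => rw [eq_sum_single x]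
  rw [map_sum]
  refine Finset.sum_congr rfl fun n _ => ?_
  rw [MonoidAlgebra.counit_single]
  rfl

theorem comul_single' (n : N) (a : S) :
    comul (R := S) (MonoidAlgebra.single n a : MonoidAlgebra S N) =
      a • ((MonoidAlgebra.single n 1 : MonoidAlgebra S N) ⊗ₜ[S] MonoidAlgebra.single n 1) := by
  rw [MonoidAlgebra.comul_single]
  simp only [CommSemiring.comul_apply, TensorProduct.map_tmul, MonoidAlgebra.lsingle_apply]
  have : (MonoidAlgebra.single n a : MonoidAlgebra S N) = a • MonoidAlgebra.single n 1 := by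
    rw [MonoidAlgebra.smul_single', mul_one]
  rw [this, TensorProduct.tmul_smul]

theorem single_tmul_single (n n' : N) (a b : S) :
    (MonoidAlgebra.single n a : MonoidAlgebra S N) ⊗ₜ[S] MonoidAlgebra.single n' b =
      (a * b) • ((MonoidAlgebra.single n 1 : MonoidAlgebra S N) ⊗ₜ[S] MonoidAlgebra.single n' 1) := by
  have h1 : (MonoidAlgebra.single n a : MonoidAlgebra S N) = a • MonoidAlgebra.single n 1 := by
    rw [MonoidAlgebra.smul_single', mul_one]
  have h2 : (MonoidAlgebra.single n' b : MonoidAlgebra S N) = b • MonoidAlgebra.single n' 1 := by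
    rw [MonoidAlgebra.smul_single', mul_one]
  rw [h1, h2, TensorProduct.smul_tmul_smul]

/-- A complete system of orthogonal idempotents defines a group-like element of a group algebra. -/
theorem isGroupLikeElem_sum_single {ι : Type*} [Fintype ι] (ν : ι → N) (e : ι → S)
    (he : CompleteOrthogonalIdempotents e) :
    IsGroupLikeElem S (∑ i, MonoidAlgebra.single (ν i) (e i) : MonoidAlgebra S N) where
  counit_eq_one := by
    rw [map_sum, ← he.complete]
    refine Finset.sum_congr rfl fun i _ => ?_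
    rw [MonoidAlgebra.counit_single]
    rfl
  comul_eq_tmul_self := by
    classical
    rw [map_sum, TensorProduct.sum_tmul]
    refine Finset.sum_congr rfl fun i _ => ?_
    rw [TensorProduct.tmul_sum, comul_single']
    rw [Finset.sum_eq_single i]
    · rw [single_tmul_single (ν i) (ν i) (e i) (e i), (he.idem i).eq]
    · intro j _ hji
      rw [single_tmul_single (ν i) (ν j) (e i) (e j), he.ortho (Ne.symm hji), zero_smul]
    · intro h
      exact absurd (Finset.mem_univ i) h

theorem single_mem_smul_top (K : Ideal S) (n : N) {a : S} (ha : a ∈ K) :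
    (MonoidAlgebra.single n a : MonoidAlgebra S N) ∈ K • (⊤ : Submodule S (MonoidAlgebra S N)) := by
  have : (MonoidAlgebra.single n a : MonoidAlgebra S N) = a • MonoidAlgebra.single n 1 := by
    rw [MonoidAlgebra.smul_single', mul_one]
  rw [this]
  exact Submodule.smul_mem_smul ha Submodule.mem_top

/-- Lifting of group-like elements of group algebras modulo nil ideals. -/
theorem liftGL_monoidAlgebra (K : Ideal S) (hK : ∀ x ∈ K, IsNilpotent x) :
    LiftGL S (MonoidAlgebra S N) K := by
  classical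
  intro x hx
  have hmul : ∀ n n' : N, (if n = n' then x.coeff n else 0) - x.coeff n * x.coeff n' ∈ K := by
    intro n n'
    have h1 := functional_mem_of_mem_smul_top (coeffPair S n n') K hx.1
    rw [map_sub, coeffPair_comul] at h1
    simpa [coeffPair] using h1
  have hsum : ∑ n ∈ x.coeff.support, x.coeff n - 1 ∈ K := by
    rw [← counit_eq_sum]
    exact hx.2
  let ebar : ↥x.coeff.support → S ⧸ K := fun i => Ideal.Quotient.mk K (x.coeff (i : N))
  have hcoi : CompleteOrthogonalIdempotents ebar := by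
    refine ⟨⟨fun i => ?_, fun i j hij => ?_⟩, ?_⟩
    · have h1 := hmul i i
      rw [if_pos rfl] at h1
      change Ideal.Quotient.mk K (x.coeff (i : N)) * Ideal.Quotient.mk K (x.coeff (i : N)) =
        Ideal.Quotient.mk K (x.coeff (i : N))
      rw [← map_mul, eq_comm]
      exact (Ideal.Quotient.mk_eq_mk_iff_sub_mem _ _).mpr h1
    · have h1 := hmul i j
      rw [if_neg (fun h => hij (Subtype.ext h)), zero_sub] at h1
      change Ideal.Quotient.mk K (x.coeff (i : N)) * Ideal.Quotient.mk K (x.coeff (j : N)) = 0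
      rw [← map_mul, Ideal.Quotient.eq_zero_iff_mem]
      exact (Ideal.neg_mem_iff _).mp h1
    · change ∑ i : ↥x.coeff.support, Ideal.Quotient.mk K (x.coeff (i : N)) = 1
      rw [← map_sum, Finset.sum_coe_sort x.coeff.support (fun n => x.coeff n), ← map_one (Ideal.Quotient.mk K)]
      exact (Ideal.Quotient.mk_eq_mk_iff_sub_mem _ _).mpr hsum
  obtain ⟨e', he', hcomp⟩ := CompleteOrthogonalIdempotents.lift_of_isNilpotent_ker
    (Ideal.Quotient.mk K) (by rw [Ideal.mk_ker]; exact hK) hcoi (fun i => ⟨_, rfl⟩)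
  refine ⟨∑ i : ↥x.coeff.support, MonoidAlgebra.single (i : N) (e' i),
    isGroupLikeElem_sum_single _ _ he', ?_⟩
  have hx' : x = ∑ i : ↥x.coeff.support, MonoidAlgebra.single (i : N) (x.coeff (i : N)) := by
    rw [Finset.sum_coe_sort x.coeff.support (fun n => MonoidAlgebra.single n (x.coeff n))]
    exact eq_sum_single x
  have hdiff : ∑ i : ↥x.coeff.support, MonoidAlgebra.single (i : N) (e' i) - x =
      ∑ i : ↥x.coeff.support, MonoidAlgebra.single (i : N) (e' i - x.coeff (i : N)) := by
    have h3 : ∑ i : ↥x.coeff.support, MonoidAlgebra.single (i : N) (e' i) - x =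
        ∑ i : ↥x.coeff.support, MonoidAlgebra.single (i : N) (e' i) -
          ∑ i : ↥x.coeff.support, MonoidAlgebra.single (i : N) (x.coeff (i : N)) :=
      congrArg (fun y => ∑ i : ↥x.coeff.support, MonoidAlgebra.single (i : N) (e' i) - y) hx'
    rw [h3, ← Finset.sum_sub_distrib]
    refine Finset.sum_congr rfl fun i _ => ?_
    rw [MonoidAlgebra.single_sub]
  rw [hdiff]
  refine Submodule.sum_mem _ fun i _ => ?_
  apply single_mem_smul_top
  have h2 := congrFun hcomp i
  exact (Ideal.Quotient.mk_eq_mk_iff_sub_mem _ _).mp h2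

end MonoidAlg

section Functor

variable {R : Type u} [CommRing R] (A : Type u) [CommRing A] [HopfAlgebra R A]

/-- The functor `X ↦ X ⊗[R] A` on morphisms. -/
noncomputable abbrev Hmap {X Y : Type u} [CommRing X] [CommRing Y] [Algebra R X] [Algebra R Y]
    (f : X →ₐ[R] Y) : X ⊗[R] A →ₐ[R] Y ⊗[R] A :=
  Algebra.TensorProduct.map f (AlgHom.id R A)

variable {A}

theorem cancelBC_one_tmul {X Y : Type u} [CommRing X] [CommRing Y] [Algebra R X] [Algebra R Y]
    [Algebra X Y] [IsScalarTower R X Y] (f : X →ₐ[R] Y) (hf : ∀ s, f s = algebraMap X Y s)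
    (x : X ⊗[R] A) :
    BCB.cancelBC R X Y A ((1 : Y) ⊗ₜ[X] x) = Hmap A f x := by
  induction x using TensorProduct.induction_on with
  | zero => simp
  | tmul s a =>
    rw [BCB.cancelBC_tmul]
    simp [Hmap, hf, Algebra.smul_def]
  | add a b ha hb => rw [tmul_add, map_add, ha, hb, map_add]

/-- Group-like elements are functorial in the base. -/
theorem isGroupLikeElem_map {X Y : Type u} [CommRing X] [CommRing Y] [Algebra R X] [Algebra R Y]
    (f : X →ₐ[R] Y) {x : X ⊗[R] A} (hx : IsGroupLikeElem X x) :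
    IsGroupLikeElem Y (Hmap A f x) := by
  letI : Algebra X Y := f.toRingHom.toAlgebra
  haveI : IsScalarTower R X Y := IsScalarTower.of_algebraMap_eq (fun r => (f.commutes r).symm)
  have h1 : IsGroupLikeElem Y ((1 : Y) ⊗ₜ[X] x) := SubDiag.isGroupLikeElem_one_tmul hx
  have h2 := h1.map (BCB.cancelBC R X Y A)
  rwa [cancelBC_one_tmul f (fun _ => rfl)] at h2

theorem Hmap_smul {X Y : Type u} [CommRing X] [CommRing Y] [Algebra R X] [Algebra R Y]
    (f : X →ₐ[R] Y) (k : X) (z : X ⊗[R] A) : Hmap A f (k • z) = f k • Hmap A f z := by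
  rw [Algebra.smul_def, Algebra.smul_def, map_mul, Algebra.TensorProduct.algebraMap_apply,
    Algebra.TensorProduct.algebraMap_apply]
  simp [Hmap]

theorem Hmap_mem_smul_top {X Y : Type u} [CommRing X] [CommRing Y] [Algebra R X] [Algebra R Y]
    (f : X →ₐ[R] Y) (I : Ideal R) {z : X ⊗[R] A}
    (hz : z ∈ (I.map (algebraMap R X)) • (⊤ : Submodule X (X ⊗[R] A))) :
    Hmap A f z ∈ (I.map (algebraMap R Y)) • (⊤ : Submodule Y (Y ⊗[R] A)) := by
  have hI : (I.map (algebraMap R X)).map (f : X →+* Y) = I.map (algebraMap R Y) := by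
    rw [Ideal.map_map]
    congr 1
    exact f.comp_algebraMap
  refine Submodule.smul_induction_on hz ?_ ?_
  · intro k hk n _
    rw [Hmap_smul]
    refine Submodule.smul_mem_smul ?_ Submodule.mem_top
    rw [← hI]
    exact Ideal.mem_map_of_mem _ hk
  · intro x y hx hy
    rw [map_add]
    exact Submodule.add_mem _ hx hy

theorem Hmap_one_tmul {X Y : Type u} [CommRing X] [CommRing Y] [Algebra R X] [Algebra R Y]
    (f : X →ₐ[R] Y) (a : A) : Hmap A f ((1 : X) ⊗ₜ[R] a) = (1 : Y) ⊗ₜ[R] a := by
  simp [Hmap]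

end Functor

section BaseChange

variable {S : Type u} [CommRing S] (T : Type u) [CommRing T] [Algebra S T]
  {B : Type u} [CommRing B] [HopfAlgebra S B]

theorem GLmod.one_tmul (K : Ideal S) {x : B} (hx : GLmod S B K x) :
    GLmod T (T ⊗[S] B) (K.map (algebraMap S T)) ((1 : T) ⊗ₜ[S] x) := by
  refine ⟨?_, ?_⟩
  · have h1 : comul (R := T) ((1 : T) ⊗ₜ[S] x) - ((1 : T) ⊗ₜ[S] x) ⊗ₜ[T] ((1 : T) ⊗ₜ[S] x) =
        bcMap2 T B (comul (R := S) x - x ⊗ₜ[S] x) := by
      rw [map_sub, bcMap2_tmul, comul_one_tmul]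
    rw [h1]
    exact bcMap2_mem_smul_top T B K hx.1
  · have h2 : counit (R := T) ((1 : T) ⊗ₜ[S] x) - 1 = algebraMap S T (counit (R := S) x - 1) := by
      rw [TensorProduct.counit_tmul]
      simp [Algebra.smul_def]
    rw [h2]
    exact Ideal.mem_map_of_mem _ hx.2

theorem one_tmul_eq_zero_of_bcMap2 (z : B ⊗[S] B) (hz : bcMap2 (R := S) T B z = 0) :
    (1 : T) ⊗ₜ[S] z = 0 := by
  have h1 : ((1 : T) ⊗ₜ[T] (1 : T)) ⊗ₜ[S] z = (0 : (T ⊗[T] T) ⊗[S] (B ⊗[S] B)) := by
    have : (AlgebraTensorModule.tensorTensorTensorComm S T S T T T B B)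
        (((1 : T) ⊗ₜ[T] (1 : T)) ⊗ₜ[S] z) = 0 := hz
    exact (LinearEquiv.map_eq_zero_iff _).mp this
  have h2 := congrArg (TensorProduct.map ((TensorProduct.rid T T).toLinearMap.restrictScalars S)
    (LinearMap.id : B ⊗[S] B →ₗ[S] B ⊗[S] B)) h1
  simpa only [TensorProduct.map_tmul, LinearMap.coe_restrictScalars, LinearEquiv.coe_coe,
    TensorProduct.rid_tmul, LinearMap.id_coe, id_eq, map_zero, one_smul] using h2

theorem bcMap2_injective [Module.FaithfullyFlat S T] :
    Function.Injective (bcMap2 (R := S) T B) := by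
  rw [injective_iff_map_eq_zero]
  intro z hz
  exact (Module.FaithfullyFlat.one_tmul_eq_zero_iff S _ z).mp (one_tmul_eq_zero_of_bcMap2 T z hz)

theorem one_tmul_mkQ_eq_zero_of_mem (K : Ideal S) (a : B)
    (h : (1 : T) ⊗ₜ[S] a ∈ (K.map (algebraMap S T)) • (⊤ : Submodule T (T ⊗[S] B))) :
    (1 : T) ⊗ₜ[S] ((K • (⊤ : Submodule S B)).mkQ a) = 0 := by
  have h3 : ∀ b ∈ (K.map (algebraMap S T)) • (⊤ : Submodule T (T ⊗[S] B)),
      LinearMap.baseChange T ((K • (⊤ : Submodule S B)).mkQ) b = 0 := by
    intro b hb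
    refine Submodule.smul_induction_on hb ?_ ?_
    · intro r hr n _
      rw [map_smul]
      exact map_smul_tensor_quot_eq_zero T B K r hr _
    · intro x y hx hy
      rw [map_add, hx, hy, add_zero]
  have h1 := h3 _ h
  rwa [LinearMap.baseChange_tmul] at h1

/-- Group-likeness descends along faithfully flat base change. -/
theorem isGroupLikeElem_of_one_tmul [Module.FaithfullyFlat S T] {g : B}
    (h : IsGroupLikeElem T ((1 : T) ⊗ₜ[S] g)) : IsGroupLikeElem S g where
  counit_eq_one := by
    have h1 := h.counit_eq_one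
    rw [TensorProduct.counit_tmul] at h1
    have h2 : algebraMap S T (counit (R := S) g) = algebraMap S T 1 := by
      simpa [Algebra.smul_def] using h1
    exact FaithfulSMul.algebraMap_injective S T h2
  comul_eq_tmul_self := by
    have h1 := h.comul_eq_tmul_self
    rw [comul_one_tmul, ← bcMap2_tmul] at h1
    exact bcMap2_injective T h1

theorem mem_smul_top_of_one_tmul [Module.FaithfullyFlat S T] (K : Ideal S) (a : B)
    (h : (1 : T) ⊗ₜ[S] a ∈ (K.map (algebraMap S T)) • (⊤ : Submodule T (T ⊗[S] B))) :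
    a ∈ K • (⊤ : Submodule S B) := by
  have h3 : ∀ b ∈ (K.map (algebraMap S T)) • (⊤ : Submodule T (T ⊗[S] B)),
      LinearMap.baseChange T ((K • (⊤ : Submodule S B)).mkQ) b = 0 := by
    intro b hb
    refine Submodule.smul_induction_on hb ?_ ?_
    · intro r hr n _
      rw [map_smul]
      exact map_smul_tensor_quot_eq_zero T B K r hr _
    · intro x y hx hy
      rw [map_add, hx, hy, add_zero]
  have h1 := h3 _ h
  rw [LinearMap.baseChange_tmul] at h1
  have h2 : TensorProduct.mk S T (B ⧸ (K • (⊤ : Submodule S B))) 1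
      ((K • (⊤ : Submodule S B)).mkQ a) = TensorProduct.mk S T _ 1 0 := by
    rw [TensorProduct.mk_apply, h1, map_zero]
  have h4 := Module.FaithfullyFlat.tensorProduct_mk_injective (A := S) (B := T)
    (B ⧸ (K • (⊤ : Submodule S B))) h2
  exact (Submodule.Quotient.mk_eq_zero _).mp h4

end BaseChange

section Descent

variable {R : Type u} [CommRing R] (A : Type u) [CommRing A] [HopfAlgebra R A]
  (R' : Type u) [CommRing R'] [Algebra R R']

theorem assoc_Hmap_includeLeft (z : R' ⊗[R] A) :
    TensorProduct.assoc R R' R' A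
        (Hmap A (Algebra.TensorProduct.includeLeft : R' →ₐ[R] R' ⊗[R] R') z) =
      LinearMap.lTensor R' (TensorProduct.mk R R' A 1) z := by
  induction z using TensorProduct.induction_on with
  | zero => simp
  | tmul r a => simp [Hmap]
  | add a b ha hb => rw [map_add, map_add, ha, hb, map_add]

theorem assoc_Hmap_includeRight (z : R' ⊗[R] A) :
    TensorProduct.assoc R R' R' A
        (Hmap A (Algebra.TensorProduct.includeRight : R' →ₐ[R] R' ⊗[R] R') z) =
      TensorProduct.mk R R' (R' ⊗[R] A) 1 z := by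
  induction z using TensorProduct.induction_on with
  | zero => simp
  | tmul r a => simp [Hmap]
  | add a b ha hb => rw [map_add, map_add, ha, hb, map_add]

/-- Faithfully flat descent of the lifting property for group-like elements. -/
theorem liftGL_of_faithfullyFlat [Module.FaithfullyFlat R R'] (I : Ideal R)
    (hL : LiftGL R' (R' ⊗[R] A) (I.map (algebraMap R R')))
    (hU : UniqGL (R' ⊗[R] R') ((R' ⊗[R] R') ⊗[R] A) (I.map (algebraMap R (R' ⊗[R] R')))) :
    LiftGL R A I := by
  intro x hx
  obtain ⟨g', hg', hgx'⟩ := hL _ (hx.one_tmul R' I)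
  set q₁ : R' →ₐ[R] R' ⊗[R] R' := Algebra.TensorProduct.includeLeft with hq₁
  set q₂ : R' →ₐ[R] R' ⊗[R] R' := Algebra.TensorProduct.includeRight with hq₂
  have hG₁ : IsGroupLikeElem (R' ⊗[R] R') (Hmap A q₁ g') := isGroupLikeElem_map q₁ hg'
  have hG₂ : IsGroupLikeElem (R' ⊗[R] R') (Hmap A q₂ g') := isGroupLikeElem_map q₂ hg'
  have hd : Hmap A q₁ g' - Hmap A q₂ g' ∈
      (I.map (algebraMap R (R' ⊗[R] R'))) • (⊤ : Submodule (R' ⊗[R] R') ((R' ⊗[R] R') ⊗[R] A)) := by
    have e1 : Hmap A q₁ g' - Hmap A q₂ g' =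
        Hmap A q₁ (g' - (1 : R') ⊗ₜ[R] x) - Hmap A q₂ (g' - (1 : R') ⊗ₜ[R] x) := by
      rw [map_sub, map_sub, Hmap_one_tmul, Hmap_one_tmul]
      abel
    rw [e1]
    exact Submodule.sub_mem _ (Hmap_mem_smul_top q₁ I hgx') (Hmap_mem_smul_top q₂ I hgx')
  have heq : Hmap A q₁ g' = Hmap A q₂ g' := hU _ _ hG₁ hG₂ hd
  have hmem : g' ∈ LinearMap.range (TensorProduct.mk R R' A 1) := by
    apply Groth.Agent.Lib.Helper22.amitsur_mem_range
    rw [← assoc_Hmap_includeRight, ← assoc_Hmap_includeLeft, heq]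
  obtain ⟨g, hg⟩ := hmem
  rw [TensorProduct.mk_apply] at hg
  subst hg
  refine ⟨g, isGroupLikeElem_of_one_tmul R' hg', ?_⟩
  apply mem_smul_top_of_one_tmul R' I
  rw [tmul_sub]
  exact hgx'

end Descent

end Groth.Agent.Lib.R2H7.GLLift
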