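import Mathlib
import Groth.Agent.Lib.R2H7GLLift

/-!
# R2H7GLGlue: Zariski gluing of group-like lifts; groups of multiplicative type

* `exists_glue`: elements of the localizations `N_f` (as `R_f ⊗ N`) of a module which agree on
  overlaps glue (finite covering by basic opens).
* `isGroupLikeElem_of_span`, `mem_smul_top_of_span`: Zariski-local detection.
* `isMultTypeConst_baseChange`.
* `liftGL_of_span`, `liftGL_of_isMultType`, `uniqGL_of_isMultType`: group-like elements of Hopf
  algebras of multiplicative type lift uniquely along nil ideals.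
-/

set_option autoImplicit false
universe u

namespace Groth.Agent.Lib.R2H7.GLGlue

open TensorProduct Coalgebra Groth.Agent.Lib.Helper25 Groth.Agent.Lib.R2H7.GLLift SGA3b

section Away

variable {R : Type u} [CommRing R]

/-- `R_f → R_{f f'}`. -/
noncomputable def awayL (f f' : R) : Localization.Away f →ₐ[R] Localization.Away (f * f') :=
  IsLocalization.Away.liftAlgHom (A := R) (R := R) f
    (f := Algebra.ofId R (Localization.Away (f * f')))
    (IsLocalization.Away.isUnit_of_dvd (f * f') (dvd_mul_right _ _))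

/-- `R_{f'} → R_{f f'}`. -/
noncomputable def awayR (f f' : R) : Localization.Away f' →ₐ[R] Localization.Away (f * f') :=
  IsLocalization.Away.liftAlgHom (A := R) (R := R) f'
    (f := Algebra.ofId R (Localization.Away (f * f')))
    (IsLocalization.Away.isUnit_of_dvd (f * f') (dvd_mul_left _ _))

instance isLocalizedModule_mk (f : R) (N : Type u) [AddCommGroup N] [Module R N] :
    IsLocalizedModule (Submonoid.powers f) (TensorProduct.mk R (Localization.Away f) N 1) :=
  (isLocalizedModule_iff_isBaseChange (S := Submonoid.powers f)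
    (A := Localization.Away f) _).mpr (TensorProduct.isBaseChange R N _)

end Away

section Glue

variable {R : Type u} [CommRing R] (N : Type u) [AddCommGroup N] [Module R N]

theorem exists_pow_smul_eq (f : R) (x : Localization.Away f ⊗[R] N) :
    ∃ (n : ℕ) (y : N), f ^ n • x = (1 : Localization.Away f) ⊗ₜ[R] y := by
  obtain ⟨⟨y, ⟨_, n, rfl⟩⟩, h⟩ := IsLocalizedModule.surj (Submonoid.powers f)
    (TensorProduct.mk R (Localization.Away f) N 1) x
  exact ⟨n, y, h⟩

theorem smul_injective_away (f : R) (n : ℕ) (x y : Localization.Away f ⊗[R] N)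
    (h : f ^ n • x = f ^ n • y) : x = y := by
  have hu : IsUnit (algebraMap R (Localization.Away f) (f ^ n)) := by
    rw [map_pow]
    exact (IsLocalization.Away.algebraMap_isUnit f).pow n
  rw [← algebraMap_smul (Localization.Away f) (f ^ n) x,
    ← algebraMap_smul (Localization.Away f) (f ^ n) y] at h
  exact hu.smul_left_cancel.mp h

/-- Zariski gluing of elements of a module. -/
theorem exists_glue (t : Finset R) (ht : Ideal.span (t : Set R) = ⊤)
    (x : ∀ f : R, Localization.Away f ⊗[R] N)
    (hx : ∀ f ∈ t, ∀ f' ∈ t, LinearMap.rTensor N (awayL f f').toLinearMap (x f) =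
      LinearMap.rTensor N (awayR f f').toLinearMap (x f')) :
    ∃ y : N, ∀ f ∈ t, (1 : Localization.Away f) ⊗ₜ[R] y = x f := by
  classical
  choose n y hny using fun f => exists_pow_smul_eq N f (x f)
  -- uniform exponent
  set n₀ := t.sup n with hn₀
  obtain ⟨y', hy'def⟩ : ∃ y' : R → N, ∀ f, y' f = f ^ (n₀ - n f) • y f := ⟨_, fun _ => rfl⟩
  have hy' : ∀ f ∈ t, f ^ n₀ • x f = (1 : Localization.Away f) ⊗ₜ[R] y' f := by
    intro f hf
    have hle : n f ≤ n₀ := Finset.le_sup hf
    have : f ^ n₀ = f ^ (n₀ - n f) * f ^ n f := by rw [← pow_add, Nat.sub_add_cancel hle]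
    rw [this, mul_smul, hny, hy'def, TensorProduct.tmul_smul]
  -- equality on overlaps
  have hov : ∀ f ∈ t, ∀ f' ∈ t, ∃ m : ℕ,
      (f * f') ^ m • (f' ^ n₀ • y' f) = (f * f') ^ m • (f ^ n₀ • y' f') := by
    intro f hf f' hf'
    have h1 : (1 : Localization.Away (f * f')) ⊗ₜ[R] (f' ^ n₀ • y' f) =
        (1 : Localization.Away (f * f')) ⊗ₜ[R] (f ^ n₀ • y' f') := by
      have e1 : (1 : Localization.Away (f * f')) ⊗ₜ[R] y' f =
          f ^ n₀ • LinearMap.rTensor N (awayL f f').toLinearMap (x f) := by
        rw [← map_smul, hy' f hf]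
        simp
      have e2 : (1 : Localization.Away (f * f')) ⊗ₜ[R] y' f' =
          f' ^ n₀ • LinearMap.rTensor N (awayR f f').toLinearMap (x f') := by
        rw [← map_smul, hy' f' hf']
        simp
      rw [TensorProduct.tmul_smul, TensorProduct.tmul_smul, e1, e2, hx f hf f' hf', smul_smul,
        smul_smul, mul_comm (f' ^ n₀) (f ^ n₀)]
    obtain ⟨⟨_, m, rfl⟩, hc⟩ := (IsLocalizedModule.eq_iff_exists (Submonoid.powers (f * f'))
      (TensorProduct.mk R (Localization.Away (f * f')) N 1)).mp h1
    exact ⟨m, hc⟩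
  choose! m hm using hov
  set m₀ := t.sup (fun f => t.sup (m f)) with hm₀
  have hm' : ∀ f ∈ t, ∀ f' ∈ t,
      (f * f') ^ m₀ • (f' ^ n₀ • y' f) = (f * f') ^ m₀ • (f ^ n₀ • y' f') := by
    intro f hf f' hf'
    have hle : m f f' ≤ m₀ :=
      le_trans (Finset.le_sup (f := m f) hf') (Finset.le_sup (f := fun f => t.sup (m f)) hf)
    have : (f * f') ^ m₀ = (f * f') ^ (m₀ - m f f') * (f * f') ^ m f f' := by
      rw [← pow_add, Nat.sub_add_cancel hle]
    rw [this, mul_smul, mul_smul, hm f hf f' hf']
  obtain ⟨z, hzdef⟩ : ∃ z : R → N, ∀ f, z f = f ^ m₀ • y' f := ⟨_, fun _ => rfl⟩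
  obtain ⟨n₁, hn₁⟩ : ∃ n₁ : ℕ, n₁ = n₀ + m₀ := ⟨_, rfl⟩
  have hz : ∀ f ∈ t, ∀ f' ∈ t, f' ^ n₁ • z f = f ^ n₁ • z f' := by
    intro f hf f' hf'
    have h1 := hm' f hf f' hf'
    simp only [hzdef, hn₁, smul_smul] at h1 ⊢
    have e1 : f' ^ (n₀ + m₀) * f ^ m₀ = (f * f') ^ m₀ * f' ^ n₀ := by ring
    have e2 : f ^ (n₀ + m₀) * f' ^ m₀ = (f * f') ^ m₀ * f ^ n₀ := by ring
    rw [e1, e2]
    exact h1
  -- partition of unity
  have h1 : (1 : R) ∈ Ideal.span ((fun f => f ^ n₁) '' (t : Set R)) := by
    rw [Ideal.span_pow_eq_top _ ht n₁]; trivial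
  obtain ⟨r, hr⟩ := (Submodule.mem_span_image_finset_iff_exists_fun' R).mp h1
  refine ⟨∑ g ∈ t, r g • z g, fun f hf => ?_⟩
  apply smul_injective_away N f n₁
  have h2 : f ^ n₁ • (∑ g ∈ t, r g • z g) = z f := by
    rw [Finset.smul_sum]
    have : ∀ g ∈ t, f ^ n₁ • (r g • z g) = (r g • g ^ n₁) • z f := by
      intro g hg
      rw [smul_comm, hz g hg f hf, smul_assoc]
    rw [Finset.sum_congr rfl this, ← Finset.sum_smul, hr, one_smul]
  rw [← TensorProduct.tmul_smul, h2, hzdef, hn₁]
  rw [TensorProduct.tmul_smul, ← hy' f hf, smul_smul, ← pow_add, add_comm]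

end Glue

section Detect

variable {R : Type u} [CommRing R] {A : Type u} [CommRing A] [HopfAlgebra R A]

/-- Group-likeness is Zariski local on the base. -/
theorem isGroupLikeElem_of_span (s : Set R) (hs : Ideal.span s = ⊤) {g : A}
    (h : ∀ f ∈ s, IsGroupLikeElem (Localization.Away f) ((1 : Localization.Away f) ⊗ₜ[R] g)) :
    IsGroupLikeElem R g where
  counit_eq_one := by
    have h0 : counit (R := R) g - 1 = 0 := by
      refine Module.eq_zero_of_isLocalized_span s hs
        (fun r : s => Localization.Away r.1 ⊗[R] R)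
        (fun r : s => TensorProduct.mk R (Localization.Away r.1) R 1) _ ?_
      intro r
      have h1 := (h r.1 r.2).counit_eq_one
      rw [TensorProduct.counit_tmul] at h1
      have h2 : algebraMap R (Localization.Away r.1) (counit (R := R) g - 1) = 0 := by
        rw [map_sub, map_one, sub_eq_zero]
        simpa [Algebra.smul_def] using h1
      rw [TensorProduct.mk_apply]
      have h3 : (1 : Localization.Away r.1) ⊗ₜ[R] (counit (R := R) g - 1) =
          (algebraMap R (Localization.Away r.1) (counit (R := R) g - 1)) ⊗ₜ[R] (1 : R) := by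
        rw [Algebra.algebraMap_eq_smul_one, TensorProduct.smul_tmul, smul_eq_mul, mul_one]
      rw [h3, h2, TensorProduct.zero_tmul]
    exact sub_eq_zero.mp h0
  comul_eq_tmul_self := by
    have h0 : comul (R := R) g - g ⊗ₜ[R] g = 0 := by
      refine Module.eq_zero_of_isLocalized_span s hs
        (fun r : s => Localization.Away r.1 ⊗[R] (A ⊗[R] A))
        (fun r : s => TensorProduct.mk R (Localization.Away r.1) (A ⊗[R] A) 1) _ ?_
      intro r
      have h1 := (h r.1 r.2).comul_eq_tmul_self
      rw [comul_one_tmul, ← bcMap2_tmul, ← sub_eq_zero] at h1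
      have h2 : bcMap2 (R := R) (Localization.Away r.1) A (comul (R := R) g - g ⊗ₜ[R] g) = 0 := by
        rw [map_sub]
        exact h1
      exact one_tmul_eq_zero_of_bcMap2 (Localization.Away r.1) _ h2
    exact sub_eq_zero.mp h0

theorem mem_smul_top_of_span (s : Set R) (hs : Ideal.span s = ⊤) (K : Ideal R) (a : A)
    (h : ∀ f ∈ s, (1 : Localization.Away f) ⊗ₜ[R] a ∈ (K.map (algebraMap R (Localization.Away f))) •
      (⊤ : Submodule (Localization.Away f) (Localization.Away f ⊗[R] A))) :
    a ∈ K • (⊤ : Submodule R A) := by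
  have h0 : (K • (⊤ : Submodule R A)).mkQ a = 0 := by
    refine Module.eq_zero_of_isLocalized_span s hs
      (fun r : s => Localization.Away r.1 ⊗[R] (A ⧸ (K • (⊤ : Submodule R A))))
      (fun r : s => TensorProduct.mk R (Localization.Away r.1) _ 1) _ ?_
    intro r
    exact one_tmul_mkQ_eq_zero_of_mem (Localization.Away r.1) K a (h r.1 r.2)
  exact (Submodule.Quotient.mk_eq_zero _).mp h0

end Detect

section BaseChange

variable {S : Type u} [CommRing S] (T : Type u) [CommRing T] [Algebra S T]
  {B : Type u} [CommRing B] [HopfAlgebra S B]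

theorem isMultTypeConst_of_equiv {B' : Type u} [CommRing B'] [HopfAlgebra S B'] (e : B ≃ₐc[S] B')
    (h : IsMultTypeConst S B') : IsMultTypeConst S B := by
  obtain ⟨S', _, _, hff, hD⟩ := h
  exact ⟨S', inferInstance, inferInstance, hff, BCB.isDiag_of_equiv (BCB.bcEquiv S' e) hD⟩

open Algebra.TensorProduct in
/-- Constant multiplicative type is stable under base change. -/
theorem isMultTypeConst_baseChange (h : IsMultTypeConst S B) : IsMultTypeConst T (T ⊗[S] B) := by
  obtain ⟨S', _, _, hff, hD⟩ := h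
  letI : Algebra S' (T ⊗[S] S') := Algebra.TensorProduct.rightAlgebra
  haveI : IsScalarTower S S' (T ⊗[S] S') := Algebra.TensorProduct.right_isScalarTower
  have h1 : IsDiag (T ⊗[S] S') ((T ⊗[S] S') ⊗[S] B) :=
    BCB.isDiag_baseChange_of_tower S B S' (T ⊗[S] S') hD
  refine ⟨T ⊗[S] S', inferInstance, inferInstance, inferInstance, ?_⟩
  exact BCB.isDiag_of_equiv (BCB.cancelBC S T (T ⊗[S] S') B) h1

end BaseChange

section Span

variable {R : Type u} [CommRing R] (A : Type u) [CommRing A] [HopfAlgebra R A]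

theorem Hmap_eq_rTensor {X Y : Type u} [CommRing X] [CommRing Y] [Algebra R X] [Algebra R Y]
    (f : X →ₐ[R] Y) (z : X ⊗[R] A) : Hmap A f z = LinearMap.rTensor A f.toLinearMap z := by
  induction z using TensorProduct.induction_on with
  | zero => simp
  | tmul r a => simp [Hmap]
  | add a b ha hb => rw [map_add, map_add, ha, hb]

/-- The lifting property for group-like elements is Zariski local on the base. -/
theorem liftGL_of_span (s : Set R) (hs : Ideal.span s = ⊤) (I : Ideal R)
    (hL : ∀ f ∈ s, LiftGL (Localization.Away f) (Localization.Away f ⊗[R] A)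
      (I.map (algebraMap R (Localization.Away f))))
    (hU : ∀ f ∈ s, ∀ f' ∈ s, UniqGL (Localization.Away (f * f'))
      (Localization.Away (f * f') ⊗[R] A) (I.map (algebraMap R (Localization.Away (f * f'))))) :
    LiftGL R A I := by
  classical
  intro x hx
  obtain ⟨t, hts, ht⟩ := (Ideal.span_eq_top_iff_finite s).mp hs
  have hex : ∀ f : R, ∃ g : Localization.Away f ⊗[R] A, f ∈ s →
      (IsGroupLikeElem (Localization.Away f) g ∧
        g - (1 : Localization.Away f) ⊗ₜ[R] x ∈ (I.map (algebraMap R (Localization.Away f))) •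
          (⊤ : Submodule (Localization.Away f) (Localization.Away f ⊗[R] A))) := by
    intro f
    by_cases hf : f ∈ s
    · obtain ⟨g, hg, hgx⟩ := hL f hf _ (hx.one_tmul (Localization.Away f) I)
      exact ⟨g, fun _ => ⟨hg, hgx⟩⟩
    · exact ⟨0, fun h => absurd h hf⟩
  choose g hg using hex
  have hcompat : ∀ f ∈ t, ∀ f' ∈ t, LinearMap.rTensor A (awayL f f').toLinearMap (g f) =
      LinearMap.rTensor A (awayR f f').toLinearMap (g f') := by
    intro f hf f' hf'
    rw [← Hmap_eq_rTensor, ← Hmap_eq_rTensor]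
    obtain ⟨h1, h1'⟩ := hg f (hts hf)
    obtain ⟨h2, h2'⟩ := hg f' (hts hf')
    apply hU f (hts hf) f' (hts hf') _ _ (isGroupLikeElem_map (awayL f f') h1)
      (isGroupLikeElem_map (awayR f f') h2)
    have e : Hmap A (awayL f f') (g f) - Hmap A (awayR f f') (g f') =
        Hmap A (awayL f f') (g f - (1 : Localization.Away f) ⊗ₜ[R] x) -
          Hmap A (awayR f f') (g f' - (1 : Localization.Away f') ⊗ₜ[R] x) := by
      rw [map_sub, map_sub, Hmap_one_tmul, Hmap_one_tmul]
      abel
    rw [e]
    exact Submodule.sub_mem _ (Hmap_mem_smul_top _ I h1') (Hmap_mem_smul_top _ I h2')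
  obtain ⟨y, hy⟩ := exists_glue A t ht g hcompat
  refine ⟨y, isGroupLikeElem_of_span (t : Set R) ht (fun f hf => ?_),
    mem_smul_top_of_span (t : Set R) ht I _ (fun f hf => ?_)⟩
  · rw [hy f hf]
    exact (hg f (hts hf)).1
  · rw [tmul_sub, hy f hf]
    exact (hg f (hts hf)).2

end Span

section Main

variable {R : Type u} [CommRing R] {A : Type u} [CommRing A] [HopfAlgebra R A]

theorem map_nil (X : Type u) [CommRing X] [Algebra R X] (I : Ideal R)
    (hI : ∀ x ∈ I, IsNilpotent x) : ∀ x ∈ I.map (algebraMap R X), IsNilpotent x := by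
  intro x hx
  have h1 : I.map (algebraMap R X) ≤ nilradical X := by
    rw [Ideal.map_le_iff_le_comap]
    intro r hr
    rw [Ideal.mem_comap]
    exact mem_nilradical.mpr ((hI r hr).map _)
  exact mem_nilradical.mp (h1 hx)

theorem liftGL_of_isDiag (h : IsDiag R A) (I : Ideal R) (hI : ∀ x ∈ I, IsNilpotent x) :
    LiftGL R A I := by
  obtain ⟨M, _, ⟨e⟩⟩ := h
  exact LiftGL.of_equiv e (liftGL_monoidAlgebra I hI)

theorem uniqGL_of_isMultTypeConst (h : IsMultTypeConst R A) (I : Ideal R)
    (hI : ∀ x ∈ I, IsNilpotent x) : UniqGL R A I :=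
  uniqGL_of_noPrimMod (noPrimMod_of_isMultTypeConst R A h) I hI

/-- Group-like elements of Hopf algebras of multiplicative type are determined by their reduction
modulo a nil ideal. -/
theorem uniqGL_of_isMultType (h : IsMultType R A) (I : Ideal R)
    (hI : ∀ x ∈ I, IsNilpotent x) : UniqGL R A I :=
  uniqGL_of_noPrimMod (noPrimMod_of_isMultType R A h) I hI

theorem liftGL_of_isMultTypeConst (h : IsMultTypeConst R A) (I : Ideal R)
    (hI : ∀ x ∈ I, IsNilpotent x) : LiftGL R A I := by
  obtain ⟨R', _, _, hff, hD⟩ := h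
  apply liftGL_of_faithfullyFlat A R' I
  · exact liftGL_of_isDiag hD _ (map_nil R' I hI)
  · have hD2 : IsDiag (R' ⊗[R] R') ((R' ⊗[R] R') ⊗[R] A) :=
      BCB.isDiag_baseChange_of_tower R A R' (R' ⊗[R] R') hD
    exact uniqGL_of_noPrimMod (noPrimMod_of_isDiag _ _ hD2) _ (map_nil _ I hI)

/-- Group-like elements of Hopf algebras of multiplicative type lift along nil ideals. -/
theorem liftGL_of_isMultType (h : IsMultType R A) (I : Ideal R)
    (hI : ∀ x ∈ I, IsNilpotent x) : LiftGL R A I := by
  obtain ⟨s, hs, hmt⟩ := h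
  apply liftGL_of_span A s hs I
  · intro f hf
    exact liftGL_of_isMultTypeConst (hmt f hf) _ (map_nil _ I hI)
  · intro f hf f' _
    letI : Algebra (Localization.Away f) (Localization.Away (f * f')) :=
      (awayL f f').toRingHom.toAlgebra
    haveI : IsScalarTower R (Localization.Away f) (Localization.Away (f * f')) :=
      IsScalarTower.of_algebraMap_eq (fun r => ((awayL f f').commutes r).symm)
    have h1 : IsMultTypeConst (Localization.Away (f * f'))
        (Localization.Away (f * f') ⊗[Localization.Away f] (Localization.Away f ⊗[R] A)) :=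
      isMultTypeConst_baseChange _ (hmt f hf)
    have h2 : IsMultTypeConst (Localization.Away (f * f')) (Localization.Away (f * f') ⊗[R] A) :=
      isMultTypeConst_of_equiv
        (BCB.cancelBC R (Localization.Away f) (Localization.Away (f * f')) A).symm h1
    exact uniqGL_of_isMultTypeConst h2 _ (map_nil _ I hI)

end Main

end Groth.Agent.Lib.R2H7.GLGlue
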