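import Mathlib
import Groth.Agent.Lib.R2H7GLGlue
import Groth.Agent.Lib.Helper25MonoMult
import Groth.Agent.Lib.Helper25MultBC

/-!
# R2H7DiagNil: diagonalisability of groups of multiplicative type lifts along nil ideals

* `bijective_chi`: a bialgebra homomorphism of group algebras `S[M] → S[N]` which is bijective
  modulo a nil ideal is bijective.
* `injMod_lTensor`, `surjMod_lTensor`: injectivity / surjectivity modulo an ideal is stable under
  flat base change.
* `bijective_of_isMultType`: a bialgebra homomorphism from a diagonalisable Hopf algebra to a Hopf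
  algebra of multiplicative type which is bijective modulo a nil ideal is bijective.
* `isDiag_of_nil`: a Hopf algebra of multiplicative type which is diagonalisable modulo a nil ideal
  is diagonalisable.
-/

set_option autoImplicit false
universe u

namespace Groth.Agent.Lib.R2H7.DiagNil

open TensorProduct Coalgebra Groth.Agent.Lib.Helper25 Groth.Agent.Lib.R2H7.GLLift
  Groth.Agent.Lib.R2H7.GLGlue SGA3b

section GroupAlg

variable {S : Type u} [CommRing S] {M : Type u} [CommGroup M] {N : Type u} [CommGroup N]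

theorem single_eq_smul {G : Type u} [Monoid G] (m : G) (a : S) :
    (MonoidAlgebra.single m a : MonoidAlgebra S G) = a • MonoidAlgebra.single m 1 := by
  rw [MonoidAlgebra.smul_single', mul_one]

theorem coeff_smul_self {g : MonoidAlgebra S N} (hg : IsGroupLikeElem S g) (n₀ : N) :
    g.coeff n₀ • g = MonoidAlgebra.single n₀ (g.coeff n₀) := by
  classical
  apply MonoidAlgebra.coeff_injective
  ext n
  rw [MonoidAlgebra.coeff_smul, Finsupp.smul_apply, smul_eq_mul, SubDiag.coeff_mul_coeff hg,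
    MonoidAlgebra.coeff_single, Finsupp.single_apply]

variable (χ : MonoidAlgebra S M →ₐc[S] MonoidAlgebra S N)

theorem isGL (m : M) : IsGroupLikeElem S (χ (MonoidAlgebra.single m 1)) :=
  (MonoidAlgebra.isGroupLikeElem_single_one (R := S) (A := S) m).map χ

variable (K : Ideal S)

theorem coeff_one_eq_zero_of_ne (hK : ∀ x ∈ K, IsNilpotent x)
    (hinj : ∀ x, χ x ∈ K • (⊤ : Submodule S (MonoidAlgebra S N)) →
      x ∈ K • (⊤ : Submodule S (MonoidAlgebra S M)))
    {u : M} (hu : u ≠ 1) : (χ (MonoidAlgebra.single u 1)).coeff 1 = 0 := by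
  classical
  set c := (χ (MonoidAlgebra.single u 1)).coeff 1 with hc
  have hg := isGL χ u
  have hidem : IsIdempotentElem c := SubDiag.isIdempotentElem_coeff hg 1
  have h0 : c • (χ (MonoidAlgebra.single u 1) - 1) = 0 := SubDiag.coeff_one_smul_sub_one hg
  have h1 : χ (c • (MonoidAlgebra.single u 1 - 1)) = 0 := by
    rw [map_smul, map_sub, map_one]
    exact h0
  have h2 : c • (MonoidAlgebra.single u 1 - 1 : MonoidAlgebra S M) ∈
      K • (⊤ : Submodule S (MonoidAlgebra S M)) := by
    apply hinj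
    rw [h1]
    exact Submodule.zero_mem _
  have h3 := functional_mem_of_mem_smul_top (MonoMult.cf S u) K h2
  have h4 : MonoMult.cf S u (c • (MonoidAlgebra.single u 1 - 1 : MonoidAlgebra S M)) = c := by
    rw [MonoMult.cf_apply, MonoidAlgebra.coeff_smul, Finsupp.smul_apply, MonoidAlgebra.coeff_sub,
      Finsupp.sub_apply, MonoidAlgebra.coeff_single, MonoidAlgebra.one_def,
      MonoidAlgebra.coeff_single, Finsupp.single_apply, Finsupp.single_apply, if_pos rfl,
      if_neg (Ne.symm hu), sub_zero, smul_eq_mul, mul_one]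
  rw [h4] at h3
  exact hidem.eq_zero_of_isNilpotent (hK c h3)

theorem coeff_one_chi (hK : ∀ x ∈ K, IsNilpotent x)
    (hinj : ∀ x, χ x ∈ K • (⊤ : Submodule S (MonoidAlgebra S N)) →
      x ∈ K • (⊤ : Submodule S (MonoidAlgebra S M)))
    (y : MonoidAlgebra S M) : (χ y).coeff 1 = y.coeff 1 := by
  classical
  induction y using MonoidAlgebra.induction_linear with
  | zero => simp
  | add x y hx hy =>
    rw [map_add, MonoidAlgebra.coeff_add, MonoidAlgebra.coeff_add, Finsupp.add_apply,
      Finsupp.add_apply, hx, hy]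
  | single m a =>
    rw [single_eq_smul m a, map_smul, MonoidAlgebra.coeff_smul, MonoidAlgebra.coeff_smul,
      Finsupp.smul_apply, Finsupp.smul_apply]
    by_cases hm : m = 1
    · subst hm
      have h1 : (MonoidAlgebra.single (1 : M) (1 : S) : MonoidAlgebra S M) = 1 :=
        MonoidAlgebra.one_def.symm
      rw [h1, map_one χ]
      simp [MonoidAlgebra.one_def]
    · rw [coeff_one_eq_zero_of_ne χ K hK hinj hm, MonoidAlgebra.coeff_single,
        Finsupp.single_apply, if_neg hm]

theorem injective_chi (hK : ∀ x ∈ K, IsNilpotent x)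
    (hinj : ∀ x, χ x ∈ K • (⊤ : Submodule S (MonoidAlgebra S N)) →
      x ∈ K • (⊤ : Submodule S (MonoidAlgebra S M))) : Function.Injective χ := by
  rw [injective_iff_map_eq_zero]
  intro y hy
  apply MonoidAlgebra.coeff_injective
  ext m
  have h1 : y.coeff m = (y * MonoidAlgebra.single m⁻¹ 1).coeff 1 := by
    rw [MonoidAlgebra.coeff_mul_single_apply, inv_inv, one_mul, mul_one]
  rw [h1, ← coeff_one_chi χ K hK hinj, map_mul, hy, zero_mul]
  rfl

theorem exists_chi_eq (x : MonoidAlgebra S M) (n₀ : N) :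
    ∃ w, χ w = (χ x).coeff n₀ • (MonoidAlgebra.single n₀ (1 : S) : MonoidAlgebra S N) := by
  induction x using MonoidAlgebra.induction_linear with
  | zero => exact ⟨0, by simp⟩
  | add x y hx hy =>
    obtain ⟨w1, h1⟩ := hx
    obtain ⟨w2, h2⟩ := hy
    refine ⟨w1 + w2, ?_⟩
    rw [map_add, map_add, h1, h2, MonoidAlgebra.coeff_add, Finsupp.add_apply, add_smul]
  | single m a =>
    refine ⟨(a * (χ (MonoidAlgebra.single m 1)).coeff n₀) • MonoidAlgebra.single m 1, ?_⟩
    rw [map_smul, mul_smul, coeff_smul_self (isGL χ m) n₀, single_eq_smul m a, map_smul,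
      MonoidAlgebra.coeff_smul, Finsupp.smul_apply, smul_eq_mul, mul_smul,
      single_eq_smul n₀ ((χ (MonoidAlgebra.single m 1)).coeff n₀)]

theorem surjective_chi (hK : ∀ x ∈ K, IsNilpotent x)
    (hsurj : ∀ n : N, ∃ x, χ x - MonoidAlgebra.single n 1 ∈
      K • (⊤ : Submodule S (MonoidAlgebra S N))) : Function.Surjective χ := by
  classical
  have hsingle : ∀ n₀ : N, ∃ w, χ w = (MonoidAlgebra.single n₀ (1 : S) : MonoidAlgebra S N) := by
    intro n₀
    obtain ⟨x, hx⟩ := hsurj n₀
    obtain ⟨w, hw⟩ := exists_chi_eq χ x n₀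
    have h1 := functional_mem_of_mem_smul_top (MonoMult.cf S n₀) K hx
    have h2 : MonoMult.cf S n₀ (χ x - MonoidAlgebra.single n₀ 1) = (χ x).coeff n₀ - 1 := by
      rw [MonoMult.cf_apply, MonoidAlgebra.coeff_sub, Finsupp.sub_apply,
        MonoidAlgebra.coeff_single, Finsupp.single_apply, if_pos rfl]
    rw [h2] at h1
    have hunit : IsUnit ((χ x).coeff n₀) := by
      have h3 := (hK _ h1).isUnit_add_one
      rwa [sub_add_cancel] at h3
    obtain ⟨v, hv⟩ := hunit
    refine ⟨(↑v⁻¹ : S) • w, ?_⟩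
    rw [map_smul, hw, ← hv, smul_smul, Units.inv_mul, one_smul]
  intro y
  induction y using MonoidAlgebra.induction_linear with
  | zero => exact ⟨0, map_zero _⟩
  | add x y hx hy =>
    obtain ⟨a, rfl⟩ := hx
    obtain ⟨b, rfl⟩ := hy
    exact ⟨a + b, map_add _ _ _⟩
  | single n a =>
    obtain ⟨w, hw⟩ := hsingle n
    exact ⟨a • w, by rw [map_smul, hw, ← single_eq_smul]⟩

/-- A bialgebra homomorphism of group algebras which is bijective modulo a nil ideal is
bijective. -/
theorem bijective_chi (hK : ∀ x ∈ K, IsNilpotent x)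
    (hsurj : ∀ n : N, ∃ x, χ x - MonoidAlgebra.single n 1 ∈
      K • (⊤ : Submodule S (MonoidAlgebra S N)))
    (hinj : ∀ x, χ x ∈ K • (⊤ : Submodule S (MonoidAlgebra S N)) →
      x ∈ K • (⊤ : Submodule S (MonoidAlgebra S M))) : Function.Bijective χ :=
  ⟨injective_chi χ K hK hinj, surjective_chi χ K hK hsurj⟩

end GroupAlg

section FlatMod

variable {R : Type u} [CommRing R] (T : Type u) [CommRing T] [Algebra R T] (I : Ideal R)
  {P Q : Type u} [AddCommGroup P] [Module R P] [AddCommGroup Q] [Module R Q]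

theorem tmul_mem_map_smul_top (t : T) {p : P} (hp : p ∈ I • (⊤ : Submodule R P)) :
    t ⊗ₜ[R] p ∈ (I.map (algebraMap R T)) • (⊤ : Submodule T (T ⊗[R] P)) := by
  refine Submodule.smul_induction_on hp ?_ ?_
  · intro r hr n _
    have h1 : t ⊗ₜ[R] (r • n) = algebraMap R T r • (t ⊗ₜ[R] n) := by
      rw [TensorProduct.tmul_smul, algebraMap_smul]
    rw [h1]
    exact Submodule.smul_mem_smul (Ideal.mem_map_of_mem _ hr) Submodule.mem_top
  · intro x y hx hy
    rw [TensorProduct.tmul_add]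
    exact Submodule.add_mem _ hx hy

theorem smul_lTensor_quot_eq_zero (r' : T) (hr' : r' ∈ I.map (algebraMap R T))
    (y : T ⊗[R] (P ⧸ (I • (⊤ : Submodule R P)))) : r' • y = 0 := by
  have hgen : ∀ k ∈ I, ∀ y : T ⊗[R] (P ⧸ (I • (⊤ : Submodule R P))),
      (algebraMap R T k) • y = 0 := by
    intro k hk y
    rw [algebraMap_smul]
    induction y using TensorProduct.induction_on with
    | zero => simp
    | add x y hx hy => rw [smul_add, hx, hy, add_zero]
    | tmul t q =>
      obtain ⟨a, rfl⟩ := Submodule.Quotient.mk_surjective _ q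
      rw [← TensorProduct.tmul_smul, ← Submodule.Quotient.mk_smul,
        (Submodule.Quotient.mk_eq_zero _).mpr (Submodule.smul_mem_smul hk Submodule.mem_top),
        TensorProduct.tmul_zero]
  unfold Ideal.map at hr'
  induction hr' using Submodule.span_induction generalizing y with
  | mem r hr =>
    obtain ⟨k, hk, rfl⟩ := hr
    exact hgen k hk y
  | zero => simp
  | add a b _ _ ha hb => rw [add_smul, ha, hb, add_zero]
  | smul c a _ ha => rw [smul_eq_mul, mul_smul, ha, smul_zero]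

theorem lTensor_mkQ_eq_zero_of_mem {z : T ⊗[R] P}
    (hz : z ∈ (I.map (algebraMap R T)) • (⊤ : Submodule T (T ⊗[R] P))) :
    LinearMap.lTensor T (I • (⊤ : Submodule R P)).mkQ z = 0 := by
  have h : LinearMap.baseChange T (I • (⊤ : Submodule R P)).mkQ z = 0 := by
    refine Submodule.smul_induction_on hz ?_ ?_
    · intro r hr n _
      rw [map_smul]
      exact smul_lTensor_quot_eq_zero T I r hr _
    · intro x y hx hy
      rw [map_add, hx, hy, add_zero]
  exact h

theorem mem_of_lTensor_mkQ_eq_zero {z : T ⊗[R] P}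
    (hz : LinearMap.lTensor T (I • (⊤ : Submodule R P)).mkQ z = 0) :
    z ∈ (I.map (algebraMap R T)) • (⊤ : Submodule T (T ⊗[R] P)) := by
  have hex : Function.Exact (I • (⊤ : Submodule R P)).subtype (I • (⊤ : Submodule R P)).mkQ :=
    LinearMap.exact_subtype_mkQ _
  have hex2 := lTensor_exact T hex (Submodule.mkQ_surjective _)
  obtain ⟨w, rfl⟩ := (hex2 z).mp hz
  clear hz
  induction w using TensorProduct.induction_on with
  | zero =>
    rw [map_zero]
    exact Submodule.zero_mem _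
  | tmul t p =>
    rw [LinearMap.lTensor_tmul]
    exact tmul_mem_map_smul_top T I t p.2
  | add a b ha hb =>
    rw [map_add]
    exact Submodule.add_mem _ ha hb

/-- Injectivity modulo an ideal is stable under flat base change. -/
theorem injMod_lTensor [Module.Flat R T] (f : P →ₗ[R] Q)
    (hinj : ∀ p, f p ∈ I • (⊤ : Submodule R Q) → p ∈ I • (⊤ : Submodule R P))
    (z : T ⊗[R] P)
    (hz : LinearMap.lTensor T f z ∈ (I.map (algebraMap R T)) • (⊤ : Submodule T (T ⊗[R] Q))) :
    z ∈ (I.map (algebraMap R T)) • (⊤ : Submodule T (T ⊗[R] P)) := by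
  have hle : I • (⊤ : Submodule R P) ≤ (I • (⊤ : Submodule R Q)).comap f := by
    intro p hp
    exact map_mem_smul_top f I hp
  obtain ⟨fbar, hfbar⟩ : ∃ fbar : (P ⧸ (I • (⊤ : Submodule R P))) →ₗ[R]
      (Q ⧸ (I • (⊤ : Submodule R Q))), fbar = Submodule.mapQ _ _ f hle := ⟨_, rfl⟩
  have hfinj : Function.Injective fbar := by
    rw [injective_iff_map_eq_zero]
    intro q hq
    obtain ⟨p, rfl⟩ := Submodule.Quotient.mk_surjective _ q
    rw [hfbar, Submodule.mapQ_apply, Submodule.Quotient.mk_eq_zero] at hq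
    exact (Submodule.Quotient.mk_eq_zero _).mpr (hinj p hq)
  have hflat : Function.Injective (LinearMap.lTensor T fbar) :=
    Module.Flat.lTensor_preserves_injective_linearMap fbar hfinj
  apply mem_of_lTensor_mkQ_eq_zero T I
  apply hflat
  have hcomm : fbar ∘ₗ (I • (⊤ : Submodule R P)).mkQ = (I • (⊤ : Submodule R Q)).mkQ ∘ₗ f := by
    rw [hfbar]
    ext p
    rfl
  rw [map_zero, ← LinearMap.comp_apply, ← LinearMap.lTensor_comp, hcomm, LinearMap.lTensor_comp,
    LinearMap.comp_apply]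
  exact lTensor_mkQ_eq_zero_of_mem T I hz

/-- Surjectivity modulo an ideal is stable under base change. -/
theorem surjMod_lTensor (f : P →ₗ[R] Q)
    (hsurj : ∀ q, ∃ p, f p - q ∈ I • (⊤ : Submodule R Q)) (z : T ⊗[R] Q) :
    ∃ w : T ⊗[R] P, LinearMap.lTensor T f w - z ∈
      (I.map (algebraMap R T)) • (⊤ : Submodule T (T ⊗[R] Q)) := by
  induction z using TensorProduct.induction_on with
  | zero => exact ⟨0, by rw [map_zero, sub_zero]; exact Submodule.zero_mem _⟩
  | tmul t q =>
    obtain ⟨p, hp⟩ := hsurj q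
    refine ⟨t ⊗ₜ p, ?_⟩
    rw [LinearMap.lTensor_tmul, ← TensorProduct.tmul_sub]
    exact tmul_mem_map_smul_top T I t hp
  | add a b ha hb =>
    obtain ⟨wa, ha⟩ := ha
    obtain ⟨wb, hb⟩ := hb
    refine ⟨wa + wb, ?_⟩
    have h1 : LinearMap.lTensor T f (wa + wb) - (a + b) =
        (LinearMap.lTensor T f wa - a) + (LinearMap.lTensor T f wb - b) := by
      rw [map_add]
      abel
    rw [h1]
    exact Submodule.add_mem _ ha hb

end FlatMod

section BIJ

variable {R : Type u} [CommRing R] {A B : Type u} [CommRing A] [HopfAlgebra R A] [CommRing B]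
  [HopfAlgebra R B]

/-- Surjective modulo `I`. -/
def SurjMod (I : Ideal R) (ψ : B →ₐc[R] A) : Prop :=
  ∀ a : A, ∃ b : B, ψ b - a ∈ I • (⊤ : Submodule R A)

/-- Injective modulo `I`. -/
def InjMod (I : Ideal R) (ψ : B →ₐc[R] A) : Prop :=
  ∀ b : B, ψ b ∈ I • (⊤ : Submodule R A) → b ∈ I • (⊤ : Submodule R B)

theorem bialgHom_mem_smul_top {X Y : Type u} [CommRing X] [Bialgebra R X] [CommRing Y]
    [Bialgebra R Y] (e : X →ₐc[R] Y) (I : Ideal R) {z : X}
    (hz : z ∈ I • (⊤ : Submodule R X)) : e z ∈ I • (⊤ : Submodule R Y) :=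
  map_mem_smul_top ((e : X →ₐc[R] Y) : X →ₗ[R] Y) I hz

theorem bialgEquiv_mem_smul_top {X Y : Type u} [CommRing X] [Bialgebra R X] [CommRing Y]
    [Bialgebra R Y] (e : X ≃ₐc[R] Y) (I : Ideal R) {z : X}
    (hz : z ∈ I • (⊤ : Submodule R X)) : e z ∈ I • (⊤ : Submodule R Y) :=
  bialgHom_mem_smul_top (e : X →ₐc[R] Y) I hz

theorem bijective_of_isDiag (I : Ideal R) (hI : ∀ x ∈ I, IsNilpotent x) (ψ : B →ₐc[R] A)
    (hB : IsDiag R B) (hA : IsDiag R A) (hs : SurjMod I ψ) (hi : InjMod I ψ) :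
    Function.Bijective ψ := by
  obtain ⟨M, _, ⟨eB⟩⟩ := hB
  obtain ⟨N, _, ⟨eA⟩⟩ := hA
  obtain ⟨χ, hχa⟩ : ∃ χ : MonoidAlgebra R M →ₐc[R] MonoidAlgebra R N,
      ∀ x, χ x = eA (ψ (eB.symm x)) :=
    ⟨(eA.toBialgHom.comp ψ).comp eB.symm.toBialgHom, fun x => rfl⟩
  have hbij : Function.Bijective χ := by
    apply bijective_chi χ I hI
    · intro n
      obtain ⟨b, hb⟩ := hs (eA.symm (MonoidAlgebra.single n 1))
      refine ⟨eB b, ?_⟩
      have h1 := bialgEquiv_mem_smul_top eA I hb
      rw [map_sub, BialgEquiv.apply_symm_apply] at h1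
      rw [hχa, BialgEquiv.symm_apply_apply]
      exact h1
    · intro x hx
      rw [hχa] at hx
      have h1 := bialgEquiv_mem_smul_top eA.symm I hx
      rw [BialgEquiv.symm_apply_apply] at h1
      have h3 := hi _ h1
      have h4 := bialgEquiv_mem_smul_top eB I h3
      rwa [BialgEquiv.apply_symm_apply] at h4
  have hψ : ∀ b, ψ b = eA.symm (χ (eB b)) := by
    intro b
    rw [hχa, BialgEquiv.symm_apply_apply, BialgEquiv.symm_apply_apply]
  refine ⟨?_, ?_⟩
  · intro b b' h
    rw [hψ, hψ] at h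
    exact eB.injective (hbij.1 (eA.symm.injective h))
  · intro a
    obtain ⟨x, hx⟩ := hbij.2 (eA a)
    refine ⟨eB.symm x, ?_⟩
    rw [hψ, BialgEquiv.apply_symm_apply, hx, BialgEquiv.symm_apply_apply]

/-- The base change of a bialgebra homomorphism. -/
noncomputable abbrev bcHom (T : Type u) [CommRing T] [Algebra R T] (ψ : B →ₐc[R] A) :
    T ⊗[R] B →ₐc[T] T ⊗[R] A :=
  Bialgebra.TensorProduct.map (BialgHom.id T T) ψ

theorem bcHom_eq_lTensor (T : Type u) [CommRing T] [Algebra R T] (ψ : B →ₐc[R] A)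
    (z : T ⊗[R] B) :
    bcHom T ψ z = LinearMap.lTensor T ((ψ : B →ₐ[R] A) : B →ₗ[R] A) z := by
  rw [MonoMult.lTensor_eq_algMap]
  rfl

theorem surjMod_bcHom (T : Type u) [CommRing T] [Algebra R T] (I : Ideal R) (ψ : B →ₐc[R] A)
    (hs : SurjMod I ψ) : SurjMod (I.map (algebraMap R T)) (bcHom T ψ) := by
  intro z
  obtain ⟨w, hw⟩ := surjMod_lTensor T I ((ψ : B →ₐ[R] A) : B →ₗ[R] A) (fun q => hs q) z
  exact ⟨w, by rw [bcHom_eq_lTensor]; exact hw⟩

theorem injMod_bcHom (T : Type u) [CommRing T] [Algebra R T] [Module.Flat R T] (I : Ideal R)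
    (ψ : B →ₐc[R] A) (hi : InjMod I ψ) : InjMod (I.map (algebraMap R T)) (bcHom T ψ) := by
  intro z hz
  rw [bcHom_eq_lTensor] at hz
  exact injMod_lTensor T I ((ψ : B →ₐ[R] A) : B →ₗ[R] A) (fun p hp => hi p hp) z hz

theorem bijective_of_isMultTypeConst (I : Ideal R) (hI : ∀ x ∈ I, IsNilpotent x)
    (ψ : B →ₐc[R] A) (hB : IsDiag R B) (hA : IsMultTypeConst R A) (hs : SurjMod I ψ)
    (hi : InjMod I ψ) : Function.Bijective ψ := by
  obtain ⟨R', _, _, hff, hD⟩ := hA
  have hbij : Function.Bijective (bcHom R' ψ) :=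
    bijective_of_isDiag (I.map (algebraMap R R')) (map_nil R' I hI) (bcHom R' ψ)
      (BCB.isDiag_baseChange R' hB) hD (surjMod_bcHom R' I ψ hs) (injMod_bcHom R' I ψ hi)
  refine ⟨?_, ?_⟩
  · have h1 : Function.Injective (LinearMap.lTensor R' ((ψ : B →ₐ[R] A) : B →ₗ[R] A)) := by
      intro z z' h
      rw [← bcHom_eq_lTensor, ← bcHom_eq_lTensor] at h
      exact hbij.1 h
    exact (Module.FaithfullyFlat.lTensor_injective_iff_injective R R' _).mp h1
  · exact MonoMult.surjective_of_faithfullyFlat R' (ψ : B →ₐ[R] A) hbij.2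

theorem bijective_of_isMultType (I : Ideal R) (hI : ∀ x ∈ I, IsNilpotent x)
    (ψ : B →ₐc[R] A) (hB : IsDiag R B) (hA : IsMultType R A) (hs : SurjMod I ψ)
    (hi : InjMod I ψ) : Function.Bijective ψ := by
  obtain ⟨s, hspan, hmt⟩ := hA
  refine bijective_of_isLocalized_span s hspan
    (fun r => Localization.Away r.1 ⊗[R] B)
    (fun r => TensorProduct.mk R (Localization.Away r.1) B 1)
    (fun r => Localization.Away r.1 ⊗[R] A)
    (fun r => TensorProduct.mk R (Localization.Away r.1) A 1)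
    ((ψ : B →ₐ[R] A) : B →ₗ[R] A) ?_
  intro r
  have heq : IsLocalizedModule.map (.powers r.1)
      (TensorProduct.mk R (Localization.Away r.1) B 1)
      (TensorProduct.mk R (Localization.Away r.1) A 1) ((ψ : B →ₐ[R] A) : B →ₗ[R] A) =
      ((ψ : B →ₐ[R] A) : B →ₗ[R] A).lTensor (Localization.Away r.1) := by
    apply IsLocalizedModule.linearMap_ext (.powers r.1)
      (TensorProduct.mk R (Localization.Away r.1) B 1)
      (TensorProduct.mk R (Localization.Away r.1) A 1)
    rw [IsLocalizedModule.map_comp]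
    ext c
    simp
  rw [heq]
  have hbij : Function.Bijective (bcHom (Localization.Away r.1) ψ) :=
    bijective_of_isMultTypeConst (I.map (algebraMap R (Localization.Away r.1)))
      (map_nil _ I hI) (bcHom (Localization.Away r.1) ψ)
      (BCB.isDiag_baseChange (Localization.Away r.1) hB) (hmt r.1 r.2)
      (surjMod_bcHom _ I ψ hs) (injMod_bcHom _ I ψ hi)
  refine ⟨?_, ?_⟩
  · intro z z' h
    rw [← bcHom_eq_lTensor, ← bcHom_eq_lTensor] at h
    exact hbij.1 h
  · intro z
    obtain ⟨w, hw⟩ := hbij.2 z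
    exact ⟨w, by rw [← bcHom_eq_lTensor]; exact hw⟩

end BIJ

section Assembly

variable {R : Type u} [CommRing R] (I : Ideal R)

theorem one_tmul_surjective {N : Type u} [AddCommGroup N] [Module R N] (z : (R ⧸ I) ⊗[R] N) :
    ∃ a : N, (1 : R ⧸ I) ⊗ₜ[R] a = z := by
  obtain ⟨a, ha⟩ := Submodule.Quotient.mk_surjective _
    (TensorProduct.quotTensorEquivQuotSMul N I z)
  refine ⟨a, ?_⟩
  apply (TensorProduct.quotTensorEquivQuotSMul N I).injective
  rw [TensorProduct.quotTensorEquivQuotSMul_mk_one_tmul, ha]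

theorem one_tmul_eq_zero_iff {N : Type u} [AddCommGroup N] [Module R N] (a : N) :
    (1 : R ⧸ I) ⊗ₜ[R] a = 0 ↔ a ∈ I • (⊤ : Submodule R N) := by
  rw [← (TensorProduct.quotTensorEquivQuotSMul N I).map_eq_zero_iff,
    TensorProduct.quotTensorEquivQuotSMul_mk_one_tmul, Submodule.Quotient.mk_eq_zero]

theorem one_tmul_eq_iff {N : Type u} [AddCommGroup N] [Module R N] (a b : N) :
    (1 : R ⧸ I) ⊗ₜ[R] a = (1 : R ⧸ I) ⊗ₜ[R] b ↔ a - b ∈ I • (⊤ : Submodule R N) := by
  rw [← one_tmul_eq_zero_iff, TensorProduct.tmul_sub, sub_eq_zero]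

theorem one_tmul_smul {N : Type u} [AddCommGroup N] [Module R N] (r : R) (a : N) :
    (1 : R ⧸ I) ⊗ₜ[R] (r • a) = (Ideal.Quotient.mk I r) • ((1 : R ⧸ I) ⊗ₜ[R] a) := by
  rw [TensorProduct.smul_tmul', smul_eq_mul, mul_one, TensorProduct.tmul_smul,
    TensorProduct.smul_tmul']
  congr 1
  rw [Algebra.smul_def, mul_one]
  rfl

variable {A : Type u} [CommRing A] [HopfAlgebra R A]

theorem glmod_of_one_tmul {x : A} (hx : IsGroupLikeElem (R ⧸ I) ((1 : R ⧸ I) ⊗ₜ[R] x)) :
    GLmod R A I x := by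
  refine ⟨?_, ?_⟩
  · rw [← one_tmul_eq_zero_iff]
    apply one_tmul_eq_zero_of_bcMap2 (R ⧸ I)
    rw [map_sub, bcMap2_tmul, ← comul_one_tmul, hx.comul_eq_tmul_self, sub_self]
  · have h1 := hx.counit_eq_one
    rw [TensorProduct.counit_tmul] at h1
    have h2 : algebraMap R (R ⧸ I) (counit (R := R) x) = algebraMap R (R ⧸ I) 1 := by
      simpa [Algebra.smul_def] using h1
    rw [Ideal.Quotient.algebraMap_eq] at h2
    exact (Ideal.Quotient.mk_eq_mk_iff_sub_mem _ _).mp h2

theorem mapRingHom_single {M : Type u} [CommGroup M] {S S' : Type u} [CommRing S] [CommRing S']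
    (f : S →+* S') (m : M) (r : S) :
    MonoidAlgebra.mapRingHom M f (MonoidAlgebra.single m r) = MonoidAlgebra.single m (f r) := by
  classical
  apply MonoidAlgebra.coeff_injective
  ext n
  rw [MonoidAlgebra.coeff_mapRingHom, MonoidAlgebra.coeff_single, MonoidAlgebra.coeff_single,
    Finsupp.single_apply, Finsupp.single_apply]
  split_ifs
  · rfl
  · exact map_zero f

theorem mapRingHom_surjective {M : Type u} [CommGroup M] {S S' : Type u} [CommRing S]
    [CommRing S'] (f : S →+* S') (hf : Function.Surjective f) :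
    Function.Surjective (MonoidAlgebra.mapRingHom M f) := by
  intro y
  induction y using MonoidAlgebra.induction_linear with
  | zero => exact ⟨0, map_zero _⟩
  | add x y hx hy =>
    obtain ⟨a, rfl⟩ := hx
    obtain ⟨b, rfl⟩ := hy
    exact ⟨a + b, map_add _ _ _⟩
  | single m r =>
    obtain ⟨r', rfl⟩ := hf r
    exact ⟨MonoidAlgebra.single m r', mapRingHom_single f m r'⟩

/-- A Hopf algebra of multiplicative type which is diagonalisable modulo a nil ideal is
diagonalisable. -/
theorem isDiag_of_nil (hI : ∀ x ∈ I, IsNilpotent x) (h : IsMultType R A)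
    (h0 : IsDiag (R ⧸ I) ((R ⧸ I) ⊗[R] A)) : IsDiag R A := by
  classical
  obtain ⟨M, _, ⟨e₀⟩⟩ := h0
  have hx : ∀ m : M, ∃ g : A, IsGroupLikeElem R g ∧
      (1 : R ⧸ I) ⊗ₜ[R] g = e₀.symm (MonoidAlgebra.single m 1) := by
    intro m
    obtain ⟨x, hx⟩ := one_tmul_surjective I (e₀.symm (MonoidAlgebra.single m 1))
    have hgl : IsGroupLikeElem (R ⧸ I) ((1 : R ⧸ I) ⊗ₜ[R] x) := by
      rw [hx]
      exact (MonoidAlgebra.isGroupLikeElem_single_one (R := R ⧸ I) (A := R ⧸ I) m).map e₀.symm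
    obtain ⟨g, hg, hgx⟩ := liftGL_of_isMultType h I hI x (glmod_of_one_tmul I hgl)
    refine ⟨g, hg, ?_⟩
    rw [← hx, one_tmul_eq_iff]
    exact hgx
  choose g hg hge using hx
  have hU := uniqGL_of_isMultType h I hI
  have hone : g 1 = 1 := by
    apply hU _ _ (hg 1) (IsGroupLikeElem.one (R := R) (A := A))
    rw [← one_tmul_eq_iff, hge, ← MonoidAlgebra.one_def, map_one]
    rfl
  have hmul : ∀ m m', g (m * m') = g m * g m' := by
    intro m m'
    apply hU _ _ (hg _) ((hg m).mul (hg m'))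
    rw [← one_tmul_eq_iff, hge]
    have h1 : (1 : R ⧸ I) ⊗ₜ[R] (g m * g m') =
        ((1 : R ⧸ I) ⊗ₜ[R] g m) * ((1 : R ⧸ I) ⊗ₜ[R] g m') := by
      rw [Algebra.TensorProduct.tmul_mul_tmul, one_mul]
    rw [h1, hge, hge, ← map_mul, MonoidAlgebra.single_mul_single, mul_one]
  let γ : M →* GroupLike R A :=
    { toFun := fun m => ⟨g m, hg m⟩
      map_one' := GroupLike.val_injective hone
      map_mul' := fun m m' => GroupLike.val_injective (hmul m m') }
  obtain ⟨ψ, hψs⟩ : ∃ ψ : MonoidAlgebra R M →ₐc[R] A,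
      ∀ (m : M) (r : R), ψ (MonoidAlgebra.single m r) = r • g m := by
    refine ⟨(MonoidAlgebra.liftGroupLikeBialgHom (R := R) (A := A)).comp
      (MonoidAlgebra.mapDomainBialgHom R γ), fun m r => ?_⟩
    rw [BialgHom.comp_apply, MonoidAlgebra.mapDomainBialgHom_single,
      MonoidAlgebra.liftGroupLikeBialgHom_apply, MonoidAlgebra.lift_single]
    rfl
  have hkey : ∀ x : MonoidAlgebra R M, e₀ ((1 : R ⧸ I) ⊗ₜ[R] ψ x) =
      MonoidAlgebra.mapRingHom M (Ideal.Quotient.mk I) x := by
    intro x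
    induction x using MonoidAlgebra.induction_linear with
    | zero => simp
    | add x y hx hy => rw [map_add, TensorProduct.tmul_add, map_add, hx, hy, map_add]
    | single m r =>
      rw [hψs, one_tmul_smul, map_smul, hge, BialgEquiv.apply_symm_apply, mapRingHom_single,
        MonoidAlgebra.smul_single', mul_one]
  have hbij : Function.Bijective ψ := by
    apply bijective_of_isMultType I hI ψ ⟨M, inferInstance, ⟨BialgEquiv.refl R _⟩⟩ h
    · intro a
      obtain ⟨x, hx⟩ := mapRingHom_surjective (M := M) (Ideal.Quotient.mk I)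
        Ideal.Quotient.mk_surjective (e₀ ((1 : R ⧸ I) ⊗ₜ[R] a))
      refine ⟨x, ?_⟩
      rw [← one_tmul_eq_iff]
      have h1 := hkey x
      rw [hx] at h1
      exact e₀.injective h1
    · intro b hb
      rw [← one_tmul_eq_zero_iff] at hb
      have h1 : MonoidAlgebra.mapRingHom M (Ideal.Quotient.mk I) b = 0 := by
        rw [← hkey, hb, map_zero]
      have h2 : ∀ m, b.coeff m ∈ I := by
        intro m
        have h3 := congrArg (fun y => y.coeff m) h1
        simp only [MonoidAlgebra.coeff_mapRingHom] at h3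
        exact Ideal.Quotient.eq_zero_iff_mem.mp h3
      rw [eq_sum_single b]
      exact Submodule.sum_mem _ fun m _ => single_mem_smul_top I m (h2 m)
  exact ⟨M, inferInstance, ⟨(BialgEquiv.ofBijective ψ hbij).symm⟩⟩

end Assembly

end Groth.Agent.Lib.R2H7.DiagNil
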