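import Mathlib
import Groth.Agent.Lib.R2H7DiagNil

/-!
# R2H7FlatNil: bijectivity of linear maps into flat modules modulo a nilpotent ideal

* `smul_mem_mul_smul_top`, `map_mem_mul_smul_top`, `lTensor_mem_mul_smul_top`,
  `mul_mem_mul_smul_top`, `mul_mem_smul_top_left`: bookkeeping for the submodules `K • ⊤`.
* `surjective_of_nilpotent`: a linear map which is surjective modulo a nilpotent ideal is
  surjective.
* `bijective_of_flat_of_nilpotent`: a linear map into a flat module which is bijective modulo a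
  nilpotent ideal is bijective.
-/

set_option autoImplicit false
universe u

namespace Groth.Agent.Lib.R2H7.FlatNil

open TensorProduct Groth.Agent.Lib.Helper25 Groth.Agent.Lib.R2H7.DiagNil

section Mem

variable {R : Type u} [CommRing R]

theorem smul_mem_mul_smul_top {N : Type u} [AddCommGroup N] [Module R N] (J K : Ideal R) {r : R}
    (hr : r ∈ J) {z : N} (hz : z ∈ K • (⊤ : Submodule R N)) :
    r • z ∈ (J * K) • (⊤ : Submodule R N) := by
  rw [Submodule.mul_smul]
  exact Submodule.smul_mem_smul hr hz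

/-- A linear map with values in `I • ⊤` maps `J • ⊤` into `(J * I) • ⊤`. -/
theorem map_mem_mul_smul_top {P Q : Type u} [AddCommGroup P] [Module R P] [AddCommGroup Q]
    [Module R Q] (J I : Ideal R) (f : P →ₗ[R] Q)
    (hf : ∀ p, f p ∈ I • (⊤ : Submodule R Q)) {w : P} (hw : w ∈ J • (⊤ : Submodule R P)) :
    f w ∈ (J * I) • (⊤ : Submodule R Q) := by
  refine Submodule.smul_induction_on hw ?_ ?_
  · intro r hr n _
    rw [map_smul]
    exact smul_mem_mul_smul_top J I hr (hf n)
  · intro x y hx hy
    rw [map_add]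
    exact Submodule.add_mem _ hx hy

theorem lTensor_mem_smul_top {A P Q : Type u} [AddCommGroup A] [Module R A] [AddCommGroup P]
    [Module R P] [AddCommGroup Q] [Module R Q] (I : Ideal R) (f : P →ₗ[R] Q)
    (hf : ∀ p, f p ∈ I • (⊤ : Submodule R Q)) (w : A ⊗[R] P) :
    LinearMap.lTensor A f w ∈ I • (⊤ : Submodule R (A ⊗[R] Q)) := by
  induction w using TensorProduct.induction_on with
  | zero => rw [map_zero]; exact Submodule.zero_mem _
  | tmul a p =>
    rw [LinearMap.lTensor_tmul]
    exact map_mem_smul_top (TensorProduct.mk R A Q a) I (hf p)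
  | add x y hx hy => rw [map_add]; exact Submodule.add_mem _ hx hy

theorem lTensor_mem_mul_smul_top {A P Q : Type u} [AddCommGroup A] [Module R A] [AddCommGroup P]
    [Module R P] [AddCommGroup Q] [Module R Q] (J I : Ideal R) (f : P →ₗ[R] Q)
    (hf : ∀ p, f p ∈ I • (⊤ : Submodule R Q)) {w : A ⊗[R] P}
    (hw : w ∈ J • (⊤ : Submodule R (A ⊗[R] P))) :
    LinearMap.lTensor A f w ∈ (J * I) • (⊤ : Submodule R (A ⊗[R] Q)) :=
  map_mem_mul_smul_top J I (LinearMap.lTensor A f) (lTensor_mem_smul_top I f hf) hw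

theorem mul_mem_smul_top_left {B : Type u} [CommRing B] [Algebra R B] (K : Ideal R) (b : B)
    {z : B} (hz : z ∈ K • (⊤ : Submodule R B)) : b * z ∈ K • (⊤ : Submodule R B) := by
  refine Submodule.smul_induction_on hz ?_ ?_
  · intro r hr n _
    rw [mul_smul_comm]
    exact Submodule.smul_mem_smul hr Submodule.mem_top
  · intro x y hx hy
    rw [mul_add]
    exact Submodule.add_mem _ hx hy

theorem mul_mem_mul_smul_top {B : Type u} [CommRing B] [Algebra R B] (J K : Ideal R) {a b : B}
    (ha : a ∈ J • (⊤ : Submodule R B)) (hb : b ∈ K • (⊤ : Submodule R B)) :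
    a * b ∈ (J * K) • (⊤ : Submodule R B) := by
  refine Submodule.smul_induction_on ha ?_ ?_
  · intro r hr n _
    rw [smul_mul_assoc]
    exact smul_mem_mul_smul_top J K hr (mul_mem_smul_top_left K n hb)
  · intro x y hx hy
    rw [add_mul]
    exact Submodule.add_mem _ hx hy

end Mem

section Bij

variable {R : Type u} [CommRing R] (I : Ideal R) {P Q : Type u} [AddCommGroup P] [Module R P]
  [AddCommGroup Q] [Module R Q]

theorem exists_sub_mem_pow (f : P →ₗ[R] Q)
    (hs : ∀ q, ∃ p, f p - q ∈ I • (⊤ : Submodule R Q)) :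
    ∀ (e : ℕ) (q : Q), ∃ p, f p - q ∈ (I ^ e) • (⊤ : Submodule R Q) := by
  intro e
  induction e with
  | zero =>
    intro q
    refine ⟨0, ?_⟩
    rw [pow_zero, Ideal.one_eq_top, Submodule.top_smul]
    trivial
  | succ e ih =>
    intro q
    obtain ⟨p, hp⟩ := ih q
    have key : ∀ w ∈ (I ^ e) • (⊤ : Submodule R Q),
        ∃ p', f p' - w ∈ (I ^ (e + 1)) • (⊤ : Submodule R Q) := by
      intro w hw
      refine Submodule.smul_induction_on hw ?_ ?_
      · intro r hr n _
        obtain ⟨p0, hp0⟩ := hs n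
        refine ⟨r • p0, ?_⟩
        rw [map_smul, ← smul_sub, pow_succ]
        exact smul_mem_mul_smul_top _ _ hr hp0
      · rintro x y ⟨px, hx⟩ ⟨py, hy⟩
        refine ⟨px + py, ?_⟩
        have : f (px + py) - (x + y) = (f px - x) + (f py - y) := by
          rw [map_add]; abel
        rw [this]
        exact Submodule.add_mem _ hx hy
    obtain ⟨p', hp'⟩ := key _ hp
    refine ⟨p - p', ?_⟩
    have : f (p - p') - q = -(f p' - (f p - q)) := by
      rw [map_sub]; abel
    rw [this]
    exact Submodule.neg_mem _ hp'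

/-- A linear map which is surjective modulo a nilpotent ideal is surjective. -/
theorem surjective_of_nilpotent (n : ℕ) (hn : I ^ n = ⊥) (f : P →ₗ[R] Q)
    (hs : ∀ q, ∃ p, f p - q ∈ I • (⊤ : Submodule R Q)) : Function.Surjective f := by
  intro q
  obtain ⟨p, hp⟩ := exists_sub_mem_pow I f hs n q
  rw [hn, Submodule.bot_smul, Submodule.mem_bot, sub_eq_zero] at hp
  exact ⟨p, hp⟩

/-- A surjective linear map onto a flat module which is injective modulo a nilpotent ideal is
injective. -/
theorem injective_of_flat_of_nilpotent [Module.Flat R Q] (n : ℕ) (hn : I ^ n = ⊥)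
    (f : P →ₗ[R] Q) (hf : Function.Surjective f)
    (hi : ∀ p, f p ∈ I • (⊤ : Submodule R Q) → p ∈ I • (⊤ : Submodule R P)) :
    Function.Injective f := by
  have hexact : Function.Exact (LinearMap.ker f).subtype f := LinearMap.exact_subtype_ker_map f
  have hinj := LinearMap.lTensor_injective_of_exact_of_flat f hf (LinearMap.ker f).subtype
    (LinearMap.ker f).injective_subtype hexact (R ⧸ I)
  have h1 : (⊤ : Submodule R (LinearMap.ker f)) ≤ I • ⊤ := by
    intro k _
    have hk : f k.1 = 0 := LinearMap.mem_ker.mp k.2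
    have h2 : k.1 ∈ I • (⊤ : Submodule R P) := hi _ (by rw [hk]; exact Submodule.zero_mem _)
    rw [← one_tmul_eq_zero_iff] at h2 ⊢
    apply hinj
    rw [LinearMap.lTensor_tmul, map_zero]
    exact h2
  have h2 : ∀ e : ℕ, (⊤ : Submodule R (LinearMap.ker f)) ≤ (I ^ e) • ⊤ := by
    intro e
    induction e with
    | zero => rw [pow_zero, Ideal.one_eq_top, Submodule.top_smul]
    | succ e ih =>
      calc (⊤ : Submodule R (LinearMap.ker f)) ≤ (I ^ e) • ⊤ := ih
        _ ≤ (I ^ e) • (I • ⊤) := Submodule.smul_mono le_rfl h1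
        _ = (I ^ (e + 1)) • ⊤ := by rw [pow_succ, Submodule.mul_smul]
  have h3 : (⊤ : Submodule R (LinearMap.ker f)) ≤ ⊥ := by
    have h4 := h2 n
    rwa [hn, Submodule.bot_smul] at h4
  rw [← LinearMap.ker_eq_bot, Submodule.eq_bot_iff]
  intro x hx
  have h5 : (⟨x, hx⟩ : LinearMap.ker f) ∈ (⊥ : Submodule R (LinearMap.ker f)) :=
    h3 Submodule.mem_top
  rw [Submodule.mem_bot] at h5
  exact congrArg Subtype.val h5

/-- A linear map into a flat module which is bijective modulo a nilpotent ideal is bijective. -/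
theorem bijective_of_flat_of_nilpotent [Module.Flat R Q] (n : ℕ) (hn : I ^ n = ⊥)
    (f : P →ₗ[R] Q) (hs : ∀ q, ∃ p, f p - q ∈ I • (⊤ : Submodule R Q))
    (hi : ∀ p, f p ∈ I • (⊤ : Submodule R Q) → p ∈ I • (⊤ : Submodule R P)) :
    Function.Bijective f :=
  ⟨injective_of_flat_of_nilpotent I n hn f (surjective_of_nilpotent I n hn f hs) hi,
    surjective_of_nilpotent I n hn f hs⟩

end Bij

end Groth.Agent.Lib.R2H7.FlatNil
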