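/-
Affine deformations, ring level (A): a morphism of flat deformation rings over a map of Artinian
bases which is compatible with the identifications of the closed fibres is a base change
(cocartesian).
-/
import Mathlib
import Groth.Agent.Lib.R2H7FlatNil

set_option autoImplicit false
universe u

open TensorProduct

namespace Groth.Agent.Lib.R2H7.AffDef

section L1

variable {A' A E' E k₀ B₀ : Type u} [CommRing A'] [CommRing A] [CommRing E'] [CommRing E]
  [CommRing k₀] [CommRing B₀]

section OneRing

variable [Algebra A E]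

theorem map_eq_zero_of_mem_smul_top (res : A →+* k₀) (β : k₀ →+* B₀) (c : E →+* B₀)
    (hc : ∀ a, c (algebraMap A E a) = β (res a)) {e : E}
    (he : e ∈ (RingHom.ker res) • (⊤ : Submodule A E)) : c e = 0 := by
  refine Submodule.smul_induction_on he ?_ ?_
  · intro a ha y _
    rw [show a • y = algebraMap A E a * y from Algebra.smul_def a y, map_mul, hc,
      (RingHom.mem_ker).1 ha, map_zero, zero_mul]
  · intro x y hx hy
    rw [map_add, hx, hy, add_zero]

theorem mem_smul_top_of_map_eq_zero (res : A →+* k₀) (c : E →+* B₀)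
    (hk : RingHom.ker c ≤ (RingHom.ker res).map (algebraMap A E)) {e : E} (he : c e = 0) :
    e ∈ (RingHom.ker res) • (⊤ : Submodule A E) := by
  rw [Ideal.smul_top_eq_map, Submodule.restrictScalars_mem]
  exact hk ((RingHom.mem_ker).2 he)

end OneRing

variable [Algebra A' A] [Algebra A' E'] [Algebra A E] [Algebra A' E] [IsScalarTower A' A E]
  [Algebra E' E] [IsScalarTower A' E' E]

theorem bijective_liftBaseChange (res : A →+* k₀) (res' : A' →+* k₀)
    (hres : ∀ a, res (algebraMap A' A a) = res' a) (hres' : Function.Surjective res')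
    (n : ℕ) (hn : (RingHom.ker res) ^ n = ⊥) [Module.Flat A E]
    (β : k₀ →+* B₀) (c' : E' →+* B₀) (c : E →+* B₀)
    (hcq : ∀ y, c (algebraMap E' E y) = c' y) (hc'surj : Function.Surjective c')
    (hkc' : RingHom.ker c' ≤ (RingHom.ker res').map (algebraMap A' E'))
    (hkc : RingHom.ker c ≤ (RingHom.ker res).map (algebraMap A E))
    (hc : ∀ a, c (algebraMap A E a) = β (res a)) :
    Function.Bijective
      (LinearMap.liftBaseChange A (IsScalarTower.toAlgHom A' E' E).toLinearMap) := by
  set f : A ⊗[A'] E' →ₗ[A] E :=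
    LinearMap.liftBaseChange A (IsScalarTower.toAlgHom A' E' E).toLinearMap with hf
  have hf1 : ∀ (a : A) (y : E'), f (a ⊗ₜ[A'] y) = a • algebraMap E' E y := fun a y =>
    LinearMap.liftBaseChange_tmul _ _ _ _
  refine FlatNil.bijective_of_flat_of_nilpotent (RingHom.ker res) n hn f ?_ ?_
  · intro e
    obtain ⟨y, hy⟩ := hc'surj (c e)
    refine ⟨1 ⊗ₜ[A'] y, mem_smul_top_of_map_eq_zero res c hkc ?_⟩
    rw [hf1, one_smul, map_sub, hcq, hy, sub_self]
  · intro t ht
    have key : ∀ t : A ⊗[A'] E', ∃ y : E',
        t - 1 ⊗ₜ[A'] y ∈ (RingHom.ker res) • (⊤ : Submodule A (A ⊗[A'] E')) := by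
      intro t
      induction t using TensorProduct.induction_on with
      | zero =>
        refine ⟨0, ?_⟩
        rw [TensorProduct.tmul_zero, sub_zero]
        exact Submodule.zero_mem _
      | tmul a y =>
        obtain ⟨a', ha'⟩ := hres' (res a)
        refine ⟨a' • y, ?_⟩
        have e1 : (1 : A) ⊗ₜ[A'] (a' • y) = (algebraMap A' A a') ⊗ₜ[A'] y := by
          rw [← TensorProduct.smul_tmul, Algebra.smul_def, mul_one]
        have h1 : a ⊗ₜ[A'] y - 1 ⊗ₜ[A'] (a' • y) =
            (a - algebraMap A' A a') • ((1 : A) ⊗ₜ[A'] y) := by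
          rw [e1, ← TensorProduct.sub_tmul, TensorProduct.smul_tmul', smul_eq_mul, mul_one]
        rw [h1]
        refine Submodule.smul_mem_smul ?_ Submodule.mem_top
        rw [RingHom.mem_ker, map_sub, hres, ha', sub_self]
      | add x y hx hy =>
        obtain ⟨y1, h1⟩ := hx
        obtain ⟨y2, h2⟩ := hy
        refine ⟨y1 + y2, ?_⟩
        have : x + y - 1 ⊗ₜ[A'] (y1 + y2) = (x - 1 ⊗ₜ[A'] y1) + (y - 1 ⊗ₜ[A'] y2) := by
          rw [TensorProduct.tmul_add]; abel
        rw [this]
        exact Submodule.add_mem _ h1 h2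
    obtain ⟨y, hy⟩ := key t
    have hfI : ∀ s ∈ (RingHom.ker res) • (⊤ : Submodule A (A ⊗[A'] E')),
        f s ∈ (RingHom.ker res) • (⊤ : Submodule A E) := by
      intro s hs
      refine Submodule.smul_induction_on hs ?_ ?_
      · intro a ha z _
        rw [map_smul]
        exact Submodule.smul_mem_smul ha Submodule.mem_top
      · intro x y hx hy
        rw [map_add]
        exact Submodule.add_mem _ hx hy
    have h2 : f (1 ⊗ₜ[A'] y) ∈ (RingHom.ker res) • (⊤ : Submodule A E) := by
      have : f (1 ⊗ₜ[A'] y) = f t - f (t - 1 ⊗ₜ[A'] y) := by rw [map_sub]; abel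
      rw [this]
      exact Submodule.sub_mem _ ht (hfI _ hy)
    rw [hf1, one_smul] at h2
    have h3 : c' y = 0 := by
      rw [← hcq]
      exact map_eq_zero_of_mem_smul_top res β c hc h2
    have h4 : y ∈ (RingHom.ker res').map (algebraMap A' E') := hkc' ((RingHom.mem_ker).2 h3)
    have h5 : (1 : A) ⊗ₜ[A'] y ∈ (RingHom.ker res) • (⊤ : Submodule A (A ⊗[A'] E')) := by
      have h6 : y ∈ (RingHom.ker res') • (⊤ : Submodule A' E') := by
        rw [Ideal.smul_top_eq_map, Submodule.restrictScalars_mem]
        exact h4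
      refine Submodule.smul_induction_on h6 ?_ ?_
      · intro μ hμ z _
        have e2 : (1 : A) ⊗ₜ[A'] (μ • z) = (algebraMap A' A μ) • ((1 : A) ⊗ₜ[A'] z) := by
          rw [TensorProduct.smul_tmul', smul_eq_mul, mul_one, ← TensorProduct.smul_tmul,
            Algebra.smul_def, mul_one]
        rw [e2]
        refine Submodule.smul_mem_smul ?_ Submodule.mem_top
        rw [RingHom.mem_ker, hres]
        exact (RingHom.mem_ker).1 hμ
      · intro x y hx hy
        rw [TensorProduct.tmul_add]
        exact Submodule.add_mem _ hx hy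
    have : t = (t - 1 ⊗ₜ[A'] y) + 1 ⊗ₜ[A'] y := by abel
    rw [this]
    exact Submodule.add_mem _ hy h5

theorem isPushout_of_bijective
    (h : Function.Bijective
      (LinearMap.liftBaseChange A (IsScalarTower.toAlgHom A' E' E).toLinearMap)) :
    CategoryTheory.IsPushout (CommRingCat.ofHom (algebraMap A' E'))
      (CommRingCat.ofHom (algebraMap A' A)) (CommRingCat.ofHom (algebraMap E' E))
      (CommRingCat.ofHom (algebraMap A E)) := by
  haveI : Algebra.IsPushout A' A E' E :=
    ⟨IsBaseChange.of_equiv (LinearEquiv.ofBijective _ h) (fun x => by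
      show LinearMap.liftBaseChange A _ ((1 : A) ⊗ₜ[A'] x) = _
      rw [LinearMap.liftBaseChange_tmul, one_smul])⟩
  exact (CommRingCat.isPushout_of_isPushout A' A E' E).flip

end L1

section Hom

/-- Ring-hom form: a morphism of deformation rings is cocartesian. -/
theorem isPushout_of_hom {A' A E' E k₀ B₀ : Type u} [CommRing A'] [CommRing A] [CommRing E']
    [CommRing E] [CommRing k₀] [CommRing B₀]
    (p : A' →+* A) (α' : A' →+* E') (α : A →+* E) (q : E' →+* E)
    (hq : q.comp α' = α.comp p)
    (res : A →+* k₀) (res' : A' →+* k₀) (hres : res.comp p = res')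
    (hres' : Function.Surjective res') (n : ℕ) (hn : (RingHom.ker res) ^ n = ⊥)
    (hflat : α.Flat) (β : k₀ →+* B₀) (c' : E' →+* B₀) (c : E →+* B₀)
    (hcq : c.comp q = c') (hc'surj : Function.Surjective c')
    (hkc' : RingHom.ker c' ≤ (RingHom.ker res').map α')
    (hkc : RingHom.ker c ≤ (RingHom.ker res).map α) (hc : c.comp α = β.comp res) :
    CategoryTheory.IsPushout (CommRingCat.ofHom α') (CommRingCat.ofHom p) (CommRingCat.ofHom q)
      (CommRingCat.ofHom α) := by
  letI : Algebra A' A := p.toAlgebra
  letI : Algebra A' E' := α'.toAlgebra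
  letI : Algebra A E := α.toAlgebra
  letI : Algebra A' E := (α.comp p).toAlgebra
  letI : Algebra E' E := q.toAlgebra
  haveI : IsScalarTower A' A E := IsScalarTower.of_algebraMap_eq (fun _ => rfl)
  haveI : IsScalarTower A' E' E := IsScalarTower.of_algebraMap_eq (fun a => by
    show (α.comp p) a = q (α' a)
    rw [← hq]; rfl)
  haveI : Module.Flat A E := hflat
  have hb := bijective_liftBaseChange (A' := A') (A := A) (E' := E') (E := E) res res'
    (fun a => by rw [← hres]; rfl) hres' n hn β c' c (fun y => by rw [← hcq]; rfl) hc'surj hkc'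
    hkc (fun a => by
      have := congrArg (fun g => g a) hc
      exact this)
  exact isPushout_of_bijective hb

end Hom

end Groth.Agent.Lib.R2H7.AffDef
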