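/-
Affine deformations, ring level (B): gluing flat algebras over a fibre product of rings
(Schlessinger's lemma), built on Helper22's Milnor patching of modules.
-/
import Mathlib
import Groth.Prelude.Def_EtMil
import Groth.Agent.Lib.Helper22MilnorGlue
import Groth.Agent.Lib.Helper22MilnorFlat

set_option autoImplicit false
universe u

open TensorProduct

namespace Groth.Agent.Lib.R2H7.AffDef

open Groth.Agent.Lib.Helper22

section Glue

variable {Bf A1 A2 A0 : Type u} [CommRing Bf] [CommRing A1] [CommRing A2] [CommRing A0]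
  [Algebra Bf A1] [Algebra Bf A2] [Algebra A1 A0] [Algebra A2 A0] [Algebra Bf A0]
  [IsScalarTower Bf A1 A0] [IsScalarTower Bf A2 A0]
  {E1 E2 E0 : Type u} [CommRing E1] [CommRing E2] [CommRing E0]
  [Algebra A1 E1] [Algebra A2 E2] [Algebra Bf E1] [Algebra Bf E2] [Algebra A0 E0]
  [IsScalarTower Bf A1 E1] [IsScalarTower Bf A2 E2]
  (u1 : E1 →+* E0) (u2 : E2 →+* E0)

/-- The glued ring `E1 ×_{E0} E2`. -/
def glueRing : Subring (E1 × E2) :=
  (u1.comp (RingHom.fst E1 E2)).eqLocus (u2.comp (RingHom.snd E1 E2))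

theorem mem_glueRing (x : E1 × E2) : x ∈ glueRing u1 u2 ↔ u1 x.1 = u2 x.2 := Iff.rfl

/-- first projection -/
def glueFstHom : glueRing u1 u2 →+* E1 := (RingHom.fst E1 E2).comp (glueRing u1 u2).subtype

/-- second projection -/
def glueSndHom : glueRing u1 u2 →+* E2 := (RingHom.snd E1 E2).comp (glueRing u1 u2).subtype

theorem glue_comm (g : glueRing u1 u2) : u1 (glueFstHom u1 u2 g) = u2 (glueSndHom u1 u2 g) := g.2

variable (hB : ∀ b : Bf, u1 (algebraMap Bf E1 b) = u2 (algebraMap Bf E2 b))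

/-- the structure map of the glued ring -/
def glueAlg : Bf →+* glueRing u1 u2 :=
  RingHom.codRestrict ((algebraMap Bf E1).prod (algebraMap Bf E2)) (glueRing u1 u2)
    (fun b => hB b)

theorem glueFst_glueAlg (b : Bf) : glueFstHom u1 u2 (glueAlg u1 u2 hB b) = algebraMap Bf E1 b :=
  rfl

theorem glueSnd_glueAlg (b : Bf) : glueSndHom u1 u2 (glueAlg u1 u2 hB b) = algebraMap Bf E2 b :=
  rfl

variable (e1 : A0 ⊗[A1] E1 ≃ₗ[A0] E0) (he1 : ∀ y, e1 ((1 : A0) ⊗ₜ[A1] y) = u1 y)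
  (e2 : A0 ⊗[A2] E2 ≃ₗ[A0] E0) (he2 : ∀ y, e2 ((1 : A0) ⊗ₜ[A2] y) = u2 y)

include he1 he2 in
theorem mem_glue_iff' (x : E1 × E2) :
    x ∈ EtMil.glue Bf (e1.trans e2.symm) ↔ u1 x.1 = u2 x.2 := by
  rw [mem_glue_iff]
  show e2.symm (e1 ((1 : A0) ⊗ₜ[A1] x.1)) = (1 : A0) ⊗ₜ[A2] x.2 ↔ _
  rw [LinearEquiv.symm_apply_eq, he1, he2]

/-- The glued ring is, as a module, Helper22's glued module. -/
def glueEquiv :
    letI : Algebra Bf (glueRing u1 u2) := (glueAlg u1 u2 hB).toAlgebra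
    glueRing u1 u2 ≃ₗ[Bf] EtMil.glue Bf (e1.trans e2.symm) :=
  letI : Algebra Bf (glueRing u1 u2) := (glueAlg u1 u2 hB).toAlgebra
  { toFun := fun g => ⟨g.1, (mem_glue_iff' u1 u2 e1 he1 e2 he2 g.1).2 g.2⟩
    invFun := fun g => ⟨g.1, (mem_glue_iff' u1 u2 e1 he1 e2 he2 g.1).1 g.2⟩
    map_add' := fun _ _ => rfl
    map_smul' := fun b g => Subtype.ext (by
      show ((glueAlg u1 u2 hB b * g : glueRing u1 u2) : E1 × E2) = b • (g : E1 × E2)
      refine Prod.ext ?_ ?_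
      · show algebraMap Bf E1 b * (g : E1 × E2).1 = b • (g : E1 × E2).1
        rw [Algebra.smul_def]
      · show algebraMap Bf E2 b * (g : E1 × E2).2 = b • (g : E1 × E2).2
        rw [Algebra.smul_def])
    left_inv := fun _ => rfl
    right_inv := fun _ => rfl }

include he1 he2 in
/-- Flatness of the glued ring over the fibre product. -/
theorem flat_glueRing (hsq : EtMil.IsFibreSquare Bf A1 A2 A0) [Module.Flat A1 E1]
    [Module.Flat A2 E2] :
    letI : Algebra Bf (glueRing u1 u2) := (glueAlg u1 u2 hB).toAlgebra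
    Module.Flat Bf (glueRing u1 u2) := by
  letI : Algebra Bf (glueRing u1 u2) := (glueAlg u1 u2 hB).toAlgebra
  haveI : Module.Flat A1 (A1 ⊗[Bf] (EtMil.glue Bf (e1.trans e2.symm))) :=
    Module.Flat.of_linearEquiv
      (LinearEquiv.ofBijective _ (glue_fst_bijective (e1.trans e2.symm) hsq))
  haveI : Module.Flat A2 (A2 ⊗[Bf] (EtMil.glue Bf (e1.trans e2.symm))) :=
    Module.Flat.of_linearEquiv
      (LinearEquiv.ofBijective _ (glue_snd_bijective (e1.trans e2.symm) hsq))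
  haveI : Module.Flat Bf (EtMil.glue Bf (e1.trans e2.symm)) := fs_flat hsq
  exact Module.Flat.of_linearEquiv (glueEquiv u1 u2 hB e1 he1 e2 he2)

include he1 he2 in
/-- every element of `E1` is the first component of an element of the glued ring -/
theorem exists_glue_fst (hsq : EtMil.IsFibreSquare Bf A1 A2 A0) (y : E1) :
    ∃ g : glueRing u1 u2, glueFstHom u1 u2 g = y := by
  obtain ⟨m', hm'⟩ := glue_exists_snd (e1.trans e2.symm) hsq y
  exact ⟨⟨(y, m'), (mem_glue_iff' u1 u2 e1 he1 e2 he2 _).1 hm'⟩, rfl⟩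

include he1 he2 in
/-- elements of the glued ring with vanishing first component -/
theorem mem_map_of_fst_eq_zero (hsq : EtMil.IsFibreSquare Bf A1 A2 A0) (g : glueRing u1 u2)
    (hg : glueFstHom u1 u2 g = 0) :
    g ∈ (RingHom.ker (algebraMap Bf A1)).map (glueAlg u1 u2 hB) := by
  letI : Algebra Bf (glueRing u1 u2) := (glueAlg u1 u2 hB).toAlgebra
  set Θ := glueEquiv u1 u2 hB e1 he1 e2 he2 with hΘ
  have h1 : Θ g ∈ (RingHom.ker (algebraMap Bf A1)) •
      (⊤ : Submodule Bf (EtMil.glue Bf (e1.trans e2.symm))) :=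
    glue_mem_smul_of_fst_eq_zero (e1.trans e2.symm) hsq (Θ g) hg
  have h2 : ∀ x ∈ (RingHom.ker (algebraMap Bf A1)) •
      (⊤ : Submodule Bf (EtMil.glue Bf (e1.trans e2.symm))),
      Θ.symm x ∈ (RingHom.ker (algebraMap Bf A1)).map (glueAlg u1 u2 hB) := by
    intro x hx
    refine Submodule.smul_induction_on hx ?_ ?_
    · intro j hj y _
      rw [map_smul]
      show glueAlg u1 u2 hB j * Θ.symm y ∈ _
      exact Ideal.mul_mem_right _ _ (Ideal.mem_map_of_mem _ hj)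
    · intro a b ha hb
      rw [map_add]
      exact Ideal.add_mem _ ha hb
  have h3 := h2 _ h1
  rwa [LinearEquiv.symm_apply_apply] at h3

end Glue

section Kernel

variable {Bf A1 A2 A0 : Type u} [CommRing Bf] [CommRing A1] [CommRing A2] [CommRing A0]
  [Algebra Bf A1] [Algebra Bf A2] [Algebra A1 A0] [Algebra A2 A0] [Algebra Bf A0]
  [IsScalarTower Bf A1 A0] [IsScalarTower Bf A2 A0]
  {E1 E2 E0 : Type u} [CommRing E1] [CommRing E2] [CommRing E0]
  [Algebra A1 E1] [Algebra A2 E2] [Algebra Bf E1] [Algebra Bf E2] [Algebra A0 E0]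
  [IsScalarTower Bf A1 E1] [IsScalarTower Bf A2 E2]
  (u1 : E1 →+* E0) (u2 : E2 →+* E0)
  (hB : ∀ b : Bf, u1 (algebraMap Bf E1 b) = u2 (algebraMap Bf E2 b))
  (e1 : A0 ⊗[A1] E1 ≃ₗ[A0] E0) (he1 : ∀ y, e1 ((1 : A0) ⊗ₜ[A1] y) = u1 y)
  (e2 : A0 ⊗[A2] E2 ≃ₗ[A0] E0) (he2 : ∀ y, e2 ((1 : A0) ⊗ₜ[A2] y) = u2 y)
  {k₀ B₀ : Type u} [CommRing k₀] [CommRing B₀]

include he1 he2 in
/-- The closed fibre of the glued ring: the kernel condition. -/
theorem ker_glue_le (hsq : EtMil.IsFibreSquare Bf A1 A2 A0) (resB : Bf →+* k₀)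
    (res1 : A1 →+* k₀) (hres : ∀ b, res1 (algebraMap Bf A1 b) = resB b) (c1 : E1 →+* B₀)
    (hk1 : RingHom.ker c1 ≤ (RingHom.ker res1).map (algebraMap A1 E1)) :
    RingHom.ker (c1.comp (glueFstHom u1 u2)) ≤ (RingHom.ker resB).map (glueAlg u1 u2 hB) := by
  have hle : (RingHom.ker (algebraMap Bf A1)).map (glueAlg u1 u2 hB) ≤
      (RingHom.ker resB).map (glueAlg u1 u2 hB) := by
    refine Ideal.map_mono ?_
    intro b hb
    rw [RingHom.mem_ker] at hb ⊢
    rw [← hres, hb, map_zero]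
  have key : ∀ y ∈ (RingHom.ker res1).map (algebraMap A1 E1),
      ∃ g ∈ (RingHom.ker resB).map (glueAlg u1 u2 hB), glueFstHom u1 u2 g = y := by
    intro y hy
    induction hy using Submodule.span_induction with
    | mem y hy =>
      obtain ⟨μ, hμ, rfl⟩ := hy
      obtain ⟨b, hb⟩ := fs_surjective hsq μ
      refine ⟨glueAlg u1 u2 hB b, Ideal.mem_map_of_mem _ ?_, ?_⟩
      · rw [RingHom.mem_ker, ← hres, hb]
        exact (RingHom.mem_ker).1 hμ
      · rw [glueFst_glueAlg, IsScalarTower.algebraMap_apply Bf A1 E1, hb]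
    | zero => exact ⟨0, Ideal.zero_mem _, map_zero _⟩
    | add x y _ _ hx hy =>
      obtain ⟨g1, hg1, e1'⟩ := hx
      obtain ⟨g2, hg2, e2'⟩ := hy
      exact ⟨g1 + g2, Ideal.add_mem _ hg1 hg2, by rw [map_add, e1', e2']⟩
    | smul r x _ hx =>
      obtain ⟨g1, hg1, e1'⟩ := hx
      obtain ⟨gr, hgr⟩ := exists_glue_fst u1 u2 e1 he1 e2 he2 hsq r
      exact ⟨gr * g1, Ideal.mul_mem_left _ _ hg1, by rw [map_mul, hgr, e1', smul_eq_mul]⟩
  intro g hg
  have h1 : glueFstHom u1 u2 g ∈ (RingHom.ker res1).map (algebraMap A1 E1) :=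
    hk1 ((RingHom.mem_ker).2 ((RingHom.mem_ker).1 hg))
  obtain ⟨g', hg', e'⟩ := key _ h1
  have h2 : g - g' ∈ (RingHom.ker (algebraMap Bf A1)).map (glueAlg u1 u2 hB) :=
    mem_map_of_fst_eq_zero u1 u2 hB e1 he1 e2 he2 hsq _ (by rw [map_sub, e', sub_self])
  have : g = (g - g') + g' := by ring
  rw [this]
  exact Ideal.add_mem _ (hle h2) hg'

end Kernel

end Groth.Agent.Lib.R2H7.AffDef
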