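/-
Affine deformations `Spec A[x,y]/(xy - t)` of the node as objects of `ArtFun.DefSch`,
pushout squares of polynomial quotients, flatness by base change from `k[T] → k[x,y]`,
and the comparison lemma for base change of deformations along a cartesian square.
-/
import Mathlib
import Groth.Prelude.Def_ArtFun4

set_option autoImplicit false
universe u v
open AlgebraicGeometry CategoryTheory CategoryTheory.Limits

namespace Groth.Agent.Lib.R2H7.DefSchNode

open ArtFun ArtFun.Art

/-! ### Pro-representable functors preserve injectivity -/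

theorem map_injective_of_proRep {Λ k : Type u} [CommRing Λ] [Field k] [Algebra Λ k]
    {F : Art Λ k ⥤ Type v} (P : ProRep F) {B A' : Art Λ k} (p : B ⟶ A')
    (hp : Function.Injective p.toAlgHom) : Function.Injective (F.map p) := by
  intro z z' h
  obtain ⟨φ, rfl⟩ := (P.universal B).2 z
  obtain ⟨φ', rfl⟩ := (P.universal B).2 z'
  rw [← P.family.natural, ← P.family.natural] at h
  have h2 := (P.universal A').1 h
  have h3 : φ = φ' := by
    apply Subtype.ext
    apply AlgHom.ext
    intro r
    apply hp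
    exact congrArg (fun ψ : HomSet _ _ A' => ψ.1 r) h2
  rw [h3]

/-! ### Pushouts in `CommRingCat` from the ring-level universal property -/

theorem isPushout_of_univ {A B P Q : Type u} [CommRing A] [CommRing B] [CommRing P] [CommRing Q]
    (f : A →+* P) (g : A →+* B) (g' : P →+* Q) (f' : B →+* Q) (hw : g'.comp f = f'.comp g)
    (desc : ∀ (Z : Type u) [CommRing Z] (a : P →+* Z) (b : B →+* Z), a.comp f = b.comp g →
      ∃ w : Q →+* Z, w.comp g' = a ∧ w.comp f' = b)
    (uniq : ∀ (Z : Type u) [CommRing Z] (w w' : Q →+* Z), w.comp g' = w'.comp g' →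
      w.comp f' = w'.comp f' → w = w') :
    IsPushout (CommRingCat.ofHom f) (CommRingCat.ofHom g) (CommRingCat.ofHom g')
      (CommRingCat.ofHom f') := by
  have hw' : CommRingCat.ofHom f ≫ CommRingCat.ofHom g' =
      CommRingCat.ofHom g ≫ CommRingCat.ofHom f' := by
    rw [← CommRingCat.ofHom_comp, ← CommRingCat.ofHom_comp, hw]
  have hcond : ∀ s : PushoutCocone (CommRingCat.ofHom f) (CommRingCat.ofHom g),
      s.inl.hom.comp f = s.inr.hom.comp g := fun s => by
    have := congrArg CommRingCat.Hom.hom s.condition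
    simpa using this
  refine IsPushout.of_isColimit (c := PushoutCocone.mk _ _ hw')
    (PushoutCocone.IsColimit.mk hw'
      (fun s => CommRingCat.ofHom (desc s.pt s.inl.hom s.inr.hom (hcond s)).choose)
      (fun s => ?_) (fun s => ?_) (fun s m h1 h2 => ?_))
  · ext1
    exact (desc s.pt s.inl.hom s.inr.hom (hcond s)).choose_spec.1
  · ext1
    exact (desc s.pt s.inl.hom s.inr.hom (hcond s)).choose_spec.2
  · ext1
    apply uniq
    · refine Eq.trans ?_ (desc s.pt s.inl.hom s.inr.hom (hcond s)).choose_spec.1.symm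
      have := congrArg CommRingCat.Hom.hom h1
      simpa using this
    · refine Eq.trans ?_ (desc s.pt s.inl.hom s.inr.hom (hcond s)).choose_spec.2.symm
      have := congrArg CommRingCat.Hom.hom h2
      simpa using this

/-! ### Quotients of `A[x,y]` -/

section Quot

variable {A B Z : Type u} [CommRing A] [CommRing B] [CommRing Z]

/-- Ring homs out of a quotient of `A[x,y]` are determined by `A`, `x`, `y`. -/
theorem quot_hom_ext {I : Ideal (MvPolynomial (Fin 2) A)}
    {φ ψ : (MvPolynomial (Fin 2) A ⧸ I) →+* Z}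
    (hA : ∀ a : A, φ (Ideal.Quotient.mk I (MvPolynomial.C a)) =
      ψ (Ideal.Quotient.mk I (MvPolynomial.C a)))
    (hx : φ (Ideal.Quotient.mk I (MvPolynomial.X 0)) = ψ (Ideal.Quotient.mk I (MvPolynomial.X 0)))
    (hy : φ (Ideal.Quotient.mk I (MvPolynomial.X 1)) = ψ (Ideal.Quotient.mk I (MvPolynomial.X 1))) :
    φ = ψ := by
  apply Ideal.Quotient.ringHom_ext
  apply MvPolynomial.ringHom_ext
  · intro a; exact hA a
  · intro i
    fin_cases i
    · exact hx
    · exact hy

/-- Ring hom out of `A[x,y]/I` from a ring hom on `A` and two elements, provided `I` is killed. -/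
noncomputable def quotLift (I : Ideal (MvPolynomial (Fin 2) A)) (g : A →+* Z) (zx zy : Z)
    (h : ∀ p ∈ I, MvPolynomial.eval₂Hom g ![zx, zy] p = 0) :
    (MvPolynomial (Fin 2) A ⧸ I) →+* Z :=
  Ideal.Quotient.lift I (MvPolynomial.eval₂Hom g ![zx, zy]) h

@[simp] theorem quotLift_C (I : Ideal (MvPolynomial (Fin 2) A)) (g : A →+* Z) (zx zy : Z) (h)
    (a : A) : quotLift I g zx zy h (Ideal.Quotient.mk I (MvPolynomial.C a)) = g a := by
  simp [quotLift]

@[simp] theorem quotLift_X0 (I : Ideal (MvPolynomial (Fin 2) A)) (g : A →+* Z) (zx zy : Z) (h) :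
    quotLift I g zx zy h (Ideal.Quotient.mk I (MvPolynomial.X 0)) = zx := by
  simp [quotLift]

@[simp] theorem quotLift_X1 (I : Ideal (MvPolynomial (Fin 2) A)) (g : A →+* Z) (zx zy : Z) (h) :
    quotLift I g zx zy h (Ideal.Quotient.mk I (MvPolynomial.X 1)) = zy := by
  simp [quotLift]

theorem quotLift_algebraMap (I : Ideal (MvPolynomial (Fin 2) A)) (g : A →+* Z) (zx zy : Z) (h)
    (a : A) : quotLift I g zx zy h (algebraMap A (MvPolynomial (Fin 2) A ⧸ I) a) = g a :=
  quotLift_C I g zx zy h a

/-- The base change map `A[x,y]/I → B[x,y]/J` when `J = I·B[x,y]`. -/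
noncomputable def quotMap (g : A →+* B) (I : Ideal (MvPolynomial (Fin 2) A))
    (J : Ideal (MvPolynomial (Fin 2) B)) (hJ : I.map (MvPolynomial.map g) ≤ J) :
    (MvPolynomial (Fin 2) A ⧸ I) →+* (MvPolynomial (Fin 2) B ⧸ J) :=
  Ideal.quotientMap J (MvPolynomial.map g) (Ideal.map_le_iff_le_comap.1 hJ)

@[simp] theorem quotMap_mk (g : A →+* B) (I : Ideal (MvPolynomial (Fin 2) A))
    (J : Ideal (MvPolynomial (Fin 2) B)) (hJ) (p : MvPolynomial (Fin 2) A) :
    quotMap g I J hJ (Ideal.Quotient.mk I p) = Ideal.Quotient.mk J (MvPolynomial.map g p) := by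
  simp [quotMap]

theorem quotMap_comp_algebraMap (g : A →+* B) (I : Ideal (MvPolynomial (Fin 2) A))
    (J : Ideal (MvPolynomial (Fin 2) B)) (hJ) :
    (quotMap g I J hJ).comp (algebraMap A (MvPolynomial (Fin 2) A ⧸ I)) =
      (algebraMap B (MvPolynomial (Fin 2) B ⧸ J)).comp g := by
  ext a
  change quotMap g I J hJ (Ideal.Quotient.mk I (MvPolynomial.C a)) =
    Ideal.Quotient.mk J (MvPolynomial.C (g a))
  simp

/-- Base change of a quotient of a polynomial ring: a pushout square of commutative rings. -/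
theorem isPushout_quot (g : A →+* B) (I : Ideal (MvPolynomial (Fin 2) A))
    (J : Ideal (MvPolynomial (Fin 2) B)) (hJ : J = I.map (MvPolynomial.map g)) :
    IsPushout (CommRingCat.ofHom (algebraMap A (MvPolynomial (Fin 2) A ⧸ I))) (CommRingCat.ofHom g)
      (CommRingCat.ofHom (quotMap g I J hJ.ge))
      (CommRingCat.ofHom (algebraMap B (MvPolynomial (Fin 2) B ⧸ J))) := by
  apply isPushout_of_univ _ _ _ _ (quotMap_comp_algebraMap g I J hJ.ge)
  · intro Z _ a b hab
    have hab' : ∀ r : A, a (Ideal.Quotient.mk I (MvPolynomial.C r)) = b (g r) := fun r =>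
      congrArg (fun φ : A →+* Z => φ r) hab
    have key : ∀ p : MvPolynomial (Fin 2) A,
        MvPolynomial.eval₂Hom b ![a (Ideal.Quotient.mk I (MvPolynomial.X 0)),
          a (Ideal.Quotient.mk I (MvPolynomial.X 1))] (MvPolynomial.map g p) =
        a (Ideal.Quotient.mk I p) := by
      intro p
      have : (MvPolynomial.eval₂Hom b ![a (Ideal.Quotient.mk I (MvPolynomial.X 0)),
          a (Ideal.Quotient.mk I (MvPolynomial.X 1))]).comp (MvPolynomial.map g) =
          a.comp (Ideal.Quotient.mk I) := by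
        apply MvPolynomial.ringHom_ext
        · intro r
          simp [hab']
        · intro i
          fin_cases i <;> simp
      exact congrArg (fun φ : MvPolynomial (Fin 2) A →+* Z => φ p) this
    have hkill : ∀ q ∈ J, MvPolynomial.eval₂Hom b ![a (Ideal.Quotient.mk I (MvPolynomial.X 0)),
          a (Ideal.Quotient.mk I (MvPolynomial.X 1))] q = 0 := by
      intro q hq
      rw [hJ] at hq
      have hle : I.map (MvPolynomial.map g) ≤ RingHom.ker (MvPolynomial.eval₂Hom b
          ![a (Ideal.Quotient.mk I (MvPolynomial.X 0)),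
          a (Ideal.Quotient.mk I (MvPolynomial.X 1))]) := by
        rw [Ideal.map_le_iff_le_comap]
        intro p hp
        rw [Ideal.mem_comap, RingHom.mem_ker, key p, Ideal.Quotient.eq_zero_iff_mem.2 hp, map_zero]
      exact hle hq
    refine ⟨quotLift J b _ _ hkill, ?_, ?_⟩
    · apply quot_hom_ext
      · intro r
        simp [hab']
      · simp
      · simp
    · ext r
      change quotLift J b _ _ hkill (Ideal.Quotient.mk J (MvPolynomial.C r)) = b r
      simp
  · intro Z _ w w' h1 h2
    apply quot_hom_ext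
    · intro r
      exact congrArg (fun φ : B →+* Z => φ r) h2
    · have := congrArg (fun φ : (MvPolynomial (Fin 2) A ⧸ I) →+* Z =>
        φ (Ideal.Quotient.mk I (MvPolynomial.X 0))) h1
      simpa using this
    · have := congrArg (fun φ : (MvPolynomial (Fin 2) A ⧸ I) →+* Z =>
        φ (Ideal.Quotient.mk I (MvPolynomial.X 1))) h1
      simpa using this

end Quot

/-! ### The node algebras `A[x,y]/(xy - t)` -/

section Node

variable {A B Z : Type u} [CommRing A] [CommRing B] [CommRing Z]

/-- The ideal `(xy - t)` of `A[x,y]`. -/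
noncomputable abbrev nodeIdeal (A : Type u) [CommRing A] (t : A) : Ideal (MvPolynomial (Fin 2) A) :=
  Ideal.span {MvPolynomial.X 0 * MvPolynomial.X 1 - MvPolynomial.C t}

/-- The algebra `A[x,y]/(xy - t)`. -/
abbrev NodeAlg (A : Type u) [CommRing A] (t : A) : Type u :=
  MvPolynomial (Fin 2) A ⧸ nodeIdeal A t

/-- The ideal `(xy)` of `k[x,y]`, in the form used by the frozen statement. -/
noncomputable abbrev node0Ideal (k : Type u) [CommRing k] : Ideal (MvPolynomial (Fin 2) k) :=
  Ideal.span {(MvPolynomial.X 0 * MvPolynomial.X 1 : MvPolynomial (Fin 2) k)}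

/-- The algebra `k[x,y]/(xy)`. -/
abbrev Node0 (k : Type u) [CommRing k] : Type u := MvPolynomial (Fin 2) k ⧸ node0Ideal k

theorem nodeIdeal_map (g : A →+* B) (t : A) :
    (nodeIdeal A t).map (MvPolynomial.map g) = nodeIdeal B (g t) := by
  simp [nodeIdeal, Ideal.map_span]

theorem nodeIdeal_zero (k : Type u) [CommRing k] : nodeIdeal k 0 = node0Ideal k := by
  simp [nodeIdeal, node0Ideal]

theorem nodeIdeal_kill (g : A →+* Z) (zx zy : Z) (t : A) (h : zx * zy = g t) :
    ∀ p ∈ nodeIdeal A t, MvPolynomial.eval₂Hom g ![zx, zy] p = 0 := by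
  intro p hp
  have hle : nodeIdeal A t ≤ RingHom.ker (MvPolynomial.eval₂Hom g ![zx, zy]) := by
    rw [nodeIdeal, Ideal.span_le]
    intro q hq
    rw [Set.mem_singleton_iff] at hq
    subst hq
    simp [RingHom.mem_ker, h]
  exact hle hp

theorem node0Ideal_kill {k : Type u} [CommRing k] (g : k →+* Z) (zx zy : Z) (h : zx * zy = 0) :
    ∀ p ∈ node0Ideal k, MvPolynomial.eval₂Hom g ![zx, zy] p = 0 := by
  intro p hp
  have hle : node0Ideal k ≤ RingHom.ker (MvPolynomial.eval₂Hom g ![zx, zy]) := by
    rw [node0Ideal, Ideal.span_le]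
    intro q hq
    rw [Set.mem_singleton_iff] at hq
    subst hq
    simp [RingHom.mem_ker, h]
  exact hle hp

/-- The relation `xy = t` in `A[x,y]/(xy - t)`. -/
theorem nodeAlg_rel (t : A) :
    (Ideal.Quotient.mk (nodeIdeal A t) (MvPolynomial.X 0)) *
      (Ideal.Quotient.mk (nodeIdeal A t) (MvPolynomial.X 1)) =
      Ideal.Quotient.mk (nodeIdeal A t) (MvPolynomial.C t) := by
  rw [← map_mul, Ideal.Quotient.eq]
  exact Ideal.subset_span rfl

/-! ### The universal square `k[T] → k[x,y]`, `T ↦ xy`, and flatness -/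

/-- `k[T] → k[x,y]`, `T ↦ xy`. -/
noncomputable def phiT (k : Type u) [CommRing k] : Polynomial k →+* MvPolynomial (Fin 2) k :=
  Polynomial.eval₂RingHom MvPolynomial.C (MvPolynomial.X 0 * MvPolynomial.X 1)

theorem phiT_injective (k : Type u) [CommRing k] : Function.Injective (phiT k) := by
  have h : (MvPolynomial.eval₂Hom (Polynomial.C : k →+* Polynomial k)
      ![Polynomial.X, 1]).comp (phiT k) = RingHom.id _ := by
    apply Polynomial.ringHom_ext
    · intro a; simp [phiT]
    · simp [phiT]
  intro a b hab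
  have := congrArg (MvPolynomial.eval₂Hom (Polynomial.C : k →+* Polynomial k)
      ![Polynomial.X, 1]) hab
  have ha := congrArg (fun φ : Polynomial k →+* Polynomial k => φ a) h
  have hb := congrArg (fun φ : Polynomial k →+* Polynomial k => φ b) h
  simp only [RingHom.comp_apply, RingHom.id_apply] at ha hb
  rw [← ha, ← hb]
  exact this

theorem flat_phiT (k : Type u) [Field k] : (phiT k).Flat := by
  letI := (phiT k).toAlgebra
  have hinj : Function.Injective (algebraMap (Polynomial k) (MvPolynomial (Fin 2) k)) :=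
    phiT_injective k
  haveI : Module.IsTorsionFree (Polynomial k) (MvPolynomial (Fin 2) k) :=
    Module.isTorsionFree_iff_algebraMap_injective.2 hinj
  change Module.Flat (Polynomial k) (MvPolynomial (Fin 2) k)
  infer_instance

/-- The universal square: `A[x,y]/(xy - t)` is the pushout of `k[T] → k[x,y]` along `T ↦ t`. -/
theorem isPushout_univ {k : Type u} [CommRing k] (c : k →+* A) (t : A) :
    IsPushout (CommRingCat.ofHom (phiT k)) (CommRingCat.ofHom (Polynomial.eval₂RingHom c t))
      (CommRingCat.ofHom ((Ideal.Quotient.mk (nodeIdeal A t)).comp (MvPolynomial.map c)))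
      (CommRingCat.ofHom (algebraMap A (NodeAlg A t))) := by
  apply isPushout_of_univ
  · apply Polynomial.ringHom_ext
    · intro a
      simp [phiT]
      rfl
    · simp only [phiT, RingHom.comp_apply, Polynomial.coe_eval₂RingHom, Polynomial.eval₂_X, map_mul,
        MvPolynomial.map_X]
      rw [nodeAlg_rel]
      rfl
  · intro Z _ a b hab
    have habC : ∀ r : k, a (MvPolynomial.C r) = b (c r) := fun r => by
      have := congrArg (fun φ : Polynomial k →+* Z => φ (Polynomial.C r)) hab
      simpa [phiT] using this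
    have habX : a (MvPolynomial.X 0) * a (MvPolynomial.X 1) = b t := by
      have := congrArg (fun φ : Polynomial k →+* Z => φ Polynomial.X) hab
      simpa [phiT] using this
    refine ⟨quotLift (nodeIdeal A t) b (a (MvPolynomial.X 0)) (a (MvPolynomial.X 1))
      (nodeIdeal_kill b _ _ t habX), ?_, ?_⟩
    · apply MvPolynomial.ringHom_ext
      · intro r
        simp [habC]
      · intro i
        fin_cases i <;> simp
    · ext r
      simp only [RingHom.comp_apply]
      exact quotLift_algebraMap _ _ _ _ _ r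
  · intro Z _ w w' h1 h2
    apply quot_hom_ext
    · intro r
      exact congrArg (fun φ : A →+* Z => φ r) h2
    · have := congrArg (fun φ : MvPolynomial (Fin 2) k →+* Z => φ (MvPolynomial.X 0)) h1
      simpa using this
    · have := congrArg (fun φ : MvPolynomial (Fin 2) k →+* Z => φ (MvPolynomial.X 1)) h1
      simpa using this

/-- `Spec A[x,y]/(xy - t) → Spec A` is flat for every algebra `A` over a field. -/
theorem flat_node {k : Type u} [Field k] (c : k →+* A) (t : A) :
    Flat (Spec.map (CommRingCat.ofHom (algebraMap A (NodeAlg A t)))) := by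
  have hpb := isPullback_SpecMap_of_isPushout _ _ _ _ (isPushout_univ c t)
  have hfl : Flat (Spec.map (CommRingCat.ofHom (phiT k))) := by
    rw [Flat.SpecMap_iff]
    exact flat_phiT k
  exact MorphismProperty.of_isPullback (P := @Flat) hpb hfl

end Node

/-! ### The deformations `Spec A[x,y]/(xy - t)` of the node -/

section Def

variable {k : Type u} [Field k]

/-- The node `Spec k[x,y]/(xy)`, in the form of the frozen statement. -/
noncomputable abbrev X0 (k : Type u) [Field k] : Scheme.{u} := Spec (CommRingCat.of (Node0 k))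

/-- Its structure morphism. -/
noncomputable abbrev x0 (k : Type u) [Field k] : X0 k ⟶ specPt k :=
  Spec.map (CommRingCat.ofHom (algebraMap k (Node0 k)))

theorem nodeIdeal_map_res (A : Art k k) (t : A) (ht : A.res t = 0) :
    (nodeIdeal A t).map (MvPolynomial.map A.res.toRingHom) = node0Ideal k := by
  rw [nodeIdeal_map]
  have : A.res.toRingHom t = 0 := ht
  rw [this, nodeIdeal_zero]

/-- Reduction `A[x,y]/(xy - t) → k[x,y]/(xy)` for `t` in the maximal ideal. -/
noncomputable def rho (A : Art k k) (t : A) (ht : A.res t = 0) : NodeAlg A t →+* Node0 k :=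
  quotMap A.res.toRingHom (nodeIdeal A t) (node0Ideal k) (nodeIdeal_map_res A t ht).le

@[simp] theorem rho_mk (A : Art k k) (t : A) (ht : A.res t = 0) (p : MvPolynomial (Fin 2) A) :
    rho A t ht (Ideal.Quotient.mk _ p) =
      Ideal.Quotient.mk _ (MvPolynomial.map A.res.toRingHom p) := by
  simp [rho]

/-- The deformation `Spec A[x,y]/(xy - t)` of the node over `A`. -/
noncomputable def nodeDef (A : Art k k) (t : A) (ht : A.res t = 0) : DefSch (X0 k) (x0 k) A where
  total := Spec (CommRingCat.of (NodeAlg A t))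
  f := Spec.map (CommRingCat.ofHom (algebraMap A (NodeAlg A t)))
  flat := flat_node (algebraMap k A) t
  i := Spec.map (CommRingCat.ofHom (rho A t ht))
  isPullback := isPullback_SpecMap_of_isPushout _ _ _ _
    (isPushout_quot A.res.toRingHom (nodeIdeal A t) (node0Ideal k) (nodeIdeal_map_res A t ht).symm)

theorem nodeDef_cl_congr (A : Art k k) {t t' : A} (h : t = t') (ht : A.res t = 0)
    (ht' : A.res t' = 0) : (nodeDef A t ht).cl = (nodeDef A t' ht').cl := by
  subst h
  rfl

/-- Comparison of the chosen base change of a deformation with any cartesian square. -/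
theorem nonempty_iso_baseChange {Λ : Type u} [CommRing Λ] [Algebra Λ k] {X : Scheme.{u}}
    {x : X ⟶ specPt k} {A B : Art Λ k} (ξ : DefSch X x A) (ξ' : DefSch X x B) (g : A ⟶ B)
    (φ : ξ'.total ⟶ ξ.total) (hpb : IsPullback φ ξ'.f ξ.f (specMap g)) (hi : ξ'.i ≫ φ = ξ.i) :
    Nonempty (DefSch.Iso (ξ.baseChange g) ξ') := by
  refine ⟨{ iso := (IsPullback.of_hasPullback ξ.f (specMap g)).isoIsPullback _ _ hpb
            hom_f := IsPullback.isoIsPullback_hom_snd _ _ _ _
            i_hom := ?_ }⟩
  apply hpb.hom_ext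
  · rw [Category.assoc, IsPullback.isoIsPullback_hom_fst, DefSch.baseChange_i_fst, hi]
  · rw [Category.assoc, IsPullback.isoIsPullback_hom_snd, DefSch.baseChange_i_f, ξ'.i_f]

/-- Base change of `xy = t` along `g` is `xy = g t`. -/
theorem nodeDef_baseChange {A B : Art k k} (g : A ⟶ B) (t : A) (ht : A.res t = 0)
    (ht' : B.res (g.toAlgHom t) = 0) :
    (defFunctor (X0 k) (x0 k)).map g (nodeDef A t ht).cl = (nodeDef B (g.toAlgHom t) ht').cl := by
  rw [defFunctor_map_cl]
  apply Quotient.sound
  have hJ : nodeIdeal B (g.toAlgHom t) =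
      (nodeIdeal A t).map (MvPolynomial.map g.toAlgHom.toRingHom) := (nodeIdeal_map _ t).symm
  refine nonempty_iso_baseChange (nodeDef A t ht) (nodeDef B (g.toAlgHom t) ht') g
    (Spec.map (CommRingCat.ofHom (quotMap g.toAlgHom.toRingHom (nodeIdeal A t)
      (nodeIdeal B (g.toAlgHom t)) hJ.ge)))
    (isPullback_SpecMap_of_isPushout _ _ _ _ (isPushout_quot g.toAlgHom.toRingHom _ _ hJ)) ?_
  change Spec.map _ ≫ Spec.map _ = Spec.map _
  rw [← Spec.map_comp, ← CommRingCat.ofHom_comp]
  congr 2
  apply quot_hom_ext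
  · intro a
    simp only [RingHom.comp_apply, quotMap_mk, rho_mk, MvPolynomial.map_C]
    congr 2
    exact res_app g a
  · simp
  · simp

/-- `xy = t` and `xy = u t` are isomorphic deformations for `u ≡ 1` a unit. -/
theorem nodeDef_unit_mul (A : Art k k) (t u v : A) (huv : u * v = 1) (hu : A.res u = 1)
    (ht : A.res t = 0) (ht' : A.res (u * t) = 0) :
    (nodeDef A t ht).cl = (nodeDef A (u * t) ht').cl := by
  apply Quotient.sound
  have hv : A.res v = 1 := by
    have := congrArg A.res huv
    rw [map_mul, hu, one_mul, map_one] at this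
    exact this
  let x₁ : NodeAlg A t := Ideal.Quotient.mk _ (MvPolynomial.X 0)
  let y₁ : NodeAlg A t := Ideal.Quotient.mk _ (MvPolynomial.X 1)
  let x₂ : NodeAlg A (u * t) := Ideal.Quotient.mk _ (MvPolynomial.X 0)
  let y₂ : NodeAlg A (u * t) := Ideal.Quotient.mk _ (MvPolynomial.X 1)
  have h1 : algebraMap A (NodeAlg A t) u * x₁ * y₁ = algebraMap A (NodeAlg A t) (u * t) := by
    rw [mul_assoc, nodeAlg_rel, map_mul]
    rfl
  have h2 : algebraMap A (NodeAlg A (u * t)) v * x₂ * y₂ = algebraMap A (NodeAlg A (u * t)) t := by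
    rw [mul_assoc, nodeAlg_rel]
    change algebraMap A (NodeAlg A (u * t)) v * algebraMap A (NodeAlg A (u * t)) (u * t) = _
    rw [← map_mul, ← mul_assoc, mul_comm v u, huv, one_mul]
  let θ : NodeAlg A (u * t) →+* NodeAlg A t :=
    quotLift _ (algebraMap A (NodeAlg A t)) (algebraMap A (NodeAlg A t) u * x₁) y₁
      (nodeIdeal_kill _ _ _ _ h1)
  let θ' : NodeAlg A t →+* NodeAlg A (u * t) :=
    quotLift _ (algebraMap A (NodeAlg A (u * t))) (algebraMap A (NodeAlg A (u * t)) v * x₂) y₂
      (nodeIdeal_kill _ _ _ _ h2)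
  have hθθ' : θ.comp θ' = RingHom.id _ := by
    apply quot_hom_ext
    · intro a
      simp only [RingHom.comp_apply, RingHom.id_apply, θ, θ', quotLift_C]
      exact quotLift_algebraMap _ _ _ _ _ a
    · simp only [RingHom.comp_apply, RingHom.id_apply, θ, θ', quotLift_X0, map_mul]
      rw [quotLift_algebraMap, quotLift_X0, ← mul_assoc, ← map_mul, mul_comm v u, huv, map_one,
        one_mul]
    · simp only [RingHom.comp_apply, RingHom.id_apply, θ, θ', y₁, y₂, quotLift_X1]
  have hθ'θ : θ'.comp θ = RingHom.id _ := by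
    apply quot_hom_ext
    · intro a
      simp only [RingHom.comp_apply, RingHom.id_apply, θ, θ', quotLift_C]
      exact quotLift_algebraMap _ _ _ _ _ a
    · simp only [RingHom.comp_apply, RingHom.id_apply, θ, θ', quotLift_X0, map_mul]
      rw [quotLift_algebraMap, quotLift_X0, ← mul_assoc, ← map_mul, huv, map_one, one_mul]
    · simp only [RingHom.comp_apply, RingHom.id_apply, θ, θ', y₁, y₂, quotLift_X1]
  have hθalg : θ.comp (algebraMap A (NodeAlg A (u * t))) = algebraMap A (NodeAlg A t) := by
    ext a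
    simp only [RingHom.comp_apply, θ]
    exact quotLift_algebraMap _ _ _ _ _ a
  have hθrho : (rho A t ht).comp θ = rho A (u * t) ht' := by
    apply quot_hom_ext
    · intro a
      simp only [RingHom.comp_apply, θ, quotLift_C]
      change rho A t ht (Ideal.Quotient.mk _ (MvPolynomial.C a)) = _
      simp
    · simp only [RingHom.comp_apply, θ, quotLift_X0, map_mul]
      change rho A t ht (Ideal.Quotient.mk _ (MvPolynomial.C u)) * rho A t ht
        (Ideal.Quotient.mk _ (MvPolynomial.X 0)) = _
      simp only [rho_mk, MvPolynomial.map_C, MvPolynomial.map_X]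
      have : A.res.toRingHom u = 1 := hu
      rw [this, map_one, map_one, one_mul]
    · simp only [RingHom.comp_apply, θ, y₁, quotLift_X1]
      simp
  have hom_inv : Spec.map (CommRingCat.ofHom θ) ≫ Spec.map (CommRingCat.ofHom θ') =
      𝟙 (Spec (CommRingCat.of (NodeAlg A t))) := by
    rw [← Spec.map_comp, ← CommRingCat.ofHom_comp, hθθ', CommRingCat.ofHom_id]
    exact Spec.map_id _
  have inv_hom : Spec.map (CommRingCat.ofHom θ') ≫ Spec.map (CommRingCat.ofHom θ) =
      𝟙 (Spec (CommRingCat.of (NodeAlg A (u * t)))) := by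
    rw [← Spec.map_comp, ← CommRingCat.ofHom_comp, hθ'θ, CommRingCat.ofHom_id]
    exact Spec.map_id _
  refine ⟨{ iso := { hom := Spec.map (CommRingCat.ofHom θ)
                     inv := Spec.map (CommRingCat.ofHom θ')
                     hom_inv_id := hom_inv
                     inv_hom_id := inv_hom }
            hom_f := ?_
            i_hom := ?_ }⟩
  · change Spec.map _ ≫ Spec.map _ = Spec.map _
    rw [← Spec.map_comp, ← CommRingCat.ofHom_comp, hθalg]
  · change Spec.map _ ≫ Spec.map _ = Spec.map _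
    rw [← Spec.map_comp, ← CommRingCat.ofHom_comp, hθrho]

/-- Evaluation at the origin `k[x,y]/(xy) → k`. -/
noncomputable def ev0 (k : Type u) [Field k] : Node0 k →+* k :=
  quotLift (node0Ideal k) (RingHom.id k) 0 0 (node0Ideal_kill _ _ _ (mul_zero 0))

/-- An invariant separating deformations `xy = t₁`, `xy = t₂`: if they are isomorphic, every
augmented quotient of `A` with square-zero augmentation ideal that kills `t₁` also kills `t₂`. -/
theorem nodeDef_iso_invariant (A : Art k k) (t₁ t₂ : A) (ht₁ : A.res t₁ = 0) (ht₂ : A.res t₂ = 0)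
    (e : DefSch.Iso (nodeDef A t₁ ht₁) (nodeDef A t₂ ht₂))
    {Q : Type u} [CommRing Q] (q : A →+* Q) (εQ : Q →+* k) (hε : ∀ a, εQ (q a) = A.res a)
    (hsq : ∀ a b : Q, εQ a = 0 → εQ b = 0 → a * b = 0) (hq : q t₁ = 0) : q t₂ = 0 := by
  let θc : CommRingCat.of (NodeAlg A t₂) ⟶ CommRingCat.of (NodeAlg A t₁) :=
    Spec.preimage e.iso.hom
  have hθc : Spec.map θc = e.iso.hom := Spec.map_preimage _
  let θ : NodeAlg A t₂ →+* NodeAlg A t₁ := θc.hom
  have hθalg : θ.comp (algebraMap A (NodeAlg A t₂)) = algebraMap A (NodeAlg A t₁) := by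
    have h := e.hom_f
    rw [← hθc] at h
    change Spec.map θc ≫ Spec.map _ = Spec.map _ at h
    rw [← Spec.map_comp] at h
    have h' := Spec.map_injective h
    have := congrArg CommRingCat.Hom.hom h'
    simpa using this
  have hθrho : (rho A t₁ ht₁).comp θ = rho A t₂ ht₂ := by
    have h := e.i_hom
    rw [← hθc] at h
    change Spec.map _ ≫ Spec.map θc = Spec.map _ at h
    rw [← Spec.map_comp] at h
    have h' := Spec.map_injective h
    have := congrArg CommRingCat.Hom.hom h'
    simpa using this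
  let π : NodeAlg A t₁ →+* Q := quotLift _ q 0 0 (nodeIdeal_kill _ _ _ _ (by rw [hq, mul_zero]))
  have hπ : εQ.comp π = (ev0 k).comp (rho A t₁ ht₁) := by
    apply quot_hom_ext
    · intro a
      simp only [RingHom.comp_apply, π, quotLift_C, hε, rho_mk, MvPolynomial.map_C, ev0]
      rfl
    · simp [π, ev0]
    · simp [π, ev0]
  have hx : εQ (π (θ (Ideal.Quotient.mk _ (MvPolynomial.X 0)))) = 0 := by
    have h1 := congrArg (fun φ : NodeAlg A t₁ →+* k => φ (θ (Ideal.Quotient.mk _ (MvPolynomial.X 0)))) hπ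
    have h2 := congrArg (fun φ : NodeAlg A t₂ →+* Node0 k => φ (Ideal.Quotient.mk _ (MvPolynomial.X 0))) hθrho
    simp only [RingHom.comp_apply] at h1 h2
    rw [h1, h2]
    simp [ev0]
  have hy : εQ (π (θ (Ideal.Quotient.mk _ (MvPolynomial.X 1)))) = 0 := by
    have h1 := congrArg (fun φ : NodeAlg A t₁ →+* k => φ (θ (Ideal.Quotient.mk _ (MvPolynomial.X 1)))) hπ
    have h2 := congrArg (fun φ : NodeAlg A t₂ →+* Node0 k => φ (Ideal.Quotient.mk _ (MvPolynomial.X 1))) hθrho
    simp only [RingHom.comp_apply] at h1 h2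
    rw [h1, h2]
    simp [ev0]
  have hprod := hsq _ _ hx hy
  rw [← map_mul, ← map_mul, nodeAlg_rel] at hprod
  have h3 := congrArg (fun φ : A →+* NodeAlg A t₁ => φ t₂) hθalg
  simp only [RingHom.comp_apply] at h3
  change θ (Ideal.Quotient.mk _ (MvPolynomial.C t₂)) = Ideal.Quotient.mk _ (MvPolynomial.C t₂) at h3
  rw [h3] at hprod
  simpa [π] using hprod

/-- Abstract form of the non-prorepresentability argument. -/
theorem not_proRep_of_data (P : ProRep (defFunctor (Λ := k) (X0 k) (x0 k)))
    {B A' : Art k k} (p : B ⟶ A') (hp : Function.Injective p.toAlgHom)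
    (t₁ t₂ : B) (ht₁ : B.res t₁ = 0) (ht₂ : B.res t₂ = 0)
    (u v : A') (huv : u * v = 1) (hu : A'.res u = 1)
    (hpt : p.toAlgHom t₂ = u * p.toAlgHom t₁)
    {Q : Type u} [CommRing Q] (q : B →+* Q) (εQ : Q →+* k) (hε : ∀ a, εQ (q a) = B.res a)
    (hsq : ∀ a b : Q, εQ a = 0 → εQ b = 0 → a * b = 0) (hq₁ : q t₁ = 0) (hq₂ : q t₂ ≠ 0) :
    False := by
  have hr₁ : A'.res (p.toAlgHom t₁) = 0 := by rw [res_app, ht₁]
  have hr₂ : A'.res (p.toAlgHom t₂) = 0 := by rw [res_app, ht₂]
  have hr₃ : A'.res (u * p.toAlgHom t₁) = 0 := by rw [← hpt]; exact hr₂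
  have h1 := nodeDef_baseChange p t₁ ht₁ hr₁
  have h2 := nodeDef_baseChange p t₂ ht₂ hr₂
  have h3 := nodeDef_unit_mul A' (p.toAlgHom t₁) u v huv hu hr₁ hr₃
  have h4 := nodeDef_cl_congr A' hpt hr₂ hr₃
  have h5 : (defFunctor (X0 k) (x0 k)).map p (nodeDef B t₁ ht₁).cl =
      (defFunctor (X0 k) (x0 k)).map p (nodeDef B t₂ ht₂).cl := by
    rw [h1, h2, h3, h4]
  have h6 := map_injective_of_proRep P p hp h5
  obtain ⟨e⟩ := Quotient.exact h6
  exact hq₂ (nodeDef_iso_invariant B t₁ t₂ ht₁ ht₂ e q εQ hε hsq hq₁)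

end Def

/-! ### Concrete data: `k[ε₁,ε₂] ↪ k[s,a]/(s²,a²)` -/

section Concrete

variable (k : Type u) [Field k]

open TrivSqZeroExt

theorem isLocalRing_big : IsLocalRing (TrivSqZeroExt (DualNumber k) (DualNumber k)) := by
  refine IsLocalRing.of_isUnit_or_isUnit_one_sub_self fun a => ?_
  rcases IsLocalRing.isUnit_or_isUnit_one_sub_self a.fst with h | h
  · exact Or.inl (TrivSqZeroExt.isUnit_iff_isUnit_fst.2 h)
  · exact Or.inr (TrivSqZeroExt.isUnit_iff_isUnit_fst.2 (by simpa using h))

/-- The Artinian local `k`-algebra `k[s,a]/(s²,a²)`, as dual numbers over dual numbers. -/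
noncomputable def bigArt : Art k k :=
  haveI : Module.Finite k (DualNumber k) := inferInstanceAs (Module.Finite k (k × k))
  haveI : Module.Finite k (TrivSqZeroExt (DualNumber k) (DualNumber k)) :=
    inferInstanceAs (Module.Finite k (DualNumber k × DualNumber k))
  haveI : IsScalarTower k (TrivSqZeroExt (DualNumber k) (DualNumber k))
      (TrivSqZeroExt (DualNumber k) (DualNumber k)) :=
    @IsScalarTower.right k (TrivSqZeroExt (DualNumber k) (DualNumber k)) _ _ _
  { carrier := TrivSqZeroExt (DualNumber k) (DualNumber k)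
    isLocalRing := isLocalRing_big k
    isArtinianRing := IsArtinianRing.of_finite k _
    res := (TrivSqZeroExt.fstHom k k k).comp
      (TrivSqZeroExt.fstHom k (DualNumber k) (DualNumber k))
    res_surjective := fun c => ⟨TrivSqZeroExt.inl (TrivSqZeroExt.inl c), rfl⟩ }

/-- The embedding `k[ε₁,ε₂] → k[s,a]/(s²,a²)`, `ε₁ ↦ a`, `ε₂ ↦ sa`. -/
noncomputable def pAlg : TrivSqZeroExt k (k × k) →ₐ[k] TrivSqZeroExt (DualNumber k) (DualNumber k) where
  toFun x := inl (inl x.fst) + inr (inl x.snd.1 + inr x.snd.2)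
  map_one' := by
    refine TrivSqZeroExt.ext ?_ ?_
    · refine TrivSqZeroExt.ext ?_ ?_ <;> simp
    · refine TrivSqZeroExt.ext ?_ ?_ <;> simp
  map_mul' x y := by
    refine TrivSqZeroExt.ext ?_ ?_
    · refine TrivSqZeroExt.ext ?_ ?_ <;> simp
    · refine TrivSqZeroExt.ext ?_ ?_ <;> simp <;> ring
  map_zero' := by
    refine TrivSqZeroExt.ext ?_ ?_
    · refine TrivSqZeroExt.ext ?_ ?_ <;> simp
    · refine TrivSqZeroExt.ext ?_ ?_ <;> simp
  map_add' x y := by
    refine TrivSqZeroExt.ext ?_ ?_
    · refine TrivSqZeroExt.ext ?_ ?_ <;> simp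
    · refine TrivSqZeroExt.ext ?_ ?_ <;> simp
  commutes' r := by
    refine TrivSqZeroExt.ext ?_ ?_
    · refine TrivSqZeroExt.ext ?_ ?_ <;> simp [TrivSqZeroExt.algebraMap_eq_inl']
    · refine TrivSqZeroExt.ext ?_ ?_ <;> simp [TrivSqZeroExt.algebraMap_eq_inl']

theorem pAlg_injective : Function.Injective (pAlg k) := by
  intro x y h
  have h1 := congrArg (fun z : TrivSqZeroExt (DualNumber k) (DualNumber k) => z.fst.fst) h
  have h2 := congrArg (fun z : TrivSqZeroExt (DualNumber k) (DualNumber k) => z.snd.fst) h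
  have h3 := congrArg (fun z : TrivSqZeroExt (DualNumber k) (DualNumber k) => z.snd.snd) h
  simp [pAlg] at h1 h2 h3
  exact TrivSqZeroExt.ext h1 (Prod.ext h2 h3)

/-- `pAlg` as a morphism of `Art k k`. -/
noncomputable def pArt : dual2 k k ⟶ bigArt k :=
  ⟨pAlg k, AlgHom.ext fun x => by
    change ((pAlg k x).fst).fst = x.fst
    simp [pAlg]⟩

theorem big_uv : (inl (inl 1 + inr 1) * inl (inl 1 - inr 1) :
    TrivSqZeroExt (DualNumber k) (DualNumber k)) = 1 := by
  have h : ((inl 1 + inr 1) * (inl 1 - inr 1) : DualNumber k) = 1 := by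
    have hε : (inr 1 : DualNumber k) * inr 1 = 0 := TrivSqZeroExt.inr_mul_inr _ _ _
    have h1 : (inl 1 : DualNumber k) = 1 := rfl
    rw [h1]
    linear_combination (-1 : DualNumber k) * hε
  rw [← TrivSqZeroExt.inl_mul, h]
  rfl

/-- The deformation functor of the node `Spec k[x,y]/(xy)` is not pro-representable. -/
theorem not_isProrepresentable_node :
    ¬ ArtFun.IsProrepresentable (ArtFun.defFunctor (Λ := k) (X0 k) (x0 k)) := by
  rintro ⟨P⟩
  let t₁ : dual2 k k := (inr (1, 0) : TrivSqZeroExt k (k × k))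
  let t₂ : dual2 k k := (inr (1, 1) : TrivSqZeroExt k (k × k))
  let u : bigArt k := (inl (inl 1 + inr 1) : TrivSqZeroExt (DualNumber k) (DualNumber k))
  let v : bigArt k := (inl (inl 1 - inr 1) : TrivSqZeroExt (DualNumber k) (DualNumber k))
  let q : TrivSqZeroExt k (k × k) →+* DualNumber k :=
    (tszeMap (Λ := k) (LinearMap.snd k k k) : TrivSqZeroExt k (k × k) →ₐ[k] TrivSqZeroExt k k).toRingHom
  let εQ : DualNumber k →+* k := (TrivSqZeroExt.fstHom k k k).toRingHom
  refine not_proRep_of_data P (pArt k) (pAlg_injective k) t₁ t₂ rfl rfl u v ?_ ?_ ?_ q εQ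
    (fun a => rfl) ?_ ?_ ?_
  · exact big_uv k
  · change ((inl (inl 1 + inr 1) : TrivSqZeroExt (DualNumber k) (DualNumber k)).fst).fst = 1
    simp
  · change pAlg k (inr (1, 1)) = (inl (inl 1 + inr 1) : TrivSqZeroExt (DualNumber k) (DualNumber k)) *
      pAlg k (inr (1, 0))
    refine TrivSqZeroExt.ext ?_ ?_
    · refine TrivSqZeroExt.ext ?_ ?_ <;> simp [pAlg]
    · refine TrivSqZeroExt.ext ?_ ?_ <;> simp [pAlg]
  · intro a b ha hb
    have ha' : a.fst = 0 := ha
    have hb' : b.fst = 0 := hb
    refine TrivSqZeroExt.ext ?_ ?_ <;> simp [ha', hb']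
  · refine TrivSqZeroExt.ext rfl ?_
    change (LinearMap.snd k k k) ((1 : k), (0 : k)) = 0
    rfl
  · intro h
    have h' := congrArg TrivSqZeroExt.snd h
    change (LinearMap.snd k k k) ((1 : k), (1 : k)) = 0 at h'
    exact one_ne_zero h'

end Concrete

end Groth.Agent.Lib.R2H7.DefSchNode
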