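import Mathlib
import Groth.Agent.Lib.R2H7FlatNil
import Groth.Agent.Lib.Helper19SmVar

set_option autoImplicit false
universe u
open TensorProduct

namespace Groth.Agent.Lib.R2LeadTrivDef

section Core
variable {k A B B' : Type u} [Field k] [CommRing A] [Algebra k A] [CommRing B] [Algebra k B]
  [CommRing B'] [Algebra A B'] [Algebra k B'] [IsScalarTower k A B']

/-- Ring-level core: a flat `A`-algebra `B'` whose reduction modulo the (nilpotent) augmentation
ideal of `A` is a formally smooth `k`-algebra `B` is the trivial deformation `A ⊗[k] B`. -/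
theorem core (e : A →ₐ[k] k) (n : ℕ) (hn : (RingHom.ker e.toRingHom) ^ n = ⊥)
    [Algebra.FormallySmooth k B] [Module.Flat A B']
    (c : B' →ₐ[k] B) (hc : ∀ a, c (algebraMap A B' a) = algebraMap k B (e a))
    (hsurj : Function.Surjective c)
    (hker : RingHom.ker c.toRingHom = (RingHom.ker e.toRingHom).map (algebraMap A B')) :
    Nonempty (A ⊗[k] B ≃ₐ[A] B') := by
  classical
  set I := RingHom.ker e.toRingHom with hI
  have hnil : IsNilpotent (RingHom.ker (c : B' →+* B)) := by
    refine ⟨n, ?_⟩
    have : RingHom.ker (c : B' →+* B) = I.map (algebraMap A B') := hker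
    rw [this, ← Ideal.map_pow, hn, Ideal.map_bot]
    rfl
  let s : B →ₐ[k] B' := Algebra.FormallySmooth.liftOfSurjective (AlgHom.id k B) c hsurj hnil
  have hs : ∀ b, c (s b) = b := fun b =>
    Algebra.FormallySmooth.liftOfSurjective_apply (AlgHom.id k B) c hsurj hnil b
  let Ψ : A ⊗[k] B →ₐ[A] B' :=
    Algebra.TensorProduct.lift (Algebra.ofId A B') s (fun _ _ => Commute.all _ _)
  have hΨ : ∀ a b, Ψ (a ⊗ₜ b) = algebraMap A B' a * s b := fun a b => by
    simp [Ψ, Algebra.ofId_apply]
  let ρ : A ⊗[k] B →ₐ[k] B :=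
    Algebra.TensorProduct.lift ((Algebra.ofId k B).comp e) (AlgHom.id k B)
      (fun _ _ => Commute.all _ _)
  have hρ : ∀ a b, ρ (a ⊗ₜ b) = algebraMap k B (e a) * b := fun a b => by
    simp [ρ, Algebra.ofId_apply]
  have h1 : ∀ p, c (Ψ p) = ρ p := by
    intro p
    induction p using TensorProduct.induction_on with
    | zero => simp
    | tmul a b => rw [hΨ, hρ, map_mul, hc, hs]
    | add x y hx hy => rw [map_add, map_add, map_add, hx, hy]
  have h2 : ∀ p : A ⊗[k] B, p - (1 : A) ⊗ₜ[k] (ρ p) ∈ I • (⊤ : Submodule A (A ⊗[k] B)) := by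
    intro p
    induction p using TensorProduct.induction_on with
    | zero => simp
    | tmul a b =>
      rw [hρ]
      have hmem : a - algebraMap k A (e a) ∈ I := by
        rw [hI, RingHom.mem_ker]
        change e (a - algebraMap k A (e a)) = 0
        rw [map_sub, e.commutes, Algebra.algebraMap_self_apply, sub_self]
      have : a ⊗ₜ[k] b - (1 : A) ⊗ₜ[k] (algebraMap k B (e a) * b)
          = (a - algebraMap k A (e a)) • ((1 : A) ⊗ₜ[k] b) := by
        rw [← Algebra.smul_def, TensorProduct.tmul_smul, sub_smul]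
        simp [Algebra.smul_def, Algebra.TensorProduct.algebraMap_apply]
      rw [this]
      exact Submodule.smul_mem_smul hmem Submodule.mem_top
    | add x y hx hy =>
      have : x + y - (1 : A) ⊗ₜ[k] ρ (x + y) = (x - (1 : A) ⊗ₜ[k] ρ x) + (y - (1 : A) ⊗ₜ[k] ρ y) := by
        rw [map_add, TensorProduct.tmul_add]; abel
      rw [this]
      exact Submodule.add_mem _ hx hy
  have hbij : Function.Bijective Ψ := by
    refine Groth.Agent.Lib.R2H7.FlatNil.bijective_of_flat_of_nilpotent (R := A) I n hn
      Ψ.toLinearMap ?_ ?_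
    · intro q
      refine ⟨(1 : A) ⊗ₜ[k] (c q), ?_⟩
      have h0 : c (Ψ ((1 : A) ⊗ₜ[k] (c q)) - q) = 0 := by
        rw [map_sub, h1, hρ, map_one, map_one, one_mul, sub_self]
      rw [Ideal.smul_top_eq_map]
      change Ψ ((1 : A) ⊗ₜ[k] (c q)) - q ∈ I.map (algebraMap A B')
      rw [← hker]
      exact h0
    · intro p hp
      rw [Ideal.smul_top_eq_map] at hp
      have hp' : Ψ p ∈ I.map (algebraMap A B') := hp
      rw [← hker] at hp'
      have h3 : ρ p = 0 := by rw [← h1]; exact hp'
      have h4 := h2 p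
      rwa [h3, TensorProduct.tmul_zero, sub_zero] at h4
  exact ⟨AlgEquiv.ofBijective Ψ hbij⟩

/-- From the pushout square: surjectivity and kernel of `B' → B`. -/
theorem surj_ker_of_isPushout (e : A →ₐ[k] k) (c : B' →ₐ[k] B)
    (hpo : CategoryTheory.IsPushout (CommRingCat.ofHom e.toRingHom)
      (CommRingCat.ofHom (algebraMap A B')) (CommRingCat.ofHom (algebraMap k B))
      (CommRingCat.ofHom c.toRingHom)) :
    (∀ a, c (algebraMap A B' a) = algebraMap k B (e a)) ∧ Function.Surjective c ∧
      RingHom.ker c.toRingHom = (RingHom.ker e.toRingHom).map (algebraMap A B') := by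
  have hc : ∀ a, c (algebraMap A B' a) = algebraMap k B (e a) := by
    intro a
    have := congrArg (fun f => f.hom a) hpo.w
    exact this.symm
  refine ⟨hc, ?_⟩
  letI : Algebra A k := e.toRingHom.toAlgebra
  letI : Algebra B' B := c.toRingHom.toAlgebra
  letI : Algebra A B := ((algebraMap k B).comp e.toRingHom).toAlgebra
  haveI : IsScalarTower A k B := IsScalarTower.of_algebraMap_eq (fun _ => rfl)
  haveI : IsScalarTower A B' B := IsScalarTower.of_algebraMap_eq (fun a => (hc a).symm)
  have hP : Algebra.IsPushout A k B' B := CommRingCat.isPushout_iff_isPushout.mp hpo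
  have hbc : IsBaseChange k (IsScalarTower.toAlgHom A B' B).toLinearMap := hP.out
  have hsmulk : ∀ (a : A) (κ : k), a • κ = e a * κ := fun a κ => rfl
  refine ⟨?_, ?_⟩
  · intro x
    refine hbc.inductionOn x (motive := fun x => ∃ y, c y = x) ⟨0, map_zero _⟩ ?_ ?_ ?_
    · intro m
      exact ⟨m, rfl⟩
    · rintro κ n ⟨y, rfl⟩
      exact ⟨κ • y, map_smul c κ y⟩
    · rintro x y ⟨x', rfl⟩ ⟨y', rfl⟩
      exact ⟨x' + y', map_add _ _ _⟩
  · apply le_antisymm
    · intro x hx
      set J := (RingHom.ker e.toRingHom).map (algebraMap A B') with hJ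
      haveI : IsScalarTower A k (B' ⧸ J) := by
        refine ⟨fun a κ q => ?_⟩
        obtain ⟨y, rfl⟩ := Ideal.Quotient.mk_surjective q
        rw [hsmulk]
        have h1 : (e a * κ) • (Ideal.Quotient.mk J y) = Ideal.Quotient.mk J (algebraMap k B' (e a * κ) * y) := by
          rw [← Algebra.smul_def]; rfl
        have h2 : a • (κ • (Ideal.Quotient.mk J y))
            = Ideal.Quotient.mk J (algebraMap A B' a * (algebraMap k B' κ * y)) := by
          rw [← Algebra.smul_def, ← Algebra.smul_def]; rfl
        rw [h1, h2, ← sub_eq_zero, ← map_sub, Ideal.Quotient.eq_zero_iff_mem]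
        have h3 : algebraMap k B' (e a * κ) * y - algebraMap A B' a * (algebraMap k B' κ * y)
            = algebraMap A B' (algebraMap k A (e a) - a) * (algebraMap k B' κ * y) := by
          rw [map_mul, map_sub, IsScalarTower.algebraMap_apply k A B' (e a)]; ring
        rw [h3]
        refine Ideal.mul_mem_right _ _ (Ideal.mem_map_of_mem _ ?_)
        rw [RingHom.mem_ker]
        change e (algebraMap k A (e a) - a) = 0
        rw [map_sub, e.commutes, Algebra.algebraMap_self_apply, sub_self]
      let g : B' →ₗ[A] (B' ⧸ J) := (Ideal.Quotient.mkₐ A J).toLinearMap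
      have h4 := hbc.lift_eq g x
      have h5 : (IsScalarTower.toAlgHom A B' B).toLinearMap x = 0 := hx
      rw [h5, map_zero] at h4
      exact Ideal.Quotient.eq_zero_iff_mem.mp h4.symm
    · rw [Ideal.map_le_iff_le_comap]
      intro a ha
      rw [Ideal.mem_comap, RingHom.mem_ker]
      change c (algebraMap A B' a) = 0
      rw [hc]
      have : e a = 0 := ha
      rw [this, map_zero]

end Core

section Geom

open CategoryTheory CategoryTheory.Limits AlgebraicGeometry

theorem affine_case (k A : Type u) [Field k] [IsAlgClosed k] [CommRing A] [IsLocalRing A]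
    [IsArtinianRing A] [Algebra k A] (e : A →ₐ[k] k)
    (B B' : CommRingCat.{u}) (β : CommRingCat.of k ⟶ B) (α : CommRingCat.of A ⟶ B') (c : B' ⟶ B)
    (hflat : α.hom.Flat) (hft : β.hom.FiniteType) (hreg : IsRegularRing B)
    (hsq : IsPullback (Spec.map c) (Spec.map β) (Spec.map α)
      (Spec.map (CommRingCat.ofHom e.toRingHom))) :
    ∃ φ : Spec B' ≅ pullback (Spec.map β) (Spec.map (CommRingCat.ofHom (algebraMap k A))),
      φ.hom ≫ pullback.snd _ _ = Spec.map α := by
  letI : Algebra k B := β.hom.toAlgebra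
  letI : Algebra A B' := α.hom.toAlgebra
  letI : Algebra k B' := (α.hom.comp (algebraMap k A)).toAlgebra
  haveI : IsScalarTower k A B' := IsScalarTower.of_algebraMap_eq (fun _ => rfl)
  -- the pushout square of rings
  have hw : α ≫ c = CommRingCat.ofHom e.toRingHom ≫ β := by
    apply Spec.map_injective
    rw [Spec.map_comp, Spec.map_comp]
    exact hsq.w
  have hpb : IsPullback c.op β.op α.op (CommRingCat.ofHom e.toRingHom).op :=
    IsPullback.of_map Scheme.Spec (by rw [← op_comp, ← op_comp, hw]) hsq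
  have hpo : IsPushout (CommRingCat.ofHom e.toRingHom) α β c := hpb.unop
  -- `c` as a `k`-algebra map
  let c' : B' →ₐ[k] B :=
    { c.hom with
      commutes' := fun κ => by
        have h1 := congrArg (fun f => f.hom (algebraMap k A κ)) hw
        have h2 : e (algebraMap k A κ) = κ := by
          rw [e.commutes]; rfl
        change c.hom (α.hom (algebraMap k A κ)) = β.hom κ
        refine Eq.trans h1 ?_
        change β.hom (e (algebraMap k A κ)) = β.hom κ
        rw [h2] }
  have hpo' : IsPushout (CommRingCat.ofHom e.toRingHom)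
      (CommRingCat.ofHom (algebraMap A B')) (CommRingCat.ofHom (algebraMap k B))
      (CommRingCat.ofHom c'.toRingHom) := hpo
  obtain ⟨hc, hsurj, hker⟩ := surj_ker_of_isPushout e c' hpo'
  haveI : Algebra.FiniteType k B := hft
  haveI : Algebra.FormallySmooth k B :=
    (Groth.Agent.Lib.Helper19.SmVar.isRegularRing_iff_formallySmooth k B).mp hreg
  haveI : Module.Flat A B' := hflat
  -- nilpotency of the augmentation ideal
  obtain ⟨n, hn⟩ : ∃ n : ℕ, (RingHom.ker e.toRingHom) ^ n = ⊥ := by
    have hsurje : Function.Surjective e.toRingHom := fun κ =>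
      ⟨algebraMap k A κ, by change e (algebraMap k A κ) = κ; rw [e.commutes]; rfl⟩
    haveI : (RingHom.ker e.toRingHom).IsMaximal := RingHom.ker_isMaximal_of_surjective _ hsurje
    have h1 : RingHom.ker e.toRingHom = IsLocalRing.maximalIdeal A :=
      IsLocalRing.eq_maximalIdeal inferInstance
    have h2 : IsNilpotent (Ideal.jacobson (⊥ : Ideal A)) := IsArtinianRing.isNilpotent_jacobson_bot
    rw [IsLocalRing.jacobson_eq_maximalIdeal ⊥ bot_ne_top] at h2
    obtain ⟨n, hn⟩ := h2
    exact ⟨n, by rw [h1, hn]; rfl⟩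
  obtain ⟨θ⟩ := core e n hn c' hc hsurj hker
  -- the ring isomorphism `B ⊗[k] A ≃+* B'`
  let r : (B ⊗[k] A) ≃+* B' :=
    (Algebra.TensorProduct.comm k B A).toRingEquiv.trans θ.toRingEquiv
  let ι : CommRingCat.of (B ⊗[k] A) ≅ B' := r.toCommRingCatIso
  have hι : CommRingCat.ofHom (Algebra.TensorProduct.includeRight.toRingHom :
      A →+* B ⊗[k] A) ≫ ι.hom = α := by
    ext a
    change θ (Algebra.TensorProduct.comm k B A ((1 : B) ⊗ₜ[k] a)) = α.hom a
    rw [Algebra.TensorProduct.comm_tmul]
    have : (a ⊗ₜ[k] (1 : B) : A ⊗[k] B) = algebraMap A (A ⊗[k] B) a := rfl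
    rw [this, θ.commutes]
    rfl
  refine ⟨Scheme.Spec.mapIso ι.op ≪≫ (pullbackSpecIso k B A).symm, ?_⟩
  change (Spec.map ι.hom ≫ (pullbackSpecIso k B A).inv) ≫ pullback.snd _ _ = Spec.map α
  rw [Category.assoc, pullbackSpecIso_inv_snd, ← Spec.map_comp]
  exact congrArg Spec.map hι

end Geom

end Groth.Agent.Lib.R2LeadTrivDef
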