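/-
Rigidity of affine schemes with trivial `k`-extensions by `B₀`: every flat deformation over an
Artinian local `k`-algebra with residue field `k` admits a `k`-algebra section of the reduction,
hence is the product deformation.
-/
import Mathlib
import Groth.Prelude.Def_ArtFun4
import Groth.Prelude.Def_Exal
import Groth.Agent.Lib.R2H7FlatNil
import Groth.Agent.Lib.Helper19SmallExt
import Groth.Agent.Lib.Helper22ThickAffine
import Groth.Agent.Lib.R2LeadTrivDef

set_option autoImplicit false
universe u
open TensorProduct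

namespace Groth.Agent.Lib.R2H7.RigidAffine

section FlatColon

variable {A M : Type u} [CommRing A] [AddCommGroup M] [Module A M] [Module.Flat A M]

/-- Flatness and colon ideals: if `x • m ∈ K M` then `m` is a combination with coefficients in
`(K : x)`. -/
theorem mem_colon_smul_top (K : Ideal A) (x : A) (m : M)
    (h : x • m ∈ K • (⊤ : Submodule A M)) :
    ∃ (n : ℕ) (a : Fin n → A) (y : Fin n → M), (∀ j, x * a j ∈ K) ∧ m = ∑ j, a j • y j := by
  classical
  have h' : x • m ∈ K • Submodule.span A (Set.range (id : M → M)) := by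
    rw [Set.range_id, Submodule.span_univ]; exact h
  obtain ⟨c, hc, hsum⟩ := (Submodule.mem_ideal_smul_span_iff_exists_sum K id (x • m)).1 h'
  let f : Option c.support → A := fun o => o.elim x (fun i => - c i)
  let xs : Option c.support → M := fun o => o.elim m (fun i => (i : M))
  have hrel : ∑ o, f o • xs o = 0 := by
    rw [Fintype.sum_option]
    simp only [f, xs, Option.elim_none, Option.elim_some, neg_smul, Finset.sum_neg_distrib]
    have : ∑ i : c.support, c (i : M) • (i : M) = x • m := by
      rw [← hsum, Finsupp.sum, ← Finset.sum_coe_sort c.support (fun i => c i • id i)]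
      rfl
    rw [this, add_neg_cancel]
  obtain ⟨n, a, y, hxy, hfa⟩ := Module.Flat.isTrivialRelation_of_sum_smul_eq_zero hrel
  refine ⟨n, a none, y, fun j => ?_, hxy none⟩
  have hj := hfa j
  rw [Fintype.sum_option] at hj
  simp only [f, Option.elim_none, Option.elim_some, neg_mul, Finset.sum_neg_distrib] at hj
  have : x * a none j = ∑ i : c.support, c (i : M) * a (some i) j := by
    rw [← sub_eq_zero, sub_eq_add_neg]; exact hj
  rw [this]
  exact Ideal.sum_mem _ fun i _ => Ideal.mul_mem_right _ _ (hc _)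

end FlatColon

section Section

open Groth.Agent.Lib.Helper19

variable {k A B₀ B' : Type u} [Field k] [CommRing A] [IsLocalRing A] [IsArtinianRing A]
  [Algebra k A] [CommRing B₀] [Algebra k B₀] [CommRing B'] [Algebra A B'] [Algebra k B']
  [IsScalarTower k A B'] [Module.Flat A B']

/-- If every `k`-extension of `B₀` by `B₀` is trivial, the reduction `B' → B₀` of a flat
deformation over an Artinian local ring has a `k`-algebra section. -/
theorem exists_section (hT : ∀ E : Exal.Ext k B₀ B₀, E.IsTrivial)
    (c : B' →ₐ[k] B₀) (hsurj : Function.Surjective c)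
    (hker : RingHom.ker c.toRingHom = (IsLocalRing.maximalIdeal A).map (algebraMap A B')) :
    ∃ σ : B₀ →ₐ[k] B', ∀ b, c (σ b) = b := by
  classical
  have hkermem : ∀ y : B', c y = 0 ↔ y ∈ (IsLocalRing.maximalIdeal A).map (algebraMap A B') := by
    intro y
    rw [← hker]
    exact Iff.rfl
  let P : Ideal A → Prop := fun K => K ≤ IsLocalRing.maximalIdeal A →
    ∃ σ : B₀ →ₐ[k] (B' ⧸ K.map (algebraMap A B')), ∀ (b : B₀) (y : B'),
      Ideal.Quotient.mk (K.map (algebraMap A B')) y = σ b → c y = b
  have hP : ∀ K, P K := by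
    intro K
    refine IsNoetherian.induction (P := P) ?_ K
    intro (K : Ideal A) IH hK
    by_cases hKm : K = IsLocalRing.maximalIdeal A
    · -- base case
      rw [hKm]
      let s := Function.surjInv hsurj
      have hs : ∀ b, c (s b) = b := Function.surjInv_eq hsurj
      have hmk : ∀ y y' : B', c y = c y' →
          Ideal.Quotient.mk ((IsLocalRing.maximalIdeal A).map (algebraMap A B')) y =
          Ideal.Quotient.mk ((IsLocalRing.maximalIdeal A).map (algebraMap A B')) y' := by
        intro y y' h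
        rw [Ideal.Quotient.eq, ← hkermem, map_sub, h, sub_self]
      refine ⟨{ toFun := fun b => Ideal.Quotient.mk _ (s b)
                map_one' := ?_
                map_mul' := ?_
                map_zero' := ?_
                map_add' := ?_
                commutes' := ?_ }, ?_⟩
      · rw [← map_one (Ideal.Quotient.mk _)]
        exact hmk _ _ (by rw [hs, map_one])
      · intro a b
        rw [← map_mul]
        exact hmk _ _ (by rw [hs, map_mul, hs, hs])
      · rw [← map_zero (Ideal.Quotient.mk _)]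
        exact hmk _ _ (by rw [hs, map_zero])
      · intro a b
        change Ideal.Quotient.mk _ (s (a + b)) = Ideal.Quotient.mk _ (s a) + Ideal.Quotient.mk _ (s b)
        rw [← map_add]
        exact hmk _ _ (by rw [hs, map_add, hs, hs])
      · intro r
        change Ideal.Quotient.mk _ (s (algebraMap k B₀ r)) = Ideal.Quotient.mk _ (algebraMap k B' r)
        exact hmk _ _ (by rw [hs, c.commutes])
      · intro b y hy
        change Ideal.Quotient.mk _ y = Ideal.Quotient.mk _ (s b) at hy
        rw [Ideal.Quotient.eq, ← hkermem, map_sub, hs, sub_eq_zero] at hy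
        exact hy
    · -- inductive step
      have hlt : K < IsLocalRing.maximalIdeal A := lt_of_le_of_ne hK hKm
      obtain ⟨x, hx𝔪, hxK, hmx⟩ := exists_socle_elt A hlt
      have hKJ : K < K ⊔ Ideal.span {x} := by
        refine lt_of_le_of_ne le_sup_left (fun h => hxK ?_)
        rw [h]
        exact Ideal.mem_sup_right (Ideal.mem_span_singleton_self x)
      have hJ𝔪 : K ⊔ Ideal.span {x} ≤ IsLocalRing.maximalIdeal A :=
        sup_le hK ((Ideal.span_singleton_le_iff_mem _).2 hx𝔪)
      obtain ⟨σJ, hσJ⟩ := IH (K ⊔ Ideal.span {x}) hKJ hJ𝔪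
      have hKJB : K.map (algebraMap A B') ≤ (K ⊔ Ideal.span {x}).map (algebraMap A B') :=
        Ideal.map_mono hKJ.le
      let π : (B' ⧸ K.map (algebraMap A B')) →ₐ[k] (B' ⧸ (K ⊔ Ideal.span {x}).map (algebraMap A B')) :=
        Ideal.Quotient.factorₐ k hKJB
      have hπ : ∀ y : B', π (Ideal.Quotient.mk _ y) = Ideal.Quotient.mk _ y := fun y => rfl
      have hx𝔪K : ∀ y : B', c y = 0 → algebraMap A B' x * y ∈ K.map (algebraMap A B') := by
        intro y hy
        have hy' := (hkermem y).1 hy
        have h1 : algebraMap A B' x * y ∈ (Ideal.span {x}).map (algebraMap A B') *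
            (IsLocalRing.maximalIdeal A).map (algebraMap A B') :=
          Ideal.mul_mem_mul (Ideal.mem_map_of_mem _ (Ideal.mem_span_singleton_self x)) hy'
        rw [← Ideal.map_mul] at h1
        exact Ideal.map_mono (by rw [mul_comm]; exact hmx) h1
      let g : B' →+ (B' ⧸ K.map (algebraMap A B')) :=
        (Ideal.Quotient.mk (K.map (algebraMap A B'))).toAddMonoidHom.comp
          (AddMonoidHom.mulLeft (algebraMap A B' x))
      have hg : ∀ y, g y = Ideal.Quotient.mk _ (algebraMap A B' x * y) := fun y => rfl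
      let cadd : B' →+ B₀ := (c : B' →+* B₀).toAddMonoidHom
      have hcadd : ∀ y, cadd y = c y := fun y => rfl
      have hcg : cadd.ker ≤ g.ker := by
        intro y hy
        rw [AddMonoidHom.mem_ker] at hy ⊢
        rw [hg, Ideal.Quotient.eq_zero_iff_mem]
        exact hx𝔪K y hy
      let ν : B₀ →+ (B' ⧸ K.map (algebraMap A B')) :=
        cadd.liftOfRightInverse (Function.surjInv hsurj) (Function.surjInv_eq hsurj) ⟨g, hcg⟩
      have hν : ∀ y, ν (c y) = Ideal.Quotient.mk _ (algebraMap A B' x * y) := fun y =>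
        AddMonoidHom.liftOfRightInverse_comp_apply cadd (Function.surjInv hsurj)
          (Function.surjInv_eq hsurj) ⟨g, hcg⟩ y
      let E : Subalgebra k (B₀ × (B' ⧸ K.map (algebraMap A B'))) :=
        AlgHom.equalizer (σJ.comp (AlgHom.fst k B₀ (B' ⧸ K.map (algebraMap A B'))))
          (π.comp (AlgHom.snd k B₀ (B' ⧸ K.map (algebraMap A B'))))
      have hE : ∀ z : B₀ × (B' ⧸ K.map (algebraMap A B')), z ∈ E ↔ σJ z.1 = π z.2 :=
        fun z => Iff.rfl
      have hxJ : ∀ y : B', Ideal.Quotient.mk ((K ⊔ Ideal.span {x}).map (algebraMap A B'))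
          (algebraMap A B' x * y) = 0 := by
        intro y
        rw [Ideal.Quotient.eq_zero_iff_mem]
        exact Ideal.mul_mem_right _ _ (Ideal.mem_map_of_mem _
          (Ideal.mem_sup_right (Ideal.mem_span_singleton_self x)))
      have hν_mem : ∀ b, ((0 : B₀), ν b) ∈ E := by
        intro b
        rw [hE]
        obtain ⟨y, rfl⟩ := hsurj b
        change σJ 0 = π (ν (c y))
        rw [hν, hπ, map_zero, hxJ]
      let incl : B₀ →+ E :=
        { toFun := fun b => ⟨(0, ν b), hν_mem b⟩
          map_zero' := Subtype.ext (Prod.ext rfl (map_zero ν))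
          map_add' := fun a b => Subtype.ext (Prod.ext (zero_add (0 : B₀)).symm (map_add ν a b)) }
      have hincl : ∀ b, ((incl b : E) : B₀ × (B' ⧸ K.map (algebraMap A B'))) = (0, ν b) :=
        fun b => rfl
      let proj : E →ₐ[k] B₀ := (AlgHom.fst k B₀ (B' ⧸ K.map (algebraMap A B'))).comp E.val
      have hproj : ∀ z : E, proj z = (z : B₀ × (B' ⧸ K.map (algebraMap A B'))).1 := fun z => rfl
      -- every element of `E` has second component represented by a lift of its first component
      have hrep : ∀ (z : E) (y : B'), (z : B₀ × (B' ⧸ K.map (algebraMap A B'))).2 =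
          Ideal.Quotient.mk _ y → c y = (z : B₀ × (B' ⧸ K.map (algebraMap A B'))).1 := by
        intro z y hy
        have hz := (hE z).1 z.2
        rw [hy, hπ] at hz
        exact hσJ _ y hz.symm
      have hext : Exal.IsExtension proj incl := by
        refine ⟨?_, ?_, ?_, ?_⟩
        · intro b
          obtain ⟨y, hy⟩ := Ideal.Quotient.mk_surjective (σJ b)
          refine ⟨⟨(b, Ideal.Quotient.mk _ y), (hE _).2 ?_⟩, rfl⟩
          change σJ b = π (Ideal.Quotient.mk _ y)
          rw [hπ, hy]
        · rw [injective_iff_map_eq_zero]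
          intro b hb
          have h0 : ν b = 0 := by
            have := congrArg (fun z : E => (z : B₀ × (B' ⧸ K.map (algebraMap A B'))).2) hb
            exact this
          obtain ⟨y, rfl⟩ := hsurj b
          rw [hν, Ideal.Quotient.eq_zero_iff_mem] at h0
          have h1 : x • y ∈ K • (⊤ : Submodule A B') := by
            rw [Ideal.smul_top_eq_map, Algebra.smul_def]
            exact h0
          obtain ⟨n, a, ys, ha, hy⟩ := mem_colon_smul_top K x y h1
          have ha𝔪 : ∀ j, a j ∈ IsLocalRing.maximalIdeal A := by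
            intro j
            by_contra hj
            rw [IsLocalRing.mem_maximalIdeal, mem_nonunits_iff, not_not] at hj
            obtain ⟨u, hu⟩ := hj
            apply hxK
            have : x = (x * a j) * (↑u⁻¹ : A) := by
              rw [← hu, mul_assoc, Units.mul_inv, mul_one]
            rw [this]
            exact Ideal.mul_mem_right _ _ (ha j)
          rw [hkermem, hy]
          refine Ideal.sum_mem _ fun j _ => ?_
          rw [Algebra.smul_def]
          exact Ideal.mul_mem_right _ _ (Ideal.mem_map_of_mem _ (ha𝔪 j))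
        · intro z
          constructor
          · intro hz
            rw [hproj] at hz
            obtain ⟨y, hy⟩ := Ideal.Quotient.mk_surjective
              (z : B₀ × (B' ⧸ K.map (algebraMap A B'))).2
            have h1 := (hE z).1 z.2
            rw [hz, map_zero, ← hy, hπ] at h1
            have h2 : y ∈ (K ⊔ Ideal.span {x}).map (algebraMap A B') :=
              Ideal.Quotient.eq_zero_iff_mem.1 h1.symm
            rw [Ideal.map_sup, Ideal.map_span, Set.image_singleton] at h2
            obtain ⟨y₁, hy₁, y₂, hy₂, rfl⟩ := Submodule.mem_sup.1 h2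
            obtain ⟨w, rfl⟩ := Ideal.mem_span_singleton'.1 hy₂
            refine ⟨c w, Subtype.ext (Prod.ext hz.symm ?_)⟩
            change ν (c w) = (z : B₀ × (B' ⧸ K.map (algebraMap A B'))).2
            rw [hν, ← hy, map_add, Ideal.Quotient.eq_zero_iff_mem.2 hy₁, zero_add, mul_comm]
          · rintro ⟨b, rfl⟩
            rfl
        · intro z b'
          obtain ⟨yq, hyq⟩ := Ideal.Quotient.mk_surjective
            (z : B₀ × (B' ⧸ K.map (algebraMap A B'))).2
          have hcyq := hrep z yq hyq.symm
          obtain ⟨y', rfl⟩ := hsurj b'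
          apply Subtype.ext
          apply Prod.ext
          · change (z : B₀ × (B' ⧸ K.map (algebraMap A B'))).1 * 0 = 0
            rw [mul_zero]
          · change (z : B₀ × (B' ⧸ K.map (algebraMap A B'))).2 * ν (c y') = ν (proj z • c y')
            rw [hproj, smul_eq_mul, ← hcyq, ← map_mul, hν, hν, ← hyq, ← map_mul]
            congr 1
            ring
      let Xt : Exal.Ext k B₀ B₀ := { E := E, proj := proj, incl := incl, isExtension := hext }
      obtain ⟨s, hs⟩ := hT Xt
      refine ⟨(AlgHom.snd k B₀ (B' ⧸ K.map (algebraMap A B'))).comp (E.val.comp s), ?_⟩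
      intro b y hy
      have h1 := hrep (s b) y hy.symm
      rw [h1]
      exact hs b
  obtain ⟨σ₀, hσ₀⟩ := hP ⊥ bot_le
  let L : (B' ⧸ (⊥ : Ideal A).map (algebraMap A B')) →ₐ[k] B' :=
    Ideal.Quotient.liftₐ _ (AlgHom.id k B') (fun a ha => by
      rw [Ideal.map_bot] at ha
      simpa using ha)
  refine ⟨L.comp σ₀, fun b => ?_⟩
  obtain ⟨y, hy⟩ := Ideal.Quotient.mk_surjective (σ₀ b)
  have h1 : L (σ₀ b) = y := by
    rw [← hy]
    rfl
  change c (L (σ₀ b)) = b
  rw [h1]
  exact hσ₀ b y hy

end Section

section Core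

variable {k A B B' : Type u} [Field k] [CommRing A] [Algebra k A] [CommRing B] [Algebra k B]
  [CommRing B'] [Algebra A B'] [Algebra k B'] [IsScalarTower k A B']

/-- A flat `A`-algebra `B'` with a `k`-algebra section `s` of its reduction `c : B' → B` modulo the
nilpotent augmentation ideal is `A ⊗[k] B` via `a ⊗ b ↦ a • s b`. -/
theorem bijective_of_section (e : A →ₐ[k] k) (n : ℕ) (hn : (RingHom.ker e.toRingHom) ^ n = ⊥)
    [Module.Flat A B']
    (c : B' →ₐ[k] B) (hc : ∀ a, c (algebraMap A B' a) = algebraMap k B (e a))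
    (hker : RingHom.ker c.toRingHom = (RingHom.ker e.toRingHom).map (algebraMap A B'))
    (s : B →ₐ[k] B') (hs : ∀ b, c (s b) = b) :
    Function.Bijective (Algebra.TensorProduct.lift (Algebra.ofId A B') s
      (fun _ _ => Commute.all _ _) : A ⊗[k] B →ₐ[A] B') := by
  classical
  set I := RingHom.ker e.toRingHom with hI
  set Ψ : A ⊗[k] B →ₐ[A] B' :=
    Algebra.TensorProduct.lift (Algebra.ofId A B') s (fun _ _ => Commute.all _ _) with hΨdef
  have hΨ : ∀ a b, Ψ (a ⊗ₜ b) = algebraMap A B' a * s b := fun a b => by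
    simp [Ψ, Algebra.ofId_apply]
  let ρ : A ⊗[k] B →ₐ[k] B :=
    Algebra.TensorProduct.lift ((Algebra.ofId k B).comp e) (AlgHom.id k B)
      (fun _ _ => Commute.all _ _)
  have hρ : ∀ a b, ρ (a ⊗ₜ b) = algebraMap k B (e a) * b := fun a b => by
    simp [ρ, Algebra.ofId_apply]
  have h1 : ∀ p, c (Ψ p) = ρ p := by
    intro p
    induction p using TensorProduct.induction_on with
    | zero => simp
    | tmul a b => rw [hΨ, hρ, map_mul, hc, hs]
    | add x y hx hy => rw [map_add, map_add, map_add, hx, hy]
  have h2 : ∀ p : A ⊗[k] B, p - (1 : A) ⊗ₜ[k] (ρ p) ∈ I • (⊤ : Submodule A (A ⊗[k] B)) := by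
    intro p
    induction p using TensorProduct.induction_on with
    | zero => simp
    | tmul a b =>
      rw [hρ]
      have hmem : a - algebraMap k A (e a) ∈ I := by
        rw [hI, RingHom.mem_ker]
        change e (a - algebraMap k A (e a)) = 0
        rw [map_sub, e.commutes, Algebra.algebraMap_self_apply, sub_self]
      have : a ⊗ₜ[k] b - (1 : A) ⊗ₜ[k] (algebraMap k B (e a) * b)
          = (a - algebraMap k A (e a)) • ((1 : A) ⊗ₜ[k] b) := by
        rw [← Algebra.smul_def, TensorProduct.tmul_smul, sub_smul]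
        simp [Algebra.smul_def, Algebra.TensorProduct.algebraMap_apply]
      rw [this]
      exact Submodule.smul_mem_smul hmem Submodule.mem_top
    | add x y hx hy =>
      have : x + y - (1 : A) ⊗ₜ[k] ρ (x + y) = (x - (1 : A) ⊗ₜ[k] ρ x) + (y - (1 : A) ⊗ₜ[k] ρ y) := by
        rw [map_add, TensorProduct.tmul_add]; abel
      rw [this]
      exact Submodule.add_mem _ hx hy
  refine Groth.Agent.Lib.R2H7.FlatNil.bijective_of_flat_of_nilpotent (R := A) I n hn
    Ψ.toLinearMap ?_ ?_
  · intro q
    refine ⟨(1 : A) ⊗ₜ[k] (c q), ?_⟩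
    have h0 : c (Ψ ((1 : A) ⊗ₜ[k] (c q)) - q) = 0 := by
      rw [map_sub, h1, hρ, map_one, map_one, one_mul, sub_self]
    rw [Ideal.smul_top_eq_map]
    change Ψ ((1 : A) ⊗ₜ[k] (c q)) - q ∈ I.map (algebraMap A B')
    rw [← hker]
    exact h0
  · intro p hp
    rw [Ideal.smul_top_eq_map] at hp
    have hp' : Ψ p ∈ I.map (algebraMap A B') := hp
    rw [← hker] at hp'
    have h3 : ρ p = 0 := by rw [← h1]; exact hp'
    have h4 := h2 p
    rwa [h3, TensorProduct.tmul_zero, sub_zero] at h4

end Core

section Geom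

open CategoryTheory CategoryTheory.Limits AlgebraicGeometry ArtFun ArtFun.Art

/-- An affine scheme `Spec B₀` all of whose `k`-algebra extensions by `B₀` are trivial is rigid:
every deformation over an Artinian local `k`-algebra is isomorphic to the product deformation. -/
theorem rigid_affine {k : Type u} [Field k] (B₀ : Type u) [CommRing B₀] [Algebra k B₀]
    (hT : ∀ E : Exal.Ext k B₀ B₀, E.IsTrivial) (A : ArtFun.Art k k)
    (hx : Flat (Spec.map (CommRingCat.ofHom (algebraMap k B₀))))
    (ξ : ArtFun.DefSch (Spec (CommRingCat.of B₀))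
      (Spec.map (CommRingCat.ofHom (algebraMap k B₀))) A) :
    Nonempty (ξ.Iso (ArtFun.DefSch.trivial (Spec (CommRingCat.of B₀))
      (Spec.map (CommRingCat.ofHom (algebraMap k B₀))) hx A)) := by
  classical
  let e : A →ₐ[k] k := A.res
  have hsurje : Function.Surjective e.toRingHom := A.res_surjective
  have hkere : RingHom.ker e.toRingHom = IsLocalRing.maximalIdeal A := by
    haveI : (RingHom.ker e.toRingHom).IsMaximal := RingHom.ker_isMaximal_of_surjective _ hsurje
    exact IsLocalRing.eq_maximalIdeal inferInstance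
  haveI hci : IsClosedImmersion (specRes A) :=
    IsClosedImmersion.spec_of_surjective _ hsurje
  haveI hsj : Surjective (specRes A) := by
    constructor
    intro q
    have h2 : q.asIdeal = IsLocalRing.maximalIdeal A :=
      IsLocalRing.eq_maximalIdeal (IsArtinianRing.isMaximal_of_isPrime q.asIdeal)
    refine ⟨(⊥ : PrimeSpectrum k), ?_⟩
    apply PrimeSpectrum.ext
    change Ideal.comap e.toRingHom ⊥ = q.asIdeal
    rw [h2, ← hkere]
    rfl
  haveI : IsClosedImmersion ξ.i := MorphismProperty.of_isPullback ξ.isPullback.flip hci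
  haveI : Surjective ξ.i := MorphismProperty.of_isPullback ξ.isPullback.flip hsj
  haveI : IsAffine ξ.total :=
    Groth.Agent.Lib.Helper22.ThickAffine.isAffine_of_thickening ξ.i (Surjective.surj)
  let ψ' := ξ.total.isoSpec
  let α : CommRingCat.of A ⟶ Γ(ξ.total, ⊤) := Spec.preimage (ψ'.inv ≫ ξ.f)
  let cc : Γ(ξ.total, ⊤) ⟶ CommRingCat.of B₀ := Spec.preimage (ξ.i ≫ ψ'.hom)
  have hα : Spec.map α = ψ'.inv ≫ ξ.f := Spec.map_preimage _
  have hcc : Spec.map cc = ξ.i ≫ ψ'.hom := Spec.map_preimage _
  have hsq' : IsPullback (Spec.map cc) (Spec.map (CommRingCat.ofHom (algebraMap k B₀)))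
      (Spec.map α) (Spec.map (CommRingCat.ofHom e.toRingHom)) := by
    rw [hcc, hα]
    exact IsPullback.of_iso ξ.isPullback (Iso.refl _) ψ' (Iso.refl _) (Iso.refl _) (by simp)
      (by simp) (by simp) ((Category.comp_id _).trans (Category.id_comp _).symm)
  letI : Algebra A Γ(ξ.total, ⊤) := α.hom.toAlgebra
  letI : Algebra k Γ(ξ.total, ⊤) := (α.hom.comp (algebraMap k A)).toAlgebra
  haveI : IsScalarTower k A Γ(ξ.total, ⊤) := IsScalarTower.of_algebraMap_eq (fun _ => rfl)
  have hw : α ≫ cc = CommRingCat.ofHom e.toRingHom ≫ CommRingCat.ofHom (algebraMap k B₀) := by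
    apply Spec.map_injective
    rw [Spec.map_comp, Spec.map_comp]
    exact hsq'.w
  have hpb : IsPullback cc.op (CommRingCat.ofHom (algebraMap k B₀)).op α.op
      (CommRingCat.ofHom e.toRingHom).op :=
    IsPullback.of_map Scheme.Spec (by rw [← op_comp, ← op_comp, hw]) hsq'
  have hpo : IsPushout (CommRingCat.ofHom e.toRingHom) α
      (CommRingCat.ofHom (algebraMap k B₀)) cc := hpb.unop
  let c' : Γ(ξ.total, ⊤) →ₐ[k] B₀ :=
    { cc.hom with
      commutes' := fun κ => by
        have h1 := congrArg (fun f => f.hom (algebraMap k A κ)) hw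
        have h2 : e (algebraMap k A κ) = κ := by
          rw [e.commutes]; rfl
        change cc.hom (α.hom (algebraMap k A κ)) = algebraMap k B₀ κ
        refine Eq.trans h1 ?_
        change algebraMap k B₀ (e (algebraMap k A κ)) = algebraMap k B₀ κ
        rw [h2] }
  have hpo' : IsPushout (CommRingCat.ofHom e.toRingHom)
      (CommRingCat.ofHom (algebraMap A Γ(ξ.total, ⊤))) (CommRingCat.ofHom (algebraMap k B₀))
      (CommRingCat.ofHom c'.toRingHom) := hpo
  obtain ⟨hc, hsurj, hker⟩ := Groth.Agent.Lib.R2LeadTrivDef.surj_ker_of_isPushout e c' hpo'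
  have hflat : α.hom.Flat := by
    rw [← Flat.SpecMap_iff, hα]
    infer_instance
  haveI : Module.Flat A Γ(ξ.total, ⊤) := hflat
  obtain ⟨n, hn⟩ : ∃ n : ℕ, (RingHom.ker e.toRingHom) ^ n = ⊥ := by
    have h2 : IsNilpotent (Ideal.jacobson (⊥ : Ideal A)) := IsArtinianRing.isNilpotent_jacobson_bot
    rw [IsLocalRing.jacobson_eq_maximalIdeal ⊥ bot_ne_top] at h2
    obtain ⟨n, hn⟩ := h2
    exact ⟨n, by rw [hkere, hn]; rfl⟩
  have hker' : RingHom.ker c'.toRingHom =
      (IsLocalRing.maximalIdeal A).map (algebraMap A Γ(ξ.total, ⊤)) := by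
    rw [hker, hkere]
  obtain ⟨σ, hσ⟩ := exists_section hT c' hsurj hker'
  have hbij := bijective_of_section e n hn c' hc hker σ hσ
  let θ : A ⊗[k] B₀ ≃ₐ[A] Γ(ξ.total, ⊤) := AlgEquiv.ofBijective _ hbij
  have hθ : ∀ a b, θ (a ⊗ₜ b) = algebraMap A Γ(ξ.total, ⊤) a * σ b := fun a b => by
    simp [θ, Algebra.ofId_apply]
  let r : (B₀ ⊗[k] A) ≃+* Γ(ξ.total, ⊤) :=
    (Algebra.TensorProduct.comm k B₀ A).toRingEquiv.trans θ.toRingEquiv
  let ι : CommRingCat.of (B₀ ⊗[k] A) ≅ Γ(ξ.total, ⊤) := r.toCommRingCatIso
  have hιR : CommRingCat.ofHom (Algebra.TensorProduct.includeRight.toRingHom :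
      A →+* B₀ ⊗[k] A) ≫ ι.hom = α := by
    ext a
    change θ (Algebra.TensorProduct.comm k B₀ A ((1 : B₀) ⊗ₜ[k] a)) = α.hom a
    rw [Algebra.TensorProduct.comm_tmul, hθ, map_one, mul_one]
    rfl
  have hιL : CommRingCat.ofHom (Algebra.TensorProduct.includeLeftRingHom :
      B₀ →+* B₀ ⊗[k] A) ≫ ι.hom ≫ cc = 𝟙 _ := by
    ext b
    change cc.hom (θ (Algebra.TensorProduct.comm k B₀ A (b ⊗ₜ[k] (1 : A)))) = b
    rw [Algebra.TensorProduct.comm_tmul, hθ, map_one, one_mul]
    exact hσ b
  let φ : ξ.total ≅ pullback (Spec.map (CommRingCat.ofHom (algebraMap k B₀)))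
      (Spec.map (CommRingCat.ofHom (algebraMap k A))) :=
    ψ' ≪≫ Scheme.Spec.mapIso ι.op ≪≫ (pullbackSpecIso k B₀ A).symm
  have hφ : φ.hom = ψ'.hom ≫ Spec.map ι.hom ≫ (pullbackSpecIso k B₀ A).inv := rfl
  have hφsnd : φ.hom ≫ pullback.snd _ _ = ξ.f := by
    rw [hφ, Category.assoc, Category.assoc, pullbackSpecIso_inv_snd, ← Spec.map_comp]
    refine Eq.trans (congrArg (fun t => ψ'.hom ≫ Spec.map t) hιR) ?_
    rw [hα, Iso.hom_inv_id_assoc]
  have hφfst : ξ.i ≫ φ.hom ≫ pullback.fst _ _ = 𝟙 _ := by
    rw [hφ, Category.assoc, Category.assoc, pullbackSpecIso_inv_fst, ← Category.assoc ξ.i,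
      ← hcc, ← Spec.map_comp, ← Spec.map_comp, Category.assoc, hιL]
    exact Spec.map_id _
  refine ⟨{ iso := φ, hom_f := hφsnd, i_hom := ?_ }⟩
  apply pullback.hom_ext
  · exact (Category.assoc _ _ _).trans
      (hφfst.trans (DefSch.baseChange_i_fst (DefSch.self _ _ hx) (ofBase A)).symm)
  · exact (Category.assoc _ _ _).trans ((congrArg (fun t => ξ.i ≫ t) hφsnd).trans
      (ξ.i_f.trans (DefSch.baseChange_i_f (DefSch.self _ _ hx) (ofBase A)).symm))

end Geom

end Groth.Agent.Lib.R2H7.RigidAffine
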