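/-
Deformations of an affine scheme `Spec B` over the dual numbers `k[ε]` correspond to
`k`-algebra extensions of `B` by `B` (R2H7, for S12293).
-/
import Mathlib
import Groth.Agent.Lib.R2H7RigidAffine
import Groth.Agent.Lib.R2H7DefSchNode

set_option autoImplicit false
universe u
open TensorProduct

namespace Groth.Agent.Lib.R2H7.DefDual

/-! ### Flatness over the dual numbers -/

section Flat

variable {R M : Type u} [CommRing R] [AddCommGroup M] [Module R M]

theorem exists_tmul_of_span_singleton (g : R) (x : (Ideal.span {g} : Ideal R) ⊗[R] M) :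
    ∃ m : M, x = (⟨g, Ideal.mem_span_singleton_self g⟩ : (Ideal.span {g} : Ideal R)) ⊗ₜ[R] m := by
  induction x using TensorProduct.induction_on with
  | zero => exact ⟨0, (TensorProduct.tmul_zero _ _).symm⟩
  | tmul i m =>
    obtain ⟨i, hi⟩ := i
    obtain ⟨d, rfl⟩ := Ideal.mem_span_singleton'.1 hi
    refine ⟨d • m, ?_⟩
    have h1 : (⟨d * g, hi⟩ : (Ideal.span {g} : Ideal R)) =
        d • (⟨g, Ideal.mem_span_singleton_self g⟩ : (Ideal.span {g} : Ideal R)) :=
      Subtype.ext (by simp [smul_eq_mul])
    rw [h1, TensorProduct.smul_tmul]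
  | add x y hx hy =>
    obtain ⟨m, rfl⟩ := hx
    obtain ⟨m', rfl⟩ := hy
    exact ⟨m + m', (TensorProduct.tmul_add _ _ _).symm⟩

theorem injective_lift_span_singleton (g : R)
    (h : ∀ m : M, g • m = 0 →
      (⟨g, Ideal.mem_span_singleton_self g⟩ : (Ideal.span {g} : Ideal R)) ⊗ₜ[R] m = 0) :
    Function.Injective (TensorProduct.lift
      ((LinearMap.lsmul R M).comp (Ideal.span {g} : Ideal R).subtype)) := by
  rw [injective_iff_map_eq_zero]
  intro x hx
  obtain ⟨m, rfl⟩ := exists_tmul_of_span_singleton g x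
  apply h
  simpa using hx

theorem flat_dualNumber {k : Type u} [Field k] {E : Type u} [CommRing E]
    [Algebra (DualNumber k) E]
    (h : ∀ y : E, algebraMap (DualNumber k) E DualNumber.eps * y = 0 →
      ∃ z, y = algebraMap (DualNumber k) E DualNumber.eps * z) :
    Module.Flat (DualNumber k) E := by
  rw [Module.Flat.iff_lift_lsmul_comp_subtype_injective]
  intro I _
  have key : ∃ g : DualNumber k, I = Ideal.span {g} ∧ (g = 0 ∨ g = DualNumber.eps ∨ g = 1) := by
    rcases DualNumber.ideal_trichotomy I with h | h | h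
    · exact ⟨0, by rw [h]; exact (Ideal.span_singleton_eq_bot.2 rfl).symm, Or.inl rfl⟩
    · exact ⟨_, h, Or.inr (Or.inl rfl)⟩
    · exact ⟨1, by rw [h]; exact Ideal.span_singleton_one.symm, Or.inr (Or.inr rfl)⟩
  obtain ⟨g, rfl, hg⟩ := key
  apply injective_lift_span_singleton
  intro m hm
  rcases hg with rfl | rfl | rfl
  · have h0 : (⟨0, Ideal.mem_span_singleton_self 0⟩ :
        (Ideal.span {(0 : DualNumber k)} : Ideal (DualNumber k))) = 0 := rfl
    rw [h0, TensorProduct.zero_tmul]
  · rw [Algebra.smul_def] at hm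
    obtain ⟨z, rfl⟩ := h m hm
    rw [← Algebra.smul_def]
    have h0 : (DualNumber.eps : DualNumber k) •
        (⟨DualNumber.eps, Ideal.mem_span_singleton_self _⟩ :
          (Ideal.span {(DualNumber.eps : DualNumber k)} : Ideal (DualNumber k))) = 0 :=
      Subtype.ext (by simp)
    have h1 := TensorProduct.smul_tmul (R := DualNumber k) (DualNumber.eps : DualNumber k)
      (⟨DualNumber.eps, Ideal.mem_span_singleton_self _⟩ :
          (Ideal.span {(DualNumber.eps : DualNumber k)} : Ideal (DualNumber k))) z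
    rw [← h1, h0, TensorProduct.zero_tmul]
  · rw [one_smul] at hm
    rw [hm, TensorProduct.tmul_zero]

theorem eps_mul_eq_zero {k : Type u} [Field k] (a : DualNumber k)
    (ha : (DualNumber.eps : DualNumber k) * a = 0) : ∃ b : DualNumber k, a = DualNumber.eps * b := by
  have h2 : TrivSqZeroExt.fst a = 0 := by
    have := congrArg TrivSqZeroExt.snd ha
    simpa using this
  refine ⟨TrivSqZeroExt.inl (TrivSqZeroExt.snd a), ?_⟩
  apply TrivSqZeroExt.ext
  · simp [h2]
  · simp

theorem colon_of_flat {k : Type u} [Field k] {E : Type u} [CommRing E]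
    [Algebra (DualNumber k) E] [Module.Flat (DualNumber k) E] (y : E)
    (hy : algebraMap (DualNumber k) E DualNumber.eps * y = 0) :
    ∃ z, y = algebraMap (DualNumber k) E DualNumber.eps * z := by
  have h0 : (DualNumber.eps : DualNumber k) • y ∈
      (⊥ : Ideal (DualNumber k)) • (⊤ : Submodule (DualNumber k) E) := by
    rw [Algebra.smul_def, hy]; exact Submodule.zero_mem _
  obtain ⟨n, a, ys, ha, rfl⟩ := RigidAffine.mem_colon_smul_top ⊥ DualNumber.eps y h0
  have ha' : ∀ j, ∃ b : DualNumber k, a j = DualNumber.eps * b := fun j =>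
    eps_mul_eq_zero (a j) (by simpa using ha j)
  choose b hb using ha'
  refine ⟨∑ j, algebraMap _ E (b j) * ys j, ?_⟩
  rw [Finset.mul_sum]
  refine Finset.sum_congr rfl fun j _ => ?_
  rw [hb j, Algebra.smul_def, map_mul, mul_assoc]

end Flat

/-! ### A pushout square from a kernel description -/

section Pushout

open CategoryTheory

theorem isPushout_of_ker {k A E B : Type u} [Field k] [CommRing A] [CommRing E] [CommRing B]
    (res : A →+* k) (hres : Function.Surjective res) (α : A →+* E) (c : E →+* B) (β : k →+* B)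
    (hw : c.comp α = β.comp res) (hsurj : Function.Surjective c)
    (hker : RingHom.ker c ≤ (RingHom.ker res).map α) :
    IsPushout (CommRingCat.ofHom α) (CommRingCat.ofHom res) (CommRingCat.ofHom c)
      (CommRingCat.ofHom β) := by
  refine DefSchNode.isPushout_of_univ α res c β hw ?_ ?_
  · intro Z _ a b hab
    have hk : RingHom.ker c ≤ RingHom.ker a := by
      refine hker.trans ?_
      rw [Ideal.map_le_iff_le_comap]
      intro t ht
      rw [Ideal.mem_comap, RingHom.mem_ker]
      have h1 := congrArg (fun f => f t) hab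
      simp only [RingHom.comp_apply] at h1
      rw [h1, (RingHom.mem_ker).1 ht, map_zero]
    refine ⟨RingHom.liftOfRightInverse c (Function.surjInv hsurj)
      (Function.rightInverse_surjInv hsurj) ⟨a, hk⟩, ?_, ?_⟩
    · exact RingHom.liftOfRightInverse_comp c _ _ ⟨a, hk⟩
    · ext κ
      obtain ⟨t, rfl⟩ := hres κ
      have h1 := congrArg (fun f => f t) hw
      have h2 := congrArg (fun f => f t) hab
      simp only [RingHom.comp_apply] at h1 h2 ⊢
      rw [← h1, RingHom.liftOfRightInverse_comp_apply]
      exact h2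
  · intro Z _ w w' h1 _
    ext b
    obtain ⟨y, rfl⟩ := hsurj b
    exact congrArg (fun f => f y) h1

end Pushout

/-! ### Deformations from ring data, and ring data from deformations -/

section Geom

open CategoryTheory CategoryTheory.Limits AlgebraicGeometry ArtFun ArtFun.Art

variable {k : Type u} [Field k] {B₀ : Type u} [CommRing B₀] [Algebra k B₀]

/-- The deformation of `Spec B₀` over `A` given by a flat `A`-algebra `E` with `E/m_A E = B₀`. -/
noncomputable def mkDef (A : Art k k) (E : Type u) [CommRing E] (α : A →+* E) (c : E →+* B₀)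
    (hflat : α.Flat) (hw : c.comp α = (algebraMap k B₀).comp A.res.toRingHom)
    (hsurj : Function.Surjective c)
    (hker : RingHom.ker c ≤ (RingHom.ker A.res.toRingHom).map α) :
    DefSch (Spec (CommRingCat.of B₀)) (Spec.map (CommRingCat.ofHom (algebraMap k B₀))) A where
  total := Spec (CommRingCat.of E)
  f := Spec.map (CommRingCat.ofHom α)
  flat := Flat.SpecMap_iff.2 hflat
  i := Spec.map (CommRingCat.ofHom c)
  isPullback := isPullback_SpecMap_of_isPushout _ _ _ _
    (isPushout_of_ker A.res.toRingHom A.res_surjective α c (algebraMap k B₀) hw hsurj hker)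

/-- Every deformation of an affine scheme over an Artinian local `k`-algebra comes from ring
data. -/
theorem exists_ringData (A : Art k k)
    (ξ : DefSch (Spec (CommRingCat.of B₀)) (Spec.map (CommRingCat.ofHom (algebraMap k B₀))) A) :
    ∃ (E : CommRingCat.{u}) (α : CommRingCat.of A ⟶ E) (c : E ⟶ CommRingCat.of B₀)
      (ψ : ξ.total ≅ Spec E),
      α.hom.Flat ∧ Function.Surjective c.hom ∧
      RingHom.ker c.hom = (RingHom.ker A.res.toRingHom).map α.hom ∧
      c.hom.comp α.hom = (algebraMap k B₀).comp A.res.toRingHom ∧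
      ψ.inv ≫ ξ.f = Spec.map α ∧ ξ.i ≫ ψ.hom = Spec.map c := by
  classical
  let e : A →ₐ[k] k := A.res
  have hsurje : Function.Surjective e.toRingHom := A.res_surjective
  have hkere : RingHom.ker e.toRingHom = IsLocalRing.maximalIdeal A := by
    haveI : (RingHom.ker e.toRingHom).IsMaximal := RingHom.ker_isMaximal_of_surjective _ hsurje
    exact IsLocalRing.eq_maximalIdeal inferInstance
  haveI hci : IsClosedImmersion (specRes A) :=
    IsClosedImmersion.spec_of_surjective _ hsurje
  haveI hsj : Surjective (specRes A) := by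
    constructor
    intro q
    have h2 : q.asIdeal = IsLocalRing.maximalIdeal A :=
      IsLocalRing.eq_maximalIdeal (IsArtinianRing.isMaximal_of_isPrime q.asIdeal)
    refine ⟨(⊥ : PrimeSpectrum k), ?_⟩
    apply PrimeSpectrum.ext
    change Ideal.comap e.toRingHom ⊥ = q.asIdeal
    rw [h2, ← hkere]
    rfl
  haveI : IsClosedImmersion ξ.i := MorphismProperty.of_isPullback ξ.isPullback.flip hci
  haveI : Surjective ξ.i := MorphismProperty.of_isPullback ξ.isPullback.flip hsj
  haveI : IsAffine ξ.total :=
    Groth.Agent.Lib.Helper22.ThickAffine.isAffine_of_thickening ξ.i (Surjective.surj)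
  let ψ' := ξ.total.isoSpec
  let α : CommRingCat.of A ⟶ Γ(ξ.total, ⊤) := Spec.preimage (ψ'.inv ≫ ξ.f)
  let cc : Γ(ξ.total, ⊤) ⟶ CommRingCat.of B₀ := Spec.preimage (ξ.i ≫ ψ'.hom)
  have hα : Spec.map α = ψ'.inv ≫ ξ.f := Spec.map_preimage _
  have hcc : Spec.map cc = ξ.i ≫ ψ'.hom := Spec.map_preimage _
  have hsq' : IsPullback (Spec.map cc) (Spec.map (CommRingCat.ofHom (algebraMap k B₀)))
      (Spec.map α) (Spec.map (CommRingCat.ofHom e.toRingHom)) := by
    rw [hcc, hα]
    exact IsPullback.of_iso ξ.isPullback (Iso.refl _) ψ' (Iso.refl _) (Iso.refl _) (by simp)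
      (by simp) (by simp) ((Category.comp_id _).trans (Category.id_comp _).symm)
  letI : Algebra A Γ(ξ.total, ⊤) := α.hom.toAlgebra
  letI : Algebra k Γ(ξ.total, ⊤) := (α.hom.comp (algebraMap k A)).toAlgebra
  haveI : IsScalarTower k A Γ(ξ.total, ⊤) := IsScalarTower.of_algebraMap_eq (fun _ => rfl)
  have hw : α ≫ cc = CommRingCat.ofHom e.toRingHom ≫ CommRingCat.ofHom (algebraMap k B₀) := by
    apply Spec.map_injective
    rw [Spec.map_comp, Spec.map_comp]
    exact hsq'.w
  have hpb : IsPullback cc.op (CommRingCat.ofHom (algebraMap k B₀)).op α.op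
      (CommRingCat.ofHom e.toRingHom).op :=
    IsPullback.of_map Scheme.Spec (by rw [← op_comp, ← op_comp, hw]) hsq'
  have hpo : IsPushout (CommRingCat.ofHom e.toRingHom) α
      (CommRingCat.ofHom (algebraMap k B₀)) cc := hpb.unop
  let c' : Γ(ξ.total, ⊤) →ₐ[k] B₀ :=
    { cc.hom with
      commutes' := fun κ => by
        have h1 := congrArg (fun f => f.hom (algebraMap k A κ)) hw
        have h2 : e (algebraMap k A κ) = κ := by
          rw [e.commutes]; rfl
        change cc.hom (α.hom (algebraMap k A κ)) = algebraMap k B₀ κ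
        refine Eq.trans h1 ?_
        change algebraMap k B₀ (e (algebraMap k A κ)) = algebraMap k B₀ κ
        rw [h2] }
  have hpo' : IsPushout (CommRingCat.ofHom e.toRingHom)
      (CommRingCat.ofHom (algebraMap A Γ(ξ.total, ⊤))) (CommRingCat.ofHom (algebraMap k B₀))
      (CommRingCat.ofHom c'.toRingHom) := hpo
  obtain ⟨hc, hsurj, hker⟩ := Groth.Agent.Lib.R2LeadTrivDef.surj_ker_of_isPushout e c' hpo'
  have hflat : α.hom.Flat := by
    rw [← Flat.SpecMap_iff, hα]
    infer_instance
  refine ⟨Γ(ξ.total, ⊤), α, cc, ψ', hflat, hsurj, hker, ?_, hα.symm, hcc.symm⟩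
  exact congrArg CommRingCat.Hom.hom hw

end Geom

/-! ### Extensions of `B` by `B` versus first-order deformations of `Spec B` -/

section ExtData

open CategoryTheory CategoryTheory.Limits AlgebraicGeometry ArtFun ArtFun.Art

variable {k : Type u} [Field k] {B : Type u} [CommRing B] [Algebra k B]

variable (k) in
/-- The augmentation of the dual numbers, as a ring map. -/
def resD : DualNumber k →+* k := (TrivSqZeroExt.fstHom k k k).toRingHom

theorem ker_res_dual : RingHom.ker (resD k) =
    Ideal.span {(DualNumber.eps : DualNumber k)} := by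
  apply le_antisymm
  · intro d hd
    have hd' : TrivSqZeroExt.fst d = 0 := (RingHom.mem_ker).1 hd
    rw [Ideal.mem_span_singleton']
    refine ⟨TrivSqZeroExt.inl (TrivSqZeroExt.snd d), ?_⟩
    apply TrivSqZeroExt.ext
    · simp [hd']
    · simp
  · rw [Ideal.span_le, Set.singleton_subset_iff]
    show TrivSqZeroExt.fst (DualNumber.eps : DualNumber k) = 0
    exact DualNumber.fst_eps

section OfExt

variable (X : Exal.Ext k B B)

theorem proj_incl (z : B) : X.proj (X.incl z) = 0 := (X.isExtension.exact _).2 ⟨z, rfl⟩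

theorem incl_proj (y : X.E) : X.incl (X.proj y) = y * X.incl 1 := by
  rw [X.isExtension.mul_incl, smul_eq_mul, mul_one]

theorem eps_sq : X.incl 1 * X.incl 1 = 0 := by
  rw [X.isExtension.mul_incl, proj_incl, zero_smul, map_zero]

theorem ker_proj (y : X.E) (hy : X.proj y = 0) : ∃ z, y = X.incl 1 * z := by
  obtain ⟨b, rfl⟩ := (X.isExtension.exact y).1 hy
  obtain ⟨y', rfl⟩ := X.isExtension.proj_surjective b
  exact ⟨y', by rw [incl_proj, mul_comm]⟩

theorem colon (y : X.E) (hy : X.incl 1 * y = 0) : ∃ z, y = X.incl 1 * z := by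
  apply ker_proj
  apply X.isExtension.incl_injective
  rw [incl_proj, mul_comm, hy, map_zero]

/-- The `k[ε]`-algebra structure on the middle ring of an extension of `B` by `B`. -/
noncomputable def alpha : DualNumber k →ₐ[k] X.E :=
  DualNumber.lift ⟨(Algebra.ofId k X.E, X.incl 1), eps_sq X, fun _ => Commute.all _ _⟩

theorem alpha_eps : alpha X DualNumber.eps = X.incl 1 := DualNumber.lift_apply_eps _

theorem alpha_flat : (alpha X).toRingHom.Flat := by
  letI : Algebra (DualNumber k) X.E := (alpha X).toRingHom.toAlgebra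
  show Module.Flat (DualNumber k) X.E
  apply flat_dualNumber
  intro y hy
  have h1 : algebraMap (DualNumber k) X.E DualNumber.eps = X.incl 1 := alpha_eps X
  rw [h1] at hy ⊢
  exact colon X y hy

theorem alpha_w : X.proj.toRingHom.comp (alpha X).toRingHom =
    (algebraMap k B).comp (resD k) := by
  have h1 : X.proj.comp (alpha X) = (Algebra.ofId k B).comp (TrivSqZeroExt.fstHom k k k) := by
    apply DualNumber.algHom_ext
    rw [AlgHom.comp_apply, alpha_eps, proj_incl, AlgHom.comp_apply]
    show (0 : B) = algebraMap k B (TrivSqZeroExt.fst (DualNumber.eps : DualNumber k))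
    rw [DualNumber.fst_eps, map_zero]
  exact RingHom.ext fun d => AlgHom.congr_fun h1 d

theorem alpha_ker : RingHom.ker X.proj.toRingHom ≤
    (RingHom.ker (resD k)).map (alpha X).toRingHom := by
  intro y hy
  obtain ⟨z, rfl⟩ := ker_proj X y ((RingHom.mem_ker).1 hy)
  rw [← alpha_eps]
  refine Ideal.mul_mem_right _ _ (Ideal.mem_map_of_mem _ ?_)
  rw [ker_res_dual]
  exact Ideal.mem_span_singleton_self _

/-- The first-order deformation of `Spec B` attached to an extension of `B` by `B`. -/
noncomputable def defOfExt :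
    DefSch (Spec (CommRingCat.of B)) (Spec.map (CommRingCat.ofHom (algebraMap k B)))
      (Art.dual k k) :=
  mkDef (Art.dual k k) X.E (alpha X).toRingHom X.proj.toRingHom (alpha_flat X) (alpha_w X)
    X.isExtension.proj_surjective (alpha_ker X)

end OfExt

section OfData

variable {E : Type u} [CommRing E] (α : DualNumber k →+* E) (c : E →+* B)

/-- Ring data of a first-order deformation of `Spec B`. -/
structure IsData : Prop where
  flat : α.Flat
  w : c.comp α = (algebraMap k B).comp (resD k)
  surj : Function.Surjective c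
  ker : RingHom.ker c = (RingHom.ker (resD k)).map α

variable {α c} (h : IsData α c)
include h

theorem IsData.c_alpha (d : DualNumber k) :
    c (α d) = algebraMap k B (TrivSqZeroExt.fst d) :=
  congrArg (fun f => f d) h.w

theorem IsData.c_eps : c (α DualNumber.eps) = 0 := by
  rw [h.c_alpha, DualNumber.fst_eps, map_zero]

theorem IsData.eps_sq : α DualNumber.eps * α DualNumber.eps = 0 := by
  rw [← map_mul, DualNumber.eps_mul_eps, map_zero]

theorem IsData.ker_c (y : E) (hy : c y = 0) : ∃ z, y = α DualNumber.eps * z := by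
  have h1 : y ∈ (RingHom.ker (resD k)).map α := by
    rw [← h.ker]; exact (RingHom.mem_ker).2 hy
  rw [ker_res_dual, Ideal.map_span, Set.image_singleton] at h1
  obtain ⟨z, rfl⟩ := Ideal.mem_span_singleton'.1 h1
  exact ⟨z, mul_comm _ _⟩

theorem IsData.colon (y : E) (hy : α DualNumber.eps * y = 0) :
    ∃ z, y = α DualNumber.eps * z := by
  letI : Algebra (DualNumber k) E := α.toAlgebra
  haveI : Module.Flat (DualNumber k) E := h.flat
  exact colon_of_flat (k := k) y hy

/-- The inclusion `B → E`, `c y ↦ ε y`. -/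
noncomputable def IsData.incl : B →+ E :=
  (c : E →+ B).liftOfRightInverse (Function.surjInv h.surj)
    (Function.rightInverse_surjInv h.surj)
    ⟨AddMonoidHom.mulLeft (α DualNumber.eps), fun y hy => by
      obtain ⟨z, rfl⟩ := h.ker_c y ((AddMonoidHom.mem_ker).1 hy)
      rw [AddMonoidHom.mem_ker]
      show α DualNumber.eps * (α DualNumber.eps * z) = 0
      rw [← mul_assoc, h.eps_sq, zero_mul]⟩

theorem IsData.incl_c (y : E) : h.incl (c y) = α DualNumber.eps * y :=
  AddMonoidHom.liftOfRightInverse_comp_apply _ _ _ _ y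

/-- The extension of `B` by `B` attached to ring data. -/
noncomputable def IsData.toExt : Exal.Ext k B B :=
  letI : Algebra k E := (α.comp (algebraMap k (DualNumber k))).toAlgebra
  { E := E
    proj :=
      { c with
        commutes' := fun κ => by
          show c (α (algebraMap k (DualNumber k) κ)) = algebraMap k B κ
          rw [h.c_alpha]
          rfl }
    incl := h.incl
    isExtension :=
      { proj_surjective := h.surj
        incl_injective := by
          rw [injective_iff_map_eq_zero]
          intro b hb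
          obtain ⟨y, rfl⟩ := h.surj b
          rw [h.incl_c] at hb
          obtain ⟨z, rfl⟩ := h.colon y hb
          rw [map_mul, h.c_eps, zero_mul]
        exact := fun x => by
          constructor
          · intro hx
            obtain ⟨z, rfl⟩ := h.ker_c x hx
            exact ⟨c z, h.incl_c z⟩
          · rintro ⟨b, rfl⟩
            obtain ⟨y, rfl⟩ := h.surj b
            show c (h.incl (c y)) = 0
            rw [h.incl_c, map_mul, h.c_eps, zero_mul]
        mul_incl := fun x z => by
          obtain ⟨y, rfl⟩ := h.surj z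
          show x * h.incl (c y) = h.incl (c x • c y)
          rw [smul_eq_mul, ← map_mul, h.incl_c, h.incl_c]
          ring } }

theorem IsData.toExt_incl_one : h.toExt.incl 1 = α DualNumber.eps := by
  show h.incl 1 = _
  rw [← map_one c, h.incl_c, mul_one]

theorem IsData.alpha_toExt : (alpha h.toExt).toRingHom = α := by
  letI : Algebra k E := (α.comp (algebraMap k (DualNumber k))).toAlgebra
  let α' : DualNumber k →ₐ[k] E := { α with commutes' := fun κ => rfl }
  have h1 : alpha h.toExt = α' := by
    apply DualNumber.algHom_ext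
    rw [alpha_eps]
    exact h.toExt_incl_one
  rw [h1]

end OfData

/-! ### The bijection -/

theorem iso_of_equiv {X Y : Exal.Ext k B B} (e : Exal.Ext.Equiv X Y) :
    Nonempty (DefSch.Iso (defOfExt X) (defOfExt Y)) := by
  have hα : ∀ d, e.toAlgEquiv (alpha X d) = alpha Y d := by
    have h1 : (e.toAlgEquiv : X.E →ₐ[k] Y.E).comp (alpha X) = alpha Y := by
      apply DualNumber.algHom_ext
      rw [AlgHom.comp_apply, alpha_eps, alpha_eps]
      exact e.apply_incl 1
    intro d
    exact AlgHom.congr_fun h1 d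
  let ι : CommRingCat.of X.E ≅ CommRingCat.of Y.E := e.toAlgEquiv.toRingEquiv.toCommRingCatIso
  refine ⟨{ iso := { hom := Spec.map ι.inv, inv := Spec.map ι.hom, hom_inv_id := ?_,
                     inv_hom_id := ?_ }, hom_f := ?_, i_hom := ?_ }⟩
  · show Spec.map ι.inv ≫ Spec.map ι.hom = 𝟙 (Spec (CommRingCat.of X.E))
    rw [← Spec.map_comp, ι.hom_inv_id, Spec.map_id]
  · show Spec.map ι.hom ≫ Spec.map ι.inv = 𝟙 (Spec (CommRingCat.of Y.E))
    rw [← Spec.map_comp, ι.inv_hom_id, Spec.map_id]
  · show Spec.map ι.inv ≫ Spec.map (CommRingCat.ofHom (alpha Y).toRingHom) =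
      Spec.map (CommRingCat.ofHom (alpha X).toRingHom)
    rw [← Spec.map_comp]
    congr 1
    refine CommRingCat.hom_ext (RingHom.ext fun d => ?_)
    show e.toAlgEquiv.symm (alpha Y d) = alpha X d
    rw [AlgEquiv.symm_apply_eq, hα]
  · show Spec.map (CommRingCat.ofHom X.proj.toRingHom) ≫ Spec.map ι.inv =
      Spec.map (CommRingCat.ofHom Y.proj.toRingHom)
    rw [← Spec.map_comp]
    congr 1
    refine CommRingCat.hom_ext (RingHom.ext fun y => ?_)
    show X.proj (e.toAlgEquiv.symm y) = Y.proj y
    rw [← e.proj_apply, AlgEquiv.apply_symm_apply]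

theorem equiv_of_iso {X Y : Exal.Ext k B B} (φ : DefSch.Iso (defOfExt X) (defOfExt Y)) :
    Nonempty (Exal.Ext.Equiv X Y) := by
  let θ : CommRingCat.of Y.E ⟶ CommRingCat.of X.E := Spec.preimage φ.iso.hom
  let θ' : CommRingCat.of X.E ⟶ CommRingCat.of Y.E := Spec.preimage φ.iso.inv
  have hθ : Spec.map θ = φ.iso.hom := Spec.map_preimage _
  have hθ' : Spec.map θ' = φ.iso.inv := Spec.map_preimage _
  have h1 : θ' ≫ θ = 𝟙 _ := by
    apply Spec.map_injective
    rw [Spec.map_comp, hθ, hθ', Spec.map_id]
    exact φ.iso.hom_inv_id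
  have h2 : θ ≫ θ' = 𝟙 _ := by
    apply Spec.map_injective
    rw [Spec.map_comp, hθ, hθ', Spec.map_id]
    exact φ.iso.inv_hom_id
  have h3 : CommRingCat.ofHom (alpha Y).toRingHom ≫ θ =
      CommRingCat.ofHom (alpha X).toRingHom := by
    apply Spec.map_injective
    rw [Spec.map_comp, hθ]
    exact φ.hom_f
  have h4 : θ ≫ CommRingCat.ofHom X.proj.toRingHom = CommRingCat.ofHom Y.proj.toRingHom := by
    apply Spec.map_injective
    rw [Spec.map_comp, hθ]
    exact φ.i_hom
  have e1 : ∀ x : X.E, θ.hom (θ'.hom x) = x := fun x => congrArg (fun f => f.hom x) h1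
  have e2 : ∀ y : Y.E, θ'.hom (θ.hom y) = y := fun y => congrArg (fun f => f.hom y) h2
  have e3 : ∀ d, θ.hom (alpha Y d) = alpha X d := fun d => congrArg (fun f => f.hom d) h3
  have e4 : ∀ y, X.proj (θ.hom y) = Y.proj y := fun y => congrArg (fun f => f.hom y) h4
  have e3' : ∀ d, θ'.hom (alpha X d) = alpha Y d := fun d => by rw [← e3, e2]
  let r : X.E ≃+* Y.E := RingEquiv.ofRingHom θ'.hom θ.hom (RingHom.ext e2) (RingHom.ext e1)
  have hr : ∀ x, r x = θ'.hom x := fun _ => rfl
  have hcomm : ∀ κ : k, r (algebraMap k X.E κ) = algebraMap k Y.E κ := by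
    intro κ
    have hx : algebraMap k X.E κ = alpha X (algebraMap k (DualNumber k) κ) :=
      ((alpha X).commutes κ).symm
    have hy : algebraMap k Y.E κ = alpha Y (algebraMap k (DualNumber k) κ) :=
      ((alpha Y).commutes κ).symm
    rw [hx, hy, hr]
    exact e3' _
  refine ⟨{ toAlgEquiv := AlgEquiv.ofRingEquiv (f := r) hcomm, proj_apply := ?_,
            apply_incl := ?_ }⟩
  · intro x
    show Y.proj (θ'.hom x) = X.proj x
    rw [← e4, e1]
  · intro z
    show θ'.hom (X.incl z) = Y.incl z
    obtain ⟨y, rfl⟩ := X.isExtension.proj_surjective z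
    rw [incl_proj, map_mul, ← alpha_eps X, e3', alpha_eps, ← incl_proj]
    congr 1
    rw [← e4, e1]

theorem exists_ext_iso
    (ξ : DefSch (Spec (CommRingCat.of B)) (Spec.map (CommRingCat.ofHom (algebraMap k B)))
      (Art.dual k k)) :
    ∃ X : Exal.Ext k B B, Nonempty (DefSch.Iso (defOfExt X) ξ) := by
  obtain ⟨E, α, c, ψ, hflat, hsurj, hker, hw, hf, hi⟩ := exists_ringData (Art.dual k k) ξ
  have hD : IsData (k := k) (B := B) (E := E) α.hom c.hom := ⟨hflat, hw, hsurj, hker⟩
  have hα : (alpha hD.toExt).toRingHom = α.hom := hD.alpha_toExt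
  refine ⟨hD.toExt, ⟨{ iso := ψ.symm, hom_f := ?_, i_hom := ?_ }⟩⟩
  · show ψ.inv ≫ ξ.f = Spec.map (CommRingCat.ofHom (alpha hD.toExt).toRingHom)
    rw [hα]
    exact hf
  · show Spec.map c ≫ ψ.inv = ξ.i
    rw [← hi, Category.assoc, Iso.hom_inv_id, Category.comp_id]

/-- First-order deformations of `Spec B` are classified by `Exalcom k B B`. -/
theorem nonempty_equiv_exalcom (k B : Type u) [Field k] [CommRing B] [Algebra k B] :
    Nonempty ((ArtFun.defFunctor (Λ := k) (Spec (CommRingCat.of B))
      (Spec.map (CommRingCat.ofHom (algebraMap k B)))).obj (ArtFun.Art.dual k k) ≃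
        Exal.Exalcom k B B) := by
  let S := DefSch.setoid (Λ := k) (Spec (CommRingCat.of B))
    (Spec.map (CommRingCat.ofHom (algebraMap k B))) (Art.dual k k)
  let Ψ : Exal.Exalcom k B B → Quotient S :=
    Quotient.map' (s₁ := Exal.Ext.setoid k B B) (s₂ := S) defOfExt
      (fun _ _ ⟨e⟩ => iso_of_equiv e)
  have hinj : Function.Injective Ψ := by
    intro a b hab
    obtain ⟨X, rfl⟩ := Quotient.exists_rep a
    obtain ⟨Y, rfl⟩ := Quotient.exists_rep b
    have hab' : Quotient.mk S (defOfExt X) = Quotient.mk S (defOfExt Y) := hab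
    obtain ⟨φ⟩ := Quotient.exact hab'
    exact Quotient.sound (equiv_of_iso φ)
  have hsurj : Function.Surjective Ψ := by
    intro q
    obtain ⟨ξ, rfl⟩ := Quotient.exists_rep q
    obtain ⟨X, ⟨φ⟩⟩ := exists_ext_iso ξ
    exact ⟨Quotient.mk _ X, Quotient.sound ⟨φ⟩⟩
  exact ⟨(Equiv.ofBijective Ψ ⟨hinj, hsurj⟩).symm⟩

end ExtData

end Groth.Agent.Lib.R2H7.DefDual
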