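/-
Lifts of a flat deformation `E` of `B₀` over `C` along a semismall extension `C' → C`:
ring-level theory, part A (the kernel module `B₀ ⊗ J`, morphisms of lifts are isomorphisms).
(R2H7, for S12294.)
-/
import Mathlib
import Groth.Prelude.Def_Exal

set_option autoImplicit false
universe u
open TensorProduct

namespace Groth.Agent.Lib.R2H7.DefLift

variable {k : Type u} [Field k] {B₀ : Type u} [CommRing B₀] [Algebra k B₀]
  {C' C : Type u} [CommRing C'] [CommRing C] [Algebra k C'] [Algebra k C]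
  {E : Type u} [CommRing E]

/-- Hypotheses on the base deformation `E` of `B₀` over `C` and the extension `p : C' → C`. -/
structure IsBase (res : C →ₐ[k] k) (p : C' →ₐ[k] C) (α : C →+* E) (c : E →+* B₀) : Prop where
  p_surj : Function.Surjective p
  sq : ∀ t j : C', res (p t) = 0 → p j = 0 → t * j = 0
  flat : α.Flat
  c_surj : Function.Surjective c
  c_ker : RingHom.ker c = (RingHom.ker res).map α
  c_alpha : ∀ s : C, c (α s) = algebraMap k B₀ (res s)

/-- A lift of the deformation `E` over `C` to `C'`. -/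
structure Lift (p : C' →ₐ[k] C) (α : C →+* E) : Type (u + 1) where
  E' : Type u
  [ring : CommRing E']
  a : C' →+* E'
  π : E' →+* E
  flat : a.Flat
  surj : Function.Surjective π
  comm : ∀ t, π (a t) = α (p t)
  ker : RingHom.ker π = (RingHom.ker p).map a

attribute [instance] Lift.ring

variable {res : C →ₐ[k] k} {p : C' →ₐ[k] C} {α : C →+* E} {c : E →+* B₀}

theorem res_p_algebraMap (res : C →ₐ[k] k) (p : C' →ₐ[k] C) (κ : k) :
    res (p (algebraMap k C' κ)) = κ := by
  rw [p.commutes, res.commutes]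
  rfl

theorem IsBase.mul_ker (hB : IsBase res p α c) (t j : C') (hj : p j = 0) :
    t * j = algebraMap k C' (res (p t)) * j := by
  have h1 : res (p (t - algebraMap k C' (res (p t)))) = 0 := by
    rw [map_sub, map_sub, res_p_algebraMap, sub_self]
  have h2 := hB.sq _ j h1 hj
  rw [sub_mul, sub_eq_zero] at h2
  exact h2

/-- The reduction `E' → B₀`. -/
def Lift.q (L : Lift p α) (c : E →+* B₀) : L.E' →+* B₀ := c.comp L.π

theorem Lift.q_apply (L : Lift p α) (c : E →+* B₀) (y : L.E') : L.q c y = c (L.π y) := rfl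

section WithBase

variable (hB : IsBase res p α c) (L : Lift p α)
include hB

theorem Lift.q_surj : Function.Surjective (L.q c) := hB.c_surj.comp L.surj

theorem Lift.q_a (t : C') : L.q c (L.a t) = algebraMap k B₀ (res (p t)) := by
  rw [Lift.q_apply, L.comm, hB.c_alpha]

theorem Lift.exists_mem_map (e : E) (he : e ∈ (RingHom.ker res).map α) :
    ∃ z ∈ (RingHom.ker (res.comp p)).map L.a, L.π z = e := by
  unfold Ideal.map at he
  induction he using Submodule.span_induction with
  | mem r hr =>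
    obtain ⟨s, hs, rfl⟩ := hr
    obtain ⟨t, rfl⟩ := hB.p_surj s
    refine ⟨L.a t, Ideal.mem_map_of_mem _ ?_, L.comm t⟩
    exact (RingHom.mem_ker).2 ((RingHom.mem_ker).1 hs)
  | zero => exact ⟨0, Ideal.zero_mem _, map_zero _⟩
  | add x y _ _ hx hy =>
    obtain ⟨z, hz, rfl⟩ := hx
    obtain ⟨z', hz', rfl⟩ := hy
    exact ⟨z + z', Ideal.add_mem _ hz hz', map_add _ _ _⟩
  | smul e' x _ hx =>
    obtain ⟨z, hz, rfl⟩ := hx
    obtain ⟨y', rfl⟩ := L.surj e'
    exact ⟨y' * z, Ideal.mul_mem_left _ _ hz, by rw [map_mul, smul_eq_mul]⟩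

theorem Lift.ker_q : RingHom.ker (L.q c) = (RingHom.ker (res.comp p)).map L.a := by
  apply le_antisymm
  · intro y hy
    have h1 : L.π y ∈ RingHom.ker c := (RingHom.mem_ker).2 ((RingHom.mem_ker).1 hy)
    rw [hB.c_ker] at h1
    obtain ⟨z, hz, hzy⟩ := L.exists_mem_map hB _ h1
    have h3 : y - z ∈ RingHom.ker L.π := by rw [RingHom.mem_ker, map_sub, hzy, sub_self]
    rw [L.ker] at h3
    have h4 : (RingHom.ker p).map L.a ≤ (RingHom.ker (res.comp p)).map L.a :=
      Ideal.map_mono (fun j hj => by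
        rw [RingHom.mem_ker] at hj ⊢
        rw [AlgHom.comp_apply, hj, map_zero])
    have h5 := Ideal.add_mem _ (h4 h3) hz
    rwa [sub_add_cancel] at h5
  · rw [Ideal.map_le_iff_le_comap]
    intro t ht
    rw [Ideal.mem_comap, RingHom.mem_ker, L.q_a hB]
    have h1 : res (p t) = 0 := (RingHom.mem_ker).1 ht
    rw [h1, map_zero]

theorem Lift.mem_ker_q_of_mem {t : C'} (ht : res (p t) = 0) (y : L.E') :
    L.q c (L.a t * y) = 0 := by
  rw [map_mul, L.q_a hB, ht, map_zero, zero_mul]

theorem Lift.a_mul_eq_zero (j : C') (hj : p j = 0) (y : L.E') (hy : L.q c y = 0) :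
    L.a j * y = 0 := by
  have key : ∀ y, y ∈ (RingHom.ker (res.comp p)).map L.a → L.a j * y = 0 := by
    intro y hy'
    unfold Ideal.map at hy'
    induction hy' using Submodule.span_induction with
    | mem r hr =>
      obtain ⟨t, ht, rfl⟩ := hr
      have h1 : res (p t) = 0 := (RingHom.mem_ker).1 ht
      rw [← map_mul, mul_comm, hB.sq t j h1 hj, map_zero]
    | zero => exact mul_zero _
    | add x y _ _ hx hy => rw [mul_add, hx, hy, add_zero]
    | smul e x _ hx => rw [smul_eq_mul, mul_left_comm, hx, mul_zero]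
  apply key
  rw [← L.ker_q hB]
  exact (RingHom.mem_ker).2 hy

/-- For `j ∈ J`, the map `B₀ → E'`, `q y ↦ a j * y`. -/
noncomputable def Lift.muAux (j : RingHom.ker p) : B₀ →+ L.E' :=
  ((L.q c : L.E' →+* B₀) : L.E' →+ B₀).liftOfRightInverse (Function.surjInv (L.q_surj hB))
    (Function.rightInverse_surjInv (L.q_surj hB))
    ⟨AddMonoidHom.mulLeft (L.a j), fun y hy => by
      rw [AddMonoidHom.mem_ker] at hy ⊢
      exact L.a_mul_eq_zero hB j ((RingHom.mem_ker).1 j.2) y hy⟩

theorem Lift.muAux_apply (j : RingHom.ker p) (y : L.E') :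
    L.muAux hB j (L.q c y) = L.a j * y :=
  AddMonoidHom.liftOfRightInverse_comp_apply _ _ _ _ y

/-- The biadditive map `J → B₀ → E'`. -/
noncomputable def Lift.muBi : RingHom.ker p →+ B₀ →+ L.E' :=
  AddMonoidHom.mk' (fun j => L.muAux hB j) (fun j j' => by
    ext b
    obtain ⟨y, rfl⟩ := L.q_surj hB b
    rw [AddMonoidHom.add_apply, L.muAux_apply, L.muAux_apply, L.muAux_apply]
    show L.a ((j + j' : RingHom.ker p) : C') * y = _
    rw [Submodule.coe_add, map_add, add_mul])

/-- The canonical map `B₀ ⊗ J → E'`, `q y ⊗ j ↦ a j * y`. -/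
noncomputable def Lift.mu : B₀ ⊗[k] RingHom.ker p →+ L.E' :=
  TensorProduct.liftAddHom (L.muBi hB).flip (fun κ b j => by
    obtain ⟨y, rfl⟩ := L.q_surj hB b
    show L.muAux hB j (κ • L.q c y) = L.muAux hB (κ • j) (L.q c y)
    have h1 : κ • L.q c y = L.q c (L.a (algebraMap k C' κ) * y) := by
      rw [map_mul, L.q_a hB, Algebra.smul_def, res_p_algebraMap]
    rw [h1, L.muAux_apply, L.muAux_apply]
    show L.a j * (L.a (algebraMap k C' κ) * y) = L.a ((κ • j : RingHom.ker p) : C') * y
    rw [Submodule.coe_smul_of_tower, Algebra.smul_def, map_mul]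
    ring)

theorem Lift.mu_tmul (y : L.E') (j : RingHom.ker p) :
    L.mu hB (L.q c y ⊗ₜ j) = L.a j * y :=
  L.muAux_apply hB j y

theorem Lift.pi_mu (m : B₀ ⊗[k] RingHom.ker p) : L.π (L.mu hB m) = 0 := by
  induction m using TensorProduct.induction_on with
  | zero => rw [map_zero, map_zero]
  | tmul b j =>
    obtain ⟨y, rfl⟩ := L.q_surj hB b
    rw [L.mu_tmul, map_mul, L.comm, (RingHom.mem_ker).1 j.2, map_zero, zero_mul]
  | add x y hx hy => rw [map_add, map_add, hx, hy, add_zero]

theorem Lift.q_mu (m : B₀ ⊗[k] RingHom.ker p) : L.q c (L.mu hB m) = 0 := by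
  rw [Lift.q_apply, L.pi_mu hB, map_zero]

theorem Lift.mul_mu (y : L.E') (m : B₀ ⊗[k] RingHom.ker p) :
    y * L.mu hB m = L.mu hB (L.q c y • m) := by
  induction m using TensorProduct.induction_on with
  | zero => rw [map_zero, mul_zero, smul_zero, map_zero]
  | tmul b j =>
    obtain ⟨y', rfl⟩ := L.q_surj hB b
    rw [TensorProduct.smul_tmul', smul_eq_mul, ← map_mul, L.mu_tmul, L.mu_tmul]
    ring
  | add x x' hx hx' => rw [map_add, mul_add, hx, hx', smul_add, map_add]

theorem Lift.exists_mu_of_pi_eq_zero (y : L.E') (hy : L.π y = 0) : ∃ m, L.mu hB m = y := by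
  have key : ∀ y, y ∈ (RingHom.ker p).map L.a → ∃ m, L.mu hB m = y := by
    intro y hy'
    unfold Ideal.map at hy'
    induction hy' using Submodule.span_induction with
    | mem r hr =>
      obtain ⟨j, hj, rfl⟩ := hr
      refine ⟨(1 : B₀) ⊗ₜ ⟨j, hj⟩, ?_⟩
      have h1 := L.mu_tmul hB 1 ⟨j, hj⟩
      rw [map_one] at h1
      rw [h1, mul_one]
    | zero => exact ⟨0, map_zero _⟩
    | add x x' _ _ hx hx' =>
      obtain ⟨m, rfl⟩ := hx
      obtain ⟨m', rfl⟩ := hx'
      exact ⟨m + m', map_add _ _ _⟩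
    | smul e x _ hx =>
      obtain ⟨m, rfl⟩ := hx
      exact ⟨L.q c e • m, by rw [smul_eq_mul, L.mul_mu]⟩
  apply key
  rw [← L.ker]
  exact (RingHom.mem_ker).2 hy

theorem Lift.mu_injective : Function.Injective (L.mu hB) := by
  classical
  rw [injective_iff_map_eq_zero]
  intro m hm
  let bs := Module.Free.chooseBasis k (RingHom.ker p)
  obtain ⟨f, rfl⟩ := TensorProduct.eq_repr_basis_right bs m
  choose y hy using fun i => L.q_surj hB (f i)
  have h1 : ∑ i ∈ f.support, L.a (bs i : C') * y i = 0 := by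
    rw [← hm, Finsupp.sum, map_sum]
    refine Finset.sum_congr rfl fun i _ => ?_
    rw [← hy i, L.mu_tmul]
  letI : Algebra C' L.E' := L.a.toAlgebra
  haveI : Module.Flat C' L.E' := L.flat
  have h2 : ∑ i : f.support, ((bs i : RingHom.ker p) : C') • y i = 0 := by
    rw [← h1, ← Finset.sum_coe_sort f.support (fun i => L.a (bs i : C') * y i)]
    rfl
  obtain ⟨n, A, z, hA, hz⟩ := Module.Flat.isTrivialRelation_of_sum_smul_eq_zero (R := C')
    (M := L.E') (f := fun i : f.support => ((bs i : RingHom.ker p) : C'))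
    (x := fun i : f.support => y i) h2
  have hli : LinearIndependent k (fun i : f.support => bs i) :=
    bs.linearIndependent.comp Subtype.val Subtype.val_injective
  have h3 : ∀ (l : Fin n) (i : f.support), res (p (A i l)) = 0 := by
    intro l
    refine Fintype.linearIndependent_iff.1 hli (fun i => res (p (A i l))) ?_
    apply Subtype.ext
    rw [Submodule.coe_sum, Submodule.coe_zero, ← hz l]
    refine Finset.sum_congr rfl fun i _ => ?_
    rw [Submodule.coe_smul_of_tower, Algebra.smul_def, mul_comm (bs i : C')]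
    exact (hB.mul_ker (A i l) (bs i : C') ((RingHom.mem_ker).1 (bs i).2)).symm
  have h4 : ∀ i : f.support, f i = 0 := by
    intro i
    have hAi : y i = ∑ j, A i j • z j := hA i
    rw [← hy i, hAi, map_sum]
    refine Finset.sum_eq_zero fun l _ => ?_
    rw [Algebra.smul_def]
    exact L.mem_ker_q_of_mem hB (h3 l i) (z l)
  have h5 : f = 0 := by
    rw [← Finsupp.support_eq_empty]
    exact Finset.eq_empty_of_forall_notMem fun i hi =>
      (Finsupp.mem_support_iff.1 hi) (h4 ⟨i, hi⟩)
  rw [h5, Finsupp.sum_zero_index]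

end WithBase

/-! ### Morphisms of lifts -/

/-- A morphism of lifts. -/
structure LiftHom (L L' : Lift p α) where
  θ : L.E' →+* L'.E'
  comp_a : ∀ t, θ (L.a t) = L'.a t
  π_comp : ∀ y, L'.π (θ y) = L.π y

section Hom

variable (hB : IsBase res p α c) {L L' L'' : Lift p α}
include hB

theorem LiftHom.q_comp (h : LiftHom L L') (y : L.E') : L'.q c (h.θ y) = L.q c y := by
  rw [Lift.q_apply, h.π_comp]
  rfl

theorem LiftHom.θ_mu (h : LiftHom L L') (m : B₀ ⊗[k] RingHom.ker p) :
    h.θ (L.mu hB m) = L'.mu hB m := by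
  induction m using TensorProduct.induction_on with
  | zero => rw [map_zero, map_zero, map_zero]
  | tmul b j =>
    obtain ⟨y, rfl⟩ := L.q_surj hB b
    rw [L.mu_tmul, map_mul, h.comp_a, ← h.q_comp hB, L'.mu_tmul]
  | add x x' hx hx' => rw [map_add, map_add, map_add, hx, hx']

theorem LiftHom.bijective (h : LiftHom L L') : Function.Bijective h.θ := by
  constructor
  · rw [injective_iff_map_eq_zero]
    intro y hy
    have h1 : L.π y = 0 := by rw [← h.π_comp, hy, map_zero]
    obtain ⟨m, rfl⟩ := L.exists_mu_of_pi_eq_zero hB y h1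
    rw [h.θ_mu hB] at hy
    have h2 : m = 0 := L'.mu_injective hB (hy.trans (map_zero _).symm)
    rw [h2, map_zero]
  · intro y'
    obtain ⟨y, hy⟩ := L.surj (L'.π y')
    have h1 : L'.π (y' - h.θ y) = 0 := by rw [map_sub, h.π_comp, hy, sub_self]
    obtain ⟨m, hm⟩ := L'.exists_mu_of_pi_eq_zero hB _ h1
    refine ⟨y + L.mu hB m, ?_⟩
    rw [map_add, h.θ_mu hB, hm]
    ring

/-- The inverse of a morphism of lifts. -/
noncomputable def LiftHom.symm (h : LiftHom L L') : LiftHom L' L where
  θ := ((RingEquiv.ofBijective h.θ (h.bijective hB)).symm : L'.E' →+* L.E')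
  comp_a t := by
    show (RingEquiv.ofBijective h.θ (h.bijective hB)).symm (L'.a t) = L.a t
    rw [RingEquiv.symm_apply_eq]
    exact (h.comp_a t).symm
  π_comp y' := by
    obtain ⟨y, rfl⟩ := (h.bijective hB).2 y'
    have h1 : (RingEquiv.ofBijective h.θ (h.bijective hB)).symm (h.θ y) = y :=
      (RingEquiv.ofBijective h.θ (h.bijective hB)).symm_apply_apply y
    show L.π ((RingEquiv.ofBijective h.θ (h.bijective hB)).symm (h.θ y)) = L'.π (h.θ y)
    rw [h1, h.π_comp]

theorem LiftHom.symm_θ_θ (h : LiftHom L L') (y : L.E') : (h.symm hB).θ (h.θ y) = y :=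
  (RingEquiv.ofBijective h.θ (h.bijective hB)).symm_apply_apply y

theorem LiftHom.θ_symm_θ (h : LiftHom L L') (y : L'.E') : h.θ ((h.symm hB).θ y) = y :=
  (RingEquiv.ofBijective h.θ (h.bijective hB)).apply_symm_apply y

end Hom

/-- The identity morphism. -/
def LiftHom.id (L : Lift p α) : LiftHom L L := ⟨RingHom.id _, fun _ => rfl, fun _ => rfl⟩

/-- Composition of morphisms of lifts. -/
def LiftHom.comp {L L' L'' : Lift p α} (g : LiftHom L' L'') (f : LiftHom L L') : LiftHom L L'' :=
  ⟨g.θ.comp f.θ, fun t => by rw [RingHom.comp_apply, f.comp_a, g.comp_a],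
    fun y => by rw [RingHom.comp_apply, g.π_comp, f.π_comp]⟩

/-- Isomorphism classes of lifts. -/
def liftSetoid (hB : IsBase res p α c) : Setoid (Lift p α) where
  r L L' := Nonempty (LiftHom L L')
  iseqv := ⟨fun L => ⟨LiftHom.id L⟩, fun ⟨h⟩ => ⟨h.symm hB⟩, fun ⟨f⟩ ⟨g⟩ => ⟨g.comp f⟩⟩

end Groth.Agent.Lib.R2H7.DefLift
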