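/-
Lifts of a deformation along a semismall extension, part B: the sum of a lift with a
`k`-algebra extension of `B₀` by `B₀ ⊗ J`.  (R2H7, for S12294.)
-/
import Mathlib
import Groth.Agent.Lib.R2H7DefLiftA

set_option autoImplicit false
universe u
open TensorProduct

namespace Groth.Agent.Lib.R2H7.DefLift

noncomputable section

variable {k : Type u} [Field k] {B₀ : Type u} [CommRing B₀] [Algebra k B₀]
  {C' C : Type u} [CommRing C'] [CommRing C] [Algebra k C'] [Algebra k C]
  {E : Type u} [CommRing E]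
  {res : C →ₐ[k] k} {p : C' →ₐ[k] C} {α : C →+* E} {c : E →+* B₀}

section Sum

variable (hB : IsBase res p α c) (L : Lift p α) (X : Exal.Ext k B₀ (B₀ ⊗[k] RingHom.ker p))

/-- The fibre product `E' ×_{B₀} X.E`. -/
def sumF (c : E →+* B₀) : Subring (L.E' × X.E) :=
  ((L.q c).comp (RingHom.fst L.E' X.E)).eqLocus (X.proj.toRingHom.comp (RingHom.snd L.E' X.E))

variable {L X} in
/-- Constructor for elements of the fibre product. -/
def mkF (c : E →+* B₀) (y : L.E') (x : X.E) (h : L.q c y = X.proj x) : sumF L X c := ⟨(y, x), h⟩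

theorem sumF_cond (f : sumF L X c) : L.q c (f : L.E' × X.E).1 = X.proj (f : L.E' × X.E).2 := f.2

theorem sumF_ext {f g : sumF L X c} (h1 : (f : L.E' × X.E).1 = (g : L.E' × X.E).1)
    (h2 : (f : L.E' × X.E).2 = (g : L.E' × X.E).2) : f = g :=
  Subtype.ext (Prod.ext h1 h2)

include hB in
theorem proj_incl (m : B₀ ⊗[k] RingHom.ker p) : X.proj (X.incl m) = 0 :=
  (X.isExtension.exact _).2 ⟨m, rfl⟩

/-- The antidiagonal copy of `B₀ ⊗ J` in the fibre product. -/
def sumN : Ideal (sumF L X c) where
  carrier := {f | ∃ m, (f : L.E' × X.E) = (L.mu hB m, - X.incl m)}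
  add_mem' := by
    rintro f g ⟨m, hm⟩ ⟨m', hm'⟩
    refine ⟨m + m', ?_⟩
    rw [Subring.coe_add, hm, hm', map_add, map_add, neg_add]
    rfl
  zero_mem' := ⟨0, by rw [map_zero, map_zero, neg_zero]; rfl⟩
  smul_mem' := by
    rintro g f ⟨m, hm⟩
    refine ⟨L.q c (g : L.E' × X.E).1 • m, ?_⟩
    rw [smul_eq_mul, Subring.coe_mul, hm]
    apply Prod.ext
    · show (g : L.E' × X.E).1 * L.mu hB m = _
      rw [L.mul_mu hB]
    · show (g : L.E' × X.E).2 * (- X.incl m) = - X.incl _
      rw [mul_neg, X.isExtension.mul_incl, sumF_cond L X g]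

theorem mem_sumN (f : sumF L X c) :
    f ∈ sumN hB L X ↔ ∃ m, (f : L.E' × X.E) = (L.mu hB m, - X.incl m) := Iff.rfl

/-- The middle ring of the sum. -/
abbrev SumE : Type u := sumF L X c ⧸ sumN hB L X

/-- The quotient map onto the sum. -/
def sumMk : sumF L X c →+* SumE hB L X := Ideal.Quotient.mk (sumN hB L X)

theorem sumMk_surjective : Function.Surjective (sumMk hB L X) := Ideal.Quotient.mk_surjective

theorem sumMk_eq_zero_iff (f : sumF L X c) :
    sumMk hB L X f = 0 ↔ ∃ m, (f : L.E' × X.E) = (L.mu hB m, - X.incl m) :=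
  Ideal.Quotient.eq_zero_iff_mem

theorem sumMk_eq_iff (f g : sumF L X c) :
    sumMk hB L X f = sumMk hB L X g ↔
      ∃ m, (f : L.E' × X.E).1 = (g : L.E' × X.E).1 + L.mu hB m ∧
        (f : L.E' × X.E).2 = (g : L.E' × X.E).2 - X.incl m := by
  rw [← sub_eq_zero, ← map_sub, sumMk_eq_zero_iff]
  constructor
  · rintro ⟨m, hm⟩
    have h1 := congrArg Prod.fst hm
    have h2 := congrArg Prod.snd hm
    refine ⟨m, ?_, ?_⟩
    · have : (f : L.E' × X.E).1 - (g : L.E' × X.E).1 = L.mu hB m := h1
      rw [← this]; ring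
    · have : (f : L.E' × X.E).2 - (g : L.E' × X.E).2 = - X.incl m := h2
      rw [sub_eq_add_neg, ← this]; ring
  · rintro ⟨m, h1, h2⟩
    refine ⟨m, Prod.ext ?_ ?_⟩
    · show (f : L.E' × X.E).1 - (g : L.E' × X.E).1 = L.mu hB m
      rw [h1]; ring
    · show (f : L.E' × X.E).2 - (g : L.E' × X.E).2 = - X.incl m
      rw [h2]; ring

/-- The structure map of the sum, into the fibre product. -/
def sumA0 : C' →+* sumF L X c :=
  RingHom.codRestrict (L.a.prod ((algebraMap k X.E).comp (res.comp p).toRingHom)) (sumF L X c)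
    (fun t => by
      show L.q c (L.a t) = X.proj (algebraMap k X.E (res (p t)))
      rw [L.q_a hB, X.proj.commutes])

theorem sumA0_fst (t : C') : (sumA0 hB L X t : L.E' × X.E).1 = L.a t := rfl

theorem sumA0_snd (t : C') : (sumA0 hB L X t : L.E' × X.E).2 = algebraMap k X.E (res (p t)) := rfl

/-- The structure map of the sum. -/
def sumA : C' →+* SumE hB L X := (sumMk hB L X).comp (sumA0 hB L X)

/-- The projection of the sum onto `E`. -/
def sumPi : SumE hB L X →+* E :=
  Ideal.Quotient.lift (sumN hB L X) (L.π.comp ((RingHom.fst L.E' X.E).comp (sumF L X c).subtype))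
    (by
      rintro f ⟨m, hm⟩
      show L.π (f : L.E' × X.E).1 = 0
      rw [hm]
      exact L.pi_mu hB m)

theorem sumPi_mk (f : sumF L X c) : sumPi hB L X (sumMk hB L X f) = L.π (f : L.E' × X.E).1 := rfl

/-- The inclusion of `B₀ ⊗ J` into the sum. -/
def sumNu : B₀ ⊗[k] RingHom.ker p →+ SumE hB L X where
  toFun m := sumMk hB L X (mkF c (L.mu hB m) 0 (by rw [L.q_mu hB, map_zero]))
  map_zero' := by
    rw [← map_zero (sumMk hB L X)]
    exact congrArg (sumMk hB L X) (sumF_ext L X (map_zero _) rfl)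
  map_add' m m' := by
    rw [← map_add (sumMk hB L X)]
    exact congrArg (sumMk hB L X) (sumF_ext L X (map_add _ _ _) (add_zero _).symm)

theorem sumNu_eq (m : B₀ ⊗[k] RingHom.ker p) :
    sumNu hB L X m = sumMk hB L X (mkF c 0 (X.incl m) (by rw [map_zero, proj_incl hB])) := by
  show sumMk hB L X _ = _
  rw [sumMk_eq_iff]
  refine ⟨m, ?_, ?_⟩
  · show L.mu hB m = 0 + L.mu hB m
    rw [zero_add]
  · show (0 : X.E) = X.incl m - X.incl m
    rw [sub_self]

theorem sumNu_mem (m : B₀ ⊗[k] RingHom.ker p) :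
    sumNu hB L X m ∈ (RingHom.ker p).map (sumA hB L X) := by
  induction m using TensorProduct.induction_on with
  | zero => rw [map_zero]; exact Ideal.zero_mem _
  | tmul b j =>
    obtain ⟨y, rfl⟩ := L.q_surj hB b
    obtain ⟨x, hx⟩ := X.isExtension.proj_surjective (L.q c y)
    have h1 : sumNu hB L X (L.q c y ⊗ₜ j) = sumA hB L X j * sumMk hB L X (mkF c y x hx.symm) := by
      show sumMk hB L X _ = sumMk hB L X _ * sumMk hB L X _
      rw [← map_mul]
      congr 1
      apply sumF_ext
      · show L.mu hB (L.q c y ⊗ₜ j) = L.a j * y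
        exact L.mu_tmul hB y j
      · show (0 : X.E) = algebraMap k X.E (res (p j)) * x
        rw [(RingHom.mem_ker).1 j.2, map_zero, map_zero, zero_mul]
    rw [h1]
    exact Ideal.mul_mem_right _ _ (Ideal.mem_map_of_mem _ j.2)
  | add x x' hx hx' => rw [map_add]; exact Ideal.add_mem _ hx hx'

theorem sum_surj : Function.Surjective (sumPi hB L X) := by
  intro e
  obtain ⟨y, rfl⟩ := L.surj e
  obtain ⟨x, hx⟩ := X.isExtension.proj_surjective (L.q c y)
  exact ⟨sumMk hB L X (mkF c y x hx.symm), rfl⟩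

theorem sum_comm (t : C') : sumPi hB L X (sumA hB L X t) = α (p t) := L.comm t

theorem sum_ker : RingHom.ker (sumPi hB L X) = (RingHom.ker p).map (sumA hB L X) := by
  apply le_antisymm
  · intro s hs
    obtain ⟨f, rfl⟩ := sumMk_surjective hB L X s
    have h1 : L.π (f : L.E' × X.E).1 = 0 := (RingHom.mem_ker).1 hs
    obtain ⟨m, hm⟩ := L.exists_mu_of_pi_eq_zero hB _ h1
    have h2 : X.proj (f : L.E' × X.E).2 = 0 := by
      rw [← sumF_cond L X f, ← hm, L.q_mu hB]
    obtain ⟨m', hm'⟩ := (X.isExtension.exact _).1 h2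
    have h3 : sumMk hB L X f = sumNu hB L X (m + m') := by
      show sumMk hB L X f = sumMk hB L X _
      rw [sumMk_eq_iff]
      refine ⟨-m', ?_, ?_⟩
      · show (f : L.E' × X.E).1 = L.mu hB (m + m') + L.mu hB (-m')
        rw [← map_add, add_neg_cancel_right, hm]
      · show (f : L.E' × X.E).2 = 0 - X.incl (-m')
        rw [map_neg, sub_neg_eq_add, zero_add, hm']
    rw [h3]
    exact sumNu_mem hB L X _
  · rw [Ideal.map_le_iff_le_comap]
    intro j hj
    rw [Ideal.mem_comap, RingHom.mem_ker, sum_comm, (RingHom.mem_ker).1 hj, map_zero]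

theorem sum_flat : (sumA hB L X).Flat := by
  obtain ⟨σ, hσ⟩ := LinearMap.exists_rightInverse_of_surjective X.proj.toLinearMap
    (LinearMap.range_eq_top.2 X.isExtension.proj_surjective)
  have hσ' : ∀ b, X.proj (σ b) = b := fun b => LinearMap.congr_fun hσ b
  letI : Algebra C' L.E' := L.a.toAlgebra
  letI : Algebra C' (SumE hB L X) := (sumA hB L X).toAlgebra
  haveI : Module.Flat C' L.E' := L.flat
  let lam : L.E' →ₗ[C'] SumE hB L X :=
    { toFun := fun y => sumMk hB L X (mkF c y (σ (L.q c y)) (hσ' _).symm)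
      map_add' := fun y y' => by
        rw [← map_add (sumMk hB L X)]
        congr 1
        apply sumF_ext
        · rfl
        · show σ (L.q c (y + y')) = σ (L.q c y) + σ (L.q c y')
          rw [map_add, map_add]
      map_smul' := fun t y => by
        rw [RingHom.id_apply, Algebra.smul_def, Algebra.smul_def]
        show sumMk hB L X _ = sumMk hB L X (sumA0 hB L X t) * sumMk hB L X _
        rw [← map_mul (sumMk hB L X)]
        congr 1
        apply sumF_ext
        · rfl
        · show σ (L.q c (L.a t * y)) = algebraMap k X.E (res (p t)) * σ (L.q c y)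
          rw [map_mul, L.q_a hB, ← Algebra.smul_def, map_smul, Algebra.smul_def] }
  have hlam : ∀ y, lam y = sumMk hB L X (mkF c y (σ (L.q c y)) (hσ' _).symm) := fun _ => rfl
  have hbij : Function.Bijective lam := by
    constructor
    · rw [injective_iff_map_eq_zero]
      intro y hy
      rw [hlam, sumMk_eq_zero_iff] at hy
      obtain ⟨m, hm⟩ := hy
      have h1 : y = L.mu hB m := congrArg Prod.fst hm
      have h2 : σ (L.q c y) = - X.incl m := congrArg Prod.snd hm
      rw [h1, L.q_mu hB, map_zero] at h2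
      have h3 : m = 0 := by
        apply X.isExtension.incl_injective
        rw [map_zero, ← neg_eq_zero, ← h2]
      rw [h1, h3, map_zero]
    · intro s
      obtain ⟨f, rfl⟩ := sumMk_surjective hB L X s
      have h1 : X.proj ((f : L.E' × X.E).2 - σ (L.q c (f : L.E' × X.E).1)) = 0 := by
        rw [map_sub, hσ', sumF_cond L X f, sub_self]
      obtain ⟨m, hm⟩ := (X.isExtension.exact _).1 h1
      refine ⟨(f : L.E' × X.E).1 + L.mu hB m, ?_⟩
      rw [hlam, sumMk_eq_iff]
      refine ⟨m, rfl, ?_⟩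
      show σ (L.q c ((f : L.E' × X.E).1 + L.mu hB m)) = (f : L.E' × X.E).2 - X.incl m
      rw [map_add, L.q_mu hB, add_zero, hm]
      ring
  exact Module.Flat.of_linearEquiv (LinearEquiv.ofBijective lam hbij).symm

/-- The sum of a lift and an extension of `B₀` by `B₀ ⊗ J`. -/
noncomputable def sumLift : Lift p α where
  E' := SumE hB L X
  a := sumA hB L X
  π := sumPi hB L X
  flat := sum_flat hB L X
  surj := sum_surj hB L X
  comm := sum_comm hB L X
  ker := sum_ker hB L X

end Sum

section SumMap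

variable (hB : IsBase res p α c) (L : Lift p α) {X X' : Exal.Ext k B₀ (B₀ ⊗[k] RingHom.ker p)}

/-- Functoriality of the sum in the extension. -/
noncomputable def sumMap (e : X.Equiv X') : LiftHom (sumLift hB L X) (sumLift hB L X') where
  θ := Ideal.Quotient.lift (sumN hB L X)
    ((sumMk hB L X').comp
      (RingHom.codRestrict
        ((RingHom.prodMap (RingHom.id L.E') (e.toAlgEquiv : X.E →+* X'.E)).comp
          (sumF L X c).subtype) (sumF L X' c)
        (fun f => by
          show L.q c (f : L.E' × X.E).1 = X'.proj (e.toAlgEquiv (f : L.E' × X.E).2)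
          rw [e.proj_apply]
          exact sumF_cond L X f)))
    (by
      rintro f ⟨m, hm⟩
      show sumMk hB L X' _ = 0
      rw [sumMk_eq_zero_iff]
      refine ⟨m, ?_⟩
      show ((f : L.E' × X.E).1, e.toAlgEquiv (f : L.E' × X.E).2) = _
      rw [hm]
      show (L.mu hB m, e.toAlgEquiv (- X.incl m)) = _
      rw [map_neg, e.apply_incl])
  comp_a t := by
    show sumMk hB L X' _ = sumMk hB L X' _
    congr 1
    apply sumF_ext
    · rfl
    · show e.toAlgEquiv (algebraMap k X.E (res (p t))) = algebraMap k X'.E (res (p t))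
      exact e.toAlgEquiv.commutes _
  π_comp s := by
    obtain ⟨f, rfl⟩ := sumMk_surjective hB L X s
    rfl

end SumMap

end

end Groth.Agent.Lib.R2H7.DefLift
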