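/-
Lifts of a deformation along a semismall extension, part C: the difference of two lifts as a
`k`-algebra extension of `B₀` by `B₀ ⊗ J`, and the comparison `L₁ + (L₂ - L₁) → L₂`.
(R2H7, for S12294.)
-/
import Mathlib
import Groth.Agent.Lib.R2H7DefLiftB

set_option autoImplicit false
universe u
open TensorProduct

namespace Groth.Agent.Lib.R2H7.DefLift

noncomputable section

variable {k : Type u} [Field k] {B₀ : Type u} [CommRing B₀] [Algebra k B₀]
  {C' C : Type u} [CommRing C'] [CommRing C] [Algebra k C'] [Algebra k C]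
  {E : Type u} [CommRing E]
  {res : C →ₐ[k] k} {p : C' →ₐ[k] C} {α : C →+* E} {c : E →+* B₀}

/-- General version of `Lift.exists_mem_map`. -/
theorem exists_mem_map_of_surj (hp : Function.Surjective p) {R' : Type u} [CommRing R']
    (a : C' →+* R') (π : R' →+* E) (hsurj : Function.Surjective π)
    (hcomm : ∀ t, π (a t) = α (p t)) (e : E) (he : e ∈ (RingHom.ker res).map α) :
    ∃ z ∈ (RingHom.ker (res.comp p)).map a, π z = e := by
  unfold Ideal.map at he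
  induction he using Submodule.span_induction with
  | mem r hr =>
    obtain ⟨s, hs, rfl⟩ := hr
    obtain ⟨t, rfl⟩ := hp s
    refine ⟨a t, Ideal.mem_map_of_mem _ ?_, hcomm t⟩
    exact (RingHom.mem_ker).2 ((RingHom.mem_ker).1 hs)
  | zero => exact ⟨0, Ideal.zero_mem _, map_zero _⟩
  | add x y _ _ hx hy =>
    obtain ⟨z, hz, rfl⟩ := hx
    obtain ⟨z', hz', rfl⟩ := hy
    exact ⟨z + z', Ideal.add_mem _ hz hz', map_add _ _ _⟩
  | smul e' x _ hx =>
    obtain ⟨z, hz, rfl⟩ := hx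
    obtain ⟨y', rfl⟩ := hsurj e'
    exact ⟨y' * z, Ideal.mul_mem_left _ _ hz, by rw [map_mul, smul_eq_mul]⟩

section Diff

variable (hB : IsBase res p α c) (L₂ L₁ : Lift p α)

/-- The fibre product `E'₂ ×_E E'₁`. -/
def diffG : Subring (L₂.E' × L₁.E') :=
  (L₂.π.comp (RingHom.fst L₂.E' L₁.E')).eqLocus (L₁.π.comp (RingHom.snd L₂.E' L₁.E'))

variable {L₂ L₁} in
/-- Constructor for elements of the fibre product. -/
def mkG (y₂ : L₂.E') (y₁ : L₁.E') (h : L₂.π y₂ = L₁.π y₁) : diffG L₂ L₁ := ⟨(y₂, y₁), h⟩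

theorem diffG_cond (g : diffG L₂ L₁) :
    L₂.π (g : L₂.E' × L₁.E').1 = L₁.π (g : L₂.E' × L₁.E').2 := g.2

include hB in
theorem diffG_condq (g : diffG L₂ L₁) :
    L₂.q c (g : L₂.E' × L₁.E').1 = L₁.q c (g : L₂.E' × L₁.E').2 := by
  rw [Lift.q_apply, Lift.q_apply, diffG_cond]

theorem diffG_ext {f g : diffG L₂ L₁} (h1 : (f : L₂.E' × L₁.E').1 = (g : L₂.E' × L₁.E').1)
    (h2 : (f : L₂.E' × L₁.E').2 = (g : L₂.E' × L₁.E').2) : f = g :=
  Subtype.ext (Prod.ext h1 h2)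

/-- The structure map of the fibre product. -/
def diffA : C' →+* diffG L₂ L₁ :=
  RingHom.codRestrict (L₂.a.prod L₁.a) (diffG L₂ L₁) (fun t => by
    show L₂.π (L₂.a t) = L₁.π (L₁.a t)
    rw [L₂.comm, L₁.comm])

theorem diffA_fst (t : C') : (diffA L₂ L₁ t : L₂.E' × L₁.E').1 = L₂.a t := rfl

theorem diffA_snd (t : C') : (diffA L₂ L₁ t : L₂.E' × L₁.E').2 = L₁.a t := rfl

/-- The projection of the fibre product to `E`. -/
def diffPi : diffG L₂ L₁ →+* E :=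
  L₂.π.comp ((RingHom.fst L₂.E' L₁.E').comp (diffG L₂ L₁).subtype)

theorem diffPi_apply (g : diffG L₂ L₁) : diffPi L₂ L₁ g = L₂.π (g : L₂.E' × L₁.E').1 := rfl

theorem diffPi_surj : Function.Surjective (diffPi L₂ L₁) := by
  intro e
  obtain ⟨y₂, h₂⟩ := L₂.surj e
  obtain ⟨y₁, h₁⟩ := L₁.surj e
  exact ⟨mkG y₂ y₁ (h₂.trans h₁.symm), h₂⟩

theorem diffPi_diffA (t : C') : diffPi L₂ L₁ (diffA L₂ L₁ t) = α (p t) := L₂.comm t

/-- The diagonal copy of `B₀ ⊗ J`. -/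
def diffN0 : Ideal (diffG L₂ L₁) where
  carrier := {g | ∃ m, (g : L₂.E' × L₁.E') = (L₂.mu hB m, L₁.mu hB m)}
  add_mem' := by
    rintro f g ⟨m, hm⟩ ⟨m', hm'⟩
    refine ⟨m + m', ?_⟩
    rw [Subring.coe_add, hm, hm', map_add, map_add]
    rfl
  zero_mem' := ⟨0, by rw [map_zero, map_zero]; rfl⟩
  smul_mem' := by
    rintro g f ⟨m, hm⟩
    refine ⟨L₂.q c (g : L₂.E' × L₁.E').1 • m, ?_⟩
    rw [smul_eq_mul, Subring.coe_mul, hm]
    apply Prod.ext
    · show (g : L₂.E' × L₁.E').1 * L₂.mu hB m = _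
      rw [L₂.mul_mu hB]
    · show (g : L₂.E' × L₁.E').2 * L₁.mu hB m = _
      rw [L₁.mul_mu hB, diffG_condq hB]

/-- `m_{C'} G`. -/
def diffM : Ideal (diffG L₂ L₁) := (RingHom.ker (res.comp p)).map (diffA L₂ L₁)

/-- The ideal `N₀ + m G`. -/
def diffI : Ideal (diffG L₂ L₁) := diffN0 hB L₂ L₁ ⊔ diffM (res := res) L₂ L₁

include hB in
theorem ker_diffPi (g : diffG L₂ L₁) (h : diffPi L₂ L₁ g = 0) :
    ∃ m m', (g : L₂.E' × L₁.E') = (L₂.mu hB m, L₁.mu hB m') := by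
  have h2 : L₂.π (g : L₂.E' × L₁.E').1 = 0 := h
  have h1 : L₁.π (g : L₂.E' × L₁.E').2 = 0 := by rw [← diffG_cond, h2]
  obtain ⟨m, hm⟩ := L₂.exists_mu_of_pi_eq_zero hB _ h2
  obtain ⟨m', hm'⟩ := L₁.exists_mu_of_pi_eq_zero hB _ h1
  exact ⟨m, m', Prod.ext hm.symm hm'.symm⟩

include hB in
theorem Lift.a_mul_mu (L : Lift p α) (t : C') (ht : res (p t) = 0)
    (m : B₀ ⊗[k] RingHom.ker p) : L.a t * L.mu hB m = 0 := by
  rw [L.mul_mu hB, L.q_a hB, ht, map_zero, zero_smul, map_zero]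

include hB in
theorem diffA_mul_ker (t : C') (ht : res (p t) = 0) (g : diffG L₂ L₁)
    (hg : diffPi L₂ L₁ g = 0) : diffA L₂ L₁ t * g = 0 := by
  obtain ⟨m, m', hm⟩ := ker_diffPi hB L₂ L₁ g hg
  apply diffG_ext
  · show L₂.a t * (g : L₂.E' × L₁.E').1 = 0
    rw [hm]
    exact L₂.a_mul_mu hB t ht m
  · show L₁.a t * (g : L₂.E' × L₁.E').2 = 0
    rw [hm]
    exact L₁.a_mul_mu hB t ht m'

theorem diffA_mul_mem_N0 (j : C') (hj : p j = 0) (w : diffG L₂ L₁) :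
    diffA L₂ L₁ j * w ∈ diffN0 hB L₂ L₁ := by
  refine ⟨L₂.q c (w : L₂.E' × L₁.E').1 ⊗ₜ ⟨j, (RingHom.mem_ker).2 hj⟩, Prod.ext ?_ ?_⟩
  · show L₂.a j * (w : L₂.E' × L₁.E').1 = _
    exact (L₂.mu_tmul hB _ ⟨j, (RingHom.mem_ker).2 hj⟩).symm
  · show L₁.a j * (w : L₂.E' × L₁.E').2 = _
    rw [diffG_condq hB]
    exact (L₁.mu_tmul hB _ ⟨j, (RingHom.mem_ker).2 hj⟩).symm

/-- Key step (uses flatness of `E` over `C`): `m G ∩ ker π ⊆ N₀`. -/
theorem mem_N0_of_mem_M (u : diffG L₂ L₁) (hu : u ∈ diffM (res := res) L₂ L₁)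
    (hπ : diffPi L₂ L₁ u = 0) : u ∈ diffN0 hB L₂ L₁ := by
  classical
  unfold diffM Ideal.map at hu
  obtain ⟨T, hT, g, rfl⟩ := (Submodule.mem_span_image_iff_exists_fun _).1 hu
  letI : Algebra C E := α.toAlgebra
  haveI : Module.Flat C E := hB.flat
  have hrel : ∑ i : T, (p (i : C')) • diffPi L₂ L₁ (g i) = 0 := by
    rw [← hπ, map_sum]
    refine Finset.sum_congr rfl fun i _ => ?_
    rw [smul_eq_mul, map_mul, diffPi_diffA, Algebra.smul_def, mul_comm]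
    rfl
  obtain ⟨n, A, z, hA, hz⟩ := Module.Flat.isTrivialRelation_of_sum_smul_eq_zero (R := C)
    (M := E) (f := fun i : T => p (i : C')) (x := fun i : T => diffPi L₂ L₁ (g i)) hrel
  choose A' hA' using fun (i : T) (l : Fin n) => hB.p_surj (A i l)
  choose w hw using fun l : Fin n => diffPi_surj L₂ L₁ (z l)
  have hκ : ∀ i : T, diffPi L₂ L₁ (g i - ∑ l, diffA L₂ L₁ (A' i l) * w l) = 0 := by
    intro i
    have hAi : diffPi L₂ L₁ (g i) = ∑ l, A i l • z l := hA i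
    rw [map_sub, map_sum, hAi, sub_eq_zero]
    refine Finset.sum_congr rfl fun l _ => ?_
    rw [map_mul, diffPi_diffA, hA', hw, Algebra.smul_def]
    rfl
  have hj : ∀ l, p (∑ i : T, (i : C') * A' i l) = 0 := by
    intro l
    rw [map_sum, ← hz l]
    refine Finset.sum_congr rfl fun i _ => ?_
    rw [map_mul, hA']
  have hres : ∀ i : T, res (p (i : C')) = 0 := fun i => (RingHom.mem_ker).1 (hT i.2)
  have hsum : ∑ i : T, g i • diffA L₂ L₁ (i : C') =
      ∑ l, diffA L₂ L₁ (∑ i : T, (i : C') * A' i l) * w l := by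
    have h1 : ∀ i : T, g i • diffA L₂ L₁ (i : C') =
        ∑ l, diffA L₂ L₁ ((i : C') * A' i l) * w l := by
      intro i
      have h2 := diffA_mul_ker hB L₂ L₁ (i : C') (hres i) _ (hκ i)
      rw [mul_sub, sub_eq_zero] at h2
      rw [smul_eq_mul, mul_comm, h2, Finset.mul_sum]
      refine Finset.sum_congr rfl fun l _ => ?_
      rw [map_mul, mul_assoc]
    rw [Finset.sum_congr rfl (fun i _ => h1 i), Finset.sum_comm]
    refine Finset.sum_congr rfl fun l _ => ?_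
    rw [map_sum, Finset.sum_mul]
  rw [hsum]
  exact Ideal.sum_mem _ fun l _ => diffA_mul_mem_N0 hB L₂ L₁ _ (hj l) (w l)

/-- The middle ring of the difference extension. -/
abbrev DiffE : Type u := diffG L₂ L₁ ⧸ diffI (res := res) hB L₂ L₁

/-- The quotient map. -/
def diffMk : diffG L₂ L₁ →+* DiffE hB L₂ L₁ := Ideal.Quotient.mk (diffI hB L₂ L₁)

theorem diffMk_surjective : Function.Surjective (diffMk hB L₂ L₁) := Ideal.Quotient.mk_surjective

theorem diffMk_eq_zero_iff (g : diffG L₂ L₁) :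
    diffMk hB L₂ L₁ g = 0 ↔ g ∈ diffI (res := res) hB L₂ L₁ :=
  Ideal.Quotient.eq_zero_iff_mem

theorem diffMk_eq_iff (g g' : diffG L₂ L₁) :
    diffMk hB L₂ L₁ g = diffMk hB L₂ L₁ g' ↔ g - g' ∈ diffI (res := res) hB L₂ L₁ :=
  Ideal.Quotient.eq

theorem diffMk_of_mem_M (u : diffG L₂ L₁) (hu : u ∈ diffM (res := res) L₂ L₁) :
    diffMk hB L₂ L₁ u = 0 :=
  (diffMk_eq_zero_iff hB L₂ L₁ u).2 (le_sup_right (a := diffN0 hB L₂ L₁) hu)

theorem diffMk_of_mem_N0 (u : diffG L₂ L₁) (hu : u ∈ diffN0 hB L₂ L₁) :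
    diffMk hB L₂ L₁ u = 0 :=
  (diffMk_eq_zero_iff hB L₂ L₁ u).2 (le_sup_left (b := diffM (res := res) L₂ L₁) hu)

instance diffAlgebra : Algebra k (DiffE hB L₂ L₁) :=
  ((diffMk hB L₂ L₁).comp ((diffA L₂ L₁).comp (algebraMap k C'))).toAlgebra

theorem diff_algebraMap (κ : k) : algebraMap k (DiffE hB L₂ L₁) κ =
    diffMk hB L₂ L₁ (diffA L₂ L₁ (algebraMap k C' κ)) := rfl

/-- The projection of the difference extension, as a ring map. -/
def diffProjR : DiffE hB L₂ L₁ →+* B₀ :=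
  Ideal.Quotient.lift (diffI hB L₂ L₁)
    ((L₂.q c).comp ((RingHom.fst L₂.E' L₁.E').comp (diffG L₂ L₁).subtype)) (fun g hg => by
      have hle : diffI (res := res) hB L₂ L₁ ≤
          RingHom.ker ((L₂.q c).comp ((RingHom.fst L₂.E' L₁.E').comp (diffG L₂ L₁).subtype)) := by
        apply sup_le
        · rintro g ⟨m, hm⟩
          rw [RingHom.mem_ker]
          show L₂.q c (g : L₂.E' × L₁.E').1 = 0
          rw [hm]
          exact L₂.q_mu hB m
        · unfold diffM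
          rw [Ideal.map_le_iff_le_comap]
          intro t ht
          rw [Ideal.mem_comap, RingHom.mem_ker]
          show L₂.q c (L₂.a t) = 0
          have h1 : res (p t) = 0 := (RingHom.mem_ker).1 ht
          rw [L₂.q_a hB, h1, map_zero]
      exact (RingHom.mem_ker).1 (hle hg))

theorem diffProjR_mk (g : diffG L₂ L₁) :
    diffProjR hB L₂ L₁ (diffMk hB L₂ L₁ g) = L₂.q c (g : L₂.E' × L₁.E').1 := rfl

/-- The projection of the difference extension. -/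
def diffProj : DiffE hB L₂ L₁ →ₐ[k] B₀ :=
  { diffProjR hB L₂ L₁ with
    commutes' := fun κ => by
      show L₂.q c (L₂.a (algebraMap k C' κ)) = algebraMap k B₀ κ
      rw [L₂.q_a hB, res_p_algebraMap] }

theorem diffProj_mk (g : diffG L₂ L₁) :
    diffProj hB L₂ L₁ (diffMk hB L₂ L₁ g) = L₂.q c (g : L₂.E' × L₁.E').1 := rfl

/-- The inclusion of `B₀ ⊗ J` into the difference extension. -/
def diffIncl : B₀ ⊗[k] RingHom.ker p →+ DiffE hB L₂ L₁ where
  toFun m := diffMk hB L₂ L₁ (mkG (L₂.mu hB m) 0 (by rw [L₂.pi_mu hB, map_zero]))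
  map_zero' := by
    rw [← map_zero (diffMk hB L₂ L₁)]
    exact congrArg (diffMk hB L₂ L₁) (diffG_ext L₂ L₁ (map_zero _) rfl)
  map_add' m m' := by
    rw [← map_add (diffMk hB L₂ L₁)]
    exact congrArg (diffMk hB L₂ L₁) (diffG_ext L₂ L₁ (map_add _ _ _) (add_zero _).symm)

theorem diffIncl_apply (m : B₀ ⊗[k] RingHom.ker p) : diffIncl hB L₂ L₁ m =
    diffMk hB L₂ L₁ (mkG (L₂.mu hB m) 0 (by rw [L₂.pi_mu hB, map_zero])) := rfl

theorem diffIncl_injective : Function.Injective (diffIncl hB L₂ L₁) := by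
  rw [injective_iff_map_eq_zero]
  intro m hm
  rw [diffIncl_apply, diffMk_eq_zero_iff] at hm
  obtain ⟨n₀, ⟨m', hm'⟩, u, hu, hsum⟩ := Submodule.mem_sup.1 hm
  have h1 : (n₀ : L₂.E' × L₁.E').1 + (u : L₂.E' × L₁.E').1 = L₂.mu hB m :=
    congrArg (fun g : diffG L₂ L₁ => (g : L₂.E' × L₁.E').1) hsum
  have h2 : (n₀ : L₂.E' × L₁.E').2 + (u : L₂.E' × L₁.E').2 = 0 :=
    congrArg (fun g : diffG L₂ L₁ => (g : L₂.E' × L₁.E').2) hsum
  rw [hm'] at h1 h2
  have h3 : diffPi L₂ L₁ u = 0 := by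
    rw [diffPi_apply, diffG_cond]
    have h4 : (u : L₂.E' × L₁.E').2 = - L₁.mu hB m' := eq_neg_of_add_eq_zero_right h2
    rw [h4, map_neg, L₁.pi_mu hB, neg_zero]
  obtain ⟨m'', hm''⟩ := mem_N0_of_mem_M hB L₂ L₁ u hu h3
  rw [hm''] at h1 h2
  have h5 : m' + m'' = 0 := by
    apply L₁.mu_injective hB
    rw [map_add, map_zero]
    exact h2
  apply L₂.mu_injective hB
  rw [map_zero, ← h1, ← map_add, h5, map_zero]

theorem diff_exact (s : DiffE hB L₂ L₁) :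
    diffProj hB L₂ L₁ s = 0 ↔ s ∈ Set.range (diffIncl hB L₂ L₁) := by
  constructor
  · intro hs
    obtain ⟨g, rfl⟩ := diffMk_surjective hB L₂ L₁ s
    have h1 : L₂.q c (g : L₂.E' × L₁.E').1 = 0 := hs
    have h2 : diffPi L₂ L₁ g ∈ (RingHom.ker res).map α := by
      rw [← hB.c_ker]
      exact (RingHom.mem_ker).2 h1
    obtain ⟨u, hu, hug⟩ := exists_mem_map_of_surj hB.p_surj (diffA L₂ L₁) (diffPi L₂ L₁)
      (diffPi_surj L₂ L₁) (diffPi_diffA L₂ L₁) _ h2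
    have h3 : diffPi L₂ L₁ (g - u) = 0 := by rw [map_sub, hug, sub_self]
    obtain ⟨m, m', hm⟩ := ker_diffPi hB L₂ L₁ _ h3
    refine ⟨m - m', ?_⟩
    rw [diffIncl_apply, diffMk_eq_iff]
    have h4 : mkG (L₂.mu hB (m - m')) 0 (by rw [L₂.pi_mu hB, map_zero]) - g =
        - (mkG (L₂.mu hB m') (L₁.mu hB m') (by rw [L₂.pi_mu hB, L₁.pi_mu hB]) + u) := by
      apply diffG_ext
      · show L₂.mu hB (m - m') - (g : L₂.E' × L₁.E').1 =
          - (L₂.mu hB m' + (u : L₂.E' × L₁.E').1)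
        have h5 : (g : L₂.E' × L₁.E').1 - (u : L₂.E' × L₁.E').1 = L₂.mu hB m :=
          congrArg Prod.fst hm
        rw [map_sub, ← h5]
        ring
      · show (0 : L₁.E') - (g : L₂.E' × L₁.E').2 = - (L₁.mu hB m' + (u : L₂.E' × L₁.E').2)
        have h5 : (g : L₂.E' × L₁.E').2 - (u : L₂.E' × L₁.E').2 = L₁.mu hB m' :=
          congrArg Prod.snd hm
        rw [← h5]
        ring
    rw [h4]
    refine neg_mem (Ideal.add_mem _ (le_sup_left (b := diffM (res := res) L₂ L₁) ?_)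
      (le_sup_right (a := diffN0 hB L₂ L₁) hu))
    exact ⟨m', rfl⟩
  · rintro ⟨m, rfl⟩
    show L₂.q c (L₂.mu hB m) = 0
    exact L₂.q_mu hB m

/-- The difference of two lifts, a `k`-algebra extension of `B₀` by `B₀ ⊗ J`. -/
def diffExt : Exal.Ext k B₀ (B₀ ⊗[k] RingHom.ker p) where
  E := DiffE hB L₂ L₁
  proj := diffProj hB L₂ L₁
  incl := diffIncl hB L₂ L₁
  isExtension :=
    { proj_surjective := fun b => by
        obtain ⟨y₂, rfl⟩ := L₂.q_surj hB b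
        obtain ⟨y₁, h₁⟩ := L₁.surj (L₂.π y₂)
        exact ⟨diffMk hB L₂ L₁ (mkG y₂ y₁ h₁.symm), rfl⟩
      incl_injective := diffIncl_injective hB L₂ L₁
      exact := diff_exact hB L₂ L₁
      mul_incl := fun s m => by
        obtain ⟨g, rfl⟩ := diffMk_surjective hB L₂ L₁ s
        show diffMk hB L₂ L₁ g * diffMk hB L₂ L₁ _ = diffMk hB L₂ L₁ _
        rw [← map_mul]
        refine congrArg (diffMk hB L₂ L₁) (diffG_ext L₂ L₁ ?_ ?_)
        · show (g : L₂.E' × L₁.E').1 * L₂.mu hB m = L₂.mu hB _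
          rw [L₂.mul_mu hB]
          rfl
        · show (g : L₂.E' × L₁.E').2 * 0 = 0
          exact mul_zero _ }

end Diff

end

end Groth.Agent.Lib.R2H7.DefLift
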