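/-
Lifts of a deformation along a semismall extension, part D: `L₁ + (L₂ - L₁) ≅ L₂`, cancellation
`L + X ≅ L + X' ⇒ X ≅ X'`, and the ring-level torsor bijection.  (R2H7, for S12294.)
-/
import Mathlib
import Groth.Agent.Lib.R2H7DefLiftC

set_option autoImplicit false
universe u
open TensorProduct

namespace Groth.Agent.Lib.R2H7.DefLift

noncomputable section

variable {k : Type u} [Field k] {B₀ : Type u} [CommRing B₀] [Algebra k B₀]
  {C' C : Type u} [CommRing C'] [CommRing C] [Algebra k C'] [Algebra k C]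
  {E : Type u} [CommRing E]
  {res : C →ₐ[k] k} {p : C' →ₐ[k] C} {α : C →+* E} {c : E →+* B₀}

/-! ### `L₁ + (L₂ - L₁) → L₂` -/

section Comparison

variable (hB : IsBase res p α c) (L₂ L₁ : Lift p α)

theorem exists_snd_of_mem (z₁ : L₁.E') (hz : z₁ ∈ (RingHom.ker (res.comp p)).map L₁.a) :
    ∃ u ∈ diffM (res := res) L₂ L₁, (u : L₂.E' × L₁.E').2 = z₁ := by
  unfold Ideal.map at hz
  induction hz using Submodule.span_induction with
  | mem r hr =>
    obtain ⟨t, ht, rfl⟩ := hr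
    exact ⟨diffA L₂ L₁ t, Ideal.mem_map_of_mem _ ht, rfl⟩
  | zero => exact ⟨0, Ideal.zero_mem _, rfl⟩
  | add x y _ _ hx hy =>
    obtain ⟨u, hu, rfl⟩ := hx
    obtain ⟨u', hu', rfl⟩ := hy
    exact ⟨u + u', Ideal.add_mem _ hu hu', rfl⟩
  | smul y x _ hx =>
    obtain ⟨u, hu, rfl⟩ := hx
    obtain ⟨y₂, hy₂⟩ := L₂.surj (L₁.π y)
    exact ⟨mkG y₂ y hy₂ * u, Ideal.mul_mem_left _ _ hu, rfl⟩

theorem exists_rep (y₁ : L₁.E') (x : DiffE hB L₂ L₁) (h : L₁.q c y₁ = diffProj hB L₂ L₁ x) :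
    ∃ g : diffG L₂ L₁, (g : L₂.E' × L₁.E').2 = y₁ ∧ diffMk hB L₂ L₁ g = x := by
  obtain ⟨g', rfl⟩ := diffMk_surjective hB L₂ L₁ x
  have h1 : L₁.q c (y₁ - (g' : L₂.E' × L₁.E').2) = 0 := by
    rw [map_sub, h, diffProj_mk, diffG_condq hB, sub_self]
  have h2 : y₁ - (g' : L₂.E' × L₁.E').2 ∈ (RingHom.ker (res.comp p)).map L₁.a := by
    rw [← L₁.ker_q hB]
    exact (RingHom.mem_ker).2 h1
  obtain ⟨u, hu, hu2⟩ := exists_snd_of_mem L₂ L₁ _ h2
  refine ⟨g' + u, ?_, ?_⟩
  · show (g' : L₂.E' × L₁.E').2 + (u : L₂.E' × L₁.E').2 = y₁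
    rw [hu2]
    ring
  · rw [map_add, diffMk_of_mem_M hB L₂ L₁ u hu, add_zero]

theorem rep_unique (g g' : diffG L₂ L₁)
    (h2 : (g : L₂.E' × L₁.E').2 = (g' : L₂.E' × L₁.E').2)
    (hx : diffMk hB L₂ L₁ g = diffMk hB L₂ L₁ g') : g = g' := by
  have h1 : diffPi L₂ L₁ (g - g') = 0 := by
    rw [diffPi_apply, diffG_cond]
    show L₁.π ((g : L₂.E' × L₁.E').2 - (g' : L₂.E' × L₁.E').2) = 0
    rw [h2, sub_self, map_zero]
  obtain ⟨m, m', hm⟩ := ker_diffPi hB L₂ L₁ _ h1
  have h3 : L₁.mu hB m' = 0 := by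
    have := congrArg Prod.snd hm
    have h4 : (g : L₂.E' × L₁.E').2 - (g' : L₂.E' × L₁.E').2 = L₁.mu hB m' := this
    rw [← h4, h2, sub_self]
  have h5 : g - g' = mkG (L₂.mu hB m) 0 (by rw [L₂.pi_mu hB, map_zero]) := by
    apply diffG_ext
    · show ((g - g' : diffG L₂ L₁) : L₂.E' × L₁.E').1 = L₂.mu hB m
      rw [hm]
    · show ((g - g' : diffG L₂ L₁) : L₂.E' × L₁.E').2 = 0
      rw [hm]
      exact h3
  have h6 : diffIncl hB L₂ L₁ m = 0 := by
    rw [diffIncl_apply, ← h5, map_sub, hx, sub_self]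
  have h7 : m = 0 := diffIncl_injective hB L₂ L₁ (h6.trans (map_zero _).symm)
  have h8 : g - g' = 0 := by
    rw [h5, h7]
    exact diffG_ext L₂ L₁ (map_zero _) rfl
  exact sub_eq_zero.1 h8

/-- The representative of the second coordinate with prescribed `E'₁`-component. -/
def sigmaG (f : sumF L₁ (diffExt hB L₂ L₁) c) : diffG L₂ L₁ :=
  Classical.choose (exists_rep hB L₂ L₁ (f : L₁.E' × (diffExt hB L₂ L₁).E).1
    (f : L₁.E' × (diffExt hB L₂ L₁).E).2 (sumF_cond L₁ (diffExt hB L₂ L₁) f))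

theorem sigmaG_snd (f : sumF L₁ (diffExt hB L₂ L₁) c) :
    (sigmaG hB L₂ L₁ f : L₂.E' × L₁.E').2 = (f : L₁.E' × (diffExt hB L₂ L₁).E).1 :=
  (Classical.choose_spec (exists_rep hB L₂ L₁ (f : L₁.E' × (diffExt hB L₂ L₁).E).1
    (f : L₁.E' × (diffExt hB L₂ L₁).E).2 (sumF_cond L₁ (diffExt hB L₂ L₁) f))).1

theorem diffMk_sigmaG (f : sumF L₁ (diffExt hB L₂ L₁) c) :
    diffMk hB L₂ L₁ (sigmaG hB L₂ L₁ f) = (f : L₁.E' × (diffExt hB L₂ L₁).E).2 :=
  (Classical.choose_spec (exists_rep hB L₂ L₁ (f : L₁.E' × (diffExt hB L₂ L₁).E).1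
    (f : L₁.E' × (diffExt hB L₂ L₁).E).2 (sumF_cond L₁ (diffExt hB L₂ L₁) f))).2

theorem sigmaG_eq (f : sumF L₁ (diffExt hB L₂ L₁) c) (g : diffG L₂ L₁)
    (h2 : (g : L₂.E' × L₁.E').2 = (f : L₁.E' × (diffExt hB L₂ L₁).E).1)
    (hx : diffMk hB L₂ L₁ g = (f : L₁.E' × (diffExt hB L₂ L₁).E).2) :
    sigmaG hB L₂ L₁ f = g :=
  rep_unique hB L₂ L₁ _ _ ((sigmaG_snd hB L₂ L₁ f).trans h2.symm)
    ((diffMk_sigmaG hB L₂ L₁ f).trans hx.symm)

/-- `sigmaG` as a ring homomorphism. -/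
def sigmaGHom : sumF L₁ (diffExt hB L₂ L₁) c →+* diffG L₂ L₁ where
  toFun := sigmaG hB L₂ L₁
  map_one' := sigmaG_eq hB L₂ L₁ 1 1 rfl (map_one _)
  map_mul' f f' := sigmaG_eq hB L₂ L₁ (f * f') _
    (by
      show (sigmaG hB L₂ L₁ f : L₂.E' × L₁.E').2 * (sigmaG hB L₂ L₁ f' : L₂.E' × L₁.E').2 = _
      rw [sigmaG_snd, sigmaG_snd]
      rfl)
    (by
      rw [map_mul, diffMk_sigmaG, diffMk_sigmaG]
      rfl)
  map_zero' := sigmaG_eq hB L₂ L₁ 0 0 rfl (map_zero _)
  map_add' f f' := sigmaG_eq hB L₂ L₁ (f + f') _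
    (by
      show (sigmaG hB L₂ L₁ f : L₂.E' × L₁.E').2 + (sigmaG hB L₂ L₁ f' : L₂.E' × L₁.E').2 = _
      rw [sigmaG_snd, sigmaG_snd]
      rfl)
    (by
      rw [map_add, diffMk_sigmaG, diffMk_sigmaG]
      rfl)

theorem sigmaGHom_apply (f : sumF L₁ (diffExt hB L₂ L₁) c) :
    sigmaGHom hB L₂ L₁ f = sigmaG hB L₂ L₁ f := rfl

/-- The comparison morphism `L₁ + (L₂ - L₁) → L₂`. -/
def sumDiffHom : LiftHom (sumLift hB L₁ (diffExt hB L₂ L₁)) L₂ where
  θ := Ideal.Quotient.lift (sumN hB L₁ (diffExt hB L₂ L₁))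
    (((RingHom.fst L₂.E' L₁.E').comp (diffG L₂ L₁).subtype).comp (sigmaGHom hB L₂ L₁))
    (by
      rintro f ⟨m, hm⟩
      have h1 : sigmaG hB L₂ L₁ f = mkG 0 (L₁.mu hB m) (by rw [L₁.pi_mu hB, map_zero]) := by
        apply sigmaG_eq
        · show L₁.mu hB m = _
          rw [hm]
        · rw [hm]
          show diffMk hB L₂ L₁ _ = - diffIncl hB L₂ L₁ m
          rw [diffIncl_apply, eq_neg_iff_add_eq_zero, ← map_add]
          apply diffMk_of_mem_N0
          refine ⟨m, Prod.ext ?_ ?_⟩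
          · show (0 : L₂.E') + L₂.mu hB m = L₂.mu hB m
            rw [zero_add]
          · show L₁.mu hB m + 0 = L₁.mu hB m
            rw [add_zero]
      show (sigmaG hB L₂ L₁ f : L₂.E' × L₁.E').1 = 0
      rw [h1]
      rfl)
  comp_a t := by
    show (sigmaG hB L₂ L₁ (sumA0 hB L₁ (diffExt hB L₂ L₁) t) : L₂.E' × L₁.E').1 = L₂.a t
    have h1 : sigmaG hB L₂ L₁ (sumA0 hB L₁ (diffExt hB L₂ L₁) t) = diffA L₂ L₁ t := by
      apply sigmaG_eq
      · rfl
      · show diffMk hB L₂ L₁ (diffA L₂ L₁ t) =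
          diffMk hB L₂ L₁ (diffA L₂ L₁ (algebraMap k C' (res (p t))))
        rw [diffMk_eq_iff, ← map_sub]
        refine le_sup_right (a := diffN0 hB L₂ L₁) (Ideal.mem_map_of_mem _ ?_)
        rw [RingHom.mem_ker, map_sub]
        show res (p t) - res (p (algebraMap k C' (res (p t)))) = 0
        rw [res_p_algebraMap, sub_self]
    rw [h1]
    rfl
  π_comp s := by
    obtain ⟨f, rfl⟩ := sumMk_surjective hB L₁ (diffExt hB L₂ L₁) s
    show L₂.π (sigmaG hB L₂ L₁ f : L₂.E' × L₁.E').1 = L₁.π (f : L₁.E' × (diffExt hB L₂ L₁).E).1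
    rw [diffG_cond, sigmaG_snd]

end Comparison

/-! ### Cancellation -/

section Cancel

variable (hB : IsBase res p α c) (L : Lift p α)
  {X X' : Exal.Ext k B₀ (B₀ ⊗[k] RingHom.ker p)}
  (θ : LiftHom (sumLift hB L X) (sumLift hB L X'))

theorem sum_q_mk (X : Exal.Ext k B₀ (B₀ ⊗[k] RingHom.ker p)) (f : sumF L X c) :
    (sumLift hB L X).q c (sumMk hB L X f) = L.q c (f : L.E' × X.E).1 := rfl

theorem sum_mu (X : Exal.Ext k B₀ (B₀ ⊗[k] RingHom.ker p)) (m : B₀ ⊗[k] RingHom.ker p) :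
    (sumLift hB L X).mu hB m = sumNu hB L X m := by
  induction m using TensorProduct.induction_on with
  | zero =>
    rw [map_zero, map_zero]
    rfl
  | tmul b j =>
    obtain ⟨y, rfl⟩ := L.q_surj hB b
    obtain ⟨x, hx⟩ := X.isExtension.proj_surjective (L.q c y)
    have h1 : L.q c y = (sumLift hB L X).q c (sumMk hB L X (mkF c y x hx.symm)) := rfl
    rw [h1, (sumLift hB L X).mu_tmul hB, ← h1]
    show sumMk hB L X (sumA0 hB L X j) * sumMk hB L X _ = sumMk hB L X _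
    rw [← map_mul]
    refine congrArg (sumMk hB L X) (sumF_ext L X ?_ ?_)
    · show L.a j * y = L.mu hB (L.q c y ⊗ₜ j)
      exact (L.mu_tmul hB y j).symm
    · show algebraMap k X.E (res (p j)) * x = 0
      rw [(RingHom.mem_ker).1 j.2, map_zero, map_zero, zero_mul]
  | add x x' hx hx' =>
    rw [map_add, map_add, hx, hx']
    rfl

theorem θ_mk_one : θ.θ (sumMk hB L X 1) = sumMk hB L X' 1 := by
  have h1 : sumMk hB L X 1 = (1 : (sumLift hB L X).E') := map_one (sumMk hB L X)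
  have h2 : sumMk hB L X' 1 = (1 : (sumLift hB L X').E') := map_one (sumMk hB L X')
  rw [h1, h2]
  exact map_one θ.θ

theorem θ_mk_zero : θ.θ (sumMk hB L X 0) = sumMk hB L X' 0 := by
  have h1 : sumMk hB L X 0 = (0 : (sumLift hB L X).E') := map_zero (sumMk hB L X)
  have h2 : sumMk hB L X' 0 = (0 : (sumLift hB L X').E') := map_zero (sumMk hB L X')
  rw [h1, h2]
  exact map_zero θ.θ

theorem θ_mk_mul (f f' : sumF L X c) : θ.θ (sumMk hB L X (f * f')) =
    θ.θ (sumMk hB L X f) * θ.θ (sumMk hB L X f') := by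
  have h1 : sumMk hB L X (f * f') = (sumMk hB L X f : (sumLift hB L X).E') *
      (sumMk hB L X f' : (sumLift hB L X).E') := map_mul (sumMk hB L X) f f'
  rw [h1]
  exact map_mul θ.θ _ _

theorem θ_mk_add (f f' : sumF L X c) : θ.θ (sumMk hB L X (f + f')) =
    θ.θ (sumMk hB L X f) + θ.θ (sumMk hB L X f') := by
  have h1 : sumMk hB L X (f + f') = (sumMk hB L X f : (sumLift hB L X).E') +
      (sumMk hB L X f' : (sumLift hB L X).E') := map_add (sumMk hB L X) f f'
  rw [h1]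
  exact map_add θ.θ _ _

include θ in
theorem exists_tau (f : sumF L X c) :
    ∃ f' : sumF L X' c, (f' : L.E' × X'.E).1 = (f : L.E' × X.E).1 ∧
      sumMk hB L X' f' = θ.θ (sumMk hB L X f) := by
  obtain ⟨f'', hf''⟩ := sumMk_surjective hB L X' (θ.θ (sumMk hB L X f))
  have h1 : L.π (f'' : L.E' × X'.E).1 = L.π (f : L.E' × X.E).1 := by
    have := θ.π_comp (sumMk hB L X f)
    rw [← hf''] at this
    exact this
  have h2 : L.π ((f'' : L.E' × X'.E).1 - (f : L.E' × X.E).1) = 0 := by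
    rw [map_sub, h1, sub_self]
  obtain ⟨m, hm⟩ := L.exists_mu_of_pi_eq_zero hB _ h2
  refine ⟨mkF c (f : L.E' × X.E).1 ((f'' : L.E' × X'.E).2 + X'.incl m) ?_, rfl, ?_⟩
  · rw [map_add, proj_incl hB, add_zero, ← sumF_cond L X' f'']
    have : (f'' : L.E' × X'.E).1 = (f : L.E' × X.E).1 + L.mu hB m := by rw [hm]; ring
    rw [this, map_add, L.q_mu hB, add_zero]
  · rw [← hf'', sumMk_eq_iff]
    refine ⟨-m, ?_, ?_⟩
    · show (f : L.E' × X.E).1 = (f'' : L.E' × X'.E).1 + L.mu hB (-m)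
      rw [map_neg, hm]
      ring
    · show (f'' : L.E' × X'.E).2 + X'.incl m = (f'' : L.E' × X'.E).2 - X'.incl (-m)
      rw [map_neg, sub_neg_eq_add]

theorem tau_unique (f' f'' : sumF L X' c)
    (h1 : (f' : L.E' × X'.E).1 = (f'' : L.E' × X'.E).1)
    (hx : sumMk hB L X' f' = sumMk hB L X' f'') : f' = f'' := by
  obtain ⟨m, hm1, hm2⟩ := (sumMk_eq_iff hB L X' f' f'').1 hx
  have h2 : L.mu hB m = 0 := by
    rw [h1] at hm1
    exact (add_eq_left.1 hm1.symm)
  have h3 : m = 0 := L.mu_injective hB (h2.trans (map_zero _).symm)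
  apply sumF_ext L X' h1
  rw [hm2, h3, map_zero, sub_zero]

/-- The map on fibre products induced by a morphism of sums. -/
def tauG (f : sumF L X c) : sumF L X' c := Classical.choose (exists_tau hB L θ f)

theorem tauG_fst (f : sumF L X c) : (tauG hB L θ f : L.E' × X'.E).1 = (f : L.E' × X.E).1 :=
  (Classical.choose_spec (exists_tau hB L θ f)).1

theorem sumMk_tauG (f : sumF L X c) :
    sumMk hB L X' (tauG hB L θ f) = θ.θ (sumMk hB L X f) :=
  (Classical.choose_spec (exists_tau hB L θ f)).2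

theorem tauG_eq (f : sumF L X c) (f' : sumF L X' c)
    (h1 : (f' : L.E' × X'.E).1 = (f : L.E' × X.E).1)
    (hx : sumMk hB L X' f' = θ.θ (sumMk hB L X f)) : tauG hB L θ f = f' :=
  tau_unique hB L _ _ ((tauG_fst hB L θ f).trans h1.symm) ((sumMk_tauG hB L θ f).trans hx.symm)

/-- `tauG` as a ring homomorphism. -/
def tauGHom : sumF L X c →+* sumF L X' c where
  toFun := tauG hB L θ
  map_one' := tauG_eq hB L θ 1 1 rfl (θ_mk_one hB L θ).symm
  map_mul' f f' := tauG_eq hB L θ (f * f') _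
    (by
      show (tauG hB L θ f : L.E' × X'.E).1 * (tauG hB L θ f' : L.E' × X'.E).1 = _
      rw [tauG_fst, tauG_fst]
      rfl)
    (by
      rw [θ_mk_mul, ← sumMk_tauG, ← sumMk_tauG]
      exact map_mul (sumMk hB L X') _ _)
  map_zero' := tauG_eq hB L θ 0 0 rfl (θ_mk_zero hB L θ).symm
  map_add' f f' := tauG_eq hB L θ (f + f') _
    (by
      show (tauG hB L θ f : L.E' × X'.E).1 + (tauG hB L θ f' : L.E' × X'.E).1 = _
      rw [tauG_fst, tauG_fst]
      rfl)
    (by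
      rw [θ_mk_add, ← sumMk_tauG, ← sumMk_tauG]
      exact map_add (sumMk hB L X') _ _)

/-- Second projection of the fibre product. -/
def sndF (X : Exal.Ext k B₀ (B₀ ⊗[k] RingHom.ker p)) : sumF L X c →+* X.E :=
  (RingHom.snd L.E' X.E).comp (sumF L X c).subtype

include hB in
theorem sndF_surjective (X : Exal.Ext k B₀ (B₀ ⊗[k] RingHom.ker p)) :
    Function.Surjective (sndF L X (c := c)) := by
  intro x
  obtain ⟨y, hy⟩ := L.q_surj hB (X.proj x)
  exact ⟨mkF c y x hy, rfl⟩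

/-- `τ` kills the kernel of the second projection. -/
theorem tau_ker (z : L.E') (hz : z ∈ (RingHom.ker (res.comp p)).map L.a) :
    ∀ (h : L.q c z = X.proj 0) (h' : L.q c z = X'.proj 0),
      θ.θ (sumMk hB L X (mkF c z 0 h)) = sumMk hB L X' (mkF c z 0 h') := by
  have hq : ∀ z, z ∈ (RingHom.ker (res.comp p)).map L.a → L.q c z = 0 := by
    intro z hz
    rw [← L.ker_q hB] at hz
    exact (RingHom.mem_ker).1 hz
  unfold Ideal.map at hz
  induction hz using Submodule.span_induction with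
  | mem r hr =>
    obtain ⟨t, ht, rfl⟩ := hr
    intro h h'
    have h0 : res (p t) = 0 := (RingHom.mem_ker).1 ht
    have h1 : mkF c (L.a t) (0 : X.E) h = sumA0 hB L X t := by
      apply sumF_ext
      · rfl
      · show (0 : X.E) = algebraMap k X.E (res (p t))
        rw [h0, map_zero]
    have h2 : mkF c (L.a t) (0 : X'.E) h' = sumA0 hB L X' t := by
      apply sumF_ext
      · rfl
      · show (0 : X'.E) = algebraMap k X'.E (res (p t))
        rw [h0, map_zero]
    rw [h1, h2]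
    exact θ.comp_a t
  | zero =>
    intro h h'
    have h1 : mkF c (0 : L.E') (0 : X.E) h = 0 := rfl
    have h2 : mkF c (0 : L.E') (0 : X'.E) h' = 0 := rfl
    rw [h1, h2]
    exact θ_mk_zero hB L θ
  | add x y hx hy ihx ihy =>
    intro h h'
    have hqx : L.q c x = 0 := hq x hx
    have hqy : L.q c y = 0 := hq y hy
    have hx0 : L.q c x = X.proj 0 := by rw [hqx, map_zero]
    have hy0 : L.q c y = X.proj 0 := by rw [hqy, map_zero]
    have hx0' : L.q c x = X'.proj 0 := by rw [hqx, map_zero]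
    have hy0' : L.q c y = X'.proj 0 := by rw [hqy, map_zero]
    have h1 : mkF c (x + y) (0 : X.E) h = mkF c x 0 hx0 + mkF c y 0 hy0 :=
      sumF_ext L X rfl (add_zero _).symm
    have h2 : mkF c (x + y) (0 : X'.E) h' = mkF c x 0 hx0' + mkF c y 0 hy0' :=
      sumF_ext L X' rfl (add_zero _).symm
    rw [h1, h2, θ_mk_add, ihx hx0 hx0', ihy hy0 hy0']
    exact (map_add (sumMk hB L X') _ _).symm
  | smul y x hx ihx =>
    intro h h'
    have hqx : L.q c x = 0 := hq x hx
    have hx0 : L.q c x = X.proj 0 := by rw [hqx, map_zero]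
    have hx0' : L.q c x = X'.proj 0 := by rw [hqx, map_zero]
    obtain ⟨xy, hxy⟩ := X.isExtension.proj_surjective (L.q c y)
    have h1 : mkF c (y • x) (0 : X.E) h = mkF c y xy hxy.symm * mkF c x 0 hx0 :=
      sumF_ext L X rfl (mul_zero _).symm
    have h3 : (tauG hB L θ (mkF c y xy hxy.symm)) * mkF c x (0 : X'.E) hx0' =
        mkF c (y • x) (0 : X'.E) h' := by
      apply sumF_ext
      · show (tauG hB L θ (mkF c y xy hxy.symm) : L.E' × X'.E).1 * x = y * x
        rw [tauG_fst]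
        rfl
      · show (tauG hB L θ (mkF c y xy hxy.symm) : L.E' × X'.E).2 * 0 = 0
        exact mul_zero _
    rw [h1, θ_mk_mul, ihx hx0 hx0', ← sumMk_tauG, ← h3]
    exact (map_mul (sumMk hB L X') _ _).symm

/-- The induced map `X.E → X'.E`. -/
def cancelHom : X.E →+* X'.E :=
  RingHom.liftOfRightInverse (sndF L X (c := c)) (Function.surjInv (sndF_surjective hB L X))
    (Function.rightInverse_surjInv (sndF_surjective hB L X))
    ⟨(sndF L X' (c := c)).comp (tauGHom hB L θ), fun f hf => by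
      have h0 : (f : L.E' × X.E).2 = 0 := (RingHom.mem_ker).1 hf
      have hq : L.q c (f : L.E' × X.E).1 = 0 := by rw [sumF_cond L X f, h0, map_zero]
      have hz : (f : L.E' × X.E).1 ∈ (RingHom.ker (res.comp p)).map L.a := by
        rw [← L.ker_q hB]
        exact (RingHom.mem_ker).2 hq
      have hf0 : f = mkF c (f : L.E' × X.E).1 0 (by rw [hq, map_zero]) := sumF_ext L X rfl h0
      have h1 := tau_ker hB L θ _ hz (by rw [hq, map_zero]) (by rw [hq, map_zero])
      rw [← hf0] at h1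
      have h2 : tauG hB L θ f = mkF c (f : L.E' × X.E).1 (0 : X'.E) (by rw [hq, map_zero]) :=
        tauG_eq hB L θ f _ rfl h1.symm
      rw [RingHom.mem_ker]
      show (tauG hB L θ f : L.E' × X'.E).2 = 0
      rw [h2]
      rfl⟩

theorem cancelHom_snd (f : sumF L X c) :
    cancelHom hB L θ (f : L.E' × X.E).2 = (tauG hB L θ f : L.E' × X'.E).2 :=
  RingHom.liftOfRightInverse_comp_apply (sndF L X (c := c)) _ _ _ f

include θ in
/-- Cancellation: `L + X ≅ L + X'` implies `X ≅ X'`. -/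
theorem cancel : Nonempty (X.Equiv X') := by
  have hproj : ∀ x, X'.proj (cancelHom hB L θ x) = X.proj x := by
    intro x
    obtain ⟨f, rfl⟩ := sndF_surjective hB L X x
    show X'.proj (cancelHom hB L θ (f : L.E' × X.E).2) = X.proj (f : L.E' × X.E).2
    rw [cancelHom_snd, ← sumF_cond L X' (tauG hB L θ f), tauG_fst, sumF_cond L X f]
  have hincl : ∀ m, cancelHom hB L θ (X.incl m) = X'.incl m := by
    intro m
    have h1 : tauG hB L θ (mkF c 0 (X.incl m) (by rw [map_zero, proj_incl hB])) =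
        mkF c 0 (X'.incl m) (by rw [map_zero, proj_incl hB]) := by
      apply tauG_eq
      · rfl
      · rw [← sumNu_eq, ← sumNu_eq, ← sum_mu, ← sum_mu, θ.θ_mu hB]
    have h2 := cancelHom_snd hB L θ (mkF c 0 (X.incl m) (by rw [map_zero, proj_incl hB]))
    rw [h1] at h2
    exact h2
  have hcomm : ∀ κ : k, cancelHom hB L θ (algebraMap k X.E κ) = algebraMap k X'.E κ := by
    intro κ
    have h1 : tauG hB L θ (sumA0 hB L X (algebraMap k C' κ)) =
        sumA0 hB L X' (algebraMap k C' κ) := by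
      apply tauG_eq
      · rfl
      · exact (θ.comp_a _).symm
    have h2 := cancelHom_snd hB L θ (sumA0 hB L X (algebraMap k C' κ))
    rw [h1, sumA0_snd, sumA0_snd, res_p_algebraMap] at h2
    exact h2
  let fA : X.E →ₐ[k] X'.E := { cancelHom hB L θ with commutes' := hcomm }
  have hbij : Function.Bijective fA := by
    constructor
    · rw [injective_iff_map_eq_zero]
      intro x hx
      have h1 : X.proj x = 0 := by rw [← hproj, show cancelHom hB L θ x = 0 from hx, map_zero]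
      obtain ⟨z, rfl⟩ := (X.isExtension.exact x).1 h1
      have h2 : X'.incl z = 0 := by rw [← hincl]; exact hx
      have h3 : z = 0 := X'.isExtension.incl_injective (h2.trans (map_zero _).symm)
      rw [h3, map_zero]
    · intro y
      obtain ⟨x, hx⟩ := X.isExtension.proj_surjective (X'.proj y)
      have h1 : X'.proj (y - cancelHom hB L θ x) = 0 := by rw [map_sub, hproj, hx, sub_self]
      obtain ⟨z, hz⟩ := (X'.isExtension.exact _).1 h1
      refine ⟨x + X.incl z, ?_⟩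
      show cancelHom hB L θ (x + X.incl z) = y
      rw [map_add, hincl, hz]
      ring
  exact ⟨{ toAlgEquiv := AlgEquiv.ofBijective fA hbij
           proj_apply := hproj
           apply_incl := hincl }⟩

end Cancel

/-! ### The ring-level bijection -/

/-- Classes of lifts of the deformation are a torsor under `Exalcom k B₀ (B₀ ⊗ J)`. -/
theorem nonempty_equiv_exalcom (hB : IsBase res p α c) (L₁ : Lift p α) :
    Nonempty (Quotient (liftSetoid hB) ≃ Exal.Exalcom k B₀ (B₀ ⊗[k] RingHom.ker p)) := by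
  let Ψ : Exal.Exalcom k B₀ (B₀ ⊗[k] RingHom.ker p) → Quotient (liftSetoid hB) :=
    Quotient.map' (s₁ := Exal.Ext.setoid k B₀ (B₀ ⊗[k] RingHom.ker p)) (s₂ := liftSetoid hB)
      (fun X => sumLift hB L₁ X) (fun _ _ ⟨e⟩ => ⟨sumMap hB L₁ e⟩)
  have hinj : Function.Injective Ψ := by
    intro a b hab
    obtain ⟨X, rfl⟩ := Quotient.exists_rep a
    obtain ⟨Y, rfl⟩ := Quotient.exists_rep b
    have hab' : Quotient.mk (liftSetoid hB) (sumLift hB L₁ X) =
        Quotient.mk (liftSetoid hB) (sumLift hB L₁ Y) := hab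
    obtain ⟨θ⟩ := Quotient.exact hab'
    exact Quotient.sound (cancel hB L₁ θ)
  have hsurj : Function.Surjective Ψ := by
    intro q
    obtain ⟨L₂, rfl⟩ := Quotient.exists_rep q
    exact ⟨Quotient.mk _ (diffExt hB L₂ L₁), Quotient.sound ⟨sumDiffHom hB L₂ L₁⟩⟩
  exact ⟨(Equiv.ofBijective Ψ ⟨hinj, hsurj⟩).symm⟩

end

end Groth.Agent.Lib.R2H7.DefLift
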