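/-
Extensions of an affine deformation along a semismall extension of Artinian local algebras:
scheme-level translation to the ring-level lifts of `R2H7DefLiftA–D`.  (R2H7, for S12294.)
-/
import Mathlib
import Groth.Agent.Lib.R2H7DefDual
import Groth.Agent.Lib.R2H7DefLiftD

set_option autoImplicit false
universe u
open TensorProduct

namespace Groth.Agent.Lib.R2H7.DefLift

open CategoryTheory CategoryTheory.Limits AlgebraicGeometry ArtFun ArtFun.Art

/-! ### Pushouts of commutative rings along surjections -/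

section Pushout

theorem isPushout_of_surj_ker {R S P Q : Type u} [CommRing R] [CommRing S] [CommRing P]
    [CommRing Q] (f : R →+* S) (hf : Function.Surjective f) (g : R →+* P) (f' : P →+* Q)
    (g' : S →+* Q) (hw : f'.comp g = g'.comp f) (hsurj : Function.Surjective f')
    (hker : RingHom.ker f' ≤ (RingHom.ker f).map g) :
    IsPushout (CommRingCat.ofHom g) (CommRingCat.ofHom f) (CommRingCat.ofHom f')
      (CommRingCat.ofHom g') := by
  refine DefSchNode.isPushout_of_univ g f f' g' hw ?_ ?_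
  · intro Z _ a b hab
    have hk : RingHom.ker f' ≤ RingHom.ker a := by
      refine hker.trans ?_
      rw [Ideal.map_le_iff_le_comap]
      intro t ht
      rw [Ideal.mem_comap, RingHom.mem_ker]
      have h1 := congrArg (fun φ => φ t) hab
      simp only [RingHom.comp_apply] at h1
      rw [h1, (RingHom.mem_ker).1 ht, map_zero]
    refine ⟨RingHom.liftOfRightInverse f' (Function.surjInv hsurj)
      (Function.rightInverse_surjInv hsurj) ⟨a, hk⟩, ?_, ?_⟩
    · exact RingHom.liftOfRightInverse_comp f' _ _ ⟨a, hk⟩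
    · ext s
      obtain ⟨t, rfl⟩ := hf s
      have h1 := congrArg (fun φ => φ t) hw
      have h2 := congrArg (fun φ => φ t) hab
      simp only [RingHom.comp_apply] at h1 h2 ⊢
      rw [← h1, RingHom.liftOfRightInverse_comp_apply]
      exact h2
  · intro Z _ w w' h1 _
    ext b
    obtain ⟨y, rfl⟩ := hsurj b
    exact congrArg (fun φ => φ y) h1

theorem surj_ker_of_isPushout_surj {R S P Q : Type u} [CommRing R] [CommRing S] [CommRing P]
    [CommRing Q] (f : R →+* S) (hf : Function.Surjective f) (g : R →+* P) (f' : P →+* Q)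
    (g' : S →+* Q)
    (hpo : IsPushout (CommRingCat.ofHom f) (CommRingCat.ofHom g) (CommRingCat.ofHom g')
      (CommRingCat.ofHom f')) :
    Function.Surjective f' ∧ RingHom.ker f' = (RingHom.ker f).map g := by
  have hw : ∀ r, g' (f r) = f' (g r) := fun r => congrArg (fun φ => φ.hom r) hpo.w
  set K := (RingHom.ker f).map g with hK
  let mkK : P →+* P ⧸ K := Ideal.Quotient.mk K
  have hker0 : RingHom.ker f ≤ RingHom.ker (mkK.comp g) := by
    intro r hr
    rw [RingHom.mem_ker, RingHom.comp_apply]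
    exact Ideal.Quotient.eq_zero_iff_mem.2 (Ideal.mem_map_of_mem _ hr)
  let h : S →+* P ⧸ K := RingHom.liftOfRightInverse f (Function.surjInv hf)
    (Function.rightInverse_surjInv hf) ⟨mkK.comp g, hker0⟩
  have hh : ∀ r, h (f r) = mkK (g r) := fun r =>
    RingHom.liftOfRightInverse_comp_apply f _ _ ⟨mkK.comp g, hker0⟩ r
  have hcc : CommRingCat.ofHom f ≫ CommRingCat.ofHom h =
      CommRingCat.ofHom g ≫ CommRingCat.ofHom mkK := by
    ext r
    exact hh r
  let d := hpo.desc (CommRingCat.ofHom h) (CommRingCat.ofHom mkK) hcc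
  have hd1 : CommRingCat.ofHom g' ≫ d = CommRingCat.ofHom h := hpo.inl_desc _ _ _
  have hd2 : CommRingCat.ofHom f' ≫ d = CommRingCat.ofHom mkK := hpo.inr_desc _ _ _
  have hd2' : ∀ y, d.hom (f' y) = mkK y := fun y => congrArg (fun φ => φ.hom y) hd2
  have hd1' : ∀ s, d.hom (g' s) = h s := fun s => congrArg (fun φ => φ.hom s) hd1
  have hle : K ≤ RingHom.ker f' := by
    rw [hK, Ideal.map_le_iff_le_comap]
    intro r hr
    rw [Ideal.mem_comap, RingHom.mem_ker, ← hw, (RingHom.mem_ker).1 hr, map_zero]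
  let e : P ⧸ K →+* Q := Ideal.Quotient.lift K f' (fun y hy => (RingHom.mem_ker).1 (hle hy))
  have he : ∀ y, e (mkK y) = f' y := fun y => rfl
  have hed : d ≫ CommRingCat.ofHom e = 𝟙 _ := by
    apply hpo.hom_ext
    · rw [← Category.assoc, hd1, Category.comp_id]
      ext s
      obtain ⟨r, rfl⟩ := hf s
      show e (h (f r)) = g' (f r)
      rw [hh, he, hw]
    · rw [← Category.assoc, hd2, Category.comp_id]
      ext y
      exact he y
  have hed' : ∀ q, e (d.hom q) = q := fun q => congrArg (fun φ => φ.hom q) hed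
  refine ⟨fun q => ?_, le_antisymm ?_ hle⟩
  · obtain ⟨y, hy⟩ := Ideal.Quotient.mk_surjective (d.hom q)
    refine ⟨y, ?_⟩
    rw [← he, show mkK y = d.hom q from hy, hed']
  · intro y hy
    have h1 : mkK y = 0 := by rw [← hd2', (RingHom.mem_ker).1 hy, map_zero]
    exact Ideal.Quotient.eq_zero_iff_mem.1 h1

theorem isPushout_of_isPullback_Spec {R S P Q : CommRingCat.{u}} (f : R ⟶ S) (g : R ⟶ P)
    (g' : S ⟶ Q) (f' : P ⟶ Q)
    (h : IsPullback (Spec.map f') (Spec.map g') (Spec.map g) (Spec.map f)) :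
    IsPushout f g g' f' := by
  have hw : f ≫ g' = g ≫ f' := by
    apply Spec.map_injective
    rw [Spec.map_comp, Spec.map_comp]
    exact h.w.symm
  have hpb : IsPullback f'.op g'.op g.op f.op :=
    IsPullback.of_map Scheme.Spec (by rw [← op_comp, ← op_comp, hw]) h
  exact hpb.unop

end Pushout

/-! ### Pairs (extension of the deformation, identification of its restriction) -/

section Pairs

variable {k : Type u} [Field k] {B₀ : Type u} [CommRing B₀] [Algebra k B₀]

/-- Deformations of `Spec B₀` over `A`. -/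
abbrev Def0 (k B₀ : Type u) [Field k] [CommRing B₀] [Algebra k B₀] (A : Art k k) : Type (u + 1) :=
  DefSch (Spec (CommRingCat.of B₀)) (Spec.map (CommRingCat.ofHom (algebraMap k B₀))) A

variable {C' C : Art k k} (p : C' ⟶ C) (𝒳 : Def0 k B₀ C)

/-- Extensions of `𝒳` over `C'`. -/
abbrev Pair : Type (u + 1) := Σ 𝒳' : Def0 k B₀ C', (𝒳'.baseChange p).Iso 𝒳

/-- The relation of the statement. -/
def pairRel (a b : Pair p 𝒳) : Prop :=
  ∃ ψ : a.1.Iso b.1, ((ψ.baseChange p).trans b.2).iso = a.2.iso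

variable {p 𝒳}

/-- The closed immersion `𝒳 → 𝒳'` attached to a pair. -/
noncomputable def jOf (a : Pair p 𝒳) : 𝒳.total ⟶ a.1.total :=
  a.2.iso.inv ≫ pullback.fst a.1.f (specMap p)

theorem inv_snd (a : Pair p 𝒳) : a.2.iso.inv ≫ pullback.snd a.1.f (specMap p) = 𝒳.f := by
  rw [Iso.inv_comp_eq]
  exact a.2.hom_f.symm

theorem jOf_f (a : Pair p 𝒳) : jOf a ≫ a.1.f = 𝒳.f ≫ specMap p := by
  unfold jOf
  rw [Category.assoc, pullback.condition, ← Category.assoc, inv_snd]

theorem i_jOf (a : Pair p 𝒳) : 𝒳.i ≫ jOf a = a.1.i := by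
  unfold jOf
  have h1 : 𝒳.i ≫ a.2.iso.inv = (a.1.baseChange p).i := by
    rw [Iso.comp_inv_eq]
    exact a.2.i_hom.symm
  rw [← Category.assoc, h1]
  exact DefSch.baseChange_i_fst a.1 p

theorem hom_jOf (a : Pair p 𝒳) : a.2.iso.hom ≫ jOf a = pullback.fst a.1.f (specMap p) := by
  unfold jOf
  rw [← Category.assoc, Iso.hom_inv_id, Category.id_comp]

theorem isPullback_jOf (a : Pair p 𝒳) : IsPullback (jOf a) 𝒳.f a.1.f (specMap p) :=
  IsPullback.of_iso (IsPullback.of_hasPullback a.1.f (specMap p)) a.2.iso (Iso.refl _)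
    (Iso.refl _) (Iso.refl _)
    (by rw [Iso.refl_hom, Category.comp_id, hom_jOf])
    (by rw [Iso.refl_hom, Category.comp_id]; exact a.2.hom_f.symm)
    (by rw [Iso.refl_hom, Iso.refl_hom, Category.comp_id, Category.id_comp])
    (by rw [Iso.refl_hom, Iso.refl_hom, Category.comp_id, Category.id_comp])

theorem pairRel_iff (a b : Pair p 𝒳) :
    pairRel p 𝒳 a b ↔ ∃ ψ : a.1.Iso b.1, jOf a ≫ ψ.iso.hom = jOf b := by
  constructor
  · rintro ⟨ψ, hψ⟩
    refine ⟨ψ, ?_⟩
    have h1 : (ψ.baseChange p).iso.hom ≫ b.2.iso.hom = a.2.iso.hom :=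
      congrArg Iso.hom hψ
    have h2 : a.2.iso.hom ≫ jOf b = pullback.fst a.1.f (specMap p) ≫ ψ.iso.hom := by
      rw [← h1, Category.assoc, hom_jOf]
      exact DefSch.pullMap_fst ψ.iso.hom ψ.hom_f p
    have h3 : jOf a ≫ ψ.iso.hom = a.2.iso.inv ≫ (a.2.iso.hom ≫ jOf b) := by
      rw [h2]
      unfold jOf
      rw [Category.assoc]
    rw [h3, ← Category.assoc, Iso.inv_hom_id, Category.id_comp]
  · rintro ⟨ψ, hψ⟩
    refine ⟨ψ, ?_⟩
    apply Iso.ext
    show (ψ.baseChange p).iso.hom ≫ b.2.iso.hom = a.2.iso.hom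
    rw [← Iso.eq_comp_inv]
    apply pullback.hom_ext
    · have h1 : (ψ.baseChange p).iso.hom ≫ pullback.fst b.1.f (specMap p) =
          pullback.fst a.1.f (specMap p) ≫ ψ.iso.hom :=
        DefSch.pullMap_fst ψ.iso.hom ψ.hom_f p
      rw [h1, Category.assoc]
      have h2 : b.2.iso.inv ≫ pullback.fst b.1.f (specMap p) = jOf b := rfl
      rw [h2, ← hψ, ← Category.assoc, hom_jOf]
    · have h1 : (ψ.baseChange p).iso.hom ≫ pullback.snd b.1.f (specMap p) =
          pullback.snd a.1.f (specMap p) :=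
        DefSch.pullMap_snd ψ.iso.hom ψ.hom_f p
      rw [h1, Category.assoc, inv_snd]
      exact a.2.hom_f.symm

theorem pairRel_equivalence : Equivalence (pairRel p 𝒳) := by
  refine ⟨fun a => ?_, fun {a b} h => ?_, fun {a b d} h h' => ?_⟩
  · rw [pairRel_iff]
    exact ⟨DefSch.Iso.refl a.1, Category.comp_id _⟩
  · rw [pairRel_iff] at h ⊢
    obtain ⟨ψ, hψ⟩ := h
    refine ⟨ψ.symm, ?_⟩
    show jOf b ≫ ψ.iso.inv = jOf a
    rw [← hψ, Category.assoc, Iso.hom_inv_id, Category.comp_id]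
  · rw [pairRel_iff] at h h' ⊢
    obtain ⟨ψ, hψ⟩ := h
    obtain ⟨ψ', hψ'⟩ := h'
    refine ⟨ψ.trans ψ', ?_⟩
    show jOf a ≫ ψ.iso.hom ≫ ψ'.iso.hom = jOf d
    rw [← Category.assoc, hψ, hψ']

end Pairs

/-! ### Lifts and pairs -/

section LiftPair

variable {k : Type u} [Field k] {B₀ : Type u} [CommRing B₀] [Algebra k B₀]
  {C' C : Art k k} (p : C' ⟶ C) (𝒳 : Def0 k B₀ C)
  (E : CommRingCat.{u}) (α : CommRingCat.of C ⟶ E) (c : E ⟶ CommRingCat.of B₀)
  (ψ₀ : 𝒳.total ≅ Spec E)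
  (hf : ψ₀.inv ≫ 𝒳.f = Spec.map α) (hi : 𝒳.i ≫ ψ₀.hom = Spec.map c)
  (hB : IsBase C.res p.toAlgHom α.hom c.hom)

include hB in
theorem lift_hw (L : Lift p.toAlgHom α.hom) :
    (L.q c.hom).comp L.a = (algebraMap k B₀).comp C'.res.toRingHom := by
  ext t
  show L.q c.hom (L.a t) = algebraMap k B₀ (C'.res t)
  rw [L.q_a hB]
  congr 1
  exact Art.res_app p t

include hB in
theorem lift_hker (L : Lift p.toAlgHom α.hom) :
    RingHom.ker (L.q c.hom) ≤ (RingHom.ker C'.res.toRingHom).map L.a := by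
  rw [L.ker_q hB, p.res_comp]
  exact le_of_eq rfl

/-- The deformation over `C'` attached to a lift. -/
noncomputable def defOfLift (L : Lift p.toAlgHom α.hom) : Def0 k B₀ C' :=
  DefDual.mkDef C' L.E' L.a (L.q c.hom) L.flat (lift_hw p E α c hB L) (L.q_surj hB)
    (lift_hker p E α c hB L)

theorem defOfLift_f (L : Lift p.toAlgHom α.hom) :
    (defOfLift p E α c hB L).f = Spec.map (CommRingCat.ofHom L.a) := rfl

theorem defOfLift_i (L : Lift p.toAlgHom α.hom) :
    (defOfLift p E α c hB L).i = Spec.map (CommRingCat.ofHom (L.q c.hom)) := rfl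

/-- The closed immersion `𝒳 → Spec E'`. -/
noncomputable def jLift (L : Lift p.toAlgHom α.hom) :
    𝒳.total ⟶ (defOfLift p E α c hB L).total :=
  ψ₀.hom ≫ Spec.map (CommRingCat.ofHom L.π)

include hf in
theorem isPullback_jLift (L : Lift p.toAlgHom α.hom) :
    IsPullback (jLift p 𝒳 E α c ψ₀ hB L) 𝒳.f (defOfLift p E α c hB L).f (specMap p) := by
  have hpo : IsPushout (CommRingCat.ofHom L.a) (CommRingCat.ofHom p.toAlgHom.toRingHom)
      (CommRingCat.ofHom L.π) (CommRingCat.ofHom α.hom) :=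
    isPushout_of_surj_ker p.toAlgHom.toRingHom hB.p_surj L.a L.π α.hom
      (RingHom.ext fun t => L.comm t) L.surj (le_of_eq L.ker)
  have hpb := isPullback_SpecMap_of_isPushout _ _ _ _ hpo
  show IsPullback (ψ₀.hom ≫ Spec.map (CommRingCat.ofHom L.π)) 𝒳.f
    (Spec.map (CommRingCat.ofHom L.a)) (specMap p)
  refine IsPullback.of_iso hpb ψ₀.symm (Iso.refl _) (Iso.refl _) (Iso.refl _) ?_ ?_ ?_ ?_
  · rw [Iso.refl_hom, Category.comp_id, Iso.symm_hom, Iso.inv_hom_id_assoc]
  · rw [Iso.refl_hom, Category.comp_id, Iso.symm_hom, hf]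
    rfl
  · rw [Iso.refl_hom, Iso.refl_hom, Category.comp_id, Category.id_comp]
  · rw [Iso.refl_hom, Iso.refl_hom, Category.comp_id, Category.id_comp]

include hi in
theorem i_jLift (L : Lift p.toAlgHom α.hom) :
    𝒳.i ≫ jLift p 𝒳 E α c ψ₀ hB L = (defOfLift p E α c hB L).i := by
  show 𝒳.i ≫ ψ₀.hom ≫ Spec.map (CommRingCat.ofHom L.π) =
    Spec.map (CommRingCat.ofHom (L.q c.hom))
  rw [← Category.assoc, hi, ← Spec.map_comp]
  rfl

/-- The identification of the restriction of `defOfLift L` with `𝒳`. -/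
noncomputable def isoOfLift (L : Lift p.toAlgHom α.hom) :
    ((defOfLift p E α c hB L).baseChange p).Iso 𝒳 where
  iso := (IsPullback.of_hasPullback (defOfLift p E α c hB L).f (specMap p)).isoIsPullback _ _
    (isPullback_jLift p 𝒳 E α c ψ₀ hf hB L)
  hom_f := IsPullback.isoIsPullback_hom_snd _ _ _ _
  i_hom := by
    apply (isPullback_jLift p 𝒳 E α c ψ₀ hf hB L).hom_ext
    · rw [Category.assoc, IsPullback.isoIsPullback_hom_fst, DefSch.baseChange_i_fst,
        i_jLift p 𝒳 E α c ψ₀ hi hB L]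
    · rw [Category.assoc, IsPullback.isoIsPullback_hom_snd, DefSch.baseChange_i_f, 𝒳.i_f]

/-- The pair attached to a lift. -/
noncomputable def pairOfLift (L : Lift p.toAlgHom α.hom) : Pair p 𝒳 :=
  ⟨defOfLift p E α c hB L, isoOfLift p 𝒳 E α c ψ₀ hf hi hB L⟩

theorem jOf_pairOfLift (L : Lift p.toAlgHom α.hom) :
    jOf (pairOfLift p 𝒳 E α c ψ₀ hf hi hB L) = jLift p 𝒳 E α c ψ₀ hB L :=
  IsPullback.isoIsPullback_inv_fst _ _ _ _

theorem pairRel_of_liftHom {L L' : Lift p.toAlgHom α.hom} (h : LiftHom L L') :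
    pairRel p 𝒳 (pairOfLift p 𝒳 E α c ψ₀ hf hi hB L) (pairOfLift p 𝒳 E α c ψ₀ hf hi hB L') := by
  rw [pairRel_iff, jOf_pairOfLift, jOf_pairOfLift]
  have e1 : ∀ y, (h.symm hB).θ (h.θ y) = y := h.symm_θ_θ hB
  have e2 : ∀ y, h.θ ((h.symm hB).θ y) = y := h.θ_symm_θ hB
  let ψ : (defOfLift p E α c hB L).Iso (defOfLift p E α c hB L') :=
    { iso :=
        { hom := Spec.map (CommRingCat.ofHom (h.symm hB).θ)
          inv := Spec.map (CommRingCat.ofHom h.θ)
          hom_inv_id := by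
            show Spec.map (CommRingCat.ofHom (h.symm hB).θ) ≫ Spec.map (CommRingCat.ofHom h.θ) =
              𝟙 (Spec (CommRingCat.of L.E'))
            rw [← Spec.map_comp, ← Spec.map_id]
            congr 1
            exact CommRingCat.hom_ext (RingHom.ext e1)
          inv_hom_id := by
            show Spec.map (CommRingCat.ofHom h.θ) ≫ Spec.map (CommRingCat.ofHom (h.symm hB).θ) =
              𝟙 (Spec (CommRingCat.of L'.E'))
            rw [← Spec.map_comp, ← Spec.map_id]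
            congr 1
            exact CommRingCat.hom_ext (RingHom.ext e2) }
      hom_f := by
        show Spec.map (CommRingCat.ofHom (h.symm hB).θ) ≫ Spec.map (CommRingCat.ofHom L'.a) =
          Spec.map (CommRingCat.ofHom L.a)
        rw [← Spec.map_comp]
        congr 1
        exact CommRingCat.hom_ext (RingHom.ext (h.symm hB).comp_a)
      i_hom := by
        show Spec.map (CommRingCat.ofHom (L.q c.hom)) ≫
          Spec.map (CommRingCat.ofHom (h.symm hB).θ) = Spec.map (CommRingCat.ofHom (L'.q c.hom))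
        rw [← Spec.map_comp]
        congr 1
        exact CommRingCat.hom_ext (RingHom.ext ((h.symm hB).q_comp hB)) }
  refine ⟨ψ, ?_⟩
  show (ψ₀.hom ≫ Spec.map (CommRingCat.ofHom L.π)) ≫ Spec.map (CommRingCat.ofHom (h.symm hB).θ) =
    ψ₀.hom ≫ Spec.map (CommRingCat.ofHom L'.π)
  rw [Category.assoc, ← Spec.map_comp]
  congr 2
  exact CommRingCat.hom_ext (RingHom.ext (h.symm hB).π_comp)

theorem liftHom_of_pairRel {L L' : Lift p.toAlgHom α.hom}
    (h : pairRel p 𝒳 (pairOfLift p 𝒳 E α c ψ₀ hf hi hB L)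
      (pairOfLift p 𝒳 E α c ψ₀ hf hi hB L')) : Nonempty (LiftHom L L') := by
  rw [pairRel_iff, jOf_pairOfLift, jOf_pairOfLift] at h
  obtain ⟨ψ, hψ⟩ := h
  let t' : CommRingCat.of L.E' ⟶ CommRingCat.of L'.E' := Spec.preimage ψ.iso.inv
  have ht' : Spec.map t' = ψ.iso.inv := Spec.map_preimage _
  have h1 : CommRingCat.ofHom L.a ≫ t' = CommRingCat.ofHom L'.a := by
    apply Spec.map_injective
    rw [Spec.map_comp, ht']
    exact ψ.symm.hom_f
  have h2 : t' ≫ CommRingCat.ofHom L'.π = CommRingCat.ofHom L.π := by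
    apply Spec.map_injective
    rw [Spec.map_comp, ht']
    have h3 : jLift p 𝒳 E α c ψ₀ hB L = jLift p 𝒳 E α c ψ₀ hB L' ≫ ψ.iso.inv :=
      ((Iso.comp_inv_eq ψ.iso).2 hψ.symm).symm
    have h3' : ψ₀.hom ≫ Spec.map (CommRingCat.ofHom L.π) =
        ψ₀.hom ≫ (Spec.map (CommRingCat.ofHom L'.π) ≫ ψ.iso.inv) :=
      h3.trans (Category.assoc _ _ _)
    exact ((cancel_epi ψ₀.hom).1 h3').symm
  exact ⟨{ θ := t'.hom
           comp_a := fun t => congrArg (fun φ => φ.hom t) h1
           π_comp := fun y => congrArg (fun φ => φ.hom y) h2 }⟩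

include hf hi hB in
theorem exists_lift_of_pair (a : Pair p 𝒳) :
    ∃ L : Lift p.toAlgHom α.hom, pairRel p 𝒳 a (pairOfLift p 𝒳 E α c ψ₀ hf hi hB L) := by
  obtain ⟨E', α', c', ψ', hflat', hsurj', hker', hw', hf', hi'⟩ :=
    DefDual.exists_ringData C' a.1
  let π : E' ⟶ E := Spec.preimage (ψ₀.inv ≫ jOf a ≫ ψ'.hom)
  have hπ : Spec.map π = ψ₀.inv ≫ jOf a ≫ ψ'.hom := Spec.map_preimage _
  have hsq : IsPullback (Spec.map π) (Spec.map α) (Spec.map α')
      (Spec.map (CommRingCat.ofHom p.toAlgHom.toRingHom)) := by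
    refine IsPullback.of_iso (isPullback_jOf a) ψ₀ ψ' (Iso.refl _) (Iso.refl _) ?_ ?_ ?_ ?_
    · rw [hπ, Iso.hom_inv_id_assoc]
    · rw [Iso.refl_hom, Category.comp_id, ← hf, Iso.hom_inv_id_assoc]
    · rw [Iso.refl_hom, Category.comp_id, ← hf', Iso.hom_inv_id_assoc]
    · rw [Iso.refl_hom, Iso.refl_hom, Category.comp_id, Category.id_comp]
  have hpo : IsPushout (CommRingCat.ofHom p.toAlgHom.toRingHom) α' α π :=
    isPushout_of_isPullback_Spec _ _ _ _ hsq
  have hcomm : ∀ t, π.hom (α'.hom t) = α.hom (p.toAlgHom t) := fun t =>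
    (congrArg (fun φ => φ.hom t) hpo.w).symm
  obtain ⟨hsurjπ, hkerπ⟩ := surj_ker_of_isPushout_surj p.toAlgHom.toRingHom hB.p_surj α'.hom
    π.hom α.hom hpo
  let L : Lift p.toAlgHom α.hom :=
    { E' := E'
      a := α'.hom
      π := π.hom
      flat := hflat'
      surj := hsurjπ
      comm := hcomm
      ker := hkerπ }
  have hc' : π ≫ c = c' := by
    apply Spec.map_injective
    rw [Spec.map_comp, hπ, ← hi, ← hi', Category.assoc, Iso.hom_inv_id_assoc, ← Category.assoc,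
      i_jOf]
  refine ⟨L, ?_⟩
  rw [pairRel_iff, jOf_pairOfLift]
  refine ⟨{ iso := ψ', hom_f := ?_, i_hom := ?_ }, ?_⟩
  · show ψ'.hom ≫ Spec.map (CommRingCat.ofHom α'.hom) = a.1.f
    exact ((Iso.inv_comp_eq ψ').1 hf').symm
  · show a.1.i ≫ ψ'.hom = Spec.map (CommRingCat.ofHom (c.hom.comp π.hom))
    rw [hi', ← hc']
    rfl
  · show jOf a ≫ ψ'.hom = ψ₀.hom ≫ Spec.map (CommRingCat.ofHom π.hom)
    have h3 : Spec.map (CommRingCat.ofHom π.hom) = Spec.map π := rfl
    rw [h3, hπ, Iso.hom_inv_id_assoc]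

end LiftPair

end Groth.Agent.Lib.R2H7.DefLift
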