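/-
Abstract algebra for lifting flat deformations of local complete intersections along small
extensions: a tensor vanishing criterion, the splitting lemma producing a retraction from a
projective conormal module, the ideal cut out by a retraction, a flatness criterion for small
extensions and an annihilator lemma for flat modules.
-/
import Mathlib
import Groth.Agent.Lib.Helper5NilFlat
import Groth.Agent.Lib.R2H7RigidAffine

set_option autoImplicit false
universe u
open TensorProduct

namespace Groth.Agent.Lib.R2H7.LciLift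

/-! ### `1 ⊗ m = 0` over a quotient -/

section LemmaT

variable {R S M : Type u} [CommRing R] [CommRing S] [Algebra R S] [AddCommGroup M] [Module R M]

theorem mem_smul_top_of_one_tmul_eq_zero (hS : Function.Surjective (algebraMap R S)) (m : M)
    (h : (1 : S) ⊗ₜ[R] m = 0) :
    m ∈ RingHom.ker (algebraMap R S) • (⊤ : Submodule R M) := by
  let e : (R ⧸ RingHom.ker (algebraMap R S)) ≃+* S := RingHom.quotientKerEquivOfSurjective hS
  let eL : S ≃ₗ[R] (R ⧸ RingHom.ker (algebraMap R S)) :=
    { e.symm.toAddEquiv with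
      map_smul' := fun r x => by
        obtain ⟨y, rfl⟩ := hS x
        show e.symm (r • algebraMap R S y) = r • e.symm (algebraMap R S y)
        rw [Algebra.smul_def, ← map_mul, RingHom.quotientKerEquivOfSurjective_symm_apply,
          RingHom.quotientKerEquivOfSurjective_symm_apply, map_mul, Algebra.smul_def]
        rfl }
  have h1 : eL 1 = 1 := map_one e.symm
  have h2 := congrArg (TensorProduct.congr eL (LinearEquiv.refl R M)) h
  rw [TensorProduct.congr_tmul, map_zero, h1, LinearEquiv.refl_apply] at h2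
  have h3 := congrArg
    (TensorProduct.quotTensorEquivQuotSMul M (RingHom.ker (algebraMap R S))) h2
  rw [TensorProduct.quotTensorEquivQuotSMul_mk_one_tmul, map_zero,
    Submodule.Quotient.mk_eq_zero] at h3
  exact h3

end LemmaT

/-! ### The splitting lemma -/

section Split

variable {R S C : Type u} [CommRing R] [CommRing S] [Algebra R S] [AddCommGroup C] [Module S C]
  [Module R C] [IsScalarTower R S C]

theorem exists_retraction (hS : Function.Surjective (algebraMap R S)) (J : Ideal R) (τ : J)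
    (θ : J →ₗ[R] C) (hθ : Function.Surjective θ) (hτ : θ τ = 0)
    (hker : ∀ z : J, θ z = 0 →
      ∃ r : R, z - r • τ ∈ RingHom.ker (algebraMap R S) • (⊤ : Submodule R J))
    (hinj : ∀ r : R, r • τ ∈ RingHom.ker (algebraMap R S) • (⊤ : Submodule R J) →
      algebraMap R S r = 0)
    [Module.Projective S C] :
    ∃ ρ : J →ₗ[R] S, ρ τ = 1 := by
  let θ' : S ⊗[R] J →ₗ[S] C := θ.liftBaseChange S
  have hθ'1 : ∀ z : J, θ' ((1 : S) ⊗ₜ[R] z) = θ z := fun z => by
    show (1 : S) • θ z = θ z
    rw [one_smul]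
  have hθ' : Function.Surjective θ' := fun c => by
    obtain ⟨z, rfl⟩ := hθ c
    exact ⟨1 ⊗ₜ z, hθ'1 z⟩
  obtain ⟨s, hs⟩ := Module.projective_lifting_property θ' LinearMap.id hθ'
  have hs' : ∀ c, θ' (s c) = c := fun c => LinearMap.congr_fun hs c
  let ι : S →ₗ[S] S ⊗[R] J := LinearMap.toSpanSingleton S _ ((1 : S) ⊗ₜ[R] τ)
  have hι : ∀ x : S, ι x = x ⊗ₜ[R] τ := fun x => by
    show x • ((1 : S) ⊗ₜ[R] τ) = _
    rw [TensorProduct.smul_tmul', smul_eq_mul, mul_one]
  have one_tmul_zero : ∀ w : J,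
      w ∈ RingHom.ker (algebraMap R S) • (⊤ : Submodule R J) → (1 : S) ⊗ₜ[R] w = 0 := by
    intro w hw
    refine Submodule.smul_induction_on hw ?_ ?_
    · intro κ hκ z _
      rw [← TensorProduct.smul_tmul, Algebra.smul_def, mul_one, (RingHom.mem_ker).1 hκ,
        TensorProduct.zero_tmul]
    · intro x y hx hy
      rw [TensorProduct.tmul_add, hx, hy, add_zero]
  have hιinj : Function.Injective ι := by
    rw [injective_iff_map_eq_zero]
    intro x hx
    obtain ⟨r, rfl⟩ := hS x
    apply hinj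
    apply mem_smul_top_of_one_tmul_eq_zero hS
    rw [hι] at hx
    rw [← TensorProduct.smul_tmul, Algebra.smul_def, mul_one]
    exact hx
  have hrange : ∀ n : S ⊗[R] J, θ' n = 0 → ∃ x : S, ι x = n := by
    intro n hn
    obtain ⟨z, rfl⟩ := TensorProduct.mk_surjective R J S hS n
    have hz : θ z = 0 := by
      rw [← hθ'1]
      exact hn
    obtain ⟨r, hr⟩ := hker z hz
    refine ⟨algebraMap R S r, ?_⟩
    rw [hι]
    have h1 := one_tmul_zero _ hr
    rw [TensorProduct.tmul_sub, sub_eq_zero] at h1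
    show _ = (1 : S) ⊗ₜ[R] z
    rw [h1, ← TensorProduct.smul_tmul, Algebra.smul_def, mul_one]
  let g : S ⊗[R] J →ₗ[S] S ⊗[R] J := LinearMap.id - s ∘ₗ θ'
  have hg : ∀ n, g n ∈ LinearMap.range ι := by
    intro n
    obtain ⟨x, hx⟩ := hrange (g n) (by
      show θ' (n - s (θ' n)) = 0
      rw [map_sub, hs', sub_self])
    exact ⟨x, hx⟩
  let r₀ : S ⊗[R] J →ₗ[S] S :=
    (LinearEquiv.ofInjective ι hιinj).symm.toLinearMap ∘ₗ (g.codRestrict (LinearMap.range ι) hg)
  refine ⟨(r₀.restrictScalars R) ∘ₗ (TensorProduct.mk R S J 1), ?_⟩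
  show r₀ ((1 : S) ⊗ₜ[R] τ) = 1
  have h1 : g ((1 : S) ⊗ₜ[R] τ) = ι 1 := by
    show (1 : S) ⊗ₜ[R] τ - s (θ' ((1 : S) ⊗ₜ[R] τ)) = ι 1
    rw [hι, hθ'1, hτ, map_zero, sub_zero]
  apply (LinearEquiv.ofInjective ι hιinj).injective
  show (LinearEquiv.ofInjective ι hιinj) ((LinearEquiv.ofInjective ι hιinj).symm _) = _
  rw [LinearEquiv.apply_symm_apply]
  apply Subtype.ext
  exact h1

end Split

/-! ### The ideal cut out by a retraction -/

section FromRetraction

variable {R S : Type u} [CommRing R] [CommRing S] [Algebra R S]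

/-- The kernel of `ρ : J → S`, as an ideal of `R`. -/
def liftIdeal (J : Ideal R) (ρ : J →ₗ[R] S) : Ideal R := (LinearMap.ker ρ).map J.subtype

theorem liftIdeal_le (J : Ideal R) (ρ : J →ₗ[R] S) : liftIdeal J ρ ≤ J := by
  rintro _ ⟨z, _, rfl⟩
  exact z.2

theorem mem_liftIdeal_iff (J : Ideal R) (ρ : J →ₗ[R] S) (z : J) :
    (z : R) ∈ liftIdeal J ρ ↔ ρ z = 0 := by
  constructor
  · rintro ⟨w, hw, hwz⟩
    have : w = z := Subtype.ext hwz
    rw [← this]
    exact hw
  · intro h
    exact ⟨z, h, rfl⟩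

theorem exists_sub_mem_liftIdeal (hS : Function.Surjective (algebraMap R S)) (J : Ideal R)
    (ρ : J →ₗ[R] S) (τ : J) (hτ : ρ τ = 1) (z : J) :
    ∃ r : R, (z : R) - r * τ ∈ liftIdeal J ρ := by
  obtain ⟨r, hr⟩ := hS (ρ z)
  refine ⟨r, ?_⟩
  have h0 : ρ (z - r • τ) = 0 := by
    rw [map_sub, map_smul, hτ, Algebra.smul_def, mul_one, hr, sub_self]
  exact (mem_liftIdeal_iff J ρ (z - r • τ)).2 h0

theorem algebraMap_eq_zero_of_mul_mem (J : Ideal R) (ρ : J →ₗ[R] S) (τ : J) (hτ : ρ τ = 1)
    (r : R) (h : r * (τ : R) ∈ liftIdeal J ρ) : algebraMap R S r = 0 := by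
  have h0 := (mem_liftIdeal_iff J ρ (r • τ)).1 h
  rwa [map_smul, hτ, Algebra.smul_def, mul_one] at h0

end FromRetraction

/-! ### Annihilators in flat modules -/

section Ann

theorem mem_smul_top_of_mul_eq_zero {B Q : Type u} [CommRing B] [IsLocalRing B] [CommRing Q]
    [Algebra B Q] [Module.Flat B Q] (t : B) (ht0 : t ≠ 0) (y : Q)
    (hy : algebraMap B Q t * y = 0) :
    y ∈ IsLocalRing.maximalIdeal B • (⊤ : Submodule B Q) := by
  have h0 : t • y ∈ (⊥ : Ideal B) • (⊤ : Submodule B Q) := by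
    rw [show t • y = algebraMap B Q t * y from Algebra.smul_def t y, hy]
    exact Submodule.zero_mem _
  obtain ⟨n, a, ys, ha, rfl⟩ := RigidAffine.mem_colon_smul_top ⊥ t y h0
  refine Submodule.sum_mem _ fun j _ => Submodule.smul_mem_smul ?_ trivial
  by_contra hu
  have hunit : IsUnit (a j) := by
    rwa [IsLocalRing.mem_maximalIdeal, mem_nonunits_iff, not_not] at hu
  have h1 : t * a j = 0 := by simpa using ha j
  exact ht0 (hunit.mul_left_eq_zero.1 h1)

end Ann

/-! ### Flatness over a small extension -/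

section Flat

theorem flat_of_small {B A E' E : Type u} [CommRing B] [IsLocalRing B] [IsArtinianRing B]
    [CommRing A] [CommRing E'] [CommRing E] [Algebra B E'] [Algebra A E] [Module.Flat A E]
    (p : B →+* A) (hp : Function.Surjective p) (t : B) (hker : RingHom.ker p = Ideal.span {t})
    (htm : t ∈ IsLocalRing.maximalIdeal B)
    (ht : ∀ x ∈ IsLocalRing.maximalIdeal B, x * t = 0)
    (q : E' →+* E) (hq : Function.Surjective q)
    (hqa : ∀ b, q (algebraMap B E' b) = algebraMap A E (p b))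
    (hkq : ∀ y, q y = 0 → ∃ z, y = algebraMap B E' t * z)
    (hann : ∀ y : E', algebraMap B E' t * y = 0 →
      y ∈ IsLocalRing.maximalIdeal B • (⊤ : Submodule B E')) :
    Module.Flat B E' := by
  classical
  have hnil : IsNilpotent (IsLocalRing.maximalIdeal B) :=
    Groth.Agent.Lib.Helper19.isNilpotent_maximalIdeal_of_artinian B
  letI : Field (B ⧸ IsLocalRing.maximalIdeal B) := Ideal.Quotient.field _
  refine Groth.Agent.Lib.Helper5.flat_of_isNilpotent (IsLocalRing.maximalIdeal B) hnil ?_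
    inferInstance
  let T : IsLocalRing.maximalIdeal B := ⟨t, htm⟩
  have hμT : ∀ μ ∈ IsLocalRing.maximalIdeal B, μ • T = 0 := fun μ hμ =>
    Subtype.ext (by show μ * t = 0; exact ht μ hμ)
  have key0 : ∀ w : E', w ∈ IsLocalRing.maximalIdeal B • (⊤ : Submodule B E') →
      w ⊗ₜ[B] T = 0 := by
    intro w hw
    refine Submodule.smul_induction_on hw ?_ ?_
    · intro μ hμ z _
      rw [TensorProduct.smul_tmul, hμT μ hμ, TensorProduct.tmul_zero]
    · intro x y hx hy
      rw [TensorProduct.add_tmul, hx, hy, add_zero]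
  rw [injective_iff_map_eq_zero]
  intro x hx
  obtain ⟨S, rfl⟩ := TensorProduct.exists_finset x
  rw [← Finset.sum_coe_sort S (fun i => i.1 ⊗ₜ[B] i.2)] at hx ⊢
  let e : S → E' := fun i => i.1.1
  let μ : S → IsLocalRing.maximalIdeal B := fun i => i.1.2
  have hrel : ∑ i, (μ i : B) • e i = 0 := by
    have h1 := congrArg (TensorProduct.rid B E') hx
    rw [map_sum, map_sum, map_zero] at h1
    rw [← h1]
    refine Finset.sum_congr rfl fun i _ => ?_
    show _ = TensorProduct.rid B E' (e i ⊗ₜ[B] ((μ i : B)))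
    rw [TensorProduct.rid_tmul]
  have hrelE : ∑ i, p (μ i : B) • q (e i) = 0 := by
    have h1 := congrArg q hrel
    rw [map_sum, map_zero] at h1
    rw [← h1]
    refine Finset.sum_congr rfl fun i _ => ?_
    rw [Algebra.smul_def, Algebra.smul_def, map_mul, hqa]
  obtain ⟨κ, a, y, hxy, hay⟩ := Module.Flat.isTrivialRelation_of_sum_smul_eq_zero (R := A)
    (M := E) (f := fun i => p (μ i : B)) (x := fun i => q (e i)) hrelE
  choose a' ha' using fun i j => hp (a i j)
  choose y' hy' using fun j => hq (y j)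
  have h1 : ∀ i, ∃ z, e i - ∑ j, a' i j • y' j = algebraMap B E' t * z := fun i => by
    apply hkq
    have hxi : q (e i) = ∑ j, a i j • y j := hxy i
    rw [map_sub, map_sum, hxi, sub_eq_zero]
    refine Finset.sum_congr rfl fun j _ => ?_
    rw [Algebra.smul_def, Algebra.smul_def, map_mul, hqa, ha', hy']
  choose z hz using h1
  have h2 : ∀ j, ∃ b, ∑ i, (μ i : B) * a' i j = b * t := fun j => by
    have hmem : ∑ i, (μ i : B) * a' i j ∈ RingHom.ker p := by
      rw [RingHom.mem_ker, map_sum]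
      have := hay j
      rw [← this]
      refine Finset.sum_congr rfl fun i _ => ?_
      rw [map_mul, ha']
    rw [hker, Ideal.mem_span_singleton'] at hmem
    obtain ⟨b, hb⟩ := hmem
    exact ⟨b, hb.symm⟩
  choose b hb using h2
  have hx' : ∑ i, e i ⊗ₜ[B] μ i = (∑ j, b j • y' j) ⊗ₜ[B] T := by
    have hstep : ∀ i, e i ⊗ₜ[B] μ i = ∑ j, y' j ⊗ₜ[B] (a' i j • μ i) := by
      intro i
      have hei : e i = ∑ j, a' i j • y' j + t • z i := by
        rw [Algebra.smul_def, ← hz i]
        abel
      have htμ : t • μ i = 0 := Subtype.ext (by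
        show t * (μ i : B) = 0
        rw [mul_comm]
        exact ht _ (μ i).2)
      conv_lhs => rw [hei]
      rw [TensorProduct.add_tmul, TensorProduct.smul_tmul, htμ, TensorProduct.tmul_zero,
        add_zero, TensorProduct.sum_tmul]
      refine Finset.sum_congr rfl fun j _ => ?_
      rw [TensorProduct.smul_tmul]
    rw [Finset.sum_congr rfl fun i _ => hstep i, Finset.sum_comm, TensorProduct.sum_tmul]
    refine Finset.sum_congr rfl fun j _ => ?_
    rw [← TensorProduct.tmul_sum, TensorProduct.smul_tmul]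
    congr 1
    apply Subtype.ext
    rw [AddSubmonoidClass.coe_finset_sum]
    show ∑ i, a' i j * (μ i : B) = b j * t
    rw [← hb j]
    refine Finset.sum_congr rfl fun i _ => mul_comm _ _
  have hx2 : (∑ i, e i ⊗ₜ[B] μ i : E' ⊗[B] IsLocalRing.maximalIdeal B) =
      ∑ i : S, i.1.1 ⊗ₜ[B] i.1.2 := rfl
  rw [← hx2, hx'] at hx ⊢
  apply key0
  apply hann
  have h3 := congrArg (TensorProduct.rid B E') hx
  rw [LinearMap.lTensor_tmul, map_zero] at h3
  have h4 : TensorProduct.rid B E' ((∑ j, b j • y' j) ⊗ₜ[B] (t : B)) = t • ∑ j, b j • y' j :=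
    TensorProduct.rid_tmul _ _
  rw [← Algebra.smul_def, ← h4]
  exact h3

end Flat

end Groth.Agent.Lib.R2H7.LciLift
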