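/-
The local Koszul lemma: over a small extension `B → A` of local Artinian rings with residue
field `k`, if `Ĩ ⊂ B[x]` reduces to an ideal `I ⊂ k[x]` which is generated by a Koszul-regular
sequence on `D(g)`, then `t·a ∈ (Ĩ + m)Ĩ` forces `g^N ā ∈ I`.
-/
import Mathlib
import Groth.Prelude.Def_LCI2
import Groth.Agent.Lib.Helper13KzLiftG
import Groth.Agent.Lib.H9RegImmFlatBC
import Groth.Agent.Lib.R2H7LciLiftA

set_option autoImplicit false
universe u
open TensorProduct

namespace Groth.Agent.Lib.R2H7.LciLift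

open Groth.Agent.Helper13KzLift

section Local

variable {B k : Type u} [CommRing B] [IsLocalRing B] [IsArtinianRing B] [Field k]
  (resB : B →+* k) (hres : Function.Surjective resB) {n : ℕ}

include hres in
theorem ker_res : RingHom.ker resB = IsLocalRing.maximalIdeal B := by
  haveI : (RingHom.ker resB).IsMaximal := RingHom.ker_isMaximal_of_surjective _ hres
  exact IsLocalRing.eq_maximalIdeal inferInstance

include hres in
theorem ker_red :
    RingHom.ker (MvPolynomial.map resB : MvPolynomial (Fin n) B →+* MvPolynomial (Fin n) k) =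
      (IsLocalRing.maximalIdeal B).map MvPolynomial.C := by
  rw [MvPolynomial.ker_map, ker_res resB hres]

variable (B) in
/-- The extension of the maximal ideal of `B` to a `B`-algebra. -/
abbrev mQ (Q : Type u) [CommRing Q] [Algebra B Q] : Ideal Q :=
  (IsLocalRing.maximalIdeal B).map (algebraMap B Q)

include hres in
theorem local_core (t : B) (ht0 : t ≠ 0) (htm : t ∈ IsLocalRing.maximalIdeal B)
    (ht : ∀ x ∈ IsLocalRing.maximalIdeal B, x * t = 0)
    (I : Ideal (MvPolynomial (Fin n) k)) (J : Ideal (MvPolynomial (Fin n) B))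
    (hJI : ∀ z ∈ J, MvPolynomial.map resB z ∈ I)
    (hIJ : ∀ f ∈ I, ∃ z ∈ J, MvPolynomial.map resB z = f)
    (hflat : J ⊓ (IsLocalRing.maximalIdeal B).map MvPolynomial.C ≤
      (IsLocalRing.maximalIdeal B).map MvPolynomial.C * J ⊔ Ideal.span {MvPolynomial.C t})
    (g : MvPolynomial (Fin n) k) (l : List (Localization.Away g))
    (hl : LCI.IsKoszulRegularSeq (Localization.Away g) l)
    (hI : I.map (algebraMap _ (Localization.Away g)) = Ideal.span {x | x ∈ l})
    (g' : MvPolynomial (Fin n) B) (hg' : MvPolynomial.map resB g' = g)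
    (Q : Type u) [CommRing Q] [Algebra (MvPolynomial (Fin n) B) Q] [IsLocalization.Away g' Q]
    [Algebra B Q] [IsScalarTower B (MvPolynomial (Fin n) B) Q]
    (a : MvPolynomial (Fin n) B)
    (ha : MvPolynomial.C t * a ∈ (J ⊔ (IsLocalRing.maximalIdeal B).map MvPolynomial.C) * J) :
    ∃ N : ℕ, g ^ N * MvPolynomial.map resB a ∈ I := by
  classical
  have hred : Function.Surjective
      (MvPolynomial.map resB : MvPolynomial (Fin n) B →+* MvPolynomial (Fin n) k) :=
    MvPolynomial.map_surjective resB hres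
  haveI : Module.Flat (MvPolynomial (Fin n) B) Q := IsLocalization.flat Q (Submonoid.powers g')
  haveI : Module.Flat B Q := Module.Flat.trans B (MvPolynomial (Fin n) B) Q
  have halgC : ∀ x : B, algebraMap (MvPolynomial (Fin n) B) Q (MvPolynomial.C x) =
      algebraMap B Q x := fun x => by
    rw [IsScalarTower.algebraMap_apply B (MvPolynomial (Fin n) B) Q, MvPolynomial.algebraMap_eq]
  have hmQ : mQ B Q = ((IsLocalRing.maximalIdeal B).map MvPolynomial.C).map
      (algebraMap (MvPolynomial (Fin n) B) Q) := by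
    have hcomp : (algebraMap (MvPolynomial (Fin n) B) Q).comp MvPolynomial.C = algebraMap B Q :=
      RingHom.ext halgC
    rw [Ideal.map_map, hcomp]
  -- the reduction map to `Q / m Q`
  let mk : Q →+* Q ⧸ mQ B Q := Ideal.Quotient.mk _
  have hmk : Function.Surjective mk := Ideal.Quotient.mk_surjective
  let lam : MvPolynomial (Fin n) B →+* Q ⧸ mQ B Q :=
    mk.comp (algebraMap (MvPolynomial (Fin n) B) Q)
  have hlam : RingHom.ker (MvPolynomial.map resB :
      MvPolynomial (Fin n) B →+* MvPolynomial (Fin n) k) ≤ RingHom.ker lam := by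
    rw [ker_red resB hres, Ideal.map_le_iff_le_comap]
    intro x hx
    rw [Ideal.mem_comap, RingHom.mem_ker]
    show mk (algebraMap (MvPolynomial (Fin n) B) Q (MvPolynomial.C x)) = 0
    rw [Ideal.Quotient.eq_zero_iff_mem, halgC]
    exact Ideal.mem_map_of_mem _ hx
  let φ₀ : MvPolynomial (Fin n) k →+* Q ⧸ mQ B Q :=
    RingHom.liftOfRightInverse (MvPolynomial.map resB) (Function.surjInv hred)
      (Function.rightInverse_surjInv hred) ⟨lam, hlam⟩
  have hφ₀ : ∀ x, φ₀ (MvPolynomial.map resB x) = lam x := fun x =>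
    RingHom.liftOfRightInverse_comp_apply _ _ _ _ x
  letI : Algebra (MvPolynomial (Fin n) k) (Q ⧸ mQ B Q) := φ₀.toAlgebra
  have halg : ∀ x, algebraMap (MvPolynomial (Fin n) k) (Q ⧸ mQ B Q) (MvPolynomial.map resB x) =
      mk (algebraMap (MvPolynomial (Fin n) B) Q x) := hφ₀
  haveI hloc : IsLocalization.Away g (Q ⧸ mQ B Q) := by
    have h0 : IsLocalization ((Submonoid.powers g').map
        (MvPolynomial.map resB : MvPolynomial (Fin n) B →+* MvPolynomial (Fin n) k))
        (Q ⧸ mQ B Q) := by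
      refine IsLocalization.of_surjective (Submonoid.powers g') Q (MvPolynomial.map resB) hred mk
        hmk (RingHom.ext fun x => (hφ₀ x).symm) ?_
      rw [Ideal.mk_ker, ker_red resB hres, hmQ]
    rw [Submonoid.map_powers] at h0
    show IsLocalization (Submonoid.powers g) _
    rw [← hg']
    exact h0
  let θ : Localization.Away g ≃ₐ[MvPolynomial (Fin n) k] (Q ⧸ mQ B Q) :=
    IsLocalization.algEquiv (Submonoid.powers g) _ _
  let f : Fin l.length → Q ⧸ mQ B Q := fun i => θ (l.get i)
  have hθflat : (θ : Localization.Away g →+* Q ⧸ mQ B Q).Flat :=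
    RingHom.Flat.of_bijective θ.bijective
  have hlist : List.ofFn f = l.map (θ : Localization.Away g →+* Q ⧸ mQ B Q) := by
    rw [show f = (⇑(θ : Localization.Away g →+* Q ⧸ mQ B Q)) ∘ l.get from rfl, ← List.map_ofFn,
      List.ofFn_get]
  have hf : LCI.IsKoszulRegularSeq (Q ⧸ mQ B Q) (List.ofFn f) := by
    rw [hlist]
    exact Groth.Agent.Lib.H9RegImmFlatBC.isKoszulRegularSeq_map _ hθflat l hl
  -- the span of `f`
  have hspan : I.map (algebraMap (MvPolynomial (Fin n) k) (Q ⧸ mQ B Q)) =
      Ideal.span (Set.range f) := by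
    have h1 : algebraMap (MvPolynomial (Fin n) k) (Q ⧸ mQ B Q) =
        (θ : Localization.Away g →+* Q ⧸ mQ B Q).comp
          (algebraMap (MvPolynomial (Fin n) k) (Localization.Away g)) := by
      ext x
      · exact (θ.commutes _).symm
      · exact (θ.commutes _).symm
    rw [h1, ← Ideal.map_map, hI, Ideal.map_span]
    congr 1
    ext y
    constructor
    · rintro ⟨x, hx, rfl⟩
      obtain ⟨i, rfl⟩ := List.mem_iff_get.1 hx
      exact ⟨i, rfl⟩
    · rintro ⟨i, rfl⟩
      exact ⟨l.get i, List.get_mem _ _, rfl⟩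
  let JQ : Ideal Q := J.map (algebraMap (MvPolynomial (Fin n) B) Q)
  have h4a : JQ.map mk ≤ Ideal.span (Set.range f) := by
    rw [← hspan, Ideal.map_map, Ideal.map_le_iff_le_comap]
    intro z hz
    rw [Ideal.mem_comap]
    show mk (algebraMap (MvPolynomial (Fin n) B) Q z) ∈ _
    rw [← halg]
    exact Ideal.mem_map_of_mem _ (hJI z hz)
  have h4b : ∀ i, ∃ y ∈ JQ, mk y = f i := by
    intro i
    have h1 : f i ∈ JQ.map mk := by
      have h2 : f i ∈ I.map (algebraMap (MvPolynomial (Fin n) k) (Q ⧸ mQ B Q)) := by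
        rw [hspan]
        exact Ideal.subset_span ⟨i, rfl⟩
      refine (Ideal.map_le_iff_le_comap.2 ?_) h2
      intro x hx
      obtain ⟨z, hz, rfl⟩ := hIJ x hx
      rw [Ideal.mem_comap, halg]
      exact Ideal.mem_map_of_mem _ (Ideal.mem_map_of_mem _ hz)
    exact (Ideal.mem_map_iff_of_surjective mk hmk).1 h1
  choose f' hf'J hf' using h4b
  have hFJ : Ideal.span (Set.range f') ≤ JQ := by
    rw [Ideal.span_le]
    rintro _ ⟨i, rfl⟩
    exact hf'J i
  have hFmk : (Ideal.span (Set.range f')).map mk = Ideal.span (Set.range f) := by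
    rw [Ideal.map_span, ← Set.range_comp]
    congr 2
    funext i
    exact hf' i
  -- flatness of the Koszul lift
  letI : Field (B ⧸ IsLocalRing.maximalIdeal B) := Ideal.Quotient.field _
  have hflatQ : Module.Flat B (Q ⧸ Ideal.span (Set.range f')) :=
    part1_flat (IsLocalRing.maximalIdeal B) l.length f (Ideal.IsPrime.ne_top inferInstance) hf f'
      hf'
  -- Nakayama
  let tQ : Q := algebraMap B Q t
  have htQ : algebraMap (MvPolynomial (Fin n) B) Q (MvPolynomial.C t) = tQ := halgC t
  obtain ⟨e, he⟩ := Groth.Agent.Lib.Helper19.isNilpotent_maximalIdeal_of_artinian B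
  have hmQpow : (mQ B Q) ^ e = ⊥ := by
    show ((IsLocalRing.maximalIdeal B).map (algebraMap B Q)) ^ e = ⊥
    rw [← Ideal.map_pow, he, Ideal.zero_eq_bot, Ideal.map_bot]
  have hinf : JQ ⊓ mQ B Q ≤ mQ B Q * JQ ⊔ Ideal.span {tQ} := by
    rw [hmQ]
    show J.map (algebraMap (MvPolynomial (Fin n) B) Q) ⊓ _ ≤ _
    rw [← IsLocalization.map_inf (Submonoid.powers g') Q, ← Ideal.map_mul]
    refine (Ideal.map_mono hflat).trans ?_
    rw [Ideal.map_sup, Ideal.map_span, Set.image_singleton, htQ]
  have hNak : JQ ≤ Ideal.span (Set.range f') ⊔ Ideal.span {tQ} := by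
    refine le_of_le_sup_mul_of_pow_eq_bot (mQ B Q) _ JQ e hmQpow ?_
    intro z hz
    have h1 : mk z ∈ (Ideal.span (Set.range f')).map mk := by
      rw [hFmk]
      exact h4a (Ideal.mem_map_of_mem _ hz)
    obtain ⟨u, hu, huz⟩ := (Ideal.mem_map_iff_of_surjective mk hmk).1 h1
    have h2 : z - u ∈ mQ B Q := by
      rw [← Ideal.Quotient.eq_zero_iff_mem, map_sub, sub_eq_zero]
      exact huz.symm
    have h3 : z - u ∈ JQ ⊓ mQ B Q := ⟨JQ.sub_mem hz (hFJ hu), h2⟩
    have h4 := hinf h3
    obtain ⟨v, hv, w, hw, hvw⟩ := Submodule.mem_sup.1 h4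
    have hz' : z = (u + w) + v := by
      linear_combination (-1 : Q) * hvw
    rw [hz']
    exact Ideal.add_mem _ (Ideal.mem_sup_left (Ideal.add_mem _ (Ideal.mem_sup_left hu)
      (Ideal.mem_sup_right hw))) (Ideal.mem_sup_right hv)
  -- the main computation
  let aQ : Q := algebraMap (MvPolynomial (Fin n) B) Q a
  have htspan : Ideal.span {tQ} ≤ mQ B Q := by
    rw [Ideal.span_le, Set.singleton_subset_iff]
    exact Ideal.mem_map_of_mem _ htm
  have hmt : mQ B Q * Ideal.span {tQ} = ⊥ := by
    have h1 : IsLocalRing.maximalIdeal B * Ideal.span {t} = ⊥ := by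
      rw [eq_bot_iff, Ideal.mul_le]
      intro x hx y hy
      obtain ⟨c, rfl⟩ := Ideal.mem_span_singleton'.1 hy
      rw [Ideal.mem_bot, ← mul_assoc, mul_comm x c, mul_assoc, ht x hx, mul_zero]
    have h2 : Ideal.span {tQ} = (Ideal.span {t}).map (algebraMap B Q) := by
      rw [Ideal.map_span, Set.image_singleton]
    show (IsLocalRing.maximalIdeal B).map (algebraMap B Q) * _ = ⊥
    rw [h2, ← Ideal.map_mul, h1, Ideal.map_bot]
  have h5 : tQ * aQ ∈ (JQ ⊔ mQ B Q) * JQ := by
    have h := Ideal.mem_map_of_mem (algebraMap (MvPolynomial (Fin n) B) Q) ha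
    rw [Ideal.map_mul, Ideal.map_sup, ← hmQ, map_mul, htQ] at h
    exact h
  have hF : tQ * aQ ∈ Ideal.span (Set.range f') := by
    have h6 : (JQ ⊔ mQ B Q) * JQ ≤ Ideal.span (Set.range f') := by
      calc (JQ ⊔ mQ B Q) * JQ
          ≤ (Ideal.span (Set.range f') ⊔ mQ B Q) *
              (Ideal.span (Set.range f') ⊔ Ideal.span {tQ}) :=
            Ideal.mul_mono (sup_le (hNak.trans (sup_le le_sup_left
              (htspan.trans le_sup_right))) le_sup_right) hNak
        _ ≤ Ideal.span (Set.range f') := by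
            rw [Ideal.mul_sup]
            refine sup_le Ideal.mul_le_right ?_
            rw [Ideal.sup_mul, hmt]
            exact sup_le Ideal.mul_le_left bot_le
    exact h6 h5
  haveI := hflatQ
  have h7 : tQ * aQ ∈ Ideal.span (Set.range f') ⊓ (Ideal.span {t}).map (algebraMap B Q) := by
    refine ⟨hF, ?_⟩
    rw [Ideal.map_span, Set.image_singleton]
    exact Ideal.mul_mem_right _ _ (Ideal.subset_span rfl)
  have h8 := inf_map_le_mul (Ideal.span {t}) (Ideal.span (Set.range f')) h7
  rw [Ideal.map_span, Set.image_singleton, Ideal.mem_span_singleton_mul] at h8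
  obtain ⟨b', hb', hb'eq⟩ := h8
  have h9 : algebraMap B Q t * (aQ - b') = 0 := by
    rw [mul_sub, sub_eq_zero]
    exact hb'eq.symm
  have h10 := mem_smul_top_of_mul_eq_zero t ht0 (aQ - b') h9
  have h11 : aQ - b' ∈ mQ B Q := by
    rw [Ideal.smul_top_eq_map] at h10
    exact h10
  have h12 : mk aQ ∈ Ideal.span (Set.range f) := by
    have h : mk aQ = mk b' := by
      rw [← sub_eq_zero, ← map_sub, Ideal.Quotient.eq_zero_iff_mem]
      exact h11
    rw [h, ← hFmk]
    exact Ideal.mem_map_of_mem _ hb'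
  rw [← hspan] at h12
  have h13 : algebraMap (MvPolynomial (Fin n) k) (Q ⧸ mQ B Q) (MvPolynomial.map resB a) ∈
      I.map (algebraMap (MvPolynomial (Fin n) k) (Q ⧸ mQ B Q)) := by
    rw [halg]
    exact h12
  obtain ⟨m, ⟨N, rfl⟩, hm⟩ := (IsLocalization.algebraMap_mem_map_algebraMap_iff
    (Submonoid.powers g) (Q ⧸ mQ B Q) I _).1 h13
  exact ⟨N, hm⟩

include hres in
theorem local_lemma (t : B) (ht0 : t ≠ 0) (htm : t ∈ IsLocalRing.maximalIdeal B)
    (ht : ∀ x ∈ IsLocalRing.maximalIdeal B, x * t = 0)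
    (I : Ideal (MvPolynomial (Fin n) k)) (J : Ideal (MvPolynomial (Fin n) B))
    (hJI : ∀ z ∈ J, MvPolynomial.map resB z ∈ I)
    (hIJ : ∀ f ∈ I, ∃ z ∈ J, MvPolynomial.map resB z = f)
    (hflat : J ⊓ (IsLocalRing.maximalIdeal B).map MvPolynomial.C ≤
      (IsLocalRing.maximalIdeal B).map MvPolynomial.C * J ⊔ Ideal.span {MvPolynomial.C t})
    (g : MvPolynomial (Fin n) k) (l : List (Localization.Away g))
    (hl : LCI.IsKoszulRegularSeq (Localization.Away g) l)
    (hI : I.map (algebraMap _ (Localization.Away g)) = Ideal.span {x | x ∈ l})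
    (a : MvPolynomial (Fin n) B)
    (ha : MvPolynomial.C t * a ∈ (J ⊔ (IsLocalRing.maximalIdeal B).map MvPolynomial.C) * J) :
    ∃ N : ℕ, g ^ N * MvPolynomial.map resB a ∈ I := by
  obtain ⟨g', hg'⟩ := MvPolynomial.map_surjective resB hres g
  exact local_core resB hres t ht0 htm ht I J hJI hIJ hflat g l hl hI g' hg'
    (Localization.Away g') a ha

end Local

end Groth.Agent.Lib.R2H7.LciLift
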