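/-
Scheme level: deformations of an affine local complete intersection over `Art Λ k` lift along
surjections, i.e. the deformation functor is smooth.
-/
import Mathlib
import Groth.Prelude.Def_ArtFun4
import Groth.Prelude.Def_LCI2
import Groth.Agent.Lib.R2H7DefLiftE
import Groth.Agent.Lib.Helper22ThickAffine
import Groth.Agent.Lib.Helper19SmallExt
import Groth.Agent.Lib.R2H7LciLiftC

set_option autoImplicit false
universe u

namespace Groth.Agent.Lib.R2H7.LciLift

open CategoryTheory CategoryTheory.Limits AlgebraicGeometry ArtFun ArtFun.Art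
open Groth.Agent.Lib.R2H7

section Geom

variable {Λ k : Type u} [CommRing Λ] [Field k] [Algebra Λ k] {B₀ : Type u} [CommRing B₀]
  [Algebra k B₀]

/-- The deformation of `Spec B₀` over `A` given by a flat `A`-algebra `E` with `E/m_A E = B₀`. -/
noncomputable def mkDefΛ (A : Art Λ k) (E : Type u) [CommRing E] (α : A →+* E) (c : E →+* B₀)
    (hflat : α.Flat) (hw : c.comp α = (algebraMap k B₀).comp A.res.toRingHom)
    (hsurj : Function.Surjective c)
    (hker : RingHom.ker c ≤ (RingHom.ker A.res.toRingHom).map α) :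
    DefSch (Λ := Λ) (Spec (CommRingCat.of B₀))
      (Spec.map (CommRingCat.ofHom (algebraMap k B₀))) A where
  total := Spec (CommRingCat.of E)
  f := Spec.map (CommRingCat.ofHom α)
  flat := Flat.SpecMap_iff.2 hflat
  i := Spec.map (CommRingCat.ofHom c)
  isPullback := isPullback_SpecMap_of_isPushout _ _ _ _
    (DefLift.isPushout_of_surj_ker A.res.toRingHom A.res_surjective α c (algebraMap k B₀) hw hsurj
      hker)

/-- Every deformation of an affine scheme over an object of `Art Λ k` comes from ring data. -/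
theorem exists_ringDataΛ (A : Art Λ k)
    (ξ : DefSch (Λ := Λ) (Spec (CommRingCat.of B₀))
      (Spec.map (CommRingCat.ofHom (algebraMap k B₀))) A) :
    ∃ (E : CommRingCat.{u}) (α : CommRingCat.of A ⟶ E) (c : E ⟶ CommRingCat.of B₀)
      (ψ : ξ.total ≅ Spec E),
      α.hom.Flat ∧ Function.Surjective c.hom ∧
      RingHom.ker c.hom = (RingHom.ker A.res.toRingHom).map α.hom ∧
      c.hom.comp α.hom = (algebraMap k B₀).comp A.res.toRingHom ∧
      ψ.inv ≫ ξ.f = Spec.map α ∧ ξ.i ≫ ψ.hom = Spec.map c := by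
  classical
  have hsurje : Function.Surjective A.res.toRingHom := A.res_surjective
  have hkere : RingHom.ker A.res.toRingHom = IsLocalRing.maximalIdeal A := by
    haveI : (RingHom.ker A.res.toRingHom).IsMaximal :=
      RingHom.ker_isMaximal_of_surjective _ hsurje
    exact IsLocalRing.eq_maximalIdeal inferInstance
  haveI hci : IsClosedImmersion (specRes A) :=
    IsClosedImmersion.spec_of_surjective _ hsurje
  haveI hsj : Surjective (specRes A) := by
    constructor
    intro q
    have h2 : q.asIdeal = IsLocalRing.maximalIdeal A :=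
      IsLocalRing.eq_maximalIdeal (IsArtinianRing.isMaximal_of_isPrime q.asIdeal)
    refine ⟨(⊥ : PrimeSpectrum k), ?_⟩
    apply PrimeSpectrum.ext
    change Ideal.comap A.res.toRingHom ⊥ = q.asIdeal
    rw [h2, ← hkere]
    rfl
  haveI : IsClosedImmersion ξ.i := MorphismProperty.of_isPullback ξ.isPullback.flip hci
  haveI : Surjective ξ.i := MorphismProperty.of_isPullback ξ.isPullback.flip hsj
  haveI : IsAffine ξ.total :=
    Groth.Agent.Lib.Helper22.ThickAffine.isAffine_of_thickening ξ.i (Surjective.surj)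
  let ψ' := ξ.total.isoSpec
  let α : CommRingCat.of A ⟶ Γ(ξ.total, ⊤) := Spec.preimage (ψ'.inv ≫ ξ.f)
  let cc : Γ(ξ.total, ⊤) ⟶ CommRingCat.of B₀ := Spec.preimage (ξ.i ≫ ψ'.hom)
  have hα : Spec.map α = ψ'.inv ≫ ξ.f := Spec.map_preimage _
  have hcc : Spec.map cc = ξ.i ≫ ψ'.hom := Spec.map_preimage _
  have hsq' : IsPullback (Spec.map cc) (Spec.map (CommRingCat.ofHom (algebraMap k B₀)))
      (Spec.map α) (Spec.map (CommRingCat.ofHom A.res.toRingHom)) := by
    rw [hcc, hα]
    exact IsPullback.of_iso ξ.isPullback (Iso.refl _) ψ' (Iso.refl _) (Iso.refl _) (by simp)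
      (by simp) (by simp) ((Category.comp_id _).trans (Category.id_comp _).symm)
  have hpo : IsPushout (CommRingCat.ofHom A.res.toRingHom) α
      (CommRingCat.ofHom (algebraMap k B₀)) cc :=
    DefLift.isPushout_of_isPullback_Spec _ _ _ _ hsq'
  have hpo' : IsPushout (CommRingCat.ofHom A.res.toRingHom) (CommRingCat.ofHom α.hom)
      (CommRingCat.ofHom (algebraMap k B₀)) (CommRingCat.ofHom cc.hom) := hpo
  obtain ⟨hsurj, hker⟩ := DefLift.surj_ker_of_isPushout_surj A.res.toRingHom hsurje α.hom cc.hom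
    (algebraMap k B₀) hpo'
  have hflat : α.hom.Flat := by
    rw [← Flat.SpecMap_iff, hα]
    infer_instance
  refine ⟨Γ(ξ.total, ⊤), α, cc, ψ', hflat, hsurj, hker, ?_, hα.symm, hcc.symm⟩
  have hw := hpo.w
  exact (congrArg CommRingCat.Hom.hom hw).symm

/-- Lifting a deformation of an affine local complete intersection along a small extension. -/
theorem exists_lift_def (hlci : LCI.IsLCI k B₀) {B A : Art Λ k} (p : B ⟶ A) (hp : IsSmallExt p)
    (ξ : DefSch (Λ := Λ) (Spec (CommRingCat.of B₀))
      (Spec.map (CommRingCat.ofHom (algebraMap k B₀))) A) :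
    ∃ ξ' : DefSch (Λ := Λ) (Spec (CommRingCat.of B₀))
      (Spec.map (CommRingCat.ofHom (algebraMap k B₀))) B, Nonempty ((ξ'.baseChange p).Iso ξ) := by
  classical
  obtain ⟨E, α, c, ψ, hαflat, hcsurj, hkc, hcα, hf, hi⟩ := exists_ringDataΛ A ξ
  obtain ⟨_, n, φ, hφ, hK⟩ := hlci
  obtain ⟨hpsurj, hkne, hkprin, hmk⟩ := hp
  obtain ⟨t, htgen⟩ := hkprin.principal
  have hker : RingHom.ker p.toAlgHom.toRingHom = Ideal.span {t} := htgen
  have ht0 : t ≠ 0 := by
    rintro rfl
    apply hkne
    rw [show RingHom.ker p.toAlgHom = RingHom.ker p.toAlgHom.toRingHom from rfl, hker]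
    simp
  have htker : t ∈ RingHom.ker p.toAlgHom.toRingHom := by
    rw [hker]
    exact Ideal.subset_span rfl
  have htm : t ∈ IsLocalRing.maximalIdeal B :=
    Groth.Agent.Lib.Helper19.ker_le_maximalIdeal p htker
  have ht : ∀ x ∈ IsLocalRing.maximalIdeal B, x * t = 0 := by
    intro x hx
    have h1 : x * t ∈ IsLocalRing.maximalIdeal B * RingHom.ker p.toAlgHom :=
      Ideal.mul_mem_mul hx htker
    rw [hmk] at h1
    exact h1
  have hresp : ∀ b : B, A.res (p b) = B.res b := fun b => Art.res_app p b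
  obtain ⟨E', _, α', q, hα'flat, hqsurj, hqα, hkq⟩ := exists_lift p.toAlgHom.toRingHom hpsurj t hker
    ht0 htm ht A.res.toRingHom A.res_surjective α.hom hαflat c.hom hcsurj hkc
    (fun s => congrArg (fun f => f s) hcα) n φ hφ hK
  -- the deformation over `B`
  have hw' : (c.hom.comp q).comp α' = (algebraMap k B₀).comp B.res.toRingHom := by
    ext b
    show c.hom (q (α' b)) = algebraMap k B₀ (B.res b)
    rw [hqα, ← hresp]
    exact congrArg (fun f => f (p b)) hcα
  have hsurj' : Function.Surjective (c.hom.comp q) := hcsurj.comp hqsurj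
  have hkAB : (RingHom.ker B.res.toRingHom).map p.toAlgHom.toRingHom =
      RingHom.ker A.res.toRingHom := by
    have h1 : RingHom.ker B.res.toRingHom =
        (RingHom.ker A.res.toRingHom).comap p.toAlgHom.toRingHom := by
      ext b
      rw [Ideal.mem_comap, RingHom.mem_ker, RingHom.mem_ker]
      show B.res b = 0 ↔ A.res (p b) = 0
      rw [hresp]
    rw [h1, Ideal.map_comap_of_surjective p.toAlgHom.toRingHom hpsurj]
  have hker' : RingHom.ker (c.hom.comp q) ≤ (RingHom.ker B.res.toRingHom).map α' := by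
    intro y hy
    have h1 : q y ∈ RingHom.ker c.hom := hy
    have hcomp : α.hom.comp p.toAlgHom.toRingHom = q.comp α' := RingHom.ext fun b => (hqα b).symm
    rw [hkc, ← hkAB, Ideal.map_map, hcomp, ← Ideal.map_map] at h1
    obtain ⟨y', hy', hyy'⟩ := (Ideal.mem_map_iff_of_surjective q hqsurj).1 h1
    have h2 : y - y' ∈ RingHom.ker q := by
      rw [RingHom.mem_ker, map_sub, hyy', sub_self]
    rw [hkq] at h2
    have h3 : (RingHom.ker p.toAlgHom.toRingHom).map α' ≤
        (RingHom.ker B.res.toRingHom).map α' := by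
      refine Ideal.map_mono ?_
      intro b hb
      rw [RingHom.mem_ker] at hb ⊢
      show B.res b = 0
      rw [← hresp]
      show A.res (p.toAlgHom.toRingHom b) = 0
      rw [hb, map_zero]
    have : y = y' + (y - y') := by ring
    rw [this]
    exact Ideal.add_mem _ hy' (h3 h2)
  let ξ' := mkDefΛ B E' α' (c.hom.comp q) hα'flat hw' hsurj' hker'
  refine ⟨ξ', ⟨?_⟩⟩
  -- the pullback square
  have hpo : IsPushout (CommRingCat.ofHom α') (CommRingCat.ofHom p.toAlgHom.toRingHom)
      (CommRingCat.ofHom q) (CommRingCat.ofHom α.hom) :=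
    DefLift.isPushout_of_surj_ker p.toAlgHom.toRingHom hpsurj α' q α.hom
      (RingHom.ext fun b => hqα b) hqsurj (le_of_eq hkq)
  have hpb := isPullback_SpecMap_of_isPushout _ _ _ _ hpo
  let j : ξ.total ⟶ ξ'.total := ψ.hom ≫ Spec.map (CommRingCat.ofHom q)
  have hj : IsPullback j ξ.f ξ'.f (specMap p) := by
    show IsPullback (ψ.hom ≫ Spec.map (CommRingCat.ofHom q)) ξ.f
      (Spec.map (CommRingCat.ofHom α')) (specMap p)
    refine IsPullback.of_iso hpb ψ.symm (Iso.refl _) (Iso.refl _) (Iso.refl _) ?_ ?_ ?_ ?_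
    · rw [Iso.refl_hom, Category.comp_id, Iso.symm_hom, Iso.inv_hom_id_assoc]
    · rw [Iso.refl_hom, Category.comp_id, Iso.symm_hom, hf]
      rfl
    · rw [Iso.refl_hom, Iso.refl_hom, Category.comp_id, Category.id_comp]
    · rw [Iso.refl_hom, Iso.refl_hom, Category.comp_id, Category.id_comp]
  have hij : ξ.i ≫ j = ξ'.i := by
    show ξ.i ≫ ψ.hom ≫ Spec.map (CommRingCat.ofHom q) =
      Spec.map (CommRingCat.ofHom (c.hom.comp q))
    rw [← Category.assoc, hi, ← Spec.map_comp]
    rfl
  exact
    { iso := (IsPullback.of_hasPullback ξ'.f (specMap p)).isoIsPullback _ _ hj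
      hom_f := IsPullback.isoIsPullback_hom_snd _ _ _ _
      i_hom := by
        apply hj.hom_ext
        · rw [Category.assoc, IsPullback.isoIsPullback_hom_fst, DefSch.baseChange_i_fst, hij]
        · rw [Category.assoc, IsPullback.isoIsPullback_hom_snd, DefSch.baseChange_i_f, ξ.i_f] }

/-- The deformation functor of an affine local complete intersection is smooth. -/
theorem isSmoothFunctor_defFunctor (hlci : LCI.IsLCI k B₀) :
    ArtFun.IsSmoothFunctor (ArtFun.defFunctor (Λ := Λ) (Spec (CommRingCat.of B₀))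
      (Spec.map (CommRingCat.ofHom (algebraMap k B₀)))) := by
  intro B A μ hμ
  refine Groth.Agent.Lib.Helper19.surjective_induction
    (P := fun A B f => Function.Surjective ((ArtFun.defFunctor (Λ := Λ)
      (Spec (CommRingCat.of B₀)) (Spec.map (CommRingCat.ofHom (algebraMap k B₀)))).map f))
    ?_ ?_ ?_ μ hμ
  · intro A B e he
    exact ((CategoryTheory.isIso_iff_bijective _).1 (Functor.map_isIso _ e)).2
  · intro A B p hp x
    induction x using Quotient.inductionOn with
    | h ξ =>
      obtain ⟨ξ', ⟨e⟩⟩ := exists_lift_def hlci p hp ξ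
      exact ⟨ξ'.cl, Quotient.sound ⟨e⟩⟩
  · intro A B C p q hp hq
    rw [Functor.map_comp]
    exact hq.comp hp

end Geom

end Groth.Agent.Lib.R2H7.LciLift
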