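/-
Affine deformations (C): the dictionary between deformations of `Spec B₀` over `Art Λ k` and
ring data; morphisms of ring data are base changes.
-/
import Mathlib
import Groth.Prelude.Def_ArtFun4
import Groth.Agent.Lib.R2H7LciLiftD
import Groth.Agent.Lib.R2H7AffDefA
import Groth.Agent.Lib.Helper19SmallExt

set_option autoImplicit false
universe u

namespace Groth.Agent.Lib.R2H7.AffDef

open CategoryTheory CategoryTheory.Limits AlgebraicGeometry ArtFun ArtFun.Art
open Groth.Agent.Lib.R2H7

section Dict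

variable {Λ k : Type u} [CommRing Λ] [Field k] [Algebra Λ k] (B₀ : Type u) [CommRing B₀]
  [Algebra k B₀]

/-- Ring data of a deformation of `Spec B₀` over `A`. -/
structure RD (A : Art Λ k) where
  /-- the ring -/
  E : Type u
  [ring : CommRing E]
  /-- structure map -/
  α : A →+* E
  /-- identification of the closed fibre -/
  c : E →+* B₀
  flat : α.Flat
  hw : c.comp α = (algebraMap k B₀).comp A.res.toRingHom
  surj : Function.Surjective c
  ker : RingHom.ker c ≤ (RingHom.ker A.res.toRingHom).map α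

attribute [instance] RD.ring

/-- deformations of `Spec B₀` -/
abbrev Def0 (A : Art Λ k) : Type (u + 1) :=
  DefSch (Λ := Λ) (Spec (CommRingCat.of B₀)) (Spec.map (CommRingCat.ofHom (algebraMap k B₀))) A

variable {B₀}

/-- the deformation attached to ring data -/
noncomputable def RD.toDef {A : Art Λ k} (D : RD B₀ A) : Def0 B₀ A :=
  LciLift.mkDefΛ A D.E D.α D.c D.flat D.hw D.surj D.ker

/-- morphisms of ring data over a morphism of `Art` -/
structure RD.Hom {A' A : Art Λ k} (p : A' ⟶ A) (D' : RD B₀ A') (D : RD B₀ A) where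
  /-- the ring map -/
  q : D'.E →+* D.E
  hα : q.comp D'.α = D.α.comp p.toAlgHom.toRingHom
  hc : D.c.comp q = D'.c

theorem ker_res_eq (A : Art Λ k) :
    RingHom.ker A.res.toRingHom = IsLocalRing.maximalIdeal A := by
  haveI : (RingHom.ker A.res.toRingHom).IsMaximal :=
    RingHom.ker_isMaximal_of_surjective _ A.res_surjective
  exact IsLocalRing.eq_maximalIdeal inferInstance

theorem exists_pow_ker_res (A : Art Λ k) : ∃ n : ℕ, (RingHom.ker A.res.toRingHom) ^ n = ⊥ := by
  rw [ker_res_eq]
  obtain ⟨n, hn⟩ := Groth.Agent.Lib.Helper19.isNilpotent_maximalIdeal_of_artinian A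
  exact ⟨n, hn⟩

/-- Every deformation comes from ring data. -/
theorem exists_rd {A : Art Λ k} (ξ : Def0 B₀ A) : ∃ D : RD B₀ A, Nonempty (ξ.Iso D.toDef) := by
  obtain ⟨E, α, c, ψ, hfl, hsurj, hker, hw, hf, hi⟩ := LciLift.exists_ringDataΛ A ξ
  let D : RD B₀ A :=
    { E := E, α := α.hom, c := c.hom, flat := hfl, hw := hw, surj := hsurj, ker := le_of_eq hker }
  refine ⟨D, ⟨⟨ψ, ?_, ?_⟩⟩⟩
  · show ψ.hom ≫ Spec.map α = ξ.f
    rw [← hf, Iso.hom_inv_id_assoc]
  · exact hi

/-- A morphism of ring data is a base change. -/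
theorem iso_of_hom {A' A : Art Λ k} (p : A' ⟶ A) (D' : RD B₀ A') (D : RD B₀ A)
    (h : RD.Hom p D' D) : Nonempty ((D'.toDef.baseChange p).Iso D.toDef) := by
  obtain ⟨n, hn⟩ := exists_pow_ker_res A
  have hres : A.res.toRingHom.comp p.toAlgHom.toRingHom = A'.res.toRingHom :=
    RingHom.ext fun a => Art.res_app p a
  have hpo := isPushout_of_hom p.toAlgHom.toRingHom D'.α D.α h.q h.hα A.res.toRingHom
    A'.res.toRingHom hres A'.res_surjective n hn D.flat (algebraMap k B₀) D'.c D.c h.hc D'.surj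
    D'.ker D.ker D.hw
  have hpb := isPullback_SpecMap_of_isPushout _ _ _ _ hpo
  let j : D.toDef.total ⟶ D'.toDef.total := Spec.map (CommRingCat.ofHom h.q)
  have hj : IsPullback j D.toDef.f D'.toDef.f (specMap p) := hpb
  have hij : D.toDef.i ≫ j = D'.toDef.i := by
    show Spec.map (CommRingCat.ofHom D.c) ≫ Spec.map (CommRingCat.ofHom h.q) =
      Spec.map (CommRingCat.ofHom D'.c)
    rw [← Spec.map_comp, ← CommRingCat.ofHom_comp, h.hc]
  exact ⟨
    { iso := (IsPullback.of_hasPullback D'.toDef.f (specMap p)).isoIsPullback _ _ hj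
      hom_f := IsPullback.isoIsPullback_hom_snd _ _ _ _
      i_hom := by
        apply hj.hom_ext
        · rw [Category.assoc, IsPullback.isoIsPullback_hom_fst, DefSch.baseChange_i_fst, hij]
        · rw [Category.assoc, IsPullback.isoIsPullback_hom_snd, DefSch.baseChange_i_f,
            D.toDef.i_f] }⟩

/-- An isomorphism from a base change gives a morphism of ring data. -/
theorem hom_of_iso {A' A : Art Λ k} (p : A' ⟶ A) (D' : RD B₀ A') (D : RD B₀ A)
    (e : (D'.toDef.baseChange p).Iso D.toDef) : Nonempty (RD.Hom p D' D) := by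
  let j : Spec (CommRingCat.of D.E) ⟶ Spec (CommRingCat.of D'.E) :=
    e.iso.inv ≫ pullback.fst D'.toDef.f (specMap p)
  let q : CommRingCat.of D'.E ⟶ CommRingCat.of D.E := Spec.preimage j
  have hq : Spec.map q = j := Spec.map_preimage j
  have h1 : j ≫ D'.toDef.f = D.toDef.f ≫ specMap p := by
    show (e.iso.inv ≫ pullback.fst D'.toDef.f (specMap p)) ≫ D'.toDef.f = _
    rw [Category.assoc, pullback.condition, ← Category.assoc]
    congr 1
    exact e.symm.hom_f
  have h2 : D.toDef.i ≫ j = D'.toDef.i := by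
    show D.toDef.i ≫ (e.iso.inv ≫ pullback.fst D'.toDef.f (specMap p)) = _
    rw [← Category.assoc, show D.toDef.i ≫ e.iso.inv = (D'.toDef.baseChange p).i from e.symm.i_hom,
      DefSch.baseChange_i_fst]
  refine ⟨⟨q.hom, ?_, ?_⟩⟩
  · have h3 : Spec.map (CommRingCat.ofHom D'.α ≫ q) =
        Spec.map (CommRingCat.ofHom p.toAlgHom.toRingHom ≫ CommRingCat.ofHom D.α) := by
      rw [Spec.map_comp, Spec.map_comp, hq]
      exact h1
    have h4 := Spec.map_injective h3
    exact congrArg CommRingCat.Hom.hom h4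
  · have h3 : Spec.map (q ≫ CommRingCat.ofHom D.c) = Spec.map (CommRingCat.ofHom D'.c) := by
      rw [Spec.map_comp, hq]
      exact h2
    have h4 := Spec.map_injective h3
    exact congrArg CommRingCat.Hom.hom h4

/-- A morphism of ring data over the identity is an isomorphism of deformations. -/
theorem iso_of_hom_id {A : Art Λ k} (D' D : RD B₀ A) (h : RD.Hom (𝟙 A) D' D) :
    Nonempty (D'.toDef.Iso D.toDef) := by
  obtain ⟨e⟩ := iso_of_hom (𝟙 A) D' D h
  exact ⟨(DefSch.baseChangeId D'.toDef).symm.trans e⟩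

/-- Classes: the image under the deformation functor. -/
theorem map_cl_eq_of_hom {A' A : Art Λ k} (p : A' ⟶ A) (D' : RD B₀ A') (D : RD B₀ A)
    (h : RD.Hom p D' D) :
    (defFunctor (Λ := Λ) (Spec (CommRingCat.of B₀))
      (Spec.map (CommRingCat.ofHom (algebraMap k B₀)))).map p D'.toDef.cl = D.toDef.cl := by
  rw [defFunctor_map_cl]
  exact Quotient.sound (iso_of_hom p D' D h)

theorem exists_hom_of_map_cl_eq {A' A : Art Λ k} (p : A' ⟶ A) (D' : RD B₀ A') (D : RD B₀ A)
    (h : (defFunctor (Λ := Λ) (Spec (CommRingCat.of B₀))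
      (Spec.map (CommRingCat.ofHom (algebraMap k B₀)))).map p D'.toDef.cl = D.toDef.cl) :
    Nonempty (RD.Hom p D' D) := by
  rw [defFunctor_map_cl] at h
  obtain ⟨e⟩ := Quotient.exact h
  exact hom_of_iso p D' D e

theorem exists_rd_cl {A : Art Λ k} (z : (defFunctor (Λ := Λ) (Spec (CommRingCat.of B₀))
      (Spec.map (CommRingCat.ofHom (algebraMap k B₀)))).obj A) :
    ∃ D : RD B₀ A, z = D.toDef.cl := by
  induction z using Quotient.inductionOn with
  | h ξ =>
    obtain ⟨D, ⟨e⟩⟩ := exists_rd ξ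
    exact ⟨D, Quotient.sound ⟨e⟩⟩

end Dict

end Groth.Agent.Lib.R2H7.AffDef
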