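/-
Affine deformations (D): Schlessinger's conditions `H0`, `S1`, `Heps` for the deformation functor
of an affine scheme `Spec B₀` over `Art Λ k`.
-/
import Mathlib
import Groth.Prelude.Def_ArtFun4
import Groth.Agent.Lib.R2H7AffDefB
import Groth.Agent.Lib.R2H7AffDefC

set_option autoImplicit false
universe u

open TensorProduct

namespace Groth.Agent.Lib.R2H7.AffDef

open CategoryTheory CategoryTheory.Limits AlgebraicGeometry ArtFun ArtFun.Art

section Wrapper

/-- the base change equivalence attached to a morphism of deformation rings -/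
theorem exists_equiv_of_hom {A' A E' E k₀ B₀ : Type u} [CommRing A'] [CommRing A] [CommRing E']
    [CommRing E] [CommRing k₀] [CommRing B₀] [Algebra A' A] [Algebra A' E'] [Algebra A E]
    (q : E' →+* E) (hq : ∀ a, q (algebraMap A' E' a) = algebraMap A E (algebraMap A' A a))
    (res : A →+* k₀) (res' : A' →+* k₀)
    (hres : ∀ a, res (algebraMap A' A a) = res' a) (hres' : Function.Surjective res')
    (n : ℕ) (hn : (RingHom.ker res) ^ n = ⊥) [Module.Flat A E]
    (β : k₀ →+* B₀) (c' : E' →+* B₀) (c : E →+* B₀)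
    (hcq : ∀ y, c (q y) = c' y) (hc'surj : Function.Surjective c')
    (hkc' : RingHom.ker c' ≤ (RingHom.ker res').map (algebraMap A' E'))
    (hkc : RingHom.ker c ≤ (RingHom.ker res).map (algebraMap A E))
    (hc : ∀ a, c (algebraMap A E a) = β (res a)) :
    ∃ e : A ⊗[A'] E' ≃ₗ[A] E, ∀ y, e ((1 : A) ⊗ₜ[A'] y) = q y := by
  letI : Algebra A' E := ((algebraMap A E).comp (algebraMap A' A)).toAlgebra
  haveI : IsScalarTower A' A E := IsScalarTower.of_algebraMap_eq (fun _ => rfl)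
  letI : Algebra E' E := q.toAlgebra
  haveI : IsScalarTower A' E' E := IsScalarTower.of_algebraMap_eq (fun a => (hq a).symm)
  have hb := bijective_liftBaseChange (A' := A') (A := A) (E' := E') (E := E) res res' hres hres'
    n hn β c' c hcq hc'surj hkc' hkc hc
  refine ⟨LinearEquiv.ofBijective _ hb, fun y => ?_⟩
  show LinearMap.liftBaseChange A (IsScalarTower.toAlgHom A' E' E).toLinearMap
    ((1 : A) ⊗ₜ[A'] y) = q y
  rw [LinearMap.liftBaseChange_tmul, one_smul]
  rfl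

end Wrapper

section Conditions

variable {Λ k : Type u} [CommRing Λ] [Field k] [Algebra Λ k] {B₀ : Type u} [CommRing B₀]
  [Algebra k B₀]

/-- Gluing ring data over a fibre product. -/
theorem exists_glue {B A A' A'' : Art Λ k} {p' : B ⟶ A'} {p'' : B ⟶ A''} {f' : A' ⟶ A}
    {f'' : A'' ⟶ A} (h : IsFibreProd p' p'' f' f'') (hf'' : Function.Surjective f'')
    (D' : RD B₀ A') (D'' : RD B₀ A'') (D : RD B₀ A) (u' : RD.Hom f' D' D)
    (u'' : RD.Hom f'' D'' D) :
    ∃ (G : RD B₀ B) (_ : RD.Hom p' G D') (_ : RD.Hom p'' G D''),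
      ∀ (D₁ : RD B₀ B) (w' : RD.Hom p' D₁ D') (w'' : RD.Hom p'' D₁ D''),
        (∀ y, u'.q (w'.q y) = u''.q (w''.q y)) → Nonempty (RD.Hom (𝟙 B) D₁ G) := by
  letI : Algebra B A' := p'.toAlgHom.toRingHom.toAlgebra
  letI : Algebra B A'' := p''.toAlgHom.toRingHom.toAlgebra
  letI : Algebra A' A := f'.toAlgHom.toRingHom.toAlgebra
  letI : Algebra A'' A := f''.toAlgHom.toRingHom.toAlgebra
  letI : Algebra B A := (f'.toAlgHom.toRingHom.comp p'.toAlgHom.toRingHom).toAlgebra
  haveI : IsScalarTower B A' A := IsScalarTower.of_algebraMap_eq (fun _ => rfl)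
  haveI : IsScalarTower B A'' A := IsScalarTower.of_algebraMap_eq (fun b => h.w_apply b)
  letI : Algebra A' D'.E := D'.α.toAlgebra
  letI : Algebra A'' D''.E := D''.α.toAlgebra
  letI : Algebra A D.E := D.α.toAlgebra
  letI : Algebra B D'.E := (D'.α.comp p'.toAlgHom.toRingHom).toAlgebra
  letI : Algebra B D''.E := (D''.α.comp p''.toAlgHom.toRingHom).toAlgebra
  haveI : IsScalarTower B A' D'.E := IsScalarTower.of_algebraMap_eq (fun _ => rfl)
  haveI : IsScalarTower B A'' D''.E := IsScalarTower.of_algebraMap_eq (fun _ => rfl)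
  haveI : Module.Flat A' D'.E := D'.flat
  haveI : Module.Flat A'' D''.E := D''.flat
  haveI : Module.Flat A D.E := D.flat
  have hsq : EtMil.IsFibreSquare B A' A'' A := by
    refine ⟨hf'', fun b a' hba => ?_⟩
    obtain ⟨b', hb1, hb2⟩ := h.surj b a' hba
    refine ⟨b', ⟨hb1, hb2⟩, fun y hy => ?_⟩
    exact h.inj y b' (hy.1.trans hb1.symm) (hy.2.trans hb2.symm)
  obtain ⟨n, hn⟩ := exists_pow_ker_res A
  have hu'α : ∀ a, u'.q (D'.α a) = D.α (f' a) := fun a => congrArg (fun g => g a) u'.hα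
  have hu''α : ∀ a, u''.q (D''.α a) = D.α (f'' a) := fun a => congrArg (fun g => g a) u''.hα
  have hu'c : ∀ y, D.c (u'.q y) = D'.c y := fun y => congrArg (fun g => g y) u'.hc
  have hu''c : ∀ y, D.c (u''.q y) = D''.c y := fun y => congrArg (fun g => g y) u''.hc
  have hDw : ∀ a, D.c (D.α a) = algebraMap k B₀ (A.res a) := fun a =>
    congrArg (fun g => g a) D.hw
  obtain ⟨e1, he1⟩ := exists_equiv_of_hom (A' := A') (A := A) (E' := D'.E) (E := D.E) u'.q hu'α
    A.res.toRingHom A'.res.toRingHom (fun a => Art.res_app f' a) A'.res_surjective n hn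
    (algebraMap k B₀) D'.c D.c hu'c D'.surj D'.ker D.ker hDw
  obtain ⟨e2, he2⟩ := exists_equiv_of_hom (A' := A'') (A := A) (E' := D''.E) (E := D.E) u''.q
    hu''α A.res.toRingHom A''.res.toRingHom (fun a => Art.res_app f'' a) A''.res_surjective n hn
    (algebraMap k B₀) D''.c D.c hu''c D''.surj D''.ker D.ker hDw
  have hB : ∀ b : B, u'.q (algebraMap B D'.E b) = u''.q (algebraMap B D''.E b) := by
    intro b
    show u'.q (D'.α (p' b)) = u''.q (D''.α (p'' b))
    rw [hu'α, hu''α, h.w_apply]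
  have hflat : (glueAlg u'.q u''.q hB).Flat :=
    flat_glueRing u'.q u''.q hB e1 he1 e2 he2 hsq
  have hD'w : ∀ a, D'.c (D'.α a) = algebraMap k B₀ (A'.res a) := fun a =>
    congrArg (fun g => g a) D'.hw
  let G : RD B₀ B :=
    { E := glueRing u'.q u''.q
      α := glueAlg u'.q u''.q hB
      c := D'.c.comp (glueFstHom u'.q u''.q)
      flat := hflat
      hw := by
        ext b
        show D'.c (D'.α (p' b)) = algebraMap k B₀ (B.res b)
        rw [hD'w, Art.res_app]
      surj := by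
        intro b₀
        obtain ⟨y, hy⟩ := D'.surj b₀
        obtain ⟨g, hg⟩ := exists_glue_fst u'.q u''.q e1 he1 e2 he2 hsq y
        exact ⟨g, by show D'.c (glueFstHom u'.q u''.q g) = b₀; rw [hg, hy]⟩
      ker := ker_glue_le u'.q u''.q hB e1 he1 e2 he2 hsq B.res.toRingHom A'.res.toRingHom
        (fun b => Art.res_app p' b) D'.c D'.ker }
  have hc2 : ∀ g : glueRing u'.q u''.q, D''.c (glueSndHom u'.q u''.q g) =
      D'.c (glueFstHom u'.q u''.q g) := by
    intro g
    rw [← hu''c, ← hu'c, glue_comm]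
  refine ⟨G, ⟨glueFstHom u'.q u''.q, RingHom.ext fun _ => rfl, rfl⟩,
    ⟨glueSndHom u'.q u''.q, RingHom.ext fun _ => rfl, RingHom.ext fun g => hc2 g⟩, ?_⟩
  intro D₁ w' w'' hcompat
  have hw'α : ∀ b, w'.q (D₁.α b) = D'.α (p' b) := fun b => congrArg (fun g => g b) w'.hα
  have hw''α : ∀ b, w''.q (D₁.α b) = D''.α (p'' b) := fun b => congrArg (fun g => g b) w''.hα
  have hw'c : ∀ y, D'.c (w'.q y) = D₁.c y := fun y => congrArg (fun g => g y) w'.hc
  refine ⟨⟨RingHom.codRestrict (w'.q.prod w''.q) (glueRing u'.q u''.q) (fun y => hcompat y),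
    ?_, ?_⟩⟩
  · exact RingHom.ext fun b => Subtype.ext (Prod.ext (hw'α b) (hw''α b))
  · exact RingHom.ext fun y => hw'c y

variable (Λ B₀) in
/-- the ring data of `Spec B₀` itself over the base object -/
noncomputable def baseRD : RD B₀ (base Λ k) :=
  { E := B₀
    α := algebraMap k B₀
    c := RingHom.id B₀
    flat := (RingHom.flat_algebraMap_iff (R := k) (S := B₀)).2 inferInstance
    hw := RingHom.ext fun _ => rfl
    surj := Function.surjective_id
    ker := by
      intro x hx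
      have : x = 0 := hx
      rw [this]
      exact Ideal.zero_mem _ }

/-- the canonical morphism of ring data to the closed fibre -/
noncomputable def RD.toBaseHom {A : Art Λ k} (D : RD B₀ A) : RD.Hom (toBase A) D (baseRD Λ B₀) :=
  ⟨D.c, D.hw, RingHom.id_comp _⟩

/-- any two ring data over the base object are related by a morphism over the identity -/
noncomputable def RD.baseHomId (D : RD B₀ (base Λ k)) : RD.Hom (𝟙 (base Λ k)) D (baseRD Λ B₀) :=
  ⟨D.c, D.hw, RingHom.id_comp _⟩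

variable (Λ k B₀) in
/-- the deformation functor of `Spec B₀` -/
noncomputable abbrev FB : Art Λ k ⥤ Type (u + 1) :=
  defFunctor (Λ := Λ) (Spec (CommRingCat.of B₀)) (Spec.map (CommRingCat.ofHom (algebraMap k B₀)))

theorem h0_aff : H0 (FB Λ k B₀) := by
  refine ⟨⟨(baseRD Λ B₀).toDef.cl⟩, ⟨fun z₁ z₂ => ?_⟩⟩
  obtain ⟨D₁, rfl⟩ := exists_rd_cl z₁
  obtain ⟨D₂, rfl⟩ := exists_rd_cl z₂
  have h1 : D₁.toDef.cl = (baseRD Λ B₀).toDef.cl :=
    Quotient.sound (iso_of_hom_id D₁ _ D₁.baseHomId)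
  have h2 : D₂.toDef.cl = (baseRD Λ B₀).toDef.cl :=
    Quotient.sound (iso_of_hom_id D₂ _ D₂.baseHomId)
  rw [h1, h2]

theorem s1_aff : S1 (FB Λ k B₀) := by
  intro B A A' A'' p' p'' f' f'' h hf'' w
  obtain ⟨⟨z', z''⟩, hz⟩ := w
  obtain ⟨D', rfl⟩ := exists_rd_cl z'
  obtain ⟨D'', rfl⟩ := exists_rd_cl z''
  obtain ⟨D, hD⟩ := exists_rd_cl ((FB Λ k B₀).map f'' D''.toDef.cl)
  have h1 : (FB Λ k B₀).map f' D'.toDef.cl = D.toDef.cl := Eq.trans hz hD
  obtain ⟨u'⟩ := exists_hom_of_map_cl_eq f' D' D h1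
  obtain ⟨u''⟩ := exists_hom_of_map_cl_eq f'' D'' D hD
  obtain ⟨G, v', v'', -⟩ := exists_glue h hf'' D' D'' D u' u''
  refine ⟨G.toDef.cl, ?_⟩
  apply FibProd.ext
  · exact map_cl_eq_of_hom p' G D' v'
  · exact map_cl_eq_of_hom p'' G D'' v''

theorem heps_aff : Heps (FB Λ k B₀) := by
  intro B A' p' p'' h
  constructor
  · intro z₁ z₂ hz
    obtain ⟨D₁, rfl⟩ := exists_rd_cl z₁
    obtain ⟨D₂, rfl⟩ := exists_rd_cl z₂
    have hz' : (FB Λ k B₀).map p' D₁.toDef.cl = (FB Λ k B₀).map p' D₂.toDef.cl :=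
      congrArg (fun w => w.1.1) hz
    have hz'' : (FB Λ k B₀).map p'' D₁.toDef.cl = (FB Λ k B₀).map p'' D₂.toDef.cl :=
      congrArg (fun w => w.1.2) hz
    obtain ⟨D', hD'⟩ := exists_rd_cl ((FB Λ k B₀).map p' D₁.toDef.cl)
    obtain ⟨D'', hD''⟩ := exists_rd_cl ((FB Λ k B₀).map p'' D₁.toDef.cl)
    obtain ⟨v1'⟩ := exists_hom_of_map_cl_eq p' D₁ D' hD'
    obtain ⟨v2'⟩ := exists_hom_of_map_cl_eq p' D₂ D' (hz'.symm.trans hD')
    obtain ⟨v1''⟩ := exists_hom_of_map_cl_eq p'' D₁ D'' hD''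
    obtain ⟨v2''⟩ := exists_hom_of_map_cl_eq p'' D₂ D'' (hz''.symm.trans hD'')
    obtain ⟨G, -, -, huniv⟩ := exists_glue h (dual Λ k).res_surjective
      D' D'' (baseRD Λ B₀) D'.toBaseHom D''.toBaseHom
    have hc1 : ∀ y, D'.toBaseHom.q (v1'.q y) = D''.toBaseHom.q (v1''.q y) := fun y => by
      show D'.c (v1'.q y) = D''.c (v1''.q y)
      rw [show D'.c (v1'.q y) = D₁.c y from congrArg (fun g => g y) v1'.hc,
        show D''.c (v1''.q y) = D₁.c y from congrArg (fun g => g y) v1''.hc]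
    have hc2 : ∀ y, D'.toBaseHom.q (v2'.q y) = D''.toBaseHom.q (v2''.q y) := fun y => by
      show D'.c (v2'.q y) = D''.c (v2''.q y)
      rw [show D'.c (v2'.q y) = D₂.c y from congrArg (fun g => g y) v2'.hc,
        show D''.c (v2''.q y) = D₂.c y from congrArg (fun g => g y) v2''.hc]
    obtain ⟨g1⟩ := huniv D₁ v1' v1'' hc1
    obtain ⟨g2⟩ := huniv D₂ v2' v2'' hc2
    have e1 : D₁.toDef.cl = G.toDef.cl := Quotient.sound (iso_of_hom_id D₁ G g1)
    have e2 : D₂.toDef.cl = G.toDef.cl := Quotient.sound (iso_of_hom_id D₂ G g2)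
    rw [e1, e2]
  · exact s1_aff p' p'' _ _ h (dual Λ k).res_surjective

end Conditions

end Groth.Agent.Lib.R2H7.AffDef
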