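/-
Affine deformations (E): morphisms between the standard extensions `ext w` of `B` by `M`
induced by linear maps of the kernel modules.
-/
import Mathlib
import Groth.Prelude.Def_Exal
import Groth.Agent.Lib.Helper19ExalT1C

set_option autoImplicit false
universe u v

namespace Groth.Agent.Lib.R2H7.AffDef

open Exal Groth.Agent.Lib.Helper19.ExalT1

/-- A morphism of extensions of `B` over an additive map of the kernel modules. -/
structure ExtHom {A : Type u} {B M M₁ : Type v} [CommRing A] [CommRing B] [Algebra A B]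
    [AddCommGroup M] [Module B M] [AddCommGroup M₁] [Module B M₁]
    (X : Ext A B M) (X₁ : Ext A B M₁) (l : M →+ M₁) where
  /-- the ring map -/
  Q : X.E →+* X₁.E
  alg : ∀ a : A, Q (algebraMap A X.E a) = algebraMap A X₁.E a
  proj : ∀ y, X₁.proj (Q y) = X.proj y
  incl : ∀ m, Q (X.incl m) = X₁.incl (l m)

/-- an equivalence of extensions is a morphism over the identity -/
def ExtHom.ofEquiv {A : Type u} {B M : Type v} [CommRing A] [CommRing B] [Algebra A B]
    [AddCommGroup M] [Module B M] {X Y : Ext A B M} (e : Ext.Equiv X Y) :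
    ExtHom X Y (AddMonoidHom.id M) where
  Q := e.toAlgEquiv.toAlgHom.toRingHom
  alg := fun a => e.toAlgEquiv.commutes a
  proj := e.proj_apply
  incl := e.apply_incl

attribute [local instance] Exal.opModule Exal.isCentralScalar_opModule

section MapE

variable {A : Type u} {R B M M₁ : Type v} [CommRing A] [CommRing R] [CommRing B] [Algebra A R]
  [Algebra A B] [Algebra R B] [IsScalarTower A R B] [AddCommGroup M] [Module B M] [Module R M]
  [IsScalarTower R B M] [AddCommGroup M₁] [Module B M₁] [Module R M₁] [IsScalarTower R B M₁]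

/-- the map of middle rings induced by a linear map of kernel modules -/
noncomputable def mapE (l : M →ₗ[R] M₁) (w : RingHom.ker (algebraMap R B) →ₗ[R] M)
    (w₁ : RingHom.ker (algebraMap R B) →ₗ[R] M₁) (hl : ∀ i, l (w i) = w₁ i) : E w →+* E w₁ :=
  liftE w ((mkE w₁).comp (TrivSqZeroExt.map l).toRingHom) (by
    intro t ht
    obtain ⟨h, hw⟩ := ht
    show mkE w₁ (TrivSqZeroExt.map l t) = 0
    rw [mkE_eq_zero_iff, mem_graphIdeal]
    have hfst : (TrivSqZeroExt.map l t).fst = t.fst := TrivSqZeroExt.fst_map l t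
    refine ⟨by rw [hfst]; exact h, ?_⟩
    have h1 : (⟨(TrivSqZeroExt.map l t).fst, by rw [hfst]; exact h⟩ :
        RingHom.ker (algebraMap R B)) = ⟨t.fst, h⟩ := Subtype.ext hfst
    rw [h1, ← hl, hw, map_neg, TrivSqZeroExt.snd_map])

theorem mapE_mk (l : M →ₗ[R] M₁) (w : RingHom.ker (algebraMap R B) →ₗ[R] M)
    (w₁ : RingHom.ker (algebraMap R B) →ₗ[R] M₁) (hl : ∀ i, l (w i) = w₁ i)
    (t : TrivSqZeroExt R M) : mapE l w w₁ hl (mkE w t) = mkE w₁ (TrivSqZeroExt.map l t) := rfl

/-- the morphism of standard extensions induced by a linear map of kernel modules -/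
noncomputable def extHomOfMap (hsurj : Function.Surjective (algebraMap R B)) (l : M →ₗ[R] M₁)
    (w : RingHom.ker (algebraMap R B) →ₗ[R] M) (w₁ : RingHom.ker (algebraMap R B) →ₗ[R] M₁)
    (hl : ∀ i, l (w i) = w₁ i) :
    ExtHom (ext (A := A) hsurj w) (ext (A := A) hsurj w₁) l.toAddMonoidHom where
  Q := mapE l w w₁ hl
  alg := fun a => by
    show mapE l w w₁ hl (mkE w (TrivSqZeroExt.inl (algebraMap A R a))) =
      mkE w₁ (TrivSqZeroExt.inl (algebraMap A R a))
    rw [mapE_mk, TrivSqZeroExt.map_inl]
  proj := fun y => by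
    obtain ⟨t, rfl⟩ := mkE_surjective w y
    show (ext (A := A) hsurj w₁).proj (mkE w₁ (TrivSqZeroExt.map l t)) =
      (ext (A := A) hsurj w).proj (mkE w t)
    rw [ext_proj_mk, ext_proj_mk, TrivSqZeroExt.fst_map]
  incl := fun m => by
    show mkE w₁ (TrivSqZeroExt.map l (TrivSqZeroExt.inr m)) = mkE w₁ (TrivSqZeroExt.inr (l m))
    rw [TrivSqZeroExt.map_inr]

end MapE

section Der

variable {A : Type u} {R B M : Type v} [CommRing A] [CommRing R] [CommRing B] [Algebra A R]
  [Algebra A B] [Algebra R B] [IsScalarTower A R B] [AddCommGroup M] [Module B M] [Module R M]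
  [IsScalarTower R B M] [Module A M] [IsScalarTower A R M]

/-- restriction of derivations to the kernel, as a linear map -/
noncomputable def derRestrLin :
    Derivation A R M →ₗ[A] (RingHom.ker (algebraMap R B) →ₗ[R] M) where
  toFun D := derRestr (B := B) D
  map_add' _ _ := LinearMap.ext fun _ => rfl
  map_smul' _ _ := LinearMap.ext fun _ => rfl

theorem derRestrLin_apply (D : Derivation A R M) :
    derRestrLin (B := B) D = derRestr (B := B) D := rfl

end Der

end Groth.Agent.Lib.R2H7.AffDef
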