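/-
Affine deformations (F): ring data over the dual numbers `k[ε]` and over `k[ε₁, ε₂]` attached to
square-zero extensions of `B₀` by `B₀` and by `B₀ × B₀`, and the morphisms of ring data induced by
morphisms of extensions.
-/
import Mathlib
import Groth.Agent.Lib.R2H7AffDefD
import Groth.Agent.Lib.R2H7AffDefE
import Groth.Agent.Lib.R2H7DefDual

set_option autoImplicit false
set_option linter.unusedSectionVars false
universe u

open TensorProduct

namespace Groth.Agent.Lib.R2H7.AffDef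

open CategoryTheory CategoryTheory.Limits AlgebraicGeometry ArtFun ArtFun.Art Exal
open Groth.Agent.Lib.R2H7 Groth.Agent.Lib.Helper22

section Generic

variable {k : Type u} [Field k] {B₀ M : Type u} [CommRing B₀] [Algebra k B₀] [AddCommGroup M]
  [Module B₀ M] [Module k M] [IsScalarTower k B₀ M] (X : Ext k B₀ M)

theorem ext_proj_incl (m : M) : X.proj (X.incl m) = 0 := (X.isExtension.exact _).2 ⟨m, rfl⟩

theorem ext_incl_mul_incl (m m' : M) : X.incl m * X.incl m' = 0 := by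
  rw [X.isExtension.mul_incl, ext_proj_incl, zero_smul, map_zero]

theorem ext_incl_smul (a : k) (m : M) : X.incl (a • m) = a • X.incl m := by
  rw [Algebra.smul_def, X.isExtension.mul_incl, AlgHom.commutes, algebraMap_smul]

variable {V : Type u} [AddCommGroup V] [Module k V] [Module kᵐᵒᵖ V] [IsCentralScalar k V]
  (ι : V →ₗ[k] M)

/-- `v ↦ incl (ι v)` as a `k`-linear map -/
noncomputable def inclLin : V →ₗ[k] X.E where
  toFun v := X.incl (ι v)
  map_add' := fun v v' => by rw [map_add, map_add]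
  map_smul' := fun a v => by rw [map_smul, ext_incl_smul]; rfl

/-- the structure map `k ⊕ V → E` of an extension of `B₀` by `M` and a linear map `V → M` -/
noncomputable def alphaι : TrivSqZeroExt k V →ₐ[k] X.E :=
  TrivSqZeroExt.liftEquivOfComm ⟨inclLin X ι, fun v v' => ext_incl_mul_incl X _ _⟩

theorem alphaι_apply (t : TrivSqZeroExt k V) :
    alphaι X ι t = algebraMap k X.E t.fst + X.incl (ι t.snd) := rfl

theorem proj_alphaι (t : TrivSqZeroExt k V) : X.proj (alphaι X ι t) = algebraMap k B₀ t.fst := by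
  rw [alphaι_apply, map_add, AlgHom.commutes, ext_proj_incl, add_zero]

theorem ker_proj_le (hι : Submodule.span B₀ (Set.range ι) = ⊤) (res : TrivSqZeroExt k V →+* k)
    (hres : ∀ t, res t = t.fst) :
    RingHom.ker X.proj.toRingHom ≤ (RingHom.ker res).map (alphaι X ι).toRingHom := by
  intro y hy
  obtain ⟨m, rfl⟩ := (X.isExtension.exact y).1 ((RingHom.mem_ker).1 hy)
  have hm : m ∈ Submodule.span B₀ (Set.range ι) := by rw [hι]; trivial
  refine Submodule.span_induction (p := fun m _ => X.incl m ∈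
    (RingHom.ker res).map (alphaι X ι).toRingHom) ?_ ?_ ?_ ?_ hm
  · rintro _ ⟨v, rfl⟩
    have h1 : X.incl (ι v) = (alphaι X ι).toRingHom (TrivSqZeroExt.inr v) := by
      show _ = alphaι X ι (TrivSqZeroExt.inr v)
      rw [alphaι_apply, TrivSqZeroExt.fst_inr, TrivSqZeroExt.snd_inr, map_zero, zero_add]
    rw [h1]
    refine Ideal.mem_map_of_mem _ ?_
    rw [RingHom.mem_ker, hres, TrivSqZeroExt.fst_inr]
  · rw [map_zero]; exact Ideal.zero_mem _
  · intro a b _ _ ha hb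
    rw [map_add]; exact Ideal.add_mem _ ha hb
  · intro b m _ hm'
    obtain ⟨y', rfl⟩ := X.isExtension.proj_surjective b
    rw [← X.isExtension.mul_incl]
    exact Ideal.mul_mem_left _ _ hm'

section Compat

variable {M₁ : Type u} [AddCommGroup M₁] [Module B₀ M₁] [Module k M₁] [IsScalarTower k B₀ M₁]
  {X} {X₁ : Ext k B₀ M₁} {l : M →+ M₁} (H : ExtHom X X₁ l)
  {V₁ : Type u} [AddCommGroup V₁] [Module k V₁] [Module kᵐᵒᵖ V₁] [IsCentralScalar k V₁]

theorem alpha_compat (ι₁ : V₁ →ₗ[k] M₁) (lV : V →ₗ[k] V₁) (hl : ∀ v, l (ι v) = ι₁ (lV v))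
    (t : TrivSqZeroExt k V) (t₁ : TrivSqZeroExt k V₁) (ht : t₁ = (t.fst, lV t.snd)) :
    H.Q (alphaι X ι t) = alphaι X₁ ι₁ t₁ := by
  subst ht
  show H.Q (algebraMap k X.E t.fst + X.incl (ι t.snd)) =
    algebraMap k X₁.E t.fst + X₁.incl (ι₁ (lV t.snd))
  rw [map_add, H.alg, H.incl, hl]

end Compat

end Generic

section RDs

variable {Λ k : Type u} [CommRing Λ] [Field k] [Algebra Λ k] {B₀ : Type u} [CommRing B₀]
  [Algebra k B₀]

variable (k B₀) in
/-- `k → B₀` -/
noncomputable abbrev ι₁ : k →ₗ[k] B₀ := Algebra.linearMap k B₀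

variable (k B₀) in
/-- `k × k → B₀ × B₀` -/
noncomputable abbrev ι₂ : k × k →ₗ[k] B₀ × B₀ := (ι₁ k B₀).prodMap (ι₁ k B₀)

theorem span_ι₁ : Submodule.span B₀ (Set.range (ι₁ k B₀)) = ⊤ := by
  refine (Ideal.eq_top_iff_one _).2 (Submodule.subset_span ⟨1, ?_⟩)
  show algebraMap k B₀ 1 = 1
  exact map_one _

theorem span_ι₂ : Submodule.span B₀ (Set.range (ι₂ k B₀)) = ⊤ := by
  rw [eq_top_iff]
  rintro ⟨m₁, m₂⟩ -
  have h1 : ((1 : B₀), (0 : B₀)) ∈ Submodule.span B₀ (Set.range (ι₂ k B₀)) :=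
    Submodule.subset_span ⟨((1 : k), (0 : k)), by
      show ((algebraMap k B₀ 1, algebraMap k B₀ 0) : B₀ × B₀) = (1, 0)
      rw [map_one, map_zero]⟩
  have h2 : ((0 : B₀), (1 : B₀)) ∈ Submodule.span B₀ (Set.range (ι₂ k B₀)) :=
    Submodule.subset_span ⟨((0 : k), (1 : k)), by
      show ((algebraMap k B₀ 0, algebraMap k B₀ 1) : B₀ × B₀) = (0, 1)
      rw [map_one, map_zero]⟩
  have h3 : ((m₁, m₂) : B₀ × B₀) = m₁ • ((1 : B₀), (0 : B₀)) + m₂ • ((0 : B₀), (1 : B₀)) := by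
    refine Prod.ext ?_ ?_
    · simp
    · simp
  rw [h3]
  exact Submodule.add_mem _ (Submodule.smul_mem _ _ h1) (Submodule.smul_mem _ _ h2)

theorem alphaι_eq_alpha (X : Ext k B₀ B₀) : alphaι X (ι₁ k B₀) = DefDual.alpha X := by
  apply DualNumber.algHom_ext
  rw [DefDual.alpha_eps]
  show algebraMap k X.E 0 + X.incl (algebraMap k B₀ 1) = X.incl 1
  rw [map_zero, zero_add, map_one]

/-- ring data over the dual numbers attached to an extension of `B₀` by `B₀` -/
noncomputable def rd1 (X : Ext k B₀ B₀) : RD B₀ (dual Λ k) :=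
  { E := X.E
    α := (alphaι X (ι₁ k B₀)).toRingHom
    c := X.proj.toRingHom
    flat := by
      rw [alphaι_eq_alpha]
      exact DefDual.alpha_flat X
    hw := RingHom.ext fun t => proj_alphaι X (ι₁ k B₀) t
    surj := X.isExtension.proj_surjective
    ker := ker_proj_le X (ι₁ k B₀) span_ι₁ (dual Λ k).res.toRingHom (fun _ => rfl) }

/-- flatness over a fibre product from flatness of the two base changes -/
theorem flat_of_homs {B A A' A'' : Art Λ k} {p' : B ⟶ A'} {p'' : B ⟶ A''} {f' : A' ⟶ A}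
    {f'' : A'' ⟶ A} (h : IsFibreProd p' p'' f' f'') (hf'' : Function.Surjective f'')
    (D' : RD B₀ A') (D'' : RD B₀ A'')
    {E : Type u} [CommRing E] (α : B →+* E) (c : E →+* B₀)
    (hw : ∀ b, c (α b) = algebraMap k B₀ (B.res b)) (hsurj : Function.Surjective c)
    (hker : RingHom.ker c ≤ (RingHom.ker B.res.toRingHom).map α)
    (q' : E →+* D'.E) (hq'α : ∀ b, q' (α b) = D'.α (p' b)) (hq'c : ∀ y, D'.c (q' y) = c y)
    (q'' : E →+* D''.E) (hq''α : ∀ b, q'' (α b) = D''.α (p'' b))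
    (hq''c : ∀ y, D''.c (q'' y) = c y) : α.Flat := by
  letI : Algebra B A' := p'.toAlgHom.toRingHom.toAlgebra
  letI : Algebra B A'' := p''.toAlgHom.toRingHom.toAlgebra
  letI : Algebra A' A := f'.toAlgHom.toRingHom.toAlgebra
  letI : Algebra A'' A := f''.toAlgHom.toRingHom.toAlgebra
  letI : Algebra B A := (f'.toAlgHom.toRingHom.comp p'.toAlgHom.toRingHom).toAlgebra
  haveI : IsScalarTower B A' A := IsScalarTower.of_algebraMap_eq (fun _ => rfl)
  haveI : IsScalarTower B A'' A := IsScalarTower.of_algebraMap_eq (fun b => h.w_apply b)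
  letI : Algebra A' D'.E := D'.α.toAlgebra
  letI : Algebra A'' D''.E := D''.α.toAlgebra
  letI : Algebra B E := α.toAlgebra
  haveI : Module.Flat A' D'.E := D'.flat
  haveI : Module.Flat A'' D''.E := D''.flat
  have hsq : EtMil.IsFibreSquare B A' A'' A := by
    refine ⟨hf'', fun b a' hba => ?_⟩
    obtain ⟨b', hb1, hb2⟩ := h.surj b a' hba
    refine ⟨b', ⟨hb1, hb2⟩, fun y hy => ?_⟩
    exact h.inj y b' (hy.1.trans hb1.symm) (hy.2.trans hb2.symm)
  obtain ⟨n', hn'⟩ := exists_pow_ker_res A'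
  obtain ⟨n'', hn''⟩ := exists_pow_ker_res A''
  obtain ⟨e1, -⟩ := exists_equiv_of_hom (A' := B) (A := A') (E' := E) (E := D'.E) q' hq'α
    A'.res.toRingHom B.res.toRingHom (fun b => Art.res_app p' b) B.res_surjective n' hn'
    (algebraMap k B₀) c D'.c hq'c hsurj hker D'.ker (fun a => congrArg (fun g => g a) D'.hw)
  obtain ⟨e2, -⟩ := exists_equiv_of_hom (A' := B) (A := A'') (E' := E) (E := D''.E) q'' hq''α
    A''.res.toRingHom B.res.toRingHom (fun b => Art.res_app p'' b) B.res_surjective n'' hn''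
    (algebraMap k B₀) c D''.c hq''c hsurj hker D''.ker (fun a => congrArg (fun g => g a) D''.hw)
  haveI : Module.Flat A' (A' ⊗[B] E) := Module.Flat.of_linearEquiv e1
  haveI : Module.Flat A'' (A'' ⊗[B] E) := Module.Flat.of_linearEquiv e2
  show Module.Flat B E
  exact fs_flat hsq

/-- ring data over `k[ε₁, ε₂]` attached to an extension of `B₀` by `B₀ × B₀`, given flatness -/
noncomputable def rd2 (X : Ext k B₀ (B₀ × B₀)) (hflat : (alphaι X (ι₂ k B₀)).toRingHom.Flat) :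
    RD B₀ (dual2 Λ k) :=
  { E := X.E
    α := (alphaι X (ι₂ k B₀)).toRingHom
    c := X.proj.toRingHom
    flat := hflat
    hw := RingHom.ext fun t => proj_alphaι X (ι₂ k B₀) t
    surj := X.isExtension.proj_surjective
    ker := ker_proj_le X (ι₂ k B₀) span_ι₂ (dual2 Λ k).res.toRingHom (fun _ => rfl) }

/-- morphisms of ring data over `k[ε] → k[ε]` from morphisms of extensions -/
noncomputable def homDual {X X₁ : Ext k B₀ B₀} {l : B₀ →+ B₀} (H : ExtHom X X₁ l)
    (p : dual Λ k ⟶ dual Λ k) (lV : k →ₗ[k] k)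
    (hp : ∀ t : TrivSqZeroExt k k, p.toAlgHom t = (t.fst, lV t.snd))
    (hl : ∀ v, l (algebraMap k B₀ v) = algebraMap k B₀ (lV v)) :
    RD.Hom p (rd1 (Λ := Λ) X) (rd1 X₁) :=
  ⟨H.Q, RingHom.ext fun t => alpha_compat (ι₁ k B₀) H (ι₁ k B₀) lV hl t _ (hp t),
    RingHom.ext fun y => H.proj y⟩

/-- morphisms of ring data over `k[ε₁, ε₂] → k[ε]` from morphisms of extensions -/
noncomputable def homDual2 {X : Ext k B₀ (B₀ × B₀)} {X₁ : Ext k B₀ B₀} {l : B₀ × B₀ →+ B₀}
    (H : ExtHom X X₁ l) (hflat : (alphaι X (ι₂ k B₀)).toRingHom.Flat)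
    (p : dual2 Λ k ⟶ dual Λ k) (lV : k × k →ₗ[k] k)
    (hp : ∀ t : TrivSqZeroExt k (k × k), p.toAlgHom t = (t.fst, lV t.snd))
    (hl : ∀ v, l (ι₂ k B₀ v) = algebraMap k B₀ (lV v)) :
    RD.Hom p (rd2 (Λ := Λ) X hflat) (rd1 X₁) :=
  ⟨H.Q, RingHom.ext fun t => alpha_compat (ι₂ k B₀) H (ι₁ k B₀) lV hl t _ (hp t),
    RingHom.ext fun y => H.proj y⟩

/-- flatness of the structure map of an extension by `B₀ × B₀` mapping to two extensions by
`B₀` along the two projections -/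
theorem flat_alphaι₂ {X : Ext k B₀ (B₀ × B₀)} {X' X'' : Ext k B₀ B₀} {l' l'' : B₀ × B₀ →+ B₀}
    (H' : ExtHom X X' l') (H'' : ExtHom X X'' l'')
    (hl' : ∀ v, l' (ι₂ k B₀ v) = algebraMap k B₀ v.1)
    (hl'' : ∀ v, l'' (ι₂ k B₀ v) = algebraMap k B₀ v.2) (Λ : Type u) [CommRing Λ] [Algebra Λ k] :
    (alphaι X (ι₂ k B₀)).toRingHom.Flat := by
  refine flat_of_homs (Λ := Λ) (isFibreProd_dual2 (Λ := Λ) (k := k))
    (dual Λ k).res_surjective (rd1 X') (rd1 X'')
    (B := dual2 Λ k) (alphaι X (ι₂ k B₀)).toRingHom X.proj.toRingHom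
    (fun t => proj_alphaι X (ι₂ k B₀) t) X.isExtension.proj_surjective
    (ker_proj_le X (ι₂ k B₀) span_ι₂ (dual2 Λ k).res.toRingHom (fun _ => rfl))
    H'.Q (fun t => ?_) H'.proj H''.Q (fun t => ?_) H''.proj
  · exact alpha_compat (ι₂ k B₀) H' (ι₁ k B₀) (LinearMap.fst k k k) hl' t _ rfl
  · exact alpha_compat (ι₂ k B₀) H'' (ι₁ k B₀) (LinearMap.snd k k k) hl'' t _ rfl

end RDs

end Groth.Agent.Lib.R2H7.AffDef
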