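/-
Affine deformations (G): the tangent space of the deformation functor of `Spec B₀` is a
quotient of `Hom_R(I, B₀)` modulo restrictions of derivations, for a surjection `R → B₀` of
`k`-algebras through which extensions of `B₀` lift.  Finiteness of the tangent space.
-/
import Mathlib
import Groth.Agent.Lib.R2H7AffDefF
import Groth.Agent.Lib.Helper19ExalT1C

set_option autoImplicit false
set_option linter.unusedSectionVars false
universe u

namespace Groth.Agent.Lib.R2H7.AffDef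

open CategoryTheory CategoryTheory.Limits AlgebraicGeometry ArtFun ArtFun.Art Exal
open Groth.Agent.Lib.R2H7 Groth.Agent.Lib.Helper19.ExalT1

section Theta

variable {Λ k : Type u} [CommRing Λ] [Field k] [Algebra Λ k] {B₀ R : Type u} [CommRing B₀]
  [Algebra k B₀] [CommRing R] [Algebra k R] [Algebra R B₀] [IsScalarTower k R B₀]
  (hsurj : Function.Surjective (algebraMap R B₀))

variable (Λ k) in
/-- the first-order deformation attached to a linear map `I → B₀` -/
noncomputable def θ (w : RingHom.ker (algebraMap R B₀) →ₗ[R] B₀) :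
    TangentSpace (FB Λ k B₀) :=
  (rd1 (Λ := Λ) (ext (A := k) hsurj w)).toDef.cl

theorem θ_scale (c : k) (w : RingHom.ker (algebraMap R B₀) →ₗ[R] B₀) :
    (FB Λ k B₀).map (scale c) (θ Λ k hsurj w) = θ Λ k hsurj (c • w) := by
  have hl : ∀ i, (algebraMap k B₀ c • (LinearMap.id : B₀ →ₗ[R] B₀)) (w i) = (c • w) i := by
    intro i
    show algebraMap k B₀ c • w i = c • w i
    rw [algebraMap_smul]
  refine map_cl_eq_of_hom (scale c) _ _ (homDual
    (extHomOfMap (A := k) hsurj (algebraMap k B₀ c • (LinearMap.id : B₀ →ₗ[R] B₀)) w (c • w) hl)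
    (scale c) (c • LinearMap.id) (fun t => rfl) ?_)
  intro v
  show algebraMap k B₀ c * algebraMap k B₀ v = algebraMap k B₀ (c * v)
  rw [map_mul]

theorem θ_add (w w' : RingHom.ker (algebraMap R B₀) →ₗ[R] B₀) :
    ∃ z : (FB Λ k B₀).obj (dual2 Λ k), (FB Λ k B₀).map pr₁ z = θ Λ k hsurj w ∧
      (FB Λ k B₀).map pr₂ z = θ Λ k hsurj w' ∧ (FB Λ k B₀).map plus z = θ Λ k hsurj (w + w') := by
  let H' := extHomOfMap (A := k) hsurj (LinearMap.fst R B₀ B₀) (w.prod w') w (fun _ => rfl)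
  let H'' := extHomOfMap (A := k) hsurj (LinearMap.snd R B₀ B₀) (w.prod w') w' (fun _ => rfl)
  let Hp := extHomOfMap (A := k) hsurj (LinearMap.fst R B₀ B₀ + LinearMap.snd R B₀ B₀)
    (w.prod w') (w + w') (fun _ => rfl)
  have hflat := flat_alphaι₂ H' H'' (fun v => rfl) (fun v => rfl) Λ
  refine ⟨(rd2 (Λ := Λ) _ hflat).toDef.cl, ?_, ?_, ?_⟩
  · exact map_cl_eq_of_hom pr₁ _ _ (homDual2 H' hflat pr₁ (LinearMap.fst k k k) (fun t => rfl)
      (fun v => rfl))
  · exact map_cl_eq_of_hom pr₂ _ _ (homDual2 H'' hflat pr₂ (LinearMap.snd k k k) (fun t => rfl)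
      (fun v => rfl))
  · refine map_cl_eq_of_hom plus _ _ (homDual2 Hp hflat plus
      (LinearMap.fst k k k + LinearMap.snd k k k) (fun t => rfl) (fun v => ?_))
    show algebraMap k B₀ v.1 + algebraMap k B₀ v.2 = algebraMap k B₀ (v.1 + v.2)
    rw [map_add]

theorem θ_of_equiv {X Y : Ext k B₀ B₀} (e : Ext.Equiv X Y) :
    (rd1 (Λ := Λ) X).toDef.cl = (rd1 (Λ := Λ) Y).toDef.cl := by
  have h := map_cl_eq_of_hom (𝟙 (dual Λ k)) _ _ (homDual (Λ := Λ) (ExtHom.ofEquiv e) (𝟙 _)
    LinearMap.id (fun t => rfl) (fun v => rfl))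
  rwa [FunctorToTypes.map_id_apply] at h

theorem θ_add_der (w : RingHom.ker (algebraMap R B₀) →ₗ[R] B₀) (D : Derivation k R B₀) :
    θ Λ k hsurj (w + derRestr (B := B₀) D) = θ Λ k hsurj w :=
  θ_of_equiv (shiftEquiv (A := k) hsurj w D)

theorem θ_surjective
    (hlift : ∀ X : Ext k B₀ B₀, ∃ g : R →ₐ[k] X.E, ∀ r, X.proj (g r) = algebraMap R B₀ r)
    (z : TangentSpace (FB Λ k B₀)) : ∃ w, θ Λ k hsurj w = z := by
  obtain ⟨D, rfl⟩ := exists_rd_cl (A := dual Λ k) z
  have hDw : ∀ t, D.c (D.α t) = algebraMap k B₀ ((dual Λ k).res t) := fun t =>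
    congrArg (fun g => g t) D.hw
  have hD : DefDual.IsData (k := k) (B := B₀) (E := D.E) D.α D.c := by
    refine ⟨D.flat, RingHom.ext fun t => hDw t, D.surj, le_antisymm D.ker ?_⟩
    refine Ideal.map_le_iff_le_comap.2 (fun t ht => ?_)
    have ht' : (dual Λ k).res t = 0 := ht
    show D.c (D.α t) = 0
    rw [hDw, ht', map_zero]
  have hX : ∀ t, DefDual.alpha hD.toExt t = D.α t := fun t =>
    congrArg (fun g => g t) hD.alpha_toExt
  obtain ⟨g, hg⟩ := hlift hD.toExt
  refine ⟨wOf hD.toExt g hg, ?_⟩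
  have h1 : θ Λ k hsurj (wOf hD.toExt g hg) = (rd1 (Λ := Λ) hD.toExt).toDef.cl :=
    θ_of_equiv (compEquiv hsurj hD.toExt g hg)
  have h2 : RD.Hom (𝟙 (dual Λ k)) (rd1 (Λ := Λ) hD.toExt) D :=
    ⟨RingHom.id _, RingHom.ext fun t => by
        show alphaι hD.toExt (ι₁ k B₀) t = D.α t
        rw [alphaι_eq_alpha]
        exact hX t,
      RingHom.ext fun y => rfl⟩
  have h3 := map_cl_eq_of_hom (𝟙 (dual Λ k)) _ _ h2
  rw [FunctorToTypes.map_id_apply] at h3
  exact h1.trans h3

include hsurj in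
theorem hfin_aff
    (hlift : ∀ X : Ext k B₀ B₀, ∃ g : R →ₐ[k] X.E, ∀ r, X.proj (g r) = algebraMap R B₀ r)
    (hfin : Module.Finite k ((RingHom.ker (algebraMap R B₀) →ₗ[R] B₀) ⧸
      LinearMap.range (derRestrLin (A := k) (R := R) (B := B₀) (M := B₀))))
    [T : TangentStr (FB Λ k B₀)] : Hfin (FB Λ k B₀) := by
  let θL : (RingHom.ker (algebraMap R B₀) →ₗ[R] B₀) →ₗ[k] TangentSpace (FB Λ k B₀) :=
    { toFun := fun w => θ Λ k hsurj w
      map_add' := fun w w' => by
        obtain ⟨z, h1, h2, h3⟩ := θ_add (Λ := Λ) (k := k) hsurj w w'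
        have h4 := T.add_eq z
        rw [h1, h2, h3] at h4
        exact h4.symm
      map_smul' := fun c w => by
        rw [RingHom.id_apply]
        exact ((T.smul_eq c _).trans (θ_scale hsurj c w)).symm }
  have hle : LinearMap.range (derRestrLin (A := k) (R := R) (B := B₀) (M := B₀)) ≤
      LinearMap.ker θL := by
    rintro _ ⟨D, rfl⟩
    rw [LinearMap.mem_ker]
    have h1 := θ_add_der (Λ := Λ) hsurj 0 D
    rw [zero_add] at h1
    show θ Λ k hsurj (derRestr (B := B₀) D) = 0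
    rw [h1]
    exact map_zero θL
  have hsurjL : Function.Surjective (Submodule.liftQ _ θL hle) := by
    intro z
    obtain ⟨w, hw⟩ := θ_surjective (Λ := Λ) hsurj hlift z
    exact ⟨Submodule.Quotient.mk w, by rw [Submodule.liftQ_apply]; exact hw⟩
  exact Module.Finite.of_surjective _ hsurjL

end Theta

end Groth.Agent.Lib.R2H7.AffDef
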