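/-
Affine deformations (H): for a finitely presented algebra `B` over a field `k` whose non-smooth
locus is finite, the module `Hom_R(I, B)` modulo restrictions of derivations is finite over `k`
(`R → B` a polynomial presentation with kernel `I`).
-/
import Mathlib
import Groth.Agent.Lib.R2H7AffDefG
import Groth.Agent.Lib.Helper19ExalT1D

set_option autoImplicit false
set_option linter.unusedSectionVars false
universe u

namespace Groth.Agent.Lib.R2H7.AffDef

open Groth.Agent.Lib.Helper19.ExalT1

section Retract

variable {k B : Type u} [Field k] [CommRing B] [Algebra k B] [Algebra.FiniteType k B]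
  {ι σ : Type u} [Finite ι] [Finite σ] (P : Algebra.Presentation k B ι σ)

/-- at a smooth point the cotangent complex has a retraction up to a scalar outside the prime -/
theorem exists_retract (q : PrimeSpectrum B) (hq : q ∈ Algebra.smoothLocus k B) :
    ∃ (r : P.toExtension.CotangentSpace →ₗ[B] P.toExtension.Cotangent) (t : B),
      t ∉ q.asIdeal ∧ r ∘ₗ P.toExtension.cotangentComplex = t • LinearMap.id := by
  classical
  haveI : IsNoetherianRing B := Algebra.FiniteType.isNoetherianRing k B
  rw [Algebra.smoothLocus_eq_compl_support_inter] at hq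
  obtain ⟨hq1, hq2⟩ := hq
  let S := q.asIdeal.primeCompl
  let E := P.toExtension
  have hK : Subsingleton (LocalizedModule S E.H1Cotangent) := by
    apply Module.notMem_support_iff.1
    rw [(P.toGenerators.equivH1Cotangent).support_eq]
    exact hq1
  haveI : Module.Free (Localization.AtPrime q.asIdeal) (LocalizedModule S Ω[B⁄k]) :=
    Module.mem_freeLocus.1 hq2
  let dq := LocalizedModule.map S E.cotangentComplex
  let πq := LocalizedModule.map S E.toKaehler
  have hex : Function.Exact dq πq :=
    LocalizedModule.map_exact S _ _ E.exact_cotangentComplex_toKaehler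
  have hπq : Function.Surjective πq := LocalizedModule.map_surjective S _ E.toKaehler_surjective
  have hex0 : Function.Exact (LocalizedModule.map S E.h1Cotangentι) dq :=
    LocalizedModule.map_exact S _ _
      (fun x => ⟨fun hx => ⟨⟨x, hx⟩, rfl⟩, by rintro ⟨y, rfl⟩; exact y.2⟩)
  have hdq : Function.Injective dq := by
    rw [injective_iff_map_eq_zero]
    intro x hx
    obtain ⟨y, rfl⟩ := (hex0 x).1 hx
    rw [Subsingleton.elim y 0, map_zero]
  obtain ⟨σq, hσq⟩ := Module.projective_lifting_property πq LinearMap.id hπq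
  have htfae := @Function.Exact.split_tfae' (Localization S) (LocalizedModule S E.Cotangent)
    (LocalizedModule S E.CotangentSpace) (LocalizedModule S Ω[B⁄k]) _ _ _ _ _ _ _ dq πq hex
  obtain ⟨-, rq, hrq⟩ := (htfae.out 0 1 rfl rfl).1 ⟨hdq, σq, hσq⟩
  haveI : Module.Finite B E.Cotangent := Algebra.Extension.Cotangent.finite P.fg_ker
  haveI : Module.Finite B E.CotangentSpace := Module.Finite.of_basis P.cotangentSpaceBasis
  haveI : Module.FinitePresentation B E.CotangentSpace := Module.finitePresentation_of_finite B _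
  let g : E.CotangentSpace →ₗ[B] LocalizedModule S E.Cotangent :=
    (rq.restrictScalars B) ∘ₗ (LocalizedModule.mkLinearMap S E.CotangentSpace)
  obtain ⟨h, s, hs⟩ := Module.FinitePresentation.exists_lift_of_isLocalizedModule S
    (LocalizedModule.mkLinearMap S E.Cotangent) g
  have hcomp : (LocalizedModule.mkLinearMap S E.Cotangent).comp (h ∘ₗ E.cotangentComplex) =
      (LocalizedModule.mkLinearMap S E.Cotangent).comp ((s : B) • LinearMap.id) := by
    ext x
    have h1 : LocalizedModule.mkLinearMap S E.Cotangent (h (E.cotangentComplex x)) =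
        (s • g) (E.cotangentComplex x) := LinearMap.congr_fun hs (E.cotangentComplex x)
    have h2 : g (E.cotangentComplex x) = LocalizedModule.mkLinearMap S E.Cotangent x := by
      show rq (LocalizedModule.mkLinearMap S E.CotangentSpace (E.cotangentComplex x)) = _
      have h3 : LocalizedModule.mkLinearMap S E.CotangentSpace (E.cotangentComplex x) =
          dq (LocalizedModule.mkLinearMap S E.Cotangent x) := by
        rw [LocalizedModule.mkLinearMap_apply, LocalizedModule.mkLinearMap_apply]
        exact (LocalizedModule.map_mk S _ x 1).symm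
      rw [h3]
      exact LinearMap.congr_fun hrq _
    show LocalizedModule.mkLinearMap S E.Cotangent (h (E.cotangentComplex x)) =
      LocalizedModule.mkLinearMap S E.Cotangent ((s : B) • x)
    rw [h1, LinearMap.smul_apply, h2, map_smul]
    rfl
  obtain ⟨s', hs'⟩ := Module.Finite.exists_smul_of_comp_eq_of_isLocalizedModule S
    (LocalizedModule.mkLinearMap S E.Cotangent) _ _ hcomp
  refine ⟨(s' : B) • h, (s' : B) * (s : B), ?_, ?_⟩
  · exact fun hmem => (S.mul_mem s'.2 s.2) hmem
  · rw [LinearMap.smul_comp, mul_smul]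
    exact hs'

/-- the ideal of elements whose action on `Hom(I/I², B)` lands in the image of the cotangent
space -/
def killIdeal : Ideal B where
  carrier := {a | ∀ φ : P.toExtension.Cotangent →ₗ[B] B,
    ∃ ψ : P.toExtension.CotangentSpace →ₗ[B] B, a • φ = ψ ∘ₗ P.toExtension.cotangentComplex}
  add_mem' := fun {a b} ha hb φ => by
    obtain ⟨ψ₁, h₁⟩ := ha φ
    obtain ⟨ψ₂, h₂⟩ := hb φ
    exact ⟨ψ₁ + ψ₂, by rw [add_smul, h₁, h₂, LinearMap.add_comp]⟩
  zero_mem' := fun φ => ⟨0, by rw [zero_smul, LinearMap.zero_comp]⟩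
  smul_mem' := fun c a ha φ => by
    obtain ⟨ψ, h⟩ := ha φ
    exact ⟨c • ψ, by rw [smul_eq_mul, mul_smul, h, LinearMap.smul_comp]⟩

theorem mem_killIdeal (a : B) : a ∈ killIdeal P ↔ ∀ φ : P.toExtension.Cotangent →ₗ[B] B,
    ∃ ψ : P.toExtension.CotangentSpace →ₗ[B] B, a • φ = ψ ∘ₗ P.toExtension.cotangentComplex :=
  Iff.rfl

theorem exists_mem_killIdeal (q : PrimeSpectrum B) (hq : q ∈ Algebra.smoothLocus k B) :
    ∃ t ∈ killIdeal P, t ∉ q.asIdeal := by
  obtain ⟨r, t, ht, hr⟩ := exists_retract P q hq
  refine ⟨t, fun φ => ⟨φ ∘ₗ r, ?_⟩, ht⟩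
  rw [LinearMap.comp_assoc, hr, LinearMap.comp_smul, LinearMap.comp_id]

theorem finite_quot_killIdeal (hfin : (Algebra.smoothLocus k B)ᶜ.Finite) :
    Module.Finite k (B ⧸ killIdeal P) := by
  have hsub : PrimeSpectrum.zeroLocus (killIdeal P : Set B) ⊆ (Algebra.smoothLocus k B)ᶜ := by
    intro q hq hq'
    obtain ⟨t, ht, htq⟩ := exists_mem_killIdeal P q hq'
    exact htq (hq ht)
  have h1 : (PrimeSpectrum.comap (Ideal.Quotient.mk (killIdeal P)) ⁻¹'
      (PrimeSpectrum.zeroLocus (killIdeal P : Set B))).Finite :=
    (hfin.subset hsub).preimage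
      (PrimeSpectrum.comap_injective_of_surjective _ Ideal.Quotient.mk_surjective).injOn
  have h2 : PrimeSpectrum.comap (Ideal.Quotient.mk (killIdeal P)) ⁻¹'
      (PrimeSpectrum.zeroLocus (killIdeal P : Set B)) = Set.univ := by
    refine Set.eq_univ_of_forall fun p a ha => ?_
    show Ideal.Quotient.mk (killIdeal P) a ∈ p.asIdeal
    rw [Ideal.Quotient.eq_zero_iff_mem.2 ha]
    exact Ideal.zero_mem _
  rw [h2] at h1
  haveI : Finite (PrimeSpectrum (B ⧸ killIdeal P)) := Set.finite_univ_iff.1 h1
  haveI : Algebra.FiniteType k (B ⧸ killIdeal P) :=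
    Algebra.FiniteType.of_surjective (Ideal.Quotient.mkₐ k (killIdeal P))
      (Ideal.Quotient.mkₐ_surjective k _)
  haveI : IsJacobsonRing (B ⧸ killIdeal P) := isJacobsonRing_of_finiteType (A := k)
  haveI : Ring.KrullDimLE 0 (B ⧸ killIdeal P) :=
    (PrimeSpectrum.discreteTopology_iff_finite_and_krullDimLE_zero.1 inferInstance).2
  exact (Module.finite_iff_krullDimLE_zero k (B ⧸ killIdeal P)).2 inferInstance

end Retract

section FiniteT

variable {k B : Type u} [Field k] [CommRing B] [Algebra k B] [Algebra.FiniteType k B]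
  {ι σ : Type u} [Finite ι] [Finite σ] (P : Algebra.Presentation k B ι σ)

/-- `Hom_R(I, B)` for the polynomial ring `R` of a presentation -/
abbrev HomI : Type u :=
  RingHom.ker (algebraMap P.toExtension.Ring B) →ₗ[P.toExtension.Ring] B

theorem smul_mem_range_derRestr (e : B) (he : e ∈ killIdeal P) (w : HomI P) :
    e • w ∈ LinearMap.range
      (derRestrLin (A := k) (R := P.toExtension.Ring) (B := B) (M := B)) := by
  obtain ⟨ψ, hψ⟩ := he (φOf P w)
  refine ⟨derOf P ψ, ?_⟩
  rw [derRestrLin_apply]
  have h1 := wφ_add_comp P (0 : P.toExtension.Cotangent →ₗ[B] B) ψ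
  rw [zero_add, ← hψ] at h1
  have h2 : wφ P (e • φOf P w) = e • w := by
    apply LinearMap.ext
    intro i
    rw [wφ_apply, LinearMap.smul_apply, φOf_mk]
    rfl
  have h3 : wφ P (0 : P.toExtension.Cotangent →ₗ[B] B) = 0 := by
    apply LinearMap.ext
    intro i
    rfl
  rw [h2, h3, zero_add] at h1
  exact h1.symm

theorem finite_homI : Module.Finite B (HomI P) := by
  haveI : IsNoetherianRing B := Algebra.FiniteType.isNoetherianRing k B
  let gen : σ → RingHom.ker (algebraMap P.toExtension.Ring B) :=
    fun j => ⟨P.relation j, P.relation_mem_ker j⟩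
  have hspan : Submodule.span P.toExtension.Ring (Set.range gen) = ⊤ := by
    apply Submodule.map_injective_of_injective
      (f := Submodule.subtype (RingHom.ker (algebraMap P.toExtension.Ring B)))
      Subtype.val_injective
    rw [Submodule.map_span, ← Set.range_comp, Submodule.map_top, Submodule.range_subtype]
    exact P.span_range_relation_eq_ker
  let ev : HomI P →ₗ[B] (σ → B) :=
    { toFun := fun w j => w (gen j)
      map_add' := fun _ _ => rfl
      map_smul' := fun _ _ => rfl }
  have hev : Function.Injective ev := by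
    intro w₁ w₂ h
    apply LinearMap.ext_on hspan
    rintro _ ⟨j, rfl⟩
    exact congrFun h j
  exact Module.Finite.of_injective ev hev

theorem finite_T (hfin : (Algebra.smoothLocus k B)ᶜ.Finite) :
    Module.Finite k ((HomI P) ⧸ LinearMap.range
      (derRestrLin (A := k) (R := P.toExtension.Ring) (B := B) (M := B))) := by
  classical
  haveI := finite_homI P
  haveI := finite_quot_killIdeal P hfin
  obtain ⟨n, w, hw⟩ := Module.Finite.exists_fin (R := B) (M := HomI P)
  obtain ⟨m, c, hc⟩ := Module.Finite.exists_fin (R := k) (M := B ⧸ killIdeal P)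
  let b : Fin m → B := fun j => Function.surjInv Ideal.Quotient.mk_surjective (c j)
  have hb : ∀ j, Ideal.Quotient.mk (killIdeal P) (b j) = c j := fun j =>
    Function.surjInv_eq _ _
  set D := LinearMap.range
    (derRestrLin (A := k) (R := P.toExtension.Ring) (B := B) (M := B)) with hD
  let v : Fin n × Fin m → (HomI P) ⧸ D := fun p => D.mkQ (b p.2 • w p.1)
  have hv : Submodule.span k (Set.range v) = ⊤ := by
    rw [eq_top_iff]
    rintro x -
    obtain ⟨y, rfl⟩ := D.mkQ_surjective x
    have hy : y ∈ Submodule.span B (Set.range w) := by rw [hw]; trivial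
    obtain ⟨a, rfl⟩ := (Submodule.mem_span_range_iff_exists_fun B).1 hy
    rw [map_sum]
    refine Submodule.sum_mem _ (fun i _ => ?_)
    have hai : Ideal.Quotient.mk (killIdeal P) (a i) ∈ Submodule.span k (Set.range c) := by
      rw [hc]; trivial
    obtain ⟨l, hl⟩ := (Submodule.mem_span_range_iff_exists_fun k).1 hai
    have h1 : a i - ∑ j, l j • b j ∈ killIdeal P := by
      rw [← Ideal.Quotient.eq, map_sum, ← hl]
      refine Finset.sum_congr rfl (fun j _ => ?_)
      rw [← hb j]
      rfl
    have h2 : D.mkQ (a i • w i) = D.mkQ ((∑ j, l j • b j) • w i) := by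
      rw [Submodule.mkQ_apply, Submodule.mkQ_apply, Submodule.Quotient.eq]
      have h4 : a i • w i - (∑ j, l j • b j) • w i = (a i - ∑ j, l j • b j) • w i :=
        (sub_smul _ _ _).symm
      rw [h4]
      exact smul_mem_range_derRestr P _ h1 (w i)
    rw [h2, Finset.sum_smul, map_sum]
    refine Submodule.sum_mem _ (fun j _ => ?_)
    have h3 : (l j • b j) • w i = l j • (b j • w i) := by
      apply LinearMap.ext
      intro x
      exact smul_assoc (l j) (b j) (w i x)
    rw [h3, map_smul]
    exact Submodule.smul_mem _ _ (Submodule.subset_span ⟨(i, j), rfl⟩)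
  exact Module.finite_def.2 (Submodule.fg_def.2 ⟨Set.range v, Set.finite_range v, hv⟩)

theorem hlift_presentation (X : Exal.Ext k B B) :
    ∃ g : P.toExtension.Ring →ₐ[k] X.E, ∀ r, X.proj (g r) = algebraMap P.toExtension.Ring B r := by
  let g : P.toExtension.Ring →ₐ[k] X.E :=
    (MvPolynomial.aeval (fun i => Function.surjInv X.isExtension.proj_surjective (P.val i)) :
      MvPolynomial ι k →ₐ[k] X.E)
  refine ⟨g, fun r => ?_⟩
  have h1 : X.proj.comp g = IsScalarTower.toAlgHom k P.toExtension.Ring B := by
    refine MvPolynomial.algHom_ext fun i => ?_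
    show X.proj (MvPolynomial.aeval _ (MvPolynomial.X i)) =
      algebraMap P.toExtension.Ring B (MvPolynomial.X i)
    rw [MvPolynomial.aeval_X, Function.surjInv_eq X.isExtension.proj_surjective,
      CotT.algebraMap_toExtension, MvPolynomial.aeval_X]
  exact AlgHom.congr_fun h1 r

end FiniteT

section Main

open CategoryTheory AlgebraicGeometry ArtFun ArtFun.Art

variable {Λ k : Type u} [CommRing Λ] [Field k] [Algebra Λ k] {B₀ : Type u} [CommRing B₀]
  [Algebra k B₀]

/-- finiteness of the tangent space of the deformation functor of `Spec B₀`, for `B₀` of finite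
type over `k` with finite non-smooth locus -/
theorem hfin_of_finite_nonsmooth [Algebra.FiniteType k B₀]
    (hfin : (Algebra.smoothLocus k B₀)ᶜ.Finite) [T : TangentStr (FB Λ k B₀)] :
    Hfin (FB Λ k B₀) := by
  haveI : Algebra.FinitePresentation k B₀ := Algebra.FinitePresentation.of_finiteType.1 inferInstance
  let P := (Algebra.Presentation.ofFinitePresentation k B₀).reindex
    (Equiv.ulift.{u} (α := Fin (Algebra.Presentation.ofFinitePresentationVars k B₀)))
    (Equiv.ulift.{u} (α := Fin (Algebra.Presentation.ofFinitePresentationRels k B₀)))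
  exact hfin_aff (R := P.toExtension.Ring) P.toExtension.algebraMap_surjective
    (hlift_presentation P) (finite_T P hfin)

end Main

end Groth.Agent.Lib.R2H7.AffDef
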