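/-
Affine deformations (I): transport of hulls along isomorphisms of the deformed scheme, and the
existence of a hull for the deformation functor of an affine scheme of finite type over a field
with finite non-smooth locus.
-/
import Mathlib
import Groth.Agent.Lib.R2H7AffDefH
import Groth.Agent.Lib.Helper19Hull
import Groth.Agent.Lib.H6xTangentStr

set_option autoImplicit false
set_option linter.unusedSectionVars false
universe u v

namespace Groth.Agent.Lib.R2H7.AffDef

open CategoryTheory CategoryTheory.Limits AlgebraicGeometry ArtFun ArtFun.Art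

section Transport

variable {Λ k : Type u} [CommRing Λ] [Field k] [Algebra Λ k]

/-- hulls transport along natural bijections -/
theorem hasHull_of_equiv {F F' : Art Λ k ⥤ Type v} (e : ∀ A, F'.obj A ≃ F.obj A)
    (he : ∀ {A B : Art Λ k} (f : A ⟶ B) (z : F'.obj A), e B (F'.map f z) = F.map f (e A z))
    (h : HasHull F') : HasHull F := by
  obtain ⟨⟨R, ξ, hv, hb⟩⟩ := h
  refine ⟨⟨R, ⟨fun A φ => e A (ξ.app A φ), fun f φ => by rw [ξ.natural, he]⟩, ?_, ?_⟩⟩
  · intro B A μ hμ φ y hy
    have h1 : F'.map μ ((e B).symm y) = ξ.app A φ := by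
      apply (e A).injective
      rw [he, Equiv.apply_symm_apply]
      exact hy
    obtain ⟨ψ, h2, h3⟩ := hv μ hμ φ ((e B).symm y) h1
    refine ⟨ψ, h2, ?_⟩
    show e B (ξ.app B ψ) = y
    rw [h3, Equiv.apply_symm_apply]
  · exact (e _).bijective.comp hb

variable {X X' : Scheme.{u}} {x : X ⟶ specPt k} {x' : X' ⟶ specPt k}

/-- transport of deformations along an isomorphism of the closed fibre -/
noncomputable def transDef (φ : X ≅ X') (hx : φ.hom ≫ x' = x) {A : Art Λ k}
    (ξ : DefSch (Λ := Λ) X' x' A) : DefSch (Λ := Λ) X x A where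
  total := ξ.total
  f := ξ.f
  flat := ξ.flat
  i := φ.hom ≫ ξ.i
  isPullback := by
    have h1 : IsPullback φ.hom x x' (𝟙 _) :=
      IsPullback.of_horiz_isIso ⟨by rw [Category.comp_id, hx]⟩
    have h2 := h1.paste_horiz ξ.isPullback
    rwa [Category.id_comp] at h2

/-- transport of isomorphisms of deformations -/
noncomputable def transIso (φ : X ≅ X') (hx : φ.hom ≫ x' = x) {A : Art Λ k}
    {ξ₁ ξ₂ : DefSch (Λ := Λ) X' x' A} (e : DefSch.Iso ξ₁ ξ₂) :
    DefSch.Iso (transDef φ hx ξ₁) (transDef φ hx ξ₂) :=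
  ⟨e.iso, e.hom_f, by
    show (φ.hom ≫ ξ₁.i) ≫ e.iso.hom = φ.hom ≫ ξ₂.i
    rw [Category.assoc, e.i_hom]⟩

theorem symm_cond (φ : X ≅ X') (hx : φ.hom ≫ x' = x) : φ.symm.hom ≫ x = x' := by
  rw [Iso.symm_hom, ← hx, Iso.inv_hom_id_assoc]

/-- the bijection on isomorphism classes of deformations -/
noncomputable def transEquiv (φ : X ≅ X') (hx : φ.hom ≫ x' = x) (A : Art Λ k) :
    (defFunctor (Λ := Λ) X' x').obj A ≃ (defFunctor (Λ := Λ) X x).obj A where
  toFun := Quotient.map' (transDef φ hx) (fun _ _ ⟨e⟩ => ⟨transIso φ hx e⟩)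
  invFun := Quotient.map' (transDef φ.symm (symm_cond φ hx))
    (fun _ _ ⟨e⟩ => ⟨transIso φ.symm (symm_cond φ hx) e⟩)
  left_inv := fun q => by
    induction q using Quotient.inductionOn with
    | h ξ =>
      exact Quotient.sound ⟨⟨Iso.refl _, Category.id_comp _, by
        show (φ.symm.hom ≫ φ.hom ≫ ξ.i) ≫ 𝟙 _ = ξ.i
        rw [Category.comp_id, Iso.symm_hom, Iso.inv_hom_id_assoc]⟩⟩
  right_inv := fun q => by
    induction q using Quotient.inductionOn with
    | h ξ =>
      exact Quotient.sound ⟨⟨Iso.refl _, Category.id_comp _, by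
        show (φ.hom ≫ φ.symm.hom ≫ ξ.i) ≫ 𝟙 _ = ξ.i
        rw [Category.comp_id, Iso.symm_hom, Iso.hom_inv_id_assoc]⟩⟩

theorem transEquiv_cl (φ : X ≅ X') (hx : φ.hom ≫ x' = x) {A : Art Λ k}
    (ξ : DefSch (Λ := Λ) X' x' A) : transEquiv φ hx A ξ.cl = (transDef φ hx ξ).cl := rfl

theorem transEquiv_map (φ : X ≅ X') (hx : φ.hom ≫ x' = x) {A B : Art Λ k} (g : A ⟶ B)
    (z : (defFunctor (Λ := Λ) X' x').obj A) :
    transEquiv φ hx B ((defFunctor (Λ := Λ) X' x').map g z) =
      (defFunctor (Λ := Λ) X x).map g (transEquiv φ hx A z) := by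
  induction z using Quotient.inductionOn with
  | h ξ =>
    show transEquiv φ hx B ((defFunctor (Λ := Λ) X' x').map g ξ.cl) =
      (defFunctor (Λ := Λ) X x).map g (transEquiv φ hx A ξ.cl)
    rw [defFunctor_map_cl, transEquiv_cl, transEquiv_cl, defFunctor_map_cl]
    refine Quotient.sound ⟨⟨Iso.refl _, Category.id_comp _, ?_⟩⟩
    show (φ.hom ≫ (ξ.baseChange g).i) ≫ 𝟙 _ = ((transDef φ hx ξ).baseChange g).i
    rw [Category.comp_id]
    have h1 := DefSch.baseChange_i_fst ξ g
    have h2 := DefSch.baseChange_i_f ξ g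
    have h3 := DefSch.baseChange_i_fst (transDef φ hx ξ) g
    have h4 := DefSch.baseChange_i_f (transDef φ hx ξ) g
    apply pullback.hom_ext
    · rw [Category.assoc, h1]
      exact h3.symm
    · rw [Category.assoc]
      refine Eq.trans ?_ h4.symm
      rw [← hx, Category.assoc]
      exact congrArg (fun t => φ.hom ≫ t) h2

theorem hasHull_of_iso (φ : X ≅ X') (hx : φ.hom ≫ x' = x)
    (h : HasHull (defFunctor (Λ := Λ) X' x')) : HasHull (defFunctor (Λ := Λ) X x) :=
  hasHull_of_equiv (transEquiv φ hx) (fun g z => transEquiv_map φ hx g z) h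

end Transport

section Ring

variable {k : Type u} [Field k] {B₀ : Type u} [CommRing B₀] [Algebra k B₀] {X : Scheme.{u}}
  {x : X ⟶ Spec (CommRingCat.of k)} (φ : X ≅ Spec (CommRingCat.of B₀))
  (hx : φ.hom ≫ Spec.map (CommRingCat.ofHom (algebraMap k B₀)) = x)

include hx in
theorem finiteType_of_iso [LocallyOfFiniteType x] : Algebra.FiniteType k B₀ := by
  have h1 : Spec.map (CommRingCat.ofHom (algebraMap k B₀)) = φ.inv ≫ x := by
    rw [← hx, Iso.inv_hom_id_assoc]
  have h2 : LocallyOfFiniteType (Spec.map (CommRingCat.ofHom (algebraMap k B₀))) := by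
    rw [h1]; infer_instance
  have h3 := (HasRingHomProperty.Spec_iff (P := @LocallyOfFiniteType)).1 h2
  exact RingHom.finiteType_algebraMap.1 h3

include hx in
theorem smooth_away (U : X.Opens) (hU : Smooth (U.ι ≫ x)) (g : B₀)
    (hg : ∀ q : PrimeSpectrum B₀, q ∈ PrimeSpectrum.basicOpen g → φ.inv q ∈ U) :
    Algebra.Smooth k (Localization.Away g) := by
  let ιg : Spec (CommRingCat.of (Localization.Away g)) ⟶ Spec (CommRingCat.of B₀) :=
    Spec.map (CommRingCat.ofHom (algebraMap B₀ (Localization.Away g)))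
  have hrange : Set.range (ιg ≫ φ.inv) ⊆ Set.range U.ι := by
    rw [Scheme.Opens.range_ι]
    rintro _ ⟨y, rfl⟩
    have h1 : ιg y ∈ (PrimeSpectrum.basicOpen g : Set (PrimeSpectrum B₀)) := by
      rw [← PrimeSpectrum.localization_away_comap_range (Localization.Away g) g]
      exact ⟨y, rfl⟩
    rw [Scheme.Hom.comp_apply]
    exact hg _ h1
  let j := IsOpenImmersion.lift U.ι (ιg ≫ φ.inv) hrange
  have hj : j ≫ U.ι = ιg ≫ φ.inv := IsOpenImmersion.lift_fac _ _ _
  haveI : IsOpenImmersion (j ≫ U.ι) := by rw [hj]; infer_instance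
  haveI : IsOpenImmersion j := IsOpenImmersion.of_comp j U.ι
  haveI := hU
  have h2 : Smooth (j ≫ U.ι ≫ x) := inferInstance
  have h3 : j ≫ U.ι ≫ x =
      Spec.map (CommRingCat.ofHom (algebraMap k (Localization.Away g))) := by
    rw [← Category.assoc, hj, Category.assoc, ← hx, Iso.inv_hom_id_assoc, ← Spec.map_comp]
    congr 1
  rw [h3] at h2
  exact RingHom.smooth_algebraMap.1 ((HasRingHomProperty.Spec_iff (P := @Smooth)).1 h2)

include hx in
theorem finite_nonsmooth_of_iso [Algebra.FiniteType k B₀] (U : X.Opens)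
    (hU : Smooth (U.ι ≫ x)) (hfin : ((U : Set X)ᶜ).Finite) :
    (Algebra.smoothLocus k B₀)ᶜ.Finite := by
  haveI : Algebra.FinitePresentation k B₀ :=
    Algebra.FinitePresentation.of_finiteType.1 inferInstance
  let f : PrimeSpectrum B₀ → X := fun q => φ.inv q
  have hfinj : Function.Injective f := by
    intro q₁ q₂ h
    have h1 : φ.hom (φ.inv q₁) = φ.hom (φ.inv q₂) := congrArg (fun t => φ.hom t) h
    rw [← Scheme.Hom.comp_apply, ← Scheme.Hom.comp_apply, φ.inv_hom_id] at h1
    exact h1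
  have hsub : (Algebra.smoothLocus k B₀)ᶜ ⊆ f ⁻¹' ((U : Set X)ᶜ) := by
    intro q hq hqU
    apply hq
    have hopen : IsOpen (f ⁻¹' (U : Set X)) := U.2.preimage φ.inv.continuous
    obtain ⟨_, ⟨_, ⟨g, rfl⟩, rfl⟩, hqg, hgU⟩ :=
      PrimeSpectrum.isBasis_basic_opens.exists_subset_of_mem_open
        (show q ∈ f ⁻¹' (U : Set X) from hqU) hopen
    have hsm := smooth_away φ hx U hU g (fun q' hq' => hgU hq')
    exact (Algebra.basicOpen_subset_smoothLocus_iff_smooth.2 hsm) hqg
  exact (hfin.preimage hfinj.injOn).subset hsub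

end Ring

section Final

variable {Λ k : Type u} [CommRing Λ] [IsLocalRing Λ] [IsNoetherianRing Λ]
  [IsAdicComplete (IsLocalRing.maximalIdeal Λ) Λ] [Field k] [Algebra Λ k]

/-- The deformation functor of an affine scheme of finite type over `k` with finite non-smooth
locus has a hull. -/
theorem hasHull_affine (hk : Function.Surjective (algebraMap Λ k)) (X : Scheme.{u}) [IsAffine X]
    (x : X ⟶ Spec (CommRingCat.of k)) [LocallyOfFiniteType x] (U : X.Opens)
    (hU : Smooth (U.ι ≫ x)) (hfin : ((U : Set X)ᶜ).Finite) :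
    HasHull (defFunctor (Λ := Λ) X x) := by
  let a : CommRingCat.of k ⟶ Γ(X, ⊤) := Spec.preimage (X.isoSpec.inv ≫ x)
  have ha : Spec.map a = X.isoSpec.inv ≫ x := Spec.map_preimage _
  letI : Algebra k Γ(X, ⊤) := a.hom.toAlgebra
  let φ : X ≅ Spec (CommRingCat.of Γ(X, ⊤)) := X.isoSpec
  have hx : φ.hom ≫ Spec.map (CommRingCat.ofHom (algebraMap k Γ(X, ⊤))) = x := by
    show X.isoSpec.hom ≫ Spec.map a = x
    rw [ha, Iso.hom_inv_id_assoc]
  haveI : Algebra.FiniteType k Γ(X, ⊤) := finiteType_of_iso φ hx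
  have hns := finite_nonsmooth_of_iso φ hx U hU hfin
  haveI : Module.Finite Λ k := Module.Finite.of_surjective (Algebra.linearMap Λ k) hk
  letI T : TangentStr (FB Λ k Γ(X, ⊤)) := Groth.Agent.Lib.H6xTangentStr.tangentStr h0_aff heps_aff
  have hH : HasHull (FB Λ k Γ(X, ⊤)) :=
    Groth.Agent.Lib.Helper19.hasHull_of_s1_heps_hfin hk h0_aff s1_aff heps_aff
      (hfin_of_finite_nonsmooth hns)
  exact hasHull_of_iso φ hx hH

end Final

end Groth.Agent.Lib.R2H7.AffDef
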