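import Mathlib
import Groth.Agent.Lib.Helper25MultRigid

/-!
# R2H7HopfDesc: descent of Hopf algebra structures along faithfully flat ring maps

Let `R → R'` be faithfully flat, `B` a commutative Hopf algebra over `R'` and `j : A → B` an
`R`-algebra map such that `R' ⊗[R] A → B` is bijective.  If the comultiplication, counit and antipode
of `B` preserve `A` (in the sense that `Δ (j a)` lies in the image of `A ⊗[R] A`, etc.), then `A` is a
Hopf algebra over `R` (`hopfOfDescent`) and `R' ⊗[R] A ≃ₐc[R'] B` (`bialgEquivOfDescent`).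
-/

set_option autoImplicit false
universe u

namespace Groth.Agent.Lib.R2H7.HopfDesc

open TensorProduct Coalgebra

section Compare

variable {R : Type u} [CommRing R] {R' : Type u} [CommRing R'] [Algebra R R']
  {A : Type u} [CommRing A] [Algebra R A]
  {B : Type u} [CommRing B] [Algebra R' B] [Algebra R B] [IsScalarTower R R' B]
  (j : A →ₐ[R] B)

/-- The natural map `R' ⊗[R] A → B`. -/
noncomputable def theta : R' ⊗[R] A →ₐ[R'] B :=
  Algebra.TensorProduct.lift (Algebra.ofId R' B) j (fun _ _ => Commute.all _ _)

theorem theta_tmul (r : R') (a : A) : theta j (r ⊗ₜ[R] a) = r • j a := by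
  simp [theta, Algebra.smul_def]

/-- `A ⊗[R] A → B ⊗[R'] B`. -/
noncomputable def j2 : A ⊗[R] A →ₐ[R] B ⊗[R'] B :=
  Algebra.TensorProduct.lift
    (((Algebra.TensorProduct.includeLeft : B →ₐ[R'] B ⊗[R'] B).restrictScalars R).comp j)
    (((Algebra.TensorProduct.includeRight : B →ₐ[R'] B ⊗[R'] B).restrictScalars R).comp j)
    (fun _ _ => Commute.all _ _)

theorem j2_tmul (a a' : A) : j2 (R' := R') j (a ⊗ₜ[R] a') = j a ⊗ₜ[R'] j a' := by
  simp [j2, Algebra.TensorProduct.tmul_mul_tmul]

/-- `A ⊗[R] (A ⊗[R] A) → B ⊗[R'] (B ⊗[R'] B)`. -/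
noncomputable def j3 : A ⊗[R] (A ⊗[R] A) →ₐ[R] B ⊗[R'] (B ⊗[R'] B) :=
  Algebra.TensorProduct.lift
    (((Algebra.TensorProduct.includeLeft : B →ₐ[R'] B ⊗[R'] (B ⊗[R'] B)).restrictScalars R).comp j)
    (((Algebra.TensorProduct.includeRight :
      B ⊗[R'] B →ₐ[R'] B ⊗[R'] (B ⊗[R'] B)).restrictScalars R).comp (j2 j))
    (fun _ _ => Commute.all _ _)

theorem j3_tmul (a : A) (y : A ⊗[R] A) :
    j3 (R' := R') j (a ⊗ₜ[R] y) = j a ⊗ₜ[R'] j2 (R' := R') j y := by
  simp [j3, Algebra.TensorProduct.tmul_mul_tmul]

variable (hΘ : Function.Bijective (theta (R' := R') j))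

/-- `theta` as a linear equivalence. -/
noncomputable def thetaEquiv : R' ⊗[R] A ≃ₗ[R'] B :=
  LinearEquiv.ofBijective (theta (R' := R') j).toLinearMap hΘ

theorem thetaEquiv_tmul (r : R') (a : A) : thetaEquiv j hΘ (r ⊗ₜ[R] a) = r • j a :=
  theta_tmul j r a

/-- `R' ⊗ (A ⊗ A) ≃ B ⊗ B`. -/
noncomputable def kappa : R' ⊗[R] (A ⊗[R] A) ≃ₗ[R'] B ⊗[R'] B :=
  (AlgebraTensorModule.distribBaseChange R R' A A) ≪≫ₗ
    (TensorProduct.congr (thetaEquiv j hΘ) (thetaEquiv j hΘ))

theorem kappa_one_tmul (x : A ⊗[R] A) : kappa j hΘ ((1 : R') ⊗ₜ[R] x) = j2 (R' := R') j x := by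
  induction x using TensorProduct.induction_on with
  | zero => simp
  | tmul a a' =>
    rw [kappa, LinearEquiv.trans_apply, AlgebraTensorModule.distribBaseChange_tmul,
      TensorProduct.congr_tmul, thetaEquiv_tmul, thetaEquiv_tmul, one_smul, one_smul, j2_tmul]
  | add a b ha hb => rw [tmul_add, map_add, ha, hb, map_add]

/-- `R' ⊗ (A ⊗ (A ⊗ A)) ≃ B ⊗ (B ⊗ B)`. -/
noncomputable def kappa3 : R' ⊗[R] (A ⊗[R] (A ⊗[R] A)) ≃ₗ[R'] B ⊗[R'] (B ⊗[R'] B) :=
  (AlgebraTensorModule.distribBaseChange R R' A (A ⊗[R] A)) ≪≫ₗ
    (TensorProduct.congr (thetaEquiv j hΘ) (kappa j hΘ))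

theorem kappa3_one_tmul (x : A ⊗[R] (A ⊗[R] A)) :
    kappa3 j hΘ ((1 : R') ⊗ₜ[R] x) = j3 (R' := R') j x := by
  induction x using TensorProduct.induction_on with
  | zero => simp
  | tmul a y =>
    rw [kappa3, LinearEquiv.trans_apply, AlgebraTensorModule.distribBaseChange_tmul,
      TensorProduct.congr_tmul, thetaEquiv_tmul, one_smul, kappa_one_tmul, j3_tmul]
  | add a b ha hb => rw [tmul_add, map_add, ha, hb, map_add]

variable [Module.FaithfullyFlat R R']

include hΘ in
theorem j_injective : Function.Injective j := by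
  intro a a' h
  have h1 : thetaEquiv j hΘ ((1 : R') ⊗ₜ[R] a) = thetaEquiv j hΘ ((1 : R') ⊗ₜ[R] a') := by
    rw [thetaEquiv_tmul, thetaEquiv_tmul, h]
  exact Module.FaithfullyFlat.tensorProduct_mk_injective (A := R) (B := R') A
    ((thetaEquiv j hΘ).injective h1)

include hΘ in
theorem j2_injective : Function.Injective (j2 (R' := R') j) := by
  intro x y h
  rw [← kappa_one_tmul j hΘ, ← kappa_one_tmul j hΘ] at h
  exact Module.FaithfullyFlat.tensorProduct_mk_injective (A := R) (B := R') (A ⊗[R] A)
    ((kappa j hΘ).injective h)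

include hΘ in
theorem j3_injective : Function.Injective (j3 (R' := R') j) := by
  intro x y h
  rw [← kappa3_one_tmul j hΘ, ← kappa3_one_tmul j hΘ] at h
  exact Module.FaithfullyFlat.tensorProduct_mk_injective (A := R) (B := R') (A ⊗[R] (A ⊗[R] A))
    ((kappa3 j hΘ).injective h)

end Compare

section Hopf

variable {R : Type u} [CommRing R] {R' : Type u} [CommRing R'] [Algebra R R']
  [Module.FaithfullyFlat R R']
  {A : Type u} [CommRing A] [Algebra R A]
  {B : Type u} [CommRing B] [HopfAlgebra R' B] [Algebra R B] [IsScalarTower R R' B]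
  (j : A →ₐ[R] B) (hΘ : Function.Bijective (theta (R' := R') j))
  (hΔ : ∀ a, comul (R := R') (j a) ∈ Set.range (j2 (R' := R') j))
  (hε : ∀ a, counit (R := R') (j a) ∈ Set.range (algebraMap R R'))
  (hS : ∀ a, HopfAlgebra.antipode R' (j a) ∈ Set.range j)

/-- The descended comultiplication. -/
noncomputable def comulA : A →ₐ[R] A ⊗[R] A :=
  ((AlgEquiv.ofInjective (j2 (R' := R') j) (j2_injective j hΘ)).symm : _ →ₐ[R] _).comp
    ((((Bialgebra.comulAlgHom R' B).restrictScalars R).comp j).codRestrict
      (j2 (R' := R') j).range (fun a => (AlgHom.mem_range _).mpr (hΔ a)))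

theorem j2_comulA (a : A) : j2 (R' := R') j (comulA j hΘ hΔ a) = comul (R := R') (j a) := by
  have h := (AlgEquiv.ofInjective (j2 (R' := R') j) (j2_injective j hΘ)).apply_symm_apply
    ((((Bialgebra.comulAlgHom R' B).restrictScalars R).comp j).codRestrict
      (j2 (R' := R') j).range (fun a => (AlgHom.mem_range _).mpr (hΔ a)) a)
  exact congrArg Subtype.val h

theorem algebraMap_injective' : Function.Injective (Algebra.ofId R R') :=
  FaithfulSMul.algebraMap_injective R R'

/-- The descended counit. -/
noncomputable def counitA : A →ₐ[R] R :=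
  ((AlgEquiv.ofInjective (Algebra.ofId R R') algebraMap_injective').symm : _ →ₐ[R] _).comp
    ((((Bialgebra.counitAlgHom R' B).restrictScalars R).comp j).codRestrict
      (Algebra.ofId R R').range (fun a => (AlgHom.mem_range _).mpr (hε a)))

theorem algebraMap_counitA (a : A) :
    algebraMap R R' (counitA j hε a) = counit (R := R') (j a) := by
  have h := (AlgEquiv.ofInjective (Algebra.ofId R R') algebraMap_injective').apply_symm_apply
    ((((Bialgebra.counitAlgHom R' B).restrictScalars R).comp j).codRestrict
      (Algebra.ofId R R').range (fun a => (AlgHom.mem_range _).mpr (hε a)) a)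
  exact congrArg Subtype.val h

/-- The descended antipode. -/
noncomputable def antipodeA : A →ₗ[R] A :=
  ((LinearEquiv.ofInjective j.toLinearMap (j_injective j hΘ)).symm : _ →ₗ[R] _) ∘ₗ
    (((HopfAlgebra.antipode R' (A := B)).restrictScalars R) ∘ₗ j.toLinearMap).codRestrict
      (LinearMap.range j.toLinearMap) (fun a => hS a)

theorem j_antipodeA (a : A) : j (antipodeA j hΘ hS a) = HopfAlgebra.antipode R' (j a) := by
  have h := (LinearEquiv.ofInjective j.toLinearMap (j_injective j hΘ)).apply_symm_apply
    ((((HopfAlgebra.antipode R' (A := B)).restrictScalars R) ∘ₗ j.toLinearMap).codRestrict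
      (LinearMap.range j.toLinearMap) (fun a => hS a) a)
  exact congrArg Subtype.val h

/-! ### Naturality identities -/

theorem j3_assoc_tmul (y : A ⊗[R] A) (a' : A) :
    j3 (R' := R') j (Algebra.TensorProduct.assoc R R R A A A (y ⊗ₜ[R] a')) =
      TensorProduct.assoc R' B B B (j2 (R' := R') j y ⊗ₜ[R'] j a') := by
  induction y using TensorProduct.induction_on with
  | zero => simp
  | tmul b b' =>
    rw [Algebra.TensorProduct.assoc_tmul, j3_tmul, j2_tmul, j2_tmul, TensorProduct.assoc_tmul]
  | add x y hx hy => rw [add_tmul, map_add, map_add, hx, hy, map_add, add_tmul, map_add]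

theorem j3_assoc_map (x : A ⊗[R] A) :
    j3 (R' := R') j (Algebra.TensorProduct.assoc R R R A A A
      (Algebra.TensorProduct.map (comulA j hΘ hΔ) (AlgHom.id R A) x)) =
      TensorProduct.assoc R' B B B ((comul (R := R')).rTensor B (j2 (R' := R') j x)) := by
  induction x using TensorProduct.induction_on with
  | zero => simp
  | tmul a a' =>
    rw [Algebra.TensorProduct.map_tmul, AlgHom.id_apply, j3_assoc_tmul, j2_comulA, j2_tmul,
      LinearMap.rTensor_tmul]
  | add x y hx hy => rw [map_add, map_add, map_add, hx, hy, map_add, map_add, map_add]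

theorem j3_map (x : A ⊗[R] A) :
    j3 (R' := R') j (Algebra.TensorProduct.map (AlgHom.id R A) (comulA j hΘ hΔ) x) =
      (comul (R := R')).lTensor B (j2 (R' := R') j x) := by
  induction x using TensorProduct.induction_on with
  | zero => simp
  | tmul a a' =>
    rw [Algebra.TensorProduct.map_tmul, AlgHom.id_apply, j3_tmul, j2_comulA, j2_tmul,
      LinearMap.lTensor_tmul]
  | add x y hx hy => rw [map_add, map_add, hx, hy, map_add, map_add]

theorem coassocA :
    (Algebra.TensorProduct.assoc R R R A A A).toAlgHom.comp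
      ((Algebra.TensorProduct.map (comulA j hΘ hΔ) (.id R A)).comp (comulA j hΘ hΔ)) =
    (Algebra.TensorProduct.map (.id R A) (comulA j hΘ hΔ)).comp (comulA j hΘ hΔ) := by
  ext a
  apply j3_injective j hΘ
  change j3 (R' := R') j (Algebra.TensorProduct.assoc R R R A A A
      (Algebra.TensorProduct.map (comulA j hΘ hΔ) (AlgHom.id R A) (comulA j hΘ hΔ a))) =
    j3 (R' := R') j (Algebra.TensorProduct.map (AlgHom.id R A) (comulA j hΘ hΔ)
      (comulA j hΘ hΔ a))
  rw [j3_assoc_map, j3_map, j2_comulA, Coalgebra.coassoc_apply]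

theorem j_lid_map (y : A ⊗[R] A) :
    j (Algebra.TensorProduct.lid R A
      (Algebra.TensorProduct.map (counitA j hε) (AlgHom.id R A) y)) =
      TensorProduct.lid R' B ((counit (R := R')).rTensor B (j2 (R' := R') j y)) := by
  induction y using TensorProduct.induction_on with
  | zero => simp
  | tmul b b' =>
    rw [Algebra.TensorProduct.map_tmul, AlgHom.id_apply, Algebra.TensorProduct.lid_tmul, j2_tmul,
      LinearMap.rTensor_tmul, TensorProduct.lid_tmul, map_smul, ← algebraMap_counitA j hε,
      algebraMap_smul]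
  | add x y hx hy => rw [map_add, map_add, map_add, hx, hy, map_add, map_add, map_add]

theorem rTensorA :
    (Algebra.TensorProduct.map (counitA j hε) (.id R A)).comp (comulA j hΘ hΔ) =
      (Algebra.TensorProduct.lid R A).symm := by
  ext a
  apply (Algebra.TensorProduct.lid R A).injective
  apply j_injective j hΘ
  change j (Algebra.TensorProduct.lid R A
      (Algebra.TensorProduct.map (counitA j hε) (AlgHom.id R A) (comulA j hΘ hΔ a))) =
    j (Algebra.TensorProduct.lid R A ((Algebra.TensorProduct.lid R A).symm a))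
  rw [j_lid_map, j2_comulA, Coalgebra.rTensor_counit_comul, TensorProduct.lid_tmul, one_smul,
    AlgEquiv.apply_symm_apply]

theorem j_rid_map (y : A ⊗[R] A) :
    j (Algebra.TensorProduct.rid R R A
      (Algebra.TensorProduct.map (AlgHom.id R A) (counitA j hε) y)) =
      TensorProduct.rid R' B ((counit (R := R')).lTensor B (j2 (R' := R') j y)) := by
  induction y using TensorProduct.induction_on with
  | zero => simp
  | tmul b b' =>
    rw [Algebra.TensorProduct.map_tmul, AlgHom.id_apply, Algebra.TensorProduct.rid_tmul, j2_tmul,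
      LinearMap.lTensor_tmul, TensorProduct.rid_tmul, map_smul, ← algebraMap_counitA j hε,
      algebraMap_smul]
  | add x y hx hy => rw [map_add, map_add, map_add, hx, hy, map_add, map_add, map_add]

theorem lTensorA :
    (Algebra.TensorProduct.map (.id R A) (counitA j hε)).comp (comulA j hΘ hΔ) =
      (Algebra.TensorProduct.rid R R A).symm := by
  ext a
  apply (Algebra.TensorProduct.rid R R A).injective
  apply j_injective j hΘ
  change j (Algebra.TensorProduct.rid R R A
      (Algebra.TensorProduct.map (AlgHom.id R A) (counitA j hε) (comulA j hΘ hΔ a))) =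
    j (Algebra.TensorProduct.rid R R A ((Algebra.TensorProduct.rid R R A).symm a))
  rw [j_rid_map, j2_comulA, Coalgebra.lTensor_counit_comul, TensorProduct.rid_tmul, one_smul,
    AlgEquiv.apply_symm_apply]

theorem j_mul_rTensor (y : A ⊗[R] A) :
    j (LinearMap.mul' R A ((antipodeA j hΘ hS).rTensor A y)) =
      LinearMap.mul' R' B ((HopfAlgebra.antipode R' (A := B)).rTensor B (j2 (R' := R') j y)) := by
  induction y using TensorProduct.induction_on with
  | zero => simp
  | tmul b b' =>
    rw [LinearMap.rTensor_tmul, LinearMap.mul'_apply, map_mul, j_antipodeA, j2_tmul,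
      LinearMap.rTensor_tmul, LinearMap.mul'_apply]
  | add x y hx hy => rw [map_add, map_add, map_add, hx, hy, map_add, map_add, map_add]

theorem j_mul_lTensor (y : A ⊗[R] A) :
    j (LinearMap.mul' R A ((antipodeA j hΘ hS).lTensor A y)) =
      LinearMap.mul' R' B ((HopfAlgebra.antipode R' (A := B)).lTensor B (j2 (R' := R') j y)) := by
  induction y using TensorProduct.induction_on with
  | zero => simp
  | tmul b b' =>
    rw [LinearMap.lTensor_tmul, LinearMap.mul'_apply, map_mul, j_antipodeA, j2_tmul,
      LinearMap.lTensor_tmul, LinearMap.mul'_apply]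
  | add x y hx hy => rw [map_add, map_add, map_add, hx, hy, map_add, map_add, map_add]

theorem j_algebraMap_counitA (a : A) :
    j (algebraMap R A (counitA j hε a)) = algebraMap R' B (counit (R := R') (j a)) := by
  rw [AlgHom.commutes, ← algebraMap_counitA j hε, ← IsScalarTower.algebraMap_apply]

/-- The descended Hopf algebra structure. -/
@[reducible] noncomputable def hopfOfDescent : HopfAlgebra R A :=
  { Bialgebra.ofAlgHom (comulA j hΘ hΔ) (counitA j hε) (coassocA j hΘ hΔ) (rTensorA j hΘ hΔ hε)
      (lTensorA j hΘ hΔ hε) with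
    antipode := antipodeA j hΘ hS
    mul_antipode_rTensor_comul := by
      apply LinearMap.ext
      intro a
      apply j_injective j hΘ
      change j (LinearMap.mul' R A ((antipodeA j hΘ hS).rTensor A (comulA j hΘ hΔ a))) =
        j (algebraMap R A (counitA j hε a))
      rw [j_mul_rTensor, j2_comulA, HopfAlgebra.mul_antipode_rTensor_comul_apply,
        j_algebraMap_counitA]
    mul_antipode_lTensor_comul := by
      apply LinearMap.ext
      intro a
      apply j_injective j hΘ
      change j (LinearMap.mul' R A ((antipodeA j hΘ hS).lTensor A (comulA j hΘ hΔ a))) =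
        j (algebraMap R A (counitA j hε a))
      rw [j_mul_lTensor, j2_comulA, HopfAlgebra.mul_antipode_lTensor_comul_apply,
        j_algebraMap_counitA] }

end Hopf

section Equiv

open Groth.Agent.Lib.Helper25

variable {R : Type u} [CommRing R] {R' : Type u} [CommRing R'] [Algebra R R']
  [Module.FaithfullyFlat R R']
  {A : Type u} [CommRing A] [Algebra R A]
  {B : Type u} [CommRing B] [HopfAlgebra R' B] [Algebra R B] [IsScalarTower R R' B]
  (j : A →ₐ[R] B) (hΘ : Function.Bijective (theta (R' := R') j))
  (hΔ : ∀ a, comul (R := R') (j a) ∈ Set.range (j2 (R' := R') j))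
  (hε : ∀ a, counit (R := R') (j a) ∈ Set.range (algebraMap R R'))
  (hS : ∀ a, HopfAlgebra.antipode R' (j a) ∈ Set.range j)

/-- With the descended Hopf algebra structure on `A`, the natural map `R' ⊗[R] A → B` is an
isomorphism of bialgebras. -/
theorem exists_bialgEquiv :
    letI := hopfOfDescent j hΘ hΔ hε hS
    ∃ Φ : R' ⊗[R] A ≃ₐc[R'] B, ∀ (r : R') (a : A), Φ (r ⊗ₜ[R] a) = r • j a := by
  letI := hopfOfDescent j hΘ hΔ hε hS
  have hcounit : ∀ a : A, counit (R := R) a = counitA j hε a := fun _ => rfl
  have hcomul : ∀ a : A, comul (R := R) a = comulA j hΘ hΔ a := fun _ => rfl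
  have hmap : ∀ y : A ⊗[R] A,
      TensorProduct.map (theta (R' := R') j).toLinearMap (theta (R' := R') j).toLinearMap
        (bcMap2 R' A y) = j2 (R' := R') j y := by
    intro y
    induction y using TensorProduct.induction_on with
    | zero => simp
    | tmul a a' =>
      rw [bcMap2_tmul, TensorProduct.map_tmul, j2_tmul, AlgHom.toLinearMap_apply,
        AlgHom.toLinearMap_apply, theta_tmul, theta_tmul, one_smul, one_smul]
    | add x y hx hy => rw [map_add, map_add, hx, hy, map_add]
  have hsm : ∀ (r : R') (a : A), r ⊗ₜ[R] a = r • ((1 : R') ⊗ₜ[R] a) := by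
    intro r a
    rw [TensorProduct.smul_tmul', smul_eq_mul, mul_one]
  refine ⟨BialgEquiv.ofAlgEquiv (AlgEquiv.ofBijective (theta (R' := R') j) hΘ) ?_ ?_,
    fun r a => theta_tmul j r a⟩
  · apply AlgHom.ext
    intro z
    change counit (R := R') (theta (R' := R') j z) = counit (R := R') z
    induction z using TensorProduct.induction_on with
    | zero => simp
    | tmul r a =>
      rw [theta_tmul, map_smul, TensorProduct.counit_tmul, hcounit, ← algebraMap_counitA j hε]
      simp [Algebra.smul_def, mul_comm]
    | add x y hx hy => rw [map_add, map_add, hx, hy, map_add]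
  · apply AlgHom.ext
    intro z
    change TensorProduct.map (theta (R' := R') j).toLinearMap (theta (R' := R') j).toLinearMap
      (comul (R := R') z) = comul (R := R') (theta (R' := R') j z)
    induction z using TensorProduct.induction_on with
    | zero => simp
    | tmul r a =>
      rw [hsm, map_smul, map_smul, comul_one_tmul, hcomul, hmap, j2_comulA, map_smul, theta_tmul,
        one_smul, map_smul]
    | add x y hx hy => rw [map_add, map_add, hx, hy, map_add, map_add]

end Equiv

section Extra

open Groth.Agent.Lib.Helper25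

variable {R : Type u} [CommRing R] {R' : Type u} [CommRing R'] [Algebra R R']
  {A : Type u} [CommRing A] [Algebra R A]
  {B : Type u} [CommRing B] [Algebra R' B] [Algebra R B] [IsScalarTower R R' B]
  (j : A →ₐ[R] B)

/-- If `R' ⊗ A → B` is bijective and `j` lands in a subalgebra `C` of `B` for which `R' ⊗ C → B` is
bijective too, then `A ≃ C`. -/
theorem codRestrict_bijective [Module.FaithfullyFlat R R']
    (hΘ : Function.Bijective (theta (R' := R') j))
    (C : Subalgebra R B) (hC : Function.Bijective (theta (R' := R') C.val))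
    (hjC : ∀ a, j a ∈ C) :
    Function.Bijective (j.codRestrict C hjC) := by
  have h1 : ∀ t, theta (R' := R') C.val
      (LinearMap.lTensor R' (j.codRestrict C hjC).toLinearMap t) = theta (R' := R') j t := by
    intro t
    induction t using TensorProduct.induction_on with
    | zero => simp
    | tmul r a =>
      rw [LinearMap.lTensor_tmul, theta_tmul, theta_tmul]
      rfl
    | add x y hx hy => rw [map_add, map_add, hx, hy, map_add]
  have h2 : Function.Bijective (LinearMap.lTensor R' (j.codRestrict C hjC).toLinearMap) := by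
    constructor
    · intro x y hxy
      apply hΘ.1
      rw [← h1, ← h1, hxy]
    · intro z
      obtain ⟨t, ht⟩ := hΘ.2 (theta (R' := R') C.val z)
      refine ⟨t, hC.1 ?_⟩
      rw [h1, ht]
  exact (Module.FaithfullyFlat.lTensor_bijective_iff_bijective (R := R) (M := R') _).mp h2

end Extra

section Extra2

open Groth.Agent.Lib.Helper25

variable {R : Type u} [CommRing R] {R' : Type u} [CommRing R'] [Algebra R R']
  {A : Type u} [CommRing A] [Bialgebra R A]
  {B : Type u} [CommRing B] [Bialgebra R' B] [Algebra R B] [IsScalarTower R R' B]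
  (j : A →ₐ[R] B)

/-- If `j` is compatible with the comultiplications and the counits, then `R' ⊗ A → B` is a
homomorphism of bialgebras. -/
theorem exists_bialgHom
    (hcomul : ∀ a, j2 (R' := R') j (comul (R := R) a) = comul (R := R') (j a))
    (hcounit : ∀ a, algebraMap R R' (counit (R := R) a) = counit (R := R') (j a)) :
    ∃ Φ : R' ⊗[R] A →ₐc[R'] B, ∀ (r : R') (a : A), Φ (r ⊗ₜ[R] a) = r • j a := by
  have hmap : ∀ y : A ⊗[R] A,
      TensorProduct.map (theta (R' := R') j).toLinearMap (theta (R' := R') j).toLinearMap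
        (bcMap2 R' A y) = j2 (R' := R') j y := by
    intro y
    induction y using TensorProduct.induction_on with
    | zero => simp
    | tmul a a' =>
      rw [bcMap2_tmul, TensorProduct.map_tmul, j2_tmul, AlgHom.toLinearMap_apply,
        AlgHom.toLinearMap_apply, theta_tmul, theta_tmul, one_smul, one_smul]
    | add x y hx hy => rw [map_add, map_add, hx, hy, map_add]
  have hsm : ∀ (r : R') (a : A), r ⊗ₜ[R] a = r • ((1 : R') ⊗ₜ[R] a) := by
    intro r a
    rw [TensorProduct.smul_tmul', smul_eq_mul, mul_one]
  refine ⟨BialgHom.ofAlgHom (theta (R' := R') j) ?_ ?_, fun r a => theta_tmul j r a⟩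
  · apply AlgHom.ext
    intro z
    change counit (R := R') (theta (R' := R') j z) = counit (R := R') z
    induction z using TensorProduct.induction_on with
    | zero => simp
    | tmul r a =>
      rw [theta_tmul, map_smul, TensorProduct.counit_tmul, ← hcounit]
      simp [Algebra.smul_def, mul_comm]
    | add x y hx hy => rw [map_add, map_add, hx, hy, map_add]
  · apply AlgHom.ext
    intro z
    change TensorProduct.map (theta (R' := R') j).toLinearMap (theta (R' := R') j).toLinearMap
      (comul (R := R') z) = comul (R := R') (theta (R' := R') j z)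
    induction z using TensorProduct.induction_on with
    | zero => simp
    | tmul r a =>
      rw [hsm, map_smul, map_smul, comul_one_tmul, hmap, hcomul, map_smul, theta_tmul,
        one_smul, map_smul]
    | add x y hx hy => rw [map_add, map_add, hx, hy, map_add, map_add]

end Extra2

end Groth.Agent.Lib.R2H7.HopfDesc
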