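import Mathlib
import Groth.Agent.Lib.R2H7HopfDesc

/-!
# R2H7FibA: restriction of a Hopf algebra structure along injective maps

Variant of `R2H7HopfDesc` where faithful flatness of `R → R'` is replaced by the injectivity of the
comparison maps `j`, `j2`, `j3` and of `R → R'`.  Let `B` be a commutative Hopf algebra over `R'` and
`j : A → B` an `R`-algebra map; if the comultiplication, counit and antipode of `B` preserve `A`, then
`A` is a Hopf algebra over `R` (`hopfOfRestrict`), and if moreover `R' ⊗[R] A → B` is bijective then it is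
an isomorphism of bialgebras (`exists_bialgEquiv_restrict`).
-/

set_option autoImplicit false
universe u

namespace Groth.Agent.Lib.R2H7.Fib

open TensorProduct Coalgebra Groth.Agent.Lib.R2H7.HopfDesc

section Hopf

variable {R : Type u} [CommRing R] {R' : Type u} [CommRing R'] [Algebra R R']
  {A : Type u} [CommRing A] [Algebra R A]
  {B : Type u} [CommRing B] [HopfAlgebra R' B] [Algebra R B] [IsScalarTower R R' B]
  (j : A →ₐ[R] B)
  (hR : Function.Injective (Algebra.ofId R R'))
  (hj : Function.Injective j) (hj2 : Function.Injective (j2 (R' := R') j))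
  (hj3 : Function.Injective (j3 (R' := R') j))
  (hΔ : ∀ a, comul (R := R') (j a) ∈ Set.range (j2 (R' := R') j))
  (hε : ∀ a, counit (R := R') (j a) ∈ Set.range (algebraMap R R'))
  (hS : ∀ a, HopfAlgebra.antipode R' (j a) ∈ Set.range j)

/-- The restricted comultiplication. -/
noncomputable def comulR : A →ₐ[R] A ⊗[R] A :=
  ((AlgEquiv.ofInjective (j2 (R' := R') j) hj2).symm : _ →ₐ[R] _).comp
    ((((Bialgebra.comulAlgHom R' B).restrictScalars R).comp j).codRestrict
      (j2 (R' := R') j).range (fun a => (AlgHom.mem_range _).mpr (hΔ a)))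

theorem j2_comulR (a : A) : j2 (R' := R') j (comulR j hj2 hΔ a) = comul (R := R') (j a) := by
  have h := (AlgEquiv.ofInjective (j2 (R' := R') j) hj2).apply_symm_apply
    ((((Bialgebra.comulAlgHom R' B).restrictScalars R).comp j).codRestrict
      (j2 (R' := R') j).range (fun a => (AlgHom.mem_range _).mpr (hΔ a)) a)
  exact congrArg Subtype.val h

/-- The restricted counit. -/
noncomputable def counitR : A →ₐ[R] R :=
  ((AlgEquiv.ofInjective (Algebra.ofId R R') hR).symm : _ →ₐ[R] _).comp
    ((((Bialgebra.counitAlgHom R' B).restrictScalars R).comp j).codRestrict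
      (Algebra.ofId R R').range (fun a => (AlgHom.mem_range _).mpr (hε a)))

theorem algebraMap_counitR (a : A) :
    algebraMap R R' (counitR j hR hε a) = counit (R := R') (j a) := by
  have h := (AlgEquiv.ofInjective (Algebra.ofId R R') hR).apply_symm_apply
    ((((Bialgebra.counitAlgHom R' B).restrictScalars R).comp j).codRestrict
      (Algebra.ofId R R').range (fun a => (AlgHom.mem_range _).mpr (hε a)) a)
  exact congrArg Subtype.val h

/-- The restricted antipode. -/
noncomputable def antipodeR : A →ₗ[R] A :=
  ((LinearEquiv.ofInjective j.toLinearMap hj).symm : _ →ₗ[R] _) ∘ₗ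
    (((HopfAlgebra.antipode R' (A := B)).restrictScalars R) ∘ₗ j.toLinearMap).codRestrict
      (LinearMap.range j.toLinearMap) (fun a => hS a)

theorem j_antipodeR (a : A) : j (antipodeR j hj hS a) = HopfAlgebra.antipode R' (j a) := by
  have h := (LinearEquiv.ofInjective j.toLinearMap hj).apply_symm_apply
    ((((HopfAlgebra.antipode R' (A := B)).restrictScalars R) ∘ₗ j.toLinearMap).codRestrict
      (LinearMap.range j.toLinearMap) (fun a => hS a) a)
  exact congrArg Subtype.val h

/-! ### Naturality identities -/

theorem j3_assoc_tmul' (y : A ⊗[R] A) (a' : A) :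
    j3 (R' := R') j (Algebra.TensorProduct.assoc R R R A A A (y ⊗ₜ[R] a')) =
      TensorProduct.assoc R' B B B (j2 (R' := R') j y ⊗ₜ[R'] j a') := by
  induction y using TensorProduct.induction_on with
  | zero => simp
  | tmul b b' =>
    rw [Algebra.TensorProduct.assoc_tmul, j3_tmul, j2_tmul, j2_tmul, TensorProduct.assoc_tmul]
  | add x y hx hy => rw [add_tmul, map_add, map_add, hx, hy, map_add, add_tmul, map_add]

theorem j3_assoc_mapR (x : A ⊗[R] A) :
    j3 (R' := R') j (Algebra.TensorProduct.assoc R R R A A A
      (Algebra.TensorProduct.map (comulR j hj2 hΔ) (AlgHom.id R A) x)) =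
      TensorProduct.assoc R' B B B ((comul (R := R')).rTensor B (j2 (R' := R') j x)) := by
  induction x using TensorProduct.induction_on with
  | zero => simp
  | tmul a a' =>
    rw [Algebra.TensorProduct.map_tmul, AlgHom.id_apply, j3_assoc_tmul', j2_comulR, j2_tmul,
      LinearMap.rTensor_tmul]
  | add x y hx hy => rw [map_add, map_add, map_add, hx, hy, map_add, map_add, map_add]

theorem j3_mapR (x : A ⊗[R] A) :
    j3 (R' := R') j (Algebra.TensorProduct.map (AlgHom.id R A) (comulR j hj2 hΔ) x) =
      (comul (R := R')).lTensor B (j2 (R' := R') j x) := by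
  induction x using TensorProduct.induction_on with
  | zero => simp
  | tmul a a' =>
    rw [Algebra.TensorProduct.map_tmul, AlgHom.id_apply, j3_tmul, j2_comulR, j2_tmul,
      LinearMap.lTensor_tmul]
  | add x y hx hy => rw [map_add, map_add, hx, hy, map_add, map_add]

include hj3 in
theorem coassocR :
    (Algebra.TensorProduct.assoc R R R A A A).toAlgHom.comp
      ((Algebra.TensorProduct.map (comulR j hj2 hΔ) (.id R A)).comp (comulR j hj2 hΔ)) =
    (Algebra.TensorProduct.map (.id R A) (comulR j hj2 hΔ)).comp (comulR j hj2 hΔ) := by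
  ext a
  apply hj3
  change j3 (R' := R') j (Algebra.TensorProduct.assoc R R R A A A
      (Algebra.TensorProduct.map (comulR j hj2 hΔ) (AlgHom.id R A) (comulR j hj2 hΔ a))) =
    j3 (R' := R') j (Algebra.TensorProduct.map (AlgHom.id R A) (comulR j hj2 hΔ)
      (comulR j hj2 hΔ a))
  rw [j3_assoc_mapR, j3_mapR, j2_comulR, Coalgebra.coassoc_apply]

theorem j_lid_mapR (y : A ⊗[R] A) :
    j (Algebra.TensorProduct.lid R A
      (Algebra.TensorProduct.map (counitR j hR hε) (AlgHom.id R A) y)) =
      TensorProduct.lid R' B ((counit (R := R')).rTensor B (j2 (R' := R') j y)) := by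
  induction y using TensorProduct.induction_on with
  | zero => simp
  | tmul b b' =>
    rw [Algebra.TensorProduct.map_tmul, AlgHom.id_apply, Algebra.TensorProduct.lid_tmul, j2_tmul,
      LinearMap.rTensor_tmul, TensorProduct.lid_tmul, map_smul, ← algebraMap_counitR j hR hε,
      algebraMap_smul]
  | add x y hx hy => rw [map_add, map_add, map_add, hx, hy, map_add, map_add, map_add]

include hj in
theorem rTensorR :
    (Algebra.TensorProduct.map (counitR j hR hε) (.id R A)).comp (comulR j hj2 hΔ) =
      (Algebra.TensorProduct.lid R A).symm := by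
  ext a
  apply (Algebra.TensorProduct.lid R A).injective
  apply hj
  change j (Algebra.TensorProduct.lid R A
      (Algebra.TensorProduct.map (counitR j hR hε) (AlgHom.id R A) (comulR j hj2 hΔ a))) =
    j (Algebra.TensorProduct.lid R A ((Algebra.TensorProduct.lid R A).symm a))
  rw [j_lid_mapR, j2_comulR, Coalgebra.rTensor_counit_comul, TensorProduct.lid_tmul, one_smul,
    AlgEquiv.apply_symm_apply]

theorem j_rid_mapR (y : A ⊗[R] A) :
    j (Algebra.TensorProduct.rid R R A
      (Algebra.TensorProduct.map (AlgHom.id R A) (counitR j hR hε) y)) =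
      TensorProduct.rid R' B ((counit (R := R')).lTensor B (j2 (R' := R') j y)) := by
  induction y using TensorProduct.induction_on with
  | zero => simp
  | tmul b b' =>
    rw [Algebra.TensorProduct.map_tmul, AlgHom.id_apply, Algebra.TensorProduct.rid_tmul, j2_tmul,
      LinearMap.lTensor_tmul, TensorProduct.rid_tmul, map_smul, ← algebraMap_counitR j hR hε,
      algebraMap_smul]
  | add x y hx hy => rw [map_add, map_add, map_add, hx, hy, map_add, map_add, map_add]

include hj in
theorem lTensorR :
    (Algebra.TensorProduct.map (.id R A) (counitR j hR hε)).comp (comulR j hj2 hΔ) =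
      (Algebra.TensorProduct.rid R R A).symm := by
  ext a
  apply (Algebra.TensorProduct.rid R R A).injective
  apply hj
  change j (Algebra.TensorProduct.rid R R A
      (Algebra.TensorProduct.map (AlgHom.id R A) (counitR j hR hε) (comulR j hj2 hΔ a))) =
    j (Algebra.TensorProduct.rid R R A ((Algebra.TensorProduct.rid R R A).symm a))
  rw [j_rid_mapR, j2_comulR, Coalgebra.lTensor_counit_comul, TensorProduct.rid_tmul, one_smul,
    AlgEquiv.apply_symm_apply]

theorem j_mul_rTensorR (y : A ⊗[R] A) :
    j (LinearMap.mul' R A ((antipodeR j hj hS).rTensor A y)) =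
      LinearMap.mul' R' B ((HopfAlgebra.antipode R' (A := B)).rTensor B (j2 (R' := R') j y)) := by
  induction y using TensorProduct.induction_on with
  | zero => simp
  | tmul b b' =>
    rw [LinearMap.rTensor_tmul, LinearMap.mul'_apply, map_mul, j_antipodeR, j2_tmul,
      LinearMap.rTensor_tmul, LinearMap.mul'_apply]
  | add x y hx hy => rw [map_add, map_add, map_add, hx, hy, map_add, map_add, map_add]

theorem j_mul_lTensorR (y : A ⊗[R] A) :
    j (LinearMap.mul' R A ((antipodeR j hj hS).lTensor A y)) =
      LinearMap.mul' R' B ((HopfAlgebra.antipode R' (A := B)).lTensor B (j2 (R' := R') j y)) := by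
  induction y using TensorProduct.induction_on with
  | zero => simp
  | tmul b b' =>
    rw [LinearMap.lTensor_tmul, LinearMap.mul'_apply, map_mul, j_antipodeR, j2_tmul,
      LinearMap.lTensor_tmul, LinearMap.mul'_apply]
  | add x y hx hy => rw [map_add, map_add, map_add, hx, hy, map_add, map_add, map_add]

theorem j_algebraMap_counitR (a : A) :
    j (algebraMap R A (counitR j hR hε a)) = algebraMap R' B (counit (R := R') (j a)) := by
  rw [AlgHom.commutes, ← algebraMap_counitR j hR hε, ← IsScalarTower.algebraMap_apply]

/-- The restricted Hopf algebra structure. -/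
@[reducible] noncomputable def hopfOfRestrict : HopfAlgebra R A :=
  { Bialgebra.ofAlgHom (comulR j hj2 hΔ) (counitR j hR hε) (coassocR j hj2 hj3 hΔ)
      (rTensorR j hR hj hj2 hΔ hε) (lTensorR j hR hj hj2 hΔ hε) with
    antipode := antipodeR j hj hS
    mul_antipode_rTensor_comul := by
      apply LinearMap.ext
      intro a
      apply hj
      change j (LinearMap.mul' R A ((antipodeR j hj hS).rTensor A (comulR j hj2 hΔ a))) =
        j (algebraMap R A (counitR j hR hε a))
      rw [j_mul_rTensorR, j2_comulR, HopfAlgebra.mul_antipode_rTensor_comul_apply,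
        j_algebraMap_counitR]
    mul_antipode_lTensor_comul := by
      apply LinearMap.ext
      intro a
      apply hj
      change j (LinearMap.mul' R A ((antipodeR j hj hS).lTensor A (comulR j hj2 hΔ a))) =
        j (algebraMap R A (counitR j hR hε a))
      rw [j_mul_lTensorR, j2_comulR, HopfAlgebra.mul_antipode_lTensor_comul_apply,
        j_algebraMap_counitR] }

end Hopf

section Equiv

open Groth.Agent.Lib.Helper25

variable {R : Type u} [CommRing R] {R' : Type u} [CommRing R'] [Algebra R R']
  {A : Type u} [CommRing A] [Algebra R A]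
  {B : Type u} [CommRing B] [HopfAlgebra R' B] [Algebra R B] [IsScalarTower R R' B]
  (j : A →ₐ[R] B)
  (hR : Function.Injective (Algebra.ofId R R'))
  (hj : Function.Injective j) (hj2 : Function.Injective (j2 (R' := R') j))
  (hj3 : Function.Injective (j3 (R' := R') j))
  (hΔ : ∀ a, comul (R := R') (j a) ∈ Set.range (j2 (R' := R') j))
  (hε : ∀ a, counit (R := R') (j a) ∈ Set.range (algebraMap R R'))
  (hS : ∀ a, HopfAlgebra.antipode R' (j a) ∈ Set.range j)
  (hΘ : Function.Bijective (theta (R' := R') j))

include hΘ in
/-- With the restricted Hopf algebra structure on `A`, the natural map `R' ⊗[R] A → B` is an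
isomorphism of bialgebras. -/
theorem exists_bialgEquiv_restrict :
    letI := hopfOfRestrict j hR hj hj2 hj3 hΔ hε hS
    ∃ Φ : R' ⊗[R] A ≃ₐc[R'] B, ∀ (r : R') (a : A), Φ (r ⊗ₜ[R] a) = r • j a := by
  letI := hopfOfRestrict j hR hj hj2 hj3 hΔ hε hS
  have hcounit : ∀ a : A, counit (R := R) a = counitR j hR hε a := fun _ => rfl
  have hcomul : ∀ a : A, comul (R := R) a = comulR j hj2 hΔ a := fun _ => rfl
  have hmap : ∀ y : A ⊗[R] A,
      TensorProduct.map (theta (R' := R') j).toLinearMap (theta (R' := R') j).toLinearMap
        (bcMap2 R' A y) = j2 (R' := R') j y := by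
    intro y
    induction y using TensorProduct.induction_on with
    | zero => simp
    | tmul a a' =>
      rw [bcMap2_tmul, TensorProduct.map_tmul, j2_tmul, AlgHom.toLinearMap_apply,
        AlgHom.toLinearMap_apply, theta_tmul, theta_tmul, one_smul, one_smul]
    | add x y hx hy => rw [map_add, map_add, hx, hy, map_add]
  have hsm : ∀ (r : R') (a : A), r ⊗ₜ[R] a = r • ((1 : R') ⊗ₜ[R] a) := by
    intro r a
    rw [TensorProduct.smul_tmul', smul_eq_mul, mul_one]
  refine ⟨BialgEquiv.ofAlgEquiv (AlgEquiv.ofBijective (theta (R' := R') j) hΘ) ?_ ?_,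
    fun r a => theta_tmul j r a⟩
  · apply AlgHom.ext
    intro z
    change counit (R := R') (theta (R' := R') j z) = counit (R := R') z
    induction z using TensorProduct.induction_on with
    | zero => simp
    | tmul r a =>
      rw [theta_tmul, map_smul, TensorProduct.counit_tmul, hcounit, ← algebraMap_counitR j hR hε]
      simp [Algebra.smul_def, mul_comm]
    | add x y hx hy => rw [map_add, map_add, hx, hy, map_add]
  · apply AlgHom.ext
    intro z
    change TensorProduct.map (theta (R' := R') j).toLinearMap (theta (R' := R') j).toLinearMap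
      (comul (R := R') z) = comul (R := R') (theta (R' := R') j z)
    induction z using TensorProduct.induction_on with
    | zero => simp
    | tmul r a =>
      rw [hsm, map_smul, map_smul, comul_one_tmul, hcomul, hmap, j2_comulR, map_smul, theta_tmul,
        one_smul, map_smul]
    | add x y hx hy => rw [map_add, map_add, hx, hy, map_add, map_add]

end Equiv

end Groth.Agent.Lib.R2H7.Fib
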