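import Mathlib
import Groth.Agent.Lib.R2H7FibA
import Groth.Agent.Lib.H9FlatModelElem
import Groth.Agent.Lib.R2H4IntInjFlat
import Groth.Agent.Lib.Helper18ColimSys

/-!
# R2H7FibB: Noetherian flat Hopf models

A flat, finitely presented commutative Hopf algebra `B` over any ring `R'` is the base change of a flat
Hopf algebra of finite type over a ring of finite type over `ℤ` (`hopf_model`).
-/

set_option autoImplicit false
set_option linter.style.haveILetI false
universe u

namespace Groth.Agent.Lib.R2H7.Fib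

open TensorProduct Coalgebra Groth.Agent.Lib.R2H7.HopfDesc Groth.Agent.Lib.Helper18ColimSys

section FlatModel

/-- ring part of helper9's Noetherian approximation (copied from `R2H4FibQReg` to keep imports light). -/
theorem exists_ring_model' (A B : Type u) [CommRing A] [CommRing B] [Algebra A B]
    [Algebra.FinitePresentation A B] [Module.Flat A B] (T : Finset B) :
    ∃ (A₀ : Type u) (_ : CommRing A₀) (_ : Algebra A₀ A) (B₀ : Type u) (_ : CommRing B₀)
      (_ : Algebra A₀ B₀) (_ : Algebra B₀ B) (_ : Algebra A₀ B) (_ : IsScalarTower A₀ A B)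
      (_ : IsScalarTower A₀ B₀ B),
      Algebra.FiniteType ℤ A₀ ∧ Algebra.FiniteType A₀ B₀ ∧
        Algebra.IsPushout A₀ A B₀ B ∧ (T : Set B) ⊆ Set.range (algebraMap B₀ B) := by
  obtain ⟨A₀, i1, i2, B₀, i3, i4, i5, i6, i7, i8, M₀, _, _, _, _, _, _, _, _, _, f, hA₀, hB₀, -, -,
    hpush, -, -, hT⟩ :=
    Groth.Agent.Lib.H9FlatModelElem.exists_flat_module_model_elem A B B T
  exact ⟨A₀, i1, i2, B₀, i3, i4, i5, i6, i7, i8, hA₀, hB₀, hpush, hT⟩

/-- enlarging the base of a model -/
theorem model_step' (A B A₀ B₀ A₁ : Type u) [CommRing A] [CommRing B] [Algebra A B]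
    [CommRing A₀] [Algebra A₀ A] [CommRing B₀] [Algebra A₀ B₀] [Algebra B₀ B] [Algebra A₀ B]
    [IsScalarTower A₀ A B] [IsScalarTower A₀ B₀ B] [CommRing A₁] [Algebra A₀ A₁] [Algebra A₁ A]
    [IsScalarTower A₀ A₁ A] (hpush : Algebra.IsPushout A₀ A B₀ B) :
    ∃ (_ : Algebra (A₁ ⊗[A₀] B₀) B) (_ : Algebra A₁ B) (_ : IsScalarTower A₁ A B)
      (_ : IsScalarTower A₁ (A₁ ⊗[A₀] B₀) B),
      Algebra.IsPushout A₁ A (A₁ ⊗[A₀] B₀) B ∧
        ∀ b : B₀, algebraMap (A₁ ⊗[A₀] B₀) B (1 ⊗ₜ b) = algebraMap B₀ B b := by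
  letI algA₁B : Algebra A₁ B := ((algebraMap A B).comp (algebraMap A₁ A)).toAlgebra
  haveI tw1 : IsScalarTower A₁ A B := .of_algebraMap_eq' rfl
  haveI tw2 : IsScalarTower A₀ A₁ B := .of_algebraMap_eq fun x => by
    rw [IsScalarTower.algebraMap_apply A₀ A B, IsScalarTower.algebraMap_apply A₁ A B,
      ← IsScalarTower.algebraMap_apply A₀ A₁ A]
  let φ : A₁ ⊗[A₀] B₀ →ₐ[A₀] B := Algebra.TensorProduct.lift
    (IsScalarTower.toAlgHom A₀ A₁ B) (IsScalarTower.toAlgHom A₀ B₀ B) (fun _ _ => Commute.all _ _)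
  letI algB₁B : Algebra (A₁ ⊗[A₀] B₀) B := φ.toRingHom.toAlgebra
  have hφ1 : ∀ a : A₁, algebraMap (A₁ ⊗[A₀] B₀) B (a ⊗ₜ 1) = algebraMap A₁ B a := fun a => by
    change φ (a ⊗ₜ 1) = _
    simp [φ]
  have hφ2 : ∀ b : B₀, algebraMap (A₁ ⊗[A₀] B₀) B (1 ⊗ₜ b) = algebraMap B₀ B b := fun b => by
    change φ (1 ⊗ₜ b) = _
    simp [φ]
  haveI tw3 : IsScalarTower A₁ (A₁ ⊗[A₀] B₀) B := .of_algebraMap_eq fun a => by
    rw [Algebra.TensorProduct.algebraMap_apply, hφ1]
    rfl
  letI : Algebra B₀ (A₁ ⊗[A₀] B₀) := Algebra.TensorProduct.rightAlgebra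
  haveI tw4 : IsScalarTower B₀ (A₁ ⊗[A₀] B₀) B := .of_algebraMap_eq fun b => by
    rw [← hφ2]
    rfl
  haveI tw5 : IsScalarTower A₀ (A₁ ⊗[A₀] B₀) B := .of_algebraMap_eq fun a => (φ.commutes a).symm
  have hpush' : Algebra.IsPushout A₁ A (A₁ ⊗[A₀] B₀) B :=
    (Algebra.IsPushout.comp_iff A₀ A₁ B₀ (S' := A₁ ⊗[A₀] B₀) (T := A) (T' := B)).mp hpush
  exact ⟨algB₁B, algA₁B, tw1, tw3, hpush', hφ2⟩

/-- **Noetherian flat ring model** of a flat finitely presented algebra. -/
theorem exists_flat_ring_model' (A B : Type u) [CommRing A] [CommRing B] [Algebra A B]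
    [Algebra.FinitePresentation A B] [Module.Flat A B] (T : Finset B) :
    ∃ (A₁ : Type u) (_ : CommRing A₁) (_ : Algebra A₁ A) (B₁ : Type u) (_ : CommRing B₁)
      (_ : Algebra A₁ B₁) (_ : Algebra B₁ B) (_ : Algebra A₁ B) (_ : IsScalarTower A₁ A B)
      (_ : IsScalarTower A₁ B₁ B),
      Algebra.FiniteType ℤ A₁ ∧ Algebra.FiniteType A₁ B₁ ∧ Module.Flat A₁ B₁ ∧
        Algebra.IsPushout A₁ A B₁ B ∧ (T : Set B) ⊆ Set.range (algebraMap B₁ B) := by
  classical
  obtain ⟨A₀, _, _, B₀, _, _, _, _, _, _, hA₀, hB₀, hpush, hT⟩ := exists_ring_model' A B T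
  haveI : IsNoetherianRing A₀ := Algebra.FiniteType.isNoetherianRing ℤ A₀
  haveI : Algebra.FinitePresentation A₀ B₀ :=
    Algebra.FinitePresentation.of_finiteType.mp hB₀
  have hflat : Module.Flat A (A ⊗[A₀] B₀) :=
    Module.Flat.of_linearEquiv (Algebra.IsPushout.equiv A₀ A B₀ B).toLinearEquiv
  obtain ⟨t, ht⟩ := Groth.Agent.Lib.Helper26.FlatLim.Sys.flat_stage'
    (Groth.Agent.Lib.R2H4.IntInjFlat.sys_adjoin A₀ A) B₀ B₀ hflat
  haveI hA₁ft : Algebra.FiniteType A₀ (Algebra.adjoin A₀ (t : Set A)) :=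
    (Subalgebra.fg_iff_finiteType _).mp (Subalgebra.fg_adjoin_finset t)
  haveI : Algebra.FiniteType ℤ (Algebra.adjoin A₀ (t : Set A)) := Algebra.FiniteType.trans hA₀ hA₁ft
  obtain ⟨i1, i2, i3, i4, hpush', hφ2⟩ :=
    model_step' A B A₀ B₀ (Algebra.adjoin A₀ (t : Set A)) hpush
  refine ⟨Algebra.adjoin A₀ (t : Set A), inferInstance, inferInstance,
    (Algebra.adjoin A₀ (t : Set A)) ⊗[A₀] B₀, inferInstance, inferInstance, i1,
    i2, i3, i4, inferInstance, inferInstance, ht, hpush', ?_⟩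
  intro x hx
  obtain ⟨b, rfl⟩ := hT hx
  exact ⟨1 ⊗ₜ b, hφ2 b⟩

end FlatModel

section Inj

variable {k : Type u} [CommRing k] {R : Type u} [CommRing R] [Algebra k R]
  {R' : Type u} [CommRing R'] [Algebra k R'] [Algebra R R'] [IsScalarTower k R R']

variable (k R R') in
/-- The map `R ⊗[k] Y → R' ⊗[k] Y`. -/
noncomputable abbrev up (Y : Type u) [AddCommGroup Y] [Module k Y] : R ⊗[k] Y →ₗ[k] R' ⊗[k] Y :=
  LinearMap.rTensor Y (IsScalarTower.toAlgHom k R R').toLinearMap

theorem up_tmul (Y : Type u) [AddCommGroup Y] [Module k Y] (r : R) (y : Y) :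
    up k R R' Y (r ⊗ₜ[k] y) = algebraMap R R' r ⊗ₜ[k] y := rfl

theorem up_injective (hR : Function.Injective (algebraMap R R')) (Y : Type u) [AddCommGroup Y]
    [Module k Y] [Module.Flat k Y] : Function.Injective (up k R R' Y) :=
  Module.Flat.rTensor_preserves_injective_linearMap _ hR

theorem cancel_one_tmul (Y : Type u) [AddCommGroup Y] [Module k Y] (z : R ⊗[k] Y) :
    TensorProduct.AlgebraTensorModule.cancelBaseChange k R R' R' Y ((1 : R') ⊗ₜ[R] z) =
      up k R R' Y z := by
  induction z using TensorProduct.induction_on with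
  | zero => simp
  | tmul r y =>
    rw [TensorProduct.AlgebraTensorModule.cancelBaseChange_tmul, up_tmul, Algebra.smul_def,
      mul_one]
  | add x y hx hy => rw [tmul_add, map_add, hx, hy, map_add]

/-- If `N ≃ R ⊗[k] Y` with `Y` flat over `k` and `R → R'` is injective, then `N → R' ⊗[R] N` is
injective. -/
theorem one_tmul_injective_of_equiv (hR : Function.Injective (algebraMap R R')) (Y : Type u)
    [AddCommGroup Y] [Module k Y] [Module.Flat k Y] {N : Type u} [AddCommGroup N] [Module R N]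
    (e : N ≃ₗ[R] R ⊗[k] Y) {n n' : N} (h : (1 : R') ⊗ₜ[R] n = (1 : R') ⊗ₜ[R] n') : n = n' := by
  have h1 := congrArg (LinearMap.lTensor R' e.toLinearMap) h
  rw [LinearMap.lTensor_tmul, LinearMap.lTensor_tmul] at h1
  have h2 := congrArg (TensorProduct.AlgebraTensorModule.cancelBaseChange k R R' R' Y) h1
  rw [LinearEquiv.coe_coe, cancel_one_tmul, cancel_one_tmul] at h2
  exact e.injective (up_injective hR Y h2)

/-- Every element of `R' ⊗[k] Y` comes from `S ⊗[k] Y` for every subalgebra `S` containing a suitable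
finite set. -/
theorem exists_finset_mem_range (Y : Type u) [AddCommGroup Y] [Module k Y] (z : R' ⊗[k] Y) :
    ∃ F : Finset R', ∀ S : Subalgebra k R', (F : Set R') ⊆ S →
      z ∈ LinearMap.range (up k S R' Y) := by
  classical
  induction z using TensorProduct.induction_on with
  | zero => exact ⟨∅, fun S _ => Submodule.zero_mem _⟩
  | tmul r y =>
    refine ⟨{r}, fun S hS => ⟨(⟨r, hS (by simp)⟩ : S) ⊗ₜ[k] y, rfl⟩⟩
  | add x y hx hy =>
    obtain ⟨F₁, h₁⟩ := hx
    obtain ⟨F₂, h₂⟩ := hy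
    refine ⟨F₁ ∪ F₂, fun S hS => Submodule.add_mem _ (h₁ S ?_) (h₂ S ?_)⟩
    · intro a ha
      exact hS (by simp [Finset.mem_coe.mp ha])
    · intro a ha
      exact hS (by simp [Finset.mem_coe.mp ha])

end Inj

section Model

variable {k : Type u} [CommRing k] {R : Type u} [CommRing R] [Algebra k R]
  {R' : Type u} [CommRing R'] [Algebra k R'] [Algebra R R'] [IsScalarTower k R R']
  {X : Type u} [CommRing X] [Algebra k X]
  {B : Type u} [CommRing B] [HopfAlgebra R' B] [Algebra k B] [Algebra R B]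
  [IsScalarTower k R' B] [IsScalarTower R R' B] [IsScalarTower k R B]
  (j₀ : X →ₐ[k] B)

variable (R) in
/-- The natural map `R ⊗[k] X → B`. -/
noncomputable def jR : R ⊗[k] X →ₐ[R] B :=
  Algebra.TensorProduct.lift (Algebra.ofId R B) j₀ (fun _ _ => Commute.all _ _)

theorem jR_tmul (r : R) (x : X) : jR R j₀ (r ⊗ₜ[k] x) = r • j₀ x := by
  simp [jR, Algebra.smul_def]

theorem jR_one_tmul (x : X) : jR R j₀ ((1 : R) ⊗ₜ[k] x) = j₀ x := by
  rw [jR_tmul, one_smul]

theorem theta_up (z : R ⊗[k] X) :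
    theta (R' := R') j₀ (up k R R' X z) = jR R j₀ z := by
  induction z using TensorProduct.induction_on with
  | zero => simp
  | tmul r x => rw [up_tmul, theta_tmul, jR_tmul, algebraMap_smul]
  | add x y hx hy => rw [map_add, map_add, hx, hy, map_add]

theorem theta_cancel (z : R' ⊗[R] (R ⊗[k] X)) :
    theta (R' := R') j₀ (TensorProduct.AlgebraTensorModule.cancelBaseChange k R R' R' X z) =
      theta (R' := R') (jR R j₀) z := by
  induction z using TensorProduct.induction_on with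
  | zero => simp
  | tmul r' w =>
    induction w using TensorProduct.induction_on with
    | zero => simp
    | tmul r x =>
      rw [TensorProduct.AlgebraTensorModule.cancelBaseChange_tmul, theta_tmul, theta_tmul, jR_tmul,
        smul_comm r' r, ← algebraMap_smul R' r (r' • j₀ x), smul_smul, Algebra.smul_def r r']
    | add x y hx hy => rw [tmul_add, map_add, map_add, hx, hy, map_add]
  | add x y hx hy => rw [map_add, map_add, hx, hy, map_add]

variable (hΘ₀ : Function.Bijective (theta (R' := R') j₀))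

include hΘ₀ in
theorem theta_jR_bijective : Function.Bijective (theta (R' := R') (jR R j₀)) := by
  have h : (theta (R' := R') (jR R j₀) : R' ⊗[R] (R ⊗[k] X) → B) =
      (theta (R' := R') j₀) ∘
        (TensorProduct.AlgebraTensorModule.cancelBaseChange k R R' R' X) := by
    funext z
    exact (theta_cancel j₀ z).symm
  rw [h]
  exact hΘ₀.comp (TensorProduct.AlgebraTensorModule.cancelBaseChange k R R' R' X).bijective

variable [Module.Flat k X] (hR : Function.Injective (algebraMap R R'))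

include hΘ₀ hR in
theorem jR_injective : Function.Injective (jR R j₀) := by
  intro z w h
  rw [← theta_up (R' := R') j₀ z, ← theta_up (R' := R') j₀ w] at h
  exact up_injective hR X (hΘ₀.1 h)

include hΘ₀ hR in
theorem j2_jR_injective :
    Function.Injective (j2 (R' := R') (jR R j₀)) := by
  intro x y h
  rw [← kappa_one_tmul (jR R j₀) (theta_jR_bijective j₀ hΘ₀),
    ← kappa_one_tmul (jR R j₀) (theta_jR_bijective j₀ hΘ₀)] at h
  exact one_tmul_injective_of_equiv hR (X ⊗[k] X)
    (TensorProduct.AlgebraTensorModule.distribBaseChange k R X X).symm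
    ((kappa (jR R j₀) (theta_jR_bijective j₀ hΘ₀)).injective h)

include hΘ₀ hR in
theorem j3_jR_injective :
    Function.Injective (j3 (R' := R') (jR R j₀)) := by
  intro x y h
  rw [← kappa3_one_tmul (jR R j₀) (theta_jR_bijective j₀ hΘ₀),
    ← kappa3_one_tmul (jR R j₀) (theta_jR_bijective j₀ hΘ₀)] at h
  exact one_tmul_injective_of_equiv hR (X ⊗[k] (X ⊗[k] X))
    ((TensorProduct.congr (LinearEquiv.refl R (R ⊗[k] X))
      (TensorProduct.AlgebraTensorModule.distribBaseChange k R X X).symm).trans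
      (TensorProduct.AlgebraTensorModule.distribBaseChange k R X (X ⊗[k] X)).symm)
    ((kappa3 (jR R j₀) (theta_jR_bijective j₀ hΘ₀)).injective h)

omit [Module.Flat k X] in
include hΘ₀ in
theorem kappa_up (v : R ⊗[k] (X ⊗[k] X)) :
    kappa j₀ hΘ₀ (up k R R' (X ⊗[k] X) v) =
      j2 (R' := R') (jR R j₀) (TensorProduct.AlgebraTensorModule.distribBaseChange k R X X v) := by
  induction v using TensorProduct.induction_on with
  | zero => simp
  | tmul r t =>
    induction t using TensorProduct.induction_on with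
    | zero => simp
    | tmul x x' =>
      rw [up_tmul, kappa, LinearEquiv.trans_apply,
        TensorProduct.AlgebraTensorModule.distribBaseChange_tmul,
        TensorProduct.AlgebraTensorModule.distribBaseChange_tmul, TensorProduct.congr_tmul,
        thetaEquiv_tmul, thetaEquiv_tmul, j2_tmul, jR_tmul, jR_tmul, algebraMap_smul, one_smul,
        one_smul]
    | add x y hx hy => rw [tmul_add, map_add, map_add, hx, hy, map_add, map_add]
  | add x y hx hy => rw [map_add, map_add, hx, hy, map_add, map_add]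

end Model

section Gen

variable {k : Type u} [CommRing k] {R : Type u} [CommRing R] [Algebra k R]
  {X : Type u} [CommRing X] [Algebra k X]

/-- A property of the form "`g a` lies in a subalgebra" can be checked on the generators `1 ⊗ x`. -/
theorem forall_mem_of_generators (s : Set X) (hs : Algebra.adjoin k s = ⊤) {D : Type u}
    [CommRing D] [Algebra R D] (g : R ⊗[k] X →ₐ[R] D) (Q' : Subalgebra R D)
    (h : ∀ x ∈ s, g ((1 : R) ⊗ₜ[k] x) ∈ Q') (a : R ⊗[k] X) : g a ∈ Q' := by
  have hQ : Q'.comap g = ⊤ := eq_top_of_includeRight_mem s hs (Q'.comap g) h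
  have ha : a ∈ Q'.comap g := hQ ▸ Algebra.mem_top
  exact ha

end Gen

section Main

/-- **Noetherian flat Hopf model**: a flat, finitely presented commutative Hopf algebra `B` over `R'`
is the base change of a flat Hopf algebra of finite type over a `ℤ`-algebra of finite type. -/
theorem hopf_model (R' : Type u) [CommRing R'] (B : Type u) [CommRing B] [HopfAlgebra R' B]
    [Module.Flat R' B] [Algebra.FinitePresentation R' B] :
    ∃ (R₁ : Type u) (_ : CommRing R₁) (_ : Algebra R₁ R') (A₁ : Type u) (_ : CommRing A₁)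
      (_ : HopfAlgebra R₁ A₁), Algebra.FiniteType ℤ R₁ ∧ Algebra.FiniteType R₁ A₁ ∧
      Module.Flat R₁ A₁ ∧ Nonempty (R' ⊗[R₁] A₁ ≃ₐc[R'] B) := by
  classical
  obtain ⟨k, _, _, X, _, _, _, _, _, _, hk, hX, hXflat, hpush, -⟩ :=
    exists_flat_ring_model' R' B ∅
  let j₀ : X →ₐ[k] B := IsScalarTower.toAlgHom k X B
  have hΘ₀ : Function.Bijective (theta (R' := R') j₀) := by
    have h : (theta (R' := R') j₀ : R' ⊗[k] X → B) = Algebra.IsPushout.equiv k R' X B := by
      funext z
      induction z using TensorProduct.induction_on with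
      | zero => simp
      | tmul r x =>
        rw [theta_tmul, Algebra.IsPushout.equiv_tmul, Algebra.smul_def]
        rfl
      | add x y hx hy => rw [map_add, map_add, hx, hy]
    rw [h]
    exact (Algebra.IsPushout.equiv k R' X B).bijective
  obtain ⟨s, hs⟩ := hX.out
  have hS : ∀ x : X, ∃ F : Finset R', ∀ S : Subalgebra k R', (F : Set R') ⊆ S →
      (counit (R := R') (j₀ x) ∈ S) ∧
      (∃ u : S ⊗[k] X, theta (R' := R') j₀ (up k S R' X u) = HopfAlgebra.antipode R' (j₀ x)) ∧
      (∃ v : S ⊗[k] (X ⊗[k] X),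
        kappa j₀ hΘ₀ (up k S R' (X ⊗[k] X) v) = comul (R := R') (j₀ x)) := by
    intro x
    obtain ⟨z, hz⟩ := hΘ₀.2 (HopfAlgebra.antipode R' (j₀ x))
    obtain ⟨w, hw⟩ := (kappa j₀ hΘ₀).surjective (comul (R := R') (j₀ x))
    obtain ⟨F₁, h₁⟩ := exists_finset_mem_range (k := k) X z
    obtain ⟨F₂, h₂⟩ := exists_finset_mem_range (k := k) (X ⊗[k] X) w
    refine ⟨insert (counit (R := R') (j₀ x)) (F₁ ∪ F₂), fun S hS => ⟨hS (by simp), ?_, ?_⟩⟩
    · obtain ⟨u, hu⟩ := h₁ S (fun a ha => hS (by simp [Finset.mem_coe.mp ha]))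
      exact ⟨u, by rw [hu, hz]⟩
    · obtain ⟨v, hv⟩ := h₂ S (fun a ha => hS (by simp [Finset.mem_coe.mp ha]))
      exact ⟨v, by rw [hv, hw]⟩
  choose Fx hFx using hS
  let F : Finset R' := s.biUnion Fx
  let S : Subalgebra k R' := Algebra.adjoin k (F : Set R')
  have hFS : ∀ x ∈ s, (Fx x : Set R') ⊆ S := by
    intro x hx a ha
    apply Algebra.subset_adjoin
    rw [Finset.mem_coe, Finset.mem_biUnion]
    exact ⟨x, hx, Finset.mem_coe.mp ha⟩
  haveI tw1 : IsScalarTower S R' B := IsScalarTower.of_algebraMap_eq (fun _ => rfl)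
  haveI tw2 : IsScalarTower k S B := IsScalarTower.of_algebraMap_eq (fun x => by
    rw [IsScalarTower.algebraMap_apply k R' B]
    rfl)
  have hR : Function.Injective (algebraMap S R') := Subtype.val_injective
  have hR' : Function.Injective (Algebra.ofId S R') := Subtype.val_injective
  have hΘ := theta_jR_bijective (R := S) j₀ hΘ₀
  have hj := jR_injective (R := S) j₀ hΘ₀ hR
  have hj2 := j2_jR_injective (R := S) j₀ hΘ₀ hR
  have hj3 := j3_jR_injective (R := S) j₀ hΘ₀ hR
  have hs' : Algebra.adjoin k (s : Set X) = ⊤ := hs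
  have hε : ∀ a, counit (R := R') (jR S j₀ a) ∈ Set.range (algebraMap S R') := by
    intro a
    have := forall_mem_of_generators (R := S) (s : Set X) hs'
      (((Bialgebra.counitAlgHom R' B).restrictScalars S).comp (jR S j₀))
      (Algebra.ofId S R').range (fun x hx => by
        obtain ⟨h1, -, -⟩ := hFx x S (hFS x hx)
        refine ⟨⟨_, h1⟩, ?_⟩
        change counit (R := R') (j₀ x) = counit (R := R') (jR S j₀ ((1 : S) ⊗ₜ[k] x))
        rw [jR_one_tmul]) a
    obtain ⟨r, hr⟩ := this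
    exact ⟨r, hr⟩
  have hAnt : ∀ a, HopfAlgebra.antipode R' (jR S j₀ a) ∈ Set.range (jR S j₀) := by
    intro a
    have := forall_mem_of_generators (R := S) (s : Set X) hs'
      (((HopfAlgebra.antipodeAlgHom R' B).restrictScalars S).comp (jR S j₀))
      (jR S j₀).range (fun x hx => by
        obtain ⟨-, ⟨u, hu⟩, -⟩ := hFx x S (hFS x hx)
        refine ⟨u, ?_⟩
        change jR S j₀ u = HopfAlgebra.antipode R' (jR S j₀ ((1 : S) ⊗ₜ[k] x))
        rw [jR_one_tmul, ← hu, theta_up]) a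
    obtain ⟨r, hr⟩ := this
    exact ⟨r, hr⟩
  have hΔ : ∀ a, comul (R := R') (jR S j₀ a) ∈ Set.range (j2 (R' := R') (jR S j₀)) := by
    intro a
    have := forall_mem_of_generators (R := S) (s : Set X) hs'
      (((Bialgebra.comulAlgHom R' B).restrictScalars S).comp (jR S j₀))
      (j2 (R' := R') (jR S j₀)).range (fun x hx => by
        obtain ⟨-, -, ⟨v, hv⟩⟩ := hFx x S (hFS x hx)
        refine ⟨TensorProduct.AlgebraTensorModule.distribBaseChange k S X X v, ?_⟩
        change j2 (R' := R') (jR S j₀) _ = comul (R := R') (jR S j₀ ((1 : S) ⊗ₜ[k] x))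
        rw [jR_one_tmul, ← hv, kappa_up]) a
    obtain ⟨r, hr⟩ := this
    exact ⟨r, hr⟩
  letI hopf : HopfAlgebra S (S ⊗[k] X) := hopfOfRestrict (jR S j₀) hR' hj hj2 hj3 hΔ hε hAnt
  obtain ⟨Φ, -⟩ := exists_bialgEquiv_restrict (jR S j₀) hR' hj hj2 hj3 hΔ hε hAnt hΘ
  haveI hSft : Algebra.FiniteType k S :=
    (Subalgebra.fg_iff_finiteType _).mp (Subalgebra.fg_adjoin_finset F)
  refine ⟨S, inferInstance, inferInstance, S ⊗[k] X, inferInstance, hopf,
    Algebra.FiniteType.trans hk hSft, inferInstance, inferInstance, ⟨Φ⟩⟩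

end Main

end Groth.Agent.Lib.R2H7.Fib
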