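import Mathlib
import Groth.Agent.Lib.R2H7DiagNil
import Groth.Agent.S9436

/-!
# R2H7IsoNil: (quasi-)isotriviality of groups of multiplicative type lifts along nil ideals

* `isMultType_baseChange`: multiplicative type is stable under base change.
* `finite_of_nil`, `faithfullyFlat_of_nil`: finiteness / faithful flatness of an algebra can be
  checked modulo a nil ideal (finite type / flat algebras).
* `isDiag_of_lift`: if `S` lifts a `R/I`-algebra `k'` over which `A` becomes diagonalisable, then `A`
  becomes diagonalisable over `S` (`I` nil, `A` of multiplicative type).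
* `exists_etale_cover`: étale faithfully flat splitting covers lift along nil ideals.
* `isIsotrivial_of_nil`, `isQuasiIsotrivial_of_nil`.
-/

set_option autoImplicit false
universe u

namespace Groth.Agent.Lib.R2H7.IsoNil

open TensorProduct Coalgebra Groth.Agent.Lib.Helper25 Groth.Agent.Lib.R2H7.GLLift
  Groth.Agent.Lib.R2H7.GLGlue Groth.Agent.Lib.R2H7.DiagNil SGA3b

section BaseChangeMT

variable {S : Type u} [CommRing S] (T : Type u) [CommRing T] [Algebra S T]
  {B : Type u} [CommRing B] [HopfAlgebra S B]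

/-- Multiplicative type is stable under base change. -/
theorem isMultType_baseChange (h : IsMultType S B) : IsMultType T (T ⊗[S] B) := by
  obtain ⟨s, hs, hmt⟩ := h
  refine ⟨algebraMap S T '' s, ?_, ?_⟩
  · rw [← Ideal.map_span, hs, Ideal.map_top]
  · rintro _ ⟨f, hf, rfl⟩
    have hunit : IsUnit (algebraMap S (Localization.Away (algebraMap S T f)) f) := by
      rw [IsScalarTower.algebraMap_apply S T (Localization.Away (algebraMap S T f))]
      exact IsLocalization.Away.algebraMap_isUnit _
    let g : Localization.Away f →ₐ[S] Localization.Away (algebraMap S T f) :=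
      IsLocalization.Away.liftAlgHom (A := S) (R := S) f
        (f := Algebra.ofId S (Localization.Away (algebraMap S T f))) hunit
    letI : Algebra (Localization.Away f) (Localization.Away (algebraMap S T f)) :=
      g.toRingHom.toAlgebra
    haveI : IsScalarTower S (Localization.Away f) (Localization.Away (algebraMap S T f)) :=
      IsScalarTower.of_algebraMap_eq (fun r => (g.commutes r).symm)
    have h1 : IsMultTypeConst (Localization.Away (algebraMap S T f))
        (Localization.Away (algebraMap S T f) ⊗[Localization.Away f]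
          (Localization.Away f ⊗[S] B)) :=
      isMultTypeConst_baseChange _ (hmt f hf)
    have h2 : IsMultTypeConst (Localization.Away (algebraMap S T f))
        (Localization.Away (algebraMap S T f) ⊗[S] B) :=
      isMultTypeConst_of_equiv
        (BCB.cancelBC S (Localization.Away f) (Localization.Away (algebraMap S T f)) B).symm h1
    exact isMultTypeConst_of_equiv
      (BCB.cancelBC S T (Localization.Away (algebraMap S T f)) B) h2

end BaseChangeMT

section Nil

variable {R : Type u} [CommRing R] (I : Ideal R) (S : Type u) [CommRing S] [Algebra R S]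

theorem smul_top_nil (hI : ∀ x ∈ I, IsNilpotent x) {z : S}
    (hz : z ∈ I • (⊤ : Submodule R S)) : IsNilpotent z := by
  rw [Ideal.smul_top_eq_map] at hz
  exact map_nil S I hI z hz

theorem mul_mem_smul_top' (K : Ideal R) (b : S) {z : S} (hz : z ∈ K • (⊤ : Submodule R S)) :
    b * z ∈ K • (⊤ : Submodule R S) := by
  refine Submodule.smul_induction_on hz ?_ ?_
  · intro r hr n _
    rw [mul_smul_comm]
    exact Submodule.smul_mem_smul hr Submodule.mem_top
  · intro x y hx hy
    rw [mul_add]
    exact Submodule.add_mem _ hx hy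

/-- A finite type algebra which is finite modulo a nil ideal is finite. -/
theorem finite_of_nil (hI : ∀ x ∈ I, IsNilpotent x) [Algebra.FiniteType R S]
    [Module.Finite (R ⧸ I) ((R ⧸ I) ⊗[R] S)] : Module.Finite R S := by
  haveI : Algebra.IsIntegral R S := by
    constructor
    intro s
    have hint : IsIntegral (R ⧸ I) ((1 : R ⧸ I) ⊗ₜ[R] s) := Algebra.IsIntegral.isIntegral _
    obtain ⟨pbar, hmonic, hroot⟩ := hint
    have hl : pbar ∈ Polynomial.lifts (algebraMap R (R ⧸ I)) := by
      rw [Polynomial.mem_lifts]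
      exact Polynomial.map_surjective _ Ideal.Quotient.mk_surjective pbar
    obtain ⟨p, hp, -, hpm⟩ := Polynomial.lifts_and_natDegree_eq_and_monic hl hmonic
    have h1 : Polynomial.aeval ((1 : R ⧸ I) ⊗ₜ[R] s) (p.map (algebraMap R (R ⧸ I))) = 0 := by
      rw [hp, Polynomial.aeval_def]
      exact hroot
    rw [Polynomial.aeval_map_algebraMap] at h1
    have h2 : (1 : R ⧸ I) ⊗ₜ[R] (Polynomial.aeval s p) = 0 := by
      have h3 := Polynomial.aeval_algHom_apply
        (Algebra.TensorProduct.includeRight : S →ₐ[R] (R ⧸ I) ⊗[R] S) s p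
      rw [Algebra.TensorProduct.includeRight_apply, Algebra.TensorProduct.includeRight_apply,
        h1] at h3
      exact h3.symm
    have h4 : IsNilpotent (Polynomial.aeval s p) :=
      smul_top_nil I S hI ((one_tmul_eq_zero_iff I _).mp h2)
    obtain ⟨N, hN⟩ := h4
    refine ⟨p ^ N, hpm.pow N, ?_⟩
    rw [← Polynomial.aeval_def, map_pow, hN]
  exact Algebra.IsIntegral.finite

/-- A flat algebra which is faithfully flat modulo a nil ideal is faithfully flat. -/
theorem faithfullyFlat_of_nil (hI : ∀ x ∈ I, IsNilpotent x) [Module.Flat R S]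
    [Module.FaithfullyFlat (R ⧸ I) ((R ⧸ I) ⊗[R] S)] : Module.FaithfullyFlat R S := by
  refine Module.FaithfullyFlat.mk (fun m hm htop => ?_)
  have hIm : I ≤ m := by
    intro x hx
    obtain ⟨n, hn⟩ := hI x hx
    exact hm.isPrime.mem_of_pow_mem n (hn ▸ m.zero_mem)
  have hne : m.map (algebraMap R (R ⧸ I)) ≠ ⊤ := by
    intro htop'
    have h1 := Ideal.comap_map_of_surjective (algebraMap R (R ⧸ I))
      Ideal.Quotient.mk_surjective m
    rw [htop', Ideal.comap_top] at h1
    have h2 : Ideal.comap (algebraMap R (R ⧸ I)) ⊥ = I := by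
      rw [← RingHom.ker_eq_comap_bot, Ideal.Quotient.algebraMap_eq, Ideal.mk_ker]
    rw [h2, sup_eq_left.mpr hIm] at h1
    exact hm.ne_top h1.symm
  have h3 := ((Module.FaithfullyFlat.iff_flat_and_proper_ideal (R ⧸ I) ((R ⧸ I) ⊗[R] S)).mp
    inferInstance).2 _ hne
  apply h3
  rw [eq_top_iff]
  intro x _
  have h4 : (1 : S) ∈ m • (⊤ : Submodule R S) := by
    rw [htop]
    trivial
  have h5 : (1 : R ⧸ I) ⊗ₜ[R] (1 : S) ∈ (m.map (algebraMap R (R ⧸ I))) •
      (⊤ : Submodule (R ⧸ I) ((R ⧸ I) ⊗[R] S)) := tmul_mem_map_smul_top (R ⧸ I) m 1 h4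
  have h6 := mul_mem_smul_top' ((R ⧸ I) ⊗[R] S) (m.map (algebraMap R (R ⧸ I))) x h5
  rwa [← Algebra.TensorProduct.one_def, mul_one] at h6

end Nil

section Lift

variable {R : Type u} [CommRing R] (I : Ideal R) {A : Type u} [CommRing A] [HopfAlgebra R A]

/-- If `S` lifts an `R/I`-algebra `k'` which splits `A` modulo `I`, then `S` splits `A`. -/
theorem isDiag_of_lift (hI : ∀ x ∈ I, IsNilpotent x) (h : IsMultType R A)
    (k' : Type u) [CommRing k'] [Algebra (R ⧸ I) k']
    (hD : IsDiag k' (k' ⊗[R ⧸ I] ((R ⧸ I) ⊗[R] A)))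
    (S : Type u) [CommRing S] [Algebra R S] (ε : ((R ⧸ I) ⊗[R] S) ≃ₐ[R ⧸ I] k') :
    IsDiag S (S ⊗[R] A) := by
  let lft : (R ⧸ I) ⊗[R] S →ₐ[R ⧸ I] (S ⧸ I.map (algebraMap R S)) :=
    Algebra.TensorProduct.lift (Algebra.ofId (R ⧸ I) (S ⧸ I.map (algebraMap R S)))
      (IsScalarTower.toAlgHom R S (S ⧸ I.map (algebraMap R S))) (fun _ _ => Commute.all _ _)
  let φ : k' →ₐ[R ⧸ I] (S ⧸ I.map (algebraMap R S)) := lft.comp ε.symm.toAlgHom
  letI : Algebra k' (S ⧸ I.map (algebraMap R S)) := φ.toRingHom.toAlgebra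
  haveI : IsScalarTower (R ⧸ I) k' (S ⧸ I.map (algebraMap R S)) :=
    IsScalarTower.of_algebraMap_eq (fun r => (φ.commutes r).symm)
  have h1 : IsDiag (S ⧸ I.map (algebraMap R S))
      ((S ⧸ I.map (algebraMap R S)) ⊗[R ⧸ I] ((R ⧸ I) ⊗[R] A)) :=
    BCB.isDiag_baseChange_of_tower (R ⧸ I) ((R ⧸ I) ⊗[R] A) k' (S ⧸ I.map (algebraMap R S)) hD
  have h2 : IsDiag (S ⧸ I.map (algebraMap R S)) ((S ⧸ I.map (algebraMap R S)) ⊗[R] A) :=
    BCB.isDiag_of_equiv (BCB.cancelBC R (R ⧸ I) (S ⧸ I.map (algebraMap R S)) A).symm h1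
  have h3 : IsDiag (S ⧸ I.map (algebraMap R S))
      ((S ⧸ I.map (algebraMap R S)) ⊗[S] (S ⊗[R] A)) :=
    BCB.isDiag_of_equiv (BCB.cancelBC R S (S ⧸ I.map (algebraMap R S)) A) h2
  exact isDiag_of_nil (I.map (algebraMap R S)) (map_nil S I hI) (isMultType_baseChange S h) h3

/-- Étale faithfully flat splitting covers lift along nil ideals. -/
theorem exists_etale_cover (hI : ∀ x ∈ I, IsNilpotent x) (h : IsMultType R A)
    (k' : Type u) [CommRing k'] [Algebra (R ⧸ I) k'] [Algebra.Etale (R ⧸ I) k']
    [Module.FaithfullyFlat (R ⧸ I) k']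
    (hD : IsDiag k' (k' ⊗[R ⧸ I] ((R ⧸ I) ⊗[R] A))) :
    ∃ (S : Type u) (_ : CommRing S) (_ : Algebra R S), Algebra.Etale R S ∧
      Module.FaithfullyFlat R S ∧ IsDiag S (S ⊗[R] A) ∧
      (Module.Finite (R ⧸ I) k' → Module.Finite R S) := by
  obtain ⟨S, _, _, hS, ⟨ε⟩⟩ := Groth.Agent.S9436.result R I k'
  haveI := hS
  haveI : Module.FaithfullyFlat (R ⧸ I) ((R ⧸ I) ⊗[R] S) :=
    Module.FaithfullyFlat.of_linearEquiv (R ⧸ I) k' ε.toLinearEquiv
  refine ⟨S, inferInstance, inferInstance, hS, faithfullyFlat_of_nil I S hI,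
    isDiag_of_lift I hI h k' hD S ε, fun hfin => ?_⟩
  haveI : Module.Finite (R ⧸ I) ((R ⧸ I) ⊗[R] S) := Module.Finite.equiv ε.symm.toLinearEquiv
  exact finite_of_nil I S hI

theorem isIsotrivial_of_nil (hI : ∀ x ∈ I, IsNilpotent x) (h : IsMultType R A)
    (h0 : IsIsotrivial (R ⧸ I) ((R ⧸ I) ⊗[R] A)) : IsIsotrivial R A := by
  obtain ⟨k', _, _, hE, hF, hFF, hD⟩ := h0
  obtain ⟨S, _, _, hE', hFF', hD', hfin⟩ := exists_etale_cover I hI h k' hD
  exact ⟨S, inferInstance, inferInstance, hE', hfin hF, hFF', hD'⟩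

theorem span_preimage_eq_top (hI : ∀ x ∈ I, IsNilpotent x) (sbar : Set (R ⧸ I))
    (hs : Ideal.span sbar = ⊤) : Ideal.span {f : R | Ideal.Quotient.mk I f ∈ sbar} = ⊤ := by
  have h1 : (Ideal.span {f : R | Ideal.Quotient.mk I f ∈ sbar}).map (Ideal.Quotient.mk I) = ⊤ := by
    rw [Ideal.map_span, ← hs]
    congr 1
    ext x
    constructor
    · rintro ⟨f, hf, rfl⟩
      exact hf
    · intro hx
      obtain ⟨f, rfl⟩ := Ideal.Quotient.mk_surjective x
      exact ⟨f, hx, rfl⟩
  have h2 : Ideal.span {f : R | Ideal.Quotient.mk I f ∈ sbar} ⊔ I = ⊤ := by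
    have h3 := Ideal.comap_map_of_surjective (Ideal.Quotient.mk I) Ideal.Quotient.mk_surjective
      (Ideal.span {f : R | Ideal.Quotient.mk I f ∈ sbar})
    rw [h1, Ideal.comap_top] at h3
    have h4 : Ideal.comap (Ideal.Quotient.mk I) ⊥ = I := by
      rw [← RingHom.ker_eq_comap_bot, Ideal.mk_ker]
    rw [h4] at h3
    exact h3.symm
  have h5 : (1 : R) ∈ Ideal.span {f : R | Ideal.Quotient.mk I f ∈ sbar} ⊔ I := by
    rw [h2]
    trivial
  obtain ⟨j, hj, i, hi, hji⟩ := Submodule.mem_sup.mp h5
  have hu : IsUnit j := by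
    have h6 : j = 1 - i := by
      rw [← hji]
      ring
    rw [h6]
    exact (hI i hi).isUnit_one_sub
  exact Ideal.eq_top_of_isUnit_mem _ hj hu

end Lift

section Quasi

variable {R : Type u} [CommRing R] (I : Ideal R) {A : Type u} [CommRing A] [HopfAlgebra R A]

/-- `R_f / I R_f` is the localization of `R / I` at the class of `f`. -/
theorem isLocalization_away_quotient (f : R) :
    IsLocalization.Away (Ideal.Quotient.mk I f)
      (Localization.Away f ⧸ I.map (algebraMap R (Localization.Away f))) := by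
  have e : Algebra.algebraMapSubmonoid (R ⧸ I) (Submonoid.powers f) =
      Submonoid.powers (Ideal.Quotient.mk I f) := by
    rw [Algebra.algebraMapSubmonoid, Submonoid.map_powers]
    rfl
  have h : IsLocalization (Algebra.algebraMapSubmonoid (R ⧸ I) (Submonoid.powers f))
      (Localization.Away f ⧸ I.map (algebraMap R (Localization.Away f))) := inferInstance
  rw [e] at h
  exact h

theorem isQuasiIsotrivialConst_away (hI : ∀ x ∈ I, IsNilpotent x) (h : IsMultType R A) (f : R)
    (hq : IsQuasiIsotrivialConst (Localization.Away (Ideal.Quotient.mk I f))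
      (Localization.Away (Ideal.Quotient.mk I f) ⊗[R ⧸ I] ((R ⧸ I) ⊗[R] A))) :
    IsQuasiIsotrivialConst (Localization.Away f) (Localization.Away f ⊗[R] A) := by
  obtain ⟨k'', _, _, hE, hFF, hD⟩ := hq
  haveI := isLocalization_away_quotient I f
  let σ : (Localization.Away f ⧸ I.map (algebraMap R (Localization.Away f))) ≃ₐ[R ⧸ I]
      Localization.Away (Ideal.Quotient.mk I f) :=
    IsLocalization.algEquiv (Submonoid.powers (Ideal.Quotient.mk I f)) _ _
  letI iKL : Algebra (Localization.Away f ⧸ I.map (algebraMap R (Localization.Away f)))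
      (Localization.Away (Ideal.Quotient.mk I f)) := σ.toAlgHom.toRingHom.toAlgebra
  letI iKk : Algebra (Localization.Away f ⧸ I.map (algebraMap R (Localization.Away f))) k'' :=
    ((algebraMap (Localization.Away (Ideal.Quotient.mk I f)) k'').comp
      σ.toAlgHom.toRingHom).toAlgebra
  haveI : IsScalarTower (Localization.Away f ⧸ I.map (algebraMap R (Localization.Away f)))
      (Localization.Away (Ideal.Quotient.mk I f)) k'' :=
    IsScalarTower.of_algebraMap_eq (fun _ => rfl)
  -- étale and faithfully flat over `R_f / I R_f`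
  have hbij : Function.Bijective (Algebra.ofId
      (Localization.Away f ⧸ I.map (algebraMap R (Localization.Away f)))
      (Localization.Away (Ideal.Quotient.mk I f))) := σ.bijective
  haveI : Algebra.Etale (Localization.Away f ⧸ I.map (algebraMap R (Localization.Away f)))
      (Localization.Away (Ideal.Quotient.mk I f)) :=
    Algebra.Etale.of_equiv (AlgEquiv.ofBijective _ hbij)
  haveI : Algebra.Etale (Localization.Away f ⧸ I.map (algebraMap R (Localization.Away f))) k'' :=
    Algebra.Etale.comp _ (Localization.Away (Ideal.Quotient.mk I f)) k''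
  haveI : Module.FaithfullyFlat (Localization.Away f ⧸ I.map (algebraMap R (Localization.Away f)))
      (Localization.Away (Ideal.Quotient.mk I f)) :=
    Module.FaithfullyFlat.of_linearEquiv _
      (Localization.Away f ⧸ I.map (algebraMap R (Localization.Away f)))
      (AlgEquiv.ofBijective _ hbij).symm.toLinearEquiv
  haveI : Module.FaithfullyFlat
      (Localization.Away f ⧸ I.map (algebraMap R (Localization.Away f))) k'' :=
    Module.FaithfullyFlat.trans _ (Localization.Away (Ideal.Quotient.mk I f)) k''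
  -- the other algebra structures on `k''`
  letI ikk : Algebra (R ⧸ I) k'' :=
    ((algebraMap (Localization.Away (Ideal.Quotient.mk I f)) k'').comp
      (algebraMap (R ⧸ I) (Localization.Away (Ideal.Quotient.mk I f)))).toAlgebra
  haveI : IsScalarTower (R ⧸ I) (Localization.Away (Ideal.Quotient.mk I f)) k'' :=
    IsScalarTower.of_algebraMap_eq (fun _ => rfl)
  letI iRk : Algebra R k'' :=
    ((algebraMap (R ⧸ I) k'').comp (algebraMap R (R ⧸ I))).toAlgebra
  haveI : IsScalarTower R (R ⧸ I) k'' := IsScalarTower.of_algebraMap_eq (fun _ => rfl)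
  letI iRfk : Algebra (Localization.Away f) k'' :=
    ((algebraMap (Localization.Away f ⧸ I.map (algebraMap R (Localization.Away f))) k'').comp
      (algebraMap (Localization.Away f)
        (Localization.Away f ⧸ I.map (algebraMap R (Localization.Away f))))).toAlgebra
  haveI : IsScalarTower (Localization.Away f)
      (Localization.Away f ⧸ I.map (algebraMap R (Localization.Away f))) k'' := by
    have t := IsScalarTower.of_algebraMap_eq (R := Localization.Away f)
      (S := Localization.Away f ⧸ I.map (algebraMap R (Localization.Away f))) (A := k'')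
      (fun _ => rfl)
    exact ⟨fun x y z => t.smul_assoc x y z⟩
  haveI : IsScalarTower R (Localization.Away f) k'' := by
    refine IsScalarTower.of_algebraMap_eq (fun r => ?_)
    change algebraMap (Localization.Away (Ideal.Quotient.mk I f)) k''
        (algebraMap (R ⧸ I) (Localization.Away (Ideal.Quotient.mk I f))
          (algebraMap R (R ⧸ I) r)) =
      algebraMap (Localization.Away (Ideal.Quotient.mk I f)) k''
        (σ (algebraMap (Localization.Away f)
          (Localization.Away f ⧸ I.map (algebraMap R (Localization.Away f)))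
          (algebraMap R (Localization.Away f) r)))
    congr 1
    rw [← IsScalarTower.algebraMap_apply R (Localization.Away f)
      (Localization.Away f ⧸ I.map (algebraMap R (Localization.Away f))),
      IsScalarTower.algebraMap_apply R (R ⧸ I)
      (Localization.Away f ⧸ I.map (algebraMap R (Localization.Away f))), σ.commutes]
  -- transport diagonalisability
  have a1 : IsDiag k'' (k'' ⊗[R ⧸ I] ((R ⧸ I) ⊗[R] A)) :=
    BCB.isDiag_of_equiv (BCB.cancelBC (R ⧸ I) (Localization.Away (Ideal.Quotient.mk I f)) k''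
      ((R ⧸ I) ⊗[R] A)).symm hD
  have a2 : IsDiag k'' (k'' ⊗[R] A) :=
    BCB.isDiag_of_equiv (BCB.cancelBC R (R ⧸ I) k'' A).symm a1
  have a3 : IsDiag k'' (k'' ⊗[Localization.Away f] (Localization.Away f ⊗[R] A)) :=
    BCB.isDiag_of_equiv (BCB.cancelBC R (Localization.Away f) k'' A) a2
  obtain ⟨S, _, _, hE', hFF', hDS, -⟩ := exists_etale_cover
    (I.map (algebraMap R (Localization.Away f))) (map_nil _ I hI)
    (isMultType_baseChange (Localization.Away f) h) k''
    (BCB.isDiag_of_equiv (BCB.cancelBC (Localization.Away f)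
      (Localization.Away f ⧸ I.map (algebraMap R (Localization.Away f))) k''
      (Localization.Away f ⊗[R] A)) a3)
  exact ⟨S, inferInstance, inferInstance, hE', hFF', hDS⟩

theorem isQuasiIsotrivial_of_nil (hI : ∀ x ∈ I, IsNilpotent x) (h : IsMultType R A)
    (h0 : IsQuasiIsotrivial (R ⧸ I) ((R ⧸ I) ⊗[R] A)) : IsQuasiIsotrivial R A := by
  obtain ⟨sbar, hsbar, hq⟩ := h0
  refine ⟨{f : R | Ideal.Quotient.mk I f ∈ sbar}, span_preimage_eq_top I hI sbar hsbar, ?_⟩
  intro f hf
  exact isQuasiIsotrivialConst_away I hI h f (hq _ hf)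

end Quasi

end Groth.Agent.Lib.R2H7.IsoNil
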