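import Mathlib
import Groth.Agent.Lib.R2H7DiagNil
import Groth.Agent.Lib.R2H7FlatNil
import Groth.Agent.Lib.R2H7IsoNil

/-!
# R2H7FlatDiag: a flat Hopf algebra which is diagonalisable modulo a nilpotent ideal is
diagonalisable

Let `A` be a Hopf algebra over `R` and `lam : A → R` a linear form with `lam 1 = 1` which is an
invariant integral modulo an ideal `I` (`D lam b ∈ I A` for all `b`, where
`D lam b = (id ⊗ lam) (Δ b) - lam b • 1`).  If `I` is nilpotent then

* `uniqGL_of_integral`: group-like elements congruent modulo `I` are equal;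
* `liftGL_of_integral`: elements group-like modulo `I` lift to group-like elements (Newton
  iteration `x ↦ x (1 + (id ⊗ lam) δ)` with `δ = Δ x (x⁻¹ ⊗ x⁻¹) - 1`; the cocycle identity for `δ`
  is `cocycle`).

If `A` is flat and `(R/I) ⊗ A` is a group algebra `(R/I)[M]`, lifts of the basis `M` form a basis of
`A` (`FlatNil.bijective_of_flat_of_nilpotent`) and the coordinate at `1` is such an integral; hence
`isDiag_of_flat`: `A ≅ R[M]`.
-/

set_option autoImplicit false
universe u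

namespace Groth.Agent.Lib.R2H7.FlatDiag

open TensorProduct Coalgebra Groth.Agent.Lib.Helper25 Groth.Agent.Lib.R2H7.GLLift
  Groth.Agent.Lib.R2H7.DiagNil Groth.Agent.Lib.R2H7.FlatNil SGA3b

section Unit

variable {R : Type u} [CommRing R] (I : Ideal R)

theorem isUnit_of_sub_mem (hI : ∀ r ∈ I, IsNilpotent r) {B : Type u} [CommRing B] [Algebra R B]
    {u v : B} (hu : IsUnit u) (h : v - u ∈ I • (⊤ : Submodule R B)) : IsUnit v := by
  obtain ⟨w, hw⟩ := hu.exists_right_inv
  have h1 : v = u * (1 + w * (v - u)) := by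
    linear_combination (-(v - u)) * hw
  rw [h1]
  refine hu.mul (IsNilpotent.isUnit_one_add ?_)
  exact IsoNil.smul_top_nil I B hI (mul_mem_smul_top_left I w h)

theorem isNilpotent_of_pow_eq_bot (n : ℕ) (hn : I ^ n = ⊥) : ∀ r ∈ I, IsNilpotent r := by
  intro r hr
  refine ⟨n, ?_⟩
  have h1 := Ideal.pow_mem_pow hr n
  rwa [hn, Ideal.mem_bot] at h1

variable {A : Type u} [CommRing A] [HopfAlgebra R A]

theorem isUnit_of_glmod (hI : ∀ r ∈ I, IsNilpotent r) {x : A} (hx : GLmod R A I x) :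
    IsUnit x := by
  have hG := map_mem_smul_top
    (LinearMap.mul' R A ∘ₗ (HopfAlgebra.antipode R).lTensor A) I hx.1
  rw [map_sub, LinearMap.comp_apply, HopfAlgebra.mul_antipode_lTensor_comul_apply,
    LinearMap.comp_apply, LinearMap.lTensor_tmul, LinearMap.mul'_apply] at hG
  have h2 : algebraMap R A (counit (R := R) x) - 1 ∈ I • (⊤ : Submodule R A) := by
    have : algebraMap R A (counit (R := R) x) - 1 = (counit (R := R) x - 1) • (1 : A) := by
      rw [sub_smul, one_smul, Algebra.algebraMap_eq_smul_one]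
    rw [this]
    exact Submodule.smul_mem_smul hx.2 Submodule.mem_top
  have h3 : x * HopfAlgebra.antipode R x - 1 ∈ I • (⊤ : Submodule R A) := by
    have : x * HopfAlgebra.antipode R x - 1 =
        (algebraMap R A (counit (R := R) x) - 1) -
          (algebraMap R A (counit (R := R) x) - x * HopfAlgebra.antipode R x) := by ring
    rw [this]
    exact Submodule.sub_mem _ h2 hG
  have h4 : IsUnit (x * HopfAlgebra.antipode R x) := by
    have : x * HopfAlgebra.antipode R x = 1 + (x * HopfAlgebra.antipode R x - 1) := by ring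
    rw [this]
    exact IsNilpotent.isUnit_one_add (IsoNil.smul_top_nil I A hI h3)
  exact isUnit_of_mul_isUnit_left h4

end Unit

section Integral

variable {R : Type u} [CommRing R] {A : Type u} [CommRing A] [HopfAlgebra R A]
  (lam : A →ₗ[R] R)

/-- `id ⊗ lam : A ⊗ A → A`. -/
noncomputable def F : A ⊗[R] A →ₗ[R] A :=
  (TensorProduct.rid R A).toLinearMap ∘ₗ LinearMap.lTensor A lam

theorem F_tmul (a b : A) : F lam (a ⊗ₜ[R] b) = lam b • a := by
  simp [F]

/-- The defect of invariance of `lam`: `b ↦ (id ⊗ lam) (Δ b) - lam b • 1`. -/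
noncomputable def D : A →ₗ[R] A :=
  F lam ∘ₗ (comul : A →ₗ[R] A ⊗[R] A) - (LinearMap.toSpanSingleton R A 1) ∘ₗ lam

theorem D_apply (b : A) : D lam b = F lam (comul (R := R) b) - lam b • (1 : A) := by
  simp [D]

/-- `id ⊗ id ⊗ lam : A ⊗ (A ⊗ A) → A ⊗ A`. -/
noncomputable def L : A ⊗[R] (A ⊗[R] A) →ₗ[R] A ⊗[R] A := LinearMap.lTensor A (F lam)

theorem L_tmul (a : A) (w : A ⊗[R] A) : L lam (a ⊗ₜ[R] w) = a ⊗ₜ[R] F lam w := by
  simp [L]

variable (R A) in
/-- `id ⊗ Δ`. -/
noncomputable def cR : A ⊗[R] A →ₐ[R] A ⊗[R] (A ⊗[R] A) :=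
  Algebra.TensorProduct.map (AlgHom.id R A) (Bialgebra.comulAlgHom R A)

variable (R A) in
/-- `Δ ⊗ id` (followed by the associator). -/
noncomputable def cL : A ⊗[R] A →ₐ[R] A ⊗[R] (A ⊗[R] A) :=
  (Algebra.TensorProduct.assoc R R R A A A).toAlgHom.comp
    (Algebra.TensorProduct.map (Bialgebra.comulAlgHom R A) (AlgHom.id R A))

variable (R A) in
/-- `w ↦ w ⊗ 1` (followed by the associator). -/
noncomputable def i12 : A ⊗[R] A →ₐ[R] A ⊗[R] (A ⊗[R] A) :=
  (Algebra.TensorProduct.assoc R R R A A A).toAlgHom.comp Algebra.TensorProduct.includeLeft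

variable (R A) in
/-- `w ↦ 1 ⊗ w`. -/
noncomputable def i23 : A ⊗[R] A →ₐ[R] A ⊗[R] (A ⊗[R] A) :=
  Algebra.TensorProduct.includeRight

theorem cR_tmul (a b : A) : cR R A (a ⊗ₜ[R] b) = a ⊗ₜ[R] comul (R := R) b := by
  simp [cR]

theorem cL_tmul (a b : A) : cL R A (a ⊗ₜ[R] b) =
    Algebra.TensorProduct.assoc R R R A A A (comul (R := R) a ⊗ₜ[R] b) := by
  simp [cL]

theorem i12_apply (w : A ⊗[R] A) : i12 R A w =
    Algebra.TensorProduct.assoc R R R A A A (w ⊗ₜ[R] (1 : A)) := by
  simp [i12]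

theorem i23_apply (w : A ⊗[R] A) : i23 R A w = (1 : A) ⊗ₜ[R] w := by
  simp [i23]

theorem assoc_eq (v : A ⊗[R] A) (b : A) :
    Algebra.TensorProduct.assoc R R R A A A (v ⊗ₜ[R] b) =
      TensorProduct.assoc R A A A (v ⊗ₜ[R] b) := by
  induction v using TensorProduct.induction_on with
  | zero => simp
  | tmul a1 a2 => simp
  | add x y hx hy => rw [TensorProduct.add_tmul, map_add, map_add, hx, hy]

theorem cL_eq (w : A ⊗[R] A) : cL R A w =
    TensorProduct.assoc R A A A ((comul : A →ₗ[R] A ⊗[R] A).rTensor A w) := by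
  induction w using TensorProduct.induction_on with
  | zero => simp
  | tmul a b => rw [cL_tmul, assoc_eq, LinearMap.rTensor_tmul]
  | add x y hx hy => rw [map_add, map_add, map_add, hx, hy]

theorem cR_eq (w : A ⊗[R] A) : cR R A w = (comul : A →ₗ[R] A ⊗[R] A).lTensor A w := by
  induction w using TensorProduct.induction_on with
  | zero => simp
  | tmul a b => rw [cR_tmul, LinearMap.lTensor_tmul]
  | add x y hx hy => rw [map_add, map_add, hx, hy]

theorem coassoc' (a : A) : cL R A (comul (R := R) a) = cR R A (comul (R := R) a) := by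
  rw [cL_eq, cR_eq, Coalgebra.coassoc_apply]

theorem L_assoc_tmul (v : A ⊗[R] A) (b : A) :
    L lam (Algebra.TensorProduct.assoc R R R A A A (v ⊗ₜ[R] b)) = lam b • v := by
  induction v using TensorProduct.induction_on with
  | zero => simp
  | tmul a1 a2 =>
    rw [Algebra.TensorProduct.assoc_tmul, L_tmul, F_tmul, TensorProduct.tmul_smul]
  | add x y hx hy => rw [TensorProduct.add_tmul, map_add, map_add, hx, hy, smul_add]

theorem L_i12 (h1 : lam 1 = 1) (w : A ⊗[R] A) : L lam (i12 R A w) = w := by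
  rw [i12_apply, L_assoc_tmul, h1, one_smul]

theorem L_i23 (w : A ⊗[R] A) : L lam (i23 R A w) = (1 : A) ⊗ₜ[R] F lam w := by
  rw [i23_apply, L_tmul]

theorem L_cL (w : A ⊗[R] A) : L lam (cL R A w) = comul (R := R) (F lam w) := by
  induction w using TensorProduct.induction_on with
  | zero => simp
  | tmul a b => rw [cL_tmul, L_assoc_tmul, F_tmul, map_smul]
  | add x y hx hy => rw [map_add, map_add, map_add, map_add, hx, hy]

theorem lTensor_D (w : A ⊗[R] A) :
    LinearMap.lTensor A (D lam) w = L lam (cR R A w) - F lam w ⊗ₜ[R] (1 : A) := by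
  induction w using TensorProduct.induction_on with
  | zero => simp
  | tmul a b =>
    rw [LinearMap.lTensor_tmul, D_apply, cR_tmul, L_tmul, F_tmul, TensorProduct.tmul_sub,
      TensorProduct.tmul_smul, TensorProduct.smul_tmul']
  | add x y hx hy =>
    rw [map_add, map_add, map_add, map_add, TensorProduct.add_tmul, hx, hy]
    abel

/-- The cocycle identity for the multiplicative defect `δ` of a unit `x`. -/
theorem cocycle (x y : A) (hxy : x * y = 1) (δ : A ⊗[R] A)
    (hδ : comul (R := R) x = (x ⊗ₜ[R] x) * (1 + δ)) :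
    (1 + i12 R A δ) * (1 + cL R A δ) = (1 + i23 R A δ) * (1 + cR R A δ) := by
  have hUV : (y ⊗ₜ[R] (y ⊗ₜ[R] y)) * (x ⊗ₜ[R] (x ⊗ₜ[R] x)) = 1 := by
    rw [Algebra.TensorProduct.tmul_mul_tmul, Algebra.TensorProduct.tmul_mul_tmul, mul_comm y x,
      hxy]
    rfl
  have hL : cL R A (comul (R := R) x) =
      (x ⊗ₜ[R] (x ⊗ₜ[R] x)) * ((1 + i12 R A δ) * (1 + cL R A δ)) := by
    have h2 : cL R A (x ⊗ₜ[R] x) = (x ⊗ₜ[R] (x ⊗ₜ[R] x)) * (1 + i12 R A δ) := by
      rw [cL_tmul, hδ]
      have h3 : ((x ⊗ₜ[R] x) * (1 + δ)) ⊗ₜ[R] x =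
          ((x ⊗ₜ[R] x) ⊗ₜ[R] x) * ((1 + δ) ⊗ₜ[R] (1 : A)) := by
        rw [Algebra.TensorProduct.tmul_mul_tmul, mul_one]
      rw [h3, map_mul, Algebra.TensorProduct.assoc_tmul, ← i12_apply, map_add, map_one]
    conv_lhs => rw [hδ]
    rw [map_mul, map_add, map_one, h2, mul_assoc]
  have hR : cR R A (comul (R := R) x) =
      (x ⊗ₜ[R] (x ⊗ₜ[R] x)) * ((1 + i23 R A δ) * (1 + cR R A δ)) := by
    have h2 : cR R A (x ⊗ₜ[R] x) = (x ⊗ₜ[R] (x ⊗ₜ[R] x)) * (1 + i23 R A δ) := by
      rw [cR_tmul, hδ]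
      have h3 : x ⊗ₜ[R] ((x ⊗ₜ[R] x) * (1 + δ)) =
          (x ⊗ₜ[R] (x ⊗ₜ[R] x)) * ((1 : A) ⊗ₜ[R] (1 + δ)) := by
        rw [Algebra.TensorProduct.tmul_mul_tmul, mul_one]
      rw [h3, ← i23_apply, map_add, map_one]
    conv_lhs => rw [hδ]
    rw [map_mul, map_add, map_one, h2, mul_assoc]
  have h4 := coassoc' (R := R) x
  rw [hL, hR] at h4
  have h5 := congrArg (fun t => (y ⊗ₜ[R] (y ⊗ₜ[R] y)) * t) h4
  simp only [← mul_assoc, hUV, one_mul] at h5
  exact h5

/-- Uniqueness of group-like lifts modulo a nilpotent ideal, given an invariant integral modulo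
that ideal. -/
theorem uniqGL_of_integral (I : Ideal R) (n : ℕ) (hn : I ^ n = ⊥) (h1 : lam 1 = 1)
    (hinv : ∀ b, D lam b ∈ I • (⊤ : Submodule R A)) : UniqGL R A I := by
  intro g g' hg hg' hgg
  set u : A := HopfAlgebra.antipode R g * g' with hu
  have hug : IsGroupLikeElem R u := hg.antipode.mul hg'
  have hx0 : u - 1 = HopfAlgebra.antipode R g * (g' - g) := by
    rw [mul_sub, hg.antipode_mul_cancel]
  have hx1 : u - 1 ∈ I • (⊤ : Submodule R A) := by
    rw [hx0]
    apply mul_mem_smul_top_left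
    have : g' - g = -(g - g') := by ring
    rw [this]
    exact Submodule.neg_mem _ hgg
  have hstep : ∀ e : ℕ, u - 1 ∈ (I ^ (e + 1)) • (⊤ : Submodule R A) := by
    intro e
    induction e with
    | zero => simpa using hx1
    | succ e ih =>
      have hJ : I ^ (e + 1) ≤ I := Ideal.pow_le_self (Nat.succ_ne_zero e)
      have h2 : primDefect R A (u - 1) ∈ (I ^ (e + 1) * I) • (⊤ : Submodule R (A ⊗[R] A)) := by
        rw [primDefect_sub_one hug]
        exact Submodule.smul_mono (Ideal.mul_mono_right hJ) le_rfl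
          (tmul_mem_smul_top _ _ ih ih)
      have h3 := map_mem_smul_top (F lam) _ h2
      have h4 : F lam (primDefect R A (u - 1)) = D lam (u - 1) - (u - 1) := by
        rw [primDefect_apply, map_sub, map_sub, F_tmul, F_tmul, h1, one_smul, D_apply]
        abel
      have h5 : D lam (u - 1) ∈ (I ^ (e + 1) * I) • (⊤ : Submodule R A) :=
        map_mem_mul_smul_top _ _ (D lam) hinv ih
      rw [h4] at h3
      have h6 : u - 1 = D lam (u - 1) - (D lam (u - 1) - (u - 1)) := by abel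
      rw [pow_succ, h6]
      exact Submodule.sub_mem _ h5 h3
  have h7 := hstep n
  have h8 : I ^ (n + 1) = ⊥ := by
    rw [pow_succ, hn]
    simp
  rw [h8, Submodule.bot_smul, Submodule.mem_bot, sub_eq_zero] at h7
  have h9 : g * u = g' := by
    rw [hu, ← mul_assoc, hg.mul_antipode_cancel, one_mul]
  rw [← h9, h7, mul_one]

/-- One step of the Newton iteration for lifting group-like elements. -/
theorem newton (h1 : lam 1 = 1) (I J : Ideal R) (hJI : J ≤ I)
    (hinv : ∀ b, D lam b ∈ I • (⊤ : Submodule R A)) (x y : A) (hxy : x * y = 1)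
    (hx : comul (R := R) x - x ⊗ₜ[R] x ∈ J • (⊤ : Submodule R (A ⊗[R] A))) :
    ∃ x' : A, x' - x ∈ J • (⊤ : Submodule R A) ∧
      comul (R := R) x' - x' ⊗ₜ[R] x' ∈ (J * I) • (⊤ : Submodule R (A ⊗[R] A)) := by
  set δ : A ⊗[R] A := (comul (R := R) x - x ⊗ₜ[R] x) * (y ⊗ₜ[R] y) with hδdef
  have hδJ : δ ∈ J • (⊤ : Submodule R (A ⊗[R] A)) := by
    rw [hδdef, mul_comm]
    exact mul_mem_smul_top_left J _ hx
  have hyy : (x ⊗ₜ[R] x) * (y ⊗ₜ[R] y) = 1 := by
    rw [Algebra.TensorProduct.tmul_mul_tmul, hxy]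
    rfl
  have hδ : comul (R := R) x = (x ⊗ₜ[R] x) * (1 + δ) := by
    rw [hδdef]
    linear_combination (-(comul (R := R) x - x ⊗ₜ[R] x)) * hyy
  set z : A := F lam δ with hz
  have hzJ : z ∈ J • (⊤ : Submodule R A) := map_mem_smul_top (F lam) J hδJ
  have hJJ : J * J ≤ J * I := Ideal.mul_mono_right hJI
  refine ⟨x * (1 + z), ?_, ?_⟩
  · have : x * (1 + z) - x = x * z := by ring
    rw [this]
    exact mul_mem_smul_top_left J x hzJ
  · have hcoc := cocycle x y hxy δ hδ
    have hE : i12 R A δ + cL R A δ - i23 R A δ - cR R A δ =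
        i23 R A δ * cR R A δ - i12 R A δ * cL R A δ := by
      linear_combination hcoc
    have m12 : i12 R A δ ∈ J • (⊤ : Submodule R (A ⊗[R] (A ⊗[R] A))) :=
      map_mem_smul_top (i12 R A).toLinearMap J hδJ
    have m23 : i23 R A δ ∈ J • (⊤ : Submodule R (A ⊗[R] (A ⊗[R] A))) :=
      map_mem_smul_top (i23 R A).toLinearMap J hδJ
    have mL : cL R A δ ∈ J • (⊤ : Submodule R (A ⊗[R] (A ⊗[R] A))) :=
      map_mem_smul_top (cL R A).toLinearMap J hδJ
    have mR : cR R A δ ∈ J • (⊤ : Submodule R (A ⊗[R] (A ⊗[R] A))) :=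
      map_mem_smul_top (cR R A).toLinearMap J hδJ
    have hE2 : i12 R A δ + cL R A δ - i23 R A δ - cR R A δ ∈
        (J * I) • (⊤ : Submodule R (A ⊗[R] (A ⊗[R] A))) := by
      rw [hE]
      exact Submodule.smul_mono hJJ le_rfl (Submodule.sub_mem _
        (mul_mem_mul_smul_top J J m23 mR) (mul_mem_mul_smul_top J J m12 mL))
    have hLE := map_mem_smul_top (L lam) _ hE2
    rw [map_sub, map_sub, map_add, L_i12 lam h1, L_cL, L_i23, ← hz] at hLE
    have hD : LinearMap.lTensor A (D lam) δ ∈ (J * I) • (⊤ : Submodule R (A ⊗[R] A)) :=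
      lTensor_mem_mul_smul_top J I (D lam) hinv hδJ
    rw [lTensor_D, ← hz] at hD
    have hE1 : δ + comul (R := R) z - (1 : A) ⊗ₜ[R] z - z ⊗ₜ[R] (1 : A) ∈
        (J * I) • (⊤ : Submodule R (A ⊗[R] A)) := by
      have : δ + comul (R := R) z - (1 : A) ⊗ₜ[R] z - z ⊗ₜ[R] (1 : A) =
          (δ + comul (R := R) z - (1 : A) ⊗ₜ[R] z - L lam (cR R A δ)) +
            (L lam (cR R A δ) - z ⊗ₜ[R] (1 : A)) := by abel
      rw [this]
      exact Submodule.add_mem _ hLE hD
    have hΔz : comul (R := R) z ∈ J • (⊤ : Submodule R (A ⊗[R] A)) :=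
      map_mem_smul_top (comul : A →ₗ[R] A ⊗[R] A) J hzJ
    have hm1 : δ * comul (R := R) z ∈ (J * I) • (⊤ : Submodule R (A ⊗[R] A)) :=
      Submodule.smul_mono hJJ le_rfl (mul_mem_mul_smul_top J J hδJ hΔz)
    have hm2 : z ⊗ₜ[R] z ∈ (J * I) • (⊤ : Submodule R (A ⊗[R] A)) :=
      Submodule.smul_mono hJJ le_rfl (tmul_mem_smul_top J J hzJ hzJ)
    have hfin : comul (R := R) (x * (1 + z)) - (x * (1 + z)) ⊗ₜ[R] (x * (1 + z)) =
        (x ⊗ₜ[R] x) * ((δ + comul (R := R) z - (1 : A) ⊗ₜ[R] z - z ⊗ₜ[R] (1 : A)) +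
          δ * comul (R := R) z - z ⊗ₜ[R] z) := by
      have e1 : comul (R := R) (x * (1 + z)) = comul (R := R) x * (1 + comul (R := R) z) := by
        rw [Bialgebra.comul_mul, map_add, Bialgebra.comul_one]
      have e2 : (x * (1 + z)) ⊗ₜ[R] (x * (1 + z)) =
          (x ⊗ₜ[R] x) * (1 + (1 : A) ⊗ₜ[R] z + z ⊗ₜ[R] (1 : A) + z ⊗ₜ[R] z) := by
        rw [← Algebra.TensorProduct.tmul_mul_tmul, TensorProduct.add_tmul, TensorProduct.tmul_add,
          TensorProduct.tmul_add, Algebra.TensorProduct.one_def]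
        ring
      rw [e1, e2]
      linear_combination (1 + comul (R := R) z) * hδ
    rw [hfin]
    exact mul_mem_smul_top_left _ _
      (Submodule.sub_mem _ (Submodule.add_mem _ hE1 hm1) hm2)

/-- Lifting of group-like elements modulo a nilpotent ideal, given an invariant integral modulo
that ideal. -/
theorem liftGL_of_integral (I : Ideal R) (n : ℕ) (hn : I ^ n = ⊥) (h1 : lam 1 = 1)
    (hinv : ∀ b, D lam b ∈ I • (⊤ : Submodule R A)) : LiftGL R A I := by
  intro x hx
  have hInil := isNilpotent_of_pow_eq_bot I n hn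
  have hxu : IsUnit x := isUnit_of_glmod I hInil hx
  have hiter : ∀ e : ℕ, ∃ xe : A, xe - x ∈ I • (⊤ : Submodule R A) ∧
      comul (R := R) xe - xe ⊗ₜ[R] xe ∈ (I ^ (e + 1)) • (⊤ : Submodule R (A ⊗[R] A)) := by
    intro e
    induction e with
    | zero =>
      refine ⟨x, ?_, ?_⟩
      · rw [sub_self]
        exact Submodule.zero_mem _
      · simpa using hx.1
    | succ e ih =>
      obtain ⟨xe, hxe1, hxe2⟩ := ih
      have hxeu : IsUnit xe := isUnit_of_sub_mem I hInil hxu hxe1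
      obtain ⟨y, hy⟩ := hxeu.exists_right_inv
      have hJ : I ^ (e + 1) ≤ I := Ideal.pow_le_self (Nat.succ_ne_zero e)
      obtain ⟨x', hx'1, hx'2⟩ := newton lam h1 I (I ^ (e + 1)) hJ hinv xe y hy hxe2
      refine ⟨x', ?_, ?_⟩
      · have : x' - x = (x' - xe) + (xe - x) := by abel
        rw [this]
        exact Submodule.add_mem _ (Submodule.smul_mono hJ le_rfl hx'1) hxe1
      · rwa [pow_succ (I) (e + 1)]
  obtain ⟨g, hg1, hg2⟩ := hiter n
  have h8 : I ^ (n + 1) = ⊥ := by
    rw [pow_succ, hn]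
    simp
  rw [h8, Submodule.bot_smul, Submodule.mem_bot, sub_eq_zero] at hg2
  have hgu : IsUnit g := isUnit_of_sub_mem I hInil hxu hg1
  refine ⟨g, ⟨?_, hg2⟩, hg1⟩
  have h2 := Coalgebra.rTensor_counit_comul (R := R) g
  rw [hg2, LinearMap.rTensor_tmul] at h2
  have h3 := congrArg (TensorProduct.lid R A) h2
  rw [TensorProduct.lid_tmul, TensorProduct.lid_tmul, one_smul] at h3
  have h4 := congrArg (counit (R := R)) h3
  rw [map_smul, smul_eq_mul] at h4
  have hcu : IsUnit (counit (R := R) g) := hgu.map (Bialgebra.counitAlgHom R A)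
  exact hcu.mul_left_cancel (by rw [h4, mul_one])

end Integral

section Main

variable {R : Type u} [CommRing R] (I : Ideal R) {A : Type u} [CommRing A] [HopfAlgebra R A]
  {M : Type u} [CommGroup M]

/-- The linear extension `R[M] → A` of a family `x : M → A`. -/
noncomputable def Phi (x : M → A) : MonoidAlgebra R M →ₗ[R] A :=
  (MonoidAlgebra.basis M R).constr R x

theorem Phi_single (x : M → A) (m : M) (r : R) :
    Phi x (MonoidAlgebra.single m r) = r • x m := by
  rw [single_eq_smul, map_smul]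
  congr 1
  have h := (MonoidAlgebra.basis M R).constr_basis R x m
  rwa [MonoidAlgebra.basis_apply] at h

theorem Phi_key (e₀ : (R ⧸ I) ⊗[R] A ≃ₐc[R ⧸ I] MonoidAlgebra (R ⧸ I) M) (x : M → A)
    (hx : ∀ m, (1 : R ⧸ I) ⊗ₜ[R] x m = e₀.symm (MonoidAlgebra.single m 1))
    (p : MonoidAlgebra R M) :
    e₀ ((1 : R ⧸ I) ⊗ₜ[R] Phi x p) = MonoidAlgebra.mapRingHom M (Ideal.Quotient.mk I) p := by
  induction p using MonoidAlgebra.induction_linear with
  | zero => simp
  | add x y hx hy => rw [map_add, TensorProduct.tmul_add, map_add, hx, hy, map_add]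
  | single m r =>
    rw [Phi_single, one_tmul_smul, map_smul, hx, BialgEquiv.apply_symm_apply, mapRingHom_single,
      MonoidAlgebra.smul_single', mul_one]

/-- Lifts of the group-like basis of `(R/I) ⊗ A` form a basis of the flat module `A`. -/
theorem Phi_bijective [Module.Flat R A] (n : ℕ) (hn : I ^ n = ⊥)
    (e₀ : (R ⧸ I) ⊗[R] A ≃ₐc[R ⧸ I] MonoidAlgebra (R ⧸ I) M) (x : M → A)
    (hx : ∀ m, (1 : R ⧸ I) ⊗ₜ[R] x m = e₀.symm (MonoidAlgebra.single m 1)) :
    Function.Bijective (Phi (R := R) x) := by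
  apply bijective_of_flat_of_nilpotent I n hn
  · intro a
    obtain ⟨p, hp⟩ := mapRingHom_surjective (M := M) (Ideal.Quotient.mk I)
      Ideal.Quotient.mk_surjective (e₀ ((1 : R ⧸ I) ⊗ₜ[R] a))
    refine ⟨p, ?_⟩
    rw [← one_tmul_eq_iff]
    have h1 := Phi_key I e₀ x hx p
    rw [hp] at h1
    exact e₀.injective h1
  · intro b hb
    rw [← one_tmul_eq_zero_iff] at hb
    have h1 : MonoidAlgebra.mapRingHom M (Ideal.Quotient.mk I) b = 0 := by
      rw [← Phi_key I e₀ x hx, hb, map_zero]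
    have h2 : ∀ m, b.coeff m ∈ I := by
      intro m
      have h3 := congrArg (fun y => y.coeff m) h1
      simp only [MonoidAlgebra.coeff_mapRingHom] at h3
      exact Ideal.Quotient.eq_zero_iff_mem.mp h3
    rw [eq_sum_single b]
    exact Submodule.sum_mem _ fun m _ => single_mem_smul_top I m (h2 m)

/-- A flat Hopf algebra which is a group algebra modulo a nilpotent ideal `I` has an invariant
integral modulo `I`. -/
theorem exists_integral [Module.Flat R A] (n : ℕ) (hn : I ^ n = ⊥)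
    (e₀ : (R ⧸ I) ⊗[R] A ≃ₐc[R ⧸ I] MonoidAlgebra (R ⧸ I) M) :
    ∃ lam : A →ₗ[R] R, lam 1 = 1 ∧ ∀ b, D lam b ∈ I • (⊤ : Submodule R A) := by
  classical
  have hx' : ∀ m : M, ∃ a : A, (1 : R ⧸ I) ⊗ₜ[R] a = e₀.symm (MonoidAlgebra.single m 1) :=
    fun m => one_tmul_surjective I _
  choose x0 hx0 using hx'
  let x : M → A := fun m => if m = 1 then 1 else x0 m
  have hx1 : x 1 = 1 := if_pos rfl
  have hx : ∀ m, (1 : R ⧸ I) ⊗ₜ[R] x m = e₀.symm (MonoidAlgebra.single m 1) := by
    intro m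
    by_cases hm : m = 1
    · rw [hm, hx1, ← MonoidAlgebra.one_def, map_one]
      rfl
    · have : x m = x0 m := if_neg hm
      rw [this, hx0]
  have hgl : ∀ m, GLmod R A I (x m) := by
    intro m
    apply glmod_of_one_tmul I
    rw [hx]
    exact (MonoidAlgebra.isGroupLikeElem_single_one (R := R ⧸ I) (A := R ⧸ I) m).map e₀.symm
  have hbij := Phi_bijective I n hn e₀ x hx
  let Φe : MonoidAlgebra R M ≃ₗ[R] A := LinearEquiv.ofBijective (Phi x) hbij
  let lam : A →ₗ[R] R := (Finsupp.lapply (1 : M)) ∘ₗ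
    (MonoidAlgebra.coeffLinearEquiv R).toLinearMap ∘ₗ Φe.symm.toLinearMap
  have hlam : ∀ p : MonoidAlgebra R M, lam (Phi x p) = p.coeff 1 := by
    intro p
    have h1 : Φe.symm (Phi x p) = p := Φe.symm_apply_apply p
    simp only [lam, LinearMap.comp_apply, LinearEquiv.coe_coe, h1]
    rfl
  have hxm : ∀ m, lam (x m) = if m = 1 then 1 else 0 := by
    intro m
    have h1 : x m = Phi (R := R) x (MonoidAlgebra.single m 1) := by
      rw [Phi_single, one_smul]
    rw [h1, hlam, MonoidAlgebra.coeff_single, Finsupp.single_apply]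
  refine ⟨lam, ?_, ?_⟩
  · rw [← hx1, hxm, if_pos rfl]
  · intro b
    obtain ⟨p, rfl⟩ := hbij.2 b
    induction p using MonoidAlgebra.induction_linear with
    | zero =>
      rw [map_zero, map_zero]
      exact Submodule.zero_mem _
    | add p q hp hq =>
      rw [map_add, map_add]
      exact Submodule.add_mem _ hp hq
    | single m r =>
      rw [Phi_single, map_smul]
      apply Submodule.smul_mem
      rw [D_apply]
      have h1 := map_mem_smul_top (F lam) I (hgl m).1
      rw [map_sub, F_tmul] at h1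
      have h2 : lam (x m) • x m = lam (x m) • (1 : A) := by
        by_cases hm : m = 1
        · rw [hm, hx1]
        · rw [hxm, if_neg hm, zero_smul, zero_smul]
      rw [← h2]
      exact h1

/-- A flat Hopf algebra which is diagonalisable modulo a nilpotent ideal is diagonalisable. -/
theorem isDiag_of_flat [Module.Flat R A] (n : ℕ) (hn : I ^ n = ⊥)
    (h0 : IsDiag (R ⧸ I) ((R ⧸ I) ⊗[R] A)) : IsDiag R A := by
  classical
  obtain ⟨M, _, ⟨e₀⟩⟩ := h0
  obtain ⟨lam, hl1, hinv⟩ := exists_integral I n hn e₀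
  have hx : ∀ m : M, ∃ g : A, IsGroupLikeElem R g ∧
      (1 : R ⧸ I) ⊗ₜ[R] g = e₀.symm (MonoidAlgebra.single m 1) := by
    intro m
    obtain ⟨x, hx⟩ := one_tmul_surjective I (e₀.symm (MonoidAlgebra.single m 1))
    have hgl : IsGroupLikeElem (R ⧸ I) ((1 : R ⧸ I) ⊗ₜ[R] x) := by
      rw [hx]
      exact (MonoidAlgebra.isGroupLikeElem_single_one (R := R ⧸ I) (A := R ⧸ I) m).map e₀.symm
    obtain ⟨g, hg, hgx⟩ := liftGL_of_integral lam I n hn hl1 hinv x (glmod_of_one_tmul I hgl)
    refine ⟨g, hg, ?_⟩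
    rw [← hx, one_tmul_eq_iff]
    exact hgx
  choose g hg hge using hx
  have hU := uniqGL_of_integral lam I n hn hl1 hinv
  have hone : g 1 = 1 := by
    apply hU _ _ (hg 1) (IsGroupLikeElem.one (R := R) (A := A))
    rw [← one_tmul_eq_iff, hge, ← MonoidAlgebra.one_def, map_one]
    rfl
  have hmul : ∀ m m', g (m * m') = g m * g m' := by
    intro m m'
    apply hU _ _ (hg _) ((hg m).mul (hg m'))
    rw [← one_tmul_eq_iff, hge]
    have h1 : (1 : R ⧸ I) ⊗ₜ[R] (g m * g m') =
        ((1 : R ⧸ I) ⊗ₜ[R] g m) * ((1 : R ⧸ I) ⊗ₜ[R] g m') := by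
      rw [Algebra.TensorProduct.tmul_mul_tmul, one_mul]
    rw [h1, hge, hge, ← map_mul, MonoidAlgebra.single_mul_single, mul_one]
  let γ : M →* GroupLike R A :=
    { toFun := fun m => ⟨g m, hg m⟩
      map_one' := GroupLike.val_injective hone
      map_mul' := fun m m' => GroupLike.val_injective (hmul m m') }
  obtain ⟨ψ, hψs⟩ : ∃ ψ : MonoidAlgebra R M →ₐc[R] A,
      ∀ (m : M) (r : R), ψ (MonoidAlgebra.single m r) = r • g m := by
    refine ⟨(MonoidAlgebra.liftGroupLikeBialgHom (R := R) (A := A)).comp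
      (MonoidAlgebra.mapDomainBialgHom R γ), fun m r => ?_⟩
    rw [BialgHom.comp_apply, MonoidAlgebra.mapDomainBialgHom_single,
      MonoidAlgebra.liftGroupLikeBialgHom_apply, MonoidAlgebra.lift_single]
    rfl
  have hψΦ : ∀ p : MonoidAlgebra R M, ψ p = Phi g p := by
    intro p
    induction p using MonoidAlgebra.induction_linear with
    | zero => rw [map_zero, map_zero]
    | add p q hp hq => rw [map_add, map_add, hp, hq]
    | single m r => rw [hψs, Phi_single]
  have hbij : Function.Bijective ψ := by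
    have h1 := Phi_bijective I n hn e₀ g hge
    have h2 : (ψ : MonoidAlgebra R M → A) = Phi g := funext hψΦ
    rw [h2]
    exact h1
  exact ⟨M, inferInstance, ⟨(BialgEquiv.ofBijective ψ hbij).symm⟩⟩

end Main

end Groth.Agent.Lib.R2H7.FlatDiag
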