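import Mathlib
import Groth.Agent.Lib.R2H7FlatDiag
import Groth.Agent.Lib.R2H7IsoNil

/-!
# R2H7FlatQIso: a flat group which is quasi-isotrivial of multiplicative type modulo a nilpotent
ideal is quasi-isotrivial of multiplicative type

The étale splitting covers modulo `I` are lifted (`S9436`), and over the lift the flat Hopf algebra
is diagonalisable by `FlatDiag.isDiag_of_flat`.

* `isDiag_of_lift_flat`, `exists_etale_cover_flat`, `isQuasiIsotrivialConst_away_flat`,
  `isQuasiIsotrivial_of_flat`.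
-/

set_option autoImplicit false
universe u

namespace Groth.Agent.Lib.R2H7.FlatQIso

open TensorProduct Coalgebra Groth.Agent.Lib.Helper25 Groth.Agent.Lib.R2H7.GLLift
  Groth.Agent.Lib.R2H7.GLGlue Groth.Agent.Lib.R2H7.DiagNil Groth.Agent.Lib.R2H7.IsoNil
  Groth.Agent.Lib.R2H7.FlatDiag SGA3b

section Lift

variable {R : Type u} [CommRing R] (I : Ideal R) {A : Type u} [CommRing A] [HopfAlgebra R A]

theorem map_pow_eq_bot (n : ℕ) (hn : I ^ n = ⊥) (S : Type u) [CommRing S] [Algebra R S] :
    (I.map (algebraMap R S)) ^ n = ⊥ := by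
  rw [← Ideal.map_pow, hn, Ideal.map_bot]

/-- If `S` lifts an `R/I`-algebra `k'` which splits the flat Hopf algebra `A` modulo the nilpotent
ideal `I`, then `S` splits `A`. -/
theorem isDiag_of_lift_flat [Module.Flat R A] (n : ℕ) (hn : I ^ n = ⊥)
    (k' : Type u) [CommRing k'] [Algebra (R ⧸ I) k']
    (hD : IsDiag k' (k' ⊗[R ⧸ I] ((R ⧸ I) ⊗[R] A)))
    (S : Type u) [CommRing S] [Algebra R S] (ε : ((R ⧸ I) ⊗[R] S) ≃ₐ[R ⧸ I] k') :
    IsDiag S (S ⊗[R] A) := by
  let lft : (R ⧸ I) ⊗[R] S →ₐ[R ⧸ I] (S ⧸ I.map (algebraMap R S)) :=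
    Algebra.TensorProduct.lift (Algebra.ofId (R ⧸ I) (S ⧸ I.map (algebraMap R S)))
      (IsScalarTower.toAlgHom R S (S ⧸ I.map (algebraMap R S))) (fun _ _ => Commute.all _ _)
  let φ : k' →ₐ[R ⧸ I] (S ⧸ I.map (algebraMap R S)) := lft.comp ε.symm.toAlgHom
  letI : Algebra k' (S ⧸ I.map (algebraMap R S)) := φ.toRingHom.toAlgebra
  haveI : IsScalarTower (R ⧸ I) k' (S ⧸ I.map (algebraMap R S)) :=
    IsScalarTower.of_algebraMap_eq (fun r => (φ.commutes r).symm)
  have h1 : IsDiag (S ⧸ I.map (algebraMap R S))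
      ((S ⧸ I.map (algebraMap R S)) ⊗[R ⧸ I] ((R ⧸ I) ⊗[R] A)) :=
    BCB.isDiag_baseChange_of_tower (R ⧸ I) ((R ⧸ I) ⊗[R] A) k' (S ⧸ I.map (algebraMap R S)) hD
  have h2 : IsDiag (S ⧸ I.map (algebraMap R S)) ((S ⧸ I.map (algebraMap R S)) ⊗[R] A) :=
    BCB.isDiag_of_equiv (BCB.cancelBC R (R ⧸ I) (S ⧸ I.map (algebraMap R S)) A).symm h1
  have h3 : IsDiag (S ⧸ I.map (algebraMap R S))
      ((S ⧸ I.map (algebraMap R S)) ⊗[S] (S ⊗[R] A)) :=
    BCB.isDiag_of_equiv (BCB.cancelBC R S (S ⧸ I.map (algebraMap R S)) A) h2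
  exact isDiag_of_flat (I.map (algebraMap R S)) n (map_pow_eq_bot I n hn S) h3


/-- Étale faithfully flat splitting covers of a flat Hopf algebra lift along nilpotent ideals. -/
theorem exists_etale_cover_flat [Module.Flat R A] (n : ℕ) (hn : I ^ n = ⊥)
    (k' : Type u) [CommRing k'] [Algebra (R ⧸ I) k'] [Algebra.Etale (R ⧸ I) k']
    [Module.FaithfullyFlat (R ⧸ I) k']
    (hD : IsDiag k' (k' ⊗[R ⧸ I] ((R ⧸ I) ⊗[R] A))) :
    ∃ (S : Type u) (_ : CommRing S) (_ : Algebra R S), Algebra.Etale R S ∧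
      Module.FaithfullyFlat R S ∧ IsDiag S (S ⊗[R] A) := by
  obtain ⟨S, _, _, hS, ⟨ε⟩⟩ := Groth.Agent.S9436.result R I k'
  haveI := hS
  haveI : Module.FaithfullyFlat (R ⧸ I) ((R ⧸ I) ⊗[R] S) :=
    Module.FaithfullyFlat.of_linearEquiv (R ⧸ I) k' ε.toLinearEquiv
  exact ⟨S, inferInstance, inferInstance, hS,
    faithfullyFlat_of_nil I S (isNilpotent_of_pow_eq_bot I n hn),
    isDiag_of_lift_flat I n hn k' hD S ε⟩

end Lift

section Quasi

variable {R : Type u} [CommRing R] (I : Ideal R) {A : Type u} [CommRing A] [HopfAlgebra R A]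

theorem isQuasiIsotrivialConst_away_flat [Module.Flat R A] (n : ℕ) (hn : I ^ n = ⊥) (f : R)
    (hq : IsQuasiIsotrivialConst (Localization.Away (Ideal.Quotient.mk I f))
      (Localization.Away (Ideal.Quotient.mk I f) ⊗[R ⧸ I] ((R ⧸ I) ⊗[R] A))) :
    IsQuasiIsotrivialConst (Localization.Away f) (Localization.Away f ⊗[R] A) := by
  obtain ⟨k'', _, _, hE, hFF, hD⟩ := hq
  haveI := isLocalization_away_quotient I f
  let σ : (Localization.Away f ⧸ I.map (algebraMap R (Localization.Away f))) ≃ₐ[R ⧸ I]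
      Localization.Away (Ideal.Quotient.mk I f) :=
    IsLocalization.algEquiv (Submonoid.powers (Ideal.Quotient.mk I f)) _ _
  letI iKL : Algebra (Localization.Away f ⧸ I.map (algebraMap R (Localization.Away f)))
      (Localization.Away (Ideal.Quotient.mk I f)) := σ.toAlgHom.toRingHom.toAlgebra
  letI iKk : Algebra (Localization.Away f ⧸ I.map (algebraMap R (Localization.Away f))) k'' :=
    ((algebraMap (Localization.Away (Ideal.Quotient.mk I f)) k'').comp
      σ.toAlgHom.toRingHom).toAlgebra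
  haveI : IsScalarTower (Localization.Away f ⧸ I.map (algebraMap R (Localization.Away f)))
      (Localization.Away (Ideal.Quotient.mk I f)) k'' :=
    IsScalarTower.of_algebraMap_eq (fun _ => rfl)
  -- étale and faithfully flat over `R_f / I R_f`
  have hbij : Function.Bijective (Algebra.ofId
      (Localization.Away f ⧸ I.map (algebraMap R (Localization.Away f)))
      (Localization.Away (Ideal.Quotient.mk I f))) := σ.bijective
  haveI : Algebra.Etale (Localization.Away f ⧸ I.map (algebraMap R (Localization.Away f)))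
      (Localization.Away (Ideal.Quotient.mk I f)) :=
    Algebra.Etale.of_equiv (AlgEquiv.ofBijective _ hbij)
  haveI : Algebra.Etale (Localization.Away f ⧸ I.map (algebraMap R (Localization.Away f))) k'' :=
    Algebra.Etale.comp _ (Localization.Away (Ideal.Quotient.mk I f)) k''
  haveI : Module.FaithfullyFlat (Localization.Away f ⧸ I.map (algebraMap R (Localization.Away f)))
      (Localization.Away (Ideal.Quotient.mk I f)) :=
    Module.FaithfullyFlat.of_linearEquiv _
      (Localization.Away f ⧸ I.map (algebraMap R (Localization.Away f)))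
      (AlgEquiv.ofBijective _ hbij).symm.toLinearEquiv
  haveI : Module.FaithfullyFlat
      (Localization.Away f ⧸ I.map (algebraMap R (Localization.Away f))) k'' :=
    Module.FaithfullyFlat.trans _ (Localization.Away (Ideal.Quotient.mk I f)) k''
  -- the other algebra structures on `k''`
  letI ikk : Algebra (R ⧸ I) k'' :=
    ((algebraMap (Localization.Away (Ideal.Quotient.mk I f)) k'').comp
      (algebraMap (R ⧸ I) (Localization.Away (Ideal.Quotient.mk I f)))).toAlgebra
  haveI : IsScalarTower (R ⧸ I) (Localization.Away (Ideal.Quotient.mk I f)) k'' :=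
    IsScalarTower.of_algebraMap_eq (fun _ => rfl)
  letI iRk : Algebra R k'' :=
    ((algebraMap (R ⧸ I) k'').comp (algebraMap R (R ⧸ I))).toAlgebra
  haveI : IsScalarTower R (R ⧸ I) k'' := IsScalarTower.of_algebraMap_eq (fun _ => rfl)
  letI iRfk : Algebra (Localization.Away f) k'' :=
    ((algebraMap (Localization.Away f ⧸ I.map (algebraMap R (Localization.Away f))) k'').comp
      (algebraMap (Localization.Away f)
        (Localization.Away f ⧸ I.map (algebraMap R (Localization.Away f))))).toAlgebra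
  haveI : IsScalarTower (Localization.Away f)
      (Localization.Away f ⧸ I.map (algebraMap R (Localization.Away f))) k'' := by
    have t := IsScalarTower.of_algebraMap_eq (R := Localization.Away f)
      (S := Localization.Away f ⧸ I.map (algebraMap R (Localization.Away f))) (A := k'')
      (fun _ => rfl)
    exact ⟨fun x y z => t.smul_assoc x y z⟩
  haveI : IsScalarTower R (Localization.Away f) k'' := by
    refine IsScalarTower.of_algebraMap_eq (fun r => ?_)
    change algebraMap (Localization.Away (Ideal.Quotient.mk I f)) k''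
        (algebraMap (R ⧸ I) (Localization.Away (Ideal.Quotient.mk I f))
          (algebraMap R (R ⧸ I) r)) =
      algebraMap (Localization.Away (Ideal.Quotient.mk I f)) k''
        (σ (algebraMap (Localization.Away f)
          (Localization.Away f ⧸ I.map (algebraMap R (Localization.Away f)))
          (algebraMap R (Localization.Away f) r)))
    congr 1
    rw [← IsScalarTower.algebraMap_apply R (Localization.Away f)
      (Localization.Away f ⧸ I.map (algebraMap R (Localization.Away f))),
      IsScalarTower.algebraMap_apply R (R ⧸ I)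
      (Localization.Away f ⧸ I.map (algebraMap R (Localization.Away f))), σ.commutes]
  -- transport diagonalisability
  have a1 : IsDiag k'' (k'' ⊗[R ⧸ I] ((R ⧸ I) ⊗[R] A)) :=
    BCB.isDiag_of_equiv (BCB.cancelBC (R ⧸ I) (Localization.Away (Ideal.Quotient.mk I f)) k''
      ((R ⧸ I) ⊗[R] A)).symm hD
  have a2 : IsDiag k'' (k'' ⊗[R] A) :=
    BCB.isDiag_of_equiv (BCB.cancelBC R (R ⧸ I) k'' A).symm a1
  have a3 : IsDiag k'' (k'' ⊗[Localization.Away f] (Localization.Away f ⊗[R] A)) :=
    BCB.isDiag_of_equiv (BCB.cancelBC R (Localization.Away f) k'' A) a2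
  obtain ⟨S, _, _, hE', hFF', hDS⟩ := exists_etale_cover_flat
    (I.map (algebraMap R (Localization.Away f))) n (map_pow_eq_bot I n hn _) k''
    (BCB.isDiag_of_equiv (BCB.cancelBC (Localization.Away f)
      (Localization.Away f ⧸ I.map (algebraMap R (Localization.Away f))) k''
      (Localization.Away f ⊗[R] A)) a3)
  exact ⟨S, inferInstance, inferInstance, hE', hFF', hDS⟩

/-- A flat Hopf algebra which is quasi-isotrivial of multiplicative type modulo a nilpotent ideal
is quasi-isotrivial of multiplicative type. -/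
theorem isQuasiIsotrivial_of_flat [Module.Flat R A] (hI : IsNilpotent I)
    (h0 : IsQuasiIsotrivial (R ⧸ I) ((R ⧸ I) ⊗[R] A)) : IsQuasiIsotrivial R A := by
  obtain ⟨n, hn⟩ := hI
  have hn' : I ^ n = ⊥ := hn
  obtain ⟨sbar, hsbar, hq⟩ := h0
  refine ⟨{f : R | Ideal.Quotient.mk I f ∈ sbar},
    span_preimage_eq_top I (isNilpotent_of_pow_eq_bot I n hn') sbar hsbar, ?_⟩
  intro f hf
  exact isQuasiIsotrivialConst_away_flat I n hn' f (hq _ hf)

end Quasi

section Iso

variable {R : Type u} [CommRing R] (I : Ideal R) {A : Type u} [CommRing A] [HopfAlgebra R A]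

/-- Version of `exists_etale_cover_flat` keeping track of finiteness. -/
theorem exists_etale_cover_flat_fin [Module.Flat R A] (n : ℕ) (hn : I ^ n = ⊥)
    (k' : Type u) [CommRing k'] [Algebra (R ⧸ I) k'] [Algebra.Etale (R ⧸ I) k']
    [Module.FaithfullyFlat (R ⧸ I) k']
    (hD : IsDiag k' (k' ⊗[R ⧸ I] ((R ⧸ I) ⊗[R] A))) :
    ∃ (S : Type u) (_ : CommRing S) (_ : Algebra R S), Algebra.Etale R S ∧
      Module.FaithfullyFlat R S ∧ IsDiag S (S ⊗[R] A) ∧
      (Module.Finite (R ⧸ I) k' → Module.Finite R S) := by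
  obtain ⟨S, _, _, hS, ⟨ε⟩⟩ := Groth.Agent.S9436.result R I k'
  haveI := hS
  haveI : Module.FaithfullyFlat (R ⧸ I) ((R ⧸ I) ⊗[R] S) :=
    Module.FaithfullyFlat.of_linearEquiv (R ⧸ I) k' ε.toLinearEquiv
  refine ⟨S, inferInstance, inferInstance, hS,
    faithfullyFlat_of_nil I S (isNilpotent_of_pow_eq_bot I n hn),
    isDiag_of_lift_flat I n hn k' hD S ε, fun hfin => ?_⟩
  haveI : Module.Finite (R ⧸ I) ((R ⧸ I) ⊗[R] S) := Module.Finite.equiv ε.symm.toLinearEquiv
  exact finite_of_nil I S (isNilpotent_of_pow_eq_bot I n hn)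

/-- A flat Hopf algebra which is isotrivial of multiplicative type modulo a nilpotent ideal is
isotrivial of multiplicative type. -/
theorem isIsotrivial_of_flat [Module.Flat R A] (hI : IsNilpotent I)
    (h0 : IsIsotrivial (R ⧸ I) ((R ⧸ I) ⊗[R] A)) : IsIsotrivial R A := by
  obtain ⟨n, hn⟩ := hI
  have hn' : I ^ n = ⊥ := hn
  obtain ⟨k', _, _, hE, hF, hFF, hD⟩ := h0
  obtain ⟨S, _, _, hE', hFF', hD', hfin⟩ := exists_etale_cover_flat_fin I n hn' k' hD
  exact ⟨S, inferInstance, inferInstance, hE', hfin hF, hFF', hD'⟩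

omit I in
/-- Isotrivial groups are of multiplicative type. -/
theorem isMultType_of_isIsotrivial (h : IsIsotrivial R A) : IsMultType R A := by
  obtain ⟨S, _, _, -, -, hFF, hD⟩ := h
  exact BCB.isMultType_of_isMultTypeConst R A ⟨S, inferInstance, inferInstance, hFF, hD⟩

end Iso

end Groth.Agent.Lib.R2H7.FlatQIso
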