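import Mathlib
import Groth.Prelude.Def_SGA3b
import Groth.Agent.Lib.Helper25GroupLikeConn

/-!
# R2H7FormalHom1: algebraization of formal homomorphisms from a diagonalizable group

`A` a noetherian ring, separated and complete for the `I`-adic topology, `C` an `A`-bialgebra, `M` a monoid.
A compatible system of "bialgebra maps modulo `I^(n+1)`" `C → (A/I^(n+1))[M]` comes from a unique bialgebra map
`C → A[M]` (SGA3 IX 7.1 in Hopf algebra form).

* `mk_eq_mk_of_pow`, `exists_lim`: limits of compatible sequences in a complete ring.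
* `Sys`: a compatible system; `Sys.lam`: the limit coefficient functionals; `Sys.lam_conv`: they are orthogonal
  idempotents for convolution; `Sys.finite_support`; `Sys.limHom : C →ₐc[A] A[M]`; `Sys.mapRingHom_limHom`.
-/

set_option autoImplicit false
universe u v w

namespace Groth.Agent.Lib.R2H7.FormalHom

open TensorProduct Coalgebra

section Lim

variable {A : Type u} [CommRing A] (I : Ideal A)

theorem mk_eq_mk_of_pow [IsHausdorff I A] {a b : A}
    (h : ∀ n : ℕ, Ideal.Quotient.mk (I ^ (n + 1)) a = Ideal.Quotient.mk (I ^ (n + 1)) b) : a = b := by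
  rw [← sub_eq_zero]
  apply IsHausdorff.haus' (I := I)
  intro n
  rw [SModEq.zero]
  have h1 : a - b ∈ I ^ (n + 1) := Ideal.Quotient.eq.mp (h n)
  have h2 : I ^ (n + 1) ≤ I ^ n := Ideal.pow_le_pow_right (Nat.le_succ n)
  rw [smul_eq_mul, Ideal.mul_top]
  exact h2 h1

theorem exists_lim [IsPrecomplete I A] (f : ∀ n : ℕ, A ⧸ I ^ (n + 1))
    (hf : ∀ n, Ideal.Quotient.factor (Ideal.pow_le_pow_right (Nat.le_succ (n + 1))) (f (n + 1)) = f n) :
    ∃ a : A, ∀ n, Ideal.Quotient.mk (I ^ (n + 1)) a = f n := by
  choose g hg using fun n => Ideal.Quotient.mk_surjective (f n)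
  have hstep : ∀ k, g k - g (k + 1) ∈ I ^ (k + 1) := by
    intro k
    rw [← Ideal.Quotient.eq, hg k, ← hf k, ← hg (k + 1), Ideal.Quotient.factor_mk]
  have hmono : ∀ k j, g k - g (k + j) ∈ I ^ (k + 1) := by
    intro k j
    induction j with
    | zero => simp
    | succ j ih =>
      have h1 : g (k + j) - g (k + j + 1) ∈ I ^ (k + 1) :=
        Ideal.pow_le_pow_right (by omega) (hstep (k + j))
      have h2 : g k - g (k + (j + 1)) = (g k - g (k + j)) + (g (k + j) - g (k + j + 1)) := by
        rw [← add_assoc]; ring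
      rw [h2]
      exact add_mem ih h1
  obtain ⟨L, hL⟩ := IsPrecomplete.prec' (I := I) (fun n => if n = 0 then 0 else g (n - 1)) (by
    intro m n hmn
    rw [SModEq.sub_mem, smul_eq_mul, Ideal.mul_top]
    rcases Nat.eq_zero_or_pos m with rfl | hm
    · rw [pow_zero, Ideal.one_eq_top]; exact Submodule.mem_top
    · obtain ⟨k, rfl⟩ : ∃ k, m = k + 1 := ⟨m - 1, by omega⟩
      obtain ⟨j, rfl⟩ : ∃ j, n = k + 1 + j := ⟨n - (k + 1), by omega⟩
      have e1 : (if k + 1 = 0 then (0 : A) else g (k + 1 - 1)) = g k := by simp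
      have e2 : (if k + 1 + j = 0 then (0 : A) else g (k + 1 + j - 1)) = g (k + j) := by
        have : k + 1 + j - 1 = k + j := by omega
        rw [if_neg (by omega), this]
      rw [e1, e2]
      exact hmono k j)
  refine ⟨L, fun n => ?_⟩
  have h1 := hL (n + 1)
  rw [SModEq.sub_mem, smul_eq_mul, Ideal.mul_top] at h1
  have e1 : (if n + 1 = 0 then (0 : A) else g (n + 1 - 1)) = g n := by simp
  rw [e1] at h1
  rw [← hg n]
  exact (Ideal.Quotient.eq.mpr h1).symm

end Lim

section Coeff

variable {A : Type u} [CommRing A] {M : Type v} {C : Type w} [CommRing C] [Algebra A C] [Monoid M]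

/-- The coefficient functional of an algebra map into a monoid algebra over an `A`-algebra. -/
noncomputable def cfL {A' : Type*} [CommRing A'] [Algebra A A']
    (f : C →ₐ[A] MonoidAlgebra A' M) (m : M) : C →ₗ[A] A' where
  toFun c := (f c).coeff m
  map_add' x y := by rw [map_add, MonoidAlgebra.coeff_add, Finsupp.add_apply]
  map_smul' r x := by
    rw [map_smul, MonoidAlgebra.coeff_smul, Finsupp.smul_apply, RingHom.id_apply]

@[simp] theorem cfL_apply {A' : Type*} [CommRing A'] [Algebra A A']
    (f : C →ₐ[A] MonoidAlgebra A' M) (m : M) (c : C) : cfL f m c = (f c).coeff m := rfl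

end Coeff

section System

variable {A : Type u} [CommRing A] (I : Ideal A) (M : Type v) [Monoid M]
  (C : Type w) [CommRing C] [Bialgebra A C]

open scoped Classical in
/-- A compatible system of bialgebra maps `C → (A/I^(n+1))[M]` (written over `A`). -/
structure Sys where
  ψ : ∀ n : ℕ, C →ₐ[A] MonoidAlgebra (A ⧸ I ^ (n + 1)) M
  compat : ∀ (n : ℕ) (c : C) (m : M),
    Ideal.Quotient.factor (Ideal.pow_le_pow_right (Nat.le_succ (n + 1))) ((ψ (n + 1) c).coeff m) =
      (ψ n c).coeff m
  counit_eq : ∀ (n : ℕ) (c : C), counit (R := A ⧸ I ^ (n + 1)) (ψ n c) =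
    Ideal.Quotient.mk (I ^ (n + 1)) (counit (R := A) c)
  comul_eq : ∀ (n : ℕ) (c : C) (m m' : M),
    LinearMap.mul' A (A ⧸ I ^ (n + 1))
      (TensorProduct.map (cfL (ψ n) m) (cfL (ψ n) m') (comul (R := A) c)) =
      if m = m' then (ψ n c).coeff m else 0

end System

namespace Sys

variable {A : Type u} [CommRing A] {I : Ideal A} {M : Type v} [Monoid M]
  {C : Type w} [CommRing C] [Bialgebra A C] (σ : Sys I M C)

section Lam

variable [IsAdicComplete I A]

theorem exists_lam (m : M) (c : C) :
    ∃ a : A, ∀ n, Ideal.Quotient.mk (I ^ (n + 1)) a = (σ.ψ n c).coeff m :=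
  exists_lim I (fun n => (σ.ψ n c).coeff m) (fun n => σ.compat n c m)

/-- The limit coefficient functionals. -/
noncomputable def lamFun (m : M) (c : C) : A := (σ.exists_lam m c).choose

theorem mk_lamFun (m : M) (c : C) (n : ℕ) :
    Ideal.Quotient.mk (I ^ (n + 1)) (σ.lamFun m c) = (σ.ψ n c).coeff m :=
  (σ.exists_lam m c).choose_spec n

theorem lamFun_unique (m : M) (c : C) (a : A)
    (h : ∀ n, Ideal.Quotient.mk (I ^ (n + 1)) a = (σ.ψ n c).coeff m) : a = σ.lamFun m c :=
  mk_eq_mk_of_pow I (fun n => by rw [h n, σ.mk_lamFun])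

/-- The limit coefficient functionals, as linear maps. -/
noncomputable def lam (m : M) : C →ₗ[A] A where
  toFun c := σ.lamFun m c
  map_add' x y := by
    symm
    apply σ.lamFun_unique
    intro n
    rw [map_add, σ.mk_lamFun, σ.mk_lamFun, map_add, MonoidAlgebra.coeff_add, Finsupp.add_apply]
  map_smul' r x := by
    symm
    apply σ.lamFun_unique
    intro n
    rw [RingHom.id_apply, smul_eq_mul, map_mul, σ.mk_lamFun, map_smul, MonoidAlgebra.coeff_smul,
      Finsupp.smul_apply, Algebra.smul_def]
    rfl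

theorem mk_lam (m : M) (c : C) (n : ℕ) :
    Ideal.Quotient.mk (I ^ (n + 1)) (σ.lam m c) = (σ.ψ n c).coeff m := σ.mk_lamFun m c n

theorem mk_comp_lam (m : M) (n : ℕ) :
    (Algebra.linearMap A (A ⧸ I ^ (n + 1))) ∘ₗ σ.lam m = cfL (σ.ψ n) m := by
  ext c
  exact σ.mk_lam m c n

open scoped Classical in
/-- The limit functionals are orthogonal idempotents for the convolution product. -/
theorem lam_conv (m m' : M) (c : C) :
    LinearMap.mul' A A (TensorProduct.map (σ.lam m) (σ.lam m') (comul (R := A) c)) =
      if m = m' then σ.lam m c else 0 := by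
  apply mk_eq_mk_of_pow I
  intro n
  have key : ∀ t : C ⊗[A] C, Ideal.Quotient.mk (I ^ (n + 1))
      (LinearMap.mul' A A (TensorProduct.map (σ.lam m) (σ.lam m') t)) =
      LinearMap.mul' A (A ⧸ I ^ (n + 1))
        (TensorProduct.map (cfL (σ.ψ n) m) (cfL (σ.ψ n) m') t) := by
    intro t
    induction t using TensorProduct.induction_on with
    | zero => simp
    | tmul a b =>
      rw [TensorProduct.map_tmul, TensorProduct.map_tmul, LinearMap.mul'_apply,
        LinearMap.mul'_apply, map_mul, σ.mk_lam, σ.mk_lam]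
      rfl
    | add x y hx hy => rw [map_add, map_add, map_add, hx, hy, map_add, map_add]
  rw [key, σ.comul_eq]
  split_ifs
  · rw [σ.mk_lam]
  · rw [map_zero]

end Lam

section Finite

variable [IsAdicComplete I A]

/-- The isotypic projector `c ↦ ∑ λ_m(c₂) c₁`. -/
noncomputable def Q (m : M) : C →ₗ[A] C :=
  (TensorProduct.rid A C).toLinearMap ∘ₗ (LinearMap.lTensor C (σ.lam m)) ∘ₗ (comul (R := A))

theorem Q_apply (m : M) (c : C) :
    σ.Q m c = (TensorProduct.rid A C) (LinearMap.lTensor C (σ.lam m) (comul (R := A) c)) := rfl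

open scoped Classical in
theorem lam_Q (m' m : M) (c : C) :
    σ.lam m' (σ.Q m c) = if m' = m then σ.lam m' c else 0 := by
  rw [← σ.lam_conv, σ.Q_apply]
  have key : ∀ t : C ⊗[A] C,
      σ.lam m' ((TensorProduct.rid A C) (LinearMap.lTensor C (σ.lam m) t)) =
        LinearMap.mul' A A (TensorProduct.map (σ.lam m') (σ.lam m) t) := by
    intro t
    induction t using TensorProduct.induction_on with
    | zero => simp
    | tmul a b =>
      rw [LinearMap.lTensor_tmul, TensorProduct.rid_tmul, map_smul, TensorProduct.map_tmul,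
        LinearMap.mul'_apply, smul_eq_mul, mul_comm]
    | add x y hx hy => simp only [map_add, hx, hy]
  exact key _

omit [IsAdicComplete I A] in
theorem exists_finset_rid (t : C ⊗[A] C) :
    ∃ s : Finset C, ∀ f : C →ₗ[A] A,
      (TensorProduct.rid A C) (LinearMap.lTensor C f t) ∈ Submodule.span A (s : Set C) := by
  classical
  induction t using TensorProduct.induction_on with
  | zero => exact ⟨∅, fun f => by simp⟩
  | tmul a b =>
    refine ⟨{a}, fun f => ?_⟩
    rw [LinearMap.lTensor_tmul, TensorProduct.rid_tmul]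
    exact Submodule.smul_mem _ _ (Submodule.subset_span (by simp))
  | add x y hx hy =>
    obtain ⟨s, hs⟩ := hx
    obtain ⟨s', hs'⟩ := hy
    refine ⟨s ∪ s', fun f => ?_⟩
    rw [map_add, map_add]
    exact add_mem (Submodule.span_mono (by simp) (hs f)) (Submodule.span_mono (by simp) (hs' f))

theorem finite_support [IsNoetherianRing A] (c : C) :
    (Function.support (fun m : M => σ.lam m c)).Finite := by
  classical
  obtain ⟨s, hs⟩ := exists_finset_rid (A := A) (comul (R := A) c)
  set N : Submodule A C := Submodule.span A (s : Set C) with hN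
  set W : Submodule A C := Submodule.span A (Set.range (fun m => σ.Q m c)) with hW
  have hWN : W ≤ N := Submodule.span_le.mpr (by
    rintro _ ⟨m, rfl⟩
    exact hs (σ.lam m))
  have hNfg : N.FG := Submodule.fg_span s.finite_toSet
  haveI : IsNoetherian A N := isNoetherian_of_fg_of_noetherian N hNfg
  have hWfg : W.FG := (isNoetherian_submodule.mp inferInstance) W hWN
  obtain ⟨s', hs'sub, hs'⟩ := (Submodule.fg_span_iff_fg_span_finset_subset _).mp hWfg
  have hpre : ∀ y ∈ s', ∃ m, σ.Q m c = y := fun y hy => hs'sub hy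
  choose! pre hpre using hpre
  refine (s'.image pre).finite_toSet.subset ?_
  intro m hm
  by_contra hmem
  apply hm
  have hker : W ≤ LinearMap.ker (σ.lam m) := by
    rw [hW, hs']
    apply Submodule.span_le.mpr
    intro y hy
    rw [SetLike.mem_coe, LinearMap.mem_ker, ← hpre y hy, σ.lam_Q, if_neg]
    rintro rfl
    exact hmem (Finset.mem_coe.mpr (Finset.mem_image_of_mem pre hy))
  have h1 : σ.Q m c ∈ W := Submodule.subset_span ⟨m, rfl⟩
  have h2 := hker h1
  rw [LinearMap.mem_ker, σ.lam_Q, if_pos rfl] at h2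
  exact h2

end Finite

section LimHom

variable [IsNoetherianRing A] [IsAdicComplete I A]

/-- The limit map, as a function. -/
noncomputable def limFun (c : C) : MonoidAlgebra A M :=
  MonoidAlgebra.ofCoeff (Finsupp.ofSupportFinite (fun m => σ.lam m c) (σ.finite_support c))

theorem coeff_limFun (c : C) (m : M) : (σ.limFun c).coeff m = σ.lam m c := rfl

theorem red_limFun (n : ℕ) (c : C) :
    MonoidAlgebra.mapRingHom M (Ideal.Quotient.mk (I ^ (n + 1))) (σ.limFun c) = σ.ψ n c := by
  apply MonoidAlgebra.ext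
  apply Finsupp.ext
  intro m
  rw [MonoidAlgebra.coeff_mapRingHom, σ.coeff_limFun, σ.mk_lam]

omit [IsNoetherianRing A] in
theorem eq_of_red_eq {x y : MonoidAlgebra A M}
    (h : ∀ n : ℕ, MonoidAlgebra.mapRingHom M (Ideal.Quotient.mk (I ^ (n + 1))) x =
      MonoidAlgebra.mapRingHom M (Ideal.Quotient.mk (I ^ (n + 1))) y) : x = y := by
  apply MonoidAlgebra.ext
  apply Finsupp.ext
  intro m
  apply mk_eq_mk_of_pow I
  intro n
  rw [← MonoidAlgebra.coeff_mapRingHom, ← MonoidAlgebra.coeff_mapRingHom, h n]

omit [IsNoetherianRing A] [IsAdicComplete I A] in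
theorem red_algebraMap (n : ℕ) (r : A) :
    MonoidAlgebra.mapRingHom M (Ideal.Quotient.mk (I ^ (n + 1)))
      (algebraMap A (MonoidAlgebra A M) r) =
      algebraMap A (MonoidAlgebra (A ⧸ I ^ (n + 1)) M) r := by
  rw [MonoidAlgebra.coe_algebraMap, MonoidAlgebra.coe_algebraMap, Function.comp_apply,
    Function.comp_apply, MonoidAlgebra.mapRingHom_single]
  rfl

/-- The limit map, as an algebra map. -/
noncomputable def limAlgHom : C →ₐ[A] MonoidAlgebra A M where
  toFun := σ.limFun
  map_one' := eq_of_red_eq (I := I) (fun n => by rw [σ.red_limFun, map_one, map_one])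
  map_mul' x y := eq_of_red_eq (I := I) (fun n => by
    rw [map_mul, σ.red_limFun, σ.red_limFun, σ.red_limFun, map_mul])
  map_zero' := eq_of_red_eq (I := I) (fun n => by rw [σ.red_limFun, map_zero, map_zero])
  map_add' x y := eq_of_red_eq (I := I) (fun n => by
    rw [map_add, σ.red_limFun, σ.red_limFun, σ.red_limFun, map_add])
  commutes' r := eq_of_red_eq (I := I) (fun n => by
    rw [σ.red_limFun, AlgHom.commutes, red_algebraMap])

theorem limAlgHom_apply (c : C) : σ.limAlgHom c = σ.limFun c := rfl

theorem coeff_limAlgHom (c : C) (m : M) : (σ.limAlgHom c).coeff m = σ.lam m c := rfl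

end LimHom

end Sys

section PairExt

variable {A : Type u} [CommRing A] {M : Type v}

open Groth.Agent.Lib.Helper25

/-- `A[M] ⊗ A[M] ≃ (M × M →₀ A)`. -/
noncomputable def pairEquiv (A : Type u) [CommRing A] (M : Type v) :
    MonoidAlgebra A M ⊗[A] MonoidAlgebra A M ≃ₗ[A] (M × M →₀ A) :=
  (TensorProduct.congr (MonoidAlgebra.coeffLinearEquiv A) (MonoidAlgebra.coeffLinearEquiv A)) ≪≫ₗ
    finsuppTensorFinsupp' A M M

theorem pairEquiv_apply (z : MonoidAlgebra A M ⊗[A] MonoidAlgebra A M) (m m' : M) :
    pairEquiv A M z (m, m') = coeffPair A m m' z := by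
  induction z using TensorProduct.induction_on with
  | zero => simp
  | tmul x y =>
    rw [pairEquiv, LinearEquiv.trans_apply, TensorProduct.congr_tmul,
      finsuppTensorFinsupp'_apply_apply]
    rfl
  | add x y hx hy => rw [map_add, Finsupp.add_apply, hx, hy, map_add]

theorem tensor_ext_coeffPair {z z' : MonoidAlgebra A M ⊗[A] MonoidAlgebra A M}
    (h : ∀ m m' : M, coeffPair A m m' z = coeffPair A m m' z') : z = z' := by
  apply (pairEquiv A M).injective
  apply Finsupp.ext
  rintro ⟨m, m'⟩
  rw [pairEquiv_apply, pairEquiv_apply, h]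

end PairExt

namespace Sys

variable {A : Type u} [CommRing A] {I : Ideal A} {M : Type v} [Monoid M]
  {C : Type w} [CommRing C] [Bialgebra A C] (σ : Sys I M C)

section Bialg

variable [IsNoetherianRing A] [IsAdicComplete I A]

open Groth.Agent.Lib.Helper25

omit [IsNoetherianRing A] [IsAdicComplete I A] in
theorem counit_red (n : ℕ) (x : MonoidAlgebra A M) :
    counit (R := A ⧸ I ^ (n + 1))
      (MonoidAlgebra.mapRingHom M (Ideal.Quotient.mk (I ^ (n + 1))) x) =
      Ideal.Quotient.mk (I ^ (n + 1)) (counit (R := A) x) := by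
  induction x using MonoidAlgebra.induction_linear with
  | zero => simp
  | add x y hx hy => rw [map_add, map_add, hx, hy, map_add, map_add]
  | single m r =>
    rw [MonoidAlgebra.mapRingHom_single, MonoidAlgebra.counit_single, MonoidAlgebra.counit_single,
      CommSemiring.counit_apply, CommSemiring.counit_apply]

theorem counit_limAlgHom (c : C) :
    counit (R := A) (σ.limAlgHom c) = counit (R := A) c := by
  apply mk_eq_mk_of_pow I
  intro n
  rw [← counit_red, σ.limAlgHom_apply, σ.red_limFun, σ.counit_eq]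

theorem coeffPair_map_limAlgHom (m m' : M) (t : C ⊗[A] C) :
    coeffPair A m m' (Algebra.TensorProduct.map σ.limAlgHom σ.limAlgHom t) =
      LinearMap.mul' A A (TensorProduct.map (σ.lam m) (σ.lam m') t) := by
  induction t using TensorProduct.induction_on with
  | zero => simp
  | tmul a b =>
    rw [Algebra.TensorProduct.map_tmul, TensorProduct.map_tmul, LinearMap.mul'_apply]
    rfl
  | add x y hx hy => simp only [map_add, hx, hy]

theorem comul_limAlgHom (c : C) :
    Algebra.TensorProduct.map σ.limAlgHom σ.limAlgHom (comul (R := A) c) =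
      comul (R := A) (σ.limAlgHom c) := by
  classical
  apply tensor_ext_coeffPair
  intro m m'
  rw [σ.coeffPair_map_limAlgHom, σ.lam_conv, coeffPair_comul, σ.coeff_limAlgHom]

/-- The limit bialgebra map. -/
noncomputable def limHom : C →ₐc[A] MonoidAlgebra A M :=
  BialgHom.ofAlgHom σ.limAlgHom
    (by
      apply AlgHom.ext
      intro c
      exact σ.counit_limAlgHom c)
    (by
      apply AlgHom.ext
      intro c
      exact σ.comul_limAlgHom c)

theorem limHom_apply (c : C) : σ.limHom c = σ.limAlgHom c := rfl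

theorem coeff_limHom (c : C) (m : M) : (σ.limHom c).coeff m = σ.lam m c := rfl

theorem mk_coeff_limHom (n : ℕ) (c : C) (m : M) :
    Ideal.Quotient.mk (I ^ (n + 1)) ((σ.limHom c).coeff m) = (σ.ψ n c).coeff m :=
  σ.mk_lam m c n

theorem red_limHom (n : ℕ) (c : C) :
    MonoidAlgebra.mapRingHom M (Ideal.Quotient.mk (I ^ (n + 1))) (σ.limHom c) = σ.ψ n c :=
  σ.red_limFun n c

end Bialg

end Sys

end Groth.Agent.Lib.R2H7.FormalHom
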