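import Mathlib
import Groth.Prelude.Def_SGA3b
import Groth.Agent.Lib.R2H7FormalHom1
import Groth.Agent.Lib.Helper25MultRigidB

/-!
# R2H7FormalHom2: algebraization of a compatible system of level bialgebra maps

`exists_limHom_of_levels`: `A` noetherian and `I`-adically complete, `C` an `A`-bialgebra, `M` a monoid; bialgebra
maps `φ n : (A/I^(n+1)) ⊗ C → (A/I^(n+1))[M]` compatible with the reductions come from one bialgebra map
`C → A[M]`.
-/

set_option autoImplicit false
universe u v w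

namespace Groth.Agent.Lib.R2H7.FormalHom

open TensorProduct Coalgebra Groth.Agent.Lib.Helper25 Groth.Agent.Lib.Helper25.MRB

section Levels

variable {A : Type u} [CommRing A] {I : Ideal A} {M : Type v} [Monoid M]
  {C : Type w} [CommRing C] [Bialgebra A C]

/-- The `A`-algebra map `C → A'[M]` of a bialgebra map `A' ⊗ C → A'[M]`. -/
noncomputable def levelHom {A' : Type u} [CommRing A'] [Algebra A A']
    (φ : (A' ⊗[A] C) →ₐc[A'] MonoidAlgebra A' M) : C →ₐ[A] MonoidAlgebra A' M :=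
  ((φ : (A' ⊗[A] C) →ₐ[A'] MonoidAlgebra A' M).restrictScalars A).comp
    Algebra.TensorProduct.includeRight

theorem levelHom_apply {A' : Type u} [CommRing A'] [Algebra A A']
    (φ : (A' ⊗[A] C) →ₐc[A'] MonoidAlgebra A' M) (c : C) :
    levelHom φ c = φ ((1 : A') ⊗ₜ[A] c) := rfl

theorem counit_levelHom {A' : Type u} [CommRing A'] [Algebra A A']
    (φ : (A' ⊗[A] C) →ₐc[A'] MonoidAlgebra A' M) (c : C) :
    counit (R := A') (levelHom φ c) = algebraMap A A' (counit (R := A) c) := by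
  rw [levelHom_apply, CoalgHomClass.counit_comp_apply, TensorProduct.counit_tmul,
    CommSemiring.counit_apply, Algebra.smul_def, mul_one]

open scoped Classical in
theorem comul_levelHom {A' : Type u} [CommRing A'] [Algebra A A']
    (φ : (A' ⊗[A] C) →ₐc[A'] MonoidAlgebra A' M) (c : C) (m m' : M) :
    LinearMap.mul' A A' (TensorProduct.map (cfL (levelHom φ) m) (cfL (levelHom φ) m')
      (comul (R := A) c)) = if m = m' then (levelHom φ c).coeff m else 0 := by
  have key : ∀ t : C ⊗[A] C,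
      LinearMap.mul' A A' (TensorProduct.map (cfL (levelHom φ) m) (cfL (levelHom φ) m') t) =
        coeffPair A' m m' (TensorProduct.map (φ : (A' ⊗[A] C) →ₗ[A'] MonoidAlgebra A' M)
          (φ : (A' ⊗[A] C) →ₗ[A'] MonoidAlgebra A' M) (bcMap2 A' C t)) := by
    intro t
    induction t using TensorProduct.induction_on with
    | zero => simp
    | tmul a b =>
      rw [bcMap2_tmul, TensorProduct.map_tmul, TensorProduct.map_tmul, LinearMap.mul'_apply]
      rfl
    | add x y hx hy => simp only [map_add, hx, hy]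
  rw [key, ← comul_one_tmul]
  have h2 := CoalgHomClass.map_comp_comul_apply φ ((1 : A') ⊗ₜ[A] c)
  rw [h2, coeffPair_comul]
  rfl

variable (I M C) in
/-- The compatible system of a family of level bialgebra maps. -/
noncomputable def Sys.ofLevels
    (φ : ∀ n : ℕ, ((A ⧸ I ^ (n + 1)) ⊗[A] C) →ₐc[A ⧸ I ^ (n + 1)]
      MonoidAlgebra (A ⧸ I ^ (n + 1)) M)
    (hφ : ∀ (n : ℕ) (c : C) (m : M),
      Ideal.Quotient.factor (Ideal.pow_le_pow_right (Nat.le_succ (n + 1)))
        ((φ (n + 1) ((1 : A ⧸ I ^ (n + 1 + 1)) ⊗ₜ[A] c)).coeff m) =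
        (φ n ((1 : A ⧸ I ^ (n + 1)) ⊗ₜ[A] c)).coeff m) : Sys I M C where
  ψ n := levelHom (φ n)
  compat n c m := hφ n c m
  counit_eq n c := counit_levelHom (φ n) c
  comul_eq n c m m' := comul_levelHom (φ n) c m m'

theorem exists_limHom_of_levels [IsNoetherianRing A] [IsAdicComplete I A]
    (φ : ∀ n : ℕ, ((A ⧸ I ^ (n + 1)) ⊗[A] C) →ₐc[A ⧸ I ^ (n + 1)]
      MonoidAlgebra (A ⧸ I ^ (n + 1)) M)
    (hφ : ∀ (n : ℕ) (c : C) (m : M),
      Ideal.Quotient.factor (Ideal.pow_le_pow_right (Nat.le_succ (n + 1)))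
        ((φ (n + 1) ((1 : A ⧸ I ^ (n + 1 + 1)) ⊗ₜ[A] c)).coeff m) =
        (φ n ((1 : A ⧸ I ^ (n + 1)) ⊗ₜ[A] c)).coeff m) :
    ∃ Φ : C →ₐc[A] MonoidAlgebra A M, ∀ (n : ℕ) (c : C),
      MonoidAlgebra.mapRingHom M (Ideal.Quotient.mk (I ^ (n + 1))) (Φ c) =
        φ n ((1 : A ⧸ I ^ (n + 1)) ⊗ₜ[A] c) :=
  ⟨(Sys.ofLevels I M C φ hφ).limHom, fun n c => (Sys.ofLevels I M C φ hφ).red_limHom n c⟩

end Levels

end Groth.Agent.Lib.R2H7.FormalHom
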