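import Mathlib
import Groth.Prelude.Def_SGA3b
import Groth.Agent.Lib.R2H7FlatQIso
import Groth.Agent.Lib.R2H7FormalHom2

/-!
# R2H7FormalHom3: lifting a diagonalization modulo `I` to the infinitesimal levels

`C` a Hopf algebra over `A`, `e₀ : (A/I) ⊗ C ≃ (A/I)[M]` a diagonalization modulo `I`, `x m ∈ C` lifts of
the characters.  For an `A`-algebra `R` in which `I` becomes nil and over which `R ⊗ C` is diagonalizable:

* `exists_theta`: a bialgebra map `θ : R[M] → R ⊗ C` with `θ (single m 1) ≡ 1 ⊗ x m` modulo `I`.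
* `theta_bijective`: it is bijective (when `A → R` is surjective).
* `hmap_theta`: compatibility of these maps with change of `R`.
* `isDiag_level`: `R ⊗ C` is diagonalizable as soon as it is flat over `R` and `I R` is nilpotent.
-/

set_option autoImplicit false
universe u

namespace Groth.Agent.Lib.R2H7.FormalHom

open TensorProduct Coalgebra SGA3b Groth.Agent.Lib.Helper25 Groth.Agent.Lib.R2H7.GLLift
  Groth.Agent.Lib.R2H7.DiagNil Groth.Agent.Lib.R2H7.FlatDiag

section ModI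

variable {A : Type u} [CommRing A] (I : Ideal A) {C : Type u} [CommRing C] [HopfAlgebra A C]
  {M : Type u} [CommGroup M]
  (e₀ : (A ⧸ I) ⊗[A] C ≃ₐc[A ⧸ I] MonoidAlgebra (A ⧸ I) M) (x : M → C)
  (hx : ∀ m, (1 : A ⧸ I) ⊗ₜ[A] x m = e₀.symm (MonoidAlgebra.single m 1))

include hx

theorem glmod_x (m : M) : GLmod A C I (x m) := by
  apply glmod_of_one_tmul I
  rw [hx]
  exact (MonoidAlgebra.isGroupLikeElem_single_one (R := A ⧸ I) (A := A ⧸ I) m).map e₀.symm

theorem x_one : x 1 - 1 ∈ I • (⊤ : Submodule A C) := by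
  rw [← one_tmul_eq_iff, hx, ← MonoidAlgebra.one_def, map_one]
  rfl

theorem x_mul (m m' : M) : x (m * m') - x m * x m' ∈ I • (⊤ : Submodule A C) := by
  rw [← one_tmul_eq_iff, hx]
  have h1 : (1 : A ⧸ I) ⊗ₜ[A] (x m * x m') =
      ((1 : A ⧸ I) ⊗ₜ[A] x m) * ((1 : A ⧸ I) ⊗ₜ[A] x m') := by
    rw [Algebra.TensorProduct.tmul_mul_tmul, one_mul]
  rw [h1, hx, hx, ← map_mul, MonoidAlgebra.single_mul_single, mul_one]

theorem exists_Phi_sub_mem (c : C) :
    ∃ p : MonoidAlgebra A M, Phi x p - c ∈ I • (⊤ : Submodule A C) := by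
  obtain ⟨p, hp⟩ := mapRingHom_surjective (M := M) (Ideal.Quotient.mk I)
    Ideal.Quotient.mk_surjective (e₀ ((1 : A ⧸ I) ⊗ₜ[A] c))
  refine ⟨p, ?_⟩
  rw [← one_tmul_eq_iff]
  have h1 := Phi_key I e₀ x hx p
  rw [hp] at h1
  exact e₀.injective h1

theorem coeff_mem_of_Phi_mem (p : MonoidAlgebra A M)
    (hp : Phi x p ∈ I • (⊤ : Submodule A C)) (m : M) : p.coeff m ∈ I := by
  rw [← one_tmul_eq_zero_iff] at hp
  have h1 : MonoidAlgebra.mapRingHom M (Ideal.Quotient.mk I) p = 0 := by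
    rw [← Phi_key I e₀ x hx, hp, map_zero]
  have h3 := congrArg (fun y => y.coeff m) h1
  simp only [MonoidAlgebra.coeff_mapRingHom] at h3
  exact Ideal.Quotient.eq_zero_iff_mem.mp h3

end ModI

section Level

variable {A : Type u} [CommRing A] (I : Ideal A) {C : Type u} [CommRing C] [HopfAlgebra A C]
  {M : Type u} [CommGroup M]
  (e₀ : (A ⧸ I) ⊗[A] C ≃ₐc[A ⧸ I] MonoidAlgebra (A ⧸ I) M) (x : M → C)
  (hx : ∀ m, (1 : A ⧸ I) ⊗ₜ[A] x m = e₀.symm (MonoidAlgebra.single m 1))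
  (R : Type u) [CommRing R] [Algebra A R]

include hx in
theorem exists_theta
    (hL : LiftGL R (R ⊗[A] C) (I.map (algebraMap A R)))
    (hU : UniqGL R (R ⊗[A] C) (I.map (algebraMap A R))) :
    ∃ θ : MonoidAlgebra R M →ₐc[R] R ⊗[A] C, ∀ m,
      θ (MonoidAlgebra.single m 1) - (1 : R) ⊗ₜ[A] x m ∈
        (I.map (algebraMap A R)) • (⊤ : Submodule R (R ⊗[A] C)) := by
  classical
  set K : Ideal R := I.map (algebraMap A R) with hK
  have hex : ∀ m : M, ∃ g : R ⊗[A] C, IsGroupLikeElem R g ∧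
      g - (1 : R) ⊗ₜ[A] x m ∈ K • (⊤ : Submodule R (R ⊗[A] C)) := fun m =>
    hL ((1 : R) ⊗ₜ[A] x m) (GLmod.one_tmul R I (glmod_x I e₀ x hx m))
  choose g hg hgx using hex
  have hone : g 1 = 1 := by
    apply hU _ _ (hg 1) (IsGroupLikeElem.one (R := R) (A := R ⊗[A] C))
    have h1 : g 1 - 1 = (g 1 - (1 : R) ⊗ₜ[A] x 1) + (1 : R) ⊗ₜ[A] (x 1 - 1) := by
      rw [TensorProduct.tmul_sub, Algebra.TensorProduct.one_def]; abel
    rw [h1]
    exact add_mem (hgx 1) (tmul_mem_map_smul_top R I 1 (x_one I e₀ x hx))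
  have hmul : ∀ m m', g (m * m') = g m * g m' := by
    intro m m'
    apply hU _ _ (hg _) ((hg m).mul (hg m'))
    have h1 : g (m * m') - g m * g m' =
        (g (m * m') - (1 : R) ⊗ₜ[A] x (m * m')) + (1 : R) ⊗ₜ[A] (x (m * m') - x m * x m') +
          (((1 : R) ⊗ₜ[A] x m') * ((1 : R) ⊗ₜ[A] x m - g m) +
            g m * ((1 : R) ⊗ₜ[A] x m' - g m')) := by
      have h2 : (1 : R) ⊗ₜ[A] (x m * x m') = ((1 : R) ⊗ₜ[A] x m) * ((1 : R) ⊗ₜ[A] x m') := by
        rw [Algebra.TensorProduct.tmul_mul_tmul, one_mul]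
      rw [TensorProduct.tmul_sub, h2]; ring
    rw [h1]
    refine add_mem (add_mem (hgx _) (tmul_mem_map_smul_top R I 1 (x_mul I e₀ x hx m m'))) ?_
    refine add_mem (mul_mem_smul_top K _ ?_) (mul_mem_smul_top K _ ?_)
    · rw [← neg_sub]; exact neg_mem (hgx m)
    · rw [← neg_sub]; exact neg_mem (hgx m')
  let γ : M →* GroupLike R (R ⊗[A] C) :=
    { toFun := fun m => ⟨g m, hg m⟩
      map_one' := GroupLike.val_injective hone
      map_mul' := fun m m' => GroupLike.val_injective (hmul m m') }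
  obtain ⟨ψ, hψs⟩ : ∃ ψ : MonoidAlgebra R M →ₐc[R] R ⊗[A] C,
      ∀ (m : M) (r : R), ψ (MonoidAlgebra.single m r) = r • g m := by
    refine ⟨(MonoidAlgebra.liftGroupLikeBialgHom (R := R) (A := R ⊗[A] C)).comp
      (MonoidAlgebra.mapDomainBialgHom R γ), fun m r => ?_⟩
    rw [BialgHom.comp_apply, MonoidAlgebra.mapDomainBialgHom_single,
      MonoidAlgebra.liftGroupLikeBialgHom_apply, MonoidAlgebra.lift_single]
    rfl
  refine ⟨ψ, fun m => ?_⟩
  rw [hψs, one_smul]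
  exact hgx m

variable {R}

/-- `θ` is congruent to `1 ⊗ Phi x` modulo `I`. -/
theorem theta_sub_Phi_mem (θ : MonoidAlgebra R M →ₐc[R] R ⊗[A] C)
    (hθ : ∀ m, θ (MonoidAlgebra.single m 1) - (1 : R) ⊗ₜ[A] x m ∈
      (I.map (algebraMap A R)) • (⊤ : Submodule R (R ⊗[A] C))) (p : MonoidAlgebra A M) :
    θ (MonoidAlgebra.mapRingHom M (algebraMap A R) p) - (1 : R) ⊗ₜ[A] Phi x p ∈
      (I.map (algebraMap A R)) • (⊤ : Submodule R (R ⊗[A] C)) := by
  induction p using MonoidAlgebra.induction_linear with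
  | zero => simp
  | add p q hp hq =>
    have h1 : θ (MonoidAlgebra.mapRingHom M (algebraMap A R) (p + q)) -
        (1 : R) ⊗ₜ[A] Phi x (p + q) =
        (θ (MonoidAlgebra.mapRingHom M (algebraMap A R) p) - (1 : R) ⊗ₜ[A] Phi x p) +
        (θ (MonoidAlgebra.mapRingHom M (algebraMap A R) q) - (1 : R) ⊗ₜ[A] Phi x q) := by
      rw [map_add, map_add, map_add, TensorProduct.tmul_add]; abel
    rw [h1]
    exact add_mem hp hq
  | single m r =>
    have h1 : θ (MonoidAlgebra.mapRingHom M (algebraMap A R) (MonoidAlgebra.single m r)) -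
        (1 : R) ⊗ₜ[A] Phi x (MonoidAlgebra.single m r) =
        algebraMap A R r • (θ (MonoidAlgebra.single m 1) - (1 : R) ⊗ₜ[A] x m) := by
      rw [MonoidAlgebra.mapRingHom_single, single_eq_smul m (algebraMap A R r), map_smul,
        Phi_single, TensorProduct.tmul_smul, smul_sub, algebraMap_smul, algebraMap_smul]
    rw [h1]
    exact Submodule.smul_mem _ _ (hθ m)

include hx in
theorem surjMod_theta (θ : MonoidAlgebra R M →ₐc[R] R ⊗[A] C)
    (hθ : ∀ m, θ (MonoidAlgebra.single m 1) - (1 : R) ⊗ₜ[A] x m ∈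
      (I.map (algebraMap A R)) • (⊤ : Submodule R (R ⊗[A] C))) :
    SurjMod (I.map (algebraMap A R)) θ := by
  intro d
  induction d using TensorProduct.induction_on with
  | zero => exact ⟨0, by simp⟩
  | tmul a c =>
    obtain ⟨p₀, hp₀⟩ := exists_Phi_sub_mem I e₀ x hx c
    refine ⟨a • MonoidAlgebra.mapRingHom M (algebraMap A R) p₀, ?_⟩
    have h1 : θ (a • MonoidAlgebra.mapRingHom M (algebraMap A R) p₀) - a ⊗ₜ[A] c =
        a • ((θ (MonoidAlgebra.mapRingHom M (algebraMap A R) p₀) - (1 : R) ⊗ₜ[A] Phi x p₀) +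
          (1 : R) ⊗ₜ[A] (Phi x p₀ - c)) := by
      rw [map_smul, TensorProduct.tmul_sub, smul_add, smul_sub, smul_sub,
        TensorProduct.smul_tmul', TensorProduct.smul_tmul', smul_eq_mul, mul_one]
      abel
    rw [h1]
    exact Submodule.smul_mem _ _
      (add_mem (theta_sub_Phi_mem I x θ hθ p₀) (tmul_mem_map_smul_top R I 1 hp₀))
  | add d d' hd hd' =>
    obtain ⟨p, hp⟩ := hd
    obtain ⟨p', hp'⟩ := hd'
    refine ⟨p + p', ?_⟩
    have h1 : θ (p + p') - (d + d') = (θ p - d) + (θ p' - d') := by rw [map_add]; abel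
    rw [h1]
    exact add_mem hp hp'

theorem mem_of_one_tmul_mem' (q : R →ₐ[A] A ⧸ I) (c : C)
    (h : (1 : R) ⊗ₜ[A] c ∈ (I.map (algebraMap A R)) • (⊤ : Submodule R (R ⊗[A] C))) :
    (1 : A ⧸ I) ⊗ₜ[A] c = 0 := by
  have hsmul : ∀ (J : Ideal R) (z : R ⊗[A] C), z ∈ J • (⊤ : Submodule R (R ⊗[A] C)) →
      (∀ r ∈ J, q r = 0) → Algebra.TensorProduct.map q (AlgHom.id A C) z = 0 := by
    intro J z hz hJ
    refine Submodule.smul_induction_on hz ?_ ?_
    · intro r hr n _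
      rw [Algebra.smul_def, map_mul, Algebra.TensorProduct.algebraMap_apply,
        Algebra.TensorProduct.map_tmul, Algebra.algebraMap_self_apply, hJ r hr,
        TensorProduct.zero_tmul, zero_mul]
    · intro y z hy hz
      rw [map_add, hy, hz, add_zero]
  have h1 := hsmul _ _ h (by
    intro r hr
    have h2 : (I.map (algebraMap A R)) ≤ RingHom.ker (q : R →+* A ⧸ I) := by
      rw [Ideal.map_le_iff_le_comap]
      intro a ha
      rw [Ideal.mem_comap, RingHom.mem_ker]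
      change q (algebraMap A R a) = 0
      rw [q.commutes, Ideal.Quotient.algebraMap_eq]
      exact Ideal.Quotient.eq_zero_iff_mem.mpr ha
    exact RingHom.mem_ker.mp (h2 hr))
  rw [Algebra.TensorProduct.map_tmul, map_one] at h1
  exact h1

include hx in
theorem injMod_theta (hsurj : Function.Surjective (algebraMap A R)) (q : R →ₐ[A] A ⧸ I)
    (θ : MonoidAlgebra R M →ₐc[R] R ⊗[A] C)
    (hθ : ∀ m, θ (MonoidAlgebra.single m 1) - (1 : R) ⊗ₜ[A] x m ∈
      (I.map (algebraMap A R)) • (⊤ : Submodule R (R ⊗[A] C))) :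
    InjMod (I.map (algebraMap A R)) θ := by
  intro p hp
  obtain ⟨p₀, rfl⟩ := mapRingHom_surjective (M := M) (algebraMap A R) hsurj p
  have h1 : (1 : R) ⊗ₜ[A] Phi x p₀ ∈
      (I.map (algebraMap A R)) • (⊤ : Submodule R (R ⊗[A] C)) := by
    have h2 := sub_mem hp (theta_sub_Phi_mem I x θ hθ p₀)
    rwa [sub_sub_cancel] at h2
  have h3 : Phi x p₀ ∈ I • (⊤ : Submodule A C) := by
    rw [← one_tmul_eq_zero_iff]
    exact mem_of_one_tmul_mem' I q _ h1
  have h4 := coeff_mem_of_Phi_mem I e₀ x hx p₀ h3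
  rw [eq_sum_single (MonoidAlgebra.mapRingHom M (algebraMap A R) p₀)]
  refine Submodule.sum_mem _ fun m _ => single_mem_smul_top _ m ?_
  rw [MonoidAlgebra.coeff_mapRingHom]
  exact Ideal.mem_map_of_mem _ (h4 m)

include hx in
theorem theta_bijective (hsurj : Function.Surjective (algebraMap A R)) (q : R →ₐ[A] A ⧸ I)
    (hK : ∀ t ∈ I.map (algebraMap A R), IsNilpotent t) (hD : IsDiag R (R ⊗[A] C))
    (θ : MonoidAlgebra R M →ₐc[R] R ⊗[A] C)
    (hθ : ∀ m, θ (MonoidAlgebra.single m 1) - (1 : R) ⊗ₜ[A] x m ∈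
      (I.map (algebraMap A R)) • (⊤ : Submodule R (R ⊗[A] C))) :
    Function.Bijective θ :=
  bijective_of_isDiag (I.map (algebraMap A R)) hK θ
    ⟨M, inferInstance, ⟨BialgEquiv.refl R _⟩⟩ hD (surjMod_theta I e₀ x hx θ hθ)
    (injMod_theta I e₀ x hx hsurj q θ hθ)

end Level

section Compat

variable {A : Type u} [CommRing A] (I : Ideal A) {C : Type u} [CommRing C] [HopfAlgebra A C]
  {M : Type u} [CommGroup M] (x : M → C)
  {R R' : Type u} [CommRing R] [CommRing R'] [Algebra A R] [Algebra A R']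

theorem hmap_theta (f : R →ₐ[A] R')
    (θ : MonoidAlgebra R M →ₐc[R] R ⊗[A] C) (θ' : MonoidAlgebra R' M →ₐc[R'] R' ⊗[A] C)
    (hθ : ∀ m, θ (MonoidAlgebra.single m 1) - (1 : R) ⊗ₜ[A] x m ∈
      (I.map (algebraMap A R)) • (⊤ : Submodule R (R ⊗[A] C)))
    (hθ' : ∀ m, θ' (MonoidAlgebra.single m 1) - (1 : R') ⊗ₜ[A] x m ∈
      (I.map (algebraMap A R')) • (⊤ : Submodule R' (R' ⊗[A] C)))
    (hU : UniqGL R' (R' ⊗[A] C) (I.map (algebraMap A R'))) (p : MonoidAlgebra R M) :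
    Hmap C f (θ p) = θ' (MonoidAlgebra.mapRingHom M (f : R →+* R') p) := by
  have hgen : ∀ m, Hmap C f (θ (MonoidAlgebra.single m 1)) = θ' (MonoidAlgebra.single m 1) := by
    intro m
    apply hU
    · exact isGroupLikeElem_map f
        ((MonoidAlgebra.isGroupLikeElem_single_one (R := R) (A := R) m).map θ)
    · exact (MonoidAlgebra.isGroupLikeElem_single_one (R := R') (A := R') m).map θ'
    · have h1 : Hmap C f (θ (MonoidAlgebra.single m 1)) - θ' (MonoidAlgebra.single m 1) =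
          Hmap C f (θ (MonoidAlgebra.single m 1) - (1 : R) ⊗ₜ[A] x m) -
            (θ' (MonoidAlgebra.single m 1) - (1 : R') ⊗ₜ[A] x m) := by
        rw [map_sub, Hmap_one_tmul]; abel
      rw [h1]
      exact sub_mem (Hmap_mem_smul_top f I (hθ m)) (hθ' m)
  induction p using MonoidAlgebra.induction_linear with
  | zero => simp
  | add p q hp hq => rw [map_add, map_add, hp, hq, map_add, map_add]
  | single m r =>
    rw [MonoidAlgebra.mapRingHom_single, single_eq_smul m r, map_smul, Hmap_smul, hgen,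
      single_eq_smul m ((f : R →+* R') r), map_smul]
    rfl

end Compat

section DiagLevel

variable {A : Type u} [CommRing A] (I : Ideal A) {C : Type u} [CommRing C] [HopfAlgebra A C]
  (R : Type u) [CommRing R] [Algebra A R]

theorem isDiag_level (N : ℕ) (hN : (I.map (algebraMap A R)) ^ N = ⊥)
    [Module.Flat R (R ⊗[A] C)] (h0 : IsDiag (A ⧸ I) ((A ⧸ I) ⊗[A] C)) :
    IsDiag R (R ⊗[A] C) := by
  set K : Ideal R := I.map (algebraMap A R) with hK
  let φ : A ⧸ I →+* R ⧸ K := Ideal.Quotient.lift I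
    ((algebraMap R (R ⧸ K)).comp (algebraMap A R)) (by
      intro a ha
      rw [RingHom.comp_apply, Ideal.Quotient.algebraMap_eq]
      exact Ideal.Quotient.eq_zero_iff_mem.mpr (Ideal.mem_map_of_mem _ ha))
  letI : Algebra (A ⧸ I) (R ⧸ K) := φ.toAlgebra
  haveI : IsScalarTower A (A ⧸ I) (R ⧸ K) := IsScalarTower.of_algebraMap_eq (fun a => by
    rw [IsScalarTower.algebraMap_apply A R (R ⧸ K)]
    rfl)
  have h1 : IsDiag (R ⧸ K) ((R ⧸ K) ⊗[A] C) :=
    BCB.isDiag_baseChange_of_tower A C (A ⧸ I) (R ⧸ K) h0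
  have h2 : IsDiag (R ⧸ K) ((R ⧸ K) ⊗[R] (R ⊗[A] C)) :=
    BCB.isDiag_of_equiv (BCB.cancelBC A R (R ⧸ K) C) h1
  exact isDiag_of_flat K N hN h2

variable {R}

theorem liftGL_of_isDiag (K : Ideal R) (hK : ∀ t ∈ K, IsNilpotent t) {D : Type u} [CommRing D]
    [HopfAlgebra R D] (hD : IsDiag R D) : LiftGL R D K := by
  obtain ⟨M', _, ⟨e⟩⟩ := hD
  exact LiftGL.of_equiv e (liftGL_monoidAlgebra K hK)

theorem uniqGL_of_isDiag (K : Ideal R) (hK : ∀ t ∈ K, IsNilpotent t) {D : Type u} [CommRing D]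
    [HopfAlgebra R D] (hD : IsDiag R D) : UniqGL R D K := by
  obtain ⟨M', _, ⟨e⟩⟩ := hD
  exact uniqGL_of_noPrimMod (NoPrimMod.of_equiv e (noPrimMod_monoidAlgebra R M')) K hK

end DiagLevel

end Groth.Agent.Lib.R2H7.FormalHom
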