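import Mathlib
import Groth.Prelude.Def_SGA3b
import Groth.Agent.Lib.R2H7FormalHom3

/-!
# R2H7FormalHom4: existence of a homomorphism `D(M) → H` lifting a diagonalization modulo `I`

`A` noetherian and `I`-adically complete, `C` a Hopf algebra over `A` such that `C / I^(n+1) C` is flat over
`A / I^(n+1)` for all `n`, and `e₀ : (A/I) ⊗ C ≃ (A/I)[M]`.  Then there is a bialgebra map `Φ : C → A[M]` which
reduces to `e₀` modulo `I` (`exists_hom_of_diag_mod`).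
-/

set_option autoImplicit false
universe u

namespace Groth.Agent.Lib.R2H7.FormalHom

open TensorProduct Coalgebra SGA3b Groth.Agent.Lib.Helper25 Groth.Agent.Lib.R2H7.GLLift
  Groth.Agent.Lib.R2H7.DiagNil Groth.Agent.Lib.R2H7.FlatDiag

section Main

variable {A : Type u} [CommRing A] (I : Ideal A) {C : Type u} [CommRing C] [HopfAlgebra A C]
  {M : Type u} [CommGroup M]

omit [HopfAlgebra A C] in
theorem map_pow_succ_eq_bot (n : ℕ) :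
    (I.map (algebraMap A (A ⧸ I ^ (n + 1)))) ^ (n + 1) = ⊥ := by
  rw [← Ideal.map_pow, Ideal.Quotient.algebraMap_eq, Ideal.map_quotient_self]

theorem exists_hom_of_diag_mod [IsNoetherianRing A] [IsAdicComplete I A]
    (hflat : ∀ n : ℕ, Module.Flat (A ⧸ I ^ (n + 1)) ((A ⧸ I ^ (n + 1)) ⊗[A] C))
    (e₀ : (A ⧸ I) ⊗[A] C ≃ₐc[A ⧸ I] MonoidAlgebra (A ⧸ I) M) :
    ∃ Φ : C →ₐc[A] MonoidAlgebra A M, ∀ c : C,
      MonoidAlgebra.mapRingHom M (Ideal.Quotient.mk I) (Φ c) = e₀ ((1 : A ⧸ I) ⊗ₜ[A] c) := by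
  classical
  have hex : ∀ m : M, ∃ y : C, (1 : A ⧸ I) ⊗ₜ[A] y = e₀.symm (MonoidAlgebra.single m 1) :=
    fun m => one_tmul_surjective I _
  choose x hx using hex
  have hnil : ∀ n : ℕ, ∀ t ∈ I.map (algebraMap A (A ⧸ I ^ (n + 1))), IsNilpotent t := fun n =>
    isNilpotent_of_pow_eq_bot _ (n + 1) (map_pow_succ_eq_bot I n)
  have hD : ∀ n : ℕ, IsDiag (A ⧸ I ^ (n + 1)) ((A ⧸ I ^ (n + 1)) ⊗[A] C) := by
    intro n
    haveI := hflat n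
    exact isDiag_level I (A ⧸ I ^ (n + 1)) (n + 1) (map_pow_succ_eq_bot I n)
      ⟨M, inferInstance, ⟨e₀⟩⟩
  have hθex : ∀ n : ℕ, ∃ θ : MonoidAlgebra (A ⧸ I ^ (n + 1)) M →ₐc[A ⧸ I ^ (n + 1)]
      (A ⧸ I ^ (n + 1)) ⊗[A] C, ∀ m,
      θ (MonoidAlgebra.single m 1) - (1 : A ⧸ I ^ (n + 1)) ⊗ₜ[A] x m ∈
        (I.map (algebraMap A (A ⧸ I ^ (n + 1)))) •
          (⊤ : Submodule (A ⧸ I ^ (n + 1)) ((A ⧸ I ^ (n + 1)) ⊗[A] C)) := fun n =>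
    exists_theta I e₀ x hx (A ⧸ I ^ (n + 1)) (liftGL_of_isDiag _ (hnil n) (hD n))
      (uniqGL_of_isDiag _ (hnil n) (hD n))
  choose θ hθ using hθex
  let q : ∀ n : ℕ, (A ⧸ I ^ (n + 1)) →ₐ[A] A ⧸ I := fun n =>
    Ideal.Quotient.factorₐ A (Ideal.pow_le_self (Nat.succ_ne_zero n))
  have hbij : ∀ n : ℕ, Function.Bijective (θ n) := fun n =>
    theta_bijective I e₀ x hx Ideal.Quotient.mk_surjective (q n) (hnil n) (hD n) (θ n) (hθ n)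
  let Θ : ∀ n : ℕ, MonoidAlgebra (A ⧸ I ^ (n + 1)) M ≃ₐc[A ⧸ I ^ (n + 1)]
      (A ⧸ I ^ (n + 1)) ⊗[A] C := fun n => BialgEquiv.ofBijective (θ n) (hbij n)
  have hΘ : ∀ n p, Θ n p = θ n p := fun n p => rfl
  let φ : ∀ n : ℕ, ((A ⧸ I ^ (n + 1)) ⊗[A] C) →ₐc[A ⧸ I ^ (n + 1)]
      MonoidAlgebra (A ⧸ I ^ (n + 1)) M := fun n => (Θ n).symm.toBialgHom
  have hφ : ∀ n d, φ n d = (Θ n).symm d := fun n d => rfl
  have hcompat : ∀ (n : ℕ) (c : C) (m : M),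
      Ideal.Quotient.factor (Ideal.pow_le_pow_right (Nat.le_succ (n + 1)))
        ((φ (n + 1) ((1 : A ⧸ I ^ (n + 1 + 1)) ⊗ₜ[A] c)).coeff m) =
        (φ n ((1 : A ⧸ I ^ (n + 1)) ⊗ₜ[A] c)).coeff m := by
    intro n c m
    let f : (A ⧸ I ^ (n + 1 + 1)) →ₐ[A] A ⧸ I ^ (n + 1) :=
      Ideal.Quotient.factorₐ A (Ideal.pow_le_pow_right (Nat.le_succ (n + 1)))
    have h1 := hmap_theta I x f (θ (n + 1)) (θ n) (hθ (n + 1)) (hθ n)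
      (uniqGL_of_isDiag _ (hnil n) (hD n)) (φ (n + 1) ((1 : A ⧸ I ^ (n + 1 + 1)) ⊗ₜ[A] c))
    rw [hφ, ← hΘ, BialgEquiv.apply_symm_apply, Hmap_one_tmul] at h1
    have h2 : φ n ((1 : A ⧸ I ^ (n + 1)) ⊗ₜ[A] c) =
        MonoidAlgebra.mapRingHom M (f : (A ⧸ I ^ (n + 1 + 1)) →+* A ⧸ I ^ (n + 1))
          ((Θ (n + 1)).symm ((1 : A ⧸ I ^ (n + 1 + 1)) ⊗ₜ[A] c)) := by
      rw [hφ, h1, ← hΘ, BialgEquiv.symm_apply_apply]
    rw [h2, MonoidAlgebra.coeff_mapRingHom]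
    rfl
  obtain ⟨Φ, hΦ⟩ := exists_limHom_of_levels φ hcompat
  refine ⟨Φ, fun c => ?_⟩
  have hU' : UniqGL (A ⧸ I) ((A ⧸ I) ⊗[A] C) (I.map (algebraMap A (A ⧸ I))) := by
    apply uniqGL_of_isDiag _ _ ⟨M, inferInstance, ⟨e₀⟩⟩
    intro t ht
    rw [Ideal.Quotient.algebraMap_eq, Ideal.map_quotient_self, Ideal.mem_bot] at ht
    rw [ht]
    exact IsNilpotent.zero
  have h1 := hmap_theta I x (q 0) (θ 0) (e₀.symm.toBialgHom) (hθ 0) (by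
    intro m
    have : e₀.symm.toBialgHom (MonoidAlgebra.single m 1) = e₀.symm (MonoidAlgebra.single m 1) :=
      rfl
    rw [this, ← hx, sub_self]
    exact zero_mem _) hU' (φ 0 ((1 : A ⧸ I ^ (0 + 1)) ⊗ₜ[A] c))
  rw [hφ, ← hΘ, BialgEquiv.apply_symm_apply, Hmap_one_tmul] at h1
  have h2 : e₀ ((1 : A ⧸ I) ⊗ₜ[A] c) =
      MonoidAlgebra.mapRingHom M (q 0 : (A ⧸ I ^ (0 + 1)) →+* A ⧸ I)
        ((Θ 0).symm ((1 : A ⧸ I ^ (0 + 1)) ⊗ₜ[A] c)) := by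
    rw [h1]
    exact BialgEquiv.apply_symm_apply e₀ _
  rw [h2, ← hφ, ← hΦ 0 c]
  apply MonoidAlgebra.ext
  apply Finsupp.ext
  intro m
  rw [MonoidAlgebra.coeff_mapRingHom, MonoidAlgebra.coeff_mapRingHom,
    MonoidAlgebra.coeff_mapRingHom]
  rfl

end Main

end Groth.Agent.Lib.R2H7.FormalHom
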