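import Mathlib
import Groth.Prelude.Def_SGA3b

/-!
# R2H7HopfIdem: homogeneity of a closed subgroup

`u : C → B` a surjective bialgebra map of commutative Hopf algebras (closed immersion of groups `G ⊆ H`),
`B` flat over the base, `K = ker u`.  If some `b ∈ C` with `ε(b) = 1` kills `K` (i.e. `G` is open in `H`
near the unit section), then `K = K²` (`mem_sq_of_kills`): `G` is open in `H` (translation argument, done
with the universal point of `G`).
-/

set_option autoImplicit false
universe u v w

namespace Groth.Agent.Lib.R2H7.HopfIdem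

open TensorProduct Coalgebra WithConv

section

variable {A : Type u} [CommRing A] {C : Type v} [CommRing C] [HopfAlgebra A C]
  {B : Type w} [CommRing B] [Bialgebra A B] (u : C →ₐc[A] B)

/-- The kernel of `u` as an `A`-submodule. -/
noncomputable abbrev kerS : Submodule A C := LinearMap.ker ((u : C →ₐ[A] B) : C →ₗ[A] B)

theorem mem_kerS {x : C} : x ∈ kerS u ↔ u x = 0 := Iff.rfl

theorem comul_mem_of_map_eq_zero (hu : Function.Surjective u) {x : C} (hx : u x = 0) :
    comul (R := A) x ∈ LinearMap.range (LinearMap.lTensor C (kerS u).subtype) ⊔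
      LinearMap.range (LinearMap.rTensor C (kerS u).subtype) := by
  have h1 := TensorProduct.map_ker
    (LinearMap.exact_subtype_ker_map ((u : C →ₐ[A] B) : C →ₗ[A] B)) hu
    (LinearMap.exact_subtype_ker_map ((u : C →ₐ[A] B) : C →ₗ[A] B)) hu
  rw [← h1, LinearMap.mem_ker]
  have h2 := CoalgHomClass.map_comp_comul_apply u x
  rw [hx, map_zero] at h2
  exact h2

/-- The key vanishing: with `β = Σ b₁ ⊗ S b₂`, the element `(x ⊗ 1) β` dies in `C ⊗ B`. -/
theorem key_vanish (hu : Function.Surjective u) (b : C) (hb : ∀ k, u k = 0 → b * k = 0)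
    (x : C) (hx : u x = 0) :
    (Algebra.TensorProduct.map (AlgHom.id A C) (u : C →ₐ[A] B))
      ((x ⊗ₜ[A] (1 : C)) * (Algebra.TensorProduct.map (AlgHom.id A C)
        (HopfAlgebra.antipodeAlgHom A C)) (comul (R := A) b)) = 0 := by
  let p : C →ₐ[A] C ⊗[A] B := Algebra.TensorProduct.includeLeft
  let g : C →ₐ[A] C ⊗[A] B :=
    (Algebra.TensorProduct.includeRight : B →ₐ[A] C ⊗[A] B).comp (u : C →ₐ[A] B)
  let P : WithConv (C →ₐ[A] C ⊗[A] B) := toConv p
  let G : WithConv (C →ₐ[A] C ⊗[A] B) := toConv g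
  let Q : WithConv (C →ₐ[A] C ⊗[A] B) := P * G⁻¹
  have hPQ : P = Q * G := (inv_mul_cancel_right P G).symm
  have hg : ∀ k, u k = 0 → g k = 0 := by
    intro k hk
    change (1 : C) ⊗ₜ[A] (u k) = 0
    rw [hk, TensorProduct.tmul_zero]
  have hQb : (Algebra.TensorProduct.map (AlgHom.id A C) (u : C →ₐ[A] B))
      ((Algebra.TensorProduct.map (AlgHom.id A C) (HopfAlgebra.antipodeAlgHom A C))
        (comul (R := A) b)) = Q.ofConv b := by
    have h1 : Q.ofConv b = Algebra.TensorProduct.lift p (G⁻¹).ofConv (fun _ _ => .all ..)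
        (comul (R := A) b) := AlgHom.convMul_apply P G⁻¹ b
    rw [h1]
    generalize comul (R := A) b = t
    induction t using TensorProduct.induction_on with
    | zero => simp
    | tmul a a' =>
      rw [Algebra.TensorProduct.map_tmul, Algebra.TensorProduct.map_tmul,
        Algebra.TensorProduct.lift_tmul]
      change a ⊗ₜ[A] u (HopfAlgebra.antipodeAlgHom A C a') =
        (a ⊗ₜ[A] (1 : B)) * ((1 : C) ⊗ₜ[A] u (HopfAlgebra.antipodeAlgHom A C a'))
      rw [Algebra.TensorProduct.tmul_mul_tmul, mul_one, one_mul]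
    | add y z hy hz => simp only [map_add, hy, hz]
  have hpx : p x = Algebra.TensorProduct.lift Q.ofConv g (fun _ _ => .all ..)
      (comul (R := A) x) := by
    have h1 : P.ofConv x = (Q * G).ofConv x := by rw [← hPQ]
    rw [show (Q * G).ofConv x = _ from AlgHom.convMul_apply Q G x] at h1
    exact h1
  have hkill : ∀ t : C ⊗[A] C,
      t ∈ LinearMap.range (LinearMap.lTensor C (kerS u).subtype) ⊔
        LinearMap.range (LinearMap.rTensor C (kerS u).subtype) →
      Q.ofConv b * Algebra.TensorProduct.lift Q.ofConv g (fun _ _ => .all ..) t = 0 := by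
    intro t ht
    obtain ⟨t₁, ⟨s₁, rfl⟩, t₂, ⟨s₂, rfl⟩, rfl⟩ := Submodule.mem_sup.mp ht
    clear ht
    have e1 : Algebra.TensorProduct.lift Q.ofConv g (fun _ _ => .all ..)
        (LinearMap.lTensor C (kerS u).subtype s₁) = 0 := by
      induction s₁ using TensorProduct.induction_on with
      | zero => simp
      | tmul c k =>
        rw [LinearMap.lTensor_tmul, Algebra.TensorProduct.lift_tmul]
        have : g ((kerS u).subtype k) = 0 := hg _ k.2
        rw [this, mul_zero]
      | add y z hy hz => rw [map_add, map_add, hy, hz, add_zero]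
    have e2 : Q.ofConv b * Algebra.TensorProduct.lift Q.ofConv g (fun _ _ => .all ..)
        (LinearMap.rTensor C (kerS u).subtype s₂) = 0 := by
      induction s₂ using TensorProduct.induction_on with
      | zero => simp
      | tmul k c =>
        rw [LinearMap.rTensor_tmul, Algebra.TensorProduct.lift_tmul, ← mul_assoc, ← map_mul]
        have : b * (kerS u).subtype k = 0 := hb _ k.2
        rw [this, map_zero, zero_mul]
      | add y z hy hz => rw [map_add, map_add, mul_add, hy, hz, add_zero]
    rw [map_add, mul_add, e1, mul_zero, e2, add_zero]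
  rw [map_mul, hQb]
  have h3 : (Algebra.TensorProduct.map (AlgHom.id A C) (u : C →ₐ[A] B)) (x ⊗ₜ[A] (1 : C)) =
      p x := by
    rw [Algebra.TensorProduct.map_tmul, map_one]
    rfl
  rw [h3, hpx, mul_comm]
  exact hkill _ (comul_mem_of_map_eq_zero u hu hx)

/-- An element of `K ⊗ C` whose image in `C ⊗ C` dies in `C ⊗ B` comes from `K ⊗ K`. -/
theorem exists_of_lTensor_eq_zero [Module.Flat A B] (hu : Function.Surjective u)
    (z : kerS u ⊗[A] C)
    (hz : LinearMap.lTensor C ((u : C →ₐ[A] B) : C →ₗ[A] B)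
      (LinearMap.rTensor C (kerS u).subtype z) = 0) :
    ∃ w : kerS u ⊗[A] kerS u,
      TensorProduct.map (kerS u).subtype (kerS u).subtype w =
        LinearMap.rTensor C (kerS u).subtype z := by
  have h1 : LinearMap.rTensor B (kerS u).subtype
      (LinearMap.lTensor (kerS u) ((u : C →ₐ[A] B) : C →ₗ[A] B) z) = 0 := by
    rw [← LinearMap.comp_apply, LinearMap.rTensor_comp_lTensor, ← LinearMap.lTensor_comp_rTensor,
      LinearMap.comp_apply]
    exact hz
  have h2 : LinearMap.lTensor (kerS u) ((u : C →ₐ[A] B) : C →ₗ[A] B) z = 0 := by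
    apply Module.Flat.rTensor_preserves_injective_linearMap (M := B) (kerS u).subtype
      (Submodule.subtype_injective _)
    rw [h1, map_zero]
  have h3 := (lTensor_exact (kerS u)
    (LinearMap.exact_subtype_ker_map ((u : C →ₐ[A] B) : C →ₗ[A] B)) hu z).mp h2
  obtain ⟨w, hw⟩ := h3
  refine ⟨w, ?_⟩
  rw [← hw, ← LinearMap.comp_apply, LinearMap.rTensor_comp_lTensor]

theorem mem_sq_of_kills [Module.Flat A B] (hu : Function.Surjective u) (K : Ideal C)
    (hK : ∀ y, y ∈ K ↔ u y = 0) (b : C) (hb1 : counit (R := A) b = 1)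
    (hb : ∀ k ∈ K, b * k = 0) (x : C) (hx : x ∈ K) : x ∈ K * K := by
  set β : C ⊗[A] C := (Algebra.TensorProduct.map (AlgHom.id A C)
    (HopfAlgebra.antipodeAlgHom A C)) (comul (R := A) b) with hβ
  -- `(x ⊗ 1) β` comes from `K ⊗ C`
  have h1 : ∀ t : C ⊗[A] C, ∃ z : kerS u ⊗[A] C,
      LinearMap.rTensor C (kerS u).subtype z = (x ⊗ₜ[A] (1 : C)) * t := by
    intro t
    induction t using TensorProduct.induction_on with
    | zero => exact ⟨0, by simp⟩
    | tmul a a' =>
      have hxa : x * a ∈ kerS u := by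
        rw [mem_kerS, map_mul, (hK x).mp hx, zero_mul]
      refine ⟨(⟨x * a, hxa⟩ : kerS u) ⊗ₜ[A] a', ?_⟩
      rw [LinearMap.rTensor_tmul, Algebra.TensorProduct.tmul_mul_tmul, one_mul]
      rfl
    | add y z hy hz =>
      obtain ⟨zy, hzy⟩ := hy
      obtain ⟨zz, hzz⟩ := hz
      exact ⟨zy + zz, by rw [map_add, hzy, hzz, mul_add]⟩
  obtain ⟨z, hz⟩ := h1 β
  have h2 : LinearMap.lTensor C ((u : C →ₐ[A] B) : C →ₗ[A] B)
      (LinearMap.rTensor C (kerS u).subtype z) = 0 := by
    rw [hz]
    have := key_vanish u hu b (fun k hk => hb k ((hK k).mpr hk)) x ((hK x).mp hx)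
    rw [← hβ] at this
    have e : ∀ t : C ⊗[A] C, LinearMap.lTensor C ((u : C →ₐ[A] B) : C →ₗ[A] B) t =
        (Algebra.TensorProduct.map (AlgHom.id A C) (u : C →ₐ[A] B)) t := by
      intro t
      induction t using TensorProduct.induction_on with
      | zero => simp
      | tmul a a' => rfl
      | add y z hy hz => rw [map_add, map_add, hy, hz]
    rw [e]
    exact this
  obtain ⟨w, hw⟩ := exists_of_lTensor_eq_zero u hu z h2
  -- multiply out
  have h3 : ∀ w : kerS u ⊗[A] kerS u,
      LinearMap.mul' A C (TensorProduct.map (kerS u).subtype (kerS u).subtype w) ∈ K * K := by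
    intro w
    induction w using TensorProduct.induction_on with
    | zero => simp
    | tmul k k' =>
      rw [TensorProduct.map_tmul, LinearMap.mul'_apply]
      exact Ideal.mul_mem_mul ((hK _).mpr k.2) ((hK _).mpr k'.2)
    | add y z hy hz =>
      rw [map_add, map_add]
      exact add_mem hy hz
  have h4 : LinearMap.mul' A C ((x ⊗ₜ[A] (1 : C)) * β) = x := by
    have e1 : ∀ s t : C ⊗[A] C, LinearMap.mul' A C (s * t) =
        LinearMap.mul' A C s * LinearMap.mul' A C t := by
      intro s t
      exact map_mul (Algebra.TensorProduct.lmul' A (S := C)) s t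
    rw [e1, LinearMap.mul'_apply, mul_one]
    have e2 : LinearMap.mul' A C β = algebraMap A C (counit (R := A) b) := by
      rw [← HopfAlgebra.mul_antipode_lTensor_comul_apply, hβ]
      congr 1
    rw [e2, hb1, map_one, mul_one]
  rw [← h4, ← hz, ← hw]
  exact h3 w

end

end Groth.Agent.Lib.R2H7.HopfIdem
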