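import Mathlib
import Groth.Prelude.Def_SGA3b
import Groth.Agent.Lib.R2H7FormalHom4
import Groth.Agent.Lib.R2H7HopfIdem

/-!
# R2H7FormalHom5: the open and closed diagonalizable subgroup (diagonalizable case)

`A` noetherian and `I`-adically complete, `C` a Hopf algebra of finite type over `A`, flat modulo all powers
of `I`, diagonalizable modulo `I` (`e₀ : (A/I) ⊗ C ≃ (A/I)[M]`).  Then (`diag_case`) there are a surjective
bialgebra map `Φ : C → A[M]` reducing to `e₀` and an idempotent `e` of `C` with `ker Φ = (e) = ⋂ I^n C`.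
-/

set_option autoImplicit false
universe u

namespace Groth.Agent.Lib.R2H7.FormalHom

open TensorProduct Coalgebra SGA3b Groth.Agent.Lib.Helper25 Groth.Agent.Lib.R2H7.GLLift
  Groth.Agent.Lib.R2H7.DiagNil Groth.Agent.Lib.R2H7.FlatDiag

section Isotypic

variable {A : Type u} [CommRing A] {C : Type u} [CommRing C] [Bialgebra A C]
  {M : Type u} [Monoid M]

theorem rid_lTensor_coeff_comul (m : M) (y : MonoidAlgebra A M) :
    (TensorProduct.rid A (MonoidAlgebra A M))
      (LinearMap.lTensor (MonoidAlgebra A M) (coeffFun A m) (comul (R := A) y)) =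
      y.coeff m • MonoidAlgebra.single m (1 : A) := by
  classical
  induction y using MonoidAlgebra.induction_linear with
  | zero => simp
  | add y z hy hz =>
    rw [map_add, map_add, map_add, hy, hz, MonoidAlgebra.coeff_add, Finsupp.add_apply, add_smul]
  | single n r =>
    rw [MonoidAlgebra.comul_single, CommSemiring.comul_apply, TensorProduct.map_tmul,
      LinearMap.lTensor_tmul, TensorProduct.rid_tmul, MonoidAlgebra.lsingle_apply,
      MonoidAlgebra.lsingle_apply, coeffFun_apply, MonoidAlgebra.coeff_single,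
      Finsupp.single_apply]
    by_cases h : n = m
    · subst h
      rfl
    · rw [if_neg h, zero_smul, zero_smul]

theorem map_isotypic (Φ : C →ₐc[A] MonoidAlgebra A M) (m : M) (c : C) :
    Φ ((TensorProduct.rid A C) (LinearMap.lTensor C
      ((coeffFun A m) ∘ₗ ((Φ : C →ₐ[A] MonoidAlgebra A M) : C →ₗ[A] MonoidAlgebra A M))
      (comul (R := A) c))) = (Φ c).coeff m • MonoidAlgebra.single m (1 : A) := by
  have key : ∀ t : C ⊗[A] C, Φ ((TensorProduct.rid A C) (LinearMap.lTensor C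
      ((coeffFun A m) ∘ₗ ((Φ : C →ₐ[A] MonoidAlgebra A M) : C →ₗ[A] MonoidAlgebra A M)) t)) =
      (TensorProduct.rid A (MonoidAlgebra A M))
        (LinearMap.lTensor (MonoidAlgebra A M) (coeffFun A m)
          (TensorProduct.map ((Φ : C →ₐ[A] MonoidAlgebra A M) : C →ₗ[A] MonoidAlgebra A M)
            ((Φ : C →ₐ[A] MonoidAlgebra A M) : C →ₗ[A] MonoidAlgebra A M) t)) := by
    intro t
    induction t using TensorProduct.induction_on with
    | zero => simp
    | tmul a b =>
      rw [LinearMap.lTensor_tmul, TensorProduct.rid_tmul, TensorProduct.map_tmul,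
        LinearMap.lTensor_tmul, TensorProduct.rid_tmul, map_smul]
      rfl
    | add y z hy hz => simp only [map_add, hy, hz]
  rw [key, ← rid_lTensor_coeff_comul]
  congr 2
  exact CoalgHomClass.map_comp_comul_apply Φ c

theorem surjective_of_isUnit_coeff (Φ : C →ₐc[A] MonoidAlgebra A M)
    (h : ∀ m : M, ∃ c : C, IsUnit ((Φ c).coeff m)) : Function.Surjective Φ := by
  have hsingle : ∀ m : M, ∃ c : C, Φ c = MonoidAlgebra.single m (1 : A) := by
    intro m
    obtain ⟨c, hc⟩ := h m
    obtain ⟨v, hv⟩ := hc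
    refine ⟨(↑v⁻¹ : A) • ((TensorProduct.rid A C) (LinearMap.lTensor C
      ((coeffFun A m) ∘ₗ ((Φ : C →ₐ[A] MonoidAlgebra A M) : C →ₗ[A] MonoidAlgebra A M))
      (comul (R := A) c))), ?_⟩
    rw [map_smul, map_isotypic, ← hv, smul_smul, Units.inv_mul, one_smul]
  intro y
  induction y using MonoidAlgebra.induction_linear with
  | zero => exact ⟨0, map_zero _⟩
  | add y z hy hz =>
    obtain ⟨a, rfl⟩ := hy
    obtain ⟨b, rfl⟩ := hz
    exact ⟨a + b, map_add _ _ _⟩
  | single m r =>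
    obtain ⟨c, hc⟩ := hsingle m
    refine ⟨r • c, ?_⟩
    rw [map_smul, hc, MonoidAlgebra.smul_single', mul_one]

end Isotypic

section Kernel

variable {A : Type u} [CommRing A] (I : Ideal A) {C : Type u} [CommRing C] [HopfAlgebra A C]
  {M : Type u} [CommGroup M]
  (e₀ : (A ⧸ I) ⊗[A] C ≃ₐc[A ⧸ I] MonoidAlgebra (A ⧸ I) M)
  (Φ : C →ₐc[A] MonoidAlgebra A M)
  (hΦ : ∀ c : C, MonoidAlgebra.mapRingHom M (Ideal.Quotient.mk I) (Φ c) =
    e₀ ((1 : A ⧸ I) ⊗ₜ[A] c))

include hΦ in
theorem surjective_of_reduction (hI : I ≤ Ideal.jacobson ⊥) : Function.Surjective Φ := by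
  apply surjective_of_isUnit_coeff
  intro m
  obtain ⟨y, hy⟩ := one_tmul_surjective I (e₀.symm (MonoidAlgebra.single m 1))
  refine ⟨y, ?_⟩
  have h1 := hΦ y
  rw [hy, BialgEquiv.apply_symm_apply] at h1
  have h2 := congrArg (fun z => z.coeff m) h1
  simp only [MonoidAlgebra.coeff_mapRingHom, MonoidAlgebra.coeff_single,
    Finsupp.single_eq_same] at h2
  have h3 : (Φ y).coeff m - 1 ∈ I := by
    rw [← Ideal.Quotient.eq_zero_iff_mem, map_sub, h2, map_one, sub_self]
  have h4 := (Ideal.mem_jacobson_bot.mp (hI h3)) 1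
  rwa [mul_one, sub_add_cancel] at h4

include hΦ in
theorem mem_smul_top_of_map_eq_zero {k : C} (hk : Φ k = 0) :
    k ∈ I • (⊤ : Submodule A C) := by
  rw [← one_tmul_eq_zero_iff]
  have h := hΦ k
  rw [hk, map_zero] at h
  have h2 : e₀ ((1 : A ⧸ I) ⊗ₜ[A] k) = e₀ 0 := by rw [← h, map_zero]
  exact e₀.injective h2

include hΦ in
/-- `K = I K` for the kernel `K` of `Φ`. -/
theorem ker_le_smul_ker (hsurj : Function.Surjective Φ) {k : C} (hk : Φ k = 0) :
    k ∈ I • LinearMap.ker ((Φ : C →ₐ[A] MonoidAlgebra A M) : C →ₗ[A] MonoidAlgebra A M) := by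
  set ΦL : C →ₗ[A] MonoidAlgebra A M :=
    ((Φ : C →ₐ[A] MonoidAlgebra A M) : C →ₗ[A] MonoidAlgebra A M) with hΦL
  haveI : Module.Free A (MonoidAlgebra A M) := Module.Free.of_basis (MonoidAlgebra.basis M A)
  obtain ⟨s, hs⟩ := Module.projective_lifting_property ΦL LinearMap.id hsurj
  let π : C →ₗ[A] C := LinearMap.id - s ∘ₗ ΦL
  have hπker : ∀ c, π c ∈ LinearMap.ker ΦL := by
    intro c
    rw [LinearMap.mem_ker]
    change ΦL (c - s (ΦL c)) = 0
    rw [map_sub]
    have := LinearMap.congr_fun hs (ΦL c)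
    rw [LinearMap.comp_apply, LinearMap.id_apply] at this
    rw [this, sub_self]
  have hπk : π k = k := by
    change k - s (ΦL k) = k
    have : ΦL k = 0 := hk
    rw [this, map_zero, sub_zero]
  have h1 := mem_smul_top_of_map_eq_zero I e₀ Φ hΦ hk
  rw [← hπk]
  refine Submodule.smul_induction_on h1 ?_ ?_
  · intro r hr n _
    rw [map_smul]
    exact Submodule.smul_mem_smul hr (hπker n)
  · intro y z hy hz
    rw [map_add]
    exact add_mem hy hz

omit [HopfAlgebra A C] in
theorem coeff_eq_zero_of_forall_mem_pow [Algebra A C] [IsHausdorff I A]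
    (f : C →ₗ[A] A) (y : C)
    (hy : ∀ n : ℕ, y ∈ (I ^ n).map (algebraMap A C)) : f y = 0 := by
  apply IsHausdorff.haus' (I := I)
  intro n
  rw [SModEq.zero, smul_eq_mul, Ideal.mul_top]
  have h1 : y ∈ (I ^ n) • (⊤ : Submodule A C) := by
    rw [Ideal.smul_top_eq_map]
    exact hy n
  refine Submodule.smul_induction_on h1 ?_ ?_
  · intro r hr c _
    rw [map_smul, smul_eq_mul]
    exact Ideal.mul_mem_right _ _ hr
  · intro a b ha hb
    rw [map_add]
    exact add_mem ha hb

theorem diag_case [IsNoetherianRing A] [IsAdicComplete I A] (hft : Algebra.FiniteType A C)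
    (hflat : ∀ n : ℕ, Module.Flat (A ⧸ I ^ (n + 1)) ((A ⧸ I ^ (n + 1)) ⊗[A] C)) :
    ∃ (Φ : C →ₐc[A] MonoidAlgebra A M) (e : C), Function.Surjective Φ ∧
      (∀ c : C, MonoidAlgebra.mapRingHom M (Ideal.Quotient.mk I) (Φ c) =
        e₀ ((1 : A ⧸ I) ⊗ₜ[A] c)) ∧
      IsIdempotentElem e ∧ (∀ y : C, y ∈ Ideal.span {e} ↔ Φ y = 0) ∧
      (∀ n : ℕ, e ∈ (I ^ n).map (algebraMap A C)) ∧
      (∀ y : C, (∀ n : ℕ, y ∈ (I ^ n).map (algebraMap A C)) → y ∈ Ideal.span {e}) := by
  classical
  obtain ⟨Φ, hΦ⟩ := exists_hom_of_diag_mod I hflat e₀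
  have hIjac : I ≤ Ideal.jacobson ⊥ := IsAdicComplete.le_jacobson_bot I
  have hsurj := surjective_of_reduction I e₀ Φ hΦ hIjac
  haveI : IsNoetherianRing C := Algebra.FiniteType.isNoetherianRing A C
  set K : Ideal C := RingHom.ker (Φ : C →ₐ[A] MonoidAlgebra A M) with hKdef
  have hK : ∀ y, y ∈ K ↔ Φ y = 0 := fun y => RingHom.mem_ker
  have hKfg : K.FG := IsNoetherian.noetherian K
  set IC : Ideal C := I.map (algebraMap A C) with hIC
  have hle : K ≤ IC • K := by
    intro k hk
    have h1 := ker_le_smul_ker I e₀ Φ hΦ hsurj ((hK k).mp hk)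
    refine Submodule.smul_induction_on h1 ?_ ?_
    · intro r hr n hn
      rw [Ideal.smul_eq_mul, Algebra.smul_def]
      exact Ideal.mul_mem_mul (Ideal.mem_map_of_mem _ hr) ((hK n).mpr hn)
    · intro y z hy hz
      exact add_mem hy hz
  obtain ⟨r, hr1, hrK⟩ :=
    Submodule.exists_sub_one_mem_and_smul_eq_zero_of_fg_of_le_smul IC K hKfg hle
  -- the counit of `r` is a unit
  have hcounitIC : ∀ z ∈ IC, counit (R := A) z ∈ I := by
    have h2 : IC ≤ Ideal.comap (Bialgebra.counitAlgHom A C) I := by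
      rw [hIC, Ideal.map_le_iff_le_comap]
      intro a ha
      rw [Ideal.mem_comap, Ideal.mem_comap, AlgHom.commutes]
      exact ha
    intro z hz
    exact h2 hz
  have hunit : IsUnit (counit (R := A) r) := by
    have h3 : counit (R := A) r - 1 ∈ I := by
      have := hcounitIC _ hr1
      rwa [map_sub, Bialgebra.counit_one] at this
    have h4 := (Ideal.mem_jacobson_bot.mp (hIjac h3)) 1
    rwa [mul_one, sub_add_cancel] at h4
  obtain ⟨v, hv⟩ := hunit
  set b : C := (↑v⁻¹ : A) • r with hb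
  have hb1 : counit (R := A) b = 1 := by
    rw [hb, map_smul, ← hv, smul_eq_mul, Units.inv_mul]
  have hbK : ∀ k ∈ K, b * k = 0 := by
    intro k hk
    rw [hb, smul_mul_assoc]
    have := hrK k hk
    rw [smul_eq_mul] at this
    rw [this, smul_zero]
  haveI : Module.Free A (MonoidAlgebra A M) := Module.Free.of_basis (MonoidAlgebra.basis M A)
  have hsq : K ≤ K * K := fun x hx =>
    Groth.Agent.Lib.R2H7.HopfIdem.mem_sq_of_kills Φ hsurj K hK b hb1 hbK x hx
  have hidem : IsIdempotentElem K := le_antisymm Ideal.mul_le_right hsq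
  obtain ⟨e, he, hKe⟩ := (Ideal.isIdempotentElem_iff_of_fg K hKfg).mp hidem
  have heK : e ∈ K := by rw [hKe]; exact Ideal.mem_span_singleton_self e
  have heIC : e ∈ IC := by
    have h5 := hle heK
    rw [Ideal.smul_eq_mul] at h5
    exact Ideal.mul_le_left h5
  refine ⟨Φ, e, hsurj, hΦ, he, ?_, ?_, ?_⟩
  · intro y
    have hKe' : Ideal.span {e} = K := hKe.symm
    rw [hKe']
    exact hK y
  · intro n
    rcases Nat.eq_zero_or_pos n with rfl | hn
    · rw [pow_zero, Ideal.one_eq_top, Ideal.map_top]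
      exact Submodule.mem_top
    · have h6 : e ^ n = e := he.pow_eq hn.ne'
      rw [← h6, Ideal.map_pow]
      exact Ideal.pow_mem_pow heIC n
  · intro y hy
    have hKe' : Ideal.span {e} = K := hKe.symm
    rw [hKe', hK]
    apply MonoidAlgebra.ext
    apply Finsupp.ext
    intro m
    exact coeff_eq_zero_of_forall_mem_pow I
      ((coeffFun A m) ∘ₗ ((Φ : C →ₐ[A] MonoidAlgebra A M) : C →ₗ[A] MonoidAlgebra A M)) y hy

end Kernel

end Groth.Agent.Lib.R2H7.FormalHom
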