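import Mathlib
import Groth.Prelude.Def_SGA3b
import Groth.Agent.Lib.R2H7FormalHom5
import Groth.Agent.Lib.Helper25FlatBC
import Groth.Agent.Lib.Helper19ComplTwo

/-!
# R2H7FormalHom6: base change preliminaries for the complete base

* `flat_level`: flatness at the points of `V(I C)` gives flatness of `C / I^(n+1) C` over `A / I^(n+1)`.
* `isAdicComplete_map_of_finite`: finite algebras over a complete noetherian ring are complete.
* `flat_level_baseChange`: the levels stay flat after a base change `A → S`.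
* `isDiag_mod_baseChange`: transport of the diagonalization modulo `I` to a lift `S` of the splitting cover.
-/

set_option autoImplicit false
universe u

namespace Groth.Agent.Lib.R2H7.FormalHom

open TensorProduct Coalgebra SGA3b Groth.Agent.Lib.Helper25

section FlatLevel

variable {A : Type u} [CommRing A] (I : Ideal A) {C : Type u} [CommRing C] [Algebra A C]

attribute [local instance] Algebra.TensorProduct.rightAlgebra in
theorem flat_level
    (hfl : ∀ (q : Ideal C) [q.IsPrime], Ideal.map (algebraMap A C) I ≤ q →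
      Module.Flat A (Localization.AtPrime q)) (n : ℕ) :
    Module.Flat (A ⧸ I ^ (n + 1)) ((A ⧸ I ^ (n + 1)) ⊗[A] C) := by
  apply Module.flat_of_isLocalized_maximal ((A ⧸ I ^ (n + 1)) ⊗[A] C)
    ((A ⧸ I ^ (n + 1)) ⊗[A] C) (fun P => Localization.AtPrime P)
    (fun P => Algebra.linearMap _ _)
  intro Q hQ
  apply Groth.Agent.Lib.Helper25.FlatBC.flat_localization_of_isPushout A C (A ⧸ I ^ (n + 1))
    ((A ⧸ I ^ (n + 1)) ⊗[A] C) Q
  apply hfl
  rw [Ideal.map_le_iff_le_comap]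
  intro a ha
  rw [Ideal.mem_comap, Ideal.mem_comap]
  apply Ideal.IsPrime.mem_of_pow_mem inferInstance (n + 1)
  rw [← map_pow, ← map_pow]
  have h0 : algebraMap C ((A ⧸ I ^ (n + 1)) ⊗[A] C) (algebraMap A C (a ^ (n + 1))) = 0 := by
    rw [← IsScalarTower.algebraMap_apply A C ((A ⧸ I ^ (n + 1)) ⊗[A] C),
      IsScalarTower.algebraMap_apply A (A ⧸ I ^ (n + 1)) ((A ⧸ I ^ (n + 1)) ⊗[A] C),
      Ideal.Quotient.algebraMap_eq,
      Ideal.Quotient.eq_zero_iff_mem.mpr (Ideal.pow_mem_pow ha (n + 1)), map_zero]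
  rw [h0]
  exact zero_mem _

end FlatLevel

section Complete

variable {A : Type u} [CommRing A] [IsNoetherianRing A] (I : Ideal A) [IsAdicComplete I A]
  (S : Type u) [CommRing S] [Algebra A S] [Module.Finite A S]

theorem isAdicComplete_map_of_finite : IsAdicComplete (I.map (algebraMap A S)) S := by
  rw [IsAdicComplete.map_algebraMap_iff]
  haveI : IsHausdorff I S := IsHausdorff.of_le_jacobson I S (IsAdicComplete.le_jacobson_bot I)
  haveI : IsPrecomplete I S := by
    obtain ⟨n, f, hf⟩ := Module.Finite.exists_fin' A S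
    haveI := Groth.Agent.Lib.Helper19.isPrecomplete_pi_module I (ι := Fin n) A
    exact Groth.Agent.Lib.Helper19.isPrecomplete_of_surjective_module I f hf
  exact { }

end Complete

section LevelBC

variable {A : Type u} [CommRing A] (I : Ideal A) {C : Type u} [CommRing C] [Algebra A C]
  (S : Type u) [CommRing S] [Algebra A S]

theorem flat_level_baseChange (n : ℕ)
    [Module.Flat (A ⧸ I ^ (n + 1)) ((A ⧸ I ^ (n + 1)) ⊗[A] C)] :
    Module.Flat (S ⧸ (I.map (algebraMap A S)) ^ (n + 1))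
      ((S ⧸ (I.map (algebraMap A S)) ^ (n + 1)) ⊗[S] (S ⊗[A] C)) := by
  set K : Ideal S := (I.map (algebraMap A S)) ^ (n + 1) with hK
  let φ : A ⧸ I ^ (n + 1) →+* S ⧸ K := Ideal.Quotient.lift (I ^ (n + 1))
    ((algebraMap S (S ⧸ K)).comp (algebraMap A S)) (by
      intro a ha
      rw [RingHom.comp_apply, Ideal.Quotient.algebraMap_eq]
      apply Ideal.Quotient.eq_zero_iff_mem.mpr
      rw [hK, ← Ideal.map_pow]
      exact Ideal.mem_map_of_mem _ ha)
  letI : Algebra (A ⧸ I ^ (n + 1)) (S ⧸ K) := φ.toAlgebra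
  haveI : IsScalarTower A (A ⧸ I ^ (n + 1)) (S ⧸ K) :=
    IsScalarTower.of_algebraMap_eq (fun a => by
      rw [IsScalarTower.algebraMap_apply A S (S ⧸ K)]
      rfl)
  let e1 := TensorProduct.AlgebraTensorModule.cancelBaseChange A (A ⧸ I ^ (n + 1)) (S ⧸ K)
    (S ⧸ K) C
  let e2 := TensorProduct.AlgebraTensorModule.cancelBaseChange A S (S ⧸ K) (S ⧸ K) C
  exact Module.Flat.of_linearEquiv (e2.trans e1.symm)

end LevelBC

section DiagBC

variable {A : Type u} [CommRing A] (I : Ideal A) {C : Type u} [CommRing C] [HopfAlgebra A C]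

theorem isDiag_mod_baseChange (k' : Type u) [CommRing k'] [Algebra (A ⧸ I) k']
    (hD : IsDiag k' (k' ⊗[A ⧸ I] ((A ⧸ I) ⊗[A] C)))
    (S : Type u) [CommRing S] [Algebra A S] (ε : ((A ⧸ I) ⊗[A] S) ≃ₐ[A ⧸ I] k') :
    IsDiag (S ⧸ I.map (algebraMap A S)) ((S ⧸ I.map (algebraMap A S)) ⊗[S] (S ⊗[A] C)) := by
  let lft : (A ⧸ I) ⊗[A] S →ₐ[A ⧸ I] (S ⧸ I.map (algebraMap A S)) :=
    Algebra.TensorProduct.lift (Algebra.ofId (A ⧸ I) (S ⧸ I.map (algebraMap A S)))
      (IsScalarTower.toAlgHom A S (S ⧸ I.map (algebraMap A S))) (fun _ _ => Commute.all _ _)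
  let φ : k' →ₐ[A ⧸ I] (S ⧸ I.map (algebraMap A S)) := lft.comp ε.symm.toAlgHom
  letI : Algebra k' (S ⧸ I.map (algebraMap A S)) := φ.toRingHom.toAlgebra
  haveI : IsScalarTower (A ⧸ I) k' (S ⧸ I.map (algebraMap A S)) :=
    IsScalarTower.of_algebraMap_eq (fun r => (φ.commutes r).symm)
  have h1 : IsDiag (S ⧸ I.map (algebraMap A S))
      ((S ⧸ I.map (algebraMap A S)) ⊗[A ⧸ I] ((A ⧸ I) ⊗[A] C)) :=
    BCB.isDiag_baseChange_of_tower (A ⧸ I) ((A ⧸ I) ⊗[A] C) k' (S ⧸ I.map (algebraMap A S)) hD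
  have h2 : IsDiag (S ⧸ I.map (algebraMap A S)) ((S ⧸ I.map (algebraMap A S)) ⊗[A] C) :=
    BCB.isDiag_of_equiv (BCB.cancelBC A (A ⧸ I) (S ⧸ I.map (algebraMap A S)) C).symm h1
  exact BCB.isDiag_of_equiv (BCB.cancelBC A S (S ⧸ I.map (algebraMap A S)) C) h2

end DiagBC

end Groth.Agent.Lib.R2H7.FormalHom
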