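import Mathlib
import Groth.Prelude.Def_SGA3b
import Groth.Agent.Lib.Helper22Amitsur

/-!
# R2H7FormalHom7: descent of the idempotent generating `⋂ I^n C'`

`S` a faithfully flat, projective `A`-algebra, `C` an `A`-algebra, `C' = S ⊗ C`.  An idempotent `e'` of `C'` with
`(e') = ⋂ I^n C'` is of the form `1 ⊗ e` (`exists_descent_idem`).

* `eq_zero_of_forall_functional`: elements of `P ⊗ N`, `P` projective, are detected by the functionals of `P`.
-/

set_option autoImplicit false
universe u v w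

namespace Groth.Agent.Lib.R2H7.FormalHom

open TensorProduct

section Detect

variable {A : Type u} [CommRing A] {P : Type v} [AddCommGroup P] [Module A P]
  [Module.Projective A P] {N : Type w} [AddCommGroup N] [Module A N]

theorem eq_zero_of_forall_functional (z : P ⊗[A] N)
    (h : ∀ f : P →ₗ[A] A, (TensorProduct.lid A N) (LinearMap.rTensor N f z) = 0) : z = 0 := by
  classical
  obtain ⟨s, hs⟩ := Module.projective_def'.mp (inferInstance : Module.Projective A P)
  have h1 : LinearMap.rTensor N s z = 0 := by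
    apply (TensorProduct.finsuppScalarLeft A N P).injective
    rw [map_zero]
    apply Finsupp.ext
    intro i
    rw [TensorProduct.finsuppScalarLeft_apply, ← LinearMap.comp_apply, ← LinearMap.rTensor_comp,
      h, Finsupp.zero_apply]
  have h2 : z = LinearMap.rTensor N (Finsupp.linearCombination A id) (LinearMap.rTensor N s z) := by
    rw [← LinearMap.comp_apply, ← LinearMap.rTensor_comp, hs, LinearMap.rTensor_id,
      LinearMap.id_apply]
  rw [h2, h1, map_zero]

end Detect

section Descent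

variable {A : Type u} [CommRing A] (I : Ideal A) (S : Type u) [CommRing S] [Algebra A S]
  (C : Type u) [CommRing C] [Algebra A C]

/-- `x ↦ 1 ⊗ x`, `S ⊗ C → S ⊗ (S ⊗ C)`. -/
noncomputable abbrev j2 : S ⊗[A] C →ₐ[A] S ⊗[A] (S ⊗[A] C) := Algebra.TensorProduct.includeRight

/-- `s ⊗ c ↦ s ⊗ (1 ⊗ c)`, `S ⊗ C → S ⊗ (S ⊗ C)`. -/
noncomputable abbrev j1 : S ⊗[A] C →ₐ[A] S ⊗[A] (S ⊗[A] C) :=
  Algebra.TensorProduct.map (AlgHom.id A S)
    (Algebra.TensorProduct.includeRight : C →ₐ[A] S ⊗[A] C)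

theorem leftComm_j1 (x : S ⊗[A] C) :
    Algebra.TensorProduct.leftComm A S S C (j1 S C x) = j2 S C x := by
  induction x using TensorProduct.induction_on with
  | zero => simp
  | tmul s c =>
    change Algebra.TensorProduct.leftComm A S S C (s ⊗ₜ[A] ((1 : S) ⊗ₜ[A] c)) = _
    rw [Algebra.TensorProduct.leftComm_tmul]
    rfl
  | add x y hx hy => rw [map_add, map_add, hx, hy, map_add]

variable {S C}

omit [Algebra A C] in
theorem algHom_mem_map {T T' : Type u} [CommRing T] [CommRing T'] [Algebra A T] [Algebra A T']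
    (f : T →ₐ[A] T') (J : Ideal A) {y : T} (hy : y ∈ J.map (algebraMap A T)) :
    f y ∈ J.map (algebraMap A T') := by
  have h : J.map (algebraMap A T) ≤ (J.map (algebraMap A T')).comap (f : T →+* T') := by
    rw [Ideal.map_le_iff_le_comap]
    intro a ha
    rw [Ideal.mem_comap, Ideal.mem_comap]
    change f (algebraMap A T a) ∈ _
    rw [f.commutes]
    exact Ideal.mem_map_of_mem _ ha
  exact h hy

omit [Algebra A C] in
theorem linearMap_mem_map {T T' : Type u} [CommRing T] [CommRing T'] [Algebra A T]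
    [Algebra A T'] (f : T →ₗ[A] T') (J : Ideal A) {y : T} (hy : y ∈ J.map (algebraMap A T)) :
    f y ∈ J.map (algebraMap A T') := by
  have h1 : y ∈ J • (⊤ : Submodule A T) := by
    rw [Ideal.smul_top_eq_map]
    exact hy
  have h2 : f y ∈ J • (⊤ : Submodule A T') := by
    refine Submodule.smul_induction_on h1 ?_ ?_
    · intro r hr n _
      rw [map_smul]
      exact Submodule.smul_mem_smul hr Submodule.mem_top
    · intro a b ha hb
      rw [map_add]
      exact add_mem ha hb
  rw [Ideal.smul_top_eq_map] at h2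
  exact h2

variable [Module.Projective A S]

/-- Elements of `⋂ I^n (S ⊗ C')` are killed by `1 - (1 ⊗ e')`. -/
theorem mul_one_sub_j2_eq_zero (e' : S ⊗[A] C) (he' : IsIdempotentElem e')
    (hβ : ∀ y : S ⊗[A] C, (∀ n : ℕ, y ∈ (I ^ n).map (algebraMap A (S ⊗[A] C))) →
      y ∈ Ideal.span {e'})
    (y : S ⊗[A] (S ⊗[A] C))
    (hy : ∀ n : ℕ, y ∈ (I ^ n).map (algebraMap A (S ⊗[A] (S ⊗[A] C)))) :
    y * (1 - j2 S C e') = 0 := by
  apply eq_zero_of_forall_functional
  intro f
  have key : ∀ (t : S ⊗[A] (S ⊗[A] C)) (c' : S ⊗[A] C),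
      (TensorProduct.lid A (S ⊗[A] C)) (LinearMap.rTensor (S ⊗[A] C) f (t * j2 S C c')) =
        (TensorProduct.lid A (S ⊗[A] C)) (LinearMap.rTensor (S ⊗[A] C) f t) * c' := by
    intro t c'
    induction t using TensorProduct.induction_on with
    | zero => simp
    | tmul s d =>
      change (TensorProduct.lid A (S ⊗[A] C)) (LinearMap.rTensor (S ⊗[A] C) f
        ((s ⊗ₜ[A] d) * ((1 : S) ⊗ₜ[A] c'))) = _
      rw [Algebra.TensorProduct.tmul_mul_tmul, mul_one, LinearMap.rTensor_tmul,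
        LinearMap.rTensor_tmul, TensorProduct.lid_tmul, TensorProduct.lid_tmul, smul_mul_assoc]
    | add a b ha hb => rw [add_mul, map_add, map_add, ha, hb, map_add, map_add, add_mul]
  have h1 : y * (1 - j2 S C e') = y * j2 S C (1 - e') := by
    rw [map_sub, map_one]
  rw [h1, key]
  set w := (TensorProduct.lid A (S ⊗[A] C)) (LinearMap.rTensor (S ⊗[A] C) f y) with hw
  have hwmem : w ∈ Ideal.span {e'} := by
    apply hβ
    intro n
    exact linearMap_mem_map
      ((TensorProduct.lid A (S ⊗[A] C)).toLinearMap ∘ₗ LinearMap.rTensor (S ⊗[A] C) f) _ (hy n)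
  obtain ⟨a, ha⟩ := Ideal.mem_span_singleton'.mp hwmem
  rw [← ha, mul_assoc, mul_sub, mul_one, he'.eq, sub_self, mul_zero]

theorem j1_eq_j2_of_idem (e' : S ⊗[A] C) (he' : IsIdempotentElem e')
    (hα : ∀ n : ℕ, e' ∈ (I ^ n).map (algebraMap A (S ⊗[A] C)))
    (hβ : ∀ y : S ⊗[A] C, (∀ n : ℕ, y ∈ (I ^ n).map (algebraMap A (S ⊗[A] C))) →
      y ∈ Ideal.span {e'}) : j1 S C e' = j2 S C e' := by
  have h2 : ∀ y : S ⊗[A] (S ⊗[A] C),
      (∀ n : ℕ, y ∈ (I ^ n).map (algebraMap A (S ⊗[A] (S ⊗[A] C)))) →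
      y * (1 - j2 S C e') = 0 := mul_one_sub_j2_eq_zero I e' he' hβ
  have h1 : ∀ y : S ⊗[A] (S ⊗[A] C),
      (∀ n : ℕ, y ∈ (I ^ n).map (algebraMap A (S ⊗[A] (S ⊗[A] C)))) →
      y * (1 - j1 S C e') = 0 := by
    intro y hy
    have h3 := h2 (Algebra.TensorProduct.leftComm A S S C y) (fun n =>
      algHom_mem_map (Algebra.TensorProduct.leftComm A S S C).toAlgHom _ (hy n))
    apply (Algebra.TensorProduct.leftComm A S S C).injective
    rw [map_mul, map_sub, map_one, leftComm_j1, h3, map_zero]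
  have hj1 : ∀ n : ℕ, j1 S C e' ∈ (I ^ n).map (algebraMap A (S ⊗[A] (S ⊗[A] C))) := fun n =>
    algHom_mem_map (j1 S C) _ (hα n)
  have hj2 : ∀ n : ℕ, j2 S C e' ∈ (I ^ n).map (algebraMap A (S ⊗[A] (S ⊗[A] C))) := fun n =>
    algHom_mem_map (j2 S C) _ (hα n)
  have e1 := h2 _ hj1
  have e2 := h1 _ hj2
  rw [mul_sub, mul_one, sub_eq_zero] at e1 e2
  calc j1 S C e' = j1 S C e' * j2 S C e' := e1
    _ = j2 S C e' * j1 S C e' := mul_comm _ _
    _ = j2 S C e' := e2.symm

theorem exists_descent_idem [Module.FaithfullyFlat A S] (e' : S ⊗[A] C)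
    (he' : IsIdempotentElem e')
    (hα : ∀ n : ℕ, e' ∈ (I ^ n).map (algebraMap A (S ⊗[A] C)))
    (hβ : ∀ y : S ⊗[A] C, (∀ n : ℕ, y ∈ (I ^ n).map (algebraMap A (S ⊗[A] C))) →
      y ∈ Ideal.span {e'}) : ∃ e : C, (1 : S) ⊗ₜ[A] e = e' := by
  have h := j1_eq_j2_of_idem I e' he' hα hβ
  have h1 : TensorProduct.mk A S (S ⊗[A] C) 1 e' =
      LinearMap.lTensor S (TensorProduct.mk A S C 1) e' := by
    have e1 : TensorProduct.mk A S (S ⊗[A] C) 1 e' = j2 S C e' := rfl
    have e2 : ∀ x : S ⊗[A] C, LinearMap.lTensor S (TensorProduct.mk A S C 1) x = j1 S C x := by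
      intro x
      induction x using TensorProduct.induction_on with
      | zero => simp
      | tmul s c => rfl
      | add x y hx hy => rw [map_add, map_add, hx, hy]
    rw [e1, e2, h]
  obtain ⟨e, he⟩ := Groth.Agent.Lib.Helper22.amitsur_mem_range C e' h1
  exact ⟨e, he⟩

end Descent

end Groth.Agent.Lib.R2H7.FormalHom
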