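import Mathlib

/-!
# R2H7QuotGL: quotients of Hopf algebras by ideals generated by `g - 1`, `g` group-like

* `glIdeal g`: the ideal generated by the `g n - 1`; it is a Hopf ideal when the `g n` are group-like.
* `descendBialgHom`: an algebra map which becomes a bialgebra map after composition with a surjective
  bialgebra map is a bialgebra map; `descend_bijective`: a criterion for bijectivity.
* `bcMk`, `pbarAlg`, `pbar`: base change of a quotient by a Hopf ideal and maps out of it.
-/

set_option autoImplicit false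
universe u

namespace Groth.Agent.Lib.R2H7.QuotGL

open TensorProduct Coalgebra

section HopfIdeal

variable {R : Type u} [CommRing R] {A : Type u} [CommRing A] [HopfAlgebra R A]
  {N : Type u} (g : N → A)

/-- The ideal generated by the elements `g n - 1`. -/
def glIdeal : Ideal A := Ideal.span (Set.range fun n => g n - 1)

theorem sub_one_mem_glIdeal (n : N) : g n - 1 ∈ glIdeal g :=
  Ideal.subset_span ⟨n, rfl⟩

theorem mk_g (n : N) : Ideal.Quotient.mk (glIdeal g) (g n) = 1 := by
  have h := Ideal.Quotient.eq_zero_iff_mem.mpr (sub_one_mem_glIdeal g n)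
  rwa [map_sub, map_one, sub_eq_zero] at h

theorem glIdeal_le {X : Type u} [CommRing X] (f : A →+* X) (hf : ∀ n, f (g n) = 1) :
    glIdeal g ≤ RingHom.ker f := by
  refine Ideal.span_le.mpr ?_
  rintro _ ⟨n, rfl⟩
  rw [SetLike.mem_coe, RingHom.mem_ker, map_sub, map_one, hf, sub_self]

variable (hg : ∀ n, IsGroupLikeElem R (g n))
include hg

theorem counit_eq_zero_of_mem {x : A} (hx : x ∈ glIdeal g) : counit (R := R) x = 0 := by
  have h := glIdeal_le g ((Bialgebra.counitAlgHom R A : A →ₐ[R] R) : A →+* R)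
    (fun n => (hg n).counit_eq_one) hx
  have h2 : (Bialgebra.counitAlgHom R A) x = 0 := RingHom.mem_ker.mp h
  exact h2

theorem comul_eq_zero_of_mem {x : A} (hx : x ∈ glIdeal g) :
    ((Algebra.TensorProduct.map (Ideal.Quotient.mkₐ R (glIdeal g))
      (Ideal.Quotient.mkₐ R (glIdeal g))).comp (Bialgebra.comulAlgHom R A)) x = 0 := by
  have h := glIdeal_le g (((Algebra.TensorProduct.map (Ideal.Quotient.mkₐ R (glIdeal g))
      (Ideal.Quotient.mkₐ R (glIdeal g))).comp (Bialgebra.comulAlgHom R A) :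
      A →ₐ[R] (A ⧸ glIdeal g) ⊗[R] (A ⧸ glIdeal g)) : A →+* (A ⧸ glIdeal g) ⊗[R] (A ⧸ glIdeal g))
    (fun n => by
      change Algebra.TensorProduct.map (Ideal.Quotient.mkₐ R (glIdeal g))
        (Ideal.Quotient.mkₐ R (glIdeal g)) (comul (R := R) (g n)) = 1
      rw [(hg n).comul_eq_tmul_self, Algebra.TensorProduct.map_tmul, Ideal.Quotient.mkₐ_eq_mk,
        mk_g, Algebra.TensorProduct.one_def]) hx
  exact RingHom.mem_ker.mp h

theorem antipode_mem_glIdeal {x : A} (hx : x ∈ glIdeal g) :
    HopfAlgebra.antipode R x ∈ glIdeal g := by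
  have h : glIdeal g ≤ (glIdeal g).comap (HopfAlgebra.antipodeAlgHom R A) := by
    refine Ideal.span_le.mpr ?_
    rintro _ ⟨n, rfl⟩
    rw [SetLike.mem_coe, Ideal.mem_comap, map_sub, map_one]
    have h1 : HopfAlgebra.antipodeAlgHom R A (g n) - 1 =
        -(HopfAlgebra.antipode R (g n)) * (g n - 1) := by
      change HopfAlgebra.antipode R (g n) - 1 = _
      have h2 := (hg n).antipode_mul_cancel
      linear_combination h2
    rw [h1]
    exact Ideal.mul_mem_left _ _ (sub_one_mem_glIdeal g n)
  have h3 : HopfAlgebra.antipodeAlgHom R A x ∈ glIdeal g := Ideal.mem_comap.mp (h hx)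
  exact h3

theorem isHopfIdeal_glIdeal : (glIdeal g).IsHopfIdeal R where
  counit_eq_zero := fun _ hx => counit_eq_zero_of_mem g hg hx
  map_mkQ_comul_eq_zero := fun _ hx => comul_eq_zero_of_mem g hg hx
  antipode_mem := fun _ hx => antipode_mem_glIdeal g hg hx

end HopfIdeal

section Descend

variable {K : Type u} [CommRing K] {B Bq C : Type u} [CommRing B] [CommRing Bq] [CommRing C]
  [Bialgebra K B] [Bialgebra K Bq] [Bialgebra K C]
  (ρ : B →ₐc[K] Bq) (hρ : Function.Surjective ρ) (p : B →ₐc[K] C) (pbar : Bq →ₐ[K] C)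
  (hp : ∀ b, pbar (ρ b) = p b)

include hρ hp in
/-- An algebra map which becomes a bialgebra map after composition with a surjective bialgebra map
is a bialgebra map. -/
noncomputable def descendBialgHom : Bq →ₐc[K] C :=
  BialgHom.ofAlgHom pbar
    (by
      apply AlgHom.ext
      intro y
      obtain ⟨b, rfl⟩ := hρ y
      change counit (R := K) (pbar (ρ b)) = counit (R := K) (ρ b)
      rw [hp, CoalgHomClass.counit_comp_apply, CoalgHomClass.counit_comp_apply])
    (by
      apply AlgHom.ext
      intro y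
      obtain ⟨b, rfl⟩ := hρ y
      change Algebra.TensorProduct.map pbar pbar (comul (R := K) (ρ b)) =
        comul (R := K) (pbar (ρ b))
      have h1 : ∀ z : B ⊗[K] B, Algebra.TensorProduct.map pbar pbar
          (TensorProduct.map (ρ : B →ₗ[K] Bq) (ρ : B →ₗ[K] Bq) z) =
          TensorProduct.map (p : B →ₗ[K] C) (p : B →ₗ[K] C) z := by
        intro z
        induction z using TensorProduct.induction_on with
        | zero => simp
        | tmul a b =>
          rw [TensorProduct.map_tmul, TensorProduct.map_tmul, Algebra.TensorProduct.map_tmul]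
          change pbar (ρ a) ⊗ₜ[K] pbar (ρ b) = p a ⊗ₜ[K] p b
          rw [hp, hp]
        | add x y hx hy => rw [map_add, map_add, hx, hy, map_add]
      rw [← CoalgHomClass.map_comp_comul_apply ρ b, h1, CoalgHomClass.map_comp_comul_apply, hp])

include hρ hp in
theorem descendBialgHom_apply (y : Bq) : descendBialgHom ρ hρ p pbar hp y = pbar y := rfl

include hρ hp in
/-- Bijectivity criterion for the descended map. -/
theorem descend_bijective (s : C → B) (hs0 : ρ (s 0) = 0) (hps : ∀ c, p (s c) = c)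
    (hstar : ∀ b, ρ b = ρ (s (p b))) : Function.Bijective pbar := by
  constructor
  · rw [injective_iff_map_eq_zero]
    intro y hy
    obtain ⟨b, rfl⟩ := hρ y
    rw [hp] at hy
    rw [hstar b, hy, hs0]
  · intro c
    exact ⟨ρ (s c), by rw [hp, hps]⟩

end Descend

section BCQuot

variable (R : Type u) [CommRing R] {A : Type u} [CommRing A] [HopfAlgebra R A]
  (J : Ideal A) [J.IsHopfIdeal R]
  (T : Type u) [CommRing T] [Algebra R T]
  {C : Type u} [CommRing C] [Bialgebra T C] [Algebra R C] [IsScalarTower R T C]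

/-- `T ⊗ mk`. -/
noncomputable def bcMk : T ⊗[R] A →ₐc[T] T ⊗[R] (A ⧸ J) :=
  Bialgebra.TensorProduct.map (BialgHom.id T T) (Bialgebra.Quotient.mkBialgHom J)

theorem bcMk_tmul (c : T) (a : A) :
    bcMk R J T (c ⊗ₜ[R] a) = c ⊗ₜ[R] Ideal.Quotient.mk J a := rfl

theorem bcMk_surjective : Function.Surjective (bcMk R J T) := by
  intro y
  induction y using TensorProduct.induction_on with
  | zero => exact ⟨0, map_zero _⟩
  | tmul c a =>
    obtain ⟨a', rfl⟩ := Ideal.Quotient.mk_surjective a
    exact ⟨c ⊗ₜ[R] a', rfl⟩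
  | add x y hx hy =>
    obtain ⟨x', rfl⟩ := hx
    obtain ⟨y', rfl⟩ := hy
    exact ⟨x' + y', map_add _ _ _⟩

variable (p : T ⊗[R] A →ₐc[T] C) (hp : ∀ a ∈ J, p ((1 : T) ⊗ₜ[R] a) = 0)

/-- `a ↦ p (1 ⊗ a)`. -/
noncomputable def p0 : A →ₐ[R] C :=
  ((p : T ⊗[R] A →ₐ[T] C).restrictScalars R).comp Algebra.TensorProduct.includeRight

theorem p0_apply (a : A) : p0 R T p a = p ((1 : T) ⊗ₜ[R] a) := rfl

/-- The map induced by `p` on the base change of the quotient, as an algebra map. -/
noncomputable def pbarAlg : T ⊗[R] (A ⧸ J) →ₐ[T] C :=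
  Algebra.TensorProduct.lift (Algebra.ofId T C)
    (Ideal.Quotient.liftₐ J (p0 R T p) (fun a ha => hp a ha)) (fun _ _ => Commute.all _ _)

theorem pbarAlg_tmul (c : T) (a : A) :
    pbarAlg R J T p hp (c ⊗ₜ[R] Ideal.Quotient.mk J a) = p (c ⊗ₜ[R] a) := by
  rw [pbarAlg, Algebra.TensorProduct.lift_tmul, Ideal.Quotient.liftₐ_apply, Ideal.Quotient.lift_mk,
    Algebra.ofId_apply, ← Algebra.smul_def]
  change c • p ((1 : T) ⊗ₜ[R] a) = _
  rw [← map_smul, TensorProduct.smul_tmul', smul_eq_mul, mul_one]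

theorem pbarAlg_bcMk (b : T ⊗[R] A) : pbarAlg R J T p hp (bcMk R J T b) = p b := by
  induction b using TensorProduct.induction_on with
  | zero => simp
  | tmul c a => rw [bcMk_tmul, pbarAlg_tmul]
  | add x y hx hy => rw [map_add, map_add, hx, hy, map_add]

/-- The map induced by `p` on the base change of the quotient. -/
noncomputable def pbar : T ⊗[R] (A ⧸ J) →ₐc[T] C :=
  descendBialgHom (bcMk R J T) (bcMk_surjective R J T) p (pbarAlg R J T p hp) (pbarAlg_bcMk R J T p hp)

theorem pbar_bcMk (b : T ⊗[R] A) : pbar R J T p hp (bcMk R J T b) = p b :=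
  pbarAlg_bcMk R J T p hp b

theorem pbar_bijective (s : C → T ⊗[R] A) (hs0 : bcMk R J T (s 0) = 0) (hps : ∀ c, p (s c) = c)
    (hstar : ∀ b, bcMk R J T b = bcMk R J T (s (p b))) : Function.Bijective (pbar R J T p hp) :=
  descend_bijective (bcMk R J T) (bcMk_surjective R J T) p (pbarAlg R J T p hp) (pbarAlg_bcMk R J T p hp)
    s hs0 hps hstar

end BCQuot

end Groth.Agent.Lib.R2H7.QuotGL
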