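import Mathlib
import Groth.Prelude.Def_SGA3b
import Groth.Agent.Lib.R2H7FormalHom6
import Groth.Agent.Lib.R2H7FormalHom7
import Groth.Agent.Lib.R2H7QuotGL
import Groth.Agent.Lib.Helper25TakeuchiCor

/-!
# R2H7FormalHom8: descent of the open and closed subgroup

`S` faithfully flat over `A`, `C` a Hopf algebra over `A`, `Φ : S ⊗ C → S[M]` a surjective bialgebra map whose
kernel is generated by an idempotent `1 ⊗ e`.  Then `e` is idempotent, `(e)` is a Hopf ideal of `C` and
`S ⊗ (C/(e)) ≃ S[M]`.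
-/

set_option autoImplicit false
universe u

namespace Groth.Agent.Lib.R2H7.FormalHom

open TensorProduct Coalgebra SGA3b Groth.Agent.Lib.Helper25

section Desc

variable {A : Type u} [CommRing A] {C : Type u} [CommRing C] [HopfAlgebra A C]
  (S : Type u) [CommRing S] [Algebra A S] [Module.FaithfullyFlat A S]

theorem one_tmul_injective {x y : C} (h : (1 : S) ⊗ₜ[A] x = (1 : S) ⊗ₜ[A] y) :
    x = y :=
  Module.FaithfullyFlat.tensorProduct_mk_injective (A := A) (B := S) C h

theorem isIdempotentElem_of_one_tmul {e : C}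
    (he' : IsIdempotentElem ((1 : S) ⊗ₜ[A] e)) : IsIdempotentElem e := by
  apply one_tmul_injective (A := A) S
  have h1 : (1 : S) ⊗ₜ[A] (e * e) = ((1 : S) ⊗ₜ[A] e) * ((1 : S) ⊗ₜ[A] e) := by
    rw [Algebra.TensorProduct.tmul_mul_tmul, one_mul]
  rw [h1, he'.eq]

theorem mem_map_of_one_tmul_mem (I : Ideal A) {e : C}
    (h : (1 : S) ⊗ₜ[A] e ∈ I.map (algebraMap A (S ⊗[A] C))) : e ∈ I.map (algebraMap A C) := by
  have h1 : (1 : S) ⊗ₜ[A] e ∈ I • (⊤ : Submodule A (S ⊗[A] C)) := by
    rw [Ideal.smul_top_eq_map]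
    exact h
  set N : Submodule A C := I • (⊤ : Submodule A C) with hN
  have h2 : ∀ t ∈ I • (⊤ : Submodule A (S ⊗[A] C)), LinearMap.lTensor S N.mkQ t = 0 := by
    intro t ht
    refine Submodule.smul_induction_on ht ?_ ?_
    · intro r hr n _
      rw [map_smul]
      generalize LinearMap.lTensor S N.mkQ n = w
      induction w using TensorProduct.induction_on with
      | zero => simp
      | tmul s c =>
        obtain ⟨c, rfl⟩ := N.mkQ_surjective c
        rw [TensorProduct.smul_tmul', TensorProduct.smul_tmul, ← map_smul]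
        have : N.mkQ (r • c) = 0 := by
          rw [Submodule.mkQ_apply, Submodule.Quotient.mk_eq_zero]
          exact Submodule.smul_mem_smul hr Submodule.mem_top
        rw [this, TensorProduct.tmul_zero]
      | add x y hx hy => rw [smul_add, hx, hy, add_zero]
    · intro a b ha hb
      rw [map_add, ha, hb, add_zero]
  have h3 := h2 _ h1
  rw [LinearMap.lTensor_tmul] at h3
  have h4 : N.mkQ e = 0 := by
    apply Module.FaithfullyFlat.tensorProduct_mk_injective (A := A) (B := S) (C ⧸ N)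
    rw [map_zero]
    exact h3
  rw [Submodule.mkQ_apply, Submodule.Quotient.mk_eq_zero] at h4
  have h5 := h4
  rw [hN, Ideal.smul_top_eq_map] at h5
  exact h5

variable {B : Type u} [CommRing B] [HopfAlgebra S B]
  (Φ : S ⊗[A] C →ₐc[S] B) (hsurj : Function.Surjective Φ)
  (e : C) (he' : IsIdempotentElem ((1 : S) ⊗ₜ[A] e))
  (hker : ∀ y, y ∈ Ideal.span {(1 : S) ⊗ₜ[A] e} ↔ Φ y = 0)

include hker in
theorem map_one_tmul_e : Φ ((1 : S) ⊗ₜ[A] e) = 0 :=
  (hker _).mp (Ideal.mem_span_singleton_self _)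

include hker he' in
theorem mul_one_sub_eq_zero_of_map_eq_zero {y : S ⊗[A] C} (hy : Φ y = 0) :
    y * (1 - (1 : S) ⊗ₜ[A] e) = 0 := by
  obtain ⟨a, ha⟩ := Ideal.mem_span_singleton'.mp ((hker y).mpr hy)
  rw [← ha, mul_assoc, mul_sub, mul_one, he'.eq, sub_self, mul_zero]

include hker in
theorem counit_e : counit (R := A) e = 0 := by
  apply FaithfulSMul.algebraMap_injective A S
  rw [map_zero]
  have h1 : counit (R := S) ((1 : S) ⊗ₜ[A] e) = algebraMap A S (counit (R := A) e) := by
    rw [TensorProduct.counit_tmul, CommSemiring.counit_apply, Algebra.smul_def, mul_one]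
  rw [← h1, ← CoalgHomClass.counit_comp_apply Φ, map_one_tmul_e S Φ e hker, map_zero]

include hker he' in
theorem antipode_e_mul : HopfAlgebra.antipode A e * (1 - e) = 0 := by
  apply one_tmul_injective (A := A) S
  rw [TensorProduct.tmul_zero]
  have h1 : HopfAlgebra.antipode S ((1 : S) ⊗ₜ[A] e) = (1 : S) ⊗ₜ[A] HopfAlgebra.antipode A e := by
    rw [TensorProduct.antipode_def]
    change HopfAlgebra.antipode S (1 : S) ⊗ₜ[A] HopfAlgebra.antipode A e = _
    rw [HopfAlgebra.antipode_one]
  have h2 : Φ (HopfAlgebra.antipode S ((1 : S) ⊗ₜ[A] e)) = 0 := by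
    rw [bialgHom_antipode, map_one_tmul_e S Φ e hker, map_zero]
  have h3 := mul_one_sub_eq_zero_of_map_eq_zero S Φ e he' hker h2
  rw [h1] at h3
  have h4 : (1 : S) ⊗ₜ[A] (HopfAlgebra.antipode A e * (1 - e)) =
      ((1 : S) ⊗ₜ[A] HopfAlgebra.antipode A e) * (1 - (1 : S) ⊗ₜ[A] e) := by
    rw [mul_sub, mul_one, mul_sub, mul_one, TensorProduct.tmul_sub,
      Algebra.TensorProduct.tmul_mul_tmul, one_mul]
  rw [h4, h3]

omit [Module.FaithfullyFlat A S] in
theorem bcMap2_mul (z w : C ⊗[A] C) :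
    bcMap2 S C (z * w) = bcMap2 S C z * bcMap2 S C w := by
  induction z using TensorProduct.induction_on with
  | zero => simp
  | tmul a b =>
    induction w using TensorProduct.induction_on with
    | zero => simp
    | tmul a' b' =>
      rw [Algebra.TensorProduct.tmul_mul_tmul, bcMap2_tmul, bcMap2_tmul, bcMap2_tmul,
        Algebra.TensorProduct.tmul_mul_tmul, Algebra.TensorProduct.tmul_mul_tmul,
        Algebra.TensorProduct.tmul_mul_tmul, one_mul]
    | add x y hx hy => rw [mul_add, map_add, hx, hy, map_add, mul_add]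
  | add x y hx hy => rw [add_mul, map_add, hx, hy, map_add, add_mul]

include hker he' hsurj in
theorem comul_e_mul :
    comul (R := A) e * ((1 - e) ⊗ₜ[A] (1 - e)) = 0 := by
  apply Groth.Agent.Lib.R2H7.GLLift.bcMap2_injective S
  rw [map_zero, bcMap2_mul, ← comul_one_tmul, bcMap2_tmul]
  have h1 := Groth.Agent.Lib.R2H7.HopfIdem.comul_mem_of_map_eq_zero Φ hsurj
    (map_one_tmul_e S Φ e hker)
  obtain ⟨t₁, ⟨s₁, rfl⟩, t₂, ⟨s₂, rfl⟩, ht⟩ := Submodule.mem_sup.mp h1
  rw [← ht, add_mul]
  clear ht h1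
  have e0 : (1 : S) ⊗ₜ[A] (1 - e) = 1 - (1 : S) ⊗ₜ[A] e := by
    rw [TensorProduct.tmul_sub]; rfl
  have e1 : LinearMap.lTensor (S ⊗[A] C) (Groth.Agent.Lib.R2H7.HopfIdem.kerS Φ).subtype s₁ *
      (((1 : S) ⊗ₜ[A] (1 - e)) ⊗ₜ[S] ((1 : S) ⊗ₜ[A] (1 - e))) = 0 := by
    induction s₁ using TensorProduct.induction_on with
    | zero => simp
    | tmul c k =>
      rw [LinearMap.lTensor_tmul, Algebra.TensorProduct.tmul_mul_tmul]
      have : (Groth.Agent.Lib.R2H7.HopfIdem.kerS Φ).subtype k * ((1 : S) ⊗ₜ[A] (1 - e)) = 0 := by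
        rw [e0]
        exact mul_one_sub_eq_zero_of_map_eq_zero S Φ e he' hker k.2
      rw [this, TensorProduct.tmul_zero]
    | add x y hx hy => rw [map_add, add_mul, hx, hy, add_zero]
  have e2 : LinearMap.rTensor (S ⊗[A] C) (Groth.Agent.Lib.R2H7.HopfIdem.kerS Φ).subtype s₂ *
      (((1 : S) ⊗ₜ[A] (1 - e)) ⊗ₜ[S] ((1 : S) ⊗ₜ[A] (1 - e))) = 0 := by
    induction s₂ using TensorProduct.induction_on with
    | zero => simp
    | tmul k c =>
      rw [LinearMap.rTensor_tmul, Algebra.TensorProduct.tmul_mul_tmul]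
      have : (Groth.Agent.Lib.R2H7.HopfIdem.kerS Φ).subtype k * ((1 : S) ⊗ₜ[A] (1 - e)) = 0 := by
        rw [e0]
        exact mul_one_sub_eq_zero_of_map_eq_zero S Φ e he' hker k.2
      rw [this, TensorProduct.zero_tmul]
    | add x y hx hy => rw [map_add, add_mul, hx, hy, add_zero]
  rw [e1, e2, add_zero]

omit [Module.FaithfullyFlat A S] in
theorem map_mkQ_eq (J : Ideal C) (t : C ⊗[A] C) :
    TensorProduct.map (J.restrictScalars A).mkQ (J.restrictScalars A).mkQ t =
      Algebra.TensorProduct.map (Ideal.Quotient.mkₐ A J) (Ideal.Quotient.mkₐ A J) t := by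
  induction t using TensorProduct.induction_on with
  | zero => rw [map_zero, map_zero]; rfl
  | tmul a b => rfl
  | add x y hx hy => rw [map_add, map_add, hx, hy]; rfl

include hker he' hsurj in
theorem isHopfIdeal_span : (Ideal.span {e}).IsHopfIdeal A where
  counit_eq_zero := by
    intro x hx
    obtain ⟨a, rfl⟩ := Ideal.mem_span_singleton'.mp hx
    rw [Bialgebra.counit_mul, counit_e S Φ e hker, mul_zero]
  map_mkQ_comul_eq_zero := by
    intro x hx
    obtain ⟨a, rfl⟩ := Ideal.mem_span_singleton'.mp hx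
    set J : Ideal C := Ideal.span {e} with hJ
    have h5 := map_mkQ_eq (A := A) J (comul (R := A) (a * e))
    have h2 : Algebra.TensorProduct.map (Ideal.Quotient.mkₐ A J) (Ideal.Quotient.mkₐ A J)
        (comul (R := A) e) = 0 := by
      have h3 : Algebra.TensorProduct.map (Ideal.Quotient.mkₐ A J) (Ideal.Quotient.mkₐ A J)
          ((1 - e) ⊗ₜ[A] (1 - e)) = 1 := by
        rw [Algebra.TensorProduct.map_tmul]
        have : Ideal.Quotient.mkₐ A J (1 - e) = 1 := by
          rw [map_sub, map_one]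
          have : Ideal.Quotient.mkₐ A J e = 0 :=
            Ideal.Quotient.eq_zero_iff_mem.mpr (Ideal.mem_span_singleton_self e)
          rw [this, sub_zero]
        rw [this]
        rfl
      have h4 := congrArg (Algebra.TensorProduct.map (Ideal.Quotient.mkₐ A J)
        (Ideal.Quotient.mkₐ A J)) (comul_e_mul S Φ hsurj e he' hker)
      rw [map_mul, h3, mul_one, map_zero] at h4
      exact h4
    have h6 : Algebra.TensorProduct.map (Ideal.Quotient.mkₐ A J) (Ideal.Quotient.mkₐ A J)
        (comul (R := A) (a * e)) = 0 := by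
      rw [Bialgebra.comul_mul, map_mul, h2, mul_zero]
    rw [h6] at h5
    exact h5
  antipode_mem := by
    intro x hx
    obtain ⟨a, rfl⟩ := Ideal.mem_span_singleton'.mp hx
    rw [HopfAlgebra.antipode_mul_distrib]
    apply Ideal.mul_mem_left
    have h1 := antipode_e_mul S Φ e he' hker
    rw [mul_sub, mul_one, sub_eq_zero] at h1
    rw [h1]
    exact Ideal.mul_mem_left _ _ (Ideal.mem_span_singleton_self e)

end Desc

end Groth.Agent.Lib.R2H7.FormalHom
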