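import Mathlib
import Groth.Prelude.Def_CartDual
import Groth.Agent.Lib.Helper25BCComod

/-!
# R2H7CartBC: the dual Hopf algebra commutes with base change

For a Hopf algebra `A` over `R`, finite projective as a module, and an `R`-algebra `S`:
`S ⊗[R] D R A ≃ₐ[S] D S (S ⊗[R] A)` (`bcDEquiv`), the convolution algebras of linear forms.

* `evS`: the `S`-linear form on `S ⊗ A` induced by a linear form on `A`; `evS_one`, `evS_mul`.
* `bcAlg : D R A →ₐ[R] D S (S ⊗[R] A)`, `bcD`, `bcD_bijective`, `bcDEquiv`.
-/

set_option autoImplicit false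
universe u

namespace Groth.Agent.Lib.R2H7.CartBC

open TensorProduct CartDual WithConv

section Pairing

variable (R : Type u) [CommRing R] (A : Type u) [CommRing A] [HopfAlgebra R A]
  (S : Type u) [CommRing S] [Algebra R S]

/-- The `S`-linear form on `S ⊗ A` induced by a linear form on `A`. -/
noncomputable def evS (x : A →ₗ[R] R) : S ⊗[R] A →ₗ[S] S :=
  (TensorProduct.AlgebraTensorModule.rid R S S).toLinearMap ∘ₗ
    TensorProduct.AlgebraTensorModule.map (LinearMap.id : S →ₗ[S] S) x

variable {R A S}

theorem evS_tmul (x : A →ₗ[R] R) (s : S) (a : A) : evS R A S x (s ⊗ₜ[R] a) = x a • s := by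
  simp [evS]

theorem evS_eq (x : A →ₗ[R] R) (g : S ⊗[R] A) :
    evS R A S x g = TensorProduct.rid R S ((x.lTensor S) g) := by
  induction g using TensorProduct.induction_on with
  | zero => simp
  | tmul r a => rw [evS_tmul, LinearMap.lTensor_tmul, TensorProduct.rid_tmul]
  | add g h hg hh => rw [map_add, hg, hh, map_add, map_add]

theorem evS_add (x y : A →ₗ[R] R) (g : S ⊗[R] A) :
    evS R A S (x + y) g = evS R A S x g + evS R A S y g := by
  rw [evS_eq, evS_eq, evS_eq, LinearMap.lTensor_add, LinearMap.add_apply, map_add]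

theorem evS_smul (c : R) (x : A →ₗ[R] R) (g : S ⊗[R] A) :
    evS R A S (c • x) g = c • evS R A S x g := by
  rw [evS_eq, evS_eq, LinearMap.lTensor_smul, LinearMap.smul_apply, map_smul]

/-- `S`-linear maps out of `S ⊗ A` agreeing on `1 ⊗ a` are equal. -/
theorem ext_one_tmul {N : Type*} [AddCommGroup N] [Module S N] {f f' : S ⊗[R] A →ₗ[S] N}
    (h : ∀ a : A, f ((1 : S) ⊗ₜ[R] a) = f' ((1 : S) ⊗ₜ[R] a)) : f = f' := by
  apply LinearMap.ext
  intro g
  induction g using TensorProduct.induction_on with
  | zero => simp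
  | tmul r a =>
    have h1 : r ⊗ₜ[R] a = r • ((1 : S) ⊗ₜ[R] a) := by
      rw [TensorProduct.smul_tmul', smul_eq_mul, _root_.mul_one]
    rw [h1, map_smul, map_smul, h]
  | add g g' hg hg' => rw [map_add, map_add, hg, hg']

theorem evS_one (g : S ⊗[R] A) :
    evS R A S (1 : D R A).ofConv g = Coalgebra.counit (R := S) g := by
  have h : evS R A S (1 : D R A).ofConv = Coalgebra.counit (R := S) (A := S ⊗[R] A) := by
    apply ext_one_tmul
    intro a
    rw [evS_tmul, TensorProduct.counit_tmul]
    rfl
  rw [h]

theorem mul_map_evS_bcMapG (x y : A →ₗ[R] R) (z : A ⊗[R] A) :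
    LinearMap.mul' S S (TensorProduct.map (evS R A S x) (evS R A S y)
      (Groth.Agent.Lib.Helper25.bcMapG R S A A z)) =
      algebraMap R S (LinearMap.mul' R R (TensorProduct.map x y z)) := by
  induction z using TensorProduct.induction_on with
  | zero => simp
  | tmul a b =>
    rw [Groth.Agent.Lib.Helper25.bcMapG_tmul, TensorProduct.map_tmul, LinearMap.mul'_apply,
      evS_tmul, evS_tmul, TensorProduct.map_tmul, LinearMap.mul'_apply, map_mul,
      Algebra.algebraMap_eq_smul_one, Algebra.algebraMap_eq_smul_one]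
  | add z z' hz hz' => rw [map_add, map_add, map_add, hz, hz', map_add, map_add, map_add]

theorem evS_mul (x y : D R A) (g : S ⊗[R] A) :
    evS R A S (x * y).ofConv g =
      LinearMap.mul' S S (TensorProduct.map (evS R A S x.ofConv) (evS R A S y.ofConv)
        (Coalgebra.comul (R := S) g)) := by
  have h : evS R A S (x * y).ofConv =
      (LinearMap.mul' S S) ∘ₗ (TensorProduct.map (evS R A S x.ofConv) (evS R A S y.ofConv)) ∘ₗ
        (Coalgebra.comul (R := S) (A := S ⊗[R] A)) := by
    apply ext_one_tmul
    intro a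
    rw [LinearMap.comp_apply, LinearMap.comp_apply,
      Groth.Agent.Lib.Helper25.comul_one_tmul', mul_map_evS_bcMapG, evS_tmul,
      Algebra.algebraMap_eq_smul_one]
    rfl
  rw [h]
  rfl

end Pairing

section BC

variable (R : Type u) [CommRing R] (A : Type u) [CommRing A] [HopfAlgebra R A]
  (S : Type u) [CommRing S] [Algebra R S]

instance isScalarTower_D : IsScalarTower R S (D S (S ⊗[R] A)) :=
  ⟨fun r s x => by
    apply WithConv.ext
    apply LinearMap.ext
    intro b
    change (r • s) • x.ofConv b = r • (s • x.ofConv b)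
    rw [smul_assoc]⟩

/-- Base change of linear forms, as a linear map of the convolution algebras. -/
noncomputable def bcLin : D R A →ₗ[R] D S (S ⊗[R] A) where
  toFun x := toConv (evS R A S x.ofConv)
  map_add' x y := by
    apply WithConv.ext
    apply LinearMap.ext
    intro g
    exact evS_add x.ofConv y.ofConv g
  map_smul' c x := by
    apply WithConv.ext
    apply LinearMap.ext
    intro g
    exact evS_smul c x.ofConv g

theorem bcLin_ofConv (x : D R A) : (bcLin R A S x).ofConv = evS R A S x.ofConv := rfl

/-- Base change of linear forms, as an algebra map of the convolution algebras. -/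
noncomputable def bcAlg : D R A →ₐ[R] D S (S ⊗[R] A) :=
  AlgHom.ofLinearMap (bcLin R A S)
    (by
      apply WithConv.ext
      apply LinearMap.ext
      intro g
      rw [bcLin_ofConv, evS_one]
      rfl)
    (fun x y => by
      apply WithConv.ext
      apply LinearMap.ext
      intro g
      rw [bcLin_ofConv, evS_mul]
      rfl)

theorem bcAlg_ofConv (x : D R A) : (bcAlg R A S x).ofConv = evS R A S x.ofConv := rfl

/-- The comparison map `S ⊗ D(A) → D(S ⊗ A)`. -/
noncomputable def bcD : S ⊗[R] D R A →ₐ[S] D S (S ⊗[R] A) :=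
  Algebra.TensorProduct.lift (Algebra.ofId S _) (bcAlg R A S) (fun s _ => Algebra.commutes s _)

theorem bcD_tmul (s : S) (x : D R A) : bcD R A S (s ⊗ₜ[R] x) = s • bcAlg R A S x := by
  rw [bcD, Algebra.TensorProduct.lift_tmul, Algebra.ofId_apply, Algebra.smul_def]

variable [Module.Finite R A] [Module.Projective R A]

/-- The chain of linear equivalences underlying `bcD`. -/
noncomputable def chain : S ⊗[R] D R A ≃ₗ[R] D S (S ⊗[R] A) :=
  (TensorProduct.congr (LinearEquiv.refl R S) (toDual R A)) ≪≫ₗ
    (lTensorHomEquivHomLTensor R A S R) ≪≫ₗ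
    (LinearEquiv.congrRight (TensorProduct.rid R S)) ≪≫ₗ
    ((LinearMap.liftBaseChangeEquiv S).restrictScalars R) ≪≫ₗ
    ((toDual S (S ⊗[R] A)).symm.restrictScalars R)

theorem bcD_eq_chain (z : S ⊗[R] D R A) : bcD R A S z = chain R A S z := by
  induction z using TensorProduct.induction_on with
  | zero => simp
  | add x y hx hy => rw [map_add, map_add, hx, hy]
  | tmul s x =>
    rw [bcD_tmul]
    apply WithConv.ext
    apply ext_one_tmul
    intro a
    simp [chain, bcAlg_ofConv, evS_tmul]
    change x.ofConv a • s = TensorProduct.rid R S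
      (lTensorHomToHomLTensor (RingHom.id R) A S R (s ⊗ₜ[R] x.ofConv) a)
    rw [lTensorHomToHomLTensor_apply, TensorProduct.rid_tmul]

theorem bcD_bijective : Function.Bijective (bcD R A S) := by
  have h : ⇑(bcD R A S) = ⇑(chain R A S) := funext (bcD_eq_chain R A S)
  rw [h]
  exact (chain R A S).bijective

/-- The dual Hopf algebra commutes with base change (as algebras). -/
noncomputable def bcDEquiv : S ⊗[R] D R A ≃ₐ[S] D S (S ⊗[R] A) :=
  AlgEquiv.ofBijective (bcD R A S) (bcD_bijective R A S)

end BC

end Groth.Agent.Lib.R2H7.CartBC
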