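import Mathlib
import Groth.Prelude.Def_CartDual
import Groth.Prelude.Def_SGA3b

/-!
# R2H7CartDiag: a finite locally free Hopf algebra over a connected ring whose dual is split
is diagonalisable

`isDiag_of_dual_split`: `S` nontrivial with only trivial idempotents, `B` a commutative Hopf algebra
over `S`, finite projective, `e : D S B ≃ₐ[S] (Fin n → S)`.  Then `B ≅ S[G]` with `G` the group of
group-like elements of `B`: the basis of `B` dual to the idempotent basis of `D S B` consists of
group-like elements, and these are all the group-like elements.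
-/

set_option autoImplicit false
universe u

namespace Groth.Agent.Lib.R2H7.CartDiag

open TensorProduct CartDual WithConv Coalgebra

section Main

variable {S : Type u} [CommRing S] {B : Type u} [CommRing B] [HopfAlgebra S B]
  [Module.Finite S B] [Module.Projective S B] {n : ℕ} (e : D S B ≃ₐ[S] (Fin n → S))

/-- Evaluation at `a`, as a linear form on the dual. -/
noncomputable def evAt (a : B) : D S B →ₗ[S] S :=
  LinearMap.applyₗ a ∘ₗ (toDual S B).toLinearMap

@[simp] theorem evAt_apply (a : B) (x : D S B) : evAt a x = x a := rfl

/-- The idempotents of the split dual. -/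
noncomputable def iota (i : Fin n) : D S B := e.symm (Pi.single i 1)

theorem iota_mul (i j : Fin n) : iota e i * iota e j = if i = j then iota e i else 0 := by
  unfold iota
  rw [← map_mul]
  by_cases h : i = j
  · subst h
    rw [if_pos rfl]
    congr 1
    funext k
    by_cases hk : k = i
    · subst hk; simp
    · simp [Pi.single_apply, hk]
  · rw [if_neg h, ← map_zero e.symm]
    congr 1
    funext k
    by_cases hk : k = i
    · subst hk
      simp [Pi.single_apply, h]
    · simp [Pi.single_apply, hk]

theorem sum_iota : ∑ i, iota e i = 1 := by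
  unfold iota
  rw [← map_sum, Finset.univ_sum_single, ← map_one e.symm]
  rfl

/-- The basis of the dual given by the idempotents. -/
noncomputable def bD : Module.Basis (Fin n) S (D S B) :=
  (Pi.basisFun S (Fin n)).map e.symm.toLinearEquiv

theorem bD_apply (i : Fin n) : bD e i = iota e i := by
  simp [bD, iota]

/-- The same basis, in `Module.Dual S B`. -/
noncomputable def bD' : Module.Basis (Fin n) S (Module.Dual S B) := (bD e).map (toDual S B)

theorem bD'_apply (i : Fin n) (a : B) : bD' e i a = iota e i a := by
  simp [bD', bD_apply]

/-- The dual basis of `B`. -/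
noncomputable def gB : Module.Basis (Fin n) S B :=
  (bD' e).dualBasis.map (Module.evalEquiv S B).symm

theorem iota_gB (i j : Fin n) : iota e i (gB e j) = if i = j then 1 else 0 := by
  rw [← bD'_apply]
  unfold gB
  rw [Module.Basis.map_apply, Module.apply_evalEquiv_symm_apply, Module.Basis.dualBasis_apply_self]

theorem repr_gB (a : B) (i : Fin n) : (gB e).repr a i = iota e i a := by
  have h : (Finsupp.lapply i) ∘ₗ (gB e).repr.toLinearMap = (iota e i).ofConv := by
    apply (gB e).ext
    intro j
    rw [LinearMap.comp_apply, LinearEquiv.coe_coe, Module.Basis.repr_self, Finsupp.lapply_apply,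
      Finsupp.single_apply]
    rw [show ((iota e i).ofConv) (gB e j) = iota e i (gB e j) from rfl, iota_gB]
    by_cases hij : j = i
    · subst hij
      simp
    · rw [if_neg hij, if_neg (Ne.symm hij)]
  exact LinearMap.congr_fun h a

/-- Coordinates on `B ⊗ B`. -/
theorem repr_tensor (z : B ⊗[S] B) (i j : Fin n) :
    ((gB e).tensorProduct (gB e)).repr z (i, j) =
      LinearMap.mul' S S (TensorProduct.map (iota e i).ofConv (iota e j).ofConv z) := by
  induction z using TensorProduct.induction_on with
  | zero => simp
  | tmul a a' =>
    rw [Module.Basis.tensorProduct_repr_tmul_apply, repr_gB, repr_gB, TensorProduct.map_tmul,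
      LinearMap.mul'_apply, smul_eq_mul, mul_comm]
  | add x y hx hy =>
    rw [map_add, Finsupp.add_apply, hx, hy, map_add, map_add]

theorem repr_comul (a : B) (i j : Fin n) :
    ((gB e).tensorProduct (gB e)).repr (comul (R := S) a) (i, j) =
      if i = j then iota e i a else 0 := by
  rw [repr_tensor, ← LinearMap.convMul_apply, iota_mul]
  split_ifs
  · rfl
  · rfl

theorem counit_eq_sum (a : B) : counit (R := S) a = ∑ i, iota e i a := by
  have h1 : (1 : D S B) a = counit (R := S) a := by
    rw [LinearMap.convOne_apply]
    rfl
  rw [← h1, ← sum_iota e, ← evAt_apply, map_sum]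
  rfl

theorem isGroupLikeElem_gB (l : Fin n) : IsGroupLikeElem S (gB e l) where
  counit_eq_one := by
    rw [counit_eq_sum e]
    simp_rw [iota_gB]
    simp
  comul_eq_tmul_self := by
    apply ((gB e).tensorProduct (gB e)).ext_elem
    rintro ⟨i, j⟩
    rw [repr_comul, Module.Basis.tensorProduct_repr_tmul_apply, repr_gB, repr_gB, iota_gB,
      iota_gB, smul_eq_mul]
    by_cases hij : i = j
    · subst hij
      by_cases hil : i = l
      · simp [hil]
      · simp [hil]
    · by_cases hil : i = l
      · subst hil
        simp [hij, Ne.symm hij]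
      · simp [hij, hil]

theorem exists_eq_gB [Nontrivial S] (hconn : ∀ c : S, IsIdempotentElem c → c = 0 ∨ c = 1)
    {g : B} (hg : IsGroupLikeElem S g) : ∃ l, g = gB e l := by
  have hmul : ∀ i j, iota e i g * iota e j g = if i = j then iota e i g else 0 := by
    intro i j
    rw [← repr_comul, hg.comul_eq_tmul_self, Module.Basis.tensorProduct_repr_tmul_apply, repr_gB,
      repr_gB, smul_eq_mul, mul_comm]
  have hsum : ∑ i, iota e i g = 1 := by
    rw [← counit_eq_sum e, hg.counit_eq_one]
  have hidem : ∀ i, iota e i g = 0 ∨ iota e i g = 1 := fun i =>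
    hconn _ (by
      have := hmul i i
      rwa [if_pos rfl] at this)
  have hex : ∃ l, iota e l g = 1 := by
    by_contra hne
    push Not at hne
    have : ∀ i, iota e i g = 0 := fun i => (hidem i).resolve_right (hne i)
    rw [Finset.sum_eq_zero (fun i _ => this i)] at hsum
    exact zero_ne_one hsum
  obtain ⟨l, hl⟩ := hex
  refine ⟨l, ?_⟩
  apply (gB e).ext_elem
  intro i
  rw [repr_gB, repr_gB, iota_gB]
  by_cases hil : i = l
  · subst hil
    rw [if_pos rfl, hl]
  · rw [if_neg hil]
    have := hmul i l
    rwa [if_neg hil, hl, mul_one] at this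


section Diag

variable [Nontrivial S] (hconn : ∀ c : S, IsIdempotentElem c → c = 0 ∨ c = 1)

/-- The group-like elements of `B`, indexed by `Fin n`. -/
noncomputable def gamma (i : Fin n) : GroupLike S B := ⟨gB e i, isGroupLikeElem_gB e i⟩

include hconn in
theorem gamma_bijective : Function.Bijective (gamma e) := by
  constructor
  · intro i j hij
    have h : gB e i = gB e j := congrArg GroupLike.val hij
    exact (gB e).injective h
  · intro g
    obtain ⟨l, hl⟩ := exists_eq_gB e hconn g.isGroupLikeElem_val
    exact ⟨l, GroupLike.val_injective hl.symm⟩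

/-- The linear equivalence `S[G] ≃ B` matching the two bases. -/
noncomputable def Psi : MonoidAlgebra S (GroupLike S B) ≃ₗ[S] B :=
  (MonoidAlgebra.coeffLinearEquiv S) ≪≫ₗ
    (Finsupp.domLCongr (Equiv.ofBijective (gamma e) (gamma_bijective e hconn)).symm) ≪≫ₗ
    (gB e).repr.symm

theorem lift_eq_Psi (x : MonoidAlgebra S (GroupLike S B)) :
    (MonoidAlgebra.liftGroupLikeBialgHom : MonoidAlgebra S (GroupLike S B) →ₐc[S] B) x =
      Psi e hconn x := by
  induction x using MonoidAlgebra.induction_linear with
  | zero => simp
  | add f g hf hg => rw [map_add, map_add, hf, hg]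
  | single g r =>
    rw [MonoidAlgebra.liftGroupLikeBialgHom_apply, MonoidAlgebra.lift_single]
    unfold Psi
    rw [LinearEquiv.trans_apply, LinearEquiv.trans_apply]
    have h1 : MonoidAlgebra.coeffLinearEquiv S (MonoidAlgebra.single g r) =
        Finsupp.single g r := by
      ext g'
      simp [MonoidAlgebra.coeffLinearEquiv, MonoidAlgebra.coeff_single]
    rw [h1, Finsupp.domLCongr_single, Module.Basis.repr_symm_apply,
      Finsupp.linearCombination_single]
    congr 1
    change g.val = (gamma e ((Equiv.ofBijective (gamma e) (gamma_bijective e hconn)).symm g)).val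
    rw [← Equiv.ofBijective_apply (gamma e) (gamma_bijective e hconn), Equiv.apply_symm_apply]

include e hconn in
/-- A finite projective Hopf algebra over a connected ring with split dual is diagonalisable. -/
theorem isDiag_of_dual_split : SGA3b.IsDiag S B := by
  have hbij : Function.Bijective
      (MonoidAlgebra.liftGroupLikeBialgHom : MonoidAlgebra S (GroupLike S B) →ₐc[S] B) := by
    have h : ⇑(MonoidAlgebra.liftGroupLikeBialgHom :
        MonoidAlgebra S (GroupLike S B) →ₐc[S] B) = ⇑(Psi e hconn) := funext (lift_eq_Psi e hconn)
    rw [h]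
    exact (Psi e hconn).bijective
  exact ⟨GroupLike S B, inferInstance, ⟨(BialgEquiv.ofBijective _ hbij).symm⟩⟩

end Diag

end Main

end Groth.Agent.Lib.R2H7.CartDiag
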