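import Mathlib
import Groth.Agent.Lib.Helper18FEtAlg

/-!
# R2H7FEtComp: connected components of finite étale algebras over a connected base

* `exists_rank_eq`: a finite étale algebra over a ring with preconnected spectrum has constant rank.
* `faithfullyFlat_of_nontrivial`: a nonzero finite étale algebra over such a ring is faithfully flat.
* `exists_connected_quotient`: a nonzero finite étale algebra `T` over such a ring has a quotient
  `T'` (by an idempotent) which is nonzero, finite étale and has only trivial idempotents.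
* `exists_connected_split`: a finite étale algebra of constant rank over a connected ring is split
  by a connected finite étale faithfully flat algebra.
-/

set_option autoImplicit false
universe u

namespace Groth.Agent.Lib.R2H7.FEtComp

open TensorProduct

section Rank

variable {R : Type u} [CommRing R] (T : Type u) [CommRing T] [Algebra R T] [Module.Finite R T]
  [Algebra.Etale R T]

theorem exists_rank_eq [PreconnectedSpace (PrimeSpectrum R)] :
    ∃ d : ℕ, ∀ p : PrimeSpectrum R, Module.rankAtStalk (R := R) T p = d := by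
  haveI : Module.FinitePresentation R T :=
    Module.FinitePresentation.of_finite_of_finitePresentation R T
  obtain ⟨d, hd⟩ := (Module.isLocallyConstant_rankAtStalk (R := R) (M := T)).exists_eq_const
  exact ⟨d, fun p => congrFun hd p⟩

theorem rank_pos_of_nontrivial [Nontrivial T] {d : ℕ}
    (hd : ∀ p : PrimeSpectrum R, Module.rankAtStalk (R := R) T p = d) : 0 < d := by
  by_contra h
  have h0 : d = 0 := by omega
  have h1 : Module.rankAtStalk (R := R) T = 0 := funext fun p => by rw [hd p, h0]; rfl
  rw [Module.rankAtStalk_eq_zero_iff_subsingleton] at h1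
  exact not_subsingleton T h1

theorem faithfullyFlat_of_nontrivial [PreconnectedSpace (PrimeSpectrum R)] [Nontrivial T] :
    Module.FaithfullyFlat R T := by
  obtain ⟨d, hd⟩ := exists_rank_eq (R := R) T
  have hpos := rank_pos_of_nontrivial T hd
  apply Module.FaithfullyFlat.of_comap_surjective
  rw [← PrimeSpectrum.rankAtStalk_pos_iff_comap_surjective]
  intro p
  rw [hd p]
  exact hpos

end Rank

section Idem

variable {T : Type u} [CommRing T]

theorem span_idem_ne_top {e : T} (he : IsIdempotentElem e) (he1 : e ≠ 1) :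
    Ideal.span {e} ≠ (⊤ : Ideal T) := by
  intro h
  have h1 : (1 : T) ∈ Ideal.span {e} := by rw [h]; trivial
  obtain ⟨a, ha⟩ := Ideal.mem_span_singleton'.mp h1
  apply he1
  have h2 : (1 - e) = a * e * (1 - e) := by rw [ha, one_mul]
  have h3 : a * e * (1 - e) = 0 := by
    rw [mul_assoc, mul_sub, mul_one, he.eq, sub_self, mul_zero]
  rw [h3] at h2
  exact (sub_eq_zero.mp h2).symm

/-- `T ≃ T/(e) × T/(1-e)` for an idempotent `e`. -/
theorem prod_bijective (R : Type u) [CommRing R] [Algebra R T] {e : T} (he : IsIdempotentElem e) :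
    Function.Bijective ((Ideal.Quotient.mkₐ R (Ideal.span {e})).toLinearMap.prod
      (Ideal.Quotient.mkₐ R (Ideal.span {1 - e})).toLinearMap) := by
  constructor
  · rw [injective_iff_map_eq_zero]
    intro x hx
    have h1 : Ideal.Quotient.mk (Ideal.span {e}) x = 0 := congrArg Prod.fst hx
    have h2 : Ideal.Quotient.mk (Ideal.span {1 - e}) x = 0 := congrArg Prod.snd hx
    rw [Ideal.Quotient.eq_zero_iff_mem] at h1 h2
    obtain ⟨a, ha⟩ := Ideal.mem_span_singleton'.mp h1
    obtain ⟨b, hb⟩ := Ideal.mem_span_singleton'.mp h2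
    have h3 : x * e = x := by rw [← ha, mul_assoc, he.eq]
    have h4 : x * e = 0 := by
      rw [← hb, mul_assoc, sub_mul, one_mul, he.eq, sub_self, mul_zero]
    rw [← h3, h4]
  · rintro ⟨y₁, y₂⟩
    obtain ⟨x₁, rfl⟩ := Ideal.Quotient.mk_surjective y₁
    obtain ⟨x₂, rfl⟩ := Ideal.Quotient.mk_surjective y₂
    refine ⟨x₁ * (1 - e) + x₂ * e, ?_⟩
    refine Prod.ext ?_ ?_
    · change Ideal.Quotient.mk (Ideal.span {e}) (x₁ * (1 - e) + x₂ * e) =
        Ideal.Quotient.mk (Ideal.span {e}) x₁
      rw [Ideal.Quotient.eq]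
      have : x₁ * (1 - e) + x₂ * e - x₁ = (x₂ - x₁) * e := by ring
      rw [this]
      exact Ideal.mul_mem_left _ _ (Ideal.mem_span_singleton_self e)
    · change Ideal.Quotient.mk (Ideal.span {1 - e}) (x₁ * (1 - e) + x₂ * e) =
        Ideal.Quotient.mk (Ideal.span {1 - e}) x₂
      rw [Ideal.Quotient.eq]
      have : x₁ * (1 - e) + x₂ * e - x₂ = (x₁ - x₂) * (1 - e) := by ring
      rw [this]
      exact Ideal.mul_mem_left _ _ (Ideal.mem_span_singleton_self (1 - e))

end Idem

section Main

variable {R : Type u} [CommRing R] [PreconnectedSpace (PrimeSpectrum R)]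

theorem exists_connected_quotient :
    ∀ (d : ℕ) (T : Type u) [CommRing T] [Algebra R T] [Module.Finite R T] [Algebra.Etale R T]
      [Nontrivial T], (∀ p : PrimeSpectrum R, Module.rankAtStalk (R := R) T p = d) →
      ∃ (T' : Type u) (_ : CommRing T') (_ : Algebra R T') (φ : T →ₐ[R] T'),
        Function.Surjective φ ∧ Module.Finite R T' ∧ Algebra.Etale R T' ∧ Nontrivial T' ∧
        ∀ e : T', IsIdempotentElem e → e = 0 ∨ e = 1 := by
  intro d
  induction d using Nat.strong_induction_on with
  | _ d ih =>
    intro T _ _ _ _ _ hd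
    by_cases hconn : ∀ e : T, IsIdempotentElem e → e = 0 ∨ e = 1
    · exact ⟨T, inferInstance, inferInstance, AlgHom.id R T, Function.surjective_id,
        inferInstance, inferInstance, inferInstance, hconn⟩
    · push Not at hconn
      obtain ⟨e, he, he0, he1⟩ := hconn
      haveI : Nontrivial R := (algebraMap R T).domain_nontrivial
      have hfin₁ : Module.Finite R (T ⧸ Ideal.span {e}) :=
        Module.Finite.of_surjective (Ideal.Quotient.mkₐ R (Ideal.span {e})).toLinearMap
          (Ideal.Quotient.mkₐ_surjective R _)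
      have hfin₂ : Module.Finite R (T ⧸ Ideal.span {1 - e}) :=
        Module.Finite.of_surjective (Ideal.Quotient.mkₐ R (Ideal.span {1 - e})).toLinearMap
          (Ideal.Quotient.mkₐ_surjective R _)
      haveI : Algebra.Etale T (T ⧸ Ideal.span {e}) :=
        Groth.Agent.Lib.Helper18FEtAlg.etale_quot_idem he
      haveI : Algebra.Etale T (T ⧸ Ideal.span {1 - e}) :=
        Groth.Agent.Lib.Helper18FEtAlg.etale_quot_idem he.one_sub
      have het₁ : Algebra.Etale R (T ⧸ Ideal.span {e}) := Algebra.Etale.comp R T _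
      have het₂ : Algebra.Etale R (T ⧸ Ideal.span {1 - e}) := Algebra.Etale.comp R T _
      have hnt₁ : Nontrivial (T ⧸ Ideal.span {e}) :=
        Ideal.Quotient.nontrivial_iff.mpr (span_idem_ne_top he he1)
      have hnt₂ : Nontrivial (T ⧸ Ideal.span {1 - e}) := by
        refine Ideal.Quotient.nontrivial_iff.mpr (span_idem_ne_top he.one_sub ?_)
        intro h
        apply he0
        have : e = 1 - (1 - e) := by ring
        rw [this, h, sub_self]
      obtain ⟨d₁, hd₁⟩ := exists_rank_eq (R := R) (T ⧸ Ideal.span {e})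
      obtain ⟨d₂, hd₂⟩ := exists_rank_eq (R := R) (T ⧸ Ideal.span {1 - e})
      have hpos₁ := rank_pos_of_nontrivial _ hd₁
      have hpos₂ := rank_pos_of_nontrivial _ hd₂
      have hsum : d = d₁ + d₂ := by
        obtain ⟨p⟩ := (inferInstance : Nonempty (PrimeSpectrum R))
        let E : T ≃ₗ[R] (T ⧸ Ideal.span {e}) × (T ⧸ Ideal.span {1 - e}) :=
          LinearEquiv.ofBijective _ (prod_bijective R he)
        have h1 := Module.rankAtStalk_eq_of_equiv (R := R) E
        have h2 := Module.rankAtStalk_prod (R := R) (T ⧸ Ideal.span {e}) (T ⧸ Ideal.span {1 - e})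
        have h3 := congrFun (h1.trans h2) p
        rw [Pi.add_apply, hd p, hd₁ p, hd₂ p] at h3
        exact h3
      obtain ⟨T', i1, i2, φ₁, hφ₁, hf, het, hnt, hc⟩ :=
        ih d₁ (by omega) (T ⧸ Ideal.span {e}) hd₁
      exact ⟨T', i1, i2, φ₁.comp (Ideal.Quotient.mkₐ R (Ideal.span {e})),
        hφ₁.comp (Ideal.Quotient.mkₐ_surjective R _), hf, het, hnt, hc⟩

/-- A finite étale algebra over a ring with connected spectrum is split by a connected finite étale
faithfully flat algebra. -/
theorem exists_connected_split [Nontrivial R] (E : Type u) [CommRing E] [Algebra R E]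
    [Module.Finite R E] [Algebra.Etale R E] :
    ∃ (T' : Type u) (_ : CommRing T') (_ : Algebra R T'), Algebra.Etale R T' ∧
      Module.Finite R T' ∧ Module.FaithfullyFlat R T' ∧ Nontrivial T' ∧
      (∀ e : T', IsIdempotentElem e → e = 0 ∨ e = 1) ∧
      ∃ n : ℕ, Nonempty (T' ⊗[R] E ≃ₐ[T'] (Fin n → T')) := by
  obtain ⟨n, hn⟩ := exists_rank_eq (R := R) E
  have hn' : Module.rankAtStalk (R := R) E = (n : PrimeSpectrum R → ℕ) := by
    funext p
    rw [hn p]
    rfl
  obtain ⟨T, _, _, hff, hfin, het, hsplit⟩ :=
    Algebra.IsFiniteSplit.exists_tensorProduct_of_etale hn'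
  haveI : Nontrivial T := (FaithfulSMul.algebraMap_injective R T).nontrivial
  obtain ⟨d, hd⟩ := exists_rank_eq (R := R) T
  obtain ⟨T', _, _, φ, hφ, hfin', het', hnt', hconn⟩ := exists_connected_quotient d T hd
  letI : Algebra T T' := φ.toRingHom.toAlgebra
  haveI : IsScalarTower R T T' := IsScalarTower.of_algebraMap_eq (fun r => (φ.commutes r).symm)
  have hs1 : Algebra.IsFiniteSplit T' (T' ⊗[T] (T ⊗[R] E)) := inferInstance
  have hs2 : Algebra.IsFiniteSplit T' (T' ⊗[R] E) :=
    Algebra.IsFiniteSplit.of_algEquiv (Algebra.TensorProduct.cancelBaseChange R T T' T' E)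
  obtain ⟨m, hm⟩ := hs2.nonempty_algEquiv_fun
  exact ⟨T', inferInstance, inferInstance, het', hfin', faithfullyFlat_of_nontrivial T', hnt',
    hconn, m, hm⟩

end Main

end Groth.Agent.Lib.R2H7.FEtComp
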