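import Mathlib
import Groth.Agent.Lib.R2H7FEtComp
import Groth.Agent.Lib.R2H7CartBC
import Groth.Agent.Lib.R2H7CartDiag
import Groth.Agent.S16070

/-!
# R2H7CartIso: étale Cartier dual ⇔ isotrivial, over a connected base

* `dualCongr`: a bialgebra isomorphism induces an algebra isomorphism of the dual algebras.
* `isIsotrivial_of_etale_dual`: `R` connected, `A` finite projective commutative cocommutative Hopf
  algebra with `D R A` étale ⇒ `A` is isotrivial.
* `etale_dual_of_isDiag_baseChange`: if `R' ⊗ A ≅ R'[M]` for a faithfully flat `R'` then `D R A` is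
  étale.
-/

set_option autoImplicit false
universe u

namespace Groth.Agent.Lib.R2H7.CartIso

open TensorProduct CartDual WithConv Coalgebra SGA3b

section Congr

variable {S : Type u} [CommRing S] {B B' : Type u} [CommRing B] [HopfAlgebra S B]
  [CommRing B'] [HopfAlgebra S B']

/-- Transport of linear forms along a bialgebra isomorphism, as a linear equivalence. -/
noncomputable def dualCongrLin (ε : B ≃ₐc[S] B') : D S B ≃ₗ[S] D S B' :=
  (toDual S B) ≪≫ₗ (ε.symm.toCoalgEquiv.toLinearEquiv.dualMap) ≪≫ₗ (toDual S B').symm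

theorem dualCongrLin_ofConv (ε : B ≃ₐc[S] B') (x : D S B) :
    (dualCongrLin ε x).ofConv = x.ofConv ∘ₗ (ε.symm.toCoalgEquiv.toCoalgHom).toLinearMap := rfl

/-- A bialgebra isomorphism induces an isomorphism of the dual (convolution) algebras. -/
noncomputable def dualCongr (ε : B ≃ₐc[S] B') : D S B ≃ₐ[S] D S B' :=
  AlgEquiv.ofLinearEquiv (dualCongrLin ε)
    (by
      apply WithConv.ext
      apply LinearMap.ext
      intro b
      rw [dualCongrLin_ofConv]
      change algebraMap S S (counit (R := S) (ε.symm b)) = algebraMap S S (counit (R := S) b)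
      rw [CoalgHomClass.counit_comp_apply])
    (fun x y => by
      apply WithConv.ext
      rw [dualCongrLin_ofConv, LinearMap.convMul_comp_coalgHom_distrib]
      rfl)

end Congr

section Fwd

variable (R : Type u) [CommRing R] [ConnectedSpace (PrimeSpectrum R)]
  (A : Type u) [CommRing A] [HopfAlgebra R A] [Coalgebra.IsCocomm R A]
  [Module.Finite R A] [Module.Projective R A]

theorem nontrivial_of_connectedSpace : Nontrivial R := by
  obtain ⟨p⟩ := (inferInstance : Nonempty (PrimeSpectrum R))
  exact ⟨⟨0, 1, fun h01 =>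
    p.2.ne_top ((Ideal.eq_top_iff_one _).mpr (h01 ▸ p.asIdeal.zero_mem))⟩⟩

/-- Over a connected base, a finite locally free commutative group scheme with étale Cartier dual is
isotrivial. -/
theorem isIsotrivial_of_etale_dual (h : Algebra.Etale R (D R A)) : IsIsotrivial R A := by
  haveI := nontrivial_of_connectedSpace R
  obtain ⟨T', _, _, het, hfin, hff, hnt, hconn, n, ⟨e₁⟩⟩ :=
    FEtComp.exists_connected_split (R := R) (D R A)
  have e₂ : D T' (T' ⊗[R] A) ≃ₐ[T'] (Fin n → T') := (CartBC.bcDEquiv R A T').symm.trans e₁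
  exact ⟨T', inferInstance, inferInstance, het, hfin, hff, CartDiag.isDiag_of_dual_split e₂ hconn⟩

end Fwd

section Bwd

variable (R : Type u) [CommRing R] (A : Type u) [CommRing A] [HopfAlgebra R A]
  [Coalgebra.IsCocomm R A] [Module.Finite R A] [Module.Projective R A]

theorem finite_of_finite_monoidAlgebra (S : Type u) [CommRing S] [Nontrivial S] (M : Type u)
    [CommGroup M] [Module.Finite S (MonoidAlgebra S M)] : Finite M :=
  Module.Finite.finite_basis (MonoidAlgebra.basis M S)

/-- If `A` becomes diagonalisable after a faithfully flat base change, its dual is étale. -/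
theorem etale_dual_of_isDiag_baseChange [Nontrivial R] (R' : Type u) [CommRing R'] [Algebra R R']
    [Module.FaithfullyFlat R R'] (hD : IsDiag R' (R' ⊗[R] A)) : Algebra.Etale R (D R A) := by
  obtain ⟨M, _, ⟨ε⟩⟩ := hD
  haveI : Nontrivial R' := (FaithfulSMul.algebraMap_injective R R').nontrivial
  haveI : Module.Finite R' (MonoidAlgebra R' M) :=
    Module.Finite.equiv ε.toCoalgEquiv.toLinearEquiv
  haveI : Finite M := finite_of_finite_monoidAlgebra R' M
  classical
  haveI : Fintype M := Fintype.ofFinite M
  obtain ⟨e₀, -⟩ := Groth.Agent.S16070.result R' M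
  haveI h1 : Algebra.Etale R' (ConstGrp.F R' M) :=
    Algebra.Etale.of_equiv (ConstGrp.equivFun R' M).symm
  haveI h2 : Algebra.Etale R' (D R' (MonoidAlgebra R' M)) :=
    Algebra.Etale.of_equiv (e₀ : D R' (MonoidAlgebra R' M) ≃ₐ[R'] ConstGrp.F R' M).symm
  haveI h3 : Algebra.Etale R' (D R' (R' ⊗[R] A)) := Algebra.Etale.of_equiv (dualCongr ε).symm
  haveI h4 : Algebra.Etale R' (R' ⊗[R] D R A) :=
    Algebra.Etale.of_equiv (CartBC.bcDEquiv R A R').symm
  exact Algebra.Etale.of_etale_tensorProduct_of_faithfullyFlat R'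

end Bwd

end Groth.Agent.Lib.R2H7.CartIso
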