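import Mathlib
import Groth.Agent.Lib.R2H7CartIso
import Groth.Agent.Lib.R2H7GLLift

/-!
# R2H7FinMult: finite groups of multiplicative type over a connected base are isotrivial

* `of_span_tensor`: a local property of ring maps can be checked on `R_f → R_f ⊗ E`.
* `eq_zero_of_span`: an element of a module vanishing in all `R_f ⊗ N` vanishes.
* Constant-type case: `flat_of_const`, `finitePresentation_of_const`, `isCocomm_of_const`.
* `projective_of_isMultType`, `isCocomm_of_isMultType`, `etale_dual_of_isMultType`.
* `isIsotrivial_of_finite`.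
-/

set_option autoImplicit false
universe u

namespace Groth.Agent.Lib.R2H7.FinMult

open TensorProduct CartDual Coalgebra SGA3b Groth.Agent.Lib.Helper25 Groth.Agent.Lib.R2H7.GLLift

section Generic

attribute [local instance] Algebra.TensorProduct.rightAlgebra

theorem of_span_tensor {P : ∀ {R S : Type u} [CommRing R] [CommRing S], (R →+* S) → Prop}
    (hP : RingHom.OfLocalizationSpan @P) (hPi : RingHom.RespectsIso @P)
    {R E : Type u} [CommRing R] [CommRing E] [Algebra R E] (s : Set R) (hs : Ideal.span s = ⊤)
    (h : ∀ r ∈ s, P (algebraMap (Localization.Away r) (Localization.Away r ⊗[R] E))) :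
    P (algebraMap R E) := by
  apply hP.ofIsLocalization hPi (algebraMap R E) s hs
  intro r
  refine ⟨Localization.Away r.1, Localization.Away r.1 ⊗[R] E, inferInstance, inferInstance,
    inferInstance, inferInstance, inferInstance, inferInstance, algebraMap _ _, ?_, h r.1 r.2⟩
  ext x
  change (algebraMap R (Localization.Away r.1) x) ⊗ₜ[R] (1 : E) =
    (1 : Localization.Away r.1) ⊗ₜ[R] (algebraMap R E x)
  rw [Algebra.algebraMap_eq_smul_one, Algebra.algebraMap_eq_smul_one (A := E),
    TensorProduct.smul_tmul]

/-- An element of a module that vanishes in every `R_f ⊗ N`, `f` in a spanning set, is zero. -/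
theorem eq_zero_of_span {R : Type u} [CommRing R] {N : Type u} [AddCommGroup N] [Module R N]
    (s : Set R) (hs : Ideal.span s = ⊤) (z : N)
    (h : ∀ r ∈ s, (1 : Localization.Away r) ⊗ₜ[R] z = 0) : z = 0 := by
  have hk : ∀ r : s, ∃ k : ℕ, (r.1 ^ k) • z = 0 := by
    intro r
    have h1 : TensorProduct.mk R (Localization.Away r.1) N 1 z = 0 := h r.1 r.2
    rw [IsLocalizedModule.eq_zero_iff (Submonoid.powers r.1)] at h1
    obtain ⟨⟨_, k, rfl⟩, hk⟩ := h1
    exact ⟨k, hk⟩
  have h2 := Submodule.mem_of_span_eq_top_of_smul_pow_mem (⊥ : Submodule R N) s hs z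
    (fun r => by
      obtain ⟨k, hk⟩ := hk r
      exact ⟨k, by rw [hk]; exact Submodule.zero_mem _⟩)
  exact (Submodule.mem_bot R).mp h2

end Generic

section Const

variable (R : Type u) [CommRing R] (A : Type u) [CommRing A] [HopfAlgebra R A]
  (R' : Type u) [CommRing R'] [Algebra R R'] [Module.FaithfullyFlat R R']

theorem free_of_equiv {M : Type u} [CommGroup M] (ε : R' ⊗[R] A ≃ₐc[R'] MonoidAlgebra R' M) :
    Module.Free R' (R' ⊗[R] A) := by
  haveI : Module.Free R' (MonoidAlgebra R' M) := Module.Free.of_basis (MonoidAlgebra.basis M R')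
  exact Module.Free.of_equiv ε.symm.toCoalgEquiv.toLinearEquiv

theorem flat_of_isDiag (hD : IsDiag R' (R' ⊗[R] A)) : Module.Flat R A := by
  obtain ⟨M, _, ⟨ε⟩⟩ := hD
  haveI := free_of_equiv R A R' ε
  exact Module.Flat.of_flat_tensorProduct R A R'

theorem finitePresentation_of_isDiag [Module.Finite R A] (hD : IsDiag R' (R' ⊗[R] A)) :
    Algebra.FinitePresentation R A := by
  obtain ⟨M, _, ⟨ε⟩⟩ := hD
  haveI := free_of_equiv R A R' ε
  haveI : Module.FinitePresentation R' (R' ⊗[R] A) := Module.finitePresentation_of_projective R' _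
  exact Algebra.FinitePresentation.of_finitePresentation_tensorProduct_of_faithfullyFlat R'

theorem projective_of_isDiag [Module.Finite R A] (hD : IsDiag R' (R' ⊗[R] A)) :
    Module.Projective R A := by
  haveI := flat_of_isDiag R A R' hD
  haveI := finitePresentation_of_isDiag R A R' hD
  haveI : Module.FinitePresentation R A :=
    Module.FinitePresentation.of_finite_of_finitePresentation R A
  exact Module.Flat.projective_of_finitePresentation

omit [Module.FaithfullyFlat R R'] in
theorem comm_bcMap2 (z : A ⊗[R] A) :
    TensorProduct.comm R' (R' ⊗[R] A) (R' ⊗[R] A) (bcMap2 (R := R) R' A z) =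
      bcMap2 (R := R) R' A (TensorProduct.comm R A A z) := by
  induction z using TensorProduct.induction_on with
  | zero => simp
  | tmul a b => rw [bcMap2_tmul, TensorProduct.comm_tmul, TensorProduct.comm_tmul, bcMap2_tmul]
  | add x y hx hy => rw [map_add, map_add, hx, hy, map_add, map_add]

omit [Module.FaithfullyFlat R R'] in
theorem isCocomm_of_equiv {S : Type u} [CommRing S] {B B' : Type u} [CommRing B] [HopfAlgebra S B]
    [CommRing B'] [HopfAlgebra S B'] [IsCocomm S B'] (ε : B ≃ₐc[S] B') : IsCocomm S B := by
  refine ⟨LinearMap.ext fun b => ?_⟩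
  have h1 := CoalgHomClass.map_comp_comul_apply ε.symm (ε b)
  rw [BialgEquiv.symm_apply_apply] at h1
  rw [LinearMap.comp_apply, LinearEquiv.coe_coe, ← h1, ← TensorProduct.map_comm, comm_comul]

/-- A Hopf algebra which is a group algebra after a faithfully flat base change is
cocommutative. -/
theorem isCocomm_of_isDiag (hD : IsDiag R' (R' ⊗[R] A)) : IsCocomm R A := by
  obtain ⟨M, _, ⟨ε⟩⟩ := hD
  haveI : IsCocomm R' (R' ⊗[R] A) := isCocomm_of_equiv ε
  refine ⟨LinearMap.ext fun a => ?_⟩
  apply bcMap2_injective (S := R) R' (B := A)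
  rw [LinearMap.comp_apply, LinearEquiv.coe_coe, ← comm_bcMap2, ← comul_one_tmul, comm_comul]

theorem etale_of_subsingleton (S X : Type u) [CommRing S] [CommRing X] [Algebra S X]
    [Subsingleton X] : Algebra.Etale S X := by
  haveI : Subsingleton (Fin 0 → S) := inferInstance
  exact Algebra.Etale.of_equiv
    ({ toFun := fun _ => 0
       invFun := fun _ => 0
       left_inv := fun _ => Subsingleton.elim _ _
       right_inv := fun _ => Subsingleton.elim _ _
       map_mul' := fun _ _ => Subsingleton.elim _ _
       map_add' := fun _ _ => Subsingleton.elim _ _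
       commutes' := fun _ => Subsingleton.elim _ _ } : (Fin 0 → S) ≃ₐ[S] X)

/-- Constant-type case: the dual of a finite Hopf algebra which is a group algebra after a
faithfully flat base change is étale. -/
theorem etale_dual_of_isDiag [Module.Finite R A] [Module.Projective R A] [IsCocomm R A]
    (hD : IsDiag R' (R' ⊗[R] A)) : Algebra.Etale R (D R A) := by
  rcases subsingleton_or_nontrivial R with h | h
  · haveI : Subsingleton (D R A) := Module.subsingleton R _
    exact etale_of_subsingleton R _
  · exact CartIso.etale_dual_of_isDiag_baseChange R A R' hD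

end Const

section Global

variable (R : Type u) [CommRing R] (A : Type u) [CommRing A] [HopfAlgebra R A]

theorem projective_of_isMultType [Module.Finite R A] (h : IsMultType R A) :
    Module.Projective R A := by
  obtain ⟨s, hs, hc⟩ := h
  have hflat : Module.Flat R A := by
    rw [← RingHom.flat_algebraMap_iff]
    refine of_span_tensor RingHom.Flat.propertyIsLocal.ofLocalizationSpan
      RingHom.Flat.respectsIso s hs (fun f hf => ?_)
    obtain ⟨R', _, _, hff, hD⟩ := hc f hf
    rw [RingHom.flat_algebraMap_iff]
    exact flat_of_isDiag _ _ R' hD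
  have hfp : Algebra.FinitePresentation R A := by
    rw [← RingHom.finitePresentation_algebraMap]
    refine of_span_tensor RingHom.finitePresentation_isLocal.ofLocalizationSpan
      RingHom.finitePresentation_respectsIso s hs (fun f hf => ?_)
    obtain ⟨R', _, _, hff, hD⟩ := hc f hf
    rw [RingHom.finitePresentation_algebraMap]
    exact finitePresentation_of_isDiag _ _ R' hD
  haveI : Module.FinitePresentation R A :=
    Module.FinitePresentation.of_finite_of_finitePresentation R A
  exact Module.Flat.projective_of_finitePresentation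

theorem isCocomm_of_isMultType (h : IsMultType R A) : IsCocomm R A := by
  obtain ⟨s, hs, hc⟩ := h
  refine ⟨LinearMap.ext fun a => ?_⟩
  rw [← sub_eq_zero]
  apply eq_zero_of_span s hs
  intro f hf
  obtain ⟨R', _, _, hff, hD⟩ := hc f hf
  haveI : IsCocomm (Localization.Away f) (Localization.Away f ⊗[R] A) :=
    isCocomm_of_isDiag _ _ R' hD
  apply one_tmul_eq_zero_of_bcMap2
  rw [map_sub, LinearMap.comp_apply, LinearEquiv.coe_coe, ← comm_bcMap2, ← comul_one_tmul,
    comm_comul, sub_self]

theorem etale_dual_of_isMultType [Module.Finite R A] [Module.Projective R A] [IsCocomm R A]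
    (h : IsMultType R A) : Algebra.Etale R (D R A) := by
  obtain ⟨s, hs, hc⟩ := h
  rw [← RingHom.etale_algebraMap]
  refine of_span_tensor RingHom.Etale.ofLocalizationSpan RingHom.Etale.respectsIso s hs
    (fun f hf => ?_)
  obtain ⟨R', _, _, hff, hD⟩ := hc f hf
  rw [RingHom.etale_algebraMap]
  haveI : Algebra.Etale (Localization.Away f) (D (Localization.Away f) (Localization.Away f ⊗[R] A)) :=
    etale_dual_of_isDiag _ _ R' hD
  exact Algebra.Etale.of_equiv (CartBC.bcDEquiv R A (Localization.Away f)).symm

/-- A finite group of multiplicative type over a connected base is isotrivial. -/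
theorem isIsotrivial_of_finite [ConnectedSpace (PrimeSpectrum R)] [Module.Finite R A]
    (h : IsMultType R A) : IsIsotrivial R A := by
  haveI := projective_of_isMultType R A h
  haveI := isCocomm_of_isMultType R A h
  exact CartIso.isIsotrivial_of_etale_dual R A (etale_dual_of_isMultType R A h)

end Global

end Groth.Agent.Lib.R2H7.FinMult
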