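import Mathlib
import Groth.Agent.Lib.R2H7HopfDesc
import Groth.Agent.Lib.Helper12FFDescentAlg
import Groth.Agent.Lib.Helper22Amitsur
import Groth.Agent.Lib.R2H7GLLift

/-!
# R2H7TwForm: twisted forms of group algebras (descent along a faithfully flat ring map)

For a ring map `R → R'`, a commutative group `M` and an automorphism `φ` of the group algebra
`(R' ⊗[R] R')[M]` (a descent datum), `Tw R φ` is the `R`-subalgebra of `R'[M]` of the elements `b`
with `φ (p₁ b) = p₂ b`, where `p₁, p₂ : R'[M] → (R' ⊗[R] R')[M]` are the coefficientwise maps.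
-/

set_option autoImplicit false
universe u

namespace Groth.Agent.Lib.R2H7.TwForm

open TensorProduct Coalgebra

section Basic

variable (R : Type u) [CommRing R] {R' : Type u} [CommRing R'] [Algebra R R']
  {M : Type u} [CommGroup M]

/-- Coefficientwise `r ↦ r ⊗ 1`. -/
noncomputable def P1 : MonoidAlgebra R' M →ₐ[R] MonoidAlgebra (R' ⊗[R] R') M :=
  MonoidAlgebra.mapAlgHom M Algebra.TensorProduct.includeLeft

/-- Coefficientwise `r ↦ 1 ⊗ r`. -/
noncomputable def P2 : MonoidAlgebra R' M →ₐ[R] MonoidAlgebra (R' ⊗[R] R') M :=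
  MonoidAlgebra.mapAlgHom M Algebra.TensorProduct.includeRight

@[simp] theorem P1_single (m : M) (a : R') :
    P1 R (MonoidAlgebra.single m a : MonoidAlgebra R' M) = MonoidAlgebra.single m (a ⊗ₜ[R] 1) := by
  simp [P1]

@[simp] theorem P2_single (m : M) (a : R') :
    P2 R (MonoidAlgebra.single m a : MonoidAlgebra R' M) = MonoidAlgebra.single m (1 ⊗ₜ[R] a) := by
  simp [P2]

theorem P1_smul (x : R') (u : MonoidAlgebra R' M) :
    P1 R (x • u) = (x ⊗ₜ[R] (1 : R')) • P1 R u := by
  induction u using MonoidAlgebra.induction_linear with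
  | zero => simp
  | add a b ha hb => rw [smul_add, map_add, ha, hb, map_add, smul_add]
  | single m a =>
    rw [MonoidAlgebra.smul_single', P1_single, P1_single, MonoidAlgebra.smul_single',
      Algebra.TensorProduct.tmul_mul_tmul, mul_one]

theorem P2_smul (x : R') (u : MonoidAlgebra R' M) :
    P2 R (x • u) = ((1 : R') ⊗ₜ[R] x) • P2 R u := by
  induction u using MonoidAlgebra.induction_linear with
  | zero => simp
  | add a b ha hb => rw [smul_add, map_add, ha, hb, map_add, smul_add]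
  | single m a =>
    rw [MonoidAlgebra.smul_single', P2_single, P2_single, MonoidAlgebra.smul_single',
      Algebra.TensorProduct.tmul_mul_tmul, one_mul]

variable (R' M) in
/-- `R'[M] ⊗[R] R' ≃ (R' ⊗[R] R')[M]`. -/
noncomputable def lam : MonoidAlgebra R' M ⊗[R] R' ≃ₐ[R] MonoidAlgebra (R' ⊗[R] R') M :=
  MonoidAlgebra.lTensorAlgEquiv R R' R'

variable (R' M) in
/-- `R' ⊗[R] R'[M] ≃ (R' ⊗[R] R')[M]`. -/
noncomputable def rho : R' ⊗[R] MonoidAlgebra R' M ≃ₐ[R] MonoidAlgebra (R' ⊗[R] R') M :=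
  MonoidAlgebra.rTensorEquivAlgEquiv R R R' R'

theorem lam_single_tmul (m : M) (a b : R') :
    lam R R' M ((MonoidAlgebra.single m a : MonoidAlgebra R' M) ⊗ₜ[R] b) =
      MonoidAlgebra.single m (a ⊗ₜ[R] b) := by
  rw [lam, ← MonoidAlgebra.lTensorAlgEquiv_symm_single, AlgEquiv.apply_symm_apply]

theorem rho_tmul_single (m : M) (a b : R') :
    rho R R' M (a ⊗ₜ[R] (MonoidAlgebra.single m b : MonoidAlgebra R' M)) =
      MonoidAlgebra.single m (a ⊗ₜ[R] b) := by
  rw [rho, ← MonoidAlgebra.rTensorEquiv_symm_singleAlgEquiv (S := R), AlgEquiv.apply_symm_apply]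

theorem lam_tmul (u : MonoidAlgebra R' M) (z : R') :
    lam R R' M (u ⊗ₜ[R] z) = ((1 : R') ⊗ₜ[R] z) • P1 R u := by
  induction u using MonoidAlgebra.induction_linear with
  | zero => simp
  | add a b ha hb => rw [add_tmul, map_add, ha, hb, map_add, smul_add]
  | single m a =>
    rw [lam_single_tmul, P1_single, MonoidAlgebra.smul_single',
      Algebra.TensorProduct.tmul_mul_tmul, one_mul, mul_one]

theorem rho_tmul (x : R') (u : MonoidAlgebra R' M) :
    rho R R' M (x ⊗ₜ[R] u) = (x ⊗ₜ[R] (1 : R')) • P2 R u := by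
  induction u using MonoidAlgebra.induction_linear with
  | zero => simp
  | add a b ha hb => rw [tmul_add, map_add, ha, hb, map_add, smul_add]
  | single m a =>
    rw [rho_tmul_single, P2_single, MonoidAlgebra.smul_single',
      Algebra.TensorProduct.tmul_mul_tmul, one_mul, mul_one]

theorem rho_rTensor (x : R') (t : R' ⊗[R] MonoidAlgebra R' M) :
    rho R R' M (LinearMap.rTensor (MonoidAlgebra R' M) (LinearMap.mulLeft R x) t) =
      (x ⊗ₜ[R] (1 : R')) • rho R R' M t := by
  induction t using TensorProduct.induction_on with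
  | zero => simp
  | tmul y u =>
    rw [LinearMap.rTensor_tmul, LinearMap.mulLeft_apply, rho_tmul, rho_tmul, smul_smul,
      Algebra.TensorProduct.tmul_mul_tmul, mul_one]
  | add a b ha hb => rw [map_add, map_add, ha, hb, map_add, smul_add]

theorem rho_lTensor (y : R') (t : R' ⊗[R] MonoidAlgebra R' M) :
    rho R R' M (LinearMap.lTensor R' (Algebra.lsmul R R (MonoidAlgebra R' M) y) t) =
      ((1 : R') ⊗ₜ[R] y) • rho R R' M t := by
  induction t using TensorProduct.induction_on with
  | zero => simp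
  | tmul x u =>
    rw [LinearMap.lTensor_tmul, Algebra.lsmul_coe, rho_tmul, rho_tmul, P2_smul, smul_smul,
      smul_smul, Algebra.TensorProduct.tmul_mul_tmul, Algebra.TensorProduct.tmul_mul_tmul,
      mul_one, one_mul, mul_one, one_mul]
  | add a b ha hb => rw [map_add, map_add, ha, hb, map_add, smul_add]

variable {R}
variable (φ : MonoidAlgebra (R' ⊗[R] R') M →ₐ[R' ⊗[R] R'] MonoidAlgebra (R' ⊗[R] R') M)

/-- The twisted form: the `R`-subalgebra of `R'[M]` of the invariant elements. -/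
noncomputable def Tw : Subalgebra R (MonoidAlgebra R' M) where
  carrier := {b | φ (P1 R b) = P2 R b}
  mul_mem' := by
    intro a b ha hb
    simp only [Set.mem_setOf_eq] at ha hb ⊢
    rw [map_mul, map_mul, ha, hb, map_mul]
  add_mem' := by
    intro a b ha hb
    simp only [Set.mem_setOf_eq] at ha hb ⊢
    rw [map_add, map_add, ha, hb, map_add]
  algebraMap_mem' := by
    intro r
    simp only [Set.mem_setOf_eq]
    rw [AlgHom.commutes, AlgHom.commutes,
      IsScalarTower.algebraMap_apply R (R' ⊗[R] R') (MonoidAlgebra (R' ⊗[R] R') M), φ.commutes]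

theorem mem_Tw {b : MonoidAlgebra R' M} : b ∈ Tw φ ↔ φ (P1 R b) = P2 R b := Iff.rfl

/-- The descent datum in tensor form. -/
noncomputable def phiD : MonoidAlgebra R' M ⊗[R] R' →ₗ[R] R' ⊗[R] MonoidAlgebra R' M :=
  (rho R R' M).symm.toLinearMap ∘ₗ (φ.toLinearMap.restrictScalars R) ∘ₗ (lam R R' M).toLinearMap

theorem rho_phiD (t : MonoidAlgebra R' M ⊗[R] R') : rho R R' M (phiD φ t) = φ (lam R R' M t) := by
  simp [phiD]

theorem phiD_bijective (hφ : Function.Bijective φ) : Function.Bijective (phiD φ) := by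
  have h1 : (phiD φ : _ → _) = (rho R R' M).symm ∘ φ ∘ (lam R R' M) := by
    funext t
    simp [phiD]
  rw [h1]
  exact (rho R R' M).symm.bijective.comp (hφ.comp (lam R R' M).bijective)

theorem phiD_h1 (x : R') (u : MonoidAlgebra R' M) (z : R') :
    phiD φ ((x • u) ⊗ₜ[R] z) =
      LinearMap.rTensor (MonoidAlgebra R' M) (LinearMap.mulLeft R x) (phiD φ (u ⊗ₜ[R] z)) := by
  apply (rho R R' M).injective
  rw [rho_phiD, rho_rTensor, rho_phiD, lam_tmul, lam_tmul, P1_smul, smul_comm, map_smul]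

theorem phiD_h2 (y : R') (u : MonoidAlgebra R' M) (z : R') :
    phiD φ (u ⊗ₜ[R] (y * z)) =
      LinearMap.lTensor R' (Algebra.lsmul R R (MonoidAlgebra R' M) y) (phiD φ (u ⊗ₜ[R] z)) := by
  apply (rho R R' M).injective
  rw [rho_phiD, rho_lTensor, rho_phiD, lam_tmul, lam_tmul, map_smul, map_smul, smul_smul,
    Algebra.TensorProduct.tmul_mul_tmul, one_mul]

theorem phiD_inv (u : MonoidAlgebra R' M) :
    u ∈ Tw φ ↔ phiD φ (u ⊗ₜ[R] (1 : R')) = (1 : R') ⊗ₜ[R] u := by
  rw [mem_Tw, ← (rho R R' M).injective.eq_iff, rho_phiD, lam_tmul, rho_tmul]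
  have h1 : ((1 : R') ⊗ₜ[R] (1 : R')) = (1 : R' ⊗[R] R') := rfl
  rw [h1, one_smul, one_smul]

end Basic

section Cocycle

variable {R : Type u} [CommRing R] {R' : Type u} [CommRing R'] [Algebra R R']
  {M : Type u} [CommGroup M]

theorem mapAlgHom_smul {S S' : Type u} [CommRing S] [CommRing S'] [Algebra R S] [Algebra R S']
    (q : S →ₐ[R] S') (c : S) (z : MonoidAlgebra S M) :
    MonoidAlgebra.mapAlgHom M q (c • z) = q c • MonoidAlgebra.mapAlgHom M q z := by
  induction z using MonoidAlgebra.induction_linear with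
  | zero => simp
  | add a b ha hb => rw [smul_add, map_add, ha, hb, map_add, smul_add]
  | single m a =>
    rw [MonoidAlgebra.smul_single', MonoidAlgebra.mapAlgHom_single, MonoidAlgebra.mapAlgHom_single,
      MonoidAlgebra.smul_single', map_mul]

theorem ma_smul_smul {S : Type u} [CommRing S] (c d : S) (z : MonoidAlgebra S M) :
    c • d • z = (c * d) • z := smul_smul c d z

/-- `x ⊗ y ↦ x ⊗ (y ⊗ 1)`. -/
noncomputable def q12 : R' ⊗[R] R' →ₐ[R] R' ⊗[R] (R' ⊗[R] R') :=
  Algebra.TensorProduct.map (AlgHom.id R R') Algebra.TensorProduct.includeLeft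

/-- `x ⊗ y ↦ x ⊗ (1 ⊗ y)`. -/
noncomputable def q13 : R' ⊗[R] R' →ₐ[R] R' ⊗[R] (R' ⊗[R] R') :=
  Algebra.TensorProduct.map (AlgHom.id R R') Algebra.TensorProduct.includeRight

/-- `w ↦ 1 ⊗ w`. -/
noncomputable def q23 : R' ⊗[R] R' →ₐ[R] R' ⊗[R] (R' ⊗[R] R') :=
  Algebra.TensorProduct.includeRight

@[simp] theorem q12_tmul (x y : R') :
    q12 (R := R) (x ⊗ₜ[R] y) = x ⊗ₜ[R] (y ⊗ₜ[R] (1 : R')) := by simp [q12]

@[simp] theorem q13_tmul (x y : R') :
    q13 (R := R) (x ⊗ₜ[R] y) = x ⊗ₜ[R] ((1 : R') ⊗ₜ[R] y) := by simp [q13]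

@[simp] theorem q23_apply (w : R' ⊗[R] R') : q23 (R := R) w = (1 : R') ⊗ₜ[R] w := by simp [q23]

variable (φ : MonoidAlgebra (R' ⊗[R] R') M →ₐ[R' ⊗[R] R'] MonoidAlgebra (R' ⊗[R] R') M)

/-- The pullback of `φ` along `q : R' ⊗ R' → R' ⊗ (R' ⊗ R')`. -/
noncomputable def pull (q : R' ⊗[R] R' →ₐ[R] R' ⊗[R] (R' ⊗[R] R')) :
    MonoidAlgebra (R' ⊗[R] (R' ⊗[R] R')) M →ₐ[R' ⊗[R] (R' ⊗[R] R')]
      MonoidAlgebra (R' ⊗[R] (R' ⊗[R] R')) M :=
  MonoidAlgebra.lift (R' ⊗[R] (R' ⊗[R] R')) (MonoidAlgebra (R' ⊗[R] (R' ⊗[R] R')) M) M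
    { toFun := fun m => MonoidAlgebra.mapAlgHom M q (φ (MonoidAlgebra.single m 1))
      map_one' := by
        have h1 : (MonoidAlgebra.single (1 : M) (1 : R' ⊗[R] R') :
            MonoidAlgebra (R' ⊗[R] R') M) = 1 := MonoidAlgebra.one_def.symm
        rw [h1, map_one, map_one]
      map_mul' := by
        intro m m'
        have h1 : (MonoidAlgebra.single (m * m') (1 : R' ⊗[R] R') :
            MonoidAlgebra (R' ⊗[R] R') M) =
            MonoidAlgebra.single m 1 * MonoidAlgebra.single m' 1 := by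
          rw [MonoidAlgebra.single_mul_single, mul_one]
        rw [h1, map_mul, map_mul] }

theorem pull_single (q : R' ⊗[R] R' →ₐ[R] R' ⊗[R] (R' ⊗[R] R')) (n : M)
    (c : R' ⊗[R] (R' ⊗[R] R')) :
    pull φ q (MonoidAlgebra.single n c) =
      c • MonoidAlgebra.mapAlgHom M q (φ (MonoidAlgebra.single n 1)) := by
  rw [pull, MonoidAlgebra.lift_single]
  rfl

variable (R R' M) in
/-- `R' ⊗ (R' ⊗ R'[M]) ≃ (R' ⊗ (R' ⊗ R'))[M]`. -/
noncomputable def lam3 :
    R' ⊗[R] (R' ⊗[R] MonoidAlgebra R' M) ≃ₐ[R] MonoidAlgebra (R' ⊗[R] (R' ⊗[R] R')) M :=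
  (Algebra.TensorProduct.congr AlgEquiv.refl (rho R R' M)).trans
    (MonoidAlgebra.rTensorEquivAlgEquiv R R R' (R' ⊗[R] R'))

theorem rhoG_tmul (x : R') (p : MonoidAlgebra (R' ⊗[R] R') M) :
    MonoidAlgebra.rTensorEquivAlgEquiv R R R' (R' ⊗[R] R') (x ⊗ₜ[R] p) =
      (x ⊗ₜ[R] (1 : R' ⊗[R] R')) • MonoidAlgebra.mapAlgHom M (q23 (R := R)) p := by
  induction p using MonoidAlgebra.induction_linear with
  | zero => simp
  | add a b ha hb => rw [tmul_add, map_add, ha, hb, map_add, smul_add]
  | single m a =>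
    rw [← MonoidAlgebra.rTensorEquiv_symm_singleAlgEquiv (S := R), AlgEquiv.apply_symm_apply,
      MonoidAlgebra.mapAlgHom_single, MonoidAlgebra.smul_single', q23_apply,
      Algebra.TensorProduct.tmul_mul_tmul, one_mul, mul_one]

theorem lam3_tmul (x : R') (w : R' ⊗[R] MonoidAlgebra R' M) :
    lam3 R R' M (x ⊗ₜ[R] w) =
      (x ⊗ₜ[R] (1 : R' ⊗[R] R')) • MonoidAlgebra.mapAlgHom M (q23 (R := R)) (rho R R' M w) := by
  rw [lam3, AlgEquiv.trans_apply, Algebra.TensorProduct.congr_apply,
    Algebra.TensorProduct.map_tmul]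
  exact rhoG_tmul x _

theorem q13_includeRight (y : R') :
    q13 (R := R) ((1 : R') ⊗ₜ[R] y) = q23 (R := R) ((1 : R') ⊗ₜ[R] y) := by
  rw [q13_tmul, q23_apply]

theorem mapAlgHom_q13_P2 (n : MonoidAlgebra R' M) :
    MonoidAlgebra.mapAlgHom M (q13 (R := R)) (P2 R n) =
      MonoidAlgebra.mapAlgHom M (q23 (R := R)) (P2 R n) := by
  induction n using MonoidAlgebra.induction_linear with
  | zero => simp
  | add a b ha hb => rw [map_add, map_add, ha, hb, map_add]
  | single m a =>
    rw [P2_single, MonoidAlgebra.mapAlgHom_single, MonoidAlgebra.mapAlgHom_single,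
      q13_includeRight]

/-- The right hand side of the cocycle condition. -/
theorem lam3_mk (a : R') (w : R' ⊗[R] MonoidAlgebra R' M) :
    lam3 R R' M (LinearMap.lTensor R' (TensorProduct.mk R R' (MonoidAlgebra R' M) a) w) =
      ((1 : R') ⊗ₜ[R] (a ⊗ₜ[R] (1 : R'))) •
        MonoidAlgebra.mapAlgHom M (q13 (R := R)) (rho R R' M w) := by
  induction w using TensorProduct.induction_on with
  | zero => simp
  | tmul x n =>
    rw [LinearMap.lTensor_tmul, TensorProduct.mk_apply, lam3_tmul, rho_tmul, rho_tmul,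
      mapAlgHom_smul, mapAlgHom_smul, ma_smul_smul, ma_smul_smul, mapAlgHom_q13_P2, q23_apply,
      q13_tmul]
    congr 1
    simp only [Algebra.TensorProduct.tmul_mul_tmul, mul_one, one_mul]
  | add a' b ha hb => rw [map_add, map_add, ha, hb, map_add, map_add, smul_add]

/-- The left hand side of the cocycle condition. -/
theorem lam3_assoc (w : R' ⊗[R] MonoidAlgebra R' M) (b : R') :
    lam3 R R' M (LinearMap.lTensor R' (phiD φ)
      (TensorProduct.assoc R R' (MonoidAlgebra R' M) R' (w ⊗ₜ[R] b))) =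
      ((1 : R') ⊗ₜ[R] ((1 : R') ⊗ₜ[R] b)) •
        pull φ (q23 (R := R)) (MonoidAlgebra.mapAlgHom M (q12 (R := R)) (rho R R' M w)) := by
  induction w using TensorProduct.induction_on with
  | zero => simp
  | tmul x n =>
    rw [TensorProduct.assoc_tmul, LinearMap.lTensor_tmul, lam3_tmul, rho_phiD, lam_tmul, rho_tmul]
    induction n using MonoidAlgebra.induction_linear with
    | zero => simp
    | add a' b' ha hb =>
      rw [map_add, smul_add, map_add, map_add, smul_add, ha, hb, map_add, smul_add, map_add,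
        map_add, smul_add]
    | single k y =>
      rw [P1_single, P2_single, MonoidAlgebra.smul_single', MonoidAlgebra.smul_single',
        MonoidAlgebra.mapAlgHom_single, pull_single, Algebra.TensorProduct.tmul_mul_tmul,
        Algebra.TensorProduct.tmul_mul_tmul, one_mul, mul_one, mul_one, q12_tmul]
      have h1 : (MonoidAlgebra.single k (y ⊗ₜ[R] b) : MonoidAlgebra (R' ⊗[R] R') M) =
          (y ⊗ₜ[R] b) • MonoidAlgebra.single k 1 := by
        rw [MonoidAlgebra.smul_single', mul_one]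
      rw [h1, map_smul φ, mapAlgHom_smul, ma_smul_smul, ma_smul_smul, q23_apply]
      congr 1
      simp only [Algebra.TensorProduct.tmul_mul_tmul, mul_one, one_mul]
  | add a' b' ha hb =>
    rw [add_tmul, map_add, map_add, map_add, ha, hb, map_add, map_add, map_add, smul_add]

/-- The cocycle condition on all elements, from the condition on the generators. -/
theorem cocycle_all
    (hcoc : ∀ m : M, pull φ (q23 (R := R)) (MonoidAlgebra.mapAlgHom M (q12 (R := R))
      (φ (MonoidAlgebra.single m 1))) =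
      MonoidAlgebra.mapAlgHom M (q13 (R := R)) (φ (MonoidAlgebra.single m 1)))
    (z : MonoidAlgebra (R' ⊗[R] R') M)
    (hz : ∀ m, q12 (R := R) (z.coeff m) = q13 (R := R) (z.coeff m)) :
    pull φ (q23 (R := R)) (MonoidAlgebra.mapAlgHom M (q12 (R := R)) (φ z)) =
      MonoidAlgebra.mapAlgHom M (q13 (R := R)) (φ z) := by
  classical
  have hz' : z = ∑ m ∈ z.coeff.support, (z.coeff m) • MonoidAlgebra.single m (1 : R' ⊗[R] R') := by
    conv_lhs => rw [← MonoidAlgebra.sum_coeff_single z]
    rw [Finsupp.sum]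
    refine Finset.sum_congr rfl (fun m _ => ?_)
    rw [MonoidAlgebra.smul_single', mul_one]
  rw [hz', map_sum, map_sum, map_sum, map_sum]
  refine Finset.sum_congr rfl (fun m _ => ?_)
  rw [map_smul, mapAlgHom_smul, mapAlgHom_smul, map_smul, hcoc m, hz m]

theorem phiD_hcoc
    (hcoc : ∀ m : M, pull φ (q23 (R := R)) (MonoidAlgebra.mapAlgHom M (q12 (R := R))
      (φ (MonoidAlgebra.single m 1))) =
      MonoidAlgebra.mapAlgHom M (q13 (R := R)) (φ (MonoidAlgebra.single m 1)))
    (u : MonoidAlgebra R' M) (a b : R') :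
    LinearMap.lTensor R' (phiD φ) (TensorProduct.assoc R R' (MonoidAlgebra R' M) R'
      (LinearMap.rTensor R' (phiD φ) ((u ⊗ₜ[R] a) ⊗ₜ[R] b))) =
      LinearMap.lTensor R' (TensorProduct.mk R R' (MonoidAlgebra R' M) a)
        (phiD φ (u ⊗ₜ[R] b)) := by
  apply (lam3 R R' M).injective
  rw [LinearMap.rTensor_tmul, lam3_assoc, lam3_mk, rho_phiD, rho_phiD, lam_tmul, lam_tmul,
    map_smul φ, map_smul φ, mapAlgHom_smul, mapAlgHom_smul, map_smul (pull φ (q23 (R := R))),
    ma_smul_smul, ma_smul_smul]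
  have hc := cocycle_all φ hcoc (P1 R u) (fun m => by
    rw [P1, MonoidAlgebra.coeff_mapAlgHom]
    simp)
  rw [hc]
  congr 1
  simp only [q12_tmul, q13_tmul, Algebra.TensorProduct.tmul_mul_tmul, mul_one, one_mul]

end Cocycle

section Descent

open Groth.Agent.Lib.R2H7.HopfDesc

variable {R : Type u} [CommRing R] {R' : Type u} [CommRing R'] [Algebra R R']
  {M : Type u} [CommGroup M]
variable (φ : MonoidAlgebra (R' ⊗[R] R') M →ₐ[R' ⊗[R] R'] MonoidAlgebra (R' ⊗[R] R') M)

/-- The cocycle condition on generators. -/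
def Coc : Prop :=
  ∀ m : M, pull φ (q23 (R := R)) (MonoidAlgebra.mapAlgHom M (q12 (R := R))
    (φ (MonoidAlgebra.single m 1))) =
    MonoidAlgebra.mapAlgHom M (q13 (R := R)) (φ (MonoidAlgebra.single m 1))

/-- Faithfully flat descent: `R' ⊗ Tw φ ≃ R'[M]`. -/
theorem theta_Tw_bijective [Module.Flat R R'] (hφ : Function.Bijective φ) (hcoc : Coc φ) :
    Function.Bijective (theta (R' := R') (Tw φ).val) := by
  have hm := Groth.Agent.Lib.Helper12.FFD.main (A := R) (A' := R') (M' := MonoidAlgebra R' M)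
    (phiD φ) (phiD_h1 φ) (phiD_h2 φ) (phiD_hcoc φ hcoc) (phiD_bijective φ hφ)
    (Subalgebra.toSubmodule (Tw φ)) (fun u => phiD_inv φ u)
  have he : ∀ t : R' ⊗[R] (Tw φ), theta (R' := R') (Tw φ).val t =
      ((TensorProduct.lift (Algebra.lsmul R R (MonoidAlgebra R' M)).toLinearMap) ∘ₗ
        (LinearMap.lTensor R' (Subalgebra.toSubmodule (Tw φ)).subtype)) t := by
    intro t
    induction t using TensorProduct.induction_on with
    | zero => simp
    | tmul r a =>
      rw [theta_tmul]
      simp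
    | add x y hx hy => rw [map_add, hx, hy, map_add]
  constructor
  · intro x y hxy
    apply hm.1
    rw [← he, ← he]
    exact hxy
  · intro z
    obtain ⟨t, ht⟩ := hm.2 z
    exact ⟨t, (he t).trans ht⟩

end Descent

section GroupLikeHom

variable {S : Type u} [CommRing S] {M : Type u} [CommGroup M]

theorem single_eq_smul (m : M) (c : S) :
    (MonoidAlgebra.single m c : MonoidAlgebra S M) = c • MonoidAlgebra.single m 1 := by
  rw [MonoidAlgebra.smul_single', mul_one]

variable (φ : MonoidAlgebra S M →ₐ[S] MonoidAlgebra S M)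
  (hgl : ∀ m, IsGroupLikeElem S (φ (MonoidAlgebra.single m 1)))

include hgl in
theorem counit_phi (z : MonoidAlgebra S M) : counit (R := S) (φ z) = counit (R := S) z := by
  induction z using MonoidAlgebra.induction_linear with
  | zero => simp
  | add a b ha hb => rw [map_add, map_add, ha, hb, map_add]
  | single m c =>
    rw [single_eq_smul, map_smul, map_smul, map_smul, (hgl m).counit_eq_one,
      MonoidAlgebra.counit_single]
    simp

include hgl in
theorem antipode_phi (z : MonoidAlgebra S M) :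
    HopfAlgebra.antipode S (φ z) = φ (HopfAlgebra.antipode S z) := by
  induction z using MonoidAlgebra.induction_linear with
  | zero => simp
  | add a b ha hb => rw [map_add, map_add, ha, hb, map_add, map_add]
  | single m c =>
    rw [single_eq_smul, map_smul, map_smul, map_smul, map_smul]
    congr 1
    rw [MonoidAlgebra.antipode_single]
    have h1 : HopfAlgebra.antipode S (1 : S) = 1 := HopfAlgebra.antipode_one
    rw [h1]
    have h2 := (hgl m).antipode_mul_cancel
    have h3 : φ (MonoidAlgebra.single m⁻¹ 1) * φ (MonoidAlgebra.single m 1) = 1 := by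
      rw [← map_mul, MonoidAlgebra.single_mul_single, inv_mul_cancel, mul_one,
        ← MonoidAlgebra.one_def, map_one]
    calc HopfAlgebra.antipode S (φ (MonoidAlgebra.single m 1))
        = HopfAlgebra.antipode S (φ (MonoidAlgebra.single m 1)) *
          (φ (MonoidAlgebra.single m⁻¹ 1) * φ (MonoidAlgebra.single m 1)) := by rw [h3, mul_one]
      _ = φ (MonoidAlgebra.single m⁻¹ 1) *
          (HopfAlgebra.antipode S (φ (MonoidAlgebra.single m 1)) *
            φ (MonoidAlgebra.single m 1)) := by ring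
      _ = φ (MonoidAlgebra.single m⁻¹ 1) := by rw [h2, mul_one]

end GroupLikeHom

section CoeffMaps

variable {R : Type u} [CommRing R] {S S' : Type u} [CommRing S] [CommRing S'] [Algebra R S]
  [Algebra R S'] {M : Type u} [CommGroup M] (q : S →ₐ[R] S')

theorem counit_mapAlgHom (z : MonoidAlgebra S M) :
    counit (R := S') (MonoidAlgebra.mapAlgHom M q z) = q (counit (R := S) z) := by
  induction z using MonoidAlgebra.induction_linear with
  | zero => simp
  | add a b ha hb => rw [map_add, map_add, ha, hb, map_add, map_add]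
  | single m c =>
    rw [MonoidAlgebra.mapAlgHom_single, MonoidAlgebra.counit_single, MonoidAlgebra.counit_single]
    rfl

theorem antipode_mapAlgHom (z : MonoidAlgebra S M) :
    HopfAlgebra.antipode S' (MonoidAlgebra.mapAlgHom M q z) =
      MonoidAlgebra.mapAlgHom M q (HopfAlgebra.antipode S z) := by
  induction z using MonoidAlgebra.induction_linear with
  | zero => simp
  | add a b ha hb => rw [map_add, map_add, ha, hb, map_add, map_add]
  | single m c =>
    rw [MonoidAlgebra.mapAlgHom_single, MonoidAlgebra.antipode_single,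
      MonoidAlgebra.antipode_single, MonoidAlgebra.mapAlgHom_single]
    rfl

end CoeffMaps

section Ext2

variable {S : Type u} [CommRing S] {M : Type u} [CommGroup M]

/-- `m ↦ (m, 1)`. -/
noncomputable def I1 : MonoidAlgebra S M →ₐ[S] MonoidAlgebra S (M × M) :=
  MonoidAlgebra.mapDomainAlgHom S S (MonoidHom.inl M M)

/-- `m ↦ (1, m)`. -/
noncomputable def I2 : MonoidAlgebra S M →ₐ[S] MonoidAlgebra S (M × M) :=
  MonoidAlgebra.mapDomainAlgHom S S (MonoidHom.inr M M)

/-- `m ↦ (m, m)`. -/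
noncomputable def Dg : MonoidAlgebra S M →ₐ[S] MonoidAlgebra S (M × M) :=
  MonoidAlgebra.mapDomainAlgHom S S ((MonoidHom.id M).prod (MonoidHom.id M))

@[simp] theorem I1_single (m : M) (c : S) :
    I1 (MonoidAlgebra.single m c : MonoidAlgebra S M) = MonoidAlgebra.single (m, 1) c := by
  simp [I1]

@[simp] theorem I2_single (m : M) (c : S) :
    I2 (MonoidAlgebra.single m c : MonoidAlgebra S M) = MonoidAlgebra.single (1, m) c := by
  simp [I2]

@[simp] theorem Dg_single (m : M) (c : S) :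
    Dg (MonoidAlgebra.single m c : MonoidAlgebra S M) = MonoidAlgebra.single (m, m) c := by
  simp [Dg]

/-- The external product `S[M] ⊗ S[M] → S[M × M]`. -/
noncomputable def PM : MonoidAlgebra S M ⊗[S] MonoidAlgebra S M →ₐ[S] MonoidAlgebra S (M × M) :=
  Algebra.TensorProduct.productMap I1 I2

theorem PM_tmul (u v : MonoidAlgebra S M) : PM (u ⊗ₜ[S] v) = I1 u * I2 v := by
  simp [PM]

theorem PM_eq_tensorEquiv (y : MonoidAlgebra S M ⊗[S] MonoidAlgebra S M) :
    PM y = MonoidAlgebra.tensorEquiv S y := by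
  induction y using TensorProduct.induction_on with
  | zero => simp
  | tmul u v =>
    induction u using MonoidAlgebra.induction_linear with
    | zero => simp
    | add a b ha hb => rw [add_tmul, map_add, map_add, ha, hb]
    | single m c =>
      induction v using MonoidAlgebra.induction_linear with
      | zero => simp
      | add a b ha hb => rw [tmul_add, map_add, map_add, ha, hb]
      | single n d =>
        rw [PM_tmul, I1_single, I2_single, MonoidAlgebra.single_mul_single,
          MonoidAlgebra.tensorEquiv_single_tmul_single]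
        simp
  | add x y hx hy => rw [map_add, map_add, hx, hy]

theorem PM_injective : Function.Injective (PM (S := S) (M := M)) := by
  intro x y h
  rw [PM_eq_tensorEquiv, PM_eq_tensorEquiv] at h
  exact (MonoidAlgebra.tensorEquiv S).injective h

theorem PM_comul (z : MonoidAlgebra S M) : PM (comul (R := S) z) = Dg z := by
  induction z using MonoidAlgebra.induction_linear with
  | zero => simp
  | add a b ha hb => rw [map_add, map_add, ha, hb, map_add]
  | single m c =>
    rw [Groth.Agent.Lib.R2H7.GLLift.comul_single', map_smul, PM_tmul, I1_single, I2_single,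
      MonoidAlgebra.single_mul_single, Dg_single, MonoidAlgebra.smul_single']
    simp

theorem PM_groupLike {g : MonoidAlgebra S M} (hg : IsGroupLikeElem S g) :
    Dg g = I1 g * I2 g := by
  rw [← PM_comul, hg.comul_eq_tmul_self, PM_tmul]

end Ext2

section Ext2Coeff

variable {R : Type u} [CommRing R] {S S' : Type u} [CommRing S] [CommRing S'] [Algebra R S]
  [Algebra R S'] {M : Type u} [CommGroup M] (q : S →ₐ[R] S')

theorem mapAlgHom_I1 (z : MonoidAlgebra S M) :
    MonoidAlgebra.mapAlgHom (M × M) q (I1 z) = I1 (MonoidAlgebra.mapAlgHom M q z) := by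
  induction z using MonoidAlgebra.induction_linear with
  | zero => simp
  | add a b ha hb => rw [map_add, map_add, ha, hb, map_add, map_add]
  | single m c =>
    rw [I1_single, MonoidAlgebra.mapAlgHom_single, MonoidAlgebra.mapAlgHom_single, I1_single]

theorem mapAlgHom_I2 (z : MonoidAlgebra S M) :
    MonoidAlgebra.mapAlgHom (M × M) q (I2 z) = I2 (MonoidAlgebra.mapAlgHom M q z) := by
  induction z using MonoidAlgebra.induction_linear with
  | zero => simp
  | add a b ha hb => rw [map_add, map_add, ha, hb, map_add, map_add]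
  | single m c =>
    rw [I2_single, MonoidAlgebra.mapAlgHom_single, MonoidAlgebra.mapAlgHom_single, I2_single]

theorem mapAlgHom_Dg (z : MonoidAlgebra S M) :
    MonoidAlgebra.mapAlgHom (M × M) q (Dg z) = Dg (MonoidAlgebra.mapAlgHom M q z) := by
  induction z using MonoidAlgebra.induction_linear with
  | zero => simp
  | add a b ha hb => rw [map_add, map_add, ha, hb, map_add, map_add]
  | single m c =>
    rw [Dg_single, MonoidAlgebra.mapAlgHom_single, MonoidAlgebra.mapAlgHom_single, Dg_single]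

end Ext2Coeff

section HopfTw

open Groth.Agent.Lib.R2H7.HopfDesc

variable {R : Type u} [CommRing R] {R' : Type u} [CommRing R'] [Algebra R R']
  {M : Type u} [CommGroup M]
variable (φ : MonoidAlgebra (R' ⊗[R] R') M →ₐ[R' ⊗[R] R'] MonoidAlgebra (R' ⊗[R] R') M)

/-- The group-like condition: `φ` is a homomorphism of bialgebras. -/
def IsGLHom : Prop := ∀ m : M, IsGroupLikeElem (R' ⊗[R] R') (φ (MonoidAlgebra.single m 1))

theorem counit_mem [Module.FaithfullyFlat R R'] (hgl : IsGLHom φ) {b : MonoidAlgebra R' M}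
    (hb : b ∈ Tw φ) : counit (R := R') b ∈ Set.range (algebraMap R R') := by
  have h1 : counit (R := R' ⊗[R] R') (φ (P1 R b)) = counit (R := R' ⊗[R] R') (P1 R b) :=
    counit_phi φ hgl _
  have h3 : counit (R := R' ⊗[R] R') (P1 R b) =
      (Algebra.TensorProduct.includeLeft : R' →ₐ[R] R' ⊗[R] R') (counit (R := R') b) :=
    counit_mapAlgHom _ b
  have h4 : counit (R := R' ⊗[R] R') (P2 R b) =
      (Algebra.TensorProduct.includeRight : R' →ₐ[R] R' ⊗[R] R') (counit (R := R') b) :=
    counit_mapAlgHom _ b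
  rw [(mem_Tw φ).mp hb, h3, h4] at h1
  have h2 : Algebra.TensorProduct.includeLeftSubRight R R' (counit (R := R') b) = 0 := by
    rw [Algebra.TensorProduct.includeLeftSubRight_apply, sub_eq_zero]
    exact h1.symm
  obtain ⟨r, hr⟩ := (Algebra.IsEffective.of_faithfullyFlat R R' _).mp h2
  exact ⟨r, hr⟩

theorem antipode_mem (hgl : IsGLHom φ) {b : MonoidAlgebra R' M} (hb : b ∈ Tw φ) :
    HopfAlgebra.antipode R' b ∈ Tw φ := by
  rw [mem_Tw] at hb ⊢
  have h1 : P1 R (HopfAlgebra.antipode R' b) = HopfAlgebra.antipode (R' ⊗[R] R') (P1 R b) :=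
    (antipode_mapAlgHom _ b).symm
  have h2 : P2 R (HopfAlgebra.antipode R' b) = HopfAlgebra.antipode (R' ⊗[R] R') (P2 R b) :=
    (antipode_mapAlgHom _ b).symm
  rw [h1, h2, ← antipode_phi φ hgl, hb]

/-- `φ` on the group `M × M`. -/
noncomputable def phi2 : MonoidAlgebra (R' ⊗[R] R') (M × M) →ₐ[R' ⊗[R] R']
    MonoidAlgebra (R' ⊗[R] R') (M × M) :=
  MonoidAlgebra.lift (R' ⊗[R] R') (MonoidAlgebra (R' ⊗[R] R') (M × M)) (M × M)
    { toFun := fun mn => I1 (φ (MonoidAlgebra.single mn.1 1)) * I2 (φ (MonoidAlgebra.single mn.2 1))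
      map_one' := by
        have h1 : (MonoidAlgebra.single (1 : M) (1 : R' ⊗[R] R') :
            MonoidAlgebra (R' ⊗[R] R') M) = 1 := MonoidAlgebra.one_def.symm
        change I1 (φ (MonoidAlgebra.single (1 : M) 1)) * I2 (φ (MonoidAlgebra.single (1 : M) 1)) = 1
        rw [h1, map_one, map_one, map_one, mul_one]
      map_mul' := by
        intro a b
        have h1 : ∀ m m' : M, (MonoidAlgebra.single (m * m') (1 : R' ⊗[R] R') :
            MonoidAlgebra (R' ⊗[R] R') M) =
            MonoidAlgebra.single m 1 * MonoidAlgebra.single m' 1 := by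
          intro m m'
          rw [MonoidAlgebra.single_mul_single, mul_one]
        change I1 (φ (MonoidAlgebra.single (a.1 * b.1) 1)) *
          I2 (φ (MonoidAlgebra.single (a.2 * b.2) 1)) = _
        rw [h1, h1, map_mul, map_mul, map_mul, map_mul, mul_mul_mul_comm] }

theorem phi2_single (mn : M × M) (c : R' ⊗[R] R') :
    phi2 φ (MonoidAlgebra.single mn c) =
      c • (I1 (φ (MonoidAlgebra.single mn.1 1)) * I2 (φ (MonoidAlgebra.single mn.2 1))) := by
  rw [phi2, MonoidAlgebra.lift_single]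
  rfl

theorem phi_single_one : φ (MonoidAlgebra.single (1 : M) 1) = 1 := by
  have h1 : (MonoidAlgebra.single (1 : M) (1 : R' ⊗[R] R') :
      MonoidAlgebra (R' ⊗[R] R') M) = 1 := MonoidAlgebra.one_def.symm
  rw [h1, map_one]

theorem phi2_I1 (z : MonoidAlgebra (R' ⊗[R] R') M) : phi2 φ (I1 z) = I1 (φ z) := by
  induction z using MonoidAlgebra.induction_linear with
  | zero => simp
  | add a b ha hb => rw [map_add, map_add, ha, hb, map_add, map_add]
  | single m c =>
    rw [I1_single, phi2_single, phi_single_one, map_one, mul_one, single_eq_smul m c, map_smul,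
      map_smul]

theorem phi2_I2 (z : MonoidAlgebra (R' ⊗[R] R') M) : phi2 φ (I2 z) = I2 (φ z) := by
  induction z using MonoidAlgebra.induction_linear with
  | zero => simp
  | add a b ha hb => rw [map_add, map_add, ha, hb, map_add, map_add]
  | single m c =>
    rw [I2_single, phi2_single, phi_single_one, map_one, one_mul, single_eq_smul m c, map_smul,
      map_smul]

theorem phi2_Dg (hgl : IsGLHom φ) (z : MonoidAlgebra (R' ⊗[R] R') M) : phi2 φ (Dg z) = Dg (φ z) := by
  induction z using MonoidAlgebra.induction_linear with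
  | zero => simp
  | add a b ha hb => rw [map_add, map_add, ha, hb, map_add, map_add]
  | single m c =>
    rw [Dg_single, phi2_single, single_eq_smul m c, map_smul, map_smul, PM_groupLike (hgl m)]

theorem P1_I1 (u : MonoidAlgebra R' M) : P1 R (I1 u) = I1 (P1 R u) := mapAlgHom_I1 _ u

theorem P2_I1 (u : MonoidAlgebra R' M) : P2 R (I1 u) = I1 (P2 R u) := mapAlgHom_I1 _ u

theorem P1_I2 (u : MonoidAlgebra R' M) : P1 R (I2 u) = I2 (P1 R u) := mapAlgHom_I2 _ u

theorem P2_I2 (u : MonoidAlgebra R' M) : P2 R (I2 u) = I2 (P2 R u) := mapAlgHom_I2 _ u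

theorem P1_Dg (u : MonoidAlgebra R' M) : P1 R (Dg u) = Dg (P1 R u) := mapAlgHom_Dg _ u

theorem P2_Dg (u : MonoidAlgebra R' M) : P2 R (Dg u) = Dg (P2 R u) := mapAlgHom_Dg _ u

/-- The twisted form for the group `M × M`. -/
noncomputable abbrev Tw2 : Subalgebra R (MonoidAlgebra R' (M × M)) := Tw (phi2 φ)

theorem mem_Tw2 {b : MonoidAlgebra R' (M × M)} : b ∈ Tw2 φ ↔ phi2 φ (P1 R b) = P2 R b := Iff.rfl

theorem I1_mem_Tw {a : MonoidAlgebra R' M} (ha : a ∈ Tw φ) : I1 a ∈ Tw2 φ := by
  rw [mem_Tw2]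
  rw [mem_Tw] at ha
  rw [P1_I1, phi2_I1, ha, P2_I1]

theorem I2_mem_Tw {a : MonoidAlgebra R' M} (ha : a ∈ Tw φ) : I2 a ∈ Tw2 φ := by
  rw [mem_Tw2]
  rw [mem_Tw] at ha
  rw [P1_I2, phi2_I2, ha, P2_I2]

theorem Dg_mem_Tw (hgl : IsGLHom φ) {b : MonoidAlgebra R' M} (hb : b ∈ Tw φ) :
    Dg b ∈ Tw2 φ := by
  rw [mem_Tw2]
  rw [mem_Tw] at hb
  rw [P1_Dg, phi2_Dg φ hgl, hb, P2_Dg]

variable {A : Type u} [CommRing A] [Algebra R A] (j : A →ₐ[R] MonoidAlgebra R' M)
  (hj : ∀ a, j a ∈ Tw φ)

include hj in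
theorem PM_j2_mem (n : A ⊗[R] A) :
    PM (j2 (R' := R') j n) ∈ Tw2 φ := by
  induction n using TensorProduct.induction_on with
  | zero =>
    rw [map_zero, map_zero]
    exact zero_mem _
  | tmul a a' =>
    rw [j2_tmul, PM_tmul]
    exact mul_mem (I1_mem_Tw φ (hj a)) (I2_mem_Tw φ (hj a'))
  | add x y hx hy =>
    rw [map_add, map_add]
    exact add_mem hx hy

variable (hΘ : Function.Bijective (theta (R' := R') j))

/-- `R' ⊗ (Tw ⊗ Tw) → R'[M × M]`. -/
noncomputable def Kmap : R' ⊗[R] (A ⊗[R] A) →ₗ[R'] MonoidAlgebra R' (M × M) :=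
  (PM (S := R') (M := M)).toLinearMap ∘ₗ (kappa (R' := R') j hΘ).toLinearMap

theorem Kmap_apply (x : R' ⊗[R] (A ⊗[R] A)) :
    Kmap j hΘ x = PM (kappa (R' := R') j hΘ x) := rfl

theorem Kmap_injective : Function.Injective (Kmap j hΘ) := by
  intro x y h
  rw [Kmap_apply, Kmap_apply] at h
  exact (kappa (R' := R') j hΘ).injective (PM_injective h)

include hj in
theorem Kmap_one_tmul_mem (n : A ⊗[R] A) :
    Kmap j hΘ ((1 : R') ⊗ₜ[R] n) ∈ Tw2 φ := by
  rw [Kmap_apply, kappa_one_tmul]
  exact PM_j2_mem φ j hj n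

/-- The comparison map used for the Amitsur argument. -/
noncomputable def PsiK : R' ⊗[R] (R' ⊗[R] (A ⊗[R] A)) →ₗ[R]
    MonoidAlgebra (R' ⊗[R] R') (M × M) :=
  (rho R R' (M × M)).toLinearMap ∘ₗ LinearMap.lTensor R' ((Kmap j hΘ).restrictScalars R)

theorem PsiK_tmul (s : R') (x : R' ⊗[R] (A ⊗[R] A)) :
    PsiK j hΘ (s ⊗ₜ[R] x) = (s ⊗ₜ[R] (1 : R')) • P2 R (Kmap j hΘ x) := by
  rw [PsiK, LinearMap.comp_apply, LinearMap.lTensor_tmul]
  exact rho_tmul R s _

theorem PsiK_injective [Module.Flat R R'] : Function.Injective (PsiK j hΘ) := by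
  have h1 : Function.Injective (LinearMap.lTensor R' ((Kmap j hΘ).restrictScalars R)) :=
    Module.Flat.lTensor_preserves_injective_linearMap _ (Kmap_injective j hΘ)
  intro x y h
  apply h1
  exact (rho R R' (M × M)).injective h

include hj in
theorem PsiK_lTensor_mk (x : R' ⊗[R] (A ⊗[R] A)) :
    PsiK j hΘ (LinearMap.lTensor R' (TensorProduct.mk R R' (A ⊗[R] A) 1) x) =
      phi2 φ (P1 R (Kmap j hΘ x)) := by
  induction x using TensorProduct.induction_on with
  | zero => simp
  | tmul s n =>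
    rw [LinearMap.lTensor_tmul, TensorProduct.mk_apply, PsiK_tmul,
      ← (mem_Tw2 φ).mp (Kmap_one_tmul_mem φ j hj hΘ n), ← map_smul, ← P1_smul, ← map_smul,
      TensorProduct.smul_tmul', smul_eq_mul, mul_one]
  | add x y hx hy => rw [map_add, map_add, hx, hy, map_add, map_add, map_add]

include hj in
theorem mem_range_mk_of_Kmap_mem [Module.FaithfullyFlat R R']
    (x : R' ⊗[R] (A ⊗[R] A)) (hx : Kmap j hΘ x ∈ Tw2 φ) :
    x ∈ LinearMap.range (TensorProduct.mk R R' (A ⊗[R] A) 1) := by
  have key : TensorProduct.mk R R' (R' ⊗[R] (A ⊗[R] A)) 1 x =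
      LinearMap.lTensor R' (TensorProduct.mk R R' (A ⊗[R] A) 1) x := by
    apply PsiK_injective j hΘ
    rw [PsiK_lTensor_mk φ j hj hΘ, TensorProduct.mk_apply, PsiK_tmul, (mem_Tw2 φ).mp hx]
    have h1 : ((1 : R') ⊗ₜ[R] (1 : R')) = (1 : R' ⊗[R] R') := rfl
    rw [h1, one_smul]
  exact Groth.Agent.Lib.Helper22.amitsur_mem_range _ x key

include hj hΘ in
theorem comul_mem_range [Module.FaithfullyFlat R R'] (hgl : IsGLHom φ) (a : A) :
    comul (R := R') (j a) ∈ Set.range (j2 (R' := R') j) := by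
  set x := (kappa (R' := R') j hΘ).symm (comul (R := R') (j a)) with hx
  have h1 : Kmap j hΘ x ∈ Tw2 φ := by
    rw [Kmap_apply, hx, LinearEquiv.apply_symm_apply, PM_comul]
    exact Dg_mem_Tw φ hgl (hj a)
  obtain ⟨n, hn⟩ := mem_range_mk_of_Kmap_mem φ j hj hΘ x h1
  refine ⟨n, ?_⟩
  rw [← kappa_one_tmul (R' := R') j hΘ n]
  rw [TensorProduct.mk_apply] at hn
  rw [hn, hx, LinearEquiv.apply_symm_apply]

end HopfTw

section Final

open Groth.Agent.Lib.R2H7.HopfDesc

variable {R : Type u} [CommRing R] {R' : Type u} [CommRing R'] [Algebra R R']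
  {M : Type u} [CommGroup M]
variable (φ : MonoidAlgebra (R' ⊗[R] R') M →ₐ[R' ⊗[R] R'] MonoidAlgebra (R' ⊗[R] R') M)

theorem pull_mapAlgHom (q : R' ⊗[R] R' →ₐ[R] R' ⊗[R] (R' ⊗[R] R'))
    (z : MonoidAlgebra (R' ⊗[R] R') M) :
    pull φ q (MonoidAlgebra.mapAlgHom M q z) = MonoidAlgebra.mapAlgHom M q (φ z) := by
  induction z using MonoidAlgebra.induction_linear with
  | zero => simp
  | add a b ha hb => rw [map_add, map_add, ha, hb, map_add, map_add]
  | single n c =>
    rw [MonoidAlgebra.mapAlgHom_single, pull_single, single_eq_smul n c, map_smul φ,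
      mapAlgHom_smul]

theorem mapAlgHom_q12_P2 (u : MonoidAlgebra R' M) :
    MonoidAlgebra.mapAlgHom M (q12 (R := R)) (P2 R u) =
      MonoidAlgebra.mapAlgHom M (q23 (R := R)) (P1 R u) := by
  induction u using MonoidAlgebra.induction_linear with
  | zero => simp
  | add a b ha hb => rw [map_add, map_add, ha, hb, map_add, map_add]
  | single m a =>
    rw [P2_single, P1_single, MonoidAlgebra.mapAlgHom_single, MonoidAlgebra.mapAlgHom_single,
      q12_tmul, q23_apply]

/-- If the invariants span `R'[M]`, the cocycle condition holds. -/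
theorem coc_of_span (hspan : Submodule.span R' (Tw φ : Set (MonoidAlgebra R' M)) = ⊤) :
    Coc φ := by
  have key : ∀ u : MonoidAlgebra R' M,
      pull φ (q23 (R := R)) (MonoidAlgebra.mapAlgHom M (q12 (R := R)) (φ (P1 R u))) =
        MonoidAlgebra.mapAlgHom M (q13 (R := R)) (φ (P1 R u)) := by
    intro u
    have hu : u ∈ Submodule.span R' (Tw φ : Set (MonoidAlgebra R' M)) := by
      rw [hspan]
      trivial
    induction hu using Submodule.span_induction with
    | mem b hb =>
      have hb' : φ (P1 R b) = P2 R b := hb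
      rw [hb', mapAlgHom_q12_P2, pull_mapAlgHom, hb', mapAlgHom_q13_P2]
    | zero => simp
    | add x y _ _ hx hy =>
      rw [map_add, map_add, map_add, map_add, hx, hy, map_add]
    | smul c x _ hx =>
      rw [P1_smul, map_smul φ, mapAlgHom_smul, map_smul (pull φ (q23 (R := R))), hx,
        mapAlgHom_smul, q12_tmul, q13_tmul]
  intro m
  have h := key (MonoidAlgebra.single m 1)
  rw [P1_single] at h
  exact h

variable [Module.FaithfullyFlat R R'] (hφ : Function.Bijective φ) (hgl : IsGLHom φ)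
  (hcoc : Coc φ)

/-- The Hopf algebra structure on the twisted form. -/
@[reducible] noncomputable def hopfTw : HopfAlgebra R (Tw φ) :=
  hopfOfDescent (R' := R') (Tw φ).val (theta_Tw_bijective φ hφ hcoc)
    (fun a => comul_mem_range φ (Tw φ).val (fun a => a.2) (theta_Tw_bijective φ hφ hcoc) hgl a)
    (fun a => counit_mem φ hgl a.2)
    (fun a => ⟨⟨_, antipode_mem φ hgl a.2⟩, rfl⟩)

/-- The twisted form becomes the group algebra after the base change `R → R'`. -/
theorem exists_twEquiv :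
    letI := hopfTw φ hφ hgl hcoc
    ∃ Φ : R' ⊗[R] (Tw φ) ≃ₐc[R'] MonoidAlgebra R' M,
      ∀ (r : R') (a : Tw φ), Φ (r ⊗ₜ[R] a) = r • (a : MonoidAlgebra R' M) :=
  exists_bialgEquiv (R' := R') (Tw φ).val (theta_Tw_bijective φ hφ hcoc)
    (fun a => comul_mem_range φ (Tw φ).val (fun a => a.2) (theta_Tw_bijective φ hφ hcoc) hgl a)
    (fun a => counit_mem φ hgl a.2)
    (fun a => ⟨⟨_, antipode_mem φ hgl a.2⟩, rfl⟩)

include hφ hgl hcoc in
/-- The twisted form, packaged with an abstract carrier. -/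
theorem exists_form :
    ∃ (A : Type u) (_ : CommRing A) (_ : HopfAlgebra R A) (j : A →ₐ[R] MonoidAlgebra R' M)
      (Θ : R' ⊗[R] A ≃ₐc[R'] MonoidAlgebra R' M),
      (∀ a, j a ∈ Tw φ) ∧ ∀ (r : R') (a : A), Θ (r ⊗ₜ[R] a) = r • j a := by
  obtain ⟨Φ, hΦ⟩ := exists_twEquiv φ hφ hgl hcoc
  exact ⟨Tw φ, inferInstance, hopfTw φ hφ hgl hcoc, (Tw φ).val, Φ, fun a => a.2, hΦ⟩

end Final

end Groth.Agent.Lib.R2H7.TwForm
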