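import Mathlib
import Groth.Agent.Lib.R2H7TwForm
import Groth.Agent.Lib.Helper26HenselIdem
import Groth.Agent.Lib.Helper25GroupLikeConn

/-!
# R2H7GLHens: lifting group-like elements of group algebras along henselian surjections

Let `π : S → S₀` be a ring map whose kernel is contained in the Jacobson radical and along which
idempotents lift.  Group-like elements of `S₀[M]` lift uniquely to group-like elements of `S[M]`; hence
endomorphisms of the bialgebra `S₀[M]` lift uniquely to endomorphisms of the bialgebra `S[M]`.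
-/

set_option autoImplicit false
universe u

namespace Groth.Agent.Lib.R2H7.GLHens

open TensorProduct Coalgebra
open Groth.Agent.Lib.R2H7.TwForm Groth.Agent.Lib.R2H7.GLLift Groth.Agent.Lib.Helper25

section Basic

variable {S : Type u} [CommRing S] {M : Type u} [CommGroup M]

theorem isGroupLikeElem_mapRingHom {S' : Type u} [CommRing S'] (f : S →+* S')
    {g : MonoidAlgebra S M} (hg : IsGroupLikeElem S g) :
    IsGroupLikeElem S' (MonoidAlgebra.mapRingHom M f g) where
  counit_eq_one := by
    have h := RingHom.congr_fun (MonoidAlgebra.counitAlgHom_comp_mapRingHom (M := M) f) g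
    have h' : counit (R := S') (MonoidAlgebra.mapRingHom M f g) = f (counit (R := S) g) := h
    rw [h', hg.counit_eq_one, map_one]
  comul_eq_tmul_self := by
    have h := RingHom.congr_fun (MonoidAlgebra.comulAlgHom_comp_mapRingHom (M := M) f) g
    have h' : comul (R := S') (MonoidAlgebra.mapRingHom M f g) = _ := h
    have h'' : (Bialgebra.comulAlgHom S (MonoidAlgebra S M)).toRingHom g = g ⊗ₜ[S] g :=
      hg.comul_eq_tmul_self
    rw [h', RingHom.comp_apply, h'', Algebra.TensorProduct.mapRingHom_tmul]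

theorem isGroupLikeElem_mapAlgHom {R : Type u} [CommRing R] {S' : Type u} [CommRing S']
    [Algebra R S] [Algebra R S'] (q : S →ₐ[R] S') {g : MonoidAlgebra S M}
    (hg : IsGroupLikeElem S g) : IsGroupLikeElem S' (MonoidAlgebra.mapAlgHom M q g) :=
  isGroupLikeElem_mapRingHom q.toRingHom hg

theorem mapRingHom_smul {S' : Type u} [CommRing S'] (f : S →+* S') (c : S)
    (z : MonoidAlgebra S M) :
    MonoidAlgebra.mapRingHom M f (c • z) = f c • MonoidAlgebra.mapRingHom M f z := by
  induction z using MonoidAlgebra.induction_linear with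
  | zero => simp
  | add a b ha hb => rw [smul_add, map_add, ha, hb, map_add, smul_add]
  | single m a =>
    rw [MonoidAlgebra.smul_single', MonoidAlgebra.mapRingHom_single, MonoidAlgebra.mapRingHom_single,
      MonoidAlgebra.smul_single', map_mul]

theorem coeff_mul_coeff [DecidableEq M] {g : MonoidAlgebra S M} (hg : IsGroupLikeElem S g)
    (n n' : M) : g.coeff n * g.coeff n' = if n = n' then g.coeff n else 0 := by
  rw [← coeffPair_comul, hg.comul_eq_tmul_self]
  simp [coeffPair]

theorem coeff_idem {g : MonoidAlgebra S M} (hg : IsGroupLikeElem S g) (n : M) :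
    IsIdempotentElem (g.coeff n) := by
  classical
  have h := coeff_mul_coeff hg n n
  rwa [if_pos rfl] at h

theorem algHom_self_ext' {T X : Type*} [CommSemiring T] [Semiring X] [Algebra T X]
    (f g : T →ₐ[T] X) : f = g := by
  apply AlgHom.ext
  intro r
  have h : r = algebraMap T T r := rfl
  rw [h, f.commutes, g.commutes]

theorem sum_coeff {g : MonoidAlgebra S M} (hg : IsGroupLikeElem S g) :
    ∑ n ∈ g.coeff.support, g.coeff n = 1 := by
  rw [← counit_eq_sum, hg.counit_eq_one]

/-- An algebra endomorphism of `S[M]` sending the elements of `M` to group-like elements respects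
the comultiplication. -/
theorem comul_glHom (ψ : MonoidAlgebra S M →ₐ[S] MonoidAlgebra S M)
    (hψ : ∀ m, IsGroupLikeElem S (ψ (MonoidAlgebra.single m 1))) (z : MonoidAlgebra S M) :
    comul (R := S) (ψ z) = Algebra.TensorProduct.map ψ ψ (comul (R := S) z) := by
  induction z using MonoidAlgebra.induction_linear with
  | zero => simp
  | add a b ha hb => rw [map_add, map_add, ha, hb, map_add, map_add]
  | single m c =>
    rw [single_eq_smul m c, map_smul, map_smul, map_smul, (hψ m).comul_eq_tmul_self,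
      (MonoidAlgebra.isGroupLikeElem_single_one m).comul_eq_tmul_self, map_smul,
      Algebra.TensorProduct.map_tmul]

theorem isGroupLikeElem_glHom_apply (ψ : MonoidAlgebra S M →ₐ[S] MonoidAlgebra S M)
    (hψ : ∀ m, IsGroupLikeElem S (ψ (MonoidAlgebra.single m 1))) {g : MonoidAlgebra S M}
    (hg : IsGroupLikeElem S g) : IsGroupLikeElem S (ψ g) where
  counit_eq_one := by rw [counit_phi ψ hψ, hg.counit_eq_one]
  comul_eq_tmul_self := by
    rw [comul_glHom ψ hψ, hg.comul_eq_tmul_self, Algebra.TensorProduct.map_tmul]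

end Basic

section Lift

variable {S S₀ : Type u} [CommRing S] [CommRing S₀] (π : S →+* S₀) {M : Type u} [CommGroup M]

theorem gl_unique (hker : ∀ t : S, π t = 0 → t ∈ Ideal.jacobson (⊥ : Ideal S)) {g g' : MonoidAlgebra S M}
    (hg : IsGroupLikeElem S g) (hg' : IsGroupLikeElem S g')
    (h : MonoidAlgebra.mapRingHom M π g = MonoidAlgebra.mapRingHom M π g') : g = g' := by
  apply MonoidAlgebra.coeff_injective
  ext n
  apply Groth.Agent.Lib.Helper26.HenselIdem.idem_eq_of_sub_mem_jacobson (Ideal.jacobson ⊥)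
    le_rfl (coeff_idem hg n) (coeff_idem hg' n)
  apply hker
  rw [map_sub, sub_eq_zero, ← MonoidAlgebra.coeff_mapRingHom,
    ← MonoidAlgebra.coeff_mapRingHom, h]

theorem gl_exists (hker : ∀ t : S, π t = 0 → t ∈ Ideal.jacobson (⊥ : Ideal S))
    (hidem : ∀ e₀ : S₀, IsIdempotentElem e₀ → ∃ e : S, IsIdempotentElem e ∧ π e = e₀)
    {g₀ : MonoidAlgebra S₀ M} (hg₀ : IsGroupLikeElem S₀ g₀) :
    ∃ g : MonoidAlgebra S M, IsGroupLikeElem S g ∧ MonoidAlgebra.mapRingHom M π g = g₀ := by
  classical
  have hch : ∀ i : ↥g₀.coeff.support, ∃ e : S, IsIdempotentElem e ∧ π e = g₀.coeff (i : M) :=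
    fun i => hidem _ (coeff_idem hg₀ i)
  choose e he1 he2 using hch
  have hortho : ∀ i j : ↥g₀.coeff.support, i ≠ j → e i * e j = 0 := by
    intro i j hij
    apply Groth.Agent.Lib.Helper26.HenselIdem.idem_eq_of_sub_mem_jacobson (Ideal.jacobson ⊥)
      le_rfl ((he1 i).mul (he1 j)) IsIdempotentElem.zero
    apply hker
    rw [sub_zero, map_mul, he2, he2, coeff_mul_coeff hg₀,
      if_neg (fun h => hij (Subtype.ext h))]
  have hoi : OrthogonalIdempotents e := ⟨he1, fun i j hij => hortho i j hij⟩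
  have hsum : ∑ i, e i = 1 := by
    apply Groth.Agent.Lib.Helper26.HenselIdem.idem_eq_of_sub_mem_jacobson (Ideal.jacobson ⊥)
      le_rfl hoi.isIdempotentElem_sum IsIdempotentElem.one
    apply hker
    rw [map_sub, map_sum, map_one, sub_eq_zero]
    have h1 : ∑ i : ↥g₀.coeff.support, π (e i) = ∑ i : ↥g₀.coeff.support, g₀.coeff (i : M) :=
      Finset.sum_congr rfl (fun i _ => he2 i)
    rw [h1, Finset.sum_coe_sort g₀.coeff.support (fun n => g₀.coeff n)]
    exact sum_coeff hg₀
  have hcoi : CompleteOrthogonalIdempotents e := ⟨hoi, hsum⟩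
  refine ⟨∑ i : ↥g₀.coeff.support, MonoidAlgebra.single (i : M) (e i),
    isGroupLikeElem_sum_single _ _ hcoi, ?_⟩
  rw [map_sum]
  have h2 : ∀ i : ↥g₀.coeff.support,
      MonoidAlgebra.mapRingHom M π (MonoidAlgebra.single (i : M) (e i)) =
        MonoidAlgebra.single (i : M) (g₀.coeff (i : M)) := by
    intro i
    rw [MonoidAlgebra.mapRingHom_single, he2]
  rw [Finset.sum_congr rfl (fun i _ => h2 i),
    Finset.sum_coe_sort g₀.coeff.support (fun n => MonoidAlgebra.single n (g₀.coeff n))]
  exact (eq_sum_single g₀).symm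

/-- Endomorphisms of the bialgebra `S₀[M]` lift to endomorphisms of the bialgebra `S[M]`. -/
theorem exists_lift_glHom (hker : ∀ t : S, π t = 0 → t ∈ Ideal.jacobson (⊥ : Ideal S))
    (hidem : ∀ e₀ : S₀, IsIdempotentElem e₀ → ∃ e : S, IsIdempotentElem e ∧ π e = e₀)
    (φ₀ : MonoidAlgebra S₀ M →ₐ[S₀] MonoidAlgebra S₀ M)
    (hφ₀ : ∀ m, IsGroupLikeElem S₀ (φ₀ (MonoidAlgebra.single m 1))) :
    ∃ φ : MonoidAlgebra S M →ₐ[S] MonoidAlgebra S M,
      (∀ m, IsGroupLikeElem S (φ (MonoidAlgebra.single m 1))) ∧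
      ∀ z, MonoidAlgebra.mapRingHom M π (φ z) = φ₀ (MonoidAlgebra.mapRingHom M π z) := by
  have hch := fun m => gl_exists π hker hidem (hφ₀ m)
  choose g hg1 hg2 using hch
  have h1 : (MonoidAlgebra.single (1 : M) (1 : S₀) : MonoidAlgebra S₀ M) = 1 :=
    MonoidAlgebra.one_def.symm
  let γ : M →* MonoidAlgebra S M :=
    { toFun := g
      map_one' := by
        apply gl_unique π hker (hg1 1) IsGroupLikeElem.one
        rw [hg2, h1, map_one, map_one]
      map_mul' := by
        intro m m'
        apply gl_unique π hker (hg1 _) ((hg1 m).mul (hg1 m'))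
        rw [hg2, map_mul, hg2, hg2, ← map_mul, MonoidAlgebra.single_mul_single, mul_one] }
  have hγ : ∀ m, γ m = g m := fun m => rfl
  refine ⟨MonoidAlgebra.lift S (MonoidAlgebra S M) M γ, fun m => ?_, fun z => ?_⟩
  · rw [MonoidAlgebra.lift_single, one_smul, hγ]
    exact hg1 m
  · induction z using MonoidAlgebra.induction_linear with
    | zero => simp
    | add a b ha hb => rw [map_add, map_add, ha, hb, map_add, map_add]
    | single m c =>
      rw [MonoidAlgebra.lift_single, hγ, mapRingHom_smul, hg2, MonoidAlgebra.mapRingHom_single,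
        single_eq_smul m (π c), map_smul]

theorem glHom_ext (hker : ∀ t : S, π t = 0 → t ∈ Ideal.jacobson (⊥ : Ideal S))
    (φ φ' : MonoidAlgebra S M →ₐ[S] MonoidAlgebra S M)
    (hφ : ∀ m, IsGroupLikeElem S (φ (MonoidAlgebra.single m 1)))
    (hφ' : ∀ m, IsGroupLikeElem S (φ' (MonoidAlgebra.single m 1)))
    (h : ∀ m, MonoidAlgebra.mapRingHom M π (φ (MonoidAlgebra.single m 1)) =
      MonoidAlgebra.mapRingHom M π (φ' (MonoidAlgebra.single m 1))) : φ = φ' :=
  MonoidAlgebra.algHom_ext (fun m => gl_unique π hker (hφ m) (hφ' m) (h m))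
    (algHom_self_ext' _ _)

/-- A lift of an automorphism of the bialgebra `S₀[M]` is bijective. -/
theorem bijective_of_lift (hker : ∀ t : S, π t = 0 → t ∈ Ideal.jacobson (⊥ : Ideal S))
    (hidem : ∀ e₀ : S₀, IsIdempotentElem e₀ → ∃ e : S, IsIdempotentElem e ∧ π e = e₀)
    (φ : MonoidAlgebra S M →ₐ[S] MonoidAlgebra S M)
    (hφ : ∀ m, IsGroupLikeElem S (φ (MonoidAlgebra.single m 1)))
    (φ₀ ψ₀ : MonoidAlgebra S₀ M →ₐ[S₀] MonoidAlgebra S₀ M)
    (hψ₀ : ∀ m, IsGroupLikeElem S₀ (ψ₀ (MonoidAlgebra.single m 1)))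
    (hlift : ∀ z, MonoidAlgebra.mapRingHom M π (φ z) = φ₀ (MonoidAlgebra.mapRingHom M π z))
    (h1 : ∀ z, ψ₀ (φ₀ z) = z) (h2 : ∀ z, φ₀ (ψ₀ z) = z) : Function.Bijective φ := by
  obtain ⟨ψ, hψ, hψl⟩ := exists_lift_glHom π hker hidem ψ₀ hψ₀
  have hid : ∀ m, IsGroupLikeElem S
      ((AlgHom.id S (MonoidAlgebra S M)) (MonoidAlgebra.single m 1)) :=
    fun m => MonoidAlgebra.isGroupLikeElem_single_one m
  have e1 : ψ.comp φ = AlgHom.id S _ := by
    refine glHom_ext π hker (ψ.comp φ) (AlgHom.id S _)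
      (fun m => isGroupLikeElem_glHom_apply ψ hψ (hφ m)) hid (fun m => ?_)
    rw [AlgHom.comp_apply, hψl, hlift, h1]
    rfl
  have e2 : φ.comp ψ = AlgHom.id S _ := by
    refine glHom_ext π hker (φ.comp ψ) (AlgHom.id S _)
      (fun m => isGroupLikeElem_glHom_apply φ hφ (hψ m)) hid (fun m => ?_)
    rw [AlgHom.comp_apply, hlift, hψl, h2]
    rfl
  refine Function.bijective_iff_has_inverse.mpr ⟨ψ, fun z => ?_, fun z => ?_⟩
  · exact congrArg (fun F => F z) e1
  · exact congrArg (fun F => F z) e2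

end Lift

end Groth.Agent.Lib.R2H7.GLHens
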