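import Mathlib
import Groth.Agent.Lib.R2H7TwForm

/-!
# R2H7TwK: a split form of a group algebra as a twisted form

Let `K → K'` be a ring map, `A₀` a bialgebra over `K` and `θ₀ : K' ⊗[K] A₀ ≃ₐc[K'] K'[M]`.  For every
`K`-algebra map `f : K' → L` we get a bialgebra isomorphism `L ⊗[K] A₀ ≃ₐc[L] L[M]` (`LamEquiv`); the two
maps `K' ⇉ K' ⊗[K] K'` give the descent datum `phi0 θ₀`, an automorphism of the bialgebra
`(K' ⊗[K] K')[M]`; the image of `A₀` in `K'[M]` consists of invariants of `phi0 θ₀`.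
-/

set_option autoImplicit false
universe u

namespace Groth.Agent.Lib.R2H7.TwK

open TensorProduct Coalgebra
open Groth.Agent.Lib.R2H7.HopfDesc Groth.Agent.Lib.R2H7.TwForm
open Groth.Agent.Lib.Helper25

section Iota

variable {K : Type u} [CommRing K] {K' : Type u} [CommRing K'] [Algebra K K']
  {A₀ : Type u} [CommRing A₀] [Bialgebra K A₀] {M : Type u} [CommGroup M]
  (θ₀ : K' ⊗[K] A₀ ≃ₐc[K'] MonoidAlgebra K' M)

/-- `a ↦ θ₀ (1 ⊗ a)`. -/
noncomputable def iota : A₀ →ₐ[K] MonoidAlgebra K' M :=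
  ((AlgHomClass.toAlgHom θ₀ : K' ⊗[K] A₀ →ₐ[K'] MonoidAlgebra K' M).restrictScalars K).comp
    Algebra.TensorProduct.includeRight

theorem iota_apply (a : A₀) : iota θ₀ a = θ₀ ((1 : K') ⊗ₜ[K] a) := rfl

theorem theta0_tmul (x : K') (a : A₀) : θ₀ (x ⊗ₜ[K] a) = x • iota θ₀ a := by
  rw [iota_apply, ← map_smul, TensorProduct.smul_tmul', smul_eq_mul, mul_one]

theorem theta_iota (z : K' ⊗[K] A₀) : theta (R' := K') (iota θ₀) z = θ₀ z := by
  induction z using TensorProduct.induction_on with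
  | zero => simp
  | tmul x a => rw [theta_tmul, theta0_tmul]
  | add x y hx hy => rw [map_add, map_add, hx, hy]

theorem theta_iota_bijective : Function.Bijective (theta (R' := K') (iota θ₀)) := by
  have h : (theta (R' := K') (iota θ₀) : K' ⊗[K] A₀ → MonoidAlgebra K' M) = θ₀ := by
    funext z
    exact theta_iota θ₀ z
  rw [h]
  exact θ₀.bijective

theorem counit_iota (a : A₀) :
    counit (R := K') (iota θ₀ a) = algebraMap K K' (counit (R := K) a) := by
  rw [iota_apply, CoalgHomClass.counit_comp_apply, TensorProduct.counit_tmul]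
  simp [Algebra.smul_def]

theorem comul_iota (a : A₀) :
    comul (R := K') (iota θ₀ a) = j2 (R' := K') (iota θ₀) (comul (R := K) a) := by
  have hmap : ∀ y : A₀ ⊗[K] A₀,
      TensorProduct.map (θ₀ : K' ⊗[K] A₀ →ₗ[K'] MonoidAlgebra K' M)
        (θ₀ : K' ⊗[K] A₀ →ₗ[K'] MonoidAlgebra K' M) (bcMap2 K' A₀ y) =
        j2 (R' := K') (iota θ₀) y := by
    intro y
    induction y using TensorProduct.induction_on with
    | zero => simp
    | tmul a a' =>
      rw [bcMap2_tmul, TensorProduct.map_tmul, j2_tmul]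
      rfl
    | add x y hx hy => rw [map_add, map_add, hx, hy, map_add]
  rw [iota_apply, ← CoalgHomClass.map_comp_comul_apply, comul_one_tmul]
  exact hmap _

end Iota

section Lam

variable {K K' L : Type u} [CommRing K] [CommRing K'] [CommRing L] [Algebra K K'] [Algebra K L]
  (f : K' →ₐ[K] L)
  {A₀ : Type u} [CommRing A₀] [Bialgebra K A₀] {M : Type u} [CommGroup M]
  (θ₀ : K' ⊗[K] A₀ ≃ₐc[K'] MonoidAlgebra K' M)

/-- `a ↦ f (θ₀ (1 ⊗ a))` (coefficientwise). -/
noncomputable def jf : A₀ →ₐ[K] MonoidAlgebra L M :=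
  (MonoidAlgebra.mapAlgHom M f).comp (iota θ₀)

theorem jf_apply (a : A₀) : jf f θ₀ a = MonoidAlgebra.mapAlgHom M f (iota θ₀ a) := rfl

/-- `f ⊗ id`. -/
noncomputable def fA : K' ⊗[K] A₀ →ₐ[K] L ⊗[K] A₀ :=
  Algebra.TensorProduct.map f (AlgHom.id K A₀)

theorem fA_tmul (x : K') (a : A₀) : fA (A₀ := A₀) f (x ⊗ₜ[K] a) = f x ⊗ₜ[K] a := by
  simp [fA]

theorem fA_smul (x : K') (z : K' ⊗[K] A₀) : fA f (x • z) = f x • fA f z := by
  induction z using TensorProduct.induction_on with
  | zero => simp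
  | tmul y a =>
    rw [TensorProduct.smul_tmul', fA_tmul, fA_tmul, TensorProduct.smul_tmul', smul_eq_mul,
      smul_eq_mul, map_mul]
  | add a b ha hb => rw [smul_add, map_add, ha, hb, map_add, smul_add]

theorem theta_fA (z : K' ⊗[K] A₀) :
    theta (R' := L) (jf f θ₀) (fA f z) = MonoidAlgebra.mapAlgHom M f (θ₀ z) := by
  induction z using TensorProduct.induction_on with
  | zero => simp
  | tmul x a => rw [fA_tmul, theta_tmul, theta0_tmul, mapAlgHom_smul, jf_apply]
  | add x y hx hy => rw [map_add, map_add, hx, hy, map_add, map_add]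

/-- The inverse of `theta (jf f θ₀)` on generators. -/
noncomputable def gam : M →* L ⊗[K] A₀ where
  toFun m := fA f (θ₀.symm (MonoidAlgebra.single m 1))
  map_one' := by
    have h1 : (MonoidAlgebra.single (1 : M) (1 : K') : MonoidAlgebra K' M) = 1 :=
      MonoidAlgebra.one_def.symm
    rw [h1, map_one, map_one]
  map_mul' := by
    intro m m'
    have h1 : (MonoidAlgebra.single (m * m') (1 : K') : MonoidAlgebra K' M) =
        MonoidAlgebra.single m 1 * MonoidAlgebra.single m' 1 := by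
      rw [MonoidAlgebra.single_mul_single, mul_one]
    rw [h1, map_mul, map_mul]

/-- The inverse of `theta (jf f θ₀)`. -/
noncomputable def Xi : MonoidAlgebra L M →ₐ[L] L ⊗[K] A₀ :=
  MonoidAlgebra.lift L (L ⊗[K] A₀) M (gam f θ₀)

theorem Xi_single (m : M) (c : L) :
    Xi f θ₀ (MonoidAlgebra.single m c) = c • fA f (θ₀.symm (MonoidAlgebra.single m 1)) := by
  rw [Xi, MonoidAlgebra.lift_single]
  rfl

theorem Xi_mapAlgHom (u : MonoidAlgebra K' M) :
    Xi f θ₀ (MonoidAlgebra.mapAlgHom M f u) = fA f (θ₀.symm u) := by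
  induction u using MonoidAlgebra.induction_linear with
  | zero => simp
  | add a b ha hb => rw [map_add, map_add, ha, hb, map_add, map_add]
  | single m x =>
    rw [MonoidAlgebra.mapAlgHom_single, Xi_single, single_eq_smul m x, map_smul, fA_smul]

theorem theta_Xi (u : MonoidAlgebra L M) : theta (R' := L) (jf f θ₀) (Xi f θ₀ u) = u := by
  induction u using MonoidAlgebra.induction_linear with
  | zero => simp
  | add a b ha hb => rw [map_add, map_add, ha, hb]
  | single m c =>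
    rw [Xi_single, map_smul, theta_fA, BialgEquiv.apply_symm_apply, MonoidAlgebra.mapAlgHom_single,
      map_one, MonoidAlgebra.smul_single', mul_one]

theorem Xi_theta (z : L ⊗[K] A₀) : Xi f θ₀ (theta (R' := L) (jf f θ₀) z) = z := by
  induction z using TensorProduct.induction_on with
  | zero => simp
  | tmul c a =>
    rw [theta_tmul, map_smul, jf_apply, Xi_mapAlgHom, iota_apply, BialgEquiv.symm_apply_apply,
      fA_tmul, map_one, TensorProduct.smul_tmul', smul_eq_mul, mul_one]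
  | add x y hx hy => rw [map_add, map_add, hx, hy]

theorem theta_jf_bijective : Function.Bijective (theta (R' := L) (jf f θ₀)) :=
  Function.bijective_iff_has_inverse.mpr
    ⟨Xi f θ₀, fun z => Xi_theta f θ₀ z, fun u => theta_Xi f θ₀ u⟩

theorem counit_jf (a : A₀) :
    algebraMap K L (counit (R := K) a) = counit (R := L) (jf f θ₀ a) := by
  rw [jf_apply, counit_mapAlgHom, counit_iota, AlgHom.commutes]

end Lam

section Lam2

variable {K K' L : Type u} [CommRing K] [CommRing K'] [CommRing L] [Algebra K K'] [Algebra K L]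
  (f : K' →ₐ[K] L)
  {A₀ : Type u} [CommRing A₀] [Bialgebra K A₀] {M : Type u} [CommGroup M]
  (θ₀ : K' ⊗[K] A₀ ≃ₐc[K'] MonoidAlgebra K' M)

theorem TP_j2 (H1 H2) (x : A₀ ⊗[K] A₀) :
    Algebra.TensorProduct.mapRingHom (f : K' →+* L) (MonoidAlgebra.mapRingHom M (f : K' →+* L))
      (MonoidAlgebra.mapRingHom M (f : K' →+* L)) H1 H2 (j2 (R' := K') (iota θ₀) x) =
      j2 (R' := L) (jf f θ₀) x := by
  induction x using TensorProduct.induction_on with
  | zero => simp
  | tmul a a' =>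
    rw [j2_tmul, Algebra.TensorProduct.mapRingHom_tmul, j2_tmul]
    rfl
  | add x y hx hy => rw [map_add, map_add, hx, hy, map_add]

theorem comul_jf (a : A₀) :
    j2 (R' := L) (jf f θ₀) (comul (R := K) a) = comul (R := L) (jf f θ₀ a) := by
  have h := RingHom.congr_fun
    (MonoidAlgebra.comulAlgHom_comp_mapRingHom (M := M) (f : K' →+* L)) (iota θ₀ a)
  have h' : comul (R := L) (jf f θ₀ a) = _ := h
  have h'' : (Bialgebra.comulAlgHom K' (MonoidAlgebra K' M)).toRingHom (iota θ₀ a) =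
      j2 (R' := K') (iota θ₀) (comul (R := K) a) := comul_iota θ₀ a
  rw [h', RingHom.comp_apply, h'', TP_j2]

/-- The base change of `θ₀` along `f`, as a homomorphism of bialgebras. -/
noncomputable def LamHom : L ⊗[K] A₀ →ₐc[L] MonoidAlgebra L M :=
  Classical.choose (exists_bialgHom (R' := L) (jf f θ₀) (comul_jf f θ₀) (counit_jf f θ₀))

theorem LamHom_tmul (c : L) (a : A₀) : LamHom f θ₀ (c ⊗ₜ[K] a) = c • jf f θ₀ a :=
  Classical.choose_spec (exists_bialgHom (R' := L) (jf f θ₀) (comul_jf f θ₀) (counit_jf f θ₀)) c a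

theorem LamHom_eq_theta (z : L ⊗[K] A₀) : LamHom f θ₀ z = theta (R' := L) (jf f θ₀) z := by
  induction z using TensorProduct.induction_on with
  | zero => simp
  | tmul c a => rw [LamHom_tmul, theta_tmul]
  | add x y hx hy => rw [map_add, map_add, hx, hy]

theorem LamHom_bijective : Function.Bijective (LamHom f θ₀) := by
  have h : (LamHom f θ₀ : L ⊗[K] A₀ → MonoidAlgebra L M) = theta (R' := L) (jf f θ₀) := by
    funext z
    exact LamHom_eq_theta f θ₀ z
  rw [h]
  exact theta_jf_bijective f θ₀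

/-- The base change of `θ₀` along `f`. -/
noncomputable def LamEquiv : L ⊗[K] A₀ ≃ₐc[L] MonoidAlgebra L M :=
  BialgEquiv.ofBijective (LamHom f θ₀) (LamHom_bijective f θ₀)

theorem LamEquiv_tmul (c : L) (a : A₀) : LamEquiv f θ₀ (c ⊗ₜ[K] a) = c • jf f θ₀ a :=
  LamHom_tmul f θ₀ c a

end Lam2

section Phi0

variable {K K' : Type u} [CommRing K] [CommRing K'] [Algebra K K']
  {A₀ : Type u} [CommRing A₀] [Bialgebra K A₀] {M : Type u} [CommGroup M]
  (θ₀ : K' ⊗[K] A₀ ≃ₐc[K'] MonoidAlgebra K' M)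

/-- The descent datum of the split form `A₀`, as an automorphism of bialgebras. -/
noncomputable def phi0E : MonoidAlgebra (K' ⊗[K] K') M ≃ₐc[K' ⊗[K] K']
    MonoidAlgebra (K' ⊗[K] K') M :=
  (LamEquiv (Algebra.TensorProduct.includeLeft : K' →ₐ[K] K' ⊗[K] K') θ₀).symm.trans
    (LamEquiv (Algebra.TensorProduct.includeRight : K' →ₐ[K] K' ⊗[K] K') θ₀)

/-- The descent datum of the split form `A₀`. -/
noncomputable def phi0 : MonoidAlgebra (K' ⊗[K] K') M →ₐ[K' ⊗[K] K']
    MonoidAlgebra (K' ⊗[K] K') M :=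
  AlgHomClass.toAlgHom (phi0E θ₀)

/-- The inverse of the descent datum. -/
noncomputable def phi0inv : MonoidAlgebra (K' ⊗[K] K') M →ₐ[K' ⊗[K] K']
    MonoidAlgebra (K' ⊗[K] K') M :=
  AlgHomClass.toAlgHom (phi0E θ₀).symm

theorem phi0_apply (z : MonoidAlgebra (K' ⊗[K] K') M) : phi0 θ₀ z = phi0E θ₀ z := rfl

theorem phi0inv_apply (z : MonoidAlgebra (K' ⊗[K] K') M) :
    phi0inv θ₀ z = (phi0E θ₀).symm z := rfl

theorem phi0inv_phi0 (z : MonoidAlgebra (K' ⊗[K] K') M) : phi0inv θ₀ (phi0 θ₀ z) = z := by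
  rw [phi0_apply, phi0inv_apply, BialgEquiv.symm_apply_apply]

theorem phi0_phi0inv (z : MonoidAlgebra (K' ⊗[K] K') M) : phi0 θ₀ (phi0inv θ₀ z) = z := by
  rw [phi0_apply, phi0inv_apply, BialgEquiv.apply_symm_apply]

theorem phi0_bijective : Function.Bijective (phi0 θ₀) :=
  Function.bijective_iff_has_inverse.mpr
    ⟨phi0inv θ₀, fun z => phi0inv_phi0 θ₀ z, fun z => phi0_phi0inv θ₀ z⟩

theorem isGLHom_phi0 : IsGLHom (phi0 θ₀) := fun m =>
  (MonoidAlgebra.isGroupLikeElem_single_one m).map (phi0E θ₀)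

theorem isGLHom_phi0inv : IsGLHom (phi0inv θ₀) := fun m =>
  (MonoidAlgebra.isGroupLikeElem_single_one m).map (phi0E θ₀).symm

theorem phi0_P1_iota (a : A₀) : phi0 θ₀ (P1 K (iota θ₀ a)) = P2 K (iota θ₀ a) := by
  have h1 : LamEquiv (Algebra.TensorProduct.includeLeft : K' →ₐ[K] K' ⊗[K] K') θ₀
      ((1 : K' ⊗[K] K') ⊗ₜ[K] a) = P1 K (iota θ₀ a) := by
    rw [LamEquiv_tmul, one_smul]
    rfl
  have h2 : LamEquiv (Algebra.TensorProduct.includeRight : K' →ₐ[K] K' ⊗[K] K') θ₀
      ((1 : K' ⊗[K] K') ⊗ₜ[K] a) = P2 K (iota θ₀ a) := by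
    rw [LamEquiv_tmul, one_smul]
    rfl
  have h3 : phi0E θ₀ (LamEquiv (Algebra.TensorProduct.includeLeft : K' →ₐ[K] K' ⊗[K] K') θ₀
      ((1 : K' ⊗[K] K') ⊗ₜ[K] a)) =
      LamEquiv (Algebra.TensorProduct.includeRight : K' →ₐ[K] K' ⊗[K] K') θ₀
        ((1 : K' ⊗[K] K') ⊗ₜ[K] a) := by
    change LamEquiv (Algebra.TensorProduct.includeRight : K' →ₐ[K] K' ⊗[K] K') θ₀
      ((LamEquiv (Algebra.TensorProduct.includeLeft : K' →ₐ[K] K' ⊗[K] K') θ₀).symm
        (LamEquiv (Algebra.TensorProduct.includeLeft : K' →ₐ[K] K' ⊗[K] K') θ₀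
          ((1 : K' ⊗[K] K') ⊗ₜ[K] a))) = _
    rw [BialgEquiv.symm_apply_apply]
  rw [phi0_apply, ← h1, h3, h2]

theorem iota_mem_Tw (a : A₀) : iota θ₀ a ∈ Tw (phi0 θ₀) :=
  (mem_Tw (phi0 θ₀)).mpr (phi0_P1_iota θ₀ a)

theorem span_Tw_phi0 :
    Submodule.span K' (Tw (phi0 θ₀) : Set (MonoidAlgebra K' M)) = ⊤ := by
  rw [eq_top_iff]
  intro u _
  have h : ∀ z : K' ⊗[K] A₀,
      θ₀ z ∈ Submodule.span K' (Tw (phi0 θ₀) : Set (MonoidAlgebra K' M)) := by
    intro z
    induction z using TensorProduct.induction_on with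
    | zero =>
      rw [map_zero]
      exact zero_mem _
    | tmul x a =>
      rw [theta0_tmul]
      exact Submodule.smul_mem _ _ (Submodule.subset_span (iota_mem_Tw θ₀ a))
    | add x y hx hy =>
      rw [map_add]
      exact add_mem hx hy
  have h2 := h (θ₀.symm u)
  rwa [BialgEquiv.apply_symm_apply] at h2

theorem coc_phi0 : Coc (phi0 θ₀) := coc_of_span _ (span_Tw_phi0 θ₀)

end Phi0

section FormIso

variable {K : Type u} [CommRing K] {K' : Type u} [CommRing K'] [Algebra K K']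
  [Module.FaithfullyFlat K K'] {M : Type u} [CommGroup M]
  (φ : MonoidAlgebra (K' ⊗[K] K') M →ₐ[K' ⊗[K] K'] MonoidAlgebra (K' ⊗[K] K') M)
  (hφ : Function.Bijective φ) (hgl : IsGLHom φ) (hcoc : Coc φ)
  {A : Type u} [CommRing A] [Bialgebra K A] (j : A →ₐ[K] MonoidAlgebra K' M)
  (hj : ∀ a, j a ∈ Tw φ) (hΘ : Function.Bijective (theta (R' := K') j))
  (hcomul : ∀ a, j2 (R' := K') j (comul (R := K) a) = comul (R := K') (j a))
  (hcounit : ∀ a, algebraMap K K' (counit (R := K) a) = counit (R := K') (j a))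

include hj hΘ hcomul hcounit in
/-- A form embedded in `K'[M]` with image in the twisted form is isomorphic to the twisted form. -/
theorem nonempty_bialgEquiv_Tw :
    letI := hopfTw φ hφ hgl hcoc
    Nonempty (A ≃ₐc[K] Tw φ) := by
  letI := hopfTw φ hφ hgl hcoc
  have hΘT := theta_Tw_bijective φ hφ hcoc
  let e : A ≃ₐ[K] Tw φ := AlgEquiv.ofBijective (j.codRestrict (Tw φ) hj)
    (codRestrict_bijective j hΘ (Tw φ) hΘT hj)
  have he : ∀ a, ((e a : Tw φ) : MonoidAlgebra K' M) = j a := fun a => rfl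
  have hmap : ∀ x : A ⊗[K] A,
      j2 (R' := K') (Tw φ).val (Algebra.TensorProduct.map (e : A →ₐ[K] Tw φ) (e : A →ₐ[K] Tw φ) x) =
        j2 (R' := K') j x := by
    intro x
    induction x using TensorProduct.induction_on with
    | zero => simp
    | tmul a a' =>
      rw [Algebra.TensorProduct.map_tmul, j2_tmul, j2_tmul]
      rfl
    | add x y hx hy => rw [map_add, map_add, hx, hy, map_add]
  refine ⟨BialgEquiv.ofAlgEquiv e ?_ ?_⟩
  · apply AlgHom.ext
    intro a
    apply FaithfulSMul.algebraMap_injective K K'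
    change algebraMap K K' (counit (R := K) (e a)) = algebraMap K K' (counit (R := K) a)
    rw [hcounit, ← he]
    exact algebraMap_counitA (R' := K') (Tw φ).val (fun a => counit_mem φ hgl a.2) (e a)
  · apply AlgHom.ext
    intro a
    apply j2_injective (R' := K') (Tw φ).val hΘT
    change j2 (R' := K') (Tw φ).val (Algebra.TensorProduct.map (e : A →ₐ[K] Tw φ)
      (e : A →ₐ[K] Tw φ) (comul (R := K) a)) = j2 (R' := K') (Tw φ).val (comul (R := K) (e a))
    rw [hmap, hcomul, ← he]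
    exact (j2_comulA (R' := K') (Tw φ).val hΘT
      (fun a => comul_mem_range φ (Tw φ).val (fun a => a.2) hΘT hgl a) (e a)).symm

end FormIso

end Groth.Agent.Lib.R2H7.TwK
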