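import Mathlib
import Groth.Agent.Lib.R2H7TwK
import Groth.Agent.Lib.R2H7GLHens
import Groth.Agent.Lib.Helper25MultBC

/-!
# R2H7TwLift: lifting descent data of group algebras along a henselian pair

`R` is a ring with an ideal `I`, `k` an `R`-algebra playing the role of `R ⧸ I`, `R'` a finite
`R`-algebra, `k' = k ⊗[R] R'`.  A descent datum on `(k' ⊗[k] k')[M]` lifts to a descent datum on
`(R' ⊗[R] R')[M]` if `(R, I)` is henselian.
-/

set_option autoImplicit false
universe u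

namespace Groth.Agent.Lib.R2H7.TwLift

open TensorProduct Coalgebra
open Groth.Agent.Lib.R2H7.HopfDesc Groth.Agent.Lib.R2H7.TwForm Groth.Agent.Lib.R2H7.TwK
open Groth.Agent.Lib.R2H7.GLHens Groth.Agent.Lib.Helper25

section Red

variable (R : Type u) [CommRing R] (k : Type u) [CommRing k] [Algebra R k]
  (R' : Type u) [CommRing R'] [Algebra R R']

/-- `R' → k ⊗ R'`. -/
noncomputable def pi1 : R' →+* k ⊗[R] R' :=
  (Algebra.TensorProduct.includeRight : R' →ₐ[R] k ⊗[R] R').toRingHom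

/-- `pi1` as a homomorphism of algebras. -/
noncomputable def pi1A : R' →ₐ[R] k ⊗[R] R' := Algebra.TensorProduct.includeRight

variable {R' } in
theorem pi1_apply (x : R') : pi1 R k R' x = (1 : k) ⊗ₜ[R] x := rfl

theorem pi1_algebraMap :
    (pi1 R k R').comp (algebraMap R R') =
      (algebraMap k (k ⊗[R] R')).comp (algebraMap R k) := by
  ext r
  change (1 : k) ⊗ₜ[R] (algebraMap R R' r) = algebraMap k (k ⊗[R] R') (algebraMap R k r)
  rw [Algebra.TensorProduct.algebraMap_apply, Algebra.algebraMap_eq_smul_one r,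
    Algebra.algebraMap_eq_smul_one r, TensorProduct.tmul_smul, TensorProduct.smul_tmul']
  simp

/-- `R' ⊗ R' → k' ⊗ k'`. -/
noncomputable def pi2 : R' ⊗[R] R' →+* (k ⊗[R] R') ⊗[k] (k ⊗[R] R') :=
  Algebra.TensorProduct.mapRingHom (algebraMap R k) (pi1 R k R') (pi1 R k R')
    (pi1_algebraMap R k R') (pi1_algebraMap R k R')

variable {R'} in
theorem pi2_tmul (x y : R') :
    pi2 R k R' (x ⊗ₜ[R] y) = pi1 R k R' x ⊗ₜ[k] pi1 R k R' y :=
  Algebra.TensorProduct.mapRingHom_tmul (algebraMap R k) (pi1 R k R') (pi1 R k R')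
    (pi1_algebraMap R k R') (pi1_algebraMap R k R') x y

theorem pi2_algebraMap :
    (pi2 R k R').comp (algebraMap R (R' ⊗[R] R')) =
      (algebraMap k ((k ⊗[R] R') ⊗[k] (k ⊗[R] R'))).comp (algebraMap R k) := by
  ext r
  have h1 : algebraMap R (R' ⊗[R] R') r = (algebraMap R R' r) ⊗ₜ[R] (1 : R') :=
    Algebra.TensorProduct.algebraMap_apply r
  have h2 := RingHom.congr_fun (pi1_algebraMap R k R') r
  rw [RingHom.comp_apply, RingHom.comp_apply] at h2
  rw [RingHom.comp_apply, RingHom.comp_apply, h1, pi2_tmul, Algebra.TensorProduct.algebraMap_apply,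
    h2, map_one]

/-- `R' ⊗ (R' ⊗ R') → k' ⊗ (k' ⊗ k')`. -/
noncomputable def pi3 :
    R' ⊗[R] (R' ⊗[R] R') →+* (k ⊗[R] R') ⊗[k] ((k ⊗[R] R') ⊗[k] (k ⊗[R] R')) :=
  Algebra.TensorProduct.mapRingHom (algebraMap R k) (pi1 R k R') (pi2 R k R')
    (pi1_algebraMap R k R') (pi2_algebraMap R k R')

variable {R'} in
theorem pi3_tmul (x : R') (w : R' ⊗[R] R') :
    pi3 R k R' (x ⊗ₜ[R] w) = pi1 R k R' x ⊗ₜ[k] pi2 R k R' w :=
  Algebra.TensorProduct.mapRingHom_tmul (algebraMap R k) (pi1 R k R') (pi2 R k R')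
    (pi1_algebraMap R k R') (pi2_algebraMap R k R') x w

variable {R'} in
theorem pi3_q12 (t : R' ⊗[R] R') :
    pi3 R k R' (q12 (R := R) t) = q12 (R := k) (pi2 R k R' t) := by
  induction t using TensorProduct.induction_on with
  | zero => simp
  | tmul x y => rw [q12_tmul, pi3_tmul, pi2_tmul, pi2_tmul, q12_tmul, map_one]
  | add a b ha hb => rw [map_add, map_add, ha, hb, map_add, map_add]

variable {R'} in
theorem pi3_q13 (t : R' ⊗[R] R') :
    pi3 R k R' (q13 (R := R) t) = q13 (R := k) (pi2 R k R' t) := by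
  induction t using TensorProduct.induction_on with
  | zero => simp
  | tmul x y => rw [q13_tmul, pi3_tmul, pi2_tmul, pi2_tmul, q13_tmul, map_one]
  | add a b ha hb => rw [map_add, map_add, ha, hb, map_add, map_add]

variable {R'} in
theorem pi3_q23 (t : R' ⊗[R] R') :
    pi3 R k R' (q23 (R := R) t) = q23 (R := k) (pi2 R k R' t) := by
  rw [q23_apply, q23_apply, pi3_tmul, map_one]

variable (M : Type u) [CommGroup M]

/-- Reduction of coefficients `R'[M] → k'[M]`. -/
noncomputable def red1 : MonoidAlgebra R' M →+* MonoidAlgebra (k ⊗[R] R') M :=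
  MonoidAlgebra.mapRingHom M (pi1 R k R')

/-- Reduction of coefficients `(R' ⊗ R')[M] → (k' ⊗ k')[M]`. -/
noncomputable def red2 : MonoidAlgebra (R' ⊗[R] R') M →+*
    MonoidAlgebra ((k ⊗[R] R') ⊗[k] (k ⊗[R] R')) M :=
  MonoidAlgebra.mapRingHom M (pi2 R k R')

/-- Reduction of coefficients over the triple tensor product. -/
noncomputable def red3 : MonoidAlgebra (R' ⊗[R] (R' ⊗[R] R')) M →+*
    MonoidAlgebra ((k ⊗[R] R') ⊗[k] ((k ⊗[R] R') ⊗[k] (k ⊗[R] R'))) M :=
  MonoidAlgebra.mapRingHom M (pi3 R k R')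

variable {R' M}

theorem red1_single (m : M) (x : R') :
    red1 R k R' M (MonoidAlgebra.single m x) = MonoidAlgebra.single m (pi1 R k R' x) :=
  MonoidAlgebra.mapRingHom_single _ m x

theorem red2_single (m : M) (x : R' ⊗[R] R') :
    red2 R k R' M (MonoidAlgebra.single m x) = MonoidAlgebra.single m (pi2 R k R' x) :=
  MonoidAlgebra.mapRingHom_single _ m x

theorem red3_single (m : M) (x : R' ⊗[R] (R' ⊗[R] R')) :
    red3 R k R' M (MonoidAlgebra.single m x) = MonoidAlgebra.single m (pi3 R k R' x) :=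
  MonoidAlgebra.mapRingHom_single _ m x

theorem red2_P1 (u : MonoidAlgebra R' M) :
    red2 R k R' M (P1 R u) = P1 k (red1 R k R' M u) := by
  induction u using MonoidAlgebra.induction_linear with
  | zero => simp
  | add a b ha hb => rw [map_add, map_add, ha, hb, map_add, map_add]
  | single m x => rw [P1_single, red2_single, red1_single, P1_single, pi2_tmul, map_one]

theorem red2_P2 (u : MonoidAlgebra R' M) :
    red2 R k R' M (P2 R u) = P2 k (red1 R k R' M u) := by
  induction u using MonoidAlgebra.induction_linear with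
  | zero => simp
  | add a b ha hb => rw [map_add, map_add, ha, hb, map_add, map_add]
  | single m x => rw [P2_single, red2_single, red1_single, P2_single, pi2_tmul, map_one]

theorem red3_q12 (z : MonoidAlgebra (R' ⊗[R] R') M) :
    red3 R k R' M (MonoidAlgebra.mapAlgHom M (q12 (R := R)) z) =
      MonoidAlgebra.mapAlgHom M (q12 (R := k)) (red2 R k R' M z) := by
  induction z using MonoidAlgebra.induction_linear with
  | zero => simp
  | add a b ha hb => rw [map_add, map_add, ha, hb, map_add, map_add]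
  | single m x =>
    rw [MonoidAlgebra.mapAlgHom_single, red3_single, red2_single, MonoidAlgebra.mapAlgHom_single,
      pi3_q12]

theorem red3_q13 (z : MonoidAlgebra (R' ⊗[R] R') M) :
    red3 R k R' M (MonoidAlgebra.mapAlgHom M (q13 (R := R)) z) =
      MonoidAlgebra.mapAlgHom M (q13 (R := k)) (red2 R k R' M z) := by
  induction z using MonoidAlgebra.induction_linear with
  | zero => simp
  | add a b ha hb => rw [map_add, map_add, ha, hb, map_add, map_add]
  | single m x =>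
    rw [MonoidAlgebra.mapAlgHom_single, red3_single, red2_single, MonoidAlgebra.mapAlgHom_single,
      pi3_q13]

theorem red3_q23 (z : MonoidAlgebra (R' ⊗[R] R') M) :
    red3 R k R' M (MonoidAlgebra.mapAlgHom M (q23 (R := R)) z) =
      MonoidAlgebra.mapAlgHom M (q23 (R := k)) (red2 R k R' M z) := by
  induction z using MonoidAlgebra.induction_linear with
  | zero => simp
  | add a b ha hb => rw [map_add, map_add, ha, hb, map_add, map_add]
  | single m x =>
    rw [MonoidAlgebra.mapAlgHom_single, red3_single, red2_single, MonoidAlgebra.mapAlgHom_single,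
      pi3_q23]

theorem red3_smul (c : R' ⊗[R] (R' ⊗[R] R')) (z : MonoidAlgebra (R' ⊗[R] (R' ⊗[R] R')) M) :
    red3 R k R' M (c • z) = pi3 R k R' c • red3 R k R' M z := by
  induction z using MonoidAlgebra.induction_linear with
  | zero => simp
  | add a b ha hb => rw [smul_add, map_add, ha, hb, map_add, smul_add]
  | single m a =>
    rw [MonoidAlgebra.smul_single', red3_single, red3_single, MonoidAlgebra.smul_single', map_mul]

theorem red3_pull
    (φ : MonoidAlgebra (R' ⊗[R] R') M →ₐ[R' ⊗[R] R'] MonoidAlgebra (R' ⊗[R] R') M)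
    (φ₀ : MonoidAlgebra ((k ⊗[R] R') ⊗[k] (k ⊗[R] R')) M →ₐ[(k ⊗[R] R') ⊗[k] (k ⊗[R] R')]
      MonoidAlgebra ((k ⊗[R] R') ⊗[k] (k ⊗[R] R')) M)
    (hlift : ∀ z, red2 R k R' M (φ z) = φ₀ (red2 R k R' M z))
    (z : MonoidAlgebra (R' ⊗[R] (R' ⊗[R] R')) M) :
    red3 R k R' M (pull φ (q23 (R := R)) z) = pull φ₀ (q23 (R := k)) (red3 R k R' M z) := by
  induction z using MonoidAlgebra.induction_linear with
  | zero => simp
  | add a b ha hb => rw [map_add, map_add, ha, hb, map_add, map_add]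
  | single n c =>
    rw [pull_single, red3_smul, red3_q23, hlift, red2_single, map_one, red3_single, pull_single]

end Red

section Ker

variable (R : Type u) [CommRing R] (I : Ideal R) (k : Type u) [CommRing k] [Algebra R k]

/-- `k` is (a model of) the quotient `R ⧸ I`. -/
structure IsQuot : Prop where
  surj : Function.Surjective (algebraMap R k)
  map_eq_zero : ∀ r ∈ I, algebraMap R k r = 0
  ker : ∀ (X : Type u) [AddCommGroup X] [Module R X] (t : X),
    (1 : k) ⊗ₜ[R] t = 0 → t ∈ I • (⊤ : Submodule R X)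

variable {R I k} (hq : IsQuot R I k)
  (R' : Type u) [CommRing R'] [Algebra R R']

include hq in
theorem one_tmul_surjective (X : Type u) [AddCommGroup X] [Module R X] (z : k ⊗[R] X) :
    ∃ t : X, (1 : k) ⊗ₜ[R] t = z := by
  induction z using TensorProduct.induction_on with
  | zero => exact ⟨0, by simp⟩
  | tmul y x =>
    obtain ⟨r, rfl⟩ := hq.surj y
    exact ⟨r • x, by
      rw [TensorProduct.tmul_smul, TensorProduct.smul_tmul', ← Algebra.algebraMap_eq_smul_one]⟩
  | add a b ha hb =>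
    obtain ⟨s, rfl⟩ := ha
    obtain ⟨t, rfl⟩ := hb
    exact ⟨s + t, TensorProduct.tmul_add _ _ _⟩

theorem smul_top_le_map (S : Type u) [CommRing S] [Algebra R S] {t : S}
    (ht : t ∈ I • (⊤ : Submodule R S)) : t ∈ I.map (algebraMap R S) := by
  rw [Ideal.smul_top_eq_map] at ht
  exact ht

theorem pi2_eq (t : R' ⊗[R] R') :
    pi2 R k R' t = AlgebraTensorModule.distribBaseChange R k R' R' ((1 : k) ⊗ₜ[R] t) := by
  induction t using TensorProduct.induction_on with
  | zero => simp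
  | tmul x y =>
    rw [pi2_tmul, AlgebraTensorModule.distribBaseChange_tmul]
    rfl
  | add a b ha hb => rw [map_add, ha, hb, TensorProduct.tmul_add, map_add]

include hq in
theorem mem_map_of_pi2_eq_zero {t : R' ⊗[R] R'} (h : pi2 R k R' t = 0) :
    t ∈ I.map (algebraMap R (R' ⊗[R] R')) := by
  rw [pi2_eq, LinearEquiv.map_eq_zero_iff] at h
  exact smul_top_le_map _ (hq.ker _ t h)

include hq in
theorem pi2_map_le : I.map (algebraMap R (R' ⊗[R] R')) ≤ RingHom.ker (pi2 R k R') := by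
  rw [Ideal.map_le_iff_le_comap]
  intro r hr
  rw [Ideal.mem_comap, RingHom.mem_ker]
  have h := RingHom.congr_fun (pi2_algebraMap R k R') r
  rw [RingHom.comp_apply, RingHom.comp_apply] at h
  rw [h, hq.map_eq_zero r hr, map_zero]

include hq in
theorem ker_pi2 : RingHom.ker (pi2 R k R') = I.map (algebraMap R (R' ⊗[R] R')) :=
  le_antisymm (fun _ ht => mem_map_of_pi2_eq_zero hq R' ((RingHom.mem_ker).mp ht))
    (pi2_map_le hq R')

include hq in
theorem pi2_surjective : Function.Surjective (pi2 R k R') := by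
  intro z
  obtain ⟨t, ht⟩ := one_tmul_surjective hq _
    ((AlgebraTensorModule.distribBaseChange R k R' R').symm z)
  exact ⟨t, by rw [pi2_eq, ht, LinearEquiv.apply_symm_apply]⟩

theorem pi3_eq (t : R' ⊗[R] (R' ⊗[R] R')) :
    pi3 R k R' t = TensorProduct.congr (LinearEquiv.refl k (k ⊗[R] R'))
      (AlgebraTensorModule.distribBaseChange R k R' R')
      (AlgebraTensorModule.distribBaseChange R k R' (R' ⊗[R] R') ((1 : k) ⊗ₜ[R] t)) := by
  induction t using TensorProduct.induction_on with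
  | zero => simp
  | tmul x w =>
    rw [pi3_tmul, AlgebraTensorModule.distribBaseChange_tmul, TensorProduct.congr_tmul,
      LinearEquiv.refl_apply, ← pi2_eq]
    rfl
  | add a b ha hb => rw [map_add, ha, hb, TensorProduct.tmul_add, map_add, map_add]

include hq in
theorem mem_map_of_pi3_eq_zero {t : R' ⊗[R] (R' ⊗[R] R')} (h : pi3 R k R' t = 0) :
    t ∈ I.map (algebraMap R (R' ⊗[R] (R' ⊗[R] R'))) := by
  rw [pi3_eq, LinearEquiv.map_eq_zero_iff, LinearEquiv.map_eq_zero_iff] at h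
  exact smul_top_le_map _ (hq.ker _ t h)

theorem map_le_jacobson [HenselianRing R I] (S : Type u) [CommRing S] [Algebra R S]
    [Algebra.IsIntegral R S] {t : S} (ht : t ∈ I.map (algebraMap R S)) :
    t ∈ Ideal.jacobson (⊥ : Ideal S) :=
  Groth.Agent.Lib.Helper26.HenselIdem.map_le_jacobson_of_isIntegral I HenselianRing.jac ht

theorem idem_lift [HenselianRing R I] (S : Type u) [CommRing S] [Algebra R S]
    [Algebra.IsIntegral R S] {S₀ : Type u} [CommRing S₀] (π : S →+* S₀)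
    (hsurj : Function.Surjective π) (hker : RingHom.ker π = I.map (algebraMap R S))
    (e₀ : S₀) (he₀ : IsIdempotentElem e₀) : ∃ e : S, IsIdempotentElem e ∧ π e = e₀ := by
  obtain ⟨t, rfl⟩ := hsurj e₀
  have h1 : IsIdempotentElem (Ideal.Quotient.mk (I.map (algebraMap R S)) t) := by
    change Ideal.Quotient.mk (I.map (algebraMap R S)) t *
      Ideal.Quotient.mk (I.map (algebraMap R S)) t = Ideal.Quotient.mk (I.map (algebraMap R S)) t
    rw [← map_mul, Ideal.Quotient.eq, ← hker, RingHom.mem_ker, map_sub, map_mul, he₀.eq, sub_self]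
  obtain ⟨e, he, hmk⟩ := Groth.Agent.Lib.Helper26.HenselIdem.idem_surjOn R I S h1
  refine ⟨e, he, ?_⟩
  have h2 : e - t ∈ RingHom.ker π := by
    rw [hker]
    exact Ideal.Quotient.eq.mp hmk
  rw [RingHom.mem_ker, map_sub, sub_eq_zero] at h2
  exact h2

include hq in
/-- Lifting of descent data. -/
theorem exists_lift_datum [HenselianRing R I] [Module.Finite R R'] {M : Type u} [CommGroup M]
    (φ₀ ψ₀ : MonoidAlgebra ((k ⊗[R] R') ⊗[k] (k ⊗[R] R')) M →ₐ[(k ⊗[R] R') ⊗[k] (k ⊗[R] R')]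
      MonoidAlgebra ((k ⊗[R] R') ⊗[k] (k ⊗[R] R')) M)
    (hgl₀ : IsGLHom φ₀) (hglψ : IsGLHom ψ₀) (h1 : ∀ z, ψ₀ (φ₀ z) = z) (h2 : ∀ z, φ₀ (ψ₀ z) = z)
    (hcoc₀ : Coc φ₀) :
    ∃ φ : MonoidAlgebra (R' ⊗[R] R') M →ₐ[R' ⊗[R] R'] MonoidAlgebra (R' ⊗[R] R') M,
      IsGLHom φ ∧ Function.Bijective φ ∧ Coc φ ∧
        ∀ z, red2 R k R' M (φ z) = φ₀ (red2 R k R' M z) := by
  haveI : Algebra.IsIntegral R (R' ⊗[R] R') := Algebra.IsIntegral.of_finite R _
  haveI : Algebra.IsIntegral R (R' ⊗[R] (R' ⊗[R] R')) := Algebra.IsIntegral.of_finite R _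
  have hk2 : ∀ t, pi2 R k R' t = 0 → t ∈ Ideal.jacobson (⊥ : Ideal (R' ⊗[R] R')) :=
    fun _ ht => map_le_jacobson (I := I) _ (mem_map_of_pi2_eq_zero hq R' ht)
  have hk3 : ∀ t, pi3 R k R' t = 0 → t ∈ Ideal.jacobson (⊥ : Ideal (R' ⊗[R] (R' ⊗[R] R'))) :=
    fun _ ht => map_le_jacobson (I := I) _ (mem_map_of_pi3_eq_zero hq R' ht)
  have hid2 := idem_lift (I := I) _ (pi2 R k R') (pi2_surjective hq R') (ker_pi2 hq R')
  obtain ⟨φ, hgl, hlift⟩ := exists_lift_glHom (pi2 R k R') hk2 hid2 φ₀ hgl₀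
  have hlift' : ∀ z, red2 R k R' M (φ z) = φ₀ (red2 R k R' M z) := hlift
  refine ⟨φ, hgl, bijective_of_lift (pi2 R k R') hk2 hid2 φ hgl φ₀ ψ₀ hglψ hlift h1 h2, ?_, hlift⟩
  intro m
  apply gl_unique (S := R' ⊗[R] (R' ⊗[R] R'))
    (S₀ := (k ⊗[R] R') ⊗[k] ((k ⊗[R] R') ⊗[k] (k ⊗[R] R'))) (pi3 R k R') hk3
  · apply isGroupLikeElem_glHom_apply (pull φ (q23 (R := R)))
    · intro n
      rw [pull_single, one_smul]
      exact isGroupLikeElem_mapAlgHom (q23 (R := R) (R' := R')) (hgl n)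
    · exact isGroupLikeElem_mapAlgHom (q12 (R := R) (R' := R')) (hgl m)
  · exact isGroupLikeElem_mapAlgHom (q13 (R := R) (R' := R')) (hgl m)
  · change red3 R k R' M (pull φ (q23 (R := R)) (MonoidAlgebra.mapAlgHom M (q12 (R := R))
      (φ (MonoidAlgebra.single m 1)))) =
      red3 R k R' M (MonoidAlgebra.mapAlgHom M (q13 (R := R)) (φ (MonoidAlgebra.single m 1)))
    rw [red3_pull R k φ φ₀ hlift', red3_q12, red3_q13, hlift', red2_single, map_one]
    exact hcoc₀ m

end Ker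

section Form

variable {R : Type u} [CommRing R] {I : Ideal R} {k : Type u} [CommRing k] [Algebra R k]
  (hq : IsQuot R I k)
  {R' : Type u} [CommRing R'] [Algebra R R'] [Module.Finite R R'] [Module.FaithfullyFlat R R']
  [HenselianRing R I]
  {A₀ : Type u} [CommRing A₀] [HopfAlgebra k A₀] {M : Type u} [CommGroup M]
  (θ₀ : (k ⊗[R] R') ⊗[k] A₀ ≃ₐc[k ⊗[R] R'] MonoidAlgebra (k ⊗[R] R') M)

include hq θ₀ in
/-- A form of a group algebra over `k = R ⧸ I` split by `k ⊗ R'` lifts to a form over `R` split by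
`R'`, if `(R, I)` is henselian and `R'` is finite and faithfully flat over `R`. -/
theorem exists_lift_form :
    ∃ (A : Type u) (_ : CommRing A) (_ : HopfAlgebra R A),
      Nonempty (R' ⊗[R] A ≃ₐc[R'] MonoidAlgebra R' M) ∧ Nonempty (k ⊗[R] A ≃ₐc[k] A₀) := by
  obtain ⟨φ, hgl, hbij, hcoc, hlift⟩ := exists_lift_datum hq R' (phi0 θ₀) (phi0inv θ₀)
    (isGLHom_phi0 θ₀) (isGLHom_phi0inv θ₀) (phi0inv_phi0 θ₀) (phi0_phi0inv θ₀) (coc_phi0 θ₀)
  obtain ⟨A, _, _, j, Θ, hj, hΘ⟩ := exists_form φ hbij hgl hcoc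
  refine ⟨A, inferInstance, inferInstance, ⟨Θ⟩, ?_⟩
  let Ω : (k ⊗[R] R') ⊗[k] (k ⊗[R] A) ≃ₐc[k ⊗[R] R'] MonoidAlgebra (k ⊗[R] R') M :=
    (BCB.cancelBC R k (k ⊗[R] R') A).trans (LamEquiv (pi1A R k R') Θ)
  have hiΘ : ∀ b : A, iota Θ b = j b := by
    intro b
    rw [iota_apply, hΘ, one_smul]
  have hΩ : ∀ (y : k) (b : A), iota Ω (y ⊗ₜ[R] b) = y • red1 R k R' M (j b) := by
    intro y b
    change LamEquiv (pi1A R k R') Θ (BCB.cancelBC R k (k ⊗[R] R') A
      ((1 : k ⊗[R] R') ⊗ₜ[k] (y ⊗ₜ[R] b))) = _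
    rw [BCB.cancelBC_tmul, LamEquiv_tmul, jf_apply, hiΘ, smul_assoc, one_smul]
    rfl
  have hred : ∀ b : A, red1 R k R' M (j b) ∈ Tw (phi0 θ₀) := by
    intro b
    rw [mem_Tw, ← red2_P1, ← hlift, (mem_Tw φ).mp (hj b), red2_P2]
  have hjΩ : ∀ a₁, iota Ω a₁ ∈ Tw (phi0 θ₀) := by
    intro a₁
    induction a₁ using TensorProduct.induction_on with
    | zero =>
      rw [map_zero]
      exact zero_mem _
    | tmul y b =>
      rw [hΩ]
      exact Subalgebra.smul_mem _ (hred b) y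
    | add x y hx hy =>
      rw [map_add]
      exact add_mem hx hy
  obtain ⟨e₁⟩ := nonempty_bialgEquiv_Tw (phi0 θ₀) (phi0_bijective θ₀) (isGLHom_phi0 θ₀)
    (coc_phi0 θ₀) (iota Ω) hjΩ (theta_iota_bijective Ω) (fun a => (comul_iota Ω a).symm)
    (fun a => (counit_iota Ω a).symm)
  obtain ⟨e₀⟩ := nonempty_bialgEquiv_Tw (phi0 θ₀) (phi0_bijective θ₀) (isGLHom_phi0 θ₀)
    (coc_phi0 θ₀) (iota θ₀) (iota_mem_Tw θ₀) (theta_iota_bijective θ₀)
    (fun a => (comul_iota θ₀ a).symm) (fun a => (counit_iota θ₀ a).symm)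
  letI := hopfTw (phi0 θ₀) (phi0_bijective θ₀) (isGLHom_phi0 θ₀) (coc_phi0 θ₀)
  exact ⟨e₁.trans e₀.symm⟩

end Form

end Groth.Agent.Lib.R2H7.TwLift
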