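import Mathlib
import Groth.Agent.Lib.R2H7TwLift
import Groth.Agent.Lib.R2H7IsoNil
import Groth.Agent.S0532

/-!
# R2H7IsoLift: isotrivial groups of multiplicative type lift along henselian pairs

If `(R, I)` is a henselian pair, every isotrivial `R ⧸ I`-group of multiplicative type (in Hopf algebra
form) is the base change of an isotrivial `R`-group of multiplicative type.
-/

set_option autoImplicit false
universe u

namespace Groth.Agent.Lib.R2H7.IsoLift

open TensorProduct Coalgebra SGA3b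
open Groth.Agent.Lib.R2H7.TwLift Groth.Agent.Lib.Helper25

section FF

variable {R : Type u} [CommRing R] (I : Ideal R) (S : Type u) [CommRing S] [Algebra R S]

/-- Faithful flatness can be tested modulo an ideal contained in the Jacobson radical. -/
theorem faithfullyFlat_of_le_jacobson (hI : I ≤ Ideal.jacobson ⊥) [Module.Flat R S]
    [Module.FaithfullyFlat (R ⧸ I) ((R ⧸ I) ⊗[R] S)] : Module.FaithfullyFlat R S := by
  refine Module.FaithfullyFlat.mk (fun m hm htop => ?_)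
  have hIm : I ≤ m := hI.trans (sInf_le ⟨bot_le, hm⟩)
  have hne : m.map (algebraMap R (R ⧸ I)) ≠ ⊤ := by
    intro htop'
    have h1 := Ideal.comap_map_of_surjective (algebraMap R (R ⧸ I))
      Ideal.Quotient.mk_surjective m
    rw [htop', Ideal.comap_top] at h1
    have h2 : Ideal.comap (algebraMap R (R ⧸ I)) ⊥ = I := by
      rw [← RingHom.ker_eq_comap_bot, Ideal.Quotient.algebraMap_eq, Ideal.mk_ker]
    rw [h2, sup_eq_left.mpr hIm] at h1
    exact hm.ne_top h1.symm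
  have h3 := ((Module.FaithfullyFlat.iff_flat_and_proper_ideal (R ⧸ I) ((R ⧸ I) ⊗[R] S)).mp
    inferInstance).2 _ hne
  apply h3
  rw [eq_top_iff]
  intro x _
  have h4 : (1 : S) ∈ m • (⊤ : Submodule R S) := by
    rw [htop]
    trivial
  have h5 : (1 : R ⧸ I) ⊗ₜ[R] (1 : S) ∈ (m.map (algebraMap R (R ⧸ I))) •
      (⊤ : Submodule (R ⧸ I) ((R ⧸ I) ⊗[R] S)) :=
    Groth.Agent.Lib.R2H7.DiagNil.tmul_mem_map_smul_top (R ⧸ I) m 1 h4
  have h6 := Groth.Agent.Lib.R2H7.IsoNil.mul_mem_smul_top' ((R ⧸ I) ⊗[R] S)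
    (m.map (algebraMap R (R ⧸ I))) x h5
  rwa [← Algebra.TensorProduct.one_def, mul_one] at h6

end FF

theorem isQuot_quotient {R : Type u} [CommRing R] (I : Ideal R) : IsQuot R I (R ⧸ I) where
  surj := Ideal.Quotient.mk_surjective
  map_eq_zero := fun r hr => Ideal.Quotient.eq_zero_iff_mem.mpr hr
  ker := fun _ _ _ t h => (Groth.Agent.Lib.R2H7.DiagNil.one_tmul_eq_zero_iff I t).mp h

/-- Isotrivial groups of multiplicative type lift along henselian pairs. -/
theorem exists_isotrivial_lift (R : Type u) [CommRing R] (I : Ideal R) [HenselianRing R I]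
    (A₀ : Type u) [CommRing A₀] [HopfAlgebra (R ⧸ I) A₀] (h0 : IsIsotrivial (R ⧸ I) A₀) :
    ∃ (A : Type u) (_ : CommRing A) (_ : HopfAlgebra R A),
      IsIsotrivial R A ∧ Nonempty (((R ⧸ I) ⊗[R] A) ≃ₐc[R ⧸ I] A₀) := by
  obtain ⟨k', _, _, hét, hfin, hff, hD⟩ := h0
  haveI := hét
  haveI := hfin
  haveI := hff
  obtain ⟨R', _, _, hfinR', hétR', ⟨ε⟩⟩ := Groth.Agent.S0532.result R I k'
  haveI := hfinR'
  haveI := hétR'
  haveI : Module.FaithfullyFlat (R ⧸ I) ((R ⧸ I) ⊗[R] R') :=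
    Module.FaithfullyFlat.of_linearEquiv (R ⧸ I) k' ε.toLinearEquiv
  haveI hffR' : Module.FaithfullyFlat R R' :=
    faithfullyFlat_of_le_jacobson I R' HenselianRing.jac
  letI : Algebra k' ((R ⧸ I) ⊗[R] R') := ε.symm.toAlgHom.toRingHom.toAlgebra
  haveI : IsScalarTower (R ⧸ I) k' ((R ⧸ I) ⊗[R] R') :=
    IsScalarTower.of_algebraMap_eq (fun x => (ε.symm.commutes x).symm)
  obtain ⟨M, _, ⟨θ₀⟩⟩ := BCB.isDiag_baseChange_of_tower (R ⧸ I) A₀ k' ((R ⧸ I) ⊗[R] R') hD
  obtain ⟨A, _, _, ⟨Θ⟩, ⟨e⟩⟩ := exists_lift_form (isQuot_quotient I) (R' := R') θ₀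
  exact ⟨A, inferInstance, inferInstance,
    ⟨R', inferInstance, inferInstance, hétR', hfinR', hffR', ⟨M, inferInstance, ⟨Θ⟩⟩⟩, ⟨e⟩⟩

end Groth.Agent.Lib.R2H7.IsoLift
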