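import Mathlib
import Groth.Prelude.Def_SGA3b
import Groth.Agent.Lib.R2H7FormalHom8
import Groth.Agent.S0532
import Groth.Agent.Lib.R2H7IsoLift

/-!
# R2H7FormalHom9: the open and closed isotrivial subgroup over a complete base (SGA3 X 3.x)

`exists_idem_isotrivial`: `A` noetherian and `I`-adically complete, `C` a Hopf algebra of finite type over `A`, flat
at the points of `V(I C)`, with `(A/I) ⊗ C` isotrivial.  Then there is an idempotent `e ∈ I C` such that `(e)` is a
Hopf ideal and `C/(e)` is isotrivial.  Moreover `e` is killed by `1 - e' ` ... (see the statement).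
-/

set_option autoImplicit false
universe u

namespace Groth.Agent.Lib.R2H7.FormalHom

open TensorProduct Coalgebra SGA3b Groth.Agent.Lib.Helper25

section Quot

variable {A : Type u} [CommRing A] {C : Type u} [CommRing C] [HopfAlgebra A C]
  (S : Type u) [CommRing S] [Algebra A S] [Module.FaithfullyFlat A S]
  {M : Type u} [CommGroup M]
  (Φ : S ⊗[A] C →ₐc[S] MonoidAlgebra S M) (hsurj : Function.Surjective Φ)
  (e : C) (hker : ∀ y, y ∈ Ideal.span {(1 : S) ⊗ₜ[A] e} ↔ Φ y = 0)

include hsurj hker in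
theorem isDiag_quotient [(Ideal.span {e}).IsHopfIdeal A] :
    IsDiag S (S ⊗[A] (C ⧸ Ideal.span {e})) := by
  have hp : ∀ a ∈ Ideal.span {e}, Φ ((1 : S) ⊗ₜ[A] a) = 0 := by
    intro a ha
    obtain ⟨c, rfl⟩ := Ideal.mem_span_singleton'.mp ha
    have h1 : (1 : S) ⊗ₜ[A] (c * e) = ((1 : S) ⊗ₜ[A] c) * ((1 : S) ⊗ₜ[A] e) := by
      rw [Algebra.TensorProduct.tmul_mul_tmul, one_mul]
    rw [h1, map_mul, map_one_tmul_e S Φ e hker, mul_zero]
  have hbij : Function.Bijective
      (Groth.Agent.Lib.R2H7.QuotGL.pbar A (Ideal.span {e}) S Φ hp) := by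
    constructor
    · rw [injective_iff_map_eq_zero]
      intro w hw
      obtain ⟨b, rfl⟩ := Groth.Agent.Lib.R2H7.QuotGL.bcMk_surjective A (Ideal.span {e}) S w
      rw [Groth.Agent.Lib.R2H7.QuotGL.pbar_bcMk] at hw
      obtain ⟨a, rfl⟩ := Ideal.mem_span_singleton'.mp ((hker b).mpr hw)
      rw [map_mul, Groth.Agent.Lib.R2H7.QuotGL.bcMk_tmul]
      have : Ideal.Quotient.mk (Ideal.span {e}) e = 0 :=
        Ideal.Quotient.eq_zero_iff_mem.mpr (Ideal.mem_span_singleton_self e)
      rw [this, TensorProduct.tmul_zero, mul_zero]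
    · intro y
      obtain ⟨b, rfl⟩ := hsurj y
      exact ⟨Groth.Agent.Lib.R2H7.QuotGL.bcMk A (Ideal.span {e}) S b,
        Groth.Agent.Lib.R2H7.QuotGL.pbar_bcMk A (Ideal.span {e}) S Φ hp b⟩
  exact ⟨M, inferInstance, ⟨BialgEquiv.ofBijective _ hbij⟩⟩

end Quot

section Main

variable (A : Type u) [CommRing A] [IsNoetherianRing A] (I : Ideal A) [IsAdicComplete I A]
  (C : Type u) [CommRing C] [HopfAlgebra A C]

omit [IsNoetherianRing A] [IsAdicComplete I A] [HopfAlgebra A C] in
theorem map_pow_tower [Algebra A C] (S : Type u) [CommRing S] [Algebra A S] (n : ℕ) :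
    ((I.map (algebraMap A S)) ^ n).map (algebraMap S (S ⊗[A] C)) =
      (I ^ n).map (algebraMap A (S ⊗[A] C)) := by
  rw [← Ideal.map_pow, Ideal.map_map, ← IsScalarTower.algebraMap_eq]

theorem exists_idem_isotrivial (hft : Algebra.FiniteType A C)
    (hfl : ∀ (q : Ideal C) [q.IsPrime], Ideal.map (algebraMap A C) I ≤ q →
      Module.Flat A (Localization.AtPrime q))
    (h0 : IsIsotrivial (A ⧸ I) ((A ⧸ I) ⊗[A] C)) :
    ∃ e : C, IsIdempotentElem e ∧ e ∈ Ideal.map (algebraMap A C) I ∧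
      ∃ _ : (Ideal.span {e}).IsHopfIdeal A, IsIsotrivial A (C ⧸ Ideal.span {e}) := by
  obtain ⟨k', _, _, hét, hfin, hff, hD⟩ := h0
  haveI := hét
  haveI := hfin
  haveI := hff
  obtain ⟨S, _, _, hfinS, hétS, ⟨ε⟩⟩ := Groth.Agent.S0532.result A I k'
  haveI := hfinS
  haveI := hétS
  haveI : Module.FaithfullyFlat (A ⧸ I) ((A ⧸ I) ⊗[A] S) :=
    Module.FaithfullyFlat.of_linearEquiv (A ⧸ I) k' ε.toLinearEquiv
  have hIjac : I ≤ Ideal.jacobson ⊥ := IsAdicComplete.le_jacobson_bot I
  haveI hffS : Module.FaithfullyFlat A S :=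
    Groth.Agent.Lib.R2H7.IsoLift.faithfullyFlat_of_le_jacobson I S hIjac
  haveI : IsNoetherianRing S := Algebra.FiniteType.isNoetherianRing A S
  haveI : IsAdicComplete (I.map (algebraMap A S)) S := isAdicComplete_map_of_finite I S
  haveI : Module.FinitePresentation A S := Module.finitePresentation_of_finite A S
  haveI : Module.Projective A S := Module.Flat.projective_of_finitePresentation
  have hft' : Algebra.FiniteType S (S ⊗[A] C) := inferInstance
  have hflat' : ∀ n : ℕ, Module.Flat (S ⧸ (I.map (algebraMap A S)) ^ (n + 1))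
      ((S ⧸ (I.map (algebraMap A S)) ^ (n + 1)) ⊗[S] (S ⊗[A] C)) := by
    intro n
    haveI := flat_level I hfl n
    exact flat_level_baseChange I S n
  obtain ⟨M, _, ⟨e₀⟩⟩ := isDiag_mod_baseChange I k' hD S ε
  obtain ⟨Φ, e', hsurj, -, he', hker, hα, hβ⟩ :=
    diag_case (I.map (algebraMap A S)) e₀ hft' hflat'
  have hα' : ∀ n : ℕ, e' ∈ (I ^ n).map (algebraMap A (S ⊗[A] C)) := by
    intro n
    rw [← map_pow_tower]
    exact hα n
  have hβ' : ∀ y : S ⊗[A] C, (∀ n : ℕ, y ∈ (I ^ n).map (algebraMap A (S ⊗[A] C))) →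
      y ∈ Ideal.span {e'} := by
    intro y hy
    apply hβ
    intro n
    rw [map_pow_tower]
    exact hy n
  obtain ⟨e, rfl⟩ := exists_descent_idem I e' he' hα' hβ'
  have he : IsIdempotentElem e := isIdempotentElem_of_one_tmul S he'
  have heI : e ∈ Ideal.map (algebraMap A C) I := by
    apply mem_map_of_one_tmul_mem S I
    have := hα' 1
    rwa [pow_one] at this
  have hH : (Ideal.span {e}).IsHopfIdeal A := isHopfIdeal_span S Φ hsurj e he' hker
  refine ⟨e, he, heI, hH, ?_⟩
  haveI := hH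
  exact ⟨S, inferInstance, inferInstance, hétS, hfinS, hffS, isDiag_quotient S Φ hsurj e hker⟩

end Main

end Groth.Agent.Lib.R2H7.FormalHom
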