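import Mathlib
import Groth.Prelude.Def_SGA3b
import Groth.Agent.Lib.R2H7FormalHom9
import Groth.Agent.Lib.Helper14Idem

/-!
# R2H7FormalHom10: groups with connected fibres over a complete base

* `eq_zero_of_connected_fibres`: an idempotent of a bialgebra `C` over `A` with zero counit is zero if all the
  fibres `κ(p) ⊗ C` have connected spectrum.
* `isIsotrivial_of_equiv`, `isIsotrivial_of_span_zero`.
* `isIsotrivial_of_connected_fibres` (SGA3 X 3.x): `A` noetherian, `I`-adically complete, `C` flat of finite type
  with connected fibres and `(A/I) ⊗ C` isotrivial; then `C` is isotrivial.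
-/

set_option autoImplicit false
universe u

namespace Groth.Agent.Lib.R2H7.FormalHom

open TensorProduct Coalgebra SGA3b Groth.Agent.Lib.Helper25

section Conn

variable {A : Type u} [CommRing A] {C : Type u} [CommRing C] [Bialgebra A C]

theorem one_tmul_eq_zero_of_connected (p : Ideal A) [p.IsPrime]
    [ConnectedSpace (PrimeSpectrum (p.ResidueField ⊗[A] C))]
    (e : C) (he : IsIdempotentElem e) (hε : counit (R := A) e = 0) :
    (1 : p.ResidueField) ⊗ₜ[A] e = 0 := by
  have hidem : IsIdempotentElem ((1 : p.ResidueField) ⊗ₜ[A] e) := by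
    change ((1 : p.ResidueField) ⊗ₜ[A] e) * ((1 : p.ResidueField) ⊗ₜ[A] e) = _
    rw [Algebra.TensorProduct.tmul_mul_tmul, one_mul, he.eq]
  rcases Groth.Agent.Lib.Helper14Idem.idem_trivial_of_connected hidem with h | h
  · exact h
  · exfalso
    have h1 : counit (R := p.ResidueField) ((1 : p.ResidueField) ⊗ₜ[A] e) = 0 := by
      rw [TensorProduct.counit_tmul, hε, zero_smul]
    rw [h, Bialgebra.counit_one] at h1
    exact one_ne_zero h1

theorem eq_zero_of_connected_fibres
    (hconn : ∀ (p : Ideal A) [p.IsPrime], ConnectedSpace (PrimeSpectrum (p.ResidueField ⊗[A] C)))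
    (e : C) (he : IsIdempotentElem e) (hε : counit (R := A) e = 0) : e = 0 := by
  have hmem : ∀ (q : Ideal C) [q.IsPrime], e ∈ q := by
    intro q hq
    set p : Ideal A := q.comap (algebraMap A C) with hp
    haveI : p.IsPrime := Ideal.comap_isPrime _ _
    haveI := hconn p
    have h1 := one_tmul_eq_zero_of_connected p e he hε
    let φ : p.ResidueField →ₐ[A] q.ResidueField :=
      Ideal.ResidueField.mapₐ p q (Algebra.ofId A C) rfl
    let g : p.ResidueField ⊗[A] C →ₐ[A] q.ResidueField :=
      Algebra.TensorProduct.lift φ (IsScalarTower.toAlgHom A C q.ResidueField)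
        (fun _ _ => Commute.all _ _)
    have h2 := congrArg g h1
    rw [map_zero, Algebra.TensorProduct.lift_tmul, map_one, one_mul] at h2
    exact Ideal.algebraMap_residueField_eq_zero.mp h2
  have hnil : IsNilpotent e := by
    rw [← mem_nilradical, nilradical_eq_sInf, Ideal.mem_sInf]
    intro q hq
    haveI : q.IsPrime := hq
    exact hmem q
  obtain ⟨n, hn⟩ := hnil
  have h3 := he.pow_succ_eq n
  rw [pow_succ, hn, zero_mul] at h3
  exact h3.symm

end Conn

section Transport

variable {A : Type u} [CommRing A] {C B : Type u} [CommRing C] [HopfAlgebra A C] [CommRing B]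
  [HopfAlgebra A B]

theorem isIsotrivial_of_equiv (f : C ≃ₐc[A] B) (h : IsIsotrivial A B) : IsIsotrivial A C := by
  obtain ⟨R', _, _, h1, h2, h3, h4⟩ := h
  exact ⟨R', inferInstance, inferInstance, h1, h2, h3, BCB.isDiag_of_equiv (BCB.bcEquiv R' f) h4⟩

theorem isIsotrivial_of_quotient_bot (J : Ideal C) [J.IsHopfIdeal A] (hJ : J = ⊥)
    (h : IsIsotrivial A (C ⧸ J)) : IsIsotrivial A C := by
  have hbij : Function.Bijective (Bialgebra.Quotient.mkBialgHom (R := A) J) := by
    constructor
    · rw [injective_iff_map_eq_zero]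
      intro x hx
      have h1 : x ∈ J := Ideal.Quotient.eq_zero_iff_mem.mp hx
      rw [hJ, Ideal.mem_bot] at h1
      exact h1
    · exact Ideal.Quotient.mk_surjective
  exact isIsotrivial_of_equiv (BialgEquiv.ofBijective _ hbij) h

end Transport

section Main

variable (A : Type u) [CommRing A] [IsNoetherianRing A] (I : Ideal A) [IsAdicComplete I A]
  (C : Type u) [CommRing C] [HopfAlgebra A C]

theorem isIsotrivial_of_connected_fibres [Module.Flat A C] (hft : Algebra.FiniteType A C)
    (hconn : ∀ (p : Ideal A) [p.IsPrime], ConnectedSpace (PrimeSpectrum (p.ResidueField ⊗[A] C)))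
    (h0 : IsIsotrivial (A ⧸ I) ((A ⧸ I) ⊗[A] C)) : IsIsotrivial A C := by
  obtain ⟨e, he, -, hH, hiso⟩ := exists_idem_isotrivial A I C hft
    (fun q _ _ => inferInstance) h0
  have he0 : e = 0 := eq_zero_of_connected_fibres hconn e he
    (hH.toIsCoideal.counit_eq_zero (Ideal.mem_span_singleton_self e))
  haveI := hH
  exact isIsotrivial_of_quotient_bot (Ideal.span {e})
    (by rw [he0]; exact Ideal.span_singleton_eq_bot.mpr rfl) hiso

end Main

end Groth.Agent.Lib.R2H7.FormalHom
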