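import Mathlib
import Groth.Prelude.Def_SGA3b
import Groth.Agent.Lib.R2H7FormalHom3

/-!
# R2H7HomLift1: the functor of homomorphisms `X ↦ Hom_X-gr(G_X, H_X)` in Hopf form

`C`, `B` Hopf algebras over `A`.  For an `A`-algebra `X` we consider the bialgebra maps
`X ⊗[A] C →ₐc[X] X ⊗[A] B`.

* `pull f Ψ`: base change along `f : X →ₐ[A] Y`; `pull_one_tmul`, `pull_pull`, `pull_id`, `ext_one_tmul`.
* `red I X : X →ₐ[A] X ⧸ I X`; `Hmap_red_eq_iff`.
* `eq_of_pull_red_eq`: rigidity modulo a nilpotent ideal.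
-/

set_option autoImplicit false
universe u

namespace Groth.Agent.Lib.R2H7.HomLift

open TensorProduct Coalgebra SGA3b Groth.Agent.Lib.Helper25 Groth.Agent.Lib.R2H7.GLLift

section Pull

variable {A : Type u} [CommRing A] {C B : Type u} [CommRing C] [HopfAlgebra A C] [CommRing B]
  [HopfAlgebra A B]

/-- A bialgebra map out of `X ⊗ C` is determined by its values on the `1 ⊗ c`. -/
theorem ext_one_tmul {X : Type u} [CommRing X] [Algebra A X] {D : Type u} [CommRing D]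
    [Bialgebra X D] (Ψ Ψ' : X ⊗[A] C →ₐc[X] D)
    (h : ∀ c : C, Ψ ((1 : X) ⊗ₜ[A] c) = Ψ' ((1 : X) ⊗ₜ[A] c)) : Ψ = Ψ' := by
  apply BialgHom.ext
  intro z
  induction z using TensorProduct.induction_on with
  | zero => rw [map_zero, map_zero]
  | tmul x c =>
    have h1 : x ⊗ₜ[A] c = x • ((1 : X) ⊗ₜ[A] c) := by
      rw [TensorProduct.smul_tmul', smul_eq_mul, mul_one]
    rw [h1, map_smul, map_smul, h]
  | add a b ha hb => rw [map_add, map_add, ha, hb]

/-- Base change of a homomorphism along `f : X → Y`. -/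
noncomputable def pull {X Y : Type u} [CommRing X] [CommRing Y] [Algebra A X] [Algebra A Y]
    (f : X →ₐ[A] Y) (Ψ : X ⊗[A] C →ₐc[X] X ⊗[A] B) : Y ⊗[A] C →ₐc[Y] Y ⊗[A] B :=
  letI : Algebra X Y := f.toRingHom.toAlgebra
  haveI : IsScalarTower A X Y := IsScalarTower.of_algebraMap_eq (fun r => (f.commutes r).symm)
  ((BCB.cancelBC A X Y B : Y ⊗[X] (X ⊗[A] B) →ₐc[Y] Y ⊗[A] B)).comp
    ((Bialgebra.TensorProduct.map (BialgHom.id Y Y) Ψ).comp
      ((BCB.cancelBC A X Y C).symm : Y ⊗[A] C →ₐc[Y] Y ⊗[X] (X ⊗[A] C)))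

theorem pull_one_tmul {X Y : Type u} [CommRing X] [CommRing Y] [Algebra A X] [Algebra A Y]
    (f : X →ₐ[A] Y) (Ψ : X ⊗[A] C →ₐc[X] X ⊗[A] B) (c : C) :
    pull f Ψ ((1 : Y) ⊗ₜ[A] c) = Hmap B f (Ψ ((1 : X) ⊗ₜ[A] c)) := by
  letI : Algebra X Y := f.toRingHom.toAlgebra
  haveI : IsScalarTower A X Y := IsScalarTower.of_algebraMap_eq (fun r => (f.commutes r).symm)
  have h1 : (BCB.cancelBC A X Y C).symm ((1 : Y) ⊗ₜ[A] c) =
      (1 : Y) ⊗ₜ[X] ((1 : X) ⊗ₜ[A] c) := by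
    have h2 : BCB.cancelBC A X Y C ((1 : Y) ⊗ₜ[X] ((1 : X) ⊗ₜ[A] c)) = (1 : Y) ⊗ₜ[A] c := by
      rw [BCB.cancelBC_tmul, one_smul]
    rw [← h2, BialgEquiv.symm_apply_apply]
  change BCB.cancelBC A X Y B (Bialgebra.TensorProduct.map (BialgHom.id Y Y) Ψ
    ((BCB.cancelBC A X Y C).symm ((1 : Y) ⊗ₜ[A] c))) = _
  rw [h1]
  change BCB.cancelBC A X Y B ((1 : Y) ⊗ₜ[X] Ψ ((1 : X) ⊗ₜ[A] c)) = _
  exact cancelBC_one_tmul f (fun _ => rfl) _

theorem Hmap_comp {X Y Z : Type u} [CommRing X] [CommRing Y] [CommRing Z] [Algebra A X]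
    [Algebra A Y] [Algebra A Z] (f : X →ₐ[A] Y) (g : Y →ₐ[A] Z) (z : X ⊗[A] B) :
    Hmap B g (Hmap B f z) = Hmap B (g.comp f) z := by
  induction z using TensorProduct.induction_on with
  | zero => simp
  | tmul x b => simp [Hmap]
  | add a b ha hb => rw [map_add, map_add, map_add, ha, hb]

theorem Hmap_id {X : Type u} [CommRing X] [Algebra A X] (z : X ⊗[A] B) :
    Hmap B (AlgHom.id A X) z = z := by
  induction z using TensorProduct.induction_on with
  | zero => simp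
  | tmul x b => simp [Hmap]
  | add a b ha hb => rw [map_add, ha, hb]

theorem pull_pull {X Y Z : Type u} [CommRing X] [CommRing Y] [CommRing Z] [Algebra A X]
    [Algebra A Y] [Algebra A Z] (f : X →ₐ[A] Y) (g : Y →ₐ[A] Z)
    (Ψ : X ⊗[A] C →ₐc[X] X ⊗[A] B) : pull g (pull f Ψ) = pull (g.comp f) Ψ := by
  apply ext_one_tmul
  intro c
  rw [pull_one_tmul, pull_one_tmul, pull_one_tmul, Hmap_comp]

theorem pull_id {X : Type u} [CommRing X] [Algebra A X] (Ψ : X ⊗[A] C →ₐc[X] X ⊗[A] B) :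
    pull (AlgHom.id A X) Ψ = Ψ := by
  apply ext_one_tmul
  intro c
  rw [pull_one_tmul, Hmap_id]

theorem pull_congr {X Y : Type u} [CommRing X] [CommRing Y] [Algebra A X] [Algebra A Y]
    {f g : X →ₐ[A] Y} (h : f = g) (Ψ : X ⊗[A] C →ₐc[X] X ⊗[A] B) : pull f Ψ = pull g Ψ := by
  rw [h]

end Pull

section Red

variable {A : Type u} [CommRing A] (I : Ideal A) {C B : Type u} [CommRing C] [HopfAlgebra A C]
  [CommRing B] [HopfAlgebra A B]

/-- The reduction map `X → X / I X`. -/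
noncomputable abbrev red (X : Type u) [CommRing X] [Algebra A X] :
    X →ₐ[A] X ⧸ I.map (algebraMap A X) :=
  Ideal.Quotient.mkₐ A (I.map (algebraMap A X))

theorem Hmap_red_eq_iff {X : Type u} [CommRing X] [Algebra A X] (z z' : X ⊗[A] B) :
    Hmap B (red I X) z = Hmap B (red I X) z' ↔
      z - z' ∈ (I.map (algebraMap A X)) • (⊤ : Submodule X (X ⊗[A] B)) := by
  rw [← DiagNil.one_tmul_eq_iff (I.map (algebraMap A X)) z z',
    ← cancelBC_one_tmul (red I X) (fun _ => rfl) z, ← cancelBC_one_tmul (red I X) (fun _ => rfl) z']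
  exact (BCB.cancelBC A X (X ⧸ I.map (algebraMap A X)) B).injective.eq_iff

/-- Rigidity: homomorphisms into a group without primitive elements (e.g. of multiplicative type), from a
commutative group, which agree modulo a nilpotent ideal are equal. -/
theorem eq_of_pull_red_eq {X : Type u} [CommRing X] [Algebra A X]
    (hnil : IsNilpotent (I.map (algebraMap A X))) (hP : NoPrimMod X (X ⊗[A] B))
    [IsCocomm X (X ⊗[A] C)] (Ψ Ψ' : X ⊗[A] C →ₐc[X] X ⊗[A] B)
    (h : ∀ c : C, Hmap B (red I X) (Ψ ((1 : X) ⊗ₜ[A] c)) =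
      Hmap B (red I X) (Ψ' ((1 : X) ⊗ₜ[A] c))) : Ψ = Ψ' := by
  apply bialgHom_eq_of_noPrimMod hP _ hnil
  intro z
  induction z using TensorProduct.induction_on with
  | zero => simp
  | tmul x c =>
    have h1 : x ⊗ₜ[A] c = x • ((1 : X) ⊗ₜ[A] c) := by
      rw [TensorProduct.smul_tmul', smul_eq_mul, mul_one]
    rw [h1, map_smul, map_smul, ← smul_sub]
    exact Submodule.smul_mem _ _ ((Hmap_red_eq_iff I _ _).mp (h c))
  | add a b ha hb =>
    rw [map_add, map_add, add_sub_add_comm]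
    exact Submodule.add_mem _ ha hb

end Red

end Groth.Agent.Lib.R2H7.HomLift
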