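import Mathlib
import Groth.Prelude.Def_SGA3b
import Groth.Agent.Lib.R2H7HomLift1

/-!
# R2H7HomLift2: lifting homomorphisms out of a diagonalizable group along a nil ideal

`φ₀ : (A/I) ⊗ C → (A/I) ⊗ B` a bialgebra map over `A/I`.  For an `A`-algebra `X`, `IsLiftOf I φ₀ Ψ` says that the
homomorphism `Ψ` over `X` and `φ₀` have the same base change to `X / I X`.

* `exists_isLiftOf_of_diag`: if `X ⊗ C` is diagonalizable, `I X` is nil and group-like elements of `X ⊗ B` lift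
  uniquely modulo `I X`, a lift exists.
-/

set_option autoImplicit false
universe u

namespace Groth.Agent.Lib.R2H7.HomLift

open TensorProduct Coalgebra SGA3b Groth.Agent.Lib.Helper25 Groth.Agent.Lib.R2H7.GLLift

section Def

variable {A : Type u} [CommRing A] (I : Ideal A) {C B : Type u} [CommRing C] [HopfAlgebra A C]
  [CommRing B] [HopfAlgebra A B]

/-- The natural map `A / I → X / I X`. -/
noncomputable abbrev iota (X : Type u) [CommRing X] [Algebra A X] :
    A ⧸ I →ₐ[A] X ⧸ I.map (algebraMap A X) :=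
  Ideal.quotientMapₐ (I.map (algebraMap A X)) (Algebra.ofId A X) Ideal.le_comap_map

/-- `Ψ` lifts `φ₀`. -/
def IsLiftOf (φ₀ : (A ⧸ I) ⊗[A] C →ₐc[A ⧸ I] (A ⧸ I) ⊗[A] B) {X : Type u} [CommRing X]
    [Algebra A X] (Ψ : X ⊗[A] C →ₐc[X] X ⊗[A] B) : Prop :=
  ∀ c : C, Hmap B (red I X) (Ψ ((1 : X) ⊗ₜ[A] c)) =
    Hmap B (iota I X) (φ₀ ((1 : A ⧸ I) ⊗ₜ[A] c))

theorem isLiftOf_iff (φ₀ : (A ⧸ I) ⊗[A] C →ₐc[A ⧸ I] (A ⧸ I) ⊗[A] B) {X : Type u} [CommRing X]
    [Algebra A X] (Ψ : X ⊗[A] C →ₐc[X] X ⊗[A] B) :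
    IsLiftOf I φ₀ Ψ ↔ pull (red I X) Ψ = pull (iota I X) φ₀ := by
  constructor
  · intro h
    apply ext_one_tmul
    intro c
    rw [pull_one_tmul, pull_one_tmul]
    exact h c
  · intro h c
    rw [← pull_one_tmul, ← pull_one_tmul, h]

theorem Hmap_red_surjective {X : Type u} [CommRing X] [Algebra A X]
    (w : (X ⧸ I.map (algebraMap A X)) ⊗[A] B) : ∃ x : X ⊗[A] B, Hmap B (red I X) x = w := by
  obtain ⟨x, hx⟩ := DiagNil.one_tmul_surjective (I.map (algebraMap A X))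
    ((BCB.cancelBC A X (X ⧸ I.map (algebraMap A X)) B).symm w)
  refine ⟨x, ?_⟩
  rw [← cancelBC_one_tmul (red I X) (fun _ => rfl) x, hx, BialgEquiv.apply_symm_apply]

end Def

section Diag

variable {A : Type u} [CommRing A] (I : Ideal A) {C B : Type u} [CommRing C] [HopfAlgebra A C]
  [CommRing B] [HopfAlgebra A B]
  (φ₀ : (A ⧸ I) ⊗[A] C →ₐc[A ⧸ I] (A ⧸ I) ⊗[A] B)
  {X : Type u} [CommRing X] [Algebra A X] {M : Type u} [CommGroup M]

theorem exists_isLiftOf_of_diag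
    (hL : LiftGL X (X ⊗[A] B) (I.map (algebraMap A X)))
    (hU : UniqGL X (X ⊗[A] B) (I.map (algebraMap A X)))
    (θ : X ⊗[A] C ≃ₐc[X] MonoidAlgebra X M) :
    ∃ Ψ : X ⊗[A] C →ₐc[X] X ⊗[A] B, IsLiftOf I φ₀ Ψ := by
  classical
  set K : Ideal X := I.map (algebraMap A X) with hK
  -- the reduction of `φ₀` to `X / I X`
  set Φ₀ : (X ⧸ K) ⊗[A] C →ₐc[X ⧸ K] (X ⧸ K) ⊗[A] B := pull (iota I X) φ₀ with hΦ₀
  -- characters
  let uu : M → X ⊗[A] C := fun m => θ.symm (MonoidAlgebra.single m 1)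
  have huu : ∀ m, IsGroupLikeElem X (uu m) := fun m =>
    (MonoidAlgebra.isGroupLikeElem_single_one (R := X) (A := X) m).map θ.symm
  let gbar : M → (X ⧸ K) ⊗[A] B := fun m => Φ₀ (Hmap C (red I X) (uu m))
  have hgbar : ∀ m, IsGroupLikeElem (X ⧸ K) (gbar m) := fun m =>
    (isGroupLikeElem_map (red I X) (huu m)).map Φ₀
  have hex : ∀ m : M, ∃ g : X ⊗[A] B, IsGroupLikeElem X g ∧ Hmap B (red I X) g = gbar m := by
    intro m
    obtain ⟨x, hx⟩ := Hmap_red_surjective I (gbar m)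
    have hgl : GLmod X (X ⊗[A] B) K x := by
      apply DiagNil.glmod_of_one_tmul K
      have h1 : (1 : X ⧸ K) ⊗ₜ[X] x = (BCB.cancelBC A X (X ⧸ K) B).symm (gbar m) := by
        rw [← hx, ← cancelBC_one_tmul (red I X) (fun _ => rfl) x, BialgEquiv.symm_apply_apply]
      rw [h1]
      exact (hgbar m).map (BCB.cancelBC A X (X ⧸ K) B).symm
    obtain ⟨g, hg, hgx⟩ := hL x hgl
    refine ⟨g, hg, ?_⟩
    rw [← hx]
    exact (Hmap_red_eq_iff I g x).mpr hgx
  choose g hg hgbar' using hex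
  have hone : g 1 = 1 := by
    apply hU _ _ (hg 1) (IsGroupLikeElem.one (R := X) (A := X ⊗[A] B))
    rw [← Hmap_red_eq_iff I, hgbar', map_one]
    change Φ₀ (Hmap C (red I X) (θ.symm (MonoidAlgebra.single 1 1))) = 1
    rw [← MonoidAlgebra.one_def, map_one, map_one, map_one]
  have hmul : ∀ m m', g (m * m') = g m * g m' := by
    intro m m'
    apply hU _ _ (hg _) ((hg m).mul (hg m'))
    rw [← Hmap_red_eq_iff I, map_mul, hgbar', hgbar', hgbar']
    change Φ₀ (Hmap C (red I X) (θ.symm (MonoidAlgebra.single (m * m') 1))) =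
      Φ₀ (Hmap C (red I X) (θ.symm (MonoidAlgebra.single m 1))) *
        Φ₀ (Hmap C (red I X) (θ.symm (MonoidAlgebra.single m' 1)))
    rw [← map_mul, ← map_mul, ← map_mul, MonoidAlgebra.single_mul_single, mul_one]
  let γ : M →* GroupLike X (X ⊗[A] B) :=
    { toFun := fun m => ⟨g m, hg m⟩
      map_one' := GroupLike.val_injective hone
      map_mul' := fun m m' => GroupLike.val_injective (hmul m m') }
  obtain ⟨ψ, hψs⟩ : ∃ ψ : MonoidAlgebra X M →ₐc[X] X ⊗[A] B,
      ∀ (m : M) (r : X), ψ (MonoidAlgebra.single m r) = r • g m := by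
    refine ⟨(MonoidAlgebra.liftGroupLikeBialgHom (R := X) (A := X ⊗[A] B)).comp
      (MonoidAlgebra.mapDomainBialgHom X γ), fun m r => ?_⟩
    rw [BialgHom.comp_apply, MonoidAlgebra.mapDomainBialgHom_single,
      MonoidAlgebra.liftGroupLikeBialgHom_apply, MonoidAlgebra.lift_single]
    rfl
  refine ⟨ψ.comp (θ : X ⊗[A] C →ₐc[X] MonoidAlgebra X M), ?_⟩
  -- the key identity on all of `X ⊗ C`
  have key : ∀ p : MonoidAlgebra X M,
      Hmap B (red I X) (ψ p) = Φ₀ (Hmap C (red I X) (θ.symm p)) := by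
    intro p
    induction p using MonoidAlgebra.induction_linear with
    | zero => simp
    | add p q hp hq => rw [map_add, map_add, hp, hq, map_add, map_add, map_add]
    | single m r =>
      have h1 : (MonoidAlgebra.single m r : MonoidAlgebra X M) =
          r • MonoidAlgebra.single m 1 := DiagNil.single_eq_smul m r
      rw [hψs, Hmap_smul, hgbar', h1, map_smul, Hmap_smul, map_smul]
  intro c
  rw [BialgHom.comp_apply]
  change Hmap B (red I X) (ψ (θ ((1 : X) ⊗ₜ[A] c))) = _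
  rw [key, BialgEquiv.symm_apply_apply, Hmap_one_tmul, hΦ₀, pull_one_tmul]

end Diag

end Groth.Agent.Lib.R2H7.HomLift
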