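import Mathlib
import Groth.Prelude.Def_SGA3b
import Groth.Agent.Lib.R2H7HomLift2
import Groth.Agent.Lib.R2H7FinMult

/-!
# R2H7HomLift3: descent of homomorphisms of affine groups (absolute form)

`C`, `B` Hopf algebras over `R`.

* `mkHom`: a function `ψ : C → B` which becomes a bialgebra map after each member of a family of base changes
  detecting zero is a bialgebra map.
* `descend_hom`: faithfully flat descent of homomorphisms (Amitsur).
* `glue_hom`: Zariski gluing of homomorphisms.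
-/

set_option autoImplicit false
universe u

namespace Groth.Agent.Lib.R2H7.HomLift

open TensorProduct Coalgebra SGA3b Groth.Agent.Lib.Helper25 Groth.Agent.Lib.R2H7.GLLift
  Groth.Agent.Lib.R2H7.GLGlue

section MkHom

variable {R : Type u} [CommRing R] {C B : Type u} [CommRing C] [HopfAlgebra R C] [CommRing B]
  [HopfAlgebra R B]

theorem one_tmul_algebraMap {T : Type u} [CommRing T] [Algebra R T] (r : R) :
    (1 : T) ⊗ₜ[R] r = (algebraMap R T r) ⊗ₜ[R] (1 : R) := by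
  rw [Algebra.algebraMap_eq_smul_one, TensorProduct.smul_tmul, smul_eq_mul, mul_one]

theorem mkHom {ι : Type*} (T : ι → Type u) [∀ i, CommRing (T i)] [∀ i, Algebra R (T i)]
    (det : ∀ (N : Type u) [AddCommGroup N] [Module R N] (z : N),
      (∀ i, (1 : T i) ⊗ₜ[R] z = 0) → z = 0)
    (ψ : C → B) (Ψ : ∀ i, T i ⊗[R] C →ₐc[T i] T i ⊗[R] B)
    (h : ∀ i c, Ψ i ((1 : T i) ⊗ₜ[R] c) = (1 : T i) ⊗ₜ[R] ψ c) :
    ∃ ψ' : C →ₐc[R] B, ∀ c, ψ' c = ψ c := by
  -- linearity
  have hadd : ∀ c c', ψ (c + c') = ψ c + ψ c' := by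
    intro c c'
    rw [← sub_eq_zero]
    apply det
    intro i
    rw [TensorProduct.tmul_sub, TensorProduct.tmul_add, ← h, ← h, ← h, TensorProduct.tmul_add,
      map_add, sub_self]
  have hsmul : ∀ (r : R) c, ψ (r • c) = r • ψ c := by
    intro r c
    rw [← sub_eq_zero]
    apply det
    intro i
    rw [TensorProduct.tmul_sub, TensorProduct.tmul_smul, ← h, ← h, TensorProduct.tmul_smul,
      ← algebraMap_smul (T i) r, map_smul, algebraMap_smul, sub_self]
  let ψl : C →ₗ[R] B := { toFun := ψ, map_add' := hadd, map_smul' := hsmul }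
  have hone : ψ 1 = 1 := by
    rw [← sub_eq_zero]
    apply det
    intro i
    rw [TensorProduct.tmul_sub, ← h]
    rw [show ((1 : T i) ⊗ₜ[R] (1 : C)) = 1 from rfl, map_one]
    exact sub_self _
  have hmul : ∀ c c', ψ (c * c') = ψ c * ψ c' := by
    intro c c'
    rw [← sub_eq_zero]
    apply det
    intro i
    have h1 : (1 : T i) ⊗ₜ[R] (c * c') = ((1 : T i) ⊗ₜ[R] c) * ((1 : T i) ⊗ₜ[R] c') := by
      rw [Algebra.TensorProduct.tmul_mul_tmul, one_mul]
    have h2 : (1 : T i) ⊗ₜ[R] (ψ c * ψ c') =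
        ((1 : T i) ⊗ₜ[R] ψ c) * ((1 : T i) ⊗ₜ[R] ψ c') := by
      rw [Algebra.TensorProduct.tmul_mul_tmul, one_mul]
    rw [TensorProduct.tmul_sub, ← h, h1, map_mul, h, h, ← h2, sub_self]
  let ψa : C →ₐ[R] B := AlgHom.ofLinearMap ψl hone hmul
  have hψa : ∀ c, ψa c = ψ c := fun c => rfl
  have hcounit : ∀ c, counit (R := R) (ψ c) = counit (R := R) c := by
    intro c
    rw [← sub_eq_zero]
    apply det R
    intro i
    have h1 : counit (R := T i) (Ψ i ((1 : T i) ⊗ₜ[R] c)) =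
        counit (R := T i) ((1 : T i) ⊗ₜ[R] c) := CoalgHomClass.counit_comp_apply (Ψ i) _
    rw [h, TensorProduct.counit_tmul, TensorProduct.counit_tmul] at h1
    have h2 : algebraMap R (T i) (counit (R := R) (ψ c)) =
        algebraMap R (T i) (counit (R := R) c) := by
      simpa [Algebra.smul_def] using h1
    rw [one_tmul_algebraMap, map_sub, h2, sub_self, TensorProduct.zero_tmul]
  have hcomul : ∀ c, TensorProduct.map ψl ψl (comul (R := R) c) = comul (R := R) (ψ c) := by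
    intro c
    rw [← sub_eq_zero]
    apply det
    intro i
    apply one_tmul_eq_zero_of_bcMap2 (T i)
    have h1 : ∀ w : C ⊗[R] C, bcMap2 (R := R) (T i) B (TensorProduct.map ψl ψl w) =
        TensorProduct.map (Ψ i : T i ⊗[R] C →ₗ[T i] T i ⊗[R] B)
          (Ψ i : T i ⊗[R] C →ₗ[T i] T i ⊗[R] B) (bcMap2 (R := R) (T i) C w) := by
      intro w
      induction w using TensorProduct.induction_on with
      | zero => simp
      | tmul a b =>
        rw [TensorProduct.map_tmul, bcMap2_tmul, bcMap2_tmul, TensorProduct.map_tmul]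
        change _ = (Ψ i ((1 : T i) ⊗ₜ[R] a)) ⊗ₜ[T i] (Ψ i ((1 : T i) ⊗ₜ[R] b))
        rw [h, h]
        rfl
      | add x y hx hy => rw [map_add, map_add, hx, hy, map_add, map_add]
    rw [map_sub, h1, ← comul_one_tmul, ← comul_one_tmul, ← h]
    have h2 := CoalgHomClass.map_comp_comul_apply (Ψ i) ((1 : T i) ⊗ₜ[R] c)
    rw [sub_eq_zero]
    exact h2
  refine ⟨BialgHom.ofAlgHom ψa ?_ ?_, fun c => rfl⟩
  · apply AlgHom.ext
    intro c
    exact hcounit c
  · apply AlgHom.ext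
    intro c
    exact hcomul c

end MkHom

section Descend

variable {R : Type u} [CommRing R] {C B : Type u} [CommRing C] [HopfAlgebra R C] [CommRing B]
  [HopfAlgebra R B]

/-- Faithfully flat descent of homomorphisms. -/
theorem descend_hom (T : Type u) [CommRing T] [Algebra R T] [Module.FaithfullyFlat R T]
    (Ψ : T ⊗[R] C →ₐc[T] T ⊗[R] B)
    (hcoc : ∀ c : C,
      Hmap B (Algebra.TensorProduct.includeLeft : T →ₐ[R] T ⊗[R] T) (Ψ ((1 : T) ⊗ₜ[R] c)) =
      Hmap B (Algebra.TensorProduct.includeRight : T →ₐ[R] T ⊗[R] T) (Ψ ((1 : T) ⊗ₜ[R] c))) :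
    ∃ ψ : C →ₐc[R] B, ∀ c, Ψ ((1 : T) ⊗ₜ[R] c) = (1 : T) ⊗ₜ[R] ψ c := by
  obtain ⟨hl, hh, -⟩ := Groth.Agent.Lib.Helper22.existsUnique_baseChange_eq (R := R) (A := T) C B
    ((Ψ : T ⊗[R] C →ₐ[T] T ⊗[R] B).toLinearMap) (fun c => by
      rw [← Hmap_eq_rTensor, ← Hmap_eq_rTensor]
      exact hcoc c)
  have h1 : ∀ c, Ψ ((1 : T) ⊗ₜ[R] c) = (1 : T) ⊗ₜ[R] hl c := by
    intro c
    have := congrArg (fun f : T ⊗[R] C →ₗ[T] T ⊗[R] B => f ((1 : T) ⊗ₜ[R] c)) hh
    simpa using this.symm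
  obtain ⟨ψ', hψ'⟩ := mkHom (ι := PUnit.{u+1}) (fun _ => T)
    (fun N _ _ z hz => (Module.FaithfullyFlat.one_tmul_eq_zero_iff R _ z).mp (hz PUnit.unit))
    (fun c => hl c) (fun _ => Ψ) (fun _ c => h1 c)
  exact ⟨ψ', fun c => by rw [hψ', h1]⟩

end Descend

section Glue

variable {R : Type u} [CommRing R] {C B : Type u} [CommRing C] [HopfAlgebra R C] [CommRing B]
  [HopfAlgebra R B]

/-- Zariski gluing of homomorphisms. -/
theorem glue_hom (t : Finset R) (ht : Ideal.span (t : Set R) = ⊤)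
    (Ψ : ∀ f : R, Localization.Away f ⊗[R] C →ₐc[Localization.Away f] Localization.Away f ⊗[R] B)
    (hΨ : ∀ f ∈ t, ∀ f' ∈ t, ∀ c : C,
      Hmap B (awayL f f') (Ψ f ((1 : Localization.Away f) ⊗ₜ[R] c)) =
        Hmap B (awayR f f') (Ψ f' ((1 : Localization.Away f') ⊗ₜ[R] c))) :
    ∃ ψ : C →ₐc[R] B, ∀ f ∈ t, ∀ c,
      Ψ f ((1 : Localization.Away f) ⊗ₜ[R] c) = (1 : Localization.Away f) ⊗ₜ[R] ψ c := by
  have hex : ∀ c : C, ∃ y : B, ∀ f ∈ t,
      (1 : Localization.Away f) ⊗ₜ[R] y = Ψ f ((1 : Localization.Away f) ⊗ₜ[R] c) := by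
    intro c
    apply exists_glue B t ht (fun f => Ψ f ((1 : Localization.Away f) ⊗ₜ[R] c))
    intro f hf f' hf'
    rw [← Hmap_eq_rTensor, ← Hmap_eq_rTensor]
    exact hΨ f hf f' hf' c
  choose ψ hψ using hex
  obtain ⟨ψ', hψ'⟩ := mkHom (ι := t) (fun f => Localization.Away f.1)
    (fun N _ _ z hz => Groth.Agent.Lib.R2H7.FinMult.eq_zero_of_span (t : Set R) ht z
      (fun r hr => hz ⟨r, hr⟩))
    ψ (fun f => Ψ f.1) (fun f c => (hψ c f.1 f.2).symm)
  exact ⟨ψ', fun f hf c => by rw [hψ', hψ c f hf]⟩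

end Glue

end Groth.Agent.Lib.R2H7.HomLift
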