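import Mathlib
import Groth.Prelude.Def_SGA3b
import Groth.Agent.Lib.R2H7HomLift3

/-!
# R2H7HomLift4: descent and gluing of homomorphisms, relative form

`C`, `B` Hopf algebras over `A`; for an `A`-algebra `X` a homomorphism over `X` is a bialgebra map
`X ⊗[A] C →ₐc[X] X ⊗[A] B`.

* `cancelBC_Hmap`, `Hmap_cancelBC_symm`: naturality of the cancellation isomorphism.
* `toAbs`: a homomorphism over an `X`-algebra `T`, as a map `T ⊗[X] (X ⊗ C) → T ⊗[X] (X ⊗ B)`.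
* `descend_hom_rel`: faithfully flat descent along `X → T`.
* `glue_hom_rel`: Zariski gluing on `X`.
-/

set_option autoImplicit false
universe u

namespace Groth.Agent.Lib.R2H7.HomLift

open TensorProduct Coalgebra SGA3b Groth.Agent.Lib.Helper25 Groth.Agent.Lib.R2H7.GLLift
  Groth.Agent.Lib.R2H7.GLGlue

section Nat

variable {A : Type u} [CommRing A] {B : Type u} [CommRing B] [HopfAlgebra A B]
  {X : Type u} [CommRing X] [Algebra A X]

theorem cancelBC_Hmap {T T' : Type u} [CommRing T] [CommRing T'] [Algebra A T] [Algebra X T]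
    [IsScalarTower A X T] [Algebra A T'] [Algebra X T'] [IsScalarTower A X T']
    (g : T →ₐ[X] T') (w : T ⊗[X] (X ⊗[A] B)) :
    BCB.cancelBC A X T' B (Hmap (X ⊗[A] B) g w) =
      Hmap B (g.restrictScalars A) (BCB.cancelBC A X T B w) := by
  induction w using TensorProduct.induction_on with
  | zero => simp
  | tmul t z =>
    induction z using TensorProduct.induction_on with
    | zero => simp
    | tmul x b =>
      have h1 : Hmap (X ⊗[A] B) g (t ⊗ₜ[X] (x ⊗ₜ[A] b)) = (g t) ⊗ₜ[X] (x ⊗ₜ[A] b) := by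
        simp [Hmap]
      rw [h1, BCB.cancelBC_tmul, BCB.cancelBC_tmul]
      simp [Hmap]
    | add z z' hz hz' =>
      rw [TensorProduct.tmul_add, map_add, map_add, hz, hz', map_add, map_add]
  | add w w' hw hw' => rw [map_add, map_add, hw, hw', map_add, map_add]

theorem Hmap_cancelBC_symm {T T' : Type u} [CommRing T] [CommRing T'] [Algebra A T] [Algebra X T]
    [IsScalarTower A X T] [Algebra A T'] [Algebra X T'] [IsScalarTower A X T']
    (g : T →ₐ[X] T') (w : T ⊗[A] B) :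
    Hmap (X ⊗[A] B) g ((BCB.cancelBC A X T B).symm w) =
      (BCB.cancelBC A X T' B).symm (Hmap B (g.restrictScalars A) w) := by
  have h := cancelBC_Hmap g ((BCB.cancelBC A X T B).symm w)
  rw [BialgEquiv.apply_symm_apply] at h
  rw [← h, BialgEquiv.symm_apply_apply]

end Nat

section Rel

variable {A : Type u} [CommRing A] {C B : Type u} [CommRing C] [HopfAlgebra A C] [CommRing B]
  [HopfAlgebra A B] {X : Type u} [CommRing X] [Algebra A X]

/-- A homomorphism over the `X`-algebra `T`, in absolute form over `X`. -/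
noncomputable def toAbs (T : Type u) [CommRing T] [Algebra A T] [Algebra X T] [IsScalarTower A X T]
    (Ψ : T ⊗[A] C →ₐc[T] T ⊗[A] B) : T ⊗[X] (X ⊗[A] C) →ₐc[T] T ⊗[X] (X ⊗[A] B) :=
  ((BCB.cancelBC A X T B).symm : T ⊗[A] B →ₐc[T] T ⊗[X] (X ⊗[A] B)).comp
    (Ψ.comp (BCB.cancelBC A X T C : T ⊗[X] (X ⊗[A] C) →ₐc[T] T ⊗[A] C))

theorem toAbs_apply (T : Type u) [CommRing T] [Algebra A T] [Algebra X T] [IsScalarTower A X T]
    (Ψ : T ⊗[A] C →ₐc[T] T ⊗[A] B) (z : T ⊗[X] (X ⊗[A] C)) :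
    toAbs T Ψ z = (BCB.cancelBC A X T B).symm (Ψ (BCB.cancelBC A X T C z)) := rfl

theorem toAbs_one_tmul (T : Type u) [CommRing T] [Algebra A T] [Algebra X T] [IsScalarTower A X T]
    (Ψ : T ⊗[A] C →ₐc[T] T ⊗[A] B) (c : C) :
    toAbs T Ψ ((1 : T) ⊗ₜ[X] ((1 : X) ⊗ₜ[A] c)) =
      (BCB.cancelBC A X T B).symm (Ψ ((1 : T) ⊗ₜ[A] c)) := by
  rw [toAbs_apply, BCB.cancelBC_tmul, one_smul]

/-- Reduction of an identity on `T ⊗[X] (X ⊗ C)` to the elements `1 ⊗ (1 ⊗ c)`. -/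
theorem Hmap_toAbs_ext {T Z : Type u} [CommRing T] [Algebra X T] [CommRing Z] [Algebra X Z]
    (Ψ : T ⊗[X] (X ⊗[A] C) →ₐc[T] T ⊗[X] (X ⊗[A] B))
    {T' : Type u} [CommRing T'] [Algebra X T']
    (Ψ' : T' ⊗[X] (X ⊗[A] C) →ₐc[T'] T' ⊗[X] (X ⊗[A] B))
    (g : T →ₐ[X] Z) (g' : T' →ₐ[X] Z)
    (h : ∀ c : C, Hmap (X ⊗[A] B) g (Ψ ((1 : T) ⊗ₜ[X] ((1 : X) ⊗ₜ[A] c))) =
      Hmap (X ⊗[A] B) g' (Ψ' ((1 : T') ⊗ₜ[X] ((1 : X) ⊗ₜ[A] c)))) (c' : X ⊗[A] C) :
    Hmap (X ⊗[A] B) g (Ψ ((1 : T) ⊗ₜ[X] c')) = Hmap (X ⊗[A] B) g' (Ψ' ((1 : T') ⊗ₜ[X] c')) := by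
  induction c' using TensorProduct.induction_on with
  | zero => simp
  | tmul x c =>
    have h1 : x ⊗ₜ[A] c = x • ((1 : X) ⊗ₜ[A] c) := by
      rw [TensorProduct.smul_tmul', smul_eq_mul, mul_one]
    have e1 : Ψ ((1 : T) ⊗ₜ[X] (x ⊗ₜ[A] c)) =
        (algebraMap X T x) • Ψ ((1 : T) ⊗ₜ[X] ((1 : X) ⊗ₜ[A] c)) := by
      rw [← map_smul, algebraMap_smul, ← TensorProduct.tmul_smul, ← h1]
    have e2 : Ψ' ((1 : T') ⊗ₜ[X] (x ⊗ₜ[A] c)) =
        (algebraMap X T' x) • Ψ' ((1 : T') ⊗ₜ[X] ((1 : X) ⊗ₜ[A] c)) := by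
      rw [← map_smul, algebraMap_smul, ← TensorProduct.tmul_smul, ← h1]
    rw [e1, e2, Hmap_smul, Hmap_smul, AlgHom.commutes, AlgHom.commutes, h c]
  | add a b ha hb =>
    rw [TensorProduct.tmul_add, TensorProduct.tmul_add, map_add, map_add, map_add, map_add, ha, hb]

/-- Faithfully flat descent of homomorphisms, relative form. -/
theorem descend_hom_rel (T : Type u) [CommRing T] [Algebra A T] [Algebra X T]
    [IsScalarTower A X T] [Module.FaithfullyFlat X T] (Ψ : T ⊗[A] C →ₐc[T] T ⊗[A] B)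
    (hcoc : ∀ c : C,
      Hmap B ((Algebra.TensorProduct.includeLeft : T →ₐ[X] T ⊗[X] T).restrictScalars A)
          (Ψ ((1 : T) ⊗ₜ[A] c)) =
        Hmap B ((Algebra.TensorProduct.includeRight : T →ₐ[X] T ⊗[X] T).restrictScalars A)
          (Ψ ((1 : T) ⊗ₜ[A] c))) :
    ∃ Φ : X ⊗[A] C →ₐc[X] X ⊗[A] B, ∀ c : C,
      Ψ ((1 : T) ⊗ₜ[A] c) = Hmap B (IsScalarTower.toAlgHom A X T) (Φ ((1 : X) ⊗ₜ[A] c)) := by
  obtain ⟨ψ, hψ⟩ := descend_hom (R := X) (C := X ⊗[A] C) (B := X ⊗[A] B) T (toAbs T Ψ)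
    (Hmap_toAbs_ext (Z := T ⊗[X] T) (toAbs T Ψ) (toAbs T Ψ)
      (Algebra.TensorProduct.includeLeft : T →ₐ[X] T ⊗[X] T)
      (Algebra.TensorProduct.includeRight : T →ₐ[X] T ⊗[X] T) (fun c => by
      rw [toAbs_one_tmul, Hmap_cancelBC_symm, Hmap_cancelBC_symm, hcoc c]))
  refine ⟨ψ, fun c => ?_⟩
  have h1 := hψ ((1 : X) ⊗ₜ[A] c)
  rw [toAbs_one_tmul] at h1
  rw [← cancelBC_one_tmul (IsScalarTower.toAlgHom A X T) (fun _ => rfl), ← h1,
    BialgEquiv.apply_symm_apply]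

/-- Zariski gluing of homomorphisms, relative form. -/
theorem glue_hom_rel (t : Finset X) (ht : Ideal.span (t : Set X) = ⊤)
    (Ψ : ∀ f : X, Localization.Away f ⊗[A] C →ₐc[Localization.Away f] Localization.Away f ⊗[A] B)
    (hΨ : ∀ f ∈ t, ∀ f' ∈ t, ∀ c : C,
      Hmap B ((awayL f f').restrictScalars A) (Ψ f ((1 : Localization.Away f) ⊗ₜ[A] c)) =
        Hmap B ((awayR f f').restrictScalars A) (Ψ f' ((1 : Localization.Away f') ⊗ₜ[A] c))) :
    ∃ Φ : X ⊗[A] C →ₐc[X] X ⊗[A] B, ∀ f ∈ t, ∀ c : C,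
      Ψ f ((1 : Localization.Away f) ⊗ₜ[A] c) =
        Hmap B (IsScalarTower.toAlgHom A X (Localization.Away f)) (Φ ((1 : X) ⊗ₜ[A] c)) := by
  obtain ⟨ψ, hψ⟩ := glue_hom (R := X) (C := X ⊗[A] C) (B := X ⊗[A] B) t ht
    (fun f => toAbs (Localization.Away f) (Ψ f))
    (fun f hf f' hf' => Hmap_toAbs_ext (Z := Localization.Away (f * f'))
      (toAbs (Localization.Away f) (Ψ f))
      (toAbs (Localization.Away f') (Ψ f')) (awayL f f') (awayR f f') (fun c => by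
        rw [toAbs_one_tmul, toAbs_one_tmul, Hmap_cancelBC_symm, Hmap_cancelBC_symm,
          hΨ f hf f' hf' c]))
  refine ⟨ψ, fun f hf c => ?_⟩
  have h1 := hψ f hf ((1 : X) ⊗ₜ[A] c)
  rw [toAbs_one_tmul] at h1
  rw [← cancelBC_one_tmul (IsScalarTower.toAlgHom A X (Localization.Away f)) (fun _ => rfl), ← h1,
    BialgEquiv.apply_symm_apply]

end Rel

end Groth.Agent.Lib.R2H7.HomLift
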