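import Mathlib
import Groth.Agent.Lib.R2H7GLGlue

/-!
# R2H7ProdRing: splittings over a finite product of rings

Let `Tc i` be finitely many `K`-algebras, `P = ∀ i, Tc i`, and `X` a Hopf algebra over `K` with
splittings `ϑ i : Tc i ⊗[K] X ≃ₐc[Tc i] (Tc i)[N]` of one type `N`.  Then `P ⊗[K] X ≃ₐc[P] P[N]`
(`thetaP`), compatibly with the projections (`mapRingHom_thetaP`).
-/

set_option autoImplicit false
universe u

namespace Groth.Agent.Lib.R2H7.ProdRing

open TensorProduct Coalgebra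
open Groth.Agent.Lib.Helper25 Groth.Agent.Lib.R2H7.GLLift Groth.Agent.Lib.R2H7.GLGlue

section Basic

variable {K : Type u} [CommRing K] {ι : Type u} [Fintype ι] [DecidableEq ι]
  (Tc : ι → Type u) [∀ i, CommRing (Tc i)] [∀ i, Algebra K (Tc i)]
  (X : Type u) [CommRing X] [HopfAlgebra K X]

/-- The `i`-th component map. -/
noncomputable def ev (i : ι) : (∀ i, Tc i) ⊗[K] X →ₐ[K] Tc i ⊗[K] X :=
  Hmap X (Pi.evalAlgHom K Tc i)

theorem ev_tmul (i : ι) (p : ∀ i, Tc i) (x : X) : ev Tc X i (p ⊗ₜ[K] x) = p i ⊗ₜ[K] x := by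
  simp [ev, Hmap]

/-- The `i`-th inclusion (not unital). -/
noncomputable def inn (i : ι) : Tc i ⊗[K] X →ₗ[K] (∀ i, Tc i) ⊗[K] X :=
  LinearMap.rTensor X (LinearMap.single K Tc i)

theorem inn_tmul (i : ι) (t : Tc i) (x : X) :
    inn Tc X i (t ⊗ₜ[K] x) = (Pi.single i t : ∀ i, Tc i) ⊗ₜ[K] x := rfl

theorem ev_inn_self (i : ι) (w : Tc i ⊗[K] X) : ev Tc X i (inn Tc X i w) = w := by
  induction w using TensorProduct.induction_on with
  | zero => simp
  | tmul t x => rw [inn_tmul, ev_tmul, Pi.single_eq_same]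
  | add a b ha hb => rw [map_add, map_add, ha, hb]

theorem ev_inn_of_ne {i j : ι} (h : j ≠ i) (w : Tc i ⊗[K] X) :
    ev Tc X j (inn Tc X i w) = 0 := by
  induction w using TensorProduct.induction_on with
  | zero => simp
  | tmul t x => rw [inn_tmul, ev_tmul, Pi.single_eq_of_ne h, TensorProduct.zero_tmul]
  | add a b ha hb => rw [map_add, map_add, ha, hb, add_zero]

theorem sum_inn_ev (z : (∀ i, Tc i) ⊗[K] X) : ∑ i, inn Tc X i (ev Tc X i z) = z := by
  induction z using TensorProduct.induction_on with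
  | zero => simp
  | tmul p x =>
    simp only [ev_tmul, inn_tmul]
    rw [← TensorProduct.sum_tmul, Finset.univ_sum_single]
  | add a b ha hb =>
    simp only [map_add, Finset.sum_add_distrib]
    rw [ha, hb]

theorem eq_zero_of_ev (z : (∀ i, Tc i) ⊗[K] X) (h : ∀ i, ev Tc X i z = 0) : z = 0 := by
  rw [← sum_inn_ev Tc X z]
  simp [h]

theorem ext_of_ev (z z' : (∀ i, Tc i) ⊗[K] X) (h : ∀ i, ev Tc X i z = ev Tc X i z') : z = z' := by
  rw [← sub_eq_zero]
  apply eq_zero_of_ev
  intro i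
  rw [map_sub, h, sub_self]

theorem ev_smul (i : ι) (p : ∀ i, Tc i) (z : (∀ i, Tc i) ⊗[K] X) :
    ev Tc X i (p • z) = p i • ev Tc X i z :=
  Hmap_smul (A := X) (Pi.evalAlgHom K Tc i) p z

theorem single_mul_eq (i : ι) (c : Tc i) (p : ∀ i, Tc i) :
    (Pi.single i (c * p i) : ∀ i, Tc i) = Pi.single i c * p := by
  funext j
  by_cases h : j = i
  · subst h
    simp
  · simp [Pi.single_eq_of_ne h]

theorem inn_smul_ev (i : ι) (c : Tc i) (z : (∀ i, Tc i) ⊗[K] X) :
    inn Tc X i (c • ev Tc X i z) = (Pi.single i c : ∀ i, Tc i) • z := by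
  induction z using TensorProduct.induction_on with
  | zero => simp
  | tmul p x =>
    rw [ev_tmul, TensorProduct.smul_tmul', inn_tmul, TensorProduct.smul_tmul', smul_eq_mul,
      smul_eq_mul, single_mul_eq]
  | add a b ha hb => rw [map_add, smul_add, map_add, ha, hb, smul_add]

theorem Hmap_Hmap {A B C : Type u} [CommRing A] [CommRing B] [CommRing C] [Algebra K A]
    [Algebra K B] [Algebra K C] (f : A →ₐ[K] B) (g : B →ₐ[K] C) (z : A ⊗[K] X) :
    Hmap X g (Hmap X f z) = Hmap X (g.comp f) z := by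
  induction z using TensorProduct.induction_on with
  | zero => simp
  | tmul a x => simp [Hmap]
  | add a b ha hb => rw [map_add, map_add, ha, hb, map_add]

/-- Group-like elements over a finite product of rings are detected componentwise. -/
theorem isGroupLikeElem_of_ev {u : (∀ i, Tc i) ⊗[K] X}
    (h : ∀ i, IsGroupLikeElem (Tc i) (ev Tc X i u)) : IsGroupLikeElem (∀ i, Tc i) u := by
  apply isGroupLikeElem_of_span (R := ∀ i, Tc i) (A := (∀ i, Tc i) ⊗[K] X)
    (Set.range fun i : ι => (Pi.single i 1 : ∀ i, Tc i))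
  · rw [Ideal.eq_top_iff_one, ← Finset.univ_sum_single (1 : ∀ i, Tc i)]
    exact Ideal.sum_mem _ (fun i _ => Ideal.subset_span ⟨i, rfl⟩)
  · rintro _ ⟨i, rfl⟩
    have he1 : algebraMap (∀ i, Tc i) (Localization.Away (Pi.single i 1 : ∀ i, Tc i))
        (Pi.single i 1) = 1 := by
      have hu : IsUnit (algebraMap (∀ i, Tc i) (Localization.Away (Pi.single i 1 : ∀ i, Tc i))
          (Pi.single i 1)) := IsLocalization.Away.algebraMap_isUnit _
      have hid : algebraMap (∀ i, Tc i) (Localization.Away (Pi.single i 1 : ∀ i, Tc i))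
          (Pi.single i 1) * algebraMap (∀ i, Tc i)
          (Localization.Away (Pi.single i 1 : ∀ i, Tc i)) (Pi.single i 1) =
          algebraMap (∀ i, Tc i) (Localization.Away (Pi.single i 1 : ∀ i, Tc i))
            (Pi.single i 1) * 1 := by
        rw [← map_mul, ← Pi.single_mul, mul_one, mul_one]
      exact (IsUnit.mul_right_inj hu).mp hid
    have hsm : ∀ p : ∀ i, Tc i, algebraMap (∀ i, Tc i)
        (Localization.Away (Pi.single i 1 : ∀ i, Tc i)) (Pi.single i (p i)) =
        algebraMap (∀ i, Tc i) (Localization.Away (Pi.single i 1 : ∀ i, Tc i)) p := by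
      intro p
      have h1 : (Pi.single i (p i) : ∀ i, Tc i) = Pi.single i 1 * p := by
        rw [← single_mul_eq, one_mul]
      rw [h1, map_mul, he1, one_mul]
    let ψ : Tc i →ₐ[K] Localization.Away (Pi.single i 1 : ∀ i, Tc i) :=
      { toFun := fun t => algebraMap (∀ i, Tc i) _ (Pi.single i t)
        map_one' := he1
        map_mul' := fun t t' => by rw [Pi.single_mul, map_mul]
        map_zero' := by rw [Pi.single_zero, map_zero]
        map_add' := fun t t' => by rw [Pi.single_add, map_add]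
        commutes' := fun r => by
          have h1 := hsm (algebraMap K (∀ i, Tc i) r)
          rw [← IsScalarTower.algebraMap_apply K (∀ i, Tc i)] at h1
          exact h1 }
    have hcomp : ψ.comp (Pi.evalAlgHom K Tc i) =
        IsScalarTower.toAlgHom K (∀ i, Tc i) (Localization.Away (Pi.single i 1 : ∀ i, Tc i)) := by
      apply AlgHom.ext
      intro p
      exact hsm p
    have h2 := isGroupLikeElem_map (A := X) ψ (h i)
    rw [ev, Hmap_Hmap, hcomp] at h2
    rw [← cancelBC_one_tmul (IsScalarTower.toAlgHom K (∀ i, Tc i)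
      (Localization.Away (Pi.single i 1 : ∀ i, Tc i))) (fun _ => rfl) u] at h2
    exact (isGroupLikeElem_map_equiv (BCB.cancelBC K (∀ i, Tc i)
      (Localization.Away (Pi.single i 1 : ∀ i, Tc i)) X)).mp h2

end Basic

section Main

variable {K : Type u} [CommRing K] {ι : Type u} [Fintype ι] [DecidableEq ι]
  (Tc : ι → Type u) [∀ i, CommRing (Tc i)] [∀ i, Algebra K (Tc i)]
  (X : Type u) [CommRing X] [HopfAlgebra K X] {N : Type u} [CommGroup N]
  (ϑ : ∀ i, Tc i ⊗[K] X ≃ₐc[Tc i] MonoidAlgebra (Tc i) N)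

/-- The group-like element with components `(ϑ i)⁻¹ (single n 1)`. -/
noncomputable def uElem (n : N) : (∀ i, Tc i) ⊗[K] X :=
  ∑ i, inn Tc X i ((ϑ i).symm (MonoidAlgebra.single n 1))

theorem ev_uElem (j : ι) (n : N) :
    ev Tc X j (uElem Tc X ϑ n) = (ϑ j).symm (MonoidAlgebra.single n 1) := by
  rw [uElem, map_sum, Finset.sum_eq_single j]
  · exact ev_inn_self Tc X j _
  · intro i _ hij
    exact ev_inn_of_ne Tc X hij.symm _
  · intro h
    exact absurd (Finset.mem_univ j) h

theorem isGroupLikeElem_uElem (n : N) : IsGroupLikeElem (∀ i, Tc i) (uElem Tc X ϑ n) :=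
  isGroupLikeElem_of_ev Tc X (fun i => by
    rw [ev_uElem]
    exact (MonoidAlgebra.isGroupLikeElem_single_one n).map (ϑ i).symm)

/-- `n ↦ uElem n` as a monoid map to the group-likes. -/
noncomputable def uP : N →* GroupLike (∀ i, Tc i) ((∀ i, Tc i) ⊗[K] X) where
  toFun n := ⟨uElem Tc X ϑ n, isGroupLikeElem_uElem Tc X ϑ n⟩
  map_one' := by
    apply GroupLike.val_injective
    apply ext_of_ev Tc X
    intro i
    change ev Tc X i (uElem Tc X ϑ 1) = ev Tc X i 1
    rw [ev_uElem, ← MonoidAlgebra.one_def, map_one, map_one]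
  map_mul' n n' := by
    apply GroupLike.val_injective
    apply ext_of_ev Tc X
    intro i
    change ev Tc X i (uElem Tc X ϑ (n * n')) = ev Tc X i (uElem Tc X ϑ n * uElem Tc X ϑ n')
    rw [map_mul, ev_uElem, ev_uElem, ev_uElem, ← map_mul, MonoidAlgebra.single_mul_single, mul_one]

/-- The splitting map from the group algebra. -/
noncomputable def PsiP : MonoidAlgebra (∀ i, Tc i) N →ₐc[∀ i, Tc i] (∀ i, Tc i) ⊗[K] X :=
  (MonoidAlgebra.liftGroupLikeBialgHom (R := ∀ i, Tc i) (A := (∀ i, Tc i) ⊗[K] X)).comp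
    (MonoidAlgebra.mapDomainBialgHom (∀ i, Tc i) (uP Tc X ϑ))

theorem PsiP_single (n : N) (c : ∀ i, Tc i) :
    PsiP Tc X ϑ (MonoidAlgebra.single n c) = c • uElem Tc X ϑ n := by
  rw [PsiP, BialgHom.comp_apply, MonoidAlgebra.mapDomainBialgHom_single,
    MonoidAlgebra.liftGroupLikeBialgHom_apply, MonoidAlgebra.lift_single]
  rfl

theorem ev_PsiP (i : ι) (v : MonoidAlgebra (∀ i, Tc i) N) :
    ev Tc X i (PsiP Tc X ϑ v) =
      (ϑ i).symm (MonoidAlgebra.mapRingHom N (Pi.evalRingHom Tc i) v) := by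
  induction v using MonoidAlgebra.induction_linear with
  | zero => simp
  | add a b ha hb => rw [map_add, map_add, ha, hb, map_add, map_add]
  | single n c =>
    rw [PsiP_single, ev_smul, ev_uElem, MonoidAlgebra.mapRingHom_single, ← map_smul,
      MonoidAlgebra.smul_single', mul_one]
    rfl

theorem PsiP_injective : Function.Injective (PsiP Tc X ϑ) := by
  rw [injective_iff_map_eq_zero]
  intro v hv
  have h1 : ∀ i, MonoidAlgebra.mapRingHom N (Pi.evalRingHom Tc i) v = 0 := by
    intro i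
    have h2 := ev_PsiP Tc X ϑ i v
    rw [hv, map_zero] at h2
    have h4 : ϑ i ((ϑ i).symm (MonoidAlgebra.mapRingHom N (Pi.evalRingHom Tc i) v)) = 0 := by
      rw [← h2, map_zero]
    rwa [BialgEquiv.apply_symm_apply] at h4
  apply MonoidAlgebra.coeff_injective
  ext n i
  have h3 : (MonoidAlgebra.mapRingHom N (Pi.evalRingHom Tc i) v).coeff n = 0 := by
    rw [h1 i]
    simp
  rw [MonoidAlgebra.coeff_mapRingHom] at h3
  simpa using h3

theorem exists_PsiP_eq_inn (i : ι) (v' : MonoidAlgebra (Tc i) N) :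
    ∃ v, PsiP Tc X ϑ v = inn Tc X i ((ϑ i).symm v') := by
  induction v' using MonoidAlgebra.induction_linear with
  | zero => exact ⟨0, by simp⟩
  | add a b ha hb =>
    obtain ⟨va, hva⟩ := ha
    obtain ⟨vb, hvb⟩ := hb
    exact ⟨va + vb, by rw [map_add, hva, hvb, map_add, map_add]⟩
  | single n c =>
    refine ⟨MonoidAlgebra.single n (Pi.single i c), ?_⟩
    rw [PsiP_single, ← inn_smul_ev, ev_uElem, ← map_smul, MonoidAlgebra.smul_single', mul_one]

theorem PsiP_surjective : Function.Surjective (PsiP Tc X ϑ) := by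
  intro z
  have h : ∀ i, ∃ v, PsiP Tc X ϑ v = inn Tc X i (ev Tc X i z) := by
    intro i
    obtain ⟨v, hv⟩ := exists_PsiP_eq_inn Tc X ϑ i (ϑ i (ev Tc X i z))
    exact ⟨v, by rw [hv, BialgEquiv.symm_apply_apply]⟩
  choose v hv using h
  refine ⟨∑ i, v i, ?_⟩
  rw [map_sum]
  simp only [hv]
  exact sum_inn_ev Tc X z

/-- The splitting over the product ring. -/
noncomputable def thetaP : (∀ i, Tc i) ⊗[K] X ≃ₐc[∀ i, Tc i] MonoidAlgebra (∀ i, Tc i) N :=
  (BialgEquiv.ofBijective (PsiP Tc X ϑ) ⟨PsiP_injective Tc X ϑ, PsiP_surjective Tc X ϑ⟩).symm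

theorem PsiP_thetaP (z : (∀ i, Tc i) ⊗[K] X) : PsiP Tc X ϑ (thetaP Tc X ϑ z) = z :=
  (BialgEquiv.ofBijective (PsiP Tc X ϑ)
    ⟨PsiP_injective Tc X ϑ, PsiP_surjective Tc X ϑ⟩).apply_symm_apply z

theorem mapRingHom_thetaP (i : ι) (z : (∀ i, Tc i) ⊗[K] X) :
    MonoidAlgebra.mapRingHom N (Pi.evalRingHom Tc i) (thetaP Tc X ϑ z) = ϑ i (ev Tc X i z) := by
  have h := ev_PsiP Tc X ϑ i (thetaP Tc X ϑ z)
  rw [PsiP_thetaP] at h
  rw [h, BialgEquiv.apply_symm_apply]

end Main

end Groth.Agent.Lib.R2H7.ProdRing
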