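import Mathlib
import Groth.Agent.Lib.R2H7TwK
import Groth.Agent.Lib.Helper25SubDiag

/-!
# R2H7Swindle: absorbing the type of a split form

* `Big M = ℕ → ∀ i, M i` and `kap i : M i × Big M ≃* Big M` (Eilenberg swindle).
* `inclL`, `inclR`, `projL`: the canonical bialgebra maps for a tensor product of bialgebras.
* `swEquiv ϑ κ`: from a splitting `ϑ : T ⊗[K] X ≃ₐc[T] T[M]` and `κ : M × N ≃* N`, a splitting
  `T ⊗[K] (X ⊗[K] K[N]) ≃ₐc[T] T[N]` sending `1 ⊗ (1 ⊗ single n 1)` to `single (κ (1, n)) 1`.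
-/

set_option autoImplicit false
universe u

namespace Groth.Agent.Lib.R2H7.Swindle

open TensorProduct Coalgebra
open Groth.Agent.Lib.R2H7.HopfDesc Groth.Agent.Lib.R2H7.TwK Groth.Agent.Lib.Helper25

section Shift

variable {ι : Type u} [DecidableEq ι] (M : ι → Type u) [∀ i, CommGroup (M i)]

/-- The absorbing group. -/
abbrev Big : Type u := ℕ → ∀ i, M i

variable {M}

/-- Insert `m` at position `0` of the `i`-th coordinate and shift the `i`-th coordinate. -/
def kapFun (i : ι) (p : M i × Big M) : ℕ → ∀ j, M j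
  | 0 => Function.update (p.2 0) i p.1
  | (l + 1) => Function.update (p.2 (l + 1)) i (p.2 l i)

/-- The inverse of `kapFun`. -/
def kapInv (i : ι) (n : Big M) : M i × Big M :=
  (n 0 i, fun l => Function.update (n l) i (n (l + 1) i))

theorem kapInv_kapFun (i : ι) (p : M i × Big M) : kapInv i (kapFun i p) = p := by
  obtain ⟨m, n⟩ := p
  refine Prod.ext ?_ ?_
  · simp [kapInv, kapFun]
  · funext l
    cases l with
    | zero => simp [kapInv, kapFun]
    | succ l => simp [kapInv, kapFun]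

theorem kapFun_kapInv (i : ι) (n : Big M) : kapFun i (kapInv i n) = n := by
  funext l
  cases l with
  | zero => simp [kapInv, kapFun]
  | succ l => simp [kapInv, kapFun]

theorem kapFun_mul (i : ι) (p q : M i × Big M) :
    kapFun i (p * q) = kapFun i p * kapFun i q := by
  funext l
  cases l with
  | zero =>
    funext j
    by_cases h : j = i
    · subst h
      simp [kapFun]
    · simp [kapFun, Function.update_of_ne h]
  | succ l =>
    funext j
    by_cases h : j = i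
    · subst h
      simp [kapFun]
    · simp [kapFun, Function.update_of_ne h]

/-- The swindle isomorphism. -/
def kap (i : ι) : M i × Big M ≃* Big M where
  toFun := kapFun i
  invFun := kapInv i
  left_inv := kapInv_kapFun i
  right_inv := kapFun_kapInv i
  map_mul' := kapFun_mul i

end Shift

section Incl

variable {K : Type u} [CommRing K] {X Y : Type u} [CommRing X] [CommRing Y]
  [Bialgebra K X] [Bialgebra K Y]

variable (K X Y) in
/-- `x ↦ x ⊗ 1` as a bialgebra map. -/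
noncomputable def inclL : X →ₐc[K] X ⊗[K] Y :=
  (Bialgebra.TensorProduct.map (BialgHom.id K X) (Bialgebra.unitBialgHom K Y)).comp
    (Bialgebra.TensorProduct.rid K K X).symm.toBialgHom

theorem inclL_apply (x : X) : inclL K X Y x = x ⊗ₜ[K] (1 : Y) := by
  change Bialgebra.TensorProduct.map (BialgHom.id K X) (Bialgebra.unitBialgHom K Y)
    ((Bialgebra.TensorProduct.rid K K X).symm x) = _
  rw [Bialgebra.TensorProduct.rid_symm_apply, Bialgebra.TensorProduct.map_tmul]
  change x ⊗ₜ[K] (algebraMap K Y 1) = _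
  rw [map_one]

variable (K X Y) in
/-- `y ↦ 1 ⊗ y` as a bialgebra map. -/
noncomputable def inclR : Y →ₐc[K] X ⊗[K] Y :=
  (Bialgebra.TensorProduct.map (Bialgebra.unitBialgHom K X) (BialgHom.id K Y)).comp
    (Bialgebra.TensorProduct.lid K Y).symm.toBialgHom

theorem inclR_apply (y : Y) : inclR K X Y y = (1 : X) ⊗ₜ[K] y := by
  change Bialgebra.TensorProduct.map (Bialgebra.unitBialgHom K X) (BialgHom.id K Y)
    ((Bialgebra.TensorProduct.lid K Y).symm y) = _
  rw [Bialgebra.TensorProduct.lid_symm_apply, Bialgebra.TensorProduct.map_tmul]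
  change (algebraMap K X 1) ⊗ₜ[K] y = _
  rw [map_one]

variable (K X Y) in
/-- `x ⊗ y ↦ ε(y) x` as a bialgebra map. -/
noncomputable def projL : X ⊗[K] Y →ₐc[K] X :=
  (Bialgebra.TensorProduct.rid K K X).toBialgHom.comp
    (Bialgebra.TensorProduct.map (BialgHom.id K X) (Bialgebra.counitBialgHom K Y))

theorem projL_tmul (x : X) (y : Y) : projL K X Y (x ⊗ₜ[K] y) = counit (R := K) y • x := by
  change Bialgebra.TensorProduct.rid K K X
    (Bialgebra.TensorProduct.map (BialgHom.id K X) (Bialgebra.counitBialgHom K Y) (x ⊗ₜ[K] y)) = _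
  rw [Bialgebra.TensorProduct.map_tmul, Bialgebra.TensorProduct.rid_tmul]
  rfl

end Incl

section Ten

/-- A Hopf algebra `Y` presented as `X ⊗[K] K[N]`, with its structure maps. -/
structure TenData (K : Type u) (X : Type u) (N : Type u) (Y : Type u) [CommRing K] [CommRing X]
    [HopfAlgebra K X] [CommGroup N] [CommRing Y] [HopfAlgebra K Y] where
  /-- `x ↦ x ⊗ 1` -/
  iL : X →ₐc[K] Y
  /-- `w ↦ 1 ⊗ w` -/
  iR : MonoidAlgebra K N →ₐc[K] Y
  /-- `x ⊗ w ↦ ε(w) x` -/
  pL : Y →ₐc[K] X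
  /-- the presentation -/
  eY : X ⊗[K] MonoidAlgebra K N ≃ₐ[K] Y
  eY_tmul : ∀ (x : X) (w : MonoidAlgebra K N), eY (x ⊗ₜ[K] w) = iL x * iR w
  pL_iL : ∀ x : X, pL (iL x) = x
  pL_iR : ∀ n : N, pL (iR (MonoidAlgebra.single n 1)) = 1

variable (K : Type u) [CommRing K] (X : Type u) [CommRing X] [HopfAlgebra K X]
  (N : Type u) [CommGroup N]

/-- The tautological presentation. -/
noncomputable def tenData : TenData K X N (X ⊗[K] MonoidAlgebra K N) where
  iL := inclL K X (MonoidAlgebra K N)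
  iR := inclR K X (MonoidAlgebra K N)
  pL := projL K X (MonoidAlgebra K N)
  eY := AlgEquiv.refl
  eY_tmul x w := by
    rw [inclL_apply, inclR_apply, Algebra.TensorProduct.tmul_mul_tmul, mul_one, one_mul]
    rfl
  pL_iL x := by
    rw [inclL_apply, projL_tmul, Bialgebra.counit_one, one_smul]
  pL_iR n := by
    rw [inclR_apply, projL_tmul, MonoidAlgebra.counit_single]
    simp

end Ten

section Sw

variable {K : Type u} [CommRing K] {T : Type u} [CommRing T] [Algebra K T]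
  {X : Type u} [CommRing X] [HopfAlgebra K X] {M N : Type u} [CommGroup M] [CommGroup N]
  {Y : Type u} [CommRing Y] [HopfAlgebra K Y] (D : TenData K X N Y)
  (ϑ : T ⊗[K] X ≃ₐc[T] MonoidAlgebra T M) (κ : M × N ≃* N)

/-- `T ⊗ iL`. -/
noncomputable def aT : T ⊗[K] X →ₐc[T] T ⊗[K] Y :=
  Bialgebra.TensorProduct.map (BialgHom.id T T) D.iL

theorem aT_tmul (t : T) (x : X) : aT (T := T) D (t ⊗ₜ[K] x) = t ⊗ₜ[K] D.iL x := rfl

/-- The group-likes coming from `M`. -/
noncomputable def u₁ : M →* GroupLike T (T ⊗[K] Y) where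
  toFun m := ⟨aT D (ϑ.symm (MonoidAlgebra.single m 1)),
    ((MonoidAlgebra.isGroupLikeElem_single_one m).map ϑ.symm).map (aT D)⟩
  map_one' := by
    apply GroupLike.val_injective
    change aT D (ϑ.symm (MonoidAlgebra.single (1 : M) (1 : T))) = 1
    rw [← MonoidAlgebra.one_def, map_one, map_one]
  map_mul' m m' := by
    apply GroupLike.val_injective
    change aT D (ϑ.symm (MonoidAlgebra.single (m * m') (1 : T))) =
      aT D (ϑ.symm (MonoidAlgebra.single m 1)) * aT D (ϑ.symm (MonoidAlgebra.single m' 1))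
    rw [← map_mul, ← map_mul, MonoidAlgebra.single_mul_single, mul_one]

/-- The group-likes coming from `N`. -/
noncomputable def u₂ : N →* GroupLike T (T ⊗[K] Y) where
  toFun n := ⟨(1 : T) ⊗ₜ[K] D.iR (MonoidAlgebra.single n (1 : K)),
    SubDiag.isGroupLikeElem_one_tmul
      ((MonoidAlgebra.isGroupLikeElem_single_one (R := K) (A := K) n).map D.iR)⟩
  map_one' := by
    apply GroupLike.val_injective
    change (1 : T) ⊗ₜ[K] D.iR (MonoidAlgebra.single (1 : N) (1 : K)) = 1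
    rw [← MonoidAlgebra.one_def, map_one]
    rfl
  map_mul' n n' := by
    apply GroupLike.val_injective
    change (1 : T) ⊗ₜ[K] D.iR (MonoidAlgebra.single (n * n') (1 : K)) =
      ((1 : T) ⊗ₜ[K] D.iR (MonoidAlgebra.single n (1 : K))) *
      ((1 : T) ⊗ₜ[K] D.iR (MonoidAlgebra.single n' (1 : K)))
    rw [Algebra.TensorProduct.tmul_mul_tmul, one_mul, ← map_mul, MonoidAlgebra.single_mul_single,
      mul_one]

/-- The group-likes indexed by `N` through `κ`. -/
noncomputable def vv : N →* GroupLike T (T ⊗[K] Y) :=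
  ((u₁ D ϑ).coprod (u₂ (T := T) D)).comp κ.symm.toMonoidHom

theorem vv_kap (m : M) (n : N) :
    ((vv D ϑ κ (κ (m, n)) : GroupLike T (T ⊗[K] Y)) : T ⊗[K] Y) =
      aT D (ϑ.symm (MonoidAlgebra.single m 1)) *
        ((1 : T) ⊗ₜ[K] D.iR (MonoidAlgebra.single n (1 : K))) := by
  change (((u₁ D ϑ).coprod (u₂ (T := T) D)) (κ.symm (κ (m, n)))).val = _
  rw [MulEquiv.symm_apply_apply, MonoidHom.coprod_apply, GroupLike.val_mul]
  rfl

/-- The splitting map, from the group algebra. -/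
noncomputable def Psi : MonoidAlgebra T N →ₐc[T] T ⊗[K] Y :=
  (MonoidAlgebra.liftGroupLikeBialgHom (R := T) (A := T ⊗[K] Y)).comp
    (MonoidAlgebra.mapDomainBialgHom T (vv D ϑ κ))

theorem Psi_single (n : N) (c : T) :
    Psi D ϑ κ (MonoidAlgebra.single n c) =
      c • ((vv D ϑ κ n : GroupLike T (T ⊗[K] Y)) : T ⊗[K] Y) := by
  rw [Psi, BialgHom.comp_apply, MonoidAlgebra.mapDomainBialgHom_single,
    MonoidAlgebra.liftGroupLikeBialgHom_apply, MonoidAlgebra.lift_single]
  rfl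

/-- `M → N`, `m ↦ κ (m, 1)`. -/
def lam : M →* N := κ.toMonoidHom.comp (MonoidHom.inl M N)

/-- `N → N`, `n ↦ κ (1, n)`. -/
def muu : N →* N := κ.toMonoidHom.comp (MonoidHom.inr M N)

theorem lam_apply (m : M) : lam κ m = κ (m, 1) := rfl

theorem muu_apply (n : N) : muu κ n = κ (1, n) := rfl

/-- The `X`-part of the inverse. -/
noncomputable def jX : X →ₐ[K] MonoidAlgebra T N :=
  (MonoidAlgebra.mapDomainAlgHom K T (lam κ)).comp (iota ϑ)

theorem jX_apply (x : X) :
    jX ϑ κ x = MonoidAlgebra.mapDomainAlgHom K T (lam κ) (ϑ ((1 : T) ⊗ₜ[K] x)) := rfl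

/-- The `K[N]`-part of the inverse. -/
noncomputable def jN : MonoidAlgebra K N →ₐ[K] MonoidAlgebra T N :=
  MonoidAlgebra.lift K (MonoidAlgebra T N) N ((MonoidAlgebra.of T N).comp (muu κ))

theorem jN_single (n : N) :
    jN (T := T) κ (MonoidAlgebra.single n (1 : K) : MonoidAlgebra K N) =
      (MonoidAlgebra.single (κ ((1 : M), n)) (1 : T) : MonoidAlgebra T N) := by
  rw [jN, MonoidAlgebra.lift_single, one_smul]
  rfl

theorem algHom_ext_self {R₀ : Type u} [CommRing R₀] {G : Type u} [Monoid G] {C : Type u}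
    [Semiring C] [Algebra R₀ C] (f g : MonoidAlgebra R₀ G →ₐ[R₀] C)
    (h : ∀ n, f (MonoidAlgebra.single n 1) = g (MonoidAlgebra.single n 1)) : f = g := by
  apply MonoidAlgebra.algHom_ext h
  have ht : ∀ (φ : R₀ →ₐ[R₀] C) (t : R₀), φ t = algebraMap R₀ C t := fun φ t => by
    have h1 := φ.commutes t
    simpa using h1
  apply AlgHom.ext
  intro t
  rw [ht, ht]

/-- The inverse on `Y`. -/
noncomputable def jY : Y →ₐ[K] MonoidAlgebra T N :=
  (Algebra.TensorProduct.lift (jX ϑ κ) (jN κ) (fun _ _ => Commute.all _ _)).comp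
    D.eY.symm.toAlgHom

theorem jY_mul (x : X) (w : MonoidAlgebra K N) :
    jY D ϑ κ (D.iL x * D.iR w) = jX ϑ κ x * jN κ w := by
  rw [← D.eY_tmul]
  change Algebra.TensorProduct.lift (jX ϑ κ) (jN κ) (fun _ _ => Commute.all _ _)
    (D.eY.symm (D.eY (x ⊗ₜ[K] w))) = _
  rw [AlgEquiv.symm_apply_apply, Algebra.TensorProduct.lift_tmul]

theorem jY_iL (x : X) : jY D ϑ κ (D.iL x) = jX ϑ κ x := by
  have h := jY_mul D ϑ κ x 1
  rwa [map_one, mul_one, map_one, mul_one] at h

theorem jY_iR (w : MonoidAlgebra K N) : jY D ϑ κ (D.iR w) = jN κ w := by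
  have h := jY_mul D ϑ κ 1 w
  rwa [map_one, one_mul, map_one, one_mul] at h

/-- The inverse of `Psi`. -/
noncomputable def Xi : T ⊗[K] Y →ₐ[T] MonoidAlgebra T N :=
  theta (R' := T) (jY D ϑ κ)

theorem Xi_tmul (t : T) (y : Y) : Xi D ϑ κ (t ⊗ₜ[K] y) = t • jY D ϑ κ y := theta_tmul _ t y

theorem Xi_aT (z : T ⊗[K] X) :
    Xi D ϑ κ (aT D z) = MonoidAlgebra.mapDomainAlgHom T T (lam κ) (ϑ z) := by
  induction z using TensorProduct.induction_on with
  | zero => simp
  | tmul t x =>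
    have h1 : ϑ (t ⊗ₜ[K] x) = t • ϑ ((1 : T) ⊗ₜ[K] x) := by
      rw [← map_smul, TensorProduct.smul_tmul', smul_eq_mul, mul_one]
    rw [aT_tmul, Xi_tmul, jY_iL, jX_apply, h1, map_smul, MonoidAlgebra.mapDomainAlgHom_apply,
      MonoidAlgebra.mapDomainAlgHom_apply]
  | add a b ha hb => rw [map_add, map_add, ha, hb, map_add, map_add]

theorem Xi_u₂ (n : N) :
    Xi D ϑ κ ((1 : T) ⊗ₜ[K] D.iR (MonoidAlgebra.single n (1 : K))) =
      MonoidAlgebra.single (κ (1, n)) 1 := by
  rw [Xi_tmul, one_smul, jY_iR, jN_single]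

theorem Xi_Psi (v : MonoidAlgebra T N) : Xi D ϑ κ (Psi D ϑ κ v) = v := by
  have h : (Xi D ϑ κ).comp ((Psi D ϑ κ : MonoidAlgebra T N →ₐc[T] _) :
      MonoidAlgebra T N →ₐ[T] T ⊗[K] Y) = AlgHom.id T _ := by
    apply algHom_ext_self
    intro n
    obtain ⟨⟨m, n'⟩, rfl⟩ := κ.surjective n
    change Xi D ϑ κ (Psi D ϑ κ (MonoidAlgebra.single (κ (m, n')) 1)) =
      MonoidAlgebra.single (κ (m, n')) 1
    rw [Psi_single, one_smul, vv_kap, map_mul, Xi_aT, Xi_u₂, BialgEquiv.apply_symm_apply,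
      MonoidAlgebra.mapDomainAlgHom_apply, MonoidAlgebra.mapDomain_single,
      MonoidAlgebra.single_mul_single, mul_one, lam_apply, ← map_mul, Prod.mk_mul_mk, mul_one,
      one_mul]
  exact AlgHom.congr_fun h v

theorem Psi_mapDomain (w : MonoidAlgebra T M) :
    Psi D ϑ κ (MonoidAlgebra.mapDomainAlgHom T T (lam κ) w) = aT D (ϑ.symm w) := by
  induction w using MonoidAlgebra.induction_linear with
  | zero => simp
  | add a b ha hb => rw [map_add, map_add, ha, hb, map_add, map_add]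
  | single m c =>
    rw [MonoidAlgebra.mapDomainAlgHom_apply, MonoidAlgebra.mapDomain_single, Psi_single, lam_apply,
      vv_kap, ← MonoidAlgebra.one_def, map_one, ← Algebra.TensorProduct.one_def, mul_one,
      Groth.Agent.Lib.R2H7.TwForm.single_eq_smul m c, map_smul, map_smul]

theorem Psi_Xi (z : T ⊗[K] Y) : Psi D ϑ κ (Xi D ϑ κ z) = z := by
  have hY : ∀ y : Y, Psi D ϑ κ (Xi D ϑ κ ((1 : T) ⊗ₜ[K] y)) = (1 : T) ⊗ₜ[K] y := by
    have h : ((((Psi D ϑ κ : MonoidAlgebra T N →ₐc[T] _) :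
        MonoidAlgebra T N →ₐ[T] T ⊗[K] Y).restrictScalars K).comp
        (((Xi D ϑ κ).restrictScalars K).comp (Algebra.TensorProduct.includeRight :
          Y →ₐ[K] T ⊗[K] Y))).comp D.eY.toAlgHom =
        (Algebra.TensorProduct.includeRight : Y →ₐ[K] T ⊗[K] Y).comp D.eY.toAlgHom := by
      apply Algebra.TensorProduct.ext
      · apply AlgHom.ext
        intro x
        change Psi D ϑ κ (Xi D ϑ κ ((1 : T) ⊗ₜ[K] D.eY (x ⊗ₜ[K] (1 : MonoidAlgebra K N)))) =
          (1 : T) ⊗ₜ[K] D.eY (x ⊗ₜ[K] (1 : MonoidAlgebra K N))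
        rw [D.eY_tmul, map_one, mul_one, ← aT_tmul, Xi_aT, Psi_mapDomain,
          BialgEquiv.symm_apply_apply]
      · apply algHom_ext_self
        intro n
        change Psi D ϑ κ (Xi D ϑ κ ((1 : T) ⊗ₜ[K] D.eY ((1 : X) ⊗ₜ[K]
          (MonoidAlgebra.single n (1 : K) : MonoidAlgebra K N)))) =
          (1 : T) ⊗ₜ[K] D.eY ((1 : X) ⊗ₜ[K] (MonoidAlgebra.single n (1 : K) : MonoidAlgebra K N))
        rw [D.eY_tmul, map_one, one_mul, Xi_u₂, Psi_single, one_smul, vv_kap,
          ← MonoidAlgebra.one_def, map_one, map_one, one_mul]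
    intro y
    have h2 := AlgHom.congr_fun h (D.eY.symm y)
    change Psi D ϑ κ (Xi D ϑ κ ((1 : T) ⊗ₜ[K] D.eY (D.eY.symm y))) =
      (1 : T) ⊗ₜ[K] D.eY (D.eY.symm y) at h2
    rwa [AlgEquiv.apply_symm_apply] at h2
  induction z using TensorProduct.induction_on with
  | zero => simp
  | tmul t y =>
    have h1 : t ⊗ₜ[K] y = t • ((1 : T) ⊗ₜ[K] y) := by
      rw [TensorProduct.smul_tmul', smul_eq_mul, mul_one]
    rw [h1, map_smul, map_smul, hY]
  | add a b ha hb => rw [map_add, map_add, ha, hb]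

theorem Psi_bijective : Function.Bijective (Psi D ϑ κ) :=
  Function.bijective_iff_has_inverse.mpr
    ⟨Xi D ϑ κ, fun v => Xi_Psi D ϑ κ v, fun z => Psi_Xi D ϑ κ z⟩

/-- The swindled splitting. -/
noncomputable def swEquiv : T ⊗[K] Y ≃ₐc[T] MonoidAlgebra T N :=
  (BialgEquiv.ofBijective (Psi D ϑ κ) (Psi_bijective D ϑ κ)).symm

theorem swEquiv_apply (z : T ⊗[K] Y) : swEquiv D ϑ κ z = Xi D ϑ κ z := by
  have h : swEquiv D ϑ κ (Psi D ϑ κ (Xi D ϑ κ z)) = Xi D ϑ κ z :=
    (BialgEquiv.ofBijective (Psi D ϑ κ) (Psi_bijective D ϑ κ)).symm_apply_apply (Xi D ϑ κ z)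
  rwa [Psi_Xi] at h

theorem swEquiv_one_tmul_iR (n : N) :
    swEquiv D ϑ κ ((1 : T) ⊗ₜ[K] D.iR (MonoidAlgebra.single n (1 : K))) =
      MonoidAlgebra.single (κ (1, n)) 1 := by
  rw [swEquiv_apply, Xi_u₂]

end Sw

end Groth.Agent.Lib.R2H7.Swindle
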