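import Mathlib
import Groth.Agent.Lib.R2H7QuotGL
import Groth.Agent.Lib.R2H7Swindle

/-!
# R2H7QuotSplit: cutting a swindled form back down

Let `A'` be a Hopf algebra over `R` and `g n` (`n : N`) group-like elements of `A'`.
* `quot_comp`: if `T ⊗ A' ≃ T[N]` sends `1 ⊗ g n` to `single (κ (1, n)) 1` for `κ : M × N ≃* N`, then
  `T ⊗ (A' ⧸ (g n - 1)) ≃ T[M]`.
* `quot_red`: if `k ⊗ A' ≃ Y` with `Y` presented as `X ⊗ k[N]` sends `1 ⊗ g n` to `1 ⊗ single n 1`, then
  `k ⊗ (A' ⧸ (g n - 1)) ≃ X`.
-/

set_option autoImplicit false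
universe u

namespace Groth.Agent.Lib.R2H7.QuotSplit

open TensorProduct Coalgebra
open Groth.Agent.Lib.R2H7.QuotGL Groth.Agent.Lib.R2H7.Swindle

section Comp

variable {R : Type u} [CommRing R] {A' : Type u} [CommRing A'] [HopfAlgebra R A']
  {N : Type u} [CommGroup N] (g : N → A') [(glIdeal g).IsHopfIdeal R]
  {T : Type u} [CommRing T] [Algebra R T] {M : Type u} [CommGroup M] (κ : M × N ≃* N)
  (ΘT : T ⊗[R] A' ≃ₐc[T] MonoidAlgebra T N)
  (hΘg : ∀ n, ΘT ((1 : T) ⊗ₜ[R] g n) = MonoidAlgebra.single (κ (1, n)) 1)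

include hΘg in
theorem quot_comp : Nonempty (T ⊗[R] (A' ⧸ glIdeal g) ≃ₐc[T] MonoidAlgebra T M) := by
  let π : N →* M := (MonoidHom.fst M N).comp κ.symm.toMonoidHom
  have hπ2 : ∀ m n, π (κ (m, n)) = m := by
    intro m n
    change (κ.symm (κ (m, n))).1 = m
    rw [MulEquiv.symm_apply_apply]
  let p : T ⊗[R] A' →ₐc[T] MonoidAlgebra T M :=
    (MonoidAlgebra.mapDomainBialgHom T π).comp ΘT.toBialgHom
  have hpa : ∀ b, p b = MonoidAlgebra.mapDomainBialgHom T π (ΘT b) := fun b => rfl
  have hpg : ∀ n, p ((1 : T) ⊗ₜ[R] g n) = 1 := by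
    intro n
    rw [hpa, hΘg, MonoidAlgebra.mapDomainBialgHom_single, hπ2, ← MonoidAlgebra.one_def]
  have hp : ∀ a ∈ glIdeal g, p ((1 : T) ⊗ₜ[R] a) = 0 := by
    intro a ha
    have h := glIdeal_le g ((p0 R T p : A' →ₐ[R] MonoidAlgebra T M) : A' →+* MonoidAlgebra T M)
      hpg ha
    exact RingHom.mem_ker.mp h
  let s : MonoidAlgebra T M → T ⊗[R] A' :=
    fun w => ΘT.symm (MonoidAlgebra.mapDomainBialgHom T (lam κ) w)
  have hsa : ∀ w, s w = ΘT.symm (MonoidAlgebra.mapDomainBialgHom T (lam κ) w) := fun w => rfl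
  have hsymm : ∀ n, ΘT.symm (MonoidAlgebra.single (κ (1, n)) 1) = (1 : T) ⊗ₜ[R] g n := by
    intro n
    rw [← hΘg, BialgEquiv.symm_apply_apply]
  have hbij : Function.Bijective (pbar R (glIdeal g) T p hp) := by
    apply pbar_bijective R (glIdeal g) T p hp s
    · rw [hsa, map_zero, map_zero, map_zero]
    · intro c
      rw [hpa, hsa, BialgEquiv.apply_symm_apply, MonoidAlgebra.mapDomainBialgHom_mapDomainBialgHom]
      have h1 : π.comp (lam κ) = MonoidHom.id M := by
        ext m
        exact hπ2 m 1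
      rw [h1, MonoidAlgebra.mapDomainBialgHom_id]
      rfl
    · intro b
      have h2 : ∀ v : MonoidAlgebra T N,
          bcMk R (glIdeal g) T (ΘT.symm v) = bcMk R (glIdeal g) T (s (p (ΘT.symm v))) := by
        intro v
        induction v using MonoidAlgebra.induction_linear with
        | zero => simp only [map_zero, hsa]
        | add a b ha hb =>
          simp only [map_add, hsa] at ha hb ⊢
          rw [ha, hb]
        | single n c =>
          obtain ⟨⟨m, n₂⟩, rfl⟩ := κ.surjective n
          rw [hpa, BialgEquiv.apply_symm_apply, MonoidAlgebra.mapDomainBialgHom_single, hπ2, hsa,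
            MonoidAlgebra.mapDomainBialgHom_single]
          have h3 : (MonoidAlgebra.single (κ (m, n₂)) c : MonoidAlgebra T N) =
              MonoidAlgebra.single (lam κ m) c * MonoidAlgebra.single (κ (1, n₂)) 1 := by
            rw [MonoidAlgebra.single_mul_single, mul_one, lam_apply, ← map_mul, Prod.mk_mul_mk,
              mul_one, one_mul]
          rw [h3, map_mul, map_mul, hsymm, bcMk_tmul, mk_g, ← Algebra.TensorProduct.one_def, mul_one]
      have h4 := h2 (ΘT b)
      rwa [BialgEquiv.symm_apply_apply] at h4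
  exact ⟨BialgEquiv.ofBijective (pbar R (glIdeal g) T p hp) hbij⟩

end Comp

section Red

variable {R : Type u} [CommRing R] {A' : Type u} [CommRing A'] [HopfAlgebra R A']
  {N : Type u} [CommGroup N] (g : N → A') [(glIdeal g).IsHopfIdeal R]
  {k : Type u} [CommRing k] [Algebra R k]
  {X : Type u} [CommRing X] [HopfAlgebra k X] [Algebra R X] [IsScalarTower R k X]
  {Y : Type u} [CommRing Y] [HopfAlgebra k Y] (D : TenData k X N Y)
  (e' : k ⊗[R] A' ≃ₐc[k] Y)
  (hge : ∀ n, e' ((1 : k) ⊗ₜ[R] g n) = D.iR (MonoidAlgebra.single n 1))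

include hge in
theorem quot_red : Nonempty (k ⊗[R] (A' ⧸ glIdeal g) ≃ₐc[k] X) := by
  let p : k ⊗[R] A' →ₐc[k] X := D.pL.comp e'.toBialgHom
  have hpa : ∀ b, p b = D.pL (e' b) := fun b => rfl
  have hpg : ∀ n, p ((1 : k) ⊗ₜ[R] g n) = 1 := by
    intro n
    rw [hpa, hge, D.pL_iR]
  have hp : ∀ a ∈ glIdeal g, p ((1 : k) ⊗ₜ[R] a) = 0 := by
    intro a ha
    have h := glIdeal_le g ((p0 R k p : A' →ₐ[R] X) : A' →+* X) hpg ha
    exact RingHom.mem_ker.mp h
  let s : X → k ⊗[R] A' := fun x => e'.symm (D.iL x)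
  have hsa : ∀ x, s x = e'.symm (D.iL x) := fun x => rfl
  have hsymm : ∀ n, e'.symm (D.iR (MonoidAlgebra.single n 1)) = (1 : k) ⊗ₜ[R] g n := by
    intro n
    rw [← hge, BialgEquiv.symm_apply_apply]
  have hbij : Function.Bijective (pbar R (glIdeal g) k p hp) := by
    apply pbar_bijective R (glIdeal g) k p hp s
    · rw [hsa, map_zero, map_zero, map_zero]
    · intro c
      rw [hpa, hsa, BialgEquiv.apply_symm_apply, D.pL_iL]
    · intro b
      have h2 : ∀ z : X ⊗[k] MonoidAlgebra k N,
          bcMk R (glIdeal g) k (e'.symm (D.eY z)) =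
            bcMk R (glIdeal g) k (s (p (e'.symm (D.eY z)))) := by
        intro z
        induction z using TensorProduct.induction_on with
        | zero => simp only [map_zero, hsa]
        | add a b ha hb =>
          simp only [map_add, hsa] at ha hb ⊢
          rw [ha, hb]
        | tmul x w =>
          induction w using MonoidAlgebra.induction_linear with
          | zero => simp only [TensorProduct.tmul_zero, map_zero, hsa]
          | add a b ha hb =>
            simp only [TensorProduct.tmul_add, map_add, hsa] at ha hb ⊢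
            rw [ha, hb]
          | single n c =>
            rw [hpa, BialgEquiv.apply_symm_apply, D.eY_tmul,
              Groth.Agent.Lib.R2H7.TwForm.single_eq_smul n c, map_smul, mul_smul_comm, map_smul,
              map_smul, map_mul, map_mul, hsymm, bcMk_tmul, mk_g, ← Algebra.TensorProduct.one_def,
              mul_one, map_smul, map_mul, D.pL_iL, D.pL_iR, mul_one, hsa, map_smul, map_smul,
              map_smul]
      obtain ⟨z, hz⟩ := D.eY.surjective (e' b)
      have h4 := h2 z
      rwa [hz, BialgEquiv.symm_apply_apply] at h4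
  exact ⟨BialgEquiv.ofBijective (pbar R (glIdeal g) k p hp) hbij⟩

end Red

end Groth.Agent.Lib.R2H7.QuotSplit
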