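import Mathlib
import Groth.Agent.Lib.R2H7TwLift
import Groth.Agent.Lib.R2H7GLGlue

/-!
# R2H7TwLiftNil: lifting split forms of group algebras along nil ideals

The analogue of `R2H7TwLift.exists_lift_form` for a nil ideal `I` and an arbitrary faithfully flat
`R`-algebra `R'`, with an explicit description of the lifted form.
-/

set_option autoImplicit false
universe u

namespace Groth.Agent.Lib.R2H7.TwLiftNil

open TensorProduct Coalgebra
open Groth.Agent.Lib.R2H7.HopfDesc Groth.Agent.Lib.R2H7.TwForm Groth.Agent.Lib.R2H7.TwK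
open Groth.Agent.Lib.R2H7.GLHens Groth.Agent.Lib.R2H7.TwLift Groth.Agent.Lib.Helper25

section FormIso

variable {K : Type u} [CommRing K] {K' : Type u} [CommRing K'] [Algebra K K']
  [Module.FaithfullyFlat K K'] {M : Type u} [CommGroup M]
  (φ : MonoidAlgebra (K' ⊗[K] K') M →ₐ[K' ⊗[K] K'] MonoidAlgebra (K' ⊗[K] K') M)
  (hφ : Function.Bijective φ) (hgl : IsGLHom φ) (hcoc : Coc φ)
  {A : Type u} [CommRing A] [Bialgebra K A] (j : A →ₐ[K] MonoidAlgebra K' M)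
  (hj : ∀ a, j a ∈ Tw φ) (hΘ : Function.Bijective (theta (R' := K') j))
  (hcomul : ∀ a, j2 (R' := K') j (comul (R := K) a) = comul (R := K') (j a))
  (hcounit : ∀ a, algebraMap K K' (counit (R := K) a) = counit (R := K') (j a))

include hj hΘ hcomul hcounit in
/-- `nonempty_bialgEquiv_Tw`, remembering the underlying map. -/
theorem exists_bialgEquiv_Tw :
    letI := hopfTw φ hφ hgl hcoc
    ∃ e : A ≃ₐc[K] Tw φ, ∀ a, ((e a : Tw φ) : MonoidAlgebra K' M) = j a := by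
  letI := hopfTw φ hφ hgl hcoc
  have hΘT := theta_Tw_bijective φ hφ hcoc
  let e : A ≃ₐ[K] Tw φ := AlgEquiv.ofBijective (j.codRestrict (Tw φ) hj)
    (codRestrict_bijective j hΘ (Tw φ) hΘT hj)
  have he : ∀ a, ((e a : Tw φ) : MonoidAlgebra K' M) = j a := fun a => rfl
  have hmap : ∀ x : A ⊗[K] A,
      j2 (R' := K') (Tw φ).val (Algebra.TensorProduct.map (e : A →ₐ[K] Tw φ) (e : A →ₐ[K] Tw φ) x) =
        j2 (R' := K') j x := by
    intro x
    induction x using TensorProduct.induction_on with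
    | zero => simp
    | tmul a a' =>
      rw [Algebra.TensorProduct.map_tmul, j2_tmul, j2_tmul]
      rfl
    | add x y hx hy => rw [map_add, map_add, hx, hy, map_add]
  refine ⟨BialgEquiv.ofAlgEquiv e ?_ ?_, fun a => rfl⟩
  · apply AlgHom.ext
    intro a
    apply FaithfulSMul.algebraMap_injective K K'
    change algebraMap K K' (counit (R := K) (e a)) = algebraMap K K' (counit (R := K) a)
    rw [hcounit, ← he]
    exact algebraMap_counitA (R' := K') (Tw φ).val (fun a => counit_mem φ hgl a.2) (e a)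
  · apply AlgHom.ext
    intro a
    apply j2_injective (R' := K') (Tw φ).val hΘT
    change j2 (R' := K') (Tw φ).val (Algebra.TensorProduct.map (e : A →ₐ[K] Tw φ)
      (e : A →ₐ[K] Tw φ) (comul (R := K) a)) = j2 (R' := K') (Tw φ).val (comul (R := K) (e a))
    rw [hmap, hcomul, ← he]
    exact (j2_comulA (R' := K') (Tw φ).val hΘT
      (fun a => comul_mem_range φ (Tw φ).val (fun a => a.2) hΘT hgl a) (e a)).symm

end FormIso

section Nil

theorem mem_jacobson_of_nil {S : Type u} [CommRing S] {t : S} (ht : IsNilpotent t) :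
    t ∈ Ideal.jacobson (⊥ : Ideal S) := by
  apply Ideal.radical_le_jacobson
  obtain ⟨n, hn⟩ := ht
  exact ⟨n, by rw [hn]; exact Ideal.zero_mem _⟩

variable {R : Type u} [CommRing R] {I : Ideal R} {k : Type u} [CommRing k] [Algebra R k]
  (hq : IsQuot R I k) (hI : ∀ x ∈ I, IsNilpotent x)
  (R' : Type u) [CommRing R'] [Algebra R R']

include hq hI in
/-- Lifting of descent data along a nil ideal. -/
theorem exists_lift_datum_nil {M : Type u} [CommGroup M]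
    (φ₀ ψ₀ : MonoidAlgebra ((k ⊗[R] R') ⊗[k] (k ⊗[R] R')) M →ₐ[(k ⊗[R] R') ⊗[k] (k ⊗[R] R')]
      MonoidAlgebra ((k ⊗[R] R') ⊗[k] (k ⊗[R] R')) M)
    (hgl₀ : IsGLHom φ₀) (hglψ : IsGLHom ψ₀) (h1 : ∀ z, ψ₀ (φ₀ z) = z) (h2 : ∀ z, φ₀ (ψ₀ z) = z)
    (hcoc₀ : Coc φ₀) :
    ∃ φ : MonoidAlgebra (R' ⊗[R] R') M →ₐ[R' ⊗[R] R'] MonoidAlgebra (R' ⊗[R] R') M,
      IsGLHom φ ∧ Function.Bijective φ ∧ Coc φ ∧
        ∀ z, red2 R k R' M (φ z) = φ₀ (red2 R k R' M z) := by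
  have hk2 : ∀ t, pi2 R k R' t = 0 → t ∈ Ideal.jacobson (⊥ : Ideal (R' ⊗[R] R')) :=
    fun t ht => mem_jacobson_of_nil
      (Groth.Agent.Lib.R2H7.GLGlue.map_nil _ I hI t (mem_map_of_pi2_eq_zero hq R' ht))
  have hk3 : ∀ t, pi3 R k R' t = 0 → t ∈ Ideal.jacobson (⊥ : Ideal (R' ⊗[R] (R' ⊗[R] R'))) :=
    fun t ht => mem_jacobson_of_nil
      (Groth.Agent.Lib.R2H7.GLGlue.map_nil _ I hI t (mem_map_of_pi3_eq_zero hq R' ht))
  have hid2 : ∀ e₀, IsIdempotentElem e₀ →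
      ∃ e : R' ⊗[R] R', IsIdempotentElem e ∧ pi2 R k R' e = e₀ := fun e₀ he₀ =>
    exists_isIdempotentElem_eq_of_ker_isNilpotent (pi2 R k R')
      (fun x hx => Groth.Agent.Lib.R2H7.GLGlue.map_nil _ I hI x
        (mem_map_of_pi2_eq_zero hq R' (RingHom.mem_ker.mp hx)))
      e₀ (RingHom.mem_range.mpr (pi2_surjective hq R' e₀)) he₀
  obtain ⟨φ, hgl, hlift⟩ := exists_lift_glHom (pi2 R k R') hk2 hid2 φ₀ hgl₀
  have hlift' : ∀ z, red2 R k R' M (φ z) = φ₀ (red2 R k R' M z) := hlift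
  refine ⟨φ, hgl, bijective_of_lift (pi2 R k R') hk2 hid2 φ hgl φ₀ ψ₀ hglψ hlift h1 h2, ?_, hlift⟩
  intro m
  apply gl_unique (S := R' ⊗[R] (R' ⊗[R] R'))
    (S₀ := (k ⊗[R] R') ⊗[k] ((k ⊗[R] R') ⊗[k] (k ⊗[R] R'))) (pi3 R k R') hk3
  · apply isGroupLikeElem_glHom_apply (pull φ (q23 (R := R)))
    · intro n
      rw [pull_single, one_smul]
      exact isGroupLikeElem_mapAlgHom (q23 (R := R) (R' := R')) (hgl n)
    · exact isGroupLikeElem_mapAlgHom (q12 (R := R) (R' := R')) (hgl m)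
  · exact isGroupLikeElem_mapAlgHom (q13 (R := R) (R' := R')) (hgl m)
  · change red3 R k R' M (pull φ (q23 (R := R)) (MonoidAlgebra.mapAlgHom M (q12 (R := R))
      (φ (MonoidAlgebra.single m 1)))) =
      red3 R k R' M (MonoidAlgebra.mapAlgHom M (q13 (R := R)) (φ (MonoidAlgebra.single m 1)))
    rw [red3_pull R k φ φ₀ hlift', red3_q12, red3_q13, hlift', red2_single, map_one]
    exact hcoc₀ m

end Nil

section Form

variable {R : Type u} [CommRing R] {I : Ideal R} {k : Type u} [CommRing k] [Algebra R k]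
  (hq : IsQuot R I k) (hI : ∀ x ∈ I, IsNilpotent x)
  {R' : Type u} [CommRing R'] [Algebra R R'] [Module.FaithfullyFlat R R']
  {A₀ : Type u} [CommRing A₀] [HopfAlgebra k A₀] {M : Type u} [CommGroup M]
  (θ₀ : (k ⊗[R] R') ⊗[k] A₀ ≃ₐc[k ⊗[R] R'] MonoidAlgebra (k ⊗[R] R') M)

include hq hI θ₀ in
/-- A form of a group algebra over `k = R ⧸ I` split by `k ⊗ R'` lifts to a form over `R` split by
`R'`, if `I` is nil and `R'` is faithfully flat over `R`; the lift comes with an embedding into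
`R'[M]` compatible with the given splitting. -/
theorem exists_lift_form_nil :
    ∃ (A : Type u) (_ : CommRing A) (_ : HopfAlgebra R A) (j : A →ₐ[R] MonoidAlgebra R' M)
      (Θ : R' ⊗[R] A ≃ₐc[R'] MonoidAlgebra R' M) (e : k ⊗[R] A ≃ₐc[k] A₀),
      (∀ (r : R') (a : A), Θ (r ⊗ₜ[R] a) = r • j a) ∧
      ∀ (y : k) (b : A), θ₀ ((1 : k ⊗[R] R') ⊗ₜ[k] e (y ⊗ₜ[R] b)) = y • red1 R k R' M (j b) := by
  obtain ⟨φ, hgl, hbij, hcoc, hlift⟩ := exists_lift_datum_nil hq hI R' (phi0 θ₀) (phi0inv θ₀)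
    (isGLHom_phi0 θ₀) (isGLHom_phi0inv θ₀) (phi0inv_phi0 θ₀) (phi0_phi0inv θ₀) (coc_phi0 θ₀)
  obtain ⟨A, _, _, j, Θ, hj, hΘ⟩ := exists_form φ hbij hgl hcoc
  let Ω : (k ⊗[R] R') ⊗[k] (k ⊗[R] A) ≃ₐc[k ⊗[R] R'] MonoidAlgebra (k ⊗[R] R') M :=
    (BCB.cancelBC R k (k ⊗[R] R') A).trans (LamEquiv (pi1A R k R') Θ)
  have hiΘ : ∀ b : A, iota Θ b = j b := by
    intro b
    rw [iota_apply, hΘ, one_smul]
  have hΩ : ∀ (y : k) (b : A), iota Ω (y ⊗ₜ[R] b) = y • red1 R k R' M (j b) := by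
    intro y b
    change LamEquiv (pi1A R k R') Θ (BCB.cancelBC R k (k ⊗[R] R') A
      ((1 : k ⊗[R] R') ⊗ₜ[k] (y ⊗ₜ[R] b))) = _
    rw [BCB.cancelBC_tmul, LamEquiv_tmul, jf_apply, hiΘ, smul_assoc, one_smul]
    rfl
  have hred : ∀ b : A, red1 R k R' M (j b) ∈ Tw (phi0 θ₀) := by
    intro b
    rw [mem_Tw, ← red2_P1, ← hlift, (mem_Tw φ).mp (hj b), red2_P2]
  have hjΩ : ∀ a₁, iota Ω a₁ ∈ Tw (phi0 θ₀) := by
    intro a₁
    induction a₁ using TensorProduct.induction_on with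
    | zero =>
      rw [map_zero]
      exact zero_mem _
    | tmul y b =>
      rw [hΩ]
      exact Subalgebra.smul_mem _ (hred b) y
    | add x y hx hy =>
      rw [map_add]
      exact add_mem hx hy
  obtain ⟨e₁, he₁⟩ := exists_bialgEquiv_Tw (phi0 θ₀) (phi0_bijective θ₀) (isGLHom_phi0 θ₀)
    (coc_phi0 θ₀) (iota Ω) hjΩ (theta_iota_bijective Ω) (fun a => (comul_iota Ω a).symm)
    (fun a => (counit_iota Ω a).symm)
  obtain ⟨e₀, he₀⟩ := exists_bialgEquiv_Tw (phi0 θ₀) (phi0_bijective θ₀) (isGLHom_phi0 θ₀)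
    (coc_phi0 θ₀) (iota θ₀) (iota_mem_Tw θ₀) (theta_iota_bijective θ₀)
    (fun a => (comul_iota θ₀ a).symm) (fun a => (counit_iota θ₀ a).symm)
  letI := hopfTw (phi0 θ₀) (phi0_bijective θ₀) (isGLHom_phi0 θ₀) (coc_phi0 θ₀)
  refine ⟨A, inferInstance, inferInstance, j, Θ, e₁.trans e₀.symm, hΘ, ?_⟩
  intro y b
  have h1 : e₀ ((e₁.trans e₀.symm) (y ⊗ₜ[R] b)) = e₁ (y ⊗ₜ[R] b) := by
    change e₀ (e₀.symm (e₁ (y ⊗ₜ[R] b))) = _
    rw [BialgEquiv.apply_symm_apply]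
  have h2 := he₀ ((e₁.trans e₀.symm) (y ⊗ₜ[R] b))
  rw [h1, he₁, hΩ, iota_apply] at h2
  exact h2.symm

end Form

end Groth.Agent.Lib.R2H7.TwLiftNil
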