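import Mathlib
import Groth.Agent.Lib.R2H7TwLiftNil
import Groth.Agent.Lib.R2H7QuotSplit
import Groth.Agent.Lib.R2H7ProdRing
import Groth.Agent.Lib.R2H7IsoLift

/-!
# R2H7QIsoCore: lifting forms with locally constant type along nil ideals

Let `I` be a nil ideal of `R`, `k = R ⧸ I`, `A₀` a Hopf algebra over `k`, and `S i` finitely many `R`-algebras
whose product is faithfully flat over `R`, such that `A₀` is split of type `M i` over `k ⊗ S i`.  Then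
`A₀` lifts to a Hopf algebra `A` over `R` which is split of type `M i` over `S i` (`exists_lift`).
-/

set_option autoImplicit false
universe u

namespace Groth.Agent.Lib.R2H7.QIsoCore

open TensorProduct Coalgebra SGA3b
open Groth.Agent.Lib.R2H7.HopfDesc Groth.Agent.Lib.R2H7.TwForm Groth.Agent.Lib.R2H7.TwK
open Groth.Agent.Lib.R2H7.GLHens Groth.Agent.Lib.R2H7.TwLift Groth.Agent.Lib.R2H7.TwLiftNil
open Groth.Agent.Lib.R2H7.Swindle Groth.Agent.Lib.R2H7.ProdRing Groth.Agent.Lib.R2H7.QuotGL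
open Groth.Agent.Lib.R2H7.QuotSplit Groth.Agent.Lib.Helper25 Groth.Agent.Lib.R2H7.GLLift

section GLift

variable {R : Type u} [CommRing R] (I : Ideal R) (hI : ∀ x ∈ I, IsNilpotent x)
  {N : Type u} {Y : Type u} [CommRing Y] [HopfAlgebra (R ⧸ I) Y]

include hI in
/-- Lifting a family of group-like elements of the reduction. -/
theorem exists_gl {A' : Type u} [CommRing A'] [HopfAlgebra R A'] (hMT : IsMultType R A')
    (e' : (R ⧸ I) ⊗[R] A' ≃ₐc[R ⧸ I] Y) (γ : N → Y) (hγ : ∀ n, IsGroupLikeElem (R ⧸ I) (γ n)) :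
    ∃ g : N → A', (∀ n, IsGroupLikeElem R (g n)) ∧ ∀ n, e' ((1 : R ⧸ I) ⊗ₜ[R] g n) = γ n := by
  have h : ∀ n, ∃ b : A', IsGroupLikeElem R b ∧ e' ((1 : R ⧸ I) ⊗ₜ[R] b) = γ n := by
    intro n
    obtain ⟨x, hx⟩ := Groth.Agent.Lib.R2H7.DiagNil.one_tmul_surjective I (e'.symm (γ n))
    have hx1 : IsGroupLikeElem (R ⧸ I) ((1 : R ⧸ I) ⊗ₜ[R] x) := by
      rw [hx]
      exact (hγ n).map e'.symm
    obtain ⟨b, hb, hbx⟩ := Groth.Agent.Lib.R2H7.GLGlue.liftGL_of_isMultType hMT I hI x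
      (Groth.Agent.Lib.R2H7.DiagNil.glmod_of_one_tmul I hx1)
    refine ⟨b, hb, ?_⟩
    rw [(Groth.Agent.Lib.R2H7.DiagNil.one_tmul_eq_iff I b x).mpr hbx, hx,
      BialgEquiv.apply_symm_apply]
  choose g hg hge using h
  exact ⟨g, hg, hge⟩

end GLift

section Core

variable {R : Type u} [CommRing R] (I : Ideal R) (hI : ∀ x ∈ I, IsNilpotent x)
  {A₀ : Type u} [CommRing A₀] [HopfAlgebra (R ⧸ I) A₀]
  {ι : Type u} [Fintype ι] [DecidableEq ι]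
  (S : ι → Type u) [∀ i, CommRing (S i)] [∀ i, Algebra R (S i)]
  (M : ι → Type u) [∀ i, CommGroup (M i)]
  {N : Type u} [CommGroup N] (κ : ∀ i, M i × N ≃* N)
  {Y : Type u} [CommRing Y] [HopfAlgebra (R ⧸ I) Y] (D : TenData (R ⧸ I) A₀ N Y)
  (ϑ : ∀ i, ((R ⧸ I) ⊗[R] S i) ⊗[R ⧸ I] A₀ ≃ₐc[(R ⧸ I) ⊗[R] S i]
    MonoidAlgebra ((R ⧸ I) ⊗[R] S i) (M i))

/-- `k ⊗ ∏ S i → k ⊗ S i`. -/
noncomputable def qq (i : ι) : (R ⧸ I) ⊗[R] (∀ i, S i) →+* (R ⧸ I) ⊗[R] S i :=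
  (Pi.evalRingHom (fun i => (R ⧸ I) ⊗[R] S i) i).comp
    ((Algebra.TensorProduct.piRight R (R ⧸ I) (R ⧸ I) S).toAlgHom : _ →+* _)

theorem qq_apply (i : ι) (z : (R ⧸ I) ⊗[R] (∀ i, S i)) :
    qq I S i z = Algebra.TensorProduct.piRight R (R ⧸ I) (R ⧸ I) S z i := rfl

/-- The splitting over `k ⊗ ∏ S i` of the swindled form. -/
noncomputable def theta0 : ((R ⧸ I) ⊗[R] (∀ i, S i)) ⊗[R ⧸ I] Y ≃ₐc[(R ⧸ I) ⊗[R] (∀ i, S i)]
    MonoidAlgebra ((R ⧸ I) ⊗[R] (∀ i, S i)) N :=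
  LamEquiv (Algebra.TensorProduct.piRight R (R ⧸ I) (R ⧸ I) S).symm.toAlgHom
    (thetaP (fun i => (R ⧸ I) ⊗[R] S i) Y (fun i => swEquiv D (ϑ i) (κ i)))

theorem theta0_comp (i : ι) (y : Y) :
    MonoidAlgebra.mapRingHom N (qq I S i)
      (theta0 I S M κ D ϑ ((1 : (R ⧸ I) ⊗[R] (∀ i, S i)) ⊗ₜ[R ⧸ I] y)) =
      swEquiv D (ϑ i) (κ i) ((1 : (R ⧸ I) ⊗[R] S i) ⊗ₜ[R ⧸ I] y) := by
  have h1 : ∀ w : MonoidAlgebra (∀ i, (R ⧸ I) ⊗[R] S i) N,
      MonoidAlgebra.mapRingHom N (qq I S i) (MonoidAlgebra.mapAlgHom N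
        (Algebra.TensorProduct.piRight R (R ⧸ I) (R ⧸ I) S).symm.toAlgHom w) =
      MonoidAlgebra.mapRingHom N (Pi.evalRingHom (fun i => (R ⧸ I) ⊗[R] S i) i) w := by
    intro w
    induction w using MonoidAlgebra.induction_linear with
    | zero => simp
    | add a b ha hb => rw [map_add, map_add, ha, hb, map_add]
    | single n c =>
      rw [MonoidAlgebra.mapAlgHom_single, MonoidAlgebra.mapRingHom_single,
        MonoidAlgebra.mapRingHom_single]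
      congr 1
      change (Algebra.TensorProduct.piRight R (R ⧸ I) (R ⧸ I) S)
        ((Algebra.TensorProduct.piRight R (R ⧸ I) (R ⧸ I) S).symm c) i = c i
      rw [AlgEquiv.apply_symm_apply]
  rw [theta0, LamEquiv_tmul, one_smul, jf_apply, iota_apply, h1, mapRingHom_thetaP, ev_tmul]
  rfl

include hI in
/-- The components of the lifted group-likes. -/
theorem key {A' : Type u} [CommRing A'] [HopfAlgebra R A']
    (j : A' →ₐ[R] MonoidAlgebra (∀ i, S i) N)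
    (Θ : (∀ i, S i) ⊗[R] A' ≃ₐc[∀ i, S i] MonoidAlgebra (∀ i, S i) N)
    (e' : (R ⧸ I) ⊗[R] A' ≃ₐc[R ⧸ I] Y)
    (hΘ : ∀ (r : ∀ i, S i) (a : A'), Θ (r ⊗ₜ[R] a) = r • j a)
    (hform : ∀ (y : R ⧸ I) (b : A'),
      theta0 I S M κ D ϑ ((1 : (R ⧸ I) ⊗[R] (∀ i, S i)) ⊗ₜ[R ⧸ I] e' (y ⊗ₜ[R] b)) =
        y • red1 R (R ⧸ I) (∀ i, S i) N (j b))
    (i : ι) (n : N) (b : A') (hb : IsGroupLikeElem R b)
    (hbe : e' ((1 : R ⧸ I) ⊗ₜ[R] b) = D.iR (MonoidAlgebra.single n 1)) :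
    MonoidAlgebra.mapAlgHom N (Pi.evalAlgHom R S i) (j b) =
      MonoidAlgebra.single (κ i (1, n)) 1 := by
  have hker : ∀ t : S i, pi1 R (R ⧸ I) (S i) t = 0 → t ∈ Ideal.jacobson (⊥ : Ideal (S i)) := by
    intro t ht
    apply mem_jacobson_of_nil
    exact Groth.Agent.Lib.R2H7.IsoNil.smul_top_nil I (S i) hI
      ((Groth.Agent.Lib.R2H7.DiagNil.one_tmul_eq_zero_iff I t).mp ht)
  have hjb : IsGroupLikeElem (∀ i, S i) (j b) := by
    have h1 := (SubDiag.isGroupLikeElem_one_tmul (S := ∀ i, S i) hb).map Θ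
    rwa [hΘ, one_smul] at h1
  apply gl_unique (pi1 R (R ⧸ I) (S i)) hker
    (isGroupLikeElem_mapAlgHom (Pi.evalAlgHom R S i) hjb)
    (MonoidAlgebra.isGroupLikeElem_single_one _)
  rw [MonoidAlgebra.mapRingHom_single, map_one]
  change MonoidAlgebra.mapRingHom N (pi1 R (R ⧸ I) (S i))
    (MonoidAlgebra.mapRingHom N (Pi.evalRingHom S i) (j b)) = _
  have hcomp : (pi1 R (R ⧸ I) (S i)).comp (Pi.evalRingHom S i) =
      (qq I S i).comp (pi1 R (R ⧸ I) (∀ i, S i)) := RingHom.ext fun r => rfl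
  rw [← RingHom.comp_apply, ← MonoidAlgebra.mapRingHom_comp, hcomp, MonoidAlgebra.mapRingHom_comp,
    RingHom.comp_apply]
  have h2 := hform 1 b
  rw [one_smul, hbe] at h2
  change MonoidAlgebra.mapRingHom N (qq I S i) (red1 R (R ⧸ I) (∀ i, S i) N (j b)) = _
  rw [← h2, theta0_comp, swEquiv_one_tmul_iR]

include hI κ D ϑ in
theorem exists_lift_core [Module.FaithfullyFlat R (∀ i, S i)] [Algebra R A₀]
    [IsScalarTower R (R ⧸ I) A₀] :
    ∃ (A : Type u) (_ : CommRing A) (_ : HopfAlgebra R A),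
      Nonempty ((R ⧸ I) ⊗[R] A ≃ₐc[R ⧸ I] A₀) ∧
      ∀ i, Nonempty (S i ⊗[R] A ≃ₐc[S i] MonoidAlgebra (S i) (M i)) := by
  obtain ⟨A', _, _, j, Θ, e', hΘ, hform⟩ := exists_lift_form_nil
    (Groth.Agent.Lib.R2H7.IsoLift.isQuot_quotient I) hI (theta0 I S M κ D ϑ)
  have hMT : IsMultType R A' := BCB.isMultType_of_isMultTypeConst R A'
    ⟨∀ i, S i, inferInstance, inferInstance, inferInstance, ⟨N, inferInstance, ⟨Θ⟩⟩⟩
  obtain ⟨g, hg, hge⟩ := exists_gl I hI hMT e' (fun n => D.iR (MonoidAlgebra.single n 1))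
    (fun n => (MonoidAlgebra.isGroupLikeElem_single_one (R := R ⧸ I) (A := R ⧸ I) n).map D.iR)
  haveI := isHopfIdeal_glIdeal g hg
  refine ⟨A' ⧸ glIdeal g, inferInstance, inferInstance, quot_red g D e' hge, fun i => ?_⟩
  apply quot_comp g (κ i) (LamEquiv (Pi.evalAlgHom R S i) Θ)
  intro n
  rw [LamEquiv_tmul, one_smul, jf_apply, iota_apply, hΘ, one_smul]
  exact key I hI S M κ D ϑ j Θ e' hΘ hform i n (g n) (hg n) (hge n)

end Core

section Main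

variable {R : Type u} [CommRing R] (I : Ideal R) (hI : ∀ x ∈ I, IsNilpotent x)
  {A₀ : Type u} [CommRing A₀] [HopfAlgebra (R ⧸ I) A₀]
  {ι : Type u} [Fintype ι] [DecidableEq ι]
  (S : ι → Type u) [∀ i, CommRing (S i)] [∀ i, Algebra R (S i)]
  (M : ι → Type u) [∀ i, CommGroup (M i)]
  (ϑ : ∀ i, ((R ⧸ I) ⊗[R] S i) ⊗[R ⧸ I] A₀ ≃ₐc[(R ⧸ I) ⊗[R] S i]
    MonoidAlgebra ((R ⧸ I) ⊗[R] S i) (M i))

include hI ϑ in
/-- Lifting forms of locally constant type along a nil ideal. -/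
theorem exists_lift [Module.FaithfullyFlat R (∀ i, S i)] [Algebra R A₀]
    [IsScalarTower R (R ⧸ I) A₀] :
    ∃ (A : Type u) (_ : CommRing A) (_ : HopfAlgebra R A),
      Nonempty ((R ⧸ I) ⊗[R] A ≃ₐc[R ⧸ I] A₀) ∧
      ∀ i, Nonempty (S i ⊗[R] A ≃ₐc[S i] MonoidAlgebra (S i) (M i)) :=
  exists_lift_core I hI S M (fun i => kap i) (tenData (R ⧸ I) A₀ (Big M)) ϑ

end Main

end Groth.Agent.Lib.R2H7.QIsoCore
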