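import Mathlib
import Groth.Agent.Lib.R2H7QIsoCore

/-!
# R2H7QIsoMain: quasi-isotrivial groups of multiplicative type lift along nil ideals

`main`: if `I` is a nil ideal of `R` and `A₀` is a quasi-isotrivial Hopf algebra of multiplicative type
over `R ⧸ I`, there is a quasi-isotrivial Hopf algebra `A` over `R` with `(R ⧸ I) ⊗ A ≃ A₀`.
-/

set_option autoImplicit false
universe u

namespace Groth.Agent.Lib.R2H7.QIsoMain

open TensorProduct Coalgebra SGA3b
open Groth.Agent.Lib.Helper25 Groth.Agent.Lib.R2H7.GLLift Groth.Agent.Lib.R2H7.GLGlue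
open Groth.Agent.Lib.R2H7.IsoNil

section Transport

variable {S : Type u} [CommRing S] {B B' : Type u} [CommRing B] [HopfAlgebra S B] [CommRing B']
  [HopfAlgebra S B']

theorem isQuasiIsotrivialConst_of_equiv (e : B ≃ₐc[S] B') (h : IsQuasiIsotrivialConst S B') :
    IsQuasiIsotrivialConst S B := by
  obtain ⟨R', _, _, hE, hFF, hD⟩ := h
  exact ⟨R', inferInstance, inferInstance, hE, hFF, BCB.isDiag_of_equiv (BCB.bcEquiv R' e) hD⟩

theorem isQuasiIsotrivial_of_equiv (e : B ≃ₐc[S] B') (h : IsQuasiIsotrivial S B') :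
    IsQuasiIsotrivial S B := by
  obtain ⟨s, hs, hq⟩ := h
  exact ⟨s, hs, fun f hf =>
    isQuasiIsotrivialConst_of_equiv (BCB.bcEquiv (Localization.Away f) e) (hq f hf)⟩

end Transport

section Pi

variable {R : Type u} [CommRing R] {ι : Type u} [Fintype ι] [DecidableEq ι] (t : ι → R)
  (ht : Ideal.span (Set.range t) = ⊤)
  (S : ι → Type u) [∀ i, CommRing (S i)] [∀ i, Algebra R (S i)]
  [∀ i, Algebra (Localization.Away (t i)) (S i)]
  [∀ i, IsScalarTower R (Localization.Away (t i)) (S i)]
  (hff : ∀ i, Module.FaithfullyFlat (Localization.Away (t i)) (S i))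

include ht hff in
/-- A finite product of faithfully flat algebras over the members of a Zariski covering is
faithfully flat. -/
theorem faithfullyFlat_pi : Module.FaithfullyFlat R (∀ i, S i) := by
  haveI : ∀ i, Module.Flat R (S i) := fun i => by
    haveI := hff i
    exact Module.Flat.trans R (Localization.Away (t i)) (S i)
  haveI : Module.Flat R (∀ i, S i) :=
    Module.Flat.of_linearEquiv (DFinsupp.linearEquivFunOnFintype (R := R) (M := S)).symm
  refine Module.FaithfullyFlat.mk (fun m hm htop => ?_)
  have hex : ∃ i, t i ∉ m := by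
    by_contra hcon
    push_neg at hcon
    have h1 : Ideal.span (Set.range t) ≤ m := by
      rw [Ideal.span_le]
      rintro _ ⟨i, rfl⟩
      exact hcon i
    rw [ht] at h1
    exact hm.ne_top (top_le_iff.mp h1)
  obtain ⟨i, hi⟩ := hex
  haveI := hff i
  have hne : m.map (algebraMap R (Localization.Away (t i))) ≠ ⊤ := by
    intro h2
    have hdisj : Disjoint (Submonoid.powers (t i) : Set R) (m : Set R) := by
      rw [Set.disjoint_left]
      rintro x ⟨n, rfl⟩ hx
      exact hi (hm.isPrime.mem_of_pow_mem n hx)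
    have h3 := IsLocalization.comap_map_of_isPrime_disjoint (Submonoid.powers (t i))
      (Localization.Away (t i)) hm.isPrime hdisj
    rw [h2] at h3
    have h4 : Ideal.under R (⊤ : Ideal (Localization.Away (t i))) = ⊤ := Ideal.comap_top
    rw [h4] at h3
    exact hm.ne_top h3.symm
  have h3 := ((Module.FaithfullyFlat.iff_flat_and_proper_ideal (Localization.Away (t i))
    (S i)).mp inferInstance).2 _ hne
  apply h3
  rw [eq_top_iff]
  intro x _
  have h4 : (1 : ∀ i, S i) ∈ m • (⊤ : Submodule R (∀ i, S i)) := by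
    rw [htop]
    trivial
  have h5 : ∀ z : ∀ i, S i, z ∈ m • (⊤ : Submodule R (∀ i, S i)) →
      z i ∈ (m.map (algebraMap R (Localization.Away (t i)))) •
        (⊤ : Submodule (Localization.Away (t i)) (S i)) := by
    intro z hz
    refine Submodule.smul_induction_on hz ?_ ?_
    · intro r hr y _
      have h6 : (r • y) i = (algebraMap R (Localization.Away (t i)) r) • y i := by
        rw [Pi.smul_apply, algebraMap_smul]
      rw [h6]
      exact Submodule.smul_mem_smul (Ideal.mem_map_of_mem _ hr) Submodule.mem_top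
    · intro y y' hy hy'
      rw [Pi.add_apply]
      exact Submodule.add_mem _ hy hy'
  have h7 := mul_mem_smul_top' (S i) (m.map (algebraMap R (Localization.Away (t i)))) x (h5 1 h4)
  rwa [Pi.one_apply, mul_one] at h7

end Pi

section Local

variable (R : Type u) [CommRing R] (I : Ideal R) (A₀ : Type u) [CommRing A₀]
  [HopfAlgebra (R ⧸ I) A₀]

/-- A lifted local splitting of `A₀` over `D(f)`. -/
structure LocData (f : R) where
  /-- the covering algebra -/
  S : Type u
  [cr : CommRing S]
  [algR : Algebra R S]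
  [algRf : Algebra (Localization.Away f) S]
  [tower : IsScalarTower R (Localization.Away f) S]
  ff : Module.FaithfullyFlat (Localization.Away f) S
  /-- the type -/
  M : Type u
  [cg : CommGroup M]
  /-- the splitting modulo `I` -/
  ϑ : ((R ⧸ I) ⊗[R] S) ⊗[R ⧸ I] A₀ ≃ₐc[(R ⧸ I) ⊗[R] S] MonoidAlgebra ((R ⧸ I) ⊗[R] S) M

variable {R I A₀}

instance (f : R) (d : LocData R I A₀ f) : CommRing d.S := d.cr
instance (f : R) (d : LocData R I A₀ f) : Algebra R d.S := d.algR
instance (f : R) (d : LocData R I A₀ f) : Algebra (Localization.Away f) d.S := d.algRf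
instance (f : R) (d : LocData R I A₀ f) : IsScalarTower R (Localization.Away f) d.S := d.tower
instance (f : R) (d : LocData R I A₀ f) : CommGroup d.M := d.cg

variable (I) in
theorem nonempty_locData (hI : ∀ x ∈ I, IsNilpotent x) (f : R)
    (hq : IsQuasiIsotrivialConst (Localization.Away (Ideal.Quotient.mk I f))
      (Localization.Away (Ideal.Quotient.mk I f) ⊗[R ⧸ I] A₀)) :
    Nonempty (LocData R I A₀ f) := by
  obtain ⟨k'', _, _, hE, hFF, hD⟩ := hq
  haveI := isLocalization_away_quotient I f
  let σ : (Localization.Away f ⧸ I.map (algebraMap R (Localization.Away f))) ≃ₐ[R ⧸ I]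
      Localization.Away (Ideal.Quotient.mk I f) :=
    IsLocalization.algEquiv (Submonoid.powers (Ideal.Quotient.mk I f)) _ _
  letI iKL : Algebra (Localization.Away f ⧸ I.map (algebraMap R (Localization.Away f)))
      (Localization.Away (Ideal.Quotient.mk I f)) := σ.toAlgHom.toRingHom.toAlgebra
  letI iKk : Algebra (Localization.Away f ⧸ I.map (algebraMap R (Localization.Away f))) k'' :=
    ((algebraMap (Localization.Away (Ideal.Quotient.mk I f)) k'').comp
      σ.toAlgHom.toRingHom).toAlgebra
  haveI : IsScalarTower (Localization.Away f ⧸ I.map (algebraMap R (Localization.Away f)))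
      (Localization.Away (Ideal.Quotient.mk I f)) k'' :=
    IsScalarTower.of_algebraMap_eq (fun _ => rfl)
  have hbij : Function.Bijective (Algebra.ofId
      (Localization.Away f ⧸ I.map (algebraMap R (Localization.Away f)))
      (Localization.Away (Ideal.Quotient.mk I f))) := σ.bijective
  haveI : Algebra.Etale (Localization.Away f ⧸ I.map (algebraMap R (Localization.Away f)))
      (Localization.Away (Ideal.Quotient.mk I f)) :=
    Algebra.Etale.of_equiv (AlgEquiv.ofBijective _ hbij)
  haveI : Algebra.Etale (Localization.Away f ⧸ I.map (algebraMap R (Localization.Away f))) k'' :=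
    Algebra.Etale.comp _ (Localization.Away (Ideal.Quotient.mk I f)) k''
  haveI : Module.FaithfullyFlat (Localization.Away f ⧸ I.map (algebraMap R (Localization.Away f)))
      (Localization.Away (Ideal.Quotient.mk I f)) :=
    Module.FaithfullyFlat.of_linearEquiv _
      (Localization.Away f ⧸ I.map (algebraMap R (Localization.Away f)))
      (AlgEquiv.ofBijective _ hbij).symm.toLinearEquiv
  haveI : Module.FaithfullyFlat
      (Localization.Away f ⧸ I.map (algebraMap R (Localization.Away f))) k'' :=
    Module.FaithfullyFlat.trans _ (Localization.Away (Ideal.Quotient.mk I f)) k''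
  letI ikk : Algebra (R ⧸ I) k'' :=
    ((algebraMap (Localization.Away (Ideal.Quotient.mk I f)) k'').comp
      (algebraMap (R ⧸ I) (Localization.Away (Ideal.Quotient.mk I f)))).toAlgebra
  haveI : IsScalarTower (R ⧸ I) (Localization.Away (Ideal.Quotient.mk I f)) k'' :=
    IsScalarTower.of_algebraMap_eq (fun _ => rfl)
  letI iRk : Algebra R k'' :=
    ((algebraMap (R ⧸ I) k'').comp (algebraMap R (R ⧸ I))).toAlgebra
  haveI : IsScalarTower R (R ⧸ I) k'' := IsScalarTower.of_algebraMap_eq (fun _ => rfl)
  letI iRfk : Algebra (Localization.Away f) k'' :=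
    ((algebraMap (Localization.Away f ⧸ I.map (algebraMap R (Localization.Away f))) k'').comp
      (algebraMap (Localization.Away f)
        (Localization.Away f ⧸ I.map (algebraMap R (Localization.Away f))))).toAlgebra
  haveI : IsScalarTower (Localization.Away f)
      (Localization.Away f ⧸ I.map (algebraMap R (Localization.Away f))) k'' := by
    have t := IsScalarTower.of_algebraMap_eq (R := Localization.Away f)
      (S := Localization.Away f ⧸ I.map (algebraMap R (Localization.Away f))) (A := k'')
      (fun _ => rfl)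
    exact ⟨fun x y z => t.smul_assoc x y z⟩
  haveI : IsScalarTower R (Localization.Away f) k'' := by
    refine IsScalarTower.of_algebraMap_eq (fun r => ?_)
    change algebraMap (Localization.Away (Ideal.Quotient.mk I f)) k''
        (algebraMap (R ⧸ I) (Localization.Away (Ideal.Quotient.mk I f))
          (algebraMap R (R ⧸ I) r)) =
      algebraMap (Localization.Away (Ideal.Quotient.mk I f)) k''
        (σ (algebraMap (Localization.Away f)
          (Localization.Away f ⧸ I.map (algebraMap R (Localization.Away f)))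
          (algebraMap R (Localization.Away f) r)))
    congr 1
    rw [← IsScalarTower.algebraMap_apply R (Localization.Away f)
      (Localization.Away f ⧸ I.map (algebraMap R (Localization.Away f))),
      IsScalarTower.algebraMap_apply R (R ⧸ I)
      (Localization.Away f ⧸ I.map (algebraMap R (Localization.Away f))), σ.commutes]
  -- the splitting over `k''`, relative to `R ⧸ I`
  have a1 : IsDiag k'' (k'' ⊗[R ⧸ I] A₀) :=
    BCB.isDiag_of_equiv (BCB.cancelBC (R ⧸ I) (Localization.Away (Ideal.Quotient.mk I f)) k''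
      A₀).symm hD
  -- lift the covering
  obtain ⟨S, _, _, hS, ⟨ε⟩⟩ := Groth.Agent.S9436.result (Localization.Away f)
    (I.map (algebraMap R (Localization.Away f))) k''
  haveI := hS
  haveI : Module.FaithfullyFlat
      (Localization.Away f ⧸ I.map (algebraMap R (Localization.Away f)))
      ((Localization.Away f ⧸ I.map (algebraMap R (Localization.Away f)))
        ⊗[Localization.Away f] S) :=
    Module.FaithfullyFlat.of_linearEquiv
      (Localization.Away f ⧸ I.map (algebraMap R (Localization.Away f))) k'' ε.toLinearEquiv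
  have hffS : Module.FaithfullyFlat (Localization.Away f) S :=
    faithfullyFlat_of_nil (I.map (algebraMap R (Localization.Away f))) S (map_nil _ I hI)
  letI iRS : Algebra R S :=
    ((algebraMap (Localization.Away f) S).comp (algebraMap R (Localization.Away f))).toAlgebra
  haveI : IsScalarTower R (Localization.Away f) S := IsScalarTower.of_algebraMap_eq (fun _ => rfl)
  -- the map `k'' → k ⊗ S`
  letI iRfKS : Algebra (Localization.Away f) ((R ⧸ I) ⊗[R] S) :=
    ((Algebra.TensorProduct.includeRight : S →ₐ[R] (R ⧸ I) ⊗[R] S).toRingHom.comp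
      (algebraMap (Localization.Away f) S)).toAlgebra
  have hRfKS : ∀ a : Localization.Away f, algebraMap (Localization.Away f) ((R ⧸ I) ⊗[R] S) a =
      (1 : R ⧸ I) ⊗ₜ[R] algebraMap (Localization.Away f) S a := fun a => rfl
  have hRKS : ∀ r : R, algebraMap (Localization.Away f) ((R ⧸ I) ⊗[R] S)
      (algebraMap R (Localization.Away f) r) = (Ideal.Quotient.mk I r) ⊗ₜ[R] (1 : S) := by
    intro r
    rw [hRfKS, ← IsScalarTower.algebraMap_apply R (Localization.Away f) S,
      Algebra.algebraMap_eq_smul_one, ← TensorProduct.smul_tmul, ← Algebra.algebraMap_eq_smul_one]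
    rfl
  have hkill : ∀ a ∈ I.map (algebraMap R (Localization.Away f)),
      (Algebra.ofId (Localization.Away f) ((R ⧸ I) ⊗[R] S)) a = 0 := by
    intro a ha
    have h1 : I.map (algebraMap R (Localization.Away f)) ≤
        RingHom.ker (algebraMap (Localization.Away f) ((R ⧸ I) ⊗[R] S)) := by
      rw [Ideal.map_le_iff_le_comap]
      intro r hr
      rw [Ideal.mem_comap, RingHom.mem_ker, hRKS, Ideal.Quotient.eq_zero_iff_mem.mpr hr,
        TensorProduct.zero_tmul]
    exact RingHom.mem_ker.mp (h1 ha)
  let φQ : (Localization.Away f ⧸ I.map (algebraMap R (Localization.Away f)))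
      →ₐ[Localization.Away f] (R ⧸ I) ⊗[R] S :=
    Ideal.Quotient.liftₐ _ (Algebra.ofId (Localization.Away f) ((R ⧸ I) ⊗[R] S)) hkill
  let φS : S →ₐ[Localization.Away f] (R ⧸ I) ⊗[R] S :=
    { (Algebra.TensorProduct.includeRight : S →ₐ[R] (R ⧸ I) ⊗[R] S).toRingHom with
      commutes' := fun _ => rfl }
  let χ : ((Localization.Away f ⧸ I.map (algebraMap R (Localization.Away f)))
      ⊗[Localization.Away f] S) →ₐ[Localization.Away f] (R ⧸ I) ⊗[R] S :=
    Algebra.TensorProduct.lift φQ φS (fun _ _ => Commute.all _ _)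
  let ψ : k'' →+* (R ⧸ I) ⊗[R] S := χ.toRingHom.comp ε.symm.toAlgHom.toRingHom
  letI iψ : Algebra k'' ((R ⧸ I) ⊗[R] S) := ψ.toAlgebra
  haveI : IsScalarTower (R ⧸ I) k'' ((R ⧸ I) ⊗[R] S) := by
    refine IsScalarTower.of_algebraMap_eq (fun y => ?_)
    obtain ⟨r, rfl⟩ := Ideal.Quotient.mk_surjective y
    change _ = χ (ε.symm (algebraMap (R ⧸ I) k'' (Ideal.Quotient.mk I r)))
    have h1 : algebraMap (R ⧸ I) k'' (Ideal.Quotient.mk I r) =
        algebraMap (Localization.Away f ⧸ I.map (algebraMap R (Localization.Away f))) k''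
          (Ideal.Quotient.mk _ (algebraMap R (Localization.Away f) r)) := by
      have h2 : algebraMap (R ⧸ I) k'' (Ideal.Quotient.mk I r) = algebraMap R k'' r := rfl
      rw [h2, IsScalarTower.algebraMap_apply R (Localization.Away f) k'',
        IsScalarTower.algebraMap_apply (Localization.Away f)
          (Localization.Away f ⧸ I.map (algebraMap R (Localization.Away f))) k'']
      rfl
    rw [h1, AlgEquiv.commutes, Algebra.TensorProduct.algebraMap_apply,
      Algebra.TensorProduct.algebraMap_apply]
    change _ = φQ (Ideal.Quotient.mk _ (algebraMap R (Localization.Away f) r)) * φS 1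
    rw [map_one, mul_one]
    change _ = algebraMap (Localization.Away f) ((R ⧸ I) ⊗[R] S)
      (algebraMap R (Localization.Away f) r)
    rw [hRKS]
    rfl
  have hDS : IsDiag ((R ⧸ I) ⊗[R] S) (((R ⧸ I) ⊗[R] S) ⊗[R ⧸ I] A₀) :=
    BCB.isDiag_baseChange_of_tower (R ⧸ I) A₀ k'' ((R ⧸ I) ⊗[R] S) a1
  obtain ⟨M, _, ⟨ϑ⟩⟩ := hDS
  exact ⟨{ S := S, ff := hffS, M := M, ϑ := ϑ }⟩

end Local

section Main

variable (R : Type u) [CommRing R] (I : Ideal R) (hI : ∀ x ∈ I, IsNilpotent x)
  (A₀ : Type u) [CommRing A₀] [HopfAlgebra (R ⧸ I) A₀]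

include hI in
theorem main (h0 : IsQuasiIsotrivial (R ⧸ I) A₀) :
    ∃ (A : Type u) (_ : CommRing A) (_ : HopfAlgebra R A),
      IsQuasiIsotrivial R A ∧ Nonempty (((R ⧸ I) ⊗[R] A) ≃ₐc[R ⧸ I] A₀) := by
  classical
  obtain ⟨sbar, hsbar, hq⟩ := h0
  have hs := span_preimage_eq_top I hI sbar hsbar
  obtain ⟨t, htsub, htspan⟩ := (Ideal.span_eq_top_iff_finite _).mp hs
  have hloc : ∀ f : ↥t, Nonempty (LocData R I A₀ (f : R)) :=
    fun f => nonempty_locData I hI (f : R) (hq _ (htsub f.2))
  let d : ∀ f : ↥t, LocData R I A₀ (f : R) := fun f => Classical.choice (hloc f)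
  letI : Algebra R A₀ := ((algebraMap (R ⧸ I) A₀).comp (algebraMap R (R ⧸ I))).toAlgebra
  haveI : IsScalarTower R (R ⧸ I) A₀ := IsScalarTower.of_algebraMap_eq (fun _ => rfl)
  haveI : Module.FaithfullyFlat R (∀ f : ↥t, (d f).S) :=
    faithfullyFlat_pi (fun f : ↥t => (f : R)) (by simpa using htspan) (fun f => (d f).S)
      (fun f => (d f).ff)
  obtain ⟨A, _, _, ⟨e⟩, hA⟩ := Groth.Agent.Lib.R2H7.QIsoCore.exists_lift I hI
    (fun f : ↥t => (d f).S) (fun f => (d f).M) (fun f => (d f).ϑ)
  refine ⟨A, inferInstance, inferInstance, ?_, ⟨e⟩⟩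
  apply isQuasiIsotrivial_of_nil I hI
  · refine ⟨(t : Set R), htspan, fun f hf => ?_⟩
    obtain ⟨Θ⟩ := hA ⟨f, hf⟩
    exact ⟨(d ⟨f, hf⟩).S, inferInstance, inferInstance, (d ⟨f, hf⟩).ff,
      BCB.isDiag_of_equiv (BCB.cancelBC R (Localization.Away f) (d ⟨f, hf⟩).S A)
        ⟨(d ⟨f, hf⟩).M, inferInstance, ⟨Θ⟩⟩⟩
  · exact isQuasiIsotrivial_of_equiv e ⟨sbar, hsbar, hq⟩

end Main

end Groth.Agent.Lib.R2H7.QIsoMain
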