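import Mathlib
import Groth.Prelude.Def_SGA3b
import Groth.Agent.Lib.R2H7HomLift4
import Groth.Agent.Lib.R2H7QIsoMain

/-!
# R2H7HomLift5: lifting homomorphisms into a quasi-isotrivial group of multiplicative type along a nilpotent ideal

`C`, `B` Hopf algebras over `A`, `I` an ideal of `A`, `φ₀` a homomorphism over `A/I`.  For an `A`-algebra `X` in
which `I X` is nilpotent, with `X ⊗ B` of multiplicative type and `X ⊗ C` quasi-isotrivial, there is exactly one
homomorphism over `X` lifting `φ₀` (`exists_isLiftOf`, `IsLiftOf.unique_of_isMultType`).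
-/

set_option autoImplicit false
universe u

namespace Groth.Agent.Lib.R2H7.HomLift

open TensorProduct Coalgebra SGA3b Groth.Agent.Lib.Helper25 Groth.Agent.Lib.R2H7.GLLift
  Groth.Agent.Lib.R2H7.GLGlue

section MT

variable {S : Type u} [CommRing S] {H H' : Type u} [CommRing H] [HopfAlgebra S H] [CommRing H']
  [HopfAlgebra S H']

theorem isMultType_of_equiv (e : H ≃ₐc[S] H') (h : IsMultType S H') : IsMultType S H := by
  obtain ⟨s, hs, h⟩ := h
  exact ⟨s, hs, fun f hf =>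
    isMultTypeConst_of_equiv (BCB.bcEquiv (Localization.Away f) e) (h f hf)⟩

theorem isMultTypeConst_of_isQuasiIsotrivialConst (h : IsQuasiIsotrivialConst S H) :
    IsMultTypeConst S H := by
  obtain ⟨R', _, _, -, hff, hD⟩ := h
  exact ⟨R', inferInstance, inferInstance, hff, hD⟩

theorem isMultType_of_isQuasiIsotrivial (h : IsQuasiIsotrivial S H) : IsMultType S H := by
  obtain ⟨s, hs, h⟩ := h
  exact ⟨s, hs, fun f hf => isMultTypeConst_of_isQuasiIsotrivialConst (h f hf)⟩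

open Algebra.TensorProduct in
/-- Quasi-isotriviality with constant type is stable under base change. -/
theorem isQuasiIsotrivialConst_baseChange (T : Type u) [CommRing T] [Algebra S T]
    (h : IsQuasiIsotrivialConst S H) : IsQuasiIsotrivialConst T (T ⊗[S] H) := by
  obtain ⟨S', _, _, het, hff, hD⟩ := h
  letI : Algebra S' (T ⊗[S] S') := Algebra.TensorProduct.rightAlgebra
  haveI : IsScalarTower S S' (T ⊗[S] S') := Algebra.TensorProduct.right_isScalarTower
  have h1 : IsDiag (T ⊗[S] S') ((T ⊗[S] S') ⊗[S] H) :=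
    BCB.isDiag_baseChange_of_tower S H S' (T ⊗[S] S') hD
  refine ⟨T ⊗[S] S', inferInstance, inferInstance, inferInstance, inferInstance, ?_⟩
  exact BCB.isDiag_of_equiv (BCB.cancelBC S T (T ⊗[S] S') H) h1

/-- Quasi-isotriviality is stable under base change. -/
theorem isQuasiIsotrivial_baseChange (T : Type u) [CommRing T] [Algebra S T]
    (h : IsQuasiIsotrivial S H) : IsQuasiIsotrivial T (T ⊗[S] H) := by
  obtain ⟨s, hs, hmt⟩ := h
  refine ⟨algebraMap S T '' s, ?_, ?_⟩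
  · rw [← Ideal.map_span, hs, Ideal.map_top]
  · rintro _ ⟨f, hf, rfl⟩
    have hunit : IsUnit (algebraMap S (Localization.Away (algebraMap S T f)) f) := by
      rw [IsScalarTower.algebraMap_apply S T (Localization.Away (algebraMap S T f))]
      exact IsLocalization.Away.algebraMap_isUnit _
    let g : Localization.Away f →ₐ[S] Localization.Away (algebraMap S T f) :=
      IsLocalization.Away.liftAlgHom (A := S) (R := S) f
        (f := Algebra.ofId S (Localization.Away (algebraMap S T f))) hunit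
    letI : Algebra (Localization.Away f) (Localization.Away (algebraMap S T f)) :=
      g.toRingHom.toAlgebra
    haveI : IsScalarTower S (Localization.Away f) (Localization.Away (algebraMap S T f)) :=
      IsScalarTower.of_algebraMap_eq (fun r => (g.commutes r).symm)
    have h1 : IsQuasiIsotrivialConst (Localization.Away (algebraMap S T f))
        (Localization.Away (algebraMap S T f) ⊗[Localization.Away f]
          (Localization.Away f ⊗[S] H)) :=
      isQuasiIsotrivialConst_baseChange _ (hmt f hf)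
    have h2 : IsQuasiIsotrivialConst (Localization.Away (algebraMap S T f))
        (Localization.Away (algebraMap S T f) ⊗[S] H) :=
      QIsoMain.isQuasiIsotrivialConst_of_equiv
        (BCB.cancelBC S (Localization.Away f) (Localization.Away (algebraMap S T f)) H).symm h1
    exact QIsoMain.isQuasiIsotrivialConst_of_equiv
      (BCB.cancelBC S T (Localization.Away (algebraMap S T f)) H) h2

end MT

section Tower

variable {A : Type u} [CommRing A] (I : Ideal A) {H : Type u} [CommRing H] [HopfAlgebra A H]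
  {X T : Type u} [CommRing X] [CommRing T] [Algebra A X] [Algebra A T] [Algebra X T]
  [IsScalarTower A X T]

theorem isMultType_tower (h : IsMultType X (X ⊗[A] H)) : IsMultType T (T ⊗[A] H) :=
  isMultType_of_equiv (BCB.cancelBC A X T H).symm (IsoNil.isMultType_baseChange T h)

theorem isQuasiIsotrivial_tower (h : IsQuasiIsotrivial X (X ⊗[A] H)) :
    IsQuasiIsotrivial T (T ⊗[A] H) :=
  QIsoMain.isQuasiIsotrivial_of_equiv (BCB.cancelBC A X T H).symm
    (isQuasiIsotrivial_baseChange T h)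

theorem isNilpotent_map_of_tower (h : IsNilpotent (I.map (algebraMap A X))) :
    IsNilpotent (I.map (algebraMap A T)) := by
  obtain ⟨n, hn⟩ := h
  refine ⟨n, ?_⟩
  rw [IsScalarTower.algebraMap_eq A X T, ← Ideal.map_map, ← Ideal.map_pow, hn, Ideal.zero_eq_bot,
    Ideal.map_bot]
  rfl

omit [Algebra A T] [Algebra X T] [IsScalarTower A X T] in
theorem nil_of_isNilpotent (h : IsNilpotent (I.map (algebraMap A X))) :
    ∀ x ∈ I.map (algebraMap A X), IsNilpotent x := by
  obtain ⟨n, hn⟩ := h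
  intro x hx
  refine ⟨n, ?_⟩
  have h1 : x ^ n ∈ (I.map (algebraMap A X)) ^ n := Ideal.pow_mem_pow hx n
  rw [hn, Ideal.zero_eq_bot, Ideal.mem_bot] at h1
  exact h1

end Tower

section Rep

variable {A : Type u} [CommRing A] (I : Ideal A) {C B : Type u} [CommRing C] [HopfAlgebra A C]
  [CommRing B] [HopfAlgebra A B]
  (φ₀ : (A ⧸ I) ⊗[A] C →ₐc[A ⧸ I] (A ⧸ I) ⊗[A] B)

theorem exists_rep : ∃ b : C → B, ∀ c, (1 : A ⧸ I) ⊗ₜ[A] b c = φ₀ ((1 : A ⧸ I) ⊗ₜ[A] c) :=
  ⟨fun c => (DiagNil.one_tmul_surjective I (φ₀ ((1 : A ⧸ I) ⊗ₜ[A] c))).choose,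
    fun c => (DiagNil.one_tmul_surjective I (φ₀ ((1 : A ⧸ I) ⊗ₜ[A] c))).choose_spec⟩

variable {φ₀}

theorem isLiftOf_iff_rep (b : C → B)
    (hb : ∀ c, (1 : A ⧸ I) ⊗ₜ[A] b c = φ₀ ((1 : A ⧸ I) ⊗ₜ[A] c)) {X : Type u} [CommRing X]
    [Algebra A X] (Ψ : X ⊗[A] C →ₐc[X] X ⊗[A] B) :
    IsLiftOf I φ₀ Ψ ↔ ∀ c, Ψ ((1 : X) ⊗ₜ[A] c) - (1 : X) ⊗ₜ[A] b c ∈
      (I.map (algebraMap A X)) • (⊤ : Submodule X (X ⊗[A] B)) := by
  unfold IsLiftOf
  refine forall_congr' fun c => ?_
  rw [← hb c, Hmap_one_tmul, ← Hmap_one_tmul (red I X) (b c), Hmap_red_eq_iff]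

theorem IsLiftOf.map {X Y : Type u} [CommRing X] [CommRing Y] [Algebra A X] [Algebra A Y]
    {Ψ : X ⊗[A] C →ₐc[X] X ⊗[A] B} (h : IsLiftOf I φ₀ Ψ) (f : X →ₐ[A] Y) :
    IsLiftOf I φ₀ (HomLift.pull f Ψ) := by
  obtain ⟨b, hb⟩ := exists_rep I φ₀
  rw [isLiftOf_iff_rep I b hb] at h ⊢
  intro c
  have h1 : HomLift.pull f Ψ ((1 : Y) ⊗ₜ[A] c) - (1 : Y) ⊗ₜ[A] b c =
      Hmap B f (Ψ ((1 : X) ⊗ₜ[A] c) - (1 : X) ⊗ₜ[A] b c) := by
    rw [pull_one_tmul, map_sub, Hmap_one_tmul]
  rw [h1]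
  exact Hmap_mem_smul_top f I (h c)

theorem IsLiftOf.unique_of_isMultType {X : Type u} [CommRing X] [Algebra A X]
    (hnil : IsNilpotent (I.map (algebraMap A X))) (hB : IsMultType X (X ⊗[A] B))
    (hC : IsMultType X (X ⊗[A] C)) {Ψ Ψ' : X ⊗[A] C →ₐc[X] X ⊗[A] B}
    (h : IsLiftOf I φ₀ Ψ) (h' : IsLiftOf I φ₀ Ψ') : Ψ = Ψ' := by
  haveI := FinMult.isCocomm_of_isMultType X (X ⊗[A] C) hC
  exact eq_of_pull_red_eq I hnil (noPrimMod_of_isMultType _ _ hB) Ψ Ψ'
    (fun c => (h c).trans (h' c).symm)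

/-- Membership in `I (X ⊗ B)` can be tested after base change, part 1. -/
theorem one_tmul_mem_of_Hmap_mem {X T : Type u} [CommRing X] [CommRing T] [Algebra A X]
    [Algebra A T] [Algebra X T] [IsScalarTower A X T] (a : X ⊗[A] B)
    (h : Hmap B (IsScalarTower.toAlgHom A X T) a ∈
      (I.map (algebraMap A T)) • (⊤ : Submodule T (T ⊗[A] B))) :
    (1 : T) ⊗ₜ[X] a ∈ ((I.map (algebraMap A X)).map (algebraMap X T)) •
      (⊤ : Submodule T (T ⊗[X] (X ⊗[A] B))) := by
  have h1 : (1 : T) ⊗ₜ[X] a =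
      (BCB.cancelBC A X T B).symm (Hmap B (IsScalarTower.toAlgHom A X T) a) := by
    rw [← cancelBC_one_tmul (IsScalarTower.toAlgHom A X T) (fun _ => rfl) a,
      BialgEquiv.symm_apply_apply]
  rw [h1, Ideal.map_map, ← IsScalarTower.algebraMap_eq]
  exact DiagNil.bialgEquiv_mem_smul_top _ _ h

theorem mem_of_Hmap_mem_of_faithfullyFlat {X T : Type u} [CommRing X] [CommRing T] [Algebra A X]
    [Algebra A T] [Algebra X T] [IsScalarTower A X T] [Module.FaithfullyFlat X T] (a : X ⊗[A] B)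
    (h : Hmap B (IsScalarTower.toAlgHom A X T) a ∈
      (I.map (algebraMap A T)) • (⊤ : Submodule T (T ⊗[A] B))) :
    a ∈ (I.map (algebraMap A X)) • (⊤ : Submodule X (X ⊗[A] B)) :=
  mem_smul_top_of_one_tmul T (I.map (algebraMap A X)) a (one_tmul_mem_of_Hmap_mem I a h)

end Rep

section Main

variable {A : Type u} [CommRing A] (I : Ideal A) {C B : Type u} [CommRing C] [HopfAlgebra A C]
  [CommRing B] [HopfAlgebra A B]
  (φ₀ : (A ⧸ I) ⊗[A] C →ₐc[A ⧸ I] (A ⧸ I) ⊗[A] B)

/-- Lifting over a base where `C` is split by one étale covering. -/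
theorem exists_isLiftOf_const {Y : Type u} [CommRing Y] [Algebra A Y]
    (hnil : IsNilpotent (I.map (algebraMap A Y)))
    (hB : IsMultType Y (Y ⊗[A] B)) (hC : IsQuasiIsotrivialConst Y (Y ⊗[A] C)) :
    ∃ Ψ : Y ⊗[A] C →ₐc[Y] Y ⊗[A] B, IsLiftOf I φ₀ Ψ := by
  have hCm : IsMultType Y (Y ⊗[A] C) :=
    BCB.isMultType_of_isMultTypeConst _ _ (isMultTypeConst_of_isQuasiIsotrivialConst hC)
  obtain ⟨R', _, _, -, hff, M, _, ⟨θ⟩⟩ := hC
  letI : Algebra A R' := ((algebraMap Y R').comp (algebraMap A Y)).toAlgebra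
  haveI : IsScalarTower A Y R' := IsScalarTower.of_algebraMap_eq (fun _ => rfl)
  let θ' : R' ⊗[A] C ≃ₐc[R'] MonoidAlgebra R' M := (BCB.cancelBC A Y R' C).symm.trans θ
  have hnilR : IsNilpotent (I.map (algebraMap A R')) := isNilpotent_map_of_tower I hnil
  have hBR : IsMultType R' (R' ⊗[A] B) := isMultType_tower hB
  obtain ⟨Ψ', hΨ'⟩ := exists_isLiftOf_of_diag I φ₀
    (liftGL_of_isMultType hBR _ (nil_of_isNilpotent I hnilR))
    (uniqGL_of_isMultType hBR _ (nil_of_isNilpotent I hnilR)) θ'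
  -- the cocycle condition
  have hnilZ : IsNilpotent (I.map (algebraMap A (R' ⊗[Y] R'))) :=
    isNilpotent_map_of_tower (X := Y) (T := R' ⊗[Y] R') I hnil
  have hBZ : IsMultType (R' ⊗[Y] R') ((R' ⊗[Y] R') ⊗[A] B) :=
    isMultType_tower (X := Y) (T := R' ⊗[Y] R') hB
  have hCZ : IsMultType (R' ⊗[Y] R') ((R' ⊗[Y] R') ⊗[A] C) :=
    isMultType_tower (X := Y) (T := R' ⊗[Y] R') hCm
  have hcoc := IsLiftOf.unique_of_isMultType I hnilZ hBZ hCZ
    (hΨ'.map I ((Algebra.TensorProduct.includeLeft : R' →ₐ[Y] R' ⊗[Y] R').restrictScalars A))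
    (hΨ'.map I ((Algebra.TensorProduct.includeRight : R' →ₐ[Y] R' ⊗[Y] R').restrictScalars A))
  obtain ⟨Φ, hΦ⟩ := descend_hom_rel (X := Y) R' Ψ' (fun c => by
    rw [← pull_one_tmul, ← pull_one_tmul, hcoc])
  refine ⟨Φ, ?_⟩
  obtain ⟨b, hb⟩ := exists_rep I φ₀
  rw [isLiftOf_iff_rep I b hb]
  intro c
  apply mem_of_Hmap_mem_of_faithfullyFlat I (T := R')
  rw [map_sub, Hmap_one_tmul, ← hΦ]
  exact (isLiftOf_iff_rep I b hb Ψ').mp hΨ' c

/-- Existence of the lift. -/
theorem exists_isLiftOf {X : Type u} [CommRing X] [Algebra A X]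
    (hnil : IsNilpotent (I.map (algebraMap A X)))
    (hB : IsMultType X (X ⊗[A] B)) (hC : IsQuasiIsotrivial X (X ⊗[A] C)) :
    ∃ Ψ : X ⊗[A] C →ₐc[X] X ⊗[A] B, IsLiftOf I φ₀ Ψ := by
  classical
  have hCm : IsMultType X (X ⊗[A] C) := isMultType_of_isQuasiIsotrivial hC
  obtain ⟨s, hs, hq⟩ := hC
  obtain ⟨t, hts, ht⟩ := (Ideal.span_eq_top_iff_finite s).mp hs
  have hex : ∀ f : X, ∃ Ψ : Localization.Away f ⊗[A] C →ₐc[Localization.Away f]
      Localization.Away f ⊗[A] B, f ∈ s → IsLiftOf I φ₀ Ψ := by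
    intro f
    by_cases hf : f ∈ s
    · have hq' : IsQuasiIsotrivialConst (Localization.Away f) (Localization.Away f ⊗[A] C) :=
        QIsoMain.isQuasiIsotrivialConst_of_equiv
          (BCB.cancelBC A X (Localization.Away f) C).symm (hq f hf)
      obtain ⟨Ψ, hΨ⟩ := exists_isLiftOf_const I φ₀ (isNilpotent_map_of_tower I hnil)
        (isMultType_tower hB) hq'
      exact ⟨Ψ, fun _ => hΨ⟩
    · exact ⟨(Bialgebra.unitBialgHom _ _).comp (Bialgebra.counitBialgHom _ _),
        fun h => absurd h hf⟩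
  choose Ψ hΨ using hex
  obtain ⟨Φ, hΦ⟩ := glue_hom_rel t ht Ψ (fun f hf f' hf' c => by
    rw [← pull_one_tmul, ← pull_one_tmul]
    have := IsLiftOf.unique_of_isMultType I
      (isNilpotent_map_of_tower (T := Localization.Away (f * f')) I hnil)
      (isMultType_tower hB) (isMultType_tower hCm)
      ((hΨ f (hts hf)).map I ((awayL f f').restrictScalars A))
      ((hΨ f' (hts hf')).map I ((awayR f f').restrictScalars A))
    rw [this])
  refine ⟨Φ, ?_⟩
  obtain ⟨b, hb⟩ := exists_rep I φ₀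
  rw [isLiftOf_iff_rep I b hb]
  intro c
  apply mem_smul_top_of_span (t : Set X) ht
  intro f hf
  apply one_tmul_mem_of_Hmap_mem I
  rw [map_sub, Hmap_one_tmul, ← hΦ f hf]
  exact (isLiftOf_iff_rep I b hb (Ψ f)).mp (hΨ f (hts hf)) c

end Main

end Groth.Agent.Lib.R2H7.HomLift
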