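import Mathlib
import Groth.Prelude.Def_SGA3b
import Groth.Agent.Lib.R2H7HomLift5
import Groth.Agent.Lib.R2H7FormalHom6
import Groth.Agent.Lib.R2H7FlatQIso

/-!
# R2H7HomLift6: homomorphisms from an isotrivial group of multiplicative type over a complete base

`A` noetherian and `I`-adically complete, `B` isotrivial, `C` a Hopf algebra flat at the points over `V(I)` whose
reduction modulo `I` is quasi-isotrivial of multiplicative type.  Then reduction modulo `I` is a bijection on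
homomorphisms `C → B`.

* `eq_levels_of_eq_mod`: two homomorphisms which agree modulo `I` agree modulo all `I ^ (n + 1)`.
* `exists_hom_of_mod`: every homomorphism modulo `I` lifts.
-/

set_option autoImplicit false
universe u

namespace Groth.Agent.Lib.R2H7.HomLift

open TensorProduct Coalgebra SGA3b Groth.Agent.Lib.Helper25 Groth.Agent.Lib.R2H7.GLLift
  Groth.Agent.Lib.R2H7.GLGlue

section Bc

variable {A : Type u} [CommRing A] (I : Ideal A) {C B : Type u} [CommRing C] [HopfAlgebra A C]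
  [CommRing B] [HopfAlgebra A B]

theorem bcHom_one_tmul (X : Type u) [CommRing X] [Algebra A X] (φ : C →ₐc[A] B) (c : C) :
    DiagNil.bcHom X φ ((1 : X) ⊗ₜ[A] c) = (1 : X) ⊗ₜ[A] φ c := rfl

theorem isLiftOf_bcHom (φ ψ : C →ₐc[A] B)
    (h : ∀ c : C, (1 : A ⧸ I) ⊗ₜ[A] (φ c) = (1 : A ⧸ I) ⊗ₜ[A] (ψ c))
    (X : Type u) [CommRing X] [Algebra A X] :
    IsLiftOf I (DiagNil.bcHom (A ⧸ I) φ) (DiagNil.bcHom X ψ) := by
  intro c
  rw [bcHom_one_tmul, bcHom_one_tmul, h c, Hmap_one_tmul, Hmap_one_tmul]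

end Bc

section Levels

variable {A : Type u} [CommRing A] (I : Ideal A) {C B : Type u} [CommRing C] [HopfAlgebra A C]
  [CommRing B] [HopfAlgebra A B]

theorem isNilpotent_level (n : ℕ) : IsNilpotent (I.map (algebraMap A (A ⧸ I ^ (n + 1)))) :=
  ⟨n + 1, by rw [FormalHom.map_pow_succ_eq_bot]; rfl⟩

/-- The reduction of `X ⊗ C` modulo `I X` is quasi-isotrivial. -/
theorem isQuasiIsotrivial_red (X : Type u) [CommRing X] [Algebra A X]
    (h0 : IsQuasiIsotrivial (A ⧸ I) ((A ⧸ I) ⊗[A] C)) :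
    IsQuasiIsotrivial (X ⧸ I.map (algebraMap A X))
      ((X ⧸ I.map (algebraMap A X)) ⊗[X] (X ⊗[A] C)) := by
  letI : Algebra (A ⧸ I) (X ⧸ I.map (algebraMap A X)) := (iota I X).toRingHom.toAlgebra
  haveI : IsScalarTower A (A ⧸ I) (X ⧸ I.map (algebraMap A X)) :=
    IsScalarTower.of_algebraMap_eq (fun r => ((iota I X).commutes r).symm)
  have h1 : IsQuasiIsotrivial (X ⧸ I.map (algebraMap A X))
      ((X ⧸ I.map (algebraMap A X)) ⊗[A] C) :=
    isQuasiIsotrivial_tower (X := A ⧸ I) (T := X ⧸ I.map (algebraMap A X)) h0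
  exact QIsoMain.isQuasiIsotrivial_of_equiv (BCB.cancelBC A X (X ⧸ I.map (algebraMap A X)) C) h1

theorem isQuasiIsotrivial_level
    (hfl : ∀ (q : Ideal C) [q.IsPrime], Ideal.map (algebraMap A C) I ≤ q →
      Module.Flat A (Localization.AtPrime q))
    (h0 : IsQuasiIsotrivial (A ⧸ I) ((A ⧸ I) ⊗[A] C)) (n : ℕ) :
    IsQuasiIsotrivial (A ⧸ I ^ (n + 1)) ((A ⧸ I ^ (n + 1)) ⊗[A] C) := by
  haveI : Module.Flat (A ⧸ I ^ (n + 1)) ((A ⧸ I ^ (n + 1)) ⊗[A] C) :=
    FormalHom.flat_level I hfl n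
  exact FlatQIso.isQuasiIsotrivial_of_flat (I.map (algebraMap A (A ⧸ I ^ (n + 1))))
    (isNilpotent_level I n) (isQuasiIsotrivial_red I _ h0)

theorem isMultType_level (hB : IsMultType A B) (n : ℕ) :
    IsMultType (A ⧸ I ^ (n + 1)) ((A ⧸ I ^ (n + 1)) ⊗[A] B) :=
  IsoNil.isMultType_baseChange _ hB

/-- Two homomorphisms which agree modulo `I` agree modulo all powers of `I`. -/
theorem eq_levels_of_eq_mod (hB : IsMultType A B)
    (hfl : ∀ (q : Ideal C) [q.IsPrime], Ideal.map (algebraMap A C) I ≤ q →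
      Module.Flat A (Localization.AtPrime q))
    (h0 : IsQuasiIsotrivial (A ⧸ I) ((A ⧸ I) ⊗[A] C)) (φ ψ : C →ₐc[A] B)
    (h : ∀ c : C, (1 : A ⧸ I) ⊗ₜ[A] (φ c) = (1 : A ⧸ I) ⊗ₜ[A] (ψ c)) (n : ℕ) (c : C) :
    (1 : A ⧸ I ^ (n + 1)) ⊗ₜ[A] (φ c) = (1 : A ⧸ I ^ (n + 1)) ⊗ₜ[A] (ψ c) := by
  have h1 := IsLiftOf.unique_of_isMultType I (isNilpotent_level I n) (isMultType_level I hB n)
    (isMultType_of_isQuasiIsotrivial (isQuasiIsotrivial_level I hfl h0 n))
    (isLiftOf_bcHom I φ φ (fun _ => rfl) (A ⧸ I ^ (n + 1)))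
    (isLiftOf_bcHom I φ ψ h (A ⧸ I ^ (n + 1)))
  have h2 := congrArg (fun Θ : (A ⧸ I ^ (n + 1)) ⊗[A] C →ₐc[A ⧸ I ^ (n + 1)]
    (A ⧸ I ^ (n + 1)) ⊗[A] B => Θ ((1 : A ⧸ I ^ (n + 1)) ⊗ₜ[A] c)) h1
  exact h2

theorem mem_smul_top_of_Hmap_red_mem {X : Type u} [CommRing X] [Algebra A X] (z : X ⊗[A] B)
    (h : Hmap B (red I X) z ∈ (I.map (algebraMap A (X ⧸ I.map (algebraMap A X)))) •
      (⊤ : Submodule (X ⧸ I.map (algebraMap A X)) ((X ⧸ I.map (algebraMap A X)) ⊗[A] B))) :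
    z ∈ (I.map (algebraMap A X)) • (⊤ : Submodule X (X ⊗[A] B)) := by
  have h1 : I.map (algebraMap A (X ⧸ I.map (algebraMap A X))) = ⊥ := by
    rw [IsScalarTower.algebraMap_eq A X (X ⧸ I.map (algebraMap A X)), ← Ideal.map_map]
    exact Ideal.map_quotient_self _
  rw [h1, Submodule.bot_smul, Submodule.mem_bot] at h
  have h2 := (Hmap_red_eq_iff I z 0).mp (by rw [h, map_zero])
  rwa [sub_zero] at h2

theorem pow_le_comap {X Y : Type u} [CommRing X] [CommRing Y] [Algebra A X] [Algebra A Y]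
    (f : X →ₐ[A] Y) (n : ℕ) :
    (I.map (algebraMap A X)) ^ n ≤ ((I.map (algebraMap A Y)) ^ n).comap f := by
  rw [← Ideal.map_le_iff_le_comap, Ideal.map_pow]
  apply Ideal.pow_right_mono
  rw [Ideal.map_le_iff_le_comap]
  apply Ideal.map_le_iff_le_comap.mpr
  intro a ha
  rw [Ideal.mem_comap, Ideal.mem_comap, AlgHom.commutes]
  exact Ideal.mem_map_of_mem _ ha

/-- The map induced on the levels. -/
noncomputable def lev {X Y : Type u} [CommRing X] [CommRing Y] [Algebra A X] [Algebra A Y]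
    (f : X →ₐ[A] Y) (n : ℕ) :
    X ⧸ (I.map (algebraMap A X)) ^ (n + 1) →ₐ[A] Y ⧸ (I.map (algebraMap A Y)) ^ (n + 1) :=
  Ideal.quotientMapₐ _ f (pow_le_comap I f (n + 1))

theorem lev_comp_mk {X Y : Type u} [CommRing X] [CommRing Y] [Algebra A X] [Algebra A Y]
    (f : X →ₐ[A] Y) (n : ℕ) :
    (lev I f n).comp (Ideal.Quotient.mkₐ A ((I.map (algebraMap A X)) ^ (n + 1))) =
      (Ideal.Quotient.mkₐ A ((I.map (algebraMap A Y)) ^ (n + 1))).comp f :=
  AlgHom.ext fun _ => rfl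

theorem pow_le_comap_ofId (S : Type u) [CommRing S] [Algebra A S] (n : ℕ) :
    I ^ n ≤ ((I.map (algebraMap A S)) ^ n).comap (Algebra.ofId A S) := by
  intro x hx
  rw [Ideal.mem_comap, ← Ideal.map_pow]
  exact Ideal.mem_map_of_mem _ hx

/-- `A / I^(n+1) → S / (I S)^(n+1)`. -/
noncomputable def levOfId (S : Type u) [CommRing S] [Algebra A S] (n : ℕ) :
    A ⧸ I ^ (n + 1) →ₐ[A] S ⧸ (I.map (algebraMap A S)) ^ (n + 1) :=
  Ideal.quotientMapₐ _ (Algebra.ofId A S) (pow_le_comap_ofId I S (n + 1))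

/-- `A`-algebra maps out of a quotient of `A` are unique. -/
theorem algHom_quot_ext {K : Ideal A} {Y : Type u} [CommRing Y] [Algebra A Y]
    (f g : A ⧸ K →ₐ[A] Y) : f = g := by
  apply Ideal.Quotient.algHom_ext
  exact BCB.algHom_self_ext A _ _

end Levels

section Kappa

variable {A : Type u} [CommRing A] {B : Type u} [CommRing B] [HopfAlgebra A B]
  {S : Type u} [CommRing S] [Algebra A S] {M : Type u} [CommGroup M]
  (e : S ⊗[A] B ≃ₐc[S] MonoidAlgebra S M)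

/-- The splitting of `B` over an `S`-algebra `T`. -/
noncomputable def kap (T : Type u) [CommRing T] [Algebra A T] [Algebra S T] [IsScalarTower A S T] :
    T ⊗[A] B ≃ₐc[T] MonoidAlgebra T M :=
  ((BCB.cancelBC A S T B).symm.trans (BCB.bcEquiv T e)).trans (BCB.steBialg S T M)

theorem kap_apply (T : Type u) [CommRing T] [Algebra A T] [Algebra S T] [IsScalarTower A S T]
    (w : T ⊗[A] B) :
    kap e T w = BCB.steBialg S T M (BCB.bcEquiv T e ((BCB.cancelBC A S T B).symm w)) := rfl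

theorem mapRingHom_smul {R R' : Type u} [CommRing R] [CommRing R'] (f : R →+* R') (a : R)
    (p : MonoidAlgebra R M) :
    MonoidAlgebra.mapRingHom M f (a • p) = f a • MonoidAlgebra.mapRingHom M f p := by
  apply MonoidAlgebra.coeff_injective
  ext m
  simp [MonoidAlgebra.coeff_mapRingHom, MonoidAlgebra.coeff_smul]

theorem ste_map {T T' : Type u} [CommRing T] [CommRing T'] [Algebra S T] [Algebra S T']
    (g : T →ₐ[S] T') (t : T) (p : MonoidAlgebra S M) :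
    BCB.steBialg S T' M ((g t) ⊗ₜ[S] p) =
      MonoidAlgebra.mapRingHom M (g : T →+* T') (BCB.steBialg S T M (t ⊗ₜ[S] p)) := by
  change MonoidAlgebra.scalarTensorEquiv S T' ((g t) ⊗ₜ[S] p) =
    MonoidAlgebra.mapRingHom M (g : T →+* T') (MonoidAlgebra.scalarTensorEquiv S T (t ⊗ₜ[S] p))
  rw [MonoidAlgebra.scalarTensorEquiv_tmul, MonoidAlgebra.scalarTensorEquiv_tmul, mapRingHom_smul]
  congr 1
  induction p using MonoidAlgebra.induction_linear with
  | zero => simp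
  | add p q hp hq => rw [map_add, map_add, map_add, hp, hq]
  | single m s =>
    rw [MonoidAlgebra.mapAlgHom_single, MonoidAlgebra.mapAlgHom_single,
      MonoidAlgebra.mapRingHom_single]
    simp

theorem kap_Hmap {T T' : Type u} [CommRing T] [CommRing T'] [Algebra A T] [Algebra S T]
    [IsScalarTower A S T] [Algebra A T'] [Algebra S T'] [IsScalarTower A S T']
    (g : T →ₐ[S] T') (w : T ⊗[A] B) :
    kap e T' (Hmap B (g.restrictScalars A) w) =
      MonoidAlgebra.mapRingHom M (g : T →+* T') (kap e T w) := by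
  rw [kap_apply, kap_apply, ← Hmap_cancelBC_symm]
  generalize (BCB.cancelBC A S T B).symm w = v
  induction v using TensorProduct.induction_on with
  | zero => simp
  | tmul t z =>
    have h1 : Hmap (S ⊗[A] B) g (t ⊗ₜ[S] z) = (g t) ⊗ₜ[S] z := by simp [Hmap]
    rw [h1, BCB.bcEquiv_tmul, BCB.bcEquiv_tmul, ste_map]
  | add v v' hv hv' => rw [map_add, map_add, map_add, hv, hv', map_add, map_add, map_add]

theorem kap_of_base {T : Type u} [CommRing T] [Algebra A T] [Algebra S T] [IsScalarTower A S T]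
    (f : S →ₐ[A] T) (hf : ∀ s, f s = algebraMap S T s) (w : S ⊗[A] B) :
    kap e T (Hmap B f w) = MonoidAlgebra.mapRingHom M (algebraMap S T) (e w) := by
  have h1 : (BCB.cancelBC A S T B).symm (Hmap B f w) = (1 : T) ⊗ₜ[S] w := by
    rw [← cancelBC_one_tmul f hf w, BialgEquiv.symm_apply_apply]
  rw [kap_apply, h1, BCB.bcEquiv_tmul]
  change MonoidAlgebra.scalarTensorEquiv S T ((1 : T) ⊗ₜ[S] e w) = _
  rw [MonoidAlgebra.scalarTensorEquiv_tmul, one_smul]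
  generalize e w = p
  induction p using MonoidAlgebra.induction_linear with
  | zero => simp
  | add p q hp hq => rw [map_add, map_add, hp, hq]
  | single m s =>
    rw [MonoidAlgebra.mapAlgHom_single, MonoidAlgebra.mapRingHom_single]
    rfl

end Kappa

section Uniq

variable {A : Type u} [CommRing A] (I : Ideal A) {C B : Type u} [CommRing C] [HopfAlgebra A C]
  [CommRing B] [HopfAlgebra A B]
  {S : Type u} [CommRing S] [Algebra A S] {M : Type u} [CommGroup M]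

/-- Over a complete `S`-algebra `W`, homomorphisms are determined by their reductions modulo all powers of `I W`. -/
theorem eq_of_levels_eq (e : S ⊗[A] B ≃ₐc[S] MonoidAlgebra S M) {W : Type u} [CommRing W] [Algebra A W] [Algebra S W] [IsScalarTower A S W]
    [IsAdicComplete (I.map (algebraMap A W)) W] (Θ Θ' : W ⊗[A] C →ₐc[W] W ⊗[A] B)
    (h : ∀ (n : ℕ) (c : C),
      Hmap B (Ideal.Quotient.mkₐ A ((I.map (algebraMap A W)) ^ (n + 1))) (Θ ((1 : W) ⊗ₜ[A] c)) =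
        Hmap B (Ideal.Quotient.mkₐ A ((I.map (algebraMap A W)) ^ (n + 1)))
          (Θ' ((1 : W) ⊗ₜ[A] c))) : Θ = Θ' := by
  apply ext_one_tmul
  intro c
  have key : ∀ (n : ℕ) (z : W ⊗[A] B),
      MonoidAlgebra.mapRingHom M (Ideal.Quotient.mk ((I.map (algebraMap A W)) ^ (n + 1)))
        (kap e W z) = kap e (W ⧸ (I.map (algebraMap A W)) ^ (n + 1))
          (Hmap B (Ideal.Quotient.mkₐ A ((I.map (algebraMap A W)) ^ (n + 1))) z) := fun n z =>
    (kap_Hmap e (Ideal.Quotient.mkₐ S ((I.map (algebraMap A W)) ^ (n + 1))) z).symm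
  have hEq : kap e W (Θ ((1 : W) ⊗ₜ[A] c)) = kap e W (Θ' ((1 : W) ⊗ₜ[A] c)) := by
    apply FormalHom.Sys.eq_of_red_eq (I := I.map (algebraMap A W))
    intro n
    rw [key, key, h n c]
  have h2 := congrArg (kap e W).symm hEq
  rwa [BialgEquiv.symm_apply_apply, BialgEquiv.symm_apply_apply] at h2

end Uniq

section Compat

variable {A : Type u} [CommRing A] {C : Type u} [CommRing C] [HopfAlgebra A C]
  {S : Type u} [CommRing S] [Algebra A S] {M : Type u} [CommGroup M]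

/-- Reduction of the compatibility of level maps to the elements `1 ⊗ (1 ⊗ c)`. -/
theorem mapRingHom_ext {T T' : Type u} [CommRing T] [CommRing T'] [Algebra S T] [Algebra S T']
    (f : T →ₐ[S] T') (l : T ⊗[S] (S ⊗[A] C) →ₐc[T] MonoidAlgebra T M)
    (l' : T' ⊗[S] (S ⊗[A] C) →ₐc[T'] MonoidAlgebra T' M)
    (h : ∀ c : C, MonoidAlgebra.mapRingHom M (f : T →+* T')
      (l ((1 : T) ⊗ₜ[S] ((1 : S) ⊗ₜ[A] c))) = l' ((1 : T') ⊗ₜ[S] ((1 : S) ⊗ₜ[A] c)))
    (c' : S ⊗[A] C) :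
    MonoidAlgebra.mapRingHom M (f : T →+* T') (l ((1 : T) ⊗ₜ[S] c')) =
      l' ((1 : T') ⊗ₜ[S] c') := by
  induction c' using TensorProduct.induction_on with
  | zero => simp
  | tmul s c =>
    have h1 : s ⊗ₜ[A] c = s • ((1 : S) ⊗ₜ[A] c) := by
      rw [TensorProduct.smul_tmul', smul_eq_mul, mul_one]
    have e1 : l ((1 : T) ⊗ₜ[S] (s ⊗ₜ[A] c)) =
        (algebraMap S T s) • l ((1 : T) ⊗ₜ[S] ((1 : S) ⊗ₜ[A] c)) := by
      rw [← map_smul, algebraMap_smul, ← TensorProduct.tmul_smul, ← h1]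
    have e2 : l' ((1 : T') ⊗ₜ[S] (s ⊗ₜ[A] c)) =
        (algebraMap S T' s) • l' ((1 : T') ⊗ₜ[S] ((1 : S) ⊗ₜ[A] c)) := by
      rw [← map_smul, algebraMap_smul, ← TensorProduct.tmul_smul, ← h1]
    rw [e1, e2, mapRingHom_smul, h c]
    congr 1
    exact f.commutes s
  | add a b ha hb =>
    rw [TensorProduct.tmul_add, TensorProduct.tmul_add, map_add, map_add, map_add, ha, hb]

end Compat

section Limit

variable {A : Type u} [CommRing A] (I : Ideal A)
  {C B : Type u} [CommRing C] [HopfAlgebra A C] [CommRing B] [HopfAlgebra A B]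
  {S : Type u} [CommRing S] [Algebra A S] {M : Type u} [CommGroup M]

/-- A homomorphism over an `S`-algebra `T`, written with values in the group algebra. -/
noncomputable def lamOf (e : S ⊗[A] B ≃ₐc[S] MonoidAlgebra S M) (T : Type u) [CommRing T]
    [Algebra A T] [Algebra S T] [IsScalarTower A S T] (Ψ : T ⊗[A] C →ₐc[T] T ⊗[A] B) :
    T ⊗[S] (S ⊗[A] C) →ₐc[T] MonoidAlgebra T M :=
  ((kap e T : T ⊗[A] B →ₐc[T] MonoidAlgebra T M)).comp
    (Ψ.comp (BCB.cancelBC A S T C : T ⊗[S] (S ⊗[A] C) →ₐc[T] T ⊗[A] C))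

theorem lamOf_one_tmul (e : S ⊗[A] B ≃ₐc[S] MonoidAlgebra S M) (T : Type u) [CommRing T]
    [Algebra A T] [Algebra S T] [IsScalarTower A S T] (Ψ : T ⊗[A] C →ₐc[T] T ⊗[A] B) (c : C) :
    lamOf e T Ψ ((1 : T) ⊗ₜ[S] ((1 : S) ⊗ₜ[A] c)) = kap e T (Ψ ((1 : T) ⊗ₜ[A] c)) := by
  change kap e T (Ψ (BCB.cancelBC A S T C ((1 : T) ⊗ₜ[S] ((1 : S) ⊗ₜ[A] c)))) = _
  rw [BCB.cancelBC_tmul, one_smul]

theorem lamOf_compat (e : S ⊗[A] B ≃ₐc[S] MonoidAlgebra S M) {T T' : Type u} [CommRing T]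
    [CommRing T'] [Algebra A T] [Algebra S T] [IsScalarTower A S T] [Algebra A T'] [Algebra S T']
    [IsScalarTower A S T'] (g : T →ₐ[S] T') (g' : T →+* T') (hg : ∀ x, g' x = g x)
    (Ψ : T ⊗[A] C →ₐc[T] T ⊗[A] B)
    (Ψ' : T' ⊗[A] C →ₐc[T'] T' ⊗[A] B) (h : pull (g.restrictScalars A) Ψ = Ψ')
    (c' : S ⊗[A] C) (m : M) :
    g' ((lamOf e T Ψ ((1 : T) ⊗ₜ[S] c')).coeff m) =
      (lamOf e T' Ψ' ((1 : T') ⊗ₜ[S] c')).coeff m := by
  rw [hg, ← mapRingHom_ext g (lamOf e T Ψ) (lamOf e T' Ψ') (fun c => by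
    rw [lamOf_one_tmul, lamOf_one_tmul, ← kap_Hmap, ← pull_one_tmul, h]) c',
    MonoidAlgebra.coeff_mapRingHom]
  rfl

set_option maxRecDepth 8000 in
/-- A compatible system of homomorphisms over the `S / (I S)^(n+1)` comes from a homomorphism over `S`. -/
theorem exists_limit [IsNoetherianRing S] [IsAdicComplete (I.map (algebraMap A S)) S]
    (e : S ⊗[A] B ≃ₐc[S] MonoidAlgebra S M)
    (Ψ : ∀ n : ℕ, (S ⧸ (I.map (algebraMap A S)) ^ (n + 1)) ⊗[A] C →ₐc[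
      S ⧸ (I.map (algebraMap A S)) ^ (n + 1)] (S ⧸ (I.map (algebraMap A S)) ^ (n + 1)) ⊗[A] B)
    (hΨ : ∀ n : ℕ, pull ((Ideal.Quotient.factorₐ S
      (Ideal.pow_le_pow_right (Nat.le_succ (n + 1))) :
        S ⧸ (I.map (algebraMap A S)) ^ (n + 1 + 1) →ₐ[S]
          S ⧸ (I.map (algebraMap A S)) ^ (n + 1)).restrictScalars A) (Ψ (n + 1)) = Ψ n) :
    ∃ Φ' : S ⊗[A] C →ₐc[S] S ⊗[A] B, ∀ n : ℕ,
      pull (Ideal.Quotient.mkₐ A ((I.map (algebraMap A S)) ^ (n + 1))) Φ' = Ψ n := by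
  have hlam : ∀ (n : ℕ) (c' : S ⊗[A] C) (m : M),
      Ideal.Quotient.factor (Ideal.pow_le_pow_right (Nat.le_succ (n + 1)))
        ((lamOf e (S ⧸ (I.map (algebraMap A S)) ^ (n + 1 + 1)) (Ψ (n + 1))
          ((1 : S ⧸ (I.map (algebraMap A S)) ^ (n + 1 + 1)) ⊗ₜ[S] c')).coeff m) =
        (lamOf e (S ⧸ (I.map (algebraMap A S)) ^ (n + 1)) (Ψ n)
          ((1 : S ⧸ (I.map (algebraMap A S)) ^ (n + 1)) ⊗ₜ[S] c')).coeff m := fun n c' m =>
    lamOf_compat e
      (Ideal.Quotient.factorₐ S (Ideal.pow_le_pow_right (Nat.le_succ (n + 1))) :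
        S ⧸ (I.map (algebraMap A S)) ^ (n + 1 + 1) →ₐ[S] S ⧸ (I.map (algebraMap A S)) ^ (n + 1))
      (Ideal.Quotient.factor (Ideal.pow_le_pow_right (Nat.le_succ (n + 1))) :
        S ⧸ (I.map (algebraMap A S)) ^ (n + 1 + 1) →+* S ⧸ (I.map (algebraMap A S)) ^ (n + 1))
      (fun _ => rfl) (Ψ (n + 1)) (Ψ n) (hΨ n) c' m
  obtain ⟨Φ, hΦ⟩ := FormalHom.exists_limHom_of_levels (A := S) (I := I.map (algebraMap A S))
    (C := S ⊗[A] C) (M := M)
    (fun n => lamOf e (S ⧸ (I.map (algebraMap A S)) ^ (n + 1)) (Ψ n)) hlam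
  refine ⟨(e.symm : MonoidAlgebra S M →ₐc[S] S ⊗[A] B).comp Φ, fun n => ?_⟩
  have heΦ' : ∀ z, e (((e.symm : MonoidAlgebra S M →ₐc[S] S ⊗[A] B).comp Φ) z) = Φ z :=
    fun z => e.apply_symm_apply (Φ z)
  apply ext_one_tmul
  intro c
  rw [pull_one_tmul]
  have h1 : kap e (S ⧸ (I.map (algebraMap A S)) ^ (n + 1))
      (Hmap B (Ideal.Quotient.mkₐ A ((I.map (algebraMap A S)) ^ (n + 1)))
        (((e.symm : MonoidAlgebra S M →ₐc[S] S ⊗[A] B).comp Φ) ((1 : S) ⊗ₜ[A] c))) =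
      kap e (S ⧸ (I.map (algebraMap A S)) ^ (n + 1))
        (Ψ n ((1 : S ⧸ (I.map (algebraMap A S)) ^ (n + 1)) ⊗ₜ[A] c)) := by
    rw [kap_of_base e _ (fun _ => rfl), heΦ', ← lamOf_one_tmul]
    exact hΦ n _
  have h2 := congrArg (kap e (S ⧸ (I.map (algebraMap A S)) ^ (n + 1))).symm h1
  rwa [BialgEquiv.symm_apply_apply, BialgEquiv.symm_apply_apply] at h2

end Limit

section Exist

variable {A : Type u} [CommRing A] [IsNoetherianRing A] (I : Ideal A) [IsAdicComplete I A]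
  {C B : Type u} [CommRing C] [HopfAlgebra A C] [CommRing B] [HopfAlgebra A B]

set_option maxRecDepth 8000 in
/-- Every homomorphism modulo `I` lifts. -/
theorem exists_hom_of_mod (hG : IsIsotrivial A B)
    (hfl : ∀ (q : Ideal C) [q.IsPrime], Ideal.map (algebraMap A C) I ≤ q →
      Module.Flat A (Localization.AtPrime q))
    (h0 : IsQuasiIsotrivial (A ⧸ I) ((A ⧸ I) ⊗[A] C))
    (φ₀ : (A ⧸ I) ⊗[A] C →ₐc[A ⧸ I] (A ⧸ I) ⊗[A] B) :
    ∃ φ : C →ₐc[A] B, ∀ c : C, φ₀ ((1 : A ⧸ I) ⊗ₜ[A] c) = (1 : A ⧸ I) ⊗ₜ[A] (φ c) := by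
  classical
  have hBm : IsMultType A B := FlatQIso.isMultType_of_isIsotrivial hG
  obtain ⟨S, _, _, -, hfin, hff, M, _, ⟨e⟩⟩ := hG
  -- the levels over `A`
  have hnil := isNilpotent_level I
  have hBL := fun n => isMultType_level I hBm n
  have hCL := fun n => isQuasiIsotrivial_level I hfl h0 n
  have hex : ∀ n : ℕ, ∃ Ψ : (A ⧸ I ^ (n + 1)) ⊗[A] C →ₐc[A ⧸ I ^ (n + 1)]
      (A ⧸ I ^ (n + 1)) ⊗[A] B, IsLiftOf I φ₀ Ψ :=
    fun n => exists_isLiftOf I φ₀ (hnil n) (hBL n) (hCL n)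
  choose φ hφ using hex
  have hcompat : ∀ n : ℕ, pull (Ideal.Quotient.factorₐ A
      (Ideal.pow_le_pow_right (Nat.le_succ (n + 1)))) (φ (n + 1)) = φ n := fun n =>
    IsLiftOf.unique_of_isMultType I (hnil n) (hBL n)
      (isMultType_of_isQuasiIsotrivial (hCL n)) ((hφ (n + 1)).map I _) (hφ n)
  -- over `S`
  haveI : IsNoetherianRing S := Algebra.FiniteType.isNoetherianRing A S
  haveI : IsAdicComplete (I.map (algebraMap A S)) S :=
    FormalHom.isAdicComplete_map_of_finite I S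
  let Ψ : ∀ n : ℕ, (S ⧸ (I.map (algebraMap A S)) ^ (n + 1)) ⊗[A] C →ₐc[
      S ⧸ (I.map (algebraMap A S)) ^ (n + 1)] (S ⧸ (I.map (algebraMap A S)) ^ (n + 1)) ⊗[A] B :=
    fun n => pull (levOfId I S n) (φ n)
  have hΨcompat : ∀ n : ℕ, pull ((Ideal.Quotient.factorₐ S
      (Ideal.pow_le_pow_right (Nat.le_succ (n + 1))) :
        S ⧸ (I.map (algebraMap A S)) ^ (n + 1 + 1) →ₐ[S]
          S ⧸ (I.map (algebraMap A S)) ^ (n + 1)).restrictScalars A) (Ψ (n + 1)) = Ψ n := by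
    intro n
    change pull _ (pull (levOfId I S (n + 1)) (φ (n + 1))) = pull (levOfId I S n) (φ n)
    rw [pull_pull, ← hcompat n, pull_pull]
    exact pull_congr (algHom_quot_ext _ _) _
  obtain ⟨Φ', hΦ'⟩ := exists_limit I e Ψ hΨcompat
  -- the cocycle condition
  haveI : IsNoetherianRing (S ⊗[A] S) := Algebra.FiniteType.isNoetherianRing A (S ⊗[A] S)
  haveI : IsAdicComplete (I.map (algebraMap A (S ⊗[A] S))) (S ⊗[A] S) :=
    FormalHom.isAdicComplete_map_of_finite I (S ⊗[A] S)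
  have hlevel : ∀ (n : ℕ) (f : S →ₐ[A] S ⊗[A] S),
      pull (Ideal.Quotient.mkₐ A ((I.map (algebraMap A (S ⊗[A] S))) ^ (n + 1))) (pull f Φ') =
        pull ((lev I f n).comp (levOfId I S n)) (φ n) := by
    intro n f
    rw [pull_pull, ← lev_comp_mk, ← pull_pull, hΦ' n]
    exact pull_pull _ _ _
  have hcoc : pull (Algebra.TensorProduct.includeLeft : S →ₐ[A] S ⊗[A] S) Φ' =
      pull (Algebra.TensorProduct.includeRight : S →ₐ[A] S ⊗[A] S) Φ' := by
    apply eq_of_levels_eq I e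
    intro n c
    rw [← pull_one_tmul, ← pull_one_tmul, hlevel, hlevel,
      pull_congr (algHom_quot_ext
        ((lev I (Algebra.TensorProduct.includeLeft : S →ₐ[A] S ⊗[A] S) n).comp (levOfId I S n))
        ((lev I (Algebra.TensorProduct.includeRight : S →ₐ[A] S ⊗[A] S) n).comp
          (levOfId I S n))) (φ n)]
  obtain ⟨ψ, hψ⟩ := descend_hom S Φ' (fun c => by
    rw [← pull_one_tmul, ← pull_one_tmul, hcoc])
  refine ⟨ψ, fun c => ?_⟩
  obtain ⟨b, hb⟩ := exists_rep I φ₀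
  rw [← hb c]
  symm
  rw [DiagNil.one_tmul_eq_iff]
  apply mem_smul_top_of_one_tmul S I
  rw [TensorProduct.tmul_sub, ← hψ c]
  apply mem_smul_top_of_Hmap_red_mem I
  -- reduce to level `0`
  have hred : red I S = (Ideal.Quotient.factorₐ A
      (show (I.map (algebraMap A S)) ^ (0 + 1) ≤ I.map (algebraMap A S) by
        rw [zero_add, pow_one])).comp
      (Ideal.Quotient.mkₐ A ((I.map (algebraMap A S)) ^ (0 + 1))) := AlgHom.ext fun _ => rfl
  have h1 : Hmap B (Ideal.Quotient.mkₐ A ((I.map (algebraMap A S)) ^ (0 + 1)))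
      (Φ' ((1 : S) ⊗ₜ[A] c) - (1 : S) ⊗ₜ[A] b c) =
      Hmap B (levOfId I S 0) (φ 0 ((1 : A ⧸ I ^ (0 + 1)) ⊗ₜ[A] c) -
        (1 : A ⧸ I ^ (0 + 1)) ⊗ₜ[A] b c) := by
    rw [map_sub, map_sub, Hmap_one_tmul, Hmap_one_tmul, ← pull_one_tmul, hΦ' 0]
    change pull (levOfId I S 0) (φ 0) _ - _ = _
    rw [pull_one_tmul]
  rw [hred, ← Hmap_comp, h1, Hmap_comp]
  exact Hmap_mem_smul_top _ I ((isLiftOf_iff_rep I b hb (φ 0)).mp (hφ 0) c)

end Exist

end Groth.Agent.Lib.R2H7.HomLift
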