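import Mathlib
import Groth.Prelude.Def_SGA3b
import Groth.Agent.Lib.R2H7HomLift6
import Groth.Agent.Lib.R2H7QuotGL
import Groth.Agent.Lib.Helper3HenselG
import Groth.Agent.Lib.Helper25TorsQuot

/-!
# R2H7HensFinA: general lemmas for the finite part of a group over a henselian local ring

* `idem_eq_zero_of_mem_map`: an idempotent of a finite algebra over a local ring lying in the extension of
  the maximal ideal is zero.
* `quasiFiniteAt_of_finite_fibre`, `exists_idem_finite_part`: over a henselian local ring, a finite type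
  algebra with finite closed fibre splits off a finite part containing the closed fibre.
* `mem_smul_top_of_Hmap_eq_zero`: kernel of a base change along a surjection.
* `torsionIdeal_le_map_of_surjective`, `torsionIdeal_baseChange_le`: torsion ideals and quotients/base change.
* `factorAlg`, `factorHom`: factoring through surjections.
-/

set_option autoImplicit false
universe u

namespace Groth.Agent.Lib.R2H7.HensFin

open TensorProduct Coalgebra SGA3b IsLocalRing Groth.Agent.Lib.Helper25 Groth.Agent.Lib.Helper25.Tors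
  Groth.Agent.Lib.R2H7.GLLift

section Nakayama

theorem mul_mem_smul_of_mem_smul_top {A : Type*} [CommRing A] {R' : Type*} [CommRing R']
    [Algebra A R'] (I : Ideal A) (N : Ideal R') {y n : R'}
    (hy : y ∈ I • (⊤ : Submodule A R')) (hn : n ∈ N) :
    y * n ∈ I • (N.restrictScalars A) := by
  refine Submodule.smul_induction_on hy ?_ ?_
  · intro r hr t _
    rw [Algebra.smul_mul_assoc]
    exact Submodule.smul_mem_smul hr (N.mul_mem_left t hn)
  · intro x y hx hy
    rw [add_mul]
    exact Submodule.add_mem _ hx hy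

/-- An idempotent of a finite algebra over a local ring which lies in the extension of the maximal ideal
is zero. -/
theorem idem_eq_zero_of_mem_map {A : Type*} [CommRing A] [IsLocalRing A] {R' : Type*} [CommRing R']
    [Algebra A R'] [Module.Finite A R'] {g : R'} (hg : IsIdempotentElem g)
    (hm : g ∈ (maximalIdeal A).map (algebraMap A R')) : g = 0 := by
  set N : Submodule A R' := (Ideal.span {g}).restrictScalars A with hN
  have hfg : N.FG := by
    have h1 : N = LinearMap.range (LinearMap.mulLeft A g) := by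
      ext x
      rw [hN, Submodule.restrictScalars_mem, Ideal.mem_span_singleton', LinearMap.mem_range]
      constructor
      · rintro ⟨a, rfl⟩
        exact ⟨a, by rw [LinearMap.mulLeft_apply, mul_comm]⟩
      · rintro ⟨a, rfl⟩
        exact ⟨a, by rw [LinearMap.mulLeft_apply, mul_comm]⟩
    rw [h1, LinearMap.range_eq_map]
    exact Submodule.FG.map _ Module.Finite.fg_top
  have hm' : g ∈ (maximalIdeal A) • (⊤ : Submodule A R') := by
    rw [Ideal.smul_top_eq_map]
    exact hm
  have hle : N ≤ (maximalIdeal A) • N := by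
    intro x hx
    rw [hN, Submodule.restrictScalars_mem, Ideal.mem_span_singleton'] at hx
    obtain ⟨a, rfl⟩ := hx
    have h2 : a * g = g * (a * g) := by
      rw [← mul_assoc, mul_comm g a, mul_assoc, hg.eq]
    rw [h2]
    exact mul_mem_smul_of_mem_smul_top _ _ hm'
      (Ideal.mul_mem_left _ a (Ideal.mem_span_singleton_self g))
  have hbot := Submodule.eq_bot_of_le_smul_of_le_jacobson_bot (maximalIdeal A) N hfg hle
    (IsLocalRing.jacobson_eq_maximalIdeal ⊥ bot_ne_top).ge
  have h3 : g ∈ N := by
    rw [hN, Submodule.restrictScalars_mem]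
    exact Ideal.mem_span_singleton_self g
  rw [hbot] at h3
  exact (Submodule.mem_bot A).mp h3

theorem algHom_mem_map {A E Q : Type*} [CommRing A] [CommRing E] [CommRing Q] [Algebra A E]
    [Algebra A Q] (φ : E →ₐ[A] Q) (I : Ideal A) {x : E} (hx : x ∈ I.map (algebraMap A E)) :
    φ x ∈ I.map (algebraMap A Q) := by
  have h : (I.map (algebraMap A E)).map (φ : E →+* Q) = I.map (algebraMap A Q) := by
    rw [Ideal.map_map]
    congr 1
    exact φ.comp_algebraMap
  rw [← h]
  exact Ideal.mem_map_of_mem _ hx

theorem map_maximalIdeal_le {A T Q : Type*} [CommRing A] [IsLocalRing A] [CommRing T]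
    [IsLocalRing T] [CommRing Q] [Algebra A T] [Algebra T Q] [Algebra A Q] [IsScalarTower A T Q]
    [IsLocalHom (algebraMap A T)] :
    (maximalIdeal A).map (algebraMap A Q) ≤ (maximalIdeal T).map (algebraMap T Q) := by
  rw [IsScalarTower.algebraMap_eq A T Q, ← Ideal.map_map]
  exact Ideal.map_mono
    (Ideal.map_le_iff_le_comap.mpr (IsLocalRing.maximalIdeal_comap (algebraMap A T)).ge)

/-- Variant over a local `A`-algebra `T`. -/
theorem idem_eq_zero_of_mem_map' {A T Q : Type*} [CommRing A] [IsLocalRing A] [CommRing T]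
    [IsLocalRing T] [CommRing Q] [Algebra A T] [Algebra T Q] [Algebra A Q] [IsScalarTower A T Q]
    [IsLocalHom (algebraMap A T)] [Module.Finite T Q] {g : Q} (hg : IsIdempotentElem g)
    (hm : g ∈ (maximalIdeal A).map (algebraMap A Q)) : g = 0 :=
  idem_eq_zero_of_mem_map (A := T) hg (map_maximalIdeal_le hm)

end Nakayama

section FinPart

theorem quasiFiniteAt_of_finite_fibre {R : Type*} [CommRing R] [IsLocalRing R] {S : Type*}
    [CommRing S] [Algebra R S] [Algebra.FiniteType R S]
    (hfin : Module.Finite R (S ⧸ (maximalIdeal R).map (algebraMap R S)))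
    (q : Ideal S) [q.IsPrime] (hq : q.LiesOver (maximalIdeal R)) : Algebra.QuasiFiniteAt R q := by
  haveI : Module.Finite R (S ⧸ (q.under R).map (algebraMap R S)) := by
    rw [← hq.over]
    exact hfin
  haveI : Algebra.WeaklyQuasiFiniteAt R q := inferInstance
  exact Algebra.QuasiFiniteAt.of_weaklyQuasiFiniteAt q

/-- Over a henselian local ring, a finite type algebra with finite closed fibre has an idempotent `f` in the
extension of the maximal ideal such that `S / (f)` is finite. -/
theorem exists_idem_finite_part (R : Type u) [CommRing R] [HenselianLocalRing R] (S : Type u)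
    [CommRing S] [Algebra R S] [Algebra.FiniteType R S]
    (hfin : Module.Finite R (S ⧸ (maximalIdeal R).map (algebraMap R S))) :
    ∃ f : S, IsIdempotentElem f ∧ f ∈ (maximalIdeal R).map (algebraMap R S) ∧
      Module.Finite R (S ⧸ Ideal.span {f}) := by
  obtain ⟨e, he, hfinE, hnq⟩ := Groth.Agent.Lib.Helper3.Hensel.finiteType_split R S
  refine ⟨1 - e, he.one_sub, ?_, hfinE⟩
  have htop : Ideal.map (algebraMap R (S ⧸ Ideal.span {e})) (maximalIdeal R) = ⊤ := by
    by_contra hne
    obtain ⟨M, hM, hle⟩ := Ideal.exists_le_maximal _ hne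
    haveI := hM.isPrime
    have hl : M.LiesOver (maximalIdeal R) :=
      Groth.Agent.Lib.Helper3.Hensel.under_eq_of_map_le M hle
    have hfin' : Module.Finite R ((S ⧸ Ideal.span {e}) ⧸
        (maximalIdeal R).map (algebraMap R (S ⧸ Ideal.span {e}))) := by
      haveI := hfin
      let ψ : (S ⧸ (maximalIdeal R).map (algebraMap R S)) →ₐ[R]
          ((S ⧸ Ideal.span {e}) ⧸ (maximalIdeal R).map (algebraMap R (S ⧸ Ideal.span {e}))) :=
        Ideal.quotientMapₐ _ (Ideal.Quotient.mkₐ R (Ideal.span {e})) (by
          intro x hx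
          exact algHom_mem_map (Ideal.Quotient.mkₐ R (Ideal.span {e})) _ hx)
      have hψ : Function.Surjective ψ := by
        intro y
        obtain ⟨y', rfl⟩ := Ideal.Quotient.mk_surjective y
        obtain ⟨s, rfl⟩ := Ideal.Quotient.mk_surjective y'
        exact ⟨Ideal.Quotient.mk _ s, rfl⟩
      exact Module.Finite.of_surjective ψ.toLinearMap hψ
    exact hnq M hl (quasiFiniteAt_of_finite_fibre hfin' M hl)
  have h1 : (1 : S ⧸ Ideal.span {e}) ∈
      Ideal.map (algebraMap R (S ⧸ Ideal.span {e})) (maximalIdeal R) := by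
    rw [htop]
    exact Submodule.mem_top
  have h2 : Ideal.map (algebraMap R (S ⧸ Ideal.span {e})) (maximalIdeal R) =
      ((maximalIdeal R).map (algebraMap R S)).map (Ideal.Quotient.mk (Ideal.span {e})) := by
    rw [Ideal.map_map]
    rfl
  rw [h2, Ideal.mem_map_iff_of_surjective _ Ideal.Quotient.mk_surjective] at h1
  obtain ⟨x, hx, hx1⟩ := h1
  have h3 : x - 1 ∈ Ideal.span {e} := by
    rw [← Ideal.Quotient.eq_zero_iff_mem, map_sub, hx1, map_one, sub_self]
  obtain ⟨a, ha⟩ := Ideal.mem_span_singleton'.mp h3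
  have h4 : 1 - e = (1 - e) * x := by
    have : x = 1 + a * e := by rw [ha]; ring
    rw [this]
    have he' : e * e = e := he.eq
    linear_combination a * he'
  rw [h4]
  exact Ideal.mul_mem_left _ _ hx

end FinPart

section Mod

variable {R : Type u} [CommRing R] (B : Type u) [CommRing B] [HopfAlgebra R B]

theorem mem_smul_top_of_Hmap_eq_zero {S T : Type u} [CommRing S] [CommRing T] [Algebra R S]
    [Algebra R T] (μ : S →ₐ[R] T) (hμ : Function.Surjective μ) (K : Ideal S)
    (hK : ∀ s, μ s = 0 → s ∈ K) (z : S ⊗[R] B) (hz : Hmap B μ z = 0) :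
    z ∈ K • (⊤ : Submodule S (S ⊗[R] B)) := by
  have h1 := rTensor_exact B (LinearMap.exact_subtype_ker_map μ.toLinearMap) hμ
  have hz' : LinearMap.rTensor B μ.toLinearMap z = 0 := by
    rw [← Groth.Agent.Lib.R2H7.GLGlue.Hmap_eq_rTensor B]
    exact hz
  have key : ∀ w : (LinearMap.ker μ.toLinearMap) ⊗[R] B,
      LinearMap.rTensor B (LinearMap.ker μ.toLinearMap).subtype w ∈
        K • (⊤ : Submodule S (S ⊗[R] B)) := by
    intro w
    induction w using TensorProduct.induction_on with
    | zero => simp
    | tmul κ b =>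
      rw [LinearMap.rTensor_tmul]
      have h2 : ((LinearMap.ker μ.toLinearMap).subtype κ) ⊗ₜ[R] b =
          (κ : S) • ((1 : S) ⊗ₜ[R] b) := by
        rw [TensorProduct.smul_tmul', smul_eq_mul, mul_one]
        rfl
      rw [h2]
      exact Submodule.smul_mem_smul (hK _ κ.2) Submodule.mem_top
    | add x y hx hy =>
      rw [map_add]
      exact add_mem hx hy
  obtain ⟨w, rfl⟩ := (h1 z).mp hz'
  exact key w

end Mod

section Torsion

variable {R : Type u} [CommRing R] {A B : Type u} [CommRing A] [HopfAlgebra R A] [CommRing B]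
  [HopfAlgebra R B]

theorem torsionIdeal_le_map_of_surjective (f : A →ₐc[R] B) (hf : Function.Surjective f) (n : ℕ) :
    torsionIdeal R B n ≤ (torsionIdeal R A n).map (f : A →+* B) := by
  unfold torsionIdeal
  rw [Ideal.map_le_iff_le_comap]
  intro b hb
  rw [Ideal.mem_comap]
  obtain ⟨a, rfl⟩ := hf b
  have hb' : counit (R := R) (f a) = 0 := hb
  rw [CoalgHomClass.counit_comp_apply] at hb'
  have ha : a ∈ RingHom.ker (Bialgebra.counitAlgHom R A) := hb'
  have h1 : powConv R B n (f a) = (f : A →+* B) (powConv R A n a) := (map_powConv f n a).symm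
  rw [h1]
  exact Ideal.mem_map_of_mem _ (Ideal.mem_map_of_mem _ ha)

theorem torsionIdeal_baseChange_le (T : Type u) [CommRing T] [Algebra R T] (n : ℕ) :
    torsionIdeal T (T ⊗[R] A) n ≤
      (torsionIdeal R A n).map (Algebra.TensorProduct.includeRight : A →ₐ[R] T ⊗[R] A) := by
  have key : ∀ z : T ⊗[R] A, powConv T (T ⊗[R] A) n z -
      algebraMap T (T ⊗[R] A) (counit (R := T) z) ∈
      (torsionIdeal R A n).map (Algebra.TensorProduct.includeRight : A →ₐ[R] T ⊗[R] A) := by
    intro z
    induction z using TensorProduct.induction_on with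
    | zero => simp
    | tmul t a =>
      have h1 : powConv T (T ⊗[R] A) n (t ⊗ₜ[R] a) -
          algebraMap T (T ⊗[R] A) (counit (R := T) (t ⊗ₜ[R] a)) =
          (t ⊗ₜ[R] (1 : A)) * ((Algebra.TensorProduct.includeRight : A →ₐ[R] T ⊗[R] A)
            (powConv R A n (a - algebraMap R A (counit (R := R) a)))) := by
        rw [powConv_baseChange, TensorProduct.counit_tmul, Algebra.TensorProduct.includeRight_apply,
          Algebra.TensorProduct.tmul_mul_tmul, mul_one, one_mul, map_sub, AlgHom.commutes,
          TensorProduct.tmul_sub, Algebra.TensorProduct.algebraMap_apply]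
        congr 1
        simp [Algebra.algebraMap_eq_smul_one, TensorProduct.smul_tmul]
      rw [h1]
      apply Ideal.mul_mem_left
      apply Ideal.mem_map_of_mem
      unfold torsionIdeal
      apply Ideal.mem_map_of_mem
      rw [RingHom.mem_ker, map_sub, AlgHom.commutes]
      simp
    | add x y hx hy =>
      rw [map_add, map_add, map_add, add_sub_add_comm]
      exact add_mem hx hy
  have h0 : torsionIdeal T (T ⊗[R] A) n =
      Ideal.map (powConv T (T ⊗[R] A) n) (RingHom.ker (Bialgebra.counitAlgHom T (T ⊗[R] A))) := rfl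
  rw [h0, Ideal.map_le_iff_le_comap]
  intro z hz
  rw [Ideal.mem_comap]
  have hz' : counit (R := T) z = 0 := hz
  have := key z
  rwa [hz', map_zero, sub_zero] at this

end Torsion

section Factor

variable {R : Type u} [CommRing R] {C D Y : Type u} [CommRing C] [CommRing D] [CommRing Y]

/-- Factor an algebra map through a surjection killing its kernel. -/
noncomputable def factorAlg [Algebra R C] [Algebra R D] [Algebra R Y] (π : C →ₐ[R] D)
    (hπ : Function.Surjective π) (Ψ : C →ₐ[R] Y) (hker : ∀ c, π c = 0 → Ψ c = 0) : D →ₐ[R] Y :=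
  (Ideal.Quotient.liftₐ (RingHom.ker π) Ψ (fun c hc => hker c hc)).comp
    (Ideal.quotientKerAlgEquivOfSurjective hπ).symm.toAlgHom

theorem factorAlg_apply [Algebra R C] [Algebra R D] [Algebra R Y] (π : C →ₐ[R] D)
    (hπ : Function.Surjective π) (Ψ : C →ₐ[R] Y) (hker : ∀ c, π c = 0 → Ψ c = 0) (c : C) :
    factorAlg π hπ Ψ hker (π c) = Ψ c := by
  unfold factorAlg
  have h1 : (Ideal.quotientKerAlgEquivOfSurjective hπ).symm (π c) =
      Ideal.Quotient.mk (RingHom.ker π) c := by
    rw [AlgEquiv.symm_apply_eq]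
    rfl
  rw [AlgHom.comp_apply]
  change Ideal.Quotient.liftₐ (RingHom.ker π) Ψ _
    ((Ideal.quotientKerAlgEquivOfSurjective hπ).symm (π c)) = Ψ c
  rw [h1]
  rfl

/-- Factor a bialgebra map through a surjective bialgebra map killing its kernel. -/
theorem factorHom [Bialgebra R C] [Bialgebra R D] [Bialgebra R Y] (π : C →ₐc[R] D)
    (hπ : Function.Surjective π) (Ψ : C →ₐc[R] Y) (hker : ∀ c, π c = 0 → Ψ c = 0) :
    ∃ Ψ' : D →ₐc[R] Y, ∀ c, Ψ' (π c) = Ψ c := by
  refine ⟨Groth.Agent.Lib.R2H7.QuotGL.descendBialgHom π hπ Ψ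
    (factorAlg (π : C →ₐ[R] D) hπ (Ψ : C →ₐ[R] Y) hker)
    (fun c => factorAlg_apply (π : C →ₐ[R] D) hπ (Ψ : C →ₐ[R] Y) hker c), fun c => ?_⟩
  exact factorAlg_apply (π : C →ₐ[R] D) hπ (Ψ : C →ₐ[R] Y) hker c

end Factor

end Groth.Agent.Lib.R2H7.HensFin
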