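import Mathlib
import Groth.Agent.Lib.R2H7GLGlue
import Groth.Agent.Lib.Helper25TrigUnip

/-!
# R2H7SepSplitC: finite separable splitting of groups of multiplicative type over a field,
elementary version

Same results as `R2H7SepSplit`, but without `Groth.Agent.S7979` (whose import closure cannot be
combined with `Helper25MultRigid`, hence not with `R2H7IsoLift`): a splitting field `K` is replaced
by a finitely generated subalgebra and then by a residue field of it (Zariski's lemma), then by the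
separable closure of `k` in it (purely inseparable descent of group-like elements).

* `isDiagonalizable_of_isDiag`, `isDiag_of_isDiagonalizable`, `isDiagFT_of_isDiagonalizable`.
* `isDiagonalizable_of_purelyInseparable`, `isDiagonalizable_of_tower`.
* `exists_finite_field_isDiagonalizable`.
* `exists_finite_separable_split`, `isIsotrivial_of_field`.
-/

set_option autoImplicit false
universe u

namespace Groth.Agent.Lib.R2H7.SepSplitC

open TensorProduct Coalgebra Groth.Agent.Lib.Helper25 Groth.Agent.Lib.R2H7.GLLift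
  Groth.Agent.Lib.R2H7.GLGlue SGA3b

section Diag

variable {K : Type u} [Field K] {H H' : Type u} [CommRing H] [HopfAlgebra K H]
  [CommRing H'] [HopfAlgebra K H']

theorem isDiagonalizable_monoidAlgebra (M : Type u) [CommGroup M] :
    HopfRep.IsDiagonalizable K (MonoidAlgebra K M) := by
  unfold HopfRep.IsDiagonalizable
  rw [eq_top_iff]
  intro x _
  induction x using MonoidAlgebra.induction_linear with
  | zero => exact Submodule.zero_mem _
  | add f g hf hg => exact Submodule.add_mem _ (hf trivial) (hg trivial)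
  | single m r =>
    have h1 : MonoidAlgebra.single m r = r • MonoidAlgebra.of K M m := by
      rw [MonoidAlgebra.of_apply, MonoidAlgebra.smul_single, smul_eq_mul, mul_one]
    rw [h1]
    exact Submodule.smul_mem _ _ (Submodule.subset_span (MonoidAlgebra.isGroupLikeElem_of m))

theorem isDiagonalizable_of_surjective (φ : H →ₐc[K] H') (hφ : Function.Surjective φ)
    (h : HopfRep.IsDiagonalizable K H) : HopfRep.IsDiagonalizable K H' := by
  unfold HopfRep.IsDiagonalizable at h ⊢
  rw [eq_top_iff]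
  intro y _
  obtain ⟨x, rfl⟩ := hφ y
  have hx : x ∈ Submodule.span K {a : H | IsGroupLikeElem K a} := by
    rw [h]
    trivial
  have h1 : (Submodule.span K {a : H | IsGroupLikeElem K a}).map (φ : H →ₗ[K] H') ≤
      Submodule.span K {a : H' | IsGroupLikeElem K a} := by
    rw [Submodule.map_span, Submodule.span_le]
    rintro _ ⟨a, ha, rfl⟩
    exact Submodule.subset_span (IsGroupLikeElem.map φ ha)
  exact h1 ⟨x, hx, rfl⟩

theorem isDiagonalizable_of_isDiag (h : IsDiag K H) : HopfRep.IsDiagonalizable K H := by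
  obtain ⟨M, _, ⟨e⟩⟩ := h
  have hs : Function.Surjective (e.symm.toBialgHom) := fun y => ⟨e y, e.symm_apply_apply y⟩
  exact isDiagonalizable_of_surjective e.symm.toBialgHom hs (isDiagonalizable_monoidAlgebra M)

theorem isDiag_of_isDiagonalizable (h : HopfRep.IsDiagonalizable K H) : SGA3b.IsDiag K H := by
  refine ⟨GroupLike K H, inferInstance, ⟨(BialgEquiv.ofBijective
    (MonoidAlgebra.liftGroupLikeBialgHom : MonoidAlgebra K (GroupLike K H) →ₐc[K] H)
    ⟨liftGroupLike_injective, ?_⟩).symm⟩⟩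
  have hle : Submodule.span K {a : H | IsGroupLikeElem K a} ≤ LinearMap.range
      ((MonoidAlgebra.liftGroupLikeBialgHom : MonoidAlgebra K (GroupLike K H) →ₐc[K] H) :
        MonoidAlgebra K (GroupLike K H) →ₗ[K] H) := by
    rw [Submodule.span_le]
    intro a ha
    refine ⟨MonoidAlgebra.single (⟨a, ha⟩ : GroupLike K H) 1, ?_⟩
    change (MonoidAlgebra.liftGroupLikeBialgHom : MonoidAlgebra K (GroupLike K H) →ₐc[K] H)
      (MonoidAlgebra.single (⟨a, ha⟩ : GroupLike K H) 1) = a
    rw [MonoidAlgebra.liftGroupLikeBialgHom_apply, MonoidAlgebra.lift_single, one_smul]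
    rfl
  intro y
  have hy : y ∈ Submodule.span K {a : H | IsGroupLikeElem K a} := by
    rw [show Submodule.span K {a : H | IsGroupLikeElem K a} = ⊤ from h]
    trivial
  obtain ⟨x, hx⟩ := hle hy
  exact ⟨x, hx⟩

theorem isDiagFT_of_isDiagonalizable [Algebra.FiniteType K H]
    (h : HopfRep.IsDiagonalizable K H) : IsDiagFT K H := by
  obtain ⟨M, _, ⟨e⟩⟩ := isDiag_of_isDiagonalizable h
  refine ⟨M, inferInstance, ?_, ⟨e⟩⟩
  have h1 : Algebra.FiniteType K (MonoidAlgebra K M) :=
    Algebra.FiniteType.equiv (inferInstance : Algebra.FiniteType K H) (e : H ≃ₐ[K] MonoidAlgebra K M)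
  exact MonoidAlgebra.finiteType_iff_group_fg.mp h1

end Diag

section Insep

variable (F : Type u) [Field F] (E : Type u) [Field E] [Algebra F E]

theorem nil_ker_lmul [IsPurelyInseparable F E] :
    ∀ z ∈ KaehlerDifferential.ideal F E, IsNilpotent z := by
  intro z hz
  obtain ⟨q, hq⟩ := ExpChar.exists F
  haveI := hq
  haveI : Nontrivial (E ⊗[F] E) :=
    (Algebra.TensorProduct.lmul' F : E ⊗[F] E →ₐ[F] E).toRingHom.domain_nontrivial
  haveI : ExpChar (E ⊗[F] E) q :=
    expChar_of_injective_algebraMap (algebraMap F (E ⊗[F] E)).injective q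
  rw [← KaehlerDifferential.span_range_eq_ideal] at hz
  have hle : Ideal.span (Set.range fun s : E => (1 : E) ⊗ₜ[F] s - s ⊗ₜ[F] (1 : E)) ≤
      nilradical (E ⊗[F] E) := by
    rw [Ideal.span_le]
    rintro _ ⟨s, rfl⟩
    obtain ⟨n, c, hc⟩ := IsPurelyInseparable.pow_mem F q s
    refine mem_nilradical.mpr ⟨q ^ n, ?_⟩
    rw [sub_pow_expChar_pow, Algebra.TensorProduct.tmul_pow, Algebra.TensorProduct.tmul_pow,
      one_pow, ← hc, Algebra.algebraMap_eq_smul_one, TensorProduct.tmul_smul,
      TensorProduct.smul_tmul', sub_self]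
  exact mem_nilradical.mp (hle hz)

variable (B : Type u) [CommRing B] [HopfAlgebra F B]

theorem mem_smul_top_of_Hmap_eq_zero {S T : Type u} [CommRing S] [CommRing T] [Algebra F S]
    [Algebra F T] (μ : S →ₐ[F] T) (hμ : Function.Surjective μ) (K : Ideal S)
    (hK : ∀ s, μ s = 0 → s ∈ K) (z : S ⊗[F] B) (hz : Hmap B μ z = 0) :
    z ∈ K • (⊤ : Submodule S (S ⊗[F] B)) := by
  have h1 := rTensor_exact B (LinearMap.exact_subtype_ker_map μ.toLinearMap) hμ
  have hz' : LinearMap.rTensor B μ.toLinearMap z = 0 := by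
    rw [← Hmap_eq_rTensor B]
    exact hz
  have key : ∀ w : (LinearMap.ker μ.toLinearMap) ⊗[F] B,
      LinearMap.rTensor B (LinearMap.ker μ.toLinearMap).subtype w ∈
        K • (⊤ : Submodule S (S ⊗[F] B)) := by
    intro w
    induction w using TensorProduct.induction_on with
    | zero => simp
    | tmul κ b =>
      rw [LinearMap.rTensor_tmul]
      have h2 : ((LinearMap.ker μ.toLinearMap).subtype κ) ⊗ₜ[F] b =
          (κ : S) • ((1 : S) ⊗ₜ[F] b) := by
        rw [TensorProduct.smul_tmul', smul_eq_mul, mul_one]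
        rfl
      rw [h2]
      exact Submodule.smul_mem_smul (hK _ κ.2) Submodule.mem_top
    | add x y hx hy =>
      rw [map_add]
      exact add_mem hx hy
  obtain ⟨w, rfl⟩ := (h1 z).mp hz'
  exact key w

theorem Hmap_lmul_includeLeft (g : E ⊗[F] B) :
    Hmap B (Algebra.TensorProduct.lmul' F : E ⊗[F] E →ₐ[F] E)
      (Hmap B (Algebra.TensorProduct.includeLeft : E →ₐ[F] E ⊗[F] E) g) = g := by
  induction g using TensorProduct.induction_on with
  | zero => simp
  | tmul e b => simp [Hmap]
  | add x y hx hy => rw [map_add, map_add, hx, hy]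

theorem Hmap_lmul_includeRight (g : E ⊗[F] B) :
    Hmap B (Algebra.TensorProduct.lmul' F : E ⊗[F] E →ₐ[F] E)
      (Hmap B (Algebra.TensorProduct.includeRight : E →ₐ[F] E ⊗[F] E) g) = g := by
  induction g using TensorProduct.induction_on with
  | zero => simp
  | tmul e b => simp [Hmap]
  | add x y hx hy => rw [map_add, map_add, hx, hy]

/-- Group-like elements descend along purely inseparable extensions, for geometrically
diagonalisable Hopf algebras. -/
theorem exists_groupLike_descent [IsPurelyInseparable F E]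
    (hD : HopfRep.IsDiagonalizable E (E ⊗[F] B)) (g : E ⊗[F] B) (hg : IsGroupLikeElem E g) :
    ∃ g₀ : B, IsGroupLikeElem F g₀ ∧ (1 : E) ⊗ₜ[F] g₀ = g := by
  have hDiag : IsDiag E (E ⊗[F] B) := isDiag_of_isDiagonalizable hD
  have hD2 : IsDiag (E ⊗[F] E) ((E ⊗[F] E) ⊗[F] B) :=
    BCB.isDiag_baseChange_of_tower F B E (E ⊗[F] E) hDiag
  have hU : UniqGL (E ⊗[F] E) ((E ⊗[F] E) ⊗[F] B) (KaehlerDifferential.ideal F E) :=
    uniqGL_of_noPrimMod (noPrimMod_of_isDiag _ _ hD2) _ (nil_ker_lmul F E)
  set q₁ : E →ₐ[F] E ⊗[F] E := Algebra.TensorProduct.includeLeft with hq₁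
  set q₂ : E →ₐ[F] E ⊗[F] E := Algebra.TensorProduct.includeRight with hq₂
  have hG₁ : IsGroupLikeElem (E ⊗[F] E) (Hmap B q₁ g) := isGroupLikeElem_map q₁ hg
  have hG₂ : IsGroupLikeElem (E ⊗[F] E) (Hmap B q₂ g) := isGroupLikeElem_map q₂ hg
  have hd : Hmap B q₁ g - Hmap B q₂ g ∈
      (KaehlerDifferential.ideal F E) • (⊤ : Submodule (E ⊗[F] E) ((E ⊗[F] E) ⊗[F] B)) := by
    apply mem_smul_top_of_Hmap_eq_zero F B (Algebra.TensorProduct.lmul' F : E ⊗[F] E →ₐ[F] E)
      (fun e => ⟨e ⊗ₜ[F] 1, by simp⟩) _ (fun s hs => hs)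
    rw [map_sub, Hmap_lmul_includeLeft, Hmap_lmul_includeRight, sub_self]
  have heq : Hmap B q₁ g = Hmap B q₂ g := hU _ _ hG₁ hG₂ hd
  have hmem : g ∈ LinearMap.range (TensorProduct.mk F E B 1) := by
    apply Groth.Agent.Lib.Helper22.amitsur_mem_range
    rw [← assoc_Hmap_includeRight, ← assoc_Hmap_includeLeft, heq]
  obtain ⟨g₀, hg₀⟩ := hmem
  rw [TensorProduct.mk_apply] at hg₀
  subst hg₀
  exact ⟨g₀, isGroupLikeElem_of_one_tmul E hg, rfl⟩

/-- Diagonalisability descends along purely inseparable field extensions. -/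
theorem isDiagonalizable_of_purelyInseparable [IsPurelyInseparable F E]
    (hD : HopfRep.IsDiagonalizable E (E ⊗[F] B)) : HopfRep.IsDiagonalizable F B := by
  have hD' := hD
  unfold HopfRep.IsDiagonalizable at hD' ⊢
  set V : Submodule F B := Submodule.span F {a : B | IsGroupLikeElem F a} with hV
  have hr : (⊤ : Submodule E (E ⊗[F] B)) ≤ LinearMap.range (V.subtype.baseChange E) := by
    rw [← hD', Submodule.span_le]
    intro g hg
    obtain ⟨g₀, hg₀, rfl⟩ := exists_groupLike_descent F E B hD g hg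
    exact ⟨(1 : E) ⊗ₜ[F] ⟨g₀, Submodule.subset_span hg₀⟩, by simp⟩
  have hsurj : Function.Surjective (LinearMap.lTensor E V.subtype) := by
    intro y
    obtain ⟨x, hx⟩ := hr (Submodule.mem_top : y ∈ ⊤)
    exact ⟨x, hx⟩
  have h2 := (Module.FaithfullyFlat.lTensor_surjective_iff_surjective F E V.subtype).mp hsurj
  rw [eq_top_iff]
  intro b _
  obtain ⟨v, rfl⟩ := h2 b
  exact v.2

end Insep

section Tower

theorem isDiagonalizable_of_tower (k : Type u) [Field k] (A : Type u) [CommRing A]
    [HopfAlgebra k A] (F E : Type u) [Field F] [Field E] [Algebra k F] [Algebra k E]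
    [Algebra F E] [IsScalarTower k F E] [IsPurelyInseparable F E]
    (h1 : HopfRep.IsDiagonalizable E (E ⊗[k] A)) : HopfRep.IsDiagonalizable F (F ⊗[k] A) := by
  have h2 : HopfRep.IsDiagonalizable E (E ⊗[F] (F ⊗[k] A)) :=
    isDiagonalizable_of_surjective (BCB.cancelBC k F E A).symm.toBialgHom
      (fun y => ⟨BCB.cancelBC k F E A y, BialgEquiv.symm_apply_apply _ y⟩) h1
  exact isDiagonalizable_of_purelyInseparable F E _ h2

end Tower

section Flat

variable {S : Type u} [CommRing S] (T : Type u) [CommRing T] [Algebra S T]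
  {B : Type u} [CommRing B] [HopfAlgebra S B]

theorem bcMap2_injective_of_flat [Module.Flat S B]
    (hinj : Function.Injective (algebraMap S T)) :
    Function.Injective (bcMap2 (R := S) T B) := by
  rw [injective_iff_map_eq_zero]
  intro z hz
  have h1 := one_tmul_eq_zero_of_bcMap2 T z hz
  have h2 : Function.Injective (LinearMap.rTensor (B ⊗[S] B) (Algebra.linearMap S T)) :=
    Module.Flat.rTensor_preserves_injective_linearMap _ hinj
  have h3 : LinearMap.rTensor (B ⊗[S] B) (Algebra.linearMap S T) ((1 : S) ⊗ₜ[S] z) = 0 := by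
    rw [LinearMap.rTensor_tmul, Algebra.linearMap_apply, map_one]
    exact h1
  have h4 : (1 : S) ⊗ₜ[S] z = 0 := h2 (h3.trans (map_zero _).symm)
  have h5 := congrArg (TensorProduct.lid S (B ⊗[S] B)) h4
  simpa using h5

/-- Group-likeness descends along a base change with injective structure map, for flat Hopf
algebras. -/
theorem isGroupLikeElem_of_one_tmul_of_flat [Module.Flat S B]
    (hinj : Function.Injective (algebraMap S T)) {g : B}
    (h : IsGroupLikeElem T ((1 : T) ⊗ₜ[S] g)) : IsGroupLikeElem S g where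
  counit_eq_one := by
    have h1 := h.counit_eq_one
    rw [TensorProduct.counit_tmul] at h1
    have h2 : algebraMap S T (counit (R := S) g) = algebraMap S T 1 := by
      simpa [Algebra.smul_def] using h1
    exact hinj h2
  comul_eq_tmul_self := by
    have h1 := h.comul_eq_tmul_self
    rw [comul_one_tmul, ← bcMap2_tmul] at h1
    exact bcMap2_injective_of_flat T hinj h1

end Flat

section Spread

variable (k : Type u) [Field k] (K : Type u) [Field K] [Algebra k K]
  (A : Type u) [CommRing A] [HopfAlgebra k A]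

/-- `L ⊗ A → K ⊗ A` for a subalgebra `L`. -/
noncomputable abbrev up (L : Subalgebra k K) : L ⊗[k] A →ₐ[k] K ⊗[k] A := Hmap A L.val

theorem up_injective (L : Subalgebra k K) : Function.Injective (up k K A L) := by
  have h : ⇑(up k K A L) = ⇑(LinearMap.rTensor A L.val.toLinearMap) :=
    funext (Hmap_eq_rTensor A L.val)
  rw [h]
  exact Module.Flat.rTensor_preserves_injective_linearMap _ Subtype.val_injective

theorem up_inclusion {L L' : Subalgebra k K} (h : L ≤ L') (x : L ⊗[k] A) :
    up k K A L' (Hmap A (Subalgebra.inclusion h) x) = up k K A L x := by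
  induction x using TensorProduct.induction_on with
  | zero => simp
  | tmul c a => simp [Hmap]
  | add x y hx hy => rw [map_add, map_add, hx, hy, map_add]

theorem range_up_mono {L L' : Subalgebra k K} (h : L ≤ L') :
    Set.range (up k K A L) ⊆ Set.range (up k K A L') := by
  rintro _ ⟨x, rfl⟩
  exact ⟨Hmap A (Subalgebra.inclusion h) x, up_inclusion k K A h x⟩

theorem exists_fg_mem_range (x : K ⊗[k] A) :
    ∃ L : Subalgebra k K, L.FG ∧ x ∈ Set.range (up k K A L) := by
  induction x using TensorProduct.induction_on with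
  | zero => exact ⟨⊥, Subalgebra.fg_bot, ⟨0, map_zero _⟩⟩
  | tmul c a =>
    refine ⟨Algebra.adjoin k {c}, ⟨{c}, by simp⟩,
      ⟨(⟨c, Algebra.self_mem_adjoin_singleton k c⟩ : Algebra.adjoin k {c}) ⊗ₜ[k] a, ?_⟩⟩
    simp [Hmap]
  | add x y hx hy =>
    obtain ⟨L₁, h1, hx⟩ := hx
    obtain ⟨L₂, h2, hy⟩ := hy
    refine ⟨L₁ ⊔ L₂, h1.sup h2, ?_⟩
    obtain ⟨x', rfl⟩ := range_up_mono k K A (le_sup_left : L₁ ≤ L₁ ⊔ L₂) hx
    obtain ⟨y', rfl⟩ := range_up_mono k K A (le_sup_right : L₂ ≤ L₁ ⊔ L₂) hy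
    exact ⟨x' + y', map_add _ _ _⟩

theorem exists_fg_forall_mem_range (X : Finset (K ⊗[k] A)) (C : Finset K) :
    ∃ L : Subalgebra k K, L.FG ∧ (∀ c ∈ C, c ∈ L) ∧
      ∀ x ∈ X, x ∈ Set.range (up k K A L) := by
  classical
  induction X using Finset.induction_on with
  | empty =>
    exact ⟨Algebra.adjoin k (C : Set K), ⟨C, rfl⟩, fun c hc => Algebra.subset_adjoin hc, by simp⟩
  | insert x X hx ih =>
    obtain ⟨L₁, h1, hC, hX⟩ := ih
    obtain ⟨L₂, h2, hx2⟩ := exists_fg_mem_range k K A x
    refine ⟨L₁ ⊔ L₂, h1.sup h2, fun c hc => (le_sup_left : L₁ ≤ L₁ ⊔ L₂) (hC c hc), ?_⟩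
    intro y hy
    rw [Finset.mem_insert] at hy
    rcases hy with rfl | hy
    · exact range_up_mono k K A le_sup_right hx2
    · exact range_up_mono k K A le_sup_left (hX y hy)

theorem isGroupLikeElem_of_up (L : Subalgebra k K) (g' : L ⊗[k] A)
    (hg : IsGroupLikeElem K (up k K A L g')) : IsGroupLikeElem L g' := by
  refine isGroupLikeElem_of_one_tmul_of_flat (S := L) K (B := L ⊗[k] A)
    (fun x y hxy => Subtype.ext hxy) ?_
  have h1 : BCB.cancelBC k L K A ((1 : K) ⊗ₜ[L] g') = up k K A L g' :=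
    cancelBC_one_tmul L.val (fun _ => rfl) g'
  have h2 : (1 : K) ⊗ₜ[L] g' = (BCB.cancelBC k L K A).symm (up k K A L g') := by
    rw [← h1, BialgEquiv.symm_apply_apply]
  rw [h2]
  exact hg.map (BCB.cancelBC k L K A).symm

theorem mul_mem_span_groupLike {R : Type u} [CommRing R] {H : Type u} [CommRing H]
    [Bialgebra R H] {x y : H}
    (hx : x ∈ Submodule.span R {a : H | IsGroupLikeElem R a})
    (hy : y ∈ Submodule.span R {a : H | IsGroupLikeElem R a}) :
    x * y ∈ Submodule.span R {a : H | IsGroupLikeElem R a} := by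
  have h := Submodule.mul_mem_mul hx hy
  rw [Submodule.span_mul_span] at h
  refine Submodule.span_mono ?_ h
  rintro _ ⟨a, ha, b, hb, rfl⟩
  exact ha.mul hb

/-- If the elements `1 ⊗ a`, for `a` in a generating set of the algebra `A`, are spanned by
group-like elements, then `L ⊗ A` is. -/
theorem isDiagonalizable_of_gens (L : Type u) [Field L] [Algebra k L] (s : Finset A)
    (hs : Algebra.adjoin k (s : Set A) = ⊤)
    (h1 : ∀ a ∈ s, (1 : L) ⊗ₜ[k] a ∈
      Submodule.span L {g : L ⊗[k] A | IsGroupLikeElem L g}) :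
    HopfRep.IsDiagonalizable L (L ⊗[k] A) := by
  have h2 : ∀ a : A, (1 : L) ⊗ₜ[k] a ∈
      Submodule.span L {g : L ⊗[k] A | IsGroupLikeElem L g} := by
    intro a
    have ha : a ∈ Algebra.adjoin k (s : Set A) := by
      rw [hs]
      trivial
    induction ha using Algebra.adjoin_induction with
    | mem x hx => exact h1 x hx
    | algebraMap r =>
      have h3 : (1 : L) ⊗ₜ[k] (algebraMap k A r) =
          (algebraMap k L r) • ((1 : L) ⊗ₜ[k] (1 : A)) := by
        rw [Algebra.algebraMap_eq_smul_one, TensorProduct.tmul_smul, algebraMap_smul]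
      rw [h3]
      refine Submodule.smul_mem _ _ (Submodule.subset_span ?_)
      change IsGroupLikeElem L ((1 : L) ⊗ₜ[k] (1 : A))
      rw [← Algebra.TensorProduct.one_def]
      exact IsGroupLikeElem.one (R := L) (A := L ⊗[k] A)
    | add x y _ _ hx hy =>
      rw [TensorProduct.tmul_add]
      exact add_mem hx hy
    | mul x y _ _ hx hy =>
      have h3 : (1 : L) ⊗ₜ[k] (x * y) = ((1 : L) ⊗ₜ[k] x) * ((1 : L) ⊗ₜ[k] y) := by
        rw [Algebra.TensorProduct.tmul_mul_tmul, mul_one]
      rw [h3]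
      exact mul_mem_span_groupLike (R := L) (H := L ⊗[k] A) hx hy
  unfold HopfRep.IsDiagonalizable
  rw [eq_top_iff]
  intro z _
  induction z using TensorProduct.induction_on with
  | zero => exact zero_mem _
  | tmul c a =>
    have h3 : c ⊗ₜ[k] a = c • ((1 : L) ⊗ₜ[k] a) := by
      rw [TensorProduct.smul_tmul', smul_eq_mul, mul_one]
    rw [h3]
    exact Submodule.smul_mem _ _ (h2 a)
  | add x y hx hy => exact add_mem (hx trivial) (hy trivial)

/-- Diagonalisability over some field extension holds over a finite extension. -/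
theorem exists_finite_field_isDiagonalizable [Algebra.FiniteType k A]
    (hD : HopfRep.IsDiagonalizable K (K ⊗[k] A)) :
    ∃ (k₁ : Type u) (_ : Field k₁) (_ : Algebra k k₁), Module.Finite k k₁ ∧
      HopfRep.IsDiagonalizable k₁ (k₁ ⊗[k] A) := by
  classical
  obtain ⟨s, hs⟩ := (Algebra.FiniteType.out : (⊤ : Subalgebra k A).FG)
  have hD' := hD
  unfold HopfRep.IsDiagonalizable at hD'
  have hmem : ∀ a : A, ∃ (f : K ⊗[k] A → K) (t : Finset (K ⊗[k] A)),
      (↑t ⊆ {g : K ⊗[k] A | IsGroupLikeElem K g}) ∧ Function.support f ⊆ ↑t ∧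
        ∑ g ∈ t, f g • g = (1 : K) ⊗ₜ[k] a := by
    intro a
    have : (1 : K) ⊗ₜ[k] a ∈ Submodule.span K {g : K ⊗[k] A | IsGroupLikeElem K g} := by
      rw [hD']
      trivial
    exact Submodule.mem_span_iff_exists_finset_subset.mp this
  choose f t ht1 ht2 ht3 using hmem
  obtain ⟨L, hLfg, hC, hX⟩ := exists_fg_forall_mem_range k K A (s.biUnion t)
    (s.biUnion fun a => (t a).image (f a))
  have hpre : ∀ a ∈ s, ∀ g ∈ t a, ∃ g' : L ⊗[k] A, up k K A L g' = g :=
    fun a ha g hg => hX g (Finset.mem_biUnion.mpr ⟨a, ha, hg⟩)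
  have hc : ∀ a ∈ s, ∀ g ∈ t a, f a g ∈ L :=
    fun a ha g hg => hC _ (Finset.mem_biUnion.mpr ⟨a, ha, Finset.mem_image_of_mem _ hg⟩)
  obtain ⟨𝔪, h𝔪⟩ := Ideal.exists_maximal L
  letI : Field (L ⧸ 𝔪) := Ideal.Quotient.field 𝔪
  haveI : Algebra.FiniteType k L := (Subalgebra.fg_iff_finiteType L).mp hLfg
  haveI : Algebra.FiniteType k (L ⧸ 𝔪) :=
    Algebra.FiniteType.of_surjective (Ideal.Quotient.mkₐ k 𝔪) (Ideal.Quotient.mkₐ_surjective k 𝔪)
  haveI : Module.Finite k (L ⧸ 𝔪) := finite_of_finite_type_of_isJacobsonRing k (L ⧸ 𝔪)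
  refine ⟨L ⧸ 𝔪, inferInstance, inferInstance, inferInstance, ?_⟩
  apply isDiagonalizable_of_gens k A (L ⧸ 𝔪) s hs
  intro a ha
  choose! g' hg' using hpre a ha
  have hsum : (1 : L) ⊗ₜ[k] a =
      ∑ g ∈ (t a).attach, (⟨f a g.1, hc a ha g.1 g.2⟩ : L) • g' g.1 := by
    apply up_injective k K A L
    rw [map_sum, Hmap_one_tmul, ← ht3 a, ← Finset.sum_attach]
    refine Finset.sum_congr rfl fun g _ => ?_
    rw [Hmap_smul, hg' g.1 g.2]
    rfl
  have h2 : (1 : L ⧸ 𝔪) ⊗ₜ[k] a = ∑ g ∈ (t a).attach,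
      (Ideal.Quotient.mkₐ k 𝔪 (⟨f a g.1, hc a ha g.1 g.2⟩ : L)) •
        Hmap A (Ideal.Quotient.mkₐ k 𝔪) (g' g.1) := by
    rw [← Hmap_one_tmul (Ideal.Quotient.mkₐ k 𝔪) a, hsum, map_sum]
    exact Finset.sum_congr rfl fun g _ => Hmap_smul (Ideal.Quotient.mkₐ k 𝔪) _ _
  rw [h2]
  refine Submodule.sum_mem _ fun g _ => Submodule.smul_mem _ _ (Submodule.subset_span ?_)
  refine isGroupLikeElem_map (Ideal.Quotient.mkₐ k 𝔪) (isGroupLikeElem_of_up k K A L _ ?_)
  rw [hg' g.1 g.2]
  exact ht1 a g.2

end Spread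

section Main

/-- Over a field, a group of multiplicative type and of finite type is split by a finite separable
extension. -/
theorem exists_finite_separable_split (k : Type u) [Field k] (A : Type u) [CommRing A]
    [HopfAlgebra k A] (hft : Algebra.FiniteType k A) (h : IsMultType k A) :
    ∃ (k' : Type u) (_ : Field k') (_ : Algebra k k'), Module.Finite k k' ∧
      Algebra.IsSeparable k k' ∧ IsDiagFT k' (k' ⊗[k] A) := by
  haveI := hft
  obtain ⟨K, _, _, hD⟩ := BCB.exists_field_isDiag k A (BCB.isMultTypeConst_of_isMultType k A h)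
  have hDz : HopfRep.IsDiagonalizable K (K ⊗[k] A) := isDiagonalizable_of_isDiag hD
  obtain ⟨k₁, _, _, hfin, h1⟩ := exists_finite_field_isDiagonalizable k K A hDz
  haveI := hfin
  have h3 : HopfRep.IsDiagonalizable (separableClosure k k₁) ((separableClosure k k₁) ⊗[k] A) :=
    isDiagonalizable_of_tower k A (separableClosure k k₁) k₁ h1
  exact ⟨separableClosure k k₁, inferInstance, inferInstance, inferInstance, inferInstance,
    isDiagFT_of_isDiagonalizable h3⟩

/-- Over a field, a group of multiplicative type and of finite type is isotrivial. -/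
theorem isIsotrivial_of_field (k : Type u) [Field k] (A : Type u) [CommRing A]
    [HopfAlgebra k A] (hft : Algebra.FiniteType k A) (h : IsMultType k A) : IsIsotrivial k A := by
  obtain ⟨k', _, _, hfin, hsep, M, _, _, ⟨e⟩⟩ := exists_finite_separable_split k A hft h
  haveI := hfin
  haveI := hsep
  haveI : Algebra.FormallyEtale k k' := Algebra.FormallyEtale.of_isSeparable k k'
  haveI : Algebra.FinitePresentation k k' := Algebra.FinitePresentation.of_finiteType.mp inferInstance
  exact ⟨k', inferInstance, inferInstance, ⟨inferInstance, inferInstance⟩, hfin, inferInstance,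
    ⟨M, inferInstance, ⟨e⟩⟩⟩

end Main

end Groth.Agent.Lib.R2H7.SepSplitC
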