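import Mathlib
import Groth.Prelude.Def_SGA3b
import Groth.Agent.Lib.R2H7HensFinA
import Groth.Agent.Lib.R2H7FormalHom9
import Groth.Agent.Lib.R2H7FormalHom10
import Groth.Agent.Lib.R2H7SepSplitC
import Groth.Agent.Lib.Helper25FlatBC

/-!
# R2H7HensFinB: transfer of the hypotheses of the clopen subgroup theorem to a complete local overring

`A` is a local ring, `T` a complete noetherian local `A`-algebra with `A → T` local (in the application the
completion of `A`), `C` an `A`-Hopf algebra, flat at the points of the closed fibre, with closed fibre of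
multiplicative type.
* `henselianLocalRing_of_complete`.
* `hfl_baseChange`, `h0_baseChange`: the hypotheses over `T`.
* `exists_idem_T`: the clopen isotrivial subgroup of `T ⊗ C`.
-/

set_option autoImplicit false
universe u

namespace Groth.Agent.Lib.R2H7.HensFin

open TensorProduct Coalgebra SGA3b IsLocalRing Groth.Agent.Lib.Helper25 Groth.Agent.Lib.R2H7.GLLift

theorem henselianLocalRing_of_complete (T : Type*) [CommRing T] [IsLocalRing T]
    [IsAdicComplete (maximalIdeal T) T] : HenselianLocalRing T :=
  { is_henselian := fun f hf a₀ h1 h2 =>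
      HenselianRing.is_henselian f hf a₀ h1 (h2.map (Ideal.Quotient.mk (maximalIdeal T))) }

section Transfer

variable (A : Type u) [CommRing A] [IsLocalRing A]
  (T : Type u) [CommRing T] [Algebra A T] [IsLocalRing T] [IsLocalHom (algebraMap A T)]
  (C : Type u) [CommRing C] [HopfAlgebra A C]

attribute [local instance] Algebra.TensorProduct.rightAlgebra in
theorem hfl_baseChange
    (hfl : ∀ (q : Ideal C) [q.IsPrime], Ideal.map (algebraMap A C) (maximalIdeal A) ≤ q →
      Module.Flat A (Localization.AtPrime q)) :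
    ∀ (q : Ideal (T ⊗[A] C)) [q.IsPrime],
      Ideal.map (algebraMap T (T ⊗[A] C)) (maximalIdeal T) ≤ q →
        Module.Flat T (Localization.AtPrime q) := by
  intro q _ hq
  apply Groth.Agent.Lib.Helper25.FlatBC.flat_localization_of_isPushout A C T (T ⊗[A] C) q
  apply hfl
  rw [Ideal.map_le_iff_le_comap]
  intro a ha
  rw [Ideal.mem_comap, Ideal.mem_comap]
  apply hq
  have h0 : algebraMap C (T ⊗[A] C) (algebraMap A C a) =
      algebraMap T (T ⊗[A] C) (algebraMap A T a) := by
    rw [← IsScalarTower.algebraMap_apply A C (T ⊗[A] C),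
      IsScalarTower.algebraMap_apply A T (T ⊗[A] C)]
  rw [h0]
  apply Ideal.mem_map_of_mem
  exact (IsLocalRing.maximalIdeal_comap (algebraMap A T)).ge ha

theorem h0_baseChange (hft : Algebra.FiniteType A C)
    (hs : IsMultType (ResidueField A) (ResidueField A ⊗[A] C)) :
    IsIsotrivial (T ⧸ maximalIdeal T) ((T ⧸ maximalIdeal T) ⊗[T] (T ⊗[A] C)) := by
  letI : Algebra (ResidueField A) (ResidueField T) :=
    (IsLocalRing.ResidueField.map (algebraMap A T)).toAlgebra
  haveI : IsScalarTower A (ResidueField A) (ResidueField T) :=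
    IsScalarTower.of_algebraMap_eq (fun a => rfl)
  have h1 : IsMultType (ResidueField T) ((ResidueField T) ⊗[A] C) :=
    Groth.Agent.Lib.R2H7.HomLift.isMultType_tower hs
  haveI := hft
  have h2 : IsIsotrivial (ResidueField T) ((ResidueField T) ⊗[A] C) :=
    Groth.Agent.Lib.R2H7.SepSplitC.isIsotrivial_of_field (ResidueField T)
      ((ResidueField T) ⊗[A] C) inferInstance h1
  have h3 : IsIsotrivial (ResidueField T) ((ResidueField T) ⊗[T] (T ⊗[A] C)) :=
    Groth.Agent.Lib.R2H7.FormalHom.isIsotrivial_of_equiv
      (BCB.cancelBC A T (ResidueField T) C) h2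
  exact h3

variable [IsNoetherianRing T] [IsAdicComplete (maximalIdeal T) T]

theorem exists_idem_T (hft : Algebra.FiniteType A C)
    (hfl : ∀ (q : Ideal C) [q.IsPrime], Ideal.map (algebraMap A C) (maximalIdeal A) ≤ q →
      Module.Flat A (Localization.AtPrime q))
    (hs : IsMultType (ResidueField A) (ResidueField A ⊗[A] C)) :
    ∃ e' : T ⊗[A] C, IsIdempotentElem e' ∧
      e' ∈ Ideal.map (algebraMap T (T ⊗[A] C)) (maximalIdeal T) ∧
      ∃ _ : (Ideal.span {e'}).IsHopfIdeal T, IsIsotrivial T ((T ⊗[A] C) ⧸ Ideal.span {e'}) := by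
  haveI := hft
  exact Groth.Agent.Lib.R2H7.FormalHom.exists_idem_isotrivial T (maximalIdeal T) (T ⊗[A] C)
    inferInstance (hfl_baseChange A T C hfl) (h0_baseChange A T C hft hs)

end Transfer

end Groth.Agent.Lib.R2H7.HensFin
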