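import Mathlib
import Groth.Prelude.Def_SGA3b
import Groth.Agent.Lib.Helper25Torsion
import Groth.Agent.Lib.Helper25SubDiag
import Groth.Agent.Lib.R2H7FinMult

/-!
# R2H7TorsDense: the torsion subgroups of a group of multiplicative type are schematically dense

* `isJacobsonRing_int`, `finite_of_field_finiteType_int`: a field of finite type over `ℤ` is finite.
* `exists_pow_mul_eq_zero_of_jacobson`: in a Noetherian Jacobson ring `B`, if a family of ideals
  `K n` is cofinal in the `𝔮`-adic topologies of all maximal ideals `𝔮`, then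
  `(∀ n > 0, ∃ N, a ^ N * y ∈ K n) → ∃ N, a ^ N * y = 0`.
* `ker_quotMap_le_pow`: if `R₀[M] ⧸ 𝔮 ^ k` is finite then `ker (R₀[M] → R₀[M/Mⁿ]) ≤ 𝔮 ^ k` for some
  `n > 0`.
* `core_int`, `diag_core`: the diagonalisable case, over finitely generated `ℤ`-algebras and then
  over any ring.
* `iInf_torsionIdeal_eq_bot`: the statement for groups of multiplicative type and of finite type.
-/

set_option autoImplicit false
universe u

namespace Groth.Agent.Lib.R2H7.TorsDense

open TensorProduct SGA3b Groth.Agent.Lib.Helper25 Groth.Agent.Lib.Helper25.Tors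
  Groth.Agent.Lib.Helper25.SubDiag

section IntFT

theorem isJacobsonRing_int : IsJacobsonRing ℤ := by
  rw [isJacobsonRing_iff_prime_eq]
  intro P hP
  by_cases hbot : P = ⊥
  · subst hbot
    rw [eq_bot_iff]
    intro x hx
    rw [Ideal.mem_jacobson_bot] at hx
    have h1 := hx x
    rw [Int.isUnit_iff] at h1
    have hx2 : 0 ≤ x * x := mul_self_nonneg x
    rcases h1 with h1 | h1
    · have : x * x = 0 := by omega
      have : x = 0 := by simpa using this
      simp [this]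
    · omega
  · haveI : P.IsMaximal := IsPrime.to_maximal_ideal hbot
    exact Ideal.jacobson_eq_self_of_isMaximal

/-- A field which is a finitely generated ring is finite. -/
theorem finite_of_field_finiteType_int (F : Type*) [Field F] [inst : Algebra ℤ F]
    [Algebra.FiniteType ℤ F] : Finite F := by
  obtain rfl : inst = Ring.toIntAlgebra F := Subsingleton.elim _ _
  haveI := isJacobsonRing_int
  haveI : Module.Finite ℤ F := finite_of_finite_type_of_isJacobsonRing ℤ F
  have hchar : ∃ n : ℤ, n ≠ 0 ∧ algebraMap ℤ F n = 0 := by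
    by_contra hcon
    push Not at hcon
    have hinj : Function.Injective (algebraMap ℤ F) := by
      rw [injective_iff_map_eq_zero]
      intro n hn
      by_contra hne
      exact hcon n hne hn
    exact Int.not_isField (isField_of_isIntegral_of_isField hinj (Field.toIsField _))
  obtain ⟨n, hn0, hn⟩ := hchar
  apply Module.finite_of_fg_torsion
  intro y
  refine ⟨⟨n, mem_nonZeroDivisors_of_ne_zero hn0⟩, ?_⟩
  show n • y = 0
  rw [Algebra.smul_def, hn, zero_mul]

end IntFT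

section Core

theorem exists_pow_mul_eq_zero_of_jacobson {B : Type*} [CommRing B] [IsNoetherianRing B]
    [IsJacobsonRing B] (K : ℕ → Ideal B)
    (hK : ∀ 𝔮 : Ideal B, 𝔮.IsMaximal → ∀ k : ℕ, ∃ n, 0 < n ∧ K n ≤ 𝔮 ^ k)
    (a y : B) (h : ∀ n, 0 < n → ∃ N : ℕ, a ^ N * y ∈ K n) : ∃ N : ℕ, a ^ N * y = 0 := by
  set I : Ideal B := Submodule.annihilator (Ideal.span {y}) with hI
  have hmem : ∀ r : B, r ∈ I ↔ r * y = 0 := by
    intro r
    rw [hI, Submodule.mem_annihilator_span_singleton, smul_eq_mul]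
  suffices ha : a ∈ I.radical by
    obtain ⟨N, hN⟩ := ha
    exact ⟨N, (hmem _).mp hN⟩
  rw [Ideal.radical_eq_jacobson, Ideal.jacobson, Ideal.mem_sInf]
  rintro 𝔮 ⟨hIq, hq⟩
  by_contra haq
  have hy : ∀ k : ℕ, y ∈ 𝔮 ^ k := by
    intro k
    rcases Nat.eq_zero_or_pos k with rfl | hk
    · simp
    obtain ⟨n, hn, hKn⟩ := hK 𝔮 hq k
    obtain ⟨N, hN⟩ := h n hn
    have h1 : a ^ N * y ∈ 𝔮 ^ k := hKn hN
    have hrad : (𝔮 ^ k).radical = 𝔮 := by
      rw [Ideal.radical_pow _ hk.ne', hq.isPrime.radical]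
    have hprim : (𝔮 ^ k).IsPrimary :=
      Ideal.isPrimary_of_isMaximal_radical (by rw [hrad]; exact hq)
    rw [mul_comm] at h1
    rcases (Ideal.isPrimary_iff.mp hprim).2 h1 with h2 | h2
    · exact h2
    · exfalso
      rw [hrad] at h2
      exact haq (hq.isPrime.mem_of_pow_mem N h2)
  have hinf : y ∈ (⨅ i : ℕ, 𝔮 ^ i • ⊤ : Submodule B B) := by
    rw [Submodule.mem_iInf]
    intro i
    rw [smul_eq_mul, Ideal.mul_top]
    exact hy i
  obtain ⟨r, hr⟩ := (Ideal.mem_iInf_smul_pow_eq_bot_iff 𝔮 y).mp hinf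
  have h1 : (1 - (r : B)) ∈ I := by
    rw [hmem, sub_mul, one_mul, sub_eq_zero]
    exact hr.symm
  have h2 : (1 : B) ∈ 𝔮 := by
    have := 𝔮.add_mem (hIq h1) r.2
    simpa using this
  exact hq.ne_top ((Ideal.eq_top_iff_one _).mpr h2)

end Core

section Ker

theorem ker_quotMap_le_pow (R₀ : Type u) [CommRing R₀] (M : Type u) [CommGroup M]
    (𝔮 : Ideal (MonoidAlgebra R₀ M)) (k : ℕ) [Finite (MonoidAlgebra R₀ M ⧸ 𝔮 ^ k)] :
    ∃ n, 0 < n ∧ RingHom.ker (quotMap R₀ M n) ≤ 𝔮 ^ k := by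
  refine ⟨Nat.card (MonoidAlgebra R₀ M ⧸ 𝔮 ^ k)ˣ, Nat.card_pos, ?_⟩
  set n := Nat.card (MonoidAlgebra R₀ M ⧸ 𝔮 ^ k)ˣ with hn
  let φ : MonoidAlgebra R₀ M →ₐ[R₀] MonoidAlgebra R₀ M ⧸ 𝔮 ^ k := Ideal.Quotient.mkₐ R₀ (𝔮 ^ k)
  let f : M →* MonoidAlgebra R₀ M ⧸ 𝔮 ^ k :=
    (φ : MonoidAlgebra R₀ M →* MonoidAlgebra R₀ M ⧸ 𝔮 ^ k).comp (MonoidAlgebra.of R₀ M)
  have hf : ∀ m : M, f m ^ n = 1 := by
    intro m
    have hu : IsUnit (f m) := (Group.isUnit m).map f
    obtain ⟨u, hu⟩ := hu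
    rw [← hu, ← Units.val_pow_eq_pow_val, hn, pow_card_eq_one', Units.val_one]
  have hker : powSub M n ≤ f.ker := by
    rintro _ ⟨m, rfl⟩
    rw [MonoidHom.mem_ker]
    show f (m ^ n) = 1
    rw [map_pow, hf]
  let g : M ⧸ powSub M n →* MonoidAlgebra R₀ M ⧸ 𝔮 ^ k := QuotientGroup.lift (powSub M n) f hker
  let ψ : MonoidAlgebra R₀ (M ⧸ powSub M n) →ₐ[R₀] MonoidAlgebra R₀ M ⧸ 𝔮 ^ k :=
    MonoidAlgebra.lift R₀ _ _ g
  have hcomp : ∀ x : MonoidAlgebra R₀ M, ψ (quotMap R₀ M n x) = φ x := by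
    intro x
    induction x using MonoidAlgebra.induction_linear with
    | zero => simp
    | add x y hx hy => rw [map_add, map_add, map_add, hx, hy]
    | single m r =>
      have h1 : quotMap R₀ M n (MonoidAlgebra.single m r) =
          MonoidAlgebra.single (QuotientGroup.mk' (powSub M n) m) r := by
        unfold quotMap
        rw [MonoidAlgebra.mapDomainBialgHom_single]
      rw [h1]
      show MonoidAlgebra.lift R₀ _ _ g (MonoidAlgebra.single _ r) = _
      rw [MonoidAlgebra.lift_single]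
      show r • f m = _
      have h2 : MonoidAlgebra.single m r = r • MonoidAlgebra.of R₀ M m := by
        rw [MonoidAlgebra.of_apply, MonoidAlgebra.smul_single, smul_eq_mul, mul_one]
      rw [h2, map_smul]
      rfl
  intro x hx
  rw [RingHom.mem_ker] at hx
  have h1 : φ x = 0 := by
    rw [← hcomp, hx, map_zero]
  exact Ideal.Quotient.eq_zero_iff_mem.mp h1

end Ker

section IntCase

theorem core_int (R₀ : Type u) [CommRing R₀] [Algebra.FiniteType ℤ R₀] (M : Type u) [CommGroup M]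
    [Group.FG M] (a y : MonoidAlgebra R₀ M)
    (h : ∀ n : ℕ, 0 < n → ∃ N : ℕ, quotMap R₀ M n (a ^ N * y) = 0) : ∃ N : ℕ, a ^ N * y = 0 := by
  haveI : Monoid.FG M := Group.fg_iff_monoid_fg.mp inferInstance
  haveI : Algebra.FiniteType ℤ (MonoidAlgebra R₀ M) :=
    Algebra.FiniteType.trans (S := R₀) inferInstance inferInstance
  haveI : IsNoetherianRing (MonoidAlgebra R₀ M) := Algebra.FiniteType.isNoetherianRing ℤ _
  haveI := isJacobsonRing_int
  haveI : IsJacobsonRing (MonoidAlgebra R₀ M) := isJacobsonRing_of_finiteType (A := ℤ)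
  refine exists_pow_mul_eq_zero_of_jacobson (fun n => RingHom.ker (quotMap R₀ M n)) ?_ a y ?_
  · intro 𝔮 hq k
    haveI := hq
    letI : Field (MonoidAlgebra R₀ M ⧸ 𝔮) := Ideal.Quotient.field 𝔮
    haveI : Finite (MonoidAlgebra R₀ M ⧸ 𝔮) := finite_of_field_finiteType_int _
    haveI : Finite (MonoidAlgebra R₀ M ⧸ 𝔮 ^ k) :=
      Ideal.finite_quotient_pow (IsNoetherian.noetherian 𝔮) k
    exact ker_quotMap_le_pow R₀ M 𝔮 k
  · intro n hn
    obtain ⟨N, hN⟩ := h n hn
    exact ⟨N, hN⟩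

end IntCase

section Reduce

theorem exists_mapRingHom_eq {R : Type*} [CommRing R] {M : Type*} [Monoid M]
    (R₀ : Subalgebra ℤ R) (x : MonoidAlgebra R M) (hx : ∀ m, x.coeff m ∈ R₀) :
    ∃ x₀ : MonoidAlgebra R₀ M, MonoidAlgebra.mapRingHom M (R₀.val : R₀ →+* R) x₀ = x := by
  classical
  refine ⟨MonoidAlgebra.ofCoeff (x.coeff.mapRange
    (fun r => if h : r ∈ R₀ then (⟨r, h⟩ : R₀) else 0) (by split_ifs <;> rfl)), ?_⟩
  ext m
  rw [MonoidAlgebra.coeff_mapRingHom]
  simp [dif_pos (hx m)]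

theorem diag_core (R : Type u) [CommRing R] (M : Type u) [CommGroup M] [Group.FG M]
    (a y : MonoidAlgebra R M)
    (h : ∀ n : ℕ, 0 < n → ∃ N : ℕ, quotMap R M n (a ^ N * y) = 0) : ∃ N : ℕ, a ^ N * y = 0 := by
  classical
  let S₀ : Finset R := a.coeff.support.image a.coeff ∪ y.coeff.support.image y.coeff
  let R₀ : Subalgebra ℤ R := Algebra.adjoin ℤ (S₀ : Set R)
  haveI : Algebra.FiniteType ℤ R₀ := Algebra.FiniteType.adjoin_of_finite S₀.finite_toSet
  let ι : R₀ →+* R := (R₀.val : R₀ →+* R)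
  have hιinj : Function.Injective ι := Subtype.val_injective
  have hΦinj : ∀ (N : Type u) [CommGroup N],
      Function.Injective (MonoidAlgebra.mapRingHom N ι) := by
    intro N _ x x' hxx
    ext m
    have h1 := congrArg (fun z => z.coeff m) hxx
    simp only [MonoidAlgebra.coeff_mapRingHom] at h1
    exact congrArg Subtype.val (hιinj h1)
  have hcomm : ∀ (n : ℕ) (x : MonoidAlgebra R₀ M),
      MonoidAlgebra.mapRingHom _ ι (quotMap R₀ M n x) =
        quotMap R M n (MonoidAlgebra.mapRingHom M ι x) := by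
    intro n x
    induction x using MonoidAlgebra.induction_linear with
    | zero => simp
    | add x y hx hy => rw [map_add, map_add, map_add, map_add, hx, hy]
    | single m r =>
      unfold quotMap
      rw [MonoidAlgebra.mapDomainBialgHom_single, MonoidAlgebra.mapRingHom_single,
        MonoidAlgebra.mapRingHom_single, MonoidAlgebra.mapDomainBialgHom_single]
  have hmemS : ∀ r ∈ S₀, r ∈ R₀ := fun r hr => Algebra.subset_adjoin hr
  have hacoeff : ∀ m, a.coeff m ∈ R₀ := by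
    intro m
    by_cases hm : m ∈ a.coeff.support
    · exact hmemS _ (Finset.mem_union_left _ (Finset.mem_image_of_mem _ hm))
    · rw [Finsupp.notMem_support_iff.mp hm]
      exact R₀.zero_mem
  have hycoeff : ∀ m, y.coeff m ∈ R₀ := by
    intro m
    by_cases hm : m ∈ y.coeff.support
    · exact hmemS _ (Finset.mem_union_right _ (Finset.mem_image_of_mem _ hm))
    · rw [Finsupp.notMem_support_iff.mp hm]
      exact R₀.zero_mem
  obtain ⟨a₀, ha₀⟩ := exists_mapRingHom_eq R₀ a hacoeff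
  obtain ⟨y₀, hy₀⟩ := exists_mapRingHom_eq R₀ y hycoeff
  have h₀ : ∀ n : ℕ, 0 < n → ∃ N : ℕ, quotMap R₀ M n (a₀ ^ N * y₀) = 0 := by
    intro n hn
    obtain ⟨N, hN⟩ := h n hn
    refine ⟨N, hΦinj _ ?_⟩
    rw [hcomm, map_mul, map_pow, ha₀, hy₀, hN, map_zero]
  obtain ⟨N, hN⟩ := core_int R₀ M a₀ y₀ h₀
  refine ⟨N, ?_⟩
  rw [← ha₀, ← hy₀, ← map_pow, ← map_mul, hN, map_zero]

end Reduce

section Main

theorem iInf_torsionIdeal_eq_bot (R : Type u) [CommRing R] (A : Type u) [CommRing A]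
    [HopfAlgebra R A] (hft : Algebra.FiniteType R A) (h : IsMultType R A) (a : A) :
    ⨅ n : {n : ℕ // 0 < n},
      Ideal.map (algebraMap A (Localization.Away a)) (torsionIdeal R A n.1) = ⊥ := by
  rw [eq_bot_iff]
  intro x hx
  rw [Ideal.mem_bot]
  rw [Submodule.mem_iInf] at hx
  obtain ⟨⟨y, s⟩, hys⟩ := IsLocalization.surj (Submonoid.powers a) x
  have hunit : IsUnit (algebraMap A (Localization.Away a) s) :=
    IsLocalization.map_units _ s
  suffices hy0 : algebraMap A (Localization.Away a) y = 0 by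
    have h1 : x * algebraMap A (Localization.Away a) s = 0 := by rw [hys, hy0]
    exact (hunit.mul_left_eq_zero).mp h1
  have hyn : ∀ n : ℕ, 0 < n → ∃ N : ℕ, a ^ N * y ∈ torsionIdeal R A n := by
    intro n hn
    have h1 : algebraMap A (Localization.Away a) y ∈
        Ideal.map (algebraMap A (Localization.Away a)) (torsionIdeal R A n) := by
      rw [← hys]
      exact Ideal.mul_mem_right _ _ (hx ⟨n, hn⟩)
    rw [IsLocalization.algebraMap_mem_map_algebraMap_iff (Submonoid.powers a)] at h1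
    obtain ⟨_, ⟨N, rfl⟩, hN⟩ := h1
    exact ⟨N, hN⟩
  obtain ⟨s, hs, hcov⟩ := hasDiagCover_of_isMultType h
  apply Groth.Agent.Lib.R2H7.FinMult.eq_zero_of_span s hs
  intro f hf
  obtain ⟨S, _, _, _, _, hff, M, _, ⟨ε⟩⟩ := hcov f hf
  -- reduce to `S ⊗[R] L`
  set L := Localization.Away a with hL
  set y' : L := algebraMap A L y with hy'
  have hinj := Module.FaithfullyFlat.tensorProduct_mk_injective (A := Localization.Away f)
    (B := S) (Localization.Away f ⊗[R] L)
  apply hinj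
  rw [map_zero]
  apply (TensorProduct.AlgebraTensorModule.cancelBaseChange R (Localization.Away f) S S L).injective
  rw [map_zero]
  show TensorProduct.AlgebraTensorModule.cancelBaseChange R (Localization.Away f) S S L
    ((1 : S) ⊗ₜ[Localization.Away f] ((1 : Localization.Away f) ⊗ₜ[R] y')) = 0
  rw [TensorProduct.AlgebraTensorModule.cancelBaseChange_tmul, one_smul]
  -- now in `S ⊗[R] L`
  rcases subsingleton_or_nontrivial S with hS | hS
  · haveI : Subsingleton (S ⊗[R] L) := Module.subsingleton S _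
    exact Subsingleton.elim _ _
  have hftS : Algebra.FiniteType S (MonoidAlgebra S M) :=
    Algebra.FiniteType.equiv (inferInstance : Algebra.FiniteType S (S ⊗[R] A))
      (ε : S ⊗[R] A ≃ₐ[S] MonoidAlgebra S M)
  haveI : Group.FG M := MonoidAlgebra.finiteType_iff_group_fg.mp hftS
  have hmul : ∀ N : ℕ, (1 : S) ⊗ₜ[R] (a ^ N * y) = ((1 : S) ⊗ₜ[R] a) ^ N * ((1 : S) ⊗ₜ[R] y) := by
    intro N
    rw [Algebra.TensorProduct.tmul_pow, one_pow, Algebra.TensorProduct.tmul_mul_tmul, one_mul]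
  obtain ⟨N, hN⟩ := diag_core S M (ε ((1 : S) ⊗ₜ[R] a)) (ε ((1 : S) ⊗ₜ[R] y)) (by
    intro n hn
    obtain ⟨N, hN⟩ := hyn n hn
    refine ⟨N, ?_⟩
    have h1 := one_tmul_mem_torsionIdeal S n hN
    have h2 := map_mem_torsionIdeal ε.toBialgHom n h1
    have h3 := torsionIdeal_le_ker_quotMap S M n h2
    rw [RingHom.mem_ker] at h3
    rw [← map_pow, ← map_mul, ← hmul]
    exact h3)
  have hN' : ((1 : S) ⊗ₜ[R] a) ^ N * ((1 : S) ⊗ₜ[R] y) = 0 := by
    have h5 : ε (((1 : S) ⊗ₜ[R] a) ^ N * ((1 : S) ⊗ₜ[R] y)) = ε 0 := by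
      rw [map_mul, map_pow, hN, map_zero]
    exact EquivLike.injective ε h5
  let j : S ⊗[R] A →ₐ[S] S ⊗[R] L :=
    Algebra.TensorProduct.map (AlgHom.id S S) (IsScalarTower.toAlgHom R A L)
  have hj : ∀ z : A, j ((1 : S) ⊗ₜ[R] z) = (1 : S) ⊗ₜ[R] algebraMap A L z := by
    intro z
    simp [j]
  have h4 := congrArg j hN'
  rw [map_mul, map_pow, hj, hj, map_zero] at h4
  have hu : IsUnit ((1 : S) ⊗ₜ[R] algebraMap A L a) :=
    (IsLocalization.Away.algebraMap_isUnit (S := L) a).map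
      (Algebra.TensorProduct.includeRight : L →ₐ[R] S ⊗[R] L)
  exact ((hu.pow N).mul_right_eq_zero).mp h4

end Main

end Groth.Agent.Lib.R2H7.TorsDense
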