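import Mathlib
import Groth.Agent.Lib.Helper25TorsQuot
import Groth.Agent.Lib.R2H7SepSplitC

/-!
# R2H7TrivFibre: closed subgroups of groups of multiplicative type over a local ring with trivial
closed fibre are trivial

* `counit_powConv`, `torsionIdeal_le_ker_counit`.
* `finite_quotient_torsionIdeal`: for `A` of multiplicative type (constant type) and of finite type,
  `A ⧸ torsionIdeal R A n` is a finite `R`-module (no Hopf structure on the quotient is used).
* `isMultTypeConst_of_isLocalRing`.
* `eq_augIdeal_of_fibre_trivial`: over a local ring, a Hopf ideal `J` of `A` with `A ⧸ J` of finite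
  presentation and `J + 𝔪 A = ker ε + 𝔪 A` is `ker ε`.
-/

set_option autoImplicit false
universe u

namespace Groth.Agent.Lib.R2H7.TrivFibre

open TensorProduct Coalgebra SGA3b Groth.Agent.Lib.Helper25 Groth.Agent.Lib.Helper25.Tors
  Groth.Agent.Lib.R2H7.SepSplitC

section Counit

variable {R : Type u} [CommRing R] {A : Type u} [CommRing A] [HopfAlgebra R A]

theorem powConv_self (n : ℕ) (r : R) : powConv R R n r = r := by
  have h := (powConv R R n).commutes r
  simpa using h

theorem counit_powConv (n : ℕ) (a : A) :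
    counit (R := R) (powConv R A n a) = counit (R := R) a := by
  have h := map_powConv (Bialgebra.counitBialgHom R A) n a
  rw [powConv_self] at h
  exact h

theorem powConv_sub_algebraMap_mem (n : ℕ) (a : A) :
    powConv R A n a - algebraMap R A (counit (R := R) a) ∈ torsionIdeal R A n := by
  have h1 : powConv R A n a - algebraMap R A (counit (R := R) a) =
      powConv R A n (a - algebraMap R A (counit (R := R) a)) := by
    rw [map_sub, AlgHom.commutes]
  rw [h1]
  apply Ideal.mem_map_of_mem
  rw [RingHom.mem_ker]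
  change counit (R := R) (a - algebraMap R A (counit (R := R) a)) = 0
  rw [map_sub, Bialgebra.counit_algebraMap, sub_self]

theorem torsionIdeal_le_ker_counit (n : ℕ) :
    torsionIdeal R A n ≤ RingHom.ker (Bialgebra.counitAlgHom R A) := by
  unfold torsionIdeal
  rw [Ideal.map_le_iff_le_comap]
  intro a ha
  rw [Ideal.mem_comap, RingHom.mem_ker] at *
  change counit (R := R) (powConv R A n a) = 0
  rw [counit_powConv]
  exact ha

end Counit

section Finite

variable {R : Type u} [CommRing R] {A : Type u} [CommRing A] [HopfAlgebra R A]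

/-- The quotient of `T ⊗ A` by the extension of the torsion ideal. -/
noncomputable def sig0 (T : Type u) [CommRing T] [Algebra R T] (n : ℕ) :
    T ⊗[R] A →ₐ[T] T ⊗[R] (A ⧸ torsionIdeal R A n) :=
  Algebra.TensorProduct.map (AlgHom.id T T) (Ideal.Quotient.mkₐ R (torsionIdeal R A n))

theorem sig0_tmul (T : Type u) [CommRing T] [Algebra R T] (n : ℕ) (t : T) (a : A) :
    sig0 (R := R) (A := A) T n (t ⊗ₜ[R] a) = t ⊗ₜ[R] Ideal.Quotient.mk (torsionIdeal R A n) a := by
  simp [sig0]

theorem sig0_surjective (T : Type u) [CommRing T] [Algebra R T] (n : ℕ) :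
    Function.Surjective (sig0 (R := R) (A := A) T n) := by
  intro y
  induction y using TensorProduct.induction_on with
  | zero => exact ⟨0, map_zero _⟩
  | tmul c ab =>
    obtain ⟨a, rfl⟩ := Ideal.Quotient.mk_surjective ab
    exact ⟨c ⊗ₜ[R] a, sig0_tmul T n c a⟩
  | add x y hx hy =>
    obtain ⟨x', rfl⟩ := hx
    obtain ⟨y', rfl⟩ := hy
    exact ⟨x' + y', map_add _ _ _⟩

theorem sig0_powConv (T : Type u) [CommRing T] [Algebra R T] (n : ℕ) (w : T ⊗[R] A) :
    sig0 (R := R) (A := A) T n (powConv T (T ⊗[R] A) n w) =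
      sig0 (R := R) (A := A) T n (algebraMap T (T ⊗[R] A) (counit (R := T) w)) := by
  induction w using TensorProduct.induction_on with
  | zero => simp
  | tmul t a =>
    rw [powConv_baseChange, sig0_tmul, TensorProduct.counit_tmul, AlgHom.commutes,
      Algebra.TensorProduct.algebraMap_apply]
    have h1 : Ideal.Quotient.mk (torsionIdeal R A n) (powConv R A n a) =
        Ideal.Quotient.mk (torsionIdeal R A n) (algebraMap R A (counit (R := R) a)) := by
      rw [Ideal.Quotient.mk_eq_mk_iff_sub_mem]
      exact powConv_sub_algebraMap_mem n a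
    rw [h1]
    have h2 : Ideal.Quotient.mk (torsionIdeal R A n) (algebraMap R A (counit (R := R) a)) =
        (counit (R := R) a) • (1 : A ⧸ torsionIdeal R A n) := by
      rw [Algebra.algebraMap_eq_smul_one, ← Ideal.Quotient.mkₐ_eq_mk R, map_smul, map_one]
    rw [h2, TensorProduct.tmul_smul, TensorProduct.smul_tmul']
    congr 1
  | add x y hx hy => rw [map_add, map_add, hx, hy, map_add, map_add, map_add]

/-- For `A` of multiplicative type (with constant type) and of finite type, the quotient by the
`n`-torsion ideal is a finite module. -/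
theorem finite_quotient_torsionIdeal (hft : Algebra.FiniteType R A) (h : IsMultTypeConst R A)
    (n : ℕ) (hn : 0 < n) : Module.Finite R (A ⧸ torsionIdeal R A n) := by
  classical
  obtain ⟨T, _, _, hff, M, _, ⟨ε⟩⟩ := h
  haveI := hff
  haveI := hft
  by_cases hT : Nontrivial T
  · haveI h1 : Algebra.FiniteType T (T ⊗[R] A) := inferInstance
    haveI h2 : Algebra.FiniteType T (MonoidAlgebra T M) :=
      Algebra.FiniteType.equiv h1 ε.toAlgEquiv
    haveI : Group.FG M := MonoidAlgebra.finiteType_iff_group_fg.mp h2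
    haveI : Finite (M ⧸ powSub M n) := by
      apply CommGroup.finite_of_fg_isMulTorsion
      intro c
      obtain ⟨m, rfl⟩ := QuotientGroup.mk_surjective c
      rw [isOfFinOrder_iff_pow_eq_one]
      refine ⟨n, hn, ?_⟩
      rw [← QuotientGroup.mk_pow, QuotientGroup.eq_one_iff]
      exact ⟨m, rfl⟩
    -- the group-like elements `u m`
    let u : M → T ⊗[R] (A ⧸ torsionIdeal R A n) :=
      fun m => sig0 T n (ε.symm (MonoidAlgebra.single m 1))
    have hu_mul : ∀ m m', u (m * m') = u m * u m' := by
      intro m m'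
      change sig0 T n (ε.symm (MonoidAlgebra.single (m * m') 1)) = _
      have : (MonoidAlgebra.single (m * m') (1 : T) : MonoidAlgebra T M) =
          MonoidAlgebra.single m 1 * MonoidAlgebra.single m' 1 := by
        rw [MonoidAlgebra.single_mul_single, mul_one]
      rw [this, map_mul, map_mul]
    have hu_pow : ∀ m, u m ^ n = 1 := by
      intro m
      have hgl : IsGroupLikeElem T (ε.symm (MonoidAlgebra.single m 1)) :=
        (MonoidAlgebra.isGroupLikeElem_single_one (R := T) (A := T) m).map ε.symm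
      have h3 := sig0_powConv (R := R) (A := A) T n (ε.symm (MonoidAlgebra.single m 1))
      rw [powConv_groupLike n hgl.comul_eq_tmul_self hgl.counit_eq_one, hgl.counit_eq_one,
        map_one, map_one, map_pow] at h3
      exact h3
    have hu_pow' : ∀ (m p : M), u (m * p ^ n) = u m := by
      intro m p
      have h4 : ∀ k : ℕ, u (p ^ k) = u p ^ k := by
        intro k
        induction k with
        | zero =>
          rw [pow_zero, pow_zero]
          change sig0 T n (ε.symm (MonoidAlgebra.single 1 1)) = 1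
          rw [← MonoidAlgebra.one_def, map_one, map_one]
        | succ k ih => rw [pow_succ, hu_mul, ih, pow_succ]
      rw [hu_mul, h4, hu_pow, mul_one]
    have hspan : Submodule.span T (Set.range fun c : M ⧸ powSub M n => u (Quotient.out c)) = ⊤ := by
      rw [eq_top_iff]
      have key : ∀ x : MonoidAlgebra T M, sig0 (R := R) (A := A) T n (ε.symm x) ∈
          Submodule.span T (Set.range fun c : M ⧸ powSub M n => u (Quotient.out c)) := by
        intro x
        induction x using MonoidAlgebra.induction_linear with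
        | zero =>
          rw [map_zero, map_zero]
          exact Submodule.zero_mem _
        | add x y hx hy =>
          rw [map_add, map_add]
          exact Submodule.add_mem _ hx hy
        | single m t =>
          have h5 : (MonoidAlgebra.single m t : MonoidAlgebra T M) =
              t • MonoidAlgebra.single m 1 := by
            rw [MonoidAlgebra.smul_single', mul_one]
          rw [h5, map_smul, map_smul]
          apply Submodule.smul_mem
          change u m ∈ _
          have h6 : (QuotientGroup.mk (Quotient.out (QuotientGroup.mk m : M ⧸ powSub M n)) :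
              M ⧸ powSub M n) = QuotientGroup.mk m := Quotient.out_eq _
          rw [QuotientGroup.eq] at h6
          obtain ⟨p, hp⟩ := h6
          have h7 : m = Quotient.out (QuotientGroup.mk m : M ⧸ powSub M n) * p ^ n := by
            change p ^ n = _ at hp
            rw [hp]
            group
          rw [h7, hu_pow']
          exact Submodule.subset_span ⟨_, rfl⟩
      intro y _
      obtain ⟨z, rfl⟩ := sig0_surjective (R := R) (A := A) T n y
      have h8 := key (ε z)
      rwa [ε.symm_apply_apply] at h8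
    haveI : Module.Finite T (T ⊗[R] (A ⧸ torsionIdeal R A n)) := by
      rw [Module.finite_def, ← hspan]
      exact Submodule.fg_span (Set.finite_range _)
    exact Module.Finite.of_finite_tensorProduct_of_faithfullyFlat T
  · rw [not_nontrivial_iff_subsingleton] at hT
    haveI : Subsingleton R := (FaithfulSMul.algebraMap_injective R T).subsingleton
    haveI : Subsingleton (A ⧸ torsionIdeal R A n) := Module.subsingleton R _
    infer_instance

end Finite

section Point

variable {R : Type u} [CommRing R] {B : Type u} [CommRing B] [HopfAlgebra R B]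

/-- If the augmentation ideal of `B` is generated by an idempotent and `Ω ⊗ B` is a group algebra
`Ω[Q]` over a field `Ω`, then `Q` is finite, hence `Ω ⊗ B` is killed by an integer `n > 0`. -/
theorem exists_killed_of_aug_idempotent (Ω : Type u) [Field Ω] [Algebra R Ω] (e : B)
    (he : IsIdempotentElem e)
    (hIe : ∀ b : B, counit (R := R) b = 0 → b ∈ Ideal.span {e}) (hce : counit (R := R) e = 0)
    (hD : IsDiag Ω (Ω ⊗[R] B)) :
    ∃ n : ℕ, 0 < n ∧ ∀ b ∈ torsionIdeal R B n, (1 : Ω) ⊗ₜ[R] b = (0 : Ω ⊗[R] B) := by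
  classical
  obtain ⟨Q, _, ⟨θ⟩⟩ := hD
  set e' : MonoidAlgebra Ω Q := θ ((1 : Ω) ⊗ₜ[R] e) with he'
  have he'i : e' * e' = e' := by
    rw [he', ← map_mul, Algebra.TensorProduct.tmul_mul_tmul, one_mul, he.eq]
  have hce' : counit (R := Ω) e' = 0 := by
    rw [he', CoalgHomClass.counit_comp_apply θ, TensorProduct.counit_tmul, hce, zero_smul]
  have haug : ∀ w : Ω ⊗[R] B,
      w - algebraMap Ω (Ω ⊗[R] B) (counit (R := Ω) w) ∈ Ideal.span {(1 : Ω) ⊗ₜ[R] e} := by
    intro w
    induction w using TensorProduct.induction_on with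
    | zero => simp
    | tmul ω b =>
      have h1 : ω ⊗ₜ[R] b - algebraMap Ω (Ω ⊗[R] B) (counit (R := Ω) (ω ⊗ₜ[R] b)) =
          ω ⊗ₜ[R] (b - algebraMap R B (counit (R := R) b)) := by
        rw [TensorProduct.counit_tmul, Algebra.TensorProduct.algebraMap_apply,
          TensorProduct.tmul_sub, Algebra.algebraMap_eq_smul_one (counit (R := R) b),
          TensorProduct.tmul_smul, TensorProduct.smul_tmul']
        congr 2
      rw [h1]
      have h2 : b - algebraMap R B (counit (R := R) b) ∈ Ideal.span {e} := by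
        apply hIe
        rw [map_sub, Bialgebra.counit_algebraMap, sub_self]
      obtain ⟨c, hc⟩ := Ideal.mem_span_singleton'.mp h2
      have h3 : ω ⊗ₜ[R] (b - algebraMap R B (counit (R := R) b)) =
          (ω ⊗ₜ[R] c) * ((1 : Ω) ⊗ₜ[R] e) := by
        rw [Algebra.TensorProduct.tmul_mul_tmul, mul_one, hc]
      rw [h3]
      exact Ideal.mul_mem_left _ _ (Ideal.mem_span_singleton_self _)
    | add x y hx hy =>
      have h1 : x + y - algebraMap Ω (Ω ⊗[R] B) (counit (R := Ω) (x + y)) =
          (x - algebraMap Ω (Ω ⊗[R] B) (counit (R := Ω) x)) +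
          (y - algebraMap Ω (Ω ⊗[R] B) (counit (R := Ω) y)) := by
        rw [map_add, map_add]
        abel
      rw [h1]
      exact Ideal.add_mem _ hx hy
  have hq1 : ∀ g : Q, (1 - e') * (MonoidAlgebra.single g 1 - 1) = 0 := by
    intro g
    have h1 : counit (R := Ω) (θ.symm (MonoidAlgebra.single g 1 - 1)) = 0 := by
      rw [CoalgHomClass.counit_comp_apply θ.symm, map_sub, MonoidAlgebra.counit_single]
      simp
    have h2 := haug (θ.symm (MonoidAlgebra.single g 1 - 1))
    rw [h1, map_zero, sub_zero] at h2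
    obtain ⟨y, hy⟩ := Ideal.mem_span_singleton'.mp h2
    have h3 : MonoidAlgebra.single g 1 - 1 = θ y * e' := by
      rw [he', ← map_mul, hy, BialgEquiv.apply_symm_apply]
    rw [h3]
    calc (1 - e') * (θ y * e') = θ y * (e' - e' * e') := by ring
      _ = 0 := by rw [he'i, sub_self, mul_zero]
  set f : MonoidAlgebra Ω Q := 1 - e' with hf
  have hfg' : ∀ g : Q, f * MonoidAlgebra.single g 1 = f := by
    intro g
    have h1 := hq1 g
    rw [mul_sub, mul_one, sub_eq_zero] at h1
    exact h1
  have hcf : counit (R := Ω) f = 1 := by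
    rw [hf, map_sub, hce', sub_zero]
    exact (IsGroupLikeElem.one (R := Ω) (A := MonoidAlgebra Ω Q)).counit_eq_one
  have hf0 : f ≠ 0 := by
    intro h0
    rw [h0, map_zero] at hcf
    exact zero_ne_one hcf
  have hcoef : ∀ g : Q, f.coeff g = f.coeff 1 := by
    intro g
    have h1 : (f * MonoidAlgebra.single g 1).coeff g = f.coeff g :=
      congrArg (fun y => y.coeff g) (hfg' g)
    rw [MonoidAlgebra.coeff_mul_single_eq_coeff_mul (m₂ := 1)
      (fun m' _ => by
        constructor
        · intro h
          exact mul_right_cancel (h.trans (one_mul g).symm)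
        · rintro rfl
          exact one_mul g), mul_one] at h1
    exact h1.symm
  haveI : Finite Q := by
    obtain ⟨g0, hg0⟩ : ∃ g0, f.coeff g0 ≠ 0 := by
      by_contra hall
      push Not at hall
      apply hf0
      apply MonoidAlgebra.coeff_injective
      ext g
      exact hall g
    have h1 : ∀ g : Q, g ∈ f.coeff.support := by
      intro g
      rw [Finsupp.mem_support_iff, hcoef g, ← hcoef g0]
      exact hg0
    exact Set.finite_univ_iff.mp ((Finset.finite_toSet f.coeff.support).subset
      (fun g _ => h1 g))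
  have hn : 0 < Nat.card Q := Nat.card_pos
  have hpow : ∀ g : Q, g ^ Nat.card Q = 1 := fun g => pow_card_eq_one'
  have hkill : torsionIdeal Ω (MonoidAlgebra Ω Q) (Nat.card Q) = ⊥ :=
    (torsionIdeal_eq_bot_iff (Nat.card Q)).mpr (isKilled_monoidAlgebra Q (Nat.card Q) hpow)
  refine ⟨Nat.card Q, hn, fun b hb => ?_⟩
  have h2 := one_tmul_mem_torsionIdeal Ω (Nat.card Q) hb
  have h3 := map_mem_torsionIdeal θ.toBialgHom (Nat.card Q) h2
  rw [hkill, Ideal.mem_bot] at h3
  exact θ.injective (h3.trans (map_zero θ).symm)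

end Point

section Local

variable {R : Type u} [CommRing R] [IsLocalRing R] {A : Type u} [CommRing A] [HopfAlgebra R A]

/-- Over a local ring, a group of multiplicative type has constant type. -/
theorem isMultTypeConst_of_isLocalRing (h : IsMultType R A) : IsMultTypeConst R A := by
  obtain ⟨s, hs, hmt⟩ := h
  obtain ⟨f, hfs, hfu⟩ : ∃ f ∈ s, IsUnit f := by
    by_contra hall
    push Not at hall
    have h1 : Ideal.span s ≤ IsLocalRing.maximalIdeal R :=
      Ideal.span_le.mpr (fun x hx => (IsLocalRing.mem_maximalIdeal x).mpr (hall x hx))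
    rw [hs] at h1
    exact (IsLocalRing.maximalIdeal.isMaximal R).ne_top (top_le_iff.mp h1)
  obtain ⟨R', _, _, hff, hD⟩ := hmt f hfs
  haveI := hff
  letI : Algebra R R' :=
    ((algebraMap (Localization.Away f) R').comp (algebraMap R (Localization.Away f))).toAlgebra
  haveI : IsScalarTower R (Localization.Away f) R' := IsScalarTower.of_algebraMap_eq (fun _ => rfl)
  haveI : Module.FaithfullyFlat R (Localization.Away f) := by
    have e : R ≃ₐ[R] Localization.Away f :=
      IsLocalization.atUnits R (Submonoid.powers f) (by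
        rintro x ⟨k, rfl⟩
        exact hfu.pow k)
    exact Module.FaithfullyFlat.of_linearEquiv R R e.symm.toLinearEquiv
  haveI : Module.FaithfullyFlat R R' := Module.FaithfullyFlat.trans R (Localization.Away f) R'
  exact ⟨R', inferInstance, inferInstance, inferInstance,
    BCB.isDiag_of_equiv (BCB.cancelBC R (Localization.Away f) R' A).symm hD⟩

/-- Over a local ring `R`, let `A` be of multiplicative type and of finite type and `J` a Hopf ideal
with `A ⧸ J` of finite presentation.  If the closed fibre of `Spec (A ⧸ J)` is the unit group then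
`J` is the augmentation ideal. -/
theorem eq_augIdeal_of_fibre_trivial (hft : Algebra.FiniteType R A) (hH : IsMultType R A)
    (J : Ideal A) [J.IsHopfIdeal R] (hK : Algebra.FinitePresentation R (A ⧸ J))
    (hs : J ⊔ Ideal.map (algebraMap R A) (IsLocalRing.maximalIdeal R) =
      RingHom.ker (Bialgebra.counitAlgHom R A) ⊔
        Ideal.map (algebraMap R A) (IsLocalRing.maximalIdeal R)) :
    J = RingHom.ker (Bialgebra.counitAlgHom R A) := by
  classical
  haveI := hK
  have hjac : IsLocalRing.maximalIdeal R ≤ Ideal.jacobson (⊥ : Ideal R) :=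
    (IsLocalRing.jacobson_eq_maximalIdeal ⊥ bot_ne_top).ge
  let π : A →ₐc[R] A ⧸ J := Bialgebra.Quotient.mkBialgHom J
  have hπs : Function.Surjective π := Ideal.Quotient.mk_surjective
  have hcπ : ∀ a, counit (R := R) (π a) = counit (R := R) a :=
    fun a => CoalgHomClass.counit_comp_apply π a
  let εB : (A ⧸ J) →ₐ[R] R := Bialgebra.counitAlgHom R (A ⧸ J)
  have hεB : ∀ b, εB b = counit (R := R) b := fun _ => rfl
  have hJle : J ≤ RingHom.ker (Bialgebra.counitAlgHom R A) := by
    intro a ha
    rw [RingHom.mem_ker]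
    have h1 : π a = 0 := Ideal.Quotient.eq_zero_iff_mem.mpr ha
    change counit (R := R) a = 0
    rw [← hcπ, h1, map_zero]
  -- the augmentation ideal of the quotient
  set IB : Ideal (A ⧸ J) := RingHom.ker εB.toRingHom with hIB
  have hmemIB : ∀ b, b ∈ IB ↔ counit (R := R) b = 0 := fun b => RingHom.mem_ker
  -- the projection onto `IB`
  let ρ : (A ⧸ J) →ₗ[R] (A ⧸ J) := LinearMap.id - (Algebra.linearMap R (A ⧸ J)) ∘ₗ εB.toLinearMap
  have hρ : ∀ b, ρ b = b - algebraMap R (A ⧸ J) (counit (R := R) b) := fun _ => rfl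
  have hρmem : ∀ b, ρ b ∈ IB := by
    intro b
    rw [hmemIB, hρ, map_sub, Bialgebra.counit_algebraMap, sub_self]
  have hρfix : ∀ b ∈ IB, ρ b = b := by
    intro b hb
    rw [hρ, (hmemIB b).mp hb, map_zero, sub_zero]
  -- `IB ⊆ 𝔪 B`
  have hIBm : ∀ b ∈ IB, b ∈ IsLocalRing.maximalIdeal R • (⊤ : Submodule R (A ⧸ J)) := by
    intro b hb
    obtain ⟨a, rfl⟩ := hπs b
    have ha : a ∈ RingHom.ker (Bialgebra.counitAlgHom R A) := by
      rw [RingHom.mem_ker]
      change counit (R := R) a = 0
      rw [← hcπ]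
      exact (hmemIB _).mp hb
    have ha' : a ∈ J ⊔ Ideal.map (algebraMap R A) (IsLocalRing.maximalIdeal R) := by
      rw [hs]
      exact Ideal.mem_sup_left ha
    obtain ⟨j, hj, m', hm', rfl⟩ := Submodule.mem_sup.mp ha'
    have h1 : π j = 0 := Ideal.Quotient.eq_zero_iff_mem.mpr hj
    rw [map_add, h1, zero_add]
    have h2 : m' ∈ IsLocalRing.maximalIdeal R • (⊤ : Submodule R A) := by
      rw [Ideal.smul_top_eq_map]
      exact hm'
    exact map_mem_smul_top ((π : A →ₐ[R] A ⧸ J) : A →ₗ[R] A ⧸ J) _ h2
  have hIBm' : ∀ b ∈ IB, b ∈ IsLocalRing.maximalIdeal R • (IB.restrictScalars R) := by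
    intro b hb
    have h1 : ρ b ∈ (IsLocalRing.maximalIdeal R • (⊤ : Submodule R (A ⧸ J))).map ρ :=
      Submodule.mem_map_of_mem (hIBm b hb)
    rw [hρfix b hb, Submodule.map_smul''] at h1
    refine Submodule.smul_mono le_rfl ?_ h1
    rintro _ ⟨y, -, rfl⟩
    exact hρmem y
  -- `IB` is finitely generated
  have hεs : Function.Surjective εB := by
    intro r
    refine ⟨algebraMap R (A ⧸ J) r, ?_⟩
    rw [hεB, Bialgebra.counit_algebraMap]
  have hfg : IB.FG := Algebra.FinitePresentation.ker_fG_of_surjective εB hεs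
  -- `IB` is idempotent
  have hidem : IB ≤ IB * IB := by
    obtain ⟨S, hS⟩ := hfg
    have hSIB : ∀ x ∈ S, x ∈ IB := fun x hx => hS ▸ Ideal.subset_span hx
    set N : Submodule R (A ⧸ J) := Submodule.span R (S : Set (A ⧸ J)) with hN
    set P2 : Submodule R (A ⧸ J) := (IB * IB).restrictScalars R with hP2
    have hNIB : N ≤ IB.restrictScalars R := Submodule.span_le.mpr (fun x hx => hSIB x hx)
    have h6 : ∀ x ∈ IB, x ∈ N ⊔ P2 := by
      intro x hx
      have hx' : x ∈ Ideal.span (S : Set (A ⧸ J)) := hS ▸ hx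
      refine Submodule.span_induction (p := fun x _ => x ∈ N ⊔ P2) ?_ ?_ ?_ ?_ hx'
      · intro y hy
        exact Submodule.mem_sup_left (Submodule.subset_span hy)
      · exact Submodule.zero_mem _
      · intro y y' _ _ hy hy'
        exact Submodule.add_mem _ hy hy'
      · intro c y hy hy'
        have hyIB : y ∈ IB := hS ▸ hy
        have h7 : c • y = (counit (R := R) c) • y + ρ c * y := by
          rw [hρ, smul_eq_mul, sub_mul, Algebra.smul_def]
          ring
        rw [h7]
        refine Submodule.add_mem _ (Submodule.smul_mem _ _ hy') (Submodule.mem_sup_right ?_)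
        exact Ideal.mul_mem_mul (hρmem c) hyIB
    have h8 : N ≤ P2 ⊔ IsLocalRing.maximalIdeal R • N := by
      intro x hx
      have h9 : x ∈ IsLocalRing.maximalIdeal R • (IB.restrictScalars R) := hIBm' x (hNIB hx)
      have h10 : IsLocalRing.maximalIdeal R • (IB.restrictScalars R) ≤
          IsLocalRing.maximalIdeal R • (N ⊔ P2) :=
        Submodule.smul_mono le_rfl (fun y hy => h6 y hy)
      have h11 := h10 h9
      rw [Submodule.smul_sup] at h11
      obtain ⟨y1, hy1, y2, hy2, rfl⟩ := Submodule.mem_sup.mp h11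
      exact Submodule.add_mem _ (Submodule.mem_sup_right hy1)
        (Submodule.mem_sup_left (Submodule.smul_le_right hy2))
    have h12 : N ≤ P2 :=
      Submodule.le_of_le_smul_of_le_jacobson_bot (Submodule.fg_span (Finset.finite_toSet S))
        hjac h8
    intro x hx
    have h13 : x ∈ N ⊔ P2 := h6 x hx
    exact (sup_le h12 le_rfl : N ⊔ P2 ≤ P2) h13
  have hidem' : IsIdempotentElem IB := le_antisymm Ideal.mul_le_right hidem
  obtain ⟨e, he, hIe⟩ := (Ideal.isIdempotentElem_iff_of_fg IB hfg).mp hidem'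
  have heIB : e ∈ IB := by
    rw [hIe]
    exact Ideal.mem_span_singleton_self e
  have hce : counit (R := R) e = 0 := (hmemIB e).mp heIB
  -- the idempotent vanishes
  have he0 : e = 0 := by
    by_contra he0
    have hMTC := isMultTypeConst_of_isLocalRing hH
    obtain ⟨T, _, _, hff, hD⟩ := hMTC
    haveI := hff
    set z : T ⊗[R] (A ⧸ J) := (1 : T) ⊗ₜ[R] e with hz
    have hz0 : z ≠ 0 := by
      intro h0
      have h1 : e = 0 := Module.FaithfullyFlat.tensorProduct_mk_injective (A := R) (B := T)
        (A ⧸ J) (show (TensorProduct.mk R T (A ⧸ J) 1) e = (TensorProduct.mk R T (A ⧸ J) 1) 0 by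
          rw [map_zero]
          exact h0)
      exact he0 h1
    have hzi : z * z = z := by
      rw [hz, Algebra.TensorProduct.tmul_mul_tmul, one_mul, he.eq]
    have hne : Ideal.span {1 - z} ≠ ⊤ := by
      intro htop
      have h1 : (1 : T ⊗[R] (A ⧸ J)) ∈ Ideal.span {1 - z} := by
        rw [htop]
        trivial
      obtain ⟨c, hc⟩ := Ideal.mem_span_singleton'.mp h1
      apply hz0
      calc z = z * (c * (1 - z)) := by rw [hc, mul_one]
        _ = c * (z - z * z) := by ring
        _ = 0 := by rw [hzi, sub_self, mul_zero]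
    obtain ⟨q, hqmax, hq⟩ := Ideal.exists_le_maximal _ hne
    haveI := hqmax
    letI : Field ((T ⊗[R] (A ⧸ J)) ⧸ q) := Ideal.Quotient.field q
    have hιz : Ideal.Quotient.mk q z = 1 := by
      have h1 : (1 : T ⊗[R] (A ⧸ J)) - z ∈ q := hq (Ideal.mem_span_singleton_self _)
      have h2 := Ideal.Quotient.eq_zero_iff_mem.mpr h1
      rw [map_sub, map_one, sub_eq_zero] at h2
      exact h2.symm
    -- the geometric point
    let xb : (A ⧸ J) →ₐ[R] (T ⊗[R] (A ⧸ J)) ⧸ q :=
      (Ideal.Quotient.mkₐ R q).comp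
        (Algebra.TensorProduct.includeRight : (A ⧸ J) →ₐ[R] T ⊗[R] (A ⧸ J))
    have hxe : xb e = 1 := hιz
    -- diagonalisability over the point
    have hDΩ : IsDiag ((T ⊗[R] (A ⧸ J)) ⧸ q) (((T ⊗[R] (A ⧸ J)) ⧸ q) ⊗[R] A) :=
      BCB.isDiag_baseChange_of_tower R A T ((T ⊗[R] (A ⧸ J)) ⧸ q) hD
    let bcπ : ((T ⊗[R] (A ⧸ J)) ⧸ q) ⊗[R] A →ₐc[(T ⊗[R] (A ⧸ J)) ⧸ q]
        ((T ⊗[R] (A ⧸ J)) ⧸ q) ⊗[R] (A ⧸ J) :=
      Bialgebra.TensorProduct.map (BialgHom.id _ _) π
    have hbcπ : Function.Surjective bcπ := by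
      intro y
      induction y using TensorProduct.induction_on with
      | zero => exact ⟨0, map_zero _⟩
      | tmul c ab =>
        obtain ⟨a, rfl⟩ := Ideal.Quotient.mk_surjective ab
        exact ⟨c ⊗ₜ[R] a, rfl⟩
      | add x y hx hy =>
        obtain ⟨x', rfl⟩ := hx
        obtain ⟨y', rfl⟩ := hy
        exact ⟨x' + y', map_add _ _ _⟩
    have hDB : IsDiag ((T ⊗[R] (A ⧸ J)) ⧸ q) (((T ⊗[R] (A ⧸ J)) ⧸ q) ⊗[R] (A ⧸ J)) :=
      isDiag_of_isDiagonalizable
        (isDiagonalizable_of_surjective bcπ hbcπ (isDiagonalizable_of_isDiag hDΩ))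
    obtain ⟨n, hn, hkill⟩ := exists_killed_of_aug_idempotent ((T ⊗[R] (A ⧸ J)) ⧸ q) e he
      (fun b hb => by
        have h := (hmemIB b).mpr hb
        rw [hIe] at h
        exact h) hce hDB
    -- the point kills the torsion ideal
    let xt : ((T ⊗[R] (A ⧸ J)) ⧸ q) ⊗[R] (A ⧸ J) →ₐ[(T ⊗[R] (A ⧸ J)) ⧸ q]
        (T ⊗[R] (A ⧸ J)) ⧸ q :=
      Algebra.TensorProduct.lift (Algebra.ofId _ _) xb (fun _ _ => Commute.all _ _)
    have hxJ : ∀ j ∈ torsionIdeal R A n, xb (π j) = 0 := by
      intro j hj
      have h1 : π j ∈ torsionIdeal R (A ⧸ J) n := map_mem_torsionIdeal π _ hj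
      have h4 : (1 : (T ⊗[R] (A ⧸ J)) ⧸ q) ⊗ₜ[R] π j = 0 := hkill _ h1
      have h5 : xt ((1 : (T ⊗[R] (A ⧸ J)) ⧸ q) ⊗ₜ[R] π j) = xb (π j) := by
        simp [xt]
      rw [← h5, h4, map_zero]
    haveI hfin : Module.Finite R (A ⧸ torsionIdeal R A n) :=
      finite_quotient_torsionIdeal hft (isMultTypeConst_of_isLocalRing hH) n hn
    let gq : A ⧸ torsionIdeal R A n →ₐ[R] (T ⊗[R] (A ⧸ J)) ⧸ q :=
      Ideal.Quotient.liftₐ (torsionIdeal R A n) (xb.comp (π : A →ₐ[R] A ⧸ J))
        (fun a ha => hxJ a ha)
    set N : Submodule R ((T ⊗[R] (A ⧸ J)) ⧸ q) := LinearMap.range gq.toLinearMap with hN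
    have hNfg : N.FG := by
      rw [hN, LinearMap.range_eq_map]
      exact Module.Finite.fg_top.map _
    have hmemN : ∀ b, xb b ∈ N := by
      intro b
      obtain ⟨a, rfl⟩ := hπs b
      exact ⟨Ideal.Quotient.mk _ a, rfl⟩
    have hNmul : ∀ y ∈ N, ∀ y' ∈ N, y * y' ∈ N := by
      rintro _ ⟨a, rfl⟩ _ ⟨a', rfl⟩
      exact ⟨a * a', map_mul gq a a'⟩
    have h1N : (1 : (T ⊗[R] (A ⧸ J)) ⧸ q) ∈ IsLocalRing.maximalIdeal R • N := by
      have h1 : xb e ∈ (IsLocalRing.maximalIdeal R • (⊤ : Submodule R (A ⧸ J))).map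
          xb.toLinearMap := Submodule.mem_map_of_mem (hIBm e heIB)
      rw [hxe, Submodule.map_smul''] at h1
      refine Submodule.smul_mono le_rfl ?_ h1
      rintro _ ⟨b, -, rfl⟩
      exact hmemN b
    have hNle : N ≤ IsLocalRing.maximalIdeal R • N := by
      intro y hy
      have h1 : LinearMap.mulLeft R y 1 ∈ (IsLocalRing.maximalIdeal R • N).map
          (LinearMap.mulLeft R y) := Submodule.mem_map_of_mem h1N
      rw [Submodule.map_smul'', LinearMap.mulLeft_apply, mul_one] at h1
      refine Submodule.smul_mono le_rfl ?_ h1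
      rintro _ ⟨y', hy', rfl⟩
      exact hNmul y hy y' hy'
    have hNbot : N = ⊥ :=
      Submodule.eq_bot_of_le_smul_of_le_jacobson_bot _ N hNfg hNle hjac
    have h1mem : (1 : (T ⊗[R] (A ⧸ J)) ⧸ q) ∈ N := hxe ▸ hmemN e
    rw [hNbot, Submodule.mem_bot] at h1mem
    exact one_ne_zero h1mem
  -- conclusion
  apply le_antisymm hJle
  intro a ha
  rw [RingHom.mem_ker] at ha
  have h1 : π a ∈ IB := by
    rw [hmemIB, hcπ]
    exact ha
  rw [hIe, he0, Submodule.span_zero_singleton, Submodule.mem_bot] at h1
  exact Ideal.Quotient.eq_zero_iff_mem.mp h1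

end Local

end Groth.Agent.Lib.R2H7.TrivFibre
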