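import Mathlib
import Groth.Prelude.Def_SGA3b
import Groth.Agent.Lib.R2H7TorsDense
import Groth.Agent.Lib.R2H7TrivFibre
import Groth.Agent.Lib.Helper25MultRigid
import Groth.Agent.Lib.Helper25MultRigid2
import Groth.Agent.Lib.Helper25TakeuchiCor
import Groth.Agent.Lib.Helper25TorsQuot

/-!
# R2H7LocalRigid: homomorphisms from a group of multiplicative type over a local base

* `isHopfIdeal_map_bialgHom`: the ideal generated by the image of the augmentation ideal under a
  bialgebra map of commutative Hopf algebras is a Hopf ideal (any base ring).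
* `powBialg`, `powBialg_toAlgHom`, `isHopfIdeal_torsionIdeal`: for a cocommutative commutative Hopf
  algebra the `n`-th power map is a bialgebra map and `torsionIdeal R A n` is a Hopf ideal.
* `eq_zero_of_forall_mem_torsionIdeal`: density of the torsion subgroups, global form.
* `trivial_of_finite_aux`: finite free target of multiplicative type over a local ring.
* `bialgHom_trivial_of_fibre`, `bialgHom_eq_of_fibre`: a homomorphism from a group of multiplicative
  type and of finite type over a local ring which is trivial on the closed fibre is trivial; two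
  homomorphisms to a commutative group which agree on the closed fibre agree.
-/

set_option autoImplicit false
universe u v w

namespace Groth.Agent.Lib.R2H7.LocalRigid

open TensorProduct Coalgebra SGA3b WithConv Groth.Agent.Lib.Helper25 Groth.Agent.Lib.Helper25.Tors

section KerIdeal

variable {R : Type u} [CommRing R] {C : Type v} [CommRing C] [HopfAlgebra R C]
  {A : Type w} [CommRing A] [HopfAlgebra R A]

theorem map_counit_counit_comul (x : C) :
    TensorProduct.map (counit (R := R) (A := C)) (counit (R := R) (A := C)) (comul x) =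
      (1 : R) ⊗ₜ[R] counit (R := R) x := by
  have h := Coalgebra.rTensor_counit_comul (R := R) x
  have h2 : TensorProduct.map (counit (R := R) (A := C)) (counit (R := R) (A := C))
      = (LinearMap.lTensor R (counit (R := R) (A := C))) ∘ₗ
        (LinearMap.rTensor C (counit (R := R) (A := C))) := by
    ext a b
    simp
  rw [h2, LinearMap.comp_apply, h, LinearMap.lTensor_tmul]

/-- The ideal of the kernel of the group homomorphism given by a bialgebra map is a Hopf ideal. -/
theorem isHopfIdeal_map_bialgHom (ψ : C →ₐc[R] A) :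
    (Ideal.map (ψ : C →ₐ[R] A) (RingHom.ker (Bialgebra.counitAlgHom R C))).IsHopfIdeal R := by
  set J : Ideal A := Ideal.map (ψ : C →ₐ[R] A) (RingHom.ker (Bialgebra.counitAlgHom R C)) with hJ
  have hle : ∀ J' : Ideal A, (∀ x : C, counit (R := R) x = 0 → ψ x ∈ J') → J ≤ J' := by
    intro J' h
    rw [hJ, Ideal.map_le_iff_le_comap]
    intro x hx
    exact h x (by simpa [RingHom.mem_ker] using hx)
  have hmemJ : ∀ x : C, counit (R := R) x = 0 → ψ x ∈ J := by
    intro x hx
    exact Ideal.mem_map_of_mem (ψ : C →ₐ[R] A) (by simpa [RingHom.mem_ker] using hx)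
  have hcou : J ≤ RingHom.ker (Bialgebra.counitAlgHom R A) := by
    apply hle
    intro x hx
    rw [RingHom.mem_ker]
    change counit (R := R) (ψ x) = 0
    rw [CoalgHomClass.counit_comp_apply ψ x, hx]
  set π : A →ₐ[R] A ⧸ J := Ideal.Quotient.mkₐ R J with hπ
  have hmk : ∀ x : C, π (ψ x) = algebraMap R (A ⧸ J) (counit (R := R) x) := by
    intro x
    have h : ψ (x - algebraMap R C (counit (R := R) x)) ∈ J := hmemJ _ (by simp)
    rw [map_sub, AlgHomClass.commutes] at h
    have h1 := (Ideal.Quotient.eq_zero_iff_mem).mpr h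
    rw [map_sub, sub_eq_zero] at h1
    exact h1
  set G : A →ₐ[R] (A ⧸ J) ⊗[R] (A ⧸ J) :=
    (Algebra.TensorProduct.map π π).comp (Bialgebra.comulAlgHom R A) with hG
  have hcom : J ≤ RingHom.ker G := by
    apply hle
    intro x hx
    rw [RingHom.mem_ker]
    change TensorProduct.map π.toLinearMap π.toLinearMap (comul (ψ x)) = 0
    have h1 : comul (R := R) (ψ x) =
        TensorProduct.map (ψ : C →ₐ[R] A).toLinearMap (ψ : C →ₐ[R] A).toLinearMap (comul x) :=
      (CoalgHomClass.map_comp_comul_apply ψ x).symm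
    rw [h1, ← LinearMap.comp_apply, ← TensorProduct.map_comp]
    have h3 : π.toLinearMap ∘ₗ (ψ : C →ₐ[R] A).toLinearMap =
        Algebra.linearMap R (A ⧸ J) ∘ₗ counit (R := R) (A := C) := by
      ext x
      exact hmk x
    rw [h3, TensorProduct.map_comp, LinearMap.comp_apply, map_counit_counit_comul, hx, tmul_zero,
      map_zero]
  have hant : ∀ x ∈ J, HopfAlgebra.antipode R x ∈ J := by
    have h0 : J ≤ Ideal.comap (HopfAlgebra.antipodeAlgHom R A : A →+* A) J := by
      apply hle
      intro x hx
      rw [Ideal.mem_comap]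
      change HopfAlgebra.antipode R (ψ x) ∈ J
      rw [← bialgHom_antipode ψ x]
      exact hmemJ _ (by rw [HopfAlgebra.counit_antipode, hx])
    intro x hx
    exact h0 hx
  refine { counit_eq_zero := ?_, map_mkQ_comul_eq_zero := ?_, antipode_mem := ?_ }
  · intro x hx
    have := hcou hx
    rwa [RingHom.mem_ker] at this
  · intro x hx
    have := hcom hx
    rw [RingHom.mem_ker] at this
    exact this
  · intro x hx
    exact hant x hx

theorem isHopfIdeal_map_bialgHom' (ψ : C →ₐc[R] A) :
    (Ideal.map ψ (RingHom.ker (Bialgebra.counitAlgHom R C))).IsHopfIdeal R :=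
  isHopfIdeal_map_bialgHom ψ

end KerIdeal

section Pow

variable (R : Type u) [CommRing R] (A : Type u) [CommRing A] [HopfAlgebra R A] [IsCocomm R A]

/-- The `n`-th power map of a commutative group, as a bialgebra map. -/
noncomputable def powBialg (n : ℕ) : A →ₐc[R] A :=
  ((toConv (BialgHom.id R A)) ^ n).ofConv

theorem powBialg_toAlgHom (n : ℕ) : (powBialg R A n : A →ₐ[R] A) = powConv R A n := by
  have h := BialgHom.toAlgHom_convPow (toConv (BialgHom.id R A)) n
  unfold powBialg powConv
  apply WithConv.toConv_injective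
  rw [toConv_ofConv]
  exact h

theorem isHopfIdeal_torsionIdeal (n : ℕ) : (torsionIdeal R A n).IsHopfIdeal R := by
  have h := isHopfIdeal_map_bialgHom (powBialg R A n)
  rw [powBialg_toAlgHom] at h
  exact h

end Pow

section Dense

variable {R : Type u} [CommRing R] {A : Type u} [CommRing A] [HopfAlgebra R A]

theorem eq_zero_of_forall_mem_torsionIdeal (hft : Algebra.FiniteType R A) (h : IsMultType R A)
    (z : A) (hz : ∀ n : ℕ, 0 < n → z ∈ torsionIdeal R A n) : z = 0 := by
  have h1 := Groth.Agent.Lib.R2H7.TorsDense.iInf_torsionIdeal_eq_bot R A hft h (1 : A)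
  have h2 : algebraMap A (Localization.Away (1 : A)) z ∈
      ⨅ n : {n : ℕ // 0 < n},
        Ideal.map (algebraMap A (Localization.Away (1 : A))) (torsionIdeal R A n.1) := by
    rw [Submodule.mem_iInf]
    intro n
    exact Ideal.mem_map_of_mem _ (hz n.1 n.2)
  rw [h1, Ideal.mem_bot, IsLocalization.map_eq_zero_iff (Submonoid.powers (1 : A))] at h2
  obtain ⟨⟨_, k, rfl⟩, hk⟩ := h2
  simpa using hk

end Dense

section Finite

variable {R : Type u} [CommRing R] [IsLocalRing R] {B : Type v} [CommRing B] [Bialgebra R B]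
  {C : Type w} [CommRing C] [Bialgebra R C]

theorem trivial_of_finite_aux {ι : Type*} [Finite ι] (b : Module.Basis ι R B)
    (hP : NoPrimMod R B) (φ : C →ₐc[R] B)
    (hs : ∀ c : C, φ c - algebraMap R B (counit (R := R) c) ∈
      IsLocalRing.maximalIdeal R • (⊤ : Submodule R B))
    (S : Set C) (hS : Algebra.adjoin R S = ⊤)
    (hfg : (Ideal.span (Set.range fun p : S × ι =>
      b.repr (φ p.1.1 - algebraMap R B (counit (R := R) p.1.1)) p.2)).FG) :
    ∀ c : C, φ c = algebraMap R B (counit (R := R) c) := by
  classical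
  haveI : Fintype ι := Fintype.ofFinite ι
  set δ : C →ₗ[R] B :=
    (φ : C →ₗ[R] B) - Algebra.linearMap R B ∘ₗ counit (R := R) (A := C) with hδ
  have hδc : ∀ c, δ c = φ c - algebraMap R B (counit (R := R) c) := fun _ => rfl
  set I : Ideal R := Ideal.span (Set.range fun p : S × ι =>
      b.repr (φ p.1.1 - algebraMap R B (counit (R := R) p.1.1)) p.2) with hI
  have hmemI : ∀ x ∈ S, ∀ j, b.repr (δ x) j ∈ I := by
    intro x hx j
    exact Ideal.subset_span ⟨(⟨x, hx⟩, j), rfl⟩
  have hδI : ∀ c, δ c ∈ I • (⊤ : Submodule R B) := by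
    intro c
    have hc : c ∈ Algebra.adjoin R S := by rw [hS]; exact Algebra.mem_top
    induction hc using Algebra.adjoin_induction with
    | mem x hx =>
      rw [← b.sum_repr (δ x)]
      exact Submodule.sum_mem _ fun j _ =>
        Submodule.smul_mem_smul (hmemI x hx j) Submodule.mem_top
    | algebraMap r =>
      rw [hδc, AlgHomClass.commutes, Bialgebra.counit_algebraMap, sub_self]
      exact Submodule.zero_mem _
    | add x y _ _ hx hy =>
      rw [map_add]
      exact Submodule.add_mem _ hx hy
    | mul x y _ _ hx hy =>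
      have h1 : δ (x * y) = φ x * δ y + algebraMap R B (counit (R := R) y) * δ x := by
        rw [hδc, hδc, hδc, map_mul, Bialgebra.counit_mul, map_mul]
        ring
      rw [h1]
      exact Submodule.add_mem _ (map_mem_smul_top (LinearMap.mulLeft R (φ x)) I hy)
        (map_mem_smul_top (LinearMap.mulLeft R (algebraMap R B (counit (R := R) y))) I hx)
  have hIm : I ≤ IsLocalRing.maximalIdeal R := by
    rw [hI, Ideal.span_le]
    rintro _ ⟨p, rfl⟩
    exact functional_mem_of_mem_smul_top (b.coord p.2) _ (hs p.1.1)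
  have hδII : ∀ c, δ c ∈ (I * I) • (⊤ : Submodule R B) := by
    intro c
    apply hP
    rw [hδc, primDefect_sub_counit]
    exact map_mem_smul_top_of_forall I I δ δ hδI hδI (comul c)
  have hII : I ≤ I • I := by
    rw [smul_eq_mul]
    rw [hI, Ideal.span_le]
    rintro _ ⟨p, rfl⟩
    exact functional_mem_of_mem_smul_top (b.coord p.2) _ (hδII p.1.1)
  have hjac : I ≤ Ideal.jacobson ⊥ := by
    rw [IsLocalRing.jacobson_eq_maximalIdeal ⊥ bot_ne_top]
    exact hIm
  have hbot : I = ⊥ := Submodule.eq_bot_of_le_smul_of_le_jacobson_bot I I hfg hII hjac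
  intro c
  have h1 := hδI c
  rw [hbot, Submodule.bot_smul, Submodule.mem_bot, hδc, sub_eq_zero] at h1
  exact h1

theorem trivial_of_finite [Module.Finite R B] [Module.Free R B]
    (hP : NoPrimMod R B) (hC : IsNoetherianRing R ∨ Algebra.FiniteType R C) (φ : C →ₐc[R] B)
    (hs : ∀ c : C, φ c - algebraMap R B (counit (R := R) c) ∈
      IsLocalRing.maximalIdeal R • (⊤ : Submodule R B)) :
    ∀ c : C, φ c = algebraMap R B (counit (R := R) c) := by
  let b := Module.Free.chooseBasis R B
  rcases hC with hN | hft
  · exact trivial_of_finite_aux b hP φ hs Set.univ (Algebra.adjoin_univ R C) (IsNoetherian.noetherian _)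
  · obtain ⟨s, hs'⟩ := hft.out
    refine trivial_of_finite_aux b hP φ hs (s : Set C) hs' ?_
    exact Submodule.fg_span (Set.finite_range _)

end Finite

section Main

variable (R : Type u) [CommRing R] [IsLocalRing R] (A : Type u) [CommRing A] [HopfAlgebra R A]
  (C : Type u) [CommRing C] [HopfAlgebra R C]

/-- A homomorphism from a group of multiplicative type and of finite type over a local ring which
is trivial on the closed fibre is trivial. -/
theorem bialgHom_trivial_of_fibre (hft : Algebra.FiniteType R A) (hH : IsMultType R A)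
    (hC : IsNoetherianRing R ∨ Algebra.FiniteType R C) (φ : C →ₐc[R] A)
    (hs : ∀ c : C, φ c - algebraMap R A (counit (R := R) c) ∈
      IsLocalRing.maximalIdeal R • (⊤ : Submodule R A)) :
    ∀ c : C, φ c = algebraMap R A (counit (R := R) c) := by
  haveI := Groth.Agent.Lib.R2H7.FinMult.isCocomm_of_isMultType R A hH
  intro c
  rw [← sub_eq_zero]
  apply eq_zero_of_forall_mem_torsionIdeal hft hH
  intro n hn
  haveI := isHopfIdeal_torsionIdeal R A n
  obtain ⟨hmt, hfin⟩ := Groth.Agent.Lib.Helper25.TorsQuot.torsion_quotient hft hH n hn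
    (torsionIdeal R A n) rfl
  haveI := hfin
  haveI := Groth.Agent.Lib.R2H7.FinMult.projective_of_isMultType R (A ⧸ torsionIdeal R A n) hmt
  haveI : Module.Free R (A ⧸ torsionIdeal R A n) := Module.free_of_flat_of_isLocalRing
  have hP := noPrimMod_of_isMultType R (A ⧸ torsionIdeal R A n) hmt
  set φn : C →ₐc[R] A ⧸ torsionIdeal R A n :=
    (Bialgebra.Quotient.mkBialgHom (torsionIdeal R A n)).comp φ with hφn
  have h1 := trivial_of_finite hP hC φn (by
    intro c'
    have h2 := map_mem_smul_top (Ideal.Quotient.mkₐ R (torsionIdeal R A n)).toLinearMap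
      (IsLocalRing.maximalIdeal R) (hs c')
    have h3 : (Ideal.Quotient.mkₐ R (torsionIdeal R A n)).toLinearMap
        (φ c' - algebraMap R A (counit (R := R) c')) =
        φn c' - algebraMap R (A ⧸ torsionIdeal R A n) (counit (R := R) c') := by
      rw [map_sub]
      rfl
    rw [h3] at h2
    exact h2) c
  have h4 : Ideal.Quotient.mk (torsionIdeal R A n) (φ c - algebraMap R A (counit (R := R) c)) =
      0 := by
    rw [map_sub, sub_eq_zero]
    exact h1
  exact Ideal.Quotient.eq_zero_iff_mem.mp h4

/-- Two homomorphisms from a group of multiplicative type and of finite type over a local ring to a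
commutative affine group which agree on the closed fibre agree. -/
theorem bialgHom_eq_of_fibre [IsCocomm R C] (hft : Algebra.FiniteType R A) (hH : IsMultType R A)
    (hC : IsNoetherianRing R ∨ Algebra.FiniteType R C) (φ ψ : C →ₐc[R] A)
    (h0 : ∀ c : C, φ c - ψ c ∈ IsLocalRing.maximalIdeal R • (⊤ : Submodule R A)) : φ = ψ := by
  set I := IsLocalRing.maximalIdeal R with hI
  set ψ' : C →ₐc[R] A := ψ.comp antipodeBialgHom with hψ'
  set θ : C →ₐc[R] A := (toConv φ * toConv ψ').ofConv with hθ
  have hθa : toConv (θ : C →ₐ[R] A) =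
      toConv (φ : C →ₐ[R] A) * (toConv (ψ : C →ₐ[R] A))⁻¹ := rfl
  have hinv : toConv (ψ : C →ₐ[R] A) * (toConv (ψ : C →ₐ[R] A))⁻¹ = 1 := mul_inv_cancel _
  have e1 : ∀ c, θ c = LinearMap.mul' R A (TensorProduct.map (φ : C →ₗ[R] A) (ψ' : C →ₗ[R] A)
      (CoalgebraStruct.comul (R := R) c)) := fun c => rfl
  have e2 : ∀ c, algebraMap R A (CoalgebraStruct.counit (R := R) c) =
      LinearMap.mul' R A (TensorProduct.map (ψ : C →ₗ[R] A) (ψ' : C →ₗ[R] A)
      (CoalgebraStruct.comul (R := R) c)) := by
    intro c
    have := congrArg (fun f : WithConv (C →ₐ[R] A) => f.ofConv c) hinv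
    exact this.symm
  have hθ1 : ∀ c, θ c = algebraMap R A (CoalgebraStruct.counit (R := R) c) := by
    apply bialgHom_trivial_of_fibre R A C hft hH hC θ
    intro c
    have hsplit : TensorProduct.map (φ : C →ₗ[R] A) (ψ' : C →ₗ[R] A) =
        TensorProduct.map ((φ : C →ₗ[R] A) - (ψ : C →ₗ[R] A)) (ψ' : C →ₗ[R] A) +
          TensorProduct.map (ψ : C →ₗ[R] A) (ψ' : C →ₗ[R] A) := by
      rw [← TensorProduct.map_add_left, sub_add_cancel]
    rw [e1, e2, hsplit, LinearMap.add_apply, map_add, add_sub_cancel_right]
    have h1 := map_mem_smul_top_of_forall I ⊤ ((φ : C →ₗ[R] A) - (ψ : C →ₗ[R] A))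
      (ψ' : C →ₗ[R] A) (fun p => h0 p) (fun p => by
        rw [Submodule.top_smul]; exact Submodule.mem_top)
      (CoalgebraStruct.comul (R := R) c)
    rw [Ideal.mul_top] at h1
    exact map_mem_smul_top (LinearMap.mul' R A) I h1
  have h3 : toConv (φ : C →ₐ[R] A) * (toConv (ψ : C →ₐ[R] A))⁻¹ = 1 := by
    rw [← hθa]
    apply WithConv.ofConv_injective
    apply AlgHom.ext
    intro c
    exact hθ1 c
  have h4 : toConv (φ : C →ₐ[R] A) = toConv (ψ : C →ₐ[R] A) := mul_inv_eq_one.mp h3
  have h5 : (φ : C →ₐ[R] A) = (ψ : C →ₐ[R] A) := WithConv.toConv_injective h4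
  ext c
  exact congrArg (fun f : C →ₐ[R] A => f c) h5

end Main

end Groth.Agent.Lib.R2H7.LocalRigid
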