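import Mathlib
import Groth.Prelude.Def_SGA3b
import Groth.Agent.Lib.R2H7HensFinB
import Groth.Agent.Lib.R2H7LocalRigid
import Groth.Agent.Lib.R2H7FinMult
import Groth.Agent.Lib.R2H7TrivFibre
import Groth.Agent.Lib.R2H7FlatQIso

/-!
# R2H7HensFinC: descent of a finite subgroup from a faithfully flat local overring

`A → T` is a faithfully flat local homomorphism of local rings, `C` an `A`-Hopf algebra, `K` an ideal of
`C` with `C / K` finite, `K = Jₙ + (μ)` with `μ` idempotent modulo the ideal `Jₙ` of the `n`-torsion and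
`μ ∈ 𝔪 C`. If `T ⊗ C` has a finite quotient Hopf algebra `Q` killed by `n` whose kernel is
`Jₙ (T ⊗ C) + (e')` for an idempotent `e' ∈ 𝔪_T (T ⊗ C)`, then `K` is a Hopf ideal and
`T ⊗ (C / K) ≅ Q`.
-/

set_option autoImplicit false
universe u

namespace Groth.Agent.Lib.R2H7.HensFin

open TensorProduct Coalgebra SGA3b IsLocalRing Groth.Agent.Lib.Helper25 Groth.Agent.Lib.Helper25.Tors
  Groth.Agent.Lib.R2H7.GLLift

section BcM

variable {A : Type u} [CommRing A] (T : Type u) [CommRing T] [Algebra A T]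
  {M N : Type u} [AddCommGroup M] [AddCommGroup N] [Module A M] [Module A N]

theorem eq_zero_of_distrib_one_tmul [Module.FaithfullyFlat A T] (w : M ⊗[A] N)
    (h : TensorProduct.AlgebraTensorModule.distribBaseChange A T M N ((1 : T) ⊗ₜ[A] w) = 0) :
    w = 0 := by
  rw [LinearEquiv.map_eq_zero_iff] at h
  exact (Module.FaithfullyFlat.one_tmul_eq_zero_iff A (M ⊗[A] N) w).mp h

end BcM

section Core

variable {A : Type u} [CommRing A] [IsLocalRing A]
  {T : Type u} [CommRing T] [Algebra A T] [IsLocalRing T] [IsLocalHom (algebraMap A T)]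
  {C : Type u} [CommRing C] [HopfAlgebra A C]
  (n : ℕ) (K : Ideal C) (μ : C)

/-- `K = Jₙ + (μ)`, `μ ∈ 𝔪 C`, `μ` idempotent modulo `Jₙ`. -/
structure FinPartData : Prop where
  le : torsionIdeal A C n ≤ K
  le_sup : K ≤ torsionIdeal A C n ⊔ Ideal.span {μ}
  mem : μ ∈ (maximalIdeal A).map (algebraMap A C)
  idem : μ * μ - μ ∈ torsionIdeal A C n

variable {n K μ}

theorem FinPartData.kills (h : FinPartData (A := A) n K μ) {Y : Type u} [CommRing Y]
    [HopfAlgebra T Y] [Module.Finite T Y] (hY : torsionIdeal T Y n = ⊥)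
    (Ψ : T ⊗[A] C →ₐc[T] Y) {x : C} (hx : x ∈ K) : Ψ ((1 : T) ⊗ₜ[A] x) = 0 := by
  have hJ : ∀ j ∈ torsionIdeal A C n, Ψ ((1 : T) ⊗ₜ[A] j) = 0 := by
    intro j hj
    have h1 := map_mem_torsionIdeal Ψ n (one_tmul_mem_torsionIdeal T n hj)
    rw [hY] at h1
    exact (Submodule.mem_bot T).mp h1
  have hμ0 : Ψ ((1 : T) ⊗ₜ[A] μ) = 0 := by
    apply idem_eq_zero_of_mem_map (A := T)
    · have h2 := hJ _ h.idem
      rw [TensorProduct.tmul_sub, map_sub, sub_eq_zero] at h2
      unfold IsIdempotentElem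
      rw [← map_mul, Algebra.TensorProduct.tmul_mul_tmul, mul_one]
      exact h2
    · have h3 : (1 : T) ⊗ₜ[A] μ ∈ (maximalIdeal T).map (algebraMap T (T ⊗[A] C)) :=
        map_maximalIdeal_le (A := A) (T := T)
          (algHom_mem_map (Algebra.TensorProduct.includeRight : C →ₐ[A] T ⊗[A] C) _ h.mem)
      exact algHom_mem_map (Ψ : T ⊗[A] C →ₐ[T] Y) _ h3
  obtain ⟨j, hj, y, hy, rfl⟩ := Submodule.mem_sup.mp (h.le_sup hx)
  obtain ⟨a, rfl⟩ := Ideal.mem_span_singleton'.mp hy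
  rw [TensorProduct.tmul_add, map_add, hJ j hj, zero_add]
  have h4 : (1 : T) ⊗ₜ[A] (a * μ) = ((1 : T) ⊗ₜ[A] a) * ((1 : T) ⊗ₜ[A] μ) := by
    rw [Algebra.TensorProduct.tmul_mul_tmul, mul_one]
  rw [h4, map_mul, hμ0, mul_zero]

theorem FinPartData.kills_map (h : FinPartData (A := A) n K μ) {Y : Type u} [CommRing Y]
    [HopfAlgebra T Y] [Module.Finite T Y] (hY : torsionIdeal T Y n = ⊥)
    (Ψ : T ⊗[A] C →ₐc[T] Y) {z : T ⊗[A] C}
    (hz : z ∈ K.map (Algebra.TensorProduct.includeRight : C →ₐ[A] T ⊗[A] C)) : Ψ z = 0 := by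
  have h1 : K.map (Algebra.TensorProduct.includeRight : C →ₐ[A] T ⊗[A] C) ≤
      RingHom.ker ((Ψ : T ⊗[A] C →ₐ[T] Y) : T ⊗[A] C →+* Y) := by
    rw [Ideal.map_le_iff_le_comap]
    intro x hx
    rw [Ideal.mem_comap, RingHom.mem_ker]
    exact h.kills hY Ψ hx
  exact RingHom.mem_ker.mp (h1 hz)

variable (T K) in
/-- The base change of the quotient map, as an algebra map. -/
noncomputable def bcMkAlg : T ⊗[A] C →ₐ[T] T ⊗[A] (C ⧸ K) :=
  Algebra.TensorProduct.map (AlgHom.id T T) (Ideal.Quotient.mkₐ A K)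

theorem bcMkAlg_tmul (t : T) (c : C) :
    bcMkAlg T K (t ⊗ₜ[A] c) = t ⊗ₜ[A] (Ideal.Quotient.mk K c) := rfl

theorem bcMkAlg_surjective : Function.Surjective (bcMkAlg T K : T ⊗[A] C → T ⊗[A] (C ⧸ K)) := by
  intro y
  induction y using TensorProduct.induction_on with
  | zero => exact ⟨0, map_zero _⟩
  | tmul t d =>
    obtain ⟨c, rfl⟩ := Ideal.Quotient.mk_surjective d
    exact ⟨t ⊗ₜ[A] c, rfl⟩
  | add x y hx hy =>
    obtain ⟨x', rfl⟩ := hx
    obtain ⟨y', rfl⟩ := hy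
    exact ⟨x' + y', map_add _ _ _⟩

theorem bcMkAlg_eq_zero_iff (z : T ⊗[A] C) :
    bcMkAlg T K z = 0 ↔ z ∈ K.map (Algebra.TensorProduct.includeRight : C →ₐ[A] T ⊗[A] C) := by
  have h1 := Algebra.TensorProduct.lTensor_ker (A := T) (Ideal.Quotient.mkₐ A K)
    (Ideal.Quotient.mkₐ_surjective A K)
  have h0 : RingHom.ker (Ideal.Quotient.mkₐ A K) = K := by
    ext x
    rw [RingHom.mem_ker, Ideal.Quotient.mkₐ_eq_mk, Ideal.Quotient.eq_zero_iff_mem]
  rw [h0] at h1
  rw [← h1, RingHom.mem_ker]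
  have h2 : ∀ z : T ⊗[A] C, bcMkAlg T K z =
      Algebra.TensorProduct.map (AlgHom.id A T) (Ideal.Quotient.mkₐ A K) z := by
    intro z
    induction z using TensorProduct.induction_on with
    | zero => rw [map_zero, map_zero]
    | tmul t c => rfl
    | add x y hx hy => rw [map_add, map_add, hx, hy]
  rw [h2]

variable {Q : Type u} [CommRing Q] [HopfAlgebra T Q] [Module.Finite T Q]
  (π₂ : T ⊗[A] C →ₐc[T] Q) (e' : T ⊗[A] C)

variable (n) in
/-- A finite quotient of `T ⊗ C` killed by `n`, with kernel `Jₙ (T ⊗ C) + (e')`. -/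
structure QData : Prop where
  surj : Function.Surjective π₂
  killed : torsionIdeal T Q n = ⊥
  idem : IsIdempotentElem e'
  mem : e' ∈ Ideal.map (algebraMap T (T ⊗[A] C)) (maximalIdeal T)
  ker : ∀ z, π₂ z = 0 → ∃ w ∈ (torsionIdeal A C n).map
    (Algebra.TensorProduct.includeRight : C →ₐ[A] T ⊗[A] C), ∃ a, z = w + a * e'

variable {π₂ e'} [Module.Finite A (C ⧸ K)]

theorem bcMkAlg_e' (hq : QData n π₂ e') : bcMkAlg T K e' = 0 :=
  idem_eq_zero_of_mem_map (A := T) (hq.idem.map (bcMkAlg T K))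
    (algHom_mem_map (bcMkAlg T K) _ hq.mem)

theorem ker_le (h : FinPartData (A := A) n K μ) (hq : QData n π₂ e') (z : T ⊗[A] C)
    (hz : π₂ z = 0) : bcMkAlg T K z = 0 := by
  obtain ⟨w, hw, a, rfl⟩ := hq.ker z hz
  rw [map_add, map_mul, bcMkAlg_e' hq, mul_zero, add_zero, bcMkAlg_eq_zero_iff]
  exact Ideal.map_mono h.le hw

theorem gamma_aux (h : FinPartData (A := A) n K μ) (hq : QData n π₂ e') :
    ∀ z : T ⊗[A] C, bcMkAlg T K z = 0 → (π₂ : T ⊗[A] C →ₐ[T] Q) z = 0 :=
  fun z hz => h.kills_map hq.killed π₂ ((bcMkAlg_eq_zero_iff z).mp hz)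

/-- The comparison map `T ⊗ (C / K) → Q`. -/
noncomputable def gamma (h : FinPartData (A := A) n K μ) (hq : QData n π₂ e') :
    T ⊗[A] (C ⧸ K) →ₐ[T] Q :=
  factorAlg (bcMkAlg T K) bcMkAlg_surjective (π₂ : T ⊗[A] C →ₐ[T] Q) (gamma_aux h hq)

theorem gamma_bcMkAlg (h : FinPartData (A := A) n K μ) (hq : QData n π₂ e') (z : T ⊗[A] C) :
    gamma h hq (bcMkAlg T K z) = π₂ z := by
  unfold gamma
  rw [factorAlg_apply]
  rfl

theorem gamma_bijective (h : FinPartData (A := A) n K μ) (hq : QData n π₂ e') :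
    Function.Bijective (gamma h hq) := by
  constructor
  · rw [injective_iff_map_eq_zero]
    intro y hy
    obtain ⟨z, rfl⟩ := bcMkAlg_surjective (T := T) (K := K) y
    rw [gamma_bcMkAlg] at hy
    exact ker_le h hq z hy
  · intro q
    obtain ⟨z, rfl⟩ := hq.surj q
    exact ⟨bcMkAlg T K z, gamma_bcMkAlg h hq z⟩

theorem isHopfIdeal_of_data [Module.FaithfullyFlat A T] (h : FinPartData (A := A) n K μ)
    (hq : QData n π₂ e') : K.IsHopfIdeal A where
  counit_eq_zero := by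
    intro x hx
    have hx' : x ∈ K := hx
    have h1 : π₂ ((1 : T) ⊗ₜ[A] x) = 0 := h.kills hq.killed π₂ hx'
    have h2 := CoalgHomClass.counit_comp_apply π₂ ((1 : T) ⊗ₜ[A] x)
    rw [h1, map_zero, TensorProduct.counit_tmul] at h2
    have h3 : algebraMap A T (counit (R := A) x) = 0 := by
      rw [Algebra.algebraMap_eq_smul_one]
      simpa using h2.symm
    exact (FaithfulSMul.algebraMap_injective A T) (by rw [h3, map_zero])
  map_mkQ_comul_eq_zero := by
    intro x hx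
    have hx' : x ∈ K := hx
    rw [Groth.Agent.Lib.R2H7.FormalHom.map_mkQ_eq]
    apply eq_zero_of_distrib_one_tmul T
    let γe : T ⊗[A] (C ⧸ K) ≃ₗ[T] Q :=
      LinearEquiv.ofBijective (gamma h hq).toLinearMap (gamma_bijective h hq)
    apply (TensorProduct.congr γe γe).injective
    rw [map_zero]
    have key : ∀ t : C ⊗[A] C, TensorProduct.congr γe γe
        (TensorProduct.AlgebraTensorModule.distribBaseChange A T (C ⧸ K) (C ⧸ K)
          ((1 : T) ⊗ₜ[A] (Algebra.TensorProduct.map (Ideal.Quotient.mkₐ A K)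
            (Ideal.Quotient.mkₐ A K) t))) =
        TensorProduct.map (π₂ : T ⊗[A] C →ₗ[T] Q) (π₂ : T ⊗[A] C →ₗ[T] Q) (bcMap2 T C t) := by
      intro t
      induction t using TensorProduct.induction_on with
      | zero => simp
      | tmul a b =>
        rw [Algebra.TensorProduct.map_tmul,
          TensorProduct.AlgebraTensorModule.distribBaseChange_tmul, TensorProduct.congr_tmul,
          bcMap2_tmul, TensorProduct.map_tmul]
        have e1 : ∀ c : C, γe ((1 : T) ⊗ₜ[A] (Ideal.Quotient.mkₐ A K c)) =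
            π₂ ((1 : T) ⊗ₜ[A] c) := fun c => gamma_bcMkAlg h hq ((1 : T) ⊗ₜ[A] c)
        rw [e1, e1]
        rfl
      | add x y hx hy =>
        simp only [map_add, TensorProduct.tmul_add]
        rw [hx, hy]
    rw [key, ← comul_one_tmul, CoalgHomClass.map_comp_comul_apply, h.kills hq.killed π₂ hx', map_zero]
  antipode_mem := by
    intro x hx
    rw [← Ideal.Quotient.eq_zero_iff_mem]
    apply (Module.FaithfullyFlat.one_tmul_eq_zero_iff A (C ⧸ K) (A := T) _).mp
    have h5 : (1 : T) ⊗ₜ[A] Ideal.Quotient.mk K (HopfAlgebra.antipode A x) =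
        bcMkAlg T K ((1 : T) ⊗ₜ[A] HopfAlgebra.antipode A x) := rfl
    rw [h5]
    apply ker_le h hq
    have h4 : (1 : T) ⊗ₜ[A] HopfAlgebra.antipode A x =
        HopfAlgebra.antipode T ((1 : T) ⊗ₜ[A] x) := by
      rw [TensorProduct.antipode_def, TensorProduct.AlgebraTensorModule.map_tmul,
        CommSemiring.antipode_eq_id]
      rfl
    rw [h4, bialgHom_antipode, h.kills hq.killed π₂ hx, map_zero]

end Core

end Groth.Agent.Lib.R2H7.HensFin
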