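import Mathlib
import Groth.Prelude.Def_SGA3b
import Groth.Agent.Lib.R2H7HensFinC

/-!
# R2H7HensFinD: the finite multiplicative subgroup of the `n`-torsion over a henselian local ring

`A` henselian local, `T` a complete noetherian local faithfully flat `A`-algebra with `A → T` local,
`H = Spec C` of finite type over `A`, flat at the points of the closed fibre, with closed fibre of
multiplicative type. `exists_finite_subgroup`: there is a Hopf ideal `K ⊇ Jₙ` of `C` with `C / K` finite of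
multiplicative type, through which every homomorphism to `H_T` from a finite `T`-group killed by `n` factors.
-/

set_option autoImplicit false
universe u

namespace Groth.Agent.Lib.R2H7.HensFin

open TensorProduct Coalgebra SGA3b IsLocalRing Groth.Agent.Lib.Helper25 Groth.Agent.Lib.Helper25.Tors
  Groth.Agent.Lib.R2H7.GLLift

section Descend

theorem isMultTypeConst_descend {A : Type u} [CommRing A] (T : Type u) [CommRing T] [Algebra A T]
    [Module.FaithfullyFlat A T] {D : Type u} [CommRing D] [HopfAlgebra A D]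
    (h : IsMultTypeConst T (T ⊗[A] D)) : IsMultTypeConst A D := by
  obtain ⟨R', _, _, hff, hd⟩ := h
  letI : Algebra A R' := ((algebraMap T R').comp (algebraMap A T)).toAlgebra
  haveI : IsScalarTower A T R' := IsScalarTower.of_algebraMap_eq (fun _ => rfl)
  haveI := hff
  haveI : Module.FaithfullyFlat A R' := Module.FaithfullyFlat.trans A T R'
  exact ⟨R', inferInstance, inferInstance, inferInstance,
    BCB.isDiag_of_equiv (BCB.cancelBC A T R' D).symm hd⟩

theorem isMultType_descend {A : Type u} [CommRing A] (T : Type u) [CommRing T] [Algebra A T]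
    [IsLocalRing T] [Module.FaithfullyFlat A T] {D : Type u} [CommRing D] [HopfAlgebra A D]
    (h : IsMultType T (T ⊗[A] D)) : IsMultType A D :=
  BCB.isMultType_of_isMultTypeConst A D (isMultTypeConst_descend T
    (Groth.Agent.Lib.R2H7.TrivFibre.isMultTypeConst_of_isLocalRing h))

end Descend

section Equiv

variable {A : Type u} [CommRing A] [IsLocalRing A]
  {T : Type u} [CommRing T] [Algebra A T] [IsLocalRing T] [IsLocalHom (algebraMap A T)]
  {C : Type u} [CommRing C] [HopfAlgebra A C]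
  {n : ℕ} {K : Ideal C} {μ : C} [hK : K.IsHopfIdeal A]
  {Q : Type u} [CommRing Q] [HopfAlgebra T Q] [Module.Finite T Q]
  {π₂ : T ⊗[A] C →ₐc[T] Q} {e' : T ⊗[A] C} [Module.Finite A (C ⧸ K)]

theorem bcMk_eq_bcMkAlg (z : T ⊗[A] C) : TorsQuot.bcMk (S := T) K z = bcMkAlg T K z := by
  induction z using TensorProduct.induction_on with
  | zero => rw [map_zero, map_zero]
  | tmul t c => rw [TorsQuot.bcMk_tmul]; rfl
  | add x y hx hy => rw [map_add, map_add, hx, hy]

theorem mem_map_of_bcMk_eq_zero (z : T ⊗[A] C) (hz : TorsQuot.bcMk (S := T) K z = 0) :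
    z ∈ K.map (Algebra.TensorProduct.includeRight : C →ₐ[A] T ⊗[A] C) := by
  rw [bcMk_eq_bcMkAlg] at hz
  exact (bcMkAlg_eq_zero_iff z).mp hz

/-- The comparison map as a bialgebra map. -/
noncomputable def gammaBialg (h : FinPartData (A := A) n K μ) (hq : QData n π₂ e') :
    T ⊗[A] (C ⧸ K) →ₐc[T] Q :=
  Groth.Agent.Lib.R2H7.QuotGL.descendBialgHom (TorsQuot.bcMk (S := T) K)
    (TorsQuot.bcMk_surjective K) π₂ (gamma h hq)
    (fun z => by rw [bcMk_eq_bcMkAlg]; exact gamma_bcMkAlg h hq z)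

theorem gammaBialg_bijective (h : FinPartData (A := A) n K μ) (hq : QData n π₂ e') :
    Function.Bijective (gammaBialg h hq) := gamma_bijective h hq

theorem isMultType_baseChange_quot (h : FinPartData (A := A) n K μ) (hq : QData n π₂ e')
    (hQ : IsMultType T Q) : IsMultType T (T ⊗[A] (C ⧸ K)) :=
  Groth.Agent.Lib.R2H7.HomLift.isMultType_of_equiv
    (BialgEquiv.ofBijective (gammaBialg h hq) (gammaBialg_bijective h hq)) hQ

end Equiv

section ConcreteQ

variable {A : Type u} [CommRing A] [IsLocalRing A]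
  {T : Type u} [CommRing T] [Algebra A T] [IsLocalRing T] [IsLocalHom (algebraMap A T)]
  {C : Type u} [CommRing C] [HopfAlgebra A C]

theorem exists_QData (hft : Algebra.FiniteType A C) (n : ℕ) (hn : 0 < n) (e' : T ⊗[A] C)
    (he' : IsIdempotentElem e')
    (hem : e' ∈ Ideal.map (algebraMap T (T ⊗[A] C)) (maximalIdeal T))
    [hH : (Ideal.span {e'}).IsHopfIdeal T]
    (hiso : IsIsotrivial T ((T ⊗[A] C) ⧸ Ideal.span {e'})) :
    ∃ (Q : Type u) (_ : CommRing Q) (_ : HopfAlgebra T Q) (_ : Module.Finite T Q)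
      (π₂ : T ⊗[A] C →ₐc[T] Q), IsMultType T Q ∧ QData n π₂ e' := by
  haveI := hft
  have hmt : IsMultType T ((T ⊗[A] C) ⧸ Ideal.span {e'}) :=
    Groth.Agent.Lib.R2H7.FlatQIso.isMultType_of_isIsotrivial hiso
  haveI : IsCocomm T ((T ⊗[A] C) ⧸ Ideal.span {e'}) :=
    Groth.Agent.Lib.R2H7.FinMult.isCocomm_of_isMultType T _ hmt
  haveI hJ : (torsionIdeal T ((T ⊗[A] C) ⧸ Ideal.span {e'}) n).IsHopfIdeal T :=
    Groth.Agent.Lib.R2H7.LocalRigid.isHopfIdeal_torsionIdeal T _ n
  have hftG : Algebra.FiniteType T ((T ⊗[A] C) ⧸ Ideal.span {e'}) :=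
    Algebra.FiniteType.of_surjective (Ideal.Quotient.mkₐ T (Ideal.span {e'}))
      (Ideal.Quotient.mkₐ_surjective T _)
  obtain ⟨hQmt, hQfin⟩ := TorsQuot.torsion_quotient hftG hmt n hn
    (torsionIdeal T ((T ⊗[A] C) ⧸ Ideal.span {e'}) n) rfl
  refine ⟨((T ⊗[A] C) ⧸ Ideal.span {e'}) ⧸ torsionIdeal T ((T ⊗[A] C) ⧸ Ideal.span {e'}) n,
    inferInstance, inferInstance, hQfin,
    (Bialgebra.Quotient.mkBialgHom (R := T)
      (torsionIdeal T ((T ⊗[A] C) ⧸ Ideal.span {e'}) n)).comp
      (Bialgebra.Quotient.mkBialgHom (R := T) (Ideal.span {e'})), hQmt, ?_⟩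
  refine ⟨?_, ?_, he', hem, ?_⟩
  · intro q
    obtain ⟨g, rfl⟩ := Ideal.Quotient.mk_surjective q
    obtain ⟨z, rfl⟩ := Ideal.Quotient.mk_surjective g
    exact ⟨z, rfl⟩
  · exact (torsionIdeal_eq_bot_iff n).mpr (TorsQuot.isKilled_quotient n _ le_rfl)
  · intro z hz
    have h1 : Ideal.Quotient.mk (Ideal.span {e'}) z ∈
        torsionIdeal T ((T ⊗[A] C) ⧸ Ideal.span {e'}) n := Ideal.Quotient.eq_zero_iff_mem.mp hz
    have h2 := torsionIdeal_le_map_of_surjective
      (Bialgebra.Quotient.mkBialgHom (R := T) (Ideal.span {e'})) Ideal.Quotient.mk_surjective n h1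
    have h3 : (torsionIdeal T (T ⊗[A] C) n).map
        ((Bialgebra.Quotient.mkBialgHom (R := T) (Ideal.span {e'}) :
          T ⊗[A] C →ₐc[T] (T ⊗[A] C) ⧸ Ideal.span {e'}) :
          T ⊗[A] C →+* (T ⊗[A] C) ⧸ Ideal.span {e'}) ≤
        ((torsionIdeal A C n).map
          (Algebra.TensorProduct.includeRight : C →ₐ[A] T ⊗[A] C)).map
          (Ideal.Quotient.mk (Ideal.span {e'})) :=
      Ideal.map_mono (torsionIdeal_baseChange_le T n)
    obtain ⟨w, hw, hwz⟩ :=
      (Ideal.mem_map_iff_of_surjective _ Ideal.Quotient.mk_surjective).mp (h3 h2)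
    have h4 : z - w ∈ Ideal.span {e'} := by
      rw [← Ideal.Quotient.eq_zero_iff_mem, map_sub, hwz, sub_self]
    obtain ⟨a, ha⟩ := Ideal.mem_span_singleton'.mp h4
    exact ⟨w, hw, a, by rw [ha]; ring⟩

end ConcreteQ

section FinPart

theorem finite_fibre_torsion (A : Type u) [CommRing A] [IsLocalRing A] (C : Type u) [CommRing C]
    [HopfAlgebra A C] (hft : Algebra.FiniteType A C)
    (hs : IsMultType (ResidueField A) (ResidueField A ⊗[A] C)) (n : ℕ) (hn : 0 < n) :
    Module.Finite A ((C ⧸ torsionIdeal A C n) ⧸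
      (maximalIdeal A).map (algebraMap A (C ⧸ torsionIdeal A C n))) := by
  haveI := hft
  haveI : IsCocomm (ResidueField A) (ResidueField A ⊗[A] C) :=
    Groth.Agent.Lib.R2H7.FinMult.isCocomm_of_isMultType _ _ hs
  haveI hJ0 : (torsionIdeal (ResidueField A) (ResidueField A ⊗[A] C) n).IsHopfIdeal
      (ResidueField A) := Groth.Agent.Lib.R2H7.LocalRigid.isHopfIdeal_torsionIdeal _ _ n
  obtain ⟨-, hfin0⟩ := TorsQuot.torsion_quotient
    (inferInstance : Algebra.FiniteType (ResidueField A) (ResidueField A ⊗[A] C)) hs n hn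
    (torsionIdeal (ResidueField A) (ResidueField A ⊗[A] C) n) rfl
  haveI := hfin0
  haveI : Module.Finite A ((ResidueField A ⊗[A] C) ⧸
      torsionIdeal (ResidueField A) (ResidueField A ⊗[A] C) n) :=
    Module.Finite.trans (ResidueField A) _
  let κ : ResidueField A →ₐ[A] ((C ⧸ torsionIdeal A C n) ⧸
      (maximalIdeal A).map (algebraMap A (C ⧸ torsionIdeal A C n))) :=
    Ideal.Quotient.liftₐ (maximalIdeal A) (Algebra.ofId A _) (fun a ha => by
      rw [Algebra.ofId_apply,
        IsScalarTower.algebraMap_apply A (C ⧸ torsionIdeal A C n)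
          ((C ⧸ torsionIdeal A C n) ⧸
            (maximalIdeal A).map (algebraMap A (C ⧸ torsionIdeal A C n))),
        Ideal.Quotient.algebraMap_eq, Ideal.Quotient.eq_zero_iff_mem]
      exact Ideal.mem_map_of_mem _ ha)
  let g : C →ₐ[A] ((C ⧸ torsionIdeal A C n) ⧸
      (maximalIdeal A).map (algebraMap A (C ⧸ torsionIdeal A C n))) :=
    (Ideal.Quotient.mkₐ A _).comp (Ideal.Quotient.mkₐ A (torsionIdeal A C n))
  let τ : ResidueField A ⊗[A] C →ₐ[A] ((C ⧸ torsionIdeal A C n) ⧸
      (maximalIdeal A).map (algebraMap A (C ⧸ torsionIdeal A C n))) :=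
    Algebra.TensorProduct.lift κ g (fun _ _ => Commute.all _ _)
  have hτ1 : ∀ c : C, τ ((1 : ResidueField A) ⊗ₜ[A] c) = g c := by
    intro c
    rw [Algebra.TensorProduct.lift_tmul, map_one, one_mul]
  have hτ : ∀ z ∈ torsionIdeal (ResidueField A) (ResidueField A ⊗[A] C) n, τ z = 0 := by
    intro z hz
    have h1 := torsionIdeal_baseChange_le (ResidueField A) n hz
    have h2 : (torsionIdeal A C n).map
        (Algebra.TensorProduct.includeRight : C →ₐ[A] ResidueField A ⊗[A] C) ≤
        RingHom.ker τ.toRingHom := by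
      rw [Ideal.map_le_iff_le_comap]
      intro j hj
      rw [Ideal.mem_comap, RingHom.mem_ker]
      change τ ((1 : ResidueField A) ⊗ₜ[A] j) = 0
      rw [hτ1]
      change Ideal.Quotient.mk _ (Ideal.Quotient.mk (torsionIdeal A C n) j) = 0
      rw [Ideal.Quotient.eq_zero_iff_mem.mpr hj, map_zero]
    exact RingHom.mem_ker.mp (h2 h1)
  let τbar := Ideal.Quotient.liftₐ
    (torsionIdeal (ResidueField A) (ResidueField A ⊗[A] C) n) τ hτ
  have hsurj : Function.Surjective τbar := by
    intro y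
    obtain ⟨y', rfl⟩ := Ideal.Quotient.mk_surjective y
    obtain ⟨c, rfl⟩ := Ideal.Quotient.mk_surjective y'
    refine ⟨Ideal.Quotient.mk _ ((1 : ResidueField A) ⊗ₜ[A] c), ?_⟩
    change τ ((1 : ResidueField A) ⊗ₜ[A] c) = _
    rw [hτ1]
    rfl
  exact Module.Finite.of_surjective τbar.toLinearMap hsurj

theorem exists_finPartData (A : Type u) [CommRing A] [HenselianLocalRing A] (C : Type u)
    [CommRing C] [HopfAlgebra A C] (hft : Algebra.FiniteType A C)
    (hs : IsMultType (ResidueField A) (ResidueField A ⊗[A] C)) (n : ℕ) (hn : 0 < n) :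
    ∃ (K : Ideal C) (μ : C), FinPartData (A := A) n K μ ∧ Module.Finite A (C ⧸ K) := by
  have hftE : Algebra.FiniteType A (C ⧸ torsionIdeal A C n) :=
    Algebra.FiniteType.of_surjective (Ideal.Quotient.mkₐ A (torsionIdeal A C n))
      (Ideal.Quotient.mkₐ_surjective A _)
  haveI := hftE
  obtain ⟨f, hf, hfm, hfin⟩ := exists_idem_finite_part A (C ⧸ torsionIdeal A C n)
    (finite_fibre_torsion A C hft hs n hn)
  have h1 : (maximalIdeal A).map (algebraMap A (C ⧸ torsionIdeal A C n)) =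
      ((maximalIdeal A).map (algebraMap A C)).map (Ideal.Quotient.mk (torsionIdeal A C n)) := by
    rw [Ideal.map_map]
    rfl
  rw [h1] at hfm
  obtain ⟨μ, hμm, hμf⟩ :=
    (Ideal.mem_map_iff_of_surjective _ Ideal.Quotient.mk_surjective).mp hfm
  refine ⟨torsionIdeal A C n ⊔ Ideal.span {μ}, μ, ⟨le_sup_left, le_rfl, hμm, ?_⟩, ?_⟩
  · rw [← Ideal.Quotient.eq_zero_iff_mem, map_sub, map_mul, hμf, hf.eq, sub_self]
  · have h2 : (Ideal.span {μ}).map (Ideal.Quotient.mkₐ A (torsionIdeal A C n)) =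
        Ideal.span {f} := by
      rw [Ideal.map_span, Set.image_singleton]
      congr 2
    haveI : Module.Finite A ((C ⧸ torsionIdeal A C n) ⧸
        (Ideal.span {μ}).map (Ideal.Quotient.mkₐ A (torsionIdeal A C n))) := by
      rw [h2]
      exact hfin
    exact Module.Finite.equiv
      (DoubleQuot.quotQuotEquivQuotSupₐ A (torsionIdeal A C n) (Ideal.span {μ})).toLinearEquiv

end FinPart

section Main

variable (A : Type u) [CommRing A] [HenselianLocalRing A]
  (T : Type u) [CommRing T] [Algebra A T] [IsLocalRing T] [IsLocalHom (algebraMap A T)]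
  [Module.FaithfullyFlat A T] [IsNoetherianRing T] [IsAdicComplete (maximalIdeal T) T]
  (C : Type u) [CommRing C] [HopfAlgebra A C]

theorem exists_finite_subgroup (hft : Algebra.FiniteType A C)
    (hfl : ∀ (q : Ideal C) [q.IsPrime], Ideal.map (algebraMap A C) (maximalIdeal A) ≤ q →
      Module.Flat A (Localization.AtPrime q))
    (hs : IsMultType (ResidueField A) (ResidueField A ⊗[A] C)) (n : ℕ) (hn : 0 < n) :
    ∃ (K : Ideal C) (_ : K.IsHopfIdeal A), torsionIdeal A C n ≤ K ∧ Module.Finite A (C ⧸ K) ∧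
      IsMultType A (C ⧸ K) ∧
      ∀ (Y : Type u) [CommRing Y] [HopfAlgebra T Y] [Module.Finite T Y],
        torsionIdeal T Y n = ⊥ → ∀ (Ψ : T ⊗[A] C →ₐc[T] Y) (x : C), x ∈ K →
          Ψ ((1 : T) ⊗ₜ[A] x) = 0 := by
  obtain ⟨K, μ, hdata, hfin⟩ := exists_finPartData A C hft hs n hn
  obtain ⟨e', he', hem, hH, hiso⟩ := exists_idem_T A T C hft hfl hs
  haveI := hH
  obtain ⟨Q, _, _, _, π₂, hQmt, hq⟩ := exists_QData hft n hn e' he' hem hiso
  haveI := hfin
  have hK : K.IsHopfIdeal A := isHopfIdeal_of_data hdata hq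
  refine ⟨K, hK, hdata.le, hfin, ?_, fun Y _ _ _ hY Ψ x hx => hdata.kills hY Ψ hx⟩
  haveI := hK
  exact isMultType_descend T (isMultType_baseChange_quot hdata hq hQmt)

end Main

end Groth.Agent.Lib.R2H7.HensFin
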