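import Mathlib
import Groth.Prelude.Def_SGA3b
import Groth.Prelude.Def_CartDual2
import Groth.Agent.Lib.R2H7CartBC
import Groth.Agent.Lib.R2H7FinMult
import Groth.Agent.Lib.R2H7LocalRigid
import Groth.Agent.Lib.R2H7GLLift
import Groth.Agent.Lib.R2H7IsoNil
import Groth.Agent.Lib.Helper3HenselN
import Groth.Agent.S15893

/-!
# R2H7HensFull: homomorphisms of finite groups of multiplicative type over a henselian local ring

* `bcMapD`, `comul_bcAlg`, `counit_bcAlg`: the base change map `D R A → D S (S ⊗ A)` of dual Hopf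
  algebras is compatible with the dual coalgebra structures.
* `algHom_ext_of_residue`, `exists_algHom_lift`: maps from an étale algebra to a finite algebra over
  a henselian local ring are the same as maps to the closed fibre (tensor form).
* `exists_lift_bialgHom`: lifting of homomorphisms of finite groups of multiplicative type from the
  closed fibre (via Cartier duality).
-/

set_option autoImplicit false
universe u

namespace Groth.Agent.Lib.R2H7.HensFull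

open TensorProduct CartDual WithConv SGA3b Groth.Agent.Lib.R2H7.CartBC

section DualBC

variable (R : Type u) [CommRing R] (A : Type u) [CommRing A] [HopfAlgebra R A]
  (S : Type u) [CommRing S] [Algebra R S]

/-- `S`-linear maps out of `(S ⊗ A) ⊗_S (S ⊗ A)` agreeing on `(1 ⊗ a) ⊗ (1 ⊗ a')` are equal. -/
theorem ext_one_tmul₂ {N : Type*} [AddCommGroup N] [Module S N]
    {f f' : (S ⊗[R] A) ⊗[S] (S ⊗[R] A) →ₗ[S] N}
    (h : ∀ a a' : A, f (((1 : S) ⊗ₜ[R] a) ⊗ₜ[S] ((1 : S) ⊗ₜ[R] a')) =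
      f' (((1 : S) ⊗ₜ[R] a) ⊗ₜ[S] ((1 : S) ⊗ₜ[R] a'))) : f = f' := by
  apply TensorProduct.ext'
  intro g g'
  induction g using TensorProduct.induction_on with
  | zero => simp
  | add g₁ g₂ h₁ h₂ => rw [TensorProduct.add_tmul, map_add, map_add, h₁, h₂]
  | tmul s a =>
    induction g' using TensorProduct.induction_on with
    | zero => simp
    | add g₁ g₂ h₁ h₂ => rw [TensorProduct.tmul_add, map_add, map_add, h₁, h₂]
    | tmul s' a' =>
      have hu : s ⊗ₜ[R] a = s • ((1 : S) ⊗ₜ[R] a) := by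
        rw [TensorProduct.smul_tmul', smul_eq_mul, mul_one]
      have hv : s' ⊗ₜ[R] a' = s' • ((1 : S) ⊗ₜ[R] a') := by
        rw [TensorProduct.smul_tmul', smul_eq_mul, mul_one]
      have h1 : (s ⊗ₜ[R] a) ⊗ₜ[S] (s' ⊗ₜ[R] a') =
          (s * s') • (((1 : S) ⊗ₜ[R] a) ⊗ₜ[S] ((1 : S) ⊗ₜ[R] a')) := by
        rw [hu, hv, ← TensorProduct.smul_tmul', TensorProduct.tmul_smul, smul_smul]
      rw [h1, map_smul, map_smul, h]

variable [Module.Finite R A] [Module.Projective R A]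

/-- `y ⊗ y' ↦ bcAlg y ⊗ bcAlg y'`. -/
noncomputable def bcMapD :
    D R A ⊗[R] D R A →ₗ[R] (D S (S ⊗[R] A)) ⊗[S] (D S (S ⊗[R] A)) :=
  TensorProduct.lift
    (LinearMap.mk₂ R (fun y y' => bcAlg R A S y ⊗ₜ[S] bcAlg R A S y')
      (fun y₁ y₂ y' => by rw [map_add, TensorProduct.add_tmul])
      (fun c y y' => by rw [map_smul, TensorProduct.smul_tmul'])
      (fun y y₁' y₂' => by rw [map_add, TensorProduct.tmul_add])
      (fun c y y' => by rw [map_smul, TensorProduct.tmul_smul]))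

theorem bcMapD_tmul (y y' : D R A) :
    bcMapD R A S (y ⊗ₜ[R] y') = bcAlg R A S y ⊗ₜ[S] bcAlg R A S y' := rfl

theorem ev₂_bcMapD (y : D R A ⊗[R] D R A) (a a' : A) :
    ev₂ S (S ⊗[R] A) (bcMapD R A S y) (((1 : S) ⊗ₜ[R] a) ⊗ₜ[S] ((1 : S) ⊗ₜ[R] a')) =
      algebraMap R S (ev₂ R A y (a ⊗ₜ[R] a')) := by
  induction y using TensorProduct.induction_on with
  | zero => simp
  | tmul x x' =>
    rw [bcMapD_tmul, ev₂_tmul, ev₂_tmul, coe_apply, coe_apply, bcAlg_ofConv, bcAlg_ofConv,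
      evS_tmul, evS_tmul, map_mul, Algebra.algebraMap_eq_smul_one, Algebra.algebraMap_eq_smul_one]
  | add y y' hy hy' => simp only [map_add, LinearMap.add_apply, hy, hy']

theorem comul_bcAlg (x : D R A) :
    Coalgebra.comul (R := S) (bcAlg R A S x) = bcMapD R A S (Coalgebra.comul (R := R) x) := by
  apply (ev₂ S (S ⊗[R] A)).injective
  apply ext_one_tmul₂
  intro a a'
  rw [ev₂_coalgebra_comul_tmul, ev₂_bcMapD, ev₂_coalgebra_comul_tmul,
    Algebra.TensorProduct.tmul_mul_tmul, one_mul, coe_apply, bcAlg_ofConv, evS_tmul,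
    Algebra.algebraMap_eq_smul_one, coe_apply]

theorem counit_bcAlg (x : D R A) :
    Coalgebra.counit (R := S) (bcAlg R A S x) = algebraMap R S (Coalgebra.counit (R := R) x) := by
  rw [coalgebra_counit_apply, coalgebra_counit_apply, coe_apply, bcAlg_ofConv,
    Algebra.TensorProduct.one_def, evS_tmul, Algebra.algebraMap_eq_smul_one, coe_apply]

end DualBC

section Hensel

open IsLocalRing Groth.Agent.Lib.Helper3.Hensel

variable (Λ : Type u) [CommRing Λ] [HenselianLocalRing Λ] (E : Type u) [CommRing E] [Algebra Λ E]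
  [Algebra.Etale Λ E] (F' : Type u) [CommRing F'] [Algebra Λ F'] [Module.Finite Λ F']

theorem algHom_ext_of_residue (f g : E →ₐ[Λ] F')
    (h : ∀ x, (1 : ResidueField Λ) ⊗ₜ[Λ] f x = (1 : ResidueField Λ) ⊗ₜ[Λ] g x) : f = g := by
  apply (algHom_quotient_bijective Λ F' E).1
  apply AlgHom.ext
  intro x
  show Ideal.Quotient.mk _ (f x) = Ideal.Quotient.mk _ (g x)
  rw [Ideal.Quotient.eq]
  have h' : (1 : Λ ⧸ maximalIdeal Λ) ⊗ₜ[Λ] f x = (1 : Λ ⧸ maximalIdeal Λ) ⊗ₜ[Λ] g x := h x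
  have h1 := congrArg (TensorProduct.quotTensorEquivQuotSMul F' (maximalIdeal Λ)) h'
  rw [TensorProduct.quotTensorEquivQuotSMul_mk_one_tmul,
    TensorProduct.quotTensorEquivQuotSMul_mk_one_tmul] at h1
  have h2 := (Submodule.Quotient.eq _).mp h1
  rw [Ideal.smul_top_eq_map] at h2
  exact h2

theorem exists_algHom_lift (h : E →ₐ[Λ] ResidueField Λ ⊗[Λ] F') :
    ∃ f : E →ₐ[Λ] F', ∀ x, (1 : ResidueField Λ) ⊗ₜ[Λ] f x = h x := by
  let e : (F' ⧸ (maximalIdeal Λ).map (algebraMap Λ F')) ≃ₐ[Λ ⧸ maximalIdeal Λ]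
      (Λ ⧸ maximalIdeal Λ) ⊗[Λ] F' :=
    Algebra.TensorProduct.quotIdealMapEquivQuotTensor F' (maximalIdeal Λ)
  let h₁ : E →ₐ[Λ] (Λ ⧸ maximalIdeal Λ) ⊗[Λ] F' := h
  let h' : E →ₐ[Λ] F' ⧸ (maximalIdeal Λ).map (algebraMap Λ F') :=
    ((e.symm.restrictScalars Λ : _ ≃ₐ[Λ] _) : _ →ₐ[Λ] _).comp h₁
  obtain ⟨f, hf⟩ := (algHom_quotient_bijective Λ F' E).2 h'
  refine ⟨f, fun x => ?_⟩
  have h2 : Ideal.Quotient.mk _ (f x) = e.symm (h₁ x) := congrArg (fun g => g x) hf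
  have h3 : e (Ideal.Quotient.mk _ (f x)) = h₁ x := by rw [h2, AlgEquiv.apply_symm_apply]
  rw [Algebra.TensorProduct.quotIdealMapEquivQuotTensor_mk] at h3
  exact h3

end Hensel

section Main

open IsLocalRing Groth.Agent.Lib.Helper25

variable (Λ : Type u) [CommRing Λ] [HenselianLocalRing Λ]
  (B : Type u) [CommRing B] [HopfAlgebra Λ B] [Module.Finite Λ B]
  (C : Type u) [CommRing C] [HopfAlgebra Λ C] [Module.Finite Λ C]

theorem one_tmul_eq_of_algebraMap_eq {r r' : Λ}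
    (h : algebraMap Λ (ResidueField Λ) r = algebraMap Λ (ResidueField Λ) r') :
    (1 : ResidueField Λ) ⊗ₜ[Λ] r = (1 : ResidueField Λ) ⊗ₜ[Λ] r' := by
  have h1 : ∀ t : Λ, (1 : ResidueField Λ) ⊗ₜ[Λ] t =
      (algebraMap Λ (ResidueField Λ) t) ⊗ₜ[Λ] (1 : Λ) := by
    intro t
    rw [Algebra.algebraMap_eq_smul_one, TensorProduct.smul_tmul, smul_eq_mul, mul_one]
  rw [h1, h1, h]

variable [Module.Projective Λ C] [Coalgebra.IsCocomm Λ C]

/-- Elements of `F ⊗ F` (`F = D Λ C`) with the same image in `D_k ⊗_k D_k` have the same image in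
`k ⊗ (F ⊗ F)`. -/
theorem one_tmul_eq_of_bcMapD_eq (z z' : D Λ C ⊗[Λ] D Λ C)
    (h : bcMapD Λ C (ResidueField Λ) z = bcMapD Λ C (ResidueField Λ) z') :
    (1 : ResidueField Λ) ⊗ₜ[Λ] z = (1 : ResidueField Λ) ⊗ₜ[Λ] z' := by
  set eC := bcDEquiv Λ C (ResidueField Λ) with heC
  set cg := TensorProduct.congr eC.toLinearEquiv eC.toLinearEquiv with hcg
  have hfac : ∀ w : D Λ C ⊗[Λ] D Λ C,
      bcMapD Λ C (ResidueField Λ) w = cg (bcMap2 (R := Λ) (ResidueField Λ) (D Λ C) w) := by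
    intro w
    induction w using TensorProduct.induction_on with
    | zero => simp
    | add w w' hw hw' => rw [map_add, map_add, map_add, hw, hw']
    | tmul y y' =>
      rw [bcMapD_tmul, bcMap2_tmul, hcg, TensorProduct.congr_tmul]
      have h1 : ∀ t : D Λ C, eC.toLinearEquiv ((1 : ResidueField Λ) ⊗ₜ[Λ] t) =
          bcAlg Λ C (ResidueField Λ) t := by
        intro t
        change bcD Λ C (ResidueField Λ) ((1 : ResidueField Λ) ⊗ₜ[Λ] t) = _
        rw [bcD_tmul, one_smul]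
      rw [h1, h1]
  have h2 : bcMap2 (R := Λ) (ResidueField Λ) (D Λ C) (z - z') = 0 := by
    apply cg.injective
    rw [← hfac, map_sub, h, sub_self, map_zero]
  have h3 := Groth.Agent.Lib.R2H7.GLLift.one_tmul_eq_zero_of_bcMap2 (ResidueField Λ) (z - z') h2
  rw [TensorProduct.tmul_sub, sub_eq_zero] at h3
  exact h3

variable [Module.Projective Λ B] [Coalgebra.IsCocomm Λ B]
  [Coalgebra.IsCocomm (ResidueField Λ) (ResidueField Λ ⊗[Λ] B)]
  [Coalgebra.IsCocomm (ResidueField Λ) (ResidueField Λ ⊗[Λ] C)]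

/-- Lifting of homomorphisms of finite groups of multiplicative type (more generally: with étale
Cartier dual of the source) from the closed fibre of a henselian local ring. -/
theorem exists_lift_bialgHom_aux [Algebra.Etale Λ (D Λ B)]
    (φ₀ : (ResidueField Λ ⊗[Λ] C) →ₐc[ResidueField Λ] (ResidueField Λ ⊗[Λ] B)) :
    ∃ φ : C →ₐc[Λ] B, ∀ c : C, φ₀ ((1 : ResidueField Λ) ⊗ₜ[Λ] c) =
      (1 : ResidueField Λ) ⊗ₜ[Λ] (φ c) := by
  set ρB := bcAlg Λ B (ResidueField Λ) with hρB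
  set ρC := bcAlg Λ C (ResidueField Λ) with hρC
  set eC := bcDEquiv Λ C (ResidueField Λ) with heC
  set τ₀ := CartDual.transpose (ResidueField Λ) φ₀ with hτ₀
  let h : D Λ B →ₐ[Λ] ResidueField Λ ⊗[Λ] D Λ C :=
    ((eC.symm.restrictScalars Λ : _ ≃ₐ[Λ] _) : _ →ₐ[Λ] _).comp
      (((τ₀ : D (ResidueField Λ) (ResidueField Λ ⊗[Λ] B) →ₐ[ResidueField Λ]
        D (ResidueField Λ) (ResidueField Λ ⊗[Λ] C)).restrictScalars Λ).comp ρB)
  obtain ⟨χ, hχ⟩ := exists_algHom_lift Λ (D Λ B) (D Λ C) h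
  -- (★)
  have hstar : ∀ x : D Λ B, ρC (χ x) = τ₀ (ρB x) := by
    intro x
    have h1 : eC ((1 : ResidueField Λ) ⊗ₜ[Λ] χ x) = eC (eC.symm (τ₀ (ρB x))) :=
      congrArg eC (hχ x)
    rw [AlgEquiv.apply_symm_apply] at h1
    rw [← h1]
    change _ = bcD Λ C (ResidueField Λ) ((1 : ResidueField Λ) ⊗ₜ[Λ] χ x)
    rw [bcD_tmul, one_smul]
  -- counit
  have hcounit : (Bialgebra.counitAlgHom Λ (D Λ C)).comp χ = Bialgebra.counitAlgHom Λ (D Λ B) := by
    apply algHom_ext_of_residue Λ (D Λ B) Λ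
    intro x
    apply one_tmul_eq_of_algebraMap_eq
    change algebraMap Λ (ResidueField Λ) (Coalgebra.counit (R := Λ) (χ x)) =
      algebraMap Λ (ResidueField Λ) (Coalgebra.counit (R := Λ) x)
    rw [← counit_bcAlg, ← counit_bcAlg, ← hρC, ← hρB, hstar,
      CoalgHomClass.counit_comp_apply τ₀]
  -- comul
  have hL : ∀ w : D Λ B ⊗[Λ] D Λ B,
      bcMapD Λ C (ResidueField Λ) (Algebra.TensorProduct.map χ χ w) =
        TensorProduct.map (τ₀ : D (ResidueField Λ) (ResidueField Λ ⊗[Λ] B) →ₗ[ResidueField Λ]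
          D (ResidueField Λ) (ResidueField Λ ⊗[Λ] C)) (τ₀ : _ →ₗ[ResidueField Λ] _)
          (bcMapD Λ B (ResidueField Λ) w) := by
    intro w
    induction w using TensorProduct.induction_on with
    | zero => simp
    | add w w' hw hw' => rw [map_add, map_add, map_add, map_add, hw, hw']
    | tmul x x' =>
      rw [Algebra.TensorProduct.map_tmul, bcMapD_tmul, bcMapD_tmul, TensorProduct.map_tmul,
        ← hρC, ← hρB, hstar, hstar]
      rfl
  have hcomul : (Algebra.TensorProduct.map χ χ).comp (Bialgebra.comulAlgHom Λ (D Λ B)) =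
      (Bialgebra.comulAlgHom Λ (D Λ C)).comp χ := by
    apply algHom_ext_of_residue Λ (D Λ B) (D Λ C ⊗[Λ] D Λ C)
    intro x
    apply one_tmul_eq_of_bcMapD_eq
    change bcMapD Λ C (ResidueField Λ) (Algebra.TensorProduct.map χ χ (Coalgebra.comul (R := Λ) x)) =
      bcMapD Λ C (ResidueField Λ) (Coalgebra.comul (R := Λ) (χ x))
    rw [hL, ← comul_bcAlg, ← comul_bcAlg, ← hρC, ← hρB, hstar]
    exact CoalgHomClass.map_comp_comul_apply τ₀ (ρB x)
  let χc : D Λ B →ₐc[Λ] D Λ C := BialgHom.ofAlgHom χ hcounit hcomul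
  obtain ⟨φ, hφ⟩ := (Groth.Agent.S15893.result Λ C B).2 χc
  have hφ' : ∀ (x : D Λ B) (c : C), (χ x) c = x (φ c) := by
    intro x c
    have h1 := congrArg (fun t : D Λ B →ₐc[Λ] D Λ C => (t x) c) hφ
    simp only [CartDual.transpose_apply] at h1
    exact h1.symm
  refine ⟨φ, fun c => ?_⟩
  rw [← sub_eq_zero, ← Module.forall_dual_apply_eq_zero_iff (ResidueField Λ)]
  intro f
  have hx : ∀ x : D Λ B, (ρB x).ofConv (φ₀ ((1 : ResidueField Λ) ⊗ₜ[Λ] c) -
      (1 : ResidueField Λ) ⊗ₜ[Λ] (φ c)) = 0 := by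
    intro x
    rw [map_sub, sub_eq_zero]
    have h1 : (ρB x).ofConv (φ₀ ((1 : ResidueField Λ) ⊗ₜ[Λ] c)) =
        (τ₀ (ρB x)).ofConv ((1 : ResidueField Λ) ⊗ₜ[Λ] c) := rfl
    rw [h1, ← hstar, hρC, hρB, bcAlg_ofConv, bcAlg_ofConv, evS_tmul, evS_tmul, ← coe_apply,
      ← coe_apply, hφ']
  have hall : ∀ z : ResidueField Λ ⊗[Λ] D Λ B,
      (bcD Λ B (ResidueField Λ) z).ofConv (φ₀ ((1 : ResidueField Λ) ⊗ₜ[Λ] c) -
        (1 : ResidueField Λ) ⊗ₜ[Λ] (φ c)) = 0 := by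
    intro z
    induction z using TensorProduct.induction_on with
    | zero => simp
    | add z z' hz1 hz2 =>
      rw [map_add, WithConv.ofConv_add, LinearMap.add_apply, hz1, hz2, add_zero]
    | tmul s x =>
      rw [bcD_tmul, WithConv.ofConv_smul, LinearMap.smul_apply]
      change s • (ρB x).ofConv _ = 0
      rw [hx, smul_zero]
  obtain ⟨z, hz⟩ := (bcD_bijective Λ B (ResidueField Λ)).2 (toConv f)
  have hf : f = (bcD Λ B (ResidueField Λ) z).ofConv := by rw [hz, ofConv_toConv]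
  rw [hf]
  exact hall z

end Main

section Final

open IsLocalRing

variable (Λ : Type u) [CommRing Λ] [HenselianLocalRing Λ]
  (B : Type u) [CommRing B] [HopfAlgebra Λ B] [Module.Finite Λ B]
  (C : Type u) [CommRing C] [HopfAlgebra Λ C] [Module.Finite Λ C]

/-- Lifting of homomorphisms of finite groups of multiplicative type from the closed fibre of a
henselian local ring. -/
theorem exists_lift_bialgHom (hG : IsMultType Λ B) (hH : IsMultType Λ C)
    (φ₀ : (ResidueField Λ ⊗[Λ] C) →ₐc[ResidueField Λ] (ResidueField Λ ⊗[Λ] B)) :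
    ∃ φ : C →ₐc[Λ] B, ∀ c : C, φ₀ ((1 : ResidueField Λ) ⊗ₜ[Λ] c) =
      (1 : ResidueField Λ) ⊗ₜ[Λ] (φ c) := by
  haveI := Groth.Agent.Lib.R2H7.FinMult.projective_of_isMultType Λ B hG
  haveI := Groth.Agent.Lib.R2H7.FinMult.projective_of_isMultType Λ C hH
  haveI := Groth.Agent.Lib.R2H7.FinMult.isCocomm_of_isMultType Λ B hG
  haveI := Groth.Agent.Lib.R2H7.FinMult.isCocomm_of_isMultType Λ C hH
  haveI := Groth.Agent.Lib.R2H7.FinMult.isCocomm_of_isMultType (ResidueField Λ)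
    (ResidueField Λ ⊗[Λ] B) (Groth.Agent.Lib.R2H7.IsoNil.isMultType_baseChange (ResidueField Λ) hG)
  haveI := Groth.Agent.Lib.R2H7.FinMult.isCocomm_of_isMultType (ResidueField Λ)
    (ResidueField Λ ⊗[Λ] C) (Groth.Agent.Lib.R2H7.IsoNil.isMultType_baseChange (ResidueField Λ) hH)
  haveI := Groth.Agent.Lib.R2H7.FinMult.etale_dual_of_isMultType Λ B hG
  exact exists_lift_bialgHom_aux Λ B C φ₀

/-- Faithfulness of reduction. -/
theorem bialgHom_ext_of_residue (hG : IsMultType Λ B) (hH : IsMultType Λ C)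
    (φ ψ : C →ₐc[Λ] B)
    (h : ∀ c : C, (1 : ResidueField Λ) ⊗ₜ[Λ] (φ c) = (1 : ResidueField Λ) ⊗ₜ[Λ] (ψ c)) :
    φ = ψ := by
  haveI := Groth.Agent.Lib.R2H7.FinMult.isCocomm_of_isMultType Λ C hH
  refine Groth.Agent.Lib.R2H7.LocalRigid.bialgHom_eq_of_fibre Λ B C inferInstance hG
    (Or.inr inferInstance) φ ψ ?_
  intro c
  have h' : (1 : Λ ⧸ maximalIdeal Λ) ⊗ₜ[Λ] (φ c) = (1 : Λ ⧸ maximalIdeal Λ) ⊗ₜ[Λ] (ψ c) := h c
  have h1 := congrArg (TensorProduct.quotTensorEquivQuotSMul B (maximalIdeal Λ)) h'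
  rw [TensorProduct.quotTensorEquivQuotSMul_mk_one_tmul,
    TensorProduct.quotTensorEquivQuotSMul_mk_one_tmul] at h1
  exact (Submodule.Quotient.eq _).mp h1

end Final

end Groth.Agent.Lib.R2H7.HensFull
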