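import Mathlib
import Groth.Prelude.Def_SGA3b
import Groth.Agent.Lib.R2H7HensFinD
import Groth.Agent.S5262

/-!
# R2H7HensFinE: homomorphisms from groups of multiplicative type over a henselian local ring descend from
the completion

`A` henselian local, `T` a complete noetherian local faithfully flat `A`-algebra with `A → T` local and
`ρ : T → k` surjective with kernel the maximal ideal (the completion of `A`).
* `finite_case`: every homomorphism `G_T → H_T`, `G` finite of multiplicative type killed by `n`, is defined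
  over `A`.
* `exists_hom_of_complete`: the same for `G` of multiplicative type and of finite type (density of the
  torsion subgroups and faithfully flat descent).
-/

set_option autoImplicit false
universe u

namespace Groth.Agent.Lib.R2H7.HensFin

open TensorProduct Coalgebra SGA3b IsLocalRing Groth.Agent.Lib.Helper25 Groth.Agent.Lib.Helper25.Tors
  Groth.Agent.Lib.R2H7.GLLift

section BcMkKer

variable {R : Type u} [CommRing R] {S : Type u} [CommRing S] [Algebra R S]
  {B : Type u} [CommRing B] [HopfAlgebra R B] (J : Ideal B) [J.IsHopfIdeal R]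

theorem mem_map_of_bcMk_eq_zero' (z : S ⊗[R] B) (hz : TorsQuot.bcMk (S := S) J z = 0) :
    z ∈ J.map (Algebra.TensorProduct.includeRight : B →ₐ[R] S ⊗[R] B) := by
  have h1 := Algebra.TensorProduct.lTensor_ker (A := S) (Ideal.Quotient.mkₐ R J)
    (Ideal.Quotient.mkₐ_surjective R J)
  have h0 : RingHom.ker (Ideal.Quotient.mkₐ R J) = J := by
    ext x
    rw [RingHom.mem_ker, Ideal.Quotient.mkₐ_eq_mk, Ideal.Quotient.eq_zero_iff_mem]
  rw [h0] at h1
  rw [← h1, RingHom.mem_ker]
  have h2 : ∀ z : S ⊗[R] B, Algebra.TensorProduct.map (AlgHom.id R S) (Ideal.Quotient.mkₐ R J) z =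
      TorsQuot.bcMk (S := S) J z := by
    intro z
    induction z using TensorProduct.induction_on with
    | zero => rw [map_zero, map_zero]
    | tmul s b => rw [TorsQuot.bcMk_tmul]; rfl
    | add x y hx hy => rw [map_add, map_add, hx, hy]
  rw [h2]
  exact hz

theorem bcMk_Hmap {X Y : Type u} [CommRing X] [CommRing Y] [Algebra R X] [Algebra R Y]
    (f : X →ₐ[R] Y) (z : X ⊗[R] B) :
    TorsQuot.bcMk (S := Y) J (Hmap B f z) = Hmap (B ⧸ J) f (TorsQuot.bcMk (S := X) J z) := by
  induction z using TensorProduct.induction_on with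
  | zero => simp
  | tmul x b =>
    rw [TorsQuot.bcMk_tmul]
    simp only [Hmap, Algebra.TensorProduct.map_tmul, AlgHom.coe_id, id_eq]
    rw [TorsQuot.bcMk_tmul]
  | add x y hx hy => rw [map_add, map_add, hx, hy, map_add, map_add]

end BcMkKer

section FiniteCase

variable (A : Type u) [CommRing A] [HenselianLocalRing A]
  (T : Type u) [CommRing T] [Algebra A T] [IsLocalRing T] [IsLocalHom (algebraMap A T)]
  [Module.FaithfullyFlat A T] [IsNoetherianRing T] [IsAdicComplete (maximalIdeal T) T]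
  (C : Type u) [CommRing C] [HopfAlgebra A C]
  (ρ : T →ₐ[A] ResidueField A) (hρ : Function.Surjective ρ)
  (hρk : ∀ t : T, ρ t = 0 → t ∈ maximalIdeal T)

include hρ hρk in
theorem finite_case (hft : Algebra.FiniteType A C)
    (hfl : ∀ (q : Ideal C) [q.IsPrime], Ideal.map (algebraMap A C) (maximalIdeal A) ≤ q →
      Module.Flat A (Localization.AtPrime q))
    (hs : IsMultType (ResidueField A) (ResidueField A ⊗[A] C)) (n : ℕ) (hn : 0 < n)
    (F : Type u) [CommRing F] [HopfAlgebra A F] [Module.Finite A F] (hF : IsMultType A F)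
    (hFk : torsionIdeal A F n = ⊥) (Ψ : T ⊗[A] C →ₐc[T] T ⊗[A] F) :
    ∃ u : C →ₐc[A] F, ∀ c : C, Ψ ((1 : T) ⊗ₜ[A] c) = (1 : T) ⊗ₜ[A] u c := by
  obtain ⟨K, hK, hJK, hfin, hmt, hkill⟩ := exists_finite_subgroup A T C hft hfl hs n hn
  haveI := hK
  haveI := hfin
  have hTF : torsionIdeal T (T ⊗[A] F) n = ⊥ := by
    rw [eq_bot_iff]
    refine (torsionIdeal_baseChange_le T n).trans ?_
    rw [hFk, Ideal.map_bot]
  obtain ⟨Ψ'', hΨ''⟩ := factorHom (TorsQuot.bcMk (S := T) K) (TorsQuot.bcMk_surjective K) Ψ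
    (fun z hz => by
      have hz' := mem_map_of_bcMk_eq_zero' K z hz
      have h1 : K.map (Algebra.TensorProduct.includeRight : C →ₐ[A] T ⊗[A] C) ≤
          RingHom.ker ((Ψ : T ⊗[A] C →ₐ[T] T ⊗[A] F) : T ⊗[A] C →+* T ⊗[A] F) := by
        rw [Ideal.map_le_iff_le_comap]
        intro x hx
        rw [Ideal.mem_comap, RingHom.mem_ker]
        exact hkill (T ⊗[A] F) hTF Ψ x hx
      exact RingHom.mem_ker.mp (h1 hz'))
  obtain ⟨u, hu⟩ := (Groth.Agent.S5262.result A F hF (C ⧸ K) hmt).2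
    (Groth.Agent.Lib.R2H7.HomLift.pull ρ Ψ'')
  have hTD : IsMultType T (T ⊗[A] (C ⧸ K)) :=
    Groth.Agent.Lib.R2H7.IsoNil.isMultType_baseChange T hmt
  have hTFm : IsMultType T (T ⊗[A] F) := Groth.Agent.Lib.R2H7.IsoNil.isMultType_baseChange T hF
  haveI : IsCocomm T (T ⊗[A] (C ⧸ K)) :=
    Groth.Agent.Lib.R2H7.FinMult.isCocomm_of_isMultType T _ hTD
  have heq : Ψ'' = Groth.Agent.Lib.R2H7.DiagNil.bcHom T u := by
    apply Groth.Agent.Lib.R2H7.LocalRigid.bialgHom_eq_of_fibre T (T ⊗[A] F) (T ⊗[A] (C ⧸ K))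
      inferInstance hTFm (Or.inl inferInstance)
    intro z
    induction z using TensorProduct.induction_on with
    | zero => simp
    | tmul t d =>
      have h1 : t ⊗ₜ[A] d = t • ((1 : T) ⊗ₜ[A] d) := by
        rw [TensorProduct.smul_tmul', smul_eq_mul, mul_one]
      rw [h1, map_smul, map_smul, ← smul_sub]
      apply Submodule.smul_mem
      apply mem_smul_top_of_Hmap_eq_zero F ρ hρ (maximalIdeal T) hρk
      rw [map_sub, sub_eq_zero, ← Groth.Agent.Lib.R2H7.HomLift.pull_one_tmul, hu d,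
        Groth.Agent.Lib.R2H7.HomLift.bcHom_one_tmul, Hmap_one_tmul]
    | add x y hx hy =>
      rw [map_add, map_add, add_sub_add_comm]
      exact Submodule.add_mem _ hx hy
  refine ⟨u.comp (Bialgebra.Quotient.mkBialgHom (R := A) K), fun c => ?_⟩
  rw [← hΨ'' ((1 : T) ⊗ₜ[A] c), TorsQuot.bcMk_tmul, heq,
    Groth.Agent.Lib.R2H7.HomLift.bcHom_one_tmul]
  rfl

include hρ hρk in
/-- Homomorphisms from a group of multiplicative type and of finite type over the completion are defined over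
the henselian local ring. -/
theorem exists_hom_of_complete (B : Type u) [CommRing B] [HopfAlgebra A B]
    (hGft : Algebra.FiniteType A B) (hG : IsMultType A B) (hft : Algebra.FiniteType A C)
    (hfl : ∀ (q : Ideal C) [q.IsPrime], Ideal.map (algebraMap A C) (maximalIdeal A) ≤ q →
      Module.Flat A (Localization.AtPrime q))
    (hs : IsMultType (ResidueField A) (ResidueField A ⊗[A] C))
    (φ' : T ⊗[A] C →ₐc[T] T ⊗[A] B) :
    ∃ φ : C →ₐc[A] B, ∀ c : C, φ' ((1 : T) ⊗ₜ[A] c) = (1 : T) ⊗ₜ[A] φ c := by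
  apply Groth.Agent.Lib.R2H7.HomLift.descend_hom T φ'
  intro c
  rw [← sub_eq_zero]
  haveI : IsCocomm A B := Groth.Agent.Lib.R2H7.FinMult.isCocomm_of_isMultType A B hG
  haveI := hGft
  apply Groth.Agent.Lib.R2H7.LocalRigid.eq_zero_of_forall_mem_torsionIdeal
    (R := T ⊗[A] T) (A := (T ⊗[A] T) ⊗[A] B) inferInstance
    (Groth.Agent.Lib.R2H7.IsoNil.isMultType_baseChange (T ⊗[A] T) hG)
  intro n hn
  haveI hJn : (torsionIdeal A B n).IsHopfIdeal A :=
    Groth.Agent.Lib.R2H7.LocalRigid.isHopfIdeal_torsionIdeal A B n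
  obtain ⟨hBmt, hBfin⟩ := TorsQuot.torsion_quotient hGft hG n hn (torsionIdeal A B n) rfl
  haveI := hBfin
  have hBk : torsionIdeal A (B ⧸ torsionIdeal A B n) n = ⊥ :=
    (torsionIdeal_eq_bot_iff n).mpr (TorsQuot.isKilled_quotient n _ le_rfl)
  obtain ⟨u, hu⟩ := finite_case A T C ρ hρ hρk hft hfl hs n hn (B ⧸ torsionIdeal A B n) hBmt hBk
    ((TorsQuot.bcMk (S := T) (torsionIdeal A B n)).comp φ')
  have hu' : TorsQuot.bcMk (S := T) (torsionIdeal A B n) (φ' ((1 : T) ⊗ₜ[A] c)) =
      (1 : T) ⊗ₜ[A] u c := hu c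
  have hq : TorsQuot.bcMk (S := T ⊗[A] T) (torsionIdeal A B n)
      (Hmap B (Algebra.TensorProduct.includeLeft : T →ₐ[A] T ⊗[A] T) (φ' ((1 : T) ⊗ₜ[A] c)) -
        Hmap B (Algebra.TensorProduct.includeRight : T →ₐ[A] T ⊗[A] T)
          (φ' ((1 : T) ⊗ₜ[A] c))) = 0 := by
    rw [map_sub, bcMk_Hmap, bcMk_Hmap, hu', Hmap_one_tmul, Hmap_one_tmul, sub_self]
  have hmem := mem_map_of_bcMk_eq_zero' (torsionIdeal A B n) _ hq
  refine (Ideal.map_le_iff_le_comap.mpr ?_) hmem
  intro j hj
  exact one_tmul_mem_torsionIdeal (T ⊗[A] T) n hj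

end FiniteCase

end Groth.Agent.Lib.R2H7.HensFin
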