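import Mathlib
import Groth.Prelude.Def_SGA3b
import Groth.Agent.Lib.Helper25MultBC
import Groth.Agent.Lib.Helper25TorsQuot
import Groth.Agent.Lib.Helper25Shear
import Groth.Agent.Lib.R2H7ProdRing

/-!
# R2H7MTGlue: a Hopf algebra split by a finite flat covering family is of multiplicative type

Let `B` be a Hopf algebra over `R` and `S i` finitely many flat `R`-algebras, jointly surjective on
spectra, with splittings `S i ⊗ B ≃ (S i)[Q i]`.  Then `B` is of multiplicative type
(`isMultType_of_finite_flat_family`): the type is locally constant on `Spec R`.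

* `nonempty_mulEquiv_of_points`: two splittings with a common field-valued point have isomorphic
  types.
* `exists_factor`: a field-valued point of a finite product of rings factors through one factor.
* `exists_descent`: an idempotent of the product `∀ i, S i` with entries `0, 1`, constant along
  pairs of factors with a common field-valued point, comes from `R` (faithfully flat descent).
* `piece`: the part of the family where an idempotent of `R` is `1` diagonalises `B` over `D(e)`.
-/

set_option autoImplicit false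
universe u

namespace Groth.Agent.Lib.R2H7.MTGlue

open TensorProduct Coalgebra SGA3b
open Groth.Agent.Lib.Helper25

section Field

variable {R : Type u} [CommRing R] {B : Type u} [CommRing B] [HopfAlgebra R B]

/-- Base change of a splitting along a point. -/
theorem nonempty_equiv_of_algHom {S : Type u} [CommRing S] [Algebra R S] {Q : Type u}
    [CommGroup Q] (θ : S ⊗[R] B ≃ₐc[S] MonoidAlgebra S Q) {Ω : Type u} [CommRing Ω] [Algebra R Ω]
    (t : S →ₐ[R] Ω) : Nonempty (Ω ⊗[R] B ≃ₐc[Ω] MonoidAlgebra Ω Q) := by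
  letI : Algebra S Ω := t.toRingHom.toAlgebra
  haveI : IsScalarTower R S Ω := IsScalarTower.of_algebraMap_eq (fun r => (t.commutes r).symm)
  exact ⟨(BCB.cancelBC R S Ω B).symm.trans ((BCB.bcEquiv Ω θ).trans (BCB.steBialg S Ω Q))⟩

/-- Group algebras over a field which are isomorphic as bialgebras have isomorphic groups. -/
theorem nonempty_mulEquiv_of_bialgEquiv {Ω : Type u} [Field Ω] {Q₁ Q₂ : Type u} [CommGroup Q₁]
    [CommGroup Q₂] (E : MonoidAlgebra Ω Q₁ ≃ₐc[Ω] MonoidAlgebra Ω Q₂) : Nonempty (Q₁ ≃* Q₂) := by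
  let f : Q₁ →* Q₂ := MonoidAlgebra.mapDomainOfBialgHom E.toBialgHom
  let g : Q₂ →* Q₁ := MonoidAlgebra.mapDomainOfBialgHom E.symm.toBialgHom
  have h1 : ∀ q, g (f q) = q := fun q => by
    apply MonoidAlgebra.single_left_injective (R := Ω) (one_ne_zero)
    change MonoidAlgebra.single (g (f q)) (1 : Ω) = MonoidAlgebra.single q 1
    rw [MonoidAlgebra.single_mapDomainOfBialgHom, MonoidAlgebra.single_mapDomainOfBialgHom]
    exact E.symm_apply_apply _
  have h2 : ∀ q, f (g q) = q := fun q => by
    apply MonoidAlgebra.single_left_injective (R := Ω) (one_ne_zero)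
    change MonoidAlgebra.single (f (g q)) (1 : Ω) = MonoidAlgebra.single q 1
    rw [MonoidAlgebra.single_mapDomainOfBialgHom, MonoidAlgebra.single_mapDomainOfBialgHom]
    exact E.apply_symm_apply _
  exact ⟨{ toFun := f, invFun := g, left_inv := h1, right_inv := h2, map_mul' := f.map_mul }⟩

/-- Two splittings with a common field-valued point have isomorphic types. -/
theorem nonempty_mulEquiv_of_points {S₁ S₂ : Type u} [CommRing S₁] [CommRing S₂] [Algebra R S₁]
    [Algebra R S₂] {Q₁ Q₂ : Type u} [CommGroup Q₁] [CommGroup Q₂]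
    (θ₁ : S₁ ⊗[R] B ≃ₐc[S₁] MonoidAlgebra S₁ Q₁) (θ₂ : S₂ ⊗[R] B ≃ₐc[S₂] MonoidAlgebra S₂ Q₂)
    {Ω : Type u} [Field Ω] [Algebra R Ω] (t₁ : S₁ →ₐ[R] Ω) (t₂ : S₂ →ₐ[R] Ω) :
    Nonempty (Q₁ ≃* Q₂) := by
  obtain ⟨E₁⟩ := nonempty_equiv_of_algHom θ₁ t₁
  obtain ⟨E₂⟩ := nonempty_equiv_of_algHom θ₂ t₂
  exact nonempty_mulEquiv_of_bialgEquiv (E₁.symm.trans E₂)

end Field

section PiPoint

variable {R : Type u} [CommRing R] {ι : Type u} [Fintype ι] [DecidableEq ι]
  (S : ι → Type u) [∀ i, CommRing (S i)] [∀ i, Algebra R (S i)]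

theorem single_one_mul (i : ι) (x : ∀ i, S i) :
    (Pi.single i (1 : S i) : ∀ i, S i) * x = Pi.single i (x i) := by
  funext k
  by_cases hk : k = i
  · subst hk
    rw [Pi.mul_apply, Pi.single_eq_same, Pi.single_eq_same, one_mul]
  · rw [Pi.mul_apply, Pi.single_eq_of_ne hk, Pi.single_eq_of_ne hk, zero_mul]

/-- A field-valued point of a finite product of rings factors through one factor. -/
theorem exists_factor {Ω : Type u} [Field Ω] [Algebra R Ω] (s : (∀ i, S i) →ₐ[R] Ω) :
    ∃ (i : ι) (t : S i →ₐ[R] Ω), ∀ x : ∀ i, S i, s x = t (x i) := by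
  have h1 : ∑ i, (Pi.single i (1 : S i) : ∀ i, S i) = 1 :=
    Finset.univ_sum_single (1 : ∀ i, S i)
  obtain ⟨i, hi⟩ : ∃ i, s (Pi.single i (1 : S i)) ≠ 0 := by
    by_contra h
    push Not at h
    have h2 : (∑ i, s (Pi.single i (1 : S i))) = 0 := Finset.sum_eq_zero (fun i _ => h i)
    rw [← map_sum, h1, map_one] at h2
    exact one_ne_zero h2
  have hidem : s (Pi.single i 1) * s (Pi.single i 1) = s (Pi.single i 1) := by
    rw [← map_mul, single_one_mul, Pi.single_eq_same]
  have hone : s (Pi.single i (1 : S i)) = 1 :=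
    mul_left_cancel₀ hi (hidem.trans (mul_one _).symm)
  have hx : ∀ x : ∀ i, S i, s x = s (Pi.single i (x i)) := by
    intro x
    rw [← single_one_mul, map_mul, hone, one_mul]
  refine ⟨i, { toFun := fun y => s (Pi.single i y)
               map_one' := hone
               map_mul' := fun y z => by rw [Pi.single_mul, map_mul]
               map_zero' := by rw [Pi.single_zero, map_zero]
               map_add' := fun y z => by rw [Pi.single_add, map_add]
               commutes' := fun r => ?_ }, fun x => hx x⟩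
  have h3 := hx (algebraMap R (∀ i, S i) r)
  rw [s.commutes] at h3
  exact h3.symm

end PiPoint

section Idem

variable {R : Type u} [CommRing R] {ι : Type u} [Fintype ι] [DecidableEq ι]
  (S : ι → Type u) [∀ i, CommRing (S i)] [∀ i, Algebra R (S i)]

theorem eq_zero_of_pow_three {W : Type*} [CommRing W] {x : W} (h3 : x ^ 3 = x)
    (hn : IsNilpotent x) : x = 0 := by
  obtain ⟨n, hn⟩ := hn
  have h : ∀ m : ℕ, x = x * (x ^ 2) ^ m := by
    intro m
    induction m with
    | zero => simp
    | succ m ih =>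
      calc x = x * (x ^ 2) ^ m := ih
        _ = x ^ 3 * (x ^ 2) ^ m := by rw [h3]
        _ = x * (x ^ 2) ^ (m + 1) := by ring
  have h0 : (x ^ 2) ^ n = 0 := by
    rw [← pow_mul, mul_comm, pow_mul, hn, zero_pow two_ne_zero]
  calc x = x * (x ^ 2) ^ n := h n
    _ = 0 := by rw [h0, mul_zero]

/-- The element of the product with entries `0` and `1` prescribed by `c`. -/
def chi (c : ι → Prop) [DecidablePred c] : ∀ i, S i := fun k => if c k then 1 else 0

theorem chi_apply (c : ι → Prop) [DecidablePred c] (k : ι) :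
    chi S c k = if c k then 1 else 0 := rfl

theorem chi_mul_chi (c : ι → Prop) [DecidablePred c] : chi S c * chi S c = chi S c := by
  funext k
  rw [Pi.mul_apply, chi_apply]
  split_ifs <;> simp

/-- Descent of a `0/1` element of the product which is constant along pairs of factors with a
common field-valued point. -/
theorem exists_descent [Module.FaithfullyFlat R (∀ i, S i)] (c : ι → Prop) [DecidablePred c]
    (hc : ∀ (Ω : Type u) [Field Ω] [Algebra R Ω] (k₁ k₂ : ι) (_ : S k₁ →ₐ[R] Ω)
      (_ : S k₂ →ₐ[R] Ω), c k₁ ↔ c k₂) :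
    ∃ e : R, ∀ k, algebraMap R (S k) e = if c k then 1 else 0 := by
  let W := (∀ i, S i) ⊗[R] (∀ i, S i)
  let a : W := chi S c ⊗ₜ[R] 1
  let b : W := 1 ⊗ₜ[R] chi S c
  have ha : a * a = a := by
    change (chi S c ⊗ₜ[R] (1 : ∀ i, S i)) * (chi S c ⊗ₜ[R] 1) = chi S c ⊗ₜ[R] 1
    rw [Algebra.TensorProduct.tmul_mul_tmul, chi_mul_chi, mul_one]
  have hb : b * b = b := by
    change ((1 : ∀ i, S i) ⊗ₜ[R] chi S c) * (1 ⊗ₜ[R] chi S c) = 1 ⊗ₜ[R] chi S c
    rw [Algebra.TensorProduct.tmul_mul_tmul, chi_mul_chi, mul_one]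
  have h3 : (a - b) ^ 3 = a - b := by
    linear_combination (a + 1 - 3 * b) * ha + (3 * a - b - 1) * hb
  have hnil : IsNilpotent (a - b) := by
    rw [nilpotent_iff_mem_prime]
    intro 𝔓 h𝔓
    haveI := h𝔓
    rw [← Ideal.algebraMap_residueField_eq_zero]
    let σ : W →ₐ[R] 𝔓.ResidueField := IsScalarTower.toAlgHom R W 𝔓.ResidueField
    obtain ⟨k₁, t₁, h₁⟩ := exists_factor S (σ.comp Algebra.TensorProduct.includeLeft)
    obtain ⟨k₂, t₂, h₂⟩ := exists_factor S (σ.comp Algebra.TensorProduct.includeRight)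
    have e1 : algebraMap W 𝔓.ResidueField a = t₁ (chi S c k₁) := h₁ (chi S c)
    have e2 : algebraMap W 𝔓.ResidueField b = t₂ (chi S c k₂) := h₂ (chi S c)
    rw [map_sub, e1, e2, chi_apply, chi_apply]
    by_cases h : c k₁
    · have h' : c k₂ := (hc _ k₁ k₂ t₁ t₂).mp h
      rw [if_pos h, if_pos h', map_one, map_one, sub_self]
    · have h' : ¬ c k₂ := fun h2 => h ((hc _ k₁ k₂ t₁ t₂).mpr h2)
      rw [if_neg h, if_neg h', map_zero, map_zero, sub_self]
  have hab : a = b := sub_eq_zero.mp (eq_zero_of_pow_three h3 hnil)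
  obtain ⟨r, hr⟩ := mem_range_algebraMap_of_tmul_eq R (∀ i, S i) (chi S c) hab
  refine ⟨r, fun k => ?_⟩
  have h4 := congrFun hr k
  rw [chi_apply] at h4
  exact h4

end Idem

section Main

variable {R : Type u} [CommRing R] {B : Type u} [CommRing B] [HopfAlgebra R B]

/-- A finite product of flat algebras, jointly surjective on spectra, is faithfully flat. -/
theorem faithfullyFlat_pi {ι : Type u} [Fintype ι] (S : ι → Type u) [∀ i, CommRing (S i)]
    [∀ i, Algebra R (S i)] (hflat : ∀ i, Module.Flat R (S i))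
    (hsurj : ∀ p : PrimeSpectrum R, ∃ i, ∃ q : PrimeSpectrum (S i),
      q.asIdeal.comap (algebraMap R (S i)) = p.asIdeal) :
    Module.FaithfullyFlat R (∀ i, S i) := by
  classical
  haveI := hflat
  haveI : Module.Flat R (∀ i, S i) :=
    Module.Flat.of_linearEquiv (DirectSum.linearEquivFunOnFintype R ι S).symm
  rw [Module.faithfullyFlat_iff]
  refine ⟨inferInstance, fun m hm htop => ?_⟩
  obtain ⟨i, q, hq⟩ := hsurj ⟨m, hm.isPrime⟩
  have h1 : (1 : ∀ i, S i) ∈ (m • ⊤ : Submodule R (∀ i, S i)) := by rw [htop]; trivial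
  have h2 : ∀ z ∈ (m • ⊤ : Submodule R (∀ i, S i)), z i ∈ q.asIdeal := by
    intro z hz
    refine Submodule.smul_induction_on hz ?_ ?_
    · intro a ha b _
      change (a • b) i ∈ q.asIdeal
      rw [Pi.smul_apply, Algebra.smul_def]
      refine Ideal.mul_mem_right _ _ ?_
      have : a ∈ q.asIdeal.comap (algebraMap R (S i)) := by rw [hq]; exact ha
      exact this
    · intro x y hx hy
      rw [Pi.add_apply]; exact Ideal.add_mem _ hx hy
  exact q.2.ne_top ((Ideal.eq_top_iff_one _).mpr (h2 1 h1))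

/-- The members of the family on which the image of `e` is `1` diagonalise `B` over `D(e)`. -/
theorem piece {ι : Type u} [Fintype ι] [DecidableEq ι] (S : ι → Type u) [∀ i, CommRing (S i)]
    [∀ i, Algebra R (S i)] (hflat : ∀ i, Module.Flat R (S i))
    (hsurj : ∀ p : PrimeSpectrum R, ∃ i, ∃ q : PrimeSpectrum (S i),
      q.asIdeal.comap (algebraMap R (S i)) = p.asIdeal)
    (c : ι → Prop) [DecidablePred c] (e : R)
    (he : ∀ k, algebraMap R (S k) e = if c k then 1 else 0)
    (N : Type u) [CommGroup N]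
    (ϑ : ∀ k : {k // c k}, S k ⊗[R] B ≃ₐc[S k] MonoidAlgebra (S k) N) :
    ∃ (S' : Type u) (_ : CommRing S') (_ : Algebra R S') (_ : Algebra (Localization.Away e) S'),
      IsScalarTower R (Localization.Away e) S' ∧ Module.FaithfullyFlat (Localization.Away e) S' ∧
        IsDiag S' (S' ⊗[R] B) := by
  let S' := ∀ k : {k // c k}, S k
  have hone : algebraMap R S' e = 1 := by
    funext k
    change algebraMap R (S k) e = 1
    rw [he, if_pos k.2]
  have hunit : IsUnit (algebraMap R S' e) := by rw [hone]; exact isUnit_one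
  letI : Algebra (Localization.Away e) S' := (IsLocalization.Away.lift e hunit).toAlgebra
  haveI : IsScalarTower R (Localization.Away e) S' :=
    IsScalarTower.of_algebraMap_eq (fun r => (IsLocalization.Away.lift_eq e hunit r).symm)
  refine ⟨S', inferInstance, inferInstance, inferInstance, inferInstance, ?_,
    ⟨N, inferInstance, ⟨ProdRing.thetaP (fun k : {k // c k} => S k) B ϑ⟩⟩⟩
  haveI := hflat
  haveI : Module.Flat R S' :=
    Module.Flat.of_linearEquiv
      (DirectSum.linearEquivFunOnFintype R {k // c k} (fun k => S k)).symm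
  haveI : Module.Flat (Localization.Away e) S' :=
    (Module.flat_iff_of_isLocalization (Localization.Away e) (Submonoid.powers e) S').mpr
      inferInstance
  apply Module.FaithfullyFlat.of_comap_surjective
  intro p'
  obtain ⟨k, q, hq⟩ := hsurj (PrimeSpectrum.comap (algebraMap R (Localization.Away e)) p')
  have key : ∀ r : R, algebraMap R (S k) r ∈ q.asIdeal ↔
      algebraMap R (Localization.Away e) r ∈ p'.asIdeal := by
    intro r
    have h := SetLike.ext_iff.mp hq r
    rw [Ideal.mem_comap, PrimeSpectrum.comap_asIdeal, Ideal.mem_comap] at h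
    exact h
  have hk : c k := by
    by_contra hk
    have h0 : algebraMap R (S k) e = 0 := by rw [he, if_neg hk]
    have h1 : algebraMap R (Localization.Away e) e ∈ p'.asIdeal := by
      rw [← key, h0]
      exact zero_mem _
    exact p'.2.ne_top (Ideal.eq_top_of_isUnit_mem _ h1 (IsLocalization.Away.algebraMap_isUnit e))
  refine ⟨PrimeSpectrum.comap (Pi.evalRingHom (fun k : {k // c k} => S k) ⟨k, hk⟩) q, ?_⟩
  apply PrimeSpectrum.localization_comap_injective (Localization.Away e) (Submonoid.powers e)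
  apply PrimeSpectrum.ext
  apply Ideal.ext
  intro r
  rw [PrimeSpectrum.comap_asIdeal, PrimeSpectrum.comap_asIdeal, PrimeSpectrum.comap_asIdeal,
    PrimeSpectrum.comap_asIdeal, Ideal.mem_comap, Ideal.mem_comap, Ideal.mem_comap, Ideal.mem_comap,
    ← key r, ← IsScalarTower.algebraMap_apply R (Localization.Away e) S' r]
  rfl

/-- A Hopf algebra split by a finite flat covering family is of multiplicative type. -/
theorem isMultType_of_finite_flat_family {ι : Type u} [Fintype ι] (S : ι → Type u)
    [∀ i, CommRing (S i)] [∀ i, Algebra R (S i)] (hflat : ∀ i, Module.Flat R (S i))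
    (hsurj : ∀ p : PrimeSpectrum R, ∃ i, ∃ q : PrimeSpectrum (S i),
      q.asIdeal.comap (algebraMap R (S i)) = p.asIdeal)
    (Q : ι → Type u) [∀ i, CommGroup (Q i)]
    (θ : ∀ i, S i ⊗[R] B ≃ₐc[S i] MonoidAlgebra (S i) (Q i)) : IsMultType R B := by
  classical
  haveI := faithfullyFlat_pi S hflat hsurj
  have hdesc : ∀ i : ι, ∃ e : R, ∀ k,
      algebraMap R (S k) e = if Nonempty (Q i ≃* Q k) then 1 else 0 := by
    intro i
    apply exists_descent S (fun k => Nonempty (Q i ≃* Q k))
    intro Ω _ _ k₁ k₂ t₁ t₂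
    obtain ⟨E⟩ := nonempty_mulEquiv_of_points (θ k₁) (θ k₂) t₁ t₂
    exact ⟨fun ⟨F⟩ => ⟨F.trans E⟩, fun ⟨F⟩ => ⟨F.trans E.symm⟩⟩
  choose e he using hdesc
  apply TorsQuot.isMultType_of_hasDiagCover
  refine ⟨Set.range e, ?_, ?_⟩
  · by_contra hne
    obtain ⟨m, hm, hle⟩ := Ideal.exists_le_maximal _ hne
    obtain ⟨i, q, hq⟩ := hsurj ⟨m, hm.isPrime⟩
    have h1 : e i ∈ m := hle (Ideal.subset_span ⟨i, rfl⟩)
    have h2 : algebraMap R (S i) (e i) ∈ q.asIdeal := by
      have : e i ∈ q.asIdeal.comap (algebraMap R (S i)) := by rw [hq]; exact h1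
      exact this
    rw [he i i, if_pos ⟨MulEquiv.refl _⟩] at h2
    exact q.2.ne_top ((Ideal.eq_top_iff_one _).mpr h2)
  · rintro _ ⟨i, rfl⟩
    exact piece S hflat hsurj (fun k => Nonempty (Q i ≃* Q k)) (e i) (he i) (Q i)
      (fun k => (θ k.1).trans
        (MonoidAlgebra.domCongrBialgEquiv (S k.1) (S k.1) (Classical.choice k.2).symm))

end Main

end Groth.Agent.Lib.R2H7.MTGlue
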