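import Mathlib
import Groth.Prelude.Def_SGA3b
import Groth.Agent.Lib.R2H7MTGlue
import Groth.Agent.Lib.R2H7IsoNil

/-!
# R2H7MTDesc: descent calculus for groups of multiplicative type

`Fam R B T`: the `R`-Hopf algebra `B` is diagonalised by a finite family of flat `T`-algebras which
is jointly surjective on spectra (`T` an `R`-algebra; all tensor products are over `R`).

* `Fam.of_isDiag`, `Fam.of_faithfullyFlat`, `Fam.of_algebra`, `Fam.of_span`, `Fam.of_forall_prime`:
  the predicate is local for the fpqc topology.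
* `Fam.of_isMultType_cover`: to prove `Fam R B T` one may assume that a given Hopf algebra of
  multiplicative type over `T` is diagonalisable.
* `isMultType_of_fam`: `Fam R B R` implies that `B` is of multiplicative type.
-/

set_option autoImplicit false
universe u

namespace Groth.Agent.Lib.R2H7.MTDesc

open TensorProduct Coalgebra SGA3b
open Groth.Agent.Lib.Helper25

section Def

variable (R : Type u) [CommRing R] (B : Type u) [CommRing B] [HopfAlgebra R B]

/-- `B` is diagonalised by a finite flat family of `T`-algebras, jointly surjective on spectra. -/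
def Fam (T : Type u) [CommRing T] [Algebra R T] : Prop :=
  ∃ (ι : Type u) (_ : Fintype ι) (S : ι → Type u) (_ : ∀ i, CommRing (S i))
    (_ : ∀ i, Algebra R (S i)) (j : ∀ i, T →ₐ[R] S i),
    (∀ i, (j i).toRingHom.Flat) ∧
    (∀ p : PrimeSpectrum T, ∃ i, ∃ q : PrimeSpectrum (S i),
      q.asIdeal.comap (j i).toRingHom = p.asIdeal) ∧
    ∀ i, IsDiag (S i) (S i ⊗[R] B)

end Def

section Comb

variable {R : Type u} [CommRing R] {B : Type u} [CommRing B] [HopfAlgebra R B]

theorem Fam.of_isDiag {T : Type u} [CommRing T] [Algebra R T] (h : IsDiag T (T ⊗[R] B)) :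
    Fam R B T := by
  refine ⟨PUnit.{u + 1}, inferInstance, fun _ => T, fun _ => inferInstance, fun _ => inferInstance,
    fun _ => AlgHom.id R T, fun _ => RingHom.Flat.id T, fun p => ⟨PUnit.unit, p, ?_⟩, fun _ => h⟩
  exact Ideal.comap_id _

theorem Fam.of_faithfullyFlat {T T' : Type u} [CommRing T] [CommRing T'] [Algebra R T]
    [Algebra R T'] (φ : T →ₐ[R] T') (hφ : φ.toRingHom.Flat)
    (hs : ∀ p : PrimeSpectrum T, ∃ q : PrimeSpectrum T',
      q.asIdeal.comap φ.toRingHom = p.asIdeal)
    (h : Fam R B T') : Fam R B T := by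
  obtain ⟨ι, _, S, _, _, j, hflat, hsurj, hdiag⟩ := h
  refine ⟨ι, inferInstance, S, inferInstance, inferInstance, fun i => (j i).comp φ,
    fun i => ?_, fun p => ?_, hdiag⟩
  · exact hφ.comp (hflat i)
  · obtain ⟨p', hp'⟩ := hs p
    obtain ⟨i, q, hq⟩ := hsurj p'
    refine ⟨i, q, ?_⟩
    change Ideal.comap ((j i).toRingHom.comp φ.toRingHom) q.asIdeal = p.asIdeal
    rw [← Ideal.comap_comap, hq, hp']

theorem Fam.of_algebra {T T' : Type u} [CommRing T] [CommRing T'] [Algebra R T] [Algebra R T']
    [Algebra T T'] [IsScalarTower R T T'] [Module.FaithfullyFlat T T'] (h : Fam R B T') :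
    Fam R B T := by
  refine Fam.of_faithfullyFlat (IsScalarTower.toAlgHom R T T')
    (RingHom.flat_algebraMap_iff.mpr inferInstance) (fun p => ?_) h
  obtain ⟨q, hq⟩ := PrimeSpectrum.comap_surjective_of_faithfullyFlat (A := T) (B := T') p
  refine ⟨q, ?_⟩
  rw [← hq]
  rfl

theorem Fam.of_span {T : Type u} [CommRing T] [Algebra R T] (s : Set T)
    (hs : Ideal.span s = ⊤) (h : ∀ f ∈ s, Fam R B (Localization.Away f)) : Fam R B T := by
  classical
  obtain ⟨s', hss, hs'⟩ := (Ideal.span_eq_top_iff_finite s).mp hs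
  have h' : ∀ f : {f // f ∈ s'}, Fam R B (Localization.Away f.1) := fun f => h f.1 (hss f.2)
  choose ι fin S ring alg j hflat hsurj hdiag using h'
  letI : ∀ x : (Σ f : {f // f ∈ s'}, ι f), CommRing (S x.1 x.2) := fun x => ring x.1 x.2
  letI : ∀ x : (Σ f : {f // f ∈ s'}, ι f), Algebra R (S x.1 x.2) := fun x => alg x.1 x.2
  letI : ∀ f, Fintype (ι f) := fin
  refine ⟨Σ f : {f // f ∈ s'}, ι f, inferInstance, fun x => S x.1 x.2, inferInstance,
    inferInstance,
    fun x => (j x.1 x.2).comp (IsScalarTower.toAlgHom R T (Localization.Away x.1.1)),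
    fun x => ?_, fun p => ?_, fun x => hdiag x.1 x.2⟩
  · change ((j x.1 x.2).toRingHom.comp (algebraMap T (Localization.Away x.1.1))).Flat
    exact (RingHom.flat_algebraMap_iff.mpr
      (IsLocalization.flat (Localization.Away x.1.1) (Submonoid.powers x.1.1))).comp
      (hflat x.1 x.2)
  · obtain ⟨f, hf, hfp⟩ : ∃ f ∈ s', f ∉ p.asIdeal := by
      by_contra hcon
      push Not at hcon
      have h1 : Ideal.span (s' : Set T) ≤ p.asIdeal := Ideal.span_le.mpr (fun f hf => hcon f hf)
      rw [hs'] at h1
      exact p.2.ne_top (top_le_iff.mp h1)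
    have h2 : p ∈ Set.range (PrimeSpectrum.comap (algebraMap T (Localization.Away f))) := by
      rw [PrimeSpectrum.localization_away_comap_range (Localization.Away f) f]
      exact hfp
    obtain ⟨p', hp'⟩ := h2
    obtain ⟨i, q, hq⟩ := hsurj ⟨f, hf⟩ p'
    refine ⟨⟨⟨f, hf⟩, i⟩, q, ?_⟩
    change Ideal.comap ((j ⟨f, hf⟩ i).toRingHom.comp (algebraMap T (Localization.Away f)))
      q.asIdeal = p.asIdeal
    rw [← Ideal.comap_comap, hq, ← hp']
    rfl

theorem Fam.of_forall_prime {T : Type u} [CommRing T] [Algebra R T]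
    (h : ∀ 𝔮 : Ideal T, 𝔮.IsPrime → ∃ f : T, f ∉ 𝔮 ∧
      IsDiag (Localization.Away f) (Localization.Away f ⊗[R] B)) : Fam R B T := by
  apply Fam.of_span {f : T | IsDiag (Localization.Away f) (Localization.Away f ⊗[R] B)}
  · by_contra hne
    obtain ⟨m, hm, hle⟩ := Ideal.exists_le_maximal _ hne
    obtain ⟨f, hf, hD⟩ := h m hm.isPrime
    exact hf (hle (Ideal.subset_span hD))
  · intro f hf
    exact Fam.of_isDiag hf

/-- `Fam R B R` implies that `B` is of multiplicative type. -/
theorem isMultType_of_fam (h : Fam R B R) : IsMultType R B := by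
  obtain ⟨ι, _, S, _, _, j, hflat, hsurj, hdiag⟩ := h
  have hj : ∀ i, (j i).toRingHom = algebraMap R (S i) := fun i => RingHom.ext (fun r => by
    have h1 := (j i).commutes r
    rw [Algebra.algebraMap_self_apply] at h1
    exact h1)
  have hflat' : ∀ i, Module.Flat R (S i) := fun i => by
    have h1 := hflat i
    rw [hj i] at h1
    exact RingHom.flat_algebraMap_iff.mp h1
  have hsurj' : ∀ p : PrimeSpectrum R, ∃ i, ∃ q : PrimeSpectrum (S i),
      q.asIdeal.comap (algebraMap R (S i)) = p.asIdeal := fun p => by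
    obtain ⟨i, q, hq⟩ := hsurj p
    rw [hj i] at hq
    exact ⟨i, q, hq⟩
  choose Q grp θ using hdiag
  letI := grp
  exact MTGlue.isMultType_of_finite_flat_family S hflat' hsurj' Q (fun i => (θ i).some)

end Comb

section Cover

variable {R : Type u} [CommRing R] {B : Type u} [CommRing B] [HopfAlgebra R B]

/-- To prove `Fam R B T` one may assume that a given `R`-Hopf algebra `A`, of multiplicative type
over `T`, is diagonalisable over `T`. -/
theorem Fam.of_isMultType_cover {T : Type u} [CommRing T] [Algebra R T] {A : Type u} [CommRing A]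
    [HopfAlgebra R A] (hA : IsMultType T (T ⊗[R] A))
    (h : ∀ (T' : Type u) [CommRing T'] [Algebra R T'] [Algebra T T'] [IsScalarTower R T T'],
      IsDiag T' (T' ⊗[R] A) → Fam R B T') : Fam R B T := by
  obtain ⟨s, hs, hA'⟩ := hA
  apply Fam.of_span s hs
  intro f hf
  obtain ⟨R', _, _, hff, hD⟩ := hA' f hf
  letI : Algebra T R' :=
    ((algebraMap (Localization.Away f) R').comp (algebraMap T (Localization.Away f))).toAlgebra
  letI : Algebra R R' :=
    ((algebraMap (Localization.Away f) R').comp (algebraMap R (Localization.Away f))).toAlgebra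
  haveI : IsScalarTower T (Localization.Away f) R' := IsScalarTower.of_algebraMap_eq (fun _ => rfl)
  haveI : IsScalarTower R (Localization.Away f) R' := IsScalarTower.of_algebraMap_eq (fun _ => rfl)
  haveI : IsScalarTower R T R' := IsScalarTower.of_algebraMap_eq (fun r => by
    change algebraMap (Localization.Away f) R' (algebraMap R (Localization.Away f) r) =
      algebraMap (Localization.Away f) R' (algebraMap T (Localization.Away f) (algebraMap R T r))
    rw [← IsScalarTower.algebraMap_apply R T (Localization.Away f)])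
  haveI := hff
  apply Fam.of_algebra (T := Localization.Away f) (T' := R')
  apply h R'
  exact BCB.isDiag_of_equiv
    ((BCB.cancelBC T (Localization.Away f) R' (T ⊗[R] A)).trans (BCB.cancelBC R T R' A)).symm hD

/-- The same over the base ring `R` itself. -/
theorem Fam.of_isMultType_cover_base {A : Type u} [CommRing A] [HopfAlgebra R A]
    (hA : IsMultType R A)
    (h : ∀ (T' : Type u) [CommRing T'] [Algebra R T'], IsDiag T' (T' ⊗[R] A) → Fam R B T') :
    Fam R B R := by
  obtain ⟨s, hs, hA'⟩ := hA
  apply Fam.of_span s hs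
  intro f hf
  obtain ⟨R', _, _, hff, hD⟩ := hA' f hf
  letI : Algebra R R' :=
    ((algebraMap (Localization.Away f) R').comp (algebraMap R (Localization.Away f))).toAlgebra
  haveI : IsScalarTower R (Localization.Away f) R' := IsScalarTower.of_algebraMap_eq (fun _ => rfl)
  haveI := hff
  apply Fam.of_algebra (T := Localization.Away f) (T' := R')
  apply h R'
  exact BCB.isDiag_of_equiv (BCB.cancelBC R (Localization.Away f) R' A).symm hD

end Cover

end Groth.Agent.Lib.R2H7.MTDesc
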