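import Mathlib
import Groth.Agent.Lib.R2H7SepSplitC
import Groth.Agent.Lib.Helper25GroupLikeConn

/-!
# R2H7PInsepHom: homomorphisms between groups of multiplicative type over a field descend along
purely inseparable extensions

Let `k'/k` be a purely inseparable field extension, `K/k` any field extension over which the Hopf
algebras `A`, `B` become diagonalisable.  Every `k'`-bialgebra homomorphism
`φ : k' ⊗ B → k' ⊗ A` is the base change of a unique `k`-bialgebra homomorphism `B → A`.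

Proof: `T = k' ⊗ K` is connected (an idempotent has a `q^n`-th power in `K`), so the group-like
elements of `T ⊗ A ≅ T[M]` all come from `K ⊗ A`.  Hence `φ_T` maps the image of `K ⊗ B` into the
image of `K ⊗ A`; the images of `K ⊗ A` and of `k' ⊗ A` inside `T ⊗ A` meet in `A`.

* `conn`: `k' ⊗[k] K` has only trivial idempotents.
* `diagEquiv`, `exists_groupLike_of_conn`.
* `homBC`, `homBC_Hmap`: base change of a bialgebra hom along a tower.
* `exists_Hmap_eq`.
* `eq_one_tmul_of_Hmap_eq`.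
* `existsUnique_descent`.
-/

set_option autoImplicit false
universe u

namespace Groth.Agent.Lib.R2H7.PInsepHom

open TensorProduct Coalgebra Groth.Agent.Lib.Helper25 Groth.Agent.Lib.R2H7.GLLift
  Groth.Agent.Lib.R2H7.GLGlue SGA3b

section Conn

variable (k : Type u) [Field k] (k' : Type u) [Field k'] [Algebra k k']
  (K : Type u) [Field K] [Algebra k K]

theorem includeRight_inj :
    Function.Injective (Algebra.TensorProduct.includeRight : K →ₐ[k] k' ⊗[k] K) :=
  Algebra.TensorProduct.includeRight_injective (algebraMap k k').injective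

instance nontrivial_tensor : Nontrivial (k' ⊗[k] K) :=
  (includeRight_inj k k' K).nontrivial

variable [IsPurelyInseparable k k']

theorem exists_pow_mem_range (q : ℕ) [ExpChar k q] (z : k' ⊗[k] K) :
    ∃ n : ℕ, z ^ q ^ n ∈ (Algebra.TensorProduct.includeRight : K →ₐ[k] k' ⊗[k] K).range := by
  haveI : ExpChar (k' ⊗[k] K) q :=
    expChar_of_injective_algebraMap (algebraMap k (k' ⊗[k] K)).injective q
  induction z using TensorProduct.induction_on with
  | zero => exact ⟨0, by rw [pow_zero, pow_one]; exact zero_mem _⟩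
  | tmul c x =>
    obtain ⟨n, r, hr⟩ := IsPurelyInseparable.pow_mem k q c
    refine ⟨n, (AlgHom.mem_range _).mpr ⟨r • x ^ q ^ n, ?_⟩⟩
    rw [Algebra.TensorProduct.includeRight_apply, Algebra.TensorProduct.tmul_pow, ← hr,
      Algebra.algebraMap_eq_smul_one, TensorProduct.smul_tmul]
  | add z₁ z₂ h₁ h₂ =>
    obtain ⟨n₁, h₁⟩ := h₁
    obtain ⟨n₂, h₂⟩ := h₂
    refine ⟨n₁ + n₂, ?_⟩
    rw [add_pow_expChar_pow]
    refine add_mem ?_ ?_
    · rw [pow_add, pow_mul]
      exact pow_mem h₁ _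
    · rw [add_comm n₁ n₂, pow_add, pow_mul]
      exact pow_mem h₂ _

/-- `k' ⊗[k] K` is connected when `k'/k` is purely inseparable. -/
theorem conn (e : k' ⊗[k] K) (he : IsIdempotentElem e) : e = 0 ∨ e = 1 := by
  obtain ⟨q, hq⟩ := ExpChar.exists k
  haveI := hq
  obtain ⟨n, hn⟩ := exists_pow_mem_range k k' K q e
  obtain ⟨x, hx⟩ := (AlgHom.mem_range _).mp hn
  have hpos : q ^ n ≠ 0 := (pow_pos (expChar_pos k q) n).ne'
  obtain ⟨m, hm⟩ := Nat.exists_eq_succ_of_ne_zero hpos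
  rw [hm, Nat.succ_eq_add_one, he.pow_succ_eq] at hx
  have hx2 : IsIdempotentElem x := by
    apply includeRight_inj k k' K
    rw [map_mul, hx]
    exact he
  rcases IsIdempotentElem.iff_eq_zero_or_one.mp hx2 with h | h
  · left
    rw [← hx, h, map_zero]
  · right
    rw [← hx, h, map_one]

end Conn

section Transfer

variable {R : Type u} [CommRing R] {X Y : Type u} [CommRing X] [CommRing Y] [Algebra R X]
  [Algebra R Y] [Algebra X Y] [IsScalarTower R X Y]
  {A B : Type u} [CommRing A] [HopfAlgebra R A] [CommRing B] [HopfAlgebra R B]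
  {M : Type u} [CommGroup M]

/-- A diagonalisation over `X` gives one over any `X`-algebra `Y`. -/
noncomputable def diagEquiv (e : X ⊗[R] A ≃ₐc[X] MonoidAlgebra X M) :
    Y ⊗[R] A ≃ₐc[Y] MonoidAlgebra Y M :=
  (BCB.cancelBC R X Y A).symm.trans ((BCB.bcEquiv Y e).trans (BCB.steBialg X Y M))

theorem diagEquiv_Hmap (e : X ⊗[R] A ≃ₐc[X] MonoidAlgebra X M) (f : X →ₐ[R] Y)
    (hf : ∀ s, f s = algebraMap X Y s) (m : M) :
    diagEquiv (Y := Y) e (Hmap A f (e.symm (MonoidAlgebra.single m 1))) =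
      MonoidAlgebra.single m 1 := by
  rw [← cancelBC_one_tmul f hf]
  change BCB.steBialg X Y M (BCB.bcEquiv Y e
    ((BCB.cancelBC R X Y A).symm (BCB.cancelBC R X Y A _))) = _
  rw [BialgEquiv.symm_apply_apply, BCB.bcEquiv_tmul, BialgEquiv.apply_symm_apply]
  change MonoidAlgebra.scalarTensorEquiv X Y ((1 : Y) ⊗ₜ[X] MonoidAlgebra.single m 1) = _
  rw [MonoidAlgebra.scalarTensorEquiv_tmul]
  simp

theorem exists_groupLike_of_conn [Nontrivial Y]
    (hconn : ∀ e : Y, IsIdempotentElem e → e = 0 ∨ e = 1)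
    (e : X ⊗[R] A ≃ₐc[X] MonoidAlgebra X M) (f : X →ₐ[R] Y)
    (hf : ∀ s, f s = algebraMap X Y s) {y : Y ⊗[R] A} (hy : IsGroupLikeElem Y y) :
    ∃ g : X ⊗[R] A, IsGroupLikeElem X g ∧ y = Hmap A f g := by
  have h1 : IsGroupLikeElem Y (diagEquiv (Y := Y) e y) := hy.map (diagEquiv (Y := Y) e).toBialgHom
  obtain ⟨m, hm⟩ := exists_single_of_isGroupLikeElem hconn h1
  refine ⟨e.symm (MonoidAlgebra.single m 1), ?_, ?_⟩
  · exact (MonoidAlgebra.isGroupLikeElem_single_one (R := X) (A := X) m).map e.symm.toBialgHom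
  · have h3 : diagEquiv (Y := Y) e y =
        diagEquiv (Y := Y) e (Hmap A f (e.symm (MonoidAlgebra.single m 1))) := by
      rw [hm, diagEquiv_Hmap e f hf]
    have h4 := congrArg (diagEquiv (Y := Y) e).symm h3
    rwa [BialgEquiv.symm_apply_apply, BialgEquiv.symm_apply_apply] at h4

/-- Base change of a bialgebra homomorphism along `X → Y`, between the `R`-forms. -/
noncomputable def homBC (φ : X ⊗[R] B →ₐc[X] X ⊗[R] A) : Y ⊗[R] B →ₐc[Y] Y ⊗[R] A :=
  (BCB.cancelBC R X Y A).toBialgHom.comp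
    ((Bialgebra.TensorProduct.map (BialgHom.id Y Y) φ).comp
      (BCB.cancelBC R X Y B).symm.toBialgHom)

theorem homBC_Hmap (φ : X ⊗[R] B →ₐc[X] X ⊗[R] A) (f : X →ₐ[R] Y)
    (hf : ∀ s, f s = algebraMap X Y s) (x : X ⊗[R] B) :
    homBC (Y := Y) φ (Hmap B f x) = Hmap A f (φ x) := by
  rw [← cancelBC_one_tmul f hf, ← cancelBC_one_tmul f hf]
  change BCB.cancelBC R X Y A (Bialgebra.TensorProduct.map (BialgHom.id Y Y) φ
    ((BCB.cancelBC R X Y B).symm (BCB.cancelBC R X Y B ((1 : Y) ⊗ₜ[X] x)))) = _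
  rw [BialgEquiv.symm_apply_apply]
  rfl

theorem exists_Hmap_eq [Nontrivial Y] (hconn : ∀ e : Y, IsIdempotentElem e → e = 0 ∨ e = 1)
    (e : X ⊗[R] A ≃ₐc[X] MonoidAlgebra X M)
    (hB : Submodule.span X {b : X ⊗[R] B | IsGroupLikeElem X b} = ⊤)
    (f : X →ₐ[R] Y) (hf : ∀ s, f s = algebraMap X Y s)
    (ψ : Y ⊗[R] B →ₐc[Y] Y ⊗[R] A) (z : X ⊗[R] B) :
    ∃ w : X ⊗[R] A, ψ (Hmap B f z) = Hmap A f w := by
  have hz : z ∈ Submodule.span X {b : X ⊗[R] B | IsGroupLikeElem X b} := by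
    rw [hB]
    trivial
  induction hz using Submodule.span_induction with
  | mem b hb =>
    have h1 : IsGroupLikeElem Y (ψ (Hmap B f b)) := (isGroupLikeElem_map f hb).map ψ
    obtain ⟨g, _, hg⟩ := exists_groupLike_of_conn hconn e f hf h1
    exact ⟨g, hg⟩
  | zero => exact ⟨0, by simp⟩
  | add x y _ _ hx hy =>
    obtain ⟨w₁, h₁⟩ := hx
    obtain ⟨w₂, h₂⟩ := hy
    exact ⟨w₁ + w₂, by rw [map_add, map_add, h₁, h₂, map_add]⟩
  | smul c x _ hx =>
    obtain ⟨w, hw⟩ := hx
    exact ⟨c • w, by rw [Hmap_smul, map_smul, hw, Hmap_smul]⟩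

end Transfer

section LinAlg

variable (k : Type u) [Field k] (k' K : Type u) [Field k'] [Field K] [Algebra k k'] [Algebra k K]
  (A : Type u) [CommRing A] [HopfAlgebra k A]

theorem eq_one_tmul_of_Hmap_eq (y : k' ⊗[k] A) (w : K ⊗[k] A)
    (h : Hmap A (Algebra.TensorProduct.includeLeft : k' →ₐ[k] k' ⊗[k] K) y =
      Hmap A (Algebra.TensorProduct.includeRight : K →ₐ[k] k' ⊗[k] K) w) :
    ∃ a : A, y = (1 : k') ⊗ₜ[k] a := by
  obtain ⟨lam, hlam⟩ := LinearMap.exists_leftInverse_of_injective (Algebra.linearMap k K)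
    (LinearMap.ker_eq_bot.mpr (algebraMap k K).injective)
  have hl1 : lam 1 = 1 := by
    have := congrArg (fun g : k →ₗ[k] k => g 1) hlam
    simpa using this
  set Lam : (k' ⊗[k] K) ⊗[k] A →ₗ[k] k' ⊗[k] A :=
    LinearMap.rTensor A ((TensorProduct.rid k k').toLinearMap ∘ₗ LinearMap.lTensor k' lam) with hLam
  have hy : ∀ y' : k' ⊗[k] A,
      Lam (Hmap A (Algebra.TensorProduct.includeLeft : k' →ₐ[k] k' ⊗[k] K) y') = y' := by
    intro y'
    induction y' using TensorProduct.induction_on with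
    | zero => simp
    | tmul c a => simp [hLam, Hmap, hl1]
    | add x y hx hy => rw [map_add, map_add, hx, hy]
  have hw : ∀ w' : K ⊗[k] A,
      Lam (Hmap A (Algebra.TensorProduct.includeRight : K →ₐ[k] k' ⊗[k] K) w') =
      (1 : k') ⊗ₜ[k] (TensorProduct.lid k A (LinearMap.rTensor A lam w')) := by
    intro w'
    induction w' using TensorProduct.induction_on with
    | zero => simp
    | tmul x a =>
      simp only [hLam, Hmap, Algebra.TensorProduct.map_tmul,
        Algebra.TensorProduct.includeRight_apply, AlgHom.coe_id, id_eq, LinearMap.rTensor_tmul,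
        LinearMap.coe_comp, LinearEquiv.coe_coe, Function.comp_apply, LinearMap.lTensor_tmul,
        TensorProduct.rid_tmul, TensorProduct.lid_tmul]
      rw [TensorProduct.smul_tmul]
    | add x y hx hy => rw [map_add, map_add, hx, hy, map_add, map_add, TensorProduct.tmul_add]
  exact ⟨_, by rw [← hy y, h, hw]⟩

end LinAlg

section Main

variable (k k' A B : Type u) [Field k] [Field k'] [Algebra k k'] [IsPurelyInseparable k k']
  [CommRing A] [HopfAlgebra k A] [CommRing B] [HopfAlgebra k B]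
  (K : Type u) [Field K] [Algebra k K]

theorem exists_one_tmul (hA : HopfRep.IsDiagonalizable K (K ⊗[k] A))
    (hB : HopfRep.IsDiagonalizable K (K ⊗[k] B))
    (φ : k' ⊗[k] B →ₐc[k'] k' ⊗[k] A) (b : B) :
    ∃ a : A, φ ((1 : k') ⊗ₜ[k] b) = (1 : k') ⊗ₜ[k] a := by
  letI : Algebra K (k' ⊗[k] K) := Algebra.TensorProduct.rightAlgebra
  obtain ⟨M, _, ⟨e⟩⟩ := SepSplitC.isDiag_of_isDiagonalizable hA
  obtain ⟨w, hw⟩ := exists_Hmap_eq (Y := k' ⊗[k] K) (conn k k' K) e hB
    (Algebra.TensorProduct.includeRight : K →ₐ[k] k' ⊗[k] K) (fun _ => rfl)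
    (homBC (Y := k' ⊗[k] K) φ) ((1 : K) ⊗ₜ[k] b)
  have h2 := homBC_Hmap (Y := k' ⊗[k] K) φ
    (Algebra.TensorProduct.includeLeft : k' →ₐ[k] k' ⊗[k] K) (fun _ => rfl) ((1 : k') ⊗ₜ[k] b)
  rw [Hmap_one_tmul] at hw h2
  exact eq_one_tmul_of_Hmap_eq k k' K A _ w (h2.symm.trans hw)

theorem bcMap2_map (φ : k' ⊗[k] B →ₐc[k'] k' ⊗[k] A) (f₀ : B →ₐ[k] A)
    (hf₀ : ∀ b, (1 : k') ⊗ₜ[k] f₀ b = φ ((1 : k') ⊗ₜ[k] b)) (z : B ⊗[k] B) :
    bcMap2 (R := k) k' A (Algebra.TensorProduct.map f₀ f₀ z) =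
      TensorProduct.map (φ : k' ⊗[k] B →ₗ[k'] k' ⊗[k] A) (φ : k' ⊗[k] B →ₗ[k'] k' ⊗[k] A)
        (bcMap2 (R := k) k' B z) := by
  induction z using TensorProduct.induction_on with
  | zero => simp
  | tmul b₁ b₂ =>
    rw [Algebra.TensorProduct.map_tmul, bcMap2_tmul, bcMap2_tmul, TensorProduct.map_tmul, hf₀, hf₀]
    rfl
  | add x y hx hy => rw [map_add, map_add, map_add, map_add, hx, hy]

/-- Homomorphisms between geometrically diagonalisable Hopf algebras descend uniquely along a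
purely inseparable field extension. -/
theorem existsUnique_descent (hA : HopfRep.IsDiagonalizable K (K ⊗[k] A))
    (hB : HopfRep.IsDiagonalizable K (K ⊗[k] B))
    (φ : k' ⊗[k] B →ₐc[k'] k' ⊗[k] A) :
    ∃! f : B →ₐc[k] A, ∀ (c : k') (b : B), φ (c ⊗ₜ[k] b) = c ⊗ₜ[k] f b := by
  set ιA : A →ₐ[k] k' ⊗[k] A := Algebra.TensorProduct.includeRight with hιA
  have hinj : Function.Injective ιA :=
    Algebra.TensorProduct.includeRight_injective (algebraMap k k').injective
  set g : B →ₐ[k] k' ⊗[k] A :=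
    ((φ : k' ⊗[k] B →ₐ[k'] k' ⊗[k] A).restrictScalars k).comp
      Algebra.TensorProduct.includeRight with hg
  have hrange : ∀ b, g b ∈ ιA.range := by
    intro b
    obtain ⟨a, ha⟩ := exists_one_tmul k k' A B K hA hB φ b
    exact (AlgHom.mem_range _).mpr ⟨a, ha.symm⟩
  set f₀ : B →ₐ[k] A :=
    ((AlgEquiv.ofInjective ιA hinj).symm : ιA.range →ₐ[k] A).comp
      (g.codRestrict ιA.range hrange) with hf₀
  have hf₀' : ∀ b, (1 : k') ⊗ₜ[k] f₀ b = φ ((1 : k') ⊗ₜ[k] b) := by
    intro b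
    have h1 := (AlgEquiv.ofInjective ιA hinj).apply_symm_apply (g.codRestrict ιA.range hrange b)
    exact congrArg Subtype.val h1
  have hcounit : (Bialgebra.counitAlgHom k A).comp f₀ = Bialgebra.counitAlgHom k B := by
    ext b
    apply (algebraMap k k').injective
    have h1 := CoalgHomClass.counit_comp_apply φ ((1 : k') ⊗ₜ[k] b)
    rw [← hf₀' b, TensorProduct.counit_tmul, TensorProduct.counit_tmul] at h1
    simpa [Algebra.smul_def] using h1
  have hcomul : (Algebra.TensorProduct.map f₀ f₀).comp (Bialgebra.comulAlgHom k B) =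
      (Bialgebra.comulAlgHom k A).comp f₀ := by
    ext b
    apply SepSplitC.bcMap2_injective_of_flat k' (algebraMap k k').injective
    change bcMap2 (R := k) k' A (Algebra.TensorProduct.map f₀ f₀ (comul b)) =
      bcMap2 (R := k) k' A (comul (f₀ b))
    rw [← comul_one_tmul, hf₀' b, ← CoalgHomClass.map_comp_comul_apply φ, comul_one_tmul,
      bcMap2_map k k' A B φ f₀ hf₀']
  refine ⟨BialgHom.ofAlgHom f₀ hcounit hcomul, ?_, ?_⟩
  · intro c b
    have h1 : c ⊗ₜ[k] b = c • ((1 : k') ⊗ₜ[k] b) := by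
      rw [TensorProduct.smul_tmul', smul_eq_mul, mul_one]
    rw [h1, map_smul, ← hf₀' b, TensorProduct.smul_tmul', smul_eq_mul, mul_one]
    rfl
  · intro f' hf'
    ext b
    apply hinj
    change (1 : k') ⊗ₜ[k] f' b = (1 : k') ⊗ₜ[k] f₀ b
    rw [← hf' 1 b, hf₀' b]

end Main

end Groth.Agent.Lib.R2H7.PInsepHom
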