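import Mathlib
import Groth.Prelude.Def_SGA3b
import Groth.Agent.Lib.R2H7MTDesc
import Groth.Agent.Lib.R2H7PInsepHom
import Groth.Agent.Lib.R2H7QuotGL
import Groth.Agent.Lib.R2H7TwForm
import Groth.Agent.Lib.Helper25SubDiag

/-!
# R2H7KerMT: kernels of homomorphisms between groups of multiplicative type

`φ : C → A` a bialgebra map over `R`, `J` the ideal of the kernel of `Spec A → Spec C`.

* `phiBC`, `PhiY`, `PhiT`: base changes of `φ` and the induced maps of group algebras.
* `diagEquiv_apply_Hmap`, `PhiY_map`: compatibility with change of base.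
* `exists_local`: over `T` where `A` and `C` split with types `M`, `N` (`N` finitely generated),
  near any prime of `T` the map `φ` is induced by a homomorphism `f₀ : N → M`.
* `isDiag_quotient`: if `φ` is induced by `f₀ : N → M` over `Y` then `Y ⊗ (A ⧸ J) ≃ Y[M ⧸ f₀ N]`.
* `fam_quotient`, `isMultType_quotient`.
-/

set_option autoImplicit false
universe u

namespace Groth.Agent.Lib.R2H7.KerMT

open TensorProduct Coalgebra SGA3b
open Groth.Agent.Lib.Helper25 Groth.Agent.Lib.R2H7.GLLift Groth.Agent.Lib.R2H7.PInsepHom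
  Groth.Agent.Lib.R2H7.QuotGL Groth.Agent.Lib.R2H7.MTDesc

section BC

variable {R : Type u} [CommRing R] {A : Type u} [CommRing A] [HopfAlgebra R A]
  {C : Type u} [CommRing C] [HopfAlgebra R C] (φ : C →ₐc[R] A)

/-- Base change of `φ`. -/
noncomputable def phiBC (Y : Type u) [CommRing Y] [Algebra R Y] : Y ⊗[R] C →ₐc[Y] Y ⊗[R] A :=
  Bialgebra.TensorProduct.map (BialgHom.id Y Y) φ

theorem phiBC_tmul (Y : Type u) [CommRing Y] [Algebra R Y] (y : Y) (c : C) :
    phiBC φ Y (y ⊗ₜ[R] c) = y ⊗ₜ[R] φ c := rfl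

theorem phiBC_Hmap {X Y : Type u} [CommRing X] [CommRing Y] [Algebra R X] [Algebra R Y]
    (f : X →ₐ[R] Y) (z : X ⊗[R] C) :
    phiBC φ Y (Hmap C f z) = Hmap A f (phiBC φ X z) := by
  induction z using TensorProduct.induction_on with
  | zero => simp
  | tmul x c => rfl
  | add a b ha hb => rw [map_add, map_add, ha, hb, map_add, map_add]

theorem diagEquiv_apply_Hmap {X Y : Type u} [CommRing X] [CommRing Y] [Algebra R X] [Algebra R Y]
    [Algebra X Y] [IsScalarTower R X Y] {M : Type u} [CommGroup M]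
    (e : X ⊗[R] A ≃ₐc[X] MonoidAlgebra X M) (f : X →ₐ[R] Y)
    (hf : ∀ s, f s = algebraMap X Y s) (x : X ⊗[R] A) :
    diagEquiv (Y := Y) e (Hmap A f x) = MonoidAlgebra.mapAlgHom M (Algebra.ofId X Y) (e x) := by
  rw [← cancelBC_one_tmul f hf]
  change BCB.steBialg X Y M (BCB.bcEquiv Y e
    ((BCB.cancelBC R X Y A).symm (BCB.cancelBC R X Y A _))) = _
  rw [BialgEquiv.symm_apply_apply, BCB.bcEquiv_tmul]
  change MonoidAlgebra.scalarTensorEquiv X Y ((1 : Y) ⊗ₜ[X] e x) = _
  rw [MonoidAlgebra.scalarTensorEquiv_tmul, one_smul]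

end BC

section Local

variable {R : Type u} [CommRing R] {A : Type u} [CommRing A] [HopfAlgebra R A]
  {C : Type u} [CommRing C] [HopfAlgebra R C] (φ : C →ₐc[R] A)
  {T : Type u} [CommRing T] [Algebra R T] {M N : Type u} [CommGroup M] [CommGroup N]
  (ΘA : T ⊗[R] A ≃ₐc[T] MonoidAlgebra T M) (ΘC : T ⊗[R] C ≃ₐc[T] MonoidAlgebra T N)

/-- The homomorphism of group algebras induced by `φ` over a `T`-algebra `Y`. -/
noncomputable def PhiY (Y : Type u) [CommRing Y] [Algebra R Y] [Algebra T Y]
    [IsScalarTower R T Y] : MonoidAlgebra Y N →ₐc[Y] MonoidAlgebra Y M :=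
  (diagEquiv (Y := Y) ΘA).toBialgHom.comp
    ((phiBC φ Y).comp (diagEquiv (Y := Y) ΘC).symm.toBialgHom)

theorem PhiY_apply (Y : Type u) [CommRing Y] [Algebra R Y] [Algebra T Y] [IsScalarTower R T Y]
    (v : MonoidAlgebra Y N) :
    PhiY φ ΘA ΘC Y v =
      diagEquiv (Y := Y) ΘA (phiBC φ Y ((diagEquiv (Y := Y) ΘC).symm v)) := rfl

/-- The homomorphism of group algebras induced by `φ` over `T`. -/
noncomputable def PhiT : MonoidAlgebra T N →ₐc[T] MonoidAlgebra T M :=
  ΘA.toBialgHom.comp ((phiBC φ T).comp ΘC.symm.toBialgHom)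

theorem PhiT_apply (v : MonoidAlgebra T N) :
    PhiT φ ΘA ΘC v = ΘA (phiBC φ T (ΘC.symm v)) := rfl

theorem PhiY_map (Y : Type u) [CommRing Y] [Algebra R Y] [Algebra T Y] [IsScalarTower R T Y]
    (v : MonoidAlgebra T N) :
    PhiY φ ΘA ΘC Y (MonoidAlgebra.mapAlgHom N (Algebra.ofId T Y) v) =
      MonoidAlgebra.mapAlgHom M (Algebra.ofId T Y) (PhiT φ ΘA ΘC v) := by
  let f : T →ₐ[R] Y := IsScalarTower.toAlgHom R T Y
  have hf : ∀ s, f s = algebraMap T Y s := fun _ => rfl
  have h0 : MonoidAlgebra.mapAlgHom N (Algebra.ofId T Y) v =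
      diagEquiv (Y := Y) ΘC (Hmap C f (ΘC.symm v)) := by
    rw [diagEquiv_apply_Hmap ΘC f hf, BialgEquiv.apply_symm_apply]
  rw [PhiY_apply, h0, BialgEquiv.symm_apply_apply, phiBC_Hmap, diagEquiv_apply_Hmap ΘA f hf,
    PhiT_apply]

theorem exists_local (hN : Group.FG N) (𝔮 : Ideal T) [𝔮.IsPrime] :
    ∃ (h : T) (_ : h ∉ 𝔮) (f₀ : N →* M), ∀ v : MonoidAlgebra (Localization.Away h) N,
      PhiY φ ΘA ΘC (Localization.Away h) v =
        MonoidAlgebra.mapDomainBialgHom (Localization.Away h) f₀ v := by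
  classical
  let κ := 𝔮.ResidueField
  let f₀ : N →* M := MonoidAlgebra.mapDomainOfBialgHom (PhiY φ ΘA ΘC κ)
  let g : N → MonoidAlgebra T M := fun n => PhiT φ ΘA ΘC (MonoidAlgebra.single n 1)
  have hg : ∀ n, IsGroupLikeElem T (g n) := fun n =>
    (MonoidAlgebra.isGroupLikeElem_single_one (R := T) (A := T) n).map (PhiT φ ΘA ΘC)
  have hκ : ∀ n m, algebraMap T κ ((g n).coeff m) = if f₀ n = m then 1 else 0 := by
    intro n m
    have h1 := PhiY_map φ ΘA ΘC κ (MonoidAlgebra.single n 1)
    rw [MonoidAlgebra.mapAlgHom_single, map_one] at h1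
    have h2 : PhiY φ ΘA ΘC κ (MonoidAlgebra.single n 1) = MonoidAlgebra.single (f₀ n) 1 :=
      (MonoidAlgebra.single_mapDomainOfBialgHom _ n 1).symm
    rw [h2] at h1
    have h3 := congrArg (fun w => w.coeff m) h1
    simp only [MonoidAlgebra.coeff_mapAlgHom, MonoidAlgebra.coeff_single_apply] at h3
    exact h3.symm
  obtain ⟨Sgen, hSgen⟩ := Monoid.fg_def.mp (Group.fg_iff_monoid_fg.mp hN)
  let c : N → T := fun n => (g n).coeff (f₀ n)
  have hc1 : ∀ n, algebraMap T κ (c n) = 1 := fun n => by rw [hκ n (f₀ n), if_pos rfl]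
  have hcq : ∀ n, c n ∉ 𝔮 := fun n hmem => by
    have h0 : algebraMap T κ (c n) = 0 := Ideal.algebraMap_residueField_eq_zero.mpr hmem
    rw [hc1 n] at h0
    exact one_ne_zero h0
  let h : T := ∏ n ∈ Sgen, c n
  have hh : h ∉ 𝔮 := by
    intro hmem
    obtain ⟨n, -, hn⟩ := (Ideal.IsPrime.prod_mem_iff).mp hmem
    exact hcq n hn
  refine ⟨h, hh, f₀, ?_⟩
  have hgen : ∀ n ∈ Sgen, MonoidAlgebra.mapAlgHom M (Algebra.ofId T (Localization.Away h)) (g n) =
      MonoidAlgebra.single (f₀ n) 1 := by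
    intro n hn
    have hunit : IsUnit (algebraMap T (Localization.Away h) (c n)) := by
      have hdvd : c n ∣ h := Finset.dvd_prod_of_mem c hn
      exact isUnit_of_dvd_unit (map_dvd (algebraMap T (Localization.Away h)) hdvd)
        (IsLocalization.Away.algebraMap_isUnit h)
    have hidem : algebraMap T (Localization.Away h) (c n) * algebraMap T (Localization.Away h) (c n) =
        algebraMap T (Localization.Away h) (c n) := by
      rw [← map_mul, (SubDiag.isIdempotentElem_coeff (hg n) (f₀ n)).eq]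
    have hone : algebraMap T (Localization.Away h) (c n) = 1 :=
      hunit.mul_left_cancel (hidem.trans (mul_one _).symm)
    apply MonoidAlgebra.ext
    apply Finsupp.ext
    intro m
    rw [MonoidAlgebra.coeff_mapAlgHom, MonoidAlgebra.coeff_single_apply, Algebra.ofId_apply]
    by_cases hm : f₀ n = m
    · rw [if_pos hm, ← hm]
      exact hone
    · rw [if_neg hm]
      have h0 : (g n).coeff m * c n = 0 := by
        rw [SubDiag.coeff_mul_coeff (hg n) m (f₀ n), if_neg (Ne.symm hm)]
      have h1 := congrArg (algebraMap T (Localization.Away h)) h0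
      rw [map_mul, hone, mul_one, map_zero] at h1
      exact h1
  have hgenY : ∀ n ∈ Sgen, PhiY φ ΘA ΘC (Localization.Away h) (MonoidAlgebra.single n 1) =
      MonoidAlgebra.single (f₀ n) 1 := by
    intro n hn
    have h1 := PhiY_map φ ΘA ΘC (Localization.Away h) (MonoidAlgebra.single n 1)
    rw [MonoidAlgebra.mapAlgHom_single, map_one] at h1
    rw [h1]
    exact hgen n hn
  have hall : ∀ n, PhiY φ ΘA ΘC (Localization.Away h) (MonoidAlgebra.single n 1) =
      MonoidAlgebra.single (f₀ n) 1 := by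
    intro n
    have hmem : n ∈ Submonoid.closure (Sgen : Set N) := by rw [hSgen]; trivial
    refine Submonoid.closure_induction
      (motive := fun n _ => PhiY φ ΘA ΘC (Localization.Away h) (MonoidAlgebra.single n 1) =
        MonoidAlgebra.single (f₀ n) 1) ?_ ?_ ?_ hmem
    · intro x hx
      exact hgenY x hx
    · rw [map_one f₀, ← MonoidAlgebra.one_def, ← MonoidAlgebra.one_def, map_one]
    · intro x y _ _ hx hy
      rw [← mul_one (1 : Localization.Away h), ← MonoidAlgebra.single_mul_single, map_mul, hx, hy,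
        map_mul, MonoidAlgebra.single_mul_single]
  intro v
  induction v using MonoidAlgebra.induction_linear with
  | zero => rw [map_zero, map_zero]
  | add a b ha hb => rw [map_add, map_add, ha, hb]
  | single n r =>
    rw [TwForm.single_eq_smul n r, map_smul, map_smul, hall n,
      MonoidAlgebra.mapDomainBialgHom_single]

end Local

section Final

variable {R : Type u} [CommRing R] {A : Type u} [CommRing A] [HopfAlgebra R A]
  {C : Type u} [CommRing C] [HopfAlgebra R C] (φ : C →ₐc[R] A)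
  (J : Ideal A) [J.IsHopfIdeal R]
  (hJ : J = Ideal.map φ (RingHom.ker (Bialgebra.counitAlgHom R C)))

include hJ in
theorem sub_counit_mem (c : C) : φ c - algebraMap R A (counit (R := R) c) ∈ J := by
  have h1 : c - algebraMap R C (counit (R := R) c) ∈ RingHom.ker (Bialgebra.counitAlgHom R C) := by
    rw [RingHom.mem_ker, map_sub, AlgHom.commutes, Bialgebra.counitAlgHom_apply,
      Algebra.algebraMap_self_apply, sub_self]
  have h2 := Ideal.mem_map_of_mem φ h1
  rw [map_sub, AlgHomClass.commutes, ← hJ] at h2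
  exact h2

variable {Y : Type u} [CommRing Y] [Algebra R Y]

include hJ in
theorem bcMk_phiBC (z : Y ⊗[R] C) :
    bcMk R J Y (phiBC φ Y z) = algebraMap Y (Y ⊗[R] (A ⧸ J)) (counit (R := Y) z) := by
  induction z using TensorProduct.induction_on with
  | zero => simp
  | tmul y c =>
    rw [phiBC_tmul, bcMk_tmul, TensorProduct.counit_tmul, CommSemiring.counit_apply,
      Algebra.TensorProduct.algebraMap_apply, Algebra.algebraMap_self_apply]
    have h1 : Ideal.Quotient.mk J (φ c) = algebraMap R (A ⧸ J) (counit (R := R) c) := by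
      have h2 := Ideal.Quotient.eq_zero_iff_mem.mpr (sub_counit_mem φ J hJ c)
      rw [map_sub, sub_eq_zero] at h2
      rw [h2]
      rfl
    rw [h1, Algebra.algebraMap_eq_smul_one, TensorProduct.tmul_smul, TensorProduct.smul_tmul']
  | add a b ha hb => rw [map_add, map_add, ha, hb, map_add, map_add]

variable {M N : Type u} [CommGroup M] [CommGroup N]
  (ΘA : Y ⊗[R] A ≃ₐc[Y] MonoidAlgebra Y M) (ΘC : Y ⊗[R] C ≃ₐc[Y] MonoidAlgebra Y N)
  (f₀ : N →* M)
  (hK : ∀ z : Y ⊗[R] C, ΘA (phiBC φ Y z) = MonoidAlgebra.mapDomainBialgHom Y f₀ (ΘC z))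

theorem mapDomain_one (Q : Type u) [CommGroup Q] (w : MonoidAlgebra Y N) :
    MonoidAlgebra.mapDomainBialgHom Y (1 : N →* Q) w =
      algebraMap Y (MonoidAlgebra Y Q) (counit (R := Y) w) := by
  induction w using MonoidAlgebra.induction_linear with
  | zero => rw [map_zero, map_zero, map_zero]
  | add a b ha hb => rw [map_add, ha, hb, map_add, map_add]
  | single n r =>
    rw [MonoidAlgebra.mapDomainBialgHom_single, MonoidAlgebra.counit_single,
      CommSemiring.counit_apply, MonoidAlgebra.coe_algebraMap]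
    rfl

include hJ hK in
/-- If `φ` is induced by `f₀ : N → M` over `Y` then `Y ⊗ (A ⧸ J) ≃ Y[M ⧸ f₀ N]`. -/
theorem isDiag_quotient : IsDiag Y (Y ⊗[R] (A ⧸ J)) := by
  classical
  let π : M →* M ⧸ f₀.range := QuotientGroup.mk' f₀.range
  let p : Y ⊗[R] A →ₐc[Y] MonoidAlgebra Y (M ⧸ f₀.range) :=
    (MonoidAlgebra.mapDomainBialgHom Y π).comp ΘA.toBialgHom
  have hpa : ∀ b, p b = MonoidAlgebra.mapDomainBialgHom Y π (ΘA b) := fun _ => rfl
  have hπf : π.comp f₀ = 1 := by
    ext n
    exact (QuotientGroup.eq_one_iff _).mpr ⟨n, rfl⟩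
  have hpφ : ∀ z : Y ⊗[R] C, p (phiBC φ Y z) =
      algebraMap Y (MonoidAlgebra Y (M ⧸ f₀.range)) (counit (R := Y) z) := by
    intro z
    rw [hpa, hK, MonoidAlgebra.mapDomainBialgHom_mapDomainBialgHom, hπf, mapDomain_one,
      CoalgHomClass.counit_comp_apply]
  have hp : ∀ a ∈ J, p ((1 : Y) ⊗ₜ[R] a) = 0 := by
    intro a ha
    have hle : J ≤ RingHom.ker ((p0 R Y p : A →ₐ[R] MonoidAlgebra Y (M ⧸ f₀.range)) :
        A →+* MonoidAlgebra Y (M ⧸ f₀.range)) := by
      rw [hJ, Ideal.map_le_iff_le_comap]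
      intro c hc
      rw [Ideal.mem_comap, RingHom.mem_ker]
      change p ((1 : Y) ⊗ₜ[R] φ c) = 0
      have hc' : (Bialgebra.counitAlgHom R C) c = 0 := RingHom.mem_ker.mp hc
      have hc0 : counit (R := R) c = 0 := hc'
      have h1 := hpφ ((1 : Y) ⊗ₜ[R] c)
      rw [phiBC_tmul] at h1
      rw [h1, TensorProduct.counit_tmul, hc0, zero_smul, map_zero]
    exact RingHom.mem_ker.mp (hle ha)
  let σ₀ : M ⧸ f₀.range → M := Function.surjInv (QuotientGroup.mk'_surjective f₀.range)
  have hσ : ∀ q, π (σ₀ q) = q := Function.surjInv_eq (QuotientGroup.mk'_surjective f₀.range)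
  let s : MonoidAlgebra Y (M ⧸ f₀.range) → Y ⊗[R] A :=
    fun w => ΘA.symm (MonoidAlgebra.mapDomain σ₀ w)
  have hsa : ∀ w, s w = ΘA.symm (MonoidAlgebra.mapDomain σ₀ w) := fun _ => rfl
  have hone : ∀ n : N, bcMk R J Y (ΘA.symm (MonoidAlgebra.single (f₀ n) 1)) = 1 := by
    intro n
    have h1 := hK (ΘC.symm (MonoidAlgebra.single n 1))
    rw [BialgEquiv.apply_symm_apply, MonoidAlgebra.mapDomainBialgHom_single] at h1
    rw [← h1, BialgEquiv.symm_apply_apply, bcMk_phiBC φ J hJ,
      CoalgHomClass.counit_comp_apply, MonoidAlgebra.counit_single, CommSemiring.counit_apply,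
      map_one]
  have hbij : Function.Bijective (pbar R J Y p hp) := by
    apply pbar_bijective R J Y p hp s
    · rw [hsa, MonoidAlgebra.mapDomain_zero, map_zero, map_zero]
    · intro w
      rw [hpa, hsa, BialgEquiv.apply_symm_apply]
      induction w using MonoidAlgebra.induction_linear with
      | zero => rw [MonoidAlgebra.mapDomain_zero, map_zero]
      | add a b ha hb => rw [MonoidAlgebra.mapDomain_add, map_add, ha, hb]
      | single q r =>
        rw [MonoidAlgebra.mapDomain_single, MonoidAlgebra.mapDomainBialgHom_single, hσ]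
    · intro b
      have h2 : ∀ v : MonoidAlgebra Y M, bcMk R J Y (ΘA.symm v) =
          bcMk R J Y (ΘA.symm (MonoidAlgebra.mapDomain σ₀
            (MonoidAlgebra.mapDomainBialgHom Y π v))) := by
        intro v
        induction v using MonoidAlgebra.induction_linear with
        | zero => simp only [map_zero, MonoidAlgebra.mapDomain_zero]
        | add a b ha hb =>
          rw [map_add, map_add, map_add, MonoidAlgebra.mapDomain_add, map_add, map_add, ha, hb]
        | single m r =>
          rw [MonoidAlgebra.mapDomainBialgHom_single, MonoidAlgebra.mapDomain_single]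
          have h3 : (σ₀ (π m))⁻¹ * m ∈ f₀.range := by
            have h4 : π (σ₀ (π m)) = π m := hσ (π m)
            exact QuotientGroup.eq.mp h4
          obtain ⟨n, hn⟩ := h3
          have h5 : m = σ₀ (π m) * f₀ n := by rw [hn, mul_inv_cancel_left]
          have h6 : (MonoidAlgebra.single m r : MonoidAlgebra Y M) =
              MonoidAlgebra.single (σ₀ (π m)) r * MonoidAlgebra.single (f₀ n) 1 := by
            rw [MonoidAlgebra.single_mul_single, mul_one, ← h5]
          rw [h6, map_mul, map_mul, hone n, mul_one]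
      have h7 := h2 (ΘA b)
      rw [BialgEquiv.symm_apply_apply] at h7
      rw [h7, hsa, hpa]
  exact ⟨M ⧸ f₀.range, inferInstance, ⟨BialgEquiv.ofBijective (pbar R J Y p hp) hbij⟩⟩

end Final

section Assembly

variable {R : Type u} [CommRing R] {A : Type u} [CommRing A] [HopfAlgebra R A]
  {C : Type u} [CommRing C] [HopfAlgebra R C] (φ : C →ₐc[R] A)
  (J : Ideal A) [J.IsHopfIdeal R]
  (hJ : J = Ideal.map φ (RingHom.ker (Bialgebra.counitAlgHom R C)))

include hJ in
/-- Over an `R`-algebra `T` where `A` and `C` are diagonalisable (`C` of finite type), the kernel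
is diagonalised Zariski-locally. -/
theorem fam_quotient (hCft : Algebra.FiniteType R C) (T : Type u) [CommRing T] [Algebra R T]
    (hDA : IsDiag T (T ⊗[R] A)) (hDC : IsDiag T (T ⊗[R] C)) : Fam R (A ⧸ J) T := by
  obtain ⟨M, _, ⟨ΘA⟩⟩ := hDA
  obtain ⟨N, _, ⟨ΘC⟩⟩ := hDC
  apply Fam.of_forall_prime
  intro 𝔮 h𝔮
  haveI := h𝔮
  haveI : Nontrivial T := ⟨⟨0, 1, fun h01 => h𝔮.ne_top ((Ideal.eq_top_iff_one _).mpr
    (h01 ▸ zero_mem _))⟩⟩
  have hN : Group.FG N := by
    haveI := hCft
    haveI h1 : Algebra.FiniteType T (T ⊗[R] C) := inferInstance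
    haveI h2 : Algebra.FiniteType T (MonoidAlgebra T N) :=
      Algebra.FiniteType.equiv h1 ΘC.toAlgEquiv
    exact MonoidAlgebra.finiteType_iff_group_fg.mp h2
  obtain ⟨h, hh, f₀, hf₀⟩ := exists_local φ ΘA ΘC hN 𝔮
  refine ⟨h, hh, ?_⟩
  refine isDiag_quotient φ J hJ (diagEquiv (Y := Localization.Away h) ΘA)
    (diagEquiv (Y := Localization.Away h) ΘC) f₀ (fun z => ?_)
  have h1 := hf₀ (diagEquiv (Y := Localization.Away h) ΘC z)
  rw [PhiY_apply, BialgEquiv.symm_apply_apply] at h1
  exact h1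

include hJ in
/-- The kernel of a homomorphism from a group of multiplicative type to a group of multiplicative
type and of finite type is of multiplicative type. -/
theorem isMultType_quotient (hA : IsMultType R A) (hC : IsMultType R C)
    (hCft : Algebra.FiniteType R C) : IsMultType R (A ⧸ J) := by
  apply isMultType_of_fam
  apply Fam.of_isMultType_cover_base hA
  intro T₁ _ _ hD₁
  apply Fam.of_isMultType_cover (A := C) (Groth.Agent.Lib.R2H7.IsoNil.isMultType_baseChange T₁ hC)
  intro T₂ _ _ _ _ hD₂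
  exact fam_quotient φ J hJ hCft T₂ (BCB.isDiag_baseChange_of_tower R A T₁ T₂ hD₁) hD₂

end Assembly

end Groth.Agent.Lib.R2H7.KerMT
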