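import Mathlib
import Groth.Prelude.Def_SGA3b
import Groth.Agent.Lib.R2H7KerMT
import Groth.Agent.Lib.R2H7SepSplitC
import Groth.Agent.Lib.Helper25SubDiag

/-!
# R2H7KerFT1: tools for kernels of homomorphisms out of a diagonalisable group

* `subgroup_fg`, `finitePresentation_monoidAlgebra`.
* `mem_smul_top_of_map_eq_zero`, `mapAlgHom_mapDomainBialgHom`, `mapAlgHom_surjective`.
* `cores`: corestriction of a bialgebra map along an injective bialgebra map with a linear
  retraction.
* `retr`, `incl`: the group algebra of a subgroup as a retract of the group algebra.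
* `field_ker`: Hopf ideals of a group algebra over a field.
-/

set_option autoImplicit false
universe u

namespace Groth.Agent.Lib.R2H7.KerFT

open TensorProduct Coalgebra SGA3b
open Groth.Agent.Lib.Helper25 Groth.Agent.Lib.R2H7.GLLift

section FG

theorem subgroup_fg {M : Type*} [CommGroup M] (hM : Group.FG M) (N : Subgroup M) : N.FG := by
  rw [Subgroup.fg_iff_add_fg]
  haveI : AddGroup.FG (Additive M) := GroupFG.iff_add_fg.mp hM
  haveI : Module.Finite ℤ (Additive M) := Module.Finite.iff_addGroup_fg.mpr inferInstance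
  haveI : IsNoetherian ℤ (Additive M) := isNoetherian_of_isNoetherianRing_of_finite ℤ _
  have h := IsNoetherian.noetherian (AddSubgroup.toIntSubmodule N.toAddSubgroup)
  rw [Submodule.fg_iff_addSubgroup_fg] at h
  exact h

theorem finitePresentation_monoidAlgebra (Λ : Type u) [CommRing Λ] (N : Type u) [CommGroup N]
    (hN : Group.FG N) : Algebra.FinitePresentation Λ (MonoidAlgebra Λ N) := by
  haveI := hN
  haveI h1 : Algebra.FiniteType ℤ (MonoidAlgebra ℤ N) :=
    MonoidAlgebra.finiteType_iff_group_fg.mpr hN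
  haveI h2 : Algebra.FinitePresentation ℤ (MonoidAlgebra ℤ N) :=
    Algebra.FinitePresentation.of_finiteType.mp h1
  haveI h3 : Algebra.FinitePresentation Λ (Λ ⊗[ℤ] MonoidAlgebra ℤ N) := inferInstance
  exact Algebra.FinitePresentation.equiv (MonoidAlgebra.scalarTensorEquiv ℤ Λ)

end FG

section Coeff

variable {Λ : Type u} [CommRing Λ] {κ : Type u} [CommRing κ] [Algebra Λ κ]

theorem mem_smul_top_of_map_eq_zero {Q : Type u} [CommGroup Q] (I : Ideal Λ)
    (hI : ∀ a : Λ, algebraMap Λ κ a = 0 → a ∈ I) (x : MonoidAlgebra Λ Q)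
    (hx : MonoidAlgebra.mapAlgHom Q (Algebra.ofId Λ κ) x = 0) :
    x ∈ I • (⊤ : Submodule Λ (MonoidAlgebra Λ Q)) := by
  rw [GLLift.eq_sum_single x]
  refine Submodule.sum_mem _ (fun q _ => GLLift.single_mem_smul_top I q (hI _ ?_))
  have h1 := congrArg (fun w => w.coeff q) hx
  simpa [MonoidAlgebra.coeff_mapAlgHom] using h1

theorem mapAlgHom_mapDomainBialgHom {M Q : Type u} [CommGroup M] [CommGroup Q] (π : M →* Q)
    (y : MonoidAlgebra Λ M) :
    MonoidAlgebra.mapAlgHom Q (Algebra.ofId Λ κ) (MonoidAlgebra.mapDomainBialgHom Λ π y) =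
      MonoidAlgebra.mapDomainBialgHom κ π (MonoidAlgebra.mapAlgHom M (Algebra.ofId Λ κ) y) := by
  induction y using MonoidAlgebra.induction_linear with
  | zero => simp
  | add a b ha hb => rw [map_add, map_add, ha, hb, map_add, map_add]
  | single m r =>
    rw [MonoidAlgebra.mapDomainBialgHom_single, MonoidAlgebra.mapAlgHom_single,
      MonoidAlgebra.mapAlgHom_single, MonoidAlgebra.mapDomainBialgHom_single]

theorem mapAlgHom_surjective {M : Type u} [CommGroup M]
    (hs : Function.Surjective (algebraMap Λ κ)) :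
    Function.Surjective (MonoidAlgebra.mapAlgHom M (Algebra.ofId Λ κ)) := by
  intro y
  induction y using MonoidAlgebra.induction_linear with
  | zero => exact ⟨0, map_zero _⟩
  | add a b ha hb =>
    obtain ⟨a', rfl⟩ := ha
    obtain ⟨b', rfl⟩ := hb
    exact ⟨a' + b', map_add _ _ _⟩
  | single m r =>
    obtain ⟨r', rfl⟩ := hs r
    exact ⟨MonoidAlgebra.single m r', MonoidAlgebra.mapAlgHom_single _ _ _⟩

end Coeff

section Cores

variable {S : Type u} [CommRing S] {E B B' : Type u} [CommRing E] [CommRing B] [CommRing B']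
  [Bialgebra S E] [Bialgebra S B] [Bialgebra S B']
  (ι : B' →ₐc[S] B) (r : B →ₗ[S] B') (hr : ∀ y, r (ι y) = y) (Ψ : E →ₐc[S] B)
  (hΨ : ∀ z, ι (r (Ψ z)) = Ψ z)

include hr hΨ in
/-- Corestriction as an algebra map. -/
noncomputable def coresAlg : E →ₐ[S] B' :=
  AlgHom.ofLinearMap (r ∘ₗ ((Ψ : E →ₐ[S] B) : E →ₗ[S] B))
    (by
      change r (Ψ 1) = 1
      rw [map_one, ← map_one ι, hr])
    (by
      intro x y
      change r (Ψ (x * y)) = r (Ψ x) * r (Ψ y)
      rw [map_mul, ← hΨ x, ← hΨ y, ← map_mul, hr, hΨ, hΨ])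

theorem coresAlg_apply (z : E) : coresAlg ι r hr Ψ hΨ z = r (Ψ z) := rfl

/-- Corestriction of a bialgebra map along an injective bialgebra map with a linear retraction. -/
noncomputable def cores : E →ₐc[S] B' :=
  BialgHom.ofAlgHom (coresAlg ι r hr Ψ hΨ)
    (by
      apply AlgHom.ext
      intro z
      change counit (R := S) (r (Ψ z)) = counit (R := S) z
      rw [← CoalgHomClass.counit_comp_apply ι, hΨ, CoalgHomClass.counit_comp_apply])
    (by
      apply AlgHom.ext
      intro z
      change Algebra.TensorProduct.map (coresAlg ι r hr Ψ hΨ) (coresAlg ι r hr Ψ hΨ)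
        (comul (R := S) z) = comul (R := S) (r (Ψ z))
      have hinj : Function.Injective (TensorProduct.map (ι : B' →ₗ[S] B) (ι : B' →ₗ[S] B)) := by
        apply Function.LeftInverse.injective (g := TensorProduct.map r r)
        intro t
        induction t using TensorProduct.induction_on with
        | zero => simp
        | tmul a b =>
          rw [TensorProduct.map_tmul, TensorProduct.map_tmul]
          change r (ι a) ⊗ₜ[S] r (ι b) = _
          rw [hr, hr]
        | add x y hx hy => rw [map_add, map_add, hx, hy]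
      apply hinj
      rw [CoalgHomClass.map_comp_comul_apply ι (r (Ψ z)), hΨ,
        ← CoalgHomClass.map_comp_comul_apply Ψ z]
      generalize comul (R := S) z = t
      induction t using TensorProduct.induction_on with
      | zero => simp
      | tmul a b =>
        rw [Algebra.TensorProduct.map_tmul, TensorProduct.map_tmul, TensorProduct.map_tmul]
        change ι (r (Ψ a)) ⊗ₜ[S] ι (r (Ψ b)) = Ψ a ⊗ₜ[S] Ψ b
        rw [hΨ, hΨ]
      | add x y hx hy => rw [map_add, map_add, hx, hy, map_add])

theorem cores_apply (z : E) : cores ι r hr Ψ hΨ z = r (Ψ z) := rfl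

theorem incl_cores (z : E) : ι (cores ι r hr Ψ hΨ z) = Ψ z := hΨ z

end Cores

section Retr

variable {Λ : Type u} [CommRing Λ] {M : Type u} [CommGroup M] (N : Subgroup M)

/-- The projection of the group algebra onto the group algebra of a subgroup. -/
noncomputable def retr : MonoidAlgebra Λ M →ₗ[Λ] MonoidAlgebra Λ N where
  toFun := MonoidAlgebra.comapDomain (Subtype.val : N → M) Subtype.val_injective
  map_add' := MonoidAlgebra.comapDomain_add _ _
  map_smul' := fun c x => by
    apply MonoidAlgebra.ext
    apply Finsupp.ext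
    intro n
    simp [MonoidAlgebra.coeff_comapDomain, Finsupp.comapDomain_apply, MonoidAlgebra.coeff_smul]

theorem retr_single_mem (n : N) (s : Λ) :
    retr (Λ := Λ) N (MonoidAlgebra.single (n : M) s) = MonoidAlgebra.single n s :=
  MonoidAlgebra.comapDomain_single_map (Subtype.val : N → M) Subtype.val_injective n s

theorem retr_single_not_mem {m : M} (hm : m ∉ N) (s : Λ) :
    retr (Λ := Λ) N (MonoidAlgebra.single m s) = 0 :=
  MonoidAlgebra.comapDomain_single_of_not_mem_range (f := (Subtype.val : N → M))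
    (by simpa using hm) Subtype.val_injective

/-- The inclusion of the group algebra of a subgroup. -/
noncomputable def incl : MonoidAlgebra Λ N →ₐc[Λ] MonoidAlgebra Λ M :=
  MonoidAlgebra.mapDomainBialgHom Λ N.subtype

theorem incl_single (n : N) (s : Λ) :
    incl (Λ := Λ) N (MonoidAlgebra.single n s) = MonoidAlgebra.single (n : M) s :=
  MonoidAlgebra.mapDomainBialgHom_single _ _ _

theorem retr_incl (y : MonoidAlgebra Λ N) : retr N (incl N y) = y := by
  induction y using MonoidAlgebra.induction_linear with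
  | zero => simp
  | add a b ha hb => rw [map_add, map_add, ha, hb]
  | single n s => rw [incl_single, retr_single_mem]

theorem incl_retr (x : MonoidAlgebra Λ M) (hx : ∀ m, m ∉ N → x.coeff m = 0) :
    incl N (retr N x) = x := by
  have key : ∀ s : Finset M,
      incl N (retr N (∑ m ∈ s, MonoidAlgebra.single m (x.coeff m))) =
        ∑ m ∈ s, MonoidAlgebra.single m (x.coeff m) := by
    intro s
    rw [map_sum, map_sum]
    refine Finset.sum_congr rfl (fun m _ => ?_)
    by_cases hm : m ∈ N
    · have h1 := retr_single_mem (Λ := Λ) N ⟨m, hm⟩ (x.coeff m)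
      change retr N (MonoidAlgebra.single m (x.coeff m)) = _ at h1
      rw [h1, incl_single]
    · rw [hx m hm, MonoidAlgebra.single_zero, map_zero, map_zero]
  have h := key x.coeff.support
  rw [← GLLift.eq_sum_single x] at h
  exact h

theorem retr_mul_incl (a : MonoidAlgebra Λ M) (b : MonoidAlgebra Λ N) :
    retr N (a * incl N b) = retr N a * b := by
  induction b using MonoidAlgebra.induction_linear with
  | zero => simp
  | add b₁ b₂ h₁ h₂ => rw [map_add, mul_add, map_add, h₁, h₂, mul_add]
  | single n t =>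
    induction a using MonoidAlgebra.induction_linear with
    | zero => simp
    | add a₁ a₂ h₁ h₂ => rw [add_mul, map_add, h₁, h₂, map_add, add_mul]
    | single m s =>
      rw [incl_single, MonoidAlgebra.single_mul_single]
      by_cases hm : m ∈ N
      · have h1 := retr_single_mem (Λ := Λ) N (⟨m, hm⟩ * n) (s * t)
        change retr N (MonoidAlgebra.single (m * (n : M)) (s * t)) = _ at h1
        have h2 := retr_single_mem (Λ := Λ) N ⟨m, hm⟩ s
        change retr N (MonoidAlgebra.single m s) = _ at h2
        rw [h1, h2, MonoidAlgebra.single_mul_single]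
      · have hmn : m * (n : M) ∉ N := fun h => hm ((Subgroup.mul_mem_cancel_right N n.2).mp h)
        rw [retr_single_not_mem N hmn, retr_single_not_mem N hm, zero_mul]

theorem retr_mem_smul_top (I : Ideal Λ) {x : MonoidAlgebra Λ M}
    (hx : x ∈ I • (⊤ : Submodule Λ (MonoidAlgebra Λ M))) :
    retr N x ∈ I • (⊤ : Submodule Λ (MonoidAlgebra Λ N)) :=
  map_mem_smul_top (retr (Λ := Λ) N) I hx

end Retr

section Field

open Groth.Agent.Lib.Helper25.SubDiag

/-- Hopf ideals of a group algebra over a field are the ideals of the subgroups `D(M/N)`. -/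
theorem field_ker {k : Type u} [Field k] {M : Type u} [CommGroup M]
    (K : Ideal (MonoidAlgebra k M)) [K.IsHopfIdeal k] :
    ∃ N : Subgroup M, (∀ m, m ∈ N ↔ MonoidAlgebra.single m (1 : k) - 1 ∈ K) ∧
      ∀ x : MonoidAlgebra k M,
        x ∈ K ↔ MonoidAlgebra.mapDomainBialgHom k (QuotientGroup.mk' N) x = 0 := by
  have hconn : ∀ e : k, IsIdempotentElem e → e = 0 ∨ e = 1 := fun e he =>
    IsIdempotentElem.iff_eq_zero_or_one.mp he
  let ψ : MonoidAlgebra k M →ₐc[k] MonoidAlgebra k M ⧸ K := Bialgebra.Quotient.mkBialgHom K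
  have hψ : ∀ x, ψ x = Ideal.Quotient.mk K x := fun _ => rfl
  have hψs : Function.Surjective ψ := Ideal.Quotient.mk_surjective
  have hD : IsDiag k (MonoidAlgebra k M ⧸ K) :=
    Groth.Agent.Lib.R2H7.SepSplitC.isDiag_of_isDiagonalizable
      (Groth.Agent.Lib.R2H7.SepSplitC.isDiagonalizable_of_surjective ψ hψs
        (Groth.Agent.Lib.R2H7.SepSplitC.isDiagonalizable_monoidAlgebra M))
  have hB : IsMultType k (MonoidAlgebra k M ⧸ K) :=
    BCB.isMultType_of_isMultTypeConst k _ ⟨k, inferInstance, inferInstance, inferInstance,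
      BCB.isDiag_baseChange k hD⟩
  have hinj : Function.Injective (psiBar ψ) :=
    injective_of_hasDiagCover (psiBar ψ) hconn (hasDiagCover_of_isMultType hB)
      (psiBar_of_eq_one ψ)
  refine ⟨(toGL ψ).ker, fun m => ?_, fun x => ?_⟩
  · rw [MonoidHom.mem_ker, ← GroupLike.val_inj, toGL_val, GroupLike.val_one, hψ,
      ← Ideal.Quotient.eq_zero_iff_mem, map_sub, map_one, sub_eq_zero]
    rfl
  · rw [← Ideal.Quotient.eq_zero_iff_mem, ← hψ, ← psiBar_comp_mapDomain ψ x,
      map_eq_zero_iff _ hinj]

end Field

end Groth.Agent.Lib.R2H7.KerFT
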