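import Mathlib
import Groth.Prelude.Def_SGA3b
import Groth.Agent.Lib.R2H7KerFT1
import Groth.Agent.Lib.R2H7LocalRigid

/-!
# R2H7KerFT2: the kernel of a homomorphism out of a diagonalisable group over a local ring

`φ : C → A` a bialgebra map over `R`, `Λ` a local `R`-algebra over which `A` splits as `Λ[M]` with
`M` finitely generated, `C` of finite presentation.  Then there is a subgroup `N ≤ M` such that the
kernel of `D(M) → Spec (Λ ⊗ C)` is `D(M ⧸ N)` (`local_kernel`).
-/

set_option autoImplicit false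
universe u

namespace Groth.Agent.Lib.R2H7.KerFT

open TensorProduct Coalgebra SGA3b
open Groth.Agent.Lib.Helper25 Groth.Agent.Lib.R2H7.GLLift Groth.Agent.Lib.R2H7.PInsepHom
  Groth.Agent.Lib.R2H7.QuotGL Groth.Agent.Lib.R2H7.KerMT

section Psi

variable {R : Type u} [CommRing R] {A : Type u} [CommRing A] [HopfAlgebra R A]
  {C : Type u} [CommRing C] [HopfAlgebra R C] (φ : C →ₐc[R] A)

/-- The map `X ⊗ C → X[M]` induced by `φ` and a splitting of `A` over `X`. -/
noncomputable def Psi {X : Type u} [CommRing X] [Algebra R X] {M : Type u} [CommGroup M]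
    (e : X ⊗[R] A ≃ₐc[X] MonoidAlgebra X M) : X ⊗[R] C →ₐc[X] MonoidAlgebra X M :=
  e.toBialgHom.comp (phiBC φ X)

theorem Psi_apply {X : Type u} [CommRing X] [Algebra R X] {M : Type u} [CommGroup M]
    (e : X ⊗[R] A ≃ₐc[X] MonoidAlgebra X M) (z : X ⊗[R] C) :
    Psi φ e z = e (phiBC φ X z) := rfl

theorem Psi_Hmap {X Y : Type u} [CommRing X] [CommRing Y] [Algebra R X] [Algebra R Y]
    [Algebra X Y] [IsScalarTower R X Y] {M : Type u} [CommGroup M]
    (e : X ⊗[R] A ≃ₐc[X] MonoidAlgebra X M) (f : X →ₐ[R] Y)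
    (hf : ∀ s, f s = algebraMap X Y s) (z : X ⊗[R] C) :
    Psi φ (diagEquiv (Y := Y) e) (Hmap C f z) =
      MonoidAlgebra.mapAlgHom M (Algebra.ofId X Y) (Psi φ e z) := by
  rw [Psi_apply, phiBC_Hmap, diagEquiv_apply_Hmap e f hf, Psi_apply]

theorem counit_Hmap {X Y : Type u} [CommRing X] [CommRing Y] [Algebra R X] [Algebra R Y]
    (f : X →ₐ[R] Y) (z : X ⊗[R] C) :
    counit (R := Y) (Hmap C f z) = f (counit (R := X) z) := by
  induction z using TensorProduct.induction_on with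
  | zero => simp
  | tmul x c =>
    rw [Algebra.TensorProduct.map_tmul, TensorProduct.counit_tmul, TensorProduct.counit_tmul,
      CommSemiring.counit_apply, CommSemiring.counit_apply, map_smul]
    rfl
  | add a b ha hb => rw [map_add, map_add, ha, hb, map_add, map_add]

theorem Hmap_surjective {X Y : Type u} [CommRing X] [CommRing Y] [Algebra R X] [Algebra R Y]
    (f : X →ₐ[R] Y) (hf : Function.Surjective f) : Function.Surjective (Hmap C f) := by
  intro w
  induction w using TensorProduct.induction_on with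
  | zero => exact ⟨0, map_zero _⟩
  | tmul y c =>
    obtain ⟨x, rfl⟩ := hf y
    exact ⟨x ⊗ₜ[R] c, rfl⟩
  | add a b ha hb =>
    obtain ⟨a', rfl⟩ := ha
    obtain ⟨b', rfl⟩ := hb
    exact ⟨a' + b', map_add _ _ _⟩

theorem Hmap_algebraMap {X Y : Type u} [CommRing X] [CommRing Y] [Algebra R X] [Algebra R Y]
    (f : X →ₐ[R] Y) (x : X) :
    Hmap C f (algebraMap X (X ⊗[R] C) x) = algebraMap Y (Y ⊗[R] C) (f x) := by
  rw [Algebra.TensorProduct.algebraMap_apply, Algebra.TensorProduct.algebraMap_apply,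
    Algebra.algebraMap_self_apply, Algebra.algebraMap_self_apply, Algebra.TensorProduct.map_tmul,
    map_one]

end Psi

section Support

variable {S : Type u} [CommRing S]

theorem isMultType_monoidAlgebra (Λ : Type u) [CommRing Λ] (Q : Type u) [CommGroup Q] :
    IsMultType Λ (MonoidAlgebra Λ Q) :=
  BCB.isMultType_of_isMultTypeConst Λ _ ⟨Λ, inferInstance, inferInstance, inferInstance,
    BCB.isDiag_baseChange Λ ⟨Q, inferInstance, ⟨BialgEquiv.refl Λ _⟩⟩⟩

/-- If `P ∘ Ψ` is trivial then the image of `Ψ` is coinvariant for the coaction defined by `P`. -/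
theorem coaction_trivial {E B B' : Type u} [CommRing E] [CommRing B] [CommRing B']
    [Bialgebra S E] [Bialgebra S B] [Bialgebra S B'] (Ψ : E →ₐc[S] B) (P : B →ₐc[S] B')
    (hD : ∀ z, P (Ψ z) = algebraMap S B' (counit (R := S) z)) (z : E) :
    TensorProduct.map (LinearMap.id : B →ₗ[S] B) (P : B →ₗ[S] B') (comul (R := S) (Ψ z)) =
      Ψ z ⊗ₜ[S] 1 := by
  rw [← CoalgHomClass.map_comp_comul_apply Ψ z]
  have key : ∀ t : E ⊗[S] E,
      TensorProduct.map (LinearMap.id : B →ₗ[S] B) (P : B →ₗ[S] B')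
        (TensorProduct.map (Ψ : E →ₗ[S] B) (Ψ : E →ₗ[S] B) t) =
      TensorProduct.map (Ψ : E →ₗ[S] B) (Algebra.linearMap S B')
        (LinearMap.lTensor E (counit (R := S) (A := E)) t) := by
    intro t
    induction t using TensorProduct.induction_on with
    | zero => simp
    | tmul a b =>
      rw [TensorProduct.map_tmul, TensorProduct.map_tmul, LinearMap.lTensor_tmul,
        TensorProduct.map_tmul]
      change Ψ a ⊗ₜ[S] P (Ψ b) = Ψ a ⊗ₜ[S] algebraMap S B' (counit (R := S) b)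
      rw [hD]
    | add x y hx hy => simp only [map_add, hx, hy]
  rw [key, Coalgebra.lTensor_counit_comul, TensorProduct.map_tmul]
  change Ψ z ⊗ₜ[S] algebraMap S B' 1 = _
  rw [map_one]

/-- Coinvariants of the coaction of `D(Q)` on `S[M]` defined by `π : M → Q` are supported on the
kernel of `π`. -/
theorem coeff_eq_zero_of_coaction {M Q : Type u} [CommGroup M] [CommGroup Q] (π : M →* Q)
    (y : MonoidAlgebra S M)
    (hy : TensorProduct.map (LinearMap.id : MonoidAlgebra S M →ₗ[S] MonoidAlgebra S M)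
      (MonoidAlgebra.mapDomainBialgHom S π : MonoidAlgebra S M →ₗ[S] MonoidAlgebra S Q)
      (comul (R := S) y) = y ⊗ₜ[S] 1)
    (m : M) (hm : π m ≠ 1) : y.coeff m = 0 := by
  classical
  let F : MonoidAlgebra S M ⊗[S] MonoidAlgebra S Q →ₗ[S] S :=
    LinearMap.mul' S S ∘ₗ TensorProduct.map (coeffFun S m) (coeffFun S (π m))
  have hF : ∀ (a : MonoidAlgebra S M) (b : MonoidAlgebra S Q),
      F (a ⊗ₜ[S] b) = a.coeff m * b.coeff (π m) := fun _ _ => rfl
  have h1 : ∀ w : MonoidAlgebra S M,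
      F (TensorProduct.map (LinearMap.id : MonoidAlgebra S M →ₗ[S] MonoidAlgebra S M)
        (MonoidAlgebra.mapDomainBialgHom S π : MonoidAlgebra S M →ₗ[S] MonoidAlgebra S Q)
        (comul (R := S) w)) = coeffFun S m w := by
    intro w
    induction w using MonoidAlgebra.induction_linear with
    | zero => simp
    | add a b ha hb => rw [map_add, map_add, map_add, map_add, ha, hb]
    | single n r =>
      rw [comul_single', map_smul, map_smul, TensorProduct.map_tmul]
      change r • F (MonoidAlgebra.single n 1 ⊗ₜ[S]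
        MonoidAlgebra.mapDomainBialgHom S π (MonoidAlgebra.single n 1)) = _
      rw [MonoidAlgebra.mapDomainBialgHom_single, hF, coeffFun_apply,
        MonoidAlgebra.coeff_single_apply, MonoidAlgebra.coeff_single_apply,
        MonoidAlgebra.coeff_single_apply]
      by_cases hnm : n = m
      · subst hnm
        simp
      · simp [hnm]
  have h2 : F (y ⊗ₜ[S] 1) = 0 := by
    rw [hF, MonoidAlgebra.one_def, MonoidAlgebra.coeff_single_apply, if_neg (Ne.symm hm), mul_zero]
  have h3 := h1 y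
  rw [hy, h2, coeffFun_apply] at h3
  exact h3.symm

/-- The augmentation ideal of a group algebra is generated by the `n - 1`. -/
theorem aug_le_of_single_sub_one_mem {N : Type u} [CommGroup N] (I : Ideal (MonoidAlgebra S N))
    (h : ∀ n : N, MonoidAlgebra.single n (1 : S) - 1 ∈ I) :
    RingHom.ker (Bialgebra.counitAlgHom S (MonoidAlgebra S N)) ≤ I := by
  have key : ∀ y : MonoidAlgebra S N,
      y - algebraMap S (MonoidAlgebra S N) (counit (R := S) y) ∈ I := by
    intro y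
    induction y using MonoidAlgebra.induction_linear with
    | zero => simp
    | add a b ha hb =>
      have h1 : a + b - algebraMap S (MonoidAlgebra S N) (counit (R := S) (a + b)) =
          (a - algebraMap S (MonoidAlgebra S N) (counit (R := S) a)) +
            (b - algebraMap S (MonoidAlgebra S N) (counit (R := S) b)) := by
        rw [map_add, map_add]
        ring
      rw [h1]
      exact I.add_mem ha hb
    | single n r =>
      have h1 : MonoidAlgebra.single n r -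
          algebraMap S (MonoidAlgebra S N) (counit (R := S) (MonoidAlgebra.single n r)) =
          r • (MonoidAlgebra.single n (1 : S) - 1) := by
        rw [MonoidAlgebra.counit_single, CommSemiring.counit_apply, smul_sub,
          MonoidAlgebra.smul_single', mul_one, ← Algebra.algebraMap_eq_smul_one]
      rw [h1]
      exact Submodule.smul_of_tower_mem I r (h n)
  intro y hy
  have hy' : (Bialgebra.counitAlgHom S (MonoidAlgebra S N)) y = 0 := RingHom.mem_ker.mp hy
  have hy0 : counit (R := S) y = 0 := hy'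
  have h1 := key y
  rw [hy0, map_zero, sub_zero] at h1
  exact h1

end Support

section Local

variable {R : Type u} [CommRing R] {A : Type u} [CommRing A] [HopfAlgebra R A]
  {C : Type u} [CommRing C] [HopfAlgebra R C] (φ : C →ₐc[R] A)
  {Λ : Type u} [CommRing Λ] [IsLocalRing Λ] [Algebra R Λ]
  {κ : Type u} [Field κ] [Algebra Λ κ] [Algebra R κ] [IsScalarTower R Λ κ]
  {M : Type u} [CommGroup M]
  (e : Λ ⊗[R] A ≃ₐc[Λ] MonoidAlgebra Λ M)

omit [IsLocalRing Λ] in
/-- The image in `κ[M]` of an augmented element. -/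
theorem map_Psi_sub (z : Λ ⊗[R] C) :
    MonoidAlgebra.mapAlgHom M (Algebra.ofId Λ κ)
      (Psi φ e z - algebraMap Λ (MonoidAlgebra Λ M) (counit (R := Λ) z)) =
    Psi φ (diagEquiv (Y := κ) e) (Hmap C (IsScalarTower.toAlgHom R Λ κ) z) -
      algebraMap κ (MonoidAlgebra κ M)
        (counit (R := κ) (Hmap C (IsScalarTower.toAlgHom R Λ κ) z)) := by
  rw [map_sub, Psi_Hmap φ e (IsScalarTower.toAlgHom R Λ κ) (fun _ => rfl), counit_Hmap,
    AlgHom.commutes, IsScalarTower.algebraMap_apply Λ κ (MonoidAlgebra κ M)]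
  rfl

/-- Step 2: the homomorphism is trivial on `D(M ⧸ N)`. -/
theorem local_step2 (hCft : Algebra.FiniteType R C) (hM : Group.FG M)
    (hker : ∀ a : Λ, algebraMap Λ κ a = 0 → a ∈ IsLocalRing.maximalIdeal Λ)
    (N : Subgroup M)
    (hN : ∀ x : MonoidAlgebra κ M,
      x ∈ Ideal.map (Psi φ (diagEquiv (Y := κ) e))
        (RingHom.ker (Bialgebra.counitAlgHom κ (κ ⊗[R] C))) →
      MonoidAlgebra.mapDomainBialgHom κ (QuotientGroup.mk' N) x = 0)
    (z : Λ ⊗[R] C) :
    MonoidAlgebra.mapDomainBialgHom Λ (QuotientGroup.mk' N) (Psi φ e z) =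
      algebraMap Λ (MonoidAlgebra Λ (M ⧸ N)) (counit (R := Λ) z) := by
  classical
  haveI := hM
  haveI := hCft
  have hft : Algebra.FiniteType Λ (MonoidAlgebra Λ (M ⧸ N)) :=
    MonoidAlgebra.finiteType_iff_group_fg.mpr inferInstance
  have hH : IsMultType Λ (MonoidAlgebra Λ (M ⧸ N)) := isMultType_monoidAlgebra Λ (M ⧸ N)
  have hC' : Algebra.FiniteType Λ (Λ ⊗[R] C) := inferInstance
  let eκ : κ ⊗[R] A ≃ₐc[κ] MonoidAlgebra κ M := diagEquiv (Y := κ) e
  haveI : (Ideal.map (Psi φ eκ)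
      (RingHom.ker (Bialgebra.counitAlgHom κ (κ ⊗[R] C)))).IsHopfIdeal κ :=
    LocalRigid.isHopfIdeal_map_bialgHom' (Psi φ eκ)
  let Ψ' : Λ ⊗[R] C →ₐc[Λ] MonoidAlgebra Λ (M ⧸ N) :=
    (MonoidAlgebra.mapDomainBialgHom Λ (QuotientGroup.mk' N)).comp (Psi φ e)
  have hΨ' : ∀ z, Ψ' z = MonoidAlgebra.mapDomainBialgHom Λ (QuotientGroup.mk' N) (Psi φ e z) :=
    fun _ => rfl
  refine LocalRigid.bialgHom_trivial_of_fibre Λ (MonoidAlgebra Λ (M ⧸ N)) (Λ ⊗[R] C) hft hH
    (Or.inr hC') Ψ' ?_ z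
  intro c
  apply mem_smul_top_of_map_eq_zero (κ := κ) _ hker
  have h1 : Ψ' c - algebraMap Λ (MonoidAlgebra Λ (M ⧸ N)) (counit (R := Λ) c) =
      MonoidAlgebra.mapDomainBialgHom Λ (QuotientGroup.mk' N)
        (Psi φ e c - algebraMap Λ (MonoidAlgebra Λ M) (counit (R := Λ) c)) := by
    rw [map_sub, AlgHomClass.commutes, hΨ']
  rw [h1, mapAlgHom_mapDomainBialgHom, map_Psi_sub]
  apply hN
  exact sub_counit_mem (Psi φ eκ) _ rfl _

variable (hCfp : Algebra.FinitePresentation R C) (hM : Group.FG M)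
  (hsurj : Function.Surjective (algebraMap Λ κ))
  (hker : ∀ a : Λ, algebraMap Λ κ a = 0 → a ∈ IsLocalRing.maximalIdeal Λ)

include hCfp hM hsurj hker in
/-- The kernel of `D(M) → Spec (Λ ⊗ C)` over a local ring `Λ` is `D(M ⧸ N)`. -/
theorem local_kernel_aux :
    ∃ N : Subgroup M,
      (∀ z : Λ ⊗[R] C, MonoidAlgebra.mapDomainBialgHom Λ (QuotientGroup.mk' N) (Psi φ e z) =
        algebraMap Λ (MonoidAlgebra Λ (M ⧸ N)) (counit (R := Λ) z)) ∧
      ∀ n ∈ N, MonoidAlgebra.single n (1 : Λ) - 1 ∈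
        Ideal.map (Psi φ e) (RingHom.ker (Bialgebra.counitAlgHom Λ (Λ ⊗[R] C))) := by
  classical
  let eκ : κ ⊗[R] A ≃ₐc[κ] MonoidAlgebra κ M := diagEquiv (Y := κ) e
  let f : Λ →ₐ[R] κ := IsScalarTower.toAlgHom R Λ κ
  have hfs : Function.Surjective f := hsurj
  set Kκ : Ideal (MonoidAlgebra κ M) :=
    Ideal.map (Psi φ eκ) (RingHom.ker (Bialgebra.counitAlgHom κ (κ ⊗[R] C))) with hKκ
  haveI : Kκ.IsHopfIdeal κ := LocalRigid.isHopfIdeal_map_bialgHom' (Psi φ eκ)
  obtain ⟨N, hN1, hN2⟩ := field_ker Kκ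
  haveI := hCfp
  have hCft : Algebra.FiniteType R C := inferInstance
  have h2 := local_step2 φ e hCft hM hker N (fun x hx => (hN2 x).mp hx)
  refine ⟨N, h2, ?_⟩
  -- Step 3
  set ΨΛ : Λ ⊗[R] C →ₐc[Λ] MonoidAlgebra Λ M := Psi φ e with hΨΛ
  set KΛ : Ideal (MonoidAlgebra Λ M) :=
    Ideal.map ΨΛ (RingHom.ker (Bialgebra.counitAlgHom Λ (Λ ⊗[R] C))) with hKΛ
  haveI : KΛ.IsHopfIdeal Λ := LocalRigid.isHopfIdeal_map_bialgHom' ΨΛ
  have hsupp : ∀ z m, m ∉ N → (ΨΛ z).coeff m = 0 := by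
    intro z m hm
    apply coeff_eq_zero_of_coaction (QuotientGroup.mk' N) (ΨΛ z)
      (coaction_trivial ΨΛ (MonoidAlgebra.mapDomainBialgHom Λ (QuotientGroup.mk' N)) h2 z) m
    intro h1
    exact hm ((QuotientGroup.eq_one_iff m).mp h1)
  let Ψb : Λ ⊗[R] C →ₐc[Λ] MonoidAlgebra Λ N :=
    cores (incl N) (retr N) (retr_incl N) ΨΛ (fun z => incl_retr N (ΨΛ z) (hsupp z))
  have hΨb : ∀ z, incl N (Ψb z) = ΨΛ z := fun z => incl_cores _ _ _ _ _ z
  set Kb : Ideal (MonoidAlgebra Λ N) :=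
    Ideal.map Ψb (RingHom.ker (Bialgebra.counitAlgHom Λ (Λ ⊗[R] C))) with hKb
  haveI : Kb.IsHopfIdeal Λ := LocalRigid.isHopfIdeal_map_bialgHom' Ψb
  have hKbΛ : ∀ x ∈ Kb, incl N x ∈ KΛ := by
    have hle : Kb ≤ Ideal.comap (incl (Λ := Λ) N) KΛ := by
      rw [hKb, Ideal.map_le_iff_le_comap]
      intro z hz
      rw [Ideal.mem_comap, Ideal.mem_comap, hΨb]
      exact Ideal.mem_map_of_mem _ hz
    exact fun x hx => hle hx
  have hNfg : Group.FG N := (Group.fg_iff_subgroup_fg N).mpr (subgroup_fg hM N)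
  have hftN : Algebra.FiniteType Λ (MonoidAlgebra Λ N) :=
    MonoidAlgebra.finiteType_iff_group_fg.mpr hNfg
  have hHN : IsMultType Λ (MonoidAlgebra Λ N) := isMultType_monoidAlgebra Λ N
  haveI hfpN : Algebra.FinitePresentation Λ (MonoidAlgebra Λ N) :=
    finitePresentation_monoidAlgebra Λ N hNfg
  haveI hfpC : Algebra.FinitePresentation Λ (Λ ⊗[R] C) := inferInstance
  have haugfg : (RingHom.ker (Bialgebra.counitAlgHom Λ (Λ ⊗[R] C))).FG := by
    have h := Algebra.FinitePresentation.ker_fG_of_surjective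
      (Bialgebra.counitAlgHom Λ (Λ ⊗[R] C))
      (fun r => ⟨algebraMap Λ _ r, by rw [AlgHom.commutes]; rfl⟩)
    exact h
  have hKbfg : Kb.FG := haugfg.map (Ψb : Λ ⊗[R] C →+* MonoidAlgebra Λ N)
  have hK : Algebra.FinitePresentation Λ (MonoidAlgebra Λ N ⧸ Kb) :=
    Algebra.FinitePresentation.quotient hKbfg
  have hKble : Kb ≤ RingHom.ker (Bialgebra.counitAlgHom Λ (MonoidAlgebra Λ N)) := by
    rw [hKb, Ideal.map_le_iff_le_comap]
    intro z hz
    rw [Ideal.mem_comap, RingHom.mem_ker]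
    change counit (R := Λ) (Ψb z) = 0
    rw [CoalgHomClass.counit_comp_apply Ψb z]
    have hz' : (Bialgebra.counitAlgHom Λ (Λ ⊗[R] C)) z = 0 := RingHom.mem_ker.mp hz
    exact hz'
  set mN : Ideal (MonoidAlgebra Λ N) :=
    Ideal.map (algebraMap Λ (MonoidAlgebra Λ N)) (IsLocalRing.maximalIdeal Λ) with hmN
  have hmem_mN : ∀ x : MonoidAlgebra Λ N,
      x ∈ IsLocalRing.maximalIdeal Λ • (⊤ : Submodule Λ (MonoidAlgebra Λ N)) → x ∈ mN := by
    intro x hx
    rw [Ideal.smul_top_eq_map] at hx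
    exact hx
  let ρ := MonoidAlgebra.mapAlgHom M (Algebra.ofId Λ κ)
  have hρs : Function.Surjective ρ := mapAlgHom_surjective hsurj
  have hKκle : Kκ ≤ Ideal.map ρ KΛ := by
    rw [hKκ, Ideal.map_le_iff_le_comap]
    intro w hw
    rw [Ideal.mem_comap]
    have hw' : (Bialgebra.counitAlgHom κ (κ ⊗[R] C)) w = 0 := RingHom.mem_ker.mp hw
    have hw0 : counit (R := κ) w = 0 := hw'
    obtain ⟨z, rfl⟩ := Hmap_surjective (C := C) f hfs w
    have h1 := map_Psi_sub (κ := κ) φ e z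
    change ρ _ = Psi φ eκ (Hmap C f z) - algebraMap κ (MonoidAlgebra κ M)
      (counit (R := κ) (Hmap C f z)) at h1
    rw [hw0, map_zero, sub_zero] at h1
    rw [← h1]
    exact Ideal.mem_map_of_mem ρ (sub_counit_mem ΨΛ KΛ rfl z)
  have hretr : ∀ x ∈ KΛ, retr N x ∈ Kb := by
    have hP : ∀ x ∈ KΛ, ∀ a : MonoidAlgebra Λ M, retr N (a * x) ∈ Kb := by
      intro x hx
      have hx' : x ∈ Submodule.span (MonoidAlgebra Λ M)
          (ΨΛ '' (RingHom.ker (Bialgebra.counitAlgHom Λ (Λ ⊗[R] C)) : Set (Λ ⊗[R] C))) := hx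
      refine Submodule.span_induction
        (p := fun x _ => ∀ a : MonoidAlgebra Λ M, retr N (a * x) ∈ Kb) ?_ ?_ ?_ ?_ hx'
      · intro y hy a
        obtain ⟨z, hz, rfl⟩ := hy
        rw [← hΨb z, retr_mul_incl]
        exact Ideal.mul_mem_left _ _ (Ideal.mem_map_of_mem _ hz)
      · intro a
        rw [mul_zero, map_zero]
        exact zero_mem _
      · intro x y _ _ hx hy a
        rw [mul_add, map_add]
        exact add_mem (hx a) (hy a)
      · intro b x _ hx a
        rw [smul_eq_mul, ← mul_assoc]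
        exact hx (a * b)
    intro x hx
    have h := hP x hx 1
    rwa [one_mul] at h
  have hsingle : ∀ n : N, MonoidAlgebra.single n (1 : Λ) - 1 ∈ Kb ⊔ mN := by
    intro n
    have h1 : MonoidAlgebra.single (n : M) (1 : κ) - 1 ∈ Kκ := (hN1 n).mp n.2
    have h2' := hKκle h1
    rw [Ideal.mem_map_iff_of_surjective ρ hρs] at h2'
    obtain ⟨x, hx, hxρ⟩ := h2'
    have h3 : ρ (x - (MonoidAlgebra.single (n : M) (1 : Λ) - 1)) = 0 := by
      rw [map_sub, hxρ, map_sub, map_one, MonoidAlgebra.mapAlgHom_single, map_one, sub_self]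
    have h4 := mem_smul_top_of_map_eq_zero (κ := κ) (IsLocalRing.maximalIdeal Λ) hker _ h3
    have h5 := hmem_mN _ (retr_mem_smul_top N (IsLocalRing.maximalIdeal Λ) h4)
    have h6 : retr N (MonoidAlgebra.single (n : M) (1 : Λ)) = MonoidAlgebra.single n 1 :=
      retr_single_mem N n 1
    have h7 : retr N (1 : MonoidAlgebra Λ M) = 1 := by
      rw [MonoidAlgebra.one_def, MonoidAlgebra.one_def]
      exact retr_single_mem N 1 1
    rw [map_sub, map_sub, h6, h7] at h5
    have h8 : retr N x ∈ Kb := hretr x hx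
    have h9 : MonoidAlgebra.single n (1 : Λ) - 1 =
        retr N x - (retr N x - (MonoidAlgebra.single n 1 - 1)) := by
      abel
    rw [h9]
    exact Ideal.sub_mem _ (Ideal.mem_sup_left h8) (Ideal.mem_sup_right h5)
  have hs : Kb ⊔ mN = RingHom.ker (Bialgebra.counitAlgHom Λ (MonoidAlgebra Λ N)) ⊔ mN := by
    apply le_antisymm
    · exact sup_le_sup_right hKble _
    · exact sup_le (aug_le_of_single_sub_one_mem _ hsingle) le_sup_right
  have hKbeq := TrivFibre.eq_augIdeal_of_fibre_trivial hftN hHN Kb hK hs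
  intro n hn
  have h1 : MonoidAlgebra.single (⟨n, hn⟩ : N) (1 : Λ) - 1 ∈ Kb := by
    rw [hKbeq, RingHom.mem_ker, Bialgebra.counitAlgHom_apply]
    rw [map_sub, MonoidAlgebra.counit_single, CommSemiring.counit_apply, Bialgebra.counit_one,
      sub_self]
  have h2'' := hKbΛ _ h1
  rw [map_sub, map_one, incl_single] at h2''
  exact h2''

end Local

section LocalJ

variable {R : Type u} [CommRing R] {A : Type u} [CommRing A] [HopfAlgebra R A]
  {C : Type u} [CommRing C] [HopfAlgebra R C] (φ : C →ₐc[R] A)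
  (J : Ideal A) [J.IsHopfIdeal R]
  (hJ : J = Ideal.map φ (RingHom.ker (Bialgebra.counitAlgHom R C)))
  {Λ : Type u} [CommRing Λ] [IsLocalRing Λ] [Algebra R Λ]
  {M : Type u} [CommGroup M]
  (e : Λ ⊗[R] A ≃ₐc[Λ] MonoidAlgebra Λ M)

include hJ in
/-- Local form of the kernel theorem: over a local `R`-algebra `Λ` splitting `A`, there is a
subgroup `N ≤ M` such that `φ` becomes trivial in `Λ[M ⧸ N]` and the characters in `N` become
trivial in `Λ ⊗ (A ⧸ J)`. -/
theorem local_kernel (hCfp : Algebra.FinitePresentation R C) (hM : Group.FG M) :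
    ∃ N : Subgroup M,
      (∀ z : Λ ⊗[R] C, MonoidAlgebra.mapDomainBialgHom Λ (QuotientGroup.mk' N)
          (e (phiBC φ Λ z)) = algebraMap Λ (MonoidAlgebra Λ (M ⧸ N)) (counit (R := Λ) z)) ∧
      ∀ n ∈ N, bcMk R J Λ (e.symm (MonoidAlgebra.single n 1)) = 1 := by
  obtain ⟨N, h1, h2⟩ := local_kernel_aux (κ := IsLocalRing.ResidueField Λ) φ e hCfp hM
    IsLocalRing.residue_surjective
    (fun a ha => (IsLocalRing.residue_eq_zero_iff a).mp ha)
  refine ⟨N, h1, fun n hn => ?_⟩
  have hle : Ideal.map (Psi φ e) (RingHom.ker (Bialgebra.counitAlgHom Λ (Λ ⊗[R] C))) ≤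
      RingHom.ker ((bcMk R J Λ : Λ ⊗[R] A →ₐ[Λ] Λ ⊗[R] (A ⧸ J)).comp
        (e.symm : MonoidAlgebra Λ M →ₐ[Λ] Λ ⊗[R] A)) := by
    rw [Ideal.map_le_iff_le_comap]
    intro z hz
    rw [Ideal.mem_comap, RingHom.mem_ker]
    change bcMk R J Λ (e.symm (e (phiBC φ Λ z))) = 0
    rw [BialgEquiv.symm_apply_apply, bcMk_phiBC φ J hJ]
    have hz' : (Bialgebra.counitAlgHom Λ (Λ ⊗[R] C)) z = 0 := RingHom.mem_ker.mp hz
    have hz0 : counit (R := Λ) z = 0 := hz'
    rw [hz0, map_zero]
  have h3 := RingHom.mem_ker.mp (hle (h2 n hn))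
  change bcMk R J Λ (e.symm (MonoidAlgebra.single n 1 - 1)) = 0 at h3
  rw [map_sub, map_sub, map_one, map_one, sub_eq_zero] at h3
  exact h3

end LocalJ

end Groth.Agent.Lib.R2H7.KerFT
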