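import Mathlib
import Groth.Prelude.Def_SGA3b
import Groth.Agent.Lib.R2H7HensFinE
import Groth.Agent.Lib.R2H7FormalHom5
import Groth.Agent.Lib.R2H7FormalHom8
import Groth.Agent.Lib.Helper19ComplDim
import Groth.Agent.Lib.R2H7KerFT2

/-!
# R2H7FibC: the diagonalisable clopen subgroup over a Noetherian henselian local ring

`S` a Noetherian henselian local ring, `C` a flat Hopf algebra of finite type over `S` whose closed fibre
is diagonalisable, `κ ⊗ C ≃ κ[M]`.  Then there are a surjective homomorphism of bialgebras
`Φ : C → S[M]` and an idempotent `e ∈ 𝔪 C` with `ker Φ = (e)` (`local_case`): `Spec S[M]` is an open and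
closed subgroup of `Spec C` with the same closed fibre.

* `mem_of_one_tmul_mem_map`: faithfully flat descent of membership in an ideal.
-/

set_option autoImplicit false
set_option linter.style.haveILetI false
universe u

namespace Groth.Agent.Lib.R2H7.Fib

open TensorProduct Coalgebra SGA3b IsLocalRing Groth.Agent.Lib.Helper25

section Descent

variable {S : Type u} [CommRing S] (T : Type u) [CommRing T] [Algebra S T]
  [Module.FaithfullyFlat S T] {C : Type u} [CommRing C] [Algebra S C]

/-- Faithfully flat descent of membership in an ideal. -/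
theorem mem_of_one_tmul_mem_map (I : Ideal C) {x : C}
    (h : (1 : T) ⊗ₜ[S] x ∈
      Ideal.map (Algebra.TensorProduct.includeRight : C →ₐ[S] T ⊗[S] C) I) : x ∈ I := by
  have h1 := Algebra.TensorProduct.lTensor_ker (R := S) (A := T) (Ideal.Quotient.mkₐ S I)
    (Ideal.Quotient.mkₐ_surjective S I)
  have hk : RingHom.ker (Ideal.Quotient.mkₐ S I) = I := by
    ext y
    rw [RingHom.mem_ker, Ideal.Quotient.mkₐ_eq_mk, Ideal.Quotient.eq_zero_iff_mem]
  rw [hk] at h1
  rw [← h1, RingHom.mem_ker] at h
  have h3 : (1 : T) ⊗ₜ[S] (Ideal.Quotient.mk I x) = (1 : T) ⊗ₜ[S] (0 : C ⧸ I) := by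
    rw [tmul_zero]
    exact h
  have h4 := Module.FaithfullyFlat.tensorProduct_mk_injective (A := S) (B := T) (C ⧸ I) h3
  exact Ideal.Quotient.eq_zero_iff_mem.mp h4

/-- An inclusion of ideals which becomes an equality after a faithfully flat base change is an
equality. -/
theorem ideal_eq_of_map_eq {I J : Ideal C} (hIJ : I ≤ J)
    (h : Ideal.map (Algebra.TensorProduct.includeRight : C →ₐ[S] T ⊗[S] C) J ≤
      Ideal.map (Algebra.TensorProduct.includeRight : C →ₐ[S] T ⊗[S] C) I) : I = J := by
  refine le_antisymm hIJ fun x hx => ?_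
  apply mem_of_one_tmul_mem_map (S := S) T I
  apply h
  exact Ideal.mem_map_of_mem _ hx

end Descent

section Local

variable (S : Type u) [CommRing S] [IsNoetherianRing S] [HenselianLocalRing S]
  (C : Type u) [CommRing C] [HopfAlgebra S C] [Module.Flat S C]

/-- **The diagonalisable clopen subgroup.** -/
theorem local_case (hft : Algebra.FiniteType S C) (M : Type u) [CommGroup M]
    (ε₀ : ResidueField S ⊗[S] C ≃ₐc[ResidueField S] MonoidAlgebra (ResidueField S) M) :
    Monoid.FG M ∧ ∃ (Φ : C →ₐc[S] MonoidAlgebra S M) (e : C), Function.Surjective Φ ∧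
      IsIdempotentElem e ∧ (∀ y : C, y ∈ Ideal.span {e} ↔ Φ y = 0) ∧
      e ∈ (maximalIdeal S).map (algebraMap S C) := by
  classical
  haveI := hft
  haveI : IsNoetherianRing (AdicCompletion (maximalIdeal S) S) :=
    Groth.Agent.Lib.Helper19.isNoetherianRing_adicCompletion _
  haveI : Module.FaithfullyFlat S (AdicCompletion (maximalIdeal S) S) :=
    Module.FaithfullyFlat.of_flat_of_isLocalHom
  -- `M` is finitely generated
  haveI hftk : Algebra.FiniteType (ResidueField S) (ResidueField S ⊗[S] C) := inferInstance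
  haveI : Algebra.FiniteType (ResidueField S) (MonoidAlgebra (ResidueField S) M) :=
    Algebra.FiniteType.equiv hftk ε₀.toAlgEquiv
  haveI hM : Monoid.FG M := MonoidAlgebra.fg_of_finiteType (R := ResidueField S)
  refine ⟨hM, ?_⟩
  -- the closed fibre is of multiplicative type
  have hs : IsMultType (ResidueField S) (ResidueField S ⊗[S] C) :=
    Groth.Agent.Lib.R2H7.HomLift.isMultType_of_equiv ε₀
      (Groth.Agent.Lib.R2H7.KerFT.isMultType_monoidAlgebra _ M)
  -- the closed fibre over the completion
  letI : Algebra (ResidueField S) (ResidueField (AdicCompletion (maximalIdeal S) S)) :=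
    (IsLocalRing.ResidueField.map (algebraMap S (AdicCompletion (maximalIdeal S) S))).toAlgebra
  haveI : IsScalarTower S (ResidueField S) (ResidueField (AdicCompletion (maximalIdeal S) S)) :=
    IsScalarTower.of_algebraMap_eq (fun a => rfl)
  let e1 : ResidueField (AdicCompletion (maximalIdeal S) S) ⊗[S] C ≃ₐc[
      ResidueField (AdicCompletion (maximalIdeal S) S)]
      MonoidAlgebra (ResidueField (AdicCompletion (maximalIdeal S) S)) M :=
    ((BCB.cancelBC S (ResidueField S) (ResidueField (AdicCompletion (maximalIdeal S) S)) C).symm.trans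
      (BCB.bcEquiv (ResidueField (AdicCompletion (maximalIdeal S) S)) ε₀)).trans
      (BCB.steBialg (ResidueField S) (ResidueField (AdicCompletion (maximalIdeal S) S)) M)
  let e0 : ResidueField (AdicCompletion (maximalIdeal S) S) ⊗[AdicCompletion (maximalIdeal S) S]
      (AdicCompletion (maximalIdeal S) S ⊗[S] C) ≃ₐc[
      ResidueField (AdicCompletion (maximalIdeal S) S)]
      MonoidAlgebra (ResidueField (AdicCompletion (maximalIdeal S) S)) M :=
    (BCB.cancelBC S (AdicCompletion (maximalIdeal S) S)
      (ResidueField (AdicCompletion (maximalIdeal S) S)) C).trans e1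
  obtain ⟨ΦT, eT, hΦTs, -, heTi, heTk, heTm, -⟩ :=
    Groth.Agent.Lib.R2H7.FormalHom.diag_case
      (maximalIdeal (AdicCompletion (maximalIdeal S) S)) e0
      (inferInstance : Algebra.FiniteType (AdicCompletion (maximalIdeal S) S)
        (AdicCompletion (maximalIdeal S) S ⊗[S] C)) (fun n => inferInstance)
  -- descend the homomorphism
  haveI : Algebra.FiniteType S (MonoidAlgebra S M) := MonoidAlgebra.finiteType_of_fg
  let φ' : AdicCompletion (maximalIdeal S) S ⊗[S] C →ₐc[AdicCompletion (maximalIdeal S) S]
      AdicCompletion (maximalIdeal S) S ⊗[S] MonoidAlgebra S M :=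
    ((BCB.steBialg S (AdicCompletion (maximalIdeal S) S) M).symm : _ →ₐc[_] _).comp ΦT
  obtain ⟨φ, hφ⟩ := Groth.Agent.Lib.R2H7.HensFin.exists_hom_of_complete S
    (AdicCompletion (maximalIdeal S) S) C
    (AdicCompletion.evalOneₐ (maximalIdeal S))
    (AdicCompletion.evalOneₐ_surjective _)
    (fun t ht => by
      have h1 : t ∈ RingHom.ker
          (AdicCompletion.evalOneₐ (maximalIdeal S)).toRingHom := ht
      rw [AdicCompletion.ker_evalOneₐ_eq_map _
        (maximalIdeal S).fg_of_isNoetherianRing,
        ← AdicCompletion.maximalIdeal_eq_map] at h1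
      exact h1) (MonoidAlgebra S M) inferInstance
    (Groth.Agent.Lib.R2H7.KerFT.isMultType_monoidAlgebra S M) hft
    (fun q _ _ => Module.Flat.trans S C (Localization.AtPrime q)) hs φ'
  -- the base change of `φ` is `φ'`
  have hφ'z : ∀ z : AdicCompletion (maximalIdeal S) S ⊗[S] C,
      φ' z = 0 ↔ z ∈ Ideal.span {eT} := by
    intro z
    rw [heTk]
    constructor
    · intro h
      have h2 : (BCB.steBialg S (AdicCompletion (maximalIdeal S) S) M).symm (ΦT z) = 0 := h
      rw [← map_zero (BCB.steBialg S (AdicCompletion (maximalIdeal S) S) M).symm] at h2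
      exact (BCB.steBialg S (AdicCompletion (maximalIdeal S) S) M).symm.injective h2
    · intro h
      change (BCB.steBialg S (AdicCompletion (maximalIdeal S) S) M).symm (ΦT z) = 0
      rw [h, map_zero]
  have hφ's : Function.Surjective φ' := by
    intro y
    obtain ⟨z, hz⟩ := hΦTs (BCB.steBialg S (AdicCompletion (maximalIdeal S) S) M y)
    refine ⟨z, ?_⟩
    change (BCB.steBialg S (AdicCompletion (maximalIdeal S) S) M).symm (ΦT z) = y
    rw [hz]
    exact (BCB.steBialg S (AdicCompletion (maximalIdeal S) S) M).symm_apply_apply y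
  have hg : ∀ z : AdicCompletion (maximalIdeal S) S ⊗[S] C,
      Algebra.TensorProduct.map (AlgHom.id S (AdicCompletion (maximalIdeal S) S))
        (φ : C →ₐ[S] MonoidAlgebra S M) z = φ' z := by
    intro z
    induction z using TensorProduct.induction_on with
    | zero => rw [map_zero, map_zero]
    | tmul t c =>
      have h1 : t ⊗ₜ[S] c = t • ((1 : AdicCompletion (maximalIdeal S) S) ⊗ₜ[S] c) := by
        rw [TensorProduct.smul_tmul', smul_eq_mul, mul_one]
      rw [Algebra.TensorProduct.map_tmul, h1, map_smul, hφ, TensorProduct.smul_tmul', smul_eq_mul,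
        mul_one]
      rfl
    | add a b ha hb => rw [map_add, map_add, ha, hb]
  have hl : ∀ z : AdicCompletion (maximalIdeal S) S ⊗[S] C,
      LinearMap.lTensor (AdicCompletion (maximalIdeal S) S)
        ((φ : C →ₐ[S] MonoidAlgebra S M) : C →ₗ[S] MonoidAlgebra S M) z = φ' z := by
    intro z
    rw [← hg]
    induction z using TensorProduct.induction_on with
    | zero => rw [map_zero, map_zero]
    | tmul t c => rfl
    | add a b ha hb => rw [map_add, map_add, ha, hb]
  -- `φ` is surjective
  have hφs : Function.Surjective φ := by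
    have h1 : Function.Surjective (LinearMap.lTensor (AdicCompletion (maximalIdeal S) S)
        ((φ : C →ₐ[S] MonoidAlgebra S M) : C →ₗ[S] MonoidAlgebra S M)) := by
      intro y
      obtain ⟨z, hz⟩ := hφ's y
      exact ⟨z, (hl z).trans hz⟩
    exact (Module.FaithfullyFlat.lTensor_surjective_iff_surjective S
      (AdicCompletion (maximalIdeal S) S) _).mp h1
  -- the kernel
  have hker : RingHom.ker (Algebra.TensorProduct.map
      (AlgHom.id S (AdicCompletion (maximalIdeal S) S)) (φ : C →ₐ[S] MonoidAlgebra S M)) =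
      Ideal.map (Algebra.TensorProduct.includeRight :
        C →ₐ[S] AdicCompletion (maximalIdeal S) S ⊗[S] C)
        (RingHom.ker (φ : C →ₐ[S] MonoidAlgebra S M)) :=
    Algebra.TensorProduct.lTensor_ker (R := S) (A := AdicCompletion (maximalIdeal S) S)
      (φ : C →ₐ[S] MonoidAlgebra S M) hφs
  have hmapK : Ideal.map (Algebra.TensorProduct.includeRight :
        C →ₐ[S] AdicCompletion (maximalIdeal S) S ⊗[S] C)
        (RingHom.ker (φ : C →ₐ[S] MonoidAlgebra S M)) = Ideal.span {eT} := by
    rw [← hker]
    ext z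
    rw [RingHom.mem_ker, ← hφ'z z]
    constructor
    · intro h
      rw [← hg]
      exact h
    · intro h
      rw [← hg] at h
      exact h
  haveI : IsNoetherianRing C := Algebra.FiniteType.isNoetherianRing S C
  have hKfg : (RingHom.ker (φ : C →ₐ[S] MonoidAlgebra S M)).FG :=
    (isNoetherianRing_iff_ideal_fg C).mp inferInstance _
  have hKK : IsIdempotentElem (RingHom.ker (φ : C →ₐ[S] MonoidAlgebra S M)) := by
    change RingHom.ker (φ : C →ₐ[S] MonoidAlgebra S M) *
      RingHom.ker (φ : C →ₐ[S] MonoidAlgebra S M) = RingHom.ker (φ : C →ₐ[S] MonoidAlgebra S M)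
    apply ideal_eq_of_map_eq (S := S) (AdicCompletion (maximalIdeal S) S) Ideal.mul_le_right
    rw [Ideal.map_mul, hmapK, Ideal.span_singleton_mul_span_singleton, heTi.eq]
  obtain ⟨e, hei, heK⟩ := (Ideal.isIdempotentElem_iff_of_fg _ hKfg).mp hKK
  refine ⟨φ, e, hφs, hei, fun y => ?_, ?_⟩
  · rw [← Ideal.submodule_span_eq, ← heK, RingHom.mem_ker]
    rfl
  · -- `e ∈ 𝔪 C`
    apply Groth.Agent.Lib.R2H7.FormalHom.mem_map_of_one_tmul_mem
      (A := S) (AdicCompletion (maximalIdeal S) S)
    have h1 : (1 : AdicCompletion (maximalIdeal S) S) ⊗ₜ[S] e ∈ Ideal.span {eT} := by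
      rw [← hmapK]
      apply Ideal.mem_map_of_mem
        (Algebra.TensorProduct.includeRight : C →ₐ[S] AdicCompletion (maximalIdeal S) S ⊗[S] C)
      rw [heK]
      exact Submodule.mem_span_singleton_self e
    have h2 : Ideal.span {eT} ≤ Ideal.map
        (algebraMap S (AdicCompletion (maximalIdeal S) S ⊗[S] C)) (maximalIdeal S) := by
      rw [Ideal.span_le, Set.singleton_subset_iff, SetLike.mem_coe]
      have h3 := heTm 1
      rw [pow_one, AdicCompletion.maximalIdeal_eq_map, Ideal.map_map,
        ← IsScalarTower.algebraMap_eq] at h3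
      exact h3
    exact h2 h1

end Local

end Groth.Agent.Lib.R2H7.Fib
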