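import Mathlib
import Groth.Prelude.Def_SGA3b
import Groth.Agent.Lib.R2H7FibC
import Groth.Agent.Lib.R2H7HensFinD
import Groth.Agent.Lib.R2H7HomLift5
import Groth.Agent.Lib.Helper3IndEtHz
import Groth.Agent.Lib.Helper3IndEtComp
import Groth.Agent.Lib.Helper3IndEtFP
import Groth.Agent.Lib.Helper18ColimSys

/-!
# R2H7FibD: tools for spreading the diagonalisable clopen subgroup

* `sys_of_factor`: an algebra through which every finitely presented algebra factors via an etale algebra is the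
  colimit (in the sense of `Helper18ColimSys.Sys`) of the etale algebras mapping to it.
* `factor_localization`, `factor_baseChange`: stability of `Obj.Factor`.
* `isDiag_of_isSepClosed`: a group of multiplicative type and of finite type over a separably closed field is
  diagonalisable.
* `isMultType_of_field_tower`: descent of multiplicative type along a field extension.
* `HasClopenDiag`: the conclusion of `local_case`; stability under isomorphisms and local base change.
-/

set_option autoImplicit false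
set_option linter.style.haveILetI false
universe u

namespace Groth.Agent.Lib.R2H7.Fib

open TensorProduct Coalgebra SGA3b IsLocalRing Groth.Agent.Lib.Helper25
  Groth.Agent.Lib.Helper3.IndEt Groth.Agent.Lib.Helper18ColimSys

section Factor

/-- The etale algebras over `R` mapping to `Λ` form a colimit system when `Obj.Factor R Λ` holds. -/
theorem sys_of_factor {R Λ : Type u} [CommRing R] [CommRing Λ] [Algebra R Λ]
    (H : Obj.Factor R Λ) : Sys R (fun j : Obj R Λ => j.E) Λ (fun j => j.φ) where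
  nonempty := by
    obtain ⟨j, -, -⟩ := Obj.exists_obj R (Algebra.ofId R Λ)
    exact ⟨j⟩
  surj a := by
    obtain ⟨E, _, _, _, f, g, hfg⟩ := H (MvPolynomial (Fin 1) R)
      (MvPolynomial.aeval (fun _ => a))
    obtain ⟨j, e, he⟩ := Obj.exists_obj R g
    refine ⟨j, e.symm (f (MvPolynomial.X 0)), ?_⟩
    rw [← he]
    change g (e (e.symm (f (MvPolynomial.X 0)))) = a
    rw [AlgEquiv.apply_symm_apply]
    change (g.comp f) (MvPolynomial.X 0) = a
    rw [hfg, MvPolynomial.aeval_X]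
  dir i j := by
    haveI : Algebra.Etale R (i.E ⊗[R] j.E) := etale_tensor R i.E j.E
    obtain ⟨l, e, he⟩ := Obj.exists_obj R (E := i.E ⊗[R] j.E)
      (Algebra.TensorProduct.productMap i.φ j.φ)
    refine ⟨l, (e.symm : i.E ⊗[R] j.E →ₐ[R] l.E).comp Algebra.TensorProduct.includeLeft,
      (e.symm : i.E ⊗[R] j.E →ₐ[R] l.E).comp Algebra.TensorProduct.includeRight, ?_, ?_⟩
    · apply AlgHom.ext
      intro x
      rw [← he]
      change Algebra.TensorProduct.productMap i.φ j.φ (e (e.symm (x ⊗ₜ 1))) = i.φ x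
      rw [AlgEquiv.apply_symm_apply, Algebra.TensorProduct.productMap_apply_tmul, map_one, mul_one]
    · apply AlgHom.ext
      intro x
      rw [← he]
      change Algebra.TensorProduct.productMap i.φ j.φ (e (e.symm (1 ⊗ₜ x))) = j.φ x
      rw [AlgEquiv.apply_symm_apply, Algebra.TensorProduct.productMap_apply_tmul, map_one, one_mul]
  ker i x hx := by
    obtain ⟨l, h, hl⟩ := Obj.exists_hom_of_span H i (Ideal.span {x})
      ⟨{x}, by simp⟩ (fun y hy => by
        obtain ⟨a, rfl⟩ := Ideal.mem_span_singleton'.mp hy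
        rw [map_mul, hx, mul_zero])
    exact ⟨l, h.1, h.2, hl x (Ideal.subset_span rfl)⟩

/-- A localisation satisfies `Obj.Factor`. -/
theorem factor_localization (C L : Type u) [CommRing C] [CommRing L] [Algebra C L]
    (M : Submonoid C) [IsLocalization M L] : Obj.Factor C L := by
  intro P _ _ _ ψ
  obtain ⟨s, ψs, h⟩ := exists_factor_localization (R := C) M ψ
  exact ⟨Localization.Away (s : C), inferInstance, inferInstance, inferInstance, ψs,
    awayTo M s, h⟩

/-- `Obj.Factor` is stable under base change. -/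
theorem factor_baseChange {R₁ S : Type u} [CommRing R₁] [CommRing S] [Algebra R₁ S]
    (H : Obj.Factor R₁ S) (R : Type u) [CommRing R] [Algebra R₁ R] :
    Obj.Factor R (R ⊗[R₁] S) := by
  intro P _ _ _ ψ
  have hS := (sys_of_factor H).baseChange R
  obtain ⟨j, ρ', hρ'⟩ := hS.lift_algHom P ψ
  exact ⟨R ⊗[R₁] j.E, inferInstance, inferInstance, inferInstance, ρ',
    Algebra.TensorProduct.map (AlgHom.id R R) j.φ, hρ'⟩

/-- `Obj.Factor` is transitive. -/
theorem factor_comp (A B C : Type u) [CommRing A] [CommRing B] [CommRing C] [Algebra A B]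
    [Algebra B C] [Algebra A C] [IsScalarTower A B C] (h1 : Obj.Factor A B)
    (h2 : Obj.Factor B C) : Obj.Factor A C :=
  factor_of_isIndEtale (isIndEtale_comp A B C (isIndEtale_of_factor h1) (isIndEtale_of_factor h2))

end Factor

section Field

/-- A group of multiplicative type and of finite type over a separably closed field is
diagonalisable. -/
theorem isDiag_of_isSepClosed (k : Type u) [Field k] [IsSepClosed k] (H : Type u) [CommRing H]
    [HopfAlgebra k H] (hft : Algebra.FiniteType k H) (h : IsMultType k H) : IsDiag k H := by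
  haveI := hft
  obtain ⟨K, _, _, hK⟩ := BCB.exists_field_isDiag k H (BCB.isMultTypeConst_of_isMultType k H h)
  obtain ⟨k₁, _, _, hfin, hD⟩ :=
    Groth.Agent.Lib.R2H7.SepSplitC.exists_finite_field_isDiagonalizable k K H
      (Groth.Agent.Lib.R2H7.SepSplitC.isDiagonalizable_of_isDiag hK)
  haveI := hfin
  haveI : Algebra.IsAlgebraic k k₁ := Algebra.IsAlgebraic.of_finite k k₁
  exact Groth.Agent.Lib.R2H7.SepSplitC.isDiag_of_isDiagonalizable
    (Groth.Agent.Lib.R2H7.SepSplitC.isDiagonalizable_of_purelyInseparable k k₁ H hD)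

/-- Multiplicative type descends along a field extension (of residue fields). -/
theorem isMultType_of_field_tower (B : Type u) [CommRing B] (X : Type u) [CommRing X]
    [HopfAlgebra B X] (κ L : Type u) [Field κ] [Field L] [Algebra B κ] [Algebra B L] [Algebra κ L]
    [IsScalarTower B κ L] (h : IsMultType L (L ⊗[B] X)) : IsMultType κ (κ ⊗[B] X) := by
  have h1 : IsMultType L (L ⊗[κ] (κ ⊗[B] X)) :=
    Groth.Agent.Lib.R2H7.HomLift.isMultType_of_equiv (BCB.cancelBC B κ L X) h
  have h2 : IsMultTypeConst L (L ⊗[κ] (κ ⊗[B] X)) := BCB.isMultTypeConst_of_isMultType L _ h1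
  exact BCB.isMultType_of_isMultTypeConst κ _
    (Groth.Agent.Lib.R2H7.HensFin.isMultTypeConst_descend L h2)

end Field

section Clopen

/-- `Spec C` has an open and closed diagonalisable subgroup of type `M` which contains the closed
fibre: the conclusion of `local_case`. -/
def HasClopenDiag (Λ : Type u) [CommRing Λ] [IsLocalRing Λ] (C : Type u) [CommRing C]
    [HopfAlgebra Λ C] (M : Type u) [CommGroup M] : Prop :=
  ∃ (Φ : C →ₐc[Λ] MonoidAlgebra Λ M) (e : C), Function.Surjective Φ ∧ IsIdempotentElem e ∧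
    (∀ y : C, y ∈ Ideal.span {e} ↔ Φ y = 0) ∧ e ∈ (maximalIdeal Λ).map (algebraMap Λ C)

variable {Λ : Type u} [CommRing Λ] [IsLocalRing Λ] {C C' : Type u} [CommRing C] [HopfAlgebra Λ C]
  [CommRing C'] [HopfAlgebra Λ C'] {M : Type u} [CommGroup M]

theorem HasClopenDiag.of_equiv (σ : C' ≃ₐc[Λ] C) (h : HasClopenDiag Λ C M) :
    HasClopenDiag Λ C' M := by
  obtain ⟨Φ, e, hs, hi, hk, hm⟩ := h
  refine ⟨Φ.comp (σ : C' →ₐc[Λ] C), σ.symm e, ?_, ?_, ?_, ?_⟩
  · intro y
    obtain ⟨c, hc⟩ := hs y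
    exact ⟨σ.symm c, by
      change Φ (σ (σ.symm c)) = y
      rw [BialgEquiv.apply_symm_apply, hc]⟩
  · change σ.symm e * σ.symm e = σ.symm e
    rw [← map_mul, hi.eq]
  · intro y
    change y ∈ Ideal.span {σ.symm e} ↔ Φ (σ y) = 0
    rw [← hk, Ideal.mem_span_singleton', Ideal.mem_span_singleton']
    constructor
    · rintro ⟨a, rfl⟩
      exact ⟨σ a, by rw [map_mul, BialgEquiv.apply_symm_apply]⟩
    · rintro ⟨b, hb⟩
      refine ⟨σ.symm b, ?_⟩
      rw [← map_mul, hb, BialgEquiv.symm_apply_apply]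
  · exact Groth.Agent.Lib.R2H7.HensFin.algHom_mem_map
      ((σ.symm : C ≃ₐc[Λ] C') : C →ₐ[Λ] C') (maximalIdeal Λ) hm

theorem bcHom_eq_map {B : Type u} [CommRing B] [HopfAlgebra Λ B] (Λ' : Type u) [CommRing Λ']
    [Algebra Λ Λ'] (Φ : C →ₐc[Λ] B) (z : Λ' ⊗[Λ] C) :
    Groth.Agent.Lib.R2H7.DiagNil.bcHom Λ' Φ z =
      Algebra.TensorProduct.map (AlgHom.id Λ Λ') (Φ : C →ₐ[Λ] B) z := by
  induction z using TensorProduct.induction_on with
  | zero => rw [map_zero, map_zero]
  | tmul t c => rfl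
  | add a b ha hb => rw [map_add, map_add, ha, hb]

theorem HasClopenDiag.baseChange (Λ' : Type u) [CommRing Λ'] [IsLocalRing Λ'] [Algebra Λ Λ']
    [IsLocalHom (algebraMap Λ Λ')] (h : HasClopenDiag Λ C M) :
    HasClopenDiag Λ' (Λ' ⊗[Λ] C) M := by
  obtain ⟨Φ, e, hs, hi, hk, hm⟩ := h
  have hbs : Function.Surjective (Groth.Agent.Lib.R2H7.DiagNil.bcHom Λ' Φ) := by
    intro y
    obtain ⟨z, hz⟩ := LinearMap.lTensor_surjective Λ'
      (g := ((Φ : C →ₐ[Λ] MonoidAlgebra Λ M) : C →ₗ[Λ] MonoidAlgebra Λ M)) hs y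
    exact ⟨z, by rw [Groth.Agent.Lib.R2H7.DiagNil.bcHom_eq_lTensor, hz]⟩
  have hker : RingHom.ker (Φ : C →ₐ[Λ] MonoidAlgebra Λ M) = Ideal.span {e} := by
    ext y
    rw [RingHom.mem_ker, hk]
    rfl
  have hkerb := Algebra.TensorProduct.lTensor_ker (R := Λ) (A := Λ')
    (Φ : C →ₐ[Λ] MonoidAlgebra Λ M) hs
  rw [hker, Ideal.map_span, Set.image_singleton] at hkerb
  refine ⟨((BCB.steBialg Λ Λ' M : _ ≃ₐc[Λ'] _) : _ →ₐc[Λ'] _).comp
    (Groth.Agent.Lib.R2H7.DiagNil.bcHom Λ' Φ), (1 : Λ') ⊗ₜ[Λ] e, ?_, ?_, ?_, ?_⟩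
  · intro y
    obtain ⟨z, hz⟩ := hbs ((BCB.steBialg Λ Λ' M).symm y)
    refine ⟨z, ?_⟩
    change BCB.steBialg Λ Λ' M (Groth.Agent.Lib.R2H7.DiagNil.bcHom Λ' Φ z) = y
    rw [hz, BialgEquiv.apply_symm_apply]
  · change (1 : Λ') ⊗ₜ[Λ] e * (1 : Λ') ⊗ₜ[Λ] e = (1 : Λ') ⊗ₜ[Λ] e
    rw [Algebra.TensorProduct.tmul_mul_tmul, one_mul, hi.eq]
  · intro y
    change y ∈ Ideal.span {(1 : Λ') ⊗ₜ[Λ] e} ↔
      BCB.steBialg Λ Λ' M (Groth.Agent.Lib.R2H7.DiagNil.bcHom Λ' Φ y) = 0
    have h1 : (Algebra.TensorProduct.includeRight : C →ₐ[Λ] Λ' ⊗[Λ] C) e = (1 : Λ') ⊗ₜ[Λ] e := rfl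
    rw [← h1, ← hkerb, RingHom.mem_ker, ← bcHom_eq_map]
    constructor
    · intro h
      rw [h, map_zero]
    · intro h
      rw [← map_zero (BCB.steBialg Λ Λ' M)] at h
      exact (BCB.steBialg Λ Λ' M).injective h
  · have h1 : (1 : Λ') ⊗ₜ[Λ] e ∈ (maximalIdeal Λ).map (algebraMap Λ (Λ' ⊗[Λ] C)) :=
      Groth.Agent.Lib.R2H7.HensFin.algHom_mem_map
        (Algebra.TensorProduct.includeRight : C →ₐ[Λ] Λ' ⊗[Λ] C) (maximalIdeal Λ) hm
    exact Groth.Agent.Lib.R2H7.HensFin.map_maximalIdeal_le h1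

end Clopen

end Groth.Agent.Lib.R2H7.Fib
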