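import Mathlib
import Groth.Prelude.Def_SGA3b
import Groth.Agent.Lib.R2H7FibB
import Groth.Agent.Lib.R2H7FibD
import Groth.Agent.Lib.Helper3ShN

/-!
# R2H7FibE: the ind-etale local ring over a point carrying a diagonalisable clopen subgroup

`R` any ring, `A` a flat finitely presented Hopf algebra over `R`, `p` a prime of `R` over which the fibre
of `A` is of multiplicative type.  Then there are a local ring `Λ`, ind-etale over `R` (`Obj.Factor R Λ`),
whose maximal ideal lies over `p`, and a finitely generated commutative group `M`, such that `Λ ⊗ A` has a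
diagonalisable open and closed subgroup of type `M` containing the closed fibre (`exists_local`).
-/

set_option autoImplicit false
set_option linter.style.haveILetI false
universe u

namespace Groth.Agent.Lib.R2H7.Fib

open TensorProduct Coalgebra SGA3b IsLocalRing Groth.Agent.Lib.Helper25
  Groth.Agent.Lib.Helper3 Groth.Agent.Lib.Helper3.IndEt

section E1

/-- The Noetherian step: over the strict henselisation of the Noetherian model at the image of the
point. -/
theorem exists_strict_model (R₁ : Type u) [CommRing R₁] [IsNoetherianRing R₁]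
    (A₁ : Type u) [CommRing A₁] [HopfAlgebra R₁ A₁] [Module.Flat R₁ A₁]
    (hft : Algebra.FiniteType R₁ A₁)
    (L : Type u) [Field L] [IsSepClosed L] [Algebra R₁ L]
    (hL : IsMultType L (L ⊗[R₁] A₁)) :
    ∃ (S₀ : Type u) (_ : CommRing S₀) (_ : IsLocalRing S₀) (_ : Algebra R₁ S₀) (_ : Algebra S₀ L)
      (_ : IsScalarTower R₁ S₀ L) (M : Type u) (_ : CommGroup M),
      (∀ z : S₀, algebraMap S₀ L z = 0 ↔ z ∈ maximalIdeal S₀) ∧ Obj.Factor R₁ S₀ ∧
        Monoid.FG M ∧ HasClopenDiag S₀ (S₀ ⊗[R₁] A₁) M := by
  classical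
  haveI := hft
  -- the prime
  let p₁ : Ideal R₁ := RingHom.ker (algebraMap R₁ L)
  haveI hp₁ : p₁.IsPrime := RingHom.ker_isPrime _
  -- the local ring `R₀`
  haveI : IsNoetherianRing (Localization.AtPrime p₁) :=
    IsLocalization.isNoetherianRing p₁.primeCompl (Localization.AtPrime p₁) inferInstance
  have hunit : ∀ y : p₁.primeCompl, IsUnit (algebraMap R₁ L (y : R₁)) := by
    intro y
    rw [isUnit_iff_ne_zero]
    intro h0
    exact y.2 ((RingHom.mem_ker).mpr h0)
  let l₀ : Localization.AtPrime p₁ →+* L := IsLocalization.lift (M := p₁.primeCompl) hunit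
  letI algR₀L : Algebra (Localization.AtPrime p₁) L := l₀.toAlgebra
  haveI tw1 : IsScalarTower R₁ (Localization.AtPrime p₁) L :=
    IsScalarTower.of_algebraMap_eq (fun x => (IsLocalization.lift_eq hunit x).symm)
  have hkill : ∀ x ∈ maximalIdeal (Localization.AtPrime p₁),
      algebraMap (Localization.AtPrime p₁) L x = 0 := by
    intro x hx
    rw [← Localization.AtPrime.map_eq_maximalIdeal] at hx
    refine Submodule.span_induction ?_ ?_ ?_ ?_ hx
    · rintro _ ⟨a, ha, rfl⟩
      rw [← IsScalarTower.algebraMap_apply R₁ (Localization.AtPrime p₁) L]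
      exact (RingHom.mem_ker).mp ha
    · rw [map_zero]
    · intro a b _ _ ha hb
      rw [map_add, ha, hb, add_zero]
    · intro a b _ hb
      rw [smul_eq_mul, map_mul, hb, mul_zero]
  haveI loc₀ : IsLocalHom (algebraMap (Localization.AtPrime p₁) L) := by
    refine ⟨fun x hx => ?_⟩
    by_contra hnu
    have h0 := hkill x ((mem_maximalIdeal x).mpr hnu)
    rw [h0] at hx
    exact not_isUnit_zero hx
  letI algk₀L : Algebra (ResidueField (Localization.AtPrime p₁)) L :=
    (IsLocalRing.ResidueField.lift (algebraMap (Localization.AtPrime p₁) L)).toAlgebra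
  haveI tw2 : IsScalarTower (Localization.AtPrime p₁) (ResidueField (Localization.AtPrime p₁)) L :=
    IsScalarTower.of_algebraMap_eq (fun x => rfl)
  -- the separable closure inside `L`
  haveI tw3 : IsScalarTower (Localization.AtPrime p₁) (ResidueField (Localization.AtPrime p₁))
      (separableClosure (ResidueField (Localization.AtPrime p₁)) L) :=
    IsScalarTower.of_algebraMap_eq (fun x => Subtype.ext (by
      change algebraMap (Localization.AtPrime p₁) L x =
        algebraMap (ResidueField (Localization.AtPrime p₁)) L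
          (algebraMap (Localization.AtPrime p₁) (ResidueField (Localization.AtPrime p₁)) x)
      rw [← IsScalarTower.algebraMap_apply]))
  haveI : IsNoetherianRing (Sh.Rsh (Localization.AtPrime p₁)
      (separableClosure (ResidueField (Localization.AtPrime p₁)) L)) := inferInstance
  letI algS₀L : Algebra (Sh.Rsh (Localization.AtPrime p₁)
      (separableClosure (ResidueField (Localization.AtPrime p₁)) L)) L :=
    ((algebraMap (separableClosure (ResidueField (Localization.AtPrime p₁)) L) L).comp
      (Sh.toΩ (R := Localization.AtPrime p₁)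
        (Ω := separableClosure (ResidueField (Localization.AtPrime p₁)) L))).toAlgebra
  letI algR₁S₀ : Algebra R₁ (Sh.Rsh (Localization.AtPrime p₁)
      (separableClosure (ResidueField (Localization.AtPrime p₁)) L)) :=
    ((algebraMap (Localization.AtPrime p₁) (Sh.Rsh (Localization.AtPrime p₁)
      (separableClosure (ResidueField (Localization.AtPrime p₁)) L))).comp
      (algebraMap R₁ (Localization.AtPrime p₁))).toAlgebra
  haveI tw4 : IsScalarTower R₁ (Localization.AtPrime p₁) (Sh.Rsh (Localization.AtPrime p₁)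
      (separableClosure (ResidueField (Localization.AtPrime p₁)) L)) :=
    IsScalarTower.of_algebraMap_eq (fun x => rfl)
  have hS₀L : ∀ y : Localization.AtPrime p₁,
      algebraMap (Sh.Rsh (Localization.AtPrime p₁)
        (separableClosure (ResidueField (Localization.AtPrime p₁)) L)) L
        (algebraMap (Localization.AtPrime p₁) _ y) = algebraMap (Localization.AtPrime p₁) L y := by
    intro y
    change algebraMap (separableClosure (ResidueField (Localization.AtPrime p₁)) L) L
      (Sh.toΩ (algebraMap (Localization.AtPrime p₁) _ y)) = _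
    rw [Sh.toΩ_algebraMap]
    rfl
  haveI tw5 : IsScalarTower R₁ (Sh.Rsh (Localization.AtPrime p₁)
      (separableClosure (ResidueField (Localization.AtPrime p₁)) L)) L :=
    IsScalarTower.of_algebraMap_eq (fun x => by
      rw [IsScalarTower.algebraMap_apply R₁ (Localization.AtPrime p₁) (Sh.Rsh _ _), hS₀L,
        ← IsScalarTower.algebraMap_apply])
  have hker : ∀ z : Sh.Rsh (Localization.AtPrime p₁)
      (separableClosure (ResidueField (Localization.AtPrime p₁)) L),
      algebraMap _ L z = 0 ↔ z ∈ maximalIdeal _ := by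
    intro z
    rw [← Sh.toΩ_eq_zero_iff]
    change algebraMap (separableClosure (ResidueField (Localization.AtPrime p₁)) L) L
      (Sh.toΩ z) = 0 ↔ _
    rw [map_eq_zero_iff _ (algebraMap (separableClosure
      (ResidueField (Localization.AtPrime p₁)) L) L).injective]
  -- ind-etale
  have hF : Obj.Factor R₁ (Sh.Rsh (Localization.AtPrime p₁)
      (separableClosure (ResidueField (Localization.AtPrime p₁)) L)) :=
    factor_comp R₁ (Localization.AtPrime p₁) _
      (factor_localization R₁ (Localization.AtPrime p₁) p₁.primeCompl)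
      (factor_Rsh (Localization.AtPrime p₁) _)
  -- the closed fibre
  haveI locS₀ : IsLocalHom (algebraMap (Sh.Rsh (Localization.AtPrime p₁)
      (separableClosure (ResidueField (Localization.AtPrime p₁)) L)) L) := by
    refine ⟨fun x hx => ?_⟩
    by_contra hnu
    have h0 := (hker x).mpr ((mem_maximalIdeal x).mpr hnu)
    rw [h0] at hx
    exact not_isUnit_zero hx
  letI algκL : Algebra (ResidueField (Sh.Rsh (Localization.AtPrime p₁)
      (separableClosure (ResidueField (Localization.AtPrime p₁)) L))) L :=
    (IsLocalRing.ResidueField.lift (algebraMap (Sh.Rsh (Localization.AtPrime p₁)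
      (separableClosure (ResidueField (Localization.AtPrime p₁)) L)) L)).toAlgebra
  haveI tw6 : IsScalarTower (Sh.Rsh (Localization.AtPrime p₁)
      (separableClosure (ResidueField (Localization.AtPrime p₁)) L))
      (ResidueField (Sh.Rsh (Localization.AtPrime p₁)
      (separableClosure (ResidueField (Localization.AtPrime p₁)) L))) L :=
    IsScalarTower.of_algebraMap_eq (fun x => rfl)
  haveI : Module.Flat R₁ (Sh.Rsh (Localization.AtPrime p₁)
      (separableClosure (ResidueField (Localization.AtPrime p₁)) L)) :=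
    Module.Flat.trans R₁ (Localization.AtPrime p₁) _
  have h1 : IsMultType L (L ⊗[Sh.Rsh (Localization.AtPrime p₁)
      (separableClosure (ResidueField (Localization.AtPrime p₁)) L)]
      (Sh.Rsh (Localization.AtPrime p₁)
      (separableClosure (ResidueField (Localization.AtPrime p₁)) L) ⊗[R₁] A₁)) :=
    Groth.Agent.Lib.R2H7.HomLift.isMultType_of_equiv (BCB.cancelBC R₁ _ L A₁) hL
  have h2 := isMultType_of_field_tower (Sh.Rsh (Localization.AtPrime p₁)
      (separableClosure (ResidueField (Localization.AtPrime p₁)) L))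
    (Sh.Rsh (Localization.AtPrime p₁)
      (separableClosure (ResidueField (Localization.AtPrime p₁)) L) ⊗[R₁] A₁)
    (ResidueField (Sh.Rsh (Localization.AtPrime p₁)
      (separableClosure (ResidueField (Localization.AtPrime p₁)) L))) L h1
  haveI : IsSepClosed (ResidueField (Sh.Rsh (Localization.AtPrime p₁)
      (separableClosure (ResidueField (Localization.AtPrime p₁)) L))) :=
    IsSepClosure.sep_closed (ResidueField (Localization.AtPrime p₁))
  obtain ⟨M, _, ⟨ε₀⟩⟩ := isDiag_of_isSepClosed _ _ inferInstance h2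
  obtain ⟨hM, hcd⟩ := local_case (Sh.Rsh (Localization.AtPrime p₁)
      (separableClosure (ResidueField (Localization.AtPrime p₁)) L))
    (Sh.Rsh (Localization.AtPrime p₁)
      (separableClosure (ResidueField (Localization.AtPrime p₁)) L) ⊗[R₁] A₁) inferInstance M ε₀
  exact ⟨Sh.Rsh (Localization.AtPrime p₁)
      (separableClosure (ResidueField (Localization.AtPrime p₁)) L), inferInstance, inferInstance,
    algR₁S₀, algS₀L, tw5, M, inferInstance, hker, hF, hM, hcd⟩

end E1

section E2

attribute [local instance] Algebra.TensorProduct.rightAlgebra in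
/-- The local ring of `R ⊗ S₀` at the point given by a common residue field extension. -/
theorem exists_local_of_field (R₁ R S₀ : Type u) [CommRing R₁] [CommRing R] [CommRing S₀]
    [Algebra R₁ R] [Algebra R₁ S₀] [IsLocalRing S₀] (L : Type u) [Field L] [Algebra R L]
    [Algebra S₀ L] [Algebra R₁ L] [IsScalarTower R₁ R L] [IsScalarTower R₁ S₀ L]
    (hS₀ : ∀ z : S₀, algebraMap S₀ L z = 0 ↔ z ∈ maximalIdeal S₀) (H : Obj.Factor R₁ S₀) :
    ∃ (Λ : Type u) (_ : CommRing Λ) (_ : IsLocalRing Λ) (_ : Algebra R Λ) (_ : Algebra S₀ Λ)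
      (_ : Algebra R₁ Λ) (_ : IsScalarTower R₁ R Λ) (_ : IsScalarTower R₁ S₀ Λ)
      (_ : IsLocalHom (algebraMap S₀ Λ)),
      (maximalIdeal Λ).comap (algebraMap R Λ) = RingHom.ker (algebraMap R L) ∧
        Obj.Factor R Λ := by
  classical
  let lam : R ⊗[R₁] S₀ →ₐ[R₁] L :=
    Algebra.TensorProduct.productMap (IsScalarTower.toAlgHom R₁ R L)
      (IsScalarTower.toAlgHom R₁ S₀ L)
  let Q : Ideal (R ⊗[R₁] S₀) := RingHom.ker lam
  haveI hQ : Q.IsPrime := RingHom.ker_isPrime _
  have hlamR : ∀ r : R, lam (algebraMap R (R ⊗[R₁] S₀) r) = algebraMap R L r := by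
    intro r
    rw [Algebra.TensorProduct.algebraMap_apply, Algebra.algebraMap_self_apply]
    change Algebra.TensorProduct.productMap _ _ (r ⊗ₜ[R₁] (1 : S₀)) = _
    rw [Algebra.TensorProduct.productMap_apply_tmul, map_one, mul_one]
    rfl
  have hlamS : ∀ z : S₀, lam (algebraMap S₀ (R ⊗[R₁] S₀) z) = algebraMap S₀ L z := by
    intro z
    change Algebra.TensorProduct.productMap _ _ ((1 : R) ⊗ₜ[R₁] z) = _
    rw [Algebra.TensorProduct.productMap_apply_tmul, map_one, one_mul]
    rfl
  haveI tw1 : IsScalarTower R₁ R (Localization.AtPrime Q) :=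
    IsScalarTower.of_algebraMap_eq (fun x => by
      rw [IsScalarTower.algebraMap_apply R₁ (R ⊗[R₁] S₀) (Localization.AtPrime Q),
        IsScalarTower.algebraMap_apply R (R ⊗[R₁] S₀) (Localization.AtPrime Q),
        ← IsScalarTower.algebraMap_apply R₁ R (R ⊗[R₁] S₀)])
  haveI tw0 : IsScalarTower R₁ S₀ (R ⊗[R₁] S₀) := Algebra.TensorProduct.right_isScalarTower
  haveI tw2 : IsScalarTower R₁ S₀ (Localization.AtPrime Q) :=
    IsScalarTower.of_algebraMap_eq (fun x => by
      rw [IsScalarTower.algebraMap_apply R₁ (R ⊗[R₁] S₀) (Localization.AtPrime Q),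
        IsScalarTower.algebraMap_apply S₀ (R ⊗[R₁] S₀) (Localization.AtPrime Q),
        ← IsScalarTower.algebraMap_apply R₁ S₀ (R ⊗[R₁] S₀)])
  have hloc : IsLocalHom (algebraMap S₀ (Localization.AtPrime Q)) := by
    refine ⟨fun z hz => ?_⟩
    by_contra hnu
    have h0 : algebraMap S₀ L z = 0 := (hS₀ z).mpr ((mem_maximalIdeal z).mpr hnu)
    have h1 : algebraMap S₀ (R ⊗[R₁] S₀) z ∈ Q := by
      change lam _ = 0
      rw [hlamS, h0]
    have h2 : algebraMap (R ⊗[R₁] S₀) (Localization.AtPrime Q)
        (algebraMap S₀ (R ⊗[R₁] S₀) z) ∈ maximalIdeal (Localization.AtPrime Q) :=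
      (IsLocalization.AtPrime.to_map_mem_maximal_iff (Localization.AtPrime Q) Q _).mpr h1
    rw [← IsScalarTower.algebraMap_apply] at h2
    exact ((mem_maximalIdeal _).mp h2) hz
  have hcomap : (maximalIdeal (Localization.AtPrime Q)).comap
      (algebraMap R (Localization.AtPrime Q)) = RingHom.ker (algebraMap R L) := by
    ext r
    rw [Ideal.mem_comap, IsScalarTower.algebraMap_apply R (R ⊗[R₁] S₀) (Localization.AtPrime Q),
      IsLocalization.AtPrime.to_map_mem_maximal_iff (Localization.AtPrime Q) Q]
    change lam _ = 0 ↔ _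
    rw [hlamR, RingHom.mem_ker]
  have hF : Obj.Factor R (Localization.AtPrime Q) :=
    factor_comp R (R ⊗[R₁] S₀) _ (factor_baseChange H R)
      (factor_localization (R ⊗[R₁] S₀) (Localization.AtPrime Q) Q.primeCompl)
  exact ⟨Localization.AtPrime Q, inferInstance, inferInstance, inferInstance, inferInstance,
    inferInstance, tw1, tw2, hloc, hcomap, hF⟩

end E2

section E3

/-- **The ind-etale local ring over a point of multiplicative type.** -/
theorem exists_local (R : Type u) [CommRing R] (A : Type u) [CommRing A] [HopfAlgebra R A]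
    [Module.Flat R A] (hfp : Algebra.FinitePresentation R A) (p : Ideal R) [p.IsPrime]
    (hp : IsMultType p.ResidueField (p.ResidueField ⊗[R] A)) :
    ∃ (Λ : Type u) (_ : CommRing Λ) (_ : IsLocalRing Λ) (_ : Algebra R Λ) (M : Type u)
      (_ : CommGroup M), (maximalIdeal Λ).comap (algebraMap R Λ) = p ∧ Obj.Factor R Λ ∧
        Monoid.FG M ∧ HasClopenDiag Λ (Λ ⊗[R] A) M := by
  classical
  haveI := hfp
  obtain ⟨R₁, _, _, A₁, _, _, hR₁, hA₁ft, hA₁fl, ⟨ι⟩⟩ := hopf_model R A
  haveI : IsNoetherianRing R₁ := Algebra.FiniteType.isNoetherianRing ℤ R₁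
  haveI := hA₁fl
  haveI tw1 : IsScalarTower R₁ R (AlgebraicClosure p.ResidueField) := inferInstance
  have hkerL : RingHom.ker (algebraMap R (AlgebraicClosure p.ResidueField)) = p := by
    ext r
    rw [RingHom.mem_ker,
      IsScalarTower.algebraMap_apply R p.ResidueField (AlgebraicClosure p.ResidueField),
      map_eq_zero_iff _ (algebraMap p.ResidueField (AlgebraicClosure p.ResidueField)).injective,
      ← RingHom.mem_ker, Ideal.ker_algebraMap_residueField]
  have hL0 : IsMultType (AlgebraicClosure p.ResidueField)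
      (AlgebraicClosure p.ResidueField ⊗[R] A) :=
    Groth.Agent.Lib.R2H7.HomLift.isMultType_tower (X := p.ResidueField) hp
  have hL : IsMultType (AlgebraicClosure p.ResidueField)
      (AlgebraicClosure p.ResidueField ⊗[R₁] A₁) :=
    Groth.Agent.Lib.R2H7.HomLift.isMultType_of_equiv
      ((BCB.cancelBC R₁ R (AlgebraicClosure p.ResidueField) A₁).symm.trans
        (BCB.bcEquiv (AlgebraicClosure p.ResidueField) ι)) hL0
  obtain ⟨S₀, _, _, _, _, _, M, _, hS₀ker, hS₀F, hM, hcd⟩ :=
    exists_strict_model R₁ A₁ hA₁ft (AlgebraicClosure p.ResidueField) hL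
  obtain ⟨Λ, _, _, _, _, _, _, _, _, hcomap, hΛF⟩ :=
    exists_local_of_field R₁ R S₀ (AlgebraicClosure p.ResidueField) hS₀ker hS₀F
  refine ⟨Λ, inferInstance, inferInstance, inferInstance, M, inferInstance,
    hcomap.trans hkerL, hΛF, hM, ?_⟩
  exact (hcd.baseChange Λ).of_equiv
    ((BCB.bcEquiv Λ ι).symm.trans ((BCB.cancelBC R₁ R Λ A₁).trans (BCB.cancelBC R₁ S₀ Λ A₁).symm))

end E3

end Groth.Agent.Lib.R2H7.Fib
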