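import Mathlib
import Groth.Prelude.Def_SGA3b
import Groth.Agent.Lib.R2H7FibD
import Groth.Agent.Lib.R2H7FormalHom10
import Groth.Agent.Lib.R2H7LocalRigid
import Groth.Agent.Lib.R2H7HensFinC
import Groth.Agent.Lib.Helper25Torsion
import Groth.Agent.Lib.Helper12GeomConn

/-!
# R2H7FibF: when the diagonalisable clopen subgroup is everything

`Λ` a local `R`-algebra, `A` a Hopf algebra over `R` such that `Λ ⊗ A` has a diagonalisable clopen subgroup
`Λ ⊗ A → Λ[M]` with kernel `(e)`, `e ∈ 𝔪 (Λ ⊗ A)`.  Then `e = 0`, hence `Λ ⊗ A ≃ Λ[M]`, when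
* the fibres of `A` over `R` are connected (`nonempty_equiv_of_connected`), or
* the fibres of `A` are of multiplicative type and the torsion subgroups of `A` are finite over `R`
  (`nonempty_equiv_of_torsion`).
-/

set_option autoImplicit false
set_option linter.style.haveILetI false
universe u

namespace Groth.Agent.Lib.R2H7.Fib

open TensorProduct Coalgebra SGA3b IsLocalRing Groth.Agent.Lib.Helper25 AlgebraicGeometry
  CategoryTheory

section GeomConn

/-- A connected affine scheme over a field with a rational point is geometrically connected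
(ring form of helper12's `GeomConn`). -/
theorem connectedSpace_tensor_of_section (k : Type u) [Field k] (B : Type u) [CommRing B]
    [Algebra k B] (ε : B →ₐ[k] k) [ConnectedSpace (PrimeSpectrum B)] (K : Type u) [Field K]
    [Algebra k K] : ConnectedSpace (PrimeSpectrum (K ⊗[k] B)) := by
  have sq := (isPullback_SpecMap_of_isPushout _ _ _ _
    (CommRingCat.isPushout_tensorProduct k K B)).flip
  let σ : Spec (.of k) ⟶ Spec (.of B) := Spec.map (CommRingCat.ofHom (ε : B →+* k))
  have hσ : σ ≫ Spec.map (CommRingCat.ofHom (algebraMap k B)) = 𝟙 _ := by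
    rw [← Spec.map_comp, ← CommRingCat.ofHom_comp]
    have h1 : (ε : B →+* k).comp (algebraMap k B) = RingHom.id k := by
      ext x
      simp
    rw [h1]
    exact Spec.map_id _
  haveI : ConnectedSpace ↥(Spec (CommRingCat.of B)) :=
    inferInstanceAs (ConnectedSpace (PrimeSpectrum B))
  have h2 := Groth.Agent.Lib.Helper12.GeomConn.isConnected_preimage_of_isPullback sq σ hσ Set.univ
    isClosed_univ isConnected_univ (fun _ => trivial)
  rw [Set.preimage_univ] at h2
  have h3 : ConnectedSpace ↥(Spec (CommRingCat.of (K ⊗[k] B))) := connectedSpace_iff_univ.mpr h2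
  exact h3

theorem connectedSpace_of_ringEquiv {X Y : Type*} [CommRing X] [CommRing Y] (e : X ≃+* Y)
    [ConnectedSpace (PrimeSpectrum X)] : ConnectedSpace (PrimeSpectrum Y) :=
  (PrimeSpectrum.homeomorphOfRingEquiv e).surjective.connectedSpace
    (PrimeSpectrum.homeomorphOfRingEquiv e).continuous

end GeomConn

section Fibres

variable {Λ : Type u} [CommRing Λ] {C : Type u} [CommRing C] [Algebra Λ C]

/-- An idempotent which vanishes in every fibre is zero. -/
theorem eq_zero_of_fibres (e : C) (he : IsIdempotentElem e)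
    (h : ∀ (q : Ideal Λ) [q.IsPrime], (1 : q.ResidueField) ⊗ₜ[Λ] e = 0) : e = 0 := by
  have hmem : ∀ (Q : Ideal C) [Q.IsPrime], e ∈ Q := by
    intro Q hQ
    set q : Ideal Λ := Q.comap (algebraMap Λ C) with hq
    haveI : q.IsPrime := Ideal.comap_isPrime _ _
    have h1 := h q
    let φ : q.ResidueField →ₐ[Λ] Q.ResidueField :=
      Ideal.ResidueField.mapₐ q Q (Algebra.ofId Λ C) rfl
    let g : q.ResidueField ⊗[Λ] C →ₐ[Λ] Q.ResidueField :=
      Algebra.TensorProduct.lift φ (IsScalarTower.toAlgHom Λ C Q.ResidueField)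
        (fun _ _ => Commute.all _ _)
    have h2 := congrArg g h1
    rw [map_zero, Algebra.TensorProduct.lift_tmul, map_one, one_mul] at h2
    exact Ideal.algebraMap_residueField_eq_zero.mp h2
  have hnil : IsNilpotent e := by
    rw [← mem_nilradical, nilradical_eq_sInf, Ideal.mem_sInf]
    intro Q hQ
    haveI : Q.IsPrime := hQ
    exact hmem Q
  obtain ⟨n, hn⟩ := hnil
  have h3 := he.pow_succ_eq n
  rw [pow_succ, hn, zero_mul] at h3
  exact h3.symm

end Fibres

section Transfer

variable (R : Type u) [CommRing R] (A : Type u) [CommRing A] [HopfAlgebra R A]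
  (Λ : Type u) [CommRing Λ] [Algebra R Λ]

/-- The fibres of `Λ ⊗ A` over `Λ` are of multiplicative type when those of `A` over `R` are. -/
theorem isMultType_fibre_baseChange
    (hfib : ∀ (p : Ideal R) [p.IsPrime], IsMultType p.ResidueField (p.ResidueField ⊗[R] A))
    (q : Ideal Λ) [q.IsPrime] :
    IsMultType q.ResidueField (q.ResidueField ⊗[Λ] (Λ ⊗[R] A)) := by
  let φ : (q.comap (algebraMap R Λ)).ResidueField →ₐ[R] q.ResidueField :=
    Ideal.ResidueField.mapₐ (q.comap (algebraMap R Λ)) q (Algebra.ofId R Λ) rfl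
  letI : Algebra (q.comap (algebraMap R Λ)).ResidueField q.ResidueField := φ.toRingHom.toAlgebra
  haveI : IsScalarTower R (q.comap (algebraMap R Λ)).ResidueField q.ResidueField :=
    IsScalarTower.of_algebraMap_eq (fun x => (φ.commutes x).symm)
  have h1 : IsMultType q.ResidueField (q.ResidueField ⊗[R] A) :=
    Groth.Agent.Lib.R2H7.HomLift.isMultType_tower
      (X := (q.comap (algebraMap R Λ)).ResidueField) (hfib (q.comap (algebraMap R Λ)))
  exact Groth.Agent.Lib.R2H7.HomLift.isMultType_of_equiv (BCB.cancelBC R Λ q.ResidueField A) h1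

/-- The fibres of `Λ ⊗ A` over `Λ` are connected when those of `A` over `R` are. -/
theorem connectedSpace_fibre_baseChange
    (hconn : ∀ (p : Ideal R) [p.IsPrime], ConnectedSpace (PrimeSpectrum (p.ResidueField ⊗[R] A)))
    (q : Ideal Λ) [q.IsPrime] :
    ConnectedSpace (PrimeSpectrum (q.ResidueField ⊗[Λ] (Λ ⊗[R] A))) := by
  let φ : (q.comap (algebraMap R Λ)).ResidueField →ₐ[R] q.ResidueField :=
    Ideal.ResidueField.mapₐ (q.comap (algebraMap R Λ)) q (Algebra.ofId R Λ) rfl
  letI : Algebra (q.comap (algebraMap R Λ)).ResidueField q.ResidueField := φ.toRingHom.toAlgebra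
  haveI : IsScalarTower R (q.comap (algebraMap R Λ)).ResidueField q.ResidueField :=
    IsScalarTower.of_algebraMap_eq (fun x => (φ.commutes x).symm)
  haveI := hconn (q.comap (algebraMap R Λ))
  haveI h1 : ConnectedSpace (PrimeSpectrum (q.ResidueField ⊗[(q.comap (algebraMap R Λ)).ResidueField]
      ((q.comap (algebraMap R Λ)).ResidueField ⊗[R] A))) :=
    connectedSpace_tensor_of_section (q.comap (algebraMap R Λ)).ResidueField
      ((q.comap (algebraMap R Λ)).ResidueField ⊗[R] A)
      (Bialgebra.counitAlgHom (q.comap (algebraMap R Λ)).ResidueField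
        ((q.comap (algebraMap R Λ)).ResidueField ⊗[R] A)) q.ResidueField
  haveI h2 : ConnectedSpace (PrimeSpectrum (q.ResidueField ⊗[R] A)) :=
    connectedSpace_of_ringEquiv
      (BCB.cancelBC R (q.comap (algebraMap R Λ)).ResidueField q.ResidueField
        A).toAlgEquiv.toRingEquiv
  exact connectedSpace_of_ringEquiv
    (BCB.cancelBC R Λ q.ResidueField A).symm.toAlgEquiv.toRingEquiv

end Transfer

section Equiv

variable {Λ : Type u} [CommRing Λ] [IsLocalRing Λ] {C : Type u} [CommRing C] [HopfAlgebra Λ C]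
  {M : Type u} [CommGroup M]

/-- If every augmentation idempotent of `C` in `𝔪 C` vanishes, the diagonalisable clopen subgroup is
all of `C`. -/
theorem HasClopenDiag.nonempty_equiv (h : HasClopenDiag Λ C M)
    (h0 : ∀ e : C, IsIdempotentElem e → counit (R := Λ) e = 0 →
      e ∈ (maximalIdeal Λ).map (algebraMap Λ C) → e = 0) :
    Nonempty (C ≃ₐc[Λ] MonoidAlgebra Λ M) := by
  obtain ⟨Φ, e, hs, hi, hk, hm⟩ := h
  have hΦe : Φ e = 0 := (hk e).mp (Ideal.subset_span rfl)
  have hce : counit (R := Λ) e = 0 := by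
    have h1 := CoalgHomClass.counit_comp_apply Φ e
    rw [hΦe, map_zero] at h1
    exact h1.symm
  have he0 : e = 0 := h0 e hi hce hm
  have hinj : Function.Injective Φ := by
    rw [injective_iff_map_eq_zero]
    intro y hy
    have h1 := (hk y).mpr hy
    rw [he0, Ideal.mem_span_singleton'] at h1
    obtain ⟨a, ha⟩ := h1
    rw [← ha, mul_zero]
  exact ⟨BialgEquiv.ofBijective Φ ⟨hinj, hs⟩⟩

end Equiv

section BcQ

variable {R : Type u} [CommRing R] {A : Type u} [CommRing A] [Algebra R A]
  (T : Type u) [CommRing T] [Algebra R T] (K : Ideal A)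

/-- The base change of the quotient map, as an algebra map. -/
noncomputable def bcQ : T ⊗[R] A →ₐ[T] T ⊗[R] (A ⧸ K) :=
  Algebra.TensorProduct.map (AlgHom.id T T) (Ideal.Quotient.mkₐ R K)

variable {T K}

theorem bcQ_eq_zero_iff (z : T ⊗[R] A) :
    bcQ T K z = 0 ↔ z ∈ K.map (Algebra.TensorProduct.includeRight : A →ₐ[R] T ⊗[R] A) := by
  have h1 := Algebra.TensorProduct.lTensor_ker (A := T) (Ideal.Quotient.mkₐ R K)
    (Ideal.Quotient.mkₐ_surjective R K)
  have h0 : RingHom.ker (Ideal.Quotient.mkₐ R K) = K := by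
    ext x
    rw [RingHom.mem_ker, Ideal.Quotient.mkₐ_eq_mk, Ideal.Quotient.eq_zero_iff_mem]
  rw [h0] at h1
  rw [← h1, RingHom.mem_ker]
  have h2 : ∀ z : T ⊗[R] A, bcQ T K z =
      Algebra.TensorProduct.map (AlgHom.id R T) (Ideal.Quotient.mkₐ R K) z := by
    intro z
    induction z using TensorProduct.induction_on with
    | zero => rw [map_zero, map_zero]
    | tmul t c => rfl
    | add x y hx hy => rw [map_add, map_add, hx, hy]
  rw [h2]

end BcQ

section Cases

variable (R : Type u) [CommRing R] (A : Type u) [CommRing A] [HopfAlgebra R A]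
  (Λ : Type u) [CommRing Λ] [IsLocalRing Λ] [Algebra R Λ] {M : Type u} [CommGroup M]

/-- Connected fibres. -/
theorem nonempty_equiv_of_connected
    (hconn : ∀ (p : Ideal R) [p.IsPrime], ConnectedSpace (PrimeSpectrum (p.ResidueField ⊗[R] A)))
    (h : HasClopenDiag Λ (Λ ⊗[R] A) M) :
    Nonempty (Λ ⊗[R] A ≃ₐc[Λ] MonoidAlgebra Λ M) := by
  apply h.nonempty_equiv
  intro e he hce _
  exact Groth.Agent.Lib.R2H7.FormalHom.eq_zero_of_connected_fibres
    (fun q _ => connectedSpace_fibre_baseChange R A Λ hconn q) e he hce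

/-- Multiplicative fibres and finite torsion subgroups. -/
theorem nonempty_equiv_of_torsion (hft : Algebra.FiniteType R A)
    (hfib : ∀ (p : Ideal R) [p.IsPrime], IsMultType p.ResidueField (p.ResidueField ⊗[R] A))
    (hfin : ∀ n : ℕ, 0 < n → Module.Finite R (A ⧸ torsionIdeal R A n))
    (h : HasClopenDiag Λ (Λ ⊗[R] A) M) :
    Nonempty (Λ ⊗[R] A ≃ₐc[Λ] MonoidAlgebra Λ M) := by
  haveI := hft
  apply h.nonempty_equiv
  intro e he _ hm
  -- `e` lies in all torsion ideals
  have hA : ∀ n : ℕ, 0 < n → e ∈ torsionIdeal Λ (Λ ⊗[R] A) n := by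
    intro n hn
    haveI := hfin n hn
    have h1 : bcQ Λ (torsionIdeal R A n) e = 0 :=
      Groth.Agent.Lib.R2H7.HensFin.idem_eq_zero_of_mem_map (A := Λ)
        (he.map (bcQ Λ (torsionIdeal R A n)))
        (Groth.Agent.Lib.R2H7.HensFin.algHom_mem_map
          (bcQ Λ (torsionIdeal R A n)) _ hm)
    have h2 := (bcQ_eq_zero_iff e).mp h1
    have h3 : (torsionIdeal R A n).map
        (Algebra.TensorProduct.includeRight : A →ₐ[R] Λ ⊗[R] A) ≤
        torsionIdeal Λ (Λ ⊗[R] A) n := by
      rw [Ideal.map_le_iff_le_comap]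
      intro a ha
      exact Groth.Agent.Lib.Helper25.Tors.one_tmul_mem_torsionIdeal Λ n ha
    exact h3 h2
  -- hence vanishes in all fibres
  apply eq_zero_of_fibres (Λ := Λ) e he
  intro q _
  exact Groth.Agent.Lib.R2H7.LocalRigid.eq_zero_of_forall_mem_torsionIdeal
    (inferInstance : Algebra.FiniteType q.ResidueField (q.ResidueField ⊗[Λ] (Λ ⊗[R] A)))
    (isMultType_fibre_baseChange R A Λ hfib q) _
    (fun n hn => Groth.Agent.Lib.Helper25.Tors.one_tmul_mem_torsionIdeal q.ResidueField n (hA n hn))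

end Cases

end Groth.Agent.Lib.R2H7.Fib
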