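import Mathlib
import Groth.Prelude.Def_SGA3b
import Groth.Agent.Lib.R2H7FibD
import Groth.Agent.Lib.R2H7FormalHom2
import Groth.Agent.Lib.R2H7HopfDesc
import Groth.Agent.Lib.R2H7KerFT1

/-!
# R2H7FibG: spreading out an isomorphism with a group algebra from a filtered colimit

`(G j, g j)` a colimit system of `R`-algebras with colimit `Λ` (`Helper18ColimSys.Sys`), `A` a finitely
presented Hopf algebra over `R`, `M` a finitely generated commutative group.  An isomorphism of
bialgebras `Λ ⊗ A ≃ Λ[M]` comes from an isomorphism `G j ⊗ A ≃ (G j)[M]` for some `j` (`spread_iso`).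

The homomorphism `A → T[M]` is controlled through its coefficients (`cE`, `dCoef`), the inverse through
`thetaInv`.
-/

set_option autoImplicit false
set_option linter.style.haveILetI false
universe u

namespace Groth.Agent.Lib.R2H7.Fib

open TensorProduct Coalgebra SGA3b Groth.Agent.Lib.Helper25 Groth.Agent.Lib.Helper18ColimSys
  Groth.Agent.Lib.R2H7.FormalHom Groth.Agent.Lib.R2H7.HopfDesc Groth.Agent.Lib.R2H7.GLLift

section MonSys

variable {R : Type u} [CommRing R] (M : Type u) [CommMonoid M]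

theorem mapAlgHom_mapAlgHom {X Y Z : Type u} [CommRing X] [CommRing Y] [CommRing Z] [Algebra R X]
    [Algebra R Y] [Algebra R Z] (φ : X →ₐ[R] Y) (γ : Y →ₐ[R] Z) (x : MonoidAlgebra X M) :
    MonoidAlgebra.mapAlgHom M γ (MonoidAlgebra.mapAlgHom M φ x) =
      MonoidAlgebra.mapAlgHom M (γ.comp φ) x := by
  apply MonoidAlgebra.ext
  apply Finsupp.ext
  intro m
  rw [MonoidAlgebra.coeff_mapAlgHom, MonoidAlgebra.coeff_mapAlgHom, MonoidAlgebra.coeff_mapAlgHom]
  rfl

theorem mapAlgHom_smul {X Y : Type u} [CommRing X] [CommRing Y] [Algebra R X] [Algebra R Y]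
    (φ : X →ₐ[R] Y) (t : X) (x : MonoidAlgebra X M) :
    MonoidAlgebra.mapAlgHom M φ (t • x) = φ t • MonoidAlgebra.mapAlgHom M φ x := by
  apply MonoidAlgebra.ext
  apply Finsupp.ext
  intro m
  rw [MonoidAlgebra.coeff_mapAlgHom, MonoidAlgebra.coeff_smul, MonoidAlgebra.coeff_smul,
    Finsupp.smul_apply, Finsupp.smul_apply, MonoidAlgebra.coeff_mapAlgHom, smul_eq_mul,
    smul_eq_mul, map_mul]

variable {ι : Type u} {G : ι → Type u} [∀ i, CommRing (G i)] [∀ i, Algebra R (G i)]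
  {Λ : Type u} [CommRing Λ] [Algebra R Λ] {g : ∀ i, G i →ₐ[R] Λ}

/-- Group algebras over a colimit system form a colimit system. -/
theorem sys_monoidAlgebra (hS : Groth.Agent.Lib.Helper18ColimSys.Sys R G Λ g) :
    Groth.Agent.Lib.Helper18ColimSys.Sys R (fun j => MonoidAlgebra (G j) M) (MonoidAlgebra Λ M)
      (fun j => MonoidAlgebra.mapAlgHom M (g j)) where
  nonempty := hS.nonempty
  surj x := by
    induction x using MonoidAlgebra.induction_linear with
    | zero =>
      obtain ⟨i⟩ := hS.nonempty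
      exact ⟨i, 0, map_zero _⟩
    | add x y hx hy =>
      obtain ⟨i, x', rfl⟩ := hx
      obtain ⟨j, y', rfl⟩ := hy
      obtain ⟨l, φ, ψ, h1, h2⟩ := hS.dir i j
      refine ⟨l, MonoidAlgebra.mapAlgHom M φ x' + MonoidAlgebra.mapAlgHom M ψ y', ?_⟩
      rw [map_add, mapAlgHom_mapAlgHom, mapAlgHom_mapAlgHom, h1, h2]
    | single m a =>
      obtain ⟨i, a', rfl⟩ := hS.surj a
      exact ⟨i, MonoidAlgebra.single m a', MonoidAlgebra.mapAlgHom_single _ _ _⟩
  dir i j := by
    obtain ⟨l, φ, ψ, h1, h2⟩ := hS.dir i j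
    refine ⟨l, MonoidAlgebra.mapAlgHom M φ, MonoidAlgebra.mapAlgHom M ψ, ?_, ?_⟩
    · apply AlgHom.ext
      intro x
      change MonoidAlgebra.mapAlgHom M (g l) (MonoidAlgebra.mapAlgHom M φ x) = _
      rw [mapAlgHom_mapAlgHom, h1]
    · apply AlgHom.ext
      intro x
      change MonoidAlgebra.mapAlgHom M (g l) (MonoidAlgebra.mapAlgHom M ψ x) = _
      rw [mapAlgHom_mapAlgHom, h2]
  ker i x hx := by
    classical
    obtain ⟨j, φ, h1, h2⟩ := hS.kill i (x.coeff.support.image x.coeff) (by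
      intro y hy
      obtain ⟨m, -, rfl⟩ := Finset.mem_image.mp hy
      rw [← MonoidAlgebra.coeff_mapAlgHom, hx]
      rfl)
    refine ⟨j, MonoidAlgebra.mapAlgHom M φ, ?_, ?_⟩
    · apply AlgHom.ext
      intro y
      change MonoidAlgebra.mapAlgHom M (g j) (MonoidAlgebra.mapAlgHom M φ y) = _
      rw [mapAlgHom_mapAlgHom, h1]
    · apply MonoidAlgebra.ext
      apply Finsupp.ext
      intro m
      rw [MonoidAlgebra.coeff_mapAlgHom]
      by_cases hm : m ∈ x.coeff.support
      · rw [h2 _ (Finset.mem_image_of_mem _ hm)]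
        rfl
      · rw [Finsupp.notMem_support_iff.mp hm, map_zero]
        rfl

end MonSys

section Coeff

variable {R : Type u} [CommRing R] {A : Type u} [CommRing A] [Bialgebra R A]
  {M : Type u} [CommGroup M]
  {T : Type u} [CommRing T] [Algebra R T] {T' : Type u} [CommRing T'] [Algebra R T']

/-- The counit defect. -/
noncomputable def cE (ψ : A →ₐ[R] MonoidAlgebra T M) (a : A) : T :=
  counit (R := T) (ψ a) - algebraMap R T (counit (R := R) a)

/-- The comultiplication defect, coefficientwise. -/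
noncomputable def dCoef (ψ : A →ₐ[R] MonoidAlgebra T M) (a : A) (m m' : M) : T :=
  coeffPair T m m' (j2 (R' := T) ψ (comul (R := R) a) - comul (R := T) (ψ a))

theorem counit_mapAlgHom (φ : T →ₐ[R] T') (x : MonoidAlgebra T M) :
    counit (R := T') (MonoidAlgebra.mapAlgHom M φ x) = φ (counit (R := T) x) := by
  induction x using MonoidAlgebra.induction_linear with
  | zero => simp
  | add x y hx hy => rw [map_add, map_add, hx, hy, map_add, map_add]
  | single m a =>
    rw [MonoidAlgebra.mapAlgHom_single, MonoidAlgebra.counit_single, MonoidAlgebra.counit_single]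
    rfl

theorem cE_map (φ : T →ₐ[R] T') (ψ : A →ₐ[R] MonoidAlgebra T M) (a : A) :
    cE ((MonoidAlgebra.mapAlgHom M φ).comp ψ) a = φ (cE ψ a) := by
  unfold cE
  rw [map_sub, AlgHom.comp_apply, counit_mapAlgHom, AlgHom.commutes]

theorem coeffPair_j2 (ψ : A →ₐ[R] MonoidAlgebra T M) (m m' : M) (t : A ⊗[R] A) :
    coeffPair T m m' (j2 (R' := T) ψ t) =
      LinearMap.mul' R T (TensorProduct.map (cfL ψ m) (cfL ψ m') t) := by
  induction t using TensorProduct.induction_on with
  | zero => simp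
  | tmul a b =>
    rw [j2_tmul, TensorProduct.map_tmul, LinearMap.mul'_apply]
    rfl
  | add x y hx hy => simp only [map_add, hx, hy]

theorem map_mul'_cfL (φ : T →ₐ[R] T') (ψ : A →ₐ[R] MonoidAlgebra T M) (m m' : M) (t : A ⊗[R] A) :
    φ (LinearMap.mul' R T (TensorProduct.map (cfL ψ m) (cfL ψ m') t)) =
      LinearMap.mul' R T' (TensorProduct.map (cfL ((MonoidAlgebra.mapAlgHom M φ).comp ψ) m)
        (cfL ((MonoidAlgebra.mapAlgHom M φ).comp ψ) m') t) := by
  induction t using TensorProduct.induction_on with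
  | zero => simp
  | tmul a b =>
    rw [TensorProduct.map_tmul, TensorProduct.map_tmul, LinearMap.mul'_apply,
      LinearMap.mul'_apply, map_mul, cfL_apply, cfL_apply, cfL_apply, cfL_apply,
      AlgHom.comp_apply, AlgHom.comp_apply, MonoidAlgebra.coeff_mapAlgHom,
      MonoidAlgebra.coeff_mapAlgHom]
  | add x y hx hy => simp only [map_add, hx, hy]

open scoped Classical in
theorem dCoef_eq (ψ : A →ₐ[R] MonoidAlgebra T M) (a : A) (m m' : M) :
    dCoef ψ a m m' = LinearMap.mul' R T (TensorProduct.map (cfL ψ m) (cfL ψ m')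
      (comul (R := R) a)) - if m = m' then (ψ a).coeff m else 0 := by
  unfold dCoef
  rw [map_sub, coeffPair_j2, coeffPair_comul]

theorem dCoef_map (φ : T →ₐ[R] T') (ψ : A →ₐ[R] MonoidAlgebra T M) (a : A) (m m' : M) :
    dCoef ((MonoidAlgebra.mapAlgHom M φ).comp ψ) a m m' = φ (dCoef ψ a m m') := by
  classical
  rw [dCoef_eq, dCoef_eq, map_sub, map_mul'_cfL]
  congr 1
  split_ifs
  · rw [AlgHom.comp_apply, MonoidAlgebra.coeff_mapAlgHom]
  · rw [map_zero]

/-- Only finitely many comultiplication defects are nonzero. -/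
theorem exists_finset_dCoef (ψ : A →ₐ[R] MonoidAlgebra T M) (a : A) :
    ∃ F : Finset (M × M), ∀ m m', (m, m') ∉ F → dCoef ψ a m m' = 0 := by
  refine ⟨(pairEquiv T M (j2 (R' := T) ψ (comul (R := R) a) - comul (R := T) (ψ a))).support,
    fun m m' h => ?_⟩
  unfold dCoef
  rw [← pairEquiv_apply]
  exact Finsupp.notMem_support_iff.mp h

theorem dCoef_levelHom (θ : T ⊗[R] A →ₐc[T] MonoidAlgebra T M) (a : A) (m m' : M) :
    dCoef (levelHom θ) a m m' = 0 := by
  classical
  rw [dCoef_eq, comul_levelHom, sub_self]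

theorem cE_levelHom (θ : T ⊗[R] A →ₐc[T] MonoidAlgebra T M) (a : A) :
    cE (levelHom θ) a = 0 := by
  unfold cE
  rw [counit_levelHom, sub_self]

/-- A map `A → T[M]` without defects on a set of generators extends to a homomorphism of
bialgebras. -/
theorem exists_bialgHom_of_defects (ψ : A →ₐ[R] MonoidAlgebra T M) (s : Set A)
    (hs : Algebra.adjoin R s = ⊤) (hε : ∀ a ∈ s, cE ψ a = 0)
    (hΔ : ∀ a ∈ s, ∀ m m', dCoef ψ a m m' = 0) :
    ∃ Φ : T ⊗[R] A →ₐc[T] MonoidAlgebra T M, ∀ (t : T) (a : A), Φ (t ⊗ₜ[R] a) = t • ψ a := by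
  have h1 : ((Bialgebra.counitAlgHom T (MonoidAlgebra T M)).restrictScalars R).comp ψ =
      (Algebra.ofId R T).comp (Bialgebra.counitAlgHom R A) := by
    apply AlgHom.ext_of_adjoin_eq_top hs
    intro a ha
    have := hε a ha
    unfold cE at this
    exact sub_eq_zero.mp this
  have h2 : ((Bialgebra.comulAlgHom T (MonoidAlgebra T M)).restrictScalars R).comp ψ =
      (j2 (R' := T) ψ).comp (Bialgebra.comulAlgHom R A) := by
    apply AlgHom.ext_of_adjoin_eq_top hs
    intro a ha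
    symm
    apply tensor_ext_coeffPair
    intro m m'
    have := hΔ a ha m m'
    unfold dCoef at this
    rw [map_sub] at this
    exact sub_eq_zero.mp this
  exact exists_bialgHom ψ (fun a => (DFunLike.congr_fun h2 a).symm)
    (fun a => (DFunLike.congr_fun h1 a).symm)

end Coeff

section Kill

variable {R : Type u} [CommRing R] (M : Type u) [CommMonoid M]
  {ι : Type u} {G : ι → Type u} [∀ i, CommRing (G i)] [∀ i, Algebra R (G i)]
  {Λ : Type u} [CommRing Λ] [Algebra R Λ] {g : ∀ i, G i →ₐ[R] Λ}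

/-- Killing finitely many elements of a group algebra at a later stage, by a map of the base. -/
theorem kill_monoidAlgebra (hS : Groth.Agent.Lib.Helper18ColimSys.Sys R G Λ g) (i : ι)
    (X : Finset (MonoidAlgebra (G i) M))
    (hX : ∀ x ∈ X, MonoidAlgebra.mapAlgHom M (g i) x = 0) :
    ∃ j, ∃ φ : G i →ₐ[R] G j, (g j).comp φ = g i ∧
      ∀ x ∈ X, MonoidAlgebra.mapAlgHom M φ x = 0 := by
  classical
  obtain ⟨j, φ, h1, h2⟩ := hS.kill i (X.biUnion (fun x => x.coeff.support.image x.coeff)) (by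
    intro y hy
    obtain ⟨x, hx, hy⟩ := Finset.mem_biUnion.mp hy
    obtain ⟨m, -, rfl⟩ := Finset.mem_image.mp hy
    rw [← MonoidAlgebra.coeff_mapAlgHom, hX x hx]
    rfl)
  refine ⟨j, φ, h1, fun x hx => ?_⟩
  apply MonoidAlgebra.ext
  apply Finsupp.ext
  intro m
  rw [MonoidAlgebra.coeff_mapAlgHom]
  by_cases hm : m ∈ x.coeff.support
  · rw [h2 _ (Finset.mem_biUnion.mpr ⟨x, hx, Finset.mem_image_of_mem _ hm⟩)]
    rfl
  · rw [Finsupp.notMem_support_iff.mp hm, map_zero]
    rfl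

end Kill

section Theta

variable {R : Type u} [CommRing R] {A : Type u} [CommRing A] [HopfAlgebra R A]
  {M : Type u} [CommGroup M]
  {T : Type u} [CommRing T] [Algebra R T] {T' : Type u} [CommRing T'] [Algebra R T']

theorem mapAlgHom_theta (φ : T →ₐ[R] T') (ψ : A →ₐ[R] MonoidAlgebra T M) (x : T ⊗[R] A) :
    MonoidAlgebra.mapAlgHom M φ (theta (R' := T) ψ x) =
      theta (R' := T') ((MonoidAlgebra.mapAlgHom M φ).comp ψ) (Hmap A φ x) := by
  induction x using TensorProduct.induction_on with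
  | zero => simp
  | tmul t a =>
    rw [theta_tmul, mapAlgHom_smul, Algebra.TensorProduct.map_tmul, theta_tmul]
    rfl
  | add x y hx hy => rw [map_add, map_add, hx, hy, map_add, map_add]

/-- The `T`-algebra map `T[M] → T ⊗ A` of an `R`-algebra map `R[M] → T ⊗ A`. -/
noncomputable def thetaInv (χ : MonoidAlgebra R M →ₐ[R] T ⊗[R] A) :
    MonoidAlgebra T M →ₐ[T] T ⊗[R] A :=
  MonoidAlgebra.lift T (T ⊗[R] A) M
    ((χ : MonoidAlgebra R M →* T ⊗[R] A).comp (MonoidAlgebra.of R M))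

theorem thetaInv_single (χ : MonoidAlgebra R M →ₐ[R] T ⊗[R] A) (m : M) (t : T) :
    thetaInv χ (MonoidAlgebra.single m t) = t • χ (MonoidAlgebra.single m 1) := by
  unfold thetaInv
  rw [MonoidAlgebra.lift_single]
  rfl

theorem Hmap_thetaInv (φ : T →ₐ[R] T') (χ : MonoidAlgebra R M →ₐ[R] T ⊗[R] A)
    (y : MonoidAlgebra T M) :
    Hmap A φ (thetaInv χ y) =
      thetaInv ((Hmap A φ).comp χ) (MonoidAlgebra.mapAlgHom M φ y) := by
  induction y using MonoidAlgebra.induction_linear with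
  | zero => simp
  | add x y hx hy => rw [map_add, map_add, hx, hy, map_add, map_add]
  | single m t =>
    rw [thetaInv_single, Hmap_smul, MonoidAlgebra.mapAlgHom_single, thetaInv_single]
    rfl

theorem theta_levelHom (θ : T ⊗[R] A →ₐc[T] MonoidAlgebra T M) (x : T ⊗[R] A) :
    theta (R' := T) (levelHom θ) x = θ x := by
  induction x using TensorProduct.induction_on with
  | zero => simp
  | tmul t a =>
    rw [theta_tmul, levelHom_apply, ← map_smul, TensorProduct.smul_tmul', smul_eq_mul, mul_one]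
  | add x y hx hy => rw [map_add, map_add, hx, hy]

/-- The `R`-algebra map `R[M] → T ⊗ A` of the inverse of an isomorphism `T ⊗ A ≃ T[M]`. -/
noncomputable def chiOf (θ : T ⊗[R] A ≃ₐc[T] MonoidAlgebra T M) :
    MonoidAlgebra R M →ₐ[R] T ⊗[R] A :=
  ((θ.symm.toAlgEquiv : MonoidAlgebra T M →ₐ[T] T ⊗[R] A).restrictScalars R).comp
    (MonoidAlgebra.mapAlgHom M (Algebra.ofId R T))

theorem thetaInv_chiOf (θ : T ⊗[R] A ≃ₐc[T] MonoidAlgebra T M) (y : MonoidAlgebra T M) :
    thetaInv (chiOf θ) y = θ.symm y := by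
  induction y using MonoidAlgebra.induction_linear with
  | zero => simp
  | add x y hx hy => rw [map_add, map_add, hx, hy]
  | single m t =>
    rw [thetaInv_single]
    have h1 : chiOf θ (MonoidAlgebra.single m 1) = θ.symm (MonoidAlgebra.single m 1) := by
      unfold chiOf
      rw [AlgHom.comp_apply, MonoidAlgebra.mapAlgHom_single, map_one]
      rfl
    rw [h1, ← map_smul, ← Groth.Agent.Lib.R2H7.DiagNil.single_eq_smul]

end Theta

section Main

variable {R : Type u} [CommRing R] {ι : Type u} {G : ι → Type u} [∀ i, CommRing (G i)]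
  [∀ i, Algebra R (G i)] {Λ : Type u} [CommRing Λ] [Algebra R Λ] {g : ∀ i, G i →ₐ[R] Λ}

/-- **Spreading out an isomorphism with a group algebra.** -/
theorem spread_iso (hS : Groth.Agent.Lib.Helper18ColimSys.Sys R G Λ g) (A : Type u) [CommRing A]
    [HopfAlgebra R A] [Algebra.FinitePresentation R A] (M : Type u) [CommGroup M]
    (hM : Monoid.FG M) (θ : Λ ⊗[R] A ≃ₐc[Λ] MonoidAlgebra Λ M) :
    ∃ j, Nonempty (G j ⊗[R] A ≃ₐc[G j] MonoidAlgebra (G j) M) := by
  classical
  obtain ⟨s, hs⟩ := (inferInstance : Algebra.FiniteType R A).out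
  obtain ⟨SM, hSM⟩ := Monoid.fg_def.mp hM
  haveI : Algebra.FinitePresentation R (MonoidAlgebra R M) :=
    Groth.Agent.Lib.R2H7.KerFT.finitePresentation_monoidAlgebra R M
      (Group.fg_iff_monoid_fg.mpr hM)
  -- the data over `Λ`
  have hθ1 : ∀ x, theta (R' := Λ) (levelHom (θ : Λ ⊗[R] A →ₐc[Λ] MonoidAlgebra Λ M)) x = θ x :=
    theta_levelHom (θ : Λ ⊗[R] A →ₐc[Λ] MonoidAlgebra Λ M)
  -- a first stage
  obtain ⟨j1, ψ1, hψ1⟩ := (sys_monoidAlgebra M hS).lift_algHom A
    (levelHom (θ : Λ ⊗[R] A →ₐc[Λ] MonoidAlgebra Λ M))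
  obtain ⟨j2, χ2, hχ2⟩ := (hS.tensorRight A).lift_algHom (MonoidAlgebra R M) (chiOf θ)
  obtain ⟨j3, φ1, φ2, h31, h32⟩ := hS.dir j1 j2
  have hψ3 : (MonoidAlgebra.mapAlgHom M (g j3)).comp ((MonoidAlgebra.mapAlgHom M φ1).comp ψ1) =
      levelHom (θ : Λ ⊗[R] A →ₐc[Λ] MonoidAlgebra Λ M) := by
    rw [← hψ1]
    apply AlgHom.ext
    intro a
    change MonoidAlgebra.mapAlgHom M (g j3) (MonoidAlgebra.mapAlgHom M φ1 (ψ1 a)) = _
    rw [mapAlgHom_mapAlgHom, h31]
    rfl
  have hχ3 : (Hmap A (g j3)).comp ((Hmap A φ2).comp χ2) = chiOf θ := by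
    rw [← hχ2]
    apply AlgHom.ext
    intro y
    change Hmap A (g j3) (Hmap A φ2 (χ2 y)) = _
    rw [Groth.Agent.Lib.R2H7.HomLift.Hmap_comp, h32]
    rfl
  generalize hψ3def : (MonoidAlgebra.mapAlgHom M φ1).comp ψ1 = ψ3 at hψ3
  generalize hχ3def : (Hmap A φ2).comp χ2 = χ3 at hχ3
  -- pushing the data forward
  have hpush1 : ∀ {T' : Type u} [CommRing T'] [Algebra R T'] (φ : G j3 →ₐ[R] T') (m : M),
      MonoidAlgebra.mapAlgHom M φ
        (theta (R' := G j3) ψ3 (thetaInv χ3 (MonoidAlgebra.single m 1)) -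
          MonoidAlgebra.single m 1) =
      theta (R' := T') ((MonoidAlgebra.mapAlgHom M φ).comp ψ3)
        (thetaInv ((Hmap A φ).comp χ3) (MonoidAlgebra.single m 1)) -
          MonoidAlgebra.single m 1 := by
    intro T' _ _ φ m
    rw [map_sub, mapAlgHom_theta, Hmap_thetaInv, MonoidAlgebra.mapAlgHom_single, map_one]
  have hpush2 : ∀ {T' : Type u} [CommRing T'] [Algebra R T'] (φ : G j3 →ₐ[R] T') (a : A),
      Hmap A φ (thetaInv χ3 (theta (R' := G j3) ψ3 ((1 : G j3) ⊗ₜ[R] a)) - (1 : G j3) ⊗ₜ[R] a) =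
      thetaInv ((Hmap A φ).comp χ3)
        (theta (R' := T') ((MonoidAlgebra.mapAlgHom M φ).comp ψ3) ((1 : T') ⊗ₜ[R] a)) -
          (1 : T') ⊗ₜ[R] a := by
    intro T' _ _ φ a
    rw [map_sub, Hmap_thetaInv, mapAlgHom_theta, Hmap_one_tmul]
  -- first kill: the defects
  choose F hF using fun a : A => exists_finset_dCoef ψ3 a
  obtain ⟨j4, φ34, h4, hk4⟩ := hS.kill j3
    (s.image (cE ψ3) ∪ s.biUnion (fun a => (F a).image (fun mm => dCoef ψ3 a mm.1 mm.2))) (by
      intro x hx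
      rcases Finset.mem_union.mp hx with hx | hx
      · obtain ⟨a, -, rfl⟩ := Finset.mem_image.mp hx
        rw [← cE_map, hψ3, cE_levelHom]
      · obtain ⟨a, -, hx⟩ := Finset.mem_biUnion.mp hx
        obtain ⟨mm, -, rfl⟩ := Finset.mem_image.mp hx
        rw [← dCoef_map, hψ3, dCoef_levelHom])
  -- second kill
  obtain ⟨j5, φ45, h5, hk5⟩ := kill_monoidAlgebra M hS j4
    (SM.image (fun m => MonoidAlgebra.mapAlgHom M φ34
      (theta (R' := G j3) ψ3 (thetaInv χ3 (MonoidAlgebra.single m 1)) -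
        MonoidAlgebra.single m 1))) (by
      intro x hx
      obtain ⟨m, -, rfl⟩ := Finset.mem_image.mp hx
      rw [mapAlgHom_mapAlgHom, h4, hpush1, hψ3, hχ3, thetaInv_chiOf, hθ1]
      change θ (θ.symm _) - _ = 0
      rw [BialgEquiv.apply_symm_apply, sub_self])
  -- third kill
  obtain ⟨j6, φ56, h6, hk6⟩ := hS.alg_kill A j5
    (s.image (fun a => Hmap A (φ45.comp φ34)
      (thetaInv χ3 (theta (R' := G j3) ψ3 ((1 : G j3) ⊗ₜ[R] a)) - (1 : G j3) ⊗ₜ[R] a))) (by
      intro z hz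
      obtain ⟨a, -, rfl⟩ := Finset.mem_image.mp hz
      change Hmap A (g j5) (Hmap A (φ45.comp φ34) _) = 0
      rw [Groth.Agent.Lib.R2H7.HomLift.Hmap_comp, ← AlgHom.comp_assoc, h5, h4, hpush2, hψ3, hχ3,
        thetaInv_chiOf, hθ1]
      change θ.symm (θ _) - _ = 0
      rw [BialgEquiv.symm_apply_apply, sub_self])
  -- the final stage
  have hε6 : ∀ a ∈ (s : Set A),
      cE ((MonoidAlgebra.mapAlgHom M (φ56.comp (φ45.comp φ34))).comp ψ3) a = 0 := by
    intro a ha
    rw [cE_map]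
    change φ56 (φ45 (φ34 (cE ψ3 a))) = 0
    rw [hk4 _ (Finset.mem_union_left _ (Finset.mem_image_of_mem _ ha)), map_zero, map_zero]
  have hΔ6 : ∀ a ∈ (s : Set A), ∀ m m',
      dCoef ((MonoidAlgebra.mapAlgHom M (φ56.comp (φ45.comp φ34))).comp ψ3) a m m' = 0 := by
    intro a ha m m'
    rw [dCoef_map]
    change φ56 (φ45 (φ34 (dCoef ψ3 a m m'))) = 0
    by_cases hmm : (m, m') ∈ F a
    · rw [hk4 _ (Finset.mem_union_right _ (Finset.mem_biUnion.mpr
        ⟨a, ha, Finset.mem_image.mpr ⟨(m, m'), hmm, rfl⟩⟩)), map_zero, map_zero]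
    · rw [hF a m m' hmm, map_zero, map_zero, map_zero]
  obtain ⟨Φ, hΦ⟩ := exists_bialgHom_of_defects
    ((MonoidAlgebra.mapAlgHom M (φ56.comp (φ45.comp φ34))).comp ψ3) (s : Set A) hs hε6 hΔ6
  have hΦθ : ∀ x, Φ x =
      theta (R' := G j6) ((MonoidAlgebra.mapAlgHom M (φ56.comp (φ45.comp φ34))).comp ψ3) x := by
    intro x
    induction x using TensorProduct.induction_on with
    | zero => rw [map_zero, map_zero]
    | tmul t a => rw [hΦ, theta_tmul]
    | add x y hx hy => rw [map_add, map_add, hx, hy]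
  have hu : ∀ m ∈ SM,
      theta (R' := G j6) ((MonoidAlgebra.mapAlgHom M (φ56.comp (φ45.comp φ34))).comp ψ3)
        (thetaInv ((Hmap A (φ56.comp (φ45.comp φ34))).comp χ3) (MonoidAlgebra.single m 1)) =
        MonoidAlgebra.single m 1 := by
    intro m hm
    have h1 := hk5 _ (Finset.mem_image_of_mem _ hm)
    have h2 := congrArg (MonoidAlgebra.mapAlgHom M φ56) h1
    rw [mapAlgHom_mapAlgHom, mapAlgHom_mapAlgHom, map_zero, hpush1] at h2
    exact sub_eq_zero.mp h2
  have hv : ∀ a ∈ s,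
      thetaInv ((Hmap A (φ56.comp (φ45.comp φ34))).comp χ3)
        (theta (R' := G j6) ((MonoidAlgebra.mapAlgHom M (φ56.comp (φ45.comp φ34))).comp ψ3)
          ((1 : G j6) ⊗ₜ[R] a)) = (1 : G j6) ⊗ₜ[R] a := by
    intro a ha
    have h1 := hk6 _ (Finset.mem_image_of_mem _ ha)
    change Hmap A φ56 (Hmap A (φ45.comp φ34) _) = 0 at h1
    rw [Groth.Agent.Lib.R2H7.HomLift.Hmap_comp, hpush2] at h1
    exact sub_eq_zero.mp h1
  generalize (MonoidAlgebra.mapAlgHom M (φ56.comp (φ45.comp φ34))).comp ψ3 = ψ6 at *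
  generalize (Hmap A (φ56.comp (φ45.comp φ34))).comp χ3 = χ6 at *
  -- `Θ ∘ Φ = id`
  have hΘΦ : ∀ x, thetaInv χ6 (theta (R' := G j6) ψ6 x) = x := by
    have hQ := eq_top_of_includeRight_mem (S := G j6) (s : Set A) hs
      (AlgHom.equalizer ((thetaInv χ6).comp (theta (R' := G j6) ψ6))
        (AlgHom.id (G j6) (G j6 ⊗[R] A))) (fun a ha => hv a ha)
    intro x
    have hx : x ∈ AlgHom.equalizer ((thetaInv χ6).comp (theta (R' := G j6) ψ6))
        (AlgHom.id (G j6) (G j6 ⊗[R] A)) := by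
      rw [hQ]
      exact Algebra.mem_top
    exact hx
  -- `Φ ∘ Θ = id`
  have hΦΘ1 : ∀ m : M, theta (R' := G j6) ψ6 (thetaInv χ6 (MonoidAlgebra.single m 1)) =
      MonoidAlgebra.single m 1 := by
    intro m
    have hm : m ∈ Submonoid.closure (SM : Set M) := by
      rw [hSM]
      exact Submonoid.mem_top m
    induction hm using Submonoid.closure_induction with
    | mem x hx => exact hu x hx
    | one =>
      rw [← MonoidAlgebra.one_def, map_one, map_one]
    | mul x y _ _ hx hy =>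
      have h1 : (MonoidAlgebra.single (x * y) (1 : G j6) : MonoidAlgebra (G j6) M) =
          MonoidAlgebra.single x 1 * MonoidAlgebra.single y 1 := by
        rw [MonoidAlgebra.single_mul_single, mul_one]
      rw [h1, map_mul, map_mul, hx, hy]
  have hΦΘ : ∀ y, theta (R' := G j6) ψ6 (thetaInv χ6 y) = y := by
    intro y
    induction y using MonoidAlgebra.induction_linear with
    | zero => rw [map_zero, map_zero]
    | add x y hx hy => rw [map_add, map_add, hx, hy]
    | single m t =>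
      rw [Groth.Agent.Lib.R2H7.DiagNil.single_eq_smul, map_smul, map_smul, hΦΘ1]
  refine ⟨j6, ⟨BialgEquiv.ofBijective Φ ⟨?_, ?_⟩⟩⟩
  · intro x y hxy
    rw [hΦθ, hΦθ] at hxy
    rw [← hΘΦ x, ← hΘΦ y, hxy]
  · intro y
    exact ⟨thetaInv χ6 y, by rw [hΦθ, hΦΘ]⟩

end Main

end Groth.Agent.Lib.R2H7.Fib
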