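import Mathlib
import Groth.Prelude.Def_SGA3b
import Groth.Agent.Lib.R2H7FormalHom10
import Groth.Agent.Lib.R2H7LocalRigid
import Groth.Agent.Lib.R2H7FinMult
import Groth.Agent.Lib.Helper25TorsQuot

/-!
# R2H7FormalHom12: groups of multiplicative type over a complete base (SGA3 X 3.3)

* `flat_of_isMultType`.
* `idem_eq_zero_of_mem_smul_top`: an idempotent of a finite algebra `B` over `R` lying in `I B`, with `I` in the
  Jacobson radical of `R`, is zero.
* `isIsotrivial_of_isMultType`: `R` noetherian, `I`-adically complete, `A` of multiplicative type and of finite type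
  with `A/IA` isotrivial; then `A` is isotrivial.
-/

set_option autoImplicit false
universe u

namespace Groth.Agent.Lib.R2H7.FormalHom

open TensorProduct Coalgebra SGA3b Groth.Agent.Lib.Helper25

section Flat

variable (R : Type u) [CommRing R] (A : Type u) [CommRing A] [HopfAlgebra R A]

theorem flat_of_isMultType (h : IsMultType R A) : Module.Flat R A := by
  obtain ⟨s, hs, hc⟩ := h
  rw [← RingHom.flat_algebraMap_iff]
  refine FinMult.of_span_tensor RingHom.Flat.propertyIsLocal.ofLocalizationSpan
    RingHom.Flat.respectsIso s hs (fun f hf => ?_)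
  obtain ⟨R', _, _, hff, hD⟩ := hc f hf
  rw [RingHom.flat_algebraMap_iff]
  exact FinMult.flat_of_isDiag _ _ R' hD

end Flat

section Idem

variable {R : Type u} [CommRing R] {B : Type*} [CommRing B] [Algebra R B]

theorem idem_eq_zero_of_mem_smul_top [IsNoetherian R B] (I : Ideal R) (hI : I ≤ Ideal.jacobson ⊥)
    (e : B) (he : IsIdempotentElem e) (hmem : e ∈ I • (⊤ : Submodule R B)) : e = 0 := by
  set N : Submodule R B := (Ideal.span {e}).restrictScalars R with hN
  have hfg : N.FG := IsNoetherian.noetherian N
  have hle : N ≤ I • N := by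
    intro x hx
    have hx' : x ∈ Ideal.span {e} := hx
    obtain ⟨b, rfl⟩ := Ideal.mem_span_singleton'.mp hx'
    have h1 : b * e = e * (b * e) := by
      rw [mul_left_comm, he.eq]
    rw [h1]
    have h2 : ∀ y ∈ I • (⊤ : Submodule R B), y * (b * e) ∈ I • N := by
      intro y hy
      refine Submodule.smul_induction_on hy (fun r hr c _ => ?_) (fun y z hy hz => ?_)
      · rw [smul_mul_assoc]
        apply Submodule.smul_mem_smul hr
        change c * (b * e) ∈ Ideal.span {e}
        rw [← mul_assoc]
        exact Ideal.mul_mem_left _ _ (Ideal.mem_span_singleton_self e)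
      · rw [add_mul]
        exact Submodule.add_mem _ hy hz
    exact h2 e hmem
  have hbot := Submodule.eq_bot_of_le_smul_of_le_jacobson_bot I N hfg hle hI
  have h3 : e ∈ N := Ideal.mem_span_singleton_self e
  rw [hbot, Submodule.mem_bot] at h3
  exact h3

end Idem

section Main

variable (R : Type u) [CommRing R] [IsNoetherianRing R] (I : Ideal R) [IsAdicComplete I R]
  (A : Type u) [CommRing A] [HopfAlgebra R A]

theorem isIsotrivial_of_isMultType (hft : Algebra.FiniteType R A) (h : IsMultType R A)
    (h0 : IsIsotrivial (R ⧸ I) ((R ⧸ I) ⊗[R] A)) : IsIsotrivial R A := by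
  haveI := flat_of_isMultType R A h
  haveI := FinMult.isCocomm_of_isMultType R A h
  obtain ⟨e, he, hmem, hH, hiso⟩ := exists_idem_isotrivial R I A hft
    (fun q _ _ => inferInstance) h0
  have he0 : e = 0 := by
    apply LocalRigid.eq_zero_of_forall_mem_torsionIdeal hft h
    intro n hn
    haveI := LocalRigid.isHopfIdeal_torsionIdeal R A n
    obtain ⟨-, hfin⟩ := TorsQuot.torsion_quotient hft h n hn (torsionIdeal R A n) rfl
    haveI := hfin
    haveI : IsNoetherian R (A ⧸ torsionIdeal R A n) := isNoetherian_of_isNoetherianRing_of_finite R _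
    have h1 : Ideal.Quotient.mk (torsionIdeal R A n) e = 0 := by
      apply idem_eq_zero_of_mem_smul_top I (IsAdicComplete.le_jacobson_bot I) _ (he.map _)
      rw [Ideal.smul_top_eq_map]
      change Ideal.Quotient.mk (torsionIdeal R A n) e ∈
        Ideal.map (algebraMap R (A ⧸ torsionIdeal R A n)) I
      have h2 := Ideal.mem_map_of_mem (Ideal.Quotient.mk (torsionIdeal R A n)) hmem
      rw [Ideal.map_map] at h2
      exact h2
    exact Ideal.Quotient.eq_zero_iff_mem.mp h1
  haveI := hH
  exact isIsotrivial_of_quotient_bot (Ideal.span {e})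
    (by rw [he0]; exact Ideal.span_singleton_eq_bot.mpr rfl) hiso

end Main

end Groth.Agent.Lib.R2H7.FormalHom
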