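import Mathlib
import Groth.Prelude.Def_SGA3b
import Groth.Agent.Lib.R2H7FibE
import Groth.Agent.Lib.R2H7FibF
import Groth.Agent.Lib.R2H7FibG
import Groth.Agent.Lib.R2H7FormalHom12
import Groth.Agent.Lib.R2H7TrivFibre
import Groth.Agent.Lib.R2H7IsoNil

/-!
# R2H7FibH: groups with fibres of multiplicative type (SGA 3 X 4.5, 4.7, 4.8 in Hopf form)

* `exists_etale_diag`: around a point with fibre of multiplicative type, a flat finitely presented group whose
  diagonalisable clopen subgroups are always everything is split by an etale neighbourhood of the point.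
* `exists_away_of_etale`: an etale neighbourhood splitting the group gives a basic open neighbourhood over
  which the group is quasi-isotrivial of constant type.
* `isMultType_of_connected_fibres`, `isMultType_of_torsion_finite`, `isQuasiIsotrivial_of_isMultType`.
-/

set_option autoImplicit false
set_option linter.style.haveILetI false
universe u

namespace Groth.Agent.Lib.R2H7.Fib

open TensorProduct Coalgebra SGA3b IsLocalRing Groth.Agent.Lib.Helper25
  Groth.Agent.Lib.Helper3.IndEt

section PT

/-- **Etale splitting around a point.** -/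
theorem exists_etale_diag (R : Type u) [CommRing R] (A : Type u) [CommRing A] [HopfAlgebra R A]
    [Module.Flat R A] (hfp : Algebra.FinitePresentation R A) (p : Ideal R) [p.IsPrime]
    (hp : IsMultType p.ResidueField (p.ResidueField ⊗[R] A))
    (hiso : ∀ (Λ : Type u) [CommRing Λ] [IsLocalRing Λ] [Algebra R Λ] (M : Type u) [CommGroup M],
      HasClopenDiag Λ (Λ ⊗[R] A) M → Nonempty (Λ ⊗[R] A ≃ₐc[Λ] MonoidAlgebra Λ M)) :
    ∃ (E : Type u) (_ : CommRing E) (_ : Algebra R E) (_ : Algebra.Etale R E) (q : Ideal E)
      (_ : q.IsPrime), q.comap (algebraMap R E) = p ∧ IsDiag E (E ⊗[R] A) := by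
  haveI := hfp
  obtain ⟨Λ, _, _, _, M, _, hcomap, hF, hM, hcd⟩ := exists_local R A hfp p hp
  obtain ⟨θ⟩ := hiso Λ M hcd
  obtain ⟨j, ⟨θj⟩⟩ := spread_iso (sys_of_factor hF) A M hM θ
  refine ⟨j.E, inferInstance, inferInstance, inferInstance, (maximalIdeal Λ).comap j.φ,
    Ideal.comap_isPrime _ _, ?_, ⟨M, inferInstance, ⟨θj⟩⟩⟩
  rw [← hcomap]
  ext x
  simp only [Ideal.mem_comap]
  rw [j.φ.commutes x]

end PT

section LemmaQ

/-- **From an etale neighbourhood to a basic open neighbourhood.** -/
theorem exists_away_of_etale (R : Type u) [CommRing R] (A : Type u) [CommRing A]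
    [HopfAlgebra R A] (E : Type u) [CommRing E] [Algebra R E] [Algebra.Etale R E] (q : Ideal E)
    [q.IsPrime] (hD : IsDiag E (E ⊗[R] A)) :
    ∃ f : R, f ∉ q.comap (algebraMap R E) ∧
      IsQuasiIsotrivialConst (Localization.Away f) (Localization.Away f ⊗[R] A) := by
  classical
  have hopen : IsOpen (Set.range (PrimeSpectrum.comap (algebraMap R E))) :=
    (PrimeSpectrum.isOpenMap_comap_of_hasGoingDown_of_finitePresentation).isOpen_range
  have hp : (⟨q.comap (algebraMap R E), inferInstance⟩ : PrimeSpectrum R) ∈
      Set.range (PrimeSpectrum.comap (algebraMap R E)) := ⟨⟨q, inferInstance⟩, rfl⟩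
  obtain ⟨_, ⟨f, rfl⟩, hpf, hfU⟩ :=
    PrimeSpectrum.isTopologicalBasis_basic_opens.exists_subset_of_mem_open hp hopen
  refine ⟨f, hpf, ?_⟩
  have hunit : IsUnit (algebraMap R (Localization.Away (algebraMap R E f)) f) := by
    rw [IsScalarTower.algebraMap_apply R E (Localization.Away (algebraMap R E f))]
    exact IsLocalization.Away.algebraMap_isUnit _
  let g : Localization.Away f →ₐ[R] Localization.Away (algebraMap R E f) :=
    IsLocalization.Away.liftAlgHom (A := R) (R := R) f
      (f := Algebra.ofId R (Localization.Away (algebraMap R E f))) hunit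
  letI : Algebra (Localization.Away f) (Localization.Away (algebraMap R E f)) :=
    g.toRingHom.toAlgebra
  haveI : IsScalarTower R (Localization.Away f) (Localization.Away (algebraMap R E f)) :=
    IsScalarTower.of_algebraMap_eq (fun r => (g.commutes r).symm)
  -- etale
  haveI : Algebra.Etale R (Localization.Away (algebraMap R E f)) :=
    Algebra.Etale.comp R E (Localization.Away (algebraMap R E f))
  haveI : Algebra.FormallyEtale (Localization.Away f) (Localization.Away (algebraMap R E f)) :=
    Algebra.FormallyEtale.localization_base (Submonoid.powers f)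
  haveI : Algebra.FinitePresentation (Localization.Away f)
      (Localization.Away (algebraMap R E f)) :=
    Algebra.FinitePresentation.of_restrict_scalars_finitePresentation R (Localization.Away f)
      (Localization.Away (algebraMap R E f))
  haveI : Algebra.Etale (Localization.Away f) (Localization.Away (algebraMap R E f)) := {}
  -- faithfully flat
  haveI : Module.Flat (Localization.Away f) (Localization.Away (algebraMap R E f)) :=
    inferInstance
  haveI : Module.FaithfullyFlat (Localization.Away f) (Localization.Away (algebraMap R E f)) := by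
    apply Module.FaithfullyFlat.of_comap_surjective
    intro P
    have hfP : f ∉ (PrimeSpectrum.comap (algebraMap R (Localization.Away f)) P).asIdeal := by
      intro hmem
      have h1 : algebraMap R (Localization.Away f) f ∈ P.asIdeal := hmem
      exact P.2.ne_top (Ideal.eq_top_of_isUnit_mem _ h1 (IsLocalization.Away.algebraMap_isUnit f))
    obtain ⟨q', hq'⟩ := hfU hfP
    have hfq' : algebraMap R E f ∉ q'.asIdeal := by
      intro hmem
      apply hfP
      rw [← hq']
      exact hmem
    have hdisj : Disjoint (Submonoid.powers (algebraMap R E f) : Set E) (q'.asIdeal : Set E) :=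
      (Ideal.disjoint_powers_iff_notMem_of_isPrime _).mpr hfq'
    have hprime := IsLocalization.isPrime_of_isPrime_disjoint
      (Submonoid.powers (algebraMap R E f)) (Localization.Away (algebraMap R E f)) q'.asIdeal
      q'.2 hdisj
    have hunder := IsLocalization.under_map_of_isPrime_disjoint
      (Submonoid.powers (algebraMap R E f)) (Localization.Away (algebraMap R E f)) q'.2 hdisj
    refine ⟨⟨Ideal.map (algebraMap E (Localization.Away (algebraMap R E f))) q'.asIdeal,
      hprime⟩, ?_⟩
    apply PrimeSpectrum.localization_comap_injective (Localization.Away f) (Submonoid.powers f)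
    rw [← hq']
    apply PrimeSpectrum.ext
    change Ideal.comap (algebraMap R (Localization.Away f))
      (Ideal.comap (algebraMap (Localization.Away f) (Localization.Away (algebraMap R E f)))
        (Ideal.map (algebraMap E (Localization.Away (algebraMap R E f))) q'.asIdeal)) =
      Ideal.comap (algebraMap R E) q'.asIdeal
    rw [Ideal.comap_comap, ← IsScalarTower.algebraMap_eq,
      IsScalarTower.algebraMap_eq R E (Localization.Away (algebraMap R E f)),
      ← Ideal.comap_comap]
    exact congrArg (Ideal.comap (algebraMap R E)) hunder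
  -- diagonalisable
  have h1 : IsDiag (Localization.Away (algebraMap R E f))
      (Localization.Away (algebraMap R E f) ⊗[R] A) :=
    BCB.isDiag_baseChange_of_tower R A E (Localization.Away (algebraMap R E f)) hD
  exact ⟨Localization.Away (algebraMap R E f), inferInstance, inferInstance, inferInstance,
    inferInstance, BCB.isDiag_of_equiv
      (BCB.cancelBC R (Localization.Away f) (Localization.Away (algebraMap R E f)) A) h1⟩

end LemmaQ

section Glob

theorem span_eq_top_of_forall_prime {R : Type u} [CommRing R] (P : R → Prop)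
    (h : ∀ (p : Ideal R) [p.IsPrime], ∃ f, f ∉ p ∧ P f) : Ideal.span {f | P f} = ⊤ := by
  by_contra hne
  obtain ⟨m, hm, hle⟩ := Ideal.exists_le_maximal _ hne
  haveI := hm.isPrime
  obtain ⟨f, hf, hPf⟩ := h m
  exact hf (hle (Ideal.subset_span hPf))

theorem isQuasiIsotrivial_of_forall_prime (R : Type u) [CommRing R] (A : Type u) [CommRing A]
    [HopfAlgebra R A]
    (h : ∀ (p : Ideal R) [p.IsPrime], ∃ f, f ∉ p ∧
      IsQuasiIsotrivialConst (Localization.Away f) (Localization.Away f ⊗[R] A)) :
    IsQuasiIsotrivial R A :=
  ⟨{f | IsQuasiIsotrivialConst (Localization.Away f) (Localization.Away f ⊗[R] A)},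
    span_eq_top_of_forall_prime _ h, fun _ hf => hf⟩

end Glob

section Main

variable (R : Type u) [CommRing R] (A : Type u) [CommRing A] [HopfAlgebra R A]

/-- Common part: quasi-isotriviality from the local rigidity statement. -/
theorem isQuasiIsotrivial_of_local [Module.Flat R A] (hfp : Algebra.FinitePresentation R A)
    (hfib : ∀ (p : Ideal R) [p.IsPrime], IsMultType p.ResidueField (p.ResidueField ⊗[R] A))
    (hiso : ∀ (Λ : Type u) [CommRing Λ] [IsLocalRing Λ] [Algebra R Λ] (M : Type u) [CommGroup M],
      HasClopenDiag Λ (Λ ⊗[R] A) M → Nonempty (Λ ⊗[R] A ≃ₐc[Λ] MonoidAlgebra Λ M)) :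
    IsQuasiIsotrivial R A := by
  apply isQuasiIsotrivial_of_forall_prime
  intro p _
  obtain ⟨E, _, _, _, q, _, hq, hD⟩ := exists_etale_diag R A hfp p (hfib p) hiso
  obtain ⟨f, hf, hc⟩ := exists_away_of_etale R A E q hD
  exact ⟨f, hq ▸ hf, hc⟩

/-- **SGA 3 X 4.8 (connected fibres)**: a flat finitely presented group with connected fibres of
multiplicative type is of multiplicative type (even quasi-isotrivial). -/
theorem isQuasiIsotrivial_of_connected_fibres [Module.Flat R A]
    (hfp : Algebra.FinitePresentation R A)
    (hfib : ∀ (p : Ideal R) [p.IsPrime], IsMultType p.ResidueField (p.ResidueField ⊗[R] A) ∧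
      ConnectedSpace (PrimeSpectrum (p.ResidueField ⊗[R] A))) :
    IsQuasiIsotrivial R A :=
  isQuasiIsotrivial_of_local R A hfp (fun p _ => (hfib p).1)
    (fun Λ _ _ _ _ _ h => nonempty_equiv_of_connected R A Λ (fun p _ => (hfib p).2) h)

/-- **SGA 3 X 4.7 (finite torsion)**: a flat finitely presented commutative group with fibres of
multiplicative type and finite torsion subgroups is of multiplicative type (even
quasi-isotrivial). -/
theorem isQuasiIsotrivial_of_torsion_finite [Module.Flat R A]
    (hfp : Algebra.FinitePresentation R A)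
    (hfib : ∀ (p : Ideal R) [p.IsPrime], IsMultType p.ResidueField (p.ResidueField ⊗[R] A))
    (hfin : ∀ n : ℕ, 0 < n → Module.Finite R (A ⧸ torsionIdeal R A n)) :
    IsQuasiIsotrivial R A := by
  haveI := hfp
  exact isQuasiIsotrivial_of_local R A hfp hfib
    (fun Λ _ _ _ _ _ h => nonempty_equiv_of_torsion R A Λ inferInstance hfib hfin h)

/-- The local statement of X 4.5: over a basic open where the type is constant. -/
theorem exists_away_of_isMultTypeConst (hft : Algebra.FiniteType R A) (f : R)
    (hc : IsMultTypeConst (Localization.Away f) (Localization.Away f ⊗[R] A))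
    (p : Ideal R) [p.IsPrime] (hfp : f ∉ p) :
    ∃ f' : R, f' ∉ p ∧
      IsQuasiIsotrivialConst (Localization.Away f') (Localization.Away f' ⊗[R] A) := by
  classical
  haveI := hft
  have hmt' : IsMultType (Localization.Away f) (Localization.Away f ⊗[R] A) :=
    BCB.isMultType_of_isMultTypeConst _ _ hc
  haveI flat' : Module.Flat (Localization.Away f) (Localization.Away f ⊗[R] A) :=
    Groth.Agent.Lib.R2H7.FormalHom.flat_of_isMultType _ _ hmt'
  -- the prime of the localisation
  have hdisj : Disjoint (Submonoid.powers f : Set R) (p : Set R) :=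
    (Ideal.disjoint_powers_iff_notMem_of_isPrime _).mpr hfp
  haveI hP : (Ideal.map (algebraMap R (Localization.Away f)) p).IsPrime :=
    IsLocalization.isPrime_of_isPrime_disjoint (Submonoid.powers f) (Localization.Away f) p
      inferInstance hdisj
  have hPcomap : (Ideal.map (algebraMap R (Localization.Away f)) p).comap
      (algebraMap R (Localization.Away f)) = p :=
    IsLocalization.under_map_of_isPrime_disjoint (Submonoid.powers f) (Localization.Away f)
      inferInstance hdisj
  -- finite presentation
  have hfp' : Algebra.FinitePresentation (Localization.Away f) (Localization.Away f ⊗[R] A) := by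
    obtain ⟨S, _, _, hff, M₀, _, ⟨ε⟩⟩ := hc
    haveI := hff
    haveI : Nontrivial (Localization.Away f) :=
      ⟨⟨0, 1, fun h01 => hP.ne_top ((Ideal.eq_top_iff_one _).mpr (h01 ▸ Ideal.zero_mem _))⟩⟩
    haveI : Nontrivial S :=
      (FaithfulSMul.algebraMap_injective (Localization.Away f) S).nontrivial
    haveI : Algebra.FiniteType S (MonoidAlgebra S M₀) :=
      Algebra.FiniteType.equiv (inferInstance : Algebra.FiniteType S
        (S ⊗[Localization.Away f] (Localization.Away f ⊗[R] A))) ε.toAlgEquiv
    have hM₀ : Monoid.FG M₀ := MonoidAlgebra.fg_of_finiteType (R := S)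
    haveI : Algebra.FinitePresentation S (MonoidAlgebra S M₀) :=
      Groth.Agent.Lib.R2H7.KerFT.finitePresentation_monoidAlgebra S M₀
        (Group.fg_iff_monoid_fg.mpr hM₀)
    haveI : Algebra.FinitePresentation S
        (S ⊗[Localization.Away f] (Localization.Away f ⊗[R] A)) :=
      Algebra.FinitePresentation.equiv ε.toAlgEquiv.symm
    exact Algebra.FinitePresentation.of_finitePresentation_tensorProduct_of_faithfullyFlat S
  have hfib' : ∀ (P' : Ideal (Localization.Away f)) [P'.IsPrime],
      IsMultType P'.ResidueField (P'.ResidueField ⊗[Localization.Away f]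
        (Localization.Away f ⊗[R] A)) :=
    fun P' _ => Groth.Agent.Lib.R2H7.IsoNil.isMultType_baseChange _ hmt'
  have hfin' : ∀ n : ℕ, 0 < n → Module.Finite (Localization.Away f)
      ((Localization.Away f ⊗[R] A) ⧸
        torsionIdeal (Localization.Away f) (Localization.Away f ⊗[R] A) n) :=
    fun n hn => Groth.Agent.Lib.R2H7.TrivFibre.finite_quotient_torsionIdeal inferInstance hc n hn
  obtain ⟨E, _, _, _, Q, _, hQ, hD⟩ :=
    exists_etale_diag (Localization.Away f) (Localization.Away f ⊗[R] A) hfp'
      (Ideal.map (algebraMap R (Localization.Away f)) p) (hfib' _)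
      (fun Λ _ _ _ _ _ h => nonempty_equiv_of_torsion (Localization.Away f)
        (Localization.Away f ⊗[R] A) Λ inferInstance hfib' hfin' h)
  letI : Algebra R E :=
    ((algebraMap (Localization.Away f) E).comp (algebraMap R (Localization.Away f))).toAlgebra
  haveI : IsScalarTower R (Localization.Away f) E := IsScalarTower.of_algebraMap_eq (fun _ => rfl)
  haveI : Algebra.Etale R (Localization.Away f) := Algebra.Etale.of_isLocalizationAway f
  haveI : Algebra.Etale R E := Algebra.Etale.comp R (Localization.Away f) E
  have hD' : IsDiag E (E ⊗[R] A) :=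
    BCB.isDiag_of_equiv (BCB.cancelBC R (Localization.Away f) E A).symm hD
  obtain ⟨f', hf', hq⟩ := exists_away_of_etale R A E Q hD'
  refine ⟨f', ?_, hq⟩
  have h1 : Q.comap (algebraMap R E) = p := by
    rw [IsScalarTower.algebraMap_eq R (Localization.Away f) E, ← Ideal.comap_comap, hQ, hPcomap]
  rw [← h1]
  exact hf'

/-- **SGA 3 X 4.5**: a group of multiplicative type and of finite type is quasi-isotrivial. -/
theorem isQuasiIsotrivial_of_isMultType (hft : Algebra.FiniteType R A) (h : IsMultType R A) :
    IsQuasiIsotrivial R A := by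
  obtain ⟨s, hs, hc⟩ := h
  apply isQuasiIsotrivial_of_forall_prime
  intro p hp
  have hex : ∃ f ∈ s, f ∉ p := by
    by_contra hcon
    push_neg at hcon
    have h1 : Ideal.span s ≤ p := Ideal.span_le.mpr hcon
    rw [hs] at h1
    exact hp.ne_top (top_le_iff.mp h1)
  obtain ⟨f, hfs, hfp⟩ := hex
  exact exists_away_of_isMultTypeConst R A hft f (hc f hfs) p hfp

end Main

end Groth.Agent.Lib.R2H7.Fib
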