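import Mathlib
import Groth.Agent.Lib.R2H7HopfDesc
import Groth.Agent.Lib.Helper18ColimSys

/-!
# R2H7FibK: candidate Hopf structures, their morphisms, defects and base change

A `PreHopf S A` is a triple of algebra maps `Δ : A → A ⊗ A`, `ε : A → S`, `σ : A → A` (no axioms).  The five
Hopf axioms are the equalities `L1 = R1`, `L2 = id`, `L3 = id`, `L4 = R4`, `L5 = R4` of algebra maps
(`IsHopf`), and `hopfOf` builds the Hopf algebra.  Morphisms `IsMor D E j` (over a ring map `S → S'`)
transport the `Li`, `Ri` (`j3_L1`, ...).  Base change `bc` of a candidate along `S → S'`, and the key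
`isHopf_bc_of_kill`: if the defects of `D` on generators die in `S' ⊗ -`, then `D.bc S'` satisfies the axioms.
-/

set_option autoImplicit false
set_option linter.style.haveILetI false
universe u

namespace Groth.Agent.Lib.R2H7.Fib

open TensorProduct Coalgebra Groth.Agent.Lib.R2H7.HopfDesc

/-- Candidate structure maps of a commutative Hopf algebra. -/
structure PreHopf (S : Type u) [CommRing S] (A : Type u) [CommRing A] [Algebra S A] where
  Δ : A →ₐ[S] A ⊗[S] A
  ε : A →ₐ[S] S
  σ : A →ₐ[S] A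

namespace PreHopf

section Basic

variable {S : Type u} [CommRing S] {A : Type u} [CommRing A] [Algebra S A] (D : PreHopf S A)

noncomputable def L1 : A →ₐ[S] A ⊗[S] (A ⊗[S] A) :=
  (Algebra.TensorProduct.assoc S S S A A A).toAlgHom.comp
    ((Algebra.TensorProduct.map D.Δ (AlgHom.id S A)).comp D.Δ)

noncomputable def R1 : A →ₐ[S] A ⊗[S] (A ⊗[S] A) :=
  (Algebra.TensorProduct.map (AlgHom.id S A) D.Δ).comp D.Δ

noncomputable def L2 : A →ₐ[S] A :=
  (Algebra.TensorProduct.lid S A).toAlgHom.comp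
    ((Algebra.TensorProduct.map D.ε (AlgHom.id S A)).comp D.Δ)

noncomputable def L3 : A →ₐ[S] A :=
  (Algebra.TensorProduct.rid S S A).toAlgHom.comp
    ((Algebra.TensorProduct.map (AlgHom.id S A) D.ε).comp D.Δ)

noncomputable def L4 : A →ₐ[S] A :=
  (Algebra.TensorProduct.lmul' S).comp
    ((Algebra.TensorProduct.map D.σ (AlgHom.id S A)).comp D.Δ)

noncomputable def L5 : A →ₐ[S] A :=
  (Algebra.TensorProduct.lmul' S).comp
    ((Algebra.TensorProduct.map (AlgHom.id S A) D.σ).comp D.Δ)

noncomputable def R4 : A →ₐ[S] A := (Algebra.ofId S A).comp D.ε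

theorem L1_apply (a : A) : D.L1 a = Algebra.TensorProduct.assoc S S S A A A
    (Algebra.TensorProduct.map D.Δ (AlgHom.id S A) (D.Δ a)) := rfl

theorem R1_apply (a : A) : D.R1 a = Algebra.TensorProduct.map (AlgHom.id S A) D.Δ (D.Δ a) := rfl

theorem L2_apply (a : A) : D.L2 a = Algebra.TensorProduct.lid S A
    (Algebra.TensorProduct.map D.ε (AlgHom.id S A) (D.Δ a)) := rfl

theorem L3_apply (a : A) : D.L3 a = Algebra.TensorProduct.rid S S A
    (Algebra.TensorProduct.map (AlgHom.id S A) D.ε (D.Δ a)) := rfl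

theorem L4_apply (a : A) : D.L4 a = Algebra.TensorProduct.lmul' S
    (Algebra.TensorProduct.map D.σ (AlgHom.id S A) (D.Δ a)) := rfl

theorem L5_apply (a : A) : D.L5 a = Algebra.TensorProduct.lmul' S
    (Algebra.TensorProduct.map (AlgHom.id S A) D.σ (D.Δ a)) := rfl

theorem R4_apply (a : A) : D.R4 a = algebraMap S A (D.ε a) := rfl

/-- The Hopf algebra axioms for a candidate. -/
def IsHopf : Prop :=
  D.L1 = D.R1 ∧ D.L2 = AlgHom.id S A ∧ D.L3 = AlgHom.id S A ∧ D.L4 = D.R4 ∧ D.L5 = D.R4

theorem isHopf_of_adjoin (s : Set A) (hs : Algebra.adjoin S s = ⊤)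
    (h1 : ∀ a ∈ s, D.L1 a = D.R1 a) (h2 : ∀ a ∈ s, D.L2 a = a) (h3 : ∀ a ∈ s, D.L3 a = a)
    (h4 : ∀ a ∈ s, D.L4 a = D.R4 a) (h5 : ∀ a ∈ s, D.L5 a = D.R4 a) : D.IsHopf :=
  ⟨AlgHom.ext_of_adjoin_eq_top hs h1, AlgHom.ext_of_adjoin_eq_top hs h2,
    AlgHom.ext_of_adjoin_eq_top hs h3, AlgHom.ext_of_adjoin_eq_top hs h4,
    AlgHom.ext_of_adjoin_eq_top hs h5⟩

theorem mul'_rTensor (y : A ⊗[S] A) :
    LinearMap.mul' S A (D.σ.toLinearMap.rTensor A y) =
      Algebra.TensorProduct.lmul' S (Algebra.TensorProduct.map D.σ (AlgHom.id S A) y) := by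
  induction y using TensorProduct.induction_on with
  | zero => simp
  | tmul b b' =>
    rw [LinearMap.rTensor_tmul, LinearMap.mul'_apply, Algebra.TensorProduct.map_tmul,
      Algebra.TensorProduct.lmul'_apply_tmul]
    rfl
  | add x y hx hy => rw [map_add, map_add, map_add, map_add, hx, hy]

theorem mul'_lTensor (y : A ⊗[S] A) :
    LinearMap.mul' S A (D.σ.toLinearMap.lTensor A y) =
      Algebra.TensorProduct.lmul' S (Algebra.TensorProduct.map (AlgHom.id S A) D.σ y) := by
  induction y using TensorProduct.induction_on with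
  | zero => simp
  | tmul b b' =>
    rw [LinearMap.lTensor_tmul, LinearMap.mul'_apply, Algebra.TensorProduct.map_tmul,
      Algebra.TensorProduct.lmul'_apply_tmul]
    rfl
  | add x y hx hy => rw [map_add, map_add, map_add, map_add, hx, hy]

/-- The Hopf algebra defined by a candidate satisfying the axioms. -/
@[reducible] noncomputable def hopfOf (h : D.IsHopf) : HopfAlgebra S A :=
  { Bialgebra.ofAlgHom D.Δ D.ε h.1
      (by
        ext a
        apply (Algebra.TensorProduct.lid S A).injective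
        change D.L2 a = (Algebra.TensorProduct.lid S A) ((Algebra.TensorProduct.lid S A).symm a)
        rw [h.2.1, AlgEquiv.apply_symm_apply]
        rfl)
      (by
        ext a
        apply (Algebra.TensorProduct.rid S S A).injective
        change D.L3 a =
          (Algebra.TensorProduct.rid S S A) ((Algebra.TensorProduct.rid S S A).symm a)
        rw [h.2.2.1, AlgEquiv.apply_symm_apply]
        rfl) with
    antipode := D.σ.toLinearMap
    mul_antipode_rTensor_comul := by
      apply LinearMap.ext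
      intro a
      change LinearMap.mul' S A (D.σ.toLinearMap.rTensor A (D.Δ a)) = algebraMap S A (D.ε a)
      rw [mul'_rTensor, ← L4_apply, h.2.2.2.1, R4_apply]
    mul_antipode_lTensor_comul := by
      apply LinearMap.ext
      intro a
      change LinearMap.mul' S A (D.σ.toLinearMap.lTensor A (D.Δ a)) = algebraMap S A (D.ε a)
      rw [mul'_lTensor, ← L5_apply, h.2.2.2.2, R4_apply] }

theorem hopfOf_comul (h : D.IsHopf) (a : A) :
    letI := D.hopfOf h
    comul (R := S) a = D.Δ a := rfl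

theorem hopfOf_counit (h : D.IsHopf) (a : A) :
    letI := D.hopfOf h
    counit (R := S) a = D.ε a := rfl

end Basic

section OfHopf

variable (S : Type u) [CommRing S] (B : Type u) [CommRing B] [HopfAlgebra S B]

/-- The structure maps of a commutative Hopf algebra. -/
noncomputable def ofHopf : PreHopf S B :=
  ⟨Bialgebra.comulAlgHom S B, Bialgebra.counitAlgHom S B, HopfAlgebra.antipodeAlgHom S B⟩

theorem ofHopf_isHopf : (ofHopf S B).IsHopf := by
  refine ⟨?_, ?_, ?_, ?_, ?_⟩
  · ext a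
    exact Coalgebra.coassoc_apply a
  · ext a
    change Algebra.TensorProduct.lid S B ((counit (R := S)).rTensor B (comul (R := S) a)) = a
    rw [Coalgebra.rTensor_counit_comul]
    simp
  · ext a
    change Algebra.TensorProduct.rid S S B ((counit (R := S)).lTensor B (comul (R := S) a)) = a
    rw [Coalgebra.lTensor_counit_comul]
    simp
  · ext a
    rw [L4_apply, ← mul'_rTensor, R4_apply]
    exact HopfAlgebra.mul_antipode_rTensor_comul_apply a
  · ext a
    rw [L5_apply, ← mul'_lTensor, R4_apply]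
    exact HopfAlgebra.mul_antipode_lTensor_comul_apply a

end OfHopf

section Mor

variable {S : Type u} [CommRing S] {S' : Type u} [CommRing S'] [Algebra S S']
  {A : Type u} [CommRing A] [Algebra S A]
  {B : Type u} [CommRing B] [Algebra S' B] [Algebra S B] [IsScalarTower S S' B]

/-- A morphism of candidates over a ring map. -/
structure IsMor (D : PreHopf S A) (E : PreHopf S' B) (j : A →ₐ[S] B) : Prop where
  hΔ : ∀ a, j2 (R' := S') j (D.Δ a) = E.Δ (j a)
  hε : ∀ a, algebraMap S S' (D.ε a) = E.ε (j a)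
  hσ : ∀ a, j (D.σ a) = E.σ (j a)

theorem j3_assoc_tmul'' (j : A →ₐ[S] B) (y : A ⊗[S] A) (a' : A) :
    j3 (R' := S') j (Algebra.TensorProduct.assoc S S S A A A (y ⊗ₜ[S] a')) =
      Algebra.TensorProduct.assoc S' S' S' B B B (j2 (R' := S') j y ⊗ₜ[S'] j a') := by
  induction y using TensorProduct.induction_on with
  | zero => simp
  | tmul b b' =>
    rw [Algebra.TensorProduct.assoc_tmul, j3_tmul, j2_tmul, j2_tmul,
      Algebra.TensorProduct.assoc_tmul]
  | add x y hx hy => rw [add_tmul, map_add, map_add, hx, hy, map_add, add_tmul, map_add]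

variable {D : PreHopf S A} {E : PreHopf S' B} {j : A →ₐ[S] B} (h : IsMor D E j)
include h

theorem IsMor.j3_assoc_map (x : A ⊗[S] A) :
    j3 (R' := S') j (Algebra.TensorProduct.assoc S S S A A A
      (Algebra.TensorProduct.map D.Δ (AlgHom.id S A) x)) =
      Algebra.TensorProduct.assoc S' S' S' B B B
        (Algebra.TensorProduct.map E.Δ (AlgHom.id S' B) (j2 (R' := S') j x)) := by
  induction x using TensorProduct.induction_on with
  | zero => simp
  | tmul a a' =>
    rw [Algebra.TensorProduct.map_tmul, AlgHom.id_apply, j3_assoc_tmul'', h.hΔ, j2_tmul,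
      Algebra.TensorProduct.map_tmul, AlgHom.id_apply]
  | add x y hx hy => rw [map_add, map_add, map_add, hx, hy, map_add, map_add, map_add]

theorem IsMor.j3_map (x : A ⊗[S] A) :
    j3 (R' := S') j (Algebra.TensorProduct.map (AlgHom.id S A) D.Δ x) =
      Algebra.TensorProduct.map (AlgHom.id S' B) E.Δ (j2 (R' := S') j x) := by
  induction x using TensorProduct.induction_on with
  | zero => simp
  | tmul a a' =>
    rw [Algebra.TensorProduct.map_tmul, AlgHom.id_apply, j3_tmul, h.hΔ, j2_tmul,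
      Algebra.TensorProduct.map_tmul, AlgHom.id_apply]
  | add x y hx hy => rw [map_add, map_add, hx, hy, map_add, map_add]

theorem IsMor.j3_L1 (a : A) : j3 (R' := S') j (D.L1 a) = E.L1 (j a) := by
  rw [L1_apply, h.j3_assoc_map, h.hΔ, L1_apply]

theorem IsMor.j3_R1 (a : A) : j3 (R' := S') j (D.R1 a) = E.R1 (j a) := by
  rw [R1_apply, h.j3_map, h.hΔ, R1_apply]

theorem IsMor.j_lid_map (y : A ⊗[S] A) :
    j (Algebra.TensorProduct.lid S A (Algebra.TensorProduct.map D.ε (AlgHom.id S A) y)) =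
      Algebra.TensorProduct.lid S' B
        (Algebra.TensorProduct.map E.ε (AlgHom.id S' B) (j2 (R' := S') j y)) := by
  induction y using TensorProduct.induction_on with
  | zero => simp
  | tmul b b' =>
    rw [Algebra.TensorProduct.map_tmul, AlgHom.id_apply, Algebra.TensorProduct.lid_tmul, j2_tmul,
      Algebra.TensorProduct.map_tmul, AlgHom.id_apply, Algebra.TensorProduct.lid_tmul, map_smul,
      ← h.hε, algebraMap_smul]
  | add x y hx hy => rw [map_add, map_add, map_add, hx, hy, map_add, map_add, map_add]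

theorem IsMor.j_rid_map (y : A ⊗[S] A) :
    j (Algebra.TensorProduct.rid S S A (Algebra.TensorProduct.map (AlgHom.id S A) D.ε y)) =
      Algebra.TensorProduct.rid S' S' B
        (Algebra.TensorProduct.map (AlgHom.id S' B) E.ε (j2 (R' := S') j y)) := by
  induction y using TensorProduct.induction_on with
  | zero => simp
  | tmul b b' =>
    rw [Algebra.TensorProduct.map_tmul, AlgHom.id_apply, Algebra.TensorProduct.rid_tmul, j2_tmul,
      Algebra.TensorProduct.map_tmul, AlgHom.id_apply, Algebra.TensorProduct.rid_tmul, map_smul,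
      ← h.hε, algebraMap_smul]
  | add x y hx hy => rw [map_add, map_add, map_add, hx, hy, map_add, map_add, map_add]

theorem IsMor.j_L2 (a : A) : j (D.L2 a) = E.L2 (j a) := by
  rw [L2_apply, h.j_lid_map, h.hΔ, L2_apply]

theorem IsMor.j_L3 (a : A) : j (D.L3 a) = E.L3 (j a) := by
  rw [L3_apply, h.j_rid_map, h.hΔ, L3_apply]

theorem IsMor.j_lmul_map (y : A ⊗[S] A) :
    j (Algebra.TensorProduct.lmul' S (Algebra.TensorProduct.map D.σ (AlgHom.id S A) y)) =
      Algebra.TensorProduct.lmul' S'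
        (Algebra.TensorProduct.map E.σ (AlgHom.id S' B) (j2 (R' := S') j y)) := by
  induction y using TensorProduct.induction_on with
  | zero => simp
  | tmul b b' =>
    rw [Algebra.TensorProduct.map_tmul, AlgHom.id_apply, Algebra.TensorProduct.lmul'_apply_tmul,
      j2_tmul, Algebra.TensorProduct.map_tmul, AlgHom.id_apply,
      Algebra.TensorProduct.lmul'_apply_tmul, map_mul, h.hσ]
  | add x y hx hy => rw [map_add, map_add, map_add, hx, hy, map_add, map_add, map_add]

theorem IsMor.j_lmul_map' (y : A ⊗[S] A) :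
    j (Algebra.TensorProduct.lmul' S (Algebra.TensorProduct.map (AlgHom.id S A) D.σ y)) =
      Algebra.TensorProduct.lmul' S'
        (Algebra.TensorProduct.map (AlgHom.id S' B) E.σ (j2 (R' := S') j y)) := by
  induction y using TensorProduct.induction_on with
  | zero => simp
  | tmul b b' =>
    rw [Algebra.TensorProduct.map_tmul, AlgHom.id_apply, Algebra.TensorProduct.lmul'_apply_tmul,
      j2_tmul, Algebra.TensorProduct.map_tmul, AlgHom.id_apply,
      Algebra.TensorProduct.lmul'_apply_tmul, map_mul, h.hσ]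
  | add x y hx hy => rw [map_add, map_add, map_add, hx, hy, map_add, map_add, map_add]

theorem IsMor.j_L4 (a : A) : j (D.L4 a) = E.L4 (j a) := by
  rw [L4_apply, h.j_lmul_map, h.hΔ, L4_apply]

theorem IsMor.j_L5 (a : A) : j (D.L5 a) = E.L5 (j a) := by
  rw [L5_apply, h.j_lmul_map', h.hΔ, L5_apply]

theorem IsMor.j_R4 (a : A) : j (D.R4 a) = E.R4 (j a) := by
  rw [R4_apply, R4_apply, AlgHom.commutes, ← h.hε, ← IsScalarTower.algebraMap_apply]

end Mor

section Defect

variable {S : Type u} [CommRing S] {R : Type u} [CommRing R] [Algebra S R]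
  {A : Type u} [CommRing A] [Algebra S A]
  {B : Type u} [CommRing B] [HopfAlgebra R B] [Algebra S B] [IsScalarTower S R B]
  {D : PreHopf S A} {j : A →ₐ[S] B} (hΘ : Function.Bijective (theta (R' := R) j))
  (hm : IsMor D (ofHopf R B) j)

include hΘ hm

/-- The defects of a candidate mapping to a Hopf algebra die after base change. -/
theorem tmul_defect1 (a : A) : (1 : R) ⊗ₜ[S] (D.L1 a - D.R1 a) = 0 := by
  apply (kappa3 j hΘ).injective
  rw [kappa3_one_tmul, map_zero, map_sub, hm.j3_L1, hm.j3_R1, (ofHopf_isHopf R B).1, sub_self]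

theorem tmul_defect2 (a : A) : (1 : R) ⊗ₜ[S] (D.L2 a - a) = 0 := by
  apply (thetaEquiv j hΘ).injective
  rw [thetaEquiv_tmul, one_smul, map_zero, map_sub, hm.j_L2, (ofHopf_isHopf R B).2.1,
    AlgHom.id_apply, sub_self]

theorem tmul_defect3 (a : A) : (1 : R) ⊗ₜ[S] (D.L3 a - a) = 0 := by
  apply (thetaEquiv j hΘ).injective
  rw [thetaEquiv_tmul, one_smul, map_zero, map_sub, hm.j_L3, (ofHopf_isHopf R B).2.2.1,
    AlgHom.id_apply, sub_self]

theorem tmul_defect4 (a : A) : (1 : R) ⊗ₜ[S] (D.L4 a - D.R4 a) = 0 := by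
  apply (thetaEquiv j hΘ).injective
  rw [thetaEquiv_tmul, one_smul, map_zero, map_sub, hm.j_L4, hm.j_R4,
    (ofHopf_isHopf R B).2.2.2.1, sub_self]

theorem tmul_defect5 (a : A) : (1 : R) ⊗ₜ[S] (D.L5 a - D.R4 a) = 0 := by
  apply (thetaEquiv j hΘ).injective
  rw [thetaEquiv_tmul, one_smul, map_zero, map_sub, hm.j_L5, hm.j_R4,
    (ofHopf_isHopf R B).2.2.2.2, sub_self]

end Defect

section BC

variable {S : Type u} [CommRing S] (S' : Type u) [CommRing S'] [Algebra S S']
  {A : Type u} [CommRing A] [Algebra S A] (D : PreHopf S A)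

/-- `a ↦ 1 ⊗ a`. -/
noncomputable abbrev incl : A →ₐ[S] S' ⊗[S] A := Algebra.TensorProduct.includeRight

theorem theta_incl (z : S' ⊗[S] A) : theta (R' := S') (incl S' (A := A)) z = z := by
  induction z using TensorProduct.induction_on with
  | zero => simp
  | tmul r a =>
    rw [theta_tmul]
    change r • ((1 : S') ⊗ₜ[S] a) = r ⊗ₜ[S] a
    rw [TensorProduct.smul_tmul', smul_eq_mul, mul_one]
  | add x y hx hy => rw [map_add, hx, hy]

theorem theta_incl_bijective :
    Function.Bijective (theta (R' := S') (incl (S := S) S' (A := A))) :=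
  ⟨fun x y hxy => by rwa [theta_incl, theta_incl] at hxy, fun y => ⟨y, theta_incl S' y⟩⟩

/-- Two `S'`-algebra maps out of `S' ⊗ A` agreeing on the `1 ⊗ a` are equal. -/
theorem algHom_ext_one_tmul {C : Type u} [CommRing C] [Algebra S' C]
    (f g : S' ⊗[S] A →ₐ[S'] C) (hfg : ∀ a : A, f ((1 : S') ⊗ₜ[S] a) = g ((1 : S') ⊗ₜ[S] a)) :
    f = g := by
  apply AlgHom.ext
  intro z
  induction z using TensorProduct.induction_on with
  | zero => simp
  | tmul r a =>
    have h1 : r ⊗ₜ[S] a = r • ((1 : S') ⊗ₜ[S] a) := by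
      rw [TensorProduct.smul_tmul', smul_eq_mul, mul_one]
    rw [h1, map_smul, map_smul, hfg]
  | add x y hx hy => rw [map_add, map_add, hx, hy]

/-- Base change of a candidate. -/
noncomputable def bc : PreHopf S' (S' ⊗[S] A) where
  Δ := theta (R' := S') ((j2 (R' := S') (incl S' (A := A))).comp D.Δ)
  ε := theta (R' := S') ((Algebra.ofId S S').comp D.ε)
  σ := theta (R' := S') ((incl S' (A := A)).comp D.σ)

theorem isMor_bc : IsMor D (D.bc S') (incl S' (A := A)) where
  hΔ a := by
    change _ = theta (R' := S') ((j2 (R' := S') (incl S' (A := A))).comp D.Δ) ((1 : S') ⊗ₜ[S] a)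
    rw [theta_tmul, one_smul]
    rfl
  hε a := by
    change _ = theta (R' := S') ((Algebra.ofId S S').comp D.ε) ((1 : S') ⊗ₜ[S] a)
    rw [theta_tmul, one_smul]
    rfl
  hσ a := by
    change _ = theta (R' := S') ((incl S' (A := A)).comp D.σ) ((1 : S') ⊗ₜ[S] a)
    rw [theta_tmul, one_smul]
    rfl

theorem adjoin_incl_eq_top (s : Set A) (hs : Algebra.adjoin S s = ⊤) :
    Algebra.adjoin S' ((incl (S := S) S' (A := A)) '' s) = ⊤ :=
  Groth.Agent.Lib.Helper18ColimSys.eq_top_of_includeRight_mem s hs _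
    (fun c hc => Algebra.subset_adjoin ⟨c, hc, rfl⟩)

/-- **Killing the defects.** -/
theorem isHopf_bc_of_kill (s : Set A) (hs : Algebra.adjoin S s = ⊤)
    (k1 : ∀ a ∈ s, (1 : S') ⊗ₜ[S] (D.L1 a - D.R1 a) = 0)
    (k2 : ∀ a ∈ s, (1 : S') ⊗ₜ[S] (D.L2 a - a) = 0)
    (k3 : ∀ a ∈ s, (1 : S') ⊗ₜ[S] (D.L3 a - a) = 0)
    (k4 : ∀ a ∈ s, (1 : S') ⊗ₜ[S] (D.L4 a - D.R4 a) = 0)
    (k5 : ∀ a ∈ s, (1 : S') ⊗ₜ[S] (D.L5 a - D.R4 a) = 0) : (D.bc S').IsHopf := by
  have hm := isMor_bc S' D
  have hsub : ∀ x y : A, (1 : S') ⊗ₜ[S] (x - y) = 0 →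
      (incl (S := S) S' (A := A)) x = (incl (S := S) S' (A := A)) y := by
    intro x y hxy
    rw [tmul_sub, sub_eq_zero] at hxy
    exact hxy
  refine isHopf_of_adjoin (D.bc S') _ (adjoin_incl_eq_top S' s hs) ?_ ?_ ?_ ?_ ?_
  · rintro _ ⟨a, ha, rfl⟩
    rw [← hm.j3_L1, ← hm.j3_R1, ← sub_eq_zero, ← map_sub,
      ← kappa3_one_tmul (incl S' (A := A)) (theta_incl_bijective S'), k1 a ha, map_zero]
  · rintro _ ⟨a, ha, rfl⟩
    rw [← hm.j_L2]
    exact hsub _ _ (k2 a ha)
  · rintro _ ⟨a, ha, rfl⟩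
    rw [← hm.j_L3]
    exact hsub _ _ (k3 a ha)
  · rintro _ ⟨a, ha, rfl⟩
    rw [← hm.j_L4, ← hm.j_R4]
    exact hsub _ _ (k4 a ha)
  · rintro _ ⟨a, ha, rfl⟩
    rw [← hm.j_L5, ← hm.j_R4]
    exact hsub _ _ (k5 a ha)

end BC

end PreHopf

end Groth.Agent.Lib.R2H7.Fib
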