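import Mathlib
import Groth.Agent.Lib.R2H7FibK
import Groth.Agent.Lib.R2H7FibB
import Groth.Agent.Lib.Helper3ModelMod

/-!
# R2H7FibL: Noetherian Hopf models without flatness

A finitely presented commutative Hopf algebra `B` over any ring `R'` is the base change of a Hopf algebra of
finite type over a `ℤ`-algebra of finite type (`hopf_model_nf`).  Contrary to `R2H7FibB.hopf_model` no flatness
is assumed; the structure maps are lifted to a finite level (`exists_candidates`) and the finitely many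
defects of the Hopf axioms on generators are killed at a later level (`PreHopf.isHopf_bc_of_kill`).
-/

set_option autoImplicit false
set_option linter.style.haveILetI false
universe u

namespace Groth.Agent.Lib.R2H7.Fib

open TensorProduct Coalgebra Groth.Agent.Lib.R2H7.HopfDesc Groth.Agent.Lib.Helper18ColimSys

section RingModel

/-- Noetherian ring model of a finitely presented algebra (no flatness). -/
theorem exists_ring_model_nf (A B : Type u) [CommRing A] [CommRing B] [Algebra A B]
    [Algebra.FinitePresentation A B] :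
    ∃ (A₀ : Type u) (_ : CommRing A₀) (_ : Algebra A₀ A) (B₀ : Type u) (_ : CommRing B₀)
      (_ : Algebra A₀ B₀) (_ : Algebra B₀ B) (_ : Algebra A₀ B) (_ : IsScalarTower A₀ A B)
      (_ : IsScalarTower A₀ B₀ B),
      Algebra.FiniteType ℤ A₀ ∧ Algebra.FiniteType A₀ B₀ ∧ Algebra.IsPushout A₀ A B₀ B := by
  obtain ⟨A₀, i1, i2, B₀, i3, i4, i5, i6, i7, i8, M₀, _, _, _, _, _, _, f, hA₀, hB₀, -, hpush, -⟩ :=
    Groth.Agent.Lib.Helper3.ModelMod.exists_module_model A B B
  exact ⟨A₀, i1, i2, B₀, i3, i4, i5, i6, i7, i8, hA₀, hB₀, hpush⟩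

end RingModel

section General

variable {k : Type u} [CommRing k] {S : Type u} [CommRing S] [Algebra k S]
  {R' : Type u} [CommRing R'] [Algebra k R'] [Algebra S R'] [IsScalarTower k S R']
  {X : Type u} [CommRing X] [Algebra k X]
  {A : Type u} [CommRing A] [Algebra S A] [Algebra k A] [IsScalarTower k S A]
  {B : Type u} [CommRing B] [Algebra R' B] [Algebra S B] [Algebra k B] [IsScalarTower S R' B]
  [IsScalarTower k S B] [IsScalarTower k R' B]

/-- Functoriality of `j2`. -/
theorem j2_j2 (i : X →ₐ[k] A) (j' : A →ₐ[S] B) (j : X →ₐ[k] B) (hj : ∀ x, j' (i x) = j x)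
    (y : X ⊗[k] X) :
    j2 (R' := R') j' (j2 (R' := S) i y) = j2 (R' := R') j y := by
  induction y using TensorProduct.induction_on with
  | zero => simp
  | tmul b b' => rw [j2_tmul, j2_tmul, j2_tmul, hj, hj]
  | add x y hx hy => rw [map_add, map_add, hx, hy, map_add]

end General

section Kappa

variable {R : Type u} [CommRing R] {R' : Type u} [CommRing R'] [Algebra R R']
  {A : Type u} [CommRing A] [Algebra R A]
  {B : Type u} [CommRing B] [Algebra R' B] [Algebra R B] [IsScalarTower R R' B]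
  (j : A →ₐ[R] B) (hΘ : Function.Bijective (theta (R' := R') j))

theorem theta_j2_eq_kappa (z : R' ⊗[R] (A ⊗[R] A)) :
    theta (R' := R') (j2 (R' := R') j) z = kappa j hΘ z := by
  induction z using TensorProduct.induction_on with
  | zero => simp
  | tmul r y =>
    have h1 : r ⊗ₜ[R] y = r • ((1 : R') ⊗ₜ[R] y) := by
      rw [TensorProduct.smul_tmul', smul_eq_mul, mul_one]
    rw [theta_tmul, h1, map_smul, kappa_one_tmul]
  | add x y hx hy => rw [map_add, map_add, hx, hy]

include hΘ in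
theorem theta_j2_bijective : Function.Bijective (theta (R' := R') (j2 (R' := R') j)) := by
  have h : (theta (R' := R') (j2 (R' := R') j) : R' ⊗[R] (A ⊗[R] A) → B ⊗[R'] B) =
      kappa j hΘ := funext (theta_j2_eq_kappa j hΘ)
  rw [h]
  exact (kappa j hΘ).bijective

end Kappa

section Kill

/-- Elements of a module dying in `R' ⊗ -` die over a finitely generated subalgebra. -/
theorem exists_kill (S : Type u) [CommRing S] (R' : Type u) [CommRing R'] [Algebra S R']
    (W : Type u) [AddCommGroup W] [Module S W] (F : Finset W)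
    (hF : ∀ d ∈ F, (1 : R') ⊗ₜ[S] d = 0) :
    ∃ t : Finset R', ∀ t' : Finset R', t ⊆ t' →
      ∀ d ∈ F, (1 : Algebra.adjoin S (t' : Set R')) ⊗ₜ[S] d = 0 := by
  classical
  have sysS := Groth.Agent.Lib.R2H4.IntInjFlat.sys_adjoin S R'
  obtain ⟨t, φ, -, hφ⟩ := sysS.tensor_kill_left_finset W ∅
    (F.image (fun d => (1 : Algebra.adjoin S ((∅ : Finset R') : Set R')) ⊗ₜ[S] d)) (by
      intro z hz
      obtain ⟨d, hd, rfl⟩ := Finset.mem_image.mp hz
      rw [LinearMap.rTensor_tmul]
      exact hF d hd)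
  refine ⟨t, fun t' htt' d hd => ?_⟩
  have h1 := hφ _ (Finset.mem_image_of_mem _ hd)
  rw [LinearMap.rTensor_tmul, AlgHom.toLinearMap_apply, map_one] at h1
  have h2 := congrArg (LinearMap.rTensor W
    (Subalgebra.inclusion (Algebra.adjoin_mono (R := S)
      (by exact_mod_cast htt' : (t : Set R') ⊆ (t' : Set R')))).toLinearMap) h1
  rw [LinearMap.rTensor_tmul, AlgHom.toLinearMap_apply, map_one, map_zero] at h2
  exact h2

end Kill

section Candidates

variable {k : Type u} [CommRing k] {R' : Type u} [CommRing R'] [Algebra k R']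
  {X : Type u} [CommRing X] [Algebra k X]
  {B : Type u} [CommRing B] [HopfAlgebra R' B] [Algebra k B] [IsScalarTower k R' B]
  (j₀ : X →ₐ[k] B) (hΘ₀ : Function.Bijective (theta (R' := R') j₀))

theorem up_eq_map (S : Subalgebra k R') (Y : Type u) [CommRing Y] [Algebra k Y]
    (z : S ⊗[k] Y) :
    up k S R' Y z = Algebra.TensorProduct.map S.val (AlgHom.id k Y) z := by
  induction z using TensorProduct.induction_on with
  | zero => simp
  | tmul s y => rfl
  | add x y hx hy => rw [map_add, map_add, hx, hy]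

/-- Comparison of the two ways from `S ⊗ (X ⊗ X)` to `B ⊗ B`. -/
theorem j2_jR_c2 (S : Subalgebra k R') (w : S ⊗[k] (X ⊗[k] X)) :
    j2 (R' := R') (jR S j₀)
        (theta (R' := S) (j2 (R' := S)
          (Algebra.TensorProduct.includeRight : X →ₐ[k] S ⊗[k] X)) w) =
      theta (R' := R') (j2 (R' := R') j₀)
        (Algebra.TensorProduct.map S.val (AlgHom.id k (X ⊗[k] X)) w) := by
  induction w using TensorProduct.induction_on with
  | zero => simp
  | tmul s y =>
    rw [theta_tmul, map_smul, Algebra.TensorProduct.map_tmul, theta_tmul, AlgHom.id_apply,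
      j2_j2 (R' := R') (Algebra.TensorProduct.includeRight : X →ₐ[k] S ⊗[k] X) (jR S j₀) j₀
        (fun x => jR_one_tmul j₀ x)]
    rfl
  | add x y hx hy => rw [map_add, map_add, hx, hy, map_add, map_add]

include hΘ₀ in
/-- **Step 1**: the structure maps of `B` are defined over a finitely generated subalgebra. -/
theorem exists_candidates [Algebra.FinitePresentation k X] :
    ∃ (t : Finset R') (D : PreHopf (Algebra.adjoin k (t : Set R'))
        (Algebra.adjoin k (t : Set R') ⊗[k] X)),
      PreHopf.IsMor D (PreHopf.ofHopf R' B) (jR (Algebra.adjoin k (t : Set R')) j₀) := by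
  classical
  have sys := Groth.Agent.Lib.R2H4.IntInjFlat.sys_adjoin k R'
  -- the comparison isomorphisms as algebra isomorphisms
  let θalg : R' ⊗[k] X ≃ₐ[R'] B := AlgEquiv.ofBijective (theta (R' := R') j₀) hΘ₀
  let κalg : R' ⊗[k] (X ⊗[k] X) ≃ₐ[R'] B ⊗[R'] B :=
    AlgEquiv.ofBijective (theta (R' := R') (j2 (R' := R') j₀)) (theta_j2_bijective j₀ hΘ₀)
  let ρΔ : X →ₐ[k] R' ⊗[k] (X ⊗[k] X) :=
    ((κalg.symm : B ⊗[R'] B →ₐ[R'] R' ⊗[k] (X ⊗[k] X)).restrictScalars k).comp
      (((Bialgebra.comulAlgHom R' B).restrictScalars k).comp j₀)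
  let ρε : X →ₐ[k] R' := ((Bialgebra.counitAlgHom R' B).restrictScalars k).comp j₀
  let ρσ : X →ₐ[k] R' ⊗[k] X :=
    ((θalg.symm : B →ₐ[R'] R' ⊗[k] X).restrictScalars k).comp
      (((HopfAlgebra.antipodeAlgHom R' B).restrictScalars k).comp j₀)
  obtain ⟨t₁, ρ₁, hρ₁⟩ := (sys.tensorRight (X ⊗[k] X)).lift_algHom X ρΔ
  obtain ⟨t₂, ρ₂, hρ₂⟩ := sys.lift_algHom X ρε
  obtain ⟨t₃, ρ₃, hρ₃⟩ := (sys.tensorRight X).lift_algHom X ρσ
  -- a common level
  have ht₁ : (t₁ : Set R') ⊆ ((t₁ ∪ t₂ ∪ t₃ : Finset R') : Set R') := by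
    intro a ha
    simp only [Finset.coe_union, Set.mem_union]
    exact Or.inl (Or.inl ha)
  have ht₂ : (t₂ : Set R') ⊆ ((t₁ ∪ t₂ ∪ t₃ : Finset R') : Set R') := by
    intro a ha
    simp only [Finset.coe_union, Set.mem_union]
    exact Or.inl (Or.inr ha)
  have ht₃ : (t₃ : Set R') ⊆ ((t₁ ∪ t₂ ∪ t₃ : Finset R') : Set R') := by
    intro a ha
    simp only [Finset.coe_union, Set.mem_union]
    exact Or.inr ha
  refine ⟨t₁ ∪ t₂ ∪ t₃, ?_⟩
  set S : Subalgebra k R' := Algebra.adjoin k ((t₁ ∪ t₂ ∪ t₃ : Finset R') : Set R') with hS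
  let i₁ : Algebra.adjoin k (t₁ : Set R') →ₐ[k] S := Subalgebra.inclusion (Algebra.adjoin_mono ht₁)
  let i₂ : Algebra.adjoin k (t₂ : Set R') →ₐ[k] S := Subalgebra.inclusion (Algebra.adjoin_mono ht₂)
  let i₃ : Algebra.adjoin k (t₃ : Set R') →ₐ[k] S := Subalgebra.inclusion (Algebra.adjoin_mono ht₃)
  let ρΔ' : X →ₐ[k] S ⊗[k] (X ⊗[k] X) :=
    (Algebra.TensorProduct.map i₁ (AlgHom.id k (X ⊗[k] X))).comp ρ₁
  let ρε' : X →ₐ[k] S := i₂.comp ρ₂
  let ρσ' : X →ₐ[k] S ⊗[k] X := (Algebra.TensorProduct.map i₃ (AlgHom.id k X)).comp ρ₃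
  have hΔ' : ∀ x, Algebra.TensorProduct.map S.val (AlgHom.id k (X ⊗[k] X)) (ρΔ' x) = ρΔ x := by
    intro x
    have h1 : ∀ w : Algebra.adjoin k (t₁ : Set R') ⊗[k] (X ⊗[k] X),
        Algebra.TensorProduct.map S.val (AlgHom.id k (X ⊗[k] X))
          (Algebra.TensorProduct.map i₁ (AlgHom.id k (X ⊗[k] X)) w) =
        Algebra.TensorProduct.map (Algebra.adjoin k (t₁ : Set R')).val
          (AlgHom.id k (X ⊗[k] X)) w := by
      intro w
      induction w using TensorProduct.induction_on with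
      | zero => simp
      | tmul s y => rfl
      | add a b ha hb => rw [map_add, map_add, ha, hb, map_add]
    change Algebra.TensorProduct.map S.val (AlgHom.id k (X ⊗[k] X))
      (Algebra.TensorProduct.map i₁ (AlgHom.id k (X ⊗[k] X)) (ρ₁ x)) = ρΔ x
    rw [h1, ← hρ₁]
    rfl
  have hε' : ∀ x, ((ρε' x : S) : R') = ρε x := by
    intro x
    rw [← hρ₂]
    rfl
  have hσ' : ∀ x, Algebra.TensorProduct.map S.val (AlgHom.id k X) (ρσ' x) = ρσ x := by
    intro x
    have h1 : ∀ w : Algebra.adjoin k (t₃ : Set R') ⊗[k] X,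
        Algebra.TensorProduct.map S.val (AlgHom.id k X)
          (Algebra.TensorProduct.map i₃ (AlgHom.id k X) w) =
        Algebra.TensorProduct.map (Algebra.adjoin k (t₃ : Set R')).val (AlgHom.id k X) w := by
      intro w
      induction w using TensorProduct.induction_on with
      | zero => simp
      | tmul s y => rfl
      | add a b ha hb => rw [map_add, map_add, ha, hb, map_add]
    change Algebra.TensorProduct.map S.val (AlgHom.id k X)
      (Algebra.TensorProduct.map i₃ (AlgHom.id k X) (ρ₃ x)) = ρσ x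
    rw [h1, ← hρ₃]
    rfl
  -- towers
  haveI tw1 : IsScalarTower S R' B := IsScalarTower.of_algebraMap_eq (fun _ => rfl)
  haveI tw2 : IsScalarTower k S B := IsScalarTower.of_algebraMap_eq (fun x => by
    rw [IsScalarTower.algebraMap_apply k R' B]
    rfl)
  -- the candidate
  let c2 : S ⊗[k] (X ⊗[k] X) →ₐ[S] (S ⊗[k] X) ⊗[S] (S ⊗[k] X) :=
    theta (R' := S) (j2 (R' := S) (Algebra.TensorProduct.includeRight : X →ₐ[k] S ⊗[k] X))
  let D : PreHopf S (S ⊗[k] X) :=
    { Δ := theta (R' := S) ((c2.restrictScalars k).comp ρΔ')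
      ε := theta (R' := S) ρε'
      σ := theta (R' := S) ρσ' }
  refine ⟨D, ?_, ?_, ?_⟩
  · -- comultiplication
    have key : (j2 (R' := R') (jR S j₀)).comp D.Δ =
        ((Bialgebra.comulAlgHom R' B).restrictScalars S).comp (jR S j₀) := by
      apply PreHopf.algHom_ext_one_tmul
      intro x
      change j2 (R' := R') (jR S j₀)
        (theta (R' := S) ((c2.restrictScalars k).comp ρΔ') ((1 : S) ⊗ₜ[k] x)) =
        comul (R := R') (jR S j₀ ((1 : S) ⊗ₜ[k] x))
      rw [theta_tmul, one_smul, jR_one_tmul]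
      change j2 (R' := R') (jR S j₀) (c2 (ρΔ' x)) = _
      rw [j2_jR_c2, hΔ']
      change κalg (κalg.symm (comul (R := R') (j₀ x))) = _
      rw [AlgEquiv.apply_symm_apply]
    intro a
    exact congrArg (fun f => f a) key
  · -- counit
    have key : (Algebra.ofId S R').comp D.ε =
        ((Bialgebra.counitAlgHom R' B).restrictScalars S).comp (jR S j₀) := by
      apply PreHopf.algHom_ext_one_tmul
      intro x
      change algebraMap S R' (theta (R' := S) ρε' ((1 : S) ⊗ₜ[k] x)) =
        counit (R := R') (jR S j₀ ((1 : S) ⊗ₜ[k] x))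
      rw [theta_tmul, one_smul, jR_one_tmul]
      exact hε' x
    intro a
    exact congrArg (fun f => f a) key
  · -- antipode
    have key : (jR S j₀).comp D.σ =
        ((HopfAlgebra.antipodeAlgHom R' B).restrictScalars S).comp (jR S j₀) := by
      apply PreHopf.algHom_ext_one_tmul
      intro x
      change jR S j₀ (theta (R' := S) ρσ' ((1 : S) ⊗ₜ[k] x)) =
        HopfAlgebra.antipodeAlgHom R' B (jR S j₀ ((1 : S) ⊗ₜ[k] x))
      rw [theta_tmul, one_smul, jR_one_tmul, ← theta_up (R' := R') j₀, up_eq_map, hσ']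
      change θalg (θalg.symm (HopfAlgebra.antipodeAlgHom R' B (j₀ x))) = _
      rw [AlgEquiv.apply_symm_apply]
    intro a
    exact congrArg (fun f => f a) key

end Candidates

section Stage

variable {S : Type u} [CommRing S] {R' : Type u} [CommRing R'] [Algebra S R']
  {A : Type u} [CommRing A] [Algebra S A]
  {B : Type u} [CommRing B] [HopfAlgebra R' B] [Algebra S B] [IsScalarTower S R' B]
  (D : PreHopf S A) (j : A →ₐ[S] B) (hΘ : Function.Bijective (theta (R' := R') j))
  (hm : PreHopf.IsMor D (PreHopf.ofHopf R' B) j)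

include hΘ hm in
/-- **Step 2**: the axioms hold after enlarging the base by finitely many elements. -/
theorem exists_hopf_stage (s : Finset A) (hs : Algebra.adjoin S (s : Set A) = ⊤) :
    ∃ u : Finset R', (D.bc (Algebra.adjoin S (u : Set R'))).IsHopf := by
  classical
  obtain ⟨u₁, hu₁⟩ := exists_kill S R' (A ⊗[S] (A ⊗[S] A))
    (s.image (fun x => D.L1 x - D.R1 x)) (by
      intro d hd
      obtain ⟨x, -, rfl⟩ := Finset.mem_image.mp hd
      exact PreHopf.tmul_defect1 hΘ hm _)
  obtain ⟨u₂, hu₂⟩ := exists_kill S R' A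
    (s.image (fun x => D.L2 x - x)) (by
      intro d hd
      obtain ⟨x, -, rfl⟩ := Finset.mem_image.mp hd
      exact PreHopf.tmul_defect2 hΘ hm _)
  obtain ⟨u₃, hu₃⟩ := exists_kill S R' A
    (s.image (fun x => D.L3 x - x)) (by
      intro d hd
      obtain ⟨x, -, rfl⟩ := Finset.mem_image.mp hd
      exact PreHopf.tmul_defect3 hΘ hm _)
  obtain ⟨u₄, hu₄⟩ := exists_kill S R' A
    (s.image (fun x => D.L4 x - D.R4 x)) (by
      intro d hd
      obtain ⟨x, -, rfl⟩ := Finset.mem_image.mp hd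
      exact PreHopf.tmul_defect4 hΘ hm _)
  obtain ⟨u₅, hu₅⟩ := exists_kill S R' A
    (s.image (fun x => D.L5 x - D.R4 x)) (by
      intro d hd
      obtain ⟨x, -, rfl⟩ := Finset.mem_image.mp hd
      exact PreHopf.tmul_defect5 hΘ hm _)
  refine ⟨u₁ ∪ u₂ ∪ u₃ ∪ u₄ ∪ u₅, ?_⟩
  have h1 : u₁ ⊆ u₁ ∪ u₂ ∪ u₃ ∪ u₄ ∪ u₅ := by
    intro a ha
    simp only [Finset.mem_union]
    tauto
  have h2 : u₂ ⊆ u₁ ∪ u₂ ∪ u₃ ∪ u₄ ∪ u₅ := by
    intro a ha
    simp only [Finset.mem_union]
    tauto
  have h3 : u₃ ⊆ u₁ ∪ u₂ ∪ u₃ ∪ u₄ ∪ u₅ := by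
    intro a ha
    simp only [Finset.mem_union]
    tauto
  have h4 : u₄ ⊆ u₁ ∪ u₂ ∪ u₃ ∪ u₄ ∪ u₅ := by
    intro a ha
    simp only [Finset.mem_union]
    tauto
  have h5 : u₅ ⊆ u₁ ∪ u₂ ∪ u₃ ∪ u₄ ∪ u₅ := by
    intro a ha
    simp only [Finset.mem_union]
    tauto
  refine PreHopf.isHopf_bc_of_kill _ D (s : Set A) hs ?_ ?_ ?_ ?_ ?_
  · intro x hx
    exact hu₁ _ h1 _ (Finset.mem_image_of_mem _ hx)
  · intro x hx
    exact hu₂ _ h2 _ (Finset.mem_image_of_mem _ hx)
  · intro x hx
    exact hu₃ _ h3 _ (Finset.mem_image_of_mem _ hx)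
  · intro x hx
    exact hu₄ _ h4 _ (Finset.mem_image_of_mem _ hx)
  · intro x hx
    exact hu₅ _ h5 _ (Finset.mem_image_of_mem _ hx)

end Stage

section Assemble

variable {S : Type u} [CommRing S] {S' : Type u} [CommRing S'] [Algebra S S']
  {R' : Type u} [CommRing R'] [Algebra S R'] [Algebra S' R'] [IsScalarTower S S' R']
  {A : Type u} [CommRing A] [Algebra S A]
  {B : Type u} [CommRing B] [HopfAlgebra R' B] [Algebra S B] [Algebra S' B]
  [IsScalarTower S R' B] [IsScalarTower S' R' B] [IsScalarTower S S' B]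
  (D : PreHopf S A) (j : A →ₐ[S] B) (hΘ : Function.Bijective (theta (R' := R') j))
  (hm : PreHopf.IsMor D (PreHopf.ofHopf R' B) j) (hD' : (D.bc S').IsHopf)

include hΘ hm in
/-- **Step 3**: the base-changed candidate is a model of `B`. -/
theorem nonempty_bialgEquiv_of_stage :
    letI := (D.bc S').hopfOf hD'
    Nonempty (R' ⊗[S'] (S' ⊗[S] A) ≃ₐc[R'] B) := by
  letI hopf : HopfAlgebra S' (S' ⊗[S] A) := (D.bc S').hopfOf hD'
  have hΘ' : Function.Bijective (theta (R' := R') (jR S' j)) :=
    theta_jR_bijective (k := S) (R := S') j hΘ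
  have hmb := PreHopf.isMor_bc S' D
  have hjj : ∀ a : A, jR S' j ((PreHopf.incl (S := S) S' (A := A)) a) = j a :=
    fun a => jR_one_tmul j a
  have hcomul : ∀ a' : S' ⊗[S] A,
      j2 (R' := R') (jR S' j) (comul (R := S') a') = comul (R := R') (jR S' j a') := by
    have key : (j2 (R' := R') (jR S' j)).comp (D.bc S').Δ =
        ((Bialgebra.comulAlgHom R' B).restrictScalars S').comp (jR S' j) := by
      apply PreHopf.algHom_ext_one_tmul
      intro a
      change j2 (R' := R') (jR S' j)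
        ((D.bc S').Δ ((PreHopf.incl (S := S) S' (A := A)) a)) =
        comul (R := R') (jR S' j ((PreHopf.incl (S := S) S' (A := A)) a))
      rw [← hmb.hΔ, hjj, j2_j2 (R' := R') (PreHopf.incl (S := S) S' (A := A))
        (jR S' j) j hjj, hm.hΔ]
      rfl
    intro a'
    exact congrArg (fun f => f a') key
  have hcounit : ∀ a' : S' ⊗[S] A,
      algebraMap S' R' (counit (R := S') a') = counit (R := R') (jR S' j a') := by
    have key : (Algebra.ofId S' R').comp (D.bc S').ε =
        ((Bialgebra.counitAlgHom R' B).restrictScalars S').comp (jR S' j) := by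
      apply PreHopf.algHom_ext_one_tmul
      intro a
      change algebraMap S' R' ((D.bc S').ε ((PreHopf.incl (S := S) S' (A := A)) a)) =
        counit (R := R') (jR S' j ((PreHopf.incl (S := S) S' (A := A)) a))
      rw [← hmb.hε, hjj, ← IsScalarTower.algebraMap_apply, hm.hε]
      rfl
    intro a'
    exact congrArg (fun f => f a') key
  obtain ⟨Φ, hΦ⟩ := Groth.Agent.Lib.R2H7.HopfDesc.exists_bialgHom (R' := R')
    (jR S' j) hcomul hcounit
  have hΦθ : ∀ z, Φ z = theta (R' := R') (jR S' j) z := by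
    intro z
    induction z using TensorProduct.induction_on with
    | zero => simp
    | tmul r a => rw [hΦ, theta_tmul]
    | add x y hx hy => rw [map_add, map_add, hx, hy]
  have hΦb : Function.Bijective Φ := by
    have h : (Φ : R' ⊗[S'] (S' ⊗[S] A) → B) = theta (R' := R') (jR S' j) := funext hΦθ
    rw [h]
    exact hΘ'
  exact ⟨BialgEquiv.ofBijective Φ hΦb⟩

end Assemble

section Main

/-- **Noetherian Hopf model** (no flatness): a finitely presented commutative Hopf algebra `B` over `R'`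
is the base change of a Hopf algebra of finite type over a `ℤ`-algebra of finite type. -/
theorem hopf_model_nf (R' : Type u) [CommRing R'] (B : Type u) [CommRing B] [HopfAlgebra R' B]
    [Algebra.FinitePresentation R' B] :
    ∃ (R₁ : Type u) (_ : CommRing R₁) (_ : Algebra R₁ R') (A₁ : Type u) (_ : CommRing A₁)
      (_ : HopfAlgebra R₁ A₁), Algebra.FiniteType ℤ R₁ ∧ Algebra.FiniteType R₁ A₁ ∧
      Nonempty (R' ⊗[R₁] A₁ ≃ₐc[R'] B) := by
  classical
  obtain ⟨k, _, _, X, _, _, _, _, _, _, hk, hX, hpush⟩ := exists_ring_model_nf R' B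
  haveI : IsNoetherianRing k := Algebra.FiniteType.isNoetherianRing ℤ k
  haveI : Algebra.FinitePresentation k X := Algebra.FinitePresentation.of_finiteType.mp hX
  let j₀ : X →ₐ[k] B := IsScalarTower.toAlgHom k X B
  have hΘ₀ : Function.Bijective (theta (R' := R') j₀) := by
    have h : (theta (R' := R') j₀ : R' ⊗[k] X → B) = Algebra.IsPushout.equiv k R' X B := by
      funext z
      induction z using TensorProduct.induction_on with
      | zero => simp
      | tmul r x =>
        rw [theta_tmul, Algebra.IsPushout.equiv_tmul, Algebra.smul_def]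
        rfl
      | add x y hx hy => rw [map_add, map_add, hx, hy]
    rw [h]
    exact (Algebra.IsPushout.equiv k R' X B).bijective
  obtain ⟨t₀, D, hm⟩ := exists_candidates j₀ hΘ₀
  haveI tw1 : IsScalarTower (Algebra.adjoin k (t₀ : Set R')) R' B :=
    IsScalarTower.of_algebraMap_eq (fun _ => rfl)
  haveI tw2 : IsScalarTower k (Algebra.adjoin k (t₀ : Set R')) B :=
    IsScalarTower.of_algebraMap_eq (fun x => by
      rw [IsScalarTower.algebraMap_apply k R' B]
      rfl)
  have hΘS : Function.Bijective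
      (theta (R' := R') (jR (Algebra.adjoin k (t₀ : Set R')) j₀)) :=
    theta_jR_bijective (R := Algebra.adjoin k (t₀ : Set R')) j₀ hΘ₀
  obtain ⟨s, hs⟩ := hX.out
  have hs' : Algebra.adjoin k (s : Set X) = ⊤ := hs
  have hgen : Algebra.adjoin (Algebra.adjoin k (t₀ : Set R'))
      ((s.image (PreHopf.incl (S := k) (Algebra.adjoin k (t₀ : Set R')) (A := X)) :
        Finset (Algebra.adjoin k (t₀ : Set R') ⊗[k] X)) :
        Set (Algebra.adjoin k (t₀ : Set R') ⊗[k] X)) = ⊤ := by
    rw [Finset.coe_image]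
    exact PreHopf.adjoin_incl_eq_top _ (s : Set X) hs'
  obtain ⟨u, hD'⟩ := exists_hopf_stage D (jR (Algebra.adjoin k (t₀ : Set R')) j₀) hΘS hm _ hgen
  haveI tw3 : IsScalarTower (Algebra.adjoin (Algebra.adjoin k (t₀ : Set R')) (u : Set R')) R' B :=
    IsScalarTower.of_algebraMap_eq (fun _ => rfl)
  haveI tw4 : IsScalarTower (Algebra.adjoin k (t₀ : Set R'))
      (Algebra.adjoin (Algebra.adjoin k (t₀ : Set R')) (u : Set R')) B :=
    IsScalarTower.of_algebraMap_eq (fun _ => rfl)
  have hι := nonempty_bialgEquiv_of_stage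
    (S' := Algebra.adjoin (Algebra.adjoin k (t₀ : Set R')) (u : Set R')) D
    (jR (Algebra.adjoin k (t₀ : Set R')) j₀) hΘS hm hD'
  haveI hSft : Algebra.FiniteType k (Algebra.adjoin k (t₀ : Set R')) :=
    (Subalgebra.fg_iff_finiteType _).mp (Subalgebra.fg_adjoin_finset t₀)
  haveI hS'ft : Algebra.FiniteType (Algebra.adjoin k (t₀ : Set R'))
      (Algebra.adjoin (Algebra.adjoin k (t₀ : Set R')) (u : Set R')) :=
    (Subalgebra.fg_iff_finiteType _).mp (Subalgebra.fg_adjoin_finset u)
  haveI : Algebra.FiniteType ℤ (Algebra.adjoin k (t₀ : Set R')) :=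
    Algebra.FiniteType.trans hk hSft
  exact ⟨Algebra.adjoin (Algebra.adjoin k (t₀ : Set R')) (u : Set R'), inferInstance,
    inferInstance, _, inferInstance, (D.bc _).hopfOf hD',
    Algebra.FiniteType.trans
      (inferInstance : Algebra.FiniteType ℤ (Algebra.adjoin k (t₀ : Set R'))) hS'ft,
    inferInstance, hι⟩

end Main

end Groth.Agent.Lib.R2H7.Fib
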