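import Mathlib
import Groth.Prelude.Def_SGA3b
import Groth.Agent.Lib.R2H7FibH
import Groth.Agent.Lib.R2H7FibL
import Groth.Agent.Lib.Helper18ColimSys2

/-!
# R2H7Approx: Noetherian approximation of (quasi-)isotrivial groups of multiplicative type

`C₁` a finitely presented Hopf algebra over `R₁`, `A` an `R₁`-algebra.

* `finitePresentation_of_isMultType`, `finitePresentation_of_isIsotrivial`.
* `isIsotrivial_baseChange`, `isQuasiIsotrivialConst_away_baseChange`.
* `exists_chart_model`: an etale `A`-algebra `E` splitting `A ⊗ C₁` has an etale model `Y` over a finitely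
  generated `R₁`-subalgebra `S` of `A` which splits `S ⊗ C₁` (finite if `E` is).
* `exists_level_quasiIsotrivial`, `exists_level_isotrivial`: if `A ⊗ C₁` is quasi-isotrivial (isotrivial) then
  so is `S ⊗ C₁` for some `R₁`-algebra `S` of finite type mapping to `A`.
* `exists_factor`, `assemble`: a ring of finite type over `ℤ` mapping to a directed union of subrings factors
  through a member; the assembled descent statement.
-/

set_option autoImplicit false
set_option linter.style.haveILetI false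
universe u

namespace Groth.Agent.Lib.R2H7.Approx

open TensorProduct Coalgebra SGA3b Groth.Agent.Lib.Helper25 Groth.Agent.Lib.Helper18ColimSys

section FP

theorem finitePresentation_of_subsingleton (R A : Type u) [CommRing R] [CommRing A] [Algebra R A]
    [Subsingleton A] : Algebra.FinitePresentation R A := by
  refine Algebra.FinitePresentation.of_surjective (f := Algebra.ofId R A)
    (fun a => ⟨0, Subsingleton.elim _ _⟩) ?_
  have h : RingHom.ker (Algebra.ofId R A).toRingHom = ⊤ := by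
    rw [Ideal.eq_top_iff_one, RingHom.mem_ker]
    exact Subsingleton.elim _ _
  rw [h]
  exact ⟨{1}, by rw [Finset.coe_singleton, Ideal.span_singleton_one]⟩

/-- A Hopf algebra of finite type which is a group algebra after a faithfully flat base change is finitely
presented. -/
theorem finitePresentation_of_isDiag_ff (R A : Type u) [CommRing R] [CommRing A] [HopfAlgebra R A]
    (hft : Algebra.FiniteType R A) (R' : Type u) [CommRing R'] [Algebra R R']
    [Module.FaithfullyFlat R R'] (hD : IsDiag R' (R' ⊗[R] A)) : Algebra.FinitePresentation R A := by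
  haveI := hft
  rcases subsingleton_or_nontrivial R' with h | h
  · haveI : Subsingleton R := (FaithfulSMul.algebraMap_injective R R').subsingleton
    haveI : Subsingleton A := Module.subsingleton R A
    exact finitePresentation_of_subsingleton R A
  · obtain ⟨M₀, _, ⟨ε⟩⟩ := hD
    haveI : Algebra.FiniteType R' (MonoidAlgebra R' M₀) :=
      Algebra.FiniteType.equiv (inferInstance : Algebra.FiniteType R' (R' ⊗[R] A)) ε.toAlgEquiv
    have hM₀ : Monoid.FG M₀ := MonoidAlgebra.fg_of_finiteType (R := R')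
    haveI : Algebra.FinitePresentation R' (MonoidAlgebra R' M₀) :=
      KerFT.finitePresentation_monoidAlgebra R' M₀ (Group.fg_iff_monoid_fg.mpr hM₀)
    haveI : Algebra.FinitePresentation R' (R' ⊗[R] A) :=
      Algebra.FinitePresentation.equiv ε.toAlgEquiv.symm
    exact Algebra.FinitePresentation.of_finitePresentation_tensorProduct_of_faithfullyFlat R'

theorem finitePresentation_of_isMultType (R A : Type u) [CommRing R] [CommRing A] [HopfAlgebra R A]
    (hft : Algebra.FiniteType R A) (h : IsMultType R A) : Algebra.FinitePresentation R A := by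
  haveI := hft
  obtain ⟨s, hs, hc⟩ := h
  rw [← RingHom.finitePresentation_algebraMap]
  refine FinMult.of_span_tensor RingHom.finitePresentation_isLocal.ofLocalizationSpan
    RingHom.finitePresentation_respectsIso s hs (fun f hf => ?_)
  obtain ⟨R', _, _, hff, hD⟩ := hc f hf
  rw [RingHom.finitePresentation_algebraMap]
  haveI := hff
  exact finitePresentation_of_isDiag_ff _ _ inferInstance R' hD

theorem finitePresentation_of_isIsotrivial (R A : Type u) [CommRing R] [CommRing A]
    [HopfAlgebra R A] (hft : Algebra.FiniteType R A) (h : IsIsotrivial R A) :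
    Algebra.FinitePresentation R A := by
  obtain ⟨R', _, _, -, -, hff, hD⟩ := h
  haveI := hff
  exact finitePresentation_of_isDiag_ff R A hft R' hD

end FP

section BaseChange

/-- Isotriviality is stable under base change. -/
theorem isIsotrivial_baseChange {S : Type u} [CommRing S] {H : Type u} [CommRing H]
    [HopfAlgebra S H] (T : Type u) [CommRing T] [Algebra S T] (h : IsIsotrivial S H) :
    IsIsotrivial T (T ⊗[S] H) := by
  obtain ⟨S', _, _, het, hfin, hff, hD⟩ := h
  haveI := het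
  haveI := hfin
  haveI := hff
  letI : Algebra S' (T ⊗[S] S') := Algebra.TensorProduct.rightAlgebra
  haveI : IsScalarTower S S' (T ⊗[S] S') := Algebra.TensorProduct.right_isScalarTower
  have h1 : IsDiag (T ⊗[S] S') ((T ⊗[S] S') ⊗[S] H) :=
    BCB.isDiag_baseChange_of_tower S H S' (T ⊗[S] S') hD
  refine ⟨T ⊗[S] S', inferInstance, inferInstance, inferInstance, inferInstance, inferInstance,
    ?_⟩
  exact BCB.isDiag_of_equiv (BCB.cancelBC S T (T ⊗[S] S') H) h1

/-- Quasi-isotriviality with constant type over a basic open set is stable under base change. -/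
theorem isQuasiIsotrivialConst_away_baseChange {S : Type u} [CommRing S] {H : Type u} [CommRing H]
    [HopfAlgebra S H] (T : Type u) [CommRing T] [Algebra S T] (f : S)
    (hmt : IsQuasiIsotrivialConst (Localization.Away f) (Localization.Away f ⊗[S] H)) :
    IsQuasiIsotrivialConst (Localization.Away (algebraMap S T f))
      (Localization.Away (algebraMap S T f) ⊗[T] (T ⊗[S] H)) := by
  have hunit : IsUnit (algebraMap S (Localization.Away (algebraMap S T f)) f) := by
    rw [IsScalarTower.algebraMap_apply S T (Localization.Away (algebraMap S T f))]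
    exact IsLocalization.Away.algebraMap_isUnit _
  let g : Localization.Away f →ₐ[S] Localization.Away (algebraMap S T f) :=
    IsLocalization.Away.liftAlgHom (A := S) (R := S) f
      (f := Algebra.ofId S (Localization.Away (algebraMap S T f))) hunit
  letI : Algebra (Localization.Away f) (Localization.Away (algebraMap S T f)) :=
    g.toRingHom.toAlgebra
  haveI : IsScalarTower S (Localization.Away f) (Localization.Away (algebraMap S T f)) :=
    IsScalarTower.of_algebraMap_eq (fun r => (g.commutes r).symm)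
  have h1 : IsQuasiIsotrivialConst (Localization.Away (algebraMap S T f))
      (Localization.Away (algebraMap S T f) ⊗[Localization.Away f]
        (Localization.Away f ⊗[S] H)) :=
    HomLift.isQuasiIsotrivialConst_baseChange _ hmt
  have h2 : IsQuasiIsotrivialConst (Localization.Away (algebraMap S T f))
      (Localization.Away (algebraMap S T f) ⊗[S] H) :=
    QIsoMain.isQuasiIsotrivialConst_of_equiv
      (BCB.cancelBC S (Localization.Away f) (Localization.Away (algebraMap S T f)) H).symm h1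
  exact QIsoMain.isQuasiIsotrivialConst_of_equiv
    (BCB.cancelBC S T (Localization.Away (algebraMap S T f)) H) h2

end BaseChange

section Mono

variable {R S S' : Type u} [CommRing R] [CommRing S] [CommRing S'] [Algebra R S] [Algebra R S']

theorem finite_of_algHom (X : Type u) [CommRing X] [Algebra R X] (φ : S →ₐ[R] S')
    (h : Module.Finite S (S ⊗[R] X)) : Module.Finite S' (S' ⊗[R] X) := by
  letI : Algebra S S' := φ.toRingHom.toAlgebra
  haveI : IsScalarTower R S S' := IsScalarTower.of_algebraMap_eq (fun r => (φ.commutes r).symm)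
  haveI : Module.Finite S' (S' ⊗[S] (S ⊗[R] X)) := inferInstance
  exact Module.Finite.equiv (Algebra.TensorProduct.cancelBaseChange R S S' S' X).toLinearEquiv

theorem isDiag_of_algHom (C : Type u) [CommRing C] [HopfAlgebra R C] (φ : S →ₐ[R] S')
    (h : IsDiag S (S ⊗[R] C)) : IsDiag S' (S' ⊗[R] C) := by
  letI : Algebra S S' := φ.toRingHom.toAlgebra
  haveI : IsScalarTower R S S' := IsScalarTower.of_algebraMap_eq (fun r => (φ.commutes r).symm)
  exact BCB.isDiag_baseChange_of_tower R C S S' h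

end Mono

section Chart

theorem equiv_one_tmul_algebraMap {S A Y E : Type u} [CommRing S] [CommRing A] [CommRing Y]
    [CommRing E] [Algebra S A] [Algebra S Y] [Algebra A E] (e : A ⊗[S] Y ≃ₐ[A] E) (x : S) :
    e ((1 : A) ⊗ₜ[S] (algebraMap S Y x)) = algebraMap A E (algebraMap S A x) := by
  have h1 : (1 : A) ⊗ₜ[S] (algebraMap S Y x) =
      algebraMap A (A ⊗[S] Y) (algebraMap S A x) := by
    rw [Algebra.TensorProduct.algebraMap_apply, Algebra.algebraMap_self_apply,
      Algebra.algebraMap_eq_smul_one (A := Y), TensorProduct.tmul_smul, TensorProduct.smul_tmul',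
      ← Algebra.algebraMap_eq_smul_one]
  rw [h1, e.commutes]

variable (R₁ A : Type u) [CommRing R₁] [CommRing A] [Algebra R₁ A]
  (C₁ : Type u) [CommRing C₁] [HopfAlgebra R₁ C₁] [Algebra.FinitePresentation R₁ C₁]

/-- Auxiliary form of `exists_chart_model` over an abstract first level `S₁`. -/
theorem exists_chart_model_aux
    (E : Type u) [CommRing E] [Nontrivial E] [Algebra A E] [Algebra R₁ E] [IsScalarTower R₁ A E]
    (hD : IsDiag E (E ⊗[R₁] C₁))
    (S₁ : Type u) [CommRing S₁] [Algebra R₁ S₁] [Algebra S₁ A] [IsScalarTower R₁ S₁ A]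
    (hftS₁ : Algebra.FiniteType R₁ S₁)
    (X : Type u) [CommRing X] [Algebra S₁ X] [Algebra.Etale S₁ X] (e₁ : E ≃ₐ[A] A ⊗[S₁] X) :
    ∃ (S : Type u) (_ : CommRing S) (_ : Algebra R₁ S) (_ : Algebra S A)
      (_ : IsScalarTower R₁ S A) (Y : Type u) (_ : CommRing Y) (_ : Algebra S Y),
      Algebra.FiniteType R₁ S ∧ Function.Injective (algebraMap S A) ∧ Algebra.Etale S Y ∧
      IsDiag Y (Y ⊗[S] (S ⊗[R₁] C₁)) ∧ Nonempty (A ⊗[S] Y ≃ₐ[A] E) ∧
      (Module.Finite A E → Module.Finite S Y) := by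
  classical
  have hsys := Groth.Agent.Lib.R2H4.IntInjFlat.sys_adjoin S₁ A
  have hsysX := hsys.tensorRight X
  -- the splitting over `Λ = A ⊗ X`
  letI algEΛ : Algebra E (A ⊗[S₁] X) := e₁.toAlgHom.toRingHom.toAlgebra
  haveI : IsScalarTower R₁ E (A ⊗[S₁] X) := IsScalarTower.of_algebraMap_eq (fun r => by
    change algebraMap R₁ (A ⊗[S₁] X) r = e₁ (algebraMap R₁ E r)
    rw [IsScalarTower.algebraMap_apply R₁ A E, e₁.commutes,
      ← IsScalarTower.algebraMap_apply R₁ A (A ⊗[S₁] X)])
  have hDΛ : IsDiag (A ⊗[S₁] X) ((A ⊗[S₁] X) ⊗[R₁] C₁) :=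
    BCB.isDiag_baseChange_of_tower R₁ C₁ E (A ⊗[S₁] X) hD
  have hDΛ' : IsDiag (A ⊗[S₁] X) ((A ⊗[S₁] X) ⊗[S₁] (S₁ ⊗[R₁] C₁)) :=
    BCB.isDiag_of_equiv (BCB.cancelBC R₁ S₁ (A ⊗[S₁] X) C₁) hDΛ
  obtain ⟨M, _, ⟨θ⟩⟩ := hDΛ'
  haveI : Nontrivial (A ⊗[S₁] X) := e₁.injective.nontrivial
  haveI : Algebra.FiniteType (A ⊗[S₁] X) (MonoidAlgebra (A ⊗[S₁] X) M) :=
    Algebra.FiniteType.equiv (inferInstance : Algebra.FiniteType (A ⊗[S₁] X)
      ((A ⊗[S₁] X) ⊗[S₁] (S₁ ⊗[R₁] C₁))) θ.toAlgEquiv
  have hM : Monoid.FG M := MonoidAlgebra.fg_of_finiteType (R := A ⊗[S₁] X)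
  obtain ⟨u₂, ⟨θ₂⟩⟩ := Fib.spread_iso hsysX (S₁ ⊗[R₁] C₁) M hM θ
  -- the finiteness level
  obtain ⟨u₃, hu₃⟩ : ∃ u₃ : Finset A, Module.Finite A E →
      Module.Finite (Algebra.adjoin S₁ (u₃ : Set A))
        (Algebra.adjoin S₁ (u₃ : Set A) ⊗[S₁] X) := by
    by_cases hfin : Module.Finite A E
    · haveI : Module.Finite A (A ⊗[S₁] X) := Module.Finite.equiv e₁.toLinearEquiv
      obtain ⟨u₃, hu₃⟩ := Groth.Agent.Lib.Helper18ColimSys2.core_finite hsys X inferInstance
      exact ⟨u₃, fun _ => hu₃⟩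
    · exact ⟨∅, fun h => absurd h hfin⟩
  -- the common level
  have hle₂ : Algebra.adjoin S₁ (u₂ : Set A) ≤ Algebra.adjoin S₁ ((u₂ ∪ u₃ : Finset A) : Set A) :=
    Algebra.adjoin_mono (by rw [Finset.coe_union]; exact Set.subset_union_left)
  have hle₃ : Algebra.adjoin S₁ (u₃ : Set A) ≤ Algebra.adjoin S₁ ((u₂ ∪ u₃ : Finset A) : Set A) :=
    Algebra.adjoin_mono (by rw [Finset.coe_union]; exact Set.subset_union_right)
  have hDY0 : IsDiag (Algebra.adjoin S₁ ((u₂ ∪ u₃ : Finset A) : Set A) ⊗[S₁] X)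
      ((Algebra.adjoin S₁ ((u₂ ∪ u₃ : Finset A) : Set A) ⊗[S₁] X) ⊗[S₁] (S₁ ⊗[R₁] C₁)) :=
    isDiag_of_algHom (S₁ ⊗[R₁] C₁)
      (Algebra.TensorProduct.map (Subalgebra.inclusion hle₂) (AlgHom.id S₁ X))
      ⟨M, inferInstance, ⟨θ₂⟩⟩
  have hDY1 : IsDiag (Algebra.adjoin S₁ ((u₂ ∪ u₃ : Finset A) : Set A) ⊗[S₁] X)
      ((Algebra.adjoin S₁ ((u₂ ∪ u₃ : Finset A) : Set A) ⊗[S₁] X) ⊗[R₁] C₁) :=
    BCB.isDiag_of_equiv (BCB.cancelBC R₁ S₁
      (Algebra.adjoin S₁ ((u₂ ∪ u₃ : Finset A) : Set A) ⊗[S₁] X) C₁).symm hDY0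
  have hDY2 : IsDiag (Algebra.adjoin S₁ ((u₂ ∪ u₃ : Finset A) : Set A) ⊗[S₁] X)
      ((Algebra.adjoin S₁ ((u₂ ∪ u₃ : Finset A) : Set A) ⊗[S₁] X) ⊗[
        Algebra.adjoin S₁ ((u₂ ∪ u₃ : Finset A) : Set A)]
        (Algebra.adjoin S₁ ((u₂ ∪ u₃ : Finset A) : Set A) ⊗[R₁] C₁)) :=
    BCB.isDiag_of_equiv (BCB.cancelBC R₁ (Algebra.adjoin S₁ ((u₂ ∪ u₃ : Finset A) : Set A))
      (Algebra.adjoin S₁ ((u₂ ∪ u₃ : Finset A) : Set A) ⊗[S₁] X) C₁) hDY1
  haveI : Algebra.FiniteType S₁ (Algebra.adjoin S₁ ((u₂ ∪ u₃ : Finset A) : Set A)) :=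
    Algebra.FiniteType.adjoin_of_finite (Finset.finite_toSet _)
  refine ⟨Algebra.adjoin S₁ ((u₂ ∪ u₃ : Finset A) : Set A), inferInstance, inferInstance,
    inferInstance, inferInstance, Algebra.adjoin S₁ ((u₂ ∪ u₃ : Finset A) : Set A) ⊗[S₁] X,
    inferInstance, inferInstance, ?_, Subtype.val_injective, inferInstance, hDY2, ⟨?_⟩, ?_⟩
  · exact Algebra.FiniteType.trans hftS₁ inferInstance
  · exact (Algebra.TensorProduct.cancelBaseChange S₁
      (Algebra.adjoin S₁ ((u₂ ∪ u₃ : Finset A) : Set A)) A A X).trans e₁.symm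
  · intro hfin
    exact finite_of_algHom X (Subalgebra.inclusion hle₃) (hu₃ hfin)

/-- **Model of a splitting etale chart over a finitely generated subalgebra.** -/
theorem exists_chart_model
    (E : Type u) [CommRing E] [Nontrivial E] [Algebra A E] [Algebra R₁ E] [IsScalarTower R₁ A E]
    [Algebra.Etale A E] (hD : IsDiag E (E ⊗[R₁] C₁)) :
    ∃ (S : Type u) (_ : CommRing S) (_ : Algebra R₁ S) (_ : Algebra S A)
      (_ : IsScalarTower R₁ S A) (Y : Type u) (_ : CommRing Y) (_ : Algebra S Y),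
      Algebra.FiniteType R₁ S ∧ Function.Injective (algebraMap S A) ∧ Algebra.Etale S Y ∧
      IsDiag Y (Y ⊗[S] (S ⊗[R₁] C₁)) ∧ Nonempty (A ⊗[S] Y ≃ₐ[A] E) ∧
      (Module.Finite A E → Module.Finite S Y) := by
  obtain ⟨S₁, X, _, _, hfg, hX, ⟨e₁⟩⟩ := Algebra.Etale.exists_subalgebra_fg R₁ A E
  haveI := hX
  exact exists_chart_model_aux R₁ A C₁ E hD S₁ ((Subalgebra.fg_iff_finiteType S₁).mp hfg) X e₁

end Chart

section Good

variable (R₁ A : Type u) [CommRing R₁] [CommRing A] [Algebra R₁ A]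
  (C₁ : Type u) [CommRing C₁] [HopfAlgebra R₁ C₁]

/-- `b` is the image of an element over whose basic open set the group is quasi-isotrivial of constant type,
for every sufficiently large subalgebra. -/
def IsGood (b : A) : Prop :=
  ∃ t : Finset A, ∀ S' : Subalgebra R₁ A, (t : Set A) ⊆ S' → ∃ g' : S', (g' : A) = b ∧
    IsQuasiIsotrivialConst (Localization.Away g')
      (Localization.Away g' ⊗[S'] (S' ⊗[R₁] C₁))

variable {R₁ A}

theorem isGood_algebraMap (S : Type u) [CommRing S] [Algebra R₁ S] [Algebra S A]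
    [IsScalarTower R₁ S A] (hft : Algebra.FiniteType R₁ S) (g : S)
    (h : IsQuasiIsotrivialConst (Localization.Away g) (Localization.Away g ⊗[S] (S ⊗[R₁] C₁))) :
    IsGood R₁ A C₁ (algebraMap S A g) := by
  classical
  obtain ⟨gens, hgens⟩ := hft.out
  refine ⟨gens.image (algebraMap S A), fun S' hS' => ?_⟩
  let f₀ : S →ₐ[R₁] A := IsScalarTower.toAlgHom R₁ S A
  have hrange : ∀ x : S, f₀ x ∈ S' := by
    intro x
    have hx : x ∈ Algebra.adjoin R₁ (gens : Set S) := by rw [hgens]; trivial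
    induction hx using Algebra.adjoin_induction with
    | mem y hy =>
      apply hS'
      rw [Finset.coe_image]
      exact ⟨y, hy, rfl⟩
    | algebraMap r => rw [f₀.commutes]; exact S'.algebraMap_mem r
    | add x y _ _ hx hy => rw [map_add]; exact S'.add_mem hx hy
    | mul x y _ _ hx hy => rw [map_mul]; exact S'.mul_mem hx hy
  let φ : S →ₐ[R₁] S' := f₀.codRestrict S' hrange
  letI : Algebra S S' := φ.toRingHom.toAlgebra
  haveI : IsScalarTower R₁ S S' := IsScalarTower.of_algebraMap_eq (fun r => (φ.commutes r).symm)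
  refine ⟨algebraMap S S' g, rfl, ?_⟩
  have h1 := isQuasiIsotrivialConst_away_baseChange S' g h
  exact QIsoMain.isQuasiIsotrivialConst_of_equiv
    (BCB.bcEquiv (Localization.Away (algebraMap S S' g)) (BCB.cancelBC R₁ S S' C₁).symm) h1

variable (R₁ A)
variable [Algebra.FinitePresentation R₁ C₁]

/-- Around every prime of `A` there is a good element. -/
theorem exists_isGood_not_mem (h : IsQuasiIsotrivial A (A ⊗[R₁] C₁)) (P : Ideal A) [P.IsPrime] :
    ∃ b, b ∉ P ∧ IsGood R₁ A C₁ b := by
  classical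
  obtain ⟨s, hs, hc⟩ := h
  have hex : ∃ f ∈ s, f ∉ P := by
    by_contra hcon
    push_neg at hcon
    have h1 : Ideal.span s ≤ P := Ideal.span_le.mpr hcon
    rw [hs] at h1
    exact (inferInstance : P.IsPrime).ne_top (top_le_iff.mp h1)
  obtain ⟨f, hfs, hfP⟩ := hex
  obtain ⟨E, _, _, het, hff, hD⟩ := hc f hfs
  haveI := het
  haveI := hff
  have hdisj : Disjoint (Submonoid.powers f : Set A) (P : Set A) :=
    (Ideal.disjoint_powers_iff_notMem_of_isPrime _).mpr hfP
  haveI hP' : (Ideal.map (algebraMap A (Localization.Away f)) P).IsPrime :=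
    IsLocalization.isPrime_of_isPrime_disjoint (Submonoid.powers f) (Localization.Away f) P
      inferInstance hdisj
  have hPcomap : (Ideal.map (algebraMap A (Localization.Away f)) P).comap
      (algebraMap A (Localization.Away f)) = P :=
    IsLocalization.under_map_of_isPrime_disjoint (Submonoid.powers f) (Localization.Away f)
      inferInstance hdisj
  obtain ⟨Q, hQ⟩ := PrimeSpectrum.comap_surjective_of_faithfullyFlat
    (A := Localization.Away f) (B := E) ⟨_, hP'⟩
  letI : Algebra A E :=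
    ((algebraMap (Localization.Away f) E).comp (algebraMap A (Localization.Away f))).toAlgebra
  haveI : IsScalarTower A (Localization.Away f) E := IsScalarTower.of_algebraMap_eq (fun _ => rfl)
  haveI : Algebra.Etale A (Localization.Away f) := Algebra.Etale.of_isLocalizationAway f
  haveI : Algebra.Etale A E := Algebra.Etale.comp A (Localization.Away f) E
  letI : Algebra R₁ E := ((algebraMap A E).comp (algebraMap R₁ A)).toAlgebra
  haveI : IsScalarTower R₁ A E := IsScalarTower.of_algebraMap_eq (fun _ => rfl)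
  haveI : Nontrivial E :=
    ⟨⟨0, 1, fun h01 => Q.2.ne_top ((Ideal.eq_top_iff_one _).mpr (h01 ▸ Ideal.zero_mem _))⟩⟩
  have hD1 : IsDiag E (E ⊗[A] (A ⊗[R₁] C₁)) :=
    BCB.isDiag_of_equiv (BCB.cancelBC A (Localization.Away f) E (A ⊗[R₁] C₁)).symm hD
  have hD2 : IsDiag E (E ⊗[R₁] C₁) :=
    BCB.isDiag_of_equiv (BCB.cancelBC R₁ A E C₁).symm hD1
  obtain ⟨S, _, _, _, _, Y, _, _, hftS, -, hetY, hDY, ⟨e⟩, -⟩ :=
    exists_chart_model R₁ A C₁ E hD2
  haveI := hetY
  let ψ : Y →+* E := e.toAlgHom.toRingHom.comp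
    (Algebra.TensorProduct.includeRight (R := S) (A := A) (B := Y)).toRingHom
  have hψ : ∀ x : S, ψ (algebraMap S Y x) = algebraMap A E (algebraMap S A x) :=
    fun x => equiv_one_tmul_algebraMap e x
  haveI : (Q.asIdeal.comap ψ).IsPrime := Ideal.comap_isPrime ψ Q.asIdeal
  obtain ⟨g, hg, hQC⟩ := Fib.exists_away_of_etale S (S ⊗[R₁] C₁) Y (Q.asIdeal.comap ψ) hDY
  refine ⟨algebraMap S A g, ?_, isGood_algebraMap C₁ S hftS g hQC⟩
  intro hmem
  apply hg
  rw [Ideal.mem_comap, Ideal.mem_comap, hψ]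
  have h3 : Q.asIdeal.comap (algebraMap A E) = P := by
    rw [IsScalarTower.algebraMap_eq A (Localization.Away f) E, ← Ideal.comap_comap]
    have h4 := congrArg PrimeSpectrum.asIdeal hQ
    rw [PrimeSpectrum.comap_asIdeal] at h4
    rw [h4, hPcomap]
  have h5 : algebraMap S A g ∈ Q.asIdeal.comap (algebraMap A E) := by rw [h3]; exact hmem
  exact h5

/-- **Quasi-isotriviality descends to a finitely generated subalgebra.** -/
theorem exists_level_quasiIsotrivial (h : IsQuasiIsotrivial A (A ⊗[R₁] C₁)) :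
    ∃ S' : Subalgebra R₁ A, S'.FG ∧ IsQuasiIsotrivial S' (S' ⊗[R₁] C₁) := by
  classical
  have hspan : Ideal.span {b | IsGood R₁ A C₁ b} = ⊤ :=
    Fib.span_eq_top_of_forall_prime (fun b => IsGood R₁ A C₁ b)
      (fun P _ => exists_isGood_not_mem R₁ A C₁ h P)
  obtain ⟨s'', hsub, hs''⟩ := (Ideal.span_eq_top_iff_finite _).mp hspan
  have h1 : (1 : A) ∈ Ideal.span (s'' : Set A) := by rw [hs'']; trivial
  obtain ⟨c, -, hc⟩ := Submodule.mem_span_finset.mp h1
  have hsub' : ∀ b : s'', ∃ t : Finset A, ∀ S' : Subalgebra R₁ A, (t : Set A) ⊆ S' →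
      ∃ g' : S', (g' : A) = b.1 ∧ IsQuasiIsotrivialConst (Localization.Away g')
        (Localization.Away g' ⊗[S'] (S' ⊗[R₁] C₁)) := fun b => hsub b.2
  choose t ht using hsub'
  let T : Finset A := (s''.attach.biUnion t) ∪ s''.image c
  have hT : (T : Set A) ⊆ Algebra.adjoin R₁ (T : Set A) := Algebra.subset_adjoin
  have hgood : ∀ b : s'', ∃ g' : Algebra.adjoin R₁ (T : Set A), (g' : A) = b.1 ∧
      IsQuasiIsotrivialConst (Localization.Away g')
        (Localization.Away g' ⊗[Algebra.adjoin R₁ (T : Set A)]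
          (Algebra.adjoin R₁ (T : Set A) ⊗[R₁] C₁)) := by
    intro b
    apply ht b (Algebra.adjoin R₁ (T : Set A))
    intro x hx
    apply hT
    rw [Finset.mem_coe, Finset.mem_union, Finset.mem_biUnion]
    exact Or.inl ⟨b, Finset.mem_attach _ _, hx⟩
  choose g' hg'1 hg'2 using hgood
  have hcmem : ∀ b : s'', c b.1 ∈ Algebra.adjoin R₁ (T : Set A) := by
    intro b
    apply hT
    rw [Finset.mem_coe, Finset.mem_union]
    exact Or.inr (Finset.mem_image_of_mem c b.2)
  refine ⟨Algebra.adjoin R₁ (T : Set A), ⟨T, rfl⟩,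
    {g | IsQuasiIsotrivialConst (Localization.Away g)
      (Localization.Away g ⊗[Algebra.adjoin R₁ (T : Set A)]
        (Algebra.adjoin R₁ (T : Set A) ⊗[R₁] C₁))}, ?_, fun _ hg => hg⟩
  rw [Ideal.eq_top_iff_one]
  have h2 : (1 : Algebra.adjoin R₁ (T : Set A)) =
      ∑ b ∈ s''.attach, (⟨c b.1, hcmem b⟩ : Algebra.adjoin R₁ (T : Set A)) * g' b := by
    apply Subtype.ext
    rw [AddSubmonoidClass.coe_finset_sum, OneMemClass.coe_one, ← hc,
      ← Finset.sum_attach s'' (fun a => c a • a)]
    apply Finset.sum_congr rfl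
    intro b _
    rw [MulMemClass.coe_mul, hg'1, smul_eq_mul]
  rw [h2]
  exact Ideal.sum_mem _ (fun b _ => Ideal.mul_mem_left _ _ (Ideal.subset_span (hg'2 b)))

/-- **Isotriviality descends to an algebra of finite type.** -/
theorem exists_level_isotrivial [Nontrivial A] (h : IsIsotrivial A (A ⊗[R₁] C₁)) :
    ∃ (S : Type u) (_ : CommRing S) (_ : Algebra R₁ S) (_ : Algebra S A)
      (_ : IsScalarTower R₁ S A), Algebra.FiniteType R₁ S ∧ IsIsotrivial S (S ⊗[R₁] C₁) := by
  obtain ⟨E, _, _, het, hfin, hff, hD⟩ := h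
  haveI := het
  haveI := hfin
  haveI := hff
  haveI : Nontrivial E := (FaithfulSMul.algebraMap_injective A E).nontrivial
  letI : Algebra R₁ E := ((algebraMap A E).comp (algebraMap R₁ A)).toAlgebra
  haveI : IsScalarTower R₁ A E := IsScalarTower.of_algebraMap_eq (fun _ => rfl)
  have hD2 : IsDiag E (E ⊗[R₁] C₁) := BCB.isDiag_of_equiv (BCB.cancelBC R₁ A E C₁).symm hD
  obtain ⟨S, _, _, _, _, Y, _, _, hftS, hinj, hetY, hDY, ⟨e⟩, hfinY⟩ :=
    exists_chart_model R₁ A C₁ E hD2
  haveI := hetY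
  haveI : Module.Finite S Y := hfinY inferInstance
  have hinjY : Function.Injective (algebraMap S Y) := by
    intro x y hxy
    apply hinj
    apply FaithfulSMul.algebraMap_injective A E
    rw [← equiv_one_tmul_algebraMap e x, ← equiv_one_tmul_algebraMap e y, hxy]
  haveI : FaithfulSMul S Y := (faithfulSMul_iff_algebraMap_injective S Y).mpr hinjY
  haveI : Algebra.IsIntegral S Y := Algebra.IsIntegral.of_finite S Y
  haveI : Module.Flat S Y := inferInstance
  haveI : Module.FaithfullyFlat S Y :=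
    Module.FaithfullyFlat.of_comap_surjective (Algebra.IsIntegral.comap_surjective S Y)
  exact ⟨S, inferInstance, inferInstance, inferInstance, inferInstance, hftS, Y, inferInstance,
    inferInstance, inferInstance, inferInstance, inferInstance, hDY⟩

end Good

section Assemble

variable (A : Type u) [CommRing A] {ι : Type u} [Preorder ι] [IsDirected ι (· ≤ ·)] [Nonempty ι]
  (B : ι → Subring A) (hmono : Monotone B) (hsup : ⨆ i, B i = ⊤)

include hmono hsup in
/-- A ring of finite type over `ℤ` mapping to a directed union of subrings factors through a member. -/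
theorem exists_factor (S : Type u) [CommRing S] [Algebra S A] (hS : Algebra.FiniteType ℤ S) :
    ∃ (i : ι) (φ : S →+* B i), ∀ s, (φ s : A) = algebraMap S A s := by
  classical
  obtain ⟨gens, hgens⟩ := hS.out
  have hdir : Directed (· ≤ ·) B := hmono.directed_le
  have h1 : ∀ x : S, ∃ i, algebraMap S A x ∈ B i := fun x =>
    (Subring.mem_iSup_of_directed hdir).mp (by rw [hsup]; trivial)
  choose idx hidx using h1
  obtain ⟨i, hi⟩ := Finset.exists_le (gens.image idx)
  have hrange : ∀ x : S, algebraMap S A x ∈ B i := by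
    intro x
    have hx : x ∈ Algebra.adjoin ℤ (gens : Set S) := by rw [hgens]; trivial
    induction hx using Algebra.adjoin_induction with
    | mem y hy => exact hmono (hi _ (Finset.mem_image_of_mem idx hy)) (hidx y)
    | algebraMap r =>
      rw [eq_intCast (algebraMap ℤ S) r, map_intCast]
      exact intCast_mem _ r
    | add x y _ _ hx hy => rw [map_add]; exact (B i).add_mem hx hy
    | mul x y _ _ hx hy => rw [map_mul]; exact (B i).mul_mem hx hy
  exact ⟨i, (algebraMap S A).codRestrict (B i) hrange, fun s => rfl⟩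

include hmono hsup in
/-- The assembled descent statement for a base-change-stable property. -/
theorem assemble (C : Type u) [CommRing C] [HopfAlgebra A C]
    (R₁ : Type u) [CommRing R₁] [Algebra R₁ A] (C₁ : Type u) [CommRing C₁] [HopfAlgebra R₁ C₁]
    (hC₁ : Algebra.FiniteType R₁ C₁) (ε : A ⊗[R₁] C₁ ≃ₐc[A] C)
    (S : Type u) [CommRing S] [Algebra R₁ S] [Algebra S A] [IsScalarTower R₁ S A]
    (hS : Algebra.FiniteType ℤ S)
    (P : ∀ (T : Type u) [CommRing T] (H : Type u) [CommRing H] [HopfAlgebra T H], Prop)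
    (hP : ∀ (T T' : Type u) [CommRing T] [CommRing T'] [Algebra T T'] (H : Type u) [CommRing H]
      [HopfAlgebra T H], P T H → P T' (T' ⊗[T] H))
    (h : P S (S ⊗[R₁] C₁)) :
    ∃ (i : ι) (Ci : Type u) (_ : CommRing Ci) (_ : HopfAlgebra (B i) Ci),
      Algebra.FiniteType (B i) Ci ∧ P (B i) Ci ∧ Nonempty ((A ⊗[B i] Ci) ≃ₐc[A] C) := by
  obtain ⟨i, φ, hφ⟩ := exists_factor A B hmono hsup S hS
  letI : Algebra S (B i) := φ.toAlgebra
  haveI : IsScalarTower S (B i) A := IsScalarTower.of_algebraMap_eq (fun s => (hφ s).symm)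
  haveI := hC₁
  refine ⟨i, (B i) ⊗[S] (S ⊗[R₁] C₁), inferInstance, inferInstance, inferInstance,
    hP S (B i) _ h, ⟨?_⟩⟩
  exact ((BCB.cancelBC S (B i) A (S ⊗[R₁] C₁)).trans (BCB.cancelBC R₁ S A C₁)).trans ε

end Assemble

end Groth.Agent.Lib.R2H7.Approx
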