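import Groth.Agent.Lib.R2H7ApproxPatch
import Groth.Agent.Lib.H9IdemCompl

/-!
# Approximation data for `A[1/t] → Â[1/t]` (`t` in the Jacobson radical, `Â` the `t`-adic completion)
-/

set_option autoImplicit false
set_option linter.unusedSectionVars false
universe u

namespace Groth.Agent.Lib.R2H7.ApproxAdic

open Groth.Agent.Lib.R2H7.ApproxPatch Groth.Agent.Lib.H9IdemCompl

section Completion

variable {A : Type u} [CommRing A] (t : A)

theorem span_fg : (Ideal.span {t} : Ideal A).FG := ⟨{t}, by simp⟩

/-- Elements of the completion can be approximated by elements of `A` modulo `t^N Â`. -/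
theorem exists_approx_adic (x : AdicCompletion (Ideal.span {t}) A) (N : ℕ) :
    ∃ (a : A) (w : AdicCompletion (Ideal.span {t}) A),
      x - algebraMap A (AdicCompletion (Ideal.span {t}) A) a =
        (algebraMap A (AdicCompletion (Ideal.span {t}) A) t) ^ N * w := by
  obtain ⟨a, ha⟩ := Ideal.Quotient.mk_surjective (AdicCompletion.evalₐ (Ideal.span {t}) N x)
  set z := x - algebraMap A (AdicCompletion (Ideal.span {t}) A) a with hz
  have hz0 : AdicCompletion.evalₐ (Ideal.span {t}) N z = 0 := by
    rw [hz, map_sub, evalₐ_algebraMap, ha, sub_self]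
  have hz1 : AdicCompletion.eval (Ideal.span {t}) A N z = 0 := by
    rw [← AdicCompletion.factor_evalₐ_eq_eval (Ideal.span {t}) z (show Ideal.span {t} ^ N ≤ Ideal.span {t} ^ N • (⊤ : Ideal A) from by rw [smul_eq_mul, Ideal.mul_top]), hz0, map_zero]
  have hmem : z ∈ ((Ideal.span {t}) ^ N • ⊤ :
      Submodule A (AdicCompletion (Ideal.span {t}) A)) := by
    rw [AdicCompletion.pow_smul_top_eq_ker_eval (span_fg t)]
    exact hz1
  rw [Ideal.span_singleton_pow, Submodule.ideal_span_singleton_smul,
    Submodule.mem_smul_pointwise_iff_exists] at hmem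
  obtain ⟨w, -, hw⟩ := hmem
  refine ⟨a, w, ?_⟩
  rw [← hz, ← hw, Algebra.smul_def, map_pow]

theorem algebraMap_mem_jacobson :
    algebraMap A (AdicCompletion (Ideal.span {t}) A) t ∈
      Ideal.jacobson (⊥ : Ideal (AdicCompletion (Ideal.span {t}) A)) := by
  haveI h1 : IsAdicComplete (Ideal.span {t}) (AdicCompletion (Ideal.span {t}) A) :=
    AdicCompletion.isAdicComplete (span_fg t)
  haveI h2 : IsAdicComplete ((Ideal.span {t}).map
      (algebraMap A (AdicCompletion (Ideal.span {t}) A))) (AdicCompletion (Ideal.span {t}) A) :=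
    (IsAdicComplete.map_algebraMap_iff _ _).mpr h1
  exact IsAdicComplete.le_jacobson_bot _
    (Ideal.mem_map_of_mem _ (Ideal.mem_span_singleton_self t))

end Completion

section Data

variable {A : Type u} [CommRing A] (t : A) (ht : t ∈ (⊥ : Ideal A).jacobson)
  [Algebra (Localization.Away t)
    (Localization.Away (algebraMap A (AdicCompletion (Ideal.span {t}) A) t))]
  (halg : algebraMap (Localization.Away t)
      (Localization.Away (algebraMap A (AdicCompletion (Ideal.span {t}) A) t)) =
    Localization.awayMap (algebraMap A (AdicCompletion (Ideal.span {t}) A)) t)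

include halg in
theorem hphi (a : A) :
    algebraMap (Localization.Away t)
        (Localization.Away (algebraMap A (AdicCompletion (Ideal.span {t}) A) t))
        (algebraMap A (Localization.Away t) a) =
      algebraMap (AdicCompletion (Ideal.span {t}) A) _
        (algebraMap A (AdicCompletion (Ideal.span {t}) A) a) := by
  rw [halg]
  exact IsLocalization.map_eq _ a

/-- `t` as a unit of `Â[1/t]`. -/
noncomputable def tau :
    (Localization.Away (algebraMap A (AdicCompletion (Ideal.span {t}) A) t))ˣ :=
  (IsLocalization.Away.algebraMap_isUnit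
    (S := Localization.Away (algebraMap A (AdicCompletion (Ideal.span {t}) A) t))
    (algebraMap A (AdicCompletion (Ideal.span {t}) A) t)).unit

theorem tau_val : ((tau t : _ˣ) :
    Localization.Away (algebraMap A (AdicCompletion (Ideal.span {t}) A) t)) =
    algebraMap (AdicCompletion (Ideal.span {t}) A) _
      (algebraMap A (AdicCompletion (Ideal.span {t}) A) t) := rfl

/-- `t` as a unit of `A[1/t]`. -/
noncomputable def TL : (Localization.Away t)ˣ :=
  (IsLocalization.Away.algebraMap_isUnit (S := Localization.Away t) t).unit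

theorem TL_val : ((TL t : _ˣ) : Localization.Away t) = algebraMap A _ t := rfl

theorem pole (x : Localization.Away (algebraMap A (AdicCompletion (Ideal.span {t}) A) t)) :
    ∃ c : ℕ, ((tau t : _ˣ) : Localization.Away
      (algebraMap A (AdicCompletion (Ideal.span {t}) A) t)) ^ c * x ∈
      (algebraMap (AdicCompletion (Ideal.span {t}) A)
        (Localization.Away (algebraMap A (AdicCompletion (Ideal.span {t}) A) t))).range := by
  obtain ⟨c, a, h⟩ := IsLocalization.Away.surj
    (algebraMap A (AdicCompletion (Ideal.span {t}) A) t) x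
  exact ⟨c, a, by rw [tau_val, mul_comm, h]⟩

include halg in
theorem dense (x : Localization.Away (algebraMap A (AdicCompletion (Ideal.span {t}) A) t))
    (k : ℕ) : ∃ y : Localization.Away t, ∃ o ∈
      (algebraMap (AdicCompletion (Ideal.span {t}) A)
        (Localization.Away (algebraMap A (AdicCompletion (Ideal.span {t}) A) t))).range,
      x - algebraMap _ _ y = ((tau t : _ˣ) : Localization.Away
        (algebraMap A (AdicCompletion (Ideal.span {t}) A) t)) ^ k * o := by
  obtain ⟨c, xh, h⟩ := IsLocalization.Away.surj
    (algebraMap A (AdicCompletion (Ideal.span {t}) A) t) x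
  obtain ⟨a, w, haw⟩ := exists_approx_adic t xh (k + c)
  refine ⟨((TL t)⁻¹ : _ˣ) ^ c * algebraMap A _ a, algebraMap _ _ w, ⟨w, rfl⟩, ?_⟩
  have hunit : IsUnit (((tau t : _ˣ) : Localization.Away
      (algebraMap A (AdicCompletion (Ideal.span {t}) A) t)) ^ c) := ((tau t).isUnit.pow c)
  apply hunit.mul_left_cancel
  have h1 : ((tau t : _ˣ) : Localization.Away
      (algebraMap A (AdicCompletion (Ideal.span {t}) A) t)) ^ c *
      algebraMap (Localization.Away t) _ (((TL t)⁻¹ : _ˣ) ^ c * algebraMap A _ a) =
      algebraMap (AdicCompletion (Ideal.span {t}) A) _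
        (algebraMap A (AdicCompletion (Ideal.span {t}) A) a) := by
    rw [tau_val, ← hphi t halg t, ← hphi t halg a, ← map_pow, ← map_mul, ← TL_val, ← mul_assoc,
      ← Units.val_pow_eq_pow_val, ← Units.val_pow_eq_pow_val, ← Units.val_mul, ← mul_pow,
      mul_inv_cancel, one_pow, Units.val_one, one_mul]
  rw [mul_sub, h1, ← mul_assoc, ← pow_add, tau_val, mul_comm _ x, h, ← map_sub, haw, map_mul,
    map_pow, add_comm c k]

include ht halg in
theorem unit_crit (y : Localization.Away t)
    (hy : ∃ o ∈ (algebraMap (AdicCompletion (Ideal.span {t}) A)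
        (Localization.Away (algebraMap A (AdicCompletion (Ideal.span {t}) A) t))).range,
      algebraMap _ _ y = 1 + ((tau t : _ˣ) : Localization.Away
        (algebraMap A (AdicCompletion (Ideal.span {t}) A) t)) * o) : IsUnit y := by
  obtain ⟨_, ⟨w, rfl⟩, hyo⟩ := hy
  obtain ⟨c, a, hya⟩ := IsLocalization.Away.surj t y
  -- push to L'
  have h1 : algebraMap (AdicCompletion (Ideal.span {t}) A)
      (Localization.Away (algebraMap A (AdicCompletion (Ideal.span {t}) A) t))
      (algebraMap A _ a) = algebraMap _ _
        ((1 + algebraMap A (AdicCompletion (Ideal.span {t}) A) t * w) *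
          (algebraMap A (AdicCompletion (Ideal.span {t}) A) t) ^ c) := by
    rw [← hphi t halg a, ← hya, map_mul, hyo, map_pow, hphi t halg t, tau_val]
    simp only [map_mul, map_add, map_one, map_pow]
  obtain ⟨⟨_, N, rfl⟩, hN⟩ := (IsLocalization.eq_iff_exists
    (Submonoid.powers (algebraMap A (AdicCompletion (Ideal.span {t}) A) t)) _).mp h1
  simp only at hN
  -- evaluate modulo t^(N+c+1)
  have h2 := congrArg (AdicCompletion.evalₐ (Ideal.span {t}) (N + c + 1)) hN
  rw [← map_pow, ← map_mul, evalₐ_algebraMap] at h2
  have h3 : AdicCompletion.evalₐ (Ideal.span {t}) (N + c + 1)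
      (algebraMap A (AdicCompletion (Ideal.span {t}) A) (t ^ N) *
        ((1 + algebraMap A (AdicCompletion (Ideal.span {t}) A) t * w) *
          (algebraMap A (AdicCompletion (Ideal.span {t}) A) t) ^ c)) =
      Ideal.Quotient.mk _ (t ^ (N + c)) := by
    have e1 : algebraMap A (AdicCompletion (Ideal.span {t}) A) (t ^ N) *
        ((1 + algebraMap A (AdicCompletion (Ideal.span {t}) A) t * w) *
          (algebraMap A (AdicCompletion (Ideal.span {t}) A) t) ^ c) =
        algebraMap A (AdicCompletion (Ideal.span {t}) A) (t ^ (N + c)) +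
          algebraMap A (AdicCompletion (Ideal.span {t}) A) (t ^ (N + c + 1)) * w := by
      simp only [map_pow]; ring
    rw [e1, map_add, map_mul, evalₐ_algebraMap, evalₐ_algebraMap]
    have : Ideal.Quotient.mk (Ideal.span {t} ^ (N + c + 1)) (t ^ (N + c + 1)) = 0 :=
      Ideal.Quotient.eq_zero_iff_mem.mpr (Ideal.pow_mem_pow (Ideal.mem_span_singleton_self t) _)
    rw [this, zero_mul, add_zero]
  rw [h3, Ideal.Quotient.eq, mem_span_pow] at h2
  obtain ⟨a', ha'⟩ := h2
  -- so t^N a = t^(N+c) (1 + t a')
  have h4 : t ^ N * a = t ^ (N + c) * (1 + t * a') := by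
    have : t ^ N * a = t ^ (N + c) + t ^ (N + c + 1) * a' := by rw [← ha']; ring
    rw [this]; ring
  have hu : IsUnit (1 + t * a') := by
    have := (Ideal.mem_jacobson_bot.mp ht) a'
    rwa [add_comm] at this
  have hT : IsUnit (algebraMap A (Localization.Away t) t) :=
    IsLocalization.Away.algebraMap_isUnit t
  have h5 : y = algebraMap A (Localization.Away t) (1 + t * a') := by
    apply (hT.pow (N + c)).mul_left_cancel
    have : algebraMap A (Localization.Away t) t ^ (N + c) * y =
        algebraMap A (Localization.Away t) (t ^ N * a) := by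
      rw [map_mul, ← hya, map_pow, pow_add]; ring
    rw [this, h4, map_mul, map_pow]
  rw [h5]
  exact hu.map _

theorem unit_O (o : Localization.Away (algebraMap A (AdicCompletion (Ideal.span {t}) A) t))
    (ho : o ∈ (algebraMap (AdicCompletion (Ideal.span {t}) A)
        (Localization.Away (algebraMap A (AdicCompletion (Ideal.span {t}) A) t))).range) :
    IsUnit (1 + ((tau t : _ˣ) : Localization.Away
        (algebraMap A (AdicCompletion (Ideal.span {t}) A) t)) * o) := by
  obtain ⟨w, rfl⟩ := ho
  have hu : IsUnit (1 + algebraMap A (AdicCompletion (Ideal.span {t}) A) t * w) := by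
    have := (Ideal.mem_jacobson_bot.mp (algebraMap_mem_jacobson t)) w
    rwa [add_comm] at this
  have := hu.map (algebraMap (AdicCompletion (Ideal.span {t}) A)
    (Localization.Away (algebraMap A (AdicCompletion (Ideal.span {t}) A) t)))
  rw [map_add, map_one, map_mul] at this
  exact this

/-- The approximation data for `A[1/t] → Â[1/t]`. -/
noncomputable def data : ApproxData (Localization.Away t)
    (Localization.Away (algebraMap A (AdicCompletion (Ideal.span {t}) A) t)) where
  O := (algebraMap (AdicCompletion (Ideal.span {t}) A)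
        (Localization.Away (algebraMap A (AdicCompletion (Ideal.span {t}) A) t))).range
  τ := tau t
  τ_mem := ⟨_, rfl⟩
  pole := pole t
  dense := dense t halg
  unit_crit := unit_crit t ht halg
  unit_O := unit_O t

end Data

end Groth.Agent.Lib.R2H7.ApproxAdic
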