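import Mathlib
import Groth.Agent.Lib.H9IdemCompl
import Groth.Agent.Lib.Helper26HenselIdem

/-!
# Correcting an almost idempotent matrix over `A[1/t]` to an idempotent, for a Henselian pair `(A, t)`

If `Y` is a square matrix over `L` (an `A`-algebra in which `t` is a unit) with
`Y * Y - Y = t^m • W`, `W` with entries in the image of `A`, `m ≥ 1`, then there is an idempotent
`E = Y + (1 - 2Y) * (t^m • S₁)` with `S₁` having entries in the image of `A`.  The argument applies
the Henselian property to the commutative integral `A`-algebra of those elements of `L[Y]` whose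
entries lie in the image of `A`.
-/

set_option autoImplicit false
universe u

namespace Groth.Agent.Lib.R2H7.IdemApprox

open Polynomial
open Groth.Agent.Lib.H9IdemCompl

/-- An integral algebra over a Henselian pair is a Henselian pair. -/
theorem henselianRing_of_isIntegral (A : Type u) [CommRing A] (I : Ideal A) [HenselianRing A I]
    (C : Type u) [CommRing C] [Algebra A C] [Algebra.IsIntegral A C] :
    HenselianRing C (I.map (algebraMap A C)) := by
  apply Groth.Agent.Lib.Helper26.HenselIdem.henselian_of_finite_bijOn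
  intro B _ _ hfin
  letI : Algebra A B := ((algebraMap C B).comp (algebraMap A C)).toAlgebra
  haveI : IsScalarTower A C B := IsScalarTower.of_algebraMap_eq (fun _ => rfl)
  haveI : Algebra.IsIntegral C B := Algebra.IsIntegral.of_finite C B
  haveI : Algebra.IsIntegral A B := Algebra.IsIntegral.trans (A := C)
  have h := Groth.Agent.Lib.Helper26.HenselIdem.idem_bijOn A I B
  have e : Ideal.map (algebraMap A B) I = Ideal.map (algebraMap C B) (I.map (algebraMap A C)) := by
    rw [Ideal.map_map]; rfl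
  rwa [e] at h

section Mat

open scoped IsMulCommutative

variable {A : Type u} [CommRing A] {L : Type u} [CommRing L] [Algebra A L] {r : ℕ}
  (Y : Matrix (Fin r) (Fin r) L)

/-- The subring of `L[Y]` of matrices with entries in the image of `A`. -/
def CY : Subring (Algebra.adjoin L ({Y} : Set (Matrix (Fin r) (Fin r) L))) where
  carrier := {M | ∀ i j, (M : Matrix (Fin r) (Fin r) L) i j ∈ (algebraMap A L).range}
  mul_mem' := by
    intro M N hM hN i j
    rw [Subalgebra.coe_mul, Matrix.mul_apply]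
    exact Subring.sum_mem _ fun k _ => Subring.mul_mem _ (hM i k) (hN k j)
  one_mem' := by
    intro i j
    rw [Subalgebra.coe_one, Matrix.one_apply]
    split_ifs
    · exact Subring.one_mem _
    · exact Subring.zero_mem _
  add_mem' := by
    intro M N hM hN i j
    rw [Subalgebra.coe_add, Matrix.add_apply]
    exact Subring.add_mem _ (hM i j) (hN i j)
  zero_mem' := by
    intro i j
    rw [Subalgebra.coe_zero, Matrix.zero_apply]
    exact Subring.zero_mem _
  neg_mem' := by
    intro M hM i j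
    rw [Subalgebra.coe_neg, Matrix.neg_apply]
    exact Subring.neg_mem _ (hM i j)

theorem mem_CY {M : Algebra.adjoin L ({Y} : Set (Matrix (Fin r) (Fin r) L))} :
    M ∈ CY (A := A) Y ↔ ∀ i j, (M : Matrix (Fin r) (Fin r) L) i j ∈ (algebraMap A L).range :=
  Iff.rfl

/-- The structure map `A → CY`. -/
noncomputable def toCY : A →+* CY (A := A) Y :=
  RingHom.codRestrict ((algebraMap L (Algebra.adjoin L ({Y} : Set (Matrix (Fin r) (Fin r) L)))).comp
    (algebraMap A L)) (CY (A := A) Y) (by
    intro a i j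
    change (algebraMap L (Matrix (Fin r) (Fin r) L) (algebraMap A L a)) i j ∈ _
    rw [Matrix.algebraMap_matrix_apply]
    split_ifs
    · exact ⟨a, rfl⟩
    · exact Subring.zero_mem _)

noncomputable instance : Algebra A (CY (A := A) Y) := (toCY (A := A) Y).toAlgebra

/-- The inclusion `CY → Mat_r(L)`. -/
noncomputable def incl : CY (A := A) Y →+* Matrix (Fin r) (Fin r) L :=
  (Algebra.adjoin L ({Y} : Set (Matrix (Fin r) (Fin r) L))).val.toRingHom.comp (CY (A := A) Y).subtype

theorem incl_injective : Function.Injective (incl (A := A) Y) := by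
  intro x y h
  exact Subtype.ext (Subtype.ext h)

theorem incl_algebraMap (a : A) :
    incl (A := A) Y (algebraMap A (CY (A := A) Y) a) =
      algebraMap A (Matrix (Fin r) (Fin r) L) a := by
  change algebraMap L (Matrix (Fin r) (Fin r) L) (algebraMap A L a) = _
  rw [← IsScalarTower.algebraMap_apply]

instance : Algebra.IsIntegral A (CY (A := A) Y) := by
  refine ⟨fun x => ?_⟩
  have hx : ∀ i j, ∃ a : A, algebraMap A L a = (incl (A := A) Y x) i j := fun i j => x.2 i j
  choose M hM using hx
  let Mt : Matrix (Fin r) (Fin r) A := Matrix.of M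
  have hMt : Mt.map (algebraMap A L) = incl (A := A) Y x := by
    ext i j
    exact hM i j
  refine ⟨Mt.charpoly, Matrix.charpoly_monic Mt, ?_⟩
  apply incl_injective (A := A) Y
  rw [Polynomial.hom_eval₂, map_zero]
  have h1 : (incl (A := A) Y).comp (algebraMap A (CY (A := A) Y)) =
      algebraMap A (Matrix (Fin r) (Fin r) L) := RingHom.ext (incl_algebraMap (A := A) Y)
  rw [h1, ← hMt, ← Polynomial.aeval_def]
  have h2 : Mt.map (algebraMap A L) = (Algebra.ofId A L).mapMatrix Mt := rfl
  rw [h2, Polynomial.aeval_algHom_apply, Matrix.aeval_self_charpoly, map_zero]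

variable (t : A) [HenselianRing A (Ideal.span {t})]

theorem henselianRing_CY :
    HenselianRing (CY (A := A) Y) (Ideal.span {algebraMap A (CY (A := A) Y) t}) := by
  have := henselianRing_of_isIntegral A (Ideal.span {t}) (CY (A := A) Y)
  rwa [Ideal.map_span, Set.image_singleton] at this

theorem incl_algebraMap_eq_smul (a : A) :
    incl (A := A) Y (algebraMap A (CY (A := A) Y) a) =
      (algebraMap A L a) • (1 : Matrix (Fin r) (Fin r) L) := by
  change algebraMap L (Matrix (Fin r) (Fin r) L) (algebraMap A L a) = _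
  rw [Algebra.algebraMap_eq_smul_one]

theorem incl_pow_mul (a : A) (m : ℕ) (x : CY (A := A) Y) :
    incl (A := A) Y ((algebraMap A (CY (A := A) Y) a) ^ m * x) =
      (algebraMap A L a) ^ m • incl (A := A) Y x := by
  rw [map_mul, map_pow, incl_algebraMap_eq_smul, _root_.smul_pow, one_pow, smul_mul_assoc, one_mul]

/-- **Correcting an almost idempotent matrix.** -/
theorem exists_idem_near (hT : IsUnit (algebraMap A L t)) (m : ℕ) (hm : 1 ≤ m)
    (W : Matrix (Fin r) (Fin r) L) (hW : ∀ i j, W i j ∈ (algebraMap A L).range)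
    (hY : Y * Y - Y = (algebraMap A L t) ^ m • W) :
    ∃ E S₁ : Matrix (Fin r) (Fin r) L, E * E = E ∧
      (∀ i j, S₁ i j ∈ (algebraMap A L).range) ∧
      E = Y + (1 - (Y + Y)) * ((algebraMap A L t) ^ m • S₁) := by
  haveI := henselianRing_CY (A := A) Y t
  obtain ⟨Tu, hTu⟩ := hT
  -- elements of L[Y]
  have hYmem : Y ∈ Algebra.adjoin L ({Y} : Set (Matrix (Fin r) (Fin r) L)) :=
    Algebra.self_mem_adjoin_singleton L Y
  have hWeq : W = ((Tu⁻¹ : Lˣ) : L) ^ m • (Y * Y - Y) := by
    rw [hY, smul_smul, ← hTu, ← mul_pow, Units.inv_mul, one_pow, one_smul]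
  have hWmem : W ∈ Algebra.adjoin L ({Y} : Set (Matrix (Fin r) (Fin r) L)) := by
    rw [hWeq]
    exact Subalgebra.smul_mem _ (Subalgebra.sub_mem _ (Subalgebra.mul_mem _ hYmem hYmem) hYmem) _
  let y : Algebra.adjoin L ({Y} : Set (Matrix (Fin r) (Fin r) L)) := ⟨Y, hYmem⟩
  let w' : CY (A := A) Y := ⟨⟨W, hWmem⟩, hW⟩
  set t' := algebraMap A (CY (A := A) Y) t with ht'
  set δ : CY (A := A) Y := t' ^ m * w' with hδ
  have hinclδ : incl (A := A) Y δ = Y * Y - Y := by
    rw [hδ, ht', incl_pow_mul, hY]; rfl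
  have ht'm : t' ^ m ∈ Ideal.span {t'} :=
    Ideal.pow_mem_of_mem _ (Ideal.mem_span_singleton_self t') m hm
  have hδmem : δ ∈ Ideal.span {t'} := Ideal.mul_mem_right _ _ ht'm
  have hjac : Ideal.span {t'} ≤ Ideal.jacobson (⊥ : Ideal (CY (A := A) Y)) :=
    HenselianRing.jac
  have hu : IsUnit (1 + 4 * δ) := by
    have := (Ideal.mem_jacobson_bot.mp (hjac hδmem)) 4
    have e : δ * 4 + 1 = 1 + 4 * δ := by ring
    rwa [e] at this
  obtain ⟨uu, huu⟩ := hu
  set v : CY (A := A) Y := ((uu⁻¹ : (CY (A := A) Y)ˣ) : CY (A := A) Y) with hv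
  have huv : (1 + 4 * δ) * v = 1 := by rw [← huu, hv, Units.mul_inv]
  set δ₁ : CY (A := A) Y := v * δ with hδ₁
  have hδ₁mem : δ₁ ∈ Ideal.span {t'} := Ideal.mul_mem_left _ _ hδmem
  obtain ⟨s, hs, hsmem⟩ := hensel_root t' δ₁ hδ₁mem
  have hus : IsUnit (1 - s) := by
    have := (Ideal.mem_jacobson_bot.mp (hjac hsmem)) (-1)
    have e : s * -1 + 1 = 1 - s := by ring
    rwa [e] at this
  obtain ⟨us, hus'⟩ := hus
  set s₁ : CY (A := A) Y := v * w' * ((us⁻¹ : (CY (A := A) Y)ˣ) : CY (A := A) Y) with hs₁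
  have hss₁ : s = t' ^ m * s₁ := by
    have h1 : s * (1 - s) = v * (t' ^ m * w') := by rw [← hδ, ← hδ₁, ← hs]; ring
    have h2 : s = s * (1 - s) * ((us⁻¹ : (CY (A := A) Y)ˣ) : CY (A := A) Y) := by
      rw [← hus', mul_assoc, Units.mul_inv, mul_one]
    rw [h2, h1, hs₁]; ring
  -- the idempotent in L[Y]
  have hidem := idem_lift (B := Algebra.adjoin L ({Y} : Set (Matrix (Fin r) (Fin r) L)))
    y (s : Algebra.adjoin L ({Y} : Set (Matrix (Fin r) (Fin r) L))) δ.1 δ₁.1 (1 + 4 * δ.1)
    (Subtype.ext hinclδ.symm) (by rw [← hs]; rfl) rfl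
    (by
      have : (1 + 4 * δ) * δ₁ = δ := by rw [hδ₁, ← mul_assoc, huv, one_mul]
      have h := congrArg Subtype.val this
      exact h)
  refine ⟨((y + (1 - 2 * y) * (s : Algebra.adjoin L ({Y} : Set (Matrix (Fin r) (Fin r) L))) :
      Algebra.adjoin L ({Y} : Set (Matrix (Fin r) (Fin r) L))) : Matrix (Fin r) (Fin r) L),
    incl (A := A) Y s₁, ?_, s₁.2, ?_⟩
  · have := congrArg Subtype.val hidem.eq
    exact this
  · have h3 : ((s : Algebra.adjoin L ({Y} : Set (Matrix (Fin r) (Fin r) L))) :
        Matrix (Fin r) (Fin r) L) = (algebraMap A L t) ^ m • incl (A := A) Y s₁ := by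
      rw [← incl_pow_mul, ← ht', ← hss₁]; rfl
    rw [← h3, two_mul]
    rfl

end Mat

end Groth.Agent.Lib.R2H7.IdemApprox
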