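import Groth.Agent.Lib.R2H7ApproxPatch
import Groth.Agent.Lib.R2H7IdemApprox

/-!
# Descent of finitely generated projective modules along a dense map, Henselian case

With approximation data `D` for `L → L'` where `L = A[1/t]`-like for a Henselian pair `(A, t)` and
`D.τ` the image of `t`, such that the preimage of `τ^m O` in `L` is `t^m · im(A)`, every finitely
generated projective `L'`-module is extended from a finitely generated projective `L`-module.
-/

set_option autoImplicit false
set_option linter.unusedSectionVars false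
universe u

namespace Groth.Agent.Lib.R2H7.ApproxProj

open Matrix TensorProduct
open Groth.Agent.Lib.R2H7.MonicGlue Groth.Agent.Lib.R2H7.MonicMain
open Groth.Agent.Lib.R2H7.HorrDict Groth.Agent.Lib.R2H7.HorrMain
open Groth.Agent.Lib.R2H7.ApproxPatch Groth.Agent.Lib.R2H7.IdemApprox

/-- Compatibility of approximation data with a Henselian pair `(A, t)`. -/
structure HensData (A : Type u) [CommRing A] (t : A) (L L' : Type u) [CommRing L] [CommRing L']
    [Algebra A L] [Algebra L L'] (D : ApproxData L L') : Prop where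
  unitT : IsUnit (algebraMap A L t)
  tau_eq : (D.τ : L') = algebraMap L L' (algebraMap A L t)
  mem_O : ∀ a : A, algebraMap L L' (algebraMap A L a) ∈ D.O
  full : ∀ (x : L) (m : ℕ), algebraMap L L' x ∈ D.F (m : ℤ) →
    ∃ a : A, x = (algebraMap A L t) ^ m * algebraMap A L a

section RingLemmas

variable {B : Type*} [Ring B]

theorem ring_sq_sub (p d : B) (hp : p * p = p) :
    (p + d) * (p + d) - (p + d) = p * d + d * p + d * d - d := by
  rw [add_mul, mul_add, mul_add, hp]; abel

theorem ring_Z (p E : B) (hp : p * p = p) :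
    p * E + (1 - p) * (1 - E) - 1 = (p + p - 1) * (E - p) := by
  have key : (p + p - 1) * (E - p) = p * E + p * E - E - (p * p + p * p) + p := by noncomm_ring
  rw [key, hp]
  noncomm_ring

theorem ring_Z_comm (p E : B) (hp : p * p = p) (hE : E * E = E) :
    p * (p * E + (1 - p) * (1 - E)) = (p * E + (1 - p) * (1 - E)) * E := by
  have h1 : p * (p * E + (1 - p) * (1 - E)) = p * E := by
    have : p * (p * E + (1 - p) * (1 - E)) = (p * p) * E + (p - p * p) * (1 - E) := by
      noncomm_ring
    rw [this, hp, sub_self, zero_mul, add_zero]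
  have h2 : (p * E + (1 - p) * (1 - E)) * E = p * E := by
    have : (p * E + (1 - p) * (1 - E)) * E = p * (E * E) + (1 - p) * (E - E * E) := by
      noncomm_ring
    rw [this, hE, sub_self, mul_zero, add_zero]
  rw [h1, h2]

theorem ring_conj' (p E Z Zi : B) (hp : p * p = p) (hZ : Z * Zi = 1) (hiZ : Zi * Z = 1)
    (hc : p * Z = Z * E) : (Zi * p) * (p * Z) = E ∧ (p * Z) * (Zi * p) = p := by
  constructor
  · calc Zi * p * (p * Z) = Zi * (p * p) * Z := by simp only [mul_assoc]
      _ = Zi * (p * Z) := by rw [hp, mul_assoc]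
      _ = (Zi * Z) * E := by rw [hc, mul_assoc]
      _ = E := by rw [hiZ, one_mul]
  · calc p * Z * (Zi * p) = p * (Z * Zi) * p := by simp only [mul_assoc]
      _ = p := by rw [hZ, mul_one, hp]

end RingLemmas

section Main

variable {A : Type u} [CommRing A] (t : A) [HenselianRing A (Ideal.span {t})]
  {L L' : Type u} [CommRing L] [CommRing L'] [Algebra A L] [Algebra L L']
  (D : ApproxData L L') (H : HensData A t L L' D)

include H in
theorem MF_smul_map {n : ℕ} (m : ℕ) (S₁ : Matrix (Fin n) (Fin n) L)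
    (hS₁ : ∀ i j, S₁ i j ∈ (algebraMap A L).range) :
    D.MF (m : ℤ) (((algebraMap A L t) ^ m • S₁).map (algebraMap L L')) := by
  intro i j
  obtain ⟨a, ha⟩ := hS₁ i j
  refine D.mem_F_of_eq (H.mem_O a) ?_
  rw [Matrix.map_apply, Matrix.smul_apply, smul_eq_mul, map_mul, map_pow, ← H.tau_eq, ha]

include H in
/-- Every idempotent matrix over `L'` is equivalent to the image of an idempotent over `L`. -/
theorem exists_idem_mvn {n : ℕ} (p' : Matrix (Fin n) (Fin n) L') (hp' : p' * p' = p') :
    ∃ ε : Matrix (Fin n) (Fin n) L, ε * ε = ε ∧ MvN (ε.map (algebraMap L L')) p' := by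
  set j := algebraMap L L' with hj
  obtain ⟨c, hc⟩ := D.exists_MF_pole p'
  obtain ⟨Y, hY⟩ := D.exists_MF_approx p' (3 * c + 2)
  set d := Y.map j - p' with hd
  have bd : D.MF ((3 * c + 2 : ℕ) : ℤ) d := by
    have := D.MF_neg hY
    rwa [neg_sub] at this
  have hYj : Y.map j = p' + d := by rw [hd]; abel
  -- Y * Y - Y is small
  have hsmall : D.MF ((2 * c + 2 : ℕ) : ℤ) ((Y * Y - Y).map j) := by
    have e : (Y * Y - Y).map j = p' * d + d * p' + d * d - d := by
      rw [Matrix.map_sub (f := j) (fun a b => map_sub _ a b), Matrix.map_mul, hYj,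
        ring_sq_sub p' d hp']
    rw [e]
    refine D.MF_sub (D.MF_add (D.MF_add ?_ ?_) ?_) ?_
    · exact D.MF_mono (by push_cast; omega) (D.MF_mul hc bd)
    · exact D.MF_mono (by push_cast; omega) (D.MF_mul bd hc)
    · exact D.MF_mono (by push_cast; omega) (D.MF_mul bd bd)
    · exact D.MF_mono (by push_cast; omega) bd
  -- so it is t^m • W
  choose w hw using fun ij : Fin n × Fin n => H.full ((Y * Y - Y) ij.1 ij.2) (2 * c + 2)
    (hsmall ij.1 ij.2)
  let W : Matrix (Fin n) (Fin n) L := Matrix.of fun i j => algebraMap A L (w (i, j))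
  have hW : ∀ i j, W i j ∈ (algebraMap A L).range := fun i j => ⟨w (i, j), rfl⟩
  have hYW : Y * Y - Y = (algebraMap A L t) ^ (2 * c + 2) • W := by
    ext i j
    rw [hw (i, j)]
    rfl
  obtain ⟨E, S₁, hE, hS₁, hES⟩ := exists_idem_near Y t H.unitT (2 * c + 2) (by omega) W hW hYW
  refine ⟨E, hE, ?_⟩
  -- E is close to p'
  set E' := E.map j with hE'
  have hE'E' : E' * E' = E' := by rw [hE', ← Matrix.map_mul, hE]
  have hclose : D.MF ((c : ℤ) + 2) (E' - p') := by
    have e : E' - p' = d + (1 - (Y.map j + Y.map j)) *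
        (((algebraMap A L t) ^ (2 * c + 2) • S₁).map j) := by
      rw [hE', hES, Matrix.map_add (f := j) (fun a b => map_add _ a b), Matrix.map_mul,
        Matrix.map_sub (f := j) (fun a b => map_sub _ a b),
        Matrix.map_add (f := j) (fun a b => map_add _ a b),
        Matrix.map_one j (map_zero _) (map_one _), hYj]
      abel
    rw [e]
    refine D.MF_add (D.MF_mono (by push_cast; omega) bd) ?_
    have bY : D.MF (-(c : ℤ)) (Y.map j) := by
      rw [hYj]
      exact D.MF_add hc (D.MF_mono (by push_cast; omega) bd)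
    have b1 : D.MF (-(c : ℤ)) (1 - (Y.map j + Y.map j)) :=
      D.MF_sub (D.MF_mono (by omega) D.MF_one) (D.MF_add bY bY)
    exact D.MF_mono (by push_cast; omega) (D.MF_mul b1 (MF_smul_map t D H (2 * c + 2) S₁ hS₁))
  set Z := p' * E' + (1 - p') * (1 - E') with hZ
  have uZ : IsUnit Z := by
    apply D.isUnit_of_MF'
    rw [hZ, ring_Z p' E' hp']
    have b2 : D.MF (-(c : ℤ)) (p' + p' - 1) :=
      D.MF_sub (D.MF_add hc hc) (D.MF_mono (by omega) D.MF_one)
    exact D.MF_mono (by omega) (D.MF_mul b2 hclose)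
  obtain ⟨⟨_, Zi, hZi, hiZ⟩, rfl⟩ := uZ
  have hcomm := ring_Z_comm p' E' hp' hE'E'
  obtain ⟨r1, r2⟩ := ring_conj' p' E' _ Zi hp' hZi hiZ hcomm
  exact ⟨Zi * p', p' * _, r1, r2⟩

include H in
/-- Every finitely generated projective `L'`-module is extended from `L`. -/
theorem descend (M' : Type u) [AddCommGroup M'] [Module L' M'] [Module.Finite L' M']
    [Module.Projective L' M'] :
    ∃ (M : Type u) (_ : AddCommGroup M) (_ : Module L M), Module.Finite L M ∧
      Module.Projective L M ∧ Nonempty (L' ⊗[L] M ≃ₗ[L'] M') := by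
  classical
  obtain ⟨n₀, hn₀⟩ := exists_pres L' M'
  obtain ⟨F, G, hFG⟩ := hn₀ n₀ le_rfl
  set p' := LinearMap.toMatrix' (G ∘ₗ F) with hp'
  have hp'I : p' * p' = p' := toMatrix'_idem F G hFG
  obtain ⟨g, hgg, u, v, huv, hvu⟩ := exists_idem_mvn t D H p' hp'I
  let M := LinearMap.range (Matrix.toLin' g)
  let f₁ : (Fin n₀ → L) →ₗ[L] M := (Matrix.toLin' g).rangeRestrict
  let g₁ : M →ₗ[L] (Fin n₀ → L) := M.subtype
  have hf₁val : ∀ x, ((f₁ x : M) : Fin n₀ → L) = Matrix.toLin' g x := fun x => rfl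
  have hg₁f₁ : g₁ ∘ₗ f₁ = Matrix.toLin' g := LinearMap.ext fun x => rfl
  have hggx : ∀ x, Matrix.toLin' g (Matrix.toLin' g x) = Matrix.toLin' g x := by
    intro x
    rw [← LinearMap.comp_apply, ← Matrix.toLin'_mul, hgg]
  have hf₁g₁ : f₁ ∘ₗ g₁ = LinearMap.id := by
    refine LinearMap.ext fun w => ?_
    obtain ⟨y, x, rfl⟩ := w
    apply Subtype.ext
    simp only [LinearMap.comp_apply, LinearMap.id_apply, g₁, Submodule.subtype_apply]
    rw [hf₁val, hggx]
  refine ⟨M, inferInstance, inferInstance, Module.Finite.range _,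
    Module.Projective.of_split g₁ f₁ hf₁g₁, ?_⟩
  have hmat : LinearMap.toMatrix' (g₁ ∘ₗ f₁) = g := by rw [hg₁f₁, LinearMap.toMatrix'_toLin']
  refine equiv_of_mvn (bcP L' f₁) (bcC L' g₁) (bcP_comp_bcC f₁ g₁ hf₁g₁) F G hFG
    (Matrix.toLin' u) (Matrix.toLin' v) ?_ ?_
  · rw [← Matrix.toLin'_mul, huv, bcC_comp_bcP, hmat]
  · rw [← Matrix.toLin'_mul, hvu, hp', Matrix.toLin'_toMatrix']

end Main

end Groth.Agent.Lib.R2H7.ApproxProj
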