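import Groth.Agent.Lib.R2H7ApproxAdic
import Groth.Agent.Lib.R2H7ApproxProj

/-!
# `A[1/t] → Â[1/t]` for a Henselian pair `(A, t)`: finitely generated projective modules descend
-/

set_option autoImplicit false
set_option linter.unusedSectionVars false
universe u

namespace Groth.Agent.Lib.R2H7.ApproxAdicProj

open Groth.Agent.Lib.R2H7.ApproxPatch Groth.Agent.Lib.H9IdemCompl
open Groth.Agent.Lib.R2H7.ApproxAdic Groth.Agent.Lib.R2H7.ApproxProj

theorem exists_of_mem_F_nat {L L' : Type u} [CommRing L] [CommRing L'] [Algebra L L']
    (D : ApproxData L L') {x : L'} {k : ℕ} (hx : x ∈ D.F (k : ℤ)) :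
    ∃ o ∈ D.O, x = (D.τ : L') ^ k * o := by
  rw [ApproxData.mem_F] at hx
  refine ⟨_, hx, ?_⟩
  rw [← mul_assoc, ← Units.val_pow_eq_pow_val, ← Units.val_mul, ← zpow_natCast, ← _root_.zpow_add]
  simp

section

variable {A : Type u} [CommRing A] (t : A) (ht : t ∈ (⊥ : Ideal A).jacobson)
  [Algebra (Localization.Away t)
    (Localization.Away (algebraMap A (AdicCompletion (Ideal.span {t}) A) t))]
  (halg : algebraMap (Localization.Away t)
      (Localization.Away (algebraMap A (AdicCompletion (Ideal.span {t}) A) t)) =
    Localization.awayMap (algebraMap A (AdicCompletion (Ideal.span {t}) A)) t)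

theorem hensData : HensData A t (Localization.Away t)
    (Localization.Away (algebraMap A (AdicCompletion (Ideal.span {t}) A) t))
    (data t ht halg) where
  unitT := IsLocalization.Away.algebraMap_isUnit t
  tau_eq := by
    change ((tau t : _ˣ) : Localization.Away
      (algebraMap A (AdicCompletion (Ideal.span {t}) A) t)) = _
    rw [tau_val, hphi t halg t]
  mem_O := fun a => ⟨algebraMap A _ a, (hphi t halg a).symm⟩
  full := by
    intro x m hx
    obtain ⟨_, ⟨w, rfl⟩, hxw⟩ := exists_of_mem_F_nat (data t ht halg) hx
    change _ = ((tau t : _ˣ) : Localization.Away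
      (algebraMap A (AdicCompletion (Ideal.span {t}) A) t)) ^ m * _ at hxw
    obtain ⟨c, a, hxa⟩ := IsLocalization.Away.surj t x
    have h1 : algebraMap (AdicCompletion (Ideal.span {t}) A)
        (Localization.Away (algebraMap A (AdicCompletion (Ideal.span {t}) A) t))
        (algebraMap A _ a) = algebraMap _ _
          ((algebraMap A (AdicCompletion (Ideal.span {t}) A) t) ^ (m + c) * w) := by
      rw [← hphi t halg a, ← hxa, map_mul, hxw, map_pow, hphi t halg t, tau_val]
      simp only [map_mul, map_pow]
      ring
    obtain ⟨⟨_, N, rfl⟩, hN⟩ := (IsLocalization.eq_iff_exists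
      (Submonoid.powers (algebraMap A (AdicCompletion (Ideal.span {t}) A) t)) _).mp h1
    simp only at hN
    have h2 := congrArg (AdicCompletion.evalₐ (Ideal.span {t}) (N + m + c)) hN
    rw [← map_pow, ← map_mul, evalₐ_algebraMap] at h2
    have h3 : AdicCompletion.evalₐ (Ideal.span {t}) (N + m + c)
        (algebraMap A (AdicCompletion (Ideal.span {t}) A) (t ^ N) *
          ((algebraMap A (AdicCompletion (Ideal.span {t}) A) t) ^ (m + c) * w)) = 0 := by
      have e1 : algebraMap A (AdicCompletion (Ideal.span {t}) A) (t ^ N) *
          ((algebraMap A (AdicCompletion (Ideal.span {t}) A) t) ^ (m + c) * w) =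
          algebraMap A (AdicCompletion (Ideal.span {t}) A) (t ^ (N + m + c)) * w := by
        simp only [map_pow]; ring
      rw [e1, map_mul, evalₐ_algebraMap]
      have : Ideal.Quotient.mk (Ideal.span {t} ^ (N + m + c)) (t ^ (N + m + c)) = 0 :=
        Ideal.Quotient.eq_zero_iff_mem.mpr
          (Ideal.pow_mem_pow (Ideal.mem_span_singleton_self t) _)
      rw [this, zero_mul]
    rw [h3, Ideal.Quotient.eq_zero_iff_mem, mem_span_pow] at h2
    obtain ⟨a', ha'⟩ := h2
    refine ⟨a', ?_⟩
    have hT : IsUnit (algebraMap A (Localization.Away t) t) :=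
      IsLocalization.Away.algebraMap_isUnit t
    apply (hT.pow (N + c)).mul_left_cancel
    have : algebraMap A (Localization.Away t) t ^ (N + c) * x =
        algebraMap A (Localization.Away t) (t ^ N * a) := by
      rw [map_mul, ← hxa, map_pow, pow_add]; ring
    rw [this, ha', map_mul, map_pow]
    ring

end

section Final

open TensorProduct

variable {A : Type u} [CommRing A] (t : A) [HenselianRing A (Ideal.span {t})]
  [Algebra (Localization.Away t)
    (Localization.Away (algebraMap A (AdicCompletion (Ideal.span {t}) A) t))]
  (halg : algebraMap (Localization.Away t)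
      (Localization.Away (algebraMap A (AdicCompletion (Ideal.span {t}) A) t)) =
    Localization.awayMap (algebraMap A (AdicCompletion (Ideal.span {t}) A)) t)

include halg in
theorem descend_adic (M' : Type u) [AddCommGroup M']
    [Module (Localization.Away (algebraMap A (AdicCompletion (Ideal.span {t}) A) t)) M']
    [Module.Finite (Localization.Away (algebraMap A (AdicCompletion (Ideal.span {t}) A) t)) M']
    [Module.Projective (Localization.Away (algebraMap A (AdicCompletion (Ideal.span {t}) A) t)) M'] :
    ∃ (M : Type u) (_ : AddCommGroup M) (_ : Module (Localization.Away t) M),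
      Module.Finite (Localization.Away t) M ∧ Module.Projective (Localization.Away t) M ∧
      Nonempty ((Localization.Away (algebraMap A (AdicCompletion (Ideal.span {t}) A) t))
        ⊗[Localization.Away t] M ≃ₗ[Localization.Away
          (algebraMap A (AdicCompletion (Ideal.span {t}) A) t)] M') := by
  have ht : t ∈ (⊥ : Ideal A).jacobson :=
    (HenselianRing.jac (I := Ideal.span {t})) (Ideal.mem_span_singleton_self t)
  exact descend t (data t ht halg) (hensData t ht halg) M'

end Final

end Groth.Agent.Lib.R2H7.ApproxAdicProj
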