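import Mathlib
import Groth.Prelude.Def_Hens2
import Groth.Agent.Lib.Helper26PairHzUnique
import Groth.Agent.S15749

/-!
# Henselization of `R[t]` along `(t)`: the map to `R⟦t⟧`, and idempotents of `R{t}[1/t]`
-/

set_option autoImplicit false
universe u

namespace Groth.Agent.Lib.R2H7.HensLaurent

open Polynomial

section PS

variable {R : Type u} [CommRing R]

theorem ps_span_X_pow (n : ℕ) : (Ideal.span ({PowerSeries.X} : Set (PowerSeries R))) ^ n =
    Ideal.span {(PowerSeries.X : PowerSeries R) ^ n} :=
  Ideal.span_singleton_pow _ n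

theorem ps_mem_span_X_pow_iff (n : ℕ) (f : PowerSeries R) :
    f ∈ (Ideal.span ({PowerSeries.X} : Set (PowerSeries R))) ^ n ↔
      ∀ m < n, PowerSeries.coeff m f = 0 := by
  rw [ps_span_X_pow, Ideal.mem_span_singleton, PowerSeries.X_pow_dvd_iff]

theorem isAdicComplete_span_X :
    IsAdicComplete (Ideal.span ({PowerSeries.X} : Set (PowerSeries R))) (PowerSeries R) where
  haus' := by
    intro x hx
    ext m
    have h1 := hx (m + 1)
    rw [SModEq.zero, smul_eq_mul, Ideal.mul_top, ps_mem_span_X_pow_iff] at h1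
    rw [h1 m (Nat.lt_succ_self m), map_zero]
  prec' := by
    intro f hf
    refine ⟨PowerSeries.mk fun k => PowerSeries.coeff k (f (k + 1)), fun n => ?_⟩
    rw [SModEq.sub_mem, smul_eq_mul, Ideal.mul_top, ps_mem_span_X_pow_iff]
    intro m hm
    have h1 := hf (Nat.succ_le_of_lt hm)
    rw [SModEq.sub_mem, smul_eq_mul, Ideal.mul_top, ps_mem_span_X_pow_iff] at h1
    have h2 := h1 m (Nat.lt_succ_self m)
    rw [map_sub, sub_eq_zero] at h2
    rw [map_sub, PowerSeries.coeff_mk, sub_eq_zero, h2]

theorem henselianRing_ps :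
    HenselianRing (PowerSeries R) (Ideal.span ({PowerSeries.X} : Set (PowerSeries R))) :=
  haveI := isAdicComplete_span_X (R := R)
  inferInstance

end PS

section Hz

variable {R : Type u} [CommRing R] {B : Type u} [CommRing B] [Algebra R[X] B]
  (hB : Hens2.IsPairHenselization R[X] (Ideal.span {(X : R[X])}) B)

include hB in
/-- The canonical map `R{t} → R⟦t⟧`. -/
theorem exists_toPowerSeries : ∃ γ : B →+* PowerSeries R,
    ∀ p : R[X], γ (algebraMap R[X] B p) = (p : PowerSeries R) := by
  have hle : (Ideal.span {(X : R[X])}).map (Polynomial.coeToPowerSeries.ringHom (R := R)) ≤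
      Ideal.span ({PowerSeries.X} : Set (PowerSeries R)) := by
    rw [Ideal.map_span, Set.image_singleton]
    simp
  obtain ⟨γ, hγ, -⟩ := hB.2 (PowerSeries R) _ (Polynomial.coeToPowerSeries.ringHom (R := R))
    henselianRing_ps hle
  exact ⟨γ, fun p => by
    have := congrArg (fun f => f p) hγ
    simpa using this⟩

include hB in
theorem mem_span_pow_of_toPowerSeries_eq_zero (γ : B →+* PowerSeries R)
    (hγ : ∀ p : R[X], γ (algebraMap R[X] B p) = (p : PowerSeries R)) (c : B) (hc : γ c = 0)
    (k : ℕ) : c ∈ Ideal.span {(algebraMap R[X] B X) ^ k} := by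
  obtain ⟨z, hz⟩ := (Groth.Agent.Lib.Helper26.PairHz.quotientMap_pow_bijective hB k).2
    (Ideal.Quotient.mk _ c)
  obtain ⟨p, rfl⟩ := Ideal.Quotient.mk_surjective z
  rw [Ideal.quotientMap_mk, Ideal.Quotient.eq, Ideal.span_singleton_pow, Ideal.map_span,
    Set.image_singleton, map_pow, Ideal.mem_span_singleton] at hz
  obtain ⟨c'', hc''⟩ := hz
  -- apply γ
  have h1 : (p : PowerSeries R) = (PowerSeries.X : PowerSeries R) ^ k * γ c'' := by
    have := congrArg γ hc''
    rw [map_sub, hc, sub_zero, map_mul, map_pow, hγ, hγ, Polynomial.coe_X] at this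
    exact this
  have h2 : (X : R[X]) ^ k ∣ p := by
    rw [Polynomial.X_pow_dvd_iff]
    intro d hd
    have h3 : (PowerSeries.X : PowerSeries R) ^ k ∣ (p : PowerSeries R) := ⟨_, h1⟩
    rw [PowerSeries.X_pow_dvd_iff] at h3
    have := h3 d hd
    rwa [Polynomial.coeff_coe] at this
  obtain ⟨p', rfl⟩ := h2
  rw [Ideal.mem_span_singleton]
  refine ⟨algebraMap R[X] B p' - c'', ?_⟩
  have : c = algebraMap R[X] B (X ^ k * p') - (algebraMap R[X] B X) ^ k * c'' := by
    rw [← hc'']; ring
  rw [this, map_mul, map_pow]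
  ring

include hB in
/-- The canonical map `R{t}[1/t] → R((t))`. -/
theorem exists_toLaurentSeries : ∃ Γ : Localization.Away (algebraMap R[X] B X) →+* LaurentSeries R,
    (∀ r : R, Γ (algebraMap B _ (algebraMap R[X] B (C r))) = HahnSeries.C r) ∧
    (∀ δ : Localization.Away (algebraMap R[X] B X), IsIdempotentElem δ → Γ δ = 0 → δ = 0) := by
  obtain ⟨γ, hγ⟩ := exists_toPowerSeries hB
  set tB := algebraMap R[X] B X with htB
  have hγt : γ tB = PowerSeries.X := by rw [htB, hγ, Polynomial.coe_X]
  have hunit : IsUnit (((HahnSeries.ofPowerSeries ℤ R).comp γ) tB) := by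
    rw [RingHom.comp_apply, hγt, HahnSeries.ofPowerSeries_X]
    refine IsUnit.of_mul_eq_one (HahnSeries.single (-1 : ℤ) (1 : R)) ?_
    rw [HahnSeries.single_mul_single]
    simp
  let Γ : Localization.Away tB →+* LaurentSeries R :=
    IsLocalization.Away.lift tB hunit
  have hΓ : ∀ b : B, Γ (algebraMap B _ b) = HahnSeries.ofPowerSeries ℤ R (γ b) := fun b =>
    IsLocalization.Away.lift_eq tB hunit b
  refine ⟨Γ, fun r => ?_, fun δ hδ hδ0 => ?_⟩
  · rw [hΓ, hγ, Polynomial.coe_C, HahnSeries.ofPowerSeries_C]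
  · obtain ⟨n, c, hc⟩ := IsLocalization.Away.surj tB δ
    have hTunit : IsUnit (algebraMap B (Localization.Away tB) tB) :=
      IsLocalization.Away.algebraMap_isUnit tB
    have hγc : γ c = 0 := by
      have := congrArg Γ hc
      rw [map_mul, hδ0, zero_mul, hΓ] at this
      exact HahnSeries.ofPowerSeries_injective (by rw [← this, map_zero])
    have hcm := mem_span_pow_of_toPowerSeries_eq_zero hB γ hγ c hγc (n + 1)
    rw [Ideal.mem_span_singleton] at hcm
    obtain ⟨c', hc'⟩ := hcm
    -- δ = algebraMap (tB * c')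
    have hδb : δ = algebraMap B (Localization.Away tB) (tB * c') := by
      have h1 : δ * algebraMap B (Localization.Away tB) tB ^ n =
          algebraMap B (Localization.Away tB) (tB * c') *
            algebraMap B (Localization.Away tB) tB ^ n := by
        rw [hc, hc', ← htB]; simp only [map_mul, map_pow]; ring
      exact (hTunit.pow n).mul_left_injective h1
    set b := tB * c' with hb
    have hbjac : b ∈ Ideal.jacobson (⊥ : Ideal B) := by
      have hmem : b ∈ (Ideal.span {(X : R[X])}).map (algebraMap R[X] B) := by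
        rw [Ideal.map_span, Set.image_singleton]
        exact Ideal.mul_mem_right _ _ (Ideal.mem_span_singleton_self _)
      exact hB.1.jac hmem
    have hidem : algebraMap B (Localization.Away tB) (b * b - b) = 0 := by
      rw [map_sub, map_mul, ← hδb, hδ.eq, sub_self]
    obtain ⟨⟨_, m, rfl⟩, hm⟩ := (IsLocalization.map_eq_zero_iff (Submonoid.powers tB) _ _).mp hidem
    simp only at hm
    have hu : IsUnit (1 - b) := by
      have := (Ideal.mem_jacobson_bot.mp hbjac) (-1)
      have h2 : b * -1 + 1 = 1 - b := by ring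
      rwa [h2] at this
    have hbt : tB ^ m * b = 0 := by
      have h3 : (tB ^ m * b) * (1 - b) = 0 := by
        have : (tB ^ m * b) * (1 - b) = -(tB ^ m * (b * b - b)) := by ring
        rw [this, hm, neg_zero]
      exact (hu.mul_left_eq_zero).mp h3
    have : algebraMap B (Localization.Away tB) tB ^ m * δ = 0 := by
      rw [hδb, ← map_pow, ← map_mul, hbt, map_zero]
    exact ((hTunit.pow m).mul_right_eq_zero).mp this

end Hz

end Groth.Agent.Lib.R2H7.HensLaurent
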