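import Groth.Agent.Lib.R2H7ApproxLaurent
import Groth.Agent.Lib.R2H7ApproxProj
import Groth.Agent.Lib.R2H7ApproxAdicProj
import Groth.Agent.Lib.R2H7HensLaurent

/-!
# Approximation data for `R{t}[1/t] → R((t))`
-/

set_option autoImplicit false
set_option linter.unusedSectionVars false
universe u

namespace Groth.Agent.Lib.R2H7.ApproxHensLaurent

open Polynomial
open Groth.Agent.Lib.R2H7.ApproxPatch Groth.Agent.Lib.R2H7.ApproxLaurent
open Groth.Agent.Lib.R2H7.ApproxProj Groth.Agent.Lib.R2H7.ApproxAdicProj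

section Ker

variable {R : Type u} [CommRing R] {B : Type u} [CommRing B] [Algebra R[X] B]
  (hB : Hens2.IsPairHenselization R[X] (Ideal.span {(X : R[X])}) B)
  (ψ : B →ₐ[R[X]] PowerSeries R)

theorem psi_algebraMap (p : R[X]) : ψ (algebraMap R[X] B p) = (p : PowerSeries R) := by
  rw [ψ.commutes, PowerSeries.algebraMap_apply', Algebra.algebraMap_self, PowerSeries.map_id]
  rfl

theorem psi_t : ψ (algebraMap R[X] B X) = PowerSeries.X := by
  rw [psi_algebraMap, Polynomial.coe_X]

include hB in
theorem henselianRing_B : HenselianRing B (Ideal.span {algebraMap R[X] B X}) := by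
  have := hB.1
  rwa [Ideal.map_span, Set.image_singleton] at this

include hB in
/-- The preimage of `X^N R⟦X⟧` in `B` is `t^N B`. -/
theorem exists_eq_pow_mul (c : B) (N : ℕ) (hc : (PowerSeries.X : PowerSeries R) ^ N ∣ ψ c) :
    ∃ c' : B, c = (algebraMap R[X] B X) ^ N * c' := by
  obtain ⟨z, hz⟩ := (Groth.Agent.Lib.Helper26.PairHz.quotientMap_pow_bijective hB N).2
    (Ideal.Quotient.mk _ c)
  obtain ⟨p, rfl⟩ := Ideal.Quotient.mk_surjective z
  rw [Ideal.quotientMap_mk, Ideal.Quotient.eq, Ideal.span_singleton_pow, Ideal.map_span,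
    Set.image_singleton, map_pow, Ideal.mem_span_singleton] at hz
  obtain ⟨c'', hc''⟩ := hz
  have h1 : (PowerSeries.X : PowerSeries R) ^ N ∣ (p : PowerSeries R) := by
    have := congrArg ψ hc''
    rw [map_sub, psi_algebraMap, map_mul, map_pow, psi_t] at this
    have e : (p : PowerSeries R) = ψ c + PowerSeries.X ^ N * ψ c'' := by rw [← this]; ring
    rw [e]
    exact dvd_add hc (dvd_mul_right _ _)
  have h2 : (X : R[X]) ^ N ∣ p := by
    rw [Polynomial.X_pow_dvd_iff]
    intro d hd
    rw [PowerSeries.X_pow_dvd_iff] at h1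
    have := h1 d hd
    rwa [Polynomial.coeff_coe] at this
  obtain ⟨p', rfl⟩ := h2
  refine ⟨algebraMap R[X] B p' - c'', ?_⟩
  have : c = algebraMap R[X] B (X ^ N * p') - (algebraMap R[X] B X) ^ N * c'' := by
    rw [← hc'']; ring
  rw [this, map_mul, map_pow]
  ring

end Ker

section Data

variable {R : Type u} [CommRing R] {B : Type u} [CommRing B] [Algebra R[X] B]
  (hB : Hens2.IsPairHenselization R[X] (Ideal.span {(X : R[X])}) B)
  (ψ : B →ₐ[R[X]] PowerSeries R)
  (L' : Type u) [CommRing L'] [Algebra (Localization.Away (algebraMap R[X] B X)) L']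
  (e : L' ≃+* LaurentSeries R)
  (he : ∀ b : B, e (algebraMap (Localization.Away (algebraMap R[X] B X)) L'
      (algebraMap B (Localization.Away (algebraMap R[X] B X)) b)) =
      HahnSeries.ofPowerSeries ℤ R (ψ b))

/-- `t` as a unit of `B[1/t]`. -/
noncomputable def TB : (Localization.Away (algebraMap R[X] B X))ˣ :=
  (IsLocalization.Away.algebraMap_isUnit (S := Localization.Away (algebraMap R[X] B X))
    (algebraMap R[X] B X)).unit

theorem TB_val : ((TB (R := R) (B := B) : _ˣ) : Localization.Away (algebraMap R[X] B X)) =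
    algebraMap B _ (algebraMap R[X] B X) := rfl

/-- `t` as a unit of `L'`. -/
noncomputable def tauB : L'ˣ :=
  Units.map (algebraMap (Localization.Away (algebraMap R[X] B X)) L').toMonoidHom
    (TB (R := R) (B := B))

theorem tauB_val : ((tauB (R := R) (B := B) L' : L'ˣ) : L') =
    algebraMap _ L' (algebraMap B (Localization.Away (algebraMap R[X] B X))
      (algebraMap R[X] B X)) := rfl

include he in
theorem e_tauB : e (tauB (R := R) (B := B) L') = HahnSeries.ofPowerSeries ℤ R PowerSeries.X := by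
  rw [tauB_val, he, psi_t]

include he in
theorem e_tauB_pow (k : ℕ) : e ((tauB (R := R) (B := B) L' : L') ^ k) =
    HahnSeries.ofPowerSeries ℤ R (PowerSeries.X ^ k) := by
  rw [map_pow, e_tauB ψ L' e he, map_pow]

include he in
theorem poleB (x : L') : ∃ c : ℕ, ((tauB (R := R) (B := B) L' : L') ^ c) * x ∈ Osub L' e := by
  set y := e x with hy
  set o := y.order with ho
  refine ⟨(-o).toNat, ?_⟩
  rw [mem_Osub]
  obtain ⟨k, hk⟩ := Int.eq_ofNat_of_zero_le (show 0 ≤ ((-o).toNat : ℤ) + o by
    have := Int.self_le_toNat (-o); omega)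
  refine ⟨PowerSeries.X ^ k * y.powerSeriesPart, ?_⟩
  rw [map_mul, e_tauB_pow ψ L' e he, map_mul, HahnSeries.ofPowerSeries_X_pow,
    HahnSeries.ofPowerSeries_X_pow, ← hy]
  conv_lhs => rw [← LaurentSeries.single_order_mul_powerSeriesPart y]
  rw [← mul_assoc, HahnSeries.single_mul_single, ← ho, hk, mul_one]

include he in
theorem denseB (x : L') (k : ℕ) : ∃ y : Localization.Away (algebraMap R[X] B X),
    ∃ o ∈ Osub L' e, x - algebraMap _ L' y = (tauB (R := R) (B := B) L' : L') ^ k * o := by
  obtain ⟨c, hc⟩ := poleB ψ L' e he x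
  rw [mem_Osub] at hc
  obtain ⟨f, hf⟩ := hc
  obtain ⟨rest, hrest⟩ := exists_trunc_add f (k + c)
  refine ⟨(((TB (R := R) (B := B))⁻¹ : (Localization.Away (algebraMap R[X] B X))ˣ) :
      Localization.Away (algebraMap R[X] B X)) ^ c *
      algebraMap B (Localization.Away (algebraMap R[X] B X))
        (algebraMap R[X] B (PowerSeries.trunc (k + c) f)),
    e.symm (HahnSeries.ofPowerSeries ℤ R rest), (mem_Osub L' e).mpr ⟨rest, by simp⟩, ?_⟩
  apply e.injective
  have hunit : IsUnit (e ((tauB (R := R) (B := B) L' : L') ^ c)) :=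
    ((tauB (R := R) (B := B) L').isUnit.pow c).map e
  apply hunit.mul_left_cancel
  have h1 : (tauB (R := R) (B := B) L' : L') ^ c * algebraMap _ L'
      ((((TB (R := R) (B := B))⁻¹ : (Localization.Away (algebraMap R[X] B X))ˣ) :
      Localization.Away (algebraMap R[X] B X)) ^ c *
        algebraMap B (Localization.Away (algebraMap R[X] B X))
          (algebraMap R[X] B (PowerSeries.trunc (k + c) f))) =
      algebraMap _ L' (algebraMap B (Localization.Away (algebraMap R[X] B X))
        (algebraMap R[X] B (PowerSeries.trunc (k + c) f))) := by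
    rw [tauB_val, ← map_pow, ← map_mul, ← TB_val, ← mul_assoc, ← Units.val_pow_eq_pow_val,
      ← Units.val_pow_eq_pow_val, ← Units.val_mul, ← mul_pow, mul_inv_cancel, one_pow,
      Units.val_one, one_mul]
  rw [← map_mul, mul_sub, h1, map_sub, hf, he, psi_algebraMap, ← map_mul, ← mul_assoc, ← pow_add,
    map_mul, e_tauB_pow ψ L' e he, RingEquiv.apply_symm_apply, ← map_mul, ← map_sub]
  congr 1
  rw [add_comm c k]
  linear_combination hrest

include he in
theorem e_one_addB (o : L') (f : PowerSeries R) (hf : e o = HahnSeries.ofPowerSeries ℤ R f) :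
    e (1 + (tauB (R := R) (B := B) L' : L') * o) =
      HahnSeries.ofPowerSeries ℤ R (1 + PowerSeries.X * f) := by
  rw [map_add, map_one, map_mul, e_tauB ψ L' e he, hf, map_add, map_one, map_mul]

include he in
theorem unit_OB (o : L') (ho : o ∈ Osub L' e) :
    IsUnit (1 + (tauB (R := R) (B := B) L' : L') * o) := by
  obtain ⟨f, hf⟩ := (mem_Osub L' e).mp ho
  have h1 : IsUnit (1 + PowerSeries.X * f : PowerSeries R) := by
    rw [PowerSeries.isUnit_iff_constantCoeff]
    simp
  have h2 := (h1.map (HahnSeries.ofPowerSeries ℤ R)).map e.symm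
  rw [← e_one_addB ψ L' e he o f hf] at h2
  simpa using h2

include hB he in
theorem unit_critB (y : Localization.Away (algebraMap R[X] B X))
    (hy : ∃ o ∈ Osub L' e, algebraMap _ L' y = 1 + (tauB (R := R) (B := B) L' : L') * o) :
    IsUnit y := by
  obtain ⟨o, ho, hyo⟩ := hy
  obtain ⟨f, hf⟩ := (mem_Osub L' e).mp ho
  obtain ⟨c, b, hyb⟩ := IsLocalization.Away.surj (algebraMap R[X] B X) y
  have key : ψ b = (1 + PowerSeries.X * f) * PowerSeries.X ^ c := by
    apply HahnSeries.ofPowerSeries_injective (Γ := ℤ)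
    rw [← he, ← hyb, map_mul, map_mul, hyo, e_one_addB ψ L' e he o f hf, map_pow, map_pow,
      ← tauB_val, e_tauB ψ L' e he, ← map_pow, ← map_mul]
  have hdvd : (PowerSeries.X : PowerSeries R) ^ (c + 1) ∣ ψ (b - (algebraMap R[X] B X) ^ c) := by
    rw [map_sub, map_pow, psi_t, key]
    exact ⟨f, by ring⟩
  obtain ⟨b', hb'⟩ := exists_eq_pow_mul hB ψ _ (c + 1) hdvd
  haveI := henselianRing_B hB
  have hjac : algebraMap R[X] B X ∈ Ideal.jacobson (⊥ : Ideal B) :=
    (HenselianRing.jac (I := Ideal.span {algebraMap R[X] B X}))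
      (Ideal.mem_span_singleton_self _)
  have hu : IsUnit (1 + algebraMap R[X] B X * b') := by
    have := (Ideal.mem_jacobson_bot.mp hjac) b'
    rwa [add_comm] at this
  have hb : b = (algebraMap R[X] B X) ^ c * (1 + algebraMap R[X] B X * b') := by
    have : b = (algebraMap R[X] B X) ^ c + (algebraMap R[X] B X) ^ (c + 1) * b' := by
      rw [← hb']; ring
    rw [this]; ring
  have hT : IsUnit (algebraMap B (Localization.Away (algebraMap R[X] B X))
      (algebraMap R[X] B X)) := IsLocalization.Away.algebraMap_isUnit _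
  have h5 : y = algebraMap B _ (1 + algebraMap R[X] B X * b') := by
    apply (hT.pow c).mul_left_cancel
    rw [mul_comm, hyb, hb, map_mul, map_pow]
  rw [h5]
  exact hu.map _

/-- The approximation data for `R{t}[1/t] → R((t))`. -/
noncomputable def dataB : ApproxData (Localization.Away (algebraMap R[X] B X)) L' where
  O := Osub L' e
  τ := tauB (R := R) (B := B) L'
  τ_mem := by
    rw [mem_Osub]
    exact ⟨PowerSeries.X, e_tauB ψ L' e he⟩
  pole := poleB ψ L' e he
  dense := denseB ψ L' e he
  unit_crit := unit_critB hB ψ L' e he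
  unit_O := unit_OB ψ L' e he

theorem hensDataB : HensData B (algebraMap R[X] B X) (Localization.Away (algebraMap R[X] B X)) L'
    (dataB hB ψ L' e he) where
  unitT := IsLocalization.Away.algebraMap_isUnit _
  tau_eq := rfl
  mem_O := fun b => (mem_Osub L' e).mpr ⟨ψ b, he b⟩
  full := by
    intro x m hx
    obtain ⟨o, ho, hxo⟩ := exists_of_mem_F_nat (dataB hB ψ L' e he) hx
    change _ = (tauB (R := R) (B := B) L' : L') ^ m * _ at hxo
    obtain ⟨f, hf⟩ := (mem_Osub L' e).mp ho
    obtain ⟨c, b, hxb⟩ := IsLocalization.Away.surj (algebraMap R[X] B X) x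
    have key : ψ b = PowerSeries.X ^ (m + c) * f := by
      apply HahnSeries.ofPowerSeries_injective (Γ := ℤ)
      have h1 : e (algebraMap _ L' (algebraMap B (Localization.Away (algebraMap R[X] B X)) b)) =
          e (algebraMap _ L' x) * e ((tauB (R := R) (B := B) L' : L') ^ c) := by
        rw [← hxb, map_mul, map_mul, map_pow, tauB_val]
      rw [he] at h1
      rw [h1, hxo, map_mul, e_tauB_pow ψ L' e he, hf, e_tauB_pow ψ L' e he, ← map_mul, ← map_mul]
      congr 1
      ring
    obtain ⟨b'', hb''⟩ := exists_eq_pow_mul hB ψ b (m + c) ⟨f, key⟩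
    refine ⟨b'', ?_⟩
    have hT : IsUnit (algebraMap B (Localization.Away (algebraMap R[X] B X))
        (algebraMap R[X] B X)) := IsLocalization.Away.algebraMap_isUnit _
    apply (hT.pow c).mul_left_cancel
    rw [mul_comm, hxb, hb'', map_mul, map_pow, pow_add]
    ring

end Data

end Groth.Agent.Lib.R2H7.ApproxHensLaurent
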