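import Mathlib
import Groth.Agent.Lib.Helper3HenselJ

/-!
# The localisation `R⟨s⟩` of `R[s]` at monic polynomials and ideals avoiding the special fibre

For a local ring `R` and a ring hom `ψ : R[X] →+* L` which inverts monic polynomials, is injective
and such that every element of `L` is a fraction `ψ p / ψ q` with `q` monic, extension and
contraction give a bijection between ideals of `R[X]` comaximal with `m R[X]` and ideals of `L`
comaximal with `m L` (the latter needs `R` Henselian).  We also show that the localisation of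
`R[t]` at the monoid generated by `t` and `1 + t R[t]` is of this form via `s ↦ t⁻¹`.
-/

set_option autoImplicit false
universe u

namespace Groth.Agent.Lib.R2H7.MonicLoc

open Polynomial IsLocalRing

section F4

variable {R : Type u} [CommRing R] [IsLocalRing R]

theorem map_residue_eq_zero_of_mem {μ : R[X]} (hμ : μ ∈ (maximalIdeal R).map (C : R →+* R[X])) :
    μ.map (residue R) = 0 := by
  ext n
  rw [coeff_map, coeff_zero]
  exact (residue_eq_zero_iff _).mpr (Ideal.mem_map_C_iff.mp hμ n)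

theorem mem_of_map_residue_eq_zero {μ : R[X]} (hμ : μ.map (residue R) = 0) :
    μ ∈ (maximalIdeal R).map (C : R →+* R[X]) := by
  rw [Ideal.mem_map_C_iff]
  intro n
  have := congrArg (fun p => p.coeff n) hμ
  simp only [coeff_map, coeff_zero] at this
  exact (residue_eq_zero_iff _).mp this

/-- A monic polynomial is a unit modulo any ideal comaximal with `m R[X]`. -/
theorem exists_mul_sub_one_mem (I : Ideal R[X])
    (hI : I ⊔ (maximalIdeal R).map (C : R →+* R[X]) = ⊤) (q : R[X]) (hq : q.Monic) :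
    ∃ q' : R[X], q * q' - 1 ∈ I := by
  have h1 : (1 : R[X]) ∈ I ⊔ (maximalIdeal R).map (C : R →+* R[X]) := by rw [hI]; trivial
  obtain ⟨f, hf, μ, hμ, hfμ⟩ := Submodule.mem_sup.mp h1
  have hμ0 := map_residue_eq_zero_of_mem hμ
  haveI : Module.Finite R (AdjoinRoot q) := hq.finite_adjoinRoot
  haveI : Algebra.IsIntegral R (AdjoinRoot q) := Algebra.IsIntegral.of_finite R (AdjoinRoot q)
  have hμS : AdjoinRoot.mk q μ ∈ (maximalIdeal R).map (algebraMap R (AdjoinRoot q)) :=
    Groth.Agent.Lib.Helper3.Hensel.mk_mem_map_of_map_eq_zero q μ hμ0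
  have hunit : IsUnit (AdjoinRoot.mk q f) := by
    by_contra hnu
    obtain ⟨𝔫, h𝔫, hf𝔫⟩ := exists_max_ideal_of_mem_nonunits hnu
    have hcm : (𝔫.comap (algebraMap R (AdjoinRoot q))) = maximalIdeal R := by
      haveI := Ideal.isMaximal_comap_of_isIntegral_of_isMaximal (R := R) 𝔫
      exact IsLocalRing.eq_maximalIdeal this
    have hle : (maximalIdeal R).map (algebraMap R (AdjoinRoot q)) ≤ 𝔫 := by
      rw [Ideal.map_le_iff_le_comap, hcm]
    have : (1 : AdjoinRoot q) ∈ 𝔫 := by
      have : (1 : AdjoinRoot q) = AdjoinRoot.mk q f + AdjoinRoot.mk q μ := by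
        rw [← map_add, hfμ, map_one]
      rw [this]
      exact 𝔫.add_mem hf𝔫 (hle hμS)
    exact h𝔫.ne_top ((Ideal.eq_top_iff_one _).mpr this)
  obtain ⟨g, hg⟩ := hunit.exists_right_inv
  obtain ⟨G, rfl⟩ := AdjoinRoot.mk_surjective g
  rw [← map_mul, ← map_one (AdjoinRoot.mk q), AdjoinRoot.mk_eq_mk] at hg
  obtain ⟨c, hc⟩ := hg
  refine ⟨-c, ?_⟩
  have : q * -c - 1 = -(f * G) := by linear_combination hc
  rw [this]
  exact I.neg_mem (I.mul_mem_right _ hf)

end F4

section General

variable {R : Type u} [CommRing R] {L : Type u} [CommRing L] (ψ : R[X] →+* L)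
  (h1 : ∀ q : R[X], q.Monic → IsUnit (ψ q))
  (h2 : ∀ z : L, ∃ p q : R[X], q.Monic ∧ z * ψ q = ψ p)

include h1 h2 in
theorem mem_map_iff (I : Ideal R[X]) (x : L) :
    x ∈ I.map ψ ↔ ∃ a ∈ I, ∃ q : R[X], q.Monic ∧ x * ψ q = ψ a := by
  constructor
  · intro hx
    unfold Ideal.map at hx
    induction hx using Submodule.span_induction with
    | mem x hx =>
      obtain ⟨a, ha, rfl⟩ := hx
      exact ⟨a, ha, 1, monic_one, by simp⟩
    | zero => exact ⟨0, I.zero_mem, 1, monic_one, by simp⟩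
    | add x y _ _ hx hy =>
      obtain ⟨a, ha, q, hq, hxa⟩ := hx
      obtain ⟨a', ha', q', hq', hya⟩ := hy
      refine ⟨a * q' + a' * q, I.add_mem (I.mul_mem_right _ ha) (I.mul_mem_right _ ha'),
        q * q', hq.mul hq', ?_⟩
      simp only [map_add, map_mul]
      linear_combination ψ q' * hxa + ψ q * hya
    | smul z x _ hx =>
      obtain ⟨a, ha, q, hq, hxa⟩ := hx
      obtain ⟨p0, q0, hq0, hz⟩ := h2 z
      refine ⟨p0 * a, I.mul_mem_left _ ha, q0 * q, hq0.mul hq, ?_⟩
      simp only [map_mul, smul_eq_mul]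
      linear_combination (x * ψ q) * hz + ψ p0 * hxa
  · rintro ⟨a, ha, q, hq, hx⟩
    obtain ⟨u, hu⟩ := h1 q hq
    have : x = ψ a * ↑u⁻¹ := by
      rw [← hx, ← hu, mul_assoc, Units.mul_inv, mul_one]
    rw [this]
    exact Ideal.mul_mem_right _ _ (Ideal.mem_map_of_mem ψ ha)

include h1 h2 in
theorem map_comap_eq (J : Ideal L) : (J.comap ψ).map ψ = J := by
  refine le_antisymm Ideal.map_comap_le ?_
  intro x hx
  obtain ⟨p, q, hq, hz⟩ := h2 x
  rw [mem_map_iff ψ h1 h2]
  refine ⟨p, ?_, q, hq, hz⟩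
  rw [Ideal.mem_comap, ← hz]
  exact J.mul_mem_right _ hx

end General

section Local

variable {R : Type u} [CommRing R] [IsLocalRing R] {L : Type u} [CommRing L] (ψ : R[X] →+* L)
  (h1 : ∀ q : R[X], q.Monic → IsUnit (ψ q))
  (h2 : ∀ z : L, ∃ p q : R[X], q.Monic ∧ z * ψ q = ψ p)
  (hinj : Function.Injective ψ)

include h1 h2 hinj in
theorem comap_map_eq (I : Ideal R[X])
    (hI : I ⊔ (maximalIdeal R).map (C : R →+* R[X]) = ⊤) : (I.map ψ).comap ψ = I := by
  refine le_antisymm ?_ Ideal.le_comap_map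
  intro x hx
  rw [Ideal.mem_comap, mem_map_iff ψ h1 h2] at hx
  obtain ⟨a, ha, q, hq, hxa⟩ := hx
  rw [← map_mul] at hxa
  have hxq : x * q = a := hinj hxa
  obtain ⟨q', hq'⟩ := exists_mul_sub_one_mem I hI q hq
  have : x = a * q' - (q * q' - 1) * x := by rw [← hxq]; ring
  rw [this]
  exact I.sub_mem (I.mul_mem_right _ ha) (I.mul_mem_right _ hq')

include h1 h2 in
theorem map_sup_eq_top (I : Ideal R[X])
    (hI : I ⊔ (maximalIdeal R).map (C : R →+* R[X]) = ⊤) :
    I.map ψ ⊔ ((maximalIdeal R).map (C : R →+* R[X])).map ψ = ⊤ := by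
  rw [← Ideal.map_sup, hI, Ideal.map_top]

include h1 h2 hinj in
theorem quotientMap_bijective (I : Ideal R[X])
    (hI : I ⊔ (maximalIdeal R).map (C : R →+* R[X]) = ⊤) :
    Function.Bijective (Ideal.quotientMap (I.map ψ) ψ Ideal.le_comap_map) := by
  constructor
  · exact Ideal.quotientMap_injective' (comap_map_eq ψ h1 h2 hinj I hI).le
  · intro z
    obtain ⟨z, rfl⟩ := Ideal.Quotient.mk_surjective z
    obtain ⟨p, q, hq, hz⟩ := h2 z
    obtain ⟨q', hq'⟩ := exists_mul_sub_one_mem I hI q hq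
    refine ⟨Ideal.Quotient.mk I (p * q'), ?_⟩
    rw [Ideal.quotientMap_mk, Ideal.Quotient.eq]
    have : ψ (p * q') - z = z * ψ (q * q' - 1) := by
      simp only [map_mul, map_sub, map_one]
      linear_combination (-ψ q') * hz
    rw [this]
    exact Ideal.mul_mem_left _ _ (Ideal.mem_map_of_mem ψ hq')

end Local

section Hensel

variable {R : Type u} [CommRing R] [HenselianLocalRing R] {L : Type u} [CommRing L]
  (ψ : R[X] →+* L)
  (h1 : ∀ q : R[X], q.Monic → IsUnit (ψ q))
  (h2 : ∀ z : L, ∃ p q : R[X], q.Monic ∧ z * ψ q = ψ p)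
  (hinj : Function.Injective ψ)

include h1 h2 hinj in
theorem comap_sup_eq_top (J : Ideal L)
    (hJ : J ⊔ ((maximalIdeal R).map (C : R →+* R[X])).map ψ = ⊤) :
    J.comap ψ ⊔ (maximalIdeal R).map (C : R →+* R[X]) = ⊤ := by
  have h1' : (1 : L) ∈ J ⊔ ((maximalIdeal R).map (C : R →+* R[X])).map ψ := by rw [hJ]; trivial
  obtain ⟨j, hj, ν, hν, hjν⟩ := Submodule.mem_sup.mp h1'
  rw [mem_map_iff ψ h1 h2] at hν
  obtain ⟨μ, hμ, q1, hq1, hνμ⟩ := hν
  obtain ⟨p, q2, hq2, hjp⟩ := h2 j
  have hpJ : p ∈ J.comap ψ := by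
    rw [Ideal.mem_comap, ← hjp]
    exact J.mul_mem_right _ hj
  have hP : p * q1 = q1 * q2 - μ * q2 := by
    apply hinj
    simp only [map_mul, map_sub]
    have hj' : j = 1 - ν := by rw [← hjν]; ring
    rw [← hjp, ← hνμ, hj']
    ring
  have hPres : (p * q1).map (residue R) = (q1 * q2).map (residue R) * 1 := by
    rw [hP, Polynomial.map_sub, Polynomial.map_mul (p := μ), map_residue_eq_zero_of_mem hμ]
    simp
  obtain ⟨g, h, hgh, hg, -, hh⟩ := Groth.Agent.Lib.Helper3.Hensel.factor_lift R (p * q1)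
    ((q1 * q2).map (residue R)) 1 ((hq1.mul hq2).map _) isCoprime_one_right hPres
  have hhJ : h ∈ J.comap ψ := by
    rw [Ideal.mem_comap]
    have : ψ g * ψ h ∈ J := by
      rw [← map_mul, ← hgh, map_mul]
      exact J.mul_mem_right _ hpJ
    exact (Ideal.unit_mul_mem_iff_mem _ (h1 g hg)).mp this
  have h1h : 1 - h ∈ (maximalIdeal R).map (C : R →+* R[X]) := by
    apply mem_of_map_residue_eq_zero
    rw [Polynomial.map_sub, hh, Polynomial.map_one, sub_self]
  rw [Ideal.eq_top_iff_one]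
  have : (1 : R[X]) = h + (1 - h) := by ring
  rw [this]
  exact Submodule.add_mem_sup hhJ h1h

end Hensel

section Laurent

variable {R : Type u} [CommRing R]

theorem exists_of_mem_closure {u : R[X]}
    (hu : u ∈ Submonoid.closure ({f : R[X] | f.coeff 0 = 1} ∪ {X})) :
    ∃ (j : ℕ) (h : R[X]), h.coeff 0 = 1 ∧ u = X ^ j * h := by
  induction hu using Submonoid.closure_induction with
  | mem x hx =>
    rcases hx with hx | hx
    · exact ⟨0, x, hx, by simp⟩
    · rw [Set.mem_singleton_iff] at hx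
      exact ⟨1, 1, by simp, by simp [hx]⟩
  | one => exact ⟨0, 1, by simp, by simp⟩
  | mul x y _ _ hx hy =>
    obtain ⟨j, h, hh, rfl⟩ := hx
    obtain ⟨j', h', hh', rfl⟩ := hy
    refine ⟨j + j', h * h', ?_, by ring⟩
    rw [mul_coeff_zero, hh, hh', one_mul]

theorem monic_reflect_of_coeff_zero {h : R[X]} (hh : h.coeff 0 = 1) :
    (reflect h.natDegree h).Monic := by
  apply monic_of_natDegree_le_of_coeff_eq_one h.natDegree
  · rw [natDegree_le_iff_coeff_eq_zero]
    intro N hN
    rw [coeff_reflect, revAt_eq_self_of_lt hN]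
    exact coeff_eq_zero_of_natDegree_lt hN
  · rw [coeff_reflect, revAt_le le_rfl, Nat.sub_self, hh]

theorem eq_zero_of_reflect_eq_zero {n : ℕ} {p : R[X]} (hp : reflect n p = 0) : p = 0 := by
  ext i
  have := congrArg (fun f => f.coeff (revAt n i)) hp
  simp only [coeff_reflect, revAt_invol, coeff_zero] at this
  simpa using this

theorem eq_zero_of_mul_eq_zero_of_mem_closure {u r : R[X]}
    (hu : u ∈ Submonoid.closure ({f : R[X] | f.coeff 0 = 1} ∪ {X})) (hur : u * r = 0) : r = 0 := by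
  obtain ⟨j, h, hh, rfl⟩ := exists_of_mem_closure hu
  rw [mul_assoc] at hur
  have h1 : h * r = 0 := ((monic_X_pow j).mul_right_eq_zero_iff).mp hur
  have h2 : reflect (h.natDegree + r.natDegree) (h * r) = reflect h.natDegree h *
      reflect r.natDegree r := reflect_mul h r le_rfl le_rfl
  rw [h1, reflect_zero] at h2
  have h3 := ((monic_reflect_of_coeff_zero hh).mul_right_eq_zero_iff).mp h2.symm
  exact eq_zero_of_reflect_eq_zero h3

variable (L : Type u) [CommRing L] [Algebra R[X] L]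
  [IsLocalization (Submonoid.closure ({f : R[X] | f.coeff 0 = 1} ∪ {X})) L]
  [Algebra R L] [IsScalarTower R R[X] L]
  (ψ : R[X] →ₐ[R] L) (hψ : ψ X * algebraMap R[X] L X = 1)

omit [IsLocalization (Submonoid.closure ({f : R[X] | f.coeff 0 = 1} ∪ {X})) L]
  [IsScalarTower R R[X] L] in
theorem psi_eq (p : R[X]) : ψ p = eval₂ (algebraMap R L) (ψ X) p := by
  rw [← aeval_def, aeval_algHom_apply, aeval_X_left_apply]

omit [IsLocalization (Submonoid.closure ({f : R[X] | f.coeff 0 = 1} ∪ {X})) L] in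
theorem phi_eq (p : R[X]) :
    algebraMap R[X] L p = eval₂ (algebraMap R L) (algebraMap R[X] L X) p := by
  have := psi_eq L (IsScalarTower.toAlgHom R R[X] L) p
  simpa using this

include hψ in
omit [IsLocalization (Submonoid.closure ({f : R[X] | f.coeff 0 = 1} ∪ {X})) L] in
theorem psi_reflect_mul_pow (n : ℕ) (p : R[X]) (hp : p.natDegree ≤ n) :
    ψ (reflect n p) * (algebraMap R[X] L X) ^ n = algebraMap R[X] L p := by
  letI : Invertible (algebraMap R[X] L X) := ⟨ψ X, hψ, by rw [mul_comm]; exact hψ⟩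
  rw [psi_eq L ψ (reflect n p), phi_eq L p]
  exact eval₂_reflect_mul_pow (algebraMap R L) (algebraMap R[X] L X) n p hp

include hψ in
omit [IsLocalization (Submonoid.closure ({f : R[X] | f.coeff 0 = 1} ∪ {X})) L] in
theorem phi_reflect_mul_pow (n : ℕ) (p : R[X]) (hp : p.natDegree ≤ n) :
    algebraMap R[X] L (reflect n p) * (ψ X) ^ n = ψ p := by
  letI : Invertible (ψ X) := ⟨algebraMap R[X] L X, by rw [mul_comm]; exact hψ, hψ⟩
  rw [psi_eq L ψ p, phi_eq L (reflect n p)]
  exact eval₂_reflect_mul_pow (algebraMap R L) (ψ X) n p hp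

include hψ in
theorem isUnit_psi_of_monic (q : R[X]) (hq : q.Monic) : IsUnit (ψ q) := by
  rw [← phi_reflect_mul_pow L ψ hψ q.natDegree q le_rfl]
  refine IsUnit.mul ?_ (IsUnit.pow _ (IsUnit.of_mul_eq_one _ hψ))
  refine IsLocalization.map_units L (⟨reflect q.natDegree q, Submonoid.subset_closure (Or.inl ?_)⟩ :
    Submonoid.closure ({f : R[X] | f.coeff 0 = 1} ∪ {X}))
  rw [Set.mem_setOf_eq, coeff_reflect, revAt_le (Nat.zero_le _), Nat.sub_zero]
  exact hq.coeff_natDegree

include hψ in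
theorem psi_injective : Function.Injective ψ := by
  rw [injective_iff_map_eq_zero]
  intro p hp
  rw [← phi_reflect_mul_pow L ψ hψ p.natDegree p le_rfl] at hp
  have hX : IsUnit ((ψ X) ^ p.natDegree) := IsUnit.pow _ (IsUnit.of_mul_eq_one _ hψ)
  have h0 : algebraMap R[X] L (reflect p.natDegree p) = 0 := (hX.mul_left_eq_zero).mp hp
  obtain ⟨u, hu⟩ := (IsLocalization.map_eq_zero_iff
    (Submonoid.closure ({f : R[X] | f.coeff 0 = 1} ∪ {X})) L _).mp h0
  exact eq_zero_of_reflect_eq_zero (eq_zero_of_mul_eq_zero_of_mem_closure u.2 hu)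

include hψ in
theorem psi_surj (z : L) : ∃ p q : R[X], q.Monic ∧ z * ψ q = ψ p := by
  obtain ⟨⟨a, u⟩, hz⟩ := IsLocalization.surj
    (Submonoid.closure ({f : R[X] | f.coeff 0 = 1} ∪ {X})) z
  obtain ⟨j, h, hh, hu⟩ := exists_of_mem_closure u.2
  simp only at hz
  rw [hu, map_mul, map_pow] at hz
  have e1 := psi_reflect_mul_pow L ψ hψ h.natDegree h le_rfl
  have e2 := psi_reflect_mul_pow L ψ hψ a.natDegree a le_rfl
  refine ⟨reflect a.natDegree a * X ^ (h.natDegree + j),
    reflect h.natDegree h * X ^ a.natDegree,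
    (monic_reflect_of_coeff_zero hh).mul (monic_X_pow _), ?_⟩
  simp only [map_mul, map_pow]
  set T := algebraMap R[X] L X with hT
  set S := ψ X with hS
  have hST : ∀ k : ℕ, S ^ k * T ^ k = 1 := fun k => by rw [← mul_pow, hψ, one_pow]
  -- z * (T^j * φ h) = φ a
  calc z * (ψ (reflect h.natDegree h) * S ^ a.natDegree)
      = z * (ψ (reflect h.natDegree h) * S ^ a.natDegree) *
          (S ^ (h.natDegree + j) * T ^ (h.natDegree + j)) := by rw [hST, mul_one]
    _ = (z * (T ^ j * (ψ (reflect h.natDegree h) * T ^ h.natDegree))) *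
          (S ^ a.natDegree * S ^ (h.natDegree + j)) := by rw [pow_add T]; ring
    _ = ψ (reflect a.natDegree a) * T ^ a.natDegree *
          (S ^ a.natDegree * S ^ (h.natDegree + j)) := by rw [e1, hz, e2]
    _ = ψ (reflect a.natDegree a) * S ^ (h.natDegree + j) * (S ^ a.natDegree * T ^ a.natDegree) := by
      ring
    _ = ψ (reflect a.natDegree a) * S ^ (h.natDegree + j) := by rw [hST, mul_one]

end Laurent

end Groth.Agent.Lib.R2H7.MonicLoc
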