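import Groth.Agent.Lib.R2H7ApproxPatch
import Groth.Agent.Lib.R2H7MonicLoc

/-!
# Approximation data for `(R[t]_{1+tR[t]})[1/t] → R((t))`
-/

set_option autoImplicit false
set_option linter.unusedSectionVars false
universe u

namespace Groth.Agent.Lib.R2H7.ApproxLaurent

open Polynomial
open Groth.Agent.Lib.R2H7.ApproxPatch Groth.Agent.Lib.R2H7.MonicLoc

section PS

variable {R : Type u} [CommRing R]

theorem exists_trunc_add (f : PowerSeries R) (N : ℕ) :
    ∃ rest : PowerSeries R, f = ((PowerSeries.trunc N f : R[X]) : PowerSeries R) +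
      PowerSeries.X ^ N * rest := by
  have h : (PowerSeries.X : PowerSeries R) ^ N ∣ f - ((PowerSeries.trunc N f : R[X]) : PowerSeries R) := by
    rw [PowerSeries.X_pow_dvd_iff]
    intro m hm
    rw [map_sub, Polynomial.coeff_coe, PowerSeries.coeff_trunc, if_pos hm, sub_self]
  obtain ⟨rest, hrest⟩ := h
  exact ⟨rest, by rw [← hrest]; ring⟩

end PS

section Data

variable {R : Type u} [CommRing R] (L : Type u) [CommRing L] [Algebra R[X] L]
  [IsLocalization (Submonoid.closure ({f : R[X] | f.coeff 0 = 1} ∪ {X})) L]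
  (L' : Type u) [CommRing L'] [Algebra L L'] (e : L' ≃+* LaurentSeries R)
  (he : ∀ p : R[X], e (algebraMap L L' (algebraMap R[X] L p)) =
      HahnSeries.ofPowerSeries ℤ R (Polynomial.coeToPowerSeries.ringHom p))

/-- `t` as a unit of `L`. -/
noncomputable def TL : Lˣ :=
  (IsLocalization.map_units L (⟨X, Submonoid.subset_closure (Or.inr rfl)⟩ :
    Submonoid.closure ({f : R[X] | f.coeff 0 = 1} ∪ {X}))).unit

theorem TL_val : ((TL (R := R) L : Lˣ) : L) = algebraMap R[X] L X := rfl

/-- `t` as a unit of `L'`. -/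
noncomputable def tau : L'ˣ := Units.map (algebraMap L L').toMonoidHom (TL (R := R) L)

theorem tau_val : ((tau (R := R) L L' : L'ˣ) : L') = algebraMap L L' (algebraMap R[X] L X) := rfl

include he in
theorem e_tau : e (tau (R := R) L L') = HahnSeries.ofPowerSeries ℤ R PowerSeries.X := by
  rw [tau_val, he]
  simp

include he in
theorem e_tau_pow (k : ℕ) :
    e ((tau (R := R) L L' : L') ^ k) = HahnSeries.ofPowerSeries ℤ R (PowerSeries.X ^ k) := by
  rw [map_pow, e_tau L L' e he, map_pow]

/-- The subring of `L'` corresponding to `R⟦t⟧`. -/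
noncomputable def Osub : Subring L' :=
  ((e.symm : LaurentSeries R ≃+* L').toRingHom.comp (HahnSeries.ofPowerSeries ℤ R)).range

theorem mem_Osub {x : L'} : x ∈ Osub L' e ↔ ∃ f : PowerSeries R,
    e x = HahnSeries.ofPowerSeries ℤ R f := by
  unfold Osub
  rw [RingHom.mem_range]
  constructor
  · rintro ⟨f, rfl⟩
    exact ⟨f, by simp⟩
  · rintro ⟨f, hf⟩
    exact ⟨f, by simp [← hf]⟩

include he in
theorem pole (x : L') : ∃ c : ℕ, ((tau (R := R) L L' : L') ^ c) * x ∈ Osub L' e := by
  set y := e x with hy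
  set o := y.order with ho
  refine ⟨(-o).toNat, ?_⟩
  rw [mem_Osub]
  obtain ⟨k, hk⟩ := Int.eq_ofNat_of_zero_le (show 0 ≤ ((-o).toNat : ℤ) + o by
    have := Int.self_le_toNat (-o); omega)
  refine ⟨PowerSeries.X ^ k * y.powerSeriesPart, ?_⟩
  rw [map_mul, e_tau_pow L L' e he, map_mul, HahnSeries.ofPowerSeries_X_pow,
    HahnSeries.ofPowerSeries_X_pow, ← hy]
  conv_lhs => rw [← LaurentSeries.single_order_mul_powerSeriesPart y]
  rw [← mul_assoc, HahnSeries.single_mul_single, ← ho, hk, mul_one]

include he in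
theorem dense (x : L') (k : ℕ) : ∃ y : L, ∃ o ∈ Osub L' e,
    x - algebraMap L L' y = (tau (R := R) L L' : L') ^ k * o := by
  obtain ⟨c, hc⟩ := pole L L' e he x
  rw [mem_Osub] at hc
  obtain ⟨f, hf⟩ := hc
  obtain ⟨rest, hrest⟩ := exists_trunc_add f (k + c)
  refine ⟨((TL (R := R) L)⁻¹ : Lˣ) ^ c * algebraMap R[X] L (PowerSeries.trunc (k + c) f),
    e.symm (HahnSeries.ofPowerSeries ℤ R rest), (mem_Osub L' e).mpr ⟨rest, by simp⟩, ?_⟩
  apply e.injective
  -- multiply by τ^c (a unit)
  have hunit : IsUnit (e ((tau (R := R) L L' : L') ^ c)) :=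
    ((tau (R := R) L L').isUnit.pow c).map e
  apply hunit.mul_left_cancel
  have h1 : (tau (R := R) L L' : L') ^ c * algebraMap L L' (((TL (R := R) L)⁻¹ : Lˣ) ^ c *
      algebraMap R[X] L (PowerSeries.trunc (k + c) f)) =
      algebraMap L L' (algebraMap R[X] L (PowerSeries.trunc (k + c) f)) := by
    rw [tau_val, ← map_pow, ← map_mul, ← TL_val, ← mul_assoc, ← Units.val_pow_eq_pow_val,
      ← Units.val_pow_eq_pow_val, ← Units.val_mul, ← mul_pow, mul_inv_cancel, one_pow,
      Units.val_one, one_mul]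
  rw [← map_mul, mul_sub, h1, map_sub, hf, he, ← map_mul, ← mul_assoc, ← pow_add, map_mul,
    e_tau_pow L L' e he, RingEquiv.apply_symm_apply, ← map_mul, ← map_sub]
  congr 1
  rw [Polynomial.coeToPowerSeries.ringHom_apply, add_comm c k]
  linear_combination hrest

include he in
theorem e_one_add (o : L') (f : PowerSeries R) (hf : e o = HahnSeries.ofPowerSeries ℤ R f) :
    e (1 + (tau (R := R) L L' : L') * o) =
      HahnSeries.ofPowerSeries ℤ R (1 + PowerSeries.X * f) := by
  rw [map_add, map_one, map_mul, e_tau L L' e he, hf, map_add, map_one, map_mul]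

include he in
theorem unit_O (o : L') (ho : o ∈ Osub L' e) : IsUnit (1 + (tau (R := R) L L' : L') * o) := by
  obtain ⟨f, hf⟩ := (mem_Osub L' e).mp ho
  have h1 : IsUnit (1 + PowerSeries.X * f : PowerSeries R) := by
    rw [PowerSeries.isUnit_iff_constantCoeff]
    simp
  have h2 := (h1.map (HahnSeries.ofPowerSeries ℤ R)).map e.symm
  rw [← e_one_add L L' e he o f hf] at h2
  simpa using h2

include he in
theorem unit_crit (y : L)
    (hy : ∃ o ∈ Osub L' e, algebraMap L L' y = 1 + (tau (R := R) L L' : L') * o) : IsUnit y := by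
  obtain ⟨o, ho, hyo⟩ := hy
  obtain ⟨f, hf⟩ := (mem_Osub L' e).mp ho
  obtain ⟨⟨a, u⟩, hya⟩ := IsLocalization.surj
    (Submonoid.closure ({f : R[X] | f.coeff 0 = 1} ∪ {X})) y
  obtain ⟨j, h, hh, hu⟩ := exists_of_mem_closure u.2
  simp only at hya
  -- the identity in power series
  have key : (1 + PowerSeries.X * f) * ((PowerSeries.X : PowerSeries R) ^ j * (h : PowerSeries R)) =
      (a : PowerSeries R) := by
    apply HahnSeries.ofPowerSeries_injective (Γ := ℤ)
    have := congrArg (fun z => e (algebraMap L L' z)) hya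
    simp only [map_mul] at this
    rw [hyo, e_one_add L L' e he o f hf, he, he, hu] at this
    simp only [Polynomial.coeToPowerSeries.ringHom_apply, Polynomial.coe_mul, Polynomial.coe_pow,
      Polynomial.coe_X] at this
    rw [← map_mul] at this
    exact this
  have key' : (a : PowerSeries R) = (PowerSeries.X : PowerSeries R) ^ j *
      ((1 + PowerSeries.X * f) * (h : PowerSeries R)) := by rw [← key]; ring
  have hcoeff : ∀ d, a.coeff d = if j ≤ d then
      PowerSeries.coeff (d - j) ((1 + PowerSeries.X * f) * (h : PowerSeries R)) else 0 := by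
    intro d
    rw [← Polynomial.coeff_coe, key', PowerSeries.coeff_X_pow_mul']
  have hdvd : (X : R[X]) ^ j ∣ a := by
    rw [Polynomial.X_pow_dvd_iff]
    intro d hd
    rw [hcoeff, if_neg (not_le.mpr hd)]
  obtain ⟨a', rfl⟩ := hdvd
  have ha' : a'.coeff 0 = 1 := by
    have h1 := hcoeff j
    rw [if_pos le_rfl, Nat.sub_self] at h1
    have h2 : ((X : R[X]) ^ j * a').coeff j = a'.coeff 0 := by
      have := Polynomial.coeff_X_pow_mul a' j 0
      rwa [zero_add] at this
    rw [← h2, h1, PowerSeries.coeff_zero_eq_constantCoeff_apply, map_mul, map_add, map_one,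
      map_mul, PowerSeries.constantCoeff_X, zero_mul, add_zero, one_mul,
      ← PowerSeries.coeff_zero_eq_constantCoeff_apply, Polynomial.coeff_coe, hh]
  have hXS : (X : R[X]) ∈ Submonoid.closure ({f : R[X] | f.coeff 0 = 1} ∪ {X}) :=
    Submonoid.subset_closure (Or.inr rfl)
  have ha'S : a' ∈ Submonoid.closure ({f : R[X] | f.coeff 0 = 1} ∪ {X}) :=
    Submonoid.subset_closure (Or.inl ha')
  have hmem : (X : R[X]) ^ j * a' ∈ Submonoid.closure ({f : R[X] | f.coeff 0 = 1} ∪ {X}) :=
    mul_mem (pow_mem hXS j) ha'S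
  have hunit : IsUnit (algebraMap R[X] L ((X : R[X]) ^ j * a')) :=
    IsLocalization.map_units L (⟨_, hmem⟩ :
      Submonoid.closure ({f : R[X] | f.coeff 0 = 1} ∪ {X}))
  rw [← hya] at hunit
  exact isUnit_of_mul_isUnit_left hunit

/-- The approximation data for `L → L' ≅ R((t))`. -/
noncomputable def data : ApproxData L L' where
  O := Osub L' e
  τ := tau (R := R) L L'
  τ_mem := by
    rw [mem_Osub]
    exact ⟨PowerSeries.X, e_tau L L' e he⟩
  pole := pole L L' e he
  dense := dense L L' e he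
  unit_crit := unit_crit L L' e he
  unit_O := unit_O L L' e he

end Data

end Groth.Agent.Lib.R2H7.ApproxLaurent
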