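import Groth.Agent.Lib.R2H7MonicMain

/-!
# Approximation patching for finitely generated projective modules

Abstract setting: an algebra `L → L'`, a subring `O ⊆ L'` ("integral elements"), a unit `τ` of `L'`
lying in `O` with `L' = O[1/τ]`, such that `L` is `τ`-adically dense in `L'`, elements of `L` which
are `≡ 1 mod τ O` are units of `L`, and `1 + τ O ⊆ L'ˣ`.  Then
* finitely generated projective `L`-modules which become isomorphic over `L'` are isomorphic;
* every stably free `L'`-module is extended from a stably free `L`-module.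
-/

set_option autoImplicit false
set_option linter.unusedSectionVars false
universe u

namespace Groth.Agent.Lib.R2H7.ApproxPatch

open Matrix TensorProduct
open Groth.Agent.Lib.R2H7.MonicGlue Groth.Agent.Lib.R2H7.MonicMain
open Groth.Agent.Lib.R2H7.HorrDict Groth.Agent.Lib.R2H7.HorrMain

/-- The abstract approximation data. -/
structure ApproxData (L L' : Type u) [CommRing L] [CommRing L'] [Algebra L L'] where
  O : Subring L'
  τ : L'ˣ
  τ_mem : (τ : L') ∈ O
  pole : ∀ x : L', ∃ c : ℕ, ((τ : L') ^ c) * x ∈ O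
  dense : ∀ (x : L') (k : ℕ), ∃ y : L, ∃ o ∈ O, x - algebraMap L L' y = (τ : L') ^ k * o
  unit_crit : ∀ y : L, (∃ o ∈ O, algebraMap L L' y = 1 + (τ : L') * o) → IsUnit y
  unit_O : ∀ o ∈ O, IsUnit (1 + (τ : L') * o)

namespace ApproxData

variable {L L' : Type u} [CommRing L] [CommRing L'] [Algebra L L'] (D : ApproxData L L')

/-- The filtration `τ^k O`, `k : ℤ`. -/
def F (k : ℤ) : AddSubgroup L' where
  carrier := {x | ((D.τ ^ (-k) : L'ˣ) : L') * x ∈ D.O}
  zero_mem' := by simp [D.O.zero_mem]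
  add_mem' := by
    intro a b ha hb
    simp only [Set.mem_setOf_eq, mul_add] at ha hb ⊢
    exact D.O.add_mem ha hb
  neg_mem' := by
    intro a ha
    simp only [Set.mem_setOf_eq, mul_neg] at ha ⊢
    exact D.O.neg_mem ha

theorem mem_F {k : ℤ} {x : L'} : x ∈ D.F k ↔ ((D.τ ^ (-k) : L'ˣ) : L') * x ∈ D.O := Iff.rfl

theorem F_mul {a b : ℤ} {x y : L'} (hx : x ∈ D.F a) (hy : y ∈ D.F b) : x * y ∈ D.F (a + b) := by
  rw [mem_F] at hx hy ⊢
  have : ((D.τ ^ (-(a + b)) : L'ˣ) : L') * (x * y) =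
      (((D.τ ^ (-a) : L'ˣ) : L') * x) * (((D.τ ^ (-b) : L'ˣ) : L') * y) := by
    rw [neg_add, _root_.zpow_add, Units.val_mul]; ring
  rw [this]
  exact D.O.mul_mem hx hy

theorem tau_pow_mem (n : ℕ) : ((D.τ : L') ^ n) ∈ D.O := D.O.pow_mem D.τ_mem n

theorem F_mono {a b : ℤ} (h : a ≤ b) {x : L'} (hx : x ∈ D.F b) : x ∈ D.F a := by
  rw [mem_F] at hx ⊢
  obtain ⟨n, hn⟩ := Int.eq_ofNat_of_zero_le (sub_nonneg.mpr h)
  have : ((D.τ ^ (-a) : L'ˣ) : L') * x = ((D.τ : L') ^ n) * (((D.τ ^ (-b) : L'ˣ) : L') * x) := by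
    have h1 : (-a : ℤ) = (n : ℤ) + (-b) := by omega
    rw [h1, _root_.zpow_add, Units.val_mul, zpow_natCast, Units.val_pow_eq_pow_val]; ring
  rw [this]
  exact D.O.mul_mem (D.tau_pow_mem n) hx

theorem mem_F_zero {x : L'} : x ∈ D.F 0 ↔ x ∈ D.O := by
  rw [mem_F]; simp

theorem one_mem_F : (1 : L') ∈ D.F 0 := D.mem_F_zero.mpr D.O.one_mem

theorem mem_F_of_eq {x : L'} {k : ℕ} {o : L'} (ho : o ∈ D.O) (hx : x = (D.τ : L') ^ k * o) :
    x ∈ D.F (k : ℤ) := by
  have h1 : ((D.τ ^ (-(k : ℤ)) : L'ˣ) : L') * (D.τ : L') ^ k = 1 := by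
    rw [← Units.val_pow_eq_pow_val, ← Units.val_mul, ← zpow_natCast, ← _root_.zpow_add]
    simp
  rw [mem_F, hx, ← mul_assoc, h1, one_mul]
  exact ho

theorem exists_of_mem_F_one {x : L'} (hx : x ∈ D.F 1) : ∃ o ∈ D.O, x = (D.τ : L') * o := by
  rw [mem_F] at hx
  refine ⟨_, hx, ?_⟩
  rw [← mul_assoc, ← Units.val_mul]
  simp

theorem exists_pole (x : L') : ∃ c : ℕ, x ∈ D.F (-(c : ℤ)) := by
  obtain ⟨c, hc⟩ := D.pole x
  refine ⟨c, ?_⟩
  rw [mem_F, neg_neg, zpow_natCast, Units.val_pow_eq_pow_val]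
  exact hc

theorem exists_approx (x : L') (k : ℕ) : ∃ y : L, x - algebraMap L L' y ∈ D.F (k : ℤ) := by
  obtain ⟨y, o, ho, h⟩ := D.dense x k
  exact ⟨y, D.mem_F_of_eq ho h⟩

section Mat

variable {m n l : Type*} [Fintype m] [Fintype n] [Fintype l]

/-- Matrices with entries in `τ^k O`. -/
def MF (k : ℤ) (E : Matrix m n L') : Prop := ∀ a b, E a b ∈ D.F k

theorem MF_mono {a b : ℤ} (h : a ≤ b) {E : Matrix m n L'} (hE : D.MF b E) : D.MF a E :=
  fun i j => D.F_mono h (hE i j)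

theorem MF_add {k : ℤ} {E E' : Matrix m n L'} (hE : D.MF k E) (hE' : D.MF k E') :
    D.MF k (E + E') := fun i j => (D.F k).add_mem (hE i j) (hE' i j)

theorem MF_sub {k : ℤ} {E E' : Matrix m n L'} (hE : D.MF k E) (hE' : D.MF k E') :
    D.MF k (E - E') := fun i j => (D.F k).sub_mem (hE i j) (hE' i j)

theorem MF_neg {k : ℤ} {E : Matrix m n L'} (hE : D.MF k E) : D.MF k (-E) :=
  fun i j => (D.F k).neg_mem (hE i j)

theorem MF_mul {a b : ℤ} {E : Matrix m n L'} {E' : Matrix n l L'} (hE : D.MF a E)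
    (hE' : D.MF b E') : D.MF (a + b) (E * E') := by
  intro i j
  rw [Matrix.mul_apply]
  exact (D.F (a + b)).sum_mem fun x _ => D.F_mul (hE i x) (hE' x j)

theorem MF_one [DecidableEq n] : D.MF 0 (1 : Matrix n n L') := by
  intro i j
  rw [Matrix.one_apply]
  split_ifs
  · exact D.one_mem_F
  · exact (D.F 0).zero_mem

theorem exists_MF_pole (E : Matrix m n L') : ∃ c : ℕ, D.MF (-(c : ℤ)) E := by
  choose c hc using fun ij : m × n => D.exists_pole (E ij.1 ij.2)
  refine ⟨Finset.univ.sup c, fun i j => ?_⟩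
  refine D.F_mono ?_ (hc (i, j))
  have : c (i, j) ≤ Finset.univ.sup c := Finset.le_sup (Finset.mem_univ _)
  omega

theorem exists_MF_approx (E : Matrix m n L') (k : ℕ) :
    ∃ Y : Matrix m n L, D.MF (k : ℤ) (E - Y.map (algebraMap L L')) := by
  choose y hy using fun ij : m × n => D.exists_approx (E ij.1 ij.2) k
  exact ⟨Matrix.of fun i j => y (i, j), fun i j => hy (i, j)⟩

variable [DecidableEq n]

theorem det_one_add_of_MF {E : Matrix n n L'} (hE : D.MF 1 E) :
    ∃ o ∈ D.O, (1 + E).det = 1 + (D.τ : L') * o := by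
  choose e he using fun ij : n × n => D.exists_of_mem_F_one (hE ij.1 ij.2)
  let E₀ : Matrix n n D.O := Matrix.of fun i j => ⟨e (i, j), (he (i, j)).1⟩
  let τ₀ : D.O := ⟨D.τ, D.τ_mem⟩
  have hE₀ : E = (τ₀ • E₀).map D.O.subtype := by
    ext i j
    simp only [Matrix.map_apply, Matrix.smul_apply, smul_eq_mul, map_mul, E₀, τ₀,
      Matrix.of_apply, Subring.coe_subtype]
    exact (he (i, j)).2
  have hdet := Matrix.det_one_add_smul τ₀ E₀
  have h1 : (1 + E).det = D.O.subtype ((1 + τ₀ • E₀).det) := by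
    rw [RingHom.map_det, RingHom.mapMatrix_apply, Matrix.map_add _ (by simp), hE₀]
    congr 2
    ext i j
    simp only [Matrix.map_apply, Matrix.one_apply, Subring.coe_subtype]
    split_ifs <;> simp
  rw [h1, hdet]
  refine ⟨_, (E₀.trace + Polynomial.eval τ₀ (Polynomial.divX (Polynomial.divX
    (1 + (Polynomial.X : Polynomial D.O) • E₀.map Polynomial.C).det)) * τ₀).2, ?_⟩
  simp only [map_add, map_one, map_mul, map_pow, Subring.coe_subtype, τ₀]
  push_cast
  ring

/-- A square matrix over `L` congruent to `1` modulo `τ O` is invertible. -/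
theorem isUnit_of_MF (X : Matrix n n L) (hX : D.MF 1 (X.map (algebraMap L L') - 1)) :
    IsUnit X := by
  rw [Matrix.isUnit_iff_isUnit_det]
  apply D.unit_crit
  obtain ⟨o, ho, h⟩ := D.det_one_add_of_MF hX
  refine ⟨o, ho, ?_⟩
  rw [RingHom.map_det, RingHom.mapMatrix_apply, ← h]
  congr 1
  abel

/-- A square matrix over `L'` congruent to `1` modulo `τ O` is invertible. -/
theorem isUnit_of_MF' (Z : Matrix n n L') (hZ : D.MF 1 (Z - 1)) : IsUnit Z := by
  rw [Matrix.isUnit_iff_isUnit_det]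
  obtain ⟨o, ho, h⟩ := D.det_one_add_of_MF hZ
  have : Z.det = 1 + (D.τ : L') * o := by
    rw [← h]; congr 1; abel
  rw [this]
  exact D.unit_O o ho

end Mat

end ApproxData

section RingLemmas

variable {A : Type*} [Ring A]

theorem ring_normalize (P P' U0 V0 : A) (h1 : U0 * V0 = P) (h2 : V0 * U0 = P')
    (hP : P * P = P) (hP' : P' * P' = P') :
    (P * U0) * (P' * V0) = P ∧ (P' * V0) * (P * U0) = P' ∧ P * (P * U0) = P * U0 ∧
      (P * U0) * P' = P * U0 ∧ P' * (P' * V0) = P' * V0 ∧ (P' * V0) * P = P' * V0 := by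
  have e1 : U0 * P' = P * U0 := by rw [← h1, ← h2, mul_assoc]
  have e2 : V0 * P = P' * V0 := by rw [← h1, ← h2, mul_assoc]
  refine ⟨?_, ?_, ?_, ?_, ?_, ?_⟩
  · calc P * U0 * (P' * V0) = P * (U0 * P') * V0 := by simp only [mul_assoc]
      _ = P * (P * U0) * V0 := by rw [e1]
      _ = P * P * (U0 * V0) := by simp only [mul_assoc]
      _ = P := by rw [h1, hP, hP]
  · calc P' * V0 * (P * U0) = P' * (V0 * P) * U0 := by simp only [mul_assoc]
      _ = P' * (P' * V0) * U0 := by rw [e2]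
      _ = P' * P' * (V0 * U0) := by simp only [mul_assoc]
      _ = P' := by rw [h2, hP', hP']
  · rw [← mul_assoc, hP]
  · calc P * U0 * P' = P * (U0 * P') := by rw [mul_assoc]
      _ = P * (P * U0) := by rw [e1]
      _ = P * U0 := by rw [← mul_assoc, hP]
  · rw [← mul_assoc, hP']
  · calc P' * V0 * P = P' * (V0 * P) := by rw [mul_assoc]
      _ = P' * (P' * V0) := by rw [e2]
      _ = P' * V0 := by rw [← mul_assoc, hP']

theorem ring_cancel (p p' U₁ V₁ X X' Xi Xi' : A) (hp : p * p = p) (hp' : p' * p' = p')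
    (h1 : p * U₁ = U₁) (h2 : U₁ * p' = U₁) (h3 : p' * V₁ = V₁) (h4 : V₁ * p = V₁)
    (hX : X = 1 + U₁ * V₁ - p) (hX' : X' = 1 + V₁ * U₁ - p')
    (hXi : X * Xi = 1) (hiX : Xi * X = 1) (hXi' : X' * Xi' = 1) :
    U₁ * (V₁ * Xi) = p ∧ (V₁ * Xi) * U₁ = p' := by
  have pX : p * X = U₁ * V₁ := by
    rw [hX, mul_sub, mul_add, mul_one, ← mul_assoc, h1, hp]; abel
  have pX' : p' * X' = V₁ * U₁ := by
    rw [hX', mul_sub, mul_add, mul_one, ← mul_assoc, h3, hp']; abel
  have XU : X * U₁ = U₁ * X' := by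
    rw [hX, hX', sub_mul, add_mul, one_mul, h1, mul_sub, mul_add, mul_one, h2, mul_assoc]
  have XiU : Xi * U₁ = U₁ * Xi' := by
    calc Xi * U₁ = Xi * U₁ * (X' * Xi') := by rw [hXi', mul_one]
      _ = Xi * (U₁ * X') * Xi' := by simp only [mul_assoc]
      _ = Xi * (X * U₁) * Xi' := by rw [XU]
      _ = (Xi * X) * U₁ * Xi' := by simp only [mul_assoc]
      _ = U₁ * Xi' := by rw [hiX, one_mul]
  constructor
  · rw [← mul_assoc, ← pX, mul_assoc, hXi, mul_one]
  · rw [mul_assoc, XiU, ← mul_assoc, ← pX', mul_assoc, hXi', mul_one]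

theorem ring_expand (U V d d' P : A) (h : U * V = P) :
    (U + d) * (V + d') - P = U * d' + d * V + d * d' := by
  rw [← h, add_mul, mul_add, mul_add]; abel

end RingLemmas

namespace ApproxData

variable {L L' : Type u} [CommRing L] [CommRing L'] [Algebra L L'] (D : ApproxData L L')

section Cancel

variable {n : Type*} [Fintype n] [DecidableEq n]

include D in
theorem mvn_descend (p p' : Matrix n n L) (hp : p * p = p) (hp' : p' * p' = p')
    (h : MvN (p.map (algebraMap L L')) (p'.map (algebraMap L L'))) : MvN p p' := by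
  set j := algebraMap L L' with hj
  set P := p.map j with hPdef
  set P' := p'.map j with hP'def
  have hP : P * P = P := by rw [hPdef, ← Matrix.map_mul, hp]
  have hP' : P' * P' = P' := by rw [hP'def, ← Matrix.map_mul, hp']
  obtain ⟨U0, V0, hUV0, hVU0⟩ := h
  obtain ⟨hUV, hVU, hPU, hUP', hP'V, hVP⟩ := ring_normalize P P' U0 V0 hUV0 hVU0 hP hP'
  set U := P * U0 with hU
  set V := P' * V0 with hV
  -- pole bounds
  obtain ⟨c1, hc1⟩ := D.exists_MF_pole P
  obtain ⟨c2, hc2⟩ := D.exists_MF_pole P'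
  obtain ⟨c3, hc3⟩ := D.exists_MF_pole U
  obtain ⟨c4, hc4⟩ := D.exists_MF_pole V
  set c : ℕ := c1 + c2 + c3 + c4 with hc
  have bP : D.MF (-(c : ℤ)) P := D.MF_mono (by rw [hc]; push_cast; omega) hc1
  have bP' : D.MF (-(c : ℤ)) P' := D.MF_mono (by rw [hc]; push_cast; omega) hc2
  have bU : D.MF (-(c : ℤ)) U := D.MF_mono (by rw [hc]; push_cast; omega) hc3
  have bV : D.MF (-(c : ℤ)) V := D.MF_mono (by rw [hc]; push_cast; omega) hc4
  -- approximations
  obtain ⟨Y, hY⟩ := D.exists_MF_approx U (3 * c + 1)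
  obtain ⟨Y', hY'⟩ := D.exists_MF_approx V (3 * c + 1)
  set U₁ := p * Y * p' with hU₁
  set V₁ := p' * Y' * p with hV₁
  set d := P * (Y.map j - U) * P' with hd
  set d' := P' * (Y'.map j - V) * P with hd'
  have hU₁j : U₁.map j = U + d := by
    rw [hU₁, Matrix.map_mul, Matrix.map_mul, hd, mul_sub, sub_mul, hPU, hUP']
    abel
  have hV₁j : V₁.map j = V + d' := by
    rw [hV₁, Matrix.map_mul, Matrix.map_mul, hd', mul_sub, sub_mul, hP'V, hVP]
    abel
  have bd : D.MF ((c : ℤ) + 1) d := by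
    have h1 : D.MF ((3 * c + 1 : ℕ) : ℤ) (Y.map j - U) := by
      have := D.MF_neg hY
      rwa [neg_sub] at this
    exact D.MF_mono (by push_cast; omega) (D.MF_mul (D.MF_mul bP h1) bP')
  have bd' : D.MF ((c : ℤ) + 1) d' := by
    have h1 : D.MF ((3 * c + 1 : ℕ) : ℤ) (Y'.map j - V) := by
      have := D.MF_neg hY'
      rwa [neg_sub] at this
    exact D.MF_mono (by push_cast; omega) (D.MF_mul (D.MF_mul bP' h1) bP)
  -- the error terms
  set X := 1 + U₁ * V₁ - p with hX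
  set X' := 1 + V₁ * U₁ - p' with hX'
  have hXj : X.map j - 1 = U * d' + d * V + d * d' := by
    have : X.map j - 1 = (U + d) * (V + d') - P := by
      rw [hX, Matrix.map_sub, Matrix.map_add, Matrix.map_mul, hU₁j, hV₁j, Matrix.map_one]
      · abel
      · exact map_zero _
      · exact map_one _
      · exact fun a b => map_add _ a b
      · exact fun a b => map_sub _ a b
    rw [this, ring_expand U V d d' P hUV]
  have hX'j : X'.map j - 1 = V * d + d' * U + d' * d := by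
    have : X'.map j - 1 = (V + d') * (U + d) - P' := by
      rw [hX', Matrix.map_sub, Matrix.map_add, Matrix.map_mul, hU₁j, hV₁j, Matrix.map_one]
      · abel
      · exact map_zero _
      · exact map_one _
      · exact fun a b => map_add _ a b
      · exact fun a b => map_sub _ a b
    rw [this, ring_expand V U d' d P' hVU]
  have uX : IsUnit X := by
    apply D.isUnit_of_MF
    rw [hXj]
    refine D.MF_add (D.MF_add ?_ ?_) ?_
    · exact D.MF_mono (by omega) (D.MF_mul bU bd')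
    · exact D.MF_mono (by omega) (D.MF_mul bd bV)
    · exact D.MF_mono (by omega) (D.MF_mul bd bd')
  have uX' : IsUnit X' := by
    apply D.isUnit_of_MF
    rw [hX'j]
    refine D.MF_add (D.MF_add ?_ ?_) ?_
    · exact D.MF_mono (by omega) (D.MF_mul bV bd)
    · exact D.MF_mono (by omega) (D.MF_mul bd' bU)
    · exact D.MF_mono (by omega) (D.MF_mul bd' bd)
  obtain ⟨⟨_, Xi, hXi, hiX⟩, rfl⟩ := uX
  obtain ⟨⟨_, Xi', hXi', hiX'⟩, rfl⟩ := uX'
  have h1 : p * U₁ = U₁ := by rw [hU₁, ← mul_assoc, ← mul_assoc, hp]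
  have h2 : U₁ * p' = U₁ := by rw [hU₁, mul_assoc, hp']
  have h3 : p' * V₁ = V₁ := by rw [hV₁, ← mul_assoc, ← mul_assoc, hp']
  have h4 : V₁ * p = V₁ := by rw [hV₁, mul_assoc, hp]
  obtain ⟨r1, r2⟩ := ring_cancel p p' U₁ V₁ _ _ Xi Xi' hp hp' h1 h2 h3 h4 hX hX' hXi hiX hXi'
  exact ⟨U₁, V₁ * Xi, r1, r2⟩

end Cancel

section Modules

include D in
/-- (b): finitely generated projective `L`-modules isomorphic over `L'` are isomorphic. -/
theorem cancel (M N : Type u) [AddCommGroup M] [Module L M] [Module.Finite L M]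
    [Module.Projective L M] [AddCommGroup N] [Module L N] [Module.Finite L N]
    [Module.Projective L N] (h : Nonempty (L' ⊗[L] M ≃ₗ[L'] L' ⊗[L] N)) :
    Nonempty (M ≃ₗ[L] N) := by
  obtain ⟨E⟩ := h
  obtain ⟨n₁, hn₁⟩ := exists_pres L M
  obtain ⟨n₂, hn₂⟩ := exists_pres L N
  obtain ⟨f₁, g₁, h₁⟩ := hn₁ (max n₁ n₂) (le_max_left _ _)
  obtain ⟨f₂, g₂, h₂⟩ := hn₂ (max n₁ n₂) (le_max_right _ _)
  set p := LinearMap.toMatrix' (g₁ ∘ₗ f₁) with hp
  set p' := LinearMap.toMatrix' (g₂ ∘ₗ f₂) with hp'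
  have hpI : p * p = p := toMatrix'_idem f₁ g₁ h₁
  have hpI' : p' * p' = p' := toMatrix'_idem f₂ g₂ h₂
  have hL' : MvN (p.map (algebraMap L L')) (p'.map (algebraMap L L')) :=
    exists_matrices_lin f₁ g₁ h₁ f₂ g₂ h₂ E
  obtain ⟨u, v, huv, hvu⟩ := D.mvn_descend p p' hpI hpI' hL'
  exact equiv_of_mvn f₁ g₁ h₁ f₂ g₂ h₂ (Matrix.toLin' u) (Matrix.toLin' v)
    (by rw [← Matrix.toLin'_mul, huv, hp, Matrix.toLin'_toMatrix'])
    (by rw [← Matrix.toLin'_mul, hvu, hp', Matrix.toLin'_toMatrix'])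

end Modules

end ApproxData

section RingLemmas2

variable {A : Type*} [Ring A]

theorem ring_conj (f g Z Zi : A) (hZ : Z * Zi = 1) (hiZ : Zi * Z = 1)
    (h1 : f * (Z * g) = Z * g) (h2 : g * (Zi * f) = Zi * f) :
    (Zi * f) * (Z * g) = g ∧ (Z * g) * (Zi * f) = f := by
  constructor
  · rw [mul_assoc, h1, ← mul_assoc, hiZ, one_mul]
  · rw [mul_assoc, h2, ← mul_assoc, hZ, one_mul]

end RingLemmas2

namespace ApproxData

variable {L L' : Type u} [CommRing L] [CommRing L'] [Algebra L L'] (D : ApproxData L L')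

section Extend

include D in
/-- Matrix form of (c): a split surjection `P : L'^m → L'^n` (with section `Q`) can be
approximated by a split surjection over `L` whose kernel idempotent is equivalent, over `L'`,
to that of `P`. -/
theorem exists_split_approx {n m : ℕ} (P : Matrix (Fin n) (Fin m) L') (Q : Matrix (Fin m) (Fin n) L')
    (hPQ : P * Q = 1) :
    ∃ (P₁ : Matrix (Fin n) (Fin m) L) (Q₂ : Matrix (Fin m) (Fin n) L), P₁ * Q₂ = 1 ∧
      MvN ((1 - Q₂ * P₁).map (algebraMap L L')) (1 - Q * P) := by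
  set j := algebraMap L L' with hj
  obtain ⟨c1, hc1⟩ := D.exists_MF_pole P
  obtain ⟨c2, hc2⟩ := D.exists_MF_pole Q
  set c : ℕ := c1 + c2 with hc
  have bP : D.MF (-(c : ℤ)) P := D.MF_mono (by rw [hc]; push_cast; omega) hc1
  have bQ : D.MF (-(c : ℤ)) Q := D.MF_mono (by rw [hc]; push_cast; omega) hc2
  obtain ⟨P₁, hP₁⟩ := D.exists_MF_approx P (c + 1)
  obtain ⟨Q₁, hQ₁⟩ := D.exists_MF_approx Q (c + 1)
  set b := P₁.map j - P with hb
  set a := Q₁.map j - Q with ha
  have bb : D.MF ((c : ℤ) + 1) b := by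
    have := D.MF_neg hP₁
    rw [neg_sub] at this
    exact D.MF_mono (by push_cast; omega) this
  have ba : D.MF ((c : ℤ) + 1) a := by
    have := D.MF_neg hQ₁
    rw [neg_sub] at this
    exact D.MF_mono (by push_cast; omega) this
  have hP₁j : P₁.map j = P + b := by rw [hb]; abel
  have hQ₁j : Q₁.map j = Q + a := by rw [ha]; abel
  set X := P₁ * Q₁ with hX
  have hXj : X.map j - 1 = P * a + b * Q + b * a := by
    rw [hX, Matrix.map_mul, hP₁j, hQ₁j, ← hPQ, Matrix.add_mul, Matrix.mul_add, Matrix.mul_add]; abel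
  have uX : IsUnit X := by
    apply D.isUnit_of_MF
    rw [hXj]
    refine D.MF_add (D.MF_add ?_ ?_) ?_
    · exact D.MF_mono (by omega) (D.MF_mul bP ba)
    · exact D.MF_mono (by omega) (D.MF_mul bb bQ)
    · exact D.MF_mono (by omega) (D.MF_mul bb ba)
  obtain ⟨⟨_, Xi, hXi, hiX⟩, rfl⟩ := uX
  set Q₂ := Q₁ * Xi with hQ₂
  have hPQ₂ : P₁ * Q₂ = 1 := by rw [hQ₂, ← Matrix.mul_assoc]; exact hXi
  set Z : Matrix (Fin m) (Fin m) L' := 1 + Q * b with hZ
  have uZ : IsUnit Z := by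
    apply D.isUnit_of_MF'
    have : Z - 1 = Q * b := by rw [hZ]; abel
    rw [this]
    exact D.MF_mono (by omega) (D.MF_mul bQ bb)
  obtain ⟨⟨_, Zi, hZi, hiZ⟩, rfl⟩ := uZ
  have hPZ : P * Z = P₁.map j := by
    rw [hZ, Matrix.mul_add, Matrix.mul_one, ← Matrix.mul_assoc, hPQ, Matrix.one_mul, hP₁j]
  refine ⟨P₁, Q₂, hPQ₂, ?_⟩
  set g := (1 - Q₂ * P₁).map j with hg
  set f := 1 - Q * P with hf
  have hg' : g = 1 - Q₂.map j * P₁.map j := by
    rw [hg, Matrix.map_sub (f := j) (fun a b => map_sub _ a b), Matrix.map_mul,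
      Matrix.map_one j (map_zero _) (map_one _)]
  have hP₁g : P₁.map j * g = 0 := by
    rw [hg', Matrix.mul_sub, Matrix.mul_one, ← Matrix.mul_assoc, ← Matrix.map_mul, hPQ₂,
      Matrix.map_one j (map_zero _) (map_one _), Matrix.one_mul, sub_self]
  have hPf : P * f = 0 := by
    rw [hf, Matrix.mul_sub, Matrix.mul_one, ← Matrix.mul_assoc, hPQ, Matrix.one_mul, sub_self]
  have h1 : f * (Z * g) = Z * g := by
    rw [hf, Matrix.sub_mul, Matrix.one_mul, Matrix.mul_assoc Q P, ← Matrix.mul_assoc P Z g, hPZ, hP₁g,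
      Matrix.mul_zero, sub_zero]
  have hP₁Zi : P₁.map j * Zi = P := by
    rw [← hPZ, Matrix.mul_assoc, hZi, Matrix.mul_one]
  have h2 : g * (Zi * f) = Zi * f := by
    rw [hg', Matrix.sub_mul, Matrix.one_mul, Matrix.mul_assoc (Q₂.map j),
      ← Matrix.mul_assoc (P₁.map j) Zi f, hP₁Zi, hPf, Matrix.mul_zero, sub_zero]
  obtain ⟨r1, r2⟩ := ring_conj f g Z Zi hZi hiZ h1 h2
  exact ⟨Zi * f, Z * g, r1, r2⟩

include D in
/-- (c): every stably free `L'`-module is extended from a stably free `L`-module. -/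
theorem extend (M' : Type u) [AddCommGroup M'] [Module L' M'] (n m : ℕ)
    (φ : (M' × (Fin n → L')) ≃ₗ[L'] (Fin m → L')) :
    ∃ (M : Type u) (_ : AddCommGroup M) (_ : Module L M), Module.Finite L M ∧
      (∃ n m : ℕ, Nonempty ((M × (Fin n → L)) ≃ₗ[L] (Fin m → L))) ∧
      Nonempty (L' ⊗[L] M ≃ₗ[L'] M') := by
  classical
  -- the split surjection
  let π : (Fin m → L') →ₗ[L'] (Fin n → L') := LinearMap.snd L' M' (Fin n → L') ∘ₗ φ.symm.toLinearMap
  let σ : (Fin n → L') →ₗ[L'] (Fin m → L') := φ.toLinearMap ∘ₗ LinearMap.inr L' M' (Fin n → L')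
  let F : (Fin m → L') →ₗ[L'] M' := LinearMap.fst L' M' (Fin n → L') ∘ₗ φ.symm.toLinearMap
  let G : M' →ₗ[L'] (Fin m → L') := φ.toLinearMap ∘ₗ LinearMap.inl L' M' (Fin n → L')
  have hπσ : π ∘ₗ σ = LinearMap.id := by
    refine LinearMap.ext fun x => ?_
    simp [π, σ]
  have hFG : F ∘ₗ G = LinearMap.id := by
    refine LinearMap.ext fun x => ?_
    simp [F, G]
  have hsum : G ∘ₗ F + σ ∘ₗ π = LinearMap.id := by
    refine LinearMap.ext fun x => ?_
    simp only [G, F, σ, π, LinearMap.add_apply, LinearMap.comp_apply, LinearEquiv.coe_coe,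
      LinearMap.fst_apply, LinearMap.snd_apply, LinearMap.inl_apply, LinearMap.inr_apply,
      LinearMap.id_apply, ← map_add, Prod.mk_add_mk, add_zero, zero_add]
    exact φ.apply_symm_apply x
  set P := LinearMap.toMatrix' π with hP
  set Q := LinearMap.toMatrix' σ with hQ
  have hPQ : P * Q = 1 := by
    rw [hP, hQ, ← LinearMap.toMatrix'_comp, hπσ, LinearMap.toMatrix'_id]
  have hGF : LinearMap.toMatrix' (G ∘ₗ F) = 1 - Q * P := by
    rw [hP, hQ, ← LinearMap.toMatrix'_comp, eq_sub_iff_add_eq, ← map_add, hsum,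
      LinearMap.toMatrix'_id]
  obtain ⟨P₁, Q₂, hPQ₂, u, v, huv, hvu⟩ := D.exists_split_approx P Q hPQ
  set g : Matrix (Fin m) (Fin m) L := 1 - Q₂ * P₁ with hg
  have hgg : g * g = g := by
    rw [hg, Matrix.mul_sub, Matrix.mul_one, Matrix.sub_mul, Matrix.one_mul, Matrix.mul_assoc Q₂ P₁,
      ← Matrix.mul_assoc P₁ Q₂ P₁, hPQ₂, Matrix.one_mul, sub_self, sub_zero]
  have hP₁g : P₁ * g = 0 := by
    rw [hg, Matrix.mul_sub, Matrix.mul_one, ← Matrix.mul_assoc, hPQ₂, Matrix.one_mul, sub_self]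
  have hgQ₂ : g * Q₂ = 0 := by
    rw [hg, Matrix.sub_mul, Matrix.one_mul, Matrix.mul_assoc, hPQ₂, Matrix.mul_one, sub_self]
  let M := LinearMap.range (Matrix.toLin' g)
  let f₁ : (Fin m → L) →ₗ[L] M := (Matrix.toLin' g).rangeRestrict
  let g₁ : M →ₗ[L] (Fin m → L) := M.subtype
  have hf₁val : ∀ x, ((f₁ x : M) : Fin m → L) = Matrix.toLin' g x := fun x => rfl
  have hg₁f₁ : g₁ ∘ₗ f₁ = Matrix.toLin' g := LinearMap.ext fun x => rfl
  have hggx : ∀ x, Matrix.toLin' g (Matrix.toLin' g x) = Matrix.toLin' g x := by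
    intro x
    rw [← LinearMap.comp_apply, ← Matrix.toLin'_mul, hgg]
  have hf₁g₁ : f₁ ∘ₗ g₁ = LinearMap.id := by
    refine LinearMap.ext fun w => ?_
    obtain ⟨y, x, rfl⟩ := w
    apply Subtype.ext
    simp only [LinearMap.comp_apply, LinearMap.id_apply, g₁, Submodule.subtype_apply]
    rw [hf₁val, hggx]
  refine ⟨M, inferInstance, inferInstance, Module.Finite.range _, ⟨n, m, ⟨?_⟩⟩, ?_⟩
  · refine LinearEquiv.ofLinear (g₁.coprod (Matrix.toLin' Q₂)) (f₁.prod (Matrix.toLin' P₁)) ?_ ?_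
    · -- on L^m
      refine LinearMap.ext fun x => ?_
      change Matrix.toLin' g x + Matrix.toLin' Q₂ (Matrix.toLin' P₁ x) = x
      rw [← LinearMap.comp_apply (Matrix.toLin' Q₂), ← Matrix.toLin'_mul, ← LinearMap.add_apply,
        ← map_add, hg, sub_add_cancel, Matrix.toLin'_one, LinearMap.id_apply]
    · -- on M × L^n
      refine LinearMap.ext fun w => ?_
      obtain ⟨⟨y, x, rfl⟩, z⟩ := w
      have e1 : Matrix.toLin' P₁ (Matrix.toLin' g x) = 0 := by
        rw [← LinearMap.comp_apply, ← Matrix.toLin'_mul, hP₁g]; simp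
      have e2 : Matrix.toLin' P₁ (Matrix.toLin' Q₂ z) = z := by
        rw [← LinearMap.comp_apply, ← Matrix.toLin'_mul, hPQ₂]; simp
      have e3 : f₁ (Matrix.toLin' Q₂ z) = 0 := by
        apply Subtype.ext
        rw [hf₁val, ← LinearMap.comp_apply, ← Matrix.toLin'_mul, hgQ₂]; simp
      have e4 : f₁ (Matrix.toLin' g x) = (⟨Matrix.toLin' g x, ⟨x, rfl⟩⟩ : M) := by
        apply Subtype.ext
        rw [hf₁val, hggx]
      refine Prod.ext ?_ ?_
      · change f₁ (Matrix.toLin' g x + Matrix.toLin' Q₂ z) = _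
        rw [map_add, e3, e4, add_zero]
        rfl
      · change Matrix.toLin' P₁ (Matrix.toLin' g x + Matrix.toLin' Q₂ z) = z
        rw [map_add, e1, e2, zero_add]
  · -- the base change
    have hmat : LinearMap.toMatrix' (g₁ ∘ₗ f₁) = g := by rw [hg₁f₁, LinearMap.toMatrix'_toLin']
    refine equiv_of_mvn (bcP L' f₁) (bcC L' g₁) (bcP_comp_bcC f₁ g₁ hf₁g₁) F G hFG
      (Matrix.toLin' u) (Matrix.toLin' v) ?_ ?_
    · rw [← Matrix.toLin'_mul, huv, bcC_comp_bcP, hmat]
    · rw [← Matrix.toLin'_mul, hvu, ← hGF, Matrix.toLin'_toMatrix']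

end Extend

end ApproxData

end Groth.Agent.Lib.R2H7.ApproxPatch
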