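/-
Structure of the `A_r` algebra `k[[x,y]]/(y^2 - x^(r+1))`: it is `k[[t]][Y]/(Y^2 - t^(r+1))`, free of
rank two over `k[[x]]`.
-/
import Mathlib
import Groth.Prelude.Def_W4c1arstab1appArSing
import Groth.Agent.Lib.Helper19PsLiftComplete
import Groth.Agent.Lib.Helper18ComplProd

set_option autoImplicit false
universe u

namespace Groth.Agent.Lib.R2H7.ArSingStruct

open IsLocalRing

section model

variable (k : Type u) [Field k] (r : ℕ)

/-- The polynomial `Y^2 - t^(r+1)` over `k[[t]]`. -/
noncomputable def pol : Polynomial (PowerSeries k) :=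
  Polynomial.X ^ 2 - Polynomial.C (PowerSeries.X ^ (r + 1))

theorem pol_monic : (pol k r).Monic := Polynomial.monic_X_pow_sub_C _ two_ne_zero

theorem pol_natDegree : (pol k r).natDegree = 2 := Polynomial.natDegree_X_pow_sub_C

theorem pol_degree : (pol k r).degree = 2 := by
  rw [Polynomial.degree_eq_natDegree (pol_monic k r).ne_zero, pol_natDegree]
  rfl

theorem root_sq : (AdjoinRoot.root (pol k r)) ^ 2 =
    AdjoinRoot.of (pol k r) (PowerSeries.X ^ (r + 1)) := by
  have h : AdjoinRoot.mk (pol k r)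
      (Polynomial.X ^ 2 - Polynomial.C (PowerSeries.X ^ (r + 1))) = 0 :=
    AdjoinRoot.mk_self (f := pol k r)
  rw [map_sub, map_pow, AdjoinRoot.mk_X, AdjoinRoot.mk_C, sub_eq_zero] at h
  exact h

theorem exists_rep (s : AdjoinRoot (pol k r)) : ∃ a b : PowerSeries k,
    s = AdjoinRoot.of (pol k r) a + AdjoinRoot.of (pol k r) b * AdjoinRoot.root (pol k r) := by
  obtain ⟨f, rfl⟩ := AdjoinRoot.mk_surjective s
  have hne : pol k r ≠ 1 := by
    intro h
    have := pol_natDegree k r
    rw [h, Polynomial.natDegree_one] at this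
    omega
  have hdeg : (f %ₘ pol k r).natDegree ≤ 1 := by
    have := Polynomial.natDegree_modByMonic_lt f (pol_monic k r) hne
    rw [pol_natDegree] at this
    omega
  have h1 : AdjoinRoot.mk (pol k r) f = AdjoinRoot.mk (pol k r) (f %ₘ pol k r) := by
    rw [AdjoinRoot.mk_eq_mk]
    refine ⟨f /ₘ pol k r, ?_⟩
    have := Polynomial.modByMonic_add_div f (pol k r)
    rw [sub_eq_iff_eq_add, add_comm]
    exact this.symm
  refine ⟨(f %ₘ pol k r).coeff 0, (f %ₘ pol k r).coeff 1, ?_⟩
  rw [h1]
  conv_lhs => rw [Polynomial.eq_X_add_C_of_natDegree_le_one hdeg]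
  rw [map_add, map_mul, AdjoinRoot.mk_C, AdjoinRoot.mk_C, AdjoinRoot.mk_X, add_comm]

theorem rep_eq_zero {a b : PowerSeries k}
    (h : AdjoinRoot.of (pol k r) a + AdjoinRoot.of (pol k r) b * AdjoinRoot.root (pol k r) = 0) :
    a = 0 ∧ b = 0 := by
  have h1 : AdjoinRoot.mk (pol k r) (Polynomial.C a + Polynomial.C b * Polynomial.X) = 0 := by
    rw [map_add, map_mul, AdjoinRoot.mk_C, AdjoinRoot.mk_C, AdjoinRoot.mk_X]
    exact h
  rw [AdjoinRoot.mk_eq_zero] at h1
  have hlt : (Polynomial.C a + Polynomial.C b * Polynomial.X : Polynomial (PowerSeries k)).degree <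
      (pol k r).degree := by
    rw [pol_degree, add_comm]
    exact Polynomial.degree_linear_lt
  have h2 := Polynomial.eq_zero_of_dvd_of_degree_lt h1 hlt
  constructor
  · have := congrArg (fun q => Polynomial.coeff q 0) h2
    simpa using this
  · have := congrArg (fun q => Polynomial.coeff q 1) h2
    simpa using this

/-- The residue map `S → k`. -/
noncomputable def eps : AdjoinRoot (pol k r) →+* k :=
  AdjoinRoot.lift (PowerSeries.constantCoeff (R := k)) 0 (by
    rw [pol, Polynomial.eval₂_sub, Polynomial.eval₂_pow, Polynomial.eval₂_X, Polynomial.eval₂_C,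
      map_pow, PowerSeries.constantCoeff_X]
    simp)

theorem eps_of (a : PowerSeries k) :
    eps k r (AdjoinRoot.of (pol k r) a) = PowerSeries.constantCoeff a := by
  rw [eps, AdjoinRoot.lift_of]

theorem eps_root : eps k r (AdjoinRoot.root (pol k r)) = 0 := by
  rw [eps, AdjoinRoot.lift_root]

theorem isUnit_iff (s : AdjoinRoot (pol k r)) : IsUnit s ↔ eps k r s ≠ 0 := by
  constructor
  · intro h
    exact (h.map (eps k r)).ne_zero
  · intro h
    obtain ⟨a, b, rfl⟩ := exists_rep k r s
    rw [map_add, map_mul, eps_of, eps_root, mul_zero, add_zero] at h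
    have hN : IsUnit (a ^ 2 - b ^ 2 * PowerSeries.X ^ (r + 1)) := by
      rw [PowerSeries.isUnit_iff_constantCoeff, map_sub, map_mul, map_pow, map_pow, map_pow,
        PowerSeries.constantCoeff_X, zero_pow (Nat.succ_ne_zero r), mul_zero, sub_zero]
      exact (IsUnit.mk0 _ h).pow 2
    have hmul : (AdjoinRoot.of (pol k r) a + AdjoinRoot.of (pol k r) b * AdjoinRoot.root (pol k r)) *
        (AdjoinRoot.of (pol k r) a - AdjoinRoot.of (pol k r) b * AdjoinRoot.root (pol k r)) =
        AdjoinRoot.of (pol k r) (a ^ 2 - b ^ 2 * PowerSeries.X ^ (r + 1)) := by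
      rw [map_sub, map_mul, map_pow, map_pow, ← root_sq]
      ring
    have h3 : IsUnit ((AdjoinRoot.of (pol k r) a + AdjoinRoot.of (pol k r) b *
        AdjoinRoot.root (pol k r)) *
        (AdjoinRoot.of (pol k r) a - AdjoinRoot.of (pol k r) b * AdjoinRoot.root (pol k r))) := by
      rw [hmul]
      exact hN.map _
    exact isUnit_of_mul_isUnit_left h3

instance nontrivial_S : Nontrivial (AdjoinRoot (pol k r)) := (eps k r).domain_nontrivial

instance isLocalRing_S : IsLocalRing (AdjoinRoot (pol k r)) := by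
  apply IsLocalRing.of_isUnit_or_isUnit_one_sub_self
  intro s
  by_cases h : eps k r s = 0
  · right
    rw [isUnit_iff, map_sub, map_one, h, sub_zero]
    exact one_ne_zero
  · left
    exact (isUnit_iff k r s).mpr h

theorem mem_maximalIdeal_S (s : AdjoinRoot (pol k r)) :
    s ∈ maximalIdeal (AdjoinRoot (pol k r)) ↔ eps k r s = 0 := by
  rw [mem_maximalIdeal, mem_nonunits_iff, isUnit_iff, not_not]

theorem isAdicComplete_field' : IsAdicComplete (maximalIdeal k) k := by
  rw [IsLocalRing.maximalIdeal_eq_bot]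
  infer_instance

theorem isAdicComplete_ps : IsAdicComplete (maximalIdeal (PowerSeries k)) (PowerSeries k) := by
  have := isAdicComplete_field' k
  exact Groth.Agent.Lib.Helper19.isAdicComplete_mvPowerSeries (Λ := k) (σ := Unit)

instance finite_S : Module.Finite (PowerSeries k) (AdjoinRoot (pol k r)) :=
  (pol_monic k r).finite_adjoinRoot

instance free_S : Module.Free (PowerSeries k) (AdjoinRoot (pol k r)) :=
  (pol_monic k r).free_adjoinRoot

theorem isAdicComplete_S :
    IsAdicComplete (maximalIdeal (AdjoinRoot (pol k r))) (AdjoinRoot (pol k r)) := by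
  have := isAdicComplete_ps k
  exact (Groth.Agent.Lib.Helper18ComplProd.isAdicComplete_of_finite (PowerSeries k)
    (AdjoinRoot (pol k r))).2

theorem of_X_mem : AdjoinRoot.of (pol k r) PowerSeries.X ∈ maximalIdeal (AdjoinRoot (pol k r)) := by
  rw [mem_maximalIdeal_S, eps_of, PowerSeries.constantCoeff_X]

theorem root_mem : AdjoinRoot.root (pol k r) ∈ maximalIdeal (AdjoinRoot (pol k r)) := by
  rw [mem_maximalIdeal_S, eps_root]

/-- The generators `t, Y` of the maximal ideal of `S`. -/
noncomputable def gens : Fin 2 → AdjoinRoot (pol k r) :=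
  ![AdjoinRoot.of (pol k r) PowerSeries.X, AdjoinRoot.root (pol k r)]

theorem gens_mem (i : Fin 2) : gens k r i ∈ maximalIdeal (AdjoinRoot (pol k r)) := by
  fin_cases i
  · exact of_X_mem k r
  · exact root_mem k r

theorem exists_alpha0 : ∃ φ : MvPowerSeries (Fin 2) k →ₐ[k] AdjoinRoot (pol k r),
    ∀ i, φ (MvPowerSeries.X i) = gens k r i := by
  have := isAdicComplete_S k r
  exact Groth.Agent.Lib.Helper19.exists_algHom_X_eq_of_isAdicComplete
    (maximalIdeal (AdjoinRoot (pol k r))) (gens k r) (gens_mem k r)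

/-- `k[[x,y]] → S`, `x ↦ t`, `y ↦ Y`. -/
noncomputable def alpha0 : MvPowerSeries (Fin 2) k →ₐ[k] AdjoinRoot (pol k r) :=
  (exists_alpha0 k r).choose

theorem alpha0_X0 : alpha0 k r (MvPowerSeries.X 0) = AdjoinRoot.of (pol k r) PowerSeries.X :=
  (exists_alpha0 k r).choose_spec 0

theorem alpha0_X1 : alpha0 k r (MvPowerSeries.X 1) = AdjoinRoot.root (pol k r) :=
  (exists_alpha0 k r).choose_spec 1

theorem alpha0_eqn : alpha0 k r (ArSing.eqn k r) = 0 := by
  rw [ArSing.eqn, map_sub, map_pow, map_pow, alpha0_X0, alpha0_X1, root_sq, map_pow, sub_self]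

/-- `A_r → S`. -/
noncomputable def alpha : ArSing.ring k r →ₐ[k] AdjoinRoot (pol k r) :=
  Ideal.Quotient.liftₐ (Ideal.span {ArSing.eqn k r}) (alpha0 k r) (by
    intro a ha
    have hle : Ideal.span {ArSing.eqn k r} ≤ RingHom.ker (alpha0 k r) := by
      rw [Ideal.span_le, Set.singleton_subset_iff]
      exact alpha0_eqn k r
    exact hle ha)

theorem alpha_mk (f : MvPowerSeries (Fin 2) k) :
    alpha k r (Ideal.Quotient.mk (Ideal.span {ArSing.eqn k r}) f) = alpha0 k r f := rfl

theorem alpha_x : alpha k r (ArSing.x k r) = AdjoinRoot.of (pol k r) PowerSeries.X :=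
  alpha0_X0 k r

theorem alpha_y : alpha k r (ArSing.y k r) = AdjoinRoot.root (pol k r) :=
  alpha0_X1 k r

theorem xMap_X : ArSing.xMap k r PowerSeries.X = ArSing.x k r := by
  rw [ArSing.xMap, AlgHom.comp_apply, PowerSeries.substAlgHom_X]
  rfl

theorem y_sq : ArSing.y k r ^ 2 = ArSing.x k r ^ (r + 1) := by
  have h : Ideal.Quotient.mk (Ideal.span {ArSing.eqn k r}) (ArSing.eqn k r) = 0 :=
    Ideal.Quotient.eq_zero_iff_mem.mpr (Ideal.mem_span_singleton_self _)
  rw [ArSing.eqn, map_sub, map_pow, map_pow, sub_eq_zero] at h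
  exact h

/-- `S → A_r`. -/
noncomputable def beta : AdjoinRoot (pol k r) →ₐ[k] ArSing.ring k r :=
  AdjoinRoot.liftAlgHom (pol k r) (ArSing.xMap k r) (ArSing.y k r) (by
    rw [pol, Polynomial.eval₂_sub, Polynomial.eval₂_pow, Polynomial.eval₂_X, Polynomial.eval₂_C]
    change ArSing.y k r ^ 2 - ArSing.xMap k r (PowerSeries.X ^ (r + 1)) = 0
    rw [map_pow, xMap_X, y_sq, sub_self])

theorem beta_of (a : PowerSeries k) :
    beta k r (AdjoinRoot.of (pol k r) a) = ArSing.xMap k r a := by
  rw [beta, AdjoinRoot.liftAlgHom_of]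

theorem beta_root : beta k r (AdjoinRoot.root (pol k r)) = ArSing.y k r := by
  rw [beta, AdjoinRoot.liftAlgHom_root]

instance nontrivial_ring : Nontrivial (ArSing.ring k r) :=
  (alpha k r).toRingHom.domain_nontrivial

instance isLocalRing_ring : IsLocalRing (ArSing.ring k r) :=
  IsLocalRing.of_surjective' (Ideal.Quotient.mk (Ideal.span {ArSing.eqn k r}))
    Ideal.Quotient.mk_surjective

theorem mem_maximalIdeal_of_alpha {a : ArSing.ring k r}
    (h : alpha k r a ∈ maximalIdeal (AdjoinRoot (pol k r))) : a ∈ maximalIdeal (ArSing.ring k r) := by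
  rw [mem_maximalIdeal, mem_nonunits_iff] at h ⊢
  intro hu
  exact h (hu.map (alpha k r))

theorem x_mem : ArSing.x k r ∈ maximalIdeal (ArSing.ring k r) :=
  mem_maximalIdeal_of_alpha k r (by rw [alpha_x]; exact of_X_mem k r)

theorem y_mem : ArSing.y k r ∈ maximalIdeal (ArSing.ring k r) :=
  mem_maximalIdeal_of_alpha k r (by rw [alpha_y]; exact root_mem k r)

/-- Uniqueness of `k`-algebra maps out of `k[[t]]` into `S`. -/
theorem ps_algHom_ext_S (φ₁ φ₂ : PowerSeries k →ₐ[k] AdjoinRoot (pol k r))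
    (h1 : φ₁ PowerSeries.X ∈ maximalIdeal (AdjoinRoot (pol k r)))
    (h : φ₁ PowerSeries.X = φ₂ PowerSeries.X) : φ₁ = φ₂ := by
  have : IsNoetherianRing (AdjoinRoot (pol k r)) := inferInstance
  exact Groth.Agent.Lib.Helper19.algHom_ext_of_X_of_isHausdorff (Λ := k) (σ := Unit)
    (maximalIdeal (AdjoinRoot (pol k r))) φ₁ φ₂ (fun _ => h1) (fun _ => h)

/-- Uniqueness of `k`-algebra maps out of `k[[t]]` into `A_r`. -/
theorem ps_algHom_ext_ring (φ₁ φ₂ : PowerSeries k →ₐ[k] ArSing.ring k r)
    (h1 : φ₁ PowerSeries.X ∈ maximalIdeal (ArSing.ring k r))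
    (h : φ₁ PowerSeries.X = φ₂ PowerSeries.X) : φ₁ = φ₂ := by
  have : IsNoetherianRing (ArSing.ring k r) := inferInstance
  exact Groth.Agent.Lib.Helper19.algHom_ext_of_X_of_isHausdorff (Λ := k) (σ := Unit)
    (maximalIdeal (ArSing.ring k r)) φ₁ φ₂ (fun _ => h1) (fun _ => h)

/-- Uniqueness of `k`-algebra maps out of `A_r` into `A_r'`. -/
theorem ring_algHom_ext (r' : ℕ) (φ₁ φ₂ : ArSing.ring k r →ₐ[k] ArSing.ring k r')
    (hx1 : φ₁ (ArSing.x k r) ∈ maximalIdeal (ArSing.ring k r'))
    (hy1 : φ₁ (ArSing.y k r) ∈ maximalIdeal (ArSing.ring k r'))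
    (hx : φ₁ (ArSing.x k r) = φ₂ (ArSing.x k r))
    (hy : φ₁ (ArSing.y k r) = φ₂ (ArSing.y k r)) : φ₁ = φ₂ := by
  have : IsNoetherianRing (ArSing.ring k r') := inferInstance
  apply Ideal.Quotient.algHom_ext
  apply Groth.Agent.Lib.Helper19.algHom_ext_of_X_of_isHausdorff (Λ := k) (σ := Fin 2)
    (maximalIdeal (ArSing.ring k r'))
  · intro i
    fin_cases i
    · exact hx1
    · exact hy1
  · intro i
    fin_cases i
    · exact hx
    · exact hy

theorem alpha_xMap (a : PowerSeries k) :
    alpha k r (ArSing.xMap k r a) = AdjoinRoot.of (pol k r) a := by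
  have h := ps_algHom_ext_S k r ((alpha k r).comp (ArSing.xMap k r))
    (IsScalarTower.toAlgHom k (PowerSeries k) (AdjoinRoot (pol k r)))
    (by rw [AlgHom.comp_apply, xMap_X, alpha_x]; exact of_X_mem k r)
    (by rw [AlgHom.comp_apply, xMap_X, alpha_x]; rfl)
  exact AlgHom.congr_fun h a

theorem alpha_beta (s : AdjoinRoot (pol k r)) : alpha k r (beta k r s) = s := by
  obtain ⟨a, b, rfl⟩ := exists_rep k r s
  rw [map_add, map_mul, beta_of, beta_of, beta_root, map_add, map_mul, alpha_xMap, alpha_xMap,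
    alpha_y]

theorem beta_alpha (a : ArSing.ring k r) : beta k r (alpha k r a) = a := by
  have h := ring_algHom_ext k r r ((beta k r).comp (alpha k r)) (AlgHom.id k _)
    (by rw [AlgHom.comp_apply, alpha_x, beta_of, xMap_X]; exact x_mem k r)
    (by rw [AlgHom.comp_apply, alpha_y, beta_root]; exact y_mem k r)
    (by rw [AlgHom.comp_apply, alpha_x, beta_of, xMap_X, AlgHom.id_apply])
    (by rw [AlgHom.comp_apply, alpha_y, beta_root, AlgHom.id_apply])
  exact AlgHom.congr_fun h a

/-- Every element of `A_r` is `a(x) + b(x) y`. -/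
theorem exists_rep_ring (c : ArSing.ring k r) : ∃ a b : PowerSeries k,
    c = ArSing.xMap k r a + ArSing.xMap k r b * ArSing.y k r := by
  obtain ⟨a, b, hab⟩ := exists_rep k r (alpha k r c)
  refine ⟨a, b, ?_⟩
  have := congrArg (beta k r) hab
  rw [beta_alpha, map_add, map_mul, beta_of, beta_of, beta_root] at this
  exact this

/-- The representation `a(x) + b(x) y` is unique. -/
theorem rep_ring_eq_zero {a b : PowerSeries k}
    (h : ArSing.xMap k r a + ArSing.xMap k r b * ArSing.y k r = 0) : a = 0 ∧ b = 0 := by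
  apply rep_eq_zero k r
  have := congrArg (alpha k r) h
  rw [map_add, map_mul, alpha_xMap, alpha_xMap, alpha_y, map_zero] at this
  exact this

theorem xMap_injective : Function.Injective (ArSing.xMap k r) := by
  rw [injective_iff_map_eq_zero]
  intro a ha
  have h : ArSing.xMap k r a + ArSing.xMap k r 0 * ArSing.y k r = 0 := by
    rw [ha, map_zero, zero_mul, add_zero]
  exact (rep_ring_eq_zero k r h).1

end model

end Groth.Agent.Lib.R2H7.ArSingStruct
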