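import Mathlib
import Groth.Prelude.Def_W4c2arithlefschetzNode
import Groth.Agent.Lib.Helper19PsRegular
import Groth.Agent.Lib.Helper5RLR
import Groth.Agent.Lib.Helper22NodeAlg

/-!
# The node algebra `B[[t,e]]/(te - π)` over a discrete valuation ring

`P = B[[x₀,x₁]]` is a regular local ring of dimension `3` with regular system of parameters
`x₀, x₁, π`; hence `N = P/(x₀x₁ - π)` is a domain in which `t` and `e` are non-associated prime
elements.  A ring automorphism `σ` of `N` with `σ π ∼ π` stabilizes or switches the branches.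
-/

set_option autoImplicit false
universe u

namespace Groth.Agent.Lib.R2H7.NodeAlgReg

open IsLocalRing MvPowerSeries Groth.Agent.Lib.Helper19 Groth.Agent.Lib.Helper5

variable {B : Type u} [CommRing B] [IsDomain B] [IsDiscreteValuationRing B]

instance : IsRegularLocalRing (MvPowerSeries (Fin 2) B) :=
  isRegularLocalRing_mvPowerSeries_of_isRegularLocalRing B 2

theorem X_mem (i : Fin 2) :
    (X i : MvPowerSeries (Fin 2) B) ∈ maximalIdeal (MvPowerSeries (Fin 2) B) := by
  rw [maximalIdeal_eq_coeffIdeal]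
  exact X_mem_coeffIdeal_one _ i

theorem C_mem {π : B} (hπ : Irreducible π) :
    (C π : MvPowerSeries (Fin 2) B) ∈ maximalIdeal (MvPowerSeries (Fin 2) B) := by
  rw [maximalIdeal_eq_coeffIdeal, mem_coeffIdeal_one, constantCoeff_C, mem_maximalIdeal,
    mem_nonunits_iff]
  exact hπ.not_isUnit

/-- The regular system of parameters `x₀, x₁, π` of `B[[x₀,x₁]]`. -/
noncomputable def gens {π : B} (hπ : Irreducible π) :
    Fin 3 → maximalIdeal (MvPowerSeries (Fin 2) B) :=
  ![⟨X 0, X_mem 0⟩, ⟨X 1, X_mem 1⟩, ⟨C π, C_mem hπ⟩]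

theorem range_gens {π : B} (hπ : Irreducible π) :
    (Set.range fun i => ((gens hπ i : maximalIdeal (MvPowerSeries (Fin 2) B)) :
      MvPowerSeries (Fin 2) B)) = {X 0, X 1, C π} := by
  ext g
  simp only [Set.mem_range, Set.mem_insert_iff, Set.mem_singleton_iff, gens]
  constructor
  · rintro ⟨i, rfl⟩
    fin_cases i <;> simp
  · rintro (rfl | rfl | rfl)
    · exact ⟨0, rfl⟩
    · exact ⟨1, rfl⟩
    · exact ⟨2, rfl⟩

theorem span_gens {π : B} (hπ : Irreducible π) :
    Ideal.span (Set.range fun i => ((gens hπ i : maximalIdeal (MvPowerSeries (Fin 2) B)) :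
      MvPowerSeries (Fin 2) B)) = maximalIdeal (MvPowerSeries (Fin 2) B) := by
  rw [range_gens]
  apply le_antisymm
  · rw [Ideal.span_le]
    rintro g (rfl | rfl | rfl)
    · exact X_mem 0
    · exact X_mem 1
    · exact C_mem hπ
  · intro g hg
    rw [maximalIdeal_eq_coeffIdeal, mem_coeffIdeal_one, hπ.maximalIdeal_eq,
      Ideal.mem_span_singleton'] at hg
    obtain ⟨b, hb⟩ := hg
    have h1 : g - C (constantCoeff g) ∈ varsIdeal (Fin 2) B ^ 1 := by
      apply mem_varsIdeal_pow_of_coeff_eq_zero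
      intro α hα
      have hα0 : α = 0 := by
        rw [Nat.lt_one_iff] at hα
        exact (Finsupp.degree_eq_zero_iff α).1 hα
      rw [hα0, map_sub, coeff_zero_eq_constantCoeff_apply, coeff_zero_eq_constantCoeff_apply,
        constantCoeff_C, sub_self]
    rw [pow_one] at h1
    have h2 : varsIdeal (Fin 2) B ≤
        Ideal.span ({X 0, X 1, C π} : Set (MvPowerSeries (Fin 2) B)) := by
      rw [Ideal.span_le]
      rintro _ ⟨i, rfl⟩
      apply Ideal.subset_span
      fin_cases i
      · simp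
      · simp
    have h3 : C (constantCoeff g) ∈
        Ideal.span ({X 0, X 1, C π} : Set (MvPowerSeries (Fin 2) B)) := by
      rw [← hb, map_mul]
      exact Ideal.mul_mem_left _ _ (Ideal.subset_span (by simp))
    have := Ideal.add_mem _ (h2 h1) h3
    rwa [sub_add_cancel] at this

theorem ringKrullDim_ps : ringKrullDim (MvPowerSeries (Fin 2) B) = (3 : ℕ) := by
  obtain ⟨π, hπ⟩ := IsDiscreteValuationRing.exists_irreducible B
  apply le_antisymm
  · rw [← IsRegularLocalRing.spanFinrank_maximalIdeal, ← span_gens hπ]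
    have h1 := Submodule.spanFinrank_span_le_ncard_of_finite
      (R := MvPowerSeries (Fin 2) B) (Set.finite_range fun i =>
        ((gens hπ i : maximalIdeal (MvPowerSeries (Fin 2) B)) : MvPowerSeries (Fin 2) B))
    have h2 : (Set.range fun i => ((gens hπ i : maximalIdeal (MvPowerSeries (Fin 2) B)) :
        MvPowerSeries (Fin 2) B)).ncard ≤ 3 := by
      have := Set.ncard_image_le (f := fun i => ((gens hπ i :
        maximalIdeal (MvPowerSeries (Fin 2) B)) : MvPowerSeries (Fin 2) B))
        (Set.finite_univ (α := Fin 3))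
      rw [Set.image_univ, Set.ncard_univ, Nat.card_fin] at this
      exact this
    exact_mod_cast h1.trans h2
  · have h1 := ringKrullDim_add_le_ringKrullDim_mvPowerSeries B 2
    rw [IsPrincipalIdealRing.ringKrullDim_eq_one B (IsDiscreteValuationRing.not_isField B)] at h1
    refine le_trans ?_ h1
    norm_num

theorem linearIndependent_gens {π : B} (hπ : Irreducible π) :
    LinearIndependent (ResidueField (MvPowerSeries (Fin 2) B))
      (fun i => (maximalIdeal (MvPowerSeries (Fin 2) B)).toCotangent (gens hπ i)) :=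
  linearIndependent_toCotangent_of_span_eq ringKrullDim_ps (gens hπ) (span_gens hπ)

section general

variable {R : Type u} [CommRing R] [IsLocalRing R] [IsNoetherianRing R]

theorem notMem_span_range_of_linearIndependent {n m : ℕ} (x : Fin n → maximalIdeal R)
    (hli : LinearIndependent (ResidueField R) (fun i => (maximalIdeal R).toCotangent (x i)))
    (j : Fin m → Fin n) (i : Fin n) (hi : i ∉ Set.range j) :
    ((x i : maximalIdeal R) : R) ∉
      Ideal.span (Set.range fun a => ((x (j a) : maximalIdeal R) : R)) := by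
  intro hmem
  have h1 := toCotangent_mem_cotV (x i) hmem
  rw [cotV_span_range (fun a => x (j a))] at h1
  have h2 : (Set.range fun a => (maximalIdeal R).toCotangent (x (j a))) =
      (fun i => (maximalIdeal R).toCotangent (x i)) '' (Set.range j) := by
    rw [← Set.range_comp]; rfl
  rw [h2] at h1
  exact hli.notMem_span_image hi h1

end general

/-- The ideal `(x₀, π)` of `B[[x₀,x₁]]`. -/
theorem range_gens_comp {π : B} (hπ : Irreducible π) (a b : Fin 3) :
    (Set.range fun c : Fin 2 => ((gens hπ (![a, b] c) : maximalIdeal (MvPowerSeries (Fin 2) B)) :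
      MvPowerSeries (Fin 2) B)) = {(gens hπ a : MvPowerSeries (Fin 2) B),
        (gens hπ b : MvPowerSeries (Fin 2) B)} := by
  ext g
  simp only [Set.mem_range, Set.mem_insert_iff, Set.mem_singleton_iff]
  constructor
  · rintro ⟨i, rfl⟩
    fin_cases i <;> simp
  · rintro (rfl | rfl)
    · exact ⟨0, rfl⟩
    · exact ⟨1, rfl⟩

theorem isPrime_span_pair {π : B} (hπ : Irreducible π) (a b : Fin 3) (hab : a ≠ b) :
    (Ideal.span {(gens hπ a : MvPowerSeries (Fin 2) B),
        (gens hπ b : MvPowerSeries (Fin 2) B)}).IsPrime := by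
  rw [← range_gens_comp hπ a b]
  apply isPrime_span_range_of_linearIndependent (fun c : Fin 2 => gens hπ (![a, b] c))
  have hinj : Function.Injective ![a, b] := by
    intro c d hcd
    fin_cases c <;> fin_cases d <;> simp_all
  exact (linearIndependent_gens hπ).comp _ hinj

theorem notMem_span_pair {π : B} (hπ : Irreducible π) (a b c : Fin 3) (hca : c ≠ a)
    (hcb : c ≠ b) :
    (gens hπ c : MvPowerSeries (Fin 2) B) ∉ Ideal.span {(gens hπ a : MvPowerSeries (Fin 2) B),
        (gens hπ b : MvPowerSeries (Fin 2) B)} := by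
  rw [← range_gens_comp hπ a b]
  apply notMem_span_range_of_linearIndependent (gens hπ) (linearIndependent_gens hπ) ![a, b] c
  rintro ⟨d, hd⟩
  fin_cases d
  · exact hca hd.symm
  · exact hcb hd.symm

theorem f_mem {π : B} (hπ : Irreducible π) :
    (X 0 * X 1 - C π : MvPowerSeries (Fin 2) B) ∈ maximalIdeal (MvPowerSeries (Fin 2) B) :=
  Ideal.sub_mem _ (Ideal.mul_mem_right _ _ (X_mem 0)) (C_mem hπ)

theorem toCotangent_f_ne_zero {π : B} (hπ : Irreducible π) :
    (maximalIdeal (MvPowerSeries (Fin 2) B)).toCotangent ⟨X 0 * X 1 - C π, f_mem hπ⟩ ≠ 0 := by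
  have h1 : (⟨X 0 * X 1 - C π, f_mem hπ⟩ : maximalIdeal (MvPowerSeries (Fin 2) B)) =
      ⟨X 0 * X 1, Ideal.mul_mem_right _ _ (X_mem 0)⟩ - gens hπ 2 := rfl
  rw [h1, map_sub]
  have h2 : (maximalIdeal (MvPowerSeries (Fin 2) B)).toCotangent
      ⟨X 0 * X 1, Ideal.mul_mem_right _ _ (X_mem 0)⟩ = 0 := by
    rw [Ideal.toCotangent_eq_zero, pow_two]
    exact Ideal.mul_mem_mul (X_mem 0) (X_mem 1)
  rw [h2, zero_sub, neg_ne_zero]
  exact (linearIndependent_gens hπ).ne_zero 2

theorem isPrime_span_f {π : B} (hπ : Irreducible π) :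
    (Ideal.span {(X 0 * X 1 - C π : MvPowerSeries (Fin 2) B)}).IsPrime := by
  have h := isPrime_span_range_of_linearIndependent
    (fun _ : Fin 1 => (⟨X 0 * X 1 - C π, f_mem hπ⟩ : maximalIdeal (MvPowerSeries (Fin 2) B)))
    (by
      rw [linearIndependent_unique_iff]
      exact toCotangent_f_ne_zero hπ)
  rwa [Set.range_const] at h

theorem isDomain_nodeAlg {π : B} (hπ : Irreducible π) : IsDomain (ArLef.NodeAlg B π) :=
  (Ideal.Quotient.isDomain_iff_prime _).mpr (isPrime_span_f hπ)

theorem f_mem_span_pair {π : B} (hπ : Irreducible π) (a : Fin 3) (ha : a = 0 ∨ a = 1) :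
    (X 0 * X 1 - C π : MvPowerSeries (Fin 2) B) ∈
      Ideal.span {(gens hπ a : MvPowerSeries (Fin 2) B),
        (gens hπ 2 : MvPowerSeries (Fin 2) B)} := by
  apply Ideal.sub_mem
  · rcases ha with rfl | rfl
    · exact Ideal.mul_mem_right _ _ (Ideal.subset_span (by simp [gens]))
    · exact Ideal.mul_mem_left _ _ (Ideal.subset_span (by simp [gens]))
  · exact Ideal.subset_span (by simp [gens])

/-- The image in the node algebra of the ideal `(x_a, π)` is `(x_a)`. -/
theorem map_span_pair {π : B} (hπ : Irreducible π) :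
    (Ideal.span {(gens hπ 0 : MvPowerSeries (Fin 2) B),
        (gens hπ 2 : MvPowerSeries (Fin 2) B)}).map
      (Ideal.Quotient.mk (Ideal.span {(X 0 * X 1 - C π : MvPowerSeries (Fin 2) B)})) =
      Ideal.span {ArLef.NodeAlg.t π} ∧
    (Ideal.span {(gens hπ 1 : MvPowerSeries (Fin 2) B),
        (gens hπ 2 : MvPowerSeries (Fin 2) B)}).map
      (Ideal.Quotient.mk (Ideal.span {(X 0 * X 1 - C π : MvPowerSeries (Fin 2) B)})) =
      Ideal.span {ArLef.NodeAlg.e π} := by
  have hte := Groth.Agent.Lib.Helper22.nodeAlg_t_mul_e π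
  have h1 : algebraMap B (ArLef.NodeAlg B π) π = Ideal.Quotient.mk _ (C π) := rfl
  rw [h1] at hte
  constructor
  · rw [Ideal.map_span, Set.image_pair]
    apply le_antisymm
    · rw [Ideal.span_le]
      rintro g (rfl | rfl)
      · exact Ideal.subset_span rfl
      · change Ideal.Quotient.mk _ (C π) ∈ _
        rw [← hte]
        exact Ideal.mul_mem_right _ _ (Ideal.subset_span rfl)
    · rw [Ideal.span_le]
      rintro g rfl
      exact Ideal.subset_span (by simp [gens])
  · rw [Ideal.map_span, Set.image_pair]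
    apply le_antisymm
    · rw [Ideal.span_le]
      rintro g (rfl | rfl)
      · exact Ideal.subset_span rfl
      · change Ideal.Quotient.mk _ (C π) ∈ _
        rw [← hte]
        exact Ideal.mul_mem_left _ _ (Ideal.subset_span rfl)
    · rw [Ideal.span_le]
      rintro g rfl
      exact Ideal.subset_span (by simp [gens])

theorem ker_le_span_pair {π : B} (hπ : Irreducible π) (a : Fin 3) (ha : a = 0 ∨ a = 1) :
    RingHom.ker (Ideal.Quotient.mk (Ideal.span {(X 0 * X 1 - C π : MvPowerSeries (Fin 2) B)})) ≤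
      Ideal.span {(gens hπ a : MvPowerSeries (Fin 2) B),
        (gens hπ 2 : MvPowerSeries (Fin 2) B)} := by
  rw [Ideal.mk_ker, Ideal.span_le]
  rintro g rfl
  exact f_mem_span_pair hπ a ha

theorem isPrime_span_t {π : B} (hπ : Irreducible π) :
    (Ideal.span {ArLef.NodeAlg.t π}).IsPrime := by
  rw [← (map_span_pair hπ).1]
  have := isPrime_span_pair hπ 0 2 (by decide)
  exact Ideal.map_isPrime_of_surjective Ideal.Quotient.mk_surjective
    (ker_le_span_pair hπ 0 (Or.inl rfl))

theorem isPrime_span_e {π : B} (hπ : Irreducible π) :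
    (Ideal.span {ArLef.NodeAlg.e π}).IsPrime := by
  rw [← (map_span_pair hπ).2]
  have := isPrime_span_pair hπ 1 2 (by decide)
  exact Ideal.map_isPrime_of_surjective Ideal.Quotient.mk_surjective
    (ker_le_span_pair hπ 1 (Or.inr rfl))

theorem e_notMem_span_t {π : B} (hπ : Irreducible π) :
    ArLef.NodeAlg.e π ∉ Ideal.span {ArLef.NodeAlg.t π} := by
  intro h
  rw [← (map_span_pair hπ).1] at h
  have h2 : (X 1 : MvPowerSeries (Fin 2) B) ∈ Ideal.comap
      (Ideal.Quotient.mk (Ideal.span {(X 0 * X 1 - C π : MvPowerSeries (Fin 2) B)}))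
      ((Ideal.span {(gens hπ 0 : MvPowerSeries (Fin 2) B),
        (gens hπ 2 : MvPowerSeries (Fin 2) B)}).map
      (Ideal.Quotient.mk (Ideal.span {(X 0 * X 1 - C π : MvPowerSeries (Fin 2) B)}))) := h
  rw [Ideal.comap_map_of_surjective _ Ideal.Quotient.mk_surjective, ← RingHom.ker_eq_comap_bot,
    sup_eq_left.mpr (ker_le_span_pair hπ 0 (Or.inl rfl))] at h2
  exact notMem_span_pair hπ 0 2 1 (by decide) (by decide) h2

theorem t_notMem_span_e {π : B} (hπ : Irreducible π) :
    ArLef.NodeAlg.t π ∉ Ideal.span {ArLef.NodeAlg.e π} := by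
  intro h
  rw [← (map_span_pair hπ).2] at h
  have h2 : (X 0 : MvPowerSeries (Fin 2) B) ∈ Ideal.comap
      (Ideal.Quotient.mk (Ideal.span {(X 0 * X 1 - C π : MvPowerSeries (Fin 2) B)}))
      ((Ideal.span {(gens hπ 1 : MvPowerSeries (Fin 2) B),
        (gens hπ 2 : MvPowerSeries (Fin 2) B)}).map
      (Ideal.Quotient.mk (Ideal.span {(X 0 * X 1 - C π : MvPowerSeries (Fin 2) B)}))) := h
  rw [Ideal.comap_map_of_surjective _ Ideal.Quotient.mk_surjective, ← RingHom.ker_eq_comap_bot,
    sup_eq_left.mpr (ker_le_span_pair hπ 1 (Or.inr rfl))] at h2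
  exact notMem_span_pair hπ 1 2 0 (by decide) (by decide) h2

theorem t_ne_zero {π : B} (hπ : Irreducible π) : ArLef.NodeAlg.t π ≠ 0 := by
  intro h
  apply t_notMem_span_e hπ
  rw [h]
  exact Ideal.zero_mem _

theorem e_ne_zero {π : B} (hπ : Irreducible π) : ArLef.NodeAlg.e π ≠ 0 := by
  intro h
  apply e_notMem_span_t hπ
  rw [h]
  exact Ideal.zero_mem _

theorem prime_t {π : B} (hπ : Irreducible π) : Prime (ArLef.NodeAlg.t π) :=
  (Ideal.span_singleton_prime (t_ne_zero hπ)).mp (isPrime_span_t hπ)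

theorem prime_e {π : B} (hπ : Irreducible π) : Prime (ArLef.NodeAlg.e π) :=
  (Ideal.span_singleton_prime (e_ne_zero hπ)).mp (isPrime_span_e hπ)

/-- In a domain, an automorphism preserving the ideal `(te)` for two non-associated primes
`t`, `e` either stabilizes or switches them up to units. -/
theorem stab_or_switch {N : Type u} [CommRing N] [IsDomain N] {t e : N} (ht : Prime t)
    (he : Prime e) (hte : ¬ t ∣ e) (het : ¬ e ∣ t) (σ : N ≃+* N)
    (hσ : Associated (σ (t * e)) (t * e)) :
    (∃ α β : Nˣ, σ t = (α : N) * t ∧ σ e = (β : N) * e) ∨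
      (∃ α β : Nˣ, σ t = (α : N) * e ∧ σ e = (β : N) * t) := by
  have hσt : Prime (σ t) := (MulEquiv.prime_iff σ).mpr ht
  have hσe : Prime (σ e) := (MulEquiv.prime_iff σ).mpr he
  have key : ∀ {x y : N}, Associated x y → ∃ α : Nˣ, x = (α : N) * y := by
    intro x y h
    obtain ⟨u, hu⟩ := h.symm
    exact ⟨u, by rw [← hu, mul_comm]⟩
  have hdt : σ t ∣ t * e := by
    rw [← hσ.dvd_iff_dvd_right, map_mul]
    exact dvd_mul_right _ _
  have hde : σ e ∣ t * e := by
    rw [← hσ.dvd_iff_dvd_right, map_mul]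
    exact dvd_mul_left _ _
  have h1 : Associated (σ t) t ∨ Associated (σ t) e :=
    (hσt.dvd_or_dvd hdt).imp (fun h => hσt.associated_of_dvd ht h)
      (fun h => hσt.associated_of_dvd he h)
  have h2 : Associated (σ e) t ∨ Associated (σ e) e :=
    (hσe.dvd_or_dvd hde).imp (fun h => hσe.associated_of_dvd ht h)
      (fun h => hσe.associated_of_dvd he h)
  rw [map_mul] at hσ
  rcases h1 with h1 | h1 <;> rcases h2 with h2 | h2
  · exfalso
    -- σt ~ t, σe ~ t : t * t ~ t * e
    have h3 : Associated (t * t) (t * e) := ((h1.mul_mul h2).symm).trans hσ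
    have h4 : Associated t e := Associated.of_mul_left h3 (Associated.refl t) ht.ne_zero
    exact hte h4.dvd
  · obtain ⟨α, hα⟩ := key h1
    obtain ⟨β, hβ⟩ := key h2
    exact Or.inl ⟨α, β, hα, hβ⟩
  · obtain ⟨α, hα⟩ := key h1
    obtain ⟨β, hβ⟩ := key h2
    exact Or.inr ⟨α, β, hα, hβ⟩
  · exfalso
    have h3 : Associated (e * e) (e * t) := by
      rw [mul_comm e t]
      exact ((h1.mul_mul h2).symm).trans hσ
    have h4 : Associated e t := Associated.of_mul_left h3 (Associated.refl e) he.ne_zero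
    exact het h4.dvd

theorem ringEquiv_stabilizes_or_switches (π : B) (hπ : Irreducible π)
    (σ : ArLef.NodeAlg B π ≃+* ArLef.NodeAlg B π)
    (hσ : Associated (σ (algebraMap B (ArLef.NodeAlg B π) π))
      (algebraMap B (ArLef.NodeAlg B π) π)) :
    (∃ α β : (ArLef.NodeAlg B π)ˣ, σ (ArLef.NodeAlg.t π) = (α : ArLef.NodeAlg B π) *
        ArLef.NodeAlg.t π ∧ σ (ArLef.NodeAlg.e π) = (β : ArLef.NodeAlg B π) * ArLef.NodeAlg.e π) ∨
      (∃ α β : (ArLef.NodeAlg B π)ˣ, σ (ArLef.NodeAlg.t π) = (α : ArLef.NodeAlg B π) *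
        ArLef.NodeAlg.e π ∧ σ (ArLef.NodeAlg.e π) = (β : ArLef.NodeAlg B π) *
        ArLef.NodeAlg.t π) := by
  have := isDomain_nodeAlg hπ
  rw [← Groth.Agent.Lib.Helper22.nodeAlg_t_mul_e π] at hσ
  refine stab_or_switch (prime_t hπ) (prime_e hπ) ?_ ?_ σ hσ
  · intro h
    exact e_notMem_span_t hπ (Ideal.mem_span_singleton.mpr h)
  · intro h
    exact t_notMem_span_e hπ (Ideal.mem_span_singleton.mpr h)

end Groth.Agent.Lib.R2H7.NodeAlgReg
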