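import Mathlib
import Groth.Prelude.Def_W4c2arithlefschetzNode
import Groth.Agent.Lib.R2H7NodeAlgReg

/-!
# Fixed-point ideals of automorphisms of the node algebra `B[[t,e]]/(te - π)`

A subring of a noetherian local ring which surjects onto the residue field and contains generators
of the maximal ideal is dense; hence the fixed-point ideal of an automorphism is generated by the
differences `σ x - x` for `x` in such a generating set.
-/

set_option autoImplicit false
universe u

namespace Groth.Agent.Lib.R2H7.NodeAlgFix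

open IsLocalRing MvPowerSeries Groth.Agent.Lib.Helper19 Groth.Agent.Lib.Helper5
  Groth.Agent.Lib.R2H7.NodeAlgReg

section general

variable {A : Type u} [CommRing A]

/-- The subring of elements `a` with `σ a - a ∈ J`. -/
def movedInto (σ : A →+* A) (J : Ideal A) : Subring A where
  carrier := {a | σ a - a ∈ J}
  mul_mem' := by
    intro a b ha hb
    show σ (a * b) - a * b ∈ J
    have : σ (a * b) - a * b = σ a * (σ b - b) + (σ a - a) * b := by
      rw [map_mul]; ring
    rw [this]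
    exact J.add_mem (J.mul_mem_left _ hb) (J.mul_mem_right _ ha)
  one_mem' := by
    show σ (1 : A) - 1 ∈ J
    simp
  add_mem' := by
    intro a b ha hb
    show σ (a + b) - (a + b) ∈ J
    have : σ (a + b) - (a + b) = (σ a - a) + (σ b - b) := by
      rw [map_add]; ring
    rw [this]
    exact J.add_mem ha hb
  zero_mem' := by
    show σ (0 : A) - 0 ∈ J
    simp
  neg_mem' := by
    intro a ha
    show σ (-a) - (-a) ∈ J
    have : σ (-a) - (-a) = -(σ a - a) := by
      rw [map_neg]; ring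
    rw [this]
    exact J.neg_mem ha

theorem mem_movedInto {σ : A →+* A} {J : Ideal A} {a : A} : a ∈ movedInto σ J ↔ σ a - a ∈ J :=
  Iff.rfl

variable [IsLocalRing A]

theorem map_mem_pow (σ : A →+* A) (hσ : ∀ x ∈ maximalIdeal A, σ x ∈ maximalIdeal A) (N : ℕ)
    {r : A} (hr : r ∈ maximalIdeal A ^ N) : σ r ∈ maximalIdeal A ^ N := by
  have h1 : maximalIdeal A ≤ (maximalIdeal A).comap σ := fun x hx => hσ x hx
  have h2 := Ideal.pow_right_mono h1 N
  exact Ideal.le_comap_pow _ N (h2 hr)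

/-- A subring surjecting onto the residue field and containing generators of `𝔪` is dense. -/
theorem exists_approx (S : Subring A) (hres : ∀ a : A, ∃ s ∈ S, a - s ∈ maximalIdeal A)
    (T : Set A) (hTS : T ⊆ S) (hT : Ideal.span T = maximalIdeal A) (N : ℕ) :
    ∀ a : A, ∃ s ∈ S, a - s ∈ maximalIdeal A ^ N := by
  induction N with
  | zero =>
    intro a
    exact ⟨0, S.zero_mem, by simp⟩
  | succ N ih =>
    have key : ∀ m ∈ Ideal.span T, ∃ s ∈ S, m - s ∈ maximalIdeal A ^ (N + 1) := by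
      intro m hm
      induction hm using Submodule.span_induction with
      | mem x hx => exact ⟨x, hTS hx, by simp⟩
      | zero => exact ⟨0, S.zero_mem, by simp⟩
      | add x y hx hy ihx ihy =>
        obtain ⟨s, hs, hs'⟩ := ihx
        obtain ⟨t, ht, ht'⟩ := ihy
        refine ⟨s + t, S.add_mem hs ht, ?_⟩
        have : x + y - (s + t) = (x - s) + (y - t) := by ring
        rw [this]
        exact Ideal.add_mem _ hs' ht'
      | smul a x hx ihx =>
        obtain ⟨s, hs, hs'⟩ := ihx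
        obtain ⟨t, ht, ht'⟩ := ih a
        refine ⟨t * s, S.mul_mem ht hs, ?_⟩
        have : a • x - t * s = (a - t) * x + t * (x - s) := by
          rw [smul_eq_mul]; ring
        rw [this]
        refine Ideal.add_mem _ ?_ (Ideal.mul_mem_left _ _ hs')
        rw [pow_succ]
        have hx' : x ∈ maximalIdeal A := hT ▸ hx
        exact Ideal.mul_mem_mul ht' hx'
    intro a
    obtain ⟨c, hcS, hc⟩ := hres a
    obtain ⟨s, hs, hs'⟩ := key _ (hT.symm ▸ hc)
    refine ⟨c + s, S.add_mem hcS hs, ?_⟩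
    have : a - (c + s) = (a - c) - s := by ring
    rw [this]
    exact hs'

/-- If `σ x - x ∈ J` for `x` in a set of representatives of the residue field and in a generating
set of the maximal ideal, then `σ a - a ∈ J` for all `a`. -/
theorem map_sub_mem_of_generators [IsNoetherianRing A] (σ : A →+* A)
    (hσ : ∀ x ∈ maximalIdeal A, σ x ∈ maximalIdeal A) (J : Ideal A)
    (hres : ∀ a : A, ∃ s : A, σ s - s ∈ J ∧ a - s ∈ maximalIdeal A)
    (T : Set A) (hTJ : ∀ x ∈ T, σ x - x ∈ J) (hT : Ideal.span T = maximalIdeal A) (a : A) :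
    σ a - a ∈ J := by
  have hmem : ∀ N, σ a - a ∈ J ⊔ maximalIdeal A ^ N := by
    intro N
    obtain ⟨t, ht, htr⟩ := exists_approx (movedInto σ J)
      (fun a => by
        obtain ⟨s, hs, hs'⟩ := hres a
        exact ⟨s, hs, hs'⟩) T hTJ hT N a
    have : σ a - a = (σ t - t) + (σ (a - t) - (a - t)) := by
      rw [map_sub]; ring
    rw [this]
    refine Ideal.add_mem _ (Ideal.mem_sup_left ht) (Ideal.mem_sup_right ?_)
    exact Ideal.sub_mem _ (map_mem_pow σ hσ N htr) htr
  have hbot := Ideal.iInf_pow_smul_eq_bot_of_isLocalRing (R := A) (M := A ⧸ J)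
    (maximalIdeal A) (maximalIdeal.isMaximal A).ne_top
  have hin : (Ideal.Quotient.mk J (σ a - a)) ∈
      (⨅ i : ℕ, maximalIdeal A ^ i • ⊤ : Submodule A (A ⧸ J)) := by
    rw [Submodule.mem_iInf]
    intro N
    obtain ⟨j, hj, r, hr, hjr⟩ := Submodule.mem_sup.mp (hmem N)
    rw [← hjr, map_add, Ideal.Quotient.eq_zero_iff_mem.mpr hj, zero_add]
    have : Ideal.Quotient.mk J r = r • (1 : A ⧸ J) := by
      rw [Algebra.smul_def, mul_one]
      rfl
    rw [this]
    exact Submodule.smul_mem_smul hr Submodule.mem_top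
  rw [hbot, Submodule.mem_bot] at hin
  exact Ideal.Quotient.eq_zero_iff_mem.mp hin

theorem ringEquiv_map_mem_maximalIdeal (σ : A ≃+* A) (x : A) (hx : x ∈ maximalIdeal A) :
    σ x ∈ maximalIdeal A := by
  rw [mem_maximalIdeal, mem_nonunits_iff] at hx ⊢
  intro h
  apply hx
  have := h.map σ.symm
  simpa using this

end general

section node

variable {B : Type u} [CommRing B] [IsDomain B] [IsDiscreteValuationRing B]

theorem isLocalRing_nodeAlg {π : B} (hπ : Irreducible π) : IsLocalRing (ArLef.NodeAlg B π) :=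
  isLocalRing_quotient (isPrime_span_f hπ).ne_top

theorem isNoetherianRing_nodeAlg (π : B) : IsNoetherianRing (ArLef.NodeAlg B π) :=
  inferInstance

theorem maximalIdeal_nodeAlg {π : B} (hπ : Irreducible π) [IsLocalRing (ArLef.NodeAlg B π)] :
    maximalIdeal (ArLef.NodeAlg B π) =
      Ideal.span {ArLef.NodeAlg.t π, ArLef.NodeAlg.e π} := by
  rw [maximalIdeal_quotient_eq_map, ← span_gens hπ, range_gens, Ideal.map_span]
  have hte := Groth.Agent.Lib.Helper22.nodeAlg_t_mul_e π
  have h1 : algebraMap B (ArLef.NodeAlg B π) π = Ideal.Quotient.mk _ (C π) := rfl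
  rw [h1] at hte
  apply le_antisymm
  · rw [Ideal.span_le]
    rintro g ⟨p, (rfl | rfl | rfl), rfl⟩
    · exact Ideal.subset_span (by simp)
    · exact Ideal.subset_span (by simp)
    · rw [← hte]
      exact Ideal.mul_mem_right _ _ (Ideal.subset_span (by simp))
  · rw [Ideal.span_le]
    rintro g (rfl | rfl)
    · exact Ideal.subset_span ⟨X 0, by simp, rfl⟩
    · exact Ideal.subset_span ⟨X 1, by simp, rfl⟩

theorem exists_sub_algebraMap_mem {π : B} [IsLocalRing (ArLef.NodeAlg B π)]
    (a : ArLef.NodeAlg B π) :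
    ∃ b : B, a - algebraMap B (ArLef.NodeAlg B π) b ∈ maximalIdeal (ArLef.NodeAlg B π) := by
  obtain ⟨p, rfl⟩ := Ideal.Quotient.mk_surjective a
  refine ⟨constantCoeff p, ?_⟩
  have h1 : algebraMap B (ArLef.NodeAlg B π) (constantCoeff p) =
      Ideal.Quotient.mk _ (C (constantCoeff p)) := rfl
  rw [h1, ← map_sub, mk_mem_maximalIdeal_quotient_iff, maximalIdeal_eq_coeffIdeal,
    mem_coeffIdeal_one, map_sub, constantCoeff_C, sub_self]
  exact Ideal.zero_mem _

/-- The fixed-point ideal of an automorphism of the node algebra is generated by the differences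
on `B`, `t` and `e`. -/
theorem map_sub_mem_nodeAlg {π : B} (hπ : Irreducible π)
    (σ : ArLef.NodeAlg B π ≃+* ArLef.NodeAlg B π) (J : Ideal (ArLef.NodeAlg B π))
    (hB : ∀ b : B, σ (algebraMap B (ArLef.NodeAlg B π) b) - algebraMap B (ArLef.NodeAlg B π) b ∈ J)
    (ht : σ (ArLef.NodeAlg.t π) - ArLef.NodeAlg.t π ∈ J)
    (he : σ (ArLef.NodeAlg.e π) - ArLef.NodeAlg.e π ∈ J) (a : ArLef.NodeAlg B π) :
    σ a - a ∈ J := by
  have := isLocalRing_nodeAlg hπ
  refine map_sub_mem_of_generators (σ : ArLef.NodeAlg B π →+* ArLef.NodeAlg B π)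
    (fun x hx => ringEquiv_map_mem_maximalIdeal σ x hx) J ?_
    {ArLef.NodeAlg.t π, ArLef.NodeAlg.e π} ?_ (maximalIdeal_nodeAlg hπ).symm a
  · intro a
    obtain ⟨b, hb⟩ := exists_sub_algebraMap_mem a
    exact ⟨_, hB b, hb⟩
  · rintro x (rfl | rfl)
    · exact ht
    · exact he

theorem fixIdeal_le_nodeAlg {π : B} (hπ : Irreducible π)
    (σ : ArLef.NodeAlg B π ≃+* ArLef.NodeAlg B π) (J : Ideal (ArLef.NodeAlg B π))
    (hB : ∀ b : B, σ (algebraMap B (ArLef.NodeAlg B π) b) - algebraMap B (ArLef.NodeAlg B π) b ∈ J)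
    (ht : σ (ArLef.NodeAlg.t π) - ArLef.NodeAlg.t π ∈ J)
    (he : σ (ArLef.NodeAlg.e π) - ArLef.NodeAlg.e π ∈ J) :
    ArLef.fixIdeal σ ≤ J := by
  unfold ArLef.fixIdeal
  rw [Ideal.span_le]
  rintro _ ⟨a, rfl⟩
  exact map_sub_mem_nodeAlg hπ σ J hB ht he a

theorem sub_mem_fixIdeal {A : Type u} [Ring A] (σ : A → A) (a : A) :
    σ a - a ∈ ArLef.fixIdeal σ :=
  Ideal.subset_span ⟨a, rfl⟩

end node

section stab

variable {B : Type u} [CommRing B] [IsDomain B] [IsDiscreteValuationRing B]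

theorem exists_unit_of_associated {N : Type u} [CommMonoid N] {x y : N} (h : Associated x y) :
    ∃ α : Nˣ, x = (α : N) * y := by
  obtain ⟨u, hu⟩ := h.symm
  exact ⟨u, by rw [← hu, mul_comm]⟩

theorem te_ne_zero {π : B} (hπ : Irreducible π) :
    ArLef.NodeAlg.t π * ArLef.NodeAlg.e π ≠ 0 := by
  have := isDomain_nodeAlg hπ
  exact mul_ne_zero (t_ne_zero hπ) (e_ne_zero hπ)

/-- S15317: a non-trivial `B`-automorphism stabilizing the branches has fixed-point ideal
`g (t, e)`. -/
theorem fixIdeal_stab (π : B) (hπ : Irreducible π)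
    (σ : ArLef.NodeAlg B π ≃ₐ[B] ArLef.NodeAlg B π) (hσ : σ ≠ AlgEquiv.refl)
    (ht : Associated (σ (ArLef.NodeAlg.t π)) (ArLef.NodeAlg.t π))
    (he : Associated (σ (ArLef.NodeAlg.e π)) (ArLef.NodeAlg.e π)) :
    ∃ g : ArLef.NodeAlg B π, g ≠ 0 ∧
      ArLef.fixIdeal σ = Ideal.span {g} * Ideal.span ({ArLef.NodeAlg.t π, ArLef.NodeAlg.e π} :
        Set (ArLef.NodeAlg B π)) := by
  have hdom := isDomain_nodeAlg hπ
  obtain ⟨α, hα⟩ := exists_unit_of_associated ht
  obtain ⟨β, hβ⟩ := exists_unit_of_associated he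
  have hte := Groth.Agent.Lib.Helper22.nodeAlg_t_mul_e π
  have h1 : σ (ArLef.NodeAlg.t π) * σ (ArLef.NodeAlg.e π) =
      ArLef.NodeAlg.t π * ArLef.NodeAlg.e π := by
    rw [← map_mul, hte, σ.commutes]
  have hαβ : (α : ArLef.NodeAlg B π) * β = 1 := by
    have h2 : ((α : ArLef.NodeAlg B π) * β) * (ArLef.NodeAlg.t π * ArLef.NodeAlg.e π) =
        1 * (ArLef.NodeAlg.t π * ArLef.NodeAlg.e π) := by
      have h3 := h1
      rw [hα, hβ] at h3
      linear_combination h3
    exact mul_right_cancel₀ (te_ne_zero hπ) h2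
  set g : ArLef.NodeAlg B π := (α : ArLef.NodeAlg B π) - 1 with hg
  have hβg : (β : ArLef.NodeAlg B π) - 1 = -(β : ArLef.NodeAlg B π) * g := by
    rw [hg]; linear_combination hαβ
  have hgβ : g = -(α : ArLef.NodeAlg B π) * ((β : ArLef.NodeAlg B π) - 1) := by
    rw [hg]; linear_combination hαβ
  have hσt : σ (ArLef.NodeAlg.t π) - ArLef.NodeAlg.t π = g * ArLef.NodeAlg.t π := by
    rw [hα, hg]; ring
  have hσe : σ (ArLef.NodeAlg.e π) - ArLef.NodeAlg.e π =
      ((β : ArLef.NodeAlg B π) - 1) * ArLef.NodeAlg.e π := by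
    rw [hβ]; ring
  have hJ : Ideal.span {g} * Ideal.span ({ArLef.NodeAlg.t π, ArLef.NodeAlg.e π} :
      Set (ArLef.NodeAlg B π)) = Ideal.span {g * ArLef.NodeAlg.t π, g * ArLef.NodeAlg.e π} := by
    rw [Ideal.span_mul_span', Set.singleton_mul, Set.image_pair]
  have hfix : ArLef.fixIdeal σ = Ideal.span {g * ArLef.NodeAlg.t π, g * ArLef.NodeAlg.e π} := by
    apply le_antisymm
    · apply fixIdeal_le_nodeAlg hπ (σ : ArLef.NodeAlg B π ≃+* ArLef.NodeAlg B π)
      · intro b
        have : (σ : ArLef.NodeAlg B π ≃+* ArLef.NodeAlg B π)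
            (algebraMap B (ArLef.NodeAlg B π) b) = algebraMap B (ArLef.NodeAlg B π) b :=
          σ.commutes b
        rw [this, sub_self]
        exact Ideal.zero_mem _
      · change σ (ArLef.NodeAlg.t π) - ArLef.NodeAlg.t π ∈ _
        rw [hσt]
        exact Ideal.subset_span (by simp)
      · change σ (ArLef.NodeAlg.e π) - ArLef.NodeAlg.e π ∈ _
        rw [hσe, hβg, mul_assoc]
        exact Ideal.mul_mem_left _ _ (Ideal.subset_span (by simp))
    · rw [Ideal.span_le]
      rintro x (rfl | rfl)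
      · rw [← hσt]
        exact sub_mem_fixIdeal _ _
      · rw [hgβ, mul_assoc, ← hσe]
        exact Ideal.mul_mem_left _ _ (sub_mem_fixIdeal _ _)
  refine ⟨g, ?_, ?_⟩
  · intro hg0
    apply hσ
    rw [hg0, zero_mul, zero_mul, Set.pair_eq_singleton, Ideal.span_singleton_eq_bot.mpr rfl] at hfix
    ext a
    have h2 : σ a - a ∈ ArLef.fixIdeal σ := sub_mem_fixIdeal _ _
    rw [hfix, Ideal.mem_bot, sub_eq_zero] at h2
    exact h2
  · rw [hJ, hfix]

end stab

end Groth.Agent.Lib.R2H7.NodeAlgFix
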