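import Mathlib
import Groth.Prelude.Def_W4c2arithlefschetzNode
import Groth.Agent.Lib.R2H7NodeAlgFix
import Groth.Agent.S15315

/-!
# Fixed-point ideal of an automorphism of `B[[t]]` over an automorphism of the base

For a discrete valuation ring `B` with uniformizer `π` and a ring automorphism `σ` of `B[[t]]` with
`σ π = π + γ π^j`, `σ b - b ∈ (π^j)`, the fixed-point ideal is `(σ t - t, π^j)`; if `π` does not divide
`f = σ t - t`, its colength is `j · length k[[t]]/(f mod π)`.
-/

set_option autoImplicit false
universe u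

namespace Groth.Agent.Lib.R2H7.PowerSeriesFix

open IsLocalRing PowerSeries Groth.Agent.Lib.R2H7.NodeAlgFix

section general

/-- Length of a quotient along a surjective ring homomorphism. -/
theorem length_quotient_comap_of_surjective {A K : Type u} [CommRing A] [CommRing K]
    (φ : A →+* K) (hφ : Function.Surjective φ) (J : Ideal K) :
    Module.length A (A ⧸ J.comap φ) = Module.length K (K ⧸ J) := by
  let _ := φ.toAlgebra
  have hsurj' : Function.Surjective (algebraMap A K) := hφ
  rw [← Module.length_eq_of_surjective (S := A) (R := K) (M := K ⧸ J) hsurj']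
  obtain ⟨ψ, hψ⟩ : ∃ ψ : A →ₗ[A] K ⧸ J, ∀ a, ψ a = Ideal.Quotient.mk J (φ a) :=
    ⟨(J.mkQ.restrictScalars A).comp (Algebra.linearMap A K), fun a => rfl⟩
  have hsurj : Function.Surjective ψ := by
    intro b
    obtain ⟨b, rfl⟩ := Ideal.Quotient.mk_surjective b
    obtain ⟨a, rfl⟩ := hφ b
    exact ⟨a, hψ a⟩
  have hker : LinearMap.ker ψ = J.comap φ := by
    ext a
    rw [LinearMap.mem_ker, hψ, Ideal.Quotient.eq_zero_iff_mem, Ideal.mem_comap]
  exact ((Submodule.quotEquivOfEq _ _ hker).symm.trans
    (LinearMap.quotKerEquivOfSurjective ψ hsurj)).length_eq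

/-- `length A/(a^i, b) = i · length A/(a, b)` when `a` is regular modulo `b`. -/
theorem length_quotient_span_pow_pair {A : Type u} [CommRing A] [IsNoetherianRing A] (a b : A)
    (ha : IsSMulRegular (A ⧸ Ideal.span ({b} : Set A)) a) (i : ℕ) :
    Module.length A (A ⧸ Ideal.span ({a ^ i, b} : Set A)) =
      (i : ℕ∞) * Module.length A (A ⧸ Ideal.span ({a, b} : Set A)) := by
  induction i with
  | zero =>
    have h1 : Ideal.span ({a ^ 0, b} : Set A) = ⊤ := by
      rw [pow_zero, Ideal.eq_top_iff_one]
      exact Ideal.subset_span (by simp)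
    rw [h1, Nat.cast_zero, zero_mul, Module.length_eq_zero_iff]
    exact Submodule.Quotient.subsingleton_iff.mpr (by simp)
  | succ i ih =>
    have h1 := Groth.Agent.S15315.result A a b (Ideal.span {a ^ i}) ha
    have h2 : Ideal.span {a} * Ideal.span {a ^ i} ⊔ Ideal.span {b} =
        Ideal.span ({a ^ (i + 1), b} : Set A) := by
      rw [Ideal.span_singleton_mul_span_singleton, ← pow_succ', ← Ideal.span_union]
      rfl
    have h3 : Ideal.span {a ^ i} ⊔ Ideal.span {b} = Ideal.span ({a ^ i, b} : Set A) := by
      rw [← Ideal.span_union]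
      rfl
    rw [h2, h3, ih] at h1
    rw [h1, Nat.cast_add, Nat.cast_one, add_mul, one_mul, add_comm]

end general

section ps

variable {B : Type u} [CommRing B] [IsDomain B] [IsDiscreteValuationRing B]

theorem X_mem_maximalIdeal : (X : PowerSeries B) ∈ maximalIdeal (PowerSeries B) := by
  rw [mem_maximalIdeal, mem_nonunits_iff, PowerSeries.isUnit_iff_constantCoeff, constantCoeff_X]
  exact not_isUnit_zero

theorem C_mem_maximalIdeal {π : B} (hπ : Irreducible π) :
    (C π : PowerSeries B) ∈ maximalIdeal (PowerSeries B) := by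
  rw [mem_maximalIdeal, mem_nonunits_iff, PowerSeries.isUnit_iff_constantCoeff, constantCoeff_C]
  exact hπ.not_isUnit

theorem maximalIdeal_eq {π : B} (hπ : Irreducible π) :
    maximalIdeal (PowerSeries B) = Ideal.span {(X : PowerSeries B), C π} := by
  apply le_antisymm
  · intro g hg
    rw [mem_maximalIdeal, mem_nonunits_iff, PowerSeries.isUnit_iff_constantCoeff] at hg
    have h1 : constantCoeff g ∈ maximalIdeal B := hg
    rw [hπ.maximalIdeal_eq, Ideal.mem_span_singleton'] at h1
    obtain ⟨b, hb⟩ := h1
    rw [PowerSeries.eq_X_mul_shift_add_const g, ← hb, map_mul]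
    exact Ideal.add_mem _ (Ideal.mul_mem_right _ _ (Ideal.subset_span (by simp)))
      (Ideal.mul_mem_left _ _ (Ideal.subset_span (by simp)))
  · rw [Ideal.span_le]
    rintro g (rfl | rfl)
    · exact X_mem_maximalIdeal
    · exact C_mem_maximalIdeal hπ

theorem sub_C_constantCoeff_mem (a : PowerSeries B) :
    a - C (constantCoeff a) ∈ maximalIdeal (PowerSeries B) := by
  rw [mem_maximalIdeal, mem_nonunits_iff, PowerSeries.isUnit_iff_constantCoeff, map_sub,
    constantCoeff_C, sub_self]
  exact not_isUnit_zero

/-- `(C π)` is the kernel of reduction of coefficients. -/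
theorem ker_map_residue {π : B} (hπ : Irreducible π) :
    RingHom.ker (PowerSeries.map (residue B)) = Ideal.span {(C π : PowerSeries B)} := by
  classical
  apply le_antisymm
  · intro g hg
    rw [RingHom.mem_ker] at hg
    have h1 : ∀ n, ∃ c : B, π * c = coeff n g := by
      intro n
      have h2 : residue B (coeff n g) = 0 := by
        rw [← PowerSeries.coeff_map, hg, map_zero]
      rw [residue_eq_zero_iff, hπ.maximalIdeal_eq, Ideal.mem_span_singleton'] at h2
      obtain ⟨c, hc⟩ := h2
      exact ⟨c, by rw [mul_comm]; exact hc⟩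
    choose c hc using h1
    rw [Ideal.mem_span_singleton']
    refine ⟨PowerSeries.mk c, ?_⟩
    ext n
    rw [mul_comm, PowerSeries.coeff_C_mul, PowerSeries.coeff_mk, hc]
  · rw [Ideal.span_le]
    rintro g rfl
    rw [SetLike.mem_coe, RingHom.mem_ker, PowerSeries.map_C]
    have : residue B π = 0 := by
      rw [residue_eq_zero_iff, hπ.maximalIdeal_eq]
      exact Ideal.mem_span_singleton_self π
    rw [this, map_zero]

theorem prime_C {π : B} (hπ : Irreducible π) : Prime (C π : PowerSeries B) := by
  have h1 : (Ideal.span {(C π : PowerSeries B)}).IsPrime := by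
    rw [← ker_map_residue hπ]
    exact RingHom.ker_isPrime _
  refine (Ideal.span_singleton_prime ?_).mp h1
  intro h0
  have := congrArg constantCoeff h0
  rw [constantCoeff_C, map_zero] at this
  exact hπ.ne_zero this

theorem isSMulRegular_C {π : B} (hπ : Irreducible π) (f : PowerSeries B)
    (hf : ¬ (C π : PowerSeries B) ∣ f) :
    IsSMulRegular (PowerSeries B ⧸ Ideal.span ({f} : Set (PowerSeries B))) (C π : PowerSeries B) := by
  have hp := prime_C hπ
  intro x y hxy
  obtain ⟨a, rfl⟩ := Ideal.Quotient.mk_surjective x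
  obtain ⟨b, rfl⟩ := Ideal.Quotient.mk_surjective y
  have h2 : Ideal.Quotient.mk (Ideal.span {f}) (C π * a) =
      Ideal.Quotient.mk (Ideal.span {f}) (C π * b) := hxy
  rw [Ideal.Quotient.eq, ← mul_sub, Ideal.mem_span_singleton] at h2
  rw [Ideal.Quotient.eq, Ideal.mem_span_singleton]
  obtain ⟨y, hy⟩ := h2
  have h3 : (C π : PowerSeries B) ∣ f * y := ⟨a - b, hy.symm⟩
  rcases hp.dvd_or_dvd h3 with h4 | h4
  · exact absurd h4 hf
  · obtain ⟨y', rfl⟩ := h4
    refine ⟨y', ?_⟩
    have h5 : C π * (a - b) = C π * (f * y') := by rw [hy]; ring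
    exact mul_left_cancel₀ hp.ne_zero h5

end ps

section main

variable {B : Type u} [CommRing B] [IsDomain B] [IsDiscreteValuationRing B]

theorem comap_span_map_residue {π : B} (hπ : Irreducible π) (f : PowerSeries B) :
    (Ideal.span {PowerSeries.map (residue B) f}).comap (PowerSeries.map (residue B)) =
      Ideal.span {(C π : PowerSeries B), f} := by
  have h1 : Ideal.span {PowerSeries.map (residue B) f} =
      (Ideal.span {f}).map (PowerSeries.map (residue B)) := by
    rw [Ideal.map_span, Set.image_singleton]
  rw [h1, Ideal.comap_map_of_surjective _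
    (PowerSeries.map_surjective _ IsLocalRing.residue_surjective), ← RingHom.ker_eq_comap_bot,
    ker_map_residue hπ, sup_comm, ← Ideal.span_union]
  rfl

/-- S15321. -/
theorem length_quot_fixIdeal_powerSeries (π : B) (hπ : Irreducible π) (j : ℕ) (γ : B)
    (hγ : IsUnit γ) (σ : PowerSeries B ≃+* PowerSeries B)
    (hσB : ∀ b : B, σ (algebraMap B (PowerSeries B) b) - algebraMap B (PowerSeries B) b ∈
      Ideal.span ({algebraMap B (PowerSeries B) (π ^ j)} : Set (PowerSeries B)))
    (hσπ : σ (algebraMap B (PowerSeries B) π) = algebraMap B (PowerSeries B) (π + γ * π ^ j))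
    (h0 : ¬ (algebraMap B (PowerSeries B) π ∣ σ PowerSeries.X - PowerSeries.X)) :
    Module.length (PowerSeries B) (PowerSeries B ⧸ ArLef.fixIdeal σ) =
      (j : ℕ∞) * Module.length (PowerSeries (ResidueField B)) (PowerSeries (ResidueField B) ⧸
        Ideal.span ({PowerSeries.map (residue B) (σ PowerSeries.X - PowerSeries.X)} :
          Set (PowerSeries (ResidueField B)))) := by
  have halg : ∀ b : B, algebraMap B (PowerSeries B) b = C b := fun b => rfl
  simp only [halg] at hσB hσπ h0
  generalize hf : σ PowerSeries.X - PowerSeries.X = f at *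
  have hσπ' : σ (C π) - C π = C γ * (C π : PowerSeries B) ^ j := by
    rw [hσπ, map_add, map_mul, map_pow]; ring
  have hγu : IsUnit (C γ : PowerSeries B) := hγ.map _
  have hfix : ArLef.fixIdeal σ = Ideal.span {(C π : PowerSeries B) ^ j, f} := by
    have hπj_mem : (C π : PowerSeries B) ^ j ∈ Ideal.span {(C π : PowerSeries B) ^ j, f} :=
      Ideal.subset_span (by simp)
    have hf_mem : f ∈ Ideal.span {(C π : PowerSeries B) ^ j, f} := Ideal.subset_span (by simp)
    apply le_antisymm
    · unfold ArLef.fixIdeal
      rw [Ideal.span_le]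
      rintro _ ⟨a, rfl⟩
      refine map_sub_mem_of_generators (σ : PowerSeries B →+* PowerSeries B)
        (fun x hx => ringEquiv_map_mem_maximalIdeal σ x hx) _ ?_
        {(X : PowerSeries B), C π} ?_ (maximalIdeal_eq hπ).symm a
      · intro a
        refine ⟨C (constantCoeff a), ?_, sub_C_constantCoeff_mem a⟩
        refine ((Ideal.span_singleton_le_iff_mem _).mpr ?_) (hσB (constantCoeff a))
        rw [map_pow]
        exact hπj_mem
      · rintro x (rfl | rfl)
        · change σ X - X ∈ _
          rw [hf]
          exact hf_mem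
        · change σ (C π) - C π ∈ _
          rw [hσπ']
          exact Ideal.mul_mem_left _ _ hπj_mem
    · rw [Ideal.span_le]
      rintro x (rfl | rfl)
      · have h1 : C γ * (C π : PowerSeries B) ^ j ∈ ArLef.fixIdeal σ := by
          rw [← hσπ']
          exact sub_mem_fixIdeal _ _
        exact (Ideal.unit_mul_mem_iff_mem _ hγu).mp h1
      · rw [← hf]
        exact sub_mem_fixIdeal _ _
  rw [hfix, length_quotient_span_pow_pair (C π) f (isSMulRegular_C hπ f h0) j,
    ← length_quotient_comap_of_surjective (PowerSeries.map (residue B))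
      (PowerSeries.map_surjective _ IsLocalRing.residue_surjective),
    comap_span_map_residue hπ]

end main

end Groth.Agent.Lib.R2H7.PowerSeriesFix
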