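/-
The involution `x ↦ x, y ↦ -y` of `A_r = k[[x,y]]/(y^2 - x^(r+1))`: invariants, flatness over them,
fixed locus.
-/
import Mathlib
import Groth.Agent.Lib.R2H7ArSingStruct
import Groth.Agent.Lib.H9NodeKer
import Groth.Agent.Lib.R2H7PowerSeriesFix
import Groth.Agent.Lib.Helper19PsDim
import Groth.Agent.Lib.Helper5HilbertRLR

set_option autoImplicit false
universe u

namespace Groth.Agent.Lib.R2H7.ArSingStruct

open IsLocalRing

section general

variable (k : Type u) [Field k] (r : ℕ)

/-- `k[[x]] → A_r` is flat. -/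
theorem xMap_flat : (ArSing.xMap k r).toRingHom.Flat := by
  let _ : Algebra (PowerSeries k) (ArSing.ring k r) := (ArSing.xMap k r).toRingHom.toAlgebra
  change Module.Flat (PowerSeries k) (ArSing.ring k r)
  let e : AdjoinRoot (pol k r) ≃ₗ[PowerSeries k] ArSing.ring k r :=
    { toFun := beta k r
      invFun := alpha k r
      map_add' := fun a b => map_add _ a b
      map_smul' := by
        intro a s
        change beta k r (a • s) = ArSing.xMap k r a * beta k r s
        rw [Algebra.smul_def, map_mul, AdjoinRoot.algebraMap_eq, beta_of]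
      left_inv := alpha_beta k r
      right_inv := beta_alpha k r }
  exact Module.Flat.of_linearEquiv e.symm

theorem xMap_mem_maximalIdeal {a : PowerSeries k} (ha : a ∈ maximalIdeal (PowerSeries k)) :
    ArSing.xMap k r a ∈ maximalIdeal (ArSing.ring k r) := by
  rw [mem_maximalIdeal, mem_nonunits_iff, PowerSeries.isUnit_iff_constantCoeff] at ha
  have h0 : PowerSeries.constantCoeff a = 0 := by
    by_contra h
    exact ha (IsUnit.mk0 _ h)
  obtain ⟨b, rfl⟩ := PowerSeries.X_dvd_iff.mpr h0
  rw [map_mul, xMap_X]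
  exact Ideal.mul_mem_right _ _ (x_mem k r)

theorem map_xMap_ne_top :
    Ideal.map (ArSing.xMap k r) (maximalIdeal (PowerSeries k)) ≠ ⊤ := by
  intro h
  have hle : Ideal.map (ArSing.xMap k r) (maximalIdeal (PowerSeries k)) ≤
      maximalIdeal (ArSing.ring k r) := by
    rw [Ideal.map_le_iff_le_comap]
    intro a ha
    exact xMap_mem_maximalIdeal k r ha
  rw [h] at hle
  exact (Ideal.IsMaximal.ne_top inferInstance) (top_le_iff.mp hle)

theorem y_mem_nonZeroDivisors : ArSing.y k r ∈ nonZeroDivisors (ArSing.ring k r) := by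
  rw [mem_nonZeroDivisors_iff_right]
  intro z hz
  obtain ⟨a, b, rfl⟩ := exists_rep_ring k r z
  have h1 : ArSing.xMap k r (b * PowerSeries.X ^ (r + 1)) + ArSing.xMap k r a * ArSing.y k r = 0 := by
    rw [← hz, map_mul, map_pow, xMap_X, ← y_sq]
    ring
  obtain ⟨h2, h3⟩ := rep_ring_eq_zero k r h1
  have hb : b = 0 := (mul_eq_zero.mp h2).resolve_right (pow_ne_zero _ PowerSeries.X_ne_zero)
  rw [h3, hb, map_zero, zero_mul, add_zero]

open Groth.Agent.Lib.H9NodeKer in
theorem X0_regular : IsSMulRegular (MvPowerSeries (Fin 2) k ⧸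
    Ideal.span ({MvPowerSeries.X 1} : Set (MvPowerSeries (Fin 2) k)))
    (MvPowerSeries.X 0 : MvPowerSeries (Fin 2) k) := by
  intro u v huv
  obtain ⟨a, rfl⟩ := Ideal.Quotient.mk_surjective u
  obtain ⟨b, rfl⟩ := Ideal.Quotient.mk_surjective v
  have h2 : Ideal.Quotient.mk (Ideal.span {MvPowerSeries.X 1}) (MvPowerSeries.X 0 * a) =
      Ideal.Quotient.mk (Ideal.span {MvPowerSeries.X 1}) (MvPowerSeries.X 0 * b) := huv
  rw [Ideal.Quotient.eq, ← mul_sub, Ideal.mem_span_singleton, MvPowerSeries.X_dvd_iff] at h2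
  rw [Ideal.Quotient.eq, Ideal.mem_span_singleton, MvPowerSeries.X_dvd_iff]
  intro m hm
  rw [eq_e m, hm]
  have h3 := h2 (e (m 0 + 1) 0) (e_one _ _)
  rw [coeff_X0_mul_succ] at h3
  exact h3

theorem length_quotient_y :
    Module.length (ArSing.ring k r) (ArSing.ring k r ⧸ Ideal.span {ArSing.y k r}) = r + 1 := by
  have hcomap : (Ideal.span {ArSing.y k r}).comap
      (Ideal.Quotient.mk (Ideal.span {ArSing.eqn k r})) =
      Ideal.span ({MvPowerSeries.X 0 ^ (r + 1), MvPowerSeries.X 1} :
        Set (MvPowerSeries (Fin 2) k)) := by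
    have h1 : Ideal.span {ArSing.y k r} =
        (Ideal.span ({MvPowerSeries.X 1} : Set (MvPowerSeries (Fin 2) k))).map
          (Ideal.Quotient.mk (Ideal.span {ArSing.eqn k r})) := by
      rw [Ideal.map_span, Set.image_singleton]
    rw [h1, Ideal.comap_map_of_surjective _ Ideal.Quotient.mk_surjective,
      ← RingHom.ker_eq_comap_bot, Ideal.mk_ker]
    apply le_antisymm
    · rw [sup_le_iff, Ideal.span_singleton_le_iff_mem, Ideal.span_singleton_le_iff_mem]
      refine ⟨Ideal.subset_span (by simp), ?_⟩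
      rw [ArSing.eqn]
      refine Ideal.sub_mem _ ?_ (Ideal.subset_span (by simp))
      rw [pow_two]
      exact Ideal.mul_mem_left _ _ (Ideal.subset_span (by simp))
    · rw [Ideal.span_le]
      intro z hz
      rcases hz with rfl | rfl
      · have h2 : (MvPowerSeries.X 0 : MvPowerSeries (Fin 2) k) ^ (r + 1) =
            MvPowerSeries.X 1 * MvPowerSeries.X 1 - ArSing.eqn k r := by
          rw [ArSing.eqn]
          ring
        rw [h2]
        refine Ideal.sub_mem _ ?_ ?_
        · exact Ideal.mem_sup_left (Ideal.mul_mem_left _ _ (Ideal.mem_span_singleton_self _))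
        · exact Ideal.mem_sup_right (Ideal.mem_span_singleton_self _)
      · exact Ideal.mem_sup_left (Ideal.mem_span_singleton_self _)
  rw [← Groth.Agent.Lib.R2H7.PowerSeriesFix.length_quotient_comap_of_surjective
    (Ideal.Quotient.mk (Ideal.span {ArSing.eqn k r})) Ideal.Quotient.mk_surjective, hcomap,
    Groth.Agent.Lib.R2H7.PowerSeriesFix.length_quotient_span_pow_pair _ _ (X0_regular k) (r + 1)]
  have hmax : Ideal.span ({MvPowerSeries.X 0, MvPowerSeries.X 1} :
      Set (MvPowerSeries (Fin 2) k)) = maximalIdeal (MvPowerSeries (Fin 2) k) := by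
    rw [Groth.Agent.Lib.Helper19.maximalIdeal_mvPowerSeries_eq k 2]
    congr 1
    ext z
    simp only [Set.mem_insert_iff, Set.mem_singleton_iff, Set.mem_range]
    constructor
    · rintro (rfl | rfl)
      · exact ⟨0, rfl⟩
      · exact ⟨1, rfl⟩
    · rintro ⟨i, rfl⟩
      fin_cases i
      · exact Or.inl rfl
      · exact Or.inr rfl
  rw [hmax, Groth.Agent.Lib.Helper5.HilbertRLR.length_quotient_maximalIdeal, mul_one]
  norm_cast

/-- An automorphism fixing `x` fixes the image of `k[[x]]`. -/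
theorem sigma_xMap (σ : ArSing.ring k r ≃ₐ[k] ArSing.ring k r)
    (hx : σ (ArSing.x k r) = ArSing.x k r) (a : PowerSeries k) :
    σ (ArSing.xMap k r a) = ArSing.xMap k r a := by
  have hx' : (σ : ArSing.ring k r →ₐ[k] ArSing.ring k r) (ArSing.x k r) = ArSing.x k r := hx
  have h := ps_algHom_ext_ring k r ((σ : ArSing.ring k r →ₐ[k] ArSing.ring k r).comp
    (ArSing.xMap k r)) (ArSing.xMap k r)
    (by rw [AlgHom.comp_apply, xMap_X, hx']; exact x_mem k r)
    (by rw [AlgHom.comp_apply, xMap_X, hx'])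
  exact AlgHom.congr_fun h a

theorem two_ne_zero_ps (h2 : (2 : k) ≠ 0) {b : PowerSeries k} (hb : 2 * b = 0) : b = 0 := by
  have h : (2 : PowerSeries k) ≠ 0 := by
    intro h
    have := congrArg (PowerSeries.constantCoeff (R := k)) h
    rw [map_ofNat, map_zero] at this
    exact h2 this
  exact (mul_eq_zero.mp hb).resolve_left h

end general

section negY

variable (k : Type u) [Field k] (r : ℕ) (h2 : (2 : k) ≠ 0)
  (σ : ArSing.ring k r ≃ₐ[k] ArSing.ring k r) (hx : σ (ArSing.x k r) = ArSing.x k r)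
  (hy : σ (ArSing.y k r) = -ArSing.y k r)

include hx hy in
theorem sigmaY_rep (a b : PowerSeries k) :
    σ (ArSing.xMap k r a + ArSing.xMap k r b * ArSing.y k r) =
      ArSing.xMap k r a - ArSing.xMap k r b * ArSing.y k r := by
  rw [map_add, map_mul, sigma_xMap k r σ hx, sigma_xMap k r σ hx, hy]
  ring

include h2 hx hy in
theorem sigmaY_fixed_iff (c : ArSing.ring k r) : σ c = c ↔ c ∈ (ArSing.xMap k r).range := by
  constructor
  · intro hc
    obtain ⟨a, b, rfl⟩ := exists_rep_ring k r c
    rw [sigmaY_rep k r σ hx hy] at hc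
    have h1 : ArSing.xMap k r 0 + ArSing.xMap k r (2 * b) * ArSing.y k r = 0 := by
      rw [map_zero, zero_add, map_mul, map_ofNat]
      have := sub_eq_zero.mpr hc.symm
      rw [← this]
      ring
    have hb : b = 0 := two_ne_zero_ps k h2 (rep_ring_eq_zero k r h1).2
    refine ⟨a, ?_⟩
    rw [hb, map_zero, zero_mul, add_zero]
    rfl
  · rintro ⟨a, rfl⟩
    exact sigma_xMap k r σ hx a

include h2 hx hy in
theorem sigmaY_fixIdeal :
    Ideal.span (Set.range fun a : ArSing.ring k r => σ a - a) = Ideal.span {ArSing.y k r} := by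
  apply le_antisymm
  · rw [Ideal.span_le]
    rintro _ ⟨c, rfl⟩
    obtain ⟨a, b, rfl⟩ := exists_rep_ring k r c
    change σ (ArSing.xMap k r a + ArSing.xMap k r b * ArSing.y k r) -
      (ArSing.xMap k r a + ArSing.xMap k r b * ArSing.y k r) ∈ Ideal.span {ArSing.y k r}
    rw [sigmaY_rep k r σ hx hy, Ideal.mem_span_singleton]
    refine ⟨-(2 * ArSing.xMap k r b), ?_⟩
    ring
  · rw [Ideal.span_singleton_le_iff_mem]
    have h1 : σ (ArSing.y k r) - ArSing.y k r ∈
        Ideal.span (Set.range fun a : ArSing.ring k r => σ a - a) :=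
      Ideal.subset_span ⟨ArSing.y k r, rfl⟩
    have h3 : ArSing.y k r = algebraMap k (ArSing.ring k r) (-(2 : k)⁻¹) *
        (σ (ArSing.y k r) - ArSing.y k r) := by
      rw [hy, map_neg]
      have : algebraMap k (ArSing.ring k r) (2 : k)⁻¹ * 2 = 1 := by
        rw [← map_ofNat (algebraMap k (ArSing.ring k r)) 2, ← map_mul, inv_mul_cancel₀ h2, map_one]
      calc ArSing.y k r = (algebraMap k (ArSing.ring k r) (2 : k)⁻¹ * 2) * ArSing.y k r := by
            rw [this, one_mul]
        _ = -algebraMap k (ArSing.ring k r) (2 : k)⁻¹ * (-ArSing.y k r - ArSing.y k r) := by ring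
    rw [h3]
    exact Ideal.mul_mem_left _ _ h1

include h2 hx hy in
theorem sigmaY_main :
    (∀ a : ArSing.ring k r, σ a = a ↔ a ∈ (ArSing.xMap k r).range) ∧
    ((ArSing.xMap k r).toRingHom.Flat ∧
      Ideal.map (ArSing.xMap k r) (IsLocalRing.maximalIdeal (PowerSeries k)) ≠ ⊤) ∧
    (∃ g : ArSing.ring k r, g ∈ nonZeroDivisors (ArSing.ring k r) ∧
      Ideal.span (Set.range fun a : ArSing.ring k r => σ a - a) = Ideal.span {g}) ∧
    Module.length (ArSing.ring k r)
      (ArSing.ring k r ⧸ Ideal.span (Set.range fun a : ArSing.ring k r => σ a - a)) = r + 1 := by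
  refine ⟨sigmaY_fixed_iff k r h2 σ hx hy, ⟨xMap_flat k r, map_xMap_ne_top k r⟩,
    ⟨ArSing.y k r, y_mem_nonZeroDivisors k r, sigmaY_fixIdeal k r h2 σ hx hy⟩, ?_⟩
  rw [sigmaY_fixIdeal k r h2 σ hx hy]
  exact length_quotient_y k r

end negY

end Groth.Agent.Lib.R2H7.ArSingStruct
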