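/-
The involution `x ↦ -x, y ↦ y` of `A_r`: invariants are the image of `x ↦ x^2, y ↦ y`, the extension
is free of rank two, fixed locus `(x)` of length two.
-/
import Mathlib
import Groth.Agent.Lib.R2H7ArSingFixY

set_option autoImplicit false
universe u

namespace Groth.Agent.Lib.R2H7.ArSingStruct

open IsLocalRing

section evenodd

variable (k : Type u) [Field k]

/-- `f(X) ↦ f(X^2)`. -/
noncomputable def E2 : PowerSeries k →ₐ[k] PowerSeries k := PowerSeries.expand 2 two_ne_zero

theorem E2_X : E2 k PowerSeries.X = PowerSeries.X ^ 2 := PowerSeries.expand_X 2 two_ne_zero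

theorem coeff_E2 (a : PowerSeries k) (n : ℕ) :
    PowerSeries.coeff n (E2 k a) = if 2 ∣ n then PowerSeries.coeff (n / 2) a else 0 :=
  PowerSeries.coeff_expand 2 two_ne_zero a

theorem constantCoeff_E2 (a : PowerSeries k) :
    PowerSeries.constantCoeff (E2 k a) = PowerSeries.constantCoeff a :=
  PowerSeries.constantCoeff_expand 2 two_ne_zero a

theorem exists_evenodd (a : PowerSeries k) :
    ∃ a₀ a₁ : PowerSeries k, a = E2 k a₀ + PowerSeries.X * E2 k a₁ := by
  refine ⟨PowerSeries.mk fun n => PowerSeries.coeff (2 * n) a,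
    PowerSeries.mk fun n => PowerSeries.coeff (2 * n + 1) a, ?_⟩
  ext n
  rw [map_add, coeff_E2]
  rcases Nat.even_or_odd' n with ⟨m, rfl | rfl⟩
  · rw [if_pos (dvd_mul_right 2 m), Nat.mul_div_cancel_left m two_pos, PowerSeries.coeff_mk]
    cases m with
    | zero => rw [mul_zero, PowerSeries.coeff_zero_X_mul, add_zero]
    | succ m =>
      have h1 : 2 * (m + 1) = (2 * m + 1) + 1 := by ring
      rw [h1, PowerSeries.coeff_succ_X_mul, coeff_E2, if_neg (by omega), add_zero]
  · rw [if_neg (by omega), zero_add, PowerSeries.coeff_succ_X_mul, coeff_E2,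
      if_pos (dvd_mul_right 2 m), Nat.mul_div_cancel_left m two_pos, PowerSeries.coeff_mk]

theorem evenodd_eq_zero {a₀ a₁ : PowerSeries k}
    (h : E2 k a₀ + PowerSeries.X * E2 k a₁ = 0) : a₀ = 0 ∧ a₁ = 0 := by
  constructor
  · ext n
    have h1 := congrArg (PowerSeries.coeff (2 * n)) h
    rw [map_add, coeff_E2, if_pos (dvd_mul_right 2 n), Nat.mul_div_cancel_left n two_pos,
      map_zero] at h1
    cases n with
    | zero =>
      rw [mul_zero, PowerSeries.coeff_zero_X_mul, add_zero] at h1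
      rw [map_zero]; exact h1
    | succ m =>
      have h2 : 2 * (m + 1) = (2 * m + 1) + 1 := by ring
      rw [h2, PowerSeries.coeff_succ_X_mul, coeff_E2, if_neg (by omega), add_zero] at h1
      rw [map_zero]
      exact h1
  · ext n
    have h1 := congrArg (PowerSeries.coeff (2 * n + 1)) h
    rw [map_add, coeff_E2, if_neg (by omega), zero_add, PowerSeries.coeff_succ_X_mul, coeff_E2,
      if_pos (dvd_mul_right 2 n), Nat.mul_div_cancel_left n two_pos, map_zero] at h1
    rw [map_zero]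
    exact h1

end evenodd

section general2

variable (k : Type u) [Field k] (r : ℕ)

theorem mem_maximalIdeal_rep (a b : PowerSeries k) :
    ArSing.xMap k r a + ArSing.xMap k r b * ArSing.y k r ∈ maximalIdeal (ArSing.ring k r) ↔
      PowerSeries.constantCoeff a = 0 := by
  constructor
  · intro h
    by_contra hne
    have hu : IsUnit (AdjoinRoot.of (pol k r) a + AdjoinRoot.of (pol k r) b *
        AdjoinRoot.root (pol k r)) := by
      rw [isUnit_iff, map_add, map_mul, eps_of, eps_root, mul_zero, add_zero]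
      exact hne
    have hu2 := hu.map (beta k r)
    rw [map_add, map_mul, beta_of, beta_of, beta_root] at hu2
    rw [mem_maximalIdeal, mem_nonunits_iff] at h
    exact h hu2
  · intro h
    apply mem_maximalIdeal_of_alpha
    rw [map_add, map_mul, alpha_xMap, alpha_xMap, alpha_y, mem_maximalIdeal_S, map_add, map_mul,
      eps_of, eps_root, mul_zero, add_zero]
    exact h

theorem x_mem_nonZeroDivisors : ArSing.x k r ∈ nonZeroDivisors (ArSing.ring k r) := by
  rw [mem_nonZeroDivisors_iff_right]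
  intro z hz
  obtain ⟨a, b, rfl⟩ := exists_rep_ring k r z
  have h1 : ArSing.xMap k r (a * PowerSeries.X) + ArSing.xMap k r (b * PowerSeries.X) *
      ArSing.y k r = 0 := by
    rw [← hz, map_mul, map_mul, xMap_X]
    ring
  obtain ⟨h2, h3⟩ := rep_ring_eq_zero k r h1
  have ha : a = 0 := (mul_eq_zero.mp h2).resolve_right PowerSeries.X_ne_zero
  have hb : b = 0 := (mul_eq_zero.mp h3).resolve_right PowerSeries.X_ne_zero
  rw [ha, hb, map_zero, zero_mul, add_zero]

open Groth.Agent.Lib.H9NodeKer in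
theorem X1_regular : IsSMulRegular (MvPowerSeries (Fin 2) k ⧸
    Ideal.span ({MvPowerSeries.X 0} : Set (MvPowerSeries (Fin 2) k)))
    (MvPowerSeries.X 1 : MvPowerSeries (Fin 2) k) := by
  intro u v huv
  obtain ⟨a, rfl⟩ := Ideal.Quotient.mk_surjective u
  obtain ⟨b, rfl⟩ := Ideal.Quotient.mk_surjective v
  have h2 : Ideal.Quotient.mk (Ideal.span {MvPowerSeries.X 0}) (MvPowerSeries.X 1 * a) =
      Ideal.Quotient.mk (Ideal.span {MvPowerSeries.X 0}) (MvPowerSeries.X 1 * b) := huv
  rw [Ideal.Quotient.eq, ← mul_sub, Ideal.mem_span_singleton, MvPowerSeries.X_dvd_iff] at h2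
  rw [Ideal.Quotient.eq, Ideal.mem_span_singleton, MvPowerSeries.X_dvd_iff]
  intro m hm
  rw [eq_e m, hm]
  have h3 := h2 (e 0 (m 1 + 1)) (e_zero _ _)
  rw [coeff_X1_mul_succ] at h3
  exact h3

theorem length_quotient_x :
    Module.length (ArSing.ring k r) (ArSing.ring k r ⧸ Ideal.span {ArSing.x k r}) = 2 := by
  have hcomap : (Ideal.span {ArSing.x k r}).comap
      (Ideal.Quotient.mk (Ideal.span {ArSing.eqn k r})) =
      Ideal.span ({MvPowerSeries.X 1 ^ 2, MvPowerSeries.X 0} :
        Set (MvPowerSeries (Fin 2) k)) := by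
    have h1 : Ideal.span {ArSing.x k r} =
        (Ideal.span ({MvPowerSeries.X 0} : Set (MvPowerSeries (Fin 2) k))).map
          (Ideal.Quotient.mk (Ideal.span {ArSing.eqn k r})) := by
      rw [Ideal.map_span, Set.image_singleton]
    rw [h1, Ideal.comap_map_of_surjective _ Ideal.Quotient.mk_surjective,
      ← RingHom.ker_eq_comap_bot, Ideal.mk_ker]
    apply le_antisymm
    · rw [sup_le_iff, Ideal.span_singleton_le_iff_mem, Ideal.span_singleton_le_iff_mem]
      refine ⟨Ideal.subset_span (by simp), ?_⟩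
      rw [ArSing.eqn]
      refine Ideal.sub_mem _ (Ideal.subset_span (by simp)) ?_
      rw [pow_succ]
      exact Ideal.mul_mem_left _ _ (Ideal.subset_span (by simp))
    · rw [Ideal.span_le]
      intro z hz
      rcases hz with rfl | rfl
      · have h2 : (MvPowerSeries.X 1 : MvPowerSeries (Fin 2) k) ^ 2 =
            MvPowerSeries.X 0 ^ r * MvPowerSeries.X 0 + ArSing.eqn k r := by
          rw [ArSing.eqn]
          ring
        rw [h2]
        refine Ideal.add_mem _ ?_ ?_
        · exact Ideal.mem_sup_left (Ideal.mul_mem_left _ _ (Ideal.mem_span_singleton_self _))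
        · exact Ideal.mem_sup_right (Ideal.mem_span_singleton_self _)
      · exact Ideal.mem_sup_left (Ideal.mem_span_singleton_self _)
  rw [← Groth.Agent.Lib.R2H7.PowerSeriesFix.length_quotient_comap_of_surjective
    (Ideal.Quotient.mk (Ideal.span {ArSing.eqn k r})) Ideal.Quotient.mk_surjective, hcomap,
    Groth.Agent.Lib.R2H7.PowerSeriesFix.length_quotient_span_pow_pair _ _ (X1_regular k) 2]
  have hmax : Ideal.span ({MvPowerSeries.X 1, MvPowerSeries.X 0} :
      Set (MvPowerSeries (Fin 2) k)) = maximalIdeal (MvPowerSeries (Fin 2) k) := by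
    rw [Groth.Agent.Lib.Helper19.maximalIdeal_mvPowerSeries_eq k 2]
    congr 1
    ext z
    simp only [Set.mem_insert_iff, Set.mem_singleton_iff, Set.mem_range]
    constructor
    · rintro (rfl | rfl)
      · exact ⟨1, rfl⟩
      · exact ⟨0, rfl⟩
    · rintro ⟨i, rfl⟩
      fin_cases i
      · exact Or.inr rfl
      · exact Or.inl rfl
  rw [hmax, Groth.Agent.Lib.Helper5.HilbertRLR.length_quotient_maximalIdeal, mul_one]
  norm_cast

end general2

section negX

variable (k : Type u) [Field k] (r r' : ℕ) (h2 : (2 : k) ≠ 0)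
  (σ : ArSing.ring k r ≃ₐ[k] ArSing.ring k r) (hx : σ (ArSing.x k r) = -ArSing.x k r)
  (hy : σ (ArSing.y k r) = ArSing.y k r)
  (φ : ArSing.ring k r' →ₐ[k] ArSing.ring k r) (hφx : φ (ArSing.x k r') = ArSing.x k r ^ 2)
  (hφy : φ (ArSing.y k r') = ArSing.y k r)

theorem x_sq_mem : ArSing.x k r ^ 2 ∈ maximalIdeal (ArSing.ring k r) :=
  Ideal.pow_mem_of_mem _ (x_mem k r) 2 two_pos

include hφx in
theorem phi_xMap (a : PowerSeries k) :
    φ (ArSing.xMap k r' a) = ArSing.xMap k r (E2 k a) := by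
  have h := ps_algHom_ext_ring k r (φ.comp (ArSing.xMap k r'))
    ((ArSing.xMap k r).comp (E2 k))
    (by rw [AlgHom.comp_apply, xMap_X, hφx]; exact x_sq_mem k r)
    (by rw [AlgHom.comp_apply, AlgHom.comp_apply, xMap_X, hφx, E2_X, map_pow, xMap_X])
  exact AlgHom.congr_fun h a

include hx in
theorem sigmaX_xMap_E2 (a : PowerSeries k) :
    σ (ArSing.xMap k r (E2 k a)) = ArSing.xMap k r (E2 k a) := by
  have hx' : (σ : ArSing.ring k r →ₐ[k] ArSing.ring k r) (ArSing.x k r) = -ArSing.x k r := hx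
  have hneg : (-ArSing.x k r) ^ 2 = ArSing.x k r ^ 2 := by ring
  have h := ps_algHom_ext_ring k r (((σ : ArSing.ring k r →ₐ[k] ArSing.ring k r).comp
    (ArSing.xMap k r)).comp (E2 k)) ((ArSing.xMap k r).comp (E2 k))
    (by
      rw [AlgHom.comp_apply, AlgHom.comp_apply, E2_X, map_pow, xMap_X, map_pow, hx', hneg]
      exact x_sq_mem k r)
    (by
      rw [AlgHom.comp_apply, AlgHom.comp_apply, AlgHom.comp_apply, E2_X, map_pow, xMap_X,
        map_pow, hx', hneg])
  exact AlgHom.congr_fun h a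

include hφx hφy in
theorem phi_rep (a b : PowerSeries k) :
    φ (ArSing.xMap k r' a + ArSing.xMap k r' b * ArSing.y k r') =
      ArSing.xMap k r (E2 k a) + ArSing.xMap k r (E2 k b) * ArSing.y k r := by
  rw [map_add, map_mul, phi_xMap k r r' φ hφx, phi_xMap k r r' φ hφx, hφy]

include hx hy hφx hφy in
theorem sigmaX_phi (u : ArSing.ring k r') : σ (φ u) = φ u := by
  obtain ⟨a, b, rfl⟩ := exists_rep_ring k r' u
  rw [phi_rep k r r' φ hφx hφy, map_add, map_mul,
    sigmaX_xMap_E2 k r σ hx, sigmaX_xMap_E2 k r σ hx, hy]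

include hφx hφy in
theorem exists_rep4 (c : ArSing.ring k r) :
    ∃ u v : ArSing.ring k r', c = φ u + ArSing.x k r * φ v := by
  obtain ⟨a, b, rfl⟩ := exists_rep_ring k r c
  obtain ⟨a₀, a₁, rfl⟩ := exists_evenodd k a
  obtain ⟨b₀, b₁, rfl⟩ := exists_evenodd k b
  refine ⟨ArSing.xMap k r' a₀ + ArSing.xMap k r' b₀ * ArSing.y k r',
    ArSing.xMap k r' a₁ + ArSing.xMap k r' b₁ * ArSing.y k r', ?_⟩
  rw [phi_rep k r r' φ hφx hφy, phi_rep k r r' φ hφx hφy]
  simp only [map_add, map_mul, xMap_X]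
  ring

include hφx hφy in
theorem rep4_eq_zero {u v : ArSing.ring k r'} (h : φ u + ArSing.x k r * φ v = 0) :
    u = 0 ∧ v = 0 := by
  obtain ⟨a₀, b₀, rfl⟩ := exists_rep_ring k r' u
  obtain ⟨a₁, b₁, rfl⟩ := exists_rep_ring k r' v
  have h1 : ArSing.xMap k r (E2 k a₀ + PowerSeries.X * E2 k a₁) +
      ArSing.xMap k r (E2 k b₀ + PowerSeries.X * E2 k b₁) * ArSing.y k r = 0 := by
    rw [← h, phi_rep k r r' φ hφx hφy, phi_rep k r r' φ hφx hφy]
    simp only [map_add, map_mul, xMap_X]
    ring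
  obtain ⟨h3, h4⟩ := rep_ring_eq_zero k r h1
  obtain ⟨ha₀, ha₁⟩ := evenodd_eq_zero k h3
  obtain ⟨hb₀, hb₁⟩ := evenodd_eq_zero k h4
  rw [ha₀, ha₁, hb₀, hb₁]
  simp

include hx hy hφx hφy in
theorem sigmaX_rep4 (u v : ArSing.ring k r') :
    σ (φ u + ArSing.x k r * φ v) = φ u - ArSing.x k r * φ v := by
  rw [map_add, map_mul, sigmaX_phi k r r' σ hx hy φ hφx hφy, sigmaX_phi k r r' σ hx hy φ hφx hφy, hx]
  ring

theorem two_smul_eq_zero (h2 : (2 : k) ≠ 0) {R : Type*} [CommRing R] [Algebra k R] {v : R}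
    (hv : 2 * v = 0) : v = 0 := by
  have h1 : algebraMap k R (2 : k)⁻¹ * (2 * v) = v := by
    rw [← mul_assoc, ← map_ofNat (algebraMap k R) 2, ← map_mul, inv_mul_cancel₀ h2, map_one, one_mul]
  rw [← h1, hv, mul_zero]

include h2 hx hy hφx hφy in
theorem sigmaX_fixed_iff (c : ArSing.ring k r) : σ c = c ↔ c ∈ φ.range := by
  constructor
  · intro hc
    obtain ⟨u, v, rfl⟩ := exists_rep4 k r r' φ hφx hφy c
    rw [sigmaX_rep4 k r r' σ hx hy φ hφx hφy] at hc
    have h1 : φ 0 + ArSing.x k r * φ (2 * v) = 0 := by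
      rw [map_zero, zero_add, map_mul, map_ofNat]
      have := sub_eq_zero.mpr hc.symm
      rw [← this]
      ring
    have hv : v = 0 := two_smul_eq_zero k h2 (rep4_eq_zero k r r' φ hφx hφy h1).2
    refine ⟨u, ?_⟩
    rw [hv, map_zero, mul_zero, add_zero]
    rfl
  · rintro ⟨u, rfl⟩
    exact sigmaX_phi k r r' σ hx hy φ hφx hφy u

include h2 hx hy hφx hφy in
theorem sigmaX_fixIdeal :
    Ideal.span (Set.range fun a : ArSing.ring k r => σ a - a) = Ideal.span {ArSing.x k r} := by
  apply le_antisymm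
  · rw [Ideal.span_le]
    rintro _ ⟨c, rfl⟩
    obtain ⟨u, v, rfl⟩ := exists_rep4 k r r' φ hφx hφy c
    change σ (φ u + ArSing.x k r * φ v) - (φ u + ArSing.x k r * φ v) ∈ Ideal.span {ArSing.x k r}
    rw [sigmaX_rep4 k r r' σ hx hy φ hφx hφy, Ideal.mem_span_singleton]
    refine ⟨-(2 * φ v), ?_⟩
    ring
  · rw [Ideal.span_singleton_le_iff_mem]
    have h1 : σ (ArSing.x k r) - ArSing.x k r ∈
        Ideal.span (Set.range fun a : ArSing.ring k r => σ a - a) :=
      Ideal.subset_span ⟨ArSing.x k r, rfl⟩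
    have h3 : ArSing.x k r = algebraMap k (ArSing.ring k r) (-(2 : k)⁻¹) *
        (σ (ArSing.x k r) - ArSing.x k r) := by
      rw [hx, map_neg]
      have : algebraMap k (ArSing.ring k r) (2 : k)⁻¹ * 2 = 1 := by
        rw [← map_ofNat (algebraMap k (ArSing.ring k r)) 2, ← map_mul, inv_mul_cancel₀ h2, map_one]
      calc ArSing.x k r = (algebraMap k (ArSing.ring k r) (2 : k)⁻¹ * 2) * ArSing.x k r := by
            rw [this, one_mul]
        _ = -algebraMap k (ArSing.ring k r) (2 : k)⁻¹ * (-ArSing.x k r - ArSing.x k r) := by ring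
    rw [h3]
    exact Ideal.mul_mem_left _ _ h1

include hφx hφy in
theorem phi_flat : φ.toRingHom.Flat := by
  let _ : Algebra (ArSing.ring k r') (ArSing.ring k r) := φ.toRingHom.toAlgebra
  change Module.Flat (ArSing.ring k r') (ArSing.ring k r)
  let f : (ArSing.ring k r' × ArSing.ring k r') →ₗ[ArSing.ring k r'] ArSing.ring k r :=
    { toFun := fun p => φ p.1 + ArSing.x k r * φ p.2
      map_add' := by
        intro p q
        simp only [Prod.fst_add, Prod.snd_add, map_add]
        ring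
      map_smul' := by
        intro a p
        change φ (a * p.1) + ArSing.x k r * φ (a * p.2) = φ a * (φ p.1 + ArSing.x k r * φ p.2)
        rw [map_mul, map_mul]
        ring }
  have hf : Function.Bijective f := by
    constructor
    · rw [injective_iff_map_eq_zero]
      intro p hp
      obtain ⟨h1, h2⟩ := rep4_eq_zero k r r' φ hφx hφy (u := p.1) (v := p.2) hp
      exact Prod.ext h1 h2
    · intro c
      obtain ⟨u, v, rfl⟩ := exists_rep4 k r r' φ hφx hφy c
      exact ⟨(u, v), rfl⟩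
  exact Module.Flat.of_linearEquiv (LinearEquiv.ofBijective f hf).symm

include hφx hφy in
theorem phi_mem_maximalIdeal {u : ArSing.ring k r'} (hu : u ∈ maximalIdeal (ArSing.ring k r')) :
    φ u ∈ maximalIdeal (ArSing.ring k r) := by
  obtain ⟨a, b, rfl⟩ := exists_rep_ring k r' u
  rw [mem_maximalIdeal_rep] at hu
  rw [map_add, map_mul, phi_xMap k r r' φ hφx, phi_xMap k r r' φ hφx, hφy, mem_maximalIdeal_rep,
    constantCoeff_E2]
  exact hu

include hφx hφy in
theorem map_phi_ne_top (I : Ideal (ArSing.ring k r')) (hI : I.IsMaximal) :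
    Ideal.map φ I ≠ ⊤ := by
  intro h
  have hI' : I = maximalIdeal (ArSing.ring k r') := IsLocalRing.eq_maximalIdeal hI
  have hle : Ideal.map φ I ≤ maximalIdeal (ArSing.ring k r) := by
    rw [Ideal.map_le_iff_le_comap, hI']
    intro a ha
    exact phi_mem_maximalIdeal k r r' φ hφx hφy ha
  rw [h] at hle
  exact (Ideal.IsMaximal.ne_top inferInstance) (top_le_iff.mp hle)

include h2 hx hy hφx hφy in
theorem sigmaX_main :
    (∀ a : ArSing.ring k r, σ a = a ↔ a ∈ φ.range) ∧
    (φ.toRingHom.Flat ∧ ∀ I : Ideal (ArSing.ring k r'), I.IsMaximal → Ideal.map φ I ≠ ⊤) ∧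
    (∃ g : ArSing.ring k r, g ∈ nonZeroDivisors (ArSing.ring k r) ∧
      Ideal.span (Set.range fun a : ArSing.ring k r => σ a - a) = Ideal.span {g}) ∧
    Module.length (ArSing.ring k r)
      (ArSing.ring k r ⧸ Ideal.span (Set.range fun a : ArSing.ring k r => σ a - a)) = 2 := by
  refine ⟨sigmaX_fixed_iff k r r' h2 σ hx hy φ hφx hφy,
    ⟨phi_flat k r r' φ hφx hφy, map_phi_ne_top k r r' φ hφx hφy⟩,
    ⟨ArSing.x k r, x_mem_nonZeroDivisors k r, sigmaX_fixIdeal k r r' h2 σ hx hy φ hφx hφy⟩, ?_⟩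
  rw [sigmaX_fixIdeal k r r' h2 σ hx hy φ hφx hφy]
  exact length_quotient_x k r

end negX

end Groth.Agent.Lib.R2H7.ArSingStruct
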