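/-
The involution `x ↦ -x, y ↦ -y` of `A_r` (r odd): invariants are the image of `x ↦ x^2, y ↦ xy`,
the extension is not flat, the fixed locus is the reduced closed point.
-/
import Mathlib
import Groth.Agent.Lib.R2H7ArSingFixX

set_option autoImplicit false
universe u

namespace Groth.Agent.Lib.R2H7.ArSingStruct

open IsLocalRing

section general3

variable (k : Type u) [Field k] (r : ℕ)

theorem rep_mul (a b c d : PowerSeries k) :
    (ArSing.xMap k r a + ArSing.xMap k r b * ArSing.y k r) *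
      (ArSing.xMap k r c + ArSing.xMap k r d * ArSing.y k r) =
    ArSing.xMap k r (a * c + b * d * PowerSeries.X ^ (r + 1)) +
      ArSing.xMap k r (a * d + b * c) * ArSing.y k r := by
  simp only [map_add, map_mul, map_pow, xMap_X]
  rw [← y_sq]
  ring

theorem rep_eq_iff {a b c d : PowerSeries k} :
    ArSing.xMap k r a + ArSing.xMap k r b * ArSing.y k r =
      ArSing.xMap k r c + ArSing.xMap k r d * ArSing.y k r ↔ a = c ∧ b = d := by
  constructor
  · intro h
    have h1 : ArSing.xMap k r (a - c) + ArSing.xMap k r (b - d) * ArSing.y k r = 0 := by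
      rw [map_sub, map_sub]
      have := sub_eq_zero.mpr h
      rw [← this]
      ring
    obtain ⟨h2, h3⟩ := rep_ring_eq_zero k r h1
    exact ⟨sub_eq_zero.mp h2, sub_eq_zero.mp h3⟩
  · rintro ⟨rfl, rfl⟩
    rfl

theorem maximalIdeal_eq_span_pair :
    maximalIdeal (ArSing.ring k r) = Ideal.span {ArSing.x k r, ArSing.y k r} := by
  apply le_antisymm
  · intro c hc
    obtain ⟨a, b, rfl⟩ := exists_rep_ring k r c
    rw [mem_maximalIdeal_rep] at hc
    obtain ⟨a', rfl⟩ := PowerSeries.X_dvd_iff.mpr hc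
    rw [Ideal.mem_span_pair]
    refine ⟨ArSing.xMap k r a', ArSing.xMap k r b, ?_⟩
    rw [map_mul, xMap_X]
    ring
  · rw [Ideal.span_le]
    intro z hz
    rcases hz with rfl | rfl
    · exact x_mem k r
    · exact y_mem k r

/-- The maximal ideal of `A_r` (`r ≥ 1`) is not principal. -/
theorem maximalIdeal_ne_span_singleton (hr : 1 ≤ r) (g : ArSing.ring k r) :
    maximalIdeal (ArSing.ring k r) ≠ Ideal.span {g} := by
  intro h
  have hg : g ∈ maximalIdeal (ArSing.ring k r) := by
    rw [h]; exact Ideal.mem_span_singleton_self g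
  have hxg : ArSing.x k r ∈ Ideal.span {g} := by rw [← h]; exact x_mem k r
  have hyg : ArSing.y k r ∈ Ideal.span {g} := by rw [← h]; exact y_mem k r
  obtain ⟨a, b, rfl⟩ := exists_rep_ring k r g
  rw [mem_maximalIdeal_rep] at hg
  obtain ⟨a', rfl⟩ := PowerSeries.X_dvd_iff.mpr hg
  rw [Ideal.mem_span_singleton] at hxg hyg
  obtain ⟨c₁, hc₁⟩ := hxg
  obtain ⟨c₂, hc₂⟩ := hyg
  obtain ⟨a₁, b₁, rfl⟩ := exists_rep_ring k r c₁
  obtain ⟨a₂, b₂, rfl⟩ := exists_rep_ring k r c₂
  rw [rep_mul] at hc₁ hc₂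
  have hx' : ArSing.x k r = ArSing.xMap k r PowerSeries.X + ArSing.xMap k r 0 * ArSing.y k r := by
    rw [xMap_X, map_zero, zero_mul, add_zero]
  have hy' : ArSing.y k r = ArSing.xMap k r 0 + ArSing.xMap k r 1 * ArSing.y k r := by
    rw [map_zero, map_one, zero_add, one_mul]
  have e₁ := hx'.symm.trans hc₁
  have e₂ := hy'.symm.trans hc₂
  rw [rep_eq_iff] at e₁ e₂
  obtain ⟨h1, h2⟩ := e₁
  obtain ⟨h3, h4⟩ := e₂
  obtain ⟨s, rfl⟩ : ∃ s, r = s + 1 := ⟨r - 1, by omega⟩
  -- cancel X in h1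
  have h1' : a' * a₁ + b * b₁ * PowerSeries.X ^ (s + 1) = 1 := by
    have : PowerSeries.X * (a' * a₁ + b * b₁ * PowerSeries.X ^ (s + 1)) =
        PowerSeries.X * (1 : PowerSeries k) := by
      rw [mul_one]
      refine Eq.trans ?_ h1.symm
      ring
    exact mul_left_cancel₀ PowerSeries.X_ne_zero this
  have e1 := congrArg (PowerSeries.constantCoeff (R := k)) h1'
  have e2 := congrArg (PowerSeries.constantCoeff (R := k)) h2
  have e4 := congrArg (PowerSeries.constantCoeff (R := k)) h4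
  simp only [map_add, map_mul, map_pow, PowerSeries.constantCoeff_X, map_one, map_zero,
    zero_pow (Nat.succ_ne_zero s), mul_zero, add_zero, zero_mul, zero_add] at e1 e2 e4
  have ha₁ : PowerSeries.constantCoeff a₁ ≠ 0 := by
    intro h0
    rw [h0, mul_zero] at e1
    exact zero_ne_one e1
  have hb : PowerSeries.constantCoeff b = 0 := (mul_eq_zero.mp e2.symm).resolve_right ha₁
  rw [hb, zero_mul] at e4
  exact one_ne_zero e4

end general3

section flatgen

/-- For a flat ring map `f : R → M`, a relation `f r₁ m₁ + f r₂ m₂ = 0` forces `m₁` into the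
extension of any ideal containing the first components of all syzygies of `(r₁, r₂)`. -/
theorem mem_map_of_flat_of_syz {R M : Type*} [CommRing R] [CommRing M] (f : R →+* M)
    (hf : f.Flat) (r₁ r₂ : R) (m₁ m₂ : M) (I : Ideal R)
    (hrel : f r₁ * m₁ + f r₂ * m₂ = 0)
    (hsyz : ∀ s t : R, r₁ * s + r₂ * t = 0 → s ∈ I) : m₁ ∈ I.map f := by
  let _ : Algebra R M := f.toAlgebra
  have hflat : Module.Flat R M := hf
  have hsmul : ∀ (a : R) (c : M), a • c = f a * c := fun a c => rfl
  have key : Module.IsTrivialRelation (R := R) (M := M) ![r₁, r₂] ![m₁, m₂] := by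
    apply Module.Flat.isTrivialRelation_of_sum_smul_eq_zero (R := R) (M := M)
    rw [Fin.sum_univ_two]
    exact hrel
  obtain ⟨n, a, z, hz1, hz2⟩ := key
  have h1 := hz1 0
  simp only [Matrix.cons_val_zero] at h1
  rw [h1]
  apply Ideal.sum_mem
  intro j _
  rw [hsmul]
  apply Ideal.mul_mem_right
  apply Ideal.mem_map_of_mem
  have h2 := hz2 j
  rw [Fin.sum_univ_two] at h2
  simp only [Matrix.cons_val_zero, Matrix.cons_val_one] at h2
  exact hsyz _ _ h2

end flatgen

section negXY

variable (k : Type u) [Field k] (r r' : ℕ) (h2 : (2 : k) ≠ 0)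
  (σ : ArSing.ring k r ≃ₐ[k] ArSing.ring k r) (hx : σ (ArSing.x k r) = -ArSing.x k r)
  (hy : σ (ArSing.y k r) = -ArSing.y k r)
  (φ : ArSing.ring k r' →ₐ[k] ArSing.ring k r) (hφx : φ (ArSing.x k r') = ArSing.x k r ^ 2)
  (hφy : φ (ArSing.y k r') = ArSing.x k r * ArSing.y k r)

include hφx hφy in
theorem phi2_rep (a b : PowerSeries k) :
    φ (ArSing.xMap k r' a + ArSing.xMap k r' b * ArSing.y k r') =
      ArSing.xMap k r (E2 k a) + ArSing.xMap k r (PowerSeries.X * E2 k b) * ArSing.y k r := by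
  rw [map_add, map_mul, phi_xMap k r r' φ hφx, phi_xMap k r r' φ hφx, hφy, map_mul, xMap_X]
  ring

theorem E2_injective : Function.Injective (E2 k) := by
  rw [injective_iff_map_eq_zero]
  intro a ha
  have h : E2 k a + PowerSeries.X * E2 k 0 = 0 := by rw [ha, map_zero, mul_zero, add_zero]
  exact (evenodd_eq_zero k h).1

include hφx hφy in
theorem phi2_injective : Function.Injective φ := by
  rw [injective_iff_map_eq_zero]
  intro u hu
  obtain ⟨a, b, rfl⟩ := exists_rep_ring k r' u
  rw [phi2_rep k r r' φ hφx hφy] at hu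
  obtain ⟨h3, h4⟩ := rep_ring_eq_zero k r hu
  have ha : a = 0 := E2_injective k (h3.trans (map_zero _).symm)
  have hb : b = 0 := E2_injective k
    (((mul_eq_zero.mp h4).resolve_left PowerSeries.X_ne_zero).trans (map_zero _).symm)
  rw [ha, hb, map_zero, zero_mul, add_zero]

include hx hy in
theorem sigmaXY_rep4 (a₀ a₁ b₀ b₁ : PowerSeries k) :
    σ (ArSing.xMap k r (E2 k a₀ + PowerSeries.X * E2 k a₁) +
        ArSing.xMap k r (E2 k b₀ + PowerSeries.X * E2 k b₁) * ArSing.y k r) =
      ArSing.xMap k r (E2 k a₀ - PowerSeries.X * E2 k a₁) +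
        ArSing.xMap k r (-E2 k b₀ + PowerSeries.X * E2 k b₁) * ArSing.y k r := by
  simp only [map_add, map_sub, map_neg, map_mul, xMap_X, sigmaX_xMap_E2 k r σ hx, hx, hy]
  ring

include h2 hx hy hφx hφy in
theorem sigmaXY_fixed_iff (c : ArSing.ring k r) : σ c = c ↔ c ∈ φ.range := by
  constructor
  · intro hc
    obtain ⟨a, b, rfl⟩ := exists_rep_ring k r c
    obtain ⟨a₀, a₁, rfl⟩ := exists_evenodd k a
    obtain ⟨b₀, b₁, rfl⟩ := exists_evenodd k b
    rw [sigmaXY_rep4 k r σ hx hy, rep_eq_iff] at hc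
    obtain ⟨h3, h4⟩ := hc
    have h3' : E2 k 0 + PowerSeries.X * E2 k (2 * a₁) = 0 := by
      rw [map_zero, zero_add, map_mul, map_ofNat]
      have := sub_eq_zero.mpr h3.symm
      rw [← this]
      ring
    have h4' : E2 k (2 * b₀) + PowerSeries.X * E2 k 0 = 0 := by
      rw [map_zero, mul_zero, add_zero, map_mul, map_ofNat]
      have := sub_eq_zero.mpr h4.symm
      rw [← this]
      ring
    have ha₁ : a₁ = 0 := two_ne_zero_ps k h2 (evenodd_eq_zero k h3').2
    have hb₀ : b₀ = 0 := two_ne_zero_ps k h2 (evenodd_eq_zero k h4').1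
    refine ⟨ArSing.xMap k r' a₀ + ArSing.xMap k r' b₁ * ArSing.y k r', ?_⟩
    change φ _ = _
    rw [phi2_rep k r r' φ hφx hφy, ha₁, hb₀]
    simp
  · rintro ⟨u, rfl⟩
    obtain ⟨a, b, rfl⟩ := exists_rep_ring k r' u
    change σ (φ _) = φ _
    rw [phi2_rep k r r' φ hφx hφy]
    have h := sigmaXY_rep4 k r σ hx hy a 0 0 b
    simp only [map_zero, mul_zero, add_zero, sub_zero, neg_zero, zero_add] at h
    exact h

include h2 hx hy in
theorem sigmaXY_fixIdeal :
    Ideal.span (Set.range fun a : ArSing.ring k r => σ a - a) = maximalIdeal (ArSing.ring k r) := by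
  apply le_antisymm
  · rw [Ideal.span_le]
    rintro _ ⟨c, rfl⟩
    obtain ⟨a, b, rfl⟩ := exists_rep_ring k r c
    obtain ⟨a₀, a₁, rfl⟩ := exists_evenodd k a
    obtain ⟨b₀, b₁, rfl⟩ := exists_evenodd k b
    change σ _ - _ ∈ maximalIdeal (ArSing.ring k r)
    rw [sigmaXY_rep4 k r σ hx hy]
    have h : ArSing.xMap k r (E2 k a₀ - PowerSeries.X * E2 k a₁) +
        ArSing.xMap k r (-E2 k b₀ + PowerSeries.X * E2 k b₁) * ArSing.y k r -
        (ArSing.xMap k r (E2 k a₀ + PowerSeries.X * E2 k a₁) +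
          ArSing.xMap k r (E2 k b₀ + PowerSeries.X * E2 k b₁) * ArSing.y k r) =
        ArSing.xMap k r (PowerSeries.X * (-2 * E2 k a₁)) +
          ArSing.xMap k r (-2 * E2 k b₀) * ArSing.y k r := by
      simp only [map_add, map_sub, map_neg, map_mul, map_ofNat]
      ring
    rw [h, mem_maximalIdeal_rep, map_mul, PowerSeries.constantCoeff_X, zero_mul]
  · rw [maximalIdeal_eq_span_pair, Ideal.span_le]
    have hinv : algebraMap k (ArSing.ring k r) (2 : k)⁻¹ * 2 = 1 := by
      rw [← map_ofNat (algebraMap k (ArSing.ring k r)) 2, ← map_mul, inv_mul_cancel₀ h2, map_one]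
    have key : ∀ z : ArSing.ring k r, σ z = -z →
        z ∈ Ideal.span (Set.range fun a : ArSing.ring k r => σ a - a) := by
      intro z hz
      have h1 : σ z - z ∈ Ideal.span (Set.range fun a : ArSing.ring k r => σ a - a) :=
        Ideal.subset_span ⟨z, rfl⟩
      have h3 : z = algebraMap k (ArSing.ring k r) (-(2 : k)⁻¹) * (σ z - z) := by
        rw [hz, map_neg]
        calc z = (algebraMap k (ArSing.ring k r) (2 : k)⁻¹ * 2) * z := by rw [hinv, one_mul]
          _ = -algebraMap k (ArSing.ring k r) (2 : k)⁻¹ * (-z - z) := by ring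
      rw [h3]
      exact Ideal.mul_mem_left _ _ h1
    intro z hz
    rcases hz with rfl | rfl
    · exact key _ hx
    · exact key _ hy

include hφx hφy in
theorem phi2_not_flat : ¬ φ.toRingHom.Flat := by
  intro hflat
  have hrel : φ.toRingHom (ArSing.y k r') * ArSing.x k r +
      φ.toRingHom (ArSing.x k r') * (-ArSing.y k r) = 0 := by
    change φ (ArSing.y k r') * ArSing.x k r + φ (ArSing.x k r') * (-ArSing.y k r) = 0
    rw [hφx, hφy]
    ring
  have hsyz : ∀ s t : ArSing.ring k r', ArSing.y k r' * s + ArSing.x k r' * t = 0 →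
      s ∈ maximalIdeal (ArSing.ring k r') := by
    intro s t h1
    obtain ⟨p, q, hpq⟩ := exists_rep_ring k r' s
    obtain ⟨p', q', hpq'⟩ := exists_rep_ring k r' t
    rw [hpq, mem_maximalIdeal_rep]
    rw [hpq, hpq'] at h1
    have h3 : ArSing.xMap k r' (q * PowerSeries.X ^ (r' + 1) + p' * PowerSeries.X) +
        ArSing.xMap k r' (p + q' * PowerSeries.X) * ArSing.y k r' = 0 := by
      rw [← h1]
      simp only [map_add, map_mul, map_pow, xMap_X]
      rw [← y_sq]
      ring
    have h4 := (rep_ring_eq_zero k r' h3).2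
    have h5 := congrArg (PowerSeries.constantCoeff (R := k)) h4
    simpa using h5
  have hxmem0 := mem_map_of_flat_of_syz φ.toRingHom hflat (ArSing.y k r') (ArSing.x k r')
    (ArSing.x k r) (-ArSing.y k r) (maximalIdeal (ArSing.ring k r')) hrel hsyz
  have hxmem : ArSing.x k r ∈ Ideal.span {ArSing.x k r ^ 2, ArSing.x k r * ArSing.y k r} := by
    have hle : Ideal.map φ.toRingHom (maximalIdeal (ArSing.ring k r')) ≤
        Ideal.span {ArSing.x k r ^ 2, ArSing.x k r * ArSing.y k r} := by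
      rw [Ideal.map_le_iff_le_comap]
      intro u hu
      rw [maximalIdeal_eq_span_pair, Ideal.mem_span_pair] at hu
      obtain ⟨c, d, hcd⟩ := hu
      rw [Ideal.mem_comap]
      change φ u ∈ _
      rw [← hcd, map_add, map_mul, map_mul, hφx, hφy, Ideal.mem_span_pair]
      exact ⟨φ c, φ d, rfl⟩
    exact hle hxmem0
  rw [Ideal.mem_span_pair] at hxmem
  obtain ⟨c, d, hcd⟩ := hxmem
  have h6 : (1 - (c * ArSing.x k r + d * ArSing.y k r)) * ArSing.x k r = 0 := by
    calc (1 - (c * ArSing.x k r + d * ArSing.y k r)) * ArSing.x k r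
        = ArSing.x k r - (c * ArSing.x k r ^ 2 + d * (ArSing.x k r * ArSing.y k r)) := by ring
      _ = 0 := by rw [hcd, sub_self]
  have h7 := (mem_nonZeroDivisors_iff_right.mp (x_mem_nonZeroDivisors k r)) _ h6
  have h8 : (1 : ArSing.ring k r) ∈ maximalIdeal (ArSing.ring k r) := by
    rw [sub_eq_zero] at h7
    rw [h7]
    exact Ideal.add_mem _ (Ideal.mul_mem_left _ _ (x_mem k r)) (Ideal.mul_mem_left _ _ (y_mem k r))
  exact (Ideal.ne_top_iff_one _).mp (Ideal.IsMaximal.ne_top inferInstance) h8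

include h2 hx hy hφx hφy in
theorem sigmaXY_main (hr : 1 ≤ r) :
    (∀ a : ArSing.ring k r, σ a = a ↔ a ∈ φ.range) ∧ Function.Injective φ ∧
    ¬ φ.toRingHom.Flat ∧
    Module.length (ArSing.ring k r) (ArSing.ring k r ⧸
      Ideal.span (Set.range fun a : ArSing.ring k r => σ a - a)) = 1 ∧
    ¬ (∃ g : ArSing.ring k r, g ∈ nonZeroDivisors (ArSing.ring k r) ∧
      Ideal.span (Set.range fun a : ArSing.ring k r => σ a - a) = Ideal.span {g}) := by
  refine ⟨sigmaXY_fixed_iff k r r' h2 σ hx hy φ hφx hφy, phi2_injective k r r' φ hφx hφy,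
    phi2_not_flat k r r' φ hφx hφy, ?_, ?_⟩
  · rw [sigmaXY_fixIdeal k r h2 σ hx hy]
    exact Groth.Agent.Lib.Helper5.HilbertRLR.length_quotient_maximalIdeal _
  · rintro ⟨g, -, hg⟩
    rw [sigmaXY_fixIdeal k r h2 σ hx hy] at hg
    exact maximalIdeal_ne_span_singleton k r hr g hg

end negXY

end Groth.Agent.Lib.R2H7.ArSingStruct
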