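/-
The node `A_1 = k[[x,y]]/(y^2 - x^2)` with the involution exchanging `x` and `y`:
branch maps `A_1 → k[[t]]`, invariants = image of `u ↦ u, v ↦ v^2`, the fixed locus is the
branch `v = 0`, the extension is not flat.
-/
import Mathlib
import Groth.Agent.Lib.R2H7ArSingFixXY

set_option autoImplicit false
universe u

namespace Groth.Agent.Lib.R2H7.ArSingStruct

open IsLocalRing

section node

variable (k : Type u) [Field k]

theorem ps_mem_maximalIdeal {a : PowerSeries k} :
    a ∈ maximalIdeal (PowerSeries k) ↔ PowerSeries.constantCoeff a = 0 := by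
  rw [mem_maximalIdeal, mem_nonunits_iff, PowerSeries.isUnit_iff_constantCoeff,
    isUnit_iff_ne_zero, not_not]

/-- A `k`-algebra map `A_r → k[[t]]` is local. -/
theorem algHom_mem_maximalIdeal_ps (r : ℕ) (ψ : ArSing.ring k r →ₐ[k] PowerSeries k)
    {a : ArSing.ring k r} (ha : a ∈ maximalIdeal (ArSing.ring k r)) :
    ψ a ∈ maximalIdeal (PowerSeries k) := by
  rw [ps_mem_maximalIdeal]
  by_contra hne
  set c : k := PowerSeries.constantCoeff (ψ a) with hc
  have hu : IsUnit (a - algebraMap k (ArSing.ring k r) c) := by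
    by_contra hnu
    have h1 : a - algebraMap k (ArSing.ring k r) c ∈ maximalIdeal (ArSing.ring k r) := hnu
    have h2 : algebraMap k (ArSing.ring k r) c ∈ maximalIdeal (ArSing.ring k r) := by
      have := Ideal.sub_mem _ ha h1
      rwa [sub_sub_cancel] at this
    exact h2 ((isUnit_iff_ne_zero.mpr hne).map (algebraMap k (ArSing.ring k r)))
  have hu2 := hu.map ψ
  rw [map_sub, AlgHom.commutes, PowerSeries.isUnit_iff_constantCoeff, map_sub, ← hc] at hu2
  have : PowerSeries.constantCoeff (algebraMap k (PowerSeries k) c) = c := by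
    rw [PowerSeries.algebraMap_apply, Algebra.algebraMap_self, RingHom.id_apply,
      PowerSeries.constantCoeff_C]
  rw [this, sub_self] at hu2
  exact not_isUnit_zero hu2

/-- Uniqueness of `k`-algebra maps `A_r → k[[t]]`. -/
theorem ring_algHom_ext_ps (r : ℕ) (φ₁ φ₂ : ArSing.ring k r →ₐ[k] PowerSeries k)
    (hx : φ₁ (ArSing.x k r) = φ₂ (ArSing.x k r))
    (hy : φ₁ (ArSing.y k r) = φ₂ (ArSing.y k r)) : φ₁ = φ₂ := by
  have : IsNoetherianRing (PowerSeries k) := inferInstance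
  apply Ideal.Quotient.algHom_ext
  apply Groth.Agent.Lib.Helper19.algHom_ext_of_X_of_isHausdorff (Λ := k) (σ := Fin 2)
    (maximalIdeal (PowerSeries k))
  · intro i
    fin_cases i
    · exact algHom_mem_maximalIdeal_ps k r φ₁ (x_mem k r)
    · exact algHom_mem_maximalIdeal_ps k r φ₁ (y_mem k r)
  · intro i
    fin_cases i
    · exact hx
    · exact hy

/-- The branch map on the model: `root ↦ c • t` for `c^2 = 1`. -/
noncomputable def brS (c : k) (hc : c ^ 2 = 1) : AdjoinRoot (pol k 1) →ₐ[k] PowerSeries k :=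
  AdjoinRoot.liftAlgHom (pol k 1) (AlgHom.id k (PowerSeries k)) (c • PowerSeries.X) (by
    rw [pol, Polynomial.eval₂_sub, Polynomial.eval₂_pow, Polynomial.eval₂_X, Polynomial.eval₂_C]
    change (c • (PowerSeries.X : PowerSeries k)) ^ 2 - PowerSeries.X ^ (1 + 1) = 0
    rw [smul_pow, hc, one_smul, sub_self])

/-- The branch map `A_1 → k[[t]]`, `x ↦ t`, `y ↦ c • t`. -/
noncomputable def br (c : k) (hc : c ^ 2 = 1) : ArSing.ring k 1 →ₐ[k] PowerSeries k :=
  (brS k c hc).comp (alpha k 1)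

theorem br_rep (c : k) (hc : c ^ 2 = 1) (a b : PowerSeries k) :
    br k c hc (ArSing.xMap k 1 a + ArSing.xMap k 1 b * ArSing.y k 1) =
      a + b * (c • PowerSeries.X) := by
  rw [br, AlgHom.comp_apply, map_add, map_mul, alpha_xMap, alpha_xMap, alpha_y, map_add, map_mul,
    brS, AdjoinRoot.liftAlgHom_of, AdjoinRoot.liftAlgHom_of, AdjoinRoot.liftAlgHom_root]
  rfl

theorem br_x (c : k) (hc : c ^ 2 = 1) : br k c hc (ArSing.x k 1) = PowerSeries.X := by
  have h := br_rep k c hc PowerSeries.X 0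
  rw [map_zero, zero_mul, add_zero, zero_mul, add_zero, xMap_X] at h
  exact h

theorem br_y (c : k) (hc : c ^ 2 = 1) : br k c hc (ArSing.y k 1) = c • PowerSeries.X := by
  have h := br_rep k c hc 0 1
  rw [map_zero, zero_add, map_one, one_mul, zero_add, one_mul] at h
  exact h

/-- The branch `y = x`. -/
noncomputable def P1 : ArSing.ring k 1 →ₐ[k] PowerSeries k := br k 1 (one_pow 2)

/-- The branch `y = -x`. -/
noncomputable def P2 : ArSing.ring k 1 →ₐ[k] PowerSeries k := br k (-1) (by ring)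

theorem P1_rep (a b : PowerSeries k) :
    P1 k (ArSing.xMap k 1 a + ArSing.xMap k 1 b * ArSing.y k 1) = a + b * PowerSeries.X := by
  rw [P1, br_rep, one_smul]

theorem P2_rep (a b : PowerSeries k) :
    P2 k (ArSing.xMap k 1 a + ArSing.xMap k 1 b * ArSing.y k 1) = a - b * PowerSeries.X := by
  rw [P2, br_rep, neg_smul, one_smul]
  ring

theorem P1_x : P1 k (ArSing.x k 1) = PowerSeries.X := br_x k 1 _
theorem P1_y : P1 k (ArSing.y k 1) = PowerSeries.X := by rw [P1, br_y, one_smul]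
theorem P2_x : P2 k (ArSing.x k 1) = PowerSeries.X := br_x k (-1) _
theorem P2_y : P2 k (ArSing.y k 1) = -PowerSeries.X := by rw [P2, br_y, neg_smul, one_smul]

theorem constantCoeff_P1_eq_P2 (a : ArSing.ring k 1) :
    PowerSeries.constantCoeff (P1 k a) = PowerSeries.constantCoeff (P2 k a) := by
  obtain ⟨a, b, rfl⟩ := exists_rep_ring k 1 a
  rw [P1_rep, P2_rep, map_add, map_sub, map_mul, PowerSeries.constantCoeff_X, mul_zero, add_zero,
    sub_zero]

variable (h2 : (2 : k) ≠ 0)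

include h2 in
theorem branch_eq_zero {a : ArSing.ring k 1} (h1 : P1 k a = 0) (h2' : P2 k a = 0) : a = 0 := by
  obtain ⟨a, b, rfl⟩ := exists_rep_ring k 1 a
  rw [P1_rep] at h1
  rw [P2_rep] at h2'
  have ha2 : (2 : k) • a = 0 := by
    rw [two_smul]
    linear_combination h1 + h2'
  have ha : a = 0 := (smul_eq_zero.mp ha2).resolve_left h2
  rw [ha, zero_add] at h1
  have hb : b = 0 := (mul_eq_zero.mp h1).resolve_right PowerSeries.X_ne_zero
  rw [ha, hb, map_zero, zero_mul, add_zero]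

include h2 in
theorem branch_ext {a b : ArSing.ring k 1} (h1 : P1 k a = P1 k b) (h2' : P2 k a = P2 k b) :
    a = b := by
  rw [← sub_eq_zero]
  apply branch_eq_zero k h2
  · rw [map_sub, h1, sub_self]
  · rw [map_sub, h2', sub_self]

include h2 in
theorem exists_branch (f g : PowerSeries k)
    (hfg : PowerSeries.constantCoeff f = PowerSeries.constantCoeff g) :
    ∃ c : ArSing.ring k 1, P1 k c = f ∧ P2 k c = g := by
  have hd : PowerSeries.X ∣ f - g := by
    rw [PowerSeries.X_dvd_iff, map_sub, hfg, sub_self]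
  obtain ⟨d, hd⟩ := hd
  refine ⟨ArSing.xMap k 1 ((2 : k)⁻¹ • (f + g)) + ArSing.xMap k 1 ((2 : k)⁻¹ • d) * ArSing.y k 1,
    ?_, ?_⟩
  · rw [P1_rep, smul_mul_assoc, ← smul_add]
    have : f + g + d * PowerSeries.X = (2 : k) • f := by
      rw [two_smul]
      linear_combination (-1 : PowerSeries k) * hd
    rw [this, smul_smul, inv_mul_cancel₀ h2, one_smul]
  · rw [P2_rep, smul_mul_assoc, ← smul_sub]
    have : f + g - d * PowerSeries.X = (2 : k) • g := by
      rw [two_smul]
      linear_combination hd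
    rw [this, smul_smul, inv_mul_cancel₀ h2, one_smul]

/-- `ker P1 = (y - x)`. -/
theorem P1_eq_zero_iff (a : ArSing.ring k 1) :
    P1 k a = 0 ↔ a ∈ Ideal.span {ArSing.y k 1 - ArSing.x k 1} := by
  constructor
  · intro h
    obtain ⟨a, b, rfl⟩ := exists_rep_ring k 1 a
    rw [P1_rep] at h
    have ha : a = -(b * PowerSeries.X) := eq_neg_of_add_eq_zero_left h
    rw [Ideal.mem_span_singleton]
    refine ⟨ArSing.xMap k 1 b, ?_⟩
    rw [ha, map_neg, map_mul, xMap_X]
    ring
  · intro h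
    rw [Ideal.mem_span_singleton] at h
    obtain ⟨c, rfl⟩ := h
    rw [map_mul, map_sub, P1_x, P1_y, sub_self, zero_mul]

theorem u_mul_v : (ArSing.x k 1 + ArSing.y k 1) * (ArSing.y k 1 - ArSing.x k 1) = 0 := by
  have h := y_sq k 1
  linear_combination h

include h2 in
theorem P1_u_ne_zero : P1 k (ArSing.x k 1 + ArSing.y k 1) ≠ 0 := by
  rw [map_add, P1_x, P1_y, ← two_smul k (PowerSeries.X : PowerSeries k)]
  intro h
  rcases smul_eq_zero.mp h with h | h
  · exact h2 h
  · exact PowerSeries.X_ne_zero h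

include h2 in
theorem v_not_mem_nonZeroDivisors :
    (ArSing.y k 1 - ArSing.x k 1) ∉ nonZeroDivisors (ArSing.ring k 1) := by
  intro h
  rw [mem_nonZeroDivisors_iff_right] at h
  have h0 := h _ (u_mul_v k)
  exact P1_u_ne_zero k h2 (by rw [h0, map_zero])

include h2 in
theorem span_v_mem_minimalPrimes :
    Ideal.span {ArSing.y k 1 - ArSing.x k 1} ∈ minimalPrimes (ArSing.ring k 1) := by
  have hker : Ideal.span {ArSing.y k 1 - ArSing.x k 1} = RingHom.ker (P1 k).toRingHom := by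
    ext a
    rw [RingHom.mem_ker]
    exact (P1_eq_zero_iff k a).symm
  have hprime : (Ideal.span {ArSing.y k 1 - ArSing.x k 1}).IsPrime := by
    rw [hker]
    exact RingHom.ker_isPrime _
  refine ⟨⟨hprime, bot_le⟩, ?_⟩
  rintro q ⟨hq, -⟩ hle
  rw [Ideal.span_le, Set.singleton_subset_iff]
  have h0 : (ArSing.x k 1 + ArSing.y k 1) * (ArSing.y k 1 - ArSing.x k 1) ∈ q := by
    rw [u_mul_v]; exact q.zero_mem
  rcases hq.mem_or_mem h0 with h | h
  · exfalso
    have := hle h
    rw [← P1_eq_zero_iff] at this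
    exact P1_u_ne_zero k h2 this
  · exact h

include h2 in
theorem x_eq_uv : ArSing.x k 1 =
    (2 : k)⁻¹ • ((ArSing.x k 1 + ArSing.y k 1) - (ArSing.y k 1 - ArSing.x k 1)) := by
  have : (ArSing.x k 1 + ArSing.y k 1) - (ArSing.y k 1 - ArSing.x k 1) = (2 : k) • ArSing.x k 1 := by
    rw [two_smul]; ring
  rw [this, smul_smul, inv_mul_cancel₀ h2, one_smul]

include h2 in
theorem y_eq_uv : ArSing.y k 1 =
    (2 : k)⁻¹ • ((ArSing.x k 1 + ArSing.y k 1) + (ArSing.y k 1 - ArSing.x k 1)) := by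
  have : (ArSing.x k 1 + ArSing.y k 1) + (ArSing.y k 1 - ArSing.x k 1) = (2 : k) • ArSing.y k 1 := by
    rw [two_smul]; ring
  rw [this, smul_smul, inv_mul_cancel₀ h2, one_smul]

include h2 in
theorem algHom_x_uv {B : Type*} [Ring B] [Algebra k B] (ψ : ArSing.ring k 1 →ₐ[k] B) :
    ψ (ArSing.x k 1) = (2 : k)⁻¹ • (ψ (ArSing.x k 1 + ArSing.y k 1) -
      ψ (ArSing.y k 1 - ArSing.x k 1)) := by
  have e := x_eq_uv k h2
  calc ψ (ArSing.x k 1) = ψ ((2 : k)⁻¹ • ((ArSing.x k 1 + ArSing.y k 1) -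
        (ArSing.y k 1 - ArSing.x k 1))) := congrArg ψ e
    _ = _ := by rw [map_smul, map_sub]

include h2 in
theorem algHom_y_uv {B : Type*} [Ring B] [Algebra k B] (ψ : ArSing.ring k 1 →ₐ[k] B) :
    ψ (ArSing.y k 1) = (2 : k)⁻¹ • (ψ (ArSing.x k 1 + ArSing.y k 1) +
      ψ (ArSing.y k 1 - ArSing.x k 1)) := by
  have e := y_eq_uv k h2
  calc ψ (ArSing.y k 1) = ψ ((2 : k)⁻¹ • ((ArSing.x k 1 + ArSing.y k 1) +
        (ArSing.y k 1 - ArSing.x k 1))) := congrArg ψ e
    _ = _ := by rw [map_smul, map_add]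

include h2 in
theorem algHom_x_of_uv {B : Type*} [Ring B] [Algebra k B] (ψ₁ ψ₂ : ArSing.ring k 1 →ₐ[k] B)
    (hu : ψ₁ (ArSing.x k 1 + ArSing.y k 1) = ψ₂ (ArSing.x k 1 + ArSing.y k 1))
    (hv : ψ₁ (ArSing.y k 1 - ArSing.x k 1) = ψ₂ (ArSing.y k 1 - ArSing.x k 1)) :
    ψ₁ (ArSing.x k 1) = ψ₂ (ArSing.x k 1) := by
  rw [algHom_x_uv k h2 ψ₁, algHom_x_uv k h2 ψ₂, hu, hv]

include h2 in
theorem algHom_y_of_uv {B : Type*} [Ring B] [Algebra k B] (ψ₁ ψ₂ : ArSing.ring k 1 →ₐ[k] B)
    (hu : ψ₁ (ArSing.x k 1 + ArSing.y k 1) = ψ₂ (ArSing.x k 1 + ArSing.y k 1))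
    (hv : ψ₁ (ArSing.y k 1 - ArSing.x k 1) = ψ₂ (ArSing.y k 1 - ArSing.x k 1)) :
    ψ₁ (ArSing.y k 1) = ψ₂ (ArSing.y k 1) := by
  rw [algHom_y_uv k h2 ψ₁, algHom_y_uv k h2 ψ₂, hu, hv]

include h2 in
/-- Uniqueness of `k`-algebra maps `A_1 → k[[t]]` in the branch coordinates. -/
theorem node_algHom_ext_ps (ψ₁ ψ₂ : ArSing.ring k 1 →ₐ[k] PowerSeries k)
    (hu : ψ₁ (ArSing.x k 1 + ArSing.y k 1) = ψ₂ (ArSing.x k 1 + ArSing.y k 1))
    (hv : ψ₁ (ArSing.y k 1 - ArSing.x k 1) = ψ₂ (ArSing.y k 1 - ArSing.x k 1)) : ψ₁ = ψ₂ :=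
  ring_algHom_ext_ps k 1 ψ₁ ψ₂ (algHom_x_of_uv k h2 ψ₁ ψ₂ hu hv) (algHom_y_of_uv k h2 ψ₁ ψ₂ hu hv)

/-! ### Rescaling -/

theorem rescaleAlgHom_apply' (w : k) (f : PowerSeries k) :
    PowerSeries.rescaleAlgHom w f = PowerSeries.rescale w f :=
  RingHom.congr_fun (PowerSeries.coe_rescaleAlgHom w) f

theorem rescale_ne_zero_injective {w : k} (hw : w ≠ 0) :
    Function.Injective (PowerSeries.rescale w) := by
  intro f g hfg
  have := congrArg (PowerSeries.rescale w⁻¹) hfg
  rwa [PowerSeries.rescale_rescale, PowerSeries.rescale_rescale, mul_inv_cancel₀ hw,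
    PowerSeries.rescale_one, RingHom.id_apply, RingHom.id_apply] at this

theorem rescale_neg_one_E2 (g : PowerSeries k) :
    PowerSeries.rescale (-1 : k) (E2 k g) = E2 k g := by
  ext n
  rw [PowerSeries.coeff_rescale, coeff_E2]
  split_ifs with h
  · rw [Even.neg_one_pow (even_iff_two_dvd.mpr h), one_mul]
  · rw [mul_zero]

include h2 in
theorem exists_E2_of_rescale_neg_one {g : PowerSeries k}
    (hg : PowerSeries.rescale (-1 : k) g = g) : ∃ g₀ : PowerSeries k, g = E2 k g₀ := by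
  refine ⟨PowerSeries.mk fun n => PowerSeries.coeff (2 * n) g, ?_⟩
  ext n
  rw [coeff_E2]
  split_ifs with h
  · rw [PowerSeries.coeff_mk, Nat.mul_div_cancel' h]
  · have hodd : Odd n := Nat.not_even_iff_odd.mp (fun he => h (even_iff_two_dvd.mp he))
    have h1 := congrArg (PowerSeries.coeff n) hg
    rw [PowerSeries.coeff_rescale, Odd.neg_one_pow hodd, neg_one_mul] at h1
    have h3 : (2 : k) * PowerSeries.coeff n g = 0 := by linear_combination -h1
    exact (mul_eq_zero.mp h3).resolve_left h2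

/-! ### The involution and the map `φ` -/

variable (σ : ArSing.ring k 1 ≃ₐ[k] ArSing.ring k 1) (hx : σ (ArSing.x k 1) = ArSing.y k 1)
  (hy : σ (ArSing.y k 1) = ArSing.x k 1)

include hx hy in
theorem P1_sigma (a : ArSing.ring k 1) : P1 k (σ a) = P1 k a := by
  have h := ring_algHom_ext_ps k 1 ((P1 k).comp (σ : ArSing.ring k 1 →ₐ[k] ArSing.ring k 1)) (P1 k)
    (by change P1 k (σ (ArSing.x k 1)) = _; rw [hx, P1_x, P1_y])
    (by change P1 k (σ (ArSing.y k 1)) = _; rw [hy, P1_x, P1_y])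
  exact AlgHom.congr_fun h a

include hx hy in
theorem P2_sigma (a : ArSing.ring k 1) :
    P2 k (σ a) = PowerSeries.rescale (-1 : k) (P2 k a) := by
  have h := ring_algHom_ext_ps k 1 ((P2 k).comp (σ : ArSing.ring k 1 →ₐ[k] ArSing.ring k 1))
    ((PowerSeries.rescaleAlgHom (-1 : k)).comp (P2 k))
    (by change P2 k (σ (ArSing.x k 1)) = _
        rw [hx, AlgHom.comp_apply, P2_x, P2_y, rescaleAlgHom_apply', PowerSeries.rescale_X,
          map_neg, map_one, neg_one_mul])
    (by change P2 k (σ (ArSing.y k 1)) = _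
        rw [hy, AlgHom.comp_apply, P2_x, P2_y, rescaleAlgHom_apply', map_neg,
          PowerSeries.rescale_X, map_neg, map_one, neg_one_mul, neg_neg])
  have h' := AlgHom.congr_fun h a
  rw [AlgHom.comp_apply, AlgHom.comp_apply, rescaleAlgHom_apply'] at h'
  exact h'

variable (φ : ArSing.ring k 1 →ₐ[k] ArSing.ring k 1)
  (hφu : φ (ArSing.x k 1 + ArSing.y k 1) = ArSing.x k 1 + ArSing.y k 1)
  (hφv : φ (ArSing.y k 1 - ArSing.x k 1) = (ArSing.y k 1 - ArSing.x k 1) ^ 2)

include h2 hφu hφv in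
theorem P1_phi (a : ArSing.ring k 1) : P1 k (φ a) = P1 k a := by
  have h := node_algHom_ext_ps k h2 ((P1 k).comp φ) (P1 k)
    (by rw [AlgHom.comp_apply, hφu])
    (by rw [AlgHom.comp_apply, hφv, map_pow, map_sub, P1_x, P1_y, sub_self]; ring)
  exact AlgHom.congr_fun h a

include h2 hφu hφv in
theorem P2_phi (a : ArSing.ring k 1) :
    P2 k (φ a) = E2 k (PowerSeries.rescale (-2 : k) (P2 k a)) := by
  have h := node_algHom_ext_ps k h2 ((P2 k).comp φ)
    (((E2 k).comp (PowerSeries.rescaleAlgHom (-2 : k))).comp (P2 k))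
    (by rw [AlgHom.comp_apply, hφu, AlgHom.comp_apply, map_add, P2_x, P2_y, add_neg_cancel,
          map_zero])
    (by rw [AlgHom.comp_apply, hφv, AlgHom.comp_apply, AlgHom.comp_apply, map_pow, map_sub, P2_x,
          P2_y, rescaleAlgHom_apply', map_sub, map_neg, PowerSeries.rescale_X, map_sub,
          map_neg, map_mul, E2_X]
        have hC : E2 k (PowerSeries.C (-2 : k)) = PowerSeries.C (-2 : k) := by
          have := (E2 k).commutes (-2 : k)
          rwa [PowerSeries.algebraMap_apply, Algebra.algebraMap_self, RingHom.id_apply] at this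
        rw [hC, map_neg, map_ofNat]
        ring)
  have h' := AlgHom.congr_fun h a
  rw [AlgHom.comp_apply, AlgHom.comp_apply, AlgHom.comp_apply, rescaleAlgHom_apply'] at h'
  exact h'

include h2 hφu hφv in
theorem phiNode_injective : Function.Injective φ := by
  rw [injective_iff_map_eq_zero]
  intro a ha
  have hm2 : (-2 : k) ≠ 0 := neg_ne_zero.mpr h2
  apply branch_eq_zero k h2
  · rw [← P1_phi k h2 φ hφu hφv, ha, map_zero]
  · have := P2_phi k h2 φ hφu hφv a
    rw [ha, map_zero] at this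
    have h3 : PowerSeries.rescale (-2 : k) (P2 k a) = 0 := by
      apply E2_injective k
      rw [← this, map_zero]
    apply rescale_ne_zero_injective k hm2
    rw [h3, map_zero]

include h2 hx hy hφu hφv in
theorem sigmaNode_fixed_iff (a : ArSing.ring k 1) : σ a = a ↔ a ∈ φ.range := by
  have hm2 : (-2 : k) ≠ 0 := neg_ne_zero.mpr h2
  constructor
  · intro ha
    have hg : PowerSeries.rescale (-1 : k) (P2 k a) = P2 k a := by
      rw [← P2_sigma k σ hx hy, ha]
    obtain ⟨g₀, hg₀⟩ := exists_E2_of_rescale_neg_one k h2 hg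
    have hcc : PowerSeries.constantCoeff (P1 k a) =
        PowerSeries.constantCoeff (PowerSeries.rescale ((-2 : k)⁻¹) g₀) := by
      rw [constantCoeff_P1_eq_P2, hg₀, constantCoeff_E2, ← PowerSeries.coeff_zero_eq_constantCoeff_apply,
        ← PowerSeries.coeff_zero_eq_constantCoeff_apply, PowerSeries.coeff_rescale, pow_zero, one_mul]
    obtain ⟨b, hb1, hb2⟩ := exists_branch k h2 _ _ hcc
    refine ⟨b, ?_⟩
    apply branch_ext k h2
    · change P1 k (φ b) = P1 k a
      rw [P1_phi k h2 φ hφu hφv, hb1]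
    · change P2 k (φ b) = P2 k a
      rw [P2_phi k h2 φ hφu hφv, hb2, PowerSeries.rescale_rescale, inv_mul_cancel₀ hm2,
        PowerSeries.rescale_one, RingHom.id_apply, ← hg₀]
  · rintro ⟨b, rfl⟩
    apply branch_ext k h2
    · exact P1_sigma k σ hx hy _
    · change P2 k (σ (φ b)) = P2 k (φ b)
      rw [P2_sigma k σ hx hy, P2_phi k h2 φ hφu hφv, rescale_neg_one_E2]

include hx hy in
theorem sigmaNode_fixIdeal :
    Ideal.span (Set.range fun a : ArSing.ring k 1 => σ a - a) =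
      Ideal.span {ArSing.y k 1 - ArSing.x k 1} := by
  apply le_antisymm
  · rw [Ideal.span_le]
    rintro _ ⟨a, rfl⟩
    change σ a - a ∈ Ideal.span {ArSing.y k 1 - ArSing.x k 1}
    rw [← P1_eq_zero_iff, map_sub, P1_sigma k σ hx hy, sub_self]
  · rw [Ideal.span_le, Set.singleton_subset_iff]
    apply Ideal.subset_span
    exact ⟨ArSing.x k 1, by change σ (ArSing.x k 1) - ArSing.x k 1 = _; rw [hx]⟩

include h2 hφu hφv in
theorem phiNode_not_flat : ¬ φ.toRingHom.Flat := by
  intro hflat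
  have hmem := mem_map_of_flat_of_syz φ.toRingHom hflat (ArSing.x k 1 + ArSing.y k 1) 0
    (ArSing.y k 1 - ArSing.x k 1) 0 (Ideal.span {ArSing.y k 1 - ArSing.x k 1})
    (by
      change φ (ArSing.x k 1 + ArSing.y k 1) * (ArSing.y k 1 - ArSing.x k 1) + φ 0 * 0 = 0
      rw [hφu, u_mul_v, mul_zero, add_zero])
    (by
      intro s t hst
      rw [zero_mul, add_zero] at hst
      rw [← P1_eq_zero_iff]
      have := congrArg (P1 k) hst
      rw [map_mul, map_zero] at this
      exact (mul_eq_zero.mp this).resolve_left (P1_u_ne_zero k h2))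
  rw [Ideal.map_span, Set.image_singleton] at hmem
  change ArSing.y k 1 - ArSing.x k 1 ∈ Ideal.span {φ (ArSing.y k 1 - ArSing.x k 1)} at hmem
  rw [hφv, Ideal.mem_span_singleton] at hmem
  obtain ⟨c, hc⟩ := hmem
  have h3 := congrArg (P2 k) hc
  rw [map_mul, map_pow, map_sub, P2_x, P2_y] at h3
  have h4 := congrArg (PowerSeries.coeff 1) h3
  have e1 : (-PowerSeries.X - PowerSeries.X : PowerSeries k) ^ 2 * P2 k c =
      PowerSeries.X ^ 2 * ((4 : PowerSeries k) * P2 k c) := by ring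
  rw [e1, PowerSeries.coeff_X_pow_mul', if_neg (by norm_num), map_sub, map_neg,
    PowerSeries.coeff_one_X] at h4
  apply h2
  linear_combination -h4

include h2 hx hy hφu hφv in
theorem sigmaNode_main :
    (∀ a : ArSing.ring k 1, σ a = a ↔ a ∈ φ.range) ∧ Function.Injective φ ∧
    Ideal.span (Set.range fun a : ArSing.ring k 1 => σ a - a) =
      Ideal.span {ArSing.y k 1 - ArSing.x k 1} ∧
    (ArSing.y k 1 - ArSing.x k 1) ∉ nonZeroDivisors (ArSing.ring k 1) ∧
    Ideal.span {ArSing.y k 1 - ArSing.x k 1} ∈ minimalPrimes (ArSing.ring k 1) ∧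
    ¬ φ.toRingHom.Flat :=
  ⟨sigmaNode_fixed_iff k h2 σ hx hy φ hφu hφv, phiNode_injective k h2 φ hφu hφv,
    sigmaNode_fixIdeal k σ hx hy, v_not_mem_nonZeroDivisors k h2, span_v_mem_minimalPrimes k h2,
    phiNode_not_flat k h2 φ hφu hφv⟩

end node

end Groth.Agent.Lib.R2H7.ArSingStruct
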