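import Mathlib

/-!
# Corepresentability of `Q ↦ Hom_{k[[z]]}(R, Q[[z]])` (free construction)

For a commutative ring `k`, an index type `σ` and a `k[[σ]]`-algebra `R` we build the
`k`-algebra `P` generated by symbols `c (r, m)` (`r : R`, `m : σ →₀ ℕ`, "the coefficient of `z^m`
in the image of `r`") modulo the relations which make `r ↦ ∑ c (r, m) z^m` a `k[[σ]]`-algebra
homomorphism, and prove its universal property.
-/

namespace Groth.Agent.Lib.R2H7.Arcs

open MvPowerSeries

universe u w

variable (k : Type u) [CommRing k] (σ : Type w)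
variable (R : Type u) [CommRing R] [Algebra (MvPowerSeries σ k) R]

/-- the free polynomial ring on the symbols `(r, m)` -/
abbrev Free : Type (max u w) := MvPolynomial (R × (σ →₀ ℕ)) k

open Classical in
/-- the relations -/
inductive Rel : Free k σ R → Prop
  | add (r r' : R) (m : σ →₀ ℕ) :
      Rel (MvPolynomial.X (r + r', m) - MvPolynomial.X (r, m) - MvPolynomial.X (r', m))
  | mul (r r' : R) (m : σ →₀ ℕ) :
      Rel (MvPolynomial.X (r * r', m) -
        ∑ p ∈ Finset.HasAntidiagonal.antidiagonal m, MvPolynomial.X (r, p.1) * MvPolynomial.X (r', p.2))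
  | alg (g : MvPowerSeries σ k) (m : σ →₀ ℕ) :
      Rel (MvPolynomial.X (algebraMap (MvPowerSeries σ k) R g, m) - MvPolynomial.C (coeff m g))

/-- the ideal of relations -/
noncomputable def relIdeal : Ideal (Free k σ R) := Ideal.span {x | Rel k σ R x}

/-- the corepresenting algebra -/
abbrev P : Type (max u w) := Free k σ R ⧸ relIdeal k σ R

/-- the generator `c (r, m)` -/
noncomputable def c (r : R) (m : σ →₀ ℕ) : P k σ R :=
  Ideal.Quotient.mk (relIdeal k σ R) (MvPolynomial.X (r, m))

variable {k σ R}

theorem c_add (r r' : R) (m : σ →₀ ℕ) : c k σ R (r + r') m = c k σ R r m + c k σ R r' m := by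
  have h : (MvPolynomial.X (r + r', m) - MvPolynomial.X (r, m) - MvPolynomial.X (r', m) :
      Free k σ R) ∈ relIdeal k σ R := Ideal.subset_span (Rel.add r r' m)
  have h2 := (Ideal.Quotient.eq_zero_iff_mem).mpr h
  simp only [map_sub] at h2
  unfold c
  linear_combination h2

open Classical in
theorem c_mul (r r' : R) (m : σ →₀ ℕ) :
    c k σ R (r * r') m = ∑ p ∈ Finset.HasAntidiagonal.antidiagonal m, c k σ R r p.1 * c k σ R r' p.2 := by
  have h : (MvPolynomial.X (r * r', m) -
        ∑ p ∈ Finset.HasAntidiagonal.antidiagonal m, MvPolynomial.X (r, p.1) * MvPolynomial.X (r', p.2) :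
      Free k σ R) ∈ relIdeal k σ R := by
    refine Ideal.subset_span ?_
    change Rel k σ R _
    convert Rel.mul (k := k) r r' m
  have h2 := (Ideal.Quotient.eq_zero_iff_mem).mpr h
  simp only [map_sub, map_sum, map_mul] at h2
  unfold c
  linear_combination h2

theorem c_alg (g : MvPowerSeries σ k) (m : σ →₀ ℕ) :
    c k σ R (algebraMap (MvPowerSeries σ k) R g) m = algebraMap k (P k σ R) (coeff m g) := by
  have h : (MvPolynomial.X (algebraMap (MvPowerSeries σ k) R g, m) - MvPolynomial.C (coeff m g) :
      Free k σ R) ∈ relIdeal k σ R := Ideal.subset_span (Rel.alg g m)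
  have h2 := (Ideal.Quotient.eq_zero_iff_mem).mpr h
  simp only [map_sub] at h2
  unfold c
  rw [sub_eq_zero] at h2
  rw [h2]
  rfl

variable (k σ R)

/-- the universal arc -/
noncomputable def u : R →ₐ[MvPowerSeries σ k] MvPowerSeries σ (P k σ R) where
  toFun r := fun m => c k σ R r m
  map_one' := by
    classical
    ext m
    have h1 : (1 : R) = algebraMap (MvPowerSeries σ k) R 1 := (map_one _).symm
    change c k σ R 1 m = coeff m (1 : MvPowerSeries σ (P k σ R))
    rw [h1, c_alg, coeff_one, coeff_one]
    split_ifs <;> simp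
  map_mul' r r' := by
    classical
    ext m
    change c k σ R (r * r') m = coeff m (_ * _)
    rw [c_mul, coeff_mul]
    rfl
  map_zero' := by
    ext m
    have h1 : (0 : R) = algebraMap (MvPowerSeries σ k) R 0 := (map_zero _).symm
    change c k σ R 0 m = coeff m (0 : MvPowerSeries σ (P k σ R))
    rw [h1, c_alg]
    simp
  map_add' r r' := by
    ext m
    change c k σ R (r + r') m = coeff m (_ + _)
    rw [c_add, map_add]
    rfl
  commutes' g := by
    ext m
    change c k σ R _ m = coeff m (algebraMap (MvPowerSeries σ k) (MvPowerSeries σ (P k σ R)) g)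
    rw [c_alg, algebraMap_apply'', coeff_map]

theorem coeff_u (r : R) (m : σ →₀ ℕ) : coeff m (u k σ R r) = c k σ R r m := rfl

variable {k σ R}

section lift

variable {Q : Type*} [CommRing Q] [Algebra k Q]
  (f : R →ₐ[MvPowerSeries σ k] MvPowerSeries σ Q)

/-- the lift on the free algebra -/
noncomputable def lift₀ : Free k σ R →ₐ[k] Q :=
  MvPolynomial.aeval (fun x : R × (σ →₀ ℕ) => coeff x.2 (f x.1))

theorem lift₀_rel (x : Free k σ R) (hx : Rel k σ R x) : lift₀ f x = 0 := by
  classical
  cases hx with
  | add r r' m => simp [lift₀]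
  | mul r r' m =>
    simp only [lift₀, map_sub, MvPolynomial.aeval_X, map_mul, map_sum, coeff_mul]
    rw [sub_eq_zero]
  | alg g m =>
    simp only [lift₀, map_sub, MvPolynomial.aeval_X, MvPolynomial.aeval_C, AlgHom.commutes,
      algebraMap_apply'', coeff_map, sub_self]

theorem relIdeal_le_ker : relIdeal k σ R ≤ RingHom.ker (lift₀ f).toRingHom := by
  refine Ideal.span_le.mpr ?_
  intro x hx
  exact lift₀_rel f x hx

/-- the lift -/
noncomputable def lift : P k σ R →ₐ[k] Q :=
  Ideal.Quotient.liftₐ (relIdeal k σ R) (lift₀ f) (fun a ha => relIdeal_le_ker f ha)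

theorem lift_c (r : R) (m : σ →₀ ℕ) : lift f (c k σ R r m) = coeff m (f r) := by
  unfold lift c
  rw [Ideal.Quotient.liftₐ_apply, Ideal.Quotient.lift_mk]
  simp [lift₀]

theorem map_lift_comp_u :
    (MvPowerSeries.map (σ := σ) (lift f : P k σ R →+* Q)).comp (u k σ R : R →+* _) =
      (f : R →+* MvPowerSeries σ Q) := by
  ext r m
  simp only [RingHom.coe_comp, RingHom.coe_coe, Function.comp_apply, coeff_map, coeff_u]
  exact lift_c f r m

theorem lift_unique (g : P k σ R →ₐ[k] Q)
    (hg : (MvPowerSeries.map (σ := σ) (g : P k σ R →+* Q)).comp (u k σ R : R →+* _) =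
      (f : R →+* MvPowerSeries σ Q)) : g = lift f := by
  have key : ∀ r m, g (c k σ R r m) = coeff m (f r) := by
    intro r m
    have := congrArg (fun φ : R →+* MvPowerSeries σ Q => coeff m (φ r)) hg
    simpa [coeff_u] using this
  apply Ideal.Quotient.algHom_ext
  apply MvPolynomial.algHom_ext
  intro x
  obtain ⟨r, m⟩ := x
  change g (c k σ R r m) = lift f (c k σ R r m)
  rw [key, lift_c]

end lift

/-- the set of generators attached to a generating set `s` of `R` -/
def genSet (s : Set R) : Set (P k σ R) :=
  (fun x : R × (σ →₀ ℕ) => c k σ R x.1 x.2) '' (s ×ˢ Set.univ)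

theorem genSet_countable [Countable σ] (s : Set R) (hs : s.Countable) :
    (genSet (k := k) (σ := σ) s).Countable :=
  (hs.prod Set.countable_univ).image _

theorem adjoin_genSet (s : Set R) (hs : Algebra.adjoin (MvPowerSeries σ k) s = ⊤) :
    Algebra.adjoin k (genSet (k := k) (σ := σ) s) = ⊤ := by
  classical
  set T := Algebra.adjoin k (genSet (k := k) (σ := σ) s) with hT
  -- the subalgebra of `R` of elements all of whose coefficients lie in `T`
  let S' : Subalgebra (MvPowerSeries σ k) R :=
    { carrier := {r | ∀ m, c k σ R r m ∈ T}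
      mul_mem' := by
        intro a b ha hb m
        rw [c_mul]
        exact Subalgebra.sum_mem _ (fun p _ => Subalgebra.mul_mem _ (ha _) (hb _))
      add_mem' := by
        intro a b ha hb m
        rw [c_add]
        exact Subalgebra.add_mem _ (ha _) (hb _)
      algebraMap_mem' := by
        intro g m
        rw [c_alg]
        exact Subalgebra.algebraMap_mem _ _ }
  have hsS : s ⊆ S' := by
    intro r hr m
    exact Algebra.subset_adjoin ⟨(r, m), ⟨hr, Set.mem_univ _⟩, rfl⟩
  have hS' : S' = ⊤ := by
    rw [eq_top_iff, ← hs]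
    exact Algebra.adjoin_le hsS
  have hall : ∀ r m, c k σ R r m ∈ T := by
    intro r m
    have : r ∈ S' := by rw [hS']; trivial
    exact this m
  rw [eq_top_iff]
  rintro x -
  obtain ⟨p, rfl⟩ := Ideal.Quotient.mk_surjective x
  induction p using MvPolynomial.induction_on with
  | C a => exact Subalgebra.algebraMap_mem T a
  | add p q hp hq =>
    rw [map_add]
    exact Subalgebra.add_mem _ hp hq
  | mul_X p x hp =>
    rw [map_mul]
    exact Subalgebra.mul_mem _ hp (hall x.1 x.2)

end Groth.Agent.Lib.R2H7.Arcs
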