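/-
Artinian Gorenstein local rings.
* `exists_mul_of_socle`: a zero-dimensional Gorenstein local ring has a simple socle;
* `gor_of_pairing`: a finite-dimensional local algebra over a field with a non-degenerate
  associative form (a Frobenius algebra) is a Gorenstein local ring;
* `gor_iff_quot`: for a Noetherian domain `R`, a maximal ideal `m`, a prime element `x ∈ m` and
  `y ∈ m` outside `(x)` such that `R/(x,y)` is local with maximal ideal `m/(x,y)`:
  `R_m` is Gorenstein iff `R/(x,y)` is.
-/
import Mathlib
import Groth.Agent.Lib.R2H7GrGorBass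
import Groth.Agent.Lib.Helper5GorRing
import Groth.Agent.S0343

set_option autoImplicit false
set_option linter.style.haveILetI false

universe u

open CategoryTheory CategoryTheory.Abelian IsLocalRing LocCoh

noncomputable section

namespace Groth.Agent.Lib.R2H7.ArtGor

open Groth.Agent.Lib.Helper29.GorHull Groth.Agent.Lib.R2H7.GrGorBass

/-! ### Simple socle -/

section simpleSocle

variable (A : Type u) [CommRing A] [hA : IsGorensteinLocalRing A]

/-- The socle of a zero-dimensional Gorenstein local ring is simple. -/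
theorem exists_mul_of_socle (hdim : ringKrullDim A = 0) {a b : A}
    (ha : ∀ q ∈ maximalIdeal A, q * a = 0) (hb : ∀ q ∈ maximalIdeal A, q * b = 0)
    (ha0 : a ≠ 0) : ∃ c : A, b = c * a := by
  have h1 : GrLC.bassNumLocal A A 0 = 1 := by
    have := bassNumLocal_of_gorenstein A 0 (by simpa using hdim) 0
    simpa using this
  rw [bassNumLocal_eq] at h1
  let e : Ext.{u} (ModuleCat.of A (kq A)) (ModuleCat.of A A) 0 ≃ₗ[A] (kq A →ₗ[A] A) :=
    (Ext.linearEquiv₀ (R := A)).trans (ModuleCat.homLinearEquiv (S := A))
  rw [e.length_eq] at h1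
  haveI : IsSimpleModule A (kq A →ₗ[A] A) := Module.length_eq_one_iff.mp h1
  have hmk : ∀ (c : A) (hc : ∀ q ∈ maximalIdeal A, q * c = 0),
      ∃ f : kq A →ₗ[A] A, f (Ideal.Quotient.mk _ 1) = c := by
    intro c hc
    refine ⟨Submodule.liftQ (maximalIdeal A) (LinearMap.toSpanSingleton A A c) ?_, ?_⟩
    · intro q hq
      rw [LinearMap.mem_ker, LinearMap.toSpanSingleton_apply, smul_eq_mul]
      exact hc q hq
    · show Submodule.liftQ (maximalIdeal A) (LinearMap.toSpanSingleton A A c) _
        (Submodule.Quotient.mk 1) = c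
      rw [Submodule.liftQ_apply, LinearMap.toSpanSingleton_apply, one_smul]
  obtain ⟨fa, hfa⟩ := hmk a ha
  obtain ⟨fb, hfb⟩ := hmk b hb
  have hfa0 : fa ≠ 0 := by
    intro h
    rw [h, LinearMap.zero_apply] at hfa
    exact ha0 hfa.symm
  obtain ⟨c, hc⟩ := IsSimpleModule.toSpanSingleton_surjective A hfa0 fb
  refine ⟨c, ?_⟩
  rw [LinearMap.toSpanSingleton_apply] at hc
  rw [← hfb, ← hc, LinearMap.smul_apply, hfa, smul_eq_mul]

end simpleSocle

/-! ### Frobenius algebras -/

section frobenius

variable {k : Type u} [Field k] (B : Type u) [CommRing B] [Algebra k B] [Module.Finite k B]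
  [IsLocalRing B]

/-- A finite-dimensional local algebra with a non-degenerate associative form is Gorenstein. -/
theorem gor_of_pairing (lam : B →ₗ[k] k) (hnd : ∀ a : B, a ≠ 0 → ∃ b : B, lam (a * b) ≠ 0) :
    IsGorensteinLocalRing B := by
  classical
  haveI : IsNoetherian k B := isNoetherian_of_isNoetherianRing_of_finite k B
  haveI hN : IsNoetherianRing B := isNoetherian_of_tower k (inferInstance : IsNoetherian k B)
  let Θ : B →ₗ[k] Module.Dual k B := (LinearMap.mul k B).compr₂ lam
  have hΘ : ∀ a b : B, Θ a b = lam (a * b) := fun a b => rfl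
  have hΘinj : Function.Injective Θ := by
    rw [injective_iff_map_eq_zero]
    intro a h
    by_contra ha
    obtain ⟨b, hb⟩ := hnd a ha
    apply hb
    rw [← hΘ, h, LinearMap.zero_apply]
  have hΘsurj : Function.Surjective Θ :=
    (LinearMap.injective_iff_surjective_of_finrank_eq_finrank
      (Subspace.dual_finrank_eq (K := k) (V := B)).symm).mp hΘinj
  have hbaer : Module.Baer B B := by
    intro I g
    let G₀ : ↥(I.restrictScalars k) →ₗ[k] k :=
      { toFun := fun x => lam (g ⟨x.1, x.2⟩)
        map_add' := fun x y => by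
          have : (⟨(x + y).1, (x + y).2⟩ : ↥I) = ⟨x.1, x.2⟩ + ⟨y.1, y.2⟩ := rfl
          rw [this, map_add, map_add]
        map_smul' := fun c x => by
          have : (⟨(c • x).1, (c • x).2⟩ : ↥I) = (algebraMap k B c) • (⟨x.1, x.2⟩ : ↥I) := by
            apply Subtype.ext
            show c • x.1 = algebraMap k B c • x.1
            rw [Algebra.smul_def, smul_eq_mul]
          rw [this, map_smul, smul_eq_mul, ← Algebra.smul_def, map_smul]
          rfl }
    obtain ⟨G, hG⟩ := LinearMap.exists_extend G₀
    obtain ⟨b₀, hb₀⟩ := hΘsurj G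
    refine ⟨LinearMap.toSpanSingleton B B b₀, fun x hx => ?_⟩
    rw [LinearMap.toSpanSingleton_apply, smul_eq_mul]
    by_contra hne
    obtain ⟨c, hc⟩ := hnd (g ⟨x, hx⟩ - x * b₀) (sub_ne_zero.mpr (Ne.symm hne))
    apply hc
    have h1 : lam (g ⟨x, hx⟩ * c) = G (c * x) := by
      have h2 : G (c * x) = G₀ ⟨c * x, I.mul_mem_left c hx⟩ := by
        rw [← hG]
        rfl
      rw [h2]
      show lam (g ⟨x, hx⟩ * c) = lam (g ⟨c * x, _⟩)
      have h3 : (⟨c * x, I.mul_mem_left c hx⟩ : ↥I) = c • (⟨x, hx⟩ : ↥I) := rfl
      rw [h3, map_smul, smul_eq_mul, mul_comm]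
    have h4 : G (c * x) = lam (x * b₀ * c) := by
      rw [← hb₀, hΘ]
      congr 1
      ring
    rw [sub_mul, map_sub, h1, h4, sub_self]
  haveI : Module.Injective B B := hbaer.injective
  haveI : Injective (ModuleCat.of B B) := Module.injective_object_of_injective_module B B
  exact @IsGorensteinLocalRing.mk B _ hN inferInstance ⟨1, inferInstance⟩

end frobenius

/-! ### Cutting down by a regular sequence of length two -/

section chain

variable {R : Type u} [CommRing R] [IsDomain R] [IsNoetherianRing R] (m : Ideal R)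
  [hm : m.IsMaximal]

theorem gor_iff_quot (x y : R) (hx : Prime x) (hxm : x ∈ m) (hym : y ∈ m)
    (hy : y ∉ Ideal.span {x})
    (hunit : ∀ s : R, s ∉ m → IsUnit (Ideal.Quotient.mk (Ideal.span {x, y}) s)) :
    IsGorensteinLocalRing (Localization.AtPrime m) ↔
      IsGorensteinLocalRing (R ⧸ Ideal.span {x, y}) := by
  classical
  have hM : m.primeCompl ≤ nonZeroDivisors R := by
    intro s hs
    apply mem_nonZeroDivisors_of_ne_zero
    rintro rfl
    exact hs (zero_mem m)
  haveI : IsDomain (Localization.AtPrime m) := IsLocalization.isDomain_localization hM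
  have hfinj : Function.Injective (algebraMap R (Localization.AtPrime m)) :=
    IsLocalization.injective _ hM
  have hxle : Ideal.span {x} ≤ m := Ideal.span_le.mpr (Set.singleton_subset_iff.mpr hxm)
  have hdisj : Disjoint (m.primeCompl : Set R) (Ideal.span {x} : Set R) := by
    rw [Set.disjoint_left]
    intro s hs hsx
    exact hs (hxle hsx)
  have hpx : (Ideal.span {x}).IsPrime := (Ideal.span_singleton_prime hx.ne_zero).mpr hx
  have hmap : Ideal.map (algebraMap R (Localization.AtPrime m)) (Ideal.span {x}) =
      Ideal.span {algebraMap R (Localization.AtPrime m) x} := by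
    rw [Ideal.map_span, Set.image_singleton]
  haveI hpx₀ : (Ideal.span {algebraMap R (Localization.AtPrime m) x}).IsPrime := by
    rw [← hmap]
    exact IsLocalization.isPrime_of_isPrime_disjoint m.primeCompl _ _ hpx hdisj
  have hx₀mem : algebraMap R (Localization.AtPrime m) x ∈ maximalIdeal (Localization.AtPrime m) :=
    (IsLocalization.AtPrime.to_map_mem_maximal_iff _ m x).mpr hxm
  have hy₀mem : algebraMap R (Localization.AtPrime m) y ∈ maximalIdeal (Localization.AtPrime m) :=
    (IsLocalization.AtPrime.to_map_mem_maximal_iff _ m y).mpr hym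
  have hx₀ne : algebraMap R (Localization.AtPrime m) x ≠ 0 := by
    intro h
    exact hx.ne_zero (hfinj (h.trans (map_zero _).symm))
  have hx₀reg : IsSMulRegular (Localization.AtPrime m) (algebraMap R (Localization.AtPrime m) x) := by
    intro a b hab
    exact mul_left_cancel₀ hx₀ne hab
  have h1 := Groth.Agent.S0343.result (Localization.AtPrime m) _ hx₀mem hx₀reg
  haveI : IsDomain (Localization.AtPrime m ⧸
      Ideal.span {algebraMap R (Localization.AtPrime m) x}) := Ideal.Quotient.isDomain _
  haveI : IsLocalRing (Localization.AtPrime m ⧸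
      Ideal.span {algebraMap R (Localization.AtPrime m) x}) :=
    IsLocalRing.of_surjective' (Ideal.Quotient.mk _) Ideal.Quotient.mk_surjective
  have hle₀ : Ideal.span {algebraMap R (Localization.AtPrime m) x} ≤
      maximalIdeal (Localization.AtPrime m) :=
    Ideal.span_le.mpr (Set.singleton_subset_iff.mpr hx₀mem)
  have hy₁mem : Ideal.Quotient.mk (Ideal.span {algebraMap R (Localization.AtPrime m) x})
      (algebraMap R (Localization.AtPrime m) y) ∈ maximalIdeal _ := by
    rw [IsLocalRing.mem_maximalIdeal, mem_nonunits_iff]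
    intro hu
    obtain ⟨w, hw⟩ := hu.exists_right_inv
    obtain ⟨z, rfl⟩ := Ideal.Quotient.mk_surjective w
    rw [← map_mul, ← map_one (Ideal.Quotient.mk
      (Ideal.span {algebraMap R (Localization.AtPrime m) x})), Ideal.Quotient.eq] at hw
    have h2 := hle₀ hw
    have h3 : algebraMap R (Localization.AtPrime m) y * z ∈
        maximalIdeal (Localization.AtPrime m) := Ideal.mul_mem_right _ _ hy₀mem
    have h4 : (1 : Localization.AtPrime m) ∈ maximalIdeal (Localization.AtPrime m) := by
      have := sub_mem h3 h2
      rwa [sub_sub_cancel] at this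
    exact (Ideal.ne_top_iff_one _).mp (IsLocalRing.maximalIdeal.isMaximal _).ne_top h4
  have hy₁ne : Ideal.Quotient.mk (Ideal.span {algebraMap R (Localization.AtPrime m) x})
      (algebraMap R (Localization.AtPrime m) y) ≠ 0 := by
    intro h
    rw [Ideal.Quotient.eq_zero_iff_mem, ← hmap] at h
    have h2 : y ∈ (Ideal.map (algebraMap R (Localization.AtPrime m)) (Ideal.span {x})).under R := h
    rw [IsLocalization.under_map_of_isPrime_disjoint m.primeCompl _ hpx hdisj] at h2
    exact hy h2
  have hy₁reg : IsSMulRegular (Localization.AtPrime m ⧸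
      Ideal.span {algebraMap R (Localization.AtPrime m) x})
      (Ideal.Quotient.mk (Ideal.span {algebraMap R (Localization.AtPrime m) x})
        (algebraMap R (Localization.AtPrime m) y)) := by
    intro a b hab
    exact mul_left_cancel₀ hy₁ne hab
  have h2 := Groth.Agent.S0343.result _ _ hy₁mem hy₁reg
  -- the identification
  have hspan1 : (Ideal.span {algebraMap R (Localization.AtPrime m) y}).map
      (Ideal.Quotient.mk (Ideal.span {algebraMap R (Localization.AtPrime m) x})) =
      Ideal.span {Ideal.Quotient.mk (Ideal.span {algebraMap R (Localization.AtPrime m) x})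
        (algebraMap R (Localization.AtPrime m) y)} := by
    rw [Ideal.map_span, Set.image_singleton]
  have hspan2 : Ideal.span {algebraMap R (Localization.AtPrime m) x} ⊔
      Ideal.span {algebraMap R (Localization.AtPrime m) y} =
      Ideal.map (algebraMap R (Localization.AtPrime m)) (Ideal.span {x, y}) := by
    rw [Ideal.map_span, Set.image_pair, Ideal.span_insert]
  let e1 := (Ideal.quotEquivOfEq hspan1.symm).trans
    ((DoubleQuot.quotQuotEquivQuotSup (Ideal.span {algebraMap R (Localization.AtPrime m) x})
      (Ideal.span {algebraMap R (Localization.AtPrime m) y})).trans (Ideal.quotEquivOfEq hspan2))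
  have hinj3 : Function.Injective (Ideal.quotientMap
      (Ideal.map (algebraMap R (Localization.AtPrime m)) (Ideal.span {x, y}))
      (algebraMap R (Localization.AtPrime m)) Ideal.le_comap_map) := by
    apply Ideal.quotientMap_injective'
    intro r hr
    rw [Ideal.mem_comap, IsLocalization.mem_map_algebraMap_iff m.primeCompl] at hr
    obtain ⟨⟨j, s⟩, hjs⟩ := hr
    rw [← map_mul] at hjs
    have h3 : r * (s : R) = j := hfinj hjs
    have h4 : Ideal.Quotient.mk (Ideal.span {x, y}) r *
        Ideal.Quotient.mk (Ideal.span {x, y}) (s : R) = 0 := by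
      rw [← map_mul, h3, Ideal.Quotient.eq_zero_iff_mem]
      exact j.2
    have h5 := (hunit (s : R) s.2).mul_left_eq_zero.mp h4
    exact Ideal.Quotient.eq_zero_iff_mem.mp h5
  have hsurj3 : Function.Surjective (Ideal.quotientMap
      (Ideal.map (algebraMap R (Localization.AtPrime m)) (Ideal.span {x, y}))
      (algebraMap R (Localization.AtPrime m)) Ideal.le_comap_map) := by
    intro z
    obtain ⟨a, rfl⟩ := Ideal.Quotient.mk_surjective z
    obtain ⟨⟨r, s⟩, hrs⟩ := IsLocalization.surj m.primeCompl a
    obtain ⟨w, hw⟩ := (hunit (s : R) s.2).exists_right_inv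
    obtain ⟨s', rfl⟩ := Ideal.Quotient.mk_surjective w
    refine ⟨Ideal.Quotient.mk _ (r * s'), ?_⟩
    rw [Ideal.quotientMap_mk, Ideal.Quotient.eq]
    rw [← map_mul, ← map_one (Ideal.Quotient.mk (Ideal.span {x, y})), Ideal.Quotient.eq] at hw
    have h3 : algebraMap R (Localization.AtPrime m) (r * s') - a =
        a * algebraMap R (Localization.AtPrime m) ((s : R) * s' - 1) := by
      rw [map_mul, ← hrs, map_sub, map_mul, map_one]
      ring
    rw [h3]
    exact Ideal.mul_mem_left _ _ (Ideal.mem_map_of_mem _ hw)
  let e3 := RingEquiv.ofBijective _ ⟨hinj3, hsurj3⟩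
  let e := e1.trans e3.symm
  refine h1.trans (h2.trans ⟨fun h => ?_, fun h => ?_⟩)
  · exact @Groth.Agent.Lib.Helper5.GorRing.gorLocal_of_ringEquiv _ _ _ _ e h
  · exact @Groth.Agent.Lib.Helper5.GorRing.gorLocal_of_ringEquiv _ _ _ _ e.symm h

end chain

end Groth.Agent.Lib.R2H7.ArtGor
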