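import Mathlib
import Groth.Agent.Lib.Helper19PsDim
import Groth.Agent.Lib.Helper5IntDim

/-!
# The Artin–Schreier family `R[u]/(u_i^p - a_i^(p-1) u_i - x_i)` over `R = k[[x_1..x_n]]`

It is a finite (integral) injective extension of `R`, local with maximal ideal `(u_1..u_n)`, hence
regular of dimension `n`.
-/

set_option autoImplicit false
universe u

namespace Groth.Agent.Lib.R2H7.ArtinSchreierFam

open IsLocalRing Groth.Agent.Lib.Helper19 Groth.Agent.Lib.Helper5

section generic

variable {R A : Type*} [CommRing R] [CommRing A] [Algebra R A]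

theorem isIntegral_of_pow_eq (x : A) (q : ℕ) (hq : 1 ≤ q) (c d : R)
    (h : x ^ (q + 1) = algebraMap R A c * x + algebraMap R A d) : IsIntegral R x := by
  refine ⟨Polynomial.X ^ (q + 1) - (Polynomial.C c * Polynomial.X + Polynomial.C d), ?_, ?_⟩
  · apply Polynomial.monic_X_pow_sub
    refine lt_of_le_of_lt (b := (q : WithBot ℕ)) ?_ (by exact_mod_cast Nat.lt_succ_self q)
    refine (Polynomial.degree_add_le (Polynomial.C c * Polynomial.X : Polynomial R)
      (Polynomial.C d)).trans (max_le ?_ ?_)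
    · refine (Polynomial.degree_C_mul_X_le c).trans ?_
      exact_mod_cast hq
    · calc (Polynomial.C d : Polynomial R).degree ≤ 0 := Polynomial.degree_C_le
        _ ≤ (q : WithBot ℕ) := by exact_mod_cast (Nat.zero_le q)
  · rw [Polynomial.eval₂_sub, Polynomial.eval₂_add, Polynomial.eval₂_mul_X, Polynomial.eval₂_pow,
      Polynomial.eval₂_X, Polynomial.eval₂_C, Polynomial.eval₂_C, h, sub_self]

theorem algebra_isIntegral_of_adjoin_eq_top (s : Set A) (hs : ∀ x ∈ s, IsIntegral R x)
    (h : Algebra.adjoin R s = ⊤) : Algebra.IsIntegral R A := by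
  constructor
  intro x
  have h1 : x ∈ Algebra.adjoin R s := by
    rw [h]
    exact Algebra.mem_top
  have h2 : Algebra.adjoin R s ≤ integralClosure R A := Algebra.adjoin_le hs
  exact h2 h1

theorem isLocalRing_of_unique_max {B : Type*} [CommRing B] (M : Ideal B) (hM : M.IsMaximal)
    (h : ∀ N : Ideal B, N.IsMaximal → N = M) : IsLocalRing B :=
  IsLocalRing.of_unique_max_ideal ⟨M, hM, h⟩

end generic

section

variable (p : ℕ) [hp : Fact p.Prime] {k : Type u} [Field k] {n : ℕ}
  (a : Fin n → MvPowerSeries (Fin n) k)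

/-- The defining relations. -/
noncomputable def rel (i : Fin n) : MvPolynomial (Fin n) (MvPowerSeries (Fin n) k) :=
  MvPolynomial.X i ^ p - MvPolynomial.C (a i ^ (p - 1)) * MvPolynomial.X i -
    MvPolynomial.C (MvPowerSeries.X i)

/-- The ideal of relations. -/
noncomputable def relIdeal : Ideal (MvPolynomial (Fin n) (MvPowerSeries (Fin n) k)) :=
  Ideal.span (Set.range (rel p a))

/-- The class of `u_i`. -/
noncomputable def uu (i : Fin n) :
    MvPolynomial (Fin n) (MvPowerSeries (Fin n) k) ⧸ relIdeal p a :=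
  Ideal.Quotient.mk _ (MvPolynomial.X i)

theorem uu_rel (i : Fin n) :
    uu p a i ^ p = algebraMap (MvPowerSeries (Fin n) k) _ (a i ^ (p - 1)) * uu p a i +
      algebraMap (MvPowerSeries (Fin n) k) _ (MvPowerSeries.X i) := by
  have h1 : Ideal.Quotient.mk (relIdeal p a) (rel p a i) = 0 :=
    Ideal.Quotient.eq_zero_iff_mem.mpr (Ideal.subset_span ⟨i, rfl⟩)
  unfold rel at h1
  rw [map_sub, map_sub, map_mul, map_pow, sub_sub, sub_eq_zero] at h1
  exact h1

theorem isIntegral_uu (i : Fin n) :
    IsIntegral (MvPowerSeries (Fin n) k) (uu p a i) := by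
  obtain ⟨q, rfl⟩ : ∃ q, p = q + 1 := ⟨p - 1, (Nat.succ_pred_eq_of_pos hp.out.pos).symm⟩
  have hq1 : 1 ≤ q := by
    have := hp.out.two_le
    omega
  exact isIntegral_of_pow_eq (uu (q + 1) a i) q hq1 _ _ (uu_rel (q + 1) a i)

theorem adjoin_uu :
    Algebra.adjoin (MvPowerSeries (Fin n) k) (Set.range (uu p a)) = ⊤ := by
  have h1 := MvPolynomial.adjoin_range_X (R := MvPowerSeries (Fin n) k) (σ := Fin n)
  have h2 := congrArg (Subalgebra.map (Ideal.Quotient.mkₐ (MvPowerSeries (Fin n) k)
    (relIdeal p a))) h1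
  rw [AlgHom.map_adjoin, ← Set.range_comp, Algebra.map_top,
    (AlgHom.range_eq_top _).mpr (Ideal.Quotient.mkₐ_surjective _ _)] at h2
  exact h2

instance isIntegral : Algebra.IsIntegral (MvPowerSeries (Fin n) k)
    (MvPolynomial (Fin n) (MvPowerSeries (Fin n) k) ⧸ relIdeal p a) :=
  algebra_isIntegral_of_adjoin_eq_top (Set.range (uu p a))
    (by
      rintro _ ⟨i, rfl⟩
      exact isIntegral_uu p a i) (adjoin_uu p a)

end

section struc

variable (p : ℕ) [hp : Fact p.Prime] {k : Type u} [Field k] {n : ℕ}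
  (a : Fin n → MvPowerSeries (Fin n) k)

/-- Evaluation at the origin. -/
noncomputable def ev0 :
    (MvPolynomial (Fin n) (MvPowerSeries (Fin n) k) ⧸ relIdeal p a) →+* k :=
  Ideal.Quotient.lift (relIdeal p a)
    (MvPolynomial.eval₂Hom (MvPowerSeries.constantCoeff (σ := Fin n) (R := k)) (fun _ => 0))
    (by
      have h : relIdeal p a ≤ RingHom.ker
          (MvPolynomial.eval₂Hom (MvPowerSeries.constantCoeff (σ := Fin n) (R := k))
            (fun _ => (0 : k))) := by
        unfold relIdeal
        rw [Ideal.span_le]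
        rintro _ ⟨i, rfl⟩
        rw [SetLike.mem_coe, RingHom.mem_ker]
        unfold rel
        rw [map_sub, map_sub, map_mul, map_pow, MvPolynomial.eval₂Hom_X', MvPolynomial.eval₂Hom_C,
          MvPolynomial.eval₂Hom_C, MvPowerSeries.constantCoeff_X, zero_pow hp.out.ne_zero,
          mul_zero, sub_zero, sub_zero]
      intro f hf
      exact h hf)

theorem ev0_mk (Q : MvPolynomial (Fin n) (MvPowerSeries (Fin n) k)) :
    ev0 p a (Ideal.Quotient.mk _ Q) =
      MvPolynomial.eval₂Hom (MvPowerSeries.constantCoeff (σ := Fin n) (R := k)) (fun _ => 0) Q :=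
  rfl

theorem ev0_uu (i : Fin n) : ev0 p a (uu p a i) = 0 := by
  unfold uu
  rw [ev0_mk, MvPolynomial.eval₂Hom_X']

theorem ev0_algebraMap (r : MvPowerSeries (Fin n) k) :
    ev0 p a (algebraMap (MvPowerSeries (Fin n) k) _ r) = MvPowerSeries.constantCoeff r := by
  have h1 : algebraMap (MvPowerSeries (Fin n) k)
      (MvPolynomial (Fin n) (MvPowerSeries (Fin n) k) ⧸ relIdeal p a) r =
      Ideal.Quotient.mk _ (MvPolynomial.C r) := rfl
  rw [h1, ev0_mk, MvPolynomial.eval₂Hom_C]

/-- The ideal `(u_1, …, u_n)`. -/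
noncomputable def uIdeal : Ideal (MvPolynomial (Fin n) (MvPowerSeries (Fin n) k) ⧸ relIdeal p a) :=
  Ideal.span (Set.range (uu p a))

theorem map_span_X_eq :
    Ideal.map (Ideal.Quotient.mk (relIdeal p a))
      (Ideal.span (Set.range (MvPolynomial.X :
        Fin n → MvPolynomial (Fin n) (MvPowerSeries (Fin n) k)))) = uIdeal p a := by
  rw [Ideal.map_span, ← Set.range_comp]
  rfl

theorem algebraMap_X_mem (i : Fin n) :
    algebraMap (MvPowerSeries (Fin n) k) _ (MvPowerSeries.X i) ∈ uIdeal p a := by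
  have h := uu_rel p a i
  have h2 : algebraMap (MvPowerSeries (Fin n) k)
      (MvPolynomial (Fin n) (MvPowerSeries (Fin n) k) ⧸ relIdeal p a) (MvPowerSeries.X i) =
      uu p a i ^ p - algebraMap (MvPowerSeries (Fin n) k) _ (a i ^ (p - 1)) * uu p a i := by
    rw [h]; ring
  rw [h2]
  have hu : uu p a i ∈ uIdeal p a := Ideal.subset_span ⟨i, rfl⟩
  exact Ideal.sub_mem _ (Ideal.pow_mem_of_mem _ hu p hp.out.pos) (Ideal.mul_mem_left _ _ hu)

theorem algebraMap_mem_of_constantCoeff_eq_zero (r : MvPowerSeries (Fin n) k)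
    (hr : MvPowerSeries.constantCoeff r = 0) :
    algebraMap (MvPowerSeries (Fin n) k) _ r ∈ uIdeal p a := by
  have h1 : r ∈ maximalIdeal (MvPowerSeries (Fin n) k) := by
    rw [mem_maximalIdeal, mem_nonunits_iff, MvPowerSeries.isUnit_iff_constantCoeff, hr]
    exact not_isUnit_zero
  rw [maximalIdeal_mvPowerSeries_eq] at h1
  have h2 : varsIdeal (Fin n) k ≤ (uIdeal p a).comap (algebraMap (MvPowerSeries (Fin n) k) _) := by
    unfold varsIdeal
    rw [Ideal.span_le]
    rintro _ ⟨i, rfl⟩
    exact algebraMap_X_mem p a i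
  exact h2 h1

theorem sub_algebraMap_mem (x : MvPolynomial (Fin n) (MvPowerSeries (Fin n) k) ⧸ relIdeal p a) :
    x - algebraMap (MvPowerSeries (Fin n) k) _ (MvPowerSeries.C (ev0 p a x)) ∈ uIdeal p a := by
  obtain ⟨Q, rfl⟩ := Ideal.Quotient.mk_surjective x
  induction Q using MvPolynomial.induction_on with
  | C r =>
    have h1 : Ideal.Quotient.mk (relIdeal p a) (MvPolynomial.C r) =
        algebraMap (MvPowerSeries (Fin n) k) _ r := rfl
    rw [h1, ev0_algebraMap, ← map_sub]
    apply algebraMap_mem_of_constantCoeff_eq_zero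
    rw [map_sub, MvPowerSeries.constantCoeff_C, sub_self]
  | add Q₁ Q₂ h₁ h₂ =>
    have := Ideal.add_mem _ h₁ h₂
    rw [map_add, map_add, map_add, map_add]
    convert this using 1
    ring
  | mul_X Q i _ =>
    have h1 : Ideal.Quotient.mk (relIdeal p a) (Q * MvPolynomial.X i) =
        Ideal.Quotient.mk (relIdeal p a) Q * uu p a i := by
      rw [map_mul]; rfl
    rw [h1, map_mul, ev0_uu, mul_zero, map_zero, map_zero, sub_zero]
    exact Ideal.mul_mem_left _ _ (Ideal.subset_span ⟨i, rfl⟩)

theorem uIdeal_eq_ker : uIdeal p a = RingHom.ker (ev0 p a) := by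
  apply le_antisymm
  · unfold uIdeal
    rw [Ideal.span_le]
    rintro _ ⟨i, rfl⟩
    exact ev0_uu p a i
  · intro x hx
    rw [RingHom.mem_ker] at hx
    have := sub_algebraMap_mem p a x
    rwa [hx, map_zero, map_zero, sub_zero] at this

theorem ev0_surjective : Function.Surjective (ev0 p a) := by
  intro c
  refine ⟨algebraMap (MvPowerSeries (Fin n) k) _ (MvPowerSeries.C c), ?_⟩
  rw [ev0_algebraMap, MvPowerSeries.constantCoeff_C]

theorem uIdeal_isMaximal : (uIdeal p a).IsMaximal := by
  rw [uIdeal_eq_ker]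
  exact RingHom.ker_isMaximal_of_surjective _ (ev0_surjective p a)

theorem isLocalRing (ham : ∀ i, MvPowerSeries.constantCoeff (a i) = 0) :
    IsLocalRing (MvPolynomial (Fin n) (MvPowerSeries (Fin n) k) ⧸ relIdeal p a) := by
  refine isLocalRing_of_unique_max
    (B := MvPolynomial (Fin n) (MvPowerSeries (Fin n) k) ⧸ relIdeal p a)
    (uIdeal p a) (uIdeal_isMaximal p a) ?_
  intro N hN
  have hNp : N.IsPrime := hN.isPrime
  have h1 : (N.comap (algebraMap (MvPowerSeries (Fin n) k) _)).IsMaximal :=
    Ideal.isMaximal_comap_of_isIntegral_of_isMaximal N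
  have h2 := IsLocalRing.eq_maximalIdeal h1
  have hmem : ∀ r : MvPowerSeries (Fin n) k, MvPowerSeries.constantCoeff r = 0 →
      algebraMap (MvPowerSeries (Fin n) k) _ r ∈ N := by
    intro r hr
    have h3 : r ∈ maximalIdeal (MvPowerSeries (Fin n) k) := by
      rw [mem_maximalIdeal, mem_nonunits_iff, MvPowerSeries.isUnit_iff_constantCoeff, hr]
      exact not_isUnit_zero
    rw [← h2] at h3
    exact h3
  have hle : uIdeal p a ≤ N := by
    unfold uIdeal
    rw [Ideal.span_le]
    rintro _ ⟨i, rfl⟩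
    have h3 : uu p a i ^ p ∈ N := by
      rw [uu_rel]
      refine Ideal.add_mem _ (Ideal.mul_mem_right _ _ (hmem _ ?_))
        (hmem _ (MvPowerSeries.constantCoeff_X i))
      rw [map_pow, ham i, zero_pow]
      have := hp.out.two_le
      omega
    exact hNp.mem_of_pow_mem p h3
  exact ((uIdeal_isMaximal p a).eq_of_le hN.ne_top hle).symm

theorem algebraMap_injective :
    Function.Injective (algebraMap (MvPowerSeries (Fin n) k)
      (MvPolynomial (Fin n) (MvPowerSeries (Fin n) k) ⧸ relIdeal p a)) := by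
  classical
  let K := FractionRing (MvPowerSeries (Fin n) k)
  let L := AlgebraicClosure K
  have hinj : Function.Injective (algebraMap (MvPowerSeries (Fin n) k) L) := by
    rw [IsScalarTower.algebraMap_eq (MvPowerSeries (Fin n) k) K L]
    exact (algebraMap K L).injective.comp (IsFractionRing.injective _ K)
  have hroot : ∀ i : Fin n, ∃ θ : L, θ ^ p =
      algebraMap (MvPowerSeries (Fin n) k) L (a i ^ (p - 1)) * θ +
        algebraMap (MvPowerSeries (Fin n) k) L (MvPowerSeries.X i) := by
    intro i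
    set c := algebraMap (MvPowerSeries (Fin n) k) L (a i ^ (p - 1))
    set d := algebraMap (MvPowerSeries (Fin n) k) L (MvPowerSeries.X i)
    have hdeg : (Polynomial.C c * Polynomial.X + Polynomial.C d : Polynomial L).degree <
        (p : WithBot ℕ) := by
      refine lt_of_le_of_lt (b := ((1 : ℕ) : WithBot ℕ)) ?_ (by exact_mod_cast hp.out.one_lt)
      refine (Polynomial.degree_add_le (Polynomial.C c * Polynomial.X : Polynomial L)
        (Polynomial.C d)).trans (max_le ?_ ?_)
      · exact_mod_cast Polynomial.degree_C_mul_X_le c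
      · calc (Polynomial.C d : Polynomial L).degree ≤ 0 := Polynomial.degree_C_le
          _ ≤ ((1 : ℕ) : WithBot ℕ) := by exact_mod_cast (Nat.zero_le 1)
    have hmonic := Polynomial.monic_X_pow_sub hdeg
    have hd : (Polynomial.X ^ p - (Polynomial.C c * Polynomial.X + Polynomial.C d) :
        Polynomial L).degree ≠ 0 := by
      rw [Polynomial.degree_sub_eq_left_of_degree_lt (by rw [Polynomial.degree_X_pow]; exact hdeg),
        Polynomial.degree_X_pow]
      exact_mod_cast hp.out.ne_zero
    obtain ⟨θ, hθ⟩ := IsAlgClosed.exists_root _ hd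
    refine ⟨θ, ?_⟩
    rw [Polynomial.IsRoot, Polynomial.eval_sub, Polynomial.eval_add, Polynomial.eval_mul,
      Polynomial.eval_pow, Polynomial.eval_X, Polynomial.eval_C, Polynomial.eval_C,
      sub_eq_zero] at hθ
    exact hθ
  choose θ hθ using hroot
  let ev : MvPolynomial (Fin n) (MvPowerSeries (Fin n) k) →ₐ[MvPowerSeries (Fin n) k] L :=
    MvPolynomial.aeval θ
  have hker : ∀ f ∈ relIdeal p a, ev f = 0 := by
    have h : relIdeal p a ≤ RingHom.ker ev.toRingHom := by
      unfold relIdeal
      rw [Ideal.span_le]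
      rintro _ ⟨i, rfl⟩
      rw [SetLike.mem_coe, RingHom.mem_ker]
      change ev (rel p a i) = 0
      unfold rel
      rw [map_sub, map_sub, map_mul, map_pow, MvPolynomial.aeval_X, MvPolynomial.aeval_C,
        MvPolynomial.aeval_C, hθ i]
      ring
    intro f hf
    exact h hf
  let ev' := Ideal.Quotient.liftₐ (relIdeal p a) ev hker
  intro r s hrs
  have h3 := congrArg ev' hrs
  rw [AlgHom.commutes, AlgHom.commutes] at h3
  exact hinj h3

theorem isRegularLocalRing (ham : ∀ i, MvPowerSeries.constantCoeff (a i) = 0) :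
    IsRegularLocalRing (MvPolynomial (Fin n) (MvPowerSeries (Fin n) k) ⧸ relIdeal p a) := by
  have hloc := isLocalRing p a ham
  have hdim : ringKrullDim (MvPolynomial (Fin n) (MvPowerSeries (Fin n) k) ⧸ relIdeal p a) =
      (n : ℕ) := by
    exact (ringKrullDim_eq_of_isIntegral_of_injective (MvPowerSeries (Fin n) k)
      (MvPolynomial (Fin n) (MvPowerSeries (Fin n) k) ⧸ relIdeal p a)
      (algebraMap_injective p a)).trans (ringKrullDim_mvPowerSeries k n)
  apply IsRegularLocalRing.of_spanFinrank_maximalIdeal_le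
  rw [hdim, ← IsLocalRing.eq_maximalIdeal (uIdeal_isMaximal p a)]
  unfold uIdeal
  have h1 := Submodule.spanFinrank_span_le_ncard_of_finite
    (R := MvPolynomial (Fin n) (MvPowerSeries (Fin n) k) ⧸ relIdeal p a)
    (Set.finite_range (uu p a))
  have h2 : (Set.range (uu p a)).ncard ≤ n := by
    have := Set.ncard_image_le (f := uu p a) (Set.finite_univ (α := Fin n))
    rw [Set.image_univ, Set.ncard_univ, Nat.card_fin] at this
    exact this
  exact_mod_cast h1.trans h2

end struc

end Groth.Agent.Lib.R2H7.ArtinSchreierFam
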