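/-
Quotients of multivariate polynomial rings by monic one-variable relations
`f_i(X_i)`: they are finite free of rank `∏ deg f_i`.
-/
import Mathlib

set_option autoImplicit false
universe u

namespace Groth.Agent.Lib.R2H7.MonicTower

open Polynomial

/-- The ideal generated by `f_i(X_i)`. -/
noncomputable def relIdeal {R : Type u} [CommRing R] {n : ℕ} (f : Fin n → R[X]) :
    Ideal (MvPolynomial (Fin n) R) :=
  Ideal.span (Set.range fun i : Fin n => Polynomial.aeval (MvPolynomial.X i : MvPolynomial (Fin n) R) (f i))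

section step

variable {R : Type u} [CommRing R] {n : ℕ} (f : Fin (n + 1) → R[X])

/-- The polynomials `f_{i+1}` over `R[t]/(f_0(t))`. -/
noncomputable def f' (i : Fin n) : (AdjoinRoot (f 0))[X] :=
  (f i.succ).map (algebraMap R (AdjoinRoot (f 0)))

/-- The forward map on polynomials. -/
noncomputable def phi0 :
    MvPolynomial (Fin (n + 1)) R →ₐ[R] (MvPolynomial (Fin n) (AdjoinRoot (f 0)) ⧸ relIdeal (f' f)) :=
  MvPolynomial.aeval (Fin.cases
    (algebraMap (AdjoinRoot (f 0)) (MvPolynomial (Fin n) (AdjoinRoot (f 0)) ⧸ relIdeal (f' f))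
      (AdjoinRoot.root (f 0)))
    (fun i => Ideal.Quotient.mk (relIdeal (f' f)) (MvPolynomial.X i)))

theorem phi0_X_zero : phi0 f (MvPolynomial.X 0) =
    algebraMap (AdjoinRoot (f 0)) (MvPolynomial (Fin n) (AdjoinRoot (f 0)) ⧸ relIdeal (f' f))
      (AdjoinRoot.root (f 0)) := by
  simp [phi0]

theorem phi0_X_succ (i : Fin n) : phi0 f (MvPolynomial.X i.succ) =
    Ideal.Quotient.mk (relIdeal (f' f)) (MvPolynomial.X i) := by
  simp [phi0]

theorem phi0_rel (i : Fin (n + 1)) :
    phi0 f (Polynomial.aeval (MvPolynomial.X i : MvPolynomial (Fin (n + 1)) R) (f i)) = 0 := by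
  rw [← Polynomial.aeval_algHom_apply]
  refine Fin.cases ?_ (fun j => ?_) i
  · rw [phi0_X_zero, Polynomial.aeval_algebraMap_apply, AdjoinRoot.aeval_eq, AdjoinRoot.mk_self,
      map_zero]
  · rw [phi0_X_succ]
    have h1 : Polynomial.aeval (Ideal.Quotient.mk (relIdeal (f' f)) (MvPolynomial.X j)) (f j.succ)
        = Polynomial.aeval (Ideal.Quotient.mk (relIdeal (f' f)) (MvPolynomial.X j)) (f' f j) := by
      rw [f', Polynomial.aeval_map_algebraMap]
    rw [h1]
    have h2 : Polynomial.aeval (Ideal.Quotient.mk (relIdeal (f' f)) (MvPolynomial.X j)) (f' f j)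
        = Ideal.Quotient.mk (relIdeal (f' f))
          (Polynomial.aeval (MvPolynomial.X j : MvPolynomial (Fin n) (AdjoinRoot (f 0))) (f' f j)) := by
      have := Polynomial.aeval_algHom_apply
        (Ideal.Quotient.mkₐ (AdjoinRoot (f 0)) (relIdeal (f' f)))
        (MvPolynomial.X j : MvPolynomial (Fin n) (AdjoinRoot (f 0))) (f' f j)
      exact this
    rw [h2, Ideal.Quotient.eq_zero_iff_mem]
    exact Ideal.subset_span ⟨j, rfl⟩

/-- The forward map. -/
noncomputable def phi :
    (MvPolynomial (Fin (n + 1)) R ⧸ relIdeal f) →ₐ[R]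
      (MvPolynomial (Fin n) (AdjoinRoot (f 0)) ⧸ relIdeal (f' f)) :=
  Ideal.Quotient.liftₐ (relIdeal f) (phi0 f) (by
    intro x hx
    have hle : relIdeal f ≤ RingHom.ker (phi0 f) := by
      rw [relIdeal, Ideal.span_le]
      rintro _ ⟨i, rfl⟩
      exact phi0_rel f i
    exact hle hx)

theorem phi_mk (x : MvPolynomial (Fin (n + 1)) R) :
    phi f (Ideal.Quotient.mk (relIdeal f) x) = phi0 f x := rfl

theorem rel_zero (i : Fin (n + 1)) :
    Polynomial.aeval (Ideal.Quotient.mk (relIdeal f) (MvPolynomial.X i)) (f i) = 0 := by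
  have := Polynomial.aeval_algHom_apply
    (Ideal.Quotient.mkₐ R (relIdeal f))
    (MvPolynomial.X i : MvPolynomial (Fin (n + 1)) R) (f i)
  have h2 : Polynomial.aeval (Ideal.Quotient.mk (relIdeal f) (MvPolynomial.X i)) (f i)
      = Ideal.Quotient.mk (relIdeal f)
        (Polynomial.aeval (MvPolynomial.X i : MvPolynomial (Fin (n + 1)) R) (f i)) := this
  rw [h2, Ideal.Quotient.eq_zero_iff_mem]
  exact Ideal.subset_span ⟨i, rfl⟩

/-- The structure map `R[t]/(f_0) → Q`. -/
noncomputable def psi0 : AdjoinRoot (f 0) →ₐ[R] (MvPolynomial (Fin (n + 1)) R ⧸ relIdeal f) :=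
  AdjoinRoot.liftAlgHom (f 0) (Algebra.ofId R _)
    (Ideal.Quotient.mk (relIdeal f) (MvPolynomial.X 0)) (by
      have := rel_zero f 0
      rw [Polynomial.aeval_def] at this
      exact this)

theorem psi0_root : psi0 f (AdjoinRoot.root (f 0)) =
    Ideal.Quotient.mk (relIdeal f) (MvPolynomial.X 0) := by
  rw [psi0, AdjoinRoot.liftAlgHom_root]

/-- The backward map on polynomials. -/
noncomputable def psi1 : MvPolynomial (Fin n) (AdjoinRoot (f 0)) →+*
    (MvPolynomial (Fin (n + 1)) R ⧸ relIdeal f) :=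
  MvPolynomial.eval₂Hom (psi0 f : AdjoinRoot (f 0) →+* _)
    (fun i => Ideal.Quotient.mk (relIdeal f) (MvPolynomial.X i.succ))

theorem psi1_C (r : AdjoinRoot (f 0)) : psi1 f (MvPolynomial.C r) = psi0 f r := by
  simp [psi1]

theorem psi1_X (i : Fin n) : psi1 f (MvPolynomial.X i) =
    Ideal.Quotient.mk (relIdeal f) (MvPolynomial.X i.succ) := by
  simp [psi1]

theorem psi1_rel (i : Fin n) :
    psi1 f (Polynomial.aeval (MvPolynomial.X i : MvPolynomial (Fin n) (AdjoinRoot (f 0))) (f' f i))
      = 0 := by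
  rw [Polynomial.aeval_def, f', Polynomial.eval₂_map, Polynomial.hom_eval₂, psi1_X]
  have hcomp : (psi1 f).comp ((algebraMap (AdjoinRoot (f 0))
      (MvPolynomial (Fin n) (AdjoinRoot (f 0)))).comp (algebraMap R (AdjoinRoot (f 0))))
      = algebraMap R (MvPolynomial (Fin (n + 1)) R ⧸ relIdeal f) := by
    ext r
    simp only [RingHom.comp_apply, MvPolynomial.algebraMap_eq, psi1_C]
    exact (psi0 f).commutes r
  rw [hcomp]
  have := rel_zero f i.succ
  rw [Polynomial.aeval_def] at this
  exact this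

/-- The backward map. -/
noncomputable def psi : (MvPolynomial (Fin n) (AdjoinRoot (f 0)) ⧸ relIdeal (f' f)) →+*
    (MvPolynomial (Fin (n + 1)) R ⧸ relIdeal f) :=
  Ideal.Quotient.lift (relIdeal (f' f)) (psi1 f) (by
    intro x hx
    have hle : relIdeal (f' f) ≤ RingHom.ker (psi1 f) := by
      rw [relIdeal, Ideal.span_le]
      rintro _ ⟨i, rfl⟩
      exact psi1_rel f i
    exact hle hx)

theorem psi_mk (x : MvPolynomial (Fin n) (AdjoinRoot (f 0))) :
    psi f (Ideal.Quotient.mk (relIdeal (f' f)) x) = psi1 f x := rfl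

theorem psi_phi (x : MvPolynomial (Fin (n + 1)) R ⧸ relIdeal f) : psi f (phi f x) = x := by
  have h : (psi f).comp ((phi f : _ →+* _)) = RingHom.id _ := by
    apply Ideal.Quotient.ringHom_ext
    apply MvPolynomial.ringHom_ext
    · intro r
      simp only [RingHom.comp_apply, RingHom.id_apply, RingHom.coe_coe, phi_mk]
      have h1 : phi0 f (MvPolynomial.C r) = algebraMap R _ r := by
        rw [← MvPolynomial.algebraMap_eq, AlgHom.commutes]
      rw [h1]
      have h2 : algebraMap R (MvPolynomial (Fin n) (AdjoinRoot (f 0)) ⧸ relIdeal (f' f)) r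
          = Ideal.Quotient.mk (relIdeal (f' f)) (MvPolynomial.C (algebraMap R (AdjoinRoot (f 0)) r)) := rfl
      rw [h2, psi_mk, psi1_C, AlgHom.commutes]
      rfl
    · intro i
      simp only [RingHom.comp_apply, RingHom.id_apply, RingHom.coe_coe, phi_mk]
      refine Fin.cases ?_ (fun j => ?_) i
      · rw [phi0_X_zero]
        have h2 : algebraMap (AdjoinRoot (f 0)) (MvPolynomial (Fin n) (AdjoinRoot (f 0)) ⧸ relIdeal (f' f))
            (AdjoinRoot.root (f 0))
            = Ideal.Quotient.mk (relIdeal (f' f)) (MvPolynomial.C (AdjoinRoot.root (f 0))) := rfl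
        rw [h2, psi_mk, psi1_C, psi0_root]
      · rw [phi0_X_succ, psi_mk, psi1_X]
  exact congrArg (fun g => g x) h

theorem phi_psi (y : MvPolynomial (Fin n) (AdjoinRoot (f 0)) ⧸ relIdeal (f' f)) :
    phi f (psi f y) = y := by
  have h : ((phi f : _ →+* _)).comp (psi f) = RingHom.id _ := by
    apply Ideal.Quotient.ringHom_ext
    apply MvPolynomial.ringHom_ext
    · intro r
      simp only [RingHom.comp_apply, RingHom.id_apply, RingHom.coe_coe, psi_mk, psi1_C]
      have h3 : ((phi f).toRingHom).comp ((psi0 f).toRingHom)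
          = (Ideal.Quotient.mk (relIdeal (f' f))).comp MvPolynomial.C := by
        apply AdjoinRoot.ringHom_ext
        · ext r
          change phi f (psi0 f (algebraMap R (AdjoinRoot (f 0)) r)) = _
          rw [AlgHom.commutes, AlgHom.commutes]
          rfl
        · change phi f (psi0 f (AdjoinRoot.root (f 0))) = _
          rw [psi0_root, phi_mk, phi0_X_zero]
          rfl
      exact congrArg (fun g => g r) h3
    · intro i
      simp only [RingHom.comp_apply, RingHom.id_apply, RingHom.coe_coe, psi_mk, psi1_X, phi_mk,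
        phi0_X_succ]
  exact congrArg (fun g => g y) h

/-- The tower isomorphism. -/
noncomputable def towerEquiv :
    (MvPolynomial (Fin (n + 1)) R ⧸ relIdeal f) ≃ₐ[R]
      (MvPolynomial (Fin n) (AdjoinRoot (f 0)) ⧸ relIdeal (f' f)) :=
  AlgEquiv.ofBijective (phi f)
    ⟨Function.LeftInverse.injective (psi_phi f), Function.RightInverse.surjective (phi_psi f)⟩

end step

theorem nontrivial_adjoinRoot {R : Type u} [CommRing R] [Nontrivial R] (g : R[X]) (hg : g.Monic)
    (hd : 0 < g.natDegree) : Nontrivial (AdjoinRoot g) := by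
  have hb := AdjoinRoot.powerBasisAux' hg
  exact nontrivial_of_ne (hb ⟨0, hd⟩) 0 (hb.ne_zero ⟨0, hd⟩)

theorem finrank_adjoinRoot {R : Type u} [CommRing R] [Nontrivial R] (g : R[X]) (hg : g.Monic) :
    Module.finrank R (AdjoinRoot g) = g.natDegree := by
  rw [(AdjoinRoot.powerBasis' hg).finrank, AdjoinRoot.powerBasis'_dim]

theorem main (n : ℕ) : ∀ (R : Type u) [CommRing R] [Nontrivial R] (f : Fin n → R[X]),
    (∀ i, (f i).Monic) → (∀ i, 0 < (f i).natDegree) →
    Module.Free R (MvPolynomial (Fin n) R ⧸ relIdeal f) ∧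
    Module.Finite R (MvPolynomial (Fin n) R ⧸ relIdeal f) ∧
    Module.finrank R (MvPolynomial (Fin n) R ⧸ relIdeal f) = ∏ i, (f i).natDegree := by
  induction n with
  | zero =>
    intro R _ _ f _ _
    have hbot : relIdeal f = ⊥ := by
      rw [relIdeal, Set.range_eq_empty, Ideal.span_empty]
    let e : (MvPolynomial (Fin 0) R ⧸ relIdeal f) ≃ₐ[R] R :=
      ((Ideal.quotientEquivAlgOfEq R hbot).trans (AlgEquiv.quotientBot R _)).trans
        (MvPolynomial.isEmptyAlgEquiv R (Fin 0))
    refine ⟨Module.Free.of_equiv e.symm.toLinearEquiv, Module.Finite.equiv e.symm.toLinearEquiv, ?_⟩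
    rw [LinearEquiv.finrank_eq e.toLinearEquiv, Module.finrank_self]
    simp
  | succ n ih =>
    intro R _ _ f hf hd
    have : Nontrivial (AdjoinRoot (f 0)) := nontrivial_adjoinRoot (f 0) (hf 0) (hd 0)
    have hf' : ∀ i, (f' f i).Monic := fun i => (hf i.succ).map _
    have hdeg : ∀ i, (f' f i).natDegree = (f i.succ).natDegree := fun i =>
      (hf i.succ).natDegree_map _
    have hd' : ∀ i, 0 < (f' f i).natDegree := fun i => by rw [hdeg]; exact hd i.succ
    obtain ⟨h1, h2, h3⟩ := ih (AdjoinRoot (f 0)) (f' f) hf' hd'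
    have := h1
    have := h2
    have : Module.Free R (AdjoinRoot (f 0)) := (hf 0).free_adjoinRoot
    have : Module.Finite R (AdjoinRoot (f 0)) := (hf 0).finite_adjoinRoot
    have hfree : Module.Free R (MvPolynomial (Fin n) (AdjoinRoot (f 0)) ⧸ relIdeal (f' f)) :=
      Module.Free.trans (R := R) (S := AdjoinRoot (f 0))
    have hfin : Module.Finite R (MvPolynomial (Fin n) (AdjoinRoot (f 0)) ⧸ relIdeal (f' f)) :=
      Module.Finite.trans (AdjoinRoot (f 0)) _
    have e := (towerEquiv f).toLinearEquiv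
    refine ⟨Module.Free.of_equiv e.symm, Module.Finite.equiv e.symm, ?_⟩
    rw [LinearEquiv.finrank_eq e,
      ← Module.finrank_mul_finrank R (AdjoinRoot (f 0)), h3, finrank_adjoinRoot (f 0) (hf 0),
      Fin.prod_univ_succ]
    congr 1
    exact Finset.prod_congr rfl (fun i _ => hdeg i)

end Groth.Agent.Lib.R2H7.MonicTower
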