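/-
The Artin–Schreier family `A = R[u_1..u_n]/(u_i^p - a_i^{p-1} u_i - x_i)` over `R = k[[x_1..x_n]]`:
freeness of rank `p^n`, completeness, integrality.
-/
import Mathlib
import Groth.Agent.Lib.R2H7ArtinSchreierFam
import Groth.Agent.Lib.R2H7MonicTower
import Groth.Agent.Lib.Helper5RLR
import Groth.Agent.Lib.Helper18ComplProd
import Groth.Agent.Lib.Helper19PowerSeries

set_option autoImplicit false
universe u

namespace Groth.Agent.Lib.R2H7.ArtinSchreierFam

open IsLocalRing

section

variable (p : ℕ) [hp : Fact p.Prime] {k : Type u} [Field k] {n : ℕ}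
  (a : Fin n → MvPowerSeries (Fin n) k)

/-- The one-variable Artin–Schreier polynomial `T^p - a_i^{p-1} T - x_i`. -/
noncomputable def asPoly (i : Fin n) : Polynomial (MvPowerSeries (Fin n) k) :=
  Polynomial.X ^ p - Polynomial.C (a i ^ (p - 1)) * Polynomial.X -
    Polynomial.C (MvPowerSeries.X i)

theorem asPoly_eq (i : Fin n) :
    asPoly p a i = Polynomial.X ^ p - (Polynomial.C (a i ^ (p - 1)) * Polynomial.X +
      Polynomial.C (MvPowerSeries.X i)) := by
  rw [asPoly, sub_sub]

theorem degree_lower_lt (i : Fin n) :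
    (Polynomial.C (a i ^ (p - 1)) * Polynomial.X +
      Polynomial.C (MvPowerSeries.X i) : Polynomial (MvPowerSeries (Fin n) k)).degree
      < ((p : ℕ) : WithBot ℕ) := by
  have h2 : 2 ≤ p := hp.out.two_le
  refine lt_of_le_of_lt (Polynomial.degree_linear_le) ?_
  exact_mod_cast (by omega : 1 < p)

theorem asPoly_monic (i : Fin n) : (asPoly p a i).Monic := by
  rw [asPoly_eq]
  exact Polynomial.monic_X_pow_sub (degree_lower_lt p a i)

theorem asPoly_natDegree (i : Fin n) : (asPoly p a i).natDegree = p := by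
  rw [asPoly_eq]
  apply Polynomial.natDegree_eq_of_degree_eq_some
  rw [Polynomial.degree_sub_eq_left_of_degree_lt, Polynomial.degree_X_pow]
  rw [Polynomial.degree_X_pow]
  exact degree_lower_lt p a i

theorem relIdeal_eq : MonicTower.relIdeal (asPoly p a) = relIdeal p a := by
  unfold MonicTower.relIdeal relIdeal
  congr 2
  funext i
  simp [asPoly, rel]

theorem free_finite_finrank :
    Module.Free (MvPowerSeries (Fin n) k)
      (MvPolynomial (Fin n) (MvPowerSeries (Fin n) k) ⧸ relIdeal p a) ∧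
    Module.Finite (MvPowerSeries (Fin n) k)
      (MvPolynomial (Fin n) (MvPowerSeries (Fin n) k) ⧸ relIdeal p a) ∧
    Module.finrank (MvPowerSeries (Fin n) k)
      (MvPolynomial (Fin n) (MvPowerSeries (Fin n) k) ⧸ relIdeal p a) = p ^ n := by
  have h := MonicTower.main n (MvPowerSeries (Fin n) k) (asPoly p a) (asPoly_monic p a)
    (fun i => by rw [asPoly_natDegree]; exact hp.out.pos)
  rw [relIdeal_eq] at h
  refine ⟨h.1, h.2.1, h.2.2.trans ?_⟩
  simp [asPoly_natDegree]

theorem isAdicComplete_field' : IsAdicComplete (IsLocalRing.maximalIdeal k) k := by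
  rw [IsLocalRing.maximalIdeal_eq_bot]
  infer_instance

theorem isAdicComplete_uIdeal (ham : ∀ i, MvPowerSeries.constantCoeff (a i) = 0) :
    @IsAdicComplete (MvPolynomial (Fin n) (MvPowerSeries (Fin n) k) ⧸ relIdeal p a) _ (uIdeal p a)
      (MvPolynomial (Fin n) (MvPowerSeries (Fin n) k) ⧸ relIdeal p a) _ _ := by
  have := isLocalRing p a ham
  have : Module.Finite (MvPowerSeries (Fin n) k)
      (MvPolynomial (Fin n) (MvPowerSeries (Fin n) k) ⧸ relIdeal p a) :=
    (free_finite_finrank p a).2.1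
  have := isAdicComplete_field' (k := k)
  have : IsAdicComplete (maximalIdeal (MvPowerSeries (Fin n) k)) (MvPowerSeries (Fin n) k) :=
    Groth.Agent.Lib.Helper19.isAdicComplete_mvPowerSeries
  have h := (Groth.Agent.Lib.Helper18ComplProd.isAdicComplete_of_finite
    (MvPowerSeries (Fin n) k)
    (MvPolynomial (Fin n) (MvPowerSeries (Fin n) k) ⧸ relIdeal p a)).2
  rw [← IsLocalRing.eq_maximalIdeal (uIdeal_isMaximal p a)] at h
  exact h

theorem isDomain (ham : ∀ i, MvPowerSeries.constantCoeff (a i) = 0) :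
    IsDomain (MvPolynomial (Fin n) (MvPowerSeries (Fin n) k) ⧸ relIdeal p a) := by
  have := isRegularLocalRing p a ham
  exact Groth.Agent.Lib.Helper5.isDomain_of_isRegularLocalRing
    (MvPolynomial (Fin n) (MvPowerSeries (Fin n) k) ⧸ relIdeal p a)

end

end Groth.Agent.Lib.R2H7.ArtinSchreierFam
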