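/-
Invariants of a finite group of automorphisms of a domain `A` integral over an integrally closed
domain `R`, when the group has as many elements as the rank: the invariants are `R`.
-/
import Mathlib

set_option autoImplicit false

namespace Groth.Agent.Lib.R2H7.GaloisInvariants

attribute [local instance] FractionRing.liftAlgebra

/-- Let `R` be an integrally closed domain, `A` a domain that is a faithful integral `R`-algebra of
finite positive rank `N`, and suppose `A` has exactly `N` automorphisms over `R`.  Then an element
of `A` fixed by all automorphisms comes from `R`. -/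
theorem mem_range_of_fixed {R A : Type*} [CommRing R] [IsDomain R] [IsIntegrallyClosed R]
    [CommRing A] [IsDomain A] [Algebra R A] [FaithfulSMul R A] [Algebra.IsIntegral R A]
    (hcard : Nat.card (A ≃ₐ[R] A) = Module.finrank R A) (hpos : 0 < Module.finrank R A)
    (b : A) (hb : ∀ σ : A ≃ₐ[R] A, σ b = b) : b ∈ Set.range (algebraMap R A) := by
  have hfr : Module.finrank (FractionRing R) (FractionRing A) = Module.finrank R A :=
    IsFractionRing.finrank_eq R (FractionRing R) A (FractionRing A)
  have : FiniteDimensional (FractionRing R) (FractionRing A) :=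
    Module.finite_of_finrank_pos (hfr ▸ hpos)
  have hΦ : Function.Injective
      (IsFractionRing.fieldEquivOfAlgEquivHom (A := R) (B := A) (FractionRing R) (FractionRing A)) :=
    IsFractionRing.fieldEquivOfAlgEquivHom_injective R A (FractionRing R) (FractionRing A)
  have hle : Nat.card ((FractionRing A) ≃ₐ[FractionRing R] (FractionRing A)) ≤
      Module.finrank (FractionRing R) (FractionRing A) := by
    rw [Nat.card_eq_fintype_card]
    exact AlgEquiv.card_le
  have hge : Nat.card (A ≃ₐ[R] A) ≤
      Nat.card ((FractionRing A) ≃ₐ[FractionRing R] (FractionRing A)) :=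
    Nat.card_le_card_of_injective _ hΦ
  have hcardL : Nat.card ((FractionRing A) ≃ₐ[FractionRing R] (FractionRing A)) =
      Module.finrank (FractionRing R) (FractionRing A) :=
    le_antisymm hle (by rw [hfr, ← hcard]; exact hge)
  have : IsGalois (FractionRing R) (FractionRing A) :=
    IsGalois.of_card_aut_eq_finrank _ _ hcardL
  have hsurj : Function.Surjective
      (IsFractionRing.fieldEquivOfAlgEquivHom (A := R) (B := A) (FractionRing R) (FractionRing A)) := by
    have hfinA : Finite (A ≃ₐ[R] A) := by
      apply Nat.finite_of_card_ne_zero
      rw [hcard]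
      exact hpos.ne'
    have hbij := (Nat.bijective_iff_injective_and_card _).mpr ⟨hΦ, by rw [hcardL, hfr, hcard]⟩
    exact hbij.2
  have hfix : ∀ g : (FractionRing A) ≃ₐ[FractionRing R] (FractionRing A),
      g (algebraMap A (FractionRing A) b) = algebraMap A (FractionRing A) b := by
    intro g
    obtain ⟨σ, rfl⟩ := hsurj g
    rw [IsFractionRing.fieldEquivOfAlgEquivHom_apply, IsFractionRing.fieldEquivOfAlgEquiv_algebraMap,
      hb]
  have hbot : algebraMap A (FractionRing A) b ∈
      (⊥ : IntermediateField (FractionRing R) (FractionRing A)) :=
    (IsGalois.mem_bot_iff_fixed _).mpr hfix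
  obtain ⟨y, hy⟩ := IntermediateField.mem_bot.mp hbot
  have hint : IsIntegral R y := by
    have h1 : IsIntegral R (algebraMap A (FractionRing A) b) :=
      (Algebra.IsIntegral.isIntegral b).algebraMap
    rw [← hy] at h1
    exact (isIntegral_algebraMap_iff (algebraMap (FractionRing R) (FractionRing A)).injective).mp h1
  obtain ⟨r, hr⟩ := IsIntegrallyClosed.isIntegral_iff.mp hint
  refine ⟨r, ?_⟩
  apply IsFractionRing.injective A (FractionRing A)
  rw [← hy, ← hr, ← IsScalarTower.algebraMap_apply, ← IsScalarTower.algebraMap_apply]

end Groth.Agent.Lib.R2H7.GaloisInvariants
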