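/-
Automorphisms of the Artin–Schreier family `A = R[u_1..u_n]/(u_i^p - a_i^{p-1} u_i - x_i)`.
-/
import Mathlib
import Groth.Agent.Lib.R2H7ArtinSchreierFam2
import Groth.Agent.Lib.R2H7GaloisInvariants
import Groth.Agent.Lib.Helper28Catenary
import Groth.Agent.Lib.Helper19PsDim

set_option autoImplicit false
universe u

namespace Groth.Agent.Lib.R2H7.ArtinSchreierFam

section generic

variable {B : Type*} [CommRing B] (p : ℕ) [hp : Fact p.Prime] [CharP B p]

theorem pow_eq_pred_mul (a' : B) : a' ^ p = a' ^ (p - 1) * a' := by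
  rw [← pow_succ, Nat.sub_add_cancel hp.out.pos]

theorem shift_root (u a' c x : B) (hc : c ^ p = c) (hu : u ^ p = a' ^ (p - 1) * u + x) :
    (u + c * a') ^ p = a' ^ (p - 1) * (u + c * a') + x := by
  rw [add_pow_char, mul_pow, hc, hu, pow_eq_pred_mul p a']
  ring

theorem diff_root (u v a' x : B) (hu : u ^ p = a' ^ (p - 1) * u + x)
    (hv : v ^ p = a' ^ (p - 1) * v + x) : (v - u) ^ p = a' ^ (p - 1) * (v - u) := by
  rw [sub_pow_char, hu, hv]
  ring

theorem castHom_pow (c : ZMod p) :
    (ZMod.castHom (dvd_refl p) B c) ^ p = ZMod.castHom (dvd_refl p) B c := by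
  rw [← map_pow, ZMod.pow_card]

theorem exists_zmod_of_pow_eq [IsDomain B] (a' d : B) (ha : a' ≠ 0)
    (hd : d ^ p = a' ^ (p - 1) * d) :
    ∃ c : ZMod p, d = (ZMod.castHom (dvd_refl p) B c) * a' := by
  classical
  have h2 : 2 ≤ p := hp.out.two_le
  set g : Polynomial B := Polynomial.X ^ p - Polynomial.C (a' ^ (p - 1)) * Polynomial.X with hg
  have hlow : (Polynomial.C (a' ^ (p - 1)) * Polynomial.X : Polynomial B).degree
      < ((p : ℕ) : WithBot ℕ) := by
    refine lt_of_le_of_lt (Polynomial.degree_C_mul_X_le _) ?_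
    exact_mod_cast (by omega : 1 < p)
  have hmonic : g.Monic := Polynomial.monic_X_pow_sub hlow
  have hdeg : g.natDegree = p := by
    apply Polynomial.natDegree_eq_of_degree_eq_some
    rw [hg, Polynomial.degree_sub_eq_left_of_degree_lt, Polynomial.degree_X_pow]
    rw [Polynomial.degree_X_pow]
    exact hlow
  have hg0 : g ≠ 0 := hmonic.ne_zero
  have hroot : ∀ e : B, e ^ p = a' ^ (p - 1) * e → e ∈ g.roots.toFinset := by
    intro e he
    rw [Multiset.mem_toFinset, Polynomial.mem_roots hg0, Polynomial.IsRoot, hg]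
    simp [he]
  have hinj : Function.Injective (fun c : ZMod p => (ZMod.castHom (dvd_refl p) B c) * a') := by
    intro c c' hcc
    have h1 := mul_right_cancel₀ ha hcc
    exact (ZMod.castHom (dvd_refl p) B).injective h1
  set S : Finset B := Finset.univ.image (fun c : ZMod p => (ZMod.castHom (dvd_refl p) B c) * a')
    with hS
  have hScard : S.card = p := by
    rw [hS, Finset.card_image_of_injective _ hinj, Finset.card_univ, ZMod.card]
  have hsub : S ⊆ g.roots.toFinset := by
    intro e he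
    rw [hS, Finset.mem_image] at he
    obtain ⟨c, -, rfl⟩ := he
    apply hroot
    rw [mul_pow, castHom_pow, pow_eq_pred_mul p a']
    ring
  have hcard : g.roots.toFinset.card ≤ S.card := by
    rw [hScard]
    exact (Multiset.toFinset_card_le _).trans ((Polynomial.card_roots' g).trans hdeg.le)
  have heq := Finset.eq_of_subset_of_card_le hsub hcard
  have hdmem : d ∈ S := by
    rw [heq]
    exact hroot d hd
  rw [hS, Finset.mem_image] at hdmem
  obtain ⟨c, -, hc⟩ := hdmem
  exact ⟨c, hc.symm⟩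

end generic

section aut

variable (p : ℕ) [hp : Fact p.Prime] {k : Type u} [Field k] [CharP k p] {n : ℕ}
  (a : Fin n → MvPowerSeries (Fin n) k)

theorem charP_ps : CharP (MvPowerSeries (Fin n) k) p :=
  charP_of_injective_ringHom (f := (MvPowerSeries.C : k →+* MvPowerSeries (Fin n) k))
    MvPowerSeries.C_injective p

theorem charP_quot :
    CharP (MvPolynomial (Fin n) (MvPowerSeries (Fin n) k) ⧸ relIdeal p a) p :=
  haveI := charP_ps p (k := k) (n := n)
  charP_of_injective_algebraMap (algebraMap_injective p a) p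

/-- The homomorphism out of `A` determined by roots of the relations. -/
noncomputable def liftHom {B : Type*} [CommRing B] [Algebra (MvPowerSeries (Fin n) k) B]
    (b : Fin n → B)
    (hb : ∀ i, b i ^ p = algebraMap (MvPowerSeries (Fin n) k) B (a i ^ (p - 1)) * b i +
      algebraMap (MvPowerSeries (Fin n) k) B (MvPowerSeries.X i)) :
    (MvPolynomial (Fin n) (MvPowerSeries (Fin n) k) ⧸ relIdeal p a) →ₐ[MvPowerSeries (Fin n) k] B :=
  Ideal.Quotient.liftₐ (relIdeal p a) (MvPolynomial.aeval b) (by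
    intro x hx
    have hle : relIdeal p a ≤ RingHom.ker
        (MvPolynomial.aeval b : MvPolynomial (Fin n) (MvPowerSeries (Fin n) k) →ₐ[_] B) := by
      rw [relIdeal, Ideal.span_le]
      rintro _ ⟨i, rfl⟩
      rw [SetLike.mem_coe, RingHom.mem_ker]
      simp only [rel, map_sub, map_mul, map_pow, MvPolynomial.aeval_X, MvPolynomial.aeval_C]
      rw [hb i, map_pow]
      ring
    exact hle hx)

theorem liftHom_uu {B : Type*} [CommRing B] [Algebra (MvPowerSeries (Fin n) k) B]
    (b : Fin n → B)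
    (hb : ∀ i, b i ^ p = algebraMap (MvPowerSeries (Fin n) k) B (a i ^ (p - 1)) * b i +
      algebraMap (MvPowerSeries (Fin n) k) B (MvPowerSeries.X i)) (i : Fin n) :
    liftHom p a b hb (uu p a i) = b i := by
  change MvPolynomial.aeval b (MvPolynomial.X i) = b i
  rw [MvPolynomial.aeval_X]

theorem algHom_ext' {B : Type*} [Semiring B] [Algebra (MvPowerSeries (Fin n) k) B]
    (f g : (MvPolynomial (Fin n) (MvPowerSeries (Fin n) k) ⧸ relIdeal p a)
      →ₐ[MvPowerSeries (Fin n) k] B)
    (h : ∀ i, f (uu p a i) = g (uu p a i)) : f = g := by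
  apply Ideal.Quotient.algHom_ext
  apply MvPolynomial.algHom_ext
  intro i
  exact h i

/-- The prime field inside `A`. -/
noncomputable def theta :
    ZMod p →+* (MvPolynomial (Fin n) (MvPowerSeries (Fin n) k) ⧸ relIdeal p a) :=
  haveI := charP_quot p a
  ZMod.castHom (dvd_refl p) _

theorem theta_pow (c : ZMod p) : theta p a c ^ p = theta p a c := by
  rw [← map_pow, ZMod.pow_card]

theorem nontrivial_quot :
    Nontrivial (MvPolynomial (Fin n) (MvPowerSeries (Fin n) k) ⧸ relIdeal p a) :=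
  (algebraMap_injective p a).nontrivial

theorem theta_injective : Function.Injective (theta p a) := by
  have := nontrivial_quot p a
  exact (theta p a).injective

/-- The shifted roots `u_i + j_i a_i`. -/
noncomputable def shiftVal (j : Fin n → ZMod p) (i : Fin n) :
    MvPolynomial (Fin n) (MvPowerSeries (Fin n) k) ⧸ relIdeal p a :=
  uu p a i + theta p a (j i) * algebraMap (MvPowerSeries (Fin n) k) _ (a i)

theorem shiftVal_root (j : Fin n → ZMod p) (i : Fin n) :
    shiftVal p a j i ^ p =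
      algebraMap (MvPowerSeries (Fin n) k) _ (a i ^ (p - 1)) * shiftVal p a j i +
        algebraMap (MvPowerSeries (Fin n) k) _ (MvPowerSeries.X i) := by
  have := charP_quot p a
  have h := shift_root p (uu p a i) (algebraMap (MvPowerSeries (Fin n) k) _ (a i))
    (theta p a (j i)) (algebraMap (MvPowerSeries (Fin n) k) _ (MvPowerSeries.X i))
    (theta_pow p a (j i)) (by rw [← map_pow]; exact uu_rel p a i)
  rw [map_pow]
  exact h

/-- The endomorphism `u_i ↦ u_i + j_i a_i`. -/
noncomputable def shift (j : Fin n → ZMod p) :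
    (MvPolynomial (Fin n) (MvPowerSeries (Fin n) k) ⧸ relIdeal p a) →ₐ[MvPowerSeries (Fin n) k]
      (MvPolynomial (Fin n) (MvPowerSeries (Fin n) k) ⧸ relIdeal p a) :=
  liftHom p a (shiftVal p a j) (shiftVal_root p a j)

theorem shift_uu (j : Fin n → ZMod p) (i : Fin n) :
    shift p a j (uu p a i) =
      uu p a i + theta p a (j i) * algebraMap (MvPowerSeries (Fin n) k) _ (a i) :=
  liftHom_uu p a _ _ i

theorem shift_theta (j : Fin n → ZMod p) (c : ZMod p) :
    shift p a j (theta p a c) = theta p a c := by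
  have h : ((shift p a j).toRingHom).comp (theta p a) = theta p a := Subsingleton.elim _ _
  exact congrArg (fun f => f c) h

theorem shift_comp (j j' : Fin n → ZMod p) :
    (shift p a j).comp (shift p a j') = shift p a (j + j') := by
  apply algHom_ext'
  intro i
  rw [AlgHom.comp_apply, shift_uu, map_add, map_mul, shift_theta, AlgHom.commutes, shift_uu,
    shift_uu, Pi.add_apply, map_add]
  ring

theorem shift_zero : shift p a (0 : Fin n → ZMod p) = AlgHom.id _ _ := by
  apply algHom_ext'
  intro i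
  rw [shift_uu, Pi.zero_apply, map_zero, zero_mul, add_zero, AlgHom.id_apply]

/-- The automorphism `u_i ↦ u_i + j_i a_i`. -/
noncomputable def shiftEquiv (j : Fin n → ZMod p) :
    (MvPolynomial (Fin n) (MvPowerSeries (Fin n) k) ⧸ relIdeal p a) ≃ₐ[MvPowerSeries (Fin n) k]
      (MvPolynomial (Fin n) (MvPowerSeries (Fin n) k) ⧸ relIdeal p a) :=
  AlgEquiv.ofAlgHom (shift p a j) (shift p a (-j))
    (by rw [shift_comp, add_neg_cancel, shift_zero])
    (by rw [shift_comp, neg_add_cancel, shift_zero])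

theorem shiftEquiv_apply (j : Fin n → ZMod p)
    (x : MvPolynomial (Fin n) (MvPowerSeries (Fin n) k) ⧸ relIdeal p a) :
    shiftEquiv p a j x = shift p a j x := rfl

theorem shiftEquiv_mul (j j' : Fin n → ZMod p) :
    shiftEquiv p a j * shiftEquiv p a j' = shiftEquiv p a (j + j') := by
  ext x
  rw [AlgEquiv.mul_apply, shiftEquiv_apply, shiftEquiv_apply, shiftEquiv_apply, ← shift_comp,
    AlgHom.comp_apply]

theorem shiftEquiv_zero : shiftEquiv p a (0 : Fin n → ZMod p) = 1 := by
  ext x
  rw [shiftEquiv_apply, shift_zero, AlgHom.id_apply, AlgEquiv.one_apply]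

theorem shiftEquiv_pow (j : Fin n → ZMod p) (m : ℕ) :
    shiftEquiv p a j ^ m = shiftEquiv p a (m • j) := by
  induction m with
  | zero => rw [pow_zero, zero_smul, shiftEquiv_zero]
  | succ m ih => rw [pow_succ, ih, shiftEquiv_mul, succ_nsmul]

theorem shiftEquiv_pow_p (j : Fin n → ZMod p) : shiftEquiv p a j ^ p = 1 := by
  rw [shiftEquiv_pow]
  have h : p • j = 0 := by
    funext i
    rw [Pi.smul_apply, nsmul_eq_mul, CharP.cast_eq_zero (ZMod p) p, zero_mul, Pi.zero_apply]
  rw [h, shiftEquiv_zero]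

theorem algebraMap_a_ne_zero (ha0 : ∀ i, a i ≠ 0) (i : Fin n) :
    algebraMap (MvPowerSeries (Fin n) k)
      (MvPolynomial (Fin n) (MvPowerSeries (Fin n) k) ⧸ relIdeal p a) (a i) ≠ 0 := by
  intro h
  exact ha0 i ((algebraMap_injective p a) (h.trans (map_zero _).symm))

theorem exists_shift (ha0 : ∀ i, a i ≠ 0) (ham : ∀ i, MvPowerSeries.constantCoeff (a i) = 0)
    (τ : (MvPolynomial (Fin n) (MvPowerSeries (Fin n) k) ⧸ relIdeal p a)
      →ₐ[MvPowerSeries (Fin n) k]
      (MvPolynomial (Fin n) (MvPowerSeries (Fin n) k) ⧸ relIdeal p a)) :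
    ∃ j : Fin n → ZMod p, τ = shift p a j := by
  have hch := charP_quot p a
  have hdom := isDomain p a ham
  have h : ∀ i, ∃ c : ZMod p, τ (uu p a i) - uu p a i =
      theta p a c * algebraMap (MvPowerSeries (Fin n) k) _ (a i) := by
    intro i
    have hu : uu p a i ^ p = (algebraMap (MvPowerSeries (Fin n) k) _ (a i)) ^ (p - 1) * uu p a i +
        algebraMap (MvPowerSeries (Fin n) k) _ (MvPowerSeries.X i) := by
      rw [← map_pow]
      exact uu_rel p a i
    have hv : τ (uu p a i) ^ p =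
        (algebraMap (MvPowerSeries (Fin n) k) _ (a i)) ^ (p - 1) * τ (uu p a i) +
        algebraMap (MvPowerSeries (Fin n) k) _ (MvPowerSeries.X i) := by
      rw [← map_pow, hu, map_add, map_mul, map_pow, AlgHom.commutes, AlgHom.commutes]
    exact exists_zmod_of_pow_eq p (algebraMap (MvPowerSeries (Fin n) k) _ (a i))
      (τ (uu p a i) - uu p a i) (algebraMap_a_ne_zero p a ha0 i)
      (diff_root (B := MvPolynomial (Fin n) (MvPowerSeries (Fin n) k) ⧸ relIdeal p a) p
        (uu p a i) (τ (uu p a i)) (algebraMap (MvPowerSeries (Fin n) k) _ (a i))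
        (algebraMap (MvPowerSeries (Fin n) k) _ (MvPowerSeries.X i)) hu hv)
  choose j hj using h
  refine ⟨j, algHom_ext' p a _ _ (fun i => ?_)⟩
  rw [shift_uu, ← hj i]
  ring

theorem shiftEquiv_injective (ha0 : ∀ i, a i ≠ 0)
    (ham : ∀ i, MvPowerSeries.constantCoeff (a i) = 0) :
    Function.Injective (shiftEquiv p a) := by
  have hdom := isDomain p a ham
  intro j j' h
  funext i
  have h1 := congrArg (fun σ => σ (uu p a i)) h
  simp only [shiftEquiv_apply, shift_uu] at h1
  have h2 := add_left_cancel h1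
  exact theta_injective p a (mul_right_cancel₀ (algebraMap_a_ne_zero p a ha0 i) h2)

theorem shiftEquiv_surjective (ha0 : ∀ i, a i ≠ 0)
    (ham : ∀ i, MvPowerSeries.constantCoeff (a i) = 0) :
    Function.Surjective (shiftEquiv p a) := by
  intro τ
  obtain ⟨j, hj⟩ := exists_shift p a ha0 ham τ.toAlgHom
  refine ⟨j, ?_⟩
  ext x
  rw [shiftEquiv_apply, ← hj]
  rfl

theorem card_aut (ha0 : ∀ i, a i ≠ 0) (ham : ∀ i, MvPowerSeries.constantCoeff (a i) = 0) :
    Nat.card ((MvPolynomial (Fin n) (MvPowerSeries (Fin n) k) ⧸ relIdeal p a)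
      ≃ₐ[MvPowerSeries (Fin n) k]
      (MvPolynomial (Fin n) (MvPowerSeries (Fin n) k) ⧸ relIdeal p a)) = p ^ n := by
  rw [← Nat.card_congr (Equiv.ofBijective (shiftEquiv p a)
    ⟨shiftEquiv_injective p a ha0 ham, shiftEquiv_surjective p a ha0 ham⟩), Nat.card_fun,
    Nat.card_zmod, Nat.card_fin]

theorem aut_comm (ha0 : ∀ i, a i ≠ 0) (ham : ∀ i, MvPowerSeries.constantCoeff (a i) = 0)
    (σ τ : (MvPolynomial (Fin n) (MvPowerSeries (Fin n) k) ⧸ relIdeal p a)
      ≃ₐ[MvPowerSeries (Fin n) k]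
      (MvPolynomial (Fin n) (MvPowerSeries (Fin n) k) ⧸ relIdeal p a)) : σ * τ = τ * σ := by
  obtain ⟨j, rfl⟩ := shiftEquiv_surjective p a ha0 ham σ
  obtain ⟨j', rfl⟩ := shiftEquiv_surjective p a ha0 ham τ
  rw [shiftEquiv_mul, shiftEquiv_mul, add_comm]

theorem aut_pow_p (ha0 : ∀ i, a i ≠ 0) (ham : ∀ i, MvPowerSeries.constantCoeff (a i) = 0)
    (σ : (MvPolynomial (Fin n) (MvPowerSeries (Fin n) k) ⧸ relIdeal p a)
      ≃ₐ[MvPowerSeries (Fin n) k]
      (MvPolynomial (Fin n) (MvPowerSeries (Fin n) k) ⧸ relIdeal p a)) : σ ^ p = 1 := by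
  obtain ⟨j, rfl⟩ := shiftEquiv_surjective p a ha0 ham σ
  exact shiftEquiv_pow_p p a j

theorem fixed_iff (ha0 : ∀ i, a i ≠ 0) (ham : ∀ i, MvPowerSeries.constantCoeff (a i) = 0)
    (b : MvPolynomial (Fin n) (MvPowerSeries (Fin n) k) ⧸ relIdeal p a) :
    (∀ σ : (MvPolynomial (Fin n) (MvPowerSeries (Fin n) k) ⧸ relIdeal p a)
      ≃ₐ[MvPowerSeries (Fin n) k]
      (MvPolynomial (Fin n) (MvPowerSeries (Fin n) k) ⧸ relIdeal p a), σ b = b) ↔
      b ∈ Set.range (algebraMap (MvPowerSeries (Fin n) k)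
        (MvPolynomial (Fin n) (MvPowerSeries (Fin n) k) ⧸ relIdeal p a)) := by
  constructor
  · intro hb
    have hdom := isDomain p a ham
    have hdomR : IsDomain (MvPowerSeries (Fin n) k) := NoZeroDivisors.to_isDomain _
    have hic : IsIntegrallyClosed (MvPowerSeries (Fin n) k) :=
      Groth.Agent.Lib.Helper28.isIntegrallyClosed_of_isRegularLocalRing _
    have hfaith : FaithfulSMul (MvPowerSeries (Fin n) k)
        (MvPolynomial (Fin n) (MvPowerSeries (Fin n) k) ⧸ relIdeal p a) :=
      (faithfulSMul_iff_algebraMap_injective _ _).mpr (algebraMap_injective p a)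
    have hrank := (free_finite_finrank p a).2.2
    refine Groth.Agent.Lib.R2H7.GaloisInvariants.mem_range_of_fixed
      (R := MvPowerSeries (Fin n) k)
      (A := MvPolynomial (Fin n) (MvPowerSeries (Fin n) k) ⧸ relIdeal p a) ?_ ?_ b hb
    · rw [hrank]
      exact card_aut p a ha0 ham
    · rw [hrank]
      exact pow_pos hp.out.pos n
  · rintro ⟨r, rfl⟩ σ
    exact σ.commutes r

end aut

end Groth.Agent.Lib.R2H7.ArtinSchreierFam
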