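import Mathlib

/-!
# Localizing away from `g` is localizing away from a positive power of `g`
-/

set_option autoImplicit false

namespace Groth.Agent.Lib.R2H7.RelFrob

theorem isLocalization_away_pow {R S : Type*} [CommSemiring R] [CommSemiring S] [Algebra R S]
    (g : R) (k : ℕ) (hk : 0 < k) [IsLocalization.Away g S] : IsLocalization.Away (g ^ k) S where
  map_units := by
    rintro ⟨_, j, rfl⟩
    change IsUnit (algebraMap R S ((g ^ k) ^ j))
    rw [← pow_mul]
    exact IsLocalization.map_units S (⟨g ^ (k * j), k * j, rfl⟩ : Submonoid.powers g)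
  surj := by
    intro s
    obtain ⟨⟨x, ⟨_, j, rfl⟩⟩, hx⟩ := IsLocalization.surj (Submonoid.powers g) s
    refine ⟨⟨x * g ^ (j * (k - 1)), ⟨(g ^ k) ^ j, j, rfl⟩⟩, ?_⟩
    change s * algebraMap R S ((g ^ k) ^ j) = algebraMap R S (x * g ^ (j * (k - 1)))
    change s * algebraMap R S (g ^ j) = algebraMap R S x at hx
    have h1 : (g ^ k) ^ j = g ^ j * g ^ (j * (k - 1)) := by
      rw [← pow_mul, ← pow_add]
      congr 1
      obtain ⟨k', rfl⟩ : ∃ k', k = k' + 1 := ⟨k - 1, by omega⟩
      simp only [add_tsub_cancel_right]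
      ring
    rw [h1, map_mul, ← mul_assoc, hx, map_mul]
  exists_of_eq := by
    intro x y hxy
    obtain ⟨⟨_, j, rfl⟩, hc⟩ := (IsLocalization.eq_iff_exists (Submonoid.powers g) S).mp hxy
    refine ⟨⟨(g ^ k) ^ j, j, rfl⟩, ?_⟩
    change g ^ j * x = g ^ j * y at hc
    change (g ^ k) ^ j * x = (g ^ k) ^ j * y
    have h1 : (g ^ k) ^ j = g ^ (j * (k - 1)) * g ^ j := by
      rw [← pow_mul, ← pow_add]
      congr 1
      obtain ⟨k', rfl⟩ : ∃ k', k = k' + 1 := ⟨k - 1, by omega⟩
      simp only [add_tsub_cancel_right]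
      ring
    rw [h1, mul_assoc, hc, mul_assoc]

end Groth.Agent.Lib.R2H7.RelFrob
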