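import Mathlib

/-!
# Beauville–Laszlo glueing of points of a quasi-affine scheme (R2H7.BLPoints)

For `φ : A → A'` and `t ∈ A` with `A/t^m ≅ A'/t^m` and bijective `t`-power torsion:
`A = A' ×_{A'_t} A_t` (`eq_of_eq`, `exists_glue`, `toE_bijective`), joint surjectivity of
`Spec A' ⊔ Spec A_t → Spec A` (`exists_prime`), and glueing of points of quasi-affine schemes (`main`).
-/

set_option autoImplicit false
universe u

namespace Groth.Agent.Lib.R2H7.BLPoints

section Ring

variable {A A' : Type u} [CommRing A] [CommRing A'] (φ : A →+* A') (t : A)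

lemma awayMap_algebraMap (a : A) :
    Localization.awayMap φ t (algebraMap A _ a) = algebraMap A' _ (φ a) := by
  simp [Localization.awayMap, IsLocalization.Away.map, IsLocalization.map_eq]

lemma loc_eq_zero_iff (a : A) :
    algebraMap A (Localization.Away t) a = 0 ↔ ∃ m : ℕ, t ^ m * a = 0 := by
  rw [IsLocalization.map_eq_zero_iff (Submonoid.powers t)]
  constructor
  · rintro ⟨⟨_, m, rfl⟩, h⟩; exact ⟨m, h⟩
  · rintro ⟨m, h⟩; exact ⟨⟨t ^ m, m, rfl⟩, h⟩

variable (htor : ∀ a' : A', (∃ m : ℕ, φ t ^ m * a' = 0) →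
  ∃! a : A, (∃ m : ℕ, t ^ m * a = 0) ∧ φ a = a')

include htor in
lemma eq_of_eq (a b : A) (h1 : φ a = φ b)
    (h2 : algebraMap A (Localization.Away t) a = algebraMap A (Localization.Away t) b) : a = b := by
  have h3 : algebraMap A (Localization.Away t) (a - b) = 0 := by rw [map_sub, h2, sub_self]
  have h4 := (loc_eq_zero_iff t _).1 h3
  have h5 := (htor 0 ⟨0, by simp⟩).unique ⟨h4, by rw [map_sub, h1, sub_self]⟩
    ⟨⟨0, by simp⟩, map_zero φ⟩
  exact sub_eq_zero.1 h5

variable (hq : ∀ m : ℕ, Function.Bijective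
  (Ideal.quotientMap (Ideal.map φ (Ideal.span {t} ^ m)) φ Ideal.le_comap_map))

include htor hq in
lemma exists_glue (x' : A') (y : Localization.Away t)
    (h : algebraMap A' (Localization.Away (φ t)) x' = Localization.awayMap φ t y) :
    ∃ a : A, φ a = x' ∧ algebraMap A (Localization.Away t) a = y := by
  obtain ⟨⟨b, ⟨_, n, rfl⟩⟩, hb⟩ := IsLocalization.surj (Submonoid.powers t) y
  have hb' : y * algebraMap A (Localization.Away t) (t ^ n) =
      algebraMap A (Localization.Away t) b := hb
  have e1 : algebraMap A' (Localization.Away (φ t)) (φ b) =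
      Localization.awayMap φ t y * algebraMap A' _ (φ t ^ n) := by
    rw [← awayMap_algebraMap φ t b, ← hb', map_mul, awayMap_algebraMap, map_pow]
  have h1 : algebraMap A' (Localization.Away (φ t)) (φ t ^ n * x' - φ b) = 0 := by
    rw [map_sub, map_mul, h, e1]; ring
  obtain ⟨τ, ⟨hτ, hτ'⟩, -⟩ := htor _ ((loc_eq_zero_iff (φ t) _).1 h1)
  have hb1 : φ (b + τ) = φ t ^ n * x' := by rw [map_add, hτ']; ring
  have hmem : b + τ ∈ Ideal.span {t} ^ n := by
    have h2 : Ideal.quotientMap (Ideal.map φ (Ideal.span {t} ^ n)) φ Ideal.le_comap_map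
        (Ideal.Quotient.mk _ (b + τ)) = 0 := by
      rw [Ideal.quotientMap_mk, hb1, Ideal.Quotient.eq_zero_iff_mem]
      apply Ideal.mul_mem_right
      rw [← map_pow]
      exact Ideal.mem_map_of_mem _ (Ideal.pow_mem_pow (Ideal.mem_span_singleton_self t) n)
    have h3 := (hq n).1 (h2.trans (map_zero _).symm)
    exact Ideal.Quotient.eq_zero_iff_mem.1 h3
  rw [Ideal.span_singleton_pow, Ideal.mem_span_singleton'] at hmem
  obtain ⟨a₀, ha₀⟩ := hmem
  have h4 : algebraMap A' (Localization.Away (φ t)) (x' - φ a₀) = 0 := by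
    rw [loc_eq_zero_iff]
    refine ⟨n, ?_⟩
    rw [mul_sub, ← hb1, ← ha₀, map_mul, map_pow]; ring
  obtain ⟨τ₂, ⟨hτ₂, hτ₂'⟩, -⟩ := htor _ ((loc_eq_zero_iff (φ t) _).1 h4)
  refine ⟨a₀ + τ₂, by rw [map_add, hτ₂']; ring, ?_⟩
  have hu : IsUnit (algebraMap A (Localization.Away t) (t ^ n)) :=
    IsLocalization.map_units _ (⟨t ^ n, n, rfl⟩ : Submonoid.powers t)
  apply hu.mul_right_cancel
  rw [hb', map_add, (loc_eq_zero_iff t τ₂).2 hτ₂, add_zero, ← map_mul, ha₀, map_add,
    (loc_eq_zero_iff t τ).2 hτ, add_zero]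

include hq in
lemma exists_prime (p : PrimeSpectrum A) :
    (∃ p' : PrimeSpectrum A', PrimeSpectrum.comap φ p' = p) ∨
    (∃ q : PrimeSpectrum (Localization.Away t),
      PrimeSpectrum.comap (algebraMap A (Localization.Away t)) q = p) := by
  by_cases ht : t ∈ p.asIdeal
  · left
    have hIp : Ideal.span {t} ^ 1 ≤ p.asIdeal := by
      rw [pow_one, Ideal.span_singleton_le_iff_mem]; exact ht
    have h1 : p ∈ Set.range (PrimeSpectrum.comap (Ideal.Quotient.mk (Ideal.span {t} ^ 1))) := by
      rw [range_comap_of_surjective _ _ Ideal.Quotient.mk_surjective, PrimeSpectrum.mem_zeroLocus,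
        Ideal.mk_ker]
      exact hIp
    obtain ⟨pbar, hpbar⟩ := h1
    let e := RingEquiv.ofBijective _ (hq 1)
    refine ⟨PrimeSpectrum.comap (Ideal.Quotient.mk (Ideal.map φ (Ideal.span {t} ^ 1)))
      (PrimeSpectrum.comap e.symm.toRingHom pbar), ?_⟩
    have hcomp : (e.symm.toRingHom.comp
        (Ideal.Quotient.mk (Ideal.map φ (Ideal.span {t} ^ 1)))).comp φ =
        Ideal.Quotient.mk (Ideal.span {t} ^ 1) := by
      ext a
      show e.symm (Ideal.Quotient.mk _ (φ a)) = Ideal.Quotient.mk _ a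
      rw [RingEquiv.symm_apply_eq]
      show _ = Ideal.quotientMap (Ideal.map φ (Ideal.span {t} ^ 1)) φ Ideal.le_comap_map
        (Ideal.Quotient.mk _ a)
      rw [Ideal.quotientMap_mk]
    rw [← hpbar, ← hcomp, PrimeSpectrum.comap_comp_apply, PrimeSpectrum.comap_comp_apply]
  · right
    have h1 := PrimeSpectrum.localization_away_comap_range (Localization.Away t) t
    have hp : p ∈ Set.range (PrimeSpectrum.comap (algebraMap A (Localization.Away t))) := by
      rw [h1]; exact ht
    exact hp

/-- the fibre product ring `A' ×_{A'_t} A_t` -/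
noncomputable def E : Subring (A' × Localization.Away t) :=
  RingHom.eqLocus ((algebraMap A' (Localization.Away (φ t))).comp (RingHom.fst _ _))
    ((Localization.awayMap φ t).comp (RingHom.snd _ _))

/-- the canonical map to the fibre product ring -/
noncomputable def toE : A →+* E φ t :=
  RingHom.codRestrict (RingHom.prod φ (algebraMap A (Localization.Away t))) (E φ t) (fun a => by
    show algebraMap A' _ (φ a) = Localization.awayMap φ t (algebraMap A _ a)
    rw [awayMap_algebraMap])

include htor hq in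
lemma toE_bijective : Function.Bijective (toE φ t) := by
  constructor
  · intro a b hab
    have h1 := congrArg Subtype.val hab
    exact eq_of_eq φ t htor a b (congrArg Prod.fst h1) (congrArg Prod.snd h1)
  · rintro ⟨⟨x', y⟩, hz⟩
    obtain ⟨a, ha1, ha2⟩ := exists_glue φ t htor hq x' y hz
    exact ⟨a, Subtype.ext (Prod.ext ha1 ha2)⟩

/-- glue two ring homomorphisms agreeing over `A'_t` -/
noncomputable def glueHom {S : Type u} [CommRing S] (ρ' : S →+* A')
    (ρt : S →+* Localization.Away t)
    (hcompat : (algebraMap A' (Localization.Away (φ t))).comp ρ' =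
      (Localization.awayMap φ t).comp ρt) : S →+* A :=
  (RingEquiv.ofBijective _ (toE_bijective φ t htor hq)).symm.toRingHom.comp
    (RingHom.codRestrict (RingHom.prod ρ' ρt) (E φ t) (fun s => RingHom.congr_fun hcompat s))

lemma glueHom_spec {S : Type u} [CommRing S] (ρ' : S →+* A')
    (ρt : S →+* Localization.Away t)
    (hcompat : (algebraMap A' (Localization.Away (φ t))).comp ρ' =
      (Localization.awayMap φ t).comp ρt) :
    φ.comp (glueHom φ t htor hq ρ' ρt hcompat) = ρ' ∧
      (algebraMap A (Localization.Away t)).comp (glueHom φ t htor hq ρ' ρt hcompat) = ρt := by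
  have key : ∀ s, toE φ t (glueHom φ t htor hq ρ' ρt hcompat s) =
      RingHom.codRestrict (RingHom.prod ρ' ρt) (E φ t)
        (fun s => RingHom.congr_fun hcompat s) s := by
    intro s
    exact (RingEquiv.ofBijective _ (toE_bijective φ t htor hq)).apply_symm_apply _
  constructor
  · ext s
    exact congrArg Prod.fst (congrArg Subtype.val (key s))
  · ext s
    exact congrArg Prod.snd (congrArg Subtype.val (key s))

end Ring

section Sch

open AlgebraicGeometry CategoryTheory

variable (A A' : Type u) [CommRing A] [CommRing A'] (φ : A →+* A') (t : A)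
  (hq : ∀ m : ℕ, Function.Bijective
    (Ideal.quotientMap (Ideal.map φ (Ideal.span {t} ^ m)) φ Ideal.le_comap_map))
  (htor : ∀ a' : A', (∃ m : ℕ, φ t ^ m * a' = 0) →
    ∃! a : A, (∃ m : ℕ, t ^ m * a = 0) ∧ φ a = a')

include htor in
/-- morphisms from `Spec A` to an affine scheme are determined on `Spec A'` and `Spec A_t` -/
lemma hom_ext_affine (S : CommRingCat.{u}) (f₁ f₂ : Spec (CommRingCat.of A) ⟶ Spec S)
    (h1 : Spec.map (CommRingCat.ofHom φ) ≫ f₁ = Spec.map (CommRingCat.ofHom φ) ≫ f₂)
    (h2 : Spec.map (CommRingCat.ofHom (algebraMap A (Localization.Away t))) ≫ f₁ =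
      Spec.map (CommRingCat.ofHom (algebraMap A (Localization.Away t))) ≫ f₂) : f₁ = f₂ := by
  rw [← Spec.map_preimage f₁, ← Spec.map_preimage f₂] at h1 h2 ⊢
  rw [← Spec.map_comp, ← Spec.map_comp] at h1 h2
  have e1 := Spec.map_injective h1
  have e2 := Spec.map_injective h2
  congr 1
  ext s
  apply eq_of_eq φ t htor
  · exact congrArg (fun g => g.hom s) e1
  · exact congrArg (fun g => g.hom s) e2

include htor hq in
theorem main (X : Scheme.{u}) [X.IsQuasiAffine] (p : X ⟶ Spec (CommRingCat.of A)) :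
    (∀ s₁ s₂ : Spec (CommRingCat.of A) ⟶ X, s₁ ≫ p = 𝟙 _ → s₂ ≫ p = 𝟙 _ →
        Spec.map (CommRingCat.ofHom φ) ≫ s₁ = Spec.map (CommRingCat.ofHom φ) ≫ s₂ →
        Spec.map (CommRingCat.ofHom (algebraMap A (Localization.Away t))) ≫ s₁ =
          Spec.map (CommRingCat.ofHom (algebraMap A (Localization.Away t))) ≫ s₂ →
        s₁ = s₂) ∧
    (∀ (x' : Spec (CommRingCat.of A') ⟶ X) (xt : Spec (CommRingCat.of (Localization.Away t)) ⟶ X),
        x' ≫ p = Spec.map (CommRingCat.ofHom φ) →
        xt ≫ p = Spec.map (CommRingCat.ofHom (algebraMap A (Localization.Away t))) →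
        Spec.map (CommRingCat.ofHom (algebraMap A' (Localization.Away (φ t)))) ≫ x' =
          Spec.map (CommRingCat.ofHom (Localization.awayMap φ t)) ≫ xt →
        ∃ s : Spec (CommRingCat.of A) ⟶ X, s ≫ p = 𝟙 _ ∧
          Spec.map (CommRingCat.ofHom φ) ≫ s = x' ∧
          Spec.map (CommRingCat.ofHom (algebraMap A (Localization.Away t))) ≫ s = xt) := by
  constructor
  · intro s₁ s₂ _ _ h1 h2
    apply (cancel_mono X.toSpecΓ).1
    apply hom_ext_affine A A' φ t htor
    · rw [← Category.assoc, h1, Category.assoc]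
    · rw [← Category.assoc, h2, Category.assoc]
  · intro x' xt hx' hxt hcomp
    have hr' := Spec.map_preimage (x' ≫ X.toSpecΓ)
    have hrt := Spec.map_preimage (xt ≫ X.toSpecΓ)
    set r' := Spec.preimage (x' ≫ X.toSpecΓ) with hr'def
    set rt := Spec.preimage (xt ≫ X.toSpecΓ) with hrtdef
    have hcompat : (algebraMap A' (Localization.Away (φ t))).comp r'.hom =
        (Localization.awayMap φ t).comp rt.hom := by
      have h3 : Spec.map (CommRingCat.ofHom (algebraMap A' (Localization.Away (φ t)))) ≫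
          Spec.map r' = Spec.map (CommRingCat.ofHom (Localization.awayMap φ t)) ≫ Spec.map rt := by
        rw [hr', hrt, ← Category.assoc, hcomp, Category.assoc]
      rw [← Spec.map_comp, ← Spec.map_comp] at h3
      have h4 := Spec.map_injective h3
      exact congrArg (fun g => g.hom) h4
    obtain ⟨hρ1, hρ2⟩ := glueHom_spec φ t htor hq r'.hom rt.hom hcompat
    set ρ := glueHom φ t htor hq r'.hom rt.hom hcompat with hρdef
    set s₀ : Spec (CommRingCat.of A) ⟶ Spec Γ(X, ⊤) := Spec.map (CommRingCat.ofHom ρ) with hs₀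
    have hΦ : Spec.map (CommRingCat.ofHom φ) ≫ s₀ = x' ≫ X.toSpecΓ := by
      rw [hs₀, ← Spec.map_comp, ← hr']
      congr 1
      ext s
      exact RingHom.congr_fun hρ1 s
    have hΛ : Spec.map (CommRingCat.ofHom (algebraMap A (Localization.Away t))) ≫ s₀ =
        xt ≫ X.toSpecΓ := by
      rw [hs₀, ← Spec.map_comp, ← hrt]
      congr 1
      ext s
      exact RingHom.congr_fun hρ2 s
    have hrange : Set.range ⇑s₀ ⊆ Set.range ⇑X.toSpecΓ := by
      rintro _ ⟨q, rfl⟩
      rcases exists_prime φ t hq q with ⟨p', hp'⟩ | ⟨q', hq'⟩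
      · refine ⟨x' p', ?_⟩
        have h5 : (Spec.map (CommRingCat.ofHom φ) ≫ s₀) p' = (x' ≫ X.toSpecΓ) p' := by rw [hΦ]
        rw [← hp']
        exact h5.symm
      · refine ⟨xt q', ?_⟩
        have h5 : (Spec.map (CommRingCat.ofHom (algebraMap A (Localization.Away t))) ≫ s₀) q' =
            (xt ≫ X.toSpecΓ) q' := by rw [hΛ]
        rw [← hq']
        exact h5.symm
    have hfac := IsOpenImmersion.lift_fac X.toSpecΓ s₀ hrange
    set s := IsOpenImmersion.lift X.toSpecΓ s₀ hrange with hs
    have hsx : Spec.map (CommRingCat.ofHom φ) ≫ s = x' := by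
      apply (cancel_mono X.toSpecΓ).1
      rw [Category.assoc, hfac, hΦ]
    have hst : Spec.map (CommRingCat.ofHom (algebraMap A (Localization.Away t))) ≫ s = xt := by
      apply (cancel_mono X.toSpecΓ).1
      rw [Category.assoc, hfac, hΛ]
    refine ⟨s, ?_, hsx, hst⟩
    apply hom_ext_affine A A' φ t htor
    · rw [← Category.assoc, hsx, hx', Category.comp_id]
    · rw [← Category.assoc, hst, hxt, Category.comp_id]

end Sch

end Groth.Agent.Lib.R2H7.BLPoints
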