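/-
Irreducible binary quadratic forms with nonzero discriminant: the normal form, the quadratic
extension `L = K[t]/(a t^2 + b t + c)`, its two roots and the conjugation.
-/
import Mathlib

set_option autoImplicit false
universe u

namespace Groth.Agent.Lib.R2H7.BinaryQuad

section form

open MvPolynomial

variable {K : Type u} [Field K]

/-- The exponent vectors of degree `2` in two variables. -/
theorem eq_of_degree_two (m : Fin 2 →₀ ℕ) (hm : m.degree = 2) :
    m = Finsupp.single 0 2 ∨ m = Finsupp.single 0 1 + Finsupp.single 1 1 ∨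
      m = Finsupp.single 1 2 := by
  have h01 : m 0 + m 1 = 2 := by
    rw [Finsupp.degree_eq_sum, Fin.sum_univ_two] at hm
    exact hm
  have h0 : m 0 ≤ 2 := by omega
  interval_cases h : m 0
  · right; right
    ext i
    fin_cases i
    · simp [h]
    · simp; omega
  · right; left
    ext i
    fin_cases i
    · simp [h]
    · simp; omega
  · left
    ext i
    fin_cases i
    · simp [h]
    · simp; omega

theorem degree_s20 : (Finsupp.single (0 : Fin 2) 2).degree = 2 := by simp
theorem degree_s11 :
    (Finsupp.single (0 : Fin 2) 1 + Finsupp.single (1 : Fin 2) 1).degree = 2 := by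
  rw [Finsupp.degree_eq_sum, Fin.sum_univ_two]; simp
theorem degree_s02 : (Finsupp.single (1 : Fin 2) 2).degree = 2 := by simp

theorem s20_ne_s11 : (Finsupp.single (0 : Fin 2) 2 : Fin 2 →₀ ℕ) ≠
    Finsupp.single 0 1 + Finsupp.single 1 1 := by
  intro h
  have := DFunLike.congr_fun h 1
  simp at this

theorem s20_ne_s02 : (Finsupp.single (0 : Fin 2) 2 : Fin 2 →₀ ℕ) ≠ Finsupp.single 1 2 := by
  intro h
  have := DFunLike.congr_fun h 1
  simp at this

theorem s11_ne_s02 : (Finsupp.single (0 : Fin 2) 1 + Finsupp.single 1 1 : Fin 2 →₀ ℕ) ≠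
    Finsupp.single 1 2 := by
  intro h
  have := DFunLike.congr_fun h 0
  simp at this

/-- A binary quadratic form is `a x₀² + b x₀ x₁ + c x₁²`. -/
theorem eq_of_isHomogeneous (q : MvPolynomial (Fin 2) K) (hq : q.IsHomogeneous 2) :
    q = C (q.coeff (Finsupp.single 0 2)) * X 0 ^ 2 +
      C (q.coeff (Finsupp.single 0 1 + Finsupp.single 1 1)) * X 0 * X 1 +
      C (q.coeff (Finsupp.single 1 2)) * X 1 ^ 2 := by
  classical
  have e1 : ∀ a : K, (C a * X 0 ^ 2 : MvPolynomial (Fin 2) K) =
      monomial (Finsupp.single 0 2) a := fun a => C_mul_X_pow_eq_monomial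
  have e3 : ∀ a : K, (C a * X 1 ^ 2 : MvPolynomial (Fin 2) K) =
      monomial (Finsupp.single 1 2) a := fun a => C_mul_X_pow_eq_monomial
  have e2 : ∀ a : K, (C a * X 0 * X 1 : MvPolynomial (Fin 2) K) =
      monomial (Finsupp.single 0 1 + Finsupp.single 1 1) a := by
    intro a
    rw [monomial_add_single, pow_one, ← C_mul_X_pow_eq_monomial, pow_one]
  rw [e1, e2, e3]
  ext m
  rw [coeff_add, coeff_add, coeff_monomial, coeff_monomial, coeff_monomial]
  by_cases hm : m.degree = 2
  · rcases eq_of_degree_two m hm with rfl | rfl | rfl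
    · rw [if_pos rfl, if_neg s20_ne_s11.symm, if_neg s20_ne_s02.symm, add_zero, add_zero]
    · rw [if_neg s20_ne_s11, if_pos rfl, if_neg s11_ne_s02.symm, zero_add, add_zero]
    · rw [if_neg s20_ne_s02, if_neg s11_ne_s02, if_pos rfl, zero_add, zero_add]
  · rw [hq.coeff_eq_zero hm, if_neg, if_neg, if_neg, add_zero, add_zero]
    · rintro rfl; exact hm degree_s02
    · rintro rfl; exact hm degree_s11
    · rintro rfl; exact hm degree_s20

theorem not_isUnit_of_eval_zero (p : MvPolynomial (Fin 2) K)
    (h : MvPolynomial.eval (fun _ => (0 : K)) p = 0) : ¬ IsUnit p := by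
  intro hu
  have := hu.map (MvPolynomial.eval (fun _ => (0 : K)))
  rw [h] at this
  exact not_isUnit_zero this

/-- An irreducible binary quadratic form has no `K`-rational root. -/
theorem quad_ne_zero (q : MvPolynomial (Fin 2) K) (hq : q.IsHomogeneous 2) (hirr : Irreducible q)
    (ρ : K) : q.coeff (Finsupp.single 0 2) * ρ ^ 2 +
      q.coeff (Finsupp.single 0 1 + Finsupp.single 1 1) * ρ + q.coeff (Finsupp.single 1 2) ≠ 0 := by
  intro h0
  set a := q.coeff (Finsupp.single 0 2) with ha
  set b := q.coeff (Finsupp.single 0 1 + Finsupp.single 1 1) with hb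
  set c := q.coeff (Finsupp.single 1 2) with hc
  have hc' : c = -(a * ρ ^ 2 + b * ρ) := by linear_combination h0
  have hfac : q = (X 0 - C ρ * X 1) * (C a * X 0 + C (a * ρ + b) * X 1) := by
    rw [eq_of_isHomogeneous q hq, ← ha, ← hb, ← hc, hc']
    simp only [map_neg, map_add, map_mul, map_pow]
    ring
  rcases hirr.isUnit_or_isUnit hfac with h | h
  · exact not_isUnit_of_eval_zero _ (by simp) h
  · exact not_isUnit_of_eval_zero _ (by simp) h

theorem coeff_ne_zero (q : MvPolynomial (Fin 2) K) (hq : q.IsHomogeneous 2) (hirr : Irreducible q) :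
    q.coeff (Finsupp.single 0 2) ≠ 0 := by
  intro h0
  have hfac : q = X 1 * (C (q.coeff (Finsupp.single 0 1 + Finsupp.single 1 1)) * X 0 +
      C (q.coeff (Finsupp.single 1 2)) * X 1) := by
    conv_lhs => rw [eq_of_isHomogeneous q hq, h0]
    simp only [map_zero, zero_mul, zero_add]
    ring
  rcases hirr.isUnit_or_isUnit hfac with h | h
  · exact not_isUnit_of_eval_zero _ (by simp) h
  · exact not_isUnit_of_eval_zero _ (by simp) h

end form

section ext

open Polynomial

variable {K : Type u} [Field K]

/-- The dehomogenized quadratic polynomial. -/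
noncomputable def quad (a b c : K) : K[X] := C a * X ^ 2 + C b * X + C c

theorem eval₂_quad {S : Type*} [CommRing S] (f : K →+* S) (x : S) (a b c : K) :
    (quad a b c).eval₂ f x = f a * x ^ 2 + f b * x + f c := by
  unfold quad
  rw [eval₂_add, eval₂_add, eval₂_mul, eval₂_mul, eval₂_C, eval₂_C, eval₂_C, eval₂_pow, eval₂_X]

theorem quad_irreducible {a b c : K} (ha : a ≠ 0) (h : ∀ ρ : K, a * ρ ^ 2 + b * ρ + c ≠ 0) :
    Irreducible (quad a b c) := by
  apply irreducible_of_degree_le_three_of_not_isRoot
  · rw [quad, natDegree_quadratic ha]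
    decide
  · intro ρ hρ
    apply h ρ
    rw [IsRoot.def, quad] at hρ
    simpa using hρ

variable (a b c : K) [hQ : Fact (Irreducible (quad a b c))]

/-- The quadratic extension. -/
abbrev Lq : Type u := AdjoinRoot (quad a b c)

/-- The root `α`. -/
noncomputable def alpha : Lq a b c := AdjoinRoot.root (quad a b c)

/-- The other root `ᾱ = -b/a - α`. -/
noncomputable def alphaBar : Lq a b c := -(algebraMap K (Lq a b c) (b / a)) - alpha a b c

theorem alpha_eq : algebraMap K (Lq a b c) a * alpha a b c ^ 2 +
    algebraMap K (Lq a b c) b * alpha a b c + algebraMap K (Lq a b c) c = 0 := by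
  have h := AdjoinRoot.eval₂_root (quad a b c)
  rw [eval₂_quad] at h
  exact h

variable (ha : a ≠ 0)

include ha in
theorem beta_eq : algebraMap K (Lq a b c) a * algebraMap K (Lq a b c) (b / a) -
    algebraMap K (Lq a b c) b = 0 := by
  rw [← map_mul, mul_div_cancel₀ b ha, sub_self]

include ha in
theorem alphaBar_eq : algebraMap K (Lq a b c) a * alphaBar a b c ^ 2 +
    algebraMap K (Lq a b c) b * alphaBar a b c + algebraMap K (Lq a b c) c = 0 := by
  have h1 := alpha_eq a b c
  have h2 := beta_eq a b c ha
  rw [alphaBar]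
  linear_combination h1 + (2 * alpha a b c + algebraMap K (Lq a b c) (b / a)) * h2

include ha in
theorem vieta_sum : algebraMap K (Lq a b c) a * (alpha a b c + alphaBar a b c) =
    -algebraMap K (Lq a b c) b := by
  have h2 := beta_eq a b c ha
  rw [alphaBar]
  linear_combination -h2

include ha in
theorem vieta_prod : algebraMap K (Lq a b c) a * (alpha a b c * alphaBar a b c) =
    algebraMap K (Lq a b c) c := by
  have h1 := alpha_eq a b c
  have h2 := beta_eq a b c ha
  rw [alphaBar]
  linear_combination -h1 - alpha a b c * h2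

include ha in
theorem disc_eq : algebraMap K (Lq a b c) a ^ 2 * (alpha a b c - alphaBar a b c) ^ 2 =
    algebraMap K (Lq a b c) (b ^ 2 - 4 * a * c) := by
  have h1 := alpha_eq a b c
  have h2 := beta_eq a b c ha
  rw [alphaBar, map_sub, map_mul, map_mul, map_pow, map_ofNat]
  linear_combination 4 * algebraMap K (Lq a b c) a * h1 +
    (4 * algebraMap K (Lq a b c) a * alpha a b c + algebraMap K (Lq a b c) a *
      algebraMap K (Lq a b c) (b / a) + algebraMap K (Lq a b c) b) * h2

include ha in
theorem alpha_sub_ne_zero (hdisc : b ^ 2 - 4 * a * c ≠ 0) : alpha a b c - alphaBar a b c ≠ 0 := by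
  intro h0
  have h := disc_eq a b c ha
  rw [h0, zero_pow two_ne_zero, mul_zero] at h
  exact hdisc ((map_eq_zero _).mp h.symm)

/-- The conjugation of `L` over `K`. -/
noncomputable def sigma (ha : a ≠ 0) : Lq a b c →ₐ[K] Lq a b c :=
  AdjoinRoot.liftAlgHom (quad a b c) (Algebra.ofId K (Lq a b c)) (alphaBar a b c) (by
    rw [eval₂_quad]
    exact alphaBar_eq a b c ha)

theorem sigma_alpha : sigma a b c ha (alpha a b c) = alphaBar a b c := by
  unfold sigma alpha
  rw [AdjoinRoot.liftAlgHom_root]

theorem sigma_alphaBar : sigma a b c ha (alphaBar a b c) = alpha a b c := by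
  have h : alphaBar a b c = -(algebraMap K (Lq a b c) (b / a)) - alpha a b c := rfl
  rw [h, map_sub, map_neg, AlgHom.commutes, sigma_alpha, h]
  ring

end ext

end Groth.Agent.Lib.R2H7.BinaryQuad
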