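import Mathlib
import Groth.Agent.Lib.LeadCSA

/-!
# Brauer groups over a separable algebraic extension (S18519)

`forward`: if every finite separable extension of `F` has trivial Brauer group, then every central
division algebra over a finite separable `E/K` splits over any field containing `E` and `F`.
`backward`: the converse, by descending a division algebra over `F'/F` to a finite subextension.
-/

set_option autoImplicit false
set_option linter.style.haveILetI false
set_option linter.unusedSectionVars false
universe u
open scoped TensorProduct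

namespace Groth.Agent.Lib.R2H7.BrSepAlg

open Groth.Agent.Lib
open IntermediateField

/-- If `M_n(D)` is central over `k` then so is `D`. -/
theorem isCentral_of_matrix {k : Type*} [Field k] {D : Type*} [DivisionRing D] [Algebra k D] {n : ℕ}
    [NeZero n] [Algebra.IsCentral k (Matrix (Fin n) (Fin n) D)] : Algebra.IsCentral k D := by
  constructor
  intro z hz
  have hzc : ∀ d : D, d * z = z * d := Subalgebra.mem_center_iff.mp hz
  have hz' : Matrix.scalar (Fin n) z ∈ Subalgebra.center k (Matrix (Fin n) (Fin n) D) := by
    rw [Subalgebra.mem_center_iff]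
    intro m
    ext i j
    simp [hzc]
  obtain ⟨c, hc⟩ := (Algebra.IsCentral.mem_center_iff k).mp hz'
  have h00 := congrFun (congrFun hc 0) 0
  rw [Matrix.algebraMap_matrix_apply] at h00
  simp only [Matrix.scalar_apply, Matrix.diagonal_apply_eq, if_true] at h00
  exact Algebra.mem_bot.mpr ⟨c, h00.symm⟩

/-- a finite-dimensional algebra of dimension one over a field is the field -/
theorem bijective_algebraMap_of_finrank_eq_one {k : Type*} [Field k] {D : Type*} [Ring D]
    [Nontrivial D] [Algebra k D] [FiniteDimensional k D] (h : Module.finrank k D = 1) :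
    Function.Bijective (Algebra.ofId k D) := by
  have hinj : Function.Injective (Algebra.ofId k D) := (Algebra.ofId k D).toRingHom.injective
  have hfr : Module.finrank k k = Module.finrank k D := by rw [h, Module.finrank_self]
  exact ⟨hinj, (LinearMap.injective_iff_surjective_of_finrank_eq_finrank
    (f := (Algebra.ofId k D).toLinearMap) hfr).mp hinj⟩

section Forward

variable (K F : Type u) [Field K] [Field F] [Algebra K F]

theorem forward
    (h : ∀ (F' : Type u) [Field F'] [Algebra F F'] [FiniteDimensional F F']
        [Algebra.IsSeparable F F']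
        (D : Type u) [DivisionRing D] [Algebra F' D] [Algebra.IsCentral F' D]
        [FiniteDimensional F' D], Module.finrank F' D = 1)
    (E : Type u) [Field E] [Algebra K E] [FiniteDimensional K E] [Algebra.IsSeparable K E]
    (D : Type u) [DivisionRing D] [Algebra E D] [Algebra.IsCentral E D] [FiniteDimensional E D]
    (M : Type u) [Field M] [Algebra K M] [Algebra E M] [Algebra F M] [IsScalarTower K E M]
    [IsScalarTower K F M] :
    ∃ n : ℕ, Nonempty ((M ⊗[E] D) ≃ₐ[M] Matrix (Fin n) (Fin n) M) := by
  classical
  obtain ⟨α, hα⟩ := Field.exists_primitive_element K E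
  set a : M := algebraMap E M α with ha
  have hsepK : IsSeparable K a :=
    (Algebra.IsSeparable.isSeparable K α).map (IsScalarTower.toAlgHom K E M)
      (RingHom.injective _)
  have hsepF : IsSeparable F a := hsepK.tower_top F
  let F' : IntermediateField F M := IntermediateField.adjoin F {a}
  haveI : FiniteDimensional F F' := IntermediateField.adjoin.finiteDimensional hsepF.isIntegral
  haveI : Algebra.IsSeparable F F' :=
    (IntermediateField.isSeparable_adjoin_simple_iff_isSeparable F M).mpr hsepF
  have hmem : ∀ e : E, algebraMap E M e ∈ F' := by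
    intro e
    let T : IntermediateField K E :=
      (F'.restrictScalars K).comap (IsScalarTower.toAlgHom K E M)
    have hαT : α ∈ T := by
      show (IsScalarTower.toAlgHom K E M) α ∈ F'.restrictScalars K
      exact IntermediateField.mem_adjoin_simple_self F a
    have hle : K⟮α⟯ ≤ T := IntermediateField.adjoin_simple_le_iff.mpr hαT
    have he : e ∈ T := hle (hα ▸ IntermediateField.mem_top)
    exact he
  letI algEF' : Algebra E F' := ((algebraMap E M).codRestrict F' hmem).toAlgebra
  haveI : IsScalarTower E F' M := IsScalarTower.of_algebraMap_eq (fun x => rfl)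
  haveI : Algebra.IsCentral F' (F' ⊗[E] D) := LeadCSA.isCentral_baseChange F'
  haveI : IsSimpleRing (F' ⊗[E] D) := LeadCSA.isSimpleRing_baseChange F'
  haveI : IsArtinianRing (F' ⊗[E] D) := IsArtinianRing.of_finite F' _
  obtain ⟨n, hn, D', _, _, _, ⟨e⟩⟩ :=
    IsSimpleRing.exists_algEquiv_matrix_divisionRing_finite F' (F' ⊗[E] D)
  haveI : Algebra.IsCentral F' (Matrix (Fin n) (Fin n) D') := Algebra.IsCentral.of_algEquiv _ _ _ e
  haveI : Algebra.IsCentral F' D' := isCentral_of_matrix (n := n)
  have h1 : Module.finrank F' D' = 1 := h F' D'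
  let e1 : F' ≃ₐ[F'] D' :=
    AlgEquiv.ofBijective (Algebra.ofId F' D') (bijective_algebraMap_of_finrank_eq_one h1)
  let e2 : F' ⊗[E] D ≃ₐ[F'] Matrix (Fin n) (Fin n) F' := e.trans e1.symm.mapMatrix
  -- the map D → M_n(M)
  let ψ : D →ₐ[E] Matrix (Fin n) (Fin n) M :=
    ((IsScalarTower.toAlgHom E F' M).mapMatrix).comp
      ((e2.toAlgHom.restrictScalars E).comp
        (Algebra.TensorProduct.includeRight : D →ₐ[E] F' ⊗[E] D))
  let Φ : M ⊗[E] D →ₐ[M] Matrix (Fin n) (Fin n) M :=
    Algebra.TensorProduct.lift (Algebra.ofId M _) ψ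
      (fun x y => Algebra.commute_algebraMap_left x (ψ y))
  haveI : IsSimpleRing (M ⊗[E] D) := LeadCSA.isSimpleRing_baseChange M
  have hinj : Function.Injective Φ := Φ.toRingHom.injective
  have hfr : Module.finrank M (M ⊗[E] D) = Module.finrank M (Matrix (Fin n) (Fin n) M) := by
    rw [Module.finrank_baseChange, Module.finrank_matrix, Module.finrank_self,
      ← Module.finrank_baseChange (R := F') (S := E) (M' := D), e2.toLinearEquiv.finrank_eq,
      Module.finrank_matrix, Module.finrank_self]
  have hbij : Function.Bijective Φ :=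
    ⟨hinj, (LinearMap.injective_iff_surjective_of_finrank_eq_finrank
      (f := Φ.toLinearMap) hfr).mp hinj⟩
  exact ⟨n, ⟨AlgEquiv.ofBijective Φ hbij⟩⟩

end Forward

section Backward

/-- a matrix algebra `M_n(k)` that is a domain has `n = 1` -/
theorem eq_one_of_noZeroDivisors {k : Type*} [Field k] {n : ℕ}
    [NoZeroDivisors (Matrix (Fin n) (Fin n) k)] [Nontrivial (Matrix (Fin n) (Fin n) k)] :
    n = 1 := by
  classical
  by_contra hne
  have hn0 : n ≠ 0 := by
    rintro rfl
    exact not_subsingleton (Matrix (Fin 0) (Fin 0) k) inferInstance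
  have h2 : 2 ≤ n := by omega
  let i0 : Fin n := ⟨0, by omega⟩
  let i1 : Fin n := ⟨1, by omega⟩
  have hne01 : i0 ≠ i1 := by
    intro h
    have := congrArg Fin.val h
    simp [i0, i1] at this
  let x : Matrix (Fin n) (Fin n) k := Matrix.diagonal (fun i => if i = i0 then 1 else 0)
  let y : Matrix (Fin n) (Fin n) k := Matrix.diagonal (fun i => if i = i0 then 0 else 1)
  have hxy : x * y = 0 := by
    rw [Matrix.diagonal_mul_diagonal]
    ext i j
    by_cases hij : i = j
    · subst hij
      by_cases hi : i = i0 <;> simp [hi]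
    · simp [Matrix.diagonal_apply_ne _ hij]
  rcases mul_eq_zero.mp hxy with hx | hy
  · have := congrFun (congrFun hx i0) i0
    simp [x] at this
  · have := congrFun (congrFun hy i1) i1
    simp [y, hne01.symm] at this

variable (K F : Type u) [Field K] [Field F] [Algebra K F] [Algebra.IsSeparable K F]

theorem backward
    (h2 : ∀ (E : Type u) [Field E] [Algebra K E] [FiniteDimensional K E] [Algebra.IsSeparable K E]
        (D : Type u) [DivisionRing D] [Algebra E D] [Algebra.IsCentral E D]
        [FiniteDimensional E D]
        (M : Type u) [Field M] [Algebra K M] [Algebra E M] [Algebra F M] [IsScalarTower K E M]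
        [IsScalarTower K F M],
        ∃ n : ℕ, Nonempty ((M ⊗[E] D) ≃ₐ[M] Matrix (Fin n) (Fin n) M))
    (F' : Type u) [Field F'] [Algebra F F'] [FiniteDimensional F F'] [Algebra.IsSeparable F F']
    (D : Type u) [DivisionRing D] [Algebra F' D] [Algebra.IsCentral F' D]
    [FiniteDimensional F' D] :
    Module.finrank F' D = 1 := by
  classical
  letI : Algebra K F' := ((algebraMap F F').comp (algebraMap K F)).toAlgebra
  haveI : IsScalarTower K F F' := IsScalarTower.of_algebraMap_eq (fun x => rfl)
  haveI : Algebra.IsSeparable K F' := Algebra.IsSeparable.trans K F F'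
  obtain ⟨m, hm⟩ : ∃ m, m = Module.finrank F' D := ⟨_, rfl⟩
  let b : Module.Basis (Fin m) F' D := (Module.finBasis F' D).reindex (finCongr hm.symm)
  let S : Set F' :=
    (Set.range fun p : Fin m × Fin m × Fin m => b.repr (b p.1 * b p.2.1) p.2.2) ∪
      Set.range (fun l : Fin m => b.repr 1 l)
  haveI : Finite S := ((Set.finite_range _).union (Set.finite_range _)).to_subtype
  let E : IntermediateField K F' := IntermediateField.adjoin K S
  haveI : FiniteDimensional K E :=
    IntermediateField.finiteDimensional_adjoin (fun x _ => Algebra.IsSeparable.isIntegral K x)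
  haveI : Algebra.IsSeparable K E := Algebra.isSeparable_tower_bot_of_isSeparable K E F'
  have hc : ∀ i j l, b.repr (b i * b j) l ∈ E := fun i j l =>
    IntermediateField.subset_adjoin K S (Or.inl ⟨(i, j, l), rfl⟩)
  have hu : ∀ l, b.repr 1 l ∈ E := fun l =>
    IntermediateField.subset_adjoin K S (Or.inr ⟨l, rfl⟩)
  let P : Submodule E D := Submodule.span E (Set.range b)
  have hbP : ∀ i, b i ∈ P := fun i => Submodule.subset_span ⟨i, rfl⟩
  have hsmulP : ∀ (t : F') (ht : t ∈ E) (l : Fin m), t • b l ∈ P := by
    intro t ht l
    have : t • b l = (⟨t, ht⟩ : E) • b l := rfl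
    rw [this]
    exact P.smul_mem _ (hbP l)
  have hone : (1 : D) ∈ P := by
    rw [← b.sum_repr 1]
    exact Submodule.sum_mem _ (fun l _ => hsmulP _ (hu l) l)
  have hmul : ∀ x y, x ∈ P → y ∈ P → x * y ∈ P := by
    intro x y hx hy
    induction hx using Submodule.span_induction with
    | mem x hx =>
      obtain ⟨i, rfl⟩ := hx
      induction hy using Submodule.span_induction with
      | mem y hy =>
        obtain ⟨j, rfl⟩ := hy
        rw [← b.sum_repr (b i * b j)]
        exact Submodule.sum_mem _ (fun l _ => hsmulP _ (hc i j l) l)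
      | zero => simp
      | add y z _ _ hy hz => rw [mul_add]; exact P.add_mem hy hz
      | smul c y _ hy => rw [mul_smul_comm]; exact P.smul_mem c hy
    | zero => simp
    | add x z _ _ hx hz => rw [add_mul]; exact P.add_mem hx hz
    | smul c x _ hx => rw [smul_mul_assoc]; exact P.smul_mem c hx
  let D₀ : Subalgebra E D := P.toSubalgebra hone hmul
  have hD₀ : ∀ x : D, x ∈ D₀ ↔ x ∈ P := fun x => Iff.rfl
  -- coordinates of elements of P lie in E
  have hcoord : ∀ x ∈ P, ∀ l, b.repr x l ∈ E := by
    intro x hx
    induction hx using Submodule.span_induction with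
    | mem x hx =>
      obtain ⟨i, rfl⟩ := hx
      intro l
      rw [b.repr_self, Finsupp.single_apply]
      split_ifs
      · exact E.one_mem
      · exact E.zero_mem
    | zero => intro l; simp
    | add x z _ _ hx hz => intro l; rw [map_add, Finsupp.add_apply]; exact E.add_mem (hx l) (hz l)
    | smul c x _ hx =>
      intro l
      have : c • x = (c : F') • x := rfl
      rw [this, map_smul, Finsupp.smul_apply, smul_eq_mul]
      exact E.mul_mem c.2 (hx l)
  -- basis of D₀ over E
  let v : Fin m → D₀ := fun i => ⟨b i, hbP i⟩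
  have hliE : LinearIndependent E (b : Fin m → D) :=
    b.linearIndependent.restrict_scalars' E
  have hli : LinearIndependent E v :=
    LinearIndependent.of_comp D₀.val.toLinearMap (by exact hliE)
  have hspan : ⊤ ≤ Submodule.span E (Set.range v) := by
    intro x _
    have hx : (x : D) ∈ Submodule.map D₀.val.toLinearMap (Submodule.span E (Set.range v)) := by
      rw [Submodule.map_span, ← Set.range_comp]
      exact x.2
    obtain ⟨y, hy, hyx⟩ := hx
    have : y = x := Subtype.ext hyx
    exact this ▸ hy
  let b₀ : Module.Basis (Fin m) E D₀ := Module.Basis.mk hli hspan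
  haveI : FiniteDimensional E D₀ := Module.Finite.of_basis b₀
  have hfr₀ : Module.finrank E D₀ = m := by
    rw [Module.finrank_eq_card_basis b₀, Fintype.card_fin]
  letI : DivisionRing D₀ := divisionRingOfFiniteDimensional E D₀
  -- centrality
  haveI : Algebra.IsCentral E D₀ := by
    constructor
    intro z hz
    have hzc : ∀ y : D₀, y * z = z * y := Subalgebra.mem_center_iff.mp hz
    have hzD : ∀ d : D, d * (z : D) = (z : D) * d := by
      intro d
      have hd : d ∈ Submodule.span F' (Set.range b) := by rw [b.span_eq]; trivial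
      induction hd using Submodule.span_induction with
      | mem x hx =>
        obtain ⟨i, rfl⟩ := hx
        exact congrArg Subtype.val (hzc (v i))
      | zero => simp
      | add x y _ _ hx hy => rw [add_mul, mul_add, hx, hy]
      | smul c x _ hx => rw [smul_mul_assoc, mul_smul_comm, hx]
    have hzcen : (z : D) ∈ Subalgebra.center F' D := Subalgebra.mem_center_iff.mpr hzD
    obtain ⟨t, ht⟩ := (Algebra.IsCentral.mem_center_iff F').mp hzcen
    have hrepr : ∀ l, b.repr (z : D) l = t * b.repr 1 l := by
      intro l
      rw [ht, Algebra.algebraMap_eq_smul_one, map_smul, Finsupp.smul_apply, smul_eq_mul]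
    obtain ⟨l, hl⟩ : ∃ l, b.repr 1 l ≠ 0 := by
      by_contra hcon
      push Not at hcon
      have : b.repr (1 : D) = 0 := Finsupp.ext hcon
      have h10 : (1 : D) = 0 := by
        have := congrArg b.repr.symm this
        simpa using this
      exact one_ne_zero h10
    have htE : t ∈ E := by
      have h1 : t = b.repr (z : D) l / b.repr 1 l := by
        rw [hrepr l, mul_div_assoc, div_self hl, mul_one]
      rw [h1]
      exact E.div_mem (hcoord _ z.2 l) (hu l)
    refine Algebra.mem_bot.mpr ⟨⟨t, htE⟩, ?_⟩
    apply Subtype.ext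
    rw [ht]
    rfl
  obtain ⟨n, ⟨e⟩⟩ := h2 E D₀ F'
  -- the comparison map F' ⊗ D₀ → D
  let μ : F' ⊗[E] D₀ →ₐ[F'] D :=
    Algebra.TensorProduct.lift (Algebra.ofId F' D) D₀.val
      (fun x y => Algebra.commute_algebraMap_left x _)
  have hsurj : Function.Surjective μ := by
    rw [← AlgHom.coe_toLinearMap, ← LinearMap.range_eq_top, eq_top_iff, ← b.span_eq,
      Submodule.span_le]
    rintro _ ⟨i, rfl⟩
    refine ⟨(1 : F') ⊗ₜ[E] v i, ?_⟩
    show μ ((1 : F') ⊗ₜ[E] v i) = b i
    have h1 : μ ((1 : F') ⊗ₜ[E] v i) = (Algebra.ofId F' D) 1 * D₀.val (v i) :=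
      Algebra.TensorProduct.lift_tmul _ _ _ _ _
    rw [h1, map_one, one_mul]
    rfl
  have hfr : Module.finrank F' (F' ⊗[E] D₀) = Module.finrank F' D := by
    rw [Module.finrank_baseChange, hfr₀, hm]
  have hbij : Function.Bijective μ :=
    ⟨(LinearMap.injective_iff_surjective_of_finrank_eq_finrank
      (f := μ.toLinearMap) hfr).mpr hsurj, hsurj⟩
  let ee : D ≃ₐ[F'] Matrix (Fin n) (Fin n) F' := (AlgEquiv.ofBijective μ hbij).symm.trans e
  haveI : NoZeroDivisors (Matrix (Fin n) (Fin n) F') :=
    ee.symm.injective.noZeroDivisors _ (map_zero _) (map_mul _)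
  haveI : Nontrivial (Matrix (Fin n) (Fin n) F') := ee.symm.surjective.nontrivial
  have hn1 : n = 1 := eq_one_of_noZeroDivisors (k := F') (n := n)
  rw [ee.toLinearEquiv.finrank_eq, Module.finrank_matrix, Module.finrank_self, hn1]
  simp

end Backward

end Groth.Agent.Lib.R2H7.BrSepAlg
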