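import Mathlib

/-!
# Unipotence of `p`-group representations in characteristic `p`

* `exists_fixed_ne_zero`: a finite `p`-group acting linearly on a nonzero vector space over a field
  of characteristic `p` has a nonzero fixed vector.
* `exists_admissible_family`: for such a representation on a space of dimension `n` there is a
  family `u : Fin n → V` such that for every choice `τ : Fin n → G` the vectors `ρ (τ i) (u i)`
  span `V`.
-/

namespace Groth.Agent.Lib.R2H7.PGroupFlag

open Module

theorem exists_fixed_ne_zero {p : ℕ} [Fact p.Prime] {k : Type*} [Field k] [CharP k p]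
    {G : Type*} [Group G] [Finite G] (hG : IsPGroup p G)
    {V : Type*} [AddCommGroup V] [Module k V] [Nontrivial V] (ρ : Representation k G V) :
    ∃ v : V, v ≠ 0 ∧ ∀ g, ρ g v = v := by
  classical
  have := Fintype.ofFinite G
  obtain ⟨w, hw⟩ := exists_ne (0 : V)
  let c : ZMod p →+* k := ZMod.castHom (dvd_refl p) k
  let φ : (G → ZMod p) →+ V :=
    { toFun := fun f => ∑ g, c (f g) • ρ g w
      map_zero' := by simp
      map_add' := by intro f f'; simp [add_smul, Finset.sum_add_distrib] }
  have hφ : ∀ f, φ f = ∑ g, c (f g) • ρ g w := fun f => rfl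
  let M : AddSubgroup V := φ.range
  have hstab : ∀ (h : G) (v : V), v ∈ M → ρ h v ∈ M := by
    rintro h _ ⟨f, rfl⟩
    refine ⟨fun g => f (h⁻¹ * g), ?_⟩
    rw [hφ, hφ, map_sum, ← Equiv.sum_comp (Equiv.mulLeft h)]
    refine Finset.sum_congr rfl fun g _ => ?_
    simp [map_mul]
  have hwM : w ∈ M := by
    refine ⟨Pi.single 1 1, ?_⟩
    rw [hφ, Finset.sum_eq_single (1 : G)]
    · simp
    · intro g _ hg
      simp [hg]
    · simp
  have : Finite M := by
    have : (M : Set V) = Set.range φ := rfl
    exact Set.Finite.to_subtype (this ▸ Set.finite_range φ)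
  let _ : MulAction G M :=
    { smul := fun g m => ⟨ρ g m.1, hstab g m.1 m.2⟩
      one_smul := fun m => Subtype.ext (by show ρ 1 m.1 = m.1; simp)
      mul_smul := fun g h m => Subtype.ext (by show ρ (g * h) m.1 = ρ g (ρ h m.1); simp) }
  have hsm : ∀ (g : G) (m : M), ((g • m : M) : V) = ρ g m.1 := fun g m => rfl
  have hp0 : (p : k) = 0 := CharP.cast_eq_zero k p
  have hpw : p • (⟨w, hwM⟩ : M) = 0 := by
    apply Subtype.ext
    show p • w = 0
    rw [← Nat.cast_smul_eq_nsmul k, hp0, zero_smul]
  have hwne : (⟨w, hwM⟩ : M) ≠ 0 := fun h => hw (congrArg Subtype.val h)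
  have hcard : p ∣ Nat.card M := by
    have h1 : addOrderOf (⟨w, hwM⟩ : M) = p := addOrderOf_eq_prime hpw hwne
    rw [← h1]
    exact addOrderOf_dvd_natCard _
  have h0 : (0 : M) ∈ MulAction.fixedPoints G M := by
    intro g
    apply Subtype.ext
    rw [hsm]
    simp
  obtain ⟨b, hb, hb0⟩ := hG.exists_fixed_point_of_prime_dvd_card_of_fixed_point M hcard h0
  refine ⟨b.1, fun h => hb0 (Subtype.ext h.symm), fun g => ?_⟩
  have := hb g
  rw [← hsm, this]

theorem exists_admissible_family {p : ℕ} [Fact p.Prime] {k : Type*} [Field k] [CharP k p]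
    {G : Type*} [Group G] [Finite G] (hG : IsPGroup p G) (n : ℕ) :
    ∀ (V : Type*) [AddCommGroup V] [Module k V] [FiniteDimensional k V]
      (ρ : Representation k G V), finrank k V = n →
      ∃ u : Fin n → V, ∀ τ : Fin n → G,
        Submodule.span k (Set.range fun i => ρ (τ i) (u i)) = ⊤ := by
  induction n with
  | zero =>
    intro V _ _ _ ρ hV
    have : Subsingleton V := Module.finrank_zero_iff.mp hV
    exact ⟨fun i => i.elim0, fun τ => Subsingleton.elim _ _⟩
  | succ n ih =>
    intro V _ _ _ ρ hV
    have : Nontrivial V := Module.nontrivial_of_finrank_pos (R := k) (by omega)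
    obtain ⟨e, he, hfix⟩ := exists_fixed_ne_zero hG ρ
    let W : Submodule k V := Submodule.span k {e}
    have hW : ∀ g, W ≤ W.comap (ρ g) := by
      intro g
      rw [Submodule.span_le]
      intro x hx
      rw [Set.mem_singleton_iff] at hx
      rw [hx]
      show ρ g e ∈ W
      rw [hfix g]
      exact Submodule.mem_span_singleton_self e
    have hdim : finrank k (V ⧸ W) = n := by
      have h1 := Submodule.finrank_quotient_add_finrank W
      have h2 : finrank k W = 1 := finrank_span_singleton he
      omega
    obtain ⟨u', hu'⟩ := ih (V ⧸ W) (ρ.quotient W hW) hdim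
    choose ul hul using fun i => Submodule.mkQ_surjective W (u' i)
    refine ⟨Fin.cons e ul, fun τ => ?_⟩
    set S := Submodule.span k (Set.range fun i => ρ (τ i) ((Fin.cons e ul : Fin (n+1) → V) i))
      with hS
    have heS : e ∈ S := by
      have : ρ (τ 0) ((Fin.cons e ul : Fin (n+1) → V) 0) ∈ S :=
        Submodule.subset_span ⟨0, rfl⟩
      simpa [hfix] using this
    have hWS : W ≤ S := by
      rw [Submodule.span_le]
      intro x hx
      rw [Set.mem_singleton_iff] at hx
      rw [hx]
      exact heS
    have hmap : S.map W.mkQ = ⊤ := by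
      rw [eq_top_iff, ← hu' (fun i => τ i.succ), Submodule.span_le]
      rintro _ ⟨i, rfl⟩
      refine ⟨ρ (τ i.succ) (ul i), ?_, ?_⟩
      · have : ρ (τ i.succ) ((Fin.cons e ul : Fin (n+1) → V) i.succ) ∈ S :=
          Submodule.subset_span ⟨i.succ, rfl⟩
        simpa using this
      · simp [← hul i]
    rw [eq_top_iff]
    intro v _
    have : W.mkQ v ∈ S.map W.mkQ := by rw [hmap]; trivial
    obtain ⟨s, hs, hsv⟩ := this
    have : v - s ∈ W := by
      rw [← Submodule.ker_mkQ W, LinearMap.mem_ker, map_sub, hsv, sub_self]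
    have := S.add_mem (hWS this) hs
    simpa using this

end Groth.Agent.Lib.R2H7.PGroupFlag
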