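import Mathlib
import Groth.Agent.Lib.R2H7PGroupFlag

/-!
# The representation of a group of automorphisms of a local ring on its cotangent space

For a group `G` acting on a local ring `A` by ring automorphisms that induce the identity on the
residue field, the induced action on `𝔪/𝔪²` is linear over the residue field.  For a finite
`p`-group and a regular local ring of characteristic `p` we deduce the existence of an
"admissible" regular system of parameters.
-/

namespace Groth.Agent.Lib.R2H7.CotangentRep

open IsLocalRing Module

variable {A : Type*} [CommRing A] [IsLocalRing A] {G : Type*} [Group G] [MulSemiringAction G A]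

theorem smul_mem_maximalIdeal (σ : G) {x : A} (hx : x ∈ maximalIdeal A) :
    σ • x ∈ maximalIdeal A := by
  rw [mem_maximalIdeal, mem_nonunits_iff] at hx ⊢
  intro h
  apply hx
  have := h.map (MulSemiringAction.toRingHom G A σ⁻¹)
  simpa using this

/-- The additive map induced on the cotangent space. -/
noncomputable def cotMap (σ : G) : CotangentSpace A →ₗ[ℤ] CotangentSpace A :=
  Ideal.mapCotangent (maximalIdeal A) (maximalIdeal A)
    (MulSemiringAction.toRingHom G A σ).toIntAlgHom (fun _ hx => smul_mem_maximalIdeal σ hx)

theorem cotMap_toCotangent (σ : G) (x : maximalIdeal A) :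
    cotMap σ ((maximalIdeal A).toCotangent x) =
      (maximalIdeal A).toCotangent ⟨σ • (x : A), smul_mem_maximalIdeal σ x.2⟩ := rfl

theorem cotMap_smul (hres : ∀ (σ : G) (a : A), σ • a - a ∈ maximalIdeal A) (σ : G)
    (c : ResidueField A) (v : CotangentSpace A) : cotMap σ (c • v) = c • cotMap σ v := by
  obtain ⟨a, rfl⟩ := IsLocalRing.residue_surjective c
  obtain ⟨x, rfl⟩ := (maximalIdeal A).toCotangent_surjective v
  have h1 : ∀ w : CotangentSpace A, IsLocalRing.residue A a • w = a • w := fun w =>
    algebraMap_smul (ResidueField A) a w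
  rw [h1, h1, ← map_smul, cotMap_toCotangent, cotMap_toCotangent, ← map_smul,
    Ideal.toCotangent_eq]
  have : ((⟨σ • ((a • x : maximalIdeal A) : A), smul_mem_maximalIdeal σ (a • x).2⟩ :
      maximalIdeal A) : A) -
      ((a • (⟨σ • (x : A), smul_mem_maximalIdeal σ x.2⟩ : maximalIdeal A) : maximalIdeal A) : A)
      = (σ • a - a) * (σ • (x : A)) := by
    simp [smul_mul', sub_mul]
  rw [this, pow_two]
  exact Ideal.mul_mem_mul (hres σ a) (smul_mem_maximalIdeal σ x.2)

/-- The `k`-linear map induced on the cotangent space. -/
noncomputable def cotLin (hres : ∀ (σ : G) (a : A), σ • a - a ∈ maximalIdeal A) (σ : G) :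
    CotangentSpace A →ₗ[ResidueField A] CotangentSpace A where
  toFun := cotMap σ
  map_add' := map_add _
  map_smul' := cotMap_smul hres σ

theorem cotLin_toCotangent (hres : ∀ (σ : G) (a : A), σ • a - a ∈ maximalIdeal A) (σ : G)
    (x : maximalIdeal A) :
    cotLin hres σ ((maximalIdeal A).toCotangent x) =
      (maximalIdeal A).toCotangent ⟨σ • (x : A), smul_mem_maximalIdeal σ x.2⟩ := rfl

/-- The representation of `G` on the cotangent space. -/
noncomputable def cotRep (hres : ∀ (σ : G) (a : A), σ • a - a ∈ maximalIdeal A) :
    Representation (ResidueField A) G (CotangentSpace A) where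
  toFun := cotLin hres
  map_one' := by
    ext v
    obtain ⟨x, rfl⟩ := (maximalIdeal A).toCotangent_surjective v
    rw [cotLin_toCotangent]
    simp
  map_mul' := by
    intro σ τ
    ext v
    obtain ⟨x, rfl⟩ := (maximalIdeal A).toCotangent_surjective v
    rw [Module.End.mul_apply, cotLin_toCotangent, cotLin_toCotangent, cotLin_toCotangent]
    simp [mul_smul]

theorem cotRep_toCotangent (hres : ∀ (σ : G) (a : A), σ • a - a ∈ maximalIdeal A) (σ : G)
    (x : maximalIdeal A) :
    cotRep hres σ ((maximalIdeal A).toCotangent x) =
      (maximalIdeal A).toCotangent ⟨σ • (x : A), smul_mem_maximalIdeal σ x.2⟩ := rfl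

theorem exists_admissible_parameters (p : ℕ) [Fact p.Prime] (A : Type*) [CommRing A]
    [IsRegularLocalRing A] [CharP A p]
    (G : Type*) [Group G] [Finite G] [MulSemiringAction G A] (hG : IsPGroup p G)
    (hres : ∀ (σ : G) (a : A), σ • a - a ∈ IsLocalRing.maximalIdeal A)
    (n : ℕ) (hn : ringKrullDim A = n) :
    ∃ u : Fin n → A, ∀ τ : Fin n → G,
      Ideal.span (Set.range fun i => τ i • u i) = IsLocalRing.maximalIdeal A := by
  have hchar : CharP (ResidueField A) p := by
    have h0 : ((p : ℕ) : ResidueField A) = 0 := by
      rw [← map_natCast (IsLocalRing.residue A), CharP.cast_eq_zero A p, map_zero]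
    exact ringChar.eq_iff.mp (CharP.ringChar_of_prime_eq_zero (Fact.out : p.Prime) h0)
  have hfin : finrank (ResidueField A) (CotangentSpace A) = n := by
    have h := (IsRegularLocalRing.iff_finrank_cotangentSpace A).mp inferInstance
    rw [hn] at h
    exact_mod_cast h
  obtain ⟨u', hu'⟩ := PGroupFlag.exists_admissible_family (k := ResidueField A) hG n
    (CotangentSpace A) (cotRep hres) hfin
  choose x hx using fun i => (maximalIdeal A).toCotangent_surjective (u' i)
  refine ⟨fun i => (x i : A), fun τ => ?_⟩
  let s : Set (maximalIdeal A) :=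
    Set.range fun i => (⟨τ i • (x i : A), smul_mem_maximalIdeal (τ i) (x i).2⟩ : maximalIdeal A)
  have himg : (maximalIdeal A).toCotangent '' s = Set.range fun i => cotRep hres (τ i) (u' i) := by
    rw [← Set.range_comp]
    congr 1
    funext i
    rw [Function.comp_apply, ← hx i, cotRep_toCotangent]
  have hspan : Submodule.span A s = ⊤ := by
    rw [← CotangentSpace.span_image_eq_top_iff, himg, hu' τ]
  have := congrArg (Submodule.map (maximalIdeal A).subtype) hspan
  rw [Submodule.map_span, Submodule.map_top, Submodule.range_subtype, ← Set.range_comp] at this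
  exact this

end Groth.Agent.Lib.R2H7.CotangentRep
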