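import Mathlib
import Groth.Agent.Lib.Helper5RLR3
import Groth.Agent.Lib.Helper5HilbertRLR
import Groth.Agent.Lib.Helper28DepthCM2
import Groth.Agent.Lib.Helper28OCarroll
import Groth.Agent.Lib.R2H7CotangentRep

/-!
# Lengths of quotients by products of parameters in a regular local ring

In a regular (hence Cohen–Macaulay) local ring of dimension `n`, if every choice of one factor from
each of `n` lists of elements of `𝔪` is a system of parameters, then the quotient by the `n`
products has length at least the product of the lengths of the lists.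
-/

set_option autoImplicit false
universe u w

namespace Groth.Agent.Lib.R2H7.NormLength

open IsLocalRing RingTheory.Sequence

section

variable {A : Type u} [CommRing A] [IsLocalRing A]

theorem ofList_le_maximalIdeal {l : List A} (hl : ∀ x ∈ l, x ∈ maximalIdeal A) :
    Ideal.ofList l ≤ maximalIdeal A := by
  rw [Ideal.span_le]
  intro x hx
  exact hl x hx

theorem ofList_ne_top {l : List A} (hl : ∀ x ∈ l, x ∈ maximalIdeal A) : Ideal.ofList l ≠ ⊤ :=
  fun h => (maximalIdeal.isMaximal A).ne_top (top_le_iff.mp (h ▸ ofList_le_maximalIdeal hl))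

theorem ofList_congr {l l' : List A} (h : ∀ x, x ∈ l ↔ x ∈ l') : Ideal.ofList l = Ideal.ofList l' := by
  unfold Ideal.ofList
  congr 1
  ext x
  exact h x

theorem ringKrullDim_quotient_eq_zero {I : Ideal A} (hI : I ≠ ⊤)
    (h : maximalIdeal A ≤ I.radical) : ringKrullDim (A ⧸ I) = 0 := by
  haveI : Nontrivial (A ⧸ I) := Ideal.Quotient.nontrivial_iff.mpr hI
  rw [← ringKrullDimZero_iff_ringKrullDim_eq_zero,
    Ideal.krullDimLE_zero_quotient_iff_forall_minimalPrimes_isMaximal]
  intro J hJ
  have hle : maximalIdeal A ≤ J := h.trans (hJ.1.1.radical_le_iff.mpr hJ.1.2)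
  rw [← (maximalIdeal.isMaximal A).eq_of_le hJ.1.1.ne_top hle]
  exact maximalIdeal.isMaximal A

theorem length_quotient_eq_zero_of_eq_top {I : Ideal A} (h : I = ⊤) :
    Module.length A (A ⧸ I) = 0 := by
  subst h
  exact Module.length_eq_zero

theorem one_le_length_quotient {I : Ideal A} (h : I ≠ ⊤) :
    1 ≤ Module.length A (A ⧸ I) := by
  haveI : Nontrivial (A ⧸ I) := Ideal.Quotient.nontrivial_iff.mpr h
  exact Order.one_le_iff_pos.mpr Module.length_pos

/-- `𝔪 ≤ rad I` as soon as every prime containing `I` contains `𝔪`. -/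
theorem le_radical_of_forall_prime {I : Ideal A}
    (h : ∀ P : Ideal A, P.IsPrime → I ≤ P → maximalIdeal A ≤ P) : maximalIdeal A ≤ I.radical := by
  rw [Ideal.radical_eq_sInf]
  exact le_sInf fun P hP => h P hP.2 hP.1

theorem exists_mem_of_list_prod_mem {P : Ideal A} (hP : P.IsPrime) :
    ∀ l : List A, l.prod ∈ P → ∃ x ∈ l, x ∈ P := by
  intro l
  induction l with
  | nil =>
    intro h
    rw [List.prod_nil] at h
    exact absurd ((Ideal.eq_top_iff_one P).mpr h) hP.ne_top
  | cons a l ih =>
    intro h
    rw [List.prod_cons] at h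
    rcases hP.mem_or_mem h with h | h
    · exact ⟨a, List.mem_cons_self, h⟩
    · obtain ⟨x, hx, hxP⟩ := ih h
      exact ⟨x, List.mem_cons_of_mem _ hx, hxP⟩

theorem exists_section_mem {P : Ideal A} (hP : P.IsPrime) :
    ∀ Fs : List (List A), (∀ l ∈ Fs, l.prod ∈ P) → ∃ c ∈ Fs.sections, ∀ x ∈ c, x ∈ P := by
  intro Fs
  induction Fs with
  | nil =>
    intro _
    exact ⟨[], by simp, by simp⟩
  | cons l Fs ih =>
    intro h
    obtain ⟨x, hx, hxP⟩ := exists_mem_of_list_prod_mem hP l (h l List.mem_cons_self)
    obtain ⟨c, hc, hcP⟩ := ih fun l' hl' => h l' (List.mem_cons_of_mem _ hl')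
    refine ⟨x :: c, ?_, ?_⟩
    · rw [List.mem_sections] at hc ⊢
      exact List.Forall₂.cons hx hc
    · intro y hy
      rcases List.mem_cons.mp hy with rfl | hy
      · exact hxP
      · exact hcP y hy

end

section

variable {A : Type u} [CommRing A] [IsRegularLocalRing A]

theorem isWeaklyRegular_of_par {n : ℕ} (hn : ringKrullDim A = n) (l : List A)
    (hlen : l.length = n) (hm : ∀ x ∈ l, x ∈ maximalIdeal A)
    (hr : maximalIdeal A ≤ (Ideal.ofList l).radical) : IsWeaklyRegular A l := by
  have hCM : LocCoh.IsCohenMacaulayLocalRing A :=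
    Groth.Agent.Lib.Helper5.isCohenMacaulayLocalRing_of_isRegularLocalRing A
  have hCM' : LocCoh.IsCohenMacaulayModule A A := hCM.supportDim_eq_depth
  apply Groth.Agent.Lib.Helper28.isWeaklyRegular_of_supportDim_add_length_eq l A hCM' hm
  rw [Module.supportDim_self_eq_ringKrullDim, hn, hlen]
  have h1 : (Ideal.ofList l • ⊤ : Submodule A A) = Ideal.ofList l := by
    rw [smul_eq_mul, Ideal.mul_top]
  rw [Module.supportDim_eq_of_equiv (Submodule.quotEquivOfEq _ _ h1)]
  have h2 : Module.supportDim A (A ⧸ Ideal.ofList l) = ringKrullDim (A ⧸ Ideal.ofList l) :=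
    Module.supportDim_quotient_eq_ringKrullDim _
  rw [h2, ringKrullDim_quotient_eq_zero (ofList_ne_top hm) hr, zero_add]


/-- If every `g :: cs` with `g ∈ fs` is a system of parameters, so is `fs.prod :: cs`
(`fs` nonempty). -/
theorem par_prod_cons (cs fs : List A) (hfs : fs ≠ [])
    (hm : ∀ f ∈ fs, f ∈ maximalIdeal A)
    (hr : ∀ f ∈ fs, maximalIdeal A ≤ (Ideal.ofList (f :: cs)).radical) :
    fs.prod ∈ maximalIdeal A ∧ maximalIdeal A ≤ (Ideal.ofList (fs.prod :: cs)).radical := by
  constructor
  · obtain ⟨f, fs', rfl⟩ := List.exists_cons_of_ne_nil hfs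
    rw [List.prod_cons]
    exact Ideal.mul_mem_right _ _ (hm f List.mem_cons_self)
  · apply le_radical_of_forall_prime
    intro P hP hle
    have h1 : fs.prod ∈ P := hle (Ideal.subset_span (List.mem_cons_self))
    obtain ⟨g, hg, hgP⟩ := exists_mem_of_list_prod_mem hP fs h1
    refine (hr g hg).trans (hP.radical_le_iff.mpr ?_)
    rw [Ideal.span_le]
    intro x hx
    rcases List.mem_cons.mp hx with rfl | hx
    · exact hgP
    · exact hle (Ideal.subset_span (List.mem_cons_of_mem _ hx))

theorem length_prod_cons {n : ℕ} (hn : ringKrullDim A = n) (cs : List A)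
    (hcs : cs.length + 1 = n) (hcm : ∀ x ∈ cs, x ∈ maximalIdeal A) :
    ∀ fs : List A, (∀ f ∈ fs, f ∈ maximalIdeal A) →
      (∀ f ∈ fs, maximalIdeal A ≤ (Ideal.ofList (f :: cs)).radical) →
      Module.length A (A ⧸ Ideal.ofList (fs.prod :: cs)) =
        (fs.map fun f => Module.length A (A ⧸ Ideal.ofList (f :: cs))).sum := by
  intro fs
  induction fs with
  | nil =>
    intro _ _
    rw [List.map_nil, List.sum_nil]
    apply length_quotient_eq_zero_of_eq_top
    rw [List.prod_nil, Ideal.ofList_cons, Ideal.span_singleton_one, top_sup_eq]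
  | cons f fs ih =>
    intro hm hr
    have hpar := par_prod_cons cs (f :: fs) (List.cons_ne_nil _ _) hm hr
    rw [List.prod_cons] at hpar
    have hwr : IsWeaklyRegular A ((f * fs.prod) :: cs) := by
      apply isWeaklyRegular_of_par hn _ (by rw [List.length_cons]; exact hcs) _ hpar.2
      intro x hx
      rcases List.mem_cons.mp hx with rfl | hx
      · exact hpar.1
      · exact hcm x hx
    obtain ⟨-, hinj⟩ := Groth.Agent.Lib.Helper28.isWeaklyRegular_cons_of_mul f fs.prod cs hwr
    have hinj' : ∀ a : A, fs.prod * a ∈ Ideal.ofList ((f * fs.prod) :: cs) →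
        a ∈ Ideal.ofList (f :: cs) := by
      intro a ha
      have := hinj a (by rw [smul_eq_mul, Ideal.mul_top]; exact ha)
      rwa [smul_eq_mul, Ideal.mul_top] at this
    have hx : ∀ a ∈ Ideal.ofList (f :: cs), fs.prod * a ∈ Ideal.ofList ((f * fs.prod) :: cs) := by
      intro a ha
      rw [Ideal.ofList_cons] at ha ⊢
      obtain ⟨y, hy, z, hz, rfl⟩ := Submodule.mem_sup.mp ha
      obtain ⟨t, rfl⟩ := Ideal.mem_span_singleton'.mp hy
      rw [mul_add]
      refine Ideal.add_mem _ (Ideal.mem_sup_left ?_) (Ideal.mem_sup_right (Ideal.mul_mem_left _ _ hz))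
      rw [Ideal.mem_span_singleton']
      exact ⟨t, by ring⟩
    have hlen := Groth.Agent.Lib.Helper5.HilbertRLR.length_eq_add_of_colon
      (Ideal.ofList (f :: cs)) (Ideal.ofList ((f * fs.prod) :: cs)) fs.prod hx hinj'
    have hsup : Ideal.ofList ((f * fs.prod) :: cs) ⊔ Ideal.span {fs.prod} =
        Ideal.ofList (fs.prod :: cs) := by
      rw [Ideal.ofList_cons, Ideal.ofList_cons]
      apply le_antisymm
      · refine sup_le (sup_le ?_ le_sup_right) le_sup_left
        rw [Ideal.span_singleton_le_iff_mem]
        exact Ideal.mem_sup_left (Ideal.mem_span_singleton'.mpr ⟨f, rfl⟩)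
      · exact sup_le le_sup_right (le_sup_left.trans' le_sup_right)
    rw [List.prod_cons, hlen, hsup, List.map_cons, List.sum_cons,
      ih (fun g hg => hm g (List.mem_cons_of_mem _ hg)) (fun g hg => hr g (List.mem_cons_of_mem _ hg))]


theorem le_length_of_sections {n : ℕ} (hn : ringKrullDim A = n) :
    ∀ (Fs : List (List A)) (ds : List A), Fs.length + ds.length = n →
      (∀ l ∈ Fs, ∀ x ∈ l, x ∈ maximalIdeal A) → (∀ x ∈ ds, x ∈ maximalIdeal A) →
      (∀ c ∈ Fs.sections, maximalIdeal A ≤ (Ideal.ofList (c ++ ds)).radical) →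
      (((Fs.map List.length).prod : ℕ) : ℕ∞) ≤
        Module.length A (A ⧸ Ideal.ofList (Fs.map List.prod ++ ds)) := by
  intro Fs
  induction Fs with
  | nil =>
    intro ds _ _ hd _
    simp only [List.map_nil, List.prod_nil, Nat.cast_one, List.nil_append]
    exact one_le_length_quotient (ofList_ne_top hd)
  | cons fs Fs ih =>
    intro ds hlen hm hd hr
    by_cases h0 : ((fs :: Fs).map List.length).prod = 0
    · rw [h0]; simp
    have hne : ∀ l ∈ fs :: Fs, l ≠ [] := by
      intro l hl hnil
      apply h0
      rw [List.prod_eq_zero_iff]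
      exact List.mem_map.mpr ⟨l, hl, by rw [hnil]; rfl⟩
    set cs := Fs.map List.prod ++ ds with hcs
    have hcslen : cs.length + 1 = n := by
      rw [hcs, List.length_append, List.length_map]
      rw [List.length_cons] at hlen
      omega
    have hcm : ∀ x ∈ cs, x ∈ maximalIdeal A := by
      intro x hx
      rcases List.mem_append.mp hx with hx | hx
      · obtain ⟨l, hl, rfl⟩ := List.mem_map.mp hx
        obtain ⟨g, l', rfl⟩ := List.exists_cons_of_ne_nil (hne l (List.mem_cons_of_mem _ hl))
        rw [List.prod_cons]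
        exact Ideal.mul_mem_right _ _ (hm _ (List.mem_cons_of_mem _ hl) g List.mem_cons_self)
      · exact hd x hx
    have hfm : ∀ f ∈ fs, f ∈ maximalIdeal A := hm fs List.mem_cons_self
    have hfr : ∀ f ∈ fs, maximalIdeal A ≤ (Ideal.ofList (f :: cs)).radical := by
      intro f hf
      apply le_radical_of_forall_prime
      intro P hP hle
      have hprod : ∀ l ∈ Fs, l.prod ∈ P := by
        intro l hl
        apply hle
        apply Ideal.subset_span
        exact List.mem_cons_of_mem _ (List.mem_append_left _ (List.mem_map.mpr ⟨l, hl, rfl⟩))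
      obtain ⟨c, hc, hcP⟩ := exists_section_mem hP Fs hprod
      have hsec : (f :: c) ∈ (fs :: Fs).sections := by
        rw [List.mem_sections] at hc ⊢
        exact List.Forall₂.cons hf hc
      refine (hr _ hsec).trans (hP.radical_le_iff.mpr ?_)
      rw [Ideal.span_le]
      intro x hx
      rcases List.mem_append.mp hx with hx | hx
      · rcases List.mem_cons.mp hx with rfl | hx
        · exact hle (Ideal.subset_span List.mem_cons_self)
        · exact hcP x hx
      · exact hle (Ideal.subset_span (List.mem_cons_of_mem _ (List.mem_append_right _ hx)))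
    have hH := length_prod_cons hn cs hcslen hcm fs hfm hfr
    have hgoal : Ideal.ofList ((fs :: Fs).map List.prod ++ ds) = Ideal.ofList (fs.prod :: cs) := by
      rw [List.map_cons, List.cons_append]
    rw [hgoal, hH, List.map_cons, List.prod_cons]
    have hterm : ∀ f ∈ fs, (((Fs.map List.length).prod : ℕ) : ℕ∞) ≤
        Module.length A (A ⧸ Ideal.ofList (f :: cs)) := by
      intro f hf
      have heq : Ideal.ofList (f :: cs) = Ideal.ofList (Fs.map List.prod ++ (f :: ds)) := by
        apply ofList_congr
        intro x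
        simp only [hcs, List.mem_cons, List.mem_append]
        tauto
      rw [heq]
      apply ih (f :: ds)
      · rw [List.length_cons] at hlen ⊢
        omega
      · exact fun l hl => hm l (List.mem_cons_of_mem _ hl)
      · intro x hx
        rcases List.mem_cons.mp hx with rfl | hx
        · exact hfm _ hf
        · exact hd x hx
      · intro c hc
        have hsec : (f :: c) ∈ (fs :: Fs).sections := by
          rw [List.mem_sections] at hc ⊢
          exact List.Forall₂.cons hf hc
        have heq2 : Ideal.ofList (c ++ f :: ds) = Ideal.ofList ((f :: c) ++ ds) := by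
          apply ofList_congr
          intro x
          simp only [List.mem_cons, List.mem_append]
          tauto
        rw [heq2]
        exact hr _ hsec
    calc ((fs.length * (Fs.map List.length).prod : ℕ) : ℕ∞)
        = (fs.map fun _ => (((Fs.map List.length).prod : ℕ) : ℕ∞)).sum := by
          rw [List.map_const', List.sum_replicate, nsmul_eq_mul]
          push_cast
          rfl
      _ ≤ (fs.map fun f => Module.length A (A ⧸ Ideal.ofList (f :: cs))).sum :=
          List.sum_le_sum hterm

end

theorem le_length_quotient_span_norm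
    (A : Type u) [CommRing A] [IsRegularLocalRing A]
    (G : Type w) [Group G] [Fintype G] [MulSemiringAction G A]
    (n : ℕ) (hn : ringKrullDim A = n) (u : Fin n → A)
    (hu : Ideal.span (Set.range u) = IsLocalRing.maximalIdeal A)
    (hwa : ∀ τ : Fin n → G,
      IsLocalRing.maximalIdeal A ≤ (Ideal.span (Set.range fun i => τ i • u i)).radical) :
    ((Fintype.card G ^ n : ℕ) : ℕ∞) ≤
      Module.length A (A ⧸ Ideal.span (Set.range fun i => ∏ σ : G, σ • u i)) := by
  classical
  let Fs : List (List A) :=
    List.ofFn fun i : Fin n => (Finset.univ : Finset G).toList.map fun σ => σ • u i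
  have hum : ∀ i, u i ∈ maximalIdeal A := fun i => hu ▸ Ideal.subset_span ⟨i, rfl⟩
  have key := le_length_of_sections hn Fs [] (by simp [Fs]) ?_ (by simp) ?_
  · have h1 : (Fs.map List.length).prod = Fintype.card G ^ n := by
      simp only [Fs, List.map_ofFn, Function.comp_def, List.length_map, Finset.length_toList,
        Finset.card_univ, List.prod_ofFn, Finset.prod_const, Finset.card_univ, Fintype.card_fin]
    have h2 : Ideal.ofList (Fs.map List.prod ++ []) =
        Ideal.span (Set.range fun i => ∏ σ : G, σ • u i) := by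
      unfold Ideal.ofList
      congr 1
      ext x
      simp only [Fs, List.append_nil, List.map_ofFn, Function.comp_def, Finset.prod_map_toList,
        Set.mem_setOf_eq, List.mem_ofFn, Set.mem_range]
    rw [h1, h2] at key
    exact key
  · intro l hl x hx
    simp only [Fs, List.mem_ofFn, Set.mem_range] at hl
    obtain ⟨i, rfl⟩ := hl
    obtain ⟨σ, -, rfl⟩ := List.mem_map.mp hx
    exact CotangentRep.smul_mem_maximalIdeal σ (hum i)
  · intro c hc
    rw [List.mem_sections, List.forall₂_iff_get] at hc
    obtain ⟨hlen, hget⟩ := hc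
    have hFlen : Fs.length = n := by simp [Fs]
    have hex : ∀ i : Fin n, ∃ τ : G, τ • u i = c.get ⟨i, by rw [hlen, hFlen]; exact i.2⟩ := by
      intro i
      have := hget i (by rw [hlen, hFlen]; exact i.2) (by rw [hFlen]; exact i.2)
      simp only [Fs, List.get_eq_getElem, List.getElem_ofFn, List.mem_map, Finset.mem_toList,
        Finset.mem_univ, true_and] at this
      exact this
    choose τ hτ using hex
    have heq : Ideal.ofList (c ++ []) = Ideal.span (Set.range fun i => τ i • u i) := by
      unfold Ideal.ofList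
      congr 1
      ext x
      simp only [List.append_nil, Set.mem_setOf_eq, Set.mem_range]
      constructor
      · intro hx
        obtain ⟨j, hj⟩ := List.get_of_mem hx
        refine ⟨⟨j, by have := j.2; omega⟩, ?_⟩
        rw [hτ, ← hj]
      · rintro ⟨i, rfl⟩
        rw [hτ]
        exact List.get_mem _ _
    rw [heq]
    exact hwa τ

end Groth.Agent.Lib.R2H7.NormLength
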