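import Mathlib
import Groth.Prelude
import Groth.Agent.Lib.R2H7NormLength
import Groth.Agent.Lib.R2H3AlgIndepDim
import Groth.Agent.Lib.Helper6SepBC

/-!
# Complete intersections: the commutative algebra core (helper7, round 2)

* `isWeaklyRegular_of_dim_le` : in a regular local ring of dimension `N`, a list `l` of elements of the
  maximal ideal with `dim R/(l) + length l ≤ N` is a weakly regular sequence.
* `mem_of_mul_mem` : local form: `f * c ∈ (l) → c ∈ (l)` if `dim R/(l,f) + length l + 1 ≤ N`.
* `ringKrullDim_quotient_map_le` : `dim (B_m / J B_m) ≤ dim B/J`.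
* `mem_of_mul_mem_of_dim_le` : global form for a regular ring all of whose localizations at maximal
  ideals have dimension `N`.
* `isRegularRing_of_ringEquiv_mvPolynomial`, `ringKrullDim_localization_of_ringEquiv_mvPolynomial` :
  rings isomorphic to `k[x_1..x_n]` are regular with all maximal localizations of dimension `n`.
-/

set_option autoImplicit false
universe u

namespace Groth.Agent.Lib.R2H7.CIAlg

open IsLocalRing RingTheory.Sequence

section Local

variable {R : Type u} [CommRing R] [IsRegularLocalRing R]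

theorem span_toFinset_eq_ofList {A : Type*} [CommRing A] [DecidableEq A] (l : List A) :
    Ideal.span ((l.toFinset : Finset A) : Set A) = Ideal.ofList l := by
  rw [List.coe_toFinset]

theorem isWeaklyRegular_of_dim_le (N : ℕ) (hN : ringKrullDim R = N) (l : List R)
    (hm : ∀ x ∈ l, x ∈ maximalIdeal R)
    (hdim : ringKrullDim (R ⧸ Ideal.ofList l) + ((l.length : ℕ) : WithBot ℕ∞) ≤ (N : WithBot ℕ∞)) :
    IsWeaklyRegular R l := by
  classical
  have hCM : LocCoh.IsCohenMacaulayLocalRing R :=
    Groth.Agent.Lib.Helper5.isCohenMacaulayLocalRing_of_isRegularLocalRing R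
  have hCM' : LocCoh.IsCohenMacaulayModule R R := hCM.supportDim_eq_depth
  apply Groth.Agent.Lib.Helper28.isWeaklyRegular_of_supportDim_add_length_eq l R hCM' hm
  rw [Module.supportDim_self_eq_ringKrullDim, hN]
  have h1 : (Ideal.ofList l • ⊤ : Submodule R R) = Ideal.ofList l := by
    rw [smul_eq_mul, Ideal.mul_top]
  rw [Module.supportDim_eq_of_equiv (Submodule.quotEquivOfEq _ _ h1)]
  have h2 : Module.supportDim R (R ⧸ Ideal.ofList l) = ringKrullDim (R ⧸ Ideal.ofList l) :=
    Module.supportDim_quotient_eq_ringKrullDim _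
  rw [h2]
  refine le_antisymm hdim ?_
  have h3 := ringKrullDim_le_ringKrullDim_quotient_add_card l.toFinset (by
    rw [IsLocalRing.ringJacobson_eq_maximalIdeal]
    intro x hx
    exact hm x (List.mem_toFinset.mp hx))
  rw [span_toFinset_eq_ofList, hN] at h3
  refine h3.trans ?_
  gcongr
  exact_mod_cast List.toFinset_card_le l

theorem mem_of_mul_mem (N : ℕ) (hN : ringKrullDim R = N) (l : List R) (f : R)
    (hm : ∀ x ∈ l, x ∈ maximalIdeal R) (hf : f ∈ maximalIdeal R)
    (hdim : ringKrullDim (R ⧸ Ideal.ofList (l ++ [f])) + ((l.length + 1 : ℕ) : WithBot ℕ∞) ≤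
      (N : WithBot ℕ∞))
    (c : R) (hc : f * c ∈ Ideal.ofList l) : c ∈ Ideal.ofList l := by
  have hw : IsWeaklyRegular R (l ++ [f]) := by
    apply isWeaklyRegular_of_dim_le N hN
    · intro x hx
      rcases List.mem_append.mp hx with h | h
      · exact hm x h
      · rw [List.mem_singleton] at h
        rw [h]; exact hf
    · rw [List.length_append, List.length_singleton]
      exact hdim
  rw [isWeaklyRegular_append_iff] at hw
  have hreg : IsSMulRegular (R ⧸ (Ideal.ofList l • ⊤ : Submodule R R)) f :=
    (isWeaklyRegular_singleton_iff _ f).mp hw.2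
  have h1 : (Ideal.ofList l • ⊤ : Submodule R R) = Ideal.ofList l := by
    rw [smul_eq_mul, Ideal.mul_top]
  have h2 : f • (Submodule.Quotient.mk c : R ⧸ (Ideal.ofList l • ⊤ : Submodule R R)) =
      f • (0 : R ⧸ (Ideal.ofList l • ⊤ : Submodule R R)) := by
    rw [smul_zero, ← Submodule.Quotient.mk_smul, Submodule.Quotient.mk_eq_zero, h1, smul_eq_mul]
    exact hc
  have h3 := hreg h2
  rw [Submodule.Quotient.mk_eq_zero, h1] at h3
  exact h3

end Local

section Compare

variable {B : Type u} [CommRing B]

theorem ringKrullDim_quotient_map_le (m : Ideal B) [hmp : m.IsPrime] (J : Ideal B) (hJ : J ≤ m) :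
    ringKrullDim (Localization.AtPrime m ⧸ J.map (algebraMap B (Localization.AtPrime m))) ≤
      ringKrullDim (B ⧸ J) := by
  let R := Localization.AtPrime m
  let JR := J.map (algebraMap B R)
  let M : Ideal (B ⧸ J) := m.map (Ideal.Quotient.mk J)
  haveI hMp : M.IsPrime := Ideal.isPrime_map_quotientMk_of_isPrime hJ
  have hd1 : ringKrullDim (Localization.AtPrime M) ≤ ringKrullDim (B ⧸ J) := by
    rw [IsLocalization.AtPrime.ringKrullDim_eq_height M (Localization.AtPrime M)]
    exact Ideal.height_le_ringKrullDim_of_isPrime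
  refine le_trans ?_ hd1
  let φ₀ : (B ⧸ J) →+* R ⧸ JR :=
    Ideal.Quotient.lift J ((Ideal.Quotient.mk JR).comp (algebraMap B R)) (fun a ha => by
      rw [RingHom.comp_apply, Ideal.Quotient.eq_zero_iff_mem]
      exact Ideal.mem_map_of_mem _ ha)
  have hφ₀ : ∀ b : B, φ₀ (Ideal.Quotient.mk J b) = Ideal.Quotient.mk JR (algebraMap B R b) :=
    fun b => rfl
  have hunit : ∀ y : M.primeCompl, IsUnit (φ₀ y) := by
    intro y
    obtain ⟨b, hb⟩ := Ideal.Quotient.mk_surjective y.1
    have hbm : b ∈ m.primeCompl := by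
      intro hbm
      apply y.2
      rw [← hb]
      exact Ideal.mem_map_of_mem _ hbm
    rw [← hb, hφ₀]
    exact (IsLocalization.map_units R ⟨b, hbm⟩).map (Ideal.Quotient.mk JR)
  let ψ : Localization.AtPrime M →+* R ⧸ JR := IsLocalization.lift hunit
  have hψ : Function.Surjective ψ := by
    intro z
    obtain ⟨r, rfl⟩ := Ideal.Quotient.mk_surjective z
    obtain ⟨b, s, rfl⟩ := IsLocalization.exists_mk'_eq m.primeCompl r
    have hs : Ideal.Quotient.mk J s.1 ∈ M.primeCompl := by
      intro hs
      have h1 : s.1 ∈ (m.map (Ideal.Quotient.mk J)).comap (Ideal.Quotient.mk J) := hs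
      rw [Ideal.comap_map_of_surjective _ Ideal.Quotient.mk_surjective, ← RingHom.ker_eq_comap_bot,
        Ideal.mk_ker, sup_eq_left.mpr hJ] at h1
      exact s.2 h1
    refine ⟨IsLocalization.mk' (Localization.AtPrime M) (Ideal.Quotient.mk J b)
      ⟨Ideal.Quotient.mk J s.1, hs⟩, ?_⟩
    rw [IsLocalization.lift_mk'_spec]
    change φ₀ (Ideal.Quotient.mk J b) = φ₀ (Ideal.Quotient.mk J s.1) * _
    rw [hφ₀, hφ₀, ← map_mul, IsLocalization.mk'_spec']
  exact ringKrullDim_le_of_surjective ψ hψ

end Compare

section Global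

variable {B : Type u} [CommRing B] [IsRegularRing B]

theorem mem_of_mul_mem_of_dim_le (N : ℕ)
    (hB : ∀ (m : Ideal B) [m.IsMaximal], ringKrullDim (Localization.AtPrime m) = N)
    (l : List B) (f : B)
    (hdim : ringKrullDim (B ⧸ Ideal.ofList (l ++ [f])) + ((l.length + 1 : ℕ) : WithBot ℕ∞) ≤
      (N : WithBot ℕ∞))
    (c : B) (hc : f * c ∈ Ideal.ofList l) : c ∈ Ideal.ofList l := by
  by_contra hcn
  let I : Ideal B := Ideal.ofList l
  let K : Ideal B :=
    { carrier := {b | b * c ∈ I}
      add_mem' := fun {a b} ha hb => by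
        change (a + b) * c ∈ I
        rw [add_mul]; exact I.add_mem ha hb
      zero_mem' := by
        change (0 : B) * c ∈ I
        rw [zero_mul]; exact I.zero_mem
      smul_mem' := fun a b hb => by
        change (a • b) * c ∈ I
        rw [smul_eq_mul, mul_assoc]; exact I.mul_mem_left a hb }
  have hK : K ≠ ⊤ := by
    intro h
    have h1 : (1 : B) ∈ K := h ▸ Submodule.mem_top
    have h2 : (1 : B) * c ∈ I := h1
    rw [one_mul] at h2
    exact hcn h2
  obtain ⟨m, hm, hKm⟩ := Ideal.exists_le_maximal K hK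
  haveI := hm
  haveI hmp : m.IsPrime := hm.isPrime
  have hfK : f ∈ K := hc
  have hIK : I ≤ K := fun i hi => I.mul_mem_right c hi
  have hfm : f ∈ m := hKm hfK
  have hIm : I ≤ m := hIK.trans hKm
  let R := Localization.AtPrime m
  have hN := hB m
  have hJm : Ideal.ofList (l ++ [f]) ≤ m := by
    rw [Ideal.span_le]
    intro x hx
    rcases List.mem_append.mp hx with h | h
    · exact hIm (Ideal.subset_span h)
    · rw [List.mem_singleton] at h
      rw [h]; exact hfm
  have hcmp := ringKrullDim_quotient_map_le m (Ideal.ofList (l ++ [f])) hJm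
  rw [Ideal.map_ofList, List.map_append, List.map_singleton] at hcmp
  have hcm : (IsLocalRing.maximalIdeal R).comap (algebraMap B R) = m :=
    IsLocalization.AtPrime.comap_maximalIdeal R m
  have hmem : algebraMap B R c ∈ Ideal.ofList (l.map (algebraMap B R)) := by
    apply mem_of_mul_mem N hN (l.map (algebraMap B R)) (algebraMap B R f)
    · intro x hx
      obtain ⟨y, hy, rfl⟩ := List.mem_map.mp hx
      rw [← Ideal.mem_comap, hcm]
      exact hIm (Ideal.subset_span hy)
    · rw [← Ideal.mem_comap, hcm]
      exact hfm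
    · rw [List.length_map]
      exact (add_le_add_left hcmp _).trans hdim
    · rw [← map_mul, ← Ideal.map_ofList]
      exact Ideal.mem_map_of_mem _ hc
  rw [← Ideal.map_ofList, IsLocalization.mem_map_algebraMap_iff m.primeCompl R] at hmem
  obtain ⟨⟨i, s⟩, his⟩ := hmem
  rw [← map_mul, IsLocalization.eq_iff_exists m.primeCompl R] at his
  obtain ⟨t, ht⟩ := his
  have h1 : (t.1 * s.1) * c ∈ I := by
    have : (t.1 * s.1) * c = t.1 * i.1 := by
      rw [← ht]; ring
    rw [this]
    exact I.mul_mem_left _ i.2
  have h2 : t.1 * s.1 ∈ m := hKm h1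
  rcases hmp.mem_or_mem h2 with h | h
  · exact t.2 h
  · exact s.2 h

end Global

section Poly

variable (k : Type u) [Field k] (n : ℕ)

theorem isRegularRing_of_ringEquiv_mvPolynomial {B : Type u} [CommRing B]
    (e : MvPolynomial (Fin n) k ≃+* B) : IsRegularRing B := by
  haveI : IsRegularRing k := inferInstance
  haveI : IsRegularRing (MvPolynomial (Fin n) k) :=
    Groth.Agent.Lib.Helper6.SepBC.isRegularRing_of_formallySmooth k _
  exact IsRegularRing.of_ringEquiv e

theorem ringKrullDim_localization_mvPolynomial (m : Ideal (MvPolynomial (Fin n) k)) [hm : m.IsMaximal] :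
    ringKrullDim (Localization.AtPrime m) = n := by
  rw [IsLocalization.AtPrime.ringKrullDim_eq_height m (Localization.AtPrime m)]
  have h1 := Groth.Agent.Lib.R2H3.AlgIndepDim.height_add_dim_quotient k m
  letI : Field (MvPolynomial (Fin n) k ⧸ m) := Ideal.Quotient.field m
  rw [ringKrullDim_eq_zero_of_field, add_zero, MvPolynomial.ringKrullDim_of_isNoetherianRing,
    ringKrullDim_eq_zero_of_field, zero_add, Nat.card_eq_fintype_card, Fintype.card_fin] at h1
  exact h1

theorem ringKrullDim_localization_of_ringEquiv_mvPolynomial {B : Type u} [CommRing B]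
    (e : MvPolynomial (Fin n) k ≃+* B) (m : Ideal B) [hm : m.IsMaximal] :
    ringKrullDim (Localization.AtPrime m) = n := by
  have : (m.comap (e : MvPolynomial (Fin n) k →+* B)).IsMaximal :=
    Ideal.comap_isMaximal_of_surjective _ e.surjective
  have h1 := ringKrullDim_localization_mvPolynomial k n (m.comap (e : MvPolynomial (Fin n) k →+* B))
  rw [IsLocalization.AtPrime.ringKrullDim_eq_height (m.comap (e : MvPolynomial (Fin n) k →+* B))
    (Localization.AtPrime (m.comap (e : MvPolynomial (Fin n) k →+* B)))] at h1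
  rw [IsLocalization.AtPrime.ringKrullDim_eq_height m (Localization.AtPrime m), ← h1]
  congr 1
  exact (RingEquiv.height_comap e m).symm

end Poly

end Groth.Agent.Lib.R2H7.CIAlg
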