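import Mathlib
import Groth.Prelude
import Groth.Agent.Lib.R2H1ZeroSchemeMul
import Groth.Agent.Lib.Helper27ClosedProj
import Groth.Agent.Lib.R2LeadKRR
import Groth.Agent.Lib.R2H1PLineA
import Groth.Agent.Lib.R2H4TensorPows
import Groth.Agent.Lib.R2H1LiftZero
import Groth.Agent.Lib.Helper20IdealModSec
import Groth.Agent.Lib.Helper23PB
import Groth.Agent.Lib.Helper23TensorMap
import Groth.Agent.Lib.R2H3PnChart
import Groth.Agent.Lib.Helper27PnChart
set_option backward.isDefEq.respectTransparency.types false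

/-!
# Base lemmas for complete intersections in `P^n_k` (helper7, round 2)

Light-import copies of lemmas of helper1 (`R2H1HypIdeal` parts 2-3, `R2H1IdealProd` part 1,
`R2H1TwistBC.pullbackUnitHom_unitSec`) so that the complete intersection files do not depend on the
curve theory: charts `chartO / chartAff`, the dehomogenization `deh`, the section `sG` of `O(d)`,
`hypI_ideal_chart`, `hom_ext_tm`, `ι_mem_ideal`, `exists_ι_eq_of_mem`, `pullbackUnitHom_unitSec`, and the
chart ring isomorphism `chartEquiv`.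
-/

set_option autoImplicit false
set_option linter.style.haveILetI false
set_option linter.unusedSectionVars false
universe u v

open CategoryTheory CategoryTheory.Limits AlgebraicGeometry TopologicalSpace Opposite

namespace Groth.Agent.Lib.R2H7.CIBase

section Part2

open Groth.Agent.Lib.Helper23.SecTw Groth.Agent.Lib.Helper6
open Groth.Agent.Lib.Helper27GrTildeSect Groth.Agent.Helper13Dehom
open Groth.Agent.Lib.Helper27ClosedProj

variable {r : ℕ} {k : Type u} [Field k]

local notation "𝒫" => CohB1.polyGrading r k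
local notation "PJ" => Proj (CohB1.polyGrading r k)

theorem X_mem (i : Fin (r + 1)) :
    (MvPolynomial.X i : MvPolynomial (Fin (r + 1)) k) ∈ CohB1.polyGrading r k 1 :=
  LefPen.X_mem r k i

/-- the chart `D₊(T_i)` -/
noncomputable def chartO (i : Fin (r + 1)) : (PJ).Opens :=
  Proj.basicOpen 𝒫 (MvPolynomial.X i : MvPolynomial (Fin (r + 1)) k)

/-- the chart as an affine open -/
noncomputable def chartAff (i : Fin (r + 1)) : (PJ).affineOpens :=
  ⟨chartO (r := r) (k := k) i, Proj.isAffineOpen_basicOpen 𝒫 _ (X_mem i) Nat.one_pos⟩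

/-- the frozen dehomogenization -/
noncomputable def deh {d : ℕ} (G : LefPen.Form r k d) (i : Fin (r + 1)) :
    Γ(PJ, chartO (r := r) (k := k) i) := LefPen.dehom G i

/-- the frozen dehomogenization is helper13's -/
theorem deh_eq {d : ℕ} (G : LefPen.Form r k d) (i : Fin (r + 1)) :
    deh G i = dehom (X_mem i) G.1 := by
  rw [dehom_eq_awayToSection (X_mem i) (j := d) (a := G.1)
    (by rw [smul_eq_mul, mul_one]; exact G.2)]
  rfl

/-- the section `G / 1` of `O(d)` as a morphism from the structure sheaf -/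
noncomputable def sG {d : ℕ} (G : LefPen.Form r k d) :
    Coh.structureModule PJ ⟶ GrTilde.tilde 𝒫 𝒫 (d : ℤ) :=
  secHom (GrTilde.tilde 𝒫 𝒫 (d : ℤ)) (gsec 𝒫 d ⊤ G.2)

theorem sv_sG {d : ℕ} (G : LefPen.Form r k d) (W : (PJ).Opens) :
    sv (sG G) W = gsec 𝒫 d W G.2 := by
  unfold sG
  rw [sv_secHom]
  rfl

/-- the generator `T_i^d / 1` of `O(d)` over the chart -/
noncomputable def gen (d : ℕ) (i : Fin (r + 1)) :
    Γ(GrTilde.tilde 𝒫 𝒫 (d : ℤ), chartO (r := r) (k := k) i) :=
  gsec 𝒫 d (chartO i) (pow_mem_deg (X_mem i) d)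

theorem isGen_gen (d : ℕ) (i : Fin (r + 1)) :
    IsGen (GrTilde.tilde 𝒫 𝒫 (d : ℤ)) (chartO (r := r) (k := k) i) (gen d i) :=
  (isGen_gsec 𝒫 d (pow_mem_deg (X_mem (r := r) (k := k) i) d)).mono
    (basicOpen_le_basicOpen_pow 𝒫 (MvPolynomial.X i : MvPolynomial (Fin (r + 1)) k) d)

theorem sv_sG_chart {d : ℕ} (G : LefPen.Form r k d) (i : Fin (r + 1)) :
    sv (sG G) (chartO i) = deh G i • gen d i := by
  rw [sv_sG, deh_eq]
  exact gsec_eq_dehom_smul 𝒫 (X_mem i) d G.2

end Part2

section Part3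

open Groth.Agent.Lib.Helper23.SecTw Groth.Agent.Lib.Helper6
open Groth.Agent.Lib.Helper27GrTildeSect Groth.Agent.Helper13Dehom
open Groth.Agent.Lib.Helper27ClosedProj
open Groth.Agent.Lib.R2H1.ZeroSchemeDiv Groth.Agent.Lib.R2H1.ZeroSchemeMul

variable {r : ℕ} {k : Type u} [Field k]

local notation "𝒫" => CohB1.polyGrading r k
local notation "PJ" => Proj (CohB1.polyGrading r k)

theorem bijective_res_of_le {X : Scheme.{u}} {U V : X.Opens} (h : V ≤ U) (h' : U ≤ V) :
    Function.Bijective (X.presheaf.map (homOfLE h).op).hom := by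
  haveI : IsIso (homOfLE h) := ⟨⟨homOfLE h', Subsingleton.elim _ _, Subsingleton.elim _ _⟩⟩
  haveI : IsIso (X.presheaf.map (homOfLE h).op) := inferInstance
  exact ConcreteCategory.bijective_of_isIso (X.presheaf.map (homOfLE h).op)

theorem isInv (d : ℤ) : PicF.IsInvertible (GrTilde.tilde 𝒫 𝒫 d) :=
  Groth.Agent.Lib.R2Lead.KRR.isInvertible_twistProjSpace r k d

/-- the zero scheme of the section `G / 1` -/
noncomputable def JG {d : ℕ} (G : LefPen.Form r k d) : (PJ).IdealSheafData :=
  PicF2.zeroScheme (GrTilde.tilde 𝒫 𝒫 (d : ℤ)) (sG G)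

theorem JG_ideal_chart {d : ℕ} (G : LefPen.Form r k d) (i : Fin (r + 1)) :
    (JG G).ideal (chartAff i) = Ideal.span {deh G i} := by
  have hb : Function.Bijective (fun c : Γ(PJ, chartO (r := r) (k := k) i) =>
      c • gen (r := r) (k := k) d i) := by
    have := isGen_gen (r := r) (k := k) d i (chartO i) le_rfl
    rwa [show (fun c : Γ(PJ, chartO (r := r) (k := k) i) =>
        c • res (GrTilde.tilde 𝒫 𝒫 (d : ℤ)) le_rfl (gen (r := r) (k := k) d i)) =
        fun c => c • gen (r := r) (k := k) d i from by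
      funext c; rw [Groth.Agent.Lib.Helper23.SecTw.res_self]] at this
  unfold JG
  rw [zeroScheme_ideal _ (isInv (d : ℤ)) (sG G) (chartAff i)]
  exact zeroIdealOn_eq_span _ (sG G) (chartO i) (gen d i) (deh G i) hb (sv_sG_chart G i)

/-- the frozen family of ideals -/
noncomputable def hypFam {d : ℕ} (G : LefPen.Form r k d) (U : (PJ).affineOpens) :
    Ideal Γ(PJ, U.1) := LefPen.hypFamily G U

theorem hypFam_eq {d : ℕ} (G : LefPen.Form r k d) (U : (PJ).affineOpens) :
    hypFam G U = ⨅ i : Fin (r + 1), Ideal.comap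
      ((PJ).presheaf.map (homOfLE (inf_le_left : U.1 ⊓ chartO i ≤ U.1)).op).hom
      (Ideal.span {((PJ).presheaf.map
        (homOfLE (inf_le_right : U.1 ⊓ chartO i ≤ chartO i)).op).hom (deh G i)}) := rfl

/-- the frozen hypersurface ideal -/
noncomputable def hypI {d : ℕ} (G : LefPen.Form r k d) : (PJ).IdealSheafData :=
  LefPen.hypIdeal G

theorem hypI_eq {d : ℕ} (G : LefPen.Form r k d) :
    hypI G = Scheme.IdealSheafData.ofIdeals (hypFam G) := rfl

theorem JG_le {d : ℕ} (G : LefPen.Form r k d) : JG G ≤ hypI G := by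
  rw [hypI_eq, Scheme.IdealSheafData.le_ofIdeals_iff]
  intro U
  rw [hypFam_eq]
  refine le_iInf fun i => ?_
  have haff : IsAffineOpen (U.1 ⊓ chartO (r := r) (k := k) i) := U.2.inf (chartAff i).2
  rw [← Ideal.map_le_iff_le_comap]
  have hle1 : (⟨U.1 ⊓ chartO i, haff⟩ : (PJ).affineOpens) ≤ U :=
    (inf_le_left : U.1 ⊓ chartO (r := r) (k := k) i ≤ U.1)
  have hle2 : (⟨U.1 ⊓ chartO i, haff⟩ : (PJ).affineOpens) ≤ chartAff i :=
    (inf_le_right : U.1 ⊓ chartO (r := r) (k := k) i ≤ chartO i)
  have h1 := (JG G).map_ideal (U := ⟨U.1 ⊓ chartO i, haff⟩) (V := U) hle1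
  have h2 := ideal_res_span (JG G) (U := ⟨U.1 ⊓ chartO i, haff⟩) (V := chartAff i) hle2
    (deh G i) (JG_ideal_chart G i)
  exact (h1.trans h2).le

theorem hypI_chart_le {d : ℕ} (G : LefPen.Form r k d) (i : Fin (r + 1)) :
    (hypI G).ideal (chartAff i) ≤ Ideal.span {deh G i} := by
  rw [hypI_eq]
  refine (Scheme.IdealSheafData.ideal_ofIdeals_le (hypFam G) (chartAff i)).trans ?_
  rw [hypFam_eq]
  refine (iInf_le _ i).trans ?_
  intro x hx
  rw [Ideal.mem_comap, Ideal.mem_span_singleton'] at hx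
  obtain ⟨c, hc⟩ := hx
  have hbij := bijective_res_of_le (X := PJ)
    (inf_le_left : (chartAff (r := r) (k := k) i).1 ⊓ chartO i ≤ (chartAff i).1)
    (le_inf le_rfl le_rfl)
  obtain ⟨c', rfl⟩ := hbij.2 c
  refine Ideal.mem_span_singleton'.mpr ⟨c', hbij.1 ?_⟩
  rw [map_mul]
  exact hc

theorem iSup_chartAff : ⨆ i : Fin (r + 1), (chartAff (r := r) (k := k) i).1 = ⊤ :=
  Groth.Agent.Lib.Helper27PnChart.iSup_basicOpen_X r k

theorem hypI_eq_JG {d : ℕ} (G : LefPen.Form r k d) : hypI G = JG G := by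
  refine Scheme.IdealSheafData.ext_of_iSup_eq_top (chartAff (r := r) (k := k)) iSup_chartAff
    (fun i => le_antisymm ?_ (JG_le G (chartAff i)))
  rw [JG_ideal_chart]
  exact hypI_chart_le G i

theorem hypI_ideal_chart {d : ℕ} (G : LefPen.Form r k d) (i : Fin (r + 1)) :
    (hypI G).ideal (chartAff i) = Ideal.span {deh G i} := by
  rw [hypI_eq_JG, JG_ideal_chart]

end Part3

section Part4

open Groth.Agent.Lib.Helper23.SecTw Groth.Agent.Lib.Helper23.GenLocus Groth.Agent.Lib.Helper6
open Groth.Agent.Lib.Helper23.TensorMap Groth.Agent.Lib.R2H1.LiftZero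
open Groth.Agent.Lib.Helper20.IdealModSec Groth.Agent.Lib.Helper23.Extend

variable {X : Scheme.{u}}

/-- morphisms out of a tensor product are determined by their values on pure tensors -/
theorem hom_ext_tm {M N F : X.Modules} (f g : CohB1.tensorMod M N ⟶ F)
    (h : ∀ (W : X.Opens) (m : Γ(M, W)) (n : Γ(N, W)),
      f.app W (tm M N W m n) = g.app W (tm M N W m n)) : f = g := by
  apply ((adj X).homEquiv _ _).injective
  have key : ∀ (φ : CohB1.tensorMod M N ⟶ F) (W : X.Opens) (m : Γ(M, W)) (n : Γ(N, W)),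
      ((((adj X).homEquiv (show X.PresheafOfModules from CohB1.tensorPre M N) F) φ).app (op W)).hom
        (m ⊗ₜ n) = φ.app W (tm M N W m n) := by
    intro φ W m n
    have h1 : ((adj X).homEquiv (show X.PresheafOfModules from CohB1.tensorPre M N) F) φ =
        SecTwist.toTensor M N ≫ (SheafOfModules.forget _ ⋙
          PresheafOfModules.restrictScalars (𝟙 X.ringCatSheaf.obj)).map φ := by
      erw [Adjunction.homEquiv_unit]
      rfl
    rw [h1]
    rfl
  ext W : 2
  obtain ⟨W⟩ := W
  apply LinearMap.ext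
  intro z
  refine TensorProduct.induction_on z ?_ ?_ ?_
  · exact (map_zero _).trans (map_zero _).symm
  · intro m n
    exact (key f W m n).trans ((h W m n).trans (key g W m n).symm)
  · intro a b ha hb
    exact (map_add _ a b).trans ((congrArg₂ (· + ·) ha hb).trans (map_add _ a b).symm)

/-- morphisms out of a tensor product are determined by their values on pure tensors over affine
opens -/
theorem hom_ext_tm_affine {M N F : X.Modules} (f g : CohB1.tensorMod M N ⟶ F)
    (h : ∀ (U : X.affineOpens) (m : Γ(M, U.1)) (n : Γ(N, U.1)),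
      f.app U.1 (tm M N U.1 m n) = g.app U.1 (tm M N U.1 m n)) : f = g := by
  apply hom_ext_tm
  intro W m n
  refine F.isSheaf.section_ext (U := op W) fun x hx => ?_
  obtain ⟨_, ⟨U, hU, rfl⟩, hxU, hle⟩ :=
    X.isBasis_affineOpens.exists_subset_of_mem_open hx W.isOpen
  refine ⟨U, hle, hxU, ?_⟩
  change res F hle (f.app W (tm M N W m n)) = res F hle (g.app W (tm M N W m n))
  have h1 : ∀ φ : CohB1.tensorMod M N ⟶ F, res F hle (φ.app W (tm M N W m n)) =
      φ.app U (tm M N U (res M hle m) (res N hle n)) := by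
    intro φ
    rw [← res_tm M N hle m n]
    exact (app_map φ (homOfLE hle) _).symm
  rw [h1 f, h1 g]
  exact h ⟨U, hU⟩ _ _


variable (I : X.IdealSheafData)

/-- sections of the ideal module lie in the ideal -/
theorem ι_mem_ideal (U : X.affineOpens) (a : Γ(ClSub.idealMod I, U.1)) :
    ofS U.1 ((ClSub.idealModι I).app U.1 a) ∈ I.ideal U := by
  have h1 := ι_toSubscheme I U.1 a
  have h2 : ofS U.1 ((ClSub.idealModι I).app U.1 a) ∈ I.subschemeι.ker.ideal U := by
    rw [Scheme.Hom.ker_apply]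
    exact h1
  rw [Scheme.IdealSheafData.ker_subschemeι] at h2
  exact h2

/-- elements of the ideal are sections of the ideal module -/
theorem exists_ι_eq_of_mem (U : X.affineOpens) (a : Γ(X, U.1)) (ha : a ∈ I.ideal U) :
    ∃ α : Γ(ClSub.idealMod I, U.1), (ClSub.idealModι I).app U.1 α = toS U.1 a :=
  exists_eq_ι I U.1 (toS U.1 a) (toSubscheme_app_eq_zero I U a ha)

end Part4

section Part5

open Groth.Agent.Lib.Helper23.SecTw Groth.Agent.Lib.Helper23.GenLocus Groth.Agent.Lib.Helper6
open Groth.Agent.Helper13PullbackUnit Groth.Agent.Lib.Helper23.Extend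

variable {X Y : Scheme.{u}} (f : X ⟶ Y)

/-- the comparison `f^* O_Y ⟶ O_X` on pulled back functions -/
theorem pullbackUnitHom_unitSec {V : Y.Opens} {U : X.Opens} (hle : U ≤ f ⁻¹ᵁ V) (r : Γ(Y, V)) :
    (Groth.Agent.Lib.R2H3.PnChart.pullbackUnitHom f).app U
      (unitSec f (Coh.structureModule Y) hle (toS V r)) = toS U (f.appLE V U hle r) := by
  rw [unitSec_apply]
  have h1 := app_map (Groth.Agent.Lib.R2H3.PnChart.pullbackUnitHom f) (homOfLE hle)
    (((Scheme.Modules.pullbackPushforwardAdjunction f).unit.app (Coh.structureModule Y)).app V (toS V r))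
  rw [h1]
  have h2 := Groth.Agent.Lib.R2H3.PnChart.pullbackUnitHom_pullSect f V r
  have h3 : (Groth.Agent.Lib.R2H3.PnChart.pullbackUnitHom f).app (f ⁻¹ᵁ V)
      (((Scheme.Modules.pullbackPushforwardAdjunction f).unit.app (Coh.structureModule Y)).app V (toS V r)) =
      toS (f ⁻¹ᵁ V) (f.app V r) := h2
  rw [h3]
  rfl

end Part5

section Part6

open Groth.Agent.Lib.Helper27PnChart

variable (n : ℕ) (R : Type u) [CommRing R]

/-- the chart ring of `P^n_R` is a polynomial ring in `n` variables -/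
noncomputable def chartEquiv (i : Fin (n + 1)) :
    MvPolynomial (Fin n) R ≃+* Γ(Proj (CohB1.polyGrading n R),
      Proj.basicOpen (CohB1.polyGrading n R) (MvPolynomial.X i)) :=
  ((MvPolynomial.renameEquiv R (finSuccAboveEquiv i)).toRingEquiv.trans
    (RingEquiv.ofBijective (chart n R i) (chart_bijective n R i))).trans
    (Proj.basicOpenIsoAway (CohB1.polyGrading n R) (MvPolynomial.X i) (X_mem_one n R i)
      one_pos).commRingCatIsoToRingEquiv

end Part6

end Groth.Agent.Lib.R2H7.CIBase
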