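import Mathlib
import Groth.Prelude
import Groth.Agent.Lib.R2H7CIBase
import Groth.Agent.Lib.R2H3ClosedUnit
import Groth.Agent.Lib.R2H4UnitEpi
import Groth.Agent.Lib.R2H2ClosedPn
import Groth.Agent.Lib.R2H3CMVanish
import Groth.Agent.Lib.Helper27PnSections
import Groth.Agent.Lib.R2H2PnSerre
import Groth.Agent.Lib.R2LeadTensorExact
import Groth.Agent.Lib.R2LeadKRR
import Groth.Agent.Lib.R2H1DegCartier
import Groth.Agent.Lib.R2H1CurveAmple
import Groth.Agent.Lib.R2H2HHLin
import Groth.Agent.Lib.R2H4TensorPows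
import Groth.Agent.Lib.Helper23TensorQCoh
import Groth.Agent.Lib.Helper2PullbackSec
import Groth.Agent.Lib.Helper23QCohLocal
import Groth.Agent.Lib.Helper23Serre
import Groth.Agent.Lib.Helper23PB
import Groth.Agent.Lib.Helper21GammaZNat0
import Groth.Agent.Lib.Helper27ProjGamma2
import Groth.Agent.Lib.H9SteinConn
set_option backward.isDefEq.respectTransparency.types false

/-!
# Cohomology of hypersurface sections in `P^n_k`: the inductive steps (helper7, round 2)

* `sub_mid'`, `surjective_app_top_of_HmapL` : long exact sequence bookkeeping (no base ring needed).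
* `surjective_unit_top` : for a closed subscheme `j : V(J) ⟶ Y` and an invertible `M` with
  `H¹(Y, M ⊗ J) = 0`, the restriction `Γ(Y, M) ⟶ Γ(V(J), j^* M)` (adjunction unit) is surjective.
* `surjective_unit_comp`, `surjective_unit_of_isIso`, `surjective_unit_of_iso` : units of composites.
* `step_vanish`, `step_surj` : one hypersurface section step in `P^n_k`.
* `surjective_app_top_of_unit`, `geometricallyConnected_of_surjective`.
-/

set_option autoImplicit false
set_option linter.style.haveILetI false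
set_option linter.unusedSectionVars false
universe u v

open CategoryTheory CategoryTheory.Limits AlgebraicGeometry TopologicalSpace Opposite

namespace Groth.Agent.Lib.R2H7.CICohA

section Les

open Groth.Agent.Lib.R2H2.HHLin

variable {Z : Scheme.{u}}

theorem sub_mid' (S : ShortComplex Z.Modules) (hS : S.ShortExact) (p : ℕ)
    (h2 : Subsingleton (Coh.HH Z S.X₂ p)) (h1 : Subsingleton (Coh.HH Z S.X₁ (p + 1))) :
    Subsingleton (Coh.HH Z S.X₃ p) := by
  refine ⟨fun a b => ?_⟩
  obtain ⟨a', ha⟩ := exact₃ S hS p a (Subsingleton.elim _ _)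
  obtain ⟨b', hb⟩ := exact₃ S hS p b (Subsingleton.elim _ _)
  rw [← ha, ← hb, Subsingleton.elim a' b']

theorem surjective_HmapL_g_zero (S : ShortComplex Z.Modules) (hS : S.ShortExact)
    (h1 : Subsingleton (Coh.HH Z S.X₁ (0 + 1))) : Function.Surjective (HmapL S.g 0) :=
  fun z => exact₃ S hS 0 z (Subsingleton.elim _ _)

theorem surjective_app_top_of_HmapL {M N : Z.Modules} (φ : M ⟶ N)
    (h : Function.Surjective (HmapL φ 0)) : Function.Surjective (φ.app ⊤) := by
  intro t
  obtain ⟨x, hx⟩ := h ((Groth.Agent.Lib.Helper27PnSections.hh0Equiv Z N).symm t)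
  refine ⟨Groth.Agent.Lib.Helper27PnSections.hh0Equiv Z M x, ?_⟩
  have hn : HmapL φ 0 ((Groth.Agent.Lib.Helper27PnSections.hh0Equiv Z M).symm
      (Groth.Agent.Lib.Helper27PnSections.hh0Equiv Z M x)) =
      (Groth.Agent.Lib.Helper27PnSections.hh0Equiv Z N).symm
        (φ.app ⊤ (Groth.Agent.Lib.Helper27PnSections.hh0Equiv Z M x)) := by
    rw [HmapL_apply]
    exact Sheaf.H.equiv₀_symm_naturality Limits.isTerminalTop (abMap φ)
      (Groth.Agent.Lib.Helper27PnSections.hh0Equiv Z M x)
  rw [AddEquiv.symm_apply_apply, hx] at hn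
  exact ((Groth.Agent.Lib.Helper27PnSections.hh0Equiv Z N).symm.injective hn).symm

end Les

section UnitSurj

open Groth.Agent.Lib.Helper23.SecTw Groth.Agent.Lib.Helper23.GenLocus Groth.Agent.Lib.Helper6
open Groth.Agent.Lib.R2H1.DegCartier Groth.Agent.Lib.R2H2.HHLin
open Groth.Agent.Lib.Helper1.PT Groth.Agent.Lib.R2H3.ClosedUnit

variable {Y : Scheme.{u}} (J : Y.IdealSheafData) (M : Y.Modules)

/-- the adjunction unit of the closed subscheme, composed with the right unitor -/
noncomputable def uU : CohB1.tensorMod M (Coh.structureModule Y) ⟶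
    (Scheme.Modules.pushforward J.subschemeι).obj ((Scheme.Modules.pullback J.subschemeι).obj M) :=
  (SecTwist.unitorR M).hom ≫ (Scheme.Modules.pullbackPushforwardAdjunction J.subschemeι).unit.app M

set_option maxHeartbeats 1600000 in
theorem f_comp_uU : ((idealSeq J).map (DCoh.tensorBi.obj M)).f ≫ uU J M = 0 := by
  apply Groth.Agent.Lib.R2H7.CIBase.hom_ext_tm_affine
  intro U m x
  have hc := Groth.Agent.Lib.R2H7.CIBase.ι_mem_ideal J U x
  have h1 : ((DCoh.tensorBi.obj M).map (ClSub.idealModι J)).app U.1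
      (tm M (ClSub.idealMod J) U.1 m x) =
      tm M (Coh.structureModule Y) U.1 m ((ClSub.idealModι J).app U.1 x) :=
    Groth.Agent.Lib.R2H1.CurveAmple.tensorBi_map_tm M (ClSub.idealModι J) U.1 m x
  have h2 : (SecTwist.unitorR M).hom.app U.1
      (tm M (Coh.structureModule Y) U.1 m ((ClSub.idealModι J).app U.1 x)) =
      ofS U.1 ((ClSub.idealModι J).app U.1 x) • m := by
    have e1 : tm M (Coh.structureModule Y) U.1 m ((ClSub.idealModι J).app U.1 x) =
        (SecTwist.unitorR M).inv.app U.1 (ofS U.1 ((ClSub.idealModι J).app U.1 x) • m) := by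
      rw [Scheme.Modules.Hom.app_smul, Groth.Agent.Lib.R2H1.CurveAmple.unitorR_inv_app,
        ← tm_smul_right, smul_toS, mul_one]
      rfl
    rw [e1]
    change ((SecTwist.unitorR M).inv ≫ (SecTwist.unitorR M).hom).app U.1 _ = _
    rw [Iso.inv_hom_id]
    rfl
  have h4 : (J.subschemeι.app U.1).hom (ofS U.1 ((ClSub.idealModι J).app U.1 x)) = 0 := by
    have h5 := hc
    rw [← Scheme.IdealSheafData.ker_subschemeι_app, RingHom.mem_ker] at h5
    exact h5
  have h3 : ((Scheme.Modules.pullbackPushforwardAdjunction J.subschemeι).unit.app M).app U.1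
      (ofS U.1 ((ClSub.idealModι J).app U.1 x) • m) = 0 := by
    rw [Scheme.Modules.Hom.app_smul]
    have h6 : (J.subschemeι.app U.1) (ofS U.1 ((ClSub.idealModι J).app U.1 x)) = 0 := h4
    have h7 := Groth.Agent.Helper13PullbackUnit.pushforward_smul J.subschemeι
      (M := (Scheme.Modules.pullback J.subschemeι).obj M) U.1
      (ofS U.1 ((ClSub.idealModι J).app U.1 x))
      (((Scheme.Modules.pullbackPushforwardAdjunction J.subschemeι).unit.app M).app U.1 m)
    rw [h6, zero_smul] at h7
    exact h7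
  change ((Scheme.Modules.pullbackPushforwardAdjunction J.subschemeι).unit.app M).app U.1
      ((SecTwist.unitorR M).hom.app U.1
        (((DCoh.tensorBi.obj M).map (ClSub.idealModι J)).app U.1
          (tm M (ClSub.idealMod J) U.1 m x))) = 0
  rw [h1, h2, h3]

theorem app_inv_hom {A B : Y.Modules} (ρ : A ⟶ B) [IsIso ρ] (W : Y.Opens) (t : Γ(B, W)) :
    ρ.app W ((inv ρ).app W t) = t := by
  change (inv ρ ≫ ρ).app W t = t
  rw [IsIso.inv_hom_id]
  rfl

/-- restriction of sections of an invertible module to a closed subscheme is surjective when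
`H¹` of the twisted ideal vanishes -/
theorem surjective_unit_top (hM : PicF.IsInvertible M)
    (h1 : Subsingleton (Coh.HH Y (CohB1.tensorMod M (ClSub.idealMod J)) (0 + 1))) :
    Function.Surjective
      (((Scheme.Modules.pullbackPushforwardAdjunction J.subschemeι).unit.app M).app ⊤) := by
  haveI : M.IsQuasicoherent := isQuasicoherent_of_isInvertible M hM
  have hS : ((idealSeq J).map (DCoh.tensorBi.obj M)).ShortExact :=
    Groth.Agent.Lib.R2Lead.TensorExact.shortExact_map_tensorBi_of_isInvertible M hM _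
      (idealSeq_shortExact J)
  haveI := hS.epi_g
  obtain ⟨ρ, hρ⟩ := hS.exact.desc' (uU J M) (f_comp_uU J M)
  have hq : ((SecTwist.unitorR M).inv ≫ ((idealSeq J).map (DCoh.tensorBi.obj M)).g) ≫ ρ =
      un J.subschemeι M :=
    (Category.assoc _ _ _).trans ((congrArg ((SecTwist.unitorR M).inv ≫ ·) hρ).trans
      (by unfold uU; exact Iso.inv_hom_id_assoc _ _))
  haveI : Epi (un J.subschemeι M) := Groth.Agent.Lib.R2H4UnitEpi.epi_unit_app J.subschemeι M
  haveI : Epi ρ := epi_of_epi_fac hq
  haveI : Epi ((SecTwist.unitorR M).inv ≫ ((idealSeq J).map (DCoh.tensorBi.obj M)).g) :=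
    epi_comp' (inferInstance : Epi (SecTwist.unitorR M).inv) hS.epi_g
  have hSK : SK J.subschemeι ((idealSeq J).map (DCoh.tensorBi.obj M)).X₃ :=
    sk_tens J.subschemeι M _ (sk_push J.subschemeι (Coh.structureModule J.subscheme))
  haveI : IsIso (un J.subschemeι ((idealSeq J).map (DCoh.tensorBi.obj M)).X₃) :=
    isIso_unit_of_sk J.subschemeι _ hSK
  have hnat : ((SecTwist.unitorR M).inv ≫ ((idealSeq J).map (DCoh.tensorBi.obj M)).g) ≫
      un J.subschemeι ((idealSeq J).map (DCoh.tensorBi.obj M)).X₃ =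
      un J.subschemeι M ≫ (psh J.subschemeι).map ((plb J.subschemeι).map
        ((SecTwist.unitorR M).inv ≫ ((idealSeq J).map (DCoh.tensorBi.obj M)).g)) :=
    (ppAdj J.subschemeι).unit.naturality _
  have hfac : un J.subschemeι ((idealSeq J).map (DCoh.tensorBi.obj M)).X₃ =
      ρ ≫ (psh J.subschemeι).map ((plb J.subschemeι).map
        ((SecTwist.unitorR M).inv ≫ ((idealSeq J).map (DCoh.tensorBi.obj M)).g)) := by
    rw [← cancel_epi ((SecTwist.unitorR M).inv ≫ ((idealSeq J).map (DCoh.tensorBi.obj M)).g),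
      hnat, ← hq, Category.assoc]
  haveI : Mono ρ := mono_of_mono_fac hfac.symm
  haveI : IsIso ρ := isIso_of_mono_of_epi ρ
  have hg : Function.Surjective (HmapL ((idealSeq J).map (DCoh.tensorBi.obj M)).g 0) :=
    Groth.Agent.Lib.R2H7.CICohA.surjective_HmapL_g_zero _ hS h1
  have hg' := surjective_app_top_of_HmapL _ hg
  intro t
  obtain ⟨s, hs⟩ := hg' ((inv ρ).app ⊤ t)
  refine ⟨(SecTwist.unitorR M).hom.app ⊤ s, ?_⟩
  have h2 : ((Scheme.Modules.pullbackPushforwardAdjunction J.subschemeι).unit.app M).app ⊤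
      ((SecTwist.unitorR M).hom.app ⊤ s) =
      ρ.app ⊤ (((idealSeq J).map (DCoh.tensorBi.obj M)).g.app ⊤ s) := by
    have h3 := congrArg (fun φ => φ.app ⊤ s) hρ
    exact h3.symm
  rw [h2, hs]
  exact app_inv_hom ρ ⊤ t

end UnitSurj

section UnitComp


variable {X Y Z : Scheme.{u}}

theorem unit_comp_eq (f : X ⟶ Y) (g : Y ⟶ Z) (N : Z.Modules) :
    (Scheme.Modules.pullbackPushforwardAdjunction g).unit.app N ≫
      (Scheme.Modules.pushforward g).map
        ((Scheme.Modules.pullbackPushforwardAdjunction f).unit.app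
          ((Scheme.Modules.pullback g).obj N)) ≫
        (Scheme.Modules.pushforwardComp f g).hom.app _ =
      (Scheme.Modules.pullbackPushforwardAdjunction (f ≫ g)).unit.app N ≫
        (Scheme.Modules.pushforward (f ≫ g)).map
          ((Scheme.Modules.pullbackComp f g).inv.app N) := by
  have h := unit_conjugateEquiv
    ((Scheme.Modules.pullbackPushforwardAdjunction g).comp
      (Scheme.Modules.pullbackPushforwardAdjunction f))
    (Scheme.Modules.pullbackPushforwardAdjunction (f ≫ g))
    (Scheme.Modules.pullbackComp f g).inv N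
  rw [Scheme.Modules.conjugateEquiv_pullbackComp_inv, Adjunction.comp_unit_app,
    Category.assoc] at h
  exact h

theorem unit_comp_apply (f : X ⟶ Y) (g : Y ⟶ Z) (N : Z.Modules) (s : Γ(N, ⊤)) :
    ((Scheme.Modules.pullbackComp f g).inv.app N).app ⊤
      (((Scheme.Modules.pullbackPushforwardAdjunction (f ≫ g)).unit.app N).app ⊤ s) =
      ((Scheme.Modules.pullbackPushforwardAdjunction f).unit.app
        ((Scheme.Modules.pullback g).obj N)).app ⊤
        (show Γ((Scheme.Modules.pullback g).obj N, ⊤) from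
          ((Scheme.Modules.pullbackPushforwardAdjunction g).unit.app N).app ⊤ s) := by
  have h1 := congrArg (fun φ => φ.app ⊤ s) (unit_comp_eq f g N)
  exact h1.symm

/-- the unit of a composite is surjective on global sections if both units are -/
theorem surjective_unit_comp (f : X ⟶ Y) (g : Y ⟶ Z) (N : Z.Modules)
    (hg : Function.Surjective
      (((Scheme.Modules.pullbackPushforwardAdjunction g).unit.app N).app ⊤))
    (hf : Function.Surjective
      (((Scheme.Modules.pullbackPushforwardAdjunction f).unit.app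
        ((Scheme.Modules.pullback g).obj N)).app ⊤)) :
    Function.Surjective
      (((Scheme.Modules.pullbackPushforwardAdjunction (f ≫ g)).unit.app N).app ⊤) := by
  intro t
  obtain ⟨s', hs'⟩ := hf (((Scheme.Modules.pullbackComp f g).inv.app N).app ⊤ t)
  obtain ⟨s, hs⟩ := hg (show Γ((Scheme.Modules.pushforward g).obj
    ((Scheme.Modules.pullback g).obj N), ⊤) from s')
  refine ⟨s, ?_⟩
  have h2 := unit_comp_apply f g N s
  rw [hs] at h2
  have h2' : ((Scheme.Modules.pullbackComp f g).inv.app N).app ⊤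
      (((Scheme.Modules.pullbackPushforwardAdjunction (f ≫ g)).unit.app N).app ⊤ s) =
      ((Scheme.Modules.pullbackComp f g).inv.app N).app ⊤ t := h2.trans hs'
  have h3 := congrArg (((Scheme.Modules.pullbackComp f g).hom.app N).app ⊤) h2'
  have h4 : ∀ z, ((Scheme.Modules.pullbackComp f g).hom.app N).app ⊤
      (((Scheme.Modules.pullbackComp f g).inv.app N).app ⊤ z) = z := by
    intro z
    change ((Scheme.Modules.pullbackComp f g).inv.app N ≫
      (Scheme.Modules.pullbackComp f g).hom.app N).app ⊤ z = z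
    rw [Iso.inv_hom_id_app]
    rfl
  rw [h4, h4] at h3
  exact h3

/-- the unit of an isomorphism is surjective on global sections -/
theorem surjective_unit_of_isIso (φ : X ⟶ Y) [IsIso φ] (M : Y.Modules) :
    Function.Surjective (((Scheme.Modules.pullbackPushforwardAdjunction φ).unit.app M).app ⊤) := by
  have hSK : Groth.Agent.Lib.R2H3.ClosedUnit.SK φ M := by
    intro W a ha p hp n
    have hinj : Function.Injective (φ.app W).hom :=
      (ConcreteCategory.bijective_of_isIso (φ.app W)).1
    have h0 : a = 0 := hinj (by rw [ha, map_zero])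
    rw [h0, map_zero, zero_smul]
  haveI : IsIso (Groth.Agent.Lib.Helper1.PT.un φ M) :=
    Groth.Agent.Lib.R2H3.ClosedUnit.isIso_unit_of_sk φ M hSK
  intro t
  exact ⟨(inv (Groth.Agent.Lib.Helper1.PT.un φ M)).app ⊤ t,
    app_inv_hom (Groth.Agent.Lib.Helper1.PT.un φ M) ⊤ t⟩

/-- transport of surjectivity of the unit along an isomorphism of modules -/
theorem surjective_unit_of_iso (f : X ⟶ Y) {M N : Y.Modules} (ε : M ≅ N)
    (h : Function.Surjective (((Scheme.Modules.pullbackPushforwardAdjunction f).unit.app M).app ⊤)) :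
    Function.Surjective (((Scheme.Modules.pullbackPushforwardAdjunction f).unit.app N).app ⊤) := by
  intro t
  obtain ⟨s, hs⟩ := h (((Scheme.Modules.pushforward f).map ((Scheme.Modules.pullback f).map ε.inv)).app ⊤ t)
  refine ⟨ε.hom.app ⊤ s, ?_⟩
  have hnat : ε.hom ≫ (Scheme.Modules.pullbackPushforwardAdjunction f).unit.app N =
      (Scheme.Modules.pullbackPushforwardAdjunction f).unit.app M ≫
        (Scheme.Modules.pushforward f).map ((Scheme.Modules.pullback f).map ε.hom) :=
    (Scheme.Modules.pullbackPushforwardAdjunction f).unit.naturality ε.hom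
  have h1 := congrArg (fun φ => φ.app ⊤ s) hnat
  have h2 : ((Scheme.Modules.pullbackPushforwardAdjunction f).unit.app N).app ⊤ (ε.hom.app ⊤ s) =
      ((Scheme.Modules.pushforward f).map ((Scheme.Modules.pullback f).map ε.hom)).app ⊤
        (((Scheme.Modules.pullbackPushforwardAdjunction f).unit.app M).app ⊤ s) := h1
  rw [h2, hs]
  change ((Scheme.Modules.pushforward f).map ((Scheme.Modules.pullback f).map ε.inv) ≫
    (Scheme.Modules.pushforward f).map ((Scheme.Modules.pullback f).map ε.hom)).app ⊤ t = t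
  rw [← Functor.map_comp, ← Functor.map_comp, ε.inv_hom_id,
    (Scheme.Modules.pullback f).map_id, (Scheme.Modules.pushforward f).map_id]
  rfl

end UnitComp

section Pn

open Groth.Agent.Lib.Helper23.SecTw Groth.Agent.Lib.Helper23.GenLocus Groth.Agent.Lib.Helper6
open Groth.Agent.Lib.R2H1.DegCartier Groth.Agent.Lib.R2H2.HHLin
open Groth.Agent.Lib.R2H4TensorPows Groth.Agent.Lib.R2H2.PnSerre

variable (k : Type u) [Field k] (n : ℕ)

theorem isIso_unitToPush {X Y : Scheme.{u}} (f : X ⟶ Y) [IsIso f] :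
    IsIso (ClSub.unitToPush f) := by
  apply Groth.Agent.Lib.Helper21.GammaZ.isIso_of_bijective_app
  · intro V
    exact (ConcreteCategory.bijective_of_isIso (f.app V.unop)).1
  · intro V
    exact (ConcreteCategory.bijective_of_isIso (f.app V.unop)).2

/-- from the projective space to the closed subscheme -/
theorem sub_of_sub_push {X : Scheme.{u}} (ι : X ⟶ CohB1.ProjSpace n k) [IsAffineHom ι] (i : ℤ)
    (p : ℕ)
    (h : Subsingleton (Coh.HH (CohB1.ProjSpace n k)
      (CohB1.tensorMod ((Scheme.Modules.pushforward ι).obj (Coh.structureModule X))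
        (Twist.twistProjSpace n k i)) p)) :
    Subsingleton (Coh.HH X ((Scheme.Modules.pullback ι).obj (Twist.twistProjSpace n k i)) p) := by
  have hq : (Coh.structureModule X).IsQuasicoherent :=
    Groth.Agent.Lib.Helper23.Serre.isQuasicoherent_structureModule' X
  have h1 := (Groth.Agent.Lib.R2H2.ClosedPn.subsingleton_HH_twistOn_iff n k ι
    (Coh.structureModule X) hq i p).mpr h
  exact subsingleton_HH_of_iso (lUnit _) p h1

/-- **one hypersurface section: vanishing** -/
theorem step_vanish {Y X : Scheme.{u}} (ιY : Y ⟶ CohB1.ProjSpace n k) [IsClosedImmersion ιY]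
    (J : Y.IdealSheafData) {d : ℕ}
    (e : ClSub.idealMod J ≅
      (Scheme.Modules.pullback ιY).obj (Twist.twistProjSpace n k (-(d : ℤ))))
    (φ : X ⟶ J.subscheme) [IsIso φ] (ιX : X ⟶ CohB1.ProjSpace n k)
    (hφ : φ ≫ J.subschemeι ≫ ιY = ιX) (i : ℤ) (p : ℕ)
    (h2 : Subsingleton (Coh.HH Y
      ((Scheme.Modules.pullback ιY).obj (Twist.twistProjSpace n k i)) p))
    (h1 : Subsingleton (Coh.HH Y
      ((Scheme.Modules.pullback ιY).obj (Twist.twistProjSpace n k (i + -(d : ℤ)))) (p + 1))) :
    Subsingleton (Coh.HH X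
      ((Scheme.Modules.pullback ιX).obj (Twist.twistProjSpace n k i)) p) := by
  subst hφ
  have hM : PicF.IsInvertible ((Scheme.Modules.pullback ιY).obj (Twist.twistProjSpace n k i)) :=
    Groth.Agent.Lib.Helper23.PB.isInvertible_pullback ιY _
      (Groth.Agent.Lib.R2Lead.KRR.isInvertible_twistProjSpace n k i)
  have hS := Groth.Agent.Lib.R2Lead.TensorExact.shortExact_map_tensorBi_of_isInvertible _ hM
    (idealSeq J) (idealSeq_shortExact J)
  obtain ⟨e1⟩ := Groth.Agent.Lib.R2H3.CMVanish.nonempty_pullback_twist_tensor_iso k n ιY i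
    (-(d : ℤ))
  have eX1 : CohB1.tensorMod ((Scheme.Modules.pullback ιY).obj (Twist.twistProjSpace n k i))
      (ClSub.idealMod J) ≅
      (Scheme.Modules.pullback ιY).obj (Twist.twistProjSpace n k (i + -(d : ℤ))) :=
    tIso (Iso.refl _) e ≪≫ e1
  have h3 : Subsingleton (Coh.HH Y
      (CohB1.tensorMod ((Scheme.Modules.pullback ιY).obj (Twist.twistProjSpace n k i))
        (ClSub.quotMod J)) p) :=
    sub_mid' _ hS p (subsingleton_HH_of_iso (rUnit _).symm p h2)
      (subsingleton_HH_of_iso eX1.symm (p + 1) h1)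
  haveI hq1 : (Twist.twistProjSpace n k i).IsQuasicoherent :=
    isQuasicoherent_of_isInvertible _
      (Groth.Agent.Lib.R2Lead.KRR.isInvertible_twistProjSpace n k i)
  haveI hq2 : ((Scheme.Modules.pullback ιY).obj (Twist.twistProjSpace n k i)).IsQuasicoherent :=
    isQuasicoherent_of_isInvertible _ hM
  haveI hq3 : (Coh.structureModule J.subscheme).IsQuasicoherent :=
    Groth.Agent.Lib.Helper23.Serre.isQuasicoherent_structureModule' _
  haveI hq4 : (ClSub.quotMod J).IsQuasicoherent :=
    Groth.Agent.Lib.Helper23.QCohLocal.isQuasicoherent_pushforward J.subschemeι _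
  have hq5 : Coh.IsQCoh
      (CohB1.tensorMod ((Scheme.Modules.pullback ιY).obj (Twist.twistProjSpace n k i))
        (ClSub.quotMod J)) :=
    Groth.Agent.Lib.Helper23.TensorQCoh.isQuasicoherent_tensorMod _ _
  have h4 := (Groth.Agent.Lib.R2H2.ClosedPn.subsingleton_HH_push_iff ιY _ hq5 p).mp h3
  obtain ⟨e2⟩ := Groth.Agent.Lib.R2H2.ClosedPn.nonempty_push_twist_iso n k ιY (ClSub.quotMod J) i
  have e3 : (Scheme.Modules.pushforward ιY).obj
      (CohB1.tensorMod ((Scheme.Modules.pullback ιY).obj (Twist.twistProjSpace n k i))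
        (ClSub.quotMod J)) ≅
      CohB1.tensorMod ((Scheme.Modules.pushforward ιY).obj (ClSub.quotMod J))
        (Twist.twistProjSpace n k i) :=
    (Scheme.Modules.pushforward ιY).mapIso (tComm _ _) ≪≫ e2
  have e4 : (Scheme.Modules.pushforward ιY).obj (ClSub.quotMod J) ≅
      (Scheme.Modules.pushforward (J.subschemeι ≫ ιY)).obj (Coh.structureModule J.subscheme) :=
    (Scheme.Modules.pushforwardComp J.subschemeι ιY).app _
  haveI := isIso_unitToPush φ
  have e5 : (Scheme.Modules.pushforward (J.subschemeι ≫ ιY)).obj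
      (Coh.structureModule J.subscheme) ≅
      (Scheme.Modules.pushforward (φ ≫ J.subschemeι ≫ ιY)).obj (Coh.structureModule X) :=
    (Scheme.Modules.pushforward (J.subschemeι ≫ ιY)).mapIso (asIso (ClSub.unitToPush φ)) ≪≫
      (Scheme.Modules.pushforwardComp φ (J.subschemeι ≫ ιY)).app _
  have h5 : Subsingleton (Coh.HH (CohB1.ProjSpace n k)
      (CohB1.tensorMod ((Scheme.Modules.pushforward (φ ≫ J.subschemeι ≫ ιY)).obj
        (Coh.structureModule X)) (Twist.twistProjSpace n k i)) p) :=
    subsingleton_HH_of_iso (e3 ≪≫ tIso (e4 ≪≫ e5) (Iso.refl _)) p h4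
  exact sub_of_sub_push k n _ i p h5

/-- **one hypersurface section: surjectivity of restriction of sections** -/
theorem step_surj {Y X : Scheme.{u}} (ιY : Y ⟶ CohB1.ProjSpace n k) [IsClosedImmersion ιY]
    (J : Y.IdealSheafData) {d : ℕ}
    (e : ClSub.idealMod J ≅
      (Scheme.Modules.pullback ιY).obj (Twist.twistProjSpace n k (-(d : ℤ))))
    (φ : X ⟶ J.subscheme) [IsIso φ] (ιX : X ⟶ CohB1.ProjSpace n k)
    (hφ : φ ≫ J.subschemeι ≫ ιY = ιX) (i : ℤ)
    (hY : Function.Surjective (((Scheme.Modules.pullbackPushforwardAdjunction ιY).unit.app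
      (Twist.twistProjSpace n k i)).app ⊤))
    (h1 : Subsingleton (Coh.HH Y
      ((Scheme.Modules.pullback ιY).obj (Twist.twistProjSpace n k (i + -(d : ℤ)))) (0 + 1))) :
    Function.Surjective (((Scheme.Modules.pullbackPushforwardAdjunction ιX).unit.app
      (Twist.twistProjSpace n k i)).app ⊤) := by
  subst hφ
  have hM : PicF.IsInvertible ((Scheme.Modules.pullback ιY).obj (Twist.twistProjSpace n k i)) :=
    Groth.Agent.Lib.Helper23.PB.isInvertible_pullback ιY _
      (Groth.Agent.Lib.R2Lead.KRR.isInvertible_twistProjSpace n k i)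
  obtain ⟨e1⟩ := Groth.Agent.Lib.R2H3.CMVanish.nonempty_pullback_twist_tensor_iso k n ιY i
    (-(d : ℤ))
  have eX1 : CohB1.tensorMod ((Scheme.Modules.pullback ιY).obj (Twist.twistProjSpace n k i))
      (ClSub.idealMod J) ≅
      (Scheme.Modules.pullback ιY).obj (Twist.twistProjSpace n k (i + -(d : ℤ))) :=
    tIso (Iso.refl _) e ≪≫ e1
  have hj := surjective_unit_top J _ hM (subsingleton_HH_of_iso eX1.symm (0 + 1) h1)
  have hc1 := surjective_unit_comp J.subschemeι ιY (Twist.twistProjSpace n k i) hY hj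
  exact surjective_unit_comp φ (J.subschemeι ≫ ιY) (Twist.twistProjSpace n k i) hc1
    (surjective_unit_of_isIso φ _)

/-- if the restriction of functions `Γ(P, O_P) ⟶ Γ(X, ι^* O_P)` is surjective then so is `ι^♯` -/
theorem surjective_app_top_of_unit {X : Scheme.{u}} (ι : X ⟶ CohB1.ProjSpace n k)
    (h : Function.Surjective (((Scheme.Modules.pullbackPushforwardAdjunction ι).unit.app
      (Coh.structureModule (CohB1.ProjSpace n k))).app ⊤)) :
    Function.Surjective (ι.app ⊤).hom := by
  intro a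
  obtain ⟨b, hb⟩ := h ((inv (Groth.Agent.Lib.R2H3.PnChart.pullbackUnitHom ι)).app (ι ⁻¹ᵁ ⊤)
    (toS (ι ⁻¹ᵁ ⊤) a))
  refine ⟨ofS ⊤ b, ?_⟩
  have h3 : (Groth.Agent.Lib.R2H3.PnChart.pullbackUnitHom ι).app (ι ⁻¹ᵁ ⊤)
      (((Scheme.Modules.pullbackPushforwardAdjunction ι).unit.app
        (Coh.structureModule (CohB1.ProjSpace n k))).app ⊤ (toS ⊤ (ofS ⊤ b))) =
      toS (ι ⁻¹ᵁ ⊤) (ι.app ⊤ (ofS ⊤ b)) :=
    Groth.Agent.Lib.R2H3.PnChart.pullbackUnitHom_pullSect ι ⊤ (ofS ⊤ b)
  rw [toS_ofS, hb, app_inv_hom] at h3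
  exact h3.symm

end Pn

section Conn

/-- a nonempty proper `k`-scheme all of whose global functions are constants is geometrically
connected -/
theorem geometricallyConnected_of_surjective (k : Type u) [Field k] {X : Scheme.{u}}
    (f : X ⟶ Spec (CommRingCat.of k)) [IsProper f] [Nonempty X]
    (hsurj : Function.Surjective
      (f.appTop.hom.comp (Scheme.ΓSpecIso (CommRingCat.of k)).inv.hom)) :
    GeometricallyConnected f := by
  haveI : Nonempty (⊤ : X.Opens) := ⟨⟨Classical.arbitrary X, trivial⟩⟩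
  haveI : Nontrivial Γ(X, ⊤) := X.component_nontrivial ⊤
  have hbij : Function.Bijective
      (f.appTop.hom.comp (Scheme.ΓSpecIso (CommRingCat.of k)).inv.hom) :=
    ⟨RingHom.injective _, hsurj⟩
  let e : k ≃+* Γ(X, ⊤) := RingEquiv.ofBijective _ hbij
  rw [Groth.Agent.Lib.H9SteinConn.main k f]
  refine ⟨e.isLocalRing, ?_, ?_⟩
  · rw [← ringKrullDim_eq_of_ringEquiv e]
    exact ringKrullDim_eq_zero_of_field k
  · intro a
    obtain ⟨c, hc⟩ := hsurj a
    refine ⟨0, c, ?_⟩
    have : a ^ (ringExpChar k ^ 0) - f.appTop.hom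
        ((Scheme.ΓSpecIso (CommRingCat.of k)).inv.hom c) = 0 := by
      rw [pow_zero, pow_one, sub_eq_zero, ← hc]
      rfl
    rw [this]
    exact IsNilpotent.zero

end Conn

end Groth.Agent.Lib.R2H7.CICohA
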