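import Groth.Agent.Lib.Helper6SmDimSch
import Groth.Agent.Lib.Helper5FiberStalk
import Groth.Agent.Lib.Helper5MiracleSch

/-!
# Local dimension of `X ×_K X` at closed points of the diagonal (lead)
-/

set_option autoImplicit false
set_option linter.style.haveILetI false
universe u

open CategoryTheory CategoryTheory.Limits AlgebraicGeometry TopologicalSpace

namespace Groth.Agent.Lib.R2LeadDiagRegB

open Groth.Agent.Lib.Helper4.DimFormula

theorem equidim_of_irreducible {T : Type*} [TopologicalSpace T] [IrreducibleSpace T]
    (e : WithBot ℕ∞) (h : topologicalKrullDim T = e) :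
    ∀ Z ∈ irreducibleComponents T, topologicalKrullDim Z = e := by
  intro Z hZ
  rw [irreducibleComponents_eq_singleton, Set.mem_singleton_iff] at hZ
  subst hZ
  rw [← h]
  exact IsHomeomorph.topologicalKrullDim_eq _ (Homeomorph.Set.univ T).isHomeomorph

/-- local dimension at a closed point of an irreducible scheme locally of finite type over a field -/
theorem dim_stalk_closed (k : Type u) [Field k] {W : Scheme.{u}} (g : W ⟶ Spec (CommRingCat.of k))
    [LocallyOfFiniteType g] [IrreducibleSpace W] (n : ℕ) (hn : topologicalKrullDim W = n)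
    (w : W) (hw : IsClosed ({w} : Set W)) :
    ringKrullDim (W.presheaf.stalk w) = n := by
  have h1 := Groth.Agent.Lib.Helper5.MiracleSch.stalk_add_ptTrdeg_of_equidim k g n
    (equidim_of_irreducible _ hn) w
  rw [ptTrdeg_eq_zero_of_isClosed g w hw] at h1
  simpa using h1

section

variable (K : Type u) [Field K] [IsAlgClosed K] {X : Scheme.{u}} (f : X ⟶ Spec (CommRingCat.of K))
  [LocallyOfFiniteType f]

/-- the residue field of a closed point is `K` -/
theorem isIso_fromSpecResidueField_comp (y : X) (hy : IsClosed ({y} : Set X)) :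
    IsIso (X.fromSpecResidueField y ≫ f) := by
  have hfin : IsFinite (X.fromSpecResidueField y ≫ f) := by
    rw [isClosed_singleton_iff_isClosedImmersion] at hy
    rw [isFinite_iff_locallyOfFiniteType_of_jacobsonSpace]
    infer_instance
  obtain ⟨φ, hφ⟩ : ∃ φ : CommRingCat.of K ⟶ X.residueField y,
      Spec.map φ = X.fromSpecResidueField y ≫ f := ⟨Spec.preimage _, Spec.map_preimage _⟩
  have hint : φ.hom.IsIntegral := by
    rw [← IsIntegralHom.SpecMap_iff, hφ]; infer_instance
  have hbij : Function.Bijective φ.hom := IsAlgClosed.ringHom_bijective_of_isIntegral φ.hom hint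
  haveI : IsIso φ := (ConcreteCategory.isIso_iff_bijective φ).mpr hbij
  rw [← hφ]
  infer_instance

/-- the fibre of the first projection over a closed point is `X` -/
theorem nonempty_fiber_iso (y : X) (hy : IsClosed ({y} : Set X)) :
    Nonempty ((pullback.fst f f).fiber y ≅ X) := by
  haveI := isIso_fromSpecResidueField_comp K f y hy
  exact ⟨pullbackSymmetry _ _ ≪≫ pullbackRightPullbackFstIso f f (X.fromSpecResidueField y) ≪≫
    asIso (pullback.snd (X.fromSpecResidueField y ≫ f) f)⟩

/-- local dimension of `X ×_K X` at a closed point lying over a closed point -/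
theorem dim_stalk_pullback [Smooth f] [IrreducibleSpace X] (n : ℕ) (hn : topologicalKrullDim X = n)
    (z : ↥(pullback f f)) (hz : IsClosed ({z} : Set ↥(pullback f f)))
    (hy : IsClosed ({(pullback.fst f f) z} : Set X)) :
    ringKrullDim ((pullback f f).presheaf.stalk z) =
      ringKrullDim (X.presheaf.stalk ((pullback.fst f f) z)) + n := by
  haveI : IsLocallyNoetherian X := LocallyOfFiniteType.isLocallyNoetherian f
  have h1 := Groth.Agent.Lib.Helper6.SmDim.main4990 (pullback.fst f f) z
    ⟨⊤, trivial, inferInstance⟩
  obtain ⟨e⟩ := Groth.Agent.Lib.Helper5.FiberStalk.nonempty_stalk_asFiber_equiv (pullback.fst f f) z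
  rw [← ringKrullDim_eq_of_ringEquiv e] at h1
  rw [h1]
  congr 1
  obtain ⟨ι⟩ := nonempty_fiber_iso K f ((pullback.fst f f) z) hy
  let hom := Scheme.homeoOfIso ι
  haveI : IrreducibleSpace ↥((pullback.fst f f).fiber ((pullback.fst f f) z)) := by
    have h2 : IsIrreducible (Set.univ : Set ↥((pullback.fst f f).fiber ((pullback.fst f f) z))) := by
      have h3 : (Set.univ : Set ↥((pullback.fst f f).fiber ((pullback.fst f f) z))) =
          hom ⁻¹' (Set.univ : Set X) := by simp
      rw [h3]
      refine (IrreducibleSpace.isIrreducible_univ X).preimage hom.isOpenEmbedding ?_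
      obtain ⟨x⟩ := (inferInstance : Nonempty X)
      exact ⟨x, Set.mem_univ x, hom.surjective x⟩
    exact ⟨h2.isPreirreducible⟩ |> fun h => { toPreirreducibleSpace := h, toNonempty := ⟨h2.nonempty.some⟩ }
  have hdimF : topologicalKrullDim ↥((pullback.fst f f).fiber ((pullback.fst f f) z)) = n := by
    rw [← hn]
    exact IsHomeomorph.topologicalKrullDim_eq _ hom.isHomeomorph
  haveI : LocallyOfFiniteType ((pullback.fst f f).fiberToSpecResidueField ((pullback.fst f f) z)) :=
    inferInstanceAs (LocallyOfFiniteType (pullback.snd _ _))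
  have hcl : IsClosed ({(pullback.fst f f).asFiber z} :
      Set ↥((pullback.fst f f).fiber ((pullback.fst f f) z))) := by
    have h1 : ({(pullback.fst f f).asFiber z} : Set ↥((pullback.fst f f).fiber ((pullback.fst f f) z))) =
        ((pullback.fst f f).fiberι ((pullback.fst f f) z)) ⁻¹' {z} := by
      ext w
      simp only [Set.mem_singleton_iff, Set.mem_preimage]
      constructor
      · rintro rfl
        exact (pullback.fst f f).fiberι_asFiber z
      · intro hw
        apply ((pullback.fst f f).fiberι ((pullback.fst f f) z)).isEmbedding.injective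
        rw [hw, (pullback.fst f f).fiberι_asFiber]
    rw [h1]
    exact hz.preimage ((pullback.fst f f).fiberι ((pullback.fst f f) z)).continuous
  exact dim_stalk_closed (X.residueField ((pullback.fst f f) z))
    ((pullback.fst f f).fiberToSpecResidueField ((pullback.fst f f) z)) n hdimF _ hcl

end

end Groth.Agent.Lib.R2LeadDiagRegB
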