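import Groth.Agent.Lib.R2LeadDimCompA
import Groth.Agent.Lib.H9RegImmFlatBC
import Groth.Agent.Lib.Helper4DimFormulaAN
import Groth.Agent.Lib.R2LeadDiagRegB

/-!
# Dimension of components of the preimage of a subvariety under a regular immersion (lead)
-/

set_option autoImplicit false
set_option linter.style.haveILetI false
universe u

open CategoryTheory CategoryTheory.Limits AlgebraicGeometry TopologicalSpace RingTheory.Sequence

namespace Groth.Agent.Lib.R2LeadDimCompB

open Groth.Agent.Lib.Helper4.DimFormula Groth.Agent.Lib.R2LeadDimCompA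

/-- the generic point of an irreducible component has no proper generizations -/
theorem exists_generic_of_mem_irreducibleComponents {W : Type*} [TopologicalSpace W] [QuasiSober W]
    [T0Space W] (T : Set W) (hT : T ∈ irreducibleComponents W) :
    ∃ ξ : W, closure ({ξ} : Set W) = T ∧ ∀ w' : W, w' ⤳ ξ → w' = ξ := by
  have hcl : IsClosed T := isClosed_of_mem_irreducibleComponents T hT
  obtain ⟨ξ, hξ⟩ := QuasiSober.sober hT.1 hcl
  refine ⟨ξ, hξ.def, fun w' hw' => ?_⟩
  have h1 : T ⊆ closure ({w'} : Set W) := by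
    rw [← hξ.def]
    exact closure_minimal (Set.singleton_subset_iff.mpr (specializes_iff_mem_closure.mp hw'))
      isClosed_closure
  have h2 : closure ({w'} : Set W) ⊆ T := hT.2 isIrreducible_singleton.closure h1
  have h3 : IsGenericPoint w' T := (Set.Subset.antisymm h2 h1 : closure ({w'} : Set W) = T)
  exact h3.eq hξ

theorem main (K : Type u) [Field K] (Y Z X : Scheme.{u}) (gY : Y ⟶ Spec (CommRingCat.of K))
    [LocallyOfFiniteType gY] (f : X ⟶ Y) [LocallyOfFiniteType f] (c : ℕ)
    (hreg : RegImm.IsRegularImmersionOfCodim RegImm.Kind.regular c f) (ι : Z ⟶ Y)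
    [IsClosedImmersion ι] [IrreducibleSpace Z] (d : ℕ) (hd : topologicalKrullDim Z = d)
    (T : Set ↥(pullback f ι)) (hT : T ∈ irreducibleComponents ↥(pullback f ι)) :
    ((d : ℕ) : WithBot ℕ∞) ≤ topologicalKrullDim ↥T + c := by
  haveI : IsImmersion f := hreg.1
  haveI : IsImmersion (pullback.snd f ι) := inferInstance
  haveI : IsPreimmersion (pullback.snd f ι) := inferInstance
  haveI : LocallyOfFiniteType (pullback.snd f ι) := inferInstance
  haveI : LocallyOfFiniteType (ι ≫ gY) := inferInstance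
  haveI : IsLocallyNoetherian Z := LocallyOfFiniteType.isLocallyNoetherian (ι ≫ gY)
  obtain ⟨ξ, hξT, hξmax⟩ := exists_generic_of_mem_irreducibleComponents T hT
  -- the local ring at the generic point has dimension zero
  have h0 := Groth.Agent.Lib.Helper5.StalkSpec.ringKrullDim_stalk_eq_zero_of_maximal _ ξ hξmax
  -- local equations
  obtain ⟨U, hfxU, hcl, rs, hlen, -, hker⟩ := hreg.2 ((pullback.fst f ι) ξ)
  have hιz : ι ((pullback.snd f ι) ξ) ∈ U.1 := by
    have : ι ((pullback.snd f ι) ξ) = f ((pullback.fst f ι) ξ) := by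
      rw [← Scheme.Hom.comp_apply, ← Scheme.Hom.comp_apply, pullback.condition]
    rw [this]
    exact hfxU
  obtain ⟨V', hV'aff, hzV', hV'U⟩ := Opens.isBasis_iff_nbhd.mp Z.isBasis_affineOpens
    (show (pullback.snd f ι) ξ ∈ (ι ⁻¹ᵁ U.1 : Z.Opens) from hιz)
  obtain ⟨hcl', hker'⟩ := Groth.Agent.Lib.H9RegImmFlatBC.isClosedImmersion_and_ker f ι
    (pullback.snd f ι) (pullback.fst f ι) (IsPullback.of_hasPullback f ι) U.1 U.2 hcl V' hV'aff hV'U
  rw [hker, Ideal.map_ofList] at hker'
  haveI := hcl'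
  have hks := ker_stalkMap_eq_ofList (pullback.snd f ι) ξ V' hV'aff hzV' _ hker'
  -- Krull
  have e : (Z.presheaf.stalk ((pullback.snd f ι) ξ) ⧸ RingHom.ker ((pullback.snd f ι).stalkMap ξ).hom)
      ≃+* (pullback f ι).presheaf.stalk ξ :=
    RingHom.quotientKerEquivOfSurjective ((pullback.snd f ι).stalkMap_surjective ξ)
  have h0' : ringKrullDim (Z.presheaf.stalk ((pullback.snd f ι) ξ) ⧸
      RingHom.ker ((pullback.snd f ι).stalkMap ξ).hom) = 0 := by
    rw [ringKrullDim_eq_of_ringEquiv e, h0]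
  rw [hks] at h0'
  have hkr := ringKrullDim_le_length _ (by rw [← hks]; exact RingHom.ker_ne_top _) h0'
  rw [List.length_map, List.length_map, hlen] at hkr
  -- dimension formula on Z
  have h2 := Groth.Agent.Lib.Helper5.MiracleSch.stalk_add_ptTrdeg_of_equidim K (ι ≫ gY) d
    (Groth.Agent.Lib.R2LeadDiagRegB.equidim_of_irreducible _ hd) ((pullback.snd f ι) ξ)
  have h3 := ptTrdeg_comp_of_isPreimmersion (pullback.snd f ι) (ι ≫ gY) ξ
  have h4 := dim_closure_eq_ptTrdeg K (pullback.snd f ι ≫ ι ≫ gY) ξ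
  rw [hξT] at h4
  rw [h4, h3, ← h2, add_comm]
  exact add_le_add_right hkr _

end Groth.Agent.Lib.R2LeadDimCompB
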