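import Groth.Agent.Lib.R2H3KzSection
import Groth.Agent.Lib.H9RegImmStalk

/-!
# Length of a regular sequence cutting out an immersion, in terms of local dimensions (lead)
-/

set_option autoImplicit false
set_option linter.style.haveILetI false
universe u

open CategoryTheory CategoryTheory.Limits AlgebraicGeometry TopologicalSpace RingTheory.Sequence

namespace Groth.Agent.Lib.R2LeadDiagRegA

/-- If near `i z` the immersion `i : Z ⟶ X` is cut out by a weakly regular sequence `rs`, then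
`dim O_{Z,z} + length rs = dim O_{X, i z}`. -/
theorem dim_add_length {Z X : Scheme.{u}} (i : Z ⟶ X) [IsPreimmersion i] [IsLocallyNoetherian X]
    (z : Z) (U : X.affineOpens) (hz : i z ∈ U.1) [hcl : IsClosedImmersion (i ∣_ U.1)]
    (rs : List Γ(X, U.1)) (hreg : IsWeaklyRegular Γ(X, U.1) rs)
    (hker : RingHom.ker (i.app U.1).hom = Ideal.ofList rs) :
    ringKrullDim (Z.presheaf.stalk z) + (rs.length : ℕ) = ringKrullDim (X.presheaf.stalk (i z)) := by
  have hU : IsAffineOpen U.1 := U.2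
  haveI : IsAffine U.1.toScheme := hU
  have hU' : IsAffineOpen (i ⁻¹ᵁ U.1) := isAffine_of_isAffineHom (i ∣_ U.1)
  have hsurj := Groth.Agent.Lib.H9RegImmStalk.app_surjective_of_restrict i U.1
  have hsq : ∀ a, (Z.presheaf.germ (i ⁻¹ᵁ U.1) z hz).hom ((i.app U.1).hom a)
      = (i.stalkMap z).hom ((X.presheaf.germ U.1 (i z) hz).hom a) := fun a =>
    (i.germ_stalkMap_apply U.1 z hz a).symm
  have hk0 := Groth.Agent.Lib.Helper5.StalkSpec.ker_eq_map_of_isLocalization
    (X.presheaf.germ U.1 (i z) hz).hom (Z.presheaf.germ (i ⁻¹ᵁ U.1) z hz).hom (i.app U.1).hom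
    (i.stalkMap z).hom hsq hsurj _ (hU.isLocalization_stalk ⟨i z, hz⟩) _
    (hU'.isLocalization_stalk ⟨z, hz⟩)
  letI := (X.presheaf.germ U.1 (i z) hz).hom.toAlgebra
  haveI : IsLocalization.AtPrime (X.presheaf.stalk (i z)) (hU.primeIdealOf ⟨i z, hz⟩).asIdeal :=
    hU.isLocalization_stalk ⟨i z, hz⟩
  haveI : Module.Flat Γ(X, U.1) (X.presheaf.stalk (i z)) :=
    IsLocalization.flat _ (hU.primeIdealOf ⟨i z, hz⟩).asIdeal.primeCompl
  have hw : IsWeaklyRegular (X.presheaf.stalk (i z))
      (rs.map (X.presheaf.germ U.1 (i z) hz).hom) := hreg.of_flat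
  have hk : RingHom.ker (i.stalkMap z).hom
      = Ideal.ofList (rs.map (X.presheaf.germ U.1 (i z) hz).hom) := by
    rw [hk0, hker, Ideal.map_ofList]
  have hregS : IsRegular (X.presheaf.stalk (i z)) (rs.map (X.presheaf.germ U.1 (i z) hz).hom) := by
    refine ⟨hw, ?_⟩
    rw [smul_eq_mul, Ideal.mul_top, ← hk]
    exact (RingHom.ker_ne_top _).symm
  have h1 := ringKrullDim_add_length_eq_ringKrullDim_of_isRegular _ hregS
  rw [List.length_map, ← hk] at h1
  have e : (X.presheaf.stalk (i z) ⧸ RingHom.ker (i.stalkMap z).hom) ≃+* Z.presheaf.stalk z :=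
    RingHom.quotientKerEquivOfSurjective (i.stalkMap_surjective z)
  rw [ringKrullDim_eq_of_ringEquiv e] at h1
  exact h1

end Groth.Agent.Lib.R2LeadDiagRegA
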