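import Groth.Agent.Lib.R2LeadIntDimA
import Groth.Agent.Lib.R2LeadDiagRegA
import Groth.Agent.Lib.Helper11RedCl

/-!
# Dimension of intersections on a smooth variety, reduction to the diagonal (lead)
-/

set_option autoImplicit false
set_option linter.style.haveILetI false
universe u

open CategoryTheory CategoryTheory.Limits AlgebraicGeometry TopologicalSpace RingTheory.Sequence

namespace Groth.Agent.Lib.R2LeadIntDimB

open Groth.Agent.Lib.Helper4.DimFormula Groth.Agent.Lib.R2LeadDimCompA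
  Groth.Agent.Lib.R2LeadDimCompB Groth.Agent.Lib.R2LeadIntDimA

theorem ptTrdeg_congr {X Y : Scheme.{u}} {f g : X ⟶ Y} [LocallyOfFiniteType f]
    [LocallyOfFiniteType g] (h : f = g) (x : X) : ptTrdeg f x = ptTrdeg g x := by
  subst h; rfl

/-- the pointwise form of `R2LeadDimCompB.main`, for an equidimensional `Z` -/
theorem main' (K : Type u) [Field K] (Y Z X : Scheme.{u}) (gY : Y ⟶ Spec (CommRingCat.of K))
    [LocallyOfFiniteType gY] (f : X ⟶ Y) [IsImmersion f] [LocallyOfFiniteType f] (ι : Z ⟶ Y)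
    [IsClosedImmersion ι] (d : ℕ)
    (hd : ∀ Z' ∈ irreducibleComponents (Z : Type u), topologicalKrullDim Z' = d)
    (ξ : ↥(pullback f ι)) (hξmax : ∀ w' : ↥(pullback f ι), w' ⤳ ξ → w' = ξ)
    (U : Y.affineOpens) (hfxU : f ((pullback.fst f ι) ξ) ∈ U.1)
    (hcl : IsClosedImmersion (f ∣_ U.1)) (rs : List Γ(Y, U.1))
    (hker : RingHom.ker (f.app U.1).hom = Ideal.ofList rs) :
    ((d : ℕ) : WithBot ℕ∞) ≤
      topologicalKrullDim ↥(closure ({ξ} : Set ↥(pullback f ι))) + (rs.length : ℕ) := by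
  haveI : IsImmersion (pullback.snd f ι) := inferInstance
  haveI : IsPreimmersion (pullback.snd f ι) := inferInstance
  haveI : LocallyOfFiniteType (pullback.snd f ι) := inferInstance
  haveI : LocallyOfFiniteType (ι ≫ gY) := inferInstance
  haveI : IsLocallyNoetherian Z := LocallyOfFiniteType.isLocallyNoetherian (ι ≫ gY)
  have h0 := Groth.Agent.Lib.Helper5.StalkSpec.ringKrullDim_stalk_eq_zero_of_maximal _ ξ hξmax
  have hιz : ι ((pullback.snd f ι) ξ) ∈ U.1 := by
    have : ι ((pullback.snd f ι) ξ) = f ((pullback.fst f ι) ξ) := by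
      rw [← Scheme.Hom.comp_apply, ← Scheme.Hom.comp_apply, pullback.condition]
    rw [this]
    exact hfxU
  obtain ⟨V', hV'aff, hzV', hV'U⟩ := Opens.isBasis_iff_nbhd.mp Z.isBasis_affineOpens
    (show (pullback.snd f ι) ξ ∈ (ι ⁻¹ᵁ U.1 : Z.Opens) from hιz)
  obtain ⟨hcl', hker'⟩ := Groth.Agent.Lib.H9RegImmFlatBC.isClosedImmersion_and_ker f ι
    (pullback.snd f ι) (pullback.fst f ι) (IsPullback.of_hasPullback f ι) U.1 U.2 hcl V' hV'aff hV'U
  rw [hker, Ideal.map_ofList] at hker'
  haveI := hcl'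
  have hks := ker_stalkMap_eq_ofList (pullback.snd f ι) ξ V' hV'aff hzV' _ hker'
  have e : (Z.presheaf.stalk ((pullback.snd f ι) ξ) ⧸ RingHom.ker ((pullback.snd f ι).stalkMap ξ).hom)
      ≃+* (pullback f ι).presheaf.stalk ξ :=
    RingHom.quotientKerEquivOfSurjective ((pullback.snd f ι).stalkMap_surjective ξ)
  have h0' : ringKrullDim (Z.presheaf.stalk ((pullback.snd f ι) ξ) ⧸
      RingHom.ker ((pullback.snd f ι).stalkMap ξ).hom) = 0 := by
    rw [ringKrullDim_eq_of_ringEquiv e, h0]
  rw [hks] at h0'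
  have hkr := ringKrullDim_le_length _ (by rw [← hks]; exact RingHom.ker_ne_top _) h0'
  rw [List.length_map, List.length_map] at hkr
  have h2 := Groth.Agent.Lib.Helper5.MiracleSch.stalk_add_ptTrdeg_of_equidim K (ι ≫ gY) d
    hd ((pullback.snd f ι) ξ)
  have h3 := ptTrdeg_comp_of_isPreimmersion (pullback.snd f ι) (ι ≫ gY) ξ
  have h4 := dim_closure_eq_ptTrdeg K (pullback.snd f ι ≫ ι ≫ gY) ξ
  rw [h4, h3, ← h2, add_comm]
  exact add_le_add_right hkr _

theorem image_mem_irreducibleComponents {A B : Type*} [TopologicalSpace A]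
    [TopologicalSpace B] (φ : A ≃ₜ B) (Z : Set A) (hZ : Z ∈ irreducibleComponents A) :
    φ '' Z ∈ irreducibleComponents B ∧ topologicalKrullDim ↥(φ '' Z) = topologicalKrullDim ↥Z := by
  refine ⟨⟨hZ.1.image φ φ.continuous.continuousOn, ?_⟩, ?_⟩
  · intro W hW hZW
    have h1 : IsIrreducible (φ.symm '' W) := hW.image φ.symm φ.symm.continuous.continuousOn
    have h2 : Z ≤ φ.symm '' W := by
      intro z hz
      exact ⟨φ z, hZW ⟨z, hz, rfl⟩, φ.symm_apply_apply z⟩
    have h3 : φ.symm '' W ≤ Z := hZ.2 h1 h2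
    intro w hw
    have h4 : φ.symm w ∈ Z := h3 ⟨w, hw, rfl⟩
    exact ⟨φ.symm w, h4, φ.apply_symm_apply w⟩
  · exact (IsHomeomorph.topologicalKrullDim_eq _ (φ.image Z).isHomeomorph).symm

/-- length of a regular sequence cutting out the diagonal of a smooth variety of dimension `n` -/
theorem length_diagonal (k : Type u) [Field k] (X : Scheme.{u})
    (f : X ⟶ Spec (CommRingCat.of k)) [LocallyOfFiniteType f] [IrreducibleSpace X] (n : ℕ)
    (hn : topologicalKrullDim X = n) (y : X) (U : (pullback f f).affineOpens)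
    (hyU : pullback.diagonal f y ∈ U.1) (hcl : IsClosedImmersion (pullback.diagonal f ∣_ U.1))
    (rs : List Γ(pullback f f, U.1)) (hreg : IsWeaklyRegular Γ(pullback f f, U.1) rs)
    (hker : RingHom.ker ((pullback.diagonal f).app U.1).hom = Ideal.ofList rs) :
    rs.length = n := by
  have hX := Groth.Agent.Lib.R2LeadDiagRegB.equidim_of_irreducible (T := X) (n : WithBot ℕ∞) hn
  have hP := equidim_pullback k f f n n hX hX
  haveI : LocallyOfFiniteType (pullback.fst f f ≫ f) := inferInstance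
  haveI : IsLocallyNoetherian (pullback f f) :=
    LocallyOfFiniteType.isLocallyNoetherian (pullback.fst f f ≫ f)
  haveI : LocallyOfFiniteType (pullback.diagonal f) := by
    have : LocallyOfFiniteType (pullback.diagonal f ≫ pullback.fst f f) := by
      rw [pullback.diagonal_fst]; infer_instance
    exact locallyOfFiniteType_of_comp (pullback.diagonal f) (pullback.fst f f)
  have ha := Groth.Agent.Lib.R2LeadDiagRegA.dim_add_length (pullback.diagonal f) y U hyU rs hreg hker
  have hb := Groth.Agent.Lib.Helper5.MiracleSch.stalk_add_ptTrdeg_of_equidim k f n hX y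
  have hc := Groth.Agent.Lib.Helper5.MiracleSch.stalk_add_ptTrdeg_of_equidim k
    (pullback.fst f f ≫ f) (n + n) hP (pullback.diagonal f y)
  have hd : ptTrdeg (pullback.fst f f ≫ f) (pullback.diagonal f y) = ptTrdeg f y := by
    rw [← ptTrdeg_comp_of_isPreimmersion (pullback.diagonal f) (pullback.fst f f ≫ f) y]
    exact ptTrdeg_congr (by rw [pullback.diagonal_fst_assoc]) y
  rw [hd] at hc
  obtain ⟨d0, hd0, hd0'⟩ := Groth.Agent.Lib.Helper5.MiracleSch.exists_nat_of_add_eq hb
  obtain ⟨d1, hd1, hd1'⟩ := Groth.Agent.Lib.Helper5.MiracleSch.exists_nat_of_add_eq hc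
  rw [hd0, hd1] at ha
  have ha' : d0 + rs.length = d1 := by exact_mod_cast ha
  omega

end Groth.Agent.Lib.R2LeadIntDimB
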