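import Groth.Agent.Lib.R2LeadIntDimB

/-!
# Dimension of intersections on a smooth variety: main theorem (lead)
-/

set_option autoImplicit false
set_option linter.style.haveILetI false
universe u

open CategoryTheory CategoryTheory.Limits AlgebraicGeometry TopologicalSpace RingTheory.Sequence

namespace Groth.Agent.Lib.R2LeadIntDimC

open Groth.Agent.Lib.Helper4.DimFormula Groth.Agent.Lib.R2LeadDimCompA
  Groth.Agent.Lib.R2LeadDimCompB Groth.Agent.Lib.R2LeadIntDimA Groth.Agent.Lib.R2LeadIntDimB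

/-- a closed irreducible subset as a closed subscheme -/
theorem exists_subscheme {X : Scheme.{u}} (V : Set X) (hVc : IsClosed V) (hVi : IsIrreducible V)
    (r : WithBot ℕ∞) (hr : topologicalKrullDim ↥V = r) :
    ∃ (Vs : Scheme.{u}) (ιV : Vs ⟶ X), IsClosedImmersion ιV ∧ Set.range ιV = V ∧
      IrreducibleSpace Vs ∧ topologicalKrullDim Vs = r := by
  refine ⟨(Scheme.IdealSheafData.vanishingIdeal ⟨V, hVc⟩).subscheme,
    (Scheme.IdealSheafData.vanishingIdeal ⟨V, hVc⟩).subschemeι, inferInstance,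
    Groth.Agent.Lib.Helper11RedCl.range_subschemeι_vanishingIdeal ⟨V, hVc⟩, ?_, ?_⟩
  all_goals
    set ιV := (Scheme.IdealSheafData.vanishingIdeal ⟨V, hVc⟩).subschemeι
    have hrV : Set.range ιV = V :=
      Groth.Agent.Lib.Helper11RedCl.range_subschemeι_vanishingIdeal ⟨V, hVc⟩
    let φV : ↥(Scheme.IdealSheafData.vanishingIdeal ⟨V, hVc⟩).subscheme ≃ₜ ↥V :=
      (ιV.isEmbedding.toHomeomorph).trans (Homeomorph.setCongr hrV)
  · haveI : IrreducibleSpace ↥V := Subtype.irreducibleSpace hVi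
    exact φV.irreducibleSpace_iff.mpr inferInstance
  · rw [← hr]
    exact IsHomeomorph.topologicalKrullDim_eq _ φV.isHomeomorph

theorem main (k : Type u) [Field k] (X : Scheme.{u})
    (f : X ⟶ Spec (CommRingCat.of k)) [Smooth f] [IsIntegral X]
    (n r s : ℕ) (hn : topologicalKrullDim X = n) (V W : Set X) (hVc : IsClosed V)
    (hVi : IsIrreducible V) (hWc : IsClosed W) (hWi : IsIrreducible W)
    (hr : topologicalKrullDim ↥V = r) (hs : topologicalKrullDim ↥W = s) (Z : Set ↥(V ∩ W))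
    (hZ : Z ∈ irreducibleComponents ↥(V ∩ W)) :
    ((r + s : ℕ) : WithBot ℕ∞) ≤ topologicalKrullDim ↥Z + n := by
  haveI : LocallyOfFiniteType f := inferInstance
  obtain ⟨Vs, ιV, hιV, hrV, hVsi, hVsd⟩ := exists_subscheme V hVc hVi r hr
  obtain ⟨Ws, ιW, hιW, hrW, hWsi, hWsd⟩ := exists_subscheme W hWc hWi s hs
  have hVe := Groth.Agent.Lib.R2LeadDiagRegB.equidim_of_irreducible (T := Vs) (r : WithBot ℕ∞) hVsd
  have hWe := Groth.Agent.Lib.R2LeadDiagRegB.equidim_of_irreducible (T := Ws) (s : WithBot ℕ∞) hWsd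
  haveI : LocallyOfFiniteType (ιV ≫ f) := inferInstance
  haveI : LocallyOfFiniteType (ιW ≫ f) := inferInstance
  have hQ := equidim_pullback k (ιV ≫ f) (ιW ≫ f) r s hVe hWe
  -- the diagonal and the product
  set Δ := pullback.diagonal f with hΔdef
  set j := pullback.map (ιV ≫ f) (ιW ≫ f) f f ιV ιW (𝟙 _) (Category.comp_id _)
    (Category.comp_id _) with hjdef
  haveI : IsClosedImmersion j :=
    MorphismProperty.pullback_map (P := @IsClosedImmersion) hιV hιW rfl rfl
  have hΔπ : Δ ≫ pullback.fst f f = 𝟙 X := pullback.diagonal_fst f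
  have hΔπ' : Δ ≫ pullback.snd f f = 𝟙 X := pullback.diagonal_snd f
  haveI : IsImmersion Δ := Groth.Agent.Lib.R2H3.KzSection.isImmersion_section (pullback.fst f f) Δ hΔπ
  haveI : LocallyOfFiniteType Δ := by
    have : LocallyOfFiniteType (Δ ≫ pullback.fst f f) := by
      rw [hΔπ]; infer_instance
    exact locallyOfFiniteType_of_comp Δ (pullback.fst f f)
  have hreg := Groth.Agent.Lib.R2H3.KzSection.isRegularImmersion_section_regular
    (pullback.fst f f) Δ hΔπ
  -- the intersection as a fibre product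
  have hrange : Set.range (pullback.fst Δ j) = V ∩ W := by
    rw [Scheme.Pullback.range_fst, hjdef, Scheme.Pullback.range_map, hrV, hrW]
    ext x
    simp only [Set.mem_preimage, Set.mem_inter_iff]
    rw [← Scheme.Hom.comp_apply, ← Scheme.Hom.comp_apply, hΔπ, hΔπ']
    rfl
  let h : ↥(pullback Δ j) ≃ₜ ↥(V ∩ W) :=
    ((pullback.fst Δ j).isEmbedding.toHomeomorph).trans (Homeomorph.setCongr hrange)
  obtain ⟨hT', hT'dim⟩ := image_mem_irreducibleComponents h.symm Z hZ
  obtain ⟨ξ, hξT, hξmax⟩ := exists_generic_of_mem_irreducibleComponents _ hT'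
  obtain ⟨U, hyU, hcl, rs, hrs, hker⟩ := hreg.2 (pullback.fst Δ j ξ)
  haveI : IrreducibleSpace X := inferInstance
  have hlen := length_diagonal k X f n hn (pullback.fst Δ j ξ) U hyU hcl rs hrs.1 hker
  haveI : LocallyOfFiniteType (pullback.fst f f ≫ f) := inferInstance
  have hmain := main' k (pullback f f) (pullback (ιV ≫ f) (ιW ≫ f)) X (pullback.fst f f ≫ f) Δ j
    (r + s) hQ ξ hξmax U hyU hcl rs hker
  rw [hξT, hT'dim, hlen] at hmain
  exact hmain

end Groth.Agent.Lib.R2LeadIntDimC
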