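import Mathlib
import Groth.Prelude
import Groth.Agent.Lib.R2H7CIBase
import Groth.Agent.Lib.R2LeadDimCompB
import Groth.Agent.Lib.R2LeadIntDimB
import Groth.Agent.Lib.R2LeadDiagRegB
import Groth.Agent.Lib.R2LeadIntDimC
import Groth.Agent.Lib.Helper4IsolFib
import Groth.Agent.Lib.R2H3ZeroConn
import Groth.Agent.Lib.Helper27TwistAmple2
import Groth.Agent.S9705
import Groth.Agent.S10829
set_option backward.isDefEq.respectTransparency.types false

/-!
# Complete intersections in `P^n_k`: dimension of a hypersurface section (helper7, round 2)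

* `genLocus_sG`, `support_hypI` : the support of `V_+(g)` is the complement of `D_+(g)`.
* `topologicalKrullDim_le_zero_of_isFinite_field` : a scheme finite over a field has dimension `≤ 0`.
* `dim_le_zero_of_disjoint` : a closed subscheme of `P^n_k` missing a hypersurface of positive degree
  has dimension `≤ 0`.
* `dim_le_succ` : `dim V(I) ≤ dim (V(I) ∩ V_+(g)) + 1` for `g` of positive degree.
-/

set_option autoImplicit false
set_option linter.style.haveILetI false
set_option linter.unusedSectionVars false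
universe u v

open CategoryTheory CategoryTheory.Limits AlgebraicGeometry TopologicalSpace Opposite

namespace Groth.Agent.Lib.R2H7.CIDim

section Part1

open Groth.Agent.Lib.R2H7.CIBase Groth.Agent.Lib.Helper27GrTildeSect Groth.Agent.Helper13Dehom
open Groth.Agent.Lib.Helper27ClosedProj
open Groth.Agent.Lib.Helper23.SecTw

variable {n : ℕ} {k : Type u} [Field k]

local notation "𝒫" => CohB1.polyGrading n k
local notation "PJ" => Proj (CohB1.polyGrading n k)

theorem genLocus_sG {d : ℕ} (g : LefPen.Form n k d) :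
    CohB1.genLocus (GrTilde.tilde 𝒫 𝒫 (d : ℤ)) (sG g) = Proj.basicOpen 𝒫 g.1 := by
  let Gf : Option (Fin (n + 1)) → MvPolynomial (Fin (n + 1)) k :=
    fun o => o.elim g.1 (fun l => (MvPolynomial.X l) ^ d)
  have hG : ∀ o, Gf o ∈ CohB1.polyGrading n k d := by
    intro o
    cases o with
    | none => exact g.2
    | some l => exact pow_mem_deg (X_mem l) d
  have hcov : ∀ y : Proj 𝒫, ∃ o, Gf o ∉ (show ProjectiveSpectrum 𝒫 from y).asHomogeneousIdeal := by
    intro y
    have hy : y ∈ (⨆ l : Fin (n + 1), (chartAff (r := n) (k := k) l).1) := by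
      rw [iSup_chartAff]; trivial
    obtain ⟨l, hl⟩ := Opens.mem_iSup.mp hy
    refine ⟨some l, ?_⟩
    have h1 : (MvPolynomial.X l : MvPolynomial (Fin (n + 1)) k) ∉
        (show ProjectiveSpectrum 𝒫 from y).asHomogeneousIdeal :=
      (ProjectiveSpectrum.mem_basicOpen 𝒫 _ _).mp hl
    intro h
    exact h1 ((show ProjectiveSpectrum 𝒫 from y).isPrime.mem_of_pow_mem d h)
  exact genLocus_secHom_gsec 𝒫 d Gf hG hcov none

theorem support_hypI {d : ℕ} (g : LefPen.Form n k d) :
    ((hypI g).support : Set PJ) = ((Proj.basicOpen 𝒫 g.1 : (PJ).Opens) : Set PJ)ᶜ := by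
  rw [hypI_eq_JG]
  unfold JG
  rw [Groth.Agent.Lib.R2H3.ZeroConn.support_zeroScheme _ (isInv (d : ℤ)), genLocus_sG]

end Part1

section Part2

variable {k : Type u} [Field k]

theorem topologicalKrullDim_le_zero_of_isFinite_field {W : Scheme.{u}}
    (f : W ⟶ Spec (CommRingCat.of k)) [IsFinite f] : topologicalKrullDim W ≤ 0 := by
  haveI : IsAffine W := isAffine_of_isAffineHom f
  have h1 : topologicalKrullDim W = ringKrullDim Γ(W, ⊤) := by
    rw [← PrimeSpectrum.topologicalKrullDim_eq_ringKrullDim Γ(W, ⊤)]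
    exact IsHomeomorph.topologicalKrullDim_eq _ (Scheme.homeoOfIso W.isoSpec).isHomeomorph
  rw [h1]
  have hfin : (f.appTop).hom.Finite := f.finite_appTop
  let φ : k →+* Γ(W, ⊤) :=
    (f.appTop).hom.comp (Scheme.ΓSpecIso (CommRingCat.of k)).inv.hom
  have hφ : φ.Finite := by
    refine hfin.comp ?_
    apply RingHom.Finite.of_surjective
    exact (ConcreteCategory.bijective_of_isIso (Scheme.ΓSpecIso (CommRingCat.of k)).inv).2
  letI : Algebra k Γ(W, ⊤) := φ.toAlgebra
  haveI : Module.Finite k Γ(W, ⊤) := hφ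
  haveI : IsArtinianRing Γ(W, ⊤) := IsArtinianRing.of_finite k _
  exact Ring.krullDimLE_iff.mp inferInstance

end Part2

section Part3

open Groth.Agent.Lib.R2H7.CIBase

variable {n : ℕ} {k : Type u} [Field k]

local notation "𝒫" => CohB1.polyGrading n k
local notation "PJ" => Proj (CohB1.polyGrading n k)

theorem dim_le_zero_of_disjoint {W : Scheme.{u}} (ιW : W ⟶ PJ) [IsClosedImmersion ιW] {d : ℕ}
    (hd : 0 < d) (g : LefPen.Form n k d)
    (hdisj : ∀ w : W, ιW w ∉ ((hypI g).support : Set PJ)) : topologicalKrullDim W ≤ 0 := by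
  have hD : IsAffineOpen (Proj.basicOpen 𝒫 g.1) := Proj.isAffineOpen_basicOpen 𝒫 g.1 g.2 hd
  have htop : ιW ⁻¹ᵁ (Proj.basicOpen 𝒫 g.1) = ⊤ := by
    rw [eq_top_iff]
    intro w _
    have h1 := hdisj w
    rw [support_hypI] at h1
    by_contra hc
    exact h1 hc
  have haff : IsAffineOpen (ιW ⁻¹ᵁ Proj.basicOpen 𝒫 g.1) := hD.preimage ιW
  rw [htop] at haff
  haveI : IsAffine (⊤ : W.Opens).toScheme := haff
  haveI : IsAffine W := IsAffine.of_isIso (Scheme.topIso W).inv
  let gY : PJ ⟶ Spec (CommRingCat.of k) := CohB1.ProjSpace.toSpec n k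
  haveI : IsProper gY := Groth.Agent.S9705.isProper_projSpace_toSpec n k
  haveI : IsProper (ιW ≫ gY) := inferInstance
  haveI : IsAffineHom (ιW ≫ gY) := inferInstance
  haveI : IsFinite (ιW ≫ gY) :=
    IsFinite.iff_isProper_and_isAffineHom.mpr ⟨inferInstance, inferInstance⟩
  exact topologicalKrullDim_le_zero_of_isFinite_field (ιW ≫ gY)

theorem exists_nat_of_le (x : WithBot ℕ∞) (n : ℕ) (h0 : ¬ x ≤ 0) (hn : x ≤ (n : WithBot ℕ∞)) :
    ∃ m : ℕ, x = (m : WithBot ℕ∞) := by
  have hx : x ≠ ⊥ := by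
    intro h
    exact h0 (h ▸ bot_le)
  obtain ⟨e, rfl⟩ := WithBot.ne_bot_iff_exists.mp hx
  have he : e ≠ ⊤ := by
    intro h
    rw [h] at hn
    have h1 : (⊤ : ℕ∞) ≤ (n : ℕ∞) := WithBot.coe_le_coe.mp hn
    exact absurd h1 (not_le.mpr (ENat.natCast_lt_top n))
  obtain ⟨m, rfl⟩ := ENat.ne_top_iff_exists.mp he
  exact ⟨m, rfl⟩

/-- `dim V(I) ≤ dim (V(I) ∩ V_+(g)) + 1` -/
theorem dim_le_succ (I : (PJ).IdealSheafData) {d : ℕ} (hd : 0 < d) (g : LefPen.Form n k d) (N : ℕ)
    (h : topologicalKrullDim ↥(I ⊔ hypI g).subscheme ≤ (N : WithBot ℕ∞)) :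
    topologicalKrullDim ↥I.subscheme ≤ ((N + 1 : ℕ) : WithBot ℕ∞) := by
  apply Groth.Agent.Lib.Helper4.IsolFib.topologicalKrullDim_le_of_forall_irreducibleComponents
  intro C hC
  have hCc : IsClosed C := isClosed_of_mem_irreducibleComponents C hC
  have hCi : IsIrreducible C := hC.1
  obtain ⟨Cs, ιC, hcl, hrange, hirr, hdimC⟩ :=
    Groth.Agent.Lib.R2LeadIntDimC.exists_subscheme C hCc hCi _ rfl
  rw [← hdimC]
  haveI := hcl
  haveI := hirr
  let ι' : Cs ⟶ PJ := ιC ≫ I.subschemeι
  haveI : IsClosedImmersion ι' :=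
    inferInstanceAs (IsClosedImmersion (ιC ≫ I.subschemeι))
  by_cases h0 : topologicalKrullDim Cs ≤ 0
  · exact h0.trans (by exact_mod_cast Nat.zero_le _)
  have hex : ∃ w : Cs, ι' w ∈ ((hypI g).support : Set PJ) := by
    by_contra hne
    push Not at hne
    exact h0 (dim_le_zero_of_disjoint ι' hd g hne)
  obtain ⟨w, hw⟩ := hex
  have hn : topologicalKrullDim Cs ≤ (n : WithBot ℕ∞) := by
    rw [← Groth.Agent.S10829.result k n]
    exact ι'.isClosedEmbedding.isInducing.topologicalKrullDim_le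
  obtain ⟨m, hm⟩ := exists_nat_of_le _ n h0 hn
  rw [hm]
  let f : (hypI g).subscheme ⟶ PJ := (hypI g).subschemeι
  haveI : IsClosedImmersion f := inferInstanceAs (IsClosedImmersion (hypI g).subschemeι)
  have hw' : ι' w ∈ Set.range f := by
    show ι' w ∈ Set.range (hypI g).subschemeι
    rw [Scheme.IdealSheafData.range_subschemeι]
    exact hw
  obtain ⟨z, hz⟩ := hw'
  obtain ⟨y, hy1, hy2⟩ := Scheme.Pullback.exists_preimage_pullback z w hz
  obtain ⟨ξ, hξcl, hξmax⟩ :=
    Groth.Agent.Lib.R2LeadDimCompB.exists_generic_of_mem_irreducibleComponents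
      (irreducibleComponent y) (irreducibleComponent_mem_irreducibleComponents y)
  have hx : f ((pullback.fst f ι') ξ) ∈ (⨆ l : Fin (n + 1), (chartAff (r := n) (k := k) l).1) := by
    rw [iSup_chartAff]; trivial
  obtain ⟨l, hl⟩ := Opens.mem_iSup.mp hx
  have hker : RingHom.ker (f.app (chartAff (r := n) (k := k) l).1).hom =
      Ideal.ofList [deh g l] := by
    show RingHom.ker ((hypI g).subschemeι.app (chartAff (r := n) (k := k) l).1).hom = _
    rw [Scheme.IdealSheafData.ker_subschemeι_app, hypI_ideal_chart, Ideal.ofList_singleton]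
  let gY : PJ ⟶ Spec (CommRingCat.of k) := CohB1.ProjSpace.toSpec n k
  haveI : IsProper gY := Groth.Agent.S9705.isProper_projSpace_toSpec n k
  haveI : IsClosedImmersion (f ∣_ (chartAff (r := n) (k := k) l).1) := inferInstance
  have hmain := Groth.Agent.Lib.R2LeadIntDimB.main' k PJ Cs (hypI g).subscheme
    gY f ι' m
    (Groth.Agent.Lib.R2LeadDiagRegB.equidim_of_irreducible _ hm) ξ hξmax (chartAff l) hl
    inferInstance [deh g l] hker
  have h1 : topologicalKrullDim ↥(closure ({ξ} : Set ↥(pullback f ι'))) ≤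
      topologicalKrullDim ↥(pullback f ι') := topologicalKrullDim_subspace_le _ _
  have h2 : topologicalKrullDim ↥(pullback f ι') ≤ (N : WithBot ℕ∞) := by
    let q : pullback f ι' ⟶ PJ := pullback.fst f ι' ≫ f
    have hq : q = pullback.snd f ι' ≫ ιC ≫ I.subschemeι := pullback.condition
    have hle : (I ⊔ hypI g).subschemeι.ker ≤ q.ker := by
      rw [Scheme.IdealSheafData.ker_subschemeι]
      apply sup_le
      · have h3 := Scheme.Hom.le_ker_comp (pullback.snd f ι' ≫ ιC) I.subschemeι
        rw [Scheme.IdealSheafData.ker_subschemeι] at h3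
        rw [hq, ← Category.assoc]
        exact h3
      · have h3 := Scheme.Hom.le_ker_comp (pullback.fst f ι') (hypI g).subschemeι
        rw [Scheme.IdealSheafData.ker_subschemeι] at h3
        exact h3
    let θ := IsClosedImmersion.lift (I ⊔ hypI g).subschemeι q hle
    have hθ : θ ≫ (I ⊔ hypI g).subschemeι = q := IsClosedImmersion.lift_fac _ _ _
    haveI : IsClosedImmersion q := inferInstance
    have hind : Topology.IsInducing θ := by
      have h4 : Topology.IsInducing ((I ⊔ hypI g).subschemeι ∘ θ) := by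
        have h5 := q.isClosedEmbedding.isInducing
        rw [← hθ] at h5
        exact h5
      exact Topology.IsInducing.of_comp θ.continuous (I ⊔ hypI g).subschemeι.continuous h4
    exact hind.topologicalKrullDim_le.trans h
  calc (m : WithBot ℕ∞)
      ≤ topologicalKrullDim ↥(closure ({ξ} : Set ↥(pullback f ι'))) + ((1 : ℕ) : WithBot ℕ∞) := hmain
    _ ≤ (N : WithBot ℕ∞) + ((1 : ℕ) : WithBot ℕ∞) := add_le_add (h1.trans h2) le_rfl
    _ = ((N + 1 : ℕ) : WithBot ℕ∞) := by push_cast; rfl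

end Part3

end Groth.Agent.Lib.R2H7.CIDim
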