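import Mathlib
import Groth.Prelude
import Groth.Agent.Lib.R2H7CIBase
import Groth.Agent.Lib.R2H2PullLF
import Groth.Agent.Lib.R2LeadTensorExact
import Groth.Agent.Lib.Helper23Serre
import Groth.Agent.Lib.Helper27TmLeft
import Groth.Agent.Lib.R2H1CurveAmple
import Groth.Agent.Lib.R2H1DegCartier
import Groth.Agent.Lib.R2H3CMVanish
import Groth.Agent.Lib.H9RegImmFlatBC
import Groth.Agent.Lib.R2LeadCohFormalC
import Groth.Agent.Lib.H6xPointCount
import Groth.Agent.Lib.R2H7CIAlg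
set_option backward.isDefEq.respectTransparency.types false

/-!
# Complete intersections in `P^n_k`: the ideal of one more hypersurface (helper7, round 2)

* `nonempty_iso_tensor_idealMod_of_mono` : a monomorphic section `s` of an invertible `L` which is
  locally `a • t` with `I = (a)` gives `O ≅ L ⊗ I` (no integrality assumption).
* `ciIdeal_ideal_chart` : the ideal of `ciIdeal G` on the chart `D_+(T_l)` is generated by the
  dehomogenized forms.
* `eq_zero_of_mul_eq_zero_chart` : if `dim V(G_1..G_{r+1}) ≤ n - (r+1)` then `G_{r+1}/T_l^d` is a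
  nonzerodivisor on `Γ(V(G_1..G_r) ∩ D_+(T_l), O)`.
* `main` = S14342 : the ideal of `V(G_{r+1})` in `V(G_1..G_r)` is `O(-d)`.
-/

set_option autoImplicit false
set_option linter.style.haveILetI false
set_option linter.unusedSectionVars false
universe u v

open CategoryTheory CategoryTheory.Limits AlgebraicGeometry TopologicalSpace Opposite

namespace Groth.Agent.Lib.R2H7.CIIdeal

section Part1

open Groth.Agent.Lib.Helper23.SecTw Groth.Agent.Lib.Helper23.GenLocus
open Groth.Agent.Lib.R2H1.DegCartier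
open Groth.Agent.Lib.Helper23.Extend Groth.Agent.Lib.Helper23.IdealSec Groth.Agent.Lib.Helper6

variable {X : Scheme.{u}}

/-- if a monomorphic section `s` of an invertible module `L` is locally `a • t`
with `t` a generator of `L` and `a` a generator of the ideal `I`, then `L ⊗ I ≅ O_X` -/
theorem nonempty_iso_tensor_idealMod_of_mono (L : X.Modules) (hL : PicF.IsInvertible L)
    (s : Coh.structureModule X ⟶ L) [Mono s] (I : X.IdealSheafData)
    (hloc : ∀ x : X, ∃ (U : X.affineOpens) (t : Γ(L, U.1)) (a : Γ(X, U.1)), x ∈ U.1 ∧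
      IsGen L U.1 t ∧ sv s U.1 = a • t ∧ I.ideal U = Ideal.span {a}) :
    Nonempty (Coh.structureModule X ≅ CohB1.tensorMod L (ClSub.idealMod I)) := by
  have hL1 : FlatMod.IsFinLocFreeOfRank 1 L :=
    Groth.Agent.Lib.Helper23.SecTw.isFinLocFreeOfRank_one_of_isInvertible L hL
  have hLf : FlatMod.IsFinLocFree L := fun y => by
    obtain ⟨V, hy, e⟩ := hL1 y
    exact ⟨V, 1, hy, e⟩
  have hfl := Groth.Agent.Lib.R2H2.PullLF.isFlat_of_isFinLocFree L hLf
  have hS : ((idealSeq I).map (DCoh.tensorBi.obj L)).ShortExact :=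
    Groth.Agent.Lib.R2Lead.TensorExact.shortExact_map_tensorBi L (fun y => hfl y)
      (idealSeq I) (idealSeq_shortExact I)
  haveI := hS.mono_f
  obtain ⟨σ', hσ'⟩ := Groth.Agent.Lib.R2H1.LiftZero.exists_lift I L hS s (fun x _ => by
    obtain ⟨U, t, a, hxU, -, hsa, hI⟩ := hloc x
    exact ⟨U, t, a, hxU, hsa, by rw [hI]; exact Ideal.subset_span rfl⟩)
  haveI : Mono (σ' ≫ ((idealSeq I).map (DCoh.tensorBi.obj L)).f) := by
    rw [hσ']; exact mono_comp s _
  haveI : Mono σ' := mono_of_mono σ' ((idealSeq I).map (DCoh.tensorBi.obj L)).f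
  haveI : Epi σ' := by
    apply Groth.Agent.Lib.Helper23.Serre.epi_of_locally_surjective
    intro V z x hxV
    obtain ⟨U, t, a, hxU, hgen, hsa, hI⟩ := hloc x
    obtain ⟨W, hW, hxW, hWle⟩ : ∃ W : X.Opens, IsAffineOpen W ∧ x ∈ W ∧ W ≤ U.1 ⊓ V := by
      obtain ⟨W, hW, hxW, hle⟩ := Opens.isBasis_iff_nbhd.1 X.isBasis_affineOpens
        (show x ∈ U.1 ⊓ V from ⟨hxU, hxV⟩)
      exact ⟨W, hW, hxW, hle⟩
    have hWU : W ≤ U.1 := hWle.trans inf_le_left
    have hWV : W ≤ V := hWle.trans inf_le_right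
    refine ⟨W, hWV, hxW, ?_⟩
    have hgenW : IsGen L W (res L hWU t) := hgen.mono hWU
    have hIW : I.ideal ⟨W, hW⟩ = Ideal.span {X.presheaf.map (homOfLE hWU).op a} :=
      Groth.Agent.Lib.R2H1.ZeroSchemeMul.ideal_res_span I (U := ⟨W, hW⟩) (V := U) hWU a hI
    have hb1 := Groth.Agent.Lib.Helper27TmLeft.bijective_tm_of_isGen_left L (ClSub.idealMod I) W _
      hgenW W le_rfl
    have hb2 := Groth.Agent.Lib.Helper27TmLeft.bijective_tm_of_isGen_left L
      (Coh.structureModule X) W _ hgenW W le_rfl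
    simp only [res_self] at hb1 hb2
    obtain ⟨j, hj⟩ := hb1.2 (res _ hWV z)
    obtain ⟨j₀, hj₀⟩ := hb1.2 (sv σ' W)
    simp only [] at hj hj₀
    have h1 : ((DCoh.tensorBi.obj L).map (ClSub.idealModι I)).app W (sv σ' W) =
        (SecTwist.unitorR L).inv.app W (sv s W) := by
      have := congrArg (fun φ => sv φ W) hσ'
      exact this
    rw [← hj₀, Groth.Agent.Lib.R2H1.CurveAmple.tensorBi_map_tm,
      Groth.Agent.Lib.R2H1.CurveAmple.unitorR_inv_app, ← res_sv s hWU, hsa, res_smul,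
      tm_smul_left, ← tm_smul_right] at h1
    have h2 := hb2.1 h1
    simp only [] at h2
    have hmem := Groth.Agent.Lib.R2H7.CIBase.ι_mem_ideal (I := I) ⟨W, hW⟩ j
    rw [hIW, Ideal.mem_span_singleton'] at hmem
    obtain ⟨c, hc⟩ := hmem
    have h3 : (ClSub.idealModι I).app W (c • j₀) = (ClSub.idealModι I).app W j := by
      rw [Scheme.Modules.Hom.app_smul, h2, ← mul_smul, smul_toS, _root_.mul_one]
      have : toS W (c * resf hWU a) = toS W (ofS W ((ClSub.idealModι I).app W j)) := by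
        rw [← hc]
      rw [this]
      rfl
    have h4 : c • j₀ = j := Groth.Agent.Lib.Helper20.IdealModSec.ι_injective (I := I) W h3
    refine ⟨toS W c, ?_⟩
    rw [app_toS]
    have h5 : c • sv σ' W = res (CohB1.tensorMod L (ClSub.idealMod I)) hWV z := by
      rw [← hj, ← h4, tm_smul_right, hj₀]
      rfl
    exact h5
  haveI : IsIso σ' := isIso_of_mono_of_epi σ'
  have e := asIso σ'
  exact ⟨e⟩

end Part1

section Part2

open Groth.Agent.Lib.R2H7.CIBase

variable {n : ℕ} {k : Type u} [Field k]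

local notation "𝒫" => CohB1.polyGrading n k
local notation "PJ" => Proj (CohB1.polyGrading n k)

theorem ofList_ofFn {A : Type*} [CommRing A] {c : ℕ} (v : Fin c → A) :
    Ideal.ofList (List.ofFn v) = Ideal.span (Set.range v) := by
  unfold Ideal.ofList
  congr 1
  ext x
  simp [List.mem_ofFn]

/-- the complete intersection ideal, with the `Proj` type -/
noncomputable def ciI {c : ℕ} {a : Fin c → ℕ} (G : ∀ j, LefPen.Form n k (a j)) :
    (PJ).IdealSheafData := LefPen.ciIdeal G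

theorem ciI_ideal_chart {c : ℕ} {a : Fin c → ℕ} (G : ∀ j, LefPen.Form n k (a j))
    (l : Fin (n + 1)) :
    (ciI G).ideal (chartAff l) = Ideal.ofList (List.ofFn fun j => deh (G j) l) := by
  rw [ofList_ofFn]
  have h1 : (ciI G) = ⨆ j, hypI (G j) := rfl
  rw [h1, Scheme.IdealSheafData.ideal_iSup, iSup_apply]
  have h2 : ∀ j, (hypI (G j)).ideal (chartAff l) = Ideal.span {deh (G j) l} :=
    fun j => hypI_ideal_chart (G j) l
  simp_rw [h2]
  exact (Submodule.span_range_eq_iSup (R := Γ(PJ, chartO (r := n) (k := k) l))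
    (v := fun j => deh (G j) l)).symm

theorem ciI_ideal_chart_succ {r : ℕ} {a : Fin (r + 1) → ℕ} (G : ∀ j, LefPen.Form n k (a j))
    (l : Fin (n + 1)) :
    (ciI G).ideal (chartAff l) =
      Ideal.ofList ((List.ofFn fun j : Fin r => deh (G j.castSucc) l) ++
        [deh (G (Fin.last r)) l]) := by
  rw [ciI_ideal_chart, List.ofFn_succ', List.concat_eq_append]

theorem isAffineOpen_preimage_chart (I : (PJ).IdealSheafData) (l : Fin (n + 1)) :
    IsAffineOpen (I.subschemeι ⁻¹ᵁ chartO (r := n) (k := k) l) :=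
  (chartAff (r := n) (k := k) l).2.preimage I.subschemeι

theorem withBot_arith (x : WithBot ℕ∞) (n c : ℕ) (hcn : c ≤ n)
    (h : x ≤ ((n - c : ℕ) : WithBot ℕ∞)) : x + ((c : ℕ) : WithBot ℕ∞) ≤ (n : WithBot ℕ∞) := by
  calc x + ((c : ℕ) : WithBot ℕ∞) ≤ ((n - c : ℕ) : WithBot ℕ∞) + ((c : ℕ) : WithBot ℕ∞) :=
        add_le_add h le_rfl
    _ = (((n - c) + c : ℕ) : WithBot ℕ∞) := by push_cast; rfl
    _ = (n : WithBot ℕ∞) := by rw [Nat.sub_add_cancel hcn]

/-- `G_{r+1}/T_l^d` is a nonzerodivisor on the chart ring of `V(G_1..G_r)` -/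
theorem eq_zero_of_mul_eq_zero_chart {r : ℕ} (hr : r + 1 ≤ n) {a : Fin (r + 1) → ℕ}
    (G : ∀ j, LefPen.Form n k (a j))
    (hdim : topologicalKrullDim ↥(ciI G).subscheme ≤ ((n - (r + 1) : ℕ) : WithBot ℕ∞))
    (l : Fin (n + 1))
    (y : Γ((ciI fun j : Fin r => G j.castSucc).subscheme,
      (ciI fun j : Fin r => G j.castSucc).subschemeι ⁻¹ᵁ chartO (r := n) (k := k) l))
    (hy : ((ciI fun j : Fin r => G j.castSucc).subschemeι.app (chartO (r := n) (k := k) l)).hom
      (deh (G (Fin.last r)) l) * y = 0) : y = 0 := by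
  let B := Γ(PJ, chartO (r := n) (k := k) l)
  let e : MvPolynomial (Fin n) k ≃+* B := chartEquiv n k l
  haveI : IsRegularRing B := Groth.Agent.Lib.R2H7.CIAlg.isRegularRing_of_ringEquiv_mvPolynomial k n e
  have hB : ∀ (m : Ideal B) [m.IsMaximal], ringKrullDim (Localization.AtPrime m) = n :=
    fun m _ => Groth.Agent.Lib.R2H7.CIAlg.ringKrullDim_localization_of_ringEquiv_mvPolynomial k n e m
  let L : List B := List.ofFn fun j : Fin r => deh (G j.castSucc) l
  let f : B := deh (G (Fin.last r)) l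
  have hI' : (ciI fun j : Fin r => G j.castSucc).ideal (chartAff l) = Ideal.ofList L :=
    ciI_ideal_chart _ l
  have hI : (ciI G).ideal (chartAff l) = Ideal.ofList (L ++ [f]) := ciI_ideal_chart_succ G l
  have hd1 : ringKrullDim Γ((ciI G).subscheme, (ciI G).subschemeι ⁻¹ᵁ chartO (r := n) (k := k) l) ≤
      ((n - (r + 1) : ℕ) : WithBot ℕ∞) :=
    Groth.Agent.Lib.H6xPointCount.ringKrullDim_le _ (isAffineOpen_preimage_chart (ciI G) l) _ hdim
  have hd2 : ringKrullDim (B ⧸ Ideal.ofList (L ++ [f])) ≤ ((n - (r + 1) : ℕ) : WithBot ℕ∞) := by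
    rw [← ringKrullDim_eq_of_ringEquiv (Ideal.quotEquivOfEq hI),
      ← ringKrullDim_eq_of_ringEquiv
        ((ciI G).subschemeObjIso (chartAff l)).commRingCatIsoToRingEquiv]
    exact hd1
  have hLlen : L.length = r := List.length_ofFn
  have hd3 : ringKrullDim (B ⧸ Ideal.ofList (L ++ [f])) + ((L.length + 1 : ℕ) : WithBot ℕ∞) ≤
      (n : WithBot ℕ∞) := by
    rw [hLlen]
    exact withBot_arith _ n (r + 1) hr hd2
  obtain ⟨c, hc⟩ : ∃ c : B, ((ciI fun j : Fin r => G j.castSucc).subschemeι.app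
      (chartO (r := n) (k := k) l)).hom c = y :=
    (ciI fun j : Fin r => G j.castSucc).subschemeι_app_surjective (chartAff l) y
  have hkerI : RingHom.ker ((ciI fun j : Fin r => G j.castSucc).subschemeι.app
      (chartO (r := n) (k := k) l)).hom = Ideal.ofList L :=
    (Scheme.IdealSheafData.ker_subschemeι_app _ (chartAff l)).trans hI'
  have h1 : f * c ∈ Ideal.ofList L := by
    rw [← hkerI, RingHom.mem_ker, map_mul, hc]
    exact hy
  have h2 := Groth.Agent.Lib.R2H7.CIAlg.mem_of_mul_mem_of_dim_le n hB L f hd3 c h1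
  rw [← hkerI, RingHom.mem_ker, hc] at h2
  exact h2

end Part2

section Part3

open Groth.Agent.Lib.Helper23.SecTw Groth.Agent.Lib.Helper23.GenLocus Groth.Agent.Lib.Helper6
open Groth.Agent.Lib.R2H7.CIBase Groth.Agent.Helper13PullbackUnit
open Groth.Agent.Lib.R2H4TensorPows

variable {n : ℕ} {k : Type u} [Field k]

local notation "𝒫" => CohB1.polyGrading n k
local notation "PJ" => Proj (CohB1.polyGrading n k)

variable {X : Scheme.{u}} (ι : X ⟶ Proj (CohB1.polyGrading n k))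

/-- the pulled back section `ι^*(G/1)` of `ι^*O(d)` -/
noncomputable def sP {d : ℕ} (g : LefPen.Form n k d) :
    Coh.structureModule X ⟶ (Scheme.Modules.pullback ι).obj (GrTilde.tilde 𝒫 𝒫 (d : ℤ)) :=
  inv (Groth.Agent.Lib.R2H3.PnChart.pullbackUnitHom ι) ≫ (Scheme.Modules.pullback ι).map (sG g)

theorem inv_pullbackUnitHom_one (V : (PJ).Opens) :
    (inv (Groth.Agent.Lib.R2H3.PnChart.pullbackUnitHom ι)).app (ι ⁻¹ᵁ V) (toS (ι ⁻¹ᵁ V) 1) =
      unitSec ι (Coh.structureModule PJ) (le_refl (ι ⁻¹ᵁ V)) (toS V 1) := by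
  have h := Groth.Agent.Lib.R2H7.CIBase.pullbackUnitHom_unitSec ι (le_refl (ι ⁻¹ᵁ V))
    (1 : Γ(PJ, V))
  rw [map_one] at h
  rw [← h]
  change (Groth.Agent.Lib.R2H3.PnChart.pullbackUnitHom ι ≫
    inv (Groth.Agent.Lib.R2H3.PnChart.pullbackUnitHom ι)).app (ι ⁻¹ᵁ V) _ = _
  rw [IsIso.hom_inv_id]
  rfl

theorem sv_sP_chart {d : ℕ} (g : LefPen.Form n k d) (l : Fin (n + 1)) :
    sv (sP ι g) (ι ⁻¹ᵁ chartO (r := n) (k := k) l) =
      (ι.app (chartO (r := n) (k := k) l)).hom (deh g l) •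
        unitSec ι (GrTilde.tilde 𝒫 𝒫 (d : ℤ)) (le_refl (ι ⁻¹ᵁ chartO (r := n) (k := k) l))
          (gen d l) := by
  have h1 : sv (sP ι g) (ι ⁻¹ᵁ chartO (r := n) (k := k) l) =
      ((Scheme.Modules.pullback ι).map (sG g)).app (ι ⁻¹ᵁ chartO (r := n) (k := k) l)
        ((inv (Groth.Agent.Lib.R2H3.PnChart.pullbackUnitHom ι)).app
          (ι ⁻¹ᵁ chartO (r := n) (k := k) l) (toS _ 1)) := rfl
  rw [h1, inv_pullbackUnitHom_one, Groth.Agent.Lib.Helper23.PB.map_unitSec]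
  have h2 : (sG g).app (chartO (r := n) (k := k) l) (toS _ 1) = deh g l • gen d l :=
    sv_sG_chart g l
  rw [h2, unitSec_smul, Scheme.Hom.appLE_eq_app]

theorem comap_ideal_chart {d : ℕ} (g : LefPen.Form n k d) (l : Fin (n + 1))
    (hV : IsAffineOpen (ι ⁻¹ᵁ chartO (r := n) (k := k) l)) :
    ((hypI g).comap ι).ideal ⟨ι ⁻¹ᵁ chartO (r := n) (k := k) l, hV⟩ =
      Ideal.span {(ι.app (chartO (r := n) (k := k) l)).hom (deh g l)} := by
  have hsq : IsPullback ((hypI g).comap ι).subschemeι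
      (((hypI g).comapIso ι).hom ≫ pullback.snd ι (hypI g).subschemeι) ι (hypI g).subschemeι :=
    IsPullback.of_iso_pullback ⟨by
      rw [Category.assoc, ← pullback.condition, ← Category.assoc,
        Scheme.IdealSheafData.comapIso_hom_fst]⟩ ((hypI g).comapIso ι)
      (Scheme.IdealSheafData.comapIso_hom_fst _ _) rfl
  obtain ⟨-, hk⟩ := Groth.Agent.Lib.H9RegImmFlatBC.isClosedImmersion_and_ker
    (hypI g).subschemeι ι ((hypI g).comap ι).subschemeι _ hsq.flip
    (chartO (r := n) (k := k) l) (chartAff (r := n) (k := k) l).2 inferInstance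
    (ι ⁻¹ᵁ chartO (r := n) (k := k) l) hV le_rfl
  have h1 := Scheme.IdealSheafData.ker_subschemeι_app ((hypI g).comap ι)
    ⟨ι ⁻¹ᵁ chartO (r := n) (k := k) l, hV⟩
  have h2 := Scheme.IdealSheafData.ker_subschemeι_app (hypI g) (chartAff (r := n) (k := k) l)
  rw [← h1]
  refine hk.trans ?_
  have h3 : RingHom.ker ((hypI g).subschemeι.app (chartO (r := n) (k := k) l)).hom =
      Ideal.span {deh g l} := h2.trans (hypI_ideal_chart g l)
  rw [h3, Ideal.map_span, Set.image_singleton, Scheme.Hom.appLE_eq_app]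

end Part3

section Part4

open Groth.Agent.Lib.Helper23.SecTw Groth.Agent.Lib.Helper23.GenLocus Groth.Agent.Lib.Helper6
open Groth.Agent.Lib.R2H7.CIBase Groth.Agent.Helper13PullbackUnit
open Groth.Agent.Lib.R2H4TensorPows

variable {n : ℕ} {k : Type u} [Field k]

local notation "𝒫" => CohB1.polyGrading n k
local notation "PJ" => Proj (CohB1.polyGrading n k)

theorem exists_mem_preimage_chart {X : Scheme.{u}} (ι : X ⟶ PJ) (x : X) :
    ∃ l : Fin (n + 1), x ∈ ι ⁻¹ᵁ chartO (r := n) (k := k) l := by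
  have hx : ι x ∈ (⨆ i : Fin (n + 1), (chartAff (r := n) (k := k) i).1) := by
    rw [iSup_chartAff]; trivial
  obtain ⟨i, hi⟩ := Opens.mem_iSup.mp hx
  exact ⟨i, hi⟩

theorem isOpenCover_preimage_chart {X : Scheme.{u}} (ι : X ⟶ PJ) :
    IsOpenCover (fun l : Fin (n + 1) => ι ⁻¹ᵁ chartO (r := n) (k := k) l) := by
  rw [IsOpenCover, eq_top_iff]
  intro x _
  obtain ⟨i, hi⟩ := exists_mem_preimage_chart ι x
  exact Opens.mem_iSup.2 ⟨i, hi⟩

theorem toS_zero {X : Scheme.{u}} (W : X.Opens) : toS W (0 : Γ(X, W)) = 0 := by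
  rw [← mul_zero (0 : Γ(X, W)), ← smul_toS, zero_smul]

/-- if `g/T_l^d` is a nonzerodivisor on every chart of `X`, the ideal of `ι⁻¹ V(g)` is `ι^*O(-d)` -/
theorem nonempty_idealMod_comap_iso {X : Scheme.{u}} (ι : X ⟶ PJ) [IsAffineHom ι] {d : ℕ}
    (g : LefPen.Form n k d)
    (hnzd : ∀ (l : Fin (n + 1)) (y : Γ(X, ι ⁻¹ᵁ chartO (r := n) (k := k) l)),
      (ι.app (chartO (r := n) (k := k) l)).hom (deh g l) * y = 0 → y = 0) :
    Nonempty (ClSub.idealMod ((hypI g).comap ι) ≅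
      (Scheme.Modules.pullback ι).obj (GrTilde.tilde 𝒫 𝒫 (-(d : ℤ)))) := by
  have hVa : ∀ l, IsAffineOpen (ι ⁻¹ᵁ chartO (r := n) (k := k) l) :=
    fun l => (chartAff (r := n) (k := k) l).2.preimage ι
  have hcov := isOpenCover_preimage_chart (n := n) (k := k) ι
  have hL : PicF.IsInvertible ((Scheme.Modules.pullback ι).obj (GrTilde.tilde 𝒫 𝒫 (d : ℤ))) :=
    Groth.Agent.Lib.Helper23.PB.isInvertible_pullback ι _ (isInv (d : ℤ))
  haveI hLq : ((Scheme.Modules.pullback ι).obj (GrTilde.tilde 𝒫 𝒫 (d : ℤ))).IsQuasicoherent :=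
    isQuasicoherent_of_isInvertible _ hL
  haveI : (GrTilde.tilde 𝒫 𝒫 (d : ℤ)).IsQuasicoherent :=
    isQuasicoherent_of_isInvertible _ (isInv (d : ℤ))
  have hgen : ∀ l, IsGen ((Scheme.Modules.pullback ι).obj (GrTilde.tilde 𝒫 𝒫 (d : ℤ)))
      (ι ⁻¹ᵁ chartO (r := n) (k := k) l)
      (unitSec ι (GrTilde.tilde 𝒫 𝒫 (d : ℤ)) (le_refl (ι ⁻¹ᵁ chartO (r := n) (k := k) l))
        (gen d l)) :=
    fun l => Groth.Agent.Lib.Helper23.PB.isGen_unitSec ι (GrTilde.tilde 𝒫 𝒫 (d : ℤ))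
      (chartAff (r := n) (k := k) l).2 (gen d l) (isGen_gen d l)
  haveI : Mono (sP ι g) := by
    refine Groth.Agent.Lib.R2Lead.CohFormalC.mono_of_injective_app_cover (sP ι g)
      (fun l : Fin (n + 1) => ι ⁻¹ᵁ chartO (r := n) (k := k) l) hcov hVa (fun l => ?_)
    refine (injective_iff_map_eq_zero
      ((sP ι g).app (ι ⁻¹ᵁ chartO (r := n) (k := k) l)).hom).2 ?_
    intro z hz
    have h1 : (sP ι g).app (ι ⁻¹ᵁ chartO (r := n) (k := k) l)
        (toS (ι ⁻¹ᵁ chartO (r := n) (k := k) l) (ofS (ι ⁻¹ᵁ chartO (r := n) (k := k) l) z)) =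
        0 := hz
    rw [app_toS, sv_sP_chart, ← mul_smul] at h1
    have hinj := (hgen l (ι ⁻¹ᵁ chartO (r := n) (k := k) l) le_rfl).1
    simp only [res_self] at hinj
    have h2 : ofS (ι ⁻¹ᵁ chartO (r := n) (k := k) l) z *
        (ι.app (chartO (r := n) (k := k) l)).hom (deh g l) = 0 := by
      apply hinj
      beta_reduce
      rw [h1, zero_smul]
    have h3 : ofS (ι ⁻¹ᵁ chartO (r := n) (k := k) l) z = 0 :=
      hnzd l _ (by rw [mul_comm]; exact h2)
    have h4 : z = toS (ι ⁻¹ᵁ chartO (r := n) (k := k) l)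
        (ofS (ι ⁻¹ᵁ chartO (r := n) (k := k) l) z) := rfl
    rw [h4, h3, toS_zero]
  have hloc : ∀ x : X, ∃ (U : X.affineOpens)
      (t : Γ((Scheme.Modules.pullback ι).obj (GrTilde.tilde 𝒫 𝒫 (d : ℤ)), U.1)) (a : Γ(X, U.1)),
      x ∈ U.1 ∧ IsGen ((Scheme.Modules.pullback ι).obj (GrTilde.tilde 𝒫 𝒫 (d : ℤ))) U.1 t ∧
        sv (sP ι g) U.1 = a • t ∧ ((hypI g).comap ι).ideal U = Ideal.span {a} := by
    intro x
    obtain ⟨l, hl⟩ := exists_mem_preimage_chart ι x
    exact ⟨⟨ι ⁻¹ᵁ chartO (r := n) (k := k) l, hVa l⟩, _, _, hl, hgen l, sv_sP_chart ι g l,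
      comap_ideal_chart ι g l (hVa l)⟩
  obtain ⟨e⟩ := nonempty_iso_tensor_idealMod_of_mono _ hL (sP ι g) ((hypI g).comap ι) hloc
  obtain ⟨e1⟩ := Groth.Agent.Lib.R2H3.CMVanish.nonempty_pullback_twist_tensor_iso k n ι
    (-(d : ℤ)) d
  obtain ⟨z⟩ := Groth.Agent.Lib.R2H3.CMVanish.nonempty_pullback_twist_zero_iso k n ι
  have e2 : CohB1.tensorMod ((Scheme.Modules.pullback ι).obj (GrTilde.tilde 𝒫 𝒫 (-(d : ℤ))))
      ((Scheme.Modules.pullback ι).obj (GrTilde.tilde 𝒫 𝒫 (d : ℤ))) ≅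
      Coh.structureModule X := e1 ≪≫ eqToIso (by rw [neg_add_cancel]) ≪≫ z
  have e3 := Groth.Agent.Lib.R2H1.DegCartier.tensorInvIso
    ((Scheme.Modules.pullback ι).obj (GrTilde.tilde 𝒫 𝒫 (-(d : ℤ))))
    ((Scheme.Modules.pullback ι).obj (GrTilde.tilde 𝒫 𝒫 (d : ℤ)))
    (ClSub.idealMod ((hypI g).comap ι)) e.symm
  exact ⟨(lUnit (ClSub.idealMod ((hypI g).comap ι))).symm ≪≫ tIso e2.symm (Iso.refl _) ≪≫ e3⟩

/-- **S14342, `≤` form** -/
theorem main' {r : ℕ} (hr : r + 1 ≤ n) {a : Fin (r + 1) → ℕ}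
    (G : ∀ j, LefPen.Form n k (a j))
    (hdim : topologicalKrullDim ↥(ciI G).subscheme ≤ ((n - (r + 1) : ℕ) : WithBot ℕ∞)) :
    Nonempty (ClSub.idealMod ((hypI (G (Fin.last r))).comap
        (ciI fun j : Fin r => G j.castSucc).subschemeι) ≅
      (Scheme.Modules.pullback (ciI fun j : Fin r => G j.castSucc).subschemeι).obj
        (GrTilde.tilde 𝒫 𝒫 (-(a (Fin.last r) : ℤ)))) :=
  nonempty_idealMod_comap_iso (ciI fun j : Fin r => G j.castSucc).subschemeι (G (Fin.last r))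
    (fun l y hy => eq_zero_of_mul_eq_zero_chart hr G hdim l y hy)

/-- **S14342** -/
theorem main (k : Type u) [Field k] (n r : ℕ) (hr : r + 1 ≤ n) (a : Fin (r + 1) → ℕ)
    (G : ∀ j : Fin (r + 1), LefPen.Form n k (a j))
    (hdim : topologicalKrullDim ↥(LefPen.ciIdeal G).subscheme ≤
      ((n - (r + 1) : ℕ) : WithBot ℕ∞)) :
    Nonempty (ClSub.idealMod ((LefPen.hypIdeal (G (Fin.last r))).comap
        (LefPen.ciIdeal (fun j : Fin r => G j.castSucc)).subschemeι) ≅
      (Scheme.Modules.pullback (LefPen.ciIdeal (fun j : Fin r => G j.castSucc)).subschemeι).obj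
        (Twist.twistProjSpace n k (-(a (Fin.last r) : ℤ)))) :=
  main' hr G hdim

end Part4

end Groth.Agent.Lib.R2H7.CIIdeal
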