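import Mathlib
import Groth.Prelude
import Groth.Agent.Lib.R2H7CIIdeal
import Groth.Agent.Lib.R2H7CIDim
import Groth.Agent.Lib.R2H7CICohA
import Groth.Agent.Lib.R2H2PnCoh
import Groth.Agent.Lib.Helper4VarDim8
import Groth.Agent.S9705
set_option backward.isDefEq.respectTransparency.types false

/-!
# Cohomology of complete intersections in `P^n_k` (helper7, round 2)

For forms `G_1, …, G_r` of positive degrees with `dim V(G) ≤ n - r`:
* `van_main` : `H^p(X, O_X(i)) = 0` for `0 < p < n - r` (and for `p = 0`, `i < 0`) (S14332);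
* `surj_main` : `Γ(P, O(i)) → Γ(X, O_X(i))` is surjective when `n - r ≥ 1` (S14333);
* `conn_main` : `X` is geometrically connected when `n - r ≥ 1` (S14334).
-/

set_option autoImplicit false
set_option linter.style.haveILetI false
set_option linter.unusedSectionVars false
universe u v

open CategoryTheory CategoryTheory.Limits AlgebraicGeometry TopologicalSpace Opposite

namespace Groth.Agent.Lib.R2H7.CICohB

open Groth.Agent.Lib.R2H7.CIBase Groth.Agent.Lib.R2H7.CIIdeal Groth.Agent.Lib.R2H7.CIDim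
open Groth.Agent.Lib.R2H7.CICohA
open Groth.Agent.Lib.R2H4TensorPows Groth.Agent.Lib.R2H2.PnSerre

variable {n : ℕ} {k : Type u} [Field k]

local notation "𝒫" => CohB1.polyGrading n k
local notation "PJ" => Proj (CohB1.polyGrading n k)

section Ideals

theorem ciI_eq_iSup {c : ℕ} {a : Fin c → ℕ} (G : ∀ j, LefPen.Form n k (a j)) :
    ciI G = ⨆ j, hypI (G j) := rfl

theorem ciI_zero {a : Fin 0 → ℕ} (G : ∀ j, LefPen.Form n k (a j)) : ciI G = ⊥ := by
  rw [ciI_eq_iSup]
  exact iSup_of_empty _

theorem ciI_succ {r : ℕ} {a : Fin (r + 1) → ℕ} (G : ∀ j, LefPen.Form n k (a j)) :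
    ciI G = ciI (fun j : Fin r => G j.castSucc) ⊔ hypI (G (Fin.last r)) := by
  rw [ciI_eq_iSup, ciI_eq_iSup]
  apply le_antisymm
  · refine iSup_le fun j => ?_
    refine Fin.lastCases ?_ (fun i => ?_) j
    · exact le_sup_right
    · exact le_trans (le_iSup (fun i : Fin r => hypI (G i.castSucc)) i) le_sup_left
  · exact sup_le (iSup_le fun i => le_iSup (fun j => hypI (G j)) i.castSucc)
      (le_iSup (fun j => hypI (G j)) (Fin.last r))

theorem ker_comp_eq {r : ℕ} {a : Fin (r + 1) → ℕ} (G : ∀ j, LefPen.Form n k (a j)) :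
    (((hypI (G (Fin.last r))).comap (ciI fun j : Fin r => G j.castSucc).subschemeι).subschemeι ≫
      (ciI fun j : Fin r => G j.castSucc).subschemeι).ker = ciI G := by
  rw [ciI_succ G, Scheme.Hom.ker_comp, Scheme.IdealSheafData.ker_subschemeι]
  refine Scheme.IdealSheafData.ext_of_iSup_eq_top (chartAff (r := n) (k := k)) iSup_chartAff
    (fun l => ?_)
  have hsurj : Function.Surjective
      ((ciI fun j : Fin r => G j.castSucc).subschemeι.app (chartO (r := n) (k := k) l)).hom :=
    (ciI fun j : Fin r => G j.castSucc).subschemeι_app_surjective (chartAff l)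
  have hk : RingHom.ker
      ((ciI fun j : Fin r => G j.castSucc).subschemeι.app (chartO (r := n) (k := k) l)).hom =
      (ciI fun j : Fin r => G j.castSucc).ideal (chartAff l) :=
    Scheme.IdealSheafData.ker_subschemeι_app _ (chartAff l)
  have h1 := Scheme.IdealSheafData.ideal_map_of_isAffineHom
    ((hypI (G (Fin.last r))).comap (ciI fun j : Fin r => G j.castSucc).subschemeι)
    (ciI fun j : Fin r => G j.castSucc).subschemeι (chartAff l)
  have h2 := comap_ideal_chart (ciI fun j : Fin r => G j.castSucc).subschemeι (G (Fin.last r)) l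
    ((chartAff (r := n) (k := k) l).2.preimage (ciI fun j : Fin r => G j.castSucc).subschemeι)
  have h3 : (((hypI (G (Fin.last r))).comap
      (ciI fun j : Fin r => G j.castSucc).subschemeι).map
      (ciI fun j : Fin r => G j.castSucc).subschemeι).ideal (chartAff l) =
      Ideal.comap
        ((ciI fun j : Fin r => G j.castSucc).subschemeι.app (chartO (r := n) (k := k) l)).hom
        (Ideal.span {((ciI fun j : Fin r => G j.castSucc).subschemeι.app
          (chartO (r := n) (k := k) l)).hom (deh (G (Fin.last r)) l)}) := by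
    rw [← h2]
    exact h1
  rw [h3, ← Set.image_singleton, ← Ideal.map_span, Ideal.comap_map_of_surjective _ hsurj,
    ← RingHom.ker_eq_comap_bot, hk, Scheme.IdealSheafData.ideal_sup, Pi.sup_apply,
    hypI_ideal_chart, sup_comm]
  rfl

theorem exists_iso_section {r : ℕ} {a : Fin (r + 1) → ℕ} (G : ∀ j, LefPen.Form n k (a j)) :
    ∃ φ : (ciI G).subscheme ⟶ ((hypI (G (Fin.last r))).comap
        (ciI fun j : Fin r => G j.castSucc).subschemeι).subscheme,
      IsIso φ ∧ φ ≫ ((hypI (G (Fin.last r))).comap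
        (ciI fun j : Fin r => G j.castSucc).subschemeι).subschemeι ≫
          (ciI fun j : Fin r => G j.castSucc).subschemeι = (ciI G).subschemeι := by
  have hk : (((hypI (G (Fin.last r))).comap
      (ciI fun j : Fin r => G j.castSucc).subschemeι).subschemeι ≫
      (ciI fun j : Fin r => G j.castSucc).subschemeι).ker = (ciI G).subschemeι.ker := by
    rw [ker_comp_eq G, Scheme.IdealSheafData.ker_subschemeι]
  exact ⟨IsClosedImmersion.lift _ (ciI G).subschemeι hk.le,
    IsClosedImmersion.isIso_lift _ (ciI G).subschemeι hk, IsClosedImmersion.lift_fac _ _ _⟩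

theorem dim_castSucc {r : ℕ} (hr : r + 1 ≤ n) {a : Fin (r + 1) → ℕ} (ha : ∀ j, 1 ≤ a j)
    (G : ∀ j, LefPen.Form n k (a j))
    (hdim : topologicalKrullDim ↥(ciI G).subscheme ≤ ((n - (r + 1) : ℕ) : WithBot ℕ∞)) :
    topologicalKrullDim ↥(ciI fun j : Fin r => G j.castSucc).subscheme ≤
      ((n - r : ℕ) : WithBot ℕ∞) := by
  have h1 := dim_le_succ (ciI fun j : Fin r => G j.castSucc) (ha (Fin.last r)) (G (Fin.last r))
    (n - (r + 1)) (by rw [← ciI_succ]; exact hdim)
  have h2 : n - (r + 1) + 1 = n - r := by omega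
  rw [h2] at h1
  exact h1

end Ideals

section Main

/-- the vanishing range -/
def Van {X : Scheme.{u}} (ι : X ⟶ CohB1.ProjSpace n k) (m : ℕ) : Prop :=
  ∀ (i : ℤ) (p : ℕ), p < m → (p = 0 → i < 0) →
    Subsingleton (Coh.HH X ((Scheme.Modules.pullback ι).obj (Twist.twistProjSpace n k i)) p)

theorem van_of_isIso {X : Scheme.{u}} (ι : X ⟶ CohB1.ProjSpace n k) [IsIso ι] : Van ι n := by
  intro i p hp h0
  apply sub_of_sub_push k n ι i p
  haveI := isIso_unitToPush ι
  have e : Coh.structureModule (CohB1.ProjSpace n k) ≅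
      (Scheme.Modules.pushforward ι).obj (Coh.structureModule X) := asIso (ClSub.unitToPush ι)
  have h1 : Subsingleton (Coh.HH (CohB1.ProjSpace n k) (Twist.twistProjSpace n k i) p) :=
    Groth.Agent.Lib.R2H2.PnCoh.subsingleton_HH_tilde k n i p
      (fun h => absurd (h0 h.1) (not_lt.mpr h.2)) (fun h => absurd h.1 (Nat.ne_of_lt hp))
  exact subsingleton_HH_of_iso ((lUnit _).symm ≪≫ tIso e (Iso.refl _)) p h1

theorem van_main (r : ℕ) : ∀ (hr : r ≤ n) (a : Fin r → ℕ) (ha : ∀ j, 1 ≤ a j)
    (G : ∀ j, LefPen.Form n k (a j))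
    (hdim : topologicalKrullDim ↥(ciI G).subscheme ≤ ((n - r : ℕ) : WithBot ℕ∞)),
    Van (ciI G).subschemeι (n - r) := by
  induction r with
  | zero =>
    intro hr a ha G hdim
    let ι0 : (ciI G).subscheme ⟶ CohB1.ProjSpace n k := (ciI G).subschemeι
    haveI : IsIso ι0 := (Scheme.isIso_subschemeι_iff_eq_bot _).2 (ciI_zero G)
    exact van_of_isIso ι0
  | succ r IH =>
    intro hr a ha G hdim
    have hdim' := dim_castSucc hr ha G hdim
    have hIH := IH (by omega) (fun j => a j.castSucc) (fun j => ha _) (fun j => G j.castSucc) hdim'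
    obtain ⟨e⟩ := main' hr G hdim
    obtain ⟨φ, hφi, hφ⟩ := exists_iso_section G
    haveI := hφi
    intro i p hp h0
    let ιY : (ciI fun j : Fin r => G j.castSucc).subscheme ⟶ CohB1.ProjSpace n k :=
      (ciI fun j : Fin r => G j.castSucc).subschemeι
    haveI : IsClosedImmersion ιY :=
      inferInstanceAs (IsClosedImmersion (ciI fun j : Fin r => G j.castSucc).subschemeι)
    exact step_vanish k n ιY _ e φ _ hφ i p
      (hIH i p (by omega) h0) (hIH (i + -(a (Fin.last r) : ℤ)) (p + 1) (by omega) (by omega))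

theorem surj_main (r : ℕ) : ∀ (hr : r ≤ n) (a : Fin r → ℕ) (ha : ∀ j, 1 ≤ a j)
    (G : ∀ j, LefPen.Form n k (a j))
    (hdim : topologicalKrullDim ↥(ciI G).subscheme ≤ ((n - r : ℕ) : WithBot ℕ∞))
    (h1 : 1 ≤ n - r) (i : ℤ),
    Function.Surjective (((Scheme.Modules.pullbackPushforwardAdjunction (ciI G).subschemeι).unit.app
      (Twist.twistProjSpace n k i)).app ⊤) := by
  induction r with
  | zero =>
    intro hr a ha G hdim h1 i
    haveI : IsIso (ciI G).subschemeι :=
      (Scheme.isIso_subschemeι_iff_eq_bot _).2 (ciI_zero G)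
    exact surjective_unit_of_isIso (ciI G).subschemeι _
  | succ r IH =>
    intro hr a ha G hdim h1 i
    have hdim' := dim_castSucc hr ha G hdim
    have hIH := IH (by omega) (fun j => a j.castSucc) (fun j => ha _) (fun j => G j.castSucc) hdim'
      (by omega) i
    have hV := van_main r (by omega) (fun j => a j.castSucc) (fun j => ha _)
      (fun j => G j.castSucc) hdim'
    obtain ⟨e⟩ := main' hr G hdim
    obtain ⟨φ, hφi, hφ⟩ := exists_iso_section G
    haveI := hφi
    let ιY : (ciI fun j : Fin r => G j.castSucc).subscheme ⟶ CohB1.ProjSpace n k :=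
      (ciI fun j : Fin r => G j.castSucc).subschemeι
    haveI : IsClosedImmersion ιY :=
      inferInstanceAs (IsClosedImmersion (ciI fun j : Fin r => G j.castSucc).subschemeι)
    exact step_surj k n ιY _ e φ _ hφ i hIH
      (hV (i + -(a (Fin.last r) : ℤ)) (0 + 1) (by omega) (by omega))

theorem conn_main (r : ℕ) (hr : r ≤ n) (a : Fin r → ℕ) (ha : ∀ j, 1 ≤ a j)
    (G : ∀ j, LefPen.Form n k (a j))
    (hdim : topologicalKrullDim ↥(ciI G).subscheme = ((n - r : ℕ) : WithBot ℕ∞))
    (h1 : 1 ≤ n - r) :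
    GeometricallyConnected ((ciI G).subschemeι ≫ CohB1.ProjSpace.toSpec n k) := by
  have hs0 := surj_main r hr a ha G hdim.le h1 0
  obtain ⟨z⟩ := Groth.Agent.Lib.R2Lead.KRR.nonempty_twistProjSpace_zero_iso n k
  have hsO := surjective_unit_of_iso (ciI G).subschemeι z hs0
  have hι := surjective_app_top_of_unit k n (ciI G).subschemeι hsO
  let gY : PJ ⟶ Spec (CommRingCat.of k) := CohB1.ProjSpace.toSpec n k
  haveI : IsProper gY := Groth.Agent.S9705.isProper_projSpace_toSpec n k
  haveI : IsProper ((ciI G).subschemeι ≫ CohB1.ProjSpace.toSpec n k) :=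
    (inferInstance : IsProper ((ciI G).subschemeι ≫ gY))
  haveI : Nonempty ↥(ciI G).subscheme := by
    by_contra hne
    rw [not_nonempty_iff] at hne
    rw [Groth.Agent.Lib.Helper4.VarDim.topologicalKrullDim_eq_bot_of_isEmpty] at hdim
    exact WithBot.bot_ne_coe hdim
  apply geometricallyConnected_of_surjective k
  have hT : Function.Bijective (CohB1.ProjSpace.toSpec n k).appTop.hom := by
    haveI := Groth.Agent.Lib.Helper27ProjGamma.isIso_toSpec_appTop n k
    exact ConcreteCategory.bijective_of_isIso (CohB1.ProjSpace.toSpec n k).appTop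
  have hΓ : Function.Bijective (Scheme.ΓSpecIso (CommRingCat.of k)).inv.hom :=
    ConcreteCategory.bijective_of_isIso (Scheme.ΓSpecIso (CommRingCat.of k)).inv
  intro x
  obtain ⟨b, hb⟩ := hι x
  obtain ⟨c', hc'⟩ := hT.2 b
  obtain ⟨c, hc⟩ := hΓ.2 c'
  refine ⟨c, ?_⟩
  rw [RingHom.comp_apply, hc, Scheme.Hom.comp_appTop]
  change ((ciI G).subschemeι.app ⊤).hom ((CohB1.ProjSpace.toSpec n k).appTop.hom c') = x
  rw [hc']
  exact hb

end Main

section Frozen

/-- **S14332** -/
theorem main_B (k : Type u) [Field k] (n r : ℕ) (hr : r ≤ n) (a : Fin r → ℕ) (ha : ∀ j, 1 ≤ a j)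
    (G : ∀ j : Fin r, LefPen.Form n k (a j))
    (hdim : topologicalKrullDim ↥(LefPen.ciIdeal G).subscheme = ((n - r : ℕ) : WithBot ℕ∞))
    (i : ℤ) (p : ℕ) (hp : 0 < p) (hpn : p < n - r) :
    Subsingleton (Coh.HH (LefPen.ciIdeal G).subscheme
      ((Scheme.Modules.pullback (LefPen.ciIdeal G).subschemeι).obj (Twist.twistProjSpace n k i))
      p) :=
  van_main r hr a ha G hdim.le i p hpn (fun h => absurd h (Nat.ne_of_gt hp))

/-- **S14333** -/
theorem main_C (k : Type u) [Field k] (n r : ℕ) (hr : r ≤ n) (a : Fin r → ℕ) (ha : ∀ j, 1 ≤ a j)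
    (G : ∀ j : Fin r, LefPen.Form n k (a j))
    (hdim : topologicalKrullDim ↥(LefPen.ciIdeal G).subscheme = ((n - r : ℕ) : WithBot ℕ∞))
    (h1 : 1 ≤ n - r) (i : ℤ) :
    Function.Surjective (((Scheme.Modules.pullbackPushforwardAdjunction
      (LefPen.ciIdeal G).subschemeι).unit.app (Twist.twistProjSpace n k i)).val.app (op ⊤)) := by
  intro t
  obtain ⟨s, hs⟩ := surj_main r hr a ha G hdim.le h1 i t
  exact ⟨s, hs⟩

/-- **S14334** -/
theorem main_D (k : Type u) [Field k] (n r : ℕ) (hr : r ≤ n) (a : Fin r → ℕ) (ha : ∀ j, 1 ≤ a j)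
    (G : ∀ j : Fin r, LefPen.Form n k (a j))
    (hdim : topologicalKrullDim ↥(LefPen.ciIdeal G).subscheme = ((n - r : ℕ) : WithBot ℕ∞))
    (h1 : 1 ≤ n - r) :
    GeometricallyConnected ((LefPen.ciIdeal G).subschemeι ≫ CohB1.ProjSpace.toSpec n k) :=
  conn_main r hr a ha G hdim h1

end Frozen

end Groth.Agent.Lib.R2H7.CICohB
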