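import Groth.Agent.Lib.R2LeadIntDimC
import Groth.Agent.Lib.R2H2NodalRed

/-!
# Proper intersection with a regular immersion, dimension criterion (lead)
-/

set_option autoImplicit false
set_option linter.style.haveILetI false
universe u

open CategoryTheory CategoryTheory.Limits AlgebraicGeometry TopologicalSpace RingTheory.Sequence

namespace Groth.Agent.Lib.R2LeadPropInt

open Groth.Agent.Lib.Helper4.DimFormula Groth.Agent.Lib.R2LeadDimCompA
  Groth.Agent.Lib.R2LeadDimCompB Groth.Agent.Lib.R2LeadIntDimA Groth.Agent.Lib.R2LeadIntDimB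
  Groth.Agent.Lib.R2LeadIntDimC

/-- the pointwise Krull bound for the preimage of an immersion cut out locally by `rs`, under any
morphism `g : Z ⟶ Y` locally of finite type with `Z` equidimensional -/
theorem main'' (K : Type u) [Field K] (Y Z X : Scheme.{u}) (gY : Y ⟶ Spec (CommRingCat.of K))
    [LocallyOfFiniteType gY] (f : X ⟶ Y) [IsImmersion f] (g : Z ⟶ Y)
    [LocallyOfFiniteType g] (d : ℕ)
    (hd : ∀ Z' ∈ irreducibleComponents (Z : Type u), topologicalKrullDim Z' = d)
    (ξ : ↥(pullback f g)) (hξmax : ∀ w' : ↥(pullback f g), w' ⤳ ξ → w' = ξ)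
    (U : Y.affineOpens) (hfxU : f ((pullback.fst f g) ξ) ∈ U.1)
    (hcl : IsClosedImmersion (f ∣_ U.1)) (rs : List Γ(Y, U.1))
    (hker : RingHom.ker (f.app U.1).hom = Ideal.ofList rs) :
    ((d : ℕ) : WithBot ℕ∞) ≤
      topologicalKrullDim ↥(closure ({ξ} : Set ↥(pullback f g))) + (rs.length : ℕ) := by
  haveI : IsImmersion (pullback.snd f g) := inferInstance
  haveI : IsPreimmersion (pullback.snd f g) := inferInstance
  haveI : LocallyOfFiniteType (pullback.snd f g) := inferInstance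
  haveI : LocallyOfFiniteType (g ≫ gY) := inferInstance
  haveI : IsLocallyNoetherian Z := LocallyOfFiniteType.isLocallyNoetherian (g ≫ gY)
  have h0 := Groth.Agent.Lib.Helper5.StalkSpec.ringKrullDim_stalk_eq_zero_of_maximal _ ξ hξmax
  have hιz : g ((pullback.snd f g) ξ) ∈ U.1 := by
    have : g ((pullback.snd f g) ξ) = f ((pullback.fst f g) ξ) := by
      rw [← Scheme.Hom.comp_apply, ← Scheme.Hom.comp_apply, pullback.condition]
    rw [this]
    exact hfxU
  obtain ⟨V', hV'aff, hzV', hV'U⟩ := Opens.isBasis_iff_nbhd.mp Z.isBasis_affineOpens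
    (show (pullback.snd f g) ξ ∈ (g ⁻¹ᵁ U.1 : Z.Opens) from hιz)
  obtain ⟨hcl', hker'⟩ := Groth.Agent.Lib.H9RegImmFlatBC.isClosedImmersion_and_ker f g
    (pullback.snd f g) (pullback.fst f g) (IsPullback.of_hasPullback f g) U.1 U.2 hcl V' hV'aff hV'U
  rw [hker, Ideal.map_ofList] at hker'
  haveI := hcl'
  have hks := ker_stalkMap_eq_ofList (pullback.snd f g) ξ V' hV'aff hzV' _ hker'
  have e : (Z.presheaf.stalk ((pullback.snd f g) ξ) ⧸ RingHom.ker ((pullback.snd f g).stalkMap ξ).hom)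
      ≃+* (pullback f g).presheaf.stalk ξ :=
    RingHom.quotientKerEquivOfSurjective ((pullback.snd f g).stalkMap_surjective ξ)
  have h0' : ringKrullDim (Z.presheaf.stalk ((pullback.snd f g) ξ) ⧸
      RingHom.ker ((pullback.snd f g).stalkMap ξ).hom) = 0 := by
    rw [ringKrullDim_eq_of_ringEquiv e, h0]
  rw [hks] at h0'
  have hkr := ringKrullDim_le_length _ (by rw [← hks]; exact RingHom.ker_ne_top _) h0'
  rw [List.length_map, List.length_map] at hkr
  have h2 := Groth.Agent.Lib.Helper5.MiracleSch.stalk_add_ptTrdeg_of_equidim K (g ≫ gY) d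
    hd ((pullback.snd f g) ξ)
  have h3 := ptTrdeg_comp_of_isPreimmersion (pullback.snd f g) (g ≫ gY) ξ
  have h4 := dim_closure_eq_ptTrdeg K (pullback.snd f g ≫ g ≫ gY) ξ
  rw [h4, h3, ← h2, add_comm]
  exact add_le_add_right hkr _

/-- the Krull lower bound for the components of the preimage of a regular immersion in an
irreducible component -/
theorem le_dim_component (k : Type u) [Field k] (C X W : Scheme.{u})
    (q : X ⟶ Spec (CommRingCat.of k)) (π : C ⟶ X) (ι : W ⟶ X)
    [LocallyOfFiniteType q] [LocallyOfFiniteType π]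
    (κ : RegImm.Kind) (n c : ℕ) (hι : RegImm.IsRegularImmersionOfCodim κ c ι)
    (P : Set C) (hP : P ∈ irreducibleComponents (C : Type u)) (hPn : topologicalKrullDim P = n)
    (Q : Set ↥(P ∩ π ⁻¹' Set.range ι))
    (hQ : Q ∈ irreducibleComponents ↥(P ∩ π ⁻¹' Set.range ι)) :
    ((n : ℕ) : WithBot ℕ∞) ≤ topologicalKrullDim Q + (c : WithBot ℕ∞) := by
  haveI : IsImmersion ι := hι.1
  have hPc : IsClosed P := isClosed_of_mem_irreducibleComponents P hP
  obtain ⟨Ps, jP, hjP, hrP, hPsi, hPsd⟩ := exists_subscheme P hPc hP.1 n hPn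
  have hPe := Groth.Agent.Lib.R2LeadDiagRegB.equidim_of_irreducible (T := Ps) (n : WithBot ℕ∞) hPsd
  set g := jP ≫ π with hg
  have hrange : Set.range (pullback.snd ι g ≫ jP) = P ∩ π ⁻¹' Set.range ι := by
    ext x
    constructor
    · rintro ⟨t, rfl⟩
      refine ⟨?_, ?_⟩
      · rw [← hrP]; exact ⟨_, rfl⟩
      · refine ⟨pullback.fst ι g t, ?_⟩
        rw [← Scheme.Hom.comp_apply, pullback.condition]
        rfl
    · rintro ⟨hxP, hxι⟩
      rw [← hrP] at hxP
      obtain ⟨z, rfl⟩ := hxP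
      have hz : z ∈ Set.range (pullback.snd ι g) := by
        rw [Scheme.Pullback.range_snd]
        exact hxι
      obtain ⟨t, rfl⟩ := hz
      exact ⟨t, rfl⟩
  haveI : IsImmersion (pullback.snd ι g ≫ jP) := inferInstance
  let h : ↥(pullback ι g) ≃ₜ ↥(P ∩ π ⁻¹' Set.range ι) :=
    ((pullback.snd ι g ≫ jP).isEmbedding.toHomeomorph).trans (Homeomorph.setCongr hrange)
  obtain ⟨hT', hT'dim⟩ := image_mem_irreducibleComponents h.symm Q hQ
  obtain ⟨ξ, hξT, hξmax⟩ := exists_generic_of_mem_irreducibleComponents _ hT'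
  obtain ⟨U, hyU, hcl, rs, hlen, -, hker⟩ := hι.2 (pullback.fst ι g ξ)
  haveI : LocallyOfFiniteType g := inferInstance
  have hmain := main'' k X Ps W q ι g n hPe ξ hξmax U hyU hcl rs hker
  rw [hξT, hT'dim, hlen] at hmain
  exact hmain

end Groth.Agent.Lib.R2LeadPropInt
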