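import Mathlib
import Groth.Prelude
import Groth.Agent.Lib.R2H7CIIdeal
import Groth.Agent.Lib.R2LeadPropInt
import Groth.Agent.Lib.R2LeadDimCompB
import Groth.Agent.Lib.R2LeadDiagRegB
import Groth.Agent.Lib.R2H1PLineA
import Groth.Agent.S9705
import Groth.Agent.S10829
set_option backward.isDefEq.respectTransparency.types false

/-!
# Complete intersections in `P^n_k` are equidimensional (helper7, round 2)

* `le_dim_component` : every irreducible component of `V(G_1, …, G_r) ⊆ P^n_k` has dimension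
  at least `n - r` (Krull, via `R2LeadPropInt.main''`).
* `main_E` = S14335.
-/

set_option autoImplicit false
set_option linter.style.haveILetI false
set_option linter.unusedSectionVars false
universe u v

open CategoryTheory CategoryTheory.Limits AlgebraicGeometry TopologicalSpace Opposite

namespace Groth.Agent.Lib.R2H7.CIEqui

open Groth.Agent.Lib.R2H7.CIBase Groth.Agent.Lib.R2H7.CIIdeal

variable {n : ℕ} {k : Type u} [Field k]

local notation "𝒫" => CohB1.polyGrading n k
local notation "PJ" => Proj (CohB1.polyGrading n k)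

theorem le_dim_component {r : ℕ} {a : Fin r → ℕ} (G : ∀ j, LefPen.Form n k (a j))
    (Z : Set ↥(ciI G).subscheme) (hZ : Z ∈ irreducibleComponents ↥(ciI G).subscheme) :
    (n : WithBot ℕ∞) ≤ topologicalKrullDim ↥Z + ((r : ℕ) : WithBot ℕ∞) := by
  obtain ⟨η, hηcl, hηmax⟩ :=
    Groth.Agent.Lib.R2LeadDimCompB.exists_generic_of_mem_irreducibleComponents Z hZ
  haveI : IsIso (pullback.fst (ciI G).subschemeι (𝟙 PJ)) := inferInstance
  let e := (pullback.fst (ciI G).subschemeι (𝟙 PJ)).homeomorph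
  have heη : (pullback.fst (ciI G).subschemeι (𝟙 PJ)) (e.symm η) = η := by
    rw [← Scheme.Hom.homeomorph_apply]
    exact e.apply_symm_apply η
  have hξmax : ∀ w' : ↥(pullback (ciI G).subschemeι (𝟙 PJ)), w' ⤳ e.symm η → w' = e.symm η := by
    intro w' hw
    have h1 : e w' ⤳ e (e.symm η) := hw.map e.continuous
    rw [e.apply_symm_apply] at h1
    have h2 := hηmax _ h1
    exact e.injective (h2.trans (e.apply_symm_apply η).symm)
  obtain ⟨l, hl⟩ := exists_mem_preimage_chart (ciI G).subschemeι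
    ((pullback.fst (ciI G).subschemeι (𝟙 PJ)) (e.symm η))
  let gY : PJ ⟶ Spec (CommRingCat.of k) := CohB1.ProjSpace.toSpec n k
  haveI : IsProper gY := Groth.Agent.S9705.isProper_projSpace_toSpec n k
  haveI : IsIntegral PJ := Groth.Agent.Lib.R2H1.PLineA.isIntegral_projSpace n k
  haveI : IrreducibleSpace ↥PJ := inferInstance
  haveI : IsClosedImmersion ((ciI G).subschemeι ∣_ (chartAff (r := n) (k := k) l).1) :=
    inferInstance
  have hPdim : topologicalKrullDim PJ = (n : WithBot ℕ∞) := Groth.Agent.S10829.result k n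
  have hker : RingHom.ker ((ciI G).subschemeι.app (chartAff (r := n) (k := k) l).1).hom =
      Ideal.ofList (List.ofFn fun j => deh (G j) l) := by
    rw [Scheme.IdealSheafData.ker_subschemeι_app]
    exact ciI_ideal_chart G l
  have hmain := Groth.Agent.Lib.R2LeadPropInt.main'' k PJ PJ (ciI G).subscheme
    gY (ciI G).subschemeι (𝟙 PJ) n
    (Groth.Agent.Lib.R2LeadDiagRegB.equidim_of_irreducible _ hPdim) (e.symm η) hξmax (chartAff l) hl
    inferInstance (List.ofFn fun j => deh (G j) l) hker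
  rw [List.length_ofFn] at hmain
  have himg : e '' closure ({e.symm η} : Set ↥(pullback (ciI G).subschemeι (𝟙 PJ))) = Z := by
    rw [e.image_closure, Set.image_singleton, e.apply_symm_apply, hηcl]
  have hdimeq : topologicalKrullDim
      ↥(closure ({e.symm η} : Set ↥(pullback (ciI G).subschemeι (𝟙 PJ)))) =
      topologicalKrullDim ↥Z := by
    rw [← himg]
    exact IsHomeomorph.topologicalKrullDim_eq _ (e.image _).isHomeomorph
  rw [hdimeq] at hmain
  exact hmain

theorem eq_of_bounds (x : WithBot ℕ∞) (n r : ℕ) (hr : r ≤ n)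
    (h1 : x ≤ ((n - r : ℕ) : WithBot ℕ∞))
    (h2 : (n : WithBot ℕ∞) ≤ x + ((r : ℕ) : WithBot ℕ∞)) : x = ((n - r : ℕ) : WithBot ℕ∞) := by
  have hx : x ≠ ⊥ := by
    intro h
    rw [h, WithBot.bot_add] at h2
    exact WithBot.coe_ne_bot (le_bot_iff.mp h2)
  obtain ⟨e, rfl⟩ := WithBot.ne_bot_iff_exists.mp hx
  have he : e ≠ ⊤ := by
    intro h
    rw [h] at h1
    have h3 : (⊤ : ℕ∞) ≤ ((n - r : ℕ) : ℕ∞) := WithBot.coe_le_coe.mp h1
    exact absurd h3 (not_le.mpr (ENat.natCast_lt_top _))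
  obtain ⟨m, rfl⟩ := ENat.ne_top_iff_exists.mp he
  have h4 : m ≤ n - r := by
    have h7 : ((m : ℕ∞) : WithBot ℕ∞) ≤ (((n - r : ℕ) : ℕ∞) : WithBot ℕ∞) := h1
    exact Nat.cast_le.mp (WithBot.coe_le_coe.mp h7)
  have h5 : n ≤ m + r := by
    have h7 : (((n : ℕ) : ℕ∞) : WithBot ℕ∞) ≤ (((m + r : ℕ) : ℕ∞) : WithBot ℕ∞) := by
      rw [Nat.cast_add, WithBot.coe_add]
      exact h2
    exact Nat.cast_le.mp (WithBot.coe_le_coe.mp h7)
  have h6 : m = n - r := by omega
  rw [h6]
  rfl

/-- **S14335** -/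
theorem main_E (k : Type u) [Field k] (n r : ℕ) (hr : r ≤ n) (a : Fin r → ℕ)
    (G : ∀ j : Fin r, LefPen.Form n k (a j))
    (hdim : topologicalKrullDim ↥(LefPen.ciIdeal G).subscheme = ((n - r : ℕ) : WithBot ℕ∞))
    (Z : Set ↥(LefPen.ciIdeal G).subscheme)
    (hZ : Z ∈ irreducibleComponents ↥(LefPen.ciIdeal G).subscheme) :
    topologicalKrullDim ↥Z = ((n - r : ℕ) : WithBot ℕ∞) := by
  apply eq_of_bounds _ n r hr
  · rw [← hdim]
    exact topologicalKrullDim_subspace_le _ Z
  · exact le_dim_component G Z hZ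

end Groth.Agent.Lib.R2H7.CIEqui
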