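/-
Cohen–Macaulay and Gorenstein properties and a non-zero-divisor `t` of a Noetherian ring `B`:
`B` CM (Gorenstein) ⇒ `B/(t)` CM (Gorenstein), and if `B/(t)` is CM (Gorenstein) then `B_P` is CM
(Gorenstein) for every prime `P ∋ t`.
-/
import Mathlib
import Groth.Agent.Lib.Helper28SkLift
import Groth.Agent.Lib.Helper28PolyCM
import Groth.Agent.Lib.Helper28CMFib1
import Groth.Agent.Lib.Helper5GorRing
import Groth.Agent.Lib.Helper19Normalization
import Groth.Agent.Lib.Helper5CM2
import Groth.Agent.S0343

set_option autoImplicit false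

noncomputable section

namespace Groth.Agent.Lib.R2H7.RegQuot

open Groth.Agent.Lib.Helper28 LocCoh

universe u

/-! ### The local statement for Cohen–Macaulay rings -/

section loc

variable {R : Type u} [CommRing R] [IsNoetherianRing R] [IsLocalRing R]

theorem cm_iff_quotient (x : R) (hx : x ∈ IsLocalRing.maximalIdeal R) (hreg : IsSMulRegular R x)
    [IsLocalRing (R ⧸ Ideal.span {x})] :
    IsCohenMacaulayLocalRing R ↔ IsCohenMacaulayLocalRing (R ⧸ Ideal.span {x}) := by
  have h1 := depth_quotient_span_singleton_add_one x hx hreg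
  have h2 := ringKrullDim_quotient_span_singleton_succ_eq_ringKrullDim hreg hx
  constructor
  · intro h
    have h3 := h.supportDim_eq_depth
    rw [Module.supportDim_self_eq_ringKrullDim, ← h1, ← h2] at h3
    refine { supportDim_eq_depth := ?_ }
    rw [Module.supportDim_self_eq_ringKrullDim]
    have h4 : ringKrullDim (R ⧸ Ideal.span {x}) + 1 =
        ((depth (R ⧸ Ideal.span {x}) (R ⧸ Ideal.span {x}) : ℕ∞) : WithBot ℕ∞) + 1 := by
      rw [h3]
      push_cast
      rfl
    apply le_antisymm
    · exact Groth.Agent.Lib.Helper5.withBot_enat_le_of_add_one_le_add_one h4.le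
    · exact Groth.Agent.Lib.Helper5.withBot_enat_le_of_add_one_le_add_one h4.ge
  · intro h
    have h3 := h.supportDim_eq_depth
    rw [Module.supportDim_self_eq_ringKrullDim] at h3
    refine { supportDim_eq_depth := ?_ }
    rw [Module.supportDim_self_eq_ringKrullDim, ← h1, ← h2, h3]
    push_cast
    rfl

end loc

/-! ### Global statements -/

section glob

variable {B : Type u} [CommRing B] [IsNoetherianRing B] (t : B) (hreg : IsSMulRegular B t)

include hreg in
/-- The comparison at a prime of the quotient. -/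
theorem cm_comap_iff (𝔮 : Ideal (B ⧸ Ideal.span {t})) [𝔮.IsPrime] :
    IsCohenMacaulayLocalRing (Localization.AtPrime (𝔮.comap (Ideal.Quotient.mk (Ideal.span {t})))) ↔
      IsCohenMacaulayLocalRing (Localization.AtPrime 𝔮) := by
  set q' : Ideal B := 𝔮.comap (Ideal.Quotient.mk (Ideal.span {t})) with hq'
  set R := Localization.AtPrime q' with hR
  set x : R := algebraMap B R t with hx
  have hN : IsNoetherianRing R := IsLocalization.isNoetherianRing q'.primeCompl _ inferInstance
  have htq' : t ∈ q' := by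
    rw [hq', Ideal.mem_comap, Ideal.Quotient.eq_zero_iff_mem.mpr (Ideal.mem_span_singleton_self t)]
    exact 𝔮.zero_mem
  have hxm : x ∈ IsLocalRing.maximalIdeal R := by
    rw [← Localization.AtPrime.map_eq_maximalIdeal]
    exact Ideal.mem_map_of_mem _ htq'
  have hregx : IsSMulRegular R x := hreg.of_flat
  have hmapI : (Ideal.span {t}).map (algebraMap B R) = Ideal.span {x} := by
    rw [Ideal.map_span, Set.image_singleton]
  let e1 : Localization.AtPrime 𝔮 ≃+* (R ⧸ (Ideal.span {t}).map (algebraMap B R)) :=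
    localizationQuotientEquiv (Ideal.span {t}) 𝔮
  let e2 : (R ⧸ (Ideal.span {t}).map (algebraMap B R)) ≃+* (R ⧸ Ideal.span {x}) :=
    Ideal.quotEquivOfEq hmapI
  let e := e1.trans e2
  have hloc : IsLocalRing (R ⧸ Ideal.span {x}) := e.isLocalRing
  rw [cm_iff_quotient x hxm hregx]
  constructor
  · intro h
    exact isCohenMacaulayLocalRing_of_ringEquiv e.symm
  · intro h
    exact isCohenMacaulayLocalRing_of_ringEquiv e

include hreg in
theorem gor_comap_iff (𝔮 : Ideal (B ⧸ Ideal.span {t})) [𝔮.IsPrime] :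
    IsGorensteinLocalRing (Localization.AtPrime (𝔮.comap (Ideal.Quotient.mk (Ideal.span {t})))) ↔
      IsGorensteinLocalRing (Localization.AtPrime 𝔮) := by
  set q' : Ideal B := 𝔮.comap (Ideal.Quotient.mk (Ideal.span {t})) with hq'
  set R := Localization.AtPrime q' with hR
  set x : R := algebraMap B R t with hx
  have hN : IsNoetherianRing R := IsLocalization.isNoetherianRing q'.primeCompl _ inferInstance
  have htq' : t ∈ q' := by
    rw [hq', Ideal.mem_comap, Ideal.Quotient.eq_zero_iff_mem.mpr (Ideal.mem_span_singleton_self t)]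
    exact 𝔮.zero_mem
  have hxm : x ∈ IsLocalRing.maximalIdeal R := by
    rw [← Localization.AtPrime.map_eq_maximalIdeal]
    exact Ideal.mem_map_of_mem _ htq'
  have hregx : IsSMulRegular R x := hreg.of_flat
  have hmapI : (Ideal.span {t}).map (algebraMap B R) = Ideal.span {x} := by
    rw [Ideal.map_span, Set.image_singleton]
  let e1 : Localization.AtPrime 𝔮 ≃+* (R ⧸ (Ideal.span {t}).map (algebraMap B R)) :=
    localizationQuotientEquiv (Ideal.span {t}) 𝔮
  let e2 : (R ⧸ (Ideal.span {t}).map (algebraMap B R)) ≃+* (R ⧸ Ideal.span {x}) :=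
    Ideal.quotEquivOfEq hmapI
  let e := e1.trans e2
  rw [Groth.Agent.S0343.result R x hxm hregx]
  constructor
  · intro h
    exact @Groth.Agent.Lib.Helper5.GorRing.gorLocal_of_ringEquiv _ _ _ _ e.symm h
  · intro h
    exact @Groth.Agent.Lib.Helper5.GorRing.gorLocal_of_ringEquiv _ _ _ _ e h

theorem comap_map_eq (P : Ideal B) (htP : t ∈ P) :
    (P.map (Ideal.Quotient.mk (Ideal.span {t}))).comap (Ideal.Quotient.mk (Ideal.span {t})) = P := by
  rw [Ideal.comap_map_of_surjective _ Ideal.Quotient.mk_surjective, ← RingHom.ker_eq_comap_bot,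
    Ideal.mk_ker, sup_eq_left]
  exact (Ideal.span_singleton_le_iff_mem P).mpr htP

theorem map_isPrime (P : Ideal B) [P.IsPrime] (htP : t ∈ P) :
    (P.map (Ideal.Quotient.mk (Ideal.span {t}))).IsPrime :=
  Ideal.map_isPrime_of_surjective Ideal.Quotient.mk_surjective
    (by rw [Ideal.mk_ker]; exact (Ideal.span_singleton_le_iff_mem P).mpr htP)

include hreg in
/-- If `B/(t)` is Cohen–Macaulay at the image of `P ∋ t`, then `B_P` is Cohen–Macaulay. -/
theorem cm_of_quotient (P : Ideal B) [hP : P.IsPrime] (htP : t ∈ P)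
    (𝔮 : Ideal (B ⧸ Ideal.span {t})) [𝔮.IsPrime]
    (h𝔮 : 𝔮 = P.map (Ideal.Quotient.mk (Ideal.span {t}))) :
    IsCohenMacaulayLocalRing (Localization.AtPrime P) ↔
      IsCohenMacaulayLocalRing (Localization.AtPrime 𝔮) := by
  have hc : 𝔮.comap (Ideal.Quotient.mk (Ideal.span {t})) = P := by
    rw [h𝔮]
    exact comap_map_eq t P htP
  have key : ∀ (P' : Ideal B) [P'.IsPrime], P' = P →
      (IsCohenMacaulayLocalRing (Localization.AtPrime P') ↔
        IsCohenMacaulayLocalRing (Localization.AtPrime 𝔮)) →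
      (IsCohenMacaulayLocalRing (Localization.AtPrime P) ↔
        IsCohenMacaulayLocalRing (Localization.AtPrime 𝔮)) := by
    intro P' _ e h
    subst e
    exact h
  exact key _ hc (cm_comap_iff t hreg 𝔮)

include hreg in
theorem gor_of_quotient (P : Ideal B) [hP : P.IsPrime] (htP : t ∈ P)
    (𝔮 : Ideal (B ⧸ Ideal.span {t})) [𝔮.IsPrime]
    (h𝔮 : 𝔮 = P.map (Ideal.Quotient.mk (Ideal.span {t}))) :
    IsGorensteinLocalRing (Localization.AtPrime P) ↔
      IsGorensteinLocalRing (Localization.AtPrime 𝔮) := by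
  have hc : 𝔮.comap (Ideal.Quotient.mk (Ideal.span {t})) = P := by
    rw [h𝔮]
    exact comap_map_eq t P htP
  have key : ∀ (P' : Ideal B) [P'.IsPrime], P' = P →
      (IsGorensteinLocalRing (Localization.AtPrime P') ↔
        IsGorensteinLocalRing (Localization.AtPrime 𝔮)) →
      (IsGorensteinLocalRing (Localization.AtPrime P) ↔
        IsGorensteinLocalRing (Localization.AtPrime 𝔮)) := by
    intro P' _ e h
    subst e
    exact h
  exact key _ hc (gor_comap_iff t hreg 𝔮)

include hreg in
/-- The quotient of a Cohen–Macaulay ring by a non-zero-divisor is Cohen–Macaulay. -/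
theorem cmRing_quotient [hB : IsCohenMacaulayRing B] :
    IsCohenMacaulayRing (B ⧸ Ideal.span {t}) := by
  refine { isCohenMacaulayLocalRing_localization := fun 𝔮 h𝔮 => ?_ }
  have hp : (𝔮.comap (Ideal.Quotient.mk (Ideal.span {t}))).IsPrime := Ideal.comap_isPrime _ _
  exact (cm_comap_iff t hreg 𝔮).mp (hB.isCohenMacaulayLocalRing_localization _)

end glob

end Groth.Agent.Lib.R2H7.RegQuot
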