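/-
Transfer of the Cohen–Macaulay property of local rings
* between a Noetherian ring `B` and a localization `L = S⁻¹B`;
* between `B` and `G = B/(t)` presented by a surjection `φ : B → G` with kernel `(t)`, `t` a
  non-zero-divisor.
-/
import Mathlib
import Groth.Agent.Lib.R2H7RegQuot

set_option autoImplicit false

noncomputable section

namespace Groth.Agent.Lib.R2H7.CMTransfer

open Groth.Agent.Lib.Helper28 Groth.Agent.Lib.R2H7.RegQuot LocCoh

universe u

section isLoc

variable {B : Type u} [CommRing B] [IsNoetherianRing B] (S : Submonoid B)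
  (L : Type u) [CommRing L] [Algebra B L] [IsLocalization S L]

include S in
theorem cm_comap_iff_isLocalization (Q : Ideal L) [hQ : Q.IsPrime] :
    IsCohenMacaulayLocalRing (Localization.AtPrime (Q.comap (algebraMap B L))) ↔
      IsCohenMacaulayLocalRing (Localization.AtPrime Q) := by
  have h2 : IsLocalization.AtPrime (Localization.AtPrime Q) (Q.comap (algebraMap B L)) :=
    IsLocalization.isLocalization_isLocalization_atPrime_isLocalization (M := S)
      (Localization.AtPrime Q) Q
  let e : Localization.AtPrime (Q.comap (algebraMap B L)) ≃+* Localization.AtPrime Q :=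
    (IsLocalization.algEquiv (Q.comap (algebraMap B L)).primeCompl
      (Localization.AtPrime (Q.comap (algebraMap B L))) (Localization.AtPrime Q)).toRingEquiv
  constructor
  · intro h
    exact @isCohenMacaulayLocalRing_of_ringEquiv _ _ _ _ e h
  · intro h
    exact @isCohenMacaulayLocalRing_of_ringEquiv _ _ _ _ e.symm h

include S in
theorem cm_map_iff_isLocalization (P : Ideal B) [hP : P.IsPrime]
    (hd : Disjoint (S : Set B) (P : Set B)) (Q : Ideal L) [hQ : Q.IsPrime]
    (hQP : Q = P.map (algebraMap B L)) :
    IsCohenMacaulayLocalRing (Localization.AtPrime P) ↔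
      IsCohenMacaulayLocalRing (Localization.AtPrime Q) := by
  have hc : Q.comap (algebraMap B L) = P := by
    rw [hQP]
    exact IsLocalization.comap_map_of_isPrime_disjoint S L hP hd
  have key : ∀ (P' : Ideal B) [P'.IsPrime], P' = P →
      (IsCohenMacaulayLocalRing (Localization.AtPrime P') ↔
        IsCohenMacaulayLocalRing (Localization.AtPrime Q)) →
      (IsCohenMacaulayLocalRing (Localization.AtPrime P) ↔
        IsCohenMacaulayLocalRing (Localization.AtPrime Q)) := by
    intro P' _ e h
    subst e
    exact h
  exact key _ hc (cm_comap_iff_isLocalization S L Q)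

end isLoc

section surj

variable {B G : Type u} [CommRing B] [IsNoetherianRing B] [CommRing G] (φ : B →+* G)
  (hφ : Function.Surjective φ) (t : B) (hker : RingHom.ker φ = Ideal.span {t})
  (hreg : IsSMulRegular B t)

/-- `B/(t) ≃ G`. -/
def quotEquiv : (B ⧸ Ideal.span {t}) ≃+* G :=
  (Ideal.quotEquivOfEq hker).symm.trans (RingHom.quotientKerEquivOfSurjective hφ)

theorem quotEquiv_mk (x : B) :
    quotEquiv φ hφ t hker (Ideal.Quotient.mk (Ideal.span {t}) x) = φ x := by
  unfold quotEquiv
  rw [RingEquiv.trans_apply, Ideal.quotEquivOfEq_symm, Ideal.quotEquivOfEq_mk,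
    RingHom.quotientKerEquivOfSurjective_apply_mk]

include hφ hker hreg in
theorem cm_comap_iff_of_surjective (p : Ideal G) [hp : p.IsPrime] :
    IsCohenMacaulayLocalRing (Localization.AtPrime (p.comap φ)) ↔
      IsCohenMacaulayLocalRing (Localization.AtPrime p) := by
  set e' := quotEquiv φ hφ t hker with he'
  have h𝔮 : (p.comap (e' : (B ⧸ Ideal.span {t}) →+* G)).IsPrime := Ideal.comap_isPrime _ _
  have h1 := cm_comap_iff t hreg (p.comap (e' : (B ⧸ Ideal.span {t}) →+* G))
  let e2 : Localization.AtPrime (p.comap (e' : (B ⧸ Ideal.span {t}) →+* G)) ≃+*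
      Localization.AtPrime p := Localization.localRingEquiv _ p e' rfl
  have h2 : IsCohenMacaulayLocalRing
        (Localization.AtPrime (p.comap (e' : (B ⧸ Ideal.span {t}) →+* G))) ↔
      IsCohenMacaulayLocalRing (Localization.AtPrime p) := by
    constructor
    · intro h
      exact @isCohenMacaulayLocalRing_of_ringEquiv _ _ _ _ e2 h
    · intro h
      exact @isCohenMacaulayLocalRing_of_ringEquiv _ _ _ _ e2.symm h
  have hc : (p.comap (e' : (B ⧸ Ideal.span {t}) →+* G)).comap
      (Ideal.Quotient.mk (Ideal.span {t})) = p.comap φ := by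
    have hcomp : (e' : (B ⧸ Ideal.span {t}) →+* G).comp (Ideal.Quotient.mk (Ideal.span {t})) = φ :=
      RingHom.ext (fun x => quotEquiv_mk φ hφ t hker x)
    rw [Ideal.comap_comap, hcomp]
  have key : ∀ (P' P : Ideal B) [P'.IsPrime] [P.IsPrime], P' = P →
      (IsCohenMacaulayLocalRing (Localization.AtPrime P') ↔
        IsCohenMacaulayLocalRing (Localization.AtPrime p)) →
      (IsCohenMacaulayLocalRing (Localization.AtPrime P) ↔
        IsCohenMacaulayLocalRing (Localization.AtPrime p)) := by
    intro P' P _ _ e h
    subst e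
    exact h
  exact key _ _ hc (h1.trans h2)

include hreg hφ hker in
theorem cm_map_iff_of_surjective (P : Ideal B) [hP : P.IsPrime] (htP : t ∈ P)
    (p : Ideal G) [hp : p.IsPrime] (hpP : p = P.map φ) :
    IsCohenMacaulayLocalRing (Localization.AtPrime P) ↔
      IsCohenMacaulayLocalRing (Localization.AtPrime p) := by
  have hc : p.comap φ = P := by
    rw [hpP, Ideal.comap_map_of_surjective φ hφ, ← RingHom.ker_eq_comap_bot, hker, sup_eq_left]
    exact (Ideal.span_singleton_le_iff_mem P).mpr htP
  have key : ∀ (P' : Ideal B) [P'.IsPrime], P' = P →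
      (IsCohenMacaulayLocalRing (Localization.AtPrime P') ↔
        IsCohenMacaulayLocalRing (Localization.AtPrime p)) →
      (IsCohenMacaulayLocalRing (Localization.AtPrime P) ↔
        IsCohenMacaulayLocalRing (Localization.AtPrime p)) := by
    intro P' _ e h
    subst e
    exact h
  exact key _ hc (cm_comap_iff_of_surjective φ hφ t hker hreg p)

end surj

end Groth.Agent.Lib.R2H7.CMTransfer
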