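/-
In a central simple algebra `A` of dimension `n^2` over `K`, if the minimal polynomial of `x ∈ A`
is a product of irreducible polynomials all of the same degree `D`, then `D ∣ n`.
-/
import Mathlib
import Groth.Agent.Lib.LeadCSA

set_option autoImplicit false
universe u v

namespace Groth.Agent.Lib.R2H7.CSADegDvd

open Polynomial TensorProduct

/-- `n ∣ dim_L N` for a module `N` over a simple `L`-algebra of dimension `n^2`. -/
theorem dvd_finrank_of_module {L : Type*} [Field L] {E : Type*} [Ring E] [Algebra L E]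
    [IsSimpleRing E] [Module.Finite L E] {n : ℕ} (hE : Module.finrank L E = n ^ 2)
    (N : Type*) [AddCommGroup N] [Module E N] [Module L N] [IsScalarTower L E N]
    [Module.Finite L N] : n ∣ Module.finrank L N := by
  by_cases hN : Subsingleton N
  · rw [Module.finrank_zero_of_subsingleton]; exact dvd_zero n
  rw [not_subsingleton_iff_nontrivial] at hN
  obtain ⟨-, h⟩ := Groth.Agent.Lib.LeadCSA.end_simple_and_finrank (k := L) (R := E) (V := N)
  rw [hE] at h
  have : n ^ 2 ∣ (Module.finrank L N) ^ 2 := ⟨_, h.symm⟩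
  exact (Nat.pow_dvd_pow_iff two_ne_zero).mp this

section key

variable {K : Type u} [Field K] {A : Type v} [Ring A] [Algebra K A]

/-- Left multiplication by `x` on a stable subspace. -/
noncomputable def xN (x : A) (N : Submodule K A) (hxN : ∀ v ∈ N, x * v ∈ N) : Module.End K N :=
  (LinearMap.mulLeft K x).restrict hxN

theorem xN_pow_apply (x : A) (N : Submodule K A) (hxN : ∀ v ∈ N, x * v ∈ N) (n : ℕ) (v : N) :
    (((xN x N hxN) ^ n) v : A) = x ^ n * v := by
  induction n generalizing v with
  | zero => simp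
  | succ n ih =>
    rw [pow_succ, Module.End.mul_apply, ih, pow_succ, mul_assoc]
    rfl

theorem aeval_xN_apply (x : A) (N : Submodule K A) (hxN : ∀ v ∈ N, x * v ∈ N) (p : K[X]) (v : N) :
    ((aeval (xN x N hxN) p) v : A) = aeval x p * v := by
  induction p using Polynomial.induction_on' with
  | add p q hp hq =>
    rw [map_add, map_add, LinearMap.add_apply, Submodule.coe_add, hp, hq, add_mul]
  | monomial n a =>
    rw [aeval_monomial, aeval_monomial, ← Algebra.smul_def, ← Algebra.smul_def,
      LinearMap.smul_apply, Submodule.coe_smul, xN_pow_apply, smul_mul_assoc]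

/-- Right multiplication on a right-stable subspace, as an algebra map from `Aᵐᵒᵖ`. -/
noncomputable def rN (N : Submodule K A) (hAN : ∀ v ∈ N, ∀ a : A, v * a ∈ N) :
    Aᵐᵒᵖ →ₐ[K] Module.End K N where
  toFun a := (LinearMap.mulRight K a.unop).restrict (fun v hv => hAN v hv a.unop)
  map_one' := by
    ext v
    simp
  map_mul' a b := by
    ext v
    simp [mul_assoc]
  map_zero' := by
    ext v
    simp
  map_add' a b := by
    ext v
    simp [mul_add]
  commutes' c := by
    ext v
    simp [Algebra.algebraMap_eq_smul_one]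

theorem rN_apply (N : Submodule K A) (hAN : ∀ v ∈ N, ∀ a : A, v * a ∈ N) (a : Aᵐᵒᵖ) (v : N) :
    ((rN N hAN a) v : A) = v * a.unop := rfl

variable [Algebra.IsCentral K A] [IsSimpleRing A] [FiniteDimensional K A]

theorem key {n : ℕ} (hn : Module.finrank K A = n ^ 2) (x : A) (g : K[X]) (hg : Irreducible g)
    (N : Submodule K A) (hxN : ∀ v ∈ N, x * v ∈ N) (hAN : ∀ v ∈ N, ∀ a : A, v * a ∈ N)
    (hgN : ∀ v ∈ N, aeval x g * v = 0) : g.natDegree * n ∣ Module.finrank K N := by
  classical
  have : Fact (Irreducible g) := ⟨hg⟩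
  have hmax : (Ideal.span {g}).IsMaximal := AdjoinRoot.span_maximal_of_irreducible
  let L := K[X] ⧸ Ideal.span {g}
  let _ : Field L := Ideal.Quotient.field (Ideal.span {g})
  have hg0 : aeval (xN x N hxN) g = 0 := by
    ext v
    rw [aeval_xN_apply, hgN v v.2]
    rfl
  let φL : L →ₐ[K] Module.End K N := Ideal.Quotient.liftₐ (Ideal.span {g}) (aeval (xN x N hxN))
    (by
      intro p hp
      rw [Ideal.mem_span_singleton] at hp
      obtain ⟨q, rfl⟩ := hp
      rw [map_mul, hg0, zero_mul])
  have hφL : ∀ p : K[X], φL (Ideal.Quotient.mk _ p) = aeval (xN x N hxN) p := fun p => rfl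
  have hcomm : ∀ (l : L) (a : Aᵐᵒᵖ), Commute (φL l) (rN N hAN a) := by
    intro l a
    obtain ⟨p, rfl⟩ := Ideal.Quotient.mk_surjective l
    rw [hφL]
    ext v
    rw [Module.End.mul_apply, Module.End.mul_apply, aeval_xN_apply, rN_apply, rN_apply,
      aeval_xN_apply, mul_assoc]
  let E := L ⊗[K] Aᵐᵒᵖ
  let ρ : E →ₐ[K] Module.End K N := Algebra.TensorProduct.lift φL (rN N hAN) hcomm
  let mE : Module E N := Module.compHom N ρ.toRingHom
  let mL : Module L N := Module.compHom N φL.toRingHom
  have hsmE : ∀ (e : E) (v : N), e • v = ρ e v := fun e v => rfl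
  have hsmL : ∀ (l : L) (v : N), l • v = φL l v := fun l v => rfl
  have hle : ∀ (l : L) (e : E), l • e = (l ⊗ₜ[K] (1 : Aᵐᵒᵖ)) * e := by
    intro l e
    induction e using TensorProduct.induction_on with
    | zero => rw [smul_zero, mul_zero]
    | tmul a b =>
      rw [TensorProduct.smul_tmul', smul_eq_mul, Algebra.TensorProduct.tmul_mul_tmul, one_mul]
    | add y z hy hz => rw [smul_add, mul_add, hy, hz]
  have : IsScalarTower L E N := ⟨fun l e v => by
    rw [hsmE, hsmL, hsmE, hle, map_mul, Algebra.TensorProduct.lift_tmul, map_one,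
      mul_one, Module.End.mul_apply]⟩
  have : IsScalarTower K L N := ⟨fun c l v => by
    rw [hsmL, hsmL, map_smul, LinearMap.smul_apply]⟩
  have : Module.Finite L N := Module.Finite.of_restrictScalars_finite K L N
  have : IsSimpleRing E := Groth.Agent.Lib.LeadCSA.isSimpleRing_baseChange (k := K) (A := Aᵐᵒᵖ) L
  have hE : Module.finrank L E = n ^ 2 := by
    rw [Module.finrank_baseChange, ← hn]
    exact (MulOpposite.opLinearEquiv K : A ≃ₗ[K] Aᵐᵒᵖ).symm.finrank_eq
  have h1 : n ∣ Module.finrank L N := dvd_finrank_of_module hE N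
  have h2 : Module.finrank K L * Module.finrank L N = Module.finrank K N :=
    Module.finrank_mul_finrank K L N
  have h3 : Module.finrank K L = g.natDegree := finrank_quotient_span_eq_natDegree
  rw [← h2, h3]
  exact Nat.mul_dvd_mul_left _ h1

end key

section chain

variable {K : Type u} [Field K] {A : Type v} [Ring A] [Algebra K A]

/-- `Z_h = {a | h(x) a = 0}`. -/
noncomputable def Z (x : A) (h : K[X]) : Submodule K A :=
  LinearMap.ker (LinearMap.mulLeft K (aeval x h))

theorem mem_Z {x : A} {h : K[X]} {a : A} : a ∈ Z x h ↔ aeval x h * a = 0 := by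
  rw [Z, LinearMap.mem_ker, LinearMap.mulLeft_apply]

theorem x_mul_aeval (x : A) (h : K[X]) : x * aeval x h = aeval x h * x := by
  have h1 : aeval x (X * h) = aeval x (h * X) := by rw [mul_comm]
  rw [map_mul, map_mul, aeval_X] at h1
  exact h1

variable [Algebra.IsCentral K A] [IsSimpleRing A] [FiniteDimensional K A]

theorem finrank_Z_mul {n : ℕ} (hn : Module.finrank K A = n ^ 2) (x : A) (g h : K[X])
    (hg : Irreducible g) :
    ∃ c : ℕ, Module.finrank K (Z x (g * h)) = Module.finrank K (Z x h) + g.natDegree * n * c := by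
  let ℓ : Z x (g * h) →ₗ[K] A := (LinearMap.mulLeft K (aeval x h)).domRestrict (Z x (g * h))
  have hℓ : ∀ a : Z x (g * h), ℓ a = aeval x h * (a : A) := fun a => rfl
  have hle : Z x h ≤ Z x (g * h) := by
    intro a ha
    rw [mem_Z] at ha ⊢
    rw [map_mul, mul_assoc, ha, mul_zero]
  have hker : LinearMap.ker ℓ = (Z x h).comap (Z x (g * h)).subtype := by
    ext a
    rw [LinearMap.mem_ker, hℓ, Submodule.mem_comap, mem_Z]
    rfl
  have hrn := LinearMap.finrank_range_add_finrank_ker ℓ
  have hk : Module.finrank K (LinearMap.ker ℓ) = Module.finrank K (Z x h) := by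
    rw [hker]
    exact (Submodule.comapSubtypeEquivOfLe hle).finrank_eq
  have hN := key hn x g hg (LinearMap.range ℓ)
    (by
      rintro _ ⟨a, rfl⟩
      refine ⟨⟨x * (a : A), ?_⟩, ?_⟩
      · rw [mem_Z, ← mul_assoc, ← x_mul_aeval, mul_assoc, mem_Z.mp a.2, mul_zero]
      · rw [hℓ, hℓ]
        change aeval x h * (x * (a : A)) = x * (aeval x h * (a : A))
        rw [← mul_assoc, ← x_mul_aeval, mul_assoc])
    (by
      rintro _ ⟨a, rfl⟩ b
      refine ⟨⟨(a : A) * b, ?_⟩, ?_⟩
      · rw [mem_Z, ← mul_assoc, mem_Z.mp a.2, zero_mul]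
      · rw [hℓ, hℓ]
        change aeval x h * ((a : A) * b) = aeval x h * (a : A) * b
        rw [mul_assoc])
    (by
      rintro _ ⟨a, rfl⟩
      rw [hℓ, ← mul_assoc, ← map_mul]
      exact mem_Z.mp a.2)
  obtain ⟨c, hc⟩ := hN
  refine ⟨c, ?_⟩
  rw [← hrn, hk, hc, add_comm]

theorem chain {n : ℕ} (hn : Module.finrank K A = n ^ 2) (x : A) (D : ℕ) (t : Multiset K[X])
    (ht : ∀ g ∈ t, Irreducible g ∧ g.natDegree = D) :
    D * n ∣ Module.finrank K (Z x t.prod) := by
  induction t using Multiset.induction_on with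
  | empty =>
    have : Z x (1 : K[X]) = ⊥ := by
      rw [eq_bot_iff]
      intro a ha
      rw [mem_Z, map_one, one_mul] at ha
      rw [Submodule.mem_bot]
      exact ha
    rw [Multiset.prod_zero, this, finrank_bot]
    exact dvd_zero _
  | cons g t ih =>
    rw [Multiset.prod_cons]
    obtain ⟨hgi, hgD⟩ := ht g (Multiset.mem_cons_self g t)
    obtain ⟨c, hc⟩ := finrank_Z_mul hn x g t.prod hgi
    rw [hc, hgD]
    exact dvd_add (ih fun g' hg' => ht g' (Multiset.mem_cons_of_mem hg')) (Dvd.intro _ rfl)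

theorem dvd_of_minpoly {n : ℕ} (hn : Module.finrank K A = n ^ 2) (x : A) (D : ℕ)
    (t : Multiset K[X]) (ht : ∀ g ∈ t, Irreducible g ∧ g.natDegree = D)
    (hprod : t.prod = minpoly K x) : D ∣ n := by
  have h1 := chain hn x D t ht
  have htop : Z x t.prod = ⊤ := by
    rw [eq_top_iff]
    intro a _
    rw [mem_Z, hprod, minpoly.aeval, zero_mul]
  rw [htop, finrank_top, hn, pow_two] at h1
  have hpos : 0 < Module.finrank K A := Module.finrank_pos
  have hn0 : 0 < n := by
    rcases Nat.eq_zero_or_pos n with h0 | h0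
    · rw [hn, h0] at hpos
      exact absurd hpos (by norm_num)
    · exact h0
  exact Nat.dvd_of_mul_dvd_mul_right hn0 h1

end chain

end Groth.Agent.Lib.R2H7.CSADegDvd
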