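import Mathlib
import Groth.Agent.Lib.R2H7CanDualA

/-!
# Duality for fractional ideals with respect to a canonical ideal (part B)

`O` a one-dimensional Noetherian local domain (not a field), `ω ⊆ K` a nonzero finitely generated
submodule with `K ⧸ ω` injective.  Then `length Hom (N, K ⧸ ω) = length N` for `N` of finite
length, `length ((ω : J) / (ω : I)) = length (I / J)`, `ω : (ω : I) = I` and `ω : ω = O`.
-/

set_option autoImplicit false
set_option linter.style.haveILetI false
set_option linter.unusedSectionVars false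
universe u

namespace Groth.Agent.Lib.R2H7.CanDual

section HomLen

variable {R : Type u} [CommRing R] (E : Type u) [AddCommGroup E] [Module R E]
  [Module.Injective R E]

theorem length_hom_eq_add {N : Type u} [AddCommGroup N] [Module R N] (N' : Submodule R N) :
    Module.length R (N →ₗ[R] E) =
      Module.length R ((N ⧸ N') →ₗ[R] E) + Module.length R (↥N' →ₗ[R] E) := by
  let f : ((N ⧸ N') →ₗ[R] E) →ₗ[R] (N →ₗ[R] E) := LinearMap.lcomp R E N'.mkQ
  let g : (N →ₗ[R] E) →ₗ[R] (↥N' →ₗ[R] E) := LinearMap.lcomp R E N'.subtype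
  have hf : Function.Injective f := by
    intro a b hab
    apply LinearMap.ext
    intro q
    obtain ⟨n, rfl⟩ := Submodule.Quotient.mk_surjective _ q
    exact LinearMap.congr_fun hab n
  have hg : Function.Surjective g := by
    intro φ
    obtain ⟨h, hh⟩ := Module.Injective.extension_property R E ↥N' N N'.subtype
      (Submodule.injective_subtype _) φ
    exact ⟨h, hh⟩
  have hex : Function.Exact f g := by
    intro φ
    constructor
    · intro hφ
      have hker : N' ≤ LinearMap.ker φ := by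
        intro n hn
        rw [LinearMap.mem_ker]
        exact LinearMap.congr_fun hφ ⟨n, hn⟩
      refine ⟨N'.liftQ φ hker, ?_⟩
      apply LinearMap.ext
      intro n
      rfl
    · rintro ⟨ψ, rfl⟩
      apply LinearMap.ext
      intro n
      show ψ (N'.mkQ n.1) = 0
      rw [Submodule.mkQ_apply, (Submodule.Quotient.mk_eq_zero _).mpr n.2, map_zero]
  exact Module.length_eq_add_of_exact f g hf hg hex

variable [IsLocalRing R]

/-- `length Hom (N, E) = r * length N` where `r = length Hom (k, E)`. -/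
theorem length_hom_eq_mul {N : Type u} [AddCommGroup N] [Module R N] (hN : IsFiniteLength R N) :
    Module.length R (N →ₗ[R] E) =
      Module.length R ((R ⧸ IsLocalRing.maximalIdeal R) →ₗ[R] E) * Module.length R N := by
  induction hN with
  | @of_subsingleton M _ _ _ =>
    haveI : Subsingleton (M →ₗ[R] E) :=
      ⟨fun a b => LinearMap.ext fun x => by rw [Subsingleton.elim x 0, map_zero, map_zero]⟩
    rw [Module.length_eq_zero (M := M →ₗ[R] E), Module.length_eq_zero (M := M), mul_zero]
  | @of_simple_quotient M _ _ N' _ _ ih =>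
    rw [length_hom_eq_add E N', ih]
    obtain ⟨I, hI, ⟨e⟩⟩ := isSimpleModule_iff_quot_maximal.mp (inferInstance : IsSimpleModule R (M ⧸ N'))
    have hIm : I = IsLocalRing.maximalIdeal R := IsLocalRing.eq_maximalIdeal hI
    subst hIm
    have h1 : Module.length R ((M ⧸ N') →ₗ[R] E) =
        Module.length R ((R ⧸ IsLocalRing.maximalIdeal R) →ₗ[R] E) :=
      (LinearEquiv.arrowCongr e (LinearEquiv.refl R E)).length_eq
    have h2 : Module.length R M = Module.length R ↥N' + Module.length R (M ⧸ N') :=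
      Module.length_eq_add_of_exact N'.subtype N'.mkQ (Submodule.injective_subtype _)
        (Submodule.mkQ_surjective _) (LinearMap.exact_subtype_mkQ _)
    have h3 : Module.length R (M ⧸ N') = 1 := Module.length_eq_one_iff.mpr inferInstance
    rw [h1, h2, h3, mul_add, mul_one, add_comm]

end HomLen

section Frac

variable {O : Type u} [CommRing O] [IsDomain O] {K : Type u} [Field K] [Algebra O K]
  [IsFractionRing O K]

/-- multiplication by `y` on submodules of `K` -/
noncomputable def sc (y : K) (L : Submodule O K) : Submodule O K := L.map (LinearMap.mulLeft O y)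

theorem mem_sc {y z : K} {L : Submodule O K} : z ∈ sc y L ↔ ∃ l ∈ L, y * l = z := by
  unfold sc
  rw [Submodule.mem_map]
  rfl

theorem mem_sc_iff {y z : K} (hy : y ≠ 0) {L : Submodule O K} : z ∈ sc y L ↔ y⁻¹ * z ∈ L := by
  rw [mem_sc]
  constructor
  · rintro ⟨l, hl, rfl⟩
    rwa [← mul_assoc, inv_mul_cancel₀ hy, one_mul]
  · intro h
    exact ⟨_, h, by rw [← mul_assoc, mul_inv_cancel₀ hy, one_mul]⟩

theorem mulLeft_injective {y : K} (hy : y ≠ 0) : Function.Injective (LinearMap.mulLeft O y) := by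
  intro a b hab
  exact mul_left_cancel₀ hy hab

theorem sc_sc (y z : K) (L : Submodule O K) : sc y (sc z L) = sc (y * z) L := by
  ext w
  simp only [mem_sc]
  constructor
  · rintro ⟨l, ⟨m, hm, rfl⟩, rfl⟩
    exact ⟨m, hm, by rw [mul_assoc]⟩
  · rintro ⟨m, hm, rfl⟩
    exact ⟨z * m, ⟨m, hm, rfl⟩, by rw [mul_assoc]⟩

theorem sc_one (L : Submodule O K) : sc (1 : K) L = L := by
  ext w
  simp [mem_sc]

theorem sc_mono (y : K) {L L' : Submodule O K} (h : L ≤ L') : sc y L ≤ sc y L' :=
  Submodule.map_mono h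

theorem sc_fg (y : K) {L : Submodule O K} (h : L.FG) : (sc y L).FG := h.map _

theorem sc_ne_bot {y : K} (hy : y ≠ 0) {L : Submodule O K} (h : L ≠ ⊥) : sc y L ≠ ⊥ := by
  intro h0
  apply h
  rw [eq_bot_iff]
  intro l hl
  have : y * l ∈ sc y L := mem_sc.mpr ⟨l, hl, rfl⟩
  rw [h0, Submodule.mem_bot] at this
  rcases mul_eq_zero.mp this with h1 | h1
  · exact absurd h1 hy
  · exact h1

theorem relLen_sc {y : K} (hy : y ≠ 0) (A B : Submodule O K) :
    relLen (sc y A) (sc y B) = relLen A B :=
  relLen_map _ (mulLeft_injective hy) A B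

theorem div_sc (ω : Submodule O K) {y : K} (hy : y ≠ 0) (I : Submodule O K) :
    ω / sc y I = sc y⁻¹ (ω / I) := by
  ext z
  rw [mem_sc_iff (inv_ne_zero hy), inv_inv, Submodule.mem_div_iff_forall_mul_mem,
    Submodule.mem_div_iff_forall_mul_mem]
  constructor
  · intro h i hi
    have := h (y * i) (mem_sc.mpr ⟨i, hi, rfl⟩)
    rw [mul_left_comm] at this
    rwa [mul_assoc]
  · intro h w hw
    obtain ⟨i, hi, rfl⟩ := mem_sc.mp hw
    rw [mul_left_comm, ← mul_assoc]
    exact h i hi

theorem div_one' (ω : Submodule O K) : ω / (1 : Submodule O K) = ω := by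
  ext z
  rw [Submodule.mem_div_iff_forall_mul_mem]
  constructor
  · intro h
    have := h 1 (Submodule.one_le.mp le_rfl)
    rwa [mul_one] at this
  · intro hz w hw
    obtain ⟨a, rfl⟩ := Submodule.mem_one.mp hw
    rw [mul_comm, ← Algebra.smul_def]
    exact ω.smul_mem a hz

theorem le_div_div (ω X : Submodule O K) : X ≤ ω / (ω / X) := by
  rw [Submodule.le_div_iff]
  intro x hx z hz
  rw [mul_comm]
  exact Submodule.mem_div_iff_forall_mul_mem.mp hz x hx

theorem div_anti (ω : Submodule O K) {I J : Submodule O K} (h : J ≤ I) : ω / I ≤ ω / J := by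
  intro z hz
  rw [Submodule.mem_div_iff_forall_mul_mem] at hz ⊢
  exact fun j hj => hz j (h hj)

/-- a common denominator -/
theorem exists_sc_le_one {I : Submodule O K} (hI : I.FG) :
    ∃ d : O, d ≠ 0 ∧ sc (algebraMap O K d) I ≤ 1 := by
  obtain ⟨d, hd, hdI⟩ := FractionalIdeal.isFractional_of_fg (S := nonZeroDivisors O) hI
  refine ⟨d, nonZeroDivisors.ne_zero hd, ?_⟩
  intro z hz
  obtain ⟨i, hi, rfl⟩ := mem_sc.mp hz
  obtain ⟨a, ha⟩ := hdI i hi
  rw [Submodule.mem_one]
  exact ⟨a, by rw [ha, Algebra.smul_def]⟩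

theorem algebraMap_ne_zero {d : O} (hd : d ≠ 0) : algebraMap O K d ≠ 0 := by
  intro h0
  exact hd ((IsFractionRing.injective O K) (h0.trans (map_zero _).symm))

theorem fg_one' : (1 : Submodule O K).FG := by
  rw [Submodule.one_eq_span]
  exact Submodule.fg_span_singleton _

variable [IsNoetherianRing O] [Ring.KrullDimLE 1 O]

/-- quotients of lattices have finite length -/
theorem relLen_ne_top {I J : Submodule O K} (hI : I.FG) (hJ : J ≠ ⊥) : relLen J I ≠ ⊤ := by
  obtain ⟨d, hd, hdI⟩ := exists_sc_le_one hI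
  obtain ⟨j, hjJ, hj0⟩ := (Submodule.ne_bot_iff J).mp hJ
  obtain ⟨n, s, hs, hns⟩ := IsFractionRing.div_surjective (A := O) j
  have hs0 : algebraMap O K s ≠ 0 := algebraMap_ne_zero (nonZeroDivisors.ne_zero hs)
  have hn0 : n ≠ 0 := by
    rintro rfl
    rw [map_zero, zero_div] at hns
    exact hj0 hns.symm
  have hnJ : algebraMap O K n ∈ J := by
    have : algebraMap O K n = s • j := by
      rw [Algebra.smul_def, ← hns]
      field_simp
    rw [this]
    exact J.smul_mem s hjJ
  have hkill : ∀ i ∈ I, (n * d) • i ∈ J := by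
    intro i hi
    obtain ⟨a, ha⟩ := Submodule.mem_one.mp (hdI (mem_sc.mpr ⟨i, hi, rfl⟩))
    have : (n * d) • i = a • algebraMap O K n := by
      rw [Algebra.smul_def, Algebra.smul_def, ha, map_mul]
      ring
    rw [this]
    exact J.smul_mem a hnJ
  unfold relLen
  rw [Module.length_ne_top_iff]
  haveI : Module.Finite O ↥I := Module.Finite.iff_fg.mpr hI
  refine Groth.Agent.Lib.Helper15DvrLen.isFiniteLength_of_smul_eq_zero (R := O) (x := n * d)
    (mem_nonZeroDivisors_of_ne_zero (mul_ne_zero hn0 hd)) ?_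
  intro q
  obtain ⟨i, rfl⟩ := Submodule.Quotient.mk_surjective _ q
  rw [← Submodule.Quotient.mk_smul, Submodule.Quotient.mk_eq_zero]
  exact hkill i.1 i.2

/-- Herbrand quotient of a rank one lattice -/
theorem relLen_sc_self {L : Submodule O K} (hL : L.FG) (hL0 : L ≠ ⊥) {x : O} (hx : x ≠ 0) :
    relLen (sc (algebraMap O K x) L) L =
      relLen (sc (algebraMap O K x) (1 : Submodule O K)) 1 := by
  obtain ⟨d, hd, hdL⟩ := exists_sc_le_one hL
  have hd' := algebraMap_ne_zero (K := K) hd
  have hx' := algebraMap_ne_zero (K := K) hx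
  set 𝔞 := sc (algebraMap O K d) L with h𝔞
  have h𝔞fg : 𝔞.FG := sc_fg _ hL
  have h𝔞0 : 𝔞 ≠ ⊥ := sc_ne_bot hd' hL0
  have hint : ∀ (L' : Submodule O K), sc (algebraMap O K x) L' ≤ L' := by
    intro L' z hz
    obtain ⟨l, hl, rfl⟩ := mem_sc.mp hz
    rw [← Algebra.smul_def]
    exact L'.smul_mem x hl
  have h1 : relLen (sc (algebraMap O K x) L) L = relLen (sc (algebraMap O K x) 𝔞) 𝔞 := by
    rw [h𝔞, sc_sc, mul_comm, ← sc_sc, relLen_sc hd']
  rw [h1]
  have e1 : relLen (sc (algebraMap O K x) 𝔞) 1 =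
      relLen (sc (algebraMap O K x) 𝔞) 𝔞 + relLen 𝔞 1 := relLen_add (hint 𝔞) hdL
  have e2 : relLen (sc (algebraMap O K x) 𝔞) 1 =
      relLen (sc (algebraMap O K x) 𝔞) (sc (algebraMap O K x) 1) +
        relLen (sc (algebraMap O K x) (1 : Submodule O K)) 1 :=
    relLen_add (sc_mono _ hdL) (hint 1)
  rw [relLen_sc hx'] at e2
  have hfin : relLen 𝔞 (1 : Submodule O K) ≠ ⊤ :=
    relLen_ne_top fg_one' h𝔞0
  rw [e1, add_comm] at e2
  exact WithTop.add_left_cancel hfin e2

end Frac

end Groth.Agent.Lib.R2H7.CanDual
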