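import Mathlib
import Groth.Agent.Lib.R2H7CanDualB

/-!
# Duality for fractional ideals with respect to a canonical ideal (part C)

The main theorems: `length_hom_eq` (Matlis-type duality for `K ⧸ ω`), `relLen_div_div`
(`length ((ω : J) / (ω : I)) = length (I / J)`), `div_div_eq` (`ω : (ω : I) = I`) and `div_self_eq`
(`ω : ω = O`).
-/

set_option autoImplicit false
set_option linter.style.haveILetI false
set_option linter.unusedSectionVars false
universe u

namespace Groth.Agent.Lib.R2H7.CanDual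

variable {O : Type u} [CommRing O] [IsDomain O] [IsNoetherianRing O] [IsLocalRing O]
  [Ring.KrullDimLE 1 O] {K : Type u} [Field K] [Algebra O K] [IsFractionRing O K]
  (ω : Submodule O K) [Module.Injective O (K ⧸ ω)]

theorem enat_eq_one_of_eq_mul {a r : ℕ∞} (h0 : a ≠ 0) (ht : a ≠ ⊤) (h : a = r * a) : r = 1 := by
  lift a to ℕ using ht
  induction r using ENat.recTopCoe with
  | top =>
    rw [ENat.top_mul h0] at h
    exact absurd h (ENat.coe_ne_top a)
  | coe n =>
    have h' : a = n * a := by exact_mod_cast h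
    have ha : a ≠ 0 := by exact_mod_cast h0
    have : n = 1 := by
      have h2 : 1 * a = n * a := by rw [one_mul]; exact h'
      exact (Nat.eq_of_mul_eq_mul_right (Nat.pos_of_ne_zero ha) h2).symm
    rw [this]
    rfl

include ω in
/-- the socle of `K ⧸ ω` is one-dimensional -/
theorem length_hom_residue (hnf : ¬ IsField O) (hωfg : ω.FG) (hω0 : ω ≠ ⊥) :
    Module.length O ((O ⧸ IsLocalRing.maximalIdeal O) →ₗ[O] (K ⧸ ω)) = 1 := by
  obtain ⟨x, hxm, hx0⟩ : ∃ x ∈ IsLocalRing.maximalIdeal O, x ≠ 0 := by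
    by_contra hcon
    push Not at hcon
    apply hnf
    rw [IsLocalRing.isField_iff_maximalIdeal_eq, eq_bot_iff]
    intro y hy
    exact hcon y hy
  have hx' := algebraMap_ne_zero (K := K) hx0
  set J := sc (algebraMap O K x) (1 : Submodule O K) with hJ
  have hJ1 : J ≤ 1 := by
    intro z hz
    obtain ⟨l, hl, rfl⟩ := mem_sc.mp hz
    rw [← Algebra.smul_def]
    exact Submodule.smul_mem _ x hl
  have hJ0 : J ≠ ⊥ := sc_ne_bot hx' (by
    intro h
    have : (1 : K) ∈ (1 : Submodule O K) := Submodule.one_le.mp le_rfl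
    rw [h, Submodule.mem_bot] at this
    exact one_ne_zero this)
  -- the duality
  have h1 := relLen_div_eq ω 1 J fg_one' hJ1
  have hfl : IsFiniteLength O (↥(1 : Submodule O K) ⧸ J.comap (1 : Submodule O K).subtype) := by
    rw [← Module.length_ne_top_iff]
    exact relLen_ne_top fg_one' hJ0
  rw [length_hom_eq_mul (K ⧸ ω) hfl] at h1
  -- the left side
  have h2 : relLen (ω / 1) (ω / J) = relLen J 1 := by
    rw [hJ, div_sc ω hx', div_one', ← relLen_sc hx' ω, sc_sc, mul_inv_cancel₀ hx', sc_one]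
    exact relLen_sc_self hωfg hω0 hx0
  rw [h2] at h1
  have hne0 : relLen J (1 : Submodule O K) ≠ 0 := by
    intro h0
    have hle := le_of_relLen_eq_zero h0
    have h1J : (1 : K) ∈ J := hle (Submodule.one_le.mp le_rfl)
    obtain ⟨l, hl, hl1⟩ := mem_sc.mp h1J
    obtain ⟨a, rfl⟩ := Submodule.mem_one.mp hl
    rw [← map_mul] at hl1
    have : x * a = 1 := (IsFractionRing.injective O K) (hl1.trans (map_one _).symm)
    exact (IsLocalRing.maximalIdeal O).ne_top_iff_one.mp (IsLocalRing.maximalIdeal.isMaximal O).ne_top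
      (this ▸ Ideal.mul_mem_right a _ hxm)
  exact enat_eq_one_of_eq_mul hne0 (relLen_ne_top fg_one' hJ0) h1

include ω in
/-- Matlis-type duality for `K ⧸ ω` -/
theorem length_hom_eq (hnf : ¬ IsField O) (hωfg : ω.FG) (hω0 : ω ≠ ⊥) {N : Type u}
    [AddCommGroup N] [Module O N] (hN : IsFiniteLength O N) :
    Module.length O (N →ₗ[O] (K ⧸ ω)) = Module.length O N := by
  rw [length_hom_eq_mul (K ⧸ ω) hN, length_hom_residue ω hnf hωfg hω0, one_mul]

/-- `length ((ω : J) / (ω : I)) = length (I / J)` -/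
theorem relLen_div_div (hnf : ¬ IsField O) (hωfg : ω.FG) (hω0 : ω ≠ ⊥) {I J : Submodule O K}
    (hI : I.FG) (hJ0 : J ≠ ⊥) (hJI : J ≤ I) : relLen (ω / I) (ω / J) = relLen J I := by
  rw [relLen_div_eq ω I J hI hJI]
  have hfl : IsFiniteLength O (↥I ⧸ J.comap I.subtype) := by
    rw [← Module.length_ne_top_iff]
    exact relLen_ne_top hI hJ0
  exact length_hom_eq ω hnf hωfg hω0 hfl

omit [Module.Injective O (K ⧸ ω)] in
theorem div_ne_bot (hω0 : ω ≠ ⊥) {I : Submodule O K} (hI : I.FG) : ω / I ≠ ⊥ := by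
  obtain ⟨d, hd, hdI⟩ := exists_sc_le_one hI
  obtain ⟨w, hw, hw0⟩ := (Submodule.ne_bot_iff ω).mp hω0
  have hd' := algebraMap_ne_zero (K := K) hd
  intro h
  have hmem : w * algebraMap O K d ∈ ω / I := by
    rw [Submodule.mem_div_iff_forall_mul_mem]
    intro i hi
    obtain ⟨a, ha⟩ := Submodule.mem_one.mp (hdI (mem_sc.mpr ⟨i, hi, rfl⟩))
    rw [mul_assoc, ← ha, mul_comm, ← Algebra.smul_def]
    exact ω.smul_mem a hw
  rw [h, Submodule.mem_bot] at hmem
  rcases mul_eq_zero.mp hmem with h1 | h1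
  · exact hw0 h1
  · exact hd' h1

omit [Module.Injective O (K ⧸ ω)] in
theorem div_fg (hωfg : ω.FG) {I : Submodule O K} (hI0 : I ≠ ⊥) : (ω / I).FG := by
  obtain ⟨i, hi, hi0⟩ := (Submodule.ne_bot_iff I).mp hI0
  refine (sc_fg i⁻¹ hωfg).of_le ?_
  intro z hz
  rw [mem_sc_iff (inv_ne_zero hi0), inv_inv, mul_comm]
  exact Submodule.mem_div_iff_forall_mul_mem.mp hz i hi

/-- reflexivity: `ω : (ω : I) = I` -/
theorem div_div_eq (hnf : ¬ IsField O) (hωfg : ω.FG) (hω0 : ω ≠ ⊥) {I : Submodule O K}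
    (hI : I.FG) (hI0 : I ≠ ⊥) : ω / (ω / I) = I := by
  apply le_antisymm _ (le_div_div ω I)
  have hfg'' : (ω / (ω / I)).FG := div_fg ω hωfg (div_ne_bot ω hω0 hI)
  have h1 := relLen_div_div ω hnf hωfg hω0 hfg'' hI0 (le_div_div ω I)
  have h2 : relLen (ω / (ω / (ω / I))) (ω / I) = 0 :=
    relLen_eq_zero_of_le (le_div_div ω (ω / I))
  rw [h2] at h1
  exact le_of_relLen_eq_zero h1.symm

/-- `ω : ω = O` -/
theorem div_self_eq (hnf : ¬ IsField O) (hωfg : ω.FG) (hω0 : ω ≠ ⊥) :
    ω / ω = (1 : Submodule O K) := by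
  have h := div_div_eq ω hnf hωfg hω0 (I := 1) fg_one' (by
    intro h
    have : (1 : K) ∈ (1 : Submodule O K) := Submodule.one_le.mp le_rfl
    rw [h, Submodule.mem_bot] at this
    exact one_ne_zero this)
  rwa [div_one'] at h

end Groth.Agent.Lib.R2H7.CanDual
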