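import Mathlib
import Groth.Agent.Lib.R2H7CanDualC

/-!
# Duality for fractional ideals with respect to a canonical ideal (part D)

From `HasInjectiveDimensionLT ω 2` to injectivity of `K ⧸ ω`, and the formula
`length (ω / O) + length (Ā / 𝔠) = 2 length (Ā / O)` (S15008).
-/

set_option autoImplicit false
set_option linter.style.haveILetI false
set_option linter.unusedSectionVars false
universe u

open CategoryTheory CategoryTheory.Abelian

namespace Groth.Agent.Lib.R2H7.CanDual

variable {O : Type u} [CommRing O] [IsDomain O] {K : Type u} [Field K] [Algebra O K]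
  [IsFractionRing O K]

/-- the fraction field is an injective module -/
theorem injective_fractionField : Module.Injective O K := by
  apply Module.Baer.injective
  intro I g
  by_cases hI : ∃ i₀ : ↥I, i₀ ≠ 0
  · obtain ⟨i₀, hi₀⟩ := hI
    have hi₀' : algebraMap O K i₀.1 ≠ 0 := algebraMap_ne_zero (fun h => hi₀ (Subtype.ext h))
    refine ⟨LinearMap.toSpanSingleton O K (g i₀ / algebraMap O K i₀.1), fun x hx => ?_⟩
    rw [LinearMap.toSpanSingleton_apply]
    have h1 : i₀.1 • g ⟨x, hx⟩ = x • g i₀ := by
      rw [← map_smul, ← map_smul]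
      congr 1
      apply Subtype.ext
      show i₀.1 * x = x * i₀.1
      ring
    rw [Algebra.smul_def, Algebra.smul_def] at h1
    rw [Algebra.smul_def]
    field_simp
    linear_combination (-1 : K) * h1
  · push Not at hI
    refine ⟨0, fun x hx => ?_⟩
    rw [hI ⟨x, hx⟩, map_zero, LinearMap.zero_apply]

/-- the short exact sequence `0 → ω → K → K ⧸ ω → 0` -/
noncomputable def sesω (ω : Submodule O K) : ShortComplex (ModuleCat.{u} O) :=
  ShortComplex.mk (ModuleCat.ofHom ω.subtype) (ModuleCat.ofHom ω.mkQ) (by
    ext x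
    show ω.mkQ x.1 = 0
    simp)

theorem sesω_shortExact (ω : Submodule O K) : (sesω ω).ShortExact := by
  refine ShortComplex.ShortExact.mk' ?_ ?_ ?_
  · rw [ShortComplex.moduleCat_exact_iff]
    intro x hx
    have hx' : (Submodule.Quotient.mk (show K from x) : K ⧸ ω) = 0 := hx
    exact ⟨⟨x, (Submodule.Quotient.mk_eq_zero _).mp hx'⟩, rfl⟩
  · exact (ModuleCat.mono_iff_injective _).mpr (Submodule.injective_subtype _)
  · exact (ModuleCat.epi_iff_surjective _).mpr (Submodule.mkQ_surjective _)

theorem injective_quot_of_injDim (ω : Submodule O K)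
    (h : HasInjectiveDimensionLT (ModuleCat.of O ↥ω) 2) : Module.Injective O (K ⧸ ω) := by
  haveI : Module.Injective O K := injective_fractionField
  have hK : Injective (ModuleCat.of O K) := Module.injective_object_of_injective_module O K
  have h3 : HasInjectiveDimensionLT (sesω ω).X₃ 1 :=
    ((sesω_shortExact ω).hasInjectiveDimensionLT_X₃_iff 0 hK).mpr h
  have : Injective (ModuleCat.of O (K ⧸ ω)) := by
    have : Injective (sesω ω).X₃ := inferInstance
    exact this
  exact Module.injective_module_of_injective_object O (K ⧸ ω)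

omit [IsFractionRing O K] [IsDomain O] in
/-- the conductor ideal times the overring is the conductor as a submodule of `K` -/
theorem colon_smul_top_eq (A : Subalgebra O K) :
    ((1 : Submodule O K).colon (Subalgebra.toSubmodule A : Set K)) • (⊤ : Submodule O ↥A) =
      Submodule.comap A.val.toLinearMap ((1 : Submodule O K) / Subalgebra.toSubmodule A) := by
  apply le_antisymm
  · rw [Submodule.smul_le]
    intro c hc a _
    rw [Submodule.mem_comap, Submodule.mem_div_iff_forall_mul_mem]
    intro b hb
    show (c • a.1) * b ∈ (1 : Submodule O K)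
    rw [smul_mul_assoc]
    exact Submodule.mem_colon.mp hc _ (A.mul_mem a.2 hb)
  · intro z hz
    rw [Submodule.mem_comap, Submodule.mem_div_iff_forall_mul_mem] at hz
    have h1 := hz 1 A.one_mem
    rw [mul_one] at h1
    obtain ⟨c, hc⟩ := Submodule.mem_one.mp h1
    have hcC : c ∈ (1 : Submodule O K).colon (Subalgebra.toSubmodule A : Set K) := by
      rw [Submodule.mem_colon]
      intro p hp
      rw [Algebra.smul_def, hc]
      exact hz p hp
    have hz1 : z = c • (1 : ↥A) := by
      apply Subtype.ext
      show z.1 = c • (1 : K)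
      rw [Algebra.smul_def, mul_one, hc]
      rfl
    rw [hz1]
    exact Submodule.smul_mem_smul hcC Submodule.mem_top

section Main

variable [IsNoetherianRing O] [IsLocalRing O]

theorem krullDimLE_one_of_dim (hdim : ringKrullDim O = 1) : Ring.KrullDimLE 1 O := by
  rw [Ring.krullDimLE_iff, hdim]
  rfl

theorem not_isField_of_dim (hdim : ringKrullDim O = 1) : ¬ IsField O := by
  intro h
  rw [ringKrullDim_eq_zero_of_isField h] at hdim
  exact zero_ne_one hdim

/-- the conductor computed inside `ω` -/
theorem one_div_eq_div {ω : Submodule O K} (hωω : ω / ω = 1) (hω1 : (1 : Submodule O K) ≤ ω)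
    (A : Subalgebra O K) (hωA : ω ≤ Subalgebra.toSubmodule A) :
    (1 : Submodule O K) / Subalgebra.toSubmodule A = ω / Subalgebra.toSubmodule A := by
  ext z
  rw [Submodule.mem_div_iff_forall_mul_mem, Submodule.mem_div_iff_forall_mul_mem]
  constructor
  · intro h a ha
    exact hω1 (h a ha)
  · intro h a ha
    rw [← hωω, Submodule.mem_div_iff_forall_mul_mem]
    intro w hw
    rw [mul_assoc]
    exact h (a * w) (A.mul_mem ha (hωA hw))

theorem main15008 (hdim : ringKrullDim O = 1)
    (hfin : Module.Finite O ↥(integralClosure O K)) (ω : Submodule O K)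
    (hω1 : (1 : Submodule O K) ≤ ω)
    (hω2 : ω ≤ Subalgebra.toSubmodule (integralClosure O K))
    (hωinj : HasInjectiveDimensionLT (ModuleCat.of O ↥ω) 2) :
    relLen 1 ω +
      relLen ((1 : Submodule O K) / Subalgebra.toSubmodule (integralClosure O K))
        (Subalgebra.toSubmodule (integralClosure O K)) =
      2 * relLen 1 (Subalgebra.toSubmodule (integralClosure O K)) := by
  haveI := krullDimLE_one_of_dim hdim
  have hnf := not_isField_of_dim hdim
  haveI := injective_quot_of_injDim ω hωinj
  set Ab := Subalgebra.toSubmodule (integralClosure O K) with hAb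
  have hAbfg : Ab.FG := Module.Finite.iff_fg.mp hfin
  have hωfg : ω.FG := hAbfg.of_le hω2
  have h1mem : (1 : K) ∈ ω := hω1 (Submodule.one_le.mp le_rfl)
  have hω0 : ω ≠ ⊥ := by
    intro h
    rw [h, Submodule.mem_bot] at h1mem
    exact one_ne_zero h1mem
  have hωω := div_self_eq ω hnf hωfg hω0
  rw [one_div_eq_div hωω hω1 _ hω2]
  have hc1 : ω / Ab ≤ 1 := by
    rw [← hωω]
    exact div_anti ω hω2
  have e1 : relLen (ω / Ab) Ab = relLen (ω / Ab) 1 + relLen 1 Ab :=
    relLen_add hc1 (hω1.trans hω2)
  have e2 : relLen 1 Ab = relLen 1 ω + relLen ω Ab := relLen_add hω1 hω2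
  have e3 : relLen (ω / Ab) (ω / ω) = relLen ω Ab :=
    relLen_div_div ω hnf hωfg hω0 hAbfg hω0 hω2
  rw [hωω] at e3
  rw [e1, e3, two_mul]
  nth_rewrite 2 [e2]
  ring

end Main

end Groth.Agent.Lib.R2H7.CanDual
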