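import Mathlib
import Groth.Agent.Lib.R2H7CanDualD
import Groth.Agent.Lib.R2H7CanDualPSA

/-!
# Value sets of duals with respect to a canonical ideal (S19528, S15022)

`A ⊆ k⟦t⟧` closed with finite normalization and conductor `c`, `ω ⊆ k⟦t⟧` a canonical ideal
containing `1`, `M ⊆ k⟦t⟧` a finitely generated `A`-submodule containing `1`.  Then the value set
of `ω : M` is `{n | c ≤ n ∨ c - 1 - n ∉ v(M)}`.
-/

set_option autoImplicit false
set_option linter.style.haveILetI false
set_option linter.unusedSectionVars false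
universe u

open CategoryTheory CategoryTheory.Abelian

namespace Groth.Agent.Lib.R2H7.CanDualPS

open PowerSeries Groth.Agent.Lib.R2H7 Groth.Agent.Lib.R2H7.CanDual

variable {k : Type u} [Field k] {A : Subalgebra k (PowerSeries k)}

/-- the fraction field of `k⟦t⟧` -/
abbrev KK (k : Type u) [Field k] := FractionRing (PowerSeries k)

/-- the inclusion `k⟦t⟧ → Frac k⟦t⟧` as an `A`-linear map -/
noncomputable def ι (A : Subalgebra k (PowerSeries k)) : PowerSeries k →ₗ[↥A] KK k :=
  (IsScalarTower.toAlgHom ↥A (PowerSeries k) (KK k)).toLinearMap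

theorem ι_apply (p : PowerSeries k) : ι A p = algebraMap (PowerSeries k) (KK k) p := rfl

theorem ι_injective : Function.Injective (ι A) := fun a b h =>
  IsFractionRing.injective (PowerSeries k) (KK k) h

theorem ι_mul (p q : PowerSeries k) : ι A (p * q) = ι A p * ι A q := by
  rw [ι_apply, ι_apply, ι_apply, map_mul]

theorem ι_mem_map {S : Submodule ↥A (PowerSeries k)} {z : PowerSeries k} :
    ι A z ∈ S.map (ι A) ↔ z ∈ S := by
  constructor
  · rintro ⟨z', hz', h⟩
    exact (ι_injective h) ▸ hz'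
  · exact fun h => Submodule.mem_map_of_mem h

theorem order_eq_of_add {m₀ : ℕ} {x y : PowerSeries k} (h : X ^ m₀ = x + y)
    (hy : ((m₀ + 1 : ℕ) : ℕ∞) ≤ order y) : order x = m₀ := by
  have hx : x = X ^ m₀ - y := by rw [h]; ring
  rw [order_eq_nat]
  constructor
  · rw [hx, map_sub, coeff_X_pow_self, coeff_of_lt_order m₀ (lt_of_lt_of_le (by exact_mod_cast Nat.lt_succ_self m₀) hy),
      sub_zero]
    exact one_ne_zero
  · intro i hi
    rw [hx, map_sub, coeff_X_pow, if_neg (by omega),
      coeff_of_lt_order i (lt_of_lt_of_le (by exact_mod_cast (by omega : i < m₀ + 1)) hy), sub_zero]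

section Main

variable (hA : Module.Finite ↥A (PowerSeries k)) (hcl : IsClosedSub A)
  (Γ : Set ℕ) (hΓ : ∀ n : ℕ, n ∈ Γ ↔ ∃ f ∈ A, PowerSeries.order f = n)
  (c : ℕ) (hc : ∀ n : ℕ, c ≤ n → n ∈ Γ) (hc0 : c ≠ 0) (hc1 : c - 1 ∉ Γ)
  (ω : Submodule ↥A (PowerSeries k)) (hω1 : (1 : PowerSeries k) ∈ ω) (hωfg : ω.FG)
  (hωinj : HasInjectiveDimensionLT (ModuleCat.of ↥A ↥ω) 2)

include hA hcl hΓ hc hc0 hc1 hω1 hωfg hωinj

theorem main (M : Submodule ↥A (PowerSeries k)) (hM1 : (1 : PowerSeries k) ∈ M) (n : ℕ) :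
    (∃ u : PowerSeries k, PowerSeries.order u = n ∧ ∀ m ∈ M, u * m ∈ ω) ↔
      (c ≤ n ∨ ¬ ∃ m ∈ M, PowerSeries.order m = ((c - 1 - n : ℕ) : ℕ∞)) := by
  have hc' : ∀ n : ℕ, c ≤ n → ∃ f ∈ A, PowerSeries.order f = n := fun n h => (hΓ n).mp (hc n h)
  haveI : IsLocalRing ↥A := isLocalRing hcl
  haveI : IsNoetherianRing ↥A := isNoetherianRing hA hcl c hc'
  haveI : Ring.KrullDimLE 1 ↥A := krullDimLE_one hA
  haveI : IsFractionRing ↥A (KK k) := isFractionRing (KK k) hcl c hc'
  have hnf : ¬ IsField ↥A := not_isField hcl c hc0 hc'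
  -- membership facts
  have hAω : ∀ a ∈ A, a ∈ ω := by
    intro a ha
    have : a = (⟨a, ha⟩ : ↥A) • (1 : PowerSeries k) := by
      show a = a * 1
      rw [mul_one]
    rw [this]
    exact ω.smul_mem _ hω1
  have hcω : ∀ p : PowerSeries k, (c : ℕ∞) ≤ order p → p ∈ ω := fun p hp =>
    hAω p (mem_of_order_ge hcl c hc' p hp)
  have hkM : ∀ (S : Submodule ↥A (PowerSeries k)) (l : k) (x : PowerSeries k), x ∈ S →
      l • x ∈ S := by
    intro S l x hx
    have : l • x = (algebraMap k ↥A l) • x := by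
      rw [Algebra.smul_def, Algebra.smul_def]
      rfl
    rw [this]
    exact S.smul_mem _ hx
  by_cases hn : c ≤ n
  · -- large orders
    constructor
    · exact fun _ => Or.inl hn
    · intro _
      refine ⟨X ^ n, order_X_pow n, fun m _ => hcω _ ?_⟩
      rw [CurveMod.order_X_pow_mul]
      exact le_trans (by exact_mod_cast hn) le_self_add
  push Not at hn
  -- the dual lattices
  set ωK : Submodule ↥A (KK k) := ω.map (ι A) with hωK
  have hωKfg : ωK.FG := hωfg.map _
  have h1K : (1 : KK k) ∈ ωK := by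
    have := (ι_mem_map (A := A) (S := ω) (z := 1)).mpr hω1
    rwa [ι_apply, map_one] at this
  have hωK0 : ωK ≠ ⊥ := by
    intro h
    rw [h, Submodule.mem_bot] at h1K
    exact one_ne_zero h1K
  haveI : HasInjectiveDimensionLT (ModuleCat.of ↥A ↥ω) 2 := hωinj
  let eω : ↥ω ≃ₗ[↥A] ↥ωK := Submodule.equivMapOfInjective (ι A) ι_injective ω
  have isoω : ModuleCat.of ↥A ↥ω ≅ ModuleCat.of ↥A ↥ωK := eω.toModuleIso
  have hinjK : HasInjectiveDimensionLT (ModuleCat.of ↥A ↥ωK) 2 :=
    hasInjectiveDimensionLT_of_iso isoω 2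
  haveI : Module.Injective ↥A (KK k ⧸ ωK) := injective_quot_of_injDim ωK hinjK
  have hωω : ωK / ωK = 1 := div_self_eq ωK hnf hωKfg hωK0
  -- F1 : the conductor is exactly `t^c`
  have F1 : ∀ p : PowerSeries k, (∀ q : PowerSeries k, p * q ∈ ω) → (c : ℕ∞) ≤ order p := by
    intro p hp
    have hpA : ∀ q : PowerSeries k, p * q ∈ A := by
      intro q
      have hmem : ι A (p * q) ∈ ωK / ωK := by
        rw [Submodule.mem_div_iff_forall_mul_mem]
        rintro _ ⟨w, hw, rfl⟩
        rw [← ι_mul, ι_mem_map]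
        have h2 := hp (q * w)
        rwa [← mul_assoc] at h2
      rw [hωω] at hmem
      obtain ⟨a, ha⟩ := Submodule.mem_one.mp hmem
      have : p * q = a.1 := (ι_injective (A := A) (ha.symm.trans rfl)).symm ▸ rfl
      rw [this]
      exact a.2
    by_contra hlt
    push Not at hlt
    have hp0 : p ≠ 0 := by
      rintro rfl
      rw [order_zero] at hlt
      exact absurd hlt (not_lt.mpr le_top)
    obtain ⟨j, hj⟩ : ∃ j : ℕ, order p = j := by
      have : order p ≠ ⊤ := fun h => hp0 (order_eq_top.mp h)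
      exact ⟨(order p).toNat, (ENat.natCast_toNat this).symm⟩
    rw [hj] at hlt
    have hjc : j < c := by exact_mod_cast hlt
    obtain ⟨u, hu⟩ := CurveMod.exists_eq_X_pow_mul p j (le_of_eq hj.symm)
    have hu0 : order u = 0 := by
      have h1 : order p = (j : ℕ∞) + order u := by rw [hu, CurveMod.order_X_pow_mul]
      rw [hj] at h1
      have h2 : (j : ℕ∞) + 0 = (j : ℕ∞) + order u := by rw [add_zero]; exact h1
      exact (WithTop.add_left_cancel (ENat.natCast_ne_top j) h2).symm
    obtain ⟨v, huv⟩ := (CurveMod.isUnit_of_order_eq_zero u hu0).exists_right_inv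
    have hX : X ^ (c - 1) = p * (X ^ (c - 1 - j) * v) := by
      rw [hu]
      calc X ^ (c - 1) = X ^ (j + (c - 1 - j)) := by congr 1; omega
        _ = X ^ j * X ^ (c - 1 - j) * (u * v) := by rw [huv, mul_one, pow_add]
        _ = X ^ j * u * (X ^ (c - 1 - j) * v) := by ring
    apply hc1
    rw [hΓ]
    exact ⟨X ^ (c - 1), hX ▸ hpA _, order_X_pow _⟩
  -- the two lattices
  set m₀ := c - 1 - n with hm₀
  have hnm : n + m₀ + 1 = c := by omega
  set I : Submodule ↥A (PowerSeries k) := M ⊔ LinearMap.range (mulX A (m₀ + 1)) with hI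
  set J : Submodule ↥A (PowerSeries k) := M ⊔ LinearMap.range (mulX A m₀) with hJ
  have hIJ : I ≤ J := by
    apply sup_le le_sup_left
    intro p hp
    apply Submodule.mem_sup_right
    rw [mem_range_mulX] at hp ⊢
    exact le_trans (by exact_mod_cast Nat.le_succ m₀) hp
  have hJfg : (J.map (ι A)).FG := (submodule_fg hA hcl c hc' J).map _
  have hI0 : I.map (ι A) ≠ ⊥ := by
    intro h
    have h1 : ι A 1 ∈ I.map (ι A) := ι_mem_map.mpr (Submodule.mem_sup_left hM1)
    rw [h, Submodule.mem_bot, ι_apply, map_one] at h1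
    exact one_ne_zero h1
  have hdual := relLen_div_div ωK hnf hωKfg hωK0 hJfg hI0 (Submodule.map_mono hIJ)
  -- Claim A
  have claimA : relLen (I.map (ι A)) (J.map (ι A)) = 0 ↔
      ∃ m ∈ M, PowerSeries.order m = (m₀ : ℕ∞) := by
    constructor
    · intro h0
      have hle : J ≤ I := by
        intro z hz
        exact ι_mem_map.mp (le_of_relLen_eq_zero h0 (ι_mem_map.mpr hz))
      have hX : X ^ m₀ ∈ I :=
        hle (Submodule.mem_sup_right (mem_range_mulX.mpr (by rw [order_X_pow])))
      obtain ⟨x, hx, y, hy, hxy⟩ := Submodule.mem_sup.mp hX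
      exact ⟨x, hx, order_eq_of_add hxy.symm (mem_range_mulX.mp hy)⟩
    · rintro ⟨x, hx, hxord⟩
      apply relLen_eq_zero_of_le
      apply Submodule.map_mono
      apply sup_le le_sup_left
      intro p hp
      rw [mem_range_mulX] at hp
      obtain ⟨l, hl⟩ := CurveMod.exists_sub_smul_order_gt p x m₀ hp hxord
      have : p = l • x + (p - l • x) := by ring
      rw [this]
      exact Submodule.add_mem _ (Submodule.mem_sup_left (hkM M l x hx))
        (Submodule.mem_sup_right (mem_range_mulX.mpr hl))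
  -- Claim B
  have claimB : relLen (ωK / J.map (ι A)) (ωK / I.map (ι A)) = 0 ↔
      ¬ ∃ u : PowerSeries k, PowerSeries.order u = n ∧ ∀ m ∈ M, u * m ∈ ω := by
    constructor
    · intro h0
      rintro ⟨u, hun, huM⟩
      have hle := le_of_relLen_eq_zero h0
      have huI : ι A u ∈ ωK / I.map (ι A) := by
        rw [Submodule.mem_div_iff_forall_mul_mem]
        rintro _ ⟨i, hi, rfl⟩
        rw [← ι_mul, ι_mem_map]
        obtain ⟨x, hx, y, hy, rfl⟩ := Submodule.mem_sup.mp hi
        rw [mul_add]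
        refine ω.add_mem (huM x hx) (hcω _ ?_)
        rw [order_mul, hun]
        have := mem_range_mulX.mp hy
        calc (c : ℕ∞) = (n : ℕ∞) + ((m₀ + 1 : ℕ) : ℕ∞) := by rw [← hnm]; push_cast; ring
          _ ≤ (n : ℕ∞) + order y := by gcongr
      have huJ := hle huI
      rw [Submodule.mem_div_iff_forall_mul_mem] at huJ
      have h2 : (c : ℕ∞) ≤ order (u * X ^ m₀) := by
        apply F1
        intro q
        have h3 := huJ (ι A (X ^ m₀ * q))
          (ι_mem_map.mpr (Submodule.mem_sup_right ⟨q, rfl⟩))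
        rw [← ι_mul, ι_mem_map] at h3
        rwa [mul_assoc]
      rw [order_mul, hun, order_X_pow] at h2
      have : c ≤ n + m₀ := by exact_mod_cast h2
      omega
    · intro hno
      apply relLen_eq_zero_of_le
      intro z hz
      by_contra hzJ
      apply hno
      rw [Submodule.mem_div_iff_forall_mul_mem] at hz
      have hz1 := hz (ι A 1) (ι_mem_map.mpr (Submodule.mem_sup_left hM1))
      rw [ι_apply, map_one, mul_one] at hz1
      obtain ⟨u, huω, rfl⟩ := hz1
      have huI : ∀ i ∈ I, u * i ∈ ω := by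
        intro i hi
        have := hz (ι A i) (ι_mem_map.mpr hi)
        rwa [← ι_mul, ι_mem_map] at this
      have huM : ∀ m ∈ M, u * m ∈ ω := fun m hm => huI m (Submodule.mem_sup_left hm)
      refine ⟨u, ?_, huM⟩
      apply le_antisymm
      · -- order u ≤ n
        by_contra hgt
        push Not at hgt
        apply hzJ
        rw [Submodule.mem_div_iff_forall_mul_mem]
        rintro _ ⟨i, hi, rfl⟩
        rw [← ι_mul, ι_mem_map]
        obtain ⟨x, hx, y, hy, rfl⟩ := Submodule.mem_sup.mp hi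
        rw [mul_add]
        refine ω.add_mem (huM x hx) (hcω _ ?_)
        rw [order_mul]
        have hy' := mem_range_mulX.mp hy
        have hu' : ((n + 1 : ℕ) : ℕ∞) ≤ order u := Order.add_one_le_of_lt hgt
        calc (c : ℕ∞) = ((n + 1 : ℕ) : ℕ∞) + (m₀ : ℕ∞) := by rw [← hnm]; push_cast; ring
          _ ≤ order u + order y := add_le_add hu' hy'
      · -- n ≤ order u
        by_contra hlt
        push Not at hlt
        have hu0 : u ≠ 0 := by
          rintro rfl
          rw [order_zero] at hlt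
          exact absurd hlt (not_lt.mpr le_top)
        obtain ⟨j, hj⟩ : ∃ j : ℕ, order u = j := by
          have : order u ≠ ⊤ := fun h => hu0 (order_eq_top.mp h)
          exact ⟨(order u).toNat, (ENat.natCast_toNat this).symm⟩
        rw [hj] at hlt
        have hjn : j < n := by exact_mod_cast hlt
        have h2 : (c : ℕ∞) ≤ order (u * X ^ (m₀ + 1)) := by
          apply F1
          intro q
          rw [mul_assoc]
          exact huI _ (Submodule.mem_sup_right ⟨q, rfl⟩)
        rw [order_mul, hj, order_X_pow] at h2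
        have : c ≤ j + (m₀ + 1) := by exact_mod_cast h2
        omega
  -- conclusion
  constructor
  · intro hex
    right
    intro hm
    have h0 := claimA.mpr hm
    rw [← hdual] at h0
    exact (claimB.mp h0) hex
  · intro h
    rcases h with h | h
    · exact absurd h (not_le.mpr hn)
    · by_contra hno
      have h0 := claimB.mpr hno
      rw [hdual] at h0
      exact h (claimA.mp h0)

theorem main15022 (n : ℕ) :
    (∃ f ∈ ω, PowerSeries.order f = n) ↔ (c ≤ n ∨ c - 1 - n ∉ Γ) := by
  have hmemM : ∀ m : PowerSeries k, m ∈ Submodule.span ↥A {(1 : PowerSeries k)} ↔ m ∈ A := by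
    intro m
    rw [Submodule.mem_span_singleton]
    constructor
    · rintro ⟨a, rfl⟩
      show a.1 * 1 ∈ A
      rw [mul_one]
      exact a.2
    · intro hm
      exact ⟨⟨m, hm⟩, by show m * 1 = m; rw [mul_one]⟩
  have key := main hA hcl Γ hΓ c hc hc0 hc1 ω hω1 hωfg hωinj
    (Submodule.span ↥A {(1 : PowerSeries k)}) ((hmemM 1).mpr A.one_mem) n
  have h1 : (∃ f ∈ ω, PowerSeries.order f = n) ↔
      ∃ u : PowerSeries k, PowerSeries.order u = n ∧
        ∀ m ∈ Submodule.span ↥A {(1 : PowerSeries k)}, u * m ∈ ω := by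
    constructor
    · rintro ⟨f, hf, hfn⟩
      refine ⟨f, hfn, fun m hm => ?_⟩
      have hmA := (hmemM m).mp hm
      have : f * m = (⟨m, hmA⟩ : ↥A) • f := by
        show f * m = m * f
        ring
      rw [this]
      exact ω.smul_mem _ hf
    · rintro ⟨u, hun, hu⟩
      have := hu 1 ((hmemM 1).mpr A.one_mem)
      rw [mul_one] at this
      exact ⟨u, this, hun⟩
  have h2 : (∃ m ∈ Submodule.span ↥A {(1 : PowerSeries k)},
      PowerSeries.order m = ((c - 1 - n : ℕ) : ℕ∞)) ↔ c - 1 - n ∈ Γ := by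
    rw [hΓ]
    constructor
    · rintro ⟨m, hm, hmo⟩
      exact ⟨m, (hmemM m).mp hm, hmo⟩
    · rintro ⟨m, hm, hmo⟩
      exact ⟨m, (hmemM m).mpr hm, hmo⟩
  rw [h1, key, h2]

end Main

end Groth.Agent.Lib.R2H7.CanDualPS
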