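import Groth.Agent.Lib.R2H2LocCech
import Groth.Agent.Lib.R2H2StrandCech
import Groth.Agent.Lib.R2H7GrLES
import Groth.Agent.Lib.R2H7GrTors
import Groth.Agent.Lib.R2H7SegIdem
import Groth.Agent.Lib.R2H7GrKos

/-!
# The augmented strand Čech complex of a graded module (helper7, round 2)

For an `ℕ`-graded ring `A` (pieces `𝒜`) which is also `ℤ`-graded (pieces `𝒜z`, compatible: `Cmp`),
homogeneous elements `fs` and a `ℤ`-graded module, the *augmented* degree-`d` strand of the Čech
complex `M_d → ∏ (M_{f_i})_d → ∏ (M_{f_i f_j})_d → …`, its functoriality, the short exact sequence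
attached to a short exact sequence of graded modules and the resulting vanishing calculus.
-/

set_option autoImplicit false
set_option linter.unusedSectionVars false
universe u

namespace Groth.Agent.Lib.R2H7.CechLC

open CategoryTheory CategoryTheory.Limits Opposite
open Groth.Agent.Lib.Helper16.CechLow Groth.Agent.Lib.R2H2.LocPsh Groth.Agent.Lib.R2H2.CechCmp
  Groth.Agent.Lib.R2H2.Strand Groth.Agent.Lib.R2H2.StrandCech Groth.Agent.Lib.R2H2.LocCech

variable {R A : Type u} [CommRing R] [CommRing A] [Algebra R A] (𝒜 : ℕ → Submodule R A)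
  [GradedAlgebra 𝒜] (𝒜z : ℤ → AddSubgroup A) [GradedRing 𝒜z]

/-- compatibility of an `ℕ`-grading with a `ℤ`-grading of the same ring -/
structure Cmp : Prop where
  mem_iff : ∀ (i : ℕ) (a : A), a ∈ 𝒜 i ↔ a ∈ 𝒜z (i : ℤ)
  neg : ∀ (n : ℤ) (a : A), n < 0 → a ∈ 𝒜z n → a = 0

variable {𝒜 𝒜z} (hc : Cmp 𝒜 𝒜z)

include hc in
/-- the `ZGr` structure underlying a graded module -/
def zOf (X : GrLC.GMod.{u} 𝒜z) : ZGr 𝒜 X.carrier where
  pc := X.gr
  smul_mem := by
    intro i j a n ha hn
    have h := SetLike.GradedSMul.smul_mem (A := 𝒜z) (B := X.gr) ((hc.mem_iff i a).mp ha) hn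
    rwa [vadd_eq_add] at h
  internal := DirectSum.Decomposition.isInternal X.gr

include hc in
/-- the graded module attached to a `ZGr` structure -/
noncomputable def gmodOf (N : Type u) [AddCommGroup N] [Module A N] (G : ZGr 𝒜 N) :
    GrLC.GMod.{u} 𝒜z :=
  letI : DirectSum.Decomposition G.pc := G.internal.chooseDecomposition
  letI : SetLike.GradedSMul 𝒜z G.pc := ⟨by
    intro i j a n ha hn
    rw [vadd_eq_add]
    by_cases hi : i < 0
    · rw [hc.neg i a hi ha, zero_smul]
      exact zero_mem _
    · obtain ⟨k, rfl⟩ := Int.eq_ofNat_of_zero_le (not_lt.mp hi)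
      exact G.smul_mem ((hc.mem_iff k a).mpr ha) hn⟩
  { carrier := N, gr := G.pc }

theorem zOf_gmodOf (N : Type u) [AddCommGroup N] [Module A N] (G : ZGr 𝒜 N) :
    zOf hc (gmodOf hc N G) = G := rfl

section LES

variable {C : Type*} [Category C] [Abelian C] {S : ShortComplex (CochainComplex C ℕ)}
  (hS : S.ShortExact)

include hS

lemma isZero_mid (i : ℕ) (h1 : IsZero (S.X₁.homology i)) (h3 : IsZero (S.X₃.homology i)) :
    IsZero (S.X₂.homology i) :=
  (hS.homology_exact₂ i).isZero_of_both_isZero h1 h3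

lemma isZero_right (i : ℕ) (h2 : IsZero (S.X₂.homology i))
    (h1 : IsZero (S.X₁.homology (i + 1))) : IsZero (S.X₃.homology i) :=
  (hS.homology_exact₃ i (i + 1) rfl).isZero_of_both_isZero h2 h1

lemma isZero_left (i : ℕ) (h2 : IsZero (S.X₂.homology (i + 1)))
    (h3 : IsZero (S.X₃.homology i)) : IsZero (S.X₁.homology (i + 1)) :=
  (hS.homology_exact₁ i (i + 1) rfl).isZero_of_both_isZero h3 h2

end LES

section Aug

variable (fs : List A) {N : Type u} [AddCommGroup N] [Module A N] (G : ZGr 𝒜 N) (d : ℤ)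

/-- component of the augmentation `m ↦ m / 1` -/
noncomputable def rhoC {n : ℕ} (x : Fin (n + 1) → Idx fs) : G.pc d →+ strand G (SS fs x) d :=
  resHom (mkHom (SS fs x) 1) (G.pc d) (strand G (SS fs x) d)
    (fun _ hm => mk_mem_strand G (SS fs x) (s := 1) hm SetLike.GradedOne.one_mem (by simp))

lemma rhoC_coe {n : ℕ} (x : Fin (n + 1) → Idx fs) (m : G.pc d) :
    ((rhoC fs G d x m : strand G (SS fs x) d) : LocalizedModule (SS fs x) N) =
      LocalizedModule.mk m.1 1 := rfl

/-- the augmentation `M_d → ∏ (M_{f_i})_d` -/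
noncomputable def rho : (AddCommGrpCat.of (G.pc d) : AddCommGrpCat.{u}) ⟶ (CNd fs G d).X 0 :=
  Pi.lift (fun x : Fin 1 → Idx fs => AddCommGrpCat.ofHom (rhoC fs G d x))

lemma rho_pr (x : Fin 1 → Idx fs) :
    rho fs G d ≫ pr (fam fs) (pshd G d) 0 x = AddCommGrpCat.ofHom (rhoC fs G d x) :=
  limit.lift_π _ _

lemma pr_rho (x : Fin 1 → Idx fs) (m : G.pc d) :
    sval G (pr (fam fs) (pshd G d) 0 x (rho fs G d m)) = LocalizedModule.mk m.1 1 := by
  have h := ConcreteCategory.congr_hom (rho_pr fs G d x) m
  exact congrArg (sval G) h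

lemma rho_d_apply (m : G.pc d) : (CNd fs G d).d 0 1 (rho fs G d m) = 0 := by
  apply elt_ext (fam fs) (pshd G d) 1
  intro y
  rw [d_pr_apply, map_zero, Fin.sum_univ_two]
  simp only [Fin.val_zero, pow_zero, one_smul, Fin.val_one, pow_one, neg_smul]
  rw [add_neg_eq_zero]
  apply sval_ext G
  rw [pshd_map_coe, pshd_map_coe, pr_rho, pr_rho, locMap_mk, locMap_mk]
  rfl

lemma rho_d : rho fs G d ≫ (CNd fs G d).d 0 1 = 0 := by
  ext m
  exact rho_d_apply fs G d m

/-- the augmented strand Čech complex -/
noncomputable abbrev aug : CochainComplex AddCommGrpCat.{u} ℕ :=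
  (CNd fs G d).augment (rho fs G d) (rho_d fs G d)

/-- vanishing of the cohomology of the augmented strand complex -/
def TA (i : ℕ) : Prop := IsZero ((aug fs G d).homology i)

end Aug

section AugMap

variable (fs : List A) {N N' : Type u} [AddCommGroup N] [Module A N] [AddCommGroup N']
  [Module A N'] {G : ZGr 𝒜 N} {G' : ZGr 𝒜 N'} (g : N →ₗ[A] N') (hg : IsGr G G' g) (d : ℤ)

/-- the degree-`d` piece of a graded map -/
noncomputable def g0 : G.pc d →+ G'.pc d :=
  resHom g.toAddMonoidHom (G.pc d) (G'.pc d) (fun m hm => hg d m hm)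

lemma g0_coe (m : G.pc d) : ((g0 g hg d m : G'.pc d) : N') = g m.1 := rfl

/-- the map of strand Čech complexes induced by a graded map -/
noncomputable abbrev cechD : CNd fs G d ⟶ CNd fs G' d :=
  (cechComplexFunctor (fam fs)).map (pshdMap g hg d)

lemma rho_nat_apply (m : G.pc d) :
    (cechD fs g hg d).f 0 (rho fs G d m) = rho fs G' d (g0 g hg d m) := by
  apply elt_ext (fam fs) (pshd G' d) 0
  intro x
  rw [map_pr_apply]
  apply sval_ext G'
  rw [pshdMap_app_coe, pr_rho, pr_rho, nMap_mk]
  rfl

lemma rho_nat :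
    rho fs G d ≫ (cechD fs g hg d).f 0 = AddCommGrpCat.ofHom (g0 g hg d) ≫ rho fs G' d := by
  ext m
  exact rho_nat_apply fs g hg d m

/-- the map of augmented strand complexes induced by a graded map -/
noncomputable def augMap : aug fs G d ⟶ aug fs G' d where
  f := fun i => match i with
    | 0 => AddCommGrpCat.ofHom (g0 g hg d)
    | (n + 1) => (cechD fs g hg d).f n
  comm' := by
    intro i j hij
    obtain rfl : i + 1 = j := hij
    cases i with
    | zero => exact (rho_nat fs g hg d).symm
    | succ n => exact (cechD fs g hg d).comm n (n + 1)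

lemma augMap_f_zero : (augMap fs g hg d).f 0 = AddCommGrpCat.ofHom (g0 g hg d) := rfl

lemma augMap_f_succ (n : ℕ) : (augMap fs g hg d).f (n + 1) = (cechD fs g hg d).f n := rfl

end AugMap

section SES

variable (fs : List A) (hfs : ∀ a ∈ fs, a ∈ homSub 𝒜)
variable {N' N N'' : Type u} [AddCommGroup N'] [Module A N'] [AddCommGroup N] [Module A N]
  [AddCommGroup N''] [Module A N''] {G' : ZGr 𝒜 N'} {G : ZGr 𝒜 N} {G'' : ZGr 𝒜 N''}
  (a : N' →ₗ[A] N) (b : N →ₗ[A] N'') (hga : IsGr G' G a) (hgb : IsGr G G'' b)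

/-- the short complex of augmented strand complexes -/
noncomputable def augSES (hab : Function.Exact a b) (d : ℤ) :
    ShortComplex (CochainComplex AddCommGrpCat.{u} ℕ) :=
  ShortComplex.mk (augMap fs a hga d) (augMap fs b hgb d) (by
    apply HomologicalComplex.hom_ext
    intro i
    cases i with
    | zero =>
      ext m
      apply Subtype.ext
      exact hab.apply_apply_eq_zero m.1
    | succ n =>
      exact HomologicalComplex.congr_hom (strandSES fs a b hga hgb hab d).zero n)

include hfs in
theorem augSES_shortExact (ha : Function.Injective a) (hb : Function.Surjective b)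
    (hab : Function.Exact a b) (d : ℤ) : (augSES fs a b hga hgb hab d).ShortExact := by
  apply HomologicalComplex.shortExact_of_degreewise_shortExact
  intro i
  cases i with
  | zero =>
    refine ShortComplex.ShortExact.mk' ?_ ?_ ?_
    · rw [ShortComplex.ab_exact_iff]
      intro (m : G.pc d) hm
      have hm' : b m.1 = 0 := congrArg Subtype.val hm
      obtain ⟨m', hm''⟩ := (hab m.1).mp hm'
      refine ⟨(⟨G'.comp d m', G'.comp_mem d m'⟩ : G'.pc d), ?_⟩
      apply Subtype.ext
      change a (G'.comp d m') = m.1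
      have h1 := comp_map G' G a.toAddMonoidHom hga d m'
      have h2 : a (G'.comp d m') = G.comp d (a m') := h1
      rw [h2, hm'']
      exact G.comp_of_mem m.2
    · rw [AddCommGrpCat.mono_iff_injective]
      intro (m : G'.pc d) (m' : G'.pc d) h
      apply Subtype.ext
      apply ha
      exact congrArg Subtype.val h
    · rw [AddCommGrpCat.epi_iff_surjective]
      intro (m'' : G''.pc d)
      obtain ⟨m, hm⟩ := hb m''.1
      refine ⟨(⟨G.comp d m, G.comp_mem d m⟩ : G.pc d), ?_⟩
      apply Subtype.ext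
      change b (G.comp d m) = m''.1
      have h1 := comp_map G G'' b.toAddMonoidHom hgb d m
      have h2 : b (G.comp d m) = G''.comp d (b m) := h1
      rw [h2, hm]
      exact G''.comp_of_mem m''.2
  | succ n =>
    exact (HomologicalComplex.shortExact_iff_degreewise_shortExact _).mp
      (strandSES_shortExact fs hfs a b hga hgb ha hb hab d) n

include hfs hga hgb in
theorem ta_mid (ha : Function.Injective a) (hb : Function.Surjective b)
    (hab : Function.Exact a b) (d : ℤ) (i : ℕ) (h1 : TA fs G' d i) (h3 : TA fs G'' d i) :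
    TA fs G d i :=
  isZero_mid (augSES_shortExact fs hfs a b hga hgb ha hb hab d) i h1 h3

include hfs hga hgb in
theorem ta_right (ha : Function.Injective a) (hb : Function.Surjective b)
    (hab : Function.Exact a b) (d : ℤ) (i : ℕ) (h2 : TA fs G d i) (h1 : TA fs G' d (i + 1)) :
    TA fs G'' d i :=
  isZero_right (augSES_shortExact fs hfs a b hga hgb ha hb hab d) i h2 h1

include hfs hga hgb in
theorem ta_left (ha : Function.Injective a) (hb : Function.Surjective b)
    (hab : Function.Exact a b) (d : ℤ) (i : ℕ) (h2 : TA fs G d (i + 1)) (h3 : TA fs G'' d i) :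
    TA fs G' d (i + 1) :=
  isZero_left (augSES_shortExact fs hfs a b hga hgb ha hb hab d) i h2 h3

end SES

end Groth.Agent.Lib.R2H7.CechLC
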