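import Groth.Agent.Lib.R2H7CechLC

/-!
# Graded local cohomology is computed by the augmented strand Čech complex (helper7, round 2)

`ta_iff_vanX`: for a Noetherian `ℕ`-graded ring, homogeneous elements `fs` generating the
homogeneous ideal `a`, a graded module `X` and a degree `d`, the `i`-th cohomology of the augmented
degree-`d` strand of the Čech complex of `X` vanishes iff `H^i_a(X)_d = 0`.
-/

set_option autoImplicit false
set_option linter.unusedSectionVars false
universe u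

namespace Groth.Agent.Lib.R2H7.CechLC

open CategoryTheory CategoryTheory.Limits Opposite
open Groth.Agent.Lib.Helper16.CechLow Groth.Agent.Lib.R2H2.LocPsh Groth.Agent.Lib.R2H2.CechCmp
  Groth.Agent.Lib.R2H2.Strand Groth.Agent.Lib.R2H2.StrandCech Groth.Agent.Lib.R2H2.LocCech
open Groth.Agent.Lib.R2H7.GrDer Groth.Agent.Lib.R2H7.GrOps Groth.Agent.Lib.R2H7.GrLES
  Groth.Agent.Lib.R2H7.GrTors Groth.Agent.Lib.R2H7.GrFree Groth.Agent.Lib.R2H7.GrKos
  Groth.Agent.Lib.R2H7.SegIdem Groth.Agent.Lib.Helper29GrHom Groth.Agent.Lib.Helper29GrEss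

variable {R A : Type u} [CommRing R] [CommRing A] [Algebra R A] {𝒜 : ℕ → Submodule R A}
  [GradedAlgebra 𝒜] {𝒜z : ℤ → AddSubgroup A} [GradedRing 𝒜z]

section Elementwise

variable (fs : List A) {N : Type u} [AddCommGroup N] [Module A N] (G : ZGr 𝒜 N) (d : ℤ)

theorem ta_zero_iff : TA fs G d 0 ↔ ∀ m : G.pc d, rho fs G d m = 0 → m = 0 := by
  unfold TA
  rw [← HomologicalComplex.exactAt_iff_isZero_homology,
    HomologicalComplex.exactAt_iff' (aug fs G d) 0 0 1 (by simp) (by simp),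
    ShortComplex.ab_exact_iff]
  have h0 : (aug fs G d).d 0 0 = 0 := (aug fs G d).shape 0 0 (by simp)
  constructor
  · intro h m hm
    obtain ⟨x, hx⟩ := h m hm
    have hx' : (aug fs G d).d 0 0 x = m := hx
    rw [h0] at hx'
    exact hx'.symm
  · intro h m hm
    refine ⟨0, ?_⟩
    rw [map_zero]
    exact (h m hm).symm

theorem ta_one_iff : TA fs G d 1 ↔
    ∀ c : (CNd fs G d).X 0, (CNd fs G d).d 0 1 c = 0 → ∃ m : G.pc d, rho fs G d m = c := by
  unfold TA
  rw [← HomologicalComplex.exactAt_iff_isZero_homology,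
    HomologicalComplex.exactAt_iff' (aug fs G d) 0 1 2 (by simp) (by simp),
    ShortComplex.ab_exact_iff]
  exact Iff.rfl

theorem ta_succ_succ_iff (q : ℕ) :
    TA fs G d (q + 2) ↔ IsZero ((CNd fs G d).homology (q + 1)) := by
  unfold TA
  rw [← HomologicalComplex.exactAt_iff_isZero_homology,
    ← HomologicalComplex.exactAt_iff_isZero_homology,
    HomologicalComplex.exactAt_iff' (aug fs G d) (q + 1) (q + 2) (q + 3) (by simp) (by simp),
    HomologicalComplex.exactAt_iff' (CNd fs G d) q (q + 1) (q + 2) (by simp) (by simp),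
    ShortComplex.ab_exact_iff, ShortComplex.ab_exact_iff]
  exact Iff.rfl

theorem ta_of_isTors (hfs : ∀ a ∈ fs, a ∈ homSub 𝒜) (h : IsTors fs N) (i : ℕ) (hi : 1 ≤ i) :
    TA fs G d i := by
  obtain _ | _ | q := i
  · omega
  · rw [ta_one_iff]
    intro c _
    refine ⟨0, ?_⟩
    apply elt_ext (fam fs) (pshd G d) 0
    intro x
    apply sval_ext G
    exact @Subsingleton.elim _ (subsingleton_localized_of_isTors fs h x) _ _
  · rw [ta_succ_succ_iff]
    exact isZero_homology_CNd fs hfs G d (q + 1) (isZero_homology_CN_of_isTors fs h (q + 1))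

theorem rho_eq_zero_iff (m : G.pc d) :
    rho fs G d m = 0 ↔ ∀ i : Fin fs.length, ∃ n : ℕ, fs.get i ^ n • m.1 = 0 := by
  rw [← rhoZ_eq_zero_iff]
  constructor
  · intro hm
    apply Subtype.ext
    funext x
    rw [rhoZ_apply]
    have h1 := pr_rho fs G d x m
    rw [hm, map_zero] at h1
    exact h1.symm
  · intro hm
    apply elt_ext (fam fs) (pshd G d) 0
    intro x
    apply sval_ext G
    rw [pr_rho, map_zero]
    have h1 : (rhoZ fs N m.1).1 x = 0 := by rw [hm]; rfl
    rw [rhoZ_apply] at h1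
    exact h1

theorem ta_of_good (hfs : ∀ a ∈ fs, a ∈ homSub 𝒜) (hgood : GoodC fs N)
    (htf : ∀ m : N, (∀ i : Fin fs.length, ∃ n : ℕ, fs.get i ^ n • m = 0) → m = 0) (i : ℕ) :
    TA fs G d i := by
  obtain _ | _ | q := i
  · rw [ta_zero_iff]
    intro m hm
    apply Subtype.ext
    exact htf m.1 ((rho_eq_zero_iff fs G d m).mp hm)
  · rw [ta_one_iff]
    intro c hc
    have hz : (fun x : Fin 1 → Idx fs => sval G (pr (fam fs) (pshd G d) 0 x c)) ∈ Zc fs N := by
      intro y
      have h1 := congrArg (pr (fam fs) (pshd G d) 1 y) hc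
      rw [d_pr_apply, map_zero, Fin.sum_univ_two] at h1
      simp only [Fin.val_zero, pow_zero, one_smul, Fin.val_one, pow_one, neg_smul] at h1
      rw [add_neg_eq_zero] at h1
      have h2 := congrArg (sval G) h1
      rw [pshd_map_coe, pshd_map_coe] at h2
      exact h2
    obtain ⟨m, hm⟩ := hgood.surj ⟨_, hz⟩
    refine ⟨⟨G.comp d m, G.comp_mem d m⟩, ?_⟩
    apply elt_ext (fam fs) (pshd G d) 0
    intro x
    apply sval_ext G
    rw [pr_rho]
    have h3 : (rhoZ fs N m).1 x = sval G (pr (fam fs) (pshd G d) 0 x c) := by rw [hm]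
    rw [rhoZ_apply] at h3
    have h4 := comp_map G (G.loc (SS fs x) (SS_le_homSub fs hfs x)) (mkHom (SS fs x) 1)
      (fun e n hn => mk_mem_strand G (SS fs x) (s := 1) hn SetLike.GradedOne.one_mem (by simp))
      d m
    rw [mkHom_apply, mkHom_apply, h3] at h4
    exact h4.trans ((G.loc (SS fs x) (SS_le_homSub fs hfs x)).comp_of_mem (sval_mem G _))
  · rw [ta_succ_succ_iff]
    exact isZero_homology_CNd fs hfs G d (q + 1) (hgood.acyc (q + 1) (by omega))

end Elementwise

section Gam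

theorem mem_gam_iff_forall_pow [IsNoetherianRing A] (fs : List A) {I : Ideal A}
    (hI : I = Ideal.span {f | f ∈ fs}) {M : Type u} [AddCommGroup M] [Module A M] (m : M) :
    m ∈ GrLC.gam I M ↔ ∀ i : Fin fs.length, ∃ n : ℕ, fs.get i ^ n • m = 0 := by
  constructor
  · rintro ⟨n, hn⟩ i
    refine ⟨n, hn _ (Ideal.pow_mem_pow ?_ n)⟩
    rw [hI]
    exact Ideal.subset_span (List.get_mem fs i)
  · intro h
    have h1 : I ≤ (Ideal.torsionOf A M m).radical := by
      rw [hI, Ideal.span_le]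
      intro f hf
      obtain ⟨i, rfl⟩ := List.mem_iff_get.mp hf
      obtain ⟨n, hn⟩ := h i
      exact ⟨n, (Ideal.mem_torsionOf_iff _ _).mpr hn⟩
    obtain ⟨k, hk⟩ := Ideal.exists_pow_le_of_le_radical_of_fg h1 (IsNoetherian.noetherian I)
    exact ⟨k, fun r hr => (Ideal.mem_torsionOf_iff _ _).mp (hk hr)⟩

end Gam

section Loc

variable (hc : Cmp 𝒜 𝒜z) (X : GrLC.GMod.{u} 𝒜z) (S : Submonoid A) (hS : S ≤ homSub 𝒜)

/-- the localization of a graded module at a multiplicative set of homogeneous elements -/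
noncomputable def locG : GrLC.GMod.{u} 𝒜z :=
  gmodOf hc (LocalizedModule S X.carrier) ((zOf hc X).loc S hS)

theorem zOf_locG : zOf hc (locG hc X S hS) = (zOf hc X).loc S hS := rfl

/-- the canonical map to the localization -/
noncomputable def toLoc : X.carrier →ₗ[A] (locG hc X S hS).carrier :=
  LocalizedModule.mkLinearMap S X.carrier

theorem toLoc_grHom : GrLC.IsGrHom X.gr (locG hc X S hS).gr (toLoc hc X S hS) := by
  intro g m hm
  exact mk_mem_strand (zOf hc X) S (s := 1) hm SetLike.GradedOne.one_mem (by simp)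

theorem toLoc_eq_zero_iff (m : X.carrier) : toLoc hc X S hS m = 0 ↔ ∃ t : S, t • m = 0 :=
  mk_eq_zero_iff S m 1

theorem powers_le_homSub {f : A} {e : ℕ} (hf : f ∈ 𝒜 e) : Submonoid.powers f ≤ homSub 𝒜 :=
  (Submonoid.powers_le).mpr ⟨e, hf⟩

theorem vanX_locG_powers (a : HomogeneousIdeal 𝒜z) {f : A} {e : ℕ}
    (hf : f ∈ 𝒜 e) (hfa : f ∈ a.toIdeal) (i : ℕ) (g : ℤ) :
    VanX a (locG hc X (Submonoid.powers f) (powers_le_homSub hf)) i g := by
  have hbij : Function.Bijective
      (fun y : LocalizedModule (Submonoid.powers f) X.carrier => f • y) :=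
    le_bijSub_localized (Submonoid.powers f) (Submonoid.mem_powers f)
  let η0 : LocalizedModule (Submonoid.powers f) X.carrier ≃ₗ[A]
      LocalizedModule (Submonoid.powers f) X.carrier :=
    LinearEquiv.ofBijective (LinearMap.lsmul A (LocalizedModule (Submonoid.powers f) X.carrier) f)
      hbij
  have hη0 : ∀ u, η0 u = f • u := fun _ => rfl
  refine vanX_of_retract a (x := f) (e := (e : ℤ)) ((hc.mem_iff e f).mp hf) hfa
    η0.symm.toLinearMap ?_ ?_ i g
  · rintro g' _ ⟨i', j, m, s, hm, hs, hij, rfl⟩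
    have h1 : η0.symm (LocalizedModule.mk m s) =
        LocalizedModule.mk m ((⟨f, Submonoid.mem_powers f⟩ : Submonoid.powers f) * s) := by
      rw [LinearEquiv.symm_apply_eq, hη0, smul_mk']
      exact (LocalizedModule.mk_cancel_common_left
        (⟨f, Submonoid.mem_powers f⟩ : Submonoid.powers f) s m).symm
    change η0.symm (LocalizedModule.mk m s) ∈
      strand (zOf hc X) (Submonoid.powers f) (g' + -(e : ℤ))
    rw [h1]
    exact ⟨i', e + j, m, _, hm, SetLike.mul_mem_graded hf hs, by rw [hij]; push_cast; ring, rfl⟩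
  · intro u
    exact η0.symm_apply_apply u

end Loc

section Nice

variable (hc : Cmp 𝒜 𝒜z) (a : HomogeneousIdeal 𝒜z) (fs : List A)

/-- graded modules acyclic for both theories -/
structure NiceC (C : GrLC.GMod.{u} 𝒜z) : Prop where
  van : ∀ (i : ℕ) (g : ℤ), VanX a C i g
  good : GoodC fs C.carrier
  tf : ∀ m : C.carrier, (∀ i : Fin fs.length, ∃ n : ℕ, fs.get i ^ n • m = 0) → m = 0

theorem niceC_of_subsingleton [IsNoetherianRing A] (C : GrLC.GMod.{u} 𝒜z)
    (h : Subsingleton C.carrier) : NiceC a fs C where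
  van i g := vanX_of_subsingleton a C h i g
  good := GoodC.of_subsingleton fs C.carrier
  tf _ _ := Subsingleton.elim _ _

theorem niceC_locG [IsNoetherianRing A] (X : GrLC.GMod.{u} 𝒜z) (i0 : Fin fs.length) {e : ℕ}
    (hf : fs.get i0 ∈ 𝒜 e) (hfa : fs.get i0 ∈ a.toIdeal) :
    NiceC a fs (locG hc X (Submonoid.powers (fs.get i0)) (powers_le_homSub hf)) where
  van i g := vanX_locG_powers hc X a hf hfa i g
  good := GoodC.of_bij fs _ i0
    (le_bijSub_localized (Submonoid.powers (fs.get i0)) (Submonoid.mem_powers _))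
  tf m h := by
    obtain ⟨n, hn⟩ := h i0
    have hb : Function.Bijective
        (fun y : LocalizedModule (Submonoid.powers (fs.get i0)) X.carrier =>
          fs.get i0 ^ n • y) :=
      le_bijSub_localized (Submonoid.powers (fs.get i0))
        (pow_mem (Submonoid.mem_powers (fs.get i0)) n)
    apply hb.1
    change fs.get i0 ^ n • m = fs.get i0 ^ n • 0
    rw [smul_zero]
    exact hn

theorem niceC_prod [IsNoetherianRing A] {C C' : GrLC.GMod.{u} 𝒜z} (h : NiceC a fs C)
    (h' : NiceC a fs C') : NiceC a fs (prodG C C') where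
  van i g := vanX_mid (GSES.prod C C') a (h.van i g) (h'.van i g)
  good := GoodC.of_ses fs (LinearMap.inl A C.carrier C'.carrier)
    (LinearMap.snd A C.carrier C'.carrier) LinearMap.inl_injective LinearMap.snd_surjective
    (fun p => ⟨fun hp => ⟨p.1, Prod.ext rfl (Eq.symm hp)⟩, by rintro ⟨x, rfl⟩; rfl⟩) h.good h'.good
  tf m hm := by
    apply Prod.ext
    · apply h.tf
      intro i
      obtain ⟨n, hn⟩ := hm i
      exact ⟨n, congrArg Prod.fst hn⟩
    · apply h'.tf
      intro i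
      obtain ⟨n, hn⟩ := hm i
      exact ⟨n, congrArg Prod.snd hn⟩

include hc in
theorem exists_niceC [IsNoetherianRing A] (hfs : ∀ f ∈ fs, ∃ e : ℕ, f ∈ 𝒜 e)
    (hfa : ∀ f ∈ fs, f ∈ a.toIdeal) (X : GrLC.GMod.{u} 𝒜z) (l : List (Fin fs.length)) :
    ∃ (C : GrLC.GMod.{u} 𝒜z) (j : X.carrier →ₗ[A] C.carrier), NiceC a fs C ∧
      GrLC.IsGrHom X.gr C.gr j ∧
      ∀ m, j m = 0 ↔ ∀ i ∈ l, ∃ n : ℕ, fs.get i ^ n • m = 0 := by
  induction l with
  | nil =>
    refine ⟨zeroG X, 0, niceC_of_subsingleton a fs _ (zeroG_subsingleton X), ?_, ?_⟩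
    · intro g m _
      exact zero_mem _
    · intro m
      simp
  | cons i0 l ih =>
    obtain ⟨C', j', hC', hj', hker⟩ := ih
    obtain ⟨e, he⟩ := hfs _ (List.get_mem fs i0)
    refine ⟨prodG (locG hc X (Submonoid.powers (fs.get i0)) (powers_le_homSub he)) C',
      LinearMap.prod (toLoc hc X (Submonoid.powers (fs.get i0)) (powers_le_homSub he)) j',
      niceC_prod a fs (niceC_locG hc a fs X i0 he (hfa _ (List.get_mem fs i0))) hC', ?_, ?_⟩
    · intro g m hm
      exact ⟨toLoc_grHom hc X _ _ g m hm, hj' g m hm⟩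
    · intro m
      rw [List.forall_mem_cons, ← hker m]
      change ((toLoc hc X (Submonoid.powers (fs.get i0)) (powers_le_homSub he) m, j' m) :
        (locG hc X (Submonoid.powers (fs.get i0)) (powers_le_homSub he)).carrier × C'.carrier) = 0 ↔ _
      rw [Prod.mk_eq_zero, toLoc_eq_zero_iff]
      constructor
      · rintro ⟨⟨⟨t, n, rfl⟩, ht⟩, h2⟩
        exact ⟨⟨n, ht⟩, h2⟩
      · rintro ⟨⟨n, hn⟩, h2⟩
        exact ⟨⟨⟨fs.get i0 ^ n, n, rfl⟩, hn⟩, h2⟩

end Nice

section GS

variable (hc : Cmp 𝒜 𝒜z) (fs : List A) (hfs : ∀ a ∈ fs, a ∈ homSub 𝒜)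
  {X' X X'' : GrLC.GMod.{u} 𝒜z} (S : GSES X' X X'') (d : ℤ)

include hfs S

theorem ta_mid_S (i : ℕ) (h1 : TA fs (zOf hc X') d i) (h3 : TA fs (zOf hc X'') d i) :
    TA fs (zOf hc X) d i :=
  ta_mid fs hfs (G' := zOf hc X') (G := zOf hc X) (G'' := zOf hc X'') S.f S.g S.f_gr S.g_gr S.f_inj S.g_surj (LinearMap.exact_iff.mpr S.exact) d i h1 h3

theorem ta_right_S (i : ℕ) (h2 : TA fs (zOf hc X) d i) (h1 : TA fs (zOf hc X') d (i + 1)) :
    TA fs (zOf hc X'') d i :=
  ta_right fs hfs (G' := zOf hc X') (G := zOf hc X) (G'' := zOf hc X'') S.f S.g S.f_gr S.g_gr S.f_inj S.g_surj (LinearMap.exact_iff.mpr S.exact) d i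
    h2 h1

theorem ta_left_S (i : ℕ) (h2 : TA fs (zOf hc X) d (i + 1)) (h3 : TA fs (zOf hc X'') d i) :
    TA fs (zOf hc X') d (i + 1) :=
  ta_left fs hfs (G' := zOf hc X') (G := zOf hc X) (G'' := zOf hc X'') S.f S.g S.f_gr S.g_gr S.f_inj S.g_surj (LinearMap.exact_iff.mpr S.exact) d i
    h2 h3

end GS

section Main

variable (hc : Cmp 𝒜 𝒜z) (fs : List A) (hfs : ∀ f ∈ fs, ∃ e : ℕ, f ∈ 𝒜 e)
  (a : HomogeneousIdeal 𝒜z) (ha : a.toIdeal = Ideal.span {f | f ∈ fs})

include hfs ha

/-- **The augmented strand Čech complex computes graded local cohomology** (vanishing form). -/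
theorem ta_iff_vanX [IsNoetherianRing A] (d : ℤ) :
    ∀ (i : ℕ) (X : GrLC.GMod.{u} 𝒜z), TA fs (zOf hc X) d i ↔ VanX a X i d := by
  have hfs' : ∀ f ∈ fs, f ∈ homSub 𝒜 := hfs
  have hfa : ∀ f ∈ fs, f ∈ a.toIdeal := fun f hf => by
    rw [ha]
    exact Ideal.subset_span hf
  intro i
  induction i with
  | zero =>
    intro X
    rw [ta_zero_iff, vanX_zero_iff]
    constructor
    · intro h m hm hmd
      have h1 := h ⟨m, hmd⟩ ((rho_eq_zero_iff fs (zOf hc X) d ⟨m, hmd⟩).mpr
        ((mem_gam_iff_forall_pow fs ha m).mp hm))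
      exact congrArg Subtype.val h1
    · intro h m hm
      apply Subtype.ext
      exact h m.1 ((mem_gam_iff_forall_pow fs ha m.1).mpr
        ((rho_eq_zero_iff fs (zOf hc X) d m).mp hm)) m.2
  | succ i ih =>
    intro X
    obtain ⟨C, j, hC, hj, hker⟩ := exists_niceC hc a fs hfs hfa X (List.finRange fs.length)
    have hI : (LinearMap.range j).IsHomogeneous C.gr := range_isHomogeneous C.gr X.gr j hj
    let Xbar : GrLC.GMod.{u} 𝒜z := subG C (LinearMap.range j) hI
    let π : X.carrier →ₗ[A] Xbar.carrier := j.rangeRestrict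
    have hπ : GrLC.IsGrHom X.gr Xbar.gr π := fun g m hm => hj g m hm
    have hπs : Function.Surjective π := j.surjective_rangeRestrict
    let S1 := GSES.ofSurj π hπ hπs
    let S2 := GSES.ofSub C (LinearMap.range j) hI
    -- the kernel is torsion
    have hT : ∀ t : (subG X (LinearMap.ker π) (ker_isHomogeneous Xbar.gr X.gr π hπ)).carrier,
        ∀ i : Fin fs.length, ∃ n : ℕ, fs.get i ^ n • t = 0 := by
      intro t i
      have h1 : π t.1 = 0 := t.2
      have h2 : j t.1 = 0 := congrArg Subtype.val h1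
      obtain ⟨n, hn⟩ := (hker t.1).mp h2 i (List.mem_finRange i)
      exact ⟨n, Subtype.ext hn⟩
    have hTa : ∀ (k : ℕ), 1 ≤ k → TA fs (zOf hc
        (subG X (LinearMap.ker π) (ker_isHomogeneous Xbar.gr X.gr π hπ))) d k :=
      fun k hk => ta_of_isTors fs _ d hfs' (fun t i => hT t i) k hk
    have hTv : ∀ (k : ℕ), 1 ≤ k → VanX a
        (subG X (LinearMap.ker π) (ker_isHomogeneous Xbar.gr X.gr π hπ)) k d := by
      intro k hk
      apply vanX_of_torsion a _ _ k hk d
      intro t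
      exact (mem_gam_iff_forall_pow fs ha t).mpr (hT t)
    have hCa : ∀ k : ℕ, TA fs (zOf hc C) d k :=
      fun k => ta_of_good fs _ d hfs' hC.good hC.tf k
    have e1 : TA fs (zOf hc X) d (i + 1) ↔ TA fs (zOf hc Xbar) d (i + 1) :=
      ⟨fun h => ta_right_S hc fs hfs' S1 d (i + 1) h (hTa (i + 2) (by omega)),
        fun h => ta_mid_S hc fs hfs' S1 d (i + 1) (hTa (i + 1) (by omega)) h⟩
    have e2 : TA fs (zOf hc Xbar) d (i + 1) ↔
        TA fs (zOf hc (quotG C (LinearMap.range j) hI)) d i :=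
      ⟨fun h => ta_right_S hc fs hfs' S2 d i (hCa i) h,
        fun h => ta_left_S hc fs hfs' S2 d i (hCa (i + 1)) h⟩
    have e3 : VanX a (quotG C (LinearMap.range j) hI) i d ↔ VanX a Xbar (i + 1) d :=
      ⟨fun h => vanX_left S2 a (hC.van (i + 1) d) h,
        fun h => vanX_right S2 a (hC.van i d) h⟩
    have e4 : VanX a Xbar (i + 1) d ↔ VanX a X (i + 1) d :=
      ⟨fun h => vanX_mid S1 a (hTv (i + 1) (by omega)) h,
        fun h => vanX_right S1 a h (hTv (i + 2) (by omega))⟩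
    exact e1.trans (e2.trans ((ih _).trans (e3.trans e4)))

/-- positive degrees: the strand Čech complex itself -/
theorem tz_iff_vanX [IsNoetherianRing A] (d : ℤ) (q : ℕ) (X : GrLC.GMod.{u} 𝒜z) :
    IsZero ((CNd fs (zOf hc X) d).homology (q + 1)) ↔ VanX a X (q + 2) d :=
  (ta_succ_succ_iff fs (zOf hc X) d q).symm.trans (ta_iff_vanX hc fs hfs a ha d (q + 2) X)

/-- degree one: surjectivity of the augmentation onto the `0`-cocycles -/
theorem surj_iff_vanX [IsNoetherianRing A] (d : ℤ) (X : GrLC.GMod.{u} 𝒜z) :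
    (∀ c : (CNd fs (zOf hc X) d).X 0, (CNd fs (zOf hc X) d).d 0 1 c = 0 →
      ∃ m : (zOf hc X).pc d, rho fs (zOf hc X) d m = c) ↔ VanX a X 1 d :=
  (ta_one_iff fs (zOf hc X) d).symm.trans (ta_iff_vanX hc fs hfs a ha d 1 X)

end Main

end Groth.Agent.Lib.R2H7.CechLC
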