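import Mathlib
import Groth.Prelude.Def_StabCat

/-!
# helper7: numerics of eventually-ordered rational polynomials (for `StabCat`)

`PolyLE`/`PolyLT` are decided by the sign of the leading coefficient of the difference; truncations
`topPart`; the slope comparison extracted from a reduced comparison.
-/

set_option autoImplicit false
open Polynomial Filter StabCat

namespace Groth.Agent.Lib.R2H7.StabNum

theorem polyLE_iff {P Q : ℚ[X]} :
    PolyLE P Q ↔ ∀ᶠ m : ℕ in atTop, P.eval (m : ℚ) ≤ Q.eval (m : ℚ) := by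
  simp only [PolyLE, eventually_atTop, ge_iff_le]

theorem polyLT_iff {P Q : ℚ[X]} :
    PolyLT P Q ↔ ∀ᶠ m : ℕ in atTop, P.eval (m : ℚ) < Q.eval (m : ℚ) := by
  simp only [PolyLT, eventually_atTop, ge_iff_le]

theorem redLE_iff {d : ℕ} {P Q : ℚ[X]} :
    RedLE d P Q ↔ ∀ᶠ m : ℕ in atTop, alpha d Q * P.eval (m : ℚ) ≤ alpha d P * Q.eval (m : ℚ) := by
  unfold RedLE
  rw [polyLE_iff]
  simp only [eval_smul, smul_eq_mul]

theorem redLT_iff {d : ℕ} {P Q : ℚ[X]} :
    RedLT d P Q ↔ ∀ᶠ m : ℕ in atTop, alpha d Q * P.eval (m : ℚ) < alpha d P * Q.eval (m : ℚ) := by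
  unfold RedLT
  rw [polyLT_iff]
  simp only [eval_smul, smul_eq_mul]

theorem eventually_pos_of_leadingCoeff_pos {R : ℚ[X]} (h : 0 < R.leadingCoeff) :
    ∀ᶠ m : ℕ in atTop, 0 < R.eval (m : ℚ) := by
  by_cases hd : R.natDegree = 0
  · have hR : R = C (R.coeff 0) := eq_C_of_natDegree_eq_zero hd
    have hc : 0 < R.coeff 0 := by
      have : R.leadingCoeff = R.coeff 0 := by rw [leadingCoeff, hd]
      rwa [this] at h
    refine Eventually.of_forall fun m => ?_
    rw [hR, eval_C]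
    exact hc
  · have hdeg : 0 < R.degree := by
      rw [← natDegree_pos_iff_degree_pos]
      omega
    have ht := R.tendsto_atTop_of_leadingCoeff_nonneg hdeg h.le
    have ht' : Tendsto (fun m : ℕ => R.eval (m : ℚ)) atTop atTop :=
      ht.comp tendsto_natCast_atTop_atTop
    exact ht'.eventually_gt_atTop 0

theorem eventually_neg_of_leadingCoeff_neg {R : ℚ[X]} (h : R.leadingCoeff < 0) :
    ∀ᶠ m : ℕ in atTop, R.eval (m : ℚ) < 0 := by
  have h1 : 0 < (-R).leadingCoeff := by
    rw [leadingCoeff_neg]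
    linarith
  filter_upwards [eventually_pos_of_leadingCoeff_pos h1] with m hm
  rw [eval_neg] at hm
  linarith

theorem eventually_nonneg_iff {R : ℚ[X]} :
    (∀ᶠ m : ℕ in atTop, 0 ≤ R.eval (m : ℚ)) ↔ 0 ≤ R.leadingCoeff := by
  constructor
  · intro h
    by_contra hn
    push_neg at hn
    obtain ⟨m, hm1, hm2⟩ := (h.and (eventually_neg_of_leadingCoeff_neg hn)).exists
    linarith
  · intro h
    rcases h.eq_or_lt with h0 | h0
    · have hR : R = 0 := leadingCoeff_eq_zero.1 h0.symm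
      subst hR
      simp
    · exact (eventually_pos_of_leadingCoeff_pos h0).mono fun _ hm => hm.le

theorem eventually_pos_iff {R : ℚ[X]} :
    (∀ᶠ m : ℕ in atTop, 0 < R.eval (m : ℚ)) ↔ 0 < R.leadingCoeff := by
  constructor
  · intro h
    by_contra hn
    push_neg at hn
    rcases hn.eq_or_lt with h0 | h0
    · have hR : R = 0 := leadingCoeff_eq_zero.1 h0
      subst hR
      obtain ⟨m, hm⟩ := h.exists
      simp at hm
    · obtain ⟨m, hm1, hm2⟩ := (h.and (eventually_neg_of_leadingCoeff_neg h0)).exists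
      linarith
  · exact eventually_pos_of_leadingCoeff_pos

theorem polyLE_iff_leadingCoeff {P Q : ℚ[X]} : PolyLE P Q ↔ 0 ≤ (Q - P).leadingCoeff := by
  rw [polyLE_iff, ← eventually_nonneg_iff]
  refine eventually_congr (Eventually.of_forall fun m => ?_)
  rw [eval_sub, sub_nonneg]

theorem polyLT_iff_leadingCoeff {P Q : ℚ[X]} : PolyLT P Q ↔ 0 < (Q - P).leadingCoeff := by
  rw [polyLT_iff, ← eventually_pos_iff]
  refine eventually_congr (Eventually.of_forall fun m => ?_)
  rw [eval_sub, sub_pos]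

theorem polyLE_or_polyLT (P Q : ℚ[X]) : PolyLE P Q ∨ PolyLT Q P := by
  rw [polyLE_iff_leadingCoeff, polyLT_iff_leadingCoeff]
  have h : (P - Q).leadingCoeff = -(Q - P).leadingCoeff := by
    rw [← leadingCoeff_neg, neg_sub]
  rw [h]
  rcases le_or_gt 0 (Q - P).leadingCoeff with h1 | h1
  · exact Or.inl h1
  · exact Or.inr (by linarith)

theorem not_polyLT_of_polyLE {P Q : ℚ[X]} (h : PolyLE P Q) : ¬ PolyLT Q P := by
  intro h'
  rw [polyLE_iff] at h
  rw [polyLT_iff] at h'
  obtain ⟨m, hm1, hm2⟩ := (h.and h').exists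
  linarith

theorem PolyLT.polyLE {P Q : ℚ[X]} (h : PolyLT P Q) : PolyLE P Q := by
  rw [polyLT_iff] at h
  rw [polyLE_iff]
  exact h.mono fun _ hm => hm.le

theorem RedLT.redLE {d : ℕ} {P Q : ℚ[X]} (h : RedLT d P Q) : RedLE d P Q :=
  PolyLT.polyLE h

theorem redLE_refl (d : ℕ) (P : ℚ[X]) : RedLE d P P := by
  rw [redLE_iff]
  exact Eventually.of_forall fun _ => le_rfl

theorem eq_of_eventually_eq {P Q : ℚ[X]}
    (h : ∀ᶠ m : ℕ in atTop, P.eval (m : ℚ) = Q.eval (m : ℚ)) : P = Q := by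
  obtain ⟨N, hN⟩ := eventually_atTop.1 h
  refine Polynomial.eq_of_infinite_eval_eq P Q ?_
  refine Set.infinite_of_injective_forall_mem (f := fun n : ℕ => ((n + N : ℕ) : ℚ)) ?_ ?_
  · intro a b hab
    have hab' : ((a + N : ℕ) : ℚ) = ((b + N : ℕ) : ℚ) := hab
    have : (a + N : ℕ) = b + N := by exact_mod_cast hab'
    omega
  · intro n
    exact hN (n + N) (Nat.le_add_left _ _)

theorem eq_of_forall_eval_eq {P Q : ℚ[X]} (h : ∀ m : ℕ, P.eval (m : ℚ) = Q.eval (m : ℚ)) :
    P = Q :=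
  eq_of_eventually_eq (Eventually.of_forall h)

/-! ### alpha -/

theorem alpha_zero (d : ℕ) : alpha d (0 : ℚ[X]) = 0 := by simp [alpha]

theorem alpha_add (d : ℕ) (P Q : ℚ[X]) : alpha d (P + Q) = alpha d P + alpha d Q := by
  simp [alpha, mul_add]

theorem alpha_sub (d : ℕ) (P Q : ℚ[X]) : alpha d (P - Q) = alpha d P - alpha d Q := by
  simp [alpha, mul_sub]

theorem alpha_smul (d : ℕ) (c : ℚ) (P : ℚ[X]) : alpha d (c • P) = c * alpha d P := by
  simp [alpha]
  ring

theorem alpha_eq_zero_of_natDegree_lt {d : ℕ} {P : ℚ[X]} (h : P.natDegree < d) :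
    alpha d P = 0 := by
  unfold alpha
  rw [coeff_eq_zero_of_natDegree_lt h, mul_zero]

theorem coeff_pos_of_alpha_pos {d : ℕ} {P : ℚ[X]} (h : 0 < alpha d P) : 0 < P.coeff d := by
  unfold alpha at h
  have hf : (0 : ℚ) < (d.factorial : ℚ) := by exact_mod_cast d.factorial_pos
  exact (mul_pos_iff_of_pos_left hf).1 h

theorem eventually_pos_of_alpha_pos {e : ℕ} {P : ℚ[X]} (hdeg : P.natDegree ≤ e)
    (h : 0 < alpha e P) : ∀ᶠ m : ℕ in atTop, 0 < P.eval (m : ℚ) := by
  have hc := coeff_pos_of_alpha_pos h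
  have hn : P.natDegree = e := le_antisymm hdeg (le_natDegree_of_ne_zero hc.ne')
  apply eventually_pos_of_leadingCoeff_pos
  rw [leadingCoeff, hn]
  exact hc

/-! ### truncations -/

theorem coeff_topPart (ℓ d : ℕ) (P : ℚ[X]) (i : ℕ) :
    (topPart ℓ d P).coeff i = if i ∈ Finset.Icc (d - ℓ) d then P.coeff i else 0 := by
  unfold topPart
  rw [finset_sum_coeff]
  simp only [coeff_monomial]
  rw [Finset.sum_ite_eq']

theorem topPart_self {d : ℕ} {P : ℚ[X]} (h : P.natDegree ≤ d) : topPart d d P = P := by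
  ext i
  rw [coeff_topPart, Nat.sub_self]
  split_ifs with hi
  · rfl
  · rw [Finset.mem_Icc] at hi
    push_neg at hi
    exact (coeff_eq_zero_of_natDegree_lt (lt_of_le_of_lt h (hi (Nat.zero_le _)))).symm

theorem alpha_topPart (ℓ d : ℕ) (P : ℚ[X]) : alpha d (topPart ℓ d P) = alpha d P := by
  unfold alpha
  rw [coeff_topPart, if_pos (Finset.mem_Icc.2 ⟨Nat.sub_le _ _, le_rfl⟩)]

theorem topPart_sub (ℓ d : ℕ) (P Q : ℚ[X]) :
    topPart ℓ d (P - Q) = topPart ℓ d P - topPart ℓ d Q := by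
  ext i
  rw [coeff_sub, coeff_topPart, coeff_topPart, coeff_topPart, coeff_sub]
  split_ifs <;> simp

theorem topPart_smul (ℓ d : ℕ) (c : ℚ) (P : ℚ[X]) :
    topPart ℓ d (c • P) = c • topPart ℓ d P := by
  ext i
  rw [coeff_smul, coeff_topPart, coeff_topPart, coeff_smul]
  split_ifs <;> simp

theorem leadingCoeff_topPart_nonneg {ℓ d : ℕ} {R : ℚ[X]} (hd : R.natDegree ≤ d)
    (h : 0 ≤ R.leadingCoeff) : 0 ≤ (topPart ℓ d R).leadingCoeff := by
  by_cases hT : topPart ℓ d R = 0
  · rw [hT, leadingCoeff_zero]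
  · set j := (topPart ℓ d R).natDegree with hj
    have hcj : (topPart ℓ d R).coeff j ≠ 0 := by
      rw [hj]
      exact leadingCoeff_ne_zero.2 hT
    have hmem : j ∈ Finset.Icc (d - ℓ) d := by
      by_contra hmem
      rw [coeff_topPart, if_neg hmem] at hcj
      exact hcj rfl
    have hRj : R.coeff j = (topPart ℓ d R).coeff j := by
      rw [coeff_topPart, if_pos hmem]
    have hle : R.natDegree ≤ j := by
      rw [natDegree_le_iff_coeff_eq_zero]
      intro N hN
      by_cases hNd : N ≤ d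
      · have hNmem : N ∈ Finset.Icc (d - ℓ) d :=
          Finset.mem_Icc.2 ⟨(Finset.mem_Icc.1 hmem).1.trans hN.le, hNd⟩
        have h0 : (topPart ℓ d R).coeff N = 0 := coeff_eq_zero_of_natDegree_lt (hj ▸ hN)
        rw [coeff_topPart, if_pos hNmem] at h0
        exact h0
      · exact coeff_eq_zero_of_natDegree_lt (lt_of_le_of_lt hd (not_le.1 hNd))
    have hge : j ≤ R.natDegree := le_natDegree_of_ne_zero (hRj ▸ hcj)
    have hn : R.natDegree = j := le_antisymm hle hge
    have : (topPart ℓ d R).leadingCoeff = R.leadingCoeff := by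
      rw [leadingCoeff, leadingCoeff, hn, ← hj, hRj]
    rw [this]
    exact h

theorem redLE_topPart {ℓ d : ℕ} {P Q : ℚ[X]} (hP : P.natDegree ≤ d) (hQ : Q.natDegree ≤ d)
    (h : RedLE d P Q) : RedLE d (topPart ℓ d P) (topPart ℓ d Q) := by
  unfold RedLE at h ⊢
  rw [alpha_topPart, alpha_topPart]
  rw [polyLE_iff_leadingCoeff] at h ⊢
  have e : alpha d P • topPart ℓ d Q - alpha d Q • topPart ℓ d P =
      topPart ℓ d (alpha d P • Q - alpha d Q • P) := by
    rw [topPart_sub, topPart_smul, topPart_smul]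
  rw [e]
  refine leadingCoeff_topPart_nonneg ?_ h
  refine (natDegree_sub_le _ _).trans (max_le ?_ ?_)
  · exact (natDegree_smul_le _ _).trans hQ
  · exact (natDegree_smul_le _ _).trans hP

theorem coeff_nonneg_of_leadingCoeff_nonneg {R : ℚ[X]} {n : ℕ} (hn : R.natDegree ≤ n)
    (h : 0 ≤ R.leadingCoeff) : 0 ≤ R.coeff n := by
  rcases hn.eq_or_lt with h1 | h1
  · rw [← h1]
    exact h
  · rw [coeff_eq_zero_of_natDegree_lt h1]

/-- the slope comparison contained in a reduced comparison -/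
theorem hatSlope_le_of_redLE {d : ℕ} (hd : 1 ≤ d) {P Q : ℚ[X]} (hP : P.natDegree ≤ d)
    (hQ : Q.natDegree ≤ d) (aP : 0 < alpha d P) (aQ : 0 < alpha d Q) (h : RedLE d P Q) :
    hatSlope d P ≤ hatSlope d Q := by
  unfold RedLE at h
  rw [polyLE_iff_leadingCoeff] at h
  set R := alpha d P • Q - alpha d Q • P with hR
  have hRd : R.coeff d = 0 := by
    rw [hR, coeff_sub, coeff_smul, coeff_smul, smul_eq_mul, smul_eq_mul]
    unfold alpha
    ring
  have hdeg : R.natDegree ≤ d := by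
    refine (natDegree_sub_le _ _).trans (max_le ?_ ?_)
    · exact (natDegree_smul_le _ _).trans hQ
    · exact (natDegree_smul_le _ _).trans hP
  have hdeg' : R.natDegree ≤ d - 1 := by
    rw [natDegree_le_iff_coeff_eq_zero]
    intro N hN
    by_cases hNd : N = d
    · rw [hNd]; exact hRd
    · exact coeff_eq_zero_of_natDegree_lt (lt_of_le_of_lt hdeg (by omega))
  have hc := coeff_nonneg_of_leadingCoeff_nonneg hdeg' h
  rw [hR, coeff_sub, coeff_smul, coeff_smul, smul_eq_mul, smul_eq_mul] at hc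
  unfold hatSlope
  rw [div_le_div_iff₀ aP aQ]
  have hf : (0 : ℚ) ≤ ((d - 1).factorial : ℚ) := by positivity
  have e1 : alpha (d - 1) P = ((d - 1).factorial : ℚ) * P.coeff (d - 1) := rfl
  have e2 : alpha (d - 1) Q = ((d - 1).factorial : ℚ) * Q.coeff (d - 1) := rfl
  rw [e1, e2]
  nlinarith [mul_nonneg hf hc]

end Groth.Agent.Lib.R2H7.StabNum
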