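import Mathlib
import Groth.Prelude.Def_StabCat
import Groth.Agent.Lib.R2H7StabNum

/-!
# helper7: abstract (semi)stability with respect to a Hilbert-polynomial-like invariant

`Ax ok HP sdim` packages what is needed of coherent sheaves on a projective scheme: tested objects are
closed under kernels and cokernels (hence images), Hilbert polynomials exist, are unique and additive, have
degree at most the dimension of the support and positive leading coefficient in that degree.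
The standard lemmas of Huybrechts-Lehn 1.2-1.3 are proved from these axioms.
-/

set_option autoImplicit false
universe v u
open CategoryTheory CategoryTheory.Limits Polynomial StabCat Filter
open Groth.Agent.Lib.R2H7.StabNum

namespace Groth.Agent.Lib.R2H7.HilbStab

variable {C : Type u} [Category.{v} C] [Abelian C]

structure Ax (ok : C → Prop) (HP : C → ℚ[X] → Prop) (sdim : C → WithBot ℕ∞) : Prop where
  ok_ker : ∀ {E Q : C} (π : E ⟶ Q), ok E → ok Q → ok (kernel π)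
  ok_coker : ∀ {F E : C} (ι : F ⟶ E), ok F → ok E → ok (cokernel ι)
  hp_exists : ∀ {F : C}, ok F → ∃ P : ℚ[X], HP F P
  hp_unique : ∀ {F : C} {P Q : ℚ[X]}, HP F P → HP F Q → P = Q
  hp_iso : ∀ {F G : C} (_ : F ≅ G) {P : ℚ[X]}, HP F P → HP G P
  hp_zero : ∀ {F : C}, IsZero F → HP F 0
  hp_add : ∀ (S : ShortComplex C), S.ShortExact → ok S.X₁ → ok S.X₂ → ok S.X₃ →
    ∀ {P₁ P₃ : ℚ[X]}, HP S.X₁ P₁ → HP S.X₃ P₃ → HP S.X₂ (P₁ + P₃)
  sdim_mono : ∀ {F E : C} (ι : F ⟶ E), Mono ι → sdim F ≤ sdim E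
  sdim_epi : ∀ {E Q : C} (π : E ⟶ Q), Epi π → sdim Q ≤ sdim E
  sdim_zero : ∀ {F : C}, IsZero F → sdim F = ⊥
  sdim_nat : ∀ {F : C}, ok F → ¬ IsZero F → ∃ e : ℕ, sdim F = (e : WithBot ℕ∞)
  deg_le : ∀ {F : C} {P : ℚ[X]} (e : ℕ), ok F → HP F P → sdim F ≤ (e : WithBot ℕ∞) →
    P.natDegree ≤ e
  alpha_pos : ∀ {F : C} {P : ℚ[X]} (e : ℕ), ok F → HP F P → sdim F = (e : WithBot ℕ∞) →
    0 < alpha e P

/-- purity, abstractly -/
def Pure (ok : C → Prop) (sdim : C → WithBot ℕ∞) (E : C) (d : ℕ) : Prop :=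
  ∀ (F : C) (ι : F ⟶ E), Mono ι → ok F → ¬ IsZero F → sdim F = (d : WithBot ℕ∞)

def SS (ok : C → Prop) (HP : C → ℚ[X] → Prop) (sdim : C → WithBot ℕ∞) (E : C) (d : ℕ) : Prop :=
  ok E ∧ ¬ IsZero E ∧ Pure ok sdim E d ∧ IsSS ok HP d E

def St (ok : C → Prop) (HP : C → ℚ[X] → Prop) (sdim : C → WithBot ℕ∞) (E : C) (d : ℕ) : Prop :=
  ok E ∧ ¬ IsZero E ∧ Pure ok sdim E d ∧ IsSt ok HP d E

def EllSS (ok : C → Prop) (HP : C → ℚ[X] → Prop) (sdim : C → WithBot ℕ∞) (E : C) (d ℓ : ℕ) :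
    Prop :=
  ok E ∧ ¬ IsZero E ∧ Pure ok sdim E d ∧ IsEllSS ok HP d ℓ E

def EllSt (ok : C → Prop) (HP : C → ℚ[X] → Prop) (sdim : C → WithBot ℕ∞) (E : C) (d ℓ : ℕ) :
    Prop :=
  ok E ∧ ¬ IsZero E ∧ Pure ok sdim E d ∧ IsEllSt ok HP d ℓ E

def MuSS (ok : C → Prop) (HP : C → ℚ[X] → Prop) (sdim : C → WithBot ℕ∞) (E : C) (d : ℕ) : Prop :=
  ok E ∧ ¬ IsZero E ∧ sdim E = (d : WithBot ℕ∞) ∧
    (∀ (F : C) (ι : F ⟶ E), Mono ι → ok F → sdim F + 1 ≠ (d : WithBot ℕ∞)) ∧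
    IsMuSS ok HP d E

theorem not_isZero_cokernel {F E : C} (ι : F ⟶ E) [Mono ι] (h : ¬ IsIso ι) :
    ¬ IsZero (cokernel ι) := by
  intro hz
  haveI : Epi ι := Preadditive.epi_of_isZero_cokernel ι hz
  exact h (isIso_of_mono_of_epi ι)

theorem not_isZero_kernel {E Q : C} (π : E ⟶ Q) [Epi π] (h : ¬ IsIso π) :
    ¬ IsZero (kernel π) := by
  intro hz
  haveI : Mono π := Preadditive.mono_of_isZero_kernel π hz
  exact h (isIso_of_mono_of_epi π)

theorem isZero_of_epi_eq_zero {E Q : C} (π : E ⟶ Q) [Epi π] (h : π = 0) : IsZero Q := by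
  rw [IsZero.iff_id_eq_zero]
  exact (cancel_epi π).1 (by rw [h, Limits.zero_comp, Limits.zero_comp])

variable {ok : C → Prop} {HP : C → ℚ[X] → Prop} {sdim : C → WithBot ℕ∞}

namespace Ax

variable (ax : Ax ok HP sdim)
include ax

theorem sdim_iso {F G : C} (e : F ≅ G) : sdim F = sdim G :=
  le_antisymm (ax.sdim_mono e.hom inferInstance) (ax.sdim_mono e.inv inferInstance)

theorem hp_eq_zero {F : C} {P : ℚ[X]} (hz : IsZero F) (h : HP F P) : P = 0 :=
  ax.hp_unique h (ax.hp_zero hz)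

theorem eventually_pos {F : C} {P : ℚ[X]} (hF : ok F) (hnz : ¬ IsZero F) (h : HP F P) :
    ∀ᶠ m : ℕ in atTop, 0 < P.eval (m : ℚ) := by
  obtain ⟨e, he⟩ := ax.sdim_nat hF hnz
  exact eventually_pos_of_alpha_pos (ax.deg_le e hF h he.le) (ax.alpha_pos e hF h he)

theorem alpha_eq_zero {F : C} {P : ℚ[X]} {d : ℕ} (hF : ok F) (h : HP F P)
    (hlt : sdim F < (d : WithBot ℕ∞)) : alpha d P = 0 := by
  by_cases hz : IsZero F
  · rw [ax.hp_eq_zero hz h, alpha_zero]
  · obtain ⟨e, he⟩ := ax.sdim_nat hF hz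
    rw [he] at hlt
    have hed : e < d := by exact_mod_cast hlt
    exact alpha_eq_zero_of_natDegree_lt (lt_of_le_of_lt (ax.deg_le e hF h he.le) hed)

theorem alpha_nonneg {F : C} {P : ℚ[X]} {d : ℕ} (hF : ok F) (h : HP F P)
    (hle : sdim F ≤ (d : WithBot ℕ∞)) : 0 ≤ alpha d P := by
  rcases hle.eq_or_lt with h1 | h1
  · exact (ax.alpha_pos d hF h h1).le
  · exact (ax.alpha_eq_zero hF h h1).ge

theorem ok_image {F G : C} (φ : F ⟶ G) (hF : ok F) (hG : ok G) : ok (Abelian.image φ) :=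
  ax.ok_ker (cokernel.π φ) hG (ax.ok_coker φ hF hG)

theorem hp_coker {F E : C} (ι : F ⟶ E) [Mono ι] (hF : ok F) (hE : ok E) {pF pE : ℚ[X]}
    (hpF : HP F pF) (hpE : HP E pE) : HP (cokernel ι) (pE - pF) := by
  have okQ : ok (cokernel ι) := ax.ok_coker ι hF hE
  obtain ⟨pQ, hpQ⟩ := ax.hp_exists okQ
  have hS : (ShortComplex.mk ι (cokernel.π ι) (cokernel.condition ι)).ShortExact :=
    ShortComplex.ShortExact.mk' (ShortComplex.exact_cokernel ι) ‹Mono ι› inferInstance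
  have h := ax.hp_add _ hS hF hE okQ hpF hpQ
  have e : pE = pF + pQ := ax.hp_unique hpE h
  rw [e, add_sub_cancel_left]
  exact hpQ

theorem hp_ker {E Q : C} (π : E ⟶ Q) [Epi π] (hE : ok E) (hQ : ok Q) {pE pQ : ℚ[X]}
    (hpE : HP E pE) (hpQ : HP Q pQ) : HP (kernel π) (pE - pQ) := by
  have okK : ok (kernel π) := ax.ok_ker π hE hQ
  obtain ⟨pK, hpK⟩ := ax.hp_exists okK
  have hS : (ShortComplex.mk (kernel.ι π) π (kernel.condition π)).ShortExact :=
    ShortComplex.ShortExact.mk' (ShortComplex.exact_kernel π) inferInstance ‹Epi π›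
  have h := ax.hp_add _ hS okK hE hQ hpK hpQ
  have e : pE = pK + pQ := ax.hp_unique hpE h
  rw [e, add_sub_cancel_right]
  exact hpK

/-- numerical data of a nonzero proper tested subobject of a pure object -/
theorem sub_data {E F : C} {d : ℕ} (hE : ok E) (hp : Pure ok sdim E d) (ι : F ⟶ E) [Mono ι]
    (hF : ok F) (hnz : ¬ IsZero F) (hniso : ¬ IsIso ι) {pF pE : ℚ[X]} (hpF : HP F pF)
    (hpE : HP E pE) :
    0 < alpha d pF ∧ 0 ≤ alpha d pE - alpha d pF ∧
      (∀ᶠ m : ℕ in atTop, pF.eval (m : ℚ) < pE.eval (m : ℚ)) ∧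
      pF.natDegree ≤ d ∧ pE.natDegree ≤ d := by
  have hdF : sdim F = (d : WithBot ℕ∞) := hp F ι ‹Mono ι› hF hnz
  have hnzE : ¬ IsZero E := fun hz => hnz (IsZero.of_mono ι hz)
  have hdE : sdim E = (d : WithBot ℕ∞) := hp E (𝟙 E) inferInstance hE hnzE
  have okQ : ok (cokernel ι) := ax.ok_coker ι hF hE
  have hQnz := not_isZero_cokernel ι hniso
  have hpQ := ax.hp_coker ι hF hE hpF hpE
  have hdQ : sdim (cokernel ι) ≤ (d : WithBot ℕ∞) :=
    (ax.sdim_epi (cokernel.π ι) inferInstance).trans hdE.le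
  refine ⟨ax.alpha_pos d hF hpF hdF, ?_, ?_, ax.deg_le d hF hpF hdF.le, ax.deg_le d hE hpE hdE.le⟩
  · have := ax.alpha_nonneg okQ hpQ hdQ
    rwa [alpha_sub] at this
  · filter_upwards [ax.eventually_pos okQ hQnz hpQ] with m hm
    rw [eval_sub] at hm
    linarith

theorem pure_of_isSS {E : C} {d : ℕ} (hE : ok E) (hdim : sdim E = (d : WithBot ℕ∞))
    (hss : IsSS ok HP d E) : Pure ok sdim E d := by
  intro F ι hι hF hnz
  haveI := hι
  by_contra hne
  have hle : sdim F ≤ (d : WithBot ℕ∞) := (ax.sdim_mono ι hι).trans hdim.le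
  have hlt := lt_of_le_of_ne hle hne
  have hniso : ¬ IsIso ι := fun hiso => by
    haveI := hiso
    exact hne ((ax.sdim_iso (asIso ι)).trans hdim)
  obtain ⟨pF, hpF⟩ := ax.hp_exists hF
  obtain ⟨pE, hpE⟩ := ax.hp_exists hE
  have h := hss F ι hι hF hnz hniso pF pE hpF hpE
  rw [redLE_iff, ax.alpha_eq_zero hF hpF hlt] at h
  have aE := ax.alpha_pos d hE hpE hdim
  obtain ⟨m, h1, h2⟩ := (h.and (ax.eventually_pos hF hnz hpF)).exists
  nlinarith [mul_pos aE h2]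

theorem pure_of_isSt {E : C} {d : ℕ} (hE : ok E) (hdim : sdim E = (d : WithBot ℕ∞))
    (hst : IsSt ok HP d E) : Pure ok sdim E d :=
  ax.pure_of_isSS hE hdim fun F ι hι hF hnz hniso pF pE hpF hpE =>
    RedLT.redLE (hst F ι hι hF hnz hniso pF pE hpF hpE)

theorem ss_iff_isSS {E : C} {d : ℕ} (hE : ok E) (h0 : ¬ IsZero E)
    (hdim : sdim E = (d : WithBot ℕ∞)) : SS ok HP sdim E d ↔ IsSS ok HP d E :=
  ⟨fun h => h.2.2.2, fun h => ⟨hE, h0, ax.pure_of_isSS hE hdim h, h⟩⟩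

theorem st_iff_isSt {E : C} {d : ℕ} (hE : ok E) (h0 : ¬ IsZero E)
    (hdim : sdim E = (d : WithBot ℕ∞)) : St ok HP sdim E d ↔ IsSt ok HP d E :=
  ⟨fun h => h.2.2.2, fun h => ⟨hE, h0, ax.pure_of_isSt hE hdim h, h⟩⟩

/-- the hypotheses `0 < α(F) < α(E)` force `F` nonzero and proper -/
theorem nz_of_alpha {E F : C} {d : ℕ} (ι : F ⟶ E) [Mono ι] {pF pE : ℚ[X]} (hpF : HP F pF)
    (hpE : HP E pE) (h0 : 0 < alpha d pF) (hlt : alpha d pF < alpha d pE) :
    ¬ IsZero F ∧ ¬ IsIso ι := by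
  constructor
  · intro hz
    rw [ax.hp_eq_zero hz hpF, alpha_zero] at h0
    exact lt_irrefl _ h0
  · intro hiso
    haveI := hiso
    have : pE = pF := ax.hp_unique hpE (ax.hp_iso (asIso ι) hpF)
    rw [this] at hlt
    exact lt_irrefl _ hlt

theorem isSS_iff_isEllSS {E : C} {d : ℕ} (hE : ok E) (hp : Pure ok sdim E d) :
    IsSS ok HP d E ↔ IsEllSS ok HP d d E := by
  constructor
  · intro hss F ι hι hF pF pE hpF hpE h0 hlt
    haveI := hι
    obtain ⟨hnz, hniso⟩ := ax.nz_of_alpha ι hpF hpE h0 hlt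
    obtain ⟨-, -, -, dF, dE⟩ := ax.sub_data hE hp ι hF hnz hniso hpF hpE
    rw [topPart_self dF, topPart_self dE]
    exact hss F ι hι hF hnz hniso pF pE hpF hpE
  · intro hell F ι hι hF hnz hniso pF pE hpF hpE
    haveI := hι
    obtain ⟨aF, aQ, hev, dF, dE⟩ := ax.sub_data hE hp ι hF hnz hniso hpF hpE
    rcases aQ.eq_or_lt with h1 | h1
    · have heq : alpha d pE = alpha d pF := by linarith
      rw [redLE_iff, heq]
      filter_upwards [hev] with m hm
      exact mul_le_mul_of_nonneg_left hm.le aF.le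
    · have := hell F ι hι hF pF pE hpF hpE aF (by linarith)
      rwa [topPart_self dF, topPart_self dE] at this

theorem isSt_iff_isEllSt {E : C} {d : ℕ} (hE : ok E) (hp : Pure ok sdim E d) :
    IsSt ok HP d E ↔ IsEllSt ok HP d d E := by
  constructor
  · intro hss F ι hι hF pF pE hpF hpE h0 hlt
    haveI := hι
    obtain ⟨hnz, hniso⟩ := ax.nz_of_alpha ι hpF hpE h0 hlt
    obtain ⟨-, -, -, dF, dE⟩ := ax.sub_data hE hp ι hF hnz hniso hpF hpE
    rw [topPart_self dF, topPart_self dE]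
    exact hss F ι hι hF hnz hniso pF pE hpF hpE
  · intro hell F ι hι hF hnz hniso pF pE hpF hpE
    haveI := hι
    obtain ⟨aF, aQ, hev, dF, dE⟩ := ax.sub_data hE hp ι hF hnz hniso hpF hpE
    rcases aQ.eq_or_lt with h1 | h1
    · have heq : alpha d pE = alpha d pF := by linarith
      rw [redLT_iff, heq]
      filter_upwards [hev] with m hm
      exact mul_lt_mul_of_pos_left hm aF
    · have := hell F ι hι hF pF pE hpF hpE aF (by linarith)
      rwa [topPart_self dF, topPart_self dE] at this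

theorem ss_iff_ellSS {E : C} {d : ℕ} : SS ok HP sdim E d ↔ EllSS ok HP sdim E d d :=
  ⟨fun h => ⟨h.1, h.2.1, h.2.2.1, (ax.isSS_iff_isEllSS h.1 h.2.2.1).1 h.2.2.2⟩,
    fun h => ⟨h.1, h.2.1, h.2.2.1, (ax.isSS_iff_isEllSS h.1 h.2.2.1).2 h.2.2.2⟩⟩

theorem st_iff_ellSt {E : C} {d : ℕ} : St ok HP sdim E d ↔ EllSt ok HP sdim E d d :=
  ⟨fun h => ⟨h.1, h.2.1, h.2.2.1, (ax.isSt_iff_isEllSt h.1 h.2.2.1).1 h.2.2.2⟩,
    fun h => ⟨h.1, h.2.1, h.2.2.1, (ax.isSt_iff_isEllSt h.1 h.2.2.1).2 h.2.2.2⟩⟩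

theorem ellSS_of_ss {E : C} {d ℓ : ℕ} (h : SS ok HP sdim E d) : EllSS ok HP sdim E d ℓ := by
  obtain ⟨hE, hnzE, hp, hss⟩ := h
  refine ⟨hE, hnzE, hp, ?_⟩
  intro F ι hι hF pF pE hpF hpE h0 hlt
  haveI := hι
  obtain ⟨hnz, hniso⟩ := ax.nz_of_alpha ι hpF hpE h0 hlt
  obtain ⟨-, -, -, dF, dE⟩ := ax.sub_data hE hp ι hF hnz hniso hpF hpE
  exact redLE_topPart dF dE (hss F ι hι hF hnz hniso pF pE hpF hpE)

theorem muSS_of_ss {E : C} {d : ℕ} (hd : 1 ≤ d) (h : SS ok HP sdim E d) :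
    MuSS ok HP sdim E d := by
  obtain ⟨hE, hnzE, hp, hss⟩ := h
  have hdim : sdim E = (d : WithBot ℕ∞) := hp E (𝟙 E) inferInstance hE hnzE
  refine ⟨hE, hnzE, hdim, ?_, ?_⟩
  · intro F ι hι hF
    by_cases hz : IsZero F
    · rw [ax.sdim_zero hz, WithBot.bot_add]
      exact WithBot.bot_ne_coe
    · rw [hp F ι hι hF hz]
      intro h
      have : d + 1 = d := by exact_mod_cast h
      omega
  · intro F ι hι hF pF pE hpF hpE h0 hlt
    haveI := hι
    obtain ⟨hnz, hniso⟩ := ax.nz_of_alpha ι hpF hpE h0 hlt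
    obtain ⟨aF, -, -, dF, dE⟩ := ax.sub_data hE hp ι hF hnz hniso hpF hpE
    exact hatSlope_le_of_redLE hd dF dE aF (h0.trans hlt)
      (hss F ι hι hF hnz hniso pF pE hpF hpE)

/-- quotient form of semistability -/
theorem redLE_quot {E I : C} {d : ℕ} (hE : ok E) (hss : IsSS ok HP d E) (π : E ⟶ I) [Epi π]
    (okI : ok I) {pE pI : ℚ[X]} (hpE : HP E pE) (hpI : HP I pI) : RedLE d pE pI := by
  by_cases hI : IsZero I
  · rw [ax.hp_eq_zero hI hpI, redLE_iff]
    simp [alpha_zero]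
  by_cases hK : IsZero (kernel π)
  · haveI : Mono π := Preadditive.mono_of_isZero_kernel π hK
    haveI : IsIso π := isIso_of_mono_of_epi π
    have : pI = pE := ax.hp_unique hpI (ax.hp_iso (asIso π) hpE)
    rw [this]
    exact redLE_refl d pE
  · have okK := ax.ok_ker π hE okI
    have hniso : ¬ IsIso (kernel.ι π) := by
      intro hiso
      haveI := hiso
      apply hI
      have hπ : π = 0 := (cancel_epi (kernel.ι π)).1 (by rw [kernel.condition, Limits.comp_zero])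
      exact isZero_of_epi_eq_zero π hπ
    have hpK := ax.hp_ker π hE okI hpE hpI
    have h := hss (kernel π) (kernel.ι π) inferInstance okK hK hniso _ pE hpK hpE
    rw [redLE_iff] at h ⊢
    rw [alpha_sub] at h
    filter_upwards [h] with m hm
    rw [eval_sub] at hm
    nlinarith [hm]

/-- quotient form of stability -/
theorem redLT_quot {E I : C} {d : ℕ} (hE : ok E) (hst : IsSt ok HP d E) (π : E ⟶ I) [Epi π]
    (okI : ok I) (hI : ¬ IsZero I) (hπ : ¬ IsIso π) {pE pI : ℚ[X]} (hpE : HP E pE)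
    (hpI : HP I pI) : RedLT d pE pI := by
  have hK := not_isZero_kernel π hπ
  have okK := ax.ok_ker π hE okI
  have hniso : ¬ IsIso (kernel.ι π) := by
    intro hiso
    haveI := hiso
    apply hI
    have hπ0 : π = 0 := (cancel_epi (kernel.ι π)).1 (by rw [kernel.condition, Limits.comp_zero])
    exact isZero_of_epi_eq_zero π hπ0
  have hpK := ax.hp_ker π hE okI hpE hpI
  have h := hst (kernel π) (kernel.ι π) inferInstance okK hK hniso _ pE hpK hpE
  rw [redLT_iff] at h ⊢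
  rw [alpha_sub] at h
  filter_upwards [h] with m hm
  rw [eval_sub] at hm
  nlinarith [hm]

theorem redLE_sub {G I : C} {d : ℕ} (hss : IsSS ok HP d G) (ι : I ⟶ G) [Mono ι] (hI : ok I)
    (hnz : ¬ IsZero I) {pI pG : ℚ[X]} (hpI : HP I pI) (hpG : HP G pG) : RedLE d pI pG := by
  by_cases hiso : IsIso ι
  · haveI := hiso
    have : pG = pI := ax.hp_unique hpG (ax.hp_iso (asIso ι) hpI)
    rw [this]
    exact redLE_refl _ _
  · exact hss I ι inferInstance hI hnz hiso pI pG hpI hpG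

omit ax in
theorem _root_.Groth.Agent.Lib.R2H7.HilbStab.St.toSS {E : C} {d : ℕ}
    (h : St ok HP sdim E d) : SS ok HP sdim E d :=
  ⟨h.1, h.2.1, h.2.2.1, fun F ι hι hF hnz hniso pF pE hpF hpE =>
    RedLT.redLE (h.2.2.2 F ι hι hF hnz hniso pF pE hpF hpE)⟩

theorem alpha_pos_of_pure {E : C} {d : ℕ} (hE : ok E) (hnz : ¬ IsZero E)
    (hp : Pure ok sdim E d) {pE : ℚ[X]} (hpE : HP E pE) : 0 < alpha d pE :=
  ax.alpha_pos d hE hpE (hp E (𝟙 E) inferInstance hE hnz)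

theorem hom_eq_zero {F G : C} {d : ℕ} (hF : SS ok HP sdim F d) (hG : SS ok HP sdim G d)
    {pF pG : ℚ[X]} (hpF : HP F pF) (hpG : HP G pG) (hlt : RedLT d pG pF) (φ : F ⟶ G) :
    φ = 0 := by
  by_contra hφ
  have hInz : ¬ IsZero (Abelian.image φ) := fun hz => hφ (by
    rw [← Abelian.image.fac φ, hz.eq_of_src (Abelian.image.ι φ) 0, Limits.comp_zero])
  have okI : ok (Abelian.image φ) := ax.ok_image φ hF.1 hG.1
  obtain ⟨pI, hpI⟩ := ax.hp_exists okI
  have aI : 0 < alpha d pI :=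
    ax.alpha_pos d okI hpI (hG.2.2.1 _ (Abelian.image.ι φ) inferInstance okI hInz)
  have aF := ax.alpha_pos_of_pure hF.1 hF.2.1 hF.2.2.1 hpF
  have aG := ax.alpha_pos_of_pure hG.1 hG.2.1 hG.2.2.1 hpG
  have hA := ax.redLE_quot hF.1 hF.2.2.2 (Abelian.factorThruImage φ) okI hpF hpI
  have hB := ax.redLE_sub hG.2.2.2 (Abelian.image.ι φ) okI hInz hpI hpG
  rw [redLE_iff] at hA hB
  rw [redLT_iff] at hlt
  obtain ⟨m, ⟨h1, h2⟩, h3⟩ := ((hA.and hB).and hlt).exists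
  nlinarith [mul_le_mul_of_nonneg_left h1 aG.le, mul_le_mul_of_nonneg_left h2 aF.le,
    mul_lt_mul_of_pos_left h3 aI]

theorem mono_of_st {F G : C} {d : ℕ} (hF : St ok HP sdim F d) (hG : SS ok HP sdim G d)
    {pF pG : ℚ[X]} (hpF : HP F pF) (hpG : HP G pG) (heq : RedEq d pF pG) (φ : F ⟶ G)
    (hφ : φ ≠ 0) : Mono φ := by
  by_contra hmono
  have hInz : ¬ IsZero (Abelian.image φ) := fun hz => hφ (by
    rw [← Abelian.image.fac φ, hz.eq_of_src (Abelian.image.ι φ) 0, Limits.comp_zero])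
  have okI : ok (Abelian.image φ) := ax.ok_image φ hF.1 hG.1
  obtain ⟨pI, hpI⟩ := ax.hp_exists okI
  have aI : 0 < alpha d pI :=
    ax.alpha_pos d okI hpI (hG.2.2.1 _ (Abelian.image.ι φ) inferInstance okI hInz)
  have aF := ax.alpha_pos_of_pure hF.1 hF.2.1 hF.2.2.1 hpF
  have aG := ax.alpha_pos_of_pure hG.1 hG.2.1 hG.2.2.1 hpG
  have hπ : ¬ IsIso (Abelian.factorThruImage φ) := fun hiso => hmono (by
    haveI := hiso
    rw [← Abelian.image.fac φ]
    infer_instance)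
  have hA := ax.redLT_quot hF.1 hF.2.2.2 (Abelian.factorThruImage φ) okI hInz hπ hpF hpI
  have hB := ax.redLE_sub hG.2.2.2 (Abelian.image.ι φ) okI hInz hpI hpG
  rw [redLT_iff] at hA
  rw [redLE_iff] at hB
  obtain ⟨m, h1, h2⟩ := (hA.and hB).exists
  have h3 : alpha d pG * pF.eval (m : ℚ) = alpha d pF * pG.eval (m : ℚ) := by
    have := congrArg (eval (m : ℚ)) heq
    simpa [eval_smul] using this
  nlinarith [mul_lt_mul_of_pos_left h1 aG, mul_le_mul_of_nonneg_left h2 aF.le,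
    congrArg (fun t => alpha d pI * t) h3]

theorem epi_of_st {F G : C} {d : ℕ} (hF : SS ok HP sdim F d) (hG : St ok HP sdim G d)
    {pF pG : ℚ[X]} (hpF : HP F pF) (hpG : HP G pG) (heq : RedEq d pF pG) (φ : F ⟶ G)
    (hφ : φ ≠ 0) : Epi φ := by
  by_contra hepi
  have hInz : ¬ IsZero (Abelian.image φ) := fun hz => hφ (by
    rw [← Abelian.image.fac φ, hz.eq_of_src (Abelian.image.ι φ) 0, Limits.comp_zero])
  have okI : ok (Abelian.image φ) := ax.ok_image φ hF.1 hG.1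
  obtain ⟨pI, hpI⟩ := ax.hp_exists okI
  have aI : 0 < alpha d pI :=
    ax.alpha_pos d okI hpI (hG.2.2.1 _ (Abelian.image.ι φ) inferInstance okI hInz)
  have aF := ax.alpha_pos_of_pure hF.1 hF.2.1 hF.2.2.1 hpF
  have aG := ax.alpha_pos_of_pure hG.1 hG.2.1 hG.2.2.1 hpG
  have hι : ¬ IsIso (Abelian.image.ι φ) := fun hiso => hepi (by
    haveI := hiso
    rw [← Abelian.image.fac φ]
    infer_instance)
  have hA := ax.redLE_quot hF.1 hF.2.2.2 (Abelian.factorThruImage φ) okI hpF hpI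
  have hB := hG.2.2.2 _ (Abelian.image.ι φ) inferInstance okI hInz hι pI pG hpI hpG
  rw [redLE_iff] at hA
  rw [redLT_iff] at hB
  obtain ⟨m, h1, h2⟩ := (hA.and hB).exists
  have h3 : alpha d pG * pF.eval (m : ℚ) = alpha d pF * pG.eval (m : ℚ) := by
    have := congrArg (eval (m : ℚ)) heq
    simpa [eval_smul] using this
  nlinarith [mul_le_mul_of_nonneg_left h1 aG.le, mul_lt_mul_of_pos_left h2 aF,
    congrArg (fun t => alpha d pI * t) h3]

theorem iso_of_st {F G : C} {d : ℕ} (hF : SS ok HP sdim F d) (hG : SS ok HP sdim G d)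
    (hst : St ok HP sdim F d ∨ St ok HP sdim G d) {P : ℚ[X]} (hpF : HP F P) (hpG : HP G P)
    (φ : F ⟶ G) (hφ : φ ≠ 0) : IsIso φ := by
  have heq : RedEq d P P := rfl
  rcases hst with h | h
  · haveI := ax.mono_of_st h hG hpF hpG heq φ hφ
    have hQ := ax.hp_coker φ hF.1 hG.1 hpF hpG
    have hz : IsZero (cokernel φ) := by
      by_contra hnz
      have okQ := ax.ok_coker φ hF.1 hG.1
      obtain ⟨m, hm⟩ := (ax.eventually_pos okQ hnz hQ).exists
      simp at hm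
    haveI := Preadditive.epi_of_isZero_cokernel φ hz
    exact isIso_of_mono_of_epi φ
  · haveI := ax.epi_of_st hF h hpF hpG heq φ hφ
    have hK := ax.hp_ker φ hF.1 hG.1 hpF hpG
    have hz : IsZero (kernel φ) := by
      by_contra hnz
      have okK := ax.ok_ker φ hF.1 hG.1
      obtain ⟨m, hm⟩ := (ax.eventually_pos okK hnz hK).exists
      simp at hm
    haveI := Preadditive.mono_of_isZero_kernel φ hz
    exact isIso_of_mono_of_epi φ

theorem isIso_endo {E : C} {d : ℕ} (hE : St ok HP sdim E d) (φ : E ⟶ E) (hφ : φ ≠ 0) :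
    IsIso φ := by
  obtain ⟨pE, hpE⟩ := ax.hp_exists hE.1
  exact ax.iso_of_st hE.toSS hE.toSS (Or.inl hE) hpE hpE φ hφ

end Ax

end Groth.Agent.Lib.R2H7.HilbStab
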