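import Mathlib
import Groth.Prelude.Def_StabCat
import Groth.Agent.Lib.R2H7StabNum
import Groth.Agent.Lib.R2H7HilbStab

/-!
# helper7: abstract (semi)stability, part B

* transitivity of the cross-multiplied comparisons `RedLE`, `RedLT`;
* `Ax.maxDestab_unique` : uniqueness of the maximal destabilising subobject;
* `eq_zero_of_filtration`, `eq_zero_of_filtration_target` : morphisms out of / into a filtered
  object vanish when they vanish on the factors;
* `Ax.hom_eq_zero_of_hn` : `Hom(F, G) = 0` when `p_min(F) > p_max(G)`.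
-/

set_option autoImplicit false
universe v u
open CategoryTheory CategoryTheory.Limits Polynomial StabCat Filter
open Groth.Agent.Lib.R2H7.StabNum

namespace Groth.Agent.Lib.R2H7.HilbStab

/-! ### transitivity -/

theorem cross_trans {a b c A B C : ℚ} (ha : 0 ≤ a) (hb : 0 < b) (hc : 0 ≤ c)
    (h1 : b * A ≤ a * B) (h2 : c * B ≤ b * C) : c * A ≤ a * C := by
  have h3 : b * (c * A) ≤ b * (a * C) := by
    nlinarith [mul_le_mul_of_nonneg_left h1 hc, mul_le_mul_of_nonneg_left h2 ha]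
  exact le_of_mul_le_mul_left h3 hb

theorem cross_trans_lt_left {a b c A B C : ℚ} (ha : 0 ≤ a) (hb : 0 < b) (hc : 0 < c)
    (h1 : b * A < a * B) (h2 : c * B ≤ b * C) : c * A < a * C := by
  have h3 : b * (c * A) < b * (a * C) := by
    nlinarith [mul_lt_mul_of_pos_left h1 hc, mul_le_mul_of_nonneg_left h2 ha]
  exact lt_of_mul_lt_mul_left h3 hb.le

theorem cross_trans_lt_right {a b c A B C : ℚ} (ha : 0 < a) (hb : 0 < b) (hc : 0 ≤ c)
    (h1 : b * A ≤ a * B) (h2 : c * B < b * C) : c * A < a * C := by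
  have h3 : b * (c * A) < b * (a * C) := by
    nlinarith [mul_le_mul_of_nonneg_left h1 hc, mul_lt_mul_of_pos_left h2 ha]
  exact lt_of_mul_lt_mul_left h3 hb.le

theorem redLE_trans {d : ℕ} {A B C : ℚ[X]} (hA : 0 ≤ alpha d A) (hB : 0 < alpha d B)
    (hC : 0 ≤ alpha d C) (h1 : RedLE d A B) (h2 : RedLE d B C) : RedLE d A C := by
  rw [redLE_iff] at h1 h2 ⊢
  filter_upwards [h1, h2] with m x y
  exact cross_trans hA hB hC x y

theorem redLT_of_redLT_of_redLE {d : ℕ} {A B C : ℚ[X]} (hA : 0 ≤ alpha d A)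
    (hB : 0 < alpha d B) (hC : 0 < alpha d C) (h1 : RedLT d A B) (h2 : RedLE d B C) :
    RedLT d A C := by
  rw [redLT_iff] at h1 ⊢
  rw [redLE_iff] at h2
  filter_upwards [h1, h2] with m x y
  exact cross_trans_lt_left hA hB hC x y

theorem redLT_of_redLE_of_redLT {d : ℕ} {A B C : ℚ[X]} (hA : 0 < alpha d A)
    (hB : 0 < alpha d B) (hC : 0 ≤ alpha d C) (h1 : RedLE d A B) (h2 : RedLT d B C) :
    RedLT d A C := by
  rw [redLT_iff] at h2 ⊢
  rw [redLE_iff] at h1
  filter_upwards [h1, h2] with m x y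
  exact cross_trans_lt_right hA hB hC x y

theorem redEq_of_redLE_of_redLE {d : ℕ} {P Q : ℚ[X]} (h1 : RedLE d P Q) (h2 : RedLE d Q P) :
    RedEq d P Q := by
  rw [redLE_iff] at h1 h2
  show alpha d Q • P = alpha d P • Q
  apply eq_of_eventually_eq
  filter_upwards [h1, h2] with m a b
  rw [eval_smul, eval_smul, smul_eq_mul, smul_eq_mul]
  exact le_antisymm a b

theorem redLE_of_redEq {d : ℕ} {P Q : ℚ[X]} (h : RedEq d P Q) : RedLE d P Q := by
  rw [redLE_iff]
  refine Eventually.of_forall fun m => ?_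
  have := congrArg (eval (m : ℚ)) h
  rw [eval_smul, eval_smul, smul_eq_mul, smul_eq_mul] at this
  exact this.le

theorem redLE_of_redEq' {d : ℕ} {P Q : ℚ[X]} (h : RedEq d P Q) : RedLE d Q P := by
  rw [redLE_iff]
  refine Eventually.of_forall fun m => ?_
  have := congrArg (eval (m : ℚ)) h
  rw [eval_smul, eval_smul, smul_eq_mul, smul_eq_mul] at this
  exact this.ge

theorem redLE_or_redLT (d : ℕ) (P Q : ℚ[X]) : RedLE d P Q ∨ RedLT d Q P :=
  polyLE_or_polyLT _ _

theorem not_redLT_of_redLE {d : ℕ} {P Q : ℚ[X]} (h : RedLE d P Q) : ¬ RedLT d Q P :=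
  not_polyLT_of_polyLE h

/-! ### filtrations -/

variable {C : Type u} [Category.{v} C] [Abelian C]

theorem arrow_comp_eq_zero {F G : C} (s : LTSeries (Subobject F)) (hhead : s.head = ⊥)
    (φ : F ⟶ G) (H : ∀ (i : Fin s.length) (ψ : factor s i ⟶ G), ψ = 0) :
    ∀ j : Fin (s.length + 1), (s j).arrow ≫ φ = 0 := by
  intro j
  induction j using Fin.induction with
  | zero =>
    have aux : ∀ S : Subobject F, S = ⊥ → S.arrow ≫ φ = 0 := by
      rintro _ rfl
      rw [Subobject.bot_arrow, Limits.zero_comp]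
    exact aux _ hhead
  | succ i ih =>
    have w : Subobject.ofLE (s i.castSucc) (s i.succ) (le_of_lt (s.step i)) ≫
        ((s i.succ).arrow ≫ φ) = 0 := by
      rw [← Category.assoc, Subobject.ofLE_arrow]
      exact ih
    have h1 : cokernel.desc _ _ w = 0 := H i (cokernel.desc _ _ w)
    have h2 := cokernel.π_desc _ _ w
    rw [← h2, h1, Limits.comp_zero]

/-- a morphism out of a filtered object vanishes if all morphisms out of the factors do -/
theorem eq_zero_of_filtration {F G : C} (s : LTSeries (Subobject F)) (hhead : s.head = ⊥)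
    (hlast : s.last = ⊤) (φ : F ⟶ G) (H : ∀ (i : Fin s.length) (ψ : factor s i ⟶ G), ψ = 0) :
    φ = 0 := by
  have h := arrow_comp_eq_zero s hhead φ H (Fin.last _)
  have aux : ∀ S : Subobject F, S = ⊤ → S.arrow ≫ φ = 0 → φ = 0 := by
    rintro _ rfl h'
    exact (cancel_epi (⊤ : Subobject F).arrow).1 (by rw [h', Limits.comp_zero])
  exact aux _ hlast h

theorem exists_lift_of_factors {T G : C} (t : LTSeries (Subobject G)) (hlast : t.last = ⊤)
    (ψ : T ⟶ G) (H : ∀ (j : Fin t.length) (χ : T ⟶ factor t j), χ = 0) :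
    ∀ j : Fin (t.length + 1), ∃ ψ' : T ⟶ (t j : C), ψ' ≫ (t j).arrow = ψ := by
  intro j
  induction j using Fin.reverseInduction with
  | last =>
    have aux : ∀ S : Subobject G, S = ⊤ → ∃ ψ' : T ⟶ (S : C), ψ' ≫ S.arrow = ψ := by
      rintro _ rfl
      exact ⟨ψ ≫ inv (⊤ : Subobject G).arrow, by simp⟩
    exact aux _ hlast
  | cast i ih =>
    obtain ⟨ψ', hψ'⟩ := ih
    have h0 : ψ' ≫ cokernel.π
        (Subobject.ofLE (t i.castSucc) (t i.succ) (le_of_lt (t.step i))) = 0 := H i _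
    refine ⟨Abelian.monoLift _ ψ' h0, ?_⟩
    rw [← Subobject.ofLE_arrow (le_of_lt (t.step i)), ← Category.assoc, Abelian.monoLift_comp,
      hψ']

/-- a morphism into a filtered object vanishes if all morphisms into the factors do -/
theorem eq_zero_of_filtration_target {T G : C} (t : LTSeries (Subobject G)) (hhead : t.head = ⊥)
    (hlast : t.last = ⊤) (ψ : T ⟶ G) (H : ∀ (j : Fin t.length) (χ : T ⟶ factor t j), χ = 0) :
    ψ = 0 := by
  obtain ⟨ψ', hψ'⟩ := exists_lift_of_factors t hlast ψ H 0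
  have aux : ∀ S : Subobject G, S = ⊥ → ∀ ψ' : T ⟶ (S : C), ψ' ≫ S.arrow = ψ → ψ = 0 := by
    rintro _ rfl ψ' h
    rw [← h, Subobject.bot_arrow, Limits.comp_zero]
  exact aux _ hhead ψ' hψ'

variable {ok : C → Prop} {HP : C → ℚ[X] → Prop} {sdim : C → WithBot ℕ∞}

namespace Ax

variable (ax : Ax ok HP sdim)
include ax

/-- uniqueness of the maximal destabilising subobject -/
theorem maxDestab_unique {E F₁ F₂ : C} {d : ℕ} (ι₁ : F₁ ⟶ E) (ι₂ : F₂ ⟶ E)
    (h₁ : IsMaxDestabWith ok HP d E F₁ ι₁) (h₂ : IsMaxDestabWith ok HP d E F₂ ι₂) :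
    ∃ e : F₁ ≅ F₂, e.hom ≫ ι₂ = ι₁ := by
  obtain ⟨m₁, ok₁, nz₁, H₁⟩ := h₁
  obtain ⟨m₂, ok₂, nz₂, H₂⟩ := h₂
  haveI := m₁
  haveI := m₂
  obtain ⟨p₁, hp₁⟩ := ax.hp_exists ok₁
  obtain ⟨p₂, hp₂⟩ := ax.hp_exists ok₂
  obtain ⟨le21, f21⟩ := H₁ F₂ ι₂ m₂ ok₂ nz₂ p₁ p₂ hp₁ hp₂
  obtain ⟨le12, f12⟩ := H₂ F₁ ι₁ m₁ ok₁ nz₁ p₂ p₁ hp₂ hp₁
  obtain ⟨φ, hφ⟩ := f21 (redEq_of_redLE_of_redLE le21 le12)
  obtain ⟨ψ, hψ⟩ := f12 (redEq_of_redLE_of_redLE le12 le21)
  refine ⟨⟨ψ, φ, ?_, ?_⟩, hψ⟩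
  · rw [← cancel_mono ι₁, Category.assoc, hφ, hψ, Category.id_comp]
  · rw [← cancel_mono ι₂, Category.assoc, hψ, hφ, Category.id_comp]

/-- `Hom(F, G) = 0` when `p_min(F) > p_max(G)` -/
theorem hom_eq_zero_of_hn {F G : C} {d : ℕ}
    (s : LTSeries (Subobject F)) (hs : IsHNWith (fun A => SS ok HP sdim A d) HP d F s)
    (t : LTSeries (Subobject G)) (ht : IsHNWith (fun A => SS ok HP sdim A d) HP d G t)
    (i : Fin s.length) (hi : i.val + 1 = s.length) (j : Fin t.length) (hj : j.val = 0)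
    {pmin pmax : ℚ[X]} (hpmin : HP (factor s i) pmin) (hpmax : HP (factor t j) pmax)
    (hlt : RedLT d pmax pmin) (φ : F ⟶ G) : φ = 0 := by
  obtain ⟨sh, sl, sSS, sdec⟩ := hs
  obtain ⟨th, tl, tSS, tdec⟩ := ht
  have posS : ∀ (a : Fin s.length) (P : ℚ[X]), HP (factor s a) P → 0 < alpha d P :=
    fun a P hP => ax.alpha_pos_of_pure (sSS a).1 (sSS a).2.1 (sSS a).2.2.1 hP
  have posT : ∀ (b : Fin t.length) (Q : ℚ[X]), HP (factor t b) Q → 0 < alpha d Q :=
    fun b Q hQ => ax.alpha_pos_of_pure (tSS b).1 (tSS b).2.1 (tSS b).2.2.1 hQ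
  have lowS : ∀ (n : ℕ) (a : Fin s.length), a.val + n + 1 = s.length →
      ∀ P : ℚ[X], HP (factor s a) P → RedLE d pmin P := by
    intro n
    induction n with
    | zero =>
      intro a ha P hP
      have hai : a = i := Fin.ext (by omega)
      rw [hai] at hP
      rw [ax.hp_unique hP hpmin]
      exact redLE_refl d pmin
    | succ n ih =>
      intro a ha P hP
      have hlt' : a.val + 1 < s.length := by omega
      obtain ⟨P', hP'⟩ := ax.hp_exists (sSS ⟨a.val + 1, hlt'⟩).1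
      have h1 := ih ⟨a.val + 1, hlt'⟩ (by simp only; omega) P' hP'
      have h2 : RedLT d P' P := sdec a ⟨a.val + 1, hlt'⟩ rfl P P' hP hP'
      exact redLE_trans (posS i pmin hpmin).le (posS _ P' hP') (posS a P hP).le h1
        (RedLT.redLE h2)
  have upT : ∀ (n : ℕ) (b : Fin t.length), b.val = n →
      ∀ Q : ℚ[X], HP (factor t b) Q → RedLE d Q pmax := by
    intro n
    induction n with
    | zero =>
      intro b hb Q hQ
      have hbj : b = j := Fin.ext (by omega)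
      rw [hbj] at hQ
      rw [ax.hp_unique hQ hpmax]
      exact redLE_refl d pmax
    | succ n ih =>
      intro b hb Q hQ
      have hlt' : n < t.length := by have := b.isLt; omega
      obtain ⟨Q', hQ'⟩ := ax.hp_exists (tSS ⟨n, hlt'⟩).1
      have h1 := ih ⟨n, hlt'⟩ rfl Q' hQ'
      have h2 : RedLT d Q Q' := tdec ⟨n, hlt'⟩ b (by simp only; omega) Q' Q hQ' hQ
      exact redLE_trans (posT b Q hQ).le (posT _ Q' hQ') (posT j pmax hpmax).le
        (RedLT.redLE h2) h1
  have cross : ∀ (a : Fin s.length) (b : Fin t.length) (ψ : factor s a ⟶ factor t b),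
      ψ = 0 := by
    intro a b ψ
    obtain ⟨P, hP⟩ := ax.hp_exists (sSS a).1
    obtain ⟨Q, hQ⟩ := ax.hp_exists (tSS b).1
    have h1 : RedLE d pmin P :=
      lowS (s.length - a.val - 1) a (by have := a.isLt; omega) P hP
    have h2 : RedLE d Q pmax := upT b.val b rfl Q hQ
    have h3 : RedLT d Q pmin :=
      redLT_of_redLE_of_redLT (posT b Q hQ) (posT j pmax hpmax) (posS i pmin hpmin).le h2 hlt
    have h4 : RedLT d Q P :=
      redLT_of_redLT_of_redLE (posT b Q hQ).le (posS i pmin hpmin) (posS a P hP) h3 h1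
    exact ax.hom_eq_zero (sSS a) (tSS b) hP hQ h4 ψ
  exact eq_zero_of_filtration s sh sl φ fun a ψ =>
    eq_zero_of_filtration_target t th tl ψ fun b χ => cross a b χ

end Ax

end Groth.Agent.Lib.R2H7.HilbStab
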