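import Mathlib
import Groth.Prelude.Def_StabCat
import Groth.Agent.Lib.R2H7StabNum
import Groth.Agent.Lib.R2H7HilbStab
import Groth.Agent.Lib.R2H7HilbStabB
import Groth.Agent.Lib.R2H4RRAlg

/-!
# helper7: abstract (semi)stability, part C: Jordan-Hölder filtrations

* `redEq_iff`, `redEq_trans`, `alpha_int`, `alpha_nat` : numerics;
* `AxN` : tested objects are closed under isomorphism, Hilbert polynomials are integer valued;
* `SS.of_iso`, `St.of_iso`;
* `Ax.ss_of_sub_redEq`, `Ax.quot_data`, `Ax.ss_quot`, `Ax.st_quot_of_max` : sub- and quotient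
  objects of a semistable object with the same reduced polynomial;
* `cokernelOfLEIso`, `factor_snoc_last_iso`, `factor_snoc_castSucc_iso`, `factor_map_iso`;
* `Ax.exists_jh` : existence of Jordan-Hölder filtrations.
-/

set_option autoImplicit false
universe v u
open CategoryTheory CategoryTheory.Limits Polynomial StabCat Filter
open Groth.Agent.Lib.R2H7.StabNum

namespace Groth.Agent.Lib.R2H7.HilbStab

/-! ### numerics -/

theorem redEq_iff {d : ℕ} {P Q : ℚ[X]} :
    RedEq d P Q ↔ ∀ m : ℕ, alpha d Q * P.eval (m : ℚ) = alpha d P * Q.eval (m : ℚ) := by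
  constructor
  · intro h m
    have := congrArg (eval (m : ℚ)) h
    rwa [eval_smul, eval_smul, smul_eq_mul, smul_eq_mul] at this
  · intro h
    show alpha d Q • P = alpha d P • Q
    apply eq_of_forall_eval_eq
    intro m
    rw [eval_smul, eval_smul, smul_eq_mul, smul_eq_mul]
    exact h m

theorem redEq_refl (d : ℕ) (P : ℚ[X]) : RedEq d P P := rfl

theorem redEq_trans {d : ℕ} {A B C' : ℚ[X]} (hB : alpha d B ≠ 0) (h1 : RedEq d A B)
    (h2 : RedEq d B C') : RedEq d A C' := by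
  rw [redEq_iff] at h1 h2 ⊢
  intro m
  have e1 := h1 m
  have e2 := h2 m
  apply mul_left_cancel₀ hB
  linear_combination (alpha d C') * e1 + (alpha d A) * e2

theorem alpha_int {d : ℕ} {P : ℚ[X]} (hdeg : P.natDegree ≤ d)
    (hint : ∀ m : ℕ, ∃ z : ℤ, P.eval (m : ℚ) = z) : ∃ z : ℤ, alpha d P = z := by
  have h : ∑ j ∈ Finset.range (d + 1), (d.choose j : ℚ) * ((-1 : ℚ) ^ (d - j) *
      (∑ i ∈ Finset.range (d + 1), P.coeff i * (j : ℚ) ^ i)) = (d.factorial : ℚ) * P.coeff d :=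
    Groth.Agent.Lib.R2H4RRAlg.fwd_identity d (fun i => P.coeff i)
  have hev : ∀ j : ℕ, (∑ i ∈ Finset.range (d + 1), P.coeff i * (j : ℚ) ^ i) =
      P.eval (j : ℚ) := by
    intro j
    rw [Polynomial.eval_eq_sum_range' (Nat.lt_succ_of_le hdeg)]
  choose z hz using hint
  refine ⟨∑ j ∈ Finset.range (d + 1), (d.choose j : ℤ) * ((-1) ^ (d - j) * z j), ?_⟩
  unfold alpha
  rw [← h]
  push_cast
  refine Finset.sum_congr rfl fun j _ => ?_
  rw [hev j, hz j]

theorem alpha_nat {d : ℕ} {P : ℚ[X]} (hdeg : P.natDegree ≤ d)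
    (hint : ∀ m : ℕ, ∃ z : ℤ, P.eval (m : ℚ) = z) (hpos : 0 ≤ alpha d P) :
    ∃ n : ℕ, alpha d P = n := by
  obtain ⟨z, hz⟩ := alpha_int hdeg hint
  have hz0 : 0 ≤ z := by
    rw [hz] at hpos
    exact_mod_cast hpos
  refine ⟨z.toNat, ?_⟩
  rw [hz]
  have : ((z.toNat : ℤ) : ℚ) = (z : ℚ) := by rw [Int.toNat_of_nonneg hz0]
  exact_mod_cast this.symm

variable {C : Type u} [Category.{v} C] [Abelian C]

/-- more axioms: tested objects are closed under isomorphism and Hilbert polynomials are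
integer valued -/
structure AxN (ok : C → Prop) (HP : C → ℚ[X] → Prop) : Prop where
  ok_iso : ∀ {F G : C}, (F ≅ G) → ok F → ok G
  hp_int : ∀ {F : C} {P : ℚ[X]}, ok F → HP F P → ∀ m : ℕ, ∃ z : ℤ, P.eval (m : ℚ) = z

variable {ok : C → Prop} {HP : C → ℚ[X] → Prop} {sdim : C → WithBot ℕ∞}

theorem pure_of_iso {E E' : C} (e : E ≅ E') {d : ℕ} (h : Pure ok sdim E d) :
    Pure ok sdim E' d := by
  intro F ι hι hF hnz
  haveI := hι
  exact h F (ι ≫ e.inv) inferInstance hF hnz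

/-! ### representatives of factors -/

theorem cokernelOfLEIso {E : C} {A B : Subobject E} (h : A ≤ B) {A' B' : C} (α : A' ⟶ E)
    (β : B' ⟶ E) [Mono α] [Mono β] (hA : Subobject.mk α = A) (hB : Subobject.mk β = B)
    (g : A' ⟶ B') (w : g ≫ β = α) :
    Nonempty (cokernel (Subobject.ofLE A B h) ≅ cokernel g) := by
  subst hA hB
  refine ⟨cokernel.mapIso _ _ (Subobject.underlyingIso α) (Subobject.underlyingIso β) ?_⟩
  rw [← cancel_mono β, Category.assoc, Subobject.underlyingIso_hom_comp_eq_mk,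
    Subobject.ofLE_arrow, Category.assoc, w, Subobject.underlyingIso_hom_comp_eq_mk]

theorem factor_snoc_last_iso {E : C} (p : LTSeries (Subobject E)) (a : Subobject E)
    (h : p.last < a) {A' B' : C} (α : A' ⟶ E) (β : B' ⟶ E) [Mono α] [Mono β]
    (hA : Subobject.mk α = p.last) (hB : Subobject.mk β = a) (g : A' ⟶ B') (w : g ≫ β = α) :
    Nonempty (factor (p.snoc a h) (Fin.last p.length) ≅ cokernel g) := by
  unfold StabCat.factor
  refine cokernelOfLEIso _ α β (hA.trans ?_) (hB.trans ?_) g w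
  · exact (RelSeries.snoc_castSucc p a h (Fin.last p.length)).symm
  · exact (RelSeries.last_snoc' p a h).symm

theorem factor_snoc_castSucc_iso {E : C} (p : LTSeries (Subobject E)) (a : Subobject E)
    (h : p.last < a) (i : Fin p.length) :
    Nonempty (factor (p.snoc a h) i.castSucc ≅ factor p i) := by
  unfold StabCat.factor
  refine cokernelOfLEIso _ (p i.castSucc).arrow (p i.succ).arrow
    ((Subobject.mk_arrow _).trans ?_) ((Subobject.mk_arrow _).trans ?_) _
    (Subobject.ofLE_arrow _)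
  · exact (RelSeries.snoc_castSucc p a h i.castSucc).symm
  · exact (RelSeries.snoc_castSucc p a h i.succ).symm

theorem factor_map_iso {E F : C} (ι : F ⟶ E) [Mono ι] (s : LTSeries (Subobject F))
    (hf : StrictMono (Subobject.map ι).obj) (i : Fin s.length) :
    Nonempty (factor (s.map (Subobject.map ι).obj hf) i ≅ factor s i) := by
  unfold StabCat.factor
  refine cokernelOfLEIso _ ((s i.castSucc).arrow ≫ ι) ((s i.succ).arrow ≫ ι) ?_ ?_ _ ?_
  · rw [← Subobject.map_mk, Subobject.mk_arrow]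
    rfl
  · rw [← Subobject.map_mk, Subobject.mk_arrow]
    rfl
  · rw [← Category.assoc, Subobject.ofLE_arrow]

namespace Ax

variable (ax : Ax ok HP sdim)
include ax

theorem isSS_of_iso {E E' : C} (e : E ≅ E') {d : ℕ} (h : IsSS ok HP d E) : IsSS ok HP d E' := by
  intro F ι hι hF hnz hniso pF pE' hpF hpE'
  haveI := hι
  refine h F (ι ≫ e.inv) inferInstance hF hnz ?_ pF pE' hpF (ax.hp_iso e.symm hpE')
  intro hiso
  haveI := hiso
  apply hniso
  have : ι = (ι ≫ e.inv) ≫ e.hom := by rw [Category.assoc, e.inv_hom_id, Category.comp_id]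
  rw [this]
  infer_instance

theorem isSt_of_iso {E E' : C} (e : E ≅ E') {d : ℕ} (h : IsSt ok HP d E) : IsSt ok HP d E' := by
  intro F ι hι hF hnz hniso pF pE' hpF hpE'
  haveI := hι
  refine h F (ι ≫ e.inv) inferInstance hF hnz ?_ pF pE' hpF (ax.hp_iso e.symm hpE')
  intro hiso
  haveI := hiso
  apply hniso
  have : ι = (ι ≫ e.inv) ≫ e.hom := by rw [Category.assoc, e.inv_hom_id, Category.comp_id]
  rw [this]
  infer_instance

theorem ss_of_iso (axn : AxN ok HP) {E E' : C} (e : E ≅ E') {d : ℕ}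
    (h : SS ok HP sdim E d) : SS ok HP sdim E' d :=
  ⟨axn.ok_iso e h.1, fun hz => h.2.1 (hz.of_iso e), pure_of_iso e h.2.2.1,
    ax.isSS_of_iso e h.2.2.2⟩

theorem st_of_iso (axn : AxN ok HP) {E E' : C} (e : E ≅ E') {d : ℕ}
    (h : St ok HP sdim E d) : St ok HP sdim E' d :=
  ⟨axn.ok_iso e h.1, fun hz => h.2.1 (hz.of_iso e), pure_of_iso e h.2.2.1,
    ax.isSt_of_iso e h.2.2.2⟩

/-- a subobject of a semistable object with the same reduced polynomial is semistable -/
theorem ss_of_sub_redEq {E F : C} {d : ℕ} (hE : SS ok HP sdim E d) (ι : F ⟶ E) [Mono ι]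
    (okF : ok F) (nzF : ¬ IsZero F) {pF pE : ℚ[X]} (hpF : HP F pF) (hpE : HP E pE)
    (heq : RedEq d pF pE) : SS ok HP sdim F d := by
  have aE := ax.alpha_pos_of_pure hE.1 hE.2.1 hE.2.2.1 hpE
  have pureF : Pure ok sdim F d := fun G γ hγ okG nzG => by
    haveI := hγ
    exact hE.2.2.1 G (γ ≫ ι) inferInstance okG nzG
  refine ⟨okF, nzF, pureF, ?_⟩
  intro G γ hγ okG nzG hniso pG pF' hpG hpF'
  haveI := hγ
  rw [ax.hp_unique hpF' hpF]
  have aG := ax.alpha_pos d okG hpG (pureF G γ hγ okG nzG)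
  have aF := ax.alpha_pos d okF hpF (pureF F (𝟙 F) inferInstance okF nzF)
  have h1 : RedLE d pG pE := ax.redLE_sub hE.2.2.2 (γ ≫ ι) okG nzG hpG hpE
  exact redLE_trans aG.le aE aF.le h1 (redLE_of_redEq' heq)

/-- the quotient of a semistable object by a proper subobject with the same reduced polynomial -/
theorem quot_data {E F : C} {d : ℕ} (hE : SS ok HP sdim E d) (ι : F ⟶ E) [Mono ι]
    (okF : ok F) (nzF : ¬ IsZero F) (hniso : ¬ IsIso ι) {pF pE : ℚ[X]} (hpF : HP F pF)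
    (hpE : HP E pE) (heq : RedEq d pF pE) :
    HP (cokernel ι) (pE - pF) ∧ RedEq d (pE - pF) pE ∧ 0 < alpha d (pE - pF) ∧
      ∀ (G : C) (γ : G ⟶ cokernel ι), Mono γ → ok G → ¬ IsZero G → ∀ pG : ℚ[X], HP G pG →
        RedLE d pG pE ∧
          (¬ IsIso γ → ∃ (K : C) (κ : K ⟶ E), Mono κ ∧ ok K ∧ ¬ IsZero K ∧ ¬ IsIso κ ∧
            HP K (pF + pG)) := by
  have okE := hE.1
  have aE := ax.alpha_pos_of_pure hE.1 hE.2.1 hE.2.2.1 hpE
  obtain ⟨aF, aQ, hev, dF, dE⟩ := ax.sub_data okE hE.2.2.1 ι okF nzF hniso hpF hpE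
  have okQ := ax.ok_coker ι okF okE
  have hpQ := ax.hp_coker ι okF okE hpF hpE
  have nzQ := not_isZero_cokernel ι hniso
  have heq' := redEq_iff.1 heq
  have hQE : RedEq d (pE - pF) pE := by
    rw [redEq_iff]
    intro m
    rw [alpha_sub, eval_sub]
    linear_combination -(heq' m)
  have aQpos : 0 < alpha d (pE - pF) := by
    rw [alpha_sub]
    rcases aQ.eq_or_lt with h | h
    · exfalso
      obtain ⟨m, hm⟩ := hev.exists
      have h1 := heq' m
      have hEF : alpha d pE = alpha d pF := by linarith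
      rw [hEF] at h1
      have h2 := mul_left_cancel₀ aF.ne' h1
      linarith
    · exact h
  refine ⟨hpQ, hQE, aQpos, ?_⟩
  intro G γ hγ okG nzG pG hpG
  haveI := hγ
  by_cases hiso : IsIso γ
  · haveI := hiso
    have hG : pG = pE - pF := ax.hp_unique hpG (ax.hp_iso (asIso γ).symm hpQ)
    refine ⟨?_, fun h => absurd hiso h⟩
    rw [hG]
    exact redLE_of_redEq hQE
  · have okR := ax.ok_coker γ okG okQ
    have hpR := ax.hp_coker γ okG okQ hpG hpQ
    have nzR := not_isZero_cokernel γ hiso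
    haveI : Epi (cokernel.π ι ≫ cokernel.π γ) := epi_comp _ _
    have okK := ax.ok_ker (cokernel.π ι ≫ cokernel.π γ) okE okR
    have hpK := ax.hp_ker (cokernel.π ι ≫ cokernel.π γ) okE okR hpE hpR
    have hpK' : HP (kernel (cokernel.π ι ≫ cokernel.π γ)) (pF + pG) := by
      have : pE - (pE - pF - pG) = pF + pG := by ring
      rwa [this] at hpK
    have nisoK : ¬ IsIso (kernel.ι (cokernel.π ι ≫ cokernel.π γ)) := by
      intro h
      haveI := h
      have h0 : cokernel.π ι ≫ cokernel.π γ = 0 :=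
        (cancel_epi (kernel.ι (cokernel.π ι ≫ cokernel.π γ))).1
          (by rw [kernel.condition, Limits.comp_zero])
      exact nzR (isZero_of_epi_eq_zero (cokernel.π ι ≫ cokernel.π γ) h0)
    have nzK : ¬ IsZero (kernel (cokernel.π ι ≫ cokernel.π γ)) := by
      intro hz
      have h0 := ax.hp_eq_zero hz hpK'
      obtain ⟨m, h1, h2⟩ :=
        ((ax.eventually_pos okF nzF hpF).and (ax.eventually_pos okG nzG hpG)).exists
      have h3 := congrArg (eval (m : ℚ)) h0
      rw [eval_add, eval_zero] at h3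
      linarith
    have hKE : RedLE d (pF + pG) pE :=
      hE.2.2.2 _ (kernel.ι (cokernel.π ι ≫ cokernel.π γ)) inferInstance okK nzK nisoK _ pE
        hpK' hpE
    refine ⟨?_, fun _ => ⟨_, kernel.ι (cokernel.π ι ≫ cokernel.π γ), inferInstance, okK, nzK,
      nisoK, hpK'⟩⟩
    rw [redLE_iff] at hKE ⊢
    filter_upwards [hKE] with m hm
    rw [alpha_add, eval_add] at hm
    have h1 := heq' m
    nlinarith [hm, h1]

theorem ss_quot {E F : C} {d : ℕ} (hE : SS ok HP sdim E d) (ι : F ⟶ E) [Mono ι]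
    (okF : ok F) (nzF : ¬ IsZero F) (hniso : ¬ IsIso ι) {pF pE : ℚ[X]} (hpF : HP F pF)
    (hpE : HP E pE) (heq : RedEq d pF pE) : SS ok HP sdim (cokernel ι) d := by
  obtain ⟨hpQ, hQE, aQ, H⟩ := ax.quot_data hE ι okF nzF hniso hpF hpE heq
  have okE := hE.1
  have aE := ax.alpha_pos_of_pure hE.1 hE.2.1 hE.2.2.1 hpE
  have okQ := ax.ok_coker ι okF okE
  have nzQ := not_isZero_cokernel ι hniso
  have dimE : sdim E = (d : WithBot ℕ∞) := hE.2.2.1 E (𝟙 E) inferInstance okE hE.2.1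
  have pureQ : Pure ok sdim (cokernel ι) d := by
    intro G γ hγ okG nzG
    haveI := hγ
    by_contra hne
    have hle : sdim G ≤ (d : WithBot ℕ∞) :=
      (ax.sdim_mono γ hγ).trans ((ax.sdim_epi (cokernel.π ι) inferInstance).trans dimE.le)
    have hlt := lt_of_le_of_ne hle hne
    obtain ⟨pG, hpG⟩ := ax.hp_exists okG
    have a0 := ax.alpha_eq_zero okG hpG hlt
    obtain ⟨hGE, -⟩ := H G γ hγ okG nzG pG hpG
    rw [redLE_iff, a0] at hGE
    obtain ⟨m, h1, h2⟩ := (hGE.and (ax.eventually_pos okG nzG hpG)).exists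
    nlinarith [mul_pos aE h2]
  refine ⟨okQ, nzQ, pureQ, ?_⟩
  intro G γ hγ okG nzG hnisoγ pG pQ' hpG hpQ'
  rw [ax.hp_unique hpQ' hpQ]
  obtain ⟨hGE, -⟩ := H G γ hγ okG nzG pG hpG
  have aG := ax.alpha_pos d okG hpG (pureQ G γ hγ okG nzG)
  exact redLE_trans aG.le aE aQ.le hGE (redLE_of_redEq' hQE)

theorem st_quot_of_max {E F : C} {d : ℕ} (hE : SS ok HP sdim E d) (ι : F ⟶ E) [Mono ι]
    (okF : ok F) (nzF : ¬ IsZero F) (hniso : ¬ IsIso ι) {pF pE : ℚ[X]} (hpF : HP F pF)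
    (hpE : HP E pE) (heq : RedEq d pF pE)
    (hmax : ∀ (K : C) (κ : K ⟶ E), Mono κ → ok K → ¬ IsZero K → ¬ IsIso κ → ∀ pK : ℚ[X],
      HP K pK → RedEq d pK pE → alpha d pK ≤ alpha d pF) :
    St ok HP sdim (cokernel ι) d := by
  have hss := ax.ss_quot hE ι okF nzF hniso hpF hpE heq
  obtain ⟨hpQ, hQE, aQ, H⟩ := ax.quot_data hE ι okF nzF hniso hpF hpE heq
  refine ⟨hss.1, hss.2.1, hss.2.2.1, ?_⟩
  intro G γ hγ okG nzG hnisoγ pG pQ' hpG hpQ'
  haveI := hγ
  rw [ax.hp_unique hpQ' hpQ]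
  by_contra hnlt
  have h1 : RedLE d (pE - pF) pG := (redLE_or_redLT d (pE - pF) pG).resolve_right hnlt
  have h2 : RedLE d pG (pE - pF) := ax.redLE_sub hss.2.2.2 γ okG nzG hpG hpQ
  have h3 : RedEq d pG (pE - pF) := redEq_of_redLE_of_redLE h2 h1
  have h4 : RedEq d pG pE := redEq_trans aQ.ne' h3 hQE
  obtain ⟨-, hK⟩ := H G γ hγ okG nzG pG hpG
  obtain ⟨K, κ, mκ, okK, nzK, nisoκ, hpK⟩ := hK hnisoγ
  have h5 : RedEq d (pF + pG) pE := by
    rw [redEq_iff] at heq h4 ⊢
    intro m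
    rw [alpha_add, eval_add]
    linear_combination heq m + h4 m
  have h6 := hmax K κ mκ okK nzK nisoκ _ hpK h5
  have aG := ax.alpha_pos d okG hpG (hss.2.2.1 G γ hγ okG nzG)
  rw [alpha_add] at h6
  linarith

/-- extending a Jordan-Hölder filtration of a subobject by a stable quotient -/
theorem isJH_snoc (axn : AxN ok HP) {E F' : C} {d : ℕ} (ι : F' ⟶ E) [Mono ι]
    (hniso : ¬ IsIso ι) (s' : LTSeries (Subobject F')) (hhead : s'.head = ⊥)
    (hlast : s'.last = ⊤) {pE : ℚ[X]} (hpE : HP E pE)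
    (hfac : ∀ i : Fin s'.length, St ok HP sdim (factor s' i) d ∧
      ∀ p : ℚ[X], HP (factor s' i) p → RedEq d p pE)
    (hQ : St ok HP sdim (cokernel ι) d) (hQp : ∀ p : ℚ[X], HP (cokernel ι) p → RedEq d p pE) :
    ∃ s : LTSeries (Subobject E), IsJHWith (fun G => St ok HP sdim G d) HP d E s := by
  have hf : StrictMono (Subobject.map ι).obj :=
    (Subobject.map ι).monotone.strictMono_of_injective (Subobject.map_obj_injective ι)
  have hlt : (s'.map (Subobject.map ι).obj hf).last < ⊤ := by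
    rw [LTSeries.last_map, hlast, Subobject.map_top, lt_top_iff_ne_top]
    intro h
    exact hniso ((Subobject.isIso_iff_mk_eq_top ι).2 h)
  have hA : Subobject.mk ι = (s'.map (Subobject.map ι).obj hf).last := by
    rw [LTSeries.last_map, hlast, Subobject.map_top]
  have hB : Subobject.mk (𝟙 E) = ⊤ := (Subobject.top_eq_id E).symm
  refine ⟨(s'.map (Subobject.map ι).obj hf).snoc ⊤ hlt, ?_, ?_, ?_⟩
  · rw [RelSeries.head_snoc, LTSeries.head_map, hhead, Subobject.map_bot]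
  · exact RelSeries.last_snoc _ _ _
  · refine Fin.lastCases (n := s'.length) ?_ ?_
    · obtain ⟨e⟩ := factor_snoc_last_iso (s'.map (Subobject.map ι).obj hf) ⊤ hlt ι (𝟙 E) hA hB ι
        (Category.comp_id ι)
      refine ⟨ax.st_of_iso axn e.symm hQ, fun p q hp hq => ?_⟩
      rw [ax.hp_unique hq hpE]
      exact hQp p (ax.hp_iso e hp)
    · intro i
      obtain ⟨e₁⟩ := factor_snoc_castSucc_iso (s'.map (Subobject.map ι).obj hf) ⊤ hlt i
      obtain ⟨e₂⟩ := factor_map_iso ι s' hf i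
      refine ⟨ax.st_of_iso axn (e₁ ≪≫ e₂).symm (hfac i).1, fun p q hp hq => ?_⟩
      rw [ax.hp_unique hq hpE]
      exact (hfac i).2 p (ax.hp_iso (e₁ ≪≫ e₂) hp)

/-- **existence of Jordan-Hölder filtrations** -/
theorem exists_jh_aux (axn : AxN ok HP) {d : ℕ} :
    ∀ (N : ℕ) (E : C), SS ok HP sdim E d → ∀ pE : ℚ[X], HP E pE → alpha d pE ≤ (N : ℚ) →
      ∃ s : LTSeries (Subobject E), IsJHWith (fun G => St ok HP sdim G d) HP d E s := by
  classical
  intro N
  induction N with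
  | zero =>
    intro E hE pE hpE hle
    have := ax.alpha_pos_of_pure hE.1 hE.2.1 hE.2.2.1 hpE
    exfalso
    rw [Nat.cast_zero] at hle
    linarith
  | succ N ih =>
    intro E hE pE hpE hle
    have okE := hE.1
    have aE := ax.alpha_pos_of_pure hE.1 hE.2.1 hE.2.2.1 hpE
    by_cases hst : IsSt ok HP d E
    · -- `E` is stable: the filtration `0 ⊂ E`
      have hbz : IsZero ((⊥ : Subobject E) : C) :=
        (isZero_zero C).of_iso Subobject.botCoeIsoZero
      have hniso : ¬ IsIso (⊥ : Subobject E).arrow := by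
        intro h
        haveI := h
        exact hE.2.1 (hbz.of_iso (asIso (⊥ : Subobject E).arrow).symm)
      have hbt : (⊥ : Subobject ((⊥ : Subobject E) : C)) = ⊤ := by
        have hz2 : IsZero ((⊥ : Subobject ((⊥ : Subobject E) : C)) : C) :=
          (isZero_zero C).of_iso Subobject.botCoeIsoZero
        refine (Subobject.isIso_arrow_iff_eq_top _).1 ⟨⟨0, hz2.eq_of_src _ _, hbz.eq_of_src _ _⟩⟩
      have e : E ≅ cokernel (⊥ : Subobject E).arrow :=
        (cokernelZeroIsoTarget (X := ((⊥ : Subobject E) : C)) (Y := E)).symm ≪≫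
          cokernelIsoOfEq Subobject.bot_arrow.symm
      refine ax.isJH_snoc axn (⊥ : Subobject E).arrow hniso
        (RelSeries.singleton _ (⊥ : Subobject ((⊥ : Subobject E) : C))) rfl hbt hpE
        (fun i => i.elim0) (ax.st_of_iso axn e ⟨hE.1, hE.2.1, hE.2.2.1, hst⟩) fun p hp => ?_
      rw [ax.hp_unique hp (ax.hp_iso e hpE)]
      exact redEq_refl d pE
    · -- `E` is not stable
      unfold IsSt at hst
      push_neg at hst
      obtain ⟨F₀, ι₀, mι₀, okF₀, nzF₀, nisoι₀, pF₀, pE', hpF₀, hpE', hnlt⟩ := hst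
      haveI := mι₀
      rw [ax.hp_unique hpE' hpE] at hnlt
      have hle₀ : RedLE d pF₀ pE := hE.2.2.2 F₀ ι₀ mι₀ okF₀ nzF₀ nisoι₀ pF₀ pE hpF₀ hpE
      have heq₀ : RedEq d pF₀ pE :=
        redEq_of_redLE_of_redLE hle₀ ((redLE_or_redLT d pE pF₀).resolve_right hnlt)
      let Cand : ℕ → Prop := fun n => ∃ (F : C) (ι : F ⟶ E), Mono ι ∧ ok F ∧ ¬ IsZero F ∧
        ¬ IsIso ι ∧ ∃ pF : ℚ[X], HP F pF ∧ RedEq d pF pE ∧ alpha d pF = (n : ℚ)
      -- every candidate subobject gives a natural number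
      have hcand : ∀ (F : C) (ι : F ⟶ E), Mono ι → ok F → ¬ IsZero F → ¬ IsIso ι →
          ∀ pF : ℚ[X], HP F pF → RedEq d pF pE →
            ∃ n : ℕ, alpha d pF = (n : ℚ) ∧ Cand n ∧ n ≤ N := by
        intro F ι mι okF nzF nisoι pF hpF heq
        haveI := mι
        obtain ⟨aF, aQ, -, dF, -⟩ := ax.sub_data okE hE.2.2.1 ι okF nzF nisoι hpF hpE
        obtain ⟨n, hn⟩ := alpha_nat dF (axn.hp_int okF hpF) aF.le
        refine ⟨n, hn, ⟨F, ι, mι, okF, nzF, nisoι, pF, hpF, heq, hn⟩, ?_⟩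
        obtain ⟨-, -, aQ', -⟩ := ax.quot_data hE ι okF nzF nisoι hpF hpE heq
        rw [alpha_sub] at aQ'
        have h1 : (n : ℚ) < ((N + 1 : ℕ) : ℚ) := by
          rw [← hn]
          linarith
        have h2 : n < N + 1 := by exact_mod_cast h1
        omega
      obtain ⟨n₀, hn₀, hc₀, hle₀'⟩ := hcand F₀ ι₀ mι₀ okF₀ nzF₀ nisoι₀ pF₀ hpF₀ heq₀
      have hspec : Cand (Nat.findGreatest Cand N) := Nat.findGreatest_spec hle₀' hc₀
      obtain ⟨F', ι', mι', okF', nzF', nisoι', pF', hpF', heq', hn'⟩ := hspec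
      haveI := mι'
      have hmax : ∀ (K : C) (κ : K ⟶ E), Mono κ → ok K → ¬ IsZero K → ¬ IsIso κ →
          ∀ pK : ℚ[X], HP K pK → RedEq d pK pE → alpha d pK ≤ alpha d pF' := by
        intro K κ mκ okK nzK nisoκ pK hpK heqK
        obtain ⟨n, hn, hc, hle'⟩ := hcand K κ mκ okK nzK nisoκ pK hpK heqK
        rw [hn, hn']
        exact_mod_cast Nat.le_findGreatest hle' hc
      have hssF' : SS ok HP sdim F' d := ax.ss_of_sub_redEq hE ι' okF' nzF' hpF' hpE heq'
      have hstQ : St ok HP sdim (cokernel ι') d :=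
        ax.st_quot_of_max hE ι' okF' nzF' nisoι' hpF' hpE heq' hmax
      obtain ⟨hpQ, hQE, -, -⟩ := ax.quot_data hE ι' okF' nzF' nisoι' hpF' hpE heq'
      have aF' := ax.alpha_pos_of_pure hssF'.1 hssF'.2.1 hssF'.2.2.1 hpF'
      have hleN : alpha d pF' ≤ (N : ℚ) := by
        rw [hn']
        exact_mod_cast Nat.findGreatest_le N
      obtain ⟨s', hs'h, hs'l, hs'f⟩ := ih F' hssF' pF' hpF' hleN
      refine ax.isJH_snoc axn ι' nisoι' s' hs'h hs'l hpE (fun i => ⟨(hs'f i).1, fun p hp => ?_⟩)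
        hstQ fun p hp => ?_
      · exact redEq_trans aF'.ne' ((hs'f i).2 p pF' hp hpF') heq'
      · rw [ax.hp_unique hp hpQ]
        exact hQE

theorem exists_jh (axn : AxN ok HP) {d : ℕ} {E : C} (hE : SS ok HP sdim E d) :
    ∃ s : LTSeries (Subobject E), IsJHWith (fun G => St ok HP sdim G d) HP d E s := by
  obtain ⟨pE, hpE⟩ := ax.hp_exists hE.1
  obtain ⟨N, hN⟩ := exists_nat_ge (alpha d pE)
  exact ax.exists_jh_aux axn N E hE pE hpE hN

end Ax

end Groth.Agent.Lib.R2H7.HilbStab
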