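import Mathlib
import Groth.Prelude.Def_StabCat
import Groth.Prelude.Def_W4c2simpsonmod1HP
import Groth.Agent.Lib.R2H7JHUnique

/-!
# helper7: Harder-Narasimhan chains as finite sets of subobjects

* order lemmas: a strictly increasing series is determined by the finite set of its terms
  (`chainOf_injective`), every nonempty finite chain is the set of terms of a series
  (`exists_series_of_chain`), adjacent members are consecutive terms;
* `wRedLE_iff`, `wRedLT_iff`: the reduced comparisons of `Def_W4c2simpsonmod1HP` (division, large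
  integers) agree with those of `Def_StabCat` (cross-multiplied, large naturals) for positive ranks;
* `existsUnique_goodC`: existence and uniqueness of the Harder-Narasimhan filtration in the form
  "exactly one finite chain of tested subobjects containing `⊥`, `⊤` with pure semistable adjacent
  quotients of strictly decreasing reduced polynomials", from `HNBridge.existsUnique_hn`.
-/

set_option autoImplicit false
universe v u
open CategoryTheory CategoryTheory.Limits Polynomial StabCat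
open Groth.Agent.Lib.R2H7.StabNum Groth.Agent.Lib.R2H7.HilbStab Groth.Agent.Lib.R2H7.HNBridge

namespace Groth.Agent.Lib.R2H7.ChainHN

section Order
variable {α : Type*} [PartialOrder α]

theorem ltSeries_ext {s₁ s₂ : LTSeries α} (h : ∀ x, x ∈ s₁ ↔ x ∈ s₂) : s₁ = s₂ := by
  classical
  have sorted : ∀ s : LTSeries α, s.toList.Pairwise (· < ·) := by
    intro s
    rw [List.pairwise_iff_getElem]
    intro i j hi hj hij
    rw [RelSeries.toList_getElem, RelSeries.toList_getElem]
    exact s.strictMono (Fin.mk_lt_mk.2 hij)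
  have nodup : ∀ s : LTSeries α, s.toList.Nodup := fun s => (sorted s).nodup
  apply RelSeries.toList_injective
  apply List.Perm.eq_of_pairwise' (sorted s₁) (sorted s₂)
  apply List.perm_of_nodup_nodup_toFinset_eq (nodup s₁) (nodup s₂)
  ext x
  simp only [List.mem_toFinset, RelSeries.mem_toList]
  exact h x

open Classical in
/-- the finite set of terms of a series -/
noncomputable def chainOf (s : LTSeries α) : Finset α := s.toList.toFinset

theorem mem_chainOf {s : LTSeries α} {A : α} : A ∈ chainOf s ↔ ∃ i, s i = A := by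
  classical
  unfold chainOf
  rw [List.mem_toFinset, RelSeries.mem_toList, RelSeries.mem_def, Set.mem_range]

theorem chainOf_injective {s t : LTSeries α} (h : chainOf s = chainOf t) : s = t :=
  ltSeries_ext fun x => by
    have := Finset.ext_iff.1 h x
    rw [mem_chainOf, mem_chainOf] at this
    exact this

theorem isChain_chainOf (s : LTSeries α) :
    IsChain (fun A B : α => A ≤ B) (↑(chainOf s) : Set α) := by
  intro A hA B hB _
  obtain ⟨i, rfl⟩ := mem_chainOf.1 (Finset.mem_coe.1 hA)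
  obtain ⟨j, rfl⟩ := mem_chainOf.1 (Finset.mem_coe.1 hB)
  rcases le_total i j with h | h
  · exact Or.inl (s.strictMono.monotone h)
  · exact Or.inr (s.strictMono.monotone h)

theorem exists_index_of_adjacent (s : LTSeries α) {A B : α} (hA : A ∈ chainOf s)
    (hB : B ∈ chainOf s) (hAB : A < B) (hno : ∀ D ∈ chainOf s, ¬ (A < D ∧ D < B)) :
    ∃ i : Fin s.length, s i.castSucc = A ∧ s i.succ = B := by
  obtain ⟨a, rfl⟩ := mem_chainOf.1 hA
  obtain ⟨b, rfl⟩ := mem_chainOf.1 hB
  have hab : a < b := s.strictMono.lt_iff_lt.1 hAB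
  have hab' : a.val < b.val := hab
  have ha : a.val < s.length := by have := b.isLt; omega
  refine ⟨⟨a.val, ha⟩, rfl, ?_⟩
  by_contra hne
  have hlt : (⟨a.val, ha⟩ : Fin s.length).succ < b := by
    rw [Fin.lt_def]
    show a.val + 1 < b.val
    rcases Nat.lt_or_ge (a.val + 1) b.val with h | h
    · exact h
    · exfalso
      apply hne
      congr 1
      exact Fin.ext (by show a.val + 1 = b.val; omega)
  refine hno _ (mem_chainOf.2 ⟨_, rfl⟩) ⟨s.strictMono ?_, s.strictMono hlt⟩
  rw [Fin.lt_def]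
  show a.val < a.val + 1
  omega

theorem not_between_of_index (s : LTSeries α) (i : Fin s.length) :
    ∀ D ∈ chainOf s, ¬ (s i.castSucc < D ∧ D < s i.succ) := by
  rintro D hD ⟨h1, h2⟩
  obtain ⟨c, rfl⟩ := mem_chainOf.1 hD
  have h1' : i.val < c.val := s.strictMono.lt_iff_lt.1 h1
  have h2' : c.val < i.val + 1 := s.strictMono.lt_iff_lt.1 h2
  omega

theorem exists_series_of_chain (C : Finset α) (hne : C.Nonempty)
    (hC : IsChain (fun A B : α => A ≤ B) (↑C : Set α)) :
    ∃ s : LTSeries α, chainOf s = C := by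
  classical
  suffices h : ∀ n : ℕ, ∀ C : Finset α, C.card = n → C.Nonempty →
      IsChain (fun A B : α => A ≤ B) (↑C : Set α) → ∃ s : LTSeries α, ∀ x, x ∈ s ↔ x ∈ C by
    obtain ⟨s, hs⟩ := h _ C rfl hne hC
    refine ⟨s, Finset.ext fun x => ?_⟩
    rw [mem_chainOf, ← hs x]
    rfl
  intro n
  induction n using Nat.strong_induction_on with
  | _ n ih =>
    intro C hn hne hC
    obtain ⟨M, hM, hmax⟩ := C.exists_maximal hne
    have hle : ∀ x ∈ C, x ≤ M := by
      intro x hx
      by_cases hxM : x = M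
      · exact hxM.le
      · rcases hC (Finset.mem_coe.2 hx) (Finset.mem_coe.2 hM) hxM with h | h
        · exact h
        · exact hmax hx h
    by_cases h1 : (C.erase M).Nonempty
    · have hcard : (C.erase M).card < n := by
        rw [← hn]
        exact Finset.card_erase_lt_of_mem hM
      obtain ⟨s', hs'⟩ := ih _ hcard (C.erase M) rfl h1
        (hC.mono (Finset.coe_subset.2 (Finset.erase_subset M C)))
      have hlast : s'.last < M := by
        have : s'.last ∈ C.erase M := (hs' _).1 (RelSeries.last_mem s')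
        exact lt_of_le_of_ne (hle _ (Finset.mem_of_mem_erase this)) (Finset.ne_of_mem_erase this)
      refine ⟨s'.snoc M hlast, fun x => ?_⟩
      rw [RelSeries.mem_snoc, hs', Finset.mem_erase]
      constructor
      · rintro (⟨-, h⟩ | rfl)
        · exact h
        · exact hM
      · intro hx
        by_cases hxM : x = M
        · exact Or.inr hxM
        · exact Or.inl ⟨hxM, hx⟩
    · refine ⟨RelSeries.singleton _ M, fun x => ?_⟩
      rw [Finset.not_nonempty_iff_eq_empty] at h1
      constructor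
      · rintro ⟨i, rfl⟩
        exact hM
      · intro hx
        have : x = M := by
          by_contra hxM
          have : x ∈ C.erase M := Finset.mem_erase.2 ⟨hxM, hx⟩
          rw [h1] at this
          exact absurd this (Finset.notMem_empty x)
        exact ⟨0, this.symm⟩

theorem head_eq_bot [OrderBot α] (s : LTSeries α) (h : ⊥ ∈ chainOf s) : s.head = ⊥ := by
  obtain ⟨i, hi⟩ := mem_chainOf.1 h
  have : s.head ≤ s i := s.strictMono.monotone (Fin.zero_le i)
  rw [hi] at this
  exact le_bot_iff.1 this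

theorem last_eq_top [OrderTop α] (s : LTSeries α) (h : ⊤ ∈ chainOf s) : s.last = ⊤ := by
  obtain ⟨i, hi⟩ := mem_chainOf.1 h
  have : s i ≤ s.last := s.strictMono.monotone (Fin.le_last i)
  rw [hi] at this
  exact top_le_iff.1 this

end Order

section Poly

theorem rankOf_eq (d : ℕ) (φ : ℚ[X]) : W4c2simpsonmod1.rankOf d φ = alpha d φ := rfl

theorem cast_toNat {m : ℤ} (hm : 0 ≤ m) : ((m.toNat : ℕ) : ℚ) = (m : ℚ) := by
  have h : ((m.toNat : ℕ) : ℤ) = m := Int.toNat_of_nonneg hm
  have h2 := congrArg (Int.cast : ℤ → ℚ) h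
  rwa [Int.cast_natCast] at h2

theorem wRedLE_iff {d : ℕ} {ψ φ : ℚ[X]} (hψ : 0 < alpha d ψ) (hφ : 0 < alpha d φ) :
    W4c2simpsonmod1.RedLE d ψ φ ↔ StabCat.RedLE d ψ φ := by
  unfold W4c2simpsonmod1.RedLE StabCat.RedLE StabCat.PolyLE
  simp only [rankOf_eq, Polynomial.eval_smul, smul_eq_mul]
  constructor
  · rintro ⟨N, hN⟩
    refine ⟨N.toNat, fun m hm => ?_⟩
    have h := hN (m : ℤ) (by omega)
    rw [Int.cast_natCast, div_le_div_iff₀ hψ hφ] at h
    linarith
  · rintro ⟨N, hN⟩
    refine ⟨(N : ℤ), fun m hm => ?_⟩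
    have hm0 : 0 ≤ m := le_trans (Int.natCast_nonneg N) hm
    have h := hN m.toNat (by omega)
    rw [cast_toNat hm0] at h
    rw [div_le_div_iff₀ hψ hφ]
    linarith

theorem wRedLT_iff {d : ℕ} {ψ φ : ℚ[X]} (hψ : 0 < alpha d ψ) (hφ : 0 < alpha d φ) :
    W4c2simpsonmod1.RedLT d ψ φ ↔ StabCat.RedLT d ψ φ := by
  unfold W4c2simpsonmod1.RedLT StabCat.RedLT StabCat.PolyLT
  simp only [rankOf_eq, Polynomial.eval_smul, smul_eq_mul]
  constructor
  · rintro ⟨N, hN⟩
    refine ⟨N.toNat, fun m hm => ?_⟩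
    have h := hN (m : ℤ) (by omega)
    rw [Int.cast_natCast, div_lt_div_iff₀ hψ hφ] at h
    linarith
  · rintro ⟨N, hN⟩
    refine ⟨(N : ℤ), fun m hm => ?_⟩
    have hm0 : 0 ≤ m := le_trans (Int.natCast_nonneg N) hm
    have h := hN m.toNat (by omega)
    rw [cast_toNat hm0] at h
    rw [div_lt_div_iff₀ hψ hφ]
    linarith

theorem wRedLE_refl (d : ℕ) (φ : ℚ[X]) : W4c2simpsonmod1.RedLE d φ φ :=
  ⟨0, fun _ _ => le_refl _⟩

end Poly

section Cat

variable {C : Type u} [Category.{v} C] [Abelian C]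
variable {ok : C → Prop} {HP : C → ℚ[X] → Prop} {sdim : C → WithBot ℕ∞}

/-- the condition on an adjacent quotient `Q` of the chain: of dimension `d`, pure, and semistable
(tested on all nonzero tested subobjects, with the division form of the reduced comparison) -/
def FacC (ok : C → Prop) (HPZ : C → ℚ[X] → Prop) (sdim : C → WithBot ℕ∞) (d : ℕ) (Q : C) : Prop :=
  (sdim Q = (d : WithBot ℕ∞) ∧
      ∀ (G : C) (ι : G ⟶ Q), Mono ι → ok G → ¬ IsZero G → sdim G = (d : WithBot ℕ∞)) ∧
    (∀ (G : C) (ι : G ⟶ Q), Mono ι → ok G → ¬ IsZero G →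
      ∀ φ ψ : ℚ[X], HPZ Q φ → HPZ G ψ → W4c2simpsonmod1.RedLE d ψ φ)

/-- a Harder-Narasimhan chain of `E`, as a finite set of subobjects -/
def GoodC (ok : C → Prop) (HPZ : C → ℚ[X] → Prop) (sdim : C → WithBot ℕ∞) (d : ℕ) {E : C}
    (S : Finset (Subobject E)) : Prop :=
  ⊥ ∈ S ∧ ⊤ ∈ S ∧ IsChain (fun A B : Subobject E => A ≤ B) (↑S : Set (Subobject E)) ∧
    (∀ A ∈ S, ok ((A : Subobject E) : C)) ∧
    (∀ A ∈ S, ∀ B ∈ S, ∀ hAB : A < B, (∀ D ∈ S, ¬ (A < D ∧ D < B)) →
      FacC ok HPZ sdim d (cokernel (Subobject.ofLE A B hAB.le))) ∧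
    (∀ A ∈ S, ∀ B ∈ S, ∀ B' ∈ S, ∀ hAB : A < B, ∀ hBB : B < B',
      (∀ D ∈ S, ¬ (A < D ∧ D < B)) → (∀ D ∈ S, ¬ (B < D ∧ D < B')) →
      ∀ ψ ψ' : ℚ[X], HPZ (cokernel (Subobject.ofLE A B hAB.le)) ψ →
        HPZ (cokernel (Subobject.ofLE B B' hBB.le)) ψ' → W4c2simpsonmod1.RedLT d ψ' ψ)

theorem coker_transport {E : C} {A A' B B' : Subobject E} (hA : A = A') (hB : B = B')
    (h : A ≤ B) (h' : A' ≤ B') (P : C → Prop) :
    P (cokernel (Subobject.ofLE A B h)) ↔ P (cokernel (Subobject.ofLE A' B' h')) := by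
  subst hA hB
  rfl

theorem sdim_of_ss {d : ℕ} {Q : C} (h : SS ok HP sdim Q d) : sdim Q = (d : WithBot ℕ∞) :=
  h.2.2.1 Q (𝟙 Q) inferInstance h.1 h.2.1

section WithAx

variable (ax : Ax ok HP sdim) (axn : AxN ok HP) {HPZ : C → ℚ[X] → Prop}
  (hpz : ∀ {G : C} {p : ℚ[X]}, ok G → (HPZ G p ↔ HP G p))
include ax

include hpz in
theorem ss_of_facC {d : ℕ} {Q : C} (okQ : ok Q) (h : FacC ok HPZ sdim d Q) :
    SS ok HP sdim Q d := by
  obtain ⟨⟨hdim, hpure⟩, hss⟩ := h
  have nzQ : ¬ IsZero Q := by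
    intro hz
    rw [ax.sdim_zero hz] at hdim
    exact WithBot.bot_ne_coe hdim
  refine ⟨okQ, nzQ, hpure, ?_⟩
  intro F ι hι okF nzF _ pF pE hpF hpE
  have hF := hpure F ι hι okF nzF
  have aF := ax.alpha_pos d okF hpF hF
  have aE := ax.alpha_pos d okQ hpE hdim
  exact (wRedLE_iff aF aE).1 (hss F ι hι okF nzF pE pF ((hpz okQ).2 hpE) ((hpz okF).2 hpF))

include hpz in
theorem facC_of_ss {d : ℕ} {Q : C} (h : SS ok HP sdim Q d) : FacC ok HPZ sdim d Q := by
  have hdim := sdim_of_ss h
  obtain ⟨okQ, nzQ, hpure, hss⟩ := h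
  refine ⟨⟨hdim, hpure⟩, ?_⟩
  intro G ι hι okG nzG φ ψ hφ hψ
  have hφ' := (hpz okQ).1 hφ
  have hψ' := (hpz okG).1 hψ
  by_cases hiso : IsIso ι
  · haveI := hiso
    have e : ψ = φ := ax.hp_unique hψ' (ax.hp_iso (asIso ι).symm hφ')
    rw [e]
    exact wRedLE_refl d φ
  · have hG := hpure G ι hι okG nzG
    have aG := ax.alpha_pos d okG hψ' hG
    have aQ := ax.alpha_pos d okQ hφ' hdim
    exact (wRedLE_iff aG aQ).2 (hss G ι hι okG nzG hiso ψ φ hψ' hφ')

include axn hpz in
theorem good_chainOf {E : C} {d : ℕ} (okE : ok E) (s : LTSeries (Subobject E))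
    (hs : IsHNWith (fun G => SS ok HP sdim G d) HP d E s) :
    GoodC ok HPZ sdim d (chainOf s) := by
  obtain ⟨hhead, hlast, hfac, hdec⟩ := hs
  have hok := JHUnique.ok_of_factors ax axn okE s hlast (fun i => (hfac i).1)
  refine ⟨mem_chainOf.2 ⟨0, hhead⟩, mem_chainOf.2 ⟨Fin.last _, hlast⟩, isChain_chainOf s,
    ?_, ?_, ?_⟩
  · intro A hA
    obtain ⟨i, rfl⟩ := mem_chainOf.1 hA
    exact hok i
  · intro A hA B hB hAB hno
    obtain ⟨i, rfl, rfl⟩ := exists_index_of_adjacent s hA hB hAB hno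
    exact facC_of_ss ax hpz (hfac i)
  · intro A hA B hB B' hB' hAB hBB hno1 hno2 ψ ψ' hψ hψ'
    obtain ⟨i, rfl, rfl⟩ := exists_index_of_adjacent s hA hB hAB hno1
    obtain ⟨j, hj, rfl⟩ := exists_index_of_adjacent s hB hB' hBB hno2
    have hij : i.val + 1 = j.val := by
      have h1 : j.castSucc = i.succ := s.strictMono.injective hj
      have h2 := congrArg Fin.val h1
      simpa using h2.symm
    have h1 : HP (factor s i) ψ := (hpz (hfac i).1).1 hψ
    have h2 : HP (factor s j) ψ' :=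
      (hpz (hfac j).1).1 ((coker_transport hj.symm rfl hBB.le (le_of_lt (s.step j))
        (fun Q => HPZ Q ψ')).1 hψ')
    have hlt := hdec i j hij ψ ψ' h1 h2
    have a1 := ax.alpha_pos d (hfac i).1 h1 (sdim_of_ss (hfac i))
    have a2 := ax.alpha_pos d (hfac j).1 h2 (sdim_of_ss (hfac j))
    exact (wRedLT_iff a2 a1).2 hlt

include hpz in
theorem exists_series_of_good {E : C} {d : ℕ} (S : Finset (Subobject E))
    (hS : GoodC ok HPZ sdim d S) :
    ∃ t : LTSeries (Subobject E),
      IsHNWith (fun G => SS ok HP sdim G d) HP d E t ∧ chainOf t = S := by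
  obtain ⟨hbot, htop, hchain, hokS, hfacS, hdecS⟩ := hS
  obtain ⟨t, ht⟩ := exists_series_of_chain S ⟨⊥, hbot⟩ hchain
  subst ht
  have hmem : ∀ i, t i ∈ chainOf t := fun i => mem_chainOf.2 ⟨i, rfl⟩
  have hok : ∀ i, ok ((t i : Subobject E) : C) := fun i => hokS _ (hmem i)
  have hfac : ∀ i : Fin t.length, SS ok HP sdim (factor t i) d := by
    intro i
    have okQ : ok (factor t i) := ax.ok_coker _ (hok _) (hok _)
    exact ss_of_facC ax hpz okQ (hfacS _ (hmem i.castSucc) _ (hmem i.succ) (t.step i)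
      (not_between_of_index t i))
  refine ⟨t, ⟨head_eq_bot t hbot, last_eq_top t htop, hfac, ?_⟩, rfl⟩
  intro i j hij p q hp hq
  have e : t j.castSucc = t i.succ := congrArg t (Fin.ext (by simp [← hij]))
  have hBB : t i.succ < t j.succ := by
    rw [← e]
    exact t.step j
  have hno2 : ∀ D ∈ chainOf t, ¬ (t i.succ < D ∧ D < t j.succ) := by
    rw [← e]
    exact not_between_of_index t j
  have h := hdecS _ (hmem i.castSucc) _ (hmem i.succ) _ (hmem j.succ) (t.step i) hBB
    (not_between_of_index t i) hno2 p q ((hpz (hfac i).1).2 hp)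
    ((coker_transport e rfl (le_of_lt (t.step j)) hBB.le (fun Q => HPZ Q q)).1
      ((hpz (hfac j).1).2 hq))
  have a1 := ax.alpha_pos d (hfac i).1 hp (sdim_of_ss (hfac i))
  have a2 := ax.alpha_pos d (hfac j).1 hq (sdim_of_ss (hfac j))
  exact (wRedLT_iff a2 a1).1 h

include axn hpz in
/-- **existence and uniqueness of the Harder-Narasimhan chain** -/
theorem existsUnique_goodC
    (hacc : ∀ {Q : C}, ok Q → WellFoundedGT {S : Subobject Q // ok (S : C)})
    (hbi : ∀ {A B : C}, ok A → ok B → ok (A ⊞ B)) {E : C} {d : ℕ} (okE : ok E)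
    (nzE : ¬ IsZero E) (pureE : Pure ok sdim E d) :
    ∃! S : Finset (Subobject E), GoodC ok HPZ sdim d S := by
  obtain ⟨s, hs, huniq⟩ := existsUnique_hn ax axn hacc hbi okE nzE pureE
  refine ⟨chainOf s, good_chainOf ax axn hpz okE s hs, ?_⟩
  intro S hS
  obtain ⟨t, ht, rfl⟩ := exists_series_of_good ax hpz S hS
  rw [huniq t ht]

end WithAx

end Cat

end Groth.Agent.Lib.R2H7.ChainHN
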