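import Mathlib

/-!
# Commutative algebra for the closed-immersion criterion (helper7, round 2)

* `surjective_of_forall_maximal` : a finite ring map `A → B` which is surjective modulo every maximal ideal of `A`
  is surjective (Nakayama).
* `surjective_of_maximal_conditions` : a finite ring map `A → B` (`B` noetherian) which separates the maximal ideals
  of `B`, induces surjections onto their residue fields, and such that `q ⊆ (q ∩ A) B + q²` locally at each maximal
  `q`, is surjective.
* `eq_span_of_generators` : in a `k`-algebra generated by elements `t j`, a proper ideal containing `t j - a j` is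
  generated by these elements.
-/

set_option autoImplicit false
universe u

namespace Groth.Agent.Lib.R2H7.ClImmCA

theorem surjective_of_forall_maximal {A B : Type*} [CommRing A] [CommRing B] (φ : A →+* B) (hfin : φ.Finite)
    (h : ∀ m : Ideal A, m.IsMaximal → ∀ b : B, ∃ a : A, b - φ a ∈ m.map φ) : Function.Surjective φ := by
  algebraize [φ]
  let N : Submodule A B := LinearMap.range (Algebra.linearMap A B)
  have hN : N = ⊤ := by
    by_contra hne
    let C := B ⧸ N
    have hfinC : Module.Finite A C := inferInstance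
    have hann : Module.annihilator A C ≠ ⊤ := by
      intro htop
      apply hne
      rw [eq_top_iff]
      intro b _
      have h1 : (1 : A) ∈ Module.annihilator A C := by rw [htop]; trivial
      have h2 := Module.mem_annihilator.1 h1 (Submodule.Quotient.mk b : C)
      rw [one_smul] at h2
      exact (Submodule.Quotient.mk_eq_zero N).1 h2
    obtain ⟨m, hm, hle⟩ := Ideal.exists_le_maximal _ hann
    have hsm : (⊤ : Submodule A C) ≤ m • (⊤ : Submodule A C) := by
      intro c _
      obtain ⟨b, rfl⟩ := Submodule.Quotient.mk_surjective N c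
      obtain ⟨a, ha⟩ := h m hm b
      have h1 : b - φ a ∈ m • (⊤ : Submodule A B) := by
        rw [Ideal.smul_top_eq_map]
        exact ha
      have h2 : (Submodule.Quotient.mk (b - φ a) : C) ∈ m • (⊤ : Submodule A C) := by
        have h3 : N.mkQ (b - φ a) ∈ (m • (⊤ : Submodule A B)).map N.mkQ := Submodule.mem_map_of_mem h1
        rw [Submodule.map_smul''] at h3
        exact Submodule.smul_mono le_rfl le_top h3
      have h4 : (Submodule.Quotient.mk (φ a) : C) = 0 := by
        rw [Submodule.Quotient.mk_eq_zero]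
        exact ⟨a, rfl⟩
      rw [Submodule.Quotient.mk_sub, h4, sub_zero] at h2
      exact h2
    obtain ⟨r, hr1, hr2⟩ := Submodule.exists_sub_one_mem_and_smul_eq_zero_of_fg_of_le_smul m
      (⊤ : Submodule A C) Module.Finite.fg_top hsm
    have hr : r ∈ Module.annihilator A C := Module.mem_annihilator.2 fun c => hr2 c trivial
    have h1 : (1 : A) ∈ m := by
      have := m.sub_mem (hle hr) hr1
      rwa [sub_sub_cancel] at this
    exact hm.ne_top ((Ideal.eq_top_iff_one _).2 h1)
  intro b
  have hb : b ∈ N := by rw [hN]; trivial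
  obtain ⟨a, ha⟩ := hb
  exact ⟨a, ha⟩

theorem surjective_of_maximal_conditions {A B : Type*} [CommRing A] [CommRing B] [IsNoetherianRing B]
    (φ : A →+* B) (hfin : φ.Finite)
    (h1 : ∀ q q' : Ideal B, q.IsMaximal → q'.IsMaximal → q.comap φ = q'.comap φ → q = q')
    (h2 : ∀ q : Ideal B, q.IsMaximal → ∀ b : B, ∃ a : A, b - φ a ∈ q)
    (h3 : ∀ q : Ideal B, q.IsMaximal → ∀ b ∈ q, ∃ s, s ∉ q ∧ s * b ∈ (q.comap φ).map φ ⊔ q ^ 2) :
    Function.Surjective φ := by
  apply surjective_of_forall_maximal φ hfin
  intro m hm b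
  set I : Ideal B := m.map φ with hI
  by_cases hItop : I = ⊤
  · exact ⟨0, by rw [hItop]; trivial⟩
  obtain ⟨q, hq, hIq⟩ := Ideal.exists_le_maximal I hItop
  have hcomap : ∀ q' : Ideal B, q'.IsMaximal → I ≤ q' → q'.comap φ = m := by
    intro q' hq' hle
    have h4 : m ≤ q'.comap φ := Ideal.map_le_iff_le_comap.1 hle
    exact (hm.eq_of_le (Ideal.comap_ne_top φ hq'.ne_top) h4).symm
  have huniq : ∀ q' : Ideal B, q'.IsMaximal → I ≤ q' → q' = q := by
    intro q' hq' hle
    exact h1 q' q hq' hq ((hcomap q' hq' hle).trans (hcomap q hq hIq).symm)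
  -- the quotient `B ⧸ I` is local with maximal ideal the image of `q`
  let π : B →+* B ⧸ I := Ideal.Quotient.mk I
  have hπ : Function.Surjective π := Ideal.Quotient.mk_surjective
  let n : Ideal (B ⧸ I) := q.map π
  have hcomapn : n.comap π = q := by
    rw [Ideal.comap_map_of_surjective π hπ, ← RingHom.ker_eq_comap_bot, Ideal.mk_ker]
    exact sup_eq_left.2 hIq
  have hnmax : n.IsMaximal := by
    have := Ideal.map_eq_top_or_isMaximal_of_surjective π hπ hq
    rcases this with h | h
    · exfalso
      have h5 : n.comap π = ⊤ := by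
        change (q.map π).comap π = ⊤
        rw [h]; rfl
      rw [hcomapn] at h5
      exact hq.ne_top h5
    · exact h
  have hnuniq : ∀ n' : Ideal (B ⧸ I), n'.IsMaximal → n' = n := by
    intro n' hn'
    have h5 : (n'.comap π).IsMaximal := Ideal.comap_isMaximal_of_surjective π hπ
    have h6 : I ≤ n'.comap π := by
      intro x hx
      rw [Ideal.mem_comap]
      have : π x = 0 := Ideal.Quotient.eq_zero_iff_mem.2 hx
      rw [this]
      exact n'.zero_mem
    have h7 := huniq _ h5 h6
    rw [← Ideal.map_comap_of_surjective π hπ n', h7]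
  have hunit : ∀ s : B, s ∉ q → IsUnit (π s) := by
    intro s hs
    by_contra hnu
    obtain ⟨n', hn', hsn'⟩ := exists_max_ideal_of_mem_nonunits hnu
    rw [hnuniq n' hn'] at hsn'
    have : s ∈ n.comap π := hsn'
    rw [hcomapn] at this
    exact hs this
  have hjac : n ≤ Ideal.jacobson ⊥ := by
    rw [Ideal.jacobson, le_sInf_iff]
    rintro n' ⟨-, hn'⟩
    rw [hnuniq n' hn']
  have hnn : n ≤ n • n := by
    intro x hx
    obtain ⟨b', hb', rfl⟩ := (Ideal.mem_map_iff_of_surjective π hπ).1 hx
    obtain ⟨s, hs, hsb⟩ := h3 q hq b' hb'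
    have h8 : π (s * b') ∈ n • n := by
      have h9 : π (s * b') ∈ ((q.comap φ).map φ ⊔ q ^ 2).map π := Ideal.mem_map_of_mem π hsb
      rw [Ideal.map_sup, Ideal.map_pow] at h9
      have h10 : ((q.comap φ).map φ).map π = ⊥ := by
        rw [hcomap q hq hIq, eq_bot_iff]
        rw [Ideal.map_le_iff_le_comap]
        intro y hy
        rw [Ideal.mem_comap]
        have : π y = 0 := Ideal.Quotient.eq_zero_iff_mem.2 hy
        rw [this]
        exact Ideal.zero_mem _
      rw [h10, bot_sup_eq, pow_two] at h9
      exact h9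
    obtain ⟨u, hu⟩ := hunit s hs
    have h11 : π b' = (↑u⁻¹ : B ⧸ I) * π (s * b') := by
      rw [map_mul, ← hu, ← mul_assoc, Units.inv_mul, one_mul]
    rw [h11]
    exact Ideal.mul_mem_left _ _ h8
  have hnbot : n = ⊥ :=
    Submodule.eq_bot_of_le_smul_of_le_jacobson_bot n n (IsNoetherian.noetherian n) hnn hjac
  have hqI : q = I := by
    apply le_antisymm _ hIq
    intro x hx
    have h12 : π x ∈ n := Ideal.mem_map_of_mem π hx
    rw [hnbot, Ideal.mem_bot] at h12
    exact Ideal.Quotient.eq_zero_iff_mem.1 h12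
  obtain ⟨a, ha⟩ := h2 q hq b
  exact ⟨a, hqI ▸ ha⟩

/-- in a ring generated over `k` by the `t j`, a proper ideal containing all `t j - a j` is generated by them -/
theorem eq_span_of_generators {k A : Type*} [CommRing k] [CommRing A] (κ : k →+* A) {ι : Type*} (t : ι → A)
    (hgen : ∀ T : Subring A, (∀ c : k, κ c ∈ T) → (∀ j, t j ∈ T) → T = ⊤)
    (m : Ideal A) (a : ι → k) (ha : ∀ j, t j - κ (a j) ∈ m)
    (hm : ∀ c : k, κ c ∈ m → c = 0) :
    m = Ideal.span (Set.range fun j => t j - κ (a j)) := by
  set I : Ideal A := Ideal.span (Set.range fun j => t j - κ (a j)) with hI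
  have hIm : I ≤ m := by
    rw [hI, Ideal.span_le]
    rintro _ ⟨j, rfl⟩
    exact ha j
  let T : Subring A :=
    { carrier := {x | ∃ c : k, x - κ c ∈ I}
      mul_mem' := by
        rintro x y ⟨c, hc⟩ ⟨d, hd⟩
        refine ⟨c * d, ?_⟩
        have : x * y - κ (c * d) = (x - κ c) * y + κ c * (y - κ d) := by rw [map_mul]; ring
        rw [this]
        exact I.add_mem (I.mul_mem_right _ hc) (I.mul_mem_left _ hd)
      one_mem' := ⟨1, by rw [map_one, sub_self]; exact I.zero_mem⟩
      add_mem' := by
        rintro x y ⟨c, hc⟩ ⟨d, hd⟩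
        refine ⟨c + d, ?_⟩
        have : x + y - κ (c + d) = (x - κ c) + (y - κ d) := by rw [map_add]; ring
        rw [this]
        exact I.add_mem hc hd
      zero_mem' := ⟨0, by rw [map_zero, sub_self]; exact I.zero_mem⟩
      neg_mem' := by
        rintro x ⟨c, hc⟩
        refine ⟨-c, ?_⟩
        have : -x - κ (-c) = -(x - κ c) := by rw [map_neg]; ring
        rw [this]
        exact I.neg_mem hc }
  have hT : T = ⊤ := by
    apply hgen
    · intro c
      exact ⟨c, by rw [sub_self]; exact I.zero_mem⟩
    · intro j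
      exact ⟨a j, Ideal.subset_span ⟨j, rfl⟩⟩
  apply le_antisymm _ hIm
  intro x hx
  have hxT : x ∈ T := by rw [hT]; trivial
  obtain ⟨c, hc⟩ := hxT
  have h1 : κ c ∈ m := by
    have := m.sub_mem hx (hIm hc)
    rwa [sub_sub_cancel] at this
  rw [hm c h1, map_zero, sub_zero] at hc
  exact hc

end Groth.Agent.Lib.R2H7.ClImmCA
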