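import Mathlib
import Groth.Agent.Lib.R2H3VAmpleMor
import Groth.Agent.Lib.R2H3VAmpleMain
import Groth.Agent.Lib.Helper27PnSections
import Groth.Agent.Lib.Helper27ProjUniq3
import Groth.Agent.Lib.R2H1C1Tensor

/-!
# Charts for a morphism to projective space and the linear system of hyperplane sections (helper7, round 2)

For `f : X ⟶ P^n_k` over `k` (with `pX = f ≫ toBase`), `L = f^* O(1)` (in `GrTilde` form), `s_j = f^* T_j`:
* `vsec pX f c = ∑ c_j • s_j`;
* on the chart `U_i = f⁻¹ D₊(T_i)`, with `φφ f i : Γ(P^n, D₊(T_i)) → Γ(X, U_i)`, `rat i j = T_j / T_i`,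
  `ratLin i c = ∑ c_j T_j / T_i`, and the generator `eps f i P` of the stalk `L_P` (`P ∈ U_i`):
  `germ_vsec` : the germ of `vsec pX f c` at `P` is `(φφ f i (ratLin i c))_P • eps f i P`;
* `smul_mem_smul_top_iff`, `bijective_eps`, `subring_eq_top_chart` (generation of the chart ring by the `rat i j`),
  `mem_basicOpen_rat_iff`.
-/

set_option autoImplicit false
set_option linter.style.haveILetI false
set_option linter.unusedSectionVars false
universe u
open CategoryTheory CategoryTheory.Limits AlgebraicGeometry TopologicalSpace Opposite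

namespace Groth.Agent.Lib.R2H7.ClImmChart

open Groth.Agent.Lib.Helper23.SecTw Groth.Agent.Lib.Helper23.GenLocus Groth.Agent.Lib.Helper6
  Groth.Agent.Lib.Helper27GrTildeSect Groth.Agent.Helper13PullbackUnit Groth.Agent.Lib.Helper27PnSections
  Groth.Agent.Lib.R2H3.VAmpleMain

variable {k : Type u} [Field k] {n : ℕ}

local notation "Pg" => CohB1.polyGrading n k

/-- the coordinates -/
noncomputable abbrev TT (j : Fin (n + 1)) : MvPolynomial (Fin (n + 1)) k := MvPolynomial.X j

variable {X : Scheme.{u}} (pX : X ⟶ Spec (CommRingCat.of k))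
variable (f : X ⟶ Proj (CohB1.polyGrading n k))

/-- the module `f^* O(1)` in `GrTilde` form -/
noncomputable abbrev LL : X.Modules :=
  (Scheme.Modules.pullback f).obj (GrTilde.tilde Pg Pg ((1 : ℕ) : ℤ))

/-- the pulled back coordinates -/
noncomputable def ss (j : Fin (n + 1)) : ProjUP.Γm (LL f) :=
  ProjUP.pullSec f (GrTilde.tilde Pg Pg ((1 : ℕ) : ℤ)) (gsec Pg 1 ⊤ (hX (R := k) n j))

/-- the section `∑ c_j • f^* T_j` of `f^* O(1)` -/
noncomputable def vsec (c : Fin (n + 1) → k) : ProjUP.Γm (LL f) :=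
  ∑ j, ProjUP.toGlobal pX (c j) • ss f j

theorem appTop_constFun (hf : f ≫ toBase Pg = pX) (a : k) :
    f.appTop (constFun Pg a) = ProjUP.toGlobal pX a := by
  subst hf
  rw [ProjUP.toGlobal, Scheme.Hom.comp_appTop]
  rfl

section chart

variable (i : Fin (n + 1))

/-- the chart `D₊(T_i)` -/
noncomputable abbrev VV : (Proj Pg).Opens := Proj.basicOpen Pg (TT (k := k) i)

theorem isAffineOpen_VV : IsAffineOpen (VV (k := k) i) :=
  Proj.isAffineOpen_basicOpen Pg (TT i) (hX n i) Nat.one_pos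

/-- its preimage -/
noncomputable abbrev UU : X.Opens := f ⁻¹ᵁ VV (k := k) i

/-- the ring map on charts -/
noncomputable abbrev φφ : Γ(Proj Pg, VV (k := k) i) →+* Γ(X, UU f i) :=
  (f.appLE (VV (k := k) i) (UU f i) le_rfl).hom

/-- the ratio functions `T_j / T_i` -/
noncomputable abbrev rat (j : Fin (n + 1)) : Γ(Proj Pg, VV (k := k) i) :=
  cfun Pg 1 (TT (k := k)) (hX n) j i

/-- constants on the chart -/
noncomputable def κκ : k →+* Γ(Proj Pg, VV (k := k) i) :=
  ((Proj Pg).presheaf.map (homOfLE (le_top : VV (k := k) i ≤ ⊤)).op).hom.comp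
    (((toBase Pg).appTop).hom.comp (Scheme.ΓSpecIso (.of k)).inv.hom)

theorem κκ_apply (a : k) :
    κκ (k := k) i a = (Proj Pg).presheaf.map (homOfLE (le_top : VV (k := k) i ≤ ⊤)).op (constFun Pg a) := rfl

/-- the ratio `(∑ c_j T_j) / T_i` -/
noncomputable def ratLin (c : Fin (n + 1) → k) : Γ(Proj Pg, VV (k := k) i) :=
  ∑ j, κκ i (c j) * rat i j

theorem φφ_κκ (hf : f ≫ toBase Pg = pX) (a : k) :
    φφ f i (κκ i a) = resf (le_top : UU f i ≤ ⊤) (ProjUP.toGlobal pX a) := by
  rw [κκ_apply]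
  have h := appLE_resf_top (f := f) (U := VV (k := k) i) (V := UU f i) le_rfl (constFun Pg a)
  rw [appTop_constFun pX f hf] at h
  exact h

theorem hτ_refl (j : Fin (n + 1)) :
    (Iso.refl (LL f)).hom.app ⊤ (ProjUP.pullSec f (GrTilde.tilde Pg Pg ((1 : ℕ) : ℤ))
      (gsec Pg 1 ⊤ (hX (R := k) n j))) = ss f j := rfl

theorem res_ss (j : Fin (n + 1)) :
    res (LL f) (le_top : UU f i ≤ ⊤) (ss f j) =
      φφ f i (rat i j) • res (LL f) (le_top : UU f i ≤ ⊤) (ss f i) :=
  Groth.Agent.Lib.R2H3.VAmpleMor.res_eq Pg TT (hX n) f (LL f) (Iso.refl _) (ss f)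
    (hτ_refl f) j i

theorem isGen_ss :
    IsGen (LL f) (UU f i) (res (LL f) (le_top : UU f i ≤ ⊤) (ss f i)) :=
  Groth.Agent.Lib.R2H3.VAmpleMor.isGen_res Pg TT (hX n) f (LL f) (Iso.refl _) (ss f)
    (hτ_refl f) i

/-- generation of the chart ring -/
theorem subring_eq_top_chart (T : Subring Γ(Proj Pg, VV (k := k) i))
    (hc : ∀ a : k, κκ i a ∈ T) (hr : ∀ j, rat i j ∈ T) : T = ⊤ := by
  have hsurj : Function.Surjective (Proj.awayToSection Pg (TT (k := k) i)).hom := by
    intro c
    obtain ⟨m, a, ha, h⟩ := exists_awayToSection_eq (hX (R := k) n i) Nat.one_pos c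
    exact ⟨_, h⟩
  let E : Subring (HomogeneousLocalization.Away Pg (TT (k := k) i)) :=
    T.comap (Proj.awayToSection Pg (TT (k := k) i)).hom
  have hE : E = ⊤ := by
    apply Groth.Agent.Lib.Helper27AwayGen.subring_eq_top Pg (hX n i) TT (hX n) MvPolynomial.adjoin_range_X E
    · intro r₀
      change (Proj.awayToSection Pg (TT (k := k) i)).hom _ ∈ T
      rw [mk'_zero_eq, awayToSection_const Pg (hX n i) Nat.one_pos]
      exact hc r₀
    · intro j
      change (Proj.awayToSection Pg (TT (k := k) i)).hom _ ∈ T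
      rw [awayToSection_mk'_one]
      exact hr j
  rw [eq_top_iff]
  intro c _
  obtain ⟨a, rfl⟩ := hsurj c
  have : a ∈ E := by rw [hE]; trivial
  exact this

/-- the basic open of `T_j / T_i` -/
theorem mem_basicOpen_rat_iff (j : Fin (n + 1)) (y : ProjectiveSpectrum Pg) (hy : y ∈ VV (k := k) i) :
    y ∈ (Proj Pg).basicOpen (rat i j) ↔ y ∈ VV (k := k) j := by
  have hi : TT (k := k) i ∉ y.asHomogeneousIdeal :=
    (ProjectiveSpectrum.mem_basicOpen Pg (TT i) y).mp hy
  rw [mem_basicOpen_iff_isUnit_funVal Pg _ (rat i j) y hy,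
    isUnit_of_val_eq_mk _ hi (funVal_fracFun Pg _ (hX n j) (hX n i) _ y hy)]
  exact (ProjectiveSpectrum.mem_basicOpen Pg (TT j) y).symm

end chart

section stalk

/-- in a module freely generated by `ε`, `a • ε ∈ I M ↔ a ∈ I` -/
theorem smul_mem_smul_top_iff {R M : Type*} [CommRing R] [AddCommGroup M] [Module R M] (ε : M)
    (hε : Function.Bijective (fun c : R => c • ε)) (I : Ideal R) (a : R) :
    a • ε ∈ I • (⊤ : Submodule R M) ↔ a ∈ I := by
  constructor
  · intro h
    let e : R ≃ₗ[R] M := LinearEquiv.ofBijective (LinearMap.toSpanSingleton R M ε) hε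
    have h1 : I • (⊤ : Submodule R M) = (I • (⊤ : Submodule R R)).map e.toLinearMap := by
      rw [Submodule.map_smul'', Submodule.map_top, LinearEquiv.range]
    rw [h1] at h
    obtain ⟨b, hb, hbe⟩ := h
    have h2 : b = a := hε.1 hbe
    rw [← h2]
    have h3 : I • (⊤ : Submodule R R) = I := by
      rw [smul_eq_mul, Ideal.mul_top]
    rw [← h3]
    exact hb
  · intro h
    exact Submodule.smul_mem_smul h Submodule.mem_top

variable (i : Fin (n + 1)) (P : X)

/-- the generator of the stalk of `f^* O(1)` at a point of the `i`-th chart -/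
noncomputable def eps : ↑((LL f).presheaf.stalk P) :=
  (LL f).presheaf.germ ⊤ P trivial (ss f i)

theorem bijective_eps (hP : P ∈ UU f i) :
    Function.Bijective (fun c : X.presheaf.stalk P => c • eps f i P) := by
  have h1 := Groth.Agent.Lib.R2H1.C1Tensor.bijective_germ_of_isGen (LL f) (UU f i) _ (isGen_ss f i) P hP
  have h2 : (LL f).presheaf.germ (UU f i) P hP (res (LL f) (le_top : UU f i ≤ ⊤) (ss f i)) =
      eps f i P :=
    TopCat.Presheaf.germ_res_apply (LL f).presheaf (homOfLE (le_top : UU f i ≤ ⊤)) P hP _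
  rw [h2] at h1
  exact h1

theorem germ_ss (hP : P ∈ UU f i) (j : Fin (n + 1)) :
    (LL f).presheaf.germ ⊤ P trivial (ss f j) =
      X.presheaf.germ (UU f i) P hP (φφ f i (rat i j)) • eps f i P := by
  have h1 : (LL f).presheaf.germ (UU f i) P hP (res (LL f) (le_top : UU f i ≤ ⊤) (ss f j)) =
      (LL f).presheaf.germ ⊤ P trivial (ss f j) :=
    TopCat.Presheaf.germ_res_apply (LL f).presheaf (homOfLE (le_top : UU f i ≤ ⊤)) P hP _
  have h2 : (LL f).presheaf.germ (UU f i) P hP (res (LL f) (le_top : UU f i ≤ ⊤) (ss f i)) =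
      eps f i P :=
    TopCat.Presheaf.germ_res_apply (LL f).presheaf (homOfLE (le_top : UU f i ≤ ⊤)) P hP _
  rw [← h1, res_ss f i j, Groth.Agent.Lib.Helper2.QCoh.germ_smul, h2]

theorem germ_vsec (hf : f ≫ toBase Pg = pX) (hP : P ∈ UU f i) (c : Fin (n + 1) → k) :
    (LL f).presheaf.germ ⊤ P trivial (vsec pX f c) =
      X.presheaf.germ (UU f i) P hP (φφ f i (ratLin i c)) • eps f i P := by
  rw [vsec, map_sum, ratLin, map_sum, map_sum, Finset.sum_smul]
  refine Finset.sum_congr rfl fun j _ => ?_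
  have h1 : (LL f).presheaf.germ ⊤ P trivial (ProjUP.toGlobal pX (c j) • ss f j) =
      X.presheaf.germ ⊤ P trivial (ProjUP.toGlobal pX (c j)) • (LL f).presheaf.germ ⊤ P trivial (ss f j) :=
    Groth.Agent.Lib.Helper2.QCoh.germ_smul (LL f) P ⊤ trivial _ _
  rw [h1, germ_ss f i P hP j, map_mul, map_mul, mul_smul, φφ_κκ pX f i hf]
  congr 1
  exact (TopCat.Presheaf.germ_res_apply X.presheaf (homOfLE (le_top : UU f i ≤ ⊤)) P hP _).symm

end stalk

end Groth.Agent.Lib.R2H7.ClImmChart
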