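import Mathlib
import Groth.Agent.Lib.Helper27RatPts
import Groth.Prelude.Def_ProjUP

/-!
# Closed points of schemes of finite type over an algebraically closed field (helper7, round 2)

* `mem_asIdeal_iff` : for `U` affine and `y ∈ Spec Γ(X, U)`, `b ∈ y ↔ fromSpec y ∉ X_b`;
* `isClosed_fromSpec_iff` : on a Jacobson scheme, `fromSpec y` is a closed point iff `y` is maximal;
* `exists_const_sub` : at a closed point `P` of a scheme locally of finite type over an algebraically closed `k`, every
  function near `P` is congruent to a constant modulo functions vanishing at `P`;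
* `isFinite_of_injOn_closedPoints` : a proper morphism between schemes locally of finite type over a field which is
  injective on closed points is finite.
-/

set_option autoImplicit false
set_option linter.style.haveILetI false
set_option linter.unusedSectionVars false
universe u
open CategoryTheory CategoryTheory.Limits AlgebraicGeometry TopologicalSpace Opposite

namespace Groth.Agent.Lib.R2H7.ClImmPts

open Groth.Agent.Lib.Helper23.SecTw Groth.Agent.Lib.Helper6

section affine

variable {X : Scheme.{u}} {U : X.Opens} (hU : IsAffineOpen U)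

theorem fromSpec_mem (y : PrimeSpectrum Γ(X, U)) : hU.fromSpec y ∈ U := by
  have h : hU.fromSpec y ∈ Set.range hU.fromSpec := ⟨y, rfl⟩
  rw [hU.range_fromSpec] at h
  exact h

theorem mem_asIdeal_iff (y : PrimeSpectrum Γ(X, U)) (b : Γ(X, U)) :
    b ∈ y.asIdeal ↔ hU.fromSpec y ∉ X.basicOpen b := by
  have h1 : hU.fromSpec y ∈ X.basicOpen b ↔ y ∈ hU.fromSpec ⁻¹ᵁ X.basicOpen b := Iff.rfl
  rw [h1, hU.fromSpec_preimage_basicOpen]
  change _ ↔ ¬ (y ∈ PrimeSpectrum.basicOpen b)
  rw [PrimeSpectrum.mem_basicOpen, not_not]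

theorem germ_mem_maximalIdeal_iff (P : X) (hP : P ∈ U) (b : Γ(X, U)) :
    X.presheaf.germ U P hP b ∈ IsLocalRing.maximalIdeal (X.presheaf.stalk P) ↔ P ∉ X.basicOpen b := by
  rw [IsLocalRing.mem_maximalIdeal, mem_nonunits_iff, Scheme.mem_basicOpen X b P hP]

theorem exists_fromSpec_eq (P : X) (hP : P ∈ U) : ∃ y : PrimeSpectrum Γ(X, U), hU.fromSpec y = P :=
  ⟨hU.primeIdealOf ⟨P, hP⟩, hU.fromSpec_primeIdealOf ⟨P, hP⟩⟩

theorem isClosed_fromSpec_iff [JacobsonSpace X] (y : PrimeSpectrum Γ(X, U)) :
    IsClosed ({hU.fromSpec y} : Set X) ↔ y.asIdeal.IsMaximal := by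
  rw [← PrimeSpectrum.isClosed_singleton_iff_isMaximal]
  have h := hU.fromSpec.isOpenEmbedding.preimage_closedPoints
  have h2 : y ∈ hU.fromSpec ⁻¹' closedPoints X ↔ y ∈ closedPoints (Spec Γ(X, U)) := by rw [h]
  exact h2

end affine

section algClosed

variable (k : Type u) [Field k] [IsAlgClosed k] {X : Scheme.{u}} (pX : X ⟶ Spec (CommRingCat.of k))
  [LocallyOfFiniteType pX]

theorem exists_const_sub (P : X) (hP : IsClosed ({P} : Set X)) (W : X.Opens) (hPW : P ∈ W) (b : Γ(X, W)) :
    ∃ c : k, P ∉ X.basicOpen (b - resf (le_top : W ≤ ⊤) (ProjUP.toGlobal pX c)) := by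
  letI : X.Over (Spec (CommRingCat.of k)) := ⟨pX⟩
  let p : Spec (CommRingCat.of k) ⟶ X := pointOfClosedPoint pX P hP
  have hp : p ≫ (X ↘ Spec (CommRingCat.of k)) = 𝟙 _ := pointOfClosedPoint_comp pX P hP
  have hpP : p (IsLocalRing.closedPoint k) = P := pointOfClosedPoint_apply pX P hP _
  have hW : p (IsLocalRing.closedPoint k) ∈ W := by rw [hpP]; exact hPW
  refine ⟨Groth.Agent.Lib.Helper27RatPts.ev k p W hW b, ?_⟩
  intro hmem
  rw [← hpP] at hmem
  apply Groth.Agent.Lib.Helper27RatPts.ev_ne_zero_of_mem_basicOpen k p W hW _ hmem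
  rw [map_sub]
  have h1 := Groth.Agent.Lib.Helper27RatPts.ev_toGlobal k p hp W hW
    (Groth.Agent.Lib.Helper27RatPts.ev k p W hW b)
  have h2 : Groth.Agent.Lib.Helper27RatPts.ev k p W hW
      (resf (le_top : W ≤ ⊤) (ProjUP.toGlobal pX (Groth.Agent.Lib.Helper27RatPts.ev k p W hW b))) =
      Groth.Agent.Lib.Helper27RatPts.ev k p W hW b := h1
  rw [h2, sub_self]

end algClosed

section finite

variable {X Y : Scheme.{u}} (f : X ⟶ Y)

theorem preimage_singleton_eq [JacobsonSpace X]
    (hinj : ∀ P Q : X, IsClosed ({P} : Set X) → IsClosed ({Q} : Set X) → f P = f Q → P = Q)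
    (P : X) (hP : IsClosed ({P} : Set X)) (hfP : IsClosed ({f P} : Set Y)) : f ⁻¹' {f P} = {P} := by
  have hF : IsClosed (f ⁻¹' {f P}) := hfP.preimage f.continuous
  have h1 := JacobsonSpace.closure_inter_closedPoints_eq_closure hF.isLocallyClosed
  rw [hF.closure_eq] at h1
  have h2 : f ⁻¹' {f P} ∩ closedPoints X ⊆ {P} := by
    rintro Q ⟨hQ1, hQ2⟩
    exact Set.mem_singleton_iff.2 (hinj Q P hQ2 hP hQ1)
  apply Set.Subset.antisymm
  · rw [← h1]
    exact closure_minimal h2 hP
  · rintro _ rfl
    rfl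

theorem isFinite_of_injOn_closedPoints [IsProper f] [JacobsonSpace X]
    (hinj : ∀ P Q : X, IsClosed ({P} : Set X) → IsClosed ({Q} : Set X) → f P = f Q → P = Q) :
    IsFinite f := by
  have hloc : f.quasiFiniteLocus = ⊤ := by
    by_contra hne
    have hZ : ((f.quasiFiniteLocus : Set X)ᶜ).Nonempty := by
      rw [Set.nonempty_compl]
      intro h
      apply hne
      exact SetLike.coe_injective (by rw [h]; rfl)
    obtain ⟨P, hPZ, hP⟩ := nonempty_inter_closedPoints hZ
      f.quasiFiniteLocus.isOpen.isClosed_compl.isLocallyClosed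
    apply hPZ
    change f.QuasiFiniteAt P
    have hfP : IsClosed ({f P} : Set Y) := by
      have := f.isClosedMap _ hP
      rwa [Set.image_singleton] at this
    have hF := preimage_singleton_eq f hinj P hP hfP
    have hfin : (f ⁻¹' {f P}).Finite := by rw [hF]; exact Set.finite_singleton P
    have : Finite (f.fiber (f P)) := (f.fiberHomeo (f P)).finite_iff.mpr hfin
    exact Scheme.Hom.quasiFiniteAt_iff_isOpen_singleton_asFiber.mpr (isOpen_discrete _)
  have : LocallyQuasiFinite f := (Scheme.Hom.quasiFiniteLocus_eq_top_iff f).1 hloc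
  exact IsFinite.of_isProper_of_locallyQuasiFinite f

end finite

end Groth.Agent.Lib.R2H7.ClImmPts
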