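import Mathlib
import Groth.Agent.Lib.R2H7ClImmCA
import Groth.Agent.Lib.R2H7ClImmPts
import Groth.Agent.Lib.R2H7ClImmChart
import Groth.Agent.Lib.R2H3VAmpleImm
import Groth.Agent.S9705

/-!
# The closed immersion criterion: separating points and tangent vectors (helper7, round 2)
-/

set_option autoImplicit false
set_option linter.style.haveILetI false
set_option linter.unusedSectionVars false
universe u
open CategoryTheory CategoryTheory.Limits AlgebraicGeometry TopologicalSpace Opposite

namespace Groth.Agent.Lib.R2H7.ClImmMain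

open Groth.Agent.Lib.Helper23.SecTw Groth.Agent.Lib.Helper6
  Groth.Agent.Lib.Helper27GrTildeSect Groth.Agent.Lib.R2H3.VAmpleMain
  Groth.Agent.Lib.R2H7.ClImmChart Groth.Agent.Lib.R2H7.ClImmPts Groth.Agent.Lib.R2H7.ClImmCA

section CA

/-- clearing denominators in a localization at a prime -/
theorem exists_mul_mem_of_mem_map {B R : Type*} [CommRing B] [CommRing R] [Algebra B R] (q : Ideal B) [q.IsPrime]
    [IsLocalization.AtPrime R q] (I : Ideal B) (b : B)
    (h : algebraMap B R b ∈ I.map (algebraMap B R)) : ∃ s, s ∉ q ∧ s * b ∈ I := by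
  rw [IsLocalization.mem_map_algebraMap_iff q.primeCompl R] at h
  obtain ⟨⟨a, s⟩, h1⟩ := h
  have h2 : algebraMap B R (b * s) = algebraMap B R a := by rw [map_mul]; exact h1
  obtain ⟨t, ht⟩ := (IsLocalization.eq_iff_exists q.primeCompl R).1 h2
  refine ⟨t * s, q.primeCompl.mul_mem t.2 s.2, ?_⟩
  have h3 : (t : B) * (s : B) * b = t * a := by rw [← ht]; ring
  rw [h3]
  exact I.mul_mem_left _ a.2

end CA

variable {k : Type u} [Field k] {n : ℕ}

local notation "Pg" => CohB1.polyGrading n k

variable {X : Scheme.{u}} (pX : X ⟶ Spec (CommRingCat.of k))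
variable (f : X ⟶ Proj (CohB1.polyGrading n k))

/-- the submodule `𝔪_P L_P` of the stalk -/
noncomputable abbrev mL (P : X) : Submodule (X.presheaf.stalk P) ((LL f).presheaf.stalk P) :=
  IsLocalRing.maximalIdeal (X.presheaf.stalk P) • (⊤ : Submodule (X.presheaf.stalk P) ((LL f).presheaf.stalk P))

/-- the section `∑ c_j f^* T_j` vanishes at `P` -/
def Van (c : Fin (n + 1) → k) (P : X) : Prop :=
  (LL f).presheaf.germ ⊤ P trivial (vsec pX f c) ∈ mL f P

theorem van_iff (hf : f ≫ toBase Pg = pX) (i : Fin (n + 1)) (P : X) (hP : P ∈ UU f i) (c : Fin (n + 1) → k) :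
    Van pX f c P ↔ P ∉ X.basicOpen (φφ f i (ratLin i c)) := by
  rw [Van, germ_vsec pX f i P hf hP c, mL, smul_mem_smul_top_iff _ (bijective_eps f i P hP),
    germ_mem_maximalIdeal_iff]

section converse

variable [IsAlgClosed k] [LocallyOfFiniteType pX] [JacobsonSpace X] [IsLocallyNoetherian X]

/-- the conditions of separating points (symmetric form) -/
def SepSym : Prop :=
  ∀ P Q : X, IsClosed ({P} : Set X) → IsClosed ({Q} : Set X) → P ≠ Q →
    ∃ c : Fin (n + 1) → k, (Van pX f c P ∧ ¬ Van pX f c Q) ∨ (Van pX f c Q ∧ ¬ Van pX f c P)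

/-- the condition of separating tangent vectors -/
def Tang : Prop :=
  ∀ P : X, IsClosed ({P} : Set X) → mL f P ≤
    Submodule.span (X.presheaf.stalk P)
        {v | ∃ c : Fin (n + 1) → k, v = (LL f).presheaf.germ ⊤ P trivial (vsec pX f c) ∧ v ∈ mL f P} ⊔
      (IsLocalRing.maximalIdeal (X.presheaf.stalk P) ^ 2 •
        (⊤ : Submodule (X.presheaf.stalk P) ((LL f).presheaf.stalk P)))

theorem surjective_φφ (hf : f ≫ toBase Pg = pX) [IsFinite f] (hsep : SepSym pX f) (htan : Tang pX f)
    (i : Fin (n + 1)) : Function.Surjective (φφ f i) := by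
  have hV : IsAffineOpen (VV (k := k) i) := isAffineOpen_VV i
  have hU : IsAffineOpen (UU f i) := hV.preimage f
  haveI : IsNoetherianRing Γ(X, UU f i) := IsLocallyNoetherian.component_noetherian ⟨_, hU⟩
  have hfin : (φφ f i).Finite := by
    have h := IsFinite.finite_app f (VV (k := k) i) hV
    have e : f.appLE (VV (k := k) i) (UU f i) le_rfl = f.app (VV (k := k) i) := Scheme.Hom.appLE_eq_app f
    change (f.appLE (VV (k := k) i) (UU f i) le_rfl).hom.Finite
    rw [e]
    exact h
  apply surjective_of_maximal_conditions (φφ f i) hfin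
  · -- maximal ideals are separated
    intro q q' hq hq' hcomap
    by_contra hne
    let y : PrimeSpectrum Γ(X, UU f i) := ⟨q, hq.isPrime⟩
    let y' : PrimeSpectrum Γ(X, UU f i) := ⟨q', hq'.isPrime⟩
    have hP : IsClosed ({hU.fromSpec y} : Set X) := (isClosed_fromSpec_iff hU y).2 hq
    have hP' : IsClosed ({hU.fromSpec y'} : Set X) := (isClosed_fromSpec_iff hU y').2 hq'
    have hPP' : hU.fromSpec y ≠ hU.fromSpec y' := by
      intro h
      have h1 : y = y' := hU.fromSpec.isOpenEmbedding.injective h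
      exact hne (congrArg PrimeSpectrum.asIdeal h1)
    obtain ⟨c, hc⟩ := hsep _ _ hP hP' hPP'
    rw [van_iff pX f hf i _ (fromSpec_mem hU y) c, van_iff pX f hf i _ (fromSpec_mem hU y') c,
      ← mem_asIdeal_iff hU y, ← mem_asIdeal_iff hU y'] at hc
    have h2 : φφ f i (ratLin i c) ∈ q ↔ φφ f i (ratLin i c) ∈ q' := by
      change ratLin i c ∈ q.comap (φφ f i) ↔ ratLin i c ∈ q'.comap (φφ f i)
      rw [hcomap]
    rcases hc with ⟨h3, h4⟩ | ⟨h3, h4⟩
    · exact h4 (h2.1 h3)
    · exact h4 (h2.2 h3)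
  · -- residue fields
    intro q hq b
    let y : PrimeSpectrum Γ(X, UU f i) := ⟨q, hq.isPrime⟩
    have hP : IsClosed ({hU.fromSpec y} : Set X) := (isClosed_fromSpec_iff hU y).2 hq
    obtain ⟨c, hc⟩ := exists_const_sub k pX _ hP (UU f i) (fromSpec_mem hU y) b
    refine ⟨κκ i c, ?_⟩
    rw [φφ_κκ pX f i hf]
    exact (mem_asIdeal_iff hU y _).2 hc
  · -- tangent vectors
    intro q hq b hb
    let y : PrimeSpectrum Γ(X, UU f i) := ⟨q, hq.isPrime⟩
    have hP : IsClosed ({hU.fromSpec y} : Set X) := (isClosed_fromSpec_iff hU y).2 hq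
    have hPU : hU.fromSpec y ∈ UU f i := fromSpec_mem hU y
    letI := TopCat.Presheaf.algebra_section_stalk X.presheaf ⟨hU.fromSpec y, hPU⟩
    haveI : q.IsPrime := hq.isPrime
    haveI hloc : IsLocalization.AtPrime (X.presheaf.stalk (hU.fromSpec y)) q := hU.isLocalization_stalk' y hPU
    have halg : ∀ b' : Γ(X, UU f i), algebraMap Γ(X, UU f i) (X.presheaf.stalk (hU.fromSpec y)) b' =
        X.presheaf.germ (UU f i) (hU.fromSpec y) hPU b' := fun _ => rfl
    have hmem : ∀ b' : Γ(X, UU f i), b' ∈ q ↔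
        X.presheaf.germ (UU f i) (hU.fromSpec y) hPU b' ∈
          IsLocalRing.maximalIdeal (X.presheaf.stalk (hU.fromSpec y)) := by
      intro b'
      rw [germ_mem_maximalIdeal_iff, ← mem_asIdeal_iff hU y]
    apply exists_mul_mem_of_mem_map (R := X.presheaf.stalk (hU.fromSpec y)) q
    rw [Ideal.map_sup, Ideal.map_pow, IsLocalization.AtPrime.map_eq_maximalIdeal q, halg]
    -- now in the stalk
    have hε := bijective_eps f i (hU.fromSpec y) hPU
    have h1 : X.presheaf.germ (UU f i) (hU.fromSpec y) hPU b • eps f i (hU.fromSpec y) ∈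
        mL f (hU.fromSpec y) :=
      (smul_mem_smul_top_iff _ hε _ _).2 ((hmem b).1 hb)
    have h2 := htan _ hP h1
    have h3 : Submodule.span (X.presheaf.stalk (hU.fromSpec y))
        {v | ∃ c : Fin (n + 1) → k, v = (LL f).presheaf.germ ⊤ (hU.fromSpec y) trivial (vsec pX f c) ∧
          v ∈ mL f (hU.fromSpec y)} ≤
        (((q.comap (φφ f i)).map (φφ f i)).map
          (algebraMap Γ(X, UU f i) (X.presheaf.stalk (hU.fromSpec y)))) •
          (⊤ : Submodule (X.presheaf.stalk (hU.fromSpec y)) ((LL f).presheaf.stalk (hU.fromSpec y))) := by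
      rw [Submodule.span_le]
      rintro v ⟨c, rfl, hv⟩
      rw [germ_vsec pX f i _ hf hPU c] at hv ⊢
      have h4 := (smul_mem_smul_top_iff _ hε _ _).1 hv
      rw [← hmem] at h4
      refine Submodule.smul_mem_smul ?_ Submodule.mem_top
      rw [← halg]
      exact Ideal.mem_map_of_mem _ (Ideal.mem_map_of_mem _ h4)
    have h5 := sup_le_sup_right h3 _ h2
    rw [← Submodule.sup_smul] at h5
    exact (smul_mem_smul_top_iff _ hε _ _).1 h5

end converse

section assemble

theorem mem_basicOpen_φφ (i : Fin (n + 1)) (a : Γ(Proj Pg, VV (k := k) i)) (P : X) :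
    P ∈ X.basicOpen (φφ f i a) ↔ f P ∈ (Proj Pg).basicOpen a := by
  have e : f.appLE (VV (k := k) i) (UU f i) le_rfl = f.app (VV (k := k) i) := Scheme.Hom.appLE_eq_app f
  have h1 : X.basicOpen (φφ f i a) = f ⁻¹ᵁ (Proj Pg).basicOpen a := by
    change X.basicOpen ((f.appLE (VV (k := k) i) (UU f i) le_rfl).hom a) = _
    rw [e]
    exact (Scheme.preimage_basicOpen f a).symm
  rw [h1]
  rfl

theorem iSup_VV : ⨆ i : Fin (n + 1), VV (k := k) i = ⊤ := by
  rw [eq_top_iff]
  intro y _
  obtain ⟨i, hi⟩ := hcovX (R := k) n y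
  exact Opens.mem_iSup.2 ⟨i, (ProjectiveSpectrum.mem_basicOpen Pg (TT i) y).mpr hi⟩

theorem exists_mem_UU (P : X) : ∃ i : Fin (n + 1), P ∈ UU f i := by
  obtain ⟨i, hi⟩ := hcovX (R := k) n (f P)
  exact ⟨i, (ProjectiveSpectrum.mem_basicOpen Pg (TT i) (f P)).mpr hi⟩

theorem isProper_of_comp [IsProper pX] (hf : f ≫ toBase Pg = pX) : IsProper f := by
  haveI : IsProper (toBase Pg) := Groth.Agent.S9705.isProper_projSpace_toSpec n k
  haveI : IsProper (f ≫ toBase Pg) := by rw [hf]; infer_instance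
  exact IsProper.of_comp f (toBase Pg)

variable [IsAlgClosed k]

/-- **Criterion, converse direction**: a linear system separating points and tangent vectors defines a closed
immersion. -/
theorem isClosedImmersion_of [IsProper pX] (hf : f ≫ toBase Pg = pX) (hsep : SepSym pX f) (htan : Tang pX f) :
    IsClosedImmersion f := by
  haveI : JacobsonSpace X := LocallyOfFiniteType.jacobsonSpace pX
  haveI : IsLocallyNoetherian X := LocallyOfFiniteType.isLocallyNoetherian pX
  haveI : IsProper f := isProper_of_comp pX f hf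
  have hinj : ∀ P Q : X, IsClosed ({P} : Set X) → IsClosed ({Q} : Set X) → f P = f Q → P = Q := by
    intro P Q hP hQ hPQ
    by_contra hne
    obtain ⟨c, hc⟩ := hsep P Q hP hQ hne
    obtain ⟨i, hi⟩ := exists_mem_UU f P
    have hiQ : Q ∈ UU f i := by
      change f Q ∈ VV (k := k) i
      rw [← hPQ]
      exact hi
    rw [van_iff pX f hf i P hi c, van_iff pX f hf i Q hiQ c, mem_basicOpen_φφ, mem_basicOpen_φφ, hPQ] at hc
    rcases hc with ⟨h3, h4⟩ | ⟨h3, h4⟩
    · exact h4 h3
    · exact h4 h3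
  haveI : IsFinite f := isFinite_of_injOn_closedPoints f hinj
  apply Groth.Agent.Lib.R2H3.VAmpleImm.isClosedImmersion_of_affine_cover f (fun i : Fin (n + 1) => VV (k := k) i)
    (fun i => isAffineOpen_VV i) iSup_VV (fun i => (isAffineOpen_VV i).preimage f)
  intro i
  have e : f.appLE (VV (k := k) i) (UU f i) le_rfl = f.app (VV (k := k) i) := Scheme.Hom.appLE_eq_app f
  have h := surjective_φφ pX f hf hsep htan i
  change Function.Surjective (f.appLE (VV (k := k) i) (UU f i) le_rfl).hom at h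
  rw [e] at h
  exact h

end assemble

section direct

theorem ratLin_add (i : Fin (n + 1)) (c c' : Fin (n + 1) → k) :
    ratLin (k := k) i (c + c') = ratLin i c + ratLin i c' := by
  simp only [ratLin, Pi.add_apply, map_add, add_mul, Finset.sum_add_distrib]

theorem ratLin_neg (i : Fin (n + 1)) (c : Fin (n + 1) → k) :
    ratLin (k := k) i (-c) = -ratLin i c := by
  simp only [ratLin, Pi.neg_apply, map_neg, neg_mul, Finset.sum_neg_distrib]

theorem ratLin_single (i j : Fin (n + 1)) (a : k) :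
    ratLin (k := k) i (Pi.single j a) = κκ i a * rat i j := by
  rw [ratLin, Finset.sum_eq_single j]
  · rw [Pi.single_eq_same]
  · intro l _ hl
    rw [Pi.single_eq_of_ne hl, map_zero, zero_mul]
  · intro h
    exact absurd (Finset.mem_univ j) h

theorem ratLin_gen (i j : Fin (n + 1)) (a : k) :
    ratLin (k := k) i (Pi.single j 1 - Pi.single i a) = rat i j - κκ i a := by
  rw [sub_eq_add_neg, ratLin_add, ratLin_neg, ratLin_single, ratLin_single, map_one, one_mul,
    show rat (k := k) i i = 1 from cfun_self Pg 1 TT (hX n) i, mul_one, ← sub_eq_add_neg]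

variable [IsAlgClosed k] [LocallyOfFiniteType pX]

/-- generators of the maximal ideal of the image of a closed point in a chart -/
theorem exists_gens (hf : f ≫ toBase Pg = pX) (i : Fin (n + 1)) (hU : IsAffineOpen (UU f i))
    (y : PrimeSpectrum Γ(X, UU f i)) (hP : IsClosed ({hU.fromSpec y} : Set X)) :
    ∃ a : Fin (n + 1) → k, y.asIdeal.comap (φφ f i) =
      Ideal.span (Set.range fun j => ratLin (k := k) i (Pi.single j 1 - Pi.single i (a j))) := by
  have hPU : hU.fromSpec y ∈ UU f i := fromSpec_mem hU y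
  have hex : ∀ j : Fin (n + 1), ∃ c : k, rat i j - κκ i c ∈ y.asIdeal.comap (φφ f i) := by
    intro j
    obtain ⟨c, hc⟩ := exists_const_sub k pX _ hP (UU f i) hPU (φφ f i (rat i j))
    refine ⟨c, ?_⟩
    rw [Ideal.mem_comap, map_sub, φφ_κκ pX f i hf]
    exact (mem_asIdeal_iff hU y _).2 hc
  choose a ha using hex
  refine ⟨a, ?_⟩
  have h1 := eq_span_of_generators (κκ (k := k) i) (rat i) (subring_eq_top_chart i)
    (y.asIdeal.comap (φφ f i)) a ha ?_
  · rw [h1]
    congr 1
    ext z
    simp only [Set.mem_range]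
    constructor
    · rintro ⟨j, rfl⟩
      exact ⟨j, ratLin_gen i j (a j)⟩
    · rintro ⟨j, rfl⟩
      exact ⟨j, (ratLin_gen i j (a j)).symm⟩
  · intro c hc
    by_contra hne
    rw [Ideal.mem_comap, φφ_κκ pX f i hf] at hc
    have hu : IsUnit c := Ne.isUnit hne
    have hu2 : IsUnit (resf (le_top : UU f i ≤ ⊤) (ProjUP.toGlobal pX c)) :=
      (hu.map (ProjUP.toGlobal pX)).map (X.presheaf.map (homOfLE (le_top : UU f i ≤ ⊤)).op).hom
    exact y.isPrime.ne_top (Ideal.eq_top_of_isUnit_mem _ hc hu2)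

/-- the condition of separating points (asymmetric form) -/
def SepAsym : Prop :=
  ∀ P Q : X, IsClosed ({P} : Set X) → IsClosed ({Q} : Set X) → P ≠ Q →
    ∃ c : Fin (n + 1) → k, Van pX f c P ∧ ¬ Van pX f c Q

theorem van_iff_mem (hf : f ≫ toBase Pg = pX) (i : Fin (n + 1)) (hU : IsAffineOpen (UU f i))
    (y : PrimeSpectrum Γ(X, UU f i)) (c : Fin (n + 1) → k) :
    Van pX f c (hU.fromSpec y) ↔ ratLin i c ∈ y.asIdeal.comap (φφ f i) := by
  rw [van_iff pX f hf i _ (fromSpec_mem hU y) c, ← mem_asIdeal_iff hU y, Ideal.mem_comap]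

theorem mem_S (P : X) (c : Fin (n + 1) → k) (hv : Van pX f c P) :
    (LL f).presheaf.germ ⊤ P trivial (vsec pX f c) ∈
      {v | ∃ c : Fin (n + 1) → k, v = (LL f).presheaf.germ ⊤ P trivial (vsec pX f c) ∧ v ∈ mL f P} :=
  ⟨c, rfl, hv⟩

theorem tang_of_isClosedImmersion (hf : f ≫ toBase Pg = pX) [IsClosedImmersion f] : Tang pX f := by
  haveI : JacobsonSpace X := LocallyOfFiniteType.jacobsonSpace pX
  intro P hP
  obtain ⟨i, hPU⟩ := exists_mem_UU f P
  have hU : IsAffineOpen (UU f i) := (isAffineOpen_VV i).preimage f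
  obtain ⟨y, rfl⟩ := exists_fromSpec_eq hU P hPU
  refine le_trans ?_ le_sup_left
  obtain ⟨a, ha⟩ := exists_gens pX f hf i hU y hP
  have hsurj : Function.Surjective (φφ f i) := by
    have e : f.appLE (VV (k := k) i) (UU f i) le_rfl = f.app (VV (k := k) i) := Scheme.Hom.appLE_eq_app f
    change Function.Surjective (f.appLE (VV (k := k) i) (UU f i) le_rfl).hom
    rw [e]
    exact f.app_surjective (VV (k := k) i) (isAffineOpen_VV i)
  letI := TopCat.Presheaf.algebra_section_stalk X.presheaf ⟨hU.fromSpec y, hPU⟩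
  haveI hloc : IsLocalization.AtPrime (X.presheaf.stalk (hU.fromSpec y)) y.asIdeal :=
    hU.isLocalization_stalk' y hPU
  have hε := bijective_eps f i (hU.fromSpec y) hPU
  -- the maximal ideal of the stalk is generated by the images of the chart generators
  have hmax : IsLocalRing.maximalIdeal (X.presheaf.stalk (hU.fromSpec y)) =
      Ideal.span ((fun z => algebraMap Γ(X, UU f i) (X.presheaf.stalk (hU.fromSpec y)) (φφ f i z)) ''
        (Set.range fun j => ratLin (k := k) i (Pi.single j 1 - Pi.single i (a j)))) := by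
    rw [← IsLocalization.AtPrime.map_eq_maximalIdeal y.asIdeal,
      ← Ideal.map_comap_of_surjective (φφ f i) hsurj y.asIdeal, ha, Ideal.map_span, Ideal.map_span,
      Set.image_image]
  let S : Set ((LL f).presheaf.stalk (hU.fromSpec y)) :=
    {v | ∃ c : Fin (n + 1) → k, v = (LL f).presheaf.germ ⊤ (hU.fromSpec y) trivial (vsec pX f c) ∧
      v ∈ mL f (hU.fromSpec y)}
  let N : Submodule (X.presheaf.stalk (hU.fromSpec y)) (X.presheaf.stalk (hU.fromSpec y)) :=
    (Submodule.span (X.presheaf.stalk (hU.fromSpec y)) S).comap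
      (LinearMap.toSpanSingleton (X.presheaf.stalk (hU.fromSpec y)) _ (eps f i (hU.fromSpec y)))
  have hN : IsLocalRing.maximalIdeal (X.presheaf.stalk (hU.fromSpec y)) ≤ N := by
    rw [hmax]
    change Ideal.span _ ≤ (N : Ideal _)
    rw [Ideal.span_le]
    rintro _ ⟨_, ⟨j, rfl⟩, rfl⟩
    have hgerm := germ_vsec pX f i (hU.fromSpec y) hf hPU (Pi.single j 1 - Pi.single i (a j))
    have hv : Van pX f (Pi.single j 1 - Pi.single i (a j)) (hU.fromSpec y) := by
      rw [van_iff_mem pX f hf i hU y, ha]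
      exact Ideal.subset_span ⟨j, rfl⟩
    have hmemS : (LL f).presheaf.germ ⊤ (hU.fromSpec y) trivial
        (vsec pX f (Pi.single j 1 - Pi.single i (a j))) ∈ S :=
      mem_S pX f (hU.fromSpec y) _ hv
    rw [hgerm] at hmemS
    have hgoal : X.presheaf.germ (UU f i) (hU.fromSpec y) hPU
        (φφ f i (ratLin i (Pi.single j 1 - Pi.single i (a j)))) ∈ N := by
      rw [Submodule.mem_comap, LinearMap.toSpanSingleton_apply]
      exact Submodule.subset_span hmemS
    exact hgoal
  intro z hz
  obtain ⟨t, rfl⟩ := hε.2 z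
  have ht : t ∈ IsLocalRing.maximalIdeal (X.presheaf.stalk (hU.fromSpec y)) :=
    (smul_mem_smul_top_iff _ hε _ _).1 hz
  have := hN ht
  change LinearMap.toSpanSingleton _ _ (eps f i (hU.fromSpec y)) t ∈ Submodule.span _ S at this
  rw [LinearMap.toSpanSingleton_apply] at this
  exact this

theorem van_single_iff (hf : f ≫ toBase Pg = pX) (i : Fin (n + 1)) (P : X) :
    Van pX f (Pi.single i 1) P ↔ P ∉ UU f i := by
  obtain ⟨i', hi'⟩ := exists_mem_UU f P
  rw [van_iff pX f hf i' P hi', ratLin_single, map_one, one_mul, mem_basicOpen_φφ]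
  exact not_congr (mem_basicOpen_rat_iff i' i (f P) hi')

theorem sepAsym_of_isClosedImmersion (hf : f ≫ toBase Pg = pX) [IsClosedImmersion f] : SepAsym pX f := by
  haveI : JacobsonSpace X := LocallyOfFiniteType.jacobsonSpace pX
  intro P Q hP hQ hPQ
  obtain ⟨i, hQU⟩ := exists_mem_UU f Q
  by_cases hPU : P ∈ UU f i
  · have hU : IsAffineOpen (UU f i) := (isAffineOpen_VV i).preimage f
    obtain ⟨y, rfl⟩ := exists_fromSpec_eq hU P hPU
    obtain ⟨y', rfl⟩ := exists_fromSpec_eq hU Q hQU
    obtain ⟨a, ha⟩ := exists_gens pX f hf i hU y hP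
    have hq : y.asIdeal.IsMaximal := (isClosed_fromSpec_iff hU y).1 hP
    have hq' : y'.asIdeal.IsMaximal := (isClosed_fromSpec_iff hU y').1 hQ
    have hsurj : Function.Surjective (φφ f i) := by
      have e : f.appLE (VV (k := k) i) (UU f i) le_rfl = f.app (VV (k := k) i) := Scheme.Hom.appLE_eq_app f
      change Function.Surjective (f.appLE (VV (k := k) i) (UU f i) le_rfl).hom
      rw [e]
      exact f.app_surjective (VV (k := k) i) (isAffineOpen_VV i)
    by_contra hcon
    rw [not_exists] at hcon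
    have hall : ∀ j, ratLin (k := k) i (Pi.single j 1 - Pi.single i (a j)) ∈ y'.asIdeal.comap (φφ f i) := by
      intro j
      have h1 := hcon (Pi.single j 1 - Pi.single i (a j))
      rw [not_and, not_not, van_iff_mem pX f hf i hU y, van_iff_mem pX f hf i hU y', ha] at h1
      exact h1 (Ideal.subset_span ⟨j, rfl⟩)
    have hle : y.asIdeal.comap (φφ f i) ≤ y'.asIdeal.comap (φφ f i) := by
      rw [ha, Ideal.span_le]
      rintro _ ⟨j, rfl⟩
      exact hall j
    have hle2 : y.asIdeal ≤ y'.asIdeal := by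
      rw [← Ideal.map_comap_of_surjective (φφ f i) hsurj y.asIdeal,
        ← Ideal.map_comap_of_surjective (φφ f i) hsurj y'.asIdeal]
      exact Ideal.map_mono hle
    have heq : y.asIdeal = y'.asIdeal := hq.eq_of_le hq'.ne_top hle2
    exact hPQ (congrArg hU.fromSpec (PrimeSpectrum.ext heq))
  · refine ⟨Pi.single i 1, (van_single_iff pX f hf i P).2 hPU, ?_⟩
    rw [van_single_iff pX f hf i Q, not_not]
    exact hQU

end direct

section final

variable {k : Type u} [Field k] {n : ℕ} {X : Scheme.{u}} (pX : X ⟶ Spec (CommRingCat.of k))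
variable (f : X ⟶ CohB1.ProjSpace n k)
variable (M : (CohB1.ProjSpace n k).Modules) (t : Fin (n + 1) → ProjUP.Γm M)

/-- abstract form: the section `∑ c_j f^* t_j` of `f^* M` vanishes at `P` -/
def GVan (c : Fin (n + 1) → k) (P : X) : Prop :=
  (((Scheme.Modules.pullback f).obj M).presheaf.germ ⊤ P trivial).hom
      (∑ j, ProjUP.toGlobal pX (c j) • ProjUP.pullSec f M (t j)) ∈
    (IsLocalRing.maximalIdeal ↑(X.presheaf.stalk P) •
      (⊤ : Submodule ↑(X.presheaf.stalk P) ↑(((Scheme.Modules.pullback f).obj M).presheaf.stalk P)))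

/-- abstract form: separating points, symmetric version -/
def GSepSym : Prop :=
  ∀ P Q : ↥X, IsClosed ({P} : Set ↥X) → IsClosed ({Q} : Set ↥X) → P ≠ Q →
    ∃ c : Fin (n + 1) → k, (GVan pX f M t c P ∧ ¬ GVan pX f M t c Q) ∨ (GVan pX f M t c Q ∧ ¬ GVan pX f M t c P)

/-- abstract form: separating points, asymmetric version -/
def GSepAsym : Prop :=
  ∀ P Q : ↥X, IsClosed ({P} : Set ↥X) → IsClosed ({Q} : Set ↥X) → P ≠ Q →
    ∃ c : Fin (n + 1) → k, GVan pX f M t c P ∧ ¬ GVan pX f M t c Q

/-- abstract form: separating tangent vectors -/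
def GTang : Prop :=
  ∀ P : ↥X, IsClosed ({P} : Set ↥X) →
    (IsLocalRing.maximalIdeal ↑(X.presheaf.stalk P) •
        (⊤ : Submodule ↑(X.presheaf.stalk P) ↑(((Scheme.Modules.pullback f).obj M).presheaf.stalk P))) ≤
      Submodule.span ↑(X.presheaf.stalk P)
          {v | ∃ c : Fin (n + 1) → k,
            v = (((Scheme.Modules.pullback f).obj M).presheaf.germ ⊤ P trivial).hom
                (∑ j, ProjUP.toGlobal pX (c j) • ProjUP.pullSec f M (t j)) ∧
            v ∈ (IsLocalRing.maximalIdeal ↑(X.presheaf.stalk P) •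
              (⊤ : Submodule ↑(X.presheaf.stalk P) ↑(((Scheme.Modules.pullback f).obj M).presheaf.stalk P)))} ⊔
        (IsLocalRing.maximalIdeal ↑(X.presheaf.stalk P) ^ 2 •
          (⊤ : Submodule ↑(X.presheaf.stalk P) ↑(((Scheme.Modules.pullback f).obj M).presheaf.stalk P)))

/-- **The closed immersion criterion** (both directions), for a module `M` on `P^n_k` equal to `O(1)` with sections
`t j` equal to the coordinates. -/
theorem main_gen [IsAlgClosed k] [IsProper pX] (hf : f ≫ CohB1.ProjSpace.toSpec n k = pX)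
    (e : M = GrTilde.tilde (CohB1.polyGrading n k) (CohB1.polyGrading n k) ((1 : ℕ) : ℤ))
    (ht : ∀ j, HEq (t j) (gsec (CohB1.polyGrading n k) 1 ⊤ (hX (R := k) n j))) :
    (IsClosedImmersion f → GSepAsym pX f M t ∧ GTang pX f M t) ∧
      (GSepSym pX f M t ∧ GTang pX f M t → IsClosedImmersion f) := by
  subst e
  have ht' : t = fun j => gsec (CohB1.polyGrading n k) 1 ⊤ (hX (R := k) n j) :=
    funext fun j => eq_of_heq (ht j)
  subst ht'
  constructor
  · intro h
    let f' : X ⟶ Proj (CohB1.polyGrading n k) := f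
    haveI : IsClosedImmersion f' := h
    exact ⟨sepAsym_of_isClosedImmersion pX f' hf, tang_of_isClosedImmersion pX f' hf⟩
  · rintro ⟨h1, h2⟩
    exact isClosedImmersion_of pX f hf h1 h2

end final

end Groth.Agent.Lib.R2H7.ClImmMain
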