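import Mathlib

/-!
# The point of a polytope closest to the origin, over an arbitrary linearly ordered field
(helper7, round 2)

For a symmetric positive definite bilinear form `B` on a vector space over a linearly ordered field
and a finite non-empty set `S`, the convex hull of `S` has a point of minimal `B(y, y)`.  No
compactness is available over a general ordered field; the proof is by induction on the number of
points, projecting the origin on the affine span and moving towards the projection until a
coefficient vanishes.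
-/

set_option autoImplicit false
open Module
namespace Groth.Agent.Lib.R2H7.Closest

variable {R : Type*} {V : Type*} [Field R] [LinearOrder R] [IsStrictOrderedRing R]
variable [AddCommGroup V] [Module R V]
variable (B : LinearMap.BilinForm R V)

omit [LinearOrder R] [IsStrictOrderedRing R] in
theorem B_eq_zero_of_mem_span {x : V} {W : Set V} (h : ∀ w ∈ W, B x w = 0) {u : V}
    (hu : u ∈ Submodule.span R W) : B x u = 0 := by
  induction hu using Submodule.span_induction with
  | mem w hw => exact h w hw
  | zero => simp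
  | add a b _ _ ha hb => rw [map_add, ha, hb, add_zero]
  | smul r a _ ha => rw [map_smul, ha, smul_zero]

/-- Orthogonal projection on the span of a finite family, for a positive definite form. -/
theorem exists_proj (hBp : ∀ y : V, y ≠ 0 → 0 < B y y) {κ : Type*} (w : κ → V) (T : Finset κ)
    (x : V) :
    ∃ u ∈ Submodule.span R (w '' (T : Set κ)), ∀ i ∈ T, B (x - u) (w i) = 0 := by
  classical
  induction T using Finset.induction_on generalizing x with
  | empty => exact ⟨0, Submodule.zero_mem _, fun i hi => absurd hi (Finset.notMem_empty i)⟩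
  | insert a T ha ih =>
    obtain ⟨ux, hux, hx⟩ := ih x
    obtain ⟨ua, hua, hxa⟩ := ih (w a)
    have hmono : Submodule.span R (w '' (T : Set κ)) ≤
        Submodule.span R (w '' ((insert a T : Finset κ) : Set κ)) :=
      Submodule.span_mono (Set.image_mono (Finset.coe_subset.mpr (Finset.subset_insert a T)))
    obtain ⟨a', ha'⟩ : ∃ a' : V, a' = w a - ua := ⟨_, rfl⟩
    have hwa : w a = a' + ua := by rw [ha']; abel
    have hx' : ∀ w' ∈ w '' (T : Set κ), B (x - ux) w' = 0 := by
      rintro _ ⟨j, hj, rfl⟩
      exact hx j hj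
    have hxa' : ∀ w' ∈ w '' (T : Set κ), B a' w' = 0 := by
      rintro _ ⟨j, hj, rfl⟩
      rw [ha']
      exact hxa j hj
    have ha'mem : a' ∈ Submodule.span R (w '' ((insert a T : Finset κ) : Set κ)) := by
      rw [ha']
      apply Submodule.sub_mem _ _ (hmono hua)
      exact Submodule.subset_span ⟨a, by simp, rfl⟩
    by_cases h0 : a' = 0
    · refine ⟨ux, hmono hux, fun i hi => ?_⟩
      rcases Finset.mem_insert.mp hi with h | hi
      · rw [h, hwa, h0, zero_add]
        exact B_eq_zero_of_mem_span B hx' hua
      · exact hx i hi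
    · have hpos := hBp _ h0
      refine ⟨ux + (B (x - ux) a' / B a' a') • a', ?_, fun i hi => ?_⟩
      · exact Submodule.add_mem _ (hmono hux) (Submodule.smul_mem _ _ ha'mem)
      · have hsub : x - (ux + (B (x - ux) a' / B a' a') • a') =
            (x - ux) - (B (x - ux) a' / B a' a') • a' := by abel
        rw [hsub, map_sub, map_smul, LinearMap.sub_apply, LinearMap.smul_apply, smul_eq_mul]
        rcases Finset.mem_insert.mp hi with h | hi
        · have h1 : B (x - ux) ua = 0 := B_eq_zero_of_mem_span B hx' hua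
          have h2 : B a' ua = 0 := B_eq_zero_of_mem_span B hxa' hua
          rw [h, hwa, map_add, map_add, h1, h2, add_zero, add_zero,
            div_mul_cancel₀ _ hpos.ne', sub_self]
        · rw [hx i hi, hxa' (w i) ⟨i, hi, rfl⟩, mul_zero, sub_zero]

/-- The projection of the origin on the affine span of a finite set, as an affine combination. -/
theorem exists_affine_proj (hBp : ∀ y : V, y ≠ 0 → 0 < B y y) (S : Finset V) (hS : S.Nonempty) :
    ∃ (μ : V → R) (κ : R), ∑ s ∈ S, μ s = 1 ∧ ∀ s ∈ S, B (∑ x ∈ S, μ x • x) s = κ := by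
  classical
  obtain ⟨s₀, hs₀⟩ := hS
  obtain ⟨u, hu, hort⟩ := exists_proj B hBp (fun s => s - s₀) S s₀
  obtain ⟨c, hc⟩ := (Submodule.mem_span_image_finset_iff_exists_fun' R).mp hu
  refine ⟨fun s => (if s = s₀ then 1 + ∑ s ∈ S, c s else 0) - c s, B (s₀ - u) s₀, ?_, ?_⟩
  · rw [Finset.sum_sub_distrib, Finset.sum_ite_eq' S s₀, if_pos hs₀]
    ring
  · have hp : ∑ x ∈ S, ((if x = s₀ then 1 + ∑ s ∈ S, c s else 0) - c x) • x = s₀ - u := by
      rw [← hc]
      simp only [sub_smul, Finset.sum_sub_distrib, ite_smul, zero_smul, smul_sub]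
      rw [Finset.sum_ite_eq' S s₀, if_pos hs₀, ← Finset.sum_smul, add_smul, one_smul]
      abel
    intro s hs
    rw [hp]
    have := hort s hs
    rw [map_sub, sub_eq_zero] at this
    exact this

omit [LinearOrder R] [IsStrictOrderedRing R] in
theorem B_expand (hBs : ∀ y z : V, B y z = B z y) (p y : V) :
    B y y = B p p + 2 * B p (y - p) + B (y - p) (y - p) := by
  have h : y = p + (y - p) := by abel
  conv_lhs => rw [h]
  simp only [map_add, LinearMap.add_apply]
  rw [hBs (y - p) p]
  ring

omit [LinearOrder R] [IsStrictOrderedRing R] in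
theorem B_comb (S : Finset V) (p : V) (κ : R) (hκ : ∀ s ∈ S, B p s = κ) (ν : V → R) :
    B p (∑ s ∈ S, ν s • s) = (∑ s ∈ S, ν s) * κ := by
  rw [map_sum, Finset.sum_mul]
  apply Finset.sum_congr rfl
  intro s hs
  rw [map_smul, smul_eq_mul, hκ s hs]

/-- If the projection of the origin on the affine span is not in the convex hull, every point of
the convex hull is dominated by a point of the convex hull of `S` minus a point. -/
theorem exists_erase_le [DecidableEq V] (hBs : ∀ y z : V, B y z = B z y)
    (hBp : ∀ y : V, y ≠ 0 → 0 < B y y)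
    (S : Finset V) (μ : V → R) (κ : R) (hμ : ∑ s ∈ S, μ s = 1)
    (hκ : ∀ s ∈ S, B (∑ x ∈ S, μ x • x) s = κ) {s₁ : V} (hs₁ : s₁ ∈ S) (hneg : μ s₁ < 0)
    (lam : V → R) (hlam0 : ∀ s ∈ S, 0 ≤ lam s) (hlam1 : ∑ s ∈ S, lam s = 1) :
    ∃ s' ∈ S, ∃ y' ∈ convexHull R ((S.erase s' : Finset V) : Set V),
      B y' y' ≤ B (∑ s ∈ S, lam s • s) (∑ s ∈ S, lam s • s) := by
  set p := ∑ x ∈ S, μ x • x with hp
  set y := ∑ s ∈ S, lam s • s with hy
  have hBnn : ∀ z : V, 0 ≤ B z z := by
    intro z
    by_cases hz : z = 0
    · simp [hz]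
    · exact (hBp z hz).le
  -- the exit time
  set T := S.filter (fun s => μ s < lam s) with hT
  have hs₁T : s₁ ∈ T := Finset.mem_filter.mpr ⟨hs₁, hneg.trans_le (hlam0 s₁ hs₁)⟩
  obtain ⟨s', hs'T, hmin⟩ := Finset.exists_min_image T (fun s => lam s / (lam s - μ s)) ⟨s₁, hs₁T⟩
  have hs'S : s' ∈ S := (Finset.mem_filter.mp hs'T).1
  have hs'lt : μ s' < lam s' := (Finset.mem_filter.mp hs'T).2
  set t := lam s' / (lam s' - μ s') with ht
  have ht0 : 0 ≤ t := div_nonneg (hlam0 s' hs'S) (sub_pos.mpr hs'lt).le
  have ht1 : t < 1 := by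
    have h1 : t ≤ lam s₁ / (lam s₁ - μ s₁) := hmin s₁ hs₁T
    have h2 : lam s₁ / (lam s₁ - μ s₁) < 1 := by
      rw [div_lt_one (by linarith [hlam0 s₁ hs₁])]
      linarith
    exact h1.trans_lt h2
  set ν : V → R := fun s => lam s + t * (μ s - lam s) with hν
  have hν0 : ∀ s ∈ S, 0 ≤ ν s := by
    intro s hs
    by_cases hsT : μ s < lam s
    · have h1 : t ≤ lam s / (lam s - μ s) := hmin s (Finset.mem_filter.mpr ⟨hs, hsT⟩)
      have hpos : 0 < lam s - μ s := sub_pos.mpr hsT
      rw [le_div_iff₀ hpos] at h1
      rw [hν]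
      linarith
    · have h1 : 0 ≤ μ s - lam s := sub_nonneg.mpr (not_lt.mp hsT)
      rw [hν]
      have := mul_nonneg ht0 h1
      linarith [hlam0 s hs]
  have hνs' : ν s' = 0 := by
    have hpos : lam s' - μ s' ≠ 0 := (sub_pos.mpr hs'lt).ne'
    rw [hν, ht]
    field_simp
    ring
  have hν1 : ∑ s ∈ S, ν s = 1 := by
    rw [hν]
    simp only [Finset.sum_add_distrib, ← Finset.mul_sum, Finset.sum_sub_distrib, hμ, hlam1]
    ring
  have hy' : ∑ s ∈ S, ν s • s = p + (1 - t) • (y - p) := by
    rw [hν, hp, hy]
    simp only [add_smul, mul_smul, sub_smul, Finset.sum_add_distrib, Finset.sum_sub_distrib,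
      ← Finset.smul_sum, smul_sub, one_smul]
    abel
  refine ⟨s', hs'S, ∑ s ∈ S, ν s • s, ?_, ?_⟩
  · rw [Finset.mem_convexHull']
    refine ⟨ν, fun s hs => hν0 s (Finset.mem_of_mem_erase hs), ?_, ?_⟩
    · rw [Finset.sum_erase S hνs', hν1]
    · rw [Finset.sum_erase S (by rw [hνs', zero_smul])]
  · -- the norm decreases
    have hpy : B p (y - p) = 0 := by
      rw [map_sub, hy, hp, B_comb B S _ κ hκ lam, B_comb B S _ κ hκ μ, hμ, hlam1, sub_self]
    rw [hy', B_expand B hBs p y, B_expand B hBs p (p + (1 - t) • (y - p))]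
    have hsub : p + (1 - t) • (y - p) - p = (1 - t) • (y - p) := by abel
    rw [hsub]
    simp only [map_smul, LinearMap.smul_apply, smul_eq_mul]
    rw [hpy]
    have hE := hBnn (y - p)
    have h1 : 0 ≤ 1 - t := by linarith
    have h2 : 1 - t ≤ 1 := by linarith
    have h3 : (1 - t) * ((1 - t) * B (y - p) (y - p)) ≤ B (y - p) (y - p) := by
      have : (1 - t) * (1 - t) ≤ 1 := by nlinarith
      nlinarith
    linarith

/-- **Closest point**: the convex hull of a finite non-empty set has a point of minimal norm for a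
symmetric positive definite bilinear form, over any linearly ordered field. -/
theorem exists_min_on_convexHull (hBs : ∀ y z : V, B y z = B z y)
    (hBp : ∀ y : V, y ≠ 0 → 0 < B y y) (S : Finset V) (hS : S.Nonempty) :
    ∃ y₀ ∈ convexHull R (S : Set V), ∀ y ∈ convexHull R (S : Set V), B y₀ y₀ ≤ B y y := by
  classical
  induction hn : S.card using Nat.strong_induction_on generalizing S with
  | _ n ih =>
    obtain ⟨μ, κ, hμ, hκ⟩ := exists_affine_proj B hBp S hS
    set p := ∑ x ∈ S, μ x • x with hp
    have hBnn : ∀ z : V, 0 ≤ B z z := by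
      intro z
      by_cases hz : z = 0
      · simp [hz]
      · exact (hBp z hz).le
    by_cases hall : ∀ s ∈ S, 0 ≤ μ s
    · -- the projection lies in the convex hull
      refine ⟨p, ?_, ?_⟩
      · rw [Finset.mem_convexHull']
        exact ⟨μ, hall, hμ, rfl⟩
      · intro y hy
        rw [Finset.mem_convexHull'] at hy
        obtain ⟨lam, hlam0, hlam1, rfl⟩ := hy
        have hpy : B p (∑ s ∈ S, lam s • s - p) = 0 := by
          rw [map_sub, hp, B_comb B S _ κ hκ lam, B_comb B S _ κ hκ μ, hμ, hlam1, sub_self]
        rw [B_expand B hBs p (∑ s ∈ S, lam s • s), hpy]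
        have := hBnn (∑ s ∈ S, lam s • s - p)
        linarith
    · -- some coefficient is negative
      have hall' : ∃ s₁ ∈ S, μ s₁ < 0 := by
        by_contra hcon
        apply hall
        intro s hs
        by_contra hlt
        exact hcon ⟨s, hs, not_le.mp hlt⟩
      obtain ⟨s₁, hs₁, hneg⟩ := hall'
      -- `S` has at least two points
      have herase : ∀ s ∈ S, (S.erase s).Nonempty := by
        intro s hs
        by_contra hemp
        rw [Finset.not_nonempty_iff_eq_empty] at hemp
        have hS1 : S = {s} := by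
          apply Finset.Subset.antisymm
          · intro x hx
            by_contra hxs
            have : x ∈ S.erase s := Finset.mem_erase.mpr ⟨fun h => hxs (by rw [h]; simp), hx⟩
            rw [hemp] at this
            exact absurd this (Finset.notMem_empty x)
          · intro x hx
            rw [Finset.mem_singleton.mp hx]; exact hs
        rw [hS1, Finset.sum_singleton] at hμ
        rw [hS1, Finset.mem_singleton] at hs₁
        rw [hs₁, hμ] at hneg
        exact absurd hneg (by norm_num)
      have hrec : ∀ s ∈ S, ∃ ys ∈ convexHull R ((S.erase s : Finset V) : Set V),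
          ∀ y ∈ convexHull R ((S.erase s : Finset V) : Set V), B ys ys ≤ B y y := by
        intro s hs
        have hlt : (S.erase s).card < n := by
          rw [← hn]; exact Finset.card_erase_lt_of_mem hs
        exact ih _ hlt (S.erase s) (herase s hs) rfl
      choose! f hf using hrec
      obtain ⟨s₂, hs₂, hmin₂⟩ := Finset.exists_min_image S (fun s => B (f s) (f s)) hS
      refine ⟨f s₂, ?_, ?_⟩
      · exact convexHull_mono (Finset.coe_subset.mpr (Finset.erase_subset _ _)) (hf s₂ hs₂).1
      · intro y hy
        rw [Finset.mem_convexHull'] at hy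
        obtain ⟨lam, hlam0, hlam1, rfl⟩ := hy
        obtain ⟨s', hs', y', hy', hle⟩ :=
          exists_erase_le B hBs hBp S μ κ hμ hκ hs₁ hneg lam hlam0 hlam1
        exact (hmin₂ s' hs').trans (((hf s' hs').2 y' hy').trans hle)

end Groth.Agent.Lib.R2H7.Closest
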