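import Mathlib
import Groth.Prelude.Def_SGA3b

/-!
# R2H7CohA: convolution ring toolkit for Hochschild averaging

For a coalgebra `C` and commutative `R`-algebras `B`, the convolution rings `WithConv (C →ₗ[R] B)`.

* `pl L`: postcomposition with a linear map (additive); `pc F`: postcomposition with an algebra hom
  (ring hom).
* `Small J f`: `f` takes values in the ideal `J`; products of small maps vanish when `J * J' = ⊥`.
* `cv ψ`, `cvi ψ`: an algebra hom `ψ : C →ₐ[R] B` (`C` a Hopf algebra) and its convolution inverse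
  `ψ ∘ S`.
* `pl_mul_left`, `pl_mul_right`: postcomposition with a `B`-linear map `Y → B` is `𝒜(B)`-bilinear.
* `intB l B : B ⊗ A →ₗ[B] B`, integration along the last factor w.r.t. `l : A →ₗ[R] R`.
-/

set_option autoImplicit false
universe u

namespace Groth.Agent.Lib.R2H7.Coh

open TensorProduct Coalgebra WithConv

section PC

variable {R : Type u} [CommRing R] {C : Type u} [AddCommGroup C] [Module R C] [Coalgebra R C]
variable {B B' B'' : Type u} [CommRing B] [Algebra R B] [CommRing B'] [Algebra R B']
  [CommRing B''] [Algebra R B'']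

/-- Postcomposition with a linear map. -/
noncomputable def pl (L : B →ₗ[R] B') : WithConv (C →ₗ[R] B) →+ WithConv (C →ₗ[R] B') where
  toFun f := toConv (L ∘ₗ f.ofConv)
  map_zero' := by
    apply WithConv.ext
    apply LinearMap.ext
    intro c
    simp
  map_add' f g := by
    apply WithConv.ext
    apply LinearMap.ext
    intro c
    simp

@[simp] theorem pl_apply (L : B →ₗ[R] B') (f : WithConv (C →ₗ[R] B)) (c : C) :
    pl L f c = L (f c) := rfl

/-- Postcomposition with an algebra hom, as a ring hom of convolution rings. -/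
noncomputable def pc (F : B →ₐ[R] B') : WithConv (C →ₗ[R] B) →+* WithConv (C →ₗ[R] B') where
  toFun f := toConv (F.toLinearMap ∘ₗ f.ofConv)
  map_one' := by
    apply WithConv.ext
    apply LinearMap.ext
    intro c
    simp [LinearMap.convOne_def]
  map_mul' f g := WithConv.ext (LinearMap.algHom_comp_convMul_distrib F f g)
  map_zero' := by
    apply WithConv.ext
    apply LinearMap.ext
    intro c
    simp
  map_add' f g := by
    apply WithConv.ext
    apply LinearMap.ext
    intro c
    simp

@[simp] theorem pc_apply (F : B →ₐ[R] B') (f : WithConv (C →ₗ[R] B)) (c : C) :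
    pc F f c = F (f c) := rfl

theorem pc_comp (G : B' →ₐ[R] B'') (F : B →ₐ[R] B') (f : WithConv (C →ₗ[R] B)) :
    pc G (pc F f) = pc (G.comp F) f := rfl

theorem pc_eq_pl (F : B →ₐ[R] B') (f : WithConv (C →ₗ[R] B)) : pc F f = pl F.toLinearMap f := rfl

theorem conv_ext {f g : WithConv (C →ₗ[R] B)} (h : ∀ c, f c = g c) : f = g := by
  apply WithConv.ext
  apply LinearMap.ext
  exact h

/-- `f` takes values in the ideal `J`. -/
def Small (J : Ideal B) (f : WithConv (C →ₗ[R] B)) : Prop := ∀ c, f c ∈ J

theorem Small.add {J : Ideal B} {f g : WithConv (C →ₗ[R] B)} (hf : Small J f) (hg : Small J g) :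
    Small J (f + g) := fun c => J.add_mem (hf c) (hg c)

theorem Small.sub {J : Ideal B} {f g : WithConv (C →ₗ[R] B)} (hf : Small J f) (hg : Small J g) :
    Small J (f - g) := fun c => J.sub_mem (hf c) (hg c)

theorem Small.neg {J : Ideal B} {f : WithConv (C →ₗ[R] B)} (hf : Small J f) :
    Small J (-f) := fun c => J.neg_mem (hf c)

theorem mul_apply_mem_left {J : Ideal B} {f : WithConv (C →ₗ[R] B)} (hf : Small J f)
    (g : WithConv (C →ₗ[R] B)) (z : C ⊗[R] C) :
    LinearMap.mul' R B (TensorProduct.map f.ofConv g.ofConv z) ∈ J := by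
  induction z using TensorProduct.induction_on with
  | zero => simp
  | tmul x y =>
    rw [TensorProduct.map_tmul, LinearMap.mul'_apply]
    exact J.mul_mem_right _ (hf x)
  | add a b ha hb =>
    rw [map_add, map_add]
    exact J.add_mem ha hb

theorem mul_apply_mem_right {J : Ideal B} {f : WithConv (C →ₗ[R] B)} (hf : Small J f)
    (g : WithConv (C →ₗ[R] B)) (z : C ⊗[R] C) :
    LinearMap.mul' R B (TensorProduct.map g.ofConv f.ofConv z) ∈ J := by
  induction z using TensorProduct.induction_on with
  | zero => simp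
  | tmul x y =>
    rw [TensorProduct.map_tmul, LinearMap.mul'_apply]
    exact J.mul_mem_left _ (hf y)
  | add a b ha hb =>
    rw [map_add, map_add]
    exact J.add_mem ha hb

theorem Small.mul_right {J : Ideal B} {f : WithConv (C →ₗ[R] B)} (hf : Small J f)
    (g : WithConv (C →ₗ[R] B)) : Small J (f * g) := fun c => by
  rw [LinearMap.convMul_apply]
  exact mul_apply_mem_left hf g _

theorem Small.mul_left {J : Ideal B} {f : WithConv (C →ₗ[R] B)} (hf : Small J f)
    (g : WithConv (C →ₗ[R] B)) : Small J (g * f) := fun c => by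
  rw [LinearMap.convMul_apply]
  exact mul_apply_mem_right hf g _

theorem Small.mul_eq_zero {J J' : Ideal B} {f g : WithConv (C →ₗ[R] B)} (hf : Small J f)
    (hg : Small J' g) (h : J * J' = ⊥) : f * g = 0 := by
  apply conv_ext
  intro c
  rw [LinearMap.convMul_apply]
  have key : ∀ z : C ⊗[R] C,
      LinearMap.mul' R B (TensorProduct.map f.ofConv g.ofConv z) ∈ J * J' := by
    intro z
    induction z using TensorProduct.induction_on with
    | zero => simp
    | tmul x y =>
      rw [TensorProduct.map_tmul, LinearMap.mul'_apply]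
      exact Ideal.mul_mem_mul (hf x) (hg y)
    | add a b ha hb =>
      rw [map_add, map_add]
      exact (J * J').add_mem ha hb
  have := key (comul c)
  rw [h] at this
  exact this

theorem Small.pl {J : Ideal B} {J' : Ideal B'} (L : B →ₗ[R] B') (hL : ∀ x ∈ J, L x ∈ J')
    {f : WithConv (C →ₗ[R] B)} (hf : Small J f) : Small J' (pl L f) := fun c => hL _ (hf c)

theorem Small.pc {J : Ideal B} {J' : Ideal B'} (F : B →ₐ[R] B') (hF : ∀ x ∈ J, F x ∈ J')
    {f : WithConv (C →ₗ[R] B)} (hf : Small J f) : Small J' (pc F f) := fun c => hF _ (hf c)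

end PC

section Kx

variable {R : Type u} [CommRing R] (K : Ideal R)
variable {B B' : Type u} [CommRing B] [Algebra R B] [CommRing B'] [Algebra R B']

/-- An `R`-linear map maps `K B` into `K B'`. -/
theorem linearMap_mem_map (L : B →ₗ[R] B') {x : B} (hx : x ∈ K.map (algebraMap R B)) :
    L x ∈ K.map (algebraMap R B') := by
  have h1 : x ∈ (K • ⊤ : Submodule R B) := by
    rw [Ideal.smul_top_eq_map]
    exact hx
  have h2 : L x ∈ (K • ⊤ : Submodule R B') := by
    refine Submodule.smul_induction_on h1 ?_ ?_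
    · intro r hr n _
      rw [map_smul]
      exact Submodule.smul_mem_smul hr Submodule.mem_top
    · intro a b ha hb
      rw [map_add]
      exact Submodule.add_mem _ ha hb
  rw [Ideal.smul_top_eq_map] at h2
  exact h2

theorem algHom_mem_map' (F : B →ₐ[R] B') {x : B} (hx : x ∈ K.map (algebraMap R B)) :
    F x ∈ K.map (algebraMap R B') := linearMap_mem_map K F.toLinearMap hx

theorem map_mul_map_eq_bot (hK : K * K = ⊥) :
    K.map (algebraMap R B) * K.map (algebraMap R B) = ⊥ := by
  rw [← Ideal.map_mul, hK, Ideal.map_bot]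

end Kx

section Inv

variable {R : Type u} [CommRing R] {C : Type u} [CommRing C] [HopfAlgebra R C]
variable {B B' : Type u} [CommRing B] [Algebra R B] [CommRing B'] [Algebra R B']

/-- An algebra hom as an element of the convolution ring. -/
noncomputable def cv (ψ : C →ₐ[R] B) : WithConv (C →ₗ[R] B) := toConv ψ.toLinearMap

/-- The convolution inverse `ψ ∘ S` of an algebra hom. -/
noncomputable def cvi (ψ : C →ₐ[R] B) : WithConv (C →ₗ[R] B) :=
  toConv (ψ.comp (HopfAlgebra.antipodeAlgHom R C)).toLinearMap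

@[simp] theorem cv_apply (ψ : C →ₐ[R] B) (c : C) : cv ψ c = ψ c := rfl

theorem pc_cv (F : B →ₐ[R] B') (ψ : C →ₐ[R] B) : pc F (cv ψ) = cv (F.comp ψ) := rfl

theorem pc_cvi (F : B →ₐ[R] B') (ψ : C →ₐ[R] B) : pc F (cvi ψ) = cvi (F.comp ψ) := rfl

theorem cv_mul_cvi (ψ : C →ₐ[R] B) : cv ψ * cvi ψ = 1 := by
  have h1 : cv ψ = pc ψ (toConv (LinearMap.id : C →ₗ[R] C)) := rfl
  have h2 : cvi ψ = pc ψ (toConv (HopfAlgebra.antipode R (A := C))) := rfl
  rw [h1, h2, ← map_mul, LinearMap.id_mul_antipode, map_one]

theorem cvi_mul_cv (ψ : C →ₐ[R] B) : cvi ψ * cv ψ = 1 := by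
  have h1 : cv ψ = pc ψ (toConv (LinearMap.id : C →ₗ[R] C)) := rfl
  have h2 : cvi ψ = pc ψ (toConv (HopfAlgebra.antipode R (A := C))) := rfl
  rw [h1, h2, ← map_mul, LinearMap.antipode_mul_id, map_one]

/-- The convolution product of two algebra homs is an algebra hom. -/
theorem exists_algHom_mul (ψ ψ' : C →ₐ[R] B) : ∃ ρ : C →ₐ[R] B, cv ρ = cv ψ * cv ψ' :=
  ⟨(toConv ψ * toConv ψ').ofConv, rfl⟩

theorem exists_algHom_cvi (ψ : C →ₐ[R] B) : ∃ ρ : C →ₐ[R] B, cv ρ = cvi ψ :=
  ⟨ψ.comp (HopfAlgebra.antipodeAlgHom R C), rfl⟩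

theorem cv_injective {ψ ψ' : C →ₐ[R] B} (h : cv ψ = cv ψ') : ψ = ψ' := by
  apply AlgHom.ext
  intro c
  have := congrArg (fun f : WithConv (C →ₗ[R] B) => f c) h
  exact this

theorem cv_one_apply (c : C) : (1 : WithConv (C →ₗ[R] B)) c = algebraMap R B (counit (R := R) c) :=
  rfl

end Inv

section Bilin

variable {R : Type u} [CommRing R] {C : Type u} [AddCommGroup C] [Module R C] [Coalgebra R C]
variable {B Y : Type u} [CommRing B] [Algebra R B] [CommRing Y] [Algebra R Y] [Algebra B Y]
  [IsScalarTower R B Y]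

theorem pl_mul_left (L : Y →ₗ[B] B) (ι : B →ₐ[R] Y) (hι : ∀ b, ι b = algebraMap B Y b)
    (f : WithConv (C →ₗ[R] B)) (g : WithConv (C →ₗ[R] Y)) :
    pl (L.restrictScalars R) (pc ι f * g) = f * pl (L.restrictScalars R) g := by
  apply conv_ext
  intro c
  rw [pl_apply, LinearMap.convMul_apply, LinearMap.convMul_apply]
  generalize comul (R := R) c = z
  induction z using TensorProduct.induction_on with
  | zero => simp
  | tmul x y =>
    rw [TensorProduct.map_tmul, TensorProduct.map_tmul, LinearMap.mul'_apply, LinearMap.mul'_apply]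
    change L (ι (f x) * g y) = f x * L (g y)
    rw [hι, ← Algebra.smul_def, map_smul, smul_eq_mul]
  | add a b ha hb =>
    rw [map_add, map_add, map_add, ha, hb, map_add, map_add]

theorem pl_mul_right (L : Y →ₗ[B] B) (ι : B →ₐ[R] Y) (hι : ∀ b, ι b = algebraMap B Y b)
    (f : WithConv (C →ₗ[R] B)) (g : WithConv (C →ₗ[R] Y)) :
    pl (L.restrictScalars R) (g * pc ι f) = pl (L.restrictScalars R) g * f := by
  apply conv_ext
  intro c
  rw [pl_apply, LinearMap.convMul_apply, LinearMap.convMul_apply]
  generalize comul (R := R) c = z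
  induction z using TensorProduct.induction_on with
  | zero => simp
  | tmul x y =>
    rw [TensorProduct.map_tmul, TensorProduct.map_tmul, LinearMap.mul'_apply, LinearMap.mul'_apply]
    change L (g x * ι (f y)) = L (g x) * f y
    rw [hι, mul_comm, ← Algebra.smul_def, map_smul, smul_eq_mul, mul_comm]
  | add a b ha hb =>
    rw [map_add, map_add, map_add, ha, hb, map_add, map_add]

end Bilin

section IntB

variable {R : Type u} [CommRing R] {A : Type u} [CommRing A] [Algebra R A]

/-- Integration along the last factor. -/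
noncomputable def intB (l : A →ₗ[R] R) (B : Type u) [CommRing B] [Algebra R B] :
    B ⊗[R] A →ₗ[B] B :=
  (AlgebraTensorModule.rid R B B).toLinearMap ∘ₗ AlgebraTensorModule.lTensor B B l

@[simp] theorem intB_tmul (l : A →ₗ[R] R) (B : Type u) [CommRing B] [Algebra R B] (b : B) (a : A) :
    intB l B (b ⊗ₜ[R] a) = l a • b := rfl

theorem intB_natural (l : A →ₗ[R] R) {B B' : Type u} [CommRing B] [Algebra R B] [CommRing B']
    [Algebra R B'] (g : B →ₐ[R] B') (z : B ⊗[R] A) :
    intB l B' (Algebra.TensorProduct.map g (AlgHom.id R A) z) = g (intB l B z) := by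
  induction z using TensorProduct.induction_on with
  | zero => simp
  | tmul b a =>
    rw [Algebra.TensorProduct.map_tmul, intB_tmul, intB_tmul, map_smul]
    rfl
  | add x y hx hy => rw [map_add, map_add, hx, hy, map_add, map_add]

theorem intB_includeLeft (l : A →ₗ[R] R) (hl : l 1 = 1) (B : Type u) [CommRing B] [Algebra R B]
    (b : B) : intB l B (b ⊗ₜ[R] (1 : A)) = b := by
  rw [intB_tmul, hl, one_smul]

end IntB

end Groth.Agent.Lib.R2H7.Coh
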