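import Mathlib
import Groth.Prelude.Def_SGA3b
import Groth.Agent.Lib.R2H7CohA

/-!
# R2H7CohB: vanishing of Hochschild `H²` by averaging (core lemma)

`A`, `C` commutative Hopf algebras over `R`, `K` an ideal of `R` of square zero, `l : A →ₗ[R] R` a
normalized left-invariant integral on `A`.  If an algebra map `ψ : C →ₐ[R] A` is comultiplicative modulo
`K`, it is congruent modulo `K` to a bialgebra map (`exists_bialgHom_of_small`).
-/

set_option autoImplicit false
universe u

namespace Groth.Agent.Lib.R2H7.Coh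

open TensorProduct Coalgebra WithConv

section Maps

variable (R : Type u) [CommRing R] (A : Type u) [CommRing A] [HopfAlgebra R A]

noncomputable def p₁ : A →ₐ[R] A ⊗[R] A := Algebra.TensorProduct.includeLeft
noncomputable def p₂ : A →ₐ[R] A ⊗[R] A := Algebra.TensorProduct.includeRight
noncomputable def dl : A →ₐ[R] A ⊗[R] A := Bialgebra.comulAlgHom R A
noncomputable def d₀ : A ⊗[R] A →ₐ[R] (A ⊗[R] A) ⊗[R] A :=
  Algebra.TensorProduct.map (p₂ R A) (AlgHom.id R A)
noncomputable def d₁ : A ⊗[R] A →ₐ[R] (A ⊗[R] A) ⊗[R] A :=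
  Algebra.TensorProduct.map (dl R A) (AlgHom.id R A)
noncomputable def d₂ : A ⊗[R] A →ₐ[R] (A ⊗[R] A) ⊗[R] A :=
  ((Algebra.TensorProduct.assoc R R R A A A).symm.toAlgHom).comp
    (Algebra.TensorProduct.map (AlgHom.id R A) (dl R A))
noncomputable def d₃ : A ⊗[R] A →ₐ[R] (A ⊗[R] A) ⊗[R] A := Algebra.TensorProduct.includeLeft
noncomputable def q₃ : A →ₐ[R] (A ⊗[R] A) ⊗[R] A := Algebra.TensorProduct.includeRight

variable {R A}

theorem assoc_symm_eq (t : A ⊗[R] (A ⊗[R] A)) :
    (Algebra.TensorProduct.assoc R R R A A A).symm t = (TensorProduct.assoc R A A A).symm t := by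
  induction t using TensorProduct.induction_on with
  | zero => simp
  | tmul x w =>
    induction w using TensorProduct.induction_on with
    | zero => simp
    | tmul y z => rfl
    | add a b ha hb => rw [TensorProduct.tmul_add, map_add, map_add, ha, hb]
  | add a b ha hb => rw [map_add, map_add, ha, hb]

theorem d₁_eq (z : A ⊗[R] A) : d₁ R A z = LinearMap.rTensor A (comul (R := R)) z := by
  induction z using TensorProduct.induction_on with
  | zero => simp
  | tmul x y => rfl
  | add a b ha hb => rw [map_add, map_add, ha, hb]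

theorem d₂_eq (z : A ⊗[R] A) :
    d₂ R A z = (TensorProduct.assoc R A A A).symm (LinearMap.lTensor A (comul (R := R)) z) := by
  rw [← assoc_symm_eq]
  induction z using TensorProduct.induction_on with
  | zero => simp
  | tmul x y => rfl
  | add a b ha hb => rw [map_add, map_add, map_add, ha, hb]

theorem I1 : (d₁ R A).comp (dl R A) = (d₂ R A).comp (dl R A) := by
  apply AlgHom.ext
  intro a
  change d₁ R A (comul (R := R) a) = d₂ R A (comul (R := R) a)
  rw [d₁_eq, d₂_eq, Coalgebra.coassoc_symm_apply]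

theorem I2 : (d₁ R A).comp (p₁ R A) = (d₃ R A).comp (dl R A) := by
  apply AlgHom.ext
  intro a
  rfl

theorem I3 : (d₁ R A).comp (p₂ R A) = q₃ R A := by
  apply AlgHom.ext
  intro a
  change (dl R A 1) ⊗ₜ[R] a = (1 : A ⊗[R] A) ⊗ₜ[R] a
  rw [map_one]

theorem I5 : (d₀ R A).comp (p₁ R A) = (d₃ R A).comp (p₂ R A) := by
  apply AlgHom.ext
  intro a
  rfl

theorem I6 : (d₀ R A).comp (p₂ R A) = q₃ R A := by
  apply AlgHom.ext
  intro a
  change (p₂ R A 1) ⊗ₜ[R] a = (1 : A ⊗[R] A) ⊗ₜ[R] a
  rw [map_one]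

theorem I7 : (d₂ R A).comp (p₁ R A) = (d₃ R A).comp (p₁ R A) := by
  apply AlgHom.ext
  intro a
  change (Algebra.TensorProduct.assoc R R R A A A).symm (a ⊗ₜ[R] (dl R A 1)) = _
  rw [map_one, Algebra.TensorProduct.one_def]
  rfl

theorem assoc_symm_one_tmul (z : A ⊗[R] A) :
    (Algebra.TensorProduct.assoc R R R A A A).symm ((1 : A) ⊗ₜ[R] z) = d₀ R A z := by
  induction z using TensorProduct.induction_on with
  | zero => simp
  | tmul x y => rfl
  | add a b ha hb => rw [TensorProduct.tmul_add, map_add, map_add, ha, hb]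

theorem I8 : (d₂ R A).comp (p₂ R A) = (d₀ R A).comp (dl R A) := by
  apply AlgHom.ext
  intro a
  change (Algebra.TensorProduct.assoc R R R A A A).symm ((1 : A) ⊗ₜ[R] (dl R A a)) = _
  rw [assoc_symm_one_tmul]
  rfl

/-- `(ε ⊗ ε)`, as an algebra map `A ⊗ A → R`. -/
noncomputable def epsEps : A ⊗[R] A →ₐ[R] R :=
  (Algebra.TensorProduct.lmul' R).comp
    (Algebra.TensorProduct.map (Bialgebra.counitAlgHom R A) (Bialgebra.counitAlgHom R A))

theorem epsEps_comp_dl : (epsEps (R := R) (A := A)).comp (dl R A) = Bialgebra.counitAlgHom R A := by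
  apply AlgHom.ext
  intro a
  have h1 : ∀ z : A ⊗[R] A,
      Algebra.TensorProduct.map (Bialgebra.counitAlgHom R A) (Bialgebra.counitAlgHom R A) z =
        LinearMap.lTensor R (counit (R := R) (A := A)) (LinearMap.rTensor A (counit (R := R)) z) := by
    intro z
    induction z using TensorProduct.induction_on with
    | zero => simp
    | tmul x y => rfl
    | add a b ha hb => rw [map_add, map_add, map_add, ha, hb]
  change Algebra.TensorProduct.lmul' R (Algebra.TensorProduct.map (Bialgebra.counitAlgHom R A)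
    (Bialgebra.counitAlgHom R A) (comul (R := R) a)) = counit (R := R) a
  rw [h1, Coalgebra.rTensor_counit_comul]
  simp

theorem epsEps_comp_p₁ : (epsEps (R := R) (A := A)).comp (p₁ R A) = Bialgebra.counitAlgHom R A := by
  apply AlgHom.ext
  intro a
  simp [epsEps, p₁]

theorem epsEps_comp_p₂ : (epsEps (R := R) (A := A)).comp (p₂ R A) = Bialgebra.counitAlgHom R A := by
  apply AlgHom.ext
  intro a
  simp [epsEps, p₂]

end Maps

section Int

variable {R : Type u} [CommRing R] {A : Type u} [CommRing A] [HopfAlgebra R A]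
variable (l : A →ₗ[R] R)

theorem intB_d₃ (hl : l 1 = 1) (x : A ⊗[R] A) : intB l (A ⊗[R] A) (d₃ R A x) = x :=
  intB_includeLeft l hl _ x

theorem intB_d₁ (z : A ⊗[R] A) : intB l (A ⊗[R] A) (d₁ R A z) = dl R A (intB l A z) :=
  intB_natural l (dl R A) z

theorem intB_d₀ (z : A ⊗[R] A) : intB l (A ⊗[R] A) (d₀ R A z) = p₂ R A (intB l A z) :=
  intB_natural l (p₂ R A) z

theorem intB_assoc_symm (a : A) (w : A ⊗[R] A) :
    intB l (A ⊗[R] A) ((Algebra.TensorProduct.assoc R R R A A A).symm (a ⊗ₜ[R] w)) =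
      a ⊗ₜ[R] intB l A w := by
  induction w using TensorProduct.induction_on with
  | zero => simp
  | tmul x y =>
    change intB l (A ⊗[R] A) ((a ⊗ₜ[R] x) ⊗ₜ[R] y) = a ⊗ₜ[R] intB l A (x ⊗ₜ[R] y)
    rw [intB_tmul, intB_tmul, TensorProduct.tmul_smul]
  | add u v hu hv => rw [TensorProduct.tmul_add, map_add, map_add, hu, hv, map_add, TensorProduct.tmul_add]

theorem intB_d₂ (hinv : ∀ a, intB l A (comul (R := R) a) = algebraMap R A (l a)) (z : A ⊗[R] A) :
    intB l (A ⊗[R] A) (d₂ R A z) = p₁ R A (intB l A z) := by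
  induction z using TensorProduct.induction_on with
  | zero => simp
  | tmul a b =>
    change intB l (A ⊗[R] A) ((Algebra.TensorProduct.assoc R R R A A A).symm
      (a ⊗ₜ[R] (comul (R := R) b))) = (intB l A (a ⊗ₜ[R] b)) ⊗ₜ[R] (1 : A)
    rw [intB_assoc_symm, hinv, intB_tmul, Algebra.algebraMap_eq_smul_one, TensorProduct.tmul_smul,
      TensorProduct.smul_tmul']
  | add u v hu hv => rw [map_add, map_add, hu, hv, map_add, map_add]

end Int

section Avg

variable {R : Type u} [CommRing R] {C : Type u} [CommRing C] [Algebra R C]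

/-- Averaging an algebra map which is constant modulo a square-zero ideal gives an algebra map. -/
theorem algHom_of_avg {B Y : Type u} [CommRing B] [Algebra R B] [CommRing Y] [Algebra R Y]
    [Algebra B Y] [IsScalarTower R B Y] (K : Ideal R) (hK : K * K = ⊥) (L : Y →ₗ[B] B)
    (hL : L 1 = 1) (ρ : C →ₐ[R] Y) (ψ : C →ₐ[R] B)
    (h : ∀ c, ρ c - algebraMap B Y (ψ c) ∈ K.map (algebraMap R Y)) :
    ∃ ψ' : C →ₐ[R] B, ∀ c, ψ' c = L (ρ c) := by
  have hKY := map_mul_map_eq_bot (B := Y) K hK
  have hKB := map_mul_map_eq_bot (B := B) K hK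
  have hLι : ∀ (b : B) (y : Y), L (algebraMap B Y b * y) = b * L y := by
    intro b y
    rw [← Algebra.smul_def, map_smul, smul_eq_mul]
  have hLι1 : ∀ b : B, L (algebraMap B Y b) = b := by
    intro b
    rw [Algebra.algebraMap_eq_smul_one, map_smul, hL, smul_eq_mul, mul_one]
  have hmul : ∀ x y : C, L (ρ (x * y)) = L (ρ x) * L (ρ y) := by
    intro x y
    have h0 : (ρ x - algebraMap B Y (ψ x)) * (ρ y - algebraMap B Y (ψ y)) = 0 := by
      have := Ideal.mul_mem_mul (h x) (h y)
      rw [hKY] at this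
      exact this
    have hLx : L (ρ x - algebraMap B Y (ψ x)) ∈ K.map (algebraMap R B) :=
      linearMap_mem_map K (L.restrictScalars R) (h x)
    have hLy : L (ρ y - algebraMap B Y (ψ y)) ∈ K.map (algebraMap R B) :=
      linearMap_mem_map K (L.restrictScalars R) (h y)
    have h1 : L (ρ x - algebraMap B Y (ψ x)) * L (ρ y - algebraMap B Y (ψ y)) = 0 := by
      have := Ideal.mul_mem_mul hLx hLy
      rw [hKB] at this
      exact this
    have e : ρ (x * y) = algebraMap B Y (ψ x * ψ y) +
        algebraMap B Y (ψ x) * (ρ y - algebraMap B Y (ψ y)) +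
        algebraMap B Y (ψ y) * (ρ x - algebraMap B Y (ψ x)) +
        (ρ x - algebraMap B Y (ψ x)) * (ρ y - algebraMap B Y (ψ y)) := by
      rw [map_mul, map_mul]
      ring
    rw [e, h0, add_zero, map_add, map_add, hLι1, hLι, hLι]
    rw [map_sub, map_sub, hLι1, hLι1] at h1 ⊢
    linear_combination (-1 : B) * h1
  refine ⟨AlgHom.ofLinearMap ((L.restrictScalars R) ∘ₗ ρ.toLinearMap) ?_ hmul, fun c => rfl⟩
  change L (ρ 1) = 1
  rw [map_one, hL]

end Avg

end Groth.Agent.Lib.R2H7.Coh
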