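import Mathlib
import Groth.Prelude.Def_SGA3b
import Groth.Agent.Lib.R2H7CohA
import Groth.Agent.Lib.R2H7CohB

/-!
# R2H7CohC: the averaging computation

`exists_bialgHom_of_small`: `K * K = ⊥`, `l` a normalized left-invariant integral on `A`, `ψ : C →ₐ[R] A`
comultiplicative modulo `K`; then there is a bialgebra map `φ` with `φ ≡ ψ` modulo `K`.
-/

set_option autoImplicit false
universe u

namespace Groth.Agent.Lib.R2H7.Coh

open TensorProduct Coalgebra WithConv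

section Core

variable {R : Type u} [CommRing R] {A C : Type u} [CommRing A] [HopfAlgebra R A] [CommRing C]
  [HopfAlgebra R C]
variable (ψ : C →ₐ[R] A)

/-- The defect of comultiplicativity of `ψ`. -/
noncomputable def del : WithConv (C →ₗ[R] A ⊗[R] A) :=
  cv ((dl R A).comp ψ) - cv ((p₁ R A).comp ψ) * cv ((p₂ R A).comp ψ)

theorem mul'_map_p (f g : C →ₗ[R] A) (z : C ⊗[R] C) :
    LinearMap.mul' R (A ⊗[R] A)
      (TensorProduct.map ((p₁ R A).toLinearMap ∘ₗ f) ((p₂ R A).toLinearMap ∘ₗ g) z) =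
      TensorProduct.map f g z := by
  induction z using TensorProduct.induction_on with
  | zero => simp
  | tmul x y =>
    rw [TensorProduct.map_tmul, TensorProduct.map_tmul, LinearMap.mul'_apply]
    change (f x ⊗ₜ[R] (1 : A)) * ((1 : A) ⊗ₜ[R] g y) = _
    rw [Algebra.TensorProduct.tmul_mul_tmul, mul_one, one_mul]
  | add a b ha hb => rw [map_add, map_add, ha, hb, map_add]

theorem p_mul_apply (f g : WithConv (C →ₗ[R] A)) (c : C) :
    (pc (p₁ R A) f * pc (p₂ R A) g) c = TensorProduct.map f.ofConv g.ofConv (comul (R := R) c) := by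
  rw [LinearMap.convMul_apply]
  exact mul'_map_p f.ofConv g.ofConv _

theorem del_apply (c : C) :
    del ψ c = comul (R := R) (ψ c) -
      TensorProduct.map ψ.toLinearMap ψ.toLinearMap (comul (R := R) c) := by
  have h := p_mul_apply (cv ψ) (cv ψ) c
  change (cv ((dl R A).comp ψ)) c - (pc (p₁ R A) (cv ψ) * pc (p₂ R A) (cv ψ)) c = _
  rw [h]
  rfl

theorem pc_del {Y : Type u} [CommRing Y] [Algebra R Y] (F : A ⊗[R] A →ₐ[R] Y) :
    pc F (del ψ) = cv ((F.comp (dl R A)).comp ψ) -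
      cv ((F.comp (p₁ R A)).comp ψ) * cv ((F.comp (p₂ R A)).comp ψ) := by
  unfold del
  rw [map_sub, map_mul]
  rfl

theorem E1 : pc (d₃ R A) (del ψ) * cv ((q₃ R A).comp ψ) + pc (d₁ R A) (del ψ) =
    cv (((d₃ R A).comp (p₁ R A)).comp ψ) * pc (d₀ R A) (del ψ) + pc (d₂ R A) (del ψ) := by
  rw [pc_del, pc_del, pc_del, pc_del, I2, I3, I5, I6, I7, I8, I1]
  noncomm_ring

/-- `θ = δ * (p₂ψ)⁻¹`. -/
noncomputable def theta : WithConv (C →ₗ[R] A ⊗[R] A) := del ψ * cvi ((p₂ R A).comp ψ)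

/-- `u = (p₂ψ)⁻¹ - (Δψ)⁻¹ * p₁ψ`. -/
noncomputable def uu : WithConv (C →ₗ[R] A ⊗[R] A) :=
  cvi ((p₂ R A).comp ψ) - cvi ((dl R A).comp ψ) * cv ((p₁ R A).comp ψ)

theorem uu_eq : uu ψ = cvi ((dl R A).comp ψ) * del ψ * cvi ((p₂ R A).comp ψ) := by
  unfold uu del
  rw [mul_sub, sub_mul, cvi_mul_cv, one_mul]
  simp only [mul_assoc]
  rw [cv_mul_cvi, mul_one]

variable (K : Ideal R)

theorem E3 (hK : K * K = ⊥) (hδ : Small (K.map (algebraMap R (A ⊗[R] A))) (del ψ)) :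
    pc (d₃ R A) (del ψ) + pc (d₁ R A) (theta ψ) =
      cv (((d₃ R A).comp (p₁ R A)).comp ψ) * pc (d₀ R A) (theta ψ) +
        pc (d₂ R A) (theta ψ) * cv (((d₃ R A).comp (p₂ R A)).comp ψ) := by
  have e1 := E1 ψ
  have hth1 : pc (d₁ R A) (theta ψ) = pc (d₁ R A) (del ψ) * cvi ((q₃ R A).comp ψ) := by
    unfold theta
    rw [map_mul, pc_cvi, ← AlgHom.comp_assoc, I3]
  have hth0 : pc (d₀ R A) (theta ψ) = pc (d₀ R A) (del ψ) * cvi ((q₃ R A).comp ψ) := by
    unfold theta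
    rw [map_mul, pc_cvi, ← AlgHom.comp_assoc, I6]
  have hth2 : pc (d₂ R A) (theta ψ) =
      pc (d₂ R A) (del ψ) * cvi (((d₀ R A).comp (dl R A)).comp ψ) := by
    unfold theta
    rw [map_mul, pc_cvi, ← AlgHom.comp_assoc, I8]
  have hu : pc (d₀ R A) (uu ψ) = cvi ((q₃ R A).comp ψ) -
      cvi (((d₀ R A).comp (dl R A)).comp ψ) * cv (((d₃ R A).comp (p₂ R A)).comp ψ) := by
    unfold uu
    rw [map_sub, map_mul, pc_cvi, pc_cvi, pc_cv, ← AlgHom.comp_assoc, ← AlgHom.comp_assoc,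
      ← AlgHom.comp_assoc, I6, I5]
  have husmall : Small (K.map (algebraMap R (A ⊗[R] A))) (uu ψ) := by
    rw [uu_eq]
    exact (hδ.mul_left _).mul_right _
  have hz : pc (d₂ R A) (del ψ) * pc (d₀ R A) (uu ψ) = 0 :=
    Small.mul_eq_zero (hδ.pc (d₂ R A) (fun x hx => algHom_mem_map' K _ hx))
      (husmall.pc (d₀ R A) (fun x hx => algHom_mem_map' K _ hx)) (map_mul_map_eq_bot K hK)
  have h3 : pc (d₂ R A) (del ψ) * cvi ((q₃ R A).comp ψ) =
      pc (d₂ R A) (theta ψ) * cv (((d₃ R A).comp (p₂ R A)).comp ψ) := by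
    rw [hth2, mul_assoc]
    rw [hu, mul_sub] at hz
    exact sub_eq_zero.mp hz
  have h4 := congrArg (fun f => f * cvi ((q₃ R A).comp ψ)) e1
  simp only [add_mul, mul_assoc] at h4
  rw [cv_mul_cvi, mul_one] at h4
  rw [hth1, hth0, h4, h3]

variable (l : A →ₗ[R] R)

/-- `η = ∫ θ`. -/
noncomputable def eta : WithConv (C →ₗ[R] A) := pl ((intB l A).restrictScalars R) (theta ψ)

theorem pl_pc_d₃ (hl : l 1 = 1) (f : WithConv (C →ₗ[R] A ⊗[R] A)) :
    pl ((intB l (A ⊗[R] A)).restrictScalars R) (pc (d₃ R A) f) = f :=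
  conv_ext fun c => intB_d₃ l hl (f c)

theorem pl_pc_d₁ (f : WithConv (C →ₗ[R] A ⊗[R] A)) :
    pl ((intB l (A ⊗[R] A)).restrictScalars R) (pc (d₁ R A) f) =
      pc (dl R A) (pl ((intB l A).restrictScalars R) f) :=
  conv_ext fun c => intB_d₁ l (f c)

theorem pl_pc_d₀ (f : WithConv (C →ₗ[R] A ⊗[R] A)) :
    pl ((intB l (A ⊗[R] A)).restrictScalars R) (pc (d₀ R A) f) =
      pc (p₂ R A) (pl ((intB l A).restrictScalars R) f) :=
  conv_ext fun c => intB_d₀ l (f c)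

theorem pl_pc_d₂ (hinv : ∀ a, intB l A (comul (R := R) a) = algebraMap R A (l a))
    (f : WithConv (C →ₗ[R] A ⊗[R] A)) :
    pl ((intB l (A ⊗[R] A)).restrictScalars R) (pc (d₂ R A) f) =
      pc (p₁ R A) (pl ((intB l A).restrictScalars R) f) :=
  conv_ext fun c => intB_d₂ l hinv (f c)

theorem d₃_eq_algebraMap (x : A ⊗[R] A) :
    d₃ R A x = algebraMap (A ⊗[R] A) ((A ⊗[R] A) ⊗[R] A) x := by
  rw [Algebra.TensorProduct.algebraMap_apply]
  rfl

theorem F_eq (hK : K * K = ⊥) (hl : l 1 = 1)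
    (hinv : ∀ a, intB l A (comul (R := R) a) = algebraMap R A (l a))
    (hδ : Small (K.map (algebraMap R (A ⊗[R] A))) (del ψ)) :
    del ψ + pc (dl R A) (eta ψ l) =
      cv ((p₁ R A).comp ψ) * pc (p₂ R A) (eta ψ l) +
        pc (p₁ R A) (eta ψ l) * cv ((p₂ R A).comp ψ) := by
  have e3 := congrArg (pl ((intB l (A ⊗[R] A)).restrictScalars R)) (E3 ψ K hK hδ)
  rw [map_add, map_add, pl_pc_d₃ l hl, pl_pc_d₁] at e3
  have h1 : cv (((d₃ R A).comp (p₁ R A)).comp ψ) = pc (d₃ R A) (cv ((p₁ R A).comp ψ)) := rfl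
  have h2 : cv (((d₃ R A).comp (p₂ R A)).comp ψ) = pc (d₃ R A) (cv ((p₂ R A).comp ψ)) := rfl
  rw [h1, h2, pl_mul_left (intB l (A ⊗[R] A)) (d₃ R A) d₃_eq_algebraMap,
    pl_mul_right (intB l (A ⊗[R] A)) (d₃ R A) d₃_eq_algebraMap, pl_pc_d₀, pl_pc_d₂ l hinv] at e3
  exact e3

theorem p₁_eq_algebraMap (x : A) : p₁ R A x = algebraMap A (A ⊗[R] A) x := by
  rw [Algebra.TensorProduct.algebraMap_apply]
  rfl

/-- The main theorem. -/
theorem exists_bialgHom_of_small (hK : K * K = ⊥) (hl : l 1 = 1)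
    (hinv : ∀ a, intB l A (comul (R := R) a) = algebraMap R A (l a))
    (hψ : ∀ c, comul (R := R) (ψ c) -
      TensorProduct.map ψ.toLinearMap ψ.toLinearMap (comul (R := R) c) ∈
        K.map (algebraMap R (A ⊗[R] A))) :
    ∃ φ : C →ₐc[R] A, ∀ c, φ c - ψ c ∈ K.map (algebraMap R A) := by
  have hδ : Small (K.map (algebraMap R (A ⊗[R] A))) (del ψ) := by
    intro c
    rw [del_apply]
    exact hψ c
  have hθ : Small (K.map (algebraMap R (A ⊗[R] A))) (theta ψ) := hδ.mul_right _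
  have hη : Small (K.map (algebraMap R A)) (eta ψ l) :=
    hθ.pl _ (fun x hx => linearMap_mem_map K _ hx)
  -- the averaged map
  obtain ⟨ρ₂, hρ₂⟩ := exists_algHom_cvi ((p₂ R A).comp ψ)
  obtain ⟨ρ, hρ⟩ := exists_algHom_mul ((dl R A).comp ψ) ρ₂
  rw [hρ₂] at hρ
  have hθρ : theta ψ = cv ρ - cv ((p₁ R A).comp ψ) := by
    unfold theta del
    rw [sub_mul, mul_assoc, cv_mul_cvi, mul_one, hρ]
  have hρmem : ∀ c, ρ c - algebraMap A (A ⊗[R] A) (ψ c) ∈ K.map (algebraMap R (A ⊗[R] A)) := by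
    intro c
    have := hθ c
    rw [hθρ] at this
    rw [← p₁_eq_algebraMap]
    exact this
  obtain ⟨ψ', hψ'⟩ := algHom_of_avg K hK (intB l A) (by
    rw [Algebra.TensorProduct.one_def, intB_tmul, hl, one_smul]) ρ ψ hρmem
  have hcv : cv ψ' = cv ψ + eta ψ l := by
    apply conv_ext
    intro c
    change ψ' c = ψ c + intB l A (theta ψ c)
    rw [hψ', hθρ]
    change _ = ψ c + intB l A (ρ c - (ψ c) ⊗ₜ[R] (1 : A))
    rw [map_sub, intB_tmul, hl, one_smul]
    ring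
  -- comultiplicativity
  have hcomul : pc (dl R A) (cv ψ') = pc (p₁ R A) (cv ψ') * pc (p₂ R A) (cv ψ') := by
    have hF := F_eq ψ K l hK hl hinv hδ
    have hzero : pc (p₁ R A) (eta ψ l) * pc (p₂ R A) (eta ψ l) = 0 :=
      Small.mul_eq_zero (hη.pc (p₁ R A) (fun x hx => algHom_mem_map' K _ hx))
        (hη.pc (p₂ R A) (fun x hx => algHom_mem_map' K _ hx)) (map_mul_map_eq_bot K hK)
    have hd : cv ((dl R A).comp ψ) = del ψ + cv ((p₁ R A).comp ψ) * cv ((p₂ R A).comp ψ) := by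
      unfold del
      abel
    rw [hcv, map_add, map_add, map_add, pc_cv, pc_cv, pc_cv, hd, add_mul, mul_add, mul_add, hzero]
    rw [add_right_comm, hF]
    abel
  -- counit
  have hcounit : cv ((Bialgebra.counitAlgHom R A).comp ψ') = 1 := by
    have h1 : cv (((epsEps (R := R) (A := A)).comp (dl R A)).comp ψ') =
        cv (((epsEps (R := R) (A := A)).comp (p₁ R A)).comp ψ') *
          cv (((epsEps (R := R) (A := A)).comp (p₂ R A)).comp ψ') := by
      have := congrArg (pc (epsEps (R := R) (A := A))) hcomul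
      rw [map_mul] at this
      exact this
    rw [epsEps_comp_dl, epsEps_comp_p₁, epsEps_comp_p₂] at h1
    have h2 := cv_mul_cvi ((Bialgebra.counitAlgHom R A).comp ψ')
    calc cv ((Bialgebra.counitAlgHom R A).comp ψ')
        = cv ((Bialgebra.counitAlgHom R A).comp ψ') *
            (cv ((Bialgebra.counitAlgHom R A).comp ψ') *
              cvi ((Bialgebra.counitAlgHom R A).comp ψ')) := by rw [h2, mul_one]
      _ = 1 := by rw [← mul_assoc, ← h1, h2]
  refine ⟨BialgHom.ofAlgHom ψ' ?_ ?_, ?_⟩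
  · apply AlgHom.ext
    intro c
    have := congrArg (fun f : WithConv (C →ₗ[R] R) => f c) hcounit
    simpa using this
  · apply AlgHom.ext
    intro c
    have h1 := congrArg (fun f : WithConv (C →ₗ[R] A ⊗[R] A) => f c) hcomul
    have h2 := p_mul_apply (cv ψ') (cv ψ') c
    change comul (R := R) (ψ' c) = _ at h1
    rw [h2] at h1
    change Algebra.TensorProduct.map ψ' ψ' (comul (R := R) c) = comul (R := R) (ψ' c)
    rw [h1]
    rfl
  · intro c
    have h1 := congrArg (fun f : WithConv (C →ₗ[R] A) => f c) hcv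
    change ψ' c = ψ c + eta ψ l c at h1
    change ψ' c - ψ c ∈ _
    rw [h1, add_sub_cancel_left]
    exact hη c

end Core

end Groth.Agent.Lib.R2H7.Coh
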