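import Mathlib
import Groth.Prelude.Def_SGA3b
import Groth.Agent.Lib.R2H7CohA
import Groth.Agent.Lib.R2H7GLGlue
import Groth.Agent.Lib.R2H7FinMult

/-!
# R2H7CohD: invariant integrals on Hopf algebras of multiplicative type

`IsLInt T l` / `IsRInt T l`: `l : A →ₗ[R] T` is a normalized left / right invariant integral with values in
the `R`-algebra `T` (i.e. an integral on `T ⊗ A` over `T`, in relative form).

* `IsLInt.eq_of_isRInt`: a left and a right integral coincide.
* `isLInt_c1`, `isRInt_c1`: the coefficient of `1` on a group algebra.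
* `isLInt_relOf`, `isRInt_relOf`: transport along an isomorphism `T ⊗ A ≃ H`.
* `exists_int_of_faithfullyFlat`, `exists_int_of_span`: descent.
* `exists_int_of_isMultType`: Hopf algebras of multiplicative type have a two-sided integral.
-/

set_option autoImplicit false
universe u

namespace Groth.Agent.Lib.R2H7.Coh

open TensorProduct Coalgebra Groth.Agent.Lib.Helper25 Groth.Agent.Lib.R2H7.GLLift
  Groth.Agent.Lib.R2H7.GLGlue SGA3b

section Defs

variable {R : Type u} [CommRing R] {A : Type u} [CommRing A] [HopfAlgebra R A]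

/-- Normalized left invariant integral with values in `T`. -/
structure IsLInt (T : Type u) [CommRing T] [Algebra R T] (l : A →ₗ[R] T) : Prop where
  one : l 1 = 1
  inv : ∀ a : A, l.lTensor A (comul (R := R) a) = (1 : A) ⊗ₜ[R] l a

/-- Normalized right invariant integral with values in `T`. -/
structure IsRInt (T : Type u) [CommRing T] [Algebra R T] (l : A →ₗ[R] T) : Prop where
  one : l 1 = 1
  inv : ∀ a : A, l.rTensor A (comul (R := R) a) = l a ⊗ₜ[R] (1 : A)

variable {T T' : Type u} [CommRing T] [Algebra R T] [CommRing T'] [Algebra R T']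

theorem IsLInt.eq_of_isRInt {l m : A →ₗ[R] T} (hl : IsLInt T l) (hm : IsRInt T m) : l = m := by
  apply LinearMap.ext
  intro a
  have key : ∀ z : A ⊗[R] A, LinearMap.mul' R T (m.rTensor T (l.lTensor A z)) =
      LinearMap.mul' R T (l.lTensor T (m.rTensor A z)) := by
    intro z
    induction z using TensorProduct.induction_on with
    | zero => simp
    | tmul x y => rfl
    | add a b ha hb => simp only [map_add, ha, hb]
  have h1 := key (comul (R := R) a)
  rw [hl.inv, hm.inv] at h1
  simp only [LinearMap.rTensor_tmul, LinearMap.lTensor_tmul, LinearMap.mul'_apply, hm.one, hl.one,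
    one_mul, mul_one] at h1
  exact h1

theorem IsLInt.comp (g : T →ₐ[R] T') {l : A →ₗ[R] T} (hl : IsLInt T l) :
    IsLInt T' (g.toLinearMap ∘ₗ l) where
  one := by
    change g (l 1) = 1
    rw [hl.one, map_one]
  inv a := by
    rw [LinearMap.lTensor_comp, LinearMap.comp_apply, hl.inv]
    rfl

theorem IsRInt.comp (g : T →ₐ[R] T') {l : A →ₗ[R] T} (hl : IsRInt T l) :
    IsRInt T' (g.toLinearMap ∘ₗ l) where
  one := by
    change g (l 1) = 1
    rw [hl.one, map_one]
  inv a := by
    rw [LinearMap.rTensor_comp, LinearMap.comp_apply, hl.inv]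
    rfl

theorem intB_eq_rid (l : A →ₗ[R] R) (z : A ⊗[R] A) :
    intB l A z = TensorProduct.rid R A (l.lTensor A z) := by
  induction z using TensorProduct.induction_on with
  | zero => simp
  | tmul x y => rfl
  | add a b ha hb => simp only [map_add, ha, hb]

theorem IsLInt.hinv {l : A →ₗ[R] R} (hl : IsLInt R l) (a : A) :
    intB l A (comul (R := R) a) = algebraMap R A (l a) := by
  rw [intB_eq_rid, hl.inv, TensorProduct.rid_tmul, Algebra.algebraMap_eq_smul_one]

end Defs

section Diag

variable (T : Type u) [CommRing T] (M : Type u) [CommGroup M]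

/-- The coefficient of `1`. -/
noncomputable def c1 : MonoidAlgebra T M →ₗ[T] T :=
  Finsupp.lapply 1 ∘ₗ (MonoidAlgebra.coeffLinearEquiv T).toLinearMap

theorem c1_apply (x : MonoidAlgebra T M) : c1 T M x = x.coeff 1 := rfl

theorem c1_single (m : M) (a : T) [Decidable (m = 1)] :
    c1 T M (MonoidAlgebra.single m a) = if m = 1 then a else 0 := by
  classical
  rw [c1_apply, MonoidAlgebra.coeff_single, Finsupp.single_apply]

theorem isLInt_c1 : IsLInt (R := T) (A := MonoidAlgebra T M) T (c1 T M) where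
  one := by
    classical
    rw [MonoidAlgebra.one_def, c1_single, if_pos rfl]
  inv x := by
    classical
    induction x using MonoidAlgebra.induction_linear with
    | zero => simp
    | add x y hx hy => rw [map_add, map_add, hx, hy, map_add, TensorProduct.tmul_add]
    | single m a =>
      rw [comul_single', map_smul, LinearMap.lTensor_tmul, c1_single, c1_single]
      by_cases hm : m = 1
      · subst hm
        rw [if_pos rfl, if_pos rfl, ← MonoidAlgebra.one_def, ← TensorProduct.tmul_smul, smul_eq_mul,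
          mul_one]
      · rw [if_neg hm, if_neg hm, TensorProduct.tmul_zero, smul_zero, TensorProduct.tmul_zero]

theorem isRInt_c1 : IsRInt (R := T) (A := MonoidAlgebra T M) T (c1 T M) where
  one := by
    classical
    rw [MonoidAlgebra.one_def, c1_single, if_pos rfl]
  inv x := by
    classical
    induction x using MonoidAlgebra.induction_linear with
    | zero => simp
    | add x y hx hy => rw [map_add, map_add, hx, hy, map_add, TensorProduct.add_tmul]
    | single m a =>
      rw [comul_single', map_smul, LinearMap.rTensor_tmul, c1_single, c1_single]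
      by_cases hm : m = 1
      · subst hm
        rw [if_pos rfl, if_pos rfl, ← MonoidAlgebra.one_def, TensorProduct.smul_tmul', smul_eq_mul,
          mul_one]
      · rw [if_neg hm, if_neg hm, TensorProduct.zero_tmul, smul_zero, TensorProduct.zero_tmul]

end Diag

section Rel

variable {R : Type u} [CommRing R] {A : Type u} [CommRing A] [HopfAlgebra R A]
variable {T : Type u} [CommRing T] [Algebra R T] {H : Type u} [CommRing H] [HopfAlgebra T H]
variable (e : T ⊗[R] A ≃ₐc[T] H) (Λ : H →ₗ[T] T)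

/-- The relative functional `a ↦ Λ (e (1 ⊗ a))`. -/
noncomputable def relOf : A →ₗ[R] T where
  toFun a := Λ (e ((1 : T) ⊗ₜ[R] a))
  map_add' a b := by rw [TensorProduct.tmul_add, map_add, map_add]
  map_smul' r a := by
    rw [TensorProduct.tmul_smul, ← algebraMap_smul T r ((1 : T) ⊗ₜ[R] a), map_smul, map_smul,
      algebraMap_smul]
    rfl

theorem relOf_apply (a : A) : relOf e Λ a = Λ (e ((1 : T) ⊗ₜ[R] a)) := rfl

theorem isLInt_relOf (h : IsLInt (R := T) (A := H) T Λ) : IsLInt T (relOf e Λ) where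
  one := by
    rw [relOf_apply]
    rw [show ((1 : T) ⊗ₜ[R] (1 : A)) = 1 from rfl, map_one, h.one]
  inv a := by
    have key : ∀ z : A ⊗[R] A,
        TensorProduct.comm R T A (e.symm (TensorProduct.rid T H (Λ.lTensor H
          (TensorProduct.map (e : T ⊗[R] A →ₗ[T] H) (e : T ⊗[R] A →ₗ[T] H) (bcMap2 T A z))))) =
        (relOf e Λ).lTensor A z := by
      intro z
      induction z using TensorProduct.induction_on with
      | zero => simp
      | tmul x y =>
        rw [bcMap2_tmul, TensorProduct.map_tmul, LinearMap.lTensor_tmul, TensorProduct.rid_tmul,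
          LinearMap.lTensor_tmul]
        change TensorProduct.comm R T A (e.symm (Λ (e ((1 : T) ⊗ₜ[R] y)) • e ((1 : T) ⊗ₜ[R] x))) = _
        rw [map_smul, BialgEquiv.symm_apply_apply, TensorProduct.smul_tmul', smul_eq_mul, mul_one,
          TensorProduct.comm_tmul]
        rfl
      | add a b ha hb => simp only [map_add, ha, hb]
    rw [← key, ← comul_one_tmul]
    have h2 : TensorProduct.map (e : T ⊗[R] A →ₗ[T] H) (e : T ⊗[R] A →ₗ[T] H)
        (comul (R := T) ((1 : T) ⊗ₜ[R] a)) = comul (R := T) (e ((1 : T) ⊗ₜ[R] a)) :=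
      CoalgHomClass.map_comp_comul_apply e ((1 : T) ⊗ₜ[R] a)
    rw [h2, h.inv, TensorProduct.rid_tmul, map_smul, map_one, relOf_apply,
      Algebra.TensorProduct.one_def, TensorProduct.smul_tmul', smul_eq_mul, mul_one,
      TensorProduct.comm_tmul]

theorem isRInt_relOf (h : IsRInt (R := T) (A := H) T Λ) : IsRInt T (relOf e Λ) where
  one := by
    rw [relOf_apply]
    rw [show ((1 : T) ⊗ₜ[R] (1 : A)) = 1 from rfl, map_one, h.one]
  inv a := by
    have key : ∀ z : A ⊗[R] A,
        e.symm (TensorProduct.lid T H (Λ.rTensor H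
          (TensorProduct.map (e : T ⊗[R] A →ₗ[T] H) (e : T ⊗[R] A →ₗ[T] H) (bcMap2 T A z)))) =
        (relOf e Λ).rTensor A z := by
      intro z
      induction z using TensorProduct.induction_on with
      | zero => simp
      | tmul x y =>
        rw [bcMap2_tmul, TensorProduct.map_tmul, LinearMap.rTensor_tmul, TensorProduct.lid_tmul,
          LinearMap.rTensor_tmul]
        change e.symm (Λ (e ((1 : T) ⊗ₜ[R] x)) • e ((1 : T) ⊗ₜ[R] y)) = _
        rw [map_smul, BialgEquiv.symm_apply_apply, TensorProduct.smul_tmul', smul_eq_mul, mul_one]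
        rfl
      | add a b ha hb => simp only [map_add, ha, hb]
    rw [← key, ← comul_one_tmul]
    have h2 : TensorProduct.map (e : T ⊗[R] A →ₗ[T] H) (e : T ⊗[R] A →ₗ[T] H)
        (comul (R := T) ((1 : T) ⊗ₜ[R] a)) = comul (R := T) (e ((1 : T) ⊗ₜ[R] a)) :=
      CoalgHomClass.map_comp_comul_apply e ((1 : T) ⊗ₜ[R] a)
    rw [h2, h.inv, TensorProduct.lid_tmul, map_smul, map_one, relOf_apply,
      Algebra.TensorProduct.one_def, TensorProduct.smul_tmul', smul_eq_mul, mul_one]

end Rel

section Detect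

variable {R : Type u} [CommRing R] {A : Type u} [CommRing A] [HopfAlgebra R A]

theorem one_tmul_eq {T : Type u} [CommRing T] [Algebra R T] (r : R) :
    (1 : T) ⊗ₜ[R] r = (algebraMap R T r) ⊗ₜ[R] (1 : R) := by
  rw [Algebra.algebraMap_eq_smul_one, TensorProduct.smul_tmul, smul_eq_mul, mul_one]

theorem isLInt_of_detect {ι : Type*} (T : ι → Type u) [∀ i, CommRing (T i)] [∀ i, Algebra R (T i)]
    (det : ∀ (N : Type u) [AddCommGroup N] [Module R N] (z : N),
      (∀ i, (1 : T i) ⊗ₜ[R] z = 0) → z = 0)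
    (l : A →ₗ[R] R) (li : ∀ i, A →ₗ[R] T i) (hli : ∀ i, IsLInt (T i) (li i))
    (hc : ∀ i a, algebraMap R (T i) (l a) = li i a) : IsLInt R l where
  one := by
    rw [← sub_eq_zero]
    apply det R
    intro i
    rw [one_tmul_eq, map_sub, hc, (hli i).one, map_one, sub_self, TensorProduct.zero_tmul]
  inv a := by
    rw [← sub_eq_zero]
    apply det (A ⊗[R] R)
    intro i
    let κ : T i ⊗[R] (A ⊗[R] R) ≃ₗ[R] A ⊗[R] T i :=
      (LinearEquiv.lTensor (T i) (TensorProduct.rid R A)).trans (TensorProduct.comm R (T i) A)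
    have key : ∀ z : A ⊗[R] A, κ ((1 : T i) ⊗ₜ[R] l.lTensor A z) = (li i).lTensor A z := by
      intro z
      induction z using TensorProduct.induction_on with
      | zero => simp
      | tmul x y =>
        change TensorProduct.comm R (T i) A ((1 : T i) ⊗ₜ[R] (l y • x)) = x ⊗ₜ[R] li i y
        rw [TensorProduct.comm_tmul, TensorProduct.smul_tmul, ← hc,
          Algebra.algebraMap_eq_smul_one]
      | add a b ha hb => simp only [map_add, TensorProduct.tmul_add, ha, hb]
    have h1 : κ ((1 : T i) ⊗ₜ[R] ((1 : A) ⊗ₜ[R] l a)) = (1 : A) ⊗ₜ[R] li i a := by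
      change TensorProduct.comm R (T i) A ((1 : T i) ⊗ₜ[R] (l a • (1 : A))) = _
      rw [TensorProduct.comm_tmul, TensorProduct.smul_tmul, ← hc, Algebra.algebraMap_eq_smul_one]
    rw [← κ.map_eq_zero_iff, TensorProduct.tmul_sub, map_sub, key, h1, (hli i).inv, sub_self]

theorem isRInt_of_detect {ι : Type*} (T : ι → Type u) [∀ i, CommRing (T i)] [∀ i, Algebra R (T i)]
    (det : ∀ (N : Type u) [AddCommGroup N] [Module R N] (z : N),
      (∀ i, (1 : T i) ⊗ₜ[R] z = 0) → z = 0)
    (l : A →ₗ[R] R) (li : ∀ i, A →ₗ[R] T i) (hli : ∀ i, IsRInt (T i) (li i))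
    (hc : ∀ i a, algebraMap R (T i) (l a) = li i a) : IsRInt R l where
  one := by
    rw [← sub_eq_zero]
    apply det R
    intro i
    rw [one_tmul_eq, map_sub, hc, (hli i).one, map_one, sub_self, TensorProduct.zero_tmul]
  inv a := by
    rw [← sub_eq_zero]
    apply det (R ⊗[R] A)
    intro i
    let κ : T i ⊗[R] (R ⊗[R] A) ≃ₗ[R] T i ⊗[R] A :=
      LinearEquiv.lTensor (T i) (TensorProduct.lid R A)
    have key : ∀ z : A ⊗[R] A, κ ((1 : T i) ⊗ₜ[R] l.rTensor A z) = (li i).rTensor A z := by
      intro z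
      induction z using TensorProduct.induction_on with
      | zero => simp
      | tmul x y =>
        change (1 : T i) ⊗ₜ[R] (l x • y) = li i x ⊗ₜ[R] y
        rw [← TensorProduct.smul_tmul, ← hc, Algebra.algebraMap_eq_smul_one]
      | add a b ha hb => simp only [map_add, TensorProduct.tmul_add, ha, hb]
    have h1 : κ ((1 : T i) ⊗ₜ[R] (l a ⊗ₜ[R] (1 : A))) = li i a ⊗ₜ[R] (1 : A) := by
      change (1 : T i) ⊗ₜ[R] (l a • (1 : A)) = _
      rw [← TensorProduct.smul_tmul, ← hc, Algebra.algebraMap_eq_smul_one]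
    rw [← κ.map_eq_zero_iff, TensorProduct.tmul_sub, map_sub, key, h1, (hli i).inv, sub_self]

end Detect

section Descent

variable {R : Type u} [CommRing R] {A : Type u} [CommRing A] [HopfAlgebra R A]

theorem exists_int_of_faithfullyFlat (T : Type u) [CommRing T] [Algebra R T]
    [Module.FaithfullyFlat R T] (l : A →ₗ[R] T) (hl : IsLInt T l) (hr : IsRInt T l) :
    ∃ l₀ : A →ₗ[R] R, IsLInt R l₀ ∧ IsRInt R l₀ := by
  have h12 : (Algebra.TensorProduct.includeLeft : T →ₐ[R] T ⊗[R] T).toLinearMap ∘ₗ l =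
      (Algebra.TensorProduct.includeRight : T →ₐ[R] T ⊗[R] T).toLinearMap ∘ₗ l :=
    (hl.comp _).eq_of_isRInt (hr.comp _)
  let g : A →ₗ[R] T ⊗[R] R := (TensorProduct.mk R T R).flip 1 ∘ₗ l
  let f : T ⊗[R] A →ₗ[T] T ⊗[R] R := LinearMap.liftBaseChange T g
  have hf : ∀ a : A, f ((1 : T) ⊗ₜ[R] a) = l a ⊗ₜ[R] (1 : R) := by
    intro a
    change LinearMap.liftBaseChange T g ((1 : T) ⊗ₜ[R] a) = _
    rw [LinearMap.liftBaseChange_tmul, one_smul]
    rfl
  obtain ⟨l₀, hl₀, -⟩ := Groth.Agent.Lib.Helper22.existsUnique_baseChange_eq (R := R) (A := T) A R f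
    (fun a => by
      rw [hf, LinearMap.rTensor_tmul, LinearMap.rTensor_tmul]
      have := LinearMap.congr_fun h12 a
      change (Algebra.TensorProduct.includeLeft : T →ₐ[R] T ⊗[R] T) (l a) =
        (Algebra.TensorProduct.includeRight : T →ₐ[R] T ⊗[R] T) (l a) at this
      change (Algebra.TensorProduct.includeLeft : T →ₐ[R] T ⊗[R] T) (l a) ⊗ₜ[R] (1 : R) =
        (Algebra.TensorProduct.includeRight : T →ₐ[R] T ⊗[R] T) (l a) ⊗ₜ[R] (1 : R)
      rw [this])
  have hc : ∀ a, algebraMap R T (l₀ a) = l a := by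
    intro a
    have h1 : (l₀.baseChange T) ((1 : T) ⊗ₜ[R] a) = f ((1 : T) ⊗ₜ[R] a) := by rw [hl₀]
    rw [LinearMap.baseChange_tmul, hf] at h1
    have h2 := congrArg (TensorProduct.rid R T) h1
    rw [TensorProduct.rid_tmul, TensorProduct.rid_tmul, one_smul] at h2
    rw [Algebra.algebraMap_eq_smul_one, h2]
  have det : ∀ (N : Type u) [AddCommGroup N] [Module R N] (z : N),
      (∀ _ : PUnit.{1}, (1 : T) ⊗ₜ[R] z = 0) → z = 0 :=
    fun N _ _ z hz => (Module.FaithfullyFlat.one_tmul_eq_zero_iff R _ z).mp (hz PUnit.unit)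
  exact ⟨l₀, isLInt_of_detect (fun _ : PUnit.{1} => T) det l₀ (fun _ => l) (fun _ => hl)
      (fun _ a => hc a),
    isRInt_of_detect (fun _ : PUnit.{1} => T) det l₀ (fun _ => l) (fun _ => hr) (fun _ a => hc a)⟩

theorem exists_int_of_span (s : Set R) (hs : Ideal.span s = ⊤)
    (h : ∀ f ∈ s, ∃ l : A →ₗ[R] Localization.Away f,
      IsLInt (Localization.Away f) l ∧ IsRInt (Localization.Away f) l) :
    ∃ l₀ : A →ₗ[R] R, IsLInt R l₀ ∧ IsRInt R l₀ := by
  classical
  obtain ⟨t, hts, ht⟩ := (Ideal.span_eq_top_iff_finite s).mp hs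
  have h' : ∀ f : R, ∃ l : A →ₗ[R] Localization.Away f,
      f ∈ t → (IsLInt (Localization.Away f) l ∧ IsRInt (Localization.Away f) l) := by
    intro f
    by_cases hf : f ∈ t
    · obtain ⟨l, hl⟩ := h f (hts hf)
      exact ⟨l, fun _ => hl⟩
    · exact ⟨0, fun h => absurd h hf⟩
  choose lf hlf using h'
  have hex : ∀ a : A, ∃ y : R, ∀ f ∈ t,
      (1 : Localization.Away f) ⊗ₜ[R] y = lf f a ⊗ₜ[R] (1 : R) := by
    intro a
    apply exists_glue R t ht (fun f => lf f a ⊗ₜ[R] (1 : R))
    intro f hf f' hf'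
    rw [LinearMap.rTensor_tmul, LinearMap.rTensor_tmul]
    have h1 := ((hlf f hf).1.comp (awayL f f')).eq_of_isRInt ((hlf f' hf').2.comp (awayR f f'))
    have h2 := LinearMap.congr_fun h1 a
    change (awayL f f') (lf f a) = (awayR f f') (lf f' a) at h2
    change (awayL f f') (lf f a) ⊗ₜ[R] (1 : R) = (awayR f f') (lf f' a) ⊗ₜ[R] (1 : R)
    rw [h2]
  choose y hy using hex
  have hyc : ∀ a, ∀ f ∈ t, algebraMap R (Localization.Away f) (y a) = lf f a := by
    intro a f hf
    have h2 := congrArg (TensorProduct.rid R (Localization.Away f)) (hy a f hf)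
    rw [TensorProduct.rid_tmul, TensorProduct.rid_tmul, one_smul] at h2
    rw [Algebra.algebraMap_eq_smul_one, h2]
  have det : ∀ (N : Type u) [AddCommGroup N] [Module R N] (z : N),
      (∀ f : t, (1 : Localization.Away f.1) ⊗ₜ[R] z = 0) → z = 0 :=
    fun N _ _ z hz => Groth.Agent.Lib.R2H7.FinMult.eq_zero_of_span (t : Set R) ht z
      (fun r hr => hz ⟨r, hr⟩)
  have hadd : ∀ a b, y (a + b) = y a + y b := by
    intro a b
    rw [← sub_eq_zero]
    apply det R
    intro f
    rw [one_tmul_eq, map_sub, map_add, hyc _ _ f.2, hyc _ _ f.2, hyc _ _ f.2, map_add, sub_self,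
      TensorProduct.zero_tmul]
  have hsmul : ∀ (r : R) a, y (r • a) = r • y a := by
    intro r a
    rw [← sub_eq_zero]
    apply det R
    intro f
    rw [one_tmul_eq, map_sub, smul_eq_mul, map_mul, hyc _ _ f.2, hyc _ _ f.2, map_smul,
      Algebra.smul_def, sub_self, TensorProduct.zero_tmul]
  let l₀ : A →ₗ[R] R := { toFun := y, map_add' := hadd, map_smul' := hsmul }
  exact ⟨l₀, isLInt_of_detect (fun f : t => Localization.Away f.1) det l₀ (fun f => lf f.1)
      (fun f => (hlf f.1 f.2).1) (fun f a => hyc a f.1 f.2),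
    isRInt_of_detect (fun f : t => Localization.Away f.1) det l₀ (fun f => lf f.1)
      (fun f => (hlf f.1 f.2).2) (fun f a => hyc a f.1 f.2)⟩

theorem exists_int_of_isMultTypeConst (h : IsMultTypeConst R A) :
    ∃ l : A →ₗ[R] R, IsLInt R l ∧ IsRInt R l := by
  obtain ⟨R', _, _, hff, M, _, ⟨e⟩⟩ := h
  exact exists_int_of_faithfullyFlat R' (relOf e (c1 R' M)) (isLInt_relOf e _ (isLInt_c1 R' M))
    (isRInt_relOf e _ (isRInt_c1 R' M))

/-- Hopf algebras of multiplicative type have a normalized two-sided invariant integral. -/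
theorem exists_int_of_isMultType (h : IsMultType R A) :
    ∃ l : A →ₗ[R] R, IsLInt R l ∧ IsRInt R l := by
  obtain ⟨s, hs, hmt⟩ := h
  apply exists_int_of_span s hs
  intro f hf
  obtain ⟨l, hl, hr⟩ := exists_int_of_isMultTypeConst (hmt f hf)
  exact ⟨relOf (BialgEquiv.refl _ _) l, isLInt_relOf _ _ hl, isRInt_relOf _ _ hr⟩

end Descent

end Groth.Agent.Lib.R2H7.Coh
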