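import Mathlib
import Groth.Prelude.Def_SGA3b
import Groth.Agent.Lib.R2H7CohC
import Groth.Agent.Lib.R2H7CohD
import Groth.Agent.Lib.Helper10Tensor
import Groth.Agent.Lib.R2H7HomLift4
import Groth.Agent.Lib.R2H7IsoNil

/-!
# R2H7CohE: lifting homomorphisms from groups of multiplicative type to smooth affine groups

* `lift_sqzero`: along a surjection `R → S` with square-zero kernel.
* `lift_nilp`: along a surjection `R → S` with nilpotent kernel.
-/

set_option autoImplicit false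
universe u

namespace Groth.Agent.Lib.R2H7.Coh

open TensorProduct Coalgebra Groth.Agent.Lib.Helper25 Groth.Agent.Lib.R2H7.GLLift
  Groth.Agent.Lib.R2H7.GLGlue SGA3b

section SqZero

variable {R : Type u} [CommRing R] (S : Type u) [CommRing S] [Algebra R S]
  {A : Type u} [CommRing A] [HopfAlgebra R A] {C : Type u} [CommRing C] [HopfAlgebra R C]

theorem mem_map_of_one_tmul_eq_zero (hsurj : Function.Surjective (algebraMap R S))
    {B : Type u} [CommRing B] [Algebra R B] (x : B) (h : (1 : S) ⊗ₜ[R] x = 0) :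
    x ∈ (RingHom.ker (algebraMap R S)).map (algebraMap R B) := by
  have h1 := (Groth.Agent.Lib.Helper10.one_tmul_eq_zero_iff_of_surjective hsurj x).mp h
  rw [Ideal.smul_top_eq_map] at h1
  exact h1

theorem one_tmul_eq_zero_of_mem_map (hsurj : Function.Surjective (algebraMap R S))
    {B : Type u} [CommRing B] [Algebra R B] (x : B)
    (h : x ∈ (RingHom.ker (algebraMap R S)).map (algebraMap R B)) : (1 : S) ⊗ₜ[R] x = 0 := by
  apply (Groth.Agent.Lib.Helper10.one_tmul_eq_zero_iff_of_surjective hsurj x).mpr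
  rw [Ideal.smul_top_eq_map]
  exact h

theorem bcMap2_map (φ₀ : S ⊗[R] C →ₐc[S] S ⊗[R] A) (ψ : C →ₐ[R] A)
    (hψ : ∀ c, (1 : S) ⊗ₜ[R] ψ c = φ₀ ((1 : S) ⊗ₜ[R] c)) (w : C ⊗[R] C) :
    bcMap2 (R := R) S A (TensorProduct.map ψ.toLinearMap ψ.toLinearMap w) =
      TensorProduct.map (φ₀ : S ⊗[R] C →ₗ[S] S ⊗[R] A) (φ₀ : S ⊗[R] C →ₗ[S] S ⊗[R] A)
        (bcMap2 (R := R) S C w) := by
  induction w using TensorProduct.induction_on with
  | zero => simp
  | tmul a b =>
    rw [TensorProduct.map_tmul, bcMap2_tmul, bcMap2_tmul, TensorProduct.map_tmul]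
    change _ = (φ₀ ((1 : S) ⊗ₜ[R] a)) ⊗ₜ[S] (φ₀ ((1 : S) ⊗ₜ[R] b))
    rw [← hψ, ← hψ]
    rfl
  | add x y hx hy => rw [map_add, map_add, hx, hy, map_add, map_add]

/-- Lifting along a square-zero extension. -/
theorem lift_sqzero (hsurj : Function.Surjective (algebraMap R S))
    (hK : RingHom.ker (algebraMap R S) * RingHom.ker (algebraMap R S) = ⊥)
    (hA : IsMultType R A) [Algebra.FormallySmooth R C]
    (φ₀ : S ⊗[R] C →ₐc[S] S ⊗[R] A) :
    ∃ φ : C →ₐc[R] A, ∀ c, φ₀ ((1 : S) ⊗ₜ[R] c) = (1 : S) ⊗ₜ[R] φ c := by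
  obtain ⟨l, hl, -⟩ := exists_int_of_isMultType hA
  let g : A →ₐ[R] S ⊗[R] A := Algebra.TensorProduct.includeRight
  have hg : Function.Surjective g := fun t => by
    obtain ⟨m, hm⟩ := Groth.Agent.Lib.Helper10.exists_one_tmul_eq_of_surjective hsurj t
    exact ⟨m, hm⟩
  have hkerg : RingHom.ker (g : A →+* S ⊗[R] A) =
      (RingHom.ker (algebraMap R S)).map (algebraMap R A) := by
    ext x
    rw [RingHom.mem_ker]
    constructor
    · intro h
      exact mem_map_of_one_tmul_eq_zero S hsurj x h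
    · intro h
      exact one_tmul_eq_zero_of_mem_map S hsurj x h
  have hnil : IsNilpotent (RingHom.ker (g : A →+* S ⊗[R] A)) := by
    refine ⟨2, ?_⟩
    rw [hkerg, pow_two, map_mul_map_eq_bot _ hK]
    rfl
  let f : C →ₐ[R] S ⊗[R] A :=
    ((φ₀ : S ⊗[R] C →ₐ[S] S ⊗[R] A).restrictScalars R).comp Algebra.TensorProduct.includeRight
  let ψ : C →ₐ[R] A := Algebra.FormallySmooth.liftOfSurjective f g hg hnil
  have hψ : ∀ c, (1 : S) ⊗ₜ[R] ψ c = φ₀ ((1 : S) ⊗ₜ[R] c) := fun c =>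
    Algebra.FormallySmooth.liftOfSurjective_apply f g hg hnil c
  have hψcomul : ∀ c, comul (R := R) (ψ c) -
      TensorProduct.map ψ.toLinearMap ψ.toLinearMap (comul (R := R) c) ∈
        (RingHom.ker (algebraMap R S)).map (algebraMap R (A ⊗[R] A)) := by
    intro c
    apply mem_map_of_one_tmul_eq_zero S hsurj
    apply one_tmul_eq_zero_of_bcMap2 S
    rw [map_sub, bcMap2_map S φ₀ ψ hψ, ← comul_one_tmul, ← comul_one_tmul, hψ]
    have h2 := CoalgHomClass.map_comp_comul_apply φ₀ ((1 : S) ⊗ₜ[R] c)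
    rw [sub_eq_zero]
    exact h2.symm
  obtain ⟨φ, hφ⟩ := exists_bialgHom_of_small ψ _ l hK hl.one hl.hinv hψcomul
  refine ⟨φ, fun c => ?_⟩
  rw [← hψ, ← sub_eq_zero, ← TensorProduct.tmul_sub]
  apply one_tmul_eq_zero_of_mem_map S hsurj
  have := hφ c
  rw [← neg_sub]
  exact neg_mem this

end SqZero

section Nilp

theorem lift_nilp_aux (n : ℕ) : ∀ (R : Type u) [CommRing R] (S : Type u) [CommRing S] [Algebra R S],
    Function.Surjective (algebraMap R S) → (RingHom.ker (algebraMap R S)) ^ n = ⊥ →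
    ∀ (A : Type u) [CommRing A] [HopfAlgebra R A], IsMultType R A →
    ∀ (C : Type u) [CommRing C] [HopfAlgebra R C] [Algebra.FormallySmooth R C]
      (φ₀ : S ⊗[R] C →ₐc[S] S ⊗[R] A),
      ∃ φ : C →ₐc[R] A, ∀ c, φ₀ ((1 : S) ⊗ₜ[R] c) = (1 : S) ⊗ₜ[R] φ c := by
  induction n with
  | zero =>
    intro R _ S _ _ hsurj hn A _ _ hA C _ _ _ φ₀
    apply lift_sqzero S hsurj _ hA φ₀
    rw [pow_zero, Ideal.one_eq_top] at hn
    rw [← le_bot_iff, ← hn]
    exact le_top
  | succ n ih =>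
    intro R _ S _ _ hsurj hn A _ _ hA C _ _ _ φ₀
    by_cases hn2 : n + 1 ≤ 2
    · apply lift_sqzero S hsurj _ hA φ₀
      rw [← le_bot_iff, ← hn, ← pow_two]
      exact Ideal.pow_le_pow_right hn2
    · have hn1 : 2 ≤ n := by omega
      set K := RingHom.ker (algebraMap R S) with hKdef
      let J : Ideal R := K ^ n
      have hJK : J ≤ K := Ideal.pow_le_self (by omega)
      have hJJ : J * J = ⊥ := by
        rw [← le_bot_iff, ← hn, ← pow_add]
        exact Ideal.pow_le_pow_right (by omega)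
      letI algS : Algebra (R ⧸ J) S :=
        (Ideal.Quotient.lift J (algebraMap R S) (fun x hx => hJK hx)).toAlgebra
      haveI : IsScalarTower R (R ⧸ J) S := IsScalarTower.of_algebraMap_eq (fun r => rfl)
      have hsurj' : Function.Surjective (algebraMap (R ⧸ J) S) := by
        intro s
        obtain ⟨r, rfl⟩ := hsurj s
        exact ⟨Ideal.Quotient.mk J r, rfl⟩
      have hker' : (RingHom.ker (algebraMap (R ⧸ J) S)) ^ n = ⊥ := by
        have h1 : RingHom.ker (algebraMap (R ⧸ J) S) ≤ K.map (Ideal.Quotient.mk J) := by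
          intro x hx
          obtain ⟨r, rfl⟩ := Ideal.Quotient.mk_surjective x
          have hr : r ∈ K := by
            rw [hKdef, RingHom.mem_ker]
            exact hx
          exact Ideal.mem_map_of_mem _ hr
        rw [← le_bot_iff]
        calc (RingHom.ker (algebraMap (R ⧸ J) S)) ^ n
            ≤ (K.map (Ideal.Quotient.mk J)) ^ n := Ideal.pow_right_mono h1 n
          _ = (K ^ n).map (Ideal.Quotient.mk J) := (Ideal.map_pow _ _ _).symm
          _ = ⊥ := Ideal.map_quotient_self J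
      have hA' : IsMultType (R ⧸ J) ((R ⧸ J) ⊗[R] A) :=
        Groth.Agent.Lib.R2H7.IsoNil.isMultType_baseChange (R ⧸ J) hA
      obtain ⟨φ', hφ'⟩ := ih (R ⧸ J) S hsurj' hker' ((R ⧸ J) ⊗[R] A) hA' ((R ⧸ J) ⊗[R] C)
        (Groth.Agent.Lib.R2H7.HomLift.toAbs (X := R ⧸ J) S φ₀)
      have hkerJ : RingHom.ker (algebraMap R (R ⧸ J)) = J := by
        rw [Ideal.Quotient.algebraMap_eq, Ideal.mk_ker]
      obtain ⟨φ, hφ⟩ := lift_sqzero (R ⧸ J) (by
          rw [Ideal.Quotient.algebraMap_eq]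
          exact Ideal.Quotient.mk_surjective) (by rw [hkerJ]; exact hJJ) hA φ'
      refine ⟨φ, fun c => ?_⟩
      have h1 := hφ' ((1 : R ⧸ J) ⊗ₜ[R] c)
      rw [Groth.Agent.Lib.R2H7.HomLift.toAbs_one_tmul, hφ] at h1
      have h2 := congrArg (BCB.cancelBC R (R ⧸ J) S A) h1
      rw [BialgEquiv.apply_symm_apply, BCB.cancelBC_tmul, one_smul] at h2
      exact h2

/-- Lifting homomorphisms from a group of multiplicative type to a smooth affine group along a
nilpotent thickening. -/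
theorem lift_nilp {R : Type u} [CommRing R] (S : Type u) [CommRing S] [Algebra R S]
    (hsurj : Function.Surjective (algebraMap R S))
    (hnil : IsNilpotent (RingHom.ker (algebraMap R S)))
    {A : Type u} [CommRing A] [HopfAlgebra R A] (hA : IsMultType R A)
    {C : Type u} [CommRing C] [HopfAlgebra R C] [Algebra.FormallySmooth R C]
    (φ₀ : S ⊗[R] C →ₐc[S] S ⊗[R] A) :
    ∃ φ : C →ₐc[R] A, ∀ c, φ₀ ((1 : S) ⊗ₜ[R] c) = (1 : S) ⊗ₜ[R] φ c := by
  obtain ⟨n, hn⟩ := hnil
  exact lift_nilp_aux n R S hsurj hn A hA C φ₀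

end Nilp

end Groth.Agent.Lib.R2H7.Coh
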