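import Mathlib
import Groth.Prelude.Def_SGA3b
import Groth.Agent.Lib.R2H7CohE
import Groth.Agent.Lib.R2H7HomLift6

/-!
# R2H7CohF: lifting homomorphisms to a complete noetherian base (SGA3 IX 7.1, smooth affine target)

* `lift_rel`: relative form of `lift_nilp` (levels `X → Y` over a base `A`).
* `exists_hom_of_system`: a compatible system of homomorphisms over the `A ⧸ I ^ (n + 1)` comes from a
  homomorphism over `A` (`A` noetherian `I`-adically complete, `B` isotrivial).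
* `exists_hom_complete`: `B` isotrivial, `C` smooth: every homomorphism modulo `I` lifts.
-/

set_option autoImplicit false
universe u

namespace Groth.Agent.Lib.R2H7.Coh

open TensorProduct Coalgebra SGA3b Groth.Agent.Lib.Helper25 Groth.Agent.Lib.R2H7.GLLift
  Groth.Agent.Lib.R2H7.GLGlue Groth.Agent.Lib.R2H7.HomLift

section Rel

variable {A : Type u} [CommRing A] {X Y : Type u} [CommRing X] [CommRing Y] [Algebra A X]
  [Algebra A Y] {B : Type u} [CommRing B] [HopfAlgebra A B] {C : Type u} [CommRing C]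
  [HopfAlgebra A C]

/-- Relative lifting along a nilpotent thickening `X → Y` of `A`-algebras. -/
theorem lift_rel (f : X →ₐ[A] Y) (hf : Function.Surjective f)
    (hnil : IsNilpotent (RingHom.ker (f : X →+* Y))) (hB : IsMultType X (X ⊗[A] B))
    [Algebra.FormallySmooth A C] (Ψ : Y ⊗[A] C →ₐc[Y] Y ⊗[A] B) :
    ∃ Φ : X ⊗[A] C →ₐc[X] X ⊗[A] B, HomLift.pull f Φ = Ψ := by
  letI : Algebra X Y := f.toRingHom.toAlgebra
  haveI : IsScalarTower A X Y := IsScalarTower.of_algebraMap_eq (fun r => (f.commutes r).symm)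
  obtain ⟨Φ, hΦ⟩ := lift_nilp (R := X) Y hf hnil hB (HomLift.toAbs (X := X) Y Ψ)
  refine ⟨Φ, ?_⟩
  apply HomLift.ext_one_tmul
  intro c
  rw [HomLift.pull_one_tmul]
  have h1 := hΦ ((1 : X) ⊗ₜ[A] c)
  rw [HomLift.toAbs_one_tmul] at h1
  have h2 := congrArg (BCB.cancelBC A X Y B) h1
  rw [BialgEquiv.apply_symm_apply, cancelBC_one_tmul f (fun _ => rfl)] at h2
  exact h2.symm

end Rel

section Exist

variable {A : Type u} [CommRing A] [IsNoetherianRing A] (I : Ideal A) [IsAdicComplete I A]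
  {C B : Type u} [CommRing C] [HopfAlgebra A C] [CommRing B] [HopfAlgebra A B]

set_option maxRecDepth 8000 in
/-- A compatible system of homomorphisms over the levels comes from a homomorphism over `A`. -/
theorem exists_hom_of_system (hG : IsIsotrivial A B)
    (φ₀ : (A ⧸ I) ⊗[A] C →ₐc[A ⧸ I] (A ⧸ I) ⊗[A] B)
    (φ : ∀ n : ℕ, (A ⧸ I ^ (n + 1)) ⊗[A] C →ₐc[A ⧸ I ^ (n + 1)] (A ⧸ I ^ (n + 1)) ⊗[A] B)
    (hcompat : ∀ n : ℕ, pull (Ideal.Quotient.factorₐ A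
      (Ideal.pow_le_pow_right (Nat.le_succ (n + 1)))) (φ (n + 1)) = φ n)
    (hφ0 : IsLiftOf I φ₀ (φ 0)) :
    ∃ ψ : C →ₐc[A] B, ∀ c : C, φ₀ ((1 : A ⧸ I) ⊗ₜ[A] c) = (1 : A ⧸ I) ⊗ₜ[A] (ψ c) := by
  classical
  obtain ⟨S, _, _, -, hfin, hff, M, _, ⟨e⟩⟩ := hG
  -- over `S`
  haveI : IsNoetherianRing S := Algebra.FiniteType.isNoetherianRing A S
  haveI : IsAdicComplete (I.map (algebraMap A S)) S :=
    FormalHom.isAdicComplete_map_of_finite I S
  let Ψ : ∀ n : ℕ, (S ⧸ (I.map (algebraMap A S)) ^ (n + 1)) ⊗[A] C →ₐc[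
      S ⧸ (I.map (algebraMap A S)) ^ (n + 1)] (S ⧸ (I.map (algebraMap A S)) ^ (n + 1)) ⊗[A] B :=
    fun n => pull (levOfId I S n) (φ n)
  have hΨcompat : ∀ n : ℕ, pull ((Ideal.Quotient.factorₐ S
      (Ideal.pow_le_pow_right (Nat.le_succ (n + 1))) :
        S ⧸ (I.map (algebraMap A S)) ^ (n + 1 + 1) →ₐ[S]
          S ⧸ (I.map (algebraMap A S)) ^ (n + 1)).restrictScalars A) (Ψ (n + 1)) = Ψ n := by
    intro n
    change pull _ (pull (levOfId I S (n + 1)) (φ (n + 1))) = pull (levOfId I S n) (φ n)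
    rw [pull_pull, ← hcompat n, pull_pull]
    exact pull_congr (algHom_quot_ext _ _) _
  obtain ⟨Φ', hΦ'⟩ := exists_limit I e Ψ hΨcompat
  -- the cocycle condition
  haveI : IsNoetherianRing (S ⊗[A] S) := Algebra.FiniteType.isNoetherianRing A (S ⊗[A] S)
  haveI : IsAdicComplete (I.map (algebraMap A (S ⊗[A] S))) (S ⊗[A] S) :=
    FormalHom.isAdicComplete_map_of_finite I (S ⊗[A] S)
  have hlevel : ∀ (n : ℕ) (f : S →ₐ[A] S ⊗[A] S),
      pull (Ideal.Quotient.mkₐ A ((I.map (algebraMap A (S ⊗[A] S))) ^ (n + 1))) (pull f Φ') =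
        pull ((lev I f n).comp (levOfId I S n)) (φ n) := by
    intro n f
    rw [pull_pull, ← lev_comp_mk, ← pull_pull, hΦ' n]
    exact pull_pull _ _ _
  have hcoc : pull (Algebra.TensorProduct.includeLeft : S →ₐ[A] S ⊗[A] S) Φ' =
      pull (Algebra.TensorProduct.includeRight : S →ₐ[A] S ⊗[A] S) Φ' := by
    apply eq_of_levels_eq I e
    intro n c
    rw [← pull_one_tmul, ← pull_one_tmul, hlevel, hlevel,
      pull_congr (algHom_quot_ext
        ((lev I (Algebra.TensorProduct.includeLeft : S →ₐ[A] S ⊗[A] S) n).comp (levOfId I S n))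
        ((lev I (Algebra.TensorProduct.includeRight : S →ₐ[A] S ⊗[A] S) n).comp
          (levOfId I S n))) (φ n)]
  obtain ⟨ψ, hψ⟩ := descend_hom S Φ' (fun c => by
    rw [← pull_one_tmul, ← pull_one_tmul, hcoc])
  refine ⟨ψ, fun c => ?_⟩
  obtain ⟨b, hb⟩ := exists_rep I φ₀
  rw [← hb c]
  symm
  rw [DiagNil.one_tmul_eq_iff]
  apply mem_smul_top_of_one_tmul S I
  rw [TensorProduct.tmul_sub, ← hψ c]
  apply mem_smul_top_of_Hmap_red_mem I
  -- reduce to level `0`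
  have hred : red I S = (Ideal.Quotient.factorₐ A
      (show (I.map (algebraMap A S)) ^ (0 + 1) ≤ I.map (algebraMap A S) by
        rw [zero_add, pow_one])).comp
      (Ideal.Quotient.mkₐ A ((I.map (algebraMap A S)) ^ (0 + 1))) := AlgHom.ext fun _ => rfl
  have h1 : Hmap B (Ideal.Quotient.mkₐ A ((I.map (algebraMap A S)) ^ (0 + 1)))
      (Φ' ((1 : S) ⊗ₜ[A] c) - (1 : S) ⊗ₜ[A] b c) =
      Hmap B (levOfId I S 0) (φ 0 ((1 : A ⧸ I ^ (0 + 1)) ⊗ₜ[A] c) -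
        (1 : A ⧸ I ^ (0 + 1)) ⊗ₜ[A] b c) := by
    rw [map_sub, map_sub, Hmap_one_tmul, Hmap_one_tmul, ← pull_one_tmul, hΦ' 0]
    change pull (levOfId I S 0) (φ 0) _ - _ = _
    rw [pull_one_tmul]
  rw [hred, ← Hmap_comp, h1, Hmap_comp]
  exact Hmap_mem_smul_top _ I ((isLiftOf_iff_rep I b hb (φ 0)).mp hφ0 c)

theorem ker_factor_le (n : ℕ) :
    RingHom.ker ((Ideal.Quotient.factorₐ A (Ideal.pow_le_pow_right (Nat.le_succ (n + 1))) :
      A ⧸ I ^ (n + 1 + 1) →ₐ[A] A ⧸ I ^ (n + 1)) : A ⧸ I ^ (n + 1 + 1) →+* A ⧸ I ^ (n + 1)) ≤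
      I.map (algebraMap A (A ⧸ I ^ (n + 1 + 1))) := by
  intro x hx
  obtain ⟨a, rfl⟩ := Ideal.Quotient.mk_surjective x
  rw [RingHom.mem_ker] at hx
  have h1 : (Ideal.Quotient.mk (I ^ (n + 1))) a = 0 := hx
  rw [Ideal.Quotient.eq_zero_iff_mem] at h1
  have h2 : a ∈ I := Ideal.pow_le_self (by omega) h1
  exact Ideal.mem_map_of_mem _ h2

/-- `A` noetherian `I`-adically complete, `B` isotrivial, `C` smooth: homomorphisms modulo `I` lift. -/
theorem exists_hom_complete (hG : IsIsotrivial A B) [Algebra.FormallySmooth A C]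
    (φ₀ : (A ⧸ I) ⊗[A] C →ₐc[A ⧸ I] (A ⧸ I) ⊗[A] B) :
    ∃ ψ : C →ₐc[A] B, ∀ c : C, φ₀ ((1 : A ⧸ I) ⊗ₜ[A] c) = (1 : A ⧸ I) ⊗ₜ[A] (ψ c) := by
  have hBm : IsMultType A B := FlatQIso.isMultType_of_isIsotrivial hG
  have hBL := fun n => isMultType_level I hBm n
  have hstep : ∀ (n : ℕ) (Ψ : (A ⧸ I ^ (n + 1)) ⊗[A] C →ₐc[A ⧸ I ^ (n + 1)]
      (A ⧸ I ^ (n + 1)) ⊗[A] B),
      ∃ Φ : (A ⧸ I ^ (n + 1 + 1)) ⊗[A] C →ₐc[A ⧸ I ^ (n + 1 + 1)] (A ⧸ I ^ (n + 1 + 1)) ⊗[A] B,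
        pull (Ideal.Quotient.factorₐ A (Ideal.pow_le_pow_right (Nat.le_succ (n + 1)))) Φ = Ψ := by
    intro n Ψ
    apply lift_rel _ _ _ (hBL (n + 1)) Ψ
    · exact Ideal.Quotient.factor_surjective (Ideal.pow_le_pow_right (Nat.le_succ (n + 1)))
    · obtain ⟨k, hk⟩ := isNilpotent_level I (n + 1)
      refine ⟨k, ?_⟩
      rw [Ideal.zero_eq_bot] at hk ⊢
      rw [← le_bot_iff, ← hk]
      exact Ideal.pow_right_mono (ker_factor_le I n) k
  choose next hnext using hstep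
  -- level zero
  let j : A ⧸ I →ₐ[A] A ⧸ I ^ (0 + 1) :=
    Ideal.Quotient.factorₐ A (le_of_eq (by rw [zero_add, pow_one]))
  let Ψ₀ : (A ⧸ I ^ (0 + 1)) ⊗[A] C →ₐc[A ⧸ I ^ (0 + 1)] (A ⧸ I ^ (0 + 1)) ⊗[A] B := pull j φ₀
  have hΨ₀ : IsLiftOf I φ₀ Ψ₀ := by
    rw [isLiftOf_iff]
    change pull _ (pull j φ₀) = _
    rw [pull_pull]
    exact pull_congr (algHom_quot_ext _ _) _
  let φ : ∀ n : ℕ, (A ⧸ I ^ (n + 1)) ⊗[A] C →ₐc[A ⧸ I ^ (n + 1)] (A ⧸ I ^ (n + 1)) ⊗[A] B :=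
    fun n => Nat.rec (motive := fun n => ((A ⧸ I ^ (n + 1)) ⊗[A] C →ₐc[A ⧸ I ^ (n + 1)]
      (A ⧸ I ^ (n + 1)) ⊗[A] B)) Ψ₀ (fun n Ψ => next n Ψ) n
  have hcompat : ∀ n : ℕ, pull (Ideal.Quotient.factorₐ A
      (Ideal.pow_le_pow_right (Nat.le_succ (n + 1)))) (φ (n + 1)) = φ n := fun n => hnext n (φ n)
  exact exists_hom_of_system I hG φ₀ φ hcompat hΨ₀

end Exist

end Groth.Agent.Lib.R2H7.Coh
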