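import Mathlib
import Groth.Prelude.Def_SGA3b
import Groth.Agent.Lib.R2H7CohE

/-!
# R2H7CohG: vanishing of Hochschild `H¹` by averaging; conjugacy of lifts

* `bialgHom_of_comul`: an algebra map which is comultiplicative is a bialgebra map.
* `exists_conj_of_small`: two bialgebra maps `β β' : C → A` congruent modulo a square-zero ideal `K` are
  conjugate under a point `g ∈ G(R)`, `g ≡ 1` modulo `K` (`A` with a normalized left-invariant integral).
* `exists_conj_bialgHom`: conjugation of a bialgebra map by a point of `G(R)`.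
* `lift_comp_sqzero`, `lift_comp_nilp`: the map `w ↦ w ∘ u` on homomorphisms is formally smooth.
-/

set_option autoImplicit false
universe u

namespace Groth.Agent.Lib.R2H7.Coh

open TensorProduct Coalgebra WithConv SGA3b

section Basic

variable {R : Type u} [CommRing R] {A C : Type u} [CommRing A] [HopfAlgebra R A] [CommRing C]
  [HopfAlgebra R C]

theorem algHom_base_ext {X : Type u} [CommRing X] [Algebra R X] (f f' : R →ₐ[R] X) : f = f' := by
  apply AlgHom.ext
  intro r
  have h1 := f.commutes r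
  have h2 := f'.commutes r
  rw [Algebra.algebraMap_self_apply] at h1 h2
  rw [h1, h2]

/-- A bialgebra map is comultiplicative, in the convolution ring. -/
theorem comul_cv (β : C →ₐc[R] A) :
    pc (dl R A) (cv (β : C →ₐ[R] A)) =
      pc (p₁ R A) (cv (β : C →ₐ[R] A)) * pc (p₂ R A) (cv (β : C →ₐ[R] A)) := by
  apply conv_ext
  intro c
  rw [p_mul_apply]
  exact (CoalgHomClass.map_comp_comul_apply β c).symm

/-- An algebra map which is comultiplicative is a bialgebra map. -/
theorem bialgHom_of_comul (ψ' : C →ₐ[R] A)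
    (hcomul : pc (dl R A) (cv ψ') = pc (p₁ R A) (cv ψ') * pc (p₂ R A) (cv ψ')) :
    ∃ φ : C →ₐc[R] A, (φ : C →ₐ[R] A) = ψ' := by
  have hcounit : cv ((Bialgebra.counitAlgHom R A).comp ψ') = 1 := by
    have h1 : cv (((epsEps (R := R) (A := A)).comp (dl R A)).comp ψ') =
        cv (((epsEps (R := R) (A := A)).comp (p₁ R A)).comp ψ') *
          cv (((epsEps (R := R) (A := A)).comp (p₂ R A)).comp ψ') := by
      have := congrArg (pc (epsEps (R := R) (A := A))) hcomul
      rw [map_mul] at this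
      exact this
    rw [epsEps_comp_dl, epsEps_comp_p₁, epsEps_comp_p₂] at h1
    have h2 := cv_mul_cvi ((Bialgebra.counitAlgHom R A).comp ψ')
    calc cv ((Bialgebra.counitAlgHom R A).comp ψ')
        = cv ((Bialgebra.counitAlgHom R A).comp ψ') *
            (cv ((Bialgebra.counitAlgHom R A).comp ψ') *
              cvi ((Bialgebra.counitAlgHom R A).comp ψ')) := by rw [h2, mul_one]
      _ = 1 := by rw [← mul_assoc, ← h1, h2]
  refine ⟨BialgHom.ofAlgHom ψ' ?_ ?_, ?_⟩
  · apply AlgHom.ext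
    intro c
    have := congrArg (fun f : WithConv (C →ₗ[R] R) => f c) hcounit
    simpa using this
  · apply AlgHom.ext
    intro c
    have h1 := congrArg (fun f : WithConv (C →ₗ[R] A ⊗[R] A) => f c) hcomul
    have h2 := p_mul_apply (cv ψ') (cv ψ') c
    change comul (R := R) (ψ' c) = _ at h1
    rw [h2] at h1
    change Algebra.TensorProduct.map ψ' ψ' (comul (R := R) c) = comul (R := R) (ψ' c)
    rw [h1]
    rfl
  · apply AlgHom.ext
    intro c
    rfl

end Basic

section Conj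

variable {R : Type u} [CommRing R] {A C : Type u} [CommRing A] [HopfAlgebra R A] [CommRing C]
  [HopfAlgebra R C]

theorem pl_intB_dl (l : A →ₗ[R] R)
    (hinv : ∀ a, intB l A (comul (R := R) a) = algebraMap R A (l a))
    (f : WithConv (C →ₗ[R] A)) :
    pl ((intB l A).restrictScalars R) (pc (dl R A) f) = pc (Algebra.ofId R A) (pl l f) :=
  conv_ext fun c => hinv (f c)

theorem pl_intB_p₂ (l : A →ₗ[R] R) (f : WithConv (C →ₗ[R] A)) :
    pl ((intB l A).restrictScalars R) (pc (p₂ R A) f) = pc (Algebra.ofId R A) (pl l f) :=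
  conv_ext fun c => by
    change intB l A ((1 : A) ⊗ₜ[R] f c) = algebraMap R A (l (f c))
    rw [intB_tmul, Algebra.algebraMap_eq_smul_one]

/-- `H¹`-vanishing: conjugacy of two homomorphisms congruent modulo a square-zero ideal. -/
theorem exists_conj_of_small (K : Ideal R) (hK : K * K = ⊥) (l : A →ₗ[R] R) (hl : l 1 = 1)
    (hinv : ∀ a, intB l A (comul (R := R) a) = algebraMap R A (l a))
    (β β' : C →ₐc[R] A) (h : ∀ c, β c - β' c ∈ K.map (algebraMap R A)) :
    ∃ g : C →ₐ[R] R, Small K (cv g - 1) ∧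
      cv (β : C →ₐ[R] A) = pc (Algebra.ofId R A) (cv g) * cv (β' : C →ₐ[R] A) *
        pc (Algebra.ofId R A) (cvi g) := by
  set b := cv (β : C →ₐ[R] A) with hb
  set b' := cv (β' : C →ₐ[R] A) with hb'
  set bi' := cvi (β' : C →ₐ[R] A) with hbi'
  have h1 : b' * bi' = 1 := cv_mul_cvi _
  have h2 : bi' * b' = 1 := cvi_mul_cv _
  -- the cocycle `n`
  obtain ⟨ρ₂, hρ₂⟩ := exists_algHom_cvi (β' : C →ₐ[R] A)
  obtain ⟨nₐ, hn⟩ := exists_algHom_mul (β : C →ₐ[R] A) ρ₂
  rw [hρ₂] at hn
  change cv nₐ = b * bi' at hn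
  have hbb' : Small (K.map (algebraMap R A)) (b - b') := fun c => h c
  have hnsmall : Small (K.map (algebraMap R A)) (cv nₐ - 1) := by
    have : cv nₐ - 1 = (b - b') * bi' := by rw [sub_mul, h1, hn]
    rw [this]
    exact hbb'.mul_right _
  have hnb : cv nₐ * b' = b := by rw [hn, mul_assoc, h2, mul_one]
  -- the point `g`
  obtain ⟨g, hg⟩ := algHom_of_avg (B := R) (Y := A) K hK l hl nₐ (Bialgebra.counitAlgHom R C)
    (fun c => hnsmall c)
  have hgcv : cv g = pl l (cv nₐ) := conv_ext fun c => hg c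
  have hgsmall : Small K (cv g - 1) := by
    intro c
    have h3 : (cv g - 1) c = l ((cv nₐ - 1) c) := by
      change g c - algebraMap R R (counit (R := R) c) =
        l (nₐ c - algebraMap R A (counit (R := R) c))
      have e1 : l (algebraMap R A (counit (R := R) c)) = counit (R := R) c := by
        rw [Algebra.algebraMap_eq_smul_one, map_smul, hl, smul_eq_mul, mul_one]
      rw [hg, map_sub, e1]
      rfl
    rw [h3]
    have := linearMap_mem_map K l (hnsmall c)
    rwa [Algebra.algebraMap_self, Ideal.map_id] at this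
  refine ⟨g, hgsmall, ?_⟩
  -- the key identity
  have hdlb : pc (dl R A) b = pc (p₁ R A) b * pc (p₂ R A) b := comul_cv β
  have hdlb' : pc (dl R A) b' = pc (p₁ R A) b' * pc (p₂ R A) b' := comul_cv β'
  have hdlbi' : pc (dl R A) bi' = pc (p₂ R A) bi' * pc (p₁ R A) bi' := by
    apply left_inv_eq_right_inv (a := pc (dl R A) b')
    · rw [← map_mul, h2, map_one]
    · rw [hdlb']
      calc pc (p₁ R A) b' * pc (p₂ R A) b' * (pc (p₂ R A) bi' * pc (p₁ R A) bi')
          = pc (p₁ R A) b' * (pc (p₂ R A) (b' * bi')) * pc (p₁ R A) bi' := by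
            rw [map_mul]; simp only [mul_assoc]
        _ = 1 := by rw [h1, map_one, mul_one, ← map_mul, h1, map_one]
  have hdln : pc (dl R A) (cv nₐ) =
      pc (p₁ R A) b * (pc (p₂ R A) (cv nₐ) * pc (p₁ R A) bi') := by
    rw [hn, map_mul, hdlb, hdlbi', map_mul]
    simp only [mul_assoc]
  have hX := congrArg (pl ((intB l A).restrictScalars R)) hdln
  rw [pl_intB_dl l hinv, pl_mul_left (intB l A) (p₁ R A) p₁_eq_algebraMap,
    pl_mul_right (intB l A) (p₁ R A) p₁_eq_algebraMap, pl_intB_p₂, ← hgcv] at hX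
  -- conclude
  have hXX : pc (Algebra.ofId R A) (cv g) * pc (Algebra.ofId R A) (cvi g) = 1 := by
    rw [← map_mul, cv_mul_cvi, map_one]
  calc b = b * (pc (Algebra.ofId R A) (cv g) * pc (Algebra.ofId R A) (cvi g)) := by
          rw [hXX, mul_one]
    _ = b * (pc (Algebra.ofId R A) (cv g) * (bi' * b')) * pc (Algebra.ofId R A) (cvi g) := by
          rw [h2, mul_one, mul_assoc]
    _ = (b * (pc (Algebra.ofId R A) (cv g) * bi')) * b' * pc (Algebra.ofId R A) (cvi g) := by
          simp only [mul_assoc]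
    _ = pc (Algebra.ofId R A) (cv g) * b' * pc (Algebra.ofId R A) (cvi g) := by rw [← hX]

/-- Conjugation of a homomorphism by a point of `G(R)`. -/
theorem exists_conj_bialgHom (γ' : C →ₐc[R] A) (g : C →ₐ[R] R) :
    ∃ γ : C →ₐc[R] A, cv (γ : C →ₐ[R] A) =
      pc (Algebra.ofId R A) (cv g) * cv (γ' : C →ₐ[R] A) * pc (Algebra.ofId R A) (cvi g) := by
  obtain ⟨ρ₁, hρ₁⟩ := exists_algHom_mul ((Algebra.ofId R A).comp g) (γ' : C →ₐ[R] A)
  obtain ⟨ρ₂, hρ₂⟩ := exists_algHom_cvi ((Algebra.ofId R A).comp g)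
  obtain ⟨γₐ, hγₐ⟩ := exists_algHom_mul ρ₁ ρ₂
  rw [hρ₁, hρ₂] at hγₐ
  change cv γₐ = pc (Algebra.ofId R A) (cv g) * cv (γ' : C →ₐ[R] A) *
    pc (Algebra.ofId R A) (cvi g) at hγₐ
  have hι₁ : (p₁ R A).comp (Algebra.ofId R A) = Algebra.ofId R (A ⊗[R] A) := algHom_base_ext _ _
  have hι₂ : (p₂ R A).comp (Algebra.ofId R A) = Algebra.ofId R (A ⊗[R] A) := algHom_base_ext _ _
  have hιd : (dl R A).comp (Algebra.ofId R A) = Algebra.ofId R (A ⊗[R] A) := algHom_base_ext _ _
  have hXX : pc (Algebra.ofId R (A ⊗[R] A)) (cvi g) * pc (Algebra.ofId R (A ⊗[R] A)) (cv g) = 1 := by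
    rw [← map_mul, cvi_mul_cv, map_one]
  have hcomul : pc (dl R A) (cv γₐ) = pc (p₁ R A) (cv γₐ) * pc (p₂ R A) (cv γₐ) := by
    rw [hγₐ, map_mul, map_mul, map_mul, map_mul, map_mul, map_mul, pc_comp, pc_comp, pc_comp,
      pc_comp, pc_comp, pc_comp, hι₁, hι₂, hιd, comul_cv γ']
    calc pc (Algebra.ofId R (A ⊗[R] A)) (cv g) *
          (pc (p₁ R A) (cv (γ' : C →ₐ[R] A)) * pc (p₂ R A) (cv (γ' : C →ₐ[R] A))) *
          pc (Algebra.ofId R (A ⊗[R] A)) (cvi g)
        = pc (Algebra.ofId R (A ⊗[R] A)) (cv g) * pc (p₁ R A) (cv (γ' : C →ₐ[R] A)) *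
          (pc (Algebra.ofId R (A ⊗[R] A)) (cvi g) * pc (Algebra.ofId R (A ⊗[R] A)) (cv g)) *
          pc (p₂ R A) (cv (γ' : C →ₐ[R] A)) * pc (Algebra.ofId R (A ⊗[R] A)) (cvi g) := by
            rw [hXX, mul_one]; simp only [mul_assoc]
      _ = _ := by simp only [mul_assoc]
  obtain ⟨γ, hγ⟩ := bialgHom_of_comul γₐ hcomul
  exact ⟨γ, by rw [hγ, hγₐ]⟩

end Conj

end Groth.Agent.Lib.R2H7.Coh
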