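import Mathlib
import Groth.Prelude.Def_SGA3b
import Groth.Agent.Lib.R2H7CohG

/-!
# R2H7CohH: formal smoothness of `w ↦ w ∘ u` on homomorphisms into a smooth affine group

`u : H₁ ⟶ H₂` a homomorphism of groups of multiplicative type (`α : A₂ →ₐc[R] A₁`), `G = Spec C` smooth affine,
`v : H₁ ⟶ G` (`β : C →ₐc[R] A₁`), `w₀ : H₂ ⟶ G` over `S = R/K` (`K` nilpotent) with `w₀ ∘ u₀ = v₀`; then `w₀` lifts to
`w` with `w ∘ u = v` (`lift_comp_sqzero`, `lift_comp_nilp`).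
-/

set_option autoImplicit false
universe u

namespace Groth.Agent.Lib.R2H7.Coh

open TensorProduct Coalgebra WithConv SGA3b Groth.Agent.Lib.Helper25 Groth.Agent.Lib.R2H7.GLLift
  Groth.Agent.Lib.R2H7.GLGlue Groth.Agent.Lib.R2H7.DiagNil

section SqZero

variable {R : Type u} [CommRing R] (S : Type u) [CommRing S] [Algebra R S]
  {A₁ A₂ C : Type u} [CommRing A₁] [HopfAlgebra R A₁] [CommRing A₂] [HopfAlgebra R A₂]
  [CommRing C] [HopfAlgebra R C]

theorem conj_small {B : Type u} [CommRing B] [Algebra R B] (K : Ideal R) (g : C →ₐ[R] R)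
    (hg : Small K (cv g - 1)) (c' : WithConv (C →ₗ[R] B)) :
    Small (K.map (algebraMap R B))
      (pc (Algebra.ofId R B) (cv g) * c' * pc (Algebra.ofId R B) (cvi g) - c') := by
  have hX1 : Small (K.map (algebraMap R B)) (pc (Algebra.ofId R B) (cv g) - 1) := by
    have : pc (Algebra.ofId R B) (cv g) - 1 = pc (Algebra.ofId R B) (cv g - 1) := by
      rw [map_sub, map_one]
    rw [this]
    exact Small.pc (J := K) (J' := K.map (algebraMap R B)) (Algebra.ofId R B)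
      (fun x hx => Ideal.mem_map_of_mem (algebraMap R B) hx) hg
  have hXXi : pc (Algebra.ofId R B) (cvi g) * pc (Algebra.ofId R B) (cv g) = 1 := by
    rw [← map_mul, cvi_mul_cv, map_one]
  have hXi1 : Small (K.map (algebraMap R B)) (pc (Algebra.ofId R B) (cvi g) - 1) := by
    have : pc (Algebra.ofId R B) (cvi g) - 1 =
        -(pc (Algebra.ofId R B) (cvi g) * (pc (Algebra.ofId R B) (cv g) - 1)) := by
      rw [mul_sub, hXXi, mul_one]
      abel
    rw [this]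
    exact (hX1.mul_left _).neg
  have : pc (Algebra.ofId R B) (cv g) * c' * pc (Algebra.ofId R B) (cvi g) - c' =
      (pc (Algebra.ofId R B) (cv g) - 1) * c' * pc (Algebra.ofId R B) (cvi g) +
      c' * (pc (Algebra.ofId R B) (cvi g) - 1) := by
    noncomm_ring
  rw [this]
  exact ((hX1.mul_right _).mul_right _).add (hXi1.mul_left _)

theorem lift_comp_sqzero (hsurj : Function.Surjective (algebraMap R S))
    (hK : RingHom.ker (algebraMap R S) * RingHom.ker (algebraMap R S) = ⊥)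
    (h₁ : IsMultType R A₁) (h₂ : IsMultType R A₂) (α : A₂ →ₐc[R] A₁)
    [Algebra.FormallySmooth R C] (β : C →ₐc[R] A₁) (γ₀ : S ⊗[R] C →ₐc[S] S ⊗[R] A₂)
    (h0 : ∀ c, bcHom S α (γ₀ ((1 : S) ⊗ₜ[R] c)) = (1 : S) ⊗ₜ[R] β c) :
    ∃ γ : C →ₐc[R] A₂, (∀ c, γ₀ ((1 : S) ⊗ₜ[R] c) = (1 : S) ⊗ₜ[R] γ c) ∧ ∀ c, α (γ c) = β c := by
  obtain ⟨γ', hγ'⟩ := lift_sqzero S hsurj hK h₂ γ₀
  obtain ⟨β', hβ'⟩ : ∃ β' : C →ₐc[R] A₁, ∀ c, β' c = α (γ' c) := ⟨α.comp γ', fun c => rfl⟩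
  have hbc : ∀ x : A₂, bcHom S α ((1 : S) ⊗ₜ[R] x) = (1 : S) ⊗ₜ[R] α x := fun x => rfl
  have hββ' : ∀ c, β c - β' c ∈ (RingHom.ker (algebraMap R S)).map (algebraMap R A₁) := by
    intro c
    apply mem_map_of_one_tmul_eq_zero S hsurj
    rw [TensorProduct.tmul_sub, ← h0, hγ', hβ', hbc]
    exact sub_self _
  obtain ⟨l₁, hl₁, -⟩ := exists_int_of_isMultType h₁
  obtain ⟨g, hgsmall, hconj⟩ := exists_conj_of_small _ hK l₁ hl₁.one hl₁.hinv β β' hββ'
  obtain ⟨γ, hγ⟩ := exists_conj_bialgHom γ' g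
  have e : pc (α : A₂ →ₐ[R] A₁) (cv (γ' : C →ₐ[R] A₂)) = cv (β' : C →ₐ[R] A₁) :=
    conv_ext fun c => (hβ' c).symm
  have h3 : pc (α : A₂ →ₐ[R] A₁) (cv (γ : C →ₐ[R] A₂)) = cv (β : C →ₐ[R] A₁) := by
    rw [hγ, map_mul, map_mul, pc_comp, pc_comp,
      algHom_base_ext ((α : A₂ →ₐ[R] A₁).comp (Algebra.ofId R A₂)) (Algebra.ofId R A₁), hconj, e]
  have hαγ : ∀ c, α (γ c) = β c := by
    intro c
    have h4 := congrArg (fun f : WithConv (C →ₗ[R] A₁) => f c) h3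
    exact h4
  have hsmall : Small ((RingHom.ker (algebraMap R S)).map (algebraMap R A₂))
      (cv (γ : C →ₐ[R] A₂) - cv (γ' : C →ₐ[R] A₂)) := by
    rw [hγ]
    exact conj_small _ g hgsmall _
  refine ⟨γ, fun c => ?_, hαγ⟩
  rw [hγ', ← sub_eq_zero, ← TensorProduct.tmul_sub]
  apply one_tmul_eq_zero_of_mem_map S hsurj
  have h5 : γ c - γ' c ∈ (RingHom.ker (algebraMap R S)).map (algebraMap R A₂) := hsmall c
  rw [← neg_sub]
  exact neg_mem h5

end SqZero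

section Nat

variable {R : Type u} [CommRing R] {A₁ A₂ : Type u} [CommRing A₁] [HopfAlgebra R A₁]
  [CommRing A₂] [HopfAlgebra R A₂]

/-- Naturality of the cancellation isomorphism in the Hopf algebra. -/
theorem cancelBC_bcHom (X T : Type u) [CommRing X] [CommRing T] [Algebra R X] [Algebra R T]
    [Algebra X T] [IsScalarTower R X T] (α : A₂ →ₐc[R] A₁) (z : T ⊗[X] (X ⊗[R] A₂)) :
    BCB.cancelBC R X T A₁ (bcHom T (bcHom X α) z) = bcHom T α (BCB.cancelBC R X T A₂ z) := by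
  induction z using TensorProduct.induction_on with
  | zero => simp
  | tmul t w =>
    induction w using TensorProduct.induction_on with
    | zero => simp
    | tmul x a =>
      change BCB.cancelBC R X T A₁ (t ⊗ₜ[X] (x ⊗ₜ[R] α a)) =
        bcHom T α (BCB.cancelBC R X T A₂ (t ⊗ₜ[X] (x ⊗ₜ[R] a)))
      rw [BCB.cancelBC_tmul, BCB.cancelBC_tmul]
      rfl
    | add u v hu hv =>
      rw [TensorProduct.tmul_add, map_add, map_add, hu, hv, map_add, map_add]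
  | add u v hu hv => rw [map_add, map_add, hu, hv, map_add, map_add]

end Nat

section Nilp

theorem lift_comp_nilp_aux (n : ℕ) : ∀ (R : Type u) [CommRing R] (S : Type u) [CommRing S]
    [Algebra R S], Function.Surjective (algebraMap R S) → (RingHom.ker (algebraMap R S)) ^ n = ⊥ →
    ∀ (A₁ : Type u) [CommRing A₁] [HopfAlgebra R A₁], IsMultType R A₁ →
    ∀ (A₂ : Type u) [CommRing A₂] [HopfAlgebra R A₂], IsMultType R A₂ →
    ∀ (α : A₂ →ₐc[R] A₁) (C : Type u) [CommRing C] [HopfAlgebra R C] [Algebra.FormallySmooth R C]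
      (β : C →ₐc[R] A₁) (γ₀ : S ⊗[R] C →ₐc[S] S ⊗[R] A₂),
      (∀ c, bcHom S α (γ₀ ((1 : S) ⊗ₜ[R] c)) = (1 : S) ⊗ₜ[R] β c) →
      ∃ γ : C →ₐc[R] A₂, (∀ c, γ₀ ((1 : S) ⊗ₜ[R] c) = (1 : S) ⊗ₜ[R] γ c) ∧
        ∀ c, α (γ c) = β c := by
  induction n with
  | zero =>
    intro R _ S _ _ hsurj hn A₁ _ _ h₁ A₂ _ _ h₂ α C _ _ _ β γ₀ h0
    apply lift_comp_sqzero S hsurj _ h₁ h₂ α β γ₀ h0
    rw [pow_zero, Ideal.one_eq_top] at hn
    rw [← le_bot_iff, ← hn]
    exact le_top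
  | succ n ih =>
    intro R _ S _ _ hsurj hn A₁ _ _ h₁ A₂ _ _ h₂ α C _ _ _ β γ₀ h0
    by_cases hn2 : n + 1 ≤ 2
    · apply lift_comp_sqzero S hsurj _ h₁ h₂ α β γ₀ h0
      rw [← le_bot_iff, ← hn, ← pow_two]
      exact Ideal.pow_le_pow_right hn2
    · have hn1 : 2 ≤ n := by omega
      set K := RingHom.ker (algebraMap R S) with hKdef
      let J : Ideal R := K ^ n
      have hJK : J ≤ K := Ideal.pow_le_self (by omega)
      have hJJ : J * J = ⊥ := by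
        rw [← le_bot_iff, ← hn, ← pow_add]
        exact Ideal.pow_le_pow_right (by omega)
      letI algS : Algebra (R ⧸ J) S :=
        (Ideal.Quotient.lift J (algebraMap R S) (fun x hx => hJK hx)).toAlgebra
      haveI : IsScalarTower R (R ⧸ J) S := IsScalarTower.of_algebraMap_eq (fun r => rfl)
      have hsurj' : Function.Surjective (algebraMap (R ⧸ J) S) := by
        intro s
        obtain ⟨r, rfl⟩ := hsurj s
        exact ⟨Ideal.Quotient.mk J r, rfl⟩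
      have hker' : (RingHom.ker (algebraMap (R ⧸ J) S)) ^ n = ⊥ := by
        have h1 : RingHom.ker (algebraMap (R ⧸ J) S) ≤ K.map (Ideal.Quotient.mk J) := by
          intro x hx
          obtain ⟨r, rfl⟩ := Ideal.Quotient.mk_surjective x
          have hr : r ∈ K := by
            rw [hKdef, RingHom.mem_ker]
            exact hx
          exact Ideal.mem_map_of_mem _ hr
        rw [← le_bot_iff]
        calc (RingHom.ker (algebraMap (R ⧸ J) S)) ^ n
            ≤ (K.map (Ideal.Quotient.mk J)) ^ n := Ideal.pow_right_mono h1 n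
          _ = (K ^ n).map (Ideal.Quotient.mk J) := (Ideal.map_pow _ _ _).symm
          _ = ⊥ := Ideal.map_quotient_self J
      have h₁' : IsMultType (R ⧸ J) ((R ⧸ J) ⊗[R] A₁) :=
        Groth.Agent.Lib.R2H7.IsoNil.isMultType_baseChange (R ⧸ J) h₁
      have h₂' : IsMultType (R ⧸ J) ((R ⧸ J) ⊗[R] A₂) :=
        Groth.Agent.Lib.R2H7.IsoNil.isMultType_baseChange (R ⧸ J) h₂
      have h0' : ∀ c' : (R ⧸ J) ⊗[R] C,
          bcHom S (bcHom (R ⧸ J) α) (Groth.Agent.Lib.R2H7.HomLift.toAbs (X := R ⧸ J) S γ₀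
            ((1 : S) ⊗ₜ[R ⧸ J] c')) = (1 : S) ⊗ₜ[R ⧸ J] (bcHom (R ⧸ J) β c') := by
        intro c'
        induction c' using TensorProduct.induction_on with
        | zero => simp
        | tmul x c =>
          have hx : x ⊗ₜ[R] c = x • ((1 : R ⧸ J) ⊗ₜ[R] c) := by
            rw [TensorProduct.smul_tmul', smul_eq_mul, mul_one]
          have hx' : (bcHom (R ⧸ J) β (x ⊗ₜ[R] c)) = x • ((1 : R ⧸ J) ⊗ₜ[R] β c) := by
            change x ⊗ₜ[R] β c = _
            rw [TensorProduct.smul_tmul', smul_eq_mul, mul_one]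
          rw [hx', hx, TensorProduct.tmul_smul, TensorProduct.tmul_smul,
            ← algebraMap_smul S x ((1 : S) ⊗ₜ[R ⧸ J] ((1 : R ⧸ J) ⊗ₜ[R] c)), map_smul, map_smul,
            algebraMap_smul]
          congr 1
          have e1 : BCB.cancelBC R (R ⧸ J) S A₁ (bcHom S (bcHom (R ⧸ J) α)
              (Groth.Agent.Lib.R2H7.HomLift.toAbs (X := R ⧸ J) S γ₀
                ((1 : S) ⊗ₜ[R ⧸ J] ((1 : R ⧸ J) ⊗ₜ[R] c)))) =
              BCB.cancelBC R (R ⧸ J) S A₁ ((1 : S) ⊗ₜ[R ⧸ J] ((1 : R ⧸ J) ⊗ₜ[R] β c)) := by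
            rw [cancelBC_bcHom, Groth.Agent.Lib.R2H7.HomLift.toAbs_one_tmul,
              BialgEquiv.apply_symm_apply, h0, BCB.cancelBC_tmul, one_smul]
          exact (BCB.cancelBC R (R ⧸ J) S A₁).injective e1
        | add u v hu hv =>
          rw [TensorProduct.tmul_add, map_add, map_add, hu, hv, map_add, TensorProduct.tmul_add]
      obtain ⟨γ', hγ', hαγ'⟩ := ih (R ⧸ J) S hsurj' hker' ((R ⧸ J) ⊗[R] A₁) h₁'
        ((R ⧸ J) ⊗[R] A₂) h₂' (bcHom (R ⧸ J) α) ((R ⧸ J) ⊗[R] C) (bcHom (R ⧸ J) β)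
        (Groth.Agent.Lib.R2H7.HomLift.toAbs (X := R ⧸ J) S γ₀) h0'
      have hkerJ : RingHom.ker (algebraMap R (R ⧸ J)) = J := by
        rw [Ideal.Quotient.algebraMap_eq, Ideal.mk_ker]
      obtain ⟨γ, hγ, hαγ⟩ := lift_comp_sqzero (R ⧸ J) (by
          rw [Ideal.Quotient.algebraMap_eq]
          exact Ideal.Quotient.mk_surjective) (by rw [hkerJ]; exact hJJ) h₁ h₂ α β γ'
        (fun c => hαγ' ((1 : R ⧸ J) ⊗ₜ[R] c))
      refine ⟨γ, fun c => ?_, hαγ⟩
      have h1 := hγ' ((1 : R ⧸ J) ⊗ₜ[R] c)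
      rw [Groth.Agent.Lib.R2H7.HomLift.toAbs_one_tmul, hγ] at h1
      have h2 := congrArg (BCB.cancelBC R (R ⧸ J) S A₂) h1
      rw [BialgEquiv.apply_symm_apply, BCB.cancelBC_tmul, one_smul] at h2
      exact h2

/-- Formal smoothness of `w ↦ w ∘ u` (SGA3 IX 3.6 bis form), general nilpotent surjection `R → S`. -/
theorem lift_comp_nilp {R : Type u} [CommRing R] (S : Type u) [CommRing S] [Algebra R S]
    (hsurj : Function.Surjective (algebraMap R S))
    (hnil : IsNilpotent (RingHom.ker (algebraMap R S)))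
    {A₁ : Type u} [CommRing A₁] [HopfAlgebra R A₁] (h₁ : IsMultType R A₁)
    {A₂ : Type u} [CommRing A₂] [HopfAlgebra R A₂] (h₂ : IsMultType R A₂) (α : A₂ →ₐc[R] A₁)
    {C : Type u} [CommRing C] [HopfAlgebra R C] [Algebra.FormallySmooth R C]
    (β : C →ₐc[R] A₁) (γ₀ : S ⊗[R] C →ₐc[S] S ⊗[R] A₂)
    (h0 : ∀ c, bcHom S α (γ₀ ((1 : S) ⊗ₜ[R] c)) = (1 : S) ⊗ₜ[R] β c) :
    ∃ γ : C →ₐc[R] A₂, (∀ c, γ₀ ((1 : S) ⊗ₜ[R] c) = (1 : S) ⊗ₜ[R] γ c) ∧ ∀ c, α (γ c) = β c := by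
  obtain ⟨n, hn⟩ := hnil
  exact lift_comp_nilp_aux n R S hsurj hn A₁ h₁ A₂ h₂ α C β γ₀ h0

end Nilp

end Groth.Agent.Lib.R2H7.Coh
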