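import Mathlib
import Groth.Prelude.Def_ComodSub

/-!
# The left dual of a finitely presented comodule over a flat coalgebra (helper7, round 2)

For `M` finitely presented and `B` flat, `dualTensorHom k M B : M^* ⊗ B → Hom(M, B)` is bijective
(left exactness of both sides in `M`).  This defines the left coaction on `M^*` with
`λ g ↔ (m ↦ Σ g(m₀) m₁)`; the comodule laws are checked after the injective reading maps into
`Hom(M, A ⊗ A)` and `M^*`.
-/

set_option autoImplicit false
open TensorProduct LinearMap

namespace Groth.Agent.Lib.R2H7.ComodLDual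

universe u v w

variable {k : Type u} [CommRing k]

section Bij

variable (M : Type w) [AddCommGroup M] [Module k M] [Module.FinitePresentation k M]
  (B : Type v) [AddCommGroup B] [Module k B] [Module.Flat k B]

theorem dualTensorHom_bijective_of_fp_flat : Function.Bijective (dualTensorHom k M B) := by
  obtain ⟨n, m, f, g, hf, hfg⟩ := Module.FinitePresentation.exists_fin' k M
  have nat_f : dualTensorHom k (Fin n → k) B ∘ₗ f.dualMap.rTensor B =
      f.lcomp k B ∘ₗ dualTensorHom k M B := dualTensorHom_comp_rTensor_dualMap f
  have nat_g : dualTensorHom k (Fin m → k) B ∘ₗ g.dualMap.rTensor B =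
      g.lcomp k B ∘ₗ dualTensorHom k (Fin n → k) B := dualTensorHom_comp_rTensor_dualMap g
  have b0 : Function.Bijective (dualTensorHom k (Fin n → k) B) := dualTensorHom_bijective
  have b1 : Function.Bijective (dualTensorHom k (Fin m → k) B) := dualTensorHom_bijective
  have inj_f : Function.Injective f.dualMap := LinearMap.dualMap_injective_of_surjective hf
  have ex_dual : Function.Exact f.dualMap g.dualMap := by
    have h := exact_lcomp_of_exact_of_surjective k hfg hf
    exact h
  have inj_fB : Function.Injective (f.dualMap.rTensor B) :=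
    Module.Flat.rTensor_preserves_injective_linearMap _ inj_f
  have ex_B : Function.Exact (f.dualMap.rTensor B) (g.dualMap.rTensor B) :=
    Module.Flat.rTensor_exact B ex_dual
  constructor
  · intro x y hxy
    apply inj_fB
    apply b0.1
    have hx := LinearMap.congr_fun nat_f x
    have hy := LinearMap.congr_fun nat_f y
    simp only [LinearMap.comp_apply] at hx hy
    rw [hx, hy, hxy]
  · intro h
    obtain ⟨y, hy⟩ := b0.2 (h ∘ₗ f)
    have hgy : g.dualMap.rTensor B y = 0 := by
      apply b1.1
      have h1 := LinearMap.congr_fun nat_g y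
      simp only [LinearMap.comp_apply] at h1
      rw [h1, hy, map_zero]
      ext v
      simp only [LinearMap.lcomp_apply, LinearMap.comp_apply, LinearMap.zero_apply]
      rw [hfg.apply_apply_eq_zero, map_zero]
    obtain ⟨x, hx⟩ := (ex_B y).mp hgy
    refine ⟨x, ?_⟩
    apply lcomp_injective_of_surjective (S := k) (N := B) f hf
    have h1 := LinearMap.congr_fun nat_f x
    simp only [LinearMap.comp_apply] at h1
    rw [← h1, hx, hy]
    rfl

end Bij

section Dual

variable {A : Type v} [AddCommGroup A] [Module k A] [Coalgebra k A] [Module.Flat k A]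
  {M : Type w} [AddCommGroup M] [Module k M] [Module.FinitePresentation k M]

/-- `M^* ⊗ B ≃ Hom(M, B)` for `M` finitely presented and `B` flat. -/
noncomputable def θ (M : Type w) [AddCommGroup M] [Module k M] [Module.FinitePresentation k M]
    (B : Type v) [AddCommGroup B] [Module k B] [Module.Flat k B] :
    Module.Dual k M ⊗[k] B ≃ₗ[k] (M →ₗ[k] B) :=
  LinearEquiv.ofBijective (dualTensorHom k M B) (dualTensorHom_bijective_of_fp_flat M B)

/-- `g ↦ (m ↦ Σ g(m₀) m₁)` as a linear map. -/
noncomputable def ldualFunL (c : HopfRep.Comod k A M) : Module.Dual k M →ₗ[k] (M →ₗ[k] A) where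
  toFun g := ComodSub.ldualFun c g
  map_add' g g' := by
    ext m
    simp only [ComodSub.ldualFun_apply, LinearMap.rTensor_add, LinearMap.add_apply, map_add]
  map_smul' r g := by
    ext m
    simp only [ComodSub.ldualFun_apply, LinearMap.rTensor_smul, LinearMap.smul_apply, map_smul,
      RingHom.id_apply]

/-- reading `A ⊗ M^* → Hom(M, A)`, `a ⊗ φ ↦ (m ↦ φ m • a)` -/
noncomputable def rd (A : Type v) [AddCommGroup A] [Module k A]
    (M : Type w) [AddCommGroup M] [Module k M] :
    A ⊗[k] Module.Dual k M →ₗ[k] (M →ₗ[k] A) :=
  dualTensorHom k M A ∘ₗ (TensorProduct.comm k A (Module.Dual k M)).toLinearMap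

theorem rd_tmul (a : A) (φ : Module.Dual k M) (m : M) : rd A M (a ⊗ₜ[k] φ) m = φ m • a := by
  simp [rd, dualTensorHom_apply]

/-- the left coaction on the dual -/
noncomputable def coactL (c : HopfRep.Comod k A M) : Module.Dual k M →ₗ[k] A ⊗[k] Module.Dual k M :=
  (TensorProduct.comm k A (Module.Dual k M)).symm.toLinearMap ∘ₗ (θ M A).symm.toLinearMap ∘ₗ
    ldualFunL c

theorem rd_coactL (c : HopfRep.Comod k A M) (g : Module.Dual k M) :
    rd A M (coactL c g) = ComodSub.ldualFun c g := by
  simp only [rd, coactL, LinearMap.comp_apply, LinearEquiv.coe_coe, LinearEquiv.apply_symm_apply]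
  exact (θ M A).apply_symm_apply _

/-- reading `A ⊗ (A ⊗ M^*) → Hom(M, A ⊗ A)` -/
noncomputable def R₂ (A : Type v) [AddCommGroup A] [Module k A]
    (M : Type w) [AddCommGroup M] [Module k M] :
    A ⊗[k] (A ⊗[k] Module.Dual k M) →ₗ[k] (M →ₗ[k] A ⊗[k] A) :=
  dualTensorHom k M (A ⊗[k] A) ∘ₗ (TensorProduct.comm k (A ⊗[k] A) (Module.Dual k M)).toLinearMap ∘ₗ
    (TensorProduct.assoc k A A (Module.Dual k M)).symm.toLinearMap

theorem R₂_tmul (a b : A) (φ : Module.Dual k M) (m : M) :
    R₂ A M (a ⊗ₜ[k] (b ⊗ₜ[k] φ)) m = φ m • (a ⊗ₜ[k] b) := by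
  simp [R₂, dualTensorHom_apply]

theorem R₂_injective : Function.Injective (R₂ (k := k) A M) := by
  have h1 : Function.Injective (dualTensorHom k M (A ⊗[k] A)) :=
    (dualTensorHom_bijective_of_fp_flat M (A ⊗[k] A)).1
  unfold R₂
  rw [LinearMap.coe_comp, LinearMap.coe_comp]
  exact h1.comp ((LinearEquiv.injective _).comp (LinearEquiv.injective _))

theorem R₂_tmul_left (a : A) (y : A ⊗[k] Module.Dual k M) (m : M) :
    R₂ A M (a ⊗ₜ[k] y) m = a ⊗ₜ[k] (rd A M y m) := by
  induction y using TensorProduct.induction_on with
  | zero => simp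
  | tmul b ψ => rw [R₂_tmul, rd_tmul, TensorProduct.tmul_smul]
  | add y y' hy hy' =>
    rw [TensorProduct.tmul_add, map_add, LinearMap.add_apply, hy, hy', map_add,
      LinearMap.add_apply, TensorProduct.tmul_add]

theorem R₂_assoc_tmul (t : A ⊗[k] A) (φ : Module.Dual k M) (m : M) :
    R₂ A M (TensorProduct.assoc k A A (Module.Dual k M) (t ⊗ₜ[k] φ)) m = φ m • t := by
  induction t using TensorProduct.induction_on with
  | zero => simp
  | tmul a b => rw [TensorProduct.assoc_tmul, R₂_tmul]
  | add t t' ht ht' =>
    rw [TensorProduct.add_tmul, map_add, map_add, LinearMap.add_apply, ht, ht', smul_add]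

variable (c : HopfRep.Comod k A M)

theorem left_side (x : A ⊗[k] Module.Dual k M) (m : M) :
    R₂ A M ((coactL c).lTensor A x) m = ((rd A M x).rTensor A) (c.coact m) := by
  induction x using TensorProduct.induction_on with
  | zero => simp
  | tmul a φ =>
    rw [LinearMap.lTensor_tmul, R₂_tmul_left, rd_coactL, ComodSub.ldualFun_apply]
    generalize c.coact m = z
    induction z using TensorProduct.induction_on with
    | zero => simp
    | tmul m' b =>
      rw [LinearMap.rTensor_tmul, TensorProduct.lid_tmul, LinearMap.rTensor_tmul, rd_tmul,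
        TensorProduct.tmul_smul, TensorProduct.smul_tmul']
    | add z z' hz hz' =>
      rw [map_add, map_add, TensorProduct.tmul_add, hz, hz', map_add]
  | add x x' hx hx' =>
    rw [map_add, map_add, LinearMap.add_apply, hx, hx', map_add, LinearMap.rTensor_add,
      LinearMap.add_apply]

theorem right_side (x : A ⊗[k] Module.Dual k M) (m : M) :
    R₂ A M (TensorProduct.assoc k A A (Module.Dual k M)
      ((CoalgebraStruct.comul (R := k) (A := A)).rTensor (Module.Dual k M) x)) m =
      CoalgebraStruct.comul (R := k) (rd A M x m) := by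
  induction x using TensorProduct.induction_on with
  | zero => simp
  | tmul a φ => rw [LinearMap.rTensor_tmul, R₂_assoc_tmul, rd_tmul, map_smul]
  | add x x' hx hx' =>
    rw [map_add, map_add, map_add, LinearMap.add_apply, hx, hx', map_add, LinearMap.add_apply,
      map_add]

theorem F1 (g : Module.Dual k M) (w : (M ⊗[k] A) ⊗[k] A) :
    ((TensorProduct.lid k A).toLinearMap.rTensor A) (((g.rTensor A).rTensor A) w) =
      TensorProduct.lid k (A ⊗[k] A) ((g.rTensor (A ⊗[k] A)) (TensorProduct.assoc k M A A w)) := by
  induction w using TensorProduct.induction_on with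
  | zero => simp
  | tmul z b =>
    induction z using TensorProduct.induction_on with
    | zero => simp
    | tmul m' a =>
      simp only [LinearMap.rTensor_tmul, LinearEquiv.coe_coe, TensorProduct.lid_tmul,
        TensorProduct.assoc_tmul, TensorProduct.smul_tmul']
    | add z z' hz hz' =>
      rw [TensorProduct.add_tmul, map_add, map_add, hz, hz', map_add, map_add, map_add]
  | add w w' hw hw' => rw [map_add, map_add, hw, hw', map_add, map_add, map_add]

theorem F2 (g : Module.Dual k M) (z : M ⊗[k] A) :
    TensorProduct.lid k (A ⊗[k] A) ((g.rTensor (A ⊗[k] A))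
      (((CoalgebraStruct.comul (R := k) (A := A)).lTensor M) z)) =
      CoalgebraStruct.comul (R := k) (TensorProduct.lid k A ((g.rTensor A) z)) := by
  induction z using TensorProduct.induction_on with
  | zero => simp
  | tmul m' a =>
    simp only [LinearMap.lTensor_tmul, LinearMap.rTensor_tmul, TensorProduct.lid_tmul, map_smul]
  | add z z' hz hz' => rw [map_add, map_add, map_add, hz, hz', map_add, map_add, map_add]

theorem final_eq (g : Module.Dual k M) (m : M) :
    ((ComodSub.ldualFun c g).rTensor A) (c.coact m) =
      CoalgebraStruct.comul (R := k) (ComodSub.ldualFun c g m) := by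
  have h1 : (ComodSub.ldualFun c g).rTensor A =
      (TensorProduct.lid k A).toLinearMap.rTensor A ∘ₗ (g.rTensor A).rTensor A ∘ₗ
        c.coact.rTensor A := by
    rw [← LinearMap.rTensor_comp, ← LinearMap.rTensor_comp]
    rfl
  have h2 := LinearMap.congr_fun c.coassoc m
  simp only [LinearMap.comp_apply, LinearEquiv.coe_coe] at h2
  rw [h1, LinearMap.comp_apply, LinearMap.comp_apply, F1, h2, F2, ComodSub.ldualFun_apply]

theorem coassocL : (coactL c).lTensor A ∘ₗ coactL c =
    (TensorProduct.assoc k A A (Module.Dual k M)).toLinearMap ∘ₗ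
      (CoalgebraStruct.comul (R := k) (A := A)).rTensor (Module.Dual k M) ∘ₗ coactL c := by
  apply LinearMap.ext
  intro g
  apply R₂_injective
  apply LinearMap.ext
  intro m
  simp only [LinearMap.comp_apply, LinearEquiv.coe_coe]
  rw [left_side, right_side, rd_coactL, final_eq]

theorem counit_side (x : A ⊗[k] Module.Dual k M) (m : M) :
    TensorProduct.lid k (Module.Dual k M)
      (((CoalgebraStruct.counit (R := k) (A := A)).rTensor (Module.Dual k M)) x) m =
      CoalgebraStruct.counit (R := k) (rd A M x m) := by
  induction x using TensorProduct.induction_on with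
  | zero => simp
  | tmul a φ =>
    rw [LinearMap.rTensor_tmul, TensorProduct.lid_tmul, LinearMap.smul_apply, rd_tmul, map_smul,
      smul_eq_mul, smul_eq_mul, mul_comm]
  | add x x' hx hx' =>
    rw [map_add, map_add, LinearMap.add_apply, hx, hx', map_add, LinearMap.add_apply, map_add]

theorem C2 (g : Module.Dual k M) (z : M ⊗[k] A) :
    CoalgebraStruct.counit (R := k) (TensorProduct.lid k A ((g.rTensor A) z)) =
      g (TensorProduct.rid k M (((CoalgebraStruct.counit (R := k) (A := A)).lTensor M) z)) := by
  induction z using TensorProduct.induction_on with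
  | zero => simp
  | tmul m' a =>
    simp only [LinearMap.rTensor_tmul, TensorProduct.lid_tmul, LinearMap.lTensor_tmul,
      TensorProduct.rid_tmul, map_smul, smul_eq_mul, mul_comm]
  | add z z' hz hz' => rw [map_add, map_add, map_add, hz, hz', map_add, map_add, map_add]

theorem counitL : (CoalgebraStruct.counit (R := k) (A := A)).rTensor (Module.Dual k M) ∘ₗ coactL c =
    TensorProduct.mk k k (Module.Dual k M) 1 := by
  apply LinearMap.ext
  intro g
  apply (TensorProduct.lid k (Module.Dual k M)).injective
  apply LinearMap.ext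
  intro m
  simp only [LinearMap.comp_apply]
  rw [counit_side, rd_coactL, ComodSub.ldualFun_apply, C2]
  have h2 := LinearMap.congr_fun c.counit_comp m
  simp only [LinearMap.comp_apply] at h2
  rw [h2]
  simp

/-- the left dual comodule structure -/
noncomputable def ldual : ComodSub.LComod k A (Module.Dual k M) where
  coact := coactL c
  coassoc := coassocL c
  counit_comp := counitL c

theorem isLDual_ldual : ComodSub.LComod.IsLDual c (ldual c) := by
  intro g
  exact rd_coactL c g

end Dual

end Groth.Agent.Lib.R2H7.ComodLDual
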