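/-
Units and automorphisms of the Laurent polynomial ring over a field.
-/
import Mathlib

set_option autoImplicit false
universe u

namespace Groth.Agent.Lib.R2H7.LaurentUnits

open LaurentPolynomial

variable {L : Type u} [Field L]

theorem eq_C_mul_X_pow_of_mul_eq (p p' : Polynomial L) (N : ℕ)
    (h : p * p' = Polynomial.X ^ N) :
    ∃ c : L, c ≠ 0 ∧ ∃ i : ℕ, p = Polynomial.C c * Polynomial.X ^ i := by
  have hd : p ∣ Polynomial.X ^ N := ⟨p', h.symm⟩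
  obtain ⟨i, -, hi⟩ := (dvd_prime_pow Polynomial.prime_X N).mp hd
  obtain ⟨u, hu⟩ := hi
  obtain ⟨r, hr, hru⟩ := Polynomial.isUnit_iff.mp u.isUnit
  refine ⟨r⁻¹, inv_ne_zero hr.ne_zero, i, ?_⟩
  have : p = Polynomial.X ^ i * Polynomial.C r⁻¹ := by
    rw [← hu, ← hru, mul_assoc, ← map_mul, mul_inv_cancel₀ hr.ne_zero, map_one, mul_one]
  rw [this, mul_comm]

theorem exists_of_isUnit (u : L[T;T⁻¹]) (hu : IsUnit u) :
    ∃ c : L, c ≠ 0 ∧ ∃ n : ℤ, u = C c * T n := by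
  obtain ⟨v, huv⟩ := hu.exists_right_inv
  obtain ⟨n, p, hp⟩ := exists_T_pow u
  obtain ⟨m, p', hp'⟩ := exists_T_pow v
  have h1 : p * p' = Polynomial.X ^ (n + m) := by
    apply Polynomial.toLaurent_injective
    rw [map_mul, hp, hp', Polynomial.toLaurent_X_pow]
    calc u * T n * (v * T m) = (u * v) * (T n * T m) := by ring
      _ = T ((n + m : ℕ) : ℤ) := by rw [huv, one_mul, ← T_add, Nat.cast_add]
  obtain ⟨c, hc, i, hpi⟩ := eq_C_mul_X_pow_of_mul_eq p p' _ h1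
  refine ⟨c, hc, (i : ℤ) - n, ?_⟩
  have : u = Polynomial.toLaurent p * T (-n) := by
    rw [hp, mul_T_assoc, add_neg_cancel, T_zero, mul_one]
  rw [this, hpi, Polynomial.toLaurent_C_mul_X_pow, mul_T_assoc, sub_eq_add_neg]

/-- `T` as a unit. -/
noncomputable def tU : (L[T;T⁻¹])ˣ :=
  ⟨T 1, T (-1), by rw [← T_add]; simp, by rw [← T_add]; simp⟩

theorem tU_val : ((tU : (L[T;T⁻¹])ˣ) : L[T;T⁻¹]) = T 1 := rfl

theorem tU_zpow (k : ℤ) : ((tU ^ k : (L[T;T⁻¹])ˣ) : L[T;T⁻¹]) = T k := by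
  induction k using Int.induction_on with
  | zero => simp
  | succ i ih =>
    rw [zpow_add_one, Units.val_mul, ih, T_add]
    rfl
  | pred i ih =>
    rw [zpow_sub_one, Units.val_mul, ih, sub_eq_add_neg, T_add]
    rfl

/-- A nonzero constant as a unit. -/
noncomputable def cU (c : L) (hc : c ≠ 0) : (L[T;T⁻¹])ˣ :=
  Units.map ((C : L →+* L[T;T⁻¹]) : L →* L[T;T⁻¹]) (Units.mk0 c hc)

theorem cU_val (c : L) (hc : c ≠ 0) : ((cU c hc : (L[T;T⁻¹])ˣ) : L[T;T⁻¹]) = C c := rfl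

theorem cU_zpow (c : L) (hc : c ≠ 0) (k : ℤ) :
    ((cU c hc ^ k : (L[T;T⁻¹])ˣ) : L[T;T⁻¹]) = C (c ^ k) := by
  rw [cU, ← map_zpow, Units.coe_map]
  simp

theorem unit_eq (w : (L[T;T⁻¹])ˣ) : ∃ (c : L) (hc : c ≠ 0) (n : ℤ), w = cU c hc * tU ^ n := by
  obtain ⟨c, hc, n, h⟩ := exists_of_isUnit (w : L[T;T⁻¹]) w.isUnit
  refine ⟨c, hc, n, ?_⟩
  apply Units.ext
  rw [h, Units.val_mul, cU_val, tU_zpow]

theorem C_mul_T_inj {c c' : L} (hc : c ≠ 0) (hc' : c' ≠ 0) {n n' : ℤ}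
    (h : (C c * T n : L[T;T⁻¹]) = C c' * T n') : n = n' ∧ c = c' := by
  have h1 := congrArg degree h
  rw [degree_C_mul_T n c hc, degree_C_mul_T n' c' hc'] at h1
  have hn : n = n' := by exact_mod_cast h1
  subst hn
  refine ⟨rfl, ?_⟩
  have h2 := congrArg (fun f : L[T;T⁻¹] => f.coeff n) h
  have e : ∀ a : L, (C a * T n : L[T;T⁻¹]).coeff n = a := by
    intro a
    rw [← single_eq_C_mul_T, AddMonoidAlgebra.coeff_single, Finsupp.single_eq_same]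
  simp only [e] at h2
  exact h2

/-- `L`-algebra maps out of `L[T;T⁻¹]` are determined by the image of `T`. -/
theorem algHom_ext_T {S : Type*} [Ring S] [Algebra L S] (φ₁ φ₂ : L[T;T⁻¹] →ₐ[L] S)
    (h : φ₁ (T 1) = φ₂ (T 1)) : φ₁ = φ₂ := by
  apply AddMonoidAlgebra.algHom_ext
  swap
  · apply AlgHom.ext
    intro a
    change φ₁ (C a) = φ₂ (C a)
    rw [C_eq_algebraMap, AlgHom.commutes, AlgHom.commutes]
  intro m
  change φ₁ (T m) = φ₂ (T m)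
  have hu : Units.map (φ₁ : L[T;T⁻¹] →* S) tU = Units.map (φ₂ : L[T;T⁻¹] →* S) tU :=
    Units.ext h
  have e : ∀ φ : L[T;T⁻¹] →ₐ[L] S, φ (T m) =
      (((Units.map (φ : L[T;T⁻¹] →* S) tU) ^ m : Sˣ) : S) := by
    intro φ
    rw [← map_zpow, Units.coe_map, tU_zpow]
    rfl
  rw [e φ₁, e φ₂, hu]

/-- The shape of an `L`-algebra automorphism of `L[T;T⁻¹]`. -/
theorem exists_eq_C_mul_T (h : L[T;T⁻¹] ≃ₐ[L] L[T;T⁻¹]) :
    ∃ c : L, c ≠ 0 ∧ ∃ ε : ℤ, (ε = 1 ∨ ε = -1) ∧ h (T 1) = C c * T ε := by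
  let hm : L[T;T⁻¹] →* L[T;T⁻¹] := (h : L[T;T⁻¹] →ₐ[L] L[T;T⁻¹])
  let hsm : L[T;T⁻¹] →* L[T;T⁻¹] := (h.symm : L[T;T⁻¹] →ₐ[L] L[T;T⁻¹])
  obtain ⟨c, hc, n, hw⟩ := unit_eq (Units.map hm tU)
  obtain ⟨c', hc', n', hw'⟩ := unit_eq (Units.map hsm tU)
  have hconst : Units.map hm (cU c' hc') = cU c' hc' := by
    apply Units.ext
    change h (C c') = C c'
    rw [C_eq_algebraMap, AlgEquiv.commutes]
  have h1 : Units.map hm (Units.map hsm tU) = tU := by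
    apply Units.ext
    change h (h.symm (T 1)) = T 1
    rw [AlgEquiv.apply_symm_apply]
  rw [hw', map_mul, map_zpow, hconst, hw, mul_zpow, ← zpow_mul] at h1
  have h2 := congrArg (fun w : (L[T;T⁻¹])ˣ => (w : L[T;T⁻¹])) h1
  simp only [Units.val_mul, cU_val, cU_zpow, tU_zpow, tU_val] at h2
  have h3 : (C (c' * c ^ n') * T (n * n') : L[T;T⁻¹]) = C 1 * T 1 := by
    rw [map_mul, map_one, one_mul, ← h2]
    ring
  have hne : c' * c ^ n' ≠ 0 := mul_ne_zero hc' (zpow_ne_zero _ hc)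
  obtain ⟨hnn, -⟩ := C_mul_T_inj hne one_ne_zero h3
  refine ⟨c, hc, n, ?_, ?_⟩
  · exact Int.eq_one_or_neg_one_of_mul_eq_one hnn
  · have := congrArg (fun w : (L[T;T⁻¹])ˣ => (w : L[T;T⁻¹])) hw
    simp only [Units.val_mul, cU_val, tU_zpow] at this
    exact this

end Groth.Agent.Lib.R2H7.LaurentUnits
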