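/-
The coordinate ring of the projective line minus a closed point of degree two:
`R = K[x₀,x₁]_(q)` embeds in `L[T;T⁻¹]` and `L ⊗_K R ≅ L[T;T⁻¹]`.
-/
import Mathlib
import Groth.Agent.Lib.R2H7BinaryQuad
import Groth.Agent.Lib.R2H7LaurentUnits

set_option autoImplicit false
universe u

namespace Groth.Agent.Lib.R2H7.ConicRing

open LaurentPolynomial Groth.Agent.Lib.R2H7.BinaryQuad

attribute [local instance] MvPolynomial.gradedAlgebra

section alg

variable {K : Type u} [Field K]

/-- The degree-zero part of the localization of `K[x₀,x₁]` at `q`. -/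
abbrev Rq (q : MvPolynomial (Fin 2) K) : Type u :=
  HomogeneousLocalization.Away (MvPolynomial.homogeneousSubmodule (Fin 2) K) q

/-- The `K`-algebra structure on `Rq q` extending the scalar action of Mathlib. -/
noncomputable scoped instance algRq (q : MvPolynomial (Fin 2) K) : Algebra K (Rq q) where
  __ := (inferInstance : SMul K (Rq q))
  algebraMap :=
    { toFun := fun k => k • (1 : Rq q)
      map_one' := by
        apply HomogeneousLocalization.val_injective
        rw [HomogeneousLocalization.val_smul, one_smul]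
      map_mul' := fun k₁ k₂ => by
        apply HomogeneousLocalization.val_injective
        rw [HomogeneousLocalization.val_mul, HomogeneousLocalization.val_smul,
          HomogeneousLocalization.val_smul, HomogeneousLocalization.val_smul,
          HomogeneousLocalization.val_one, smul_mul_smul_comm, mul_one]
      map_zero' := by
        apply HomogeneousLocalization.val_injective
        rw [HomogeneousLocalization.val_smul, zero_smul, HomogeneousLocalization.val_zero]
      map_add' := fun k₁ k₂ => by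
        apply HomogeneousLocalization.val_injective
        rw [HomogeneousLocalization.val_add, HomogeneousLocalization.val_smul,
          HomogeneousLocalization.val_smul, HomogeneousLocalization.val_smul, add_smul] }
  commutes' := fun k z => mul_comm _ _
  smul_def' := fun k z => by
    apply HomogeneousLocalization.val_injective
    change (k • z).val = ((k • (1 : Rq q)) * z).val
    rw [HomogeneousLocalization.val_mul, HomogeneousLocalization.val_smul,
      HomogeneousLocalization.val_smul, HomogeneousLocalization.val_one, smul_mul_assoc, one_mul]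

theorem algebraMap_Rq (q : MvPolynomial (Fin 2) K) (k : K) :
    algebraMap K (Rq q) k = k • (1 : Rq q) := rfl

theorem val_algebraMap_Rq (q : MvPolynomial (Fin 2) K) (k : K) :
    (algebraMap K (Rq q) k).val =
      algebraMap (MvPolynomial (Fin 2) K) (Localization.Away q) (MvPolynomial.C k) := by
  rw [algebraMap_Rq, HomogeneousLocalization.val_smul, HomogeneousLocalization.val_one,
    Algebra.smul_def, mul_one]
  rfl

end alg

section psi

variable {K : Type u} [Field K] (a b c : K) [Fact (Irreducible (quad a b c))]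

/-- The Laurent polynomial ring over the quadratic extension. -/
abbrev BL : Type u := (Lq a b c)[T;T⁻¹]

/-- Image of `x₀`. -/
noncomputable def v0 : BL a b c := C (alpha a b c) - C (alphaBar a b c) * T 1

/-- Image of `x₁`. -/
noncomputable def v1 : BL a b c := 1 - T 1

/-- The substitution `x₀ ↦ α - ᾱ T`, `x₁ ↦ 1 - T`. -/
noncomputable def psi0 : MvPolynomial (Fin 2) K →ₐ[K] BL a b c :=
  MvPolynomial.aeval ![v0 a b c, v1 a b c]

theorem psi0_X0 : psi0 a b c (MvPolynomial.X 0) = v0 a b c := by
  rw [psi0, MvPolynomial.aeval_X]; rfl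

theorem psi0_X1 : psi0 a b c (MvPolynomial.X 1) = v1 a b c := by
  rw [psi0, MvPolynomial.aeval_X]; rfl

theorem algebraMap_BL (k : K) :
    algebraMap K (BL a b c) k = C (algebraMap K (Lq a b c) k) :=
  LaurentPolynomial.algebraMap_apply k

theorem psi0_C (k : K) : psi0 a b c (MvPolynomial.C k) = C (algebraMap K (Lq a b c) k) := by
  rw [← algebraMap_BL]
  exact (psi0 a b c).commutes k

/-- The quadratic form itself. -/
noncomputable def qf : MvPolynomial (Fin 2) K :=
  MvPolynomial.C a * MvPolynomial.X 0 ^ 2 + MvPolynomial.C b * MvPolynomial.X 0 * MvPolynomial.X 1 +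
    MvPolynomial.C c * MvPolynomial.X 1 ^ 2

theorem C_mul_psi0_qf (ha : a ≠ 0) : C (algebraMap K (Lq a b c) a) * psi0 a b c (qf a b c) =
    C (algebraMap K (Lq a b c) (b ^ 2 - 4 * a * c)) * T 1 := by
  have hx := congrArg (C : Lq a b c →+* BL a b c) (alpha_eq a b c)
  have hy := congrArg (C : Lq a b c →+* BL a b c) (alphaBar_eq a b c ha)
  have hs := congrArg (C : Lq a b c →+* BL a b c) (vieta_sum a b c ha)
  have hp := congrArg (C : Lq a b c →+* BL a b c) (vieta_prod a b c ha)
  simp only [map_add, map_mul, map_pow, map_zero, map_neg] at hx hy hs hp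
  have hD : (C (algebraMap K (Lq a b c) (b ^ 2 - 4 * a * c)) : BL a b c) =
      C (algebraMap K (Lq a b c) b) ^ 2 - 4 * C (algebraMap K (Lq a b c) a) *
        C (algebraMap K (Lq a b c) c) := by
    simp only [map_sub, map_mul, map_pow, map_ofNat]
  rw [hD, qf]
  simp only [map_add, map_mul, map_pow, psi0_X0, psi0_X1, psi0_C, v0, v1]
  linear_combination C (algebraMap K (Lq a b c) a) * hx +
    C (algebraMap K (Lq a b c) a) * T 1 ^ 2 * hy -
    T 1 * (2 * C (algebraMap K (Lq a b c) a) * hp + C (algebraMap K (Lq a b c) b) * hs)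

/-- `κ = (b² - 4ac)/a`. -/
noncomputable def kappa : Lq a b c := algebraMap K (Lq a b c) ((b ^ 2 - 4 * a * c) / a)

theorem psi0_qf (ha : a ≠ 0) : psi0 a b c (qf a b c) = C (kappa a b c) * T 1 := by
  have h := C_mul_psi0_qf a b c ha
  have hA : algebraMap K (Lq a b c) a ≠ 0 := by
    rw [Ne, map_eq_zero]; exact ha
  have hunit : IsUnit (C (algebraMap K (Lq a b c) a) : BL a b c) :=
    (isUnit_iff_ne_zero.mpr hA).map C
  apply hunit.mul_left_cancel
  rw [h, ← mul_assoc, ← map_mul, kappa, ← map_mul, mul_div_cancel₀ _ ha]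

theorem kappa_ne_zero (ha : a ≠ 0) (hdisc : b ^ 2 - 4 * a * c ≠ 0) : kappa a b c ≠ 0 := by
  rw [kappa, Ne, map_eq_zero]
  exact div_ne_zero hdisc ha

theorem isUnit_psi0_qf (ha : a ≠ 0) (hdisc : b ^ 2 - 4 * a * c ≠ 0) : IsUnit (psi0 a b c (qf a b c)) := by
  rw [psi0_qf a b c ha]
  exact ((isUnit_iff_ne_zero.mpr (kappa_ne_zero a b c ha hdisc)).map C).mul (isUnit_T 1)

theorem isUnit_psi0_powers (ha : a ≠ 0) (hdisc : b ^ 2 - 4 * a * c ≠ 0)
    (y : Submonoid.powers (qf a b c)) :
    IsUnit ((psi0 a b c).toRingHom (y : MvPolynomial (Fin 2) K)) := by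
  obtain ⟨n, hn⟩ := y.2
  change IsUnit (psi0 a b c (y : MvPolynomial (Fin 2) K))
  rw [← hn, map_pow]
  exact (isUnit_psi0_qf a b c ha hdisc).pow n

/-- The induced map on the localization. -/
noncomputable def psiLoc (ha : a ≠ 0) (hdisc : b ^ 2 - 4 * a * c ≠ 0) :
    Localization.Away (qf a b c) →+* BL a b c :=
  IsLocalization.lift (M := Submonoid.powers (qf a b c)) (g := (psi0 a b c).toRingHom)
    (isUnit_psi0_powers a b c ha hdisc)

/-- The embedding of the coordinate ring into the Laurent polynomials. -/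
noncomputable def psi (ha : a ≠ 0) (hdisc : b ^ 2 - 4 * a * c ≠ 0) :
    Rq (qf a b c) →ₐ[K] BL a b c where
  toFun r := psiLoc a b c ha hdisc r.val
  map_one' := by rw [HomogeneousLocalization.val_one, map_one]
  map_mul' r s := by rw [HomogeneousLocalization.val_mul, map_mul]
  map_zero' := by rw [HomogeneousLocalization.val_zero, map_zero]
  map_add' r s := by rw [HomogeneousLocalization.val_add, map_add]
  commutes' k := by
    rw [val_algebraMap_Rq, psiLoc, IsLocalization.lift_eq]
    exact (psi0 a b c).commutes k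

theorem qf_mem : qf a b c ∈ MvPolynomial.homogeneousSubmodule (Fin 2) K 2 := by
  rw [MvPolynomial.mem_homogeneousSubmodule, qf]
  apply MvPolynomial.IsHomogeneous.add
  apply MvPolynomial.IsHomogeneous.add
  · exact MvPolynomial.isHomogeneous_C_mul_X_pow a 0 2
  · have h1 : (MvPolynomial.C b * MvPolynomial.X 0 : MvPolynomial (Fin 2) K).IsHomogeneous 1 :=
      MvPolynomial.isHomogeneous_C_mul_X b 0
    exact h1.mul (MvPolynomial.isHomogeneous_X K 1)
  · exact MvPolynomial.isHomogeneous_C_mul_X_pow c 1 2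

/-- The defining property of `psi`. -/
theorem psi_mk_mul (ha : a ≠ 0) (hdisc : b ^ 2 - 4 * a * c ≠ 0) (n : ℕ) (f : MvPolynomial (Fin 2) K)
    (hf : f ∈ MvPolynomial.homogeneousSubmodule (Fin 2) K (n • 2)) :
    psi a b c ha hdisc (HomogeneousLocalization.Away.mk
      (MvPolynomial.homogeneousSubmodule (Fin 2) K) (qf_mem a b c) n f hf) *
      psi0 a b c (qf a b c) ^ n = psi0 a b c f := by
  change psiLoc a b c ha hdisc (HomogeneousLocalization.Away.mk _ (qf_mem a b c) n f hf).val * _ = _
  rw [HomogeneousLocalization.Away.val_mk, Localization.mk_eq_mk', psiLoc, mul_comm, ← map_pow]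
  exact ((IsLocalization.lift_mk'_spec _ _ _ _).mp rfl).symm

end psi

section homog

variable {K : Type u} [Field K]

/-- Scaling all variables by `u` scales a form of degree `d` by `u^d`. -/
theorem aeval_mul_of_isHomogeneous {S : Type*} [CommRing S] [Algebra K S] (u : S) (v : Fin 2 → S)
    (f : MvPolynomial (Fin 2) K) (d : ℕ) (hf : f.IsHomogeneous d) :
    MvPolynomial.aeval (fun i => u * v i) f = u ^ d * MvPolynomial.aeval v f := by
  rw [MvPolynomial.aeval_def, MvPolynomial.aeval_def, MvPolynomial.eval₂_eq, MvPolynomial.eval₂_eq,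
    Finset.mul_sum]
  apply Finset.sum_congr rfl
  intro m hm
  have hd : d = ∑ i ∈ m.support, m i := hf.degree_eq_sum_deg_support hm
  have : ∏ i ∈ m.support, (u * v i) ^ m i = u ^ d * ∏ i ∈ m.support, v i ^ m i := by
    rw [hd, ← Finset.prod_pow_eq_pow_sum, ← Finset.prod_mul_distrib]
    apply Finset.prod_congr rfl
    intro i _
    rw [mul_pow]
  rw [this]
  ring

end homog

section inj

variable {K : Type u} [Field K] (a b c : K) [Fact (Irreducible (quad a b c))]

/-- Polynomials over `L`. -/
abbrev PL : Type u := MvPolynomial (Fin 2) (Lq a b c)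

/-- Their fraction field. -/
abbrev FL : Type u := FractionRing (PL a b c)

/-- `ℓ₁ = x₀ - α x₁`. -/
noncomputable def ell1 : PL a b c := MvPolynomial.X 0 - MvPolynomial.C (alpha a b c) * MvPolynomial.X 1

/-- `ℓ₂ = x₀ - ᾱ x₁`. -/
noncomputable def ell2 : PL a b c :=
  MvPolynomial.X 0 - MvPolynomial.C (alphaBar a b c) * MvPolynomial.X 1

theorem ell_ne_zero (γ : Lq a b c) :
    (MvPolynomial.X 0 - MvPolynomial.C γ * MvPolynomial.X 1 : PL a b c) ≠ 0 := by
  intro h
  have h1 := congrArg (MvPolynomial.eval (![1, 0] : Fin 2 → Lq a b c)) h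
  simp at h1

theorem ell1_ne_zero : algebraMap (PL a b c) (FL a b c) (ell1 a b c) ≠ 0 := by
  rw [Ne, map_eq_zero_iff _ (IsFractionRing.injective (PL a b c) (FL a b c))]
  exact ell_ne_zero a b c _

theorem ell2_ne_zero : algebraMap (PL a b c) (FL a b c) (ell2 a b c) ≠ 0 := by
  rw [Ne, map_eq_zero_iff _ (IsFractionRing.injective (PL a b c) (FL a b c))]
  exact ell_ne_zero a b c _

/-- `t = ℓ₁/ℓ₂` as a unit of the fraction field. -/
noncomputable def tF : (FL a b c)ˣ :=
  Units.mk0 (algebraMap (PL a b c) (FL a b c) (ell1 a b c) /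
    algebraMap (PL a b c) (FL a b c) (ell2 a b c))
    (div_ne_zero (ell1_ne_zero a b c) (ell2_ne_zero a b c))

/-- The evaluation `T ↦ ℓ₁/ℓ₂`. -/
noncomputable def chi : BL a b c →+* FL a b c :=
  LaurentPolynomial.eval₂ (algebraMap (Lq a b c) (FL a b c)) (tF a b c)

theorem chi_C (l : Lq a b c) : chi a b c (C l) = algebraMap (Lq a b c) (FL a b c) l := by
  rw [chi, LaurentPolynomial.eval₂_C]

theorem chi_T1 : chi a b c (T 1) = algebraMap (PL a b c) (FL a b c) (ell1 a b c) /
    algebraMap (PL a b c) (FL a b c) (ell2 a b c) := by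
  rw [chi, LaurentPolynomial.eval₂_T, zpow_one]
  rfl

/-- The scaling factor `(α - ᾱ)/ℓ₂`. -/
noncomputable def uF : FL a b c :=
  algebraMap (Lq a b c) (FL a b c) (alpha a b c - alphaBar a b c) /
    algebraMap (PL a b c) (FL a b c) (ell2 a b c)

theorem algebraMap_L_FL (l : Lq a b c) : algebraMap (Lq a b c) (FL a b c) l =
    algebraMap (PL a b c) (FL a b c) (MvPolynomial.C l) := by
  rw [IsScalarTower.algebraMap_apply (Lq a b c) (PL a b c) (FL a b c)]
  rfl

theorem algebraMap_ell1 : algebraMap (PL a b c) (FL a b c) (ell1 a b c) =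
    algebraMap (PL a b c) (FL a b c) (MvPolynomial.X 0) -
      algebraMap (PL a b c) (FL a b c) (MvPolynomial.C (alpha a b c)) *
        algebraMap (PL a b c) (FL a b c) (MvPolynomial.X 1) := by
  rw [ell1, map_sub, map_mul]

theorem algebraMap_ell2 : algebraMap (PL a b c) (FL a b c) (ell2 a b c) =
    algebraMap (PL a b c) (FL a b c) (MvPolynomial.X 0) -
      algebraMap (PL a b c) (FL a b c) (MvPolynomial.C (alphaBar a b c)) *
        algebraMap (PL a b c) (FL a b c) (MvPolynomial.X 1) := by
  rw [ell2, map_sub, map_mul]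

theorem chi_v0 : chi a b c (v0 a b c) =
    uF a b c * algebraMap (PL a b c) (FL a b c) (MvPolynomial.X 0) := by
  have h2 := ell2_ne_zero a b c
  rw [v0, map_sub, map_mul, chi_C, chi_C, chi_T1, uF, algebraMap_L_FL, algebraMap_L_FL,
    algebraMap_L_FL, map_sub MvPolynomial.C, map_sub (algebraMap (PL a b c) (FL a b c)),
    algebraMap_ell1]
  rw [algebraMap_ell2] at h2 ⊢
  generalize algebraMap (PL a b c) (FL a b c) (MvPolynomial.X 0) = x0 at h2 ⊢
  generalize algebraMap (PL a b c) (FL a b c) (MvPolynomial.X 1) = x1 at h2 ⊢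
  generalize algebraMap (PL a b c) (FL a b c) (MvPolynomial.C (alpha a b c)) = ca at h2 ⊢
  generalize algebraMap (PL a b c) (FL a b c) (MvPolynomial.C (alphaBar a b c)) = cb at h2 ⊢
  field_simp
  ring

theorem chi_v1 : chi a b c (v1 a b c) =
    uF a b c * algebraMap (PL a b c) (FL a b c) (MvPolynomial.X 1) := by
  have h2 := ell2_ne_zero a b c
  rw [v1, map_sub, map_one, chi_T1, uF, algebraMap_L_FL, map_sub MvPolynomial.C,
    map_sub (algebraMap (PL a b c) (FL a b c)), algebraMap_ell1]
  rw [algebraMap_ell2] at h2 ⊢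
  generalize algebraMap (PL a b c) (FL a b c) (MvPolynomial.X 0) = x0 at h2 ⊢
  generalize algebraMap (PL a b c) (FL a b c) (MvPolynomial.X 1) = x1 at h2 ⊢
  generalize algebraMap (PL a b c) (FL a b c) (MvPolynomial.C (alpha a b c)) = ca at h2 ⊢
  generalize algebraMap (PL a b c) (FL a b c) (MvPolynomial.C (alphaBar a b c)) = cb at h2 ⊢
  have h3 : x0 - x1 * cb ≠ 0 := by rwa [mul_comm x1 cb]
  rw [div_mul_eq_mul_div, eq_div_iff h2, sub_mul, div_mul_cancel₀ _ h2]
  ring

theorem chi_comp_psi0 : (chi a b c).comp (psi0 a b c).toRingHom =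
    (MvPolynomial.aeval (R := K) (fun i : Fin 2 =>
      uF a b c * algebraMap (PL a b c) (FL a b c) (MvPolynomial.X i))).toRingHom := by
  apply MvPolynomial.ringHom_ext
  · intro k
    change chi a b c (psi0 a b c (MvPolynomial.C k)) = MvPolynomial.aeval _ (MvPolynomial.C k)
    rw [psi0_C, chi_C, MvPolynomial.aeval_C]
    exact (IsScalarTower.algebraMap_apply K (Lq a b c) (FL a b c) k).symm
  · intro i
    change chi a b c (psi0 a b c (MvPolynomial.X i)) = MvPolynomial.aeval _ (MvPolynomial.X i)
    rw [MvPolynomial.aeval_X]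
    fin_cases i
    · exact (congrArg (chi a b c) (psi0_X0 a b c)).trans (chi_v0 a b c)
    · exact (congrArg (chi a b c) (psi0_X1 a b c)).trans (chi_v1 a b c)

theorem aeval_X_FL : (MvPolynomial.aeval (R := K) (fun i : Fin 2 =>
      algebraMap (PL a b c) (FL a b c) (MvPolynomial.X i))).toRingHom =
    (algebraMap (PL a b c) (FL a b c)).comp (MvPolynomial.map (algebraMap K (Lq a b c))) := by
  apply MvPolynomial.ringHom_ext
  · intro k
    change MvPolynomial.aeval _ (MvPolynomial.C k) =
      algebraMap (PL a b c) (FL a b c) (MvPolynomial.map _ (MvPolynomial.C k))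
    rw [MvPolynomial.aeval_C, MvPolynomial.map_C, ← algebraMap_L_FL]
    exact IsScalarTower.algebraMap_apply K (Lq a b c) (FL a b c) k
  · intro i
    change MvPolynomial.aeval _ (MvPolynomial.X i) =
      algebraMap (PL a b c) (FL a b c) (MvPolynomial.map _ (MvPolynomial.X i))
    rw [MvPolynomial.aeval_X, MvPolynomial.map_X]

/-- `psi0` is injective on forms. -/
theorem eq_zero_of_psi0_eq_zero (hne : alpha a b c - alphaBar a b c ≠ 0)
    (f : MvPolynomial (Fin 2) K) (d : ℕ) (hf : f.IsHomogeneous d)
    (h : psi0 a b c f = 0) : f = 0 := by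
  have h1 : chi a b c (psi0 a b c f) = 0 := by rw [h, map_zero]
  have h2 := RingHom.congr_fun (chi_comp_psi0 a b c) f
  change chi a b c (psi0 a b c f) = MvPolynomial.aeval _ f at h2
  rw [h1, aeval_mul_of_isHomogeneous (uF a b c) _ f d hf] at h2
  have hu : uF a b c ≠ 0 := by
    rw [uF]
    refine div_ne_zero ?_ (ell2_ne_zero a b c)
    rw [Ne, map_eq_zero]
    exact hne
  have h3 := (mul_eq_zero.mp h2.symm).resolve_left (pow_ne_zero d hu)
  have h4 := RingHom.congr_fun (aeval_X_FL a b c) f
  change MvPolynomial.aeval _ f = algebraMap (PL a b c) (FL a b c) (MvPolynomial.map _ f) at h4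
  rw [h3] at h4
  have h5 : MvPolynomial.map (algebraMap K (Lq a b c)) f = 0 :=
    (map_eq_zero_iff _ (IsFractionRing.injective (PL a b c) (FL a b c))).mp h4.symm
  exact (map_eq_zero_iff _ (MvPolynomial.map_injective _ (algebraMap K (Lq a b c)).injective)).mp h5

theorem psi_injective (ha : a ≠ 0) (hdisc : b ^ 2 - 4 * a * c ≠ 0) :
    Function.Injective (psi a b c ha hdisc) := by
  rw [injective_iff_map_eq_zero]
  intro r hr
  obtain ⟨n, f, hf, rfl⟩ := HomogeneousLocalization.Away.mk_surjective
    (MvPolynomial.homogeneousSubmodule (Fin 2) K) (qf_mem a b c) r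
  have h1 := psi_mk_mul a b c ha hdisc n f hf
  rw [hr, zero_mul] at h1
  have hf0 : f = 0 := eq_zero_of_psi0_eq_zero a b c (alpha_sub_ne_zero a b c ha hdisc) f (n • 2)
    ((MvPolynomial.mem_homogeneousSubmodule _ _).mp hf) h1.symm
  apply HomogeneousLocalization.val_injective
  rw [HomogeneousLocalization.Away.val_mk, HomogeneousLocalization.val_zero]
  subst hf0
  exact Localization.mk_zero _

end inj

end Groth.Agent.Lib.R2H7.ConicRing
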