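/-
The conjugation `τ` on `L[T;T⁻¹]` fixing the image of the coordinate ring, and the isomorphism
`L ⊗_K R ≅ L[T;T⁻¹]`.
-/
import Mathlib
import Groth.Agent.Lib.R2H7ConicRing

set_option autoImplicit false
universe u

namespace Groth.Agent.Lib.R2H7.ConicRing

open LaurentPolynomial Groth.Agent.Lib.R2H7.BinaryQuad TensorProduct

attribute [local instance] MvPolynomial.gradedAlgebra

section tau

variable {K : Type u} [Field K] (a b c : K) [Fact (Irreducible (quad a b c))] (ha : a ≠ 0)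

/-- The `σ`-semilinear ring endomorphism of `L[T;T⁻¹]` with `T ↦ T⁻¹`. -/
noncomputable def tau : BL a b c →+* BL a b c :=
  ((LaurentPolynomial.invert (R := Lq a b c)).toAlgHom.toRingHom).comp
    (AddMonoidAlgebra.mapRingHom ℤ (sigma a b c ha).toRingHom)

theorem tau_C (l : Lq a b c) : tau a b c ha (C l) = C (sigma a b c ha l) := by
  rw [tau, RingHom.comp_apply, ← single_eq_C, AddMonoidAlgebra.mapRingHom_single, single_eq_C]
  exact invert_C _

theorem tau_T (n : ℤ) : tau a b c ha (T n) = T (-n) := by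
  rw [tau, RingHom.comp_apply]
  have : (T n : BL a b c) = AddMonoidAlgebra.single n 1 := rfl
  rw [this, AddMonoidAlgebra.mapRingHom_single]
  have h1 : (sigma a b c ha).toRingHom 1 = 1 := map_one _
  rw [h1]
  exact invert_T n

theorem tau_algebraMap (k : K) : tau a b c ha (algebraMap K (BL a b c) k) =
    algebraMap K (BL a b c) k := by
  rw [algebraMap_BL, tau_C, AlgHom.commutes]

theorem T_neg_one_mul_T_one : (T (-1) * T 1 : BL a b c) = 1 := by
  rw [← T_add]; simp

theorem tau_v0 : tau a b c ha (v0 a b c) = -T (-1) * v0 a b c := by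
  rw [v0, map_sub, map_mul, tau_C, tau_C, tau_T, sigma_alpha, sigma_alphaBar]
  have h := T_neg_one_mul_T_one a b c
  linear_combination (-C (alphaBar a b c)) * h

theorem tau_v1 : tau a b c ha (v1 a b c) = -T (-1) * v1 a b c := by
  rw [v1, map_sub, map_one, tau_T]
  have h := T_neg_one_mul_T_one a b c
  linear_combination -h

theorem tau_comp_psi0 : (tau a b c ha).comp (psi0 a b c).toRingHom =
    (MvPolynomial.aeval (R := K) (fun i : Fin 2 => -T (-1) * ![v0 a b c, v1 a b c] i)).toRingHom := by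
  apply MvPolynomial.ringHom_ext
  · intro k
    change tau a b c ha (psi0 a b c (MvPolynomial.C k)) = MvPolynomial.aeval _ (MvPolynomial.C k)
    rw [psi0_C, tau_C, AlgHom.commutes, MvPolynomial.aeval_C, algebraMap_BL]
  · intro i
    change tau a b c ha (psi0 a b c (MvPolynomial.X i)) = MvPolynomial.aeval _ (MvPolynomial.X i)
    rw [MvPolynomial.aeval_X]
    fin_cases i
    · exact (congrArg (tau a b c ha) (psi0_X0 a b c)).trans (tau_v0 a b c ha)
    · exact (congrArg (tau a b c ha) (psi0_X1 a b c)).trans (tau_v1 a b c ha)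

theorem tau_psi0 (f : MvPolynomial (Fin 2) K) (d : ℕ) (hf : f.IsHomogeneous d) :
    tau a b c ha (psi0 a b c f) = (-T (-1)) ^ d * psi0 a b c f := by
  have h := RingHom.congr_fun (tau_comp_psi0 a b c ha) f
  change tau a b c ha (psi0 a b c f) = MvPolynomial.aeval _ f at h
  rw [h, aeval_mul_of_isHomogeneous (-T (-1)) _ f d hf]
  rfl

/-- `τ` fixes the image of the coordinate ring. -/
theorem tau_psi (hdisc : b ^ 2 - 4 * a * c ≠ 0) (r : Rq (qf a b c)) :
    tau a b c ha (psi a b c ha hdisc r) = psi a b c ha hdisc r := by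
  obtain ⟨n, f, hf, rfl⟩ := HomogeneousLocalization.Away.mk_surjective
    (MvPolynomial.homogeneousSubmodule (Fin 2) K) (qf_mem a b c) r
  have h1 := psi_mk_mul a b c ha hdisc n f hf
  have h2 := congrArg (tau a b c ha) h1
  rw [map_mul, map_pow, tau_psi0 a b c ha _ 2 ((MvPolynomial.mem_homogeneousSubmodule _ _).mp
    (qf_mem a b c)), tau_psi0 a b c ha f (n • 2) ((MvPolynomial.mem_homogeneousSubmodule _ _).mp hf),
    ← h1] at h2
  have hu : IsUnit (((-T (-1) : BL a b c) ^ 2 * psi0 a b c (qf a b c)) ^ n) := by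
    apply IsUnit.pow
    apply IsUnit.mul
    · exact ((isUnit_T (-1) : IsUnit (T (-1) : BL a b c)).neg).pow 2
    · exact isUnit_psi0_qf a b c ha hdisc
  apply hu.mul_right_cancel
  rw [h2, smul_eq_mul, mul_pow, ← pow_mul, mul_comm 2 n]
  ring

end tau

section Psi

variable {K : Type u} [Field K] (a b c : K) [Fact (Irreducible (quad a b c))] (ha : a ≠ 0)
  (hdisc : b ^ 2 - 4 * a * c ≠ 0)

/-- The `L`-linear extension of `psi`. -/
noncomputable def Psi : Lq a b c ⊗[K] Rq (qf a b c) →ₐ[Lq a b c] BL a b c :=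
  Algebra.TensorProduct.lift (Algebra.ofId (Lq a b c) (BL a b c)) (psi a b c ha hdisc)
    (fun _ _ => Commute.all _ _)

theorem Psi_tmul (l : Lq a b c) (r : Rq (qf a b c)) :
    Psi a b c ha hdisc (l ⊗ₜ[K] r) = C l * psi a b c ha hdisc r := by
  rw [Psi, Algebra.TensorProduct.lift_tmul]
  rfl

include ha in
/-- Every element of `L` is `k₁ + k₂ α`. -/
theorem exists_rep_L (l : Lq a b c) : ∃ k₁ k₂ : K,
    l = algebraMap K (Lq a b c) k₁ + algebraMap K (Lq a b c) k₂ * alpha a b c := by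
  obtain ⟨p, rfl⟩ := AdjoinRoot.mk_surjective l
  have hq0 : quad a b c ≠ 0 := (Fact.out : Irreducible (quad a b c)).ne_zero
  have hp : AdjoinRoot.mk (quad a b c) p = AdjoinRoot.mk (quad a b c) (p % quad a b c) := by
    conv_lhs => rw [← EuclideanDomain.div_add_mod p (quad a b c)]
    rw [map_add, map_mul, AdjoinRoot.mk_self, zero_mul, zero_add]
  have hdeg : (p % quad a b c).degree < 2 := by
    have h1 := EuclideanDomain.mod_lt p hq0
    have h2 : (quad a b c).degree = 2 := by
      rw [quad]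
      exact Polynomial.degree_quadratic ha
    rw [← h2]
    exact h1
  rw [hp]
  generalize p % quad a b c = r at hdeg
  have hle : r.degree ≤ 1 := by
    have : (2 : WithBot ℕ) = Order.succ 1 := rfl
    exact Order.le_of_lt_succ (this ▸ hdeg)
  have hr := Polynomial.eq_X_add_C_of_degree_le_one hle
  refine ⟨r.coeff 0, r.coeff 1, ?_⟩
  conv_lhs => rw [hr]
  rw [map_add, map_mul, AdjoinRoot.mk_C, AdjoinRoot.mk_C, AdjoinRoot.mk_X, add_comm,
    AdjoinRoot.algebraMap_eq]
  rfl

include ha in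
/-- Every element of `L ⊗ R` is `1 ⊗ r₁ + α ⊗ r₂`. -/
theorem exists_rep_tensor (x : Lq a b c ⊗[K] Rq (qf a b c)) : ∃ r₁ r₂ : Rq (qf a b c),
    x = (1 : Lq a b c) ⊗ₜ[K] r₁ + alpha a b c ⊗ₜ[K] r₂ := by
  induction x using TensorProduct.induction_on with
  | zero => exact ⟨0, 0, by rw [tmul_zero, tmul_zero, add_zero]⟩
  | tmul l r =>
    obtain ⟨k₁, k₂, rfl⟩ := exists_rep_L a b c ha l
    refine ⟨k₁ • r, k₂ • r, ?_⟩
    rw [add_tmul, Algebra.algebraMap_eq_smul_one, Algebra.algebraMap_eq_smul_one, smul_mul_assoc,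
      one_mul, smul_tmul, smul_tmul]
  | add x y hx hy =>
    obtain ⟨r₁, r₂, rfl⟩ := hx
    obtain ⟨s₁, s₂, rfl⟩ := hy
    refine ⟨r₁ + s₁, r₂ + s₂, ?_⟩
    rw [tmul_add, tmul_add]
    abel

theorem Psi_injective : Function.Injective (Psi a b c ha hdisc) := by
  rw [injective_iff_map_eq_zero]
  intro x hx
  obtain ⟨r₁, r₂, rfl⟩ := exists_rep_tensor a b c ha x
  rw [map_add, Psi_tmul, Psi_tmul, map_one, one_mul] at hx
  have hx2 := congrArg (tau a b c ha) hx
  rw [map_add, map_mul, tau_psi, tau_psi, tau_C, sigma_alpha, map_zero] at hx2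
  have h3 : C (alpha a b c - alphaBar a b c) * psi a b c ha hdisc r₂ = 0 := by
    rw [map_sub]
    linear_combination hx - hx2
  have hne := alpha_sub_ne_zero a b c ha hdisc
  have hu : IsUnit (C (alpha a b c - alphaBar a b c) : BL a b c) :=
    (isUnit_iff_ne_zero.mpr hne).map C
  have h4 : psi a b c ha hdisc r₂ = 0 := by
    apply hu.mul_left_cancel
    rw [h3, mul_zero]
  have hr₂ : r₂ = 0 := psi_injective a b c ha hdisc (h4.trans (map_zero _).symm)
  rw [h4, mul_zero, add_zero] at hx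
  have hr₁ : r₁ = 0 := psi_injective a b c ha hdisc (hx.trans (map_zero _).symm)
  rw [hr₁, hr₂, tmul_zero, tmul_zero, add_zero]

theorem XX_mem (i j : Fin 2) : (MvPolynomial.X i * MvPolynomial.X j : MvPolynomial (Fin 2) K) ∈
    MvPolynomial.homogeneousSubmodule (Fin 2) K (1 • 2) := by
  rw [MvPolynomial.mem_homogeneousSubmodule]
  exact (MvPolynomial.isHomogeneous_X K i).mul (MvPolynomial.isHomogeneous_X K j)

/-- The generators `x_i x_j / q`. -/
noncomputable def eij (i j : Fin 2) : Rq (qf a b c) :=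
  HomogeneousLocalization.Away.mk (MvPolynomial.homogeneousSubmodule (Fin 2) K) (qf_mem a b c) 1
    (MvPolynomial.X i * MvPolynomial.X j) (XX_mem i j)

theorem psi_eij (i j : Fin 2) : psi a b c ha hdisc (eij a b c i j) * (C (kappa a b c) * T 1) =
    ![v0 a b c, v1 a b c] i * ![v0 a b c, v1 a b c] j := by
  have h := psi_mk_mul a b c ha hdisc 1 (MvPolynomial.X i * MvPolynomial.X j) (XX_mem i j)
  rw [pow_one, psi0_qf a b c ha, map_mul] at h
  rw [eij, h]
  fin_cases i <;> fin_cases j <;> simp [psi0_X0, psi0_X1]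

include ha hdisc in
theorem kappa_eq : algebraMap K (Lq a b c) a * (alpha a b c - alphaBar a b c) ^ 2 =
    kappa a b c := by
  have hA : algebraMap K (Lq a b c) a ≠ 0 := by
    rw [Ne, map_eq_zero]; exact ha
  apply mul_left_cancel₀ hA
  rw [← mul_assoc, ← pow_two, disc_eq a b c ha, kappa, ← map_mul, mul_div_cancel₀ _ ha]

theorem T1_mem_range : (T 1 : BL a b c) ∈ (Psi a b c ha hdisc).range := by
  let θ : Lq a b c ⊗[K] Rq (qf a b c) := (1 : Lq a b c) ⊗ₜ[K] eij a b c 0 0 -
    (2 * alpha a b c) ⊗ₜ[K] eij a b c 0 1 + (alpha a b c ^ 2) ⊗ₜ[K] eij a b c 1 1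
  have hκ := kappa_ne_zero a b c ha hdisc
  have hne := alpha_sub_ne_zero a b c ha hdisc
  have hunit : IsUnit (C (kappa a b c) * T 1 : BL a b c) :=
    ((isUnit_iff_ne_zero.mpr hκ).map C).mul (isUnit_T 1)
  have h1 : Psi a b c ha hdisc θ * (C (kappa a b c) * T 1) =
      (C ((alpha a b c - alphaBar a b c) ^ 2) * T 1) * T 1 := by
    simp only [θ, map_add, map_sub, Psi_tmul, add_mul, sub_mul, mul_assoc, psi_eij]
    simp only [Matrix.cons_val_zero, Matrix.cons_val_one, v0, v1, map_one, map_mul, map_pow,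
      map_sub, map_ofNat]
    ring
  have h2 : Psi a b c ha hdisc θ =
      C ((alpha a b c - alphaBar a b c) ^ 2 * (kappa a b c)⁻¹) * T 1 := by
    apply hunit.mul_right_cancel
    rw [h1, map_mul]
    have : (C (kappa a b c)⁻¹ * C (kappa a b c) : BL a b c) = 1 := by
      rw [← map_mul, inv_mul_cancel₀ hκ, map_one]
    linear_combination (-(C ((alpha a b c - alphaBar a b c) ^ 2) * T 1 * T 1)) * this
  have hμ : (alpha a b c - alphaBar a b c) ^ 2 * (kappa a b c)⁻¹ ≠ 0 :=
    mul_ne_zero (pow_ne_zero 2 hne) (inv_ne_zero hκ)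
  have h3 : (T 1 : BL a b c) = Psi a b c ha hdisc
      (((alpha a b c - alphaBar a b c) ^ 2 * (kappa a b c)⁻¹)⁻¹ • θ) := by
    rw [map_smul, h2, LaurentPolynomial.smul_eq_C_mul, ← mul_assoc, ← map_mul,
      inv_mul_cancel₀ hμ, map_one, one_mul]
  rw [h3]
  exact AlgHom.mem_range_self _ _

theorem Tneg1_mem_range : (T (-1) : BL a b c) ∈ (Psi a b c ha hdisc).range := by
  let θ : Lq a b c ⊗[K] Rq (qf a b c) := (1 : Lq a b c) ⊗ₜ[K] eij a b c 0 0 -
    (2 * alphaBar a b c) ⊗ₜ[K] eij a b c 0 1 + (alphaBar a b c ^ 2) ⊗ₜ[K] eij a b c 1 1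
  have hκ := kappa_ne_zero a b c ha hdisc
  have hne := alpha_sub_ne_zero a b c ha hdisc
  have hunit : IsUnit (C (kappa a b c) * T 1 : BL a b c) :=
    ((isUnit_iff_ne_zero.mpr hκ).map C).mul (isUnit_T 1)
  have h1 : Psi a b c ha hdisc θ * (C (kappa a b c) * T 1) =
      C ((alpha a b c - alphaBar a b c) ^ 2) := by
    simp only [θ, map_add, map_sub, Psi_tmul, add_mul, sub_mul, mul_assoc, psi_eij]
    simp only [Matrix.cons_val_zero, Matrix.cons_val_one, v0, v1, map_one, map_mul, map_pow,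
      map_sub, map_ofNat]
    ring
  have hTT := T_neg_one_mul_T_one a b c
  have h2 : Psi a b c ha hdisc θ =
      C ((alpha a b c - alphaBar a b c) ^ 2 * (kappa a b c)⁻¹) * T (-1) := by
    apply hunit.mul_right_cancel
    rw [h1, map_mul]
    have : (C (kappa a b c)⁻¹ * C (kappa a b c) : BL a b c) = 1 := by
      rw [← map_mul, inv_mul_cancel₀ hκ, map_one]
    linear_combination (-(C ((alpha a b c - alphaBar a b c) ^ 2))) * this -
      (C ((alpha a b c - alphaBar a b c) ^ 2) * C (kappa a b c)⁻¹ * C (kappa a b c)) * hTT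
  have hμ : (alpha a b c - alphaBar a b c) ^ 2 * (kappa a b c)⁻¹ ≠ 0 :=
    mul_ne_zero (pow_ne_zero 2 hne) (inv_ne_zero hκ)
  have h3 : (T (-1) : BL a b c) = Psi a b c ha hdisc
      (((alpha a b c - alphaBar a b c) ^ 2 * (kappa a b c)⁻¹)⁻¹ • θ) := by
    rw [map_smul, h2, LaurentPolynomial.smul_eq_C_mul, ← mul_assoc, ← map_mul,
      inv_mul_cancel₀ hμ, map_one, one_mul]
  rw [h3]
  exact AlgHom.mem_range_self _ _

theorem Psi_surjective : Function.Surjective (Psi a b c ha hdisc) := by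
  rw [← AlgHom.range_eq_top, eq_top_iff]
  intro f hf
  clear hf
  induction f using LaurentPolynomial.induction_on' with
  | add p q hp hq => exact add_mem hp hq
  | C_mul_T n l =>
    apply mul_mem
    · rw [LaurentPolynomial.C_eq_algebraMap]
      exact Subalgebra.algebraMap_mem _ l
    · obtain ⟨k, rfl | rfl⟩ := Int.eq_nat_or_neg n
      · have : (T (k : ℤ) : BL a b c) = T 1 ^ k := by rw [T_pow, mul_one]
        rw [this]
        exact pow_mem (T1_mem_range a b c ha hdisc) k
      · have : (T (-(k : ℤ)) : BL a b c) = T (-1) ^ k := by rw [T_pow, mul_neg, mul_one]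
        rw [this]
        exact pow_mem (Tneg1_mem_range a b c ha hdisc) k

/-- `L ⊗_K R ≅ L[T;T⁻¹]`. -/
noncomputable def PsiEquiv : (Lq a b c ⊗[K] Rq (qf a b c)) ≃ₐ[Lq a b c] BL a b c :=
  AlgEquiv.ofBijective (Psi a b c ha hdisc)
    ⟨Psi_injective a b c ha hdisc, Psi_surjective a b c ha hdisc⟩

theorem PsiEquiv_tmul (l : Lq a b c) (r : Rq (qf a b c)) :
    PsiEquiv a b c ha hdisc (l ⊗ₜ[K] r) = C l * psi a b c ha hdisc r :=
  Psi_tmul a b c ha hdisc l r

end Psi

end Groth.Agent.Lib.R2H7.ConicRing
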