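/-
Finite groups of automorphisms of `L[T;T⁻¹]` commuting with a semilinear involution `T ↦ T⁻¹`:
they have exponent two and at most four elements (when the fixed field of the involution contains
all roots of unity).
-/
import Mathlib
import Groth.Agent.Lib.R2H7LaurentUnits

set_option autoImplicit false
universe u

namespace Groth.Agent.Lib.R2H7.LaurentAut

open LaurentPolynomial Groth.Agent.Lib.R2H7.LaurentUnits

/-- The group of `L`-algebra automorphisms of the Laurent polynomial ring. -/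
abbrev AutL (L : Type u) [Field L] : Type u := L[T;T⁻¹] ≃ₐ[L] L[T;T⁻¹]

section basic

variable {L : Type u} [Field L]

theorem apply_C (h : AutL L) (l : L) : h (C l) = C l := by
  rw [C_eq_algebraMap, AlgEquiv.commutes]

theorem apply_T (h : AutL L) {c : L} (hc : c ≠ 0) {ε : ℤ} (he : h (T 1) = C c * T ε) (k : ℤ) :
    h (T k) = C (c ^ k) * T (ε * k) := by
  let hm : L[T;T⁻¹] →* L[T;T⁻¹] := (h : L[T;T⁻¹] →ₐ[L] L[T;T⁻¹])
  have hw : Units.map hm tU = cU c hc * tU ^ ε := by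
    apply Units.ext
    rw [Units.val_mul, cU_val, tU_zpow]
    exact he
  have h1 : h (T k) = ((Units.map hm tU ^ k : (L[T;T⁻¹])ˣ) : L[T;T⁻¹]) := by
    rw [← map_zpow, Units.coe_map, tU_zpow]
    rfl
  rw [h1, hw, mul_zpow, ← zpow_mul, Units.val_mul, cU_zpow, tU_zpow]

theorem mul_apply_T (h₁ h₂ : AutL L) {c₁ c₂ : L} (hc₁ : c₁ ≠ 0) {ε₁ ε₂ : ℤ}
    (he₁ : h₁ (T 1) = C c₁ * T ε₁) (he₂ : h₂ (T 1) = C c₂ * T ε₂) :
    (h₁ * h₂) (T 1) = C (c₂ * c₁ ^ ε₂) * T (ε₁ * ε₂) := by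
  rw [AlgEquiv.mul_apply, he₂, map_mul, apply_C, apply_T h₁ hc₁ he₁, map_mul, mul_assoc]

theorem eq_of_apply_T (h₁ h₂ : AutL L) (h : h₁ (T 1) = h₂ (T 1)) : h₁ = h₂ := by
  have := algHom_ext_T (h₁ : L[T;T⁻¹] →ₐ[L] L[T;T⁻¹]) (h₂ : L[T;T⁻¹] →ₐ[L] L[T;T⁻¹]) h
  apply AlgEquiv.ext
  intro y
  exact AlgHom.congr_fun this y

/-- The exponent `±1` of an automorphism. -/
noncomputable def eOf (h : AutL L) : ℤ := WithBot.unbotD 0 (h (T 1)).degree

theorem eOf_eq (h : AutL L) {c : L} (hc : c ≠ 0) {ε : ℤ} (he : h (T 1) = C c * T ε) :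
    eOf h = ε := by
  rw [eOf, he, degree_C_mul_T ε c hc]
  rfl

theorem one_apply_T : (1 : AutL L) (T 1) = C 1 * T 1 := by
  rw [AlgEquiv.one_apply, map_one, one_mul]

/-- The exponent as a monoid homomorphism. -/
noncomputable def eOfHom : AutL L →* ℤ where
  toFun := eOf
  map_one' := eOf_eq 1 one_ne_zero one_apply_T
  map_mul' h₁ h₂ := by
    obtain ⟨c₁, hc₁, ε₁, -, he₁⟩ := exists_eq_C_mul_T h₁
    obtain ⟨c₂, hc₂, ε₂, -, he₂⟩ := exists_eq_C_mul_T h₂
    rw [eOf_eq h₁ hc₁ he₁, eOf_eq h₂ hc₂ he₂]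
    exact eOf_eq _ (mul_ne_zero hc₂ (zpow_ne_zero _ hc₁)) (mul_apply_T h₁ h₂ hc₁ he₁ he₂)

/-- The sign character. -/
noncomputable def sgn : AutL L →* ℤˣ := (eOfHom (L := L)).toHomUnits

theorem sgn_eq_one_iff (h : AutL L) : sgn h = 1 ↔ eOf h = 1 := by
  rw [Units.ext_iff]
  rfl

theorem pow_apply_T (h : AutL L) {c : L} (he : h (T 1) = C c * T 1) (n : ℕ) :
    (h ^ n) (T 1) = C (c ^ n) * T 1 := by
  induction n with
  | zero => rw [pow_zero, pow_zero]; exact one_apply_T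
  | succ n ih =>
    rw [pow_succ, AlgEquiv.mul_apply, he, map_mul, apply_C, ih, pow_succ, map_mul]
    ring

end basic

section core

variable {K L : Type u} [Field K] [Field L] [Algebra K L] (σ : L →ₐ[K] L)
  (τ : L[T;T⁻¹] →+* L[T;T⁻¹]) (hτC : ∀ l, τ (C l) = C (σ l)) (hτT : ∀ n, τ (T n) = T (-n))

include hτC hτT in
theorem sigma_eq_inv (h : AutL L) (hτ : ∀ y, τ (h y) = h (τ y)) {c : L} (hc : c ≠ 0)
    (he : h (T 1) = C c * T 1) : σ c = c⁻¹ := by
  have h1 := hτ (T 1)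
  rw [he, map_mul, hτC, hτT, apply_T h hc he (-1)] at h1
  have hσ : σ c ≠ 0 := by
    rw [Ne, map_eq_zero]; exact hc
  have h2 := (C_mul_T_inj hσ (zpow_ne_zero _ hc) h1).2
  rw [h2, zpow_neg_one]

variable {G : Type*} [Group G] [Finite G] (Φ : G →* AutL L)
  (hΦτ : ∀ g y, τ (Φ g y) = Φ g (τ y))
  (hK : ∀ n : ℕ, 0 < n → (Polynomial.X ^ n - 1 : Polynomial K).Splits)

include hτC hτT hΦτ hK in
theorem c_sq_eq_one (g : G) {c : L} (hc : c ≠ 0) (he : Φ g (T 1) = C c * T 1) : c * c = 1 := by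
  have hn : 0 < Nat.card G := Nat.card_pos
  have h1 : (Φ g) ^ Nat.card G = 1 := by rw [← map_pow, pow_card_eq_one', map_one]
  have h2 := pow_apply_T (Φ g) he (Nat.card G)
  rw [h1, one_apply_T] at h2
  have h3 : c ^ Nat.card G = 1 := (C_mul_T_inj one_ne_zero (pow_ne_zero _ hc) h2).2.symm
  have hroot : ((Polynomial.X ^ Nat.card G - 1 : Polynomial K).map (algebraMap K L)).IsRoot c := by
    rw [Polynomial.IsRoot.def, Polynomial.map_sub, Polynomial.map_pow, Polynomial.map_X,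
      Polynomial.map_one, Polynomial.eval_sub, Polynomial.eval_pow, Polynomial.eval_X,
      Polynomial.eval_one, h3, sub_self]
  have hne : (Polynomial.X ^ Nat.card G - 1 : Polynomial K) ≠ 0 := by
    have := (Polynomial.monic_X_pow_sub_C (1 : K) hn.ne').ne_zero
    rwa [map_one] at this
  obtain ⟨k, hk⟩ := (hK _ hn).mem_range_of_isRoot hne hroot
  have h4 : σ c = c := by rw [← hk]; exact σ.commutes k
  have h5 := sigma_eq_inv σ τ hτC hτT (Φ g) (hΦτ g) hc he
  rw [h4] at h5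
  nth_rewrite 2 [h5]
  exact mul_inv_cancel₀ hc

include hτC hτT hΦτ hK in
theorem sq_eq_one (hinj : Function.Injective Φ) (g : G) : g ^ 2 = 1 := by
  apply hinj
  rw [map_pow, map_one]
  obtain ⟨c, hc, ε, hε, he⟩ := exists_eq_C_mul_T (Φ g)
  apply eq_of_apply_T
  rw [pow_two, mul_apply_T (Φ g) (Φ g) hc he he, one_apply_T]
  rcases hε with rfl | rfl
  · rw [zpow_one, c_sq_eq_one σ τ hτC hτT Φ hΦτ hK g hc he]
    rfl
  · rw [zpow_neg_one, mul_inv_cancel₀ hc]
    rfl

include hτC hτT hΦτ hK in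
theorem card_ker_le (hinj : Function.Injective Φ) :
    Nat.card ((sgn (L := L)).comp Φ).ker ≤ 2 := by
  classical
  have hc2 : ∀ x : ((sgn (L := L)).comp Φ).ker, ∃ c : L, c ≠ 0 ∧ Φ x.1 (T 1) = C c * T 1 ∧
      (c = 1 ∨ c = -1) := by
    intro x
    obtain ⟨c, hc, ε, -, he⟩ := exists_eq_C_mul_T (Φ x.1)
    have hx : sgn (Φ x.1) = 1 := x.2
    rw [sgn_eq_one_iff, eOf_eq _ hc he] at hx
    subst hx
    refine ⟨c, hc, he, ?_⟩
    have := c_sq_eq_one σ τ hτC hτT Φ hΦτ hK x.1 hc he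
    have h0 : (c - 1) * (c + 1) = 0 := by linear_combination this
    rcases mul_eq_zero.mp h0 with h | h
    · left; exact sub_eq_zero.mp h
    · right; exact eq_neg_of_add_eq_zero_left h
  choose cf hcf0 hcf hcf1 using hc2
  let f : ((sgn (L := L)).comp Φ).ker → Bool := fun x => decide (cf x = 1)
  have hf : Function.Injective f := by
    intro x y hxy
    have hcxy : cf x = cf y := by
      by_cases hx1 : cf x = 1
      · have : f x = true := decide_eq_true hx1
        rw [hxy] at this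
        rw [hx1, of_decide_eq_true this]
      · have hfx : f x = false := decide_eq_false hx1
        rw [hxy] at hfx
        have hy1 : cf y ≠ 1 := of_decide_eq_false hfx
        rw [(hcf1 x).resolve_left hx1, (hcf1 y).resolve_left hy1]
    apply Subtype.ext
    apply hinj
    apply eq_of_apply_T
    rw [hcf x, hcf y, hcxy]
  have := Nat.card_le_card_of_injective f hf
  simpa using this

include hτC hτT hΦτ hK in
theorem card_le_four (hinj : Function.Injective Φ) : Nat.card G ≤ 4 := by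
  have h1 := Subgroup.card_mul_index ((sgn (L := L)).comp Φ).ker
  have h2 : ((sgn (L := L)).comp Φ).ker.index ≤ 2 := by
    rw [Subgroup.index_ker]
    have h3 : Nat.card ((sgn (L := L)).comp Φ).range ≤ Nat.card ℤˣ :=
      Nat.card_le_card_of_injective _ Subtype.val_injective
    have h4 : Nat.card ℤˣ = 2 := by
      rw [Nat.card_eq_fintype_card, Fintype.card_units_int]
    omega
  have h5 := card_ker_le σ τ hτC hτT Φ hΦτ hK hinj
  calc Nat.card G = Nat.card ((sgn (L := L)).comp Φ).ker * ((sgn (L := L)).comp Φ).ker.index :=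
        h1.symm
    _ ≤ 2 * 2 := Nat.mul_le_mul h5 h2
    _ = 4 := rfl

end core

end Groth.Agent.Lib.R2H7.LaurentAut
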