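/-
Finite groups of `K`-automorphisms of the projective line minus a closed point of degree two
(with separable residue field), over a field containing all roots of unity: exponent two and at
most four elements.
-/
import Mathlib
import Groth.Agent.Lib.R2H7ConicIso
import Groth.Agent.Lib.R2H7LaurentAut

set_option autoImplicit false
universe u

namespace Groth.Agent.Lib.R2H7.ConicRing

open LaurentPolynomial Groth.Agent.Lib.R2H7.BinaryQuad TensorProduct
  Groth.Agent.Lib.R2H7.LaurentAut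

attribute [local instance] MvPolynomial.gradedAlgebra

section aut

variable {K : Type u} [Field K] (a b c : K) [Fact (Irreducible (quad a b c))] (ha : a ≠ 0)
  (hdisc : b ^ 2 - 4 * a * c ≠ 0)

/-- Extension of a `K`-automorphism of `R` to an `L`-automorphism of `L[T;T⁻¹]`. -/
noncomputable def hL (gA : Rq (qf a b c) ≃ₐ[K] Rq (qf a b c)) : AutL (Lq a b c) :=
  ((PsiEquiv a b c ha hdisc).symm.trans
    (Algebra.TensorProduct.congr (AlgEquiv.refl : Lq a b c ≃ₐ[Lq a b c] Lq a b c) gA)).trans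
    (PsiEquiv a b c ha hdisc)

theorem psi_eq (r : Rq (qf a b c)) :
    psi a b c ha hdisc r = PsiEquiv a b c ha hdisc ((1 : Lq a b c) ⊗ₜ[K] r) := by
  rw [PsiEquiv_tmul, map_one, one_mul]

theorem hL_PsiEquiv (gA : Rq (qf a b c) ≃ₐ[K] Rq (qf a b c)) (l : Lq a b c) (r : Rq (qf a b c)) :
    hL a b c ha hdisc gA (PsiEquiv a b c ha hdisc (l ⊗ₜ[K] r)) =
      PsiEquiv a b c ha hdisc (l ⊗ₜ[K] gA r) := by
  rw [hL, AlgEquiv.trans_apply, AlgEquiv.trans_apply, AlgEquiv.symm_apply_apply,
    Algebra.TensorProduct.congr_apply, Algebra.TensorProduct.map_tmul]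
  rfl

theorem hL_psi (gA : Rq (qf a b c) ≃ₐ[K] Rq (qf a b c)) (r : Rq (qf a b c)) :
    hL a b c ha hdisc gA (psi a b c ha hdisc r) = psi a b c ha hdisc (gA r) := by
  rw [psi_eq, hL_PsiEquiv, ← psi_eq]

theorem autL_ext (h₁ h₂ : AutL (Lq a b c))
    (h : ∀ r, h₁ (psi a b c ha hdisc r) = h₂ (psi a b c ha hdisc r)) : h₁ = h₂ := by
  apply AlgEquiv.ext
  intro y
  obtain ⟨x, rfl⟩ := (PsiEquiv a b c ha hdisc).surjective y
  induction x using TensorProduct.induction_on with
  | zero => rw [map_zero, map_zero, map_zero]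
  | tmul l r => rw [PsiEquiv_tmul, map_mul, map_mul, h r, apply_C, apply_C]
  | add x y hx hy => rw [map_add, map_add, map_add, hx, hy]

/-- `hL` as a group homomorphism. -/
noncomputable def hLHom : (Rq (qf a b c) ≃ₐ[K] Rq (qf a b c)) →* AutL (Lq a b c) where
  toFun := hL a b c ha hdisc
  map_one' := by
    apply autL_ext a b c ha hdisc
    intro r
    rw [hL_psi, AlgEquiv.one_apply, AlgEquiv.one_apply]
  map_mul' g₁ g₂ := by
    apply autL_ext a b c ha hdisc
    intro r
    rw [hL_psi, AlgEquiv.mul_apply, AlgEquiv.mul_apply, hL_psi, hL_psi]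

theorem hLHom_psi (gA : Rq (qf a b c) ≃ₐ[K] Rq (qf a b c)) (r : Rq (qf a b c)) :
    hLHom a b c ha hdisc gA (psi a b c ha hdisc r) = psi a b c ha hdisc (gA r) :=
  hL_psi a b c ha hdisc gA r

theorem tau_hL (gA : Rq (qf a b c) ≃ₐ[K] Rq (qf a b c)) (y : BL a b c) :
    tau a b c ha (hLHom a b c ha hdisc gA y) = hLHom a b c ha hdisc gA (tau a b c ha y) := by
  obtain ⟨x, rfl⟩ := (PsiEquiv a b c ha hdisc).surjective y
  induction x using TensorProduct.induction_on with
  | zero => rw [map_zero, map_zero, map_zero, map_zero]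
  | tmul l r =>
    rw [PsiEquiv_tmul, map_mul, apply_C, hLHom_psi, map_mul, map_mul, tau_C, tau_psi, tau_psi,
      map_mul, apply_C, hLHom_psi]
  | add x y hx hy => rw [map_add, map_add, map_add, map_add, map_add, hx, hy]

end aut

section group

variable {K : Type u} [Field K] (a b c : K) [Fact (Irreducible (quad a b c))] (ha : a ≠ 0)
  (hdisc : b ^ 2 - 4 * a * c ≠ 0)
  (G : Subgroup (Rq (qf a b c) ≃+* Rq (qf a b c)))
  (hG : ∀ g ∈ G, ∀ (k : K) (z : Rq (qf a b c)), g (k • z) = k • g z)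

/-- Elements of `G` as algebra automorphisms. -/
noncomputable def toAlg (G : Subgroup (Rq (qf a b c) ≃+* Rq (qf a b c)))
    (hG : ∀ g ∈ G, ∀ (k : K) (z : Rq (qf a b c)), g (k • z) = k • g z) (g : G) :
    Rq (qf a b c) ≃ₐ[K] Rq (qf a b c) :=
  AlgEquiv.ofRingEquiv (f := g.1) (fun k => by
    rw [algebraMap_Rq, hG g.1 g.2, map_one])

theorem toAlg_apply (g : G) (r : Rq (qf a b c)) : toAlg a b c G hG g r = g.1 r := rfl

/-- `toAlg` as a group homomorphism. -/
noncomputable def toAlgHom (G : Subgroup (Rq (qf a b c) ≃+* Rq (qf a b c)))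
    (hG : ∀ g ∈ G, ∀ (k : K) (z : Rq (qf a b c)), g (k • z) = k • g z) :
    G →* (Rq (qf a b c) ≃ₐ[K] Rq (qf a b c)) where
  toFun := toAlg a b c G hG
  map_one' := by
    apply AlgEquiv.ext
    intro r
    rfl
  map_mul' g₁ g₂ := by
    apply AlgEquiv.ext
    intro r
    rfl

/-- The action of `G` on `L[T;T⁻¹]`. -/
noncomputable def Phi (ha : a ≠ 0) (hdisc : b ^ 2 - 4 * a * c ≠ 0)
    (G : Subgroup (Rq (qf a b c) ≃+* Rq (qf a b c)))
    (hG : ∀ g ∈ G, ∀ (k : K) (z : Rq (qf a b c)), g (k • z) = k • g z) :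
    G →* AutL (Lq a b c) :=
  (hLHom a b c ha hdisc).comp (toAlgHom a b c G hG)

theorem Phi_psi (g : G) (r : Rq (qf a b c)) :
    Phi a b c ha hdisc G hG g (psi a b c ha hdisc r) = psi a b c ha hdisc (g.1 r) :=
  hLHom_psi a b c ha hdisc _ r

theorem Phi_injective : Function.Injective (Phi a b c ha hdisc G hG) := by
  intro g₁ g₂ h
  apply Subtype.ext
  apply RingEquiv.ext
  intro r
  apply psi_injective a b c ha hdisc
  rw [← Phi_psi a b c ha hdisc G hG g₁ r, ← Phi_psi a b c ha hdisc G hG g₂ r, h]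

theorem tau_Phi (g : G) (y : BL a b c) :
    tau a b c ha (Phi a b c ha hdisc G hG g y) = Phi a b c ha hdisc G hG g (tau a b c ha y) :=
  tau_hL a b c ha hdisc _ y

include ha hdisc hG in
theorem main_qf [Finite G]
    (hK : ∀ n : ℕ, 0 < n → (Polynomial.X ^ n - 1 : Polynomial K).Splits) :
    (∀ g ∈ G, g ^ 2 = 1) ∧ Nat.card G ≤ 4 := by
  constructor
  · intro g hg
    have h := sq_eq_one (sigma a b c ha) (tau a b c ha) (tau_C a b c ha) (tau_T a b c ha)
      (Phi a b c ha hdisc G hG) (tau_Phi a b c ha hdisc G hG) hK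
      (Phi_injective a b c ha hdisc G hG) ⟨g, hg⟩
    exact congrArg Subtype.val h
  · exact card_le_four (sigma a b c ha) (tau a b c ha) (tau_C a b c ha) (tau_T a b c ha)
      (Phi a b c ha hdisc G hG) (tau_Phi a b c ha hdisc G hG) hK
      (Phi_injective a b c ha hdisc G hG)

end group

section final

variable {K : Type u} [Field K]

theorem main_aux (a b c : K) [Fact (Irreducible (quad a b c))] (ha : a ≠ 0)
    (hdisc : b ^ 2 - 4 * a * c ≠ 0)
    (hK : ∀ n : ℕ, 0 < n → (Polynomial.X ^ n - 1 : Polynomial K).Splits)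
    (q : MvPolynomial (Fin 2) K) (hq : q = qf a b c)
    (G : Subgroup (Rq q ≃+* Rq q)) [Finite G]
    (hG : ∀ g ∈ G, ∀ (k : K) (z : Rq q), g (k • z) = k • g z) :
    (∀ g ∈ G, g ^ 2 = 1) ∧ Nat.card G ≤ 4 := by
  subst hq
  exact main_qf a b c ha hdisc G hG hK

end final

end Groth.Agent.Lib.R2H7.ConicRing

namespace Groth.Agent.Lib.R2H7.ConicAut

attribute [local instance] MvPolynomial.gradedAlgebra

open Groth.Agent.Lib.R2H7.BinaryQuad in
/-- Finite groups of automorphisms of the projective line minus a separable point of degree two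
over a field containing all roots of unity. -/
theorem main (K : Type u) [Field K]
    (hK : ∀ n : ℕ, 0 < n → (Polynomial.X ^ n - 1 : Polynomial K).Splits)
    (q : MvPolynomial (Fin 2) K) (hq : q.IsHomogeneous 2) (hirr : Irreducible q)
    (hdisc : (q.coeff (Finsupp.single 0 1 + Finsupp.single 1 1)) ^ 2 -
      4 * q.coeff (Finsupp.single 0 2) * q.coeff (Finsupp.single 1 2) ≠ 0)
    (G : Subgroup (HomogeneousLocalization.Away (MvPolynomial.homogeneousSubmodule (Fin 2) K) q ≃+*
      HomogeneousLocalization.Away (MvPolynomial.homogeneousSubmodule (Fin 2) K) q)) [Finite G]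
    (hG : ∀ g ∈ G, ∀ (k : K)
      (z : HomogeneousLocalization.Away (MvPolynomial.homogeneousSubmodule (Fin 2) K) q),
      g (k • z) = k • g z) :
    (∀ g ∈ G, g ^ 2 = 1) ∧ Nat.card G ≤ 4 := by
  have ha := coeff_ne_zero q hq hirr
  have hirrq := quad_irreducible ha (quad_ne_zero q hq hirr)
  have : Fact (Irreducible (quad (q.coeff (Finsupp.single 0 2))
    (q.coeff (Finsupp.single 0 1 + Finsupp.single 1 1)) (q.coeff (Finsupp.single 1 2)))) := ⟨hirrq⟩
  exact Groth.Agent.Lib.R2H7.ConicRing.main_aux _ _ _ ha hdisc hK q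
    (eq_of_isHomogeneous q hq) G hG

end Groth.Agent.Lib.R2H7.ConicAut
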