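import Mathlib

/-!
# A necessary condition for formal smoothness of a quotient (Jacobian criterion, necessity)

Let `P` be a formally smooth `R`-algebra, `P → A` surjective with kernel `I`, and `A` formally smooth
over `R`.  If `𝔪 ⊇ I` is an ideal and `g ∈ I` has `d g ∈ 𝔪 Ω_{P/R}`, then `g ∈ 𝔪 I`.
-/

namespace Groth.Agent.Lib.R2H7.ConormalCrit

open KaehlerDifferential TensorProduct

theorem mem_mul_ker_of_D_mem {R P A : Type*} [CommRing R] [CommRing P] [CommRing A]
    [Algebra R P] [Algebra R A] [Algebra P A] [IsScalarTower R P A] [Algebra.FormallySmooth R P]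
    (hf : Function.Surjective (algebraMap P A)) (hA : Algebra.FormallySmooth R A)
    (𝔪 : Ideal P) (hI : RingHom.ker (algebraMap P A) ≤ 𝔪) (g : P)
    (hg : g ∈ RingHom.ker (algebraMap P A))
    (hD : D R P g ∈ 𝔪 • (⊤ : Submodule P Ω[P⁄R])) :
    g ∈ 𝔪 * RingHom.ker (algebraMap P A) := by
  obtain ⟨l, hl⟩ := (Algebra.FormallySmooth.iff_split_injection hf).mp hA
  have hz : (RingHom.ker (algebraMap P A)).toCotangent ⟨g, hg⟩ = l (1 ⊗ₜ D R P g) := by
    have h0 := LinearMap.congr_fun hl ((RingHom.ker (algebraMap P A)).toCotangent ⟨g, hg⟩)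
    rw [LinearMap.comp_apply, LinearMap.id_apply] at h0
    rw [← h0]
    rfl
  let L : Ω[P⁄R] →ₗ[P] (RingHom.ker (algebraMap P A)).Cotangent :=
    l ∘ₗ (TensorProduct.mk P A Ω[P⁄R] 1)
  have hz' : (RingHom.ker (algebraMap P A)).toCotangent ⟨g, hg⟩ ∈
      𝔪 • (⊤ : Submodule P (RingHom.ker (algebraMap P A)).Cotangent) := by
    rw [hz]
    have h1 : L (D R P g) ∈ (𝔪 • (⊤ : Submodule P Ω[P⁄R])).map L := Submodule.mem_map_of_mem hD
    rw [Submodule.map_smul''] at h1
    exact Submodule.smul_mono le_rfl le_top h1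
  have hsurj : Function.Surjective (RingHom.ker (algebraMap P A)).toCotangent :=
    Ideal.toCotangent_surjective _
  have hmap : (𝔪 • (⊤ : Submodule P (RingHom.ker (algebraMap P A)).Cotangent)) =
      (𝔪 • (⊤ : Submodule P (RingHom.ker (algebraMap P A)))).map
        (RingHom.ker (algebraMap P A)).toCotangent := by
    rw [Submodule.map_smul'', Submodule.map_top, LinearMap.range_eq_top.mpr hsurj]
  rw [hmap] at hz'
  obtain ⟨y, hy, hyz⟩ := hz'
  rw [Ideal.toCotangent_eq] at hyz
  have hy' : (y : P) ∈ 𝔪 * RingHom.ker (algebraMap P A) := by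
    have := (Submodule.mem_smul_top_iff 𝔪 (RingHom.ker (algebraMap P A)) y).mp hy
    simpa using this
  have h2 : ((y : P) - g) ∈ 𝔪 * RingHom.ker (algebraMap P A) := by
    have : (RingHom.ker (algebraMap P A)) ^ 2 ≤ 𝔪 * RingHom.ker (algebraMap P A) := by
      rw [pow_two]
      exact Ideal.mul_mono_left hI
    exact this hyz
  have : g = (y : P) - ((y : P) - g) := by ring
  rw [this]
  exact Ideal.sub_mem _ hy' h2

end Groth.Agent.Lib.R2H7.ConormalCrit
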