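import Mathlib.RingTheory.Coalgebra.Basic
import Mathlib.LinearAlgebra.TensorProduct.Associator
import Mathlib.RingTheory.Flat.Basic
import Mathlib.Algebra.Module.Projective

/-!
# The co-opposite coalgebra (helper7, round 2)

`Cop R C` is a type synonym of `C` carrying the coalgebra structure with the comultiplication
reversed, `x ↦ Σ x₂ ⊗ x₁`.  Right comodules over `Cop R C` are the left comodules over `C`.
-/

set_option autoImplicit false

namespace Groth.Agent.Lib.R2H7.Coop

open TensorProduct

universe u v

/-- The co-opposite of a coalgebra, as a type synonym. -/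
def Cop (R : Type u) (C : Type v) : Type v := C

namespace Cop

variable (R : Type u) (C : Type v)

instance [AddCommGroup C] : AddCommGroup (Cop R C) := inferInstanceAs (AddCommGroup C)

instance [CommRing R] [AddCommGroup C] [Module R C] : Module R (Cop R C) :=
  inferInstanceAs (Module R C)

variable [CommRing R] [AddCommGroup C] [Module R C]

/-- The identity, as a linear equivalence from the co-opposite to the coalgebra. -/
def equiv : Cop R C ≃ₗ[R] C := LinearEquiv.refl R C

instance [Module.Flat R C] : Module.Flat R (Cop R C) := inferInstanceAs (Module.Flat R C)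

instance [Module.Projective R C] : Module.Projective R (Cop R C) :=
  inferInstanceAs (Module.Projective R C)

variable [Coalgebra R C]

/-- The reversed comultiplication. -/
noncomputable def comulCop : Cop R C →ₗ[R] Cop R C ⊗[R] Cop R C :=
  TensorProduct.map (equiv R C).symm.toLinearMap (equiv R C).symm.toLinearMap ∘ₗ
    (TensorProduct.comm R C C).toLinearMap ∘ₗ CoalgebraStruct.comul (R := R) (A := C) ∘ₗ
    (equiv R C).toLinearMap

/-- The counit of the co-opposite. -/
noncomputable def counitCop : Cop R C →ₗ[R] R :=
  CoalgebraStruct.counit (R := R) (A := C) ∘ₗ (equiv R C).toLinearMap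

theorem comulCop_apply (x : Cop R C) :
    comulCop R C x = TensorProduct.map (equiv R C).symm.toLinearMap (equiv R C).symm.toLinearMap
      (TensorProduct.comm R C C (CoalgebraStruct.comul (R := R) (equiv R C x))) := rfl

theorem counitCop_apply (x : Cop R C) :
    counitCop R C x = CoalgebraStruct.counit (R := R) (equiv R C x) := rfl

/-- The reversal `(x ⊗ y) ⊗ z ↦ z ⊗ (y ⊗ x)`. -/
noncomputable def rev : (C ⊗[R] C) ⊗[R] C →ₗ[R] Cop R C ⊗[R] (Cop R C ⊗[R] Cop R C) :=
  TensorProduct.map (equiv R C).symm.toLinearMap
      (TensorProduct.map (equiv R C).symm.toLinearMap (equiv R C).symm.toLinearMap) ∘ₗ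
    (TensorProduct.comm R C C).toLinearMap.lTensor C ∘ₗ
    (TensorProduct.comm R (C ⊗[R] C) C).toLinearMap

@[simp] theorem rev_tmul (x y z : C) :
    rev R C ((x ⊗ₜ[R] y) ⊗ₜ[R] z) =
      (equiv R C).symm z ⊗ₜ[R] ((equiv R C).symm y ⊗ₜ[R] (equiv R C).symm x) := by
  simp [rev]

theorem lTensor_comulCop (t : C ⊗[R] C) :
    (comulCop R C).lTensor (Cop R C)
        (TensorProduct.map (equiv R C).symm.toLinearMap (equiv R C).symm.toLinearMap
          (TensorProduct.comm R C C t)) =
      rev R C ((CoalgebraStruct.comul (R := R) (A := C)).rTensor C t) := by
  induction t using TensorProduct.induction_on with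
  | zero => simp
  | add x y hx hy => simp only [map_add, hx, hy]
  | tmul a b =>
    simp only [TensorProduct.comm_tmul, TensorProduct.map_tmul, LinearMap.lTensor_tmul,
      LinearMap.rTensor_tmul, LinearEquiv.coe_coe, comulCop_apply, LinearEquiv.apply_symm_apply]
    generalize CoalgebraStruct.comul (R := R) a = u
    induction u using TensorProduct.induction_on with
    | zero => simp
    | add x y hx hy => simp only [map_add, TensorProduct.tmul_add, TensorProduct.add_tmul, hx, hy]
    | tmul a₁ a₂ => simp

theorem assoc_rTensor_comulCop (t : C ⊗[R] C) :
    TensorProduct.assoc R (Cop R C) (Cop R C) (Cop R C)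
        ((comulCop R C).rTensor (Cop R C)
          (TensorProduct.map (equiv R C).symm.toLinearMap (equiv R C).symm.toLinearMap
            (TensorProduct.comm R C C t))) =
      rev R C ((TensorProduct.assoc R C C C).symm
        ((CoalgebraStruct.comul (R := R) (A := C)).lTensor C t)) := by
  induction t using TensorProduct.induction_on with
  | zero => simp
  | add x y hx hy => simp only [map_add, hx, hy]
  | tmul a b =>
    simp only [TensorProduct.comm_tmul, TensorProduct.map_tmul, LinearMap.lTensor_tmul,
      LinearMap.rTensor_tmul, LinearEquiv.coe_coe, comulCop_apply, LinearEquiv.apply_symm_apply]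
    generalize CoalgebraStruct.comul (R := R) b = u
    induction u using TensorProduct.induction_on with
    | zero => simp
    | add x y hx hy => simp only [map_add, TensorProduct.tmul_add, TensorProduct.add_tmul, hx, hy]
    | tmul b₁ b₂ => simp

theorem rTensor_counitCop (t : C ⊗[R] C) :
    (counitCop R C).rTensor (Cop R C)
        (TensorProduct.map (equiv R C).symm.toLinearMap (equiv R C).symm.toLinearMap
          (TensorProduct.comm R C C t)) =
      (equiv R C).symm.toLinearMap.lTensor R
        (TensorProduct.comm R C R ((CoalgebraStruct.counit (R := R) (A := C)).lTensor C t)) := by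
  induction t using TensorProduct.induction_on with
  | zero => simp
  | add x y hx hy => simp only [map_add, hx, hy]
  | tmul a b => simp [counitCop_apply]

theorem lTensor_counitCop (t : C ⊗[R] C) :
    (counitCop R C).lTensor (Cop R C)
        (TensorProduct.map (equiv R C).symm.toLinearMap (equiv R C).symm.toLinearMap
          (TensorProduct.comm R C C t)) =
      (equiv R C).symm.toLinearMap.rTensor R
        (TensorProduct.comm R R C ((CoalgebraStruct.counit (R := R) (A := C)).rTensor C t)) := by
  induction t using TensorProduct.induction_on with
  | zero => simp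
  | add x y hx hy => simp only [map_add, hx, hy]
  | tmul a b => simp [counitCop_apply]

noncomputable instance : Coalgebra R (Cop R C) where
  comul := comulCop R C
  counit := counitCop R C
  coassoc := by
    apply LinearMap.ext
    intro x
    simp only [LinearMap.comp_apply, LinearEquiv.coe_coe]
    rw [comulCop_apply, assoc_rTensor_comulCop, lTensor_comulCop, Coalgebra.coassoc_symm_apply]
  rTensor_counit_comp_comul := by
    apply LinearMap.ext
    intro x
    simp only [LinearMap.comp_apply]
    rw [comulCop_apply, rTensor_counitCop, Coalgebra.lTensor_counit_comul]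
    simp
  lTensor_counit_comp_comul := by
    apply LinearMap.ext
    intro x
    simp only [LinearMap.comp_apply]
    rw [comulCop_apply, lTensor_counitCop, Coalgebra.rTensor_counit_comul]
    simp

theorem comul_def (x : Cop R C) :
    CoalgebraStruct.comul (R := R) x = comulCop R C x := rfl

theorem counit_def (x : Cop R C) :
    CoalgebraStruct.counit (R := R) x = counitCop R C x := rfl

/-- The comultiplication of `C` is the reversed comultiplication of its co-opposite. -/
theorem comul_equiv (x : Cop R C) :
    CoalgebraStruct.comul (R := R) (equiv R C x) =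
      TensorProduct.comm R C C (TensorProduct.map (equiv R C).toLinearMap (equiv R C).toLinearMap
        (CoalgebraStruct.comul (R := R) x)) := by
  rw [comul_def, comulCop_apply]
  generalize CoalgebraStruct.comul (R := R) (equiv R C x) = t
  induction t using TensorProduct.induction_on with
  | zero => simp
  | add x y hx hy => simp only [map_add, ← hx, ← hy]
  | tmul a b => simp

theorem counit_equiv (x : Cop R C) :
    CoalgebraStruct.counit (R := R) (equiv R C x) = CoalgebraStruct.counit (R := R) x := rfl

end Cop

end Groth.Agent.Lib.R2H7.Coop
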