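import Groth.Agent.Lib.Helper25ComodMat
import Groth.Agent.Lib.Helper25ComodEnd
import Groth.Agent.Lib.Helper25Serre

/-!
# Matrix corepresentations from finite projective comodules (helper7, round 2)

For a commutative Hopf algebra `A` over a commutative ring `R`, a comodule `E` which is finite
projective over `R` and a comodule map `π : E → A` (regular comodule), there is a comatrix
`(a_ij)` (matrix corepresentation) whose determinant is a unit and whose entries span a submodule
containing the image of `π`.
-/

namespace Groth.Agent.Lib.R2H7.LinHopf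

open TensorProduct HopfRep Groth.Agent.Lib.Helper25

universe u v w

section Span

variable {R : Type u} [CommRing R] {A : Type v} [CommRing A] [Bialgebra R A]

/-- A comodule map from a comodule with a finite basis to the regular comodule has image in the
span of the comatrix entries. -/
theorem map_mem_span_comatrix {ι : Type*} [Fintype ι] [DecidableEq ι] {V : Type w}
    [AddCommGroup V] [Module R V] [Comod R A V] (b : Module.Basis ι R V) (π : V →ₗ[R] A)
    (hπ : Hoch.IsComodHom A π) (x : V) :
    π x ∈ Submodule.span R (Set.range fun p : ι × ι => comatrix (A := A) b p.1 p.2) := by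
  have hb : ∀ j, π (b j) ∈
      Submodule.span R (Set.range fun p : ι × ι => comatrix (A := A) b p.1 p.2) := by
    intro j
    have h := isComodHom_apply hπ (b j)
    rw [coact_basis, map_sum] at h
    have h2 := congrArg (fun z => TensorProduct.lid R A
      ((CoalgebraStruct.counit (R := R) (A := A)).rTensor A z)) h
    beta_reduce at h2
    have h3 : (CoalgebraStruct.counit (R := R) (A := A)).rTensor A
        (Comod.coact (k := R) (A := A) (π (b j))) = (1 : R) ⊗ₜ[R] π (b j) :=
      Coalgebra.rTensor_counit_comul (R := R) (π (b j))
    rw [h3, map_sum, map_sum, TensorProduct.lid_tmul, one_smul] at h2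
    have h4 : ∀ i, TensorProduct.lid R A ((CoalgebraStruct.counit (R := R) (A := A)).rTensor A
        (π.rTensor A (b i ⊗ₜ[R] comatrix (A := A) b i j))) =
        CoalgebraStruct.counit (R := R) (A := A) (π (b i)) • comatrix (A := A) b i j := by
      intro i
      rw [LinearMap.rTensor_tmul, LinearMap.rTensor_tmul, TensorProduct.lid_tmul]
    rw [Finset.sum_congr rfl (fun i _ => h4 i)] at h2
    rw [h2]
    refine Submodule.sum_mem _ fun i _ => Submodule.smul_mem _ _ (Submodule.subset_span ?_)
    exact ⟨(i, j), rfl⟩
  have hx : x = ∑ j, b.repr x j • b j := (b.sum_repr x).symm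
  rw [hx, map_sum]
  refine Submodule.sum_mem _ fun j _ => ?_
  rw [map_smul]
  exact Submodule.smul_mem _ _ (hb j)

end Span

section Main

variable {R : Type u} [CommRing R] {A : Type v} [CommRing A] [HopfAlgebra R A]

theorem isUnit_det_of_isComatrix {d : ℕ} {a : Matrix (Fin d) (Fin d) A}
    (ha : IsComatrix (k := R) a) : ∃ u : A, u * a.det = 1 := by
  refine ⟨(a.map (HopfAlgebra.antipode R)).det, ?_⟩
  have h : a * a.map (HopfAlgebra.antipode R) = 1 := by
    ext i j
    rw [Matrix.mul_apply, Matrix.one_apply]
    simp only [Matrix.map_apply]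
    exact ha.mul_antipode i j
  rw [mul_comm, ← Matrix.det_mul, h, Matrix.det_one]

/-- Main lemma: a finite projective comodule mapping to the regular comodule gives a matrix
corepresentation whose coefficient span contains the image. -/
theorem exists_comatrix_of_projective (E : Type w) [AddCommGroup E] [Module R E]
    [cE : Comod R A E] [Module.Finite R E] [Module.Projective R E] (π : E →ₗ[R] A)
    (hπ : Hoch.IsComodHom A π) :
    ∃ (d : ℕ) (a : Matrix (Fin d) (Fin d) A), IsComatrix (k := R) a ∧ (∃ u : A, u * a.det = 1) ∧
      LinearMap.range π ≤ Submodule.span R (Set.range fun p : Fin d × Fin d => a p.1 p.2) := by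
  classical
  obtain ⟨n, f, g, hf, hg, hfg⟩ := Module.Finite.exists_comp_eq_id_of_projective R E
  have hfg' : ∀ x, f (g x) = x := fun x => LinearMap.congr_fun hfg x
  let K := LinearMap.ker f
  let toF : (E × K) →ₗ[R] (Fin n → R) := g.coprod K.subtype
  let toP : (Fin n → R) →ₗ[R] (E × K) :=
    f.prod (LinearMap.codRestrict K (LinearMap.id - g ∘ₗ f) (by
      intro y
      change f (y - g (f y)) = 0
      rw [map_sub, hfg', sub_self]))
  let e : (E × K) ≃ₗ[R] (Fin n → R) := LinearEquiv.ofLinearMap toF toP
    (by
      apply LinearMap.ext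
      intro y
      change g (f y) + (y - g (f y)) = y
      abel)
    (by
      apply LinearMap.ext
      rintro ⟨x, k⟩
      have hk : f (k : Fin n → R) = 0 := k.2
      apply Prod.ext
      · change f (g x + k) = x
        rw [map_add, hfg', hk, add_zero]
      · apply Subtype.ext
        change (g x + (k : Fin n → R)) - g (f (g x + k)) = k
        rw [map_add, hfg', hk, add_zero]
        abel)
  letI cK : Comod R A K := Comod.trivial R A K
  letI cP : Comod R A (E × K) := ComodTens.Comod.prod cE cK
  letI cF : Comod R A (Fin n → R) := ComodTens.Comod.ofEquiv e cP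
  have he : Hoch.IsComodHom A (e : (E × K) →ₗ[R] (Fin n → R)) := by
    apply LinearMap.ext
    intro v
    exact ComodTens.ofEquiv_coact_apply e cP v
  have hes : Hoch.IsComodHom A (e.symm : (Fin n → R) →ₗ[R] (E × K)) := isComodHom_symm e he
  have hfst : Hoch.IsComodHom A (LinearMap.fst R E K) := isComodHom_fst
  let π' : (Fin n → R) →ₗ[R] A := π ∘ₗ LinearMap.fst R E K ∘ₗ (e.symm : (Fin n → R) →ₗ[R] (E × K))
  have hπ' : Hoch.IsComodHom A π' := isComodHom_comp (isComodHom_comp hes hfst) hπ
  let b := Pi.basisFun R (Fin n)
  refine ⟨n, comatrix (A := A) b, isComatrix_comatrix b,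
    isUnit_det_of_isComatrix (isComatrix_comatrix b), ?_⟩
  rintro _ ⟨x, rfl⟩
  have hx : π x = π' (e (x, 0)) := by
    change π x = π ((e.symm (e (x, 0))).1)
    rw [LinearEquiv.symm_apply_apply]
  rw [hx]
  exact map_mem_span_comatrix b π' hπ' _

end Main

end Groth.Agent.Lib.R2H7.LinHopf
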