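import Groth.Agent.Lib.R2H7SatA
import Groth.Agent.Lib.R2H7LinHopf

/-!
# Saturation of subcomodules (helper7, round 2)

The codimension-two saturation (`R2H7SatA`) of a finitely generated subcomodule of a flat comodule
over a flat coalgebra is again a subcomodule.  Consequence (SGA3 VI_B 11.10, weak form): over a
regular ring of dimension at most two, every finite subset of a flat commutative Hopf algebra lies
in the span of the entries of a matrix corepresentation.
-/

set_option autoImplicit false

namespace Groth.Agent.Lib.R2H7.Sat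

open TensorProduct HopfRep Groth.Agent.Lib.Helper25

universe u v w

section Tensor

variable {R : Type u} [CommRing R]

theorem eq_zero_of_forall_proj_rTensor {k : ℕ} {Q : Type v} {C : Type w} [AddCommGroup Q]
    [Module R Q] [AddCommGroup C] [Module R C] (z : (Fin k → Q) ⊗[R] C)
    (h : ∀ i, (LinearMap.proj i : (Fin k → Q) →ₗ[R] Q).rTensor C z = 0) : z = 0 := by
  have hid : (∑ i, (LinearMap.single R (fun _ : Fin k => Q) i) ∘ₗ
      (LinearMap.proj i : (Fin k → Q) →ₗ[R] Q)) = LinearMap.id := by
    apply LinearMap.ext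
    intro f
    funext j
    simp [Finset.sum_apply, Pi.single_apply]
  have h1 : z = (LinearMap.rTensorHom C (∑ i, (LinearMap.single R (fun _ : Fin k => Q) i) ∘ₗ
      (LinearMap.proj i : (Fin k → Q) →ₗ[R] Q))) z := by
    rw [hid]
    simp
  rw [h1, map_sum, LinearMap.sum_apply]
  refine Finset.sum_eq_zero fun i _ => ?_
  rw [LinearMap.coe_rTensorHom, LinearMap.rTensor_comp, LinearMap.comp_apply, h i, map_zero]

variable [IsNoetherianRing R]

/-- If a module has no nonzero element killed by a big ideal, the same holds after tensoring with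
a flat module. -/
theorem eq_zero_of_big_smul_tensor {Q : Type v} {C : Type w} [AddCommGroup Q] [Module R Q]
    [AddCommGroup C] [Module R C] [Module.Flat R C]
    (hQ : ∀ J : Ideal R, Big J → ∀ q : Q, (∀ t ∈ J, t • q = 0) → q = 0)
    (J : Ideal R) (hJ : Big J) (z : Q ⊗[R] C) (hz : ∀ t ∈ J, t • z = 0) : z = 0 := by
  obtain ⟨k, g, hg⟩ := Submodule.fg_iff_exists_fin_generating_family.mp
    (IsNoetherian.noetherian J)
  have hgJ : ∀ i, g i ∈ J := fun i => by
    rw [← hg]
    exact Submodule.subset_span ⟨i, rfl⟩
  let τ : Q →ₗ[R] (Fin k → Q) := LinearMap.pi fun i => g i • LinearMap.id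
  have hτ : Function.Injective τ := by
    rw [injective_iff_map_eq_zero]
    intro q hq
    apply hQ J hJ q
    intro t ht
    rw [← hg] at ht
    induction ht using Submodule.span_induction with
    | mem x hx =>
      obtain ⟨i, rfl⟩ := hx
      have := congrFun hq i
      simpa [τ] using this
    | zero => rw [zero_smul]
    | add x y _ _ hx hy => rw [add_smul, hx, hy, add_zero]
    | smul a x _ hx => rw [smul_assoc, hx, smul_zero]
  have hτC : Function.Injective (τ.rTensor C) :=
    Module.Flat.rTensor_preserves_injective_linearMap τ hτ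
  apply hτC
  rw [map_zero]
  apply eq_zero_of_forall_proj_rTensor
  intro i
  rw [← LinearMap.comp_apply, ← LinearMap.rTensor_comp]
  have : (LinearMap.proj i : (Fin k → Q) →ₗ[R] Q) ∘ₗ τ = g i • LinearMap.id := by
    apply LinearMap.ext
    intro q
    simp [τ]
  rw [this, LinearMap.rTensor_smul, LinearMap.rTensor_id, LinearMap.smul_apply, LinearMap.id_apply]
  exact hz _ (hgJ i)

/-- Stability of the saturation under a coaction-like map. -/
theorem coact_mem_of_mem_sat {E : Type v} {C : Type w} [AddCommGroup E] [Module R E]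
    [AddCommGroup C] [Module R C] [Module.Flat R C] (ρ : E →ₗ[R] E ⊗[R] C) (N : Submodule R E)
    (hN : ∀ n ∈ N, ρ n ∈ LinearMap.range (N.subtype.rTensor C)) :
    ∀ a ∈ sat N, ρ a ∈ LinearMap.range ((sat N).subtype.rTensor C) := by
  intro a ha
  have hex : Function.Exact ((sat N).subtype.rTensor C) ((sat N).mkQ.rTensor C) :=
    rTensor_exact C (LinearMap.exact_subtype_mkQ (sat N)) (Submodule.mkQ_surjective _)
  rw [← LinearMap.exact_iff.mp hex, LinearMap.mem_ker]
  have hQ : ∀ J : Ideal R, Big J → ∀ q : E ⧸ sat N, (∀ t ∈ J, t • q = 0) → q = 0 := by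
    intro J hJ q hq
    obtain ⟨b, rfl⟩ := Submodule.mkQ_surjective _ q
    rw [Submodule.mkQ_apply, Submodule.Quotient.mk_eq_zero, ← sat_sat N, mem_sat]
    refine Big.mono ?_ hJ
    intro t ht
    have := hq t ht
    rw [Submodule.mkQ_apply, ← Submodule.Quotient.mk_smul, Submodule.Quotient.mk_eq_zero] at this
    exact mem_cond.mpr this
  apply eq_zero_of_big_smul_tensor hQ (cond N a) ha
  intro t ht
  rw [← map_smul, ← map_smul]
  have h1 := hN _ (mem_cond.mp ht)
  obtain ⟨y, hy⟩ := h1
  rw [← hy, ← LinearMap.comp_apply, ← LinearMap.rTensor_comp]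
  have h2 : (sat N).mkQ ∘ₗ N.subtype = 0 := by
    apply LinearMap.ext
    intro n
    simp only [LinearMap.comp_apply, Submodule.subtype_apply, Submodule.mkQ_apply,
      LinearMap.zero_apply, Submodule.Quotient.mk_eq_zero]
    exact le_sat N n.2
  rw [h2, LinearMap.rTensor_zero, LinearMap.zero_apply]

end Tensor

section Comod

variable {R : Type u} [CommRing R] [IsNoetherianRing R] {C : Type v} [AddCommGroup C]
  [Module R C] [Coalgebra R C] [Module.Flat R C] {E : Type w} [AddCommGroup E] [Module R E]
  [Comod R C E]

theorem isSubcomod_sat {N : Submodule R E} (hN : IsSubcomod (k := R) (A := C) N) :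
    IsSubcomod (k := R) (A := C) (sat N) :=
  coact_mem_of_mem_sat (Comod.coact (k := R) (A := C)) N hN

end Comod

section Hopf

variable {R : Type u} [CommRing R] [IsRegularRing R] (hdim : ringKrullDim R ≤ 2)
  {A : Type u} [CommRing A] [HopfAlgebra R A] [Module.Flat R A]

include hdim in
/-- Over a regular ring of dimension at most two, every finite subset of a flat commutative Hopf
algebra lies in the span of the entries of a matrix corepresentation with unit determinant. -/
theorem exists_comatrix_of_finset (F : Finset A) :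
    ∃ (d : ℕ) (a : Matrix (Fin d) (Fin d) A), IsComatrix (k := R) a ∧ (∃ u : A, u * a.det = 1) ∧
      (↑F : Set A) ⊆ Submodule.span R (Set.range fun p : Fin d × Fin d => a p.1 p.2) := by
  obtain ⟨W, hW, hFW, hWfg⟩ := exists_fg_subcomod_ge_noeth (k := R) (A := A) (V := A)
    (Submodule.span R (F : Set A)) (Submodule.fg_span F.finite_toSet)
  have hP : IsSubcomod (k := R) (A := A) (sat W) := isSubcomod_sat hW
  have hPfg : (sat W).FG := sat_fg hdim W hWfg
  haveI : Module.Finite R (sat W) := Module.Finite.iff_fg.mpr hPfg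
  haveI : Module.Projective R (sat W) := sat_projective hdim W hWfg
  letI cP : Comod R A (sat W) := subComod (sat W) hP
  obtain ⟨d, a, ha, hu, hrange⟩ := Groth.Agent.Lib.R2H7.LinHopf.exists_comatrix_of_projective
    (sat W) (sat W).subtype (isComodHom_subtype (sat W) hP)
  refine ⟨d, a, ha, hu, ?_⟩
  intro x hx
  apply hrange
  exact ⟨⟨x, le_sat W (hFW (Submodule.subset_span hx))⟩, rfl⟩

end Hopf

end Groth.Agent.Lib.R2H7.Sat
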