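import Groth.Agent.Lib.R2H7DualCoop
import Groth.Agent.Lib.R2H7Coop
import Groth.Agent.Lib.R2H7SatB
import Mathlib.RingTheory.TensorProduct.DirectLimitFG

/-!
# Finite comodules are quotients of finite projective comodules in dimension at most two
(helper7, round 2)

Let `F` be a right `C`-comodule and `M` a finite projective right comodule over the co-opposite
`D` of `C` (a left `C`-comodule).  An element `z` of the cotensor product `M □ F ⊆ M ⊗ F` defines a
comodule map `θ_z : M* → F`.  Since `F = C □ F` is the filtered colimit of the `M □ F` over the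
finite projective left coideals `M` of `C` (which are cofinal among the finitely generated
submodules when the base is regular of dimension at most two and `C` is flat), every element of `F`
lies in the image of such a `θ_z`.
-/

set_option autoImplicit false

namespace Groth.Agent.Lib.R2H7.CoopRes

open TensorProduct HopfRep Groth.Agent.Lib.Helper25 Groth.Agent.Lib.R2H7.DualCoop

universe u v v' w w' w''

section Theta

variable {R : Type u} [CommRing R] {C : Type v} [AddCommGroup C] [Module R C] [Coalgebra R C]
  {D : Type v'} [AddCommGroup D] [Module R D] [Coalgebra R D] (e : AntiHom R D C)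
  {M : Type w} [AddCommGroup M] [Module R M]
  {F : Type w'} [AddCommGroup F] [Module R F]

/-- `θ_z : M* → F`, `φ ↦ (φ ⊗ id)(z)`. -/
noncomputable def theta (z : M ⊗[R] F) : Module.Dual R M →ₗ[R] F where
  toFun φ := TensorProduct.lid R F (φ.rTensor F z)
  map_add' φ ψ := by rw [LinearMap.rTensor_add, LinearMap.add_apply, map_add]
  map_smul' r φ := by
    rw [LinearMap.rTensor_smul, LinearMap.smul_apply, map_smul]
    rfl

theorem theta_apply (z : M ⊗[R] F) (φ : Module.Dual R M) :
    theta z φ = TensorProduct.lid R F (φ.rTensor F z) := rfl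

omit [Coalgebra R C] in
theorem theta_rTensor (z : M ⊗[R] F) (w : Module.Dual R M ⊗[R] C) :
    (theta z).rTensor C w =
      TensorProduct.comm R C F ((dualTensorHom R M C w).rTensor F z) := by
  induction w using TensorProduct.induction_on with
  | zero => simp
  | add x y hx hy => simp only [map_add, LinearMap.rTensor_add, LinearMap.add_apply, hx, hy]
  | tmul ψ c =>
    rw [LinearMap.rTensor_tmul, theta_apply]
    induction z using TensorProduct.induction_on with
    | zero => simp
    | add x y hx hy => simp only [map_add, TensorProduct.add_tmul, hx, hy]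
    | tmul m f =>
      simp only [LinearMap.rTensor_tmul, TensorProduct.lid_tmul, dualTensorHom_apply,
        TensorProduct.comm_tmul, TensorProduct.smul_tmul', TensorProduct.tmul_smul]

/-- `(m ⊗ d) ⊗ f ↦ m ⊗ (f ⊗ e d)`. -/
noncomputable def bmap : (M ⊗[R] D) ⊗[R] F →ₗ[R] M ⊗[R] (F ⊗[R] C) :=
  ((TensorProduct.comm R C F).toLinearMap ∘ₗ e.toLin.rTensor F).lTensor M ∘ₗ
    (TensorProduct.assoc R M D F).toLinearMap

@[simp] theorem bmap_tmul (m : M) (d : D) (f : F) :
    bmap e ((m ⊗ₜ[R] d) ⊗ₜ[R] f) = m ⊗ₜ[R] (f ⊗ₜ[R] e.toLin d) := by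
  simp [bmap]

theorem bmap_rTensor {M' : Type w''} [AddCommGroup M'] [Module R M'] (g : M →ₗ[R] M')
    (y : (M ⊗[R] D) ⊗[R] F) :
    bmap e ((g.rTensor D).rTensor F y) = g.rTensor (F ⊗[R] C) (bmap e y) := by
  induction y using TensorProduct.induction_on with
  | zero => simp
  | add x y hx hy => simp only [map_add, hx, hy]
  | tmul x f =>
    induction x using TensorProduct.induction_on with
    | zero => simp
    | add x y hx hy => simp only [map_add, TensorProduct.add_tmul, hx, hy]
    | tmul m d => simp

theorem lid_rTensor_bmap (φ : Module.Dual R M) (y : (M ⊗[R] D) ⊗[R] F) :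
    TensorProduct.lid R (F ⊗[R] C) (φ.rTensor (F ⊗[R] C) (bmap e y)) =
      TensorProduct.comm R C F ((psi e φ).rTensor F y) := by
  induction y using TensorProduct.induction_on with
  | zero => simp
  | add x y hx hy => simp only [map_add, hx, hy]
  | tmul x f =>
    induction x using TensorProduct.induction_on with
    | zero => simp
    | add x y hx hy => simp only [map_add, TensorProduct.add_tmul, hx, hy]
    | tmul m d =>
      simp only [bmap_tmul, LinearMap.rTensor_tmul, TensorProduct.lid_tmul, psi_tmul,
        TensorProduct.comm_tmul, TensorProduct.tmul_smul]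

variable [Comod R C F]

/-- The first of the two maps `M ⊗ F → M ⊗ (F ⊗ C)` whose equalizer is the cotensor product. -/
noncomputable def sideA : M ⊗[R] F →ₗ[R] M ⊗[R] (F ⊗[R] C) :=
  (Comod.coact (k := R) (A := C) (V := F)).lTensor M

/-- The second map `M ⊗ F → M ⊗ (F ⊗ C)`, for a coaction `ρ : M → M ⊗ D`. -/
noncomputable def sideB (ρ : M →ₗ[R] M ⊗[R] D) : M ⊗[R] F →ₗ[R] M ⊗[R] (F ⊗[R] C) :=
  bmap e ∘ₗ ρ.rTensor F

/-- Membership in the cotensor product. -/
def IsCotensor (ρ : M →ₗ[R] M ⊗[R] D) (z : M ⊗[R] F) : Prop :=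
  sideA (C := C) z = sideB e ρ z

theorem sideA_rTensor {M' : Type w''} [AddCommGroup M'] [Module R M'] (g : M →ₗ[R] M')
    (z : M ⊗[R] F) :
    sideA (C := C) (g.rTensor F z) = g.rTensor (F ⊗[R] C) (sideA (C := C) z) := by
  induction z using TensorProduct.induction_on with
  | zero => simp
  | add x y hx hy => simp only [map_add, hx, hy]
  | tmul m f => simp [sideA]

theorem sideB_rTensor {M' : Type w''} [AddCommGroup M'] [Module R M'] (g : M →ₗ[R] M')
    (ρ : M →ₗ[R] M ⊗[R] D) (ρ' : M' →ₗ[R] M' ⊗[R] D) (hg : ρ' ∘ₗ g = g.rTensor D ∘ₗ ρ)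
    (z : M ⊗[R] F) :
    sideB (F := F) e ρ' (g.rTensor F z) = g.rTensor (F ⊗[R] C) (sideB e ρ z) := by
  unfold sideB
  rw [LinearMap.comp_apply, LinearMap.comp_apply, ← bmap_rTensor, ← LinearMap.comp_apply
    (f := ρ'.rTensor F), ← LinearMap.rTensor_comp, hg, LinearMap.rTensor_comp, LinearMap.comp_apply]

theorem coact_lid_rTensor (φ : Module.Dual R M) (z : M ⊗[R] F) :
    Comod.coact (k := R) (A := C) (TensorProduct.lid R F (φ.rTensor F z)) =
      TensorProduct.lid R (F ⊗[R] C) (φ.rTensor (F ⊗[R] C) (sideA (C := C) z)) := by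
  induction z using TensorProduct.induction_on with
  | zero => simp
  | add x y hx hy => simp only [map_add, hx, hy]
  | tmul m f => simp [sideA]

variable [Comod R D M]

theorem coact_theta (z : M ⊗[R] F) (hz : IsCotensor e (Comod.coact (k := R) (A := D)) z)
    (φ : Module.Dual R M) :
    Comod.coact (k := R) (A := C) (theta z φ) =
      TensorProduct.comm R C F ((lmapL e φ).rTensor F z) := by
  rw [theta_apply, coact_lid_rTensor, hz]
  unfold sideB
  rw [LinearMap.comp_apply, lid_rTensor_bmap, ← LinearMap.comp_apply (f := (psi e φ).rTensor F),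
    ← LinearMap.rTensor_comp]
  rfl

/-- An element of the cotensor product defines a comodule map from the dual. -/
theorem isComodHom_theta [Module.Finite R M] [Module.Projective R M] (z : M ⊗[R] F)
    (hz : IsCotensor e (Comod.coact (k := R) (A := D)) z) :
    @Hoch.IsComodHom R _ C _ _ _ (Module.Dual R M) _ _ (dualComod e) F _ _ _ (theta z) := by
  unfold Hoch.IsComodHom
  apply LinearMap.ext
  intro φ
  rw [LinearMap.comp_apply, LinearMap.comp_apply, coact_theta e z hz, dualComod_coact,
    theta_rTensor, dualTensorHom_dualCoact]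

omit [Comod R D M] in
/-- The value of `θ_z` at the restriction of the counit. -/
theorem theta_counit (z : M ⊗[R] F) (ι : M →ₗ[R] D) (f : F)
    (hz : (e.toLin ∘ₗ ι).rTensor F z =
      TensorProduct.comm R F C (Comod.coact (k := R) (A := C) f)) :
    theta z (CoalgebraStruct.counit (R := R) (A := D) ∘ₗ ι) = f := by
  have h1 : CoalgebraStruct.counit (R := R) (A := D) ∘ₗ ι =
      CoalgebraStruct.counit (R := R) (A := C) ∘ₗ (e.toLin ∘ₗ ι) := by
    apply LinearMap.ext
    intro m
    simp [e.map_counit]
  rw [theta_apply, h1, LinearMap.rTensor_comp, LinearMap.comp_apply, hz]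
  have h2 : ∀ x : F ⊗[R] C, TensorProduct.lid R F
      ((CoalgebraStruct.counit (R := R) (A := C)).rTensor F (TensorProduct.comm R F C x)) =
      TensorProduct.rid R F ((CoalgebraStruct.counit (R := R) (A := C)).lTensor F x) := by
    intro x
    induction x using TensorProduct.induction_on with
    | zero => simp
    | add x y hx hy => simp only [map_add, hx, hy]
    | tmul f c => simp
  rw [h2, counit_apply]
  simp

end Theta

section Colimit

variable {R : Type u} [CommRing R] {C : Type v} [AddCommGroup C] [Module R C] [Coalgebra R C]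
  {D : Type v'} [AddCommGroup D] [Module R D] [Coalgebra R D] (e : AntiHom R D C)
  (s : C →ₗ[R] D) (hes : ∀ c, e.toLin (s c) = c) (hse : ∀ d, s (e.toLin d) = d)
  {F : Type w'} [AddCommGroup F] [Module R F] [Comod R C F]

include hes hse in
theorem comul_s (c : C) : CoalgebraStruct.comul (R := R) (s c) =
    TensorProduct.map s s (TensorProduct.comm R C C (CoalgebraStruct.comul (R := R) c)) := by
  have h := e.map_comul (s c)
  rw [hes] at h
  rw [h]
  generalize CoalgebraStruct.comul (R := R) (s c) = X
  induction X using TensorProduct.induction_on with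
  | zero => simp
  | add x y hx hy => simp only [map_add, ← hx, ← hy]
  | tmul d₁ d₂ => simp [hse]

/-- `q ⊗ c ↦ s c ⊗ q`. -/
noncomputable def gam : (F ⊗[R] C) ⊗[R] C →ₗ[R] D ⊗[R] (F ⊗[R] C) :=
  s.rTensor (F ⊗[R] C) ∘ₗ (TensorProduct.comm R (F ⊗[R] C) C).toLinearMap

omit [Coalgebra R D] [Comod R C F] [Coalgebra R C] in
@[simp] theorem gam_tmul (q : F ⊗[R] C) (c : C) : gam (F := F) s (q ⊗ₜ[R] c) = s c ⊗ₜ[R] q := by
  simp [gam]

omit [Coalgebra R D] in
theorem sideA_gam (x : F ⊗[R] C) :
    sideA (C := C) (s.rTensor F (TensorProduct.comm R F C x)) =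
      gam s ((Comod.coact (k := R) (A := C) (V := F)).rTensor C x) := by
  induction x using TensorProduct.induction_on with
  | zero => simp
  | add x y hx hy => simp only [map_add, hx, hy]
  | tmul f c => simp [sideA]

include hes hse in
theorem sideB_gam (x : F ⊗[R] C) :
    sideB e (CoalgebraStruct.comul (R := R) (A := D)) (s.rTensor F (TensorProduct.comm R F C x)) =
      gam s ((TensorProduct.assoc R F C C).symm
        ((CoalgebraStruct.comul (R := R) (A := C)).lTensor F x)) := by
  induction x using TensorProduct.induction_on with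
  | zero => simp
  | add x y hx hy => simp only [map_add, hx, hy]
  | tmul f c =>
    simp only [TensorProduct.comm_tmul, LinearMap.rTensor_tmul, LinearMap.lTensor_tmul, sideB,
      LinearMap.comp_apply]
    rw [comul_s e s hes hse]
    generalize CoalgebraStruct.comul (R := R) c = t
    induction t using TensorProduct.induction_on with
    | zero => simp
    | add x y hx hy => simp only [map_add, TensorProduct.add_tmul, TensorProduct.tmul_add, hx, hy]
    | tmul c₁ c₂ => simp [hes]

include hes hse in
/-- The coaction of `F`, read in `D ⊗ F`, lies in the cotensor product `D □ F`. -/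
theorem isCotensor_regular (f : F) :
    IsCotensor e (CoalgebraStruct.comul (R := R) (A := D))
      (s.rTensor F (TensorProduct.comm R F C (Comod.coact (k := R) (A := C) f))) := by
  unfold IsCotensor
  rw [sideA_gam, sideB_gam e s hes hse, coassoc_apply]

end Colimit

section Sub

variable {k : Type u} [CommRing k] {A : Type v} [AddCommGroup A] [Module k A] [Coalgebra k A]
  [Module.Flat k A] {V : Type w} [AddCommGroup V] [Module k V] [Comod k A V]

/-- Inclusions of subcomodules are comodule maps. -/
theorem subCoact_inclusion {U U' : Submodule k V} (hU : IsSubcomod (k := k) (A := A) U)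
    (hU' : IsSubcomod (k := k) (A := A) U') (h : U ≤ U') :
    subCoact U' hU' ∘ₗ Submodule.inclusion h =
      (Submodule.inclusion h).rTensor A ∘ₗ subCoact U hU := by
  apply LinearMap.ext
  intro x
  apply Module.Flat.rTensor_preserves_injective_linearMap (M := A) U'.subtype
    U'.subtype_injective
  simp only [LinearMap.comp_apply]
  rw [rTensor_subtype_subCoact, ← LinearMap.comp_apply, ← LinearMap.rTensor_comp,
    Submodule.subtype_comp_inclusion, rTensor_subtype_subCoact]
  rfl

end Sub

section Exists

variable {R : Type u} [CommRing R] [IsNoetherianRing R]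
  {C : Type v} [AddCommGroup C] [Module R C] [Coalgebra R C]
  {D : Type v'} [AddCommGroup D] [Module R D] [Coalgebra R D] [Module.Flat R D]
  (e : AntiHom R D C)
  (s : C →ₗ[R] D) (hes : ∀ c, e.toLin (s c) = c) (hse : ∀ d, s (e.toLin d) = d)
  {F : Type w'} [AddCommGroup F] [Module R F] [Comod R C F]

include hes hse in
/-- If the finite projective subcomodules of `D` are cofinal among its finitely generated
submodules, the coaction of every element of `F` comes from the cotensor product with one of
them. -/
theorem exists_cotensor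
    (H : ∀ P : Submodule R D, P.FG → ∃ M : Submodule R D,
      IsSubcomod (k := R) (A := D) M ∧ P ≤ M ∧ M.FG ∧ Module.Projective R M)
    (f : F) :
    ∃ (M : Submodule R D) (hM : IsSubcomod (k := R) (A := D) M) (z : M ⊗[R] F),
      M.FG ∧ Module.Projective R M ∧ IsCotensor e (subCoact M hM) z ∧
      (e.toLin ∘ₗ M.subtype).rTensor F z =
        TensorProduct.comm R F C (Comod.coact (k := R) (A := C) f) := by
  set u : D ⊗[R] F :=
    s.rTensor F (TensorProduct.comm R F C (Comod.coact (k := R) (A := C) f)) with hu
  obtain ⟨P, hPfg, z', hz'⟩ := TensorProduct.exists_of_fg u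
  obtain ⟨M₀, hM₀, hPM₀, hM₀fg, -⟩ := H P hPfg
  set z₀ : M₀ ⊗[R] F := (Submodule.inclusion hPM₀).rTensor F z' with hz₀
  have hz₀u : M₀.subtype.rTensor F z₀ = u := by
    rw [hz₀, ← LinearMap.comp_apply, ← LinearMap.rTensor_comp, Submodule.subtype_comp_inclusion,
      hz']
  have hsub : CoalgebraStruct.comul (R := R) (A := D) ∘ₗ M₀.subtype =
      M₀.subtype.rTensor D ∘ₗ subCoact M₀ hM₀ := by
    apply LinearMap.ext
    intro m
    exact (rTensor_subtype_subCoact M₀ hM₀ m).symm
  have hD : M₀.subtype.rTensor (F ⊗[R] C) (sideA (C := C) z₀) =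
      M₀.subtype.rTensor (F ⊗[R] C) (sideB e (subCoact M₀ hM₀) z₀) := by
    rw [← sideA_rTensor, ← sideB_rTensor e M₀.subtype (subCoact M₀ hM₀)
      (CoalgebraStruct.comul (R := R) (A := D)) hsub, hz₀u]
    exact isCotensor_regular e s hes hse f
  obtain ⟨Q, hM₀Q, hQfg, hQ⟩ := TensorProduct.eq_of_fg_of_subtype_eq hM₀fg hD
  obtain ⟨M₁, hM₁, hQM₁, hM₁fg, hM₁proj⟩ := H Q hQfg
  have h01 : M₀ ≤ M₁ := hM₀Q.trans hQM₁
  refine ⟨M₁, hM₁, (Submodule.inclusion h01).rTensor F z₀, hM₁fg, hM₁proj, ?_, ?_⟩
  · unfold IsCotensor
    rw [sideA_rTensor, sideB_rTensor e (Submodule.inclusion h01) (subCoact M₀ hM₀)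
      (subCoact M₁ hM₁) (subCoact_inclusion hM₀ hM₁ h01)]
    have hcomp : Submodule.inclusion h01 =
        Submodule.inclusion hQM₁ ∘ₗ Submodule.inclusion hM₀Q := rfl
    rw [hcomp, LinearMap.rTensor_comp, LinearMap.comp_apply, LinearMap.comp_apply, hQ]
  · rw [← LinearMap.comp_apply, ← LinearMap.rTensor_comp, LinearMap.comp_assoc,
      Submodule.subtype_comp_inclusion, LinearMap.rTensor_comp, LinearMap.comp_apply, hz₀u, hu,
      ← LinearMap.comp_apply, ← LinearMap.rTensor_comp]
    have hid : e.toLin ∘ₗ s = LinearMap.id := LinearMap.ext hes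
    rw [hid, LinearMap.rTensor_id, LinearMap.id_apply]

end Exists

end Groth.Agent.Lib.R2H7.CoopRes
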