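import Groth.Agent.Lib.R2H7CoopRes
import Groth.Prelude.Def_ComodTens

/-!
# Resolution property for comodules over a regular base of dimension at most two
(helper7, round 2)

Every comodule, finitely generated as a module, over a projective coalgebra over a regular ring of
Krull dimension at most two is a quotient of a comodule which is finitely generated and projective
as a module.
-/

set_option autoImplicit false

namespace Groth.Agent.Lib.R2H7.CoopRes

open TensorProduct HopfRep Groth.Agent.Lib.Helper25 Groth.Agent.Lib.R2H7.DualCoop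
  Groth.Agent.Lib.R2H7.Coop Groth.Agent.Lib.R2H7.Sat

universe u

section Cover

variable {R : Type u} [CommRing R] {C : Type u} [AddCommGroup C] [Module R C] [Coalgebra R C]
  {F : Type u} [AddCommGroup F] [Module R F] [Comod R C F]

/-- A submodule of a comodule is covered when it lies in the image of a comodule map from a
finite projective comodule. -/
def Covered (F' : Submodule R F) : Prop :=
  ∃ (V : Type u) (_ : AddCommGroup V) (_ : Module R V) (_ : Comod R C V) (φ : V →ₗ[R] F),
    Module.Finite R V ∧ Module.Projective R V ∧ F' ≤ LinearMap.range φ ∧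
    Comod.coact (k := R) (A := C) ∘ₗ φ =
      φ.rTensor C ∘ₗ Comod.coact (k := R) (A := C) (V := V)

theorem Covered.sup {F₁ F₂ : Submodule R F} (h₁ : Covered (C := C) F₁)
    (h₂ : Covered (C := C) F₂) : Covered (C := C) (F₁ ⊔ F₂) := by
  obtain ⟨V₁, i1, i2, c₁, φ₁, hf₁, hp₁, hr₁, hc₁⟩ := h₁
  obtain ⟨V₂, j1, j2, c₂, φ₂, hf₂, hp₂, hr₂, hc₂⟩ := h₂
  refine ⟨V₁ × V₂, inferInstance, inferInstance, ComodTens.Comod.prod c₁ c₂, φ₁.coprod φ₂,
    inferInstance, inferInstance, ?_, ?_⟩
  · rw [LinearMap.range_coprod]
    exact sup_le_sup hr₁ hr₂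
  · apply LinearMap.ext
    rintro ⟨v, w⟩
    have e1 := LinearMap.congr_fun hc₁ v
    have e2 := LinearMap.congr_fun hc₂ w
    simp only [LinearMap.comp_apply] at e1 e2
    have h3 : (ComodTens.Comod.prod c₁ c₂).coact (v, w) =
        (LinearMap.inl R V₁ V₂).rTensor C (c₁.coact v) +
          (LinearMap.inr R V₁ V₂).rTensor C (c₂.coact w) := by
      show (((LinearMap.inl R V₁ V₂).rTensor C ∘ₗ c₁.coact).coprod
        ((LinearMap.inr R V₁ V₂).rTensor C ∘ₗ c₂.coact)) (v, w) = _
      rw [LinearMap.coprod_apply, LinearMap.comp_apply, LinearMap.comp_apply]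
    have h4 : (φ₁.coprod φ₂).rTensor C ((LinearMap.inl R V₁ V₂).rTensor C (c₁.coact v)) =
        φ₁.rTensor C (c₁.coact v) := by
      rw [← LinearMap.comp_apply, ← LinearMap.rTensor_comp, LinearMap.coprod_inl]
    have h5 : (φ₁.coprod φ₂).rTensor C ((LinearMap.inr R V₁ V₂).rTensor C (c₂.coact w)) =
        φ₂.rTensor C (c₂.coact w) := by
      rw [← LinearMap.comp_apply, ← LinearMap.rTensor_comp, LinearMap.coprod_inr]
    rw [LinearMap.comp_apply, LinearMap.comp_apply, LinearMap.coprod_apply, map_add, e1, e2]
    refine Eq.trans ?_ (congrArg ((φ₁.coprod φ₂).rTensor C) h3).symm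
    rw [map_add, h4, h5]

end Cover

section Main

variable {R : Type u} [CommRing R] [IsRegularRing R] (hdim : ringKrullDim R ≤ 2)
  {C : Type u} [AddCommGroup C] [Module R C] [Coalgebra R C] [Module.Projective R C]
  {F : Type u} [AddCommGroup F] [Module R F] [Comod R C F]

/-- The identity from the co-opposite, as an anti-homomorphism. -/
noncomputable def copAntiHom (R : Type u) [CommRing R] (C : Type u) [AddCommGroup C] [Module R C]
    [Coalgebra R C] : AntiHom R (Cop R C) C where
  toLin := (Cop.equiv R C).toLinearMap
  map_comul d := Cop.comul_equiv R C d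
  map_counit d := Cop.counit_equiv R C d

include hdim in
/-- Finite projective left coideals are cofinal. -/
theorem exists_projective_subcomod (P : Submodule R (Cop R C)) (hP : P.FG) :
    ∃ M : Submodule R (Cop R C), IsSubcomod (k := R) (A := Cop R C) M ∧ P ≤ M ∧ M.FG ∧
      Module.Projective R M := by
  obtain ⟨W, hW, hPW, hWfg⟩ := exists_fg_subcomod_ge_noeth (k := R) (A := Cop R C)
    (V := Cop R C) P hP
  exact ⟨sat W, isSubcomod_sat hW, hPW.trans (le_sat W), sat_fg hdim W hWfg,
    sat_projective hdim W hWfg⟩

include hdim in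
theorem covered_singleton (f : F) : Covered (C := C) (R ∙ f) := by
  obtain ⟨M, hM, z, hMfg, hMproj, hz, hzf⟩ := exists_cotensor (copAntiHom R C)
    (Cop.equiv R C).symm.toLinearMap (fun c => (Cop.equiv R C).apply_symm_apply c)
    (fun d => (Cop.equiv R C).symm_apply_apply d)
    (fun P hP => exists_projective_subcomod hdim P hP) f
  haveI : Module.Finite R M := Module.Finite.iff_fg.mpr hMfg
  haveI : Module.Projective R M := hMproj
  letI cM : Comod R (Cop R C) M := subComod M hM
  refine ⟨Module.Dual R M, inferInstance, inferInstance, dualComod (copAntiHom R C),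
    theta z, inferInstance, inferInstance, ?_, ?_⟩
  · rw [Submodule.span_le, Set.singleton_subset_iff]
    exact ⟨_, theta_counit (copAntiHom R C) z M.subtype f hzf⟩
  · exact isComodHom_theta (copAntiHom R C) z hz

include hdim in
/-- **Resolution property** (Serre, Thomason): over a regular ring of dimension at most two, every
finitely generated comodule over a projective coalgebra is a quotient of a finite projective
comodule. -/
theorem exists_projective_cover [Module.Finite R F] :
    ∃ (V : Type u) (_ : AddCommGroup V) (_ : Module R V) (_ : Comod R C V) (φ : V →ₗ[R] F),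
      Module.Finite R V ∧ Module.Projective R V ∧ Function.Surjective φ ∧
      Comod.coact (k := R) (A := C) ∘ₗ φ =
        φ.rTensor C ∘ₗ Comod.coact (k := R) (A := C) (V := V) := by
  have h : Covered (C := C) (⊤ : Submodule R F) := by
    refine Submodule.fg_induction (R := R) (M := F)
      (motive := fun N _ => Covered (C := C) N) ?_ ?_ ⊤ Module.Finite.fg_top
    · intro f
      exact covered_singleton hdim f
    · intro N₁ N₂ _ _ h₁ h₂
      exact h₁.sup h₂
  obtain ⟨V, i1, i2, c, φ, hf, hp, hr, hc⟩ := h
  exact ⟨V, i1, i2, c, φ, hf, hp, LinearMap.range_eq_top.mp (top_le_iff.mp hr), hc⟩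

end Main

end Groth.Agent.Lib.R2H7.CoopRes
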