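/-
`Ext^1` lengths over the "cubical" curve singularity `A = k + X^n k⟦X⟧`: S15031, S15032, S15033.
(helper7)
-/
import Mathlib
import Groth.Agent.Lib.R2H7MonoExt

set_option autoImplicit false
open CategoryTheory CategoryTheory.Abelian

noncomputable section

namespace Groth.Agent.Lib.R2H7.Cubical

open PowerSeries Groth.Agent.Lib.R2H7.CanDual Groth.Agent.Lib.R2H7.MonoLen

universe u

variable {k : Type u} [Field k] (n : ℕ) (A : Subalgebra k (PowerSeries k))
  (hmono : ∀ f : PowerSeries k, f ∈ A ↔ ∀ m : ℕ, PowerSeries.coeff m f ≠ 0 → (m = 0 ∨ n ≤ m))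

/-- the semigroup of the cubical singularity -/
def Γc (n : ℕ) : Set ℕ := {m | m = 0 ∨ n ≤ m}

theorem mem_Γc {n m : ℕ} : m ∈ Γc n ↔ (m = 0 ∨ n ≤ m) := Iff.rfl

include hmono in
theorem hA : ∀ f, f ∈ A ↔ SuppIn (Γc n) f := hmono

set_option maxHeartbeats 1600000 in
include hmono in
theorem main15031 (i : ℕ) (hi : i + 2 ≤ n) :
    Module.length ↥A (Ext.{u}
      (ModuleCat.of ↥A ↥(Submodule.span ↥A
        ((fun a : ℕ => (PowerSeries.X : PowerSeries k) ^ a) '' Set.Iic i)))
      (ModuleCat.of ↥A ↥(Submodule.span ↥A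
        ((fun a : ℕ => (PowerSeries.X : PowerSeries k) ^ a) '' Set.Iic i))) 1) =
      ((i * (n - 2 - i) : ℕ) : ℕ∞) := by
  classical
  have hA' := hA n A hmono
  set Msub := Submodule.span ↥A ((fun a : ℕ => (X : PowerSeries k) ^ a) '' Set.Iic i) with hMsub
  let SN : Set ℕ := {d | d ≤ i ∨ n ≤ d}
  have hSNmem : ∀ d, d ∈ SN ↔ (d ≤ i ∨ n ≤ d) := fun d => Iff.rfl
  have hN : ∀ x, x ∈ LinearMap.range Msub.subtype ↔ SuppIn SN x := by
    intro x
    rw [Submodule.range_subtype, hMsub]
    have h1 : (Set.Iic i : Set ℕ) = ↑(Finset.range (i + 1)) := by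
      ext d; simp
    rw [h1, mem_span_iff A (Γc n) hA']
    have h2 : addSet (↑(Finset.range (i + 1)) : Set ℕ) (Γc n) = SN := by
      ext d
      rw [hSNmem]
      constructor
      · rintro ⟨g, hg, s, hs, rfl⟩
        have hg' : g < i + 1 := by simpa using hg
        rcases hs with rfl | hs
        · left; omega
        · right; omega
      · rintro (hd | hd)
        · exact ⟨d, by simpa [Nat.lt_succ_iff] using hd, 0, Or.inl rfl, by omega⟩
        · exact ⟨0, by simp, d, Or.inr hd, by omega⟩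
    rw [h2]
  have hM : LinearMap.range Msub.subtype = Submodule.span ↥A
      (insert 1 (Set.range fun j : Fin i => (X : PowerSeries k) ^ ((j : ℕ) + 1))) := by
    rw [Submodule.range_subtype, hMsub]
    congr 1
    ext x
    constructor
    · rintro ⟨a, ha, rfl⟩
      have ha' : a ≤ i := ha
      rcases Nat.eq_zero_or_pos a with rfl | hpos
      · left; simp
      · right
        refine ⟨⟨a - 1, by omega⟩, ?_⟩
        change (X : PowerSeries k) ^ (a - 1 + 1) = X ^ a
        rw [Nat.sub_add_cancel hpos]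
    · rintro (rfl | ⟨j, rfl⟩)
      · exact ⟨0, by simp, by simp⟩
      · refine ⟨(j : ℕ) + 1, ?_, rfl⟩
        have := j.2
        change (j : ℕ) + 1 ≤ i
        omega
  let SI : Set ℕ := {s | n ≤ s}
  let SP : Set ℕ := {d | ∃ t ∈ SN, d = n + t}
  let SH : Set ℕ := {d | ∀ s ∈ SI, d + s ∈ SP}
  let SNm : Set ℕ := {d | d ∈ SN ∧ ∀ j : Fin i, d + ((j : ℕ) + 1) ∈ SN}
  have hset1 : SH \ SP = ↑(Finset.Ico (n + i + 1) (2 * n)) := by
    ext d
    simp only [Set.mem_diff, Finset.coe_Ico, Set.mem_Ico]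
    constructor
    · rintro ⟨hH, hP⟩
      have h1 : d + n ∈ SP := hH n (le_refl n)
      obtain ⟨t, ht, hdt⟩ := h1
      have htd : t = d := by omega
      rw [htd, hSNmem] at ht
      have hnd : n ≤ d := by
        rcases ht with h | h
        · exfalso
          have h2 : d + (n + i + 1 - d) ∈ SP := hH (n + i + 1 - d) (by change n ≤ _; omega)
          obtain ⟨t', ht', hdt'⟩ := h2
          rw [hSNmem] at ht'
          omega
        · exact h
      have h3 : ¬ (d - n ∈ SN) := fun h => hP ⟨d - n, h, by omega⟩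
      rw [hSNmem] at h3
      omega
    · rintro ⟨h1, h2⟩
      refine ⟨?_, ?_⟩
      · intro s hs
        have hs' : n ≤ s := hs
        exact ⟨d + s - n, (hSNmem _).mpr (Or.inr (by omega)), by omega⟩
      · rintro ⟨t, ht, hdt⟩
        rw [hSNmem] at ht
        omega
  have hset2 : SN \ SNm = ↑(Finset.Icc 1 i) := by
    ext d
    simp only [Set.mem_diff, Finset.coe_Icc, Set.mem_Icc]
    constructor
    · rintro ⟨hd, hnm⟩
      have h1 : ¬ ∀ j : Fin i, d + ((j : ℕ) + 1) ∈ SN := fun h => hnm ⟨hd, h⟩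
      push Not at h1
      obtain ⟨j, hj⟩ := h1
      rw [hSNmem] at hj hd
      have := j.2
      omega
    · rintro ⟨h1, h2⟩
      refine ⟨(hSNmem _).mpr (Or.inl h2), ?_⟩
      rintro ⟨-, h⟩
      have h3 := h ⟨i - d, by omega⟩
      rw [hSNmem] at h3
      change d + (i - d + 1) ≤ i ∨ n ≤ d + (i - d + 1) at h3
      omega
  have hmain := MonoExt.length_ext_one_add (M := ↥Msub) (N := ↥Msub) A (Γc n) hA'
    (fun j : Fin i => (j : ℕ) + 1) SI
    (fun s hs => Or.inr hs) (fun s hs t _ => by change n ≤ s + t; have : n ≤ s := hs; omega)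
    n (le_refl n)
    (fun s hs j => Or.inr (by have : n ≤ s := hs; omega))
    (by
      intro j s hs hsI
      have hs0 : s = 0 := by
        rcases hs with h | h
        · exact h
        · exact absurd h hsI
      have hj := j.2
      subst hs0
      refine ⟨?_, ?_⟩
      · rintro (h | h) <;> omega
      · intro j' hj' s' hs'
        have hjj : (j' : ℕ) ≠ (j : ℕ) := fun h => hj' (Fin.ext h)
        rcases hs' with h | h <;> omega)
    Msub.subtype Msub.subtype (Submodule.injective_subtype _) (Submodule.injective_subtype _)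
    hM SN hN SH SP SNm (fun d => Iff.rfl) (fun d => Iff.rfl) (fun d => Iff.rfl)
    (by rw [hset1]; exact Finset.finite_toSet _) (by rw [hset2]; exact Finset.finite_toSet _)
  rw [hset1, hset2, Set.ncard_coe_finset, Set.ncard_coe_finset, Nat.card_Ico, Nat.card_Icc]
    at hmain
  have harith : ((i * (n - 2 - i) : ℕ) : ℕ∞) + ((i + 1 - 1 : ℕ) : ℕ∞) =
      (i : ℕ∞) * ((2 * n - (n + i + 1) : ℕ) : ℕ∞) := by
    have h1 : 2 * n - (n + i + 1) = (n - 2 - i) + 1 := by omega
    have h2 : i + 1 - 1 = i := by omega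
    rw [h1, h2]
    push_cast
    ring
  exact ENat.add_left_injective_of_ne_top (ENat.coe_ne_top _) (hmain.trans harith.symm)

end Groth.Agent.Lib.R2H7.Cubical
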