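/-
`Ext^1` lengths over the "cubical" curve singularity `A = k + X^n k⟦X⟧`: S15033 (partial
normalizations) and S15032 (the normalization).  (helper7)
-/
import Mathlib
import Groth.Agent.Lib.R2H7Cubical

set_option autoImplicit false
open CategoryTheory CategoryTheory.Abelian

noncomputable section

namespace Groth.Agent.Lib.R2H7.Cubical

open PowerSeries Groth.Agent.Lib.R2H7.CanDual Groth.Agent.Lib.R2H7.MonoLen

universe u

variable {k : Type u} [Field k] (n : ℕ) (A : Subalgebra k (PowerSeries k))
  (hmono : ∀ f : PowerSeries k, f ∈ A ↔ ∀ m : ℕ, PowerSeries.coeff m f ≠ 0 → (m = 0 ∨ n ≤ m))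

set_option maxHeartbeats 1600000 in
include hmono in
theorem main15033 (i : ℕ) (hi : i + 2 ≤ n) :
    Module.length ↥A (Ext.{u}
      (ModuleCat.of ↥A ↥(Submodule.span ↥A
        ((fun a : ℕ => (PowerSeries.X : PowerSeries k) ^ a) '' ({0} ∪ Set.Icc (n - i) (n - 1)))))
      (ModuleCat.of ↥A ↥(Submodule.span ↥A
        ((fun a : ℕ => (PowerSeries.X : PowerSeries k) ^ a) '' ({0} ∪ Set.Icc (n - i) (n - 1)))))
      1) = ((i * (n - 1) : ℕ) : ℕ∞) := by
  classical
  have hA' := hA n A hmono
  set Msub := Submodule.span ↥A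
    ((fun a : ℕ => (X : PowerSeries k) ^ a) '' ({0} ∪ Set.Icc (n - i) (n - 1))) with hMsub
  let SN : Set ℕ := {d | d = 0 ∨ n - i ≤ d}
  have hSNmem : ∀ d, d ∈ SN ↔ (d = 0 ∨ n - i ≤ d) := fun d => Iff.rfl
  have hN : ∀ x, x ∈ LinearMap.range Msub.subtype ↔ SuppIn SN x := by
    intro x
    rw [Submodule.range_subtype, hMsub]
    have h1 : (({0} ∪ Set.Icc (n - i) (n - 1)) : Set ℕ) =
        ↑(insert 0 (Finset.Icc (n - i) (n - 1))) := by
      ext d; simp
    rw [h1, mem_span_iff A (Γc n) hA']
    have h2 : addSet (↑(insert 0 (Finset.Icc (n - i) (n - 1))) : Set ℕ) (Γc n) = SN := by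
      ext d
      rw [hSNmem]
      constructor
      · rintro ⟨g, hg, s, hs, rfl⟩
        have hg' : g = 0 ∨ (n - i ≤ g ∧ g ≤ n - 1) := by simpa using hg
        rcases hs with rfl | hs
        · rcases hg' with h | h
          · left; omega
          · right; omega
        · right; omega
      · rintro (hd | hd)
        · exact ⟨0, by simp, 0, Or.inl rfl, by omega⟩
        · by_cases hdn : d ≤ n - 1
          · exact ⟨d, Finset.mem_coe.mpr (Finset.mem_insert_of_mem (Finset.mem_Icc.mpr ⟨hd, hdn⟩)),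
              0, Or.inl rfl, by omega⟩
          · exact ⟨0, by simp, d, Or.inr (by omega), by omega⟩
    rw [h2]
  have hM : LinearMap.range Msub.subtype = Submodule.span ↥A
      (insert 1 (Set.range fun j : Fin i => (X : PowerSeries k) ^ (n - i + (j : ℕ)))) := by
    rw [Submodule.range_subtype, hMsub]
    congr 1
    ext x
    constructor
    · rintro ⟨a, ha, rfl⟩
      rcases ha with ha | ha
      · rw [Set.mem_singleton_iff] at ha
        subst ha
        left; simp
      · right
        obtain ⟨ha1, ha2⟩ := ha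
        refine ⟨⟨a - (n - i), by omega⟩, ?_⟩
        change (X : PowerSeries k) ^ (n - i + (a - (n - i))) = X ^ a
        rw [Nat.add_sub_cancel' ha1]
    · rintro (rfl | ⟨j, rfl⟩)
      · exact ⟨0, Or.inl rfl, by simp⟩
      · refine ⟨n - i + (j : ℕ), Or.inr ?_, rfl⟩
        have := j.2
        constructor <;> omega
  let SI : Set ℕ := {s | n ≤ s}
  let SP : Set ℕ := {d | ∃ t ∈ SN, d = n + t}
  let SH : Set ℕ := {d | ∀ s ∈ SI, d + s ∈ SP}
  let SNm : Set ℕ := {d | d ∈ SN ∧ ∀ j : Fin i, d + (n - i + (j : ℕ)) ∈ SN}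
  have hset1 : SH \ SP = ↑((Finset.Ico (n - i) (2 * n - i)).erase n) := by
    ext d
    simp only [Set.mem_sdiff, Finset.coe_erase, Finset.coe_Ico, Set.mem_Ico, Set.mem_singleton_iff]
    constructor
    · rintro ⟨hH, hP⟩
      have h1 : d + n ∈ SP := hH n (le_refl n)
      obtain ⟨t, ht, hdt⟩ := h1
      have htd : t = d := by omega
      rw [htd, hSNmem] at ht
      have hnd : n - i ≤ d := by
        rcases ht with h | h
        · exfalso
          have h2 : d + (n + 1) ∈ SP := hH (n + 1) (by change n ≤ _; omega)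
          obtain ⟨t', ht', hdt'⟩ := h2
          rw [hSNmem] at ht'
          omega
        · exact h
      have h3 : ∀ t, t ∈ SN → d ≠ n + t := fun t ht hdt => hP ⟨t, ht, hdt⟩
      refine ⟨⟨hnd, ?_⟩, ?_⟩
      · by_contra hge
        exact h3 (d - n) ((hSNmem _).mpr (Or.inr (by omega))) (by omega)
      · intro hdn
        exact h3 0 ((hSNmem _).mpr (Or.inl rfl)) (by omega)
    · rintro ⟨⟨h1, h2⟩, h3⟩
      refine ⟨?_, ?_⟩
      · intro s hs
        have hs' : n ≤ s := hs
        exact ⟨d + s - n, (hSNmem _).mpr (Or.inr (by omega)), by omega⟩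
      · rintro ⟨t, ht, hdt⟩
        rw [hSNmem] at ht
        omega
  have hset2 : SN \ SNm = ∅ := by
    ext d
    simp only [Set.mem_sdiff, Set.mem_empty_iff_false, iff_false, not_and, not_not]
    intro hd
    refine ⟨hd, fun j => (hSNmem _).mpr (Or.inr (by omega))⟩
  have hmain := MonoExt.length_ext_one_add (M := ↥Msub) (N := ↥Msub) A (Γc n) hA'
    (fun j : Fin i => n - i + (j : ℕ)) SI
    (fun s hs => Or.inr hs) (fun s hs t _ => by change n ≤ s + t; have : n ≤ s := hs; omega)
    n (le_refl n)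
    (fun s hs j => Or.inr (by have : n ≤ s := hs; omega))
    (by
      intro j s hs hsI
      have hs0 : s = 0 := by
        rcases hs with h | h
        · exact h
        · exact absurd h hsI
      have hj := j.2
      subst hs0
      refine ⟨?_, ?_⟩
      · rintro (h | h) <;> omega
      · intro j' hj' s' hs'
        have hjj : (j' : ℕ) ≠ (j : ℕ) := fun h => hj' (Fin.ext h)
        have hj'2 := j'.2
        rcases hs' with h | h <;> omega)
    Msub.subtype Msub.subtype (Submodule.injective_subtype _) (Submodule.injective_subtype _)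
    hM SN hN SH SP SNm (fun d => Iff.rfl) (fun d => Iff.rfl) (fun d => Iff.rfl)
    (by rw [hset1]; exact Finset.finite_toSet _) (by rw [hset2]; exact Set.finite_empty)
  rw [hset1, hset2, Set.ncard_coe_finset, Set.ncard_empty,
    Finset.card_erase_of_mem (by rw [Finset.mem_Ico]; omega), Nat.card_Ico] at hmain
  have h1 : 2 * n - i - (n - i) - 1 = n - 1 := by omega
  rw [h1, Nat.cast_zero, add_zero] at hmain
  rw [hmain]
  push_cast
  rfl

set_option maxHeartbeats 1600000 in
include hmono in
theorem main15032a (hn : 2 ≤ n) :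
    Module.length ↥A (Ext.{u} (ModuleCat.of ↥A (PowerSeries k)) (ModuleCat.of ↥A (PowerSeries k)) 1)
      = (((n - 1) * n : ℕ) : ℕ∞) := by
  classical
  have hA' := hA n A hmono
  let SN : Set ℕ := Set.univ
  have hN : ∀ x, x ∈ LinearMap.range (LinearMap.id : PowerSeries k →ₗ[↥A] PowerSeries k) ↔
      SuppIn SN x := by
    intro x
    rw [LinearMap.range_id]
    exact ⟨fun _ m _ => trivial, fun _ => trivial⟩
  have hM : LinearMap.range (LinearMap.id : PowerSeries k →ₗ[↥A] PowerSeries k) =
      Submodule.span ↥A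
      (insert 1 (Set.range fun j : Fin (n - 1) => (X : PowerSeries k) ^ ((j : ℕ) + 1))) := by
    rw [LinearMap.range_id]
    have hset : insert (1 : PowerSeries k)
        (Set.range fun j : Fin (n - 1) => (X : PowerSeries k) ^ ((j : ℕ) + 1)) =
        (fun a : ℕ => (X : PowerSeries k) ^ a) '' (↑(Finset.range n) : Set ℕ) := by
      ext x
      constructor
      · rintro (rfl | ⟨j, rfl⟩)
        · exact ⟨0, by simp; omega, by simp⟩
        · refine ⟨(j : ℕ) + 1, ?_, rfl⟩
          have := j.2
          simp only [Finset.coe_range, Set.mem_Iio]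
          omega
      · rintro ⟨a, ha, rfl⟩
        have ha' : a < n := by simpa using ha
        rcases Nat.eq_zero_or_pos a with rfl | hpos
        · left; simp
        · right
          refine ⟨⟨a - 1, by omega⟩, ?_⟩
          change (X : PowerSeries k) ^ (a - 1 + 1) = X ^ a
          rw [Nat.sub_add_cancel hpos]
    rw [hset, eq_comm, eq_top_iff]
    intro f _
    rw [mem_span_iff A (Γc n) hA']
    intro d _
    by_cases hd : d < n
    · exact ⟨d, by simpa using hd, 0, Or.inl rfl, by omega⟩
    · exact ⟨0, by simp; omega, d, Or.inr (by omega), by omega⟩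
  let SI : Set ℕ := {s | n ≤ s}
  let SP : Set ℕ := {d | ∃ t ∈ SN, d = n + t}
  let SH : Set ℕ := {d | ∀ s ∈ SI, d + s ∈ SP}
  let SNm : Set ℕ := {d | d ∈ SN ∧ ∀ j : Fin (n - 1), d + ((j : ℕ) + 1) ∈ SN}
  have hset1 : SH \ SP = ↑(Finset.range n) := by
    ext d
    simp only [Set.mem_sdiff, Finset.coe_range, Set.mem_Iio]
    constructor
    · rintro ⟨-, hP⟩
      by_contra hge
      exact hP ⟨d - n, trivial, by omega⟩
    · intro hd
      refine ⟨?_, ?_⟩
      · intro s hs
        have hs' : n ≤ s := hs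
        exact ⟨d + s - n, trivial, by omega⟩
      · rintro ⟨t, -, hdt⟩
        omega
  have hset2 : SN \ SNm = ∅ := by
    ext d
    simp only [Set.mem_sdiff, Set.mem_empty_iff_false, iff_false, not_and, not_not]
    intro hd
    exact ⟨hd, fun j => trivial⟩
  have hmain := MonoExt.length_ext_one_add (M := PowerSeries k) (N := PowerSeries k) A (Γc n) hA'
    (fun j : Fin (n - 1) => (j : ℕ) + 1) SI
    (fun s hs => Or.inr hs) (fun s hs t _ => by change n ≤ s + t; have : n ≤ s := hs; omega)
    n (le_refl n)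
    (fun s hs j => Or.inr (by have : n ≤ s := hs; omega))
    (by
      intro j s hs hsI
      have hs0 : s = 0 := by
        rcases hs with h | h
        · exact h
        · exact absurd h hsI
      have hj := j.2
      subst hs0
      refine ⟨?_, ?_⟩
      · rintro (h | h) <;> omega
      · intro j' hj' s' hs'
        have hjj : (j' : ℕ) ≠ (j : ℕ) := fun h => hj' (Fin.ext h)
        rcases hs' with h | h <;> omega)
    LinearMap.id LinearMap.id Function.injective_id Function.injective_id
    hM SN hN SH SP SNm (fun d => Iff.rfl) (fun d => Iff.rfl) (fun d => Iff.rfl)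
    (by rw [hset1]; exact Finset.finite_toSet _) (by rw [hset2]; exact Set.finite_empty)
  rw [hset1, hset2, Set.ncard_coe_finset, Set.ncard_empty, Finset.card_range, Nat.cast_zero,
    add_zero] at hmain
  rw [hmain]
  push_cast
  rfl

set_option synthInstance.maxHeartbeats 400000 in
set_option maxHeartbeats 1600000 in
include hmono in
theorem main15032b (hn : 2 ≤ n) :
    Module.length ↥A ((PowerSeries k →ₗ[↥A] PowerSeries k) ⧸ LinearMap.range
      (Algebra.lsmul ↥A ↥A (PowerSeries k) : ↥A →ₐ[↥A] Module.End ↥A (PowerSeries k)).toLinearMap)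
      = ((n - 1 : ℕ) : ℕ∞) := by
  classical
  have hA' := hA n A hmono
  have hcl := isClosedSub A (Γc n) hA'
  haveI : IsLocalRing ↥A := CanDualPS.isLocalRing hcl
  have hk := residue_surjective A hcl
  have hsm : ∀ (a : ↥A) (x : PowerSeries k), a • x = (a : PowerSeries k) * x :=
    fun a x => Subalgebra.smul_def a x
  have hXn : (X : PowerSeries k) ^ n ∈ A := (hA' _).mpr (suppIn_X_pow.mpr (Or.inr (le_refl n)))
  have hXny : ∀ y : PowerSeries k, X ^ n * y ∈ A := by
    intro y
    rw [hA', suppIn_X_pow_mul]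
    intro m _
    exact Or.inr (by omega)
  let ev1 : (PowerSeries k →ₗ[↥A] PowerSeries k) →ₗ[↥A] PowerSeries k := LinearMap.applyₗ 1
  have hev1 : ∀ φ, ev1 φ = φ 1 := fun φ => rfl
  have hinj : Function.Injective ev1 := by
    rw [injective_iff_map_eq_zero]
    intro φ hφ
    rw [hev1] at hφ
    refine LinearMap.ext fun y => ?_
    rw [LinearMap.zero_apply]
    have h1 : (⟨X ^ n, hXn⟩ : ↥A) • φ y = (⟨X ^ n * y, hXny y⟩ : ↥A) • φ 1 := by
      rw [← map_smul, ← map_smul, hsm, hsm, mul_one]
    rw [hφ, smul_zero, hsm] at h1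
    rcases mul_eq_zero.mp h1 with h | h
    · exact absurd h (pow_ne_zero _ X_ne_zero)
    · exact h
  have hsurj : Function.Surjective ev1 := by
    intro y
    refine ⟨LinearMap.mul ↥A (PowerSeries k) y, ?_⟩
    rw [hev1, LinearMap.mul_apply', mul_one]
  have hΓΓ : ∀ t ∈ Γc n, ∀ d ∈ Γc n, t + d ∈ Γc n := fun t ht d hd =>
    add_mem_Γ A (Γc n) hA' ht hd
  set Asub := suppSub A (Γc n) hA' (Γc n) hΓΓ with hAsub
  have hmap : (LinearMap.range (Algebra.lsmul ↥A ↥A (PowerSeries k) :
      ↥A →ₐ[↥A] Module.End ↥A (PowerSeries k)).toLinearMap).map ev1 = Asub := by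
    ext z
    rw [Submodule.mem_map]
    constructor
    · rintro ⟨_, ⟨a, rfl⟩, rfl⟩
      change SuppIn (Γc n) (a • (1 : PowerSeries k))
      rw [hsm, mul_one]
      exact (hA' _).mp a.2
    · intro hz
      have hzA : z ∈ A := (hA' z).mpr hz
      refine ⟨_, ⟨⟨z, hzA⟩, rfl⟩, ?_⟩
      change (⟨z, hzA⟩ : ↥A) • (1 : PowerSeries k) = z
      rw [hsm, mul_one]
  have htop : (⊤ : Submodule ↥A (PowerSeries k →ₗ[↥A] PowerSeries k)).map ev1 = ⊤ := by
    rw [Submodule.map_top, LinearMap.range_eq_top]
    exact hsurj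
  rw [← ExtAmb.relLen_top, ← relLen_map ev1 hinj, hmap, htop]
  have hset : (Set.univ : Set ℕ) \ Γc n = ↑(Finset.Ico 1 n) := by
    ext d
    simp only [Set.mem_sdiff, Set.mem_univ, true_and, Finset.coe_Ico, Set.mem_Ico, mem_Γc]
    omega
  rw [relLen_eq_ncard A hk Asub ⊤ (Γc n) Set.univ (fun f => Iff.rfl)
    (fun f => ⟨fun _ m _ => trivial, fun _ => trivial⟩) (Set.subset_univ _)
    (by rw [hset]; exact Finset.finite_toSet _), hset, Set.ncard_coe_finset, Nat.card_Ico]

end Groth.Agent.Lib.R2H7.Cubical
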