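/-
R2H7CurveValFin: finitely many valuation rings of the function field of an affine curve
over `k` contain `k` but not the coordinate ring (S11085).
-/
import Mathlib
import Groth.Agent.Lib.R2H7ValInter
import Groth.Agent.Lib.Helper4TensorDim

set_option autoImplicit false
set_option linter.unusedVariables false
set_option linter.style.haveILetI false

namespace Groth.Agent.Lib.R2H7.CurveValFin

open Groth.Agent.Lib.R2H7.ValInter Polynomial

section Gen

variable {F : Type*} [Field F]

theorem val_eq_one_of_le {A B : ValuationSubring F} (hAB : A ≤ B) {u : F}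
    (h : A.valuation u = 1) : B.valuation u = 1 := by
  have hu0 : u ≠ 0 := by
    rintro rfl
    rw [map_zero] at h
    exact zero_ne_one h
  have h1 : u ∈ A := (A.valuation_le_one_iff u).mp h.le
  have h2 : u⁻¹ ∈ A := (A.valuation_le_one_iff _).mp (by rw [map_inv₀, h, inv_one])
  have h3 : B.valuation u ≤ 1 := (B.valuation_le_one_iff u).mpr (hAB h1)
  have h4 : B.valuation u⁻¹ ≤ 1 := (B.valuation_le_one_iff _).mpr (hAB h2)
  rw [map_inv₀] at h4
  have hne : B.valuation u ≠ 0 := (Valuation.ne_zero_iff _).mpr hu0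
  have h5 : 1 ≤ B.valuation u := (inv_le_one₀ (zero_lt_iff.mpr hne)).mp h4
  exact le_antisymm h3 h5

/-- Two comparable valuation subrings with the same trace on a subfield over which the big field
is algebraic coincide. -/
theorem le_of_le_of_algebraic {K : Type*} [Field K] [Algebra K F] [Algebra.IsAlgebraic K F]
    (A B : ValuationSubring F) (hAB : A ≤ B)
    (hK : ∀ c : K, algebraMap K F c ∈ B → algebraMap K F c ∈ A) : B ≤ A := by
  intro x hxB
  by_contra hxA
  have hx0 : x ≠ 0 := fun h => hxA (h ▸ A.zero_mem)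
  obtain ⟨z, hzdef⟩ : ∃ z : F, z = x⁻¹ := ⟨_, rfl⟩
  have hz0 : z ≠ 0 := by rw [hzdef]; exact inv_ne_zero hx0
  have hxA1 : 1 < A.valuation x := by
    rw [← not_le, ValuationSubring.valuation_le_one_iff]; exact hxA
  have hzA : A.valuation z < 1 := by
    rw [hzdef, map_inv₀]; exact inv_lt_one_of_one_lt₀ hxA1
  have hzA0 : (0 : A.ValueGroup) < A.valuation z := zero_lt_iff.mpr ((Valuation.ne_zero_iff _).mpr hz0)
  have hzB : B.valuation z = 1 := by
    have h1 : B.valuation z ≤ 1 :=
      (B.valuation_le_one_iff z).mpr (hAB ((A.valuation_le_one_iff z).mp hzA.le))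
    have h2 : B.valuation x ≤ 1 := (B.valuation_le_one_iff x).mpr hxB
    have hne : B.valuation x ≠ 0 := (Valuation.ne_zero_iff _).mpr hx0
    rw [hzdef, map_inv₀] at h1 ⊢
    have h3 : 1 ≤ B.valuation x := (inv_le_one₀ (zero_lt_iff.mpr hne)).mp h1
    rw [le_antisymm h2 h3, inv_one]
  obtain ⟨p, hp0, hpz⟩ := Algebra.IsAlgebraic.isAlgebraic (R := K) z
  obtain ⟨m, hm, hmax⟩ := Finset.exists_max_image p.support
    (fun l => A.valuation (algebraMap K F (p.coeff l))) (Polynomial.nonempty_support_iff.mpr hp0)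
  have hcm : p.coeff m ≠ 0 := Polynomial.mem_support_iff.mp hm
  have hc0 : algebraMap K F (p.coeff m) ≠ 0 := (map_ne_zero (algebraMap K F)).mpr hcm
  have hvc0 : (0 : A.ValueGroup) < A.valuation (algebraMap K F (p.coeff m)) :=
    zero_lt_iff.mpr ((Valuation.ne_zero_iff _).mpr hc0)
  obtain ⟨q, hq⟩ : ∃ q : ℕ → K, ∀ l, q l = p.coeff l / p.coeff m := ⟨_, fun _ => rfl⟩
  obtain ⟨a, ha⟩ : ∃ a : ℕ → F, ∀ l, a l = algebraMap K F (q l) := ⟨_, fun _ => rfl⟩
  have ha' : ∀ l, a l = algebraMap K F (p.coeff l) / algebraMap K F (p.coeff m) := fun l => by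
    rw [ha, hq, map_div₀]
  have haA : ∀ l, A.valuation (a l) ≤ 1 := by
    intro l
    rw [ha', map_div₀, div_le_one₀ hvc0]
    by_cases hl : l ∈ p.support
    · exact hmax l hl
    · rw [Polynomial.notMem_support_iff.mp hl, map_zero, map_zero]; exact zero_le
  have ham : a m = 1 := by rw [ha', div_self hc0]
  set N := p.natDegree with hN
  have hsum : ∑ l ∈ Finset.range (N + 1), a l * z ^ l = 0 := by
    have h1 : ∑ l ∈ Finset.range (N + 1), a l * z ^ l =
        (∑ l ∈ Finset.range (N + 1), algebraMap K F (p.coeff l) * z ^ l) /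
          algebraMap K F (p.coeff m) := by
      rw [Finset.sum_div]
      refine Finset.sum_congr rfl (fun l _ => ?_)
      rw [ha']; ring
    have h2 : (∑ l ∈ Finset.range (N + 1), algebraMap K F (p.coeff l) * z ^ l) = 0 := by
      rw [← hpz, Polynomial.aeval_eq_sum_range]
      refine Finset.sum_congr rfl (fun l _ => ?_)
      rw [Algebra.smul_def]
    rw [h1, h2, zero_div]
  have hex : ∃ l, A.valuation (a l) = 1 := ⟨m, by rw [ham, map_one]⟩
  classical
  obtain ⟨l0, hl0def⟩ : ∃ l0, l0 = Nat.find hex := ⟨_, rfl⟩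
  have hl0 : A.valuation (a l0) = 1 := by rw [hl0def]; exact Nat.find_spec hex
  have hmin : ∀ l < l0, A.valuation (a l) < 1 := fun l hl =>
    lt_of_le_of_ne (haA l) (Nat.find_min hex (hl0def ▸ hl))
  have hl0N : l0 ≤ N := by
    by_contra hcon
    push Not at hcon
    have : a l0 = 0 := by
      rw [ha', Polynomial.coeff_eq_zero_of_natDegree_lt hcon, map_zero, zero_div]
    rw [this, map_zero] at hl0
    exact zero_ne_one hl0
  have hlowB : ∀ l < l0, B.valuation (a l) < 1 := by
    intro l hl
    by_contra hcon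
    push Not at hcon
    have hal0 : a l ≠ 0 := by
      intro h
      rw [h, map_zero] at hcon
      exact not_le.mpr zero_lt_one hcon
    have hq0 : q l ≠ 0 := by
      intro h; apply hal0; rw [ha, h, map_zero]
    have hinvB : algebraMap K F (q l)⁻¹ ∈ B := by
      rw [map_inv₀, ← ha, ← ValuationSubring.valuation_le_one_iff, map_inv₀]
      exact inv_le_one_of_one_le₀ hcon
    have hinvA := hK _ hinvB
    rw [map_inv₀, ← ha, ← ValuationSubring.valuation_le_one_iff, map_inv₀] at hinvA
    have hne : A.valuation (a l) ≠ 0 := (Valuation.ne_zero_iff _).mpr hal0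
    have : 1 ≤ A.valuation (a l) := (inv_le_one₀ (zero_lt_iff.mpr hne)).mp hinvA
    exact not_le.mpr (hmin l hl) this
  obtain ⟨U, hUdef⟩ : ∃ U : F, U = ∑ l ∈ Finset.Ico (l0 + 1) (N + 1), a l * z ^ (l - l0) :=
    ⟨_, rfl⟩
  have hU : A.valuation U < 1 := by
    rw [hUdef]
    refine Valuation.map_sum_lt _ one_ne_zero (fun l hl => ?_)
    have hl' : l0 + 1 ≤ l := (Finset.mem_Ico.mp hl).1
    rw [map_mul, map_pow]
    have h1 : A.valuation z ^ (l - l0) < 1 := pow_lt_one₀ zero_le hzA (by omega)
    calc A.valuation (a l) * A.valuation z ^ (l - l0) ≤ 1 * A.valuation z ^ (l - l0) :=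
          mul_le_mul' (haA l) le_rfl
      _ = A.valuation z ^ (l - l0) := one_mul _
      _ < 1 := h1
  have hunitA : A.valuation (a l0 + U) = 1 := by
    rw [Valuation.map_add_eq_of_lt_left _ (by rw [hl0]; exact hU), hl0]
  have hunitB : B.valuation (a l0 + U) = 1 := val_eq_one_of_le hAB hunitA
  have hsplit : ∑ l ∈ Finset.range l0, a l * z ^ l + z ^ l0 * (a l0 + U) = 0 := by
    rw [← hsum, ← Finset.sum_range_add_sum_Ico _ (Nat.le_succ_of_le hl0N),
      Finset.sum_eq_sum_Ico_succ_bot (Nat.lt_succ_of_le hl0N)]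
    congr 1
    rw [mul_add, hUdef, Finset.mul_sum, mul_comm]
    congr 1
    refine Finset.sum_congr rfl (fun l hl => ?_)
    have hl' : l0 + 1 ≤ l := (Finset.mem_Ico.mp hl).1
    have : z ^ l = z ^ l0 * z ^ (l - l0) := by rw [← pow_add]; congr 1; omega
    rw [this]; ring
  have hlow : B.valuation (∑ l ∈ Finset.range l0, a l * z ^ l) < 1 := by
    refine Valuation.map_sum_lt _ one_ne_zero (fun l hl => ?_)
    rw [map_mul, map_pow, hzB, one_pow, mul_one]
    exact hlowB l (Finset.mem_range.mp hl)
  have hhigh : B.valuation (z ^ l0 * (a l0 + U)) = 1 := by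
    rw [map_mul, map_pow, hzB, one_pow, one_mul, hunitB]
  have heq : ∑ l ∈ Finset.range l0, a l * z ^ l = -(z ^ l0 * (a l0 + U)) :=
    eq_neg_of_add_eq_zero_left hsplit
  rw [heq, Valuation.map_neg, hhigh] at hlow
  exact lt_irrefl _ hlow

/-- CRT elements for finitely many pairwise incomparable valuation subrings. -/
theorem exists_crt {ι : Type*} [Finite ι] (O : ι → ValuationSubring F)
    (hinc : ∀ i j, O i ≤ O j → i = j) :
    ∃ z : ι → F, (∀ i j, z i ∈ O j) ∧ (∀ i, (O i).valuation (z i - 1) < 1) ∧
      ∀ i j, i ≠ j → (O j).valuation (z i) < 1 := by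
  classical
  rcases isEmpty_or_nonempty ι with he | hne
  · exact ⟨fun _ => 0, fun i => he.elim i, fun i => he.elim i, fun i => he.elim i⟩
  obtain ⟨S, hSdef⟩ : ∃ S : Subring F, S = ⨅ i, (O i).toSubring := ⟨_, rfl⟩
  have hS : ∀ x, x ∈ S ↔ x ∈ (⊤ : Subfield F) ∧ ∀ i, x ∈ O i := by
    intro x
    rw [hSdef, Subring.mem_iInf]
    exact ⟨fun h => ⟨Subfield.mem_top x, fun i => h i⟩, fun h i => h.2 i⟩
  have hS' : ∀ x, x ∈ S → ∀ i, x ∈ O i := fun x hx => ((hS x).mp hx).2
  have hnle : ∀ i j, nIdeal O S hS' i ≤ nIdeal O S hS' j → i = j := by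
    intro i j hij
    symm
    apply hinc j i
    intro x hx
    obtain ⟨y, hyS, hy0, hxy, hval⟩ := exists_denominator O ⊤ S hS x (Subfield.mem_top x)
    have hvj : (O j).valuation y = 1 := hval j hx
    have hyj : (⟨y, hyS⟩ : S) ∉ nIdeal O S hS' j := by
      rw [mem_nIdeal]; exact fun h => (ne_of_lt h) hvj
    have hyi : (⟨y, hyS⟩ : S) ∉ nIdeal O S hS' i := fun h => hyj (hij h)
    have hvi : (O i).valuation y = 1 := (notMem_nIdeal O S hS' i ⟨y, hyS⟩).mp hyi
    have h1 : (O i).valuation (x * y) ≤ 1 :=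
      (ValuationSubring.valuation_le_one_iff _ _).mpr (hS' _ hxy i)
    rw [map_mul, hvi, mul_one] at h1
    exact (ValuationSubring.valuation_le_one_iff _ _).mp h1
  have hmax : ∀ i, (nIdeal O S hS' i).IsMaximal := by
    intro i
    obtain ⟨M, hM, hiM⟩ := Ideal.exists_le_maximal _ (nIdeal_isPrime O S hS' i).ne_top
    obtain ⟨j, hj⟩ := exists_le_nIdeal O ⊤ S hS M hM.ne_top
    have hij := hnle i j (hiM.trans hj)
    subst hij
    have h1 : nIdeal O S hS' i = M := le_antisymm hiM hj
    rw [h1]; exact hM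
  have hcop : Pairwise (Function.onFun IsCoprime (fun i => nIdeal O S hS' i)) := by
    intro i j hij
    show IsCoprime (nIdeal O S hS' i) (nIdeal O S hS' j)
    rw [Ideal.isCoprime_iff_sup_eq]
    exact Ideal.IsMaximal.coprime_of_ne (hmax i) (hmax j) (fun h => hij (hnle i j h.le))
  have hex : ∀ i, ∃ r : S, ∀ j, r - (if j = i then 1 else 0) ∈ nIdeal O S hS' j := fun i =>
    Ideal.exists_forall_sub_mem_ideal hcop (fun j => if j = i then 1 else 0)
  choose r hr using hex
  refine ⟨fun i => (r i : F), fun i j => hS' _ (r i).2 j, fun i => ?_, fun i j hij => ?_⟩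
  · have h := hr i i
    rw [if_pos rfl, mem_nIdeal] at h
    exact h
  · have h := hr i j
    rw [if_neg (Ne.symm hij), sub_zero, mem_nIdeal] at h
    exact h

/-- At most `[F : K]` valuation subrings of `F` have a given trace on `K`. -/
theorem card_le_finrank {K : Type*} [Field K] [Algebra K F] [FiniteDimensional K F]
    {ι : Type*} [Fintype ι] (O : ι → ValuationSubring F) (hinj : Function.Injective O)
    (hK : ∀ i j, ∀ c : K, algebraMap K F c ∈ O i → algebraMap K F c ∈ O j) :
    Fintype.card ι ≤ Module.finrank K F := by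
  classical
  haveI : Algebra.IsAlgebraic K F := Algebra.IsAlgebraic.of_finite K F
  have hinc : ∀ i j, O i ≤ O j → i = j := fun i j hij =>
    hinj (le_antisymm hij (le_of_le_of_algebraic (K := K) (O i) (O j) hij (hK j i)))
  obtain ⟨z, hzmem, hz1, hz0⟩ := exists_crt O hinc
  have hzunit : ∀ i, (O i).valuation (z i) = 1 := by
    intro i
    have := Valuation.map_one_add_of_lt (v := (O i).valuation) (hz1 i)
    rwa [add_sub_cancel] at this
  have hli : LinearIndependent K z := by
    rw [Fintype.linearIndependent_iff]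
    intro g hg
    by_contra hcon
    push Not at hcon
    obtain ⟨i1, hi1⟩ := hcon
    obtain ⟨i0, -, hi0⟩ := Finset.exists_max_image Finset.univ
      (fun i => (O i1).valuation (algebraMap K F (g i))) ⟨i1, Finset.mem_univ _⟩
    have hg1 : algebraMap K F (g i1) ≠ 0 := (map_ne_zero (algebraMap K F)).mpr hi1
    have hv1 : (0 : (O i1).ValueGroup) < (O i1).valuation (algebraMap K F (g i1)) :=
      zero_lt_iff.mpr ((Valuation.ne_zero_iff _).mpr hg1)
    have hv0 : (0 : (O i1).ValueGroup) < (O i1).valuation (algebraMap K F (g i0)) :=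
      lt_of_lt_of_le hv1 (hi0 i1 (Finset.mem_univ _))
    have hgi0 : g i0 ≠ 0 := by
      intro h
      rw [h, map_zero, map_zero] at hv0
      exact lt_irrefl _ hv0
    have hg0 : algebraMap K F (g i0) ≠ 0 := (map_ne_zero (algebraMap K F)).mpr hgi0
    -- normalized coefficients
    have hd : ∀ i j, algebraMap K F (g i / g i0) ∈ O j := by
      intro i j
      apply hK i1 j
      rw [← ValuationSubring.valuation_le_one_iff, map_div₀, map_div₀, div_le_one₀ hv0]
      exact hi0 i (Finset.mem_univ _)
    have hsum : ∑ i, algebraMap K F (g i / g i0) * z i = 0 := by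
      have h1 : ∑ i, algebraMap K F (g i / g i0) * z i =
          (∑ i, g i • z i) / algebraMap K F (g i0) := by
        rw [Finset.sum_div]
        refine Finset.sum_congr rfl (fun i _ => ?_)
        rw [Algebra.smul_def, map_div₀]; ring
      rw [h1, hg, zero_div]
    rw [← Finset.add_sum_erase Finset.univ _ (Finset.mem_univ i0), div_self hgi0, map_one,
      one_mul] at hsum
    have hrest : (O i0).valuation (∑ i ∈ Finset.univ.erase i0,
        algebraMap K F (g i / g i0) * z i) < 1 := by
      refine Valuation.map_sum_lt _ one_ne_zero (fun i hi => ?_)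
      have hne : i ≠ i0 := Finset.ne_of_mem_erase hi
      rw [map_mul]
      calc (O i0).valuation (algebraMap K F (g i / g i0)) * (O i0).valuation (z i)
          ≤ 1 * (O i0).valuation (z i) :=
            mul_le_mul' ((ValuationSubring.valuation_le_one_iff _ _).mpr (hd i i0)) le_rfl
        _ = (O i0).valuation (z i) := one_mul _
        _ < 1 := hz0 i i0 hne
    have heq : z i0 = -(∑ i ∈ Finset.univ.erase i0, algebraMap K F (g i / g i0) * z i) :=
      eq_neg_of_add_eq_zero_left hsum
    have := hzunit i0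
    rw [heq, Valuation.map_neg] at this
    rw [this] at hrest
    exact lt_irrefl _ hrest
  exact hli.fintype_card_le_finrank

end Gen

section Main

universe u

variable (k A F : Type u) [Field k] [CommRing A] [IsDomain A] [Algebra k A]
  [Field F] [Algebra A F] [IsFractionRing A F] [Algebra k F] [IsScalarTower k A F]

omit [IsDomain A] [IsFractionRing A F] in
/-- integrality transfer along a base ring mapping to `F` and containing `k` and `x`. -/
theorem isIntegral_of (g : MvPolynomial (Fin 1) k →ₐ[k] A) (hint : g.IsIntegral)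
    (T : Type*) [CommRing T] [Algebra T F] (t : T)
    (ht : algebraMap T F t = algebraMap A F (g (MvPolynomial.X 0)))
    (φk : k →+* T) (hφk : ∀ c, algebraMap T F (φk c) = algebraMap k F c) (a : A) :
    IsIntegral T (algebraMap A F a) := by
  letI := g.toRingHom.toAlgebra
  have hx : IsIntegral (MvPolynomial (Fin 1) k) a := hint a
  refine IsIntegral.map_of_comp_eq (R := MvPolynomial (Fin 1) k) (S := A) (T := T) (U := F)
    (MvPolynomial.eval₂Hom φk (fun _ => t)) (algebraMap A F) ?_ hx
  apply MvPolynomial.ringHom_ext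
  · intro c
    show algebraMap T F (MvPolynomial.eval₂Hom φk (fun _ => t) (MvPolynomial.C c)) =
      algebraMap A F (g (MvPolynomial.C c))
    rw [MvPolynomial.eval₂Hom_C, hφk, ← MvPolynomial.algebraMap_eq, AlgHom.commutes,
      ← IsScalarTower.algebraMap_apply]
  · intro i
    show algebraMap T F (MvPolynomial.eval₂Hom φk (fun _ => t) (MvPolynomial.X i)) =
      algebraMap A F (g (MvPolynomial.X i))
    rw [MvPolynomial.eval₂Hom_X', ht, Subsingleton.elim i 0]

theorem main [Algebra.FiniteType k A] (hA : ringKrullDim A = 1) :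
    {O : ValuationSubring F | (algebraMap k F).range ≤ O.toSubring ∧
        ¬ (algebraMap A F).range ≤ O.toSubring}.Finite := by
  classical
  obtain ⟨s, g, hinj, hint⟩ := exists_integral_inj_algHom_of_fg k A
  have hs : s = 1 := by
    have h1 := Groth.Agent.Lib.Helper4.TensorDim.ringKrullDim_eq_of_integral_injective k A s g
      hinj hint
    rw [hA] at h1
    exact_mod_cast h1.symm
  subst hs
  obtain ⟨x, hxdef⟩ : ∃ x : F, x = algebraMap A F (g (MvPolynomial.X 0)) := ⟨_, rfl⟩
  -- members of the set do not contain x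
  have hxO : ∀ O : ValuationSubring F, (algebraMap k F).range ≤ O.toSubring →
      ¬ (algebraMap A F).range ≤ O.toSubring → x ∉ O := by
    intro O hkO hAO hx
    apply hAO
    rintro _ ⟨a, rfl⟩
    have hint' : IsIntegral O (algebraMap A F a) :=
      isIntegral_of k A F g hint O ⟨x, hx⟩ (by rw [← hxdef]; rfl)
        ((algebraMap k F).codRestrict O.toSubring (fun c => hkO ⟨c, rfl⟩)) (fun c => rfl) a
    obtain ⟨y, hy⟩ := IsIntegrallyClosed.algebraMap_eq_of_integral (R := O) (K := F) hint'
    rw [← hy]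
    exact y.2
  -- the subfield K = k(x)
  let K := IntermediateField.adjoin k ({x} : Set F)
  have hxK : x ∈ K := IntermediateField.mem_adjoin_simple_self k x
  haveI halg : Algebra.IsAlgebraic K F := by
    constructor
    intro z
    obtain ⟨a, b, hb, rfl⟩ := IsFractionRing.div_surjective (A := A) z
    have h1 : ∀ a : A, IsAlgebraic K (algebraMap A F a) := fun a =>
      (isIntegral_of k A F g hint K ⟨x, hxK⟩ (by rw [← hxdef]; rfl)
        (algebraMap k K) (fun c => rfl) a).isAlgebraic
    rw [div_eq_mul_inv]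
    exact (h1 a).mul (h1 b).inv
  haveI : Algebra.EssFiniteType k F :=
    haveI : Algebra.EssFiniteType A F := Algebra.EssFiniteType.of_isLocalization F (nonZeroDivisors A)
    Algebra.EssFiniteType.comp k A F
  haveI : Algebra.EssFiniteType K F := Algebra.EssFiniteType.of_comp k K F
  haveI hfin : Module.Finite K F := Algebra.finite_of_essFiniteType_of_isAlgebraic
  -- trace on K is independent of O
  have htriv : ∀ O : ValuationSubring F, (algebraMap k F).range ≤ O.toSubring →
      O.valuation.IsTrivialOn k := by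
    intro O hkO
    constructor
    intro c hc
    have h1 : algebraMap k F c ∈ O := hkO ⟨c, rfl⟩
    have h2 : algebraMap k F c⁻¹ ∈ O := hkO ⟨c⁻¹, rfl⟩
    have h3 : O.valuation (algebraMap k F c) ≤ 1 := (O.valuation_le_one_iff _).mpr h1
    have h4 : O.valuation (algebraMap k F c⁻¹) ≤ 1 := (O.valuation_le_one_iff _).mpr h2
    rw [map_inv₀, map_inv₀] at h4
    have hne : O.valuation (algebraMap k F c) ≠ 0 :=
      (Valuation.ne_zero_iff _).mpr ((map_ne_zero (algebraMap k F)).mpr hc)
    exact le_antisymm h3 ((inv_le_one₀ (zero_lt_iff.mpr hne)).mp h4)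
  have hmem : ∀ O : ValuationSubring F, (algebraMap k F).range ≤ O.toSubring → x ∉ O →
      ∀ r s : Polynomial k, r ≠ 0 → s ≠ 0 →
        (aeval x r / aeval x s ∈ O ↔ r.natDegree ≤ s.natDegree) := by
    intro O hkO hx r s hr hs
    haveI := htriv O hkO
    have hx1 : 1 < O.valuation x := by
      rw [← not_le, ValuationSubring.valuation_le_one_iff]; exact hx
    rw [← ValuationSubring.valuation_le_one_iff, map_div₀,
      Polynomial.valuation_aeval_eq_valuation_X_pow_natDegree_of_one_lt_valuation_X x hx1 hr,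
      Polynomial.valuation_aeval_eq_valuation_X_pow_natDegree_of_one_lt_valuation_X x hx1 hs,
      div_le_one₀ (pow_pos (lt_trans zero_lt_one hx1) _)]
    exact pow_le_pow_iff_right₀ hx1
  have hKind : ∀ O O' : ValuationSubring F, (algebraMap k F).range ≤ O.toSubring → x ∉ O →
      (algebraMap k F).range ≤ O'.toSubring → x ∉ O' →
      ∀ c : K, algebraMap K F c ∈ O → algebraMap K F c ∈ O' := by
    intro O O' hkO hx hkO' hx' c hc
    obtain ⟨r, s, hrs⟩ := (IntermediateField.mem_adjoin_simple_iff k (c : F)).mp c.2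
    have hcc : algebraMap K F c = aeval x r / aeval x s := hrs
    rw [hcc] at hc ⊢
    by_cases hr : r = 0
    · rw [hr, map_zero, zero_div]; exact O'.zero_mem
    by_cases hs : s = 0
    · rw [hs, map_zero, div_zero]; exact O'.zero_mem
    rw [hmem O' hkO' hx' r s hr hs]
    exact (hmem O hkO hx r s hr hs).mp hc
  -- finiteness
  by_contra hinf
  obtain ⟨t, htS, htcard⟩ := Set.Infinite.exists_subset_card_eq hinf (Module.finrank K F + 1)
  have hle := card_le_finrank (K := K) (fun O : t => (O : ValuationSubring F))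
    Subtype.val_injective (fun i j c hc =>
      hKind i j (htS i.2).1 (hxO _ (htS i.2).1 (htS i.2).2) (htS j.2).1
        (hxO _ (htS j.2).1 (htS j.2).2) c hc)
  rw [Fintype.card_coe, htcard] at hle
  omega

end Main

end Groth.Agent.Lib.R2H7.CurveValFin
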