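/-
An invariant distinguishing plane-curve germs `k[[x,y]]/(G)` with `G ∈ 𝔪³` from those with
`E ∈ 𝔪 \ 𝔪³`: the `k`-dimension of `R/𝔪_R³`.
-/
import Mathlib
import Groth.Agent.Lib.Helper19PowerSeries
import Groth.Agent.Lib.Helper19InvFun
import Groth.Agent.Lib.Helper19PsFlat
import Groth.Agent.Lib.H9NodeKer

set_option autoImplicit false
universe u

namespace Groth.Agent.Lib.R2H7.DoublePtInv

open MvPowerSeries Groth.Agent.Lib.Helper19 Groth.Agent.Lib.H9NodeKer

/-- finrank of `P/(I ⊔ ker q)` equals that of `S/(I.map q)` for a surjective algebra map `q : P → S`. -/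
theorem finrank_quot_sup_ker {k P S : Type*} [Field k] [CommRing P] [CommRing S] [Algebra k P]
    [Algebra k S] (q : P →ₐ[k] S) (hq : Function.Surjective q) (I : Ideal P) :
    Module.finrank k (P ⧸ (I ⊔ RingHom.ker q)) = Module.finrank k (S ⧸ I.map q) := by
  let f : P →ₐ[k] S ⧸ I.map q := (Ideal.Quotient.mkₐ k (I.map q)).comp q
  have hf : Function.Surjective f := (Ideal.Quotient.mkₐ_surjective k _).comp hq
  have hker : RingHom.ker f = I ⊔ RingHom.ker q := by
    ext x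
    rw [RingHom.mem_ker]
    change Ideal.Quotient.mk (I.map q) (q x) = 0 ↔ _
    rw [Ideal.Quotient.eq_zero_iff_mem, ← Ideal.mem_comap, Ideal.comap_map_of_surjective q hq,
      ← RingHom.ker_eq_comap_bot]
  exact ((Ideal.quotientEquivAlgOfEq k hker.symm).trans
    (Ideal.quotientKerAlgEquivOfSurjective hf)).toLinearEquiv.finrank_eq

/-- Equal finite dimension of nested quotients forces the ideals to agree. -/
theorem le_of_finrank_eq {k P : Type*} [Field k] [CommRing P] [Algebra k P] (I₁ I₂ : Ideal P)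
    [Module.Finite k (P ⧸ I₁)] (hle : I₁ ≤ I₂)
    (h : Module.finrank k (P ⧸ I₁) = Module.finrank k (P ⧸ I₂)) : I₂ ≤ I₁ := by
  let g : (P ⧸ I₁) →ₐ[k] (P ⧸ I₂) := Ideal.Quotient.liftₐ I₁ (Ideal.Quotient.mkₐ k I₂) (by
    intro a ha
    exact Ideal.Quotient.eq_zero_iff_mem.mpr (hle ha))
  have hg : Function.Surjective g := by
    intro y
    obtain ⟨p, rfl⟩ := Ideal.Quotient.mk_surjective y
    exact ⟨Ideal.Quotient.mk I₁ p, rfl⟩
  have hfin : Module.Finite k (P ⧸ I₂) := Module.Finite.of_surjective g.toLinearMap hg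
  have hinj : Function.Injective g.toLinearMap :=
    (LinearMap.injective_iff_surjective_of_finrank_eq_finrank h).mpr hg
  intro x hx
  have h0 : g.toLinearMap (Ideal.Quotient.mk I₁ x) = g.toLinearMap 0 := by
    rw [map_zero]
    change Ideal.Quotient.mk I₂ x = 0
    exact Ideal.Quotient.eq_zero_iff_mem.mpr hx
  exact Ideal.Quotient.eq_zero_iff_mem.mp (hinj h0)

variable (k : Type u) [Field k]

/-- The power series ring in two variables. -/
abbrev P : Type u := MvPowerSeries (Fin 2) k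

/-- Its maximal ideal `(x, y)`. -/
noncomputable abbrev mI : Ideal (P k) := varsIdeal (Fin 2) k

theorem maximalIdeal_eq : IsLocalRing.maximalIdeal (P k) = mI k := by
  rw [maximalIdeal_eq_coeffIdeal, IsLocalRing.maximalIdeal_eq_bot]
  exact augIdeal_eq_varsIdeal

variable {k}

theorem degree_e (i j : ℕ) : Finsupp.degree (e i j) = i + j := by
  rw [Finsupp.degree_eq_sum, Fin.sum_univ_two, e_zero, e_one]

theorem degree_eq (d : Fin 2 →₀ ℕ) : Finsupp.degree d = d 0 + d 1 := by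
  rw [Finsupp.degree_eq_sum, Fin.sum_univ_two]

variable (k)

/-- The coefficients of degree `< 3` in each variable. -/
noncomputable def cmap : P k →ₗ[k] (Fin 3 → Fin 3 → k) :=
  LinearMap.pi fun i => LinearMap.pi fun j => MvPowerSeries.coeff (e (i : ℕ) (j : ℕ))

variable {k}

theorem mem_of_cmap_eq_zero (p : P k) (hp : cmap k p = 0) : p ∈ mI k ^ 3 := by
  apply mem_varsIdeal_pow_of_coeff_eq_zero
  intro d hd
  rw [degree_eq] at hd
  have h0 : d 0 < 3 := by omega
  have h1 : d 1 < 3 := by omega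
  have := congr_fun (congr_fun hp ⟨d 0, h0⟩) ⟨d 1, h1⟩
  rw [eq_e d]
  exact this

instance finite_quot_cube : Module.Finite k (P k ⧸ mI k ^ 3) := by
  have h1 : Module.Finite k (P k ⧸ LinearMap.ker (cmap k)) :=
    Module.Finite.equiv (LinearMap.quotKerEquivRange (cmap k)).symm
  let g : (P k ⧸ LinearMap.ker (cmap k)) →ₗ[k] (P k ⧸ mI k ^ 3) :=
    (LinearMap.ker (cmap k)).liftQ (Ideal.Quotient.mkₐ k (mI k ^ 3)).toLinearMap (by
      intro p hp
      rw [LinearMap.mem_ker] at hp ⊢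
      exact Ideal.Quotient.eq_zero_iff_mem.mpr (mem_of_cmap_eq_zero p hp))
  have hg : Function.Surjective g := by
    intro y
    obtain ⟨p, rfl⟩ := Ideal.Quotient.mk_surjective y
    exact ⟨Submodule.Quotient.mk p, rfl⟩
  exact Module.Finite.of_surjective g hg

/-- Isomorphic quotients of `k[[x,y]]` have the same `dim R/𝔪_R³`. -/
theorem finrank_eq_of_equiv (J J' : Ideal (P k)) (hJ' : J' ≠ ⊤)
    (φ : (P k ⧸ J) ≃ₐ[k] (P k ⧸ J')) :
    Module.finrank k (P k ⧸ (mI k ^ 3 ⊔ J)) = Module.finrank k (P k ⧸ (mI k ^ 3 ⊔ J')) := by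
  have hnt : Nontrivial (P k ⧸ J') := Ideal.Quotient.nontrivial_iff.mpr hJ'
  have hloc : IsLocalRing (P k ⧸ J') :=
    IsLocalRing.of_surjective' (Ideal.Quotient.mk J') Ideal.Quotient.mk_surjective
  let q' : P k →ₐ[k] P k ⧸ J' := Ideal.Quotient.mkₐ k J'
  let q : P k →ₐ[k] P k ⧸ J' := (φ : (P k ⧸ J) →ₐ[k] (P k ⧸ J')).comp (Ideal.Quotient.mkₐ k J)
  have hq' : Function.Surjective q' := Ideal.Quotient.mkₐ_surjective k J'
  have hq : Function.Surjective q := φ.surjective.comp (Ideal.Quotient.mkₐ_surjective k J)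
  have hkq' : RingHom.ker q' = J' := by
    ext x
    rw [RingHom.mem_ker]
    change Ideal.Quotient.mk J' x = 0 ↔ _
    rw [Ideal.Quotient.eq_zero_iff_mem]
  have hkq : RingHom.ker q = J := by
    ext x
    rw [RingHom.mem_ker]
    change φ (Ideal.Quotient.mk J x) = 0 ↔ _
    rw [map_eq_zero_iff φ φ.injective, Ideal.Quotient.eq_zero_iff_mem]
  have hm : ∀ (r : P k →ₐ[k] P k ⧸ J'), Function.Surjective r →
      (mI k ^ 3).map r = IsLocalRing.maximalIdeal (P k ⧸ J') ^ 3 := by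
    intro r hr
    rw [Ideal.map_pow, ← maximalIdeal_eq]
    congr 1
    exact IsLocalRing.map_maximalIdeal_of_surjective (r : P k →+* P k ⧸ J') hr
  calc Module.finrank k (P k ⧸ (mI k ^ 3 ⊔ J))
      = Module.finrank k (P k ⧸ (mI k ^ 3 ⊔ RingHom.ker q)) := by rw [hkq]
    _ = Module.finrank k ((P k ⧸ J') ⧸ (mI k ^ 3).map q) := finrank_quot_sup_ker q hq _
    _ = Module.finrank k ((P k ⧸ J') ⧸ (mI k ^ 3).map q') := by rw [hm q hq, hm q' hq']
    _ = Module.finrank k (P k ⧸ (mI k ^ 3 ⊔ RingHom.ker q')) := (finrank_quot_sup_ker q' hq' _).symm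
    _ = Module.finrank k (P k ⧸ (mI k ^ 3 ⊔ J')) := by rw [hkq']

theorem span_ne_top {E : P k} (hE : E ∈ mI k) : Ideal.span {E} ≠ ⊤ := by
  intro h
  have h1 : Ideal.span {E} ≤ mI k := (Ideal.span_singleton_le_iff_mem _).mpr hE
  have h2 : (1 : P k) ∈ mI k := h1 (h ▸ Submodule.mem_top)
  rw [← maximalIdeal_eq] at h2
  exact (IsLocalRing.maximalIdeal.isMaximal (P k)).ne_top ((Ideal.eq_top_iff_one _).mpr h2)

/-- No isomorphism between `k[[x,y]]/(G)` with `G ∈ 𝔪³` and `k[[x,y]]/(E)` with `E ∈ 𝔪 \ 𝔪³`. -/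
theorem not_equiv (G E : P k) (hG : G ∈ mI k ^ 3) (hE : E ∈ mI k) (hE3 : E ∉ mI k ^ 3)
    (φ : (P k ⧸ Ideal.span {G}) ≃ₐ[k] (P k ⧸ Ideal.span {E})) : False := by
  have h := finrank_eq_of_equiv (Ideal.span {G}) (Ideal.span {E}) (span_ne_top hE) φ
  have h1 : mI k ^ 3 ⊔ Ideal.span {G} = mI k ^ 3 :=
    sup_eq_left.mpr ((Ideal.span_singleton_le_iff_mem _).mpr hG)
  rw [h1] at h
  have := le_of_finrank_eq (mI k ^ 3) (mI k ^ 3 ⊔ Ideal.span {E}) le_sup_left h
  exact hE3 (this (Ideal.mem_sup_right (Ideal.mem_span_singleton_self E)))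

end Groth.Agent.Lib.R2H7.DoublePtInv
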