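/-
Taylor expansion of a polynomial in two variables at a point, up to order two: the first and second
partial derivatives at `a` vanish iff the recentred polynomial lies in `𝔪³`.
-/
import Mathlib
import Groth.Agent.Lib.R2H7DoublePtInv

set_option autoImplicit false
universe u

namespace Groth.Agent.Lib.R2H7.DoublePtTaylor

open Groth.Agent.Lib.Helper19 Groth.Agent.Lib.H9NodeKer Groth.Agent.Lib.R2H7.DoublePtInv

section poly

open MvPolynomial

variable {k : Type u} [Field k]

theorem eval_zero_shift (a : Fin 2 → k) (p : MvPolynomial (Fin 2) k) :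
    eval (0 : Fin 2 → k) (aeval (fun i : Fin 2 => X i + C (a i)) p) = eval a p := by
  induction p using MvPolynomial.induction_on with
  | C c => simp
  | add p q hp hq => rw [map_add, map_add, hp, hq, map_add]
  | mul_X p i hp =>
    simp only [map_mul, aeval_X, map_add, eval_X, eval_C, hp, Pi.zero_apply, zero_add]

theorem pderiv_shift (a : Fin 2 → k) (i : Fin 2) (p : MvPolynomial (Fin 2) k) :
    pderiv i (aeval (fun i : Fin 2 => X i + C (a i)) p) =
      aeval (fun i : Fin 2 => X i + C (a i)) (pderiv i p) := by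
  induction p using MvPolynomial.induction_on with
  | C c => simp
  | add p q hp hq => rw [map_add, map_add, hp, hq, map_add, map_add]
  | mul_X p j hp =>
    have h2 : aeval (fun i : Fin 2 => X i + C (a i)) (pderiv i (X j : MvPolynomial (Fin 2) k)) =
        pderiv i (X j) := by
      by_cases h : j = i
      · subst h
        rw [pderiv_X_self, map_one]
      · rw [pderiv_X_of_ne h, map_zero]
    simp only [map_mul, aeval_X, Derivation.leibniz, smul_eq_mul, map_add, pderiv_C, add_zero, hp,
      h2]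

theorem eval_pderiv_eq_coeff (a : Fin 2 → k) (f : MvPolynomial (Fin 2) k) (i : Fin 2) :
    eval a (pderiv i f) =
      coeff (Finsupp.single i 1) (aeval (fun i : Fin 2 => X i + C (a i)) f) := by
  rw [← eval_zero_shift, ← pderiv_shift, eval_zero, constantCoeff_eq, coeff_pderiv]
  simp

theorem eval_pderiv_pderiv_eq_coeff (a : Fin 2 → k) (f : MvPolynomial (Fin 2) k) (i j : Fin 2) :
    eval a (pderiv i (pderiv j f)) =
      coeff (Finsupp.single i 1 + Finsupp.single j 1)
        (aeval (fun i : Fin 2 => X i + C (a i)) f) *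
        (((Finsupp.single i 1 : Fin 2 →₀ ℕ) j : k) + 1) := by
  rw [eval_pderiv_eq_coeff, ← pderiv_shift, coeff_pderiv]

theorem e00 : e 0 0 = (0 : Fin 2 →₀ ℕ) := by
  ext k; fin_cases k <;> simp [e]
theorem e10 : e 1 0 = (Finsupp.single 0 1 : Fin 2 →₀ ℕ) := by
  ext k; fin_cases k <;> simp [e]
theorem e01 : e 0 1 = (Finsupp.single 1 1 : Fin 2 →₀ ℕ) := by
  ext k; fin_cases k <;> simp [e]
theorem e20 : e 2 0 = (Finsupp.single 0 1 + Finsupp.single 0 1 : Fin 2 →₀ ℕ) := by
  ext k; fin_cases k <;> simp [e]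
theorem e11 : e 1 1 = (Finsupp.single 0 1 + Finsupp.single 1 1 : Fin 2 →₀ ℕ) := by
  ext k; fin_cases k <;> simp [e]
theorem e11' : e 1 1 = (Finsupp.single 1 1 + Finsupp.single 0 1 : Fin 2 →₀ ℕ) := by
  ext k; fin_cases k <;> simp [e]
theorem e02 : e 0 2 = (Finsupp.single 1 1 + Finsupp.single 1 1 : Fin 2 →₀ ℕ) := by
  ext k; fin_cases k <;> simp [e]

theorem cond_iff_coeffs (h2 : (2 : k) ≠ 0) (f : MvPolynomial (Fin 2) k) (a : Fin 2 → k) :
    ((∀ i : Fin 2, eval a (pderiv i f) = 0) ∧
      ∀ i j : Fin 2, eval a (pderiv i (pderiv j f)) = 0) ↔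
    (coeff (e 1 0) (aeval (fun i : Fin 2 => X i + C (a i)) f) = 0 ∧
      coeff (e 0 1) (aeval (fun i : Fin 2 => X i + C (a i)) f) = 0 ∧
      coeff (e 2 0) (aeval (fun i : Fin 2 => X i + C (a i)) f) = 0 ∧
      coeff (e 1 1) (aeval (fun i : Fin 2 => X i + C (a i)) f) = 0 ∧
      coeff (e 0 2) (aeval (fun i : Fin 2 => X i + C (a i)) f) = 0) := by
  constructor
  · rintro ⟨H1, H2⟩
    have a10 := H1 0
    rw [eval_pderiv_eq_coeff, ← e10] at a10
    have a01 := H1 1
    rw [eval_pderiv_eq_coeff, ← e01] at a01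
    have a20 : coeff (e 2 0) (aeval (fun i : Fin 2 => X i + C (a i)) f) * 2 = 0 := by
      have := H2 0 0
      rw [eval_pderiv_pderiv_eq_coeff, ← e20] at this
      rw [← this]
      congr 1
      norm_num
    have a11 : coeff (e 1 1) (aeval (fun i : Fin 2 => X i + C (a i)) f) * 1 = 0 := by
      have := H2 0 1
      rw [eval_pderiv_pderiv_eq_coeff, ← e11] at this
      rw [← this]
      congr 1
      simp
    have a02 : coeff (e 0 2) (aeval (fun i : Fin 2 => X i + C (a i)) f) * 2 = 0 := by
      have := H2 1 1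
      rw [eval_pderiv_pderiv_eq_coeff, ← e02] at this
      rw [← this]
      congr 1
      norm_num
    rw [mul_one] at a11
    exact ⟨a10, a01, (mul_eq_zero.mp a20).resolve_right h2, a11,
      (mul_eq_zero.mp a02).resolve_right h2⟩
  · rintro ⟨a10, a01, a20, a11, a02⟩
    refine ⟨Fin.forall_fin_two.mpr ⟨?_, ?_⟩, Fin.forall_fin_two.mpr
      ⟨Fin.forall_fin_two.mpr ⟨?_, ?_⟩, Fin.forall_fin_two.mpr ⟨?_, ?_⟩⟩⟩
    · rw [eval_pderiv_eq_coeff, ← e10]; exact a10
    · rw [eval_pderiv_eq_coeff, ← e01]; exact a01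
    · rw [eval_pderiv_pderiv_eq_coeff, ← e20, a20, zero_mul]
    · rw [eval_pderiv_pderiv_eq_coeff, ← e11, a11, zero_mul]
    · rw [eval_pderiv_pderiv_eq_coeff, ← e11', a11, zero_mul]
    · rw [eval_pderiv_pderiv_eq_coeff, ← e02, a02, zero_mul]

theorem coeff_zero_shift (f : MvPolynomial (Fin 2) k) (a : Fin 2 → k) :
    coeff (e 0 0) (aeval (fun i : Fin 2 => X i + C (a i)) f) = eval a f := by
  rw [e00, ← eval_zero_shift, eval_zero, constantCoeff_eq]

end poly

section ps

variable {k : Type u} [Field k]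

/-- Membership in `𝔪³` in terms of the six low coefficients. -/
theorem mem_cube_iff (G : P k) : G ∈ mI k ^ 3 ↔
    (MvPowerSeries.coeff (e 0 0) G = 0 ∧ MvPowerSeries.coeff (e 1 0) G = 0 ∧
      MvPowerSeries.coeff (e 0 1) G = 0 ∧ MvPowerSeries.coeff (e 2 0) G = 0 ∧
      MvPowerSeries.coeff (e 1 1) G = 0 ∧ MvPowerSeries.coeff (e 0 2) G = 0) := by
  constructor
  · intro h
    have key : ∀ i j : ℕ, i + j < 3 → MvPowerSeries.coeff (e i j) G = 0 := by
      intro i j hij
      exact coeff_eq_zero_of_mem_varsIdeal_pow 3 G h (e i j) (by rw [degree_e]; exact hij)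
    exact ⟨key 0 0 (by norm_num), key 1 0 (by norm_num), key 0 1 (by norm_num),
      key 2 0 (by norm_num), key 1 1 (by norm_num), key 0 2 (by norm_num)⟩
  · rintro ⟨h00, h10, h01, h20, h11, h02⟩
    apply mem_varsIdeal_pow_of_coeff_eq_zero
    intro d hd
    rw [degree_eq] at hd
    rw [eq_e d]
    generalize d 0 = m at hd ⊢
    generalize d 1 = n at hd ⊢
    have hm : m < 3 := by omega
    have hn : n < 3 := by omega
    interval_cases m <;> interval_cases n <;> first | assumption | omega

/-- Membership in `𝔪²` in terms of the three low coefficients. -/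
theorem mem_sq_iff (G : P k) : G ∈ mI k ^ 2 ↔
    (MvPowerSeries.coeff (e 0 0) G = 0 ∧ MvPowerSeries.coeff (e 1 0) G = 0 ∧
      MvPowerSeries.coeff (e 0 1) G = 0) := by
  constructor
  · intro h
    have key : ∀ i j : ℕ, i + j < 2 → MvPowerSeries.coeff (e i j) G = 0 := by
      intro i j hij
      exact coeff_eq_zero_of_mem_varsIdeal_pow 2 G h (e i j) (by rw [degree_e]; exact hij)
    exact ⟨key 0 0 (by norm_num), key 1 0 (by norm_num), key 0 1 (by norm_num)⟩
  · rintro ⟨h00, h10, h01⟩
    apply mem_varsIdeal_pow_of_coeff_eq_zero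
    intro d hd
    rw [degree_eq] at hd
    rw [eq_e d]
    generalize d 0 = m at hd ⊢
    generalize d 1 = n at hd ⊢
    have hm : m < 2 := by omega
    have hn : n < 2 := by omega
    interval_cases m <;> interval_cases n <;> first | assumption | omega

/-- Membership in `𝔪` in terms of the constant coefficient. -/
theorem mem_one_iff (G : P k) : G ∈ mI k ↔ MvPowerSeries.coeff (e 0 0) G = 0 := by
  constructor
  · intro h
    have h' : G ∈ mI k ^ 1 := by rwa [pow_one]
    exact coeff_eq_zero_of_mem_varsIdeal_pow 1 G h' (e 0 0) (by rw [degree_e]; norm_num)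
  · intro h00
    have : G ∈ mI k ^ 1 := by
      apply mem_varsIdeal_pow_of_coeff_eq_zero
      intro d hd
      rw [degree_eq] at hd
      rw [eq_e d]
      have h0 : d 0 = 0 := by omega
      have h1 : d 1 = 0 := by omega
      rw [h0, h1]
      exact h00
    rwa [pow_one] at this

/-- The derivative conditions are equivalent to the recentred polynomial lying in `𝔪³`. -/
theorem cond_iff_mem_cube (h2 : (2 : k) ≠ 0) (f : MvPolynomial (Fin 2) k) (a : Fin 2 → k)
    (hfa : MvPolynomial.eval a f = 0) :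
    ((∀ i : Fin 2, MvPolynomial.eval a (MvPolynomial.pderiv i f) = 0) ∧
      ∀ i j : Fin 2, MvPolynomial.eval a (MvPolynomial.pderiv i (MvPolynomial.pderiv j f)) = 0) ↔
    ((MvPolynomial.aeval (fun i : Fin 2 => MvPolynomial.X i + MvPolynomial.C (a i)) f).toMvPowerSeries
      : P k) ∈ mI k ^ 3 := by
  rw [cond_iff_coeffs h2, mem_cube_iff]
  simp only [MvPolynomial.coeff_coe]
  rw [coeff_zero_shift, hfa]
  tauto

theorem shift_mem (f : MvPolynomial (Fin 2) k) (a : Fin 2 → k)
    (hfa : MvPolynomial.eval a f = 0) :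
    ((MvPolynomial.aeval (fun i : Fin 2 => MvPolynomial.X i + MvPolynomial.C (a i)) f).toMvPowerSeries
      : P k) ∈ mI k := by
  rw [mem_one_iff, MvPolynomial.coeff_coe, coeff_zero_shift, hfa]

end ps

end Groth.Agent.Lib.R2H7.DoublePtTaylor
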