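/-
Normal forms of plane curve germs of multiplicity at most two over an algebraically closed field in
which `2 ≠ 0`: `k[[x,y]]/(G)` with `G ∈ 𝔪 \ 𝔪³` is `k[[x,y]]/(y² - x^(n+1))` or `k[[x,y]]/(y²)`.
-/
import Mathlib
import Groth.Agent.Lib.R2H7DoublePtTaylor
import Groth.Agent.Lib.R2H7ArSingStruct
import Groth.Agent.Lib.R2H7ArSingNode
import Groth.Agent.Lib.Helper19PsLiftComplete

set_option autoImplicit false
universe u

namespace Groth.Agent.Lib.R2H7.DoublePtNF

open Groth.Agent.Lib.Helper19 Groth.Agent.Lib.H9NodeKer Groth.Agent.Lib.R2H7.DoublePtInv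
  Groth.Agent.Lib.R2H7.DoublePtTaylor Groth.Agent.Lib.R2H7.ArSingStruct

-- The structure of `k[[t]][[Y]]` as an algebra over `k[[t]]` is the coefficient-wise one throughout.
attribute [-instance] PowerSeries.algebraPowerSeries MvPowerSeries.algebraMvPowerSeries

/-! ### Generic algebra -/

theorem quotEquivOfMap {K R S : Type*} [CommSemiring K] [CommRing R] [CommRing S] [Algebra K R]
    [Algebra K S] (θ : R ≃ₐ[K] S) (r : R) (s u : S) (hu : IsUnit u) (h : θ r = s * u) :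
    Nonempty ((R ⧸ Ideal.span {r}) ≃ₐ[K] (S ⧸ Ideal.span {s})) := by
  refine ⟨Ideal.quotientEquivAlg _ _ θ ?_⟩
  rw [Ideal.map_span, Set.image_singleton]
  have h' : ((θ : R →+* S) r) = s * u := h
  rw [h', Ideal.span_singleton_mul_right_unit hu]

section polyStage

open Polynomial

variable {A : Type*} [CommRing A]

theorem deg1 (f : A[X]) (hm : f.Monic) (hd : f.natDegree = 1) :
    Nonempty ((A[X] ⧸ Ideal.span {f}) ≃ₐ[A] A) := by
  have h := hm.eq_X_add_C hd
  obtain ⟨c, hc⟩ : ∃ c : A, f = X - C c :=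
    ⟨-(f.coeff 0), by rw [map_neg, sub_neg_eq_add]; exact h⟩
  subst hc
  exact ⟨Polynomial.quotientSpanXSubCAlgEquiv c⟩

theorem deg2 (f : A[X]) (hm : f.Monic) (hd : f.natDegree = 2) (half : A) (hhalf : 2 * half = 1) :
    Nonempty ((A[X] ⧸ Ideal.span {f}) ≃ₐ[A]
      (A[X] ⧸ Ideal.span {(X ^ 2 - C ((half * f.coeff 1) ^ 2 - f.coeff 0) : A[X])})) := by
  have hdeg : f.degree ≤ 2 := by
    have := Polynomial.degree_le_natDegree (p := f)
    rw [hd] at this
    exact this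
  have h := eq_quadratic_of_degree_le_two hdeg
  have hc2 : f.coeff 2 = 1 := by rw [← hd]; exact hm.coeff_natDegree
  rw [hc2, map_one, one_mul] at h
  have hb2 : f.coeff 1 = 2 * (half * f.coeff 1) := by rw [← mul_assoc, hhalf, one_mul]
  apply quotEquivOfMap (algEquivAevalXAddC (-(half * f.coeff 1))) f _ 1 isUnit_one
  rw [mul_one, algEquivAevalXAddC_apply]
  generalize half * f.coeff 1 = s at hb2 ⊢
  generalize f.coeff 1 = b at h hb2 ⊢
  generalize f.coeff 0 = c at h ⊢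
  rw [h, hb2]
  simp only [map_add, map_mul, map_pow, aeval_X, aeval_C, ← Polynomial.C_eq_algebraMap, map_neg,
    map_sub, map_ofNat]
  ring

theorem scale (D T v v' : A) (hvv' : v * v' = 1) (hD : D = T * v ^ 2) :
    Nonempty ((A[X] ⧸ Ideal.span {(X ^ 2 - C D : A[X])}) ≃ₐ[A]
      (A[X] ⧸ Ideal.span {(X ^ 2 - C T : A[X])})) := by
  have h1 : (C v * X : A[X]).comp (C v' * X) = X := by
    simp only [mul_comp, C_comp, X_comp]
    rw [← mul_assoc, ← C_mul, hvv', C_1, one_mul]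
  have h2 : (C v' * X : A[X]).comp (C v * X) = X := by
    simp only [mul_comp, C_comp, X_comp]
    rw [← mul_assoc, ← C_mul, mul_comm v' v, hvv', C_1, one_mul]
  apply quotEquivOfMap (algEquivOfCompEqX (C v * X) (C v' * X) h1 h2) _ _ (C (v ^ 2))
  · have hv : IsUnit v := ⟨⟨v, v', hvv', by rw [mul_comm]; exact hvv'⟩, rfl⟩
    exact (hv.pow 2).map C
  · rw [algEquivOfCompEqX_apply, hD]
    simp only [map_sub, map_pow, aeval_X, aeval_C, map_mul, ← Polynomial.C_eq_algebraMap]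
    ring

end polyStage

/-! ### Power series in one variable over `k` -/

section ps

variable (k : Type u) [Field k]

theorem exists_sqrt [IsAlgClosed k] (h2 : (2 : k) ≠ 0) (w : PowerSeries k)
    (hw : PowerSeries.constantCoeff w ≠ 0) : ∃ v : PowerSeries k, v ^ 2 = w ∧ IsUnit v := by
  have hc := isAdicComplete_ps k
  obtain ⟨z, hz⟩ := IsAlgClosed.exists_pow_nat_eq (PowerSeries.constantCoeff w) (n := 2)
    (by norm_num)
  have hz0 : z ≠ 0 := by
    rintro rfl
    apply hw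
    rw [← hz]
    norm_num
  have hf : (Polynomial.X ^ 2 - Polynomial.C w : Polynomial (PowerSeries k)).Monic :=
    Polynomial.monic_X_pow_sub_C w two_ne_zero
  obtain ⟨v, hv, hv0⟩ := HenselianRing.is_henselian
    (I := IsLocalRing.maximalIdeal (PowerSeries k))
    (Polynomial.X ^ 2 - Polynomial.C w) hf (PowerSeries.C z) (by
      rw [ps_mem_maximalIdeal k]
      simp [hz]) (by
      apply IsUnit.map
      have : (Polynomial.derivative
          (Polynomial.X ^ 2 - Polynomial.C w : Polynomial (PowerSeries k))).eval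
          (PowerSeries.C z) = PowerSeries.C (2 * z) := by
        rw [Polynomial.derivative_sub, Polynomial.derivative_X_pow, Polynomial.derivative_C,
          sub_zero, Polynomial.eval_mul, Polynomial.eval_C, Polynomial.eval_pow, Polynomial.eval_X,
          map_mul, map_ofNat]
        norm_num
      rw [this, PowerSeries.isUnit_iff_constantCoeff, PowerSeries.constantCoeff_C,
        isUnit_iff_ne_zero]
      exact mul_ne_zero h2 hz0)
  refine ⟨v, ?_, ?_⟩
  · have h := hv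
    rw [Polynomial.IsRoot.def, Polynomial.eval_sub, Polynomial.eval_pow, Polynomial.eval_X,
      Polynomial.eval_C, sub_eq_zero] at h
    exact h
  · rw [PowerSeries.isUnit_iff_constantCoeff, isUnit_iff_ne_zero]
    have h := (ps_mem_maximalIdeal k).mp hv0
    rw [map_sub, PowerSeries.constantCoeff_C, sub_eq_zero] at h
    rw [h]
    exact hz0

theorem nonzero_disc [IsAlgClosed k] (h2 : (2 : k) ≠ 0) (D : PowerSeries k)
    (hD0 : PowerSeries.constantCoeff D = 0) (hD : D ≠ 0) :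
    ∃ n : ℕ, Nonempty ((Polynomial (PowerSeries k) ⧸ Ideal.span
        {(Polynomial.X ^ 2 - Polynomial.C D : Polynomial (PowerSeries k))}) ≃ₐ[PowerSeries k]
      (Polynomial (PowerSeries k) ⧸ Ideal.span
        {(Polynomial.X ^ 2 - Polynomial.C (PowerSeries.X ^ (n + 1)) :
          Polynomial (PowerSeries k))})) := by
  have hm : D.order.toNat ≠ 0 := by
    intro h0
    apply PowerSeries.coeff_order hD
    rw [h0, PowerSeries.coeff_zero_eq_constantCoeff_apply, hD0]
  obtain ⟨n, hn⟩ := Nat.exists_eq_succ_of_ne_zero hm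
  have hw : PowerSeries.constantCoeff (PowerSeries.divXPowOrder D) ≠ 0 := by
    rw [PowerSeries.constantCoeff_divXPowOrder]
    exact PowerSeries.coeff_order hD
  obtain ⟨v, hv2, hvu⟩ := exists_sqrt k h2 _ hw
  obtain ⟨v', hvv'⟩ := hvu.exists_right_inv
  refine ⟨n, scale D (PowerSeries.X ^ (n + 1)) v v' hvv' ?_⟩
  rw [hv2, ← Nat.succ_eq_add_one, ← hn]
  exact PowerSeries.X_pow_order_mul_divXPowOrder.symm

/-- `k[[t]][Y]/(Y² - t^(n+1))` is the `A_n` algebra. -/
noncomputable def adjoinRootEquiv (n : ℕ) :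
    (Polynomial (PowerSeries k) ⧸ Ideal.span
      {(Polynomial.X ^ 2 - Polynomial.C (PowerSeries.X ^ (n + 1)) :
        Polynomial (PowerSeries k))}) ≃ₐ[k] ArSing.ring k n :=
  AlgEquiv.ofAlgHom (beta k n) (alpha k n) (AlgHom.ext (beta_alpha k n))
    (AlgHom.ext (alpha_beta k n))

/-- Weierstrass preparation in `k[[t]][[Y]]`. -/
theorem weierstrass (g : PowerSeries (PowerSeries k)) (d : ℕ)
    (hd : PowerSeries.constantCoeff (PowerSeries.coeff d g) ≠ 0)
    (hlt : ∀ j < d, PowerSeries.constantCoeff (PowerSeries.coeff j g) = 0) :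
    ∃ f : Polynomial (PowerSeries k),
      f.IsDistinguishedAt (IsLocalRing.maximalIdeal (PowerSeries k)) ∧ f.natDegree = d ∧
      Nonempty ((Polynomial (PowerSeries k) ⧸ Ideal.span {f}) ≃ₐ[PowerSeries k]
        (PowerSeries (PowerSeries k) ⧸ Ideal.span {g})) := by
  have hc := isAdicComplete_ps k
  have hres : ∀ a : PowerSeries k,
      IsLocalRing.residue (PowerSeries k) a = 0 ↔ PowerSeries.constantCoeff a = 0 := by
    intro a
    rw [IsLocalRing.residue_eq_zero_iff, ps_mem_maximalIdeal k]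
  have hord : (g.map (IsLocalRing.residue (PowerSeries k))).order = (d : ℕ∞) := by
    rw [PowerSeries.order_eq_nat]
    refine ⟨?_, ?_⟩
    · rw [PowerSeries.coeff_map, Ne, hres]
      exact hd
    · intro j hj
      rw [PowerSeries.coeff_map, hres]
      exact hlt j hj
  have hg : g.map (IsLocalRing.residue (PowerSeries k)) ≠ 0 := by
    intro h
    rw [h, PowerSeries.order_zero] at hord
    exact ENat.top_ne_natCast d hord
  obtain ⟨f, h, H⟩ := g.exists_isWeierstrassFactorization hg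
  refine ⟨f, H.isDistinguishedAt, ?_, ⟨H.algEquivQuotient⟩⟩
  rw [H.natDegree_eq_toNat_order_map, hord, ENat.toNat_natCast]

end ps

/-! ### The two-variable ring and its coordinate changes -/

section two

variable (k : Type u) [Field k]

/-- `Fin 2 ≃ Option Unit`, `0 ↦ some ()`, `1 ↦ none`. -/
def eps : Fin 2 ≃ Option Unit where
  toFun := ![some (), none]
  invFun := fun o => o.elim 1 (fun _ => 0)
  left_inv := by intro i; fin_cases i <;> rfl
  right_inv := by intro o; rcases o with _ | u <;> rfl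

/-- `k[[x,y]] ≃ k[[t]][[Y]]`, `x ↦ t`, `y ↦ Y`. -/
noncomputable def psi : P k ≃ₐ[k] PowerSeries (PowerSeries k) :=
  (MvPowerSeries.renameEquiv k eps).trans (MvPowerSeries.optionEquivLeft Unit k)

theorem psi_X0 : psi k (MvPowerSeries.X 0) = PowerSeries.C (PowerSeries.X : PowerSeries k) := by
  change MvPowerSeries.optionEquivLeft Unit k
    (MvPowerSeries.rename eps (MvPowerSeries.X 0)) = _
  rw [MvPowerSeries.rename_X]
  exact MvPowerSeries.optionEquivLeft_X_some ()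

theorem psi_X1 : psi k (MvPowerSeries.X 1) = (PowerSeries.X : PowerSeries (PowerSeries k)) := by
  change MvPowerSeries.optionEquivLeft Unit k
    (MvPowerSeries.rename eps (MvPowerSeries.X 1)) = _
  rw [MvPowerSeries.rename_X]
  exact MvPowerSeries.optionEquivLeft_X_none

theorem isAdicComplete_P : IsAdicComplete (IsLocalRing.maximalIdeal (P k)) (P k) := by
  have := isAdicComplete_field' k
  exact isAdicComplete_mvPowerSeries (Λ := k) (σ := Fin 2)

theorem X_mem (i : Fin 2) : (MvPowerSeries.X i : P k) ∈ IsLocalRing.maximalIdeal (P k) := by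
  rw [maximalIdeal_eq]
  exact Ideal.subset_span ⟨i, rfl⟩

theorem exists_shearHom (lam : k) : ∃ f : P k →ₐ[k] P k,
    f (MvPowerSeries.X 0) = MvPowerSeries.X 0 + lam • MvPowerSeries.X 1 ∧
      f (MvPowerSeries.X 1) = MvPowerSeries.X 1 := by
  have hc := isAdicComplete_P k
  obtain ⟨f, hf⟩ := exists_algHom_X_eq_of_isAdicComplete (Λ := k)
    (IsLocalRing.maximalIdeal (P k))
    (![MvPowerSeries.X 0 + lam • MvPowerSeries.X 1, MvPowerSeries.X 1] : Fin 2 → P k)
    (Fin.forall_fin_two.mpr ⟨Ideal.add_mem _ (X_mem k 0)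
      (Submodule.smul_of_tower_mem _ lam (X_mem k 1)), X_mem k 1⟩)
  exact ⟨f, hf 0, hf 1⟩

theorem shear_comp (lam mu : k) (hlm : lam + mu = 0) (f g : P k →ₐ[k] P k)
    (hf0 : f (MvPowerSeries.X 0) = MvPowerSeries.X 0 + lam • MvPowerSeries.X 1)
    (hf1 : f (MvPowerSeries.X 1) = MvPowerSeries.X 1)
    (hg0 : g (MvPowerSeries.X 0) = MvPowerSeries.X 0 + mu • MvPowerSeries.X 1)
    (hg1 : g (MvPowerSeries.X 1) = MvPowerSeries.X 1) : g.comp f = AlgHom.id k (P k) := by
  have hc := isAdicComplete_P k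
  symm
  apply algHom_ext_of_X_of_isHausdorff (IsLocalRing.maximalIdeal (P k))
  · intro s
    exact X_mem k s
  · refine Fin.forall_fin_two.mpr ⟨?_, ?_⟩
    · rw [AlgHom.id_apply, AlgHom.comp_apply, hf0, map_add, map_smul, hg0, hg1, add_assoc,
        ← add_smul, add_comm mu lam, hlm, zero_smul, add_zero]
    · rw [AlgHom.id_apply, AlgHom.comp_apply, hf1, hg1]

theorem exists_shear (lam : k) : ∃ Φ : P k ≃ₐ[k] P k,
    Φ (MvPowerSeries.X 0) = MvPowerSeries.X 0 + lam • MvPowerSeries.X 1 ∧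
      Φ (MvPowerSeries.X 1) = MvPowerSeries.X 1 := by
  obtain ⟨f, hf0, hf1⟩ := exists_shearHom k lam
  obtain ⟨g, hg0, hg1⟩ := exists_shearHom k (-lam)
  exact ⟨AlgEquiv.ofAlgHom f g (shear_comp k (-lam) lam (by ring) g f hg0 hg1 hf0 hf1)
    (shear_comp k lam (-lam) (by ring) f g hf0 hf1 hg0 hg1), hf0, hf1⟩

theorem exists_psi (lam : k) : ∃ Ψ : P k ≃ₐ[k] PowerSeries (PowerSeries k),
    Ψ (MvPowerSeries.X 0) = PowerSeries.C (PowerSeries.X : PowerSeries k) +
      lam • (PowerSeries.X : PowerSeries (PowerSeries k)) ∧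
    Ψ (MvPowerSeries.X 1) = (PowerSeries.X : PowerSeries (PowerSeries k)) := by
  obtain ⟨Φ, h0, h1⟩ := exists_shear k lam
  refine ⟨Φ.trans (psi k), ?_, ?_⟩
  · rw [AlgEquiv.trans_apply, h0, map_add, map_smul, psi_X0, psi_X1]
  · rw [AlgEquiv.trans_apply, h1, psi_X1]

/-! ### Reduction modulo `t` -/

/-- The constant coefficient as a `k`-algebra map. -/
noncomputable def ccAlg : PowerSeries k →ₐ[k] k :=
  AlgHom.mk' (PowerSeries.constantCoeff : PowerSeries k →+* k) (by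
    intro c x
    rw [← PowerSeries.coeff_zero_eq_constantCoeff_apply,
      ← PowerSeries.coeff_zero_eq_constantCoeff_apply, map_smul])

/-- Reduction `k[[t]][[Y]] → k[[Y]]` modulo `t`. -/
noncomputable def red : PowerSeries (PowerSeries k) →ₐ[k] PowerSeries k :=
  PowerSeries.mapAlgHom (ccAlg k)

theorem coeff_red (g : PowerSeries (PowerSeries k)) (j : ℕ) :
    PowerSeries.coeff j (red k g) = PowerSeries.constantCoeff (PowerSeries.coeff j g) := by
  rw [red, PowerSeries.mapAlgHom_apply, PowerSeries.coeff_map]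
  rfl

theorem red_C (a : PowerSeries k) :
    red k (PowerSeries.C a) = PowerSeries.C (PowerSeries.constantCoeff a) := by
  rw [red, PowerSeries.mapAlgHom_apply, PowerSeries.map_C]
  rfl

theorem red_X : red k PowerSeries.X = PowerSeries.X := by
  rw [red, PowerSeries.mapAlgHom_apply, PowerSeries.map_X]

variable {k}

theorem rho_dvd (ρ : P k →ₐ[k] PowerSeries k)
    (h : ∀ i, (PowerSeries.X : PowerSeries k) ∣ ρ (MvPowerSeries.X i)) (n : ℕ)
    {H : P k} (hH : H ∈ mI k ^ n) : (PowerSeries.X : PowerSeries k) ^ n ∣ ρ H := by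
  have h1 : (mI k).map ρ ≤ Ideal.span {(PowerSeries.X : PowerSeries k)} := by
    change Ideal.map ρ (Ideal.span (Set.range (MvPowerSeries.X : Fin 2 → P k))) ≤ _
    rw [Ideal.map_span, Ideal.span_le]
    rintro _ ⟨_, ⟨i, rfl⟩, rfl⟩
    exact Ideal.mem_span_singleton.mpr (h i)
  have h2 : (mI k ^ n).map ρ ≤ Ideal.span {(PowerSeries.X : PowerSeries k) ^ n} := by
    rw [Ideal.map_pow, ← Ideal.span_singleton_pow]
    exact Ideal.pow_right_mono h1 n
  exact Ideal.mem_span_singleton.mp (h2 (Ideal.mem_map_of_mem _ hH))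

theorem e_inj {m n i j : ℕ} : e m n = e i j ↔ m = i ∧ n = j := by
  constructor
  · intro h
    have h0 := DFunLike.congr_fun h 0
    have h1 := DFunLike.congr_fun h 1
    rw [e_zero, e_zero] at h0
    rw [e_one, e_one] at h1
    exact ⟨h0, h1⟩
  · rintro ⟨rfl, rfl⟩
    rfl

theorem mono_eq (i j : ℕ) : ((MvPowerSeries.X 0 : P k) ^ i * MvPowerSeries.X 1 ^ j) =
    MvPowerSeries.monomial (e i j) 1 := by
  rw [MvPowerSeries.X_pow_eq, MvPowerSeries.X_pow_eq, MvPowerSeries.monomial_mul_monomial, one_mul]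
  rfl

theorem coeff_e_mono (m n i j : ℕ) :
    MvPowerSeries.coeff (e m n) ((MvPowerSeries.X 0 : P k) ^ i * MvPowerSeries.X 1 ^ j) =
      if m = i ∧ n = j then 1 else 0 := by
  classical
  rw [mono_eq, MvPowerSeries.coeff_monomial]
  by_cases h : m = i ∧ n = j
  · rw [if_pos h, if_pos (e_inj.mpr h)]
  · rw [if_neg h, if_neg (fun h' => h (e_inj.mp h'))]

/-- The leading form of a series in `𝔪^d`. -/
theorem jet (d : ℕ) (G : P k) (hG : G ∈ mI k ^ d) :
    G - ∑ i ∈ Finset.range (d + 1), MvPowerSeries.coeff (e i (d - i)) G •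
        ((MvPowerSeries.X 0 : P k) ^ i * MvPowerSeries.X 1 ^ (d - i)) ∈ mI k ^ (d + 1) := by
  apply mem_varsIdeal_pow_of_coeff_eq_zero
  intro α hα
  rw [degree_eq] at hα
  rw [eq_e α]
  generalize α 0 = m at hα ⊢
  generalize α 1 = n at hα ⊢
  rw [map_sub, map_sum]
  simp only [map_smul, coeff_e_mono, smul_eq_mul, mul_ite, mul_one, mul_zero]
  by_cases h : m + n = d
  · rw [Finset.sum_eq_single m]
    · have hn : n = d - m := by omega
      rw [if_pos ⟨rfl, hn⟩, ← hn, sub_self]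
    · intro i _ hi
      rw [if_neg]
      rintro ⟨h1, _⟩
      exact hi h1.symm
    · intro hm
      exfalso
      apply hm
      rw [Finset.mem_range]
      omega
  · have h1 : MvPowerSeries.coeff (e m n) G = 0 :=
      coeff_eq_zero_of_mem_varsIdeal_pow d G hG (e m n) (by rw [degree_e]; omega)
    rw [h1, zero_sub, neg_eq_zero]
    apply Finset.sum_eq_zero
    intro i hi
    rw [if_neg]
    rintro ⟨rfl, rfl⟩
    rw [Finset.mem_range] at hi
    omega

/-- Restriction of a series in `𝔪^d` to the line `x = lam * y`. -/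
theorem coeff_rho (ρ : P k →ₐ[k] PowerSeries k) (lam : k)
    (h0 : ρ (MvPowerSeries.X 0) = lam • (PowerSeries.X : PowerSeries k))
    (h1 : ρ (MvPowerSeries.X 1) = (PowerSeries.X : PowerSeries k))
    (d : ℕ) (G : P k) (hG : G ∈ mI k ^ d) :
    (∀ j < d, PowerSeries.coeff j (ρ G) = 0) ∧
    PowerSeries.coeff d (ρ G) =
      ∑ i ∈ Finset.range (d + 1), MvPowerSeries.coeff (e i (d - i)) G * lam ^ i := by
  have hdv : ∀ i, (PowerSeries.X : PowerSeries k) ∣ ρ (MvPowerSeries.X i) := by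
    refine Fin.forall_fin_two.mpr ⟨?_, ?_⟩
    · rw [h0]
      exact ⟨PowerSeries.C lam, by rw [PowerSeries.smul_eq_C_mul, mul_comm]⟩
    · exact h1.symm ▸ dvd_rfl
  constructor
  · intro j hj
    exact (PowerSeries.X_pow_dvd_iff.mp (rho_dvd ρ hdv d hG)) j hj
  · have hR := jet d G hG
    have hzero := (PowerSeries.X_pow_dvd_iff.mp (rho_dvd ρ hdv (d + 1) hR)) d (Nat.lt_succ_self d)
    rw [map_sub, map_sub, sub_eq_zero] at hzero
    rw [hzero, map_sum, map_sum]
    apply Finset.sum_congr rfl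
    intro i hi
    rw [Finset.mem_range] at hi
    have hid : i + (d - i) = d := by omega
    rw [map_smul, map_mul, map_pow, map_pow, h0, h1, smul_pow, smul_mul_assoc, ← pow_add, hid,
      map_smul, map_smul, PowerSeries.coeff_X_pow_self, smul_eq_mul, smul_eq_mul, mul_one]

theorem exists_lam_one (c10 c01 : k) (h : ¬ (c10 = 0 ∧ c01 = 0)) :
    ∃ lam : k, c01 + c10 * lam ≠ 0 := by
  by_cases h1 : c01 = 0
  · refine ⟨1, ?_⟩
    rw [h1, zero_add, mul_one]
    intro h0
    exact h ⟨h0, h1⟩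
  · exact ⟨0, by rwa [mul_zero, add_zero]⟩

theorem exists_lam_two (h2 : (2 : k) ≠ 0) (c20 c11 c02 : k)
    (h : ¬ (c20 = 0 ∧ c11 = 0 ∧ c02 = 0)) :
    ∃ lam : k, c02 + c11 * lam + c20 * lam ^ 2 ≠ 0 := by
  by_contra hcon
  rw [not_exists] at hcon
  have e0 := not_not.mp (hcon 0)
  have e1 := not_not.mp (hcon 1)
  have e2 := not_not.mp (hcon (-1))
  have h02 : c02 = 0 := by linear_combination e0
  have hs : 2 * c20 = 0 := by linear_combination e1 + e2 - 2 * h02
  have h20 : c20 = 0 := (mul_eq_zero.mp hs).resolve_left h2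
  have h11 : c11 = 0 := by linear_combination e1 - h02 - h20
  exact h ⟨h20, h11, h02⟩

variable (k)

/-- Weierstrass normal form of `k[[x,y]]/(G)` after a shear, when the leading form of `G` does not
vanish at `(lam, 1)`. -/
theorem exists_weier (G : P k) (d : ℕ) (hG : G ∈ mI k ^ d) (lam : k)
    (hlam : ∑ i ∈ Finset.range (d + 1), MvPowerSeries.coeff (e i (d - i)) G * lam ^ i ≠ 0) :
    ∃ f : Polynomial (PowerSeries k),
      f.IsDistinguishedAt (IsLocalRing.maximalIdeal (PowerSeries k)) ∧ f.natDegree = d ∧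
      Nonempty ((P k ⧸ Ideal.span {G}) ≃ₐ[k] (Polynomial (PowerSeries k) ⧸ Ideal.span {f})) := by
  obtain ⟨Ψ, hΨ0, hΨ1⟩ := exists_psi k lam
  let ρ : P k →ₐ[k] PowerSeries k := (red k).comp Ψ.toAlgHom
  have hρ : ∀ H, ρ H = red k (Ψ H) := fun H => rfl
  have hρ0 : ρ (MvPowerSeries.X 0) = lam • (PowerSeries.X : PowerSeries k) := by
    rw [hρ, hΨ0, map_add, map_smul, red_C, red_X, PowerSeries.constantCoeff_X, map_zero, zero_add]
  have hρ1 : ρ (MvPowerSeries.X 1) = (PowerSeries.X : PowerSeries k) := by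
    rw [hρ, hΨ1, red_X]
  obtain ⟨hlow, htop⟩ := coeff_rho ρ lam hρ0 hρ1 d G hG
  rw [← htop] at hlam
  obtain ⟨f, hfd, hfdeg, ⟨ef⟩⟩ := weierstrass k (Ψ G) d
    (by rw [← coeff_red, ← hρ]; exact hlam)
    (by intro j hj; rw [← coeff_red, ← hρ]; exact hlow j hj)
  obtain ⟨eΨ⟩ := quotEquivOfMap Ψ G (Ψ G) 1 isUnit_one (mul_one _).symm
  exact ⟨f, hfd, hfdeg, ⟨eΨ.trans (ef.symm.restrictScalars k)⟩⟩

/-- Smooth germs are `k[[t]]`. -/
theorem smooth_equiv (G : P k) (hG1 : G ∈ mI k) (hG2 : G ∉ mI k ^ 2) :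
    Nonempty ((P k ⧸ Ideal.span {G}) ≃ₐ[k] PowerSeries k) := by
  have h00 : MvPowerSeries.coeff (e 0 0) G = 0 := (mem_one_iff G).mp hG1
  have hne : ¬ (MvPowerSeries.coeff (e 1 0) G = 0 ∧ MvPowerSeries.coeff (e 0 1) G = 0) := by
    rintro ⟨h10, h01⟩
    exact hG2 ((mem_sq_iff G).mpr ⟨h00, h10, h01⟩)
  obtain ⟨lam, hlam⟩ := exists_lam_one _ _ hne
  have hlam' : ∑ i ∈ Finset.range (1 + 1), MvPowerSeries.coeff (e i (1 - i)) G * lam ^ i ≠ 0 := by
    rw [Finset.sum_range_succ, Finset.sum_range_one]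
    simpa using hlam
  obtain ⟨f, hfd, hfdeg, ⟨eG⟩⟩ := exists_weier k G 1 (by rwa [pow_one]) lam hlam'
  obtain ⟨e1⟩ := deg1 f hfd.monic hfdeg
  exact ⟨eG.trans (e1.restrictScalars k)⟩

theorem coeff_eqn (m n r : ℕ) : MvPowerSeries.coeff (e m n) (ArSing.eqn k r) =
    (if m = 0 ∧ n = 2 then (1 : k) else 0) - (if m = r + 1 ∧ n = 0 then 1 else 0) := by
  have h1 : (MvPowerSeries.X 1 : P k) ^ 2 = MvPowerSeries.X 0 ^ 0 * MvPowerSeries.X 1 ^ 2 := by
    rw [pow_zero, one_mul]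
  have h2 : (MvPowerSeries.X 0 : P k) ^ (r + 1) =
      MvPowerSeries.X 0 ^ (r + 1) * MvPowerSeries.X 1 ^ 0 := by
    rw [pow_zero, mul_one]
  rw [ArSing.eqn, map_sub, h1, h2, coeff_e_mono, coeff_e_mono]

theorem eqn_mem (r : ℕ) : ArSing.eqn k r ∈ mI k := by
  rw [mem_one_iff, coeff_eqn]
  simp

theorem eqn_not_mem_cube (r : ℕ) : ArSing.eqn k r ∉ mI k ^ 3 := by
  intro h
  have := ((mem_cube_iff _).mp h).2.2.2.2.2
  rw [coeff_eqn] at this
  simp at this

theorem eqn_zero_not_mem_sq : ArSing.eqn k 0 ∉ mI k ^ 2 := by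
  intro h
  have := ((mem_sq_iff _).mp h).2.1
  rw [coeff_eqn] at this
  simp at this

theorem sq_mem : (MvPowerSeries.X 1 : P k) ^ 2 ∈ mI k := by
  have h1 : (MvPowerSeries.X 1 : P k) ^ 2 = MvPowerSeries.X 0 ^ 0 * MvPowerSeries.X 1 ^ 2 := by
    rw [pow_zero, one_mul]
  rw [mem_one_iff, h1, coeff_e_mono]
  simp

theorem sq_not_mem_cube : (MvPowerSeries.X 1 : P k) ^ 2 ∉ mI k ^ 3 := by
  intro h
  have h1 : (MvPowerSeries.X 1 : P k) ^ 2 = MvPowerSeries.X 0 ^ 0 * MvPowerSeries.X 1 ^ 2 := by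
    rw [pow_zero, one_mul]
  have := ((mem_cube_iff _).mp h).2.2.2.2.2
  rw [h1, coeff_e_mono] at this
  simp at this

/-- `k[[x,y]]/(y²) ≃ k[[t]][Y]/(Y²)`. -/
theorem sq_equiv : Nonempty ((P k ⧸ Ideal.span {(MvPowerSeries.X 1 : P k) ^ 2}) ≃ₐ[k]
    (Polynomial (PowerSeries k) ⧸ Ideal.span
      {(Polynomial.X ^ 2 : Polynomial (PowerSeries k))})) := by
  have hc := isAdicComplete_ps k
  obtain ⟨Ψ, -, hΨ1⟩ := exists_psi k 0
  obtain ⟨e1⟩ := quotEquivOfMap Ψ ((MvPowerSeries.X 1 : P k) ^ 2)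
    ((PowerSeries.X : PowerSeries (PowerSeries k)) ^ 2) 1 isUnit_one
    (by rw [map_pow, hΨ1, mul_one])
  have hdist : (Polynomial.X ^ 2 : Polynomial (PowerSeries k)).IsDistinguishedAt
      (IsLocalRing.maximalIdeal (PowerSeries k)) :=
    ⟨⟨fun {n} hn => by
      rw [Polynomial.natDegree_X_pow] at hn
      rw [Polynomial.coeff_X_pow, if_neg (by omega)]
      exact Ideal.zero_mem _⟩, Polynomial.monic_X_pow 2⟩
  have hW : ((PowerSeries.X : PowerSeries (PowerSeries k)) ^ 2).IsWeierstrassFactorizationAt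
      (Polynomial.X ^ 2) 1 (IsLocalRing.maximalIdeal (PowerSeries k)) :=
    ⟨hdist, isUnit_one, by rw [mul_one, Polynomial.coe_pow, Polynomial.coe_X]⟩
  exact ⟨e1.trans (hW.algEquivQuotient.symm.restrictScalars k)⟩

/-- Double points are `A_n` singularities or the double line. -/
theorem double_equiv [IsAlgClosed k] (h2 : (2 : k) ≠ 0) (G : P k) (hG2 : G ∈ mI k ^ 2)
    (hG3 : G ∉ mI k ^ 3) :
    (∃ n : ℕ, Nonempty ((P k ⧸ Ideal.span {G}) ≃ₐ[k] ArSing.ring k n)) ∨
    Nonempty ((P k ⧸ Ideal.span {G}) ≃ₐ[k]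
      (P k ⧸ Ideal.span {(MvPowerSeries.X 1 : P k) ^ 2})) := by
  obtain ⟨h00, h10, h01⟩ := (mem_sq_iff G).mp hG2
  have hne : ¬ (MvPowerSeries.coeff (e 2 0) G = 0 ∧ MvPowerSeries.coeff (e 1 1) G = 0 ∧
      MvPowerSeries.coeff (e 0 2) G = 0) := by
    rintro ⟨a, b, c⟩
    exact hG3 ((mem_cube_iff G).mpr ⟨h00, h10, h01, a, b, c⟩)
  obtain ⟨lam, hlam⟩ := exists_lam_two h2 _ _ _ hne
  have hlam' : ∑ i ∈ Finset.range (2 + 1), MvPowerSeries.coeff (e i (2 - i)) G * lam ^ i ≠ 0 := by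
    rw [Finset.sum_range_succ, Finset.sum_range_succ, Finset.sum_range_one]
    simpa using hlam
  obtain ⟨f, hfd, hfdeg, ⟨eG⟩⟩ := exists_weier k G 2 hG2 lam hlam'
  have hhalf : 2 * (PowerSeries.C (2⁻¹ : k) : PowerSeries k) = 1 := by
    rw [← map_ofNat (PowerSeries.C : k →+* PowerSeries k) 2, ← map_mul, mul_inv_cancel₀ h2,
      map_one]
  obtain ⟨e2⟩ := deg2 f hfd.monic hfdeg _ hhalf
  have hb : f.coeff 1 ∈ IsLocalRing.maximalIdeal (PowerSeries k) :=
    hfd.mem (by rw [hfdeg]; norm_num)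
  have hc : f.coeff 0 ∈ IsLocalRing.maximalIdeal (PowerSeries k) :=
    hfd.mem (by rw [hfdeg]; norm_num)
  rw [ps_mem_maximalIdeal k] at hb hc
  have hD0 : PowerSeries.constantCoeff
      ((PowerSeries.C (2⁻¹ : k) * f.coeff 1) ^ 2 - f.coeff 0) = 0 := by
    rw [map_sub, map_pow, map_mul, hb, hc, mul_zero]
    norm_num
  by_cases hDz : (PowerSeries.C (2⁻¹ : k) * f.coeff 1) ^ 2 - f.coeff 0 = 0
  · right
    obtain ⟨e3⟩ := sq_equiv k
    have hI : Ideal.span {(Polynomial.X ^ 2 - Polynomial.C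
        ((PowerSeries.C (2⁻¹ : k) * f.coeff 1) ^ 2 - f.coeff 0) : Polynomial (PowerSeries k))} =
        Ideal.span {(Polynomial.X ^ 2 : Polynomial (PowerSeries k))} := by
      rw [hDz, map_zero, sub_zero]
    exact ⟨eG.trans (((e2.trans (Ideal.quotientEquivAlgOfEq (PowerSeries k) hI)).restrictScalars
      k).trans e3.symm)⟩
  · left
    obtain ⟨n, ⟨e3⟩⟩ := nonzero_disc k h2 _ hD0 hDz
    exact ⟨n, ⟨eG.trans (((e2.trans e3).restrictScalars k).trans (adjoinRootEquiv k n))⟩⟩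

/-- Normal form of germs `G ∈ 𝔪 \ 𝔪³`. -/
theorem normal_form [IsAlgClosed k] (h2 : (2 : k) ≠ 0) (G : P k) (hG1 : G ∈ mI k)
    (hG3 : G ∉ mI k ^ 3) :
    (∃ n : ℕ, Nonempty ((P k ⧸ Ideal.span {G}) ≃ₐ[k] ArSing.ring k n)) ∨
    Nonempty ((P k ⧸ Ideal.span {G}) ≃ₐ[k]
      (P k ⧸ Ideal.span {(MvPowerSeries.X 1 : P k) ^ 2})) := by
  by_cases hG2 : G ∈ mI k ^ 2
  · exact double_equiv k h2 G hG2 hG3
  · left
    obtain ⟨e1⟩ := smooth_equiv k G hG1 hG2
    obtain ⟨e2⟩ := smooth_equiv k (ArSing.eqn k 0) (eqn_mem k 0) (eqn_zero_not_mem_sq k)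
    exact ⟨0, ⟨e1.trans e2.symm⟩⟩

end two

end Groth.Agent.Lib.R2H7.DoublePtNF
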