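/-
Involutions of the node `A_1 = k[[x,y]]/(y^2 - x^2)` up to conjugacy (char ≠ 2):
every non-trivial involution is conjugate to `(x,-y)`, `(-x,-y)` or `(y,x)`.
Method: the two branch maps `P1, P2 : A_1 → k[[t]]` identify `A_1` with pairs of series with
equal constant term; an involution either preserves or exchanges the branches; involutions of
`k[[t]]` are linearised by `s = (t + c θ(t))/2`.
-/
import Mathlib
import Groth.Agent.Lib.R2H7ArSingNode
import Groth.Agent.Lib.Helper19InvFun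
import Groth.Agent.Lib.Helper19PsLiftComplete

set_option autoImplicit false
universe u

namespace Groth.Agent.Lib.R2H7.NodeInv

open IsLocalRing Groth.Agent.Lib.R2H7.ArSingStruct

section basics

variable (k : Type u) [Field k]

theorem cc_algebraMap (c : k) :
    PowerSeries.constantCoeff (algebraMap k (PowerSeries k) c) = c := by
  rw [PowerSeries.algebraMap_apply, Algebra.algebraMap_self, RingHom.id_apply,
    PowerSeries.constantCoeff_C]

theorem cc_smul (a : k) (f : PowerSeries k) :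
    PowerSeries.constantCoeff (a • f) = a * PowerSeries.constantCoeff f := by
  rw [← PowerSeries.coeff_zero_eq_constantCoeff_apply,
    ← PowerSeries.coeff_zero_eq_constantCoeff_apply, map_smul, smul_eq_mul]

theorem cc_X_algHom (θ : PowerSeries k →ₐ[k] PowerSeries k) :
    PowerSeries.constantCoeff (θ PowerSeries.X) = 0 := by
  by_contra hne
  set c : k := PowerSeries.constantCoeff (θ PowerSeries.X) with hc
  have hu : IsUnit ((PowerSeries.X : PowerSeries k) - algebraMap k (PowerSeries k) c) := by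
    rw [PowerSeries.isUnit_iff_constantCoeff, map_sub, PowerSeries.constantCoeff_X,
      cc_algebraMap, zero_sub, isUnit_iff_ne_zero]
    exact neg_ne_zero.mpr hne
  have hu2 := hu.map θ
  rw [map_sub, AlgHom.commutes, PowerSeries.isUnit_iff_constantCoeff, map_sub, ← hc,
    cc_algebraMap, sub_self] at hu2
  exact not_isUnit_zero hu2

theorem cc_algHom (θ : PowerSeries k →ₐ[k] PowerSeries k) (f : PowerSeries k) :
    PowerSeries.constantCoeff (θ f) = PowerSeries.constantCoeff f := by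
  obtain ⟨g, c, hf⟩ : ∃ (g : PowerSeries k) (c : k), f = g * PowerSeries.X + PowerSeries.C c :=
    ⟨_, _, PowerSeries.eq_shift_mul_X_add_const f⟩
  have hC : θ (PowerSeries.C c) = PowerSeries.C c := by
    have : (PowerSeries.C c : PowerSeries k) = algebraMap k (PowerSeries k) c := by
      rw [PowerSeries.algebraMap_apply, Algebra.algebraMap_self, RingHom.id_apply]
    rw [this, AlgHom.commutes]
  rw [hf]
  simp only [map_add, map_mul, hC, cc_X_algHom k θ, PowerSeries.constantCoeff_X,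
    PowerSeries.constantCoeff_C, mul_zero, zero_add]

theorem ps_algHom_ext (φ₁ φ₂ : PowerSeries k →ₐ[k] PowerSeries k)
    (h : φ₁ PowerSeries.X = φ₂ PowerSeries.X) : φ₁ = φ₂ := by
  have hc := isAdicComplete_ps k
  have hH : IsHausdorff (maximalIdeal (PowerSeries k)) (PowerSeries k) := inferInstance
  exact Groth.Agent.Lib.Helper19.algHom_ext_of_X_of_isHausdorff (Λ := k) (σ := Unit)
    (maximalIdeal (PowerSeries k)) φ₁ φ₂
    (fun _ => (ps_mem_maximalIdeal k).mpr (cc_X_algHom k φ₁)) (fun _ => h)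

theorem exists_algEquiv_X (s : PowerSeries k) (h0 : PowerSeries.constantCoeff s = 0)
    (h1 : PowerSeries.coeff 1 s ≠ 0) :
    ∃ χ : PowerSeries k ≃ₐ[k] PowerSeries k, χ PowerSeries.X = s := by
  classical
  have hc := isAdicComplete_ps k
  obtain ⟨φ, hφ⟩ := Groth.Agent.Lib.Helper19.exists_algHom_X_eq_of_isAdicComplete (Λ := k)
    (σ := Unit) (E := PowerSeries k) (maximalIdeal (PowerSeries k)) (fun _ => s)
    (fun _ => (ps_mem_maximalIdeal k).mpr h0)
  have hbij : Function.Bijective φ := by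
    refine Groth.Agent.Lib.Helper19.bijective_of_isUnit_jacobian_det (R := k) (σ := Unit) φ ?_ ?_
    · intro i
      rw [hφ i]
      exact h0
    · rw [Matrix.det_unique, Matrix.of_apply, hφ]
      exact isUnit_iff_ne_zero.mpr h1
  exact ⟨AlgEquiv.ofBijective φ hbij, hφ ()⟩

theorem exists_linearize (h2 : (2 : k) ≠ 0) (θ : PowerSeries k →ₐ[k] PowerSeries k)
    (hθ : ∀ f, θ (θ f) = f) :
    ∃ (c : k) (χ : PowerSeries k ≃ₐ[k] PowerSeries k), (c = 1 ∨ c = -1) ∧
      θ (χ PowerSeries.X) = c • χ PowerSeries.X := by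
  have hp0 := cc_X_algHom k θ
  obtain ⟨q, hq⟩ : (PowerSeries.X : PowerSeries k) ∣ θ PowerSeries.X := by
    rw [PowerSeries.X_dvd_iff]
    exact hp0
  have hqq : q * θ q = 1 := by
    have h1 : θ (θ PowerSeries.X) = PowerSeries.X := hθ _
    rw [hq, map_mul, hq] at h1
    have h3 : (PowerSeries.X : PowerSeries k) * (q * θ q) = PowerSeries.X * 1 := by
      rw [mul_one, ← mul_assoc]
      exact h1
    exact mul_left_cancel₀ PowerSeries.X_ne_zero h3
  have hcc : PowerSeries.constantCoeff q * PowerSeries.constantCoeff q = 1 := by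
    have := congrArg PowerSeries.constantCoeff hqq
    rw [map_mul, cc_algHom, map_one] at this
    exact this
  have hc1 : PowerSeries.constantCoeff q = 1 ∨ PowerSeries.constantCoeff q = -1 :=
    mul_self_eq_one_iff.mp hcc
  have e1 : PowerSeries.coeff 1 (θ PowerSeries.X) = PowerSeries.constantCoeff q := by
    rw [hq]
    have := PowerSeries.coeff_succ_X_mul (R := k) 0 q
    rw [zero_add] at this
    rw [this, PowerSeries.coeff_zero_eq_constantCoeff_apply]
  have hs0 : PowerSeries.constantCoeff ((2 : k)⁻¹ •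
      (PowerSeries.X + PowerSeries.constantCoeff q • θ PowerSeries.X)) = 0 := by
    rw [cc_smul, map_add, cc_smul, hp0, PowerSeries.constantCoeff_X, mul_zero, add_zero, mul_zero]
  have hs1 : PowerSeries.coeff 1 ((2 : k)⁻¹ •
      (PowerSeries.X + PowerSeries.constantCoeff q • θ PowerSeries.X)) = 1 := by
    rw [map_smul, map_add, map_smul, e1, PowerSeries.coeff_one_X, smul_eq_mul, smul_eq_mul, hcc,
      one_add_one_eq_two, inv_mul_cancel₀ h2]
  obtain ⟨χ, hχ⟩ := exists_algEquiv_X k _ hs0 (by rw [hs1]; exact one_ne_zero)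
  refine ⟨PowerSeries.constantCoeff q, χ, hc1, ?_⟩
  rw [hχ, map_smul, map_add, map_smul, hθ, smul_comm (PowerSeries.constantCoeff q) ((2 : k)⁻¹)]
  congr 1
  rw [smul_add, smul_smul, hcc, one_smul, add_comm]

end basics

section lift

variable (k : Type u) [Field k] (h2 : (2 : k) ≠ 0)

include h2 in
theorem P1_surjective : Function.Surjective (P1 k) := fun f => by
  obtain ⟨c, hc, -⟩ := exists_branch k h2 f (PowerSeries.C (PowerSeries.constantCoeff f))
    (by rw [PowerSeries.constantCoeff_C])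
  exact ⟨c, hc⟩

include h2 in
theorem P2_surjective : Function.Surjective (P2 k) := fun f => by
  obtain ⟨c, -, hc⟩ := exists_branch k h2 (PowerSeries.C (PowerSeries.constantCoeff f)) f
    (by rw [PowerSeries.constantCoeff_C])
  exact ⟨c, hc⟩

theorem exists_factor (P Q : ArSing.ring k 1 →ₐ[k] PowerSeries k) (hP : Function.Surjective P)
    (hker : ∀ a, P a = 0 → Q a = 0) :
    ∃ θ : PowerSeries k →ₐ[k] PowerSeries k, ∀ a, Q a = θ (P a) := by
  have H : RingHom.ker P.toRingHom ≤ RingHom.ker Q.toRingHom := by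
    intro a ha
    rw [RingHom.mem_ker] at ha ⊢
    exact hker a ha
  exact ⟨AlgHom.liftOfSurjective P hP Q H, fun a =>
    (AlgHom.liftOfSurjective_apply P hP Q H a).symm⟩

variable (Q1 Q2 : ArSing.ring k 1 →ₐ[k] PowerSeries k)
  (hcc : ∀ a, PowerSeries.constantCoeff (Q1 a) = PowerSeries.constantCoeff (Q2 a))

/-- The element of `A_1` with prescribed branches. -/
noncomputable def liftFun (a : ArSing.ring k 1) : ArSing.ring k 1 :=
  Classical.choose (exists_branch k h2 (Q1 a) (Q2 a) (hcc a))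

theorem P1_liftFun (a : ArSing.ring k 1) : P1 k (liftFun k h2 Q1 Q2 hcc a) = Q1 a :=
  (Classical.choose_spec (exists_branch k h2 (Q1 a) (Q2 a) (hcc a))).1

theorem P2_liftFun (a : ArSing.ring k 1) : P2 k (liftFun k h2 Q1 Q2 hcc a) = Q2 a :=
  (Classical.choose_spec (exists_branch k h2 (Q1 a) (Q2 a) (hcc a))).2

/-- The endomorphism of `A_1` with prescribed branch maps. -/
noncomputable def liftPair : ArSing.ring k 1 →ₐ[k] ArSing.ring k 1 where
  toFun := liftFun k h2 Q1 Q2 hcc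
  map_one' := branch_ext k h2 (by simp only [P1_liftFun, map_one])
    (by simp only [P2_liftFun, map_one])
  map_mul' a b := branch_ext k h2 (by simp only [P1_liftFun, map_mul])
    (by simp only [P2_liftFun, map_mul])
  map_zero' := branch_ext k h2 (by simp only [P1_liftFun, map_zero])
    (by simp only [P2_liftFun, map_zero])
  map_add' a b := branch_ext k h2 (by simp only [P1_liftFun, map_add])
    (by simp only [P2_liftFun, map_add])
  commutes' r := branch_ext k h2 (by simp only [P1_liftFun, AlgHom.commutes])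
    (by simp only [P2_liftFun, AlgHom.commutes])

theorem P1_liftPair (a : ArSing.ring k 1) : P1 k (liftPair k h2 Q1 Q2 hcc a) = Q1 a :=
  P1_liftFun k h2 Q1 Q2 hcc a

theorem P2_liftPair (a : ArSing.ring k 1) : P2 k (liftPair k h2 Q1 Q2 hcc a) = Q2 a :=
  P2_liftFun k h2 Q1 Q2 hcc a

/-- The endomorphism acting by `χ1`, `χ2` on the two branches. -/
noncomputable def pairHom (χ1 χ2 : PowerSeries k →ₐ[k] PowerSeries k) :
    ArSing.ring k 1 →ₐ[k] ArSing.ring k 1 :=
  liftPair k h2 (χ1.comp (P1 k)) (χ2.comp (P2 k)) (fun a => by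
    rw [AlgHom.comp_apply, AlgHom.comp_apply, cc_algHom, cc_algHom, constantCoeff_P1_eq_P2])

theorem P1_pairHom (χ1 χ2 : PowerSeries k →ₐ[k] PowerSeries k) (a : ArSing.ring k 1) :
    P1 k (pairHom k h2 χ1 χ2 a) = χ1 (P1 k a) :=
  P1_liftPair k h2 _ _ _ a

theorem P2_pairHom (χ1 χ2 : PowerSeries k →ₐ[k] PowerSeries k) (a : ArSing.ring k 1) :
    P2 k (pairHom k h2 χ1 χ2 a) = χ2 (P2 k a) :=
  P2_liftPair k h2 _ _ _ a

/-- The automorphism acting by `χ1`, `χ2` on the two branches. -/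
noncomputable def pairAut (χ1 χ2 : PowerSeries k ≃ₐ[k] PowerSeries k) :
    ArSing.ring k 1 ≃ₐ[k] ArSing.ring k 1 :=
  AlgEquiv.ofAlgHom (pairHom k h2 χ1.toAlgHom χ2.toAlgHom)
    (pairHom k h2 χ1.symm.toAlgHom χ2.symm.toAlgHom)
    (AlgHom.ext fun a => branch_ext k h2
      (by
        rw [AlgHom.comp_apply, P1_pairHom, P1_pairHom]
        exact χ1.apply_symm_apply _)
      (by
        rw [AlgHom.comp_apply, P2_pairHom, P2_pairHom]
        exact χ2.apply_symm_apply _))
    (AlgHom.ext fun a => branch_ext k h2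
      (by
        rw [AlgHom.comp_apply, P1_pairHom, P1_pairHom]
        exact χ1.symm_apply_apply _)
      (by
        rw [AlgHom.comp_apply, P2_pairHom, P2_pairHom]
        exact χ2.symm_apply_apply _))

theorem P1_pairAut (χ1 χ2 : PowerSeries k ≃ₐ[k] PowerSeries k) (a : ArSing.ring k 1) :
    P1 k (pairAut k h2 χ1 χ2 a) = χ1 (P1 k a) :=
  P1_pairHom k h2 _ _ a

theorem P2_pairAut (χ1 χ2 : PowerSeries k ≃ₐ[k] PowerSeries k) (a : ArSing.ring k 1) :
    P2 k (pairAut k h2 χ1 χ2 a) = χ2 (P2 k a) :=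
  P2_pairHom k h2 _ _ a

/-- The endomorphism exchanging the two branches. -/
noncomputable def swapHom : ArSing.ring k 1 →ₐ[k] ArSing.ring k 1 :=
  liftPair k h2 (P2 k) (P1 k) (fun a => (constantCoeff_P1_eq_P2 k a).symm)

theorem P1_swapHom (a : ArSing.ring k 1) : P1 k (swapHom k h2 a) = P2 k a :=
  P1_liftPair k h2 _ _ _ a

theorem P2_swapHom (a : ArSing.ring k 1) : P2 k (swapHom k h2 a) = P1 k a :=
  P2_liftPair k h2 _ _ _ a

/-- The automorphism exchanging the two branches: `x ↦ x`, `y ↦ -y`. -/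
noncomputable def swapAut : ArSing.ring k 1 ≃ₐ[k] ArSing.ring k 1 :=
  AlgEquiv.ofAlgHom (swapHom k h2) (swapHom k h2)
    (AlgHom.ext fun a => branch_ext k h2
      (by rw [AlgHom.comp_apply, P1_swapHom, P2_swapHom]; rfl)
      (by rw [AlgHom.comp_apply, P2_swapHom, P1_swapHom]; rfl))
    (AlgHom.ext fun a => branch_ext k h2
      (by rw [AlgHom.comp_apply, P1_swapHom, P2_swapHom]; rfl)
      (by rw [AlgHom.comp_apply, P2_swapHom, P1_swapHom]; rfl))

theorem P1_swapAut (a : ArSing.ring k 1) : P1 k (swapAut k h2 a) = P2 k a :=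
  P1_swapHom k h2 a

theorem P2_swapAut (a : ArSing.ring k 1) : P2 k (swapAut k h2 a) = P1 k a :=
  P2_swapHom k h2 a

theorem swapAut_x : swapAut k h2 (ArSing.x k 1) = ArSing.x k 1 :=
  branch_ext k h2 (by rw [P1_swapAut, P2_x, P1_x]) (by rw [P2_swapAut, P1_x, P2_x])

theorem swapAut_y : swapAut k h2 (ArSing.y k 1) = -ArSing.y k 1 :=
  branch_ext k h2 (by rw [P1_swapAut, P2_y, map_neg, P1_y])
    (by rw [P2_swapAut, P1_y, map_neg, P2_y, neg_neg])

end lift

section main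

variable (k : Type u) [Field k] (h2 : (2 : k) ≠ 0)

theorem P1_u : P1 k (ArSing.x k 1 + ArSing.y k 1) = PowerSeries.X + PowerSeries.X := by
  rw [map_add, P1_x, P1_y]

theorem P2_u : P2 k (ArSing.x k 1 + ArSing.y k 1) = 0 := by
  rw [map_add, P2_x, P2_y, add_neg_cancel]

theorem P1_v : P1 k (ArSing.y k 1 - ArSing.x k 1) = 0 := by
  rw [map_sub, P1_x, P1_y, sub_self]

theorem P2_v : P2 k (ArSing.y k 1 - ArSing.x k 1) = -(PowerSeries.X + PowerSeries.X) := by
  rw [map_sub, P2_x, P2_y]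
  ring

include h2 in
theorem XX_ne_zero : (PowerSeries.X + PowerSeries.X : PowerSeries k) ≠ 0 := by
  intro h
  have := congrArg (PowerSeries.coeff 1) h
  rw [map_add, PowerSeries.coeff_one_X, map_zero, one_add_one_eq_two] at this
  exact h2 this

include h2 in
theorem mul_u_eq_zero_of_P1 {a : ArSing.ring k 1} (h : P1 k a = 0) :
    a * (ArSing.x k 1 + ArSing.y k 1) = 0 :=
  branch_eq_zero k h2 (by rw [map_mul, h, zero_mul]) (by rw [map_mul, P2_u, mul_zero])

include h2 in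
theorem mul_v_eq_zero_of_P2 {a : ArSing.ring k 1} (h : P2 k a = 0) :
    a * (ArSing.y k 1 - ArSing.x k 1) = 0 :=
  branch_eq_zero k h2 (by rw [map_mul, P1_v, mul_zero]) (by rw [map_mul, h, zero_mul])

variable (σ : ArSing.ring k 1 ≃ₐ[k] ArSing.ring k 1) (hσ : ∀ a, σ (σ a) = a)

include h2 hσ in
theorem caseN (hne : σ ≠ AlgEquiv.refl)
    (hP1u : P1 k (σ (ArSing.x k 1 + ArSing.y k 1)) ≠ 0)
    (hP2v : P2 k (σ (ArSing.y k 1 - ArSing.x k 1)) ≠ 0) :
    ∃ φ : ArSing.ring k 1 ≃ₐ[k] ArSing.ring k 1,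
      (φ.symm (σ (φ (ArSing.x k 1))) = ArSing.x k 1 ∧
        φ.symm (σ (φ (ArSing.y k 1))) = -ArSing.y k 1) ∨
      (φ.symm (σ (φ (ArSing.x k 1))) = -ArSing.x k 1 ∧
        φ.symm (σ (φ (ArSing.y k 1))) = -ArSing.y k 1) ∨
      (φ.symm (σ (φ (ArSing.x k 1))) = ArSing.y k 1 ∧
        φ.symm (σ (φ (ArSing.y k 1))) = ArSing.x k 1) := by
  have hk1 : ∀ a, P1 k a = 0 → P1 k (σ a) = 0 := by
    intro a ha
    have h := congrArg (fun z => P1 k (σ z)) (mul_u_eq_zero_of_P1 k h2 ha)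
    simp only [map_mul, map_zero] at h
    exact (mul_eq_zero.mp h).resolve_right hP1u
  have hk2 : ∀ a, P2 k a = 0 → P2 k (σ a) = 0 := by
    intro a ha
    have h := congrArg (fun z => P2 k (σ z)) (mul_v_eq_zero_of_P2 k h2 ha)
    simp only [map_mul, map_zero] at h
    exact (mul_eq_zero.mp h).resolve_right hP2v
  obtain ⟨θ1, hθ1⟩ := exists_factor k (P1 k) ((P1 k).comp σ.toAlgHom) (P1_surjective k h2)
    (fun a ha => hk1 a ha)
  obtain ⟨θ2, hθ2⟩ := exists_factor k (P2 k) ((P2 k).comp σ.toAlgHom) (P2_surjective k h2)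
    (fun a ha => hk2 a ha)
  have hθ1' : ∀ a, P1 k (σ a) = θ1 (P1 k a) := fun a => hθ1 a
  have hθ2' : ∀ a, P2 k (σ a) = θ2 (P2 k a) := fun a => hθ2 a
  have hθ1i : ∀ f, θ1 (θ1 f) = f := by
    intro f
    obtain ⟨a, rfl⟩ := P1_surjective k h2 f
    rw [← hθ1', ← hθ1', hσ]
  have hθ2i : ∀ f, θ2 (θ2 f) = f := by
    intro f
    obtain ⟨a, rfl⟩ := P2_surjective k h2 f
    rw [← hθ2', ← hθ2', hσ]
  obtain ⟨c1, χ1, hc1, hχ1⟩ := exists_linearize k h2 θ1 hθ1i
  obtain ⟨c2, χ2, hc2, hχ2⟩ := exists_linearize k h2 θ2 hθ2i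
  have A1x : P1 k (σ (pairAut k h2 χ1 χ2 (ArSing.x k 1))) = c1 • χ1 PowerSeries.X := by
    rw [hθ1', P1_pairAut, P1_x, hχ1]
  have A2x : P2 k (σ (pairAut k h2 χ1 χ2 (ArSing.x k 1))) = c2 • χ2 PowerSeries.X := by
    rw [hθ2', P2_pairAut, P2_x, hχ2]
  have A1y : P1 k (σ (pairAut k h2 χ1 χ2 (ArSing.y k 1))) = c1 • χ1 PowerSeries.X := by
    rw [hθ1', P1_pairAut, P1_y, hχ1]
  have A2y : P2 k (σ (pairAut k h2 χ1 χ2 (ArSing.y k 1))) = -(c2 • χ2 PowerSeries.X) := by
    rw [hθ2', P2_pairAut, P2_y, map_neg, map_neg, hχ2]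
  have B1x : ∀ e : ArSing.ring k 1, P1 k (pairAut k h2 χ1 χ2 e) = χ1 (P1 k e) :=
    fun e => P1_pairAut k h2 χ1 χ2 e
  have B2x : ∀ e : ArSing.ring k 1, P2 k (pairAut k h2 χ1 χ2 e) = χ2 (P2 k e) :=
    fun e => P2_pairAut k h2 χ1 χ2 e
  rcases hc1 with rfl | rfl <;> rcases hc2 with rfl | rfl
  · -- trivial involution
    exfalso
    apply hne
    have e1 : ∀ f, θ1 f = f := by
      have hcomp : θ1.comp χ1.toAlgHom = χ1.toAlgHom :=
        ps_algHom_ext k _ _ (by
          rw [AlgHom.comp_apply]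
          show θ1 (χ1 PowerSeries.X) = χ1 PowerSeries.X
          rw [hχ1, one_smul])
      intro f
      have h := AlgHom.congr_fun hcomp (χ1.symm f)
      have h' : θ1 (χ1 (χ1.symm f)) = χ1 (χ1.symm f) := h
      rwa [χ1.apply_symm_apply] at h'
    have e2 : ∀ f, θ2 f = f := by
      have hcomp : θ2.comp χ2.toAlgHom = χ2.toAlgHom :=
        ps_algHom_ext k _ _ (by
          rw [AlgHom.comp_apply]
          show θ2 (χ2 PowerSeries.X) = χ2 PowerSeries.X
          rw [hχ2, one_smul])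
      intro f
      have h := AlgHom.congr_fun hcomp (χ2.symm f)
      have h' : θ2 (χ2 (χ2.symm f)) = χ2 (χ2.symm f) := h
      rwa [χ2.apply_symm_apply] at h'
    exact AlgEquiv.ext fun a => branch_ext k h2 (by rw [hθ1', e1]; rfl) (by rw [hθ2', e2]; rfl)
  · -- (1, -1): exchange
    refine ⟨pairAut k h2 χ1 χ2, Or.inr (Or.inr ⟨?_, ?_⟩)⟩
    · rw [AlgEquiv.symm_apply_eq]
      exact branch_ext k h2 (by rw [A1x, B1x, P1_y, one_smul])
        (by rw [A2x, B2x, P2_y, map_neg, neg_smul, one_smul])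
    · rw [AlgEquiv.symm_apply_eq]
      exact branch_ext k h2 (by rw [A1y, B1x, P1_x, one_smul])
        (by rw [A2y, B2x, P2_x, neg_smul, one_smul, neg_neg])
  · -- (-1, 1): exchange after swapping
    refine ⟨(swapAut k h2).trans (pairAut k h2 χ1 χ2), Or.inr (Or.inr ⟨?_, ?_⟩)⟩
    · rw [AlgEquiv.symm_apply_eq, AlgEquiv.trans_apply, AlgEquiv.trans_apply, swapAut_x,
        swapAut_y]
      exact branch_ext k h2 (by rw [A1x, B1x, map_neg, P1_y, map_neg, neg_smul, one_smul])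
        (by rw [A2x, B2x, map_neg, P2_y, neg_neg, one_smul])
    · rw [AlgEquiv.symm_apply_eq, AlgEquiv.trans_apply, AlgEquiv.trans_apply, swapAut_x,
        swapAut_y]
      exact branch_ext k h2
        (by rw [map_neg, map_neg, map_neg, A1y, B1x, P1_x, neg_smul, one_smul, neg_neg])
        (by rw [map_neg, map_neg, map_neg, A2y, B2x, P2_x, one_smul, neg_neg])
  · -- (-1, -1)
    refine ⟨pairAut k h2 χ1 χ2, Or.inr (Or.inl ⟨?_, ?_⟩)⟩
    · rw [AlgEquiv.symm_apply_eq]
      exact branch_ext k h2 (by rw [A1x, B1x, map_neg, P1_x, map_neg, neg_smul, one_smul])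
        (by rw [A2x, B2x, map_neg, P2_x, map_neg, neg_smul, one_smul])
    · rw [AlgEquiv.symm_apply_eq]
      exact branch_ext k h2 (by rw [A1y, B1x, map_neg, P1_y, map_neg, neg_smul, one_smul])
        (by rw [A2y, B2x, map_neg, P2_y, neg_neg, neg_smul, one_smul, neg_neg])

include h2 hσ in
theorem caseS
    (hP2u : P2 k (σ (ArSing.x k 1 + ArSing.y k 1)) ≠ 0)
    (hP1v : P1 k (σ (ArSing.y k 1 - ArSing.x k 1)) ≠ 0) :
    ∃ φ : ArSing.ring k 1 ≃ₐ[k] ArSing.ring k 1,
      φ.symm (σ (φ (ArSing.x k 1))) = ArSing.x k 1 ∧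
        φ.symm (σ (φ (ArSing.y k 1))) = -ArSing.y k 1 := by
  have hk1 : ∀ a, P1 k a = 0 → P2 k (σ a) = 0 := by
    intro a ha
    have h := congrArg (fun z => P2 k (σ z)) (mul_u_eq_zero_of_P1 k h2 ha)
    simp only [map_mul, map_zero] at h
    exact (mul_eq_zero.mp h).resolve_right hP2u
  have hk2 : ∀ a, P2 k a = 0 → P1 k (σ a) = 0 := by
    intro a ha
    have h := congrArg (fun z => P1 k (σ z)) (mul_v_eq_zero_of_P2 k h2 ha)
    simp only [map_mul, map_zero] at h
    exact (mul_eq_zero.mp h).resolve_right hP1v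
  obtain ⟨θ12, hθ12⟩ := exists_factor k (P1 k) ((P2 k).comp σ.toAlgHom) (P1_surjective k h2)
    (fun a ha => hk1 a ha)
  obtain ⟨θ21, hθ21⟩ := exists_factor k (P2 k) ((P1 k).comp σ.toAlgHom) (P2_surjective k h2)
    (fun a ha => hk2 a ha)
  have hθ12' : ∀ a, P2 k (σ a) = θ12 (P1 k a) := fun a => hθ12 a
  have hθ21' : ∀ a, P1 k (σ a) = θ21 (P2 k a) := fun a => hθ21 a
  have h21 : ∀ f, θ21 (θ12 f) = f := by
    intro f
    obtain ⟨a, rfl⟩ := P1_surjective k h2 f
    rw [← hθ12', ← hθ21', hσ]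
  have h12 : ∀ f, θ12 (θ21 f) = f := by
    intro f
    obtain ⟨a, rfl⟩ := P2_surjective k h2 f
    rw [← hθ21', ← hθ12', hσ]
  let ϑ : PowerSeries k ≃ₐ[k] PowerSeries k :=
    AlgEquiv.ofAlgHom θ12 θ21 (AlgHom.ext fun f => h12 f) (AlgHom.ext fun f => h21 f)
  have hϑ : ∀ f, ϑ f = θ12 f := fun f => rfl
  have B1 : ∀ e : ArSing.ring k 1, P1 k (pairAut k h2 AlgEquiv.refl ϑ e) = P1 k e :=
    fun e => P1_pairAut k h2 AlgEquiv.refl ϑ e
  have B2 : ∀ e : ArSing.ring k 1, P2 k (pairAut k h2 AlgEquiv.refl ϑ e) = θ12 (P2 k e) :=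
    fun e => P2_pairAut k h2 AlgEquiv.refl ϑ e
  refine ⟨pairAut k h2 AlgEquiv.refl ϑ, ?_, ?_⟩
  · rw [AlgEquiv.symm_apply_eq]
    exact branch_ext k h2 (by rw [hθ21', B2, h21, B1, P2_x, P1_x])
      (by rw [hθ12', B1, B2, P1_x, P2_x])
  · rw [AlgEquiv.symm_apply_eq]
    exact branch_ext k h2 (by rw [hθ21', B2, h21, B1, P2_y, map_neg, P1_y])
      (by rw [hθ12', B1, B2, P1_y, map_neg, P2_y, neg_neg])

include h2 hσ in
/-- Every non-trivial involution of the node is conjugate to `(x,-y)`, `(-x,-y)` or `(y,x)`. -/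
theorem main (hne : σ ≠ AlgEquiv.refl) :
    ∃ φ : ArSing.ring k 1 ≃ₐ[k] ArSing.ring k 1,
      (φ.symm (σ (φ (ArSing.x k 1))) = ArSing.x k 1 ∧
        φ.symm (σ (φ (ArSing.y k 1))) = -ArSing.y k 1) ∨
      (φ.symm (σ (φ (ArSing.x k 1))) = -ArSing.x k 1 ∧
        φ.symm (σ (φ (ArSing.y k 1))) = -ArSing.y k 1) ∨
      (φ.symm (σ (φ (ArSing.x k 1))) = ArSing.y k 1 ∧
        φ.symm (σ (φ (ArSing.y k 1))) = ArSing.x k 1) := by
  have huv : σ (ArSing.x k 1 + ArSing.y k 1) * σ (ArSing.y k 1 - ArSing.x k 1) = 0 := by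
    rw [← map_mul, u_mul_v, map_zero]
  have hu0 : σ (ArSing.x k 1 + ArSing.y k 1) ≠ 0 := by
    intro h
    have h0 : ArSing.x k 1 + ArSing.y k 1 = 0 := σ.injective (by rw [h, map_zero])
    have h' := congrArg (P1 k) h0
    rw [P1_u, map_zero] at h'
    exact XX_ne_zero k h2 h'
  have hv0 : σ (ArSing.y k 1 - ArSing.x k 1) ≠ 0 := by
    intro h
    have h0 : ArSing.y k 1 - ArSing.x k 1 = 0 := σ.injective (by rw [h, map_zero])
    have h' := congrArg (P2 k) h0
    rw [P2_v, map_zero, neg_eq_zero] at h'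
    exact XX_ne_zero k h2 h'
  have hnot : ∀ w : ArSing.ring k 1, w ≠ 0 → ¬ (P1 k w = 0 ∧ P2 k w = 0) :=
    fun w hw h => hw (branch_eq_zero k h2 h.1 h.2)
  have h1 : P1 k (σ (ArSing.x k 1 + ArSing.y k 1)) = 0 ∨
      P1 k (σ (ArSing.y k 1 - ArSing.x k 1)) = 0 := by
    have := congrArg (P1 k) huv
    rw [map_mul, map_zero] at this
    exact mul_eq_zero.mp this
  have h1' : P2 k (σ (ArSing.x k 1 + ArSing.y k 1)) = 0 ∨
      P2 k (σ (ArSing.y k 1 - ArSing.x k 1)) = 0 := by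
    have := congrArg (P2 k) huv
    rw [map_mul, map_zero] at this
    exact mul_eq_zero.mp this
  by_cases hN : P1 k (σ (ArSing.y k 1 - ArSing.x k 1)) = 0
  · have hN2 : P2 k (σ (ArSing.x k 1 + ArSing.y k 1)) = 0 := by
      rcases h1' with h | h
      · exact h
      · exact absurd ⟨hN, h⟩ (hnot _ hv0)
    exact caseN k h2 σ hσ hne (fun h => hnot _ hu0 ⟨h, hN2⟩) (fun h => hnot _ hv0 ⟨hN, h⟩)
  · have hS1 : P1 k (σ (ArSing.x k 1 + ArSing.y k 1)) = 0 := h1.resolve_right hN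
    have hS2 : P2 k (σ (ArSing.y k 1 - ArSing.x k 1)) = 0 := by
      rcases h1' with h | h
      · exact absurd ⟨hS1, h⟩ (hnot _ hu0)
      · exact h
    obtain ⟨φ, hφ⟩ := caseS k h2 σ hσ (fun h => hnot _ hu0 ⟨hS1, h⟩) hN
    exact ⟨φ, Or.inl hφ⟩

end main

end Groth.Agent.Lib.R2H7.NodeInv
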