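/-
Involutions of the cuspidal `A_r`-singularities `A_r = k[[x,y]]/(y^2 - x^(r+1))`, `r = 2s` even
(char ≠ 2): every non-trivial involution is conjugate to `(x, y) ↦ (x, -y)`.
Method: the parametrisation `par : A_r → k[[t]]`, `x ↦ t^2`, `y ↦ t^(r+1)` is injective with image
the series whose odd coefficients below `r+1` vanish; an involution `σ` of `A_r` extends to an
involution `θ` of `k[[t]]`; a square root `τ` of `par ((x + σ x)/2)` is an anti-invariant
uniformiser; the automorphism `t ↦ τ` of `k[[t]]` preserves the image of `par` and conjugates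
`θ` to `t ↦ -t`.
-/
import Mathlib
import Groth.Agent.Lib.R2H7NodeInv
import Groth.Agent.Lib.R2H7DoublePtNF

set_option autoImplicit false
universe u

namespace Groth.Agent.Lib.R2H7.CuspInv

open IsLocalRing Groth.Agent.Lib.R2H7.ArSingStruct Groth.Agent.Lib.R2H7.NodeInv

section par

variable (k : Type u) [Field k] (r : ℕ)

/-- The parametrisation on the model: `of a ↦ a(t^2)`, `root ↦ t^(r+1)`. -/
noncomputable def parS : AdjoinRoot (pol k r) →ₐ[k] PowerSeries k :=
  AdjoinRoot.liftAlgHom (pol k r) (E2 k) (PowerSeries.X ^ (r + 1)) (by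
    rw [pol, Polynomial.eval₂_sub, Polynomial.eval₂_pow, Polynomial.eval₂_X, Polynomial.eval₂_C]
    change ((PowerSeries.X : PowerSeries k) ^ (r + 1)) ^ 2 - E2 k (PowerSeries.X ^ (r + 1)) = 0
    rw [map_pow, E2_X, ← pow_mul, ← pow_mul, mul_comm, sub_self])

/-- The parametrisation `A_r → k[[t]]`, `x ↦ t^2`, `y ↦ t^(r+1)`. -/
noncomputable def par : ArSing.ring k r →ₐ[k] PowerSeries k := (parS k r).comp (alpha k r)

theorem par_rep (a b : PowerSeries k) :
    par k r (ArSing.xMap k r a + ArSing.xMap k r b * ArSing.y k r) =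
      E2 k a + E2 k b * PowerSeries.X ^ (r + 1) := by
  rw [par, AlgHom.comp_apply, map_add, map_mul, alpha_xMap, alpha_xMap, alpha_y, map_add, map_mul,
    parS, AdjoinRoot.liftAlgHom_of, AdjoinRoot.liftAlgHom_of, AdjoinRoot.liftAlgHom_root]

theorem par_x : par k r (ArSing.x k r) = PowerSeries.X ^ 2 := by
  have h := par_rep k r PowerSeries.X 0
  simp only [map_zero, zero_mul, add_zero, xMap_X, E2_X] at h
  exact h

theorem par_y : par k r (ArSing.y k r) = PowerSeries.X ^ (r + 1) := by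
  have h := par_rep k r 0 1
  simp only [map_zero, zero_add, map_one, one_mul] at h
  exact h

theorem par_xMap (a : PowerSeries k) : par k r (ArSing.xMap k r a) = E2 k a := by
  have h := par_rep k r a 0
  simp only [map_zero, zero_mul, add_zero] at h
  exact h

theorem E2_mem_range (f : PowerSeries k) : E2 k f ∈ (par k r).range :=
  (AlgHom.mem_range _).mpr ⟨ArSing.xMap k r f, par_xMap k r f⟩

theorem par_injective (s : ℕ) : Function.Injective (par k (2 * s)) := by
  rw [injective_iff_map_eq_zero]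
  intro c hc
  obtain ⟨a, b, rfl⟩ := exists_rep_ring k (2 * s) c
  rw [par_rep] at hc
  have h : E2 k a + PowerSeries.X * E2 k (PowerSeries.X ^ s * b) = 0 := by
    rw [map_mul, map_pow, E2_X, ← hc]
    ring
  obtain ⟨ha, hb⟩ := evenodd_eq_zero k h
  have hb' : b = 0 := by
    rcases mul_eq_zero.mp hb with h1 | h1
    · exact absurd h1 (pow_ne_zero _ PowerSeries.X_ne_zero)
    · exact h1
  rw [ha, hb', map_zero, zero_mul, add_zero]

theorem coeff_par_odd (s : ℕ) (c : ArSing.ring k (2 * s)) (j : ℕ) (hj : ¬ 2 ∣ j)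
    (hlt : j < 2 * s + 1) : PowerSeries.coeff j (par k (2 * s) c) = 0 := by
  obtain ⟨a, b, rfl⟩ := exists_rep_ring k (2 * s) c
  rw [par_rep, map_add, coeff_E2, if_neg hj, zero_add, mul_comm, PowerSeries.coeff_X_pow_mul',
    if_neg (by omega)]

theorem mem_range_of_dvd (s : ℕ) (f : PowerSeries k) (hf : PowerSeries.X ^ (2 * s + 1) ∣ f) :
    f ∈ (par k (2 * s)).range := by
  obtain ⟨g, rfl⟩ := hf
  obtain ⟨g₀, g₁, rfl⟩ := exists_evenodd k g
  refine (AlgHom.mem_range _).mpr ⟨ArSing.xMap k (2 * s) (PowerSeries.X ^ (s + 1) * g₁) +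
    ArSing.xMap k (2 * s) g₀ * ArSing.y k (2 * s), ?_⟩
  rw [par_rep, map_mul, map_pow, E2_X]
  ring

end par

section root

variable (k : Type u) [Field k]

theorem exists_root (s : ℕ) (A B : PowerSeries k) (hA : A ≠ 0) (hAB : B ^ 2 = A ^ (2 * s + 1)) :
    ∃ u : PowerSeries k, u ^ 2 = A ∧ u ^ (2 * s + 1) = B := by
  have hd : (A ^ s) ^ 2 ∣ B ^ 2 := ⟨A, by rw [hAB]; ring⟩
  rw [IsIntegrallyClosed.pow_dvd_pow_iff two_ne_zero] at hd
  obtain ⟨u, hu⟩ := hd
  have h1 : u ^ 2 = A := by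
    have h3 : A ^ (2 * s) * u ^ 2 = A ^ (2 * s) * A := by
      calc A ^ (2 * s) * u ^ 2 = (A ^ s * u) ^ 2 := by ring
        _ = B ^ 2 := by rw [hu]
        _ = A ^ (2 * s) * A := by rw [hAB]; ring
    exact mul_left_cancel₀ (pow_ne_zero _ hA) h3
  refine ⟨u, h1, ?_⟩
  calc u ^ (2 * s + 1) = (u ^ 2) ^ s * u := by ring
    _ = A ^ s * u := by rw [h1]
    _ = B := hu.symm

end root

section ext

variable (k : Type u) [Field k] (s : ℕ) (h2 : (2 : k) ≠ 0)
  (σ : ArSing.ring k (2 * s) ≃ₐ[k] ArSing.ring k (2 * s)) (hσ : ∀ a, σ (σ a) = a)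

theorem par_x_ne_zero : par k (2 * s) (ArSing.x k (2 * s)) ≠ 0 := by
  rw [par_x]
  exact pow_ne_zero 2 PowerSeries.X_ne_zero

theorem par_sigma_x_ne_zero : par k (2 * s) (σ (ArSing.x k (2 * s))) ≠ 0 := by
  intro h
  have h0 : σ (ArSing.x k (2 * s)) = 0 := par_injective k s (by rw [h, map_zero])
  have h1 : ArSing.x k (2 * s) = 0 := σ.injective (h0.trans (map_zero σ).symm)
  apply par_x_ne_zero k s
  rw [h1, map_zero]

theorem cc_par_sigma_x :
    PowerSeries.constantCoeff (par k (2 * s) (σ (ArSing.x k (2 * s)))) = 0 := by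
  have h1 : ((par k (2 * s)).comp (σ : ArSing.ring k (2 * s) →ₐ[k] ArSing.ring k (2 * s)))
      (ArSing.x k (2 * s)) ∈ maximalIdeal (PowerSeries k) :=
    algHom_mem_maximalIdeal_ps k (2 * s) _ (x_mem k (2 * s))
  rw [ps_mem_maximalIdeal] at h1
  exact h1

include h2 hσ in
theorem exists_extension : ∃ θ : PowerSeries k →ₐ[k] PowerSeries k,
    (∀ a, θ (par k (2 * s) a) = par k (2 * s) (σ a)) ∧ ∀ f, θ (θ f) = f := by
  have hAB : (par k (2 * s) (σ (ArSing.y k (2 * s)))) ^ 2 =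
      (par k (2 * s) (σ (ArSing.x k (2 * s)))) ^ (2 * s + 1) := by
    have h := congrArg (fun z => par k (2 * s) (σ z)) (y_sq k (2 * s))
    simpa only [map_pow] using h
  obtain ⟨u, hu2, hu⟩ := exists_root k s _ _ (par_sigma_x_ne_zero k s σ) hAB
  have hu0 : PowerSeries.constantCoeff u = 0 := by
    have h3 : PowerSeries.constantCoeff u ^ 2 = 0 := by
      rw [← map_pow, hu2]
      exact cc_par_sigma_x k s σ
    exact pow_eq_zero_iff two_ne_zero |>.mp h3
  have hc := isAdicComplete_ps k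
  obtain ⟨θ, hθ⟩ := Groth.Agent.Lib.Helper19.exists_algHom_X_eq_of_isAdicComplete (Λ := k)
    (σ := Unit) (E := PowerSeries k) (maximalIdeal (PowerSeries k)) (fun _ => u)
    (fun _ => (ps_mem_maximalIdeal k).mpr hu0)
  have hθX : θ (PowerSeries.X : PowerSeries k) = u := hθ ()
  have hcomm : (AlgHom.comp θ (par k (2 * s)) : ArSing.ring k (2 * s) →ₐ[k] PowerSeries k) =
      (par k (2 * s)).comp (σ : ArSing.ring k (2 * s) →ₐ[k] ArSing.ring k (2 * s)) := by
    apply ring_algHom_ext_ps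
    · rw [AlgHom.comp_apply, AlgHom.comp_apply, par_x, map_pow, hθX, hu2]
      rfl
    · rw [AlgHom.comp_apply, AlgHom.comp_apply, par_y, map_pow, hθX, hu]
      rfl
  have hθP : ∀ a, θ (par k (2 * s) a) = par k (2 * s) (σ a) := fun a =>
    DFunLike.congr_fun hcomm a
  have hθθP : ∀ a, θ (θ (par k (2 * s) a)) = par k (2 * s) a := by
    intro a
    rw [hθP a, hθP (σ a), hσ]
  have hw2 : (θ (θ PowerSeries.X)) ^ 2 = (PowerSeries.X : PowerSeries k) ^ 2 := by
    have h := hθθP (ArSing.x k (2 * s))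
    rwa [par_x, map_pow, map_pow] at h
  have hwr : (θ (θ PowerSeries.X)) ^ (2 * s + 1) = (PowerSeries.X : PowerSeries k) ^ (2 * s + 1) := by
    have h := hθθP (ArSing.y k (2 * s))
    rwa [par_y, map_pow, map_pow] at h
  have hw : θ (θ PowerSeries.X) = (PowerSeries.X : PowerSeries k) := by
    have h3 : (θ (θ PowerSeries.X) - PowerSeries.X) * (θ (θ PowerSeries.X) + PowerSeries.X) =
        (0 : PowerSeries k) := by
      linear_combination hw2
    rcases mul_eq_zero.mp h3 with h | h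
    · exact sub_eq_zero.mp h
    · exfalso
      have hwn : θ (θ PowerSeries.X) = -(PowerSeries.X : PowerSeries k) :=
        eq_neg_of_add_eq_zero_left h
      rw [hwn, Odd.neg_pow ⟨s, rfl⟩] at hwr
      have h4 : 2 * ((PowerSeries.X : PowerSeries k) ^ (2 * s + 1)) = 0 := by
        linear_combination -hwr
      exact pow_ne_zero _ PowerSeries.X_ne_zero (two_ne_zero_ps k h2 h4)
  refine ⟨θ, hθP, fun f => ?_⟩
  have h5 : (AlgHom.comp θ θ : PowerSeries k →ₐ[k] PowerSeries k) = AlgHom.id k _ :=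
    ps_algHom_ext k _ _ hw
  exact DFunLike.congr_fun h5 f

end ext

section unif

variable (k : Type u) [Field k] (s : ℕ) (h2 : (2 : k) ≠ 0)
  (σ : ArSing.ring k (2 * s) ≃ₐ[k] ArSing.ring k (2 * s)) (hσ : ∀ a, σ (σ a) = a)
  (θ : PowerSeries k →ₐ[k] PowerSeries k)
  (hθP : ∀ a, θ (par k (2 * s) a) = par k (2 * s) (σ a)) (hθθ : ∀ f, θ (θ f) = f)

include hθθ in
theorem exists_q : ∃ q : PowerSeries k, θ PowerSeries.X = PowerSeries.X * q ∧
    PowerSeries.constantCoeff q * PowerSeries.constantCoeff q = 1 := by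
  have hp0 := cc_X_algHom k θ
  obtain ⟨q, hq⟩ : (PowerSeries.X : PowerSeries k) ∣ θ PowerSeries.X := by
    rw [PowerSeries.X_dvd_iff]
    exact hp0
  have hqq : q * θ q = 1 := by
    have h1 : θ (θ PowerSeries.X) = PowerSeries.X := hθθ _
    rw [hq, map_mul, hq] at h1
    have h3 : (PowerSeries.X : PowerSeries k) * (q * θ q) = PowerSeries.X * 1 := by
      rw [mul_one, ← mul_assoc]
      exact h1
    exact mul_left_cancel₀ PowerSeries.X_ne_zero h3
  refine ⟨q, hq, ?_⟩
  have := congrArg PowerSeries.constantCoeff hqq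
  rw [map_mul, cc_algHom, map_one] at this
  exact this

include hθP in
theorem theta_X_ne (hne : σ ≠ AlgEquiv.refl) : θ PowerSeries.X ≠ PowerSeries.X := by
  intro h
  apply hne
  have h5 : θ = AlgHom.id k _ := ps_algHom_ext k _ _ h
  ext a
  apply par_injective k s
  rw [← hθP, h5]
  rfl

include h2 hσ hθP hθθ in
theorem exists_uniformizer [IsAlgClosed k] (hne : σ ≠ AlgEquiv.refl) :
    ∃ (v q : PowerSeries k) (X₀ : ArSing.ring k (2 * s)), IsUnit v ∧
      (PowerSeries.X * v) ^ 2 = par k (2 * s) X₀ ∧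
      θ (PowerSeries.X * v) = -(PowerSeries.X * v) ∧
      θ PowerSeries.X = PowerSeries.X * q ∧ PowerSeries.constantCoeff q = -1 := by
  obtain ⟨q, hq, hqq⟩ := exists_q k θ hθθ
  obtain ⟨X₀, hX₀⟩ : ∃ X₀ : ArSing.ring k (2 * s),
      X₀ = (2⁻¹ : k) • (ArSing.x k (2 * s) + σ (ArSing.x k (2 * s))) := ⟨_, rfl⟩
  have hσX₀ : σ X₀ = X₀ := by
    rw [hX₀, map_smul, map_add, hσ, add_comm]
  obtain ⟨w, hw⟩ : ∃ w : PowerSeries k, w = (2⁻¹ : k) • (1 + q ^ 2) := ⟨_, rfl⟩
  have hP₀ : par k (2 * s) X₀ = PowerSeries.X ^ 2 * w := by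
    rw [hX₀, map_smul, map_add, ← hθP, par_x, map_pow, hq, hw, Algebra.mul_smul_comm]
    congr 1
    ring
  have hw0 : PowerSeries.constantCoeff w = 1 := by
    rw [hw, cc_smul, map_add, map_one, map_pow, sq, hqq, one_add_one_eq_two, inv_mul_cancel₀ h2]
  obtain ⟨v, hv2, hvu⟩ := Groth.Agent.Lib.R2H7.DoublePtNF.exists_sqrt k h2 w
    (by rw [hw0]; exact one_ne_zero)
  have hv0 : PowerSeries.constantCoeff v ≠ 0 :=
    isUnit_iff_ne_zero.mp (PowerSeries.isUnit_iff_constantCoeff.mp hvu)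
  have hτ2 : (PowerSeries.X * v) ^ 2 = par k (2 * s) X₀ := by rw [hP₀, mul_pow, hv2]
  have hθτ2 : (θ (PowerSeries.X * v)) ^ 2 = (PowerSeries.X * v) ^ 2 := by
    rw [← map_pow, hτ2, hθP, hσX₀]
  have hcases : θ (PowerSeries.X * v) = PowerSeries.X * v ∨
      θ (PowerSeries.X * v) = -(PowerSeries.X * v) := by
    have h3 : (θ (PowerSeries.X * v) - PowerSeries.X * v) *
        (θ (PowerSeries.X * v) + PowerSeries.X * v) = 0 := by linear_combination hθτ2
    rcases mul_eq_zero.mp h3 with h | h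
    · left; exact sub_eq_zero.mp h
    · right; exact eq_neg_of_add_eq_zero_left h
  have hτ0 : PowerSeries.constantCoeff (PowerSeries.X * v) = 0 := by
    rw [map_mul, PowerSeries.constantCoeff_X, zero_mul]
  have hτ1 : PowerSeries.coeff 1 (PowerSeries.X * v) ≠ 0 := by
    have h := PowerSeries.coeff_succ_X_mul (R := k) 0 v
    rw [zero_add] at h
    rw [h, PowerSeries.coeff_zero_eq_constantCoeff_apply]
    exact hv0
  have hanti : θ (PowerSeries.X * v) = -(PowerSeries.X * v) := by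
    rcases hcases with h | h
    · exfalso
      obtain ⟨χ, hχ⟩ := exists_algEquiv_X k (PowerSeries.X * v) hτ0 hτ1
      have h6 : (θ.comp (χ : PowerSeries k →ₐ[k] PowerSeries k)) =
          (χ : PowerSeries k →ₐ[k] PowerSeries k) := ps_algHom_ext k _ _ (by
        rw [AlgHom.comp_apply]
        change θ (χ PowerSeries.X) = χ PowerSeries.X
        rw [hχ, h])
      apply theta_X_ne k s σ θ hθP hne
      have h7 := DFunLike.congr_fun h6 (χ.symm PowerSeries.X)
      rw [AlgHom.comp_apply] at h7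
      change θ (χ (χ.symm PowerSeries.X)) = χ (χ.symm PowerSeries.X) at h7
      rwa [AlgEquiv.apply_symm_apply] at h7
    · exact h
  refine ⟨v, q, X₀, hvu, hτ2, hanti, hq, ?_⟩
  have h8 : (PowerSeries.X : PowerSeries k) * (q * θ v) = PowerSeries.X * (-v) := by
    rw [← mul_assoc, ← hq, ← map_mul, hanti]
    ring
  have h9 := mul_left_cancel₀ PowerSeries.X_ne_zero h8
  have h10 := congrArg PowerSeries.constantCoeff h9
  rw [map_mul, cc_algHom, map_neg] at h10
  have h11 : (PowerSeries.constantCoeff q + 1) * PowerSeries.constantCoeff v = 0 := by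
    linear_combination h10
  rcases mul_eq_zero.mp h11 with h | h
  · exact eq_neg_of_add_eq_zero_left h
  · exact absurd h hv0

end unif

section stab

variable (k : Type u) [Field k] (s : ℕ) (h2 : (2 : k) ≠ 0)
  (σ : ArSing.ring k (2 * s) ≃ₐ[k] ArSing.ring k (2 * s)) (hσ : ∀ a, σ (σ a) = a)
  (θ : PowerSeries k →ₐ[k] PowerSeries k)
  (hθP : ∀ a, θ (par k (2 * s) a) = par k (2 * s) (σ a))
  (v q : PowerSeries k) (X₀ : ArSing.ring k (2 * s))
  (hτ2 : (PowerSeries.X * v) ^ 2 = par k (2 * s) X₀)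
  (hanti : θ (PowerSeries.X * v) = -(PowerSeries.X * v))
  (hq : θ PowerSeries.X = PowerSeries.X * q) (hq0 : PowerSeries.constantCoeff q = -1)
  (χ : PowerSeries k ≃ₐ[k] PowerSeries k) (hχ : χ PowerSeries.X = PowerSeries.X * v)

include hanti hχ in
theorem theta_chi (f : PowerSeries k) : θ (χ f) = χ (PowerSeries.rescale (-1 : k) f) := by
  have h : (θ.comp (χ : PowerSeries k →ₐ[k] PowerSeries k)) =
      (χ : PowerSeries k →ₐ[k] PowerSeries k).comp (PowerSeries.rescaleAlgHom (-1 : k)) :=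
    ps_algHom_ext k _ _ (by
      rw [AlgHom.comp_apply, AlgHom.comp_apply, rescaleAlgHom_apply',
        PowerSeries.rescale_neg_one_X, map_neg]
      change θ (χ PowerSeries.X) = -(χ PowerSeries.X)
      rw [hχ, hanti])
  have h3 := DFunLike.congr_fun h f
  rw [AlgHom.comp_apply, AlgHom.comp_apply, rescaleAlgHom_apply'] at h3
  exact h3

include hanti hχ in
theorem chi_symm_theta (g : PowerSeries k) :
    χ.symm (θ g) = PowerSeries.rescale (-1 : k) (χ.symm g) := by
  have h := theta_chi k θ v hanti χ hχ (χ.symm g)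
  rw [AlgEquiv.apply_symm_apply] at h
  rw [h, AlgEquiv.symm_apply_apply]

include hτ2 hχ in
theorem chi_E2_poly_mem (p : Polynomial k) :
    χ (E2 k (p : PowerSeries k)) ∈ (par k (2 * s)).range := by
  have hC : ∀ a : k, χ (E2 k (PowerSeries.C a)) ∈ (par k (2 * s)).range := by
    intro a
    have h : (PowerSeries.C a : PowerSeries k) = algebraMap k (PowerSeries k) a := by
      rw [PowerSeries.algebraMap_apply, Algebra.algebraMap_self, RingHom.id_apply]
    rw [h, AlgHom.commutes, AlgEquiv.commutes]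
    exact Subalgebra.algebraMap_mem _ a
  have hX : χ (E2 k PowerSeries.X) ∈ (par k (2 * s)).range := by
    rw [E2_X, map_pow, hχ, hτ2]
    exact (AlgHom.mem_range _).mpr ⟨X₀, rfl⟩
  refine Polynomial.induction_on p ?_ ?_ ?_
  · intro a
    rw [Polynomial.coe_C]
    exact hC a
  · intro p₁ p₂ h₁ h₂
    rw [Polynomial.coe_add, map_add, map_add]
    exact Subalgebra.add_mem _ h₁ h₂
  · intro n a _
    rw [Polynomial.coe_mul, Polynomial.coe_C, Polynomial.coe_pow, Polynomial.coe_X, map_mul,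
      map_pow, map_mul, map_pow]
    exact Subalgebra.mul_mem _ (hC a) (Subalgebra.pow_mem _ hX _)

include hτ2 hχ in
theorem chi_E2_mem (f : PowerSeries k) : χ (E2 k f) ∈ (par k (2 * s)).range := by
  obtain ⟨p, f', hf⟩ : ∃ (p : Polynomial k) (f' : PowerSeries k),
      f = PowerSeries.X ^ (2 * s + 1) * f' + (p : PowerSeries k) :=
    ⟨_, _, PowerSeries.eq_X_pow_mul_shift_add_trunc (2 * s + 1) f⟩
  rw [hf, map_add, map_add]
  apply Subalgebra.add_mem
  · apply mem_range_of_dvd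
    rw [map_mul, map_pow, E2_X, map_mul, map_pow, map_pow, hχ]
    exact ⟨PowerSeries.X ^ (2 * s + 1) * (v ^ 2) ^ (2 * s + 1) * χ (E2 k f'), by ring⟩
  · exact chi_E2_poly_mem k s v X₀ hτ2 χ hχ p

include hτ2 hχ in
theorem chi_par_mem (a : ArSing.ring k (2 * s)) :
    χ (par k (2 * s) a) ∈ (par k (2 * s)).range := by
  obtain ⟨f, g, rfl⟩ := exists_rep_ring k (2 * s) a
  rw [par_rep, map_add, map_mul, map_pow, hχ]
  apply Subalgebra.add_mem
  · exact chi_E2_mem k s v X₀ hτ2 χ hχ f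
  · apply mem_range_of_dvd
    exact ⟨χ (E2 k g) * v ^ (2 * s + 1), by ring⟩

include h2 hq hq0 in
theorem anti_dvd (g : PowerSeries k) (hg : g ∈ (par k (2 * s)).range) (hθg : θ g = -g) :
    PowerSeries.X ^ (2 * s + 1) ∣ g := by
  by_cases hg0 : g = 0
  · rw [hg0]
    exact dvd_zero _
  obtain ⟨m, hm⟩ : ∃ m : ℕ, m = g.order.toNat := ⟨_, rfl⟩
  obtain ⟨w, hw⟩ : ∃ w : PowerSeries k, w = PowerSeries.divXPowOrder g := ⟨_, rfl⟩
  have hgw : g = PowerSeries.X ^ m * w := by
    rw [hm, hw]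
    exact PowerSeries.X_pow_order_mul_divXPowOrder.symm
  have hcm : PowerSeries.coeff m g ≠ 0 := by
    rw [hm]
    exact PowerSeries.coeff_order hg0
  have hw0 : PowerSeries.constantCoeff w = PowerSeries.coeff m g := by
    rw [hw, hm, PowerSeries.constantCoeff_divXPowOrder]
  have h3 : (PowerSeries.X : PowerSeries k) ^ m * (q ^ m * θ w) = PowerSeries.X ^ m * (-w) := by
    have h := hθg
    rw [hgw, map_mul, map_pow, hq] at h
    linear_combination h
  have h4 := mul_left_cancel₀ (pow_ne_zero m PowerSeries.X_ne_zero) h3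
  have h5 := congrArg PowerSeries.constantCoeff h4
  rw [map_mul, map_pow, cc_algHom, hq0, map_neg] at h5
  have hodd : ¬ 2 ∣ m := by
    intro hdiv
    have he : Even m := even_iff_two_dvd.mpr hdiv
    rw [he.neg_one_pow, one_mul] at h5
    have h6 : (2 : k) * PowerSeries.constantCoeff w = 0 := by linear_combination h5
    rcases mul_eq_zero.mp h6 with h | h
    · exact h2 h
    · exact hcm (hw0 ▸ h)
  have hle : 2 * s + 1 ≤ m := by
    by_contra hlt
    rw [not_le] at hlt
    obtain ⟨a, rfl⟩ := (AlgHom.mem_range _).mp hg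
    exact hcm (coeff_par_odd k s a m hodd hlt)
  rw [hgw]
  exact Dvd.dvd.mul_right (pow_dvd_pow _ hle) _

include h2 hσ hθP hanti hq hq0 hχ in
theorem chi_symm_par_mem (a : ArSing.ring k (2 * s)) :
    χ.symm (par k (2 * s) a) ∈ (par k (2 * s)).range := by
  have hb : θ (par k (2 * s) (a - σ a)) = -(par k (2 * s) (a - σ a)) := by
    rw [hθP, map_sub, hσ, map_sub, map_sub]
    ring
  have hd : PowerSeries.X ^ (2 * s + 1) ∣ par k (2 * s) (a - σ a) :=
    anti_dvd k s h2 θ q hq hq0 _ ((AlgHom.mem_range _).mpr ⟨_, rfl⟩) hb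
  obtain ⟨c, hc⟩ : (PowerSeries.X : PowerSeries k) ∣ χ.symm PowerSeries.X := by
    rw [PowerSeries.X_dvd_iff]
    exact cc_X_algHom k (χ.symm : PowerSeries k →ₐ[k] PowerSeries k)
  have hd2 : PowerSeries.X ^ (2 * s + 1) ∣ χ.symm (par k (2 * s) (a - σ a)) := by
    obtain ⟨e, he⟩ := hd
    rw [he, map_mul, map_pow, hc, mul_pow, mul_assoc]
    exact Dvd.intro _ rfl
  obtain ⟨h₀, h₁, hh⟩ := exists_evenodd k (χ.symm (par k (2 * s) a))
  have hres : PowerSeries.rescale (-1 : k) (χ.symm (par k (2 * s) a)) =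
      E2 k h₀ - PowerSeries.X * E2 k h₁ := by
    rw [hh, map_add, map_mul, rescale_neg_one_E2, rescale_neg_one_E2,
      PowerSeries.rescale_neg_one_X]
    ring
  have hdiff : χ.symm (par k (2 * s) (a - σ a)) = (2 : k) • (PowerSeries.X * E2 k h₁) := by
    rw [map_sub, ← hθP, map_sub, chi_symm_theta k θ v hanti χ hχ, hres, hh, two_smul]
    ring
  have hd3 : PowerSeries.X ^ (2 * s + 1) ∣ PowerSeries.X * E2 k h₁ := by
    rw [hdiff] at hd2
    obtain ⟨e, he⟩ := hd2
    refine ⟨(2⁻¹ : k) • e, ?_⟩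
    rw [Algebra.mul_smul_comm, ← he, smul_smul, inv_mul_cancel₀ h2, one_smul]
  rw [hh]
  exact Subalgebra.add_mem _ (E2_mem_range k _ h₀) (mem_range_of_dvd k s _ hd3)

end stab

section lift

variable (k : Type u) [Field k] (s : ℕ)
  (Q : ArSing.ring k (2 * s) →ₐ[k] PowerSeries k) (hQ : ∀ a, Q a ∈ (par k (2 * s)).range)

/-- The element of `A_{2s}` with prescribed parametrisation. -/
noncomputable def liftFun (a : ArSing.ring k (2 * s)) : ArSing.ring k (2 * s) :=
  Classical.choose ((AlgHom.mem_range _).mp (hQ a))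

theorem par_liftFun (a : ArSing.ring k (2 * s)) : par k (2 * s) (liftFun k s Q hQ a) = Q a :=
  Classical.choose_spec ((AlgHom.mem_range _).mp (hQ a))

/-- The endomorphism of `A_{2s}` with prescribed composite with the parametrisation. -/
noncomputable def liftHom : ArSing.ring k (2 * s) →ₐ[k] ArSing.ring k (2 * s) where
  toFun := liftFun k s Q hQ
  map_one' := par_injective k s (by simp only [par_liftFun, map_one])
  map_mul' a b := par_injective k s (by simp only [par_liftFun, map_mul])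
  map_zero' := par_injective k s (by simp only [par_liftFun, map_zero])
  map_add' a b := par_injective k s (by simp only [par_liftFun, map_add])
  commutes' c := par_injective k s (by simp only [par_liftFun, AlgHom.commutes])

theorem par_liftHom (a : ArSing.ring k (2 * s)) : par k (2 * s) (liftHom k s Q hQ a) = Q a :=
  par_liftFun k s Q hQ a

end lift

section main

variable (k : Type u) [Field k] [IsAlgClosed k] (s : ℕ) (h2 : (2 : k) ≠ 0)
  (σ : ArSing.ring k (2 * s) ≃ₐ[k] ArSing.ring k (2 * s)) (hσ : ∀ a, σ (σ a) = a)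

include h2 hσ in
theorem main (hne : σ ≠ AlgEquiv.refl) :
    ∃ φ : ArSing.ring k (2 * s) ≃ₐ[k] ArSing.ring k (2 * s),
      φ.symm (σ (φ (ArSing.x k (2 * s)))) = ArSing.x k (2 * s) ∧
      φ.symm (σ (φ (ArSing.y k (2 * s)))) = -ArSing.y k (2 * s) := by
  obtain ⟨θ, hθP, hθθ⟩ := exists_extension k s h2 σ hσ
  obtain ⟨v, q, X₀, hvu, hτ2, hanti, hq, hq0⟩ := exists_uniformizer k s h2 σ hσ θ hθP hθθ hne
  have hv0 : PowerSeries.constantCoeff v ≠ 0 :=
    isUnit_iff_ne_zero.mp (PowerSeries.isUnit_iff_constantCoeff.mp hvu)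
  have hτ0 : PowerSeries.constantCoeff (PowerSeries.X * v) = 0 := by
    rw [map_mul, PowerSeries.constantCoeff_X, zero_mul]
  have hτ1 : PowerSeries.coeff 1 (PowerSeries.X * v) ≠ 0 := by
    have h := PowerSeries.coeff_succ_X_mul (R := k) 0 v
    rw [zero_add] at h
    rw [h, PowerSeries.coeff_zero_eq_constantCoeff_apply]
    exact hv0
  obtain ⟨χ, hχ⟩ := exists_algEquiv_X k (PowerSeries.X * v) hτ0 hτ1
  obtain ⟨φ₁, hφ₁⟩ : ∃ φ₁ : ArSing.ring k (2 * s) →ₐ[k] ArSing.ring k (2 * s),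
      ∀ a, par k (2 * s) (φ₁ a) = χ (par k (2 * s) a) :=
    ⟨liftHom k s ((χ : PowerSeries k →ₐ[k] PowerSeries k).comp (par k (2 * s)))
      (fun a => chi_par_mem k s v X₀ hτ2 χ hχ a), fun a => par_liftHom k s _ _ a⟩
  obtain ⟨φ₂, hφ₂⟩ : ∃ φ₂ : ArSing.ring k (2 * s) →ₐ[k] ArSing.ring k (2 * s),
      ∀ a, par k (2 * s) (φ₂ a) = χ.symm (par k (2 * s) a) :=
    ⟨liftHom k s ((χ.symm : PowerSeries k →ₐ[k] PowerSeries k).comp (par k (2 * s)))
      (fun a => chi_symm_par_mem k s h2 σ hσ θ hθP v q hanti hq hq0 χ hχ a),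
      fun a => par_liftHom k s _ _ a⟩
  have h12 : φ₁.comp φ₂ = AlgHom.id k _ := AlgHom.ext (fun a => by
    apply par_injective k s
    rw [AlgHom.comp_apply, hφ₁, hφ₂, AlgEquiv.apply_symm_apply]
    rfl)
  have h21 : φ₂.comp φ₁ = AlgHom.id k _ := AlgHom.ext (fun a => by
    apply par_injective k s
    rw [AlgHom.comp_apply, hφ₂, hφ₁, AlgEquiv.symm_apply_apply]
    rfl)
  refine ⟨AlgEquiv.ofAlgHom φ₁ φ₂ h12 h21, ?_, ?_⟩
  · apply par_injective k s
    change par k (2 * s) (φ₂ (σ (φ₁ (ArSing.x k (2 * s))))) = _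
    rw [hφ₂, ← hθP, hφ₁, theta_chi k θ v hanti χ hχ, AlgEquiv.symm_apply_apply, par_x, map_pow,
      PowerSeries.rescale_neg_one_X, neg_sq]
  · apply par_injective k s
    change par k (2 * s) (φ₂ (σ (φ₁ (ArSing.y k (2 * s))))) = _
    rw [hφ₂, ← hθP, hφ₁, theta_chi k θ v hanti χ hχ, AlgEquiv.symm_apply_apply, map_neg, par_y,
      map_pow, PowerSeries.rescale_neg_one_X, Odd.neg_pow ⟨s, rfl⟩]

end main

end Groth.Agent.Lib.R2H7.CuspInv
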