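import Mathlib
import Groth.Prelude.Def_DeRham

/-!
# Cartan calculus on the exterior algebra of a module of differentials (R2H7.DRCalc)

For `(R, B, M, δ)` with `δ(B)` spanning `M` and a family `d` satisfying the de Rham rule: the global
differential `Dg`, its Leibniz rules, contraction `con φ` with a linear form and the Lie derivative
`Lg = Dg ∘ con + con ∘ Dg`, together with an eigenvector independence lemma for additive
endomorphisms of torsion-free groups.  (Generalises `H9Poincare` PL3-PL4.)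
-/

set_option autoImplicit false
set_option linter.unusedSectionVars false
universe v u

namespace Groth.Agent.Lib.R2H7.DRCalc

open scoped Pointwise

section Eigen

/-- eigenvectors of an additive endomorphism for distinct natural eigenvalues are independent -/
theorem eigen_indep {N : Type*} [AddCommGroup N] (L : N →+ N)
    (htf : ∀ (n : ℤ) (m : N), n ≠ 0 → n • m = 0 → m = 0)
    (S : Finset ℕ) (w : ℕ → N) (hw : ∀ k ∈ S, L (w k) = k • w k)
    (hsum : ∑ k ∈ S, w k = 0) : ∀ k ∈ S, w k = 0 := by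
  classical
  induction S using Finset.induction_on generalizing w with
  | empty => intro k hk; simp at hk
  | insert a S' ha ih =>
    rw [Finset.sum_insert ha] at hsum
    have h3 : ∑ k ∈ S', w k = - w a := by
      rw [eq_neg_iff_add_eq_zero, add_comm]; exact hsum
    have hw' : ∀ k ∈ S', L (((k : ℤ) - (a : ℤ)) • w k) = k • (((k : ℤ) - (a : ℤ)) • w k) := by
      intro k hk
      rw [map_zsmul, hw k (Finset.mem_insert_of_mem hk), smul_comm]
    have hsum' : ∑ k ∈ S', ((k : ℤ) - (a : ℤ)) • w k = 0 := by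
      have h2 : ∑ k ∈ S', ((k : ℤ) - (a : ℤ)) • w k =
          L (∑ k ∈ S', w k) - (a : ℤ) • ∑ k ∈ S', w k := by
        rw [map_sum, Finset.smul_sum, ← Finset.sum_sub_distrib]
        apply Finset.sum_congr rfl
        intro k hk
        rw [hw k (Finset.mem_insert_of_mem hk), sub_smul, natCast_zsmul]
      rw [h2, h3, map_neg, hw a (Finset.mem_insert_self _ _), smul_neg, natCast_zsmul]
      abel
    have hS' : ∀ k ∈ S', w k = 0 := by
      intro k hk
      have h1 := ih (fun k => ((k : ℤ) - (a : ℤ)) • w k) hw' hsum' k hk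
      have hne : ((k : ℤ) - (a : ℤ)) ≠ 0 := by
        intro h0
        have : k = a := by omega
        exact ha (this ▸ hk)
      exact htf _ _ hne h1
    intro k hk
    rcases Finset.mem_insert.1 hk with rfl | hk'
    · rw [Finset.sum_eq_zero hS', add_zero] at hsum; exact hsum
    · exact hS' k hk'

end Eigen

section General

variable {R : Type v} {B M : Type u} [CommRing R] [CommRing B] [Algebra R B]
  [AddCommGroup M] [Module B M] [Module R M] [IsScalarTower R B M]

/-- wedge of differentials -/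
noncomputable def Wd (δ : Derivation R B M) (p : ℕ) (b : Fin p → B) : ExteriorAlgebra B M :=
  ExteriorAlgebra.ιMulti B p (fun j => δ (b j))

lemma Wd_zero (δ : Derivation R B M) (b : Fin 0 → B) : Wd δ 0 b = 1 := by
  rw [Wd, ExteriorAlgebra.ιMulti_zero_apply]

lemma Wd_succ (δ : Derivation R B M) (p : ℕ) (b : Fin (p + 1) → B) :
    Wd δ (p + 1) b = ExteriorAlgebra.ι B (δ (b 0)) * Wd δ p (fun j => b j.succ) := by
  rw [Wd, ExteriorAlgebra.ιMulti_succ_apply]
  rfl

lemma Wd_cons (δ : Derivation R B M) (p : ℕ) (g : B) (b : Fin p → B) :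
    Wd δ (p + 1) (Fin.cons g b) = ExteriorAlgebra.ι B (δ g) * Wd δ p b := by
  rw [Wd_succ]
  simp

lemma Wd_mem (δ : Derivation R B M) (p : ℕ) (b : Fin p → B) : Wd δ p b ∈ ⋀[B]^p M :=
  ExteriorAlgebra.ιMulti_range _ p ⟨_, rfl⟩

/-- additive predicates are determined on homogeneous elements -/
theorem ind_hom (P : ExteriorAlgebra B M → Prop)
    (h0 : P 0) (hadd : ∀ x y, P x → P y → P (x + y))
    (hhom : ∀ (p : ℕ) (x : ExteriorAlgebra B M), x ∈ ⋀[B]^p M → P x) : ∀ ω, P ω := by
  classical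
  intro ω
  rw [← DirectSum.sum_support_decompose (fun p : ℕ => ⋀[B]^p M) ω]
  apply Finset.sum_induction _ P hadd h0
  intro p _
  exact hhom p _ (DirectSum.decompose (fun p : ℕ => ⋀[B]^p M) ω p).2

/-- induction principle in fixed degree -/
theorem ind_deg (δ : Derivation R B M) (hspan : Submodule.span B (Set.range δ) = ⊤)
    (P : ExteriorAlgebra B M → Prop)
    (h0 : P 0) (hadd : ∀ x y, P x → P y → P (x + y)) (p : ℕ)
    (hgen : ∀ (b : Fin p → B) (f : B), P (f • Wd δ p b))
    (x : ExteriorAlgebra B M) (hmem : x ∈ ⋀[B]^p M) : P x := by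
  rw [← exteriorPower.ιMulti_span_fixedDegree_of_span_eq_top _ p _ hspan] at hmem
  have hmem' : x ∈ AddSubmonoid.closure ((Set.univ : Set B) •
      (ExteriorAlgebra.ιMulti B p '' {a | Set.range a ⊆ Set.range δ})) := by
    rw [← Submodule.span_eq_closure]
    exact hmem
  clear hmem
  induction hmem' using AddSubmonoid.closure_induction with
  | mem x hx =>
    obtain ⟨f, -, y, ⟨v, hv, rfl⟩, rfl⟩ := hx
    have : ∃ b : Fin p → B, v = fun j => δ (b j) := by
      have h1 : ∀ j, ∃ i, δ i = v j := fun j => hv ⟨j, rfl⟩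
      choose b hb using h1
      exact ⟨b, funext fun j => (hb j).symm⟩
    obtain ⟨b, rfl⟩ := this
    exact hgen b f
  | zero => exact h0
  | add x y _ _ hx hy => exact hadd x y hx hy

/-- induction principle: additive predicates are determined on `f • δb₁ ∧ … ∧ δb_p` -/
theorem ind (δ : Derivation R B M) (hspan : Submodule.span B (Set.range δ) = ⊤)
    (P : ExteriorAlgebra B M → Prop)
    (h0 : P 0) (hadd : ∀ x y, P x → P y → P (x + y))
    (hgen : ∀ (p : ℕ) (b : Fin p → B) (f : B), P (f • Wd δ p b)) : ∀ ω, P ω :=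
  ind_hom P h0 hadd (fun p x hx => ind_deg δ hspan P h0 hadd p (hgen p) x hx)

/-- glue degreewise additive maps -/
noncomputable def glob (T : ∀ p : ℕ, ↥(⋀[B]^p M) →+ ExteriorAlgebra B M) :
    ExteriorAlgebra B M →+ ExteriorAlgebra B M :=
  (DirectSum.toAddMonoid T).comp
    (DirectSum.decomposeAddEquiv (fun p : ℕ => ⋀[B]^p M)).toAddMonoidHom

lemma glob_of_mem (T : ∀ p : ℕ, ↥(⋀[B]^p M) →+ ExteriorAlgebra B M) (p : ℕ)
    (ω : ExteriorAlgebra B M) (h : ω ∈ ⋀[B]^p M) :
    glob T ω = T p ⟨ω, h⟩ := by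
  rw [glob, AddMonoidHom.comp_apply]
  change DirectSum.toAddMonoid T (DirectSum.decompose _ ω) = _
  rw [DirectSum.decompose_of_mem (fun p : ℕ => ⋀[B]^p M) h, DirectSum.toAddMonoid_of]

variable (δ : Derivation R B M)
  (d : ∀ p : ℕ, ↥(⋀[B]^p M) →ₗ[R] ↥(⋀[B]^(p + 1) M))

/-- the global differential -/
noncomputable def Dg : ExteriorAlgebra B M →+ ExteriorAlgebra B M :=
  glob (fun p => (Submodule.subtype _).toAddMonoidHom.comp (d p).toAddMonoidHom)

lemma Dg_of_mem (p : ℕ) (ω : ExteriorAlgebra B M) (h : ω ∈ ⋀[B]^p M) :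
    Dg d ω = (d p ⟨ω, h⟩ : ExteriorAlgebra B M) := by
  rw [Dg, glob_of_mem _ p ω h]
  rfl

lemma Dg_coe (p : ℕ) (x : ↥(⋀[B]^p M)) :
    Dg d (x : ExteriorAlgebra B M) = (d p x : ExteriorAlgebra B M) :=
  Dg_of_mem d p _ x.2

/-- the rule, globally -/
lemma Dg_gen (hrule : DeRham.IsRule δ d) (p : ℕ) (b : Fin p → B) (f : B) :
    Dg d (f • Wd δ p b) = ExteriorAlgebra.ι B (δ f) * Wd δ p b := by
  have hmem : f • Wd δ p b ∈ ⋀[B]^p M := Submodule.smul_mem _ _ (Wd_mem δ p b)
  rw [Dg_of_mem d p _ hmem]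
  have h1 : (⟨f • Wd δ p b, hmem⟩ : ↥(⋀[B]^p M)) = DeRham.gen δ p f b := by
    apply Subtype.ext
    rw [DeRham.gen, Submodule.coe_smul, exteriorPower.ιMulti_apply_coe]
    rfl
  rw [h1, hrule p f b, exteriorPower.ιMulti_apply_coe, ExteriorAlgebra.ιMulti_succ_apply]
  rfl

/-- Leibniz rule for functions -/
lemma Dg_smul (hspan : Submodule.span B (Set.range δ) = ⊤) (hrule : DeRham.IsRule δ d) (g : B)
    (ω : ExteriorAlgebra B M) :
    Dg d (g • ω) = ExteriorAlgebra.ι B (δ g) * ω + g • Dg d ω := by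
  revert ω
  apply ind δ hspan
  · simp
  · intro x y hx hy
    rw [smul_add, map_add, hx, hy, map_add, mul_add, smul_add]
    abel
  · intro p b f
    rw [smul_smul, Dg_gen δ d hrule, Dg_gen δ d hrule, Derivation.leibniz, map_add, map_smul,
      map_smul, add_mul, smul_mul_assoc, smul_mul_assoc, mul_smul_comm]
    abel

/-- graded Leibniz rule for exact one-forms -/
lemma Dg_ι_mul (hspan : Submodule.span B (Set.range δ) = ⊤) (hrule : DeRham.IsRule δ d) (g : B)
    (ω : ExteriorAlgebra B M) :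
    Dg d (ExteriorAlgebra.ι B (δ g) * ω) = -(ExteriorAlgebra.ι B (δ g) * Dg d ω) := by
  revert ω
  apply ind δ hspan
  · simp
  · intro x y hx hy
    rw [mul_add, map_add, hx, hy, map_add, mul_add, neg_add]
  · intro p b f
    rw [mul_smul_comm, ← Wd_cons, Dg_gen δ d hrule, Dg_gen δ d hrule, Wd_cons, ← mul_assoc,
      ← mul_assoc]
    have h := ExteriorAlgebra.ι_add_mul_swap (R := B) (δ f) (δ g)
    rw [eq_neg_of_add_eq_zero_left h, neg_mul]

lemma Dg_Dg (hd : DeRham.IsDiff δ d) (ω : ExteriorAlgebra B M) : Dg d (Dg d ω) = 0 := by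
  revert ω
  apply ind_hom
  · simp
  · intro x y hx hy
    rw [map_add, map_add, hx, hy, add_zero]
  · intro p x hx
    rw [Dg_of_mem d p x hx, Dg_coe d (p + 1)]
    have h := LinearMap.congr_fun (hd.2 p) ⟨x, hx⟩
    rw [LinearMap.comp_apply] at h
    rw [h]
    rfl

lemma Dg_algebraMap_smul (hspan : Submodule.span B (Set.range δ) = ⊤) (hrule : DeRham.IsRule δ d)
    (r : R) (ω : ExteriorAlgebra B M) :
    Dg d (algebraMap R B r • ω) = algebraMap R B r • Dg d ω := by
  rw [Dg_smul δ d hspan hrule, Derivation.map_algebraMap, map_zero, zero_mul, zero_add]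

variable (φ : Module.Dual B M)

/-- contraction with a linear form -/
noncomputable def con : ExteriorAlgebra B M →ₗ[B] ExteriorAlgebra B M :=
  CliffordAlgebra.contractLeft (Q := (0 : QuadraticForm B M)) φ

lemma con_ι_mul (m : M) (w : ExteriorAlgebra B M) :
    con φ (ExteriorAlgebra.ι B m * w) = φ m • w - ExteriorAlgebra.ι B m * con φ w :=
  CliffordAlgebra.contractLeft_ι_mul _ _ _

lemma con_one : con φ (1 : ExteriorAlgebra B M) = 0 :=
  CliffordAlgebra.contractLeft_one _ _

lemma ext_zero_eq : (⋀[B]^0 M : Submodule B (ExteriorAlgebra B M)) = 1 := pow_zero _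

lemma ext_succ_eq (p : ℕ) : (⋀[B]^(p + 1) M : Submodule B (ExteriorAlgebra B M)) =
    LinearMap.range (ExteriorAlgebra.ι B : M →ₗ[B] ExteriorAlgebra B M) * ⋀[B]^p M :=
  pow_succ' _ _

lemma con_deg_zero (w : ExteriorAlgebra B M) (hw : w ∈ ⋀[B]^0 M) : con φ w = 0 := by
  rw [ext_zero_eq] at hw
  obtain ⟨b, rfl⟩ := Submodule.mem_one.1 hw
  exact CliffordAlgebra.contractLeft_algebraMap _ _ _

lemma con_mem_succ (p : ℕ) : ∀ w ∈ ⋀[B]^(p + 1) M, con φ w ∈ ⋀[B]^p M := by
  induction p with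
  | zero =>
    intro w hw
    have hw' : w ∈ LinearMap.range (ExteriorAlgebra.ι B : M →ₗ[B] ExteriorAlgebra B M) := by
      have h1 : (⋀[B]^(0 + 1) M : Submodule B (ExteriorAlgebra B M)) =
          LinearMap.range (ExteriorAlgebra.ι B : M →ₗ[B] ExteriorAlgebra B M) := pow_one _
      rw [← h1]; exact hw
    obtain ⟨m, rfl⟩ := hw'
    have h1 : con φ (ExteriorAlgebra.ι B m) = algebraMap B _ (φ m) :=
      CliffordAlgebra.contractLeft_ι _ _ _
    rw [h1, ext_zero_eq]
    exact Submodule.algebraMap_mem _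
  | succ p ih =>
    intro w hw
    rw [ext_succ_eq] at hw
    refine Submodule.mul_induction_on hw ?_ ?_
    · rintro _ ⟨μ, rfl⟩ n hn
      have h2 : ExteriorAlgebra.ι B μ * con φ n ∈ ⋀[B]^(p + 1) M := by
        rw [ext_succ_eq]; exact Submodule.mul_mem_mul ⟨μ, rfl⟩ (ih n hn)
      rw [con_ι_mul]
      exact Submodule.sub_mem _ (Submodule.smul_mem _ _ hn) h2
    · intro x y hx hy
      rw [map_add]; exact Submodule.add_mem _ hx hy

/-- the Lie derivative along `φ` -/
noncomputable def Lg : ExteriorAlgebra B M →+ ExteriorAlgebra B M :=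
  (Dg d).comp (con φ).toAddMonoidHom + (con φ).toAddMonoidHom.comp (Dg d)

lemma Lg_apply (ω : ExteriorAlgebra B M) :
    Lg d φ ω = Dg d (con φ ω) + con φ (Dg d ω) := rfl

lemma Lg_ι_mul (hspan : Submodule.span B (Set.range δ) = ⊤) (hrule : DeRham.IsRule δ d) (g : B)
    (ω : ExteriorAlgebra B M) :
    Lg d φ (ExteriorAlgebra.ι B (δ g) * ω) =
      ExteriorAlgebra.ι B (δ (φ (δ g))) * ω + ExteriorAlgebra.ι B (δ g) * Lg d φ ω := by
  rw [Lg_apply, Lg_apply, con_ι_mul, map_sub, Dg_smul δ d hspan hrule,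
    Dg_ι_mul δ d hspan hrule, Dg_ι_mul δ d hspan hrule, map_neg, con_ι_mul, mul_add]
  abel

lemma Lg_smul (hspan : Submodule.span B (Set.range δ) = ⊤) (hrule : DeRham.IsRule δ d) (g : B)
    (ω : ExteriorAlgebra B M) :
    Lg d φ (g • ω) = φ (δ g) • ω + g • Lg d φ ω := by
  rw [Lg_apply, Lg_apply, map_smul, Dg_smul δ d hspan hrule, Dg_smul δ d hspan hrule, map_add,
    con_ι_mul, map_smul, smul_add]
  abel

lemma Lg_one (hrule : DeRham.IsRule δ d) : Lg d φ (1 : ExteriorAlgebra B M) = 0 := by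
  rw [Lg_apply, con_one, map_zero, zero_add]
  have h1 : (1 : ExteriorAlgebra B M) = (1 : B) • Wd δ 0 Fin.elim0 := by rw [Wd_zero, one_smul]
  rw [h1, Dg_gen δ d hrule, Derivation.map_one_eq_zero, map_zero, zero_mul, map_zero]

lemma Lg_Dg (hd : DeRham.IsDiff δ d) (ω : ExteriorAlgebra B M) :
    Lg d φ (Dg d ω) = Dg d (Lg d φ ω) := by
  rw [Lg_apply, Lg_apply, Dg_Dg δ d hd, map_zero, add_zero, map_add, Dg_Dg δ d hd, zero_add]

lemma Lg_of_closed (ω : ExteriorAlgebra B M) (h : Dg d ω = 0) :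
    Lg d φ ω = Dg d (con φ ω) := by
  rw [Lg_apply, h, map_zero, add_zero]

lemma Lg_weight_smul (hspan : Submodule.span B (Set.range δ) = ⊤) (hrule : DeRham.IsRule δ d)
    (g : B) (n k : ℕ) (ω : ExteriorAlgebra B M) (hg : φ (δ g) = (n : B) * g)
    (hω : Lg d φ ω = k • ω) : Lg d φ (g • ω) = (n + k) • (g • ω) := by
  rw [Lg_smul δ d φ hspan hrule, hg, hω, mul_smul, Nat.cast_smul_eq_nsmul, smul_comm g k,
    add_smul]

end General

end Groth.Agent.Lib.R2H7.DRCalc
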