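import Mathlib
import Groth.Prelude.Def_DeRham
import Groth.Agent.Lib.R2H7DRCalc

/-!
# Poincaré lemma for polynomial rings in characteristic zero (R2H7.DRMvPoly)

* `closed_components`: the `Lg`-eigencomponents of a closed form are closed.
* global graded derivations `D` of the exterior algebra (with `D ∘ D = 0`, agreeing with `δ` on
  functions) give a degreewise family `dfam` satisfying `DeRham.IsDiff`, with `Dg dfam = D`.
* `main`: exactness of the de Rham complex of `K[x_1..x_n]`, `K` a field of characteristic zero.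
-/

set_option autoImplicit false
set_option linter.unusedSectionVars false
universe v u

namespace Groth.Agent.Lib.R2H7.DRMvPoly

open Groth.Agent.Lib.R2H7.DRCalc DeRham

section General

variable {R : Type v} {B M : Type u} [CommRing R] [CommRing B] [Algebra R B]
  [AddCommGroup M] [Module B M] [Module R M] [IsScalarTower R B M]
  (δ : Derivation R B M) (d : ∀ p : ℕ, ↥(⋀[B]^p M) →ₗ[R] ↥(⋀[B]^(p + 1) M))
  (φ : Module.Dual B M)

/-- the eigencomponents of a closed form are closed -/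
theorem closed_components (hd : IsDiff δ d)
    (htf : ∀ (n : ℤ) (m : ExteriorAlgebra B M), n ≠ 0 → n • m = 0 → m = 0)
    (v : ℕ →₀ ExteriorAlgebra B M) (hv : ∀ k, Lg d φ (v k) = k • v k)
    (hsum : Dg d (v.sum fun _ e => e) = 0) : ∀ k, Dg d (v k) = 0 := by
  intro k
  by_cases hk : k ∈ v.support
  · refine eigen_indep (Lg d φ) htf v.support (fun k => Dg d (v k)) ?_ ?_ k hk
    · intro k _
      show Lg d φ (Dg d (v k)) = k • Dg d (v k)
      rw [Lg_Dg δ d φ hd, hv k, map_nsmul]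
    · show ∑ k ∈ v.support, Dg d (v k) = 0
      rw [← map_sum]
      exact hsum
  · rw [Finsupp.notMem_support_iff.1 hk, map_zero]

end General

section GlobalD

variable {R : Type v} {B M : Type u} [CommRing R] [CommRing B] [Algebra R B]
  [AddCommGroup M] [Module B M] [Module R M] [IsScalarTower R B M]
  (δ : Derivation R B M)
  (D : ExteriorAlgebra B M →ₗ[R] ExteriorAlgebra B M)
  (h0 : ∀ a : B, D (algebraMap B _ a) = ExteriorAlgebra.ι B (δ a))
  (hdeg : ∀ (p : ℕ) (ω : ExteriorAlgebra B M), ω ∈ ⋀[B]^p M → D ω ∈ ⋀[B]^(p + 1) M)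
  (hder : ∀ (p : ℕ) (ω η : ExteriorAlgebra B M), ω ∈ ⋀[B]^p M →
    D (ω * η) = D ω * η + (-1) ^ p * ω * D η)
  (hdd : ∀ ω, D (D ω) = 0)

include h0 hder in
lemma D_smul (g : B) (ω : ExteriorAlgebra B M) :
    D (g • ω) = ExteriorAlgebra.ι B (δ g) * ω + g • D ω := by
  have hmem : algebraMap B (ExteriorAlgebra B M) g ∈ ⋀[B]^0 M := by
    rw [ext_zero_eq]; exact Submodule.algebraMap_mem g
  rw [Algebra.smul_def, hder 0 _ _ hmem, h0, pow_zero, one_mul, ← Algebra.smul_def]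

include h0 in
lemma D_one : D (1 : ExteriorAlgebra B M) = 0 := by
  have h := h0 1
  rw [map_one, Derivation.map_one_eq_zero, map_zero] at h
  exact h

include h0 hdd in
lemma D_ι (g : B) : D (ExteriorAlgebra.ι B (δ g)) = 0 := by
  rw [← h0, hdd]

include h0 hder hdd in
lemma D_ι_mul (g : B) (ω : ExteriorAlgebra B M) :
    D (ExteriorAlgebra.ι B (δ g) * ω) = -(ExteriorAlgebra.ι B (δ g) * D ω) := by
  have hmem : ExteriorAlgebra.ι B (δ g) ∈ ⋀[B]^1 M := by
    have h1 : (⋀[B]^1 M : Submodule B (ExteriorAlgebra B M)) =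
        LinearMap.range (ExteriorAlgebra.ι B : M →ₗ[B] ExteriorAlgebra B M) := pow_one _
    rw [h1]; exact ⟨_, rfl⟩
  rw [hder 1 _ _ hmem, D_ι δ D h0 hdd, zero_mul, zero_add, pow_one, neg_one_mul, neg_mul]

include h0 hder hdd in
lemma D_Wd (p : ℕ) (b : Fin p → B) : D (Wd δ p b) = 0 := by
  induction p with
  | zero => rw [Wd_zero]; exact D_one δ D h0
  | succ p ih => rw [Wd_succ, D_ι_mul δ D h0 hder hdd, ih, mul_zero, neg_zero]

/-- the degreewise family of a global differential -/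
noncomputable def dfam (p : ℕ) : ↥(⋀[B]^p M) →ₗ[R] ↥(⋀[B]^(p + 1) M) where
  toFun x := ⟨D x, hdeg p x x.2⟩
  map_add' x y := Subtype.ext (by
    show D ((x + y : ↥(⋀[B]^p M)) : ExteriorAlgebra B M) = D x + D y
    rw [Submodule.coe_add, map_add])
  map_smul' c x := Subtype.ext (by
    show D ((c • x : ↥(⋀[B]^p M)) : ExteriorAlgebra B M) = c • D x
    rw [Submodule.coe_smul_of_tower, map_smul])

lemma dfam_coe (p : ℕ) (x : ↥(⋀[B]^p M)) :
    ((dfam D hdeg p x : ↥(⋀[B]^(p + 1) M)) : ExteriorAlgebra B M) = D x := rfl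

include h0 hder hdd in
lemma isRule_dfam : IsRule δ (dfam D hdeg) := by
  intro p b₀ b
  apply Subtype.ext
  rw [dfam_coe]
  have h1 : ((gen δ p b₀ b : ↥(⋀[B]^p M)) : ExteriorAlgebra B M) = b₀ • Wd δ p b := by
    rw [gen, Submodule.coe_smul, exteriorPower.ιMulti_apply_coe]
    rfl
  rw [h1, D_smul δ D h0 hder, D_Wd δ D h0 hder hdd, smul_zero, add_zero,
    exteriorPower.ιMulti_apply_coe, ExteriorAlgebra.ιMulti_succ_apply]
  rfl

include h0 hder hdd in
lemma isDiff_dfam : IsDiff δ (dfam D hdeg) := by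
  refine ⟨isRule_dfam δ D h0 hdeg hder hdd, fun p => ?_⟩
  ext x
  rw [LinearMap.comp_apply, LinearMap.zero_apply, dfam_coe, dfam_coe, hdd]
  rfl

lemma Dg_dfam_eq (ω : ExteriorAlgebra B M) : Dg (dfam D hdeg) ω = D ω := by
  revert ω
  apply ind_hom
  · rw [map_zero, map_zero]
  · intro x y hx hy
    rw [map_add, map_add, hx, hy]
  · intro p x hx
    rw [Dg_of_mem (dfam D hdeg) p x hx]
    rfl

end GlobalD

section MvPoly

open MvPolynomial

variable (K : Type u) [Field K] [CharZero K] (n : ℕ)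

local notation "BB" => MvPolynomial (Fin n) K
local notation "ΩΩ" => Ω[MvPolynomial (Fin n) K⁄K]
local notation "EE" => ExteriorAlgebra (MvPolynomial (Fin n) K) (Ω[MvPolynomial (Fin n) K⁄K])
local notation "δδ" => KaehlerDifferential.D K (MvPolynomial (Fin n) K)

lemma hspanB : Submodule.span BB (Set.range (δδ)) = ⊤ :=
  KaehlerDifferential.span_range_derivation K BB

/-- the Euler linear form -/
noncomputable def phiE : Module.Dual BB ΩΩ :=
  ∑ i : Fin n, (X i : BB) • ((Finsupp.lapply i).comp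
    (KaehlerDifferential.mvPolynomialBasis K (Fin n)).repr.toLinearMap)

lemma phiE_D (f : BB) : phiE K n (δδ f) = ∑ i : Fin n, X i * pderiv i f := by
  rw [phiE, LinearMap.sum_apply]
  apply Finset.sum_congr rfl
  intro i _
  rw [LinearMap.smul_apply, LinearMap.comp_apply, LinearEquiv.coe_coe, Finsupp.lapply_apply,
    KaehlerDifferential.mvPolynomialBasis_repr_apply, smul_eq_mul]

lemma phiE_D_hom (f : BB) (j : ℕ) (hf : f.IsHomogeneous j) : phiE K n (δδ f) = (j : BB) * f := by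
  rw [phiE_D, hf.sum_X_mul_pderiv, nsmul_eq_mul]

lemma phiE_D_X (i : Fin n) : phiE K n (δδ (X i)) = X i := by
  rw [phiE_D_hom K n _ 1 (isHomogeneous_X K i), Nat.cast_one, one_mul]

/-- coordinate wedges -/
noncomputable def W (p : ℕ) (a : Fin p → Fin n) : EE := Wd (δδ) p (fun j => X (a j))

lemma W_mem (p : ℕ) (a : Fin p → Fin n) : W K n p a ∈ ⋀[BB]^p ΩΩ := Wd_mem _ _ _

lemma span_dX : Submodule.span BB (Set.range (fun i : Fin n => δδ (X i))) = ⊤ := by
  have h := (KaehlerDifferential.mvPolynomialBasis K (Fin n)).span_eq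
  have h2 : (⇑(KaehlerDifferential.mvPolynomialBasis K (Fin n)) : Fin n → ΩΩ) =
      fun i : Fin n => δδ (X i) := by
    funext i
    exact KaehlerDifferential.mvPolynomialBasis_apply K (Fin n) i
  rw [h2] at h
  exact h

lemma ext_le_span (p : ℕ) :
    (⋀[BB]^p ΩΩ : Submodule BB EE) ≤ Submodule.span BB (Set.range (W K n p)) := by
  rw [← exteriorPower.ιMulti_span_fixedDegree_of_span_eq_top _ p _ (span_dX K n)]
  apply Submodule.span_mono
  rintro _ ⟨v, hv, rfl⟩
  have h1 : ∀ j, ∃ i, δδ (X i) = v j := fun j => hv ⟨j, rfl⟩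
  choose a ha using h1
  refine ⟨a, ?_⟩
  show ExteriorAlgebra.ιMulti BB p (fun j => δδ (X (a j))) = ExteriorAlgebra.ιMulti BB p v
  congr 1
  funext j
  exact ha j

variable (d : ∀ p : ℕ, ↥(⋀[MvPolynomial (Fin n) K]^p (Ω[MvPolynomial (Fin n) K⁄K])) →ₗ[K]
  ↥(⋀[MvPolynomial (Fin n) K]^(p + 1) (Ω[MvPolynomial (Fin n) K⁄K])))

lemma Lg_W (hrule : IsRule (δδ) d) (p : ℕ) (a : Fin p → Fin n) :
    Lg d (phiE K n) (W K n p a) = p • W K n p a := by
  induction p with
  | zero =>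
    rw [W, Wd_zero, zero_smul]
    exact Lg_one (δδ) d _ hrule
  | succ p ih =>
    have h1 : W K n (p + 1) a =
        ExteriorAlgebra.ι BB (δδ (X (a 0))) * W K n p (fun j => a j.succ) := Wd_succ _ p _
    rw [h1, Lg_ι_mul (δδ) d _ (hspanB K n) hrule, ih, phiE_D_X, mul_smul_comm, add_comm,
      succ_nsmul]

/-- weight `k` elements of degree `p` -/
structure IsW (p k : ℕ) (ω : EE) : Prop where
  mem : ω ∈ ⋀[BB]^p ΩΩ
  eig : Lg d (phiE K n) ω = k • ω
  low : k < p → ω = 0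
  cst : k = 0 → ∃ c : K, ω = algebraMap BB EE (C c)

lemma IsW_zero (p k : ℕ) : IsW K n d p k 0 :=
  ⟨Submodule.zero_mem _, by rw [map_zero, smul_zero], fun _ => rfl,
    fun _ => ⟨0, by rw [map_zero, map_zero]⟩⟩

lemma IsW_add {p k : ℕ} {x y : EE} (hx : IsW K n d p k x) (hy : IsW K n d p k y) :
    IsW K n d p k (x + y) := by
  refine ⟨Submodule.add_mem _ hx.mem hy.mem, by rw [map_add, hx.eig, hy.eig, smul_add], ?_, ?_⟩
  · intro hk; rw [hx.low hk, hy.low hk, add_zero]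
  · intro hk
    obtain ⟨c, hc⟩ := hx.cst hk
    obtain ⟨c', hc'⟩ := hy.cst hk
    exact ⟨c + c', by rw [hc, hc', map_add, map_add]⟩

/-- finite sums of weight elements -/
def Dec (p : ℕ) (ω : EE) : Prop :=
  ∃ v : ℕ →₀ EE, (∀ k, IsW K n d p k (v k)) ∧ v.sum (fun _ e => e) = ω

lemma Dec_zero (p : ℕ) : Dec K n d p 0 :=
  ⟨0, fun k => IsW_zero K n d p k, Finsupp.sum_zero_index⟩

lemma Dec_add {p : ℕ} {x y : EE} (hx : Dec K n d p x) (hy : Dec K n d p y) :
    Dec K n d p (x + y) := by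
  obtain ⟨v, hv, rfl⟩ := hx
  obtain ⟨v', hv', rfl⟩ := hy
  refine ⟨v + v', fun k => ?_, ?_⟩
  · rw [Finsupp.add_apply]; exact IsW_add K n d (hv k) (hv' k)
  · rw [Finsupp.sum_add_index' (fun _ => rfl) (fun _ _ _ => rfl)]

lemma Dec_of_IsW {p k : ℕ} {ω : EE} (h : IsW K n d p k ω) : Dec K n d p ω := by
  classical
  refine ⟨Finsupp.single k ω, fun k' => ?_, Finsupp.sum_single_index rfl⟩
  rw [Finsupp.single_apply]
  split_ifs with hk
  · subst hk; exact h
  · exact IsW_zero K n d p k'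

open scoped Pointwise in
lemma Dec_of_mem_span (p : ℕ) (S : Set EE) (hS : ∀ s ∈ S, ∀ f : BB, Dec K n d p (f • s))
    (x : EE) (hx : x ∈ Submodule.span BB S) : Dec K n d p x := by
  have hx' : x ∈ AddSubmonoid.closure ((Set.univ : Set BB) • S) := by
    rw [← Submodule.span_eq_closure]; exact hx
  clear hx
  induction hx' using AddSubmonoid.closure_induction with
  | mem x hx =>
    obtain ⟨f, -, s, hs, rfl⟩ := hx
    exact hS s hs f
  | zero => exact Dec_zero K n d p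
  | add x y _ _ hx hy => exact Dec_add K n d hx hy

lemma Dec_smul_W (hrule : IsRule (δδ) d) (p : ℕ) (a : Fin p → Fin n) (f : BB) :
    Dec K n d p (f • W K n p a) := by
  rw [← MvPolynomial.sum_homogeneousComponent f, Finset.sum_smul]
  refine Finset.sum_induction _ (Dec K n d p) (fun _ _ => Dec_add K n d) (Dec_zero K n d p) ?_
  intro j _
  apply Dec_of_IsW K n d (k := j + p)
  refine ⟨Submodule.smul_mem _ _ (W_mem K n p a), ?_, ?_, ?_⟩
  · exact Lg_weight_smul (δδ) d _ (hspanB K n) hrule _ j p _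
      (phiE_D_hom K n _ j (homogeneousComponent_isHomogeneous j f)) (Lg_W K n d hrule p a)
  · intro h; omega
  · intro h
    have hj : j = 0 := by omega
    have hp : p = 0 := by omega
    subst hj hp
    refine ⟨coeff 0 f, ?_⟩
    rw [homogeneousComponent_zero, W, Wd_zero, Algebra.algebraMap_eq_smul_one]

theorem dec_of_mem (hrule : IsRule (δδ) d) (p : ℕ) (ω : EE) (hω : ω ∈ ⋀[BB]^p ΩΩ) :
    Dec K n d p ω := by
  refine Dec_of_mem_span K n d p (Set.range (W K n p)) ?_ ω (ext_le_span K n p hω)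
  rintro _ ⟨a, rfl⟩ f
  exact Dec_smul_W K n d hrule p a f

lemma tfE (m : ℤ) (x : EE) (hm : m ≠ 0) (h : m • x = 0) : x = 0 := by
  rw [← Int.cast_smul_eq_zsmul K m x] at h
  exact (smul_eq_zero.1 h).resolve_left (Int.cast_ne_zero.2 hm)

theorem main
    (D : EE →ₗ[K] EE)
    (h0 : ∀ a : BB, D (algebraMap BB _ a) = ExteriorAlgebra.ι BB (δδ a))
    (hdeg : ∀ (p : ℕ) (ω : EE), ω ∈ ⋀[BB]^p ΩΩ → D ω ∈ ⋀[BB]^(p + 1) ΩΩ)
    (hder : ∀ (p : ℕ) (ω η : EE), ω ∈ ⋀[BB]^p ΩΩ → D (ω * η) = D ω * η + (-1) ^ p * ω * D η)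
    (hdd : ∀ ω, D (D ω) = 0) :
    (∀ a : BB, D (algebraMap BB _ a) = 0 → ∃ c : K, a = C c) ∧
    ∀ (p : ℕ) (ω : EE), ω ∈ ⋀[BB]^(p + 1) ΩΩ → D ω = 0 →
      ∃ θ ∈ ⋀[BB]^p ΩΩ, D θ = ω := by
  have hdiff := isDiff_dfam (δδ) D h0 hdeg hder hdd
  have hrule := hdiff.1
  have hDg := Dg_dfam_eq D hdeg
  -- common part
  have key : ∀ (p : ℕ) (ω : EE), ω ∈ ⋀[BB]^p ΩΩ → D ω = 0 →
      ∃ v : ℕ →₀ EE, (∀ k, IsW K n (dfam D hdeg) p k (v k)) ∧ v.sum (fun _ e => e) = ω ∧
        ∀ k, (k : ℕ) • v k = D (con (phiE K n) (v k)) := by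
    intro p ω hω hcl
    obtain ⟨v, hv, hsum⟩ := dec_of_mem K n (dfam D hdeg) hrule p ω hω
    have hDv := closed_components (δδ) (dfam D hdeg) (phiE K n) hdiff (tfE K n) v
      (fun k => (hv k).eig) (by rw [hsum, hDg, hcl])
    refine ⟨v, hv, hsum, fun k => ?_⟩
    rw [← (hv k).eig, Lg_of_closed (R := K) (dfam D hdeg) (phiE K n) (v k) (hDv k), hDg]
  constructor
  · intro a ha
    have hmem : algebraMap BB EE a ∈ ⋀[BB]^0 ΩΩ := by
      rw [ext_zero_eq]; exact Submodule.algebraMap_mem a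
    obtain ⟨v, hv, hsum, hkv⟩ := key 0 _ hmem ha
    have hvz : ∀ k, k ≠ 0 → v k = 0 := by
      intro k hk
      have h1 := hkv k
      rw [con_deg_zero _ _ (hv k).mem, map_zero] at h1
      exact tfE K n (k : ℤ) (v k) (Int.natCast_ne_zero.2 hk) (by rw [natCast_zsmul]; exact h1)
    have h2 : algebraMap BB EE a = v 0 := by
      rw [← hsum]
      show ∑ k ∈ v.support, v k = v 0
      apply Finset.sum_eq_single 0
      · intro k _ hk; exact hvz k hk
      · intro h; exact Finsupp.notMem_support_iff.1 h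
    obtain ⟨c, hc⟩ := (hv 0).cst rfl
    exact ⟨c, (ExteriorAlgebra.algebraMap_inj ΩΩ a (C c)).1 (h2.trans hc)⟩
  · intro p ω hω hcl
    obtain ⟨v, hv, hsum, hkv⟩ := key (p + 1) ω hω hcl
    refine ⟨∑ k ∈ v.support, ((k : K)⁻¹) • con (phiE K n) (v k), ?_, ?_⟩
    · exact Submodule.sum_mem _ (fun k _ => Submodule.smul_of_tower_mem _ _
        (con_mem_succ _ p _ (hv k).mem))
    · rw [map_sum, ← hsum]
      show _ = ∑ k ∈ v.support, v k
      apply Finset.sum_congr rfl
      intro k _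
      rw [map_smul, ← hkv k]
      by_cases hk : k = 0
      · subst hk
        rw [(hv 0).low (Nat.succ_pos p), smul_zero, smul_zero]
      · rw [← Nat.cast_smul_eq_nsmul K k (v k)]
        exact inv_smul_smul₀ (Nat.cast_ne_zero.2 hk) (v k)

end MvPoly

end Groth.Agent.Lib.R2H7.DRMvPoly
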