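import Mathlib
import Groth.Prelude.Def_DeRham
import Groth.Agent.Lib.R2H7DRCalc

/-!
# Weight decomposition of differential forms on `A[X]` (R2H7.DRPoly)

For `B = A[X]` over `R`: the Euler form `phi` (dual to `X ∂/∂X`), the horizontal wedges `V p a`
and `VX p a = dX ∧ V p a`, which span the exterior powers of `Ω[A[X]⁄R]`, and the resulting
decomposition of every `p`-form into eigenvectors of the Lie derivative with natural eigenvalues,
the weight-zero part lying in the image of the pull-back from `A`.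
-/

set_option autoImplicit false
set_option linter.unusedSectionVars false
universe u

namespace Groth.Agent.Lib.R2H7.DRPoly

open Polynomial DeRham
open scoped Pointwise
open Groth.Agent.Lib.R2H7.DRCalc

section Poly

variable (R A : Type u) [CommRing R] [CommRing A] [Algebra R A]

local notation "EB" => ExteriorAlgebra A[X] (Ω[A[X]⁄R])
local notation "δB" => KaehlerDifferential.D R A[X]

lemma algMap_eq (c : A) : algebraMap A A[X] c = C c := rfl

lemma hspanB : Submodule.span A[X] (Set.range (δB)) = ⊤ :=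
  KaehlerDifferential.span_range_derivation R A[X]

/-- the linear form on `Ω[A[X]⁄R]` dual to the vector field `X ∂/∂X` -/
noncomputable def phi : Module.Dual A[X] (Ω[A[X]⁄R]) :=
  (X : A[X]) • ((Polynomial.derivative' (R := A)).restrictScalars R).liftKaehlerDifferential

lemma phi_D (f : A[X]) : phi R A (δB f) = X * derivative f := by
  rw [phi, LinearMap.smul_apply, Derivation.liftKaehlerDifferential_comp_D]
  rfl

lemma phi_D_C (a : A) : phi R A (δB (C a)) = 0 := by
  rw [phi_D, derivative_C, mul_zero]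

lemma phi_D_X : phi R A (δB X) = X := by
  rw [phi_D, derivative_X, mul_one]

lemma phi_D_monomial (n : ℕ) (c : A) :
    phi R A (δB (monomial n c)) = (n : A[X]) * monomial n c := by
  rw [phi_D]
  rcases n with _ | m
  · simp
  · rw [derivative_monomial, ← C_mul_X_pow_eq_monomial, ← C_mul_X_pow_eq_monomial]
    simp only [Nat.add_sub_cancel, Nat.cast_add, Nat.cast_one, map_mul, map_add, map_natCast,
      map_one]
    ring

/-- horizontal wedge `d(a₁) ∧ … ∧ d(a_p)` with constant `aᵢ` -/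
noncomputable def V (p : ℕ) (a : Fin p → A) : EB :=
  Wd (δB) p (fun j => C (a j))

/-- `dX ∧ V p a` -/
noncomputable def VX (p : ℕ) (a : Fin p → A) : EB :=
  ExteriorAlgebra.ι A[X] (δB X) * V R A p a

lemma V_zero (a : Fin 0 → A) : V R A 0 a = 1 := Wd_zero _ _

lemma V_succ (p : ℕ) (a : Fin (p + 1) → A) :
    V R A (p + 1) a = ExteriorAlgebra.ι A[X] (δB (C (a 0))) * V R A p (fun j => a j.succ) :=
  Wd_succ _ p _

lemma V_cons (p : ℕ) (a₀ : A) (a : Fin p → A) :
    V R A (p + 1) (Fin.cons a₀ a) = ExteriorAlgebra.ι A[X] (δB (C a₀)) * V R A p a := by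
  rw [V_succ]
  simp only [Fin.cons_zero, Fin.cons_succ]

lemma V_mem (p : ℕ) (a : Fin p → A) : V R A p a ∈ ⋀[A[X]]^p (Ω[A[X]⁄R]) := Wd_mem _ _ _

lemma VX_eq (p : ℕ) (a : Fin p → A) :
    VX R A p a = Wd (δB) (p + 1) (Fin.cons X (fun j => C (a j))) := by
  rw [VX, V, Wd_cons]

lemma VX_mem (p : ℕ) (a : Fin p → A) : VX R A p a ∈ ⋀[A[X]]^(p + 1) (Ω[A[X]⁄R]) := by
  rw [VX_eq]; exact Wd_mem _ _ _

variable (d' : ∀ p : ℕ, ↥(⋀[A[X]]^p (Ω[A[X]⁄R])) →ₗ[R] ↥(⋀[A[X]]^(p + 1) (Ω[A[X]⁄R])))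

lemma Lg_V (hrule : IsRule (δB) d') (p : ℕ) (a : Fin p → A) :
    Lg d' (phi R A) (V R A p a) = 0 := by
  induction p with
  | zero => rw [V_zero]; exact Lg_one (δB) d' _ hrule
  | succ p ih =>
    rw [V_succ, Lg_ι_mul (δB) d' _ (hspanB R A) hrule, ih, phi_D_C, map_zero, map_zero, zero_mul,
      mul_zero, add_zero]

lemma Lg_VX (hrule : IsRule (δB) d') (p : ℕ) (a : Fin p → A) :
    Lg d' (phi R A) (VX R A p a) = VX R A p a := by
  rw [VX, Lg_ι_mul (δB) d' _ (hspanB R A) hrule, Lg_V R A d' hrule, phi_D_X, mul_zero, add_zero]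

/-- spanning family of `Ω[A[X]⁄R]`: `dX` and the `d(a)` for constants `a` -/
noncomputable def gfam : Option A → Ω[A[X]⁄R]
  | none => δB X
  | some a => δB (C a)

lemma span_gfam : Submodule.span A[X] (Set.range (gfam R A)) = ⊤ := by
  rw [eq_top_iff, ← KaehlerDifferential.span_range_derivation R A[X], Submodule.span_le]
  rintro _ ⟨f, rfl⟩
  change δB f ∈ Submodule.span A[X] (Set.range (gfam R A))
  induction f using Polynomial.induction_on' with
  | add f g hf hg => rw [map_add]; exact Submodule.add_mem _ hf hg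
  | monomial n a =>
    rw [← C_mul_X_pow_eq_monomial, Derivation.leibniz, Derivation.leibniz_pow]
    refine Submodule.add_mem _ (Submodule.smul_mem _ _ ?_) (Submodule.smul_mem _ _ ?_)
    · have h0 : δB X ∈ Submodule.span A[X] (Set.range (gfam R A)) :=
        Submodule.subset_span ⟨none, rfl⟩
      exact nsmul_mem (Submodule.smul_mem _ _ h0) n
    · exact Submodule.subset_span ⟨some a, rfl⟩

/-- span of the horizontal wedges -/
noncomputable def H (p : ℕ) : Submodule A[X] EB := Submodule.span A[X] (Set.range (V R A p))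

/-- span of the `dX ∧ horizontal` wedges -/
noncomputable def K : ℕ → Submodule A[X] EB
  | 0 => ⊥
  | (q + 1) => Submodule.span A[X] (Set.range (VX R A q))

lemma K_zero : K R A 0 = ⊥ := rfl

lemma K_succ (q : ℕ) : K R A (q + 1) = Submodule.span A[X] (Set.range (VX R A q)) := rfl

/-- the span of all standard wedges of degree `p` -/
noncomputable def T (p : ℕ) : Submodule A[X] EB := H R A p ⊔ K R A p

lemma step_gen (μ₀ : Ω[A[X]⁄R])
    (hH : ∀ (p : ℕ) (a : Fin p → A), ExteriorAlgebra.ι A[X] μ₀ * V R A p a ∈ T R A (p + 1))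
    (hK : ∀ (q : ℕ) (a : Fin q → A), ExteriorAlgebra.ι A[X] μ₀ * VX R A q a ∈ T R A (q + 2))
    (p : ℕ) (w : EB) (hw : w ∈ T R A p) : ExteriorAlgebra.ι A[X] μ₀ * w ∈ T R A (p + 1) := by
  have hle : T R A p ≤
      (T R A (p + 1)).comap (LinearMap.mulLeft A[X] (ExteriorAlgebra.ι A[X] μ₀)) := by
    refine sup_le (Submodule.span_le.2 ?_) ?_
    · rintro _ ⟨a, rfl⟩
      rw [SetLike.mem_coe, Submodule.mem_comap, LinearMap.mulLeft_apply]
      exact hH p a
    · cases p with
      | zero => rw [K_zero]; exact bot_le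
      | succ q =>
        rw [K_succ]
        refine Submodule.span_le.2 ?_
        rintro _ ⟨a, rfl⟩
        rw [SetLike.mem_coe, Submodule.mem_comap, LinearMap.mulLeft_apply]
        exact hK q a
  have := hle hw
  rw [Submodule.mem_comap, LinearMap.mulLeft_apply] at this
  exact this

lemma hH_C (a₀ : A) (p : ℕ) (a : Fin p → A) :
    ExteriorAlgebra.ι A[X] (δB (C a₀)) * V R A p a ∈ T R A (p + 1) := by
  rw [← V_cons]
  exact Submodule.mem_sup_left (Submodule.subset_span ⟨_, rfl⟩)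

lemma hH_X (p : ℕ) (a : Fin p → A) :
    ExteriorAlgebra.ι A[X] (δB X) * V R A p a ∈ T R A (p + 1) := by
  apply Submodule.mem_sup_right
  rw [K_succ]
  exact Submodule.subset_span ⟨a, rfl⟩

lemma hK_C (a₀ : A) (q : ℕ) (a : Fin q → A) :
    ExteriorAlgebra.ι A[X] (δB (C a₀)) * VX R A q a ∈ T R A (q + 2) := by
  have h := ExteriorAlgebra.ι_add_mul_swap (R := A[X]) (δB (C a₀)) (δB X)
  rw [VX, ← mul_assoc, eq_neg_of_add_eq_zero_left h, neg_mul, mul_assoc, ← V_cons]
  apply Submodule.neg_mem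
  apply Submodule.mem_sup_right
  rw [K_succ]
  exact Submodule.subset_span ⟨_, rfl⟩

lemma hK_X (q : ℕ) (a : Fin q → A) :
    ExteriorAlgebra.ι A[X] (δB X) * VX R A q a ∈ T R A (q + 2) := by
  rw [VX, ← mul_assoc, ExteriorAlgebra.ι_sq_zero, zero_mul]
  exact Submodule.zero_mem _

/-- the standard wedges span the exterior powers -/
lemma ext_le_T (p : ℕ) :
    (⋀[A[X]]^p (Ω[A[X]⁄R]) : Submodule A[X] EB) ≤ T R A p := by
  induction p with
  | zero =>
    rw [ext_zero_eq, Submodule.one_eq_span, Submodule.span_le, Set.singleton_subset_iff]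
    apply Submodule.mem_sup_left
    apply Submodule.subset_span
    exact ⟨Fin.elim0, V_zero R A _⟩
  | succ p ih =>
    rw [ext_succ_eq, Submodule.mul_le]
    rintro _ ⟨μ, rfl⟩ n hn
    have hn' := ih hn
    have hμ : μ ∈ Submodule.span A[X] (Set.range (gfam R A)) := by
      rw [span_gfam]; trivial
    induction hμ using Submodule.span_induction with
    | mem μ hμ =>
      obtain ⟨o, rfl⟩ := hμ
      cases o with
      | none => exact step_gen R A _ (hH_X R A) (hK_X R A) p n hn'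
      | some a₀ => exact step_gen R A _ (hH_C R A a₀) (hK_C R A a₀) p n hn'
    | zero => rw [map_zero, zero_mul]; exact Submodule.zero_mem _
    | add x y _ _ hx hy => rw [map_add, add_mul]; exact Submodule.add_mem _ hx hy
    | smul c x _ hx => rw [map_smul, smul_mul_assoc]; exact Submodule.smul_mem _ _ hx

variable (ψ : ∀ p : ℕ, ↥(⋀[A]^p (Ω[A⁄R])) →+ ↥(⋀[A[X]]^p (Ω[A[X]⁄R])))

/-- weight `k` elements of degree `p`: eigenvectors of the Lie derivative, pulled back from `A`
when the weight is zero -/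
structure IsW (p k : ℕ) (ω : EB) : Prop where
  mem : ω ∈ ⋀[A[X]]^p (Ω[A[X]⁄R])
  eig : Lg d' (phi R A) ω = k • ω
  img : k = 0 → ∃ x, ((ψ p x : ↥(⋀[A[X]]^p (Ω[A[X]⁄R]))) : EB) = ω

lemma IsW_zero (p k : ℕ) : IsW R A d' ψ p k 0 :=
  ⟨Submodule.zero_mem _, by rw [map_zero, smul_zero], fun _ => ⟨0, by rw [map_zero]; rfl⟩⟩

lemma IsW_add {p k : ℕ} {x y : EB} (hx : IsW R A d' ψ p k x) (hy : IsW R A d' ψ p k y) :
    IsW R A d' ψ p k (x + y) := by
  refine ⟨Submodule.add_mem _ hx.mem hy.mem, by rw [map_add, hx.eig, hy.eig, smul_add], ?_⟩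
  intro hk
  obtain ⟨x', hx'⟩ := hx.img hk
  obtain ⟨y', hy'⟩ := hy.img hk
  exact ⟨x' + y', by rw [map_add, Submodule.coe_add, hx', hy']⟩

/-- finite sums of weight elements -/
def Dec (p : ℕ) (ω : EB) : Prop :=
  ∃ v : ℕ →₀ EB, (∀ k, IsW R A d' ψ p k (v k)) ∧ v.sum (fun _ e => e) = ω

lemma Dec_zero (p : ℕ) : Dec R A d' ψ p 0 :=
  ⟨0, fun k => IsW_zero R A d' ψ p k, Finsupp.sum_zero_index⟩

lemma Dec_add {p : ℕ} {x y : EB} (hx : Dec R A d' ψ p x) (hy : Dec R A d' ψ p y) :
    Dec R A d' ψ p (x + y) := by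
  obtain ⟨v, hv, rfl⟩ := hx
  obtain ⟨v', hv', rfl⟩ := hy
  refine ⟨v + v', fun k => ?_, ?_⟩
  · rw [Finsupp.add_apply]; exact IsW_add R A d' ψ (hv k) (hv' k)
  · rw [Finsupp.sum_add_index' (fun _ => rfl) (fun _ _ _ => rfl)]

lemma Dec_of_IsW {p k : ℕ} {ω : EB} (h : IsW R A d' ψ p k ω) : Dec R A d' ψ p ω := by
  classical
  refine ⟨Finsupp.single k ω, fun k' => ?_, Finsupp.sum_single_index rfl⟩
  rw [Finsupp.single_apply]
  split_ifs with hk
  · subst hk; exact h
  · exact IsW_zero R A d' ψ p k'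

lemma Dec_of_mem_span (p : ℕ) (S : Set EB) (hS : ∀ s ∈ S, ∀ f : A[X], Dec R A d' ψ p (f • s))
    (x : EB) (hx : x ∈ Submodule.span A[X] S) : Dec R A d' ψ p x := by
  have hx' : x ∈ AddSubmonoid.closure ((Set.univ : Set A[X]) • S) := by
    rw [← Submodule.span_eq_closure]; exact hx
  clear hx
  induction hx' using AddSubmonoid.closure_induction with
  | mem x hx =>
    obtain ⟨f, -, s, hs, rfl⟩ := hx
    exact hS s hs f
  | zero => exact Dec_zero R A d' ψ p
  | add x y _ _ hx hy => exact Dec_add R A d' ψ hx hy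

lemma Dec_smul_gen (hrule : IsRule (δB) d') (p k₀ : ℕ) (ω₀ : EB)
    (hm : ω₀ ∈ ⋀[A[X]]^p (Ω[A[X]⁄R])) (hL : Lg d' (phi R A) ω₀ = k₀ • ω₀)
    (hcl : k₀ = 0 → ∀ c : A, ∃ x, ((ψ p x : ↥(⋀[A[X]]^p (Ω[A[X]⁄R]))) : EB) = C c • ω₀)
    (f : A[X]) : Dec R A d' ψ p (f • ω₀) := by
  induction f using Polynomial.induction_on' with
  | add f g hf hg => rw [add_smul]; exact Dec_add R A d' ψ hf hg
  | monomial n c =>
    apply Dec_of_IsW R A d' ψ (k := n + k₀)
    refine ⟨Submodule.smul_mem _ _ hm, ?_, ?_⟩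
    · exact Lg_weight_smul (δB) d' _ (hspanB R A) hrule _ n k₀ ω₀ (phi_D_monomial R A n c) hL
    · intro h0
      have hn : n = 0 := by omega
      have hk : k₀ = 0 := by omega
      subst hn
      rw [monomial_zero_left]
      exact hcl hk c

/-- every `p`-form on `A[X]` is a finite sum of weight elements -/
theorem dec_of_mem (hrule : IsRule (δB) d')
    (hψ : IsCxMap (KaehlerDifferential.D R A) (δB) (algebraMap A A[X]) ψ)
    (p : ℕ) (ω : EB) (hω : ω ∈ ⋀[A[X]]^p (Ω[A[X]⁄R])) : Dec R A d' ψ p ω := by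
  have h1 := ext_le_T R A p hω
  obtain ⟨y, hy, z, hz, rfl⟩ := Submodule.mem_sup.1 h1
  refine Dec_add R A d' ψ ?_ ?_
  · refine Dec_of_mem_span R A d' ψ p (Set.range (V R A p)) ?_ y hy
    rintro _ ⟨a, rfl⟩ f
    refine Dec_smul_gen R A d' ψ hrule p 0 (V R A p a) (V_mem R A p a) ?_ ?_ f
    · rw [Lg_V R A d' hrule, zero_smul]
    · intro _ c
      refine ⟨gen (KaehlerDifferential.D R A) p c a, ?_⟩
      rw [hψ p c a, gen, Submodule.coe_smul, exteriorPower.ιMulti_apply_coe]
      rfl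
  · cases p with
    | zero =>
      rw [K_zero] at hz
      rw [(Submodule.mem_bot _).1 hz]
      exact Dec_zero R A d' ψ 0
    | succ q =>
      rw [K_succ] at hz
      refine Dec_of_mem_span R A d' ψ (q + 1) (Set.range (VX R A q)) ?_ z hz
      rintro _ ⟨a, rfl⟩ f
      refine Dec_smul_gen R A d' ψ hrule (q + 1) 1 (VX R A q a) (VX_mem R A q a) ?_ ?_ f
      · rw [Lg_VX R A d' hrule, one_smul]
      · intro h; exact absurd h one_ne_zero

end Poly

end Groth.Agent.Lib.R2H7.DRPoly
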