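import Mathlib
import Groth.Prelude.Def_DeRham
import Groth.Agent.Lib.R2H7DRCalc
import Groth.Agent.Lib.R2H7DRPoly
import Groth.Agent.Lib.Helper22DeRham
import Groth.Agent.S15293
import Groth.Agent.S15294

/-!
# Homotopy invariance of algebraic de Rham cohomology over `ℚ` (R2H7.DRPolyMain)

`A → A[X]` induces a quasi-isomorphism of de Rham complexes over a `ℚ`-algebra `R`, in the
cocycle/coboundary form of the prelude.
-/

set_option autoImplicit false
set_option linter.unusedSectionVars false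
universe u

namespace Groth.Agent.Lib.R2H7.DRPolyMain

open Polynomial DeRham
open Groth.Agent.Lib.R2H7.DRCalc Groth.Agent.Lib.R2H7.DRPoly

section Main

variable (R A : Type u) [CommRing R] [CommRing A] [Algebra R A]

local notation "EB" => ExteriorAlgebra A[X] (Ω[A[X]⁄R])
local notation "δB" => KaehlerDifferential.D R A[X]

/-- retraction of the pull-back, induced by `X ↦ 0` -/
theorem exists_retraction
    (d : ∀ p : ℕ, ↥(⋀[A]^p (Ω[A⁄R])) →ₗ[R] ↥(⋀[A]^(p + 1) (Ω[A⁄R])))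
    (hd : DeRham.IsDiff (KaehlerDifferential.D R A) d)
    (d' : ∀ p : ℕ, ↥(⋀[A[X]]^p (Ω[A[X]⁄R])) →ₗ[R] ↥(⋀[A[X]]^(p + 1) (Ω[A[X]⁄R])))
    (hd' : DeRham.IsDiff (KaehlerDifferential.D R A[X]) d')
    (ψ : ∀ p : ℕ, ↥(⋀[A]^p (Ω[A⁄R])) →+ ↥(⋀[A[X]]^p (Ω[A[X]⁄R])))
    (hψ : DeRham.IsCxMap (KaehlerDifferential.D R A) (KaehlerDifferential.D R A[X])
      (algebraMap A A[X]) ψ) :
    ∃ ε : ∀ p : ℕ, ↥(⋀[A[X]]^p (Ω[A[X]⁄R])) →+ ↥(⋀[A]^p (Ω[A⁄R])),
      (∀ p x, ε p (ψ p x) = x) ∧ (∀ p z, ε (p + 1) (d' p z) = d p (ε p z)) := by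
  letI : Algebra A[X] A := (Polynomial.evalRingHom (0 : A)).toAlgebra
  haveI : IsScalarTower R A[X] A := IsScalarTower.of_algebraMap_eq (fun r => by
    show algebraMap R A r = Polynomial.eval 0 (algebraMap R A[X] r)
    rw [Polynomial.algebraMap_apply, Polynomial.eval_C])
  obtain ⟨ε, hε⟩ := Groth.Agent.S15293.result R R A[X] A
  refine ⟨ε, ?_, ?_⟩
  · intro p
    apply Groth.Agent.Lib.Helper22.deRham_gen_induction p (fun x => ε p (ψ p x) = x)
    · rw [map_zero, map_zero]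
    · intro x y hx hy; rw [map_add, map_add, hx, hy]
    · intro c b
      rw [hψ p c b, hε p (algebraMap A A[X] c) (fun i => algebraMap A A[X] (b i))]
      have h1 : ∀ c : A, algebraMap A[X] A (algebraMap A A[X] c) = c := fun c => by
        show Polynomial.eval 0 (C c) = c
        exact Polynomial.eval_C
      simp only [h1]
  · intro p z
    exact Groth.Agent.S15294.result R R A[X] A d' hd' d hd ε hε p z

variable [Algebra ℚ R]

/-- the inverse of a natural number, in `R` -/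
noncomputable def cK (k : ℕ) : R := algebraMap ℚ R ((((k : ℤ)) : ℚ)⁻¹)

lemma inv_int_smul (n : ℤ) (hn : n ≠ 0) (ω : EB) :
    algebraMap R A[X] (algebraMap ℚ R ((n : ℚ)⁻¹)) • (n • ω) = ω := by
  rw [← Int.cast_smul_eq_zsmul A[X] n ω, smul_smul]
  have h2 : (n : A[X]) = algebraMap R A[X] (algebraMap ℚ R (n : ℚ)) := by
    rw [map_intCast, map_intCast]
  rw [h2, ← map_mul, ← map_mul, inv_mul_cancel₀ (Int.cast_ne_zero.2 hn), map_one, map_one,
    one_smul]

lemma tf (n : ℤ) (m : EB) (hn : n ≠ 0) (h0 : n • m = 0) : m = 0 := by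
  rw [← inv_int_smul R A n hn m, h0, smul_zero]

theorem main
    (d : ∀ p : ℕ, ↥(⋀[A]^p (Ω[A⁄R])) →ₗ[R] ↥(⋀[A]^(p + 1) (Ω[A⁄R])))
    (hd : DeRham.IsDiff (KaehlerDifferential.D R A) d)
    (d' : ∀ p : ℕ, ↥(⋀[A[X]]^p (Ω[A[X]⁄R])) →ₗ[R] ↥(⋀[A[X]]^(p + 1) (Ω[A[X]⁄R])))
    (hd' : DeRham.IsDiff (KaehlerDifferential.D R A[X]) d')
    (ψ : ∀ p : ℕ, ↥(⋀[A]^p (Ω[A⁄R])) →+ ↥(⋀[A[X]]^p (Ω[A[X]⁄R])))
    (hψ : DeRham.IsCxMap (KaehlerDifferential.D R A) (KaehlerDifferential.D R A[X])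
      (algebraMap A A[X]) ψ)
    (hcomm : ∀ (p : ℕ) (x : ↥(⋀[A]^p (Ω[A⁄R]))), ψ (p + 1) (d p x) = d' p (ψ p x)) (i : ℕ) :
    (∀ y ∈ DeRham.cocycles d' i, ∃ x ∈ DeRham.cocycles d i,
        y - ψ i x ∈ DeRham.coboundaries d' i) ∧
      (∀ x ∈ DeRham.cocycles d i, ψ i x ∈ DeRham.coboundaries d' i →
        x ∈ DeRham.coboundaries d i) := by
  obtain ⟨ε, hret, hεd⟩ := exists_retraction R A d hd d' hd' ψ hψ
  have hrule := hd'.1
  have hspan := hspanB R A
  constructor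
  · intro y hy
    have hy0 : d' i y = 0 := hy
    obtain ⟨v, hv, hsum⟩ := dec_of_mem R A d' ψ hrule hψ i (y : EB) y.2
    have hsum' : ∑ k ∈ v.support, v k = (y : EB) := hsum
    have hDy : Dg d' (y : EB) = 0 := by rw [Dg_coe, hy0]; rfl
    have hDv : ∀ k, Dg d' (v k) = 0 := by
      intro k
      by_cases hk : k ∈ v.support
      · refine eigen_indep (Lg d' (phi R A)) (tf R A) v.support (fun k => Dg d' (v k)) ?_ ?_ k hk
        · intro k _
          show Lg d' (phi R A) (Dg d' (v k)) = k • Dg d' (v k)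
          rw [Lg_Dg (δB) d' _ hd', (hv k).eig, map_nsmul]
        · show ∑ k ∈ v.support, Dg d' (v k) = 0
          rw [← map_sum, hsum', hDy]
      · rw [Finsupp.notMem_support_iff.1 hk, map_zero]
    obtain ⟨x, hx⟩ := (hv 0).img rfl
    have hxc : d i x = 0 := by
      have h1 : ψ (i + 1) (d i x) = 0 := by
        rw [hcomm]
        apply Subtype.ext
        rw [← Dg_coe d' i (ψ i x), hx, hDv 0]; rfl
      rw [← hret (i + 1) (d i x), h1, map_zero]
    refine ⟨x, hxc, ?_⟩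
    have hsplit : ((y - ψ i x : ↥(⋀[A[X]]^i (Ω[A[X]⁄R]))) : EB) =
        ∑ k ∈ v.support.erase 0, v k := by
      rw [Submodule.coe_sub, hx, ← hsum']
      by_cases h0 : 0 ∈ v.support
      · rw [← Finset.add_sum_erase _ _ h0, add_sub_cancel_left]
      · rw [Finsupp.notMem_support_iff.1 h0, sub_zero, Finset.erase_eq_of_notMem h0]
    have hkv : ∀ k ∈ v.support.erase 0, k • v k = Dg d' (con (phi R A) (v k)) := by
      intro k _
      rw [← (hv k).eig, Lg_of_closed d' (phi R A) (v k) (hDv k)]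
    cases i with
    | zero =>
      show y - ψ 0 x ∈ (⊥ : Submodule R _)
      rw [Submodule.mem_bot]
      apply Subtype.ext
      refine Eq.trans hsplit (Finset.sum_eq_zero ?_)
      intro k hk
      have h1 := hkv k hk
      rw [con_deg_zero _ _ (hv k).mem, map_zero] at h1
      exact tf R A (k : ℤ) (v k) (Int.natCast_ne_zero.2 (Finset.ne_of_mem_erase hk))
        (by rw [natCast_zsmul]; exact h1)
    | succ j =>
      show y - ψ (j + 1) x ∈ LinearMap.range (d' j)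
      have hz : ∑ k ∈ v.support.erase 0, algebraMap R A[X] (cK R k) • con (phi R A) (v k) ∈
          ⋀[A[X]]^j (Ω[A[X]⁄R]) :=
        Submodule.sum_mem _ (fun k _ => Submodule.smul_mem _ _ (con_mem_succ _ j _ (hv k).mem))
      refine ⟨⟨_, hz⟩, ?_⟩
      apply Subtype.ext
      rw [hsplit, ← Dg_of_mem d' j _ hz, map_sum]
      apply Finset.sum_congr rfl
      intro k hk
      rw [Dg_algebraMap_smul (δB) d' hspan hrule, ← hkv k hk, ← natCast_zsmul]
      exact inv_int_smul R A (k : ℤ) (Int.natCast_ne_zero.2 (Finset.ne_of_mem_erase hk)) (v k)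
  · intro x _ hex
    cases i with
    | zero =>
      have h0 : ψ 0 x = 0 := (Submodule.mem_bot _).1 hex
      show x ∈ (⊥ : Submodule R _)
      rw [Submodule.mem_bot, ← hret 0 x, h0, map_zero]
    | succ j =>
      have hex' : ψ (j + 1) x ∈ LinearMap.range (d' j) := hex
      obtain ⟨z, hz⟩ := hex'
      show x ∈ LinearMap.range (d j)
      exact ⟨ε j z, by rw [← hεd, hz, hret]⟩

end Main

end Groth.Agent.Lib.R2H7.DRPolyMain
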