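/-
Extensions of an affine deformation along a semismall extension form a torsor under
`Exalcom k B₀ (B₀ ⊗ J)`: final assembly.  (R2H7, for S12294.)
-/
import Mathlib
import Groth.Agent.Lib.R2H7DefLiftE

set_option autoImplicit false
universe u
open TensorProduct

namespace Groth.Agent.Lib.R2H7.DefLift

open CategoryTheory CategoryTheory.Limits AlgebraicGeometry ArtFun ArtFun.Art

theorem nonempty_equiv_quot (k B₀ : Type u) [Field k] [CommRing B₀] [Algebra k B₀]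
    {C' C : Art k k} (p : C' ⟶ C) (hp : Art.IsSemismallExt p) (𝒳 : Def0 k B₀ C)
    (hne : ∃ 𝒳' : Def0 k B₀ C', Nonempty ((𝒳'.baseChange p).Iso 𝒳)) :
    Nonempty (Quot (pairRel p 𝒳) ≃ Exal.Exalcom k B₀ (B₀ ⊗[k] RingHom.ker p.toAlgHom)) := by
  obtain ⟨E, α, c, ψ₀, hflat, hsurj, hker, hw, hf, hi⟩ := DefDual.exists_ringData C 𝒳
  have hB : IsBase C.res p.toAlgHom α.hom c.hom :=
    { p_surj := hp.1
      sq := fun t j ht hj => by
        have ht' : t ∈ IsLocalRing.maximalIdeal C' := by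
          rw [Art.mem_maximalIdeal_iff, ← Art.res_app p t]
          exact ht
        have hj' : j ∈ RingHom.ker p.toAlgHom := (RingHom.mem_ker).2 hj
        have h1 := Ideal.mul_mem_mul ht' hj'
        rw [hp.2] at h1
        exact (Submodule.mem_bot _).1 h1
      flat := hflat
      c_surj := hsurj
      c_ker := hker
      c_alpha := fun s => congrArg (fun φ => φ s) hw }
  obtain ⟨𝒳'₀, ⟨φ₀⟩⟩ := hne
  obtain ⟨L₁, -⟩ := exists_lift_of_pair p 𝒳 E α c ψ₀ hf hi hB ⟨𝒳'₀, φ₀⟩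
  obtain ⟨e⟩ := nonempty_equiv_exalcom hB L₁
  let Θ : Quotient (liftSetoid hB) → Quot (pairRel p 𝒳) :=
    Quotient.lift (s := liftSetoid hB) (fun L => Quot.mk _ (pairOfLift p 𝒳 E α c ψ₀ hf hi hB L))
      (fun L L' ⟨h⟩ => Quot.sound (pairRel_of_liftHom p 𝒳 E α c ψ₀ hf hi hB h))
  have hinj : Function.Injective Θ := by
    intro a b hab
    obtain ⟨L, rfl⟩ := Quotient.exists_rep a
    obtain ⟨L', rfl⟩ := Quotient.exists_rep b
    have h1 : Quot.mk (pairRel p 𝒳) (pairOfLift p 𝒳 E α c ψ₀ hf hi hB L) =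
        Quot.mk (pairRel p 𝒳) (pairOfLift p 𝒳 E α c ψ₀ hf hi hB L') := hab
    have h2 := (pairRel_equivalence (p := p) (𝒳 := 𝒳)).eqvGen_iff.1 (Quot.eqvGen_exact h1)
    exact Quotient.sound (liftHom_of_pairRel p 𝒳 E α c ψ₀ hf hi hB h2)
  have hsurjΘ : Function.Surjective Θ := by
    intro q
    obtain ⟨a, rfl⟩ := Quot.exists_rep q
    obtain ⟨L, hL⟩ := exists_lift_of_pair p 𝒳 E α c ψ₀ hf hi hB a
    exact ⟨Quotient.mk _ L, (Quot.sound hL).symm⟩
  exact ⟨(Equiv.ofBijective Θ ⟨hinj, hsurjΘ⟩).symm.trans e⟩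

end Groth.Agent.Lib.R2H7.DefLift
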