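import Mathlib
import Groth.Prelude.Def_W4c1extbt610Disp
import Groth.Agent.Lib.Helper8Dieu
import Groth.Agent.Lib.Helper14Decomp
import Groth.Agent.Lib.Helper14LiftProj

/-!
# From Dieudonné modules over a perfect ring to 3n-displays

For a perfect ring `k` of characteristic `p` and a Dieudonné module `(M, F, V)` over `W(k)`,
`(M, VM, F, V⁻¹)` is a 3n-display.  The normal decomposition comes from the projectivity of
`M/VM` (helper8) and the lifting of decompositions modulo `p` (helper14).
-/

set_option autoImplicit false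
universe u v

namespace Groth.Agent.Lib.R2H7.DieuDisp

open W4c1extbt610 WittVector

variable {p : ℕ} [Fact p.Prime] {k : Type u} [CommRing k] [CharP k p] [PerfectRing k p]

theorem symm_frobenius (w : WittVector p k) :
    ((WittVector.frobeniusEquiv p k).symm : WittVector p k →+* WittVector p k)
      (WittVector.frobenius w) = w := by
  have : WittVector.frobenius w = WittVector.frobeniusEquiv p k w := rfl
  rw [this]
  exact (WittVector.frobeniusEquiv p k).symm_apply_apply w

theorem frobenius_symm (w : WittVector p k) :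
    WittVector.frobenius
      (((WittVector.frobeniusEquiv p k).symm : WittVector p k →+* WittVector p k) w) = w :=
  (WittVector.frobeniusEquiv p k).apply_symm_apply w

theorem verschiebung_eq (w : WittVector p k) :
    verschiebung w = (p : WittVector p k) *
      ((WittVector.frobeniusEquiv p k).symm : WittVector p k →+* WittVector p k) w := by
  conv_lhs => rw [← frobenius_symm w]
  rw [verschiebung_frobenius, mul_comm]

theorem IV_eq : IV p k = Ideal.span {(p : WittVector p k)} := by
  apply le_antisymm
  · unfold IV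
    rw [Ideal.span_le]
    rintro _ ⟨w, rfl⟩
    rw [verschiebung_eq]
    exact Ideal.mul_mem_right _ _ (Ideal.mem_span_singleton_self _)
  · rw [Ideal.span_singleton_le_iff_mem]
    have h : verschiebung (1 : WittVector p k) = (p : WittVector p k) := by
      rw [verschiebung_eq, map_one, mul_one]
    rw [← h]
    exact verschiebung_mem_IV p k 1

section Filtration

/-- Idempotent matrices lift along `A → A/J` for a `J`-adically complete ring `A`. -/
theorem exists_idempotent_lift_of_isAdicComplete {A : Type*} [CommRing A] (J : Ideal A)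
    [IsAdicComplete J A] {r : ℕ}
    (E : Matrix (Fin r) (Fin r) (A ⧸ J)) (hE : IsIdempotentElem E) :
    ∃ E' : Matrix (Fin r) (Fin r) A, IsIdempotentElem E' ∧
      E'.map (Ideal.Quotient.mk J) = E := by
  have hK : ∀ n, J ^ (n + 1 + 1) ≤ J ^ (n + 1) := fun n => Ideal.pow_le_pow_right (by omega)
  have hmem : ∀ (n : ℕ) (a : A),
      a ∈ J ^ n ↔ a ≡ 0 [SMOD (J ^ n • ⊤ : Submodule A A)] := by
    intro n a
    rw [SModEq.zero, smul_eq_mul, Ideal.mul_top]
  have hsep : ∀ a : A, (∀ n, a ∈ J ^ (n + 1)) → a = 0 := by
    intro a ha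
    apply IsHausdorff.haus' (I := J)
    intro n
    rw [← hmem]
    rcases n with _ | n
    · simp
    · exact ha n
  have hcomp : ∀ z : ℕ → A, (∀ n, z (n + 1) - z n ∈ J ^ (n + 1)) →
      ∃ x : A, ∀ n, x - z n ∈ J ^ (n + 1) := by
    intro z hz
    let f : ℕ → A := fun n => z (n - 1)
    have hmono : ∀ m n, m ≤ n → z n - z m ∈ J ^ (m + 1) := by
      intro m n hmn
      induction n, hmn using Nat.le_induction with
      | base => simp
      | succ n hmn ih =>
        have h1 : z (n + 1) - z m = (z (n + 1) - z n) + (z n - z m) := by ring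
        rw [h1]
        exact Ideal.add_mem _ (Ideal.pow_le_pow_right (by omega) (hz n)) ih
    have hf : ∀ {m n}, m ≤ n →
        f m ≡ f n [SMOD (J ^ m • ⊤ : Submodule A A)] := by
      intro m n hmn
      rw [SModEq.sub_mem, smul_eq_mul, Ideal.mul_top]
      rcases m with _ | m
      · simp
      · have h1 := hmono m (n - 1) (by omega)
        have h2 : f (m + 1) - f n = -(z (n - 1) - z m) := by
          simp only [f, Nat.add_sub_cancel]
          ring
        rw [h2]
        exact neg_mem_iff.mpr h1
    obtain ⟨L, hL⟩ := IsPrecomplete.prec' (I := J) f hf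
    refine ⟨L, fun n => ?_⟩
    have := hL (n + 1)
    rw [SModEq.sub_mem, smul_eq_mul, Ideal.mul_top] at this
    have h2 : L - z n = -(f (n + 1) - L) := by
      simp only [f, Nat.add_sub_cancel]
      ring
    rw [h2]
    exact neg_mem_iff.mpr this
  have hrad : ∀ n, J ^ (n + 1) ≤ (J ^ (n + 1 + 1)).radical := by
    intro n a ha
    refine ⟨2, ?_⟩
    have : a ^ 2 ∈ (J ^ (n + 1)) ^ 2 := Ideal.pow_mem_pow ha 2
    rw [← pow_mul] at this
    exact Ideal.pow_le_pow_right (by omega) this
  exact Groth.Agent.Lib.Helper14.LiftProj.Filt.exists_idempotent_lift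
    (fun n => J ^ (n + 1)) hK hsep hcomp hrad (Ideal.Quotient.mk J) Ideal.Quotient.mk_surjective
    (by simp [Ideal.mk_ker]) E hE

theorem span_p_le_jacobson :
    Ideal.span {(p : WittVector p k)} ≤ Ideal.jacobson (⊥ : Ideal (WittVector p k)) :=
  IsAdicComplete.le_jacobson_bot _

end Filtration

section Main

open Groth.Agent.Lib.Helper8Dieu

variable {M : Type v} [AddCommGroup M] [Module (WittVector p k) M]
  [Module.Finite (WittVector p k) M] [Module.Projective (WittVector p k) M]
  (F : M →ₛₗ[(WittVector.frobenius : WittVector p k →+* WittVector p k)] M)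
  (V : M →ₛₗ[((WittVector.frobeniusEquiv p k).symm : WittVector p k →+* WittVector p k)] M)
  (hFV : ∀ m : M, F (V m) = (p : WittVector p k) • m)
  (hVF : ∀ m : M, V (F m) = (p : WittVector p k) • m)

include hFV in
theorem V_injective : Function.Injective V := by
  intro a b hab
  rw [← sub_eq_zero]
  apply eq_zero_of_p_smul_eq_zero (p := p) (k := k) (a - b)
  rw [← hFV, map_sub, hab, sub_self, map_zero]

/-- `VM` as a `W(k)`-submodule. -/
def rangeV : Submodule (WittVector p k) M where
  carrier := Set.range V
  add_mem' := by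
    rintro _ _ ⟨a, rfl⟩ ⟨b, rfl⟩
    exact ⟨a + b, map_add V a b⟩
  zero_mem' := ⟨0, map_zero V⟩
  smul_mem' := by
    rintro w _ ⟨m, rfl⟩
    exact ⟨WittVector.frobenius w • m, by rw [map_smulₛₗ, symm_frobenius]⟩

theorem mem_rangeV {x : M} : x ∈ rangeV V ↔ x ∈ Set.range V := Iff.rfl

include hVF in
theorem pTop_le_rangeV : pTop p k M ≤ rangeV V := by
  intro x hx
  obtain ⟨y, rfl⟩ := (mem_pTop_iff x).mp hx
  exact ⟨F y, hVF y⟩

/-- `V⁻¹ : VM → M`. -/
noncomputable def Vinv :
    rangeV V →ₛₗ[(WittVector.frobenius : WittVector p k →+* WittVector p k)] M where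
  toFun q := Classical.choose q.2
  map_add' a b := by
    apply V_injective F V hFV
    rw [map_add, Classical.choose_spec (a + b).2, Classical.choose_spec a.2,
      Classical.choose_spec b.2]
    rfl
  map_smul' w a := by
    apply V_injective F V hFV
    rw [map_smulₛₗ, symm_frobenius, Classical.choose_spec (w • a).2, Classical.choose_spec a.2]
    rfl

theorem V_Vinv (q : rangeV V) : V (Vinv F V hFV q) = q := Classical.choose_spec q.2

theorem Vinv_V (m : M) (h : V m ∈ rangeV V) : Vinv F V hFV ⟨V m, h⟩ = m :=
  V_injective F V hFV (V_Vinv F V hFV ⟨V m, h⟩)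

include hFV hVF in
theorem exists_normal :
    ∃ L T : Submodule (WittVector p k) M, IsCompl L T ∧ rangeV V = L ⊔ IV p k • T := by
  rw [IV_eq]
  have hproj := projective_quotient_imV_of_W F V hFV hVF
  obtain ⟨s, hs⟩ := Module.projective_lifting_property (imV p k V).mkQ
    (LinearMap.id : (Nbar p k M ⧸ imV p k V) →ₗ[Wp p k] _) (Submodule.mkQ_surjective _)
  have hs' : ∀ y, (imV p k V).mkQ (s y) = y := fun y => LinearMap.congr_fun hs y
  let C : Submodule (WittVector p k) M :=
    { carrier := {x | (pTop p k M).mkQ x ∈ LinearMap.range s}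
      add_mem' := by
        intro a b ha hb
        show (pTop p k M).mkQ (a + b) ∈ LinearMap.range s
        rw [map_add]
        exact Submodule.add_mem _ ha hb
      zero_mem' := by
        show (pTop p k M).mkQ 0 ∈ LinearMap.range s
        rw [map_zero]
        exact Submodule.zero_mem _
      smul_mem' := by
        intro w a ha
        show (pTop p k M).mkQ (w • a) ∈ LinearMap.range s
        have h1 : (pTop p k M).mkQ (w • a) =
            Ideal.Quotient.mk (Ideal.span {(p : WittVector p k)}) w • (pTop p k M).mkQ a := rfl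
        rw [h1]
        exact Submodule.smul_mem _ _ ha }
  have hC : ∀ x, x ∈ C ↔ (pTop p k M).mkQ x ∈ LinearMap.range s := fun x => Iff.rfl
  apply Groth.Agent.Lib.Helper14.Decomp.exists_decomposition (Ideal.span {(p : WittVector p k)})
    span_p_le_jacobson
    (fun r E hE => exists_idempotent_lift_of_isAdicComplete _ E hE) M (rangeV V) C
  · rw [eq_top_iff]
    intro x _
    set xb := (pTop p k M).mkQ x with hxb
    have h1 : xb - s ((imV p k V).mkQ xb) ∈ imV p k V := by
      have h0 : xb - s ((imV p k V).mkQ xb) ∈ LinearMap.ker (imV p k V).mkQ := by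
        rw [LinearMap.mem_ker, map_sub, hs', sub_self]
      rwa [Submodule.ker_mkQ] at h0
    obtain ⟨m, hm⟩ := exists_eq_mk_V V _ h1
    have h2 : x - V m ∈ C := by
      rw [hC, map_sub, ← hm, ← hxb, sub_sub_cancel]
      exact ⟨_, rfl⟩
    have h3 : x = V m + (x - V m) := by abel
    rw [h3]
    exact Submodule.add_mem_sup ⟨m, rfl⟩ h2
  · ext x
    constructor
    · rintro ⟨⟨m, rfl⟩, hx2⟩
      obtain ⟨y, hy⟩ := (hC _).mp hx2
      have h1 : (pTop p k M).mkQ (V m) ∈ imV p k V := Submodule.subset_span ⟨m, rfl⟩
      have h2 : (imV p k V).mkQ ((pTop p k M).mkQ (V m)) = 0 := by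
        rw [← LinearMap.mem_ker, Submodule.ker_mkQ]
        exact h1
      rw [← hy, hs'] at h2
      rw [h2, map_zero] at hy
      exact (Submodule.Quotient.mk_eq_zero _).mp hy.symm
    · intro hx
      refine ⟨pTop_le_rangeV F V hVF hx, ?_⟩
      show x ∈ C
      rw [hC]
      have : (pTop p k M).mkQ x = 0 := by
        rw [← LinearMap.mem_ker, Submodule.ker_mkQ]
        exact hx
      rw [this]
      exact Submodule.zero_mem _

include hFV hVF in
theorem exists_display :
    ∃ D : Display3n p k M,
      D.F = F ∧ (∀ x : M, x ∈ D.Q ↔ x ∈ Set.range V) ∧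
        ∀ (m : M) (h : V m ∈ D.Q), D.Vinv ⟨V m, h⟩ = m := by
  have hIV : IV p k • (⊤ : Submodule (WittVector p k) M) ≤ rangeV V := by
    rw [IV_eq]
    exact pTop_le_rangeV F V hVF
  refine ⟨{ Q := rangeV V
            F := F
            Vinv := Vinv F V hFV
            finite := inferInstance
            projective := inferInstance
            IV_smul_le := hIV
            exists_normal := exists_normal F V hFV hVF
            span_range_Vinv := ?_
            Vinv_verschiebung_smul := ?_ }, rfl, fun x => Iff.rfl, fun m h => Vinv_V F V hFV m h⟩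
  · rw [eq_top_iff]
    intro m _
    apply Submodule.subset_span
    exact ⟨⟨V m, ⟨m, rfl⟩⟩, Vinv_V F V hFV m _⟩
  · intro w x
    apply V_injective F V hFV
    rw [V_Vinv]
    show verschiebung w • x = V (w • F x)
    rw [map_smulₛₗ, hVF, verschiebung_eq, mul_comm, mul_smul]

end Main

end Groth.Agent.Lib.R2H7.DieuDisp
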