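import Mathlib

/-!
# Frobenius on `W(S)` is nilpotent on `W(𝔞)` when `p` is nilpotent and `𝔞` is nil of bounded exponent

For a ring hom `φ : S → R` with `p ^ M = 0` in `S` and `a ^ N = 0` for all `a ∈ ker φ`,
the `(M + N)`-fold iterate of the Witt vector Frobenius kills `ker (W(S) → W(R))`.
-/

namespace Groth.Agent.Lib.R2H7.WittFrobNilp

open WittVector MvPolynomial

variable (p : ℕ) [hp : Fact p.Prime] {S : Type*} [CommRing S]

/-- The ideal generated by `p^a * z^(p^b)` with `z ∈ 𝔞`, `a + b ≥ k`. -/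
def I (𝔞 : Ideal S) (k : ℕ) : Ideal S :=
  Ideal.span {s | ∃ z ∈ 𝔞, ∃ a b : ℕ, k ≤ a + b ∧ s = (p : S) ^ a * z ^ (p ^ b)}

omit hp in
lemma le_I_zero (𝔞 : Ideal S) : 𝔞 ≤ I p 𝔞 0 := by
  intro z hz
  exact Ideal.subset_span ⟨z, hz, 0, 0, le_rfl, by simp⟩

omit hp in
lemma p_mul_mem (𝔞 : Ideal S) (k : ℕ) {s : S} (hs : s ∈ I p 𝔞 k) :
    (p : S) * s ∈ I p 𝔞 (k + 1) := by
  unfold I at hs
  induction hs using Submodule.span_induction with
  | mem x hx =>
    obtain ⟨z, hz, a, b, hab, rfl⟩ := hx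
    exact Ideal.subset_span ⟨z, hz, a + 1, b, by omega, by ring⟩
  | zero => simp
  | add x y _ _ hx hy => rw [mul_add]; exact Ideal.add_mem _ hx hy
  | smul r x _ hx =>
    rw [smul_eq_mul, mul_left_comm]; exact Ideal.mul_mem_left _ _ hx

lemma pow_p_mem (𝔞 : Ideal S) (k : ℕ) {s : S} (hs : s ∈ I p 𝔞 k) :
    s ^ p ∈ I p 𝔞 (k + 1) := by
  have hp0 : p ≠ 0 := hp.out.ne_zero
  unfold I at hs
  induction hs using Submodule.span_induction with
  | mem x hx =>
    obtain ⟨z, hz, a, b, hab, rfl⟩ := hx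
    have h1 : ((p : S) ^ a * z ^ (p ^ b)) ^ p
        = (p : S) ^ (a * p - a) * ((p : S) ^ a * z ^ (p ^ (b + 1))) := by
      have : a ≤ a * p := Nat.le_mul_of_pos_right a hp.out.pos
      rw [mul_pow, ← pow_mul, ← pow_mul, ← mul_assoc, ← pow_add, Nat.sub_add_cancel this,
        pow_succ]
    rw [h1]
    exact Ideal.mul_mem_left _ _ (Ideal.subset_span ⟨z, hz, a, b + 1, by omega, rfl⟩)
  | zero => simp [hp0]
  | add x y hx hy hx' hy' =>
    obtain ⟨r, hr⟩ := exists_add_pow_prime_eq hp.out x y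
    rw [hr]
    refine Ideal.add_mem _ (Ideal.add_mem _ hx' hy') ?_
    have := p_mul_mem p 𝔞 k (s := x) hx
    rw [mul_assoc, mul_assoc]
    rw [← mul_assoc]
    exact Ideal.mul_mem_right _ _ this
  | smul r x _ hx =>
    rw [smul_eq_mul, mul_pow]; exact Ideal.mul_mem_left _ _ hx

/-- A polynomial with zero constant coefficient evaluated at elements of an ideal lies in
the ideal. -/
lemma aeval_mem_of_constantCoeff_eq_zero {σ : Type*} (J : Ideal S) (x : σ → S)
    (hx : ∀ i, x i ∈ J) (g : MvPolynomial σ ℤ) (hg : constantCoeff g = 0) :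
    aeval x g ∈ J := by
  rw [← Ideal.Quotient.eq_zero_iff_mem]
  have h1 : (Ideal.Quotient.mkₐ ℤ J) (aeval x g)
      = aeval (fun i => (Ideal.Quotient.mkₐ ℤ J) (x i)) g := by
    rw [← MvPolynomial.comp_aeval]; rfl
  have h2 : (fun i => (Ideal.Quotient.mkₐ ℤ J) (x i)) = (0 : σ → S ⧸ J) := by
    funext i
    exact Ideal.Quotient.eq_zero_iff_mem.mpr (hx i)
  have h3 : (Ideal.Quotient.mk J) (aeval x g) = (Ideal.Quotient.mkₐ ℤ J) (aeval x g) := rfl
  rw [h3, h1, h2, MvPolynomial.aeval_zero, hg, map_zero]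

lemma constantCoeff_frobeniusPolyAux (n : ℕ) : constantCoeff (frobeniusPolyAux p n) = 0 := by
  have h0 : (frobenius (0 : WittVector p ℤ)).coeff n = 0 := by
    rw [map_zero, WittVector.zero_coeff]
  rw [coeff_frobenius] at h0
  have h1' : (0 : WittVector p ℤ).coeff = (0 : ℕ → ℤ) := by
    funext i; exact WittVector.zero_coeff p ℤ i
  rw [h1', MvPolynomial.aeval_zero, Algebra.algebraMap_self, RingHom.id_apply, frobeniusPoly,
    map_add, map_pow, map_mul, constantCoeff_X, constantCoeff_C, zero_pow hp.out.ne_zero,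
    zero_add] at h0
  rcases mul_eq_zero.mp h0 with h | h
  · exact absurd h (by exact_mod_cast hp.out.ne_zero)
  · exact h

lemma frobenius_coeff_mem (𝔞 : Ideal S) (k : ℕ) (y : WittVector p S)
    (hy : ∀ n, y.coeff n ∈ I p 𝔞 k) (n : ℕ) :
    (frobenius y).coeff n ∈ I p 𝔞 (k + 1) := by
  have hc : algebraMap ℤ S ((p : ℕ) : ℤ) = (p : S) := by simp
  rw [coeff_frobenius, frobeniusPoly, map_add, map_pow, map_mul, aeval_X, aeval_C, hc]
  refine Ideal.add_mem _ (pow_p_mem p 𝔞 k (hy n)) (p_mul_mem p 𝔞 k ?_)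
  exact aeval_mem_of_constantCoeff_eq_zero _ _ hy _ (constantCoeff_frobeniusPolyAux p n)

lemma iterate_frobenius_coeff_mem (𝔞 : Ideal S) (y : WittVector p S) (hy : ∀ n, y.coeff n ∈ 𝔞) (k n : ℕ) :
    ((frobenius (p := p))^[k] y).coeff n ∈ I p 𝔞 k := by
  induction k generalizing n with
  | zero => exact le_I_zero p 𝔞 (hy n)
  | succ k ih =>
    rw [Function.iterate_succ_apply']
    exact frobenius_coeff_mem p 𝔞 k _ ih n

omit hp in
lemma I_eq_bot (𝔞 : Ideal S) (M N : ℕ) (hM : (p : S) ^ M = 0) (hN : ∀ a ∈ 𝔞, a ^ N = 0)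
    (hp2 : 2 ≤ p) (k : ℕ) (hk : M + N ≤ k) : I p 𝔞 k = ⊥ := by
  rw [eq_bot_iff, I, Ideal.span_le]
  rintro s ⟨z, hz, a, b, hab, rfl⟩
  simp only [SetLike.mem_coe, Ideal.mem_bot]
  by_cases ha : M ≤ a
  · rw [← Nat.sub_add_cancel ha, pow_add, hM, mul_zero, zero_mul]
  · have hb : N ≤ b := by omega
    have hb' : N ≤ p ^ b := by
      calc N ≤ b := hb
        _ ≤ p ^ b := (Nat.lt_pow_self hp2).le
    rw [← Nat.sub_add_cancel hb', pow_add, hN z hz, mul_zero, mul_zero]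

/-- **Lemma K.** If `p ^ M = 0` in `S` and `a ^ N = 0` for all `a ∈ ker φ`, then the
`(M+N)`-fold Frobenius kills the kernel of `W(S) → W(R)`. -/
theorem iterate_frobenius_eq_zero_of_mem_ker {R : Type*} [CommRing R] (φ : S →+* R)
    (M N : ℕ) (hM : (p : S) ^ M = 0) (hN : ∀ a : S, φ a = 0 → a ^ N = 0)
    (y : WittVector p S) (hy : y ∈ RingHom.ker (WittVector.map (p := p) φ)) :
    (frobenius (p := p))^[M + N] y = 0 := by
  have hy' : ∀ n, y.coeff n ∈ RingHom.ker φ := by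
    intro n
    rw [RingHom.mem_ker] at hy ⊢
    have := congrArg (fun w => w.coeff n) hy
    simpa [WittVector.map_coeff] using this
  ext n
  have h1 := iterate_frobenius_coeff_mem p (RingHom.ker φ) y hy' (M + N) n
  rw [I_eq_bot p (RingHom.ker φ) M N hM (fun a ha => hN a ha) hp.out.two_le (M + N) le_rfl] at h1
  simpa using h1

/-- Existential form with `IsNilpotent (p : S)`. -/
theorem exists_iterate_frobenius_eq_zero {R : Type*} [CommRing R] (φ : S →+* R)
    (hpn : IsNilpotent (p : S)) (N : ℕ) (hN : ∀ a : S, φ a = 0 → a ^ N = 0) :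
    ∃ k : ℕ, ∀ y ∈ RingHom.ker (WittVector.map (p := p) φ), (frobenius (p := p))^[k] y = 0 := by
  obtain ⟨M, hM⟩ := hpn
  exact ⟨M + N, fun y hy => iterate_frobenius_eq_zero_of_mem_ker p φ M N hM hN y hy⟩

end Groth.Agent.Lib.R2H7.WittFrobNilp
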