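import Mathlib
import Groth.Agent.Lib.R2H7WittFrobNilp

/-!
# Lifting `F`-equivariant maps between free modules with `σ`-linear isomorphisms

`W` a commutative ring with an endomorphism `σ`; `P₁` free of finite rank with a `σ`-semilinear
endomorphism `F₁` carrying a basis to a basis; `P₂` any module with `σ`-semilinear `F₂`.
The operator `U ω := (F₂ ∘ ω)♯ ∘ (F₁♯)⁻¹` on `Hom_W(P₁,P₂)` has fixed points exactly the
`F`-equivariant maps.  If `𝔠` is a `σ`-stable ideal on which `σ` is pointwise nilpotent of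
bounded order, every `α₀` which is `F`-equivariant mod `𝔠` is congruent mod `𝔠` to an
`F`-equivariant `α`.
-/

namespace Groth.Agent.Lib.R2H7.DispLift

universe u v w z

section General

variable {W : Type u} [CommRing W] {σ : W →+* W}
  {P₁ : Type v} [AddCommGroup P₁] [Module W P₁]
  {P₂ : Type w} [AddCommGroup P₂] [Module W P₂]
  {ι₁ : Type z}
  (b₁ : Module.Basis ι₁ W P₁)
  (F₁ : P₁ →ₛₗ[σ] P₁) (F₂ : P₂ →ₛₗ[σ] P₂)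
  (hF₁ : LinearIndependent W (fun i => F₁ (b₁ i)) ∧
    Submodule.span W (Set.range fun i => F₁ (b₁ i)) = ⊤)

/-- The basis `F₁ ∘ b₁`. -/
noncomputable def c₁ : Module.Basis ι₁ W P₁ := Module.Basis.mk hF₁.1 hF₁.2.ge

lemma c₁_apply (j : ι₁) : c₁ b₁ F₁ hF₁ j = F₁ (b₁ j) := by
  simp [c₁]

/-- The operator `ω ↦ (F₂ ∘ ω)♯ ∘ (F₁♯)⁻¹`. -/
noncomputable def U : (P₁ →ₗ[W] P₂) →+ (P₁ →ₗ[W] P₂) where
  toFun ω := (c₁ b₁ F₁ hF₁).constr W (fun j => F₂ (ω (b₁ j)))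
  map_zero' := by
    apply (c₁ b₁ F₁ hF₁).ext
    intro j
    simp
  map_add' ω ω' := by
    apply (c₁ b₁ F₁ hF₁).ext
    intro j
    simp

lemma U_apply_c₁ (ω : P₁ →ₗ[W] P₂) (j : ι₁) :
    U b₁ F₁ F₂ hF₁ ω (F₁ (b₁ j)) = F₂ (ω (b₁ j)) := by
  rw [← c₁_apply b₁ F₁ hF₁ j]
  simp [U]

lemma U_apply_F₁ (ω : P₁ →ₗ[W] P₂) (x : P₁) :
    U b₁ F₁ F₂ hF₁ ω (F₁ x) = F₂ (ω x) := by
  have h : (U b₁ F₁ F₂ hF₁ ω).comp F₁ = F₂.comp ω := by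
    apply b₁.ext
    intro j
    simp only [LinearMap.comp_apply]
    exact U_apply_c₁ b₁ F₁ F₂ hF₁ ω j
  exact LinearMap.congr_fun h x

lemma U_eq_self_iff (α : P₁ →ₗ[W] P₂) :
    U b₁ F₁ F₂ hF₁ α = α ↔ ∀ x, F₂ (α x) = α (F₁ x) := by
  constructor
  · intro h x
    rw [← U_apply_F₁ b₁ F₁ F₂ hF₁ α x, h]
  · intro h
    apply (c₁ b₁ F₁ hF₁).ext
    intro j
    rw [c₁_apply, U_apply_c₁, h]

omit [CommRing W] [AddCommGroup P₁] [Module W P₁] [AddCommGroup P₂] [Module W P₂] in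
lemma mem_of_basis_mem [CommRing W] [AddCommGroup P₁] [Module W P₁] [AddCommGroup P₂]
    [Module W P₂] {ι : Type*} (c : Module.Basis ι W P₁) (ψ : P₁ →ₗ[W] P₂)
    (Q : Submodule W P₂) (h : ∀ j, ψ (c j) ∈ Q) (x : P₁) : ψ x ∈ Q := by
  have : (⊤ : Submodule W P₁) ≤ Q.comap ψ := by
    rw [← c.span_eq, Submodule.span_le]
    rintro _ ⟨j, rfl⟩
    exact h j
  exact this Submodule.mem_top

lemma F₂_mem (𝔟 𝔟' : Ideal W) (h : ∀ r ∈ 𝔟, σ r ∈ 𝔟') {m : P₂}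
    (hm : m ∈ 𝔟 • (⊤ : Submodule W P₂)) : F₂ m ∈ 𝔟' • (⊤ : Submodule W P₂) := by
  refine Submodule.smul_induction_on hm ?_ ?_
  · intro r hr n _
    rw [map_smulₛₗ]
    exact Submodule.smul_mem_smul (h r hr) Submodule.mem_top
  · intro x y hx hy
    rw [map_add]
    exact Submodule.add_mem _ hx hy

lemma U_mem (𝔟 𝔟' : Ideal W) (h : ∀ r ∈ 𝔟, σ r ∈ 𝔟') (ω : P₁ →ₗ[W] P₂)
    (hω : ∀ x, ω x ∈ 𝔟 • (⊤ : Submodule W P₂)) (x : P₁) :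
    U b₁ F₁ F₂ hF₁ ω x ∈ 𝔟' • (⊤ : Submodule W P₂) := by
  apply mem_of_basis_mem (c₁ b₁ F₁ hF₁)
  intro j
  rw [c₁_apply, U_apply_c₁]
  exact F₂_mem F₂ 𝔟 𝔟' h (hω _)

/-- The ideal generated by `σ^i(𝔠)`. -/
def chain (σ : W →+* W) (𝔠 : Ideal W) (i : ℕ) : Ideal W := Ideal.span ((σ^[i]) '' (𝔠 : Set W))

lemma le_chain_zero (𝔠 : Ideal W) : 𝔠 ≤ chain σ 𝔠 0 := by
  intro x hx
  exact Ideal.subset_span ⟨x, hx, rfl⟩

lemma chain_succ (𝔠 : Ideal W) (i : ℕ) (r : W) (hr : r ∈ chain σ 𝔠 i) :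
    σ r ∈ chain σ 𝔠 (i + 1) := by
  unfold chain at hr
  induction hr using Submodule.span_induction with
  | mem x hx =>
    obtain ⟨c, hc, rfl⟩ := hx
    refine Ideal.subset_span ⟨c, hc, ?_⟩
    rw [Function.iterate_succ_apply']
  | zero => simp
  | add x y _ _ hx hy => rw [map_add]; exact Ideal.add_mem _ hx hy
  | smul a x _ hx => rw [smul_eq_mul, map_mul]; exact Ideal.mul_mem_left _ _ hx

lemma chain_eq_bot (𝔠 : Ideal W) (k : ℕ) (hk : ∀ x ∈ 𝔠, σ^[k] x = 0) : chain σ 𝔠 k = ⊥ := by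
  rw [eq_bot_iff, chain, Ideal.span_le]
  rintro _ ⟨c, hc, rfl⟩
  simp [hk c hc]

lemma iterate_U_mem (𝔠 : Ideal W) (ω : P₁ →ₗ[W] P₂)
    (hω : ∀ x, ω x ∈ 𝔠 • (⊤ : Submodule W P₂)) (i : ℕ) (x : P₁) :
    ((U b₁ F₁ F₂ hF₁)^[i] ω) x ∈ chain σ 𝔠 i • (⊤ : Submodule W P₂) := by
  induction i generalizing x with
  | zero => exact Submodule.smul_mono_left (le_chain_zero 𝔠) (hω x)
  | succ i ih =>
    rw [Function.iterate_succ_apply']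
    exact U_mem b₁ F₁ F₂ hF₁ _ _ (chain_succ 𝔠 i) _ ih x

lemma iterate_U_mem_of_stable (𝔠 : Ideal W) (h𝔠F : ∀ x ∈ 𝔠, σ x ∈ 𝔠) (ω : P₁ →ₗ[W] P₂)
    (hω : ∀ x, ω x ∈ 𝔠 • (⊤ : Submodule W P₂)) (i : ℕ) (x : P₁) :
    ((U b₁ F₁ F₂ hF₁)^[i] ω) x ∈ 𝔠 • (⊤ : Submodule W P₂) := by
  induction i generalizing x with
  | zero => exact hω x
  | succ i ih =>
    rw [Function.iterate_succ_apply']
    exact U_mem b₁ F₁ F₂ hF₁ _ _ h𝔠F _ ih x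

lemma iterate_U_eq_zero (𝔠 : Ideal W) (k : ℕ) (hk : ∀ x ∈ 𝔠, σ^[k] x = 0) (ω : P₁ →ₗ[W] P₂)
    (hω : ∀ x, ω x ∈ 𝔠 • (⊤ : Submodule W P₂)) :
    (U b₁ F₁ F₂ hF₁)^[k] ω = 0 := by
  ext x
  have := iterate_U_mem b₁ F₁ F₂ hF₁ 𝔠 ω hω k x
  rw [chain_eq_bot 𝔠 k hk, Submodule.bot_smul] at this
  simpa using this

include b₁ hF₁ in
/-- Existence of an `F`-equivariant lift congruent to `α₀` modulo `𝔠`. -/
theorem exists_lift (𝔠 : Ideal W) (h𝔠F : ∀ x ∈ 𝔠, σ x ∈ 𝔠) (k : ℕ)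
    (hk : ∀ x ∈ 𝔠, σ^[k] x = 0) (α₀ : P₁ →ₗ[W] P₂)
    (hα₀ : ∀ x, F₂ (α₀ x) - α₀ (F₁ x) ∈ 𝔠 • (⊤ : Submodule W P₂)) :
    ∃ α : P₁ →ₗ[W] P₂, (∀ x, α x - α₀ x ∈ 𝔠 • (⊤ : Submodule W P₂)) ∧
      ∀ x, F₂ (α x) = α (F₁ x) := by
  set Uop := U b₁ F₁ F₂ hF₁ with hU
  set D : P₁ →ₗ[W] P₂ := Uop α₀ - α₀ with hDdef
  have hD : ∀ x, D x ∈ 𝔠 • (⊤ : Submodule W P₂) := by
    apply mem_of_basis_mem (c₁ b₁ F₁ hF₁)
    intro j
    rw [c₁_apply, hDdef, LinearMap.sub_apply, hU, U_apply_c₁]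
    exact hα₀ _
  have hDk : Uop^[k] D = 0 := iterate_U_eq_zero b₁ F₁ F₂ hF₁ 𝔠 k hk D hD
  refine ⟨α₀ + ∑ i ∈ Finset.range k, Uop^[i] D, ?_, ?_⟩
  · intro x
    rw [LinearMap.add_apply, add_sub_cancel_left, LinearMap.sum_apply]
    exact Submodule.sum_mem _ fun i _ =>
      iterate_U_mem_of_stable b₁ F₁ F₂ hF₁ 𝔠 h𝔠F D hD i x
  · rw [← U_eq_self_iff b₁ F₁ F₂ hF₁, ← hU, map_add, map_sum]
    have h1 : Uop α₀ = α₀ + D := by rw [hDdef]; abel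
    have h2 : ∀ i, Uop (Uop^[i] D) = Uop^[i + 1] D := fun i =>
      (Function.iterate_succ_apply' _ _ _).symm
    simp only [h2]
    have h3 := Finset.sum_range_succ' (fun i => Uop^[i] D) k
    have h4 := Finset.sum_range_succ (fun i => Uop^[i] D) k
    rw [hDk, add_zero] at h4
    rw [h4] at h3
    simp only [Function.iterate_zero, id_eq] at h3
    rw [h1, add_assoc, add_comm D, ← h3]

include b₁ hF₁ in
/-- Uniqueness of the `F`-equivariant lift modulo an ideal on which `σ` is nilpotent. -/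
theorem unique_lift (𝔠 : Ideal W) (k : ℕ) (hk : ∀ x ∈ 𝔠, σ^[k] x = 0)
    (α α' : P₁ →ₗ[W] P₂) (hd : ∀ x, α x - α' x ∈ 𝔠 • (⊤ : Submodule W P₂))
    (hα : ∀ x, F₂ (α x) = α (F₁ x)) (hα' : ∀ x, F₂ (α' x) = α' (F₁ x)) : α = α' := by
  rw [← U_eq_self_iff b₁ F₁ F₂ hF₁] at hα hα'
  have hδ : U b₁ F₁ F₂ hF₁ (α - α') = α - α' := by rw [map_sub, hα, hα']
  have h1 : (U b₁ F₁ F₂ hF₁)^[k] (α - α') = α - α' := Function.iterate_fixed hδ k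
  have h2 := iterate_U_eq_zero b₁ F₁ F₂ hF₁ 𝔠 k hk (α - α') (fun x => hd x)
  rw [h1] at h2
  exact sub_eq_zero.mp h2

end General

end Groth.Agent.Lib.R2H7.DispLift
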