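import Mathlib

/-!
# A Noetherian local domain which is not a field is dominated by a one-dimensional Noetherian local
ring essentially of finite type inside its fraction field (Stacks 00PH)
-/

set_option autoImplicit false

namespace Groth.Agent.Lib.R2H7.DomDimOne

open IsLocalRing

universe u

theorem main (R : Type u) [CommRing R] [IsDomain R] [IsNoetherianRing R] [IsLocalRing R]
    (hR : ¬ IsField R) (K : Type u) [Field K] [Algebra R K] [IsFractionRing R K] :
    ∃ R' : Subalgebra R K, ∃ _ : IsLocalRing R',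
      IsNoetherianRing R' ∧ ringKrullDim R' = 1 ∧ IsLocalHom (algebraMap R R') ∧
        Algebra.EssFiniteType R R' := by
  classical
  obtain ⟨A, hA, hloc⟩ := IsLocalRing.exists_factor_valuationRing (algebraMap R K)
  have hinj : Function.Injective (algebraMap R K) := IsFractionRing.injective R K
  have hvm : ∀ a ∈ maximalIdeal R, A.valuation (algebraMap R K a) < 1 := by
    intro a ha
    by_contra hcon
    rw [not_lt] at hcon
    have hle : A.valuation (algebraMap R K a) ≤ 1 := (A.valuation_le_one_iff _).mpr (hA a)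
    have h1 : A.valuation (algebraMap R K a) = 1 := le_antisymm hle hcon
    have ha0 : algebraMap R K a ≠ 0 := fun h0 => by
      rw [h0, map_zero] at h1; exact zero_ne_one h1
    have hinvA : (algebraMap R K a)⁻¹ ∈ A := by
      rw [← A.valuation_le_one_iff, map_inv₀, h1, inv_one]
    have hu : IsUnit ((algebraMap R K).codRestrict A.toSubring hA a) :=
      isUnit_iff_exists_inv.mpr
        ⟨⟨(algebraMap R K a)⁻¹, hinvA⟩, Subtype.ext (mul_inv_cancel₀ ha0)⟩
    exact (mem_nonunits_iff.mp ((mem_maximalIdeal a).mp ha)) (hloc.map_nonunit a hu)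
  -- generators of the maximal ideal
  obtain ⟨s, hs⟩ := (isNoetherianRing_iff_ideal_fg R).mp ‹_› (maximalIdeal R)
  have hm0 : maximalIdeal R ≠ ⊥ := fun h => hR (IsLocalRing.isField_iff_maximalIdeal_eq.mpr h)
  have hsne : ∃ y ∈ s, y ≠ 0 := by
    by_contra hcon
    push Not at hcon
    apply hm0
    rw [← hs, Ideal.span_eq_bot]
    exact fun y hy => hcon y hy
  obtain ⟨y0, hy0s, hy00⟩ := hsne
  obtain ⟨x0, hx0s, hmaxv⟩ :=
    Finset.exists_max_image s (fun y => A.valuation (algebraMap R K y)) ⟨y0, hy0s⟩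
  have hx0m : x0 ∈ maximalIdeal R := hs ▸ Ideal.subset_span hx0s
  have hx00 : x0 ≠ 0 := by
    intro h0
    have h1 := hmaxv y0 hy0s
    simp only [h0, map_zero] at h1
    exact hy00 (hinj (by rw [map_zero]; exact (Valuation.zero_iff _).mp (le_antisymm h1 zero_le)))
  have hξ0 : algebraMap R K x0 ≠ 0 := (map_ne_zero_iff _ hinj).mpr hx00
  have hvξ0 : (0 : A.ValueGroup) < A.valuation (algebraMap R K x0) :=
    zero_lt_iff.mpr ((Valuation.ne_zero_iff _).mpr hξ0)
  -- the ring S
  obtain ⟨G, hG⟩ : ∃ G : Finset K, G = s.image (fun y => algebraMap R K y / algebraMap R K x0) :=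
    ⟨_, rfl⟩
  obtain ⟨S, hSdef⟩ : ∃ S : Subalgebra R K, S = Algebra.adjoin R (G : Set K) := ⟨_, rfl⟩
  have hSA : ∀ z ∈ S, z ∈ A := by
    intro z hz
    rw [hSdef] at hz
    induction hz using Algebra.adjoin_induction with
    | mem z hz =>
      rw [hG] at hz
      obtain ⟨y, hy, rfl⟩ := Finset.mem_image.mp (Finset.mem_coe.mp hz)
      rw [← A.valuation_le_one_iff, map_div₀]
      exact (div_le_one₀ hvξ0).mpr (hmaxv y hy)
    | algebraMap r => exact hA r
    | add _ _ _ _ h1 h2 => exact add_mem h1 h2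
    | mul _ _ _ _ h1 h2 => exact mul_mem h1 h2
  haveI hft : Algebra.FiniteType R S := by
    rw [← Subalgebra.fg_iff_finiteType, hSdef]
    exact Subalgebra.fg_adjoin_finset G
  haveI hSnoeth : IsNoetherianRing S := Algebra.FiniteType.isNoetherianRing R S
  haveI : FaithfulSMul S K := (faithfulSMul_iff_algebraMap_injective S K).mpr Subtype.val_injective
  haveI : IsFractionRing S K := IsFractionRing.of_field S K (fun z => by
    obtain ⟨a, b, _, rfl⟩ := IsFractionRing.div_surjective R z
    exact ⟨algebraMap R S a, algebraMap R S b, rfl⟩)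
  -- the principal ideal
  obtain ⟨ξS, hξS⟩ : ∃ ξS : S, (ξS : K) = algebraMap R K x0 := ⟨algebraMap R S x0, rfl⟩
  have hξS0 : ξS ≠ 0 := fun h => hξ0 (by rw [← hξS, h]; rfl)
  have hI : Ideal.span {ξS} ≠ ⊤ := by
    intro h
    rw [Ideal.span_singleton_eq_top] at h
    obtain ⟨b, hb⟩ := isUnit_iff_exists_inv.mp h
    have hb' : algebraMap R K x0 * (b : K) = 1 := by
      rw [← hξS]; exact congrArg Subtype.val hb
    have hbA : (b : K) ∈ A := hSA _ b.2
    have h1 : A.valuation (algebraMap R K x0) * A.valuation (b : K) = 1 := by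
      rw [← map_mul, hb', map_one]
    have h2 : A.valuation (b : K) ≤ 1 := (A.valuation_le_one_iff _).mpr hbA
    have h3 : A.valuation (algebraMap R K x0) * A.valuation (b : K) < 1 :=
      lt_of_le_of_lt (mul_le_mul' le_rfl h2) (by rw [mul_one]; exact hvm x0 hx0m)
    rw [h1] at h3
    exact lt_irrefl _ h3
  have hmI : ∀ a ∈ maximalIdeal R, algebraMap R S a ∈ Ideal.span {ξS} := by
    have hle : (maximalIdeal R).map (algebraMap R S) ≤ Ideal.span {ξS} := by
      rw [← hs, Ideal.map_span, Ideal.span_le]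
      rintro _ ⟨y, hy, rfl⟩
      show algebraMap R S y ∈ Ideal.span {ξS}
      rw [Ideal.mem_span_singleton']
      refine ⟨⟨algebraMap R K y / algebraMap R K x0, ?_⟩, Subtype.ext ?_⟩
      · rw [hSdef]
        refine Algebra.subset_adjoin (Finset.mem_coe.mpr ?_)
        rw [hG]
        exact Finset.mem_image_of_mem _ hy
      · show algebraMap R K y / algebraMap R K x0 * (ξS : K) = algebraMap R K y
        rw [hξS]
        exact div_mul_cancel₀ _ hξ0
    exact fun a ha => hle (Ideal.mem_map_of_mem _ ha)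
  obtain ⟨⟨q, hq⟩⟩ := Ideal.nonempty_minimalPrimes hI
  haveI hqp : q.IsPrime := hq.1.1
  have hIq : Ideal.span {ξS} ≤ q := hq.1.2
  haveI : (Ideal.span {ξS}).IsPrincipal := ⟨⟨ξS, rfl⟩⟩
  have hht1 : q.height ≤ 1 :=
    Ideal.height_le_one_of_isPrincipal_of_mem_minimalPrimes (Ideal.span {ξS}) q hq
  have hqbot : q ≠ ⊥ := fun h => hξS0 (by
    have : ξS ∈ q := hIq (Ideal.mem_span_singleton_self ξS)
    rw [h] at this
    exact this)
  have hht2 : 1 ≤ q.height := by
    rw [ENat.one_le_iff_ne_zero, Ne, Ideal.height_eq_zero_iff_eq_bot]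
    exact hqbot
  have hht : q.height = 1 := le_antisymm hht1 hht2
  -- the localization inside K
  obtain ⟨B, hBdef⟩ : ∃ B : Subalgebra S K,
      B = Localization.subalgebra.ofField K q.primeCompl q.primeCompl_le_nonZeroDivisors :=
    ⟨_, rfl⟩
  haveI hBloc : IsLocalization.AtPrime B q := by
    rw [hBdef]; exact Localization.subalgebra.isLocalization_ofField K q.primeCompl _
  haveI hBlocal : IsLocalRing B := IsLocalization.AtPrime.isLocalRing B q
  have hBnoeth : IsNoetherianRing B := IsLocalization.isNoetherianRing q.primeCompl B hSnoeth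
  have hBdim : ringKrullDim B = 1 := by
    rw [IsLocalization.AtPrime.ringKrullDim_eq_height q B, hht]
    rfl
  have hBhom : IsLocalHom (algebraMap R B) := by
    constructor
    intro a ha
    by_contra hna
    have ham : a ∈ maximalIdeal R := (mem_maximalIdeal a).mpr (mem_nonunits_iff.mpr hna)
    have haq : algebraMap R S a ∈ q := hIq (hmI a ham)
    rw [IsScalarTower.algebraMap_apply R S B, IsLocalization.AtPrime.isUnit_to_map_iff B q] at ha
    exact ha haq
  haveI : Algebra.EssFiniteType S B := Algebra.EssFiniteType.of_isLocalization B q.primeCompl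
  have hBess : Algebra.EssFiniteType R B := Algebra.EssFiniteType.comp R S B
  exact ⟨B.restrictScalars R, hBlocal, hBnoeth, hBdim, hBhom, hBess⟩

end Groth.Agent.Lib.R2H7.DomDimOne
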