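import Groth.Agent.Lib.Helper25Comod
import Mathlib.LinearAlgebra.Contraction

/-!
# The dual of a finite projective left comodule (helper7, round 2)

Let `e : D → C` be an anti-homomorphism of coalgebras (for instance the identity from the
co-opposite of `C` to `C`).  A right `D`-comodule `M` is then a left `C`-comodule, and when `M` is
finitely generated projective its dual `M* = Hom(M, R)` is a right `C`-comodule: `φ ↦ L_φ` with
`L_φ (m) = Σ φ(m₀) e(m₁)`, read in `M* ⊗ C = Hom(M, C)`.
-/

set_option autoImplicit false

namespace Groth.Agent.Lib.R2H7.DualCoop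

open TensorProduct HopfRep Groth.Agent.Lib.Helper25

universe u v v' w

/-- An anti-homomorphism of coalgebras: a linear map reversing the comultiplication. -/
structure AntiHom (R : Type u) [CommRing R] (D : Type v') [AddCommGroup D] [Module R D]
    [Coalgebra R D] (C : Type v) [AddCommGroup C] [Module R C] [Coalgebra R C] where
  /-- the underlying linear map -/
  toLin : D →ₗ[R] C
  map_comul : ∀ d : D, CoalgebraStruct.comul (R := R) (toLin d) =
    TensorProduct.comm R C C (TensorProduct.map toLin toLin (CoalgebraStruct.comul (R := R) d))
  map_counit : ∀ d : D, CoalgebraStruct.counit (R := R) (toLin d) =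
    CoalgebraStruct.counit (R := R) d

variable {R : Type u} [CommRing R] {C : Type v} [AddCommGroup C] [Module R C] [Coalgebra R C]
  {D : Type v'} [AddCommGroup D] [Module R D] [Coalgebra R D] (e : AntiHom R D C)
  {M : Type w} [AddCommGroup M] [Module R M]

/-- `m ⊗ d ↦ φ(m) e(d)`. -/
noncomputable def psi (φ : Module.Dual R M) : M ⊗[R] D →ₗ[R] C :=
  (TensorProduct.lid R C).toLinearMap ∘ₗ TensorProduct.map φ e.toLin

@[simp] theorem psi_tmul (φ : Module.Dual R M) (m : M) (d : D) :
    psi e φ (m ⊗ₜ[R] d) = φ m • e.toLin d := by
  simp [psi]

theorem psi_add (φ ψ : Module.Dual R M) : psi e (φ + ψ) = psi e φ + psi e ψ := by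
  apply TensorProduct.ext'
  intro m d
  simp [add_smul]

theorem psi_smul (r : R) (φ : Module.Dual R M) : psi e (r • φ) = r • psi e φ := by
  apply TensorProduct.ext'
  intro m d
  simp [mul_smul]

/-- `m ⊗ (d₁ ⊗ d₂) ↦ φ(m) (e d₂ ⊗ e d₁)`. -/
noncomputable def kmap (φ : Module.Dual R M) : M ⊗[R] (D ⊗[R] D) →ₗ[R] C ⊗[R] C :=
  (TensorProduct.lid R (C ⊗[R] C)).toLinearMap ∘ₗ
    TensorProduct.map φ ((TensorProduct.comm R C C).toLinearMap ∘ₗ
      TensorProduct.map e.toLin e.toLin)

theorem counit_psi (φ : Module.Dual R M) (x : M ⊗[R] D) :
    CoalgebraStruct.counit (R := R) (psi e φ x) =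
      φ (TensorProduct.rid R M ((CoalgebraStruct.counit (R := R) (A := D)).lTensor M x)) := by
  induction x using TensorProduct.induction_on with
  | zero => simp
  | add x y hx hy => simp only [map_add, hx, hy]
  | tmul m d => simp [e.map_counit, mul_comm]

theorem comul_psi (φ : Module.Dual R M) (x : M ⊗[R] D) :
    CoalgebraStruct.comul (R := R) (psi e φ x) =
      kmap e φ ((CoalgebraStruct.comul (R := R) (A := D)).lTensor M x) := by
  induction x using TensorProduct.induction_on with
  | zero => simp
  | add x y hx hy => simp only [map_add, hx, hy]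
  | tmul m d => simp [kmap, e.map_comul]

theorem kmap_assoc (φ : Module.Dual R M) (t : (M ⊗[R] D) ⊗[R] D) :
    kmap e φ (TensorProduct.assoc R M D D t) =
      TensorProduct.comm R C C (TensorProduct.map (psi e φ) e.toLin t) := by
  induction t using TensorProduct.induction_on with
  | zero => simp
  | add x y hx hy => simp only [map_add, hx, hy]
  | tmul x d₂ =>
    induction x using TensorProduct.induction_on with
    | zero => simp
    | add x y hx hy => simp only [map_add, TensorProduct.add_tmul, hx, hy]
    | tmul m d₁ => simp [kmap, TensorProduct.tmul_smul]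

variable [Comod R D M]

/-- `φ ↦ L_φ`, where `L_φ (m) = Σ φ(m₀) e(m₁)`. -/
noncomputable def lmapL : Module.Dual R M →ₗ[R] (M →ₗ[R] C) where
  toFun φ := psi e φ ∘ₗ Comod.coact (k := R) (A := D)
  map_add' φ ψ := by rw [psi_add, LinearMap.add_comp]
  map_smul' r φ := by rw [psi_smul, LinearMap.smul_comp]; rfl

theorem lmapL_apply (φ : Module.Dual R M) (m : M) :
    lmapL e φ m = psi e φ (Comod.coact (k := R) (A := D) m) := rfl

theorem counit_lmapL (φ : Module.Dual R M) (m : M) :
    CoalgebraStruct.counit (R := R) (lmapL e φ m) = φ m := by
  rw [lmapL_apply, counit_psi, counit_apply]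
  simp

theorem comul_lmapL (φ : Module.Dual R M) (m : M) :
    CoalgebraStruct.comul (R := R) (lmapL e φ m) =
      TensorProduct.comm R C C (TensorProduct.map (lmapL e φ) e.toLin
        (Comod.coact (k := R) (A := D) m)) := by
  have h := coassoc_apply (k := R) (A := D) m
  have h' : (CoalgebraStruct.comul (R := R) (A := D)).lTensor M
      (Comod.coact (k := R) (A := D) m) = TensorProduct.assoc R M D D
        ((Comod.coact (k := R) (A := D)).rTensor D (Comod.coact (k := R) (A := D) m)) := by
    rw [h, LinearEquiv.apply_symm_apply]
  rw [lmapL_apply, comul_psi, h', kmap_assoc]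
  congr 1
  generalize Comod.coact (k := R) (A := D) m = x
  induction x using TensorProduct.induction_on with
  | zero => simp
  | add x y hx hy => simp only [map_add, hx, hy]
  | tmul v d => simp [lmapL_apply]

variable [Module.Finite R M] [Module.Projective R M]

/-- The coaction on the dual. -/
noncomputable def dualCoact : Module.Dual R M →ₗ[R] Module.Dual R M ⊗[R] C :=
  (LinearEquiv.ofBijective (dualTensorHom R M C) dualTensorHom_bijective).symm.toLinearMap ∘ₗ
    lmapL e

theorem dualTensorHom_dualCoact (φ : Module.Dual R M) :
    dualTensorHom R M C (dualCoact e φ) = lmapL e φ := by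
  unfold dualCoact
  rw [LinearMap.comp_apply, LinearEquiv.coe_coe]
  exact (LinearEquiv.ofBijective (dualTensorHom R M C) dualTensorHom_bijective).apply_symm_apply _

omit [Coalgebra R C] [Module.Finite R M] [Module.Projective R M] [Comod R D M] in
theorem dualTensorHom_assoc_tmul' (z : Module.Dual R M ⊗[R] C) (c : C) (m : M) :
    dualTensorHom R M (C ⊗[R] C) (TensorProduct.assoc R (Module.Dual R M) C C (z ⊗ₜ[R] c)) m =
      dualTensorHom R M C z m ⊗ₜ[R] c := by
  induction z using TensorProduct.induction_on with
  | zero => simp
  | add x y hx hy => simp only [TensorProduct.add_tmul, map_add, LinearMap.add_apply, hx, hy]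
  | tmul g a => simp [TensorProduct.smul_tmul']

theorem dualTensorHom_assoc_rTensor_dualCoact (y : Module.Dual R M ⊗[R] C) (m : M) :
    dualTensorHom R M (C ⊗[R] C) (TensorProduct.assoc R (Module.Dual R M) C C
        ((dualCoact e).rTensor C y)) m =
      TensorProduct.comm R C C (TensorProduct.map (dualTensorHom R M C y) e.toLin
        (Comod.coact (k := R) (A := D) m)) := by
  induction y using TensorProduct.induction_on with
  | zero => simp
  | add x y hx hy =>
    simp only [map_add, LinearMap.add_apply, hx, hy, TensorProduct.map_add_left]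
  | tmul ψ c =>
    rw [LinearMap.rTensor_tmul, dualTensorHom_assoc_tmul', dualTensorHom_dualCoact, lmapL_apply]
    generalize Comod.coact (k := R) (A := D) m = x
    induction x using TensorProduct.induction_on with
    | zero => simp
    | add x y hx hy => simp only [map_add, TensorProduct.add_tmul, hx, hy]
    | tmul v d =>
      simp only [psi_tmul, TensorProduct.map_tmul, dualTensorHom_apply, TensorProduct.comm_tmul,
        TensorProduct.smul_tmul', TensorProduct.tmul_smul]

/-- The right `C`-comodule structure on the dual of a finite projective right `D`-comodule,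
for an anti-homomorphism `e : D → C`. -/
@[reducible] noncomputable def dualComod : Comod R C (Module.Dual R M) where
  coact := dualCoact e
  coassoc := by
    apply LinearMap.ext
    intro φ
    apply (dualTensorHom_bijective (R := R) (M := M) (N := C ⊗[R] C)).1
    apply LinearMap.ext
    intro m
    simp only [LinearMap.comp_apply, LinearEquiv.coe_coe]
    rw [dualTensorHom_assoc_rTensor_dualCoact, dualTensorHom_dualCoact]
    have h := LinearMap.congr_fun (dualTensorHom_comp_lTensor (R := R) (M := M)
      (CoalgebraStruct.comul (R := R) (A := C))) (dualCoact e φ)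
    simp only [LinearMap.comp_apply] at h
    rw [h, dualTensorHom_dualCoact, ← comul_lmapL]
    rfl
  counit_comp := by
    apply LinearMap.ext
    intro φ
    apply (dualTensorHom_bijective (R := R) (M := M) (N := R)).1
    apply LinearMap.ext
    intro m
    have h := LinearMap.congr_fun (dualTensorHom_comp_lTensor (R := R) (M := M)
      (CoalgebraStruct.counit (R := R) (A := C))) (dualCoact e φ)
    simp only [LinearMap.comp_apply] at h
    rw [LinearMap.comp_apply, h, dualTensorHom_dualCoact]
    simp only [LinearMap.compRight_apply, LinearMap.comp_apply, LinearMap.flip_apply,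
      TensorProduct.mk_apply, dualTensorHom_apply, smul_eq_mul, mul_one]
    exact counit_lmapL e φ m

theorem dualComod_coact (φ : Module.Dual R M) :
    (dualComod e (M := M)).coact φ = dualCoact e φ := rfl

end Groth.Agent.Lib.R2H7.DualCoop
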