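/-
`Ext^1(M, N)` for `M = A + ∑ A e_j ⊂ R` with an arbitrary relation module: its length is the
relative length of two explicit `A`-lattices in `R^r`.  (helper7)
-/
import Mathlib
import Groth.Agent.Lib.R2H7ExtAmb

set_option autoImplicit false
open CategoryTheory CategoryTheory.Abelian

noncomputable section

namespace Groth.Agent.Lib.R2H7.ExtAmbG

open Groth.Agent.Lib.R2H7.CanDual

universe u

variable {k : Type*} [Field k] {R : Type u} [CommRing R] [Algebra k R] (A : Subalgebra k R)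
variable {r : ℕ} (e : Fin r → R) (c₀ : ↥A)

set_option synthInstance.maxHeartbeats 400000 in
set_option maxHeartbeats 3200000 in
/-- `ℓ Ext¹(M, N) = ℓ(H / P)` where `H = {z ∈ R^r : ∑ a_j z_j ∈ c₀ N for all relations a}` and
`P = {(c₀ (x_j - e_j x_0))_j}`. -/
theorem length_ext_one {M N : Type u} [AddCommGroup M] [Module ↥A M] [AddCommGroup N]
    [Module ↥A N] (ιM : M →ₗ[↥A] R) (ιN : N →ₗ[↥A] R) (hιM : Function.Injective ιM)
    (hιN : Function.Injective ιN) (hc₀e : ∀ j, (c₀ : R) * e j ∈ A)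
    (hc₀ : ∀ x : R, (c₀ : R) * x = 0 → x = 0)
    (hM : LinearMap.range ιM = Submodule.span ↥A (insert 1 (Set.range e)))
    (H P : Submodule ↥A (Fin r → R))
    (hH : ∀ z, z ∈ H ↔ ∀ a : Fin r → ↥A, (∑ j, (a j : R) * e j) ∈ A →
      ∃ y : N, ∑ j, (a j : R) * z j = (c₀ : R) * ιN y)
    (hP : ∀ z, z ∈ P ↔ ∃ (x0 : N) (x : Fin r → N),
      ∀ j, z j = (c₀ : R) * (ιN (x j) - e j * ιN x0)) :
    Module.length ↥A (Ext.{u} (ModuleCat.of ↥A M) (ModuleCat.of ↥A N) 1) = relLen P H := by
  classical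
  have h1 : (1 : R) ∈ LinearMap.range ιM := by
    rw [hM]; exact Submodule.subset_span (Set.mem_insert _ _)
  obtain ⟨m0, hm0⟩ := h1
  have he : ∀ j, e j ∈ LinearMap.range ιM := by
    intro j
    rw [hM]; exact Submodule.subset_span (Set.mem_insert_of_mem _ ⟨j, rfl⟩)
  choose m hm using he
  have hspan : Submodule.span ↥A (insert m0 (Set.range m)) = ⊤ := by
    apply Submodule.map_injective_of_injective hιM
    have hcomp : ⇑ιM ∘ m = e := funext hm
    rw [Submodule.map_span, Submodule.map_top, hM, Set.image_insert_eq, hm0, ← Set.range_comp,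
      hcomp]
  have hsm : ∀ (a : ↥A) (x : R), a • x = (a : R) * x := fun a x => Subalgebra.smul_def a x
  set pr : (↥A × (Fin r → ↥A)) →ₗ[↥A] M := ExtGen.pres m0 m with hpr
  have key : ∀ x : ↥A × (Fin r → ↥A), ιM (pr x) = (x.1 : R) + ∑ j, (x.2 j : R) * e j := by
    intro x
    rw [hpr, ExtGen.pres_apply, map_add, map_sum, map_smul, hm0, hsm, mul_one]
    congr 1
    refine Finset.sum_congr rfl fun j _ => ?_
    rw [map_smul, hm j, hsm]
  have hK : ∀ x : ↥A × (Fin r → ↥A), x ∈ LinearMap.ker pr ↔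
      (x.1 : R) + ∑ j, (x.2 j : R) * e j = 0 := by
    intro x
    rw [LinearMap.mem_ker, ← (injective_iff_map_eq_zero' ιM).mp hιM, key]
  set K₁ := LinearMap.ker pr with hK₁
  obtain ⟨dl, hdl, hker⟩ := GrLDExt.exists_ext_one_coker N K₁.subtype pr
    (Submodule.injective_subtype _) (ExtGen.pres_surjective m0 m hspan)
    (LinearMap.exact_subtype_ker_map _)
  let rest : ((↥A × (Fin r → ↥A)) →ₗ[↥A] N) →ₗ[↥A] (↥K₁ →ₗ[↥A] N) :=
    LinearMap.lcomp ↥A N K₁.subtype
  have hrest : ∀ χ x, rest χ x = χ x.1 := fun χ x => rfl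
  have hkerdl : LinearMap.ker dl = LinearMap.range rest := by
    ext φ
    rw [LinearMap.mem_ker, hker, LinearMap.mem_range]
    rfl
  -- the special relations
  let ce : Fin r → ↥A := fun j => ⟨(c₀ : R) * e j, hc₀e j⟩
  have hκmem : ∀ j, ((-ce j, Pi.single j c₀) : ↥A × (Fin r → ↥A)) ∈ K₁ := by
    intro j
    rw [hK]
    change ((-ce j : ↥A) : R) + ∑ i, ((Pi.single j c₀ : Fin r → ↥A) i : R) * e i = 0
    rw [Finset.sum_eq_single j]
    · rw [Pi.single_eq_same, NegMemClass.coe_neg]
      change -((c₀ : R) * e j) + (c₀ : R) * e j = 0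
      ring
    · intro i _ hi
      rw [Pi.single_eq_of_ne hi]
      simp
    · intro h
      exact absurd (Finset.mem_univ j) h
  let κ : Fin r → ↥K₁ := fun j => ⟨_, hκmem j⟩
  have hκ : ∀ (x : ↥K₁), c₀ • x = ∑ j, x.1.2 j • κ j := by
    intro x
    apply Subtype.ext
    have hx := (hK x.1).mp x.2
    rw [Submodule.coe_smul, Submodule.coe_sum]
    simp only [Submodule.coe_smul]
    refine Prod.ext ?_ ?_
    · rw [Prod.smul_fst, Prod.fst_sum]
      apply Subtype.ext
      rw [smul_eq_mul, Subalgebra.coe_mul, AddSubmonoidClass.coe_finsetSum]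
      have : ∀ j, (((x.1.2 j • ((-ce j, Pi.single j c₀) : ↥A × (Fin r → ↥A))).1 : ↥A) : R) =
          -((c₀ : R) * ((x.1.2 j : R) * e j)) := by
        intro j
        change ((x.1.2 j * (-ce j) : ↥A) : R) = _
        rw [Subalgebra.coe_mul, NegMemClass.coe_neg]
        change (x.1.2 j : R) * -((c₀ : R) * e j) = _
        ring
      rw [Finset.sum_congr rfl (fun j _ => this j), Finset.sum_neg_distrib, ← Finset.mul_sum]
      linear_combination (c₀ : R) * hx
    · rw [Prod.smul_snd, Prod.snd_sum]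
      funext i
      rw [Pi.smul_apply, Finset.sum_apply, Finset.sum_eq_single i]
      · change c₀ * x.1.2 i = x.1.2 i * (Pi.single i c₀ : Fin r → ↥A) i
        rw [Pi.single_eq_same, mul_comm]
      · intro j _ hj
        change x.1.2 j * (Pi.single j c₀ : Fin r → ↥A) i = 0
        rw [Pi.single_eq_of_ne (Ne.symm hj), mul_zero]
      · intro h
        exact absurd (Finset.mem_univ i) h
  let Θ : (↥K₁ →ₗ[↥A] N) →ₗ[↥A] (Fin r → R) :=
    LinearMap.pi fun j => ιN ∘ₗ LinearMap.applyₗ (κ j)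
  have hΘ : ∀ φ j, Θ φ j = ιN (φ (κ j)) := fun φ j => rfl
  have F1 : ∀ (φ : ↥K₁ →ₗ[↥A] N) (x : ↥K₁),
      (c₀ : R) * ιN (φ x) = ∑ j, (x.1.2 j : R) * Θ φ j := by
    intro φ x
    have h := congrArg (fun y => ιN (φ y)) (hκ x)
    simp only [map_smul, map_sum, hsm] at h
    exact h
  have hΘinj : Function.Injective Θ := by
    rw [injective_iff_map_eq_zero]
    intro φ hφ
    ext x
    have := F1 φ x
    rw [hφ] at this
    simp only [Pi.zero_apply, mul_zero, Finset.sum_const_zero] at this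
    rw [LinearMap.zero_apply]
    exact (injective_iff_map_eq_zero' ιN).mp hιN _ |>.mp (hc₀ _ this)
  have hTop : (⊤ : Submodule ↥A (↥K₁ →ₗ[↥A] N)).map Θ = H := by
    rw [Submodule.map_top]
    ext z
    rw [LinearMap.mem_range, hH]
    constructor
    · rintro ⟨φ, rfl⟩ a ha
      have hxmem : ((-⟨_, ha⟩, a) : ↥A × (Fin r → ↥A)) ∈ K₁ := by
        rw [hK]
        change ((-(⟨_, ha⟩ : ↥A) : ↥A) : R) + ∑ j, (a j : R) * e j = 0
        rw [NegMemClass.coe_neg]
        exact neg_add_cancel _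
      refine ⟨φ ⟨_, hxmem⟩, ?_⟩
      rw [F1 φ ⟨_, hxmem⟩]
    · intro hz
      let lam : N →ₗ[↥A] R := (LinearMap.lsmul ↥A R c₀) ∘ₗ ιN
      have hlam : ∀ y, lam y = (c₀ : R) * ιN y := fun y => hsm _ _
      have hlaminj : Function.Injective lam := by
        rw [injective_iff_map_eq_zero]
        intro y hy
        rw [hlam] at hy
        exact (injective_iff_map_eq_zero' ιN).mp hιN _ |>.mp (hc₀ _ hy)
      let mu : ↥K₁ →ₗ[↥A] R :=
        (∑ j, (LinearMap.toSpanSingleton ↥A R (z j)) ∘ₗ LinearMap.proj j ∘ₗ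
          LinearMap.snd ↥A ↥A (Fin r → ↥A)) ∘ₗ K₁.subtype
      have hmu : ∀ x : ↥K₁, mu x = ∑ j, (x.1.2 j : R) * z j := by
        intro x
        change (∑ j, (LinearMap.toSpanSingleton ↥A R (z j)) ∘ₗ LinearMap.proj j ∘ₗ
          LinearMap.snd ↥A ↥A (Fin r → ↥A)) x.1 = _
        rw [LinearMap.sum_apply]
        refine Finset.sum_congr rfl fun j _ => ?_
        exact hsm _ _
      have hmur : ∀ x : ↥K₁, mu x ∈ LinearMap.range lam := by
        intro x
        have hx := (hK x.1).mp x.2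
        have ha : (∑ j, (x.1.2 j : R) * e j) ∈ A := by
          have : (∑ j, (x.1.2 j : R) * e j) = -(x.1.1 : R) := by linear_combination hx
          rw [this]
          exact A.neg_mem x.1.1.2
        obtain ⟨y, hy⟩ := hz x.1.2 ha
        exact ⟨y, by rw [hlam, hmu, ← hy]⟩
      let φ : ↥K₁ →ₗ[↥A] N :=
        (LinearEquiv.ofInjective lam hlaminj).symm.toLinearMap ∘ₗ
          (mu.codRestrict (LinearMap.range lam) hmur)
      have hφ : ∀ x : ↥K₁, lam (φ x) = mu x := by
        intro x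
        have := (LinearEquiv.ofInjective lam hlaminj).apply_symm_apply ⟨mu x, hmur x⟩
        exact congrArg Subtype.val this
      refine ⟨φ, ?_⟩
      funext j
      rw [hΘ]
      have h3 := hφ (κ j)
      rw [hlam, hmu] at h3
      have h5 : ∑ i, (((κ j).1.2 i : ↥A) : R) * z i = (c₀ : R) * z j := by
        rw [Finset.sum_eq_single j]
        · change (((Pi.single j c₀ : Fin r → ↥A) j : ↥A) : R) * z j = _
          rw [Pi.single_eq_same]
        · intro i _ hi
          change (((Pi.single j c₀ : Fin r → ↥A) i : ↥A) : R) * z i = 0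
          rw [Pi.single_eq_of_ne hi]
          simp
        · intro h
          exact absurd (Finset.mem_univ j) h
      rw [h5] at h3
      have h4 : (c₀ : R) * (ιN (φ (κ j)) - z j) = 0 := by
        rw [mul_sub, h3]
        exact sub_self _
      exact sub_eq_zero.mp (hc₀ _ h4)
  have hχ : ∀ (χ : (↥A × (Fin r → ↥A)) →ₗ[↥A] N) (j : Fin r),
      Θ (rest χ) j = (c₀ : R) * (ιN (χ (0, Pi.single j 1)) - e j * ιN (χ (1, 0))) := by
    intro χ j
    rw [hΘ, hrest]
    have h3 : ((-ce j, Pi.single j c₀) : ↥A × (Fin r → ↥A)) =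
        (-ce j) • ((1, 0) : ↥A × (Fin r → ↥A)) +
          c₀ • ((0, Pi.single j 1) : ↥A × (Fin r → ↥A)) := by
      refine Prod.ext ?_ ?_
      · simp
      · funext j'
        by_cases hj' : j' = j
        · subst hj'
          simp
        · simp [Pi.single_eq_of_ne hj']
    change ιN (χ ((-ce j, Pi.single j c₀) : ↥A × (Fin r → ↥A))) = _
    rw [h3, map_add, map_smul, map_smul, map_add, map_smul, map_smul, hsm, hsm,
      NegMemClass.coe_neg]
    change -((c₀ : R) * e j) * _ + _ = _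
    ring
  have hBmap : (LinearMap.range rest).map Θ = P := by
    ext z
    rw [hP, Submodule.mem_map]
    constructor
    · rintro ⟨_, ⟨χ, rfl⟩, rfl⟩
      exact ⟨χ (1, 0), fun j => χ (0, Pi.single j 1), fun j => hχ χ j⟩
    · rintro ⟨x0, x, hx⟩
      refine ⟨_, ⟨(LinearMap.toSpanSingleton ↥A N x0).coprod (Fintype.linearCombination ↥A x),
        rfl⟩, ?_⟩
      funext j
      rw [hχ, hx j]
      congr 2
      · congr 1
        simp [Fintype.linearCombination_apply, Pi.single_apply]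
      · congr 2
        simp [Fintype.linearCombination_apply]
  have e1 := dl.quotKerEquivOfSurjective hdl
  rw [← e1.length_eq, (Submodule.quotEquivOfEq _ _ hkerdl).length_eq, ← ExtAmb.relLen_top,
    ← relLen_map Θ hΘinj, hBmap, hTop]

end Groth.Agent.Lib.R2H7.ExtAmbG
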