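/-
`Ext^1(M, M)` lengths for the rank one torsion free modules over the `E_6` curve singularity
`k⟦t³, t⁴⟧` (S15041).  (helper7)
-/
import Mathlib
import Groth.Agent.Lib.R2H7MonoExt
import Groth.Agent.Lib.R2H7ExtAmbG

set_option autoImplicit false
open CategoryTheory CategoryTheory.Abelian

noncomputable section

namespace Groth.Agent.Lib.R2H7.E6

open PowerSeries Groth.Agent.Lib.R2H7.CanDual Groth.Agent.Lib.R2H7.MonoLen

universe u

/-- the semigroup `⟨3, 4⟩` -/
def Γ6 : Set ℕ := {m | m ≠ 1 ∧ m ≠ 2 ∧ m ≠ 5}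

theorem mem_Γ6 {m : ℕ} : m ∈ Γ6 ↔ (m ≠ 1 ∧ m ≠ 2 ∧ m ≠ 5) := Iff.rfl

theorem mem_closure_iff (m : ℕ) :
    m ∈ AddSubmonoid.closure ({3, 4} : Set ℕ) ↔ (m ≠ 1 ∧ m ≠ 2 ∧ m ≠ 5) := by
  constructor
  · intro h
    induction h using AddSubmonoid.closure_induction with
    | mem x hx =>
      rcases hx with rfl | hx
      · omega
      · rw [Set.mem_singleton_iff] at hx
        omega
    | zero => omega
    | add x y _ _ hx hy => omega
  · intro h
    have h3 : 3 ∈ AddSubmonoid.closure ({3, 4} : Set ℕ) :=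
      AddSubmonoid.subset_closure (Set.mem_insert _ _)
    have h4 : 4 ∈ AddSubmonoid.closure ({3, 4} : Set ℕ) :=
      AddSubmonoid.subset_closure (Set.mem_insert_of_mem _ rfl)
    have h8 : 8 ∈ AddSubmonoid.closure ({3, 4} : Set ℕ) := by
      have : (8 : ℕ) = 4 + 4 := rfl
      rw [this]
      exact AddSubmonoid.add_mem _ h4 h4
    have hlt := Nat.mod_lt m (by norm_num : 3 > 0)
    by_cases h0 : m % 3 = 0
    · have : m = (m / 3) • 3 := by rw [smul_eq_mul]; omega
      rw [this]
      exact AddSubmonoid.nsmul_mem _ h3 _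
    by_cases h1 : m % 3 = 1
    · have : m = 4 + ((m - 4) / 3) • 3 := by rw [smul_eq_mul]; omega
      rw [this]
      exact AddSubmonoid.add_mem _ h4 (AddSubmonoid.nsmul_mem _ h3 _)
    · have : m = 8 + ((m - 8) / 3) • 3 := by rw [smul_eq_mul]; omega
      rw [this]
      exact AddSubmonoid.add_mem _ h8 (AddSubmonoid.nsmul_mem _ h3 _)

variable {k : Type u} [Field k] (A : Subalgebra k (PowerSeries k))
  (hmono : ∀ f : PowerSeries k, f ∈ A ↔ ∀ n : ℕ, PowerSeries.coeff n f ≠ 0 →
    n ∈ AddSubmonoid.closure ({3, 4} : Set ℕ))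

include hmono in
theorem hA : ∀ f, f ∈ A ↔ SuppIn Γ6 f := by
  intro f
  rw [hmono]
  constructor
  · intro h n hn
    exact (mem_closure_iff n).mp (h n hn)
  · intro h n hn
    exact (mem_closure_iff n).mpr (h n hn)

include hmono in
theorem mem_span_pair (g : ℕ) (x : PowerSeries k) :
    x ∈ Submodule.span ↥A ({1, (X : PowerSeries k) ^ g} : Set (PowerSeries k)) ↔
      SuppIn (addSet (↑({0, g} : Finset ℕ) : Set ℕ) Γ6) x := by
  classical
  have hset : ({1, (X : PowerSeries k) ^ g} : Set (PowerSeries k)) =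
      (fun a : ℕ => (X : PowerSeries k) ^ a) '' (↑({0, g} : Finset ℕ) : Set ℕ) := by
    rw [Finset.coe_insert, Finset.coe_singleton, Set.image_insert_eq, Set.image_singleton, pow_zero]
  rw [hset, mem_span_iff A Γ6 (hA A hmono)]

set_option maxHeartbeats 1600000 in
include hmono in
/-- the one-generator case, with all the sets as parameters -/
theorem part_r1 (g c : ℕ) (SI SN SH SP SNm : Set ℕ) (F1 F2 : Finset ℕ)
    (hSIΓ : SI ⊆ Γ6) (hSIid : ∀ s ∈ SI, ∀ t ∈ Γ6, s + t ∈ SI) (hc : c ∈ SI)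
    (heI : ∀ s ∈ SI, s + g ∈ Γ6) (hHc : ∀ s ∈ Γ6, s ∉ SI → s + g ∉ Γ6)
    (hSN : addSet (↑({0, g} : Finset ℕ) : Set ℕ) Γ6 = SN)
    (hSP : ∀ d, d ∈ SP ↔ ∃ t ∈ SN, d = c + t)
    (hSH : ∀ d, d ∈ SH ↔ ∀ s ∈ SI, d + s ∈ SP)
    (hSNm : ∀ d, d ∈ SNm ↔ d ∈ SN ∧ d + g ∈ SN)
    (hF1 : SH \ SP = ↑F1) (hF2 : SN \ SNm = ↑F2) :
    Module.length ↥A (Ext.{u}
      (ModuleCat.of ↥A ↥(Submodule.span ↥A
        ({1, (PowerSeries.X : PowerSeries k) ^ g} : Set (PowerSeries k))))
      (ModuleCat.of ↥A ↥(Submodule.span ↥A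
        ({1, (PowerSeries.X : PowerSeries k) ^ g} : Set (PowerSeries k)))) 1) + (F2.card : ℕ∞) =
      (F1.card : ℕ∞) := by
  classical
  have hA' := hA A hmono
  set Msub := Submodule.span ↥A ({1, (X : PowerSeries k) ^ g} : Set (PowerSeries k)) with hMsub
  have hN : ∀ x, x ∈ LinearMap.range Msub.subtype ↔ SuppIn SN x := by
    intro x
    rw [Submodule.range_subtype, hMsub, ← hSN]
    exact mem_span_pair A hmono g x
  have hM : LinearMap.range Msub.subtype = Submodule.span ↥A
      (insert 1 (Set.range fun _ : Fin 1 => (X : PowerSeries k) ^ g)) := by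
    rw [Submodule.range_subtype, hMsub, Set.range_const]
  have hmain := MonoExt.length_ext_one_add (M := ↥Msub) (N := ↥Msub) A Γ6 hA'
    (fun _ : Fin 1 => g) SI hSIΓ hSIid c hc (fun s hs _ => heI s hs)
    (fun j0 s hs hsI => ⟨hHc s hs hsI, fun j' hj' => absurd (Subsingleton.elim j' j0) hj'⟩)
    Msub.subtype Msub.subtype (Submodule.injective_subtype _) (Submodule.injective_subtype _)
    hM SN hN SH SP SNm hSP hSH
    (fun d => (hSNm d).trans ⟨fun h => ⟨h.1, fun _ => h.2⟩, fun h => ⟨h.1, h.2 0⟩⟩)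
    (by rw [hF1]; exact Finset.finite_toSet _) (by rw [hF2]; exact Finset.finite_toSet _)
  rw [hF1, hF2, Set.ncard_coe_finset, Set.ncard_coe_finset] at hmain
  rw [hmain]
  simp

include hmono in
theorem part1 :
    Module.length ↥A (Ext.{u}
      (ModuleCat.of ↥A ↥(Submodule.span ↥A
        ({1, (PowerSeries.X : PowerSeries k) ^ 5} : Set (PowerSeries k))))
      (ModuleCat.of ↥A ↥(Submodule.span ↥A
        ({1, (PowerSeries.X : PowerSeries k) ^ 5} : Set (PowerSeries k)))) 1) = 2 := by
  have h := part_r1 A hmono 5 3 {s | 3 ≤ s ∧ s ≠ 5} {n | n ≠ 1 ∧ n ≠ 2} {d | 3 ≤ d}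
    {d | 3 ≤ d ∧ d ≠ 4 ∧ d ≠ 5} {n | n ≠ 1 ∧ n ≠ 2} {4, 5} ∅
    (by intro s hs; simp only [Set.mem_ofPred_eq] at hs; rw [mem_Γ6]; omega)
    (by
      intro s hs t ht
      simp only [Set.mem_ofPred_eq] at hs ⊢
      rw [mem_Γ6] at ht
      omega)
    (by simp only [Set.mem_ofPred_eq]; omega)
    (by intro s hs; simp only [Set.mem_ofPred_eq] at hs; rw [mem_Γ6]; omega)
    (by
      intro s hs hsI
      simp only [Set.mem_ofPred_eq] at hsI
      rw [mem_Γ6] at hs ⊢
      omega)
    (by
      ext d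
      constructor
      · rintro ⟨g, hg, s, hs, rfl⟩
        have hg' : g = 0 ∨ g = 5 := by simpa using hg
        rw [mem_Γ6] at hs
        simp only [Set.mem_ofPred_eq]
        rcases hg' with rfl | rfl <;> omega
      · intro hd
        simp only [Set.mem_ofPred_eq] at hd
        by_cases h5 : d = 5
        · exact ⟨5, by simp, 0, mem_Γ6.mpr (by omega), by omega⟩
        · exact ⟨0, by simp, d, mem_Γ6.mpr (by omega), by omega⟩)
    (by
      intro d
      simp only [Set.mem_ofPred_eq]
      constructor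
      · intro hd
        exact ⟨d - 3, by omega, by omega⟩
      · rintro ⟨t, ht, rfl⟩
        omega)
    (by
      intro d
      simp only [Set.mem_ofPred_eq]
      constructor
      · intro hd s hs
        omega
      · intro h
        have h1 := h 3 (by omega)
        have h2 := h 4 (by omega)
        omega)
    (by intro d; simp only [Set.mem_ofPred_eq]; omega)
    (by
      ext d
      simp only [Set.mem_sdiff, Set.mem_ofPred_eq, Finset.coe_insert, Finset.coe_singleton,
        Set.mem_insert_iff, Set.mem_singleton_iff]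
      omega)
    (by simp)
  simpa using h

include hmono in
theorem part2 :
    Module.length ↥A (Ext.{u}
      (ModuleCat.of ↥A ↥(Submodule.span ↥A
        ({1, (PowerSeries.X : PowerSeries k)} : Set (PowerSeries k))))
      (ModuleCat.of ↥A ↥(Submodule.span ↥A
        ({1, (PowerSeries.X : PowerSeries k)} : Set (PowerSeries k)))) 1) = 2 := by
  have h := part_r1 A hmono 1 3 {s | s = 3 ∨ 6 ≤ s} {n | n ≠ 2} {d | d ≠ 2}
    {d | 3 ≤ d ∧ d ≠ 5} {n | n ≠ 2 ∧ n ≠ 1} {0, 1, 5} {1}
    (by intro s hs; simp only [Set.mem_ofPred_eq] at hs; rw [mem_Γ6]; omega)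
    (by
      intro s hs t ht
      simp only [Set.mem_ofPred_eq] at hs ⊢
      rw [mem_Γ6] at ht
      omega)
    (Or.inl rfl)
    (by intro s hs; simp only [Set.mem_ofPred_eq] at hs; rw [mem_Γ6]; omega)
    (by
      intro s hs hsI
      simp only [Set.mem_ofPred_eq] at hsI
      rw [mem_Γ6] at hs ⊢
      omega)
    (by
      ext d
      constructor
      · rintro ⟨g, hg, s, hs, rfl⟩
        have hg' : g = 0 ∨ g = 1 := by simpa using hg
        rw [mem_Γ6] at hs
        simp only [Set.mem_ofPred_eq]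
        rcases hg' with rfl | rfl <;> omega
      · intro hd
        simp only [Set.mem_ofPred_eq] at hd
        by_cases h5 : d = 5 ∨ d = 1
        · exact ⟨1, by simp, d - 1, mem_Γ6.mpr (by omega), by omega⟩
        · exact ⟨0, by simp, d, mem_Γ6.mpr (by omega), by omega⟩)
    (by
      intro d
      simp only [Set.mem_ofPred_eq]
      constructor
      · intro hd
        exact ⟨d - 3, by omega, by omega⟩
      · rintro ⟨t, ht, rfl⟩
        omega)
    (by
      intro d
      simp only [Set.mem_ofPred_eq]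
      constructor
      · intro hd s hs
        omega
      · intro h
        have h1 := h 3 (by omega)
        omega)
    (by intro d; simp only [Set.mem_ofPred_eq]; omega)
    (by
      ext d
      simp only [Set.mem_sdiff, Set.mem_ofPred_eq, Finset.coe_insert, Finset.coe_singleton,
        Set.mem_insert_iff, Set.mem_singleton_iff]
      omega)
    (by
      ext d
      simp only [Set.mem_sdiff, Set.mem_ofPred_eq, Finset.coe_singleton,
        Set.mem_singleton_iff]
      omega)
  rw [pow_one] at h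
  have h3 : ((({0, 1, 5} : Finset ℕ).card : ℕ) : ℕ∞) = 2 + ((({1} : Finset ℕ).card : ℕ) : ℕ∞) := by
    norm_num
  rw [h3] at h
  exact ENat.add_left_injective_of_ne_top (ENat.natCast_ne_top _) h

include hmono in
theorem part3 :
    Module.length ↥A (Ext.{u}
      (ModuleCat.of ↥A ↥(Submodule.span ↥A
        ({1, (PowerSeries.X : PowerSeries k) ^ 2} : Set (PowerSeries k))))
      (ModuleCat.of ↥A ↥(Submodule.span ↥A
        ({1, (PowerSeries.X : PowerSeries k) ^ 2} : Set (PowerSeries k)))) 1) = 4 := by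
  have h := part_r1 A hmono 2 4 {s | s = 4 ∨ 6 ≤ s} {n | n ≠ 1} {d | d ≠ 1}
    {d | 4 ≤ d ∧ d ≠ 5} {n | n ≠ 1} {0, 2, 3, 5} ∅
    (by intro s hs; simp only [Set.mem_ofPred_eq] at hs; rw [mem_Γ6]; omega)
    (by
      intro s hs t ht
      simp only [Set.mem_ofPred_eq] at hs ⊢
      rw [mem_Γ6] at ht
      omega)
    (Or.inl rfl)
    (by intro s hs; simp only [Set.mem_ofPred_eq] at hs; rw [mem_Γ6]; omega)
    (by
      intro s hs hsI
      simp only [Set.mem_ofPred_eq] at hsI
      rw [mem_Γ6] at hs ⊢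
      omega)
    (by
      ext d
      constructor
      · rintro ⟨g, hg, s, hs, rfl⟩
        have hg' : g = 0 ∨ g = 2 := by simpa using hg
        rw [mem_Γ6] at hs
        simp only [Set.mem_ofPred_eq]
        rcases hg' with rfl | rfl <;> omega
      · intro hd
        simp only [Set.mem_ofPred_eq] at hd
        by_cases h5 : d = 5 ∨ d = 2
        · exact ⟨2, by simp, d - 2, mem_Γ6.mpr (by omega), by omega⟩
        · exact ⟨0, by simp, d, mem_Γ6.mpr (by omega), by omega⟩)
    (by
      intro d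
      simp only [Set.mem_ofPred_eq]
      constructor
      · intro hd
        exact ⟨d - 4, by omega, by omega⟩
      · rintro ⟨t, ht, rfl⟩
        omega)
    (by
      intro d
      simp only [Set.mem_ofPred_eq]
      constructor
      · intro hd s hs
        omega
      · intro h
        have h1 := h 4 (by omega)
        omega)
    (by intro d; simp only [Set.mem_ofPred_eq]; omega)
    (by
      ext d
      simp only [Set.mem_sdiff, Set.mem_ofPred_eq, Finset.coe_insert, Finset.coe_singleton,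
        Set.mem_insert_iff, Set.mem_singleton_iff]
      omega)
    (by simp)
  simpa using h

/-- the lattice of pairs divisible by `X^n` -/
def dlat (n : ℕ) : Submodule ↥A (Fin 2 → PowerSeries k) where
  carrier := {z | ∀ j, (X : PowerSeries k) ^ n ∣ z j}
  add_mem' := fun ha hb j => dvd_add (ha j) (hb j)
  zero_mem' := fun j => dvd_zero _
  smul_mem' := fun a z hz j => by
    change X ^ n ∣ a • z j
    rw [Subalgebra.smul_def, smul_eq_mul]
    exact Dvd.dvd.mul_left (hz j) _

theorem mem_dlat {n : ℕ} (z : Fin 2 → PowerSeries k) :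
    z ∈ dlat A n ↔ ∀ j, (X : PowerSeries k) ^ n ∣ z j := Iff.rfl

theorem relLen_dlat [IsLocalRing ↥A]
    (hk : Function.Surjective (IsLocalRing.residue ↥A ∘ algebraMap k ↥A)) {n n' : ℕ}
    (h : n ≤ n') : relLen (dlat A n') (dlat A n) = ((2 * (n' - n) : ℕ) : ℕ∞) := by
  classical
  let T := Fin 2 × Fin (n' - n)
  let c : (Fin 2 → PowerSeries k) →ₗ[k] (T → k) :=
    LinearMap.pi fun p => (coeff (n + p.2.1)) ∘ₗ LinearMap.proj p.1
  have hc : ∀ z (p : T), c z p = coeff (n + p.2.1) (z p.1) := fun z p => rfl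
  rw [relLen_eq_card_of_coeffMap hk _ _ c, Fintype.card_prod, Fintype.card_fin, Fintype.card_fin]
  · intro τ
    refine ⟨fun j => X ^ n * PowerSeries.mk fun s =>
      if h : s < n' - n then τ (j, ⟨s, h⟩) else 0, fun j => dvd_mul_right _ _, ?_⟩
    funext p
    rw [hc]
    change coeff (n + p.2.1) (X ^ n * _) = _
    rw [add_comm, coeff_X_pow_mul, coeff_mk, dif_pos p.2.2]
  · intro z hz
    rw [mem_dlat]
    constructor
    · intro h0 j
      have hzj := hz j
      rw [X_pow_dvd_iff] at hzj ⊢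
      intro q hq
      by_cases hqn : q < n
      · exact hzj q hqn
      · have := congrFun h0 (j, ⟨q - n, by omega⟩)
        rw [hc] at this
        have e : n + (q - n) = q := by omega
        change coeff (n + (q - n)) (z j) = 0 at this
        rwa [e] at this
    · intro h0
      funext p
      rw [hc]
      have := h0 p.1
      rw [X_pow_dvd_iff] at this
      exact this _ (by have := p.2.2; omega)

set_option maxHeartbeats 3200000 in
include hmono in
theorem part4 :
    Module.length ↥A (Ext.{u}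
      (ModuleCat.of ↥A ↥(Submodule.span ↥A
        ({1, (PowerSeries.X : PowerSeries k), (PowerSeries.X : PowerSeries k) ^ 2} :
          Set (PowerSeries k))))
      (ModuleCat.of ↥A ↥(Submodule.span ↥A
        ({1, (PowerSeries.X : PowerSeries k), (PowerSeries.X : PowerSeries k) ^ 2} :
          Set (PowerSeries k)))) 1) = 6 := by
  classical
  have hA' := hA A hmono
  have hcl := isClosedSub A Γ6 hA'
  haveI : IsLocalRing ↥A := CanDualPS.isLocalRing hcl
  have hk := residue_surjective A hcl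
  set Nsub := Submodule.span ↥A
    ({1, (X : PowerSeries k), (X : PowerSeries k) ^ 2} : Set (PowerSeries k)) with hNsub
  have hNtop : ∀ x : PowerSeries k, x ∈ Nsub := by
    intro x
    have hset : ({1, (X : PowerSeries k), (X : PowerSeries k) ^ 2} : Set (PowerSeries k)) =
        (fun a : ℕ => (X : PowerSeries k) ^ a) '' (↑({0, 1, 2} : Finset ℕ) : Set ℕ) := by
      rw [Finset.coe_insert, Finset.coe_insert, Finset.coe_singleton, Set.image_insert_eq,
        Set.image_insert_eq, Set.image_singleton, pow_zero, pow_one]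
    rw [hNsub, hset, mem_span_iff A Γ6 hA']
    intro n _
    by_cases h1 : n = 1 ∨ n = 5
    · exact ⟨1, by simp, n - 1, mem_Γ6.mpr (by omega), by omega⟩
    · by_cases h2 : n = 2
      · exact ⟨2, by simp, 0, mem_Γ6.mpr (by omega), by omega⟩
      · exact ⟨0, by simp, n, mem_Γ6.mpr (by omega), by omega⟩
  have hXmem : ∀ n, n ∈ Γ6 → (X : PowerSeries k) ^ n ∈ A :=
    fun n hn => (hA' _).mpr (suppIn_X_pow.mpr hn)
  have hcoef : ∀ (a : ↥A) n, n ∉ Γ6 → coeff n a.1 = 0 :=
    fun a n hn => ((hA' _).mp a.2).coeff_eq_zero hn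
  have hn1 : (1 : ℕ) ∉ Γ6 := fun h => (mem_Γ6.mp h).1 rfl
  have hn2 : (2 : ℕ) ∉ Γ6 := fun h => (mem_Γ6.mp h).2.1 rfl
  let e : Fin 2 → PowerSeries k := ![X, X ^ 2]
  have he0 : e 0 = X := rfl
  have he1 : e 1 = X ^ 2 := rfl
  let c₀ : ↥A := ⟨X ^ 6, hXmem 6 (mem_Γ6.mpr (by omega))⟩
  have hc₀v : (c₀ : PowerSeries k) = X ^ 6 := rfl
  have hc₀e : ∀ j, (c₀ : PowerSeries k) * e j ∈ A := by
    intro j
    fin_cases j
    · change X ^ 6 * X ∈ A
      rw [← pow_succ]
      exact hXmem 7 (mem_Γ6.mpr (by omega))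
    · change X ^ 6 * X ^ 2 ∈ A
      rw [← pow_add]
      exact hXmem 8 (mem_Γ6.mpr (by omega))
  have hX3 : (X : PowerSeries k) ^ 3 ≠ 0 := pow_ne_zero _ X_ne_zero
  have hc₀ : ∀ x : PowerSeries k, (c₀ : PowerSeries k) * x = 0 → x = 0 :=
    fun x hx => (mul_eq_zero.mp hx).resolve_left (pow_ne_zero _ X_ne_zero)
  have hM : LinearMap.range Nsub.subtype = Submodule.span ↥A (insert 1 (Set.range e)) := by
    rw [Submodule.range_subtype, hNsub]
    congr 1
    ext x
    simp only [Set.mem_insert_iff, Set.mem_singleton_iff, Set.mem_range, Fin.exists_fin_two]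
    rw [he0, he1]
    constructor
    · rintro (h | h | h)
      · exact Or.inl h
      · exact Or.inr (Or.inl h.symm)
      · exact Or.inr (Or.inr h.symm)
    · rintro (h | h | h)
      · exact Or.inl h
      · exact Or.inr (Or.inl h.symm)
      · exact Or.inr (Or.inr h.symm)
  have hH : ∀ z, z ∈ dlat A 3 ↔ ∀ a : Fin 2 → ↥A, (∑ j, (a j : PowerSeries k) * e j) ∈ A →
      ∃ y : ↥Nsub, ∑ j, (a j : PowerSeries k) * z j = (c₀ : PowerSeries k) * Nsub.subtype y := by
    intro z
    constructor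
    · intro hz a ha
      rw [Fin.sum_univ_two] at ha ⊢
      rw [he0, he1] at ha
      have ha' : (a 0).1 * X ^ 1 + (a 1).1 * X ^ 2 ∈ A := by rwa [pow_one]
      have hf := (hA' _).mp ha'
      have c1 := hf.coeff_eq_zero hn1
      have c2 := hf.coeff_eq_zero hn2
      rw [map_add, coeff_mul_X_pow', coeff_mul_X_pow', if_pos (le_refl 1),
        if_neg (by norm_num), add_zero, Nat.sub_self] at c1
      have e21 : (2 - 1 : ℕ) = 1 := rfl
      rw [map_add, coeff_mul_X_pow', coeff_mul_X_pow', if_pos (by norm_num : 1 ≤ 2),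
        if_pos (le_refl 2), Nat.sub_self, e21, hcoef (a 0) 1 hn1, zero_add] at c2
      have d0 : (X : PowerSeries k) ^ 3 ∣ (a 0).1 := by
        rw [X_pow_dvd_iff]
        intro q hq
        interval_cases q
        · exact c1
        · exact hcoef _ 1 hn1
        · exact hcoef _ 2 hn2
      have d1 : (X : PowerSeries k) ^ 3 ∣ (a 1).1 := by
        rw [X_pow_dvd_iff]
        intro q hq
        interval_cases q
        · exact c2
        · exact hcoef _ 1 hn1
        · exact hcoef _ 2 hn2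
      obtain ⟨u0, hu0⟩ := d0
      obtain ⟨u1, hu1⟩ := d1
      obtain ⟨w0, hw0⟩ := hz 0
      obtain ⟨w1, hw1⟩ := hz 1
      refine ⟨⟨u0 * w0 + u1 * w1, hNtop _⟩, ?_⟩
      change (a 0).1 * z 0 + (a 1).1 * z 1 = X ^ 6 * (u0 * w0 + u1 * w1)
      rw [hu0, hu1, hw0, hw1]
      ring
    · intro h
      have hX3A : (X : PowerSeries k) ^ 3 ∈ A := hXmem 3 (mem_Γ6.mpr (by omega))
      have hX4A : (X : PowerSeries k) ^ 4 ∈ A := hXmem 4 (mem_Γ6.mpr (by omega))
      obtain ⟨y, hy⟩ := h ![⟨X ^ 3, hX3A⟩, 0] (by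
        rw [Fin.sum_univ_two, he0, he1]
        change X ^ 3 * X + (0 : PowerSeries k) * X ^ 2 ∈ A
        rw [zero_mul, add_zero, ← pow_succ]
        exact hX4A)
      rw [Fin.sum_univ_two] at hy
      change X ^ 3 * z 0 + (0 : PowerSeries k) * z 1 = X ^ 6 * y.1 at hy
      have hz0 : z 0 = X ^ 3 * y.1 := by
        apply mul_left_cancel₀ hX3
        rw [zero_mul, add_zero] at hy
        rw [hy]
        ring
      obtain ⟨y', hy'⟩ := h ![⟨X ^ 4, hX4A⟩, ⟨-X ^ 3, A.neg_mem hX3A⟩] (by
        rw [Fin.sum_univ_two, he0, he1]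
        change X ^ 4 * X + (-X ^ 3 : PowerSeries k) * X ^ 2 ∈ A
        have : (X : PowerSeries k) ^ 4 * X + (-X ^ 3 : PowerSeries k) * X ^ 2 = 0 := by ring
        rw [this]
        exact A.zero_mem)
      rw [Fin.sum_univ_two] at hy'
      change X ^ 4 * z 0 + (-X ^ 3 : PowerSeries k) * z 1 = X ^ 6 * y'.1 at hy'
      have hz1 : z 1 = X ^ 3 * (X * y.1 - y'.1) := by
        apply mul_left_cancel₀ hX3
        rw [hz0] at hy'
        linear_combination -hy'
      intro j
      fin_cases j
      · exact ⟨_, hz0⟩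
      · exact ⟨_, hz1⟩
  have hP : ∀ z, z ∈ dlat A 6 ↔ ∃ (x0 : ↥Nsub) (x : Fin 2 → ↥Nsub),
      ∀ j, z j = (c₀ : PowerSeries k) * (Nsub.subtype (x j) - e j * Nsub.subtype x0) := by
    intro z
    constructor
    · intro hz
      choose w hw using hz
      refine ⟨0, fun j => ⟨w j, hNtop _⟩, fun j => ?_⟩
      rw [hw j, map_zero, mul_zero, sub_zero]
      rfl
    · rintro ⟨x0, x, hx⟩ j
      rw [hx j]
      exact dvd_mul_right _ _
  have hmain := ExtAmbG.length_ext_one (M := ↥Nsub) (N := ↥Nsub) A e c₀ Nsub.subtype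
    Nsub.subtype (Submodule.injective_subtype _) (Submodule.injective_subtype _) hc₀e hc₀ hM
    (dlat A 3) (dlat A 6) hH hP
  rw [hmain, relLen_dlat A hk (by norm_num : 3 ≤ 6)]
  norm_num

end Groth.Agent.Lib.R2H7.E6
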