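import Mathlib
import Groth.Prelude.Def_StabCat
import Groth.Agent.Lib.R2H7StabNum
import Groth.Agent.Lib.R2H7HilbStabB
import Groth.Agent.Lib.R2H7HilbStabC
import Groth.Agent.Lib.R2H7ValLattice

/-!
# helper7: Harder-Narasimhan theory in a lattice with a supermodular polynomial valuation

Generalisation of `R2H7ValLattice` (same definitions `IsMD`, `IsMDChain`, `IsHNChain`): the
valuation is only required to be supermodular, `P (S ⊓ T) + P (S ⊔ T) ≥ P S + P T` eventually, with
modular leading multiplicities.  The model: saturated subsheaves of a torsion free sheaf with the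
two leading coefficients of their Hilbert polynomials (slope stability).
-/

set_option autoImplicit false
open Polynomial StabCat Filter
open Groth.Agent.Lib.R2H7.StabNum Groth.Agent.Lib.R2H7.HilbStab Groth.Agent.Lib.R2H7.ValLattice

namespace Groth.Agent.Lib.R2H7.ValLatticeS

/-! ### numerics -/

theorem numS {d : ℕ} {f g k i : ℚ[X]}
    (hsum : ∀ᶠ m : ℕ in atTop, (f + g).eval (m : ℚ) ≤ (k + i).eval (m : ℚ))
    (hα : alpha d k + alpha d i = alpha d f + alpha d g) (aF : 0 < alpha d f)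
    (aG : 0 < alpha d g) (aIF : alpha d f ≤ alpha d i) (h1 : RedLE d f g) (h2 : RedLT d i f) :
    RedLT d g k := by
  rw [redLE_iff] at h1
  rw [redLT_iff] at h2 ⊢
  have hαk : alpha d k = alpha d f + alpha d g - alpha d i := by linarith
  filter_upwards [h1, h2, hsum] with m a b c
  rw [eval_add, eval_add] at c
  rw [hαk]
  have key : alpha d f * (alpha d g * (f.eval (m : ℚ) + g.eval (m : ℚ) - i.eval (m : ℚ)) -
      (alpha d f + alpha d g - alpha d i) * g.eval (m : ℚ)) =
      alpha d g * (alpha d i * f.eval (m : ℚ) - alpha d f * i.eval (m : ℚ)) +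
        (alpha d i - alpha d f) * (alpha d f * g.eval (m : ℚ) - alpha d g * f.eval (m : ℚ)) := by
    ring
  have pos : 0 < alpha d f * (alpha d g * (f.eval (m : ℚ) + g.eval (m : ℚ) - i.eval (m : ℚ)) -
      (alpha d f + alpha d g - alpha d i) * g.eval (m : ℚ)) := by
    rw [key]
    have p1 := mul_pos aG (sub_pos.2 b)
    have p2 := mul_nonneg (sub_nonneg.2 aIF) (sub_nonneg.2 a)
    linarith
  have h3 := (mul_pos_iff_of_pos_left aF).1 pos
  have h4 : alpha d g * (f.eval (m : ℚ) + g.eval (m : ℚ) - i.eval (m : ℚ)) ≤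
      alpha d g * k.eval (m : ℚ) := mul_le_mul_of_nonneg_left (by linarith) aG.le
  linarith

theorem redLT_of_eventually_le {d : ℕ} {f g q : ℚ[X]}
    (hle : ∀ᶠ m : ℕ in atTop, f.eval (m : ℚ) ≤ g.eval (m : ℚ)) (hα : alpha d f = alpha d g)
    (aq : 0 ≤ alpha d q) (h : RedLT d g q) : RedLT d f q := by
  rw [redLT_iff] at h ⊢
  filter_upwards [h, hle] with m a b
  rw [hα]
  exact lt_of_le_of_lt (mul_le_mul_of_nonneg_left b aq) a

/-! ### supermodular valued lattices -/

variable {L : Type*} [Lattice L] [BoundedOrder L]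

structure SVL (Λ : L → Prop) (P : L → ℚ[X]) (d : ℕ) : Prop where
  bot_mem : Λ ⊥
  top_mem : Λ ⊤
  inf_mem : ∀ {S T : L}, Λ S → Λ T → Λ (S ⊓ T)
  sup_mem : ∀ {S T : L}, Λ S → Λ T → Λ (S ⊔ T)
  acc : WellFoundedGT {S : L // Λ S}
  modular_alpha : ∀ {S T : L}, Λ S → Λ T →
    alpha d (P (S ⊓ T)) + alpha d (P (S ⊔ T)) = alpha d (P S) + alpha d (P T)
  supermodular : ∀ {S T : L}, Λ S → Λ T → ∀ᶠ m : ℕ in atTop,
    (P S).eval (m : ℚ) + (P T).eval (m : ℚ) ≤
      (P (S ⊓ T)).eval (m : ℚ) + (P (S ⊔ T)).eval (m : ℚ)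
  mono : ∀ {S T : L}, Λ S → Λ T → S < T →
    ∀ᶠ m : ℕ in atTop, (P S).eval (m : ℚ) < (P T).eval (m : ℚ)
  alpha_mono : ∀ {S T : L}, Λ S → Λ T → S ≤ T → alpha d (P S) ≤ alpha d (P T)
  alpha_nat : ∀ {S : L}, Λ S → ∃ n : ℕ, alpha d (P S) = n

variable {Λ : L → Prop} {P : L → ℚ[X]} {d : ℕ}

theorem SVL.climb (vl : SVL Λ P d) {A B : L} (hpos : PosAbove Λ P d A) :
    ∀ S : {S : L // Λ S}, A < S.1 → S.1 ≤ B →
      ∃ S' : L, Λ S' ∧ S.1 ≤ S' ∧ S' ≤ B ∧ RedLE d (P S.1 - P A) (P S' - P A) ∧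
        ∀ T, Λ T → S' < T → T ≤ B → RedLT d (P T - P A) (P S' - P A) := by
  haveI := vl.acc
  intro S
  refine WellFoundedGT.induction (motive := fun S : {S : L // Λ S} => A < S.1 → S.1 ≤ B →
      ∃ S' : L, Λ S' ∧ S.1 ≤ S' ∧ S' ≤ B ∧ RedLE d (P S.1 - P A) (P S' - P A) ∧
        ∀ T, Λ T → S' < T → T ≤ B → RedLT d (P T - P A) (P S' - P A)) S ?_
  intro S ih hAS hSB
  by_cases hmax : ∀ T, Λ T → S.1 < T → T ≤ B → RedLT d (P T - P A) (P S.1 - P A)
  · exact ⟨S.1, S.2, le_rfl, hSB, redLE_refl d _, hmax⟩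
  · push_neg at hmax
    obtain ⟨T, hT, hST, hTB, hn⟩ := hmax
    have hle : RedLE d (P S.1 - P A) (P T - P A) := (redLE_or_redLT d _ _).resolve_right hn
    obtain ⟨T', hT', hTT', hT'B, hle', hmax'⟩ :=
      ih ⟨T, hT⟩ (show S.1 < T from hST) (hAS.trans hST) hTB
    have aS := pos_rel hpos S.2 hAS
    have aT := pos_rel hpos hT (hAS.trans hST)
    have aT' := pos_rel hpos hT' (lt_of_lt_of_le (hAS.trans hST) hTT')
    exact ⟨T', hT', hST.le.trans hTT', hT'B, redLE_trans aS.le aT aT'.le hle hle', hmax'⟩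

theorem SVL.exists_isMD (vl : SVL Λ P d) {A : L} (hAtop : A < ⊤)
    (hpos : PosAbove Λ P d A) : ∃ F, IsMD Λ P d A F := by
  classical
  let M : L → Prop := fun S => Λ S ∧ A < S ∧ ∀ T, Λ T → S < T → RedLT d (P T - P A) (P S - P A)
  have hMne : ∃ S, M S := by
    obtain ⟨S', h1, h2, -, -, h5⟩ := vl.climb (B := ⊤) hpos ⟨⊤, vl.top_mem⟩ hAtop le_rfl
    exact ⟨S', h1, lt_of_lt_of_le hAtop h2, fun T hT hST => h5 T hT hST le_top⟩
  let W : ℕ → Prop := fun n => ∃ S, M S ∧ alpha d (P S) = n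
  have hW : ∃ n, W n := by
    obtain ⟨S, hS⟩ := hMne
    obtain ⟨n, hn⟩ := vl.alpha_nat hS.1
    exact ⟨n, S, hS, hn⟩
  obtain ⟨F, hFM, hFn⟩ := Nat.find_spec hW
  have hmin : ∀ S, M S → alpha d (P F) ≤ alpha d (P S) := by
    intro S hS
    obtain ⟨n, hn⟩ := vl.alpha_nat hS.1
    have := Nat.find_min' hW ⟨S, hS, hn⟩
    rw [hFn, hn]
    exact_mod_cast this
  obtain ⟨hF, hAF, hFmax⟩ := hFM
  have aF := pos_rel hpos hF hAF
  have claimA : ∀ G, Λ G → A < G → RedLE d (P F - P A) (P G - P A) → ¬ G ≤ F →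
      A < F ⊓ G ∧ RedLT d (P G - P A) (P (F ⊓ G) - P A) := by
    intro G hG hAG hle hnle
    have hI : Λ (F ⊔ G) := vl.sup_mem hF hG
    have hFI : F < F ⊔ G := lt_of_le_of_ne le_sup_left fun h => hnle (by
      have : G ≤ F ⊔ G := le_sup_right
      rwa [← h] at this)
    have h2 : RedLT d (P (F ⊔ G) - P A) (P F - P A) := hFmax _ hI hFI
    have hsum : ∀ᶠ m : ℕ in atTop, ((P F - P A) + (P G - P A)).eval (m : ℚ) ≤
        ((P (F ⊓ G) - P A) + (P (F ⊔ G) - P A)).eval (m : ℚ) := by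
      filter_upwards [vl.supermodular hF hG] with m hm
      simp only [eval_add, eval_sub]
      linarith
    have hαsum : alpha d (P (F ⊓ G) - P A) + alpha d (P (F ⊔ G) - P A) =
        alpha d (P F - P A) + alpha d (P G - P A) := by
      have := vl.modular_alpha hF hG
      simp only [alpha_sub]
      linarith
    have aG := pos_rel hpos hG hAG
    have aIF : alpha d (P F - P A) ≤ alpha d (P (F ⊔ G) - P A) := by
      rw [alpha_sub, alpha_sub]
      have := vl.alpha_mono hF hI le_sup_left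
      linarith
    have h3 := numS hsum hαsum aF aG aIF hle h2
    have hAK : A ≤ F ⊓ G := le_inf hAF.le hAG.le
    refine ⟨lt_of_le_of_ne hAK ?_, h3⟩
    intro heq
    rw [← heq, sub_self] at h3
    exact not_redLT_zero _ h3
  have claimB : ∀ G, Λ G → A < G → G ≤ F → ¬ RedLT d (P F - P A) (P G - P A) := by
    intro G hG hAG hGF hlt
    obtain ⟨G₁, hG₁, hGG₁, hG₁F, hle₁, hmax₁⟩ := vl.climb (B := F) hpos ⟨G, hG⟩ hAG hGF
    have hAG₁ : A < G₁ := lt_of_lt_of_le hAG hGG₁
    have aG := pos_rel hpos hG hAG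
    have aG₁ := pos_rel hpos hG₁ hAG₁
    have hlt₁ : RedLT d (P F - P A) (P G₁ - P A) :=
      redLT_of_redLT_of_redLE aF.le aG aG₁ hlt hle₁
    obtain ⟨G', hG', hG₁G', -, hle', hmax'⟩ :=
      vl.climb (B := ⊤) hpos ⟨G₁, hG₁⟩ hAG₁ le_top
    have hAG' : A < G' := lt_of_lt_of_le hAG₁ hG₁G'
    have aG' := pos_rel hpos hG' hAG'
    have hlt' : RedLT d (P F - P A) (P G' - P A) :=
      redLT_of_redLT_of_redLE aF.le aG₁ aG' hlt₁ hle'
    by_cases hG'F : G' ≤ F
    · have hM : M G' := ⟨hG', hAG', fun T hT hlt => hmax' T hT hlt le_top⟩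
      have h1 := hmin G' hM
      have h2 := vl.alpha_mono hG' hF hG'F
      have hne : G' ≠ F := by
        rintro rfl
        exact (not_redLT_of_redLE (redLE_refl d _)) hlt'
      have h3 := vl.mono hG' hF (lt_of_le_of_ne hG'F hne)
      rw [redLT_iff] at hlt'
      obtain ⟨m, hm1, hm2⟩ := (hlt'.and h3).exists
      rw [alpha_sub, alpha_sub, eval_sub, eval_sub] at hm1
      have hα : alpha d (P G') = alpha d (P F) := le_antisymm h2 h1
      rw [hα] at hm1
      rw [alpha_sub] at aF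
      nlinarith [mul_pos aF (sub_pos.2 hm2)]
    · obtain ⟨hAK, hK⟩ := claimA G' hG' hAG' (RedLT.redLE hlt') hG'F
      have hKΛ := vl.inf_mem hF hG'
      have hG₁K : G₁ ≤ F ⊓ G' := le_inf hG₁F hG₁G'
      have aK := pos_rel hpos hKΛ hAK
      have hle₂ : RedLE d (P G₁ - P A) (P (F ⊓ G') - P A) :=
        RedLT.redLE (redLT_of_redLE_of_redLT aG₁ aG' aK.le hle' hK)
      by_cases hEq : G₁ = F ⊓ G'
      · rw [← hEq] at hK
        exact not_redLT_of_redLE hle' hK
      · exact not_redLT_of_redLE hle₂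
          (hmax₁ _ hKΛ (lt_of_le_of_ne hG₁K hEq) inf_le_left)
  refine ⟨F, hF, hAF, fun G hG hAG => ⟨?_, ?_⟩⟩
  · by_contra hn
    have hlt : RedLT d (P F - P A) (P G - P A) := (redLE_or_redLT d _ _).resolve_left hn
    by_cases hGF : G ≤ F
    · exact claimB G hG hAG hGF hlt
    · obtain ⟨hAK, hK⟩ := claimA G hG hAG (RedLT.redLE hlt) hGF
      have hKΛ := vl.inf_mem hF hG
      have aG := pos_rel hpos hG hAG
      have aK := pos_rel hpos hKΛ hAK
      exact claimB _ hKΛ hAK inf_le_left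
        (redLT_of_redLT_of_redLE aF.le aG aK hlt (RedLT.redLE hK))
  · intro heq
    by_contra hGF
    obtain ⟨hAK, hK⟩ := claimA G hG hAG (redLE_of_redEq' heq) hGF
    have hKΛ := vl.inf_mem hF hG
    have aG := pos_rel hpos hG hAG
    have aK := pos_rel hpos hKΛ hAK
    exact claimB _ hKΛ hAK inf_le_left
      (redLT_of_redLE_of_redLT aF aG aK.le (redLE_of_redEq' heq) hK)

theorem isMD_posAbove (vl : SVL Λ P d) {A F : L} (hpos : PosAbove Λ P d A)
    (h : IsMD Λ P d A F) : PosAbove Λ P d F := by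
  intro S hS hFS
  have hAS := h.2.1.trans hFS
  have h1 := vl.alpha_mono h.1 hS hFS.le
  rcases h1.eq_or_lt with heq | hlt
  · exfalso
    have h2 := (h.2.2 S hS hAS).1
    have h3 := vl.mono h.1 hS hFS
    rw [redLE_iff] at h2
    obtain ⟨m, hm1, hm2⟩ := (h2.and h3).exists
    rw [alpha_sub, alpha_sub, eval_sub, eval_sub, ← heq] at hm1
    have aF := pos_rel hpos h.1 h.2.1
    rw [alpha_sub] at aF
    nlinarith [mul_pos aF (sub_pos.2 hm2)]
  · exact hlt

theorem mdChain_mem_posAbove (vl : SVL Λ P d) (hpos : PosAbove Λ P d (⊥ : L))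
    {s : LTSeries L} (hs : IsMDChain Λ P d s) :
    ∀ (n : ℕ) (h : n < s.length + 1), Λ (s ⟨n, h⟩) ∧ PosAbove Λ P d (s ⟨n, h⟩) := by
  intro n
  induction n with
  | zero =>
    intro h
    have e1 : s ⟨0, h⟩ = s.head := rfl
    rw [e1, hs.1]
    exact ⟨vl.bot_mem, hpos⟩
  | succ n ih =>
    intro h
    have a : IsMD Λ P d (s ⟨n, by omega⟩) (s ⟨n + 1, h⟩) := hs.2.2 ⟨n, by omega⟩
    exact ⟨a.1, isMD_posAbove vl (ih (by omega)).2 a⟩

theorem mdChain_isHNChain (vl : SVL Λ P d) (hpos : PosAbove Λ P d (⊥ : L))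
    {s : LTSeries L} (hs : IsMDChain Λ P d s) : IsHNChain Λ P d s := by
  have hmp := mdChain_mem_posAbove vl hpos hs
  refine ⟨hs.1, hs.2.1, fun i => (hmp i.val i.isLt).1, ?_, ?_⟩
  · intro i S hS h1 _
    have hp : PosAbove Λ P d (s i.castSucc) := (hmp i.val (by omega)).2
    exact ⟨hp S hS h1, ((hs.2.2 i).2.2 S hS h1).1⟩
  · intro i j hij
    have hp : PosAbove Λ P d (s i.castSucc) := (hmp i.val (by omega)).2
    have e : j.castSucc = i.succ := Fin.ext (by simp [← hij])
    have h2 := hs.2.2 j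
    rw [e] at h2 ⊢
    exact IsMD.junction hp (hs.2.2 i) h2

/-! ### uniqueness: a Harder-Narasimhan chain consists of maximal destabilising steps -/

theorem isMD_of_hn_nat (vl : SVL Λ P d) (u : ℕ → L) (N : ℕ) (hΛ : ∀ n, n ≤ N → Λ (u n))
    (hlt : ∀ n, n < N → u n < u (n + 1))
    (hpure : ∀ n, n < N → ∀ S, Λ S → u n < S → S ≤ u (n + 1) →
      alpha d (P (u n)) < alpha d (P S))
    (hss : ∀ n, n < N → ∀ S, Λ S → u n < S → S ≤ u (n + 1) →
      RedLE d (P S - P (u n)) (P (u (n + 1)) - P (u n)))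
    (hdec : ∀ n, n + 1 < N →
      RedLT d (P (u (n + 1 + 1)) - P (u (n + 1))) (P (u (n + 1)) - P (u n)))
    (hlast : u N = ⊤) : ∀ j, j < N → IsMD Λ P d (u j) (u (j + 1)) := by
  have aq : ∀ n, n < N → 0 < alpha d (P (u (n + 1)) - P (u n)) := by
    intro n hn
    rw [alpha_sub]
    exact sub_pos.2 (hpure n hn _ (hΛ _ hn) (hlt n hn) le_rfl)
  intro j hj
  have hdec' : ∀ i, j < i → i < N →
      RedLT d (P (u (i + 1)) - P (u i)) (P (u (j + 1)) - P (u j)) := by
    intro i
    induction i with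
    | zero => intro h; omega
    | succ i ih =>
      intro hji hiN
      rcases Nat.lt_succ_iff_lt_or_eq.1 hji with h | h
      · have h1 := ih h (by omega)
        have h2 := hdec i hiN
        exact redLT_of_redLT_of_redLE (aq (i + 1) hiN).le (aq i (by omega)) (aq j hj) h2
          (RedLT.redLE h1)
      · subst h
        exact hdec j hiN
  have hmono : ∀ i, j ≤ i → i ≤ N → u j ≤ u i := by
    intro i
    induction i with
    | zero =>
      intro h _
      have : j = 0 := by omega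
      subst this
      exact le_rfl
    | succ i ih =>
      intro h1 h2
      rcases Nat.of_le_succ h1 with h | h
      · exact (ih h (by omega)).trans (hlt i (by omega)).le
      · rw [h]
  have claim : ∀ i, j < i → i ≤ N → ∀ G, Λ G → u j < G → G ≤ u i →
      RedLE d (P G - P (u j)) (P (u (j + 1)) - P (u j)) ∧
        (RedEq d (P G - P (u j)) (P (u (j + 1)) - P (u j)) → G ≤ u (j + 1)) := by
    intro i
    induction i with
    | zero => intro h; omega
    | succ i ih =>
      intro hji hiN G hG hAG hGi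
      rcases Nat.lt_succ_iff_lt_or_eq.1 hji with h | h
      · by_cases hGle : G ≤ u i
        · exact ih h (by omega) G hG hAG hGle
        · have hi : i < N := by omega
          have hui := hΛ i hi.le
          have hS : Λ (G ⊔ u i) := vl.sup_mem hG hui
          have hG' : Λ (G ⊓ u i) := vl.inf_mem hG hui
          have hltS : u i < G ⊔ u i := lt_of_le_of_ne le_sup_right fun he => hGle (by
            have : G ≤ G ⊔ u i := le_sup_left
            rwa [← he] at this)
          have hSle : G ⊔ u i ≤ u (i + 1) := sup_le hGi (hlt i hi).le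
          have hr_ss := hss i hi _ hS hltS hSle
          have a_r : 0 < alpha d (P (G ⊔ u i) - P (u i)) := by
            rw [alpha_sub]
            exact sub_pos.2 (hpure i hi _ hS hltS hSle)
          have hr_lt : RedLT d (P (G ⊔ u i) - P (u i)) (P (u (j + 1)) - P (u j)) :=
            redLT_of_redLE_of_redLT a_r (aq i hi) (aq j hj).le hr_ss (hdec' i h hi)
          have hAG' : u j ≤ G ⊓ u i := le_inf hAG.le (hmono i h.le hi.le)
          have hsum : ∀ᶠ m : ℕ in atTop, (P G - P (u j)).eval (m : ℚ) ≤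
              ((P (G ⊓ u i) - P (u j)) + (P (G ⊔ u i) - P (u i))).eval (m : ℚ) := by
            filter_upwards [vl.supermodular hG hui] with m hm
            simp only [eval_add, eval_sub]
            linarith
          have hαsum : alpha d (P G - P (u j)) =
              alpha d ((P (G ⊓ u i) - P (u j)) + (P (G ⊔ u i) - P (u i))) := by
            have := vl.modular_alpha hG hui
            simp only [alpha_sub, alpha_add]
            linarith
          have h1 : RedLE d (P (G ⊓ u i) - P (u j)) (P (u (j + 1)) - P (u j)) := by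
            by_cases hEq : u j = G ⊓ u i
            · rw [← hEq, sub_self]
              exact redLE_zero_left d _
            · exact (ih h hi.le _ hG' (lt_of_le_of_ne hAG' hEq) inf_le_right).1
          have hfin : RedLT d (P G - P (u j)) (P (u (j + 1)) - P (u j)) :=
            redLT_of_eventually_le hsum hαsum (aq j hj).le (redLT_add h1 hr_lt)
          exact ⟨RedLT.redLE hfin, fun heq =>
            absurd hfin (not_redLT_of_redLE (redLE_of_redEq' heq))⟩
      · subst h
        exact ⟨hss j hj G hG hAG hGi, fun _ => hGi⟩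
  refine ⟨hΛ (j + 1) hj, hlt j hj, fun G hG hAG => ?_⟩
  exact claim N hj le_rfl G hG hAG (hlast ▸ le_top)

theorem hnChain_isMDChain (vl : SVL Λ P d) {s : LTSeries L} (hs : IsHNChain Λ P d s) :
    IsMDChain Λ P d s := by
  classical
  obtain ⟨hhead, hlast, hmem, hstep, hdec⟩ := hs
  refine ⟨hhead, hlast, ?_⟩
  let u : ℕ → L := fun n => if h : n < s.length + 1 then s ⟨n, h⟩ else ⊤
  have hu : ∀ (n : ℕ) (h : n < s.length + 1), u n = s ⟨n, h⟩ := fun n h => dif_pos h
  have key := isMD_of_hn_nat vl u s.length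
    (fun n hn => by rw [hu n (by omega)]; exact hmem _)
    (fun n hn => by
      rw [hu n (by omega), hu (n + 1) (by omega)]
      exact s.step ⟨n, hn⟩)
    (fun n hn S hS => by
      rw [hu n (by omega), hu (n + 1) (by omega)]
      exact fun h1 h2 => (hstep ⟨n, hn⟩ S hS h1 h2).1)
    (fun n hn S hS => by
      rw [hu n (by omega), hu (n + 1) (by omega)]
      exact fun h1 h2 => (hstep ⟨n, hn⟩ S hS h1 h2).2)
    (fun n hn => by
      rw [hu n (by omega), hu (n + 1) (by omega), hu (n + 1 + 1) (by omega)]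
      exact hdec ⟨n, by omega⟩ ⟨n + 1, hn⟩ rfl)
    (by rw [hu s.length (by omega)]; exact hlast)
  intro i
  have := key i.val i.isLt
  rw [hu i.val (by omega), hu (i.val + 1) (by omega)] at this
  exact this

theorem hnChain_unique (vl : SVL Λ P d) {s t : LTSeries L} (hs : IsHNChain Λ P d s)
    (ht : IsHNChain Λ P d t) : s = t :=
  (hnChain_isMDChain vl hs).unique (hnChain_isMDChain vl ht)

/-! ### existence -/

section Seq

variable (vl : SVL Λ P d)

open Classical in
/-- the maximal destabilising element above `A` (or `⊤` when there is none) -/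
noncomputable def nextMD (A : L) : L :=
  if h : A < ⊤ ∧ PosAbove Λ P d A then Classical.choose (vl.exists_isMD h.1 h.2) else ⊤

theorem nextMD_spec {A : L} (h1 : A < ⊤) (h2 : PosAbove Λ P d A) :
    IsMD Λ P d A (nextMD vl A) := by
  unfold nextMD
  rw [dif_pos ⟨h1, h2⟩]
  exact Classical.choose_spec (vl.exists_isMD h1 h2)

theorem nextMD_top {A : L} (h1 : ¬ A < ⊤) : nextMD vl A = ⊤ := by
  unfold nextMD
  rw [dif_neg fun h => h1 h.1]

/-- the canonical sequence -/
noncomputable def seq : ℕ → L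
  | 0 => ⊥
  | n + 1 => nextMD vl (seq n)

theorem seq_succ (n : ℕ) : seq vl (n + 1) = nextMD vl (seq vl n) := rfl

theorem seq_mem_pos (hpos : PosAbove Λ P d (⊥ : L)) :
    ∀ n, Λ (seq vl n) ∧ PosAbove Λ P d (seq vl n) := by
  intro n
  induction n with
  | zero => exact ⟨vl.bot_mem, hpos⟩
  | succ n ih =>
    rw [seq_succ]
    by_cases h : seq vl n < ⊤
    · have a := nextMD_spec vl h ih.2
      exact ⟨a.1, isMD_posAbove vl ih.2 a⟩
    · rw [nextMD_top vl h]
      exact ⟨vl.top_mem, fun S _ hS => absurd hS not_top_lt⟩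

theorem seq_step (hpos : PosAbove Λ P d (⊥ : L)) (n : ℕ) (h : seq vl n < ⊤) :
    IsMD Λ P d (seq vl n) (seq vl (n + 1)) :=
  nextMD_spec vl h (seq_mem_pos vl hpos n).2

theorem exists_seq_eq_top (hpos : PosAbove Λ P d (⊥ : L)) : ∃ n, seq vl n = ⊤ := by
  by_contra hne
  push_neg at hne
  haveI := vl.acc
  let f : ℕ → {S : L // Λ S} := fun n => ⟨seq vl n, (seq_mem_pos vl hpos n).1⟩
  obtain ⟨n, hn⟩ := WellFounded.not_rel_apply_succ (r := fun a b : {S : L // Λ S} => a > b) f
  apply hn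
  show seq vl n < seq vl (n + 1)
  exact (seq_step vl hpos n (lt_top_iff_ne_top.2 (hne n))).2.1

include vl in
theorem SVL.exists_isMDChain (hpos : PosAbove Λ P d (⊥ : L)) :
    ∃ s : LTSeries L, IsMDChain Λ P d s := by
  classical
  have hex := exists_seq_eq_top vl hpos
  have hlt : ∀ n, n < Nat.find hex → seq vl n < seq vl (n + 1) := fun n hn =>
    (seq_step vl hpos n (lt_top_iff_ne_top.2 (Nat.find_min hex hn))).2.1
  refine ⟨⟨Nat.find hex, fun i => seq vl i.val, fun i => hlt i.val i.isLt⟩, rfl,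
    Nat.find_spec hex, fun i => ?_⟩
  exact seq_step vl hpos i.val (lt_top_iff_ne_top.2 (Nat.find_min hex i.isLt))

include vl in
theorem SVL.exists_isHNChain (hpos : PosAbove Λ P d (⊥ : L)) :
    ∃ s : LTSeries L, IsHNChain Λ P d s := by
  obtain ⟨s, hs⟩ := vl.exists_isMDChain hpos
  exact ⟨s, mdChain_isHNChain vl hpos hs⟩

include vl in
theorem SVL.existsUnique_isHNChain (hpos : PosAbove Λ P d (⊥ : L)) :
    ∃! s : LTSeries L, IsHNChain Λ P d s := by
  obtain ⟨s, hs⟩ := vl.exists_isHNChain hpos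
  exact ⟨s, hs, fun t ht => hnChain_unique vl ht hs⟩

end Seq

end Groth.Agent.Lib.R2H7.ValLatticeS
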