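import Mathlib
import Groth.Prelude.Def_StabCat
import Groth.Agent.Lib.R2H7StabNum
import Groth.Agent.Lib.R2H7HilbStabB
import Groth.Agent.Lib.R2H7HilbStabC
import Groth.Agent.Lib.R2H7ValLattice
import Groth.Agent.Lib.R2H7ValLatticeS

/-!
# helper7: the lattice of saturated elements of a valued lattice

For a valued lattice `VL Λ P d` the saturated elements (`Λ A` and the multiplicity strictly
increases above `A`) form a lattice `SL` with the same infimum and the saturation of the supremum,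
and the two leading coefficients `topPart 1 d (P A)` give a supermodular valuation on it
(`svl`), provided the coefficient of degree `d - 1` is monotone along extensions of equal
multiplicity.  This is the lattice theoretic form of slope stability.
-/

set_option autoImplicit false
open Polynomial StabCat Filter
open Groth.Agent.Lib.R2H7.StabNum Groth.Agent.Lib.R2H7.HilbStab Groth.Agent.Lib.R2H7.ValLattice
  Groth.Agent.Lib.R2H7.ValLatticeS

namespace Groth.Agent.Lib.R2H7.SatLattice

/-! ### numerics of the two leading coefficients -/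

theorem topPart_one_eq {d : ℕ} (hd : 1 ≤ d) (f : ℚ[X]) :
    topPart 1 d f = monomial d (f.coeff d) + monomial (d - 1) (f.coeff (d - 1)) := by
  unfold topPart
  have h : Finset.Icc (d - 1) d = {d - 1, d} := by
    ext i
    simp only [Finset.mem_Icc, Finset.mem_insert, Finset.mem_singleton]
    omega
  rw [h, Finset.sum_pair (by omega), add_comm]

theorem topPart_add (ℓ d : ℕ) (P Q : ℚ[X]) :
    topPart ℓ d (P + Q) = topPart ℓ d P + topPart ℓ d Q := by
  ext i
  rw [coeff_add, coeff_topPart, coeff_topPart, coeff_topPart, coeff_add]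
  split_ifs <;> simp

theorem natDegree_topPart_le (ℓ d : ℕ) (P : ℚ[X]) : (topPart ℓ d P).natDegree ≤ d := by
  rw [natDegree_le_iff_coeff_eq_zero]
  intro N hN
  rw [coeff_topPart, if_neg]
  intro h
  have := (Finset.mem_Icc.1 h).2
  omega

theorem eval_topPart_one {d : ℕ} (hd : 1 ≤ d) (f : ℚ[X]) (x : ℚ) :
    (topPart 1 d f).eval x = f.coeff d * x ^ d + f.coeff (d - 1) * x ^ (d - 1) := by
  rw [topPart_one_eq hd, eval_add, eval_monomial, eval_monomial]

theorem alpha_pred_topPart {d : ℕ} (f : ℚ[X]) :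
    alpha (d - 1) (topPart 1 d f) = alpha (d - 1) f := by
  unfold alpha
  rw [coeff_topPart, if_pos (Finset.mem_Icc.2 ⟨le_rfl, Nat.sub_le _ _⟩)]

/-- the cross comparison of `topPart 1 d` evaluated at a natural number -/
theorem cross_eval {d : ℕ} (hd : 1 ≤ d) (f g : ℚ[X]) (x : ℚ) :
    ((d - 1).factorial : ℚ) * (alpha d g * (topPart 1 d f).eval x -
        alpha d f * (topPart 1 d g).eval x) =
      (alpha d g * alpha (d - 1) f - alpha d f * alpha (d - 1) g) * x ^ (d - 1) := by
  rw [eval_topPart_one hd, eval_topPart_one hd]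
  unfold alpha
  ring

theorem redLE_topPart_one_iff {d : ℕ} (hd : 1 ≤ d) (f g : ℚ[X]) :
    RedLE d (topPart 1 d f) (topPart 1 d g) ↔
      alpha d g * alpha (d - 1) f ≤ alpha d f * alpha (d - 1) g := by
  have hfac : (0 : ℚ) < ((d - 1).factorial : ℚ) := by exact_mod_cast Nat.factorial_pos _
  rw [redLE_iff, alpha_topPart, alpha_topPart]
  constructor
  · intro h
    obtain ⟨m, hm, hm1⟩ := (h.and (eventually_ge_atTop 1)).exists
    have hx : (0 : ℚ) < (m : ℚ) ^ (d - 1) := pow_pos (by exact_mod_cast hm1) _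
    have e := cross_eval hd f g (m : ℚ)
    have h1 : ((d - 1).factorial : ℚ) * (alpha d g * (topPart 1 d f).eval (m : ℚ) -
        alpha d f * (topPart 1 d g).eval (m : ℚ)) ≤ 0 :=
      mul_nonpos_of_nonneg_of_nonpos hfac.le (by linarith)
    rw [e] at h1
    have := le_of_mul_le_mul_right (by rw [zero_mul]; exact h1 :
      (alpha d g * alpha (d - 1) f - alpha d f * alpha (d - 1) g) * (m : ℚ) ^ (d - 1) ≤
        0 * (m : ℚ) ^ (d - 1)) hx
    linarith
  · intro h
    filter_upwards [eventually_ge_atTop 1] with m hm1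
    have hx : (0 : ℚ) < (m : ℚ) ^ (d - 1) := pow_pos (by exact_mod_cast hm1) _
    have e := cross_eval hd f g (m : ℚ)
    have h1 : (alpha d g * alpha (d - 1) f - alpha d f * alpha (d - 1) g) * (m : ℚ) ^ (d - 1) ≤ 0 :=
      mul_nonpos_of_nonpos_of_nonneg (by linarith) hx.le
    rw [← e] at h1
    have := le_of_mul_le_mul_left (by rw [mul_zero]; exact h1 :
      ((d - 1).factorial : ℚ) * (alpha d g * (topPart 1 d f).eval (m : ℚ) -
        alpha d f * (topPart 1 d g).eval (m : ℚ)) ≤ ((d - 1).factorial : ℚ) * 0) hfac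
    linarith

theorem redLT_topPart_one_iff {d : ℕ} (hd : 1 ≤ d) (f g : ℚ[X]) :
    RedLT d (topPart 1 d f) (topPart 1 d g) ↔
      alpha d g * alpha (d - 1) f < alpha d f * alpha (d - 1) g := by
  have hfac : (0 : ℚ) < ((d - 1).factorial : ℚ) := by exact_mod_cast Nat.factorial_pos _
  rw [redLT_iff, alpha_topPart, alpha_topPart]
  constructor
  · intro h
    obtain ⟨m, hm, hm1⟩ := (h.and (eventually_ge_atTop 1)).exists
    have hx : (0 : ℚ) < (m : ℚ) ^ (d - 1) := pow_pos (by exact_mod_cast hm1) _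
    have e := cross_eval hd f g (m : ℚ)
    have h1 : ((d - 1).factorial : ℚ) * (alpha d g * (topPart 1 d f).eval (m : ℚ) -
        alpha d f * (topPart 1 d g).eval (m : ℚ)) < 0 :=
      mul_neg_of_pos_of_neg hfac (by linarith)
    rw [e] at h1
    have := lt_of_mul_lt_mul_right (by rw [zero_mul]; exact h1 :
      (alpha d g * alpha (d - 1) f - alpha d f * alpha (d - 1) g) * (m : ℚ) ^ (d - 1) <
        0 * (m : ℚ) ^ (d - 1)) hx.le
    linarith
  · intro h
    filter_upwards [eventually_ge_atTop 1] with m hm1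
    have hx : (0 : ℚ) < (m : ℚ) ^ (d - 1) := pow_pos (by exact_mod_cast hm1) _
    have e := cross_eval hd f g (m : ℚ)
    have h1 : (alpha d g * alpha (d - 1) f - alpha d f * alpha (d - 1) g) * (m : ℚ) ^ (d - 1) < 0 :=
      mul_neg_of_neg_of_pos (by linarith) hx
    rw [← e] at h1
    have := lt_of_mul_lt_mul_left (by rw [mul_zero]; exact h1 :
      ((d - 1).factorial : ℚ) * (alpha d g * (topPart 1 d f).eval (m : ℚ) -
        alpha d f * (topPart 1 d g).eval (m : ℚ)) < ((d - 1).factorial : ℚ) * 0) hfac.le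
    linarith

/-! ### saturation in a valued lattice -/

variable {L : Type*} [Lattice L] [BoundedOrder L]

/-- saturated elements: the multiplicity strictly increases above `A` -/
def SatL (Λ : L → Prop) (P : L → ℚ[X]) (d : ℕ) (A : L) : Prop := Λ A ∧ PosAbove Λ P d A

/-- the elements above `A` of the same multiplicity -/
def Cl (Λ : L → Prop) (P : L → ℚ[X]) (d : ℕ) (A T : L) : Prop :=
  Λ T ∧ A ≤ T ∧ alpha d (P T) = alpha d (P A)

variable {Λ : L → Prop} {P : L → ℚ[X]} {d : ℕ}

section WithVL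

variable (vl : VL Λ P d)
include vl

theorem alpha_modular {S T : L} (hS : Λ S) (hT : Λ T) :
    alpha d (P (S ⊓ T)) + alpha d (P (S ⊔ T)) = alpha d (P S) + alpha d (P T) := by
  have hm := congrArg (alpha d) (vl.modular hS hT)
  rwa [alpha_add, alpha_add] at hm

theorem cl_sup {A T₁ T₂ : L} (hA : Λ A) (h1 : Cl Λ P d A T₁) (h2 : Cl Λ P d A T₂) :
    Cl Λ P d A (T₁ ⊔ T₂) := by
  refine ⟨vl.sup_mem h1.1 h2.1, h1.2.1.trans le_sup_left, ?_⟩
  have hm := alpha_modular vl h1.1 h2.1
  have hI := vl.inf_mem h1.1 h2.1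
  have hinf : alpha d (P (T₁ ⊓ T₂)) = alpha d (P A) :=
    le_antisymm ((vl.alpha_mono hI h1.1 inf_le_left).trans h1.2.2.le)
      (vl.alpha_mono hA hI (le_inf h1.2.1 h2.2.1))
  linarith [h1.2.2, h2.2.2]

theorem exists_greatest {A : L} (hA : Λ A) :
    ∃ M, Cl Λ P d A M ∧ ∀ T, Cl Λ P d A T → T ≤ M := by
  haveI := vl.acc
  let 𝒮 : Set {S : L // Λ S} := {S | A ≤ S.1 ∧ alpha d (P S.1) = alpha d (P A)}
  have hne : 𝒮.Nonempty := ⟨⟨A, hA⟩, le_rfl, rfl⟩
  obtain ⟨M, hM, hmax⟩ := wellFounded_gt.has_min 𝒮 hne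
  refine ⟨M.1, ⟨M.2, hM.1, hM.2⟩, fun T hT => ?_⟩
  have hsup := cl_sup vl hA ⟨M.2, hM.1, hM.2⟩ hT
  have hnot := hmax ⟨M.1 ⊔ T, hsup.1⟩ ⟨hsup.2.1, hsup.2.2⟩
  by_contra hle
  apply hnot
  show M.1 < M.1 ⊔ T
  refine lt_of_le_of_ne le_sup_left fun h => hle ?_
  rw [h]
  exact le_sup_right

open Classical in
/-- the saturation of `A` -/
noncomputable def sat (A : L) : L :=
  if h : Λ A then Classical.choose (exists_greatest vl h) else ⊤

theorem sat_spec {A : L} (hA : Λ A) :
    Cl Λ P d A (sat vl A) ∧ ∀ T, Cl Λ P d A T → T ≤ sat vl A := by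
  unfold sat
  rw [dif_pos hA]
  exact Classical.choose_spec (exists_greatest vl hA)

theorem sat_mem {A : L} (hA : Λ A) : Λ (sat vl A) := (sat_spec vl hA).1.1

theorem le_sat {A : L} (hA : Λ A) : A ≤ sat vl A := (sat_spec vl hA).1.2.1

theorem alpha_sat {A : L} (hA : Λ A) : alpha d (P (sat vl A)) = alpha d (P A) :=
  (sat_spec vl hA).1.2.2

theorem satL_sat {A : L} (hA : Λ A) : SatL Λ P d (sat vl A) := by
  refine ⟨sat_mem vl hA, fun T hT hlt => ?_⟩
  rcases (vl.alpha_mono (sat_mem vl hA) hT hlt.le).eq_or_lt with h | h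
  · exact absurd ((sat_spec vl hA).2 T ⟨hT, (le_sat vl hA).trans hlt.le,
      h.symm.trans (alpha_sat vl hA)⟩) (not_le_of_gt hlt)
  · exact h

theorem sat_le {A T' : L} (hA : Λ A) (hT' : SatL Λ P d T') (h : A ≤ T') : sat vl A ≤ T' := by
  have hs := sat_mem vl hA
  have hm := alpha_modular vl hs hT'.1
  have hI := vl.inf_mem hs hT'.1
  have hinf : alpha d (P (sat vl A ⊓ T')) = alpha d (P (sat vl A)) := by
    refine le_antisymm (vl.alpha_mono hI hs inf_le_left) ?_
    rw [alpha_sat vl hA]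
    exact vl.alpha_mono hA hI (le_inf (le_sat vl hA) h)
  have heq : alpha d (P (sat vl A ⊔ T')) = alpha d (P T') := by linarith
  by_contra hle
  have hlt : T' < sat vl A ⊔ T' := by
    refine lt_of_le_of_ne le_sup_right fun e => hle ?_
    rw [e]
    exact le_sup_left
  have := hT'.2 _ (vl.sup_mem hs hT'.1) hlt
  rw [heq] at this
  exact lt_irrefl _ this

theorem sat_eq_self {A : L} (hA : SatL Λ P d A) : sat vl A = A :=
  le_antisymm (sat_le vl hA.1 hA le_rfl) (le_sat vl hA.1)

theorem pos_of_not_le {A T : L} (hA : SatL Λ P d A) (hT : Λ T) (h : ¬ T ≤ A) :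
    alpha d (P (A ⊓ T)) < alpha d (P T) := by
  have hlt : A < A ⊔ T := by
    refine lt_of_le_of_ne le_sup_left fun e => h ?_
    rw [e]
    exact le_sup_right
  have h1 := hA.2 _ (vl.sup_mem hA.1 hT) hlt
  have hm := alpha_modular vl hA.1 hT
  linarith

theorem satL_inf {A B : L} (hA : SatL Λ P d A) (hB : SatL Λ P d B) : SatL Λ P d (A ⊓ B) := by
  have hI := vl.inf_mem hA.1 hB.1
  refine ⟨hI, fun T hT hlt => ?_⟩
  by_cases hTA : T ≤ A
  · have hTB : ¬ T ≤ B := fun h => not_le_of_gt hlt (le_inf hTA h)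
    have h1 := pos_of_not_le vl hB hT hTB
    have h2 := vl.alpha_mono hI (vl.inf_mem hB.1 hT) (le_inf inf_le_right hlt.le)
    linarith
  · have h1 := pos_of_not_le vl hA hT hTA
    have h2 := vl.alpha_mono hI (vl.inf_mem hA.1 hT) (le_inf inf_le_left hlt.le)
    linarith

theorem satL_top : SatL Λ P d (⊤ : L) :=
  ⟨vl.top_mem, fun _ _ h => absurd h not_top_lt⟩

/-- saturation goes down along a step -/
theorem posAbove_of_step {A B : L} (hA : Λ A) (hB : SatL Λ P d B)
    (hstep : ∀ S, Λ S → A < S → S ≤ B → alpha d (P A) < alpha d (P S)) (hAB : A ≤ B) :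
    PosAbove Λ P d A := by
  intro T hT hlt
  have hI := vl.inf_mem hT hB.1
  by_cases hEq : A = T ⊓ B
  · have hTB : ¬ T ≤ B := by
      intro h
      have : T ⊓ B = T := inf_eq_left.2 h
      rw [this] at hEq
      exact hlt.ne hEq
    have h1 := pos_of_not_le vl hB hT hTB
    rw [inf_comm] at h1
    rw [hEq]
    exact h1
  · have hlt' : A < T ⊓ B := lt_of_le_of_ne (le_inf hlt.le hAB) hEq
    have h1 := hstep _ hI hlt' inf_le_right
    have h2 := vl.alpha_mono hI hT inf_le_left
    linarith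

/-! ### the lattice of saturated elements -/

/-- the saturated elements -/
abbrev SL (Λ : L → Prop) (P : L → ℚ[X]) (d : ℕ) := {A : L // SatL Λ P d A}

/-- the lattice structure: infimum of `L`, saturation of the supremum of `L` -/
@[reducible] noncomputable def slLattice : Lattice (SL Λ P d) :=
  { (inferInstance : PartialOrder (SL Λ P d)) with
    sup := fun A B => ⟨sat vl (A.1 ⊔ B.1), satL_sat vl (vl.sup_mem A.2.1 B.2.1)⟩
    le_sup_left := fun A B =>
      show A.1 ≤ sat vl (A.1 ⊔ B.1) from le_sup_left.trans (le_sat vl (vl.sup_mem A.2.1 B.2.1))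
    le_sup_right := fun A B =>
      show B.1 ≤ sat vl (A.1 ⊔ B.1) from le_sup_right.trans (le_sat vl (vl.sup_mem A.2.1 B.2.1))
    sup_le := fun A B C hA hB =>
      show sat vl (A.1 ⊔ B.1) ≤ C.1 from
        sat_le vl (vl.sup_mem A.2.1 B.2.1) C.2 (sup_le hA hB)
    inf := fun A B => ⟨A.1 ⊓ B.1, satL_inf vl A.2 B.2⟩
    inf_le_left := fun A B => show A.1 ⊓ B.1 ≤ A.1 from inf_le_left
    inf_le_right := fun A B => show A.1 ⊓ B.1 ≤ B.1 from inf_le_right
    le_inf := fun A B C h1 h2 => show A.1 ≤ B.1 ⊓ C.1 from le_inf h1 h2 }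

/-- the bounds -/
@[reducible] def slBounded (hpos : PosAbove Λ P d (⊥ : L)) : BoundedOrder (SL Λ P d) where
  top := ⟨⊤, satL_top vl⟩
  le_top := fun A => show A.1 ≤ ⊤ from le_top
  bot := ⟨⊥, vl.bot_mem, hpos⟩
  bot_le := fun A => show ⊥ ≤ A.1 from bot_le

/-! ### the supermodular valuation on saturated elements -/

/-- the truncated valuation on saturated elements -/
noncomputable def PT (Λ : L → Prop) (P : L → ℚ[X]) (d : ℕ) (A : SL Λ P d) : ℚ[X] :=
  topPart 1 d (P A.1)

theorem svl (hd : 1 ≤ d) (hpos : PosAbove Λ P d (⊥ : L))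
    (hsub : ∀ {A B : L}, Λ A → Λ B → A ≤ B → alpha d (P A) = alpha d (P B) →
      alpha (d - 1) (P A) ≤ alpha (d - 1) (P B)) :
    letI := slLattice vl
    letI := slBounded vl hpos
    SVL (fun _ : SL Λ P d => True) (PT Λ P d) d := by
  letI := slLattice vl
  letI := slBounded vl hpos
  refine
    { bot_mem := trivial
      top_mem := trivial
      inf_mem := fun _ _ => trivial
      sup_mem := fun _ _ => trivial
      acc := ?_
      modular_alpha := ?_
      supermodular := ?_
      mono := ?_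
      alpha_mono := ?_
      alpha_nat := ?_ }
  · haveI := vl.acc
    have hf : StrictMono (fun S : {S : SL Λ P d // True} => (⟨S.1.1, S.1.2.1⟩ : {S : L // Λ S})) :=
      fun a b h => h
    exact hf.wellFoundedGT
  · intro A B _ _
    show alpha d (topPart 1 d (P (A.1 ⊓ B.1))) + alpha d (topPart 1 d (P (sat vl (A.1 ⊔ B.1)))) =
      alpha d (topPart 1 d (P A.1)) + alpha d (topPart 1 d (P B.1))
    rw [alpha_topPart, alpha_topPart, alpha_topPart, alpha_topPart,
      alpha_sat vl (vl.sup_mem A.2.1 B.2.1)]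
    exact alpha_modular vl A.2.1 B.2.1
  · intro A B _ _
    have hX := vl.sup_mem A.2.1 B.2.1
    have h1 := hsub hX (sat_mem vl hX) (le_sat vl hX) (alpha_sat vl hX).symm
    have h2 := alpha_sat vl hX
    have hmod := vl.modular A.2.1 B.2.1
    refine Eventually.of_forall fun m => ?_
    show (topPart 1 d (P A.1)).eval (m : ℚ) + (topPart 1 d (P B.1)).eval (m : ℚ) ≤
      (topPart 1 d (P (A.1 ⊓ B.1))).eval (m : ℚ) +
        (topPart 1 d (P (sat vl (A.1 ⊔ B.1)))).eval (m : ℚ)
    have e : topPart 1 d (P A.1) + topPart 1 d (P B.1) =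
        topPart 1 d (P (A.1 ⊓ B.1)) + topPart 1 d (P (A.1 ⊔ B.1)) := by
      rw [← topPart_add, ← topPart_add, hmod]
    have e' := congrArg (eval (m : ℚ)) e
    rw [eval_add, eval_add] at e'
    rw [e']
    have hfac : (0 : ℚ) < ((d - 1).factorial : ℚ) := by exact_mod_cast Nat.factorial_pos _
    have hfac' : (0 : ℚ) < (d.factorial : ℚ) := by exact_mod_cast Nat.factorial_pos _
    have hc : (P (A.1 ⊔ B.1)).coeff d = (P (sat vl (A.1 ⊔ B.1))).coeff d := by
      unfold alpha at h2
      exact (mul_left_cancel₀ hfac'.ne' h2).symm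
    have hc' : (P (A.1 ⊔ B.1)).coeff (d - 1) ≤ (P (sat vl (A.1 ⊔ B.1))).coeff (d - 1) := by
      unfold alpha at h1
      exact le_of_mul_le_mul_left h1 hfac
    simp only [eval_topPart_one hd]
    rw [hc]
    have hx : (0 : ℚ) ≤ (m : ℚ) ^ (d - 1) := pow_nonneg (Nat.cast_nonneg m) _
    nlinarith [mul_le_mul_of_nonneg_right hc' hx]
  · intro A B _ _ hlt
    have hlt' : A.1 < B.1 := hlt
    have ha := A.2.2 B.1 B.2.1 hlt'
    have hpos' : 0 < alpha d (topPart 1 d (P B.1 - P A.1)) := by
      rw [alpha_topPart, alpha_sub]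
      linarith
    filter_upwards [eventually_pos_of_alpha_pos (natDegree_topPart_le 1 d _) hpos'] with m hm
    show (topPart 1 d (P A.1)).eval (m : ℚ) < (topPart 1 d (P B.1)).eval (m : ℚ)
    rw [topPart_sub, eval_sub] at hm
    linarith
  · intro A B _ _ hle
    show alpha d (topPart 1 d (P A.1)) ≤ alpha d (topPart 1 d (P B.1))
    rw [alpha_topPart, alpha_topPart]
    exact vl.alpha_mono A.2.1 B.2.1 hle
  · intro A _
    show ∃ n : ℕ, alpha d (topPart 1 d (P A.1)) = n
    rw [alpha_topPart]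
    exact vl.alpha_nat A.2.1

theorem posAbove_bot_sl (hpos : PosAbove Λ P d (⊥ : L)) :
    letI := slLattice vl
    letI := slBounded vl hpos
    PosAbove (fun _ : SL Λ P d => True) (PT Λ P d) d ⊥ := by
  letI := slLattice vl
  letI := slBounded vl hpos
  intro S _ hlt
  show alpha d (topPart 1 d (P ⊥)) < alpha d (topPart 1 d (P S.1))
  rw [alpha_topPart, alpha_topPart]
  exact hpos S.1 S.2.1 hlt

end WithVL

end Groth.Agent.Lib.R2H7.SatLattice
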