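import Mathlib
import Groth.Prelude.Def_StabCat
import Groth.Agent.Lib.R2H7StabNum
import Groth.Agent.Lib.R2H7HilbStab
import Groth.Agent.Lib.R2H7HilbStabB
import Groth.Agent.Lib.R2H7HilbStabC
import Groth.Agent.Lib.R2H7ValLattice
import Groth.Agent.Lib.R2H7SatLattice
import Groth.Agent.Lib.R2H7HNBridge
import Groth.Agent.Lib.R2H7JHUnique

/-!
# helper7: the last factor of an `ℓ`-Harder-Narasimhan filtration is the minimal destabilising quotient

`lastFactor_iso`: if `s` is an `ℓ`-Harder-Narasimhan filtration of `E` and `q : E ⟶ G` is an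
epimorphism onto a pure tested object whose Hilbert polynomial has the multiplicity and the reduced
`ℓ`-truncation of the last factor `E / s.eraseLast.last`, then `G` is isomorphic to that factor as a
quotient of `E`.
-/

set_option autoImplicit false
universe v u
open CategoryTheory CategoryTheory.Limits Polynomial StabCat Filter
open Groth.Agent.Lib.R2H7.StabNum Groth.Agent.Lib.R2H7.HilbStab Groth.Agent.Lib.R2H7.ValLattice
  Groth.Agent.Lib.R2H7.SatLattice Groth.Agent.Lib.R2H7.HNBridge

namespace Groth.Agent.Lib.R2H7.EllMinQuot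

/-! ### numerics -/

theorem natDegree_topPart_le_of_le {ℓ d e : ℕ} {P : ℚ[X]} (h : P.natDegree ≤ e) :
    (topPart ℓ d P).natDegree ≤ e := by
  rw [natDegree_le_iff_coeff_eq_zero]
  intro N hN
  rw [coeff_topPart]
  split_ifs
  · exact coeff_eq_zero_of_natDegree_lt (lt_of_le_of_lt h hN)
  · rfl

theorem topPart_eq_zero_of_lt {ℓ d e : ℕ} {P : ℚ[X]} (h : P.natDegree ≤ e) (he : e < d - ℓ) :
    topPart ℓ d P = 0 := by
  ext i
  rw [coeff_topPart, coeff_zero]
  split_ifs with hi
  · have := (Finset.mem_Icc.1 hi).1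
    exact coeff_eq_zero_of_natDegree_lt (by omega)
  · rfl

theorem telescope {M : Type*} [AddCommGroup M] :
    ∀ (n : ℕ) (g : Fin (n + 1) → M),
      ∑ i : Fin n, (g i.succ - g i.castSucc) = g (Fin.last n) - g 0
  | 0, g => by simp
  | n + 1, g => by
    rw [Fin.sum_univ_castSucc]
    have h := telescope n (fun j => g j.castSucc)
    simp only [Fin.succ_castSucc, Fin.castSucc_zero] at h
    rw [show (∑ i : Fin n, (g i.castSucc.succ - g i.castSucc.castSucc)) =
      ∑ i : Fin n, (g i.succ.castSucc - g i.castSucc.castSucc) from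
        Finset.sum_congr rfl (fun i _ => by rw [Fin.succ_castSucc])]
    rw [h, Fin.succ_last]
    abel

variable {C : Type u} [Category.{v} C] [Abelian C]
variable {ok : C → Prop} {HP : C → ℚ[X] → Prop} {sdim : C → WithBot ℕ∞}

/-! ### categorical preliminaries -/

/-- the quotient of `E` by a subobject, compared with the cokernel of `ofLE A ⊤` -/
noncomputable def cokerArrowIso {E : C} (A : Subobject E) :
    cokernel (Subobject.ofLE A ⊤ le_top) ≅ cokernel A.arrow :=
  cokernel.mapIso _ _ (Iso.refl _) (asIso (⊤ : Subobject E).arrow) (by simp)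

/-- a quotient of `E` with kernel `A` is the cokernel of `A.arrow` -/
theorem exists_iso_of_eq_kernel {E G : C} (q : E ⟶ G) [Epi q] (A : Subobject E)
    (hA : A = Subobject.mk (kernel.ι q)) :
    ∃ φ : cokernel A.arrow ≅ G, cokernel.π A.arrow ≫ φ.hom = q := by
  subst hA
  have w : (Subobject.mk (kernel.ι q)).arrow ≫ q = 0 := by
    rw [← Subobject.underlyingIso_hom_comp_eq_mk, Category.assoc, kernel.condition,
      Limits.comp_zero]
  have hlim : IsLimit (KernelFork.ofι (Subobject.mk (kernel.ι q)).arrow w) :=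
    IsLimit.ofIsoLimit (kernelIsKernel q)
      (Fork.ext (Subobject.underlyingIso (kernel.ι q)).symm (by simp))
  have hq' : IsColimit (CokernelCofork.ofπ q w) := Abelian.epiIsCokernelOfKernel _ hlim
  refine ⟨(cokernelIsCokernel _).coconePointUniqueUpToIso hq', ?_⟩
  exact (cokernelIsCokernel _).comp_coconePointUniqueUpToIso_hom hq' WalkingParallelPair.one

/-! ### more numerics -/

theorem topPart_zero (ℓ d : ℕ) : topPart ℓ d (0 : ℚ[X]) = 0 := by
  ext i
  rw [coeff_topPart]
  simp

theorem topPart_sum {ι : Type*} (ℓ d : ℕ) (t : Finset ι) (f : ι → ℚ[X]) :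
    topPart ℓ d (∑ i ∈ t, f i) = ∑ i ∈ t, topPart ℓ d (f i) := by
  ext N
  rw [coeff_topPart, finset_sum_coeff, finset_sum_coeff]
  simp only [coeff_topPart]
  split_ifs
  · rfl
  · simp

theorem alpha_sum {ι : Type*} (d : ℕ) (t : Finset ι) (f : ι → ℚ[X]) :
    alpha d (∑ i ∈ t, f i) = ∑ i ∈ t, alpha d (f i) := by
  unfold alpha
  rw [finset_sum_coeff, Finset.mul_sum]

/-- the heart of the matter: a weighted average of numbers `ρ i ≥ ρ L` which is `≤ ρ L` only involves
the indices with `ρ i = ρ L` -/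
theorem numeric_core {n : ℕ} (L : Fin n) (hL : ∀ i, i ≤ L) (r a Rm Um : Fin n → ℚ)
    (hr : ∀ i, 0 < r i) (ha : ∀ i, 0 ≤ a i)
    (h1 : ∀ i, a i * Rm i ≤ r i * Um i)
    (h2 : ∀ i, i < L → r i * Rm L < r L * Rm i)
    (hsumU : ∑ i, Um i = Rm L) (hsumA : ∑ i, a i = r L) :
    ∀ i, i < L → a i = 0 := by
  have e1 : ∀ i, a i * (Rm i / r i) ≤ Um i := by
    intro i
    rw [← mul_div_assoc, div_le_iff₀ (hr i)]
    linarith [h1 i]
  have e2 : ∀ i, i < L → Rm L / r L < Rm i / r i := by
    intro i hi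
    rw [div_lt_div_iff₀ (hr L) (hr i)]
    linarith [h2 i hi]
  have e3 : ∀ i, 0 ≤ a i * (Rm i / r i - Rm L / r L) := by
    intro i
    rcases (hL i).eq_or_lt with h | h
    · rw [h, sub_self, mul_zero]
    · exact mul_nonneg (ha i) (sub_nonneg.2 (e2 i h).le)
  have e4 : ∑ i, a i * (Rm i / r i - Rm L / r L) ≤ 0 := by
    have h3 : ∑ i, a i * (Rm i / r i - Rm L / r L) =
        ∑ i, a i * (Rm i / r i) - (∑ i, a i) * (Rm L / r L) := by
      rw [Finset.sum_mul, ← Finset.sum_sub_distrib]
      exact Finset.sum_congr rfl (fun i _ => by ring)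
    have h4 : r L * (Rm L / r L) = Rm L := by
      have := (hr L).ne'
      field_simp
    rw [h3, hsumA, h4]
    have h5 : ∑ i, a i * (Rm i / r i) ≤ ∑ i, Um i := Finset.sum_le_sum (fun i _ => e1 i)
    linarith
  have e5 := (Finset.sum_eq_zero_iff_of_nonneg (fun i _ => e3 i)).1
    (le_antisymm e4 (Finset.sum_nonneg (fun i _ => e3 i)))
  intro i hi
  have h6 := e5 i (Finset.mem_univ i)
  rcases mul_eq_zero.1 h6 with h | h
  · exact h
  · exact absurd h (sub_pos.2 (e2 i hi)).ne'

/-- strictly decreasing reduced polynomials of consecutive factors: transitivity -/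
theorem decreasing_trans {n : ℕ} (r : Fin n → ℚ) (R : Fin n → ℚ[X]) (hr : ∀ i, 0 < r i)
    (hstep : ∀ i j : Fin n, i.val + 1 = j.val →
      ∀ᶠ m : ℕ in atTop, r i * (R j).eval (m : ℚ) < r j * (R i).eval (m : ℚ)) :
    ∀ i j : Fin n, i < j →
      ∀ᶠ m : ℕ in atTop, r i * (R j).eval (m : ℚ) < r j * (R i).eval (m : ℚ) := by
  have key : ∀ (k : ℕ) (i j : Fin n), i.val + k + 1 = j.val →
      ∀ᶠ m : ℕ in atTop, r i * (R j).eval (m : ℚ) < r j * (R i).eval (m : ℚ) := by
    intro k
    induction k with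
    | zero =>
      intro i j hij
      exact hstep i j (by omega)
    | succ k ih =>
      intro i j hij
      have hj' : j.val - 1 < n := by omega
      have h1 := ih i ⟨j.val - 1, hj'⟩ (by simp only; omega)
      have h2 := hstep ⟨j.val - 1, hj'⟩ j (by simp only; omega)
      filter_upwards [h1, h2] with m hm1 hm2
      have hrj' := hr ⟨j.val - 1, hj'⟩
      refine lt_of_mul_lt_mul_left ?_ hrj'.le
      have e1 := mul_lt_mul_of_pos_left hm2 (hr i)
      have e2 := mul_lt_mul_of_pos_left hm1 (hr j)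
      linarith
  intro i j hij
  exact key (j.val - i.val - 1) i j (by have := Fin.lt_def.1 hij; omega)

/-- the `ℓ`-truncated Hilbert polynomial of a tested object of dimension `< d` is eventually
nonnegative -/
theorem topPart_eventually_nonneg (ax : Ax ok HP sdim) {Q : C} {P : ℚ[X]} {d ℓ : ℕ} (okQ : ok Q)
    (hP : HP Q P) (hle : sdim Q ≤ (d : WithBot ℕ∞)) (h0 : alpha d P = 0) :
    ∀ᶠ m : ℕ in atTop, 0 ≤ (topPart ℓ d P).eval (m : ℚ) := by
  by_cases hz : IsZero Q
  · rw [ax.hp_eq_zero hz hP, topPart_zero]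
    simp
  · obtain ⟨e, he⟩ := ax.sdim_nat okQ hz
    have hdeg := ax.deg_le e okQ hP he.le
    have hpos := ax.alpha_pos e okQ hP he
    have hed : e ≤ d := by
      rw [he] at hle
      exact_mod_cast hle
    have hne : e ≠ d := by
      rintro rfl
      rw [h0] at hpos
      exact lt_irrefl _ hpos
    by_cases hcase : e < d - ℓ
    · rw [topPart_eq_zero_of_lt hdeg hcase]
      simp
    · push_neg at hcase
      have h1 : (topPart ℓ d P).natDegree ≤ e := natDegree_topPart_le_of_le hdeg
      have h2 : 0 < alpha e (topPart ℓ d P) := by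
        unfold alpha at hpos ⊢
        rw [coeff_topPart, if_pos (Finset.mem_Icc.2 ⟨hcase, hed⟩)]
        exact hpos
      filter_upwards [eventually_pos_of_alpha_pos h1 h2] with m hm
      exact hm.le

/-! ### the main theorem -/

/-- **The last factor of an `ℓ`-Harder-Narasimhan filtration is the minimal destabilising
quotient**: a pure tested quotient of `E` with the multiplicity and the reduced `ℓ`-truncated
polynomial of the last factor is that factor. -/
theorem lastFactor_iso (ax : Ax ok HP sdim) (axn : AxN ok HP)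
    (hbi : ∀ {A B : C}, ok A → ok B → ok (A ⊞ B)) {E : C} {d ℓ : ℕ} (okE : ok E)
    (nzE : ¬ IsZero E) (pureE : Pure ok sdim E d) (s : LTSeries (Subobject E))
    (hs : IsHNWith (fun G => EllSS ok HP sdim G d ℓ)
      (fun G P => ∃ Q : ℚ[X], HP G Q ∧ P = topPart ℓ d Q) d E s)
    {G : C} (q : E ⟶ G) [Epi q] (okG : ok G) (pureG : Pure ok sdim G d)
    {pF pG : ℚ[X]} (hpF : HP (cokernel s.eraseLast.last.arrow) pF) (hpG : HP G pG)
    (hα : alpha d pF = alpha d pG)
    (hred : RedEq d (topPart ℓ d pF) (topPart ℓ d pG)) :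
    ∃ φ : cokernel s.eraseLast.last.arrow ≅ G,
      cokernel.π s.eraseLast.last.arrow ≫ φ.hom = q := by
  obtain ⟨hhead, hlast, hfac, hdec⟩ := hs
  have dimE : sdim E = (d : WithBot ℕ∞) := pureE E (𝟙 E) inferInstance okE nzE
  have hsd : ∀ S : Subobject E, sdim (S : C) ≤ (d : WithBot ℕ∞) := fun S =>
    (ax.sdim_mono S.arrow inferInstance).trans dimE.le
  have oks := JHUnique.ok_of_factors ax axn okE s hlast (fun i => (hfac i).1)
  have hhead' : s 0 = ⊥ := hhead
  have hlast' : s (Fin.last s.length) = ⊤ := hlast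
  have hlen : 0 < s.length := by
    by_contra h0
    have h0' : s.length = 0 := by omega
    have e0 : (0 : Fin (s.length + 1)) = Fin.last s.length := Fin.ext (by simp [h0'])
    rw [e0, hlast'] at hhead'
    exact (bot_lt_top_of_not_isZero nzE).ne hhead'.symm
  -- the kernel of `q`
  obtain ⟨pE, hpE⟩ := ax.hp_exists okE
  have okKer := ax.ok_ker q okE okG
  have hpKer := ax.hp_ker q okE okG hpE hpG
  obtain ⟨okK, hPK⟩ := PP_mk ax axn (kernel.ι q) okKer hpKer
  obtain ⟨K, hKdef⟩ : ∃ K : Subobject E, K = Subobject.mk (kernel.ι q) := ⟨_, rfl⟩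
  rw [← hKdef] at okK hPK
  have okTop : ok ((⊤ : Subobject E) : C) := ok_top ax axn okE
  have hPtop : PP HP (⊤ : Subobject E) = pE :=
    PP_eq ax okTop (ax.hp_iso (asIso (⊤ : Subobject E).arrow).symm hpE)
  have okKs : ∀ j : Fin (s.length + 1), ok ((K ⊔ s j : Subobject E) : C) := fun j =>
    (inf_sup_data ax axn hbi okE okK (oks j)).2.1
  have okD : ∀ i : Fin s.length, ok ((s i.succ ⊓ (K ⊔ s i.castSucc) : Subobject E) : C) :=
    fun i => (inf_sup_data ax axn hbi okE (oks i.succ) (okKs i.castSucc)).1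
  have hmod : ∀ i : Fin s.length,
      PP HP (s i.succ) - PP HP (s i.succ ⊓ (K ⊔ s i.castSucc)) =
        PP HP (K ⊔ s i.succ) - PP HP (K ⊔ s i.castSucc) := by
    intro i
    have h := (inf_sup_data ax axn hbi okE (oks i.succ) (okKs i.castSucc)).2.2
    have hsup : s i.succ ⊔ (K ⊔ s i.castSucc) = K ⊔ s i.succ :=
      le_antisymm
        (sup_le le_sup_right (sup_le le_sup_left ((s.step i).le.trans le_sup_right)))
        (sup_le (le_sup_left.trans le_sup_right) le_sup_left)
    rw [hsup] at h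
    linear_combination (-1 : ℚ[X]) * h
  have hfacHP : ∀ i : Fin s.length,
      HP (factor s i) (PP HP (s i.succ) - PP HP (s i.castSucc)) := fun i =>
    (quot_ok_hp ax (s.step i).le (oks i.castSucc) (oks i.succ)).2
  have hr : ∀ i : Fin s.length, 0 < alpha d (PP HP (s i.succ) - PP HP (s i.castSucc)) :=
    fun i => ax.alpha_pos_of_pure (hfac i).1 (hfac i).2.1 (hfac i).2.2.1 (hfacHP i)
  have hDB : ∀ i : Fin s.length, s i.succ ⊓ (K ⊔ s i.castSucc) ≤ s i.succ := fun i => inf_le_left
  have hQd : ∀ i : Fin s.length,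
      sdim (cokernel (Subobject.ofLE _ _ (hDB i))) ≤ (d : WithBot ℕ∞) := fun i =>
    (ax.sdim_epi (cokernel.π _) inferInstance).trans (hsd (s i.succ))
  have ha : ∀ i : Fin s.length,
      0 ≤ alpha d (PP HP (s i.succ) - PP HP (s i.succ ⊓ (K ⊔ s i.castSucc))) := fun i =>
    ax.alpha_nonneg (quot_ok_hp ax (hDB i) (okD i) (oks i.succ)).1
      (quot_ok_hp ax (hDB i) (okD i) (oks i.succ)).2 (hQd i)
  -- the quotients of the factors dominate the factors
  have claim1 : ∀ i : Fin s.length, ∀ᶠ m : ℕ in atTop,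
      alpha d (PP HP (s i.succ) - PP HP (s i.succ ⊓ (K ⊔ s i.castSucc))) *
          (topPart ℓ d (PP HP (s i.succ) - PP HP (s i.castSucc))).eval (m : ℚ) ≤
        alpha d (PP HP (s i.succ) - PP HP (s i.castSucc)) *
          (topPart ℓ d
            (PP HP (s i.succ) - PP HP (s i.succ ⊓ (K ⊔ s i.castSucc)))).eval (m : ℚ) := by
    intro i
    have hAD : s i.castSucc ≤ s i.succ ⊓ (K ⊔ s i.castSucc) :=
      le_inf (s.step i).le le_sup_right
    rcases hAD.eq_or_lt with heq | hlt
    · rw [← heq]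
      exact Eventually.of_forall (fun m => le_refl _)
    · obtain ⟨T, γ, hγ, okT, nzT, hpT⟩ :=
        quot_of_sub ax hAD (hDB i) (oks i.castSucc) (okD i) hlt
      have hc : 0 < alpha d (PP HP (s i.succ ⊓ (K ⊔ s i.castSucc)) - PP HP (s i.castSucc)) :=
        ax.alpha_pos d okT hpT ((hfac i).2.2.1 T γ hγ okT nzT)
      obtain ⟨okQ, hpQ⟩ := quot_ok_hp ax (hDB i) (okD i) (oks i.succ)
      rcases (ha i).eq_or_lt with h0 | hpos
      · have hnn := topPart_eventually_nonneg (ℓ := ℓ) ax okQ hpQ (hQd i) h0.symm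
        filter_upwards [hnn] with m hm
        rw [← h0, zero_mul]
        exact mul_nonneg (hr i).le hm
      · have hlt' : alpha d (PP HP (s i.succ ⊓ (K ⊔ s i.castSucc)) - PP HP (s i.castSucc)) <
            alpha d (PP HP (s i.succ) - PP HP (s i.castSucc)) := by
          rw [alpha_sub] at hpos ⊢
          rw [alpha_sub]
          linarith
        have hle := (hfac i).2.2.2 T γ hγ okT _ _ hpT (hfacHP i) hc hlt'
        rw [redLE_iff] at hle
        simp only [alpha_topPart] at hle
        filter_upwards [hle] with m hm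
        have eU : topPart ℓ d (PP HP (s i.succ) - PP HP (s i.succ ⊓ (K ⊔ s i.castSucc))) =
            topPart ℓ d (PP HP (s i.succ) - PP HP (s i.castSucc)) -
              topPart ℓ d (PP HP (s i.succ ⊓ (K ⊔ s i.castSucc)) - PP HP (s i.castSucc)) := by
          rw [← topPart_sub]
          congr 1
          ring
        have eA : alpha d (PP HP (s i.succ) - PP HP (s i.succ ⊓ (K ⊔ s i.castSucc))) =
            alpha d (PP HP (s i.succ) - PP HP (s i.castSucc)) -
              alpha d (PP HP (s i.succ ⊓ (K ⊔ s i.castSucc)) - PP HP (s i.castSucc)) := by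
          rw [← alpha_sub]
          congr 1
          ring
        rw [eU, eA, eval_sub]
        nlinarith [hm]
  -- the reduced polynomials of the factors decrease
  have claim2a : ∀ i j : Fin s.length, i.val + 1 = j.val → ∀ᶠ m : ℕ in atTop,
      alpha d (PP HP (s i.succ) - PP HP (s i.castSucc)) *
          (topPart ℓ d (PP HP (s j.succ) - PP HP (s j.castSucc))).eval (m : ℚ) <
        alpha d (PP HP (s j.succ) - PP HP (s j.castSucc)) *
          (topPart ℓ d (PP HP (s i.succ) - PP HP (s i.castSucc))).eval (m : ℚ) := by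
    intro i j hij
    have h := hdec i j hij (topPart ℓ d (PP HP (s i.succ) - PP HP (s i.castSucc)))
      (topPart ℓ d (PP HP (s j.succ) - PP HP (s j.castSucc))) ⟨_, hfacHP i, rfl⟩
      ⟨_, hfacHP j, rfl⟩
    rw [redLT_iff] at h
    simp only [alpha_topPart] at h
    exact h
  have claim2 := decreasing_trans
    (fun i : Fin s.length => alpha d (PP HP (s i.succ) - PP HP (s i.castSucc)))
    (fun i : Fin s.length => topPart ℓ d (PP HP (s i.succ) - PP HP (s i.castSucc))) hr claim2a
  -- the last index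
  obtain ⟨L, hAL, hLval⟩ : ∃ L : Fin s.length,
      s.eraseLast.last = s L.castSucc ∧ L.val = s.length - 1 :=
    ⟨⟨s.length - 1, by omega⟩, rfl, rfl⟩
  have hLsucc : L.succ = Fin.last s.length := Fin.ext (by simp [hLval]; omega)
  have hBL : s L.succ = ⊤ := by rw [hLsucc]; exact hlast'
  have hLmax : ∀ i : Fin s.length, i ≤ L := fun i => Fin.le_def.2 (by rw [hLval]; omega)
  have okAL : ok ((s.eraseLast.last : Subobject E) : C) := by rw [hAL]; exact oks _
  have hpFeq : pF = PP HP (⊤ : Subobject E) - PP HP (s L.castSucc) := by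
    rw [← hAL]
    exact ax.hp_unique hpF
      (ax.hp_iso (cokerArrowIso _) (quot_ok_hp ax le_top okAL okTop).2)
  have hpFeq' : pF = PP HP (s L.succ) - PP HP (s L.castSucc) := by rw [hBL]; exact hpFeq
  -- the sums
  have hsumu : ∑ i : Fin s.length,
      (PP HP (s i.succ) - PP HP (s i.succ ⊓ (K ⊔ s i.castSucc))) = pG :=
    calc ∑ i : Fin s.length, (PP HP (s i.succ) - PP HP (s i.succ ⊓ (K ⊔ s i.castSucc)))
        = ∑ i : Fin s.length, (PP HP (K ⊔ s i.succ) - PP HP (K ⊔ s i.castSucc)) :=
          Finset.sum_congr rfl (fun i _ => hmod i)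
      _ = PP HP (K ⊔ s (Fin.last s.length)) - PP HP (K ⊔ s 0) :=
          telescope s.length (fun j => PP HP (K ⊔ s j))
      _ = pG := by
          rw [hlast', hhead', sup_top_eq, sup_bot_eq, hPtop, hPK]
          ring
  have hsumA : ∑ i : Fin s.length,
      alpha d (PP HP (s i.succ) - PP HP (s i.succ ⊓ (K ⊔ s i.castSucc))) = alpha d pG := by
    rw [← alpha_sum, hsumu]
  have hrL := hr L
  have hne : alpha d pG ≠ 0 := by
    rw [← hα, hpFeq']
    exact hrL.ne'
  have htop : topPart ℓ d pG = topPart ℓ d pF := by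
    have h := hred
    unfold RedEq at h
    rw [alpha_topPart, alpha_topPart, hα] at h
    exact (smul_right_injective (ℚ[X]) hne h).symm
  have hsumU : ∀ m : ℕ, ∑ i : Fin s.length,
      (topPart ℓ d (PP HP (s i.succ) - PP HP (s i.succ ⊓ (K ⊔ s i.castSucc)))).eval (m : ℚ) =
        (topPart ℓ d (PP HP (s L.succ) - PP HP (s L.castSucc))).eval (m : ℚ) := by
    intro m
    rw [← eval_finset_sum, ← topPart_sum, hsumu, htop, hpFeq']
  -- a large `m`
  have c2 : ∀ i : Fin s.length, ∀ᶠ m : ℕ in atTop, i < L →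
      alpha d (PP HP (s i.succ) - PP HP (s i.castSucc)) *
          (topPart ℓ d (PP HP (s L.succ) - PP HP (s L.castSucc))).eval (m : ℚ) <
        alpha d (PP HP (s L.succ) - PP HP (s L.castSucc)) *
          (topPart ℓ d (PP HP (s i.succ) - PP HP (s i.castSucc))).eval (m : ℚ) := by
    intro i
    by_cases hi : i < L
    · exact (claim2 i L hi).mono (fun m hm _ => hm)
    · exact Eventually.of_forall (fun m h' => absurd h' hi)
  obtain ⟨m, hm1, hm2⟩ := ((eventually_all.2 claim1).and (eventually_all.2 c2)).exists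
  have hzero := numeric_core L hLmax
    (fun i : Fin s.length => alpha d (PP HP (s i.succ) - PP HP (s i.castSucc)))
    (fun i : Fin s.length =>
      alpha d (PP HP (s i.succ) - PP HP (s i.succ ⊓ (K ⊔ s i.castSucc))))
    (fun i : Fin s.length =>
      (topPart ℓ d (PP HP (s i.succ) - PP HP (s i.castSucc))).eval (m : ℚ))
    (fun i : Fin s.length =>
      (topPart ℓ d (PP HP (s i.succ) - PP HP (s i.succ ⊓ (K ⊔ s i.castSucc)))).eval (m : ℚ))
    hr ha hm1 hm2 (hsumU m) (by rw [hsumA, ← hα, hpFeq'])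
  -- the multiplicity of `K ⊔ s_{m-1}`
  have haL : alpha d (PP HP (s L.succ) - PP HP (s L.succ ⊓ (K ⊔ s L.castSucc))) =
      alpha d pG := by
    rw [← hsumA]
    exact (Finset.sum_eq_single L (fun i _ hi => hzero i (lt_of_le_of_ne (hLmax i) hi))
      (fun h => absurd (Finset.mem_univ L) h)).symm
  have hαK : alpha d (PP HP (K ⊔ s L.castSucc)) = alpha d (PP HP K) := by
    rw [hmod L, hBL, sup_top_eq, hPtop, alpha_sub] at haL
    rw [hPK, alpha_sub]
    linarith
  -- `s_{m-1} ≤ K`
  have hsupK : K ⊔ s L.castSucc = K := by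
    by_contra hne'
    have hlt : K < K ⊔ s L.castSucc := lt_of_le_of_ne le_sup_left (Ne.symm hne')
    obtain ⟨T, γ, hγ, okT, nzT, hpT⟩ :=
      quot_of_sub ax (le_sup_left : K ≤ K ⊔ s L.castSucc) le_top okK (okKs L.castSucc) hlt
    obtain ⟨φ, -⟩ := exists_iso_of_eq_kernel q K hKdef
    haveI := hγ
    have hdim := pureG T (γ ≫ (cokerArrowIso K ≪≫ φ).hom) inferInstance okT nzT
    have h1 := ax.alpha_pos d okT hpT hdim
    rw [alpha_sub, hαK, sub_self] at h1
    exact lt_irrefl _ h1
  have hAK : s L.castSucc ≤ K := sup_eq_left.1 hsupK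
  -- `s_{m-1} = K`
  have hfinal : s L.castSucc = K := by
    by_contra hne'
    have hlt : s L.castSucc < K := lt_of_le_of_ne hAK hne'
    have hKB : K ≤ s L.succ := by rw [hBL]; exact le_top
    obtain ⟨T, γ, hγ, okT, nzT, hpT⟩ := quot_of_sub ax hAK hKB (oks L.castSucc) okK hlt
    have hdim := (hfac L).2.2.1 T γ hγ okT nzT
    have h1 := ax.alpha_pos d okT hpT hdim
    have h0 : alpha d (PP HP K - PP HP (s L.castSucc)) = 0 := by
      have h2 : alpha d pF = alpha d pE - alpha d (PP HP (s L.castSucc)) := by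
        rw [hpFeq, hPtop, alpha_sub]
      rw [alpha_sub, hPK, alpha_sub]
      linarith
    rw [h0] at h1
    exact lt_irrefl _ h1
  exact exists_iso_of_eq_kernel q s.eraseLast.last (by rw [hAL, hfinal, hKdef])

end Groth.Agent.Lib.R2H7.EllMinQuot
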