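import Groth.Agent.Lib.R2H7ExtPoly
import Groth.Agent.Lib.Helper25UnipExt
import Groth.Agent.Lib.Helper25TakeuchiCor
import Groth.Agent.Lib.Helper25HSub
import Groth.Agent.Lib.Helper25HopfSub
import Groth.Agent.Lib.Helper25DiagMu

/-!
# Extensions of a diagonalizable group by a unipotent group: the one-step case (helper7)

`A` is a commutative Hopf algebra over a field `k`, `ψ : B → A` an injective bialgebra map from a
diagonalizable Hopf algebra, `J` the Hopf ideal generated by the augmentation ideal of `B`.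
Given a skew-primitive element `y` (`Δ y = y ⊗ ψ g + 1 ⊗ y`), over an algebraically closed field we
find `c` such that the Hopf ideal generated by `y' = y - c (ψ g - 1)` meets `ψ B` trivially.
-/

set_option autoImplicit false

namespace Groth.Agent.Lib.R2H7.ExtBase

open TensorProduct HopfRep Polynomial Groth.Agent.Lib.Helper25 Groth.Agent.Lib.Helper25.HopfSub
  Groth.Agent.Lib.R2H7.ExtPoly

universe u

section Basic

variable {k A B : Type u} [Field k] [CommRing A] [HopfAlgebra k A] [CommRing B] [HopfAlgebra k B]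
  (ψ : B →ₐc[k] A) (J : Ideal A) [J.IsHopfIdeal k]
  (hJ : J = Ideal.map (ψ : B →+* A) (RingHom.ker (Bialgebra.counitAlgHom k B)))

include hJ in
theorem mk_map_eq (b : B) :
    Ideal.Quotient.mk J (ψ b) = algebraMap k (A ⧸ J) (CoalgebraStruct.counit (R := k) b) := by
  have h1 : b - algebraMap k B (CoalgebraStruct.counit (R := k) b) ∈
      RingHom.ker (Bialgebra.counitAlgHom k B) := by
    rw [RingHom.mem_ker, map_sub, Bialgebra.counitAlgHom_apply, AlgHom.commutes]
    simp
  have h2 : ψ (b - algebraMap k B (CoalgebraStruct.counit (R := k) b)) ∈ J := by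
    rw [hJ]; exact Ideal.mem_map_of_mem _ h1
  rw [map_sub, AlgHomClass.commutes] at h2
  rw [Ideal.Quotient.eq.mpr h2]
  rfl

include hJ in
theorem mk_map_groupLike {g : B} (hg : IsGroupLikeElem k g) : Ideal.Quotient.mk J (ψ g) = 1 := by
  rw [mk_map_eq ψ J hJ, hg.counit_eq_one, map_one]

include hJ in
theorem range_eq_coinvSub : (ψ : B →ₐ[k] A).range = coinvSub k J := by
  have hH := isHopfSubalgebra_range ψ
  exact eq_coinvSub_of_eq_augIdealSpan ⟨(ψ : B →ₐ[k] A).range, hH.1, hH.2⟩ J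
    (hJ.trans (map_ker_counit_eq_augIdealSpan ψ)) (isNormalHopfIdeal_map_ker_counit ψ J hJ)

include hJ in
theorem rhoR_map (b : B) : rhoR k J (ψ b) = ψ b ⊗ₜ[k] (1 : A ⧸ J) := by
  have h : ψ b ∈ coinvSub k J := by
    rw [← range_eq_coinvSub ψ J hJ]; exact ⟨b, rfl⟩
  rw [rhoR_apply]
  exact (mem_coinvSub J).mp h

variable (k) in
/-- The left coaction of the quotient `A ⧸ J` on `A`. -/
noncomputable def rhoL : A →ₐ[k] (A ⧸ J) ⊗[k] A :=
  (Algebra.TensorProduct.map (Ideal.Quotient.mkₐ k J) (AlgHom.id k A)).comp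
    (Bialgebra.comulAlgHom k A)

include hJ in
theorem rhoL_map (hD : IsDiagonalizable k B) (b : B) :
    rhoL k J (ψ b) = (1 : A ⧸ J) ⊗ₜ[k] ψ b := by
  have h : (rhoL k J).toLinearMap ∘ₗ (ψ : B →ₐ[k] A).toLinearMap =
      (Algebra.TensorProduct.includeRight : A →ₐ[k] (A ⧸ J) ⊗[k] A).toLinearMap ∘ₗ
        (ψ : B →ₐ[k] A).toLinearMap := by
    apply (groupLikeBasis hD).ext
    intro h
    have hh : IsGroupLikeElem k (ψ (h.1)) := h.2.map ψ
    simp only [LinearMap.comp_apply, groupLikeBasis_apply, AlgHom.toLinearMap_apply]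
    show rhoL k J (ψ h.1) = Algebra.TensorProduct.includeRight (ψ h.1)
    rw [rhoL, AlgHom.comp_apply, Bialgebra.comulAlgHom_apply, hh.comul_eq_tmul_self,
      Algebra.TensorProduct.map_tmul, Ideal.Quotient.mkₐ_eq_mk, mk_map_groupLike ψ J hJ h.2]
    rfl
  exact LinearMap.congr_fun h b

end Basic

section Skew

variable {k A B : Type u} [Field k] [CommRing A] [HopfAlgebra k A] [CommRing B] [HopfAlgebra k B]
  (ψ : B →ₐc[k] A) (J : Ideal A) [J.IsHopfIdeal k]
  (hJ : J = Ideal.map (ψ : B →+* A) (RingHom.ker (Bialgebra.counitAlgHom k B)))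
  {y : A} {g : B} (hg : IsGroupLikeElem k g)
  (hy : CoalgebraStruct.comul (R := k) y = y ⊗ₜ[k] ψ g + (1 : A) ⊗ₜ[k] y)

include hg hy in
theorem counit_skew : CoalgebraStruct.counit (R := k) y = 0 := by
  have h1 := Coalgebra.rTensor_counit_comul (R := k) y
  rw [hy, map_add, LinearMap.rTensor_tmul, LinearMap.rTensor_tmul, Bialgebra.counit_one] at h1
  have h2 : (CoalgebraStruct.counit (R := k) y) ⊗ₜ[k] ψ g = (0 : k ⊗[k] A) := by
    simpa using h1
  have h3 := congrArg (TensorProduct.lid k A) h2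
  rw [TensorProduct.lid_tmul, map_zero] at h3
  have h4 := congrArg (CoalgebraStruct.counit (R := k)) h3
  rw [map_smul, map_zero, (hg.map ψ).counit_eq_one, smul_eq_mul, mul_one] at h4
  exact h4

include hg hy in
theorem antipode_skew :
    HopfAlgebra.antipode k y = - (y * ψ (HopfAlgebra.antipode k g)) := by
  have h1 := HopfAlgebra.mul_antipode_rTensor_comul_apply (R := k) y
  rw [hy, map_add, LinearMap.rTensor_tmul, LinearMap.rTensor_tmul, map_add,
    LinearMap.mul'_apply, LinearMap.mul'_apply, HopfAlgebra.antipode_one, one_mul,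
    counit_skew ψ hg hy, map_zero] at h1
  have hgg : ψ g * ψ (HopfAlgebra.antipode k g) = 1 := by
    rw [← map_mul, hg.mul_antipode_cancel, map_one]
  calc HopfAlgebra.antipode k y
      = HopfAlgebra.antipode k y * (ψ g * ψ (HopfAlgebra.antipode k g)) := by
        rw [hgg, mul_one]
    _ = (HopfAlgebra.antipode k y * ψ g) * ψ (HopfAlgebra.antipode k g) := by ring
    _ = (-y) * ψ (HopfAlgebra.antipode k g) := by rw [eq_neg_of_add_eq_zero_left h1]
    _ = _ := by ring

include hJ hg hy in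
theorem comul_mk_skew :
    CoalgebraStruct.comul (R := k) (Ideal.Quotient.mk J y) =
      Ideal.Quotient.mk J y ⊗ₜ[k] (1 : A ⧸ J) + (1 : A ⧸ J) ⊗ₜ[k] Ideal.Quotient.mk J y := by
  rw [Bialgebra.Quotient.comul_mk, hy, map_add, TensorProduct.map_tmul, TensorProduct.map_tmul]
  simp only [AlgHom.toLinearMap_apply, Ideal.Quotient.mkₐ_eq_mk, mk_map_groupLike ψ J hJ hg,
    map_one]

include hJ hg hy in
theorem rhoR_skew :
    rhoR k J y = y ⊗ₜ[k] (1 : A ⧸ J) + (1 : A) ⊗ₜ[k] Ideal.Quotient.mk J y := by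
  rw [rhoR_apply, hy, map_add, LinearMap.lTensor_tmul, LinearMap.lTensor_tmul]
  simp only [AlgHom.toLinearMap_apply, Ideal.Quotient.mkₐ_eq_mk, mk_map_groupLike ψ J hJ hg]

include hy in
theorem rhoL_skew :
    rhoL k J y = Ideal.Quotient.mk J y ⊗ₜ[k] ψ g + (1 : A ⧸ J) ⊗ₜ[k] y := by
  rw [rhoL, AlgHom.comp_apply, Bialgebra.comulAlgHom_apply, hy, map_add,
    Algebra.TensorProduct.map_tmul, Algebra.TensorProduct.map_tmul]
  simp only [Ideal.Quotient.mkₐ_eq_mk, AlgHom.id_apply, map_one]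

include hJ hg hy in
theorem aeval_mem_range :
    aeval y (minpoly k (Ideal.Quotient.mk J y)) ∈ (ψ : B →ₐ[k] A).range := by
  rw [range_eq_coinvSub ψ J hJ, mem_coinvSub, ← rhoR_apply]
  have h1 := aeval_algHom_apply (rhoR k J) y (minpoly k (Ideal.Quotient.mk J y))
  rw [← h1, rhoR_skew ψ J hJ hg hy, aeval_add_minpoly (comul_mk_skew ψ J hJ hg hy)]
  have h2 := aeval_algHom_apply (Algebra.TensorProduct.includeLeft : A →ₐ[k] A ⊗[k] (A ⧸ J)) y
    (minpoly k (Ideal.Quotient.mk J y))
  have h3 := aeval_algHom_apply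
    (Algebra.TensorProduct.includeRight : (A ⧸ J) →ₐ[k] A ⊗[k] (A ⧸ J))
    (Ideal.Quotient.mk J y) (minpoly k (Ideal.Quotient.mk J y))
  simp only [Algebra.TensorProduct.includeLeft_apply,
    Algebra.TensorProduct.includeRight_apply] at h2 h3
  rw [h2, h3, minpoly.aeval, TensorProduct.tmul_zero, add_zero]

include hJ hg hy in
theorem coeff_smul_pow (hD : IsDiagonalizable k B) (i : ℕ) :
    (minpoly k (Ideal.Quotient.mk J y)).coeff i • (ψ g) ^ i =
      (minpoly k (Ideal.Quotient.mk J y)).coeff i •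
        (ψ g) ^ (minpoly k (Ideal.Quotient.mk J y)).natDegree := by
  apply coeff_smul_pow_eq (Ideal.Quotient.mk J y) (ψ g)
  obtain ⟨b₀, hb₀⟩ := aeval_mem_range ψ J hJ hg hy
  have hb₀' : ψ b₀ = aeval y (minpoly k (Ideal.Quotient.mk J y)) := hb₀
  have h1 := aeval_algHom_apply (rhoL k J) y (minpoly k (Ideal.Quotient.mk J y))
  rw [rhoL_skew ψ J hy, aeval_add_minpoly (comul_mk_skew ψ J hJ hg hy), ← hb₀',
    rhoL_map ψ J hJ hD b₀] at h1
  have h3 := aeval_algHom_apply
    (Algebra.TensorProduct.includeRight : A →ₐ[k] (A ⧸ J) ⊗[k] A) y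
    (minpoly k (Ideal.Quotient.mk J y))
  simp only [Algebra.TensorProduct.includeRight_apply] at h3
  rw [h3, ← hb₀'] at h1
  exact add_eq_right.mp h1

include hJ hg hy in
theorem comul_aeval (hD : IsDiagonalizable k B) :
    CoalgebraStruct.comul (R := k) (aeval y (minpoly k (Ideal.Quotient.mk J y))) =
      aeval y (minpoly k (Ideal.Quotient.mk J y)) ⊗ₜ[k]
        ((ψ g) ^ (minpoly k (Ideal.Quotient.mk J y)).natDegree) +
      (1 : A) ⊗ₜ[k] aeval y (minpoly k (Ideal.Quotient.mk J y)) := by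
  have h1 := aeval_algHom_apply (Bialgebra.comulAlgHom k A) y (minpoly k (Ideal.Quotient.mk J y))
  rw [Bialgebra.comulAlgHom_apply, Bialgebra.comulAlgHom_apply] at h1
  rw [← h1, hy, aeval_add_minpoly (comul_mk_skew ψ J hJ hg hy)]
  congr 1
  · rw [aeval_eq_sum_range, aeval_eq_sum_range, TensorProduct.sum_tmul]
    apply Finset.sum_congr rfl
    intro i _
    rw [Algebra.TensorProduct.tmul_pow, ← TensorProduct.tmul_smul,
      coeff_smul_pow ψ J hJ hg hy hD i, TensorProduct.tmul_smul, TensorProduct.smul_tmul']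
  · have h3 := aeval_algHom_apply
      (Algebra.TensorProduct.includeRight : A →ₐ[k] A ⊗[k] A) y
      (minpoly k (Ideal.Quotient.mk J y))
    simp only [Algebra.TensorProduct.includeRight_apply] at h3
    exact h3

include hJ hg hy in
theorem exists_smul_eq (hψ : Function.Injective ψ) (hD : IsDiagonalizable k B) :
    ∃ c' : k, aeval y (minpoly k (Ideal.Quotient.mk J y)) =
      c' • ((ψ g) ^ (minpoly k (Ideal.Quotient.mk J y)).natDegree - 1) := by
  obtain ⟨b₀, hb₀⟩ := aeval_mem_range ψ J hJ hg hy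
  have hb₀' : ψ b₀ = aeval y (minpoly k (Ideal.Quotient.mk J y)) := hb₀
  set n := (minpoly k (Ideal.Quotient.mk J y)).natDegree with hn
  have hgn : IsGroupLikeElem k (g ^ n) := hg.pow
  have hcom : CoalgebraStruct.comul (R := k) b₀ = b₀ ⊗ₜ[k] (g ^ n) + (1 : B) ⊗ₜ[k] b₀ := by
    have hinj : Function.Injective (TensorProduct.map (ψ : B →ₐ[k] A).toLinearMap
        (ψ : B →ₐ[k] A).toLinearMap) :=
      TensorProduct.map_injective_of_flat_flat _ _ hψ hψ
    apply hinj
    have h2 := CoalgHomClass.map_comp_comul_apply ψ b₀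
    have h3 : TensorProduct.map (ψ : B →ₐ[k] A).toLinearMap (ψ : B →ₐ[k] A).toLinearMap
        (CoalgebraStruct.comul (R := k) b₀) = CoalgebraStruct.comul (R := k) (ψ b₀) := h2
    rw [h3, hb₀', comul_aeval ψ J hJ hg hy hD, map_add, TensorProduct.map_tmul,
      TensorProduct.map_tmul]
    simp only [AlgHom.toLinearMap_apply, AlgHom.coe_coe, map_pow, map_one]
    rw [← hb₀']
    rfl
  have h2 := slice_coord_comul hD ⟨g ^ n, hgn⟩ b₀
  rw [hcom, map_add, slice_tmul, slice_tmul] at h2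
  have h4 : (groupLikeBasis hD).coord ⟨g ^ n, hgn⟩ (g ^ n) = 1 := by
    have h5 : (groupLikeBasis hD).repr (g ^ n) = Finsupp.single ⟨g ^ n, hgn⟩ 1 := by
      have h6 := Module.Basis.repr_self (groupLikeBasis hD) ⟨g ^ n, hgn⟩
      rwa [groupLikeBasis_apply] at h6
    rw [Module.Basis.coord_apply, h5, Finsupp.single_eq_same]
  rw [h4, one_smul] at h2
  refine ⟨(groupLikeBasis hD).coord ⟨g ^ n, hgn⟩ b₀, ?_⟩
  rw [← hb₀']
  have h6 : b₀ = (groupLikeBasis hD).coord ⟨g ^ n, hgn⟩ b₀ • (g ^ n - 1) := by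
    rw [smul_sub]
    exact eq_sub_of_add_eq h2
  conv_lhs => rw [h6]
  rw [map_smul, map_sub, map_pow, map_one]

include hJ hg hy in
theorem exists_shift [IsAlgClosed k] (hψ : Function.Injective ψ) (hD : IsDiagonalizable k B) :
    ∃ c : k, aeval (y - c • (ψ g - 1)) (minpoly k (Ideal.Quotient.mk J y)) = 0 := by
  obtain ⟨c', hc'⟩ := exists_smul_eq ψ J hJ hg hy hψ hD
  have hprim := comul_mk_skew ψ J hJ hg hy
  haveI := nontrivial_of_bialgebra k (A ⧸ J)
  by_cases hx : IsIntegral k (Ideal.Quotient.mk J y)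
  · have hdeg : ((minpoly k (Ideal.Quotient.mk J y)) - C c').degree ≠ 0 := by
      rw [degree_sub_C (minpoly.degree_pos hx)]
      exact (minpoly.degree_pos hx).ne'
    obtain ⟨c, hc⟩ := IsAlgClosed.exists_root _ hdeg
    have hc2 : eval c (minpoly k (Ideal.Quotient.mk J y)) = c' := by
      rw [IsRoot.def, eval_sub, eval_C] at hc
      exact sub_eq_zero.mp hc
    refine ⟨c, ?_⟩
    have e1 : aeval (c • ψ g) (minpoly k (Ideal.Quotient.mk J y)) =
        c' • (ψ g) ^ (minpoly k (Ideal.Quotient.mk J y)).natDegree := by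
      rw [aeval_eq_sum_range, ← hc2, eval_eq_sum_range, Finset.sum_smul]
      apply Finset.sum_congr rfl
      intro i _
      rw [_root_.smul_pow, smul_comm, coeff_smul_pow ψ J hJ hg hy hD i, smul_comm, smul_smul]
    have e2 : aeval (c • (1 : A)) (minpoly k (Ideal.Quotient.mk J y)) = c' • (1 : A) := by
      rw [← Algebra.algebraMap_eq_smul_one, aeval_algebraMap_apply,
        ← Algebra.algebraMap_eq_smul_one, coe_aeval_eq_eval, hc2]
    rw [aeval_sub_minpoly hprim, smul_sub, aeval_sub_minpoly hprim, e1, e2, hc', smul_sub]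
    abel
  · refine ⟨0, ?_⟩
    rw [minpoly.eq_zero hx]
    simp

include hg hy in
theorem comul_shift (c : k) :
    CoalgebraStruct.comul (R := k) (y - c • (ψ g - 1)) =
      (y - c • (ψ g - 1)) ⊗ₜ[k] ψ g + (1 : A) ⊗ₜ[k] (y - c • (ψ g - 1)) := by
  have hgg : CoalgebraStruct.comul (R := k) (ψ g) = ψ g ⊗ₜ[k] ψ g :=
    (hg.map ψ).comul_eq_tmul_self
  rw [map_sub, map_smul, map_sub, hy, hgg, Bialgebra.comul_one, Algebra.TensorProduct.one_def,
    TensorProduct.sub_tmul, TensorProduct.tmul_sub, ← TensorProduct.smul_tmul',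
    TensorProduct.tmul_smul, TensorProduct.sub_tmul, TensorProduct.tmul_sub, smul_sub, smul_sub,
    smul_sub]
  abel

include hJ hg in
theorem mk_shift (c : k) :
    Ideal.Quotient.mk J (y - c • (ψ g - 1)) = Ideal.Quotient.mk J y := by
  rw [map_sub, Algebra.smul_def, map_mul, map_sub, mk_map_groupLike ψ J hJ hg, map_one, sub_self,
    mul_zero, sub_zero]

include hJ hg hy in
theorem rhoR_eval₂ (P : B[X]) :
    rhoR k J (eval₂ (ψ : B →+* A) y P) =
      aeval ((1 : A) ⊗ₜ[k] Ideal.Quotient.mk J y) (taylor y (P.map (ψ : B →+* A))) := by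
  induction P using Polynomial.induction_on' with
  | add p q hp hq =>
    rw [eval₂_add, map_add, hp, hq, Polynomial.map_add, map_add, map_add]
  | monomial n b =>
    have hb : ((ψ : B →+* A) b) = ψ b := rfl
    rw [eval₂_monomial, map_mul, map_pow, map_monomial, taylor_monomial, map_mul, map_pow,
      map_add, aeval_C, aeval_X, aeval_C, hb, rhoR_map ψ J hJ, rhoR_skew ψ J hJ hg hy,
      Algebra.TensorProduct.algebraMap_apply, Algebra.TensorProduct.algebraMap_apply,
      Algebra.algebraMap_self_apply, Algebra.algebraMap_self_apply, add_comm]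

include hJ hg hy in
theorem coeff_zero_of_eval₂ (hψ : Function.Injective ψ)
    (h0 : aeval y (minpoly k (Ideal.Quotient.mk J y)) = 0) (P : B[X])
    (hP : eval₂ (ψ : B →+* A) y P = 0) : P.coeff 0 = 0 := by
  have h1 : aeval ((1 : A) ⊗ₜ[k] Ideal.Quotient.mk J y)
      (taylor y (P.map (ψ : B →+* A))) = 0 := by
    rw [← rhoR_eval₂ ψ J hJ hg hy P, hP, map_zero]
  obtain ⟨q, hq⟩ := dvd_of_aeval_one_tmul_eq_zero (Ideal.Quotient.mk J y) A _ h1
  have h2 := congrArg (eval (-y)) hq
  rw [taylor_eval, neg_add_cancel, eval_mul, eval_map_algebraMap,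
    aeval_neg_minpoly (comul_mk_skew ψ J hJ hg hy), h0, neg_zero, zero_mul,
    ← coeff_zero_eq_eval_zero, coeff_map] at h2
  have hb : ((ψ : B →+* A) (P.coeff 0)) = ψ (P.coeff 0) := rfl
  rw [hb] at h2
  exact (map_eq_zero_iff ψ hψ).mp h2

/-- The sub-Hopf-algebra generated by `ψ B` and the skew-primitive element `y`. -/
noncomputable def adjSub : HSub k A where
  S := (Polynomial.aevalTower (ψ : B →ₐ[k] A) y).range
  comul_mem := by
    set S := (Polynomial.aevalTower (ψ : B →ₐ[k] A) y).range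
      with hS
    have hψS : ∀ b : B, ψ b ∈ S := fun b => ⟨C b, by simp⟩
    have hyS : y ∈ S := ⟨X, by simp⟩
    have hle : S ≤ Subalgebra.comap (Bialgebra.comulAlgHom k A)
        (Algebra.TensorProduct.map S.val S.val).range := by
      rintro _ ⟨P, rfl⟩
      induction P using Polynomial.induction_on with
      | C b =>
        rw [Subalgebra.mem_comap]
        have h1 : (Polynomial.aevalTower (ψ : B →ₐ[k] A) y).toRingHom
            (C b) = ψ b := by simp
        rw [h1, Bialgebra.comulAlgHom_apply, ← CoalgHomClass.map_comp_comul_apply ψ b]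
        generalize CoalgebraStruct.comul (R := k) b = z
        induction z using TensorProduct.induction_on with
        | zero => rw [map_zero]; exact Subalgebra.zero_mem _
        | tmul b1 b2 =>
          exact ⟨(⟨ψ b1, hψS b1⟩ : S) ⊗ₜ[k] (⟨ψ b2, hψS b2⟩ : S), by simp⟩
        | add z1 z2 h1 h2 => rw [map_add]; exact Subalgebra.add_mem _ h1 h2
      | add p q hp hq =>
        rw [map_add]; exact Subalgebra.add_mem _ hp hq
      | monomial n b ih =>
        have h1 : (C b * X ^ (n + 1) : B[X]) = (C b * X ^ n) * X := by ring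
        rw [h1, map_mul]
        refine Subalgebra.mul_mem _ ih ?_
        have h2 : (Polynomial.aevalTower (ψ : B →ₐ[k] A) y).toRingHom
            X = y := by simp
        rw [h2, Subalgebra.mem_comap, Bialgebra.comulAlgHom_apply, hy]
        refine Subalgebra.add_mem _ ?_ ?_
        · exact ⟨(⟨y, hyS⟩ : S) ⊗ₜ[k] (⟨ψ g, hψS g⟩ : S), by simp⟩
        · exact ⟨(1 : S) ⊗ₜ[k] (⟨y, hyS⟩ : S), by simp⟩
    intro a ha
    obtain ⟨w, hw⟩ := hle ha
    refine ⟨w, ?_⟩
    rw [← Bialgebra.comulAlgHom_apply]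
    exact hw
  antipode_mem := by
    set S := (Polynomial.aevalTower (ψ : B →ₐ[k] A) y).range
      with hS
    have hψS : ∀ b : B, ψ b ∈ S := fun b => ⟨C b, by simp⟩
    have hyS : y ∈ S := ⟨X, by simp⟩
    have hle : S ≤ Subalgebra.comap (HopfAlgebra.antipodeAlgHom k A) S := by
      rintro _ ⟨P, rfl⟩
      induction P using Polynomial.induction_on with
      | C b =>
        rw [Subalgebra.mem_comap]
        have h1 : (Polynomial.aevalTower (ψ : B →ₐ[k] A) y).toRingHom
            (C b) = ψ b := by simp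
        rw [h1, HopfAlgebra.antipodeAlgHom_apply, ← bialgHom_antipode]
        exact hψS _
      | add p q hp hq =>
        rw [map_add]; exact Subalgebra.add_mem _ hp hq
      | monomial n b ih =>
        have h1 : (C b * X ^ (n + 1) : B[X]) = (C b * X ^ n) * X := by ring
        rw [h1, map_mul]
        refine Subalgebra.mul_mem _ ih ?_
        have h2 : (Polynomial.aevalTower (ψ : B →ₐ[k] A) y).toRingHom
            X = y := by simp
        rw [h2, Subalgebra.mem_comap, HopfAlgebra.antipodeAlgHom_apply, antipode_skew ψ hg hy]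
        exact Subalgebra.neg_mem _ (Subalgebra.mul_mem _ hyS (hψS _))
    intro a ha
    exact hle ha

include hJ hg hy in
theorem eq_zero_of_dvd (hψ : Function.Injective ψ)
    (h0 : aeval y (minpoly k (Ideal.Quotient.mk J y)) = 0) (b : B) (hdvd : y ∣ ψ b) : b = 0 := by
  have hyS : y ∈ (adjSub ψ hg hy).S := ⟨X, by simp⟩
  have hbS : ψ b ∈ (adjSub ψ hg hy).S := ⟨C b, by simp⟩
  have h1 : (adjSub ψ hg hy).val ⟨y, hyS⟩ ∣ (adjSub ψ hg hy).val ⟨ψ b, hbS⟩ := hdvd
  obtain ⟨⟨d, ⟨P₁, hP₁⟩⟩, hd⟩ := dvd_of_map_dvd_of_injective (adjSub ψ hg hy).val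
    (adjSub ψ hg hy).val_injective ⟨ψ b, hbS⟩ ⟨y, hyS⟩ h1
  have hd' : ψ b = y * d := congrArg Subtype.val hd
  have hP₁' : eval₂ (ψ : B →+* A) y P₁ = d := hP₁
  have hP : eval₂ (ψ : B →+* A) y (C b - X * P₁) = 0 := by
    rw [eval₂_sub, eval₂_C, eval₂_mul, eval₂_X, hP₁', ← hd']
    exact sub_self _
  have h2 := coeff_zero_of_eval₂ ψ J hJ hg hy hψ h0 _ hP
  simpa using h2

include hJ hg hy in
theorem exists_hopfIdeal_aux (hψ : Function.Injective ψ)
    (h0 : aeval y (minpoly k (Ideal.Quotient.mk J y)) = 0) (hne : y ≠ 0) :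
    ∃ I : Ideal A, I ≠ ⊥ ∧ I.IsHopfIdeal k ∧ ∀ b : B, ψ b ∈ I → b = 0 := by
  refine ⟨Ideal.span {y}, ?_, ?_, ?_⟩
  · rw [Ne, Ideal.span_singleton_eq_bot]; exact hne
  · have hxJ : y ∈ (Ideal.span ({y} : Set A)).restrictScalars k := Ideal.subset_span rfl
    apply isHopfIdeal_span_of
    · intro s hs
      rw [Set.mem_singleton_iff] at hs
      rw [hs]
      exact counit_skew ψ hg hy
    · intro s hs
      rw [Set.mem_singleton_iff] at hs
      rw [hs, hy]
      apply Submodule.add_mem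
      · apply Submodule.mem_sup_right
        exact ⟨(⟨y, hxJ⟩ : (Ideal.span ({y} : Set A)).restrictScalars k) ⊗ₜ[k] (ψ g), by simp⟩
      · apply Submodule.mem_sup_left
        exact ⟨(1 : A) ⊗ₜ[k] (⟨y, hxJ⟩ : (Ideal.span ({y} : Set A)).restrictScalars k), by simp⟩
    · intro s hs
      rw [Set.mem_singleton_iff] at hs
      rw [hs, antipode_skew ψ hg hy]
      exact (Ideal.span {y}).neg_mem (Ideal.mul_mem_right _ _ (Ideal.subset_span rfl))
  · intro b hb
    rw [Ideal.mem_span_singleton] at hb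
    exact eq_zero_of_dvd ψ J hJ hg hy hψ h0 b hb

include hJ hg hy in
/-- Given a skew-primitive element outside `ψ B`, there is a nonzero Hopf ideal of `A` meeting
`ψ B` trivially. -/
theorem exists_hopfIdeal_of_skew [IsAlgClosed k] (hψ : Function.Injective ψ)
    (hD : IsDiagonalizable k B) (hyB : y ∉ (ψ : B →ₐ[k] A).range) :
    ∃ I : Ideal A, I ≠ ⊥ ∧ I.IsHopfIdeal k ∧ ∀ b : B, ψ b ∈ I → b = 0 := by
  obtain ⟨c, hc⟩ := exists_shift ψ J hJ hg hy hψ hD
  have hsk := comul_shift ψ hg hy c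
  have hmk := mk_shift (y := y) ψ J hJ hg c
  have h0 : aeval (y - c • (ψ g - 1))
      (minpoly k (Ideal.Quotient.mk J (y - c • (ψ g - 1)))) = 0 := by
    rw [hmk]; exact hc
  have hne : y - c • (ψ g - 1) ≠ 0 := by
    intro h
    apply hyB
    have h1 : y = ψ (c • (g - 1)) := by
      rw [map_smul, map_sub, map_one]; exact sub_eq_zero.mp h
    rw [h1]
    exact ⟨_, rfl⟩
  exact exists_hopfIdeal_aux ψ J hJ hg hsk hψ h0 hne

end Skew

end Groth.Agent.Lib.R2H7.ExtBase
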