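import Groth.Agent.Lib.R2H7ExtSkew
import Groth.Agent.Lib.Helper25MultQuot

/-!
# An extension of a diagonalizable group by a unipotent group splits (algebraically closed field)

Hopf form (helper7): `A` a finitely generated commutative Hopf algebra over an algebraically closed
field, `ψ : B → A` an injective bialgebra map from a diagonalizable Hopf algebra, with unipotent
kernel.  Then `ψ` has a bialgebra retraction.  Proof: Noetherian induction on Hopf ideals, each
step cutting down by the Hopf ideal generated by a suitably normalised skew-primitive element.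
-/

set_option autoImplicit false

namespace Groth.Agent.Lib.R2H7.ExtMain

open TensorProduct HopfRep Groth.Agent.Lib.Helper25 Groth.Agent.Lib.Helper25.HopfSub
  Groth.Agent.Lib.R2H7.ExtBase Groth.Agent.Lib.R2H7.ExtSkew

universe u

section

variable {k A B : Type u} [Field k] [CommRing A] [HopfAlgebra k A] [CommRing B] [HopfAlgebra k B]

theorem isHopfIdeal_bot : (⊥ : Ideal A).IsHopfIdeal k := by
  rw [← Ideal.span_empty]
  exact isHopfIdeal_span_of ∅ (by simp) (by simp) (by simp)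

/-- Unipotence of the kernel passes to quotients of the extension. -/
theorem isUnipotent_quot (ψ : B →ₐc[k] A) (J : Ideal A) [J.IsHopfIdeal k]
    (hJ : J = Ideal.map (ψ : B →+* A) (RingHom.ker (Bialgebra.counitAlgHom k B)))
    (hU : IsUnipotent k (A ⧸ J)) (I : Ideal A) [I.IsHopfIdeal k]
    (J₁ : Ideal (A ⧸ I)) [J₁.IsHopfIdeal k]
    (hJ₁ : J₁ = Ideal.map (((Bialgebra.Quotient.mkBialgHom I).comp ψ : B →ₐc[k] A ⧸ I) :
      B →+* A ⧸ I) (RingHom.ker (Bialgebra.counitAlgHom k B))) :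
    IsUnipotent k ((A ⧸ I) ⧸ J₁) := by
  have hkill : ∀ a ∈ J, ((Bialgebra.Quotient.mkBialgHom J₁).comp
      (Bialgebra.Quotient.mkBialgHom I) : A →ₐc[k] (A ⧸ I) ⧸ J₁) a = 0 := by
    intro a ha
    show Ideal.Quotient.mk J₁ (Ideal.Quotient.mk I a) = 0
    rw [Ideal.Quotient.eq_zero_iff_mem, hJ₁]
    rw [hJ] at ha
    have h1 : Ideal.map (Ideal.Quotient.mk I) (Ideal.map (ψ : B →+* A)
        (RingHom.ker (Bialgebra.counitAlgHom k B))) ≤
        Ideal.map (((Bialgebra.Quotient.mkBialgHom I).comp ψ : B →ₐc[k] A ⧸ I) : B →+* A ⧸ I)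
          (RingHom.ker (Bialgebra.counitAlgHom k B)) := by
      rw [Ideal.map_map]
      exact le_of_eq rfl
    exact h1 (Ideal.mem_map_of_mem _ ha)
  refine isUnipotent_of_surjective (quotLift J _ hkill) ?_ hU
  intro x
  obtain ⟨x₁, rfl⟩ := Ideal.Quotient.mk_surjective x
  obtain ⟨a, rfl⟩ := Ideal.Quotient.mk_surjective x₁
  exact ⟨Ideal.Quotient.mk J a, rfl⟩

variable [IsAlgClosed k] [Algebra.FiniteType k A]

/-- The inductive statement over Hopf ideals. -/
theorem exists_retraction_quot (hD : IsDiagonalizable k B) (ψ : B →ₐc[k] A) (J : Ideal A)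
    [J.IsHopfIdeal k]
    (hJ : J = Ideal.map (ψ : B →+* A) (RingHom.ker (Bialgebra.counitAlgHom k B)))
    (hU : IsUnipotent k (A ⧸ J)) (I : Ideal A) :
    ∀ [hI : I.IsHopfIdeal k], (∀ b : B, ψ b ∈ I → b = 0) →
      ∃ r : A ⧸ I →ₐc[k] B, ∀ b : B, r (Ideal.Quotient.mk I (ψ b)) = b := by
  haveI : IsNoetherianRing A := Algebra.FiniteType.isNoetherianRing k A
  induction I using WellFoundedGT.induction with
  | ind I ih =>
    intro hI hinj
    set ψ₁ : B →ₐc[k] A ⧸ I := (Bialgebra.Quotient.mkBialgHom I).comp ψ with hψ₁def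
    have hψ₁app : ∀ b : B, ψ₁ b = Ideal.Quotient.mk I (ψ b) := fun b => rfl
    have hψ₁ : Function.Injective ψ₁ := by
      intro b b' hbb'
      rw [← sub_eq_zero]
      apply hinj
      rw [map_sub, ← Ideal.Quotient.eq]
      exact hbb'
    haveI hJ₁H := isHopfIdeal_map_ker_counit ψ₁
    have hU₁ := isUnipotent_quot ψ J hJ hU I _ rfl
    by_cases hs : Function.Surjective ψ₁
    · refine ⟨((BialgEquiv.ofBijective ψ₁ ⟨hψ₁, hs⟩).symm : A ⧸ I →ₐc[k] B), fun b => ?_⟩
      rw [← hψ₁app]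
      exact (BialgEquiv.ofBijective ψ₁ ⟨hψ₁, hs⟩).symm_apply_apply b
    · obtain ⟨I', hI'ne, hI'H, hI'inj⟩ := exists_hopfIdeal ψ₁ _ rfl hψ₁ hD hU₁ hs
      haveI := hI'H
      haveI hI₂H : (Ideal.comap ((Bialgebra.Quotient.mkBialgHom I : A →ₐc[k] A ⧸ I) :
          A →+* A ⧸ I) I').IsHopfIdeal k :=
        isHopfIdeal_comap (k := k) (Bialgebra.Quotient.mkBialgHom (R := k) I) I'
      set I₂ : Ideal A := Ideal.comap ((Bialgebra.Quotient.mkBialgHom I : A →ₐc[k] A ⧸ I) :
          A →+* A ⧸ I) I' with hI₂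
      have hle : I ≤ I₂ := by
        intro a ha
        rw [hI₂, Ideal.mem_comap]
        have h0 : ((Bialgebra.Quotient.mkBialgHom I : A →ₐc[k] A ⧸ I) : A →+* A ⧸ I) a = 0 :=
          Ideal.Quotient.eq_zero_iff_mem.mpr ha
        rw [h0]
        exact I'.zero_mem
      have hlt : I < I₂ := by
        refine lt_of_le_of_ne hle ?_
        intro heq
        obtain ⟨x', hx', hx'0⟩ := Submodule.exists_mem_ne_zero_of_ne_bot hI'ne
        obtain ⟨a, rfl⟩ := Ideal.Quotient.mk_surjective x'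
        apply hx'0
        have ha₂ : a ∈ I₂ := hx'
        rw [← heq] at ha₂
        exact Ideal.Quotient.eq_zero_iff_mem.mpr ha₂
      have hinj₂ : ∀ b : B, ψ b ∈ I₂ → b = 0 := fun b hb => hI'inj b hb
      obtain ⟨r₂, hr₂⟩ := ih I₂ hlt hinj₂
      have hkill : ∀ a ∈ I, (Bialgebra.Quotient.mkBialgHom I₂ : A →ₐc[k] A ⧸ I₂) a = 0 :=
        fun a ha => Ideal.Quotient.eq_zero_iff_mem.mpr (hle ha)
      refine ⟨r₂.comp (quotLift I (Bialgebra.Quotient.mkBialgHom I₂) hkill), fun b => ?_⟩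
      exact hr₂ b

/-- **Splitting** of an extension of a diagonalizable group by a unipotent group over an
algebraically closed field (Hopf form). -/
theorem exists_retraction (hD : IsDiagonalizable k B) (ψ : B →ₐc[k] A)
    (hψ : Function.Injective ψ) (J : Ideal A) [J.IsHopfIdeal k]
    (hJ : J = Ideal.map (ψ : B →+* A) (RingHom.ker (Bialgebra.counitAlgHom k B)))
    (hU : IsUnipotent k (A ⧸ J)) :
    ∃ r : A →ₐc[k] B, r.comp ψ = BialgHom.id k B := by
  haveI := isHopfIdeal_bot (k := k) (A := A)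
  obtain ⟨r, hr⟩ := exists_retraction_quot hD ψ J hJ hU ⊥ (fun b hb => by
    rw [Ideal.mem_bot] at hb
    exact hψ (hb.trans (map_zero ψ).symm))
  refine ⟨r.comp (Bialgebra.Quotient.mkBialgHom ⊥), ?_⟩
  ext b
  exact hr b

end

end Groth.Agent.Lib.R2H7.ExtMain
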