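import Mathlib

/-!
# Polynomial lemmas for extensions of diagonalizable groups by unipotent groups (helper7)

* `dvd_of_aeval_one_tmul_eq_zero`: a polynomial over `A` killed by `1 ⊗ x` in `A ⊗ C` is divisible
  by the minimal polynomial of `x`.
* `taylor_minpoly_of_isPrim`: the minimal polynomial of a primitive element is additive.
* `coeff_smul_pow_eq`: homogeneity of the minimal polynomial under a semi-invariance condition.
-/

set_option autoImplicit false

namespace Groth.Agent.Lib.R2H7.ExtPoly

open Polynomial TensorProduct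

universe u v w

section LI

variable {k : Type u} [Field k] {C : Type v} [AddCommGroup C] [Module k C]
  {A : Type w} [AddCommGroup A] [Module k A]

theorem exists_dual_of_linearIndependent {ι : Type*} [DecidableEq ι] {v : ι → C} (hv : LinearIndependent k v)
    (i : ι) : ∃ φ : C →ₗ[k] k, ∀ j, φ (v j) = if j = i then 1 else 0 := by
  classical
  obtain ⟨φ, hφ⟩ := LinearMap.exists_extend
    ((Finsupp.lapply i : (ι →₀ k) →ₗ[k] k) ∘ₗ (hv.repr : _ →ₗ[k] (ι →₀ k)))
  refine ⟨φ, fun j => ?_⟩
  have h1 : φ (v j) = (φ ∘ₗ (Submodule.span k (Set.range v)).subtype)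
      ⟨v j, Submodule.subset_span ⟨j, rfl⟩⟩ := rfl
  rw [h1, hφ, LinearMap.comp_apply, hv.repr_eq_single j _ rfl, Finsupp.lapply_apply,
    Finsupp.single_apply]

theorem eq_zero_of_sum_tmul_eq_zero {ι : Type*} {v : ι → C} (hv : LinearIndependent k v)
    (s : Finset ι) (a : ι → A) (h : ∑ i ∈ s, a i ⊗ₜ[k] v i = 0) : ∀ i ∈ s, a i = 0 := by
  classical
  intro i hi
  obtain ⟨φ, hφ⟩ := exists_dual_of_linearIndependent hv i
  have h2 : (TensorProduct.rid k A) (LinearMap.lTensor A φ (∑ j ∈ s, a j ⊗ₜ[k] v j)) = 0 := by
    rw [h, map_zero, map_zero]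
  simp only [map_sum, LinearMap.lTensor_tmul, TensorProduct.rid_tmul, hφ, ite_smul, one_smul,
    zero_smul, Finset.sum_ite_eq', hi, if_true] at h2
  exact h2

end LI

section DIV

variable {k : Type u} [Field k] {C : Type v} [CommRing C] [Algebra k C] (x : C)
  (A : Type w) [CommRing A] [Algebra k A]

theorem aeval_one_tmul_map (p : k[X]) :
    aeval ((1 : A) ⊗ₜ[k] x) (p.map (algebraMap k A)) = (1 : A) ⊗ₜ[k] (aeval x p) := by
  rw [aeval_map_algebraMap]
  have := aeval_algHom_apply (Algebra.TensorProduct.includeRight : C →ₐ[k] A ⊗[k] C) x p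
  simpa using this

theorem aeval_one_tmul_eq_sum (P : A[X]) (n : ℕ) (hn : P.natDegree < n) :
    aeval ((1 : A) ⊗ₜ[k] x) P = ∑ i ∈ Finset.range n, P.coeff i ⊗ₜ[k] (x ^ i) := by
  rw [aeval_eq_sum_range' hn]
  apply Finset.sum_congr rfl
  intro i _
  rw [Algebra.smul_def, Algebra.TensorProduct.algebraMap_apply, Algebra.TensorProduct.tmul_pow,
    one_pow, Algebra.TensorProduct.tmul_mul_tmul, mul_one, one_mul, Algebra.algebraMap_self_apply]

theorem linearIndependent_pow_of_not_isIntegral (hx : ¬ IsIntegral k x) :
    LinearIndependent k (fun i : ℕ => x ^ i) := by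
  have hinj : Function.Injective (aeval (R := k) x) := by
    rw [← transcendental_iff_injective]
    exact fun halg => hx halg.isIntegral
  have h1 := (Polynomial.basisMonomials k).linearIndependent.map' (aeval (R := k) x).toLinearMap
    (LinearMap.ker_eq_bot.mpr hinj)
  have h2 : ((aeval (R := k) x).toLinearMap ∘ ⇑(Polynomial.basisMonomials k)) =
      (fun i : ℕ => x ^ i) := by
    funext i
    rw [Function.comp_apply, Polynomial.coe_basisMonomials]
    simp [aeval_monomial]
  rw [h2] at h1
  exact h1

theorem dvd_of_aeval_one_tmul_eq_zero (P : A[X]) (h : aeval ((1 : A) ⊗ₜ[k] x) P = 0) :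
    (minpoly k x).map (algebraMap k A) ∣ P := by
  classical
  rcases subsingleton_or_nontrivial A with hA | hA
  · exact ⟨0, Subsingleton.elim _ _⟩
  by_cases hx : IsIntegral k x
  · have hmon : ((minpoly k x).map (algebraMap k A)).Monic := (minpoly.monic hx).map _
    by_cases hf1 : (minpoly k x).map (algebraMap k A) = 1
    · rw [hf1]; exact one_dvd _
    rw [← modByMonic_eq_zero_iff_dvd hmon]
    set R := P %ₘ ((minpoly k x).map (algebraMap k A)) with hR
    have hRev : aeval ((1 : A) ⊗ₜ[k] x) R = 0 := by
      have h1 := modByMonic_add_div P ((minpoly k x).map (algebraMap k A))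
      have h2 := congrArg (aeval ((1 : A) ⊗ₜ[k] x)) h1
      rw [map_add, map_mul, aeval_one_tmul_map, minpoly.aeval, TensorProduct.tmul_zero, zero_mul,
        add_zero, h] at h2
      exact h2
    have hdeg : R.natDegree < (minpoly k x).natDegree := by
      have h3 := natDegree_modByMonic_lt P hmon hf1
      have hnd : ((minpoly k x).map (algebraMap k A)).natDegree = (minpoly k x).natDegree :=
        Polynomial.Monic.natDegree_map (minpoly.monic hx) (algebraMap k A)
      rwa [hnd] at h3
    have hs := aeval_one_tmul_eq_sum (k := k) x A R _ hdeg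
    rw [hRev, Finset.sum_range] at hs
    have h4 := eq_zero_of_sum_tmul_eq_zero (linearIndependent_pow (K := k) x) Finset.univ
      (fun i : Fin (minpoly k x).natDegree => R.coeff i) hs.symm
    ext i
    rw [coeff_zero]
    by_cases hi : i < (minpoly k x).natDegree
    · exact h4 ⟨i, hi⟩ (Finset.mem_univ _)
    · exact coeff_eq_zero_of_natDegree_lt (by omega)
  · rw [minpoly.eq_zero hx, Polynomial.map_zero, zero_dvd_iff]
    have hli := linearIndependent_pow_of_not_isIntegral x hx
    have hs := aeval_one_tmul_eq_sum (k := k) x A P (P.natDegree + 1) (Nat.lt_succ_self _)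
    rw [h] at hs
    have h4 := eq_zero_of_sum_tmul_eq_zero hli (Finset.range (P.natDegree + 1))
      (fun i => P.coeff i) hs.symm
    ext i
    rw [coeff_zero]
    by_cases hi : i < P.natDegree + 1
    · exact h4 i (Finset.mem_range.mpr hi)
    · exact coeff_eq_zero_of_natDegree_lt (by omega)

end DIV

section ADD

variable {k : Type u} [Field k] {D : Type v} [CommRing D] [Bialgebra k D] {x : D}

theorem nontrivial_of_bialgebra (k : Type u) [Field k] (D : Type v) [CommRing D] [Bialgebra k D] :
    Nontrivial D :=
  (Bialgebra.counitAlgHom k D).toRingHom.domain_nontrivial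

theorem hasseDeriv_map' {R S : Type*} [CommSemiring R] [CommSemiring S] (φ : R →+* S) (j : ℕ)
    (p : R[X]) : hasseDeriv j (p.map φ) = (hasseDeriv j p).map φ := by
  ext n
  simp [hasseDeriv_coeff, coeff_map]

/-- For a primitive element `x`, translating its minimal polynomial by `x` does not change it. -/
theorem taylor_self_minpoly
    (hx : CoalgebraStruct.comul (R := k) x = x ⊗ₜ[k] (1 : D) + (1 : D) ⊗ₜ[k] x) :
    taylor x ((minpoly k x).map (algebraMap k D)) = (minpoly k x).map (algebraMap k D) := by
  haveI := nontrivial_of_bialgebra k D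
  have hev : aeval ((1 : D) ⊗ₜ[k] x) (taylor x ((minpoly k x).map (algebraMap k D))) = 0 := by
    rw [taylor_apply, aeval_comp, map_add, aeval_X, aeval_C,
      Algebra.TensorProduct.algebraMap_apply, Algebra.algebraMap_self_apply, add_comm, ← hx,
      aeval_map_algebraMap]
    have h1 := aeval_algHom_apply (Bialgebra.comulAlgHom k D) x (minpoly k x)
    rw [Bialgebra.comulAlgHom_apply] at h1
    rw [h1, minpoly.aeval, map_zero]
  have hdvd := dvd_of_aeval_one_tmul_eq_zero x D _ hev
  by_cases hx' : IsIntegral k x
  · have hmon : ((minpoly k x).map (algebraMap k D)).Monic := (minpoly.monic hx').map _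
    have hmonT : (taylor x ((minpoly k x).map (algebraMap k D))).Monic := by
      rw [Monic, leadingCoeff_taylor]; exact hmon
    by_contra hne
    have hne' : taylor x ((minpoly k x).map (algebraMap k D)) -
        (minpoly k x).map (algebraMap k D) ≠ 0 := sub_ne_zero.mpr hne
    have hdvd' : (minpoly k x).map (algebraMap k D) ∣
        taylor x ((minpoly k x).map (algebraMap k D)) - (minpoly k x).map (algebraMap k D) :=
      dvd_sub hdvd dvd_rfl
    have hlt : (taylor x ((minpoly k x).map (algebraMap k D)) -
        (minpoly k x).map (algebraMap k D)).degree <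
        ((minpoly k x).map (algebraMap k D)).degree := by
      have h2 := degree_sub_lt (p := taylor x ((minpoly k x).map (algebraMap k D)))
        (q := (minpoly k x).map (algebraMap k D))
        (by rw [degree_eq_natDegree hmonT.ne_zero, degree_eq_natDegree hmon.ne_zero,
          natDegree_taylor]) hmonT.ne_zero (by rw [leadingCoeff_taylor])
      rwa [degree_eq_natDegree hmonT.ne_zero, natDegree_taylor,
        ← degree_eq_natDegree hmon.ne_zero] at h2
    exact hmon.not_dvd_of_degree_lt hne' hlt hdvd'
  · rw [minpoly.eq_zero hx']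
    simp

theorem coeff_zero_minpoly
    (hx : CoalgebraStruct.comul (R := k) x = x ⊗ₜ[k] (1 : D) + (1 : D) ⊗ₜ[k] x) :
    (minpoly k x).coeff 0 = 0 := by
  haveI := nontrivial_of_bialgebra k D
  have h1 := congrArg (fun p => p.coeff 0) (taylor_self_minpoly hx)
  simp only [taylor_coeff_zero, coeff_map] at h1
  rw [eval_map_algebraMap, minpoly.aeval] at h1
  exact (map_eq_zero_iff _ (algebraMap k D).injective).mp h1.symm

theorem hasseDeriv_minpoly
    (hx : CoalgebraStruct.comul (R := k) x = x ⊗ₜ[k] (1 : D) + (1 : D) ⊗ₜ[k] x) (j : ℕ)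
    (hj : 0 < j) : hasseDeriv j (minpoly k x) = C ((minpoly k x).coeff j) := by
  haveI := nontrivial_of_bialgebra k D
  by_cases hx' : IsIntegral k x
  swap
  · rw [minpoly.eq_zero hx']; simp
  have hev : aeval x (hasseDeriv j (minpoly k x) - C ((minpoly k x).coeff j)) = 0 := by
    have h1 := congrArg (fun p => p.coeff j) (taylor_self_minpoly hx)
    simp only [taylor_coeff, coeff_map] at h1
    rw [hasseDeriv_map', eval_map_algebraMap] at h1
    rw [map_sub, aeval_C, h1, sub_self]
  have hdvd := minpoly.dvd k x hev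
  by_contra hne
  have hne' : hasseDeriv j (minpoly k x) - C ((minpoly k x).coeff j) ≠ 0 := sub_ne_zero.mpr hne
  have hpos := minpoly.natDegree_pos hx'
  have hlt : (hasseDeriv j (minpoly k x) - C ((minpoly k x).coeff j)).natDegree <
      (minpoly k x).natDegree := by
    refine lt_of_le_of_lt (natDegree_sub_le _ _) ?_
    rw [natDegree_C]
    apply max_lt
    · exact lt_of_le_of_lt (natDegree_hasseDeriv_le (minpoly k x) j) (by omega)
    · exact hpos
  exact (minpoly.monic hx').not_dvd_of_natDegree_lt hne' hlt hdvd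

/-- The minimal polynomial of a primitive element is additive (Taylor form). -/
theorem taylor_minpoly_map
    (hx : CoalgebraStruct.comul (R := k) x = x ⊗ₜ[k] (1 : D) + (1 : D) ⊗ₜ[k] x)
    (R : Type w) [CommRing R] [Algebra k R] (v : R) :
    taylor v ((minpoly k x).map (algebraMap k R)) =
      (minpoly k x).map (algebraMap k R) + C (aeval v (minpoly k x)) := by
  ext j
  rw [taylor_coeff, coeff_add, coeff_C]
  rcases Nat.eq_zero_or_pos j with rfl | hj
  · simp [coeff_zero_minpoly hx, eval_map_algebraMap]
  · rw [if_neg hj.ne', add_zero, hasseDeriv_map', hasseDeriv_minpoly hx j hj, map_C, eval_C,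
      coeff_map]

theorem aeval_add_minpoly
    (hx : CoalgebraStruct.comul (R := k) x = x ⊗ₜ[k] (1 : D) + (1 : D) ⊗ₜ[k] x)
    {R : Type w} [CommRing R] [Algebra k R] (u v : R) :
    aeval (u + v) (minpoly k x) = aeval u (minpoly k x) + aeval v (minpoly k x) := by
  have h := congrArg (eval u) (taylor_minpoly_map hx R v)
  rw [taylor_eval, eval_add, eval_C, eval_map_algebraMap, eval_map_algebraMap] at h
  exact h

theorem aeval_zero_minpoly
    (hx : CoalgebraStruct.comul (R := k) x = x ⊗ₜ[k] (1 : D) + (1 : D) ⊗ₜ[k] x)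
    {R : Type w} [CommRing R] [Algebra k R] : aeval (0 : R) (minpoly k x) = 0 := by
  have h := aeval_add_minpoly hx (0 : R) 0
  rw [add_zero] at h
  exact left_eq_add.mp h

theorem aeval_neg_minpoly
    (hx : CoalgebraStruct.comul (R := k) x = x ⊗ₜ[k] (1 : D) + (1 : D) ⊗ₜ[k] x)
    {R : Type w} [CommRing R] [Algebra k R] (u : R) :
    aeval (-u) (minpoly k x) = - aeval u (minpoly k x) := by
  have h := aeval_add_minpoly hx (-u) u
  rw [neg_add_cancel, aeval_zero_minpoly hx] at h
  exact eq_neg_of_add_eq_zero_left h.symm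

theorem aeval_sub_minpoly
    (hx : CoalgebraStruct.comul (R := k) x = x ⊗ₜ[k] (1 : D) + (1 : D) ⊗ₜ[k] x)
    {R : Type w} [CommRing R] [Algebra k R] (u v : R) :
    aeval (u - v) (minpoly k x) = aeval u (minpoly k x) - aeval v (minpoly k x) := by
  rw [sub_eq_add_neg, aeval_add_minpoly hx, aeval_neg_minpoly hx, ← sub_eq_add_neg]

end ADD

section COEF

variable {k : Type u} [Field k] {D : Type v} [CommRing D] [Algebra k D] (x : D)
  {A : Type w} [CommRing A] [Algebra k A] (G : A)

theorem coeff_smul_pow_eq (h : aeval (x ⊗ₜ[k] G : D ⊗[k] A) (minpoly k x) = 0) (i : ℕ) :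
    (minpoly k x).coeff i • G ^ i = (minpoly k x).coeff i • G ^ (minpoly k x).natDegree := by
  by_cases hx : IsIntegral k x
  swap
  · rw [minpoly.eq_zero hx]; simp
  rcases subsingleton_or_nontrivial A with hA | hA
  · exact Subsingleton.elim _ _
  have h' : aeval (G ⊗ₜ[k] x : A ⊗[k] D) (minpoly k x) = 0 := by
    have h1 := aeval_algHom_apply (Algebra.TensorProduct.comm k D A).toAlgHom (x ⊗ₜ[k] G)
      (minpoly k x)
    rw [h, map_zero] at h1
    simpa using h1
  have hev : aeval ((1 : A) ⊗ₜ[k] x)
      (((minpoly k x).map (algebraMap k A)).comp (C G * X)) = 0 := by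
    rw [aeval_comp, map_mul, aeval_C, aeval_X, Algebra.TensorProduct.algebraMap_apply,
      Algebra.algebraMap_self_apply, Algebra.TensorProduct.tmul_mul_tmul, mul_one, one_mul,
      aeval_map_algebraMap]
    exact h'
  have hdvd := dvd_of_aeval_one_tmul_eq_zero x A _ hev
  have hmon : ((minpoly k x).map (algebraMap k A)).Monic := (minpoly.monic hx).map _
  have hnd : ((minpoly k x).map (algebraMap k A)).natDegree = (minpoly k x).natDegree :=
    Polynomial.Monic.natDegree_map (minpoly.monic hx) (algebraMap k A)
  have hD : ((minpoly k x).map (algebraMap k A)).comp (C G * X) -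
      C (G ^ (minpoly k x).natDegree) * (minpoly k x).map (algebraMap k A) = 0 := by
    by_contra hne
    have hdvd' : (minpoly k x).map (algebraMap k A) ∣
        ((minpoly k x).map (algebraMap k A)).comp (C G * X) -
          C (G ^ (minpoly k x).natDegree) * (minpoly k x).map (algebraMap k A) :=
      dvd_sub hdvd (Dvd.intro_left _ rfl)
    have hlt : (((minpoly k x).map (algebraMap k A)).comp (C G * X) -
        C (G ^ (minpoly k x).natDegree) * (minpoly k x).map (algebraMap k A)).degree <
        ((minpoly k x).map (algebraMap k A)).degree := by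
      rw [degree_eq_natDegree hmon.ne_zero, hnd, degree_lt_iff_coeff_zero]
      intro m hm
      rw [coeff_sub, coeff_C_mul, comp_C_mul_X_coeff]
      rcases hm.lt_or_eq with hlt | heq
      · rw [coeff_eq_zero_of_natDegree_lt (by omega :
          ((minpoly k x).map (algebraMap k A)).natDegree < m)]
        simp
      · have h1 : ((minpoly k x).map (algebraMap k A)).coeff m = 1 := by
          rw [← heq, ← hnd]; exact hmon.coeff_natDegree
        rw [h1, ← heq]; ring
    exact hmon.not_dvd_of_degree_lt hne hlt hdvd'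
  have hc := congrArg (fun p => p.coeff i) hD
  simp only [coeff_sub, coeff_C_mul, comp_C_mul_X_coeff, coeff_zero, coeff_map] at hc
  rw [Algebra.smul_def, Algebra.smul_def]
  linear_combination hc

end COEF

end Groth.Agent.Lib.R2H7.ExtPoly
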