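/-
The extended Rees algebra `R' = ⊕_{n ∈ ℤ} F^n T^n ⊆ A[T, T⁻¹]` of a filtration of ideals:
its `ℤ`-grading, the regular element `u = T⁻¹`, finite generation over `A` (from that of the
Rees algebra), and, for `A` local with `F^1 ≠ A`, the *maximal ideal `M = {f | f_0 ∈ m_A}`.
-/
import Mathlib
import Groth.Prelude.Def_W4c2filtblowupsingRees
import Groth.Prelude.Def_GrLC
import Groth.Agent.Lib.R2H7GrFree

set_option autoImplicit false
open DirectSum LaurentPolynomial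

noncomputable section

namespace Groth.Agent.Lib.R2H7.ExtRees

universe u

variable {A : Type u} [CommRing A] (𝓕 : FiltBl.IdealFiltration A)

/-! ### Coefficients -/

theorem coeff_C_mul_T (a : A) (n m : ℤ) :
    (C a * T n : A[T;T⁻¹]).coeff m = if n = m then a else 0 := by
  rw [← single_eq_C_mul_T, AddMonoidAlgebra.coeff_single, Finsupp.single_apply]

theorem eq_sum (f : A[T;T⁻¹]) :
    f = ∑ n ∈ f.coeff.support, (C (f.coeff n) * T n : A[T;T⁻¹]) := by
  simp_rw [← single_eq_C_mul_T]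
  apply AddMonoidAlgebra.coeff_injective
  rw [AddMonoidAlgebra.coeff_sum]
  simp_rw [AddMonoidAlgebra.coeff_single]
  exact (Finsupp.sum_single f.coeff).symm

theorem C_mul_T_mul (a b : A) (i j : ℤ) :
    (C a * T i : A[T;T⁻¹]) * (C b * T j) = C (a * b) * T (i + j) := by
  rw [map_mul, T_add]
  ring

theorem C_mul_T_mem (n : ℤ) (a : A) (ha : a ∈ 𝓕.F n.toNat) :
    (C a * T n : A[T;T⁻¹]) ∈ 𝓕.extRees := by
  intro m
  rw [coeff_C_mul_T]
  split_ifs with h
  · subst h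
    exact ha
  · exact Ideal.zero_mem _

/-! ### The homogeneous pieces -/

/-- The homogeneous component of degree `n`. -/
def piece (n : ℤ) : 𝓕.extRees →+ 𝓕.extRees where
  toFun f := ⟨C ((f : A[T;T⁻¹]).coeff n) * T n, C_mul_T_mem 𝓕 n _ (f.2 n)⟩
  map_zero' := by
    apply Subtype.ext
    show C (((0 : 𝓕.extRees) : A[T;T⁻¹]).coeff n) * T n = ((0 : 𝓕.extRees) : A[T;T⁻¹])
    rw [ZeroMemClass.coe_zero, AddMonoidAlgebra.coeff_zero, Finsupp.zero_apply, map_zero, zero_mul]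
  map_add' f g := by
    apply Subtype.ext
    show C (((f + g : 𝓕.extRees) : A[T;T⁻¹]).coeff n) * T n =
      C ((f : A[T;T⁻¹]).coeff n) * T n + C ((g : A[T;T⁻¹]).coeff n) * T n
    rw [Subalgebra.coe_add, AddMonoidAlgebra.coeff_add, Finsupp.add_apply, map_add, add_mul]

theorem coe_piece (n : ℤ) (f : 𝓕.extRees) :
    ((piece 𝓕 n f : 𝓕.extRees) : A[T;T⁻¹]) = C ((f : A[T;T⁻¹]).coeff n) * T n := rfl

theorem coeff_piece (n m : ℤ) (f : 𝓕.extRees) :
    ((piece 𝓕 n f : 𝓕.extRees) : A[T;T⁻¹]).coeff m =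
      if n = m then (f : A[T;T⁻¹]).coeff n else 0 := by
  rw [coe_piece, coeff_C_mul_T]

/-- The grading of the extended Rees algebra by the powers of `T`. -/
def gr (n : ℤ) : AddSubgroup 𝓕.extRees where
  carrier := {f | ∀ m : ℤ, m ≠ n → (f : A[T;T⁻¹]).coeff m = 0}
  zero_mem' := fun m _ => by
    rw [ZeroMemClass.coe_zero, AddMonoidAlgebra.coeff_zero, Finsupp.zero_apply]
  add_mem' := fun {f g} hf hg m hm => by
    rw [Subalgebra.coe_add, AddMonoidAlgebra.coeff_add, Finsupp.add_apply, hf m hm, hg m hm,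
      add_zero]
  neg_mem' := fun {f} hf m hm => by
    rw [Subalgebra.coe_neg, AddMonoidAlgebra.coeff_neg, Finsupp.neg_apply, hf m hm, neg_zero]

theorem mem_gr {n : ℤ} {f : 𝓕.extRees} :
    f ∈ gr 𝓕 n ↔ ∀ m : ℤ, m ≠ n → (f : A[T;T⁻¹]).coeff m = 0 := Iff.rfl

theorem piece_mem (n : ℤ) (f : 𝓕.extRees) : piece 𝓕 n f ∈ gr 𝓕 n := by
  intro m hm
  rw [coeff_piece, if_neg (Ne.symm hm)]

theorem piece_eq_self {n : ℤ} {f : 𝓕.extRees} (hf : f ∈ gr 𝓕 n) : piece 𝓕 n f = f := by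
  apply Subtype.ext
  apply LaurentPolynomial.ext
  intro m
  rw [coeff_piece]
  split_ifs with h
  · subst h
    rfl
  · exact (hf m (Ne.symm h)).symm

theorem piece_eq_zero {d e : ℤ} {f : 𝓕.extRees} (hf : f ∈ gr 𝓕 d) (hde : d ≠ e) :
    piece 𝓕 e f = 0 := by
  apply Subtype.ext
  rw [coe_piece, hf e (Ne.symm hde), map_zero, zero_mul]
  rfl

theorem eq_sum_piece (f : 𝓕.extRees) :
    f = ∑ n ∈ (f : A[T;T⁻¹]).coeff.support, piece 𝓕 n f := by
  apply Subtype.ext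
  rw [AddSubmonoidClass.coe_finset_sum]
  exact eq_sum (f : A[T;T⁻¹])

theorem gr_gradedMonoid : SetLike.GradedMonoid (gr 𝓕) where
  one_mem := by
    intro m hm
    rw [OneMemClass.coe_one, ← T_zero, T_apply, if_neg (Ne.symm hm)]
  mul_mem := by
    intro i j f g hf hg m hm
    rw [← piece_eq_self 𝓕 hf, ← piece_eq_self 𝓕 hg, Subalgebra.coe_mul, coe_piece, coe_piece,
      C_mul_T_mul, coeff_C_mul_T, if_neg (Ne.symm hm)]

theorem gr_isInternal : DirectSum.IsInternal (gr 𝓕) :=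
  Groth.Agent.Lib.R2H7.GrFree.isInternal_of_proj (gr 𝓕) (piece 𝓕) (fun d x => piece_mem 𝓕 d x)
    (fun x => ⟨_, eq_sum_piece 𝓕 x⟩) (fun _ _ hx => piece_eq_self 𝓕 hx)
    (fun _ _ _ hx hde => piece_eq_zero 𝓕 hx hde)

instance gradedRing : GradedRing (gr 𝓕) :=
  { toGradedMonoid := gr_gradedMonoid 𝓕
    toDecomposition := (gr_isInternal 𝓕).chooseDecomposition }

theorem decompose_eq_piece (f : 𝓕.extRees) (n : ℤ) :
    ((decompose (gr 𝓕) f) n : 𝓕.extRees) = piece 𝓕 n f := by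
  classical
  induction f using DirectSum.Decomposition.inductionOn (gr 𝓕) with
  | zero => simp
  | homogeneous y =>
    rename_i i
    by_cases hij : i = n
    · subst hij
      rw [DirectSum.decompose_of_mem_same (gr 𝓕) y.2, piece_eq_self 𝓕 y.2]
    · rw [DirectSum.decompose_of_mem_ne (gr 𝓕) y.2 hij, piece_eq_zero 𝓕 y.2 hij]
  | add a b ha hb =>
    rw [DirectSum.decompose_add, DirectSum.add_apply, AddSubgroup.coe_add, ha, hb, map_add]

/-! ### The element `u = T⁻¹` -/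

theorem coe_u : ((𝓕.u : 𝓕.extRees) : A[T;T⁻¹]) = T (-1) := rfl

theorem u_mem_gr : 𝓕.u ∈ gr 𝓕 (-1) := by
  intro m hm
  rw [coe_u, T_apply, if_neg (Ne.symm hm)]

theorem u_regular : IsSMulRegular 𝓕.extRees 𝓕.u := by
  intro x y h
  have h' : 𝓕.u * x = 𝓕.u * y := h
  have h2 := congrArg (fun z : 𝓕.extRees => (z : A[T;T⁻¹])) h'
  simp only [Subalgebra.coe_mul, coe_u] at h2
  exact Subtype.ext ((isUnit_T (-1)).mul_left_cancel h2)

/-! ### Finite generation -/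

theorem toLaurent_mem (p : Polynomial A) (hp : p ∈ 𝓕.rees) :
    Polynomial.toLaurent p ∈ 𝓕.extRees := by
  have h : Polynomial.toLaurent p = ∑ i ∈ p.support, (C (p.coeff i) * T (i : ℤ) : A[T;T⁻¹]) := by
    conv_lhs => rw [Polynomial.as_sum_support p]
    rw [map_sum]
    exact Finset.sum_congr rfl (fun i _ => Polynomial.toLaurent_C_mul_T i _)
  rw [h]
  refine Subalgebra.sum_mem _ (fun n _ => ?_)
  refine C_mul_T_mem 𝓕 n _ ?_
  rw [Int.toNat_natCast]
  exact hp n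

/-- The Rees algebra inside the extended Rees algebra. -/
def reesIncl : 𝓕.rees →ₐ[A] 𝓕.extRees :=
  AlgHom.codRestrict (Polynomial.toLaurentAlg.comp 𝓕.rees.val) 𝓕.extRees
    (fun p => toLaurent_mem 𝓕 p.1 p.2)

theorem coe_reesIncl (p : 𝓕.rees) :
    ((reesIncl 𝓕 p : 𝓕.extRees) : A[T;T⁻¹]) = Polynomial.toLaurent (p : Polynomial A) := rfl

theorem piece_mem_adjoin (S : Subalgebra A 𝓕.extRees) (hι : ∀ p : 𝓕.rees, reesIncl 𝓕 p ∈ S)
    (hu : 𝓕.u ∈ S) (n : ℤ) (f : 𝓕.extRees) : piece 𝓕 n f ∈ S := by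
  rcases le_or_gt 0 n with hn | hn
  · have hmem : Polynomial.monomial n.toNat ((f : A[T;T⁻¹]).coeff n) ∈ 𝓕.rees := by
      intro k
      rw [Polynomial.coeff_monomial]
      split_ifs with h
      · subst h
        exact f.2 n
      · exact Ideal.zero_mem _
    have h1 : piece 𝓕 n f = reesIncl 𝓕 ⟨_, hmem⟩ := by
      apply Subtype.ext
      rw [coe_piece, coe_reesIncl, Polynomial.toLaurent_C_mul_T, Int.toNat_of_nonneg hn]
    rw [h1]
    exact hι _
  · have h1 : piece 𝓕 n f =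
        algebraMap A 𝓕.extRees ((f : A[T;T⁻¹]).coeff n) * 𝓕.u ^ (-n).toNat := by
      apply Subtype.ext
      rw [coe_piece, Subalgebra.coe_mul, Subalgebra.coe_pow, coe_u, T_pow, Subalgebra.coe_algebraMap,
        ← C_eq_algebraMap]
      congr 2
      rw [Int.toNat_of_nonneg (by omega)]
      ring
    rw [h1]
    exact S.mul_mem (S.algebraMap_mem _) (S.pow_mem hu _)

theorem finiteType_extRees (hfg : Algebra.FiniteType A 𝓕.rees) :
    Algebra.FiniteType A 𝓕.extRees := by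
  classical
  obtain ⟨s, hs⟩ := hfg.out
  refine ⟨⟨s.image (reesIncl 𝓕) ∪ {𝓕.u}, ?_⟩⟩
  rw [eq_top_iff]
  intro f _
  have hι : ∀ p : 𝓕.rees, reesIncl 𝓕 p ∈
      Algebra.adjoin A ((s.image (reesIncl 𝓕) ∪ {𝓕.u} : Finset 𝓕.extRees) : Set 𝓕.extRees) := by
    intro p
    have hp : p ∈ Algebra.adjoin A (s : Set 𝓕.rees) := by
      rw [hs]
      exact Algebra.mem_top
    have h1 : (Algebra.adjoin A (s : Set 𝓕.rees)).map (reesIncl 𝓕) ≤
        Algebra.adjoin A
          ((s.image (reesIncl 𝓕) ∪ {𝓕.u} : Finset 𝓕.extRees) : Set 𝓕.extRees) := by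
      rw [AlgHom.map_adjoin]
      apply Algebra.adjoin_mono
      intro x hx
      obtain ⟨y, hy, rfl⟩ := hx
      rw [Finset.coe_union, Finset.coe_image]
      exact Or.inl ⟨y, hy, rfl⟩
    exact h1 (Subalgebra.mem_map.mpr ⟨p, hp, rfl⟩)
  have hu : 𝓕.u ∈
      Algebra.adjoin A ((s.image (reesIncl 𝓕) ∪ {𝓕.u} : Finset 𝓕.extRees) : Set 𝓕.extRees) := by
    apply Algebra.subset_adjoin
    rw [Finset.coe_union]
    exact Or.inr (by simp)
  rw [eq_sum_piece 𝓕 f]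
  exact Subalgebra.sum_mem _ (fun n _ => piece_mem_adjoin 𝓕 _ hι hu n f)

theorem isNoetherianRing_extRees [IsNoetherianRing A] (hfg : Algebra.FiniteType A 𝓕.rees) :
    IsNoetherianRing 𝓕.extRees := by
  have := finiteType_extRees 𝓕 hfg
  exact Algebra.FiniteType.isNoetherianRing A 𝓕.extRees

/-! ### The *maximal ideal -/

section loc

variable [IsLocalRing A] (h1 : 𝓕.F 1 ≠ ⊤)

include h1 in
theorem F_le_maximalIdeal {n : ℕ} (hn : 1 ≤ n) : 𝓕.F n ≤ IsLocalRing.maximalIdeal A :=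
  le_trans (𝓕.antitone hn) (IsLocalRing.le_maximalIdeal h1)

/-- The ideal of elements whose constant coefficient is in the maximal ideal. -/
def M : Ideal 𝓕.extRees where
  carrier := {f | (f : A[T;T⁻¹]).coeff 0 ∈ IsLocalRing.maximalIdeal A}
  zero_mem' := by
    show ((0 : 𝓕.extRees) : A[T;T⁻¹]).coeff 0 ∈ IsLocalRing.maximalIdeal A
    rw [ZeroMemClass.coe_zero, AddMonoidAlgebra.coeff_zero, Finsupp.zero_apply]
    exact Ideal.zero_mem _
  add_mem' := by
    intro f g hf hg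
    show ((f + g : 𝓕.extRees) : A[T;T⁻¹]).coeff 0 ∈ IsLocalRing.maximalIdeal A
    rw [Subalgebra.coe_add, AddMonoidAlgebra.coeff_add, Finsupp.add_apply]
    exact Ideal.add_mem _ hf hg
  smul_mem' := by
    classical
    intro c x hx
    show ((c * x : 𝓕.extRees) : A[T;T⁻¹]).coeff 0 ∈ IsLocalRing.maximalIdeal A
    rw [Subalgebra.coe_mul, AddMonoidAlgebra.coeff_mul]
    simp only [Finsupp.sum]
    refine Submodule.sum_mem _ fun i _ => Submodule.sum_mem _ fun j _ => ?_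
    split_ifs with h
    · rcases lt_trichotomy i 0 with hi | hi | hi
      · have hj : 1 ≤ j.toNat := by omega
        exact Ideal.mul_mem_left _ _ (F_le_maximalIdeal 𝓕 h1 hj (x.2 j))
      · have hj : j = 0 := by omega
        rw [hj]
        exact Ideal.mul_mem_left _ _ hx
      · have hi' : 1 ≤ i.toNat := by omega
        exact Ideal.mul_mem_right _ _ (F_le_maximalIdeal 𝓕 h1 hi' (c.2 i))
    · exact Ideal.zero_mem _

theorem mem_M {f : 𝓕.extRees} :
    f ∈ M 𝓕 h1 ↔ (f : A[T;T⁻¹]).coeff 0 ∈ IsLocalRing.maximalIdeal A := Iff.rfl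

theorem M_isHomogeneous : (M 𝓕 h1).IsHomogeneous (gr 𝓕) := by
  intro i r hr
  rw [decompose_eq_piece, mem_M, coeff_piece]
  split_ifs with h
  · subst h
    exact hr
  · exact Ideal.zero_mem _

/-- The *maximal ideal as a homogeneous ideal. -/
def Mh : HomogeneousIdeal (gr 𝓕) := ⟨M 𝓕 h1, M_isHomogeneous 𝓕 h1⟩

theorem Mh_toIdeal : (Mh 𝓕 h1).toIdeal = M 𝓕 h1 := rfl

theorem one_notMem_M : (1 : 𝓕.extRees) ∉ M 𝓕 h1 := by
  intro h
  rw [mem_M, OneMemClass.coe_one, ← T_zero, T_apply, if_pos rfl] at h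
  exact (IsLocalRing.maximalIdeal.isMaximal A).ne_top ((Ideal.eq_top_iff_one _).mpr h)

theorem u_mem_M : 𝓕.u ∈ M 𝓕 h1 := by
  rw [mem_M, coe_u, T_apply, if_neg (by norm_num)]
  exact Ideal.zero_mem _

theorem le_Mh (J : HomogeneousIdeal (gr 𝓕)) (hJ : J ≠ ⊤) : J ≤ Mh 𝓕 h1 := by
  intro f hf
  show f ∈ M 𝓕 h1
  rw [mem_M]
  by_contra hnot
  have hunit : IsUnit ((f : A[T;T⁻¹]).coeff 0) := IsLocalRing.notMem_maximalIdeal.mp hnot
  obtain ⟨b, hb⟩ := hunit.exists_right_inv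
  have hp : piece 𝓕 0 f ∈ J.toIdeal := by
    rw [← decompose_eq_piece]
    exact J.isHomogeneous 0 hf
  have h1' : algebraMap A 𝓕.extRees b * piece 𝓕 0 f = 1 := by
    apply Subtype.ext
    rw [Subalgebra.coe_mul, coe_piece, Subalgebra.coe_algebraMap, ← C_eq_algebraMap, T_zero,
      mul_one, ← map_mul, mul_comm, hb, map_one]
    rfl
  apply hJ
  apply HomogeneousIdeal.toIdeal_injective
  rw [HomogeneousIdeal.toIdeal_top, Ideal.eq_top_iff_one, ← h1']
  exact Ideal.mul_mem_left _ _ hp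

theorem Mh_ne_top : Mh 𝓕 h1 ≠ ⊤ := by
  intro h
  have h2 : (Mh 𝓕 h1).toIdeal = ⊤ := by rw [h, HomogeneousIdeal.toIdeal_top]
  exact one_notMem_M 𝓕 h1 ((Ideal.eq_top_iff_one _).mp h2)

theorem isStarLocal : GrLC.IsStarLocal (gr 𝓕) (Mh 𝓕 h1) := by
  have hco : IsCoatom (Mh 𝓕 h1) := by
    refine ⟨Mh_ne_top 𝓕 h1, fun b hb => ?_⟩
    by_contra hbt
    exact hb.not_ge (le_Mh 𝓕 h1 b hbt)
  refine ⟨hco, fun n hn => ?_⟩
  exact ((hn.le_iff_eq (Mh_ne_top 𝓕 h1)).mp (le_Mh 𝓕 h1 n hn.1)).symm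

end loc

end Groth.Agent.Lib.R2H7.ExtRees
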