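/-
The extended Rees algebra `R'` of a filtration on a Noetherian local ring is Cohen–Macaulay
(Gorenstein) iff the associated graded ring `G = R'/uR'` is.
-/
import Mathlib
import Groth.Agent.Lib.R2H7ExtRees
import Groth.Agent.Lib.R2H7RegQuot
import Groth.Agent.Lib.R2H7GrCMLoc
import Groth.Agent.Lib.R2H7GrGorStar

set_option autoImplicit false

noncomputable section

namespace Groth.Agent.Lib.R2H7.ExtReesCM

open Groth.Agent.Lib.R2H7.ExtRees Groth.Agent.Lib.R2H7.RegQuot LocCoh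

universe u

variable {A : Type u} [CommRing A] [IsNoetherianRing A] [IsLocalRing A]
  (𝓕 : FiltBl.IdealFiltration A)

omit [IsNoetherianRing A] in
theorem F_one_ne_top (hsep : ⨅ n, 𝓕.F n = ⊥) : 𝓕.F 1 ≠ ⊤ := by
  intro h1
  have hall : ∀ n, 𝓕.F n = ⊤ := by
    intro n
    induction n with
    | zero => exact 𝓕.zero_eq
    | succ n ih =>
      rw [eq_top_iff]
      have := 𝓕.mul_le n 1
      rw [ih, h1, Ideal.top_mul] at this
      exact this
  have h2 : (⨅ n, 𝓕.F n) = ⊤ := by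
    rw [iInf_eq_top]
    exact hall
  rw [h2] at hsep
  exact top_ne_bot hsep

variable (hsep : ⨅ n, 𝓕.F n = ⊥) (hfg : Algebra.FiniteType A 𝓕.rees)

include hsep hfg in
theorem cm_iff : IsCohenMacaulayRing 𝓕.extRees ↔ IsCohenMacaulayRing 𝓕.Gr := by
  have hN : IsNoetherianRing 𝓕.extRees := isNoetherianRing_extRees 𝓕 hfg
  have h1 := F_one_ne_top 𝓕 hsep
  constructor
  · intro h
    exact cmRing_quotient 𝓕.u (u_regular 𝓕)
  · intro hG
    have hm := isStarLocal 𝓕 h1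
    have hmp : (Mh 𝓕 h1).toIdeal.IsPrime :=
      Groth.Agent.Lib.R2H7.GrGorStar.isPrime_of_isCoatom (Mh 𝓕 h1) hm.1
    have hMp : (M 𝓕 h1).IsPrime := hmp
    have hq := map_isPrime 𝓕.u (M 𝓕 h1) (u_mem_M 𝓕 h1)
    have h2 := hG.isCohenMacaulayLocalRing_localization
      ((M 𝓕 h1).map (Ideal.Quotient.mk (Ideal.span {𝓕.u})))
    have h3 : IsCohenMacaulayLocalRing (Localization.AtPrime (Mh 𝓕 h1).toIdeal) :=
      (cm_of_quotient 𝓕.u (u_regular 𝓕) (M 𝓕 h1) (u_mem_M 𝓕 h1) _ rfl).mpr h2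
    exact Groth.Agent.Lib.R2H7.GrCMLoc.isCohenMacaulayRing_of_localization (gr 𝓕) (Mh 𝓕 h1) hm h3

include hsep hfg in
theorem gor_iff : IsGorensteinRing 𝓕.extRees ↔ IsGorensteinRing 𝓕.Gr := by
  have hN : IsNoetherianRing 𝓕.extRees := isNoetherianRing_extRees 𝓕 hfg
  have h1 := F_one_ne_top 𝓕 hsep
  constructor
  · intro h
    exact Groth.Agent.Lib.Helper5.GorRing.gorRing_quotient_of_regular 𝓕.u (u_regular 𝓕)
  · intro hG
    have hm := isStarLocal 𝓕 h1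
    have hmp : (Mh 𝓕 h1).toIdeal.IsPrime :=
      Groth.Agent.Lib.R2H7.GrGorStar.isPrime_of_isCoatom (Mh 𝓕 h1) hm.1
    have hMp : (M 𝓕 h1).IsPrime := hmp
    have hq := map_isPrime 𝓕.u (M 𝓕 h1) (u_mem_M 𝓕 h1)
    have h2 := hG.isGorensteinLocalRing_localization
      ((M 𝓕 h1).map (Ideal.Quotient.mk (Ideal.span {𝓕.u})))
    have h3 : IsGorensteinLocalRing (Localization.AtPrime (Mh 𝓕 h1).toIdeal) :=
      (gor_of_quotient 𝓕.u (u_regular 𝓕) (M 𝓕 h1) (u_mem_M 𝓕 h1) _ rfl).mpr h2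
    exact Groth.Agent.Lib.R2H7.GrGorLoc.isGorensteinRing_of_localization (gr 𝓕) (Mh 𝓕 h1) hm h3

end Groth.Agent.Lib.R2H7.ExtReesCM
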