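/-
Serre's conditions `(S_k)`, localizations and quotients by a non-zero-divisor:
* `(S_k)` for a localization `L = S⁻¹B` in terms of the primes of `B` disjoint from `S`;
* `(S_{k+1})` for `B` gives `(S_k)` for `B/(t)`, `t` a non-zero-divisor.
-/
import Mathlib
import Groth.Agent.Lib.Helper28SkLift
import Groth.Agent.Lib.Helper28Normal

set_option autoImplicit false

noncomputable section

namespace Groth.Agent.Lib.R2H7.SkQuot

open Groth.Agent.Lib.Helper28 LocCoh

universe u

/-! ### Localizations -/

section isLoc

variable {B : Type u} [CommRing B] [IsNoetherianRing B] (S : Submonoid B)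
  (L : Type u) [CommRing L] [Algebra B L] [IsLocalization S L]

include S in
theorem height_depth_comap (Q : Ideal L) [hQ : Q.IsPrime] :
    (Q.comap (algebraMap B L)).height = Q.height ∧
      depth (Localization.AtPrime (Q.comap (algebraMap B L)))
          (Localization.AtPrime (Q.comap (algebraMap B L))) =
        depth (Localization.AtPrime Q) (Localization.AtPrime Q) := by
  have hNL : IsNoetherianRing L := IsLocalization.isNoetherianRing S L inferInstance
  have hN1 : IsNoetherianRing (Localization.AtPrime Q) :=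
    IsLocalization.isNoetherianRing Q.primeCompl _ inferInstance
  have hN2 : IsNoetherianRing (Localization.AtPrime (Q.comap (algebraMap B L))) :=
    IsLocalization.isNoetherianRing (Q.comap (algebraMap B L)).primeCompl _ inferInstance
  have h2 : IsLocalization.AtPrime (Localization.AtPrime Q) (Q.comap (algebraMap B L)) :=
    IsLocalization.isLocalization_isLocalization_atPrime_isLocalization (M := S)
      (Localization.AtPrime Q) Q
  let e : Localization.AtPrime (Q.comap (algebraMap B L)) ≃+* Localization.AtPrime Q :=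
    (IsLocalization.algEquiv (Q.comap (algebraMap B L)).primeCompl
      (Localization.AtPrime (Q.comap (algebraMap B L))) (Localization.AtPrime Q)).toRingEquiv
  refine ⟨?_, depth_self_eq_of_ringEquiv e⟩
  have h1 := ringKrullDim_eq_of_ringEquiv e
  rw [IsLocalization.AtPrime.ringKrullDim_eq_height (Q.comap (algebraMap B L))
      (Localization.AtPrime (Q.comap (algebraMap B L))),
    IsLocalization.AtPrime.ringKrullDim_eq_height Q (Localization.AtPrime Q)] at h1
  exact WithBot.coe_injective h1

include S in
theorem hasSk_of_forall (k : ℕ)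
    (h : ∀ (P : Ideal B) [P.IsPrime], Disjoint (S : Set B) (P : Set B) →
      min (k : ℕ∞) P.height ≤ depth (Localization.AtPrime P) (Localization.AtPrime P)) :
    HasSk k L L := by
  rw [hasSk_self_iff_enat]
  intro Q hQ
  obtain ⟨h1, h2⟩ := height_depth_comap S L Q
  rw [← h1, ← h2]
  exact h _ ((IsLocalization.disjoint_under_iff S L Q).mpr hQ.ne_top)

include S in
theorem le_depth_of_hasSk (k : ℕ) (h : HasSk k L L) (P : Ideal B) [hP : P.IsPrime]
    (hd : Disjoint (S : Set B) (P : Set B)) :
    min (k : ℕ∞) P.height ≤ depth (Localization.AtPrime P) (Localization.AtPrime P) := by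
  have hQ : (P.map (algebraMap B L)).IsPrime := IsLocalization.isPrime_of_isPrime_disjoint S L P hP hd
  have hc : (P.map (algebraMap B L)).comap (algebraMap B L) = P :=
    IsLocalization.comap_map_of_isPrime_disjoint S L hP hd
  obtain ⟨h1, h2⟩ := height_depth_comap S L (P.map (algebraMap B L))
  have h3 := (hasSk_self_iff_enat k).mp h (P.map (algebraMap B L))
  rw [← h1, ← h2] at h3
  have key : ∀ (P' : Ideal B) [P'.IsPrime], P' = P →
      min (k : ℕ∞) P'.height ≤ depth (Localization.AtPrime P') (Localization.AtPrime P') →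
      min (k : ℕ∞) P.height ≤ depth (Localization.AtPrime P) (Localization.AtPrime P) := by
    intro P' _ e h
    subst e
    exact h
  exact key _ hc h3

end isLoc

/-! ### Quotients by a non-zero-divisor -/

section quot

variable {B : Type u} [CommRing B] [IsNoetherianRing B] (t : B) (hreg : IsSMulRegular B t)

include hreg in
theorem height_depth_quotient (𝔮 : Ideal (B ⧸ Ideal.span {t})) [𝔮.IsPrime] :
    (𝔮.comap (Ideal.Quotient.mk (Ideal.span {t}))).height = 𝔮.height + 1 ∧
      depth (Localization.AtPrime (𝔮.comap (Ideal.Quotient.mk (Ideal.span {t}))))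
          (Localization.AtPrime (𝔮.comap (Ideal.Quotient.mk (Ideal.span {t})))) =
        depth (Localization.AtPrime 𝔮) (Localization.AtPrime 𝔮) + 1 := by
  set q' : Ideal B := 𝔮.comap (Ideal.Quotient.mk (Ideal.span {t})) with hq'
  set R := Localization.AtPrime q' with hR
  set x : R := algebraMap B R t with hx
  have hN : IsNoetherianRing R := IsLocalization.isNoetherianRing q'.primeCompl _ inferInstance
  have hN' : IsNoetherianRing (Localization.AtPrime 𝔮) :=
    IsLocalization.isNoetherianRing 𝔮.primeCompl _ inferInstance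
  have htq' : t ∈ q' := by
    rw [hq', Ideal.mem_comap, Ideal.Quotient.eq_zero_iff_mem.mpr (Ideal.mem_span_singleton_self t)]
    exact 𝔮.zero_mem
  have hxm : x ∈ IsLocalRing.maximalIdeal R := by
    rw [← Localization.AtPrime.map_eq_maximalIdeal]
    exact Ideal.mem_map_of_mem _ htq'
  have hregx : IsSMulRegular R x := hreg.of_flat
  have hmapI : (Ideal.span {t}).map (algebraMap B R) = Ideal.span {x} := by
    rw [Ideal.map_span, Set.image_singleton]
  let e1 : Localization.AtPrime 𝔮 ≃+* (R ⧸ (Ideal.span {t}).map (algebraMap B R)) :=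
    localizationQuotientEquiv (Ideal.span {t}) 𝔮
  let e2 : (R ⧸ (Ideal.span {t}).map (algebraMap B R)) ≃+* (R ⧸ Ideal.span {x}) :=
    Ideal.quotEquivOfEq hmapI
  let e := e1.trans e2
  have hloc : IsLocalRing (R ⧸ Ideal.span {x}) := e.isLocalRing
  have h1 := depth_quotient_span_singleton_add_one x hxm hregx
  have h2 := ringKrullDim_quotient_span_singleton_succ_eq_ringKrullDim hregx hxm
  rw [← ringKrullDim_eq_of_ringEquiv e,
    IsLocalization.AtPrime.ringKrullDim_eq_height 𝔮 (Localization.AtPrime 𝔮),
    IsLocalization.AtPrime.ringKrullDim_eq_height q' R] at h2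
  rw [← depth_self_eq_of_ringEquiv e] at h1
  refine ⟨?_, h1.symm⟩
  have h3 : ((q'.height : ℕ∞) : WithBot ℕ∞) = ((𝔮.height + 1 : ℕ∞) : WithBot ℕ∞) := by
    rw [← h2]
    push_cast
    rfl
  exact WithBot.coe_injective h3

include hreg in
/-- `(S_{k+1})` for `B` gives `(S_k)` for `B/(t)`. -/
theorem hasSk_quotient (k : ℕ) (h : HasSk (k + 1) B B) :
    HasSk k (B ⧸ Ideal.span {t}) (B ⧸ Ideal.span {t}) := by
  rw [hasSk_self_iff_enat] at h ⊢
  intro 𝔮 h𝔮
  have hp : (𝔮.comap (Ideal.Quotient.mk (Ideal.span {t}))).IsPrime := Ideal.comap_isPrime _ _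
  obtain ⟨h1, h2⟩ := height_depth_quotient t hreg 𝔮
  have h3 := h (𝔮.comap (Ideal.Quotient.mk (Ideal.span {t})))
  rw [h1, h2] at h3
  have h4 : min (k : ℕ∞) 𝔮.height + 1 ≤
      depth (Localization.AtPrime 𝔮) (Localization.AtPrime 𝔮) + 1 := by
    calc min (k : ℕ∞) 𝔮.height + 1 = min ((k : ℕ∞) + 1) (𝔮.height + 1) :=
          (min_add_add_right _ _ _).symm
      _ = min (((k + 1 : ℕ) : ℕ∞)) (𝔮.height + 1) := by push_cast; rfl
      _ ≤ _ := h3
  exact (ENat.add_le_add_iff_right ENat.one_ne_top).mp h4

end quot

end Groth.Agent.Lib.R2H7.SkQuot
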