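/-
Serre's condition `(S_2)` for the extended Rees algebra `R'`: `R'` is `(S_2)` iff `G = R'/uR'` is
`(S_1)` and `A` is `(S_2)`.  Uses `R'[1/u] = A[T, T⁻¹]`.
-/
import Mathlib
import Groth.Agent.Lib.R2H7ExtRees
import Groth.Agent.Lib.R2H7SkQuot
import Groth.Agent.Lib.Helper5GrLoc
import Groth.Agent.Lib.Helper28DepthFlat3
import Groth.Agent.Lib.Helper5TensorSk

set_option autoImplicit false
open LaurentPolynomial

noncomputable section

namespace Groth.Agent.Lib.R2H7.ExtReesSk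

open Groth.Agent.Lib.R2H7.ExtRees Groth.Agent.Lib.R2H7.SkQuot Groth.Agent.Lib.Helper28 LocCoh

universe u

variable {A : Type u} [CommRing A] (𝓕 : FiltBl.IdealFiltration A)

/-! ### `A[T, T⁻¹]` is the localization of `R'` at `u` -/

theorem T_neg_mem (k : ℕ) : (T (-(k : ℤ)) : A[T;T⁻¹]) ∈ 𝓕.extRees := by
  have h := C_mul_T_mem 𝓕 (-(k : ℤ)) 1 (by
    have : (-(k : ℤ)).toNat = 0 := by omega
    rw [this, 𝓕.zero_eq]
    trivial)
  rwa [map_one, one_mul] at h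

theorem exists_mul_T_mem (z : A[T;T⁻¹]) : ∃ k : ℕ, z * T (-(k : ℤ)) ∈ 𝓕.extRees := by
  refine LaurentPolynomial.induction_on' z ?_ ?_
  · rintro p q ⟨k1, h1⟩ ⟨k2, h2⟩
    refine ⟨k1 + k2, ?_⟩
    have e1 : p * T (-((k1 + k2 : ℕ) : ℤ)) = (p * T (-(k1 : ℤ))) * T (-(k2 : ℤ)) := by
      rw [mul_T_assoc]
      congr 2
      push_cast
      ring
    have e2 : q * T (-((k1 + k2 : ℕ) : ℤ)) = (q * T (-(k2 : ℤ))) * T (-(k1 : ℤ)) := by
      rw [mul_T_assoc]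
      congr 2
      push_cast
      ring
    rw [add_mul, e1, e2]
    exact add_mem (mul_mem h1 (T_neg_mem 𝓕 k2)) (mul_mem h2 (T_neg_mem 𝓕 k1))
  · intro n a
    refine ⟨n.toNat, ?_⟩
    rw [mul_T_assoc]
    refine C_mul_T_mem 𝓕 _ a ?_
    have : (n + -(n.toNat : ℤ)).toNat = 0 := by omega
    rw [this, 𝓕.zero_eq]
    trivial

theorem isLocalization_away : IsLocalization.Away 𝓕.u A[T;T⁻¹] := by
  refine (isLocalization_iff _ _).mpr ⟨?_, ?_, ?_⟩
  · rintro ⟨y, n, rfl⟩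
    show IsUnit (((𝓕.u ^ n : 𝓕.extRees) : A[T;T⁻¹]))
    rw [Subalgebra.coe_pow, coe_u]
    exact (isUnit_T (-1)).pow n
  · intro z
    obtain ⟨k, hk⟩ := exists_mul_T_mem 𝓕 z
    refine ⟨(⟨z * T (-(k : ℤ)), hk⟩, ⟨𝓕.u ^ k, k, rfl⟩), ?_⟩
    show z * ((𝓕.u ^ k : 𝓕.extRees) : A[T;T⁻¹]) = z * T (-(k : ℤ))
    rw [Subalgebra.coe_pow, coe_u, T_pow]
    congr 2
    ring
  · intro x y hxy
    refine ⟨1, ?_⟩
    have : x = y := Subtype.ext hxy
    rw [this]

/-! ### `(S_k)` for Laurent polynomial rings -/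

section laurent

variable [IsNoetherianRing A]

theorem isNoetherianRing_laurent : IsNoetherianRing A[T;T⁻¹] :=
  Groth.Agent.Lib.Helper5.GrLoc.isNoetherianRing_addMonoidAlgebra ℤ A

theorem hasSk_laurent (k : ℕ) (h : HasSk k A A) : HasSk k A[T;T⁻¹] A[T;T⁻¹] := by
  have hN := isNoetherianRing_laurent (A := A)
  refine Groth.Agent.Lib.Helper5.TensorSk.hasSk_of_flat_of_fibres k h ?_
  rw [forall_hasSk_fiber_iff]
  intro q hq
  have hcm := Groth.Agent.Lib.Helper5.GrLoc.cm_fibLocRing ℤ A q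
  have hloc : IsLocalRing (EGA4.FibLocRing A A[T;T⁻¹] q) := hcm.toIsLocalRing
  have hnoe : IsNoetherianRing (EGA4.FibLocRing A A[T;T⁻¹] q) := hcm.toIsNoetherian
  refine ⟨hloc, hnoe, ?_⟩
  have h1 := hcm.supportDim_eq_depth
  rw [Module.supportDim_self_eq_ringKrullDim] at h1
  rw [← h1]
  exact min_le_right _ _

theorem hasSk_of_laurent [Nontrivial A] (k : ℕ) (h : HasSk k A[T;T⁻¹] A[T;T⁻¹]) : HasSk k A A := by
  have hN := isNoetherianRing_laurent (A := A)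
  exact hasSk_of_faithfullyFlat k h

end laurent

/-! ### The theorem -/

theorem hasS2_iff [IsNoetherianRing A] [Nontrivial A] (hfg : Algebra.FiniteType A 𝓕.rees) :
    HasSk 2 𝓕.extRees 𝓕.extRees ↔ (HasSk 1 𝓕.Gr 𝓕.Gr ∧ HasSk 2 A A) := by
  have hN : IsNoetherianRing 𝓕.extRees := isNoetherianRing_extRees 𝓕 hfg
  have hNL := isNoetherianRing_laurent (A := A)
  have hloc := isLocalization_away 𝓕
  constructor
  · intro h
    refine ⟨hasSk_quotient 𝓕.u (u_regular 𝓕) 1 h, ?_⟩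
    apply hasSk_of_laurent 2
    refine hasSk_of_forall (Submonoid.powers 𝓕.u) A[T;T⁻¹] 2 ?_
    intro P hP _
    exact (hasSk_self_iff_enat 2).mp h P
  · rintro ⟨hG, hA⟩
    rw [hasSk_self_iff_enat]
    intro P hP
    by_cases hu : 𝓕.u ∈ P
    · exact min_succ_height_le_depth_localization_of_hasSk_quotient 1 𝓕.u (u_regular 𝓕) hG P hu
    · refine le_depth_of_hasSk (Submonoid.powers 𝓕.u) A[T;T⁻¹] 2 (hasSk_laurent 2 hA) P ?_
      rw [Set.disjoint_left]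
      rintro x ⟨n, rfl⟩ hx
      exact hu (hP.mem_of_pow_mem n hx)

end Groth.Agent.Lib.R2H7.ExtReesSk
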