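/-
Cohen–Macaulayness of `Spec R' − V(R_+ R')` for the extended Rees algebra `R'`: it holds iff
`G_p` is Cohen–Macaulay for the primes `p ⊉ G_+` of `G = R'/uR'` and `A_q` is Cohen–Macaulay for the
primes `q ⊉ F^1` of `A`.
-/
import Mathlib
import Groth.Agent.Lib.R2H7ExtReesSk
import Groth.Agent.Lib.R2H7CMTransfer
import Groth.Agent.Lib.Helper5CMLocusOpen

set_option autoImplicit false
open LaurentPolynomial

noncomputable section

namespace Groth.Agent.Lib.R2H7.ExtReesCM2

open Groth.Agent.Lib.R2H7.ExtRees Groth.Agent.Lib.R2H7.ExtReesSk Groth.Agent.Lib.R2H7.CMTransfer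
  Groth.Agent.Lib.Helper28 LocCoh

universe u

theorem cm_congr {B : Type u} [CommRing B] (P P' : Ideal B) [P.IsPrime] [P'.IsPrime] (h : P = P') :
    IsCohenMacaulayLocalRing (Localization.AtPrime P) ↔
      IsCohenMacaulayLocalRing (Localization.AtPrime P') := by
  subst h
  rfl

variable {A : Type u} [CommRing A] [IsNoetherianRing A] (𝓕 : FiltBl.IdealFiltration A)

theorem cm_laurent_iff (Q : Ideal A[T;T⁻¹]) [Q.IsPrime] :
    IsCohenMacaulayLocalRing (Localization.AtPrime Q) ↔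
      IsCohenMacaulayLocalRing (Localization.AtPrime (Q.comap (algebraMap A A[T;T⁻¹]))) := by
  have hNL := isNoetherianRing_laurent (A := A)
  exact Groth.Agent.Lib.Helper5.CMLocusOpen.cm_iff_of_cm_fibre (A := A) Q
    (Groth.Agent.Lib.Helper5.GrLoc.cm_fibLocRing ℤ A Q)

theorem cm_punctured_iff (hfg : Algebra.FiniteType A 𝓕.rees)
    (G : Type u) [CommRing G] (φ : 𝓕.extRees →+* G) (hφ : Function.Surjective φ)
    (hker : RingHom.ker φ = Ideal.span {𝓕.u}) (Rp : Ideal 𝓕.extRees)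
    (hRp : Rp = Ideal.span {x : 𝓕.extRees | ∃ n : ℕ, 0 < n ∧ ∃ a ∈ 𝓕.F n,
      (x : LaurentPolynomial A) = LaurentPolynomial.C a * LaurentPolynomial.T (n : ℤ)}) :
    (∀ (P : Ideal 𝓕.extRees) [P.IsPrime], ¬ Rp ≤ P →
        IsCohenMacaulayLocalRing (Localization.AtPrime P)) ↔
      ((∀ (p : Ideal G) [p.IsPrime], ¬ Ideal.map φ Rp ≤ p →
          IsCohenMacaulayLocalRing (Localization.AtPrime p)) ∧
        (∀ (q : Ideal A) [q.IsPrime], ¬ 𝓕.F 1 ≤ q →
            IsCohenMacaulayLocalRing (Localization.AtPrime q))) := by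
  have hN : IsNoetherianRing 𝓕.extRees := isNoetherianRing_extRees 𝓕 hfg
  have hNL := isNoetherianRing_laurent (A := A)
  have hloc := isLocalization_away 𝓕
  have hU : UniqueSums ℤ := Groth.Agent.Lib.Helper5.GrLoc.uniqueSums ℤ
  constructor
  · intro h
    constructor
    · intro p hp hnp
      have hP : (p.comap φ).IsPrime := Ideal.comap_isPrime _ _
      have hnP : ¬ Rp ≤ p.comap φ := fun hle => hnp (Ideal.map_le_iff_le_comap.mpr hle)
      exact (cm_comap_iff_of_surjective φ hφ 𝓕.u hker (u_regular 𝓕) p).mp (h _ hnP)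
    · intro q hq hnq
      have hQ : (q.map (algebraMap A A[T;T⁻¹])).IsPrime :=
        Groth.Agent.Lib.Helper5.Coact.map_isPrime q
      have hcomapQ : (q.map (algebraMap A A[T;T⁻¹])).comap (algebraMap A A[T;T⁻¹]) = q :=
        Groth.Agent.Lib.Helper5.Coact.comap_map_eq q
      have hP : ((q.map (algebraMap A A[T;T⁻¹])).comap
          (algebraMap 𝓕.extRees A[T;T⁻¹])).IsPrime := Ideal.comap_isPrime _ _
      have hnP : ¬ Rp ≤ (q.map (algebraMap A A[T;T⁻¹])).comap
          (algebraMap 𝓕.extRees A[T;T⁻¹]) := by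
        intro hle
        apply hnq
        intro a ha
        have hmem : (C a * T ((1 : ℕ) : ℤ) : A[T;T⁻¹]) ∈ 𝓕.extRees :=
          C_mul_T_mem 𝓕 _ a (by rw [Int.toNat_natCast]; exact ha)
        have hx : (⟨C a * T ((1 : ℕ) : ℤ), hmem⟩ : 𝓕.extRees) ∈ Rp := by
          rw [hRp]
          exact Ideal.subset_span ⟨1, one_pos, a, ha, rfl⟩
        have h1 := hle hx
        rw [Ideal.mem_comap] at h1
        have h2 : (C a * T ((1 : ℕ) : ℤ) : A[T;T⁻¹]) ∈ q.map (algebraMap A A[T;T⁻¹]) := h1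
        rw [Groth.Agent.Lib.Helper5.Coact.mem_map_iff] at h2
        have h3 := h2 ((1 : ℕ) : ℤ)
        rwa [coeff_C_mul_T, if_pos rfl] at h3
      have h2 := h _ hnP
      have h3 := (cm_comap_iff_isLocalization (Submonoid.powers 𝓕.u) A[T;T⁻¹]
        (q.map (algebraMap A A[T;T⁻¹]))).mp h2
      have h4 := (cm_laurent_iff (q.map (algebraMap A A[T;T⁻¹]))).mp h3
      exact (cm_congr _ q hcomapQ).mp h4
  · rintro ⟨hG, hA⟩ P hP hnP
    by_cases hu : 𝓕.u ∈ P
    · have hkerP : RingHom.ker φ ≤ P := by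
        rw [hker]
        exact (Ideal.span_singleton_le_iff_mem P).mpr hu
      have hp : (P.map φ).IsPrime := Ideal.map_isPrime_of_surjective hφ hkerP
      have hcomap : (P.map φ).comap φ = P := by
        rw [Ideal.comap_map_of_surjective φ hφ, ← RingHom.ker_eq_comap_bot, sup_eq_left]
        exact hkerP
      have hnp : ¬ Rp.map φ ≤ P.map φ := by
        intro hle
        apply hnP
        have := Ideal.map_le_iff_le_comap.mp hle
        rwa [hcomap] at this
      exact (cm_map_iff_of_surjective φ hφ 𝓕.u hker (u_regular 𝓕) P hu (P.map φ) rfl).mpr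
        (hG _ hnp)
    · have hd : Disjoint ((Submonoid.powers 𝓕.u : Submonoid 𝓕.extRees) : Set 𝓕.extRees)
          (P : Set 𝓕.extRees) := by
        rw [Set.disjoint_left]
        rintro x ⟨n, rfl⟩ hx
        exact hu (hP.mem_of_pow_mem n hx)
      have hQ : (P.map (algebraMap 𝓕.extRees A[T;T⁻¹])).IsPrime :=
        IsLocalization.isPrime_of_isPrime_disjoint (Submonoid.powers 𝓕.u) A[T;T⁻¹] P hP hd
      have hcQ : (P.map (algebraMap 𝓕.extRees A[T;T⁻¹])).comap
          (algebraMap 𝓕.extRees A[T;T⁻¹]) = P :=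
        IsLocalization.comap_map_of_isPrime_disjoint (Submonoid.powers 𝓕.u) A[T;T⁻¹] hP hd
      have hq : ((P.map (algebraMap 𝓕.extRees A[T;T⁻¹])).comap
          (algebraMap A A[T;T⁻¹])).IsPrime := Ideal.comap_isPrime _ _
      have hnq : ¬ 𝓕.F 1 ≤ (P.map (algebraMap 𝓕.extRees A[T;T⁻¹])).comap
          (algebraMap A A[T;T⁻¹]) := by
        intro hle
        apply hnP
        rw [hRp, Ideal.span_le]
        rintro x ⟨n, hn, a, ha, hx⟩
        have ha1 : a ∈ 𝓕.F 1 := 𝓕.antitone hn ha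
        have haQ : algebraMap A A[T;T⁻¹] a ∈ P.map (algebraMap 𝓕.extRees A[T;T⁻¹]) := hle ha1
        have hxQ : (x : A[T;T⁻¹]) ∈ P.map (algebraMap 𝓕.extRees A[T;T⁻¹]) := by
          rw [hx, C_eq_algebraMap]
          exact Ideal.mul_mem_right _ _ haQ
        have hxP : x ∈ (P.map (algebraMap 𝓕.extRees A[T;T⁻¹])).comap
            (algebraMap 𝓕.extRees A[T;T⁻¹]) := hxQ
        rw [hcQ] at hxP
        exact hxP
      have h1 := hA _ hnq
      have h2 := (cm_laurent_iff (P.map (algebraMap 𝓕.extRees A[T;T⁻¹]))).mpr h1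
      exact (cm_map_iff_isLocalization (Submonoid.powers 𝓕.u) A[T;T⁻¹] P hd
        (P.map (algebraMap 𝓕.extRees A[T;T⁻¹])) rfl).mpr h2

end Groth.Agent.Lib.R2H7.ExtReesCM2
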