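/-
Unique factorization for the extended Rees algebra `R'` of a filtration on a Noetherian local
domain `A`: `R'` is a UFD iff `A` is a UFD and `G = R'/uR'` is a domain.  (Nagata's criterion twice:
`R'[1/u] = A[T, T⁻¹] = A[X][1/X]`.)
-/
import Mathlib
import Groth.Agent.Lib.R2H7ExtRees
import Groth.Agent.Lib.R2H7ExtReesSk
import Groth.Agent.Lib.R2H7ExtReesCM

set_option autoImplicit false
open LaurentPolynomial

noncomputable section

namespace Groth.Agent.Lib.R2H7.ExtReesUFD

open Groth.Agent.Lib.R2H7.ExtRees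

universe u

/-! ### Generalities -/

/-- Units of a Laurent polynomial ring over a domain are the unit monomials. -/
theorem exists_of_isUnit_laurent {A : Type u} [CommRing A] [IsDomain A] (f : A[T;T⁻¹])
    (hf : IsUnit f) : ∃ (c : A) (k : ℤ), IsUnit c ∧ f = C c * T k := by
  obtain ⟨g, hfg⟩ := hf.exists_right_inv
  obtain ⟨n, f', hf'⟩ := exists_T_pow f
  obtain ⟨m, g', hg'⟩ := exists_T_pow g
  have h1 : f' * g' = Polynomial.X ^ (n + m) := by
    apply Polynomial.toLaurent_injective
    rw [map_mul, hf', hg', Polynomial.toLaurent_X_pow]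
    calc f * T n * (g * T m) = (f * g) * (T n * T m) := by ring
      _ = T ((n + m : ℕ) : ℤ) := by
        rw [hfg, one_mul, ← T_add]
        push_cast
        rfl
  have h2 : f' ∣ Polynomial.X ^ (n + m) := ⟨g', h1.symm⟩
  obtain ⟨i, _, hi⟩ := (dvd_prime_pow Polynomial.prime_X _).mp h2
  obtain ⟨w, hw⟩ := hi
  obtain ⟨c, hc, hcw⟩ := Polynomial.isUnit_iff.mp (w⁻¹).isUnit
  refine ⟨c, (i : ℤ) - n, hc, ?_⟩
  have h3 : f' = Polynomial.X ^ i * Polynomial.C c := by
    rw [hcw, ← hw, mul_assoc, Units.mul_inv, mul_one]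
  have h4 : f * T n = T i * C c := by
    rw [← hf', h3, map_mul, Polynomial.toLaurent_X_pow, Polynomial.toLaurent_C]
  calc f = f * T n * T (-(n : ℤ)) := by
        rw [mul_assoc, ← T_add, add_neg_cancel, T_zero, mul_one]
    _ = C c * T ((i : ℤ) - n) := by
        rw [h4, mul_comm (T (i : ℤ)) (C c), mul_assoc, ← T_add, sub_eq_add_neg]

theorem irreducible_C {A : Type u} [CommRing A] [IsDomain A] {a : A} (ha : Irreducible a) :
    Irreducible (Polynomial.C a) := by
  refine ⟨fun h => ha.not_isUnit (Polynomial.isUnit_C.mp h), fun p q hpq => ?_⟩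
  have hp0 : p ≠ 0 := by
    rintro rfl
    rw [zero_mul] at hpq
    exact ha.ne_zero (Polynomial.C_eq_zero.mp hpq)
  have hq0 : q ≠ 0 := by
    rintro rfl
    rw [mul_zero] at hpq
    exact ha.ne_zero (Polynomial.C_eq_zero.mp hpq)
  have hdeg := Polynomial.natDegree_mul hp0 hq0
  rw [← hpq, Polynomial.natDegree_C] at hdeg
  have hp : p.natDegree = 0 := by omega
  have hq : q.natDegree = 0 := by omega
  have hp' := Polynomial.eq_C_of_natDegree_eq_zero hp
  have hq' := Polynomial.eq_C_of_natDegree_eq_zero hq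
  rw [hp', hq', ← Polynomial.C_mul, Polynomial.C_inj] at hpq
  rcases ha.isUnit_or_isUnit hpq with h | h
  · left
    rw [hp']
    exact Polynomial.isUnit_C.mpr h
  · right
    rw [hq']
    exact Polynomial.isUnit_C.mpr h

/-- A Noetherian domain whose polynomial ring is a UFD is a UFD. -/
theorem ufm_of_polynomial {A : Type u} [CommRing A] [IsDomain A] [IsNoetherianRing A]
    (h : UniqueFactorizationMonoid (Polynomial A)) : UniqueFactorizationMonoid A := by
  have hwf : WfDvdMonoid A := IsNoetherianRing.wfDvdMonoid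
  refine { toIsWellFounded := hwf, irreducible_iff_prime := ?_ }
  intro a
  refine ⟨fun ha => ?_, Prime.irreducible⟩
  have h1 : Irreducible (Polynomial.C a) := irreducible_C ha
  have h2 : Prime (Polynomial.C a) := UniqueFactorizationMonoid.irreducible_iff_prime.mp h1
  exact Polynomial.prime_C_iff.mp h2

/-! ### The element `u` -/

variable {A : Type u} [CommRing A] (𝓕 : FiltBl.IdealFiltration A)

theorem u_ne_zero [Nontrivial A] : 𝓕.u ≠ 0 := by
  intro h
  have h2 := congrArg (fun z : 𝓕.extRees => (z : A[T;T⁻¹])) h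
  simp only [coe_u, ZeroMemClass.coe_zero] at h2
  exact (isUnit_T (-1)).ne_zero h2

theorem u_irreducible [IsDomain A] [IsLocalRing A] (h1 : 𝓕.F 1 ≠ ⊤) : Irreducible 𝓕.u := by
  refine ⟨?_, ?_⟩
  · intro hu
    have := Ideal.eq_top_of_isUnit_mem _ (u_mem_M 𝓕 h1) hu
    exact one_notMem_M 𝓕 h1 ((Ideal.eq_top_iff_one _).mp this)
  · intro f g hfg
    have hfg' : (f : A[T;T⁻¹]) * (g : A[T;T⁻¹]) = T (-1) := by
      rw [← Subalgebra.coe_mul, ← hfg, coe_u]
    have hf : IsUnit (f : A[T;T⁻¹]) := by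
      refine IsUnit.of_mul_eq_one ((g : A[T;T⁻¹]) * T 1) ?_
      rw [← mul_assoc, hfg', ← T_add]
      norm_num
    have hg : IsUnit (g : A[T;T⁻¹]) := by
      refine IsUnit.of_mul_eq_one ((f : A[T;T⁻¹]) * T 1) ?_
      rw [← mul_assoc, mul_comm (g : A[T;T⁻¹]), hfg', ← T_add]
      norm_num
    obtain ⟨c, k, hc, hfc⟩ := exists_of_isUnit_laurent _ hf
    obtain ⟨d, l, hd, hgd⟩ := exists_of_isUnit_laurent _ hg
    have hkl : k + l = -1 := by
      by_contra hne
      have h2 := congrArg (fun z : A[T;T⁻¹] => z.coeff (k + l)) hfg'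
      rw [hfc, hgd, C_mul_T_mul, coeff_C_mul_T, if_pos rfl, T_apply, if_neg (Ne.symm hne)] at h2
      exact (hc.mul hd).ne_zero h2
    have hk : k ≤ 0 := by
      by_contra hk
      have h3 := f.2 k
      rw [hfc, coeff_C_mul_T, if_pos rfl] at h3
      have h4 : c ∈ IsLocalRing.maximalIdeal A :=
        F_le_maximalIdeal 𝓕 h1 (show 1 ≤ k.toNat by omega) h3
      exact (IsLocalRing.mem_maximalIdeal _).mp h4 hc
    have hl : l ≤ 0 := by
      by_contra hl
      have h3 := g.2 l
      rw [hgd, coeff_C_mul_T, if_pos rfl] at h3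
      have h4 : d ∈ IsLocalRing.maximalIdeal A :=
        F_le_maximalIdeal 𝓕 h1 (show 1 ≤ l.toNat by omega) h3
      exact (IsLocalRing.mem_maximalIdeal _).mp h4 hd
    have hcase : k = 0 ∨ l = 0 := by omega
    rcases hcase with h0 | h0
    · left
      have : f = algebraMap A 𝓕.extRees c := by
        apply Subtype.ext
        rw [hfc, h0, T_zero, mul_one, Subalgebra.coe_algebraMap, ← C_eq_algebraMap]
      rw [this]
      exact hc.map _
    · right
      have : g = algebraMap A 𝓕.extRees d := by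
        apply Subtype.ext
        rw [hgd, h0, T_zero, mul_one, Subalgebra.coe_algebraMap, ← C_eq_algebraMap]
      rw [this]
      exact hd.map _

/-! ### The theorem -/

theorem ufm_iff [IsDomain A] [IsLocalRing A] [IsNoetherianRing A] [IsDomain 𝓕.extRees]
    (hsep : ⨅ n, 𝓕.F n = ⊥) (hfg : Algebra.FiniteType A 𝓕.rees) :
    UniqueFactorizationMonoid 𝓕.extRees ↔ (UniqueFactorizationMonoid A ∧ IsDomain 𝓕.Gr) := by
  have hN : IsNoetherianRing 𝓕.extRees := isNoetherianRing_extRees 𝓕 hfg
  have h1 := Groth.Agent.Lib.R2H7.ExtReesCM.F_one_ne_top 𝓕 hsep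
  have hloc := Groth.Agent.Lib.R2H7.ExtReesSk.isLocalization_away 𝓕
  have hu0 := u_ne_zero 𝓕
  constructor
  · intro hU
    have hL : UniqueFactorizationMonoid A[T;T⁻¹] :=
      UniqueFactorizationMonoid.of_isLocalization (Submonoid.powers 𝓕.u) A[T;T⁻¹]
    have hP : UniqueFactorizationMonoid (Polynomial A) :=
      (UniqueFactorizationMonoid.iff_of_isLocalizationAway_of_prime Polynomial.prime_X
        A[T;T⁻¹]).mpr hL
    refine ⟨ufm_of_polynomial hP, ?_⟩
    have hup : Prime 𝓕.u :=
      UniqueFactorizationMonoid.irreducible_iff_prime.mp (u_irreducible 𝓕 h1)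
    exact (Ideal.Quotient.isDomain_iff_prime _).mpr ((Ideal.span_singleton_prime hu0).mpr hup)
  · rintro ⟨hA, hG⟩
    have hup : Prime 𝓕.u :=
      (Ideal.span_singleton_prime hu0).mp ((Ideal.Quotient.isDomain_iff_prime _).mp hG)
    have hL : UniqueFactorizationMonoid A[T;T⁻¹] :=
      UniqueFactorizationMonoid.of_isLocalization (Submonoid.powers (Polynomial.X : Polynomial A))
        A[T;T⁻¹]
    exact (UniqueFactorizationMonoid.iff_of_isLocalizationAway_of_prime hup A[T;T⁻¹]).mpr hL

end Groth.Agent.Lib.R2H7.ExtReesUFD
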