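import Groth.Agent.Lib.R2H7ExtBase
import Groth.Agent.Lib.Helper25Weights
import Groth.Agent.Lib.Helper25PrimExt

/-!
# Existence of skew-primitive elements (helper7)

`A` a commutative Hopf algebra over a field, `ψ : B → A` an injective bialgebra map from a
diagonalizable Hopf algebra with unipotent kernel `A ⧸ J`.  If `ψ` is not surjective there is an
element `y ∉ ψ B` with `Δ y = y ⊗ ψ g + 1 ⊗ y` for a group-like `g` of `B`.
-/

set_option autoImplicit false

namespace Groth.Agent.Lib.R2H7.ExtSkew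

open TensorProduct HopfRep Groth.Agent.Lib.Helper25 Groth.Agent.Lib.Helper25.HopfSub
  Groth.Agent.Lib.R2H7.ExtBase

universe u

section Step1

variable {k A B : Type u} [Field k] [CommRing A] [HopfAlgebra k A] [CommRing B] [HopfAlgebra k B]
  (ψ : B →ₐc[k] A) (J : Ideal A) [J.IsHopfIdeal k]
  (hJ : J = Ideal.map (ψ : B →+* A) (RingHom.ker (Bialgebra.counitAlgHom k B)))

/-- The image of `ψ` as a subspace. -/
noncomputable def F1 : Submodule k A := LinearMap.range (ψ : B →ₐ[k] A).toLinearMap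

theorem mem_F1 {a : A} : a ∈ F1 ψ ↔ ∃ b : B, ψ b = a := Iff.rfl

theorem isSubcomod_F1 : IsSubcomod (k := k) (A := A) (V := A) (F1 ψ) := by
  intro w hw
  obtain ⟨b, rfl⟩ := hw
  rw [mem_range_rTensor_iff]
  intro φ
  have h1 : Comod.coact (k := k) (A := A) ((ψ : B →ₐ[k] A).toLinearMap b) =
      TensorProduct.map (ψ : B →ₐ[k] A).toLinearMap (ψ : B →ₐ[k] A).toLinearMap
        (CoalgebraStruct.comul (R := k) b) :=
    (CoalgHomClass.map_comp_comul_apply ψ b).symm
  rw [h1, slice_map_map]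
  exact ⟨_, rfl⟩

theorem range_rTensor_F1 (C : Type u) [AddCommGroup C] [Module k C] :
    LinearMap.range ((F1 ψ).subtype.rTensor C) =
      LinearMap.range ((ψ : B →ₐ[k] A).toLinearMap.rTensor C) := by
  have h1 : (ψ : B →ₐ[k] A).toLinearMap =
      (F1 ψ).subtype ∘ₗ (ψ : B →ₐ[k] A).toLinearMap.rangeRestrict := rfl
  conv_rhs => rw [h1, LinearMap.rTensor_comp]
  rw [LinearMap.range_comp_of_range_eq_top]
  rw [LinearMap.range_eq_top]
  exact LinearMap.rTensor_surjective C (LinearMap.surjective_rangeRestrict _)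

include hJ in
/-- Step 1: an element outside `ψ B` which is invariant modulo `ψ B`. -/
theorem exists_second_layer (hU : IsUnipotent k (A ⧸ J)) (hns : ¬ Function.Surjective ψ) :
    ∃ a : A, a ∉ F1 ψ ∧ rhoR k J a - a ⊗ₜ[k] (1 : A ⧸ J) ∈
      LinearMap.range ((ψ : B →ₐ[k] A).toLinearMap.rTensor (A ⧸ J)) := by
  classical
  have hex : ∃ a₀ : A, a₀ ∉ F1 ψ := by
    by_contra hcon
    push_neg at hcon
    exact hns (fun a => hcon a)
  obtain ⟨a₀, ha₀⟩ := hex
  have hF := isSubcomod_F1 ψ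
  letI cQ : Comod k A (A ⧸ F1 ψ) := quotComod (F1 ψ) hF
  set q₀ : A ⧸ F1 ψ := (F1 ψ).mkQ a₀ with hq₀
  have hq₀ne : q₀ ≠ 0 := by
    rw [hq₀, Submodule.mkQ_apply, Ne, Submodule.Quotient.mk_eq_zero]
    exact ha₀
  set G : Submodule k (A ⧸ F1 ψ) := gen k A q₀ with hG
  have hGsub : IsSubcomod (k := k) (A := A) G := isSubcomod_gen q₀
  letI cG : Comod k A ↥G := subComod G hGsub
  have hfin : Module.Finite k ↥G := Module.Finite.iff_fg.mpr (fg_gen q₀)
  have hnt : Nontrivial ↥G := ⟨⟨⟨q₀, self_mem_gen q₀⟩, 0, fun h => hq₀ne (congrArg Subtype.val h)⟩⟩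
  have hne := invSub_ne_bot_of_isUnipotent J hU ↥G hfin hnt
  obtain ⟨w, hw, hw0⟩ := Submodule.exists_mem_ne_zero_of_ne_bot hne
  rw [mem_invSub] at hw
  obtain ⟨a, ha⟩ := (F1 ψ).mkQ_surjective (w : A ⧸ F1 ψ)
  have haF : a ∉ F1 ψ := by
    intro h
    apply hw0
    apply Subtype.ext
    rw [← ha, Submodule.mkQ_apply, (Submodule.Quotient.mk_eq_zero _).mpr h]
    rfl
  refine ⟨a, haF, ?_⟩
  rw [← range_rTensor_F1, ← rTensor_mkQ, LinearMap.mem_ker]
  have h1 := congrArg (G.subtype.rTensor (A ⧸ J)) hw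
  have h3 : G.subtype.rTensor A (Comod.coact (k := k) (A := A) w) =
      Comod.coact (k := k) (A := A) (w : A ⧸ F1 ψ) := rTensor_subtype_subCoact G hGsub w
  rw [← LinearMap.comp_apply, LinearMap.rTensor_comp_lTensor, ← LinearMap.lTensor_comp_rTensor,
    LinearMap.comp_apply, h3, LinearMap.rTensor_tmul,
    Submodule.subtype_apply, ← ha] at h1
  have h2 : Comod.coact (k := k) (A := A) ((F1 ψ).mkQ a) =
      (F1 ψ).mkQ.rTensor A (CoalgebraStruct.comul (R := k) a) := quotCoact_mk (F1 ψ) hF a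
  rw [h2, ← LinearMap.comp_apply, LinearMap.lTensor_comp_rTensor, ← LinearMap.rTensor_comp_lTensor,
    LinearMap.comp_apply, ← rhoR_apply] at h1
  rw [map_sub, h1, LinearMap.rTensor_tmul, sub_self]

end Step1

section Step2

variable {k A B : Type u} [Field k] [CommRing A] [HopfAlgebra k A] [CommRing B] [HopfAlgebra k B]
  (ψ : B →ₐc[k] A) (J : Ideal A) [J.IsHopfIdeal k]
  (hJ : J = Ideal.map (ψ : B →+* A) (RingHom.ker (Bialgebra.counitAlgHom k B)))

theorem rTensor_toSpanSingleton_comp {W C M : Type*} [AddCommGroup W] [Module k W]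
    [AddCommGroup C] [Module k C] [AddCommGroup M] [Module k M]
    (l : W →ₗ[k] k) (m₀ : M) (x : W ⊗[k] C) :
    ((LinearMap.toSpanSingleton k M m₀) ∘ₗ l).rTensor C x = m₀ ⊗ₜ[k] (lslice l x) := by
  induction x using TensorProduct.induction_on with
  | zero => simp
  | add x y hx hy => simp only [map_add, hx, hy, TensorProduct.tmul_add]
  | tmul w c =>
    simp only [LinearMap.rTensor_tmul, LinearMap.comp_apply, LinearMap.toSpanSingleton_apply,
      lslice_tmul, TensorProduct.smul_tmul]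

theorem lslice_coord_comul (hD : IsDiagonalizable k B) (g : {a : B // IsGroupLikeElem k a})
    (b : B) :
    lslice ((groupLikeBasis hD).coord g) (CoalgebraStruct.comul (R := k) b) =
      (groupLikeBasis hD).coord g b • g.1 := by
  classical
  have h : lslice ((groupLikeBasis hD).coord g) ∘ₗ CoalgebraStruct.comul (R := k) (A := B) =
      (LinearMap.toSpanSingleton k B g.1) ∘ₗ (groupLikeBasis hD).coord g := by
    apply (groupLikeBasis hD).ext
    intro g'
    simp only [LinearMap.comp_apply, groupLikeBasis_apply, g'.2.comul_eq_tmul_self, lslice_tmul,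
      LinearMap.toSpanSingleton_apply]
    rw [← groupLikeBasis_apply hD g', Module.Basis.coord_apply, Module.Basis.repr_self,
      Finsupp.single_apply]
    by_cases h : g' = g
    · subst h; simp
    · simp [h]
  exact LinearMap.congr_fun h b

theorem eq_zero_of_lslice_coord_eq_zero {W C : Type*} [AddCommGroup W] [Module k W]
    [AddCommGroup C] [Module k C] {ι : Type*} (b : Module.Basis ι k W) (x : W ⊗[k] C)
    (h : ∀ i, lslice (b.coord i) x = 0) : x = 0 := by
  have hc : TensorProduct.comm k W C x = 0 := by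
    obtain ⟨s, hs⟩ := eq_sum_slice (V := C) b (TensorProduct.comm k W C x)
    rw [hs]
    apply Finset.sum_eq_zero
    intro i _
    rw [← lslice_eq_slice_comm, h i, TensorProduct.zero_tmul]
  exact (TensorProduct.comm k W C).injective (by rw [hc, map_zero])

include hJ in
/-- Step 2: an element outside `ψ B` on which the unipotent kernel acts by translation. -/
theorem exists_affine_elt (hψ : Function.Injective ψ) (hD : IsDiagonalizable k B) {a : A}
    (ha : a ∉ F1 ψ)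
    (hz : rhoR k J a - a ⊗ₜ[k] (1 : A ⧸ J) ∈
      LinearMap.range ((ψ : B →ₐ[k] A).toLinearMap.rTensor (A ⧸ J))) :
    ∃ (y : A) (c : A ⧸ J), y ∉ F1 ψ ∧
      rhoR k J y = y ⊗ₜ[k] (1 : A ⧸ J) + (1 : A) ⊗ₜ[k] c := by
  classical
  obtain ⟨z', hz'⟩ := hz
  have hcoinv : ∀ x : A, x ∈ coinvSub k J → x ∈ F1 ψ := by
    intro x hx
    rw [← range_eq_coinvSub ψ J hJ] at hx
    obtain ⟨b, hb⟩ := hx
    exact ⟨b, hb⟩
  have hz'ne : z' ≠ 0 := by
    intro h
    rw [h, map_zero] at hz'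
    apply ha
    apply hcoinv
    rw [mem_coinvSub, ← rhoR_apply]
    exact sub_eq_zero.mp hz'.symm
  have hex : ∃ h₀, lslice ((groupLikeBasis hD).coord h₀) z' ≠ 0 := by
    by_contra hcon
    push_neg at hcon
    exact hz'ne (eq_zero_of_lslice_coord_eq_zero (groupLikeBasis hD) z' hcon)
  obtain ⟨h₀, hc⟩ := hex
  obtain ⟨r, hr⟩ := LinearMap.exists_leftInverse_of_injective (ψ : B →ₐ[k] A).toLinearMap
    (LinearMap.ker_eq_bot.mpr hψ)
  set lam : A →ₗ[k] k := (groupLikeBasis hD).coord h₀ ∘ₗ r with hlam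
  set L : A →ₗ[k] A := coeffMap (A := A) (V := A) lam with hL
  have hcomm : ∀ x : A, rhoR k J (L x) = L.rTensor (A ⧸ J) (rhoR k J x) := by
    intro x
    have h2 := isComodHom_apply (isComodHom_coeffMap (A := A) (V := A) lam) x
    change CoalgebraStruct.comul (R := k) (L x) =
      L.rTensor A (CoalgebraStruct.comul (R := k) x) at h2
    rw [rhoR_apply, rhoR_apply, h2, ← LinearMap.comp_apply, LinearMap.lTensor_comp_rTensor,
      ← LinearMap.rTensor_comp_lTensor, LinearMap.comp_apply]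
  have hLψ : L ∘ₗ (ψ : B →ₐ[k] A).toLinearMap =
      (LinearMap.toSpanSingleton k A (ψ h₀.1)) ∘ₗ (groupLikeBasis hD).coord h₀ := by
    apply LinearMap.ext
    intro b
    simp only [LinearMap.comp_apply, LinearMap.toSpanSingleton_apply]
    have h3 : L ((ψ : B →ₐ[k] A).toLinearMap b) =
        lslice lam (CoalgebraStruct.comul (R := k) (ψ b)) := rfl
    have h4 : lam ∘ₗ (ψ : B →ₐ[k] A).toLinearMap = (groupLikeBasis hD).coord h₀ := by
      rw [hlam, LinearMap.comp_assoc, hr, LinearMap.comp_id]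
    have h5 : TensorProduct.map (ψ : B →ₐ[k] A).toLinearMap (ψ : B →ₐ[k] A).toLinearMap
        (CoalgebraStruct.comul (R := k) b) = CoalgebraStruct.comul (R := k) (ψ b) :=
      CoalgHomClass.map_comp_comul_apply ψ b
    rw [h3, ← h5, lslice_map, h4, lslice_coord_comul, map_smul]
    rfl
  have hy₁ : rhoR k J (L a) = L a ⊗ₜ[k] (1 : A ⧸ J) +
      ψ h₀.1 ⊗ₜ[k] lslice ((groupLikeBasis hD).coord h₀) z' := by
    have h6 : rhoR k J a = a ⊗ₜ[k] (1 : A ⧸ J) +
        (ψ : B →ₐ[k] A).toLinearMap.rTensor (A ⧸ J) z' := by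
      rw [hz']; abel
    rw [hcomm, h6, map_add, LinearMap.rTensor_tmul, ← LinearMap.comp_apply,
      ← LinearMap.rTensor_comp, hLψ, rTensor_toSpanSingleton_comp]
  have hinv : ψ (HopfAlgebra.antipode k h₀.1) * ψ h₀.1 = 1 := by
    rw [← map_mul, h₀.2.antipode_mul_cancel, map_one]
  refine ⟨ψ (HopfAlgebra.antipode k h₀.1) * L a,
    lslice ((groupLikeBasis hD).coord h₀) z', ?_, ?_⟩
  · intro hmem
    apply hc
    have hmem' : ψ (HopfAlgebra.antipode k h₀.1) * L a ∈ coinvSub k J := by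
      rw [← range_eq_coinvSub ψ J hJ]
      obtain ⟨b, hb⟩ := hmem
      exact ⟨b, hb⟩
    have h7 : L a ∈ coinvSub k J := by
      have h8 : L a = ψ h₀.1 * (ψ (HopfAlgebra.antipode k h₀.1) * L a) := by
        rw [← mul_assoc, mul_comm (ψ h₀.1), hinv, one_mul]
      rw [h8]
      refine Subalgebra.mul_mem _ ?_ hmem'
      rw [← range_eq_coinvSub ψ J hJ]
      exact ⟨h₀.1, rfl⟩
    rw [mem_coinvSub, ← rhoR_apply, hy₁] at h7
    have h9 : ψ h₀.1 ⊗ₜ[k] lslice ((groupLikeBasis hD).coord h₀) z' = (0 : A ⊗[k] (A ⧸ J)) := by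
      simpa using h7
    have h10 := congrArg (lslice (CoalgebraStruct.counit (R := k) (A := A))) h9
    rw [lslice_tmul, map_zero, (h₀.2.map ψ).counit_eq_one, one_smul] at h10
    exact h10
  · rw [map_mul, rhoR_map ψ J hJ, hy₁, mul_add, Algebra.TensorProduct.tmul_mul_tmul,
      Algebra.TensorProduct.tmul_mul_tmul, mul_one, one_mul, hinv]

end Step2

section Step3

variable {k A B : Type u} [Field k] [CommRing A] [HopfAlgebra k A] [CommRing B] [HopfAlgebra k B]
  (ψ : B →ₐc[k] A) (J : Ideal A) [J.IsHopfIdeal k]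
  (hJ : J = Ideal.map (ψ : B →+* A) (RingHom.ker (Bialgebra.counitAlgHom k B)))

theorem isSubcomod_span_one :
    IsSubcomod (k := k) (A := A) (V := A) (Submodule.span k {(1 : A)}) := by
  intro w hw
  obtain ⟨c, rfl⟩ := Submodule.mem_span_singleton.mp hw
  refine ⟨c • ((⟨1, Submodule.mem_span_singleton_self 1⟩ : Submodule.span k {(1 : A)}) ⊗ₜ[k]
    (1 : A)), ?_⟩
  rw [map_smul, LinearMap.rTensor_tmul, Submodule.subtype_apply, map_smul]
  show c • ((1 : A) ⊗ₜ[k] (1 : A)) = c • CoalgebraStruct.comul (R := k) (1 : A)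
  rw [Bialgebra.comul_one, Algebra.TensorProduct.one_def]

include hJ in
/-- Step 3: from an element on which the kernel acts by translations to a skew-primitive one. -/
theorem exists_skew_of_affine (hψ : Function.Injective ψ) (hD : IsDiagonalizable k B) {y : A}
    {c : A ⧸ J} (hy : y ∉ F1 ψ)
    (hrho : rhoR k J y = y ⊗ₜ[k] (1 : A ⧸ J) + (1 : A) ⊗ₜ[k] c) :
    ∃ (y₃ : A) (g : B), IsGroupLikeElem k g ∧ y₃ ∉ F1 ψ ∧
      CoalgebraStruct.comul (R := k) y₃ = y₃ ⊗ₜ[k] ψ g + (1 : A) ⊗ₜ[k] y₃ := by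
  classical
  set K₁ : Submodule k A := Submodule.span k {(1 : A)} with hK₁
  have hKsub : IsSubcomod (k := k) (A := A) (V := A) K₁ := isSubcomod_span_one
  letI cW : Comod k A (A ⧸ K₁) := quotComod K₁ hKsub
  have hK₁F : K₁ ≤ F1 ψ := by
    rw [hK₁, Submodule.span_le]
    rintro _ rfl
    exact ⟨1, map_one ψ⟩
  have h1 : K₁.mkQ (1 : A) = 0 := by
    rw [Submodule.mkQ_apply, Submodule.Quotient.mk_eq_zero]
    exact Submodule.mem_span_singleton_self 1
  have hyinv : K₁.mkQ y ∈ invSub k J (A ⧸ K₁) := by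
    rw [mem_invSub]
    have h2 : Comod.coact (k := k) (A := A) (K₁.mkQ y) =
        K₁.mkQ.rTensor A (CoalgebraStruct.comul (R := k) y) := quotCoact_mk K₁ hKsub y
    rw [h2, ← LinearMap.comp_apply, LinearMap.lTensor_comp_rTensor,
      ← LinearMap.rTensor_comp_lTensor, LinearMap.comp_apply, ← rhoR_apply, hrho, map_add,
      LinearMap.rTensor_tmul, LinearMap.rTensor_tmul, h1, TensorProduct.zero_tmul, add_zero]
  obtain ⟨hX, d, hd⟩ := exists_comod_invSub (V := A ⧸ K₁) ψ hψ J hJ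
  letI cX : Comod k B ↥(invSub k J (A ⧸ K₁)) := d
  set u : ↥(invSub k J (A ⧸ K₁)) := ⟨K₁.mkQ y, hyinv⟩ with hu
  have hb : ∀ i, IsGroupLikeElem k (groupLikeBasis hD i) := fun i => by
    rw [groupLikeBasis_apply]; exact i.2
  obtain ⟨s, hs, -⟩ := eq_sum_T_coord (V := ↥(invSub k J (A ⧸ K₁))) (groupLikeBasis hD) hb u
  set Fbar : Submodule k (A ⧸ K₁) := (F1 ψ).map K₁.mkQ with hFbar
  have huF : (u : A ⧸ K₁) ∉ Fbar := by
    rintro ⟨x, hx, hxy⟩
    apply hy
    have h3 : y - x ∈ K₁ := by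
      rw [← Submodule.Quotient.mk_eq_zero, Submodule.Quotient.mk_sub, sub_eq_zero]
      exact hxy.symm
    have h4 := Submodule.add_mem _ (hK₁F h3) hx
    simpa using h4
  have hs' : (u : A ⧸ K₁) = ∑ i ∈ s,
      ((T ((groupLikeBasis hD).coord i) u : ↥(invSub k J (A ⧸ K₁))) : A ⧸ K₁) := by
    conv_lhs => rw [hs]
    rw [Submodule.coe_sum]
  have hexi : ∃ i ∈ s,
      ((T ((groupLikeBasis hD).coord i) u : ↥(invSub k J (A ⧸ K₁))) : A ⧸ K₁) ∉ Fbar := by
    by_contra hcon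
    push_neg at hcon
    apply huF
    rw [hs']
    exact Submodule.sum_mem _ (fun i hi => hcon i hi)
  obtain ⟨i, -, hi⟩ := hexi
  set ui : ↥(invSub k J (A ⧸ K₁)) := T ((groupLikeBasis hD).coord i) u with hui
  have hcoact_d : d.coact ui = ui ⊗ₜ[k] (groupLikeBasis hD i) :=
    coact_T_coord_of_groupLike (groupLikeBasis hD) hb i u
  have h3 := hd ui
  rw [hcoact_d, LinearMap.lTensor_tmul] at h3
  have h4 := rTensor_subtype_subCoact (invSub k J (A ⧸ K₁)) hX ui
  have h5 : Comod.coact (k := k) (A := A) (ui : A ⧸ K₁) = (ui : A ⧸ K₁) ⊗ₜ[k] ψ i.1 := by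
    rw [← h4]
    have h6 : subCoact (invSub k J (A ⧸ K₁)) hX ui =
        ui ⊗ₜ[k] (((ψ : B →ₗc[k] A) : B →ₗ[k] A) (groupLikeBasis hD i)) := h3.symm
    rw [h6, LinearMap.rTensor_tmul, Submodule.subtype_apply, groupLikeBasis_apply]
    rfl
  obtain ⟨y₂, hy₂⟩ := K₁.mkQ_surjective (ui : A ⧸ K₁)
  have hy₂F : y₂ ∉ F1 ψ := fun h => hi ⟨y₂, h, hy₂⟩
  rw [← hy₂] at h5
  have h6 : Comod.coact (k := k) (A := A) (K₁.mkQ y₂) =
      K₁.mkQ.rTensor A (CoalgebraStruct.comul (R := k) y₂) := quotCoact_mk K₁ hKsub y₂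
  rw [h6] at h5
  have h7 : CoalgebraStruct.comul (R := k) y₂ - y₂ ⊗ₜ[k] ψ i.1 ∈
      LinearMap.range (K₁.subtype.rTensor A) := by
    rw [← rTensor_mkQ, LinearMap.mem_ker, map_sub, h5, LinearMap.rTensor_tmul, sub_self]
  obtain ⟨w, hw⟩ := exists_eq_one_tmul_of_mem_range _ h7
  have hcom : CoalgebraStruct.comul (R := k) y₂ = y₂ ⊗ₜ[k] ψ i.1 + (1 : A) ⊗ₜ[k] w := by
    rw [← hw]; abel
  have h8 := Coalgebra.rTensor_counit_comul (R := k) y₂
  rw [hcom, map_add, LinearMap.rTensor_tmul, LinearMap.rTensor_tmul, Bialgebra.counit_one] at h8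
  have h9 := congrArg (TensorProduct.lid k A) h8
  rw [map_add, TensorProduct.lid_tmul, TensorProduct.lid_tmul, TensorProduct.lid_tmul, one_smul,
    one_smul] at h9
  have hw2 : w = y₂ - CoalgebraStruct.counit (R := k) y₂ • ψ i.1 := eq_sub_of_add_eq' h9
  refine ⟨y₂ - CoalgebraStruct.counit (R := k) y₂ • (1 : A), i.1, i.2, ?_, ?_⟩
  · intro hmem
    apply hy₂F
    have h10 : CoalgebraStruct.counit (R := k) y₂ • (1 : A) ∈ F1 ψ :=
      ⟨CoalgebraStruct.counit (R := k) y₂ • 1, by simp⟩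
    have h11 := Submodule.add_mem _ hmem h10
    simpa using h11
  · rw [map_sub, map_smul, hcom, Bialgebra.comul_one, hw2, Algebra.TensorProduct.one_def,
      TensorProduct.sub_tmul, TensorProduct.tmul_sub, TensorProduct.tmul_sub,
      TensorProduct.tmul_smul, ← TensorProduct.smul_tmul', TensorProduct.tmul_smul]
    abel

end Step3

section Main

variable {k A B : Type u} [Field k] [CommRing A] [HopfAlgebra k A] [CommRing B] [HopfAlgebra k B]
  (ψ : B →ₐc[k] A) (J : Ideal A) [J.IsHopfIdeal k]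
  (hJ : J = Ideal.map (ψ : B →+* A) (RingHom.ker (Bialgebra.counitAlgHom k B)))

include hJ in
/-- If `ψ` is not surjective there is a skew-primitive element outside its image. -/
theorem exists_skew (hψ : Function.Injective ψ) (hD : IsDiagonalizable k B)
    (hU : IsUnipotent k (A ⧸ J)) (hns : ¬ Function.Surjective ψ) :
    ∃ (y : A) (g : B), IsGroupLikeElem k g ∧ y ∉ (ψ : B →ₐ[k] A).range ∧
      CoalgebraStruct.comul (R := k) y = y ⊗ₜ[k] ψ g + (1 : A) ⊗ₜ[k] y := by
  obtain ⟨a, ha, hz⟩ := exists_second_layer ψ J hJ hU hns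
  obtain ⟨y, c, hy, hrho⟩ := exists_affine_elt ψ J hJ hψ hD ha hz
  obtain ⟨y₃, g, hg, hy₃, hcom⟩ := exists_skew_of_affine ψ J hJ hψ hD hy hrho
  refine ⟨y₃, g, hg, ?_, hcom⟩
  rintro ⟨b, hb⟩
  exact hy₃ ⟨b, hb⟩

include hJ in
/-- One step of the dévissage: a nonzero Hopf ideal meeting `ψ B` trivially. -/
theorem exists_hopfIdeal [IsAlgClosed k] (hψ : Function.Injective ψ) (hD : IsDiagonalizable k B)
    (hU : IsUnipotent k (A ⧸ J)) (hns : ¬ Function.Surjective ψ) :
    ∃ I : Ideal A, I ≠ ⊥ ∧ I.IsHopfIdeal k ∧ ∀ b : B, ψ b ∈ I → b = 0 := by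
  obtain ⟨y, g, hg, hy, hcom⟩ := exists_skew ψ J hJ hψ hD hU hns
  exact exists_hopfIdeal_of_skew ψ J hJ hg hcom hψ hD hy

end Main

end Groth.Agent.Lib.R2H7.ExtSkew
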