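import Mathlib
import Groth.Agent.Lib.Helper24CubicSec
import Groth.Agent.Lib.Helper29TsenClosed

/-!
# Linear subspaces in hypersurfaces smooth along them

If a form `f` of degree `d ≥ 2` in `n + 1` variables vanishes on a linear subspace `U` and the
hypersurface is smooth along `P(U)`, then `2 dim U ≤ n + 1`: the gradient of `f` along `U` lies in the
annihilator of `U`, of dimension `n + 1 - dim U`, and fewer forms than variables have a common zero.
-/

set_option autoImplicit false
universe u

namespace Groth.Agent.Lib.R2H7.FanoLinear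

open MvPolynomial Groth.Agent.Lib.Helper24CubicSec

variable {k : Type u} [Field k]

theorem isHomogeneous_subst {m n : ℕ} (A : Matrix (Fin m) (Fin n) k) (i : Fin m) :
    (subst A i).IsHomogeneous 1 := by
  unfold subst
  apply IsHomogeneous.sum
  intro j _
  exact isHomogeneous_C_mul_X _ _

theorem two_mul_finrank_le [IsAlgClosed k] (n d : ℕ) (hd : 2 ≤ d)
    (f : MvPolynomial (Fin (n + 1)) k) (hf : f.IsHomogeneous d)
    (U : Submodule k (Fin (n + 1) → k)) (hU : ∀ u ∈ U, MvPolynomial.eval u f = 0)
    (hsm : ∀ u ∈ U, u ≠ 0 → ∃ i : Fin (n + 1),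
      MvPolynomial.eval u (MvPolynomial.pderiv i f) ≠ 0) :
    2 * Module.finrank k ↥U ≤ n + 1 := by
  classical
  by_contra hlt
  rw [not_le] at hlt
  set m := Module.finrank k ↥U with hm
  let b : Module.Basis (Fin m) k ↥U := Module.finBasis k ↥U
  let A : Matrix (Fin (n + 1)) (Fin m) k := fun i a => (b a : Fin (n + 1) → k) i
  have hmul : ∀ w : Fin m → k, A.mulVec w = ((∑ a, w a • b a : ↥U) : Fin (n + 1) → k) := by
    intro w
    ext i
    rw [Submodule.coe_sum, Finset.sum_apply]
    simp only [Matrix.mulVec, dotProduct, A, Submodule.coe_smul, Pi.smul_apply, smul_eq_mul]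
    exact Finset.sum_congr rfl fun a _ => mul_comm _ _
  have hmem : ∀ w : Fin m → k, A.mulVec w ∈ U := by
    intro w
    rw [hmul]
    exact Submodule.coe_mem _
  have hinj : ∀ w : Fin m → k, A.mulVec w = 0 → w = 0 := by
    intro w hw
    rw [hmul] at hw
    have h1 : (∑ a, w a • b a : ↥U) = 0 := Subtype.ext hw
    have h2 := Fintype.linearIndependent_iff.mp b.linearIndependent w h1
    exact funext h2
  -- `f` restricted to `U` vanishes identically
  have hg : aeval (subst A) f = 0 := by
    apply MvPolynomial.funext
    intro w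
    rw [eval_aeval_subst, map_zero]
    exact hU _ (hmem w)
  -- the gradient along `U` is orthogonal to `U`
  have horth : ∀ (w : Fin m → k) (a : Fin m),
      ∑ i, A i a * eval (A.mulVec w) (pderiv i f) = 0 := by
    intro w a
    have h1 := congrArg (fun p => eval w (pderiv a p)) hg
    simp only [map_zero, pderiv_aeval_subst, map_sum, map_mul, eval_C, eval_aeval_subst] at h1
    exact h1
  let grad : (Fin m → k) → (Fin (n + 1) → k) := fun w i => eval (A.mulVec w) (pderiv i f)
  let T : (Fin (n + 1) → k) →ₗ[k] (Fin m → k) := A.transpose.mulVecLin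
  have hgradT : ∀ w, grad w ∈ LinearMap.ker T := by
    intro w
    rw [LinearMap.mem_ker]
    ext a
    simp only [T, Matrix.mulVecLin_apply, Matrix.mulVec, dotProduct, Matrix.transpose_apply,
      Pi.zero_apply, grad]
    exact horth w a
  -- dimension of the kernel
  have hrank : Module.finrank k (LinearMap.range T) = m := by
    have h1 : Module.finrank k (LinearMap.range T) = A.transpose.rank := rfl
    rw [h1, Matrix.rank_transpose]
    have h2 : A.rank = Module.finrank k (LinearMap.range A.mulVecLin) := rfl
    rw [h2]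
    have h3 : Function.Injective A.mulVecLin := by
      rw [injective_iff_map_eq_zero]
      intro w hw
      exact hinj w hw
    rw [LinearMap.finrank_range_of_inj h3, Module.finrank_fin_fun]
  have hker : Module.finrank k (LinearMap.ker T) + m = n + 1 := by
    have := LinearMap.finrank_range_add_finrank_ker T
    rw [hrank, Module.finrank_fin_fun] at this
    omega
  set q := Module.finrank k (LinearMap.ker T) with hq
  have hqm : q < m := by omega
  let c : Module.Basis (Fin q) k (LinearMap.ker T) := Module.finBasis k (LinearMap.ker T)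
  obtain ⟨ρ, hρ⟩ := LinearMap.exists_leftInverse_of_injective (LinearMap.ker T).subtype
    (by rw [LinearMap.ker_eq_bot]; exact Submodule.injective_subtype _)
  let S : (Fin (n + 1) → k) →ₗ[k] (Fin q → k) := c.equivFun.toLinearMap.comp ρ
  have hS : ∀ v ∈ LinearMap.ker T, S v = 0 → v = 0 := by
    intro v hv hSv
    have h1 : ρ v = ⟨v, hv⟩ := by
      have := LinearMap.congr_fun hρ ⟨v, hv⟩
      simpa using this
    have h2 : c.equivFun (ρ v) = 0 := hSv
    rw [LinearEquiv.map_eq_zero_iff, h1] at h2
    exact congrArg Subtype.val h2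
  -- the forms
  let h : Fin q → MvPolynomial (Fin m) k := fun j =>
    ∑ i, C (S (Pi.single i 1) j) * aeval (subst A) (pderiv i f)
  have hh : ∀ j, (h j).IsHomogeneous (d - 1) := by
    intro j
    apply IsHomogeneous.sum
    intro i _
    apply IsHomogeneous.C_mul
    have := (hf.pderiv (i := i)).aeval (subst A) (isHomogeneous_subst A)
    rwa [one_mul] at this
  have heval : ∀ (w : Fin m → k) (j : Fin q), eval w (h j) = S (grad w) j := by
    intro w j
    have h1 : grad w = ∑ i, grad w i • (Pi.single i 1 : Fin (n + 1) → k) := by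
      ext i'
      simp [Finset.sum_apply, Pi.single_apply]
    conv_rhs => rw [h1]
    simp only [h, map_sum, map_mul, eval_C, eval_aeval_subst, map_smul, Finset.sum_apply,
      Pi.smul_apply, smul_eq_mul, grad]
    exact Finset.sum_congr rfl fun i _ => mul_comm _ _
  obtain ⟨w, hw0, hw⟩ := Groth.Agent.Lib.Helper29.TsenLang.isCi_zero_of_isAlgClosed (k := k)
    q m h (fun _ => d - 1) hh (fun _ => by omega) (by simpa using hqm)
  have hgrad0 : grad w = 0 := by
    apply hS _ (hgradT w)
    ext j
    rw [← heval, hw j]
    rfl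
  have hu0 : A.mulVec w ≠ 0 := fun h0 => hw0 (hinj w h0)
  obtain ⟨i, hi⟩ := hsm _ (hmem w) hu0
  exact hi (congrFun hgrad0 i)

end Groth.Agent.Lib.R2H7.FanoLinear
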