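import Mathlib
import Groth.Prelude.Def_SGA3b
import Groth.Agent.Lib.R2H7FormalHom10
import Groth.Agent.Lib.R2H7MTGlue

/-!
# R2H7FormalHom11: tori

* `ZN n`: the group `ℤ^n`, multiplicatively, in universe `u`; `isTorusConst_of_equiv_ZN`,
  `exists_equiv_ZN_of_isTorusConst`.
* `isTorus_of_isTorusConst`.
* `isTorusConst_of_isotrivial_of_point`: a Hopf algebra split by a faithfully flat `S` with type `M`, and split
  by some nontrivial `S₂` with type `ℤ^n`, is a torus of constant rank `n`.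
* `isTorus_of_isotrivial_of_reduction`: if `I` lies in the Jacobson radical, `C` is isotrivial and `C/IC` is a
  torus, then `C` is a torus.
-/

set_option autoImplicit false
universe u

namespace Groth.Agent.Lib.R2H7.FormalHom

open TensorProduct Coalgebra SGA3b Groth.Agent.Lib.Helper25

section Torus

/-- `ℤ^n` as a multiplicative group in universe `u`. -/
abbrev ZN (n : ℕ) : Type u := ULift.{u} (Multiplicative (Fin n → ℤ))

/-- Two bialgebras over the zero ring are isomorphic. -/
noncomputable def bialgEquivOfSubsingleton (R X Y : Type*) [CommSemiring R] [Semiring X] [Semiring Y]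
    [Bialgebra R X] [Bialgebra R Y] [Subsingleton R] : X ≃ₐc[R] Y :=
  haveI : Subsingleton X := Module.subsingleton R X
  haveI : Subsingleton Y := Module.subsingleton R Y
  BialgEquiv.ofBijective ((Bialgebra.unitBialgHom R Y).comp (Bialgebra.counitBialgHom R X))
    ⟨fun _ _ _ => Subsingleton.elim _ _, fun y => ⟨0, Subsingleton.elim _ _⟩⟩

variable (R : Type u) [CommRing R] (H : Type u) [CommRing H] [HopfAlgebra R H]

theorem isTorusConst_of_equiv_ZN (R' : Type u) [CommRing R'] [Algebra R R']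
    [Module.FaithfullyFlat R R'] (n : ℕ)
    (θ : R' ⊗[R] H ≃ₐc[R'] MonoidAlgebra R' (ZN.{u} n)) : IsTorusConst R H :=
  ⟨R', inferInstance, inferInstance, inferInstance, n,
    ⟨θ.trans (MonoidAlgebra.domCongrBialgEquiv R' R' MulEquiv.ulift)⟩⟩

theorem exists_equiv_ZN_of_isTorusConst (h : IsTorusConst R H) :
    ∃ (R' : Type u) (_ : CommRing R') (_ : Algebra R R'), Module.FaithfullyFlat R R' ∧
      ∃ n : ℕ, Nonempty (R' ⊗[R] H ≃ₐc[R'] MonoidAlgebra R' (ZN.{u} n)) := by
  obtain ⟨R', _, _, hff, n, ⟨θ⟩⟩ := h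
  exact ⟨R', inferInstance, inferInstance, hff, n,
    ⟨θ.trans (MonoidAlgebra.domCongrBialgEquiv R' R' MulEquiv.ulift.symm)⟩⟩

attribute [local instance] Algebra.TensorProduct.rightAlgebra in
/-- Constant rank implies locally constant rank. -/
theorem isTorus_of_isTorusConst (h : IsTorusConst R H) : IsTorus R H := by
  obtain ⟨R', _, _, hff, n, ⟨θ⟩⟩ := exists_equiv_ZN_of_isTorusConst R H h
  haveI := hff
  refine ⟨{1}, by simp, ?_⟩
  intro f hf
  rw [Set.mem_singleton_iff] at hf
  subst hf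
  refine isTorusConst_of_equiv_ZN _ _ (Localization.Away (1 : R) ⊗[R] R') n ?_
  exact (BCB.cancelBC R (Localization.Away (1 : R)) (Localization.Away (1 : R) ⊗[R] R') H).trans
    ((BCB.cancelBC R R' (Localization.Away (1 : R) ⊗[R] R') H).symm.trans
      ((BCB.bcEquiv (Localization.Away (1 : R) ⊗[R] R') θ).trans
        (BCB.steBialg R' (Localization.Away (1 : R) ⊗[R] R') (ZN n))))

variable {R H}

/-- A Hopf algebra split by a faithfully flat `S` with type `M` and by a nontrivial `S₂` with type `ℤ^n`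
is a torus of constant rank `n`. -/
theorem isTorusConst_of_isotrivial_of_point
    {S : Type u} [CommRing S] [Algebra R S] [Module.FaithfullyFlat R S]
    {M : Type u} [CommGroup M] (θ : S ⊗[R] H ≃ₐc[S] MonoidAlgebra S M)
    {S₂ : Type u} [CommRing S₂] [Algebra R S₂] [Nontrivial S₂] (n : ℕ)
    (θ₂ : S₂ ⊗[R] H ≃ₐc[S₂] MonoidAlgebra S₂ (ZN.{u} n)) : IsTorusConst R H := by
  haveI : Module.FaithfullyFlat S₂ (S₂ ⊗[R] S) := inferInstance
  haveI : Nontrivial (S₂ ⊗[R] S) :=
    (FaithfulSMul.algebraMap_injective S₂ (S₂ ⊗[R] S)).nontrivial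
  obtain ⟨m, hm⟩ := Ideal.exists_maximal (S₂ ⊗[R] S)
  letI : Field ((S₂ ⊗[R] S) ⧸ m) := Ideal.Quotient.field m
  let t₁ : S →ₐ[R] (S₂ ⊗[R] S) ⧸ m :=
    (Ideal.Quotient.mkₐ R m).comp (Algebra.TensorProduct.includeRight : S →ₐ[R] S₂ ⊗[R] S)
  let t₂ : S₂ →ₐ[R] (S₂ ⊗[R] S) ⧸ m :=
    (Ideal.Quotient.mkₐ R m).comp (Algebra.TensorProduct.includeLeft : S₂ →ₐ[R] S₂ ⊗[R] S)
  obtain ⟨e⟩ := MTGlue.nonempty_mulEquiv_of_points θ θ₂ t₁ t₂
  exact isTorusConst_of_equiv_ZN R H S n (θ.trans (MonoidAlgebra.domCongrBialgEquiv S S e))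

end Torus

section Main

variable (A : Type u) [CommRing A] (I : Ideal A) (C : Type u) [CommRing C] [HopfAlgebra A C]

theorem exists_not_isNilpotent_of_span_eq_top {W : Type*} [CommRing W] [Nontrivial W] (s : Set W)
    (hs : Ideal.span s = ⊤) : ∃ f ∈ s, ¬ IsNilpotent f := by
  by_contra hall
  push Not at hall
  have h1 : Ideal.span s ≤ nilradical W := Ideal.span_le.mpr (fun x hx => by
    exact mem_nilradical.mpr (hall x hx))
  rw [hs, top_le_iff, Ideal.eq_top_iff_one, mem_nilradical] at h1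
  exact not_isNilpotent_one h1

theorem isTorus_of_isotrivial_of_reduction (hI : I ≤ Ideal.jacobson ⊥)
    (hiso : IsIsotrivial A C) (htor : IsTorus (A ⧸ I) ((A ⧸ I) ⊗[A] C)) : IsTorus A C := by
  obtain ⟨S, _, _, -, -, hff, M, _, ⟨θ⟩⟩ := hiso
  haveI := hff
  apply isTorus_of_isTorusConst
  rcases subsingleton_or_nontrivial A with hA | hA
  · haveI : Subsingleton S := Module.subsingleton A S
    exact isTorusConst_of_equiv_ZN A C S 0 (bialgEquivOfSubsingleton S _ _)
  · have hItop : I ≠ ⊤ := by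
      intro h
      rw [h, top_le_iff, Ideal.jacobson_eq_top_iff] at hI
      exact bot_ne_top hI
    haveI : Nontrivial (A ⧸ I) := Ideal.Quotient.nontrivial_iff.mpr hItop
    obtain ⟨s, hs, hloc⟩ := htor
    obtain ⟨f, hf, hnil⟩ := exists_not_isNilpotent_of_span_eq_top s hs
    haveI : Nontrivial (Localization.Away f) := by
      rw [← not_subsingleton_iff_nontrivial,
        IsLocalization.subsingleton_iff (M := Submonoid.powers f)]
      rintro ⟨k, hk⟩
      exact hnil ⟨k, hk⟩
    obtain ⟨R'', _, _, hff'', n, ⟨θ₁⟩⟩ := exists_equiv_ZN_of_isTorusConst _ _ (hloc f hf)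
    haveI := hff''
    haveI : Nontrivial R'' :=
      (FaithfulSMul.algebraMap_injective (Localization.Away f) R'').nontrivial
    letI : Algebra (A ⧸ I) R'' :=
      ((algebraMap (Localization.Away f) R'').comp
        (algebraMap (A ⧸ I) (Localization.Away f))).toAlgebra
    haveI : IsScalarTower (A ⧸ I) (Localization.Away f) R'' :=
      IsScalarTower.of_algebraMap_eq (fun _ => rfl)
    letI : Algebra A R'' :=
      ((algebraMap (A ⧸ I) R'').comp (algebraMap A (A ⧸ I))).toAlgebra
    haveI : IsScalarTower A (A ⧸ I) R'' := IsScalarTower.of_algebraMap_eq (fun _ => rfl)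
    exact isTorusConst_of_isotrivial_of_point θ n
      ((BCB.cancelBC A (A ⧸ I) R'' C).symm.trans
        ((BCB.cancelBC (A ⧸ I) (Localization.Away f) R'' ((A ⧸ I) ⊗[A] C)).symm.trans θ₁))

end Main

end Groth.Agent.Lib.R2H7.FormalHom
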