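import Mathlib
import Groth.Prelude.Def_SGA3b
import Groth.Agent.Lib.R2H7FibH
import Groth.Agent.Lib.R2H7FormalHom11

/-!
# R2H7FibI: groups whose fibres are tori (SGA 3 X 4.8, tori form)

* `exists_field_point_of_isTorus`: a torus over a nontrivial ring is split, with type `ℤ^n`, over some field.
* `isMultType_of_isTorus_field`, `connectedSpace_of_isTorus_field`: a torus over a field is of multiplicative
  type and connected (its Hopf algebra is a domain).
* `isTorus_of_fibres`: a flat finitely presented group whose fibres are tori is a torus.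
-/

set_option autoImplicit false
set_option linter.style.haveILetI false
universe u

namespace Groth.Agent.Lib.R2H7.Fib

open TensorProduct Coalgebra SGA3b IsLocalRing Groth.Agent.Lib.Helper25
  Groth.Agent.Lib.R2H7.FormalHom

section TorusField

instance uniqueProds_ZN (n : ℕ) : UniqueProds (ZN.{u} n) :=
  (MulEquiv.uniqueProds_iff MulEquiv.ulift).mpr inferInstance

theorem isDomain_monoidAlgebra_ZN (K : Type u) [Field K] (n : ℕ) :
    IsDomain (MonoidAlgebra K (ZN.{u} n)) := by
  haveI : NoZeroDivisors (MonoidAlgebra K (ZN.{u} n)) := inferInstance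
  haveI : Nontrivial (MonoidAlgebra K (ZN.{u} n)) := inferInstance
  exact NoZeroDivisors.to_isDomain _

/-- A torus over a nontrivial ring is split, with type `ℤ^n`, over some field. -/
theorem exists_field_point_of_isTorus (W : Type u) [CommRing W] [Nontrivial W] (H : Type u)
    [CommRing H] [HopfAlgebra W H] (h : IsTorus W H) :
    ∃ (K : Type u) (_ : Field K) (_ : Algebra W K) (n : ℕ),
      Nonempty (K ⊗[W] H ≃ₐc[K] MonoidAlgebra K (ZN.{u} n)) := by
  obtain ⟨s, hs, hloc⟩ := h
  obtain ⟨f, hf, hnil⟩ := exists_not_isNilpotent_of_span_eq_top s hs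
  haveI : Nontrivial (Localization.Away f) := by
    rw [← not_subsingleton_iff_nontrivial,
      IsLocalization.subsingleton_iff (M := Submonoid.powers f)]
    rintro ⟨k, hk⟩
    exact hnil ⟨k, hk⟩
  obtain ⟨R'', _, _, hff'', n, ⟨θ₁⟩⟩ := exists_equiv_ZN_of_isTorusConst _ _ (hloc f hf)
  haveI := hff''
  haveI : Nontrivial R'' :=
    (FaithfulSMul.algebraMap_injective (Localization.Away f) R'').nontrivial
  obtain ⟨m, hm⟩ := Ideal.exists_maximal R''
  letI : Field (R'' ⧸ m) := Ideal.Quotient.field m
  letI : Algebra W R'' :=
    ((algebraMap (Localization.Away f) R'').comp (algebraMap W (Localization.Away f))).toAlgebra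
  haveI : IsScalarTower W (Localization.Away f) R'' :=
    IsScalarTower.of_algebraMap_eq (fun _ => rfl)
  refine ⟨R'' ⧸ m, inferInstance, inferInstance, n, ⟨?_⟩⟩
  exact (BCB.cancelBC W R'' (R'' ⧸ m) H).symm.trans
    ((BCB.bcEquiv (R'' ⧸ m) ((BCB.cancelBC W (Localization.Away f) R'' H).symm.trans θ₁)).trans
      (BCB.steBialg R'' (R'' ⧸ m) (ZN n)))

variable (κ : Type u) [Field κ] (H : Type u) [CommRing H] [HopfAlgebra κ H]

/-- A torus over a field is of multiplicative type. -/
theorem isMultType_of_isTorus_field (h : IsTorus κ H) : IsMultType κ H := by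
  obtain ⟨K, _, _, n, ⟨θ⟩⟩ := exists_field_point_of_isTorus κ H h
  haveI : Module.FaithfullyFlat κ K := inferInstance
  exact BCB.isMultType_of_isMultTypeConst _ _
    ⟨K, inferInstance, inferInstance, inferInstance, ZN n, inferInstance, ⟨θ⟩⟩

/-- The Hopf algebra of a torus over a field is a domain. -/
theorem isDomain_of_isTorus_field (h : IsTorus κ H) : IsDomain H := by
  obtain ⟨K, _, _, n, ⟨θ⟩⟩ := exists_field_point_of_isTorus κ H h
  haveI := isDomain_monoidAlgebra_ZN K n
  have hinj : Function.Injective (Algebra.TensorProduct.includeRight : H →ₐ[κ] K ⊗[κ] H) :=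
    Algebra.TensorProduct.includeRight_injective (algebraMap κ K).injective
  let g : H →+* MonoidAlgebra K (ZN.{u} n) :=
    ((θ : K ⊗[κ] H →ₐ[K] MonoidAlgebra K (ZN.{u} n)) : K ⊗[κ] H →+* _).comp
      (Algebra.TensorProduct.includeRight : H →ₐ[κ] K ⊗[κ] H).toRingHom
  have hg : Function.Injective g := fun x y hxy => hinj (θ.injective hxy)
  exact Function.Injective.isDomain g hg

/-- A torus over a field is connected. -/
theorem connectedSpace_of_isTorus_field (h : IsTorus κ H) :
    ConnectedSpace (PrimeSpectrum H) := by
  haveI := isDomain_of_isTorus_field κ H h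
  infer_instance

end TorusField

section Main

variable (R : Type u) [CommRing R] (A : Type u) [CommRing A] [HopfAlgebra R A]

/-- A constant-type group of multiplicative type with one torus fibre is a torus of constant rank. -/
theorem isTorusConst_of_isMultTypeConst_of_point {W : Type u} [CommRing W] {H : Type u}
    [CommRing H] [HopfAlgebra W H] (h : IsMultTypeConst W H)
    {S₂ : Type u} [CommRing S₂] [Algebra W S₂] [Nontrivial S₂] (n : ℕ)
    (θ₂ : S₂ ⊗[W] H ≃ₐc[S₂] MonoidAlgebra S₂ (ZN.{u} n)) : IsTorusConst W H := by
  obtain ⟨S, _, _, hff, M, _, ⟨θ⟩⟩ := h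
  haveI := hff
  exact isTorusConst_of_isotrivial_of_point θ n θ₂

/-- Over a basic open `D(f)` on which `A` is of multiplicative type of constant type, `A` is a torus of
constant rank as soon as all fibres of `A` are tori. -/
theorem isTorusConst_away_of_fibres
    (hfib : ∀ (p : Ideal R) [p.IsPrime], IsTorus p.ResidueField (p.ResidueField ⊗[R] A)) (f : R)
    (hc : IsMultTypeConst (Localization.Away f) (Localization.Away f ⊗[R] A)) :
    IsTorusConst (Localization.Away f) (Localization.Away f ⊗[R] A) := by
  rcases subsingleton_or_nontrivial (Localization.Away f) with hA | hA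
  · exact isTorusConst_of_equiv_ZN _ _ (Localization.Away f) 0 (bialgEquivOfSubsingleton _ _ _)
  · obtain ⟨P, hP⟩ := Ideal.exists_maximal (Localization.Away f)
    haveI : P.IsPrime := hP.isPrime
    haveI hp : (P.comap (algebraMap R (Localization.Away f))).IsPrime := Ideal.comap_isPrime _ _
    set p : Ideal R := P.comap (algebraMap R (Localization.Away f)) with hpdef
    have hfp : f ∉ p := by
      intro hmem
      have h1 : algebraMap R (Localization.Away f) f ∈ P := hmem
      exact hP.ne_top (Ideal.eq_top_of_isUnit_mem _ h1 (IsLocalization.Away.algebraMap_isUnit f))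
    obtain ⟨K, _, _, n, ⟨θ⟩⟩ :=
      exists_field_point_of_isTorus p.ResidueField (p.ResidueField ⊗[R] A) (hfib p)
    have hunit : IsUnit (algebraMap R p.ResidueField f) := by
      rw [isUnit_iff_ne_zero, Ne, Ideal.algebraMap_residueField_eq_zero]
      exact hfp
    letI : Algebra R K :=
      ((algebraMap p.ResidueField K).comp (algebraMap R p.ResidueField)).toAlgebra
    haveI : IsScalarTower R p.ResidueField K := IsScalarTower.of_algebraMap_eq (fun _ => rfl)
    have hunitK : IsUnit (algebraMap R K f) := by
      rw [IsScalarTower.algebraMap_apply R p.ResidueField K]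
      exact hunit.map _
    letI : Algebra (Localization.Away f) K :=
      (IsLocalization.Away.lift (S := Localization.Away f) f hunitK).toAlgebra
    haveI : IsScalarTower R (Localization.Away f) K :=
      IsScalarTower.of_algebraMap_eq (fun r => (IsLocalization.Away.lift_eq f hunitK r).symm)
    exact isTorusConst_of_isMultTypeConst_of_point hc n
      ((BCB.cancelBC R (Localization.Away f) K A).trans
        ((BCB.cancelBC R p.ResidueField K A).symm.trans θ))

/-- **SGA 3 X 4.8 (tori)**: a flat finitely presented group whose fibres are tori is a torus. -/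
theorem isTorus_of_fibres [Module.Flat R A] (hfp : Algebra.FinitePresentation R A)
    (hfib : ∀ (p : Ideal R) [p.IsPrime], IsTorus p.ResidueField (p.ResidueField ⊗[R] A)) :
    IsTorus R A := by
  have hfib' : ∀ (p : Ideal R) [p.IsPrime],
      IsMultType p.ResidueField (p.ResidueField ⊗[R] A) ∧
        ConnectedSpace (PrimeSpectrum (p.ResidueField ⊗[R] A)) :=
    fun p _ => ⟨isMultType_of_isTorus_field _ _ (hfib p),
      connectedSpace_of_isTorus_field _ _ (hfib p)⟩
  obtain ⟨s, hs, hloc⟩ := isQuasiIsotrivial_of_connected_fibres R A hfp hfib'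
  refine ⟨s, hs, fun f hf => ?_⟩
  exact isTorusConst_away_of_fibres R A hfib f
    (Groth.Agent.Lib.R2H7.HomLift.isMultTypeConst_of_isQuasiIsotrivialConst (hloc f hf))

end Main

end Groth.Agent.Lib.R2H7.Fib
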