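import Mathlib
import Groth.Prelude.Def_SGA3b
import Groth.Agent.Lib.R2H7FibH
import Groth.Agent.Lib.R2H7HensFinA

/-!
# R2H7FibJ: over a henselian local ring, groups of multiplicative type and of finite type are isotrivial
(SGA 3 X 4.6 in Hopf form)

* `isQuasiIsotrivialConst_of_isLocalRing`: over a local ring quasi-isotrivial groups have constant type.
* `isIsotrivial_of_isQuasiIsotrivialConst`: over a henselian local ring an etale covering contains a finite
  etale local one.
* `isIsotrivial_of_henselian`.
-/

set_option autoImplicit false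
set_option linter.style.haveILetI false
universe u

namespace Groth.Agent.Lib.R2H7.Fib

open TensorProduct Coalgebra SGA3b IsLocalRing Groth.Agent.Lib.Helper25

section Local

variable {R : Type u} [CommRing R] [IsLocalRing R] {A : Type u} [CommRing A] [HopfAlgebra R A]

/-- Over a local ring, a quasi-isotrivial group has constant type. -/
theorem isQuasiIsotrivialConst_of_isLocalRing (h : IsQuasiIsotrivial R A) :
    IsQuasiIsotrivialConst R A := by
  obtain ⟨s, hs, hmt⟩ := h
  obtain ⟨f, hfs, hfu⟩ : ∃ f ∈ s, IsUnit f := by
    by_contra hall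
    push Not at hall
    have h1 : Ideal.span s ≤ IsLocalRing.maximalIdeal R :=
      Ideal.span_le.mpr (fun x hx => (IsLocalRing.mem_maximalIdeal x).mpr (hall x hx))
    rw [hs] at h1
    exact (IsLocalRing.maximalIdeal.isMaximal R).ne_top (top_le_iff.mp h1)
  obtain ⟨R', _, _, het, hff, hD⟩ := hmt f hfs
  haveI := hff
  haveI := het
  letI : Algebra R R' :=
    ((algebraMap (Localization.Away f) R').comp (algebraMap R (Localization.Away f))).toAlgebra
  haveI : IsScalarTower R (Localization.Away f) R' := IsScalarTower.of_algebraMap_eq (fun _ => rfl)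
  haveI : Module.FaithfullyFlat R (Localization.Away f) := by
    have e : R ≃ₐ[R] Localization.Away f :=
      IsLocalization.atUnits R (Submonoid.powers f) (by
        rintro x ⟨k, rfl⟩
        exact hfu.pow k)
    exact Module.FaithfullyFlat.of_linearEquiv R R e.symm.toLinearEquiv
  haveI : Module.FaithfullyFlat R R' := Module.FaithfullyFlat.trans R (Localization.Away f) R'
  haveI : Algebra.Etale R (Localization.Away f) := Algebra.Etale.of_isLocalizationAway f
  haveI : Algebra.Etale R R' := Algebra.Etale.comp R (Localization.Away f) R'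
  exact ⟨R', inferInstance, inferInstance, inferInstance, inferInstance,
    BCB.isDiag_of_equiv (BCB.cancelBC R (Localization.Away f) R' A).symm hD⟩

end Local

section Hens

variable (R : Type u) [CommRing R] [HenselianLocalRing R] (A : Type u) [CommRing A]
  [HopfAlgebra R A]

/-- The closed fibre of an etale algebra over a local ring is finite. -/
theorem finite_quotient_map_maximalIdeal_of_etale (R' : Type u) [CommRing R'] [Algebra R R']
    [Algebra.Etale R R'] :
    Module.Finite R (R' ⧸ (maximalIdeal R).map (algebraMap R R')) := by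
  haveI : Algebra.EssFiniteType (ResidueField R) (ResidueField R ⊗[R] R') := inferInstance
  haveI : Algebra.FormallyUnramified (ResidueField R) (ResidueField R ⊗[R] R') := inferInstance
  haveI : Module.Finite (ResidueField R) (ResidueField R ⊗[R] R') :=
    Algebra.FormallyUnramified.finite_of_free (ResidueField R) (ResidueField R ⊗[R] R')
  haveI : Module.Finite R (ResidueField R) :=
    Module.Finite.of_surjective (Algebra.linearMap R (ResidueField R))
      IsLocalRing.residue_surjective
  haveI : Module.Finite R (ResidueField R ⊗[R] R') :=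
    Module.Finite.trans (ResidueField R) _
  let g : ResidueField R →ₐ[R] R' ⧸ (maximalIdeal R).map (algebraMap R R') :=
    Ideal.Quotient.liftₐ (maximalIdeal R)
      (Algebra.ofId R (R' ⧸ (maximalIdeal R).map (algebraMap R R'))) (fun a ha => by
        rw [Algebra.ofId_apply, IsScalarTower.algebraMap_apply R R'
          (R' ⧸ (maximalIdeal R).map (algebraMap R R')), Ideal.Quotient.algebraMap_eq,
          Ideal.Quotient.eq_zero_iff_mem]
        exact Ideal.mem_map_of_mem _ ha)
  let ψ : ResidueField R ⊗[R] R' →ₐ[R] R' ⧸ (maximalIdeal R).map (algebraMap R R') :=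
    Algebra.TensorProduct.lift g
      (Ideal.Quotient.mkₐ R ((maximalIdeal R).map (algebraMap R R'))) (fun _ _ => Commute.all _ _)
  have hψ : Function.Surjective ψ := by
    intro y
    obtain ⟨s, rfl⟩ := Ideal.Quotient.mk_surjective y
    exact ⟨1 ⊗ₜ s, by simp [ψ]⟩
  exact Module.Finite.of_surjective ψ.toLinearMap hψ

/-- Over a henselian local ring, a quasi-isotrivial group of constant type is isotrivial. -/
theorem isIsotrivial_of_isQuasiIsotrivialConst (h : IsQuasiIsotrivialConst R A) :
    IsIsotrivial R A := by
  obtain ⟨R', _, _, het, hff, hD⟩ := h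
  haveI := het
  haveI := hff
  have hfin := finite_quotient_map_maximalIdeal_of_etale R R'
  obtain ⟨f, hfi, hfm, hfinf⟩ := Groth.Agent.Lib.R2H7.HensFin.exists_idem_finite_part R R' hfin
  have hef : (1 : R') - (1 - f) = f := sub_sub_cancel 1 f
  have he : IsIdempotentElem ((1 : R') - f) := hfi.one_sub
  have hfin1 : Module.Finite R (R' ⧸ Ideal.span {(1 : R') - (1 - f)}) := hef.symm ▸ hfinf
  haveI hloc : IsLocalization.Away ((1 : R') - f) (R' ⧸ Ideal.span {(1 : R') - (1 - f)}) :=
    IsLocalization.Away.quotient_of_isIdempotentElem he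
  haveI : Algebra.Etale R' (R' ⧸ Ideal.span {(1 : R') - (1 - f)}) :=
    Algebra.Etale.of_isLocalizationAway ((1 : R') - f)
  haveI : Algebra.Etale R (R' ⧸ Ideal.span {(1 : R') - (1 - f)}) :=
    Algebra.Etale.comp R R' _
  haveI : Module.Flat R (R' ⧸ Ideal.span {(1 : R') - (1 - f)}) := inferInstance
  have hne : (maximalIdeal R).map (algebraMap R R') ≠ ⊤ := by
    intro htop
    have h1 := Module.FaithfullyFlat.submodule_ne_top (R := R) (M := R')
      (IsLocalRing.maximalIdeal.isMaximal R)
    apply h1
    rw [Ideal.smul_top_eq_map, htop]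
    rfl
  haveI : Module.FaithfullyFlat R (R' ⧸ Ideal.span {(1 : R') - (1 - f)}) := by
    refine ⟨fun m hm => ?_⟩
    have hm' : m = maximalIdeal R := IsLocalRing.eq_maximalIdeal hm
    subst hm'
    intro htop
    apply hne
    have h1 : (1 : R' ⧸ Ideal.span {(1 : R') - (1 - f)}) ∈
        (maximalIdeal R • ⊤ : Submodule R (R' ⧸ Ideal.span {(1 : R') - (1 - f)})) := by
      rw [htop]
      exact Submodule.mem_top
    rw [Ideal.smul_top_eq_map] at h1
    have h2 : (1 : R' ⧸ Ideal.span {(1 : R') - (1 - f)}) ∈
        Ideal.map (algebraMap R (R' ⧸ Ideal.span {(1 : R') - (1 - f)})) (maximalIdeal R) := h1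
    rw [IsScalarTower.algebraMap_eq R R' (R' ⧸ Ideal.span {(1 : R') - (1 - f)}),
      ← Ideal.map_map, Ideal.Quotient.algebraMap_eq,
      Ideal.mem_map_iff_of_surjective _ Ideal.Quotient.mk_surjective] at h2
    obtain ⟨x, hx, hx1⟩ := h2
    have h3 : x - 1 ∈ Ideal.span {(1 : R') - (1 - f)} := by
      rw [← Ideal.Quotient.eq_zero_iff_mem, map_sub, hx1, map_one, sub_self]
    rw [hef, Ideal.mem_span_singleton'] at h3
    obtain ⟨a, ha⟩ := h3
    rw [Ideal.eq_top_iff_one]
    have h4 : (1 : R') = x - a * f := by rw [ha]; ring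
    rw [h4]
    exact Ideal.sub_mem _ hx (Ideal.mul_mem_left _ a hfm)
  exact ⟨R' ⧸ Ideal.span {(1 : R') - (1 - f)}, inferInstance, inferInstance, inferInstance,
    hfin1, inferInstance, BCB.isDiag_baseChange_of_tower R A R' _ hD⟩

/-- **SGA 3 X 4.6**: over a henselian local ring, a group of multiplicative type and of finite type is
isotrivial. -/
theorem isIsotrivial_of_henselian (hft : Algebra.FiniteType R A) (h : IsMultType R A) :
    IsIsotrivial R A :=
  isIsotrivial_of_isQuasiIsotrivialConst R A
    (isQuasiIsotrivialConst_of_isLocalRing (isQuasiIsotrivial_of_isMultType R A hft h))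

end Hens

end Groth.Agent.Lib.R2H7.Fib
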