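import Mathlib
import Groth.Agent.Lib.R2H7FibL
import Groth.Agent.Lib.Helper25FlatBC
import Groth.Agent.Lib.Helper3FlatOpenFP
import Groth.Agent.Lib.Helper3FlatLocA
import Groth.Agent.Lib.Helper26FlatLimA
import Groth.Agent.Lib.R2H4IntInjFlat

/-!
# R2H7FibM: descent of flatness along a closed subset to a model of finite type over `ℤ`

`FlatAlong R I C`: the `R`-algebra `C` is flat over `R` at all the primes of `C` containing `I C`.

* `FlatAlong.of_isPushout`, `FlatAlong.baseChange`, `FlatAlong.of_algEquiv`: stability.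
* `exists_away_flat`: for `C` of finite presentation, `FlatAlong R I C` gives `t ∈ 1 + I C` with `C[1/t]` flat over `R`
  (openness of the flat locus).
* `flatAlong_of_away`: conversely.
* `exists_flatAlong_model` (EGA IV 11.2.6 in the present setting): `R₁` of finite type over `ℤ`, `A₁` of finite type over
  `R₁`, `R` an `R₁`-algebra and `I` an ideal of `R` with `FlatAlong R I (R ⊗ A₁)`.  Then there is a factorisation
  `R₁ → R₃ → R` with `R₃` of finite type over `ℤ` and `FlatAlong R₃ (I ∩ R₃) (R₃ ⊗ A₁)`.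
-/

set_option autoImplicit false
set_option linter.style.haveILetI false
universe u

namespace Groth.Agent.Lib.R2H7.Fib

open TensorProduct

/-- `C` is flat over `R` at the primes of `C` containing `I C`. -/
def FlatAlong (R : Type u) [CommRing R] (I : Ideal R) (C : Type u) [CommRing C] [Algebra R C] :
    Prop :=
  ∀ (q : Ideal C) [q.IsPrime], Ideal.map (algebraMap R C) I ≤ q →
    Module.Flat R (Localization.AtPrime q)

section Stab

theorem FlatAlong.of_isPushout (R S R' T : Type u) [CommRing R] [CommRing S] [CommRing R']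
    [CommRing T] [Algebra R S] [Algebra R R'] [Algebra R T] [Algebra S T] [Algebra R' T]
    [IsScalarTower R S T] [IsScalarTower R R' T] [Algebra.IsPushout R R' S T]
    (I : Ideal R) (J : Ideal R') (hIJ : I.map (algebraMap R R') ≤ J) (h : FlatAlong R I S) :
    FlatAlong R' J T := by
  intro q hq hle
  apply Groth.Agent.Lib.Helper25.FlatBC.flat_localization_of_isPushout R S R' T q
  apply h
  rw [Ideal.map_le_iff_le_comap]
  intro a ha
  rw [Ideal.mem_comap, Ideal.mem_comap]
  apply hle
  rw [← IsScalarTower.algebraMap_apply R S T, IsScalarTower.algebraMap_apply R R' T]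
  exact Ideal.mem_map_of_mem _ (hIJ (Ideal.mem_map_of_mem _ ha))

attribute [local instance] Algebra.TensorProduct.rightAlgebra in
theorem FlatAlong.baseChange {R : Type u} [CommRing R] {I : Ideal R} {S : Type u} [CommRing S]
    [Algebra R S] (R' : Type u) [CommRing R'] [Algebra R R'] (J : Ideal R')
    (hIJ : I.map (algebraMap R R') ≤ J) (h : FlatAlong R I S) : FlatAlong R' J (R' ⊗[R] S) :=
  FlatAlong.of_isPushout R S R' (R' ⊗[R] S) I J hIJ h

theorem FlatAlong.of_algEquiv {R : Type u} [CommRing R] {I : Ideal R} {S T : Type u} [CommRing S]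
    [CommRing T] [Algebra R S] [Algebra R T] (e : S ≃ₐ[R] T) (h : FlatAlong R I S) :
    FlatAlong R I T := by
  letI : Algebra S T := (e : S →+* T).toAlgebra
  haveI : IsScalarTower R S T := IsScalarTower.of_algebraMap_eq (fun x => (e.commutes x).symm)
  haveI : Algebra.IsPushout R R S T := ⟨IsBaseChange.ofEquiv e.toLinearEquiv⟩
  refine FlatAlong.of_isPushout R S R T I I ?_ h
  rw [Algebra.algebraMap_self, Ideal.map_id]

end Stab

section Away

open Groth.Agent.Lib.Helper3.FlatLoc in
/-- If `M` is flat over `R` at all primes of `S` not containing `c`, then `M[1/c]` is flat over `R`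
(copied from `H9NzdFibre`). -/
theorem flat_away_of_forall_prime' {R S M : Type*} [CommRing R] [CommRing S] [Algebra R S]
    [AddCommGroup M] [Module R M] [Module S M] [IsScalarTower R S M] (c : S)
    (h : ∀ r : Ideal S, ∀ _ : r.IsPrime, c ∉ r →
      Module.Flat R (LocalizedModule r.primeCompl M)) :
    Module.Flat R (LocalizedModule (Submonoid.powers c) M) := by
  rw [flat_localizedModule_iff']
  intro I z hz
  by_contra hcon
  push_neg at hcon
  have hdisj : Disjoint ((Ideal.torsionOf S (M ⊗[R] I) z : Ideal S) : Set S)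
      (Submonoid.powers c : Set S) := by
    rw [Set.disjoint_left]
    intro s hs hsc
    exact hcon s hsc ((Ideal.mem_torsionOf_iff _ _).mp hs)
  obtain ⟨Q, hQp, hQ, hQd⟩ := Ideal.exists_le_prime_disjoint _ _ hdisj
  have hcQ : c ∉ Q := fun hc =>
    Set.disjoint_left.mp hQd hc (Submonoid.mem_powers c)
  have hflat := h Q hQp hcQ
  rw [flat_localizedModule_iff'] at hflat
  obtain ⟨t, ht, htz⟩ := hflat I z hz
  exact ht (hQ ((Ideal.mem_torsionOf_iff _ _).mpr htz))

theorem flat_atPrime_iff {R : Type u} [CommRing R] {C : Type u} [CommRing C] [Algebra R C]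
    (q : Ideal C) [q.IsPrime] :
    Module.Flat R (LocalizedModule q.primeCompl C) ↔ Module.Flat R (Localization.AtPrime q) := by
  constructor
  · intro h
    exact Module.Flat.of_linearEquiv ((IsLocalizedModule.iso q.primeCompl
      (Algebra.linearMap C (Localization.AtPrime q))).restrictScalars R).symm
  · intro h
    exact Module.Flat.of_linearEquiv ((IsLocalizedModule.iso q.primeCompl
      (Algebra.linearMap C (Localization.AtPrime q))).restrictScalars R)

/-- Flatness along `V(I C)` spreads to a principal open neighbourhood. -/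
theorem exists_away_flat {R : Type u} [CommRing R] (I : Ideal R) {C : Type u} [CommRing C]
    [Algebra R C] [Algebra.FinitePresentation R C] (h : FlatAlong R I C) :
    ∃ t : C, t - 1 ∈ I.map (algebraMap R C) ∧ Module.Flat R (Localization.Away t) := by
  have hopen := Groth.Agent.Lib.Helper3.FlatOpen.isOpen_flatLocus_of_finitePresentation
    (R := R) (S := C) (M := C)
  obtain ⟨J, hJ⟩ := (PrimeSpectrum.isClosed_iff_zeroLocus_ideal _).mp hopen.isClosed_compl
  have hJ' : ∀ q : PrimeSpectrum C, q ∈ PrimeSpectrum.zeroLocus (J : Set C) ↔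
      ¬ Module.Flat R (LocalizedModule q.asIdeal.primeCompl C) := by
    intro q
    rw [← hJ]
    rfl
  have hdisj : PrimeSpectrum.zeroLocus ((J ⊔ I.map (algebraMap R C) : Ideal C) : Set C) = ∅ := by
    rw [PrimeSpectrum.zeroLocus_sup]
    ext q
    simp only [Set.mem_inter_iff, Set.mem_empty_iff_false, iff_false, not_and]
    intro hq1 hq2
    apply (hJ' q).mp hq1
    rw [flat_atPrime_iff]
    exact h q.asIdeal hq2
  have htop : J ⊔ I.map (algebraMap R C) = ⊤ := PrimeSpectrum.zeroLocus_empty_iff_eq_top.mp hdisj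
  have h1 : (1 : C) ∈ J ⊔ I.map (algebraMap R C) := by
    rw [htop]
    exact Submodule.mem_top
  obtain ⟨a, ha, b, hb, hab⟩ := Submodule.mem_sup.mp h1
  refine ⟨a, ?_, ?_⟩
  · have h2 : a - 1 = -b := by
      rw [← hab]
      ring
    rw [h2]
    exact neg_mem hb
  · have h3 : Module.Flat R (LocalizedModule (Submonoid.powers a) C) := by
      apply flat_away_of_forall_prime'
      intro r hr har
      by_contra hnf
      have h4 : (⟨r, hr⟩ : PrimeSpectrum C) ∈ PrimeSpectrum.zeroLocus (J : Set C) :=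
        (hJ' ⟨r, hr⟩).mpr hnf
      exact har (h4 ha)
    exact Module.Flat.of_linearEquiv ((IsLocalizedModule.iso (Submonoid.powers a)
      (Algebra.linearMap C (Localization.Away a))).restrictScalars R).symm

/-- Flatness of a principal open neighbourhood of `V(I C)` gives flatness along `V(I C)`. -/
theorem flatAlong_of_away {R : Type u} [CommRing R] (I : Ideal R) {C : Type u} [CommRing C]
    [Algebra R C] (t : C) (ht : t - 1 ∈ I.map (algebraMap R C))
    (hfl : Module.Flat R (Localization.Away t)) : FlatAlong R I C := by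
  intro q hq hle
  have htq : t ∉ q := by
    intro h
    apply hq.ne_top
    rw [Ideal.eq_top_iff_one]
    have h1 : (1 : C) = t - (t - 1) := by ring
    rw [h1]
    exact sub_mem h (hle ht)
  have hle' : Submonoid.powers t ≤ q.primeCompl := by
    rintro _ ⟨n, rfl⟩ hmem
    exact htq (hq.mem_of_pow_mem n hmem)
  letI : Algebra (Localization.Away t) (Localization.AtPrime q) :=
    IsLocalization.localizationAlgebraOfSubmonoidLe (Localization.Away t)
      (Localization.AtPrime q) (Submonoid.powers t) q.primeCompl hle'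
  haveI : IsScalarTower C (Localization.Away t) (Localization.AtPrime q) :=
    IsLocalization.localization_isScalarTower_of_submonoid_le _ _ _ _ hle'
  haveI : IsLocalization (q.primeCompl.map (algebraMap C (Localization.Away t)))
      (Localization.AtPrime q) :=
    IsLocalization.isLocalization_of_submonoid_le (Localization.Away t) _ _ _ hle'
  haveI : Module.Flat (Localization.Away t) (Localization.AtPrime q) :=
    IsLocalization.flat _ (q.primeCompl.map (algebraMap C (Localization.Away t)))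
  haveI : IsScalarTower R (Localization.Away t) (Localization.AtPrime q) := by
    refine IsScalarTower.of_algebraMap_eq fun x => ?_
    rw [IsScalarTower.algebraMap_apply R C (Localization.AtPrime q),
      IsScalarTower.algebraMap_apply R C (Localization.Away t),
      ← IsScalarTower.algebraMap_apply C (Localization.Away t) (Localization.AtPrime q)]
  exact Module.Flat.trans R (Localization.Away t) (Localization.AtPrime q)

end Away

section Descend

/-- An element of `R ⊗ A₁` congruent to `1` modulo `I (R ⊗ A₁)` comes from such an element over a finitely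
generated subalgebra of `R`. -/
theorem exists_descend_elt (R₁ R : Type u) [CommRing R₁] [CommRing R] [Algebra R₁ R] (I : Ideal R)
    (A₁ : Type u) [CommRing A₁] [Algebra R₁ A₁] (t : R ⊗[R₁] A₁)
    (ht : t - 1 ∈ I.map (algebraMap R (R ⊗[R₁] A₁))) :
    ∃ (s : Finset R) (t₂ : Algebra.adjoin R₁ (s : Set R) ⊗[R₁] A₁),
      Algebra.TensorProduct.map (Algebra.adjoin R₁ (s : Set R)).val (AlgHom.id R₁ A₁) t₂ = t ∧
      t₂ - 1 ∈ (I.comap (algebraMap (Algebra.adjoin R₁ (s : Set R)) R)).map
        (algebraMap (Algebra.adjoin R₁ (s : Set R)) (Algebra.adjoin R₁ (s : Set R) ⊗[R₁] A₁)) := by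
  classical
  have h1 : t - 1 ∈ LinearMap.range
      (LinearMap.rTensor A₁ (Submodule.subtype (I.restrictScalars R₁))) := by
    rw [← Ideal.map_includeLeft_eq]
    exact ht
  obtain ⟨z, hz⟩ := h1
  obtain ⟨S, hS⟩ := TensorProduct.exists_finset z
  let s : Finset R := S.image (fun p => ((p.1 : I.restrictScalars R₁) : R))
  have hmem : ∀ p ∈ S, ((p.1 : I.restrictScalars R₁) : R) ∈ Algebra.adjoin R₁ (s : Set R) := by
    intro p hp
    apply Algebra.subset_adjoin
    rw [Finset.mem_coe, Finset.mem_image]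
    exact ⟨p, hp, rfl⟩
  let w : Algebra.adjoin R₁ (s : Set R) ⊗[R₁] A₁ :=
    ∑ p ∈ S.attach, (⟨((p.1.1 : I.restrictScalars R₁) : R), hmem p.1 p.2⟩ :
      Algebra.adjoin R₁ (s : Set R)) ⊗ₜ[R₁] p.1.2
  refine ⟨s, 1 + w, ?_, ?_⟩
  · have h2 : t = 1 + (t - 1) := by ring
    rw [map_add, map_one, h2, ← hz, hS, map_sum, map_sum]
    congr 1
    rw [← Finset.sum_attach S]
    apply Finset.sum_congr rfl
    intro p _
    rfl
  · rw [add_sub_cancel_left]
    apply Ideal.sum_mem
    intro p _
    have h3 : (⟨((p.1.1 : I.restrictScalars R₁) : R), hmem p.1 p.2⟩ :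
        Algebra.adjoin R₁ (s : Set R)) ⊗ₜ[R₁] p.1.2 =
        algebraMap (Algebra.adjoin R₁ (s : Set R)) (Algebra.adjoin R₁ (s : Set R) ⊗[R₁] A₁)
          ⟨((p.1.1 : I.restrictScalars R₁) : R), hmem p.1 p.2⟩ *
          ((1 : Algebra.adjoin R₁ (s : Set R)) ⊗ₜ[R₁] p.1.2) := by
      rw [Algebra.TensorProduct.algebraMap_apply, Algebra.algebraMap_self_apply,
        Algebra.TensorProduct.tmul_mul_tmul, mul_one, one_mul]
    rw [h3]
    apply Ideal.mul_mem_right
    apply Ideal.mem_map_of_mem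
    rw [Ideal.mem_comap]
    exact p.1.1.2

/-- Flatness of a principal open of the base change descends to a finitely generated subalgebra. -/
theorem exists_stage_flat_away (R₂ R : Type u) [CommRing R₂] [CommRing R] [Algebra R₂ R]
    (A₂ : Type u) [CommRing A₂] [Algebra R₂ A₂] [Algebra.FinitePresentation R₂ A₂] (t₂ : A₂)
    (h : Module.Flat R (Localization.Away ((1 : R) ⊗ₜ[R₂] t₂))) :
    ∃ u : Finset R, Module.Flat (Algebra.adjoin R₂ (u : Set R))
      (Localization.Away ((1 : Algebra.adjoin R₂ (u : Set R)) ⊗ₜ[R₂] t₂)) := by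
  haveI : Algebra.FinitePresentation R₂ (Localization.Away t₂) :=
    Algebra.FinitePresentation.trans R₂ A₂ (Localization.Away t₂)
  have hflat : Module.Flat R (R ⊗[R₂] Localization.Away t₂) :=
    Module.Flat.of_linearEquiv
      (IsLocalization.Away.tensorProductEquivTMulRight R₂ R t₂
        (Localization.Away t₂)).toLinearEquiv
  obtain ⟨u, hu⟩ := Groth.Agent.Lib.Helper26.FlatLim.Sys.flat_stage'
    (Groth.Agent.Lib.R2H4.IntInjFlat.sys_adjoin R₂ R) (Localization.Away t₂)
    (Localization.Away t₂) hflat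
  exact ⟨u, Module.Flat.of_linearEquiv
    (IsLocalization.Away.tensorProductEquivTMulRight R₂ (Algebra.adjoin R₂ (u : Set R)) t₂
      (Localization.Away t₂)).symm.toLinearEquiv⟩

end Descend

section Main

theorem cancelBaseChange_one_tmul (R₁ R₂ R : Type u) [CommRing R₁] [CommRing R₂] [CommRing R]
    [Algebra R₁ R₂] [Algebra R₁ R] [Algebra R₂ R] [IsScalarTower R₁ R₂ R]
    (A₁ : Type u) [CommRing A₁] [Algebra R₁ A₁] (z : R₂ ⊗[R₁] A₁) :
    Algebra.TensorProduct.cancelBaseChange R₁ R₂ R R A₁ ((1 : R) ⊗ₜ[R₂] z) =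
      Algebra.TensorProduct.map (IsScalarTower.toAlgHom R₁ R₂ R) (AlgHom.id R₁ A₁) z := by
  induction z using TensorProduct.induction_on with
  | zero => rw [tmul_zero, map_zero, map_zero]
  | tmul r a =>
    rw [Algebra.TensorProduct.cancelBaseChange_tmul, Algebra.TensorProduct.map_tmul,
      Algebra.smul_def, mul_one]
    rfl
  | add x y hx hy => rw [tmul_add, map_add, map_add, hx, hy]

/-- Transfer of flatness of a principal open along the cancellation isomorphism. -/
theorem flat_away_one_tmul (R₁ R₂ R : Type u) [CommRing R₁] [CommRing R₂] [CommRing R]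
    [Algebra R₁ R₂] [Algebra R₁ R] [Algebra R₂ R] [IsScalarTower R₁ R₂ R]
    (A₁ : Type u) [CommRing A₁] [Algebra R₁ A₁] (t₂ : R₂ ⊗[R₁] A₁)
    (h : Module.Flat R (Localization.Away
      (Algebra.TensorProduct.map (IsScalarTower.toAlgHom R₁ R₂ R) (AlgHom.id R₁ A₁) t₂))) :
    Module.Flat R (Localization.Away ((1 : R) ⊗ₜ[R₂] t₂)) := by
  have H : Submonoid.map (Algebra.TensorProduct.cancelBaseChange R₁ R₂ R R A₁)
      (Submonoid.powers ((1 : R) ⊗ₜ[R₂] t₂)) = Submonoid.powers
      (Algebra.TensorProduct.map (IsScalarTower.toAlgHom R₁ R₂ R) (AlgHom.id R₁ A₁) t₂) := by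
    rw [Submonoid.map_powers, cancelBaseChange_one_tmul]
  exact Module.Flat.of_linearEquiv (IsLocalization.algEquivOfAlgEquiv
    (Localization.Away ((1 : R) ⊗ₜ[R₂] t₂)) (Localization.Away
      (Algebra.TensorProduct.map (IsScalarTower.toAlgHom R₁ R₂ R) (AlgHom.id R₁ A₁) t₂))
    (Algebra.TensorProduct.cancelBaseChange R₁ R₂ R R A₁) H).toLinearEquiv

/-- Flatness along `V(I)` at a stage. -/
theorem flatAlong_of_stage (R₁ R₂ R₃ R : Type u) [CommRing R₁] [CommRing R₂] [CommRing R₃]
    [CommRing R] [Algebra R₁ R₂] [Algebra R₂ R₃] [Algebra R₁ R₃] [Algebra R₃ R] [Algebra R₂ R]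
    [IsScalarTower R₁ R₂ R₃] [IsScalarTower R₂ R₃ R] (I : Ideal R)
    (A₁ : Type u) [CommRing A₁] [Algebra R₁ A₁] (t₂ : R₂ ⊗[R₁] A₁)
    (ht₂m : t₂ - 1 ∈ (I.comap (algebraMap R₂ R)).map (algebraMap R₂ (R₂ ⊗[R₁] A₁)))
    (hu : Module.Flat R₃ (Localization.Away ((1 : R₃) ⊗ₜ[R₂] t₂))) :
    FlatAlong R₃ (I.comap (algebraMap R₃ R)) (R₃ ⊗[R₁] A₁) := by
  have h5 : FlatAlong R₃ (I.comap (algebraMap R₃ R)) (R₃ ⊗[R₂] (R₂ ⊗[R₁] A₁)) := by
    apply flatAlong_of_away _ ((1 : R₃) ⊗ₜ[R₂] t₂) _ hu
    have h6 : (1 : R₃) ⊗ₜ[R₂] t₂ - 1 =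
        (Algebra.TensorProduct.includeRight : (R₂ ⊗[R₁] A₁) →ₐ[R₂] R₃ ⊗[R₂] (R₂ ⊗[R₁] A₁))
          (t₂ - 1) := by
      rw [map_sub, map_one]
      rfl
    rw [h6]
    have h7 : (I.comap (algebraMap R₂ R)).map (algebraMap R₂ (R₂ ⊗[R₁] A₁)) ≤
        ((I.comap (algebraMap R₃ R)).map
          (algebraMap R₃ (R₃ ⊗[R₂] (R₂ ⊗[R₁] A₁)))).comap
          (Algebra.TensorProduct.includeRight :
            (R₂ ⊗[R₁] A₁) →ₐ[R₂] R₃ ⊗[R₂] (R₂ ⊗[R₁] A₁)) := by
      rw [Ideal.map_le_iff_le_comap]
      intro r hr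
      rw [Ideal.mem_comap, Ideal.mem_comap]
      have h8 : (Algebra.TensorProduct.includeRight :
          (R₂ ⊗[R₁] A₁) →ₐ[R₂] R₃ ⊗[R₂] (R₂ ⊗[R₁] A₁)) (algebraMap R₂ (R₂ ⊗[R₁] A₁) r) =
          algebraMap R₃ (R₃ ⊗[R₂] (R₂ ⊗[R₁] A₁)) (algebraMap R₂ R₃ r) := by
        rw [AlgHom.commutes, IsScalarTower.algebraMap_apply R₂ R₃ (R₃ ⊗[R₂] (R₂ ⊗[R₁] A₁))]
      rw [h8]
      apply Ideal.mem_map_of_mem
      rw [Ideal.mem_comap, ← IsScalarTower.algebraMap_apply R₂ R₃ R]
      exact hr
    exact h7 ht₂m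
  exact FlatAlong.of_algEquiv (Algebra.TensorProduct.cancelBaseChange R₁ R₂ R₃ R₃ A₁) h5

/-- **Descent of flatness along a closed subset to a model of finite type over `ℤ`.** -/
theorem exists_flatAlong_model (R₁ R : Type u) [CommRing R₁] [CommRing R] [Algebra R₁ R]
    (hR₁ : Algebra.FiniteType ℤ R₁) (I : Ideal R) (A₁ : Type u) [CommRing A₁] [Algebra R₁ A₁]
    (hA₁ : Algebra.FiniteType R₁ A₁) (h : FlatAlong R I (R ⊗[R₁] A₁)) :
    ∃ (R₃ : Type u) (_ : CommRing R₃) (_ : Algebra R₁ R₃) (_ : Algebra R₃ R)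
      (_ : IsScalarTower R₁ R₃ R), Algebra.FiniteType ℤ R₃ ∧
        FlatAlong R₃ (I.comap (algebraMap R₃ R)) (R₃ ⊗[R₁] A₁) := by
  classical
  haveI := hR₁
  haveI := hA₁
  haveI : IsNoetherianRing R₁ := Algebra.FiniteType.isNoetherianRing ℤ R₁
  haveI : Algebra.FinitePresentation R₁ A₁ := Algebra.FinitePresentation.of_finiteType.mp hA₁
  haveI : Algebra.FinitePresentation R (R ⊗[R₁] A₁) := inferInstance
  obtain ⟨t, ht, hfl⟩ := exists_away_flat I h
  obtain ⟨s, t₂, ht₂, ht₂m⟩ := exists_descend_elt R₁ R I A₁ t ht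
  haveI : Algebra.FinitePresentation (Algebra.adjoin R₁ (s : Set R))
      (Algebra.adjoin R₁ (s : Set R) ⊗[R₁] A₁) := inferInstance
  have hfl2 : Module.Flat R (Localization.Away ((1 : R) ⊗ₜ[Algebra.adjoin R₁ (s : Set R)] t₂)) := by
    apply flat_away_one_tmul R₁ (Algebra.adjoin R₁ (s : Set R)) R A₁ t₂
    have h0 : Algebra.TensorProduct.map (IsScalarTower.toAlgHom R₁ (Algebra.adjoin R₁ (s : Set R)) R)
        (AlgHom.id R₁ A₁) t₂ = t := ht₂
    rw [h0]
    exact hfl
  obtain ⟨u, hu⟩ := exists_stage_flat_away (Algebra.adjoin R₁ (s : Set R)) R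
    (Algebra.adjoin R₁ (s : Set R) ⊗[R₁] A₁) t₂ hfl2
  haveI f1 : Algebra.FiniteType R₁ (Algebra.adjoin R₁ (s : Set R)) :=
    (Subalgebra.fg_iff_finiteType _).mp (Subalgebra.fg_adjoin_finset s)
  haveI f2 : Algebra.FiniteType (Algebra.adjoin R₁ (s : Set R))
      (Algebra.adjoin (Algebra.adjoin R₁ (s : Set R)) (u : Set R)) :=
    (Subalgebra.fg_iff_finiteType _).mp (Subalgebra.fg_adjoin_finset u)
  haveI f3 : Algebra.FiniteType ℤ (Algebra.adjoin R₁ (s : Set R)) :=
    Algebra.FiniteType.trans hR₁ f1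
  refine ⟨Algebra.adjoin (Algebra.adjoin R₁ (s : Set R)) (u : Set R), inferInstance,
    inferInstance, inferInstance, inferInstance, Algebra.FiniteType.trans f3 f2, ?_⟩
  exact flatAlong_of_stage R₁ (Algebra.adjoin R₁ (s : Set R))
    (Algebra.adjoin (Algebra.adjoin R₁ (s : Set R)) (u : Set R)) R I A₁ t₂ ht₂m hu

end Main

end Groth.Agent.Lib.R2H7.Fib
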