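import Mathlib

/-!
# R2H7TorsPts1: characters of a finitely generated abelian group with values in an algebraically closed field

* `exists_torsion_exponent`: a finitely generated abelian group has a positive integer `N` killing all torsion.
* `exists_div_hom`: for `Q` divisible (Baer), `χ : X →+ Q` and `m > 0` there are `χ'` and `N > 0` with
  `(m N) χ' = N χ`.
* `exists_root_char`: the same for characters `M →* Kˣ`, `K` algebraically closed.
-/

set_option autoImplicit false

namespace Groth.Agent.Lib.R2H7.TorsPts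

section Additive

variable (X : Type*) [AddCommGroup X] [Module.Finite ℤ X]

theorem exists_torsion_exponent :
    ∃ N : ℕ, 0 < N ∧ ∀ (a : X) (k : ℕ), 0 < k → k • a = 0 → N • a = 0 := by
  haveI : IsNoetherian ℤ X := isNoetherian_of_isNoetherianRing_of_finite ℤ X
  haveI : Module.Finite ℤ (Submodule.torsion ℤ X) := Module.IsNoetherian.finite ℤ _
  obtain ⟨r, hr1, hr2⟩ := Submodule.annihilator_top_inter_nonZeroDivisors
    (Submodule.torsion_isTorsion (R := ℤ) (M := X))
  have hr0 : r ≠ 0 := nonZeroDivisors.ne_zero hr2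
  refine ⟨r.natAbs, Int.natAbs_pos.mpr hr0, fun a k hk hka => ?_⟩
  have ha : a ∈ Submodule.torsion ℤ X := by
    rw [Submodule.mem_torsion_iff]
    refine ⟨⟨(k : ℤ), mem_nonZeroDivisors_of_ne_zero (by exact_mod_cast hk.ne')⟩, ?_⟩
    change (k : ℤ) • a = 0
    rw [natCast_zsmul]
    exact hka
  have h1 : r • (⟨a, ha⟩ : Submodule.torsion ℤ X) = 0 :=
    Submodule.mem_annihilator.mp hr1 _ Submodule.mem_top
  have h2 : r • a = 0 := by
    have := congrArg Subtype.val h1
    simpa using this
  rcases Int.natAbs_eq r with h | h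
  · rw [← natCast_zsmul, ← h]
    exact h2
  · have h3 : (-(r.natAbs : ℤ)) • a = 0 := by rw [← h]; exact h2
    rw [neg_smul, neg_eq_zero, natCast_zsmul] at h3
    exact h3

variable {X}

theorem exists_div_hom {Q : Type*} [AddCommGroup Q] (hQ : Module.Baer ℤ Q) (χ : X →+ Q) (m : ℕ)
    (hm : 0 < m) : ∃ (χ' : X →+ Q) (N : ℕ), 0 < N ∧ ∀ a, (m * N) • χ' a = N • χ a := by
  obtain ⟨N, hN, hkill⟩ := exists_torsion_exponent X
  let f : X →+ X := nsmulAddMonoidHom (m * N)
  have hf : ∀ a, f a = (m * N) • a := fun a => rfl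
  let fr : X →+ f.range := f.rangeRestrict
  have hfr : Function.Surjective fr := f.rangeRestrict_surjective
  have hker : fr.ker ≤ (N • χ).ker := by
    intro a ha
    rw [AddMonoidHom.mem_ker] at ha ⊢
    have h1 : f a = 0 := by
      have := congrArg Subtype.val ha
      simpa [fr] using this
    rw [hf] at h1
    have h2 : N • a = 0 := hkill a (m * N) (Nat.mul_pos hm hN) h1
    rw [AddMonoidHom.smul_apply, ← map_nsmul, h2, map_zero]
  let g' : f.range →+ Q := fr.liftOfSurjective hfr ⟨N • χ, hker⟩
  have hg' : ∀ a, g' (fr a) = N • χ a := by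
    intro a
    exact fr.liftOfRightInverse_comp_apply _ (Function.rightInverse_surjInv hfr) ⟨N • χ, hker⟩ a
  obtain ⟨χ', hχ'⟩ := hQ.extension_property_addMonoidHom f.range.subtype
    (AddSubgroup.subtype_injective _) g'
  refine ⟨χ', N, hN, fun a => ?_⟩
  have h1 : χ' (f a) = g' (fr a) := by
    have := congrArg (fun h => h (fr a)) hχ'
    simpa [fr] using this
  rw [← map_nsmul, ← hf, h1, hg']

end Additive

section Mult

variable {K : Type*} [Field K] [IsAlgClosed K]

theorem baer_additive_units : Module.Baer ℤ (Additive Kˣ) := by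
  haveI : DivisibleBy (Additive Kˣ) ℕ := by
    refine divisibleByOfSMulRightSurj _ _ (fun {n} hn x => ?_)
    obtain ⟨z, hz⟩ := IsAlgClosed.exists_pow_nat_eq ((Additive.toMul x : Kˣ) : K)
      (Nat.pos_of_ne_zero hn)
    have hz0 : z ≠ 0 := by
      intro h
      rw [h, zero_pow hn] at hz
      exact (Units.ne_zero (Additive.toMul x)) hz.symm
    refine ⟨Additive.ofMul (Units.mk0 z hz0), ?_⟩
    change Additive.ofMul ((Units.mk0 z hz0) ^ n) = x
    have : (Units.mk0 z hz0) ^ n = Additive.toMul x := by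
      ext
      rw [Units.val_pow_eq_pow_val, Units.val_mk0, hz]
    rw [this]
    rfl
  haveI : DivisibleBy (Additive Kˣ) ℤ := AddGroup.divisibleByIntOfDivisibleByNat _
  exact Module.Baer.of_divisible _

theorem exists_root_char {M : Type*} [CommGroup M] [Group.FG M] (χ : M →* Kˣ) (m : ℕ)
    (hm : 0 < m) : ∃ (χ' : M →* Kˣ) (N : ℕ), 0 < N ∧ ∀ a, χ' a ^ (m * N) = χ a ^ N := by
  haveI : AddGroup.FG (Additive M) := GroupFG.iff_add_fg.mp inferInstance
  haveI : Module.Finite ℤ (Additive M) := Module.Finite.iff_addGroup_fg.mpr inferInstance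
  obtain ⟨χ', N, hN, h⟩ := exists_div_hom (baer_additive_units (K := K))
    (MonoidHom.toAdditive χ) m hm
  refine ⟨MonoidHom.toAdditive.symm χ', N, hN, fun a => ?_⟩
  have := h (Additive.ofMul a)
  exact congrArg Additive.toMul this

end Mult

end Groth.Agent.Lib.R2H7.TorsPts
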