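import Mathlib
import Groth.Prelude.Def_SGA3b
import Groth.Agent.Lib.Helper25Torsion

/-!
# R2H7TorsPts2: the group of field-valued points of an affine commutative group

`C` a commutative and cocommutative Hopf algebra over `A`, `K` a field over `A`.  The convolution monoid
`WithConv (C →ₐ[A] K)` is a commutative group (`ptsGroup`).

* `hat`, `trans`, `hat_trans`: evaluation of translates.
* `pre`, `preHom`: points of a quotient Hopf algebra; `exists_pre_eq`.
* `apply_eq_zero_of_pow_eq_one`: a point killed by `n` vanishes on the ideal of the `n`-torsion.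
* `exists_pow_apply_eq_zero`: for an idempotent `e` of `C` (of finite type) whose zero locus is a subgroup, some
  positive power of every point lies in the zero locus.
-/

set_option autoImplicit false
universe u

namespace Groth.Agent.Lib.R2H7.TorsPts

open TensorProduct Coalgebra WithConv Groth.Agent.Lib.Helper25

section Pts

variable {A : Type u} [CommRing A] {C : Type u} [CommRing C] [HopfAlgebra A C]
  {K : Type u} [Field K] [Algebra A K]

/-- The inverse of a point. -/
noncomputable def pinv (x : WithConv (C →ₐ[A] K)) : WithConv (C →ₐ[A] K) :=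
  toConv (x.ofConv.comp (HopfAlgebra.antipodeAlgHom A C))

theorem id_mul_antipodeAlgHom :
    (toConv (AlgHom.id A C) * toConv (HopfAlgebra.antipodeAlgHom A C) :
      WithConv (C →ₐ[A] C)) = 1 := by
  apply WithConv.ofConv_injective
  apply AlgHom.toLinearMap_injective
  apply WithConv.toConv_injective
  rw [AlgHom.toLinearMap_convMul, AlgHom.toLinearMap_convOne]
  simp [LinearMap.id_mul_antipode]

theorem one_ofConv_apply (c : C) :
    (1 : WithConv (C →ₐ[A] K)).ofConv c = algebraMap A K (counit (R := A) c) := rfl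

theorem comp_one (x : C →ₐ[A] K) :
    x.comp (1 : WithConv (C →ₐ[A] C)).ofConv = (1 : WithConv (C →ₐ[A] K)).ofConv := by
  apply AlgHom.ext
  intro c
  change x (algebraMap A C (counit (R := A) c)) = algebraMap A K (counit (R := A) c)
  exact x.commutes _

theorem mul_pinv (x : WithConv (C →ₐ[A] K)) : x * pinv x = 1 := by
  have h := AlgHom.comp_convMul_distrib x.ofConv (toConv (AlgHom.id A C))
    (toConv (HopfAlgebra.antipodeAlgHom A C))
  rw [id_mul_antipodeAlgHom, comp_one] at h
  apply WithConv.ofConv_injective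
  rw [h]
  rfl

/-- The group of points. -/
@[reducible] noncomputable def ptsGroup [IsCocomm A C] : CommGroup (WithConv (C →ₐ[A] K)) :=
  { (inferInstance : CommMonoid (WithConv (C →ₐ[A] K))) with
    inv := pinv
    inv_mul_cancel := fun x => by
      rw [mul_comm]
      exact mul_pinv x }

/-- The `K`-point of `K ⊗ C` defined by a point. -/
noncomputable def hat (y : C →ₐ[A] K) : K ⊗[A] C →ₐ[K] K :=
  Algebra.TensorProduct.lift (Algebra.ofId K K) y (fun _ _ => Commute.all _ _)

theorem hat_tmul (y : C →ₐ[A] K) (k : K) (c : C) : hat y (k ⊗ₜ[A] c) = k * y c := by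
  rw [hat, Algebra.TensorProduct.lift_tmul]
  rfl

/-- Translation by a point. -/
noncomputable def trans (z : C →ₐ[A] K) : C →ₐ[A] K ⊗[A] C :=
  (Algebra.TensorProduct.map z (AlgHom.id A C)).comp (Bialgebra.comulAlgHom A C)

theorem hat_trans (z y : WithConv (C →ₐ[A] K)) (c : C) :
    hat y.ofConv (trans z.ofConv c) = (z * y).ofConv c := by
  have h1 : (z * y).ofConv c = Algebra.TensorProduct.lift z.ofConv y.ofConv
      (fun _ _ => Commute.all _ _) (comul (R := A) c) := AlgHom.convMul_apply z y c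
  rw [h1]
  have h2 : ((hat y.ofConv).restrictScalars A).comp
      (Algebra.TensorProduct.map z.ofConv (AlgHom.id A C)) =
      Algebra.TensorProduct.lift z.ofConv y.ofConv (fun _ _ => Commute.all _ _) := by
    apply Algebra.TensorProduct.ext'
    intro a b
    simp [hat_tmul]
  rw [← h2]
  rfl

theorem apply_eq_zero_of_pow_eq_one (x : WithConv (C →ₐ[A] K)) (n : ℕ) (hx : x ^ n = 1) (c : C)
    (hc : c ∈ SGA3b.torsionIdeal A C n) : x.ofConv c = 0 := by
  have h1 : x.ofConv.comp (SGA3b.powConv A C n) = (1 : WithConv (C →ₐ[A] K)).ofConv := by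
    have h := Tors.comp_convPow x.ofConv (toConv (AlgHom.id A C)) n
    rw [← hx]
    exact h
  have hle : SGA3b.torsionIdeal A C n ≤ RingHom.ker (x.ofConv : C →+* K) := by
    rw [SGA3b.torsionIdeal, Ideal.map_le_iff_le_comap]
    intro d hd
    rw [Ideal.mem_comap, RingHom.mem_ker]
    have h2 := congrArg (fun f => f d) h1
    change x.ofConv (SGA3b.powConv A C n d) = algebraMap A K (counit (R := A) d) at h2
    have h3 : counit (R := A) d = 0 := hd
    rw [h3, map_zero] at h2
    exact h2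
  exact hle hc

end Pts

section Quot

variable {A : Type u} [CommRing A] {C : Type u} [CommRing C] [HopfAlgebra A C]
  {K : Type u} [Field K] [Algebra A K] (J : Ideal C) [J.IsHopfIdeal A]

/-- Points of the quotient, as points of `C`. -/
noncomputable def pre (x : WithConv ((C ⧸ J) →ₐ[A] K)) : WithConv (C →ₐ[A] K) :=
  toConv (x.ofConv.comp (Bialgebra.Quotient.mkBialgHom (R := A) J : C →ₐ[A] C ⧸ J))

theorem pre_apply (x : WithConv ((C ⧸ J) →ₐ[A] K)) (c : C) :
    (pre J x).ofConv c = x.ofConv (Ideal.Quotient.mk J c) := rfl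

theorem pre_mul (x y : WithConv ((C ⧸ J) →ₐ[A] K)) : pre J (x * y) = pre J x * pre J y := by
  apply WithConv.ofConv_injective
  exact AlgHom.convMul_comp_bialgHom_distrib x y (Bialgebra.Quotient.mkBialgHom (R := A) J)

theorem pre_one : pre J (1 : WithConv ((C ⧸ J) →ₐ[A] K)) = 1 := by
  apply WithConv.ofConv_injective
  apply AlgHom.ext
  intro c
  rfl

/-- `pre` as a homomorphism of monoids. -/
noncomputable def preHom : WithConv ((C ⧸ J) →ₐ[A] K) →* WithConv (C →ₐ[A] K) where
  toFun := pre J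
  map_one' := pre_one J
  map_mul' := pre_mul J

theorem preHom_apply (x : WithConv ((C ⧸ J) →ₐ[A] K)) : preHom J x = pre J x := rfl

theorem pre_apply_eq_zero (x : WithConv ((C ⧸ J) →ₐ[A] K)) {c : C} (hc : c ∈ J) :
    (pre J x).ofConv c = 0 := by
  rw [pre_apply, Ideal.Quotient.eq_zero_iff_mem.mpr hc, map_zero]

theorem exists_pre_eq (x : WithConv (C →ₐ[A] K)) (hx : ∀ c ∈ J, x.ofConv c = 0) :
    ∃ y : WithConv ((C ⧸ J) →ₐ[A] K), pre J y = x := by
  refine ⟨toConv (Ideal.Quotient.liftₐ J x.ofConv hx), ?_⟩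
  apply WithConv.ofConv_injective
  apply AlgHom.ext
  intro c
  rfl

theorem mul_apply_eq_zero (x y : WithConv (C →ₐ[A] K)) (hx : ∀ c ∈ J, x.ofConv c = 0)
    (hy : ∀ c ∈ J, y.ofConv c = 0) : ∀ c ∈ J, (x * y).ofConv c = 0 := by
  obtain ⟨x', rfl⟩ := exists_pre_eq J x hx
  obtain ⟨y', rfl⟩ := exists_pre_eq J y hy
  intro c hc
  rw [← pre_mul]
  exact pre_apply_eq_zero J _ hc

theorem pinv_apply_eq_zero (x : WithConv (C →ₐ[A] K)) (hx : ∀ c ∈ J, x.ofConv c = 0) :
    ∀ c ∈ J, (pinv x).ofConv c = 0 := by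
  intro c hc
  change x.ofConv (HopfAlgebra.antipode A c) = 0
  exact hx _ (Ideal.IsHopfIdeal.antipode_mem (R := A) hc)

end Quot

section Power

variable {A : Type u} [CommRing A] {C : Type u} [CommRing C] [HopfAlgebra A C] [IsCocomm A C]
  {K : Type u} [Field K] [Algebra A K]

theorem exists_pow_apply_eq_zero (hft : Algebra.FiniteType A C) (e : C) (he : IsIdempotentElem e)
    (hε : counit (R := A) e = 0)
    (hinv : ∀ x : WithConv (C →ₐ[A] K), x.ofConv e = 0 → (pinv x).ofConv e = 0)
    (x : WithConv (C →ₐ[A] K)) : ∃ m : ℕ, 0 < m ∧ (x ^ m).ofConv e = 0 := by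
  letI : CommGroup (WithConv (C →ₐ[A] K)) := ptsGroup
  by_contra hcon
  push Not at hcon
  have h01 : ∀ z : WithConv (C →ₐ[A] K), z.ofConv e ≠ 0 → z.ofConv e = 1 := by
    intro z hz
    have h1 : z.ofConv e * z.ofConv e = z.ofConv e := by rw [← map_mul, he.eq]
    exact mul_left_cancel₀ hz (h1.trans (mul_one _).symm)
  have hxi : ∀ j : ℕ, 0 < j → ((x⁻¹) ^ j).ofConv e = 1 := by
    intro j hj
    apply h01
    intro h0
    have h1 := hinv _ h0
    have h2 : pinv ((x⁻¹) ^ j) = x ^ j := by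
      change ((x⁻¹) ^ j)⁻¹ = x ^ j
      rw [inv_pow, inv_inv]
    rw [h2] at h1
    exact hcon j hj h1
  haveI : Algebra.FiniteType K (K ⊗[A] C) := inferInstance
  haveI : IsNoetherianRing (K ⊗[A] C) := Algebra.FiniteType.isNoetherianRing K _
  let u : ℕ → K ⊗[A] C := fun i => 1 - trans (x ^ i).ofConv e
  let 𝔟 : ℕ →o Ideal (K ⊗[A] C) :=
    ⟨fun n => Ideal.span (u '' {i | 1 ≤ i ∧ i ≤ n}), fun n n' hnn' =>
      Ideal.span_mono (Set.image_mono (fun i hi => ⟨hi.1, hi.2.trans hnn'⟩))⟩
  obtain ⟨n, hn⟩ := monotone_stabilizes_iff_noetherian.mpr inferInstance 𝔟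
  have hmem : u (n + 1) ∈ 𝔟 n := by
    rw [hn (n + 1) (Nat.le_succ n)]
    exact Ideal.subset_span ⟨n + 1, ⟨by omega, le_rfl⟩, rfl⟩
  let y : WithConv (C →ₐ[A] K) := (x⁻¹) ^ (n + 1)
  have hle : 𝔟 n ≤ RingHom.ker (hat y.ofConv : K ⊗[A] C →+* K) := by
    apply Ideal.span_le.mpr
    rintro _ ⟨i, ⟨hi1, hi2⟩, rfl⟩
    change hat y.ofConv (1 - trans (x ^ i).ofConv e) = 0
    rw [map_sub, map_one, hat_trans]
    obtain ⟨k, hk⟩ : ∃ k, n + 1 = i + k := ⟨n + 1 - i, by omega⟩
    have hk0 : 0 < k := by omega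
    have h3 : x ^ i * y = (x⁻¹) ^ k := by
      change x ^ i * (x⁻¹) ^ (n + 1) = _
      rw [hk, pow_add, ← mul_assoc, ← mul_pow, mul_inv_cancel, one_pow, one_mul]
    rw [h3, hxi k hk0, sub_self]
  have h1 : hat y.ofConv (u (n + 1)) = 1 := by
    change hat y.ofConv (1 - trans (x ^ (n + 1)).ofConv e) = 1
    rw [map_sub, map_one, hat_trans]
    have h3 : x ^ (n + 1) * y = 1 := by
      change x ^ (n + 1) * (x⁻¹) ^ (n + 1) = 1
      rw [← mul_pow, mul_inv_cancel, one_pow]
    rw [h3, one_ofConv_apply, hε, map_zero, sub_zero]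
  have h2 := hle hmem
  rw [RingHom.mem_ker] at h2
  change hat y.ofConv (u (n + 1)) = 0 at h2
  rw [h1] at h2
  exact one_ne_zero h2

end Power

end Groth.Agent.Lib.R2H7.TorsPts
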