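import Mathlib
import Groth.Prelude.Def_SGA3b
import Groth.Agent.Lib.R2H7MTGlue
import Groth.Agent.Lib.R2H7TorsPts1
import Groth.Agent.Lib.R2H7TorsPts2

/-!
# R2H7TorsPts3: points of an isotrivial group of finite type with values in an algebraically closed field

* `exists_algHom_of_finite`: a finite faithfully flat `A`-algebra has a point with values in any algebraically closed
  field over `A`.
* `liftConv`, `resTheta`, `resBase`: the homomorphisms of monoids
  `(M →* K) → Pts(K[M]) → Pts(K ⊗ B) → Pts(B)`.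
* `exists_root_point`: for `B` isotrivial of finite type over `A`, `g` a `K`-point and `m > 0` there are a `K`-point
  `h` and `N > 0` with `h ^ (m N) = g ^ N`.
-/

set_option autoImplicit false
universe u

namespace Groth.Agent.Lib.R2H7.TorsPts

open TensorProduct Coalgebra WithConv SGA3b Groth.Agent.Lib.Helper25

section KPoint

variable {A : Type u} [CommRing A] {K : Type u} [Field K] [IsAlgClosed K] [Algebra A K]

theorem exists_algHom_of_finite (S : Type u) [CommRing S] [Algebra A S] [Module.Finite A S]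
    [Module.FaithfullyFlat A S] : Nonempty (S →ₐ[A] K) := by
  haveI : Module.FaithfullyFlat K (K ⊗[A] S) := inferInstance
  haveI : Nontrivial (K ⊗[A] S) := (FaithfulSMul.algebraMap_injective K (K ⊗[A] S)).nontrivial
  haveI : Module.Finite K (K ⊗[A] S) := inferInstance
  obtain ⟨𝔪, h𝔪⟩ := Ideal.exists_maximal (K ⊗[A] S)
  letI : Field ((K ⊗[A] S) ⧸ 𝔪) := Ideal.Quotient.field 𝔪
  haveI : Module.Finite K ((K ⊗[A] S) ⧸ 𝔪) :=
    Module.Finite.of_surjective (Ideal.Quotient.mkₐ K 𝔪).toLinearMap Ideal.Quotient.mk_surjective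
  haveI : Algebra.IsAlgebraic K ((K ⊗[A] S) ⧸ 𝔪) := Algebra.IsAlgebraic.of_finite K _
  let σ : (K ⊗[A] S) ⧸ 𝔪 →ₐ[K] K := IsAlgClosed.lift
  exact ⟨((σ.comp (Ideal.Quotient.mkₐ K 𝔪)).restrictScalars A).comp
    (Algebra.TensorProduct.includeRight : S →ₐ[A] K ⊗[A] S)⟩

end KPoint

section LiftConv

variable (K : Type u) [Field K] (M : Type u) [CommGroup M]

theorem lift_mul (χ χ' : M →* K) :
    (toConv (MonoidAlgebra.lift K K M (χ * χ')) : WithConv (MonoidAlgebra K M →ₐ[K] K)) =
      toConv (MonoidAlgebra.lift K K M χ) * toConv (MonoidAlgebra.lift K K M χ') := by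
  apply WithConv.ofConv_injective
  refine MonoidAlgebra.algHom_ext (fun m => ?_) (BCB.algHom_self_ext K _ _)
  have h1 := AlgHom.convMul_apply (toConv (MonoidAlgebra.lift K K M χ))
    (toConv (MonoidAlgebra.lift K K M χ')) (MonoidAlgebra.single m (1 : K))
  change (MonoidAlgebra.lift K K M (χ * χ')) (MonoidAlgebra.single m 1) =
    (toConv (MonoidAlgebra.lift K K M χ) * toConv (MonoidAlgebra.lift K K M χ')).ofConv
      (MonoidAlgebra.single m 1)
  refine Eq.trans ?_ h1.symm
  simp [MonoidAlgebra.lift_single]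

theorem lift_one :
    (toConv (MonoidAlgebra.lift K K M 1) : WithConv (MonoidAlgebra K M →ₐ[K] K)) = 1 := by
  apply WithConv.ofConv_injective
  refine MonoidAlgebra.algHom_ext (fun m => ?_) (BCB.algHom_self_ext K _ _)
  change (MonoidAlgebra.lift K K M 1) (MonoidAlgebra.single m 1) =
    algebraMap K K (counit (R := K) (MonoidAlgebra.single m (1 : K)))
  simp [MonoidAlgebra.lift_single]

/-- Characters as points of the group algebra. -/
noncomputable def liftConv : (M →* K) →* WithConv (MonoidAlgebra K M →ₐ[K] K) where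
  toFun χ := toConv (MonoidAlgebra.lift K K M χ)
  map_one' := lift_one K M
  map_mul' := lift_mul K M

end LiftConv

section ResTheta

variable {K : Type u} [Field K] {H H' : Type u} [CommRing H] [CommRing H'] [Bialgebra K H]
  [Bialgebra K H']

/-- Pullback of points along a homomorphism of bialgebras. -/
noncomputable def resTheta (θ : H →ₐc[K] H') : WithConv (H' →ₐ[K] K) →* WithConv (H →ₐ[K] K) where
  toFun f := toConv (f.ofConv.comp (θ : H →ₐ[K] H'))
  map_one' := by
    apply WithConv.ofConv_injective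
    apply AlgHom.ext
    intro z
    change algebraMap K K (counit (R := K) (θ z)) = algebraMap K K (counit (R := K) z)
    rw [CoalgHomClass.counit_comp_apply]
  map_mul' f g := by
    apply WithConv.ofConv_injective
    exact AlgHom.convMul_comp_bialgHom_distrib f g θ

theorem resTheta_apply (θ : H →ₐc[K] H') (f : WithConv (H' →ₐ[K] K)) (z : H) :
    (resTheta θ f).ofConv z = f.ofConv (θ z) := rfl

end ResTheta

section ResBase

variable {A : Type u} [CommRing A] {B : Type u} [CommRing B] [Bialgebra A B]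
  {K : Type u} [Field K] [Algebra A K]

theorem lift_bcMap2 (f f' : K ⊗[A] B →ₐ[K] K) (w : B ⊗[A] B) :
    Algebra.TensorProduct.lift f f' (fun _ _ => Commute.all _ _) (MRB.bcMap2 K B w) =
      Algebra.TensorProduct.lift
        ((f.restrictScalars A).comp (Algebra.TensorProduct.includeRight : B →ₐ[A] K ⊗[A] B))
        ((f'.restrictScalars A).comp (Algebra.TensorProduct.includeRight : B →ₐ[A] K ⊗[A] B))
        (fun _ _ => Commute.all _ _) w := by
  induction w using TensorProduct.induction_on with
  | zero => simp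
  | tmul a b =>
    rw [MRB.bcMap2_tmul, Algebra.TensorProduct.lift_tmul, Algebra.TensorProduct.lift_tmul]
    rfl
  | add x y hx hy => rw [map_add, map_add, map_add, hx, hy]

/-- Restriction of a `K`-point of `K ⊗ B` to `B`. -/
noncomputable def resBase : WithConv (K ⊗[A] B →ₐ[K] K) →* WithConv (B →ₐ[A] K) where
  toFun f := toConv ((f.ofConv.restrictScalars A).comp
    (Algebra.TensorProduct.includeRight : B →ₐ[A] K ⊗[A] B))
  map_one' := by
    apply WithConv.ofConv_injective
    apply AlgHom.ext
    intro b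
    change algebraMap K K (counit (R := K) ((1 : K) ⊗ₜ[A] b)) =
      algebraMap A K (counit (R := A) b)
    rw [TensorProduct.counit_tmul]
    simp [Algebra.smul_def]
  map_mul' f g := by
    apply WithConv.ofConv_injective
    apply AlgHom.ext
    intro b
    have h1 := AlgHom.convMul_apply f g ((1 : K) ⊗ₜ[A] b)
    have h2 := AlgHom.convMul_apply
      (toConv ((f.ofConv.restrictScalars A).comp
        (Algebra.TensorProduct.includeRight : B →ₐ[A] K ⊗[A] B)))
      (toConv ((g.ofConv.restrictScalars A).comp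
        (Algebra.TensorProduct.includeRight : B →ₐ[A] K ⊗[A] B))) b
    change (f * g).ofConv ((1 : K) ⊗ₜ[A] b) = _
    refine Eq.trans h1 (Eq.trans ?_ h2.symm)
    rw [MRB.comul_one_tmul]
    exact lift_bcMap2 f.ofConv g.ofConv _

theorem resBase_apply (f : WithConv (K ⊗[A] B →ₐ[K] K)) (b : B) :
    (resBase f).ofConv b = f.ofConv ((1 : K) ⊗ₜ[A] b) := rfl

theorem resBase_hat {C : Type u} [CommRing C] [HopfAlgebra A C] (g : WithConv (C →ₐ[A] K)) :
    resBase (toConv (hat g.ofConv)) = g := by
  apply WithConv.ofConv_injective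
  apply AlgHom.ext
  intro b
  change hat g.ofConv ((1 : K) ⊗ₜ[A] b) = g.ofConv b
  rw [hat_tmul, one_mul]

end ResBase

section Main

variable {A : Type u} [CommRing A] {B : Type u} [CommRing B] [HopfAlgebra A B]
  {K : Type u} [Field K] [IsAlgClosed K] [Algebra A K]

theorem exists_root_point (hft : Algebra.FiniteType A B) (hiso : IsIsotrivial A B)
    (g : WithConv (B →ₐ[A] K)) (m : ℕ) (hm : 0 < m) :
    ∃ (h : WithConv (B →ₐ[A] K)) (N : ℕ), 0 < N ∧ h ^ (m * N) = g ^ N := by
  obtain ⟨S, _, _, -, hfin, hff, M, _, ⟨θS⟩⟩ := hiso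
  haveI := hfin
  haveI := hff
  obtain ⟨s⟩ := exists_algHom_of_finite (A := A) (K := K) S
  obtain ⟨θ⟩ := MTGlue.nonempty_equiv_of_algHom θS s
  -- `M` is finitely generated
  haveI : Algebra.FiniteType K (K ⊗[A] B) := inferInstance
  haveI : Algebra.FiniteType K (MonoidAlgebra K M) :=
    Algebra.FiniteType.equiv inferInstance (θ : K ⊗[A] B ≃ₐ[K] MonoidAlgebra K M)
  haveI : Group.FG M := (MonoidAlgebra.finiteType_iff_group_fg (R := K)).mp inferInstance
  -- the composite homomorphism
  let Ψ : (M →* K) →* WithConv (B →ₐ[A] K) :=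
    (resBase.comp (resTheta (θ : K ⊗[A] B →ₐc[K] MonoidAlgebra K M))).comp (liftConv K M)
  -- the character of `g`
  let f : MonoidAlgebra K M →ₐ[K] K :=
    (hat g.ofConv).comp ((θ.symm : MonoidAlgebra K M ≃ₐ[K] K ⊗[A] B) : MonoidAlgebra K M →ₐ[K] K ⊗[A] B)
  let χ : M →* K := (MonoidAlgebra.lift K K M).symm f
  have hχ : MonoidAlgebra.lift K K M χ = f := (MonoidAlgebra.lift K K M).apply_symm_apply f
  have hΨ : Ψ χ = g := by
    change resBase (resTheta (θ : K ⊗[A] B →ₐc[K] MonoidAlgebra K M)
      (toConv (MonoidAlgebra.lift K K M χ))) = g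
    rw [hχ]
    have h1 : resTheta (θ : K ⊗[A] B →ₐc[K] MonoidAlgebra K M) (toConv f) =
        toConv (hat g.ofConv) := by
      apply WithConv.ofConv_injective
      apply AlgHom.ext
      intro z
      change hat g.ofConv (θ.symm (θ z)) = hat g.ofConv z
      rw [θ.symm_apply_apply]
    rw [h1, resBase_hat]
  obtain ⟨χ', N, hN, hroot⟩ := exists_root_char χ.toHomUnits m hm
  let χ'' : M →* K := (Units.coeHom K).comp χ'
  have hpow : χ'' ^ (m * N) = χ ^ N := by
    apply MonoidHom.ext
    intro a
    have h1 := congrArg (fun u : Kˣ => (u : K)) (hroot a)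
    simpa [χ''] using h1
  refine ⟨Ψ χ'', N, hN, ?_⟩
  rw [← map_pow, hpow, map_pow, hΨ]

end Main

end Groth.Agent.Lib.R2H7.TorsPts
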