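import Mathlib
import Groth.Prelude.Def_SGA3b
import Groth.Agent.Lib.R2H7TorsPts3
import Groth.Agent.Lib.R2H7FormalHom12

/-!
# R2H7TorsPts4: an open and closed isotrivial subgroup containing all torsion is everything

* `idem_eq_zero_of_forall_mem_torsionIdeal`: `C` commutative, cocommutative Hopf algebra of finite type over `A`,
  `e` an idempotent with `(e)` a Hopf ideal and `C/(e)` isotrivial.  If `e` lies in the ideal of the `n`-torsion for
  every `n > 0`, then `e = 0`.
* `isIsotrivial_of_torsion_finite` (SGA3 X 4.x, complete case): `A` noetherian `I`-adically complete, `C` cocommutative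
  flat of finite type, `C/IC` isotrivial and all torsion kernels finite; then `C` is isotrivial.
-/

set_option autoImplicit false
universe u

namespace Groth.Agent.Lib.R2H7.TorsPts

open TensorProduct Coalgebra WithConv SGA3b Groth.Agent.Lib.Helper25

section Idem

variable {A : Type u} [CommRing A] {C : Type u} [CommRing C] [HopfAlgebra A C] [IsCocomm A C]

omit [IsCocomm A C] in
theorem forall_mem_span_of_apply_eq_zero {K : Type u} [Field K] [Algebra A K]
    (x : WithConv (C →ₐ[A] K)) (e : C) (hx : x.ofConv e = 0) :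
    ∀ c ∈ Ideal.span {e}, x.ofConv c = 0 := by
  intro c hc
  obtain ⟨b, rfl⟩ := Ideal.mem_span_singleton'.mp hc
  rw [map_mul, hx, mul_zero]

theorem idem_eq_zero_of_forall_mem_torsionIdeal (hft : Algebra.FiniteType A C) (e : C)
    (he : IsIdempotentElem e) [hH : (Ideal.span {e}).IsHopfIdeal A]
    (hiso : IsIsotrivial A (C ⧸ Ideal.span {e}))
    (hmem : ∀ n : ℕ, 0 < n → e ∈ torsionIdeal A C n) : e = 0 := by
  have hε : counit (R := A) e = 0 :=
    hH.toIsCoideal.counit_eq_zero (Ideal.mem_span_singleton_self e)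
  have hprime : ∀ (q : Ideal C) [q.IsPrime], e ∈ q := by
    intro q hq
    let K := AlgebraicClosure q.ResidueField
    let x₀ : WithConv (C →ₐ[A] K) :=
      toConv ((IsScalarTower.toAlgHom A q.ResidueField K).comp
        (IsScalarTower.toAlgHom A C q.ResidueField))
    have hx₀ : ∀ c : C, x₀.ofConv c =
        algebraMap q.ResidueField K (algebraMap C q.ResidueField c) := fun c => rfl
    suffices h : x₀.ofConv e = 0 by
      rw [hx₀] at h
      have h1 := (algebraMap q.ResidueField K).injective (h.trans (map_zero _).symm)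
      exact Ideal.algebraMap_residueField_eq_zero.mp h1
    by_contra hne
    have hinv : ∀ x : WithConv (C →ₐ[A] K), x.ofConv e = 0 → (pinv x).ofConv e = 0 := by
      intro x hx
      exact pinv_apply_eq_zero (Ideal.span {e}) x (forall_mem_span_of_apply_eq_zero x e hx) e
        (Ideal.mem_span_singleton_self e)
    obtain ⟨m, hm, hxm⟩ := exists_pow_apply_eq_zero hft e he hε hinv x₀
    obtain ⟨g, hg⟩ := exists_pre_eq (Ideal.span {e}) (x₀ ^ m)
      (forall_mem_span_of_apply_eq_zero _ e hxm)
    have hftB : Algebra.FiniteType A (C ⧸ Ideal.span {e}) :=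
      Algebra.FiniteType.of_surjective (Ideal.Quotient.mkₐ A (Ideal.span {e}))
        Ideal.Quotient.mk_surjective
    obtain ⟨h', N, hN, hroot⟩ := exists_root_point hftB hiso g m hm
    let h : WithConv (C →ₐ[A] K) := pre (Ideal.span {e}) h'
    have hpow : h ^ (m * N) = x₀ ^ (m * N) := by
      change (preHom (Ideal.span {e}) h') ^ (m * N) = _
      rw [← map_pow, hroot, map_pow, preHom_apply, hg, pow_mul]
    letI : CommGroup (WithConv (C →ₐ[A] K)) := ptsGroup
    have h1 : (x₀ * h⁻¹) ^ (m * N) = 1 := by
      rw [mul_pow, inv_pow, hpow]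
      exact mul_inv_cancel _
    have h2 : (x₀ * h⁻¹).ofConv e = 0 :=
      apply_eq_zero_of_pow_eq_one _ (m * N) h1 e (hmem (m * N) (Nat.mul_pos hm hN))
    have h3 : x₀ = (x₀ * h⁻¹) * h := (inv_mul_cancel_right x₀ h).symm
    have h4 := mul_apply_eq_zero (Ideal.span {e}) (x₀ * h⁻¹) h
      (forall_mem_span_of_apply_eq_zero _ e h2)
      (fun c hc => pre_apply_eq_zero (Ideal.span {e}) h' hc) e (Ideal.mem_span_singleton_self e)
    rw [← h3] at h4
    exact hne h4
  have hnil : IsNilpotent e := by
    rw [← mem_nilradical, nilradical_eq_sInf, Ideal.mem_sInf]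
    intro q hq
    haveI : q.IsPrime := hq
    exact hprime q
  obtain ⟨n, hn⟩ := hnil
  have h3 := he.pow_succ_eq n
  rw [pow_succ, hn, zero_mul] at h3
  exact h3.symm

end Idem

section Main

open Groth.Agent.Lib.R2H7.FormalHom

variable (A : Type u) [CommRing A] [IsNoetherianRing A] (I : Ideal A) [IsAdicComplete I A]
  (C : Type u) [CommRing C] [HopfAlgebra A C] [IsCocomm A C]

theorem isIsotrivial_of_torsion_finite [Module.Flat A C] (hft : Algebra.FiniteType A C)
    (h0 : IsIsotrivial (A ⧸ I) ((A ⧸ I) ⊗[A] C))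
    (hfin : ∀ n : ℕ, 0 < n → Module.Finite A (C ⧸ torsionIdeal A C n)) : IsIsotrivial A C := by
  obtain ⟨e, he, hmemI, hH, hiso⟩ := exists_idem_isotrivial A I C hft
    (fun q _ _ => inferInstance) h0
  haveI := hH
  have hJ : ∀ n : ℕ, 0 < n → e ∈ torsionIdeal A C n := by
    intro n hn
    haveI := hfin n hn
    haveI : IsNoetherian A (C ⧸ torsionIdeal A C n) :=
      isNoetherian_of_isNoetherianRing_of_finite A _
    have h1 : Ideal.Quotient.mk (torsionIdeal A C n) e = 0 := by
      apply idem_eq_zero_of_mem_smul_top I (IsAdicComplete.le_jacobson_bot I) _ (he.map _)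
      rw [Ideal.smul_top_eq_map]
      change Ideal.Quotient.mk (torsionIdeal A C n) e ∈
        Ideal.map (algebraMap A (C ⧸ torsionIdeal A C n)) I
      have h2 := Ideal.mem_map_of_mem (Ideal.Quotient.mk (torsionIdeal A C n)) hmemI
      rw [Ideal.map_map] at h2
      exact h2
    exact Ideal.Quotient.eq_zero_iff_mem.mp h1
  have he0 : e = 0 := idem_eq_zero_of_forall_mem_torsionIdeal hft e he hiso hJ
  exact isIsotrivial_of_quotient_bot (Ideal.span {e})
    (by rw [he0]; exact Ideal.span_singleton_eq_bot.mpr rfl) hiso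

end Main

end Groth.Agent.Lib.R2H7.TorsPts
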