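import Mathlib
import Groth.Prelude.Def_SGA3b
import Groth.Agent.Lib.R2H7FibM
import Groth.Agent.Lib.R2H7FibE
import Groth.Agent.Lib.R2H7FibF
import Groth.Agent.Lib.R2H7TorsPts4
import Groth.Agent.Lib.Helper3IndEtFlat
import Groth.Agent.Lib.R2H7FormalHom9

/-!
# R2H7FibN: local forms of SGA3 X 4.7 with flatness only at the points of the closed fibre

* `local_case'`: `FibC.local_case` with `FlatAlong S 𝔪 C` instead of flatness of `C`.
* `exists_strict_ring`, `exists_strict_model'`: the Noetherian step.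
* `exists_local_of_sepClosed`: `R` any ring, `A` a finitely presented Hopf algebra, `L` a separably closed field
  over `R` with `L ⊗ A` of multiplicative type and `A` flat over `R` at the points over `V(ker (R → L))`; then there
  is a local ind-etale `R`-algebra `Λ` over that point carrying a diagonalisable clopen subgroup of `Λ ⊗ A`.
* `isMultType_of_connected_local` (S5298), `isMultType_of_torsion_local` (S5299).
-/

set_option autoImplicit false
set_option linter.style.haveILetI false
universe u

namespace Groth.Agent.Lib.R2H7.Fib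

open TensorProduct Coalgebra SGA3b IsLocalRing Groth.Agent.Lib.Helper25
  Groth.Agent.Lib.Helper3 Groth.Agent.Lib.Helper3.IndEt

section Local'

variable (S : Type u) [CommRing S] [IsNoetherianRing S] [HenselianLocalRing S]
  (C : Type u) [CommRing C] [HopfAlgebra S C]

/-- **The diagonalisable clopen subgroup**, with flatness only at the points of the closed fibre. -/
theorem local_case' (hfl : FlatAlong S (maximalIdeal S) C) (hft : Algebra.FiniteType S C)
    (M : Type u) [CommGroup M]
    (ε₀ : ResidueField S ⊗[S] C ≃ₐc[ResidueField S] MonoidAlgebra (ResidueField S) M) :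
    Monoid.FG M ∧ ∃ (Φ : C →ₐc[S] MonoidAlgebra S M) (e : C), Function.Surjective Φ ∧
      IsIdempotentElem e ∧ (∀ y : C, y ∈ Ideal.span {e} ↔ Φ y = 0) ∧
      e ∈ (maximalIdeal S).map (algebraMap S C) := by
  classical
  haveI := hft
  haveI : IsNoetherianRing (AdicCompletion (maximalIdeal S) S) :=
    Groth.Agent.Lib.Helper19.isNoetherianRing_adicCompletion _
  haveI : Module.FaithfullyFlat S (AdicCompletion (maximalIdeal S) S) :=
    Module.FaithfullyFlat.of_flat_of_isLocalHom
  -- `M` is finitely generated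
  haveI hftk : Algebra.FiniteType (ResidueField S) (ResidueField S ⊗[S] C) := inferInstance
  haveI : Algebra.FiniteType (ResidueField S) (MonoidAlgebra (ResidueField S) M) :=
    Algebra.FiniteType.equiv hftk ε₀.toAlgEquiv
  haveI hM : Monoid.FG M := MonoidAlgebra.fg_of_finiteType (R := ResidueField S)
  refine ⟨hM, ?_⟩
  -- the closed fibre is of multiplicative type
  have hs : IsMultType (ResidueField S) (ResidueField S ⊗[S] C) :=
    Groth.Agent.Lib.R2H7.HomLift.isMultType_of_equiv ε₀
      (Groth.Agent.Lib.R2H7.KerFT.isMultType_monoidAlgebra _ M)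
  -- the closed fibre over the completion
  letI : Algebra (ResidueField S) (ResidueField (AdicCompletion (maximalIdeal S) S)) :=
    (IsLocalRing.ResidueField.map (algebraMap S (AdicCompletion (maximalIdeal S) S))).toAlgebra
  haveI : IsScalarTower S (ResidueField S) (ResidueField (AdicCompletion (maximalIdeal S) S)) :=
    IsScalarTower.of_algebraMap_eq (fun a => rfl)
  let e1 : ResidueField (AdicCompletion (maximalIdeal S) S) ⊗[S] C ≃ₐc[
      ResidueField (AdicCompletion (maximalIdeal S) S)]
      MonoidAlgebra (ResidueField (AdicCompletion (maximalIdeal S) S)) M :=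
    ((BCB.cancelBC S (ResidueField S) (ResidueField (AdicCompletion (maximalIdeal S) S)) C).symm.trans
      (BCB.bcEquiv (ResidueField (AdicCompletion (maximalIdeal S) S)) ε₀)).trans
      (BCB.steBialg (ResidueField S) (ResidueField (AdicCompletion (maximalIdeal S) S)) M)
  let e0 : ResidueField (AdicCompletion (maximalIdeal S) S) ⊗[AdicCompletion (maximalIdeal S) S]
      (AdicCompletion (maximalIdeal S) S ⊗[S] C) ≃ₐc[
      ResidueField (AdicCompletion (maximalIdeal S) S)]
      MonoidAlgebra (ResidueField (AdicCompletion (maximalIdeal S) S)) M :=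
    (BCB.cancelBC S (AdicCompletion (maximalIdeal S) S)
      (ResidueField (AdicCompletion (maximalIdeal S) S)) C).trans e1
  obtain ⟨ΦT, eT, hΦTs, -, heTi, heTk, heTm, -⟩ :=
    Groth.Agent.Lib.R2H7.FormalHom.diag_case
      (maximalIdeal (AdicCompletion (maximalIdeal S) S)) e0
      (inferInstance : Algebra.FiniteType (AdicCompletion (maximalIdeal S) S)
        (AdicCompletion (maximalIdeal S) S ⊗[S] C))
      (fun n => Groth.Agent.Lib.R2H7.FormalHom.flat_level
        (maximalIdeal (AdicCompletion (maximalIdeal S) S))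
        (Groth.Agent.Lib.R2H7.HensFin.hfl_baseChange S (AdicCompletion (maximalIdeal S) S) C hfl) n)
  -- descend the homomorphism
  haveI : Algebra.FiniteType S (MonoidAlgebra S M) := MonoidAlgebra.finiteType_of_fg
  let φ' : AdicCompletion (maximalIdeal S) S ⊗[S] C →ₐc[AdicCompletion (maximalIdeal S) S]
      AdicCompletion (maximalIdeal S) S ⊗[S] MonoidAlgebra S M :=
    ((BCB.steBialg S (AdicCompletion (maximalIdeal S) S) M).symm : _ →ₐc[_] _).comp ΦT
  obtain ⟨φ, hφ⟩ := Groth.Agent.Lib.R2H7.HensFin.exists_hom_of_complete S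
    (AdicCompletion (maximalIdeal S) S) C
    (AdicCompletion.evalOneₐ (maximalIdeal S))
    (AdicCompletion.evalOneₐ_surjective _)
    (fun t ht => by
      have h1 : t ∈ RingHom.ker
          (AdicCompletion.evalOneₐ (maximalIdeal S)).toRingHom := ht
      rw [AdicCompletion.ker_evalOneₐ_eq_map _
        (maximalIdeal S).fg_of_isNoetherianRing,
        ← AdicCompletion.maximalIdeal_eq_map] at h1
      exact h1) (MonoidAlgebra S M) inferInstance
    (Groth.Agent.Lib.R2H7.KerFT.isMultType_monoidAlgebra S M) hft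
    hfl hs φ'
  -- the base change of `φ` is `φ'`
  have hφ'z : ∀ z : AdicCompletion (maximalIdeal S) S ⊗[S] C,
      φ' z = 0 ↔ z ∈ Ideal.span {eT} := by
    intro z
    rw [heTk]
    constructor
    · intro h
      have h2 : (BCB.steBialg S (AdicCompletion (maximalIdeal S) S) M).symm (ΦT z) = 0 := h
      rw [← map_zero (BCB.steBialg S (AdicCompletion (maximalIdeal S) S) M).symm] at h2
      exact (BCB.steBialg S (AdicCompletion (maximalIdeal S) S) M).symm.injective h2
    · intro h
      change (BCB.steBialg S (AdicCompletion (maximalIdeal S) S) M).symm (ΦT z) = 0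
      rw [h, map_zero]
  have hφ's : Function.Surjective φ' := by
    intro y
    obtain ⟨z, hz⟩ := hΦTs (BCB.steBialg S (AdicCompletion (maximalIdeal S) S) M y)
    refine ⟨z, ?_⟩
    change (BCB.steBialg S (AdicCompletion (maximalIdeal S) S) M).symm (ΦT z) = y
    rw [hz]
    exact (BCB.steBialg S (AdicCompletion (maximalIdeal S) S) M).symm_apply_apply y
  have hg : ∀ z : AdicCompletion (maximalIdeal S) S ⊗[S] C,
      Algebra.TensorProduct.map (AlgHom.id S (AdicCompletion (maximalIdeal S) S))
        (φ : C →ₐ[S] MonoidAlgebra S M) z = φ' z := by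
    intro z
    induction z using TensorProduct.induction_on with
    | zero => rw [map_zero, map_zero]
    | tmul t c =>
      have h1 : t ⊗ₜ[S] c = t • ((1 : AdicCompletion (maximalIdeal S) S) ⊗ₜ[S] c) := by
        rw [TensorProduct.smul_tmul', smul_eq_mul, mul_one]
      rw [Algebra.TensorProduct.map_tmul, h1, map_smul, hφ, TensorProduct.smul_tmul', smul_eq_mul,
        mul_one]
      rfl
    | add a b ha hb => rw [map_add, map_add, ha, hb]
  have hl : ∀ z : AdicCompletion (maximalIdeal S) S ⊗[S] C,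
      LinearMap.lTensor (AdicCompletion (maximalIdeal S) S)
        ((φ : C →ₐ[S] MonoidAlgebra S M) : C →ₗ[S] MonoidAlgebra S M) z = φ' z := by
    intro z
    rw [← hg]
    induction z using TensorProduct.induction_on with
    | zero => rw [map_zero, map_zero]
    | tmul t c => rfl
    | add a b ha hb => rw [map_add, map_add, ha, hb]
  -- `φ` is surjective
  have hφs : Function.Surjective φ := by
    have h1 : Function.Surjective (LinearMap.lTensor (AdicCompletion (maximalIdeal S) S)
        ((φ : C →ₐ[S] MonoidAlgebra S M) : C →ₗ[S] MonoidAlgebra S M)) := by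
      intro y
      obtain ⟨z, hz⟩ := hφ's y
      exact ⟨z, (hl z).trans hz⟩
    exact (Module.FaithfullyFlat.lTensor_surjective_iff_surjective S
      (AdicCompletion (maximalIdeal S) S) _).mp h1
  -- the kernel
  have hker : RingHom.ker (Algebra.TensorProduct.map
      (AlgHom.id S (AdicCompletion (maximalIdeal S) S)) (φ : C →ₐ[S] MonoidAlgebra S M)) =
      Ideal.map (Algebra.TensorProduct.includeRight :
        C →ₐ[S] AdicCompletion (maximalIdeal S) S ⊗[S] C)
        (RingHom.ker (φ : C →ₐ[S] MonoidAlgebra S M)) :=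
    Algebra.TensorProduct.lTensor_ker (R := S) (A := AdicCompletion (maximalIdeal S) S)
      (φ : C →ₐ[S] MonoidAlgebra S M) hφs
  have hmapK : Ideal.map (Algebra.TensorProduct.includeRight :
        C →ₐ[S] AdicCompletion (maximalIdeal S) S ⊗[S] C)
        (RingHom.ker (φ : C →ₐ[S] MonoidAlgebra S M)) = Ideal.span {eT} := by
    rw [← hker]
    ext z
    rw [RingHom.mem_ker, ← hφ'z z]
    constructor
    · intro h
      rw [← hg]
      exact h
    · intro h
      rw [← hg] at h
      exact h
  haveI : IsNoetherianRing C := Algebra.FiniteType.isNoetherianRing S C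
  have hKfg : (RingHom.ker (φ : C →ₐ[S] MonoidAlgebra S M)).FG :=
    (isNoetherianRing_iff_ideal_fg C).mp inferInstance _
  have hKK : IsIdempotentElem (RingHom.ker (φ : C →ₐ[S] MonoidAlgebra S M)) := by
    change RingHom.ker (φ : C →ₐ[S] MonoidAlgebra S M) *
      RingHom.ker (φ : C →ₐ[S] MonoidAlgebra S M) = RingHom.ker (φ : C →ₐ[S] MonoidAlgebra S M)
    apply ideal_eq_of_map_eq (S := S) (AdicCompletion (maximalIdeal S) S) Ideal.mul_le_right
    rw [Ideal.map_mul, hmapK, Ideal.span_singleton_mul_span_singleton, heTi.eq]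
  obtain ⟨e, hei, heK⟩ := (Ideal.isIdempotentElem_iff_of_fg _ hKfg).mp hKK
  refine ⟨φ, e, hφs, hei, fun y => ?_, ?_⟩
  · rw [← Ideal.submodule_span_eq, ← heK, RingHom.mem_ker]
    rfl
  · -- `e ∈ 𝔪 C`
    apply Groth.Agent.Lib.R2H7.FormalHom.mem_map_of_one_tmul_mem
      (A := S) (AdicCompletion (maximalIdeal S) S)
    have h1 : (1 : AdicCompletion (maximalIdeal S) S) ⊗ₜ[S] e ∈ Ideal.span {eT} := by
      rw [← hmapK]
      apply Ideal.mem_map_of_mem
        (Algebra.TensorProduct.includeRight : C →ₐ[S] AdicCompletion (maximalIdeal S) S ⊗[S] C)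
      rw [heK]
      exact Submodule.mem_span_singleton_self e
    have h2 : Ideal.span {eT} ≤ Ideal.map
        (algebraMap S (AdicCompletion (maximalIdeal S) S ⊗[S] C)) (maximalIdeal S) := by
      rw [Ideal.span_le, Set.singleton_subset_iff, SetLike.mem_coe]
      have h3 := heTm 1
      rw [pow_one, AdicCompletion.maximalIdeal_eq_map, Ideal.map_map,
        ← IsScalarTower.algebraMap_eq] at h3
      exact h3
    exact h2 h1

end Local'

section Strict

/-- The strict henselisation of a Noetherian ring at the point given by a separably closed field. -/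
theorem exists_strict_ring (R₁ : Type u) [CommRing R₁] [IsNoetherianRing R₁]
    (L : Type u) [Field L] [IsSepClosed L] [Algebra R₁ L] :
    ∃ (S₀ : Type u) (_ : CommRing S₀) (_ : IsNoetherianRing S₀) (_ : HenselianLocalRing S₀)
      (_ : Algebra R₁ S₀) (_ : Algebra S₀ L) (_ : IsScalarTower R₁ S₀ L),
      (∀ z : S₀, algebraMap S₀ L z = 0 ↔ z ∈ maximalIdeal S₀) ∧ Obj.Factor R₁ S₀ ∧
        IsSepClosed (ResidueField S₀) := by
  classical
  -- the prime
  let p₁ : Ideal R₁ := RingHom.ker (algebraMap R₁ L)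
  haveI hp₁ : p₁.IsPrime := RingHom.ker_isPrime _
  -- the local ring `R₀`
  haveI : IsNoetherianRing (Localization.AtPrime p₁) :=
    IsLocalization.isNoetherianRing p₁.primeCompl (Localization.AtPrime p₁) inferInstance
  have hunit : ∀ y : p₁.primeCompl, IsUnit (algebraMap R₁ L (y : R₁)) := by
    intro y
    rw [isUnit_iff_ne_zero]
    intro h0
    exact y.2 ((RingHom.mem_ker).mpr h0)
  let l₀ : Localization.AtPrime p₁ →+* L := IsLocalization.lift (M := p₁.primeCompl) hunit
  letI algR₀L : Algebra (Localization.AtPrime p₁) L := l₀.toAlgebra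
  haveI tw1 : IsScalarTower R₁ (Localization.AtPrime p₁) L :=
    IsScalarTower.of_algebraMap_eq (fun x => (IsLocalization.lift_eq hunit x).symm)
  have hkill : ∀ x ∈ maximalIdeal (Localization.AtPrime p₁),
      algebraMap (Localization.AtPrime p₁) L x = 0 := by
    intro x hx
    rw [← Localization.AtPrime.map_eq_maximalIdeal] at hx
    refine Submodule.span_induction ?_ ?_ ?_ ?_ hx
    · rintro _ ⟨a, ha, rfl⟩
      rw [← IsScalarTower.algebraMap_apply R₁ (Localization.AtPrime p₁) L]
      exact (RingHom.mem_ker).mp ha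
    · rw [map_zero]
    · intro a b _ _ ha hb
      rw [map_add, ha, hb, add_zero]
    · intro a b _ hb
      rw [smul_eq_mul, map_mul, hb, mul_zero]
  haveI loc₀ : IsLocalHom (algebraMap (Localization.AtPrime p₁) L) := by
    refine ⟨fun x hx => ?_⟩
    by_contra hnu
    have h0 := hkill x ((mem_maximalIdeal x).mpr hnu)
    rw [h0] at hx
    exact not_isUnit_zero hx
  letI algk₀L : Algebra (ResidueField (Localization.AtPrime p₁)) L :=
    (IsLocalRing.ResidueField.lift (algebraMap (Localization.AtPrime p₁) L)).toAlgebra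
  haveI tw2 : IsScalarTower (Localization.AtPrime p₁) (ResidueField (Localization.AtPrime p₁)) L :=
    IsScalarTower.of_algebraMap_eq (fun x => rfl)
  -- the separable closure inside `L`
  haveI tw3 : IsScalarTower (Localization.AtPrime p₁) (ResidueField (Localization.AtPrime p₁))
      (separableClosure (ResidueField (Localization.AtPrime p₁)) L) :=
    IsScalarTower.of_algebraMap_eq (fun x => Subtype.ext (by
      change algebraMap (Localization.AtPrime p₁) L x =
        algebraMap (ResidueField (Localization.AtPrime p₁)) L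
          (algebraMap (Localization.AtPrime p₁) (ResidueField (Localization.AtPrime p₁)) x)
      rw [← IsScalarTower.algebraMap_apply]))
  haveI : IsNoetherianRing (Sh.Rsh (Localization.AtPrime p₁)
      (separableClosure (ResidueField (Localization.AtPrime p₁)) L)) := inferInstance
  letI algS₀L : Algebra (Sh.Rsh (Localization.AtPrime p₁)
      (separableClosure (ResidueField (Localization.AtPrime p₁)) L)) L :=
    ((algebraMap (separableClosure (ResidueField (Localization.AtPrime p₁)) L) L).comp
      (Sh.toΩ (R := Localization.AtPrime p₁)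
        (Ω := separableClosure (ResidueField (Localization.AtPrime p₁)) L))).toAlgebra
  letI algR₁S₀ : Algebra R₁ (Sh.Rsh (Localization.AtPrime p₁)
      (separableClosure (ResidueField (Localization.AtPrime p₁)) L)) :=
    ((algebraMap (Localization.AtPrime p₁) (Sh.Rsh (Localization.AtPrime p₁)
      (separableClosure (ResidueField (Localization.AtPrime p₁)) L))).comp
      (algebraMap R₁ (Localization.AtPrime p₁))).toAlgebra
  haveI tw4 : IsScalarTower R₁ (Localization.AtPrime p₁) (Sh.Rsh (Localization.AtPrime p₁)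
      (separableClosure (ResidueField (Localization.AtPrime p₁)) L)) :=
    IsScalarTower.of_algebraMap_eq (fun x => rfl)
  have hS₀L : ∀ y : Localization.AtPrime p₁,
      algebraMap (Sh.Rsh (Localization.AtPrime p₁)
        (separableClosure (ResidueField (Localization.AtPrime p₁)) L)) L
        (algebraMap (Localization.AtPrime p₁) _ y) = algebraMap (Localization.AtPrime p₁) L y := by
    intro y
    change algebraMap (separableClosure (ResidueField (Localization.AtPrime p₁)) L) L
      (Sh.toΩ (algebraMap (Localization.AtPrime p₁) _ y)) = _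
    rw [Sh.toΩ_algebraMap]
    rfl
  haveI tw5 : IsScalarTower R₁ (Sh.Rsh (Localization.AtPrime p₁)
      (separableClosure (ResidueField (Localization.AtPrime p₁)) L)) L :=
    IsScalarTower.of_algebraMap_eq (fun x => by
      rw [IsScalarTower.algebraMap_apply R₁ (Localization.AtPrime p₁) (Sh.Rsh _ _), hS₀L,
        ← IsScalarTower.algebraMap_apply])
  have hker : ∀ z : Sh.Rsh (Localization.AtPrime p₁)
      (separableClosure (ResidueField (Localization.AtPrime p₁)) L),
      algebraMap _ L z = 0 ↔ z ∈ maximalIdeal _ := by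
    intro z
    rw [← Sh.toΩ_eq_zero_iff]
    change algebraMap (separableClosure (ResidueField (Localization.AtPrime p₁)) L) L
      (Sh.toΩ z) = 0 ↔ _
    rw [map_eq_zero_iff _ (algebraMap (separableClosure
      (ResidueField (Localization.AtPrime p₁)) L) L).injective]
  -- ind-etale
  have hF : Obj.Factor R₁ (Sh.Rsh (Localization.AtPrime p₁)
      (separableClosure (ResidueField (Localization.AtPrime p₁)) L)) :=
    factor_comp R₁ (Localization.AtPrime p₁) _
      (factor_localization R₁ (Localization.AtPrime p₁) p₁.primeCompl)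
      (factor_Rsh (Localization.AtPrime p₁) _)
  -- the closed fibre
  haveI locS₀ : IsLocalHom (algebraMap (Sh.Rsh (Localization.AtPrime p₁)
      (separableClosure (ResidueField (Localization.AtPrime p₁)) L)) L) := by
    refine ⟨fun x hx => ?_⟩
    by_contra hnu
    have h0 := (hker x).mpr ((mem_maximalIdeal x).mpr hnu)
    rw [h0] at hx
    exact not_isUnit_zero hx
  letI algκL : Algebra (ResidueField (Sh.Rsh (Localization.AtPrime p₁)
      (separableClosure (ResidueField (Localization.AtPrime p₁)) L))) L :=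
    (IsLocalRing.ResidueField.lift (algebraMap (Sh.Rsh (Localization.AtPrime p₁)
      (separableClosure (ResidueField (Localization.AtPrime p₁)) L)) L)).toAlgebra
  haveI tw6 : IsScalarTower (Sh.Rsh (Localization.AtPrime p₁)
      (separableClosure (ResidueField (Localization.AtPrime p₁)) L))
      (ResidueField (Sh.Rsh (Localization.AtPrime p₁)
      (separableClosure (ResidueField (Localization.AtPrime p₁)) L))) L :=
    IsScalarTower.of_algebraMap_eq (fun x => rfl)
  haveI : Module.Flat R₁ (Sh.Rsh (Localization.AtPrime p₁)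
      (separableClosure (ResidueField (Localization.AtPrime p₁)) L)) :=
    Module.Flat.trans R₁ (Localization.AtPrime p₁) _
  haveI : IsSepClosed (ResidueField (Sh.Rsh (Localization.AtPrime p₁)
      (separableClosure (ResidueField (Localization.AtPrime p₁)) L))) :=
    IsSepClosure.sep_closed (ResidueField (Localization.AtPrime p₁))
  exact ⟨Sh.Rsh (Localization.AtPrime p₁)
      (separableClosure (ResidueField (Localization.AtPrime p₁)) L), inferInstance, inferInstance,
    inferInstance, algR₁S₀, algS₀L, tw5, hker, hF, inferInstance⟩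

end Strict

section Model

/-- The Noetherian step, with flatness only over the point. -/
theorem exists_strict_model' (R₁ : Type u) [CommRing R₁] [IsNoetherianRing R₁]
    (A₁ : Type u) [CommRing A₁] [HopfAlgebra R₁ A₁] (hft : Algebra.FiniteType R₁ A₁)
    (L : Type u) [Field L] [IsSepClosed L] [Algebra R₁ L]
    (hflA : FlatAlong R₁ (RingHom.ker (algebraMap R₁ L)) A₁)
    (hL : IsMultType L (L ⊗[R₁] A₁)) :
    ∃ (S₀ : Type u) (_ : CommRing S₀) (_ : IsLocalRing S₀) (_ : Algebra R₁ S₀) (_ : Algebra S₀ L)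
      (_ : IsScalarTower R₁ S₀ L) (M : Type u) (_ : CommGroup M),
      (∀ z : S₀, algebraMap S₀ L z = 0 ↔ z ∈ maximalIdeal S₀) ∧ Obj.Factor R₁ S₀ ∧
        Monoid.FG M ∧ HasClopenDiag S₀ (S₀ ⊗[R₁] A₁) M := by
  classical
  haveI := hft
  obtain ⟨S₀, _, _, _, _, _, tw, hker, hF, hsc⟩ := exists_strict_ring R₁ L
  haveI := hsc
  haveI locS₀ : IsLocalHom (algebraMap S₀ L) := by
    refine ⟨fun x hx => ?_⟩
    by_contra hnu
    have h0 := (hker x).mpr ((mem_maximalIdeal x).mpr hnu)
    rw [h0] at hx
    exact not_isUnit_zero hx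
  letI algκL : Algebra (ResidueField S₀) L :=
    (IsLocalRing.ResidueField.lift (algebraMap S₀ L)).toAlgebra
  haveI tw6 : IsScalarTower S₀ (ResidueField S₀) L :=
    IsScalarTower.of_algebraMap_eq (fun x => rfl)
  have h1 : IsMultType L (L ⊗[S₀] (S₀ ⊗[R₁] A₁)) :=
    Groth.Agent.Lib.R2H7.HomLift.isMultType_of_equiv (BCB.cancelBC R₁ S₀ L A₁) hL
  have h2 := isMultType_of_field_tower S₀ (S₀ ⊗[R₁] A₁) (ResidueField S₀) L h1
  obtain ⟨M, _, ⟨ε₀⟩⟩ := isDiag_of_isSepClosed _ _ inferInstance h2
  have hfl' : FlatAlong S₀ (maximalIdeal S₀) (S₀ ⊗[R₁] A₁) := by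
    apply FlatAlong.baseChange S₀ (maximalIdeal S₀) _ hflA
    rw [Ideal.map_le_iff_le_comap]
    intro r hr
    rw [Ideal.mem_comap, ← hker, ← IsScalarTower.algebraMap_apply R₁ S₀ L]
    exact hr
  obtain ⟨hM, hcd⟩ := local_case' S₀ (S₀ ⊗[R₁] A₁) hfl' inferInstance M ε₀
  exact ⟨S₀, inferInstance, inferInstance, inferInstance, inferInstance, tw, M, inferInstance,
    hker, hF, hM, hcd⟩

/-- **The ind-etale local ring over a point of multiplicative type**, flatness only over the point. -/
theorem exists_local_of_sepClosed (R : Type u) [CommRing R] (A : Type u) [CommRing A]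
    [HopfAlgebra R A] (hfp : Algebra.FinitePresentation R A)
    (L : Type u) [Field L] [IsSepClosed L] [Algebra R L]
    (hfl : FlatAlong R (RingHom.ker (algebraMap R L)) A) (hL : IsMultType L (L ⊗[R] A)) :
    ∃ (Λ : Type u) (_ : CommRing Λ) (_ : IsLocalRing Λ) (_ : Algebra R Λ) (M : Type u)
      (_ : CommGroup M), (maximalIdeal Λ).comap (algebraMap R Λ) = RingHom.ker (algebraMap R L) ∧
        Obj.Factor R Λ ∧ Monoid.FG M ∧ HasClopenDiag Λ (Λ ⊗[R] A) M := by
  classical
  haveI := hfp
  obtain ⟨R₁, _, _, A₁, _, _, hR₁, hA₁ft, ⟨ι⟩⟩ := hopf_model_nf R A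
  have hfl1 : FlatAlong R (RingHom.ker (algebraMap R L)) (R ⊗[R₁] A₁) :=
    FlatAlong.of_algEquiv ι.symm.toAlgEquiv hfl
  obtain ⟨R₃, _, _, _, tw13, hR₃, hfl3⟩ :=
    exists_flatAlong_model R₁ R hR₁ (RingHom.ker (algebraMap R L)) A₁ hA₁ft hfl1
  haveI := hA₁ft
  haveI : IsNoetherianRing R₃ := Algebra.FiniteType.isNoetherianRing ℤ R₃
  letI algR₃L : Algebra R₃ L := ((algebraMap R L).comp (algebraMap R₃ R)).toAlgebra
  haveI tw3 : IsScalarTower R₃ R L := IsScalarTower.of_algebraMap_eq (fun x => rfl)
  have hker3 : RingHom.ker (algebraMap R₃ L) =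
      (RingHom.ker (algebraMap R L)).comap (algebraMap R₃ R) := by
    ext r
    rw [RingHom.mem_ker, Ideal.mem_comap, RingHom.mem_ker,
      IsScalarTower.algebraMap_apply R₃ R L]
  have hft3 : Algebra.FiniteType R₃ (R₃ ⊗[R₁] A₁) := inferInstance
  let ι₃ : R ⊗[R₃] (R₃ ⊗[R₁] A₁) ≃ₐc[R] A := (BCB.cancelBC R₁ R₃ R A₁).trans ι
  have hL3 : IsMultType L (L ⊗[R₃] (R₃ ⊗[R₁] A₁)) :=
    Groth.Agent.Lib.R2H7.HomLift.isMultType_of_equiv
      ((BCB.cancelBC R₃ R L (R₃ ⊗[R₁] A₁)).symm.trans (BCB.bcEquiv L ι₃)) hL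
  obtain ⟨S₀, _, _, _, _, _, M, _, hS₀ker, hS₀F, hM, hcd⟩ :=
    exists_strict_model' R₃ (R₃ ⊗[R₁] A₁) hft3 L (hker3 ▸ hfl3) hL3
  obtain ⟨Λ, _, _, _, _, _, _, _, _, hcomap, hΛF⟩ :=
    exists_local_of_field R₃ R S₀ L hS₀ker hS₀F
  refine ⟨Λ, inferInstance, inferInstance, inferInstance, M, inferInstance, hcomap, hΛF, hM, ?_⟩
  exact (hcd.baseChange Λ).of_equiv
    ((BCB.bcEquiv Λ ι₃).symm.trans ((BCB.cancelBC R₃ R Λ (R₃ ⊗[R₁] A₁)).trans
      (BCB.cancelBC R₃ S₀ Λ (R₃ ⊗[R₁] A₁)).symm))

end Model

section Quot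

variable {A : Type u} [CommRing A] {C : Type u} [CommRing C] [HopfAlgebra A C]
  {M : Type u} [CommGroup M]

/-- The ideal of a diagonalisable clopen subgroup is a Hopf ideal with isotrivial quotient. -/
theorem isHopfIdeal_and_isIsotrivial_of_clopen (Φ : C →ₐc[A] MonoidAlgebra A M)
    (hs : Function.Surjective Φ) (e : C) (hi : IsIdempotentElem e)
    (hk : ∀ y : C, y ∈ Ideal.span {e} ↔ Φ y = 0) :
    ∃ _ : (Ideal.span {e}).IsHopfIdeal A, IsIsotrivial A (C ⧸ Ideal.span {e}) := by
  let Φ' : A ⊗[A] C →ₐc[A] MonoidAlgebra A M :=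
    Φ.comp ((Bialgebra.TensorProduct.lid A C : A ⊗[A] C ≃ₐc[A] C) : A ⊗[A] C →ₐc[A] C)
  have hΦ' : ∀ z, Φ' z = Φ (Bialgebra.TensorProduct.lid A C z) := fun z => rfl
  have hs' : Function.Surjective Φ' := by
    intro y
    obtain ⟨c, hc⟩ := hs y
    refine ⟨(1 : A) ⊗ₜ[A] c, ?_⟩
    rw [hΦ', Bialgebra.TensorProduct.lid_tmul, one_smul, hc]
  have he' : IsIdempotentElem ((1 : A) ⊗ₜ[A] e) := by
    change (1 : A) ⊗ₜ[A] e * (1 : A) ⊗ₜ[A] e = (1 : A) ⊗ₜ[A] e
    rw [Algebra.TensorProduct.tmul_mul_tmul, one_mul, hi.eq]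
  have hk' : ∀ y, y ∈ Ideal.span {(1 : A) ⊗ₜ[A] e} ↔ Φ' y = 0 := by
    intro y
    rw [hΦ', ← hk, Ideal.mem_span_singleton', Ideal.mem_span_singleton']
    constructor
    · rintro ⟨a, rfl⟩
      refine ⟨Bialgebra.TensorProduct.lid A C a, ?_⟩
      rw [map_mul, Bialgebra.TensorProduct.lid_tmul, one_smul]
    · rintro ⟨b, hb⟩
      refine ⟨(1 : A) ⊗ₜ[A] b, ?_⟩
      have h1 : Bialgebra.TensorProduct.lid A C ((1 : A) ⊗ₜ[A] b * (1 : A) ⊗ₜ[A] e) =
          Bialgebra.TensorProduct.lid A C y := by
        rw [Algebra.TensorProduct.tmul_mul_tmul, one_mul, Bialgebra.TensorProduct.lid_tmul,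
          one_smul, hb]
      exact (Bialgebra.TensorProduct.lid A C).injective h1
  have hH : (Ideal.span {e}).IsHopfIdeal A :=
    Groth.Agent.Lib.R2H7.FormalHom.isHopfIdeal_span A Φ' hs' e he' hk'
  refine ⟨hH, ?_⟩
  haveI := hH
  have hD : IsDiag A (A ⊗[A] (C ⧸ Ideal.span {e})) :=
    Groth.Agent.Lib.R2H7.FormalHom.isDiag_quotient A Φ' hs' e hk'
  exact ⟨A, inferInstance, inferInstance, inferInstance, inferInstance, inferInstance, hD⟩

end Quot

section Cases'

variable (R : Type u) [CommRing R] (A : Type u) [CommRing A] [HopfAlgebra R A]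
  (Λ : Type u) [CommRing Λ] [IsLocalRing Λ] [Algebra R Λ] {M : Type u} [CommGroup M]

/-- Finite torsion subgroups, without any hypothesis on the fibres. -/
theorem nonempty_equiv_of_torsion' [IsCocomm R A] (hft : Algebra.FiniteType R A)
    (hfin : ∀ n : ℕ, 0 < n → Module.Finite R (A ⧸ torsionIdeal R A n))
    (h : HasClopenDiag Λ (Λ ⊗[R] A) M) :
    Nonempty (Λ ⊗[R] A ≃ₐc[Λ] MonoidAlgebra Λ M) := by
  haveI := hft
  obtain ⟨Φ, e, hs, hi, hk, hm⟩ := h
  -- `e` lies in all torsion ideals
  have hA : ∀ n : ℕ, 0 < n → e ∈ torsionIdeal Λ (Λ ⊗[R] A) n := by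
    intro n hn
    haveI := hfin n hn
    have h1 : bcQ Λ (torsionIdeal R A n) e = 0 :=
      Groth.Agent.Lib.R2H7.HensFin.idem_eq_zero_of_mem_map (A := Λ)
        (hi.map (bcQ Λ (torsionIdeal R A n)))
        (Groth.Agent.Lib.R2H7.HensFin.algHom_mem_map
          (bcQ Λ (torsionIdeal R A n)) _ hm)
    have h2 := (bcQ_eq_zero_iff e).mp h1
    have h3 : (torsionIdeal R A n).map
        (Algebra.TensorProduct.includeRight : A →ₐ[R] Λ ⊗[R] A) ≤
        torsionIdeal Λ (Λ ⊗[R] A) n := by
      rw [Ideal.map_le_iff_le_comap]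
      intro a ha
      exact Groth.Agent.Lib.Helper25.Tors.one_tmul_mem_torsionIdeal Λ n ha
    exact h3 h2
  obtain ⟨hH, hiso⟩ := isHopfIdeal_and_isIsotrivial_of_clopen Φ hs e hi hk
  haveI := hH
  have he0 : e = 0 :=
    Groth.Agent.Lib.R2H7.TorsPts.idem_eq_zero_of_forall_mem_torsionIdeal
      (inferInstance : Algebra.FiniteType Λ (Λ ⊗[R] A)) e hi hiso hA
  have hinj : Function.Injective Φ := by
    rw [injective_iff_map_eq_zero]
    intro y hy
    have h1 := (hk y).mpr hy
    rw [he0, Ideal.mem_span_singleton'] at h1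
    obtain ⟨a, ha⟩ := h1
    rw [← ha, mul_zero]
  exact ⟨BialgEquiv.ofBijective Φ ⟨hinj, hs⟩⟩

end Cases'

section Final

variable (R : Type u) [CommRing R] [IsLocalRing R] (C : Type u) [CommRing C] [HopfAlgebra R C]

/-- The common part: the local ind-etale faithfully flat algebra carrying the clopen subgroup. -/
theorem exists_local_faithfullyFlat (hfp : Algebra.FinitePresentation R C)
    (hfl : FlatAlong R (maximalIdeal R) C)
    (hs : IsMultType (ResidueField R) (ResidueField R ⊗[R] C)) :
    ∃ (Λ : Type u) (_ : CommRing Λ) (_ : IsLocalRing Λ) (_ : Algebra R Λ) (M : Type u)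
      (_ : CommGroup M), Module.FaithfullyFlat R Λ ∧ HasClopenDiag Λ (Λ ⊗[R] C) M := by
  have hkerL : RingHom.ker (algebraMap R (AlgebraicClosure (ResidueField R))) =
      maximalIdeal R := by
    ext r
    rw [RingHom.mem_ker,
      IsScalarTower.algebraMap_apply R (ResidueField R) (AlgebraicClosure (ResidueField R)),
      map_eq_zero_iff _ (algebraMap (ResidueField R) (AlgebraicClosure (ResidueField R))).injective]
    exact IsLocalRing.residue_eq_zero_iff r
  have hL : IsMultType (AlgebraicClosure (ResidueField R))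
      (AlgebraicClosure (ResidueField R) ⊗[R] C) :=
    Groth.Agent.Lib.R2H7.HomLift.isMultType_tower (X := ResidueField R) hs
  obtain ⟨Λ, _, _, _, M, _, hcomap, hF, -, hcd⟩ :=
    exists_local_of_sepClosed R C hfp (AlgebraicClosure (ResidueField R)) (hkerL ▸ hfl) hL
  rw [hkerL] at hcomap
  haveI : Module.Flat R Λ := flat_of_factor' hF
  haveI : IsLocalHom (algebraMap R Λ) :=
    ((IsLocalRing.local_hom_TFAE (algebraMap R Λ)).out 0 4).mpr hcomap
  haveI : Module.FaithfullyFlat R Λ := Module.FaithfullyFlat.of_flat_of_isLocalHom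
  exact ⟨Λ, inferInstance, inferInstance, inferInstance, M, inferInstance, inferInstance, hcd⟩

/-- **SGA3 X 4.7 (c), local form** (S5298). -/
theorem isMultType_of_connected_local (hfp : Algebra.FinitePresentation R C)
    (hfl : FlatAlong R (maximalIdeal R) C)
    (hs : IsMultType (ResidueField R) (ResidueField R ⊗[R] C))
    (hconn : ∀ (p : Ideal R) [p.IsPrime], ConnectedSpace (PrimeSpectrum (p.ResidueField ⊗[R] C))) :
    IsMultType R C := by
  obtain ⟨Λ, _, _, _, M, _, hff, hcd⟩ := exists_local_faithfullyFlat R C hfp hfl hs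
  obtain ⟨ε⟩ := nonempty_equiv_of_connected R C Λ hconn hcd
  exact BCB.isMultType_of_isMultTypeConst R C
    ⟨Λ, inferInstance, inferInstance, hff, M, inferInstance, ⟨ε⟩⟩

/-- **SGA3 X 4.7 (b), local form** (S5299). -/
theorem isMultType_of_torsion_local [IsCocomm R C] (hfp : Algebra.FinitePresentation R C)
    (hfl : FlatAlong R (maximalIdeal R) C)
    (hs : IsMultType (ResidueField R) (ResidueField R ⊗[R] C))
    (hfin : ∀ n : ℕ, 0 < n → Module.Finite R (C ⧸ torsionIdeal R C n)) :
    IsMultType R C := by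
  obtain ⟨Λ, _, _, _, M, _, hff, hcd⟩ := exists_local_faithfullyFlat R C hfp hfl hs
  haveI := hfp
  obtain ⟨ε⟩ := nonempty_equiv_of_torsion' R C Λ inferInstance hfin hcd
  exact BCB.isMultType_of_isMultTypeConst R C
    ⟨Λ, inferInstance, inferInstance, hff, M, inferInstance, ⟨ε⟩⟩

end Final

end Groth.Agent.Lib.R2H7.Fib
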