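import Mathlib
import Groth.Prelude.Def_FlatMod2
import Groth.Prelude.Def_CohB1
import Groth.Agent.Lib.H6xKProjB
import Groth.Agent.Lib.H6xPerfLoc
import Groth.Agent.Lib.R2H2PullLF
import Groth.Agent.Lib.Helper21RetractFree
import Groth.Agent.Lib.Helper23FinTypeLocal
import Groth.Agent.Lib.Helper23QCohAbelian
import Groth.Agent.Lib.Helper26ModLocFree
import Groth.Agent.Lib.R2H2DevA
import Groth.Agent.Lib.R2H4AmplePos
import Groth.Agent.S0020

/-!
# helper7: pulling back a monomorphism with locally free cokernel along a morphism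

* `exists_section_of_epi`: on an affine scheme an epimorphism from a quasi-coherent module onto a
  finite locally free module has a section.
* `mono_pullback_map`: if `g : A ⟶ B` is a monomorphism into a quasi-coherent module whose cokernel
  is finite locally free over an affine open `W` containing the image of `ξ : T ⟶ X`, then
  `ξ^* g` is a monomorphism.
* `nonempty_pullback_iso_freeMod`, `not_isZero_freeMod`, `eq_univ_of_dim_eq`.
-/

set_option autoImplicit false
universe u
open CategoryTheory CategoryTheory.Limits AlgebraicGeometry TopologicalSpace Opposite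

namespace Groth.Agent.Lib.R2H7.FibreMono

open Groth.Agent.Lib.Helper21

/-- a short exact sequence with a section of the epimorphism has a retraction of the
monomorphism -/
theorem retraction_of_section {C : Type*} [Category C] [Abelian C] (S : ShortComplex C)
    (hS : S.ShortExact) (σ : S.X₃ ⟶ S.X₂) (hσ : σ ≫ S.g = 𝟙 S.X₃) :
    ∃ ρ : S.X₂ ⟶ S.X₁, S.f ≫ ρ = 𝟙 S.X₁ :=
  ⟨_, (ShortComplex.Splitting.ofExactOfSection S hS.exact σ hσ hS.mono_f).f_r⟩

section Affine

variable {X : Scheme.{u}}

/-- on an affine scheme an epimorphism from a quasi-coherent module onto a finite locally free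
module has a section -/
theorem exists_section_of_epi [IsAffine X] {M P : X.Modules} [M.IsQuasicoherent] (p : M ⟶ P)
    [Epi p] (hP : FlatMod.IsFinLocFree P) : ∃ s : P ⟶ M, s ≫ p = 𝟙 P := by
  haveI : P.IsQuasicoherent := Groth.Agent.Lib.R2H2.PullLF.isQuasicoherent_of_isFinLocFree P hP
  obtain ⟨n, i, r, hir⟩ := Groth.Agent.Lib.H6xKProj.exists_retract_freeMod P hP
  have hsurj : Function.Surjective (p.app ⊤) :=
    Groth.Agent.Lib.Helper23.FinType.surjective_app_of_epi p (isAffineOpen_top X)
  choose t ht using fun j => hsurj (RetractFree.homEquiv X n P r j)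
  have h1 : RetractFree.homEquiv X n M ((RetractFree.homEquiv X n M).symm t) = t :=
    (RetractFree.homEquiv X n M).apply_symm_apply t
  have hl : (RetractFree.homEquiv X n M).symm t ≫ p = r := by
    apply (RetractFree.homEquiv X n P).injective
    funext j
    calc RetractFree.homEquiv X n P ((RetractFree.homEquiv X n M).symm t ≫ p) j
        = p.app ⊤ (RetractFree.homEquiv X n M ((RetractFree.homEquiv X n M).symm t) j) := rfl
      _ = p.app ⊤ (t j) := by rw [h1]
      _ = RetractFree.homEquiv X n P r j := ht j
  exact ⟨i ≫ (RetractFree.homEquiv X n M).symm t, by rw [Category.assoc, hl, hir]⟩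

end Affine

section Restrict

variable {X : Scheme.{u}}

theorem shortExact_map_restrict (U : X.Opens) (S : ShortComplex X.Modules) (hS : S.ShortExact) :
    (S.map (Scheme.Modules.restrictFunctor U.ι)).ShortExact := by
  haveI := Groth.Agent.Lib.Helper23.QCohLocal.restrictFunctor_isRightAdjoint U.ι
  haveI : PreservesFiniteLimits (Scheme.Modules.restrictFunctor U.ι) := inferInstance
  haveI : PreservesFiniteColimits (Scheme.Modules.restrictFunctor U.ι) := inferInstance
  exact hS.map_of_exact _

/-- finite local freeness over an open passes to smaller opens -/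
theorem isFinLocFree_restrict_of_le {U W : X.Opens} (h : W ≤ U) (M : X.Modules)
    (hM : FlatMod.IsFinLocFree (M.restrict U.ι)) : FlatMod.IsFinLocFree (M.restrict W.ι) := by
  have h1 := Groth.Agent.Lib.H6xPerfLoc.isFinLocFree_restrict (X.homOfLE h) (M.restrict U.ι) hM
  have hfac : X.homOfLE h ≫ U.ι = W.ι := X.homOfLE_ι h
  exact Groth.Agent.Lib.Helper26.ModLocFree.isFinLocFree_of_iso
    (((Scheme.Modules.restrictFunctorComp (X.homOfLE h) U.ι).app M).symm ≪≫
      (Scheme.Modules.restrictFunctorCongr hfac).app M) h1

/-- the pullback of a module which is free over an open containing the image is free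
(copied from helper6's `H6xEulerPtB`) -/
theorem nonempty_pullback_iso_freeMod {Z Y : Scheme.{u}} (g : Z ⟶ Y) (U : Y.Opens)
    (hg : Set.range g ⊆ U) (F : Y.Modules) (n : ℕ)
    (e : F.restrict U.ι ≅ FlatMod.freeMod (U : Scheme.{u}) n) :
    Nonempty ((Scheme.Modules.pullback g).obj F ≅ FlatMod.freeMod Z n) := by
  let g' : Z ⟶ (U : Scheme.{u}) := IsOpenImmersion.lift U.ι g (by simpa using hg)
  have hfac : g' ≫ U.ι = g := IsOpenImmersion.lift_fac _ _ _
  exact ⟨(Scheme.Modules.pullbackCongr hfac.symm).app F ≪≫
    ((Scheme.Modules.pullbackComp g' U.ι).app F).symm ≪≫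
    (Scheme.Modules.pullback g').mapIso
      (((Scheme.Modules.restrictFunctorIsoPullback U.ι).app F).symm ≪≫ e) ≪≫
    Groth.Agent.Lib.R2H2.PullLF.pullbackFreeIso g' n⟩

/-- the pullback of a module which is free over an open subscheme containing the image is free -/
theorem nonempty_pullback_iso_freeMod' {T Z Y : Scheme.{u}} (g : T ⟶ Y) (j : Z ⟶ Y)
    [IsOpenImmersion j] (hg : Set.range g.base ⊆ Set.range j.base) (F : Y.Modules) (n : ℕ)
    (e : F.restrict j ≅ FlatMod.freeMod Z n) :
    Nonempty ((Scheme.Modules.pullback g).obj F ≅ FlatMod.freeMod T n) := by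
  let g' : T ⟶ Z := IsOpenImmersion.lift j g hg
  have hfac : g' ≫ j = g := IsOpenImmersion.lift_fac _ _ _
  exact ⟨(Scheme.Modules.pullbackCongr hfac.symm).app F ≪≫
    ((Scheme.Modules.pullbackComp g' j).app F).symm ≪≫
    (Scheme.Modules.pullback g').mapIso
      (((Scheme.Modules.restrictFunctorIsoPullback j).app F).symm ≪≫ e) ≪≫
    Groth.Agent.Lib.R2H2.PullLF.pullbackFreeIso g' n⟩

/-- **pulling back a monomorphism with locally free cokernel** -/
theorem mono_pullback_map {T : Scheme.{u}} (ξ : T ⟶ X) (W : X.Opens) (hW : IsAffineOpen W)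
    (hξ : Set.range ξ ⊆ W) {A B : X.Modules} (g : A ⟶ B) [Mono g] [B.IsQuasicoherent]
    (hC : FlatMod.IsFinLocFree ((cokernel g).restrict W.ι)) :
    Mono ((Scheme.Modules.pullback ξ).map g) := by
  haveI : IsAffine (W : Scheme.{u}) := hW
  let S : ShortComplex X.Modules := ShortComplex.mk g (cokernel.π g) (cokernel.condition g)
  have hS : S.ShortExact :=
    { exact := ShortComplex.exact_cokernel g
      mono_f := inferInstanceAs (Mono g)
      epi_g := inferInstanceAs (Epi (cokernel.π g)) }
  have hS' := shortExact_map_restrict W S hS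
  haveI : Epi ((Scheme.Modules.restrictFunctor W.ι).map (cokernel.π g)) := hS'.epi_g
  obtain ⟨σ, hσ⟩ := exists_section_of_epi
    ((Scheme.Modules.restrictFunctor W.ι).map (cokernel.π g)) hC
  obtain ⟨ρ, hρ'⟩ : ∃ ρ : (Scheme.Modules.restrictFunctor W.ι).obj B ⟶
      (Scheme.Modules.restrictFunctor W.ι).obj A,
      (Scheme.Modules.restrictFunctor W.ι).map g ≫ ρ =
        𝟙 ((Scheme.Modules.restrictFunctor W.ι).obj A) := retraction_of_section _ hS' σ hσ
  let ξW : T ⟶ (W : Scheme.{u}) := IsOpenImmersion.lift W.ι ξ (by simpa using hξ)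
  have hfac : ξW ≫ W.ι = ξ := IsOpenImmersion.lift_fac _ _ _
  let η : Scheme.Modules.pullback ξ ≅
      Scheme.Modules.restrictFunctor W.ι ⋙ Scheme.Modules.pullback ξW :=
    Scheme.Modules.pullbackCongr hfac.symm ≪≫ (Scheme.Modules.pullbackComp ξW W.ι).symm ≪≫
      Functor.isoWhiskerRight (Scheme.Modules.restrictFunctorIsoPullback W.ι).symm
        (Scheme.Modules.pullback ξW)
  haveI : Mono ((Scheme.Modules.pullback ξW).map ((Scheme.Modules.restrictFunctor W.ι).map g)) := by
    have hsplit : (Scheme.Modules.pullback ξW).map ((Scheme.Modules.restrictFunctor W.ι).map g) ≫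
        (Scheme.Modules.pullback ξW).map ρ = 𝟙 _ := by
      rw [← CategoryTheory.Functor.map_comp, hρ']
      exact CategoryTheory.Functor.map_id _ _
    exact (SplitMono.mk _ hsplit).mono
  have hnat := NatIso.naturality_2 η g
  rw [← hnat]
  haveI : Mono ((Scheme.Modules.restrictFunctor W.ι ⋙ Scheme.Modules.pullback ξW).map g) := by
    rw [Functor.comp_map]
    infer_instance
  infer_instance

end Restrict

section Free

theorem isZero_freeMod_zero (Z : Scheme.{u}) : IsZero (FlatMod.freeMod Z 0) := by
  rw [IsZero.iff_id_eq_zero]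
  apply Sigma.hom_ext
  intro j
  exact j.elim0

/-- a free module of positive rank on a nonempty scheme is not zero -/
theorem not_isZero_freeMod (Z : Scheme.{u}) [Nonempty Z] (n : ℕ) (hn : 0 < n) :
    ¬ IsZero (FlatMod.freeMod Z n) := by
  intro hz
  have h1 := RetractFree.ι_π Z n ⟨0, hn⟩ ⟨0, hn⟩
  rw [if_pos rfl] at h1
  apply Groth.Agent.Lib.R2H4AmplePos.id_structureModule_ne_zero (X := Z)
  rw [← h1, hz.eq_of_tgt (RetractFree.ι Z n ⟨0, hn⟩) 0, Limits.zero_comp]

end Free

section Dim

/-- a closed subset of an irreducible space of finite dimension with the same dimension is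
everything -/
theorem eq_univ_of_dim_eq {X : Type*} [TopologicalSpace X] [IrreducibleSpace X] (Z : Set X)
    (hZ : IsClosed Z) (d : ℕ) (hX : topologicalKrullDim X = (d : WithBot ℕ∞))
    (hZd : topologicalKrullDim Z = (d : WithBot ℕ∞)) : Z = Set.univ := by
  by_contra hne
  haveI : Nonempty (IrreducibleCloseds Z) := by
    by_contra hemp
    rw [not_nonempty_iff] at hemp
    have : topologicalKrullDim Z = ⊥ := Order.krullDim_eq_bot
    rw [hZd] at this
    exact absurd this (by simp)
  let top : IrreducibleCloseds X := ⟨Set.univ, (IrreducibleSpace.isIrreducible_univ X), isClosed_univ⟩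
  let φ : WithTop (IrreducibleCloseds Z) → IrreducibleCloseds X := fun c =>
    match c with
    | ⊤ => top
    | (c : IrreducibleCloseds Z) => IrreducibleCloseds.map Subtype.val continuous_subtype_val c
  have hsub : ∀ c : IrreducibleCloseds Z,
      ((IrreducibleCloseds.map Subtype.val continuous_subtype_val c : IrreducibleCloseds X) : Set X)
        ⊆ Z := by
    intro c
    rw [IrreducibleCloseds.coe_map]
    refine closure_minimal ?_ hZ
    rintro _ ⟨z, -, rfl⟩
    exact z.2
  have hφ : StrictMono φ := by
    intro a b hab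
    induction a using WithTop.recTopCoe with
    | top => exact absurd hab (not_top_lt)
    | coe a =>
      induction b using WithTop.recTopCoe with
      | top =>
        refine lt_of_le_of_ne (fun x _ => Set.mem_univ x) ?_
        intro heq
        apply hne
        have h2 : (Set.univ : Set X) ⊆ Z := by
          have h3 := hsub a
          have h4 : ((IrreducibleCloseds.map Subtype.val continuous_subtype_val a :
              IrreducibleCloseds X) : Set X) = Set.univ := congrArg (fun t : IrreducibleCloseds X => (t : Set X)) heq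
          rwa [h4] at h3
        exact Set.eq_univ_of_univ_subset h2
      | coe b =>
        exact IrreducibleCloseds.map_strictMono_of_isInducing Topology.IsInducing.subtypeVal
          (WithTop.coe_lt_coe.1 hab)
  have h1 := Order.krullDim_le_of_strictMono φ hφ
  rw [Order.krullDim_WithTop] at h1
  change topologicalKrullDim Z + 1 ≤ topologicalKrullDim X at h1
  rw [hX, hZd] at h1
  have h2 : ((d : ℕ∞) : WithBot ℕ∞) + 1 ≤ ((d : ℕ∞) : WithBot ℕ∞) := h1
  have h3 : ((d + 1 : ℕ) : WithBot ℕ∞) ≤ ((d : ℕ) : WithBot ℕ∞) := by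
    push_cast
    exact h2
  have h4 : d + 1 ≤ d := by exact_mod_cast h3
  omega

end Dim

end Groth.Agent.Lib.R2H7.FibreMono
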