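import Mathlib
import Groth.Agent.Lib.Helper22FieldLim
import Groth.Agent.Lib.H6xZetaPts
import Groth.Agent.S0591

/-!
# R2H7FinOrd: rational points of group schemes over algebraic extensions of finite fields are torsion

Setting: `k₁` a finite field, `k` an algebraic extension, `f₁ : X₁ ⟶ Spec k₁` of finite presentation,
`A` a group object of `Over (Spec k)` whose underlying scheme is the base change of `X₁`
(`hP : IsPullback g A.hom f₁ sK`).

* `Rat f₁ A g L`: the `k`-points of `A` whose image in `X₁` factors through `Spec L`, `L` a finite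
  subextension; `finite_Rat`, `rat_mono`.
* `exists_desc`: morphisms from `X₂ ×_{k₁} k` to `X₁` over `k₁` descend to a finite subextension.
* `exists_mem_rat`: every point is rational over some finite subextension.
* `isPullback_prod`, `exists_mul_mem_rat`: `Rat L` is closed under multiplication for `L` large.
* `isOfFinOrder_of_isPullback`: every `k`-point of `A` has finite order.
* `isOfFinOrder_point`: the statement for `k` algebraic over its prime field of characteristic `p`.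
-/

set_option autoImplicit false

noncomputable section

namespace Groth.Agent.Lib.R2H7.FinOrd

open CategoryTheory CategoryTheory.Limits MonoidalCategory CartesianMonoidalCategory MonObj GrpObj
  AlgebraicGeometry
open Groth.Agent.Lib.Helper22.FieldLim

universe u

section general

variable {k₁ : Type u} [Field k₁] {k : Type u} [Field k] [Algebra k₁ k]

/-- descent of morphisms to a finite subextension -/
theorem exists_desc [Algebra.IsAlgebraic k₁ k] {X₁ X₂ : Scheme.{u}}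
    (f₁ : X₁ ⟶ Spec (CommRingCat.of k₁)) [LocallyOfFinitePresentation f₁]
    (f₂ : X₂ ⟶ Spec (CommRingCat.of k₁)) [CompactSpace X₂] [QuasiSeparatedSpace X₂]
    (a : pullback f₂ (sK : Spec (CommRingCat.of k) ⟶ Spec (CommRingCat.of k₁)) ⟶ X₁)
    (ha : a ≫ f₁ = pullback.fst f₂ sK ≫ f₂) :
    ∃ (L : FinSub k₁ k) (m : pullback f₂ (sL L) ⟶ X₁),
      mKL f₂ L ≫ m = a ∧ m ≫ f₁ = pullback.fst f₂ (sL L) ≫ f₂ := by
  let t : D (K := k) f₂ ⟶ (Functor.const _).obj (Spec (CommRingCat.of k₁)) :=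
    { app := fun L => pullback.fst f₂ (sL L.unop) ≫ f₂
      naturality := by
        intro L L' φ
        simp only [Functor.const_obj_obj, Functor.const_obj_map, Category.comp_id]
        change mLL f₂ (leOfHom φ.unop) ≫ pullback.fst f₂ (sL L'.unop) ≫ f₂ = _
        rw [mLL_fst_assoc] }
  have hat : (cone (K := k) f₂).π ≫ t = (Functor.const _).map (a ≫ f₁) := by
    ext L
    simp only [NatTrans.comp_app, Functor.const_map_app]
    change mKL f₂ L.unop ≫ pullback.fst f₂ (sL L.unop) ≫ f₂ = a ≫ f₁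
    rw [mKL_fst_assoc, ha]
  obtain ⟨L, m, hm1, hm2⟩ := Scheme.exists_π_app_comp_eq_of_locallyOfFinitePresentation
    (D (K := k) f₂) t f₁ (cone (K := k) f₂) (coneIsLimit (K := k) f₂) a hat
  exact ⟨L.unop, m, hm1, hm2⟩

/-- descent of points to a finite subextension -/
theorem exists_desc_point [Algebra.IsAlgebraic k₁ k] {X₁ : Scheme.{u}}
    (f₁ : X₁ ⟶ Spec (CommRingCat.of k₁)) [LocallyOfFinitePresentation f₁]
    (a : Spec (CommRingCat.of k) ⟶ X₁)
    (ha : a ≫ f₁ = (sK : Spec (CommRingCat.of k) ⟶ Spec (CommRingCat.of k₁))) :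
    ∃ (L : FinSub k₁ k) (y : Spec (CommRingCat.of L.1) ⟶ X₁),
      tKL L ≫ y = a ∧ y ≫ f₁ = sL L := by
  let t : (ringDiagram k₁ k).op ⋙ Scheme.Spec ⟶
      (Functor.const _).obj (Spec (CommRingCat.of k₁)) :=
    { app := fun L => sL L.unop
      naturality := by
        intro L L' φ
        simp only [Functor.const_obj_obj, Functor.const_obj_map, Category.comp_id]
        exact tLL_sL (leOfHom φ.unop) }
  have hat : (Scheme.Spec.mapCone (ringCocone k₁ k).op).π ≫ t =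
      (Functor.const _).map (a ≫ f₁) := by
    ext L
    simp only [NatTrans.comp_app, Functor.const_map_app]
    rw [ha]
    exact tKL_sL L.unop
  haveI : ∀ {i j : (FinSub k₁ k)ᵒᵖ} (φ : i ⟶ j),
      IsAffineHom (((ringDiagram k₁ k).op ⋙ Scheme.Spec).map φ) := by
    intro i j φ
    change IsAffineHom (Spec.map _)
    infer_instance
  haveI : ∀ i : (FinSub k₁ k)ᵒᵖ, CompactSpace (((ringDiagram k₁ k).op ⋙ Scheme.Spec).obj i) := by
    intro i
    change CompactSpace (Spec _)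
    infer_instance
  haveI : ∀ i : (FinSub k₁ k)ᵒᵖ,
      QuasiSeparatedSpace (((ringDiagram k₁ k).op ⋙ Scheme.Spec).obj i) := by
    intro i
    change QuasiSeparatedSpace (Spec _)
    infer_instance
  obtain ⟨L, y, hy1, hy2⟩ := Scheme.exists_π_app_comp_eq_of_locallyOfFinitePresentation
    ((ringDiagram k₁ k).op ⋙ Scheme.Spec) t f₁ (Scheme.Spec.mapCone (ringCocone k₁ k).op)
    (specIsLimit k₁ k) a hat
  exact ⟨L.unop, y, hy1, hy2⟩

variable {X₁ : Scheme.{u}} (f₁ : X₁ ⟶ Spec (CommRingCat.of k₁))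
variable (A : Over (Spec (CommRingCat.of k))) (g : A.left ⟶ X₁)

/-- the points rational over a finite subextension `L` -/
def Rat (L : FinSub k₁ k) : Set (𝟙_ (Over (Spec (CommRingCat.of k))) ⟶ A) :=
  {x | ∃ y : Spec (CommRingCat.of L.1) ⟶ X₁, y ≫ f₁ = sL L ∧
    (x.left : Spec (CommRingCat.of k) ⟶ A.left) ≫ g = tKL L ≫ y}

theorem rat_mono {L L' : FinSub k₁ k} (h : L ≤ L') : Rat f₁ A g L ⊆ Rat f₁ A g L' := by
  rintro x ⟨y, hy1, hy2⟩
  refine ⟨tLL h ≫ y, ?_, ?_⟩
  · rw [Category.assoc, hy1, tLL_sL]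
  · rw [hy2, ← Category.assoc, tKL_tLL]

variable {f₁ A g}

theorem left_hom (x : 𝟙_ (Over (Spec (CommRingCat.of k))) ⟶ A) :
    (x.left : Spec (CommRingCat.of k) ⟶ A.left) ≫ A.hom = 𝟙 _ := Over.w x

theorem finite_Rat [Finite k₁] [Algebra.IsAlgebraic k₁ k] [LocallyOfFiniteType f₁] [QuasiCompact f₁]
    (hP : IsPullback g A.hom f₁ (sK : Spec (CommRingCat.of k) ⟶ Spec (CommRingCat.of k₁)))
    (L : FinSub k₁ k) : (Rat f₁ A g L).Finite := by
  haveI := L.2
  haveI : Finite L.1 := Module.finite_of_finite k₁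
  haveI := Groth.Agent.Lib.H6xZetaPts.finite_Pts f₁ L.1
  have hsub : Rat f₁ A g L ⊆ ⋃ y : Groth.Agent.Lib.H6xPointCount.Pts f₁ L.1,
      {x | (x.left : Spec (CommRingCat.of k) ⟶ A.left) ≫ g = tKL L ≫ y.1} := by
    rintro x ⟨y, hy1, hy2⟩
    exact Set.mem_iUnion.mpr ⟨⟨y, hy1⟩, hy2⟩
  refine (Set.finite_iUnion (fun y => ?_)).subset hsub
  refine Set.Subsingleton.finite ?_
  intro x hx x' hx'
  apply Over.OverMorphism.ext
  apply hP.hom_ext
  · exact (hx : _ = _).trans (hx' : _ = _).symm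
  · exact (left_hom x).trans (left_hom x').symm

theorem exists_mem_rat [Algebra.IsAlgebraic k₁ k] [LocallyOfFinitePresentation f₁]
    (hP : IsPullback g A.hom f₁ (sK : Spec (CommRingCat.of k) ⟶ Spec (CommRingCat.of k₁)))
    (x : 𝟙_ (Over (Spec (CommRingCat.of k))) ⟶ A) : ∃ L, x ∈ Rat f₁ A g L := by
  obtain ⟨L, y, hy1, hy2⟩ := exists_desc_point f₁
    ((x.left : Spec (CommRingCat.of k) ⟶ A.left) ≫ g)
    (by
      rw [Category.assoc, hP.w, ← Category.assoc, left_hom]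
      exact Category.id_comp _)
  exact ⟨L, y, hy2, hy1.symm⟩

/-- the product of two copies of the base change square -/
theorem isPullback_prod
    (hP : IsPullback g A.hom f₁ (sK : Spec (CommRingCat.of k) ⟶ Spec (CommRingCat.of k₁))) :
    IsPullback (pullback.map A.hom A.hom f₁ f₁ g g sK hP.w.symm hP.w.symm)
      (pullback.fst A.hom A.hom ≫ A.hom) (pullback.fst f₁ f₁ ≫ f₁) sK := by
  have hw : pullback.map A.hom A.hom f₁ f₁ g g sK hP.w.symm hP.w.symm ≫ pullback.fst f₁ f₁ ≫ f₁ =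
      (pullback.fst A.hom A.hom ≫ A.hom) ≫ sK := by
    rw [← Category.assoc, pullback.lift_fst, Category.assoc, hP.w, Category.assoc]
  refine ⟨⟨hw⟩, ⟨PullbackCone.IsLimit.mk hw
    (fun s => pullback.lift
      (hP.lift (s.fst ≫ pullback.fst f₁ f₁) s.snd (by rw [Category.assoc, s.condition]))
      (hP.lift (s.fst ≫ pullback.snd f₁ f₁) s.snd
        (by rw [Category.assoc, ← pullback.condition, s.condition]))
      (by rw [hP.lift_snd, hP.lift_snd])) ?_ ?_ ?_⟩⟩
  · intro s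
    apply pullback.hom_ext
    · rw [Category.assoc, pullback.lift_fst, ← Category.assoc, pullback.lift_fst, hP.lift_fst]
    · rw [Category.assoc, pullback.lift_snd, ← Category.assoc, pullback.lift_snd, hP.lift_fst]
  · intro s
    rw [← Category.assoc, pullback.lift_fst, hP.lift_snd]
  · intro s m hm1 hm2
    have h1 : (m ≫ pullback.fst A.hom A.hom) ≫ g = s.fst ≫ pullback.fst f₁ f₁ := by
      rw [← hm1, Category.assoc, Category.assoc, pullback.lift_fst]
    have h2 : (m ≫ pullback.snd A.hom A.hom) ≫ g = s.fst ≫ pullback.snd f₁ f₁ := by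
      rw [← hm1, Category.assoc, Category.assoc, pullback.lift_snd]
    have h3 : (m ≫ pullback.fst A.hom A.hom) ≫ A.hom = s.snd := by
      rw [← hm2, Category.assoc]
    have h4 : (m ≫ pullback.snd A.hom A.hom) ≫ A.hom = s.snd := by
      rw [← hm2, Category.assoc]
      exact congrArg (m ≫ ·) (pullback.condition (f := A.hom) (g := A.hom)).symm
    apply pullback.hom_ext
    · rw [pullback.lift_fst]
      apply hP.hom_ext
      · rw [hP.lift_fst, h1]
      · rw [hP.lift_snd, h3]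
    · rw [pullback.lift_snd]
      apply hP.hom_ext
      · rw [hP.lift_fst, h2]
      · rw [hP.lift_snd, h4]


section group

variable [GrpObj A]

theorem exists_mul_mem_rat [Algebra.IsAlgebraic k₁ k] [LocallyOfFinitePresentation f₁]
    [QuasiCompact f₁] [QuasiSeparated f₁]
    (hP : IsPullback g A.hom f₁ (sK : Spec (CommRingCat.of k) ⟶ Spec (CommRingCat.of k₁))) :
    ∃ L₂ : FinSub k₁ k, ∀ L, L₂ ≤ L → ∀ x₁ ∈ Rat f₁ A g L, ∀ x₂ ∈ Rat f₁ A g L,
      x₁ * x₂ ∈ Rat f₁ A g L := by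
  haveI : QuasiCompact (pullback.fst f₁ f₁ ≫ f₁) := inferInstance
  haveI : QuasiSeparated (pullback.fst f₁ f₁ ≫ f₁) := inferInstance
  haveI : CompactSpace ↥(pullback f₁ f₁ : Scheme.{u}) :=
    QuasiCompact.compactSpace_of_compactSpace (pullback.fst f₁ f₁ ≫ f₁)
  haveI : QuasiSeparatedSpace ↥(pullback f₁ f₁ : Scheme.{u}) :=
    quasiSeparatedSpace_of_quasiSeparated (pullback.fst f₁ f₁ ≫ f₁)
  have hP₂ := isPullback_prod hP
  obtain ⟨e, he1, he2⟩ : ∃ e : pullback A.hom A.hom ≅ pullback (pullback.fst f₁ f₁ ≫ f₁)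
      (sK : Spec (CommRingCat.of k) ⟶ Spec (CommRingCat.of k₁)),
      e.hom ≫ pullback.fst (pullback.fst f₁ f₁ ≫ f₁) sK =
        pullback.map A.hom A.hom f₁ f₁ g g sK hP.w.symm hP.w.symm ∧
      e.hom ≫ pullback.snd (pullback.fst f₁ f₁ ≫ f₁) sK = pullback.fst A.hom A.hom ≫ A.hom :=
    ⟨hP₂.isoPullback, hP₂.isoPullback_hom_fst, hP₂.isoPullback_hom_snd⟩
  obtain ⟨μl, hμl⟩ : ∃ μl : pullback A.hom A.hom ⟶ A.left, μl = (μ : A ⊗ A ⟶ A).left := ⟨_, rfl⟩
  have hμ : μl ≫ A.hom = pullback.fst A.hom A.hom ≫ A.hom := by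
    rw [hμl]; exact Over.w (μ : A ⊗ A ⟶ A)
  have he2' : e.inv ≫ pullback.fst A.hom A.hom ≫ A.hom =
      pullback.snd (pullback.fst f₁ f₁ ≫ f₁) sK := by
    rw [← he2, Iso.inv_hom_id_assoc]
  obtain ⟨L₂, m, hm1, hm2⟩ := exists_desc f₁ (pullback.fst f₁ f₁ ≫ f₁) (e.inv ≫ μl ≫ g) (by
    calc (e.inv ≫ μl ≫ g) ≫ f₁ = e.inv ≫ μl ≫ (g ≫ f₁) := by simp only [Category.assoc]
      _ = e.inv ≫ (μl ≫ A.hom) ≫ sK := by rw [hP.w]; simp only [Category.assoc]
      _ = (e.inv ≫ pullback.fst A.hom A.hom ≫ A.hom) ≫ sK := by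
          rw [hμ]; simp only [Category.assoc]
      _ = pullback.snd (pullback.fst f₁ f₁ ≫ f₁) sK ≫ sK := by rw [he2']
      _ = _ := pullback.condition.symm)
  refine ⟨L₂, ?_⟩
  rintro L h x₁ ⟨y₁, hy₁1, hy₁2⟩ x₂ ⟨y₂, hy₂1, hy₂2⟩
  obtain ⟨yy, hyy1, hyy2⟩ : ∃ yy : Spec (CommRingCat.of L.1) ⟶ pullback f₁ f₁,
      yy ≫ pullback.fst f₁ f₁ = y₁ ∧ yy ≫ pullback.snd f₁ f₁ = y₂ :=
    ⟨pullback.lift y₁ y₂ (hy₁1.trans hy₂1.symm), pullback.lift_fst _ _ _, pullback.lift_snd _ _ _⟩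
  obtain ⟨z, hz1, hz2⟩ : ∃ z : Spec (CommRingCat.of L.1) ⟶
      pullback (pullback.fst f₁ f₁ ≫ f₁) (sL L₂),
      z ≫ pullback.fst (pullback.fst f₁ f₁ ≫ f₁) (sL L₂) = yy ∧
      z ≫ pullback.snd (pullback.fst f₁ f₁ ≫ f₁) (sL L₂) = tLL h :=
    ⟨pullback.lift yy (tLL h) (by
      rw [← Category.assoc, hyy1, hy₁1, tLL_sL]), pullback.lift_fst _ _ _, pullback.lift_snd _ _ _⟩
  obtain ⟨w, hw1, hw2, hw3⟩ : ∃ w : Spec (CommRingCat.of k) ⟶ pullback A.hom A.hom,
      w ≫ pullback.fst A.hom A.hom = x₁.left ∧ w ≫ pullback.snd A.hom A.hom = x₂.left ∧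
      ((x₁ * x₂).left : Spec (CommRingCat.of k) ⟶ A.left) = w ≫ μl := by
    refine ⟨pullback.lift x₁.left x₂.left ((Over.w x₁).trans (Over.w x₂).symm),
      pullback.lift_fst _ _ _, pullback.lift_snd _ _ _, ?_⟩
    rw [hμl]
    rfl
  have hkey : w ≫ e.hom ≫ mKL (pullback.fst f₁ f₁ ≫ f₁) L₂ = tKL L ≫ z := by
    apply pullback.hom_ext
    · simp only [Category.assoc, mKL_fst, he1, hz1]
      apply pullback.hom_ext
      · simp only [Category.assoc, pullback.lift_fst, hyy1]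
        rw [← Category.assoc, hw1]
        exact hy₁2
      · simp only [Category.assoc, pullback.lift_snd, hyy2]
        rw [← Category.assoc, hw2]
        exact hy₂2
    · simp only [Category.assoc, mKL_snd, hz2, tKL_tLL]
      rw [← Category.assoc e.hom, he2, ← Category.assoc, ← Category.assoc, hw1,
        Category.assoc, ← Category.assoc x₁.left]
      erw [left_hom x₁]
      exact Category.id_comp _
  refine ⟨z ≫ m, ?_, ?_⟩
  · rw [Category.assoc, hm2, ← Category.assoc, hz1, ← Category.assoc, hyy1, hy₁1]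
  · rw [hw3]
    calc (w ≫ μl) ≫ g = w ≫ e.hom ≫ (e.inv ≫ μl ≫ g) := by
          simp only [Category.assoc, Iso.hom_inv_id_assoc]
      _ = (w ≫ e.hom ≫ mKL (pullback.fst f₁ f₁ ≫ f₁) L₂) ≫ m := by
          rw [← hm1]; simp only [Category.assoc]
      _ = tKL L ≫ z ≫ m := by rw [hkey, Category.assoc]

theorem isOfFinOrder_of_isPullback [Finite k₁] [Algebra.IsAlgebraic k₁ k]
    [LocallyOfFinitePresentation f₁] [QuasiCompact f₁] [QuasiSeparated f₁]
    (hP : IsPullback g A.hom f₁ (sK : Spec (CommRingCat.of k) ⟶ Spec (CommRingCat.of k₁)))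
    (a : 𝟙_ (Over (Spec (CommRingCat.of k))) ⟶ A) : IsOfFinOrder a := by
  obtain ⟨L₂, hL₂⟩ := exists_mul_mem_rat hP
  obtain ⟨La, ha⟩ := exists_mem_rat hP a
  obtain ⟨L, hL1, hL2⟩ := (inferInstance : IsDirected (FinSub k₁ k) (· ≤ ·)).directed L₂ La
  have haL : a ∈ Rat f₁ A g L := rat_mono f₁ A g hL2 ha
  have hpow : ∀ n : ℕ, a ^ (n + 1) ∈ Rat f₁ A g L := by
    intro n
    induction n with
    | zero => simpa using haL
    | succ n ih =>
      rw [pow_succ]
      exact hL₂ L hL1 _ ih _ haL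
  have hfin := finite_Rat hP L
  obtain ⟨m, n, hmn, heq⟩ := hfin.exists_lt_map_eq_of_forall_mem (f := fun n : ℕ => a ^ (n + 1)) hpow
  rw [isOfFinOrder_iff_pow_eq_one]
  refine ⟨n - m, Nat.sub_pos_of_lt hmn, ?_⟩
  have h1 : a ^ (m + 1) * a ^ (n - m) = a ^ (m + 1) * 1 := by
    rw [← pow_add, show m + 1 + (n - m) = n + 1 by omega, _root_.mul_one]
    exact heq.symm
  exact mul_left_cancel h1

end group

end general

section primeField

open IntermediateField in
theorem isOfFinOrder_point (p : ℕ) [Fact p.Prime] (k : Type u) [Field k] [CharP k p]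
    (halg : ∀ x : k, ∃ n : ℕ, 0 < n ∧ x ^ (p ^ n) = x)
    (A : Over (Spec (CommRingCat.of k))) [GrpObj A] [LocallyOfFinitePresentation A.hom]
    [QuasiCompact A.hom] [QuasiSeparated A.hom]
    (a : 𝟙_ (Over (Spec (CommRingCat.of k))) ⟶ A) : IsOfFinOrder a := by
  haveI : Fintype (⊥ : Subfield k) := Subfield.fintypeBot k p
  haveI : Finite (⊥ : Subfield k) := Finite.of_fintype _
  haveI : Algebra.IsAlgebraic (⊥ : Subfield k) k := by
    refine ⟨fun x => ?_⟩
    obtain ⟨n, hn, hx⟩ := halg x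
    refine ⟨Polynomial.X ^ p ^ n - Polynomial.X,
      FiniteField.X_pow_card_pow_sub_X_ne_zero _ hn.ne' (Fact.out : p.Prime).one_lt, ?_⟩
    simp [hx]
  haveI : ∀ (i j : (FinSub (⊥ : Subfield k) k)ᵒᵖ) (φ : i ⟶ j),
      IsAffineHom (((ringDiagram (⊥ : Subfield k) k).op ⋙ Scheme.Spec).map φ) := by
    intro i j φ
    change IsAffineHom (Spec.map _)
    infer_instance
  haveI : ∀ i : (FinSub (⊥ : Subfield k) k)ᵒᵖ,
      CompactSpace (((ringDiagram (⊥ : Subfield k) k).op ⋙ Scheme.Spec).obj i) := by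
    intro i
    change CompactSpace (Spec _)
    infer_instance
  haveI : ∀ i : (FinSub (⊥ : Subfield k) k)ᵒᵖ,
      QuasiSeparatedSpace (((ringDiagram (⊥ : Subfield k) k).op ⋙ Scheme.Spec).obj i) := by
    intro i
    change QuasiSeparatedSpace (Spec _)
    infer_instance
  obtain ⟨i, Xi, fi, g, h1, h2, h3, hPB⟩ := @Groth.Agent.S0591.result _ _ _
    ((ringDiagram (⊥ : Subfield k) k).op ⋙ Scheme.Spec)
    (Scheme.Spec.mapCone (ringCocone (⊥ : Subfield k) k).op) (specIsLimit (⊥ : Subfield k) k)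
    _ _ _ A.left A.hom ‹_› ‹_› ‹_›
  obtain ⟨L₁, rfl⟩ : ∃ L₁ : FinSub (⊥ : Subfield k) k, i = Opposite.op L₁ := ⟨i.unop, rfl⟩
  obtain ⟨fi', hfi'⟩ : ∃ fi' : Xi ⟶ Spec (CommRingCat.of L₁.1), fi' = fi := ⟨fi, rfl⟩
  subst hfi'
  have h1' : @LocallyOfFinitePresentation Xi (Spec (CommRingCat.of L₁.1)) fi' := h1
  have h2' : @QuasiCompact Xi (Spec (CommRingCat.of L₁.1)) fi' := h2
  have h3' : @QuasiSeparated Xi (Spec (CommRingCat.of L₁.1)) fi' := h3
  haveI := L₁.2
  haveI : Finite L₁.1 := Module.finite_of_finite (⊥ : Subfield k)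
  haveI : Algebra.IsAlgebraic L₁.1 k := Algebra.IsAlgebraic.tower_top (K := (⊥ : Subfield k)) _
  exact isOfFinOrder_of_isPullback (k₁ := L₁.1) (f₁ := fi') hPB a

end primeField

end Groth.Agent.Lib.R2H7.FinOrd
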