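import Mathlib
import Groth.Agent.Lib.R2H7FlatQIso
import Groth.Agent.Lib.R2H7SepSplitC

/-!
# R2H7FlatArt: flat groups over Artinian local rings with closed fibre of multiplicative type

* `isIsotrivial_of_artinian`: a flat finite type Hopf algebra over an Artinian local ring whose
  closed fibre is of multiplicative type is isotrivial (and of multiplicative type).
-/

set_option autoImplicit false
universe u

namespace Groth.Agent.Lib.R2H7.FlatArt

open TensorProduct Coalgebra Groth.Agent.Lib.Helper25 Groth.Agent.Lib.R2H7.FlatQIso SGA3b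

theorem isNilpotent_maximalIdeal (A : Type u) [CommRing A] [IsArtinianRing A] [IsLocalRing A] :
    IsNilpotent (IsLocalRing.maximalIdeal A) := by
  have h1 : IsNilpotent (Ideal.jacobson (⊥ : Ideal A)) := IsArtinianRing.isNilpotent_jacobson_bot
  rwa [IsLocalRing.jacobson_eq_maximalIdeal ⊥ bot_ne_top] at h1

theorem isIsotrivial_of_artinian (A : Type u) [CommRing A] [IsArtinianRing A] [IsLocalRing A]
    (C : Type u) [CommRing C] [HopfAlgebra A C] [Module.Flat A C] (hft : Algebra.FiniteType A C)
    (h0 : IsMultType (IsLocalRing.ResidueField A) (IsLocalRing.ResidueField A ⊗[A] C)) :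
    IsIsotrivial A C := by
  haveI := hft
  have h1 : IsIsotrivial (IsLocalRing.ResidueField A) (IsLocalRing.ResidueField A ⊗[A] C) :=
    Groth.Agent.Lib.R2H7.SepSplitC.isIsotrivial_of_field (IsLocalRing.ResidueField A)
      (IsLocalRing.ResidueField A ⊗[A] C) inferInstance h0
  exact isIsotrivial_of_flat (IsLocalRing.maximalIdeal A) (isNilpotent_maximalIdeal A) h1

end Groth.Agent.Lib.R2H7.FlatArt
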