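import Mathlib
import Groth.Agent.Lib.R2H7ExpandBasis

/-!
# The degree of the Frobenius of a finitely generated field over a perfect field

For a field `L` essentially of finite type over a perfect field `k` of characteristic `p`, with
transcendence degree `n`, the Frobenius `x ↦ x ^ p ^ s` of `L` has degree `(p ^ n) ^ s`.
-/

set_option autoImplicit false
set_option linter.style.haveILetI false

namespace Groth.Agent.Lib.R2H7.FrobDeg

universe u v

section Deg

/-- the degree of a ring homomorphism between fields (zero if infinite) -/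
noncomputable def deg {A : Type*} {B : Type*} [Field A] [Field B] (f : A →+* B) : ℕ :=
  @Module.finrank A B _ _ f.toAlgebra.toModule

lemma deg_comp {A B C : Type*} [Field A] [Field B] [Field C] (f : A →+* B) (g : B →+* C) :
    deg (g.comp f) = deg f * deg g := by
  letI := f.toAlgebra
  letI := g.toAlgebra
  letI := (g.comp f).toAlgebra
  haveI : IsScalarTower A B C := IsScalarTower.of_algebraMap_eq (fun _ => rfl)
  exact (Module.finrank_mul_finrank A B C).symm

lemma deg_eq_of_equiv {A B A' B' : Type*} [Field A] [Field B] [Field A'] [Field B']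
    (i : A ≃+* A') (j : B ≃+* B') (f : A →+* B) (f' : A' →+* B')
    (h : f'.comp i.toRingHom = j.toRingHom.comp f) : deg f = deg f' := by
  letI := f.toAlgebra
  letI := f'.toAlgebra
  exact Algebra.finrank_eq_of_equiv_equiv i j h

lemma deg_id {A : Type*} [Field A] : deg (RingHom.id A) = 1 := by
  unfold deg
  exact Module.finrank_self A

lemma deg_ringEquiv {A B : Type*} [Field A] [Field B] (e : A ≃+* B) :
    deg (e : A →+* B) = 1 := by
  rw [deg_eq_of_equiv e (RingEquiv.refl B) (e : A →+* B) (RingHom.id B) (by ext; rfl), deg_id]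

lemma deg_eq_finrank_fieldRange {A B : Type*} [Field A] [Field B] (f : A →+* B) :
    deg f = Module.finrank f.fieldRange B := by
  letI := f.toAlgebra
  exact Algebra.finrank_eq_of_equiv_equiv f.rangeRestrictFieldEquiv (RingEquiv.refl B)
    (by ext; rfl)

lemma deg_eq_of_fieldRange_eq {A A' B : Type*} [Field A] [Field A'] [Field B] (f : A →+* B)
    (f' : A' →+* B) (h : f.fieldRange = f'.fieldRange) : deg f = deg f' := by
  rw [deg_eq_finrank_fieldRange, deg_eq_finrank_fieldRange, h]

end Deg

section Fraction

/-- the degree of the fraction field extension of an algebraic injective ring map of domains -/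
lemma finrank_fraction {R S R' S' : Type u} [CommRing R] [CommRing S] [IsDomain S] [Field R']
    [Field S'] [Algebra R R'] [IsFractionRing R R'] [Algebra S S'] [IsFractionRing S S']
    (φ : R →+* S) (φ' : R' →+* S')
    (hcomm : ∀ r, φ' (algebraMap R R' r) = algebraMap S S' (φ r))
    (hinj : Function.Injective φ)
    (halg : ∀ s : S, ∃ P : Polynomial R, P ≠ 0 ∧ P.eval₂ φ s = 0) :
    @Module.finrank R' S' _ _ φ'.toAlgebra.toModule =
      @Module.finrank R S _ _ φ.toAlgebra.toModule := by
  letI := φ.toAlgebra
  letI := φ'.toAlgebra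
  letI : Algebra R S' := ((algebraMap S S').comp φ).toAlgebra
  haveI : IsScalarTower R S S' := IsScalarTower.of_algebraMap_eq (fun _ => rfl)
  haveI : IsScalarTower R R' S' := IsScalarTower.of_algebraMap_eq (fun r => (hcomm r).symm)
  haveI : FaithfulSMul R S := (faithfulSMul_iff_algebraMap_injective R S).mpr hinj
  haveI : Algebra.IsAlgebraic R S := ⟨fun s => by
    obtain ⟨P, hP, h⟩ := halg s
    exact ⟨P, hP, by rwa [Polynomial.aeval_def]⟩⟩
  have := Algebra.IsAlgebraic.rank_of_isFractionRing R R' S S'
  unfold Module.finrank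
  rw [this]

end Fraction

section Poly

variable (k : Type u) [Field k] (p : ℕ) [Fact p.Prime] [CharP k p] [PerfectRing k p]
  (σ : Type v) [Finite σ]

open MvPolynomial Groth.Agent.Lib.R2H7.RelFrob

/-- coefficients twisted by the inverse Frobenius -/
noncomputable def beta : ((σ →₀ ℕ) →₀ k) ≃+ MvPolynomial σ k :=
  (Finsupp.mapRange.addEquiv (frobeniusEquiv k p).symm.toAddEquiv).trans
    (basisMonomials σ k).repr.symm.toAddEquiv

lemma beta_single (m : σ →₀ ℕ) (a : k) :
    beta k p σ (Finsupp.single m a) = monomial m ((frobeniusEquiv k p).symm a) := by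
  change (basisMonomials σ k).repr.symm
    (Finsupp.mapRange ((frobeniusEquiv k p).symm) (map_zero _) (Finsupp.single m a)) = _
  rw [Finsupp.mapRange_single, Module.Basis.repr_symm_single, MvPolynomial.coe_basisMonomials,
    MvPolynomial.smul_monomial,
    smul_eq_mul, mul_one]

lemma frobenius_beta_single (m : σ →₀ ℕ) (a : k) :
    frobenius (MvPolynomial σ k) p (beta k p σ (Finsupp.single m a)) = monomial (p • m) a := by
  rw [beta_single, frobenius_def, MvPolynomial.monomial_pow, frobeniusEquiv_symm_pow_p]

omit [Finite σ] in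
lemma finrank_of_bijective {R S ι : Type*} [CommRing R] [Nontrivial R] [CommRing S] [Fintype ι]
    (φ : R →+* S) (v : ι → S)
    (h : letI := φ.toAlgebra; Function.Bijective (Finsupp.linearCombination R v)) :
    @Module.finrank R S _ _ φ.toAlgebra.toModule = Fintype.card ι := by
  letI := φ.toAlgebra
  let b := Module.Basis.ofRepr (LinearEquiv.ofBijective _ h).symm
  exact Module.finrank_eq_card_basis b

lemma finrank_frobenius_mvPolynomial :
    @Module.finrank (MvPolynomial σ k) (MvPolynomial σ k) _ _
      (frobenius (MvPolynomial σ k) p).toAlgebra.toModule = p ^ Nat.card σ := by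
  have hb := smallMonomial_bijective (K := k) (σ := σ) p (Fact.out : p.Prime).pos
    (frobenius (MvPolynomial σ k) p) (beta k p σ) (frobenius_beta_single k p σ)
  classical
  haveI : Fintype σ := Fintype.ofFinite σ
  rw [finrank_of_bijective (frobenius (MvPolynomial σ k) p) _ hb, Fintype.card_fun,
    Fintype.card_fin, Nat.card_eq_fintype_card]

lemma deg_frobenius_fractionRing :
    deg (frobenius (FractionRing (MvPolynomial σ k)) p) = p ^ Nat.card σ := by
  unfold deg
  rw [← finrank_frobenius_mvPolynomial k p σ]
  refine finrank_fraction (R := MvPolynomial σ k) (S := MvPolynomial σ k)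
    (R' := FractionRing (MvPolynomial σ k)) (S' := FractionRing (MvPolynomial σ k))
    (frobenius (MvPolynomial σ k) p) (frobenius (FractionRing (MvPolynomial σ k)) p) ?_ ?_ ?_
  · intro r
    rw [frobenius_def, frobenius_def, map_pow]
  · exact frobenius_inj (MvPolynomial σ k) p
  · intro s
    refine ⟨Polynomial.X ^ p - Polynomial.C s,
      Polynomial.X_pow_sub_C_ne_zero (Fact.out : p.Prime).pos s, ?_⟩
    rw [Polynomial.eval₂_sub, Polynomial.eval₂_pow, Polynomial.eval₂_X, Polynomial.eval₂_C,
      frobenius_def, sub_self]

end Poly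

section Field

variable (k : Type u) (L : Type v) [Field k] [Field L] [Algebra k L] (p : ℕ) [Fact p.Prime]
  [CharP k p] [CharP L p] [PerfectRing k p] [Algebra.EssFiniteType k L]

include k in
theorem deg_frobenius (n : ℕ) (hn : Algebra.trdeg k L = n) :
    deg (frobenius L p) = p ^ n := by
  obtain ⟨s, hs⟩ := exists_isTranscendenceBasis k L
  haveI : Finite s := finite_of_isTranscendenceBasis hs
  have hcard : Nat.card s = n := by
    have h1 := hs.cardinalMk_eq_trdeg
    rw [hn] at h1
    unfold Nat.card
    rw [h1, Cardinal.toNat_natCast]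
  set M := IntermediateField.adjoin k (Set.range ((↑) : s → L)) with hM
  let e : FractionRing (MvPolynomial s k) ≃ₐ[k] M := hs.1.aevalEquivField
  haveI : Algebra.IsAlgebraic M L := hs.isAlgebraic_field
  haveI : Algebra.EssFiniteType M L := Algebra.EssFiniteType.of_comp k M L
  haveI : Module.Finite M L := by
    obtain ⟨t, ht⟩ := IntermediateField.fg_top M L
    haveI : FiniteDimensional M (IntermediateField.adjoin M (t : Set L)) :=
      IntermediateField.finiteDimensional_adjoin
        (fun x _ => (Algebra.IsAlgebraic.isAlgebraic x).isIntegral)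
    rw [ht] at this
    exact Module.Finite.equiv (IntermediateField.topEquiv (F := M) (E := L)).toLinearEquiv
  let a : FractionRing (MvPolynomial s k) →+* L :=
    (algebraMap M L).comp (e.toRingEquiv : FractionRing (MvPolynomial s k) →+* M)
  have hdeg : deg a = Module.finrank M L := by
    have h1 := deg_comp (e.toRingEquiv : FractionRing (MvPolynomial s k) →+* M) (algebraMap M L)
    rw [deg_ringEquiv, one_mul] at h1
    rw [h1]
    rfl
  have hpos : deg a ≠ 0 := by
    rw [hdeg]
    exact Module.finrank_pos.ne'
  have hcomm : (frobenius L p).comp a = a.comp (frobenius (FractionRing (MvPolynomial s k)) p) := by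
    ext x
    simp only [RingHom.comp_apply, frobenius_def, map_pow]
  have h2 := deg_comp a (frobenius L p)
  rw [hcomm, deg_comp, deg_frobenius_fractionRing k p s, hcard] at h2
  rw [mul_comm] at h2
  exact (Nat.eq_of_mul_eq_mul_left (Nat.pos_of_ne_zero hpos) h2).symm

include k in
theorem deg_iterateFrobenius (n : ℕ) (hn : Algebra.trdeg k L = n) (s : ℕ) :
    deg (iterateFrobenius L p s) = (p ^ n) ^ s := by
  induction s with
  | zero =>
    have : iterateFrobenius L p 0 = RingHom.id L := by
      ext x
      simp
    rw [this, deg_id, pow_zero]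
  | succ s ih =>
    have : iterateFrobenius L p (s + 1) = (frobenius L p).comp (iterateFrobenius L p s) := by
      ext x
      simp only [RingHom.comp_apply, iterateFrobenius_def, frobenius_def, pow_succ, pow_mul]
    rw [this, deg_comp, ih, deg_frobenius k L p n hn, pow_succ]

include k in
/-- a field homomorphism into `L` whose image is the field of `p ^ s`-th powers has degree
`(p ^ n) ^ s` -/
theorem deg_eq_of_range {M : Type*} [Field M] (n : ℕ) (hn : Algebra.trdeg k L = n) (s : ℕ)
    (ψ : M →+* L) (h₁ : ∀ z, ∃ y, ψ z = y ^ p ^ s) (h₂ : ∀ y, ∃ z, ψ z = y ^ p ^ s) :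
    deg ψ = (p ^ n) ^ s := by
  rw [← deg_iterateFrobenius k L p n hn s]
  refine deg_eq_of_fieldRange_eq _ _ ?_
  ext x
  simp only [RingHom.mem_fieldRange, iterateFrobenius_def]
  constructor
  · rintro ⟨z, rfl⟩
    obtain ⟨y, hy⟩ := h₁ z
    exact ⟨y, hy.symm⟩
  · rintro ⟨y, rfl⟩
    obtain ⟨z, hz⟩ := h₂ y
    exact ⟨z, hz⟩

end Field

end Groth.Agent.Lib.R2H7.FrobDeg
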