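/-
R2H7FrobHeight: an augmented finite type algebra over a Noetherian ring of characteristic p has
nil augmentation ideal of bounded p-power exponent iff it is finite with local geometric fibres
(S15056).
-/
import Mathlib

set_option autoImplicit false
set_option linter.unusedVariables false
set_option linter.style.haveILetI false
set_option linter.unusedSectionVars false

namespace Groth.Agent.Lib.R2H7.FrobHeight

open scoped TensorProduct

universe u

variable (p : ℕ) [hp : Fact p.Prime] (R : Type u) [CommRing R] [CharP R p]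
  (A : Type u) [CommRing A] [Algebra R A] (ε : A →ₐ[R] R)

include ε in
theorem algebraMap_injective : Function.Injective (algebraMap R A) := by
  intro x y h
  have := congrArg ε h
  rwa [AlgHom.commutes, AlgHom.commutes] at this

include ε in
theorem charP_A : CharP A p := charP_of_injective_algebraMap (algebraMap_injective R A ε) p

theorem finite_of_nil [Algebra.FiniteType R A] (n : ℕ)
    (h : ∀ a : A, ε a = 0 → a ^ p ^ n = 0) : Module.Finite R A := by
  classical
  obtain ⟨s, hs⟩ := (Algebra.FiniteType.out : (⊤ : Subalgebra R A).FG)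
  let t : Finset A := s.image (fun x => x - algebraMap R A (ε x))
  have hadj : Algebra.adjoin R (t : Set A) = ⊤ := by
    rw [eq_top_iff, ← hs]
    apply Algebra.adjoin_le
    intro x hx
    have h1 : x - algebraMap R A (ε x) ∈ Algebra.adjoin R (t : Set A) :=
      Algebra.subset_adjoin (Finset.mem_coe.mpr (Finset.mem_image_of_mem _ hx))
    have h2 : x = (x - algebraMap R A (ε x)) + algebraMap R A (ε x) := by ring
    rw [SetLike.mem_coe, h2]
    exact Subalgebra.add_mem _ h1 (Subalgebra.algebraMap_mem _ _)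
  have hint : ∀ y ∈ (t : Set A), IsIntegral R y := by
    intro y hy
    obtain ⟨x, -, rfl⟩ := Finset.mem_image.mp (Finset.mem_coe.mp hy)
    have h0 : ε (x - algebraMap R A (ε x)) = 0 := by
      rw [map_sub, AlgHom.commutes]; exact sub_self _
    have h1 := h _ h0
    apply IsIntegral.of_pow (pow_pos hp.out.pos n)
    rw [h1]
    exact isIntegral_zero
  have hfg := fg_adjoin_of_finite t.finite_toSet hint
  rw [hadj, Algebra.top_toSubmodule] at hfg
  exact ⟨hfg⟩

section Fibre

variable (K : Type u) [Field K] [Algebra R K]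

/-- augmentation of the base change -/
noncomputable def epsK : K ⊗[R] A →ₐ[K] K :=
  Algebra.TensorProduct.lift (Algebra.ofId K K) ((Algebra.ofId R K).comp ε)
    (fun _ _ => Commute.all _ _)

theorem epsK_tmul (l : K) (a : A) : epsK R A ε K (l ⊗ₜ a) = l * algebraMap R K (ε a) := by
  rw [epsK, Algebra.TensorProduct.lift_tmul]
  rfl

theorem charP_K (p : ℕ) [hp : Fact p.Prime] (R : Type u) [CommRing R] [CharP R p]
    (K : Type u) [Field K] [Algebra R K] : CharP K p := by
  obtain ⟨q, hq⟩ := CharP.exists K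
  have h0 : (p : K) = 0 := by
    have : (p : K) = algebraMap R K (p : R) := by rw [map_natCast]
    rw [this, CharP.cast_eq_zero, map_zero]
  have hdvd : q ∣ p := (CharP.cast_eq_zero_iff K q p).mp h0
  rcases (Nat.dvd_prime hp.out).mp hdvd with h1 | h1
  · exfalso
    subst h1
    exact CharP.char_ne_one K 1 rfl
  · rw [← h1]; exact hq

theorem pow_eq [CharP K p] [CharP A p] (n : ℕ) (h : ∀ a : A, ε a = 0 → a ^ p ^ n = 0)
    (z : K ⊗[R] A) :
    z ^ p ^ n = algebraMap K (K ⊗[R] A) ((epsK R A ε K z) ^ p ^ n) := by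
  haveI : Nontrivial (K ⊗[R] A) := RingHom.domain_nontrivial (epsK R A ε K).toRingHom
  haveI : CharP (K ⊗[R] A) p :=
    charP_of_injective_algebraMap (algebraMap K (K ⊗[R] A)).injective p
  induction z using TensorProduct.induction_on with
  | zero =>
    rw [map_zero, zero_pow (pow_ne_zero n hp.out.ne_zero),
      zero_pow (pow_ne_zero n hp.out.ne_zero), map_zero]
  | tmul l a =>
    have hb : ε (a - algebraMap R A (ε a)) = 0 := by
      rw [map_sub, AlgHom.commutes]; exact sub_self _
    have ha : a ^ p ^ n = algebraMap R A ((ε a) ^ p ^ n) := by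
      have h2 : a = (a - algebraMap R A (ε a)) + algebraMap R A (ε a) := by ring
      conv_lhs => rw [h2]
      rw [add_pow_char_pow, h _ hb, zero_add, map_pow]
    have hL : (l ⊗ₜ[R] a) ^ p ^ n =
        (algebraMap R K ((ε a) ^ p ^ n) * l ^ p ^ n) ⊗ₜ[R] (1 : A) := by
      rw [Algebra.TensorProduct.tmul_pow, ha, Algebra.algebraMap_eq_smul_one,
        TensorProduct.tmul_smul, TensorProduct.smul_tmul', Algebra.smul_def]
    have hR : algebraMap K (K ⊗[R] A) ((epsK R A ε K (l ⊗ₜ a)) ^ p ^ n) =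
        (algebraMap R K ((ε a) ^ p ^ n) * l ^ p ^ n) ⊗ₜ[R] (1 : A) := by
      rw [epsK_tmul, mul_pow, Algebra.TensorProduct.algebraMap_apply, Algebra.algebraMap_self,
        RingHom.id_apply, map_pow, mul_comm]
    rw [hL, hR]
  | add x y hx hy =>
    rw [add_pow_char_pow, hx, hy, map_add, add_pow_char_pow, map_add]

theorem isLocalRing_tensor (n : ℕ) (h : ∀ a : A, ε a = 0 → a ^ p ^ n = 0) :
    IsLocalRing (K ⊗[R] A) := by
  haveI : CharP K p := charP_K p R K
  haveI : CharP A p := charP_A p R A ε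
  haveI : Nontrivial (K ⊗[R] A) := RingHom.domain_nontrivial (epsK R A ε K).toRingHom
  have hunit : ∀ z : K ⊗[R] A, epsK R A ε K z ≠ 0 → IsUnit z := by
    intro z hz
    have h1 := pow_eq p R A ε K n h z
    have h2 : IsUnit (z ^ p ^ n) := by
      rw [h1]
      exact (IsUnit.mk0 _ (pow_ne_zero _ hz)).map _
    exact (isUnit_pow_iff (pow_ne_zero n hp.out.ne_zero)).mp h2
  apply IsLocalRing.of_isUnit_or_isUnit_one_sub_self
  intro z
  by_cases hz : epsK R A ε K z = 0
  · right
    apply hunit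
    rw [map_sub, map_one, hz, sub_zero]
    exact one_ne_zero
  · left
    exact hunit z hz

end Fibre

theorem exists_pow [Algebra.FiniteType R A] [IsNoetherianRing R]
    (hloc : ∀ (K : Type u) [Field K] [IsAlgClosed K] [Algebra R K], IsLocalRing (K ⊗[R] A)) :
    ∃ n : ℕ, ∀ a : A, ε a = 0 → a ^ p ^ n = 0 := by
  haveI : IsNoetherianRing A := Algebra.FiniteType.isNoetherianRing R A
  have hI : RingHom.ker ε.toRingHom ≤ nilradical A := by
    rw [nilradical_eq_sInf]
    apply le_sInf
    intro 𝔮 h𝔮 a ha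
    haveI : 𝔮.IsPrime := h𝔮
    let K := AlgebraicClosure (FractionRing (A ⧸ 𝔮))
    let φ1 : A →+* K := (algebraMap (FractionRing (A ⧸ 𝔮)) K).comp
      ((algebraMap (A ⧸ 𝔮) (FractionRing (A ⧸ 𝔮))).comp (Ideal.Quotient.mk 𝔮))
    letI algK : Algebra R K := (φ1.comp (algebraMap R A)).toAlgebra
    let φ1' : A →ₐ[R] K := { φ1 with commutes' := fun r => rfl }
    let φ2' : A →ₐ[R] K := (Algebra.ofId R K).comp ε
    let Φ1 : K ⊗[R] A →ₐ[K] K :=
      Algebra.TensorProduct.lift (Algebra.ofId K K) φ1' (fun _ _ => Commute.all _ _)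
    let Φ2 : K ⊗[R] A →ₐ[K] K :=
      Algebra.TensorProduct.lift (Algebra.ofId K K) φ2' (fun _ _ => Commute.all _ _)
    haveI := hloc K
    have hs1 : Function.Surjective Φ1.toRingHom := fun l =>
      ⟨l ⊗ₜ 1, by
        show Φ1 (l ⊗ₜ 1) = l
        rw [Algebra.TensorProduct.lift_tmul, map_one, mul_one]; rfl⟩
    have hs2 : Function.Surjective Φ2.toRingHom := fun l =>
      ⟨l ⊗ₜ 1, by
        show Φ2 (l ⊗ₜ 1) = l
        rw [Algebra.TensorProduct.lift_tmul, map_one, mul_one]; rfl⟩
    have hk1 := IsLocalRing.eq_maximalIdeal (RingHom.ker_isMaximal_of_surjective Φ1.toRingHom hs1)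
    have hk2 := IsLocalRing.eq_maximalIdeal (RingHom.ker_isMaximal_of_surjective Φ2.toRingHom hs2)
    have hx2 : ((1 : K) ⊗ₜ[R] a) ∈ RingHom.ker Φ2.toRingHom := by
      rw [RingHom.mem_ker]
      show Φ2 ((1 : K) ⊗ₜ[R] a) = 0
      rw [Algebra.TensorProduct.lift_tmul, map_one, one_mul]
      show (Algebra.ofId R K) (ε a) = 0
      have : ε a = 0 := ha
      rw [this, map_zero]
    rw [hk2, ← hk1, RingHom.mem_ker] at hx2
    have hx1 : φ1 a = 0 := by
      have : Φ1 ((1 : K) ⊗ₜ[R] a) = φ1 a := by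
        rw [Algebra.TensorProduct.lift_tmul, map_one, one_mul]; rfl
      rw [← this]; exact hx2
    have hinj : Function.Injective ((algebraMap (FractionRing (A ⧸ 𝔮)) K).comp
        (algebraMap (A ⧸ 𝔮) (FractionRing (A ⧸ 𝔮)))) :=
      (algebraMap (FractionRing (A ⧸ 𝔮)) K).injective.comp
        (IsFractionRing.injective (A ⧸ 𝔮) (FractionRing (A ⧸ 𝔮)))
    have hmk : Ideal.Quotient.mk 𝔮 a = 0 := hinj (by rw [map_zero]; exact hx1)
    exact Ideal.Quotient.eq_zero_iff_mem.mp hmk
  have hfg : (RingHom.ker ε.toRingHom).FG := IsNoetherian.noetherian _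
  obtain ⟨N, hN⟩ := (Ideal.FG.isNilpotent_iff_le_nilradical hfg).mpr hI
  refine ⟨N, fun a ha => ?_⟩
  have h1 : a ^ N ∈ (RingHom.ker ε.toRingHom) ^ N := Ideal.pow_mem_pow ha N
  rw [hN] at h1
  have h2 : a ^ N = 0 := h1
  exact pow_eq_zero_of_le (Nat.lt_pow_self hp.out.one_lt).le h2

theorem main [Algebra.FiniteType R A] [IsNoetherianRing R] :
    (∃ n : ℕ, ∀ a : A, ε a = 0 → a ^ p ^ n = 0) ↔
      (Module.Finite R A ∧
        ∀ (K : Type u) [Field K] [IsAlgClosed K] [Algebra R K], IsLocalRing (K ⊗[R] A)) := by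
  constructor
  · rintro ⟨n, h⟩
    exact ⟨finite_of_nil p R A ε n h, fun K _ _ _ => isLocalRing_tensor p R A ε K n h⟩
  · rintro ⟨-, hloc⟩
    exact exists_pow p R A ε hloc

end Groth.Agent.Lib.R2H7.FrobHeight
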