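import Mathlib
import Groth.Prelude.Def_W4c2gaugesfzipsQuiet

/-!
# Root towers from monomial bases

If a commutative `R`-algebra `T` has elements `t₁, …, t_m` with `t_i ^ p ∈ R` such that the
monomials `t^e`, `0 ≤ e_i < p`, form an `R`-basis of `T`, then `T` is a tower of `m` elementary
`p`-th root extractions of `R` (`Quiet.IsRootTower p m R T`).
-/

set_option autoImplicit false

namespace Groth.Agent.Lib.R2H7.RootTower

open Polynomial

universe u

section TowerBasis

variable {R R₁ T : Type*} [CommRing R] [CommRing R₁] [CommRing T] [Algebra R R₁] [Algebra R₁ T]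
  [Algebra R T] [IsScalarTower R R₁ T] {J I : Type*} [Fintype J]

/-- converse of `Basis.smulTower`: linear independence -/
theorem linearIndependent_of_smulTower (β : Module.Basis J R R₁) (c : I → T)
    (hli : LinearIndependent R (fun x : J × I => β x.1 • c x.2)) : LinearIndependent R₁ c := by
  classical
  rw [linearIndependent_iff']
  intro s g hg i hi
  rw [linearIndependent_iff'] at hli
  have h1 : ∑ x ∈ (Finset.univ : Finset J) ×ˢ s, (β.repr (g x.2) x.1) • (β x.1 • c x.2) = 0 := by
    rw [Finset.sum_product_right]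
    rw [← hg]
    refine Finset.sum_congr rfl fun i' _ => ?_
    conv_rhs => rw [← β.sum_repr (g i'), Finset.sum_smul]
    refine Finset.sum_congr rfl fun j _ => ?_
    rw [smul_assoc]
  have h2 := hli ((Finset.univ : Finset J) ×ˢ s) (fun x => β.repr (g x.2) x.1) h1
  have h3 : ∀ j, β.repr (g i) j = 0 := fun j =>
    h2 (j, i) (Finset.mem_product.mpr ⟨Finset.mem_univ _, hi⟩)
  have h4 : β.repr (g i) = 0 := Finsupp.ext h3
  exact β.repr.map_eq_zero_iff.mp h4

omit [Fintype J] in
/-- converse of `Basis.smulTower`: spanning -/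
theorem span_eq_top_of_smulTower (β : J → R₁) (c : I → T)
    (hsp : Submodule.span R (Set.range fun x : J × I => β x.1 • c x.2) = ⊤) :
    Submodule.span R₁ (Set.range c) = ⊤ := by
  rw [eq_top_iff]
  have h1 : Submodule.span R (Set.range fun x : J × I => β x.1 • c x.2) ≤
      (Submodule.span R₁ (Set.range c)).restrictScalars R := by
    rw [Submodule.span_le]
    rintro _ ⟨⟨j, i⟩, rfl⟩
    show β j • c i ∈ Submodule.span R₁ (Set.range c)
    exact Submodule.smul_mem _ _ (Submodule.subset_span (Set.mem_range_self i))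
  rw [hsp] at h1
  intro x _
  exact h1 Submodule.mem_top

end TowerBasis

section Transport

/-- root towers transport along isomorphisms of the top algebra -/
theorem isRootTower_of_algEquiv (p : ℕ) : ∀ (n : ℕ) (R T T' : Type u) [CommRing R] [CommRing T]
    [CommRing T'] [Algebra R T] [Algebra R T'] (_ : T ≃ₐ[R] T'),
    Quiet.IsRootTower p n R T → Quiet.IsRootTower p n R T'
  | 0, R, T, T', _, _, _, _, _, e, h => by
    obtain ⟨e₀⟩ := h
    exact ⟨e.symm.trans e₀⟩
  | n + 1, R, T, T', _, _, _, _, _, e, h => by
    obtain ⟨a, alg, tower, h'⟩ := h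
    letI : Algebra (Quiet.RootRing p R a) T' :=
      ((e : T →+* T').comp (algebraMap (Quiet.RootRing p R a) T)).toAlgebra
    have htower : IsScalarTower R (Quiet.RootRing p R a) T' := by
      refine IsScalarTower.of_algebraMap_eq fun r => ?_
      change algebraMap R T' r = e (algebraMap (Quiet.RootRing p R a) T (algebraMap R _ r))
      rw [← IsScalarTower.algebraMap_apply R (Quiet.RootRing p R a) T, e.commutes]
    let e' : T ≃ₐ[Quiet.RootRing p R a] T' :=
      { (e : T ≃+* T') with commutes' := fun _ => rfl }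
    exact ⟨a, inferInstance, htower, isRootTower_of_algEquiv p n _ T T' e' h'⟩

end Transport

section Monomial

variable (p : ℕ) [hp : Fact p.Prime]

/-- If the monomials `t^e`, `0 ≤ e_i < p`, in elements `t_i` with `t_i ^ p ∈ R` form an
`R`-basis of `T`, then `T` is a tower of `m` elementary `p`-th root extractions of `R`. -/
theorem isRootTower_of_monomial_basis : ∀ (m : ℕ) (R T : Type u) [CommRing R] [CommRing T]
    [Nontrivial T]
    [Algebra R T] (t : Fin m → T) (a : Fin m → R) (_ : ∀ i, t i ^ p = algebraMap R T (a i))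
    (_ : LinearIndependent R (fun e : Fin m → Fin p => ∏ i, t i ^ (e i : ℕ)))
    (_ : Submodule.span R (Set.range fun e : Fin m → Fin p => ∏ i, t i ^ (e i : ℕ)) = ⊤),
    Quiet.IsRootTower p m R T
  | 0, R, T, _, _, _, _, t, a, ht, hli, hsp => by
    have hinj : Function.Injective (algebraMap R T) := by
      rw [injective_iff_map_eq_zero]
      intro r hr
      rw [Fintype.linearIndependent_iff] at hli
      refine hli (fun _ => r) ?_ (fun i => i.elim0)
      simp [Algebra.smul_def, hr]
    have hsurj : Function.Surjective (algebraMap R T) := by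
      intro x
      have hx : x ∈ Submodule.span R (Set.range fun e : Fin 0 → Fin p =>
          ∏ i, t i ^ (e i : ℕ)) := by rw [hsp]; trivial
      have hr : (Set.range fun e : Fin 0 → Fin p => ∏ i, t i ^ (e i : ℕ)) = {1} := by
        ext y
        simp
      rw [hr, Submodule.mem_span_singleton] at hx
      obtain ⟨r, rfl⟩ := hx
      exact ⟨r, by rw [Algebra.smul_def, mul_one]⟩
    exact ⟨(AlgEquiv.ofBijective (Algebra.ofId R T) ⟨hinj, hsurj⟩).symm⟩
  | m + 1, R, T, _, _, _, _, t, a, ht, hli, hsp => by
    have hp0 : p ≠ 0 := hp.out.ne_zero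
    haveI : Nontrivial R := (algebraMap R T).domain_nontrivial
    set g : R[X] := X ^ p - C (a 0) with hg
    have hmonic : g.Monic := monic_X_pow_sub_C (a 0) hp0
    have hdeg : g.natDegree = p := natDegree_X_pow_sub_C
    have hroot : g.eval₂ (algebraMap R T) (t 0) = 0 := by
      rw [hg, eval₂_sub, eval₂_pow, eval₂_X, eval₂_C, ht 0, sub_self]
    letI alg : Algebra (Quiet.RootRing p R (a 0)) T :=
      (AdjoinRoot.lift (algebraMap R T) (t 0) hroot).toAlgebra
    have halg : ∀ x, algebraMap (Quiet.RootRing p R (a 0)) T x =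
        AdjoinRoot.lift (algebraMap R T) (t 0) hroot x := fun _ => rfl
    haveI htower : IsScalarTower R (Quiet.RootRing p R (a 0)) T := by
      refine IsScalarTower.of_algebraMap_eq fun r => ?_
      rw [halg, AdjoinRoot.algebraMap_eq, AdjoinRoot.lift_of]
    refine ⟨a 0, alg, htower, ?_⟩
    let β : Module.Basis (Fin (AdjoinRoot.powerBasis' hmonic).dim) R (Quiet.RootRing p R (a 0)) :=
      (AdjoinRoot.powerBasis' hmonic).basis
    have hβ : ∀ (j : Fin (AdjoinRoot.powerBasis' hmonic).dim) (x : T),
        β j • x = t 0 ^ (j : ℕ) * x := by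
      intro j x
      rw [Algebra.smul_def]
      congr 1
      change algebraMap (Quiet.RootRing p R (a 0)) T ((AdjoinRoot.powerBasis' hmonic).basis j) = _
      rw [(AdjoinRoot.powerBasis' hmonic).basis_eq_pow, map_pow, AdjoinRoot.powerBasis'_gen, halg,
        AdjoinRoot.lift_root]
    let c : (Fin m → Fin p) → T := fun e => ∏ i, t i.succ ^ (e i : ℕ)
    let E : Fin (AdjoinRoot.powerBasis' hmonic).dim × (Fin m → Fin p) ≃ (Fin (m + 1) → Fin p) :=
      ((finCongr (by rw [AdjoinRoot.powerBasis'_dim, hdeg])).prodCongr (Equiv.refl _)).trans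
        (Fin.consEquiv fun _ => Fin p)
    have hE0 : ∀ j e, ((E (j, e)) 0 : ℕ) = (j : ℕ) := fun _ _ => rfl
    have hEs : ∀ j e (i : Fin m), E (j, e) i.succ = e i := fun _ _ _ => rfl
    have hfam : (fun x : Fin (AdjoinRoot.powerBasis' hmonic).dim × (Fin m → Fin p) =>
        β x.1 • c x.2) = (fun e : Fin (m + 1) → Fin p => ∏ i, t i ^ (e i : ℕ)) ∘ E := by
      funext x
      rcases x with ⟨j, e⟩
      simp only [Function.comp_apply]
      rw [hβ, Fin.prod_univ_succ, hE0]
      simp only [hEs, c]
    refine @isRootTower_of_monomial_basis m (Quiet.RootRing p R (a 0)) T _ _ _ alg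
      (fun i => t i.succ) (fun i => algebraMap R _ (a i.succ)) ?_ ?_ ?_
    · intro i
      rw [ht i.succ, ← IsScalarTower.algebraMap_apply R (Quiet.RootRing p R (a 0)) T]
    · apply linearIndependent_of_smulTower β c
      rw [hfam]
      exact hli.comp E E.injective
    · apply span_eq_top_of_smulTower (R := R) (fun j => β j) c
      change Submodule.span R (Set.range fun x :
        Fin (AdjoinRoot.powerBasis' hmonic).dim × (Fin m → Fin p) => β x.1 • c x.2) = ⊤
      rw [hfam, Set.range_comp, E.range_eq_univ, Set.image_univ]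
      exact hsp

end Monomial

end Groth.Agent.Lib.R2H7.RootTower
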