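import Mathlib
import Groth.Prelude.Def_FrobAlg
import Groth.Prelude.Def_W4c2gaugesfzipsQuiet
import Groth.Agent.Lib.R2H7RelFrobPushout
import Groth.Agent.Lib.R2H7ExpandBasis
import Groth.Agent.Lib.R2H7RootTower

/-!
# The Frobenius of an algebra étale over a polynomial ring over a perfect ring is a root tower
-/

set_option autoImplicit false
set_option linter.style.haveILetI false

namespace Groth.Agent.Lib.R2H7.FrobPerfectTower

open FrobAlg MvPolynomial Groth.Agent.Lib.R2H7.RelFrob

universe u v

section Poly

variable (p : ℕ) [Fact p.Prime] (K : Type u) [CommRing K] [CharP K p] [PerfectRing K p]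
  (σ : Type v) [Finite σ]

/-- coefficients `↦` the polynomial with the `p`-th roots of these coefficients -/
noncomputable def rootEquiv : ((σ →₀ ℕ) →₀ K) ≃+ MvPolynomial σ K :=
  (Finsupp.mapRange.addEquiv (frobeniusEquiv K p).symm.toAddEquiv).trans
    (basisMonomials σ K).repr.symm.toAddEquiv

theorem rootEquiv_single (m : σ →₀ ℕ) (a : K) :
    rootEquiv p K σ (Finsupp.single m a) = monomial m ((frobeniusEquiv K p).symm a) := by
  change (basisMonomials σ K).repr.symm
    (Finsupp.mapRange (frobeniusEquiv K p).symm (map_zero _) (Finsupp.single m a)) = _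
  rw [Finsupp.mapRange_single, Module.Basis.repr_symm_single, coe_basisMonomials, smul_monomial,
    smul_eq_mul, mul_one]

theorem frobenius_rootEquiv_single (m : σ →₀ ℕ) (a : K) :
    frobenius (MvPolynomial σ K) p (rootEquiv p K σ (Finsupp.single m a)) =
      monomial (p • m) a := by
  rw [rootEquiv_single, frobenius_def, monomial_pow, ← frobenius_def,
    frobenius_apply_frobeniusEquiv_symm]

theorem twist_smallMonomial_bijective :
    Function.Bijective (Finsupp.linearCombination (MvPolynomial σ K)
      (fun e : σ → Fin p => toTwist p (MvPolynomial σ K) (smallMonomial (K := K) (σ := σ) p e))) :=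
  smallMonomial_bijective p (Fact.out : p.Prime).pos (frobenius (MvPolynomial σ K) p)
    (rootEquiv p K σ) (frobenius_rootEquiv_single p K σ)

/-- the basis of small monomials of the Frobenius twist of a polynomial ring over a perfect ring -/
noncomputable def twistBasis :
    Module.Basis (σ → Fin p) (MvPolynomial σ K) (Twist p (MvPolynomial σ K)) :=
  Module.Basis.ofRepr (LinearEquiv.ofBijective _ (twist_smallMonomial_bijective p K σ)).symm

theorem twistBasis_apply (e : σ → Fin p) :
    twistBasis p K σ e = toTwist p (MvPolynomial σ K) (smallMonomial (K := K) (σ := σ) p e) := by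
  simp [twistBasis]

end Poly

section Etale

theorem smallMonomial_eq_prod (p : ℕ) (K : Type u) [CommRing K] (m : ℕ) (e : Fin m → Fin p) :
    smallMonomial (K := K) (σ := Fin m) p e = ∏ i, (X i : MvPolynomial (Fin m) K) ^ (e i : ℕ) := by
  rw [smallMonomial, monomial_eq, C_1, one_mul, Finsupp.prod_fintype _ _ (fun i => pow_zero _)]
  rfl

variable (p : ℕ) [Fact p.Prime] (K : Type u) [CommRing K] [CharP K p] [PerfectRing K p] (m : ℕ)
  (B : Type u) [CommRing B] [CharP B p] [Algebra (MvPolynomial (Fin m) K) B]
  [Algebra.Etale (MvPolynomial (Fin m) K) B]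

attribute [local instance] Tower.algTCTB Tower.algBTB

/-- For `B` étale over `K[x₁..x_m]`, `K` perfect: `B` through its Frobenius is a tower of `m`
elementary `p`-th root extractions of `B`. -/
theorem isRootTower_target :
    Quiet.IsRootTower p m B (Target p (MvPolynomial (Fin m) K) B) := by
  have hpo : Algebra.IsPushout (MvPolynomial (Fin m) K) B (Twist p (MvPolynomial (Fin m) K))
      (Target p (MvPolynomial (Fin m) K) B) := (isPushout_outer p (MvPolynomial (Fin m) K) B).symm
  have ibc : IsBaseChange B (IsScalarTower.toAlgHom (MvPolynomial (Fin m) K)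
      (Twist p (MvPolynomial (Fin m) K)) (Target p (MvPolynomial (Fin m) K) B)).toLinearMap :=
    hpo.out
  let bB := ibc.basis (twistBasis p K (Fin m))
  have hbB : ∀ e, bB e = toTarget p (MvPolynomial (Fin m) K) B
      (∏ i, (algebraMap (MvPolynomial (Fin m) K) B (X i)) ^ (e i : ℕ)) := by
    intro e
    rw [IsBaseChange.basis_apply, twistBasis_apply]
    change algebraMap (Twist p (MvPolynomial (Fin m) K)) (Target p (MvPolynomial (Fin m) K) B)
      (toTwist p (MvPolynomial (Fin m) K) (smallMonomial (K := K) (σ := Fin m) p e)) = _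
    rw [algebraMap_TCTB, RingEquiv.symm_apply_apply, smallMonomial_eq_prod, map_prod]
    simp only [map_pow]
  haveI : Nontrivial B := CharP.nontrivial_of_char_ne_one (R := B) (Fact.out : p.Prime).ne_one
  haveI : Nontrivial (Target p (MvPolynomial (Fin m) K) B) :=
    (toTarget p (MvPolynomial (Fin m) K) B).injective.nontrivial
  have hfam : (fun e : Fin m → Fin p => ∏ i,
      (toTarget p (MvPolynomial (Fin m) K) B (algebraMap (MvPolynomial (Fin m) K) B (X i))) ^
        (e i : ℕ)) = ⇑bB := by
    funext e
    rw [hbB, map_prod]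
    simp only [map_pow]
  refine Groth.Agent.Lib.R2H7.RootTower.isRootTower_of_monomial_basis p m B
    (Target p (MvPolynomial (Fin m) K) B)
    (fun i => toTarget p (MvPolynomial (Fin m) K) B (algebraMap (MvPolynomial (Fin m) K) B (X i)))
    (fun i => algebraMap (MvPolynomial (Fin m) K) B (X i)) ?_ ?_ ?_
  · intro i
    rw [algebraMap_BTB, map_pow]
  · rw [hfam]
    exact bB.linearIndependent
  · rw [hfam]
    exact bB.span_eq

end Etale

end Groth.Agent.Lib.R2H7.FrobPerfectTower
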