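import Mathlib
import Groth.Prelude.Def_FrobAlg
import Groth.Prelude.Def_W4c2gaugesfzipsQuiet
import Groth.Agent.Lib.R2H7AwayPow
import Groth.Agent.Lib.R2H7FrobPerfectTower

/-!
# Locally, the Frobenius of a smooth algebra over a perfect field is a root tower
-/

set_option autoImplicit false
set_option linter.style.haveILetI false

namespace Groth.Agent.Lib.R2H7.FrobPerfectTower

open FrobAlg MvPolynomial Groth.Agent.Lib.R2H7.RelFrob

universe u

attribute [local instance] Tower.algTCTB Tower.algBTB

/-- localizing away from a positive power of `g` is localizing away from `g` -/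
theorem isLocalization_away_of_pow {R S : Type*} [CommSemiring R] [CommSemiring S] [Algebra R S]
    (g : R) (k : ℕ) (hk : 0 < k) [IsLocalization.Away (g ^ k) S] : IsLocalization.Away g S where
  map_units := by
    rintro ⟨_, j, rfl⟩
    change IsUnit (algebraMap R S (g ^ j))
    have h1 : IsUnit (algebraMap R S ((g ^ k) ^ j)) :=
      IsLocalization.map_units S (⟨(g ^ k) ^ j, j, rfl⟩ : Submonoid.powers (g ^ k))
    rw [← pow_mul, mul_comm, pow_mul, map_pow] at h1
    exact (isUnit_pow_iff hk.ne').mp h1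
  surj := by
    intro s
    obtain ⟨⟨x, ⟨_, j, rfl⟩⟩, hx⟩ := IsLocalization.surj (Submonoid.powers (g ^ k)) s
    refine ⟨⟨x, ⟨g ^ (k * j), k * j, rfl⟩⟩, ?_⟩
    change s * algebraMap R S (g ^ (k * j)) = algebraMap R S x
    change s * algebraMap R S ((g ^ k) ^ j) = algebraMap R S x at hx
    rw [pow_mul]
    exact hx
  exists_of_eq := by
    intro x y hxy
    obtain ⟨⟨_, j, rfl⟩, hc⟩ :=
      (IsLocalization.eq_iff_exists (Submonoid.powers (g ^ k)) S).mp hxy
    refine ⟨⟨g ^ (k * j), k * j, rfl⟩, ?_⟩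
    change (g ^ k) ^ j * x = (g ^ k) ^ j * y at hc
    change g ^ (k * j) * x = g ^ (k * j) * y
    rw [pow_mul]
    exact hc

/-- A ring map `ψ : B → T` which is the Frobenius of `B` followed by an isomorphism is a root
tower, for `B` étale over a polynomial ring over a perfect ring. -/
theorem isRootTower_of_frobenius_conj (p : ℕ) [Fact p.Prime] (K : Type u) [CommRing K]
    [CharP K p] [PerfectRing K p] (m : ℕ) (B : Type u) [CommRing B] [CharP B p]
    (g₀ : MvPolynomial (Fin m) K →+* B) (hg₀ : g₀.Etale)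
    (T : Type u) [CommRing T] (ψ : B →+* T) (θ : B ≃+* T) (hψ : ∀ b, ψ b = θ (b ^ p)) :
    letI := ψ.toAlgebra
    Quiet.IsRootTower p m B T := by
  letI := ψ.toAlgebra
  letI : Algebra (MvPolynomial (Fin m) K) B := g₀.toAlgebra
  haveI : Algebra.Etale (MvPolynomial (Fin m) K) B := hg₀
  have h := isRootTower_target p K m B
  let e : Target p (MvPolynomial (Fin m) K) B ≃ₐ[B] T :=
    { ((toTarget p (MvPolynomial (Fin m) K) B).symm.trans θ) with
      commutes' := fun b => by
        change θ ((toTarget p (MvPolynomial (Fin m) K) B).symm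
          (algebraMap B (Target p (MvPolynomial (Fin m) K) B) b)) = ψ b
        rw [algebraMap_BTB, RingEquiv.symm_apply_apply, hψ] }
  exact Groth.Agent.Lib.R2H7.RootTower.isRootTower_of_algEquiv p m B _ T e h

/-- Around every prime of a smooth algebra `A` over a perfect field there is a basic open `D(g)`
on which the Frobenius is a root tower: stated for arbitrary models `R` of `A_g`, `T` of
`A_{g^p}` and any ring map `ψ : R → T` over the Frobenius of `A`. -/
theorem exists_isRootTower_of_smooth (p : ℕ) [Fact p.Prime] (k : Type u) [Field k] [CharP k p]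
    [PerfectRing k p] (A : Type u) [CommRing A] [Algebra k A] [CharP A p] [Algebra.Smooth k A]
    (𝔮 : Ideal A) [h𝔮 : 𝔮.IsPrime] :
    ∃ g : A, g ∉ 𝔮 ∧ ∃ m : ℕ, ∀ (R T : Type u) [CommRing R] [CommRing T] [Algebra A R]
      [Algebra A T] [IsLocalization.Away g R] [IsLocalization.Away (g ^ p) T] (ψ : R →+* T)
      (_ : ∀ a, ψ (algebraMap A R a) = algebraMap A T (a ^ p)),
      letI := ψ.toAlgebra
      Quiet.IsRootTower p m R T := by
  have hp : p.Prime := Fact.out
  obtain ⟨s, hs, hstd⟩ := Algebra.Smooth.exists_span_eq_top_isStandardSmooth k A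
  obtain ⟨g, hgs, hg𝔮⟩ : ∃ g ∈ s, g ∉ 𝔮 := by
    by_contra hcon
    have hsub : s ⊆ (𝔮 : Set A) := fun x hx => by
      by_contra hx'
      exact hcon ⟨x, hx, hx'⟩
    have : Ideal.span s ≤ 𝔮 := Ideal.span_le.mpr hsub
    rw [hs] at this
    exact h𝔮.ne_top (top_le_iff.mp this)
  refine ⟨g, hg𝔮, ?_⟩
  haveI : Algebra.IsStandardSmooth k (Localization.Away g) := hstd g hgs
  obtain ⟨ι, σ, hσ, hι, ⟨P⟩⟩ := Algebra.IsStandardSmooth.out (R := k) (S := Localization.Away g)
  haveI : Algebra.IsStandardSmoothOfRelativeDimension P.dimension k (Localization.Away g) :=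
    ⟨⟨ι, σ, hσ, hι, P, rfl⟩⟩
  obtain ⟨g₀, hg₀⟩ :=
    Algebra.IsStandardSmoothOfRelativeDimension.exists_etale_mvPolynomial P.dimension k
      (Localization.Away g)
  refine ⟨P.dimension, ?_⟩
  intro R T _ _ _ _ _ _ ψ hψ
  -- `R` is nontrivial of characteristic `p`
  haveI : Nontrivial R := by
    by_contra hR
    rw [not_nontrivial_iff_subsingleton] at hR
    have h01 : algebraMap A R 1 = algebraMap A R 0 := Subsingleton.elim _ _
    obtain ⟨⟨_, n, rfl⟩, hc⟩ := (IsLocalization.eq_iff_exists (Submonoid.powers g) R).mp h01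
    simp only [mul_one, mul_zero] at hc
    exact hg𝔮 (h𝔮.mem_of_pow_mem n (hc ▸ 𝔮.zero_mem))
  have hp0 : ((p : ℕ) : R) = 0 := by
    rw [← map_natCast (algebraMap A R), CharP.cast_eq_zero, map_zero]
  haveI : CharP R p := (CharP.charP_iff_prime_eq_zero hp).mpr hp0
  -- `R` is étale over the polynomial ring
  let e₁ : Localization.Away g ≃ₐ[A] R := IsLocalization.algEquiv (Submonoid.powers g) _ _
  have hg₁ : ((e₁ : Localization.Away g ≃+* R).toRingHom.comp g₀.toRingHom).Etale :=
    RingHom.Etale.respectsIso.1 _ _ hg₀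
  -- `T` is also a localization at `g`
  haveI hT : IsLocalization.Away g T := isLocalization_away_of_pow g p hp.pos
  let θ : R ≃ₐ[A] T := IsLocalization.algEquiv (Submonoid.powers g) R T
  have hψθ : ψ = (θ : R ≃+* T).toRingHom.comp (frobenius R p) := by
    apply IsLocalization.ringHom_ext (Submonoid.powers g)
    ext a
    simp only [RingHom.comp_apply, hψ, frobenius_def]
    rw [← map_pow]
    exact (θ.commutes (a ^ p)).symm
  exact isRootTower_of_frobenius_conj p k P.dimension R _ hg₁ T ψ (θ : R ≃+* T)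
    (fun b => by rw [hψθ]; rfl)

end Groth.Agent.Lib.R2H7.FrobPerfectTower
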