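import Mathlib
import Groth.Prelude.Def_FrobAlg
import Groth.Prelude.Def_W4c2gaugesfzipsQuiet
import Groth.Agent.Lib.R2H7RelFrobSmooth
import Groth.Agent.Lib.R2H7FrobPerfectLocal

/-!
# The Frobenius of a smooth algebra over a perfect field: faithfully flat, and an extraction of
`p`-th roots on the spectrum
-/

set_option autoImplicit false
set_option linter.style.haveILetI false

namespace Groth.Agent.Lib.R2H7.FrobPerfectTower

open FrobAlg Groth.Agent.Lib.R2H7.RelFrob AlgebraicGeometry CategoryTheory Opposite TensorProduct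

universe u

/-- sections over `U` of `Spec φ` and the structure maps from the rings -/
theorem app_algebraMap {R S : CommRingCat.{u}} (φ : R ⟶ S) (U : (Spec R).Opens) (a : R) :
    ((Spec.map φ).app U).hom (algebraMap R Γ(Spec R, U) a) =
      algebraMap S Γ(Spec S, Spec.map φ ⁻¹ᵁ U) (φ.hom a) := by
  simp only [IsAffineOpen.algebraMap_Spec_obj]
  have h1 := (Spec.map φ).naturality (homOfLE (le_top : U ≤ ⊤)).op
  have h2 := Scheme.ΓSpecIso_inv_naturality φ
  have h3 : (Scheme.ΓSpecIso R).inv ≫ (Spec R).presheaf.map (homOfLE (le_top : U ≤ ⊤)).op ≫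
      (Spec.map φ).app U = φ ≫ (Scheme.ΓSpecIso S).inv ≫
        (Spec S).presheaf.map (homOfLE (le_top : Spec.map φ ⁻¹ᵁ U ≤ ⊤)).op := by
    rw [h1, ← Category.assoc, ← Category.assoc, h2]
    rfl
  exact congrArg (fun ψ => ψ.hom a) h3

section

variable (p : ℕ) [Fact p.Prime] (k : Type u) [Field k] [CharP k p] [PerfectRing k p]
  (A : Type u) [CommRing A] [Algebra k A] [CharP A p]

/-- `a ↦ a ⊗ 1` is bijective when the base is perfect -/
theorem includeLeft_bijective :
    Function.Bijective (Algebra.TensorProduct.includeLeft : A →ₐ[A] BaseChange p k A) := by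
  have hbij : Function.Bijective (algebraMap k (Twist p k)) := by
    change Function.Bijective fun a : k => toTwist p k (a ^ p)
    exact (toTwist p k).bijective.comp
      (PerfectRing.bijective_frobenius : Function.Bijective fun x : k => x ^ p)
  let e₀ : k ≃ₐ[k] Twist p k := AlgEquiv.ofBijective (Algebra.ofId k (Twist p k)) hbij
  let e : BaseChange p k A ≃ₐ[A] A :=
    (Algebra.TensorProduct.congr (AlgEquiv.refl : A ≃ₐ[A] A) e₀.symm).trans
      (Algebra.TensorProduct.rid k A A)
  let ι : A →ₐ[A] BaseChange p k A := Algebra.TensorProduct.includeLeft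
  have h' : ι = (e.symm : A →ₐ[A] BaseChange p k A) := Subsingleton.elim _ _
  change Function.Bijective ι
  rw [h']
  exact e.symm.bijective

omit [PerfectRing k p] in
theorem frobenius_eq_relFrob_comp :
    frobenius A p = (relFrob p k A).comp
      (Algebra.TensorProduct.includeLeft : A →ₐ[A] BaseChange p k A).toRingHom := by
  ext a
  change a ^ p = relFrob p k A (a ⊗ₜ[k] (1 : Twist p k))
  rw [relFrob_tmul_one]

variable [Algebra.Smooth k A]

include k

theorem frobenius_flat_of_smooth : (frobenius A p).Flat := by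
  rw [frobenius_eq_relFrob_comp p k A]
  exact RingHom.Flat.comp (RingHom.Flat.of_bijective (includeLeft_bijective p k A))
    (relFrob_flat_of_smooth p k A)

theorem frobenius_faithfullyFlat_of_smooth : (frobenius A p).FaithfullyFlat := by
  rw [RingHom.FaithfullyFlat.iff_flat_and_comap_surjective]
  refine ⟨frobenius_flat_of_smooth p k A, fun 𝔭 => ⟨𝔭, ?_⟩⟩
  ext a
  change a ^ p ∈ 𝔭.asIdeal ↔ a ∈ 𝔭.asIdeal
  exact 𝔭.isPrime.pow_mem_iff_mem p (Fact.out : p.Prime).pos

omit [CharP A p] [Algebra k A] [Algebra.Smooth k A] in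
/-- bundled form, so that the instances on sections of `Spec R` are found -/
theorem isPthRoot_of_frobenius (R : CommRingCat.{u}) [Algebra k R] [CharP R p]
    [Algebra.Smooth k R] (φ : R ⟶ R) (hφ : ∀ a, φ.hom a = a ^ p) :
    Quiet.IsPthRoot p (Spec.map φ) := by
  intro x
  obtain ⟨g, hgx, m, H⟩ := exists_isRootTower_of_smooth p k R x.asIdeal
  refine ⟨⟨PrimeSpectrum.basicOpen g, IsAffineOpen.Spec_basicOpen (R := R) g⟩,
    hgx, ?_, m, ?_⟩
  · exact IsAffineOpen.Spec_basicOpen (R := R) (φ.hom g)
  · have h0 : IsLocalization.Away (φ.hom g)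
        Γ(Spec R, Spec.map φ ⁻¹ᵁ PrimeSpectrum.basicOpen g) :=
      inferInstanceAs (IsLocalization.Away (φ.hom g)
        Γ(Spec R, PrimeSpectrum.basicOpen (φ.hom g)))
    have hg : φ.hom g = g ^ p := hφ g
    haveI l2 : IsLocalization.Away (g ^ p)
        Γ(Spec R, Spec.map φ ⁻¹ᵁ PrimeSpectrum.basicOpen g) := hg ▸ h0
    exact H Γ(Spec R, PrimeSpectrum.basicOpen g)
      Γ(Spec R, Spec.map φ ⁻¹ᵁ PrimeSpectrum.basicOpen g)
      ((Spec.map φ).app (PrimeSpectrum.basicOpen g)).hom
      (fun a => by rw [app_algebraMap φ (PrimeSpectrum.basicOpen g) a, hφ])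

theorem isPthRoot_frobenius_of_smooth :
    Quiet.IsPthRoot p (Spec.map (CommRingCat.ofHom (frobenius A p))) :=
  isPthRoot_of_frobenius p k (CommRingCat.of A) (CommRingCat.ofHom (frobenius A p))
    (fun _ => rfl)

end

end Groth.Agent.Lib.R2H7.FrobPerfectTower
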