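import Mathlib
import Groth.Agent.Lib.Helper25SubDiag
import Groth.Agent.Lib.Helper25MultQuot
import Groth.Agent.Lib.Helper22Amitsur

/-!
# R2H7GLLiftB: the uniqueness part of `R2H7GLLift`, on top of `Helper25MultRigidB`

`R2H7GLLift` imports `Helper25MultRigid`, which cannot be imported together with
`Helper25MultTypePrim` (both declare `Helper25.primDefect`).  This file repeats the parts of
`R2H7GLLift` which are needed together with `Groth.Agent.S7979`, on top of the copy
`Helper25MultRigidB` (namespace `MRB`).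
-/

set_option autoImplicit false
universe u v

namespace Groth.Agent.Lib.R2H7.GLLiftB

open TensorProduct Coalgebra Groth.Agent.Lib.Helper25

section Defs

variable (S : Type u) [CommRing S] (B : Type v) [CommRing B] [HopfAlgebra S B] (K : Ideal S)

/-- Group-like elements congruent modulo `K` are equal. -/
def UniqGL : Prop :=
  ∀ g g' : B, IsGroupLikeElem S g → IsGroupLikeElem S g' →
    g - g' ∈ K • (⊤ : Submodule S B) → g = g'

end Defs

section TM

variable {R : Type u} [CommRing R]

theorem tmul_mem_smul_top {N N' : Type*} [AddCommGroup N] [Module R N] [AddCommGroup N']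
    [Module R N'] (K K' : Ideal R) {x : N} {y : N'}
    (hx : x ∈ K • (⊤ : Submodule R N)) (hy : y ∈ K' • (⊤ : Submodule R N')) :
    x ⊗ₜ[R] y ∈ (K * K') • (⊤ : Submodule R (N ⊗[R] N')) := by
  refine Submodule.smul_induction_on hx ?_ ?_
  · intro r hr n _
    refine Submodule.smul_induction_on hy ?_ ?_
    · intro r' hr' n' _
      rw [TensorProduct.smul_tmul_smul]
      exact Submodule.smul_mem_smul (Ideal.mul_mem_mul hr hr') Submodule.mem_top
    · intro a b ha hb
      rw [TensorProduct.tmul_add]
      exact Submodule.add_mem _ ha hb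
  · intro a b ha hb
    rw [TensorProduct.add_tmul]
    exact Submodule.add_mem _ ha hb

end TM

section Uniq

variable {S : Type u} [CommRing S] {B : Type v} [CommRing B] [HopfAlgebra S B]

/-- A membership in `K • ⊤` is witnessed by a finitely generated subideal. -/
theorem exists_fg_le_of_mem_smul_top {N : Type*} [AddCommGroup N] [Module S N] (K : Ideal S)
    {z : N} (hz : z ∈ K • (⊤ : Submodule S N)) :
    ∃ K₀ : Ideal S, K₀.FG ∧ K₀ ≤ K ∧ z ∈ K₀ • (⊤ : Submodule S N) := by
  refine Submodule.smul_induction_on hz ?_ ?_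
  · intro r hr n _
    refine ⟨Ideal.span {r}, ⟨{r}, by simp⟩, (Ideal.span_singleton_le_iff_mem K).mpr hr, ?_⟩
    exact Submodule.smul_mem_smul (Ideal.mem_span_singleton_self r) Submodule.mem_top
  · rintro x y ⟨K₁, h1, h1', hx⟩ ⟨K₂, h2, h2', hy⟩
    refine ⟨K₁ ⊔ K₂, Submodule.FG.sup h1 h2, sup_le h1' h2', ?_⟩
    exact Submodule.add_mem _ (Submodule.smul_mono le_sup_left le_rfl hx)
      (Submodule.smul_mono le_sup_right le_rfl hy)

theorem mul_mem_smul_top (K : Ideal S) (b : B) {z : B} (hz : z ∈ K • (⊤ : Submodule S B)) :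
    b * z ∈ K • (⊤ : Submodule S B) := by
  refine Submodule.smul_induction_on hz ?_ ?_
  · intro r hr n _
    rw [mul_smul_comm]
    exact Submodule.smul_mem_smul hr Submodule.mem_top
  · intro x y hx hy
    rw [mul_add]
    exact Submodule.add_mem _ hx hy

theorem primDefect_sub_one {u : B} (hu : IsGroupLikeElem S u) :
    MRB.primDefect S B (u - 1) = (u - 1) ⊗ₜ[S] (u - 1) := by
  have h1 : comul (R := S) (1 : B) = (1 : B) ⊗ₜ[S] (1 : B) :=
    (IsGroupLikeElem.one (R := S) (A := B)).comul_eq_tmul_self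
  rw [MRB.primDefect_apply, map_sub, hu.comul_eq_tmul_self]
  change u ⊗ₜ[S] u - comul (R := S) (1 : B) - _ - _ = _
  rw [h1]
  simp only [sub_tmul, tmul_sub]
  abel

/-- Uniqueness of group-like lifts modulo a nil ideal, for Hopf algebras with no primitive elements
modulo ideals of the base. -/
theorem uniqGL_of_noPrimMod (hP : MRB.NoPrimMod S B) (K : Ideal S) (hK : ∀ x ∈ K, IsNilpotent x) :
    UniqGL S B K := by
  intro g g' hg hg' hgg
  obtain ⟨K₀, hfg, hle, hmem⟩ := exists_fg_le_of_mem_smul_top K hgg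
  have hnil : IsNilpotent K₀ := by
    rw [Ideal.FG.isNilpotent_iff_le_nilradical hfg]
    intro x hx
    exact mem_nilradical.mpr (hK x (hle hx))
  set u : B := HopfAlgebra.antipode S g * g' with hu
  have hug : IsGroupLikeElem S u := hg.antipode.mul hg'
  have hx0 : u - 1 = HopfAlgebra.antipode S g * (g' - g) := by
    rw [mul_sub, hg.antipode_mul_cancel]
  have hx1 : u - 1 ∈ K₀ • (⊤ : Submodule S B) := by
    rw [hx0]
    apply mul_mem_smul_top
    have : g' - g = -(g - g') := by ring
    rw [this]
    exact Submodule.neg_mem _ hmem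
  have hstep : ∀ m : ℕ, u - 1 ∈ (K₀ ^ (m + 1)) • (⊤ : Submodule S B) := by
    intro m
    induction m with
    | zero => simpa using hx1
    | succ m ih =>
      apply hP
      rw [primDefect_sub_one hug]
      have h1 := tmul_mem_smul_top (K₀ ^ (m + 1)) (K₀ ^ (m + 1)) ih ih
      have hle2 : K₀ ^ (m + 1) * K₀ ^ (m + 1) ≤ K₀ ^ (m + 1 + 1) := by
        rw [← pow_add]
        exact Ideal.pow_le_pow_right (by omega)
      exact Submodule.smul_mono hle2 le_rfl h1
  obtain ⟨n, hn⟩ := hnil
  have h1 := hstep n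
  have h2 : K₀ ^ (n + 1) = ⊥ := by
    rw [pow_succ, hn]
    simp
  rw [h2, Submodule.bot_smul, Submodule.mem_bot, sub_eq_zero] at h1
  have h3 : g * u = g' := by
    rw [hu, ← mul_assoc, hg.mul_antipode_cancel, one_mul]
  rw [← h3, h1, mul_one]

end Uniq

section Functor

variable {R : Type u} [CommRing R] (A : Type u) [CommRing A] [HopfAlgebra R A]

/-- The functor `X ↦ X ⊗[R] A` on morphisms. -/
noncomputable abbrev Hmap {X Y : Type u} [CommRing X] [CommRing Y] [Algebra R X] [Algebra R Y]
    (f : X →ₐ[R] Y) : X ⊗[R] A →ₐ[R] Y ⊗[R] A :=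
  Algebra.TensorProduct.map f (AlgHom.id R A)

variable {A}

theorem cancelBC_one_tmul {X Y : Type u} [CommRing X] [CommRing Y] [Algebra R X] [Algebra R Y]
    [Algebra X Y] [IsScalarTower R X Y] (f : X →ₐ[R] Y) (hf : ∀ s, f s = algebraMap X Y s)
    (x : X ⊗[R] A) :
    BCB.cancelBC R X Y A ((1 : Y) ⊗ₜ[X] x) = Hmap A f x := by
  induction x using TensorProduct.induction_on with
  | zero => simp
  | tmul s a =>
    rw [BCB.cancelBC_tmul]
    simp [Hmap, hf, Algebra.smul_def]
  | add a b ha hb => rw [tmul_add, map_add, ha, hb, map_add]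

/-- Group-like elements are functorial in the base. -/
theorem isGroupLikeElem_map {X Y : Type u} [CommRing X] [CommRing Y] [Algebra R X] [Algebra R Y]
    (f : X →ₐ[R] Y) {x : X ⊗[R] A} (hx : IsGroupLikeElem X x) :
    IsGroupLikeElem Y (Hmap A f x) := by
  letI : Algebra X Y := f.toRingHom.toAlgebra
  haveI : IsScalarTower R X Y := IsScalarTower.of_algebraMap_eq (fun r => (f.commutes r).symm)
  have h1 : IsGroupLikeElem Y ((1 : Y) ⊗ₜ[X] x) := SubDiag.isGroupLikeElem_one_tmul hx
  have h2 := h1.map (BCB.cancelBC R X Y A)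
  rwa [cancelBC_one_tmul f (fun _ => rfl)] at h2

theorem Hmap_smul {X Y : Type u} [CommRing X] [CommRing Y] [Algebra R X] [Algebra R Y]
    (f : X →ₐ[R] Y) (k : X) (z : X ⊗[R] A) : Hmap A f (k • z) = f k • Hmap A f z := by
  rw [Algebra.smul_def, Algebra.smul_def, map_mul, Algebra.TensorProduct.algebraMap_apply,
    Algebra.TensorProduct.algebraMap_apply]
  simp [Hmap]

theorem Hmap_one_tmul {X Y : Type u} [CommRing X] [CommRing Y] [Algebra R X] [Algebra R Y]
    (f : X →ₐ[R] Y) (a : A) : Hmap A f ((1 : X) ⊗ₜ[R] a) = (1 : Y) ⊗ₜ[R] a := by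
  simp [Hmap]

end Functor

section BaseChange

variable {S : Type u} [CommRing S] (T : Type u) [CommRing T] [Algebra S T]
  {B : Type u} [CommRing B] [HopfAlgebra S B]

theorem one_tmul_eq_zero_of_bcMap2 (z : B ⊗[S] B) (hz : MRB.bcMap2 (R := S) T B z = 0) :
    (1 : T) ⊗ₜ[S] z = 0 := by
  have h1 : ((1 : T) ⊗ₜ[T] (1 : T)) ⊗ₜ[S] z = (0 : (T ⊗[T] T) ⊗[S] (B ⊗[S] B)) := by
    have : (AlgebraTensorModule.tensorTensorTensorComm S T S T T T B B)
        (((1 : T) ⊗ₜ[T] (1 : T)) ⊗ₜ[S] z) = 0 := hz
    exact (LinearEquiv.map_eq_zero_iff _).mp this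
  have h2 := congrArg (TensorProduct.map ((TensorProduct.rid T T).toLinearMap.restrictScalars S)
    (LinearMap.id : B ⊗[S] B →ₗ[S] B ⊗[S] B)) h1
  simpa only [TensorProduct.map_tmul, LinearMap.coe_restrictScalars, LinearEquiv.coe_coe,
    TensorProduct.rid_tmul, LinearMap.id_coe, id_eq, map_zero, one_smul] using h2

theorem bcMap2_injective [Module.FaithfullyFlat S T] :
    Function.Injective (MRB.bcMap2 (R := S) T B) := by
  rw [injective_iff_map_eq_zero]
  intro z hz
  exact (Module.FaithfullyFlat.one_tmul_eq_zero_iff S _ z).mp (one_tmul_eq_zero_of_bcMap2 T z hz)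

/-- Group-likeness descends along faithfully flat base change. -/
theorem isGroupLikeElem_of_one_tmul [Module.FaithfullyFlat S T] {g : B}
    (h : IsGroupLikeElem T ((1 : T) ⊗ₜ[S] g)) : IsGroupLikeElem S g where
  counit_eq_one := by
    have h1 := h.counit_eq_one
    rw [TensorProduct.counit_tmul] at h1
    have h2 : algebraMap S T (counit (R := S) g) = algebraMap S T 1 := by
      simpa [Algebra.smul_def] using h1
    exact FaithfulSMul.algebraMap_injective S T h2
  comul_eq_tmul_self := by
    have h1 := h.comul_eq_tmul_self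
    rw [MRB.comul_one_tmul, ← MRB.bcMap2_tmul] at h1
    exact bcMap2_injective T h1

end BaseChange

section Descent

variable {R : Type u} [CommRing R] (A : Type u) [CommRing A] [HopfAlgebra R A]
  (R' : Type u) [CommRing R'] [Algebra R R']

theorem assoc_Hmap_includeLeft (z : R' ⊗[R] A) :
    TensorProduct.assoc R R' R' A
        (Hmap A (Algebra.TensorProduct.includeLeft : R' →ₐ[R] R' ⊗[R] R') z) =
      LinearMap.lTensor R' (TensorProduct.mk R R' A 1) z := by
  induction z using TensorProduct.induction_on with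
  | zero => simp
  | tmul r a => simp [Hmap]
  | add a b ha hb => rw [map_add, map_add, ha, hb, map_add]

theorem assoc_Hmap_includeRight (z : R' ⊗[R] A) :
    TensorProduct.assoc R R' R' A
        (Hmap A (Algebra.TensorProduct.includeRight : R' →ₐ[R] R' ⊗[R] R') z) =
      TensorProduct.mk R R' (R' ⊗[R] A) 1 z := by
  induction z using TensorProduct.induction_on with
  | zero => simp
  | tmul r a => simp [Hmap]
  | add a b ha hb => rw [map_add, map_add, ha, hb, map_add]

theorem Hmap_eq_rTensor {X Y : Type u} [CommRing X] [CommRing Y] [Algebra R X] [Algebra R Y]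
    (f : X →ₐ[R] Y) (z : X ⊗[R] A) : Hmap A f z = LinearMap.rTensor A f.toLinearMap z := by
  induction z using TensorProduct.induction_on with
  | zero => simp
  | tmul r a => simp [Hmap]
  | add a b ha hb => rw [map_add, map_add, ha, hb]

end Descent

end Groth.Agent.Lib.R2H7.GLLiftB
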