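import Groth.Agent.Lib.R2H2ProjSec
import Groth.Agent.Lib.R2H2KoszulGeom
import Groth.Agent.Lib.R2H7CechLC

/-!
# Global sections of `M(d)~` and `0`-cocycles of the strand Čech complex (helper7, round 2)

`globalOf_surjective_iff_rho`: for homogeneous `f_i` of positive degrees whose `D₊(f_i)` cover
`Proj 𝒜`, the canonical map `M_d → Γ(Proj 𝒜, M(d)~)` is surjective iff the augmentation
`M_d → Z^0` of the degree-`d` strand Čech complex is surjective onto the `0`-cocycles.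
-/

set_option autoImplicit false
set_option linter.unusedSectionVars false
universe u

namespace Groth.Agent.Lib.R2H7.GlobalRho

open CategoryTheory CategoryTheory.Limits AlgebraicGeometry TopologicalSpace Opposite
open Groth.Agent.Lib.Helper16.CechLow Groth.Agent.Lib.R2H2.LocPsh Groth.Agent.Lib.R2H2.CechCmp
  Groth.Agent.Lib.R2H2.Strand Groth.Agent.Lib.R2H2.StrandCech
  Groth.Agent.Lib.Helper27GrTildeSect Groth.Agent.Lib.R2H2.ProjSec Groth.Agent.Lib.R2H7.CechLC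
  Groth.Agent.Lib.Helper6

variable {R A : Type u} [CommRing R] [CommRing A] [Algebra R A] (𝒜 : ℕ → Submodule R A)
  [GradedAlgebra 𝒜]
variable {M : Type u} [AddCommGroup M] [Module R M] [Module A M] [IsScalarTower R A M]
  (ℳ : ℕ → Submodule R M) [DirectSum.Decomposition ℳ] [SetLike.GradedSMul 𝒜 ℳ]
variable (fs : List A) (hfs : ∀ a ∈ fs, ∃ d : ℕ, 0 < d ∧ a ∈ 𝒜 d)

lemma valAt_locMap {n n' : ℕ} (x : Fin (n + 1) → Idx fs) (x' : Fin (n' + 1) → Idx fs)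
    (h : SS fs x ≤ SS fs x') (y : Proj 𝒜) (hy : y ∈ Ux (Wp 𝒜 fs) x)
    (hy' : y ∈ Ux (Wp 𝒜 fs) x') (w : LocalizedModule (SS fs x) M) :
    valAt 𝒜 fs x' y hy' (locMap M h w) = valAt 𝒜 fs x y hy w := by
  induction w using LocalizedModule.induction_on with | _ m s
  rw [locMap_mk, valAt_mk, valAt_mk]

lemma valAt_transport (d : ℤ) (c : (CNd fs (zgr 𝒜 ℳ) d).X 0) {x₁ x₂ : Fin 1 → Idx fs}
    (h : x₁ = x₂) (y : Proj 𝒜) (hy₁ : y ∈ Ux (Wp 𝒜 fs) x₁) (hy₂ : y ∈ Ux (Wp 𝒜 fs) x₂) :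
    valAt 𝒜 fs x₁ y hy₁ (sval (zgr 𝒜 ℳ) (pr (fam fs) (pshd (zgr 𝒜 ℳ) d) 0 x₁ c)) =
      valAt 𝒜 fs x₂ y hy₂ (sval (zgr 𝒜 ℳ) (pr (fam fs) (pshd (zgr 𝒜 ℳ) d) 0 x₂ c)) := by
  subst h
  rfl

/-- the values of a `0`-cocycle agree on overlaps -/
lemma valAt_cocycle (d : ℤ) (c : (CNd fs (zgr 𝒜 ℳ) d).X 0)
    (hc : (CNd fs (zgr 𝒜 ℳ) d).d 0 1 c = 0) (x x' : Fin 1 → Idx fs) (y : Proj 𝒜)
    (hy : y ∈ Ux (Wp 𝒜 fs) x) (hy' : y ∈ Ux (Wp 𝒜 fs) x') :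
    valAt 𝒜 fs x y hy (sval (zgr 𝒜 ℳ) (pr (fam fs) (pshd (zgr 𝒜 ℳ) d) 0 x c)) =
      valAt 𝒜 fs x' y hy' (sval (zgr 𝒜 ℳ) (pr (fam fs) (pshd (zgr 𝒜 ℳ) d) 0 x' c)) := by
  let y2 : Fin 2 → Idx fs := ![x 0, x' 0]
  have e0 : y2 ∘ Fin.succAbove 0 = x' := by
    funext k
    fin_cases k
    rfl
  have e1 : y2 ∘ Fin.succAbove 1 = x := by
    funext k
    fin_cases k
    rfl
  have hy2 : y ∈ Ux (Wp 𝒜 fs) y2 := by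
    rw [mem_Ux_iff]
    intro k
    fin_cases k
    · exact (mem_Ux_iff 𝒜 fs x y).mp hy 0
    · exact (mem_Ux_iff 𝒜 fs x' y).mp hy' 0
  have hy20 : y ∈ Ux (Wp 𝒜 fs) (y2 ∘ Fin.succAbove 0) := by rw [e0]; exact hy'
  have hy21 : y ∈ Ux (Wp 𝒜 fs) (y2 ∘ Fin.succAbove 1) := by rw [e1]; exact hy
  have h1 := congrArg (pr (fam fs) (pshd (zgr 𝒜 ℳ) d) 1 y2) hc
  rw [d_pr_apply, map_zero, Fin.sum_univ_two] at h1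
  simp only [Fin.val_zero, pow_zero, one_smul, Fin.val_one, pow_one, neg_smul] at h1
  rw [add_neg_eq_zero] at h1
  have h2 := congrArg (sval (zgr 𝒜 ℳ)) h1
  rw [pshd_map_coe, pshd_map_coe] at h2
  have h3 := congrArg (valAt 𝒜 fs y2 y hy2) h2
  have h40 := valAt_locMap 𝒜 fs (y2 ∘ Fin.succAbove 0) y2 (SS_face_le fs y2 0) y hy20 hy2
    (sval (zgr 𝒜 ℳ) (pr (fam fs) (pshd (zgr 𝒜 ℳ) d) 0 (y2 ∘ Fin.succAbove 0) c))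
  have h41 := valAt_locMap 𝒜 fs (y2 ∘ Fin.succAbove 1) y2 (SS_face_le fs y2 1) y hy21 hy2
    (sval (zgr 𝒜 ℳ) (pr (fam fs) (pshd (zgr 𝒜 ℳ) d) 0 (y2 ∘ Fin.succAbove 1) c))
  have h5 := (h40.symm.trans h3).trans h41
  exact ((valAt_transport 𝒜 ℳ fs d c e1.symm y hy hy21).trans h5.symm).trans
    (valAt_transport 𝒜 ℳ fs d c e0 y hy20 hy')

lemma mem_Ux_one (i : Idx fs) (y : Proj 𝒜) (hy : y ∈ Wp 𝒜 fs i) :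
    y ∈ Ux (Wp 𝒜 fs) (fun _ : Fin 1 => i) := by
  rw [mem_Ux_iff]
  intro _
  exact (Proj.mem_basicOpen 𝒜 _ y).mp hy

lemma secVal_globalOf {d : ℕ} (m : ℳ d) (y : ProjectiveSpectrum 𝒜) (hy : y ∈ (⊤ : (Proj 𝒜).Opens)) :
    secVal 𝒜 ℳ (d : ℤ) ⊤ (ofSect 𝒜 ℳ (d : ℤ) ⊤ (GrTilde.globalOf 𝒜 ℳ m)) y hy =
      LocalizedModule.mk m.1 1 := rfl

include hfs in
theorem globalOf_surjective_iff_rho (hcov : ⨆ i, Wp 𝒜 fs i = ⊤) (d : ℕ) :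
    Function.Surjective (fun m : ℳ d => GrTilde.globalOf 𝒜 ℳ m) ↔
      ∀ c : (CNd fs (zgr 𝒜 ℳ) (d : ℤ)).X 0, (CNd fs (zgr 𝒜 ℳ) (d : ℤ)).d 0 1 c = 0 →
        ∃ m : (zgr 𝒜 ℳ).pc (d : ℤ), rho fs (zgr 𝒜 ℳ) (d : ℤ) m = c := by
  have hcovx : ∀ y : Proj 𝒜, ∃ x : Fin 1 → Idx fs, y ∈ Ux (Wp 𝒜 fs) x := by
    intro y
    have hy : y ∈ ⨆ i, Wp 𝒜 fs i := by rw [hcov]; trivial
    obtain ⟨i, hi⟩ := Opens.mem_iSup.mp hy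
    exact ⟨fun _ => i, mem_Ux_one 𝒜 fs i y hi⟩
  -- the restriction of `m/1`
  have hres : ∀ (m : ℳ d) (x : Fin 1 → Idx fs),
      res (GrTilde.tilde 𝒜 ℳ (d : ℤ)) (le_top : Ux (Wp 𝒜 fs) x ≤ ⊤)
        (ofSect 𝒜 ℳ (d : ℤ) ⊤ (GrTilde.globalOf 𝒜 ℳ m)) =
      phiHom 𝒜 ℳ fs x (d : ℤ) (pr (fam fs) (pshd (zgr 𝒜 ℳ) (d : ℤ)) 0 x
        (rho fs (zgr 𝒜 ℳ) (d : ℤ) ⟨m.1, m.2⟩)) := by
    intro m x
    apply sec_ext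
    intro y hy
    have h1 := pr_rho fs (zgr 𝒜 ℳ) (d : ℤ) x ⟨m.1, m.2⟩
    have h3 := (congrArg (valAt 𝒜 fs x y hy) h1).trans (valAt_mk 𝒜 fs x y hy m.1 1)
    exact h3.symm
  constructor
  · intro hsurj c hc
    -- glue
    have hcompat : ∀ x x' : Fin 1 → Idx fs,
        res (GrTilde.tilde 𝒜 ℳ (d : ℤ))
          (inf_le_left : Ux (Wp 𝒜 fs) x ⊓ Ux (Wp 𝒜 fs) x' ≤ Ux (Wp 𝒜 fs) x)
          (phiHom 𝒜 ℳ fs x (d : ℤ) (pr (fam fs) (pshd (zgr 𝒜 ℳ) (d : ℤ)) 0 x c)) =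
        res (GrTilde.tilde 𝒜 ℳ (d : ℤ))
          (inf_le_right : Ux (Wp 𝒜 fs) x ⊓ Ux (Wp 𝒜 fs) x' ≤ Ux (Wp 𝒜 fs) x')
          (phiHom 𝒜 ℳ fs x' (d : ℤ) (pr (fam fs) (pshd (zgr 𝒜 ℳ) (d : ℤ)) 0 x' c)) := by
      intro x x'
      apply sec_ext
      intro y hy
      rw [secVal_map, secVal_map, secVal_phiHom, secVal_phiHom]
      exact valAt_cocycle 𝒜 ℳ fs (d : ℤ) c hc x x' y hy.1 hy.2
    have hcovU : (⊤ : (Proj 𝒜).Opens) ≤ ⨆ x : Fin 1 → Idx fs, Ux (Wp 𝒜 fs) x := by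
      intro y _
      obtain ⟨x, hx⟩ := hcovx y
      exact Opens.mem_iSup.mpr ⟨x, hx⟩
    obtain ⟨σ, hσ⟩ := Groth.Agent.Lib.R2H2.KoszulGeom.exists_glue (GrTilde.tilde 𝒜 ℳ (d : ℤ))
      (fun x : Fin 1 → Idx fs => Ux (Wp 𝒜 fs) x) ⊤ (fun _ => le_top) hcovU
      (fun x => phiHom 𝒜 ℳ fs x (d : ℤ) (pr (fam fs) (pshd (zgr 𝒜 ℳ) (d : ℤ)) 0 x c)) hcompat
    obtain ⟨m, hm⟩ := hsurj (toSect 𝒜 ℳ (d : ℤ) ⊤ σ)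
    have hm' : ofSect 𝒜 ℳ (d : ℤ) ⊤ (GrTilde.globalOf 𝒜 ℳ m) = σ := hm
    refine ⟨⟨m.1, m.2⟩, ?_⟩
    apply elt_ext (fam fs) (pshd (zgr 𝒜 ℳ) (d : ℤ)) 0
    intro x
    apply phiHom_injective 𝒜 ℳ fs hfs x (d : ℤ)
    rw [← hres m x, hm']
    exact hσ x
  · intro hrho σ
    -- the cocycle of `σ`
    have hz : ∀ x : Fin 1 → Idx fs, ∃ z, phiHom 𝒜 ℳ fs x (d : ℤ) z =
        res (GrTilde.tilde 𝒜 ℳ (d : ℤ)) (le_top : Ux (Wp 𝒜 fs) x ≤ ⊤) (ofSect 𝒜 ℳ (d : ℤ) ⊤ σ) :=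
      fun x => phiHom_surjective 𝒜 ℳ fs hfs x (d : ℤ) _
    choose z hz using hz
    let c : (CNd fs (zgr 𝒜 ℳ) (d : ℤ)).X 0 := mkElt (fam fs) (pshd (zgr 𝒜 ℳ) (d : ℤ)) 0 z
    have hcz : ∀ x, pr (fam fs) (pshd (zgr 𝒜 ℳ) (d : ℤ)) 0 x c = z x :=
      fun x => pr_mkElt (fam fs) (pshd (zgr 𝒜 ℳ) (d : ℤ)) 0 z x
    have hc : (CNd fs (zgr 𝒜 ℳ) (d : ℤ)).d 0 1 c = 0 := by
      apply elt_ext (fam fs) (pshd (zgr 𝒜 ℳ) (d : ℤ)) 1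
      intro y
      rw [d_pr_apply, map_zero, Fin.sum_univ_two]
      simp only [Fin.val_zero, pow_zero, one_smul, Fin.val_one, pow_one, neg_smul]
      rw [add_neg_eq_zero, hcz, hcz]
      apply phiHom_injective 𝒜 ℳ fs hfs y (d : ℤ)
      have h0 := ConcreteCategory.congr_hom (phiHom_comm 𝒜 ℳ fs (d : ℤ) y 0)
        (z (y ∘ Fin.succAbove 0))
      have h1 := ConcreteCategory.congr_hom (phiHom_comm 𝒜 ℳ fs (d : ℤ) y 1)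
        (z (y ∘ Fin.succAbove 1))
      refine h0.trans (Eq.trans ?_ h1.symm)
      apply sec_ext
      intro y' hy'
      have key : ∀ (x : Fin 1 → Idx fs) (hy'' : y' ∈ Ux (Wp 𝒜 fs) x),
          secVal 𝒜 ℳ (d : ℤ) _ (phiHom 𝒜 ℳ fs x (d : ℤ) (z x)) y' hy'' =
            (σ.1 ⟨y', trivial⟩).1 := by
        intro x hy''
        exact congrArg (fun s => secVal 𝒜 ℳ (d : ℤ) (Ux (Wp 𝒜 fs) x) s y' hy'') (hz x)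
      exact (key (y ∘ Fin.succAbove 0) _).trans (key (y ∘ Fin.succAbove 1) _).symm
    obtain ⟨m, hm⟩ := hrho c hc
    refine ⟨⟨m.1, m.2⟩, ?_⟩
    change GrTilde.globalOf 𝒜 ℳ (⟨m.1, m.2⟩ : ℳ d) = toSect 𝒜 ℳ (d : ℤ) ⊤ (ofSect 𝒜 ℳ (d : ℤ) ⊤ σ)
    have key : ofSect 𝒜 ℳ (d : ℤ) ⊤ (GrTilde.globalOf 𝒜 ℳ (⟨m.1, m.2⟩ : ℳ d)) =
        ofSect 𝒜 ℳ (d : ℤ) ⊤ σ := by
      apply Groth.Agent.Lib.R2H2.KoszulGeom.eq_of_res_eq (GrTilde.tilde 𝒜 ℳ (d : ℤ))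
        (fun x : Fin 1 → Idx fs => Ux (Wp 𝒜 fs) x) ⊤ (fun _ => le_top)
      · intro y _
        obtain ⟨x, hx⟩ := hcovx y
        exact Opens.mem_iSup.mpr ⟨x, hx⟩
      · intro x
        rw [hres ⟨m.1, m.2⟩ x, ← hz x]
        congr 1
        have : (⟨(⟨m.1, m.2⟩ : ℳ d).1, (⟨m.1, m.2⟩ : ℳ d).2⟩ : (zgr 𝒜 ℳ).pc (d : ℤ)) = m := rfl
        rw [this, hm, hcz]
    exact key

end Groth.Agent.Lib.R2H7.GlobalRho
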