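import Mathlib

/-!
# Gordan's theorem and separation of a point from a finite convex hull over an ordered field
(helper7, round 2)

Mathlib has separation theorems only over `ℝ` (Hahn–Banach).  Here: for a vector space over a
linearly ordered field, a finite family of vectors no non-trivial non-negative combination of which
vanishes admits a linear functional positive on all of them (`gordan`); consequently a point outside
the convex hull of a finite set is strictly separated from it by a linear functional
(`exists_dual_forall_lt_of_notMem_convexHull`).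
-/

set_option autoImplicit false
open Module
namespace Groth.Agent.Lib.R2H7.Gordan

variable {R : Type*} {V : Type*} [Field R] [LinearOrder R] [IsStrictOrderedRing R]
variable [AddCommGroup V] [Module R V]

theorem exists_pos_forall_lt' {κ : Type*} (s : Finset κ) (δ : κ → R) (hδ : ∀ i ∈ s, 0 < δ i) :
    ∃ ε : R, 0 < ε ∧ ∀ i ∈ s, ε < δ i := by
  classical
  induction s using Finset.induction_on with
  | empty => exact ⟨1, one_pos, fun i hi => absurd hi (Finset.notMem_empty i)⟩
  | insert a s ha ih =>
    obtain ⟨ε, hε, h⟩ := ih (fun i hi => hδ i (Finset.mem_insert_of_mem hi))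
    have ha' := hδ a (Finset.mem_insert_self a s)
    refine ⟨min ε (δ a) / 2, by positivity, fun i hi => ?_⟩
    have hmin : min ε (δ a) / 2 < min ε (δ a) := half_lt_self (lt_min hε ha')
    rcases Finset.mem_insert.mp hi with rfl | hi
    · exact hmin.trans_le (min_le_right _ _)
    · exact (hmin.trans_le (min_le_left _ _)).trans (h i hi)

theorem exists_dual_pos {v : V} (hv : v ≠ 0) : ∃ e : Dual R V, 0 < e v := by
  obtain ⟨e, he⟩ := Module.Projective.exists_dual_ne_zero R hv
  rcases lt_or_gt_of_ne he with h | h
  · exact ⟨-e, by rw [LinearMap.neg_apply]; exact neg_pos.mpr h⟩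
  · exact ⟨e, h⟩

/-- **Gordan's theorem** over a linearly ordered field. -/
theorem gordan {κ : Type*} (s : Finset κ) (v : κ → V)
    (h : ∀ c : κ → R, (∀ i ∈ s, 0 ≤ c i) → ∑ i ∈ s, c i • v i = 0 → ∀ i ∈ s, c i = 0) :
    ∃ f : Dual R V, ∀ i ∈ s, 0 < f (v i) := by
  classical
  induction s using Finset.induction_on generalizing v with
  | empty => exact ⟨0, fun i hi => absurd hi (Finset.notMem_empty i)⟩
  | insert a s ha ih =>
    -- the condition for `s`
    have hs : ∀ c : κ → R, (∀ i ∈ s, 0 ≤ c i) → ∑ i ∈ s, c i • v i = 0 → ∀ i ∈ s, c i = 0 := by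
      intro c hc hsum i hi
      have := h (fun j => if j = a then 0 else c j) ?_ ?_ i (Finset.mem_insert_of_mem hi)
      · rwa [if_neg (fun hia : i = a => ha (hia ▸ hi))] at this
      · intro j _
        split_ifs
        · exact le_rfl
        · exact hc j (by
            rcases Finset.mem_insert.mp ‹j ∈ insert a s› with h1 | h1
            · exact absurd h1 ‹¬ j = a›
            · exact h1)
      · rw [Finset.sum_insert ha, if_pos rfl, zero_smul, zero_add, ← hsum]
        apply Finset.sum_congr rfl
        intro j hj
        rw [if_neg (fun hja : j = a => ha (hja ▸ hj))]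
    obtain ⟨f, hf⟩ := ih v hs
    -- `v a ≠ 0`
    have hva : v a ≠ 0 := by
      intro h0
      have := h (fun j => if j = a then 1 else 0) (fun j _ => by split_ifs <;> simp) ?_ a
        (Finset.mem_insert_self a s)
      · rw [if_pos rfl] at this; exact one_ne_zero this
      · rw [Finset.sum_insert ha, if_pos rfl, h0, smul_zero, zero_add]
        apply Finset.sum_eq_zero
        intro j hj
        rw [if_neg (fun hja : j = a => ha (hja ▸ hj)), zero_smul]
    obtain ⟨e, he⟩ := exists_dual_pos (R := R) hva
    by_cases hfa : 0 < f (v a)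
    · refine ⟨f, fun i hi => ?_⟩
      rcases Finset.mem_insert.mp hi with rfl | hi
      · exact hfa
      · exact hf i hi
    have ht : f (v a) ≤ 0 := not_lt.mp hfa
    set t := f (v a) with ht_def
    -- the projected family
    have hs' : ∀ c : κ → R, (∀ i ∈ s, 0 ≤ c i) →
        ∑ i ∈ s, c i • (f (v i) • v a - t • v i) = 0 → ∀ i ∈ s, c i = 0 := by
      intro c hc hsum
      have hsum' : (∑ i ∈ s, c i * f (v i)) • v a + ∑ i ∈ s, (-t * c i) • v i = 0 := by
        rw [← hsum, Finset.sum_smul, ← Finset.sum_add_distrib]
        apply Finset.sum_congr rfl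
        intro i _
        rw [smul_sub, smul_smul, smul_smul, neg_mul, neg_smul, sub_eq_add_neg, mul_comm t]
      have key := h (fun j => if j = a then ∑ i ∈ s, c i * f (v i) else -t * c j) ?_ ?_ a
        (Finset.mem_insert_self a s)
      · rw [if_pos rfl] at key
        have hterm : ∀ i ∈ s, 0 ≤ c i * f (v i) := fun i hi => mul_nonneg (hc i hi) (hf i hi).le
        intro i hi
        have h0 := (Finset.sum_eq_zero_iff_of_nonneg hterm).mp key i hi
        rcases mul_eq_zero.mp h0 with h1 | h1
        · exact h1
        · exact absurd h1 (hf i hi).ne'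
      · intro j hj
        split_ifs with hja
        · exact Finset.sum_nonneg (fun i hi => mul_nonneg (hc i hi) (hf i hi).le)
        · rcases Finset.mem_insert.mp hj with h1 | h1
          · exact absurd h1 hja
          · exact mul_nonneg (neg_nonneg.mpr ht) (hc j h1)
      · rw [Finset.sum_insert ha, if_pos rfl, ← hsum']
        congr 1
        apply Finset.sum_congr rfl
        intro j hj
        rw [if_neg (fun hja : j = a => ha (hja ▸ hj))]
    obtain ⟨g, hg⟩ := ih (fun i => f (v i) • v a - t • v i) hs'
    have hg' : ∀ i ∈ s, 0 < f (v i) * g (v a) - t * g (v i) := by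
      intro i hi
      have := hg i hi
      rwa [map_sub, map_smul, map_smul, smul_eq_mul, smul_eq_mul] at this
    rcases ht.lt_or_eq with htneg | ht0
    · -- `t < 0`
      set L := g (v a) / t with hL
      have hδ : ∀ i ∈ s, 0 < g (v i) / f (v i) - L := by
        intro i hi
        have h1 := hg' i hi
        have hfi := hf i hi
        rw [hL, sub_pos, lt_div_iff₀ hfi, div_mul_eq_mul_div, div_lt_iff_of_neg htneg]
        linarith [mul_comm (g (v i)) t, mul_comm (g (v a)) (f (v i))]
      obtain ⟨ε, hε, hεδ⟩ := exists_pos_forall_lt' s _ hδ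
      refine ⟨g - (L + ε) • f, fun i hi => ?_⟩
      rw [LinearMap.sub_apply, LinearMap.smul_apply, smul_eq_mul, sub_pos]
      rcases Finset.mem_insert.mp hi with rfl | hi
      · rw [← ht_def]
        have h1 : L * t = g (v i) := by rw [hL]; exact div_mul_cancel₀ _ htneg.ne
        have h2 : ε * t < 0 := mul_neg_of_pos_of_neg hε htneg
        nlinarith
      · have hfi := hf i hi
        have h1 := hεδ i hi
        have h2 : L + ε < g (v i) / f (v i) := by linarith
        rwa [lt_div_iff₀ hfi] at h2
    · -- `t = 0`
      rcases s.eq_empty_or_nonempty with hsE | ⟨i₀, hi₀⟩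
      · subst hsE
        refine ⟨e, fun i hi => ?_⟩
        rcases Finset.mem_insert.mp hi with rfl | hi
        · exact he
        · exact absurd hi (Finset.notMem_empty i)
      · have hga : 0 < g (v a) := by
          have := hg' i₀ hi₀
          rw [ht0, zero_mul, sub_zero] at this
          exact (pos_iff_pos_of_mul_pos this).mp (hf i₀ hi₀)
        -- choose K large
        obtain ⟨K, hK⟩ : ∃ K : R, ∀ i ∈ s, 0 < g (v i) + K * f (v i) := by
          refine ⟨∑ j ∈ s, |g (v j)| / f (v j) + 1, fun i hi => ?_⟩
          have hfi := hf i hi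
          have h1 : |g (v i)| / f (v i) ≤ ∑ j ∈ s, |g (v j)| / f (v j) :=
            Finset.single_le_sum (f := fun j => |g (v j)| / f (v j))
              (fun j hj => div_nonneg (abs_nonneg _) (hf j hj).le) hi
          have h2 : |g (v i)| = (|g (v i)| / f (v i)) * f (v i) := by field_simp
          have h3 : -|g (v i)| ≤ g (v i) := neg_abs_le _
          nlinarith
        refine ⟨g + K • f, fun i hi => ?_⟩
        rw [LinearMap.add_apply, LinearMap.smul_apply, smul_eq_mul]
        rcases Finset.mem_insert.mp hi with rfl | hi
        · rw [← ht_def, ht0, mul_zero, add_zero]; exact hga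
        · exact hK i hi

/-- A point outside the convex hull of a finite set is strictly separated from it by a linear
functional (over any linearly ordered field). -/
theorem exists_dual_forall_lt_of_notMem_convexHull (S : Finset V) (y : V)
    (hy : y ∉ convexHull R (S : Set V)) : ∃ f : Dual R V, ∀ x ∈ S, f y < f x := by
  classical
  have key : ∀ c : V → R, (∀ x ∈ S, 0 ≤ c x) → ∑ x ∈ S, c x • (x - y) = 0 → ∀ x ∈ S, c x = 0 := by
    intro c hc hsum
    by_contra hne
    apply hy
    set C := ∑ x ∈ S, c x with hC
    have hCnn : 0 ≤ C := Finset.sum_nonneg hc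
    have hCpos : 0 < C := by
      rcases hCnn.lt_or_eq with h | h
      · exact h
      · exact absurd ((Finset.sum_eq_zero_iff_of_nonneg hc).mp h.symm) hne
    have hsum' : ∑ x ∈ S, c x • x = C • y := by
      have : ∑ x ∈ S, c x • (x - y) = ∑ x ∈ S, c x • x - C • y := by
        rw [hC, Finset.sum_smul, ← Finset.sum_sub_distrib]
        exact Finset.sum_congr rfl (fun x _ => smul_sub _ _ _)
      rw [this] at hsum
      exact sub_eq_zero.mp hsum
    rw [Finset.mem_convexHull']
    refine ⟨fun x => c x / C, fun x hx => div_nonneg (hc x hx) hCnn, ?_, ?_⟩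
    · rw [← Finset.sum_div, div_self hCpos.ne']
    · have : ∑ x ∈ S, (c x / C) • x = C⁻¹ • ∑ x ∈ S, c x • x := by
        rw [Finset.smul_sum]
        apply Finset.sum_congr rfl
        intro x _
        rw [smul_smul, div_eq_inv_mul]
      rw [this, hsum', smul_smul, inv_mul_cancel₀ hCpos.ne', one_smul]
  obtain ⟨f, hf⟩ := gordan S (fun x => x - y) key
  refine ⟨f, fun x hx => ?_⟩
  have := hf x hx
  rwa [map_sub, sub_pos] at this

end Groth.Agent.Lib.R2H7.Gordan
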