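/-
The degree of the Hilbert polynomial of a finitely generated graded module over a Noetherian
non-negatively graded ring with Artinian degree zero part is smaller than the dimension of its
support: graded prime avoidance, homogeneous regular elements of positive degree modulo the
submodule of elements killed in high degrees, and induction on the dimension.
-/
import Mathlib
import Groth.Agent.Lib.R2H7GrSerre

set_option autoImplicit false
open DirectSum

noncomputable section

namespace Groth.Agent.Lib.R2H7.GrDim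

open Groth.Agent.Lib.R2H7.GrDer Groth.Agent.Lib.R2H7.GrOps Groth.Agent.Lib.R2H7.GrLES
  Groth.Agent.Lib.R2H7.GrTors Groth.Agent.Lib.R2H7.GrGen Groth.Agent.Lib.R2H7.GrTop
  Groth.Agent.Lib.R2H7.GrEv Groth.Agent.Lib.R2H7.GrH
  Groth.Agent.Lib.R2H7.GrLen Groth.Agent.Lib.R2H7.GrFin Groth.Agent.Lib.R2H7.GrSerre
  Groth.Agent.Lib.Helper29GrEss Groth.Agent.Lib.Helper29GrHom Groth.Agent.Lib.Helper29GrStd
  Groth.Agent.Lib.Helper29GrBaer Groth.Agent.Lib.Helper29GrGam Groth.Agent.Lib.Helper29GrSub
open scoped Pointwise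

universe u

/-! ### A polynomial lemma -/

section poly

open Polynomial

theorem coeff_sub_taylor (Q : ℚ[X]) (r : ℚ) (m : ℕ) (hm : Q.natDegree = m + 1) :
    (Q - taylor r Q).coeff m = -(((m : ℚ) + 1) * r * Q.coeff (m + 1)) := by
  have hdeg : (hasseDeriv m Q).natDegree < 2 := by
    have h1 := natDegree_hasseDeriv_le Q m
    rw [hm] at h1
    omega
  rw [coeff_sub, taylor_coeff, eval_eq_sum_range' hdeg, Finset.sum_range_succ,
    Finset.sum_range_one, hasseDeriv_coeff, hasseDeriv_coeff, pow_zero, pow_one, mul_one,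
    zero_add, Nat.choose_self, Nat.cast_one, one_mul, add_comm 1 m, Nat.choose_succ_self_right]
  push_cast
  ring

/-- If the difference `Q(X) - Q(X + r)` has degree `< d`, then `Q` has degree `< d + 1`. -/
theorem degree_lt_succ_of_sub_taylor (Q : ℚ[X]) (r : ℚ) (hr : r ≠ 0) (d : ℕ)
    (h : (Q - taylor r Q).degree < (d : WithBot ℕ)) : Q.degree < ((d + 1 : ℕ) : WithBot ℕ) := by
  rcases Nat.eq_zero_or_pos Q.natDegree with h0 | h0
  · refine lt_of_le_of_lt degree_le_natDegree ?_
    rw [h0]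
    exact_mod_cast Nat.succ_pos d
  · obtain ⟨m, hm⟩ : ∃ m, Q.natDegree = m + 1 := ⟨Q.natDegree - 1, by omega⟩
    have hc := coeff_sub_taylor Q r m hm
    have hlead : Q.coeff (m + 1) ≠ 0 := by
      rw [← hm]
      intro h1
      have : Q = 0 := leadingCoeff_eq_zero.mp h1
      rw [this, natDegree_zero] at hm
      omega
    have hne : (Q - taylor r Q).coeff m ≠ 0 := by
      rw [hc, neg_ne_zero]
      have : ((m : ℚ) + 1) ≠ 0 := Nat.cast_add_one_ne_zero m
      exact mul_ne_zero (mul_ne_zero this hr) hlead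
    have h1 : (m : WithBot ℕ) ≤ (Q - taylor r Q).degree := le_degree_of_ne_zero hne
    have h2 : (m : WithBot ℕ) < (d : WithBot ℕ) := lt_of_le_of_lt h1 h
    have h3 : m < d := by exact_mod_cast h2
    refine lt_of_le_of_lt degree_le_natDegree ?_
    rw [hm]
    exact_mod_cast Nat.succ_lt_succ h3

end poly

variable {R : Type u} [CommRing R] {𝒜 : ℤ → AddSubgroup R} [GradedRing 𝒜]

/-! ### Graded prime avoidance -/

section avoid

theorem exists_homogeneous_notMem (s : Finset (Ideal R)) :
    (∀ p ∈ s, p.IsPrime) → (∀ p ∈ s, ∃ e : ℤ, 0 < e ∧ ∃ x ∈ 𝒜 e, x ∉ p) →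
      ∃ e : ℤ, 0 < e ∧ ∃ x ∈ 𝒜 e, ∀ p ∈ s, x ∉ p := by
  classical
  induction s using Finset.strongInduction with
  | H s ih =>
    intro hs hI
    have key : ∀ p ∈ s, ∃ e : ℤ, 0 < e ∧ ∃ x ∈ 𝒜 e, ∀ q ∈ s.erase p, x ∉ q := by
      intro p hp
      exact ih (s.erase p) (Finset.erase_ssubset hp)
        (fun q hq => hs q (Finset.mem_of_mem_erase hq))
        (fun q hq => hI q (Finset.mem_of_mem_erase hq))
    choose! e he x hx hxq using key
    by_cases h : ∃ p ∈ s, x p ∉ p
    · obtain ⟨p, hp, hxp⟩ := h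
      refine ⟨e p, he p hp, x p, hx p hp, fun q hq => ?_⟩
      by_cases hqp : q = p
      · rw [hqp]
        exact hxp
      · exact hxq p hp q (Finset.mem_erase.mpr ⟨hqp, hq⟩)
    · have hall : ∀ p ∈ s, x p ∈ p := by
        intro p hp
        by_contra hc
        exact h ⟨p, hp, hc⟩
      rcases s.eq_empty_or_nonempty with hemp | ⟨p₀, hp₀⟩
      · exact ⟨1, one_pos, 0, zero_mem _, fun p hp => by rw [hemp] at hp; simp at hp⟩
      · rcases (s.erase p₀).eq_empty_or_nonempty with hemp | hne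
        · obtain ⟨e₀, he₀, x₀, hx₀, hx₀p⟩ := hI p₀ hp₀
          refine ⟨e₀, he₀, x₀, hx₀, fun q hq => ?_⟩
          have : q = p₀ := by
            by_contra hqp
            have : q ∈ s.erase p₀ := Finset.mem_erase.mpr ⟨hqp, hq⟩
            rw [hemp] at this
            simp at this
          rw [this]
          exact hx₀p
        · -- the product of the `x q`, `q ≠ p₀`
          have hprime₀ : p₀.IsPrime := hs p₀ hp₀
          have hy : (∏ q ∈ s.erase p₀, x q) ∈ 𝒜 (∑ q ∈ s.erase p₀, e q) :=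
            SetLike.prod_mem_graded 𝒜 e x
              (fun q hq => hx q (Finset.mem_of_mem_erase hq))
          have hu : 0 < ∑ q ∈ s.erase p₀, e q :=
            Finset.sum_pos (fun q hq => he q (Finset.mem_of_mem_erase hq)) hne
          have hv : 0 < e p₀ := he p₀ hp₀
          have hynot : (∏ q ∈ s.erase p₀, x q) ∉ p₀ := by
            intro hmem
            obtain ⟨q, hq, hxq'⟩ := Ideal.IsPrime.prod_mem_iff.mp hmem
            have hq' := Finset.mem_erase.mp hq
            exact hxq q hq'.2 p₀ (Finset.mem_erase.mpr ⟨fun h => hq'.1 h.symm, hp₀⟩) hxq'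
          have hyin : ∀ q ∈ s.erase p₀, (∏ q' ∈ s.erase p₀, x q') ∈ q := by
            intro q hq
            exact Ideal.mem_of_dvd q (Finset.dvd_prod_of_mem x hq)
              (hall q (Finset.mem_of_mem_erase hq))
          set y := ∏ q ∈ s.erase p₀, x q with hydef
          set u := ∑ q ∈ s.erase p₀, e q with hudef
          have hun : 0 < u.toNat := by omega
          have hvn : 0 < (e p₀).toNat := by omega
          have h1 : y ^ (e p₀).toNat ∈ 𝒜 (u * e p₀) := by
            have := SetLike.pow_mem_graded (e p₀).toNat hy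
            have h2 : (e p₀).toNat • u = u * e p₀ := by
              rw [nsmul_eq_mul, Int.toNat_of_nonneg hv.le, mul_comm]
            rw [h2] at this
            exact this
          have h2 : x p₀ ^ u.toNat ∈ 𝒜 (u * e p₀) := by
            have := SetLike.pow_mem_graded u.toNat (hx p₀ hp₀)
            have h3 : u.toNat • e p₀ = u * e p₀ := by
              rw [nsmul_eq_mul, Int.toNat_of_nonneg hu.le]
            rw [h3] at this
            exact this
          refine ⟨u * e p₀, mul_pos hu hv, y ^ (e p₀).toNat + x p₀ ^ u.toNat,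
            add_mem h1 h2, fun q hq hmem => ?_⟩
          by_cases hqp : q = p₀
          · rw [hqp] at hmem
            have h3 : x p₀ ^ u.toNat ∈ p₀ := Ideal.pow_mem_of_mem p₀ (hall p₀ hp₀) _ hun
            have h4 : y ^ (e p₀).toNat ∈ p₀ := by
              have := p₀.sub_mem hmem h3
              rwa [add_sub_cancel_right] at this
            exact hynot (hprime₀.mem_of_pow_mem _ h4)
          · have hq' : q ∈ s.erase p₀ := Finset.mem_erase.mpr ⟨hqp, hq⟩
            have hprime : q.IsPrime := hs q hq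
            have h3 : y ^ (e p₀).toNat ∈ q := Ideal.pow_mem_of_mem q (hyin q hq') _ hvn
            have h4 : x p₀ ^ u.toNat ∈ q := by
              have := q.sub_mem hmem h3
              rwa [add_sub_cancel_left] at this
            exact hxq p₀ hp₀ q hq' (hprime.mem_of_pow_mem _ h4)

end avoid

/-! ### Homogeneous regular elements of positive degree -/

section regular

theorem exists_regular [IsNoetherianRing R] (X : GrLC.GMod.{u} 𝒜) [Module.Finite R X.carrier]
    (hsoc : ∀ z : X.carrier, (∀ e : ℤ, 0 < e → ∀ r ∈ 𝒜 e, r • z = 0) → z = 0) :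
    ∃ e : ℤ, 0 < e ∧ ∃ x ∈ 𝒜 e, IsSMulRegular X.carrier x := by
  classical
  have hfin := associatedPrimes.finite R X.carrier
  obtain ⟨e, he, x, hx, hxp⟩ := exists_homogeneous_notMem (𝒜 := 𝒜) hfin.toFinset
    (fun p hp => by
      have hp' : IsAssociatedPrime p X.carrier := hfin.mem_toFinset.mp hp
      exact (isAssociatedPrime_iff.mp hp').1)
    (fun p hp => by
      have hp' : IsAssociatedPrime p X.carrier := hfin.mem_toFinset.mp hp
      obtain ⟨hprime, z, hz⟩ := isAssociatedPrime_iff.mp hp'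
      by_contra hcon
      have hall : ∀ e : ℤ, 0 < e → ∀ r ∈ 𝒜 e, r ∈ p := by
        intro e he r hr
        by_contra hc
        exact hcon ⟨e, he, r, hr, hc⟩
      have hz0 : z = 0 := by
        apply hsoc
        intro e he r hr
        have h1 : r ∈ (⊥ : Submodule R X.carrier).colon {z} := hz ▸ hall e he r hr
        exact (Submodule.mem_bot R).mp (Submodule.mem_colon_singleton.mp h1)
      apply hprime.ne_top
      rw [hz, hz0, Ideal.eq_top_iff_one]
      exact Submodule.mem_colon_singleton.mpr (by rw [smul_zero]; exact Submodule.zero_mem _))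
  refine ⟨e, he, x, hx, ?_⟩
  rw [isSMulRegular_iff_right_eq_zero_of_smul]
  intro z hz
  by_contra hne
  have h1 : x ∈ ⋃ p ∈ associatedPrimes R X.carrier, (p : Set R) := by
    rw [biUnion_associatedPrimes_eq_zero_divisors]
    exact ⟨z, hne, hz⟩
  obtain ⟨p, hp, hxp'⟩ := Set.mem_iUnion₂.mp h1
  exact hxp p (hfin.mem_toFinset.mpr hp) hxp'

end regular

/-! ### Elements killed in high degrees -/

section tors

variable (X : GrLC.GMod.{u} 𝒜)

/-- The elements killed by all homogeneous elements of sufficiently high degree. -/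
def tB : Submodule R X.carrier where
  carrier := {z | ∃ j : ℤ, ∀ n : ℤ, j < n → ∀ r ∈ 𝒜 n, r • z = 0}
  zero_mem' := ⟨0, fun _ _ r _ => smul_zero r⟩
  add_mem' := by
    rintro a b ⟨j, hj⟩ ⟨l, hl⟩
    refine ⟨max j l, fun n hn r hr => ?_⟩
    rw [smul_add, hj n (lt_of_le_of_lt (le_max_left _ _) hn) r hr,
      hl n (lt_of_le_of_lt (le_max_right _ _) hn) r hr, add_zero]
  smul_mem' := by
    rintro c z ⟨j, hj⟩
    exact ⟨j, fun n hn r hr => by rw [smul_comm, hj n hn r hr, smul_zero]⟩

theorem mem_tB {z : X.carrier} :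
    z ∈ tB X ↔ ∃ j : ℤ, ∀ n : ℤ, j < n → ∀ r ∈ 𝒜 n, r • z = 0 := Iff.rfl

theorem tB_isHomogeneous : (tB X).IsHomogeneous X.gr := by
  rintro g z ⟨j, hj⟩
  refine ⟨j, fun n hn r hr => ?_⟩
  have h1 := decompose_smul_of_mem 𝒜 X.gr hr z (n + g)
  rw [hj n hn r hr, DirectSum.decompose_zero, add_sub_cancel_left] at h1
  exact h1.symm

/-- `tB X` is bounded above. -/
theorem tB_bab [IsNoetherianRing R] [Module.Finite R X.carrier] :
    ∃ j : ℤ, ∀ n : ℤ, j < n → ∀ z ∈ tB X, z ∈ X.gr n → z = 0 := by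
  classical
  have hfinT : Module.Finite R (subG X (tB X) (tB_isHomogeneous X)).carrier :=
    inferInstanceAs (Module.Finite R ↥(tB X))
  obtain ⟨S, hS, hspan⟩ := exists_homogeneous_generators (R := R)
    (subG X (tB X) (tB_isHomogeneous X)).gr
  choose! deg hdeg using hS
  have hj' : ∀ s : (subG X (tB X) (tB_isHomogeneous X)).carrier,
      ∃ j : ℤ, ∀ n : ℤ, j < n → ∀ r ∈ 𝒜 n,
        r • ((GSES.ofSub X (tB X) (tB_isHomogeneous X)).f s) = 0 := fun s => s.2
  choose jj hjj using hj'
  obtain ⟨J, hJ⟩ := Finset.exists_le (S.image fun s => deg s + jj s)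
  refine ⟨J, fun n hn z hz hzn => ?_⟩
  obtain ⟨zz, hzz⟩ : ∃ zz : (subG X (tB X) (tB_isHomogeneous X)).carrier,
      (GSES.ofSub X (tB X) (tB_isHomogeneous X)).f zz = z := ⟨⟨z, hz⟩, rfl⟩
  have hz' : zz ∈ (subG X (tB X) (tB_isHomogeneous X)).gr n := by
    subst hzz
    exact hzn
  have hx' : zz ∈ Submodule.span R (S : Set (subG X (tB X) (tB_isHomogeneous X)).carrier) :=
    hspan ▸ Submodule.mem_top
  obtain ⟨f, -, hf⟩ := Submodule.mem_span_finset.mp hx'
  have h1 := decompose_sum_smul 𝒜 (subG X (tB X) (tB_isHomogeneous X)).gr S deg hdeg f n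
  rw [hf, DirectSum.decompose_of_mem_same _ hz'] at h1
  have h2 : zz = 0 := by
    rw [h1]
    refine Finset.sum_eq_zero fun s hs => ?_
    have hpos : jj s < n - deg s := by
      have h3 : deg s + jj s ≤ J := hJ _ (Finset.mem_image_of_mem (fun s => deg s + jj s) hs)
      omega
    apply (GSES.ofSub X (tB X) (tB_isHomogeneous X)).f_inj
    rw [map_smul, map_zero]
    exact hjj s _ hpos _ (SetLike.coe_mem _)
  rw [← hzz, h2, map_zero]

/-- The quotient by `tB X` has no nonzero element killed by all elements of positive degree. -/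
theorem quot_tB_socle [IsNoetherianRing R] [Module.Finite R X.carrier]
    (z' : (quotG X (tB X) (tB_isHomogeneous X)).carrier)
    (h : ∀ e : ℤ, 0 < e → ∀ r ∈ 𝒜 e, r • z' = 0) : z' = 0 := by
  classical
  obtain ⟨z, rfl⟩ := Submodule.Quotient.mk_surjective (tB X) z'
  obtain ⟨B, hB⟩ := tB_bab X
  obtain ⟨m, hm⟩ := Finset.exists_le ((decompose X.gr z).support.image fun g => -g)
  have hzT : z ∈ tB X := by
    refine ⟨max 0 (B + m), fun n hn r hr => ?_⟩
    have hn0 : 0 < n := lt_of_le_of_lt (le_max_left _ _) hn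
    have hnB : B + m < n := lt_of_le_of_lt (le_max_right _ _) hn
    have hrz : r • z ∈ tB X := by
      have h1 := h n hn0 r hr
      have h2 : (Submodule.Quotient.mk (r • z) : X.carrier ⧸ tB X) = 0 := h1
      exact (Submodule.Quotient.mk_eq_zero (tB X)).mp h2
    have hsum : r • z = ∑ g ∈ (decompose X.gr z).support, r • ((decompose X.gr z) g : X.carrier) := by
      conv_lhs => rw [← DirectSum.sum_support_decompose X.gr z]
      rw [Finset.smul_sum]
    rw [hsum]
    refine Finset.sum_eq_zero fun g hg => ?_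
    have h1 := decompose_smul_of_mem 𝒜 X.gr hr z (n + g)
    rw [add_sub_cancel_left] at h1
    rw [← h1]
    have hg' : -g ≤ m := hm _ (Finset.mem_image_of_mem (fun g => -g) hg)
    exact hB (n + g) (by omega) _ (tB_isHomogeneous X (n + g) hrz) (SetLike.coe_mem _)
  exact (Submodule.Quotient.mk_eq_zero (tB X)).mpr hzT

end tors

/-! ### Multiplication by a regular homogeneous element -/

section mul

variable (X : GrLC.GMod.{u} 𝒜)

theorem smul_top_isHomogeneous {e : ℤ} {x : R} (hx : x ∈ 𝒜 e) :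
    (x • (⊤ : Submodule R X.carrier)).IsHomogeneous X.gr := by
  intro g z hz
  obtain ⟨y, -, rfl⟩ := (Submodule.mem_smul_pointwise_iff_exists _ _ _).mp hz
  rw [decompose_smul_of_mem 𝒜 X.gr hx y g]
  exact Submodule.smul_mem_pointwise_smul _ x ⊤ Submodule.mem_top

/-- `0 → X(-e) → X → X/xX → 0` for a regular homogeneous element `x` of degree `e`. -/
def mulSES {e : ℤ} {x : R} (hx : x ∈ 𝒜 e) (hreg : IsSMulRegular X.carrier x) :
    GSES (shiftG X (-e)) X (quotG X (x • (⊤ : Submodule R X.carrier))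
      (smul_top_isHomogeneous X hx)) where
  f := mulG X e x
  g := (x • (⊤ : Submodule R X.carrier)).mkQ
  f_gr := mulG_grHom hx
  g_gr := mkQ_grHom X _ _
  f_inj := hreg
  g_surj := Submodule.mkQ_surjective _
  exact := (Submodule.ker_mkQ (x • (⊤ : Submodule R X.carrier))).trans (by
    ext z
    rw [Submodule.mem_smul_pointwise_iff_exists, LinearMap.mem_range]
    constructor
    · rintro ⟨y, -, rfl⟩
      exact ⟨y, rfl⟩
    · rintro ⟨y, rfl⟩
      exact ⟨y, Submodule.mem_top, rfl⟩)

/-- Graded Nakayama for one element of positive degree. -/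
theorem subsingleton_of_smul_top_eq_top (hpos : ∀ n : ℤ, n < 0 → 𝒜 n = ⊥)
    [Module.Finite R X.carrier] {e : ℤ} (he : 0 < e) {x : R} (hx : x ∈ 𝒜 e)
    (h : x • (⊤ : Submodule R X.carrier) = ⊤) : Subsingleton X.carrier := by
  classical
  obtain ⟨j, hj⟩ := bbelow_of_finite hpos X
  have key : ∀ k : ℕ, ∀ n : ℤ, n < j + k → ∀ z ∈ X.gr n, z = 0 := by
    intro k
    induction k with
    | zero =>
      intro n hn z hz
      exact hj n (by simpa using hn) z hz
    | succ k ih =>
      intro n hn z hz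
      have hz' : z ∈ x • (⊤ : Submodule R X.carrier) := by
        rw [h]
        exact Submodule.mem_top
      obtain ⟨y, -, rfl⟩ := (Submodule.mem_smul_pointwise_iff_exists _ _ _).mp hz'
      have h1 := decompose_smul_of_mem 𝒜 X.gr hx y n
      rw [DirectSum.decompose_of_mem_same X.gr hz] at h1
      rw [h1, ih (n - e) (by push_cast at hn; omega) _ (SetLike.coe_mem _), smul_zero]
  have hall : ∀ z : X.carrier, z = 0 := by
    intro z
    rw [← DirectSum.sum_support_decompose X.gr z]
    refine Finset.sum_eq_zero fun g _ => ?_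
    exact key (g - j + 1).toNat g (by
      have := Int.self_le_toNat (g - j + 1)
      omega) _ (SetLike.coe_mem _)
  exact ⟨fun u v => (hall u).trans (hall v).symm⟩

end mul

/-! ### The Hilbert polynomial -/

section hilb

open Polynomial

theorem poly_eq_zero_of_eventually (Q : ℚ[X]) (N : ℤ)
    (h : ∀ n : ℤ, N ≤ n → Q.eval (n : ℚ) = 0) : Q = 0 := by
  apply Polynomial.eq_zero_of_infinite_isRoot
  refine Set.infinite_of_injective_forall_mem
    (f := fun k : ℕ => (((N + (k : ℤ) : ℤ)) : ℚ)) ?_ ?_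
  · intro k l hkl
    have hkl' : (((N + (k : ℤ) : ℤ)) : ℚ) = (((N + (l : ℤ) : ℤ)) : ℚ) := hkl
    have h1 : (N + (k : ℤ) : ℤ) = N + (l : ℤ) := by exact_mod_cast hkl'
    omega
  · intro k
    exact h _ (by omega)

variable [IsNoetherianRing R] [IsArtinianRing (GrLC.deg0 𝒜)]

/-- `Q` is a Hilbert polynomial of `X`. -/
def HP (X : GrLC.GMod.{u} 𝒜) (Q : ℚ[X]) : Prop :=
  ∃ N : ℤ, ∀ n : ℤ, N ≤ n → Q.eval (n : ℚ) = lenQ (GrLC.deg0 𝒜) ↥(GrLC.comp 𝒜 X.gr n)

omit [IsNoetherianRing R] [IsArtinianRing (GrLC.deg0 𝒜)] in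
theorem hp_eq_zero_of_subsingleton (X : GrLC.GMod.{u} 𝒜) (h : Subsingleton X.carrier)
    (Q : ℚ[X]) (hQ : HP X Q) : Q = 0 := by
  obtain ⟨N, hN⟩ := hQ
  refine poly_eq_zero_of_eventually Q N fun n hn => ?_
  rw [hN n hn]
  have : Subsingleton ↥(GrLC.comp 𝒜 X.gr n) := ⟨fun u v => Subtype.ext (Subsingleton.elim _ _)⟩
  exact lenQ_of_subsingleton _

theorem hp_quot_tB (hpos : ∀ n : ℤ, n < 0 → 𝒜 n = ⊥) (X : GrLC.GMod.{u} 𝒜)
    [Module.Finite R X.carrier] (Q : ℚ[X]) (hQ : HP X Q) :
    HP (quotG X (tB X) (tB_isHomogeneous X)) Q := by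
  obtain ⟨N, hN⟩ := hQ
  obtain ⟨B, hB⟩ := tB_bab X
  refine ⟨max N (B + 1), fun n hn => ?_⟩
  have hnN : N ≤ n := le_trans (le_max_left _ _) hn
  have hnB : B < n := by
    have := le_trans (le_max_right _ _) hn
    omega
  have h1 := lenQ_comp_add (GSES.ofSub X (tB X) (tB_isHomogeneous X)) n (fl_comp hpos X n)
  have hz : ∀ u : ↥(GrLC.comp 𝒜 (subG X (tB X) (tB_isHomogeneous X)).gr n), u = 0 := by
    intro u
    apply Subtype.ext
    apply (GSES.ofSub X (tB X) (tB_isHomogeneous X)).f_inj
    show (GSES.ofSub X (tB X) (tB_isHomogeneous X)).f u.1 =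
      (GSES.ofSub X (tB X) (tB_isHomogeneous X)).f 0
    rw [map_zero]
    exact hB n hnB _ (Subtype.prop u.1) u.2
  have hs : Subsingleton ↥(GrLC.comp 𝒜 (subG X (tB X) (tB_isHomogeneous X)).gr n) :=
    ⟨fun u v => (hz u).trans (hz v).symm⟩
  rw [hN n hnN, h1, lenQ_of_subsingleton, zero_add]

theorem hp_quot_smul (hpos : ∀ n : ℤ, n < 0 → 𝒜 n = ⊥) (X : GrLC.GMod.{u} 𝒜)
    [Module.Finite R X.carrier] {e : ℤ} {x : R} (hx : x ∈ 𝒜 e)
    (hreg : IsSMulRegular X.carrier x) (Q : ℚ[X]) (hQ : HP X Q) :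
    HP (quotG X (x • (⊤ : Submodule R X.carrier)) (smul_top_isHomogeneous X hx))
      (Q - taylor (-(e : ℚ)) Q) := by
  obtain ⟨N, hN⟩ := hQ
  refine ⟨max N (N + e), fun n hn => ?_⟩
  have hnN : N ≤ n := le_trans (le_max_left _ _) hn
  have hnN' : N ≤ n + -e := by
    have := le_trans (le_max_right _ _) hn
    omega
  have h1 := lenQ_comp_add (mulSES X hx hreg) n (fl_comp hpos X n)
  have h2 : lenQ (GrLC.deg0 𝒜) ↥(GrLC.comp 𝒜 (shiftG X (-e)).gr n) =
      lenQ (GrLC.deg0 𝒜) ↥(GrLC.comp 𝒜 X.gr (n + -e)) := rfl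
  rw [eval_sub, taylor_eval, hN n hnN, h1, h2, ← hN (n + -e) hnN']
  push_cast
  ring

end hilb

/-! ### The degree of the Hilbert polynomial -/

section main

open Polynomial

variable [IsNoetherianRing R] [IsArtinianRing (GrLC.deg0 𝒜)]

theorem step (hpos : ∀ n : ℤ, n < 0 → 𝒜 n = ⊥) (X : GrLC.GMod.{u} 𝒜)
    [Module.Finite R X.carrier] (Q : ℚ[X]) (hQ : HP X Q) :
    Q = 0 ∨ ∃ (N : GrLC.GMod.{u} 𝒜) (e : ℤ), 0 < e ∧ Module.Finite R N.carrier ∧
      Nontrivial N.carrier ∧
      Module.supportDim R N.carrier + 1 ≤ Module.supportDim R X.carrier ∧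
      HP N (Q - taylor (-(e : ℚ)) Q) := by
  have hfin' : Module.Finite R (quotG X (tB X) (tB_isHomogeneous X)).carrier :=
    inferInstanceAs (Module.Finite R (X.carrier ⧸ tB X))
  have hQ' := hp_quot_tB hpos X Q hQ
  by_cases hs : Subsingleton (quotG X (tB X) (tB_isHomogeneous X)).carrier
  · left
    exact hp_eq_zero_of_subsingleton _ hs Q hQ'
  · right
    obtain ⟨e, he, x, hx, hreg⟩ := exists_regular (quotG X (tB X) (tB_isHomogeneous X))
      (quot_tB_socle X)
    refine ⟨quotG (quotG X (tB X) (tB_isHomogeneous X))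
      (x • (⊤ : Submodule R (quotG X (tB X) (tB_isHomogeneous X)).carrier))
      (smul_top_isHomogeneous _ hx), e, he, ?_, ?_, ?_, hp_quot_smul hpos _ hx hreg Q hQ'⟩
    · exact inferInstanceAs (Module.Finite R ((quotG X (tB X) (tB_isHomogeneous X)).carrier ⧸
        x • (⊤ : Submodule R (quotG X (tB X) (tB_isHomogeneous X)).carrier)))
    · by_contra hnt
      rw [not_nontrivial_iff_subsingleton] at hnt
      apply hs
      refine subsingleton_of_smul_top_eq_top _ hpos he hx ?_
      have hnt' : Subsingleton ((quotG X (tB X) (tB_isHomogeneous X)).carrier ⧸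
        x • (⊤ : Submodule R (quotG X (tB X) (tB_isHomogeneous X)).carrier)) := hnt
      exact Submodule.Quotient.subsingleton_iff.mp hnt'
    · have h1 : Module.supportDim R (QuotSMulTop x (quotG X (tB X) (tB_isHomogeneous X)).carrier)
          + 1 ≤ Module.supportDim R (quotG X (tB X) (tB_isHomogeneous X)).carrier :=
        Module.supportDim_quotSMulTop_succ_le_of_notMem_minimalPrimes
          (fun _ => hreg.notMem_of_mem_minimalPrimes)
      have h2 : Module.supportDim R (X.carrier ⧸ tB X) ≤ Module.supportDim R X.carrier :=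
        Module.supportDim_le_of_surjective (tB X).mkQ (Submodule.mkQ_surjective _)
      exact h1.trans h2

/-- The Hilbert polynomial of a finitely generated graded module has degree smaller than the
dimension of the support. -/
theorem degree_lt_of_supportDim_le (hpos : ∀ n : ℤ, n < 0 → 𝒜 n = ⊥) :
    ∀ (d : ℕ) (X : GrLC.GMod.{u} 𝒜), Module.Finite R X.carrier →
      Module.supportDim R X.carrier ≤ (d : WithBot ℕ∞) → ∀ Q : ℚ[X], HP X Q →
        Q.degree < (d : WithBot ℕ) := by
  intro d
  induction d with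
  | zero =>
    intro X hfin hdim Q hQ
    have := hfin
    rcases step hpos X Q hQ with h | ⟨N, e, he, hfinN, hnt, hdimN, hQN⟩
    · rw [h, degree_zero]
      exact WithBot.bot_lt_coe _
    · exfalso
      have hne : Module.supportDim R N.carrier ≠ ⊥ :=
        Module.supportDim_ne_bot_of_nontrivial R N.carrier
      obtain ⟨a, ha⟩ := WithBot.ne_bot_iff_exists.mp hne
      have h1 : Module.supportDim R N.carrier + 1 ≤ ((0 : ℕ) : WithBot ℕ∞) := hdimN.trans hdim
      rw [← ha] at h1
      have h2 : ((a + 1 : ℕ∞) : WithBot ℕ∞) ≤ ((0 : ℕ∞) : WithBot ℕ∞) := by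
        simpa using h1
      have h3 : a + 1 ≤ 0 := WithBot.coe_le_coe.mp h2
      simp at h3
  | succ d ih =>
    intro X hfin hdim Q hQ
    have := hfin
    rcases step hpos X Q hQ with h | ⟨N, e, he, hfinN, hnt, hdimN, hQN⟩
    · rw [h, degree_zero]
      exact WithBot.bot_lt_coe _
    · have hne : Module.supportDim R N.carrier ≠ ⊥ :=
        Module.supportDim_ne_bot_of_nontrivial R N.carrier
      obtain ⟨a, ha⟩ := WithBot.ne_bot_iff_exists.mp hne
      have h1 : Module.supportDim R N.carrier + 1 ≤ ((d + 1 : ℕ) : WithBot ℕ∞) :=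
        hdimN.trans hdim
      rw [← ha] at h1
      have h2 : ((a + 1 : ℕ∞) : WithBot ℕ∞) ≤ (((d : ℕ∞) + 1 : ℕ∞) : WithBot ℕ∞) := by
        simpa using h1
      have h3 : a + 1 ≤ (d : ℕ∞) + 1 := WithBot.coe_le_coe.mp h2
      have h4 : a ≤ (d : ℕ∞) := (ENat.add_le_add_iff_right ENat.one_ne_top).mp h3
      have h5 : Module.supportDim R N.carrier ≤ (d : WithBot ℕ∞) := by
        rw [← ha]
        exact_mod_cast h4
      have h6 := ih N hfinN h5 _ hQN
      have hne' : (-(e : ℚ)) ≠ 0 := by
        rw [neg_ne_zero]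
        exact_mod_cast he.ne'
      exact degree_lt_succ_of_sub_taylor Q _ hne' d h6

end main

end Groth.Agent.Lib.R2H7.GrDim
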