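/-
Serre's formula for a *local non-negatively graded ring with Artinian `R_0`, with support in the
*maximal ideal: the degree zero part of the *maximal ideal is nilpotent, so a module killed by
the irrelevant ideal is torsion.
-/
import Mathlib
import Groth.Agent.Lib.R2H7GrSerre
import Groth.Agent.Lib.R2H7GrHt

set_option autoImplicit false
open DirectSum

noncomputable section

namespace Groth.Agent.Lib.R2H7.GrSerreLoc

open Groth.Agent.Lib.R2H7.GrDer Groth.Agent.Lib.R2H7.GrOps Groth.Agent.Lib.R2H7.GrLES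
  Groth.Agent.Lib.R2H7.GrTop Groth.Agent.Lib.R2H7.GrEv Groth.Agent.Lib.R2H7.GrH
  Groth.Agent.Lib.R2H7.GrLen Groth.Agent.Lib.R2H7.GrSerre Groth.Agent.Lib.R2H7.GrHt
  Groth.Agent.Lib.Helper29GrEss Groth.Agent.Lib.Helper29GrStd

universe u

variable {R : Type u} [CommRing R] {𝒜 : ℤ → AddSubgroup R} [GradedRing 𝒜]

theorem sup_pow_le (I J : Ideal R) (k : ℕ) : (I ⊔ J) ^ k ≤ I ^ k ⊔ J := by
  induction k with
  | zero =>
    rw [pow_zero, pow_zero, Ideal.one_eq_top]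
    exact le_sup_left
  | succ k ih =>
    rw [pow_succ, pow_succ]
    refine le_trans (Ideal.mul_mono_left ih) ?_
    rw [Ideal.mul_le]
    intro r hr s hs
    obtain ⟨r1, hr1, r2, hr2, rfl⟩ := Submodule.mem_sup.mp hr
    obtain ⟨s1, hs1, s2, hs2, rfl⟩ := Submodule.mem_sup.mp hs
    have e : (r1 + r2) * (s1 + s2) = r1 * s1 + (r1 * s2 + r2 * (s1 + s2)) := by ring
    rw [e]
    exact Submodule.add_mem_sup (Ideal.mul_mem_mul hr1 hs1)
      (add_mem (J.mul_mem_left _ hs2) (J.mul_mem_right _ hr2))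

variable [IsNoetherianRing R]

/-- In a *local graded ring an element of degree zero outside the *maximal ideal is a unit of
`R_0`. -/
theorem isUnit_deg0_of_not_mem (m : HomogeneousIdeal 𝒜) (hm : GrLC.IsStarLocal 𝒜 m)
    (u : GrLC.deg0 𝒜) (hu : (u : R) ∉ m.toIdeal) : IsUnit u := by
  classical
  have hh : (Ideal.span {(u : R)}).IsHomogeneous 𝒜 :=
    Ideal.homogeneous_span 𝒜 {(u : R)} (by
      rintro x (rfl : x = (u : R))
      exact ⟨0, u.2⟩)
  let J : HomogeneousIdeal 𝒜 := ⟨Ideal.span {(u : R)}, hh⟩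
  have htop : J = ⊤ := by
    by_contra hne
    have hle := le_of_isStarLocal 𝒜 m hm J hne
    exact hu (hle (Ideal.subset_span rfl))
  have h1 : (1 : R) ∈ Ideal.span {(u : R)} := by
    have h2 : (1 : R) ∈ J.toIdeal := by
      rw [htop, HomogeneousIdeal.toIdeal_top]
      exact Submodule.mem_top
    exact h2
  obtain ⟨v, hv⟩ := Ideal.mem_span_singleton'.mp h1
  have h3 := decompose_smul_of_mem_right 𝒜 𝒜 (show (u : R) ∈ 𝒜 0 from u.2) v 0
  rw [smul_eq_mul, hv, sub_zero, smul_eq_mul] at h3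
  have h4 : ((decompose 𝒜 (1 : R)) 0 : R) = 1 :=
    DirectSum.decompose_of_mem_same 𝒜 (SetLike.one_mem_graded 𝒜)
  rw [h4] at h3
  refine IsUnit.of_mul_eq_one (⟨((decompose 𝒜 v) 0 : R), SetLike.coe_mem _⟩ : GrLC.deg0 𝒜) ?_
  apply Subtype.ext
  show (u : R) * ((decompose 𝒜 v) 0 : R) = 1
  rw [mul_comm]
  exact h3.symm

variable [IsArtinianRing (GrLC.deg0 𝒜)]

/-- The elements of degree zero of the *maximal ideal are nilpotent when `R_0` is Artinian. -/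
theorem isNilpotent_of_mem (m : HomogeneousIdeal 𝒜) (hm : GrLC.IsStarLocal 𝒜 m)
    (r : GrLC.deg0 𝒜) (hr : (r : R) ∈ m.toIdeal) : IsNilpotent r := by
  obtain ⟨n, y, hy⟩ := IsArtinian.exists_pow_succ_smul_dvd r (1 : GrLC.deg0 𝒜)
  rw [smul_eq_mul, smul_eq_mul, mul_one] at hy
  have hu : ((1 - r * y : GrLC.deg0 𝒜) : R) ∉ m.toIdeal := by
    intro h
    apply toIdeal_ne_top 𝒜 m hm.1
    rw [Ideal.eq_top_iff_one]
    have h2 : (1 : R) = ((1 - r * y : GrLC.deg0 𝒜) : R) + (r : R) * (y : R) := by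
      push_cast
      ring
    rw [h2]
    exact add_mem h (m.toIdeal.mul_mem_right _ hr)
  obtain ⟨w, hw⟩ := (isUnit_deg0_of_not_mem m hm _ hu).exists_right_inv
  refine ⟨n, ?_⟩
  have hy' : r ^ (n + 1) * y = r ^ n := hy
  have h3 : r ^ n * (1 - r * y) = 0 := by
    rw [mul_sub, mul_one, ← mul_assoc, ← pow_succ, hy', sub_self]
  calc r ^ n = r ^ n * ((1 - r * y) * w) := by rw [hw, mul_one]
    _ = (r ^ n * (1 - r * y)) * w := by rw [mul_assoc]
    _ = 0 := by rw [h3, zero_mul]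

/-- A power of the *maximal ideal is contained in the irrelevant ideal. -/
theorem exists_pow_le (hpos : ∀ n : ℤ, n < 0 → 𝒜 n = ⊥) (m : HomogeneousIdeal 𝒜)
    (hm : GrLC.IsStarLocal 𝒜 m) :
    ∃ k : ℕ, m.toIdeal ^ k ≤ Ideal.span (⋃ n ∈ Set.Ioi (0 : ℤ), (𝒜 n : Set R)) := by
  classical
  have hle0 : m.toIdeal.comap (GrLC.deg0 𝒜).subtype ≤ nilradical (GrLC.deg0 𝒜) := by
    intro r hr
    exact mem_nilradical.mpr (isNilpotent_of_mem m hm r hr)
  have hfg : (m.toIdeal.comap (GrLC.deg0 𝒜).subtype).FG :=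
    (isNoetherianRing_iff_ideal_fg _).mp inferInstance _
  obtain ⟨k, hk⟩ := (Ideal.FG.isNilpotent_iff_le_nilradical hfg).mpr hle0
  refine ⟨k, ?_⟩
  have hm1 : m.toIdeal ≤ Ideal.map (GrLC.deg0 𝒜).subtype (m.toIdeal.comap (GrLC.deg0 𝒜).subtype) ⊔
      Ideal.span (⋃ n ∈ Set.Ioi (0 : ℤ), (𝒜 n : Set R)) := by
    intro x hx
    rw [← DirectSum.sum_support_decompose 𝒜 x]
    refine Ideal.sum_mem _ fun j _ => ?_
    rcases lt_trichotomy j 0 with hj | hj | hj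
    · have h3 : ((decompose 𝒜 x) j : R) ∈ 𝒜 j := SetLike.coe_mem _
      rw [eq_zero_of_mem_of_eq_bot (hpos _ hj) h3]
      exact zero_mem _
    · rw [hj]
      refine Ideal.mem_sup_left ?_
      have h4 : ((decompose 𝒜 x) 0 : R) ∈ m.toIdeal := m.isHomogeneous 0 hx
      exact Ideal.mem_map_of_mem (GrLC.deg0 𝒜).subtype
        (x := (⟨((decompose 𝒜 x) 0 : R), SetLike.coe_mem _⟩ : GrLC.deg0 𝒜)) h4
    · refine Ideal.mem_sup_right (Ideal.subset_span ?_)
      simp only [Set.mem_iUnion, Set.mem_Ioi]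
      exact ⟨j, hj, SetLike.coe_mem _⟩
  refine le_trans (Ideal.pow_right_mono hm1 k) (le_trans (sup_pow_le _ _ k) ?_)
  rw [← Ideal.map_pow, hk, Ideal.zero_eq_bot, Ideal.map_bot, bot_sup_eq]

/-- Modules killed by the irrelevant ideal are torsion for the *maximal ideal. -/
theorem torsHyp_of_starLocal (hpos : ∀ n : ℤ, n < 0 → 𝒜 n = ⊥) (m : HomogeneousIdeal 𝒜)
    (hm : GrLC.IsStarLocal 𝒜 m) : TorsHyp m := by
  intro X _ hkill x
  obtain ⟨k, hk⟩ := exists_pow_le hpos m hm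
  refine ⟨k, fun r hr => ?_⟩
  refine Submodule.span_induction (p := fun s _ => s • x = 0) ?_ ?_ ?_ ?_ (hk hr)
  · intro y hy
    simp only [Set.mem_iUnion, Set.mem_Ioi] at hy
    obtain ⟨j, hj, hyj⟩ := hy
    exact hkill j hj y hyj x
  · exact zero_smul R x
  · intro s t _ _ h1 h2
    rw [add_smul, h1, h2, add_zero]
  · intro c s _ h1
    rw [smul_eq_mul, mul_smul, h1, smul_zero]

/-- Serre's formula with support in the *maximal ideal, in terms of the pieces `Hcomp` of any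
*injective resolution. -/
theorem serre_formula_starLocal (hpos : ∀ n : ℤ, n < 0 → 𝒜 n = ⊥)
    (hstd : Ideal.span (⋃ n ∈ Set.Ioi (0 : ℤ), (𝒜 n : Set R)) =
      Ideal.span ((𝒜 1 : AddSubgroup R) : Set R))
    (m : HomogeneousIdeal 𝒜) (hm : GrLC.IsStarLocal 𝒜 m) (d : ℕ) (hd : ringKrullDim R = d)
    (X : GrLC.GMod.{u} 𝒜) [Module.Finite R X.carrier] (E : GrLC.StarInjRes 𝒜 X.gr)
    (P : Polynomial ℚ)
    (hP : ∃ N : ℤ, ∀ n : ℤ, N ≤ n →
      P.eval (n : ℚ) = ((Module.length (GrLC.deg0 𝒜) ↥(GrLC.comp 𝒜 X.gr n)).toNat : ℚ)) (n : ℤ) :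
    ((Module.length (GrLC.deg0 𝒜) ↥(GrLC.comp 𝒜 X.gr n)).toNat : ℚ) - P.eval (n : ℚ) =
      ∑ i ∈ Finset.range (d + 1),
        (-1 : ℚ) ^ i * ((Module.length (GrLC.deg0 𝒜) ↥(E.Hcomp m i n)).toNat : ℚ) := by
  have hle : ∀ k : ℤ, 0 < k → ∀ r ∈ 𝒜 k, r ∈ m.toIdeal := mem_of_isCoatom hpos m hm.1
  have hvan : ∀ (Y : GrLC.GMod.{u} 𝒜) (g : ℤ), VanX m Y (d + 1) g := by
    intro Y g
    apply vanX_of_dim_lt
    rw [hd]
    exact_mod_cast Nat.lt_succ_self d
  have h := serre_formula m hpos hle (torsHyp_of_starLocal hpos m hm) hstd d hvan X P hP n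
  rw [show lenQ (GrLC.deg0 𝒜) ↥(GrLC.comp 𝒜 X.gr n) =
    ((Module.length (GrLC.deg0 𝒜) ↥(GrLC.comp 𝒜 X.gr n)).toNat : ℚ) from rfl] at h
  rw [h]
  unfold chi
  refine Finset.sum_congr rfl fun i _ => ?_
  rw [hgLen_eq_hcomp m E i n]
  rfl

end Groth.Agent.Lib.R2H7.GrSerreLoc
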