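/-
The a-invariant of a Cohen-Macaulay standard graded ring over an Artinian `R_0` through the
Hilbert function: `H_R(n) - P_R(n) = (-1)^d ℓ(H^d_m(R)_n)`, so the end of `H^d_m(R)` is the
largest `n` with `H_R(n) ≠ P_R(n)`.
-/
import Mathlib
import Groth.Agent.Lib.R2H7GrSerreLoc
import Groth.Agent.Lib.R2H7GrAinv
import Groth.Agent.Lib.R2H7GrGen

set_option autoImplicit false
open DirectSum

noncomputable section

namespace Groth.Agent.Lib.R2H7.GrSerreCM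

open Groth.Agent.Lib.R2H7.GrDer Groth.Agent.Lib.R2H7.GrOps Groth.Agent.Lib.R2H7.GrLES
  Groth.Agent.Lib.R2H7.GrTop Groth.Agent.Lib.R2H7.GrEv Groth.Agent.Lib.R2H7.GrH
  Groth.Agent.Lib.R2H7.GrLen Groth.Agent.Lib.R2H7.GrSerre Groth.Agent.Lib.R2H7.GrSerreLoc
  Groth.Agent.Lib.R2H7.GrGen Groth.Agent.Lib.R2H7.GrAinv

universe u

variable {R : Type u} [CommRing R] {𝒜 : ℤ → AddSubgroup R} [GradedRing 𝒜]

/-- If `H^i_m(X)_n = 0` for `i < d`, the Hilbert function of `X` differs from the Hilbert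
polynomial in degree `n` exactly when `H^d_m(X)_n ≠ 0`. -/
theorem hcomp_ne_bot_iff [IsNoetherianRing R] [IsArtinianRing (GrLC.deg0 𝒜)]
    (hpos : ∀ n : ℤ, n < 0 → 𝒜 n = ⊥)
    (hstd : Ideal.span (⋃ n ∈ Set.Ioi (0 : ℤ), (𝒜 n : Set R)) =
      Ideal.span ((𝒜 1 : AddSubgroup R) : Set R))
    (m : HomogeneousIdeal 𝒜) (hm : GrLC.IsStarLocal 𝒜 m) (d : ℕ) (hd : ringKrullDim R = d)
    (X : GrLC.GMod.{u} 𝒜) [Module.Finite R X.carrier] (E : GrLC.StarInjRes 𝒜 X.gr)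
    (P : Polynomial ℚ)
    (hP : ∃ N : ℤ, ∀ n : ℤ, N ≤ n →
      P.eval (n : ℚ) = ((Module.length (GrLC.deg0 𝒜) ↥(GrLC.comp 𝒜 X.gr n)).toNat : ℚ)) (n : ℤ)
    (hlowv : ∀ i, i < d → VanX m X i n) :
    E.Hcomp m d n ≠ ⊥ ↔
      P.eval (n : ℚ) ≠ ((Module.length (GrLC.deg0 𝒜) ↥(GrLC.comp 𝒜 X.gr n)).toNat : ℚ) := by
  have h := serre_formula_starLocal hpos hstd m hm d hd X E P hP n
  have hlow : ∑ i ∈ Finset.range d,
      (-1 : ℚ) ^ i * ((Module.length (GrLC.deg0 𝒜) ↥(E.Hcomp m i n)).toNat : ℚ) = 0 := by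
    refine Finset.sum_eq_zero fun i hi => ?_
    have hb : E.Hcomp m i n = ⊥ :=
      (hcomp_eq_bot_iff_van m E i n).mpr ((vanX_iff m E).mp (hlowv i (Finset.mem_range.mp hi)))
    have hs : Subsingleton ↥(E.Hcomp m i n) := by
      rw [hb]
      infer_instance
    rw [Module.length_eq_zero, ENat.toNat_zero, Nat.cast_zero, mul_zero]
  rw [Finset.sum_range_succ, hlow, zero_add] at h
  have hle : ∀ k : ℤ, 0 < k → ∀ r ∈ 𝒜 k, r ∈ m.toIdeal := mem_of_isCoatom hpos m hm.1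
  have hfl : IsFiniteLength (GrLC.deg0 𝒜) ↥(E.Hcomp m d n) :=
    (good_finiteLength 𝒜).iso (hgEquiv m E d n)
      (fl_pieces m hpos hle (torsHyp_of_starLocal hpos m hm) X d n E)
  have hne_top : Module.length (GrLC.deg0 𝒜) ↥(E.Hcomp m d n) ≠ ⊤ :=
    Module.length_ne_top_iff.mpr hfl
  have h2 : E.Hcomp m d n ≠ ⊥ ↔
      ((Module.length (GrLC.deg0 𝒜) ↥(E.Hcomp m d n)).toNat : ℚ) ≠ 0 := by
    rw [Ne, Ne, Nat.cast_eq_zero, ENat.toNat_eq_zero, Module.length_eq_zero_iff,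
      Submodule.subsingleton_iff_eq_bot]
    constructor
    · intro h3 h4
      rcases h4 with h4 | h4
      · exact h3 h4
      · exact hne_top h4
    · intro h3 h4
      exact h3 (Or.inl h4)
  rw [h2]
  have hpow : ((-1 : ℚ) ^ d) ≠ 0 := pow_ne_zero _ (by norm_num)
  constructor
  · intro h3 h4
    rw [h4, sub_self] at h
    exact h3 ((mul_eq_zero.mp h.symm).resolve_left hpow)
  · intro h3 h4
    rw [h4, mul_zero] at h
    exact h3 (sub_eq_zero.mp h).symm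

/-- For a Cohen-Macaulay *local standard graded ring with Artinian `R_0`: the Hilbert function
differs from the Hilbert polynomial exactly in the degrees where `H^d_m(R)` is nonzero. -/
theorem hgr_ne_bot_iff [LocCoh.IsCohenMacaulayRing R] [IsArtinianRing (GrLC.deg0 𝒜)]
    (hpos : ∀ n : ℤ, n < 0 → 𝒜 n = ⊥)
    (hstd : Ideal.span (⋃ n ∈ Set.Ioi (0 : ℤ), (𝒜 n : Set R)) =
      Ideal.span ((𝒜 1 : AddSubgroup R) : Set R))
    (m : HomogeneousIdeal 𝒜) (hm : GrLC.IsStarLocal 𝒜 m) (d : ℕ) (hd : ringKrullDim R = d)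
    (I : GrLC.StarInjRes 𝒜 𝒜) (P : Polynomial ℚ)
    (hP : ∃ N : ℤ, ∀ n : ℤ, N ≤ n →
      P.eval (n : ℚ) = ((Module.length (GrLC.deg0 𝒜) ↥(GrLC.comp 𝒜 𝒜 n)).toNat : ℚ)) (n : ℤ) :
    I.Hgr m d n ≠ ⊥ ↔
      P.eval (n : ℚ) ≠ ((Module.length (GrLC.deg0 𝒜) ↥(GrLC.comp 𝒜 𝒜 n)).toNat : ℚ) := by
  have hfin : Module.Finite R (GrLC.GMod.of 𝒜 R 𝒜).carrier := inferInstanceAs (Module.Finite R R)
  have h1 : I.Hgr m d n ≠ ⊥ ↔ I.Hcomp m d n ≠ ⊥ := by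
    rw [Ne, Ne, hgr_eq_bot_iff' m 𝒜 I d n, hcomp_eq_bot_iff_vanX' m 𝒜 I d n]
  rw [h1]
  exact hcomp_ne_bot_iff hpos hstd m hm d hd (GrLC.GMod.of 𝒜 R 𝒜) I P hP n
    (fun i hi => vanX_of_lt_dim hpos m hm d hd i hi n)

end Groth.Agent.Lib.R2H7.GrSerreCM
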