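/-
The a-invariant of a Cohen-Macaulay standard graded ring `R` over an Artinian `R_0` is at least
`-dim R`: the Hilbert polynomial has degree `< dim R` (R2H7GrDim) and the Hilbert function differs
from it exactly where `H^d_m(R)` is nonzero (R2H7GrSerreCM).
-/
import Mathlib
import Groth.Agent.Lib.R2H7GrDim
import Groth.Agent.Lib.R2H7GrSerreCM

set_option autoImplicit false
open DirectSum

noncomputable section

namespace Groth.Agent.Lib.R2H7.GrAinvLow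

open Groth.Agent.Lib.R2H7.GrDer Groth.Agent.Lib.R2H7.GrOps Groth.Agent.Lib.R2H7.GrLES
  Groth.Agent.Lib.R2H7.GrTop Groth.Agent.Lib.R2H7.GrEv Groth.Agent.Lib.R2H7.GrH
  Groth.Agent.Lib.R2H7.GrLen Groth.Agent.Lib.R2H7.GrSerre Groth.Agent.Lib.R2H7.GrSerreLoc
  Groth.Agent.Lib.R2H7.GrGen Groth.Agent.Lib.R2H7.GrAinv Groth.Agent.Lib.R2H7.GrDim
  Groth.Agent.Lib.R2H7.GrSerreCM Groth.Agent.Lib.R2H7.GrHt

universe u

variable {R : Type u} [CommRing R] {𝒜 : ℤ → AddSubgroup R} [GradedRing 𝒜]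

open Polynomial

/-- Existence of the Hilbert polynomial over a *local standard graded ring with Artinian `R_0`. -/
theorem exists_hp_starLocal [IsNoetherianRing R] [IsArtinianRing (GrLC.deg0 𝒜)]
    (hpos : ∀ n : ℤ, n < 0 → 𝒜 n = ⊥)
    (hstd : Ideal.span (⋃ n ∈ Set.Ioi (0 : ℤ), (𝒜 n : Set R)) =
      Ideal.span ((𝒜 1 : AddSubgroup R) : Set R))
    (m : HomogeneousIdeal 𝒜) (hm : GrLC.IsStarLocal 𝒜 m) (d : ℕ) (hd : ringKrullDim R = d)
    (X : GrLC.GMod.{u} 𝒜) [Module.Finite R X.carrier] : ∃ Q : ℚ[X], HP X Q := by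
  have hle : ∀ k : ℤ, 0 < k → ∀ r ∈ 𝒜 k, r ∈ m.toIdeal := mem_of_isCoatom hpos m hm.1
  have hvan : ∀ (Y : GrLC.GMod.{u} 𝒜) (g : ℤ), VanX m Y (d + 1) g := by
    intro Y g
    apply vanX_of_dim_lt
    rw [hd]
    exact_mod_cast Nat.lt_succ_self d
  obtain ⟨Q, hQ⟩ := exists_poly_defect m hpos hle (torsHyp_of_starLocal hpos m hm) hstd d hvan X
    inferInstance
  obtain ⟨r, hr⟩ := eventually_chi_zero m hpos hle X d
  refine ⟨Q, r, fun n hn => ?_⟩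
  rw [← hQ n]
  unfold defect
  rw [hr n hn, sub_zero]

/-- The a-invariant of a Cohen-Macaulay standard graded ring is at least `-dim R`. -/
theorem neg_dim_le_endDeg [LocCoh.IsCohenMacaulayRing R] [IsArtinianRing (GrLC.deg0 𝒜)]
    (hpos : ∀ n : ℤ, n < 0 → 𝒜 n = ⊥)
    (hstd : Ideal.span (⋃ n ∈ Set.Ioi (0 : ℤ), (𝒜 n : Set R)) =
      Ideal.span ((𝒜 1 : AddSubgroup R) : Set R))
    (m : HomogeneousIdeal 𝒜) (hm : GrLC.IsStarLocal 𝒜 m) (d : ℕ) (hd : ringKrullDim R = d)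
    (I : GrLC.StarInjRes 𝒜 𝒜) :
    (((-(d : ℤ) : ℤ) : WithTop ℤ) : WithBot (WithTop ℤ)) ≤ GrLC.endDeg (I.Hgr m d) := by
  have hfin : Module.Finite R (GrLC.GMod.of 𝒜 R 𝒜).carrier := inferInstanceAs (Module.Finite R R)
  obtain ⟨P, hP⟩ := exists_hp_starLocal hpos hstd m hm d hd (GrLC.GMod.of 𝒜 R 𝒜)
  have hdim : Module.supportDim R (GrLC.GMod.of 𝒜 R 𝒜).carrier ≤ (d : WithBot ℕ∞) := by
    have h1 : Module.supportDim R (GrLC.GMod.of 𝒜 R 𝒜).carrier = ringKrullDim R :=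
      Module.supportDim_self_eq_ringKrullDim R
    rw [h1, hd]
  have hdeg : P.degree < (d : WithBot ℕ) :=
    degree_lt_of_supportDim_le hpos d (GrLC.GMod.of 𝒜 R 𝒜) hfin hdim P hP
  have hP' : ∃ N : ℤ, ∀ n : ℤ, N ≤ n →
      P.eval (n : ℚ) = ((Module.length (GrLC.deg0 𝒜) ↥(GrLC.comp 𝒜 𝒜 n)).toNat : ℚ) := hP
  by_contra hcon
  have hall : ∀ n : ℤ, -(d : ℤ) ≤ n → I.Hgr m d n = ⊥ := by
    intro n hn
    by_contra hne
    apply hcon
    refine le_trans ?_ (le_iSup₂ (f := fun (n : ℤ) (_ : I.Hgr m d n ≠ ⊥) =>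
      ((n : WithTop ℤ) : WithBot (WithTop ℤ))) n hne)
    exact_mod_cast hn
  have hPH : ∀ n : ℤ, -(d : ℤ) ≤ n →
      P.eval (n : ℚ) = ((Module.length (GrLC.deg0 𝒜) ↥(GrLC.comp 𝒜 𝒜 n)).toNat : ℚ) := by
    intro n hn
    by_contra hne
    exact (hgr_ne_bot_iff hpos hstd m hm d hd I P hP' n).mpr hne (hall n hn)
  -- the Hilbert polynomial vanishes
  have hP0 : P = 0 := by
    by_cases h0 : P = 0
    · exact h0
    · have hnat : P.natDegree < d := (natDegree_lt_iff_degree_lt h0).mpr hdeg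
      refine eq_zero_of_natDegree_lt_card_of_eval_eq_zero P (ι := Fin d)
        (f := fun j : Fin d => (((-((j : ℕ) : ℤ) - 1 : ℤ)) : ℚ)) ?_ ?_ ?_
      · intro j l hjl
        have h1 : (((-((j : ℕ) : ℤ) - 1 : ℤ)) : ℚ) = (((-((l : ℕ) : ℤ) - 1 : ℤ)) : ℚ) := hjl
        have h2 : (-((j : ℕ) : ℤ) - 1 : ℤ) = -((l : ℕ) : ℤ) - 1 := by exact_mod_cast h1
        apply Fin.ext
        omega
      · intro j
        have hj := j.2
        rw [hPH _ (by omega)]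
        have hbot : 𝒜 (-((j : ℕ) : ℤ) - 1) = ⊥ := hpos _ (by omega)
        have hs : Subsingleton ↥(GrLC.comp 𝒜 𝒜 (-((j : ℕ) : ℤ) - 1)) := by
          refine ⟨fun u v => Subtype.ext ?_⟩
          have hu : (u : R) ∈ 𝒜 (-((j : ℕ) : ℤ) - 1) := u.2
          have hv : (v : R) ∈ 𝒜 (-((j : ℕ) : ℤ) - 1) := v.2
          rw [hbot, AddSubgroup.mem_bot] at hu hv
          rw [hu, hv]
        rw [Module.length_eq_zero, ENat.toNat_zero, Nat.cast_zero]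
      · rw [Fintype.card_fin]
        exact hnat
  -- but `R_0` has positive length
  have h0 := hPH 0 (by omega)
  rw [hP0] at h0
  have h1 : (Module.length (GrLC.deg0 𝒜) ↥(GrLC.comp 𝒜 𝒜 0)).toNat = 0 := by
    have h2 : ((Module.length (GrLC.deg0 𝒜) ↥(GrLC.comp 𝒜 𝒜 0)).toNat : ℚ) = 0 := by
      rw [← h0]
      simp
    exact_mod_cast h2
  have hfl : IsFiniteLength (GrLC.deg0 𝒜) ↥(GrLC.comp 𝒜 𝒜 0) :=
    fl_comp hpos (GrLC.GMod.of 𝒜 R 𝒜) 0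
  have hne_top : Module.length (GrLC.deg0 𝒜) ↥(GrLC.comp 𝒜 𝒜 0) ≠ ⊤ :=
    Module.length_ne_top_iff.mpr hfl
  rcases ENat.toNat_eq_zero.mp h1 with h2 | h2
  · have hs : Subsingleton ↥(GrLC.comp 𝒜 𝒜 0) := Module.length_eq_zero_iff.mp h2
    have hone : (1 : R) ∈ 𝒜 0 := SetLike.GradedOne.one_mem
    have h3 : (⟨1, hone⟩ : ↥(GrLC.comp 𝒜 𝒜 0)) = 0 := Subsingleton.elim _ _
    have h4 : (1 : R) = 0 := congrArg Subtype.val h3
    apply toIdeal_ne_top 𝒜 m hm.1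
    rw [Ideal.eq_top_iff_one, h4]
    exact zero_mem _
  · exact hne_top h2

end Groth.Agent.Lib.R2H7.GrAinvLow
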