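/-
The Hilbert function `hS r` and the Hilbert polynomial `B r` of the polynomial ring in `r`
variables, as a function on `ℤ` and a rational polynomial: they agree above `-r`, differ at `-r`,
`B r` has degree `< r`, and `B r` is characterised by its values on `(-r, 0]` or by its values in
large degrees.
-/
import Mathlib
import Groth.Agent.Lib.R2H7GrDim

set_option autoImplicit false

noncomputable section

namespace Groth.Agent.Lib.R2H7.GrBinom

open Polynomial

/-- The Hilbert function of the polynomial ring in `r` variables. -/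
def hS (r : ℕ) (n : ℤ) : ℚ := if 0 ≤ n then ((r + n.toNat - 1).choose n.toNat : ℚ) else 0

/-- The Hilbert polynomial of the polynomial ring in `r` variables. -/
def B (r : ℕ) : ℚ[X] :=
  if r = 0 then 0
  else C (1 / ((r - 1).factorial : ℚ)) * (ascPochhammer ℚ (r - 1)).comp (X + 1)

theorem hS_neg (r : ℕ) {n : ℤ} (hn : n < 0) : hS r n = 0 := by
  unfold hS
  rw [if_neg (by omega)]

theorem hS_natCast (r m : ℕ) : hS r (m : ℤ) = ((r + m - 1).choose m : ℚ) := by
  unfold hS
  rw [if_pos (by omega), Int.toNat_natCast]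

theorem hS_zero (r : ℕ) : hS r 0 = 1 := by
  have := hS_natCast r 0
  rw [Nat.cast_zero] at this
  rw [this, Nat.choose_zero_right, Nat.cast_one]

theorem hS_one (r : ℕ) : hS r 1 = r := by
  have := hS_natCast r 1
  rw [Nat.cast_one] at this
  rw [this, Nat.choose_one_right]
  congr 1

theorem B_zero : B 0 = 0 := by
  unfold B
  rw [if_pos rfl]

theorem B_succ (t : ℕ) :
    B (t + 1) = C (1 / (t.factorial : ℚ)) * (ascPochhammer ℚ t).comp (X + 1) := by
  unfold B
  rw [if_neg (Nat.succ_ne_zero t), Nat.add_sub_cancel]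

theorem eval_B_succ (t : ℕ) (x : ℚ) :
    (B (t + 1)).eval x = 1 / (t.factorial : ℚ) * (ascPochhammer ℚ t).eval (x + 1) := by
  rw [B_succ, eval_mul, eval_C, eval_comp, eval_add, eval_X, eval_one]

/-- Above `-r` the Hilbert polynomial agrees with the Hilbert function. -/
theorem eval_B (r : ℕ) (n : ℤ) (hn : -(r : ℤ) < n) : (B r).eval (n : ℚ) = hS r n := by
  cases r with
  | zero =>
    rw [B_zero, eval_zero]
    have hn' : 0 < n := by simpa using hn
    obtain ⟨m, rfl⟩ := Int.eq_ofNat_of_zero_le hn'.le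
    rw [hS_natCast]
    have hm : 0 < m := by exact_mod_cast hn'
    rw [Nat.choose_eq_zero_of_lt (by omega), Nat.cast_zero]
  | succ t =>
    rw [eval_B_succ]
    rcases lt_or_ge n 0 with h0 | h0
    · rw [hS_neg _ h0]
      obtain ⟨j, hj⟩ : ∃ j : ℕ, n + 1 = -(j : ℤ) := ⟨(-(n + 1)).toNat, by omega⟩
      have hjt : j < t := by
        push_cast at hn
        omega
      have h1 : ((n : ℚ) + 1) = -((j : ℕ) : ℚ) := by
        have : ((n + 1 : ℤ) : ℚ) = ((-(j : ℤ) : ℤ) : ℚ) := by rw [hj]
        push_cast at this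
        exact this
      rw [h1, ascPochhammer_eval_neg_coe_nat_of_lt hjt, mul_zero]
    · obtain ⟨m, rfl⟩ := Int.eq_ofNat_of_zero_le h0
      rw [hS_natCast]
      have h1 : (((m : ℤ) : ℚ) + 1) = ((m + 1 : ℕ) : ℚ) := by push_cast; ring
      rw [h1, ← ascPochhammer_eval_cast, ascPochhammer_nat_eq_ascFactorial,
        Nat.ascFactorial_eq_factorial_mul_choose]
      have h2 : t + 1 + m - 1 = m + t := by omega
      rw [h2, Nat.choose_symm_add]
      have hne : (t.factorial : ℚ) ≠ 0 := by exact_mod_cast Nat.factorial_ne_zero t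
      push_cast
      field_simp

theorem eval_ascPochhammer_ne_zero (t : ℕ) : ∀ k : ℕ, k ≤ t →
    (ascPochhammer ℚ k).eval (-(t : ℚ)) ≠ 0 := by
  intro k
  induction k with
  | zero =>
    intro _
    rw [ascPochhammer_zero, eval_one]
    exact one_ne_zero
  | succ k ih =>
    intro hk
    rw [ascPochhammer_succ_right, eval_mul, eval_add, eval_X, eval_natCast]
    refine mul_ne_zero (ih (by omega)) ?_
    intro h
    have h1 : ((k : ℚ)) = (t : ℚ) := by linarith
    have h2 : k = t := by exact_mod_cast h1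
    omega

/-- At `-r` the Hilbert polynomial differs from the Hilbert function. -/
theorem eval_B_ne (r : ℕ) : (B r).eval ((-(r : ℤ) : ℤ) : ℚ) ≠ hS r (-(r : ℤ)) := by
  cases r with
  | zero =>
    rw [B_zero, eval_zero]
    have : hS 0 (-((0 : ℕ) : ℤ)) = 1 := by
      rw [Nat.cast_zero, neg_zero]
      exact hS_zero 0
    rw [this]
    exact zero_ne_one
  | succ t =>
    rw [hS_neg _ (by push_cast; omega), eval_B_succ]
    have h1 : (((-((t + 1 : ℕ) : ℤ) : ℤ) : ℚ) + 1) = -(t : ℚ) := by push_cast; ring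
    rw [h1]
    have hne : (t.factorial : ℚ) ≠ 0 := by exact_mod_cast Nat.factorial_ne_zero t
    exact mul_ne_zero (one_div_ne_zero hne) (eval_ascPochhammer_ne_zero t t le_rfl)

theorem degree_B_lt (r : ℕ) : (B r).degree < (r : WithBot ℕ) := by
  cases r with
  | zero =>
    rw [B_zero, degree_zero]
    exact WithBot.bot_lt_coe _
  | succ t =>
    rw [B_succ]
    refine lt_of_le_of_lt degree_le_natDegree ?_
    have h1 : (C (1 / (t.factorial : ℚ)) * (ascPochhammer ℚ t).comp (X + 1)).natDegree ≤ t := by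
      refine le_trans (natDegree_C_mul_le _ _) ?_
      rw [natDegree_comp, ascPochhammer_natDegree]
      have : (X + 1 : ℚ[X]).natDegree = 1 := by
        have := natDegree_X_add_C (1 : ℚ)
        rwa [map_one] at this
      rw [this, mul_one]
    exact_mod_cast Nat.lt_succ_of_le h1

/-- A polynomial of degree `< r` with the values of the Hilbert function on `(-r, 0]` is `B r`. -/
theorem eq_B_of_roots (r : ℕ) (P : ℚ[X]) (hdeg : P.degree < (r : WithBot ℕ))
    (h : ∀ n : ℤ, -(r : ℤ) < n → n ≤ 0 → P.eval (n : ℚ) = hS r n) : P = B r := by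
  rw [← sub_eq_zero]
  by_cases h0 : P - B r = 0
  · exact h0
  · have hd : (P - B r).degree < (r : WithBot ℕ) :=
      lt_of_le_of_lt (degree_sub_le _ _) (max_lt hdeg (degree_B_lt r))
    have hnat : (P - B r).natDegree < r := (natDegree_lt_iff_degree_lt h0).mpr hd
    refine eq_zero_of_natDegree_lt_card_of_eval_eq_zero (P - B r) (ι := Fin r)
      (f := fun j : Fin r => (((-((j : ℕ) : ℤ) : ℤ)) : ℚ)) ?_ ?_ ?_
    · intro j l hjl
      have h1 : (((-((j : ℕ) : ℤ) : ℤ)) : ℚ) = (((-((l : ℕ) : ℤ) : ℤ)) : ℚ) := hjl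
      have h2 : (-((j : ℕ) : ℤ) : ℤ) = -((l : ℕ) : ℤ) := by exact_mod_cast h1
      apply Fin.ext
      omega
    · intro j
      have hj := j.2
      rw [eval_sub, h _ (by omega) (by omega), eval_B r _ (by omega), sub_self]
    · rw [Fintype.card_fin]
      exact hnat

/-- A polynomial agreeing with the Hilbert function in large degrees is `B r`. -/
theorem eq_B_of_eventually (r : ℕ) (P : ℚ[X]) (N : ℤ)
    (h : ∀ n : ℤ, N ≤ n → P.eval (n : ℚ) = hS r n) : P = B r := by
  rw [← sub_eq_zero]
  refine Groth.Agent.Lib.R2H7.GrDim.poly_eq_zero_of_eventually _ (max N 1) fun n hn => ?_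
  have h1 : N ≤ n := le_trans (le_max_left _ _) hn
  have h2 : 1 ≤ n := le_trans (le_max_right _ _) hn
  rw [eval_sub, h n h1, eval_B r n (by omega), sub_self]

end Groth.Agent.Lib.R2H7.GrBinom
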