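/-
Presentations of a standard graded ring `R` over `R_0` by a polynomial ring: the map
`R_0[Y_1..Y_s] → R`, `Y_i ↦ y_i ∈ R_1`, is homogeneous, surjective in each degree when the `y_i`
span `R_1`, injective when it is injective in each degree, and the Hilbert functions agree when it
is bijective.
-/
import Mathlib
import Groth.Agent.Lib.R2H7GrDim
import Groth.Agent.Lib.R2H7GrBinom
import Groth.Agent.Lib.Helper13HB

set_option autoImplicit false
open DirectSum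

noncomputable section

namespace Groth.Agent.Lib.R2H7.GrPres

open MvPolynomial

universe u

variable {R : Type u} [CommRing R] (𝒜 : ℤ → AddSubgroup R) [GradedRing 𝒜]

section phi

variable {s : ℕ} (y : Fin s → R)

/-- The presentation `R_0[Y_1..Y_s] → R`, `Y_i ↦ y_i`. -/
def phi : MvPolynomial (Fin s) (GrLC.deg0 𝒜) →ₐ[GrLC.deg0 𝒜] R := MvPolynomial.aeval y

theorem phi_C (c : GrLC.deg0 𝒜) : phi 𝒜 y (C c) = (c : R) := by
  unfold phi
  rw [aeval_C]
  rfl

theorem phi_X (i : Fin s) : phi 𝒜 y (X i) = y i := by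
  unfold phi
  rw [aeval_X]

variable {y}

/-- The presentation is homogeneous. -/
theorem phi_mem (hy : ∀ i, y i ∈ 𝒜 1) {n : ℕ} {p : MvPolynomial (Fin s) (GrLC.deg0 𝒜)}
    (hp : p.IsHomogeneous n) : phi 𝒜 y p ∈ 𝒜 (n : ℤ) := by
  unfold phi
  rw [aeval_def, eval₂_eq']
  refine sum_mem fun d hd => ?_
  have hc : coeff d p ≠ 0 := mem_support_iff.mp hd
  have hdeg : Finsupp.degree d = n := by
    by_contra hne
    exact hc (hp.coeff_eq_zero hne)
  have h1 : ∏ i, y i ^ d i ∈ 𝒜 (∑ i, d i • (1 : ℤ)) :=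
    SetLike.prod_pow_mem_graded 𝒜 (fun _ => (1 : ℤ)) y d (fun i _ => hy i)
  have h2 : (∑ i : Fin s, d i • (1 : ℤ)) = (n : ℤ) := by
    rw [← hdeg, Finsupp.degree_eq_sum]
    push_cast
    refine Finset.sum_congr rfl fun i _ => ?_
    rw [nsmul_eq_mul, mul_one]
  have h3 : algebraMap (GrLC.deg0 𝒜) R (coeff d p) ∈ 𝒜 0 := (coeff d p).2
  have h4 := SetLike.mul_mem_graded h3 h1
  rw [zero_add, h2] at h4
  exact h4

/-- The degree `n` component of `phi p` is `phi` of the degree `n` component of `p`. -/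
theorem decompose_phi (hy : ∀ i, y i ∈ 𝒜 1) (p : MvPolynomial (Fin s) (GrLC.deg0 𝒜)) (n : ℕ) :
    ((decompose 𝒜 (phi 𝒜 y p)) (n : ℤ) : R) = phi 𝒜 y (homogeneousComponent n p) := by
  classical
  conv_lhs => rw [← sum_homogeneousComponent p, map_sum, decompose_sum]
  rw [DFinsupp.finset_sum_apply, AddSubmonoidClass.coe_finset_sum]
  have hterm : ∀ i : ℕ, ((decompose 𝒜 (phi 𝒜 y (homogeneousComponent i p))) (n : ℤ) : R) =
      if i = n then phi 𝒜 y (homogeneousComponent n p) else 0 := by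
    intro i
    have hi : phi 𝒜 y (homogeneousComponent i p) ∈ 𝒜 (i : ℤ) :=
      phi_mem 𝒜 hy (homogeneousComponent_isHomogeneous i p)
    by_cases hin : i = n
    · rw [if_pos hin, ← hin, DirectSum.decompose_of_mem_same 𝒜 hi]
    · rw [if_neg hin, DirectSum.decompose_of_mem_ne 𝒜 hi (by exact_mod_cast hin)]
  simp_rw [hterm]
  rw [Finset.sum_ite_eq']
  split_ifs with h
  · rfl
  · have h1 : p.totalDegree < n := by
      by_contra hc
      exact h (Finset.mem_range.mpr (by omega))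
    rw [homogeneousComponent_eq_zero _ _ h1, map_zero]

/-- The presentation is injective if it is injective in each degree. -/
theorem phi_injective (hy : ∀ i, y i ∈ 𝒜 1)
    (h : ∀ (n : ℕ) (p : MvPolynomial (Fin s) (GrLC.deg0 𝒜)), p.IsHomogeneous n →
      phi 𝒜 y p = 0 → p = 0) : Function.Injective (phi 𝒜 y) := by
  rw [injective_iff_map_eq_zero]
  intro p hp
  rw [← sum_homogeneousComponent p]
  refine Finset.sum_eq_zero fun n _ => ?_
  apply h n _ (homogeneousComponent_isHomogeneous n p)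
  rw [← decompose_phi 𝒜 hy p n, hp, decompose_zero]
  rfl

end phi

/-! ### Generation in degree one -/

section gen

variable {𝒜}

/-- In a standard graded ring every element of degree `n + 1` is a sum of products of elements
of degree `n` and of degree `1`. -/
theorem exists_sum_mul
    (hstd : Ideal.span (⋃ n ∈ Set.Ioi (0 : ℤ), (𝒜 n : Set R)) =
      Ideal.span ((𝒜 1 : AddSubgroup R) : Set R)) (n : ℤ) (hn : 0 ≤ n) (x : R)
    (hx : x ∈ 𝒜 (n + 1)) :
    ∃ (t : Finset R) (a : R → R), (∀ b ∈ t, b ∈ 𝒜 1) ∧ (∀ b, a b ∈ 𝒜 n) ∧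
      x = ∑ b ∈ t, a b * b := by
  classical
  have h1 : x ∈ Ideal.span (⋃ n ∈ Set.Ioi (0 : ℤ), (𝒜 n : Set R)) :=
    Ideal.subset_span (Set.mem_iUnion₂.mpr ⟨n + 1, Set.mem_Ioi.mpr (by omega), hx⟩)
  rw [hstd] at h1
  obtain ⟨f, t, ht, -, hsum⟩ := Submodule.mem_span_iff_exists_finset_subset.mp h1
  refine ⟨t, fun b => ((decompose 𝒜 (f b)) n : R), fun b hb => ht hb,
    fun b => SetLike.coe_mem _, ?_⟩
  have h2 : ((decompose 𝒜 x) (n + 1) : R) = x := DirectSum.decompose_of_mem_same 𝒜 hx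
  rw [← h2, ← hsum, decompose_sum, DFinsupp.finset_sum_apply, AddSubmonoidClass.coe_finset_sum]
  refine Finset.sum_congr rfl fun b hb => ?_
  rw [smul_eq_mul]
  exact DirectSum.coe_decompose_mul_add_of_right_mem 𝒜 (ht hb)

end gen

/-! ### Surjectivity in each degree -/

section surj

variable {𝒜} {s : ℕ} {y : Fin s → R}

theorem exists_linear_preimage (hspan : ∀ x ∈ 𝒜 1, x ∈ Submodule.span (GrLC.deg0 𝒜) (Set.range y))
    (b : R) (hb : b ∈ 𝒜 1) :
    ∃ q : MvPolynomial (Fin s) (GrLC.deg0 𝒜), q.IsHomogeneous 1 ∧ phi 𝒜 y q = b := by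
  obtain ⟨c, hc⟩ := (Submodule.mem_span_range_iff_exists_fun _).mp (hspan b hb)
  refine ⟨∑ i, C (c i) * X i, ?_, ?_⟩
  · refine IsHomogeneous.sum _ _ _ fun i _ => ?_
    have := (isHomogeneous_C (Fin s) (c i)).mul (isHomogeneous_X (GrLC.deg0 𝒜) i)
    rwa [zero_add] at this
  · rw [map_sum, ← hc]
    refine Finset.sum_congr rfl fun i _ => ?_
    rw [map_mul, phi_C, phi_X]
    rfl

/-- The presentation is surjective in each degree when the `y_i` span `R_1`. -/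
theorem phi_surjective_piece
    (hstd : Ideal.span (⋃ n ∈ Set.Ioi (0 : ℤ), (𝒜 n : Set R)) =
      Ideal.span ((𝒜 1 : AddSubgroup R) : Set R))
    (hspan : ∀ x ∈ 𝒜 1, x ∈ Submodule.span (GrLC.deg0 𝒜) (Set.range y)) :
    ∀ (n : ℕ) (x : R), x ∈ 𝒜 (n : ℤ) →
      ∃ p : MvPolynomial (Fin s) (GrLC.deg0 𝒜), p.IsHomogeneous n ∧ phi 𝒜 y p = x := by
  classical
  intro n
  induction n with
  | zero =>
    intro x hx
    exact ⟨C ⟨x, hx⟩, isHomogeneous_C _ _, phi_C 𝒜 y _⟩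
  | succ n ih =>
    intro x hx
    obtain ⟨t, a, ht, ha, hsum⟩ := exists_sum_mul hstd (n : ℤ) (by omega) x (by exact_mod_cast hx)
    choose p hp hpa using fun b => ih (a b) (ha b)
    choose! q hq hqb using exists_linear_preimage hspan
    refine ⟨∑ b ∈ t, p b * q b, ?_, ?_⟩
    · exact IsHomogeneous.sum _ _ _ fun b hb => (hp b).mul (hq b (ht b hb))
    · rw [map_sum, hsum]
      refine Finset.sum_congr rfl fun b hb => ?_
      rw [map_mul, hpa, hqb b (ht b hb)]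

/-- The presentation is surjective when the `y_i` span `R_1` and `R` is non-negatively graded. -/
theorem phi_surjective (hpos : ∀ n : ℤ, n < 0 → 𝒜 n = ⊥)
    (hstd : Ideal.span (⋃ n ∈ Set.Ioi (0 : ℤ), (𝒜 n : Set R)) =
      Ideal.span ((𝒜 1 : AddSubgroup R) : Set R))
    (hspan : ∀ x ∈ 𝒜 1, x ∈ Submodule.span (GrLC.deg0 𝒜) (Set.range y)) :
    Function.Surjective (phi 𝒜 y) := by
  classical
  intro x
  rw [← DirectSum.sum_support_decompose 𝒜 x]
  have hmem : ∀ g : ℤ, ((decompose 𝒜 x) g : R) ∈ (phi 𝒜 y).range := by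
    intro g
    rcases lt_or_ge g 0 with hg | hg
    · have h2 : ∀ z ∈ 𝒜 g, z = 0 := fun z hz => by
        rw [hpos g hg] at hz
        exact AddSubgroup.mem_bot.mp hz
      rw [h2 _ (SetLike.coe_mem _)]
      exact zero_mem _
    · obtain ⟨n, rfl⟩ := Int.eq_ofNat_of_zero_le hg
      obtain ⟨p, -, hp⟩ := phi_surjective_piece hstd hspan n _ (SetLike.coe_mem _)
      exact ⟨p, hp⟩
  have hsum : (∑ g ∈ (decompose 𝒜 x).support, ((decompose 𝒜 x) g : R)) ∈ (phi 𝒜 y).range :=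
    sum_mem fun g _ => hmem g
  obtain ⟨p, hp⟩ := hsum
  exact ⟨p, hp⟩

end surj

/-! ### The polynomial ring -/

section homog

theorem finrank_homog (k : Type u) [Field k] (r n : ℕ) :
    Module.finrank k ↥(homogeneousSubmodule (Fin r) k n) = (r + n - 1).choose n := by
  classical
  rw [← Groth.Agent.Helper13HB.stdGr_natCast (k := k) (σ := Fin r) n,
    Groth.Agent.Helper13Hilb.finrank_stdGr_nat, Fintype.card_fin]

theorem finite_homog (k : Type u) [Field k] (r n : ℕ) :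
    Module.Finite k ↥(homogeneousSubmodule (Fin r) k n) := by
  classical
  rw [← Groth.Agent.Helper13HB.stdGr_natCast (k := k) (σ := Fin r) n]
  exact Groth.Agent.Helper13Hilb.finite_stdGr k (Fin r) n

end homog

/-! ### Lengths over a field -/

section len

open Groth.Agent.Lib.R2H7.GrLen

theorem lenQ_eq_finrank (k : Type u) [Field k] (N : Type u) [AddCommGroup N] [Module k N] :
    lenQ k N = ((Module.finrank k N : ℕ) : ℚ) := by
  unfold lenQ
  rw [Module.length_eq_rank, Cardinal.toNat_toENat]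
  rfl

end len

/-! ### The presentation in each degree -/

section pieces

open Groth.Agent.Lib.R2H7.GrLen Groth.Agent.Lib.R2H7.GrBinom Groth.Agent.Lib.R2H7.GrSerre

variable {𝒜} {s : ℕ} {y : Fin s → R}

/-- `phi` in degree `n`, as a linear map over `R_0`. -/
def phiN (hy : ∀ i, y i ∈ 𝒜 1) (n : ℕ) :
    ↥(homogeneousSubmodule (Fin s) (GrLC.deg0 𝒜) n) →ₗ[GrLC.deg0 𝒜]
      ↥(GrLC.comp 𝒜 𝒜 (n : ℤ)) :=
  (phi 𝒜 y).toLinearMap.restrict (p := homogeneousSubmodule (Fin s) (GrLC.deg0 𝒜) n)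
    (q := GrLC.comp 𝒜 𝒜 (n : ℤ))
    (fun x hx => phi_mem 𝒜 hy ((mem_homogeneousSubmodule n x).mp hx))

theorem phiN_coe (hy : ∀ i, y i ∈ 𝒜 1) (n : ℕ)
    (p : ↥(homogeneousSubmodule (Fin s) (GrLC.deg0 𝒜) n)) :
    ((phiN hy n p : ↥(GrLC.comp 𝒜 𝒜 (n : ℤ))) : R) = phi 𝒜 y p.1 := rfl

theorem phiN_surjective (hy : ∀ i, y i ∈ 𝒜 1)
    (hstd : Ideal.span (⋃ n ∈ Set.Ioi (0 : ℤ), (𝒜 n : Set R)) =
      Ideal.span ((𝒜 1 : AddSubgroup R) : Set R))
    (hspan : ∀ x ∈ 𝒜 1, x ∈ Submodule.span (GrLC.deg0 𝒜) (Set.range y)) (n : ℕ) :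
    Function.Surjective (phiN hy n) := by
  rintro ⟨x, hx⟩
  obtain ⟨p, hp, hpx⟩ := phi_surjective_piece hstd hspan n x hx
  exact ⟨⟨p, (mem_homogeneousSubmodule n p).mpr hp⟩, Subtype.ext hpx⟩

/-- If `phi` is bijective, it is bijective in each degree. -/
theorem phiN_bijective (hy : ∀ i, y i ∈ 𝒜 1) (hbij : Function.Bijective (phi 𝒜 y)) (n : ℕ) :
    Function.Bijective (phiN hy n) := by
  constructor
  · intro p q hpq
    apply Subtype.ext
    apply hbij.1
    exact congrArg Subtype.val hpq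
  · rintro ⟨x, hx⟩
    obtain ⟨p, rfl⟩ := hbij.2 x
    refine ⟨⟨homogeneousComponent n p,
      (mem_homogeneousSubmodule n _).mpr (homogeneousComponent_isHomogeneous n p)⟩, ?_⟩
    apply Subtype.ext
    show phi 𝒜 y (homogeneousComponent n p) = phi 𝒜 y p
    rw [← decompose_phi 𝒜 hy p n]
    exact DirectSum.decompose_of_mem_same 𝒜 hx

end pieces

/-! ### A standard graded algebra over a field with the Hilbert function of a polynomial ring -/

section char

open Groth.Agent.Lib.R2H7.GrLen Groth.Agent.Lib.R2H7.GrBinom Groth.Agent.Lib.R2H7.GrSerre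

variable {𝒜}

theorem nonempty_ringEquiv_of_hilbert [IsNoetherianRing R] (hpos : ∀ n : ℤ, n < 0 → 𝒜 n = ⊥)
    (hstd : Ideal.span (⋃ n ∈ Set.Ioi (0 : ℤ), (𝒜 n : Set R)) =
      Ideal.span ((𝒜 1 : AddSubgroup R) : Set R))
    (h0 : IsField (GrLC.deg0 𝒜)) (r : ℕ)
    (hH : ∀ n : ℤ, 0 ≤ n → lenQ (GrLC.deg0 𝒜) ↥(GrLC.comp 𝒜 𝒜 n) = hS r n) :
    Nonempty (R ≃+* MvPolynomial (Fin r) (GrLC.deg0 𝒜)) := by
  classical
  let _ : Field (GrLC.deg0 𝒜) := h0.toField
  have hart : IsArtinianRing (GrLC.deg0 𝒜) := inferInstance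
  -- finite dimensionality and dimensions of the pieces
  have hfin : ∀ n : ℤ, Module.Finite (GrLC.deg0 𝒜) ↥(GrLC.comp 𝒜 𝒜 n) := by
    intro n
    have hfinR : Module.Finite R (GrLC.GMod.of 𝒜 R 𝒜).carrier :=
      inferInstanceAs (Module.Finite R R)
    have hfl : IsFiniteLength (GrLC.deg0 𝒜) ↥(GrLC.comp 𝒜 𝒜 n) :=
      fl_comp hpos (GrLC.GMod.of 𝒜 R 𝒜) n
    have hnoeth := (isFiniteLength_iff_isNoetherian_isArtinian.mp hfl).1
    exact Module.IsNoetherian.finite _ _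
  have hrank : ∀ n : ℕ, Module.finrank (GrLC.deg0 𝒜) ↥(GrLC.comp 𝒜 𝒜 (n : ℤ)) =
      (r + n - 1).choose n := by
    intro n
    have h1 := hH (n : ℤ) (by omega)
    rw [lenQ_eq_finrank, hS_natCast] at h1
    exact_mod_cast h1
  have h1 : Module.finrank (GrLC.deg0 𝒜) ↥(GrLC.comp 𝒜 𝒜 ((1 : ℕ) : ℤ)) = r := by
    rw [hrank 1, Nat.add_sub_cancel, Nat.choose_one_right]
  have hfin1 := hfin ((1 : ℕ) : ℤ)
  let b := Module.finBasisOfFinrankEq (GrLC.deg0 𝒜) ↥(GrLC.comp 𝒜 𝒜 ((1 : ℕ) : ℤ)) h1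
  have hy : ∀ i, ((b i : ↥(GrLC.comp 𝒜 𝒜 ((1 : ℕ) : ℤ))) : R) ∈ 𝒜 1 := by
    intro i
    have := (b i).2
    have e1 : ((1 : ℕ) : ℤ) = 1 := Nat.cast_one
    rw [← e1]
    exact this
  have hspan : ∀ x ∈ 𝒜 1, x ∈ Submodule.span (GrLC.deg0 𝒜)
      (Set.range fun i => ((b i : ↥(GrLC.comp 𝒜 𝒜 ((1 : ℕ) : ℤ))) : R)) := by
    intro x hx
    have e1 : ((1 : ℕ) : ℤ) = 1 := Nat.cast_one
    have hx' : x ∈ GrLC.comp 𝒜 𝒜 ((1 : ℕ) : ℤ) := by
      rw [e1]
      exact hx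
    have h2 : (Submodule.span (GrLC.deg0 𝒜) (Set.range b)).map
        (GrLC.comp 𝒜 𝒜 ((1 : ℕ) : ℤ)).subtype =
        Submodule.span (GrLC.deg0 𝒜)
          (Set.range fun i => ((b i : ↥(GrLC.comp 𝒜 𝒜 ((1 : ℕ) : ℤ))) : R)) := by
      rw [Submodule.map_span, ← Set.range_comp]
      rfl
    rw [← h2, b.span_eq]
    exact ⟨⟨x, hx'⟩, Submodule.mem_top, rfl⟩
  have hsurj := phi_surjective hpos hstd hspan
  have hinj : Function.Injective
      (phi 𝒜 fun i => ((b i : ↥(GrLC.comp 𝒜 𝒜 ((1 : ℕ) : ℤ))) : R)) := by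
    refine phi_injective 𝒜 hy fun n p hp hpz => ?_
    have hfd1 : Module.Finite (GrLC.deg0 𝒜)
        ↥(homogeneousSubmodule (Fin r) (GrLC.deg0 𝒜) n) := finite_homog _ r n
    have hfd2 := hfin (n : ℤ)
    have heq : Module.finrank (GrLC.deg0 𝒜) ↥(homogeneousSubmodule (Fin r) (GrLC.deg0 𝒜) n) =
        Module.finrank (GrLC.deg0 𝒜) ↥(GrLC.comp 𝒜 𝒜 (n : ℤ)) := by
      rw [finrank_homog, hrank n]
    have hiff := @LinearMap.injective_iff_surjective_of_finrank_eq_finrank (GrLC.deg0 𝒜)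
      ↥(homogeneousSubmodule (Fin r) (GrLC.deg0 𝒜) n) _ _ _ ↥(GrLC.comp 𝒜 𝒜 (n : ℤ)) _ _ _ _ heq
      (phiN hy n)
    have hi : Function.Injective (phiN hy n) := hiff.mpr (phiN_surjective hy hstd hspan n)
    have h3 : phiN hy n ⟨p, (mem_homogeneousSubmodule n p).mpr hp⟩ = 0 := Subtype.ext hpz
    have h4 := hi (h3.trans (map_zero _).symm)
    exact congrArg Subtype.val h4
  exact ⟨(RingEquiv.ofBijective (phi 𝒜 _).toRingHom ⟨hinj, hsurj⟩).symm⟩

end char

end Groth.Agent.Lib.R2H7.GrPres
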