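/-
A standard graded algebra `R` over the field `R_0` which is abstractly isomorphic to the polynomial
ring in `dim R` variables over `R_0` has the Hilbert function of that polynomial ring: `R` is a
regular ring, so the cotangent space of `R_m` has dimension `≤ dim R`, and it contains `R_1`; hence
`R` is a quotient of the polynomial ring in `dim R` variables, of the same dimension.
-/
import Mathlib
import Groth.Agent.Lib.R2H7GrPres
import Groth.Agent.Lib.R2H7GrHt
import Groth.Agent.Lib.Helper6FSReg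

set_option autoImplicit false
open DirectSum

noncomputable section

namespace Groth.Agent.Lib.R2H7.GrRegPoly

open MvPolynomial Groth.Agent.Lib.R2H7.GrPres Groth.Agent.Lib.R2H7.GrLen
  Groth.Agent.Lib.R2H7.GrBinom Groth.Agent.Lib.R2H7.GrSerre Groth.Agent.Lib.R2H7.GrHt
open scoped Pointwise

universe u

variable {R : Type u} [CommRing R] {𝒜 : ℤ → AddSubgroup R} [GradedRing 𝒜]

/-! ### The irrelevant ideal -/

section irrel

/-- The degree one component of an element of the square of the irrelevant ideal vanishes. -/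
theorem decompose_one_eq_zero_of_mem_sq (hpos : ∀ n : ℤ, n < 0 → 𝒜 n = ⊥) (I : Ideal R)
    (hI : I = Ideal.span (⋃ n ∈ Set.Ioi (0 : ℤ), (𝒜 n : Set R))) (z : R) (hz : z ∈ I ^ 2) :
    ((decompose 𝒜 z) 1 : R) = 0 := by
  classical
  rw [pow_two, hI, Ideal.span_mul_span'] at hz
  obtain ⟨f, t, ht, -, hsum⟩ := Submodule.mem_span_iff_exists_finset_subset.mp hz
  rw [← hsum, decompose_sum, DFinsupp.finset_sum_apply, AddSubmonoidClass.coe_finset_sum]
  refine Finset.sum_eq_zero fun w hw => ?_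
  obtain ⟨a, ha, b, hb, rfl⟩ := Set.mem_mul.mp (ht hw)
  obtain ⟨p, hp, hap⟩ := Set.mem_iUnion₂.mp ha
  obtain ⟨q, hq, hbq⟩ := Set.mem_iUnion₂.mp hb
  have hp' : 0 < p := hp
  have hq' : 0 < q := hq
  have hab : a * b ∈ 𝒜 (p + q) := SetLike.mul_mem_graded hap hbq
  have h1 := DirectSum.coe_decompose_mul_add_of_right_mem 𝒜 (i := 1 - (p + q)) (a := f (a * b)) hab
  rw [sub_add_cancel] at h1
  rw [smul_eq_mul, h1]
  have h2 : ∀ z' ∈ 𝒜 (1 - (p + q)), z' = 0 := fun z' hz' => by
    rw [hpos _ (by omega)] at hz'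
    exact AddSubgroup.mem_bot.mp hz'
  rw [h2 _ (SetLike.coe_mem _), zero_mul]

/-- An element with vanishing degree zero component lies in the irrelevant ideal. -/
theorem mem_irrel_of_decompose_zero (hpos : ∀ n : ℤ, n < 0 → 𝒜 n = ⊥) (w : R)
    (hw : ((decompose 𝒜 w) 0 : R) = 0) :
    w ∈ Ideal.span (⋃ n ∈ Set.Ioi (0 : ℤ), (𝒜 n : Set R)) := by
  classical
  rw [← DirectSum.sum_support_decompose 𝒜 w]
  refine sum_mem fun g _ => ?_
  rcases lt_trichotomy g 0 with hg | hg | hg
  · have h2 : ∀ z' ∈ 𝒜 g, z' = 0 := fun z' hz' => by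
      rw [hpos _ hg] at hz'
      exact AddSubgroup.mem_bot.mp hz'
    rw [h2 _ (SetLike.coe_mem _)]
    exact zero_mem _
  · rw [hg, hw]
    exact zero_mem _
  · exact Ideal.subset_span (Set.mem_iUnion₂.mpr ⟨g, Set.mem_Ioi.mpr hg, SetLike.coe_mem _⟩)

end irrel

/-! ### The cotangent space of a regular graded algebra -/

section cot

open IsLocalRing

theorem card_le_of_isRegularRing [IsRegularRing R] (hpos : ∀ n : ℤ, n < 0 → 𝒜 n = ⊥)
    (m : HomogeneousIdeal 𝒜) (hm : GrLC.IsStarLocal 𝒜 m)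
    (hmsp : m.toIdeal = Ideal.span (⋃ n ∈ Set.Ioi (0 : ℤ), (𝒜 n : Set R)))
    (r : ℕ) (hr : ringKrullDim R = r) {s : ℕ} (y : Fin s → R) (hy : ∀ i, y i ∈ 𝒜 1)
    (hli : ∀ c : Fin s → GrLC.deg0 𝒜, ∑ i, (c i : R) * y i = 0 → ∀ i, c i = 0) : s ≤ r := by
  classical
  have hmax : m.toIdeal.IsMaximal := isMaximal_of_isCoatom 𝒜 hpos m hm.1
  have hprime : m.toIdeal.IsPrime := hmax.isPrime
  have hreg : IsRegularLocalRing (Localization.AtPrime m.toIdeal) := inferInstance
  have hdim : ringKrullDim (Localization.AtPrime m.toIdeal) ≤ (r : WithBot ℕ∞) := by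
    rw [IsLocalization.AtPrime.ringKrullDim_eq_height m.toIdeal (Localization.AtPrime m.toIdeal),
      ← hr]
    exact Ideal.height_le_ringKrullDim_of_ne_top hmax.ne_top
  have hle : Module.finrank (ResidueField (Localization.AtPrime m.toIdeal))
      (CotangentSpace (Localization.AtPrime m.toIdeal)) ≤ r := by
    have h1 : ((Module.finrank (ResidueField (Localization.AtPrime m.toIdeal))
        (CotangentSpace (Localization.AtPrime m.toIdeal)) : ℕ) : WithBot ℕ∞) ≤ (r : WithBot ℕ∞) := by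
      rw [← IsLocalRing.spanFinrank_maximalIdeal_eq_finrank_cotangentSpace,
        hreg.spanFinrank_maximalIdeal]
      exact hdim
    exact_mod_cast h1
  have hymem : ∀ i, algebraMap R (Localization.AtPrime m.toIdeal) (y i) ∈
      maximalIdeal (Localization.AtPrime m.toIdeal) := by
    intro i
    rw [IsLocalization.AtPrime.to_map_mem_maximal_iff (Localization.AtPrime m.toIdeal) m.toIdeal,
      hmsp]
    exact Ideal.subset_span (Set.mem_iUnion₂.mpr ⟨1, Set.mem_Ioi.mpr one_pos, hy i⟩)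
  have hv : LinearIndependent (ResidueField (Localization.AtPrime m.toIdeal))
      (fun i : Fin s => (maximalIdeal (Localization.AtPrime m.toIdeal)).toCotangent
        ⟨algebraMap R (Localization.AtPrime m.toIdeal) (y i), hymem i⟩) := by
    rw [Fintype.linearIndependent_iff]
    intro g hg i
    choose a ha using fun i => IsLocalRing.residue_surjective (g i)
    obtain ⟨b, hb⟩ := IsLocalization.exist_integer_multiples m.toIdeal.primeCompl
      (S := Localization.AtPrime m.toIdeal) Finset.univ a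
    choose u hu using fun i => hb i (Finset.mem_univ i)
    -- the sum lies in the square of the maximal ideal
    have hsum : (maximalIdeal (Localization.AtPrime m.toIdeal)).toCotangent
        (∑ i, a i • (⟨algebraMap R (Localization.AtPrime m.toIdeal) (y i), hymem i⟩ :
          maximalIdeal (Localization.AtPrime m.toIdeal))) = 0 := by
      rw [map_sum, ← hg]
      refine Finset.sum_congr rfl fun i _ => ?_
      rw [map_smul, ← ha i]
      exact (algebraMap_smul (ResidueField (Localization.AtPrime m.toIdeal)) (a i) _).symm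
    have h2 := (Ideal.toCotangent_eq_zero _ _).mp hsum
    have h2' : (∑ i, a i * algebraMap R (Localization.AtPrime m.toIdeal) (y i)) ∈
        maximalIdeal (Localization.AtPrime m.toIdeal) ^ 2 := by
      have h3 : ((∑ i, a i • (⟨algebraMap R (Localization.AtPrime m.toIdeal) (y i), hymem i⟩ :
          maximalIdeal (Localization.AtPrime m.toIdeal)) :
          maximalIdeal (Localization.AtPrime m.toIdeal)) : Localization.AtPrime m.toIdeal) =
          ∑ i, a i * algebraMap R (Localization.AtPrime m.toIdeal) (y i) := by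
        rw [AddSubmonoidClass.coe_finset_sum]
        rfl
      rw [← h3]
      exact h2
    have h4 : algebraMap R (Localization.AtPrime m.toIdeal) (∑ i, u i * y i) ∈
        maximalIdeal (Localization.AtPrime m.toIdeal) ^ 2 := by
      have h5 : algebraMap R (Localization.AtPrime m.toIdeal) (∑ i, u i * y i) =
          algebraMap R (Localization.AtPrime m.toIdeal) (b : R) *
            ∑ i, a i * algebraMap R (Localization.AtPrime m.toIdeal) (y i) := by
        rw [map_sum, Finset.mul_sum]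
        refine Finset.sum_congr rfl fun i _ => ?_
        rw [map_mul, hu i, Algebra.smul_def]
        ring
      rw [h5]
      exact Ideal.mul_mem_left _ _ h2'
    have h6 : maximalIdeal (Localization.AtPrime m.toIdeal) ^ 2 =
        Ideal.map (algebraMap R (Localization.AtPrime m.toIdeal)) (m.toIdeal ^ 2) := by
      rw [Ideal.map_pow, Localization.AtPrime.map_eq_maximalIdeal]
    rw [h6, IsLocalization.algebraMap_mem_map_algebraMap_iff m.toIdeal.primeCompl] at h4
    obtain ⟨t, ht, htz⟩ := h4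
    have h7 := decompose_one_eq_zero_of_mem_sq hpos m.toIdeal hmsp _ htz
    have h8 : ((decompose 𝒜 (t * ∑ i, u i * y i)) 1 : R) =
        ∑ i, ((decompose 𝒜 (t * u i)) 0 : R) * y i := by
      rw [Finset.mul_sum, decompose_sum, DFinsupp.finset_sum_apply,
        AddSubmonoidClass.coe_finset_sum]
      refine Finset.sum_congr rfl fun i _ => ?_
      rw [← mul_assoc]
      have h9 := DirectSum.coe_decompose_mul_add_of_right_mem 𝒜 (i := 0) (a := t * u i) (hy i)
      rw [zero_add] at h9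
      exact h9
    rw [h8] at h7
    have h10 := hli (fun i => ⟨((decompose 𝒜 (t * u i)) 0 : R), SetLike.coe_mem _⟩) h7 i
    have h11 : ((decompose 𝒜 (t * u i)) 0 : R) = 0 := congrArg Subtype.val h10
    have h12 : t * u i ∈ m.toIdeal := by
      rw [hmsp]
      exact mem_irrel_of_decompose_zero hpos _ h11
    have h13 : u i ∈ m.toIdeal := (hprime.mem_or_mem h12).resolve_left ht
    have h14 : algebraMap R (Localization.AtPrime m.toIdeal) (u i) ∈
        maximalIdeal (Localization.AtPrime m.toIdeal) :=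
      (IsLocalization.AtPrime.to_map_mem_maximal_iff (Localization.AtPrime m.toIdeal)
        m.toIdeal (u i)).mpr h13
    rw [hu i, Algebra.smul_def] at h14
    have hunit : IsUnit (algebraMap R (Localization.AtPrime m.toIdeal) (b : R)) :=
      IsLocalization.map_units (Localization.AtPrime m.toIdeal) b
    have h15 : a i ∈ maximalIdeal (Localization.AtPrime m.toIdeal) :=
      ((Ideal.IsPrime.mem_or_mem (IsLocalRing.maximalIdeal.isMaximal _).isPrime h14).resolve_left
        (fun h => (IsLocalRing.mem_maximalIdeal _).mp h hunit))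
    rw [← ha i]
    exact (IsLocalRing.residue_eq_zero_iff _).mpr h15
  have hcard := hv.fintype_card_le_finrank
  rw [Fintype.card_fin] at hcard
  exact hcard.trans hle

end cot

/-! ### The Hilbert function -/

section main

theorem hilbert_of_ringEquiv [IsNoetherianRing R] (hpos : ∀ n : ℤ, n < 0 → 𝒜 n = ⊥)
    (h0 : IsField (GrLC.deg0 𝒜)) (m : HomogeneousIdeal 𝒜) (hm : GrLC.IsStarLocal 𝒜 m)
    (hmsp : m.toIdeal = Ideal.span (⋃ n ∈ Set.Ioi (0 : ℤ), (𝒜 n : Set R)))
    (hstd : Ideal.span (⋃ n ∈ Set.Ioi (0 : ℤ), (𝒜 n : Set R)) =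
      Ideal.span ((𝒜 1 : AddSubgroup R) : Set R))
    (r : ℕ) (hr : ringKrullDim R = r) (e : R ≃+* MvPolynomial (Fin r) (GrLC.deg0 𝒜)) :
    ∀ n : ℤ, 0 ≤ n → lenQ (GrLC.deg0 𝒜) ↥(GrLC.comp 𝒜 𝒜 n) = hS r n := by
  classical
  let _ : Field (GrLC.deg0 𝒜) := h0.toField
  have hart : IsArtinianRing (GrLC.deg0 𝒜) := inferInstance
  have hregS : IsRegularRing (MvPolynomial (Fin r) (GrLC.deg0 𝒜)) :=
    Groth.Agent.Lib.Helper6.FSReg.isRegularRing_of_formallySmooth (GrLC.deg0 𝒜) _
  have hregR : IsRegularRing R := IsRegularRing.of_ringEquiv e.symm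
  have hfin : ∀ n : ℤ, Module.Finite (GrLC.deg0 𝒜) ↥(GrLC.comp 𝒜 𝒜 n) := by
    intro n
    have hfinR : Module.Finite R (GrLC.GMod.of 𝒜 R 𝒜).carrier :=
      inferInstanceAs (Module.Finite R R)
    have hfl : IsFiniteLength (GrLC.deg0 𝒜) ↥(GrLC.comp 𝒜 𝒜 n) :=
      fl_comp hpos (GrLC.GMod.of 𝒜 R 𝒜) n
    have hnoeth := (isFiniteLength_iff_isNoetherian_isArtinian.mp hfl).1
    exact Module.IsNoetherian.finite _ _
  have hfin1 := hfin 1
  -- a basis of `R_1`
  let b := Module.finBasis (GrLC.deg0 𝒜) ↥(GrLC.comp 𝒜 𝒜 1)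
  have hy : ∀ i, ((b i : ↥(GrLC.comp 𝒜 𝒜 1)) : R) ∈ 𝒜 1 := fun i => (b i).2
  have hspan : ∀ x ∈ 𝒜 1, x ∈ Submodule.span (GrLC.deg0 𝒜)
      (Set.range fun i => ((b i : ↥(GrLC.comp 𝒜 𝒜 1)) : R)) := by
    intro x hx
    have h2 : (Submodule.span (GrLC.deg0 𝒜) (Set.range b)).map (GrLC.comp 𝒜 𝒜 1).subtype =
        Submodule.span (GrLC.deg0 𝒜)
          (Set.range fun i => ((b i : ↥(GrLC.comp 𝒜 𝒜 1)) : R)) := by
      rw [Submodule.map_span, ← Set.range_comp]
      rfl
    rw [← h2, b.span_eq]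
    exact ⟨⟨x, hx⟩, Submodule.mem_top, rfl⟩
  have hli : ∀ c : Fin (Module.finrank (GrLC.deg0 𝒜) ↥(GrLC.comp 𝒜 𝒜 1)) → GrLC.deg0 𝒜,
      ∑ i, (c i : R) * ((b i : ↥(GrLC.comp 𝒜 𝒜 1)) : R) = 0 → ∀ i, c i = 0 := by
    intro c hc
    refine Fintype.linearIndependent_iff.mp b.linearIndependent c ?_
    apply Subtype.ext
    rw [AddSubmonoidClass.coe_finset_sum]
    exact hc
  have hs_le : Module.finrank (GrLC.deg0 𝒜) ↥(GrLC.comp 𝒜 𝒜 1) ≤ r :=
    card_le_of_isRegularRing hpos m hm hmsp r hr _ hy hli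
  have hsurj := phi_surjective hpos hstd hspan
  have hdimS : ringKrullDim (MvPolynomial
      (Fin (Module.finrank (GrLC.deg0 𝒜) ↥(GrLC.comp 𝒜 𝒜 1))) (GrLC.deg0 𝒜)) =
      ((Module.finrank (GrLC.deg0 𝒜) ↥(GrLC.comp 𝒜 𝒜 1) : ℕ) : WithBot ℕ∞) := by
    rw [MvPolynomial.ringKrullDim_of_isNoetherianRing, ringKrullDim_eq_zero_of_isField h0,
      zero_add, Nat.card_eq_fintype_card, Fintype.card_fin]
  have hr_le : r ≤ Module.finrank (GrLC.deg0 𝒜) ↥(GrLC.comp 𝒜 𝒜 1) := by
    have h1 := ringKrullDim_le_of_surjective (phi 𝒜 _).toRingHom hsurj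
    rw [hr, hdimS] at h1
    exact_mod_cast h1
  have hsr : Module.finrank (GrLC.deg0 𝒜) ↥(GrLC.comp 𝒜 𝒜 1) = r := le_antisymm hs_le hr_le
  have hinj : Function.Injective
      (phi 𝒜 fun i => ((b i : ↥(GrLC.comp 𝒜 𝒜 1)) : R)) := by
    rw [injective_iff_map_eq_zero]
    intro p hp
    by_contra hne
    have hnzd : p ∈ nonZeroDivisors (MvPolynomial
        (Fin (Module.finrank (GrLC.deg0 𝒜) ↥(GrLC.comp 𝒜 𝒜 1))) (GrLC.deg0 𝒜)) :=
      mem_nonZeroDivisors_of_ne_zero hne
    have h1 := ringKrullDim_quotient_succ_le_of_nonZeroDivisor hnzd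
    have hker : ∀ a ∈ Ideal.span {p},
        (phi 𝒜 fun i => ((b i : ↥(GrLC.comp 𝒜 𝒜 1)) : R)).toRingHom a = 0 := by
      intro a ha
      obtain ⟨c, rfl⟩ := Ideal.mem_span_singleton'.mp ha
      show phi 𝒜 _ (c * p) = 0
      rw [map_mul, hp, mul_zero]
    have h2 : ringKrullDim R ≤ ringKrullDim (MvPolynomial
        (Fin (Module.finrank (GrLC.deg0 𝒜) ↥(GrLC.comp 𝒜 𝒜 1))) (GrLC.deg0 𝒜) ⧸
          Ideal.span {p}) :=
      ringKrullDim_le_of_surjective (Ideal.Quotient.lift (Ideal.span {p}) _ hker)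
        (Ideal.Quotient.lift_surjective_of_surjective _ hker hsurj)
    have h4 := (add_le_add h2 (le_refl (1 : WithBot ℕ∞))).trans h1
    rw [hr, hdimS, hsr] at h4
    have h5 : ((r + 1 : ℕ) : WithBot ℕ∞) ≤ ((r : ℕ) : WithBot ℕ∞) := by exact_mod_cast h4
    have h6 : r + 1 ≤ r := by exact_mod_cast h5
    omega
  intro n hn
  obtain ⟨n', rfl⟩ := Int.eq_ofNat_of_zero_le hn
  have hbij := phiN_bijective hy ⟨hinj, hsurj⟩ n'
  have heq := (LinearEquiv.ofBijective (phiN hy n') hbij).finrank_eq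
  rw [lenQ_eq_finrank, hS_natCast, ← heq, finrank_homog, hsr]

end main

end Groth.Agent.Lib.R2H7.GrRegPoly
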