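/-
For a Cohen-Macaulay standard graded algebra `R` over the field `R_0`, of dimension `r`:
`a(R) = -r` if and only if `R` is isomorphic to the polynomial ring in `r` variables over `R_0`.
-/
import Mathlib
import Groth.Agent.Lib.R2H7GrRegPoly
import Groth.Agent.Lib.R2H7GrAinvLow

set_option autoImplicit false
open DirectSum

noncomputable section

namespace Groth.Agent.Lib.R2H7.GrAinvPoly

open Groth.Agent.Lib.R2H7.GrDer Groth.Agent.Lib.R2H7.GrOps Groth.Agent.Lib.R2H7.GrLES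
  Groth.Agent.Lib.R2H7.GrTop Groth.Agent.Lib.R2H7.GrEv Groth.Agent.Lib.R2H7.GrH
  Groth.Agent.Lib.R2H7.GrLen Groth.Agent.Lib.R2H7.GrSerre Groth.Agent.Lib.R2H7.GrSerreLoc
  Groth.Agent.Lib.R2H7.GrGen Groth.Agent.Lib.R2H7.GrAinv Groth.Agent.Lib.R2H7.GrDim
  Groth.Agent.Lib.R2H7.GrSerreCM Groth.Agent.Lib.R2H7.GrHt Groth.Agent.Lib.R2H7.GrBinom
  Groth.Agent.Lib.R2H7.GrPres Groth.Agent.Lib.R2H7.GrRegPoly Groth.Agent.Lib.R2H7.GrAinvLow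
  Groth.Agent.Lib.R2H7.GrBdry

universe u

variable {R : Type u} [CommRing R] {𝒜 : ℤ → AddSubgroup R} [GradedRing 𝒜]

open Polynomial

/-- The degree zero piece, as a module over `R_0`, is `R_0`. -/
def compZeroEquiv : ↥(GrLC.comp 𝒜 𝒜 0) ≃ₗ[GrLC.deg0 𝒜] ↥(GrLC.deg0 𝒜) where
  toFun x := ⟨x.1, x.2⟩
  invFun x := ⟨x.1, x.2⟩
  left_inv _ := rfl
  right_inv _ := rfl
  map_add' _ _ := rfl
  map_smul' _ _ := rfl

theorem lenQ_comp_zero (h0 : IsField (GrLC.deg0 𝒜)) :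
    lenQ (GrLC.deg0 𝒜) ↥(GrLC.comp 𝒜 𝒜 0) = 1 := by
  let _ : Field (GrLC.deg0 𝒜) := h0.toField
  rw [lenQ_eq_finrank, (compZeroEquiv (𝒜 := 𝒜)).finrank_eq, Module.finrank_self, Nat.cast_one]

theorem lenQ_comp_neg (hpos : ∀ n : ℤ, n < 0 → 𝒜 n = ⊥) {n : ℤ} (hn : n < 0) :
    lenQ (GrLC.deg0 𝒜) ↥(GrLC.comp 𝒜 𝒜 n) = 0 := by
  have hbot : 𝒜 n = ⊥ := hpos n hn
  have hs : Subsingleton ↥(GrLC.comp 𝒜 𝒜 n) := by
    refine ⟨fun u v => Subtype.ext ?_⟩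
    have hu : (u : R) ∈ 𝒜 n := u.2
    have hv : (v : R) ∈ 𝒜 n := v.2
    rw [hbot, AddSubgroup.mem_bot] at hu hv
    rw [hu, hv]
  exact lenQ_of_subsingleton _

theorem endDeg_eq_iff [LocCoh.IsCohenMacaulayRing R] (hpos : ∀ n : ℤ, n < 0 → 𝒜 n = ⊥)
    (h0 : IsField (GrLC.deg0 𝒜)) (m : HomogeneousIdeal 𝒜) (hm : GrLC.IsStarLocal 𝒜 m)
    (hmsp : m.toIdeal = Ideal.span (⋃ n ∈ Set.Ioi (0 : ℤ), (𝒜 n : Set R)))
    (hstd : Ideal.span (⋃ n ∈ Set.Ioi (0 : ℤ), (𝒜 n : Set R)) =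
      Ideal.span ((𝒜 1 : AddSubgroup R) : Set R))
    (r : ℕ) (hr : ringKrullDim R = r) (I : GrLC.StarInjRes 𝒜 𝒜) :
    GrLC.endDeg (I.Hgr m r) = (((-(r : ℤ) : ℤ) : WithTop ℤ) : WithBot (WithTop ℤ)) ↔
      Nonempty (R ≃+* MvPolynomial (Fin r) (GrLC.deg0 𝒜)) := by
  have hart : IsArtinianRing (GrLC.deg0 𝒜) := by
    let _ : Field (GrLC.deg0 𝒜) := h0.toField
    infer_instance
  have hfin : Module.Finite R (GrLC.GMod.of 𝒜 R 𝒜).carrier := inferInstanceAs (Module.Finite R R)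
  obtain ⟨P, hP⟩ := exists_hp_starLocal hpos hstd m hm r hr (GrLC.GMod.of 𝒜 R 𝒜)
  have hdim : Module.supportDim R (GrLC.GMod.of 𝒜 R 𝒜).carrier ≤ (r : WithBot ℕ∞) := by
    have h1 : Module.supportDim R (GrLC.GMod.of 𝒜 R 𝒜).carrier = ringKrullDim R :=
      Module.supportDim_self_eq_ringKrullDim R
    rw [h1, hr]
  have hdeg : P.degree < (r : WithBot ℕ) :=
    degree_lt_of_supportDim_le hpos r (GrLC.GMod.of 𝒜 R 𝒜) hfin hdim P hP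
  have hP' : ∃ N : ℤ, ∀ n : ℤ, N ≤ n →
      P.eval (n : ℚ) = ((Module.length (GrLC.deg0 𝒜) ↥(GrLC.comp 𝒜 𝒜 n)).toNat : ℚ) := hP
  have hiff : ∀ n : ℤ, I.Hgr m r n ≠ ⊥ ↔
      P.eval (n : ℚ) ≠ lenQ (GrLC.deg0 𝒜) ↥(GrLC.comp 𝒜 𝒜 n) :=
    fun n => hgr_ne_bot_iff hpos hstd m hm r hr I P hP' n
  have hH0 := lenQ_comp_zero (𝒜 := 𝒜) h0
  constructor
  · intro hend
    have hvan : ∀ n : ℤ, -(r : ℤ) < n → I.Hgr m r n = ⊥ :=
      (endDeg_le_iff' _ _).mp hend.le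
    have hPH : ∀ n : ℤ, -(r : ℤ) < n →
        P.eval (n : ℚ) = lenQ (GrLC.deg0 𝒜) ↥(GrLC.comp 𝒜 𝒜 n) := by
      intro n hn
      by_contra hne
      exact (hiff n).mpr hne (hvan n hn)
    have hPB : P = B r := by
      refine eq_B_of_roots r P hdeg fun n hn1 hn2 => ?_
      rw [hPH n hn1]
      rcases lt_or_eq_of_le hn2 with h | h
      · rw [lenQ_comp_neg hpos h, hS_neg r h]
      · rw [h, hH0, hS_zero]
    refine nonempty_ringEquiv_of_hilbert hpos hstd h0 r fun n hn => ?_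
    by_cases hn0 : n = 0
    · rw [hn0, hH0, hS_zero]
    · have hn' : -(r : ℤ) < n := by omega
      rw [← hPH n hn', hPB, eval_B r n hn']
  · rintro ⟨e⟩
    have hH := hilbert_of_ringEquiv hpos h0 m hm hmsp hstd r hr e
    obtain ⟨N, hN⟩ := hP'
    have hN' : ∀ n : ℤ, N ≤ n →
        P.eval (n : ℚ) = lenQ (GrLC.deg0 𝒜) ↥(GrLC.comp 𝒜 𝒜 n) := hN
    have hPB : P = B r := by
      refine eq_B_of_eventually r P (max N 0) fun n hn => ?_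
      rw [hN' n (le_trans (le_max_left _ _) hn), hH n (le_trans (le_max_right _ _) hn)]
    have hHall : ∀ n : ℤ, lenQ (GrLC.deg0 𝒜) ↥(GrLC.comp 𝒜 𝒜 n) = hS r n := by
      intro n
      rcases lt_or_ge n 0 with h | h
      · rw [lenQ_comp_neg hpos h, hS_neg r h]
      · exact hH n h
    have hvan : ∀ n : ℤ, -(r : ℤ) < n → I.Hgr m r n = ⊥ := by
      intro n hn
      by_contra hne
      exact (hiff n).mp hne (by rw [hPB, eval_B r n hn, hHall n])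
    have hne : I.Hgr m r (-(r : ℤ)) ≠ ⊥ := by
      rw [hiff, hPB, hHall]
      exact eval_B_ne r
    refine le_antisymm ((endDeg_le_iff' _ _).mpr hvan) ?_
    exact le_iSup₂ (f := fun (n : ℤ) (_ : I.Hgr m r n ≠ ⊥) =>
      ((n : WithTop ℤ) : WithBot (WithTop ℤ))) (-(r : ℤ)) hne

end Groth.Agent.Lib.R2H7.GrAinvPoly
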