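/-
The pairing between a *canonical module `C` and the top graded local cohomology `H^n_m(R)`
(`R = ⊕_{n ≥ 0} R_n` Noetherian, `R_0` a field, `m = R_+`), with the vanishing of the pairing on
pieces of non-complementary degrees (`exists_pairing'`, a refinement of
`R2H7GrCanDict.exists_pairing`).  (helper7)
-/
import Mathlib
import Groth.Agent.Lib.R2H7GrCanDict

set_option autoImplicit false
open DirectSum

noncomputable section

namespace Groth.Agent.Lib.R2H7.GrCanPair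

open Groth.Agent.Lib.Helper29GrCompare Groth.Agent.Lib.Helper29GrHom
  Groth.Agent.Lib.Helper29GrGam Groth.Agent.Lib.Helper29GrEss Groth.Agent.Lib.Helper29GrBaer
  Groth.Agent.Lib.R2H7.GrDer Groth.Agent.Lib.R2H7.GrOps
  Groth.Agent.Lib.R2H7.GrFree Groth.Agent.Lib.R2H7.GrStar Groth.Agent.Lib.R2H7.GrSerre
  Groth.Agent.Lib.R2H7.GrAcycW Groth.Agent.Lib.R2H7.GrCanDict

universe u

variable {R : Type u} [CommRing R] {𝒜 : ℤ → AddSubgroup R} [GradedRing 𝒜]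
  (hpos : ∀ n : ℤ, n < 0 → 𝒜 n = ⊥) (h0 : IsField (GrLC.deg0 𝒜))
  (m : HomogeneousIdeal 𝒜) (hm : GrLC.IsStarLocal 𝒜 m)
  (hmsp : m.toIdeal = Ideal.span (⋃ n ∈ Set.Ioi (0 : ℤ), (𝒜 n : Set R)))
  {E' : Type u} [AddCommGroup E'] [Module R E'] (𝓔 : ℤ → AddSubgroup E')
  [DirectSum.Decomposition 𝓔] [SetLike.GradedSMul 𝒜 𝓔]
  (e : (R ⧸ m.toIdeal) →ₗ[R] E') (he : GrLC.IsStarInjHull 𝒜 (GrLC.quotGr 𝒜 m) 𝓔 e)
  {C : Type u} [AddCommGroup C] [Module R C] (𝒞 : ℤ → AddSubgroup C)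
  [DirectSum.Decomposition 𝒞] [SetLike.GradedSMul 𝒜 𝒞]

include hpos h0 hm hmsp he in
/-- The pairing between a *canonical module and the top local cohomology. -/
theorem exists_pairing' [IsNoetherianRing R] (n : ℕ) (I : GrLC.StarInjRes 𝒜 𝒜)
    (hC : GrLC.IsStarCanonical 𝒜 𝒞 𝓔 m n I) :
    ∃ β : C →ₗ[GrLC.deg0 𝒜] I.H m n →ₗ[GrLC.deg0 𝒜] GrLC.deg0 𝒜,
      (∀ (r : R) (c : C) (h : I.H m n), β (r • c) h = β c (r • h)) ∧
      (∀ (i : ℤ) (c : C), c ∈ 𝒞 i → ∀ j : ℤ, j ≠ -i → ∀ h ∈ I.Hgr m n j, β c h = 0) ∧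
      (∀ (i : ℤ) (c : C), c ∈ 𝒞 i → (∀ h ∈ I.Hgr m n (-i), β c h = 0) → c = 0) ∧
      (∀ (i : ℤ) (l : I.H m n →ₗ[GrLC.deg0 𝒜] GrLC.deg0 𝒜),
        ∃ c ∈ 𝒞 i, ∀ h ∈ I.Hgr m n (-i), β c h = l h) := by
  classical
  obtain ⟨hfin, φ, hφ⟩ := hC
  obtain ⟨τ, hτ0, hτne⟩ := exists_trace hpos h0 m hm hmsp 𝓔 e he
  let β : C →ₗ[GrLC.deg0 𝒜] I.H m n →ₗ[GrLC.deg0 𝒜] GrLC.deg0 𝒜 :=
    LinearMap.mk₂ (GrLC.deg0 𝒜) (fun c h => τ ((φ.symm h) c))
      (fun c c' h => by rw [map_add, map_add])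
      (fun a c h => by
        show τ ((φ.symm h) ((a : R) • c)) = a • τ ((φ.symm h) c)
        rw [map_smul]
        exact map_smul τ a _)
      (fun c h h' => by rw [map_add, LinearMap.add_apply, map_add])
      (fun a c h => by
        show τ ((φ.symm ((a : R) • h)) c) = a • τ ((φ.symm h) c)
        rw [map_smul, LinearMap.smul_apply]
        exact map_smul τ a _)
  have hβ : ∀ c h, β c h = τ ((φ.symm h) c) := fun c h => rfl
  have hL : ∀ (i : ℤ) (c : C), c ∈ 𝒞 i → (∀ h ∈ I.Hgr m n (-i), β c h = 0) → c = 0 := by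
    intro i c hc hvan
    by_contra hc0
    obtain ⟨f, hf, hfc⟩ := exists_sep hpos h0 m hmsp 𝓔 e he 𝒞 hc hc0
    have hh : φ f ∈ I.Hgr m n (-i) := hφ (-i) f hf
    have h1 := hvan (φ f) hh
    rw [hβ, φ.symm_apply_apply, hfc] at h1
    have h2 := hτ0 (x0 m e) (x0_mem hpos m hmsp 𝓔 e he)
    rw [h1, Subring.coe_zero, zero_smul] at h2
    exact x0_ne_zero m hm 𝓔 e he h2.symm
  refine ⟨β, ?_, ?_, hL, ?_⟩
  · intro r c h
    rw [hβ, hβ, (φ.symm h).map_smul r c, φ.symm.map_smul r h, LinearMap.smul_apply]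
  · intro i c hc j hj h hh
    rw [hβ]
    haveI : Module.Finite R C := hfin
    have hf := symm_mem_homDeg m 𝓔 𝒞 n I φ hφ (h := h) hh
    have h2 : (φ.symm h) c ∈ 𝓔 (i + j) := hf i c hc
    refine hτne (i + j) ?_ _ h2
    intro h3
    apply hj
    omega
  · intro i l
    let _ : Field (GrLC.deg0 𝒜) := h0.toField
    have hart : IsArtinianRing (GrLC.deg0 𝒜) := inferInstance
    have hfinC : Module.Finite (GrLC.deg0 𝒜) ↥(GrLC.comp 𝒜 𝒞 i) := by
      have hfinR : Module.Finite R (GrLC.GMod.of 𝒜 C 𝒞).carrier := hfin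
      have hfl : IsFiniteLength (GrLC.deg0 𝒜) ↥(GrLC.comp 𝒜 𝒞 i) :=
        fl_comp hpos (GrLC.GMod.of 𝒜 C 𝒞) i
      have hnoeth := (isFiniteLength_iff_isNoetherian_isArtinian.mp hfl).1
      exact Module.IsNoetherian.finite _ _
    let p := β.domRestrict₁₂ (GrLC.comp 𝒜 𝒞 i) (I.Hcomp m n (-i))
    have hp : ∀ c h, p c h = β c.1 h.1 := fun c h => rfl
    have hinj : Function.Injective p := by
      rw [injective_iff_map_eq_zero]
      intro c hc
      apply Subtype.ext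
      refine hL i c.1 c.2 (fun h hh => ?_)
      exact LinearMap.congr_fun hc ⟨h, hh⟩
    have hinj' : Function.Injective p.flip := by
      rw [injective_iff_map_eq_zero]
      intro h hh
      apply Subtype.ext
      have hf := symm_mem_homDeg m 𝓔 𝒞 n I φ hφ (h := h.1) h.2
      have hz : ∀ c ∈ 𝒞 (-(-i)), (φ.symm h.1) c = 0 := by
        intro c hc
        rw [neg_neg] at hc
        have h1 : τ ((φ.symm h.1) c) = 0 := LinearMap.congr_fun hh ⟨c, hc⟩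
        have h2 : (φ.symm h.1) c ∈ 𝓔 0 := by
          have := hf i c hc
          rwa [add_neg_cancel] at this
        rw [← hτ0 _ h2, h1, Subring.coe_zero, zero_smul]
      have h3 := eq_zero_of_vanish hpos m hmsp 𝓔 e he 𝒞 (φ.symm h.1) hf hz
      show h.1 = 0
      rw [← φ.apply_symm_apply h.1, h3, map_zero]
    have hperf : p.IsPerfPair := LinearMap.IsPerfPair.of_injective hinj hinj'
    obtain ⟨c, hc⟩ := (LinearMap.IsPerfPair.bijective_left p).2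
      (l.domRestrict (I.Hcomp m n (-i)))
    refine ⟨c.1, c.2, fun h hh => ?_⟩
    have h4 := LinearMap.congr_fun hc ⟨h, hh⟩
    exact h4

end Groth.Agent.Lib.R2H7.GrCanPair
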