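/-
Graded local duality in the top degree, over a graded ring `R` containing a field `k`: if
`H^{n+1}_a` vanishes identically, `K` is the graded `k`-dual of `H^n_a(R)` and `D` the graded
`k`-dual of `H^n_a(X)` for a finitely generated graded module `X`, then `D ≅ Hom_R(X, K)` by an
`R`-linear isomorphism carrying `D_j` into the maps homogeneous of degree `j`.  The isomorphism is
`d ↦ (x ↦ κ)` with `β_K(κ)(η) = β_D(d)(x ⋆ η)`, where `⋆` is the natural pairing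
`X × H^n_a(R) → H^n_a(X)`; bijectivity follows from `X ⊗_R H^n_a(R) ≅ H^n_a(X)`.
-/
import Mathlib
import Groth.Agent.Lib.R2H7GrStar
import Groth.Agent.Lib.Helper24GrDual3
import Groth.Prelude.Def_GrSeg

set_option autoImplicit false
open DirectSum
open scoped TensorProduct

noncomputable section

namespace Groth.Agent.Lib.R2H7.GrLocDual

open Groth.Agent.Lib.Helper24GrDual Groth.Agent.Lib.Helper24GrDual3
  Groth.Agent.Lib.R2H7.GrDer Groth.Agent.Lib.R2H7.GrOps Groth.Agent.Lib.R2H7.GrFun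
  Groth.Agent.Lib.R2H7.GrFree Groth.Agent.Lib.R2H7.GrStar

universe u

/-! ### Representing functionals by elements of a graded dual -/

section repr

variable {k : Type u} [Field k] {R : Type u} [CommRing R] [Algebra k R]
  {H : Type u} [AddCommGroup H] [Module R H] [Module k H] [IsScalarTower k R H]
  (ℋ : ℤ → AddSubgroup H) [DirectSum.Decomposition ℋ]
  {D : Type u} [AddCommGroup D] [Module R D] [Module k D] [IsScalarTower k R D]
  (𝒟 : ℤ → AddSubgroup D) [DirectSum.Decomposition 𝒟]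
  (β : D →ₗ[k] H →ₗ[k] k)

theorem exists_repr_homog (hD : GrSeg.IsGDual R ℋ 𝒟 β) (Λ : H →ₗ[k] k) (j : ℤ)
    (hΛ : ∀ g, g ≠ -j → ∀ ξ ∈ ℋ g, Λ ξ = 0) : ∃ d ∈ 𝒟 j, ∀ ξ, β d ξ = Λ ξ := by
  obtain ⟨d, hd, hdv⟩ := hD.exists_eq j Λ
  refine ⟨d, hd, fun ξ => ?_⟩
  refine DirectSum.Decomposition.inductionOn ℋ (motive := fun ξ => β d ξ = Λ ξ) ?_ ?_ ?_ ξ
  · rw [map_zero, map_zero]
  · intro g ξg
    by_cases hg : g = -j
    · exact hdv _ (hg ▸ ξg.2)
    · rw [hD.vanish j d hd g hg _ ξg.2, hΛ g hg _ ξg.2]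
  · intro ξ ξ' h h'
    rw [map_add, map_add, h, h']

theorem exists_repr_finite (hD : GrSeg.IsGDual R ℋ 𝒟 β) (Λ : H →ₗ[k] k) (S : Finset ℤ)
    (hS : ∀ g, g ∉ S → ∀ ξ ∈ ℋ g, Λ ξ = 0) : ∃ d : D, ∀ ξ, β d ξ = Λ ξ := by
  classical
  have h1 : ∀ g : ℤ, ∃ d : D, d ∈ 𝒟 (-g) ∧ ∀ ξ ∈ ℋ g, β d ξ = Λ ξ := by
    intro g
    obtain ⟨d, hd, hdv⟩ := hD.exists_eq (-g) Λ
    exact ⟨d, hd, fun ξ hξ => hdv ξ (by rw [neg_neg]; exact hξ)⟩
  choose dd hdd hddv using h1
  refine ⟨∑ g ∈ S, dd g, fun ξ => ?_⟩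
  refine DirectSum.Decomposition.inductionOn ℋ
    (motive := fun ξ => β (∑ g ∈ S, dd g) ξ = Λ ξ) ?_ ?_ ?_ ξ
  · rw [map_zero, map_zero]
  · intro g₀ ξg
    rw [map_sum, LinearMap.sum_apply]
    by_cases hg : g₀ ∈ S
    · rw [Finset.sum_eq_single_of_mem g₀ hg]
      · exact hddv g₀ _ ξg.2
      · intro g _ hne
        refine hD.vanish (-g) (dd g) (hdd g) g₀ ?_ _ ξg.2
        intro h
        apply hne
        rw [neg_neg] at h
        exact h.symm
    · rw [hS g₀ hg _ ξg.2]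
      refine Finset.sum_eq_zero (fun g hgS => ?_)
      refine hD.vanish (-g) (dd g) (hdd g) g₀ ?_ _ ξg.2
      intro h
      apply hg
      rw [neg_neg] at h
      rw [h]
      exact hgS
  · intro ξ ξ' h h'
    rw [map_add, map_add, h, h']

end repr

/-! ### The duality map -/

section main

variable {k : Type u} [Field k] {R : Type u} [CommRing R] [Algebra k R]
  {𝒜 : ℤ → AddSubgroup R} [GradedRing 𝒜]
  (a : HomogeneousIdeal 𝒜) (I : GrLC.StarInjRes 𝒜 (selfG 𝒜).gr) (n : ℕ)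
  [Module k (I.H a n)] [IsScalarTower k R (I.H a n)] [DirectSum.Decomposition (I.Hgr a n)]
  {K : Type u} [AddCommGroup K] [Module R K] [Module k K] [IsScalarTower k R K]
  (𝒦 : ℤ → AddSubgroup K) [DirectSum.Decomposition 𝒦]
  (βK : K →ₗ[k] I.H a n →ₗ[k] k)
  {X : GrLC.GMod.{u} 𝒜} (E : GrLC.StarInjRes 𝒜 X.gr)
  [Module k (E.H a n)] [IsScalarTower k R (E.H a n)] [DirectSum.Decomposition (E.Hgr a n)]
  {D : Type u} [AddCommGroup D] [Module R D] [Module k D] [IsScalarTower k R D]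
  (𝒟 : ℤ → AddSubgroup D) [DirectSum.Decomposition 𝒟]
  (βD : D →ₗ[k] E.H a n →ₗ[k] k)

/-- The functional `η ↦ β_D(d)(x ⋆ η)` on `H^n_a(R)`. -/
def lam (d : D) (x : X.carrier) : I.H a n →ₗ[k] k :=
  (βD d) ∘ₗ ((star a I E n x).restrictScalars k)

theorem lam_apply (d : D) (x : X.carrier) (η : I.H a n) :
    lam a I n E βD d x η = βD d (star a I E n x η) := rfl

theorem exists_kappa_homog (hK : GrSeg.IsGDual R (I.Hgr a n) 𝒦 βK)
    (hD : GrSeg.IsGDual R (E.Hgr a n) 𝒟 βD) {j e : ℤ} {d : D} (hd : d ∈ 𝒟 j)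
    {x : X.carrier} (hx : x ∈ X.gr e) :
    ∃ κ ∈ 𝒦 (j + e), ∀ η, βK κ η = βD d (star a I E n x η) := by
  refine exists_repr_homog (I.Hgr a n) 𝒦 βK hK (lam a I n E βD d x) (j + e) ?_
  intro g hg η hη
  rw [lam_apply]
  refine hD.vanish j d hd (g + e) ?_ _ (star_mem_hgr a I E n hx hη)
  intro h
  apply hg
  omega

theorem exists_kappa (hK : GrSeg.IsGDual R (I.Hgr a n) 𝒦 βK)
    (hD : GrSeg.IsGDual R (E.Hgr a n) 𝒟 βD) (d : D) (x : X.carrier) :
    ∃ κ : K, ∀ η, βK κ η = βD d (star a I E n x η) := by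
  refine DirectSum.Decomposition.inductionOn 𝒟
    (motive := fun d => ∀ x, ∃ κ : K, ∀ η, βK κ η = βD d (star a I E n x η)) ?_ ?_ ?_ d x
  · intro x
    exact ⟨0, fun η => by simp only [map_zero, LinearMap.zero_apply]⟩
  · intro j dj x
    refine DirectSum.Decomposition.inductionOn X.gr
      (motive := fun x => ∃ κ : K, ∀ η, βK κ η = βD dj (star a I E n x η)) ?_ ?_ ?_ x
    · exact ⟨0, fun η => by simp only [map_zero, LinearMap.zero_apply]⟩
    · intro e xe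
      obtain ⟨κ, -, hκ⟩ := exists_kappa_homog a I n 𝒦 βK E 𝒟 βD hK hD dj.2 xe.2
      exact ⟨κ, hκ⟩
    · rintro x y ⟨κ, hκ⟩ ⟨κ', hκ'⟩
      exact ⟨κ + κ', fun η => by
        rw [map_add, LinearMap.add_apply, hκ, hκ', map_add, LinearMap.add_apply, map_add]⟩
  · intro d d' h h' x
    obtain ⟨κ, hκ⟩ := h x
    obtain ⟨κ', hκ'⟩ := h' x
    exact ⟨κ + κ', fun η => by
      rw [map_add, LinearMap.add_apply, hκ, hκ', map_add, LinearMap.add_apply]⟩

/-- The element of `K` representing `η ↦ β_D(d)(x ⋆ η)`. -/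
def epsFun (hK : GrSeg.IsGDual R (I.Hgr a n) 𝒦 βK) (hD : GrSeg.IsGDual R (E.Hgr a n) 𝒟 βD)
    (d : D) (x : X.carrier) : K :=
  Classical.choose (exists_kappa a I n 𝒦 βK E 𝒟 βD hK hD d x)

theorem epsFun_spec (hK : GrSeg.IsGDual R (I.Hgr a n) 𝒦 βK)
    (hD : GrSeg.IsGDual R (E.Hgr a n) 𝒟 βD) (d : D) (x : X.carrier) (η : I.H a n) :
    βK (epsFun a I n 𝒦 βK E 𝒟 βD hK hD d x) η = βD d (star a I E n x η) :=
  Classical.choose_spec (exists_kappa a I n 𝒦 βK E 𝒟 βD hK hD d x) η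

theorem eq_of_pair (hK : GrSeg.IsGDual R (I.Hgr a n) 𝒦 βK) (κ κ' : K)
    (h : ∀ η, βK κ η = βK κ' η) : κ = κ' := by
  apply eq_of_sub_eq_zero
  apply sepD' (I.Hgr a n) 𝒦 βK hK
  intro η
  rw [map_sub, LinearMap.sub_apply, h, sub_self]

/-- The duality map `D → Hom_R(X, K)`. -/
def eps (hK : GrSeg.IsGDual R (I.Hgr a n) 𝒦 βK) (hD : GrSeg.IsGDual R (E.Hgr a n) 𝒟 βD) :
    D →ₗ[R] (X.carrier →ₗ[R] K) where
  toFun d :=
    { toFun := epsFun a I n 𝒦 βK E 𝒟 βD hK hD d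
      map_add' := fun x y => eq_of_pair a I n 𝒦 βK hK _ _ (fun η => by
        have e1 : star a I E n (x + y) η = star a I E n x η + star a I E n y η := by
          rw [map_add, LinearMap.add_apply]
        rw [epsFun_spec, e1, map_add, map_add βK, LinearMap.add_apply, epsFun_spec,
          epsFun_spec])
      map_smul' := fun r x => eq_of_pair a I n 𝒦 βK hK _ _ (fun η => by
        have e1 : star a I E n (r • x) η = r • star a I E n x η := by
          rw [map_smul, LinearMap.smul_apply]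
        have e2 : star a I E n x (r • η) = r • star a I E n x η := map_smul _ _ _
        rw [RingHom.id_apply, epsFun_spec, hK.map_smul, epsFun_spec, e1, e2]) }
  map_add' := fun d d' => LinearMap.ext (fun x => eq_of_pair a I n 𝒦 βK hK _ _ (fun η => by
    show βK (epsFun a I n 𝒦 βK E 𝒟 βD hK hD (d + d') x) η =
      βK (epsFun a I n 𝒦 βK E 𝒟 βD hK hD d x + epsFun a I n 𝒦 βK E 𝒟 βD hK hD d' x) η
    rw [epsFun_spec, map_add, LinearMap.add_apply, map_add βK, LinearMap.add_apply,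
      epsFun_spec, epsFun_spec]))
  map_smul' := fun r d => LinearMap.ext (fun x => eq_of_pair a I n 𝒦 βK hK _ _ (fun η => by
    show βK (epsFun a I n 𝒦 βK E 𝒟 βD hK hD (r • d) x) η =
      βK (r • epsFun a I n 𝒦 βK E 𝒟 βD hK hD d x) η
    have e2 : star a I E n x (r • η) = r • star a I E n x η := map_smul _ _ _
    rw [epsFun_spec, hD.map_smul, hK.map_smul, epsFun_spec, e2]))

theorem eps_apply (hK : GrSeg.IsGDual R (I.Hgr a n) 𝒦 βK)
    (hD : GrSeg.IsGDual R (E.Hgr a n) 𝒟 βD) (d : D) (x : X.carrier) :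
    eps a I n 𝒦 βK E 𝒟 βD hK hD d x = epsFun a I n 𝒦 βK E 𝒟 βD hK hD d x := rfl

theorem eps_spec (hK : GrSeg.IsGDual R (I.Hgr a n) 𝒦 βK)
    (hD : GrSeg.IsGDual R (E.Hgr a n) 𝒟 βD) (d : D) (x : X.carrier) (η : I.H a n) :
    βK (eps a I n 𝒦 βK E 𝒟 βD hK hD d x) η = βD d (star a I E n x η) :=
  epsFun_spec a I n 𝒦 βK E 𝒟 βD hK hD d x η

theorem eps_graded (hK : GrSeg.IsGDual R (I.Hgr a n) 𝒦 βK)
    (hD : GrSeg.IsGDual R (E.Hgr a n) 𝒟 βD) {j e : ℤ} {d : D} (hd : d ∈ 𝒟 j)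
    {x : X.carrier} (hx : x ∈ X.gr e) : eps a I n 𝒦 βK E 𝒟 βD hK hD d x ∈ 𝒦 (e + j) := by
  obtain ⟨κ, hκ, hκv⟩ := exists_kappa_homog a I n 𝒦 βK E 𝒟 βD hK hD hd hx
  have h1 : eps a I n 𝒦 βK E 𝒟 βD hK hD d x = κ :=
    eq_of_pair a I n 𝒦 βK hK _ _ (fun η => by rw [hκv, eps_spec])
  rw [h1, add_comm]
  exact hκ

theorem eps_injective (hK : GrSeg.IsGDual R (I.Hgr a n) 𝒦 βK)
    (hD : GrSeg.IsGDual R (E.Hgr a n) 𝒟 βD)
    (hΘ : Function.Surjective (Theta a I n E)) :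
    Function.Injective (eps a I n 𝒦 βK E 𝒟 βD hK hD) := by
  rw [injective_iff_map_eq_zero]
  intro d hd
  apply sepD' (E.Hgr a n) 𝒟 βD hD
  intro ξ
  obtain ⟨t, rfl⟩ := hΘ ξ
  induction t using TensorProduct.induction_on with
  | zero => rw [map_zero, map_zero]
  | tmul x η =>
    rw [Theta_tmul, ← eps_spec a I n 𝒦 βK E 𝒟 βD hK hD d x η, hd, LinearMap.zero_apply,
      map_zero, LinearMap.zero_apply]
  | add t s ht hs => rw [map_add, map_add, ht, hs, add_zero]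

theorem eps_surjective (hK : GrSeg.IsGDual R (I.Hgr a n) 𝒦 βK)
    (hD : GrSeg.IsGDual R (E.Hgr a n) 𝒟 βD) [Module.Finite R X.carrier]
    (hΘ : Function.Bijective (Theta a I n E)) :
    Function.Surjective (eps a I n 𝒦 βK E 𝒟 βD hK hD) := by
  classical
  intro φ
  obtain ⟨m, c, x, hc, hspan⟩ := exists_homog_gens X
  -- the functional on the tensor product
  let f : X.carrier →+ I.H a n →+ k :=
    { toFun := fun y => (βK (φ y)).toAddMonoidHom
      map_zero' := by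
        apply AddMonoidHom.ext
        intro η
        show βK (φ 0) η = 0
        rw [map_zero, map_zero, LinearMap.zero_apply]
      map_add' := fun y y' => by
        apply AddMonoidHom.ext
        intro η
        show βK (φ (y + y')) η = βK (φ y) η + βK (φ y') η
        rw [map_add, map_add, LinearMap.add_apply] }
  have hf : ∀ (r : R) (y : X.carrier) (η : I.H a n), f (r • y) η = f y (r • η) := by
    intro r y η
    show βK (φ (r • y)) η = βK (φ y) (r • η)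
    rw [map_smul, hK.map_smul]
  obtain ⟨Λ₀, hΛ₀⟩ : ∃ Λ₀ : X.carrier ⊗[R] I.H a n →+ k,
      ∀ y η, Λ₀ (y ⊗ₜ[R] η) = βK (φ y) η :=
    ⟨TensorProduct.liftAddHom f hf, fun y η => TensorProduct.liftAddHom_tmul _ _ _ _⟩
  have hΛ₀k : ∀ (c₀ : k) (t : X.carrier ⊗[R] I.H a n),
      Λ₀ (algebraMap k R c₀ • t) = c₀ * Λ₀ t := by
    intro c₀ t
    induction t using TensorProduct.induction_on with
    | zero => rw [smul_zero, map_zero, mul_zero]
    | tmul y η =>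
      rw [TensorProduct.smul_tmul', hΛ₀, hΛ₀, map_smul φ, algebraMap_smul, map_smul βK,
        LinearMap.smul_apply, smul_eq_mul]
    | add t s ht hs => rw [smul_add, map_add, ht, hs, map_add, mul_add]
  obtain ⟨eΘ, heΘ⟩ : ∃ eΘ : (X.carrier ⊗[R] I.H a n) ≃ₗ[R] E.H a n,
      ∀ t, eΘ t = Theta a I n E t :=
    ⟨LinearEquiv.ofBijective (Theta a I n E) hΘ, fun _ => rfl⟩
  obtain ⟨Λ, hΛdef⟩ : ∃ Λ : E.H a n →ₗ[k] k, ∀ ξ, Λ ξ = Λ₀ (eΘ.symm ξ) := by
    refine ⟨{ toFun := fun ξ => Λ₀ (eΘ.symm ξ)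
              map_add' := fun ξ ξ' => by rw [map_add, map_add]
              map_smul' := fun c₀ ξ => ?_ }, fun _ => rfl⟩
    rw [RingHom.id_apply, ← algebraMap_smul R c₀ ξ, map_smul, hΛ₀k, smul_eq_mul]
  have hΛ : ∀ y η, Λ (star a I E n y η) = βK (φ y) η := by
    intro y η
    rw [hΛdef, ← Theta_tmul, ← heΘ, LinearEquiv.symm_apply_apply, hΛ₀]
  -- the finite set of degrees
  obtain ⟨S, hSdef⟩ : ∃ S : Finset ℤ, S = Finset.univ.biUnion (fun b =>
      (DirectSum.decompose 𝒦 (φ (x b))).support.image (fun j => c b - j)) := ⟨_, rfl⟩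
  have hS : ∀ g, g ∉ S → ∀ b, P 𝒦 (c b - g) (φ (x b)) = 0 := by
    intro g hg b
    by_contra hne
    apply hg
    rw [hSdef]
    refine Finset.mem_biUnion.2 ⟨b, Finset.mem_univ _,
      Finset.mem_image.2 ⟨c b - g, ?_, sub_sub_cancel _ _⟩⟩
    rw [DFinsupp.mem_support_toFun]
    intro h0
    apply hne
    show ((DirectSum.decompose 𝒦 (φ (x b))) (c b - g) : K) = 0
    rw [h0]
    rfl
  have hC2 : ∀ g b, P 𝒦 (c b - g) (φ (x b)) = 0 →
      ∀ η' : I.H a n, Λ (P (E.Hgr a n) g (star a I E n (x b) η')) = 0 := by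
    intro g b hb η'
    refine DirectSum.Decomposition.inductionOn (I.Hgr a n)
      (motive := fun η' => Λ (P (E.Hgr a n) g (star a I E n (x b) η')) = 0) ?_ ?_ ?_ η'
    · rw [map_zero, P_zero, map_zero]
    · intro g' ηg
      have hmem := star_mem_hgr a I E n (hc b) ηg.2
      by_cases hgg : g' + c b = g
      · rw [P_of_mem_same (E.Hgr a n) (hgg ▸ hmem), hΛ]
        have h1 := pairD_P' (I.Hgr a n) 𝒦 βK hK (n := -g') (x := (ηg : I.H a n))
          (by rw [neg_neg]; exact ηg.2) (φ (x b))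
        rw [← h1]
        have h2 : -g' = c b - g := by omega
        rw [h2, hb, map_zero, LinearMap.zero_apply]
      · rw [P_of_mem_ne (E.Hgr a n) hmem hgg, map_zero]
    · intro η η'' h h'
      rw [map_add, P_add, map_add, h, h', add_zero]
  have hC1 : ∀ g, g ∉ S → ∀ t : X.carrier ⊗[R] I.H a n,
      Λ (P (E.Hgr a n) g (Theta a I n E t)) = 0 := by
    intro g hg t
    induction t using TensorProduct.induction_on with
    | zero => rw [map_zero, P_zero, map_zero]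
    | tmul y η =>
      obtain ⟨v, hv⟩ := exists_sum_smul_of_span x hspan y
      have h1 : Theta a I n E (y ⊗ₜ[R] η) = ∑ b, star a I E n (x b) (v b • η) := by
        rw [Theta_tmul, hv, map_sum, LinearMap.sum_apply]
        refine Finset.sum_congr rfl (fun b _ => ?_)
        rw [map_smul, LinearMap.smul_apply, map_smul]
      let Φ : E.H a n →+ k :=
        { toFun := fun ξ => Λ (P (E.Hgr a n) g ξ)
          map_zero' := by rw [P_zero, map_zero]
          map_add' := fun ξ ξ' => by rw [P_add, map_add] }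
      show Φ (Theta a I n E (y ⊗ₜ[R] η)) = 0
      rw [h1, map_sum]
      exact Finset.sum_eq_zero (fun b _ => hC2 g b (hS g hg b) (v b • η))
    | add t s ht hs => rw [map_add, P_add, map_add, ht, hs, add_zero]
  have hvan : ∀ g, g ∉ S → ∀ ξ ∈ E.Hgr a n g, Λ ξ = 0 := by
    intro g hg ξ hξ
    obtain ⟨t, rfl⟩ := hΘ.2 ξ
    rw [← P_of_mem_same (E.Hgr a n) hξ]
    exact hC1 g hg t
  obtain ⟨d, hd⟩ := exists_repr_finite (E.Hgr a n) 𝒟 βD hD Λ S hvan
  refine ⟨d, LinearMap.ext (fun y => eq_of_pair a I n 𝒦 βK hK _ _ (fun η => ?_))⟩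
  rw [eps_spec, hd, hΛ]

/-- Graded local duality in the top degree. -/
theorem exists_dual_equiv [IsNoetherianRing R] (hK : GrSeg.IsGDual R (I.Hgr a n) 𝒦 βK)
    (hD : GrSeg.IsGDual R (E.Hgr a n) 𝒟 βD) [Module.Finite R X.carrier]
    (hV : ∀ (Y : GrLC.GMod.{u} 𝒜) (E' : GrLC.StarInjRes 𝒜 Y.gr) (z : (E'.X (n + 1)).carrier),
      z ∈ E'.cocyc a (n + 1) → z ∈ E'.cobdy a (n + 1)) :
    ∃ ε : D ≃ₗ[R] (X.carrier →ₗ[R] K), ∀ (j : ℤ) (d : D), d ∈ 𝒟 j →
      ∀ (e : ℤ) (x : X.carrier), x ∈ X.gr e → ε d x ∈ 𝒦 (e + j) := by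
  have hΘ := Theta_bijective a I n hV X E
  refine ⟨LinearEquiv.ofBijective (eps a I n 𝒦 βK E 𝒟 βD hK hD)
    ⟨eps_injective a I n 𝒦 βK E 𝒟 βD hK hD hΘ.2,
      eps_surjective a I n 𝒦 βK E 𝒟 βD hK hD hΘ⟩, ?_⟩
  intro j d hd e x hx
  exact eps_graded a I n 𝒦 βK E 𝒟 βD hK hD hd hx

end main

end Groth.Agent.Lib.R2H7.GrLocDual
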