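/-
Graded `k`-duals of graded modules (`GrSeg.IsGDual`): functoriality, exactness, uniqueness and
existence.

* `exists_dualMap`: a degree-preserving `R`-linear map `f : H₁ → H₂` has a dual map `D₂ → D₁`.
* `exists_factor`: a dual element vanishing on `ker g` factors through `g` (so the dual of an
  injection is surjective, and the dual of an exact sequence is exact).
* `exists_equiv_of_equiv`: graded duals of isomorphic graded modules are isomorphic.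
* `fdual`: the concrete graded dual (functionals vanishing on almost all pieces), `isGDual_fdual`.
(helper7)
-/
import Mathlib
import Groth.Prelude.Def_GrSeg
import Groth.Agent.Lib.Helper24GrDual3
import Groth.Agent.Lib.R2H7GrLocDual

set_option autoImplicit false
open DirectSum

noncomputable section

namespace Groth.Agent.Lib.R2H7.GrFDual

open Groth.Agent.Lib.Helper24GrDual Groth.Agent.Lib.Helper24GrDual3
  Groth.Agent.Lib.R2H7.GrLocDual

universe u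

/-! ### Projections -/

section proj

variable {k : Type u} [Field k] {H : Type u} [AddCommGroup H] [Module k H]
  (ℋ : ℤ → AddSubgroup H) [DirectSum.Decomposition ℋ]

/-- The pieces are `k`-subspaces. -/
def KStable : Prop := ∀ (c : k) (g : ℤ) (x : H), x ∈ ℋ g → c • x ∈ ℋ g

variable {ℋ}

/-- The `k`-linear projection onto the piece of degree `n`. -/
def Plin (hk : KStable (k := k) ℋ) (n : ℤ) : H →ₗ[k] H where
  toFun := P ℋ n
  map_add' := P_add ℋ n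
  map_smul' c x := by
    refine DirectSum.Decomposition.inductionOn ℋ
      (motive := fun x => P ℋ n (c • x) = (RingHom.id k) c • P ℋ n x) ?_ ?_ ?_ x
    · rw [smul_zero, P_zero, smul_zero]
    · intro j xj
      by_cases hj : j = n
      · subst hj
        rw [P_of_mem_same ℋ (hk c j _ xj.2), P_of_mem_same ℋ xj.2]
        rfl
      · rw [P_of_mem_ne ℋ (hk c j _ xj.2) hj, P_of_mem_ne ℋ xj.2 hj, smul_zero]
    · intro x y hx hy
      rw [smul_add, P_add, hx, hy, P_add, smul_add]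

theorem Plin_apply (hk : KStable (k := k) ℋ) (n : ℤ) (x : H) : Plin hk n x = P ℋ n x := rfl

variable (ℋ)

/-- A functional vanishing on the pieces outside `S` is the sum of its restrictions to the pieces
in `S`. -/
theorem apply_eq_sum (Λ : H →ₗ[k] k) (S : Finset ℤ)
    (hS : ∀ g, g ∉ S → ∀ x ∈ ℋ g, Λ x = 0) (x : H) : Λ x = ∑ g ∈ S, Λ (P ℋ g x) := by
  classical
  refine DirectSum.Decomposition.inductionOn ℋ
    (motive := fun x => Λ x = ∑ g ∈ S, Λ (P ℋ g x)) ?_ ?_ ?_ x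
  · rw [map_zero]
    symm
    apply Finset.sum_eq_zero
    intro g _
    rw [P_zero, map_zero]
  · intro j xj
    by_cases hj : j ∈ S
    · rw [Finset.sum_eq_single j]
      · rw [P_of_mem_same ℋ xj.2]
      · intro g _ hg
        rw [P_of_mem_ne ℋ xj.2 (Ne.symm hg), map_zero]
      · intro h
        exact absurd hj h
    · rw [hS j hj _ xj.2]
      symm
      apply Finset.sum_eq_zero
      intro g hg
      have hne : j ≠ g := fun h => hj (h ▸ hg)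
      rw [P_of_mem_ne ℋ xj.2 hne, map_zero]
  · intro x y hx hy
    rw [map_add, hx, hy, ← Finset.sum_add_distrib]
    refine Finset.sum_congr rfl (fun g _ => ?_)
    rw [P_add, map_add]

/-- Projections commute with degree-preserving additive maps. -/
theorem P_map' {H' : Type u} [AddCommGroup H'] (ℋ' : ℤ → AddSubgroup H')
    [DirectSum.Decomposition ℋ'] {F : Type*} [FunLike F H H'] [AddMonoidHomClass F H H'] (f : F)
    (hf : ∀ (g : ℤ) (x : H), x ∈ ℋ g → f x ∈ ℋ' g)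
    (n : ℤ) (x : H) : P ℋ' n (f x) = f (P ℋ n x) := by
  refine DirectSum.Decomposition.inductionOn ℋ
    (motive := fun x => P ℋ' n (f x) = f (P ℋ n x)) ?_ ?_ ?_ x
  · rw [map_zero, P_zero, P_zero, map_zero]
  · intro j xj
    by_cases hj : j = n
    · subst hj
      rw [P_of_mem_same ℋ' (hf j _ xj.2), P_of_mem_same ℋ xj.2]
    · rw [P_of_mem_ne ℋ' (hf j _ xj.2) hj, P_of_mem_ne ℋ xj.2 hj, map_zero]
  · intro x y hx hy
    rw [map_add, P_add, hx, hy, P_add, map_add]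

end proj

/-! ### Dual maps -/

section dual

variable {k : Type u} [Field k] {R : Type u} [CommRing R] [Algebra k R]
  {H₁ : Type u} [AddCommGroup H₁] [Module R H₁] [Module k H₁] [IsScalarTower k R H₁]
  (ℋ₁ : ℤ → AddSubgroup H₁) [DirectSum.Decomposition ℋ₁]
  {D₁ : Type u} [AddCommGroup D₁] [Module R D₁] [Module k D₁] [IsScalarTower k R D₁]
  (𝒟₁ : ℤ → AddSubgroup D₁) [DirectSum.Decomposition 𝒟₁]
  (β₁ : D₁ →ₗ[k] H₁ →ₗ[k] k)
  {H₂ : Type u} [AddCommGroup H₂] [Module R H₂] [Module k H₂] [IsScalarTower k R H₂]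
  (ℋ₂ : ℤ → AddSubgroup H₂) [DirectSum.Decomposition ℋ₂]
  {D₂ : Type u} [AddCommGroup D₂] [Module R D₂] [Module k D₂] [IsScalarTower k R D₂]
  (𝒟₂ : ℤ → AddSubgroup D₂) [DirectSum.Decomposition 𝒟₂]
  (β₂ : D₂ →ₗ[k] H₂ →ₗ[k] k)

/-- The functional attached to an element of a graded dual vanishes on almost all pieces. -/
theorem exists_finset_vanish (hD : GrSeg.IsGDual R ℋ₁ 𝒟₁ β₁) (d : D₁) :
    ∃ S : Finset ℤ, ∀ g, g ∉ S → ∀ x ∈ ℋ₁ g, β₁ d x = 0 := by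
  classical
  refine ⟨(DirectSum.decompose 𝒟₁ d).support.image Neg.neg, fun g hg x hx => ?_⟩
  have hd := (DirectSum.sum_support_decompose 𝒟₁ d).symm
  rw [hd, map_sum, LinearMap.sum_apply]
  apply Finset.sum_eq_zero
  intro j hj
  refine hD.vanish j _ (SetLike.coe_mem _) g ?_ x hx
  intro hgj
  apply hg
  rw [Finset.mem_image]
  exact ⟨j, hj, hgj.symm⟩

/-- The dual of a degree-preserving linear map. -/
theorem exists_dualMap (hD₁ : GrSeg.IsGDual R ℋ₁ 𝒟₁ β₁) (hD₂ : GrSeg.IsGDual R ℋ₂ 𝒟₂ β₂)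
    (f : H₁ →ₗ[R] H₂) (hf : ∀ (g : ℤ) (x : H₁), x ∈ ℋ₁ g → f x ∈ ℋ₂ g) :
    ∃ F : D₂ →ₗ[R] D₁, ∀ d x, β₁ (F d) x = β₂ d (f x) := by
  classical
  have hex : ∀ d : D₂, ∃ d₁ : D₁, ∀ x, β₁ d₁ x = β₂ d (f x) := by
    intro d
    obtain ⟨S, hS⟩ := exists_finset_vanish ℋ₂ 𝒟₂ β₂ hD₂ d
    obtain ⟨d₁, hd₁⟩ := exists_repr_finite ℋ₁ 𝒟₁ β₁ hD₁ ((β₂ d) ∘ₗ (f.restrictScalars k)) S
      (fun g hg x hx => hS g hg (f x) (hf g x hx))
    exact ⟨d₁, fun x => hd₁ x⟩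
  choose F hF using hex
  refine ⟨{ toFun := F, map_add' := fun d d' => ?_, map_smul' := fun r d => ?_ }, hF⟩
  · apply eq_of_sub_eq_zero
    apply sepD' ℋ₁ 𝒟₁ β₁ hD₁
    intro x
    rw [map_sub, LinearMap.sub_apply, map_add, LinearMap.add_apply, hF, hF, hF, map_add,
      LinearMap.add_apply, sub_self]
  · apply eq_of_sub_eq_zero
    apply sepD' ℋ₁ 𝒟₁ β₁ hD₁
    intro x
    rw [RingHom.id_apply, map_sub, LinearMap.sub_apply, hF, hD₁.map_smul, hF, hD₂.map_smul,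
      f.map_smul, sub_self]

/-- An element of the dual of `H₁` which vanishes on the kernel of a degree-preserving map
`g : H₁ → H₂` factors through `g`. -/
theorem exists_factor (hD₁ : GrSeg.IsGDual R ℋ₁ 𝒟₁ β₁) (hD₂ : GrSeg.IsGDual R ℋ₂ 𝒟₂ β₂)
    (hk₂ : KStable (k := k) ℋ₂)
    (g : H₁ →ₗ[R] H₂) (hg : ∀ (j : ℤ) (x : H₁), x ∈ ℋ₁ j → g x ∈ ℋ₂ j)
    (d₁ : D₁) (hv : ∀ z : H₁, g z = 0 → β₁ d₁ z = 0) :
    ∃ d₂ : D₂, ∀ x, β₂ d₂ (g x) = β₁ d₁ x := by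
  classical
  obtain ⟨S, hS⟩ := exists_finset_vanish ℋ₁ 𝒟₁ β₁ hD₁ d₁
  -- a `k`-linear functional `μ` on `H₂` with `μ ∘ g = β₁ d₁`
  obtain ⟨s, hs⟩ := LinearMap.exists_rightInverse_of_surjective
    (g.restrictScalars k).rangeRestrict (LinearMap.range_rangeRestrict _)
  have hs' : ∀ y : LinearMap.range (g.restrictScalars k), g (s y) = y.1 := by
    intro y
    have := LinearMap.congr_fun hs y
    exact congrArg Subtype.val this
  obtain ⟨μ, hμ⟩ := LinearMap.exists_extend ((β₁ d₁) ∘ₗ s)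
  have hμg : ∀ x, μ (g x) = β₁ d₁ x := by
    intro x
    have h1 := LinearMap.congr_fun hμ ⟨g x, ⟨x, rfl⟩⟩
    have h2 : μ (g x) = β₁ d₁ (s ⟨g x, ⟨x, rfl⟩⟩) := h1
    rw [h2]
    have h3 : g (s ⟨g x, ⟨x, rfl⟩⟩ - x) = 0 := by
      rw [map_sub, hs', sub_self]
    have h4 := hv _ h3
    rw [map_sub, sub_eq_zero] at h4
    exact h4
  -- cut `μ` down to the degrees in `S`
  have hvan : ∀ j, j ∉ S → ∀ ξ ∈ ℋ₂ j, (∑ i ∈ S, μ ∘ₗ Plin hk₂ i) ξ = 0 := by
    intro j hj ξ hξ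
    rw [LinearMap.sum_apply]
    apply Finset.sum_eq_zero
    intro i hi
    have hne : j ≠ i := fun h => hj (h ▸ hi)
    rw [LinearMap.comp_apply, Plin_apply, P_of_mem_ne ℋ₂ hξ hne, map_zero]
  obtain ⟨d₂, hd₂⟩ := exists_repr_finite ℋ₂ 𝒟₂ β₂ hD₂ (∑ i ∈ S, μ ∘ₗ Plin hk₂ i) S hvan
  refine ⟨d₂, fun x => ?_⟩
  rw [hd₂, LinearMap.sum_apply, apply_eq_sum ℋ₁ (β₁ d₁) S hS x]
  refine Finset.sum_congr rfl (fun i _ => ?_)
  rw [LinearMap.comp_apply, Plin_apply, P_map' ℋ₁ ℋ₂ g hg i x]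
  exact hμg _

/-- Graded duals of isomorphic graded modules are isomorphic. -/
theorem exists_equiv_of_equiv (hD₁ : GrSeg.IsGDual R ℋ₁ 𝒟₁ β₁) (hD₂ : GrSeg.IsGDual R ℋ₂ 𝒟₂ β₂)
    (e : H₁ ≃ₗ[R] H₂) (he : ∀ (g : ℤ) (x : H₁), x ∈ ℋ₁ g → e x ∈ ℋ₂ g)
    (he' : ∀ (g : ℤ) (y : H₂), y ∈ ℋ₂ g → e.symm y ∈ ℋ₁ g) :
    ∃ F : D₂ ≃ₗ[R] D₁, ∀ d x, β₁ (F d) x = β₂ d (e x) := by
  obtain ⟨F, hF⟩ := exists_dualMap ℋ₁ 𝒟₁ β₁ ℋ₂ 𝒟₂ β₂ hD₁ hD₂ e.toLinearMap he
  obtain ⟨G, hG⟩ := exists_dualMap ℋ₂ 𝒟₂ β₂ ℋ₁ 𝒟₁ β₁ hD₂ hD₁ e.symm.toLinearMap he'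
  refine ⟨LinearEquiv.ofLinear F G ?_ ?_, hF⟩
  · apply LinearMap.ext
    intro d
    apply eq_of_sub_eq_zero
    apply sepD' ℋ₁ 𝒟₁ β₁ hD₁
    intro x
    rw [map_sub, LinearMap.sub_apply, LinearMap.comp_apply, hF, hG, LinearMap.id_apply]
    show β₁ d (e.symm (e x)) - β₁ d x = 0
    rw [e.symm_apply_apply, sub_self]
  · apply LinearMap.ext
    intro d
    apply eq_of_sub_eq_zero
    apply sepD' ℋ₂ 𝒟₂ β₂ hD₂
    intro y
    rw [map_sub, LinearMap.sub_apply, LinearMap.comp_apply, hG, hF, LinearMap.id_apply]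
    show β₂ d (e (e.symm y)) - β₂ d y = 0
    rw [e.apply_symm_apply, sub_self]

end dual

end Groth.Agent.Lib.R2H7.GrFDual
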