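/-
Existence of graded `k`-duals: for a graded module `H` (pieces `ℋ`, stable under `k`) over a
graded ring `R ⊇ k`, the functionals `H → k` vanishing on almost all pieces form a graded
`R`-module `fdual` which is a graded `k`-dual of `H` (`isGDual_fdual`).  (helper7)
-/
import Mathlib
import Groth.Agent.Lib.R2H7GrFDual

set_option autoImplicit false
open DirectSum

noncomputable section

namespace Groth.Agent.Lib.R2H7.GrFDual

open Groth.Agent.Lib.Helper24GrDual Groth.Agent.Lib.Helper24GrDual3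

universe u

/-- The `k`-dual of `H`, as a type synonym carrying the `R`-action through the source. -/
def KD (k : Type u) [Field k] (H : Type u) [AddCommGroup H] [Module k H] : Type u := H →ₗ[k] k

namespace KD

variable {k : Type u} [Field k] {H : Type u} [AddCommGroup H] [Module k H]

instance : AddCommGroup (KD k H) := inferInstanceAs (AddCommGroup (H →ₗ[k] k))

/-- The underlying functional. -/
def toLin (Λ : KD k H) : H →ₗ[k] k := Λ

/-- A functional as an element of the dual. -/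
def ofLin (Λ : H →ₗ[k] k) : KD k H := Λ

@[simp] theorem toLin_ofLin (Λ : H →ₗ[k] k) : (ofLin Λ).toLin = Λ := rfl

theorem ext {Λ Λ' : KD k H} (h : ∀ x, Λ.toLin x = Λ'.toLin x) : Λ = Λ' := LinearMap.ext h

theorem add_apply (Λ Λ' : KD k H) (x : H) : (Λ + Λ').toLin x = Λ.toLin x + Λ'.toLin x := rfl

theorem zero_apply (x : H) : (0 : KD k H).toLin x = 0 := rfl

theorem neg_apply (Λ : KD k H) (x : H) : (-Λ).toLin x = -Λ.toLin x := rfl

variable {R : Type u} [CommRing R] [Algebra k R] [Module R H] [IsScalarTower k R H]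

/-- Multiplication by `r`, as a `k`-linear map. -/
def rmul (r : R) : H →ₗ[k] H := (LinearMap.lsmul R H r).restrictScalars k

theorem rmul_apply (r : R) (x : H) : rmul (k := k) r x = r • x := rfl

instance : SMul R (KD k H) := ⟨fun r Λ => ofLin (Λ.toLin ∘ₗ rmul r)⟩

theorem smul_apply (r : R) (Λ : KD k H) (x : H) : (r • Λ).toLin x = Λ.toLin (r • x) := rfl

instance : Module R (KD k H) where
  one_smul Λ := ext fun x => by rw [smul_apply, one_smul]
  mul_smul r s Λ := ext fun x => by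
    rw [smul_apply, smul_apply, smul_apply, mul_comm, mul_smul]
  smul_zero r := ext fun x => by rw [smul_apply, zero_apply, zero_apply]
  smul_add r Λ Λ' := ext fun x => by
    rw [smul_apply, add_apply, add_apply, smul_apply, smul_apply]
  add_smul r s Λ := ext fun x => by
    rw [smul_apply, add_apply, smul_apply, smul_apply, add_smul, map_add]
  zero_smul Λ := ext fun x => by rw [smul_apply, zero_smul, map_zero, zero_apply]

end KD

open KD

section fdual

variable (k : Type u) [Field k] {R : Type u} [CommRing R] [Algebra k R]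
  (𝒜 : ℤ → AddSubgroup R) [GradedRing 𝒜]
  {H : Type u} [AddCommGroup H] [Module R H] [Module k H] [IsScalarTower k R H]
  (ℋ : ℤ → AddSubgroup H) [DirectSum.Decomposition ℋ] [SetLike.GradedSMul 𝒜 ℋ]

/-- The functionals vanishing on almost all pieces. -/
def fdual : Submodule R (KD k H) where
  carrier := {Λ | ∃ S : Finset ℤ, ∀ g, g ∉ S → ∀ x ∈ ℋ g, Λ.toLin x = 0}
  zero_mem' := ⟨∅, fun g _ x _ => rfl⟩
  add_mem' := by
    classical
    rintro Λ Λ' ⟨S, hS⟩ ⟨S', hS'⟩
    refine ⟨S ∪ S', fun g hg x hx => ?_⟩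
    rw [KD.add_apply, hS g (fun h => hg (Finset.mem_union_left _ h)) x hx,
      hS' g (fun h => hg (Finset.mem_union_right _ h)) x hx, add_zero]
  smul_mem' := by
    classical
    rintro r Λ ⟨S, hS⟩
    refine ⟨(S ×ˢ (decompose 𝒜 r).support).image (fun p => p.1 - p.2), fun g hg x hx => ?_⟩
    rw [KD.smul_apply]
    have hr : r = ∑ i ∈ (decompose 𝒜 r).support, ((decompose 𝒜 r) i : R) :=
      (DirectSum.sum_support_decompose 𝒜 r).symm
    have hrx : r • x = ∑ i ∈ (decompose 𝒜 r).support, ((decompose 𝒜 r) i : R) • x := by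
      conv_lhs => rw [hr]
      rw [Finset.sum_smul]
    rw [hrx, map_sum]
    apply Finset.sum_eq_zero
    intro i hi
    have hmem : ((decompose 𝒜 r) i : R) • x ∈ ℋ (i + g) :=
      SetLike.GradedSMul.smul_mem (A := 𝒜) (B := ℋ) (i := i) (j := g)
        (SetLike.coe_mem ((decompose 𝒜 r) i)) hx
    refine hS (i + g) ?_ _ hmem
    intro hmemS
    apply hg
    rw [Finset.mem_image]
    exact ⟨(i + g, i), Finset.mem_product.mpr ⟨hmemS, hi⟩, by simp⟩

theorem mem_fdual {Λ : KD k H} :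
    Λ ∈ fdual k 𝒜 ℋ ↔ ∃ S : Finset ℤ, ∀ g, g ∉ S → ∀ x ∈ ℋ g, Λ.toLin x = 0 := Iff.rfl

instance : Module k ↥(fdual k 𝒜 ℋ) := Module.compHom _ (algebraMap k R)

instance : IsScalarTower k R ↥(fdual k 𝒜 ℋ) :=
  IsScalarTower.of_algebraMap_smul (fun _ _ => rfl)

/-- The pieces of the graded dual. -/
def fgr (j : ℤ) : AddSubgroup ↥(fdual k 𝒜 ℋ) where
  carrier := {Λ | ∀ g, g ≠ -j → ∀ x ∈ ℋ g, Λ.1.toLin x = 0}
  zero_mem' := fun g _ x _ => rfl
  add_mem' := by
    intro Λ Λ' h h' g hg x hx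
    show (Λ.1 + Λ'.1).toLin x = 0
    rw [KD.add_apply, h g hg x hx, h' g hg x hx, add_zero]
  neg_mem' := by
    intro Λ h g hg x hx
    show (-Λ.1).toLin x = 0
    rw [KD.neg_apply, h g hg x hx, neg_zero]

theorem mem_fgr {j : ℤ} {Λ : ↥(fdual k 𝒜 ℋ)} :
    Λ ∈ fgr k 𝒜 ℋ j ↔ ∀ g, g ≠ -j → ∀ x ∈ ℋ g, Λ.1.toLin x = 0 := Iff.rfl

/-- The pairing of the graded dual. -/
def fpair : ↥(fdual k 𝒜 ℋ) →ₗ[k] H →ₗ[k] k where
  toFun Λ := Λ.1.toLin
  map_add' _ _ := rfl
  map_smul' c Λ := by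
    apply LinearMap.ext
    intro x
    show Λ.1.toLin (algebraMap k R c • x) = c • Λ.1.toLin x
    rw [algebraMap_smul, map_smul]

theorem fpair_apply (Λ : ↥(fdual k 𝒜 ℋ)) (x : H) : fpair k 𝒜 ℋ Λ x = Λ.1.toLin x := rfl

variable {k 𝒜 ℋ}
variable (hk : KStable (k := k) ℋ)

/-- The component of a functional on the piece of degree `g`. -/
def cmp (g : ℤ) (Λ : ↥(fdual k 𝒜 ℋ)) : ↥(fdual k 𝒜 ℋ) :=
  ⟨KD.ofLin (Λ.1.toLin ∘ₗ Plin hk g), by
    classical
    refine ⟨{g}, fun g' hg' x hx => ?_⟩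
    have hne : g' ≠ g := fun h => hg' (by rw [h]; exact Finset.mem_singleton_self g)
    rw [KD.toLin_ofLin, LinearMap.comp_apply, Plin_apply, P_of_mem_ne ℋ hx hne, map_zero]⟩

theorem cmp_apply (g : ℤ) (Λ : ↥(fdual k 𝒜 ℋ)) (x : H) :
    (cmp hk g Λ).1.toLin x = Λ.1.toLin (P ℋ g x) := rfl

theorem cmp_mem (g : ℤ) (Λ : ↥(fdual k 𝒜 ℋ)) : cmp hk g Λ ∈ fgr k 𝒜 ℋ (-g) := by
  intro g' hg' x hx
  rw [neg_neg] at hg'
  rw [cmp_apply, P_of_mem_ne ℋ hx hg', map_zero]

theorem cmp_add (g : ℤ) (Λ Λ' : ↥(fdual k 𝒜 ℋ)) :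
    cmp hk g (Λ + Λ') = cmp hk g Λ + cmp hk g Λ' := by
  apply Subtype.ext
  apply KD.ext
  intro x
  rfl

theorem cmp_zero (g : ℤ) : cmp hk g (0 : ↥(fdual k 𝒜 ℋ)) = 0 := by
  apply Subtype.ext
  apply KD.ext
  intro x
  rfl

theorem cmp_of_mem_same {j : ℤ} {Λ : ↥(fdual k 𝒜 ℋ)} (hΛ : Λ ∈ fgr k 𝒜 ℋ j) :
    cmp hk (-j) Λ = Λ := by
  classical
  apply Subtype.ext
  apply KD.ext
  intro x
  rw [cmp_apply]
  have h1 := apply_eq_sum ℋ Λ.1.toLin {-j} (fun g hg y hy => hΛ g (fun h => hg (by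
    rw [h]; exact Finset.mem_singleton_self _)) y hy) x
  rw [Finset.sum_singleton] at h1
  exact h1.symm

theorem cmp_of_mem_ne {j i : ℤ} {Λ : ↥(fdual k 𝒜 ℋ)} (hΛ : Λ ∈ fgr k 𝒜 ℋ j) (hji : j ≠ i) :
    cmp hk (-i) Λ = 0 := by
  apply Subtype.ext
  apply KD.ext
  intro x
  rw [cmp_apply]
  exact hΛ (-i) (fun h => hji (neg_injective h).symm) _ (P_mem ℋ (-i) x)

theorem cmp_coe (y : ⨁ j, fgr k 𝒜 ℋ j) (i : ℤ) :
    cmp hk (-i) (DirectSum.coeAddMonoidHom (fgr k 𝒜 ℋ) y) = ((y i : ↥(fgr k 𝒜 ℋ i)) :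
      ↥(fdual k 𝒜 ℋ)) := by
  induction y using DirectSum.induction_on with
  | zero =>
    rw [map_zero, cmp_zero]
    rfl
  | of j z =>
    rw [DirectSum.coeAddMonoidHom_of]
    by_cases hji : j = i
    · subst hji
      rw [cmp_of_mem_same hk z.2, DirectSum.of_eq_same]
    · rw [cmp_of_mem_ne hk z.2 hji, DirectSum.of_eq_of_ne _ _ _ (Ne.symm hji)]
      rfl
  | add y y' h h' =>
    rw [map_add, cmp_add, h, h', DirectSum.add_apply]
    rfl

include hk in
theorem isInternal_fgr : DirectSum.IsInternal (fgr k 𝒜 ℋ) := by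
  classical
  constructor
  · intro y y' hyy
    apply DFinsupp.ext
    intro i
    apply Subtype.ext
    have h1 := cmp_coe hk y i
    have h2 := cmp_coe hk y' i
    rw [hyy] at h1
    exact h1.symm.trans h2
  · intro Λ
    obtain ⟨S, hS⟩ := Λ.2
    refine ⟨∑ g ∈ S, DirectSum.of (fun j => fgr k 𝒜 ℋ j) (-g) ⟨cmp hk g Λ, cmp_mem hk g Λ⟩, ?_⟩
    rw [map_sum]
    simp only [DirectSum.coeAddMonoidHom_of]
    apply Subtype.ext
    apply KD.ext
    intro x
    rw [apply_eq_sum ℋ Λ.1.toLin S hS x]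
    have h1 : ∀ (T : Finset ℤ), ((∑ g ∈ T, cmp hk g Λ : ↥(fdual k 𝒜 ℋ)) : KD k H).toLin x =
        ∑ g ∈ T, Λ.1.toLin (P ℋ g x) := by
      intro T
      induction T using Finset.induction_on with
      | empty => rfl
      | insert a T ha ih =>
        rw [Finset.sum_insert ha, Finset.sum_insert ha, Submodule.coe_add, KD.add_apply, ih,
          cmp_apply]
    exact h1 S

/-- The decomposition of the graded dual. -/
@[instance_reducible]
def fdualDecomposition : DirectSum.Decomposition (fgr k 𝒜 ℋ) :=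
  (isInternal_fgr hk).chooseDecomposition

/-- The functionals vanishing on almost all pieces form a graded dual. -/
theorem isGDual_fdual :
    letI := fdualDecomposition (k := k) (𝒜 := 𝒜) (ℋ := ℋ) hk
    GrSeg.IsGDual R ℋ (fgr k 𝒜 ℋ) (fpair k 𝒜 ℋ) := by
  letI := fdualDecomposition (k := k) (𝒜 := 𝒜) (ℋ := ℋ) hk
  refine { map_smul := fun r d x => rfl, vanish := ?_, eq_zero := ?_, exists_eq := ?_ }
  · intro n d hd g hg x hx
    exact hd g hg x hx
  · intro n d hd hv
    apply Subtype.ext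
    apply KD.ext
    intro x
    refine DirectSum.Decomposition.inductionOn ℋ
      (motive := fun x => d.1.toLin x = (0 : KD k H).toLin x) ?_ ?_ ?_ x
    · rw [map_zero, map_zero]
    · intro g xg
      by_cases hg : g = -n
      · exact hv _ (hg ▸ xg.2)
      · exact hd g hg _ xg.2
    · intro x y hx hy
      rw [map_add, hx, hy, map_add]
  · intro n g
    classical
    refine ⟨⟨KD.ofLin (g ∘ₗ Plin hk (-n)), ⟨{-n}, fun g' hg' x hx => ?_⟩⟩, ?_, ?_⟩
    · have hne : g' ≠ -n := fun h => hg' (by rw [h]; exact Finset.mem_singleton_self _)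
      rw [KD.toLin_ofLin, LinearMap.comp_apply, Plin_apply, P_of_mem_ne ℋ hx hne, map_zero]
    · intro g' hg' x hx
      show (g ∘ₗ Plin hk (-n)) x = 0
      rw [LinearMap.comp_apply, Plin_apply, P_of_mem_ne ℋ hx hg', map_zero]
    · intro x hx
      show (g ∘ₗ Plin hk (-n)) x = g x
      rw [LinearMap.comp_apply, Plin_apply, P_of_mem_same ℋ hx]

end fdual

end Groth.Agent.Lib.R2H7.GrFDual
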