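/-
Complements to the long exact sequence of graded local cohomology on whole modules
(`R2H7GrAcycW`, `R2H7GrFun`): exactness at `H^{i+1}_a(X')` (`inl_deltaW`, `exists_deltaW_eq`), the
inverse of a bijective homogeneous map of graded groups is homogeneous (`symm_mem`), and the
vanishing `H^i_m(F) = 0`, `i < dim R`, for a graded free module of finite rank over a
Cohen-Macaulay *local ring (`vanW_free_of_lt`).  (helper7)
-/
import Mathlib
import Groth.Agent.Lib.R2H7GrAcycW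
import Groth.Agent.Lib.R2H7GrAinv
import Groth.Agent.Lib.R2H7GrFDual

set_option autoImplicit false
open DirectSum

noncomputable section

namespace Groth.Agent.Lib.R2H7.GrLDLes

open Groth.Agent.Lib.Helper29GrCompare Groth.Agent.Lib.Helper29GrHom
  Groth.Agent.Lib.Helper29GrGam Groth.Agent.Lib.R2H7.GrDer Groth.Agent.Lib.R2H7.GrOps
  Groth.Agent.Lib.R2H7.GrLES Groth.Agent.Lib.R2H7.GrFun Groth.Agent.Lib.R2H7.GrAcycW
  Groth.Agent.Lib.R2H7.GrFree Groth.Agent.Lib.Helper24GrDual Groth.Agent.Lib.Helper24GrDual3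

universe u

/-! ### Inverse of a homogeneous bijection -/

/-- The inverse of a bijective homogeneous additive map between graded groups is homogeneous. -/
theorem symm_mem {M N : Type u} [AddCommGroup M] [AddCommGroup N]
    (ℳ : ℤ → AddSubgroup M) [DirectSum.Decomposition ℳ] (𝒩 : ℤ → AddSubgroup N)
    [DirectSum.Decomposition 𝒩] (e : M ≃+ N) (he : ∀ (g : ℤ) (x : M), x ∈ ℳ g → e x ∈ 𝒩 g)
    (g : ℤ) (y : N) (hy : y ∈ 𝒩 g) : e.symm y ∈ ℳ g := by
  have h1 := Groth.Agent.Lib.R2H7.GrFDual.P_map' ℳ 𝒩 e he g (e.symm y)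
  rw [e.apply_symm_apply, P_of_mem_same 𝒩 hy] at h1
  have h2 : e.symm y = P ℳ g (e.symm y) := by
    apply e.injective
    rw [e.apply_symm_apply]
    exact h1
  rw [h2]
  exact P_mem ℳ g _

section les

variable {ι : Type} [AddCommGroup ι] [DecidableEq ι]
variable {R : Type u} [CommRing R] {𝒜 : ι → AddSubgroup R} [GradedRing 𝒜]
variable (a : HomogeneousIdeal 𝒜)
variable {X' X X'' : GrLC.GMod.{u} 𝒜} {S : GSES X' X X''}
  {E' : GrLC.StarInjRes 𝒜 X'.gr} {E'' : GrLC.StarInjRes 𝒜 X''.gr} (D : HData S E' E'')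

/-- The composite `H^i_a(X'') → H^{i+1}_a(X') → H^{i+1}_a(X)` vanishes. -/
theorem inl_deltaW (i : ℕ) (ξ : E''.H a i) :
    mapHW a (horseInl D) (i + 1) (deltaW a D i ξ) = 0 := by
  obtain ⟨q, rfl⟩ := Submodule.Quotient.mk_surjective _ ξ
  rw [deltaW_mk, mapHW_mk]
  refine (Submodule.Quotient.mk_eq_zero _).mpr ?_
  show ((D.τ i q.1, 0) : (E'.X (i + 1)).carrier × (E''.X (i + 1)).carrier) ∈
    (horse D).cobdy a (i + 1)
  refine ⟨((0, q.1) : (E'.X i).carrier × (E''.X i).carrier),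
    (mem_gam_prod (X := E'.X i) (Y := E''.X i) a.toIdeal).mpr ⟨zero_mem _, q.2.1⟩, ?_⟩
  show hd D i (0, q.1) = _
  rw [hd_apply]
  apply Prod.ext
  · show E'.d i 0 + D.τ i q.1 = D.τ i q.1
    rw [map_zero, zero_add]
  · show E''.d i q.1 = 0
    exact q.2.2

/-- Exactness at `H^{i+1}_a(X')`: a class dying in `H^{i+1}_a(X)` is in the image of the
connecting map. -/
theorem exists_deltaW_eq (i : ℕ) (ξ : E'.H a (i + 1))
    (h : mapHW a (horseInl D) (i + 1) ξ = 0) : ∃ η : E''.H a i, deltaW a D i η = ξ := by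
  obtain ⟨p, rfl⟩ := Submodule.Quotient.mk_surjective _ ξ
  rw [mapHW_mk] at h
  have h0 := (Submodule.Quotient.mk_eq_zero _).mp h
  have h1 : ((p.1, 0) : (E'.X (i + 1)).carrier × (E''.X (i + 1)).carrier) ∈
      (horse D).cobdy a (i + 1) := h0
  obtain ⟨w, hwg, hwe⟩ := h1
  have hwe' : hd D i w = ((p.1, 0) : (E'.X (i + 1)).carrier × (E''.X (i + 1)).carrier) := hwe
  rw [hd_apply, Prod.mk.injEq] at hwe'
  obtain ⟨h1, h2⟩ := hwe'
  have hwg' := (mem_gam_prod (X := E'.X i) (Y := E''.X i) a.toIdeal).mp hwg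
  have hw2 : w.2 ∈ E''.cocyc a i := ⟨hwg'.2, h2⟩
  refine ⟨Submodule.Quotient.mk ⟨w.2, hw2⟩, ?_⟩
  rw [deltaW_mk]
  refine (Submodule.Quotient.eq _).mpr ?_
  show D.τ i w.2 - p.1 ∈ E'.cobdy a (i + 1)
  refine ⟨-w.1, neg_mem hwg'.1, ?_⟩
  show E'.d i (-w.1) = D.τ i w.2 - p.1
  rw [map_neg, ← h1]
  abel

end les

/-! ### Cohen-Macaulay vanishing for free modules -/

section cm

variable {R : Type u} [CommRing R] {𝒜 : ℤ → AddSubgroup R} [GradedRing 𝒜]

theorem vanW_free_of_lt [LocCoh.IsCohenMacaulayRing R] (hpos : ∀ n : ℤ, n < 0 → 𝒜 n = ⊥)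
    (m : HomogeneousIdeal 𝒜) (hm : GrLC.IsStarLocal 𝒜 m) (n : ℕ)
    (hn : ringKrullDim R = (n : WithBot ℕ∞)) {r : ℕ} (c : Fin r → ℤ)
    (E : GrLC.StarInjRes 𝒜 (freeG 𝒜 c).gr) (i : ℕ) (hi : i < n)
    (z : (E.X i).carrier) (hz : z ∈ E.cocyc m i) : z ∈ E.cobdy m i := by
  refine vanW_of_vanX m E i (fun g => ?_) z hz
  exact vanX_free 𝒜 m i r c g
    (fun b => Groth.Agent.Lib.R2H7.GrAinv.vanX_of_lt_dim hpos m hm n hn i hi _)

end cm

end Groth.Agent.Lib.R2H7.GrLDLes
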