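/-
Graded local duality in all degrees over a Cohen-Macaulay *local graded ring `R` containing a
field `k` in degree `0`: if `K` is a graded `k`-dual of the top local cohomology `H^n_m(R)`
(`n = dim R`), then for every finitely generated graded module `N` and `i + d = n`,
`Ext^d_R(N, K)` is isomorphic to the graded `k`-dual of `H^i_m(N)` (`local_duality`).
The proof is the universal `δ`-functor argument: degree `0` is `R2H7GrLocDual`, the step from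
`0` to `1` uses the naturality of the duality map, the higher steps are dimension shifting along
a graded free cover.  (helper7)
-/
import Mathlib
import Groth.Agent.Lib.R2H7GrLocDual
import Groth.Agent.Lib.R2H7GrFDualEx
import Groth.Agent.Lib.R2H7GrLDLes
import Groth.Agent.Lib.R2H7GrLDExt
import Groth.Agent.Lib.R2H7GrCanFin

set_option autoImplicit false
open DirectSum CategoryTheory CategoryTheory.Abelian

noncomputable section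

namespace Groth.Agent.Lib.R2H7.GrLDual

open Groth.Agent.Lib.Helper29GrCompare Groth.Agent.Lib.Helper29GrHom
  Groth.Agent.Lib.R2H7.GrDer Groth.Agent.Lib.R2H7.GrOps
  Groth.Agent.Lib.R2H7.GrLES Groth.Agent.Lib.R2H7.GrFun Groth.Agent.Lib.R2H7.GrAcycW
  Groth.Agent.Lib.R2H7.GrFree Groth.Agent.Lib.R2H7.GrStar Groth.Agent.Lib.R2H7.GrLocDual
  Groth.Agent.Lib.R2H7.GrFDual Groth.Agent.Lib.R2H7.GrLDLes Groth.Agent.Lib.R2H7.GrLDExt
  Groth.Agent.Lib.Helper24GrDual Groth.Agent.Lib.Helper24GrDual3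

universe u

/-! ### The dual of a left exact sequence -/

section abstract

variable {k : Type u} [Field k] {R : Type u} [CommRing R] [Algebra k R]
  {H₁ : Type u} [AddCommGroup H₁] [Module R H₁] [Module k H₁] [IsScalarTower k R H₁]
  (ℋ₁ : ℤ → AddSubgroup H₁) [DirectSum.Decomposition ℋ₁]
  {D₁ : Type u} [AddCommGroup D₁] [Module R D₁] [Module k D₁] [IsScalarTower k R D₁]
  (𝒟₁ : ℤ → AddSubgroup D₁) [DirectSum.Decomposition 𝒟₁]
  (β₁ : D₁ →ₗ[k] H₁ →ₗ[k] k)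
  {H₂ : Type u} [AddCommGroup H₂] [Module R H₂] [Module k H₂] [IsScalarTower k R H₂]
  (ℋ₂ : ℤ → AddSubgroup H₂) [DirectSum.Decomposition ℋ₂]
  {D₂ : Type u} [AddCommGroup D₂] [Module R D₂] [Module k D₂] [IsScalarTower k R D₂]
  (𝒟₂ : ℤ → AddSubgroup D₂) [DirectSum.Decomposition 𝒟₂]
  (β₂ : D₂ →ₗ[k] H₂ →ₗ[k] k)
  {H₃ : Type u} [AddCommGroup H₃] [Module R H₃] [Module k H₃] [IsScalarTower k R H₃]
  (ℋ₃ : ℤ → AddSubgroup H₃) [DirectSum.Decomposition ℋ₃]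
  {D₃ : Type u} [AddCommGroup D₃] [Module R D₃] [Module k D₃] [IsScalarTower k R D₃]
  (𝒟₃ : ℤ → AddSubgroup D₃) [DirectSum.Decomposition 𝒟₃]
  (β₃ : D₃ →ₗ[k] H₃ →ₗ[k] k)

theorem eq_of_forall (hD₁ : GrSeg.IsGDual R ℋ₁ 𝒟₁ β₁) (d d' : D₁)
    (h : ∀ x, β₁ d x = β₁ d' x) : d = d' := by
  apply eq_of_sub_eq_zero
  apply sepD' ℋ₁ 𝒟₁ β₁ hD₁
  intro x
  rw [map_sub, LinearMap.sub_apply, h, sub_self]

/-- The dual of a left exact sequence `0 → H₁ → H₂ → H₃` of graded modules is right exact. -/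
theorem exists_dual_exact (hD₁ : GrSeg.IsGDual R ℋ₁ 𝒟₁ β₁) (hD₂ : GrSeg.IsGDual R ℋ₂ 𝒟₂ β₂)
    (hD₃ : GrSeg.IsGDual R ℋ₃ 𝒟₃ β₃) (hk₂ : KStable (k := k) ℋ₂) (hk₃ : KStable (k := k) ℋ₃)
    (δ : H₁ →ₗ[R] H₂) (hδ : ∀ (g : ℤ) (x : H₁), x ∈ ℋ₁ g → δ x ∈ ℋ₂ g)
    (ι : H₂ →ₗ[R] H₃) (hι : ∀ (g : ℤ) (x : H₂), x ∈ ℋ₂ g → ι x ∈ ℋ₃ g)
    (hinj : Function.Injective δ) (hcomp : ∀ x, ι (δ x) = 0)
    (hex : ∀ z, ι z = 0 → ∃ x, δ x = z) :
    ∃ (δ' : D₂ →ₗ[R] D₁) (ι' : D₃ →ₗ[R] D₂),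
      (∀ d z, β₂ (ι' d) z = β₃ d (ι z)) ∧ Function.Surjective δ' ∧
        ∀ d, δ' d = 0 ↔ ∃ d₃, ι' d₃ = d := by
  obtain ⟨δ', hδ'⟩ := exists_dualMap ℋ₁ 𝒟₁ β₁ ℋ₂ 𝒟₂ β₂ hD₁ hD₂ δ hδ
  obtain ⟨ι', hι'⟩ := exists_dualMap ℋ₂ 𝒟₂ β₂ ℋ₃ 𝒟₃ β₃ hD₂ hD₃ ι hι
  refine ⟨δ', ι', hι', ?_, ?_⟩
  · intro d₁
    obtain ⟨d₂, hd₂⟩ := exists_factor ℋ₁ 𝒟₁ β₁ ℋ₂ 𝒟₂ β₂ hD₁ hD₂ hk₂ δ hδ d₁ (fun z hz => by
      have hz0 : z = 0 := hinj (hz.trans (map_zero δ).symm)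
      rw [hz0, map_zero])
    refine ⟨d₂, eq_of_forall ℋ₁ 𝒟₁ β₁ hD₁ _ _ (fun x => ?_)⟩
    rw [hδ', hd₂]
  · intro d
    constructor
    · intro h
      have hv : ∀ z : H₂, ι z = 0 → β₂ d z = 0 := by
        intro z hz
        obtain ⟨x, rfl⟩ := hex z hz
        rw [← hδ', h, map_zero, LinearMap.zero_apply]
      obtain ⟨d₃, hd₃⟩ := exists_factor ℋ₂ 𝒟₂ β₂ ℋ₃ 𝒟₃ β₃ hD₂ hD₃ hk₃ ι hι d hv
      refine ⟨d₃, eq_of_forall ℋ₂ 𝒟₂ β₂ hD₂ _ _ (fun z => ?_)⟩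
      rw [hι', hd₃]
    · rintro ⟨d₃, rfl⟩
      refine eq_of_forall ℋ₁ 𝒟₁ β₁ hD₁ _ _ (fun x => ?_)
      rw [hδ', hι', hcomp, map_zero, map_zero, LinearMap.zero_apply]

end abstract

/-! ### The duality map -/

section main

variable {k : Type u} [Field k] {R : Type u} [CommRing R] [Algebra k R]
  {𝒜 : ℤ → AddSubgroup R} [GradedRing 𝒜]

/-- The pieces of graded local cohomology are `k`-subspaces. -/
theorem kstable_hgr [IsNoetherianRing R] (hk0 : ∀ c : k, algebraMap k R c ∈ 𝒜 0)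
    {N : GrLC.GMod.{u} 𝒜}
    (E : GrLC.StarInjRes 𝒜 N.gr) (a : HomogeneousIdeal 𝒜) (i : ℕ) [Module k (E.H a i)]
    [IsScalarTower k R (E.H a i)] : KStable (k := k) (E.Hgr a i) := by
  intro c g x hx
  rw [← algebraMap_smul R c x]
  have := Groth.Agent.Lib.R2H7.GrCanFin.smul_mem_hgr E a i (hk0 c) hx
  rwa [zero_add] at this

/-- A graded free cover. -/
theorem exists_cover [IsNoetherianRing R] (N : GrLC.GMod.{u} 𝒜) [Module.Finite R N.carrier] :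
    ∃ (r : ℕ) (c : Fin r → ℤ) (Z : GrLC.GMod.{u} 𝒜) (_ : GSES Z (freeG 𝒜 c) N),
      Module.Finite R Z.carrier := by
  obtain ⟨r, c, π, hπ, hs⟩ := exists_free_cover N
  have hN : IsNoetherian R (freeG 𝒜 c).carrier := inferInstanceAs (IsNoetherian R (Fin r → R))
  have hGfin : Module.Finite R (subG (freeG 𝒜 c) (LinearMap.ker π)
      (ker_isHomogeneous N.gr (freeG 𝒜 c).gr π hπ)).carrier :=
    Module.Finite.iff_fg.mpr (IsNoetherian.noetherian (LinearMap.ker π))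
  exact ⟨r, c, _, GSES.ofSurj π hπ hs, hGfin⟩

variable (m : HomogeneousIdeal 𝒜) (n : ℕ)
  (I : GrLC.StarInjRes 𝒜 (selfG 𝒜).gr) [Module k (I.H m n)] [IsScalarTower k R (I.H m n)]
  {K : Type u} [AddCommGroup K] [Module R K] [Module k K] [IsScalarTower k R K]
  (𝒦 : ℤ → AddSubgroup K) [DirectSum.Decomposition 𝒦]
  (βK : K →ₗ[k] I.H m n →ₗ[k] k)

theorem eps_bijective [IsNoetherianRing R] (hn : ringKrullDim R = (n : WithBot ℕ∞))
    (hK : GrSeg.IsGDual R (I.Hgr m n) 𝒦 βK)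
    {N : GrLC.GMod.{u} 𝒜} [Module.Finite R N.carrier] (E : GrLC.StarInjRes 𝒜 N.gr)
    [Module k (E.H m n)] [IsScalarTower k R (E.H m n)]
    {D : Type u} [AddCommGroup D] [Module R D] [Module k D] [IsScalarTower k R D]
    (𝒟 : ℤ → AddSubgroup D) [DirectSum.Decomposition 𝒟]
    (βD : D →ₗ[k] E.H m n →ₗ[k] k) (hD : GrSeg.IsGDual R (E.Hgr m n) 𝒟 βD) :
    Function.Bijective (eps m I n 𝒦 βK E 𝒟 βD hK hD) := by
  have hV : ∀ (Y : GrLC.GMod.{u} 𝒜) (E' : GrLC.StarInjRes 𝒜 Y.gr) (z : (E'.X (n + 1)).carrier),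
      z ∈ E'.cocyc m (n + 1) → z ∈ E'.cobdy m (n + 1) := by
    intro Y E' z hz
    refine vanW_of_dim_lt m Y (n + 1) ?_ E' z hz
    rw [hn]
    exact_mod_cast Nat.lt_succ_self n
  have hΘ := Theta_bijective m I n hV N E
  exact ⟨eps_injective m I n 𝒦 βK E 𝒟 βD hK hD hΘ.2,
    eps_surjective m I n 𝒦 βK E 𝒟 βD hK hD hΘ⟩

theorem eps_natural [IsNoetherianRing R] (hK : GrSeg.IsGDual R (I.Hgr m n) 𝒦 βK)
    {X Y : GrLC.GMod.{u} 𝒜} (EX : GrLC.StarInjRes 𝒜 X.gr) (EY : GrLC.StarInjRes 𝒜 Y.gr)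
    [Module k (EX.H m n)] [IsScalarTower k R (EX.H m n)]
    [Module k (EY.H m n)] [IsScalarTower k R (EY.H m n)]
    {DX : Type u} [AddCommGroup DX] [Module R DX] [Module k DX] [IsScalarTower k R DX]
    (𝒟X : ℤ → AddSubgroup DX) [DirectSum.Decomposition 𝒟X]
    (βX : DX →ₗ[k] EX.H m n →ₗ[k] k) (hDX : GrSeg.IsGDual R (EX.Hgr m n) 𝒟X βX)
    {DY : Type u} [AddCommGroup DY] [Module R DY] [Module k DY] [IsScalarTower k R DY]
    (𝒟Y : ℤ → AddSubgroup DY) [DirectSum.Decomposition 𝒟Y]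
    (βY : DY →ₗ[k] EY.H m n →ₗ[k] k) (hDY : GrSeg.IsGDual R (EY.Hgr m n) 𝒟Y βY)
    (f : X.carrier →ₗ[R] Y.carrier) (hf : GrLC.IsGrHom X.gr Y.gr f) (c : CMap EX EY f)
    (F : DY →ₗ[R] DX) (hF : ∀ d ξ, βX (F d) ξ = βY d (mapHW m c n ξ)) (d : DY) :
    eps m I n 𝒦 βK EX 𝒟X βX hK hDX (F d) = (eps m I n 𝒦 βK EY 𝒟Y βY hK hDY d) ∘ₗ f := by
  apply LinearMap.ext
  intro z
  apply eq_of_pair m I n 𝒦 βK hK
  intro η
  rw [LinearMap.comp_apply, eps_spec, eps_spec, hF, ← TH_eq m hf c (fun _ => rfl) n,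
    star_natural]

/-! ### Local duality -/

variable (k) in
/-- Local duality in cohomological degree `d`. -/
def LD [IsNoetherianRing R] (m : HomogeneousIdeal 𝒜) (n : ℕ) (K : Type u) [AddCommGroup K]
    [Module R K] (d : ℕ) : Prop :=
  ∀ (i : ℕ), i + d = n → ∀ (N : GrLC.GMod.{u} 𝒜) [Module.Finite R N.carrier]
    (E : GrLC.StarInjRes 𝒜 N.gr) [Module k (E.H m i)] [IsScalarTower k R (E.H m i)],
    Nonempty (Ext.{u} (ModuleCat.of R N.carrier) (ModuleCat.of R K) d ≃ₗ[R]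
      ↥(fdual k 𝒜 (E.Hgr m i)))

theorem ld_zero [IsNoetherianRing R] (hk0 : ∀ c : k, algebraMap k R c ∈ 𝒜 0)
    (hn : ringKrullDim R = (n : WithBot ℕ∞))
    (hK : GrSeg.IsGDual R (I.Hgr m n) 𝒦 βK) : LD k m n K 0 := by
  intro i hi N _ E _ _
  obtain rfl : i = n := by omega
  have hk := kstable_hgr hk0 E m i
  letI := fdualDecomposition (k := k) (𝒜 := 𝒜) (ℋ := E.Hgr m i) hk
  have hD := isGDual_fdual (k := k) (𝒜 := 𝒜) (ℋ := E.Hgr m i) hk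
  have hbij := eps_bijective m i I 𝒦 βK hn hK E (fgr k 𝒜 (E.Hgr m i)) (fpair k 𝒜 (E.Hgr m i)) hD
  let e1 := LinearEquiv.ofBijective _ hbij
  let e2 : (ModuleCat.of R N.carrier ⟶ ModuleCat.of R K) ≃ₗ[R] (N.carrier →ₗ[R] K) :=
    ModuleCat.homLinearEquiv
  let e3 : Ext.{u} (ModuleCat.of R N.carrier) (ModuleCat.of R K) 0 ≃ₗ[R]
      (ModuleCat.of R N.carrier ⟶ ModuleCat.of R K) := Ext.linearEquiv₀
  exact ⟨e3.trans (e2.trans e1.symm)⟩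

theorem ld_succ [LocCoh.IsCohenMacaulayRing R] (hk0 : ∀ c : k, algebraMap k R c ∈ 𝒜 0)
    (hpos : ∀ n : ℤ, n < 0 → 𝒜 n = ⊥) (hm : GrLC.IsStarLocal 𝒜 m)
    (hn : ringKrullDim R = (n : WithBot ℕ∞)) (d : ℕ) (hd : 1 ≤ d) (IH : LD k m n K d) :
    LD k m n K (d + 1) := by
  intro i hi N _ E _ _
  obtain ⟨r, c, Z, S, hZfin⟩ := exists_cover N
  obtain ⟨EZ⟩ := exists_res Z
  obtain ⟨D⟩ := exists_hdata S EZ E
  letI : Module k (EZ.H m (i + 1)) := Module.compHom _ (algebraMap k R)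
  haveI : IsScalarTower k R (EZ.H m (i + 1)) := IsScalarTower.of_algebraMap_smul (fun _ _ => rfl)
  have hkN := kstable_hgr hk0 E m i
  have hkZ := kstable_hgr hk0 EZ m (i + 1)
  letI decN := fdualDecomposition (k := k) (𝒜 := 𝒜) (ℋ := E.Hgr m i) hkN
  letI decZ := fdualDecomposition (k := k) (𝒜 := 𝒜) (ℋ := EZ.Hgr m (i + 1)) hkZ
  have hDN := isGDual_fdual (k := k) (𝒜 := 𝒜) (ℋ := E.Hgr m i) hkN
  have hDZ := isGDual_fdual (k := k) (𝒜 := 𝒜) (ℋ := EZ.Hgr m (i + 1)) hkZ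
  have hinj : Function.Injective (deltaW m D i) := deltaW_injective m D
    (fun zz hzz => vanW_free_of_lt hpos m hm n hn c (horse D) i (by omega) zz hzz)
  have hsurj : Function.Surjective (deltaW m D i) := deltaW_surjective m D
    (fun zz hzz => vanW_free_of_lt hpos m hm n hn c (horse D) (i + 1) (by omega) zz hzz)
  let e : E.H m i ≃ₗ[R] EZ.H m (i + 1) := LinearEquiv.ofBijective (deltaW m D i) ⟨hinj, hsurj⟩
  have he : ∀ (g : ℤ) (x : E.H m i), x ∈ E.Hgr m i g → e x ∈ EZ.Hgr m (i + 1) g :=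
    fun g x hx => deltaW_mem_hgr m D hx
  have he' : ∀ (g : ℤ) (y : EZ.H m (i + 1)), y ∈ EZ.Hgr m (i + 1) g → e.symm y ∈ E.Hgr m i g :=
    fun g y hy => symm_mem (E.Hgr m i) (EZ.Hgr m (i + 1)) e.toAddEquiv he g y hy
  obtain ⟨F, -⟩ := exists_equiv_of_equiv (E.Hgr m i) (fgr k 𝒜 (E.Hgr m i))
    (fpair k 𝒜 (E.Hgr m i)) (EZ.Hgr m (i + 1)) (fgr k 𝒜 (EZ.Hgr m (i + 1)))
    (fpair k 𝒜 (EZ.Hgr m (i + 1))) hDN hDZ e he he'
  obtain ⟨e1⟩ := IH (i + 1) (by omega) Z EZ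
  haveI : Module.Projective R (freeG 𝒜 c).carrier :=
    inferInstanceAs (Module.Projective R (Fin r → R))
  obtain ⟨e2⟩ := nonempty_ext_shift K S.f S.g S.f_inj S.g_surj (LinearMap.exact_iff.mpr S.exact)
    d hd
  exact ⟨e2.symm.trans (e1.trans F)⟩

theorem ld_one [LocCoh.IsCohenMacaulayRing R] (hk0 : ∀ c : k, algebraMap k R c ∈ 𝒜 0)
    (hpos : ∀ n : ℤ, n < 0 → 𝒜 n = ⊥) (hm : GrLC.IsStarLocal 𝒜 m)
    (hn : ringKrullDim R = (n : WithBot ℕ∞))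
    (hK : GrSeg.IsGDual R (I.Hgr m n) 𝒦 βK) : LD k m n K 1 := by
  intro i hi N _ E _ _
  subst hi
  obtain ⟨r, c, Z, S, hZfin⟩ := exists_cover N
  obtain ⟨EZ⟩ := exists_res Z
  obtain ⟨D⟩ := exists_hdata S EZ E
  letI : Module k (EZ.H m (i + 1)) := Module.compHom _ (algebraMap k R)
  haveI : IsScalarTower k R (EZ.H m (i + 1)) := IsScalarTower.of_algebraMap_smul (fun _ _ => rfl)
  letI : Module k ((horse D).H m (i + 1)) := Module.compHom _ (algebraMap k R)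
  haveI : IsScalarTower k R ((horse D).H m (i + 1)) :=
    IsScalarTower.of_algebraMap_smul (fun _ _ => rfl)
  have hkN := kstable_hgr hk0 E m i
  have hkZ := kstable_hgr hk0 EZ m (i + 1)
  have hkF := kstable_hgr hk0 (horse D) m (i + 1)
  letI decN := fdualDecomposition (k := k) (𝒜 := 𝒜) (ℋ := E.Hgr m i) hkN
  letI decZ := fdualDecomposition (k := k) (𝒜 := 𝒜) (ℋ := EZ.Hgr m (i + 1)) hkZ
  letI decF := fdualDecomposition (k := k) (𝒜 := 𝒜) (ℋ := (horse D).Hgr m (i + 1)) hkF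
  have hDN := isGDual_fdual (k := k) (𝒜 := 𝒜) (ℋ := E.Hgr m i) hkN
  have hDZ := isGDual_fdual (k := k) (𝒜 := 𝒜) (ℋ := EZ.Hgr m (i + 1)) hkZ
  have hDF := isGDual_fdual (k := k) (𝒜 := 𝒜) (ℋ := (horse D).Hgr m (i + 1)) hkF
  have hinj : Function.Injective (deltaW m D i) := deltaW_injective m D
    (fun zz hzz => vanW_free_of_lt hpos m hm (i + 1) hn c (horse D) i (Nat.lt_succ_self i) zz hzz)
  obtain ⟨δ', ι', hι', hsurj, hker'⟩ := exists_dual_exact (E.Hgr m i) (fgr k 𝒜 (E.Hgr m i))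
    (fpair k 𝒜 (E.Hgr m i)) (EZ.Hgr m (i + 1)) (fgr k 𝒜 (EZ.Hgr m (i + 1)))
    (fpair k 𝒜 (EZ.Hgr m (i + 1))) ((horse D).Hgr m (i + 1))
    (fgr k 𝒜 ((horse D).Hgr m (i + 1))) (fpair k 𝒜 ((horse D).Hgr m (i + 1)))
    hDN hDZ hDF hkZ hkF (deltaW m D i) (fun g x hx => deltaW_mem_hgr m D hx)
    (mapHW m (horseInl D) (i + 1)) (fun g x hx => mapHW_mem_hgr m (horseInl D) (i + 1) g hx)
    hinj (inl_deltaW m D i) (exists_deltaW_eq m D i)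
  haveI : Module.Finite R (freeG 𝒜 c).carrier := inferInstanceAs (Module.Finite R (Fin r → R))
  have hbZ := eps_bijective m (i + 1) I 𝒦 βK hn hK EZ (fgr k 𝒜 (EZ.Hgr m (i + 1)))
    (fpair k 𝒜 (EZ.Hgr m (i + 1))) hDZ
  have hbF := eps_bijective m (i + 1) I 𝒦 βK hn hK (horse D) (fgr k 𝒜 ((horse D).Hgr m (i + 1)))
    (fpair k 𝒜 ((horse D).Hgr m (i + 1))) hDF
  let eZ := LinearEquiv.ofBijective _ hbZ
  have hnat := eps_natural m (i + 1) I 𝒦 βK hK EZ (horse D) (fgr k 𝒜 (EZ.Hgr m (i + 1)))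
    (fpair k 𝒜 (EZ.Hgr m (i + 1))) hDZ (fgr k 𝒜 ((horse D).Hgr m (i + 1)))
    (fpair k 𝒜 ((horse D).Hgr m (i + 1))) hDF S.f S.f_gr (horseInl D) ι' hι'
  let p : (Z.carrier →ₗ[R] K) →ₗ[R] ↥(fdual k 𝒜 (E.Hgr m i)) := δ' ∘ₗ eZ.symm.toLinearMap
  have hp_surj : Function.Surjective p := hsurj.comp eZ.symm.surjective
  haveI : Module.Projective R (freeG 𝒜 c).carrier :=
    inferInstanceAs (Module.Projective R (Fin r → R))
  obtain ⟨dl, hdl_surj, hdl_ker⟩ := exists_ext_one_coker K S.f S.g S.f_inj S.g_surj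
    (LinearMap.exact_iff.mpr S.exact)
  have hkk : LinearMap.ker dl = LinearMap.ker p := by
    ext φ
    rw [LinearMap.mem_ker, LinearMap.mem_ker, hdl_ker]
    constructor
    · rintro ⟨ψ, rfl⟩
      obtain ⟨dF, hdF⟩ := hbF.2 ψ
      show δ' (eZ.symm (ψ ∘ₗ S.f)) = 0
      rw [hker']
      refine ⟨dF, ?_⟩
      apply eZ.injective
      rw [eZ.apply_symm_apply]
      show eps m I (i + 1) 𝒦 βK EZ _ _ hK hDZ (ι' dF) = ψ ∘ₗ S.f
      rw [hnat, hdF]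
    · intro h
      have h' : δ' (eZ.symm φ) = 0 := h
      rw [hker'] at h'
      obtain ⟨dF, hdF⟩ := h'
      refine ⟨eps m I (i + 1) 𝒦 βK (horse D) _ _ hK hDF dF, ?_⟩
      rw [← hnat, hdF]
      exact eZ.apply_symm_apply φ
  exact nonempty_equiv_of_ker_eq dl p hdl_surj hp_surj hkk

/-- Graded local duality over a Cohen-Macaulay *local ring: `Ext^d_R(N, K)` is the graded dual
of `H^i_m(N)` for `i + d = dim R`. -/
theorem local_duality [LocCoh.IsCohenMacaulayRing R] (hk0 : ∀ c : k, algebraMap k R c ∈ 𝒜 0)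
    (hpos : ∀ n : ℤ, n < 0 → 𝒜 n = ⊥) (hm : GrLC.IsStarLocal 𝒜 m)
    (hn : ringKrullDim R = (n : WithBot ℕ∞))
    (hK : GrSeg.IsGDual R (I.Hgr m n) 𝒦 βK) : ∀ d : ℕ, LD k m n K d
  | 0 => ld_zero m n I 𝒦 βK hk0 hn hK
  | 1 => ld_one m n I 𝒦 βK hk0 hpos hm hn hK
  | (d + 2) => ld_succ m n hk0 hpos hm hn (d + 1) (by omega)
      (local_duality hk0 hpos hm hn hK (d + 1))

end main

end Groth.Agent.Lib.R2H7.GrLDual
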