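/-
Restriction of scalars for graded local cohomology along a degree-preserving finite map of
positively graded rings `R → S` (`R_0`, `S_0` fields): a graded `S`-module as a graded `R`-module
(`resG`), *injective `S`-modules are acyclic for `Γ_m` over `R` (`vanX_res`), `Γ_m = Γ_{m'}` on
`S`-modules (`mem_gam_iff`), and the comparison `H^p_m(S) ≅ H^p_{m'}(S)` of graded `R`-modules,
the left side computed from a *injective resolution over `R`, the right side from one over `S`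
(`exists_compare`).  (helper7)
-/
import Mathlib
import Groth.Agent.Lib.R2H7GrAcycW
import Groth.Agent.Lib.R2H7GrCanDict
import Groth.Agent.S11614
import Groth.Agent.S13217
import Groth.Agent.S13225

set_option autoImplicit false
open DirectSum

noncomputable section

namespace Groth.Agent.Lib.R2H7.GrResS

open Groth.Agent.Lib.Helper29GrCompare Groth.Agent.Lib.Helper29GrHom
  Groth.Agent.Lib.Helper29GrGam Groth.Agent.Lib.Helper29GrEss
  Groth.Agent.Lib.R2H7.GrDer Groth.Agent.Lib.R2H7.GrOps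
  Groth.Agent.Lib.R2H7.GrLES Groth.Agent.Lib.R2H7.GrFun Groth.Agent.Lib.R2H7.GrAcyc
  Groth.Agent.Lib.R2H7.GrAcycW Groth.Agent.Lib.R2H7.GrStar Groth.Agent.Lib.R2H7.GrTop

universe u

variable {R : Type u} [CommRing R] {𝒜 : ℤ → AddSubgroup R} [GradedRing 𝒜]
  {S : Type u} [CommRing S] [Algebra R S] {𝒜' : ℤ → AddSubgroup S} [GradedRing 𝒜']
  (hf : ∀ (j : ℤ) (r : R), r ∈ 𝒜 j → algebraMap R S r ∈ 𝒜' j)

/-! ### Restriction of scalars -/

/-- A graded `S`-module as a graded `R`-module. -/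
def resG (Y : GrLC.GMod.{u} 𝒜') : GrLC.GMod.{u} 𝒜 :=
  letI : Module R Y.carrier := Module.compHom Y.carrier (algebraMap R S)
  haveI : SetLike.GradedSMul 𝒜 Y.gr := ⟨by
    intro i j r y hr hy
    have h1 := SetLike.GradedSMul.smul_mem (A := 𝒜') (B := Y.gr) (hf i r hr) hy
    exact h1⟩
  GrLC.GMod.of 𝒜 Y.carrier Y.gr

theorem resG_smul (Y : GrLC.GMod.{u} 𝒜') (r : R) (y : Y.carrier) :
    (r • (id y : (resG hf Y).carrier) : (resG hf Y).carrier) =
      (algebraMap R S r • y : Y.carrier) := rfl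

/-- An `S`-linear map as an `R`-linear map. -/
def resMap {Y Y' : GrLC.GMod.{u} 𝒜'} (φ : Y.carrier →ₗ[S] Y'.carrier) :
    (resG hf Y).carrier →ₗ[R] (resG hf Y').carrier where
  toFun := φ
  map_add' := φ.map_add
  map_smul' r y := φ.map_smul (algebraMap R S r) y

theorem resMap_apply {Y Y' : GrLC.GMod.{u} 𝒜'} (φ : Y.carrier →ₗ[S] Y'.carrier)
    (y : Y.carrier) : resMap hf φ y = φ y := rfl

/-- `S` as a graded `R`-module. -/
def SR : GrLC.GMod.{u} 𝒜 :=
  { carrier := S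
    gr := 𝒜'
    dec := inferInstance
    gsmul := ⟨by
      intro i j r s hr hs
      rw [Algebra.smul_def]
      exact SetLike.GradedMul.mul_mem (hf i r hr) hs⟩ }

/-! ### Acyclicity of *injective `S`-modules -/

include hf in
theorem map_isHomogeneous (m : HomogeneousIdeal 𝒜) :
    (Ideal.map (algebraMap R S) m.toIdeal).IsHomogeneous 𝒜' := by
  obtain ⟨T, hT⟩ := (Ideal.IsHomogeneous.iff_exists 𝒜 m.toIdeal).mp m.isHomogeneous
  rw [hT, Ideal.map_span]
  apply Ideal.homogeneous_span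
  rintro x ⟨y, ⟨t, -, rfl⟩, rfl⟩
  obtain ⟨j, hj⟩ := t.2
  exact ⟨j, hf j _ hj⟩

theorem vanX_res [IsNoetherianRing R] [IsNoetherianRing S] (m : HomogeneousIdeal 𝒜)
    (J : GrLC.GMod.{u} 𝒜') (hJ : GrLC.IsStarInj 𝒜' J.gr) (i : ℕ) (hi : 1 ≤ i) (g : ℤ) :
    VanX m (resG hf J) i g := by
  apply vanX_of_subsingleton_H
  letI : Module R J.carrier := Module.compHom J.carrier (algebraMap R S)
  haveI : IsScalarTower R S J.carrier := IsScalarTower.of_algebraMap_smul (fun _ _ => rfl)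
  obtain ⟨φ, -⟩ := Groth.Agent.S11614.result R S m.toIdeal J.carrier i
  have h1 : Subsingleton (LocCoh.H (Ideal.map (algebraMap R S) m.toIdeal) i J.carrier) :=
    Groth.Agent.S13217.result S 𝒜' ⟨Ideal.map (algebraMap R S) m.toIdeal, map_isHomogeneous hf m⟩
      J.carrier J.gr hJ i hi
  exact φ.symm.toEquiv.subsingleton

/-! ### The resolution of `S` over `R` obtained from a resolution over `S` -/

/-- A *injective resolution of `S` over `S` as a resolution of `S` by graded `R`-modules. -/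
def resRes (I' : GrLC.StarInjRes 𝒜' 𝒜') : GRes (SR hf) where
  A n := resG hf (I'.X n)
  d n := resMap hf (I'.d n)
  ε :=
    { toFun := I'.ε
      map_add' := I'.ε.map_add
      map_smul' := fun r (s : S) => by
        show I'.ε (r • s) = (algebraMap R S r • I'.ε s : (I'.X 0).carrier)
        rw [Algebra.smul_def, ← smul_eq_mul, map_smul] }
  d_gr n := I'.d_grHom n
  ε_gr := I'.ε_grHom
  ε_inj := I'.ε_injective
  exact_zero := by
    ext x
    have := SetLike.ext_iff.mp I'.exact_zero x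
    exact this
  exact_succ n := by
    ext x
    have := SetLike.ext_iff.mp (I'.exact_succ n) x
    exact this

theorem vanX_resRes [IsNoetherianRing R] [IsNoetherianRing S] (m : HomogeneousIdeal 𝒜)
    (I' : GrLC.StarInjRes 𝒜' 𝒜') (k i : ℕ) (g : ℤ) :
    VanX m ((resRes hf I').A k) (i + 1) g :=
  vanX_res hf m (I'.X k) (I'.starInj k) (i + 1) (Nat.le_add_left 1 i) g

/-! ### Comparison of the torsion functors -/

section pow

variable (m : HomogeneousIdeal 𝒜)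
  (hmsp : m.toIdeal = Ideal.span (⋃ n ∈ Set.Ioi (0 : ℤ), (𝒜 n : Set R)))
  (m' : HomogeneousIdeal 𝒜')
  (hm'sp : m'.toIdeal = Ideal.span (⋃ j ∈ Set.Ioi (0 : ℤ), (𝒜' j : Set S)))

include hf hmsp hm'sp in
theorem map_le : Ideal.map (algebraMap R S) m.toIdeal ≤ m'.toIdeal := by
  rw [Ideal.map_le_iff_le_comap, hmsp, Ideal.span_le]
  intro r hr
  obtain ⟨j, hj, hrj⟩ := Set.mem_iUnion₂.mp hr
  show algebraMap R S r ∈ m'.toIdeal
  rw [hm'sp]
  exact Ideal.subset_span (Set.mem_biUnion hj (hf j r hrj))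

include hf hmsp in
theorem mem_map_of_large [Module.Finite R S] : ∃ N₀ : ℤ, 0 < N₀ ∧
    ∀ j, N₀ ≤ j → ∀ s ∈ 𝒜' j, s ∈ Ideal.map (algebraMap R S) m.toIdeal := by
  classical
  haveI : Module.Finite R (SR hf).carrier := ‹Module.Finite R S›
  haveI : SetLike.GradedSMul 𝒜 𝒜' := (SR hf).gsmul
  have key : ∃ (r : ℕ) (c : Fin r → ℤ) (x : Fin r → S), (∀ b, x b ∈ 𝒜' (c b)) ∧
      Submodule.span R (Set.range x) = ⊤ := exists_homog_gens (SR hf)
  obtain ⟨r, c, x, hc, hspan⟩ := key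
  refine ⟨(∑ b, |c b|) + 1, by positivity, fun j hj s hs => ?_⟩
  obtain ⟨v, hv⟩ := exists_sum_smul_of_span x hspan s
  have h2 : ((decompose 𝒜' s) j : S) = s := DirectSum.decompose_of_mem_same 𝒜' hs
  have h1 : s = ∑ b, ((decompose 𝒜 (v b)) (j - c b) : R) • x b := by
    rw [← h2]
    conv_lhs => rw [hv]
    rw [DirectSum.decompose_sum, DFinsupp.finsetSum_apply, AddSubmonoidClass.coe_finsetSum]
    refine Finset.sum_congr rfl (fun b _ => ?_)
    exact decompose_smul_of_mem_right 𝒜 𝒜' (hc b) (v b) j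
  have h3 : ∀ b, ((decompose 𝒜 (v b)) (j - c b) : R) • x b ∈
      (Ideal.map (algebraMap R S) m.toIdeal : Ideal S) := by
    intro b
    have hpos : 0 < j - c b := by
      have h4 := Finset.single_le_sum (fun i _ => abs_nonneg (c i)) (Finset.mem_univ b)
      have h5 := le_abs_self (c b)
      omega
    have hr : ((decompose 𝒜 (v b)) (j - c b) : R) ∈ m.toIdeal :=
      Groth.Agent.Lib.R2H7.GrCanDict.mem_m_of_pos m hmsp hpos (SetLike.coe_mem _)
    rw [Algebra.smul_def]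
    exact Ideal.mul_mem_right _ _ (Ideal.mem_map_of_mem _ hr)
  rw [h1]
  exact Ideal.sum_mem _ (fun b _ => h3 b)

include hf hmsp hm'sp in
theorem le_radical [Module.Finite R S] :
    m'.toIdeal ≤ (Ideal.map (algebraMap R S) m.toIdeal).radical := by
  obtain ⟨N₀, hN₀, hlarge⟩ := mem_map_of_large hf m hmsp
  rw [hm'sp, Ideal.span_le]
  intro s hs
  obtain ⟨j, hj, hsj⟩ := Set.mem_iUnion₂.mp hs
  refine ⟨N₀.toNat, ?_⟩
  have h1 : s ^ N₀.toNat ∈ 𝒜' (N₀.toNat • j) := SetLike.pow_mem_graded N₀.toNat hsj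
  refine hlarge (N₀.toNat • j) ?_ _ h1
  rw [nsmul_eq_mul]
  have h2 : ((N₀.toNat : ℕ) : ℤ) = N₀ := Int.toNat_of_nonneg hN₀.le
  have hj' : (1 : ℤ) ≤ j := hj
  rw [h2]
  nlinarith

include hf hmsp hm'sp in
theorem exists_pow_le [Module.Finite R S] [IsNoetherianRing S] :
    ∃ N : ℕ, m'.toIdeal ^ N ≤ Ideal.map (algebraMap R S) m.toIdeal :=
  Ideal.exists_pow_le_of_le_radical_of_fg (le_radical hf m hmsp m' hm'sp)
    (IsNoetherian.noetherian _)

include hmsp hm'sp in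
theorem gam_res_of_gam (Y : GrLC.GMod.{u} 𝒜') {y : Y.carrier}
    (hy : y ∈ GrLC.gam m'.toIdeal Y.carrier) :
    y ∈ GrLC.gam m.toIdeal (resG hf Y).carrier := by
  obtain ⟨t, ht⟩ := hy
  refine ⟨t, fun r hr => ?_⟩
  show (algebraMap R S r • y : Y.carrier) = 0
  apply ht
  refine Ideal.pow_right_mono (map_le hf m hmsp m' hm'sp) t ?_
  rw [← Ideal.map_pow]
  exact Ideal.mem_map_of_mem _ hr

include hmsp hm'sp in
theorem gam_of_gam_res [Module.Finite R S] [IsNoetherianRing S] (Y : GrLC.GMod.{u} 𝒜')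
    {y : Y.carrier} (hy : y ∈ GrLC.gam m.toIdeal (resG hf Y).carrier) :
    y ∈ GrLC.gam m'.toIdeal Y.carrier := by
  obtain ⟨t, ht⟩ := hy
  obtain ⟨N, hN⟩ := exists_pow_le hf m hmsp m' hm'sp
  refine ⟨N * t, fun s hs => ?_⟩
  have h1 : s ∈ (Ideal.map (algebraMap R S) m.toIdeal) ^ t := by
    rw [pow_mul] at hs
    exact Ideal.pow_right_mono hN t hs
  rw [← Ideal.map_pow] at h1
  have h2 : s ∈ Ideal.span ((algebraMap R S) '' ((m.toIdeal ^ t : Ideal R) : Set R)) := h1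
  refine Submodule.span_induction (p := fun s _ => s • y = 0) ?_ ?_ ?_ ?_ h2
  · rintro _ ⟨r, hr, rfl⟩
    exact ht r hr
  · exact zero_smul _ _
  · intro a b _ _ ha hb
    rw [add_smul, ha, hb, add_zero]
  · intro a b _ hb
    rw [smul_eq_mul, mul_smul, hb, smul_zero]

/-! ### The comparison isomorphism -/

section compare

variable [Module.Finite R S] [IsNoetherianRing S] (I' : GrLC.StarInjRes 𝒜' 𝒜')

/-- Torsion cocycles over `R` are torsion cocycles over `S`. -/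
def zToCocyc (p : ℕ) : ↥(ZW m (resMap hf (I'.d p))) →ₛₗ[algebraMap R S] ↥(I'.cocyc m' p) where
  toFun z := ⟨z.1, ⟨gam_of_gam_res hf m hmsp m' hm'sp (I'.X p) z.2.1,
    LinearMap.mem_ker.mpr (LinearMap.mem_ker.mp z.2.2)⟩⟩
  map_add' _ _ := rfl
  map_smul' _ _ := rfl

theorem zToCocyc_coe (p : ℕ) (z : ↥(ZW m (resMap hf (I'.d p)))) :
    ((zToCocyc hf m hmsp m' hm'sp I' p z : ↥(I'.cocyc m' p)) : (I'.X p).carrier) = z.1 := rfl

include hmsp hm'sp in
theorem exists_theta (p : ℕ) (Y0 : GrLC.GMod.{u} 𝒜')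
    (δ0 : Y0.carrier →ₗ[S] (I'.X p).carrier)
    (hcob : I'.cobdy m' p = (GrLC.gam m'.toIdeal Y0.carrier).map δ0) :
    ∃ θ : HW m (resMap hf δ0) (resMap hf (I'.d p)) ≃+ I'.H m' p,
      (∀ (r : R) (x : HW m (resMap hf δ0) (resMap hf (I'.d p))),
        θ (r • x) = algebraMap R S r • θ x) ∧
      ∀ (g : ℤ) (x : HW m (resMap hf δ0) (resMap hf (I'.d p))),
        x ∈ HWgr m (resMap hf δ0) (resMap hf (I'.d p)) g ↔ θ x ∈ I'.Hgr m' p g := by
  let F : ↥(ZW m (resMap hf (I'.d p))) →ₛₗ[algebraMap R S] I'.H m' p :=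
    (I'.toH m' p).comp (zToCocyc hf m hmsp m' hm'sp I' p)
  have hF : ∀ z, F z = Submodule.Quotient.mk (zToCocyc hf m hmsp m' hm'sp I' p z) := fun z => rfl
  have hFz : ∀ z, F z = 0 ↔ z ∈ BW m (resMap hf δ0) (resMap hf (I'.d p)) := by
    intro z
    rw [hF, Submodule.Quotient.mk_eq_zero, mem_BW]
    constructor
    · intro h
      have h1 : z.1 ∈ I'.cobdy m' p := h
      rw [hcob] at h1
      obtain ⟨w, hw, hwz⟩ := h1
      exact ⟨w, gam_res_of_gam hf m hmsp m' hm'sp Y0 hw, hwz⟩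
    · rintro ⟨w, hw, hwz⟩
      show z.1 ∈ I'.cobdy m' p
      rw [hcob]
      exact ⟨w, gam_of_gam_res hf m hmsp m' hm'sp Y0 hw, hwz⟩
  let θ₀ : HW m (resMap hf δ0) (resMap hf (I'.d p)) →ₛₗ[algebraMap R S] I'.H m' p :=
    Submodule.liftQ _ F (fun z hz => LinearMap.mem_ker.mpr ((hFz z).mpr hz))
  have hθ₀ : ∀ z, θ₀ (Submodule.Quotient.mk z) = F z := fun z => rfl
  have hinj : Function.Injective θ₀ := by
    rw [injective_iff_map_eq_zero]
    intro x hx
    obtain ⟨z, rfl⟩ := Submodule.Quotient.mk_surjective _ x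
    rw [hθ₀] at hx
    exact (Submodule.Quotient.mk_eq_zero _).mpr ((hFz z).mp hx)
  have hlift : ∀ z' : ↥(I'.cocyc m' p), ∃ z : ↥(ZW m (resMap hf (I'.d p))),
      zToCocyc hf m hmsp m' hm'sp I' p z = z' := by
    intro z'
    refine ⟨⟨z'.1, ⟨gam_res_of_gam hf m hmsp m' hm'sp (I'.X p) z'.2.1,
      LinearMap.mem_ker.mpr (LinearMap.mem_ker.mp z'.2.2)⟩⟩, ?_⟩
    exact Subtype.ext rfl
  have hsurj : Function.Surjective θ₀ := by
    intro y
    obtain ⟨z', rfl⟩ := Submodule.Quotient.mk_surjective _ y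
    obtain ⟨z, rfl⟩ := hlift z'
    exact ⟨Submodule.Quotient.mk z, rfl⟩
  refine ⟨AddEquiv.ofBijective θ₀.toAddMonoidHom ⟨hinj, hsurj⟩, ?_, ?_⟩
  · intro r x
    exact θ₀.map_smulₛₗ r x
  · intro g x
    constructor
    · rintro ⟨z, hz, rfl⟩
      exact ⟨zToCocyc hf m hmsp m' hm'sp I' p z, hz, rfl⟩
    · rintro ⟨z', hz', hzx⟩
      obtain ⟨z, rfl⟩ := hlift z'
      have h1 : θ₀ (Submodule.Quotient.mk z) = θ₀ x := hzx
      have h2 := hinj h1
      rw [← h2]
      exact ⟨z, hz', rfl⟩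

include hmsp hm'sp in
/-- `H^p_m(S)` computed over `R` is `H^p_{m'}(S)` computed over `S`, compatibly with the gradings
and the `R`-actions. -/
theorem exists_compare [IsNoetherianRing R] (ES : GrLC.StarInjRes 𝒜 (SR hf).gr) (p : ℕ) :
    ∃ ψ : ES.H m p ≃+ I'.H m' p,
      (∀ (r : R) (x : ES.H m p), ψ (r • x) = algebraMap R S r • ψ x) ∧
      ∀ (g : ℤ) (x : ES.H m p), x ∈ ES.Hgr m p g ↔ ψ x ∈ I'.Hgr m' p g := by
  have hind : iSupIndep (ES.Hgr m p) :=
    (Groth.Agent.S13225.result R 𝒜 m (SR hf).carrier (SR hf).gr ES p).addSubgroup_iSupIndep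
  cases p with
  | zero =>
    obtain ⟨e, he⟩ : ∃ e : HW m (resMap hf (0 : (I'.X 0).carrier →ₗ[S] (I'.X 0).carrier))
        (resMap hf (I'.d 0)) ≃ₗ[R] ES.H m 0,
        ∀ (g : ℤ) (ξ : HW m (resMap hf (0 : (I'.X 0).carrier →ₗ[S] (I'.X 0).carrier))
          (resMap hf (I'.d 0))),
          ξ ∈ HWgr m (resMap hf (0 : (I'.X 0).carrier →ₗ[S] (I'.X 0).carrier))
            (resMap hf (I'.d 0)) g ↔ e ξ ∈ ES.Hgr m 0 g :=
      exists_acycW_zero m (resRes hf I') ES
        (resMap hf (0 : (I'.X 0).carrier →ₗ[S] (I'.X 0).carrier)) (fun y => rfl) hind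
    obtain ⟨θ, hθ1, hθ2⟩ := exists_theta hf m hmsp m' hm'sp I' 0 (I'.X 0) 0 (by
      rw [Submodule.map_zero]
      rfl)
    refine ⟨e.symm.toAddEquiv.trans θ, fun r x => ?_, fun g x => ?_⟩
    · show θ (e.symm (r • x)) = algebraMap R S r • θ (e.symm x)
      rw [map_smul, hθ1]
    · show x ∈ ES.Hgr m 0 g ↔ θ (e.symm x) ∈ I'.Hgr m' 0 g
      rw [← hθ2, he, e.apply_symm_apply]
  | succ q =>
    obtain ⟨e, he⟩ : ∃ e : HW m (resMap hf (I'.d q)) (resMap hf (I'.d (q + 1))) ≃ₗ[R]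
        ES.H m (q + 1),
        ∀ (g : ℤ) (ξ : HW m (resMap hf (I'.d q)) (resMap hf (I'.d (q + 1)))),
          ξ ∈ HWgr m (resMap hf (I'.d q)) (resMap hf (I'.d (q + 1))) g ↔
            e ξ ∈ ES.Hgr m (q + 1) g :=
      exists_acycW_succ m (resRes hf I') ES q (vanX_resRes hf m I') hind
    obtain ⟨θ, hθ1, hθ2⟩ := exists_theta hf m hmsp m' hm'sp I' (q + 1) (I'.X q) (I'.d q) rfl
    refine ⟨e.symm.toAddEquiv.trans θ, fun r x => ?_, fun g x => ?_⟩
    · show θ (e.symm (r • x)) = algebraMap R S r • θ (e.symm x)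
      rw [map_smul, hθ1]
    · show x ∈ ES.Hgr m (q + 1) g ↔ θ (e.symm x) ∈ I'.Hgr m' (q + 1) g
      rw [← hθ2, he, e.apply_symm_apply]

end compare

end pow

end Groth.Agent.Lib.R2H7.GrResS
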