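/-
The *canonical module of a finite graded algebra: for a degree-preserving finite map `R → S` of
positively graded Noetherian rings whose degree-zero parts are the same field, with `R`
Cohen-Macaulay, `K_S ≅ Ext^{dim R - dim S}_R(S, K_R)` (`nonempty_equiv_ext`).  The proof combines
graded local duality (`R2H7GrLDual.local_duality`), the independence of the base
(`R2H7GrResS.exists_compare`), the dictionary between *canonical modules and graded duals of the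
top local cohomology (`R2H7GrCanPair.exists_pairing'`, `isGDual_of_pairing`) and the uniqueness of
graded duals (`R2H7GrFDual.exists_equiv_of_equiv`).  (helper7)
-/
import Mathlib
import Groth.Agent.Lib.R2H7GrLDual
import Groth.Agent.Lib.R2H7GrResS
import Groth.Agent.Lib.R2H7GrCanPair
import Groth.Agent.Lib.Helper5IntDim

set_option autoImplicit false
open DirectSum CategoryTheory CategoryTheory.Abelian

noncomputable section

namespace Groth.Agent.Lib.R2H7.GrCanFinite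

open Groth.Agent.Lib.R2H7.GrDer Groth.Agent.Lib.R2H7.GrOps
  Groth.Agent.Lib.R2H7.GrFree Groth.Agent.Lib.R2H7.GrFDual Groth.Agent.Lib.R2H7.GrLDual
  Groth.Agent.Lib.R2H7.GrResS Groth.Agent.Lib.R2H7.GrCanPair

universe u

/-! ### From a pairing to a graded dual -/

section conv

variable {k : Type u} [Field k] {R : Type u} [CommRing R] [Algebra k R]
  {S : Type u} [CommRing S] [Algebra R S] {𝒜' : ℤ → AddSubgroup S} [GradedRing 𝒜']
  (σ : k ≃+* ↥(GrLC.deg0 𝒜'))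
  (hσ : ∀ a : k, ((σ a : ↥(GrLC.deg0 𝒜')) : S) = algebraMap R S (algebraMap k R a))
  {C' : Type u} [AddCommGroup C'] [Module S C'] [Module R C'] [IsScalarTower R S C']
  [Module k C'] [IsScalarTower k R C']
  (𝒞' : ℤ → AddSubgroup C') [DirectSum.Decomposition 𝒞']
  {H : Type u} [AddCommGroup H] [Module R H] [Module k H] [IsScalarTower k R H]
  (ℋ : ℤ → AddSubgroup H) [DirectSum.Decomposition ℋ]
  {T : Type u} [AddCommGroup T] [Module S T] (𝒯 : ℤ → AddSubgroup T)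
  (ψ : H ≃+ T) (hψ : ∀ (r : R) (x : H), ψ (r • x) = algebraMap R S r • ψ x)
  (hψg : ∀ (g : ℤ) (x : H), x ∈ ℋ g ↔ ψ x ∈ 𝒯 g)
  (β' : C' →ₗ[GrLC.deg0 𝒜'] T →ₗ[GrLC.deg0 𝒜'] GrLC.deg0 𝒜')

include hσ in
theorem smul_eq_sigma_smul (a : k) (c : C') : a • c = (σ a) • c := by
  rw [Subring.smul_def, hσ, algebraMap_smul, algebraMap_smul]

include hσ hψ in
theorem psi_smul (a : k) (x : H) : ψ (a • x) = (σ a) • ψ x := by
  rw [Subring.smul_def, hσ, ← hψ, algebraMap_smul]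

include hσ hψ in
theorem psi_symm_smul (b : ↥(GrLC.deg0 𝒜')) (t : T) :
    ψ.symm (b • t) = (σ.symm b) • ψ.symm t := by
  apply ψ.injective
  rw [ψ.apply_symm_apply, psi_smul σ hσ ψ hψ, σ.apply_symm_apply, ψ.apply_symm_apply]

include hσ hψ hψg in
theorem isGDual_of_pairing
    (hb1 : ∀ (s : S) (c : C') (h : T), β' (s • c) h = β' c (s • h))
    (hb2 : ∀ (i : ℤ) (c : C'), c ∈ 𝒞' i → ∀ j : ℤ, j ≠ -i → ∀ h ∈ 𝒯 j, β' c h = 0)
    (hb3 : ∀ (i : ℤ) (c : C'), c ∈ 𝒞' i → (∀ h ∈ 𝒯 (-i), β' c h = 0) → c = 0)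
    (hb4 : ∀ (i : ℤ) (l : T →ₗ[GrLC.deg0 𝒜'] GrLC.deg0 𝒜'),
      ∃ c ∈ 𝒞' i, ∀ h ∈ 𝒯 (-i), β' c h = l h) :
    ∃ β : C' →ₗ[k] H →ₗ[k] k, GrSeg.IsGDual R ℋ 𝒞' β := by
  let β : C' →ₗ[k] H →ₗ[k] k :=
    LinearMap.mk₂ k (fun c x => σ.symm (β' c (ψ x)))
      (fun c c' x => by rw [map_add, LinearMap.add_apply, map_add])
      (fun a c x => by
        rw [smul_eq_sigma_smul σ hσ a c, map_smul, LinearMap.smul_apply, smul_eq_mul, map_mul,
          σ.symm_apply_apply, smul_eq_mul])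
      (fun c x x' => by rw [map_add, map_add, map_add])
      (fun a c x => by
        rw [psi_smul σ hσ ψ hψ a x, map_smul, smul_eq_mul, map_mul, σ.symm_apply_apply,
          smul_eq_mul])
  have hβ : ∀ c x, β c x = σ.symm (β' c (ψ x)) := fun c x => rfl
  refine ⟨β, { map_smul := ?_, vanish := ?_, eq_zero := ?_, exists_eq := ?_ }⟩
  · intro r c x
    rw [hβ, hβ, hψ, ← hb1, algebraMap_smul]
  · intro n c hc g hg x hx
    rw [hβ, hb2 n c hc g hg (ψ x) ((hψg g x).mp hx), map_zero]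
  · intro n c hc hv
    refine hb3 n c hc (fun h hh => ?_)
    have h1 := hv (ψ.symm h) ((hψg (-n) _).mpr (by rw [ψ.apply_symm_apply]; exact hh))
    rw [hβ, ψ.apply_symm_apply] at h1
    have h2 := congrArg σ h1
    rw [σ.apply_symm_apply, map_zero] at h2
    exact h2
  · intro n g
    let l : T →ₗ[GrLC.deg0 𝒜'] GrLC.deg0 𝒜' :=
      { toFun := fun t => σ (g (ψ.symm t))
        map_add' := fun t t' => by rw [map_add, map_add, map_add]
        map_smul' := fun b t => by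
          rw [psi_symm_smul σ hσ ψ hψ b t, map_smul, smul_eq_mul, map_mul, σ.apply_symm_apply,
            RingHom.id_apply, smul_eq_mul] }
    obtain ⟨c, hc, hcl⟩ := hb4 n l
    refine ⟨c, hc, fun x hx => ?_⟩
    rw [hβ, hcl (ψ x) ((hψg (-n) x).mp hx)]
    show σ.symm (σ (g (ψ.symm (ψ x)))) = g x
    rw [σ.symm_apply_apply, ψ.symm_apply_apply]

end conv

/-! ### The canonical module of a finite graded algebra -/

theorem nonempty_equiv_ext (R : Type u) [CommRing R] [LocCoh.IsCohenMacaulayRing R]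
    (𝒜 : ℤ → AddSubgroup R) [GradedRing 𝒜] (hpos : ∀ n : ℤ, n < 0 → 𝒜 n = ⊥)
    (h0 : IsField (GrLC.deg0 𝒜)) (m : HomogeneousIdeal 𝒜) (hm : GrLC.IsStarLocal 𝒜 m)
    (hmsp : m.toIdeal = Ideal.span (⋃ n ∈ Set.Ioi (0 : ℤ), (𝒜 n : Set R))) (n : ℕ)
    (hn : ringKrullDim R = n) (I : GrLC.StarInjRes 𝒜 𝒜)
    (E' : Type u) [AddCommGroup E'] [Module R E'] (𝓔 : ℤ → AddSubgroup E')
    [DirectSum.Decomposition 𝓔] [SetLike.GradedSMul 𝒜 𝓔] (e : (R ⧸ m.toIdeal) →ₗ[R] E')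
    (he : GrLC.IsStarInjHull 𝒜 (GrLC.quotGr 𝒜 m) 𝓔 e)
    (C : Type u) [AddCommGroup C] [Module R C] (𝒞 : ℤ → AddSubgroup C)
    [DirectSum.Decomposition 𝒞] [SetLike.GradedSMul 𝒜 𝒞]
    (hC : GrLC.IsStarCanonical 𝒜 𝒞 𝓔 m n I)
    (S : Type u) [CommRing S] [IsNoetherianRing S] [Algebra R S] [Module.Finite R S]
    (𝒜' : ℤ → AddSubgroup S) [GradedRing 𝒜']
    (hf : ∀ j : ℤ, (𝒜 j).map (algebraMap R S : R →+ S) ≤ 𝒜' j)
    (hf0 : (𝒜 0).map (algebraMap R S : R →+ S) = 𝒜' 0)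
    (hpos' : ∀ j : ℤ, j < 0 → 𝒜' j = ⊥) (h0' : IsField (GrLC.deg0 𝒜'))
    (m' : HomogeneousIdeal 𝒜') (hm' : GrLC.IsStarLocal 𝒜' m')
    (hm'sp : m'.toIdeal = Ideal.span (⋃ j ∈ Set.Ioi (0 : ℤ), (𝒜' j : Set S))) (n' : ℕ)
    (hn' : ringKrullDim S = n') (I' : GrLC.StarInjRes 𝒜' 𝒜')
    (E'' : Type u) [AddCommGroup E''] [Module S E''] (𝓔'' : ℤ → AddSubgroup E'')
    [DirectSum.Decomposition 𝓔''] [SetLike.GradedSMul 𝒜' 𝓔'']
    (e' : (S ⧸ m'.toIdeal) →ₗ[S] E'')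
    (he' : GrLC.IsStarInjHull 𝒜' (GrLC.quotGr 𝒜' m') 𝓔'' e')
    (C' : Type u) [AddCommGroup C'] [Module S C'] [Module R C'] [IsScalarTower R S C']
    (𝒞' : ℤ → AddSubgroup C') [DirectSum.Decomposition 𝒞'] [SetLike.GradedSMul 𝒜' 𝒞']
    (hC' : GrLC.IsStarCanonical 𝒜' 𝒞' 𝓔'' m' n' I') :
    Nonempty (C' ≃ₗ[R] Ext.{u} (ModuleCat.of R S) (ModuleCat.of R C) (n - n')) := by
  classical
  have hN : IsNoetherianRing R := inferInstance
  have hle : n' ≤ n := by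
    have h1 := Groth.Agent.Lib.Helper5.ringKrullDim_le_of_isIntegral R S
    rw [hn, hn'] at h1
    exact_mod_cast h1
  let _ : Field (GrLC.deg0 𝒜) := h0.toField
  have hf' : ∀ (j : ℤ) (r : R), r ∈ 𝒜 j → algebraMap R S r ∈ 𝒜' j :=
    fun j r hr => hf j (AddSubgroup.mem_map_of_mem _ hr)
  have hk0 : ∀ c : GrLC.deg0 𝒜, algebraMap (GrLC.deg0 𝒜) R c ∈ 𝒜 0 := fun c => c.2
  -- the isomorphism of the degree zero parts
  let f₀ : GrLC.deg0 𝒜 →+* GrLC.deg0 𝒜' :=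
    (algebraMap R S).restrict (GrLC.deg0 𝒜) (GrLC.deg0 𝒜') (fun x hx => hf' 0 x hx)
  have hf₀ : ∀ a : GrLC.deg0 𝒜, ((f₀ a : GrLC.deg0 𝒜') : S) = algebraMap R S (a : R) :=
    fun a => rfl
  haveI : Nontrivial (GrLC.deg0 𝒜') := h0'.nontrivial
  have hbij : Function.Bijective f₀ := by
    refine ⟨f₀.injective, fun y => ?_⟩
    have hy : (y : S) ∈ (𝒜 0).map (algebraMap R S : R →+ S) := by
      rw [hf0]
      exact y.2
    obtain ⟨r, hr, hry⟩ := hy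
    exact ⟨⟨r, hr⟩, Subtype.ext hry⟩
  let σ : GrLC.deg0 𝒜 ≃+* GrLC.deg0 𝒜' := RingEquiv.ofBijective f₀ hbij
  have hσ : ∀ a : GrLC.deg0 𝒜, ((σ a : GrLC.deg0 𝒜') : S) =
      algebraMap R S (algebraMap (GrLC.deg0 𝒜) R a) := fun a => rfl
  -- `C` is a graded dual of `H^n_m(R)`
  obtain ⟨βR, hR1, hR2, hR3, hR4⟩ :=
    exists_pairing' hpos h0 m hm hmsp 𝓔 e he 𝒞 n I hC
  let IR : GrLC.StarInjRes 𝒜 (selfG 𝒜).gr := I
  haveI : IsScalarTower (GrLC.deg0 𝒜) R C := IsScalarTower.of_algebraMap_smul (fun _ _ => rfl)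
  haveI : IsScalarTower (GrLC.deg0 𝒜) R (IR.H m n) :=
    IsScalarTower.of_algebraMap_smul (fun _ _ => rfl)
  obtain ⟨βK, hK⟩ := isGDual_of_pairing (k := GrLC.deg0 𝒜) (R := R) (S := R) (𝒜' := 𝒜)
    (RingEquiv.refl _) (fun a => rfl) 𝒞 (IR.Hgr m n) (IR.Hgr m n) (AddEquiv.refl _)
    (fun r x => rfl) (fun g x => Iff.rfl) βR hR1 hR2 hR3 hR4
  -- `C'` is a graded dual of `H^{n'}_m(S)`
  obtain ⟨βS, hS1, hS2, hS3, hS4⟩ :=
    exists_pairing' hpos' h0' m' hm' hm'sp 𝓔'' e' he' 𝒞' n' I' hC'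
  obtain ⟨ES⟩ := exists_res (SR hf')
  obtain ⟨ψ, hψ, hψg⟩ := exists_compare hf' m hmsp m' hm'sp I' ES n'
  haveI : IsScalarTower (GrLC.deg0 𝒜) R C' := IsScalarTower.of_algebraMap_smul (fun _ _ => rfl)
  haveI : IsScalarTower (GrLC.deg0 𝒜) R (ES.H m n') :=
    IsScalarTower.of_algebraMap_smul (fun _ _ => rfl)
  obtain ⟨β₁, hD₁⟩ := isGDual_of_pairing (k := GrLC.deg0 𝒜) (R := R) (S := S) (𝒜' := 𝒜')
    σ hσ 𝒞' (ES.Hgr m n') (I'.Hgr m' n') ψ hψ hψg βS hS1 hS2 hS3 hS4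
  -- local duality
  haveI : Module.Finite R (SR hf').carrier := ‹Module.Finite R S›
  obtain ⟨eLD⟩ := local_duality (k := GrLC.deg0 𝒜) m n IR 𝒞 βK hk0 hpos hm hn hK (n - n') n'
    (by omega) (SR hf') ES
  -- uniqueness of graded duals
  have hkS := kstable_hgr hk0 ES m n'
  letI := fdualDecomposition (k := GrLC.deg0 𝒜) (𝒜 := 𝒜) (ℋ := ES.Hgr m n') hkS
  have hDf := isGDual_fdual (k := GrLC.deg0 𝒜) (𝒜 := 𝒜) (ℋ := ES.Hgr m n') hkS
  obtain ⟨F, -⟩ := exists_equiv_of_equiv (ES.Hgr m n') (fgr (GrLC.deg0 𝒜) 𝒜 (ES.Hgr m n'))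
    (fpair (GrLC.deg0 𝒜) 𝒜 (ES.Hgr m n')) (ES.Hgr m n') 𝒞' β₁ hDf hD₁
    (LinearEquiv.refl R (ES.H m n')) (fun _ _ h => h) (fun _ _ h => h)
  exact ⟨F.trans eLD.symm⟩

end Groth.Agent.Lib.R2H7.GrCanFinite
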