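/-
Localising a *canonical module at a graded maximal ideal.  For a Noetherian graded ring `R`, a graded
maximal ideal `m`, the *injective envelope `E'` of `R/m` and a finitely generated `C` with an
`R`-isomorphism `Hom_R(C, E') ≅ H^n_m(R)`:

* `E'_m` is an injective hull of the residue field of `A = R_m` (`exists_hull`);
* `Hom_A(C_m, E'_m) ≅ H^n_{mA}(A)` (`exists_eK`), so `C_m` is a canonical module of `A`;
* when `R` is Cohen-Macaulay and `n = dim R_m`, `μ^n(m, C) = 1` (`bassNum_canonical`).
-/
import Mathlib
import Groth.Agent.Lib.R2H7GrInjMax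
import Groth.Agent.Lib.R2H7GrGorBass
import Groth.Agent.Lib.Helper8CanonCM
import Groth.Agent.Lib.Helper8LC2
import Groth.Agent.Lib.Helper29Socle
import Groth.Agent.S13224
import Groth.Agent.S11617

set_option autoImplicit false
open DirectSum
open scoped TensorProduct

noncomputable section

namespace Groth.Agent.Lib.R2H7.GrCanLoc

universe u

/-! ### Torsion modules at a maximal ideal -/

section torsion

variable {R : Type u} [CommRing R] (m : Ideal R) [hm : m.IsMaximal]
  {M : Type u} [AddCommGroup M] [Module R M]
  (htors : ∀ x : M, ∃ k : ℕ, ∀ r ∈ m ^ k, r • x = 0)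

include htors in
theorem eq_zero_of_smul_eq_zero {u : R} (hu : u ∉ m) {x : M} (h : u • x = 0) : x = 0 := by
  obtain ⟨k, hk⟩ := htors x
  obtain ⟨y, i, hi, hyi⟩ := Ideal.IsMaximal.exists_inv_pow m hu k
  have h1 : x = (y * u + i) • x := by rw [hyi, one_smul]
  rw [h1, add_smul, mul_smul, h, smul_zero, hk i hi, add_zero]

include htors in
theorem exists_smul_eq {u : R} (hu : u ∉ m) (x : M) : ∃ x' : M, u • x' = x := by
  obtain ⟨k, hk⟩ := htors x
  obtain ⟨y, i, hi, hyi⟩ := Ideal.IsMaximal.exists_inv_pow m hu k
  refine ⟨y • x, ?_⟩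
  have h1 : x = (y * u + i) • x := by rw [hyi, one_smul]
  conv_rhs => rw [h1, add_smul, hk i hi, add_zero, mul_comm, mul_smul]

include htors in
theorem mk_bijective : Function.Bijective (LocalizedModule.mkLinearMap m.primeCompl M) := by
  constructor
  · rw [injective_iff_map_eq_zero]
    intro x hx
    rw [LocalizedModule.mkLinearMap_apply, Groth.Agent.Lib.Helper29Socle.mk_eq_zero_iff'] at hx
    obtain ⟨u, hu⟩ := hx
    exact eq_zero_of_smul_eq_zero m htors u.2 hu
  · intro z
    induction z using LocalizedModule.induction_on with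
    | _ x s =>
      obtain ⟨x', hx'⟩ := exists_smul_eq m htors s.2 x
      refine ⟨x', ?_⟩
      rw [LocalizedModule.mkLinearMap_apply, LocalizedModule.mk_eq]
      refine ⟨1, ?_⟩
      rw [one_smul, one_smul, one_smul]
      exact hx'

end torsion

/-! ### Injective modules over a localisation -/

section injective

theorem injective_of_isLocalization {R : Type u} [CommRing R] (S : Submonoid R) (A : Type u)
    [CommRing A] [Algebra R A] [IsLocalization S A] (N : Type u) [AddCommGroup N] [Module R N]
    [Module A N] [IsScalarTower R A N] (h : Module.Injective R N) : Module.Injective A N := by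
  refine ⟨fun X Y _ _ _ _ i hi g => ?_⟩
  let _ : Module R X := Module.compHom X (algebraMap R A)
  let _ : Module R Y := Module.compHom Y (algebraMap R A)
  have : IsScalarTower R A X := IsScalarTower.of_algebraMap_smul (fun r x => rfl)
  have : IsScalarTower R A Y := IsScalarTower.of_algebraMap_smul (fun r x => rfl)
  obtain ⟨h', hh'⟩ := h.out (i.restrictScalars R) hi (g.restrictScalars R)
  exact ⟨LinearMap.extendScalarsOfIsLocalization S A h', hh'⟩

end injective

/-! ### The localised envelope and the localised canonical module -/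

section hull

open IsLocalRing

variable {R : Type u} [CommRing R] [IsNoetherianRing R] (m : Ideal R) [hm : m.IsMaximal]
  {E' : Type u} [AddCommGroup E'] [Module R E']
  (e : (R ⧸ m) →ₗ[R] E') (he : InjHull.IsInjectiveHull e)
  (htors : ∀ x : E', ∃ k : ℕ, ∀ r ∈ m ^ k, r • x = 0)

include he htors in
/-- The localisation at `m` of an injective hull of `R/m` is an injective hull of the residue field
of `R_m`. -/
theorem exists_hull :
    ∃ f : ResidueField (Localization.AtPrime m) →ₗ[Localization.AtPrime m]
      LocalizedModule m.primeCompl E', InjHull.IsInjectiveHull f := by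
  have hbij := mk_bijective m htors
  obtain ⟨x0, hx0⟩ : ∃ x0 : E', x0 = e (Ideal.Quotient.mk m 1) := ⟨_, rfl⟩
  have he_mk : ∀ t : R, e (Ideal.Quotient.mk m t) = t • x0 := by
    intro t
    have h1 : Ideal.Quotient.mk m t = t • (Ideal.Quotient.mk m 1) := by
      have := (Submodule.mkQ m).map_smul t (1 : R)
      rw [smul_eq_mul, mul_one] at this
      exact this
    rw [h1, map_smul, hx0]
  have hx0ne : x0 ≠ 0 := by
    intro h0
    rw [hx0] at h0
    have h1 : Ideal.Quotient.mk m 1 = 0 := he.injective (by rw [h0, map_zero])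
    exact hm.ne_top ((Ideal.eq_top_iff_one _).mpr (Ideal.Quotient.eq_zero_iff_mem.mp h1))
  have hx0m : ∀ r ∈ m, r • x0 = 0 := by
    intro r hr
    rw [← he_mk, Ideal.Quotient.eq_zero_iff_mem.mpr hr, map_zero]
  have hmk0 : (LocalizedModule.mk x0 1 : LocalizedModule m.primeCompl E') ≠ 0 := by
    intro h0
    apply hx0ne
    apply hbij.1
    rw [map_zero, LocalizedModule.mkLinearMap_apply]
    exact h0
  have hker : maximalIdeal (Localization.AtPrime m) ≤
      LinearMap.ker (LinearMap.toSpanSingleton (Localization.AtPrime m)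
        (LocalizedModule m.primeCompl E') (LocalizedModule.mk x0 1)) := by
    intro a ha
    obtain ⟨r, s, rfl⟩ := IsLocalization.exists_mk'_eq m.primeCompl a
    rw [IsLocalization.AtPrime.mk'_mem_maximal_iff (Localization.AtPrime m) m] at ha
    rw [LinearMap.mem_ker, LinearMap.toSpanSingleton_apply, ← Localization.mk_eq_mk'_apply,
      LocalizedModule.mk_smul_mk, hx0m r ha, LocalizedModule.zero_mk]
  obtain ⟨f, hf⟩ : ∃ f : ResidueField (Localization.AtPrime m) →ₗ[Localization.AtPrime m]
      LocalizedModule m.primeCompl E', ∀ a : Localization.AtPrime m,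
        f (residue (Localization.AtPrime m) a) = a • LocalizedModule.mk x0 1 :=
    ⟨Submodule.liftQ (maximalIdeal (Localization.AtPrime m))
      (LinearMap.toSpanSingleton (Localization.AtPrime m)
        (LocalizedModule m.primeCompl E') (LocalizedModule.mk x0 1)) hker, fun a => rfl⟩
  refine ⟨f, ?_⟩
  refine { injective := ?_, essential := ?_, isInjective := ?_ }
  · rw [injective_iff_map_eq_zero]
    intro t ht
    obtain ⟨a, rfl⟩ := residue_surjective t
    rw [hf] at ht
    by_contra hne
    have ha : a ∉ maximalIdeal (Localization.AtPrime m) := by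
      intro ha
      exact hne ((residue_eq_zero_iff a).mpr ha)
    have hu : IsUnit a := notMem_maximalIdeal.mp ha
    exact hmk0 ((hu.smul_eq_zero).mp ht)
  · intro N hN hbot
    obtain ⟨y, hyN, hy0⟩ := Submodule.exists_mem_ne_zero_of_ne_bot hN
    obtain ⟨x, rfl⟩ := hbij.2 y
    have hx0' : x ≠ 0 := by
      intro h0
      apply hy0
      rw [h0, map_zero]
    have hsp : Submodule.span R {x} ≠ ⊥ := by
      rw [Ne, Submodule.span_singleton_eq_bot]
      exact hx0'
    obtain ⟨z, ⟨hz1, hz2⟩, hz0⟩ := Submodule.exists_mem_ne_zero_of_ne_bot (he.essential _ hsp)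
    obtain ⟨r, rfl⟩ := Submodule.mem_span_singleton.mp hz1
    obtain ⟨t, ht⟩ := hz2
    obtain ⟨t', rfl⟩ := Ideal.Quotient.mk_surjective t
    have hw : LocalizedModule.mkLinearMap m.primeCompl E' (r • x) ∈ N ⊓ LinearMap.range f := by
      refine ⟨?_, ?_⟩
      · rw [map_smul]
        exact N.smul_of_tower_mem r hyN
      · refine ⟨residue (Localization.AtPrime m) (algebraMap R (Localization.AtPrime m) t'), ?_⟩
        rw [hf, algebraMap_smul, LocalizedModule.smul'_mk, ← he_mk, ht,
          LocalizedModule.mkLinearMap_apply]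
    rw [hbot, Submodule.mem_bot] at hw
    apply hz0
    apply hbij.1
    rw [hw, map_zero]
  · have h1 : Module.Injective R E' := he.isInjective
    have h2 : Module.Baer R E' := Module.Baer.of_injective h1
    have h3 : Module.Baer R (LocalizedModule m.primeCompl E') :=
      Module.Baer.of_equiv (LinearEquiv.ofBijective _ hbij) h2
    exact injective_of_isLocalization m.primeCompl (Localization.AtPrime m) _ h3.injective

/-- The localisation of a module `C` with `Hom_R(C, E') ≅ H^n_m(R)` is a canonical module of
`R_m` with respect to the localised `E'`. -/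
theorem exists_eK {C : Type u} [AddCommGroup C] [Module R C] [Module.Finite R C] (n : ℕ)
    (ψ : (C →ₗ[R] E') ≃ₗ[R] LocCoh.H m n R) :
    Nonempty ((LocalizedModule m.primeCompl C →ₗ[Localization.AtPrime m]
      LocalizedModule m.primeCompl E') ≃ₗ[Localization.AtPrime m]
        LocCoh.H (maximalIdeal (Localization.AtPrime m)) n (Localization.AtPrime m)) := by
  have hfp : Module.FinitePresentation R C := Module.finitePresentation_of_finite R C
  have e1 := LinearEquiv.extendScalarsOfIsLocalization m.primeCompl (Localization.AtPrime m)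
    (Module.FinitePresentation.linearEquivMapExtendScalars m.primeCompl (M := C) (N := E'))
  have e2 := IsLocalizedModule.mapEquiv m.primeCompl
    (LocalizedModule.mkLinearMap m.primeCompl (C →ₗ[R] E'))
    (LocalizedModule.mkLinearMap m.primeCompl (LocCoh.H m n R)) (Localization.AtPrime m) ψ
  have e3 := LocalizedModule.equivTensorProduct m.primeCompl (LocCoh.H m n R)
  obtain ⟨e4⟩ := Groth.Agent.S11617.result R (Localization.AtPrime m) m R n
  have e5 : LocCoh.H (Ideal.map (algebraMap R (Localization.AtPrime m)) m) n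
      (TensorProduct R (Localization.AtPrime m) R) ≃ₗ[Localization.AtPrime m]
      LocCoh.H (Ideal.map (algebraMap R (Localization.AtPrime m)) m) n (Localization.AtPrime m) :=
    ((localCohomology (Ideal.map (algebraMap R (Localization.AtPrime m)) m) n).mapIso
      (TensorProduct.AlgebraTensorModule.rid R (Localization.AtPrime m)
        (Localization.AtPrime m)).toModuleIso).toLinearEquiv
  have e6 := e1.symm.trans (e2.trans (e3.trans (e4.trans e5)))
  rw [IsLocalization.AtPrime.map_eq_maximalIdeal m (Localization.AtPrime m)] at e6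
  exact ⟨e6⟩

end hull

/-! ### The type of a canonical module of a Cohen-Macaulay local ring -/

section bass

open IsLocalRing CategoryTheory CategoryTheory.Abelian

variable {A : Type u} [CommRing A] [IsLocalRing A]
  (E : Type u) [AddCommGroup E] [Module A E] (f : ResidueField A →ₗ[A] E)
  (hf : InjHull.IsInjectiveHull f)

include hf in
/-- A module whose Matlis dual is simple is simple. -/
theorem isSimpleModule_of_dual (V : Type u) [AddCommGroup V] [Module A V]
    (h : IsSimpleModule A (V →ₗ[A] E)) : IsSimpleModule A V := by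
  have hV : Nontrivial V := by
    by_contra hnt
    rw [not_nontrivial_iff_subsingleton] at hnt
    have h1 := Groth.Agent.Lib.Helper8.CanonCM.subsingleton_hom_of_subsingleton (R := A) E V
    have h2 := IsSimpleModule.nontrivial A (V →ₗ[A] E)
    exact not_subsingleton _ h1
  refine { toIsSimpleOrder := { toNontrivial := (Submodule.nontrivial_iff A).mpr hV,
                                eq_bot_or_eq_top := fun P => ?_ } }
  by_contra hcon
  rw [not_or] at hcon
  obtain ⟨hP0, hPtop⟩ := hcon
  obtain ⟨μ₁, hμ₁, hμ₁P⟩ := Groth.Agent.Lib.Helper8.CanonCM.exists_functional E f hf V P hPtop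
  have hPnt : Nontrivial ↥P := Submodule.nontrivial_iff_ne_bot.mpr hP0
  have := Groth.Agent.Lib.Helper8.CanonCM.nontrivial_hom E f hf ↥P
  obtain ⟨ν, hν⟩ := exists_ne (0 : ↥P →ₗ[A] E)
  obtain ⟨μ₂, hμ₂⟩ := hf.isInjective.out P.subtype P.injective_subtype ν
  have hspan := IsSimpleModule.span_singleton_eq_top (R := A) hμ₁
  have hmem : μ₂ ∈ Submodule.span A {μ₁} := by
    rw [hspan]
    exact Submodule.mem_top
  obtain ⟨a, ha⟩ := Submodule.mem_span_singleton.mp hmem
  apply hν
  apply LinearMap.ext
  intro x
  have h1 := hμ₂ x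
  rw [← ha, LinearMap.smul_apply] at h1
  have h2 : μ₁ (P.subtype x) = 0 := hμ₁P _ x.2
  rw [h2, smul_zero] at h1
  rw [← h1, LinearMap.zero_apply]

variable [LocCoh.IsCohenMacaulayLocalRing A] (n : ℕ) (hn : ringKrullDim A = n)
  (K : Type u) [AddCommGroup K] [Module A K] [Module.Finite A K]
  (eK : (K →ₗ[A] E) ≃ₗ[A] LocCoh.H (maximalIdeal A) n A)

include hn hf eK in
/-- The type of a canonical module of a Cohen-Macaulay local ring is one. -/
theorem bassNumLocal_canonical : GrLC.bassNumLocal A K n = 1 := by
  rw [Groth.Agent.Lib.R2H7.GrGorBass.bassNumLocal_eq, Module.length_eq_one_iff]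
  apply isSimpleModule_of_dual E f hf
  obtain ⟨e⟩ := Groth.Agent.Lib.Helper8.CanonCM.dualExt n hn E f hf K eK
    (A ⧸ maximalIdeal A) n le_rfl
  rw [Nat.sub_self] at e
  have e2 := Groth.Agent.Lib.Helper8.LC.ΦEquiv (maximalIdeal A)
    (ModuleCat.of A (A ⧸ maximalIdeal A))
  have htop : DRing.torsionSub (maximalIdeal A) (A ⧸ maximalIdeal A) = ⊤ := by
    rw [eq_top_iff]
    intro x _
    refine ⟨1, fun a ha => ?_⟩
    rw [pow_one] at ha
    obtain ⟨b, rfl⟩ := Ideal.Quotient.mk_surjective x
    have h1 : a • (Ideal.Quotient.mk (maximalIdeal A) b) =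
        Ideal.Quotient.mk (maximalIdeal A) (a * b) := rfl
    rw [h1, Ideal.Quotient.eq_zero_iff_mem]
    exact Ideal.mul_mem_right b _ ha
  have e3 := LinearEquiv.ofTop _ htop
  have hs : IsSimpleModule A (A ⧸ maximalIdeal A) :=
    isSimpleModule_iff_isCoatom.mpr (Ideal.isMaximal_def.mp inferInstance)
  exact IsSimpleModule.congr (e.symm.trans (e2.trans e3))

end bass

end Groth.Agent.Lib.R2H7.GrCanLoc
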