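/-
The type of a Veronese subring of a standard graded Gorenstein ring over a field:
`r(R^(q)) = dim_k R_ρ`, where `ρ` is the remainder of the a-invariant `a(R)` modulo `q`.
Ingredients: the Bass number `μ^n(m, R)` of a graded ring over a field whose local cohomology vanishes
below `n` is the number of elements of a basis of the socle of `H^n_m(R)` (computed from a minimal
*injective resolution); the socle of the Veronese module of a module with a dual package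
(`R2H7GrMatlis`) over a ring generated in degree one is its piece of the largest degree divisible by
`q`; dimension of the pieces of a module with a dual package.
-/
import Mathlib
import Groth.Agent.Lib.R2H7GrVerGor

set_option autoImplicit false
open DirectSum

noncomputable section

namespace Groth.Agent.Lib.R2H7.GrType

open Groth.Agent.Lib.Helper29GrHom Groth.Agent.Lib.Helper29GrEss Groth.Agent.Lib.Helper29GrStd
  Groth.Agent.Lib.Helper29Socle
  Groth.Agent.Lib.R2H7.GrOps Groth.Agent.Lib.R2H7.GrFree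
  Groth.Agent.Lib.R2H7.GrCanDict Groth.Agent.Lib.R2H7.GrCanFin Groth.Agent.Lib.R2H7.GrMatlis
  Groth.Agent.Lib.R2H7.GrVer Groth.Agent.Lib.R2H7.GrVerLC Groth.Agent.Lib.R2H7.GrVerLCW
  Groth.Agent.Lib.R2H7.GrMinRes Groth.Agent.Lib.R2H7.GrBass Groth.Agent.Lib.R2H7.GrGorChar
  Groth.Agent.Lib.R2H7.GrVerGor

universe u

/-! ### Counting the socle -/

section count

variable {R : Type u} [CommRing R] [IsNoetherianRing R] {𝒜 : ℤ → AddSubgroup R} [GradedRing 𝒜]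
  (hpos : ∀ n : ℤ, n < 0 → 𝒜 n = ⊥) (m : HomogeneousIdeal 𝒜) [hmax : m.toIdeal.IsMaximal]
  (hmsp : m.toIdeal = Ideal.span (⋃ n ∈ Set.Ioi (0 : ℤ), (𝒜 n : Set R)))

include hpos hmsp in
/-- The length of the socle of `Y_m` is the number of elements of a basis of the socle of `Y` over
the field `R_0`. -/
theorem length_soc_eq_card_of_basis (Y : Type u) [AddCommGroup Y] [Module R Y] {Λ : Type*}
    (w : Λ → Y) (ha : ∀ α, w α ∈ socR m.toIdeal Y)
    (hb : ∀ c : Λ →₀ R, (∀ α, c α ∈ 𝒜 0) → Finsupp.linearCombination R w c = 0 → ∀ α, c α = 0)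
    (hc : ∀ y ∈ socR m.toIdeal Y, ∃ c : Λ →₀ R, y = Finsupp.linearCombination R w c) :
    Module.length (Localization.AtPrime m.toIdeal)
      (soc (Localization.AtPrime m.toIdeal) (LocalizedModule m.toIdeal.primeCompl Y)) =
      ENat.card Λ := by
  classical
  refine length_soc_eq_card m.toIdeal Y w (fun α r hr => ha α r hr) ?_ ?_
  · intro c₀ u hu α
    have hmem : Finsupp.linearCombination R w c₀ ∈ socR m.toIdeal Y := by
      rw [Finsupp.linearCombination_apply]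
      exact Submodule.sum_mem _ (fun α _ => Submodule.smul_mem _ _ (ha α))
    have hzero : Finsupp.linearCombination R w c₀ = 0 :=
      eq_zero_of_smul_eq_zero hmem u.2 hu
    let c₁ : Λ →₀ R := c₀.mapRange (fun r => ((decompose 𝒜 r) 0 : R)) (by simp)
    have hc₁ : Finsupp.linearCombination R w c₁ = Finsupp.linearCombination R w c₀ := by
      rw [Finsupp.linearCombination_apply, Finsupp.linearCombination_apply,
        Finsupp.sum_mapRange_index (fun α => zero_smul R (w α))]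
      refine Finsupp.sum_congr (fun α _ => ?_)
      have h1 := ha α _ (sub_proj0_mem hpos m hmsp (c₀ α))
      rw [sub_smul, sub_eq_zero] at h1
      exact h1.symm
    have h2 := hb c₁ (fun α => by
      show ((decompose 𝒜 (c₀ α)) 0 : R) ∈ 𝒜 0
      exact SetLike.coe_mem _) (hc₁.trans hzero) α
    have h3 := sub_proj0_mem hpos m hmsp (c₀ α)
    have h4 : ((decompose 𝒜 (c₀ α)) 0 : R) = 0 := h2
    rwa [h4, sub_zero] at h3
  · intro y hy
    obtain ⟨c, hc'⟩ := hc y hy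
    exact ⟨1, c, by rw [one_smul]; exact hc'⟩

include hpos hmsp in
/-- The Bass number `μ^n(m, R)` when `H^j_m(R) = 0` for `j < n`: the number of elements of a basis
of the socle of `H^n_m(R)` over `R_0`. -/
theorem bassNum_eq_card (F : GrLC.StarInjRes 𝒜 𝒜) (hF : IsMin F) (n : ℕ)
    (hvan : ∀ j, j < n → Subsingleton (F.H m j)) {Λ : Type*} (w : Λ → F.H m n)
    (ha : ∀ α, w α ∈ socR m.toIdeal (F.H m n))
    (hb : ∀ c : Λ →₀ R, (∀ α, c α ∈ 𝒜 0) → Finsupp.linearCombination R w c = 0 → ∀ α, c α = 0)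
    (hc : ∀ y ∈ socR m.toIdeal (F.H m n), ∃ c : Λ →₀ R, y = Finsupp.linearCombination R w c) :
    GrLC.bassNum m.toIdeal R n = ENat.card Λ := by
  classical
  rw [bassNum_eq_length_soc F hF m n]
  have hcob : F.cobdy m n = ⊥ := cobdy_eq_bot (E := F) m n (gam_eq_bot_of_lt hF m n hvan)
  have hinj : Function.Injective (F.toH m n) := by
    rw [injective_iff_map_eq_zero]
    intro z hz
    have h1 := (Submodule.Quotient.mk_eq_zero _).mp hz
    have h2 : (z : (F.X n).carrier) ∈ F.cobdy m n := h1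
    rw [hcob] at h2
    exact Subtype.ext ((Submodule.mem_bot R).mp h2)
  have hsurj : Function.Surjective (F.toH m n) := Submodule.mkQ_surjective _
  choose z hz using fun α => hsurj (w α)
  have hcomp : (F.toH m n) ∘ z = w := funext hz
  refine length_soc_eq_card_of_basis hpos m hmsp (F.X n).carrier
    (fun α => ((z α : ↥(F.cocyc m n)) : (F.X n).carrier)) ?_ ?_ ?_
  · intro α r hr
    have h1 : F.toH m n (r • z α) = 0 := by
      rw [map_smul, hz]
      exact ha α r hr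
    have h2 : r • z α = 0 := hinj (h1.trans (map_zero _).symm)
    have h3 := congrArg Subtype.val h2
    exact h3
  · intro c hc0 hLC
    apply hb c hc0
    have h1 := Finsupp.apply_linearCombination R (F.cocyc m n).subtype z c
    have h2 : Finsupp.linearCombination R z c = 0 := Subtype.ext (h1.trans hLC)
    have h3 := Finsupp.apply_linearCombination R (F.toH m n) z c
    rw [hcomp, h2, map_zero] at h3
    exact h3.symm
  · intro y hy
    have hyc : y ∈ F.cocyc m n := socR_le_cocyc hF m n hy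
    have hsoc : F.toH m n ⟨y, hyc⟩ ∈ socR m.toIdeal (F.H m n) := by
      intro r hr
      rw [← map_smul]
      have h1 : r • (⟨y, hyc⟩ : ↥(F.cocyc m n)) = 0 := Subtype.ext (hy r hr)
      rw [h1, map_zero]
    obtain ⟨c, hc'⟩ := hc _ hsoc
    refine ⟨c, ?_⟩
    have h3 := Finsupp.apply_linearCombination R (F.toH m n) z c
    rw [hcomp, ← hc'] at h3
    have h5 := hinj h3
    have h1 := Finsupp.apply_linearCombination R (F.cocyc m n).subtype z c
    rw [h5] at h1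
    exact h1

end count

/-! ### Modules with a dual package over a ring generated in degree one -/

section dpack

variable {R : Type u} [CommRing R] {𝒜 : ℤ → AddSubgroup R} [GradedRing 𝒜]
  (hpos : ∀ n : ℤ, n < 0 → 𝒜 n = ⊥)
  {Y : Type u} [AddCommGroup Y] [Module R Y] {𝒴 : ℤ → AddSubgroup Y}
  [DirectSum.Decomposition 𝒴] [SetLike.GradedSMul 𝒜 𝒴] {c : ℤ} {η : Y} (P : DPack 𝒜 𝒴 c η)

include hpos P in
/-- A module with a dual package in degree `c` vanishes above `c`. -/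
theorem eq_zero_of_lt {s : ℤ} (hs : c < s) {y : Y} (hy : y ∈ 𝒴 s) : y = 0 := by
  by_contra hne
  obtain ⟨r, hr, hr0, -⟩ := P.exists_smul_ne hy hne
  apply hr0
  rw [eq_zero_of_mem_of_eq_bot (hpos (c - s) (by omega)) hr, zero_smul]

/-- Over a ring generated in degree one, an ideal containing `R_q` contains `R_t` for `t ≥ q`. -/
theorem piece_le_of_ge
    (hstd : Ideal.span (⋃ n ∈ Set.Ioi (0 : ℤ), (𝒜 n : Set R)) =
      Ideal.span ((𝒜 1 : AddSubgroup R) : Set R))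
    (K : Ideal R) (q : ℤ) (hq : 0 ≤ q) (hK : ∀ r ∈ 𝒜 q, r ∈ K) :
    ∀ (t : ℕ) (r : R), r ∈ 𝒜 (q + t) → r ∈ K := by
  classical
  intro t
  induction t with
  | zero =>
    intro r hr
    rw [Nat.cast_zero, add_zero] at hr
    exact hK r hr
  | succ t ih =>
    intro r hr
    have hra : r ∈ Ideal.span ((𝒜 1 : AddSubgroup R) : Set R) := by
      rw [← hstd]
      refine Ideal.subset_span (Set.mem_biUnion (Set.mem_Ioi.mpr ?_) hr)
      push_cast
      omega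
    obtain ⟨f, T, hTs, -, rfl⟩ := Submodule.mem_span_iff_exists_finset_subset.mp hra
    have hcomp := decompose_sum_smul 𝒜 𝒜 T (fun _ => 1) (fun p hp => hTs hp) f
      (q + ((t + 1 : ℕ) : ℤ))
    rw [DirectSum.decompose_of_mem_same 𝒜 hr] at hcomp
    rw [hcomp]
    refine Ideal.sum_mem _ fun p _ => ?_
    rw [smul_eq_mul]
    refine Ideal.mul_mem_right _ _ (ih _ ?_)
    have h3 : q + ((t + 1 : ℕ) : ℤ) - 1 = q + (t : ℤ) := by
      push_cast
      ring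
    rw [← h3]
    exact SetLike.coe_mem _

include hpos P in
/-- A nonzero homogeneous element killed by `R_q` lives in the top `q` degrees. -/
theorem lt_and_le_of_kill
    (hstd : Ideal.span (⋃ n ∈ Set.Ioi (0 : ℤ), (𝒜 n : Set R)) =
      Ideal.span ((𝒜 1 : AddSubgroup R) : Set R))
    (q : ℤ) (hq : 0 ≤ q) {s : ℤ} {y : Y} (hy : y ∈ 𝒴 s) (hy0 : y ≠ 0)
    (hkill : ∀ r ∈ 𝒜 q, r • y = 0) : c - q < s ∧ s ≤ c := by
  obtain ⟨r, hr, hr0, -⟩ := P.exists_smul_ne hy hy0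
  constructor
  · by_contra hlt
    apply hr0
    have hK := piece_le_of_ge hstd (LinearMap.ker (LinearMap.toSpanSingleton R Y y)) q hq
      (fun r hr => by
        rw [LinearMap.mem_ker, LinearMap.toSpanSingleton_apply]
        exact hkill r hr)
      (c - s - q).toNat r (by
        have e1 : q + ((c - s - q).toNat : ℤ) = c - s := by
          rw [Int.toNat_of_nonneg (by omega)]
          ring
        rw [e1]
        exact hr)
    rw [LinearMap.mem_ker, LinearMap.toSpanSingleton_apply] at hK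
    exact hK
  · by_contra hlt
    apply hr0
    rw [eq_zero_of_mem_of_eq_bot (hpos (c - s) (by omega)) hr, zero_smul]

variable [IsNoetherianRing R] (h0 : IsField (GrLC.deg0 𝒜))

include hpos h0 P in
/-- The pieces `Y_{c-t}` and `R_t` have the same dimension. -/
theorem finrank_comp_dpack (t : ℤ) :
    Module.Finite (GrLC.deg0 𝒜) ↥(GrLC.comp 𝒜 𝒴 (c - t)) ∧
    Module.finrank (GrLC.deg0 𝒜) ↥(GrLC.comp 𝒜 𝒴 (c - t)) =
      Module.finrank (GrLC.deg0 𝒜) ↥(GrLC.comp 𝒜 𝒜 t) := by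
  classical
  let _ : Field (GrLC.deg0 𝒜) := h0.toField
  have hfinR : Module.Finite (GrLC.deg0 𝒜) ↥(GrLC.comp 𝒜 𝒜 t) := finite_comp_self hpos h0 t
  obtain ⟨τ, hτ, -⟩ := exists_coord h0 P
  let B : ↥(GrLC.comp 𝒜 𝒴 (c - t)) →ₗ[GrLC.deg0 𝒜]
      ↥(GrLC.comp 𝒜 𝒜 t) →ₗ[GrLC.deg0 𝒜] GrLC.deg0 𝒜 :=
    LinearMap.mk₂ (GrLC.deg0 𝒜) (fun y r => τ ((r : R) • (y : Y)))
      (fun y y' r => by
        show τ ((r : R) • ((y + y' : ↥(GrLC.comp 𝒜 𝒴 (c - t))) : Y)) = _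
        rw [Submodule.coe_add, smul_add, map_add])
      (fun a' y r => by
        have e1 : ((a' • y : ↥(GrLC.comp 𝒜 𝒴 (c - t))) : Y) =
            (a' : R) • (y : Y) := rfl
        show τ ((r : R) • ((a' • y : ↥(GrLC.comp 𝒜 𝒴 (c - t))) : Y)) =
          a' • τ ((r : R) • (y : Y))
        rw [e1, smul_comm]
        exact map_smul τ a' _)
      (fun y r r' => by
        show τ (((r + r' : ↥(GrLC.comp 𝒜 𝒜 t)) : R) • (y : Y)) = _
        rw [Submodule.coe_add, add_smul, map_add])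
      (fun a' y r => by
        have e1 : ((a' • r : ↥(GrLC.comp 𝒜 𝒜 t)) : R) = (a' : R) * (r : R) := rfl
        show τ (((a' • r : ↥(GrLC.comp 𝒜 𝒜 t)) : R) • (y : Y)) =
          a' • τ ((r : R) • (y : Y))
        rw [e1, mul_smul]
        exact map_smul τ a' _)
  have hinj : Function.Injective B := by
    rw [injective_iff_map_eq_zero]
    intro y hy
    by_contra hne
    have hne' : (y : Y) ≠ 0 := fun h0' => hne (Subtype.ext h0')
    obtain ⟨r, hr, hr0, hrc⟩ := P.exists_smul_ne y.2 hne'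
    have e1 : c - (c - t) = t := by ring
    rw [e1] at hr
    apply hr0
    have h1 : τ (r • (y : Y)) = 0 := LinearMap.congr_fun hy ⟨r, hr⟩
    rw [← hτ _ hrc, h1, Subring.coe_zero, zero_smul]
  have hsurj : Function.Surjective B := by
    intro ℓ
    obtain ⟨y, hy, hyℓ⟩ := exists_repr hpos h0 P τ hτ t ℓ
    exact ⟨⟨y, hy⟩, LinearMap.ext (fun r => hyℓ r.1 r.2)⟩
  let e := LinearEquiv.ofBijective B ⟨hinj, hsurj⟩
  have hfinD : Module.Finite (GrLC.deg0 𝒜)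
      (↥(GrLC.comp 𝒜 𝒜 t) →ₗ[GrLC.deg0 𝒜] GrLC.deg0 𝒜) := inferInstance
  refine ⟨Module.Finite.equiv e.symm, ?_⟩
  rw [e.finrank_eq]
  exact Subspace.dual_finrank_eq

end dpack

/-! ### The socle of a Veronese module -/

section ver

variable {R : Type u} [CommRing R] {𝒜 : ℤ → AddSubgroup R} [GradedRing 𝒜]
  {R' : Type u} [CommRing R'] {𝒜' : ℤ → AddSubgroup R'} [GradedRing 𝒜'] (V : VerData 𝒜 𝒜')
  (hpos : ∀ n : ℤ, n < 0 → 𝒜 n = ⊥) (h0 : IsField (GrLC.deg0 𝒜))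
  (hstd : Ideal.span (⋃ n ∈ Set.Ioi (0 : ℤ), (𝒜 n : Set R)) =
    Ideal.span ((𝒜 1 : AddSubgroup R) : Set R))
  {Y : Type u} [AddCommGroup Y] [Module R Y] {𝒴 : ℤ → AddSubgroup Y}
  [DirectSum.Decomposition 𝒴] [SetLike.GradedSMul 𝒜 𝒴]
  {Y' : Type u} [AddCommGroup Y'] [Module R' Y'] {𝒴' : ℤ → AddSubgroup Y'}
  [DirectSum.Decomposition 𝒴'] [SetLike.GradedSMul 𝒜' 𝒴']
  (ψ : Y' →ₛₗ[V.φ] Y) (hinj : Function.Injective ψ)
  (hψ1 : ∀ (j : ℤ) (ξ : Y'), ξ ∈ 𝒴' j → ψ ξ ∈ 𝒴 (j * V.q))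
  (hψ2 : ∀ (j : ℤ) (η : Y), η ∈ 𝒴 (j * V.q) → ∃ ξ ∈ 𝒴' j, ψ ξ = η)
  {a : ℤ} {η : Y} (P : DPack 𝒜 𝒴 a η)
  (m' : HomogeneousIdeal 𝒜')
  (hm'sp : m'.toIdeal = Ideal.span (⋃ j ∈ Set.Ioi (0 : ℤ), (𝒜' j : Set R')))
  (j₀ ρ : ℤ) (hρ : a - ρ = j₀ * V.q) (hρ0 : 0 ≤ ρ) (hρq : ρ < V.q)

include hpos hinj hψ1 P hm'sp hρ hρq in
theorem mem_socR_of_mem {ξ : Y'} (hξ : ξ ∈ 𝒴' j₀) : ξ ∈ socR m'.toIdeal Y' := by
  intro r hr
  rw [hm'sp] at hr
  refine Submodule.span_induction (p := fun r _ => r • ξ = 0) ?_ ?_ ?_ ?_ hr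
  · intro r hr
    obtain ⟨i, hi, hri⟩ := Set.mem_iUnion₂.mp hr
    have hi' : 0 < i := hi
    apply hinj
    rw [map_smulₛₗ, map_zero]
    have h1 := SetLike.GradedSMul.smul_mem (A := 𝒜) (B := 𝒴) (V.map_mem hri) (hψ1 _ _ hξ)
    rw [vadd_eq_add] at h1
    refine eq_zero_of_lt hpos P ?_ h1
    have hq := V.qpos
    have h2 : 0 ≤ (i - 1) * (V.q : ℤ) := mul_nonneg (by omega) hq.le
    nlinarith
  · exact zero_smul _ _
  · intro x y _ _ hx hy
    rw [add_smul, hx, hy, add_zero]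
  · intro c x _ hx
    rw [smul_eq_mul, mul_smul, hx, smul_zero]

include hpos hstd hinj hψ1 P hm'sp hρ hρ0 hρq in
theorem eq_of_mem_socR {j : ℤ} {ξ : Y'} (hξ : ξ ∈ 𝒴' j) (hsoc : ξ ∈ socR m'.toIdeal Y')
    (hne : ξ ≠ 0) : j = j₀ := by
  have hψne : ψ ξ ≠ 0 := fun h => hne (hinj (h.trans (map_zero ψ).symm))
  have hkill : ∀ r ∈ 𝒜 (V.q : ℤ), r • ψ ξ = 0 := by
    intro r hr
    have hr' : r ∈ 𝒜 (1 * V.q) := by
      rw [one_mul]
      exact hr
    obtain ⟨r', hr'm, rfl⟩ := V.exists_of_mem hr'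
    have hm : r' ∈ m'.toIdeal := by
      rw [hm'sp]
      exact Ideal.subset_span (Set.mem_biUnion (Set.mem_Ioi.mpr Int.one_pos) hr'm)
    rw [← map_smulₛₗ, hsoc r' hm, map_zero]
  obtain ⟨h1, h2⟩ := lt_and_le_of_kill hpos P hstd (V.q : ℤ) V.qpos.le (hψ1 _ _ hξ) hψne hkill
  have hq := V.qpos
  have h3 : j < j₀ + 1 := by
    refine lt_of_mul_lt_mul_right (a := (V.q : ℤ)) ?_ hq.le
    nlinarith
  have h4 : j₀ - 1 < j := by
    refine lt_of_mul_lt_mul_right (a := (V.q : ℤ)) ?_ hq.le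
    nlinarith
  omega

include hpos hstd hinj hψ1 P hm'sp hρ hρ0 hρq in
theorem mem_of_mem_socR {y : Y'} (hy : y ∈ socR m'.toIdeal Y') : y ∈ 𝒴' j₀ := by
  classical
  have hhom : (socR m'.toIdeal Y').IsHomogeneous 𝒴' :=
    socR_isHomogeneous m' (GrLC.GMod.of 𝒜' Y' 𝒴')
  rw [← DirectSum.sum_support_decompose 𝒴' y]
  refine AddSubgroup.sum_mem _ (fun j _ => ?_)
  by_cases hne : ((decompose 𝒴' y) j : Y') = 0
  · rw [hne]
    exact zero_mem _
  · have hj := eq_of_mem_socR V hpos hstd ψ hinj hψ1 P m' hm'sp j₀ ρ hρ hρ0 hρq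
      (SetLike.coe_mem ((decompose 𝒴' y) j)) (hhom j hy) hne
    rw [← hj]
    exact SetLike.coe_mem _

include hpos h0 hstd hinj hψ1 hψ2 P hm'sp hρ hρ0 hρq in
/-- A basis of the socle of the Veronese module, with `dim_k R_ρ` elements. -/
theorem exists_socle_basis [IsNoetherianRing R] :
    ∃ w : Fin (Module.finrank (GrLC.deg0 𝒜) ↥(GrLC.comp 𝒜 𝒜 ρ)) → Y',
      (∀ α, w α ∈ socR m'.toIdeal Y') ∧
      (∀ c : Fin (Module.finrank (GrLC.deg0 𝒜) ↥(GrLC.comp 𝒜 𝒜 ρ)) →₀ R',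
        (∀ α, c α ∈ 𝒜' 0) → Finsupp.linearCombination R' w c = 0 → ∀ α, c α = 0) ∧
      (∀ y ∈ socR m'.toIdeal Y',
        ∃ c : Fin (Module.finrank (GrLC.deg0 𝒜) ↥(GrLC.comp 𝒜 𝒜 ρ)) →₀ R',
          y = Finsupp.linearCombination R' w c) := by
  classical
  let _ : Field (GrLC.deg0 𝒜) := h0.toField
  obtain ⟨hfin, hrank⟩ := finrank_comp_dpack hpos P h0 ρ
  let β : Module.Basis (Fin (Module.finrank (GrLC.deg0 𝒜) ↥(GrLC.comp 𝒜 𝒜 ρ))) (GrLC.deg0 𝒜)
      ↥(GrLC.comp 𝒜 𝒴 (a - ρ)) := Module.finBasisOfFinrankEq _ _ hrank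
  have hy : ∀ α, ((β α : ↥(GrLC.comp 𝒜 𝒴 (a - ρ))) : Y) ∈ 𝒴 (j₀ * V.q) := by
    intro α
    rw [← hρ]
    exact (β α).2
  choose ξ hξmem hξψ using fun α => hψ2 j₀ _ (hy α)
  refine ⟨ξ, fun α => mem_socR_of_mem V hpos ψ hinj hψ1 P m' hm'sp j₀ ρ hρ hρq (hξmem α), ?_, ?_⟩
  · intro c hc0 hLC α
    have h1 : ψ (Finsupp.linearCombination R' ξ c) = 0 := by rw [hLC, map_zero]
    rw [Finsupp.linearCombination_apply, Finsupp.sum_fintype _ _ (fun i => zero_smul R' (ξ i)),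
      map_sum] at h1
    have hκ : ∀ α, V.φ (c α) ∈ 𝒜 0 := fun α => by
      have h2 := V.map_mem (hc0 α)
      rwa [zero_mul] at h2
    have h2 : ∑ α, (⟨V.φ (c α), hκ α⟩ : GrLC.deg0 𝒜) • β α = 0 := by
      apply Subtype.ext
      rw [Submodule.coe_sum, Submodule.coe_zero, ← h1]
      refine Finset.sum_congr rfl (fun α _ => ?_)
      rw [map_smulₛₗ, hξψ]
      rfl
    have h3 := Fintype.linearIndependent_iff.mp β.linearIndependent
      (fun α => (⟨V.φ (c α), hκ α⟩ : GrLC.deg0 𝒜)) h2 α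
    have h4 : V.φ (c α) = 0 := congrArg Subtype.val h3
    exact V.inj (h4.trans (map_zero V.φ).symm)
  · intro y hy'
    have hyj : y ∈ 𝒴' j₀ :=
      mem_of_mem_socR V hpos hstd ψ hinj hψ1 P m' hm'sp j₀ ρ hρ hρ0 hρq hy'
    have hψy : ψ y ∈ 𝒴 (a - ρ) := by
      rw [hρ]
      exact hψ1 _ _ hyj
    have hsum := β.sum_repr ⟨ψ y, hψy⟩
    have hex : ∀ α, ∃ r' ∈ 𝒜' 0, V.φ r' = ((β.repr ⟨ψ y, hψy⟩ α : GrLC.deg0 𝒜) : R) := by
      intro α
      have h1 : ((β.repr ⟨ψ y, hψy⟩ α : GrLC.deg0 𝒜) : R) ∈ 𝒜 (0 * V.q) := by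
        rw [zero_mul]
        exact (β.repr ⟨ψ y, hψy⟩ α).2
      exact V.exists_of_mem h1
    choose κ' hκ'0 hκ' using hex
    refine ⟨Finsupp.equivFunOnFinite.symm κ', ?_⟩
    apply hinj
    rw [Finsupp.linearCombination_apply, Finsupp.sum_fintype _ _ (fun i => zero_smul R' (ξ i)),
      map_sum]
    have h5 : ((∑ α, β.repr ⟨ψ y, hψy⟩ α • β α : ↥(GrLC.comp 𝒜 𝒴 (a - ρ))) : Y) = ψ y :=
      congrArg Subtype.val hsum
    rw [Submodule.coe_sum] at h5
    rw [← h5]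
    refine Finset.sum_congr rfl (fun α _ => ?_)
    rw [map_smulₛₗ, hξψ, Finsupp.coe_equivFunOnFinite_symm, hκ']
    rfl

end ver

/-! ### Gorenstein graded rings over a field -/

section gor

variable {R : Type u} [CommRing R] {𝒜 : ℤ → AddSubgroup R} [GradedRing 𝒜]
  [hG : LocCoh.IsGorensteinRing R]
  (hpos : ∀ n : ℤ, n < 0 → 𝒜 n = ⊥) (h0 : IsField (GrLC.deg0 𝒜))
  (m : HomogeneousIdeal 𝒜) (hm : GrLC.IsStarLocal 𝒜 m)
  (hmsp : m.toIdeal = Ideal.span (⋃ n ∈ Set.Ioi (0 : ℤ), (𝒜 n : Set R)))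
  (n : ℕ) (hn : ringKrullDim R = (n : WithBot ℕ∞)) (I : GrLC.StarInjRes 𝒜 𝒜) (a : ℤ)
  (ha : GrLC.endDeg (I.Hgr m n) = ((a : WithTop ℤ) : WithBot (WithTop ℤ)))

include hpos h0 hm hmsp hn ha in
/-- The local cohomology of a Gorenstein graded ring over a field: vanishing outside `n = dim R`,
and a dual package in degree `a(R)` on `H^n_m(R)`. -/
theorem exists_dpack_of_gorenstein :
    (∀ j, j ≠ n → Subsingleton (I.H m j)) ∧ ∃ η, DPack 𝒜 (I.Hgr m n) a η := by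
  classical
  haveI hmax : m.toIdeal.IsMaximal :=
    Groth.Agent.Lib.R2H7.GrHt.isMaximal_of_isCoatom 𝒜 hpos m hm.1
  have hht : m.toIdeal.height = n := by
    have h1 := Groth.Agent.Lib.R2H7.GrHt.ringKrullDim_le_height 𝒜 hpos m hm
    have h2 := Ideal.height_le_ringKrullDim_of_ne_top hmax.ne_top
    rw [hn] at h1 h2
    exact_mod_cast le_antisymm h2 h1
  obtain ⟨EX, e, he⟩ := exists_hull_residue m
  obtain ⟨hvan, s, χ, hχ1, hχ2⟩ :=
    exists_equiv_of_isGorensteinRing m EX.gr n hht I e he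
  have P := dpack_of_equiv hpos h0 m hm hmsp EX.gr e he (I.Hgr m n) s χ hχ1 hχ2
  have hc : -s = a := dpack_top hpos P a ha
  refine ⟨hvan, χ.symm (x0 m e), ?_⟩
  rw [← hc]
  exact P

variable {R' : Type u} [CommRing R'] {𝒜' : ℤ → AddSubgroup R'} [GradedRing 𝒜']
  (V : VerData 𝒜 𝒜') (m' : HomogeneousIdeal 𝒜')
  (hm'sp : m'.toIdeal = Ideal.span (⋃ j ∈ Set.Ioi (0 : ℤ), (𝒜' j : Set R')))

include hmsp hm'sp in
/-- The Veronese comparison of local cohomology, for all degrees. -/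
theorem exists_psi_all (hvan : ∀ j, j ≠ n → Subsingleton (I.H m j))
    (F : GrLC.StarInjRes 𝒜' 𝒜') :
    (∀ j, j ≠ n → Subsingleton (F.H m' j)) ∧
    ∃ ψ : F.H m' n →ₛₗ[V.φ] I.H m n, Function.Injective ψ ∧
      (∀ (j : ℤ) (ξ : F.H m' n), ξ ∈ F.Hgr m' n j → ψ ξ ∈ I.Hgr m n (j * V.q)) ∧
      (∀ (j : ℤ) (η : I.H m n), η ∈ I.Hgr m n (j * V.q) → ∃ ξ ∈ F.Hgr m' n j, ψ ξ = η) := by
  have hψ : ∀ p : ℕ, ∃ ψ : F.H m' p →ₛₗ[V.φ] I.H m p, Function.Injective ψ ∧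
      (∀ (j : ℤ) (ξ : F.H m' p), ξ ∈ F.Hgr m' p j → ψ ξ ∈ I.Hgr m p (j * V.q)) ∧
      (∀ (j : ℤ) (η : I.H m p), η ∈ I.Hgr m p (j * V.q) → ∃ ξ ∈ F.Hgr m' p j, ψ ξ = η) :=
    fun p => exists_veronese_H V m m' hmsp hm'sp
      (X := GrLC.GMod.of 𝒜 R 𝒜) (X' := GrLC.GMod.of 𝒜' R' 𝒜') I F (V.φ : R' →+ R)
      (fun r' x' => map_mul V.φ r' x') V.inj V.hdeg p
  refine ⟨fun j hj => ?_, hψ n⟩
  obtain ⟨ψ, hψinj, -, -⟩ := hψ j
  haveI := hvan j hj
  exact ⟨fun x y => hψinj (Subsingleton.elim _ _)⟩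

include hpos h0 hm hmsp hn ha hm'sp in
/-- The type of the Veronese subring `R^(q)` of a Gorenstein graded ring `R` generated in degree
one over the field `R_0`: `r(R^(q)) = dim_k R_ρ`, `ρ` the remainder of `a(R)` modulo `q`. -/
theorem bassNum_ver
    (hstd : Ideal.span (⋃ n ∈ Set.Ioi (0 : ℤ), (𝒜 n : Set R)) =
      Ideal.span ((𝒜 1 : AddSubgroup R) : Set R))
    [hmax' : m'.toIdeal.IsMaximal] (ρ : ℤ) (hρ0 : 0 ≤ ρ) (hρq : ρ < V.q)
    (hρa : (V.q : ℤ) ∣ a - ρ) :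
    GrLC.bassNum m'.toIdeal R' n =
      (Module.finrank (GrLC.deg0 𝒜) (GrLC.comp 𝒜 𝒜 ρ) : ℕ∞) := by
  classical
  haveI hR' : IsNoetherianRing R' := V.isNoetherianRing_ver
  have hpos' := hpos_ver V hpos
  obtain ⟨hvan, η, P⟩ := exists_dpack_of_gorenstein hpos h0 m hm hmsp n hn I a ha
  obtain ⟨hvan', ψ, hψinj, hψ1, hψ2⟩ :=
    exists_psi_all m hmsp n I V m' hm'sp hvan (minRes 𝒜' 𝒜')
  obtain ⟨j₀, hj₀⟩ := hρa
  have hρ : a - ρ = j₀ * V.q := by rw [hj₀, mul_comm]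
  obtain ⟨w, hwa, hwb, hwc⟩ :=
    exists_socle_basis V hpos h0 hstd ψ hψinj hψ1 hψ2 P m' hm'sp j₀ ρ hρ hρ0 hρq
  rw [bassNum_eq_card hpos' m' hm'sp (minRes 𝒜' 𝒜') (minRes_isMin 𝒜' 𝒜') n
    (fun j hj => hvan' j (by omega)) w hwa hwb hwc]
  simp

end gor

end Groth.Agent.Lib.R2H7.GrType
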