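/-
The type of a Cohen-Macaulay graded ring over a field is the minimal number of generators of its
*canonical module: `μ^n(m, R) = dim_k (k ⊗_R C)`.

`μ^n(m, R)` is the dimension of the socle of `H^n_m(R)` (`R2H7GrType.bassNum_eq_card`); under the
isomorphism `Hom_R(C, E') ≅ H^n_m(R)` the socle corresponds to the maps `C → E'` killed by `m`, that
is to `Hom_R(C / m C, soc E') = Hom_k(k ⊗_R C, k)`.
-/
import Mathlib
import Groth.Agent.Lib.R2H7GrType
import Groth.Agent.Lib.R2H7GrGorInj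
import Groth.Agent.Lib.R2H7GrCanLoc

set_option autoImplicit false
open DirectSum
open scoped TensorProduct

noncomputable section

namespace Groth.Agent.Lib.R2H7.GrCanType

open Groth.Agent.Lib.Helper29GrHom Groth.Agent.Lib.Helper29GrEss
  Groth.Agent.Lib.R2H7.GrOps Groth.Agent.Lib.R2H7.GrMinRes Groth.Agent.Lib.R2H7.GrBass
  Groth.Agent.Lib.R2H7.GrCanDict Groth.Agent.Lib.R2H7.GrType

universe u

/-! ### The socle of `Hom_R(C, E')` -/

section hom

variable {R : Type u} [CommRing R] (m : Ideal R) [hm : m.IsMaximal]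
  {C E' : Type u} [AddCommGroup C] [Module R C] [AddCommGroup E'] [Module R E']
  [Module.Finite R C]
  (e : (R ⧸ m) →ₗ[R] E') (he : Function.Injective e)
  (hsoc : ∀ x ∈ socR m E', ∃ t, e t = x)

include he hsoc in
theorem exists_socle_hom_basis :
    ∃ g : Fin (Module.finrank (R ⧸ m) ((R ⧸ m) ⊗[R] C)) → (C →ₗ[R] E'),
      (∀ i, g i ∈ socR m (C →ₗ[R] E')) ∧
      (∀ c : Fin (Module.finrank (R ⧸ m) ((R ⧸ m) ⊗[R] C)) →₀ R,
        Finsupp.linearCombination R g c = 0 → ∀ i, c i ∈ m) ∧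
      (∀ f ∈ socR m (C →ₗ[R] E'),
        ∃ c : Fin (Module.finrank (R ⧸ m) ((R ⧸ m) ⊗[R] C)) →₀ R,
          f = Finsupp.linearCombination R g c) := by
  classical
  letI : Field (R ⧸ m) := Ideal.Quotient.field m
  obtain ⟨b⟩ : Nonempty (Module.Basis (Fin (Module.finrank (R ⧸ m) ((R ⧸ m) ⊗[R] C))) (R ⧸ m)
      ((R ⧸ m) ⊗[R] C)) := ⟨Module.finBasis (R ⧸ m) ((R ⧸ m) ⊗[R] C)⟩
  obtain ⟨ι, hι⟩ : ∃ ι : C →ₗ[R] (R ⧸ m) ⊗[R] C, ∀ x, ι x = (1 : R ⧸ m) ⊗ₜ[R] x :=
    ⟨TensorProduct.mk R (R ⧸ m) C 1, fun x => rfl⟩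
  have hmk : ∀ (r : R) (t : R ⧸ m), r • t = Ideal.Quotient.mk m r * t := by
    intro r t
    rw [Algebra.smul_def]
    rfl
  -- a `k`-linear functional vanishing on the image of `C` is zero
  have hspan : ∀ lam : ((R ⧸ m) ⊗[R] C) →ₗ[R ⧸ m] (R ⧸ m), (∀ x, lam (ι x) = 0) →
      ∀ v, lam v = 0 := by
    intro lam h v
    induction v using TensorProduct.induction_on with
    | zero => rw [map_zero]
    | tmul t x =>
      have h1 : t ⊗ₜ[R] x = t • ((1 : R ⧸ m) ⊗ₜ[R] x) := by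
        rw [TensorProduct.smul_tmul', smul_eq_mul, mul_one]
      rw [h1, map_smul, ← hι, h x, smul_zero]
    | add v w hv hw => rw [map_add, hv, hw, add_zero]
  obtain ⟨g, hg⟩ : ∃ g : Fin (Module.finrank (R ⧸ m) ((R ⧸ m) ⊗[R] C)) → (C →ₗ[R] E'),
      ∀ i x, g i x = e (b.coord i (ι x)) :=
    ⟨fun i => e ∘ₗ ((b.coord i).restrictScalars R) ∘ₗ ι, fun i x => rfl⟩
  have hsum : ∀ (c : Fin (Module.finrank (R ⧸ m) ((R ⧸ m) ⊗[R] C)) →₀ R) (x : C),
      Finsupp.linearCombination R g c x =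
        e (∑ i, Ideal.Quotient.mk m (c i) * b.coord i (ι x)) := by
    intro c x
    rw [Finsupp.linearCombination_apply, Finsupp.sum_fintype _ _ (fun i => zero_smul R (g i)),
      LinearMap.sum_apply, map_sum]
    refine Finset.sum_congr rfl (fun i _ => ?_)
    rw [LinearMap.smul_apply, hg, ← map_smul, hmk]
  refine ⟨g, ?_, ?_, ?_⟩
  · intro i r hr
    apply LinearMap.ext
    intro x
    rw [LinearMap.smul_apply, hg, ← map_smul, hmk, Ideal.Quotient.eq_zero_iff_mem.mpr hr,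
      zero_mul, map_zero, LinearMap.zero_apply]
  · intro c hc i
    have h1 : ∀ x, (∑ j, Ideal.Quotient.mk m (c j) • b.coord j) (ι x) = 0 := by
      intro x
      apply he
      rw [map_zero, LinearMap.sum_apply]
      have h2 := hsum c x
      rw [hc, LinearMap.zero_apply] at h2
      rw [h2]
      refine congrArg e (Finset.sum_congr rfl (fun j _ => ?_))
      rw [LinearMap.smul_apply, smul_eq_mul]
    have h4 := hspan _ h1 (b i)
    rw [LinearMap.sum_apply] at h4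
    have h5 : ∑ j, (Ideal.Quotient.mk m (c j) • b.coord j) (b i) = Ideal.Quotient.mk m (c i) := by
      rw [Finset.sum_eq_single i]
      · rw [LinearMap.smul_apply, Module.Basis.coord_apply, Module.Basis.repr_self,
          Finsupp.single_eq_same, smul_eq_mul, mul_one]
      · intro j _ hji
        rw [LinearMap.smul_apply, Module.Basis.coord_apply, Module.Basis.repr_self,
          Finsupp.single_eq_of_ne hji, smul_zero]
      · intro h
        exact absurd (Finset.mem_univ i) h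
    rw [h5] at h4
    exact Ideal.Quotient.eq_zero_iff_mem.mp h4
  · intro f hf
    -- the values of `f` lie in the socle of `E'`
    have hfs : ∀ x, f x ∈ socR m E' := by
      intro x r hr
      have h1 := LinearMap.congr_fun (hf r hr) x
      rw [LinearMap.smul_apply, LinearMap.zero_apply] at h1
      exact h1
    obtain ⟨f', hf'⟩ : ∃ f' : C →ₗ[R] (R ⧸ m), ∀ x, e (f' x) = f x := by
      have hr : ∀ x, f x ∈ LinearMap.range e := fun x => hsoc _ (hfs x)
      refine ⟨(LinearEquiv.ofInjective e he).symm.toLinearMap ∘ₗ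
        f.codRestrict (LinearMap.range e) hr, fun x => ?_⟩
      have h1 : e ((LinearEquiv.ofInjective e he).symm (f.codRestrict (LinearMap.range e) hr x)) =
          ((LinearEquiv.ofInjective e he)
            ((LinearEquiv.ofInjective e he).symm
              (f.codRestrict (LinearMap.range e) hr x)) : E') := rfl
      show e ((LinearEquiv.ofInjective e he).symm (f.codRestrict (LinearMap.range e) hr x)) = f x
      rw [h1, LinearEquiv.apply_symm_apply]
      rfl
    obtain ⟨lam, hlam⟩ : ∃ lam : ((R ⧸ m) ⊗[R] C) →ₗ[R ⧸ m] (R ⧸ m), ∀ x, lam (ι x) = f' x := by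
      refine ⟨LinearMap.liftBaseChange (R ⧸ m) f', fun x => ?_⟩
      rw [hι, LinearMap.liftBaseChange_tmul, one_smul]
    choose c' hc' using fun i => Ideal.Quotient.mk_surjective (I := m) (lam (b i))
    refine ⟨Finsupp.equivFunOnFinite.symm c', ?_⟩
    apply LinearMap.ext
    intro x
    rw [hsum, ← hf', ← hlam]
    congr 1
    have h1 : lam (ι x) = lam (∑ i, b.repr (ι x) i • b i) := by
      rw [b.sum_repr]
    rw [h1, map_sum]
    refine Finset.sum_congr rfl (fun i _ => ?_)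
    rw [map_smul, smul_eq_mul, Finsupp.coe_equivFunOnFinite_symm, hc',
      Module.Basis.coord_apply, mul_comm]

end hom

/-! ### The type of the ring -/

section type

variable {R : Type u} [CommRing R] [LocCoh.IsCohenMacaulayRing R] {𝒜 : ℤ → AddSubgroup R}
  [GradedRing 𝒜]
  (hpos : ∀ n : ℤ, n < 0 → 𝒜 n = ⊥) (h0 : IsField (GrLC.deg0 𝒜))
  (m : HomogeneousIdeal 𝒜) (hm : GrLC.IsStarLocal 𝒜 m)
  (hmsp : m.toIdeal = Ideal.span (⋃ n ∈ Set.Ioi (0 : ℤ), (𝒜 n : Set R)))
  [hmax : m.toIdeal.IsMaximal]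
  {E' : Type u} [AddCommGroup E'] [Module R E'] (𝓔 : ℤ → AddSubgroup E')
  [DirectSum.Decomposition 𝓔] [SetLike.GradedSMul 𝒜 𝓔]
  (e : (R ⧸ m.toIdeal) →ₗ[R] E') (he : GrLC.IsStarInjHull 𝒜 (GrLC.quotGr 𝒜 m) 𝓔 e)

include hpos hmsp he in
/-- The socle of the *injective envelope of `R/m` is the image of `R/m`. -/
theorem exists_of_mem_socR {x : E'} (hx : x ∈ socR m.toIdeal E') : ∃ t, e t = x := by
  by_cases hx0 : x = 0
  · exact ⟨0, by rw [map_zero, hx0]⟩
  have hK := range_e_isHomogeneous hpos m hmsp 𝓔 e he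
  obtain ⟨h, r, -, hr0, ⟨t, ht⟩⟩ := exists_smul_mem 𝒜 𝓔 (LinearMap.range e) hK he.essential x hx0
  have hrm : r ∉ m.toIdeal := fun hrm => hr0 (hx r hrm)
  obtain ⟨w, hw⟩ := exists_smul_eq hx hrm
  refine ⟨w • t, ?_⟩
  rw [map_smul, ht]
  exact hw

include hpos hm in
theorem height_eq (n : ℕ) (hn : ringKrullDim R = n) : m.toIdeal.height = n := by
  have h1 := Groth.Agent.Lib.R2H7.GrHt.ringKrullDim_le_height 𝒜 hpos m hm
  rw [hn] at h1
  have h2 : (n : ℕ∞) ≤ m.toIdeal.height := by exact_mod_cast h1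
  have h3 : ((m.toIdeal.height : ℕ∞) : WithBot ℕ∞) ≤ ringKrullDim R :=
    Ideal.height_le_ringKrullDim_of_isPrime
  rw [hn] at h3
  have h4 : m.toIdeal.height ≤ (n : ℕ∞) := by exact_mod_cast h3
  exact le_antisymm h4 h2

include hpos h0 hm hmsp he in
/-- `μ^n(m, R) = dim_k (k ⊗_R C)` for a *canonical module `C`. -/
theorem bassNum_eq_finrank (n : ℕ) (hn : ringKrullDim R = n) (I : GrLC.StarInjRes 𝒜 𝒜)
    {C : Type u} [AddCommGroup C] [Module R C] (𝒞 : ℤ → AddSubgroup C)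
    [DirectSum.Decomposition 𝒞] [SetLike.GradedSMul 𝒜 𝒞]
    (hC : GrLC.IsStarCanonical 𝒜 𝒞 𝓔 m n I) :
    GrLC.bassNum m.toIdeal R n =
      (Module.finrank (R ⧸ m.toIdeal) ((R ⧸ m.toIdeal) ⊗[R] C) : ℕ∞) := by
  classical
  obtain ⟨hfin, φ, -⟩ := hC
  have := hfin
  have hht := height_eq hpos m hm n hn
  obtain ⟨g, hg1, hg2, hg3⟩ := exists_socle_hom_basis m.toIdeal e he.injective
    (fun x hx => exists_of_mem_socR hpos m hmsp 𝓔 e he hx) (C := C)
  obtain ⟨ψ, hψ⟩ : ∃ ψ : (C →ₗ[R] E') ≃ₗ[R] (minRes 𝒜 𝒜).H m n, True :=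
    ⟨φ.trans (hEquiv (X := GrLC.GMod.of 𝒜 R 𝒜) m I (minRes 𝒜 𝒜) n), trivial⟩
  have hcomb : ∀ c : Fin (Module.finrank (R ⧸ m.toIdeal) ((R ⧸ m.toIdeal) ⊗[R] C)) →₀ R,
      Finsupp.linearCombination R (fun i => ψ (g i)) c =
        ψ (Finsupp.linearCombination R g c) := by
    intro c
    rw [Finsupp.linearCombination_apply, Finsupp.linearCombination_apply, map_finsuppSum]
    refine Finsupp.sum_congr (fun i _ => ?_)
    rw [map_smul]
  have key := bassNum_eq_card hpos m hmsp (minRes 𝒜 𝒜) (minRes_isMin 𝒜 𝒜) n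
    (fun j hj => Groth.Agent.Lib.R2H7.GrGorInj.subsingleton_H_of_lt m hm n hht (minRes 𝒜 𝒜) j hj)
    (fun i => ψ (g i)) ?_ ?_ ?_
  · rw [key]
    simp
  · intro i r hr
    rw [← map_smul, hg1 i r hr, map_zero]
  · intro c hc0 hc i
    rw [hcomb] at hc
    have h1 : Finsupp.linearCombination R g c = 0 := ψ.injective (by rw [hc, map_zero])
    exact eq_zero_of_mem0_of_mem h0 m hm (hc0 i) (hg2 c h1 i)
  · intro y hy
    have h1 : ψ.symm y ∈ socR m.toIdeal (C →ₗ[R] E') := by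
      intro r hr
      rw [← map_smul, hy r hr, map_zero]
    obtain ⟨c, hc⟩ := hg3 _ h1
    refine ⟨c, ?_⟩
    rw [hcomb, ← hc, ψ.apply_symm_apply]

include hpos hm he in
/-- `μ^n(m, C) = 1` for a *canonical module `C`. -/
theorem bassNum_canonical (n : ℕ) (hn : ringKrullDim R = n) (I : GrLC.StarInjRes 𝒜 𝒜)
    {C : Type u} [AddCommGroup C] [Module R C] (𝒞 : ℤ → AddSubgroup C)
    [DirectSum.Decomposition 𝒞] [SetLike.GradedSMul 𝒜 𝒞]
    (hC : GrLC.IsStarCanonical 𝒜 𝒞 𝓔 m n I) : GrLC.bassNum m.toIdeal C n = 1 := by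
  obtain ⟨hfin, φ, -⟩ := hC
  have := hfin
  have hull := Groth.Agent.Lib.R2H7.GrInjMax.isInjectiveHull_of_isStarInjHull 𝒜 m 𝓔 e he
  have htors : ∀ x : E', ∃ k : ℕ, ∀ r ∈ m.toIdeal ^ k, r • x = 0 := by
    intro x
    have htop := Groth.Agent.S13220.result R 𝒜 m E' 𝓔 e he
    have hx : x ∈ GrLC.gam m.toIdeal E' := by
      rw [htop]
      exact Submodule.mem_top
    exact hx
  obtain ⟨f, hf⟩ := Groth.Agent.Lib.R2H7.GrCanLoc.exists_hull m.toIdeal e hull htors
  obtain ⟨σ⟩ := Groth.Agent.S13224.result R 𝒜 m R 𝒜 I n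
  obtain ⟨eK⟩ := Groth.Agent.Lib.R2H7.GrCanLoc.exists_eK m.toIdeal (E' := E') n (φ.trans σ)
  have hCM : LocCoh.IsCohenMacaulayLocalRing (Localization.AtPrime m.toIdeal) :=
    LocCoh.IsCohenMacaulayRing.isCohenMacaulayLocalRing_localization m.toIdeal
  have hdim : ringKrullDim (Localization.AtPrime m.toIdeal) = n := by
    rw [IsLocalization.AtPrime.ringKrullDim_eq_height m.toIdeal (Localization.AtPrime m.toIdeal),
      height_eq hpos m hm n hn]
    rfl
  exact Groth.Agent.Lib.R2H7.GrCanLoc.bassNumLocal_canonical _ f hf n hdim _ eK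

end type

end Groth.Agent.Lib.R2H7.GrCanType
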