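/-
The *canonical module of a Cohen-Macaulay graded ring over a field is Cohen-Macaulay at the graded
maximal ideal and has finite injective dimension (at most `dim R + 1`, from the local statement at
`m`, transfer of Bass numbers to the homogeneous primes and the Goto–Watanabe shift at the
non-homogeneous ones).
-/
import Mathlib
import Groth.Agent.Lib.R2H7GrCanType
import Groth.Agent.Lib.R2H7GrInjDim
import Groth.Agent.Lib.Helper8CanonCM

set_option autoImplicit false
open DirectSum CategoryTheory CategoryTheory.Abelian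

namespace Groth.Agent.Lib.R2H7.GrCanInj

open Groth.Agent.Lib.Helper29ExtSes Groth.Agent.Lib.Helper29GrExtLoc
  Groth.Agent.Lib.R2H7.GrCoreBass Groth.Agent.Lib.R2H7.InjDimBass Groth.Agent.Lib.R2H7.GrCanType
  IsLocalRing

universe u

section transfer

variable {R : Type u} [CommRing R] [IsNoetherianRing R] (Y : Type u) [AddCommGroup Y] [Module R Y]

/-- If `Y_m` has injective dimension `< k` over `R_m`, the Bass numbers `μ^j(p, Y)` vanish for all
primes `p ≤ m` and `j ≥ k`. -/
theorem subsingleton_ext_residue_of_le (m : Ideal R) [m.IsPrime] (k : ℕ)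
    (hid : HasInjectiveDimensionLT (ModuleCat.of (Localization.AtPrime m)
      (LocalizedModule m.primeCompl Y)) k)
    (p : Ideal R) [p.IsPrime] (hpm : p ≤ m) (j : ℕ) (hj : k ≤ j) :
    Subsingleton (Ext.{u} (ModuleCat.of (Localization.AtPrime p)
        (ResidueField (Localization.AtPrime p)))
      (ModuleCat.of (Localization.AtPrime p) (LocalizedModule p.primeCompl Y)) j) := by
  have h1 : Subsingleton (Ext.{u} (ModuleCat.of (Localization.AtPrime m)
      (LocalizedModule m.primeCompl (R ⧸ p)))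
      (ModuleCat.of (Localization.AtPrime m) (LocalizedModule m.primeCompl Y)) j) :=
    HasInjectiveDimensionLT.subsingleton.{u} _ k j hj _
  have h2 := (Groth.Agent.Lib.Helper8.ExtLoc.ext_loc m.primeCompl
    (LocalizedModule.mkLinearMap m.primeCompl Y) j (R ⧸ p)
    (LocalizedModule m.primeCompl (R ⧸ p))
    (LocalizedModule.mkLinearMap m.primeCompl (R ⧸ p))).mpr h1
  have h3 : ∀ x : Ext.{u} (ModuleCat.of R (R ⧸ p)) (ModuleCat.of R Y) j,
      ∃ s : p.primeCompl, (s : R) • x = 0 := by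
    intro x
    obtain ⟨s, hs⟩ := h2 x
    exact ⟨⟨s, fun hsp => s.2 (hpm hsp)⟩, hs⟩
  have h4 := (Groth.Agent.Lib.Helper8.ExtLoc.ext_loc p.primeCompl
    (LocalizedModule.mkLinearMap p.primeCompl Y) j (R ⧸ p)
    (LocalizedModule p.primeCompl (R ⧸ p))
    (LocalizedModule.mkLinearMap p.primeCompl (R ⧸ p))).mp h3
  exact ⟨fun x y => by
    rw [ext_eq_zero_of_iso (resIso p) j h4 x, ext_eq_zero_of_iso (resIso p) j h4 y]⟩

end transfer

section main

variable {R : Type u} [CommRing R] [LocCoh.IsCohenMacaulayRing R] {𝒜 : ℤ → AddSubgroup R}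
  [GradedRing 𝒜]
  (hpos : ∀ n : ℤ, n < 0 → 𝒜 n = ⊥)
  (m : HomogeneousIdeal 𝒜) (hm : GrLC.IsStarLocal 𝒜 m)
  [hmax : m.toIdeal.IsMaximal]
  {E' : Type u} [AddCommGroup E'] [Module R E'] (𝓔 : ℤ → AddSubgroup E')
  [DirectSum.Decomposition 𝓔] [SetLike.GradedSMul 𝒜 𝓔]
  (e : (R ⧸ m.toIdeal) →ₗ[R] E') (he : GrLC.IsStarInjHull 𝒜 (GrLC.quotGr 𝒜 m) 𝓔 e)

include hpos hm he in
/-- The *canonical module is Cohen–Macaulay at `m` and has injective dimension `≤ n + 1`. -/
theorem canonical_cm_injdim (n : ℕ) (hn : ringKrullDim R = n) (I : GrLC.StarInjRes 𝒜 𝒜)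
    {C : Type u} [AddCommGroup C] [Module R C] (𝒞 : ℤ → AddSubgroup C)
    [DirectSum.Decomposition 𝒞] [SetLike.GradedSMul 𝒜 𝒞]
    (hC : GrLC.IsStarCanonical 𝒜 𝒞 𝓔 m n I) :
    LocCoh.IsCohenMacaulayModule (Localization.AtPrime m.toIdeal)
        (LocalizedModule m.toIdeal.primeCompl C) ∧
      HasInjectiveDimensionLT (ModuleCat.of R C) (n + 1 + 1) := by
  obtain ⟨hfin, φ, -⟩ := hC
  have := hfin
  have hull := Groth.Agent.Lib.R2H7.GrInjMax.isInjectiveHull_of_isStarInjHull 𝒜 m 𝓔 e he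
  have htors : ∀ x : E', ∃ k : ℕ, ∀ r ∈ m.toIdeal ^ k, r • x = 0 := by
    intro x
    have htop := Groth.Agent.S13220.result R 𝒜 m E' 𝓔 e he
    have hx : x ∈ GrLC.gam m.toIdeal E' := by
      rw [htop]
      exact Submodule.mem_top
    exact hx
  obtain ⟨f, hf⟩ := Groth.Agent.Lib.R2H7.GrCanLoc.exists_hull m.toIdeal e hull htors
  obtain ⟨σ⟩ := Groth.Agent.S13224.result R 𝒜 m R 𝒜 I n
  obtain ⟨eK⟩ := Groth.Agent.Lib.R2H7.GrCanLoc.exists_eK m.toIdeal (E' := E') n (φ.trans σ)
  have hCM : LocCoh.IsCohenMacaulayLocalRing (Localization.AtPrime m.toIdeal) :=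
    LocCoh.IsCohenMacaulayRing.isCohenMacaulayLocalRing_localization m.toIdeal
  have hdim : ringKrullDim (Localization.AtPrime m.toIdeal) = n := by
    rw [IsLocalization.AtPrime.ringKrullDim_eq_height m.toIdeal (Localization.AtPrime m.toIdeal),
      height_eq hpos m hm n hn]
    rfl
  have hCMmod := Groth.Agent.Lib.Helper8.CanonCM.isCohenMacaulayModule_K n hdim _ f hf _ eK
  have hid := Groth.Agent.Lib.Helper8.CanonCM.injdim n hdim _ f hf _ eK
  refine ⟨hCMmod, ?_⟩
  have hhom : ∀ (p : Ideal R) [p.IsPrime], p.IsHomogeneous 𝒜 → ∀ j : ℕ, n + 1 ≤ j →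
      Subsingleton (Ext.{u} (ModuleCat.of (Localization.AtPrime p)
        (ResidueField (Localization.AtPrime p)))
      (ModuleCat.of (Localization.AtPrime p) (LocalizedModule p.primeCompl C)) j) := by
    intro p hp hh j hj
    have hle : p ≤ m.toIdeal := by
      have hne : (⟨p, hh⟩ : HomogeneousIdeal 𝒜) ≠ ⊤ := by
        intro htop
        have h1 : p = ⊤ := by
          have := congrArg HomogeneousIdeal.toIdeal htop
          rw [HomogeneousIdeal.toIdeal_top] at this
          exact this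
        exact hp.ne_top h1
      exact Groth.Agent.Lib.R2H7.GrHt.le_of_isStarLocal 𝒜 m hm ⟨p, hh⟩ hne
    exact subsingleton_ext_residue_of_le C m.toIdeal (n + 1) hid p hle j hj
  refine hasInjectiveDimensionLT_succ_of_bass C (n + 1) ?_
  intro p hp j hj
  by_cases hh : p.IsHomogeneous 𝒜
  · exact hhom p hh j (by omega)
  · have hc : (Ideal.homogeneousCore 𝒜 p).toIdeal.IsPrime := Ideal.IsPrime.homogeneousCore hp
    obtain ⟨i, rfl⟩ : ∃ i, j = i + 1 := ⟨j - 1, by omega⟩
    have h1 := (bassNum_of_not_isHomogeneous 𝒜 C 𝒞 p hh).2 i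
    have h2 : GrLC.bassNum (Ideal.homogeneousCore 𝒜 p).toIdeal C i = 0 := by
      unfold GrLC.bassNum GrLC.bassNumLocal
      rw [Module.length_eq_zero_iff]
      exact hhom _ (Ideal.homogeneousCore 𝒜 p).isHomogeneous i (by omega)
    rw [h2] at h1
    exact Module.length_eq_zero_iff.mp h1

end main

end Groth.Agent.Lib.R2H7.GrCanInj
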