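import Mathlib
import Groth.Prelude.Def_GrSeg
import Groth.Prelude.Def_GrLC
import Groth.Agent.Lib.Helper24GrDual
import Groth.Agent.Lib.Helper24GrDual2
import Groth.Agent.Lib.Helper24GrDual3

/-!
# Graded Matlis duality over a field (helper7, round 2)

`R = ⊕_{n ≥ 0} R_n` a graded `k`-algebra of finite type with `R_0 = k`; `D = M^*` the graded
`k`-dual of a graded module `M` (presented by a pairing `β`).

* `isGDual_flip`: if the pieces of `M` are finite dimensional then `M` is the graded dual of `D`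
  under the transposed pairing;
* `isArtinian_dual`: `M` finitely generated ⟹ `D` Artinian (initial-form trick, `D` bounded above);
* `pieceSub_finite_of_isArtinian`, `exists_upper_bound`: an Artinian graded module has finite
  dimensional pieces and is bounded above;
* `finite_dual_of_isArtinian`: `M` Artinian ⟹ `D` finitely generated;
* `exists_embedding`: an Artinian graded module embeds in a finite sum of shifted copies of `R^*`.
-/

set_option autoImplicit false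
universe u
open DirectSum

namespace Groth.Agent.Lib.R2H7.GrDualArt

open Groth.Agent.Lib.Helper24GrDual Groth.Agent.Lib.Helper24GrDual2
  Groth.Agent.Lib.Helper24GrDual3

section RingAsModule

variable {k : Type u} [Field k] {R : Type u} [CommRing R] [Algebra k R]
  (𝒜 : ℤ → Submodule k R) [GradedAlgebra 𝒜]

/-- The pieces of `R` as additive subgroups. -/
def grR : ℤ → AddSubgroup R := fun n => (𝒜 n).toAddSubgroup

noncomputable instance decR : DirectSum.Decomposition (grR 𝒜) where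
  decompose' := fun r => (DirectSum.decompose 𝒜 r)
  left_inv := fun r => DirectSum.Decomposition.left_inv (ℳ := 𝒜) r
  right_inv := fun x => DirectSum.Decomposition.right_inv (ℳ := 𝒜) x

instance gsR : SetLike.GradedSMul 𝒜 (grR 𝒜) where
  smul_mem := fun {i j} {a b} ha hb => by
    show a * b ∈ 𝒜 (i + j)
    exact SetLike.GradedMul.mul_mem ha hb

theorem isGDual_grR {D : Type u} [AddCommGroup D] [Module R D] [Module k D] [IsScalarTower k R D]
    (𝒟 : ℤ → AddSubgroup D) [DirectSum.Decomposition 𝒟]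
    (β : D →ₗ[k] R →ₗ[k] k) (hD : GrSeg.IsGDual R 𝒜 𝒟 β) : GrSeg.IsGDual R (grR 𝒜) 𝒟 β :=
  ⟨hD.map_smul, fun n d hd m hm x hx => hD.vanish n d hd m hm x hx,
   fun n d hd h => hD.eq_zero n d hd h, fun n g => hD.exists_eq n g⟩

end RingAsModule

section Main

variable {k : Type u} [Field k] {R : Type u} [CommRing R] [Algebra k R]
  (𝒜 : ℤ → Submodule k R) [GradedAlgebra 𝒜]
  {M : Type u} [AddCommGroup M] [Module R M] [Module k M] [IsScalarTower k R M]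
  (ℳ : ℤ → AddSubgroup M) [DirectSum.Decomposition ℳ] [SetLike.GradedSMul 𝒜 ℳ]
  {D : Type u} [AddCommGroup D] [Module R D] [Module k D] [IsScalarTower k R D]
  (𝒟 : ℤ → AddSubgroup D) [DirectSum.Decomposition 𝒟] [SetLike.GradedSMul 𝒜 𝒟]
  (β : D →ₗ[k] M →ₗ[k] k)

/-- With finite dimensional pieces, `M` is the graded dual of `M^*`. -/
theorem isGDual_flip (hD : GrSeg.IsGDual R ℳ 𝒟 β)
    (hfd : ∀ m, Module.Finite k (pieceSub 𝒜 ℳ m)) : GrSeg.IsGDual R 𝒟 ℳ β.flip where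
  map_smul r x d := by
    rw [LinearMap.flip_apply, LinearMap.flip_apply]
    exact (hD.map_smul r d x).symm
  vanish n x hx m hm d hd := by
    rw [LinearMap.flip_apply]
    exact hD.vanish m d hd n (by intro h; apply hm; rw [h, neg_neg]) x hx
  eq_zero n x hx h := by
    apply (Module.forall_dual_apply_eq_zero_iff k _).1
    intro φ
    obtain ⟨d, hd, hdφ⟩ := hD.exists_eq (-n) φ
    rw [← hdφ x (by rw [neg_neg]; exact hx)]
    exact h d hd
  exists_eq n g := by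
    have := hfd n
    obtain ⟨y, hy, hyd⟩ := exists_on_piece 𝒜 ℳ 𝒟 β hD n g
    exact ⟨y, hy, fun d hd => by rw [LinearMap.flip_apply]; exact hyd d hd⟩

/-- Separation: a homogeneous element of `D_l` outside a `k`-subspace `W ⊆ D_l` is detected by
an element of `M_{-l}` orthogonal to `W`. -/
theorem exists_sep (hD : GrSeg.IsGDual R ℳ 𝒟 β) (l : ℤ)
    [Module.Finite k (pieceSub 𝒜 ℳ (-l))] (W : Submodule k D)
    (hW : ∀ w ∈ W, w ∈ 𝒟 l) (d' : D) (hd' : d' ∈ 𝒟 l) (hn : d' ∉ W) :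
    ∃ x ∈ ℳ (-l), (∀ w ∈ W, β w x = 0) ∧ β d' x ≠ 0 := by
  classical
  let ψ : D →ₗ[k] Module.Dual k (pieceSub 𝒜 ℳ (-l)) :=
    (LinearMap.lcomp k k (pieceSub 𝒜 ℳ (-l)).subtype) ∘ₗ β
  have hψ : ∀ (d : D) (v : pieceSub 𝒜 ℳ (-l)), ψ d v = β d (v : M) := fun d v => rfl
  have hnot : ψ d' ∉ W.map ψ := by
    rintro ⟨w, hw, hwd⟩
    have h0 : w - d' = 0 := by
      apply hD.eq_zero l _ (sub_mem (hW w hw) hd')
      intro x hx
      have := LinearMap.congr_fun hwd ⟨x, hx⟩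
      rw [hψ, hψ] at this
      rw [map_sub, LinearMap.sub_apply, this, sub_self]
    apply hn
    rw [← sub_eq_zero.1 h0]; exact hw
  rw [← Subspace.dualCoannihilator_dualAnnihilator_eq (W := W.map ψ),
    Submodule.mem_dualAnnihilator] at hnot
  obtain ⟨x, hx⟩ := not_forall.1 hnot
  obtain ⟨hx1, hx2⟩ := Classical.not_imp.1 hx
  refine ⟨(x : M), x.2, ?_, hx2⟩
  intro w hw
  exact (Submodule.mem_dualCoannihilator x).1 hx1 (ψ w) (Submodule.mem_map_of_mem hw)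

/-- The pieces of the graded dual of a module with finite dimensional pieces are finite
dimensional. -/
theorem pieceSub_dual_finite (hD : GrSeg.IsGDual R ℳ 𝒟 β) (i : ℤ)
    [Module.Finite k (pieceSub 𝒜 ℳ (-i))] : Module.Finite k (pieceSub 𝒜 𝒟 i) := by
  let ψ : pieceSub 𝒜 𝒟 i →ₗ[k] Module.Dual k (pieceSub 𝒜 ℳ (-i)) :=
    ((LinearMap.lcomp k k (pieceSub 𝒜 ℳ (-i)).subtype) ∘ₗ β) ∘ₗ (pieceSub 𝒜 𝒟 i).subtype
  have hinj : Function.Injective ψ := by
    rw [injective_iff_map_eq_zero]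
    intro d hd
    apply Subtype.ext
    apply hD.eq_zero i _ d.2
    intro x hx
    exact LinearMap.congr_fun hd ⟨x, hx⟩
  exact Module.Finite.of_injective ψ hinj

/-! ### `M` finitely generated ⟹ `D` Artinian -/

/-- The orthogonal in `M` of the module of initial forms of `N ⊆ D`. -/
def Phi (hpos : ∀ n : ℤ, n < 0 → 𝒜 n = ⊥) (hD : GrSeg.IsGDual R ℳ 𝒟 β) (N : Submodule R D) :
    Submodule R M where
  carrier := {x | ∀ (l : ℤ) (d : D), d ∈ N → (∀ n : ℤ, n < l → P 𝒟 n d = 0) →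
    β (P 𝒟 l d) x = 0}
  add_mem' := by
    intro x y hx hy l d hd hl
    rw [map_add, hx l d hd hl, hy l d hd hl, add_zero]
  zero_mem' := by
    intro l d _ _
    rw [map_zero]
  smul_mem' := by
    intro r x hx l d hd hl
    refine DirectSum.Decomposition.inductionOn 𝒜
      (motive := fun r => β (P 𝒟 l d) (r • x) = 0) ?_ ?_ ?_ r
    · rw [zero_smul, map_zero]
    · intro a ra
      by_cases ha : a < 0
      · rw [eq_zero_of_neg 𝒜 hpos ha _ ra.2, zero_smul, map_zero]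
      · rw [← hD.map_smul]
        have h1 := P_smul_homog 𝒜 𝒟 ra.2 (l + a) d
        rw [show l + a - a = l by ring] at h1
        rw [← h1]
        apply hx (l + a) ((ra : R) • d) (N.smul_mem _ hd)
        intro n hn
        rw [P_smul_homog 𝒜 𝒟 ra.2 n d, hl (n - a) (by omega), smul_zero]
    · intro r r' h h'
      rw [add_smul, map_add, h, h', add_zero]

theorem Phi_anti (hpos : ∀ n : ℤ, n < 0 → 𝒜 n = ⊥) (hD : GrSeg.IsGDual R ℳ 𝒟 β)
    {N N' : Submodule R D} (h : N ≤ N') : Phi 𝒜 ℳ 𝒟 β hpos hD N' ≤ Phi 𝒜 ℳ 𝒟 β hpos hD N :=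
  fun _ hx l d hd hl => hx l d (h hd) hl

theorem exists_same_init (hpos : ∀ n : ℤ, n < 0 → 𝒜 n = ⊥) (hD : GrSeg.IsGDual R ℳ 𝒟 β)
    (hfd : ∀ m, Module.Finite k (pieceSub 𝒜 ℳ m)) {N N' : Submodule R D}
    (hle : Phi 𝒜 ℳ 𝒟 β hpos hD N ≤ Phi 𝒜 ℳ 𝒟 β hpos hD N') (l : ℤ) (d' : D) (hd' : d' ∈ N')
    (hl : ∀ n : ℤ, n < l → P 𝒟 n d' = 0) :
    ∃ d ∈ N, (∀ n : ℤ, n < l → P 𝒟 n d = 0) ∧ P 𝒟 l d = P 𝒟 l d' := by
  by_contra hcon
  let W : Submodule k D := ((N ⊓ geSub 𝒜 𝒟 hpos l).restrictScalars k).map (Plin 𝒜 𝒟 l)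
  have hn : P 𝒟 l d' ∉ W := by
    rintro ⟨d, hd, hdd⟩
    have hd2 : d ∈ N ⊓ geSub 𝒜 𝒟 hpos l := hd
    exact hcon ⟨d, (Submodule.mem_inf.1 hd2).1, (Submodule.mem_inf.1 hd2).2, hdd⟩
  have hW : ∀ w ∈ W, w ∈ 𝒟 l := by
    rintro w ⟨y, _, rfl⟩
    exact P_mem 𝒟 l y
  have := hfd (-l)
  obtain ⟨x, hx, hxW, hxd⟩ := exists_sep 𝒜 ℳ 𝒟 β hD l W hW (P 𝒟 l d') (P_mem 𝒟 l d') hn
  have hxPhi : x ∈ Phi 𝒜 ℳ 𝒟 β hpos hD N := by
    intro l₂ d hd hl₂
    by_cases h : l₂ = l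
    · subst h
      apply hxW
      exact ⟨d, Submodule.mem_inf.2 ⟨hd, hl₂⟩, rfl⟩
    · exact hD.vanish l₂ _ (P_mem 𝒟 l₂ d) (-l) (by omega) x hx
  exact hxd (hle hxPhi l d' hd' hl)

theorem le_of_Phi_le (hpos : ∀ n : ℤ, n < 0 → 𝒜 n = ⊥) (hD : GrSeg.IsGDual R ℳ 𝒟 β)
    (hfd : ∀ m, Module.Finite k (pieceSub 𝒜 ℳ m)) {c : ℤ}
    (hc : ∀ i : ℤ, c < i → ∀ z ∈ 𝒟 i, z = 0) {N N' : Submodule R D} (hNN' : N ≤ N')
    (hle : Phi 𝒜 ℳ 𝒟 β hpos hD N ≤ Phi 𝒜 ℳ 𝒟 β hpos hD N') : N' ≤ N := by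
  have key : ∀ (t : ℕ) (l : ℤ), c + 1 - l ≤ t → ∀ d' ∈ N',
      (∀ n : ℤ, n < l → P 𝒟 n d' = 0) → d' ∈ N := by
    intro t
    induction t with
    | zero =>
      intro l hlt d' _ hl
      have h0 : d' = 0 := by
        apply eq_zero_of_P_eq_zero 𝒟
        intro j
        by_cases hj : j < l
        · exact hl j hj
        · push_cast at hlt
          exact hc j (by omega) _ (P_mem 𝒟 j d')
      rw [h0]; exact N.zero_mem
    | succ t ih =>
      intro l hlt d' hd' hl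
      obtain ⟨d, hd, hdl, hdP⟩ := exists_same_init 𝒜 ℳ 𝒟 β hpos hD hfd hle l d' hd' hl
      have h1 : d' - d ∈ N := by
        apply ih (l + 1) (by push_cast at hlt; omega) (d' - d) (N'.sub_mem hd' (hNN' hd))
        intro n hn
        rw [P_sub]
        by_cases hnl : n < l
        · rw [hl n hnl, hdl n hnl, sub_zero]
        · have : n = l := by omega
          subst this
          rw [hdP, sub_self]
      have h2 : d' = (d' - d) + d := by abel
      rw [h2]; exact N.add_mem h1 hd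
  intro d' hd'
  obtain ⟨m, hm⟩ := exists_lower 𝒟 d'
  exact key (c + 1 - m).toNat m (Int.self_le_toNat _) d' hd' hm

/-- The graded dual of a finitely generated graded module is Artinian. -/
theorem isArtinian_dual (hpos : ∀ n : ℤ, n < 0 → 𝒜 n = ⊥)
    (h0R : 𝒜 0 = Submodule.span k {(1 : R)}) [Algebra.FiniteType k R] [Module.Finite R M]
    (hD : GrSeg.IsGDual R ℳ 𝒟 β) : IsArtinian R D := by
  have : IsNoetherianRing R := Algebra.FiniteType.isNoetherianRing k R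
  have : IsNoetherian R M := isNoetherian_of_isNoetherianRing_of_finite R M
  have hfd := fun m => pieceSub_finite 𝒜 ℳ hpos h0R m
  obtain ⟨m, hm⟩ := exists_bound 𝒜 ℳ hpos
  have hc : ∀ i : ℤ, -m < i → ∀ z ∈ 𝒟 i, z = 0 :=
    fun i hi z hz => dual_piece_zero ℳ 𝒟 β hD hm hi hz
  have hanti : StrictAnti (Phi 𝒜 ℳ 𝒟 β hpos hD) := by
    intro N N' hlt
    refine lt_of_le_of_ne (Phi_anti 𝒜 ℳ 𝒟 β hpos hD hlt.le) ?_
    intro heq
    exact hlt.not_ge (le_of_Phi_le 𝒜 ℳ 𝒟 β hpos hD hfd hc hlt.le (le_of_eq heq.symm))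
  exact hanti.wellFoundedLT

/-! ### Artinian graded modules -/

/-- An Artinian graded module is bounded above. -/
theorem exists_upper_bound (hpos : ∀ n : ℤ, n < 0 → 𝒜 n = ⊥) [IsArtinian R M] :
    ∃ n₀ : ℤ, ∀ j : ℤ, n₀ ≤ j → ∀ x ∈ ℳ j, x = 0 := by
  let f : ℕ →o (Submodule R M)ᵒᵈ :=
    ⟨fun i => OrderDual.toDual (geSub 𝒜 ℳ hpos (i : ℤ)), by
      intro i i' hii'
      show geSub 𝒜 ℳ hpos (i' : ℤ) ≤ geSub 𝒜 ℳ hpos (i : ℤ)
      intro z hz n hn
      exact hz n (by have : (i : ℤ) ≤ i' := by exact_mod_cast hii'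
                     omega)⟩
  obtain ⟨n, hn⟩ := IsArtinian.monotone_stabilizes f
  refine ⟨n, fun j hj x hx => ?_⟩
  have hj' : ((j.toNat : ℕ) : ℤ) = j := Int.toNat_of_nonneg (by omega)
  have h1 : x ∈ geSub 𝒜 ℳ hpos (n : ℤ) := fun i hi => P_of_mem_ne ℳ hx (by omega)
  have h2 : geSub 𝒜 ℳ hpos (n : ℤ) = geSub 𝒜 ℳ hpos ((j.toNat + 1 : ℕ) : ℤ) :=
    congrArg OrderDual.ofDual (hn (j.toNat + 1) (by omega))
  rw [h2] at h1
  have h3 := h1 j (by push_cast; omega)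
  rwa [P_of_mem_same ℳ hx] at h3

/-- Elements of `M_{≥ n}` whose degree-`n` component lies in a `k`-subspace `W`. -/
def Psi (hpos : ∀ n : ℤ, n < 0 → 𝒜 n = ⊥) (h0R : 𝒜 0 = Submodule.span k {(1 : R)}) (n : ℤ)
    (W : Submodule k M) : Submodule R M where
  carrier := {z | (∀ i : ℤ, i < n → P ℳ i z = 0) ∧ P ℳ n z ∈ W}
  add_mem' := by
    rintro x y ⟨hx1, hx2⟩ ⟨hy1, hy2⟩
    refine ⟨fun i hi => by rw [P_add, hx1 i hi, hy1 i hi, add_zero], ?_⟩
    rw [P_add]; exact W.add_mem hx2 hy2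
  zero_mem' := ⟨fun i _ => P_zero ℳ i, by rw [P_zero]; exact W.zero_mem⟩
  smul_mem' := by
    rintro r z ⟨hz1, hz2⟩
    refine ⟨(geSub 𝒜 ℳ hpos n).smul_mem r hz1, ?_⟩
    rw [P_smul_of_ge 𝒜 ℳ hpos hz1 r]
    have h1 : ((DirectSum.decompose 𝒜 r 0 : 𝒜 0) : R) ∈ Submodule.span k {(1 : R)} := by
      rw [← h0R]; exact (DirectSum.decompose 𝒜 r 0).2
    obtain ⟨c, hc⟩ := Submodule.mem_span_singleton.1 h1
    rw [← hc, smul_assoc, one_smul]
    exact W.smul_mem c hz2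

/-- The pieces of an Artinian graded module are finite dimensional. -/
theorem pieceSub_finite_of_isArtinian (hpos : ∀ n : ℤ, n < 0 → 𝒜 n = ⊥)
    (h0R : 𝒜 0 = Submodule.span k {(1 : R)}) [IsArtinian R M] (n : ℤ) :
    Module.Finite k (pieceSub 𝒜 ℳ n) := by
  have hmono : StrictMono (fun V : Submodule k (pieceSub 𝒜 ℳ n) =>
      Psi 𝒜 ℳ hpos h0R n (V.map (pieceSub 𝒜 ℳ n).subtype)) := by
    intro V V' hlt
    refine lt_of_le_of_ne ?_ ?_
    · rintro z ⟨hz1, hz2⟩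
      exact ⟨hz1, Submodule.map_mono hlt.le hz2⟩
    · intro heq
      obtain ⟨v, hvV', hvV⟩ := SetLike.exists_of_lt hlt
      have hvn : (v : M) ∈ ℳ n := v.2
      have hv1 : (v : M) ∈ Psi 𝒜 ℳ hpos h0R n (V'.map (pieceSub 𝒜 ℳ n).subtype) := by
        refine ⟨fun i hi => P_of_mem_ne ℳ hvn (by omega), ?_⟩
        rw [P_of_mem_same ℳ hvn]
        exact ⟨v, hvV', rfl⟩
      have heq' : Psi 𝒜 ℳ hpos h0R n (V.map (pieceSub 𝒜 ℳ n).subtype)
          = Psi 𝒜 ℳ hpos h0R n (V'.map (pieceSub 𝒜 ℳ n).subtype) := heq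
      rw [← heq'] at hv1
      obtain ⟨_, hv2⟩ := hv1
      rw [P_of_mem_same ℳ hvn] at hv2
      obtain ⟨w, hw, hwv⟩ := hv2
      have : w = v := Subtype.ext hwv
      exact hvV (this ▸ hw)
  have hart : IsArtinian k (pieceSub 𝒜 ℳ n) := hmono.wellFoundedLT
  have h := (IsSemisimpleModule.finite_tfae (R := k) (M := pieceSub 𝒜 ℳ n)).out 0 2
  exact h.2 hart

/-! ### `M` Artinian ⟹ `D` finitely generated -/

/-- The submodule of `D` generated by the pieces of degree `≤ j`. -/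
def Gj (j : ℤ) : Submodule R D := Submodule.span R {d | ∃ n : ℤ, n ≤ j ∧ d ∈ 𝒟 n}

include 𝒜 in
theorem P_mem_span_of_homog (S : Set D) (hS : ∀ s ∈ S, ∃ n : ℤ, s ∈ 𝒟 n) {d : D}
    (hd : d ∈ Submodule.span R S) (l : ℤ) : P 𝒟 l d ∈ Submodule.span R S := by
  revert l
  refine Submodule.span_induction (p := fun d _ => ∀ l : ℤ, P 𝒟 l d ∈ Submodule.span R S)
    ?_ ?_ ?_ ?_ hd
  · intro s hs l
    obtain ⟨n, hn⟩ := hS s hs
    by_cases h : n = l
    · subst h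
      rw [P_of_mem_same 𝒟 hn]; exact Submodule.subset_span hs
    · rw [P_of_mem_ne 𝒟 hn h]; exact zero_mem _
  · intro l
    rw [P_zero]; exact zero_mem _
  · intro x y _ _ hx hy l
    rw [P_add]; exact add_mem (hx l) (hy l)
  · intro r x _ hx
    refine DirectSum.Decomposition.inductionOn 𝒜
      (motive := fun r => ∀ l : ℤ, P 𝒟 l (r • x) ∈ Submodule.span R S) ?_ ?_ ?_ r
    · intro l
      rw [zero_smul, P_zero]; exact zero_mem _
    · intro a ra l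
      rw [P_smul_homog 𝒜 𝒟 ra.2 l x]
      exact Submodule.smul_mem _ _ (hx (l - a))
    · intro r r' h h' l
      rw [add_smul, P_add]; exact add_mem (h l) (h' l)

/-- The orthogonal of a submodule of `D`. -/
def perp (hD : GrSeg.IsGDual R ℳ 𝒟 β) (G : Submodule R D) : Submodule R M where
  carrier := {x | ∀ d ∈ G, β d x = 0}
  add_mem' := by
    intro x y hx hy d hd
    rw [map_add, hx d hd, hy d hd, add_zero]
  zero_mem' := by
    intro d _
    rw [map_zero]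
  smul_mem' := by
    intro r x hx d hd
    rw [← hD.map_smul]; exact hx _ (G.smul_mem r hd)

/-- The graded dual of an Artinian graded module is finitely generated. -/
theorem finite_dual_of_isArtinian (hpos : ∀ n : ℤ, n < 0 → 𝒜 n = ⊥)
    (h0R : 𝒜 0 = Submodule.span k {(1 : R)}) [IsArtinian R M]
    (hD : GrSeg.IsGDual R ℳ 𝒟 β) : Module.Finite R D := by
  classical
  have hfd := fun m => pieceSub_finite_of_isArtinian 𝒜 ℳ hpos h0R m
  obtain ⟨n₀, hn₀⟩ := exists_upper_bound 𝒜 ℳ hpos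
  have hlow : ∀ i : ℤ, i ≤ -n₀ → ∀ z ∈ 𝒟 i, z = 0 := by
    intro i hi z hz
    apply hD.eq_zero i z hz
    intro x hx
    rw [hn₀ (-i) (by omega) x hx, map_zero]
  let f : ℕ →o (Submodule R M)ᵒᵈ :=
    ⟨fun i => OrderDual.toDual (perp ℳ 𝒟 β hD (Gj (R := R) 𝒟 (i : ℤ))), by
      intro i i' hii'
      show perp ℳ 𝒟 β hD (Gj (R := R) 𝒟 (i' : ℤ)) ≤ perp ℳ 𝒟 β hD (Gj (R := R) 𝒟 (i : ℤ))
      intro x hx d hd
      apply hx d
      refine Submodule.span_mono ?_ hd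
      rintro d' ⟨n, hn, hd'⟩
      exact ⟨n, by have : (i : ℤ) ≤ i' := by exact_mod_cast hii'
                   omega, hd'⟩⟩
  obtain ⟨j₀, hj₀⟩ := IsArtinian.monotone_stabilizes f
  have hGhom : ∀ d ∈ Gj (R := R) 𝒟 (j₀ : ℤ), ∀ l : ℤ, P 𝒟 l d ∈ Gj (R := R) 𝒟 (j₀ : ℤ) :=
    fun d hd l => P_mem_span_of_homog 𝒜 𝒟 _ (fun s hs => ⟨hs.choose, hs.choose_spec.2⟩) hd l
  have hpiece : ∀ (l : ℤ) (d : D), d ∈ 𝒟 l → d ∈ Gj (R := R) 𝒟 (j₀ : ℤ) := by
    intro l d hd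
    by_cases hl : l ≤ j₀
    · exact Submodule.subset_span ⟨l, hl, hd⟩
    · by_contra hnot
      let W : Submodule k D := ((Gj (R := R) 𝒟 (j₀ : ℤ)).restrictScalars k) ⊓ pieceSub 𝒜 𝒟 l
      have := hfd (-l)
      obtain ⟨x, hx, hxW, hxd⟩ := exists_sep 𝒜 ℳ 𝒟 β hD l W
        (fun w hw => (Submodule.mem_inf.1 hw).2) d hd
        (fun h => hnot (Submodule.mem_inf.1 h).1)
      have hxperp : x ∈ perp ℳ 𝒟 β hD (Gj (R := R) 𝒟 (j₀ : ℤ)) := by
        intro d₂ hd₂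
        rw [← pairD_P' ℳ 𝒟 β hD hx d₂]
        exact hxW _ (Submodule.mem_inf.2 ⟨hGhom d₂ hd₂ l, P_mem 𝒟 l d₂⟩)
      have h2 : perp ℳ 𝒟 β hD (Gj (R := R) 𝒟 (j₀ : ℤ))
          = perp ℳ 𝒟 β hD (Gj (R := R) 𝒟 ((l.toNat : ℕ) : ℤ)) :=
        congrArg OrderDual.ofDual (hj₀ l.toNat (by omega))
      rw [h2] at hxperp
      apply hxd
      apply hxperp d
      exact Submodule.subset_span ⟨l, by omega, hd⟩
  have htop : Gj (R := R) 𝒟 (j₀ : ℤ) = ⊤ := by
    rw [eq_top_iff]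
    intro d _
    rw [← DirectSum.sum_support_decompose 𝒟 d]
    exact Submodule.sum_mem _ (fun i _ => hpiece i _ (DirectSum.decompose 𝒟 d i).2)
  have hfdD : ∀ i : ℤ, ∃ S : Set D, S.Finite ∧ Submodule.span k S = pieceSub 𝒜 𝒟 i := by
    intro i
    have := hfd (-i)
    have := pieceSub_dual_finite 𝒜 ℳ 𝒟 β hD i
    exact Submodule.fg_def.1 (Module.Finite.iff_fg.1 inferInstance)
  choose S hSfin hSspan using hfdD
  refine ⟨Submodule.fg_def.2 ⟨⋃ i ∈ Finset.Icc (-n₀) (j₀ : ℤ), S i,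
    Set.Finite.biUnion (Finset.finite_toSet _) (fun i _ => hSfin i), ?_⟩⟩
  rw [eq_top_iff, ← htop]
  refine Submodule.span_le.2 ?_
  rintro d ⟨n, hn, hd⟩
  by_cases hnn : n ≤ -n₀
  · rw [hlow n hnn d hd]; exact zero_mem _
  · have h1 : d ∈ Submodule.span k (S n) := by
      rw [hSspan n]; exact hd
    have h2 : d ∈ Submodule.span R (S n) := Submodule.span_subset_span k R (S n) h1
    refine Submodule.span_mono ?_ h2
    intro s hs
    exact Set.mem_biUnion (Finset.mem_coe.2 (Finset.mem_Icc.2 ⟨by omega, hn⟩)) hs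

end Main

/-! ### Embedding Artinian modules into sums of shifted copies of `R^*` -/

section Embed

variable {k : Type u} [Field k] {R : Type u} [CommRing R] [Algebra k R]
  (𝒜 : ℤ → Submodule k R) [GradedAlgebra 𝒜]
  {M : Type u} [AddCommGroup M] [Module R M] [Module k M] [IsScalarTower k R M]
  (ℳ : ℤ → AddSubgroup M) [DirectSum.Decomposition ℳ] [SetLike.GradedSMul 𝒜 ℳ]
  {D : Type u} [AddCommGroup D] [Module R D] [Module k D] [IsScalarTower k R D]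
  (𝒟 : ℤ → AddSubgroup D) [DirectSum.Decomposition 𝒟] [SetLike.GradedSMul 𝒜 𝒟]
  (β : D →ₗ[k] R →ₗ[k] k)

theorem exists_rep_homog (hD : GrSeg.IsGDual R 𝒜 𝒟 β) (g : ℤ) (lam : M →ₗ[k] k) {j : ℤ}
    {x : M} (hx : x ∈ ℳ j) :
    ∃ d ∈ 𝒟 (j - g), ∀ r : R, β d r = lam (P ℳ g (r • x)) := by
  let Λ : R →ₗ[k] k :=
    lam ∘ₗ (Plin 𝒜 ℳ g) ∘ₗ ((LinearMap.toSpanSingleton R M x).restrictScalars k)
  have hΛ : ∀ r : R, Λ r = lam (P ℳ g (r • x)) := fun r => rfl
  obtain ⟨d, hd, hdr⟩ := hD.exists_eq (j - g) Λ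
  refine ⟨d, hd, fun r => ?_⟩
  refine DirectSum.Decomposition.inductionOn 𝒜
    (motive := fun r => β d r = lam (P ℳ g (r • x))) ?_ ?_ ?_ r
  · rw [map_zero, zero_smul, P_zero, map_zero]
  · intro a ra
    by_cases h : a = -(j - g)
    · rw [hdr _ (h ▸ ra.2), hΛ]
    · rw [hD.vanish (j - g) d hd a h _ ra.2]
      have hmem : (ra : R) • x ∈ ℳ (a + j) := by
        have h' := SetLike.GradedSMul.smul_mem (A := 𝒜) (B := ℳ) ra.2 hx
        rwa [vadd_eq_add] at h'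
      rw [P_of_mem_ne ℳ hmem (by omega), map_zero]
  · intro r r' h h'
    rw [map_add, h, h', add_smul, P_add, map_add]

theorem exists_rep (hD : GrSeg.IsGDual R 𝒜 𝒟 β) (g : ℤ) (lam : M →ₗ[k] k) (x : M) :
    ∃ d : D, ∀ r : R, β d r = lam (P ℳ g (r • x)) := by
  refine DirectSum.Decomposition.inductionOn ℳ
    (motive := fun x => ∃ d : D, ∀ r : R, β d r = lam (P ℳ g (r • x))) ?_ ?_ ?_ x
  · exact ⟨0, fun r => by rw [map_zero, LinearMap.zero_apply, smul_zero, P_zero, map_zero]⟩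
  · intro j xj
    obtain ⟨d, _, hd⟩ := exists_rep_homog 𝒜 ℳ 𝒟 β hD g lam xj.2
    exact ⟨d, hd⟩
  · rintro x y ⟨d, hd⟩ ⟨d', hd'⟩
    exact ⟨d + d', fun r => by
      rw [map_add, LinearMap.add_apply, hd r, hd' r, smul_add, P_add, map_add]⟩

/-- The graded homomorphism `M → R^*` of degree `-g` attached to a functional on `M_g`. -/
noncomputable def repMap (hD : GrSeg.IsGDual R 𝒜 𝒟 β) (g : ℤ) (lam : M →ₗ[k] k) :
    M →ₗ[R] D where
  toFun x := Classical.choose (exists_rep 𝒜 ℳ 𝒟 β hD g lam x)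
  map_add' x y := by
    apply eq_of_sub_eq_zero
    apply sepD 𝒜 𝒟 β hD
    intro r
    rw [map_sub, map_add, LinearMap.sub_apply, LinearMap.add_apply,
      Classical.choose_spec (exists_rep 𝒜 ℳ 𝒟 β hD g lam (x + y)) r,
      Classical.choose_spec (exists_rep 𝒜 ℳ 𝒟 β hD g lam x) r,
      Classical.choose_spec (exists_rep 𝒜 ℳ 𝒟 β hD g lam y) r,
      smul_add, P_add, map_add, sub_self]
  map_smul' s x := by
    apply eq_of_sub_eq_zero
    apply sepD 𝒜 𝒟 β hD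
    intro r
    rw [map_sub, LinearMap.sub_apply, RingHom.id_apply, hD.map_smul,
      Classical.choose_spec (exists_rep 𝒜 ℳ 𝒟 β hD g lam (s • x)) r,
      Classical.choose_spec (exists_rep 𝒜 ℳ 𝒟 β hD g lam x) (s • r),
      smul_eq_mul, mul_comm, mul_smul, sub_self]

theorem repMap_spec (hD : GrSeg.IsGDual R 𝒜 𝒟 β) (g : ℤ) (lam : M →ₗ[k] k) (x : M) (r : R) :
    β (repMap 𝒜 ℳ 𝒟 β hD g lam x) r = lam (P ℳ g (r • x)) :=
  Classical.choose_spec (exists_rep 𝒜 ℳ 𝒟 β hD g lam x) r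

theorem repMap_graded (hD : GrSeg.IsGDual R 𝒜 𝒟 β) (g : ℤ) (lam : M →ₗ[k] k) {j : ℤ} {x : M}
    (hx : x ∈ ℳ j) : repMap 𝒜 ℳ 𝒟 β hD g lam x ∈ 𝒟 (j - g) := by
  obtain ⟨d, hd, hdr⟩ := exists_rep_homog 𝒜 ℳ 𝒟 β hD g lam hx
  have : repMap 𝒜 ℳ 𝒟 β hD g lam x = d := by
    apply eq_of_sub_eq_zero
    apply sepD 𝒜 𝒟 β hD
    intro r
    rw [map_sub, LinearMap.sub_apply, repMap_spec, hdr, sub_self]
  rw [this]; exact hd

/-- An Artinian graded module embeds into a finite direct sum of shifted copies of `R^*`. -/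
theorem exists_embedding (hD : GrSeg.IsGDual R 𝒜 𝒟 β) [IsArtinian R M] :
    ∃ (t : ℕ) (sh : Fin t → ℤ) (f : M →ₗ[R] (Fin t → D)), Function.Injective f ∧
      ∀ (i : Fin t) (g : ℤ) (x : M), x ∈ ℳ g → f x i ∈ 𝒟 (g + sh i) := by
  classical
  let K : Finset (ℤ × (M →ₗ[k] k)) → Submodule R M :=
    fun T => ⨅ i ∈ T, LinearMap.ker (repMap 𝒜 ℳ 𝒟 β hD i.1 i.2)
  obtain ⟨K₀, ⟨T₀, hT₀⟩, hmin⟩ := IsArtinian.set_has_minimal (Set.range K) ⟨K ∅, ∅, rfl⟩
  have hbot : K T₀ = ⊥ := by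
    by_contra hne
    obtain ⟨x, hx, hx0⟩ := Submodule.exists_mem_ne_zero_of_ne_bot hne
    obtain ⟨g, hg⟩ : ∃ g : ℤ, P ℳ g x ≠ 0 := by
      by_contra h
      exact hx0 (eq_zero_of_P_eq_zero ℳ (fun j => not_not.1 (not_exists.1 h j)))
    obtain ⟨lam, hlam⟩ : ∃ lam : M →ₗ[k] k, lam (P ℳ g x) ≠ 0 := by
      by_contra h
      exact hg ((Module.forall_dual_apply_eq_zero_iff k _).1
        (fun φ => not_not.1 (not_exists.1 h φ)))
    apply hmin (K (insert (g, lam) T₀)) ⟨_, rfl⟩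
    rw [← hT₀]
    have hins : K (insert (g, lam) T₀)
        = LinearMap.ker (repMap 𝒜 ℳ 𝒟 β hD g lam) ⊓ K T₀ := Finset.iInf_insert _ _ _
    refine lt_of_le_of_ne (hins ▸ inf_le_right) ?_
    intro heq
    rw [← heq, hins] at hx
    have h1 : repMap 𝒜 ℳ 𝒟 β hD g lam x = 0 := LinearMap.mem_ker.1 (Submodule.mem_inf.1 hx).1
    have h2 := repMap_spec 𝒜 ℳ 𝒟 β hD g lam x 1
    rw [h1, map_zero, LinearMap.zero_apply, one_smul] at h2
    exact hlam h2.symm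
  let e : Fin T₀.card ≃ T₀ := T₀.equivFin.symm
  refine ⟨T₀.card, fun i => -(e i).1.1,
    LinearMap.pi (fun i => repMap 𝒜 ℳ 𝒟 β hD (e i).1.1 (e i).1.2), ?_, ?_⟩
  · rw [injective_iff_map_eq_zero]
    intro x hx
    have hxK : x ∈ K T₀ := by
      refine (Submodule.mem_iInf _).2 (fun i => (Submodule.mem_iInf _).2 (fun hi => ?_))
      have h1 := congrFun hx (e.symm ⟨i, hi⟩)
      rw [LinearMap.pi_apply, Equiv.apply_symm_apply] at h1
      exact LinearMap.mem_ker.2 h1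
    rw [hbot] at hxK
    exact (Submodule.mem_bot R).1 hxK
  · intro i g x hx
    rw [LinearMap.pi_apply, ← sub_eq_add_neg]
    exact repMap_graded 𝒜 ℳ 𝒟 β hD _ _ hx

end Embed

end Groth.Agent.Lib.R2H7.GrDualArt
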