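import Mathlib
import Groth.Agent.Lib.Helper13TorMore
import Groth.Agent.Lib.Helper13Ses

/-!
# Graded freeness criterion over a polynomial ring

`main` : `M` finitely generated graded over `S = k[x_σ]`, `Tor_1^S(M, S/S_+) = 0` ⟹ `M` has a basis of
homogeneous elements.  (Adaptation of the lead's `R2LeadGrNak.exists_homogeneous_basis`, replacing
projectivity by the injectivity of `M ⊗ S_+ → M ⊗ S`.)
-/

set_option autoImplicit false

open DirectSum MvPolynomial TensorProduct

namespace Groth.Agent.Lib.R2H7.GrFreeTor

universe u

variable {k : Type u} [Field k] {σ : Type*}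
variable {M : Type u} [AddCommGroup M] [Module (MvPolynomial σ k) M]
  (ℳ : ℕ → AddSubgroup M) [DirectSum.Decomposition ℳ]

theorem exists_homog_gens [Module.Finite (MvPolynomial σ k) M] :
    ∃ s : Finset M, (∀ x ∈ s, SetLike.IsHomogeneousElem ℳ x) ∧
      Submodule.span (MvPolynomial σ k) (s : Set M) = ⊤ := by
  classical
  obtain ⟨t, ht⟩ := (Module.Finite.fg_top : (⊤ : Submodule (MvPolynomial σ k) M).FG)
  refine ⟨t.biUnion fun x => (decompose ℳ x).support.image
    fun d => ((decompose ℳ x d : ℳ d) : M), ?_, ?_⟩
  · intro x hx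
    simp only [Finset.mem_biUnion, Finset.mem_image] at hx
    obtain ⟨y, _, d, _, rfl⟩ := hx
    exact ⟨d, (decompose ℳ y d).2⟩
  · rw [eq_top_iff, ← ht, Submodule.span_le]
    intro x hx
    rw [← DirectSum.sum_support_decompose ℳ x]
    refine Submodule.sum_mem _ fun d hd => Submodule.subset_span ?_
    simp only [Finset.coe_biUnion, Finset.coe_image, Set.mem_iUnion, Set.mem_image]
    exact ⟨x, hx, d, hd, rfl⟩

theorem mem_of_mem_smul_top {R : Type*} [CommRing R] {ι : Type*} (I : Ideal R) {g : ι → R}
    (hg : g ∈ I • (⊤ : Submodule R (ι → R))) (i : ι) : g i ∈ I := by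
  refine Submodule.smul_induction_on (p := fun g => g i ∈ I) hg ?_ ?_
  · intro r hr f _
    simpa using I.mul_mem_right _ hr
  · intro x y hx hy
    simpa using I.add_mem hx hy

variable [SetLike.GradedSMul (MvPolynomial.homogeneousSubmodule σ k) ℳ]

/-- Component of `r • x` for `x` homogeneous of degree `e`. -/
theorem comp_smul {x : M} {e : ℕ} (hx : x ∈ ℳ e) (r : MvPolynomial σ k) (d : ℕ) :
    ((decompose ℳ (r • x)) d : M) =
      if e ≤ d then homogeneousComponent (d - e) r • x else 0 := by
  classical
  have hr : r = ∑ a ∈ Finset.range (r.totalDegree + 1), homogeneousComponent a r :=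
    (sum_homogeneousComponent r).symm
  have hmem : ∀ a, homogeneousComponent a r • x ∈ ℳ (a + e) := fun a => by
    have := SetLike.GradedSMul.smul_mem (A := homogeneousSubmodule σ k) (B := ℳ)
      (homogeneousComponent_mem a r) hx
    simpa using this
  conv_lhs => rw [hr, Finset.sum_smul, decompose_sum]
  rw [DFinsupp.finsetSum_apply, AddSubmonoidClass.coe_finsetSum]
  have h1 : ∀ a ∈ Finset.range (r.totalDegree + 1),
      (((decompose ℳ (homogeneousComponent a r • x)) d : ℳ d) : M) =
        if a + e = d then homogeneousComponent a r • x else 0 := by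
    intro a _
    rw [decompose_of_mem ℳ (hmem a), DirectSum.coe_of_apply]
    split_ifs <;> rfl
  rw [Finset.sum_congr rfl h1]
  by_cases hed : e ≤ d
  · rw [if_pos hed, Finset.sum_eq_single (d - e)]
    · rw [if_pos (by omega)]
    · intro a _ ha
      rw [if_neg (by omega)]
    · intro hnot
      rw [if_pos (by omega)]
      have : r.totalDegree < d - e := by
        have h2 := hnot
        simp only [Finset.mem_range, not_lt] at h2
        omega
      rw [homogeneousComponent_eq_zero _ _ this, zero_smul]
  · rw [if_neg hed]
    exact Finset.sum_eq_zero fun a _ => by rw [if_neg (by omega)]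

theorem ker_constantCoeff_eq :
    RingHom.ker (constantCoeff : MvPolynomial σ k →+* k) = idealOfVars σ k := by
  ext f
  rw [RingHom.mem_ker, ← pow_one (idealOfVars σ k), mem_pow_idealOfVars_iff']
  constructor
  · intro h x hx
    have : x = 0 := by
      have h0 : Finsupp.degree x = 0 := by omega
      exact (Finsupp.degree_eq_zero_iff x).1 h0
    rw [this]
    exact h
  · intro h
    exact h 0 (by simp)

theorem eq_zero_of_forall_mem_pow {f : MvPolynomial σ k}
    (h : ∀ n : ℕ, f ∈ RingHom.ker (constantCoeff : MvPolynomial σ k →+* k) ^ n) : f = 0 := by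
  ext x
  rw [coeff_zero]
  have := h (Finsupp.degree x + 1)
  rw [ker_constantCoeff_eq, mem_pow_idealOfVars_iff'] at this
  exact this x (Nat.lt_succ_self _)

theorem exists_homogeneous_basis [Module.Finite (MvPolynomial σ k) M]
    (hinj : Function.Injective (LinearMap.lTensor M
      (RingHom.ker (constantCoeff : MvPolynomial σ k →+* k)).subtype)) :
    ∃ (ι : Type u) (b : Module.Basis ι (MvPolynomial σ k) M),
      ∀ i : ι, SetLike.IsHomogeneousElem ℳ (b i) := by
  classical
  set R := MvPolynomial σ k with hR
  set I : Ideal R := RingHom.ker (constantCoeff : MvPolynomial σ k →+* k) with hI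
  -- minimal homogeneous generating set
  have hex : ∃ n : ℕ, ∃ s : Finset M, s.card = n ∧ (∀ x ∈ s, SetLike.IsHomogeneousElem ℳ x) ∧
      Submodule.span R (s : Set M) = ⊤ := by
    obtain ⟨s, hs, hs'⟩ := exists_homog_gens (σ := σ) (k := k) ℳ
    exact ⟨_, s, rfl, hs, hs'⟩
  obtain ⟨s, hcard, hhom, hspan⟩ := Nat.find_spec hex
  have hmin : ∀ s' : Finset M, (∀ x ∈ s', SetLike.IsHomogeneousElem ℳ x) →
      Submodule.span R (s' : Set M) = ⊤ → s.card ≤ s'.card := by
    intro s' h1 h2
    rw [hcard]
    exact Nat.find_min' hex ⟨s', rfl, h1, h2⟩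
  choose! deg hdeg using hhom
  set v : s → M := Subtype.val with hv
  set π : (s → R) →ₗ[R] M := Fintype.linearCombination R v with hπ
  have hπapp : ∀ g, π g = ∑ j, g j • v j := fun g => Fintype.linearCombination_apply R v g
  have hrange : Submodule.span R (Set.range v) = ⊤ := by
    rw [hv, Subtype.range_val]; exact hspan
  have hsurj : Function.Surjective π := by
    rw [← LinearMap.range_eq_top, hπ, Fintype.range_linearCombination, hrange]
  -- Claim 1 : relations have coefficients in `I`
  have claim1 : ∀ g ∈ LinearMap.ker π, ∀ i, g i ∈ I := by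
    intro g hg i
    rw [LinearMap.mem_ker, hπapp] at hg
    by_contra hgi
    have hgi0 : coeff 0 (g i) ≠ 0 := by
      intro h
      apply hgi
      rw [hI, RingHom.mem_ker]
      exact h
    set c : s → R := fun j =>
      if deg j ≤ deg i then homogeneousComponent (deg i - deg j) (g j) else 0 with hc
    have hrel : ∑ j, c j • v j = 0 := by
      have h1 : ((decompose ℳ (∑ j, g j • v j)) (deg i) : M) = ∑ j, c j • v j := by
        rw [decompose_sum, DFinsupp.finsetSum_apply, AddSubmonoidClass.coe_finsetSum]
        refine Finset.sum_congr rfl fun j _ => ?_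
        rw [comp_smul ℳ (hdeg j j.2)]
        simp only [hc]
        split_ifs
        · rfl
        · rw [zero_smul]
      rw [← h1, hg, decompose_zero]; rfl
    have hci : c i = C (coeff 0 (g i)) := by
      simp only [hc]
      rw [if_pos le_rfl, Nat.sub_self, homogeneousComponent_zero]
    have hunit : IsUnit (c i) := by
      rw [hci]
      exact (IsUnit.mk0 _ hgi0).map C
    have hmem : v i ∈ Submodule.span R ((s.erase (i : M) : Finset M) : Set M) := by
      have h1 : c i • v i = - ∑ j ∈ Finset.univ.erase i, c j • v j := by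
        rw [eq_neg_iff_add_eq_zero]
        exact (Finset.add_sum_erase Finset.univ (fun j => c j • v j) (Finset.mem_univ i)).trans hrel
      have h2 : c i • v i ∈ Submodule.span R ((s.erase (i : M) : Finset M) : Set M) := by
        rw [h1]
        refine Submodule.neg_mem _ (Submodule.sum_mem _ fun j hj => Submodule.smul_mem _ _ ?_)
        apply Submodule.subset_span
        rw [Finset.mem_erase] at hj
        simp only [Finset.coe_erase, Set.mem_sdiff, Finset.mem_coe, Set.mem_singleton_iff]
        exact ⟨j.2, fun h => hj.1 (Subtype.ext h)⟩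
      obtain ⟨u, hu⟩ := hunit
      have : v i = (↑u⁻¹ : R) • (c i • v i) := by
        rw [← hu, smul_smul, Units.inv_mul, one_smul]
      rw [this]
      exact Submodule.smul_mem _ _ h2
    have hspan' : Submodule.span R ((s.erase (i : M) : Finset M) : Set M) = ⊤ := by
      rw [eq_top_iff, ← hspan, Submodule.span_le]
      intro x hx
      by_cases hxi : x = (i : M)
      · rw [hxi]; exact hmem
      · apply Submodule.subset_span
        simp only [Finset.coe_erase, Set.mem_sdiff, Finset.mem_coe, Set.mem_singleton_iff]
        exact ⟨hx, hxi⟩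
    have := hmin (s.erase (i : M)) (fun x hx => ⟨deg x, hdeg x (Finset.mem_of_mem_erase hx)⟩) hspan'
    have := Finset.card_erase_lt_of_mem i.2
    omega
  -- Claim 2 : ker π ≤ I • ker π, using the injectivity of `M ⊗ I → M ⊗ R`
  have hexact : Function.Exact (LinearMap.ker π).subtype π := by
    intro g
    constructor
    · intro h; exact ⟨⟨g, h⟩, rfl⟩
    · rintro ⟨w, rfl⟩; exact w.2
  -- the multiplication map `(s → R) ⊗ I → (s → R)`
  let μ : (s → R) ⊗[R] I →ₗ[R] (s → R) :=
    (TensorProduct.rid R (s → R)).toLinearMap ∘ₗ LinearMap.lTensor (s → R) I.subtype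
  have hμ : ∀ (f : s → R) (a : I), μ (f ⊗ₜ a) = (a : R) • f := fun f a => by
    simp [μ]
  have claim2 : LinearMap.ker π ≤ I • LinearMap.ker π := by
    intro g hg
    have hgI := claim1 g hg
    -- the element of `(s → R) ⊗ I`
    let t' : (s → R) ⊗[R] I := ∑ j, (Pi.single j (1 : R) : s → R) ⊗ₜ[R] (⟨g j, hgI j⟩ : I)
    have ht'μ : μ t' = g := by
      simp only [t', map_sum, hμ]
      funext j
      simp [Finset.sum_apply, Pi.single_apply]
    have hπsingle : ∀ j, π (Pi.single j (1 : R)) = v j := fun j => by
      rw [hπapp]
      simp [Pi.single_apply]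
    have ht : LinearMap.rTensor I π t' = 0 := by
      apply hinj
      rw [map_zero]
      apply (TensorProduct.rid R M).injective
      rw [map_zero]
      have hg' : ∑ j, g j • v j = 0 := by
        rw [← hπapp]; exact hg
      rw [← hg']
      simp only [t', map_sum]
      refine Finset.sum_congr rfl fun j _ => ?_
      rw [LinearMap.rTensor_tmul, LinearMap.lTensor_tmul, TensorProduct.rid_tmul, hπsingle]
      rfl
    have hex2 := rTensor_exact I hexact hsurj
    obtain ⟨w, hw⟩ := (hex2 t').1 ht
    have hall : ∀ w : (LinearMap.ker π) ⊗[R] I,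
        μ (LinearMap.rTensor I (LinearMap.ker π).subtype w) ∈ I • LinearMap.ker π := by
      intro w
      induction w using TensorProduct.induction_on with
      | zero => simp
      | tmul x a =>
        rw [LinearMap.rTensor_tmul, hμ]
        exact Submodule.smul_mem_smul a.2 x.2
      | add x y hx hy =>
        rw [map_add, map_add]
        exact Submodule.add_mem _ hx hy
    rw [← ht'μ, ← hw]
    exact hall w
  have hKn : ∀ n : ℕ, LinearMap.ker π ≤ (I ^ n) • (⊤ : Submodule R (s → R)) := by
    intro n
    induction n with
    | zero =>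
      rw [pow_zero, Ideal.one_eq_top, Submodule.top_smul]
      exact le_top
    | succ n ih =>
      refine claim2.trans ?_
      rw [pow_succ', Submodule.mul_smul]
      exact Submodule.smul_mono le_rfl ih
  have hker : ∀ g ∈ LinearMap.ker π, g = 0 := by
    intro g hg
    funext i
    exact eq_zero_of_forall_mem_pow fun n => mem_of_mem_smul_top _ (hKn n hg) i
  have hli : LinearIndependent R v := by
    rw [Fintype.linearIndependent_iff]
    intro g hg i
    have := hker g (by rw [LinearMap.mem_ker, hπapp]; exact hg)
    rw [this]; rfl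
  refine ⟨s, Module.Basis.mk hli (by rw [hrange]), fun i => ?_⟩
  rw [Module.Basis.mk_apply]
  exact ⟨deg i, hdeg i i.2⟩

end Groth.Agent.Lib.R2H7.GrFreeTor
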