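/-
The canonical module of a Veronese subring: `K_{R^(q)} = (K_R)^(q)`.
An abstract assembly lemma (a semilinear map between graded modules defined piecewise through
perfect pairings) and its application to *canonical modules, using the dictionary between a
*canonical module and the graded dual of the top local cohomology (`R2H7GrCanDict`) and the
Veronese isomorphism of graded local cohomology modules (`R2H7GrVerLCW`).
-/
import Mathlib
import Groth.Agent.Lib.R2H7GrCanDict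
import Groth.Agent.Lib.R2H7GrVerLCW

set_option autoImplicit false
open DirectSum

noncomputable section

namespace Groth.Agent.Lib.R2H7.GrVerCan

open Groth.Agent.Lib.R2H7.GrVer Groth.Agent.Lib.R2H7.GrVerLC Groth.Agent.Lib.R2H7.GrVerLCW
  Groth.Agent.Lib.R2H7.GrCanDict

universe u

/-! ### The assembly lemma -/

section assembly

variable {R' R : Type u} [CommRing R'] [CommRing R] (φ : R' →+* R)
  (𝒜' : ℤ → AddSubgroup R') [GradedRing 𝒜'] (𝒜 : ℤ → AddSubgroup R) [GradedRing 𝒜] (q : ℕ)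
  {C' : Type u} [AddCommGroup C'] [Module R' C'] (𝒞' : ℤ → AddSubgroup C')
  [DirectSum.Decomposition 𝒞'] [SetLike.GradedSMul 𝒜' 𝒞']
  {C : Type u} [AddCommGroup C] [Module R C] (𝒞 : ℤ → AddSubgroup C)
  [DirectSum.Decomposition 𝒞] [SetLike.GradedSMul 𝒜 𝒞]
  {H' : Type u} [AddCommGroup H'] [Module R' H'] (ℋ' : ℤ → AddSubgroup H')
  {H : Type u} [AddCommGroup H] [Module R H] (ℋ : ℤ → AddSubgroup H)
  {T' T : Type u} [AddCommGroup T'] [AddCommGroup T] (ι : T' →+ T)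
  (β' : C' → H' → T') (β : C → H → T) (ψ : H' → H)

theorem exists_semilinear (hq : 0 < q)
    (hφdeg : ∀ (a : ℤ) (r' : R'), r' ∈ 𝒜' a → φ r' ∈ 𝒜 (a * q))
    (hι : Function.Injective ι)
    (hβ'add : ∀ c₁ c₂ h, β' (c₁ + c₂) h = β' c₁ h + β' c₂ h)
    (hβadd : ∀ c₁ c₂ h, β (c₁ + c₂) h = β c₁ h + β c₂ h)
    (hβ' : ∀ (r' : R') c' h', β' (r' • c') h' = β' c' (r' • h'))
    (hβ : ∀ (r : R) c h, β (r • c) h = β c (r • h))
    (hψs : ∀ (r' : R') h', ψ (r' • h') = φ r' • ψ h')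
    (hψ2 : ∀ (j : ℤ) h, h ∈ ℋ (j * q) → ∃ h' ∈ ℋ' j, ψ h' = h)
    (hsmulH' : ∀ (a j : ℤ) (r' : R') h', r' ∈ 𝒜' a → h' ∈ ℋ' j → r' • h' ∈ ℋ' (a + j))
    (hL : ∀ (i : ℤ) c, c ∈ 𝒞 i → (∀ h ∈ ℋ (-i), β c h = 0) → c = 0)
    (hL' : ∀ (j : ℤ) c', c' ∈ 𝒞' j → (∀ h' ∈ ℋ' (-j), β' c' h' = 0) → c' = 0)
    (hRep : ∀ (j : ℤ) c', c' ∈ 𝒞' j →
      ∃ c ∈ 𝒞 (j * q), ∀ h' ∈ ℋ' (-j), β c (ψ h') = ι (β' c' h'))
    (hRep' : ∀ (j : ℤ) c, c ∈ 𝒞 (j * q) →
      ∃ c' ∈ 𝒞' j, ∀ h' ∈ ℋ' (-j), β c (ψ h') = ι (β' c' h')) :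
    ∃ g : C' →ₛₗ[φ] C, Function.Injective g ∧
      (∀ (j : ℤ) c', c' ∈ 𝒞' j → g c' ∈ 𝒞 (j * q)) ∧
      (∀ (j : ℤ) c, c ∈ 𝒞 (j * q) → ∃ c' ∈ 𝒞' j, g c' = c) := by
  classical
  have hq0 : (q : ℤ) ≠ 0 := by exact_mod_cast hq.ne'
  have hβ0 : ∀ h, β 0 h = 0 := by
    intro h
    have h1 := hβadd 0 0 h
    rw [add_zero] at h1
    have h2 : β 0 h + 0 = β 0 h + β 0 h := by rw [add_zero]; exact h1
    exact (add_left_cancel h2).symm
  have hβ'0 : ∀ h, β' 0 h = 0 := by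
    intro h
    have h1 := hβ'add 0 0 h
    rw [add_zero] at h1
    have h2 : β' 0 h + 0 = β' 0 h + β' 0 h := by rw [add_zero]; exact h1
    exact (add_left_cancel h2).symm
  have huniq : ∀ (j : ℤ) (c₁ c₂ : C), c₁ ∈ 𝒞 (j * q) → c₂ ∈ 𝒞 (j * q) →
      (∀ h' ∈ ℋ' (-j), β c₁ (ψ h') = β c₂ (ψ h')) → c₁ = c₂ := by
    intro j c₁ c₂ h1 h2 heq
    rw [← sub_eq_zero]
    refine hL (j * q) (c₁ - c₂) (sub_mem h1 h2) (fun h hh => ?_)
    have hh' : h ∈ ℋ ((-j) * q) := by rw [neg_mul]; exact hh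
    obtain ⟨h', hh'm, rfl⟩ := hψ2 (-j) h hh'
    have e1 := hβadd (c₁ - c₂) c₂ (ψ h')
    rw [sub_add_cancel, heq h' hh'm] at e1
    have e2 : 0 + β c₂ (ψ h') = β (c₁ - c₂) (ψ h') + β c₂ (ψ h') := by rw [zero_add]; exact e1
    exact (add_right_cancel e2).symm
  choose gj hgj_mem hgj_spec using hRep
  let gA : ∀ j : ℤ, ↥(𝒞' j) →+ C := fun j =>
    { toFun := fun x => gj j x.1 x.2
      map_zero' := by
        apply huniq j _ _ (hgj_mem j _ _) (zero_mem _)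
        intro h' hh'
        rw [hgj_spec j _ _ h' hh', hβ0]
        have e1 : β' ((0 : ↥(𝒞' j)) : C') h' = 0 := hβ'0 h'
        rw [e1, map_zero]
      map_add' := fun x y => by
        apply huniq j _ _ (hgj_mem j _ _) (add_mem (hgj_mem j _ _) (hgj_mem j _ _))
        intro h' hh'
        rw [hgj_spec j _ _ h' hh', hβadd, hgj_spec j _ _ h' hh', hgj_spec j _ _ h' hh']
        have e1 : β' ((x + y : ↥(𝒞' j)) : C') h' = β' x.1 h' + β' y.1 h' := hβ'add x.1 y.1 h'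
        rw [e1, map_add] }
  let G : C' →+ C :=
    (DirectSum.toAddMonoid gA).comp (DirectSum.decomposeAddEquiv 𝒞').toAddMonoidHom
  have hG_of_mem : ∀ (j : ℤ) (c' : C') (hc' : c' ∈ 𝒞' j), G c' = gj j c' hc' := by
    intro j c' hc'
    show (DirectSum.toAddMonoid gA) (decompose 𝒞' c') = _
    rw [DirectSum.decompose_of_mem 𝒞' hc', DirectSum.toAddMonoid_of]
    rfl
  have hGmem : ∀ (j : ℤ) (c' : C'), c' ∈ 𝒞' j → G c' ∈ 𝒞 (j * q) := by
    intro j c' hc'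
    rw [hG_of_mem j c' hc']
    exact hgj_mem j c' hc'
  have hGs : ∀ (r' : R') (c' : C'), G (r' • c') = φ r' • G c' := by
    intro r' c'
    induction c' using DirectSum.Decomposition.inductionOn 𝒞' with
    | zero => rw [smul_zero, map_zero, smul_zero]
    | homogeneous x =>
      rename_i j
      induction r' using DirectSum.Decomposition.inductionOn 𝒜' with
      | zero => rw [zero_smul, map_zero, map_zero, zero_smul]
      | homogeneous s =>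
        rename_i a
        have hsx : (s : R') • (x : C') ∈ 𝒞' (a + j) := SetLike.GradedSMul.smul_mem s.2 x.2
        rw [hG_of_mem (a + j) _ hsx, hG_of_mem j _ x.2]
        apply huniq (a + j) _ _ (hgj_mem _ _ _)
        · have := SetLike.GradedSMul.smul_mem (A := 𝒜) (B := 𝒞) (hφdeg a s s.2)
            (hgj_mem j x x.2)
          rw [vadd_eq_add, ← add_mul] at this
          exact this
        · intro h' hh'
          rw [hgj_spec (a + j) _ hsx h' hh', hβ, ← hψs]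
          have hsh : (s : R') • h' ∈ ℋ' (-j) := by
            have := hsmulH' a (-(a + j)) s h' s.2 hh'
            have e1 : a + -(a + j) = -j := by ring
            rwa [e1] at this
          rw [hgj_spec j _ x.2 _ hsh, hβ']
      | add s s' hs hs' =>
        rw [add_smul, map_add, hs, hs', map_add, add_smul]
    | add c₁ c₂ h₁ h₂ =>
      rw [smul_add, map_add, h₁, h₂, map_add, smul_add]
  have hcomp : ∀ (c' : C') (j : ℤ),
      ((decompose 𝒞 (G c')) (j * q) : C) = G ((decompose 𝒞' c') j) := by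
    intro c' j
    induction c' using DirectSum.Decomposition.inductionOn 𝒞' with
    | zero => simp
    | homogeneous x =>
      rename_i j₀
      by_cases hj : j₀ = j
      · subst hj
        rw [DirectSum.decompose_of_mem_same 𝒞 (hGmem _ _ x.2),
          DirectSum.decompose_of_mem_same 𝒞' x.2]
      · have hne : j₀ * (q : ℤ) ≠ j * q := fun h => hj (mul_right_cancel₀ hq0 h)
        rw [DirectSum.decompose_of_mem_ne 𝒞 (hGmem _ _ x.2) hne,
          DirectSum.decompose_of_mem_ne 𝒞' x.2 hj, map_zero]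
    | add a b ha hb =>
      rw [map_add, DirectSum.decompose_add, DirectSum.add_apply, AddSubgroup.coe_add, ha, hb,
        DirectSum.decompose_add, DirectSum.add_apply, AddSubgroup.coe_add, map_add]
  have hinjpiece : ∀ (j : ℤ) (x : C'), x ∈ 𝒞' j → G x = 0 → x = 0 := by
    intro j x hx hGx
    refine hL' j x hx (fun h' hh' => ?_)
    apply hι
    rw [map_zero, ← hgj_spec j x hx h' hh', ← hG_of_mem j x hx, hGx, hβ0]
  refine ⟨{ toFun := G, map_add' := map_add G, map_smul' := hGs }, ?_, hGmem, ?_⟩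
  · intro c₁ c₂ h12
    have h12' : G c₁ = G c₂ := h12
    rw [← sub_eq_zero] at h12' ⊢
    rw [← map_sub] at h12'
    have hpieces : ∀ j, ((decompose 𝒞' (c₁ - c₂)) j : C') = 0 := by
      intro j
      refine hinjpiece j _ (SetLike.coe_mem _) ?_
      rw [← hcomp, h12', DirectSum.decompose_zero]
      rfl
    rw [← DirectSum.sum_support_decompose 𝒞' (c₁ - c₂)]
    exact Finset.sum_eq_zero (fun j _ => hpieces j)
  · intro j c hc
    obtain ⟨c', hc', hspec⟩ := hRep' j c hc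
    refine ⟨c', hc', ?_⟩
    show G c' = c
    rw [hG_of_mem j c' hc']
    apply huniq j _ _ (hgj_mem j c' hc') hc
    intro h' hh'
    rw [hgj_spec j c' hc' h' hh', hspec h' hh']

end assembly

/-! ### The canonical module of a Veronese subring -/

section main

variable {R : Type u} [CommRing R] [IsNoetherianRing R] {𝒜 : ℤ → AddSubgroup R} [GradedRing 𝒜]

theorem smul_mem_hgr {M : Type u} [AddCommGroup M] [Module R M] {ℳ : ℤ → AddSubgroup M}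
    [DirectSum.Decomposition ℳ] [SetLike.GradedSMul 𝒜 ℳ] (E : GrLC.StarInjRes 𝒜 ℳ)
    (a : HomogeneousIdeal 𝒜) (i : ℕ) {g j : ℤ} {r : R} {ξ : E.H a i}
    (hr : r ∈ 𝒜 g) (hξ : ξ ∈ E.Hgr a i j) : r • ξ ∈ E.Hgr a i (g + j) := by
  obtain ⟨z, hz, rfl⟩ := hξ
  refine ⟨r • z, ?_, map_smul _ _ _⟩
  have := SetLike.GradedSMul.smul_mem (A := 𝒜) (B := (E.X i).gr) hr hz
  rw [vadd_eq_add] at this
  exact this

theorem exists_semilinear_veronese_starCanonical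
    (hpos : ∀ n : ℤ, n < 0 → 𝒜 n = ⊥) (h0 : IsField (GrLC.deg0 𝒜))
    (m : HomogeneousIdeal 𝒜) (hm : GrLC.IsStarLocal 𝒜 m)
    (hmsp : m.toIdeal = Ideal.span (⋃ n ∈ Set.Ioi (0 : ℤ), (𝒜 n : Set R)))
    (n : ℕ) (I : GrLC.StarInjRes 𝒜 𝒜)
    {E' : Type u} [AddCommGroup E'] [Module R E'] (𝓔 : ℤ → AddSubgroup E')
    [DirectSum.Decomposition 𝓔] [SetLike.GradedSMul 𝒜 𝓔]
    (e : (R ⧸ m.toIdeal) →ₗ[R] E') (he : GrLC.IsStarInjHull 𝒜 (GrLC.quotGr 𝒜 m) 𝓔 e)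
    {C : Type u} [AddCommGroup C] [Module R C] (𝒞 : ℤ → AddSubgroup C)
    [DirectSum.Decomposition 𝒞] [SetLike.GradedSMul 𝒜 𝒞]
    (hC : GrLC.IsStarCanonical 𝒜 𝒞 𝓔 m n I)
    (q : ℕ) (hq : 0 < q) {R' : Type u} [CommRing R'] {𝒜' : ℤ → AddSubgroup R'} [GradedRing 𝒜']
    (φ : R' →+* R) (hφ : Function.Injective φ)
    (hdeg : ∀ j : ℤ, (𝒜' j).map (φ : R' →+ R) = 𝒜 (j * q))
    (m' : HomogeneousIdeal 𝒜') (hm' : GrLC.IsStarLocal 𝒜' m')
    (hm'sp : m'.toIdeal = Ideal.span (⋃ j ∈ Set.Ioi (0 : ℤ), (𝒜' j : Set R')))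
    (I' : GrLC.StarInjRes 𝒜' 𝒜')
    {E'' : Type u} [AddCommGroup E''] [Module R' E''] (𝓔'' : ℤ → AddSubgroup E'')
    [DirectSum.Decomposition 𝓔''] [SetLike.GradedSMul 𝒜' 𝓔'']
    (e' : (R' ⧸ m'.toIdeal) →ₗ[R'] E'')
    (he' : GrLC.IsStarInjHull 𝒜' (GrLC.quotGr 𝒜' m') 𝓔'' e')
    {C' : Type u} [AddCommGroup C'] [Module R' C'] (𝒞' : ℤ → AddSubgroup C')
    [DirectSum.Decomposition 𝒞'] [SetLike.GradedSMul 𝒜' 𝒞']
    (hC' : GrLC.IsStarCanonical 𝒜' 𝒞' 𝓔'' m' n I') :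
    ∃ g : C' →ₛₗ[φ] C, Function.Injective g ∧
      (∀ (j : ℤ) c', c' ∈ 𝒞' j → g c' ∈ 𝒞 (j * q)) ∧
      (∀ (j : ℤ) c, c ∈ 𝒞 (j * q) → ∃ c' ∈ 𝒞' j, g c' = c) := by
  classical
  let V : VerData 𝒜 𝒜' := ⟨φ, q, hq, hφ, hdeg⟩
  have hR' : IsNoetherianRing R' := V.isNoetherianRing_ver
  have hpos' : ∀ j : ℤ, j < 0 → 𝒜' j = ⊥ := by
    intro j hj
    rw [eq_bot_iff]
    intro r' hr'
    have h1 : φ r' ∈ 𝒜 (j * q) := V.map_mem hr'
    have hlt : j * (q : ℤ) < 0 := mul_neg_of_neg_of_pos hj (by exact_mod_cast hq)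
    rw [hpos _ hlt] at h1
    have h2 : φ r' = 0 := AddSubgroup.mem_bot.mp h1
    exact AddSubgroup.mem_bot.mpr (hφ (h2.trans (map_zero φ).symm))
  let φ₀e : ↥(GrLC.deg0 𝒜') ≃+* ↥(GrLC.deg0 𝒜) :=
    RingEquiv.ofBijective (φ₀ V) (φ₀_bijective V)
  have h0' : IsField (GrLC.deg0 𝒜') := MulEquiv.isField h0 φ₀e.toMulEquiv
  obtain ⟨β, hβ, hL, hPerf⟩ := exists_pairing hpos h0 m hm hmsp 𝓔 e he 𝒞 n I hC
  obtain ⟨β', hβ', hL', hPerf'⟩ := exists_pairing hpos' h0' m' hm' hm'sp 𝓔'' e' he' 𝒞' n I' hC'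
  have hψex : ∃ ψ : I'.H m' n →ₛₗ[φ] I.H m n, Function.Injective ψ ∧
      (∀ (j : ℤ) (ξ : I'.H m' n), ξ ∈ I'.Hgr m' n j → ψ ξ ∈ I.Hgr m n (j * q)) ∧
      (∀ (j : ℤ) (η : I.H m n), η ∈ I.Hgr m n (j * q) → ∃ ξ ∈ I'.Hgr m' n j, ψ ξ = η) :=
    exists_veronese_H V m m' hmsp hm'sp
      (X := GrLC.GMod.of 𝒜 R 𝒜) (X' := GrLC.GMod.of 𝒜' R' 𝒜') I I' (φ : R' →+ R)
      (fun r' x' => map_mul φ r' x') hφ hdeg n
  obtain ⟨ψ, hψinj, hψ1, hψ2⟩ := hψex
  have hφ₀coe : ∀ a' : ↥(GrLC.deg0 𝒜'), ((φ₀ V a' : ↥(GrLC.deg0 𝒜)) : R) = φ (a' : R') :=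
    fun a' => rfl
  have hψ₀ : ∀ (a' : ↥(GrLC.deg0 𝒜')) (h' : I'.H m' n), ψ (a' • h') = (φ₀ V a') • ψ h' := by
    intro a' h'
    show ψ ((a' : R') • h') = ((φ₀ V a' : ↥(GrLC.deg0 𝒜)) : R) • ψ h'
    rw [map_smulₛₗ, hφ₀coe]
  refine exists_semilinear φ 𝒜' 𝒜 q 𝒞' 𝒞 (I'.Hgr m' n) (I.Hgr m n)
    ((φ₀ V : ↥(GrLC.deg0 𝒜') →+* ↥(GrLC.deg0 𝒜)) : ↥(GrLC.deg0 𝒜') →+ ↥(GrLC.deg0 𝒜))
    (fun c' h' => β' c' h') (fun c h => β c h) (fun h' => ψ h') hq
    (fun a r' hr' => V.map_mem hr') (φ₀_bijective V).1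
    (fun c₁ c₂ h => by rw [map_add, LinearMap.add_apply])
    (fun c₁ c₂ h => by rw [map_add, LinearMap.add_apply])
    hβ' hβ (fun r' h' => map_smulₛₗ ψ r' h') hψ2
    (fun a j r' h' hr' hh' => smul_mem_hgr I' m' n hr' hh') hL hL' ?_ ?_
  · -- representability, from `R'` to `R`
    intro j c' hc'
    have hex : ∀ h : ↥(I.Hcomp m n (-(j * q))),
        ∃ h' : I'.H m' n, h' ∈ I'.Hgr m' n (-j) ∧ ψ h' = h.1 := by
      intro h
      have hh : h.1 ∈ I.Hgr m n ((-j) * q) := by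
        rw [neg_mul]
        exact h.2
      exact hψ2 (-j) h.1 hh
    choose s hs_mem hs_eq using hex
    have hs_add : ∀ h₁ h₂, s (h₁ + h₂) = s h₁ + s h₂ := by
      intro h₁ h₂
      apply hψinj
      rw [hs_eq, map_add, hs_eq, hs_eq]
      rfl
    have hs_smul : ∀ (a' : ↥(GrLC.deg0 𝒜')) h, s ((φ₀ V a') • h) = a' • s h := by
      intro a' h
      apply hψinj
      rw [hs_eq, hψ₀, hs_eq]
      rfl
    let l : ↥(I.Hcomp m n (-(j * q))) →ₗ[GrLC.deg0 𝒜] GrLC.deg0 𝒜 :=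
      { toFun := fun h => φ₀ V (β' c' (s h))
        map_add' := fun h₁ h₂ => by rw [hs_add, map_add, map_add]
        map_smul' := fun a h => by
          obtain ⟨a', rfl⟩ := (φ₀_bijective V).2 a
          rw [hs_smul, map_smul, smul_eq_mul, map_mul, RingHom.id_apply, smul_eq_mul] }
    obtain ⟨c, hc, hcl⟩ := hPerf (j * q) l
    refine ⟨c, hc, fun h' hh' => ?_⟩
    have hψh' : ψ h' ∈ I.Hcomp m n (-(j * q)) := by
      have := hψ1 (-j) h' hh'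
      rwa [neg_mul] at this
    have h1 := hcl ⟨ψ h', hψh'⟩
    have h2 : s ⟨ψ h', hψh'⟩ = h' := hψinj (hs_eq ⟨ψ h', hψh'⟩)
    show β c (ψ h') = φ₀ V (β' c' h')
    rw [h1]
    show φ₀ V (β' c' (s ⟨ψ h', hψh'⟩)) = φ₀ V (β' c' h')
    rw [h2]
  · -- representability, from `R` to `R'`
    intro j c hc
    let l' : ↥(I'.Hcomp m' n (-j)) →ₗ[GrLC.deg0 𝒜'] GrLC.deg0 𝒜' :=
      { toFun := fun h' => φ₀e.symm (β c (ψ h'.1))
        map_add' := fun h₁ h₂ => by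
          show φ₀e.symm (β c (ψ (h₁.1 + h₂.1))) = _
          rw [map_add, map_add, map_add]
        map_smul' := fun a' h' => by
          show φ₀e.symm (β c (ψ (a' • h'.1))) = a' • φ₀e.symm (β c (ψ h'.1))
          rw [hψ₀, map_smul, smul_eq_mul, map_mul, smul_eq_mul]
          congr 1
          exact φ₀e.symm_apply_apply a' }
    obtain ⟨c', hc', hcl'⟩ := hPerf' j l'
    refine ⟨c', hc', fun h' hh' => ?_⟩
    have h1 := hcl' ⟨h', hh'⟩
    show β c (ψ h') = φ₀ V (β' c' h')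
    rw [h1]
    show β c (ψ h') = φ₀e (φ₀e.symm (β c (ψ h')))
    rw [φ₀e.apply_symm_apply]

end main

end Groth.Agent.Lib.R2H7.GrVerCan
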