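/-
A graded domain `R` over a field whose top local cohomology `H = H^n_m(R)` carries the "socle
package" (`R2H7GrSocle.Pack`: `H_{-d}` is one-dimensional and every nonzero homogeneous element of
`H` has a nonzero multiple there) has *canonical module `R(-d)`: for any *canonical module `C`
there is a bijective `R`-linear map `R → C` homogeneous of degree `d`.

The functional `λ` on `H` (a coordinate on `H_{-d}`, zero in the other degrees) gives the pairing
`(r, h) ↦ λ (r h)` between `R(-d)` and `H`; it is nondegenerate in `h` by the package and in `r`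
because `H` is a faithful `R`-module (`r H = H` for `r ≠ 0` by right exactness of `H^n_m`, and
`H ≠ 0`).  The dictionary `R2H7GrCanDict.exists_pairing` and the assembly lemma
`R2H7GrVerCan.exists_semilinear` then produce the isomorphism.
-/
import Mathlib
import Groth.Agent.Lib.R2H7GrSocle
import Groth.Agent.Lib.R2H7GrVerCan

set_option autoImplicit false
open DirectSum

noncomputable section

namespace Groth.Agent.Lib.R2H7.GrGorCan

open Groth.Agent.Lib.Helper29GrEss Groth.Agent.Lib.R2H7.GrDer Groth.Agent.Lib.R2H7.GrOps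
  Groth.Agent.Lib.R2H7.GrFin Groth.Agent.Lib.R2H7.GrCanDict Groth.Agent.Lib.R2H7.GrCanFin
  Groth.Agent.Lib.R2H7.GrSocle

universe u

variable {R : Type u} [CommRing R] {𝒜 : ℤ → AddSubgroup R} [GradedRing 𝒜] [IsNoetherianRing R]

theorem exists_equiv_shift [IsDomain R]
    (hpos : ∀ n : ℤ, n < 0 → 𝒜 n = ⊥) (h0 : IsField (GrLC.deg0 𝒜))
    (m : HomogeneousIdeal 𝒜) (hm : GrLC.IsStarLocal 𝒜 m)
    (hmsp : m.toIdeal = Ideal.span (⋃ n ∈ Set.Ioi (0 : ℤ), (𝒜 n : Set R)))
    (n : ℕ) (hn : ringKrullDim R = (n : WithBot ℕ∞)) (I : GrLC.StarInjRes 𝒜 𝒜) (d : ℤ)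
    (hP : Pack m (GrLC.GMod.of 𝒜 R 𝒜) n d)
    {E' : Type u} [AddCommGroup E'] [Module R E'] (𝓔 : ℤ → AddSubgroup E')
    [DirectSum.Decomposition 𝓔] [SetLike.GradedSMul 𝒜 𝓔]
    (e : (R ⧸ m.toIdeal) →ₗ[R] E') (he : GrLC.IsStarInjHull 𝒜 (GrLC.quotGr 𝒜 m) 𝓔 e)
    {C : Type u} [AddCommGroup C] [Module R C] (𝒞 : ℤ → AddSubgroup C)
    [DirectSum.Decomposition 𝒞] [SetLike.GradedSMul 𝒜 𝒞]
    (hC : GrLC.IsStarCanonical 𝒜 𝒞 𝓔 m n I) :
    ∃ f : R →ₗ[R] C, Function.Bijective f ∧ GrLC.IsGrHomDeg 𝒜 𝒞 f d := by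
  classical
  let _ : Field (GrLC.deg0 𝒜) := h0.toField
  obtain ⟨β, hβbal, hβL, hβrep⟩ := exists_pairing hpos h0 m hm hmsp 𝓔 e he 𝒞 n I hC
  obtain ⟨η, hηmem, hηne, hηgen⟩ := hP.gen I
  obtain ⟨c₀, hc₀⟩ := Module.Projective.exists_dual_ne_zero (GrLC.deg0 𝒜) hηne
  -- the projection onto the degree `-d` component
  let proj : I.H m n →ₗ[GrLC.deg0 𝒜] I.H m n :=
    { toFun := fun h => ((decompose (I.Hgr m n) h) (-d) : I.H m n)
      map_add' := fun h h' => by
        rw [DirectSum.decompose_add, DirectSum.add_apply, AddSubgroup.coe_add]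
      map_smul' := fun a' h => by
        show ((decompose (I.Hgr m n) ((a' : R) • h)) (-d) : I.H m n) =
          (a' : R) • ((decompose (I.Hgr m n) h) (-d) : I.H m n)
        rw [decompose_smul_of_mem 𝒜 (I.Hgr m n) (show (a' : R) ∈ 𝒜 0 from a'.2) h (-d),
          sub_zero] }
  let lam : I.H m n →ₗ[GrLC.deg0 𝒜] GrLC.deg0 𝒜 := c₀ ∘ₗ proj
  have hlam_same : ∀ h ∈ I.Hgr m n (-d), lam h = c₀ h := by
    intro h hh
    show c₀ ((decompose (I.Hgr m n) h) (-d) : I.H m n) = c₀ h
    rw [DirectSum.decompose_of_mem_same _ hh]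
  have hlam_ne : ∀ h ∈ I.Hgr m n (-d), h ≠ 0 → lam h ≠ 0 := by
    intro h hh hne
    rw [hlam_same h hh]
    obtain ⟨c, hc, rfl⟩ := hηgen h hh
    have hc' : (⟨c, hc⟩ : GrLC.deg0 𝒜) ≠ 0 := by
      intro h0'
      apply hne
      have hc0 : c = 0 := congrArg Subtype.val h0'
      rw [hc0]
      exact zero_smul R η
    have e1 : c • η = (⟨c, hc⟩ : GrLC.deg0 𝒜) • η := rfl
    rw [e1, map_smul, smul_eq_mul]
    exact mul_ne_zero hc' hc₀
  -- nondegeneracy in the cohomology variable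
  have hND : ∀ (s : ℤ) (h : I.H m n), h ∈ I.Hgr m n s → h ≠ 0 →
      ∃ r ∈ 𝒜 (-d - s), lam (r • h) ≠ 0 := by
    intro s h hh hne
    obtain ⟨u, r, hr, hrne, hrmem⟩ := hP.ess I s h hh hne
    have hmem2 : r • h ∈ I.Hgr m n (u + s) := smul_mem_hgr I m n hr hh
    have hdeg := eq_of_mem_hgr (X := GrLC.GMod.of 𝒜 R 𝒜) m I n hmem2 hrmem hrne
    have hu : u = -d - s := by omega
    rw [hu] at hr
    exact ⟨r, hr, hlam_ne _ hrmem hrne⟩
  -- faithfulness
  have hfaith : ∀ r : R, r ≠ 0 → ∀ t, r ∈ 𝒜 t → ∃ h : I.H m n, r • h ≠ 0 := by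
    intro r hr0 t hrt
    by_contra hcon
    have hall : ∀ h : I.H m n, r • h = 0 := by
      intro h
      by_contra hne
      exact hcon ⟨h, hne⟩
    have hJhom : (Ideal.span {r}).IsHomogeneous 𝒜 :=
      Ideal.homogeneous_span 𝒜 {r}
        (fun x hx => ⟨t, by rw [Set.mem_singleton_iff.mp hx]; exact hrt⟩)
    have hdim : Module.supportDim R (R ⧸ Ideal.span {r}) < (n : WithBot ℕ∞) := by
      rw [Module.supportDim_quotient_eq_ringKrullDim]
      have h1 := ringKrullDim_quotient_succ_le_of_nonZeroDivisor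
        (mem_nonZeroDivisors_of_ne_zero hr0)
      rw [hn] at h1
      by_contra hlt
      have h2 : (n : WithBot ℕ∞) + 1 ≤ ringKrullDim (R ⧸ Ideal.span {r}) + 1 :=
        add_le_add (not_lt.mp hlt) le_rfl
      have h3 : ((n : WithBot ℕ∞) + 1) ≤ (n : WithBot ℕ∞) := le_trans h2 h1
      have h4 : n + 1 ≤ n := by exact_mod_cast h3
      omega
    have htop := smul_top_eq_top m I n hn (Ideal.span {r}) hJhom hdim
    have hbot : Ideal.span {r} • (⊤ : Submodule R (I.H m n)) ≤ ⊥ := by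
      rw [Submodule.smul_le]
      intro j hj h _
      obtain ⟨a', rfl⟩ := Ideal.mem_span_singleton'.mp hj
      rw [Submodule.mem_bot, mul_smul, hall, smul_zero]
    rw [htop] at hbot
    apply hηne
    exact (Submodule.mem_bot R).mp (hbot Submodule.mem_top)
  -- nondegeneracy in the ring variable
  have hRND : ∀ (t : ℤ) (r : R), r ∈ 𝒜 t → r ≠ 0 →
      ∃ h ∈ I.Hgr m n (-d - t), lam (r • h) ≠ 0 := by
    intro t r hrt hr0
    obtain ⟨h, hh⟩ := hfaith r hr0 t hrt
    have hex : ∃ s, r • ((decompose (I.Hgr m n) h) s : I.H m n) ≠ 0 := by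
      by_contra hcon
      apply hh
      rw [← DirectSum.sum_support_decompose (I.Hgr m n) h, Finset.smul_sum]
      refine Finset.sum_eq_zero (fun s _ => ?_)
      by_contra hne
      exact hcon ⟨s, hne⟩
    obtain ⟨s, hs⟩ := hex
    have hsmem : ((decompose (I.Hgr m n) h) s : I.H m n) ∈ I.Hgr m n s := SetLike.coe_mem _
    have hrs : r • ((decompose (I.Hgr m n) h) s : I.H m n) ∈ I.Hgr m n (t + s) :=
      smul_mem_hgr I m n hrt hsmem
    obtain ⟨r', hr', hlr⟩ := hND (t + s) _ hrs hs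
    refine ⟨r' • ((decompose (I.Hgr m n) h) s : I.H m n), ?_, ?_⟩
    · have h1 := smul_mem_hgr I m n hr' hsmem
      have e1 : -d - (t + s) + s = -d - t := by ring
      rwa [e1] at h1
    · rw [smul_comm]
      exact hlr
  -- assembly
  have key : ∃ g : (shiftG (GrLC.GMod.of 𝒜 R 𝒜) (-d)).carrier →ₛₗ[RingHom.id R] C,
      Function.Injective g ∧
      (∀ (j : ℤ) c', c' ∈ (shiftG (GrLC.GMod.of 𝒜 R 𝒜) (-d)).gr j → g c' ∈ 𝒞 (j * (1 : ℕ))) ∧
      (∀ (j : ℤ) c, c ∈ 𝒞 (j * (1 : ℕ)) →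
        ∃ c' ∈ (shiftG (GrLC.GMod.of 𝒜 R 𝒜) (-d)).gr j, g c' = c) := by
    refine Groth.Agent.Lib.R2H7.GrVerCan.exists_semilinear (RingHom.id R) 𝒜 𝒜 1 (shiftG (GrLC.GMod.of 𝒜 R 𝒜) (-d)).gr 𝒞
      (I.Hgr m n) (I.Hgr m n) (AddMonoidHom.id (GrLC.deg0 𝒜))
      (fun (c' : R) (h : I.H m n) => lam (c' • h)) (fun c h => β c h) id
      Nat.one_pos ?_ ?_ ?_ ?_ ?_ ?_ ?_ ?_ ?_ ?_ ?_ ?_ ?_
    · intro a' r' hr'
      rw [Nat.cast_one, mul_one]
      exact hr'
    · exact fun _ _ h => h
    · intro (c₁ : R) (c₂ : R) h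
      show lam ((c₁ + c₂) • h) = lam (c₁ • h) + lam (c₂ • h)
      rw [add_smul, map_add]
    · intro c₁ c₂ h
      show β (c₁ + c₂) h = β c₁ h + β c₂ h
      rw [map_add, LinearMap.add_apply]
    · intro (r' : R) (c' : R) h'
      show lam ((r' * c') • h') = lam (c' • (r' • h'))
      rw [mul_comm, mul_smul]
    · intro r c h
      exact hβbal r c h
    · intro r' h'
      rfl
    · intro j h hh
      rw [Nat.cast_one, mul_one] at hh
      exact ⟨h, hh, rfl⟩
    · intro a' j r' h' hr' hh'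
      exact smul_mem_hgr I m n hr' hh'
    · intro i c hc hz
      exact hβL i c hc hz
    · intro j (c' : R) hc' hz
      by_contra hne
      have hc'' : c' ∈ 𝒜 (j + -d) := hc'
      obtain ⟨h, hh, hl⟩ := hRND (j + -d) c' hc'' hne
      apply hl
      refine hz h ?_
      have e1 : -d - (j + -d) = -j := by ring
      rw [← e1]
      exact hh
    · intro j (c' : R) _
      let l : ↥(I.Hcomp m n (-j)) →ₗ[GrLC.deg0 𝒜] GrLC.deg0 𝒜 :=
        { toFun := fun h => lam (c' • (h : I.H m n))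
          map_add' := fun h h' => by
            show lam (c' • ((h + h' : ↥(I.Hcomp m n (-j))) : I.H m n)) = _
            rw [Submodule.coe_add, smul_add, map_add]
          map_smul' := fun a' h => by
            have e1 : ((a' • h : ↥(I.Hcomp m n (-j))) : I.H m n) =
                (a' : R) • (h : I.H m n) := rfl
            show lam (c' • ((a' • h : ↥(I.Hcomp m n (-j))) : I.H m n)) =
              a' • lam (c' • (h : I.H m n))
            rw [e1, smul_comm]
            exact map_smul lam a' _ }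
      obtain ⟨c, hc, hcl⟩ := hβrep j l
      refine ⟨c, by rw [Nat.cast_one, mul_one]; exact hc, fun h' hh' => ?_⟩
      exact hcl ⟨h', hh'⟩
    · intro j c hc
      rw [Nat.cast_one, mul_one] at hc
      have hfinR : Module.Finite R (GrLC.GMod.of 𝒜 R 𝒜).carrier :=
        inferInstanceAs (Module.Finite R R)
      have hfinH : Module.Finite (GrLC.deg0 𝒜) ↥(I.Hcomp m n (-j)) :=
        finite_hcomp m hpos hmsp (GrLC.GMod.of 𝒜 R 𝒜) I n (-j)
      let B : ↥(GrLC.comp 𝒜 𝒜 (j + -d)) →ₗ[GrLC.deg0 𝒜]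
          ↥(I.Hcomp m n (-j)) →ₗ[GrLC.deg0 𝒜] GrLC.deg0 𝒜 :=
        LinearMap.mk₂ (GrLC.deg0 𝒜) (fun r h => lam ((r : R) • (h : I.H m n)))
          (fun r r' h => by
            show lam (((r + r' : ↥(GrLC.comp 𝒜 𝒜 (j + -d))) : R) • (h : I.H m n)) = _
            rw [Submodule.coe_add, add_smul, map_add])
          (fun a' r h => by
            have e1 : ((a' • r : ↥(GrLC.comp 𝒜 𝒜 (j + -d))) : R) = (a' : R) * (r : R) := rfl
            show lam (((a' • r : ↥(GrLC.comp 𝒜 𝒜 (j + -d))) : R) • (h : I.H m n)) =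
              a' • lam ((r : R) • (h : I.H m n))
            rw [e1, mul_smul]
            exact map_smul lam a' _)
          (fun r h h' => by
            show lam ((r : R) • ((h + h' : ↥(I.Hcomp m n (-j))) : I.H m n)) = _
            rw [Submodule.coe_add, smul_add, map_add])
          (fun a' r h => by
            have e1 : ((a' • h : ↥(I.Hcomp m n (-j))) : I.H m n) =
                (a' : R) • (h : I.H m n) := rfl
            show lam ((r : R) • ((a' • h : ↥(I.Hcomp m n (-j))) : I.H m n)) =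
              a' • lam ((r : R) • (h : I.H m n))
            rw [e1, smul_comm]
            exact map_smul lam a' _)
      have hBflip : Function.Injective B.flip := by
        rw [injective_iff_map_eq_zero]
        intro h hh
        by_contra hne
        have hne' : (h : I.H m n) ≠ 0 := fun h0' => hne (Subtype.ext h0')
        obtain ⟨r, hr, hlr⟩ := hND (-j) h.1 h.2 hne'
        have e1 : -d - -j = j + -d := by ring
        rw [e1] at hr
        apply hlr
        have h1 := LinearMap.congr_fun hh ⟨r, hr⟩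
        exact h1
      have hBsurj : Function.Surjective B := LinearMap.flip_injective_iff₂.mp hBflip
      let l : ↥(I.Hcomp m n (-j)) →ₗ[GrLC.deg0 𝒜] GrLC.deg0 𝒜 :=
        { toFun := fun h => β c (h : I.H m n)
          map_add' := fun h h' => by
            show β c ((h + h' : ↥(I.Hcomp m n (-j))) : I.H m n) = _
            rw [Submodule.coe_add, map_add]
          map_smul' := fun a' h => by
            show β c ((a' • h : ↥(I.Hcomp m n (-j))) : I.H m n) = a' • β c (h : I.H m n)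
            rw [Submodule.coe_smul, map_smul] }
      obtain ⟨r, hr⟩ := hBsurj l
      refine ⟨(r : R), r.2, fun h' hh' => ?_⟩
      have h1 := LinearMap.congr_fun hr ⟨h', hh'⟩
      exact h1.symm
  obtain ⟨g, hginj, hgmem, hgsurj⟩ := key
  let f : R →ₗ[R] C := g
  refine ⟨f, ⟨hginj, ?_⟩, ?_⟩
  · intro c
    have hcomp : ∀ j, ((decompose 𝒞 c) j : C) ∈ LinearMap.range f := by
      intro j
      obtain ⟨c', -, hc'⟩ := hgsurj j _
        (by rw [Nat.cast_one, mul_one]; exact SetLike.coe_mem ((decompose 𝒞 c) j))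
      exact ⟨c', hc'⟩
    have hmem : c ∈ LinearMap.range f := by
      rw [← DirectSum.sum_support_decompose 𝒞 c]
      exact Submodule.sum_mem _ (fun j _ => hcomp j)
    exact LinearMap.mem_range.mp hmem
  · intro g₀ r hr
    have hr' : r ∈ (shiftG (GrLC.GMod.of 𝒜 R 𝒜) (-d)).gr (g₀ + d) := by
      show r ∈ 𝒜 (g₀ + d + -d)
      rw [add_neg_cancel_right]
      exact hr
    have h1 := hgmem (g₀ + d) r hr'
    rw [Nat.cast_one, mul_one] at h1
    exact h1

end Groth.Agent.Lib.R2H7.GrGorCan
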