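/-
A variant of `R2H7GrGorCan.exists_equiv_shift` in which the "socle package" of the top local
cohomology and its faithfulness are hypotheses; and the characterisation of Gorenstein graded rings
over a field by their *canonical module: `R` is Gorenstein iff `K_R ≅ R(a)` for some `a`.
-/
import Mathlib
import Groth.Agent.Lib.R2H7GrGorCan
import Groth.Agent.Lib.R2H7GrGorChar
import Groth.Agent.Lib.R2H7GrAinv

set_option autoImplicit false
open DirectSum

noncomputable section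

namespace Groth.Agent.Lib.R2H7.GrGorCan2

open Groth.Agent.Lib.Helper29GrEss Groth.Agent.Lib.R2H7.GrDer Groth.Agent.Lib.R2H7.GrOps
  Groth.Agent.Lib.R2H7.GrFin Groth.Agent.Lib.R2H7.GrCanDict Groth.Agent.Lib.R2H7.GrCanFin
  Groth.Agent.Lib.R2H7.GrSocle

universe u

variable {R : Type u} [CommRing R] {𝒜 : ℤ → AddSubgroup R} [GradedRing 𝒜] [IsNoetherianRing R]

theorem exists_equiv_shift_of
    (hpos : ∀ n : ℤ, n < 0 → 𝒜 n = ⊥) (h0 : IsField (GrLC.deg0 𝒜))
    (m : HomogeneousIdeal 𝒜) (hm : GrLC.IsStarLocal 𝒜 m)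
    (hmsp : m.toIdeal = Ideal.span (⋃ n ∈ Set.Ioi (0 : ℤ), (𝒜 n : Set R)))
    (n : ℕ) (I : GrLC.StarInjRes 𝒜 𝒜) (d : ℤ)
    (hgen : ∃ η : I.H m n, η ∈ I.Hgr m n (-d) ∧ η ≠ 0 ∧
      ∀ h ∈ I.Hgr m n (-d), ∃ c ∈ 𝒜 0, h = c • η)
    (hess : ∀ (s : ℤ) (h : I.H m n), h ∈ I.Hgr m n s → h ≠ 0 →
      ∃ (u : ℤ) (r : R), r ∈ 𝒜 u ∧ r • h ≠ 0 ∧ r • h ∈ I.Hgr m n (-d))
    (hfaith : ∀ r : R, r ≠ 0 → ∀ t, r ∈ 𝒜 t → ∃ h : I.H m n, r • h ≠ 0)
    {E' : Type u} [AddCommGroup E'] [Module R E'] (𝓔 : ℤ → AddSubgroup E')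
    [DirectSum.Decomposition 𝓔] [SetLike.GradedSMul 𝒜 𝓔]
    (e : (R ⧸ m.toIdeal) →ₗ[R] E') (he : GrLC.IsStarInjHull 𝒜 (GrLC.quotGr 𝒜 m) 𝓔 e)
    {C : Type u} [AddCommGroup C] [Module R C] (𝒞 : ℤ → AddSubgroup C)
    [DirectSum.Decomposition 𝒞] [SetLike.GradedSMul 𝒜 𝒞]
    (hC : GrLC.IsStarCanonical 𝒜 𝒞 𝓔 m n I) :
    ∃ f : R →ₗ[R] C, Function.Bijective f ∧ GrLC.IsGrHomDeg 𝒜 𝒞 f d := by
  classical
  let _ : Field (GrLC.deg0 𝒜) := h0.toField
  obtain ⟨β, hβbal, hβL, hβrep⟩ := exists_pairing hpos h0 m hm hmsp 𝓔 e he 𝒞 n I hC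
  obtain ⟨η, hηmem, hηne, hηgen⟩ := hgen
  obtain ⟨c₀, hc₀⟩ := Module.Projective.exists_dual_ne_zero (GrLC.deg0 𝒜) hηne
  -- the projection onto the degree `-d` component
  let proj : I.H m n →ₗ[GrLC.deg0 𝒜] I.H m n :=
    { toFun := fun h => ((decompose (I.Hgr m n) h) (-d) : I.H m n)
      map_add' := fun h h' => by
        rw [DirectSum.decompose_add, DirectSum.add_apply, AddSubgroup.coe_add]
      map_smul' := fun a' h => by
        show ((decompose (I.Hgr m n) ((a' : R) • h)) (-d) : I.H m n) =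
          (a' : R) • ((decompose (I.Hgr m n) h) (-d) : I.H m n)
        rw [decompose_smul_of_mem 𝒜 (I.Hgr m n) (show (a' : R) ∈ 𝒜 0 from a'.2) h (-d),
          sub_zero] }
  let lam : I.H m n →ₗ[GrLC.deg0 𝒜] GrLC.deg0 𝒜 := c₀ ∘ₗ proj
  have hlam_same : ∀ h ∈ I.Hgr m n (-d), lam h = c₀ h := by
    intro h hh
    show c₀ ((decompose (I.Hgr m n) h) (-d) : I.H m n) = c₀ h
    rw [DirectSum.decompose_of_mem_same _ hh]
  have hlam_ne : ∀ h ∈ I.Hgr m n (-d), h ≠ 0 → lam h ≠ 0 := by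
    intro h hh hne
    rw [hlam_same h hh]
    obtain ⟨c, hc, rfl⟩ := hηgen h hh
    have hc' : (⟨c, hc⟩ : GrLC.deg0 𝒜) ≠ 0 := by
      intro h0'
      apply hne
      have hc0 : c = 0 := congrArg Subtype.val h0'
      rw [hc0]
      exact zero_smul R η
    have e1 : c • η = (⟨c, hc⟩ : GrLC.deg0 𝒜) • η := rfl
    rw [e1, map_smul, smul_eq_mul]
    exact mul_ne_zero hc' hc₀
  -- nondegeneracy in the cohomology variable
  have hND : ∀ (s : ℤ) (h : I.H m n), h ∈ I.Hgr m n s → h ≠ 0 →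
      ∃ r ∈ 𝒜 (-d - s), lam (r • h) ≠ 0 := by
    intro s h hh hne
    obtain ⟨u, r, hr, hrne, hrmem⟩ := hess s h hh hne
    have hmem2 : r • h ∈ I.Hgr m n (u + s) := smul_mem_hgr I m n hr hh
    have hdeg := eq_of_mem_hgr (X := GrLC.GMod.of 𝒜 R 𝒜) m I n hmem2 hrmem hrne
    have hu : u = -d - s := by omega
    rw [hu] at hr
    exact ⟨r, hr, hlam_ne _ hrmem hrne⟩
  -- nondegeneracy in the ring variable
  have hRND : ∀ (t : ℤ) (r : R), r ∈ 𝒜 t → r ≠ 0 →
      ∃ h ∈ I.Hgr m n (-d - t), lam (r • h) ≠ 0 := by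
    intro t r hrt hr0
    obtain ⟨h, hh⟩ := hfaith r hr0 t hrt
    have hex : ∃ s, r • ((decompose (I.Hgr m n) h) s : I.H m n) ≠ 0 := by
      by_contra hcon
      apply hh
      rw [← DirectSum.sum_support_decompose (I.Hgr m n) h, Finset.smul_sum]
      refine Finset.sum_eq_zero (fun s _ => ?_)
      by_contra hne
      exact hcon ⟨s, hne⟩
    obtain ⟨s, hs⟩ := hex
    have hsmem : ((decompose (I.Hgr m n) h) s : I.H m n) ∈ I.Hgr m n s := SetLike.coe_mem _
    have hrs : r • ((decompose (I.Hgr m n) h) s : I.H m n) ∈ I.Hgr m n (t + s) :=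
      smul_mem_hgr I m n hrt hsmem
    obtain ⟨r', hr', hlr⟩ := hND (t + s) _ hrs hs
    refine ⟨r' • ((decompose (I.Hgr m n) h) s : I.H m n), ?_, ?_⟩
    · have h1 := smul_mem_hgr I m n hr' hsmem
      have e1 : -d - (t + s) + s = -d - t := by ring
      rwa [e1] at h1
    · rw [smul_comm]
      exact hlr
  -- assembly
  have key : ∃ g : (shiftG (GrLC.GMod.of 𝒜 R 𝒜) (-d)).carrier →ₛₗ[RingHom.id R] C,
      Function.Injective g ∧
      (∀ (j : ℤ) c', c' ∈ (shiftG (GrLC.GMod.of 𝒜 R 𝒜) (-d)).gr j → g c' ∈ 𝒞 (j * (1 : ℕ))) ∧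
      (∀ (j : ℤ) c, c ∈ 𝒞 (j * (1 : ℕ)) →
        ∃ c' ∈ (shiftG (GrLC.GMod.of 𝒜 R 𝒜) (-d)).gr j, g c' = c) := by
    refine Groth.Agent.Lib.R2H7.GrVerCan.exists_semilinear (RingHom.id R) 𝒜 𝒜 1 (shiftG (GrLC.GMod.of 𝒜 R 𝒜) (-d)).gr 𝒞
      (I.Hgr m n) (I.Hgr m n) (AddMonoidHom.id (GrLC.deg0 𝒜))
      (fun (c' : R) (h : I.H m n) => lam (c' • h)) (fun c h => β c h) id
      Nat.one_pos ?_ ?_ ?_ ?_ ?_ ?_ ?_ ?_ ?_ ?_ ?_ ?_ ?_
    · intro a' r' hr'
      rw [Nat.cast_one, mul_one]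
      exact hr'
    · exact fun _ _ h => h
    · intro (c₁ : R) (c₂ : R) h
      show lam ((c₁ + c₂) • h) = lam (c₁ • h) + lam (c₂ • h)
      rw [add_smul, map_add]
    · intro c₁ c₂ h
      show β (c₁ + c₂) h = β c₁ h + β c₂ h
      rw [map_add, LinearMap.add_apply]
    · intro (r' : R) (c' : R) h'
      show lam ((r' * c') • h') = lam (c' • (r' • h'))
      rw [mul_comm, mul_smul]
    · intro r c h
      exact hβbal r c h
    · intro r' h'
      rfl
    · intro j h hh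
      rw [Nat.cast_one, mul_one] at hh
      exact ⟨h, hh, rfl⟩
    · intro a' j r' h' hr' hh'
      exact smul_mem_hgr I m n hr' hh'
    · intro i c hc hz
      exact hβL i c hc hz
    · intro j (c' : R) hc' hz
      by_contra hne
      have hc'' : c' ∈ 𝒜 (j + -d) := hc'
      obtain ⟨h, hh, hl⟩ := hRND (j + -d) c' hc'' hne
      apply hl
      refine hz h ?_
      have e1 : -d - (j + -d) = -j := by ring
      rw [← e1]
      exact hh
    · intro j (c' : R) _
      let l : ↥(I.Hcomp m n (-j)) →ₗ[GrLC.deg0 𝒜] GrLC.deg0 𝒜 :=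
        { toFun := fun h => lam (c' • (h : I.H m n))
          map_add' := fun h h' => by
            show lam (c' • ((h + h' : ↥(I.Hcomp m n (-j))) : I.H m n)) = _
            rw [Submodule.coe_add, smul_add, map_add]
          map_smul' := fun a' h => by
            have e1 : ((a' • h : ↥(I.Hcomp m n (-j))) : I.H m n) =
                (a' : R) • (h : I.H m n) := rfl
            show lam (c' • ((a' • h : ↥(I.Hcomp m n (-j))) : I.H m n)) =
              a' • lam (c' • (h : I.H m n))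
            rw [e1, smul_comm]
            exact map_smul lam a' _ }
      obtain ⟨c, hc, hcl⟩ := hβrep j l
      refine ⟨c, by rw [Nat.cast_one, mul_one]; exact hc, fun h' hh' => ?_⟩
      exact hcl ⟨h', hh'⟩
    · intro j c hc
      rw [Nat.cast_one, mul_one] at hc
      have hfinR : Module.Finite R (GrLC.GMod.of 𝒜 R 𝒜).carrier :=
        inferInstanceAs (Module.Finite R R)
      have hfinH : Module.Finite (GrLC.deg0 𝒜) ↥(I.Hcomp m n (-j)) :=
        finite_hcomp m hpos hmsp (GrLC.GMod.of 𝒜 R 𝒜) I n (-j)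
      let B : ↥(GrLC.comp 𝒜 𝒜 (j + -d)) →ₗ[GrLC.deg0 𝒜]
          ↥(I.Hcomp m n (-j)) →ₗ[GrLC.deg0 𝒜] GrLC.deg0 𝒜 :=
        LinearMap.mk₂ (GrLC.deg0 𝒜) (fun r h => lam ((r : R) • (h : I.H m n)))
          (fun r r' h => by
            show lam (((r + r' : ↥(GrLC.comp 𝒜 𝒜 (j + -d))) : R) • (h : I.H m n)) = _
            rw [Submodule.coe_add, add_smul, map_add])
          (fun a' r h => by
            have e1 : ((a' • r : ↥(GrLC.comp 𝒜 𝒜 (j + -d))) : R) = (a' : R) * (r : R) := rfl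
            show lam (((a' • r : ↥(GrLC.comp 𝒜 𝒜 (j + -d))) : R) • (h : I.H m n)) =
              a' • lam ((r : R) • (h : I.H m n))
            rw [e1, mul_smul]
            exact map_smul lam a' _)
          (fun r h h' => by
            show lam ((r : R) • ((h + h' : ↥(I.Hcomp m n (-j))) : I.H m n)) = _
            rw [Submodule.coe_add, smul_add, map_add])
          (fun a' r h => by
            have e1 : ((a' • h : ↥(I.Hcomp m n (-j))) : I.H m n) =
                (a' : R) • (h : I.H m n) := rfl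
            show lam ((r : R) • ((a' • h : ↥(I.Hcomp m n (-j))) : I.H m n)) =
              a' • lam ((r : R) • (h : I.H m n))
            rw [e1, smul_comm]
            exact map_smul lam a' _)
      have hBflip : Function.Injective B.flip := by
        rw [injective_iff_map_eq_zero]
        intro h hh
        by_contra hne
        have hne' : (h : I.H m n) ≠ 0 := fun h0' => hne (Subtype.ext h0')
        obtain ⟨r, hr, hlr⟩ := hND (-j) h.1 h.2 hne'
        have e1 : -d - -j = j + -d := by ring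
        rw [e1] at hr
        apply hlr
        have h1 := LinearMap.congr_fun hh ⟨r, hr⟩
        exact h1
      have hBsurj : Function.Surjective B := LinearMap.flip_injective_iff₂.mp hBflip
      let l : ↥(I.Hcomp m n (-j)) →ₗ[GrLC.deg0 𝒜] GrLC.deg0 𝒜 :=
        { toFun := fun h => β c (h : I.H m n)
          map_add' := fun h h' => by
            show β c ((h + h' : ↥(I.Hcomp m n (-j))) : I.H m n) = _
            rw [Submodule.coe_add, map_add]
          map_smul' := fun a' h => by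
            show β c ((a' • h : ↥(I.Hcomp m n (-j))) : I.H m n) = a' • β c (h : I.H m n)
            rw [Submodule.coe_smul, map_smul] }
      obtain ⟨r, hr⟩ := hBsurj l
      refine ⟨(r : R), r.2, fun h' hh' => ?_⟩
      have h1 := LinearMap.congr_fun hr ⟨h', hh'⟩
      exact h1.symm
  obtain ⟨g, hginj, hgmem, hgsurj⟩ := key
  let f : R →ₗ[R] C := g
  refine ⟨f, ⟨hginj, ?_⟩, ?_⟩
  · intro c
    have hcomp : ∀ j, ((decompose 𝒞 c) j : C) ∈ LinearMap.range f := by
      intro j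
      obtain ⟨c', -, hc'⟩ := hgsurj j _
        (by rw [Nat.cast_one, mul_one]; exact SetLike.coe_mem ((decompose 𝒞 c) j))
      exact ⟨c', hc'⟩
    have hmem : c ∈ LinearMap.range f := by
      rw [← DirectSum.sum_support_decompose 𝒞 c]
      exact Submodule.sum_mem _ (fun j _ => hcomp j)
    exact LinearMap.mem_range.mp hmem
  · intro g₀ r hr
    have hr' : r ∈ (shiftG (GrLC.GMod.of 𝒜 R 𝒜) (-d)).gr (g₀ + d) := by
      show r ∈ 𝒜 (g₀ + d + -d)
      rw [add_neg_cancel_right]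
      exact hr
    have h1 := hgmem (g₀ + d) r hr'
    rw [Nat.cast_one, mul_one] at h1
    exact h1

/-! ### The Gorenstein criterion -/

section criterion

variable (hpos : ∀ n : ℤ, n < 0 → 𝒜 n = ⊥) (h0 : IsField (GrLC.deg0 𝒜))
  (m : HomogeneousIdeal 𝒜) (hm : GrLC.IsStarLocal 𝒜 m)
  (hmsp : m.toIdeal = Ideal.span (⋃ n ∈ Set.Ioi (0 : ℤ), (𝒜 n : Set R)))
  {E' : Type u} [AddCommGroup E'] [Module R E'] (𝓔 : ℤ → AddSubgroup E')
  [DirectSum.Decomposition 𝓔] [SetLike.GradedSMul 𝒜 𝓔]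
  (e : (R ⧸ m.toIdeal) →ₗ[R] E') (he : GrLC.IsStarInjHull 𝒜 (GrLC.quotGr 𝒜 m) 𝓔 e)
  {C : Type u} [AddCommGroup C] [Module R C] (𝒞 : ℤ → AddSubgroup C)
  [DirectSum.Decomposition 𝒞] [SetLike.GradedSMul 𝒜 𝒞]

include hpos h0 hm hmsp he in
/-- If the top local cohomology is the *injective envelope of the residue field up to the shift
`s`, every *canonical module is `R(s)`. -/
theorem exists_equiv_of_chi (n : ℕ) (I : GrLC.StarInjRes 𝒜 𝒜) (s : ℤ) (χ : I.H m n ≃ₗ[R] E')
    (hχ1 : ∀ d ξ, ξ ∈ I.Hgr m n d → χ ξ ∈ 𝓔 (d + s))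
    (hχ2 : ∀ d x, x ∈ 𝓔 (d + s) → χ.symm x ∈ I.Hgr m n d)
    (hC : GrLC.IsStarCanonical 𝒜 𝒞 𝓔 m n I) :
    ∃ f : R →ₗ[R] C, Function.Bijective f ∧ GrLC.IsGrHomDeg 𝒜 𝒞 f s := by
  classical
  have hx0 : x0 m e ∈ 𝓔 (-s + s) := by
    rw [neg_add_cancel]
    exact x0_mem hpos m hmsp 𝓔 e he
  have hx0ne : x0 m e ≠ 0 := x0_ne_zero m hm 𝓔 e he
  refine exists_equiv_shift_of hpos h0 m hm hmsp n I s ?_ ?_ ?_ 𝓔 e he 𝒞 hC
  · refine ⟨χ.symm (x0 m e), hχ2 _ _ hx0, ?_, ?_⟩
    · intro h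
      apply hx0ne
      have := congrArg χ h
      rwa [χ.apply_symm_apply, map_zero] at this
    · intro h hh
      have h1 := hχ1 _ _ hh
      rw [neg_add_cancel] at h1
      obtain ⟨r, hr, hrx⟩ := exists_smul_x0 hpos h0 m hmsp 𝓔 e he h1
      refine ⟨r, hr, ?_⟩
      apply χ.injective
      rw [map_smul, χ.apply_symm_apply, hrx]
  · intro t h hh hne
    have h1 := hχ1 _ _ hh
    have hne' : χ h ≠ 0 := fun h0' => hne (χ.injective (by rw [h0', map_zero]))
    obtain ⟨u, r, hr, hr0, q, hq⟩ := exists_smul_mem_of_homogeneous 𝒜 𝓔 (LinearMap.range e)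
      (range_e_isHomogeneous hpos m hmsp 𝓔 e he) he.essential h1 hne'
    refine ⟨u, r, hr, ?_, ?_⟩
    · intro h0'
      apply hr0
      rw [← map_smul, h0', map_zero]
    · have h2 : r • χ h ∈ 𝓔 (-s + s) := by
        rw [neg_add_cancel, ← hq]
        exact e_mem0 hpos m hmsp 𝓔 e he q
      have h3 := hχ2 _ _ h2
      rwa [← map_smul, χ.symm_apply_apply] at h3
  · intro r hr0 t hrt
    obtain ⟨f, -, hf⟩ := exists_sep hpos h0 m hmsp 𝓔 e he 𝒜 hrt hr0
    refine ⟨χ.symm (f 1), ?_⟩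
    intro h
    apply hx0ne
    have h1 : r • f 1 = x0 m e := by
      rw [← map_smul, smul_eq_mul, mul_one]
      exact hf
    have h2 := congrArg χ h
    rw [map_smul, χ.apply_symm_apply, map_zero, h1] at h2
    exact h2

include hpos hm in
/-- For a Cohen–Macaulay positively graded *local ring of dimension `n`, the local cohomology
vanishes outside degree `n`. -/
theorem subsingleton_H_of_ne [LocCoh.IsCohenMacaulayRing R] (n : ℕ)
    (hn : ringKrullDim R = (n : WithBot ℕ∞)) (I : GrLC.StarInjRes 𝒜 𝒜) (j : ℕ) (hj : j ≠ n) :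
    Subsingleton (I.H m j) := by
  classical
  have hcob : ∀ z : (I.X j).carrier, z ∈ I.cocyc m j → z ∈ I.cobdy m j := by
    rcases lt_or_gt_of_ne hj with hlt | hgt
    · intro z hz
      rw [← DirectSum.sum_support_decompose (I.X j).gr z]
      refine Submodule.sum_mem _ (fun g _ => ?_)
      exact Groth.Agent.Lib.R2H7.GrAinv.vanX_of_lt_dim hpos m hm n hn j hlt g I _
        (Groth.Agent.Lib.R2H7.GrArt.cocyc_isHomogeneous (X := GrLC.GMod.of 𝒜 R 𝒜) m I j g hz)
        (SetLike.coe_mem _)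
    · intro z hz
      refine Groth.Agent.Lib.R2H7.GrFun.vanW_of_dim_lt (a := m) (GrLC.GMod.of 𝒜 R 𝒜) j ?_ I z hz
      rw [hn]
      exact_mod_cast hgt
  refine ⟨fun a b => ?_⟩
  obtain ⟨a', rfl⟩ := Submodule.mkQ_surjective _ a
  obtain ⟨b', rfl⟩ := Submodule.mkQ_surjective _ b
  have h1 : ∀ z : ↥(I.cocyc m j), I.toH m j z = 0 := fun z =>
    (Submodule.Quotient.mk_eq_zero _).mpr (hcob z.1 z.2)
  exact (h1 a').trans (h1 b').symm

include hpos h0 hm hmsp he in
/-- A Cohen–Macaulay graded ring over a field is Gorenstein iff its *canonical module is a shift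
of the ring. -/
theorem isGorensteinRing_iff [LocCoh.IsCohenMacaulayRing R] (n : ℕ)
    (hn : ringKrullDim R = (n : WithBot ℕ∞)) (I : GrLC.StarInjRes 𝒜 𝒜)
    (hC : GrLC.IsStarCanonical 𝒜 𝒞 𝓔 m n I) :
    LocCoh.IsGorensteinRing R ↔
      ∃ (a : ℤ) (f : R →ₗ[R] C), Function.Bijective f ∧ GrLC.IsGrHomDeg 𝒜 𝒞 f a := by
  classical
  have hmax : m.toIdeal.IsMaximal := Groth.Agent.Lib.R2H7.GrHt.isMaximal_of_isCoatom 𝒜 hpos m hm.1
  constructor
  · intro hG
    have hht : m.toIdeal.height = n := by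
      have h1 := Groth.Agent.Lib.R2H7.GrHt.ringKrullDim_le_height 𝒜 hpos m hm
      have h2 := Ideal.height_le_ringKrullDim_of_ne_top hmax.ne_top
      rw [hn] at h1 h2
      exact_mod_cast le_antisymm h2 h1
    obtain ⟨-, s, χ, hχ1, hχ2⟩ :=
      Groth.Agent.Lib.R2H7.GrGorChar.exists_equiv_of_isGorensteinRing m 𝓔 n hht I e he
    obtain ⟨f, hf, hfd⟩ := exists_equiv_of_chi hpos h0 m hm hmsp 𝓔 e he 𝒞 n I s χ hχ1 hχ2 hC
    exact ⟨s, f, hf, hfd⟩
  · rintro ⟨a, f, hf, hfd⟩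
    obtain ⟨hfin, φ, hφ⟩ := hC
    have hvan : ∀ j, j ≠ n → Subsingleton (I.H m j) :=
      fun j hj => subsingleton_H_of_ne hpos m hm n hn I j hj
    let fe : R ≃ₗ[R] C := LinearEquiv.ofBijective f hf
    have hf1 : f 1 ∈ 𝒞 (0 + a) := hfd 0 1 SetLike.GradedOne.one_mem
    let χ : I.H m n ≃ₗ[R] E' :=
      { toFun := fun ξ => (φ.symm ξ) (f 1)
        map_add' := fun ξ ξ' => by rw [map_add, LinearMap.add_apply]
        map_smul' := fun r ξ => by rw [map_smul, LinearMap.smul_apply, RingHom.id_apply]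
        invFun := fun x => φ ((LinearMap.toSpanSingleton R E' x) ∘ₗ fe.symm.toLinearMap)
        left_inv := fun ξ => by
          have h1 : (LinearMap.toSpanSingleton R E' ((φ.symm ξ) (f 1))) ∘ₗ fe.symm.toLinearMap =
              φ.symm ξ := by
            apply LinearMap.ext
            intro c
            obtain ⟨r, rfl⟩ := fe.surjective c
            show LinearMap.toSpanSingleton R E' ((φ.symm ξ) (f 1)) (fe.symm (fe r)) =
              (φ.symm ξ) (fe r)
            rw [fe.symm_apply_apply, LinearMap.toSpanSingleton_apply, ← map_smul]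
            congr 1
            show r • f 1 = f r
            rw [← map_smul, smul_eq_mul, mul_one]
          show φ ((LinearMap.toSpanSingleton R E' ((φ.symm ξ) (f 1))) ∘ₗ fe.symm.toLinearMap) = ξ
          rw [h1, φ.apply_symm_apply]
        right_inv := fun x => by
          show (φ.symm (φ ((LinearMap.toSpanSingleton R E' x) ∘ₗ fe.symm.toLinearMap))) (f 1) = x
          rw [φ.symm_apply_apply]
          show LinearMap.toSpanSingleton R E' x (fe.symm (fe 1)) = x
          rw [fe.symm_apply_apply, LinearMap.toSpanSingleton_apply, one_smul] }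
    have hχ : ∀ d ξ, ξ ∈ I.Hgr m n d → χ ξ ∈ 𝓔 (d + a) := by
      intro d ξ hξ
      have h1 := symm_mem_homDeg m 𝓔 𝒞 n I φ hφ hξ
      have h2 := h1 (0 + a) (f 1) hf1
      have e1 : 0 + a + d = d + a := by ring
      rw [e1] at h2
      exact h2
    exact Groth.Agent.Lib.R2H7.GrGorChar.isGorensteinRing_of_equiv m hm 𝓔 n I hvan he.starInj a χ hχ

end criterion

end Groth.Agent.Lib.R2H7.GrGorCan2
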