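/-
A Cohen-Macaulay *local `ℤ`-graded ring `(R, m)` with `ht m = n` is Gorenstein if and only if
`H^n_m(R)` is *injective.  Ingredients: the characterisation of Gorenstein *local rings by local
cohomology (`R2H7GrGorStar`), the vanishing `H^j_m(R) = 0` for `j < depth` and for `j > ht m`
(the latter by localising at `m` and a graded Nakayama argument: a graded module over a *local
ring whose localisation at `m` vanishes is zero).
-/
import Mathlib
import Groth.Agent.Lib.R2H7GrGorStar
import Groth.Agent.Lib.R2H7GrVerGor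
import Groth.Agent.Lib.R2H7GrCanFin
import Groth.Agent.Lib.Helper28DepthMore
import Groth.Agent.Lib.Helper8LCDepth
import Groth.Agent.Lib.Helper8CdDim
import Groth.Agent.S13224
import Groth.Agent.S11617

set_option autoImplicit false
open DirectSum

noncomputable section

namespace Groth.Agent.Lib.R2H7.GrGorInj

open Groth.Agent.Lib.Helper29GrHom Groth.Agent.Lib.Helper29GrEss
  Groth.Agent.Lib.R2H7.GrOps Groth.Agent.Lib.R2H7.GrCanFin Groth.Agent.Lib.R2H7.GrGorStar

universe u

/-! ### A graded module over a *local ring vanishes if its localisation at `m` does -/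

section nak

variable {ι : Type} [AddCommGroup ι] [DecidableEq ι]
variable {R : Type u} [CommRing R] [IsNoetherianRing R] {𝒜 : ι → AddSubgroup R} [GradedRing 𝒜]
variable (m : HomogeneousIdeal 𝒜) (hm : GrLC.IsStarLocal 𝒜 m)
variable {Y : Type u} [AddCommGroup Y] [Module R Y] (𝒴 : ι → AddSubgroup Y)
  [DirectSum.Decomposition 𝒴] [SetLike.GradedSMul 𝒜 𝒴]

include hm in
/-- A homogeneous element killed by an element outside the *maximal ideal is zero. -/
theorem eq_zero_of_smul_eq_zero_of_mem {d : ι} {y : Y} (hy : y ∈ 𝒴 d) {u : R}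
    (hu : u ∉ m.toIdeal) (h : u • y = 0) : y = 0 := by
  classical
  by_contra hy0
  have hh : (LinearMap.ker (LinearMap.toSpanSingleton R Y y)).IsHomogeneous 𝒜 := by
    intro i r hr
    rw [LinearMap.mem_ker, LinearMap.toSpanSingleton_apply] at hr ⊢
    have h1 := decompose_smul_of_mem_right 𝒜 𝒴 hy r (i + d)
    rw [add_sub_cancel_right] at h1
    rw [← h1, hr, DirectSum.decompose_zero]
    rfl
  obtain ⟨J, hJ⟩ : ∃ J : HomogeneousIdeal 𝒜,
      J.toIdeal = LinearMap.ker (LinearMap.toSpanSingleton R Y y) := ⟨⟨_, hh⟩, rfl⟩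
  have hne : J ≠ ⊤ := by
    intro htop
    apply hy0
    have h1 : (1 : R) ∈ J.toIdeal := by
      rw [htop, HomogeneousIdeal.toIdeal_top]
      exact Submodule.mem_top
    rw [hJ, LinearMap.mem_ker, LinearMap.toSpanSingleton_apply, one_smul] at h1
    exact h1
  have hle := Groth.Agent.Lib.R2H7.GrGorLoc.le_of_isStarLocal 𝒜 m hm J hne
  apply hu
  apply hle
  show u ∈ J.toIdeal
  rw [hJ, LinearMap.mem_ker, LinearMap.toSpanSingleton_apply]
  exact h

include hm 𝒴 in
theorem subsingleton_of_forall_exists_smul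
    (h : ∀ x : Y, ∃ u : R, u ∉ m.toIdeal ∧ u • x = 0) : Subsingleton Y := by
  classical
  have hz : ∀ x : Y, x = 0 := by
    intro x
    rw [← DirectSum.sum_support_decompose 𝒴 x]
    refine Finset.sum_eq_zero (fun d _ => ?_)
    obtain ⟨u, hu, hux⟩ := h ((decompose 𝒴 x) d : Y)
    exact eq_zero_of_smul_eq_zero_of_mem m hm 𝒴 (SetLike.coe_mem _) hu hux
  exact ⟨fun a b => by rw [hz a, hz b]⟩

end nak

/-! ### Local cohomology above the height of a prime -/

section height

variable {R : Type u} [CommRing R] [IsNoetherianRing R]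

/-- Every element of `H^j_I(M)` is killed by an element outside a prime `p` of height `< j`. -/
theorem exists_smul_eq_zero_of_height_lt (p : Ideal R) [p.IsPrime] (n : ℕ) (hn : p.height = n)
    (I : Ideal R) (M : Type u) [AddCommGroup M] [Module R M] (j : ℕ) (hj : n < j)
    (x : LocCoh.H I j M) : ∃ u : R, u ∉ p ∧ u • x = 0 := by
  have e1 := LocalizedModule.equivTensorProduct p.primeCompl (LocCoh.H I j M)
  obtain ⟨e2⟩ := Groth.Agent.S11617.result R (Localization.AtPrime p) I M j
  have hdim : ringKrullDim (Localization.AtPrime p) < ((j : ℕ) : WithBot ℕ∞) := by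
    rw [IsLocalization.AtPrime.ringKrullDim_eq_height p (Localization.AtPrime p), hn]
    exact_mod_cast hj
  have h3 : Subsingleton (LocCoh.H (Ideal.map (algebraMap R (Localization.AtPrime p)) I) j
      (TensorProduct R (Localization.AtPrime p) M)) :=
    ⟨fun y y' => (Groth.Agent.Lib.Helper8.CdDim.Q_all j _ hdim _ _ y).trans
      (Groth.Agent.Lib.Helper8.CdDim.Q_all j _ hdim _ _ y').symm⟩
  have h4 : Subsingleton (LocalizedModule p.primeCompl (LocCoh.H I j M)) :=
    (e1.trans e2).toEquiv.subsingleton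
  have h5 : (LocalizedModule.mk x 1 : LocalizedModule p.primeCompl (LocCoh.H I j M)) = 0 :=
    Subsingleton.elim _ _
  rw [Groth.Agent.Lib.Helper29Socle.mk_eq_zero_iff'] at h5
  obtain ⟨u, hu⟩ := h5
  exact ⟨u, u.2, hu⟩

end height

/-! ### Vanishing of graded local cohomology of a *local ring -/

section van

variable {R : Type u} [CommRing R] {𝒜 : ℤ → AddSubgroup R} [GradedRing 𝒜]
variable (m : HomogeneousIdeal 𝒜) (hm : GrLC.IsStarLocal 𝒜 m)

include hm in
/-- `H^j_m(M) = 0` for `j > ht m`, for a graded module `M` over a *local ring `(R, m)`. -/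
theorem subsingleton_H_of_gt [IsNoetherianRing R] [hmp : m.toIdeal.IsPrime]
    {M : Type u} [AddCommGroup M] [Module R M] {ℳ : ℤ → AddSubgroup M}
    [DirectSum.Decomposition ℳ] [SetLike.GradedSMul 𝒜 ℳ] (n : ℕ) (hn : m.toIdeal.height = n)
    (I : GrLC.StarInjRes 𝒜 ℳ) (j : ℕ) (hj : n < j) : Subsingleton (I.H m j) := by
  obtain ⟨φ⟩ := Groth.Agent.S13224.result R 𝒜 m M ℳ I j
  apply subsingleton_of_forall_exists_smul m hm (I.Hgr m j)
  intro ξ
  obtain ⟨u, hu, hux⟩ :=
    exists_smul_eq_zero_of_height_lt m.toIdeal n hn m.toIdeal M j hj (φ ξ)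
  refine ⟨u, hu, φ.injective ?_⟩
  rw [map_smul, hux, map_zero]

include hm in
/-- `H^j_m(R) = 0` for `j < ht m` when `R` is Cohen-Macaulay. -/
theorem subsingleton_H_of_lt [LocCoh.IsCohenMacaulayRing R] (n : ℕ)
    (hn : m.toIdeal.height = n) (I : GrLC.StarInjRes 𝒜 𝒜) (j : ℕ) (hj : j < n) :
    Subsingleton (I.H m j) := by
  obtain ⟨φ⟩ := Groth.Agent.S13224.result R 𝒜 m R 𝒜 I j
  have hne : m.toIdeal ≠ ⊤ := toIdeal_ne_top m hm.1
  have h3 : LocCoh.idealDepth m.toIdeal R = m.toIdeal.height :=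
    Groth.Agent.Lib.Helper28.idealDepth_self_eq_height_of_isCohenMacaulayRing inferInstance
      m.toIdeal hne
  have hIM : m.toIdeal • (⊤ : Submodule R R) ≠ ⊤ := by
    have : m.toIdeal • (⊤ : Submodule R R) = m.toIdeal := by
      rw [Ideal.smul_eq_mul, Ideal.mul_top]
    rw [this]
    exact hne
  have key := Groth.Agent.Lib.Helper8.LC.H_eq_zero_of_lt_depth m.toIdeal n R hIM
    (by rw [h3, hn]) j hj
  have hsub : Subsingleton (LocCoh.H m.toIdeal j R) := ⟨fun y z => by rw [key y, key z]⟩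
  exact φ.toEquiv.subsingleton

include hm in
/-- A Cohen-Macaulay *local ring `(R, m)` with `ht m = n` is Gorenstein iff `H^n_m(R)` is
*injective. -/
theorem isGorensteinRing_iff_isStarInj [LocCoh.IsCohenMacaulayRing R] (n : ℕ)
    (hn : m.toIdeal.height = n) (I : GrLC.StarInjRes 𝒜 𝒜) :
    LocCoh.IsGorensteinRing R ↔ ∃ (X : GrLC.GMod.{u} 𝒜) (φ : I.H m n ≃ₗ[R] X.carrier),
      GrLC.IsStarInj 𝒜 X.gr ∧ GrLC.IsGrHom (I.Hgr m n) X.gr φ.toLinearMap := by
  have hmp : m.toIdeal.IsPrime := isPrime_of_isCoatom m hm.1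
  constructor
  · intro hG
    obtain ⟨E, e, he⟩ := Groth.Agent.Lib.R2H7.GrVerGor.exists_hull_residue m
    obtain ⟨-, s, χ, hχ1, -⟩ :=
      exists_equiv_of_isGorensteinRing' m hm.1 E.gr n hn I e he
    refine ⟨shiftG E s, χ, isStarInj_shift he.starInj s, ?_⟩
    intro d ξ hξ
    exact hχ1 d ξ hξ
  · rintro ⟨X, φ, hX, hφ⟩
    refine isGorensteinRing_of_equiv' m hm X.gr n I ?_ hX 0 φ ?_
    · intro j hj
      rcases Nat.lt_or_gt_of_ne hj with h | h
      · exact subsingleton_H_of_lt m hm n hn I j h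
      · exact subsingleton_H_of_gt m hm n hn I j h
    · intro d ξ hξ
      rw [add_zero]
      exact hφ d ξ hξ

end van

end Groth.Agent.Lib.R2H7.GrGorInj
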