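/-
The *injective envelope of `R/m`, for a maximal ideal `m` of a Noetherian graded ring which is
graded, is an injective module (hence an ordinary injective hull of `R/m`).

The ungraded core `baer_of_torsion`: over a Noetherian ring, a module `Q` all of whose elements are
killed by a power of a maximal ideal `m`, and such that every linear map `m → Q` extends to `R`, is
injective.  (Baer's criterion: take a maximal extension `(J₁, g₁)` of a map from an ideal; by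
Artin-Rees `g₁` vanishes on `J₁ ∩ m^N` for large `N`, hence extends by zero to `J₁ + m^N`, so
`m^N ⊆ J₁`; if `J₁ ≠ R` there is `x ∉ J₁` with `m x ⊆ J₁`, and `g₁` extends to `J₁ + R x` because
`r ↦ g₁ (r x)`, `m → Q`, is a multiplication.)  For the *injective envelope the torsion property is
`S13220` and the extension property comes from `Helper29GrBaer.exists_extension`.
-/
import Mathlib
import Groth.Agent.Lib.Helper29GrBaer
import Groth.Agent.Lib.R2H7GrOps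
import Groth.Agent.Lib.R2H7GrFree
import Groth.Agent.S13211
import Groth.Agent.S13220

set_option autoImplicit false
open DirectSum

noncomputable section

namespace Groth.Agent.Lib.R2H7.GrInjMax

open Groth.Agent.Lib.R2H7.GrOps Groth.Agent.Lib.R2H7.GrFree

universe u

/-! ### Factoring through a surjection -/

section factor

variable {R : Type u} [CommRing R] {X M Q : Type u} [AddCommGroup X] [Module R X]
  [AddCommGroup M] [Module R M] [AddCommGroup Q] [Module R Q]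

theorem exists_factor (Φ : X →ₗ[R] M) (Ψ : X →ₗ[R] Q)
    (h : LinearMap.ker Φ ≤ LinearMap.ker Ψ) :
    ∃ F : ↥(LinearMap.range Φ) →ₗ[R] Q,
      ∀ x, F ⟨Φ x, LinearMap.mem_range_self Φ x⟩ = Ψ x := by
  refine ⟨(Submodule.liftQ (LinearMap.ker Φ) Ψ h) ∘ₗ
    (LinearMap.quotKerEquivRange Φ).symm.toLinearMap, fun x => ?_⟩
  show Submodule.liftQ _ Ψ h ((LinearMap.quotKerEquivRange Φ).symm ⟨Φ x, _⟩) = Ψ x
  rw [LinearMap.quotKerEquivRange_symm_apply_image]
  rfl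

end factor

/-! ### Baer's criterion for torsion modules at a maximal ideal -/

section baer

variable {R : Type u} [CommRing R] [IsNoetherianRing R] (m : Ideal R)
  (Q : Type u) [AddCommGroup Q] [Module R Q]

theorem exists_pow_kill {X : Type u} [AddCommGroup X] [Module R X] [Module.Finite R X]
    (φ : X →ₗ[R] Q) (htors : ∀ x : Q, ∃ k : ℕ, ∀ r ∈ m ^ k, r • x = 0) :
    ∃ k : ℕ, ∀ x : X, ∀ r ∈ m ^ k, r • φ x = 0 := by
  classical
  obtain ⟨s, hs⟩ := (Module.Finite.fg_top : (⊤ : Submodule R X).FG)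
  choose kf hkf using fun x : X => htors (φ x)
  refine ⟨s.sup kf, fun x r hr => ?_⟩
  have hx : x ∈ Submodule.span R (s : Set X) := by
    rw [hs]
    exact Submodule.mem_top
  induction hx using Submodule.span_induction with
  | mem y hy => exact hkf y r (Ideal.pow_le_pow_right (Finset.le_sup (Finset.mem_coe.mp hy)) hr)
  | zero => rw [map_zero, smul_zero]
  | add y z _ _ hy hz => rw [map_add, smul_add, hy, hz, add_zero]
  | smul c y _ hy => rw [map_smul, smul_comm, hy, smul_zero]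

variable [hm : m.IsMaximal]

theorem baer_of_torsion (htors : ∀ x : Q, ∃ k : ℕ, ∀ r ∈ m ^ k, r • x = 0)
    (hext : ∀ ψ : ↥m →ₗ[R] Q, ∃ y : Q, ∀ (r : R) (hr : r ∈ m), ψ ⟨r, hr⟩ = r • y) :
    Module.Baer R Q := by
  intro J g
  -- a maximal extension
  obtain ⟨J₁, ⟨hJJ₁, g₁, hg₁⟩, hmax⟩ :=
    (wellFounded_gt : WellFounded ((· > ·) : Ideal R → Ideal R → Prop)).has_min
      {J₁ : Ideal R | J ≤ J₁ ∧ ∃ g₁ : ↥J₁ →ₗ[R] Q,
        ∀ (a : R) (ha : a ∈ J) (ha1 : a ∈ J₁), g₁ ⟨a, ha1⟩ = g ⟨a, ha⟩}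
      ⟨J, le_rfl, g, fun a ha ha1 => rfl⟩
  have hstep : ∀ (J₂ : Ideal R) (g₂ : ↥J₂ →ₗ[R] Q), J₁ ≤ J₂ →
      (∀ (a : R) (ha : a ∈ J₁) (ha2 : a ∈ J₂), g₂ ⟨a, ha2⟩ = g₁ ⟨a, ha⟩) → J₂ ≤ J₁ := by
    intro J₂ g₂ hle hext2
    by_contra hnle
    refine hmax J₂ ⟨hJJ₁.trans hle, g₂, fun a ha ha2 => ?_⟩
      (lt_of_le_of_ne hle (fun h => hnle h.ge))
    rw [hext2 a (hJJ₁ ha) ha2]
    exact hg₁ a ha (hJJ₁ ha)
  suffices htop : J₁ = ⊤ by
    refine ⟨g₁ ∘ₗ LinearMap.codRestrict J₁ LinearMap.id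
      (fun r => by rw [htop]; exact Submodule.mem_top), fun x hx => ?_⟩
    exact hg₁ x hx _
  by_contra hJ₁
  -- a power of `m` lies in `J₁`
  have hpow : ∃ N : ℕ, m ^ N ≤ J₁ := by
    obtain ⟨k, hk⟩ := exists_pow_kill m Q g₁ htors
    obtain ⟨c, hc⟩ := Ideal.exists_pow_inf_eq_pow_smul m (J₁ : Submodule R R)
    have hkill : ∀ (a : R) (ha : a ∈ J₁), a ∈ m ^ (c + k) → g₁ ⟨a, ha⟩ = 0 := by
      intro a ha ham
      have h1 : a ∈ m ^ (c + k) • (⊤ : Submodule R R) ⊓ J₁ := by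
        refine ⟨?_, ha⟩
        rw [Ideal.smul_eq_mul, Ideal.mul_top]
        exact ham
      rw [hc (c + k) (Nat.le_add_right c k), Nat.add_sub_cancel_left] at h1
      have h2 : ∃ ha' : a ∈ J₁, g₁ ⟨a, ha'⟩ = 0 := by
        refine Submodule.smul_induction_on h1 ?_ ?_
        · intro r hr n hn
          have hnJ : n ∈ J₁ := hn.2
          refine ⟨J₁.smul_mem r hnJ, ?_⟩
          have e1 : (⟨r • n, J₁.smul_mem r hnJ⟩ : ↥J₁) = r • (⟨n, hnJ⟩ : ↥J₁) := rfl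
          rw [e1, map_smul]
          exact hk _ r hr
        · rintro x y ⟨hx, hx0⟩ ⟨hy, hy0⟩
          refine ⟨J₁.add_mem hx hy, ?_⟩
          have e1 : (⟨x + y, J₁.add_mem hx hy⟩ : ↥J₁) = (⟨x, hx⟩ : ↥J₁) + ⟨y, hy⟩ := rfl
          rw [e1, map_add, hx0, hy0, add_zero]
      obtain ⟨_, h0⟩ := h2
      exact h0
    refine ⟨c + k, ?_⟩
    obtain ⟨Φ, hΦ⟩ : ∃ Φ : (↥J₁ × ↥(m ^ (c + k))) →ₗ[R] R,
        ∀ p, Φ p = (p.1 : R) + (p.2 : R) :=
      ⟨(Submodule.subtype J₁).coprod (Submodule.subtype (m ^ (c + k))), fun p => rfl⟩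
    obtain ⟨Ψ, hΨ⟩ : ∃ Ψ : (↥J₁ × ↥(m ^ (c + k))) →ₗ[R] Q, ∀ p, Ψ p = g₁ p.1 :=
      ⟨g₁ ∘ₗ LinearMap.fst R _ _, fun p => rfl⟩
    have hker : LinearMap.ker Φ ≤ LinearMap.ker Ψ := by
      rintro ⟨a, b⟩ hab
      rw [LinearMap.mem_ker, hΦ] at hab
      rw [LinearMap.mem_ker, hΨ]
      have h1 : (a : R) = -(b : R) := eq_neg_of_add_eq_zero_left hab
      have h2 : (a : R) ∈ m ^ (c + k) := by
        rw [h1]
        exact neg_mem b.2
      exact hkill a a.2 h2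
    obtain ⟨F, hF⟩ := exists_factor Φ Ψ hker
    have hle : J₁ ≤ LinearMap.range Φ := by
      intro a ha
      refine ⟨(⟨a, ha⟩, 0), ?_⟩
      rw [hΦ]
      show a + (0 : R) = a
      rw [add_zero]
    have h3 := hstep (LinearMap.range Φ) F hle (by
      intro a ha ha2
      have e1 : (⟨a, ha2⟩ : ↥(LinearMap.range Φ)) =
          ⟨Φ (⟨a, ha⟩, 0), LinearMap.mem_range_self Φ _⟩ := by
        apply Subtype.ext
        show a = Φ (⟨a, ha⟩, 0)
        rw [hΦ]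
        show a = a + (0 : R)
        rw [add_zero]
      rw [e1, hF, hΨ])
    intro b hb
    apply h3
    refine ⟨(0, ⟨b, hb⟩), ?_⟩
    rw [hΦ]
    show (0 : R) + b = b
    rw [zero_add]
  -- an element of the socle of `R / J₁`
  obtain ⟨x, hxJ, hmx⟩ : ∃ x : R, x ∉ J₁ ∧ ∀ r ∈ m, r * x ∈ J₁ := by
    classical
    have h0 : Nat.find hpow ≠ 0 := by
      intro h0
      have h1 := Nat.find_spec hpow
      rw [h0, pow_zero, Ideal.one_eq_top] at h1
      exact hJ₁ (eq_top_iff.mpr h1)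
    obtain ⟨t, ht⟩ := Nat.exists_eq_succ_of_ne_zero h0
    have h1 : ¬ m ^ t ≤ J₁ := Nat.find_min hpow (by rw [ht]; exact Nat.lt_succ_self t)
    obtain ⟨x, hxm, hxJ⟩ := SetLike.not_le_iff_exists.mp h1
    refine ⟨x, hxJ, fun r hr => ?_⟩
    have h2 := Nat.find_spec hpow
    rw [ht, Nat.succ_eq_add_one, pow_succ'] at h2
    exact h2 (Ideal.mul_mem_mul hr hxm)
  -- the map `r ↦ g₁ (r x)` on `m`
  obtain ⟨ψ, hψ⟩ : ∃ ψ : ↥m →ₗ[R] Q, ∀ (r : R) (hr : r ∈ m), ψ ⟨r, hr⟩ = g₁ ⟨r * x, hmx r hr⟩ :=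
    ⟨g₁ ∘ₗ (((LinearMap.toSpanSingleton R R x).domRestrict m).codRestrict J₁
      (fun r => hmx r.1 r.2)), fun r hr => rfl⟩
  obtain ⟨y, hy⟩ := hext ψ
  obtain ⟨Φ, hΦ⟩ : ∃ Φ : (↥J₁ × R) →ₗ[R] R, ∀ p, Φ p = (p.1 : R) + p.2 * x :=
    ⟨(Submodule.subtype J₁).coprod (LinearMap.toSpanSingleton R R x), fun p => rfl⟩
  obtain ⟨Ψ, hΨ⟩ : ∃ Ψ : (↥J₁ × R) →ₗ[R] Q, ∀ p, Ψ p = g₁ p.1 + p.2 • y :=
    ⟨g₁.coprod (LinearMap.toSpanSingleton R Q y), fun p => rfl⟩
  have hker : LinearMap.ker Φ ≤ LinearMap.ker Ψ := by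
    rintro ⟨a, r⟩ hab
    rw [LinearMap.mem_ker, hΦ] at hab
    rw [LinearMap.mem_ker, hΨ]
    have h1 : r * x = -(a : R) := eq_neg_of_add_eq_zero_right hab
    have hrm : r ∈ m := by
      by_contra hrm
      obtain ⟨s, i, hi, hsi⟩ := hm.exists_inv hrm
      apply hxJ
      have e1 : x = s * (r * x) + i * x := by
        rw [← mul_assoc, ← add_mul, hsi, one_mul]
      rw [e1, h1]
      exact J₁.add_mem (J₁.mul_mem_left s (neg_mem a.2)) (hmx i hi)
    have h2 := hψ r hrm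
    rw [hy r hrm] at h2
    have e2 : (⟨r * x, hmx r hrm⟩ : ↥J₁) = -a := Subtype.ext h1
    rw [h2, e2, map_neg]
    show g₁ a + -g₁ a = 0
    rw [add_neg_cancel]
  obtain ⟨F, hF⟩ := exists_factor Φ Ψ hker
  have hle : J₁ ≤ LinearMap.range Φ := by
    intro a ha
    refine ⟨(⟨a, ha⟩, 0), ?_⟩
    rw [hΦ]
    show a + (0 : R) * x = a
    rw [zero_mul, add_zero]
  have h3 := hstep (LinearMap.range Φ) F hle (by
    intro a ha ha2
    have e1 : (⟨a, ha2⟩ : ↥(LinearMap.range Φ)) =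
        ⟨Φ (⟨a, ha⟩, 0), LinearMap.mem_range_self Φ _⟩ := by
      apply Subtype.ext
      show a = Φ (⟨a, ha⟩, 0)
      rw [hΦ]
      show a = a + (0 : R) * x
      rw [zero_mul, add_zero]
    rw [e1, hF, hΨ]
    show g₁ ⟨a, ha⟩ + (0 : R) • y = g₁ ⟨a, ha⟩
    rw [zero_smul, add_zero])
  apply hxJ
  apply h3
  refine ⟨(0, 1), ?_⟩
  rw [hΦ]
  show ((0 : ↥J₁) : R) + (1 : R) * x = x
  rw [one_mul]
  show (0 : R) + x = x
  rw [zero_add]

end baer

/-! ### The *injective envelope of the residue field of a graded maximal ideal -/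

section graded

variable {ι : Type} [AddCommGroup ι] [DecidableEq ι] [Module.Free ℤ ι] [Module.Finite ℤ ι]
variable {R : Type u} [CommRing R] [IsNoetherianRing R] (𝒜 : ι → AddSubgroup R) [GradedRing 𝒜]
variable (m : HomogeneousIdeal 𝒜) [hmax : m.toIdeal.IsMaximal]
variable {E' : Type u} [AddCommGroup E'] [Module R E'] (𝓔 : ι → AddSubgroup E')
  [DirectSum.Decomposition 𝓔] [SetLike.GradedSMul 𝒜 𝓔]

omit [Module.Free ℤ ι] [Module.Finite ℤ ι] [IsNoetherianRing R] in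
theorem exists_extension_gmod (A B : GrLC.GMod.{u} 𝒜) [Module.Finite R A.carrier]
    (hI : GrLC.IsStarInj 𝒜 𝓔) (f : A.carrier →ₗ[R] B.carrier)
    (hf : GrLC.IsGrHom A.gr B.gr f) (hinj : Function.Injective f) (φ : A.carrier →ₗ[R] E') :
    ∃ ψ : B.carrier →ₗ[R] E', ψ ∘ₗ f = φ :=
  Groth.Agent.Lib.Helper29GrBaer.exists_extension 𝒜 A.gr 𝓔 B.gr hI f hf hinj φ

theorem isEssentialInj_gmod (A : GrLC.GMod.{u} 𝒜) (f : A.carrier →ₗ[R] E')
    (hf : GrLC.IsStarEss A.gr 𝓔 f) : InjHull.IsEssentialInj f :=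
  Groth.Agent.S13211.result R 𝒜 A.carrier A.gr E' 𝓔 f hf

omit [Module.Free ℤ ι] [Module.Finite ℤ ι] hmax in
/-- A linear map from a homogeneous ideal into a *injective module is a multiplication. -/
theorem exists_smul_of_isStarInj (hinj : GrLC.IsStarInj 𝒜 𝓔) (ψ : ↥m.toIdeal →ₗ[R] E') :
    ∃ y : E', ∀ (r : R) (hr : r ∈ m.toIdeal), ψ ⟨r, hr⟩ = r • y := by
  haveI : Module.Finite R (subG (selfG 𝒜) m.toIdeal m.isHomogeneous).carrier :=
    (inferInstance : Module.Finite R ↥m.toIdeal)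
  have hex : ∃ ψ' : R →ₗ[R] E', ψ' ∘ₗ m.toIdeal.subtype = ψ :=
    exists_extension_gmod 𝒜 𝓔 (subG (selfG 𝒜) m.toIdeal m.isHomogeneous)
      (selfG 𝒜) hinj m.toIdeal.subtype (fun j x hx => hx) (Submodule.subtype_injective _) ψ
  obtain ⟨ψ', hψ'⟩ := hex
  refine ⟨ψ' 1, fun r hr => ?_⟩
  have h1 := LinearMap.congr_fun hψ' ⟨r, hr⟩
  rw [← h1]
  show ψ' r = r • ψ' 1
  rw [← map_smul, smul_eq_mul, mul_one]

theorem injective_of_isStarInjHull (e : (R ⧸ m.toIdeal) →ₗ[R] E')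
    (he : GrLC.IsStarInjHull 𝒜 (GrLC.quotGr 𝒜 m) 𝓔 e) : Module.Injective R E' := by
  apply Module.Baer.injective
  apply baer_of_torsion m.toIdeal E'
  · intro x
    have htop := Groth.Agent.S13220.result R 𝒜 m E' 𝓔 e he
    have hx : x ∈ GrLC.gam m.toIdeal E' := by
      rw [htop]
      exact Submodule.mem_top
    exact hx
  · exact exists_smul_of_isStarInj 𝒜 m 𝓔 he.starInj

theorem isInjectiveHull_of_isStarInjHull (e : (R ⧸ m.toIdeal) →ₗ[R] E')
    (he : GrLC.IsStarInjHull 𝒜 (GrLC.quotGr 𝒜 m) 𝓔 e) : InjHull.IsInjectiveHull e := by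
  have hess : GrLC.IsStarEss (quotG (selfG 𝒜) m.toIdeal m.isHomogeneous).gr 𝓔 e :=
    { injective := he.injective
      grHom := by
        rintro g x ⟨a, ha, rfl⟩
        exact he.grHom g _ ⟨a, ha, rfl⟩
      essential := he.essential }
  have h1 := isEssentialInj_gmod 𝒜 𝓔 (quotG (selfG 𝒜) m.toIdeal m.isHomogeneous) e hess
  exact { injective := h1.injective
          essential := h1.essential
          isInjective := injective_of_isStarInjHull 𝒜 m 𝓔 e he }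

end graded

end Groth.Agent.Lib.R2H7.GrInjMax
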