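/-
Regular sequences of linear forms in standard graded Cohen-Macaulay rings with Artinian degree zero
part and infinite residue field, Hilbert functions modulo such sequences, and the structure of such
rings with a-invariant `-dim R`: they are polynomial rings over `R_0`.
-/
import Mathlib
import Groth.Agent.Lib.R2H7GrAinvPoly

set_option autoImplicit false
open DirectSum

noncomputable section

namespace Groth.Agent.Lib.R2H7.GrLinSeq

open Groth.Agent.Lib.R2H7.GrDer Groth.Agent.Lib.R2H7.GrOps Groth.Agent.Lib.R2H7.GrLES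
  Groth.Agent.Lib.R2H7.GrTop Groth.Agent.Lib.R2H7.GrEv Groth.Agent.Lib.R2H7.GrH
  Groth.Agent.Lib.R2H7.GrLen Groth.Agent.Lib.R2H7.GrSerre Groth.Agent.Lib.R2H7.GrSerreLoc
  Groth.Agent.Lib.R2H7.GrGen Groth.Agent.Lib.R2H7.GrAinv Groth.Agent.Lib.R2H7.GrDim
  Groth.Agent.Lib.R2H7.GrSerreCM Groth.Agent.Lib.R2H7.GrHt Groth.Agent.Lib.R2H7.GrBinom
  Groth.Agent.Lib.R2H7.GrPres Groth.Agent.Lib.R2H7.GrRegPoly Groth.Agent.Lib.R2H7.GrAinvLow
  Groth.Agent.Lib.R2H7.GrBdry Groth.Agent.Lib.R2H7.GrTors Groth.Agent.Lib.R2H7.GrAinvPoly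
open scoped Pointwise

universe u

/-! ### Binomial identities -/

section binom

open Polynomial

theorem hS_pascal (r : ℕ) (n : ℤ) : hS (r + 1) n - hS (r + 1) (n - 1) = hS r n := by
  rcases lt_trichotomy n 0 with h | h | h
  · rw [hS_neg _ h, hS_neg _ (by omega : n - 1 < 0), hS_neg _ h, sub_zero]
  · subst h
    rw [hS_zero, hS_neg _ (by omega : (0 : ℤ) - 1 < 0), hS_zero, sub_zero]
  · obtain ⟨k, rfl⟩ : ∃ k : ℕ, n = (k : ℤ) + 1 := ⟨(n - 1).toNat, by omega⟩
    have e1 : ((k : ℤ) + 1) = ((k + 1 : ℕ) : ℤ) := by push_cast; ring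
    have e2 : ((k : ℤ) + 1 - 1) = (k : ℤ) := by ring
    rw [e2, e1, hS_natCast, hS_natCast, hS_natCast]
    have a1 : r + 1 + (k + 1) - 1 = (r + k) + 1 := by omega
    have a2 : r + 1 + k - 1 = r + k := by omega
    have a3 : r + (k + 1) - 1 = r + k := by omega
    rw [a1, a2, a3, Nat.choose_succ_succ']
    push_cast
    ring

/-- A polynomial of degree `< r` with `L` times the values of the Hilbert function on `(-r, 0]`
is `L * B r`. -/
theorem eq_C_mul_B_of_roots (r : ℕ) (L : ℚ) (P : ℚ[X]) (hdeg : P.degree < (r : WithBot ℕ))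
    (h : ∀ n : ℤ, -(r : ℤ) < n → n ≤ 0 → P.eval (n : ℚ) = L * hS r n) : P = C L * B r := by
  rw [← sub_eq_zero]
  by_cases h0 : P - C L * B r = 0
  · exact h0
  · have hd2 : (C L * B r).degree < (r : WithBot ℕ) := by
      rw [C_mul']
      exact lt_of_le_of_lt (degree_smul_le L (B r)) (degree_B_lt r)
    have hd : (P - C L * B r).degree < (r : WithBot ℕ) :=
      lt_of_le_of_lt (degree_sub_le _ _) (max_lt hdeg hd2)
    have hnat : (P - C L * B r).natDegree < r := (natDegree_lt_iff_degree_lt h0).mpr hd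
    refine eq_zero_of_natDegree_lt_card_of_eval_eq_zero (P - C L * B r) (ι := Fin r)
      (f := fun j : Fin r => (((-((j : ℕ) : ℤ) : ℤ)) : ℚ)) ?_ ?_ ?_
    · intro j l hjl
      have h1 : (((-((j : ℕ) : ℤ) : ℤ)) : ℚ) = (((-((l : ℕ) : ℤ) : ℤ)) : ℚ) := hjl
      have h2 : (-((j : ℕ) : ℤ) : ℤ) = -((l : ℕ) : ℤ) := by exact_mod_cast h1
      apply Fin.ext
      omega
    · intro j
      have hj := j.2
      rw [eval_sub, h _ (by omega) (by omega), eval_mul, eval_C, eval_B r _ (by omega), sub_self]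
    · rw [Fintype.card_fin]
      exact hnat

end binom

/-! ### Avoiding finitely many primes by linear forms -/

section avoid

theorem exists_notMem_of_infinite {R : Type*} [CommRing R] (m : Ideal R) [Infinite (R ⧸ m)]
    (A0 V : AddSubgroup R)
    (hsurj : ∀ q : R ⧸ m, ∃ c ∈ A0, Ideal.Quotient.mk m c = q)
    (hunit : ∀ c ∈ A0, ∀ c' ∈ A0, Ideal.Quotient.mk m c ≠ Ideal.Quotient.mk m c' →
      IsUnit (c - c'))
    (hV : ∀ c ∈ A0, ∀ z ∈ V, c * z ∈ V)
    (T : Finset (Ideal R)) (hT : ∀ P ∈ T, P.IsPrime ∧ ∃ z ∈ V, z ∉ P) :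
    ∃ y ∈ V, ∀ P ∈ T, y ∉ P := by
  classical
  induction T using Finset.induction_on with
  | empty => exact ⟨0, V.zero_mem, fun P hP => absurd hP (Finset.notMem_empty P)⟩
  | insert P₀ T' hP₀ ih =>
    obtain ⟨y, hyV, hy⟩ := ih (fun P hP => hT P (Finset.mem_insert_of_mem hP))
    obtain ⟨-, z, hzV, hz⟩ := hT P₀ (Finset.mem_insert_self _ _)
    let S : Ideal R → Set (R ⧸ m) :=
      fun P => {q | ∃ c ∈ A0, Ideal.Quotient.mk m c = q ∧ y + c * z ∈ P}
    have hsub : ∀ P ∈ insert P₀ T', (S P).Subsingleton := by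
      intro P hP q hq q' hq'
      obtain ⟨c, hc, rfl, hcP⟩ := hq
      obtain ⟨c', hc', rfl, hcP'⟩ := hq'
      by_contra hne
      have hu := hunit c hc c' hc' hne
      have hPprime := (hT P hP).1
      have h1 : (c - c') * z ∈ P := by
        have := P.sub_mem hcP hcP'
        have e : y + c * z - (y + c' * z) = (c - c') * z := by ring
        rwa [e] at this
      have hzP : z ∈ P := by
        rcases hPprime.mem_or_mem h1 with h | h
        · exact absurd (P.eq_top_of_isUnit_mem h hu) hPprime.ne_top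
        · exact h
      have hyP : y ∈ P := by
        have := P.sub_mem hcP (P.mul_mem_left c hzP)
        rwa [add_sub_cancel_right] at this
      rcases Finset.mem_insert.mp hP with rfl | hP'
      · exact hz hzP
      · exact hy P hP' hyP
    have hfin : (⋃ P ∈ ((insert P₀ T' : Finset (Ideal R)) : Set (Ideal R)), S P).Finite :=
      Set.Finite.biUnion (Finset.finite_toSet _)
        (fun P hP => (hsub P (Finset.mem_coe.mp hP)).finite)
    obtain ⟨q, hq⟩ := hfin.exists_notMem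
    obtain ⟨c, hc, rfl⟩ := hsurj q
    refine ⟨y + c * z, V.add_mem hyV (hV c hc z hzV), fun P hP hmem => hq ?_⟩
    exact Set.mem_biUnion (Finset.mem_coe.mpr hP) ⟨c, hc, rfl, hmem⟩

end avoid

/-! ### Linear regular elements -/

section regular

variable {R : Type u} [CommRing R] {𝒜 : ℤ → AddSubgroup R} [GradedRing 𝒜]

/-- Modulo the *maximal ideal every element is congruent to its degree zero component. -/
theorem sub_decompose_zero_mem (hpos : ∀ n : ℤ, n < 0 → 𝒜 n = ⊥) (m : HomogeneousIdeal 𝒜)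
    (hm : IsCoatom m) (x : R) : x - ((decompose 𝒜 x) 0 : R) ∈ m.toIdeal := by
  classical
  refine mem_of_forall_comp_mem (𝒜 := 𝒜) (fun n => ?_)
  rw [DirectSum.decompose_sub, DirectSum.sub_apply, AddSubgroup.coe_sub]
  by_cases hn : n = 0
  · rw [hn, DirectSum.decompose_coe, DirectSum.of_eq_same, sub_self]
    exact zero_mem _
  · rw [DirectSum.decompose_coe, DirectSum.of_eq_of_ne _ _ _ hn]
    rw [ZeroMemClass.coe_zero, sub_zero]
    rcases lt_or_gt_of_ne hn with h | h
    · have h2 : ((decompose 𝒜 x) n : R) ∈ 𝒜 n := SetLike.coe_mem _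
      rw [Groth.Agent.Lib.Helper29GrStd.eq_zero_of_mem_of_eq_bot (hpos n h) h2]
      exact zero_mem _
    · exact mem_of_isCoatom hpos m hm n h _ (SetLike.coe_mem _)

variable [IsNoetherianRing R] [IsArtinianRing (GrLC.deg0 𝒜)]

/-- An element killed by the irrelevant ideal vanishes when `H^0_m(X) = 0`. -/
theorem eq_zero_of_irrel_smul (hpos : ∀ n : ℤ, n < 0 → 𝒜 n = ⊥) (m : HomogeneousIdeal 𝒜)
    (hm : GrLC.IsStarLocal 𝒜 m) (X : GrLC.GMod.{u} 𝒜) (h0 : ∀ g, VanX m X 0 g)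
    (z : X.carrier) (hz : ∀ e : ℤ, 0 < e → ∀ r ∈ 𝒜 e, r • z = 0) : z = 0 := by
  classical
  have hzg : z ∈ GrLC.gam m.toIdeal X.carrier := by
    obtain ⟨k, hk⟩ := exists_pow_le hpos m hm
    refine ⟨k, fun r hr => ?_⟩
    refine Submodule.span_induction (p := fun s _ => s • z = 0) ?_ ?_ ?_ ?_ (hk hr)
    · intro y hy
      simp only [Set.mem_iUnion, Set.mem_Ioi] at hy
      obtain ⟨j, hj, hyj⟩ := hy
      exact hz j hj y hyj
    · exact zero_smul R z
    · intro s t _ _ h1 h2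
      rw [add_smul, h1, h2, add_zero]
    · intro c s _ h1
      rw [smul_eq_mul, mul_smul, h1, smul_zero]
  rw [← DirectSum.sum_support_decompose X.gr z]
  refine Finset.sum_eq_zero fun g _ => ?_
  exact (vanX_zero_iff m X g).mp (h0 g) _
    (Groth.Agent.Lib.Helper29GrGam.gam_isHomogeneous 𝒜 X.gr m g hzg) (SetLike.coe_mem _)

/-- Over a standard graded *local ring with Artinian `R_0` and infinite residue field, a finitely
generated graded module with `H^0_m(X) = 0` has a regular element of degree one. -/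
theorem exists_linear_regular (hpos : ∀ n : ℤ, n < 0 → 𝒜 n = ⊥)
    (hstd : Ideal.span (⋃ n ∈ Set.Ioi (0 : ℤ), (𝒜 n : Set R)) =
      Ideal.span ((𝒜 1 : AddSubgroup R) : Set R))
    (m : HomogeneousIdeal 𝒜) (hm : GrLC.IsStarLocal 𝒜 m) (hinf : Infinite (R ⧸ m.toIdeal))
    (X : GrLC.GMod.{u} 𝒜) [Module.Finite R X.carrier] (h0 : ∀ g, VanX m X 0 g) :
    ∃ y ∈ 𝒜 1, IsSMulRegular X.carrier y := by
  classical
  have hfin := associatedPrimes.finite R X.carrier
  have hT : ∀ P ∈ hfin.toFinset, P.IsPrime ∧ ∃ z ∈ 𝒜 1, z ∉ P := by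
    intro p hp
    have hp' : IsAssociatedPrime p X.carrier := hfin.mem_toFinset.mp hp
    obtain ⟨hprime, z, hz⟩ := isAssociatedPrime_iff.mp hp'
    refine ⟨hprime, ?_⟩
    by_contra hcon
    have h1 : ∀ r ∈ 𝒜 1, r ∈ p := by
      intro r hr
      by_contra hc
      exact hcon ⟨r, hr, hc⟩
    have hall : ∀ e : ℤ, 0 < e → ∀ r ∈ 𝒜 e, r ∈ p := by
      intro e he r hr
      have h2 : r ∈ Ideal.span (⋃ n ∈ Set.Ioi (0 : ℤ), (𝒜 n : Set R)) := by
        refine Ideal.subset_span ?_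
        simp only [Set.mem_iUnion, Set.mem_Ioi]
        exact ⟨e, he, hr⟩
      rw [hstd] at h2
      exact (Ideal.span_le.mpr (fun r hr => h1 r hr)) h2
    have hz0 : z = 0 := by
      apply eq_zero_of_irrel_smul hpos m hm X h0
      intro e he r hr
      have h1 : r ∈ (⊥ : Submodule R X.carrier).colon {z} := hz ▸ hall e he r hr
      exact (Submodule.mem_bot R).mp (Submodule.mem_colon_singleton.mp h1)
    apply hprime.ne_top
    rw [hz, hz0, Ideal.eq_top_iff_one]
    exact Submodule.mem_colon_singleton.mpr (by rw [smul_zero]; exact Submodule.zero_mem _)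
  have := hinf
  obtain ⟨y, hy, hyp⟩ := exists_notMem_of_infinite m.toIdeal (𝒜 0) (𝒜 1)
    (fun q => by
      obtain ⟨x, rfl⟩ := Ideal.Quotient.mk_surjective q
      refine ⟨((decompose 𝒜 x) 0 : R), SetLike.coe_mem _, ?_⟩
      rw [eq_comm, Ideal.Quotient.eq]
      exact sub_decompose_zero_mem hpos m hm.1 x)
    (fun c hc c' hc' hne => by
      have hnm : c - c' ∉ m.toIdeal := fun h => hne (Ideal.Quotient.eq.mpr h)
      have hmem : c - c' ∈ 𝒜 0 := sub_mem hc hc'
      have hu := isUnit_deg0_of_not_mem m hm (⟨c - c', hmem⟩ : GrLC.deg0 𝒜) hnm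
      exact hu.map (GrLC.deg0 𝒜).subtype)
    (fun c hc z hz => by
      have := SetLike.mul_mem_graded hc hz
      rwa [zero_add] at this)
    hfin.toFinset hT
  refine ⟨y, hy, ?_⟩
  rw [isSMulRegular_iff_right_eq_zero_of_smul]
  intro z hz
  by_contra hne
  have h1 : y ∈ ⋃ p ∈ associatedPrimes R X.carrier, (p : Set R) := by
    rw [biUnion_associatedPrimes_eq_zero_divisors]
    exact ⟨z, hne, hz⟩
  obtain ⟨p, hp, hxp'⟩ := Set.mem_iUnion₂.mp h1
  exact hyp p (hfin.mem_toFinset.mpr hp) hxp'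

end regular

/-! ### Regular sequences of linear forms -/

section seq

variable {R : Type u} [CommRing R] {𝒜 : ℤ → AddSubgroup R} [GradedRing 𝒜]

theorem ofList_smul_top_isHomogeneous (fs : List R) (hfs : ∀ x ∈ fs, x ∈ 𝒜 1) :
    (Ideal.ofList fs • (⊤ : Submodule R R)).IsHomogeneous 𝒜 := by
  have h1 : Ideal.ofList fs • (⊤ : Submodule R R) = Ideal.ofList fs := by
    rw [Ideal.smul_eq_mul, Ideal.mul_top]
  rw [h1]
  exact Ideal.homogeneous_span 𝒜 {r | r ∈ fs} (fun x hx => ⟨1, hfs x hx⟩)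

/-- The quotient of `R` by a list of elements, as a graded module. -/
def quotList (fs : List R) (hfs : ∀ x ∈ fs, x ∈ 𝒜 1) : GrLC.GMod.{u} 𝒜 :=
  quotG (GrLC.GMod.of 𝒜 R 𝒜) (Ideal.ofList fs • (⊤ : Submodule R R))
    (ofList_smul_top_isHomogeneous (𝒜 := 𝒜) fs hfs)

instance quotList_finite (fs : List R) (hfs : ∀ x ∈ fs, x ∈ 𝒜 1) :
    Module.Finite R (quotList (𝒜 := 𝒜) fs hfs).carrier :=
  inferInstanceAs (Module.Finite R (R ⧸ (Ideal.ofList fs • (⊤ : Submodule R R))))

/-- The quotient map. -/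
def quotListMk (fs : List R) (hfs : ∀ x ∈ fs, x ∈ 𝒜 1) :
    (GrLC.GMod.of 𝒜 R 𝒜).carrier →ₗ[R] (quotList (𝒜 := 𝒜) fs hfs).carrier :=
  (Ideal.ofList fs • (⊤ : Submodule R R)).mkQ

theorem quotListMk_grHom (fs : List R) (hfs : ∀ x ∈ fs, x ∈ 𝒜 1) :
    GrLC.IsGrHom (GrLC.GMod.of 𝒜 R 𝒜).gr (quotList (𝒜 := 𝒜) fs hfs).gr (quotListMk fs hfs) :=
  mkQ_grHom _ _ _

theorem quotListMk_surjective (fs : List R) (hfs : ∀ x ∈ fs, x ∈ 𝒜 1) :
    Function.Surjective (quotListMk (𝒜 := 𝒜) fs hfs) := by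
  show Function.Surjective (Ideal.ofList fs • (⊤ : Submodule R R)).mkQ
  exact Submodule.mkQ_surjective _

theorem ker_quotListMk (fs : List R) (hfs : ∀ x ∈ fs, x ∈ 𝒜 1) :
    LinearMap.ker (quotListMk (𝒜 := 𝒜) fs hfs) =
      Ideal.ofList fs • (⊤ : Submodule R (GrLC.GMod.of 𝒜 R 𝒜).carrier) := by
  show LinearMap.ker (Ideal.ofList fs • (⊤ : Submodule R R)).mkQ =
    Ideal.ofList fs • (⊤ : Submodule R R)
  exact Submodule.ker_mkQ _

theorem map_pair_fst (fs : List R) : (fs.map (fun x => (x, (1 : ℤ)))).map Prod.fst = fs := by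
  rw [List.map_map]
  exact List.map_id fs

/-- Existence of regular sequences of linear forms of any length up to the dimension. -/
theorem exists_linear_regular_seq [LocCoh.IsCohenMacaulayRing R] [IsArtinianRing (GrLC.deg0 𝒜)]
    (hpos : ∀ n : ℤ, n < 0 → 𝒜 n = ⊥)
    (hstd : Ideal.span (⋃ n ∈ Set.Ioi (0 : ℤ), (𝒜 n : Set R)) =
      Ideal.span ((𝒜 1 : AddSubgroup R) : Set R))
    (m : HomogeneousIdeal 𝒜) (hm : GrLC.IsStarLocal 𝒜 m) (hinf : Infinite (R ⧸ m.toIdeal))
    (d : ℕ) (hd : ringKrullDim R = (d : WithBot ℕ∞)) :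
    ∀ i : ℕ, i ≤ d → ∃ fs : List R, fs.length = i ∧ (∀ x ∈ fs, x ∈ 𝒜 1) ∧
      RingTheory.Sequence.IsWeaklyRegular R fs := by
  intro i
  induction i with
  | zero =>
    intro _
    exact ⟨[], rfl, fun x hx => absurd hx List.not_mem_nil,
      RingTheory.Sequence.IsWeaklyRegular.nil R R⟩
  | succ i ih =>
    intro hi
    obtain ⟨fs, hlen, hfs, hreg⟩ := ih (by omega)
    have hreg' : RingTheory.Sequence.IsWeaklyRegular (GrLC.GMod.of 𝒜 R 𝒜).carrier
        ((fs.map (fun x => (x, (1 : ℤ)))).map Prod.fst) := by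
      rw [map_pair_fst]
      exact hreg
    have hker : LinearMap.ker (quotListMk (𝒜 := 𝒜) fs hfs) =
        Ideal.ofList ((fs.map (fun x => (x, (1 : ℤ)))).map Prod.fst) •
          (⊤ : Submodule R (GrLC.GMod.of 𝒜 R 𝒜).carrier) := by
      rw [map_pair_fst]
      exact ker_quotListMk fs hfs
    have hdeg : ∀ p ∈ fs.map (fun x => (x, (1 : ℤ))), p.1 ∈ 𝒜 p.2 ∧ p.1 ∈ m.toIdeal := by
      intro p hp
      obtain ⟨x, hx, rfl⟩ := List.mem_map.mp hp
      exact ⟨hfs x hx, mem_of_isCoatom hpos m hm.1 1 one_pos x (hfs x hx)⟩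
    have hvan := (ainv_regular_seq hpos m (fs.map (fun x => (x, (1 : ℤ))))
      (GrLC.GMod.of 𝒜 R 𝒜) (quotList fs hfs) (quotListMk fs hfs) (quotListMk_grHom fs hfs)
      (quotListMk_surjective fs hfs) hker hdeg hreg' d (by rw [List.length_map]; omega)
      (fun j hj g => vanX_of_lt_dim hpos m hm d hd j hj g)).1
    have hvan0 : ∀ g, VanX m (quotList (𝒜 := 𝒜) fs hfs) 0 g := by
      intro g
      exact hvan 0 (by rw [List.length_map]; omega) g
    obtain ⟨y, hy, hyreg⟩ := exists_linear_regular hpos hstd m hm hinf (quotList fs hfs) hvan0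
    refine ⟨fs ++ [y], by rw [List.length_append, hlen, List.length_singleton], ?_, ?_⟩
    · intro x hx
      rcases List.mem_append.mp hx with h | h
      · exact hfs x h
      · rw [List.mem_singleton.mp h]
        exact hy
    · rw [RingTheory.Sequence.isWeaklyRegular_append_iff]
      exact ⟨hreg, (RingTheory.Sequence.isWeaklyRegular_singleton_iff _ y).mpr hyreg⟩

end seq

/-! ### Hilbert functions modulo regular sequences of linear forms -/

section hilb

variable {R : Type u} [CommRing R] {𝒜 : ℤ → AddSubgroup R} [GradedRing 𝒜]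
  [IsNoetherianRing R] [IsArtinianRing (GrLC.deg0 𝒜)]

/-- Isomorphic graded modules have the same Hilbert function. -/
theorem lenQ_comp_of_bijective (hpos : ∀ n : ℤ, n < 0 → 𝒜 n = ⊥) {X N : GrLC.GMod.{u} 𝒜}
    [Module.Finite R X.carrier]
    (π : X.carrier →ₗ[R] N.carrier) (hπ : GrLC.IsGrHom X.gr N.gr π) (hs : Function.Surjective π)
    (hinj : LinearMap.ker π = ⊥) (n : ℤ) :
    lenQ (GrLC.deg0 𝒜) ↥(GrLC.comp 𝒜 X.gr n) = lenQ (GrLC.deg0 𝒜) ↥(GrLC.comp 𝒜 N.gr n) := by
  have h1 := lenQ_comp_add (GSES.ofSurj π hπ hs) n (fl_comp hpos X n)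
  have hsub : Subsingleton ↥(GrLC.comp 𝒜 (subG X (LinearMap.ker π)
      (Groth.Agent.Lib.Helper29GrHom.ker_isHomogeneous N.gr X.gr π hπ)).gr n) := by
    refine ⟨fun y z => ?_⟩
    have hy : (y.1.1 : X.carrier) = 0 := (Submodule.mem_bot R).mp (hinj ▸ y.1.2)
    have hz : (z.1.1 : X.carrier) = 0 := (Submodule.mem_bot R).mp (hinj ▸ z.1.2)
    exact Subtype.ext (Subtype.ext (hy.trans hz.symm))
  rw [h1, lenQ_of_subsingleton, zero_add]

/-- The Hilbert function of the quotient by a regular sequence of linear forms. -/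
theorem lenQ_quot_regular_seq (hpos : ∀ n : ℤ, n < 0 → 𝒜 n = ⊥) (L : ℚ) :
    ∀ (fs : List R) (X N : GrLC.GMod.{u} 𝒜) (π : X.carrier →ₗ[R] N.carrier)
      (_ : GrLC.IsGrHom X.gr N.gr π) (_ : Function.Surjective π)
      (_ : LinearMap.ker π = Ideal.ofList fs • (⊤ : Submodule R X.carrier))
      (_ : ∀ x ∈ fs, x ∈ 𝒜 1)
      (_ : RingTheory.Sequence.IsWeaklyRegular X.carrier fs)
      (_ : Module.Finite R X.carrier)
      (c : ℕ) (_ : fs.length ≤ c)
      (_ : ∀ n : ℤ, lenQ (GrLC.deg0 𝒜) ↥(GrLC.comp 𝒜 X.gr n) = L * hS c n),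
      ∀ n : ℤ, lenQ (GrLC.deg0 𝒜) ↥(GrLC.comp 𝒜 N.gr n) = L * hS (c - fs.length) n := by
  intro fs
  induction fs with
  | nil =>
    intro X N π hπ hs hker _ _ hfin c _ hH n
    have hinj : LinearMap.ker π = ⊥ := by
      rw [hker, Ideal.ofList_nil, Submodule.bot_smul]
    rw [← lenQ_comp_of_bijective hpos π hπ hs hinj n, hH n, List.length_nil, Nat.sub_zero]
  | cons x fs' ih =>
    intro X N π hπ hs hker hdeg hreg hfin c hlen hH n
    rw [List.length_cons] at hlen
    have hx1 : x ∈ 𝒜 1 := hdeg x List.mem_cons_self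
    obtain ⟨hxreg, hreg'⟩ :=
      (RingTheory.Sequence.isWeaklyRegular_cons_iff X.carrier x fs').mp hreg
    have hP : (x • (⊤ : Submodule R X.carrier)).IsHomogeneous X.gr :=
      smul_top_isHomogeneous X hx1
    have hle : x • (⊤ : Submodule R X.carrier) ≤ LinearMap.ker π := by
      rw [hker, Ideal.ofList_cons_smul]
      exact le_sup_left
    have hπ₁ : GrLC.IsGrHom (quotG X _ hP).gr N.gr
        ((x • (⊤ : Submodule R X.carrier)).liftQ π hle) := by
      rintro j y ⟨m, hm, rfl⟩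
      exact hπ j m hm
    have hs₁ : Function.Surjective ((x • (⊤ : Submodule R X.carrier)).liftQ π hle) := by
      intro n
      obtain ⟨m, rfl⟩ := hs n
      exact ⟨Submodule.Quotient.mk m, rfl⟩
    have hkerπ₁ : LinearMap.ker ((x • (⊤ : Submodule R X.carrier)).liftQ π hle) =
        Ideal.ofList fs' •
          (⊤ : Submodule R (X.carrier ⧸ x • (⊤ : Submodule R X.carrier))) := by
      rw [Submodule.ker_liftQ, hker, Ideal.ofList_cons_smul, Submodule.map_sup,
        Submodule.mkQ_map_self, bot_sup_eq, Submodule.map_smul'', Submodule.map_top,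
        Submodule.range_mkQ]
    have hdeg' : ∀ y ∈ fs', y ∈ 𝒜 1 := fun y hy => hdeg y (List.mem_cons_of_mem _ hy)
    have hfin₁ : Module.Finite R (quotG X _ hP).carrier :=
      inferInstanceAs (Module.Finite R (X.carrier ⧸ x • (⊤ : Submodule R X.carrier)))
    have hH₁ : ∀ n : ℤ, lenQ (GrLC.deg0 𝒜) ↥(GrLC.comp 𝒜 (quotG X _ hP).gr n) =
        L * hS (c - 1) n := by
      intro n
      have h1 := lenQ_comp_add (mulSES X hx1 hxreg) n (fl_comp hpos X n)
      have h2 : lenQ (GrLC.deg0 𝒜) ↥(GrLC.comp 𝒜 (shiftG X (-1)).gr n) =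
          lenQ (GrLC.deg0 𝒜) ↥(GrLC.comp 𝒜 X.gr (n + -1)) := rfl
      rw [h2, hH n, hH (n + -1)] at h1
      have hc : c = (c - 1) + 1 := by omega
      have h3 := hS_pascal (c - 1) n
      rw [← hc] at h3
      have e : n + -1 = n - 1 := by ring
      rw [e] at h1
      have : lenQ (GrLC.deg0 𝒜) ↥(GrLC.comp 𝒜 (quotG X _ hP).gr n) =
          L * hS c n - L * hS c (n - 1) := by
        rw [h1]
        ring
      rw [this, ← h3]
      ring
    have key := ih (quotG X _ hP) N _ hπ₁ hs₁ hkerπ₁ hdeg' hreg' hfin₁ (c - 1) (by omega) hH₁ n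
    have e1 : c - (fs'.length + 1) = c - 1 - fs'.length := by omega
    rw [List.length_cons, e1]
    exact key

end hilb

/-! ### Lengths of the homogeneous pieces of a polynomial ring -/

section poly

open MvPolynomial

theorem setOf_degree_eq' (r n : ℕ) :
    {d : Fin r →₀ ℕ | d.degree = n} = ↑((Finset.univ : Finset (Fin r)).finsuppAntidiag n) := by
  ext d
  simp only [Set.mem_ofPred_eq, Finset.mem_coe, Finset.mem_finsuppAntidiag, Finset.subset_univ,
    and_true]
  rw [Finsupp.degree_apply, Finset.sum_subset (Finset.subset_univ d.support)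
    (fun x _ hx => Finsupp.notMem_support_iff.1 hx)]

theorem length_homog (A : Type u) [CommRing A] (r n : ℕ) :
    Module.length A ↥(homogeneousSubmodule (Fin r) A n) =
      (((r + n - 1).choose n : ℕ) : ℕ∞) * Module.length A A := by
  classical
  have e1 : homogeneousSubmodule (Fin r) A n =
      restrictSupport A {d : Fin r →₀ ℕ | d.degree = n} :=
    homogeneousSubmodule_eq_finsupp_supported (σ := Fin r) (R := A) n
  rw [e1, setOf_degree_eq']
  have b := basisRestrictSupport A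
    (↑((Finset.univ : Finset (Fin r)).finsuppAntidiag n) : Set (Fin r →₀ ℕ))
  rw [b.repr.length_eq, Module.length_finsupp, ENat.card_eq_coe_natCard, Nat.card_coe_set_eq,
    Set.ncard_coe_finset, Finset.card_finsuppAntidiag_nat_eq_choose, Finset.card_univ,
    Fintype.card_fin]

theorem finite_homog' (A : Type u) [CommRing A] (r n : ℕ) :
    Module.Finite A ↥(homogeneousSubmodule (Fin r) A n) := by
  classical
  have e1 : homogeneousSubmodule (Fin r) A n =
      restrictSupport A {d : Fin r →₀ ℕ | d.degree = n} :=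
    homogeneousSubmodule_eq_finsupp_supported (σ := Fin r) (R := A) n
  rw [e1, setOf_degree_eq']
  exact Module.Finite.of_basis (basisRestrictSupport A _)

theorem lenQ_homog (A : Type u) [CommRing A] (r n : ℕ) :
    lenQ A ↥(homogeneousSubmodule (Fin r) A n) =
      ((r + n - 1).choose n : ℚ) * lenQ A A := by
  unfold lenQ
  rw [length_homog, ENat.toNat_mul, ENat.toNat_natCast, Nat.cast_mul]

theorem fl_homog (A : Type u) [CommRing A] [IsArtinianRing A] (r n : ℕ) :
    IsFiniteLength A ↥(homogeneousSubmodule (Fin r) A n) := by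
  have := finite_homog' A r n
  exact isFiniteLength_iff_isNoetherian_isArtinian.mpr ⟨inferInstance, inferInstance⟩

theorem subsingleton_of_lenQ_eq_zero {A : Type u} [CommRing A] {M : Type u}
    [AddCommGroup M] [Module A M] (hM : IsFiniteLength A M) (h : lenQ A M = 0) :
    Subsingleton M := by
  have hne : Module.length A M ≠ ⊤ := Module.length_ne_top_iff.mpr hM
  unfold lenQ at h
  have h5 : (Module.length A M).toNat = 0 := by exact_mod_cast h
  apply (Module.length_eq_zero_iff (R := A) (M := M)).mp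
  rw [← ENat.natCast_toNat hne, h5]
  rfl

theorem injective_of_surjective_of_lenQ_eq {A : Type u} [CommRing A] {M N : Type u}
    [AddCommGroup M] [Module A M] [AddCommGroup N] [Module A N] (f : M →ₗ[A] N)
    (hf : Function.Surjective f) (hM : IsFiniteLength A M) (h : lenQ A M = lenQ A N) :
    Function.Injective f := by
  have h1 := lenQ_ker_add_range f hM
  have hr : LinearMap.range f = ⊤ := LinearMap.range_eq_top.mpr hf
  have h2 : lenQ A ↥(LinearMap.range f) = lenQ A N := by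
    rw [lenQ_eq_of_eq hr]
    exact lenQ_congr Submodule.topEquiv
  rw [h2, h] at h1
  have h3 : lenQ A ↥(LinearMap.ker f) = 0 := by linarith
  have hK : IsFiniteLength A ↥(LinearMap.ker f) :=
    hM.of_injective (LinearMap.ker f).subtype_injective
  have h5 : Subsingleton ↥(LinearMap.ker f) := subsingleton_of_lenQ_eq_zero hK h3
  rw [← LinearMap.ker_eq_bot]
  exact Submodule.eq_bot_of_subsingleton

end poly

/-! ### The main theorem -/

section main

open Polynomial

variable {R : Type u} [CommRing R] {𝒜 : ℤ → AddSubgroup R} [GradedRing 𝒜]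
  [LocCoh.IsCohenMacaulayRing R] [IsArtinianRing (GrLC.deg0 𝒜)]

/-- If `a(R) = -dim R` then the Hilbert function of `R` is that of a polynomial ring over `R_0`. -/
theorem hilbert_of_endDeg (hpos : ∀ n : ℤ, n < 0 → 𝒜 n = ⊥)
    (hstd : Ideal.span (⋃ n ∈ Set.Ioi (0 : ℤ), (𝒜 n : Set R)) =
      Ideal.span ((𝒜 1 : AddSubgroup R) : Set R))
    (m : HomogeneousIdeal 𝒜) (hm : GrLC.IsStarLocal 𝒜 m) (d : ℕ)
    (hd : ringKrullDim R = (d : WithBot ℕ∞)) (I : GrLC.StarInjRes 𝒜 𝒜)
    (ha : GrLC.endDeg (I.Hgr m d) = (((-(d : ℤ) : ℤ) : WithTop ℤ) : WithBot (WithTop ℤ))) :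
    ∀ n : ℤ, lenQ (GrLC.deg0 𝒜) ↥(GrLC.comp 𝒜 𝒜 n) =
      lenQ (GrLC.deg0 𝒜) ↥(GrLC.comp 𝒜 𝒜 0) * hS d n := by
  have hfin : Module.Finite R (GrLC.GMod.of 𝒜 R 𝒜).carrier := inferInstanceAs (Module.Finite R R)
  obtain ⟨P, hP⟩ := exists_hp_starLocal hpos hstd m hm d hd (GrLC.GMod.of 𝒜 R 𝒜)
  have hdim : Module.supportDim R (GrLC.GMod.of 𝒜 R 𝒜).carrier ≤ (d : WithBot ℕ∞) := by
    have h1 : Module.supportDim R (GrLC.GMod.of 𝒜 R 𝒜).carrier = ringKrullDim R :=
      Module.supportDim_self_eq_ringKrullDim R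
    rw [h1, hd]
  have hdeg : P.degree < (d : WithBot ℕ) :=
    degree_lt_of_supportDim_le hpos d (GrLC.GMod.of 𝒜 R 𝒜) hfin hdim P hP
  have hP' : ∃ N : ℤ, ∀ n : ℤ, N ≤ n →
      P.eval (n : ℚ) = ((Module.length (GrLC.deg0 𝒜) ↥(GrLC.comp 𝒜 𝒜 n)).toNat : ℚ) := hP
  have hiff : ∀ n : ℤ, I.Hgr m d n ≠ ⊥ ↔
      P.eval (n : ℚ) ≠ lenQ (GrLC.deg0 𝒜) ↥(GrLC.comp 𝒜 𝒜 n) :=
    fun n => hgr_ne_bot_iff hpos hstd m hm d hd I P hP' n
  have hvan : ∀ n : ℤ, -(d : ℤ) < n → I.Hgr m d n = ⊥ :=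
    (endDeg_le_iff' _ _).mp ha.le
  have hPH : ∀ n : ℤ, -(d : ℤ) < n →
      P.eval (n : ℚ) = lenQ (GrLC.deg0 𝒜) ↥(GrLC.comp 𝒜 𝒜 n) := by
    intro n hn
    by_contra hne
    exact (hiff n).mpr hne (hvan n hn)
  have hPB : P = C (lenQ (GrLC.deg0 𝒜) ↥(GrLC.comp 𝒜 𝒜 0)) * B d := by
    refine eq_C_mul_B_of_roots d _ P hdeg fun n hn1 hn2 => ?_
    rw [hPH n hn1]
    rcases lt_or_eq_of_le hn2 with h | h
    · rw [lenQ_comp_neg hpos h, hS_neg d h, mul_zero]
    · rw [h, hS_zero, mul_one]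
  intro n
  rcases lt_trichotomy n 0 with h | h | h
  · rw [lenQ_comp_neg hpos h, hS_neg d h, mul_zero]
  · rw [h, hS_zero, mul_one]
  · have hn' : -(d : ℤ) < n := by omega
    rw [← hPH n hn', hPB, eval_mul, eval_C, eval_B d n hn']

open MvPolynomial in
/-- A standard graded Cohen-Macaulay *local ring `R` with Artinian `R_0`, infinite residue field
and `a(R) = -dim R` is a polynomial ring over `R_0` on `dim R` variables of degree one. -/
theorem exists_algEquiv (hpos : ∀ n : ℤ, n < 0 → 𝒜 n = ⊥)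
    (hstd : Ideal.span (⋃ n ∈ Set.Ioi (0 : ℤ), (𝒜 n : Set R)) =
      Ideal.span ((𝒜 1 : AddSubgroup R) : Set R))
    (m : HomogeneousIdeal 𝒜) (hm : GrLC.IsStarLocal 𝒜 m) (hinf : Infinite (R ⧸ m.toIdeal))
    (d : ℕ) (hd : ringKrullDim R = (d : WithBot ℕ∞)) (I : GrLC.StarInjRes 𝒜 𝒜)
    (ha : GrLC.endDeg (I.Hgr m d) = (((-(d : ℤ) : ℤ) : WithTop ℤ) : WithBot (WithTop ℤ))) :
    ∃ e : MvPolynomial (Fin d) (GrLC.deg0 𝒜) ≃ₐ[GrLC.deg0 𝒜] R,
      ∀ t : Fin d, e (MvPolynomial.X t) ∈ 𝒜 1 := by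
  classical
  obtain ⟨fs, hlen, hfs, hreg⟩ := exists_linear_regular_seq hpos hstd m hm hinf d hd d le_rfl
  have hH := hilbert_of_endDeg hpos hstd m hm d hd I ha
  subst hlen
  have hfinR : Module.Finite R (GrLC.GMod.of 𝒜 R 𝒜).carrier :=
    inferInstanceAs (Module.Finite R R)
  have hN := lenQ_quot_regular_seq hpos (lenQ (GrLC.deg0 𝒜) ↥(GrLC.comp 𝒜 𝒜 0)) fs
    (GrLC.GMod.of 𝒜 R 𝒜) (quotList fs hfs) (quotListMk fs hfs) (quotListMk_grHom fs hfs)
    (quotListMk_surjective fs hfs) (ker_quotListMk fs hfs) hfs hreg hfinR fs.length le_rfl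
    (fun n => hH n)
  have hN1 : Subsingleton ↥(GrLC.comp 𝒜 (quotList (𝒜 := 𝒜) fs hfs).gr 1) := by
    apply subsingleton_of_lenQ_eq_zero (fl_comp hpos (quotList fs hfs) 1)
    rw [hN 1, Nat.sub_self, hS_one, Nat.cast_zero, mul_zero]
  let y : Fin fs.length → R := fun t => fs.get t
  have hy : ∀ t, y t ∈ 𝒜 1 := fun t => hfs _ (List.get_mem fs t)
  have hrange : {r | r ∈ fs} = Set.range y := by
    ext r
    exact List.mem_iff_get
  have hspan : ∀ x ∈ 𝒜 1, x ∈ Submodule.span (GrLC.deg0 𝒜) (Set.range y) := by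
    intro x hx
    have h1 : quotListMk (𝒜 := 𝒜) fs hfs x ∈ (quotList (𝒜 := 𝒜) fs hfs).gr 1 :=
      quotListMk_grHom fs hfs 1 x hx
    have h2 : quotListMk (𝒜 := 𝒜) fs hfs x = 0 := by
      have := Subsingleton.elim
        (⟨_, h1⟩ : ↥(GrLC.comp 𝒜 (quotList (𝒜 := 𝒜) fs hfs).gr 1)) 0
      exact congrArg Subtype.val this
    have h3 : x ∈ LinearMap.ker (quotListMk (𝒜 := 𝒜) fs hfs) := h2
    rw [ker_quotListMk] at h3
    have h4 : x ∈ Ideal.span (Set.range y) := by
      have e : Ideal.ofList fs • (⊤ : Submodule R R) = Ideal.ofList fs := by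
        rw [Ideal.smul_eq_mul, Ideal.mul_top]
      have h5 : x ∈ Ideal.ofList fs := by
        rw [← e]
        exact h3
      rw [← hrange]
      exact h5
    obtain ⟨c, hc⟩ := Ideal.mem_span_range_iff_exists_fun.mp h4
    have h6 : x = ∑ t, ((decompose 𝒜 (c t)) 0 : R) * y t := by
      have hx1 : ((decompose 𝒜 x) 1 : R) = x := DirectSum.decompose_of_mem_same 𝒜 hx
      rw [← hx1, ← hc, DirectSum.decompose_sum, DFinsupp.finsetSum_apply,
        AddSubmonoidClass.coe_finsetSum]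
      refine Finset.sum_congr rfl fun t _ => ?_
      have := DirectSum.coe_decompose_mul_add_of_right_mem 𝒜 (a := c t) (i := 0) (hy t)
      rw [zero_add] at this
      exact this
    rw [h6]
    refine Submodule.sum_mem _ fun t _ => ?_
    have e : ((decompose 𝒜 (c t)) 0 : R) * y t =
        (⟨((decompose 𝒜 (c t)) 0 : R), SetLike.coe_mem _⟩ : GrLC.deg0 𝒜) • y t := rfl
    rw [e]
    exact Submodule.smul_mem _ _ (Submodule.subset_span ⟨t, rfl⟩)
  have hsurj := phi_surjective hpos hstd hspan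
  have hinj : Function.Injective (phi 𝒜 y) := by
    refine phi_injective 𝒜 hy fun n p hp h0 => ?_
    have hpm : p ∈ homogeneousSubmodule (Fin fs.length) (GrLC.deg0 𝒜) n :=
      (mem_homogeneousSubmodule n p).mpr hp
    have hinjN : Function.Injective (phiN hy n) := by
      apply injective_of_surjective_of_lenQ_eq _ (phiN_surjective hy hstd hspan n)
        (fl_homog _ _ _)
      rw [lenQ_homog, hH (n : ℤ), hS_natCast, lenQ_congr (compZeroEquiv (𝒜 := 𝒜))]
      ring
    have h1 : phiN hy n ⟨p, hpm⟩ = 0 := Subtype.ext h0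
    have h2 := hinjN (h1.trans (map_zero _).symm)
    exact congrArg Subtype.val h2
  refine ⟨AlgEquiv.ofBijective (phi 𝒜 y) ⟨hinj, hsurj⟩, fun t => ?_⟩
  rw [AlgEquiv.ofBijective_apply, phi_X]
  exact hy t

end main

end Groth.Agent.Lib.R2H7.GrLinSeq
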