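/-
Bridge for graded local duality in the top degree: the ring is graded by `k`-subspaces
(`𝒜 : ℤ → Submodule k R`), the statement's data are converted to the `AddSubgroup`-graded setting
of `R2H7GrLocDual` (the cohomology modules are definitionally the same, so the `k`-structures and
decompositions given on them transfer verbatim).
-/
import Mathlib
import Groth.Agent.Lib.R2H7GrLocDual
import Groth.Agent.Lib.R2H7GrBdry

set_option autoImplicit false
open DirectSum

noncomputable section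

namespace Groth.Agent.Lib.R2H7.GrLocDualConv

open Groth.Agent.Lib.R2H7.GrBdry Groth.Agent.Lib.R2H7.GrFree Groth.Agent.Lib.R2H7.GrFun
  Groth.Agent.Lib.R2H7.GrLocDual

universe u

variable {k : Type u} [Field k] {R : Type u} [CommRing R] [Algebra k R]
  (𝒜 : ℤ → Submodule k R) [GradedAlgebra 𝒜] (mR : HomogeneousIdeal 𝒜) (n : ℕ)

/-- A *injective resolution of `R` over the `k`-subspace grading, as a resolution of the
`AddSubgroup`-graded module `R`. -/
def selfRes (I : GrLC.StarInjRes 𝒜 𝒜) : GrLC.StarInjRes (toAS 𝒜) (selfG (toAS 𝒜)).gr :=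
  convRes 𝒜 𝒜 I

section inst

variable (I : GrLC.StarInjRes 𝒜 𝒜)

instance instModuleSelf [inst : Module k (I.H mR n)] :
    Module k ((selfRes 𝒜 I).H (convIdeal 𝒜 mR) n) := inst

instance instTowerSelf [Module k (I.H mR n)] [inst : IsScalarTower k R (I.H mR n)] :
    IsScalarTower k R ((selfRes 𝒜 I).H (convIdeal 𝒜 mR) n) := inst

instance instDecSelf [inst : DirectSum.Decomposition (I.Hgr mR n)] :
    DirectSum.Decomposition ((selfRes 𝒜 I).Hgr (convIdeal 𝒜 mR) n) := inst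

variable {M : Type u} [AddCommGroup M] [Module R M] (ℳ : ℤ → AddSubgroup M)
  [DirectSum.Decomposition ℳ] [SetLike.GradedSMul 𝒜 ℳ] (EM : GrLC.StarInjRes 𝒜 ℳ)

instance instModuleConv [inst : Module k (EM.H mR n)] :
    Module k ((convRes 𝒜 ℳ EM).H (convIdeal 𝒜 mR) n) := inst

instance instTowerConv [Module k (EM.H mR n)] [inst : IsScalarTower k R (EM.H mR n)] :
    IsScalarTower k R ((convRes 𝒜 ℳ EM).H (convIdeal 𝒜 mR) n) := inst

instance instDecConv [inst : DirectSum.Decomposition (EM.Hgr mR n)] :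
    DirectSum.Decomposition ((convRes 𝒜 ℳ EM).Hgr (convIdeal 𝒜 mR) n) := inst

instance instFiniteConv [inst : Module.Finite R M] : Module.Finite R (toGMod 𝒜 ℳ).carrier := inst

end inst

/-- Graded local duality in the top degree for a ring graded by `k`-subspaces. -/
theorem exists_dual_equiv_conv [IsNoetherianRing R] (hn : ringKrullDim R = n)
    (I : GrLC.StarInjRes 𝒜 𝒜) [Module k (I.H mR n)] [IsScalarTower k R (I.H mR n)]
    [DirectSum.Decomposition (I.Hgr mR n)]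
    {K : Type u} [AddCommGroup K] [Module R K] [Module k K] [IsScalarTower k R K]
    (𝒦 : ℤ → AddSubgroup K) [DirectSum.Decomposition 𝒦]
    (βK : K →ₗ[k] I.H mR n →ₗ[k] k) (hK : GrSeg.IsGDual R (I.Hgr mR n) 𝒦 βK)
    {M : Type u} [AddCommGroup M] [Module R M] (ℳ : ℤ → AddSubgroup M)
    [DirectSum.Decomposition ℳ] [SetLike.GradedSMul 𝒜 ℳ] [Module.Finite R M]
    (EM : GrLC.StarInjRes 𝒜 ℳ) [Module k (EM.H mR n)] [IsScalarTower k R (EM.H mR n)]
    [DirectSum.Decomposition (EM.Hgr mR n)]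
    {D : Type u} [AddCommGroup D] [Module R D] [Module k D] [IsScalarTower k R D]
    (𝒟 : ℤ → AddSubgroup D) [DirectSum.Decomposition 𝒟]
    (βD : D →ₗ[k] EM.H mR n →ₗ[k] k) (hD : GrSeg.IsGDual R (EM.Hgr mR n) 𝒟 βD) :
    ∃ ε : D ≃ₗ[R] (M →ₗ[R] K), ∀ (j : ℤ) (d : D), d ∈ 𝒟 j →
      ∀ (e : ℤ) (x : M), x ∈ ℳ e → ε d x ∈ 𝒦 (e + j) := by
  have hV : ∀ (Y : GrLC.GMod.{u} (toAS 𝒜)) (E'' : GrLC.StarInjRes (toAS 𝒜) Y.gr)
      (z : (E''.X (n + 1)).carrier),
      z ∈ E''.cocyc (convIdeal 𝒜 mR) (n + 1) → z ∈ E''.cobdy (convIdeal 𝒜 mR) (n + 1) := by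
    intro Y E'' z hz
    refine vanW_of_dim_lt (convIdeal 𝒜 mR) Y (n + 1) ?_ E'' z hz
    rw [hn]
    exact_mod_cast Nat.lt_succ_self n
  exact exists_dual_equiv (k := k) (convIdeal 𝒜 mR) (selfRes 𝒜 I) n 𝒦 βK
    (X := toGMod 𝒜 ℳ) (convRes 𝒜 ℳ EM) 𝒟 βD hK hD hV

end Groth.Agent.Lib.R2H7.GrLocDualConv
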