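/-
The *canonical module of the weighted polynomial ring `P = k[X_1, …, X_N]`, `deg X_i = w_i > 0`,
is `P(-(w_1 + ⋯ + w_N))`.  The statement's data over the grading by `k`-subspaces are converted
to the grading by additive subgroups (`R2H7GrBdry.toAS`): *locality, the *injective envelope and
the *canonical module predicate transfer verbatim, and then the socle package of `H^N_m(P)`
(`R2H7GrWPoly.pack_self`) is fed into `R2H7GrGorCan.exists_equiv_shift`.
-/
import Mathlib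
import Groth.Agent.Lib.R2H7GrWPoly
import Groth.Agent.Lib.R2H7GrGorCan
import Groth.Agent.Lib.R2H7GrHt

set_option autoImplicit false
open DirectSum

noncomputable section

namespace Groth.Agent.Lib.R2H7.GrWPolyCan

open Groth.Agent.Lib.R2H7.GrBdry Groth.Agent.Lib.R2H7.GrWPoly Groth.Agent.Lib.R2H7.GrGorCan

universe u

/-! ### Conversion of the hypotheses to a grading by additive subgroups -/

section conv

variable {ι : Type} [AddCommGroup ι] [DecidableEq ι]
variable {R : Type u} [CommRing R] {σ : Type u} [SetLike σ R] [AddSubgroupClass σ R]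
  (𝒜₀ : ι → σ) [GradedRing 𝒜₀]

/-- Convert a homogeneous ideal back. -/
def unconvIdeal (b : HomogeneousIdeal (toAS 𝒜₀)) : HomogeneousIdeal 𝒜₀ :=
  ⟨b.toIdeal, fun i r hr => by
    have h := b.isHomogeneous i hr
    rw [coe_decompose_toAS] at h
    exact h⟩

/-- The two lattices of homogeneous ideals are the same. -/
def idealIso : HomogeneousIdeal 𝒜₀ ≃o HomogeneousIdeal (toAS 𝒜₀) where
  toFun := convIdeal 𝒜₀
  invFun := unconvIdeal 𝒜₀
  left_inv _ := HomogeneousIdeal.toIdeal_injective rfl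
  right_inv _ := HomogeneousIdeal.toIdeal_injective rfl
  map_rel_iff' := Iff.rfl

theorem isStarLocal_conv (m : HomogeneousIdeal 𝒜₀) (hm : GrLC.IsStarLocal 𝒜₀ m) :
    GrLC.IsStarLocal (toAS 𝒜₀) (convIdeal 𝒜₀ m) := by
  refine ⟨((idealIso 𝒜₀).isCoatom_iff m).mpr hm.1, fun n hn => ?_⟩
  have h1 : IsCoatom ((idealIso 𝒜₀).symm n) := ((idealIso 𝒜₀).symm.isCoatom_iff n).mpr hn
  have h2 := hm.2 _ h1
  rw [← h2]
  exact ((idealIso 𝒜₀).apply_symm_apply n).symm

variable {E' : Type u} [AddCommGroup E'] [Module R E'] (𝓔 : ι → AddSubgroup E')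

theorem gsmul_conv [SetLike.GradedSMul 𝒜₀ 𝓔] : SetLike.GradedSMul (toAS 𝒜₀) 𝓔 :=
  ⟨by
    intro i j r x hr hx
    exact SetLike.GradedSMul.smul_mem (A := 𝒜₀) (B := 𝓔) hr hx⟩

theorem isStarInjHull_conv [DirectSum.Decomposition 𝓔] [SetLike.GradedSMul 𝒜₀ 𝓔]
    [SetLike.GradedSMul (toAS 𝒜₀) 𝓔] (m : HomogeneousIdeal 𝒜₀)
    (e : (R ⧸ m.toIdeal) →ₗ[R] E')
    (he : GrLC.IsStarInjHull 𝒜₀ (GrLC.quotGr 𝒜₀ m) 𝓔 e) :
    GrLC.IsStarInjHull (toAS 𝒜₀) (GrLC.quotGr (toAS 𝒜₀) (convIdeal 𝒜₀ m)) 𝓔 e := by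
  refine { injective := he.injective, grHom := ?_, essential := he.essential, starInj := ?_ }
  · rintro g x ⟨r, hr, rfl⟩
    exact he.grHom g _ ⟨r, hr, rfl⟩
  · intro A B f hf hfi g hg
    exact he.starInj (unconvG 𝒜₀ A) (unconvG 𝒜₀ B) f hf hfi g hg

variable {C : Type u} [AddCommGroup C] [Module R C] (𝒞 : ι → AddSubgroup C)

theorem isStarCanonical_conv [DirectSum.Decomposition 𝒞] [SetLike.GradedSMul 𝒜₀ 𝒞]
    [SetLike.GradedSMul (toAS 𝒜₀) 𝒞] [DirectSum.Decomposition 𝓔] [SetLike.GradedSMul 𝒜₀ 𝓔]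
    [SetLike.GradedSMul (toAS 𝒜₀) 𝓔] (m : HomogeneousIdeal 𝒜₀) (n : ℕ)
    (I : GrLC.StarInjRes 𝒜₀ 𝒜₀) (hC : GrLC.IsStarCanonical 𝒜₀ 𝒞 𝓔 m n I) :
    GrLC.IsStarCanonical (toAS 𝒜₀) 𝒞 𝓔 (convIdeal 𝒜₀ m) n (convRes 𝒜₀ 𝒜₀ I) := by
  obtain ⟨hfin, φ, hφ⟩ := hC
  refine ⟨hfin, φ, ?_⟩
  intro d f hf
  obtain ⟨z, hz, hzeq⟩ := hφ d f hf
  exact ⟨z, hz, hzeq⟩

end conv

/-! ### The theorem -/

theorem exists_shift_equiv (k : Type u) [Field k] (N : ℕ) (w : Fin N → ℤ) (hw : ∀ i, 0 < w i)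
    [GradedRing (MvPolynomial.weightedHomogeneousSubmodule k w)]
    (m : HomogeneousIdeal (MvPolynomial.weightedHomogeneousSubmodule k w))
    (hm : GrLC.IsStarLocal (MvPolynomial.weightedHomogeneousSubmodule k w) m)
    (hmsp : m.toIdeal = Ideal.span (⋃ n ∈ Set.Ioi (0 : ℤ),
      (MvPolynomial.weightedHomogeneousSubmodule k w n : Set (MvPolynomial (Fin N) k))))
    (I : GrLC.StarInjRes (MvPolynomial.weightedHomogeneousSubmodule k w)
      (MvPolynomial.weightedHomogeneousSubmodule k w))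
    {E' : Type u} [AddCommGroup E'] [Module (MvPolynomial (Fin N) k) E']
    (𝓔 : ℤ → AddSubgroup E') [DirectSum.Decomposition 𝓔]
    [SetLike.GradedSMul (MvPolynomial.weightedHomogeneousSubmodule k w) 𝓔]
    (e : (MvPolynomial (Fin N) k ⧸ m.toIdeal) →ₗ[MvPolynomial (Fin N) k] E')
    (he : GrLC.IsStarInjHull (MvPolynomial.weightedHomogeneousSubmodule k w)
      (GrLC.quotGr (MvPolynomial.weightedHomogeneousSubmodule k w) m) 𝓔 e)
    {C : Type u} [AddCommGroup C] [Module (MvPolynomial (Fin N) k) C]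
    (𝒞 : ℤ → AddSubgroup C) [DirectSum.Decomposition 𝒞]
    [SetLike.GradedSMul (MvPolynomial.weightedHomogeneousSubmodule k w) 𝒞]
    (hC : GrLC.IsStarCanonical (MvPolynomial.weightedHomogeneousSubmodule k w) 𝒞 𝓔 m N I) :
    ∃ f : MvPolynomial (Fin N) k →ₗ[MvPolynomial (Fin N) k] C, Function.Bijective f ∧
      GrLC.IsGrHomDeg (MvPolynomial.weightedHomogeneousSubmodule k w) 𝒞 f
        ((Finset.univ : Finset (Fin N)).sum w) := by
  have h𝓔 : SetLike.GradedSMul (toAS (MvPolynomial.weightedHomogeneousSubmodule k w)) 𝓔 :=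
    gsmul_conv _ 𝓔
  have h𝒞 : SetLike.GradedSMul (toAS (MvPolynomial.weightedHomogeneousSubmodule k w)) 𝒞 :=
    gsmul_conv _ 𝒞
  have hm' := isStarLocal_conv (MvPolynomial.weightedHomogeneousSubmodule k w) m hm
  have hmsp' : (convIdeal (MvPolynomial.weightedHomogeneousSubmodule k w) m).toIdeal =
      Ideal.span (⋃ n ∈ Set.Ioi (0 : ℤ),
        (toAS (MvPolynomial.weightedHomogeneousSubmodule k w) n :
          Set (MvPolynomial (Fin N) k))) := hmsp
  have hne : (1 : MvPolynomial (Fin N) k) ∉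
      (convIdeal (MvPolynomial.weightedHomogeneousSubmodule k w) m).toIdeal := by
    intro h1
    exact Groth.Agent.Lib.R2H7.GrHt.toIdeal_ne_top _ _ hm'.1 ((Ideal.eq_top_iff_one _).mpr h1)
  have hn : ringKrullDim (MvPolynomial (Fin N) k) = (N : WithBot ℕ∞) := by
    rw [MvPolynomial.ringKrullDim_of_isNoetherianRing, ringKrullDim_eq_zero_of_field]
    simp
  have hP := pack_self k N w (convIdeal (MvPolynomial.weightedHomogeneousSubmodule k w) m)
    hw hmsp' hne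
  obtain ⟨f, hfb, hfd⟩ := exists_equiv_shift (hpos k N w hw) (isField_deg0 k N w hw)
    (convIdeal (MvPolynomial.weightedHomogeneousSubmodule k w) m) hm' hmsp' N hn
    (convRes (MvPolynomial.weightedHomogeneousSubmodule k w)
      (MvPolynomial.weightedHomogeneousSubmodule k w) I) (∑ i, w i) hP 𝓔 e
    (isStarInjHull_conv (MvPolynomial.weightedHomogeneousSubmodule k w) 𝓔 m e he) 𝒞
    (isStarCanonical_conv (MvPolynomial.weightedHomogeneousSubmodule k w) 𝓔 𝒞 m N I hC)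
  exact ⟨f, hfb, fun g r hr => hfd g r hr⟩

end Groth.Agent.Lib.R2H7.GrWPolyCan
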