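/-
For a standard graded ring `R` of dimension `n ≥ 2` over a field `k = R_0`, no piece of
`H = H^n_m(R)` in a degree `g < a(R)` is spanned by a single element.  (The argument is the one
of `GrCanTwo.two_le_finrank_comp`, stated for the local cohomology itself.)
-/
import Mathlib
import Groth.Agent.Lib.R2H7GrCanTwo

set_option autoImplicit false
open DirectSum

noncomputable section

namespace Groth.Agent.Lib.R2H7.GrNoCyc

open Groth.Agent.Lib.R2H7.GrDer Groth.Agent.Lib.R2H7.GrOps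
  Groth.Agent.Lib.R2H7.GrTors Groth.Agent.Lib.R2H7.GrGen Groth.Agent.Lib.R2H7.GrTop
  Groth.Agent.Lib.R2H7.GrBdry Groth.Agent.Lib.R2H7.GrFin Groth.Agent.Lib.R2H7.GrCanFin
  Groth.Agent.Lib.R2H7.GrCanTwo

universe u

variable {R : Type u} [CommRing R] {𝒜 : ℤ → AddSubgroup R} [GradedRing 𝒜] [IsNoetherianRing R]

theorem not_cyclic_of_lt
    (hpos : ∀ n : ℤ, n < 0 → 𝒜 n = ⊥) (h0 : IsField (GrLC.deg0 𝒜))
    (m : HomogeneousIdeal 𝒜)
    (hmsp : m.toIdeal = Ideal.span (⋃ n ∈ Set.Ioi (0 : ℤ), (𝒜 n : Set R)))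
    (hstd : Ideal.span (⋃ n ∈ Set.Ioi (0 : ℤ), (𝒜 n : Set R)) =
      Ideal.span ((𝒜 1 : AddSubgroup R) : Set R))
    (n : ℕ) (hn : ringKrullDim R = (n : WithBot ℕ∞)) (h2 : 2 ≤ n) (I : GrLC.StarInjRes 𝒜 𝒜) (a : ℤ)
    (ha : GrLC.endDeg (I.Hgr m n) = ((a : WithTop ℤ) : WithBot (WithTop ℤ)))
    (g : ℤ) (hg : g < a) (v : I.H m n) (hv : v ∈ I.Hgr m n g)
    (hmul : ∀ η ∈ I.Hgr m n g, ∃ c : GrLC.deg0 𝒜, η = (c : R) • v) : False := by
  classical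
  let _ : Field (GrLC.deg0 𝒜) := h0.toField
  have hhom : m.toIdeal = Ideal.span ((𝒜 1 : AddSubgroup R) : Set R) := hmsp.trans hstd
  have hgen : ∀ s : ℤ, 0 < s → ∀ r ∈ 𝒜 s, r ∈ Ideal.span ((𝒜 1 : AddSubgroup R) : Set R) := by
    intro s hs r hr
    rw [← hstd]
    exact Ideal.subset_span (Set.mem_iUnion₂.mpr ⟨s, hs, hr⟩)
  have hdimJ : ∀ (L : Set R) (t₀ : R), (∀ x ∈ 𝒜 1, ∃ α ∈ 𝒜 0, x - α * t₀ ∈ Ideal.span L) →
      Module.supportDim R (R ⧸ Ideal.span L) < (n : WithBot ℕ∞) := by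
    intro L t₀ hL
    rw [Module.supportDim_quotient_eq_ringKrullDim]
    refine lt_of_le_of_lt (ringKrullDim_quot_le_one hpos h0 hgen L t₀ hL) ?_
    exact_mod_cast (show 1 < n by omega)
  have hclos : ∀ (L : Set R) (t₀ : R), (∀ y ∈ L, y ∈ 𝒜 1) →
      (∀ x ∈ 𝒜 1, ∃ α ∈ 𝒜 0, x - α * t₀ ∈ Ideal.span L) →
      ∀ ξ ∈ I.Hgr m n (g + 1),
        ξ ∈ AddSubgroup.closure {x : I.H m n | ∃ y ∈ L, ∃ η ∈ I.Hgr m n g, x = y • η} := by
    intro L t₀ hL1 hL ξ hξ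
    have hJhom : (Ideal.span L).IsHomogeneous 𝒜 :=
      Ideal.homogeneous_span 𝒜 L (fun x hx => ⟨1, hL1 x hx⟩)
    have htop := smul_top_eq_top m I n hn (Ideal.span L) hJhom (hdimJ L t₀ hL)
    exact mem_closure_of_smul_top (I.Hgr m n) L hL1 htop g hξ
  have hne : I.Hgr m n (g + 1) ≠ ⊥ :=
    hgr_ne_bot_of_le m hhom n (by omega) hn I a ha (g + 1) (by omega)
  obtain ⟨ξ, hξ, hξ0⟩ : ∃ ξ ∈ I.Hgr m n (g + 1), ξ ≠ 0 := by
    by_contra hcon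
    apply hne
    rw [AddSubgroup.eq_bot_iff_forall]
    intro x hx
    by_contra hx0
    exact hcon ⟨x, hx, hx0⟩
  have ht₀ : ∃ t₀ ∈ 𝒜 1, t₀ • v ≠ 0 := by
    by_contra hcon
    have hall : ∀ t ∈ 𝒜 1, t • v = 0 := by
      intro t ht
      by_contra h
      exact hcon ⟨t, ht, h⟩
    apply hξ0
    have hmem := hclos ((𝒜 1 : AddSubgroup R) : Set R) 0 (fun y hy => hy)
      (fun x hx => ⟨0, zero_mem _, by rw [zero_mul, sub_zero]; exact Ideal.subset_span hx⟩) ξ hξ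
    have hle' : AddSubgroup.closure {x : I.H m n | ∃ y ∈ ((𝒜 1 : AddSubgroup R) : Set R),
        ∃ η ∈ I.Hgr m n g, x = y • η} ≤ ⊥ := by
      rw [AddSubgroup.closure_le]
      rintro x ⟨y, hy, η, hη, rfl⟩
      obtain ⟨c, rfl⟩ := hmul η hη
      rw [SetLike.mem_coe, AddSubgroup.mem_bot, smul_comm, hall y hy, smul_zero]
    exact AddSubgroup.mem_bot.mp (hle' hmem)
  obtain ⟨t₀, ht₀, ht₀v⟩ := ht₀
  obtain ⟨c₀, hc₀⟩ := Module.Projective.exists_dual_ne_zero (GrLC.deg0 𝒜) ht₀v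
  let L : Set R := {x | x ∈ 𝒜 1 ∧ c₀ (x • v) = 0}
  have hL1 : ∀ y ∈ L, y ∈ 𝒜 1 := fun y hy => hy.1
  have hL : ∀ x ∈ 𝒜 1, ∃ α ∈ 𝒜 0, x - α * t₀ ∈ Ideal.span L := by
    intro x hx
    let α : GrLC.deg0 𝒜 := c₀ (x • v) / c₀ (t₀ • v)
    refine ⟨(α : R), α.2, Ideal.subset_span ⟨?_, ?_⟩⟩
    · refine sub_mem hx ?_
      have hmul' := SetLike.mul_mem_graded (A := 𝒜) (show (α : R) ∈ 𝒜 0 from α.2) ht₀
      rwa [zero_add] at hmul'
    · rw [sub_smul, map_sub, mul_smul]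
      have h1 : c₀ ((α : R) • (t₀ • v)) = α * c₀ (t₀ • v) := by
        have h2 : (α : R) • (t₀ • v) = α • (t₀ • v) := rfl
        rw [h2, map_smul, smul_eq_mul]
      rw [h1]
      show c₀ (x • v) - (c₀ (x • v) / c₀ (t₀ • v)) * c₀ (t₀ • v) = 0
      rw [div_mul_cancel₀ _ hc₀, sub_self]
  have hmemv : t₀ • v ∈ I.Hgr m n (g + 1) := by
    rw [add_comm]
    exact smul_mem_hgr I m n ht₀ hv
  have hmem := hclos L t₀ hL1 hL (t₀ • v) hmemv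
  have hker : AddSubgroup.closure {x : I.H m n | ∃ y ∈ L, ∃ η ∈ I.Hgr m n g, x = y • η} ≤
      (c₀.toAddMonoidHom).ker := by
    rw [AddSubgroup.closure_le]
    rintro x ⟨y, hy, η, hη, rfl⟩
    obtain ⟨c, rfl⟩ := hmul η hη
    rw [SetLike.mem_coe, AddMonoidHom.mem_ker]
    show c₀ (y • ((c : R) • v)) = 0
    rw [smul_comm]
    have h2 : (c : R) • (y • v) = c • (y • v) := rfl
    rw [h2, map_smul, hy.2, smul_zero]
  exact hc₀ (AddMonoidHom.mem_ker.mp (hker hmem))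

end Groth.Agent.Lib.R2H7.GrNoCyc
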