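/-
Linear algebra for the Künneth formula, part 5: the count of `R2H7KunLA4.finrank_sup` in a degree
where the cohomologies of the two torsion subcomplexes vanish (in that degree and the next one),
without any hypothesis in cohomological degree zero.
-/
import Mathlib
import Groth.Agent.Lib.R2H7KunLA4

set_option autoImplicit false
open DirectSum TensorProduct

noncomputable section

namespace Groth.Agent.Lib.R2H7.KunLA5

open Groth.Agent.Lib.R2H7.KunLA1 Groth.Agent.Lib.R2H7.KunLA2 Groth.Agent.Lib.R2H7.KunLA3
  Groth.Agent.Lib.R2H7.KunLA4 GCpx GCpxS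

universe u v w

variable {k : Type u} [Field k]
variable {V : Type v} [AddCommGroup V] [Module k V] {W : Type w} [AddCommGroup W] [Module k W]
  {Γ : Type} [DecidableEq Γ] {C : GCpx k V Γ} {C' : GCpx k W Γ}

/-- Cocycles of the intersection bound in both subcomplexes as soon as the two subcomplexes have
no cohomology in that degree. -/
theorem alpha_of_subsingleton (n : ℕ) (g : Γ) (h1 : Subsingleton (HT C C'.full n g))
    (h2 : Subsingleton (HT C.full C' n g)) : ∀ c ∈ TX C C' n g, DD C C' c = 0 →
      c ∈ (TXprev C C'.full n g).map (DD C C') ∧ c ∈ (TXprev C.full C' n g).map (DD C C') := by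
  intro c hc hd
  constructor
  · have hc' : c ∈ TX C C'.full n g := TX_le_left n g hc
    have h0 : HQ.mk (DD C C'.full) (TXprev C C'.full n g) (TX C C'.full n g) c hc' hd = 0 :=
      Subsingleton.elim _ _
    exact HQ.mk_eq_zero.mp h0
  · have hc' : c ∈ TX C.full C' n g := TX_le_right n g hc
    have h0 : HQ.mk (DD C.full C') (TXprev C.full C' n g) (TX C.full C' n g) c hc' hd = 0 :=
      Subsingleton.elim _ _
    exact HQ.mk_eq_zero.mp h0

/-- The dimension of the cohomology of `V' ⊗ W + V ⊗ W'` in a degree where `V'` and `W'` have no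
cohomology (in that degree and the next one). -/
theorem finrank_sup_of_vanish (hex : IsExact C) (hex' : IsExact C')
    (g : Γ) (hfin : ∀ p, Module.Finite k (C.H p g)) (hfin' : ∀ q, Module.Finite k (C'.H q g))
    (hfin0 : Module.Finite k (C.full.H 0 g)) (hfin0' : Module.Finite k (C'.full.H 0 g))
    (n : ℕ) (hv : Module.finrank k (C.H n g) = 0) (hv' : Module.finrank k (C'.H n g) = 0)
    (hv1 : Module.finrank k (C.H (n + 1) g) = 0)
    (hv1' : Module.finrank k (C'.H (n + 1) g) = 0) :
    Module.finrank k (HQ (DD C C') (TXprev C C'.full n g ⊔ TXprev C.full C' n g)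
        (TX C C'.full n g ⊔ TX C.full C' n g)) =
        ∑ i ∈ Finset.range (n + 2),
          Module.finrank k (C.H i g) * Module.finrank k (C'.H (n + 1 - i) g) := by
  have hfinF : ∀ p, Module.Finite k (C.full.H p g) := by
    intro p
    cases p with
    | zero => exact hfin0
    | succ p =>
      haveI := subsingleton_H_full hex p g
      infer_instance
  have hfinF' : ∀ q, Module.Finite k (C'.full.H q g) := by
    intro q
    cases q with
    | zero => exact hfin0'
    | succ q =>
      haveI := subsingleton_H_full hex' q g
      infer_instance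
  -- the two subcomplexes have no cohomology in degrees `m = n, n + 1`
  have hL : ∀ m, Module.finrank k (C.H m g) = 0 →
      Module.finrank k (HQ (DD C C') (TXprev C C'.full m g) (TX C C'.full m g)) = 0 := by
    intro m hm
    have this : Module.finrank k (HQ (DD C C') (TXprev C C'.full m g) (TX C C'.full m g)) =
        ∑ i ∈ Finset.range (m + 1),
          Module.finrank k (C.H i g) * Module.finrank k (C'.full.H (m - i) g) :=
      finrank_HT (C := C) (C' := C'.full) m g hfin hfinF'
    rw [this]
    refine Finset.sum_eq_zero fun i hi => ?_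
    by_cases him : i = m
    · rw [him, hm, zero_mul]
    · have hlt : i < m := by
        have := Finset.mem_range.mp hi
        omega
      obtain ⟨j, hj⟩ : ∃ j, m - i = j + 1 := ⟨m - i - 1, by omega⟩
      rw [hj, finrank_H_full_succ hex' j g, mul_zero]
  have hR : ∀ m, Module.finrank k (C'.H m g) = 0 →
      Module.finrank k (HQ (DD C C') (TXprev C.full C' m g) (TX C.full C' m g)) = 0 := by
    intro m hm
    have this : Module.finrank k (HQ (DD C C') (TXprev C.full C' m g) (TX C.full C' m g)) =
        ∑ i ∈ Finset.range (m + 1),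
          Module.finrank k (C.full.H i g) * Module.finrank k (C'.H (m - i) g) :=
      finrank_HT (C := C.full) (C' := C') m g hfinF hfin'
    rw [this]
    refine Finset.sum_eq_zero fun i _ => ?_
    by_cases hi0 : i = 0
    · rw [hi0, Nat.sub_zero, hm, mul_zero]
    · obtain ⟨j, hj⟩ : ∃ j, i = j + 1 := ⟨i - 1, by omega⟩
      rw [hj, finrank_H_full_succ hex j g, zero_mul]
  have hsL : ∀ m, Module.finrank k (C.H m g) = 0 →
      Subsingleton (HQ (DD C C') (TXprev C C'.full m g) (TX C C'.full m g)) := by
    intro m hm
    haveI : Module.Finite k (HQ (DD C C') (TXprev C C'.full m g) (TX C C'.full m g)) :=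
      finite_HT (C := C) (C' := C'.full) m g hfin hfinF'
    exact (Module.finrank_eq_zero_iff_of_free k
      (HQ (DD C C') (TXprev C C'.full m g) (TX C C'.full m g))).mp (hL m hm)
  have hsR : ∀ m, Module.finrank k (C'.H m g) = 0 →
      Subsingleton (HQ (DD C C') (TXprev C.full C' m g) (TX C.full C' m g)) := by
    intro m hm
    haveI : Module.Finite k (HQ (DD C C') (TXprev C.full C' m g) (TX C.full C' m g)) :=
      finite_HT (C := C.full) (C' := C') m g hfinF hfin'
    exact (Module.finrank_eq_zero_iff_of_free k
      (HQ (DD C C') (TXprev C.full C' m g) (TX C.full C' m g))).mp (hR m hm)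
  haveI : Module.Finite k (HQ (DD C C') (TXprev C C'.full n g) (TX C C'.full n g)) :=
    finite_HT (C := C) (C' := C'.full) n g hfin hfinF'
  haveI : Module.Finite k (HQ (DD C C') (TXprev C.full C' n g) (TX C.full C' n g)) :=
    finite_HT (C := C.full) (C' := C') n g hfinF hfin'
  haveI : Module.Finite k (HQ (DD C C') (TX C C'.full n g ⊓ TX C.full C' n g)
      (TX C C'.full (n + 1) g ⊓ TX C.full C' (n + 1) g)) := by
    rw [TX_inf, TX_inf]
    exact finite_HT (C := C) (C' := C') (n + 1) g hfin hfin'
  have hMV := finrank_MV (DD C C') (DD_DD C C')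
    (TXprev C C'.full n g) (TX C C'.full n g) (TX C C'.full (n + 1) g)
    (TXprev C.full C' n g) (TX C.full C' n g) (TX C.full C' (n + 1) g) (PP C C'.full)
    (by
      intro x hx
      cases n with
      | zero =>
        have : x = 0 := (Submodule.mem_bot k).mp hx
        rw [this, map_zero]; exact zero_mem _
      | succ n => exact DD_TX (C := C) (C' := C'.full) hx)
    (fun x hx => DD_TX (C := C) (C' := C'.full) hx)
    (by
      intro x hx
      cases n with
      | zero =>
        have : x = 0 := (Submodule.mem_bot k).mp hx
        rw [this, map_zero]; exact zero_mem _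
      | succ n => exact DD_TX (C := C.full) (C' := C') hx)
    (fun x hx => DD_TX (C := C.full) (C' := C') hx)
    (hP_main n g)
    (by
      intro c hc hd
      rw [TX_inf] at hc
      exact alpha_of_subsingleton n g (hsL n hv) (hsR n hv') c hc hd)
    (by
      intro c hc hd
      rw [TX_inf] at hc
      exact alpha_of_subsingleton (n + 1) g (hsL (n + 1) hv1) (hsR (n + 1) hv1') c hc hd)
  rw [hMV, hL n hv, hR n hv', zero_add, zero_add, TX_inf, TX_inf]
  exact finrank_HT (C := C) (C' := C') (n + 1) g hfin hfin'

end Groth.Agent.Lib.R2H7.KunLA5
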