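/-
The Künneth formula for the graded local cohomology of a Segre product in a degree `q` where the
`q`-th and `(q+1)`-st local cohomologies of both factors vanish (for instance above the
dimensions): `dim H^q(M # N)_g = Σ_{i+j=q+1} dim H^i(M)_g · dim H^j(N)_g`, with no hypothesis on
the depths of the factors.
-/
import Mathlib
import Groth.Agent.Lib.R2H7KunLA5
import Groth.Agent.Lib.R2H7SegConv

set_option autoImplicit false
open DirectSum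
open scoped TensorProduct

noncomputable section

namespace Groth.Agent.Lib.R2H7.SegTop

open Groth.Agent.Lib.Helper29GrEss Groth.Agent.Lib.Helper29GrHom Groth.Agent.Lib.Helper29GrGam
  Groth.Agent.Lib.R2H7.GrBdry Groth.Agent.Lib.R2H7.GrDer Groth.Agent.Lib.R2H7.GrH
  Groth.Agent.Lib.R2H7.GrTors Groth.Agent.Lib.R2H7.GrAcyc
  Groth.Agent.Lib.R2H7.SegPres Groth.Agent.Lib.R2H7.SegSpecial Groth.Agent.Lib.R2H7.SegIdem
  Groth.Agent.Lib.R2H7.SegTors Groth.Agent.Lib.R2H7.SegSum Groth.Agent.Lib.R2H7.SegAcyc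
  Groth.Agent.Lib.R2H7.SegBridge Groth.Agent.Lib.R2H7.KunLA1 Groth.Agent.Lib.R2H7.KunLA2
  Groth.Agent.Lib.R2H7.KunLA3 Groth.Agent.Lib.R2H7.KunLA4 Groth.Agent.Lib.R2H7.KunLA5
  Groth.Agent.Lib.R2H7.SegTotR
  Groth.Agent.Lib.R2H7.SegTotRB Groth.Agent.Lib.R2H7.SegTotT Groth.Agent.Lib.R2H7.SegTotG
  Groth.Agent.Lib.R2H7.SegMain Groth.Agent.Lib.R2H7.SegFinal Groth.Agent.Lib.R2H7.SegConv
  Groth.Agent.Lib.R2H7.GrFin Groth.Agent.Lib.R2H7.GrSerre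

universe u

section special

variable {k : Type u} [Field k] {R S T : Type u} [CommRing R] [CommRing S] [CommRing T]
  [Algebra k R] [Algebra k S] [Algebra k T]
variable {𝒜 : ℤ → AddSubgroup R} [GradedRing 𝒜] {ℬ : ℤ → AddSubgroup S} [GradedRing ℬ]
  {𝒯 : ℤ → AddSubgroup T} [GradedRing 𝒯] {ψ : T →ₐ[k] R ⊗[k] S}
variable {M : GrLC.GMod.{u} 𝒜} {N : GrLC.GMod.{u} ℬ}
  [Module k M.carrier] [IsScalarTower k R M.carrier]
  [Module k N.carrier] [IsScalarTower k S N.carrier]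
variable (E : GrLC.StarInjRes 𝒜 M.gr) (E' : GrLC.StarInjRes ℬ N.gr)
variable (hψ : SegCtx 𝒜 ℬ 𝒯 ψ) {pR : SpParam 𝒜} {pS : SpParam ℬ}
  (str : ∀ n, SpStr pR (E.X n)) (str' : ∀ n, SpStr pS (E'.X n))
variable (mT : HomogeneousIdeal 𝒯)
  (hmT : mT.toIdeal = Ideal.span (⋃ n ∈ Set.Ioi (0 : ℤ), (𝒯 n : Set T)))
  (hmR : ∀ j : ℤ, 0 < j → ∀ r ∈ 𝒜 j, r ∈ pR.a.toIdeal)
  (hmS : ∀ j : ℤ, 0 < j → ∀ r ∈ ℬ j, r ∈ pS.a.toIdeal)
  (hD : pS.D = pR.D) (hDpos : 0 < pR.D)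
variable (hkT : ∀ c : k, algebraMap k T c ∈ 𝒯 0)
  (h0T : ∀ r ∈ 𝒯 0, ∃ c : k, algebraMap k T c = r) (hinjT : Function.Injective (algebraMap k T))
variable (h0R : ∀ r ∈ 𝒜 0, ∃ c : k, algebraMap k R c = r)
  (hinjR : Function.Injective (algebraMap k R))
  (h0S : ∀ r ∈ ℬ 0, ∃ c : k, algebraMap k S c = r)
  (hinjS : Function.Injective (algebraMap k S))

include str str' hmT hmR hmS hD hDpos hkT h0T hinjT h0R hinjR h0S hinjS in
/-- The Künneth formula for special resolutions of the factors, in a degree where the local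
cohomologies of the factors vanish. -/
theorem main_AS_top [IsNoetherianRing T]
    (F : GrLC.StarInjRes 𝒯 (segG M N hψ).gr) (q : ℕ) (g : ℤ)
    (hfR : ∀ i, Module.Finite (GrLC.deg0 𝒜) (Hg pR.a E i g))
    (hfS : ∀ i, Module.Finite (GrLC.deg0 ℬ) (Hg pS.a E' i g))
    (hfR0 : Module.Finite (GrLC.deg0 𝒜) (GrLC.comp 𝒜 M.gr g))
    (hfS0 : Module.Finite (GrLC.deg0 ℬ) (GrLC.comp ℬ N.gr g))
    (hv : Module.finrank (GrLC.deg0 𝒜) (Hg pR.a E q g) = 0)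
    (hv' : Module.finrank (GrLC.deg0 ℬ) (Hg pS.a E' q g) = 0)
    (hv1 : Module.finrank (GrLC.deg0 𝒜) (Hg pR.a E (q + 1) g) = 0)
    (hv1' : Module.finrank (GrLC.deg0 ℬ) (Hg pS.a E' (q + 1) g) = 0) :
    Module.finrank (GrLC.deg0 𝒯) (Hg mT F q g) =
        ∑ i ∈ Finset.range (q + 2),
          Module.finrank (GrLC.deg0 𝒜) (Hg pR.a E i g) *
            Module.finrank (GrLC.deg0 ℬ) (Hg pS.a E' (q + 1 - i) g) := by
  have hT := finrank_Hg_T E E' hψ str str' mT hmT hmR hmS hD hDpos hkT h0T hinjT F q g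
  have e1 := fun i => (finrank_Hg hψ.k𝒜 h0R hinjR E str i g).1
  have e2 := fun i => (finrank_Hg hψ.kℬ h0S hinjS E' str' i g).1
  have hsup := finrank_sup_of_vanish (isExact_cpx hψ.k𝒜 E str) (isExact_cpx hψ.kℬ E' str') g
    (fun p => (finrank_Hg hψ.k𝒜 h0R hinjR E str p g).2 (hfR p))
    (fun p => (finrank_Hg hψ.kℬ h0S hinjS E' str' p g).2 (hfS p))
    ((finrank_comp hψ.k𝒜 h0R hinjR E str g).2 hfR0)
    ((finrank_comp hψ.kℬ h0S hinjS E' str' g).2 hfS0) q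
    (by rw [← e1 q]; exact hv) (by rw [← e2 q]; exact hv')
    (by rw [← e1 (q + 1)]; exact hv1) (by rw [← e2 (q + 1)]; exact hv1')
  rw [hT]
  refine hsup.trans ?_
  refine Finset.sum_congr rfl fun i _ => ?_
  rw [e1 i, e2 (q + 1 - i)]

end special

section AS

variable {k : Type u} [Field k] {R S T : Type u} [CommRing R] [CommRing S] [CommRing T]
  [Algebra k R] [Algebra k S] [Algebra k T]
variable {𝒜 : ℤ → AddSubgroup R} [GradedRing 𝒜] {ℬ : ℤ → AddSubgroup S} [GradedRing ℬ]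
  {𝒯 : ℤ → AddSubgroup T} [GradedRing 𝒯] {ψ : T →ₐ[k] R ⊗[k] S}

/-- The Künneth formula in a degree where the local cohomologies of the factors vanish. -/
theorem kunneth_AS_top (hψ : SegCtx 𝒜 ℬ 𝒯 ψ) [IsNoetherianRing R] [IsNoetherianRing S]
    [IsNoetherianRing T]
    (hposR : ∀ n : ℤ, n < 0 → 𝒜 n = ⊥) (hposS : ∀ n : ℤ, n < 0 → ℬ n = ⊥)
    (h0R : ∀ r ∈ 𝒜 0, ∃ c : k, algebraMap k R c = r)
    (hinjR : Function.Injective (algebraMap k R))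
    (h0S : ∀ r ∈ ℬ 0, ∃ c : k, algebraMap k S c = r)
    (hinjS : Function.Injective (algebraMap k S))
    (hkT : ∀ c : k, algebraMap k T c ∈ 𝒯 0)
    (h0T : ∀ r ∈ 𝒯 0, ∃ c : k, algebraMap k T c = r)
    (hinjT : Function.Injective (algebraMap k T))
    (mR : HomogeneousIdeal 𝒜)
    (hmR : mR.toIdeal = Ideal.span (⋃ n ∈ Set.Ioi (0 : ℤ), (𝒜 n : Set R)))
    (mS : HomogeneousIdeal ℬ)
    (hmS : mS.toIdeal = Ideal.span (⋃ n ∈ Set.Ioi (0 : ℤ), (ℬ n : Set S)))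
    (mT : HomogeneousIdeal 𝒯)
    (hmT : mT.toIdeal = Ideal.span (⋃ n ∈ Set.Ioi (0 : ℤ), (𝒯 n : Set T)))
    (M : GrLC.GMod.{u} 𝒜) (N : GrLC.GMod.{u} ℬ)
    [Module k M.carrier] [IsScalarTower k R M.carrier]
    [Module k N.carrier] [IsScalarTower k S N.carrier]
    [Module.Finite R M.carrier] [Module.Finite S N.carrier]
    (EM : GrLC.StarInjRes 𝒜 M.gr) (EN : GrLC.StarInjRes ℬ N.gr)
    (F : GrLC.StarInjRes 𝒯 (segG M N hψ).gr) (q : ℕ) (g : ℤ)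
    (hv : Module.finrank (GrLC.deg0 𝒜) (Hg mR EM q g) = 0)
    (hv' : Module.finrank (GrLC.deg0 ℬ) (Hg mS EN q g) = 0)
    (hv1 : Module.finrank (GrLC.deg0 𝒜) (Hg mR EM (q + 1) g) = 0)
    (hv1' : Module.finrank (GrLC.deg0 ℬ) (Hg mS EN (q + 1) g) = 0) :
    Module.finrank (GrLC.deg0 𝒯) (Hg mT F q g) =
        ∑ i ∈ Finset.range (q + 2),
          Module.finrank (GrLC.deg0 𝒜) (Hg mR EM i g) *
            Module.finrank (GrLC.deg0 ℬ) (Hg mS EN (q + 1 - i) g) := by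
  obtain ⟨pR, pS, hpR, hpS, hD, hDpos⟩ := exists_common_params mR hmR mS hmS
  subst hpR hpS
  have hmR' : ∀ j : ℤ, 0 < j → ∀ r ∈ 𝒜 j, r ∈ pR.a.toIdeal := by
    intro j hj r hr
    rw [hmR]
    exact Ideal.subset_span (Set.mem_iUnion₂.mpr ⟨j, hj, hr⟩)
  have hmS' : ∀ j : ℤ, 0 < j → ∀ r ∈ ℬ j, r ∈ pS.a.toIdeal := by
    intro j hj r hr
    rw [hmS]
    exact Ideal.subset_span (Set.mem_iUnion₂.mpr ⟨j, hj, hr⟩)
  have hartR : IsArtinianRing (GrLC.deg0 𝒜) :=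
    (deg0Equiv hψ.k𝒜 h0R hinjR).symm.isArtinianRing
  have hartS : IsArtinianRing (GrLC.deg0 ℬ) :=
    (deg0Equiv hψ.kℬ h0S hinjS).symm.isArtinianRing
  have eR : ∀ i, Module.finrank (GrLC.deg0 𝒜) (Hg pR.a EM i g) =
      Module.finrank (GrLC.deg0 𝒜) (Hg pR.a (spRes pR M) i g) :=
    fun i => (hgCongr pR.a EM (spRes pR M) i g).finrank_eq
  have eS : ∀ i, Module.finrank (GrLC.deg0 ℬ) (Hg pS.a EN i g) =
      Module.finrank (GrLC.deg0 ℬ) (Hg pS.a (spRes pS N) i g) :=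
    fun i => (hgCongr pS.a EN (spRes pS N) i g).finrank_eq
  have hfR : ∀ i, Module.Finite (GrLC.deg0 𝒜) (Hg pR.a (spRes pR M) i g) := by
    intro i
    haveI := finite_hcomp (a := pR.a) hposR hmR M (spRes pR M) i g
    exact Module.Finite.equiv (hgEquiv pR.a (spRes pR M) i g).symm
  have hfS : ∀ i, Module.Finite (GrLC.deg0 ℬ) (Hg pS.a (spRes pS N) i g) := by
    intro i
    haveI := finite_hcomp (a := pS.a) hposS hmS N (spRes pS N) i g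
    exact Module.Finite.equiv (hgEquiv pS.a (spRes pS N) i g).symm
  have hfR0 : Module.Finite (GrLC.deg0 𝒜) (GrLC.comp 𝒜 M.gr g) := by
    have hfl := fl_comp hposR M g
    have hnoeth := (isFiniteLength_iff_isNoetherian_isArtinian.mp hfl).1
    exact Module.IsNoetherian.finite _ _
  have hfS0 : Module.Finite (GrLC.deg0 ℬ) (GrLC.comp ℬ N.gr g) := by
    have hfl := fl_comp hposS N g
    have hnoeth := (isFiniteLength_iff_isNoetherian_isArtinian.mp hfl).1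
    exact Module.IsNoetherian.finite _ _
  have key := main_AS_top (spRes pR M) (spRes pS N) hψ (spResStr pR M) (spResStr pS N) mT hmT
    hmR' hmS' hD hDpos hkT h0T hinjT h0R hinjR h0S hinjS F q g hfR hfS hfR0 hfS0
    (by rw [← eR q]; exact hv) (by rw [← eS q]; exact hv')
    (by rw [← eR (q + 1)]; exact hv1) (by rw [← eS (q + 1)]; exact hv1')
  rw [key]
  refine Finset.sum_congr rfl fun i _ => ?_
  rw [eR i, eS (q + 1 - i)]

end AS

section main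

open Groth.Agent.Lib.R2H7.SegConv

/-- The Künneth formula for an abstractly presented Segre product in a degree where the local
cohomologies of the two factors vanish (in that degree and the next one). -/
theorem segre_kunneth_top (k : Type u) [Field k] (R : Type u) [CommRing R] [Nontrivial R]
    [Algebra k R] (𝒜 : ℤ → Submodule k R) [GradedAlgebra 𝒜]
    (hposR : ∀ n : ℤ, n < 0 → 𝒜 n = ⊥) (h0R : 𝒜 0 = Submodule.span k {(1 : R)})
    [Algebra.FiniteType k R] (S : Type u) [CommRing S] [Nontrivial S] [Algebra k S]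
    (ℬ : ℤ → Submodule k S) [GradedAlgebra ℬ] (hposS : ∀ n : ℤ, n < 0 → ℬ n = ⊥)
    (h0S : ℬ 0 = Submodule.span k {(1 : S)}) [Algebra.FiniteType k S] (T : Type u) [CommRing T]
    [Algebra k T] (𝒯 : ℤ → Submodule k T) [GradedAlgebra 𝒯] (ψ : T →ₐ[k] TensorProduct k R S)
    (hT : GrSeg.IsSegreRing 𝒜 ℬ 𝒯 ψ) (mR : HomogeneousIdeal 𝒜)
    (hmR : mR.toIdeal = Ideal.span (⋃ n ∈ Set.Ioi (0 : ℤ), (𝒜 n : Set R)))
    (mS : HomogeneousIdeal ℬ)
    (hmS : mS.toIdeal = Ideal.span (⋃ n ∈ Set.Ioi (0 : ℤ), (ℬ n : Set S)))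
    (mT : HomogeneousIdeal 𝒯)
    (hmT : mT.toIdeal = Ideal.span (⋃ n ∈ Set.Ioi (0 : ℤ), (𝒯 n : Set T)))
    {M : Type u} [AddCommGroup M] [Module R M] [Module k M] [IsScalarTower k R M]
    {τM : Type u} [SetLike τM M] [AddSubgroupClass τM M]
    (ℳ : ℤ → τM) [DirectSum.Decomposition ℳ] [SetLike.GradedSMul 𝒜 ℳ] [Module.Finite R M]
    (EM : GrLC.StarInjRes 𝒜 ℳ)
    {N : Type u} [AddCommGroup N] [Module S N] [Module k N] [IsScalarTower k S N]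
    {τN : Type u} [SetLike τN N] [AddSubgroupClass τN N]
    (𝒩 : ℤ → τN) [DirectSum.Decomposition 𝒩] [SetLike.GradedSMul ℬ 𝒩] [Module.Finite S N]
    (EN : GrLC.StarInjRes ℬ 𝒩)
    {P : Type u} [AddCommGroup P] [Module T P] [Module k P] [IsScalarTower k T P]
    {τQ : Type u} [SetLike τQ P] [AddSubgroupClass τQ P]
    (𝒬 : ℤ → τQ) [DirectSum.Decomposition 𝒬] [SetLike.GradedSMul 𝒯 𝒬]
    (φ : P →ₗ[k] TensorProduct k M N) (hP : GrSeg.IsSegreMod ψ ℳ 𝒩 𝒬 φ)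
    (EP : GrLC.StarInjRes 𝒯 𝒬) (q : ℕ) (d : ℤ)
    (hM : EM.Hcomp mR q d = ⊥) (hN : EN.Hcomp mS q d = ⊥)
    (hM1 : EM.Hcomp mR (q + 1) d = ⊥) (hN1 : EN.Hcomp mS (q + 1) d = ⊥) :
    Module.finrank (GrLC.deg0 𝒯) (EP.Hcomp mT q d) =
        (Finset.range (q + 2)).sum (fun i =>
          Module.finrank (GrLC.deg0 𝒜) (EM.Hcomp mR i d) *
            Module.finrank (GrLC.deg0 ℬ) (EN.Hcomp mS (q + 1 - i) d)) := by
  classical
  have hψ' : SegCtx (toAS 𝒜) (toAS ℬ) (toAS 𝒯) ψ := segCtx_of 𝒜 ℬ 𝒯 ψ hT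
  haveI : IsNoetherianRing R := Algebra.FiniteType.isNoetherianRing k R
  haveI : IsNoetherianRing S := Algebra.FiniteType.isNoetherianRing k S
  haveI : IsNoetherianRing T :=
    Groth.Agent.S18646.result k R 𝒜 hposR h0R S ℬ hposS h0S T 𝒯 ψ hT.1 hT.2
  have e1 := finrank_hcomp_conv 𝒯 𝒬 EP mT q d
  have e4 := fun i => finrank_hcomp_conv 𝒜 ℳ EM mR i d
  have e5 := fun i => finrank_hcomp_conv ℬ 𝒩 EN mS i d
  have key := kunneth_AS_top hψ' (pos_toAS 𝒜 hposR) (pos_toAS ℬ hposS) (zero_toAS 𝒜 h0R)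
    (algebraMap k R).injective (zero_toAS ℬ h0S) (algebraMap k S).injective
    (fun c => SetLike.algebraMap_mem_graded 𝒯 c) (zero_toAS_T 𝒜 ℬ 𝒯 ψ h0R h0S hT)
    (algebraMap_T_injective (R := R) (S := S) ψ)
    (convIdeal 𝒜 mR) hmR (convIdeal ℬ mS) hmS (convIdeal 𝒯 mT) hmT
    (toGMod 𝒜 ℳ) (toGMod ℬ 𝒩) (convRes 𝒜 ℳ EM) (convRes ℬ 𝒩 EN)
    (transRes (segIso 𝒜 ℬ 𝒯 ℳ 𝒩 𝒬 hP hψ') (segIso_grHom 𝒜 ℬ 𝒯 ℳ 𝒩 𝒬 hP hψ')
      (convRes 𝒯 𝒬 EP)) q d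
    (by rw [← e4 q, hM]; exact finrank_bot _ _) (by rw [← e5 q, hN]; exact finrank_bot _ _)
    (by rw [← e4 (q + 1), hM1]; exact finrank_bot _ _)
    (by rw [← e5 (q + 1), hN1]; exact finrank_bot _ _)
  have key' := (hg_transRes (convIdeal 𝒯 mT) (segIso 𝒜 ℬ 𝒯 ℳ 𝒩 𝒬 hP hψ')
    (segIso_grHom 𝒜 ℬ 𝒯 ℳ 𝒩 𝒬 hP hψ') (convRes 𝒯 𝒬 EP) q d).symm.trans key
  rw [e1]
  refine key'.trans ?_
  refine Finset.sum_congr rfl fun i _ => ?_
  rw [e4 i, e5 (q + 1 - i)]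

end main

end Groth.Agent.Lib.R2H7.SegTop
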