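/-
The pieces of a *canonical module have the dimensions of the pieces of the top local cohomology in
the opposite degrees, and the resulting count `dim (K_T)_n = dim (K_R)_n · dim (K_S)_n` for the
Segre product `T = R # S` of graded rings of dimensions at least two.
-/
import Mathlib
import Groth.Agent.Lib.R2H7SegTop
import Groth.Agent.Lib.R2H7SegCM
import Groth.Agent.Lib.R2H7GrCanPair
import Groth.Agent.Lib.R2H7GrWPolyCan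

set_option autoImplicit false
open DirectSum
open scoped TensorProduct

noncomputable section

namespace Groth.Agent.Lib.R2H7.SegCan

open Groth.Agent.Lib.R2H7.GrBdry Groth.Agent.Lib.R2H7.GrDer Groth.Agent.Lib.R2H7.GrH
  Groth.Agent.Lib.R2H7.GrFun
  Groth.Agent.Lib.R2H7.SegConv Groth.Agent.Lib.R2H7.SegVan Groth.Agent.Lib.R2H7.SegRing
  Groth.Agent.Lib.R2H7.SegCM Groth.Agent.Lib.R2H7.SegTop Groth.Agent.Lib.R2H7.GrCanPair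
  Groth.Agent.Lib.R2H7.GrWPolyCan

universe u

/-! ### Additive subgroup gradings -/

section AS

variable {R : Type u} [CommRing R] {𝒜 : ℤ → AddSubgroup R} [GradedRing 𝒜]
  (hpos : ∀ n : ℤ, n < 0 → 𝒜 n = ⊥) (h0 : IsField (GrLC.deg0 𝒜))
  (m : HomogeneousIdeal 𝒜) (hm : GrLC.IsStarLocal 𝒜 m)
  (hmsp : m.toIdeal = Ideal.span (⋃ n ∈ Set.Ioi (0 : ℤ), (𝒜 n : Set R)))
  {E' : Type u} [AddCommGroup E'] [Module R E'] (𝓔 : ℤ → AddSubgroup E')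
  [DirectSum.Decomposition 𝓔] [SetLike.GradedSMul 𝒜 𝓔]
  (e : (R ⧸ m.toIdeal) →ₗ[R] E') (he : GrLC.IsStarInjHull 𝒜 (GrLC.quotGr 𝒜 m) 𝓔 e)
  {C : Type u} [AddCommGroup C] [Module R C] (𝒞 : ℤ → AddSubgroup C)
  [DirectSum.Decomposition 𝒞] [SetLike.GradedSMul 𝒜 𝒞]

include hpos h0 hm hmsp he in
/-- `dim (K_R)_i = dim H^n_m(R)_{-i}`. -/
theorem finrank_comp_canonical [IsNoetherianRing R] (n : ℕ) (I : GrLC.StarInjRes 𝒜 𝒜)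
    (hC : GrLC.IsStarCanonical 𝒜 𝒞 𝓔 m n I) (i : ℤ) :
    Module.finrank (GrLC.deg0 𝒜) ↥(GrLC.comp 𝒜 𝒞 i) =
      Module.finrank (GrLC.deg0 𝒜) ↥(I.Hcomp m n (-i)) := by
  classical
  obtain ⟨β, -, -, hb3, hb4⟩ := exists_pairing' hpos h0 m hm hmsp 𝓔 e he 𝒞 n I hC
  letI : Field (GrLC.deg0 𝒜) := h0.toField
  let Φ : ↥(GrLC.comp 𝒜 𝒞 i) →ₗ[GrLC.deg0 𝒜]
      Module.Dual (GrLC.deg0 𝒜) ↥(I.Hcomp m n (-i)) :=
    (LinearMap.lcomp (GrLC.deg0 𝒜) (GrLC.deg0 𝒜) (I.Hcomp m n (-i)).subtype) ∘ₗ β ∘ₗ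
      (GrLC.comp 𝒜 𝒞 i).subtype
  have hΦ : ∀ (c : ↥(GrLC.comp 𝒜 𝒞 i)) (h : ↥(I.Hcomp m n (-i))), Φ c h = β c.1 h.1 :=
    fun c h => rfl
  have hinj : Function.Injective Φ := by
    rw [injective_iff_map_eq_zero]
    intro c hc
    apply Subtype.ext
    refine hb3 i c.1 c.2 (fun h hh => ?_)
    have h1 := LinearMap.congr_fun hc ⟨h, hh⟩
    rw [hΦ] at h1
    exact h1
  have hsurj : Function.Surjective Φ := by
    intro l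
    obtain ⟨l', hl'⟩ := LinearMap.exists_extend l
    obtain ⟨c, hc, hcl⟩ := hb4 i l'
    refine ⟨⟨c, hc⟩, ?_⟩
    apply LinearMap.ext
    intro h
    rw [hΦ]
    show β c h.1 = l h
    rw [hcl h.1 h.2, ← hl']
    rfl
  have eqv := LinearEquiv.ofBijective Φ ⟨hinj, hsurj⟩
  rw [eqv.finrank_eq, Subspace.dual_finrank_eq]

end AS

/-! ### Gradings by subspaces over a field -/

section sub

variable {k : Type u} [Field k] {T : Type u} [CommRing T] [Algebra k T]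
  (𝒯 : ℤ → Submodule k T) [GradedAlgebra 𝒯]

/-- Grothendieck vanishing above the dimension. -/
theorem hcomp_eq_bot_of_dim_lt [IsNoetherianRing T] (mT : HomogeneousIdeal 𝒯)
    (IT : GrLC.StarInjRes 𝒯 𝒯) (t : ℕ) (ht : ringKrullDim T = t) (i : ℕ) (hi : t < i) (d : ℤ) :
    IT.Hcomp mT i d = ⊥ := by
  rw [hcomp_eq_bot_iff]
  intro z hz _
  exact vanW_of_dim_lt (convIdeal 𝒯 mT) (toGMod 𝒯 𝒯) i (by rw [ht]; exact_mod_cast hi)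
    (convRes 𝒯 𝒯 IT) z hz

variable (hpos : ∀ n : ℤ, n < 0 → toAS 𝒯 n = ⊥) (h0 : IsField (GrLC.deg0 (toAS 𝒯)))
  (mT : HomogeneousIdeal 𝒯)
  (hmT : mT.toIdeal = Ideal.span (⋃ n ∈ Set.Ioi (0 : ℤ), (𝒯 n : Set T)))
  {E' : Type u} [AddCommGroup E'] [Module T E'] (𝓔 : ℤ → AddSubgroup E')
  [DirectSum.Decomposition 𝓔] [SetLike.GradedSMul 𝒯 𝓔]
  (e : (T ⧸ mT.toIdeal) →ₗ[T] E') (he : GrLC.IsStarInjHull 𝒯 (GrLC.quotGr 𝒯 mT) 𝓔 e)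
  {C : Type u} [AddCommGroup C] [Module T C] (𝒞 : ℤ → AddSubgroup C)
  [DirectSum.Decomposition 𝒞] [SetLike.GradedSMul 𝒯 𝒞]

include hpos h0 hmT he in
/-- `dim (K_T)_i = dim H^n_{T_+}(T)_{-i}` for a graded algebra over a field. -/
theorem finrank_comp_canonical_sub [IsNoetherianRing T] (n : ℕ) (IT : GrLC.StarInjRes 𝒯 𝒯)
    (hC : GrLC.IsStarCanonical 𝒯 𝒞 𝓔 mT n IT) (i : ℤ) :
    Module.finrank (GrLC.deg0 𝒯) ↥(GrLC.comp 𝒯 𝒞 i) =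
      Module.finrank (GrLC.deg0 𝒯) ↥(IT.Hcomp mT n (-i)) := by
  haveI h𝓔 : SetLike.GradedSMul (toAS 𝒯) 𝓔 := gsmul_conv 𝒯 𝓔
  haveI h𝒞 : SetLike.GradedSMul (toAS 𝒯) 𝒞 := gsmul_conv 𝒯 𝒞
  have hm := isStarLocal_of_irrelevant 𝒯 hpos h0 mT hmT
  have hmsp : (convIdeal 𝒯 mT).toIdeal =
      Ideal.span (⋃ n ∈ Set.Ioi (0 : ℤ), (toAS 𝒯 n : Set T)) := hmT
  have key := finrank_comp_canonical hpos h0 (convIdeal 𝒯 mT) hm hmsp 𝓔 e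
    (isStarInjHull_conv 𝒯 𝓔 mT e he) 𝒞 n (convRes 𝒯 𝒯 IT)
    (isStarCanonical_conv 𝒯 𝓔 𝒞 mT n IT hC) i
  have e1 := finrank_comp_conv 𝒯 𝒞 i
  have e2 := finrank_hcomp_conv 𝒯 𝒯 IT mT n (-i)
  have e3 := (hgEquiv (convIdeal 𝒯 mT) (convRes 𝒯 𝒯 IT) n (-i)).finrank_eq
  rw [e1, e2, e3]
  exact key

end sub

/-! ### The canonical module of a Segre product: dimensions of the pieces -/

theorem finrank_canonical_segre (k : Type u) [Field k] (R : Type u) [CommRing R] [Algebra k R]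
    (𝒜 : ℤ → Submodule k R) [GradedAlgebra 𝒜]
    (hposR : ∀ n : ℤ, n < 0 → 𝒜 n = ⊥) (h0R : 𝒜 0 = Submodule.span k {(1 : R)})
    [Algebra.FiniteType k R] (S : Type u) [CommRing S] [Algebra k S]
    (ℬ : ℤ → Submodule k S) [GradedAlgebra ℬ] (hposS : ∀ n : ℤ, n < 0 → ℬ n = ⊥)
    (h0S : ℬ 0 = Submodule.span k {(1 : S)}) [Algebra.FiniteType k S] (T : Type u) [CommRing T]
    [Algebra k T] (𝒯 : ℤ → Submodule k T) [GradedAlgebra 𝒯] (ψ : T →ₐ[k] TensorProduct k R S)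
    (hψ : Function.Injective ψ)
    (hdegT : ∀ n : ℤ, (𝒯 n).map ψ.toLinearMap =
      Submodule.span k {x : TensorProduct k R S | ∃ a ∈ 𝒜 n, ∃ b ∈ ℬ n, x = a ⊗ₜ[k] b})
    (mR : HomogeneousIdeal 𝒜)
    (hmR : mR.toIdeal = Ideal.span (⋃ n ∈ Set.Ioi (0 : ℤ), (𝒜 n : Set R)))
    (I : GrLC.StarInjRes 𝒜 𝒜) (mS : HomogeneousIdeal ℬ)
    (hmS : mS.toIdeal = Ideal.span (⋃ n ∈ Set.Ioi (0 : ℤ), (ℬ n : Set S)))
    (J : GrLC.StarInjRes ℬ ℬ) (mT : HomogeneousIdeal 𝒯)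
    (hmT : mT.toIdeal = Ideal.span (⋃ n ∈ Set.Ioi (0 : ℤ), (𝒯 n : Set T)))
    (IT : GrLC.StarInjRes 𝒯 𝒯) (r s : ℕ) (hr : ringKrullDim R = r) (hs : ringKrullDim S = s)
    (h2r : 2 ≤ r) (h2s : 2 ≤ s)
    (ER : Type u) [AddCommGroup ER] [Module R ER] (𝓔R : ℤ → AddSubgroup ER)
    [DirectSum.Decomposition 𝓔R] [SetLike.GradedSMul 𝒜 𝓔R] (eR : (R ⧸ mR.toIdeal) →ₗ[R] ER)
    (heR : GrLC.IsStarInjHull 𝒜 (GrLC.quotGr 𝒜 mR) 𝓔R eR)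
    (CR : Type u) [AddCommGroup CR] [Module R CR] (𝒞R : ℤ → AddSubgroup CR)
    [DirectSum.Decomposition 𝒞R] [SetLike.GradedSMul 𝒜 𝒞R]
    (hCR : GrLC.IsStarCanonical 𝒜 𝒞R 𝓔R mR r I)
    (ES : Type u) [AddCommGroup ES] [Module S ES] (𝓔S : ℤ → AddSubgroup ES)
    [DirectSum.Decomposition 𝓔S] [SetLike.GradedSMul ℬ 𝓔S] (eS : (S ⧸ mS.toIdeal) →ₗ[S] ES)
    (heS : GrLC.IsStarInjHull ℬ (GrLC.quotGr ℬ mS) 𝓔S eS)
    (CS : Type u) [AddCommGroup CS] [Module S CS] (𝒞S : ℤ → AddSubgroup CS)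
    [DirectSum.Decomposition 𝒞S] [SetLike.GradedSMul ℬ 𝒞S]
    (hCS : GrLC.IsStarCanonical ℬ 𝒞S 𝓔S mS s J)
    (ET : Type u) [AddCommGroup ET] [Module T ET] (𝓔T : ℤ → AddSubgroup ET)
    [DirectSum.Decomposition 𝓔T] [SetLike.GradedSMul 𝒯 𝓔T] (eT : (T ⧸ mT.toIdeal) →ₗ[T] ET)
    (heT : GrLC.IsStarInjHull 𝒯 (GrLC.quotGr 𝒯 mT) 𝓔T eT)
    (CT : Type u) [AddCommGroup CT] [Module T CT] (𝒞T : ℤ → AddSubgroup CT)
    [DirectSum.Decomposition 𝒞T] [SetLike.GradedSMul 𝒯 𝒞T]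
    (hCT : GrLC.IsStarCanonical 𝒯 𝒞T 𝓔T mT (r + s - 1) IT) (n : ℤ) :
    Module.finrank (GrLC.deg0 𝒯) (GrLC.comp 𝒯 𝒞T n) =
      Module.finrank (GrLC.deg0 𝒜) (GrLC.comp 𝒜 𝒞R n) *
        Module.finrank (GrLC.deg0 ℬ) (GrLC.comp ℬ 𝒞S n) := by
  classical
  haveI : Nontrivial R := nontrivial_of_ringKrullDim_eq r hr
  haveI : Nontrivial S := nontrivial_of_ringKrullDim_eq s hs
  have hT : GrSeg.IsSegreRing 𝒜 ℬ 𝒯 ψ := ⟨hψ, hdegT⟩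
  have hP := ringSegreMod 𝒜 ℬ 𝒯 ψ hψ hdegT
  haveI : IsNoetherianRing R := Algebra.FiniteType.isNoetherianRing k R
  haveI : IsNoetherianRing S := Algebra.FiniteType.isNoetherianRing k S
  haveI : IsNoetherianRing T :=
    Groth.Agent.S18646.result k R 𝒜 hposR h0R S ℬ hposS h0S T 𝒯 ψ hψ hdegT
  have hfR := isField_deg0 𝒜 (zero_toAS 𝒜 h0R) (algebraMap k R).injective
  have hfS := isField_deg0 ℬ (zero_toAS ℬ h0S) (algebraMap k S).injective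
  have hfT := isField_deg0 𝒯 (zero_toAS_T 𝒜 ℬ 𝒯 ψ h0R h0S hT)
    (algebraMap_T_injective (R := R) (S := S) ψ)
  have hpR := pos_toAS 𝒜 hposR
  have hpS := pos_toAS ℬ hposS
  have hpT := pos_toAS_T 𝒜 ℬ 𝒯 ψ hposR hT
  rw [finrank_comp_canonical_sub 𝒯 hpT hfT mT hmT 𝓔T eT heT 𝒞T (r + s - 1) IT hCT n,
    finrank_comp_canonical_sub 𝒜 hpR hfR mR hmR 𝓔R eR heR 𝒞R r I hCR n,
    finrank_comp_canonical_sub ℬ hpS hfS mS hmS 𝓔S eS heS 𝒞S s J hCS n]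
  have vR : ∀ i, r < i → I.Hcomp mR i (-n) = ⊥ :=
    fun i hi => hcomp_eq_bot_of_dim_lt 𝒜 mR I r hr i hi (-n)
  have vS : ∀ i, s < i → J.Hcomp mS i (-n) = ⊥ :=
    fun i hi => hcomp_eq_bot_of_dim_lt ℬ mS J s hs i hi (-n)
  have key := segre_kunneth_top k R 𝒜 hposR h0R S ℬ hposS h0S T 𝒯 ψ hT mR hmR mS hmS mT hmT
    𝒜 I ℬ J 𝒯 ψ.toLinearMap hP IT (r + s - 1) (-n) (vR _ (by omega)) (vS _ (by omega))
    (vR _ (by omega)) (vS _ (by omega))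
  rw [key, Finset.sum_eq_single r]
  · have h1 : r + s - 1 + 1 - r = s := by omega
    rw [h1]
  · intro i hi hir
    rw [Finset.mem_range] at hi
    rcases lt_or_gt_of_ne hir with h | h
    · rw [vS (r + s - 1 + 1 - i) (by omega), finrank_bot, mul_zero]
    · rw [vR i h, finrank_bot, zero_mul]
  · intro h
    exact absurd (Finset.mem_range.mpr (by omega)) h

end Groth.Agent.Lib.R2H7.SegCan
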