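/-
Linear algebra for the module structure of the top local cohomology of a Segre product: the
connecting map of the Mayer–Vietoris sequence of `V' ⊗ W + V ⊗ W'` followed by a projection
`κ ⊗ κ'` onto cohomology, `θ = (κ ⊗ κ') ∘ D ∘ (ρ ⊗ 1)`.  It kills coboundaries, commutes with
operators commuting with the structure, and is injective / surjective on cohomology in degrees
where the two subcomplexes have no cohomology.
-/
import Mathlib
import Groth.Agent.Lib.R2H7KunLA5

set_option autoImplicit false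
open DirectSum TensorProduct

noncomputable section

namespace Groth.Agent.Lib.R2H7.SegThLA

open Groth.Agent.Lib.R2H7.KunLA1 Groth.Agent.Lib.R2H7.KunLA2 Groth.Agent.Lib.R2H7.KunLA3
  Groth.Agent.Lib.R2H7.KunLA4 Groth.Agent.Lib.R2H7.KunLA5 GCpx GCpxS

universe u v w v' w'

variable {k : Type u} [Field k]
variable {V : Type v} [AddCommGroup V] [Module k V] {W : Type w} [AddCommGroup W] [Module k W]
  {Γ : Type} [DecidableEq Γ] (C : GCpx k V Γ) (C' : GCpx k W Γ)
variable {U : Type v'} [AddCommGroup U] [Module k U] {U' : Type w'} [AddCommGroup U']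
  [Module k U'] (κ : V →ₗ[k] U) (κ' : W →ₗ[k] U')

/-- The complementary projector `(1 - ρ) ⊗ (1 - ρ')`. -/
def QQ : V ⊗[k] W →ₗ[k] V ⊗[k] W :=
  TensorProduct.map (LinearMap.id - C.ρ) (LinearMap.id - C'.ρ)

theorem QQ_eq (z : V ⊗[k] W) :
    QQ C C' z = z - PP C C'.full z - PP C.full C' z + PP C C' z := by
  induction z using TensorProduct.induction_on with
  | zero => simp only [map_zero, sub_zero, add_zero]
  | tmul x y =>
    show TensorProduct.map (LinearMap.id - C.ρ) (LinearMap.id - C'.ρ) (x ⊗ₜ[k] y) = _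
    rw [PP_tmul, PP_tmul, PP_tmul, TensorProduct.map_tmul, LinearMap.sub_apply,
      LinearMap.sub_apply, LinearMap.id_apply, LinearMap.id_apply, sub_tmul, tmul_sub,
      tmul_sub]
    show _ = x ⊗ₜ[k] y - C.ρ x ⊗ₜ[k] y - x ⊗ₜ[k] C'.ρ y + C.ρ x ⊗ₜ[k] C'.ρ y
    abel
  | add x y hx hy =>
    simp only [map_add, hx, hy]
    abel

variable {C C'} in
theorem mem_sup_iff' {n : ℕ} {g : Γ} {z : V ⊗[k] W} :
    z ∈ TX C C'.full n g ⊔ TX C.full C' n g ↔ z ∈ Tn C C' n g ∧ QQ C C' z = 0 :=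
  mem_sup_iff

/-- The connecting map followed by the projection `κ ⊗ κ'`. -/
def theta : V ⊗[k] W →ₗ[k] U ⊗[k] U' :=
  TensorProduct.map κ κ' ∘ₗ DD C C' ∘ₗ PP C C'.full

theorem theta_apply (z : V ⊗[k] W) :
    theta C C' κ κ' z = TensorProduct.map κ κ' (DD C C' (PP C C'.full z)) := rfl

variable {C C' κ κ'}

theorem P1_DD_P1 (z : V ⊗[k] W) :
    PP C C'.full (DD C C' (PP C C'.full z)) = DD C C' (PP C C'.full z) :=
  PP_DD_PP C C'.full z

theorem P2_DD_P2 (z : V ⊗[k] W) :
    PP C.full C' (DD C C' (PP C.full C' z)) = DD C C' (PP C.full C' z) :=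
  PP_DD_PP C.full C' z

theorem sub_P1_eq (z : V ⊗[k] W) (hQ : QQ C C' z = 0) :
    PP C.full C' (z - PP C C'.full z) = z - PP C C'.full z := by
  rw [map_sub, PP_right_left]
  rw [QQ_eq] at hQ
  have h : PP C.full C' z - PP C C' z =
      z - PP C C'.full z - (z - PP C C'.full z - PP C.full C' z + PP C C' z) := by abel
  rw [h, hQ, sub_zero]

theorem P2_DD_sub (z : V ⊗[k] W) (hQ : QQ C C' z = 0) :
    PP C.full C' (DD C C' (z - PP C C'.full z)) = DD C C' (z - PP C C'.full z) := by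
  have h := P2_DD_P2 (C := C) (C' := C') (z - PP C C'.full z)
  rwa [sub_P1_eq z hQ] at h

theorem DD_split (z : V ⊗[k] W) :
    DD C C' z = DD C C' (PP C C'.full z) + DD C C' (z - PP C C'.full z) := by
  rw [← map_add]
  congr 1
  abel

section basic

variable (hκ : ∀ x, κ (C.d (C.ρ x)) = 0) (hκ' : ∀ y, κ' (C'.d (C'.ρ y)) = 0)

include hκ hκ' in
theorem kk_DD_PP (z : V ⊗[k] W) : TensorProduct.map κ κ' (DD C C' (PP C C' z)) = 0 := by
  induction z using TensorProduct.induction_on with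
  | zero => simp only [map_zero]
  | tmul x y =>
    rw [PP_tmul, DD_tmul, map_add, TensorProduct.map_tmul, TensorProduct.map_tmul, hκ, hκ',
      zero_tmul, tmul_zero, add_zero]
  | add x y hx hy => simp only [map_add, hx, hy, add_zero]

include hκ hκ' in
/-- `θ` kills the coboundaries of the sum of the two subcomplexes. -/
theorem theta_DD (w : V ⊗[k] W) (hQ : QQ C C' w = 0) : theta C C' κ κ' (DD C C' w) = 0 := by
  have h2 : PP C C'.full (DD C C' (w - PP C C'.full w)) =
      PP C C' (DD C C' (w - PP C C'.full w)) := by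
    conv_lhs => rw [← P2_DD_sub w hQ]
    exact PP_left_right _
  rw [theta_apply, DD_split w, map_add, map_add, map_add, P1_DD_P1, DD_DD, map_zero, zero_add,
    h2]
  exact kk_DD_PP hκ hκ' _

/-- The image of a cocycle under the connecting map lies in the intersection. -/
theorem PP_DD_P1 (z : V ⊗[k] W) (hQ : QQ C C' z = 0) (hd : DD C C' z = 0) :
    PP C C' (DD C C' (PP C C'.full z)) = DD C C' (PP C C'.full z) := by
  have hc : DD C C' (PP C C'.full z) = -DD C C' (z - PP C C'.full z) := by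
    have h := DD_split (C := C) (C' := C') z
    rw [hd] at h
    exact eq_neg_of_add_eq_zero_left h.symm
  have h2 : PP C.full C' (DD C C' (PP C C'.full z)) = DD C C' (PP C C'.full z) := by
    rw [hc, map_neg, P2_DD_sub z hQ]
  rw [← PP_left_right, h2, P1_DD_P1]

theorem eq_PiPi_add (S : C.Split) (S' : C'.Split) (c : V ⊗[k] W) (hP : PP C C' c = c)
    (hd : DD C C' c = 0) : c = PiPi S S' c + DD C C' (HH S S' c) := by
  have h := key S S' c
  rw [hP, hd, map_zero, zero_add] at h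
  rw [h]
  abel

include hκ hκ' in
theorem kk_eq_kk_PiPi (S : C.Split) (S' : C'.Split) (c : V ⊗[k] W) (hP : PP C C' c = c)
    (hd : DD C C' c = 0) :
    TensorProduct.map κ κ' c = TensorProduct.map κ κ' (PiPi S S' c) := by
  have h := eq_PiPi_add S S' c hP hd
  have h2 : TensorProduct.map κ κ' (DD C C' (HH S S' c)) = 0 := by
    rw [← PP_HH S S' c]
    exact kk_DD_PP hκ hκ' _
  conv_lhs => rw [h]
  rw [map_add, h2, add_zero]

end basic

/-! ### Equivariance -/

section equivariant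

variable (α : V →ₗ[k] V) (α' : W →ₗ[k] W) (β : U →ₗ[k] U) (β' : U' →ₗ[k] U')
  (hαd : ∀ x, α (C.d x) = C.d (α x)) (hαρ : ∀ x, α (C.ρ x) = C.ρ (α x))
  (hασ : ∀ x, α (C.σ x) = C.σ (α x))
  (hαd' : ∀ y, α' (C'.d y) = C'.d (α' y)) (hαρ' : ∀ y, α' (C'.ρ y) = C'.ρ (α' y))

include hαd hασ hαd' in
theorem map_DD (z : V ⊗[k] W) :
    TensorProduct.map α α' (DD C C' z) = DD C C' (TensorProduct.map α α' z) := by
  induction z using TensorProduct.induction_on with
  | zero => simp only [map_zero]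
  | tmul x y =>
    rw [DD_tmul, map_add, TensorProduct.map_tmul, TensorProduct.map_tmul, TensorProduct.map_tmul,
      DD_tmul, hαd, hασ, hαd']
  | add x y hx hy => simp only [map_add, hx, hy]

include hαρ in
theorem map_P1 (z : V ⊗[k] W) :
    TensorProduct.map α α' (PP C C'.full z) = PP C C'.full (TensorProduct.map α α' z) := by
  induction z using TensorProduct.induction_on with
  | zero => simp only [map_zero]
  | tmul x y =>
    rw [PP_tmul, TensorProduct.map_tmul, TensorProduct.map_tmul, PP_tmul, hαρ]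
    rfl
  | add x y hx hy => simp only [map_add, hx, hy]

include hαρ hαρ' in
theorem map_PP (z : V ⊗[k] W) :
    TensorProduct.map α α' (PP C C' z) = PP C C' (TensorProduct.map α α' z) := by
  induction z using TensorProduct.induction_on with
  | zero => simp only [map_zero]
  | tmul x y =>
    rw [PP_tmul, TensorProduct.map_tmul, TensorProduct.map_tmul, PP_tmul, hαρ, hαρ']
  | add x y hx hy => simp only [map_add, hx, hy]

variable (hκ : ∀ x, κ (C.d (C.ρ x)) = 0) (hκ' : ∀ y, κ' (C'.d (C'.ρ y)) = 0)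
  (hκα : ∀ h, C.ρ h = h → C.d h = 0 → κ (α h) = β (κ h))
  (hκα' : ∀ h, C'.ρ h = h → C'.d h = 0 → κ' (α' h) = β' (κ' h))

include hαd hαρ hασ hαd' hαρ' hκ hκ' hκα hκα' in
/-- `θ` commutes with operators commuting with the structure. -/
theorem theta_map (z : V ⊗[k] W) (hQ : QQ C C' z = 0) (hd : DD C C' z = 0) :
    theta C C' κ κ' (TensorProduct.map α α' z) =
      TensorProduct.map β β' (theta C C' κ κ' z) := by
  obtain ⟨S⟩ := C.nonempty_split
  obtain ⟨S'⟩ := C'.nonempty_split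
  have hPc : PP C C' (DD C C' (PP C C'.full z)) = DD C C' (PP C C'.full z) := PP_DD_P1 z hQ hd
  have hdc : DD C C' (DD C C' (PP C C'.full z)) = 0 := DD_DD C C' _
  have h1 : theta C C' κ κ' (TensorProduct.map α α' z) =
      TensorProduct.map κ κ' (TensorProduct.map α α' (DD C C' (PP C C'.full z))) := by
    rw [theta_apply, map_DD α α' hαd hασ hαd', map_P1 α α' hαρ]
  have hdec := eq_PiPi_add S S' _ hPc hdc
  have h2 : TensorProduct.map κ κ' (TensorProduct.map α α' (DD C C' (PP C C'.full z))) =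
      TensorProduct.map κ κ'
        (TensorProduct.map α α' (PiPi S S' (DD C C' (PP C C'.full z)))) := by
    conv_lhs => rw [hdec]
    rw [map_add, map_add, map_DD α α' hαd hασ hαd', ← PP_HH S S' (DD C C' (PP C C'.full z)),
      map_PP α α' hαρ hαρ', kk_DD_PP hκ hκ', add_zero]
  have h3 : ∀ z : V ⊗[k] W,
      TensorProduct.map κ κ' (TensorProduct.map α α' (PiPi S S' z)) =
        TensorProduct.map β β' (TensorProduct.map κ κ' (PiPi S S' z)) := by
    intro z
    induction z using TensorProduct.induction_on with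
    | zero => simp only [map_zero]
    | tmul x y =>
      rw [PiPi_tmul, TensorProduct.map_tmul, TensorProduct.map_tmul, TensorProduct.map_tmul,
        TensorProduct.map_tmul, hκα _ (ρ_e S x) (d_e S x), hκα' _ (ρ_e S' y) (d_e S' y)]
    | add x y hx hy => simp only [map_add, hx, hy]
  rw [h1, h2, h3, ← kk_eq_kk_PiPi hκ hκ' S S' _ hPc hdc]
  rfl

end equivariant

/-! ### The graded pieces -/

section graded

variable {n : ℕ} {g : Γ}

theorem DD_P1_mem (z : V ⊗[k] W) (hz : z ∈ TX C C'.full n g ⊔ TX C.full C' n g)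
    (hd : DD C C' z = 0) : DD C C' (PP C C'.full z) ∈ TX C C' (n + 1) g := by
  have h := gamma_hZ (DD C C') (DD_DD C C') (TX C C'.full n g) (TX C C'.full (n + 1) g)
    (TX C.full C' n g) (TX C.full C' (n + 1) g) (PP C C'.full)
    (fun x hx => DD_TX (C := C) (C' := C'.full) hx)
    (fun x hx => DD_TX (C := C.full) (C' := C') hx) (hP_main n g) z hz hd
  rw [TX_inf] at h
  exact h.1

variable (hκ : ∀ x, κ (C.d (C.ρ x)) = 0) (hκ' : ∀ y, κ' (C'.d (C'.ρ y)) = 0)

include hκ hκ' in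
theorem theta_mem (S : C.Split) (S' : C'.Split) (z : V ⊗[k] W)
    (hz : z ∈ TX C C'.full n g ⊔ TX C.full C' n g) (hd : DD C C' z = 0) :
    theta C C' κ κ' z ∈
      (⨆ i : ↥(Finset.HasAntidiagonal.antidiagonal (n + 1)),
        Submodule.map₂ (TensorProduct.mk k V W) (EE S i.1.1 g) (EE S' i.1.2 g)).map
        (TensorProduct.map κ κ') := by
  have hc := DD_P1_mem z hz hd
  obtain ⟨_, hc2⟩ := mem_TX_iff.mp hc
  rw [theta_apply, kk_eq_kk_PiPi hκ hκ' S S' _ hc2 (DD_DD C C' _),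
    ← image_eq_iSup S S' (n + 1) g]
  exact ⟨_, ⟨_, hc, rfl⟩, rfl⟩

include hκ hκ' in
theorem theta_mem_map₂ (S : C.Split) (S' : C'.Split) (𝒰 : Submodule k U) (𝒰' : Submodule k U')
    (hU : ∀ i, (EE S i g).map κ ≤ 𝒰) (hU' : ∀ j, (EE S' j g).map κ' ≤ 𝒰') (z : V ⊗[k] W)
    (hz : z ∈ TX C C'.full n g ⊔ TX C.full C' n g) (hd : DD C C' z = 0) :
    theta C C' κ κ' z ∈ Submodule.map₂ (TensorProduct.mk k U U') 𝒰 𝒰' := by
  have h := theta_mem hκ hκ' S S' z hz hd
  have hle : (⨆ i : ↥(Finset.HasAntidiagonal.antidiagonal (n + 1)),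
        Submodule.map₂ (TensorProduct.mk k V W) (EE S i.1.1 g) (EE S' i.1.2 g)).map
        (TensorProduct.map κ κ') ≤ Submodule.map₂ (TensorProduct.mk k U U') 𝒰 𝒰' := by
    rw [Submodule.map_iSup]
    refine iSup_le fun i => ?_
    rw [Submodule.map_le_iff_le_comap, Submodule.map₂_le]
    intro a ha b hb
    show TensorProduct.map κ κ' (a ⊗ₜ[k] b) ∈ Submodule.map₂ (TensorProduct.mk k U U') 𝒰 𝒰'
    rw [TensorProduct.map_tmul]
    exact Submodule.apply_mem_map₂ _ (hU i.1.1 ⟨a, ha, rfl⟩) (hU' i.1.2 ⟨b, hb, rfl⟩)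
  exact hle h

include hκ hκ' in
/-- Injectivity of `θ` on cohomology. -/
theorem mem_map_of_theta_eq_zero (S : C.Split) (S' : C'.Split) (z : V ⊗[k] W)
    (hz : z ∈ TX C C'.full n g ⊔ TX C.full C' n g) (hd : DD C C' z = 0)
    (h0 : theta C C' κ κ' z = 0)
    (hinj : ∀ x ∈ ⨆ i : ↥(Finset.HasAntidiagonal.antidiagonal (n + 1)),
        Submodule.map₂ (TensorProduct.mk k V W) (EE S i.1.1 g) (EE S' i.1.2 g),
      TensorProduct.map κ κ' x = 0 → x = 0)
    (h1 : Subsingleton (HT C C'.full n g)) (h2 : Subsingleton (HT C.full C' n g)) :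
    z ∈ (TXprev C C'.full n g ⊔ TXprev C.full C' n g).map (DD C C') := by
  have hc := DD_P1_mem z hz hd
  obtain ⟨hc1, hc2⟩ := mem_TX_iff.mp hc
  have hdc : DD C C' (DD C C' (PP C C'.full z)) = 0 := DD_DD C C' _
  have hk : TensorProduct.map κ κ' (PiPi S S' (DD C C' (PP C C'.full z))) = 0 := by
    rw [← kk_eq_kk_PiPi hκ hκ' S S' _ hc2 hdc]
    exact h0
  have hPi : PiPi S S' (DD C C' (PP C C'.full z)) = 0 := by
    refine hinj _ ?_ hk
    rw [← image_eq_iSup S S' (n + 1) g]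
    exact ⟨_, hc, rfl⟩
  have hdec := eq_PiPi_add S S' _ hc2 hdc
  rw [hPi, zero_add] at hdec
  obtain ⟨w, hw, hdec'⟩ : ∃ w ∈ TX C C' n g, DD C C' (PP C C'.full z) = DD C C' w :=
    ⟨_, HH_mem_TXprev S S' (n := n + 1) hc1, hdec⟩
  obtain ⟨hp1, hp2⟩ := hP_main n g z hz
  have hz1 : PP C C'.full z - w ∈ TX C C'.full n g := sub_mem hp1 (TX_le_left n g hw)
  have hd1 : DD C C' (PP C C'.full z - w) = 0 := by rw [map_sub, hdec', sub_self]
  have hz2 : z - (PP C C'.full z - w) ∈ TX C.full C' n g := by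
    have h : z - (PP C C'.full z - w) = (z - PP C C'.full z) + w := by abel
    rw [h]
    exact add_mem hp2 (TX_le_right n g hw)
  have hd2 : DD C C' (z - (PP C C'.full z - w)) = 0 := by rw [map_sub, hd, hd1, sub_zero]
  have e1 : HQ.mk (DD C C'.full) (TXprev C C'.full n g) (TX C C'.full n g) _ hz1 hd1 = 0 :=
    Subsingleton.elim _ _
  have e2 : HQ.mk (DD C.full C') (TXprev C.full C' n g) (TX C.full C' n g) _ hz2 hd2 = 0 :=
    Subsingleton.elim _ _
  obtain ⟨v1, hv1, hv1e⟩ := HQ.mk_eq_zero.mp e1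
  obtain ⟨v2, hv2, hv2e⟩ := HQ.mk_eq_zero.mp e2
  refine ⟨v1 + v2, Submodule.add_mem_sup hv1 hv2, ?_⟩
  rw [map_add]
  show DD C C'.full v1 + DD C.full C' v2 = z
  rw [hv1e, hv2e]
  abel

include hκ hκ' in
/-- Surjectivity of `θ` on cohomology. -/
theorem exists_theta_eq {p q : ℕ} (hpq : p + q = n + 1) {x : V} (hx : x ∈ C.X p g)
    (hdx : C.d x = 0) {y : W} (hy : y ∈ C'.X q g) (hdy : C'.d y = 0)
    (h1 : Subsingleton (HT C C'.full (n + 1) g)) (h2 : Subsingleton (HT C.full C' (n + 1) g)) :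
    ∃ z ∈ TX C C'.full n g ⊔ TX C.full C' n g, DD C C' z = 0 ∧
      theta C C' κ κ' z = κ x ⊗ₜ[k] κ' y := by
  have hc : x ⊗ₜ[k] y ∈ TX C C' (n + 1) g := by
    refine mem_TX_iff.mpr ⟨tmul_mem_Tn hpq (C.X_le p g hx) (C'.X_le q g hy), ?_⟩
    rw [PP_tmul, (C.mem_X_iff.mp hx).2, (C'.mem_X_iff.mp hy).2]
  have hdc : DD C C' (x ⊗ₜ[k] y) = 0 := by
    rw [DD_tmul, hdx, hdy, zero_tmul, tmul_zero, add_zero]
  obtain ⟨⟨x1, hx1, e1⟩, ⟨x2, hx2, e2⟩⟩ := alpha_of_subsingleton (n + 1) g h1 h2 _ hc hdc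
  have hx1' : x1 ∈ TX C C'.full n g := hx1
  have hx2' : x2 ∈ TX C.full C' n g := hx2
  have hz : x1 - x2 ∈ TX C C'.full n g ⊔ TX C.full C' n g := Submodule.sub_mem_sup hx1' hx2'
  have hdz : DD C C' (x1 - x2) = 0 := by rw [map_sub, e1, e2, sub_self]
  refine ⟨x1 - x2, hz, hdz, ?_⟩
  obtain ⟨hp1, hp2⟩ := hP_main n g _ hz
  have hv : PP C C'.full (x1 - x2) - x1 ∈ TX C C' n g := by
    rw [← TX_inf]
    refine ⟨sub_mem hp1 hx1', ?_⟩
    have h : PP C C'.full (x1 - x2) - x1 = -x2 - ((x1 - x2) - PP C C'.full (x1 - x2)) := by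
      abel
    rw [h]
    exact sub_mem (neg_mem hx2') hp2
  have hPv := (mem_TX_iff.mp hv).2
  have hsplit : DD C C' (PP C C'.full (x1 - x2)) =
      x ⊗ₜ[k] y + DD C C' (PP C C' (PP C C'.full (x1 - x2) - x1)) := by
    have h : DD C C' (PP C C'.full (x1 - x2) - x1) =
        DD C C' (PP C C'.full (x1 - x2)) - DD C C' x1 := map_sub _ _ _
    rw [hPv, h, e1]
    abel
  rw [theta_apply, hsplit, map_add, kk_DD_PP hκ hκ', add_zero, TensorProduct.map_tmul]

end graded

/-! ### Vanishing -/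

theorem EE_full_succ_eq_bot (hex' : IsExact C') (S'' : C'.full.Split) (q : ℕ) (g : Γ) :
    EE S'' (q + 1) g = ⊥ := by
  rw [Submodule.eq_bot_iff]
  rintro _ ⟨a, ha, rfl⟩
  rw [C'.full_X] at ha
  exact e_full_eq_zero hex' S'' ha

theorem subsingleton_HT_left (hex' : IsExact C') (S : C.Split) (m : ℕ) (g : Γ)
    (hE : EE S m g = ⊥) : Subsingleton (HT C C'.full m g) := by
  obtain ⟨S''⟩ := C'.full.nonempty_split
  have hbot : (TX C C'.full m g).map (PiPi S S'') = ⊥ := by
    rw [image_eq_iSup S S'' m g, eq_bot_iff]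
    refine iSup_le ?_
    rintro ⟨⟨i, j⟩, hij⟩
    have hij' : i + j = m := Finset.HasAntidiagonal.mem_antidiagonal.mp hij
    show Submodule.map₂ (TensorProduct.mk k V W) (EE S i g) (EE S'' j g) ≤ ⊥
    cases j with
    | zero =>
      have him : i = m := by omega
      rw [him, hE, Submodule.map₂_bot_left]
    | succ j => rw [EE_full_succ_eq_bot hex' S'' j g, Submodule.map₂_bot_right]
  have key : ∀ a : HT C C'.full m g, a = 0 := by
    intro a
    apply (tEquiv S S'' m g).injective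
    rw [map_zero]
    apply Subtype.ext
    have ha : ((tEquiv S S'' m g) a : V ⊗[k] W) ∈ (TX C C'.full m g).map (PiPi S S'') :=
      ((tEquiv S S'' m g) a).2
    exact (Submodule.mem_bot k).mp (hbot.le ha)
  exact ⟨fun a b => by rw [key a, key b]⟩

theorem subsingleton_HT_right (hex : IsExact C) (S' : C'.Split) (m : ℕ) (g : Γ)
    (hE : EE S' m g = ⊥) : Subsingleton (HT C.full C' m g) := by
  obtain ⟨S''⟩ := C.full.nonempty_split
  have hbot : (TX C.full C' m g).map (PiPi S'' S') = ⊥ := by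
    rw [image_eq_iSup S'' S' m g, eq_bot_iff]
    refine iSup_le ?_
    rintro ⟨⟨i, j⟩, hij⟩
    have hij' : i + j = m := Finset.HasAntidiagonal.mem_antidiagonal.mp hij
    show Submodule.map₂ (TensorProduct.mk k V W) (EE S'' i g) (EE S' j g) ≤ ⊥
    cases i with
    | zero =>
      have hjm : j = m := by omega
      rw [hjm, hE, Submodule.map₂_bot_right]
    | succ i => rw [EE_full_succ_eq_bot hex S'' i g, Submodule.map₂_bot_left]
  have key : ∀ a : HT C.full C' m g, a = 0 := by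
    intro a
    apply (tEquiv S'' S' m g).injective
    rw [map_zero]
    apply Subtype.ext
    have ha : ((tEquiv S'' S' m g) a : V ⊗[k] W) ∈ (TX C.full C' m g).map (PiPi S'' S') :=
      ((tEquiv S'' S' m g) a).2
    exact (Submodule.mem_bot k).mp (hbot.le ha)
  exact ⟨fun a b => by rw [key a, key b]⟩

/-- `κ ⊗ κ'` is injective on the harmonic tensors when only one pair of degrees contributes. -/
theorem injOn_of_vanish (S : C.Split) (S' : C'.Split) {m r s : ℕ} {g : Γ}
    (hv : ∀ i j, i + j = m → (i, j) ≠ (r, s) → EE S i g = ⊥ ∨ EE S' j g = ⊥)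
    (hκi : ∀ x ∈ EE S r g, κ x = 0 → x = 0) (hκi' : ∀ y ∈ EE S' s g, κ' y = 0 → y = 0) :
    ∀ x ∈ ⨆ i : ↥(Finset.HasAntidiagonal.antidiagonal m),
        Submodule.map₂ (TensorProduct.mk k V W) (EE S i.1.1 g) (EE S' i.1.2 g),
      TensorProduct.map κ κ' x = 0 → x = 0 := by
  intro x hx h0
  have hle : (⨆ i : ↥(Finset.HasAntidiagonal.antidiagonal m),
      Submodule.map₂ (TensorProduct.mk k V W) (EE S i.1.1 g) (EE S' i.1.2 g)) ≤
      Submodule.map₂ (TensorProduct.mk k V W) (EE S r g) (EE S' s g) := by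
    refine iSup_le ?_
    rintro ⟨⟨i, j⟩, hij⟩
    show Submodule.map₂ (TensorProduct.mk k V W) (EE S i g) (EE S' j g) ≤ _
    by_cases h : (i, j) = (r, s)
    · obtain ⟨h1, h2⟩ := Prod.mk.inj h
      rw [h1, h2]
    · rcases hv i j (Finset.HasAntidiagonal.mem_antidiagonal.mp hij) h with h' | h'
      · rw [h', Submodule.map₂_bot_left]
        exact bot_le
      · rw [h', Submodule.map₂_bot_right]
        exact bot_le
  have hx' := hle hx
  rw [← TensorProduct.range_mapIncl] at hx'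
  obtain ⟨t, rfl⟩ := hx'
  have hi1 : Function.Injective (κ ∘ₗ (EE S r g).subtype) :=
    (injective_iff_map_eq_zero _).mpr fun a ha => Subtype.ext (hκi a.1 a.2 ha)
  have hi2 : Function.Injective (κ' ∘ₗ (EE S' s g).subtype) :=
    (injective_iff_map_eq_zero _).mpr fun a ha => Subtype.ext (hκi' a.1 a.2 ha)
  have hinj : Function.Injective
      (TensorProduct.map (κ ∘ₗ (EE S r g).subtype) (κ' ∘ₗ (EE S' s g).subtype)) :=
    TensorProduct.map_injective_of_flat_flat _ _ hi1 hi2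
  have hcomp : TensorProduct.map κ κ' (TensorProduct.mapIncl (EE S r g) (EE S' s g) t) =
      TensorProduct.map (κ ∘ₗ (EE S r g).subtype) (κ' ∘ₗ (EE S' s g).subtype) t := by
    rw [TensorProduct.map_comp]
    rfl
  rw [hcomp] at h0
  rw [hinj (h0.trans (map_zero _).symm), map_zero]

end Groth.Agent.Lib.R2H7.SegThLA
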