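/-
The module structure of the top local cohomology of a Segre product, for special resolutions:
`H^{r+s-1}_{T_+}(M # N) ≅ H^r_{R_+}(M) # H^s_{S_+}(N)` as graded `T`-modules when the local
cohomologies of `M` and `N` vanish above `r ≥ 2` and `s ≥ 2`.
-/
import Mathlib
import Groth.Agent.Lib.R2H7SegThLA
import Groth.Agent.Lib.R2H7SegMain
import Groth.Agent.Lib.R2H7GrAcycW
import Groth.Agent.Lib.R2H7GrSocle
import Groth.Agent.Lib.R2H7GrCanFin

set_option autoImplicit false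
open DirectSum
open scoped TensorProduct

noncomputable section

namespace Groth.Agent.Lib.R2H7.SegTheta

open Groth.Agent.Lib.Helper29GrEss Groth.Agent.Lib.Helper29GrHom Groth.Agent.Lib.Helper29GrGam
  Groth.Agent.Lib.R2H7.GrBdry Groth.Agent.Lib.R2H7.GrDer Groth.Agent.Lib.R2H7.GrH
  Groth.Agent.Lib.R2H7.GrTors Groth.Agent.Lib.R2H7.GrAcyc
  Groth.Agent.Lib.R2H7.SegPres Groth.Agent.Lib.R2H7.SegSpecial Groth.Agent.Lib.R2H7.SegIdem
  Groth.Agent.Lib.R2H7.SegTors Groth.Agent.Lib.R2H7.SegSum Groth.Agent.Lib.R2H7.SegAcyc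
  Groth.Agent.Lib.R2H7.SegBridge Groth.Agent.Lib.R2H7.KunLA1 Groth.Agent.Lib.R2H7.KunLA2
  Groth.Agent.Lib.R2H7.KunLA3 Groth.Agent.Lib.R2H7.KunLA4 Groth.Agent.Lib.R2H7.KunLA5
  Groth.Agent.Lib.R2H7.SegTotR
  Groth.Agent.Lib.R2H7.SegTotRB Groth.Agent.Lib.R2H7.SegTotT Groth.Agent.Lib.R2H7.SegTotG
  Groth.Agent.Lib.R2H7.SegMain Groth.Agent.Lib.R2H7.SegThLA Groth.Agent.Lib.R2H7.GrAcycW

universe u

/-! ### The total module of a resolution -/

section total

variable {k : Type u} [Field k] {R : Type u} [CommRing R] [Algebra k R]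
  {𝒜 : ℤ → AddSubgroup R} [GradedRing 𝒜] {M : GrLC.GMod.{u} 𝒜} (E : GrLC.StarInjRes 𝒜 M.gr)

theorem prT_dT_succ (i : ℕ) (x : (totG E).carrier) :
    prT E (i + 1) (dT E x) = E.d i (prT E i x) := by
  refine sumG_induction (Z := fun n : ℕ => E.X n)
    (P := fun x => prT E (i + 1) (dT E x) = E.d i (prT E i x)) ?_ ?_ ?_ x
  · simp only [map_zero]
  · intro u v hu hv
    simp only [map_add, hu, hv]
  · intro j y
    show prT E (i + 1) (dT E (inT E j y)) = E.d i (prT E i (inT E j y))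
    rw [dT_inT]
    by_cases h : j = i
    · subst h
      rw [projG_lofG, projG_lofG]
    · rw [projG_lofG_ne _ (fun h' : i + 1 = j + 1 => h (by omega)),
        projG_lofG_ne _ (fun h' : i = j => h h'.symm), map_zero]

theorem prT_dT_zero (x : (totG E).carrier) : prT E 0 (dT E x) = 0 := by
  refine sumG_induction (Z := fun n : ℕ => E.X n)
    (P := fun x => prT E 0 (dT E x) = 0) ?_ ?_ ?_ x
  · simp only [map_zero]
  · intro u v hu hv
    simp only [map_add, hu, hv, add_zero]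
  · intro j y
    show prT E 0 (dT E (inT E j y)) = 0
    rw [dT_inT, projG_lofG_ne _ (fun h' : 0 = j + 1 => by omega)]

theorem inT_prT_of_mem {hk : ∀ c : k, algebraMap k R c ∈ 𝒜 0} {i : ℕ} {g : ℤ}
    {x : (totG E).carrier} (hx : x ∈ Fpg hk E i g) : inT E i (prT E i x) = x := by
  obtain ⟨y, _, rfl⟩ := hx
  rw [projG_lofG]

variable {p : SpParam 𝒜} (str : ∀ n, SpStr p (E.X n))

theorem prT_ρ (i : ℕ) (x : (totG E).carrier) :
    prT E i ((totStr E str).ρ x) = (str i).ρ (prT E i x) := rfl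

theorem prT_mem_cocyc (r : ℕ) {h : (totG E).carrier} (hρ : (totStr E str).ρ h = h)
    (hd : dT E h = 0) : prT E r h ∈ E.cocyc p.a r := by
  refine ⟨gam_map _ _ ((totStr E str).ρ_eq_self_iff.mp hρ), ?_⟩
  exact LinearMap.mem_ker.mpr (by rw [← prT_dT_succ, hd, map_zero])

theorem prT_dT_mem_cobdy (r : ℕ) {u : (totG E).carrier}
    (hu : u ∈ GrLC.gam p.a.toIdeal (totG E).carrier) : prT E r (dT E u) ∈ E.cobdy p.a r := by
  cases r with
  | zero =>
    rw [prT_dT_zero]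
    exact zero_mem _
  | succ i =>
    rw [prT_dT_succ]
    exact ⟨prT E i u, gam_map _ _ hu, rfl⟩

/-- A `k`-linear extension of the class map to the total module. -/
theorem exists_kappa (a : HomogeneousIdeal 𝒜) (r : ℕ) [Module k (E.H a r)]
    [IsScalarTower k R (E.H a r)] :
    ∃ κ : (totG E).carrier →ₗ[k] E.H a r,
      ∀ x (hx : prT E r x ∈ E.cocyc a r), κ x = E.toH a r ⟨prT E r x, hx⟩ := by
  letI : Module k (E.X r).carrier := Module.compHom _ (algebraMap k R)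
  let P : Submodule k (E.X r).carrier :=
    { carrier := E.cocyc a r
      add_mem' := fun ha hb => add_mem ha hb
      zero_mem' := zero_mem _
      smul_mem' := fun c x hx => (E.cocyc a r).smul_mem (algebraMap k R c) hx }
  let f : ↥P →ₗ[k] E.H a r :=
    { toFun := fun z => E.toH a r ⟨z.1, z.2⟩
      map_add' := fun z w => by
        rw [← map_add]
        rfl
      map_smul' := fun c z => by
        rw [RingHom.id_apply, ← algebraMap_smul R c (E.toH a r ⟨z.1, z.2⟩), ← map_smul]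
        rfl }
  obtain ⟨g, hg⟩ := LinearMap.exists_extend f
  refine ⟨{ toFun := fun x => g (prT E r x)
            map_add' := fun x y => by rw [map_add, map_add]
            map_smul' := fun c x => by
              rw [RingHom.id_apply, tot_smul_def, map_smul]
              exact map_smul g c _ }, fun x hx => ?_⟩
  exact LinearMap.congr_fun hg ⟨prT E r x, hx⟩

end total


/-! ### The class map on the complex of vector spaces -/

section kappaProps

variable {k : Type u} [Field k] {R : Type u} [CommRing R] [Algebra k R]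
  {𝒜 : ℤ → AddSubgroup R} [GradedRing 𝒜] (hk : ∀ c : k, algebraMap k R c ∈ 𝒜 0)
  {M : GrLC.GMod.{u} 𝒜} (E : GrLC.StarInjRes 𝒜 M.gr) {p : SpParam 𝒜}
  (str : ∀ n, SpStr p (E.X n)) (r : ℕ) [Module k (E.H p.a r)] [IsScalarTower k R (E.H p.a r)]
  (κ : (totG E).carrier →ₗ[k] E.H p.a r)
  (hK : ∀ x (hx : prT E r x ∈ E.cocyc p.a r), κ x = E.toH p.a r ⟨prT E r x, hx⟩)

include hK in
theorem kappa_dρ (x : (totG E).carrier) :
    κ ((cpx hk E str).d ((cpx hk E str).ρ x)) = 0 := by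
  show κ (dT E ((totStr E str).ρ x)) = 0
  have hcob := prT_dT_mem_cobdy E r ((totStr E str).tors x)
  have hcoc : prT E r (dT E ((totStr E str).ρ x)) ∈ E.cocyc p.a r :=
    prT_mem_cocyc E str r ((cpx hk E str).dρ x) (dT_dT E _)
  rw [hK _ hcoc]
  exact (Submodule.Quotient.mk_eq_zero
    ((E.cobdy p.a r).comap (E.cocyc p.a r).subtype)).mpr hcob

include hK in
theorem kappa_smul (c : R) (h : (totG E).carrier) (hρ : (totStr E str).ρ h = h)
    (hd : dT E h = 0) : κ (c • h) = c • κ h := by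
  have hcoc := prT_mem_cocyc E str r hρ hd
  have hcoc' : prT E r (c • h) ∈ E.cocyc p.a r := by
    rw [map_smul]
    exact Submodule.smul_mem _ c hcoc
  rw [hK _ hcoc, hK _ hcoc', ← map_smul]
  exact congrArg _ (Subtype.ext (map_smul _ _ _))

variable (Sp : (cpx hk E str).Split)

theorem EE_props {i : ℕ} {g : ℤ} {x : (totG E).carrier} (hx : x ∈ EE Sp i g) :
    x ∈ Fpg hk E i g ∧ (totStr E str).ρ x = x ∧ dT E x = 0 := by
  obtain ⟨h1, h2⟩ := (mem_EE_iff Sp).mp hx
  refine ⟨h1, ?_, ?_⟩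
  · have h := GCpxS.ρ_e Sp x
    rw [h2] at h
    exact h
  · have h := GCpxS.d_e Sp x
    rw [h2] at h
    exact h

theorem EE_eq_zero {i : ℕ} {g : ℤ} {x : (totG E).carrier} (hx : x ∈ EE Sp i g)
    (hc : prT E i x ∈ E.cocyc p.a i) (h0 : E.toH p.a i ⟨prT E i x, hc⟩ = 0) : x = 0 := by
  obtain ⟨hF, _, _⟩ := EE_props hk E str Sp hx
  have hcob : prT E i x ∈ E.cobdy p.a i :=
    (Submodule.Quotient.mk_eq_zero ((E.cobdy p.a i).comap (E.cocyc p.a i).subtype)).mp h0
  have hxi := inT_prT_of_mem E hF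
  obtain ⟨y, hy, hyx⟩ := hF
  have hpy : prT E i x = y := by rw [← hyx, projG_lofG]
  cases i with
  | zero =>
    have h : prT E 0 x = 0 := (Submodule.mem_bot R).mp hcob
    rw [← hxi, h, map_zero]
  | succ j =>
    obtain ⟨w, hw, hwe⟩ := hcob
    have hzg : E.d j w ∈ (E.X (j + 1)).gr g := by
      rw [hwe, hpy]
      exact hy
    obtain ⟨w', hw'1, hw'2, hw'3⟩ := exists_homogeneous_preimage p.a (Y0 := E.X j)
      (Y1 := E.X (j + 1)) (E.d j) (E.d_grHom j) hw hzg
    have hx' : x = (cpx hk E str).d (inT E j w') := by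
      show x = dT E (inT E j w')
      rw [dT_inT, hw'3, hwe, hxi]
    have hmem : inT E j w' ∈ (cpx hk E str).Xprev (j + 1) g :=
      (mem_cpx_X hk E str).mpr ⟨w', hw'2, hw'1, rfl⟩
    have h := GCpxS.e_d_of_mem_Xprev Sp hmem
    rw [← hx', ((mem_EE_iff Sp).mp hx).2] at h
    exact h

include hK in
theorem kappa_mem_hgr {i : ℕ} {g : ℤ} {x : (totG E).carrier} (hx : x ∈ EE Sp i g) :
    κ x ∈ E.Hgr p.a r g := by
  obtain ⟨hF, hρ, hd⟩ := EE_props hk E str Sp hx
  have hc := prT_mem_cocyc E str r hρ hd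
  rw [hK x hc]
  exact ⟨⟨prT E r x, hc⟩, projG_grHom _ r g x (Fpg_le_gr hk E hF), rfl⟩

include hK in
theorem kappa_injOn {g : ℤ} {x : (totG E).carrier} (hx : x ∈ EE Sp r g) (h0 : κ x = 0) :
    x = 0 := by
  obtain ⟨_, hρ, hd⟩ := EE_props hk E str Sp hx
  have hc := prT_mem_cocyc E str r hρ hd
  rw [hK x hc] at h0
  exact EE_eq_zero hk E str Sp hx hc h0

theorem EE_eq_bot {i : ℕ} (g : ℤ) (hv : Subsingleton (E.H p.a i)) : EE Sp i g = ⊥ := by
  rw [Submodule.eq_bot_iff]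
  intro x hx
  obtain ⟨_, hρ, hd⟩ := EE_props hk E str Sp hx
  exact EE_eq_zero hk E str Sp hx (prT_mem_cocyc E str i hρ hd) (Subsingleton.elim _ _)

/-- The pieces of the local cohomology as subspaces. -/
def HgrK (a : HomogeneousIdeal 𝒜) (i : ℕ) [Module k (E.H a i)] [IsScalarTower k R (E.H a i)]
    (g : ℤ) : Submodule k (E.H a i) where
  carrier := E.Hgr a i g
  add_mem' := fun ha hb => add_mem ha hb
  zero_mem' := zero_mem _
  smul_mem' := by
    rintro c _ ⟨z, hz, rfl⟩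
    refine ⟨algebraMap k R c • z, ksmul_mem_gr hk c hz, ?_⟩
    rw [map_smul, algebraMap_smul]

theorem mem_HgrK {a : HomogeneousIdeal 𝒜} {i : ℕ} [Module k (E.H a i)]
    [IsScalarTower k R (E.H a i)] {g : ℤ} {x : E.H a i} :
    x ∈ HgrK hk E a i g ↔ x ∈ E.Hgr a i g := Iff.rfl

end kappaProps

/-- Multiplication by a scalar of the big ring as a linear map over the field. -/
def mulL {k : Type u} [Field k] {R : Type u} [CommRing R] [Algebra k R] {X : Type u}
    [AddCommGroup X] [Module R X] [Module k X] [IsScalarTower k R X] (c : R) : X →ₗ[k] X :=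
  (c • (LinearMap.id : X →ₗ[R] X)).restrictScalars k

theorem mulL_apply {k : Type u} [Field k] {R : Type u} [CommRing R] [Algebra k R] {X : Type u}
    [AddCommGroup X] [Module R X] [Module k X] [IsScalarTower k R X] (c : R) (x : X) :
    mulL (k := k) c x = c • x := rfl

theorem act_eq_map {k : Type u} [Field k] {R S : Type u} [CommRing R] [CommRing S] [Algebra k R]
    [Algebra k S] {X Y : Type u} [AddCommGroup X] [Module R X] [Module k X] [IsScalarTower k R X]
    [AddCommGroup Y] [Module S Y] [Module k Y] [IsScalarTower k S Y] (a : R) (b : S) :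
    GrSeg.act k R S X Y (a ⊗ₜ[k] b) = TensorProduct.map (mulL a) (mulL b) := by
  apply TensorProduct.ext'
  intro x y
  rw [GrSeg.act_tmul, TensorProduct.map_tmul]
  rfl

theorem eq_zero_of_sum_mem {ι M : Type*} [DecidableEq ι] [AddCommGroup M]
    (ℳ : ι → AddSubgroup M) [DirectSum.Decomposition ℳ] (s : Finset ι) (f : ι → M)
    (hf : ∀ g, f g ∈ ℳ g) (h : ∑ g ∈ s, f g = 0) (g₀ : ι) (hg₀ : g₀ ∈ s) : f g₀ = 0 := by
  have h1 : ((DirectSum.decompose ℳ (∑ g ∈ s, f g)) g₀ : M) = f g₀ := by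
    rw [DirectSum.decompose_sum, DFinsupp.finset_sum_apply, AddSubmonoidClass.coe_finset_sum,
      Finset.sum_eq_single g₀]
    · exact DirectSum.decompose_of_mem_same ℳ (hf g₀)
    · intro g _ hne
      exact DirectSum.decompose_of_mem_ne ℳ (hf g) hne
    · intro h'
      exact absurd hg₀ h'
  rw [← h1, h, DirectSum.decompose_zero]
  rfl


/-! ### The local cohomology modules as bundled graded modules -/

section HG

variable {k : Type u} [Field k] {R : Type u} [CommRing R] [Algebra k R] [IsNoetherianRing R]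
  {𝒜 : ℤ → AddSubgroup R} [GradedRing 𝒜] {M : GrLC.GMod.{u} 𝒜}

/-- The graded local cohomology module as a bundled graded module. -/
abbrev HG (E : GrLC.StarInjRes 𝒜 M.gr) (a : HomogeneousIdeal 𝒜) (i : ℕ) : GrLC.GMod.{u} 𝒜 :=
  GrLC.GMod.of 𝒜 (E.H a i) (E.Hgr a i)

instance hgModK (E : GrLC.StarInjRes 𝒜 M.gr) (a : HomogeneousIdeal 𝒜) (i : ℕ)
    [inst : Module k (E.H a i)] : Module k (HG E a i).carrier := inst

instance hgTower (E : GrLC.StarInjRes 𝒜 M.gr) (a : HomogeneousIdeal 𝒜) (i : ℕ)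
    [Module k (E.H a i)] [inst : IsScalarTower k R (E.H a i)] :
    IsScalarTower k R (HG E a i).carrier := inst

end HG

/-! ### The comparison map -/

section main

variable {k : Type u} [Field k] {R S T : Type u} [CommRing R] [CommRing S] [CommRing T]
  [Algebra k R] [Algebra k S] [Algebra k T] [IsNoetherianRing R] [IsNoetherianRing S]
variable {𝒜 : ℤ → AddSubgroup R} [GradedRing 𝒜] {ℬ : ℤ → AddSubgroup S} [GradedRing ℬ]
  {𝒯 : ℤ → AddSubgroup T} [GradedRing 𝒯] {ψ : T →ₐ[k] R ⊗[k] S}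
variable {M : GrLC.GMod.{u} 𝒜} {N : GrLC.GMod.{u} ℬ}
  [Module k M.carrier] [IsScalarTower k R M.carrier]
  [Module k N.carrier] [IsScalarTower k S N.carrier]
variable (E : GrLC.StarInjRes 𝒜 M.gr) (E' : GrLC.StarInjRes ℬ N.gr)
variable (hψ : SegCtx 𝒜 ℬ 𝒯 ψ) {pR : SpParam 𝒜} {pS : SpParam ℬ}
  (str : ∀ n, SpStr pR (E.X n)) (str' : ∀ n, SpStr pS (E'.X n))
variable (r s : ℕ) [Module k (E.H pR.a r)] [IsScalarTower k R (E.H pR.a r)]
  [Module k (E'.H pS.a s)] [IsScalarTower k S (E'.H pS.a s)]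
variable (κ : (totG E).carrier →ₗ[k] E.H pR.a r) (κ' : (totG E').carrier →ₗ[k] E'.H pS.a s)

/-- The map `θ` for the two complexes of vector spaces. -/
abbrev thetaT : (totG E).carrier ⊗[k] (totG E').carrier →ₗ[k] (E.H pR.a r) ⊗[k] (E'.H pS.a s) :=
  theta (CR E hψ str) (CS E' hψ str') κ κ'

variable (hK : ∀ x (hx : prT E r x ∈ E.cocyc pR.a r), κ x = E.toH pR.a r ⟨prT E r x, hx⟩)
  (hK' : ∀ x (hx : prT E' s x ∈ E'.cocyc pS.a s), κ' x = E'.toH pS.a s ⟨prT E' s x, hx⟩)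

include hK hK' in
theorem theta_act (x : R ⊗[k] S) (z : (totG E).carrier ⊗[k] (totG E').carrier)
    (hQ : QQ (CR E hψ str) (CS E' hψ str') z = 0)
    (hd : DD (CR E hψ str) (CS E' hψ str') z = 0) :
    thetaT E E' hψ str str' r s κ κ' (GrSeg.act k R S _ _ x z) =
      GrSeg.act k R S (E.H pR.a r) (E'.H pS.a s) x (thetaT E E' hψ str str' r s κ κ' z) := by
  induction x using TensorProduct.induction_on with
  | zero => simp only [map_zero, LinearMap.zero_apply]
  | tmul a b =>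
    rw [act_eq_map, act_eq_map]
    exact theta_map (C := CR E hψ str) (C' := CS E' hψ str') (κ := κ) (κ' := κ')
      (mulL a) (mulL b) (mulL a) (mulL b)
      (fun x => (map_smul (dT E) a x).symm) (fun x => (map_smul (totStr E str).ρ a x).symm)
      (fun x => (map_smul (σT E) a x).symm) (fun y => (map_smul (dT E') b y).symm)
      (fun y => (map_smul (totStr E' str').ρ b y).symm)
      (kappa_dρ hψ.k𝒜 E str r κ hK) (kappa_dρ hψ.kℬ E' str' s κ' hK')
      (fun h hρ hd => kappa_smul E str r κ hK a h hρ hd)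
      (fun h hρ hd => kappa_smul E' str' s κ' hK' b h hρ hd) z hQ hd
  | add x y hx hy => simp only [map_add, LinearMap.add_apply, hx, hy]

section torsion

variable (mT : HomogeneousIdeal 𝒯)
  (hmT : mT.toIdeal = Ideal.span (⋃ n ∈ Set.Ioi (0 : ℤ), (𝒯 n : Set T)))
  (hmR : ∀ j : ℤ, 0 < j → ∀ r ∈ 𝒜 j, r ∈ pR.a.toIdeal)
  (hmS : ∀ j : ℤ, 0 < j → ∀ r ∈ ℬ j, r ∈ pS.a.toIdeal)
  (hD : pS.D = pR.D) (hDpos : 0 < pR.D)

include hmT hmR hmS hD hDpos in
theorem QQ_fT [IsNoetherianRing T] {n : ℕ} (u : (An E E' hψ n).carrier)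
    (hu : u ∈ GrLC.gam mT.toIdeal (An E E' hψ n).carrier) :
    QQ (CR E hψ str) (CS E' hψ str') (fT E E' hψ n u) = 0 := by
  have h2 : kmap (LinearMap.id - (totStr E str).ρ) (LinearMap.id - (totStr E' str').ρ)
      u.1.1 = 0 := by
    rw [← mem_gam_iff hψ mT hmT pR pS hmR hmS hD hDpos (totStr E str) (totStr E' str') u.1]
    exact (mem_gam_sub mT.toIdeal (LinearMap.range (Pn E E' hψ n)) u).mp hu
  rw [kmap_compl_eq E E' hψ str str'] at h2
  exact h2

theorem DD_fT_eq_zero {n : ℕ} (u : (An E E' hψ n).carrier) (hd : dn E E' hψ n u = 0) :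
    DD (CR E hψ str) (CS E' hψ str') (fT E E' hψ n u) = 0 := by
  rw [DD_fT, hd, map_zero]

include hK hK' hmT hmR hmS hD hDpos in
theorem theta_fT_mem_piece [IsNoetherianRing T] {n : ℕ} {g : ℤ} (u : (An E E' hψ n).carrier)
    (hu : u ∈ GrLC.gam mT.toIdeal (An E E' hψ n).carrier) (hd : dn E E' hψ n u = 0)
    (hg : u ∈ (An E E' hψ n).gr g) :
    thetaT E E' hψ str str' r s κ κ' (fT E E' hψ n u) ∈
      piece k (HG E pR.a r) (HG E' pS.a s) g := by
  obtain ⟨Sp⟩ := (CR E hψ str).nonempty_split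
  obtain ⟨Sp'⟩ := (CS E' hψ str').nonempty_split
  have hz : fT E E' hψ n u ∈ SupX E E' hψ str str' n g :=
    (mem_SupX_iff E E' hψ str str' mT hmT hmR hmS hD hDpos u).mpr ⟨hu, hg⟩
  have h := theta_mem_map₂ (kappa_dρ hψ.k𝒜 E str r κ hK) (kappa_dρ hψ.kℬ E' str' s κ' hK')
    Sp Sp' (HgrK hψ.k𝒜 E pR.a r g) (HgrK hψ.kℬ E' pS.a s g)
    (by
      rintro i _ ⟨x, hx, rfl⟩
      exact kappa_mem_hgr hψ.k𝒜 E str r κ hK Sp hx)
    (by
      rintro i _ ⟨x, hx, rfl⟩
      exact kappa_mem_hgr hψ.kℬ E' str' s κ' hK' Sp' hx)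
    _ hz (DD_fT_eq_zero E E' hψ str str' u hd)
  have hle : Submodule.map₂ (TensorProduct.mk k (E.H pR.a r) (E'.H pS.a s))
      (HgrK hψ.k𝒜 E pR.a r g) (HgrK hψ.kℬ E' pS.a s g) ≤
      piece k (HG E pR.a r) (HG E' pS.a s) g := by
    rw [Submodule.map₂_le]
    intro a ha b hb
    exact tmul_mem_piece (E.Hgr pR.a r) (E'.Hgr pS.a s) ha hb
  exact hle h

include hK hK' hmT hmR hmS hD hDpos in
theorem theta_fT_mem_segSub [IsNoetherianRing T] {n : ℕ} (u : (An E E' hψ n).carrier)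
    (hu : u ∈ GrLC.gam mT.toIdeal (An E E' hψ n).carrier) (hd : dn E E' hψ n u = 0) :
    thetaT E E' hψ str str' r s κ κ' (fT E E' hψ n u) ∈
      segSub k (HG E pR.a r) (HG E' pS.a s) := by
  classical
  have hhom := ZW_isHomogeneous mT (dn E E' hψ n) (dn_grHom E E' hψ n)
  have hu' : u ∈ ZW mT (dn E E' hψ n) := ⟨hu, hd⟩
  have hsum : thetaT E E' hψ str str' r s κ κ' (fT E E' hψ n u) =
      ∑ g ∈ (DirectSum.decompose (An E E' hψ n).gr u).support,
        thetaT E E' hψ str str' r s κ κ'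
          (fT E E' hψ n ((DirectSum.decompose (An E E' hψ n).gr u) g : (An E E' hψ n).carrier)) := by
    conv_lhs => rw [← DirectSum.sum_support_decompose (An E E' hψ n).gr u]
    rw [map_sum, map_sum]
  rw [hsum]
  refine sum_mem fun g _ => piece_le_segSub _ _ g ?_
  have hg := hhom g hu'
  exact theta_fT_mem_piece E E' hψ str str' r s κ κ' hK hK' mT hmT hmR hmS hD hDpos _ hg.1 hg.2
    (SetLike.coe_mem _)

include hK hK' hmT hmR hmS hD hDpos in
theorem exists_thZ [IsNoetherianRing T] (n : ℕ) :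
    ∃ Φ : ↥(ZW mT (dn E E' hψ n)) →ₗ[T] SegCar (HG E pR.a r) (HG E' pS.a s) hψ,
      ∀ u, (Φ u).1 = thetaT E E' hψ str str' r s κ κ' (fT E E' hψ n u.1) := by
  refine ⟨{ toFun := fun u => ⟨thetaT E E' hψ str str' r s κ κ' (fT E E' hψ n u.1),
              theta_fT_mem_segSub E E' hψ str str' r s κ κ' hK hK' mT hmT hmR hmS hD hDpos
                u.1 u.2.1 u.2.2⟩
            map_add' := fun u v => Subtype.ext (by
              show thetaT E E' hψ str str' r s κ κ' (fT E E' hψ n (u.1 + v.1)) = _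
              rw [map_add, map_add]
              rfl)
            map_smul' := fun t u => Subtype.ext (by
              show thetaT E E' hψ str str' r s κ κ'
                  (GrSeg.act k R S _ _ (ψ t) (fT E E' hψ n u.1)) =
                GrSeg.act k R S _ _ (ψ t) (thetaT E E' hψ str str' r s κ κ' (fT E E' hψ n u.1))
              exact theta_act E E' hψ str str' r s κ κ' hK hK' (ψ t) _
                (QQ_fT E E' hψ str str' mT hmT hmR hmS hD hDpos u.1 u.2.1)
                (DD_fT_eq_zero E E' hψ str str' u.1 u.2.2)) }, fun u => rfl⟩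

include hK hK' hmT hmR hmS hD hDpos in
theorem exists_thW [IsNoetherianRing T] (n : ℕ) :
    ∃ Φ : HW mT (dn E E' hψ n) (dn E E' hψ (n + 1)) →ₗ[T]
        SegCar (HG E pR.a r) (HG E' pS.a s) hψ,
      ∀ u : ↥(ZW mT (dn E E' hψ (n + 1))), (Φ (Submodule.Quotient.mk u)).1 =
        thetaT E E' hψ str str' r s κ κ' (fT E E' hψ (n + 1) u.1) := by
  obtain ⟨Φ, hΦ⟩ := exists_thZ E E' hψ str str' r s κ κ' hK hK' mT hmT hmR hmS hD hDpos (n + 1)
  have hB : BW mT (dn E E' hψ n) (dn E E' hψ (n + 1)) ≤ LinearMap.ker Φ := by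
    intro u hu
    obtain ⟨w, hw, hwu⟩ := hu
    rw [LinearMap.mem_ker]
    apply Subtype.ext
    rw [hΦ]
    show thetaT E E' hψ str str' r s κ κ' (fT E E' hψ (n + 1) u.1) = 0
    have hwu' : dn E E' hψ n w = u.1 := hwu
    rw [← hwu', ← DD_fT E E' hψ str str']
    exact theta_DD (kappa_dρ hψ.k𝒜 E str r κ hK) (kappa_dρ hψ.kℬ E' str' s κ' hK') _
      (QQ_fT E E' hψ str str' mT hmT hmR hmS hD hDpos w hw)
  exact ⟨(BW mT (dn E E' hψ n) (dn E E' hψ (n + 1))).liftQ Φ hB, fun u => hΦ u⟩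


variable (hkT : ∀ c : k, algebraMap k T c ∈ 𝒯 0)

include str str' hmT hmR hmS hD hDpos hkT in
/-- The top local cohomology of a Segre product is the Segre product of the top local
cohomologies, for special resolutions of the factors. -/
theorem theta_special [IsNoetherianRing T] (F : GrLC.StarInjRes 𝒯 (segG M N hψ).gr) (n : ℕ)
    (hrs : r + s = n + 2) (h2r : 2 ≤ r) (h2s : 2 ≤ s)
    (hvR : ∀ i, r < i → Subsingleton (E.H pR.a i))
    (hvS : ∀ j, s < j → Subsingleton (E'.H pS.a j)) :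
    ∃ Θ : F.H mT (n + 1) ≃ₗ[T] SegCar (HG E pR.a r) (HG E' pS.a s) hψ,
      ∀ (g : ℤ) (ξ : F.H mT (n + 1)), ξ ∈ F.Hgr mT (n + 1) g ↔
        Θ ξ ∈ (segG (HG E pR.a r) (HG E' pS.a s) hψ).gr g := by
  classical
  obtain ⟨κ, hK⟩ := exists_kappa (k := k) E pR.a r
  obtain ⟨κ', hK'⟩ := exists_kappa (k := k) E' pS.a s
  obtain ⟨Φ, hΦ⟩ := exists_thW E E' hψ str str' r s κ κ' hK hK' mT hmT hmR hmS hD hDpos n
  obtain ⟨Sp⟩ := (CR E hψ str).nonempty_split
  obtain ⟨Sp'⟩ := (CS E' hψ str').nonempty_split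
  have hκ := kappa_dρ hψ.k𝒜 E str r κ hK
  have hκ' := kappa_dρ hψ.kℬ E' str' s κ' hK'
  have hER : ∀ i g, r < i → EE Sp i g = ⊥ :=
    fun i g hi => EE_eq_bot hψ.k𝒜 E str Sp g (hvR i hi)
  have hES : ∀ j g, s < j → EE Sp' j g = ⊥ :=
    fun j g hj => EE_eq_bot hψ.kℬ E' str' Sp' g (hvS j hj)
  have hexR := isExact_cpx hψ.k𝒜 E str
  have hexS := isExact_cpx hψ.kℬ E' str'
  -- `Φ` is homogeneous
  have hgr : ∀ (g : ℤ) (ξ : HW mT (dn E E' hψ n) (dn E E' hψ (n + 1))),
      ξ ∈ HWgr mT (dn E E' hψ n) (dn E E' hψ (n + 1)) g →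
        Φ ξ ∈ (segG (HG E pR.a r) (HG E' pS.a s) hψ).gr g := by
    rintro g _ ⟨u, hu, rfl⟩
    show (Φ (Submodule.Quotient.mk u)).1 ∈ piece k (HG E pR.a r) (HG E' pS.a s) g
    rw [hΦ]
    exact theta_fT_mem_piece E E' hψ str str' r s κ κ' hK hK' mT hmT hmR hmS hD hDpos u.1
      u.2.1 u.2.2 hu
  -- injectivity on homogeneous classes
  have hinj0 : ∀ (g : ℤ) (u : ↥(ZW mT (dn E E' hψ (n + 1)))),
      u.1 ∈ (An E E' hψ (n + 1)).gr g →
      thetaT E E' hψ str str' r s κ κ' (fT E E' hψ (n + 1) u.1) = 0 →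
      (Submodule.Quotient.mk u : HW mT (dn E E' hψ n) (dn E E' hψ (n + 1))) = 0 := by
    intro g u hu h0
    have hz : fT E E' hψ (n + 1) u.1 ∈ SupX E E' hψ str str' (n + 1) g :=
      (mem_SupX_iff E E' hψ str str' mT hmT hmR hmS hD hDpos u.1).mpr ⟨u.2.1, hu⟩
    have hv : ∀ i j, i + j = n + 1 + 1 → (i, j) ≠ (r, s) →
        EE Sp i g = ⊥ ∨ EE Sp' j g = ⊥ := by
      intro i j hij hne
      by_cases hi : r < i
      · exact Or.inl (hER i g hi)
      · refine Or.inr (hES j g ?_)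
        by_contra hj
        apply hne
        have h1 : i = r := by omega
        have h2 : j = s := by omega
        rw [h1, h2]
    have hmem := mem_map_of_theta_eq_zero hκ hκ' Sp Sp' _ hz
      (DD_fT_eq_zero E E' hψ str str' u.1 u.2.2) h0
      (injOn_of_vanish Sp Sp' hv
        (fun x hx h => kappa_injOn hψ.k𝒜 E str r κ hK Sp hx h)
        (fun x hx h => kappa_injOn hψ.kℬ E' str' s κ' hK' Sp' hx h))
      (subsingleton_HT_left hexS Sp (n + 1) g (hER (n + 1) g (by omega)))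
      (subsingleton_HT_right hexR Sp' (n + 1) g (hES (n + 1) g (by omega)))
    obtain ⟨y, hy, hyz⟩ := hmem
    have hy' : y ∈ SupX E E' hψ str str' n g := hy
    obtain ⟨w, hwy, hwg, _⟩ :=
      exists_of_mem_SupX E E' hψ str str' mT hmT hmR hmS hD hDpos hy'
    rw [Submodule.Quotient.mk_eq_zero]
    refine ⟨w, hwg, fT_injective E E' hψ (n + 1) ?_⟩
    rw [← DD_fT E E' hψ str str', hwy]
    exact hyz
  -- injectivity
  have hinj : Function.Injective Φ := by
    rw [injective_iff_map_eq_zero]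
    intro ξ hξ
    obtain ⟨t, c, hc, rfl⟩ := HW_span mT (dn E E' hψ n) (dn E E' hψ (n + 1))
      (dn_grHom E E' hψ (n + 1)) ξ
    rw [map_sum] at hξ
    have hz : ∀ g ∈ t, Φ (c g) = 0 := fun g hg =>
      eq_zero_of_sum_mem (segG (HG E pR.a r) (HG E' pS.a s) hψ).gr t (fun g => Φ (c g))
        (fun g => hgr g _ (hc g)) hξ g hg
    refine Finset.sum_eq_zero fun g hg => ?_
    obtain ⟨u, hu, hcu⟩ := hc g
    rw [← hcu]
    apply hinj0 g u hu
    have h1 := hz g hg
    rw [← hcu] at h1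
    have h2 := congrArg Subtype.val h1
    rw [hΦ] at h2
    exact h2
  -- surjectivity onto the pieces
  have hsurj0 : ∀ (g : ℤ) (p : SegCar (HG E pR.a r) (HG E' pS.a s) hψ),
      p ∈ (segG (HG E pR.a r) (HG E' pS.a s) hψ).gr g →
      ∃ ξ ∈ HWgr mT (dn E E' hψ n) (dn E E' hψ (n + 1)) g, Φ ξ = p := by
    intro g p hp
    have hp' : p.1 ∈ piece k (HG E pR.a r) (HG E' pS.a s) g := hp
    have hkey : ∀ z ∈ piece k (HG E pR.a r) (HG E' pS.a s) g,
        ∃ ξ ∈ HWgr mT (dn E E' hψ n) (dn E E' hψ (n + 1)) g, (Φ ξ).1 = z := by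
      intro z hz
      refine piece_induction (E.Hgr pR.a r) (E'.Hgr pS.a s)
        (P := fun z => ∃ ξ ∈ HWgr mT (dn E E' hψ n) (dn E E' hψ (n + 1)) g, (Φ ξ).1 = z)
        ?_ ?_ ?_ ?_ hz
      · rintro _ ⟨y, hyg, rfl⟩ _ ⟨y', hyg', rfl⟩
        have hx : inT E r y.1 ∈ (CR E hψ str).X r g :=
          (mem_cpx_X hψ.k𝒜 E str).mpr ⟨y.1, hyg, y.2.1, rfl⟩
        have hdx : (CR E hψ str).d (inT E r y.1) = 0 := by
          show dT E (inT E r y.1) = 0
          rw [dT_inT, LinearMap.mem_ker.mp y.2.2, map_zero]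
        have hx' : inT E' s y'.1 ∈ (CS E' hψ str').X s g :=
          (mem_cpx_X hψ.kℬ E' str').mpr ⟨y'.1, hyg', y'.2.1, rfl⟩
        have hdx' : (CS E' hψ str').d (inT E' s y'.1) = 0 := by
          show dT E' (inT E' s y'.1) = 0
          rw [dT_inT, LinearMap.mem_ker.mp y'.2.2, map_zero]
        obtain ⟨z, hz, hdz, hth⟩ := exists_theta_eq hκ hκ' (n := n + 1) (p := r) (q := s)
          (by omega) hx hdx hx' hdx'
          (subsingleton_HT_left hexS Sp (n + 1 + 1) g (hER (n + 1 + 1) g (by omega)))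
          (subsingleton_HT_right hexR Sp' (n + 1 + 1) g (hES (n + 1 + 1) g (by omega)))
        obtain ⟨u, hu, hugam, hug⟩ :=
          exists_of_mem_SupX E E' hψ str str' mT hmT hmR hmS hD hDpos hz
        have hdu : dn E E' hψ (n + 1) u = 0 := by
          apply fT_injective E E' hψ (n + 1 + 1)
          rw [← DD_fT E E' hψ str str', hu, hdz]
          rfl
        refine ⟨Submodule.Quotient.mk ⟨u, hugam, hdu⟩, ⟨⟨u, hugam, hdu⟩, hug, rfl⟩, ?_⟩
        rw [hΦ]
        show thetaT E E' hψ str str' r s κ κ' (fT E E' hψ (n + 1) u) = _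
        rw [hu, hth]
        have hpr : prT E r (inT E r y.1) = y.1 := projG_lofG _ r y.1
        have hc : prT E r (inT E r y.1) ∈ E.cocyc pR.a r := by
          rw [hpr]
          exact y.2
        have hpr' : prT E' s (inT E' s y'.1) = y'.1 := projG_lofG _ s y'.1
        have hc' : prT E' s (inT E' s y'.1) ∈ E'.cocyc pS.a s := by
          rw [hpr']
          exact y'.2
        rw [hK _ hc, hK' _ hc']
        have e1 : (⟨prT E r (inT E r y.1), hc⟩ : ↥(E.cocyc pR.a r)) = y := Subtype.ext hpr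
        have e2 : (⟨prT E' s (inT E' s y'.1), hc'⟩ : ↥(E'.cocyc pS.a s)) = y' :=
          Subtype.ext hpr'
        rw [e1, e2]
      · exact ⟨0, zero_mem _, by rw [map_zero]; rfl⟩
      · rintro z z' ⟨ξ, hξ, h1⟩ ⟨ξ', hξ', h2⟩
        exact ⟨ξ + ξ', add_mem hξ hξ', by rw [map_add, add_val, h1, h2]; rfl⟩
      · rintro c z ⟨ξ, hξ, h1⟩
        refine ⟨algebraMap k T c • ξ, ?_, ?_⟩
        · obtain ⟨u, hu, rfl⟩ := hξ
          exact ⟨algebraMap k T c • u, ksmul_mem_gr hkT c hu, rfl⟩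
        · rw [map_smul, algebraMap_smul, ksmul_val, h1]
          rfl
    obtain ⟨ξ, hξ, h⟩ := hkey p.1 hp'
    exact ⟨ξ, hξ, Subtype.ext h⟩
  have hsurj' : ∀ p : (segG (HG E pR.a r) (HG E' pS.a s) hψ).carrier, ∃ ξ, Φ ξ = p := by
    intro p
    have hex : ∀ g : ℤ, ∃ ξ, Φ ξ = ((DirectSum.decompose
        (segG (HG E pR.a r) (HG E' pS.a s) hψ).gr p) g :
          (segG (HG E pR.a r) (HG E' pS.a s) hψ).carrier) := by
      intro g
      obtain ⟨ξ, _, h⟩ := hsurj0 g _ (SetLike.coe_mem _)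
      exact ⟨ξ, h⟩
    choose f hf using hex
    refine ⟨∑ g ∈ (DirectSum.decompose (segG (HG E pR.a r) (HG E' pS.a s) hψ).gr p).support,
      f g, ?_⟩
    rw [map_sum]
    conv_rhs => rw [← DirectSum.sum_support_decompose
      (segG (HG E pR.a r) (HG E' pS.a s) hψ).gr p]
    exact Finset.sum_congr rfl fun g _ => hf g
  have hsurj : Function.Surjective Φ := hsurj'
  -- assembly
  have hvan : ∀ (m l : ℕ) (g' : ℤ), VanX mT ((segRes E E' hψ str str').A m) (l + 1) g' :=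
    fun m l g' => vanX_An E E' hψ str str' mT hmT hmR hmS hD hDpos m l g'
  obtain ⟨e, he⟩ := exists_acycW_succ mT (segRes E E' hψ str str') F n hvan
    (Groth.Agent.Lib.R2H7.GrSocle.hgr_indep mT F (n + 1))
  let eΦ : HW mT (dn E E' hψ n) (dn E E' hψ (n + 1)) ≃ₗ[T]
      SegCar (HG E pR.a r) (HG E' pS.a s) hψ := LinearEquiv.ofBijective Φ ⟨hinj, hsurj⟩
  have hind : iSupIndep (segG (HG E pR.a r) (HG E' pS.a s) hψ).gr :=
    (DirectSum.Decomposition.isInternal
      (segG (HG E pR.a r) (HG E' pS.a s) hψ).gr).addSubgroup_iSupIndep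
  have hback : ∀ (g : ℤ) (ξ : HW mT (dn E E' hψ n) (dn E E' hψ (n + 1))),
      Φ ξ ∈ (segG (HG E pR.a r) (HG E' pS.a s) hψ).gr g →
        ξ ∈ HWgr mT (dn E E' hψ n) (dn E E' hψ (n + 1)) g := by
    intro g ξ hξ
    exact mem_of_map_mem (HWgr mT (dn E E' hψ n) (dn E E' hψ (n + 1)))
      (segG (HG E pR.a r) (HG E' pS.a s) hψ).gr Φ.toAddMonoidHom hinj
      (fun g x hx => hgr g x hx)
      (HW_span mT (dn E E' hψ n) (dn E E' hψ (n + 1)) (dn_grHom E E' hψ (n + 1))) hind hξ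
  refine ⟨e.symm.trans eΦ, fun g ξ => ?_⟩
  have h1 := he g (e.symm ξ)
  rw [LinearEquiv.apply_symm_apply] at h1
  show ξ ∈ F.Hgr mT (n + 1) g ↔ Φ (e.symm ξ) ∈ _
  rw [← h1]
  exact ⟨fun h => hgr g _ h, fun h => hback g _ h⟩

end torsion

end main

end Groth.Agent.Lib.R2H7.SegTheta
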