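/-
The top local cohomology of a Segre product as a Segre product of local cohomologies, for
arbitrary *injective resolutions of the factors:
`H^{r+s-1}_{T_+}(M # N) ≅ H^r_{R_+}(M) # H^s_{S_+}(N)` as graded `T`-modules when the local
cohomologies of `M` and `N` vanish above `r ≥ 2` and `s ≥ 2`.
-/
import Mathlib
import Groth.Agent.Lib.R2H7SegTheta
import Groth.Agent.Lib.R2H7SegFinal
import Groth.Agent.Lib.R2H7GrMinRes

set_option autoImplicit false
open DirectSum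
open scoped TensorProduct

noncomputable section

namespace Groth.Agent.Lib.R2H7.SegGen

open Groth.Agent.Lib.Helper29GrEss Groth.Agent.Lib.Helper29GrHom Groth.Agent.Lib.Helper29GrGam
  Groth.Agent.Lib.R2H7.GrBdry Groth.Agent.Lib.R2H7.GrDer Groth.Agent.Lib.R2H7.GrH
  Groth.Agent.Lib.R2H7.SegPres Groth.Agent.Lib.R2H7.SegSpecial
  Groth.Agent.Lib.R2H7.SegFinal Groth.Agent.Lib.R2H7.SegTheta Groth.Agent.Lib.R2H7.GrMinRes

universe u

variable {k : Type u} [Field k] {R S T : Type u} [CommRing R] [CommRing S] [CommRing T]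
  [Algebra k R] [Algebra k S] [Algebra k T]
variable {𝒜 : ℤ → AddSubgroup R} [GradedRing 𝒜] {ℬ : ℤ → AddSubgroup S} [GradedRing ℬ]
  {𝒯 : ℤ → AddSubgroup T} [GradedRing 𝒯] {ψ : T →ₐ[k] R ⊗[k] S}

section equiv

variable {X X' : GrLC.GMod.{u} 𝒜} {Y Y' : GrLC.GMod.{u} ℬ}
  [Module k X.carrier] [IsScalarTower k R X.carrier]
  [Module k X'.carrier] [IsScalarTower k R X'.carrier]
  [Module k Y.carrier] [IsScalarTower k S Y.carrier]
  [Module k Y'.carrier] [IsScalarTower k S Y'.carrier]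

theorem kmap_symm_kmap (f : X.carrier ≃ₗ[R] X'.carrier) (g : Y.carrier ≃ₗ[S] Y'.carrier)
    (z : X.carrier ⊗[k] Y.carrier) :
    kmap (k := k) f.symm.toLinearMap g.symm.toLinearMap
      (kmap (k := k) f.toLinearMap g.toLinearMap z) = z := by
  induction z using TensorProduct.induction_on with
  | zero => simp only [map_zero]
  | tmul x y =>
    show (f.symm (f x)) ⊗ₜ[k] (g.symm (g y)) = x ⊗ₜ[k] y
    rw [LinearEquiv.symm_apply_apply, LinearEquiv.symm_apply_apply]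
  | add a b ha hb => rw [map_add, map_add, ha, hb]

theorem kmap_kmap_symm (f : X.carrier ≃ₗ[R] X'.carrier) (g : Y.carrier ≃ₗ[S] Y'.carrier)
    (z : X'.carrier ⊗[k] Y'.carrier) :
    kmap (k := k) f.toLinearMap g.toLinearMap
      (kmap (k := k) f.symm.toLinearMap g.symm.toLinearMap z) = z := by
  induction z using TensorProduct.induction_on with
  | zero => simp only [map_zero]
  | tmul x y =>
    show (f (f.symm x)) ⊗ₜ[k] (g (g.symm y)) = x ⊗ₜ[k] y
    rw [LinearEquiv.apply_symm_apply, LinearEquiv.apply_symm_apply]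
  | add a b ha hb => rw [map_add, map_add, ha, hb]

variable (hψ : SegCtx 𝒜 ℬ 𝒯 ψ)

/-- The isomorphism of Segre products induced by a pair of homogeneous isomorphisms. -/
def segEquiv (f : X.carrier ≃ₗ[R] X'.carrier) (g : Y.carrier ≃ₗ[S] Y'.carrier)
    (hf : GrLC.IsGrHom X.gr X'.gr f.toLinearMap)
    (hf' : GrLC.IsGrHom X'.gr X.gr f.symm.toLinearMap)
    (hg : GrLC.IsGrHom Y.gr Y'.gr g.toLinearMap)
    (hg' : GrLC.IsGrHom Y'.gr Y.gr g.symm.toLinearMap) :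
    SegCar X Y hψ ≃ₗ[T] SegCar X' Y' hψ :=
  LinearEquiv.ofLinear (segMap₀ hψ f.toLinearMap g.toLinearMap hf hg)
    (segMap₀ hψ f.symm.toLinearMap g.symm.toLinearMap hf' hg')
    (LinearMap.ext fun p => Subtype.ext (kmap_kmap_symm f g p.1))
    (LinearMap.ext fun p => Subtype.ext (kmap_symm_kmap f g p.1))

theorem segEquiv_val (f : X.carrier ≃ₗ[R] X'.carrier) (g : Y.carrier ≃ₗ[S] Y'.carrier)
    (hf : GrLC.IsGrHom X.gr X'.gr f.toLinearMap)
    (hf' : GrLC.IsGrHom X'.gr X.gr f.symm.toLinearMap)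
    (hg : GrLC.IsGrHom Y.gr Y'.gr g.toLinearMap)
    (hg' : GrLC.IsGrHom Y'.gr Y.gr g.symm.toLinearMap) (p : SegCar X Y hψ) :
    (segEquiv hψ f g hf hf' hg hg' p).1 = kmap (k := k) f.toLinearMap g.toLinearMap p.1 := rfl

theorem segEquiv_symm_val (f : X.carrier ≃ₗ[R] X'.carrier) (g : Y.carrier ≃ₗ[S] Y'.carrier)
    (hf : GrLC.IsGrHom X.gr X'.gr f.toLinearMap)
    (hf' : GrLC.IsGrHom X'.gr X.gr f.symm.toLinearMap)
    (hg : GrLC.IsGrHom Y.gr Y'.gr g.toLinearMap)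
    (hg' : GrLC.IsGrHom Y'.gr Y.gr g.symm.toLinearMap) (p : SegCar X' Y' hψ) :
    ((segEquiv hψ f g hf hf' hg hg').symm p).1 =
      kmap (k := k) f.symm.toLinearMap g.symm.toLinearMap p.1 := rfl

theorem segEquiv_mem_iff (f : X.carrier ≃ₗ[R] X'.carrier) (g : Y.carrier ≃ₗ[S] Y'.carrier)
    (hf : GrLC.IsGrHom X.gr X'.gr f.toLinearMap)
    (hf' : GrLC.IsGrHom X'.gr X.gr f.symm.toLinearMap)
    (hg : GrLC.IsGrHom Y.gr Y'.gr g.toLinearMap)
    (hg' : GrLC.IsGrHom Y'.gr Y.gr g.symm.toLinearMap) (d : ℤ) (p : SegCar X Y hψ) :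
    p ∈ (segG X Y hψ).gr d ↔ segEquiv hψ f g hf hf' hg hg' p ∈ (segG X' Y' hψ).gr d := by
  constructor
  · intro hp
    exact segMap₀_grHom hψ f.toLinearMap g.toLinearMap hf hg d p hp
  · intro hp
    have h := segMap₀_grHom hψ f.symm.toLinearMap g.symm.toLinearMap hf' hg' d _ hp
    have e : segMap₀ hψ f.symm.toLinearMap g.symm.toLinearMap hf' hg'
        (segEquiv hψ f g hf hf' hg hg' p) = p :=
      (segEquiv hψ f g hf hf' hg hg').symm_apply_apply p
    rwa [e] at h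

end equiv

/-- The structure of vector space over the base field on a local cohomology module. -/
@[instance_reducible]
def hModK {M : GrLC.GMod.{u} 𝒜} (E : GrLC.StarInjRes 𝒜 M.gr) (a : HomogeneousIdeal 𝒜) (i : ℕ) :
    Module k (E.H a i) := Module.compHom _ (algebraMap k R)

theorem hTowerK {M : GrLC.GMod.{u} 𝒜} (E : GrLC.StarInjRes 𝒜 M.gr) (a : HomogeneousIdeal 𝒜)
    (i : ℕ) :
    letI := hModK (k := k) E a i
    IsScalarTower k R (E.H a i) :=
  letI := hModK (k := k) E a i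
  IsScalarTower.of_algebraMap_smul fun _ _ => rfl

/-- The top local cohomology of a Segre product is the Segre product of the top local
cohomologies of the factors. -/
theorem theta_AS (hψ : SegCtx 𝒜 ℬ 𝒯 ψ) [IsNoetherianRing R] [IsNoetherianRing S]
    [IsNoetherianRing T] (hkT : ∀ c : k, algebraMap k T c ∈ 𝒯 0)
    (mR : HomogeneousIdeal 𝒜)
    (hmR : mR.toIdeal = Ideal.span (⋃ n ∈ Set.Ioi (0 : ℤ), (𝒜 n : Set R)))
    (mS : HomogeneousIdeal ℬ)
    (hmS : mS.toIdeal = Ideal.span (⋃ n ∈ Set.Ioi (0 : ℤ), (ℬ n : Set S)))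
    (mT : HomogeneousIdeal 𝒯)
    (hmT : mT.toIdeal = Ideal.span (⋃ n ∈ Set.Ioi (0 : ℤ), (𝒯 n : Set T)))
    (M : GrLC.GMod.{u} 𝒜) (N : GrLC.GMod.{u} ℬ)
    [Module k M.carrier] [IsScalarTower k R M.carrier]
    [Module k N.carrier] [IsScalarTower k S N.carrier]
    (EM : GrLC.StarInjRes 𝒜 M.gr) (EN : GrLC.StarInjRes ℬ N.gr)
    (F : GrLC.StarInjRes 𝒯 (segG M N hψ).gr) (r s n : ℕ) (hrs : r + s = n + 2)
    (h2r : 2 ≤ r) (h2s : 2 ≤ s)
    [Module k (EM.H mR r)] [IsScalarTower k R (EM.H mR r)]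
    [Module k (EN.H mS s)] [IsScalarTower k S (EN.H mS s)]
    (hvR : ∀ i, r < i → Subsingleton (EM.H mR i))
    (hvS : ∀ j, s < j → Subsingleton (EN.H mS j)) :
    ∃ Θ : F.H mT (n + 1) ≃ₗ[T] SegCar (HG EM mR r) (HG EN mS s) hψ,
      ∀ (g : ℤ) (ξ : F.H mT (n + 1)), ξ ∈ F.Hgr mT (n + 1) g ↔
        Θ ξ ∈ (segG (HG EM mR r) (HG EN mS s) hψ).gr g := by
  obtain ⟨pR, pS, hpR, hpS, hD, hDpos⟩ := exists_common_params mR hmR mS hmS
  subst hpR hpS
  have hmR' : ∀ j : ℤ, 0 < j → ∀ r ∈ 𝒜 j, r ∈ pR.a.toIdeal := by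
    intro j hj r hr
    rw [hmR]
    exact Ideal.subset_span (Set.mem_iUnion₂.mpr ⟨j, hj, hr⟩)
  have hmS' : ∀ j : ℤ, 0 < j → ∀ r ∈ ℬ j, r ∈ pS.a.toIdeal := by
    intro j hj r hr
    rw [hmS]
    exact Ideal.subset_span (Set.mem_iUnion₂.mpr ⟨j, hj, hr⟩)
  letI mk1 : Module k ((spRes pR M).H pR.a r) := hModK (k := k) (spRes pR M) pR.a r
  haveI tw1 : IsScalarTower k R ((spRes pR M).H pR.a r) := hTowerK (k := k) (spRes pR M) pR.a r
  letI mk2 : Module k ((spRes pS N).H pS.a s) := hModK (k := k) (spRes pS N) pS.a s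
  haveI tw2 : IsScalarTower k S ((spRes pS N).H pS.a s) := hTowerK (k := k) (spRes pS N) pS.a s
  have hvR' : ∀ i, r < i → Subsingleton ((spRes pR M).H pR.a i) := fun i hi =>
    haveI := hvR i hi
    (hEquiv pR.a (spRes pR M) EM i).toEquiv.subsingleton
  have hvS' : ∀ j, s < j → Subsingleton ((spRes pS N).H pS.a j) := fun j hj =>
    haveI := hvS j hj
    (hEquiv pS.a (spRes pS N) EN j).toEquiv.subsingleton
  obtain ⟨Θ₀, hΘ₀⟩ := theta_special (spRes pR M) (spRes pS N) hψ (spResStr pR M) (spResStr pS N)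
    r s mT hmT hmR' hmS' hD hDpos hkT F n hrs h2r h2s hvR' hvS'
  have hf : GrLC.IsGrHom (HG (spRes pR M) pR.a r).gr (HG EM pR.a r).gr
      (hEquiv pR.a (spRes pR M) EM r).toLinearMap :=
    fun g x hx => hEquiv_mem pR.a (spRes pR M) EM r g hx
  have hf' : GrLC.IsGrHom (HG EM pR.a r).gr (HG (spRes pR M) pR.a r).gr
      (hEquiv pR.a (spRes pR M) EM r).symm.toLinearMap :=
    fun g x hx => hEquiv_symm_mem pR.a (spRes pR M) EM r g hx
  have hg : GrLC.IsGrHom (HG (spRes pS N) pS.a s).gr (HG EN pS.a s).gr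
      (hEquiv pS.a (spRes pS N) EN s).toLinearMap :=
    fun g x hx => hEquiv_mem pS.a (spRes pS N) EN s g hx
  have hg' : GrLC.IsGrHom (HG EN pS.a s).gr (HG (spRes pS N) pS.a s).gr
      (hEquiv pS.a (spRes pS N) EN s).symm.toLinearMap :=
    fun g x hx => hEquiv_symm_mem pS.a (spRes pS N) EN s g hx
  refine ⟨Θ₀.trans (segEquiv hψ (X := HG (spRes pR M) pR.a r) (X' := HG EM pR.a r)
      (Y := HG (spRes pS N) pS.a s) (Y' := HG EN pS.a s)
      (hEquiv pR.a (spRes pR M) EM r) (hEquiv pS.a (spRes pS N) EN s) hf hf' hg hg'),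
    fun g ξ => ?_⟩
  rw [hΘ₀ g ξ]
  exact segEquiv_mem_iff hψ (X := HG (spRes pR M) pR.a r) (X' := HG EM pR.a r)
      (Y := HG (spRes pS N) pS.a s) (Y' := HG EN pS.a s)
      (hEquiv pR.a (spRes pR M) EM r) (hEquiv pS.a (spRes pS N) EN s) hf hf' hg hg' g (Θ₀ ξ)

end Groth.Agent.Lib.R2H7.SegGen
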