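/-
Dual packages (`GrMatlis.DPack`) and Segre products: the Segre product of two graded modules
carrying dual packages in the same degree carries a dual package, and conversely.
-/
import Mathlib
import Groth.Agent.Lib.R2H7SegGen
import Groth.Agent.Lib.R2H7GrMatlis

set_option autoImplicit false
open DirectSum
open scoped TensorProduct

noncomputable section

namespace Groth.Agent.Lib.R2H7.SegDual

open Groth.Agent.Lib.Helper29GrEss Groth.Agent.Lib.Helper29GrHom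
  Groth.Agent.Lib.R2H7.GrBdry Groth.Agent.Lib.R2H7.SegPres Groth.Agent.Lib.R2H7.SegTheta
  Groth.Agent.Lib.R2H7.SegGen Groth.Agent.Lib.R2H7.GrMatlis

universe u

/-! ### Linear algebra of tensor products over a field -/

section LA

variable {k : Type u} [Field k] {V V' U U' : Type u} [AddCommGroup V] [Module k V]
  [AddCommGroup V'] [Module k V'] [AddCommGroup U] [Module k U] [AddCommGroup U'] [Module k U']

theorem tmul_ne_zero {x : V} {y : V'} (hx : x ≠ 0) (hy : y ≠ 0) : x ⊗ₜ[k] y ≠ 0 := by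
  obtain ⟨φ, hφ⟩ := Module.Projective.exists_dual_ne_zero k hx
  obtain ⟨φ', hφ'⟩ := Module.Projective.exists_dual_ne_zero k hy
  intro h
  have h1 : (TensorProduct.lid k k) (TensorProduct.map φ φ' (x ⊗ₜ[k] y)) = φ x * φ' y := by
    rw [TensorProduct.map_tmul, TensorProduct.lid_tmul, smul_eq_mul]
  rw [h, map_zero, map_zero] at h1
  exact mul_ne_zero hφ hφ' h1.symm

theorem rid_lTensor_rTensor (c : V' →ₗ[k] k) (f : V →ₗ[k] U) (z : V ⊗[k] V') :
    TensorProduct.rid k U (c.lTensor U (f.rTensor V' z)) =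
      f (TensorProduct.rid k V (c.lTensor V z)) := by
  induction z using TensorProduct.induction_on with
  | zero => simp only [map_zero]
  | tmul v v' =>
    simp only [LinearMap.rTensor_tmul, LinearMap.lTensor_tmul, TensorProduct.rid_tmul, map_smul]
  | add a b ha hb => simp only [map_add, ha, hb]

theorem lid_rTensor_lTensor (c : V →ₗ[k] k) (f : V' →ₗ[k] U') (z : V ⊗[k] V') :
    TensorProduct.lid k U' (c.rTensor U' (f.lTensor V z)) =
      f (TensorProduct.lid k V' (c.rTensor V' z)) := by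
  induction z using TensorProduct.induction_on with
  | zero => simp only [map_zero]
  | tmul v v' =>
    simp only [LinearMap.rTensor_tmul, LinearMap.lTensor_tmul, TensorProduct.lid_tmul, map_smul]
  | add a b ha hb => simp only [map_add, ha, hb]

/-- A jointly injective family of maps on the left factor detects nonzero tensors. -/
theorem exists_rTensor_ne {z : V ⊗[k] V'} (hz : z ≠ 0) (𝓕 : Set (V →ₗ[k] U))
    (hF : ∀ v : V, v ≠ 0 → ∃ f ∈ 𝓕, f v ≠ 0) : ∃ f ∈ 𝓕, LinearMap.rTensor V' f z ≠ 0 := by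
  classical
  let 𝒞 := Module.Free.chooseBasis k V'
  have h1 : TensorProduct.equivFinsuppOfBasisRight (M := V) 𝒞 z ≠ 0 :=
    fun h => hz ((LinearEquiv.map_eq_zero_iff _).mp h)
  obtain ⟨i, hi⟩ : ∃ i, TensorProduct.equivFinsuppOfBasisRight (M := V) 𝒞 z i ≠ 0 := by
    by_contra hcon
    push_neg at hcon
    exact h1 (Finsupp.ext hcon)
  rw [TensorProduct.equivFinsuppOfBasisRight_apply] at hi
  obtain ⟨f, hf, hfv⟩ := hF _ hi
  refine ⟨f, hf, fun h0 => hfv ?_⟩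
  rw [← rid_lTensor_rTensor, h0, map_zero, map_zero]

/-- A jointly injective family of maps on the right factor detects nonzero tensors. -/
theorem exists_lTensor_ne {z : V ⊗[k] V'} (hz : z ≠ 0) (𝓕 : Set (V' →ₗ[k] U'))
    (hF : ∀ v : V', v ≠ 0 → ∃ f ∈ 𝓕, f v ≠ 0) : ∃ f ∈ 𝓕, LinearMap.lTensor V f z ≠ 0 := by
  classical
  let 𝒞 := Module.Free.chooseBasis k V
  have h1 : TensorProduct.equivFinsuppOfBasisLeft (N := V') 𝒞 z ≠ 0 :=
    fun h => hz ((LinearEquiv.map_eq_zero_iff _).mp h)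
  obtain ⟨i, hi⟩ : ∃ i, TensorProduct.equivFinsuppOfBasisLeft (N := V') 𝒞 z i ≠ 0 := by
    by_contra hcon
    push_neg at hcon
    exact h1 (Finsupp.ext hcon)
  rw [TensorProduct.equivFinsuppOfBasisLeft_apply] at hi
  obtain ⟨f, hf, hfv⟩ := hF _ hi
  refine ⟨f, hf, fun h0 => hfv ?_⟩
  rw [← lid_rTensor_lTensor, h0, map_zero, map_zero]

/-- Jointly injective families of maps on the two factors detect nonzero tensors. -/
theorem exists_map_ne {z : V ⊗[k] V'} (hz : z ≠ 0) (𝓕 : Set (V →ₗ[k] U))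
    (hF : ∀ v : V, v ≠ 0 → ∃ f ∈ 𝓕, f v ≠ 0) (𝓕' : Set (V' →ₗ[k] U'))
    (hF' : ∀ v : V', v ≠ 0 → ∃ f ∈ 𝓕', f v ≠ 0) :
    ∃ f ∈ 𝓕, ∃ f' ∈ 𝓕', TensorProduct.map f f' z ≠ 0 := by
  obtain ⟨f, hf, h1⟩ := exists_rTensor_ne hz 𝓕 hF
  obtain ⟨f', hf', h2⟩ := exists_lTensor_ne h1 𝓕' hF'
  refine ⟨f, hf, f', hf', ?_⟩
  rw [← LinearMap.lTensor_comp_rTensor]
  exact h2

end LA

/-! ### Components and pieces -/

section pieces

variable {k : Type u} [Field k] {R S : Type u} [CommRing R] [CommRing S]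
  [Algebra k R] [Algebra k S]
variable {𝒜 : ℤ → AddSubgroup R} [GradedRing 𝒜] {ℬ : ℤ → AddSubgroup S} [GradedRing ℬ]
variable (X : GrLC.GMod.{u} 𝒜) (Y : GrLC.GMod.{u} ℬ)
  [Module k X.carrier] [IsScalarTower k R X.carrier]
  [Module k Y.carrier] [IsScalarTower k S Y.carrier]
variable (hk : ∀ c : k, algebraMap k R c ∈ 𝒜 0) (hk' : ∀ c : k, algebraMap k S c ∈ ℬ 0)

theorem exists_projK_ne {x : X.carrier} (hx : x ≠ 0) : ∃ j, projK X hk j x ≠ 0 := by
  classical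
  by_contra hcon
  push_neg at hcon
  apply hx
  rw [← DirectSum.sum_support_decompose X.gr x]
  exact Finset.sum_eq_zero fun j _ => hcon j

theorem map_projK_ne {s j j' : ℤ} (h : j ≠ s ∨ j' ≠ s) {z : X.carrier ⊗[k] Y.carrier}
    (hz : z ∈ piece k X Y s) : TensorProduct.map (projK X hk j) (projK Y hk' j') z = 0 := by
  refine piece_induction X.gr Y.gr
    (P := fun z => TensorProduct.map (projK X hk j) (projK Y hk' j') z = 0) ?_ ?_ ?_ ?_ hz
  · intro x hx y hy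
    rw [TensorProduct.map_tmul]
    rcases h with h | h
    · rw [projK_ne X hk (Ne.symm h) hx, TensorProduct.zero_tmul]
    · rw [projK_ne Y hk' (Ne.symm h) hy, TensorProduct.tmul_zero]
  · rw [map_zero]
  · intro z z' h1 h2
    rw [map_add, h1, h2, add_zero]
  · intro c z h1
    rw [map_smul, h1, smul_zero]

theorem map_projK_same {s : ℤ} {z : X.carrier ⊗[k] Y.carrier}
    (hz : z ∈ piece k X Y s) : TensorProduct.map (projK X hk s) (projK Y hk' s) z = z := by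
  refine piece_induction X.gr Y.gr
    (P := fun z => TensorProduct.map (projK X hk s) (projK Y hk' s) z = z) ?_ ?_ ?_ ?_ hz
  · intro x hx y hy
    rw [TensorProduct.map_tmul, projK_same X hk hx, projK_same Y hk' hy]
  · rw [map_zero]
  · intro z z' h1 h2
    rw [map_add, h1, h2]
  · intro c z h1
    rw [map_smul, h1]

/-- A nonzero element of a piece forces nonzero elements in the pieces of the factors. -/
theorem exists_ne_of_piece_ne {n : ℤ} {z : X.carrier ⊗[k] Y.carrier} (hz : z ∈ piece k X Y n)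
    (hz0 : z ≠ 0) : (∃ x ∈ X.gr n, x ≠ 0) ∧ (∃ y ∈ Y.gr n, y ≠ 0) := by
  constructor
  · by_contra hcon
    push_neg at hcon
    apply hz0
    refine piece_induction X.gr Y.gr (P := fun z => z = 0) ?_ rfl ?_ ?_ hz
    · intro x hx y _
      rw [hcon x hx, TensorProduct.zero_tmul]
    · intro z z' h1 h2
      rw [h1, h2, add_zero]
    · intro c z h1
      rw [h1, smul_zero]
  · by_contra hcon
    push_neg at hcon
    apply hz0
    refine piece_induction X.gr Y.gr (P := fun z => z = 0) ?_ rfl ?_ ?_ hz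
    · intro x _ y hy
      rw [hcon y hy, TensorProduct.tmul_zero]
    · intro z z' h1 h2
      rw [h1, h2, add_zero]
    · intro c z h1
      rw [h1, smul_zero]

end pieces

/-! ### The rings as graded modules over themselves -/

section ring

variable {k : Type u} [Field k] {R S : Type u} [CommRing R] [CommRing S]
  [Algebra k R] [Algebra k S]
variable (𝒜 : ℤ → AddSubgroup R) [GradedRing 𝒜] (ℬ : ℤ → AddSubgroup S) [GradedRing ℬ]

/-- The base field acts on the ring regarded as a graded module over itself. -/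
@[instance_reducible]
def rgModK : Module k (GrLC.GMod.of 𝒜 R 𝒜).carrier := inferInstanceAs (Module k R)

attribute [local instance] rgModK

theorem rgTower : IsScalarTower k R (GrLC.GMod.of 𝒜 R 𝒜).carrier :=
  inferInstanceAs (IsScalarTower k R R)

attribute [local instance] rgTower

variable (hk : ∀ c : k, algebraMap k R c ∈ 𝒜 0) (hk' : ∀ c : k, algebraMap k S c ∈ ℬ 0)

/-- The projection of the ring onto a homogeneous component, linearly over the base field. -/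
def projR (j : ℤ) : R →ₗ[k] R :=
  (projK (k := k) (GrLC.GMod.of 𝒜 R 𝒜) hk j :
    (GrLC.GMod.of 𝒜 R 𝒜).carrier →ₗ[k] (GrLC.GMod.of 𝒜 R 𝒜).carrier)

theorem projR_mem (j : ℤ) (r : R) : projR 𝒜 hk j r ∈ 𝒜 j :=
  projK_mem (GrLC.GMod.of 𝒜 R 𝒜) hk j r

theorem exists_projR_ne {r : R} (hr : r ≠ 0) : ∃ j, projR 𝒜 hk j r ≠ 0 :=
  exists_projK_ne (GrLC.GMod.of 𝒜 R 𝒜) hk hr

theorem map_projR_ne {s j j' : ℤ} (h : j ≠ s ∨ j' ≠ s) {z : R ⊗[k] S}
    (hz : z ∈ GrSeg.segrePiece k 𝒜 ℬ s) :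
    TensorProduct.map (projR 𝒜 hk j) (projR ℬ hk' j') z = 0 :=
  map_projK_ne (GrLC.GMod.of 𝒜 R 𝒜) (GrLC.GMod.of ℬ S ℬ) hk hk' h hz

theorem map_projR_same {s : ℤ} {z : R ⊗[k] S} (hz : z ∈ GrSeg.segrePiece k 𝒜 ℬ s) :
    TensorProduct.map (projR 𝒜 hk s) (projR ℬ hk' s) z = z :=
  map_projK_same (GrLC.GMod.of 𝒜 R 𝒜) (GrLC.GMod.of ℬ S ℬ) hk hk' hz

end ring

/-! ### The dual package of a Segre product -/

section dpack

variable {k : Type u} [Field k] {R S T : Type u} [CommRing R] [CommRing S] [CommRing T]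
  [Algebra k R] [Algebra k S] [Algebra k T]
variable {𝒜 : ℤ → AddSubgroup R} [GradedRing 𝒜] {ℬ : ℤ → AddSubgroup S} [GradedRing ℬ]
  {𝒯 : ℤ → AddSubgroup T} [GradedRing 𝒯] {ψ : T →ₐ[k] R ⊗[k] S}
variable (X : GrLC.GMod.{u} 𝒜) (Y : GrLC.GMod.{u} ℬ)
  [Module k X.carrier] [IsScalarTower k R X.carrier]
  [Module k Y.carrier] [IsScalarTower k S Y.carrier]

/-- Multiplication of a fixed element by scalars of the ring, linearly over the base field. -/
def smulR (y : X.carrier) : R →ₗ[k] X.carrier :=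
  (LinearMap.toSpanSingleton R X.carrier y).restrictScalars k

theorem smulR_apply (y : X.carrier) (r : R) : smulR (k := k) X y r = r • y := rfl

theorem map_smulR_eq_act (y : X.carrier) (y' : Y.carrier) (x : R ⊗[k] S) :
    TensorProduct.map (smulR (k := k) X y) (smulR (k := k) Y y') x =
      GrSeg.act k R S X.carrier Y.carrier x (y ⊗ₜ[k] y') := by
  induction x using TensorProduct.induction_on with
  | zero => simp only [map_zero, LinearMap.zero_apply]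
  | tmul a b =>
    rw [TensorProduct.map_tmul, GrSeg.act_tmul]
    rfl
  | add a b ha hb => rw [map_add, map_add, LinearMap.add_apply, ha, hb]

variable (hψ : SegCtx 𝒜 ℬ 𝒯 ψ)

/-- The Segre product of two modules with dual packages in the same degree has a dual
package. -/
theorem dpack_seg (hkT : ∀ c : k, algebraMap k T c ∈ 𝒯 0)
    (h0R : ∀ r ∈ 𝒜 0, ∃ c : k, algebraMap k R c = r)
    (h0S : ∀ r ∈ ℬ 0, ∃ c : k, algebraMap k S c = r)
    {c : ℤ} {ηX : X.carrier} {ηY : Y.carrier} (P : DPack 𝒜 X.gr c ηX) (Q : DPack ℬ Y.gr c ηY) :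
    ∃ η : (segG X Y hψ).carrier, η.1 = ηX ⊗ₜ[k] ηY ∧ DPack 𝒯 (segG X Y hψ).gr c η := by
  classical
  have hmem : ηX ⊗ₜ[k] ηY ∈ piece k X Y c := tmul_mem_piece X.gr Y.gr P.mem Q.mem
  let η : SegCar X Y hψ := ⟨ηX ⊗ₜ[k] ηY, piece_le_segSub X Y c hmem⟩
  refine ⟨η, rfl, ?_⟩
  let FX : Set (X.carrier →ₗ[k] X.carrier) :=
    {f | ∃ j, ∃ r ∈ 𝒜 (c - j), f = mulL (k := k) r ∘ₗ projK X hψ.k𝒜 j}
  let FY : Set (Y.carrier →ₗ[k] Y.carrier) :=
    {f | ∃ j, ∃ r ∈ ℬ (c - j), f = mulL (k := k) r ∘ₗ projK Y hψ.kℬ j}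
  have hFX : ∀ v : X.carrier, v ≠ 0 → ∃ f ∈ FX, f v ≠ 0 := by
    intro v hv
    obtain ⟨j, hj⟩ := exists_projK_ne X hψ.k𝒜 hv
    obtain ⟨r, hr, hr0, -⟩ := P.exists_smul_ne (projK_mem X hψ.k𝒜 j v) hj
    exact ⟨_, ⟨j, r, hr, rfl⟩, hr0⟩
  have hFY : ∀ v : Y.carrier, v ≠ 0 → ∃ f ∈ FY, f v ≠ 0 := by
    intro v hv
    obtain ⟨j, hj⟩ := exists_projK_ne Y hψ.kℬ hv
    obtain ⟨r, hr, hr0, -⟩ := Q.exists_smul_ne (projK_mem Y hψ.kℬ j v) hj
    exact ⟨_, ⟨j, r, hr, rfl⟩, hr0⟩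
  refine { mem := hmem, ne := ?_, gen := ?_, ess := ?_, faith := ?_ }
  · intro h
    exact tmul_ne_zero P.ne Q.ne (congrArg Subtype.val h)
  · intro y hy
    have key : ∀ z ∈ piece k X Y c, ∃ α : k, z = α • (ηX ⊗ₜ[k] ηY) := by
      intro z hz
      refine piece_induction X.gr Y.gr (P := fun z => ∃ α : k, z = α • (ηX ⊗ₜ[k] ηY))
        ?_ ?_ ?_ ?_ hz
      · intro x hx y' hy'
        obtain ⟨r, hr, hxr⟩ := P.gen x hx
        obtain ⟨r', hr', hyr⟩ := Q.gen y' hy'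
        obtain ⟨α, rfl⟩ := h0R r hr
        obtain ⟨β, rfl⟩ := h0S r' hr'
        refine ⟨α * β, ?_⟩
        rw [hxr, hyr, algebraMap_smul, algebraMap_smul, TensorProduct.smul_tmul_smul]
      · exact ⟨0, (zero_smul _ _).symm⟩
      · rintro z z' ⟨α, rfl⟩ ⟨β, rfl⟩
        exact ⟨α + β, (add_smul _ _ _).symm⟩
      · rintro a z ⟨α, rfl⟩
        exact ⟨a * α, (mul_smul _ _ _).symm⟩
    obtain ⟨α, hα⟩ := key (y : SegCar X Y hψ).1 hy
    refine ⟨algebraMap k T α, hkT α, ?_⟩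
    have e1 : algebraMap k T α • η = α • η := algebraMap_smul T α η
    have e2 : (y : SegCar X Y hψ) = α • η := by
      apply Subtype.ext
      rw [ksmul_val]
      exact hα
    exact e2.trans e1.symm
  · intro s z' hz' hz0
    obtain ⟨z, rfl⟩ : ∃ z : SegCar X Y hψ, z = z' := ⟨z', rfl⟩
    have hz : z.1 ∈ piece k X Y s := hz'
    have hz1 : z.1 ≠ 0 := fun h => hz0 (Subtype.ext h)
    obtain ⟨f, ⟨j, r, hr, rfl⟩, f', ⟨j', r', hr', rfl⟩, hne⟩ :=
      exists_map_ne hz1 FX hFX FY hFY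
    rw [TensorProduct.map_comp, LinearMap.comp_apply] at hne
    have hjj : j = s ∧ j' = s := by
      by_contra hcon
      have h1 : j ≠ s ∨ j' ≠ s := not_and_or.mp hcon
      rw [map_projK_ne X Y hψ.k𝒜 hψ.kℬ h1 hz, map_zero] at hne
      exact hne rfl
    obtain ⟨h1, h2⟩ := hjj
    rw [h1] at hr hne
    rw [h2] at hr' hne
    rw [map_projK_same X Y hψ.k𝒜 hψ.kℬ hz, ← act_eq_map] at hne
    obtain ⟨t, ht, hψt⟩ := hψ.ψ_surj (c - s) (r ⊗ₜ[k] r') (tmul_mem_piece 𝒜 ℬ hr hr')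
    refine ⟨c - s, t, ht, ?_, ?_⟩
    · intro h
      apply hne
      have h3 : GrSeg.act k R S X.carrier Y.carrier (ψ t) z.1 = 0 := congrArg Subtype.val h
      rw [hψt] at h3
      exact h3
    · have h3 := SetLike.GradedSMul.smul_mem (A := 𝒯) (B := (segG X Y hψ).gr) ht hz'
      rw [vadd_eq_add, sub_add_cancel] at h3
      exact h3
  · intro t ht0 u htu
    have hz0 : ψ t ≠ 0 := fun h => ht0 (hψ.ψ_inj (h.trans (map_zero ψ).symm))
    have hzp : ψ t ∈ GrSeg.segrePiece k 𝒜 ℬ u := hψ.ψ_mem u t htu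
    let GR : Set (R →ₗ[k] X.carrier) :=
      {f | ∃ j, ∃ y ∈ X.gr (c - j), f = smulR (k := k) X y ∘ₗ projR 𝒜 hψ.k𝒜 j}
    let GS : Set (S →ₗ[k] Y.carrier) :=
      {f | ∃ j, ∃ y ∈ Y.gr (c - j), f = smulR (k := k) Y y ∘ₗ projR ℬ hψ.kℬ j}
    have hGR : ∀ v : R, v ≠ 0 → ∃ f ∈ GR, f v ≠ 0 := by
      intro v hv
      obtain ⟨j, hj⟩ := exists_projR_ne 𝒜 hψ.k𝒜 hv
      obtain ⟨y, hy, hy0⟩ := P.exists_mem_smul_ne (projR_mem 𝒜 hψ.k𝒜 j v) hj
      exact ⟨_, ⟨j, y, hy, rfl⟩, hy0⟩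
    have hGS : ∀ v : S, v ≠ 0 → ∃ f ∈ GS, f v ≠ 0 := by
      intro v hv
      obtain ⟨j, hj⟩ := exists_projR_ne ℬ hψ.kℬ hv
      obtain ⟨y, hy, hy0⟩ := Q.exists_mem_smul_ne (projR_mem ℬ hψ.kℬ j v) hj
      exact ⟨_, ⟨j, y, hy, rfl⟩, hy0⟩
    obtain ⟨f, ⟨j, y, hy, rfl⟩, f', ⟨j', y', hy', rfl⟩, hne⟩ :=
      exists_map_ne hz0 GR hGR GS hGS
    rw [TensorProduct.map_comp, LinearMap.comp_apply] at hne
    have hjj : j = u ∧ j' = u := by
      by_contra hcon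
      have h1 : j ≠ u ∨ j' ≠ u := not_and_or.mp hcon
      rw [map_projR_ne 𝒜 ℬ hψ.k𝒜 hψ.kℬ h1 hzp, map_zero] at hne
      exact hne rfl
    obtain ⟨h1, h2⟩ := hjj
    rw [h1] at hy hne
    rw [h2] at hy' hne
    rw [map_projR_same 𝒜 ℬ hψ.k𝒜 hψ.kℬ hzp, map_smulR_eq_act] at hne
    refine ⟨⟨y ⊗ₜ[k] y', piece_le_segSub X Y (c - u) (tmul_mem_piece X.gr Y.gr hy hy')⟩,
      fun h => hne ?_⟩
    exact congrArg Subtype.val h

end dpack

/-! ### Transfer of a dual package along a homogeneous isomorphism -/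

section transfer

variable {T : Type u} [CommRing T] {𝒯 : ℤ → AddSubgroup T} [GradedRing 𝒯]
  {Y Y' : Type u} [AddCommGroup Y] [Module T Y] [AddCommGroup Y'] [Module T Y']
  {𝒴 : ℤ → AddSubgroup Y} {𝒴' : ℤ → AddSubgroup Y'}

theorem dpack_of_linearEquiv (Θ : Y ≃ₗ[T] Y') (hΘ : ∀ g ξ, ξ ∈ 𝒴 g ↔ Θ ξ ∈ 𝒴' g) {c : ℤ}
    {η' : Y'} (D : DPack 𝒯 𝒴' c η') : DPack 𝒯 𝒴 c (Θ.symm η') where
  mem := (hΘ c _).mpr (by rw [LinearEquiv.apply_symm_apply]; exact D.mem)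
  ne := fun h => D.ne (by
    have := congrArg Θ h
    rwa [LinearEquiv.apply_symm_apply, map_zero] at this)
  gen := by
    intro y hy
    obtain ⟨r, hr, hyr⟩ := D.gen (Θ y) ((hΘ c y).mp hy)
    refine ⟨r, hr, ?_⟩
    rw [← map_smul, ← hyr, LinearEquiv.symm_apply_apply]
  ess := by
    intro s y hy hy0
    have hy0' : Θ y ≠ 0 := fun h => hy0 (by
      have := congrArg Θ.symm h
      rwa [LinearEquiv.symm_apply_apply, map_zero] at this)
    obtain ⟨u, r, hr, h1, h2⟩ := D.ess s (Θ y) ((hΘ s y).mp hy) hy0'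
    refine ⟨u, r, hr, ?_, ?_⟩
    · intro h
      apply h1
      rw [← map_smul, h, map_zero]
    · rw [hΘ c, map_smul]
      exact h2
  faith := by
    intro r hr0 t hrt
    obtain ⟨y', hy'⟩ := D.faith r hr0 t hrt
    refine ⟨Θ.symm y', fun h => hy' ?_⟩
    have := congrArg Θ h
    rwa [map_smul, LinearEquiv.apply_symm_apply, map_zero] at this

end transfer

/-! ### From a dual package of a Segre product to dual packages of the factors -/

section converse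

variable {k : Type u} [Field k] {R S T : Type u} [CommRing R] [CommRing S] [CommRing T]
  [Algebra k R] [Algebra k S] [Algebra k T]
variable {𝒜 : ℤ → AddSubgroup R} [GradedRing 𝒜] {ℬ : ℤ → AddSubgroup S} [GradedRing ℬ]
  {𝒯 : ℤ → AddSubgroup T} [GradedRing 𝒯] {ψ : T →ₐ[k] R ⊗[k] S}
variable (X : GrLC.GMod.{u} 𝒜) (Y : GrLC.GMod.{u} ℬ)
  [Module k X.carrier] [IsScalarTower k R X.carrier]
  [Module k Y.carrier] [IsScalarTower k S Y.carrier]
variable (hψ : SegCtx 𝒜 ℬ 𝒯 ψ) (h0T : ∀ t ∈ 𝒯 0, ∃ c : k, algebraMap k T c = t)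
  {c : ℤ} {η : (segG X Y hψ).carrier} (D : DPack 𝒯 (segG X Y hψ).gr c η)

include D in
theorem exists_ne_of_dpack : (∃ x ∈ X.gr c, x ≠ 0) ∧ (∃ y ∈ Y.gr c, y ≠ 0) := by
  have hη1 : (η : SegCar X Y hψ).1 ∈ piece k X Y c := D.mem
  have hη0 : (η : SegCar X Y hψ).1 ≠ 0 := fun h => D.ne (Subtype.ext h)
  exact exists_ne_of_piece_ne X Y hη1 hη0

include h0T D in
theorem tmul_eq_smul_eta {x : X.carrier} {y : Y.carrier} (hx : x ∈ X.gr c) (hy : y ∈ Y.gr c) :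
    ∃ α : k, x ⊗ₜ[k] y = α • (η : SegCar X Y hψ).1 := by
  let z : SegCar X Y hψ := ⟨x ⊗ₜ[k] y, piece_le_segSub X Y c (tmul_mem_piece X.gr Y.gr hx hy)⟩
  have hz : z ∈ (segG X Y hψ).gr c := tmul_mem_piece X.gr Y.gr hx hy
  obtain ⟨t, ht, hzt⟩ := D.gen z hz
  obtain ⟨α, rfl⟩ := h0T t ht
  refine ⟨α, ?_⟩
  let η' : SegCar X Y hψ := η
  have hzt' : z = (algebraMap k T α) • η' := hzt
  rw [algebraMap_smul] at hzt'
  have h3 := congrArg Subtype.val hzt'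
  rw [ksmul_val] at h3
  exact h3

include h0T D in
/-- The top piece of the first factor is a line. -/
theorem exists_cyclic_left :
    ∃ x₀ ∈ X.gr c, x₀ ≠ 0 ∧ ∀ x ∈ X.gr c, ∃ α : k, x = α • x₀ := by
  obtain ⟨⟨x₀, hx₀, hx₀0⟩, ⟨y₀, hy₀, hy₀0⟩⟩ := exists_ne_of_dpack X Y hψ D
  refine ⟨x₀, hx₀, hx₀0, fun x hx => ?_⟩
  obtain ⟨α₀, hα₀⟩ := tmul_eq_smul_eta X Y hψ h0T D hx₀ hy₀
  obtain ⟨α, hα⟩ := tmul_eq_smul_eta X Y hψ h0T D hx hy₀
  have hα₀0 : α₀ ≠ 0 := by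
    intro h
    rw [h, zero_smul] at hα₀
    exact tmul_ne_zero hx₀0 hy₀0 hα₀
  refine ⟨α * α₀⁻¹, ?_⟩
  by_contra hne
  have hw : x - (α * α₀⁻¹) • x₀ ≠ 0 := fun h => hne (sub_eq_zero.mp h)
  apply tmul_ne_zero (k := k) hw hy₀0
  rw [TensorProduct.sub_tmul, ← TensorProduct.smul_tmul', hα, hα₀, smul_smul, mul_assoc,
    inv_mul_cancel₀ hα₀0, mul_one, sub_self]

include h0T D in
/-- The top piece of the second factor is a line. -/
theorem exists_cyclic_right :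
    ∃ y₀ ∈ Y.gr c, y₀ ≠ 0 ∧ ∀ y ∈ Y.gr c, ∃ α : k, y = α • y₀ := by
  obtain ⟨⟨x₀, hx₀, hx₀0⟩, ⟨y₀, hy₀, hy₀0⟩⟩ := exists_ne_of_dpack X Y hψ D
  refine ⟨y₀, hy₀, hy₀0, fun y hy => ?_⟩
  obtain ⟨α₀, hα₀⟩ := tmul_eq_smul_eta X Y hψ h0T D hx₀ hy₀
  obtain ⟨α, hα⟩ := tmul_eq_smul_eta X Y hψ h0T D hx₀ hy
  have hα₀0 : α₀ ≠ 0 := by
    intro h
    rw [h, zero_smul] at hα₀
    exact tmul_ne_zero hx₀0 hy₀0 hα₀
  refine ⟨α * α₀⁻¹, ?_⟩
  by_contra hne
  have hw : y - (α * α₀⁻¹) • y₀ ≠ 0 := fun h => hne (sub_eq_zero.mp h)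
  apply tmul_ne_zero (k := k) hx₀0 hw
  rw [TensorProduct.tmul_sub, TensorProduct.tmul_smul, hα, hα₀, smul_smul, mul_assoc,
    inv_mul_cancel₀ hα₀0, mul_one, sub_self]

theorem act_tmul_eq_zero_left {n : ℤ} {x : R ⊗[k] S} (hx : x ∈ GrSeg.segrePiece k 𝒜 ℬ n)
    (y : X.carrier) (y' : Y.carrier) (h : ∀ a ∈ 𝒜 n, a • y = 0) :
    GrSeg.act k R S X.carrier Y.carrier x (y ⊗ₜ[k] y') = 0 := by
  refine piece_induction 𝒜 ℬ
    (P := fun x => GrSeg.act k R S X.carrier Y.carrier x (y ⊗ₜ[k] y') = 0) ?_ ?_ ?_ ?_ hx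
  · intro a ha b _
    rw [GrSeg.act_tmul, h a ha, TensorProduct.zero_tmul]
  · rw [map_zero, LinearMap.zero_apply]
  · intro z z' h1 h2
    rw [map_add, LinearMap.add_apply, h1, h2, add_zero]
  · intro α z h1
    rw [map_smul, LinearMap.smul_apply, h1, smul_zero]

theorem act_tmul_eq_zero_right {n : ℤ} {x : R ⊗[k] S} (hx : x ∈ GrSeg.segrePiece k 𝒜 ℬ n)
    (y : X.carrier) (y' : Y.carrier) (h : ∀ b ∈ ℬ n, b • y' = 0) :
    GrSeg.act k R S X.carrier Y.carrier x (y ⊗ₜ[k] y') = 0 := by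
  refine piece_induction 𝒜 ℬ
    (P := fun x => GrSeg.act k R S X.carrier Y.carrier x (y ⊗ₜ[k] y') = 0) ?_ ?_ ?_ ?_ hx
  · intro a _ b hb
    rw [GrSeg.act_tmul, h b hb, TensorProduct.tmul_zero]
  · rw [map_zero, LinearMap.zero_apply]
  · intro z z' h1 h2
    rw [map_add, LinearMap.add_apply, h1, h2, add_zero]
  · intro α z h1
    rw [map_smul, LinearMap.smul_apply, h1, smul_zero]

include h0T D in
/-- The first factor of a Segre product with a dual package has a dual package. -/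
theorem dpack_left (hposR : ∀ n : ℤ, n < 0 → 𝒜 n = ⊥)
    (hneS : ∀ n : ℤ, 0 ≤ n → ∃ b ∈ ℬ n, b ≠ 0)
    (hXY : ∀ j : ℤ, (∃ x ∈ X.gr j, x ≠ 0) → ∃ y ∈ Y.gr j, y ≠ 0) :
    ∃ ηX, DPack 𝒜 X.gr c ηX := by
  obtain ⟨x₀, hx₀, hx₀0, hcyc⟩ := exists_cyclic_left X Y hψ h0T D
  refine ⟨x₀, { mem := hx₀, ne := hx₀0, gen := ?_, ess := ?_, faith := ?_ }⟩
  · intro x hx
    obtain ⟨α, hα⟩ := hcyc x hx
    exact ⟨algebraMap k R α, hψ.k𝒜 α, by rw [algebraMap_smul]; exact hα⟩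
  · intro s y hy hy0
    obtain ⟨y', hy', hy'0⟩ := hXY s ⟨y, hy, hy0⟩
    let z : SegCar X Y hψ :=
      ⟨y ⊗ₜ[k] y', piece_le_segSub X Y s (tmul_mem_piece X.gr Y.gr hy hy')⟩
    have hz : z ∈ (segG X Y hψ).gr s := tmul_mem_piece X.gr Y.gr hy hy'
    have hz0 : z ≠ 0 := fun h => tmul_ne_zero (k := k) hy0 hy'0 (congrArg Subtype.val h)
    obtain ⟨t, ht, htz, -⟩ := D.exists_smul_ne hz hz0
    have hex : ∃ a ∈ 𝒜 (c - s), a • y ≠ 0 := by
      by_contra hcon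
      push_neg at hcon
      apply htz
      apply Subtype.ext
      exact act_tmul_eq_zero_left X Y (hψ.ψ_mem _ t ht) y y' hcon
    obtain ⟨a, ha, hay⟩ := hex
    refine ⟨c - s, a, ha, hay, ?_⟩
    have h3 := SetLike.GradedSMul.smul_mem (A := 𝒜) (B := X.gr) ha hy
    rw [vadd_eq_add, sub_add_cancel] at h3
    exact h3
  · intro r hr0 t hrt
    have ht0 : 0 ≤ t := by
      by_contra hlt
      have h1 := hposR t (not_le.mp hlt)
      rw [h1] at hrt
      exact hr0 ((AddSubgroup.mem_bot).mp hrt)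
    obtain ⟨b, hb, hb0⟩ := hneS t ht0
    obtain ⟨τ, hτ, hψτ⟩ := hψ.ψ_surj t (r ⊗ₜ[k] b) (tmul_mem_piece 𝒜 ℬ hrt hb)
    have hτ0 : τ ≠ 0 := by
      intro h
      rw [h, map_zero] at hψτ
      exact tmul_ne_zero (k := k) hr0 hb0 hψτ.symm
    obtain ⟨z, hz⟩ := D.faith τ hτ0 t hτ
    by_contra hcon
    push_neg at hcon
    apply hz
    apply Subtype.ext
    show GrSeg.act k R S X.carrier Y.carrier (ψ τ) (z : SegCar X Y hψ).1 = 0
    have h1 : mulL (k := k) r = (0 : X.carrier →ₗ[k] X.carrier) := LinearMap.ext hcon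
    rw [hψτ, act_eq_map, h1, TensorProduct.map_zero_left, LinearMap.zero_apply]

include h0T D in
/-- The second factor of a Segre product with a dual package has a dual package. -/
theorem dpack_right (hposS : ∀ n : ℤ, n < 0 → ℬ n = ⊥)
    (hneR : ∀ n : ℤ, 0 ≤ n → ∃ a ∈ 𝒜 n, a ≠ 0)
    (hYX : ∀ j : ℤ, (∃ y ∈ Y.gr j, y ≠ 0) → ∃ x ∈ X.gr j, x ≠ 0) :
    ∃ ηY, DPack ℬ Y.gr c ηY := by
  obtain ⟨y₀, hy₀, hy₀0, hcyc⟩ := exists_cyclic_right X Y hψ h0T D
  refine ⟨y₀, { mem := hy₀, ne := hy₀0, gen := ?_, ess := ?_, faith := ?_ }⟩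
  · intro y hy
    obtain ⟨α, hα⟩ := hcyc y hy
    exact ⟨algebraMap k S α, hψ.kℬ α, by rw [algebraMap_smul]; exact hα⟩
  · intro s y' hy' hy'0
    obtain ⟨y, hy, hy0⟩ := hYX s ⟨y', hy', hy'0⟩
    let z : SegCar X Y hψ :=
      ⟨y ⊗ₜ[k] y', piece_le_segSub X Y s (tmul_mem_piece X.gr Y.gr hy hy')⟩
    have hz : z ∈ (segG X Y hψ).gr s := tmul_mem_piece X.gr Y.gr hy hy'
    have hz0 : z ≠ 0 := fun h => tmul_ne_zero (k := k) hy0 hy'0 (congrArg Subtype.val h)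
    obtain ⟨t, ht, htz, -⟩ := D.exists_smul_ne hz hz0
    have hex : ∃ b ∈ ℬ (c - s), b • y' ≠ 0 := by
      by_contra hcon
      push_neg at hcon
      apply htz
      apply Subtype.ext
      exact act_tmul_eq_zero_right X Y (hψ.ψ_mem _ t ht) y y' hcon
    obtain ⟨b, hb, hby⟩ := hex
    refine ⟨c - s, b, hb, hby, ?_⟩
    have h3 := SetLike.GradedSMul.smul_mem (A := ℬ) (B := Y.gr) hb hy'
    rw [vadd_eq_add, sub_add_cancel] at h3
    exact h3
  · intro r hr0 t hrt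
    have ht0 : 0 ≤ t := by
      by_contra hlt
      have h1 := hposS t (not_le.mp hlt)
      rw [h1] at hrt
      exact hr0 ((AddSubgroup.mem_bot).mp hrt)
    obtain ⟨a, ha, ha0⟩ := hneR t ht0
    obtain ⟨τ, hτ, hψτ⟩ := hψ.ψ_surj t (a ⊗ₜ[k] r) (tmul_mem_piece 𝒜 ℬ ha hrt)
    have hτ0 : τ ≠ 0 := by
      intro h
      rw [h, map_zero] at hψτ
      exact tmul_ne_zero (k := k) ha0 hr0 hψτ.symm
    obtain ⟨z, hz⟩ := D.faith τ hτ0 t hτ
    by_contra hcon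
    push_neg at hcon
    apply hz
    apply Subtype.ext
    show GrSeg.act k R S X.carrier Y.carrier (ψ τ) (z : SegCar X Y hψ).1 = 0
    have h1 : mulL (k := k) r = (0 : Y.carrier →ₗ[k] Y.carrier) := LinearMap.ext hcon
    rw [hψτ, act_eq_map, h1, TensorProduct.map_zero_right, LinearMap.zero_apply]

end converse

end Groth.Agent.Lib.R2H7.SegDual
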