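/-
Segre products of standard graded Cohen–Macaulay rings: the pieces of a standard graded ring of
positive dimension are non-zero, the criterion `a(R) < 0 ∧ a(S) < 0`, and the case `dim R = 1`
(`R # S` is Cohen–Macaulay iff `R` is a polynomial ring in one variable).
-/
import Mathlib
import Groth.Agent.Lib.R2H7SegCM
import Groth.Agent.Lib.R2H7GrAinvPoly
import Groth.Agent.Lib.R2H7GrAinvLow
import Groth.Agent.Lib.R2H7GrPres
import Groth.Agent.Lib.R2H7GrLinSeq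
import Groth.Agent.Lib.R2H7SegTotRB
import Groth.Agent.Lib.Helper13RegFinLen

set_option autoImplicit false
open DirectSum
open scoped TensorProduct

noncomputable section

namespace Groth.Agent.Lib.R2H7.SegStd

open Groth.Agent.Lib.R2H7.GrBdry Groth.Agent.Lib.R2H7.GrDer
  Groth.Agent.Lib.R2H7.SegConv Groth.Agent.Lib.R2H7.SegVan Groth.Agent.Lib.R2H7.SegRing
  Groth.Agent.Lib.R2H7.SegCM Groth.Agent.Lib.R2H7.GrPres Groth.Agent.Lib.R2H7.GrLen
  Groth.Agent.Lib.R2H7.GrBinom Groth.Agent.Lib.R2H7.GrSerre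

universe u

/-! ### Negativity of the end -/

theorem endDeg_neg_iff {G : Type u} [AddCommGroup G] (H : ℤ → AddSubgroup G) :
    GrLC.endDeg H < 0 ↔ ∀ j : ℤ, 0 ≤ j → H j = ⊥ := by
  constructor
  · intro h j hj
    by_contra hne
    have h1 : (((j : ℤ) : WithTop ℤ) : WithBot (WithTop ℤ)) ≤ GrLC.endDeg H :=
      le_iSup₂ (f := fun (n : ℤ) (_ : H n ≠ ⊥) => ((n : WithTop ℤ) : WithBot (WithTop ℤ))) j hne
    have h2 : (0 : WithBot (WithTop ℤ)) ≤ (((j : ℤ) : WithTop ℤ) : WithBot (WithTop ℤ)) :=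
      WithBot.coe_le_coe.mpr (WithTop.coe_le_coe.mpr hj)
    exact absurd (lt_of_le_of_lt (h2.trans h1) h) (lt_irrefl _)
  · intro h
    have h1 : GrLC.endDeg H ≤ (((-1 : ℤ) : WithTop ℤ) : WithBot (WithTop ℤ)) :=
      (endDeg_le_iff' H (-1)).mpr (fun j hj => h j (by omega))
    refine lt_of_le_of_lt h1 ?_
    exact WithBot.coe_lt_coe.mpr (WithTop.coe_lt_coe.mpr (by norm_num))

/-! ### Pieces of a standard graded ring -/

section std

variable {R : Type u} [CommRing R] {𝒜 : ℤ → AddSubgroup R} [GradedRing 𝒜]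

theorem piece_eq_bot_succ
    (hstd : Ideal.span (⋃ n ∈ Set.Ioi (0 : ℤ), (𝒜 n : Set R)) =
      Ideal.span ((𝒜 1 : AddSubgroup R) : Set R)) (n : ℤ) (hn : 0 ≤ n) (h : 𝒜 n = ⊥) :
    𝒜 (n + 1) = ⊥ := by
  rw [AddSubgroup.eq_bot_iff_forall]
  intro x hx
  obtain ⟨t, a, -, ha, rfl⟩ := exists_sum_mul hstd n hn x hx
  refine Finset.sum_eq_zero fun b _ => ?_
  have h1 : a b = 0 := by
    have h2 := ha b
    rw [h, AddSubgroup.mem_bot] at h2
    exact h2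
  rw [h1, zero_mul]

theorem piece_eq_bot_add
    (hstd : Ideal.span (⋃ n ∈ Set.Ioi (0 : ℤ), (𝒜 n : Set R)) =
      Ideal.span ((𝒜 1 : AddSubgroup R) : Set R)) (n : ℤ) (hn : 0 ≤ n) (h : 𝒜 n = ⊥) (j : ℕ) :
    𝒜 (n + j) = ⊥ := by
  induction j with
  | zero =>
    rw [Nat.cast_zero, add_zero]
    exact h
  | succ j ih =>
    have h1 := piece_eq_bot_succ hstd (n + j) (by omega) ih
    have h2 : n + ((j + 1 : ℕ) : ℤ) = n + j + 1 := by push_cast; ring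
    rw [h2]
    exact h1

/-- The pieces in non-negative degrees of a standard graded ring of positive dimension are
non-zero. -/
theorem piece_ne_bot (hpos : ∀ n : ℤ, n < 0 → 𝒜 n = ⊥)
    (hstd : Ideal.span (⋃ n ∈ Set.Ioi (0 : ℤ), (𝒜 n : Set R)) =
      Ideal.span ((𝒜 1 : AddSubgroup R) : Set R))
    (m : HomogeneousIdeal 𝒜) (hm : GrLC.IsStarLocal 𝒜 m)
    (hmsp : m.toIdeal = Ideal.span (⋃ n ∈ Set.Ioi (0 : ℤ), (𝒜 n : Set R)))
    (hdim : ¬ ringKrullDim R ≤ 0) (n : ℤ) (hn : 0 ≤ n) : 𝒜 n ≠ ⊥ := by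
  intro h
  apply hdim
  have hmax : m.toIdeal.IsMaximal := Groth.Agent.Lib.R2H7.GrHt.isMaximal_of_isCoatom 𝒜 hpos m hm.1
  have hnil : m.toIdeal ≤ nilradical R := by
    rw [hmsp, Ideal.span_le]
    intro x hx
    obtain ⟨j, hj, hxj⟩ := Set.mem_iUnion₂.mp hx
    have hj0 : 0 < j := hj
    have h1 : x ^ (n.toNat + 1) ∈ 𝒜 ((n.toNat + 1) • j) :=
      SetLike.pow_mem_graded (n.toNat + 1) hxj
    have hnn : ((n.toNat : ℕ) : ℤ) = n := Int.toNat_of_nonneg hn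
    have h2 : ((n.toNat + 1) • j : ℤ) = n + (((((n.toNat + 1 : ℕ) : ℤ) * j - n).toNat : ℕ) : ℤ) := by
      rw [nsmul_eq_mul, Int.toNat_of_nonneg]
      · ring
      · push_cast
        nlinarith
    rw [h2, piece_eq_bot_add hstd n hn h, AddSubgroup.mem_bot] at h1
    exact mem_nilradical.mpr ⟨_, h1⟩
  have hall : ∀ P : Ideal R, P.IsPrime → P.IsMaximal := by
    intro P hP
    have hle : m.toIdeal ≤ P := hnil.trans (nilradical_le_prime P)
    have h1 : m.toIdeal = P := hmax.eq_of_le hP.ne_top hle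
    rw [← h1]
    exact hmax
  have h1 : Ring.KrullDimLE 0 R := Ring.krullDimLE_zero_iff.mpr hall
  have h2 := Ring.krullDimLE_iff.mp h1
  rw [Nat.cast_zero] at h2
  exact h2

/-- The Krull dimension of a Noetherian *local graded ring is a natural number. -/
theorem exists_nat_dim [IsNoetherianRing R] (hpos : ∀ n : ℤ, n < 0 → 𝒜 n = ⊥)
    (m : HomogeneousIdeal 𝒜) (hm : GrLC.IsStarLocal 𝒜 m) :
    ∃ d : ℕ, ringKrullDim R = (d : WithBot ℕ∞) := by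
  have hne : m.toIdeal ≠ ⊤ := Groth.Agent.Lib.R2H7.GrHt.toIdeal_ne_top 𝒜 m hm.1
  haveI : Nontrivial R := by
    refine ⟨⟨0, 1, fun h => hne ((Ideal.eq_top_iff_one _).mpr ?_)⟩⟩
    rw [← h]
    exact zero_mem _
  have h1 := Groth.Agent.Lib.R2H7.GrHt.ringKrullDim_le_height 𝒜 hpos m hm
  obtain ⟨n, hn⟩ := ENat.ne_top_iff_exists.mp (Ideal.height_ne_top hne)
  rw [← hn] at h1
  have h0 : (0 : WithBot ℕ∞) ≤ ringKrullDim R := ringKrullDim_nonneg_of_nontrivial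
  cases hx : ringKrullDim R with
  | bot =>
    rw [hx] at h0
    exact absurd h0 (by simp)
  | coe y =>
    rw [hx] at h1
    have h2 : y ≤ (n : ℕ∞) := WithBot.coe_le_coe.mp h1
    obtain ⟨d, hd⟩ := ENat.ne_top_iff_exists.mp (ne_top_of_le_ne_top (ENat.coe_ne_top n) h2)
    exact ⟨d, by rw [← hd]; rfl⟩

end std

/-! ### A standard graded algebra over a field with the Hilbert function of a polynomial ring -/

section char

open MvPolynomial

variable {R : Type u} [CommRing R] {𝒜 : ℤ → AddSubgroup R} [GradedRing 𝒜]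

/-- Variant of `GrPres.nonempty_ringEquiv_of_hilbert` producing an isomorphism of algebras over
the degree zero subring. -/
theorem nonempty_algEquiv_of_hilbert [IsNoetherianRing R] (hpos : ∀ n : ℤ, n < 0 → 𝒜 n = ⊥)
    (hstd : Ideal.span (⋃ n ∈ Set.Ioi (0 : ℤ), (𝒜 n : Set R)) =
      Ideal.span ((𝒜 1 : AddSubgroup R) : Set R))
    (h0 : IsField (GrLC.deg0 𝒜)) (r : ℕ)
    (hH : ∀ n : ℤ, 0 ≤ n → lenQ (GrLC.deg0 𝒜) ↥(GrLC.comp 𝒜 𝒜 n) = hS r n) :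
    Nonempty (MvPolynomial (Fin r) (GrLC.deg0 𝒜) ≃ₐ[GrLC.deg0 𝒜] R) := by
  classical
  let _ : Field (GrLC.deg0 𝒜) := h0.toField
  have hart : IsArtinianRing (GrLC.deg0 𝒜) := inferInstance
  have hfin : ∀ n : ℤ, Module.Finite (GrLC.deg0 𝒜) ↥(GrLC.comp 𝒜 𝒜 n) := by
    intro n
    have hfinR : Module.Finite R (GrLC.GMod.of 𝒜 R 𝒜).carrier :=
      inferInstanceAs (Module.Finite R R)
    have hfl : IsFiniteLength (GrLC.deg0 𝒜) ↥(GrLC.comp 𝒜 𝒜 n) :=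
      fl_comp hpos (GrLC.GMod.of 𝒜 R 𝒜) n
    have hnoeth := (isFiniteLength_iff_isNoetherian_isArtinian.mp hfl).1
    exact Module.IsNoetherian.finite _ _
  have hrank : ∀ n : ℕ, Module.finrank (GrLC.deg0 𝒜) ↥(GrLC.comp 𝒜 𝒜 (n : ℤ)) =
      (r + n - 1).choose n := by
    intro n
    have h1 := hH (n : ℤ) (by omega)
    rw [lenQ_eq_finrank, hS_natCast] at h1
    exact_mod_cast h1
  have h1 : Module.finrank (GrLC.deg0 𝒜) ↥(GrLC.comp 𝒜 𝒜 ((1 : ℕ) : ℤ)) = r := by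
    rw [hrank 1, Nat.add_sub_cancel, Nat.choose_one_right]
  have hfin1 := hfin ((1 : ℕ) : ℤ)
  let b := Module.finBasisOfFinrankEq (GrLC.deg0 𝒜) ↥(GrLC.comp 𝒜 𝒜 ((1 : ℕ) : ℤ)) h1
  have hy : ∀ i, ((b i : ↥(GrLC.comp 𝒜 𝒜 ((1 : ℕ) : ℤ))) : R) ∈ 𝒜 1 := by
    intro i
    have := (b i).2
    have e1 : ((1 : ℕ) : ℤ) = 1 := Nat.cast_one
    rw [← e1]
    exact this
  have hspan : ∀ x ∈ 𝒜 1, x ∈ Submodule.span (GrLC.deg0 𝒜)
      (Set.range fun i => ((b i : ↥(GrLC.comp 𝒜 𝒜 ((1 : ℕ) : ℤ))) : R)) := by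
    intro x hx
    have e1 : ((1 : ℕ) : ℤ) = 1 := Nat.cast_one
    have hx' : x ∈ GrLC.comp 𝒜 𝒜 ((1 : ℕ) : ℤ) := by
      rw [e1]
      exact hx
    have h2 : (Submodule.span (GrLC.deg0 𝒜) (Set.range b)).map
        (GrLC.comp 𝒜 𝒜 ((1 : ℕ) : ℤ)).subtype =
        Submodule.span (GrLC.deg0 𝒜)
          (Set.range fun i => ((b i : ↥(GrLC.comp 𝒜 𝒜 ((1 : ℕ) : ℤ))) : R)) := by
      rw [Submodule.map_span, ← Set.range_comp]
      rfl
    rw [← h2, b.span_eq]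
    exact ⟨⟨x, hx'⟩, Submodule.mem_top, rfl⟩
  have hsurj := phi_surjective hpos hstd hspan
  have hinj : Function.Injective
      (phi 𝒜 fun i => ((b i : ↥(GrLC.comp 𝒜 𝒜 ((1 : ℕ) : ℤ))) : R)) := by
    refine phi_injective 𝒜 hy fun n p hp hpz => ?_
    have hfd1 : Module.Finite (GrLC.deg0 𝒜)
        ↥(homogeneousSubmodule (Fin r) (GrLC.deg0 𝒜) n) := finite_homog _ r n
    have hfd2 := hfin (n : ℤ)
    have heq : Module.finrank (GrLC.deg0 𝒜) ↥(homogeneousSubmodule (Fin r) (GrLC.deg0 𝒜) n) =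
        Module.finrank (GrLC.deg0 𝒜) ↥(GrLC.comp 𝒜 𝒜 (n : ℤ)) := by
      rw [finrank_homog, hrank n]
    have hiff := @LinearMap.injective_iff_surjective_of_finrank_eq_finrank (GrLC.deg0 𝒜)
      ↥(homogeneousSubmodule (Fin r) (GrLC.deg0 𝒜) n) _ _ _ ↥(GrLC.comp 𝒜 𝒜 (n : ℤ)) _ _ _ _ heq
      (phiN hy n)
    have hi : Function.Injective (phiN hy n) := hiff.mpr (phiN_surjective hy hstd hspan n)
    have h3 : phiN hy n ⟨p, (mem_homogeneousSubmodule n p).mpr hp⟩ = 0 := Subtype.ext hpz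
    have h4 := hi (h3.trans (map_zero _).symm)
    exact congrArg Subtype.val h4
  exact ⟨AlgEquiv.ofBijective (phi 𝒜 _) ⟨hinj, hsurj⟩⟩

end char

/-! ### From algebras over the degree zero subring to algebras over the field -/

section alg

open Groth.Agent.Lib.R2H7.SegTotRB

variable {k : Type u} [Field k] {R : Type u} [CommRing R] [Algebra k R]
  {𝒜 : ℤ → AddSubgroup R} [GradedRing 𝒜]
  (hk : ∀ c : k, algebraMap k R c ∈ 𝒜 0) (h0 : ∀ r ∈ 𝒜 0, ∃ c : k, algebraMap k R c = r)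
  (hinj : Function.Injective (algebraMap k R))

include hk h0 hinj in
theorem nonempty_algEquiv_polynomial
    (e : MvPolynomial (Fin 1) (GrLC.deg0 𝒜) ≃ₐ[GrLC.deg0 𝒜] R) :
    Nonempty (R ≃ₐ[k] Polynomial k) := by
  let σ : GrLC.deg0 𝒜 ≃+* k := deg0Equiv hk h0 hinj
  letI : Algebra k (GrLC.deg0 𝒜) := (σ.symm : k →+* GrLC.deg0 𝒜).toAlgebra
  have hσ : ∀ c : k, ((σ.symm c : GrLC.deg0 𝒜) : R) = algebraMap k R c := by
    intro c
    have h1 := deg0Equiv_algebraMap hk h0 hinj (σ.symm c)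
    have h2 : deg0Equiv hk h0 hinj (σ.symm c) = c := σ.apply_symm_apply c
    rw [h2] at h1
    exact h1.symm
  haveI : IsScalarTower k (GrLC.deg0 𝒜) R :=
    IsScalarTower.of_algebraMap_eq (fun c => (hσ c).symm)
  let σa : k ≃ₐ[k] GrLC.deg0 𝒜 := AlgEquiv.ofRingEquiv (f := σ.symm) (fun c => rfl)
  let e1 : MvPolynomial (Fin 1) (GrLC.deg0 𝒜) ≃ₐ[k] R := e.restrictScalars k
  let e2 : MvPolynomial (Fin 1) k ≃ₐ[k] MvPolynomial (Fin 1) (GrLC.deg0 𝒜) :=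
    MvPolynomial.mapAlgEquiv (Fin 1) σa
  let e3 : MvPolynomial (Fin 1) k ≃ₐ[k] Polynomial k := MvPolynomial.uniqueAlgEquiv k (Fin 1)
  exact ⟨e1.symm.trans (e2.symm.trans e3)⟩

include hk h0 hinj in
theorem nonempty_ringEquiv_of_algEquiv (e : R ≃ₐ[k] Polynomial k) :
    Nonempty (R ≃+* MvPolynomial (Fin 1) (GrLC.deg0 𝒜)) :=
  ⟨e.toRingEquiv.trans ((MvPolynomial.uniqueAlgEquiv k (Fin 1)).symm.toRingEquiv.trans
    (MvPolynomial.mapEquiv (Fin 1) (deg0Equiv hk h0 hinj).symm))⟩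

end alg

/-! ### Gradings by subspaces over a field -/

section field

variable (k : Type u) [Field k] (R : Type u) [CommRing R] [Algebra k R]
  (𝒜 : ℤ → Submodule k R) [GradedAlgebra 𝒜]

variable {k R} in
theorem hstd_toAS
    (hstd : Ideal.span (⋃ n ∈ Set.Ioi (0 : ℤ), (𝒜 n : Set R)) =
      Ideal.span ((𝒜 1 : Submodule k R) : Set R)) :
    Ideal.span (⋃ n ∈ Set.Ioi (0 : ℤ), (toAS 𝒜 n : Set R)) =
      Ideal.span ((toAS 𝒜 1 : AddSubgroup R) : Set R) := hstd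

/-- The pieces in non-negative degrees of a standard graded algebra of positive dimension over a
field are non-zero. -/
theorem piece_ne_bot_sub [Nontrivial R] (hpos : ∀ n : ℤ, n < 0 → 𝒜 n = ⊥)
    (h0 : 𝒜 0 = Submodule.span k {(1 : R)})
    (hstd : Ideal.span (⋃ n ∈ Set.Ioi (0 : ℤ), (𝒜 n : Set R)) =
      Ideal.span ((𝒜 1 : Submodule k R) : Set R))
    (hdim : ¬ ringKrullDim R ≤ 0) (n : ℤ) (hn : 0 ≤ n) : 𝒜 n ≠ ⊥ := by
  have hpR := pos_toAS 𝒜 hpos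
  have hfR := isField_deg0 𝒜 (zero_toAS 𝒜 h0) (algebraMap k R).injective
  have hm := isStarLocal_of_irrelevant 𝒜 hpR hfR (irrIdeal 𝒜) (irrIdeal_toIdeal 𝒜)
  have h1 := piece_ne_bot hpR (hstd_toAS 𝒜 hstd) (convIdeal 𝒜 (irrIdeal 𝒜)) hm
    (irrIdeal_toIdeal 𝒜) hdim n hn
  intro h
  apply h1
  ext x
  rw [mem_toAS, h, Submodule.mem_bot, AddSubgroup.mem_bot]

end field

/-! ### The criteria -/

/-- The Segre product of standard graded Cohen–Macaulay rings of dimensions at least two is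
Cohen–Macaulay if and only if both a-invariants are negative. -/
theorem std_cm_iff (k : Type u) [Field k] (R : Type u) [CommRing R] [Algebra k R]
    (𝒜 : ℤ → Submodule k R) [GradedAlgebra 𝒜]
    (hposR : ∀ n : ℤ, n < 0 → 𝒜 n = ⊥) (h0R : 𝒜 0 = Submodule.span k {(1 : R)})
    [Algebra.FiniteType k R] (S : Type u) [CommRing S] [Algebra k S]
    (ℬ : ℤ → Submodule k S) [GradedAlgebra ℬ] (hposS : ∀ n : ℤ, n < 0 → ℬ n = ⊥)
    (h0S : ℬ 0 = Submodule.span k {(1 : S)}) [Algebra.FiniteType k S] (T : Type u) [CommRing T]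
    [Algebra k T] (𝒯 : ℤ → Submodule k T) [GradedAlgebra 𝒯] (ψ : T →ₐ[k] TensorProduct k R S)
    (hψ : Function.Injective ψ)
    (hdegT : ∀ n : ℤ, (𝒯 n).map ψ.toLinearMap =
      Submodule.span k {x : TensorProduct k R S | ∃ a ∈ 𝒜 n, ∃ b ∈ ℬ n, x = a ⊗ₜ[k] b})
    [LocCoh.IsCohenMacaulayRing R] [LocCoh.IsCohenMacaulayRing S]
    (mR : HomogeneousIdeal 𝒜)
    (hmR : mR.toIdeal = Ideal.span (⋃ n ∈ Set.Ioi (0 : ℤ), (𝒜 n : Set R)))
    (hstdR : Ideal.span (⋃ n ∈ Set.Ioi (0 : ℤ), (𝒜 n : Set R)) =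
      Ideal.span ((𝒜 1 : Submodule k R) : Set R))
    (I : GrLC.StarInjRes 𝒜 𝒜) (mS : HomogeneousIdeal ℬ)
    (hmS : mS.toIdeal = Ideal.span (⋃ n ∈ Set.Ioi (0 : ℤ), (ℬ n : Set S)))
    (hstdS : Ideal.span (⋃ n ∈ Set.Ioi (0 : ℤ), (ℬ n : Set S)) =
      Ideal.span ((ℬ 1 : Submodule k S) : Set S))
    (J : GrLC.StarInjRes ℬ ℬ) (r s : ℕ) (hr : ringKrullDim R = r) (hs : ringKrullDim S = s)
    (h2r : 2 ≤ r) (h2s : 2 ≤ s) :
    LocCoh.IsCohenMacaulayRing T ↔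
      GrLC.endDeg (I.Hgr mR r) < 0 ∧ GrLC.endDeg (J.Hgr mS s) < 0 := by
  haveI : Nontrivial R := nontrivial_of_ringKrullDim_eq r hr
  haveI : Nontrivial S := nontrivial_of_ringKrullDim_eq s hs
  have hdR : ¬ ringKrullDim R ≤ 0 := by
    rw [hr]
    intro h
    have h1 : r ≤ 0 := by exact_mod_cast h
    omega
  have hdS : ¬ ringKrullDim S ≤ 0 := by
    rw [hs]
    intro h
    have h1 : s ≤ 0 := by exact_mod_cast h
    omega
  have hA := piece_ne_bot_sub k R 𝒜 hposR h0R hstdR hdR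
  have hB := piece_ne_bot_sub k S ℬ hposS h0S hstdS hdS
  have key := cm_segre_iff k R 𝒜 hposR h0R S ℬ hposS h0S T 𝒯 ψ hψ hdegT mR hmR I mS hmS J r s
    hr hs (by omega) (by omega)
  have hgI : ∀ n, I.Hgr mR r n = ⊥ ↔ I.Hcomp mR r n = ⊥ :=
    fun n => Groth.Agent.Helper13RegFinLen.toAddSubgroup_eq_bot_iff _
  have hgJ : ∀ n, J.Hgr mS s n = ⊥ ↔ J.Hcomp mS s n = ⊥ :=
    fun n => Groth.Agent.Helper13RegFinLen.toAddSubgroup_eq_bot_iff _
  rw [key, endDeg_neg_iff, endDeg_neg_iff]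
  constructor
  · rintro ⟨h1, h2⟩
    exact ⟨fun j hj => (hgI j).mpr ((h2 h2s j).resolve_right (hB j hj)),
      fun j hj => (hgJ j).mpr ((h1 h2r j).resolve_left (hA j hj))⟩
  · rintro ⟨h1, h2⟩
    refine ⟨fun _ n => ?_, fun _ n => ?_⟩
    · rcases lt_or_ge n 0 with hn | hn
      · left
        exact hposR n hn
      · right
        exact (hgJ n).mp (h2 n hn)
    · rcases lt_or_ge n 0 with hn | hn
      · right
        exact hposS n hn
      · left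
        exact (hgI n).mp (h1 n hn)

/-- The Segre product of a standard graded Cohen–Macaulay ring of dimension one with one of
dimension at least two is Cohen–Macaulay iff the first is a polynomial ring. -/
theorem std_dim_one_iff (k : Type u) [Field k] (R : Type u) [CommRing R] [Algebra k R]
    (𝒜 : ℤ → Submodule k R) [GradedAlgebra 𝒜]
    (hposR : ∀ n : ℤ, n < 0 → 𝒜 n = ⊥) (h0R : 𝒜 0 = Submodule.span k {(1 : R)})
    [Algebra.FiniteType k R] (S : Type u) [CommRing S] [Algebra k S]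
    (ℬ : ℤ → Submodule k S) [GradedAlgebra ℬ] (hposS : ∀ n : ℤ, n < 0 → ℬ n = ⊥)
    (h0S : ℬ 0 = Submodule.span k {(1 : S)}) [Algebra.FiniteType k S] (T : Type u) [CommRing T]
    [Algebra k T] (𝒯 : ℤ → Submodule k T) [GradedAlgebra 𝒯] (ψ : T →ₐ[k] TensorProduct k R S)
    (hψ : Function.Injective ψ)
    (hdegT : ∀ n : ℤ, (𝒯 n).map ψ.toLinearMap =
      Submodule.span k {x : TensorProduct k R S | ∃ a ∈ 𝒜 n, ∃ b ∈ ℬ n, x = a ⊗ₜ[k] b})
    [LocCoh.IsCohenMacaulayRing R] [LocCoh.IsCohenMacaulayRing S]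
    (hstdR : Ideal.span (⋃ n ∈ Set.Ioi (0 : ℤ), (𝒜 n : Set R)) =
      Ideal.span ((𝒜 1 : Submodule k R) : Set R))
    (hstdS : Ideal.span (⋃ n ∈ Set.Ioi (0 : ℤ), (ℬ n : Set S)) =
      Ideal.span ((ℬ 1 : Submodule k S) : Set S))
    (hr : ringKrullDim R = 1) (hs : 2 ≤ ringKrullDim S) :
    LocCoh.IsCohenMacaulayRing T ↔ Nonempty (R ≃ₐ[k] Polynomial k) := by
  classical
  have hr' : ringKrullDim R = ((1 : ℕ) : WithBot ℕ∞) := by rw [hr]; rfl
  haveI : Nontrivial R := nontrivial_of_ringKrullDim_eq 1 hr'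
  haveI : Nontrivial S := by
    by_contra h
    rw [not_nontrivial_iff_subsingleton] at h
    rw [ringKrullDim_eq_bot_of_subsingleton] at hs
    exact absurd hs (by simp)
  haveI : IsNoetherianRing R := Algebra.FiniteType.isNoetherianRing k R
  haveI : IsNoetherianRing S := Algebra.FiniteType.isNoetherianRing k S
  have hpR := pos_toAS 𝒜 hposR
  have hpS := pos_toAS ℬ hposS
  have hkR : ∀ c : k, algebraMap k R c ∈ toAS 𝒜 0 := fun c => SetLike.algebraMap_mem_graded 𝒜 c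
  have hzR := zero_toAS 𝒜 h0R
  have hfR := isField_deg0 𝒜 hzR (algebraMap k R).injective
  have hfS := isField_deg0 ℬ (zero_toAS ℬ h0S) (algebraMap k S).injective
  have hmR := isStarLocal_of_irrelevant 𝒜 hpR hfR (irrIdeal 𝒜) (irrIdeal_toIdeal 𝒜)
  have hmS := isStarLocal_of_irrelevant ℬ hpS hfS (irrIdeal ℬ) (irrIdeal_toIdeal ℬ)
  obtain ⟨s, hs'⟩ := exists_nat_dim hpS (convIdeal ℬ (irrIdeal ℬ)) hmS
  have h2s : 2 ≤ s := by
    rw [hs'] at hs
    exact_mod_cast hs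
  obtain ⟨I⟩ := exists_res_conv 𝒜 𝒜
  obtain ⟨J⟩ := exists_res_conv ℬ ℬ
  have key := cm_segre_iff k R 𝒜 hposR h0R S ℬ hposS h0S T 𝒯 ψ hψ hdegT (irrIdeal 𝒜)
    (irrIdeal_toIdeal 𝒜) I (irrIdeal ℬ) (irrIdeal_toIdeal ℬ) J 1 s hr' hs' le_rfl (by omega)
  have hdS : ¬ ringKrullDim S ≤ 0 := by
    rw [hs']
    intro h
    have h1 : s ≤ 0 := by exact_mod_cast h
    omega
  have hB := piece_ne_bot_sub k S ℬ hposS h0S hstdS hdS
  have step1 : LocCoh.IsCohenMacaulayRing T ↔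
      ∀ n : ℤ, 0 ≤ n → I.Hcomp (irrIdeal 𝒜) 1 n = ⊥ := by
    rw [key]
    constructor
    · intro h n hn
      exact (h.2 h2s n).resolve_right (hB n hn)
    · intro h
      refine ⟨fun h2 => absurd h2 (by omega), fun _ n => ?_⟩
      rcases lt_or_ge n 0 with hn | hn
      · right
        exact hposS n hn
      · left
        exact h n hn
  haveI hart : IsArtinianRing (GrLC.deg0 (toAS 𝒜)) := by
    let _ : Field (GrLC.deg0 (toAS 𝒜)) := hfR.toField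
    infer_instance
  obtain ⟨I'⟩ : Nonempty (GrLC.StarInjRes (toAS 𝒜) (toAS 𝒜)) :=
    exists_res (GrLC.GMod.of (toAS 𝒜) R (toAS 𝒜))
  have hstd' := hstd_toAS 𝒜 hstdR
  have hmsp : (convIdeal 𝒜 (irrIdeal 𝒜)).toIdeal =
      Ideal.span (⋃ n ∈ Set.Ioi (0 : ℤ), (toAS 𝒜 n : Set R)) := irrIdeal_toIdeal 𝒜
  have hlow := Groth.Agent.Lib.R2H7.GrAinvLow.neg_dim_le_endDeg hpR hstd'
    (convIdeal 𝒜 (irrIdeal 𝒜)) hmR 1 hr' I'
  have hiff := Groth.Agent.Lib.R2H7.GrAinvPoly.endDeg_eq_iff hpR hfR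
    (convIdeal 𝒜 (irrIdeal 𝒜)) hmR hmsp hstd' 1 hr' I'
  have hconv : ∀ n : ℤ, I.Hcomp (irrIdeal 𝒜) 1 n = ⊥ ↔
      I'.Hgr (convIdeal 𝒜 (irrIdeal 𝒜)) 1 n = ⊥ := fun n =>
    (hcomp_eq_bot_iff_vanX 𝒜 𝒜 I (irrIdeal 𝒜) 1 n).trans
      (Groth.Agent.Lib.R2H7.GrGen.hgr_eq_bot_iff' (convIdeal 𝒜 (irrIdeal 𝒜)) (toAS 𝒜) I' 1 n).symm
  have step2 : (∀ n : ℤ, 0 ≤ n → I.Hcomp (irrIdeal 𝒜) 1 n = ⊥) ↔
      GrLC.endDeg (I'.Hgr (convIdeal 𝒜 (irrIdeal 𝒜)) 1) =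
        (((-((1 : ℕ) : ℤ) : ℤ) : WithTop ℤ) : WithBot (WithTop ℤ)) := by
    constructor
    · intro h
      refine le_antisymm ((endDeg_le_iff' _ _).mpr fun j hj => (hconv j).mp (h j ?_)) hlow
      push_cast at hj
      omega
    · intro h n hn
      refine (hconv n).mpr ((endDeg_le_iff' _ _).mp h.le n ?_)
      push_cast
      omega
  rw [step1, step2, hiff]
  constructor
  · rintro ⟨e⟩
    have hH := Groth.Agent.Lib.R2H7.GrRegPoly.hilbert_of_ringEquiv hpR hfR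
      (convIdeal 𝒜 (irrIdeal 𝒜)) hmR hmsp hstd' 1 hr' e
    obtain ⟨e'⟩ := nonempty_algEquiv_of_hilbert hpR hstd' hfR 1 hH
    exact nonempty_algEquiv_polynomial hkR hzR (algebraMap k R).injective e'
  · rintro ⟨e⟩
    exact nonempty_ringEquiv_of_algEquiv hkR hzR (algebraMap k R).injective e

end Groth.Agent.Lib.R2H7.SegStd
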