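/-
Gorenstein Segre products: for graded rings `R`, `S` over a field of dimensions `r, s ≥ 2`,
`H^{r+s-1}_{T_+}(T) ≅ H^r_{R_+}(R) # H^s_{S_+}(S)` for the Segre product `T = R # S`, and the
consequences for the Gorenstein property.
-/
import Mathlib
import Groth.Agent.Lib.R2H7SegDual
import Groth.Agent.Lib.R2H7SegCan
import Groth.Agent.Lib.R2H7GrType
import Groth.Agent.Lib.R2H7GrNoCyc
import Groth.Agent.Lib.R2H7GrVerCM2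
import Groth.Agent.Lib.R2H7SegStd
import Groth.Agent.Lib.Helper5GorEquidim

set_option autoImplicit false
open DirectSum
open scoped TensorProduct

noncomputable section

namespace Groth.Agent.Lib.R2H7.SegGor

open Groth.Agent.Lib.Helper29GrEss Groth.Agent.Lib.Helper29GrHom Groth.Agent.Lib.Helper29GrGam
  Groth.Agent.Lib.R2H7.GrBdry Groth.Agent.Lib.R2H7.GrDer Groth.Agent.Lib.R2H7.GrH
  Groth.Agent.Lib.R2H7.GrFun Groth.Agent.Lib.R2H7.GrGen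
  Groth.Agent.Lib.R2H7.SegPres Groth.Agent.Lib.R2H7.SegTheta Groth.Agent.Lib.R2H7.SegGen
  Groth.Agent.Lib.R2H7.SegDual Groth.Agent.Lib.R2H7.SegConv Groth.Agent.Lib.R2H7.SegVan
  Groth.Agent.Lib.R2H7.SegRing Groth.Agent.Lib.R2H7.SegCM Groth.Agent.Lib.R2H7.GrMatlis
  Groth.Agent.Lib.R2H7.GrMinRes Groth.Agent.Lib.R2H7.GrVerGor Groth.Agent.Lib.R2H7.GrVerCM
  Groth.Agent.Lib.R2H7.GrGorChar

universe u

attribute [local instance] hModK hTowerK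

/-! ### Conversion of the end degree -/

section conv

variable {R : Type u} [CommRing R] {σ : Type u} [SetLike σ R] [AddSubgroupClass σ R]
  (𝒜₀ : ℤ → σ) [GradedRing 𝒜₀]

theorem hgr_conv_eq_bot_iff (I : GrLC.StarInjRes 𝒜₀ 𝒜₀) (a₀ : HomogeneousIdeal 𝒜₀) (i : ℕ)
    (g : ℤ) :
    I.Hgr a₀ i g = ⊥ ↔ (convRes 𝒜₀ 𝒜₀ I).Hgr (convIdeal 𝒜₀ a₀) i g = ⊥ :=
  (Groth.Agent.Helper13RegFinLen.toAddSubgroup_eq_bot_iff _).trans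
    ((hcomp_eq_bot_iff 𝒜₀ 𝒜₀ I a₀ i g).trans
      ((hcomp_eq_bot_iff_van (convIdeal 𝒜₀ a₀) (X := toGMod 𝒜₀ 𝒜₀) (convRes 𝒜₀ 𝒜₀ I) i g).symm.trans
        (Groth.Agent.Helper13RegFinLen.toAddSubgroup_eq_bot_iff _).symm))

theorem endDeg_conv (I : GrLC.StarInjRes 𝒜₀ 𝒜₀) (a₀ : HomogeneousIdeal 𝒜₀) (i : ℕ) :
    GrLC.endDeg (I.Hgr a₀ i) = GrLC.endDeg ((convRes 𝒜₀ 𝒜₀ I).Hgr (convIdeal 𝒜₀ a₀) i) := by
  unfold GrLC.endDeg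
  refine iSup_congr fun n => ?_
  exact iSup_congr_Prop (not_congr (hgr_conv_eq_bot_iff 𝒜₀ I a₀ i n)) (fun _ => rfl)

end conv


/-- The end degree of a graded object with a nonzero piece and no piece in degrees `≥ 0` is an
integer. -/
theorem exists_int_endDeg {G : Type u} [AddCommGroup G] (H : ℤ → AddSubgroup G) (g : ℤ)
    (hne : H g ≠ ⊥) (hlt : GrLC.endDeg H < 0) :
    ∃ a : ℤ, GrLC.endDeg H = ((a : WithTop ℤ) : WithBot (WithTop ℤ)) := by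
  have h1 : GrLC.endDeg H ≠ ⊥ := by
    intro h
    have h2 : GrLC.endDeg H ≤ (((g - 1 : ℤ) : WithTop ℤ) : WithBot (WithTop ℤ)) := by
      rw [h]
      exact bot_le
    exact hne ((endDeg_le_iff' H (g - 1)).mp h2 g (by omega))
  obtain ⟨y, hy⟩ := WithBot.ne_bot_iff_exists.mp h1
  have h3 : y ≠ ⊤ := by
    intro h
    rw [← hy, h] at hlt
    have h4 : ((⊤ : WithTop ℤ) : WithBot (WithTop ℤ)) < ((0 : WithTop ℤ) : WithBot (WithTop ℤ)) :=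
      hlt
    exact absurd (WithBot.coe_lt_coe.mp h4) not_top_lt
  obtain ⟨a, ha⟩ := WithTop.ne_top_iff_exists.mp h3
  exact ⟨a, by rw [← hy, ← ha]⟩

theorem exists_ne_of_ne_bot {G : Type u} [AddCommGroup G] {H : AddSubgroup G} (h : H ≠ ⊥) :
    ∃ x ∈ H, x ≠ 0 := by
  by_contra hcon
  apply h
  rw [AddSubgroup.eq_bot_iff_forall]
  intro x hx
  by_contra hx0
  exact hcon ⟨x, hx, hx0⟩

theorem ne_bot_of_exists_ne {G : Type u} [AddCommGroup G] {H : AddSubgroup G} {x : G}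
    (hx : x ∈ H) (hx0 : x ≠ 0) : H ≠ ⊥ := by
  intro h
  rw [h] at hx
  exact hx0 (AddSubgroup.mem_bot.mp hx)

/-! ### Gorenstein graded rings: the dual package -/

section gor

variable {R : Type u} [CommRing R] {𝒜 : ℤ → AddSubgroup R} [GradedRing 𝒜]
  [hG : LocCoh.IsGorensteinRing R]
  (hpos : ∀ n : ℤ, n < 0 → 𝒜 n = ⊥) (h0 : IsField (GrLC.deg0 𝒜))
  (m : HomogeneousIdeal 𝒜) (hm : GrLC.IsStarLocal 𝒜 m)
  (hmsp : m.toIdeal = Ideal.span (⋃ n ∈ Set.Ioi (0 : ℤ), (𝒜 n : Set R)))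
  (n : ℕ) (hn : ringKrullDim R = (n : WithBot ℕ∞)) (I : GrLC.StarInjRes 𝒜 𝒜)

include hpos h0 hm hmsp hn in
theorem exists_dpack_gor :
    ∃ (a : ℤ) (η : I.H m n), (∀ j, j ≠ n → Subsingleton (I.H m j)) ∧ DPack 𝒜 (I.Hgr m n) a η := by
  classical
  haveI hmax : m.toIdeal.IsMaximal :=
    Groth.Agent.Lib.R2H7.GrHt.isMaximal_of_isCoatom 𝒜 hpos m hm.1
  have hht : m.toIdeal.height = n := by
    have h1 := Groth.Agent.Lib.R2H7.GrHt.ringKrullDim_le_height 𝒜 hpos m hm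
    have h2 := Ideal.height_le_ringKrullDim_of_ne_top hmax.ne_top
    rw [hn] at h1 h2
    exact_mod_cast le_antisymm h2 h1
  obtain ⟨EX, e, he⟩ := exists_hull_residue m
  obtain ⟨hvan, s, χ, hχ1, hχ2⟩ :=
    exists_equiv_of_isGorensteinRing m EX.gr n hht I e he
  have P := dpack_of_equiv hpos h0 m hm hmsp EX.gr e he (I.Hgr m n) s χ hχ1 hχ2
  exact ⟨-s, _, hvan, P⟩

end gor

/-! ### The top local cohomology of a Segre product of rings -/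

section main

variable (k : Type u) [Field k] (R : Type u) [CommRing R] [Algebra k R]
  (𝒜 : ℤ → Submodule k R) [GradedAlgebra 𝒜] (S : Type u) [CommRing S] [Algebra k S]
  (ℬ : ℤ → Submodule k S) [GradedAlgebra ℬ] (T : Type u) [CommRing T] [Algebra k T]
  (𝒯 : ℤ → Submodule k T) [GradedAlgebra 𝒯] (ψ : T →ₐ[k] TensorProduct k R S)

theorem theta_conv [IsNoetherianRing R] [IsNoetherianRing S] [IsNoetherianRing T]
    (hT : GrSeg.IsSegreRing 𝒜 ℬ 𝒯 ψ) (mR : HomogeneousIdeal 𝒜)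
    (hmR : mR.toIdeal = Ideal.span (⋃ n ∈ Set.Ioi (0 : ℤ), (𝒜 n : Set R)))
    (mS : HomogeneousIdeal ℬ)
    (hmS : mS.toIdeal = Ideal.span (⋃ n ∈ Set.Ioi (0 : ℤ), (ℬ n : Set S)))
    (mT : HomogeneousIdeal 𝒯)
    (hmT : mT.toIdeal = Ideal.span (⋃ n ∈ Set.Ioi (0 : ℤ), (𝒯 n : Set T)))
    (I : GrLC.StarInjRes 𝒜 𝒜) (J : GrLC.StarInjRes ℬ ℬ)
    (IT : GrLC.StarInjRes (toAS 𝒯) (toAS 𝒯)) (r s n : ℕ)
    (hr : ringKrullDim R = r) (hs : ringKrullDim S = s) (h2r : 2 ≤ r) (h2s : 2 ≤ s)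
    (hrs : r + s = n + 2) :
    ∃ Θ : IT.H (convIdeal 𝒯 mT) (n + 1) ≃ₗ[T]
        SegCar (HG (convRes 𝒜 𝒜 I) (convIdeal 𝒜 mR) r) (HG (convRes ℬ ℬ J) (convIdeal ℬ mS) s)
          (segCtx_of 𝒜 ℬ 𝒯 ψ hT),
      ∀ (g : ℤ) (ξ : IT.H (convIdeal 𝒯 mT) (n + 1)),
        ξ ∈ IT.Hgr (convIdeal 𝒯 mT) (n + 1) g ↔
          Θ ξ ∈ (segG (HG (convRes 𝒜 𝒜 I) (convIdeal 𝒜 mR) r)
            (HG (convRes ℬ ℬ J) (convIdeal ℬ mS) s) (segCtx_of 𝒜 ℬ 𝒯 ψ hT)).gr g := by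
  have hψ' := segCtx_of 𝒜 ℬ 𝒯 ψ hT
  have hP := ringSegreMod 𝒜 ℬ 𝒯 ψ hT.1 hT.2
  have hvR : ∀ i, r < i → Subsingleton ((convRes 𝒜 𝒜 I).H (convIdeal 𝒜 mR) i) := fun i hi =>
    subsingleton_H_of_forall_van (convIdeal 𝒜 mR) (convRes 𝒜 𝒜 I) i
      (fun g z hz _ => vanW_of_dim_lt (convIdeal 𝒜 mR) (toGMod 𝒜 𝒜) i
        (by rw [hr]; exact_mod_cast hi) (convRes 𝒜 𝒜 I) z hz)
  have hvS : ∀ i, s < i → Subsingleton ((convRes ℬ ℬ J).H (convIdeal ℬ mS) i) := fun i hi =>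
    subsingleton_H_of_forall_van (convIdeal ℬ mS) (convRes ℬ ℬ J) i
      (fun g z hz _ => vanW_of_dim_lt (convIdeal ℬ mS) (toGMod ℬ ℬ) i
        (by rw [hs]; exact_mod_cast hi) (convRes ℬ ℬ J) z hz)
  exact theta_AS hψ' (fun c => SetLike.algebraMap_mem_graded 𝒯 c) (convIdeal 𝒜 mR) hmR
    (convIdeal ℬ mS) hmS (convIdeal 𝒯 mT) hmT (toGMod 𝒜 𝒜) (toGMod ℬ ℬ) (convRes 𝒜 𝒜 I)
    (convRes ℬ ℬ J)
    (transRes (segIso 𝒜 ℬ 𝒯 𝒜 ℬ 𝒯 hP hψ') (segIso_grHom 𝒜 ℬ 𝒯 𝒜 ℬ 𝒯 hP hψ') IT)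
    r s n hrs h2r h2s hvR hvS

/-- The Segre product of two Gorenstein graded rings of dimensions at least two with the same
a-invariant is Gorenstein as soon as it is Cohen–Macaulay. -/
theorem gorenstein_segre
    (hposR : ∀ n : ℤ, n < 0 → 𝒜 n = ⊥) (h0R : 𝒜 0 = Submodule.span k {(1 : R)})
    [Algebra.FiniteType k R] (hposS : ∀ n : ℤ, n < 0 → ℬ n = ⊥)
    (h0S : ℬ 0 = Submodule.span k {(1 : S)}) [Algebra.FiniteType k S]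
    (hψ : Function.Injective ψ)
    (hdegT : ∀ n : ℤ, (𝒯 n).map ψ.toLinearMap =
      Submodule.span k {x : TensorProduct k R S | ∃ a ∈ 𝒜 n, ∃ b ∈ ℬ n, x = a ⊗ₜ[k] b})
    [LocCoh.IsGorensteinRing R] [LocCoh.IsGorensteinRing S] (mR : HomogeneousIdeal 𝒜)
    (hmR : mR.toIdeal = Ideal.span (⋃ n ∈ Set.Ioi (0 : ℤ), (𝒜 n : Set R)))
    (I : GrLC.StarInjRes 𝒜 𝒜) (mS : HomogeneousIdeal ℬ)
    (hmS : mS.toIdeal = Ideal.span (⋃ n ∈ Set.Ioi (0 : ℤ), (ℬ n : Set S)))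
    (J : GrLC.StarInjRes ℬ ℬ) (r s : ℕ) (hr : ringKrullDim R = r) (hs : ringKrullDim S = s)
    (h2r : 2 ≤ r) (h2s : 2 ≤ s)
    (haeq : GrLC.endDeg (I.Hgr mR r) = GrLC.endDeg (J.Hgr mS s))
    [LocCoh.IsCohenMacaulayRing T] : LocCoh.IsGorensteinRing T := by
  classical
  haveI : Nontrivial R := nontrivial_of_ringKrullDim_eq r hr
  haveI : Nontrivial S := nontrivial_of_ringKrullDim_eq s hs
  have hT : GrSeg.IsSegreRing 𝒜 ℬ 𝒯 ψ := ⟨hψ, hdegT⟩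
  haveI : LocCoh.IsCohenMacaulayRing R :=
    Groth.Agent.Lib.Helper5.GorUnmixed.isCohenMacaulayRing_of_isGorensteinRing R
  haveI : LocCoh.IsCohenMacaulayRing S :=
    Groth.Agent.Lib.Helper5.GorUnmixed.isCohenMacaulayRing_of_isGorensteinRing S
  have hfR := isField_deg0 𝒜 (zero_toAS 𝒜 h0R) (algebraMap k R).injective
  have hfS := isField_deg0 ℬ (zero_toAS ℬ h0S) (algebraMap k S).injective
  have hfT := isField_deg0 𝒯 (zero_toAS_T 𝒜 ℬ 𝒯 ψ h0R h0S hT)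
    (algebraMap_T_injective (R := R) (S := S) ψ)
  have hpR := pos_toAS 𝒜 hposR
  have hpS := pos_toAS ℬ hposS
  have hpT := pos_toAS_T 𝒜 ℬ 𝒯 ψ hposR hT
  have hψ' := segCtx_of 𝒜 ℬ 𝒯 ψ hT
  have hmT : (irrIdeal 𝒯).toIdeal = Ideal.span (⋃ n ∈ Set.Ioi (0 : ℤ), (𝒯 n : Set T)) :=
    irrIdeal_toIdeal 𝒯
  have hslR := isStarLocal_of_irrelevant 𝒜 hpR hfR mR hmR
  have hslS := isStarLocal_of_irrelevant ℬ hpS hfS mS hmS
  have hslT := isStarLocal_of_irrelevant 𝒯 hpT hfT (irrIdeal 𝒯) hmT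
  have hmR' : (convIdeal 𝒜 mR).toIdeal =
      Ideal.span (⋃ n ∈ Set.Ioi (0 : ℤ), (toAS 𝒜 n : Set R)) := hmR
  have hmS' : (convIdeal ℬ mS).toIdeal =
      Ideal.span (⋃ n ∈ Set.Ioi (0 : ℤ), (toAS ℬ n : Set S)) := hmS
  have hmT' : (convIdeal 𝒯 (irrIdeal 𝒯)).toIdeal =
      Ideal.span (⋃ n ∈ Set.Ioi (0 : ℤ), (toAS 𝒯 n : Set T)) := hmT
  obtain ⟨a, ηR, hvanR, PR⟩ :=
    exists_dpack_gor hpR hfR (convIdeal 𝒜 mR) hslR hmR' r hr (convRes 𝒜 𝒜 I)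
  obtain ⟨b, ηS, hvanS, PS⟩ :=
    exists_dpack_gor hpS hfS (convIdeal ℬ mS) hslS hmS' s hs (convRes ℬ ℬ J)
  have e1 := endDeg_eq_of_dpack hpR PR
  have e2 := endDeg_eq_of_dpack hpS PS
  rw [endDeg_conv 𝒜 I mR r, endDeg_conv ℬ J mS s] at haeq
  have haeq' : (((a : ℤ) : WithTop ℤ) : WithBot (WithTop ℤ)) = (((b : ℤ) : WithTop ℤ) : WithBot (WithTop ℤ)) :=
    e1.symm.trans (haeq.trans e2)
  have hab : a = b := WithTop.coe_injective (WithBot.coe_injective haeq')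
  subst hab
  obtain ⟨n, hn⟩ : ∃ n, r + s = n + 2 := ⟨r + s - 2, by omega⟩
  obtain ⟨Θ, hΘ⟩ := theta_conv k R 𝒜 S ℬ T 𝒯 ψ hT mR hmR mS hmS (irrIdeal 𝒯) hmT I J
    (minRes (toAS 𝒯) (toAS 𝒯)) r s n hr hs h2r h2s hn
  obtain ⟨η, -, D⟩ := dpack_seg (HG (convRes 𝒜 𝒜 I) (convIdeal 𝒜 mR) r)
    (HG (convRes ℬ ℬ J) (convIdeal ℬ mS) s) hψ' (fun c => SetLike.algebraMap_mem_graded 𝒯 c)
    (zero_toAS 𝒜 h0R) (zero_toAS ℬ h0S) PR PS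
  have DT := dpack_of_linearEquiv Θ hΘ D
  have hdimT := ringKrullDim_segre k R 𝒜 hposR h0R S ℬ hposS h0S T 𝒯 ψ hψ hdegT r s hr hs
    (by omega) (by omega)
  have hrs1 : r + s - 1 = n + 1 := by omega
  rw [hrs1] at hdimT
  haveI hmaxT : (convIdeal 𝒯 (irrIdeal 𝒯)).toIdeal.IsMaximal :=
    Groth.Agent.Lib.R2H7.GrHt.isMaximal_of_isCoatom (toAS 𝒯) hpT _ hslT.1
  have hvanT : ∀ j, j ≠ n + 1 →
      Subsingleton ((minRes (toAS 𝒯) (toAS 𝒯)).H (convIdeal 𝒯 (irrIdeal 𝒯)) j) := fun j hj =>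
    Groth.Agent.Lib.R2H7.GrGorCan2.subsingleton_H_of_ne hpT _ hslT (n + 1) hdimT _ j hj
  obtain ⟨EX, e, he⟩ := exists_hull_residue (convIdeal 𝒯 (irrIdeal 𝒯))
  obtain ⟨α, hα1, -⟩ := exists_equiv_hull hpT hfT _ hslT hmT' EX.gr e he DT
  exact isGorensteinRing_of_equiv (convIdeal 𝒯 (irrIdeal 𝒯)) hslT EX.gr (n + 1)
    (minRes (toAS 𝒯) (toAS 𝒯)) hvanT he.starInj (-a) α hα1

/-- If the Segre product of two standard graded Cohen–Macaulay rings of dimensions at least two is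
Gorenstein, then both are Gorenstein with the same negative a-invariant. -/
theorem gorenstein_factors_of_segre
    (hposR : ∀ n : ℤ, n < 0 → 𝒜 n = ⊥) (h0R : 𝒜 0 = Submodule.span k {(1 : R)})
    [Algebra.FiniteType k R] (hposS : ∀ n : ℤ, n < 0 → ℬ n = ⊥)
    (h0S : ℬ 0 = Submodule.span k {(1 : S)}) [Algebra.FiniteType k S]
    (hψ : Function.Injective ψ)
    (hdegT : ∀ n : ℤ, (𝒯 n).map ψ.toLinearMap =
      Submodule.span k {x : TensorProduct k R S | ∃ a ∈ 𝒜 n, ∃ b ∈ ℬ n, x = a ⊗ₜ[k] b})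
    [LocCoh.IsCohenMacaulayRing R] [LocCoh.IsCohenMacaulayRing S] (mR : HomogeneousIdeal 𝒜)
    (hmR : mR.toIdeal = Ideal.span (⋃ n ∈ Set.Ioi (0 : ℤ), (𝒜 n : Set R)))
    (hstdR : Ideal.span (⋃ n ∈ Set.Ioi (0 : ℤ), (𝒜 n : Set R)) =
      Ideal.span ((𝒜 1 : Submodule k R) : Set R))
    (I : GrLC.StarInjRes 𝒜 𝒜) (mS : HomogeneousIdeal ℬ)
    (hmS : mS.toIdeal = Ideal.span (⋃ n ∈ Set.Ioi (0 : ℤ), (ℬ n : Set S)))
    (hstdS : Ideal.span (⋃ n ∈ Set.Ioi (0 : ℤ), (ℬ n : Set S)) =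
      Ideal.span ((ℬ 1 : Submodule k S) : Set S))
    (J : GrLC.StarInjRes ℬ ℬ) (r s : ℕ) (hr : ringKrullDim R = r) (hs : ringKrullDim S = s)
    (h2r : 2 ≤ r) (h2s : 2 ≤ s) [LocCoh.IsGorensteinRing T] :
    LocCoh.IsGorensteinRing R ∧ LocCoh.IsGorensteinRing S ∧
      GrLC.endDeg (I.Hgr mR r) = GrLC.endDeg (J.Hgr mS s) ∧ GrLC.endDeg (I.Hgr mR r) < 0 := by
  classical
  haveI : Nontrivial R := nontrivial_of_ringKrullDim_eq r hr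
  haveI : Nontrivial S := nontrivial_of_ringKrullDim_eq s hs
  have hT : GrSeg.IsSegreRing 𝒜 ℬ 𝒯 ψ := ⟨hψ, hdegT⟩
  haveI : LocCoh.IsCohenMacaulayRing T :=
    Groth.Agent.Lib.Helper5.GorUnmixed.isCohenMacaulayRing_of_isGorensteinRing T
  have hneg := (Groth.Agent.Lib.R2H7.SegStd.std_cm_iff k R 𝒜 hposR h0R S ℬ hposS h0S T 𝒯 ψ hψ
    hdegT mR hmR hstdR I mS hmS hstdS J r s hr hs h2r h2s).mp inferInstance
  have hfR := isField_deg0 𝒜 (zero_toAS 𝒜 h0R) (algebraMap k R).injective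
  have hfS := isField_deg0 ℬ (zero_toAS ℬ h0S) (algebraMap k S).injective
  have hfT := isField_deg0 𝒯 (zero_toAS_T 𝒜 ℬ 𝒯 ψ h0R h0S hT)
    (algebraMap_T_injective (R := R) (S := S) ψ)
  have hpR := pos_toAS 𝒜 hposR
  have hpS := pos_toAS ℬ hposS
  have hpT := pos_toAS_T 𝒜 ℬ 𝒯 ψ hposR hT
  have hψ' := segCtx_of 𝒜 ℬ 𝒯 ψ hT
  have hmT : (irrIdeal 𝒯).toIdeal = Ideal.span (⋃ n ∈ Set.Ioi (0 : ℤ), (𝒯 n : Set T)) :=
    irrIdeal_toIdeal 𝒯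
  have hslR := isStarLocal_of_irrelevant 𝒜 hpR hfR mR hmR
  have hslS := isStarLocal_of_irrelevant ℬ hpS hfS mS hmS
  have hslT := isStarLocal_of_irrelevant 𝒯 hpT hfT (irrIdeal 𝒯) hmT
  have hmR' : (convIdeal 𝒜 mR).toIdeal =
      Ideal.span (⋃ n ∈ Set.Ioi (0 : ℤ), (toAS 𝒜 n : Set R)) := hmR
  have hmS' : (convIdeal ℬ mS).toIdeal =
      Ideal.span (⋃ n ∈ Set.Ioi (0 : ℤ), (toAS ℬ n : Set S)) := hmS
  have hmT' : (convIdeal 𝒯 (irrIdeal 𝒯)).toIdeal =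
      Ideal.span (⋃ n ∈ Set.Ioi (0 : ℤ), (toAS 𝒯 n : Set T)) := hmT
  have hstdR' := Groth.Agent.Lib.R2H7.SegStd.hstd_toAS 𝒜 hstdR
  have hstdS' := Groth.Agent.Lib.R2H7.SegStd.hstd_toAS ℬ hstdS
  have hhomR : (convIdeal 𝒜 mR).toIdeal = Ideal.span ((toAS 𝒜 1 : AddSubgroup R) : Set R) :=
    hmR'.trans hstdR'
  have hhomS : (convIdeal ℬ mS).toIdeal = Ideal.span ((toAS ℬ 1 : AddSubgroup S) : Set S) :=
    hmS'.trans hstdS'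
  obtain ⟨n, hn⟩ : ∃ n, r + s = n + 2 := ⟨r + s - 2, by omega⟩
  have hdimT := ringKrullDim_segre k R 𝒜 hposR h0R S ℬ hposS h0S T 𝒯 ψ hψ hdegT r s hr hs
    (by omega) (by omega)
  have hrs1 : r + s - 1 = n + 1 := by omega
  rw [hrs1] at hdimT
  -- the dual package of `T`
  obtain ⟨c, ηT, -, DT⟩ := exists_dpack_gor hpT hfT (convIdeal 𝒯 (irrIdeal 𝒯)) hslT hmT' (n + 1)
    hdimT (minRes (toAS 𝒯) (toAS 𝒯))
  obtain ⟨Θ, hΘ⟩ := theta_conv k R 𝒜 S ℬ T 𝒯 ψ hT mR hmR mS hmS (irrIdeal 𝒯) hmT I J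
    (minRes (toAS 𝒯) (toAS 𝒯)) r s n hr hs h2r h2s hn
  have hΘ' : ∀ (g : ℤ) (p : SegCar (HG (convRes 𝒜 𝒜 I) (convIdeal 𝒜 mR) r)
      (HG (convRes ℬ ℬ J) (convIdeal ℬ mS) s) hψ'),
      p ∈ (segG (HG (convRes 𝒜 𝒜 I) (convIdeal 𝒜 mR) r)
        (HG (convRes ℬ ℬ J) (convIdeal ℬ mS) s) hψ').gr g ↔
      Θ.symm p ∈ (minRes (toAS 𝒯) (toAS 𝒯)).Hgr (convIdeal 𝒯 (irrIdeal 𝒯)) (n + 1) g := by
    intro g p
    rw [hΘ g (Θ.symm p), LinearEquiv.apply_symm_apply]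
  have D := dpack_of_linearEquiv Θ.symm hΘ' DT
  have h0T' := zero_toAS_T 𝒜 ℬ 𝒯 ψ h0R h0S hT
  -- the a-invariants
  obtain ⟨⟨x₁, hx₁, hx₁0⟩, ⟨y₁, hy₁, hy₁0⟩⟩ := exists_ne_of_dpack
    (HG (convRes 𝒜 𝒜 I) (convIdeal 𝒜 mR) r) (HG (convRes ℬ ℬ J) (convIdeal ℬ mS) s) hψ' D
  have hnegR : GrLC.endDeg ((convRes 𝒜 𝒜 I).Hgr (convIdeal 𝒜 mR) r) < 0 := by
    rw [← endDeg_conv 𝒜 I mR r]
    exact hneg.1
  have hnegS : GrLC.endDeg ((convRes ℬ ℬ J).Hgr (convIdeal ℬ mS) s) < 0 := by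
    rw [← endDeg_conv ℬ J mS s]
    exact hneg.2
  obtain ⟨aR, haR⟩ := exists_int_endDeg _ c (ne_bot_of_exists_ne hx₁ hx₁0) hnegR
  obtain ⟨aS, haS⟩ := exists_int_endDeg _ c (ne_bot_of_exists_ne hy₁ hy₁0) hnegS
  obtain ⟨x₀, hx₀, hx₀0, hcycR⟩ := exists_cyclic_left
    (HG (convRes 𝒜 𝒜 I) (convIdeal 𝒜 mR) r) (HG (convRes ℬ ℬ J) (convIdeal ℬ mS) s) hψ' h0T' D
  obtain ⟨y₀, hy₀, hy₀0, hcycS⟩ := exists_cyclic_right
    (HG (convRes 𝒜 𝒜 I) (convIdeal 𝒜 mR) r) (HG (convRes ℬ ℬ J) (convIdeal ℬ mS) s) hψ' h0T' D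
  have hcR : c = aR := by
    apply le_antisymm
    · by_contra hlt
      exact ne_bot_of_exists_ne hx₀ hx₀0 ((endDeg_le_iff' _ aR).mp haR.le c (not_le.mp hlt))
    · by_contra hlt
      refine Groth.Agent.Lib.R2H7.GrNoCyc.not_cyclic_of_lt hpR hfR (convIdeal 𝒜 mR) hmR' hstdR' r
        hr h2r (convRes 𝒜 𝒜 I) aR haR c (not_le.mp hlt) x₀ hx₀ ?_
      intro η hη
      obtain ⟨α, hα⟩ := hcycR η hη
      exact ⟨⟨algebraMap k R α, SetLike.algebraMap_mem_graded 𝒜 α⟩, hα⟩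
  have hcS : c = aS := by
    apply le_antisymm
    · by_contra hlt
      exact ne_bot_of_exists_ne hy₀ hy₀0 ((endDeg_le_iff' _ aS).mp haS.le c (not_le.mp hlt))
    · by_contra hlt
      refine Groth.Agent.Lib.R2H7.GrNoCyc.not_cyclic_of_lt hpS hfS (convIdeal ℬ mS) hmS' hstdS' s
        hs h2s (convRes ℬ ℬ J) aS haS c (not_le.mp hlt) y₀ hy₀ ?_
      intro η hη
      obtain ⟨α, hα⟩ := hcycS η hη
      exact ⟨⟨algebraMap k S α, SetLike.algebraMap_mem_graded ℬ α⟩, hα⟩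
  subst hcR
  -- no gaps
  have hXY : ∀ j : ℤ, (∃ x ∈ (HG (convRes 𝒜 𝒜 I) (convIdeal 𝒜 mR) r).gr j, x ≠ 0) →
      ∃ y ∈ (HG (convRes ℬ ℬ J) (convIdeal ℬ mS) s).gr j, y ≠ 0 := by
    rintro j ⟨x, hx, hx0⟩
    have hj : j ≤ c := by
      by_contra hlt
      exact ne_bot_of_exists_ne hx hx0 ((endDeg_le_iff' _ c).mp haR.le j (not_le.mp hlt))
    exact exists_ne_of_ne_bot (Groth.Agent.Lib.R2H7.GrCanTwo.hgr_ne_bot_of_le (convIdeal ℬ mS)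
      hhomS s (by omega) hs (convRes ℬ ℬ J) aS haS j (hcS ▸ hj))
  have hYX : ∀ j : ℤ, (∃ y ∈ (HG (convRes ℬ ℬ J) (convIdeal ℬ mS) s).gr j, y ≠ 0) →
      ∃ x ∈ (HG (convRes 𝒜 𝒜 I) (convIdeal 𝒜 mR) r).gr j, x ≠ 0 := by
    rintro j ⟨y, hy, hy0⟩
    have hj : j ≤ aS := by
      by_contra hlt
      exact ne_bot_of_exists_ne hy hy0 ((endDeg_le_iff' _ aS).mp haS.le j (not_le.mp hlt))
    exact exists_ne_of_ne_bot (Groth.Agent.Lib.R2H7.GrCanTwo.hgr_ne_bot_of_le (convIdeal 𝒜 mR)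
      hhomR r (by omega) hr (convRes 𝒜 𝒜 I) c haR j (hcS ▸ hj))
  have hdR : ¬ ringKrullDim R ≤ 0 := by
    rw [hr]
    intro h
    have h1 : r ≤ 0 := by exact_mod_cast h
    omega
  have hdS : ¬ ringKrullDim S ≤ 0 := by
    rw [hs]
    intro h
    have h1 : s ≤ 0 := by exact_mod_cast h
    omega
  have hneR : ∀ n : ℤ, 0 ≤ n → ∃ a ∈ toAS 𝒜 n, a ≠ 0 := fun n hn =>
    (Submodule.ne_bot_iff _).mp
      (Groth.Agent.Lib.R2H7.SegStd.piece_ne_bot_sub k R 𝒜 hposR h0R hstdR hdR n hn)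
  have hneS : ∀ n : ℤ, 0 ≤ n → ∃ b ∈ toAS ℬ n, b ≠ 0 := fun n hn =>
    (Submodule.ne_bot_iff _).mp
      (Groth.Agent.Lib.R2H7.SegStd.piece_ne_bot_sub k S ℬ hposS h0S hstdS hdS n hn)
  obtain ⟨ηX, PX⟩ := dpack_left (HG (convRes 𝒜 𝒜 I) (convIdeal 𝒜 mR) r)
    (HG (convRes ℬ ℬ J) (convIdeal ℬ mS) s) hψ' h0T' D hpR hneS hXY
  obtain ⟨ηY, PY⟩ := dpack_right (HG (convRes 𝒜 𝒜 I) (convIdeal 𝒜 mR) r)
    (HG (convRes ℬ ℬ J) (convIdeal ℬ mS) s) hψ' h0T' D hpS hneR hYX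
  -- conclusion
  haveI hmaxR : (convIdeal 𝒜 mR).toIdeal.IsMaximal :=
    Groth.Agent.Lib.R2H7.GrHt.isMaximal_of_isCoatom (toAS 𝒜) hpR _ hslR.1
  haveI hmaxS : (convIdeal ℬ mS).toIdeal.IsMaximal :=
    Groth.Agent.Lib.R2H7.GrHt.isMaximal_of_isCoatom (toAS ℬ) hpS _ hslS.1
  have hvanR : ∀ j, j ≠ r → Subsingleton ((convRes 𝒜 𝒜 I).H (convIdeal 𝒜 mR) j) := fun j hj =>
    Groth.Agent.Lib.R2H7.GrGorCan2.subsingleton_H_of_ne hpR _ hslR r hr _ j hj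
  have hvanS : ∀ j, j ≠ s → Subsingleton ((convRes ℬ ℬ J).H (convIdeal ℬ mS) j) := fun j hj =>
    Groth.Agent.Lib.R2H7.GrGorCan2.subsingleton_H_of_ne hpS _ hslS s hs _ j hj
  obtain ⟨EX, e, he⟩ := exists_hull_residue (convIdeal 𝒜 mR)
  obtain ⟨α, hα1, -⟩ := exists_equiv_hull hpR hfR _ hslR hmR' EX.gr e he PX
  obtain ⟨EY, e', he'⟩ := exists_hull_residue (convIdeal ℬ mS)
  obtain ⟨β, hβ1, -⟩ := exists_equiv_hull hpS hfS _ hslS hmS' EY.gr e' he' PY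
  refine ⟨?_, ?_, ?_, hneg.1⟩
  · exact isGorensteinRing_of_equiv (convIdeal 𝒜 mR) hslR EX.gr r (convRes 𝒜 𝒜 I) hvanR
      he.starInj (-c) α hα1
  · exact isGorensteinRing_of_equiv (convIdeal ℬ mS) hslS EY.gr s (convRes ℬ ℬ J) hvanS
      he'.starInj (-c) β hβ1
  · rw [endDeg_conv 𝒜 I mR r, endDeg_conv ℬ J mS s]
    have e : (((c : ℤ) : WithTop ℤ) : WithBot (WithTop ℤ)) =
        (((aS : ℤ) : WithTop ℤ) : WithBot (WithTop ℤ)) := by rw [hcS]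
    exact haR.trans (e.trans haS.symm)

end main

end Groth.Agent.Lib.R2H7.SegGor
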