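/-
Graded Matlis duality for the graded `k`-dual: over a graded ring `R = ⊕_{n ≥ 0} R_n` with
`R_0 = k` a field, if the finitely generated graded module `C` is the graded `k`-dual of a graded
module `H` with finite dimensional pieces, then `Hom_R(C, *E_R(k)) ≅ H` as graded modules
(`exists_hom_equiv`).  In particular a finitely generated graded `k`-dual of the top graded local
cohomology is a *canonical module (`isStarCanonical_of_isGDual`), the converse of the dictionary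
`R2H7GrCanPair.exists_pairing'`.  (helper7)
-/
import Mathlib
import Groth.Agent.Lib.R2H7GrCanDict
import Groth.Agent.Lib.R2H7GrDualArt
import Groth.Agent.Lib.R2H7GrLocDual
import Groth.Agent.Lib.R2H7GrWPolyCan
import Groth.Agent.Lib.R2H7SegGor

set_option autoImplicit false
open DirectSum

noncomputable section

namespace Groth.Agent.Lib.R2H7.GrMatHom

open Groth.Agent.Lib.Helper24GrDual Groth.Agent.Lib.Helper24GrDual3
  Groth.Agent.Lib.Helper29GrBaer Groth.Agent.Lib.R2H7.GrBdry Groth.Agent.Lib.R2H7.GrCanDict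
  Groth.Agent.Lib.R2H7.GrDualArt Groth.Agent.Lib.R2H7.GrLocDual
  Groth.Agent.Lib.R2H7.GrWPolyCan Groth.Agent.Lib.R2H7.SegTotRB
  Groth.Agent.Lib.R2H7.SegConv Groth.Agent.Lib.R2H7.SegVan Groth.Agent.Lib.R2H7.SegCM

universe u

/-! ### The trace with values in `k` and maps into the envelope -/

section trace

variable {k : Type u} [Field k] {R : Type u} [CommRing R] [Algebra k R]
  {𝒜 : ℤ → AddSubgroup R} [GradedRing 𝒜]
  (hk : ∀ c : k, algebraMap k R c ∈ 𝒜 0)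
  (h0k : ∀ r ∈ 𝒜 0, ∃ c : k, algebraMap k R c = r)
  (hinj : Function.Injective (algebraMap k R))
  (hpos : ∀ n : ℤ, n < 0 → 𝒜 n = ⊥) (h0 : IsField (GrLC.deg0 𝒜))
  (m : HomogeneousIdeal 𝒜) (hm : GrLC.IsStarLocal 𝒜 m)
  (hmsp : m.toIdeal = Ideal.span (⋃ n ∈ Set.Ioi (0 : ℤ), (𝒜 n : Set R)))
  {E' : Type u} [AddCommGroup E'] [Module R E'] [Module k E'] [IsScalarTower k R E']
  (𝓔 : ℤ → AddSubgroup E') [DirectSum.Decomposition 𝓔] [SetLike.GradedSMul 𝒜 𝓔]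
  (e : (R ⧸ m.toIdeal) →ₗ[R] E') (he : GrLC.IsStarInjHull 𝒜 (GrLC.quotGr 𝒜 m) 𝓔 e)

include hk h0k hinj hpos h0 hm hmsp he in
/-- The trace `E' → k`, `k`-linearly. -/
theorem exists_traceK : ∃ τ : E' →ₗ[k] k,
    (∀ j : ℤ, j ≠ 0 → ∀ x ∈ 𝓔 j, τ x = 0) ∧ (∀ x ∈ 𝓔 0, τ x = 0 → x = 0) ∧
      τ (x0 m e) = 1 := by
  obtain ⟨τ₀, hτ0, hτne⟩ := exists_trace hpos h0 m hm hmsp 𝓔 e he
  have hσ : ∀ a : GrLC.deg0 𝒜, algebraMap k R (deg0Equiv hk h0k hinj a) = a.1 :=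
    deg0Equiv_algebraMap hk h0k hinj
  have hσ' : ∀ c : k, deg0Equiv hk h0k hinj (⟨algebraMap k R c, hk c⟩ : GrLC.deg0 𝒜) = c := by
    intro c
    apply hinj
    rw [hσ]
  refine ⟨{ toFun := fun x => deg0Equiv hk h0k hinj (τ₀ x), map_add' := ?_, map_smul' := ?_ },
    ?_, ?_, ?_⟩
  · intro x y
    rw [map_add, map_add]
  · intro c x
    have h1 : c • x = (⟨algebraMap k R c, hk c⟩ : GrLC.deg0 𝒜) • x := by
      show c • x = algebraMap k R c • x
      rw [algebraMap_smul]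
    rw [h1, map_smul, smul_eq_mul, map_mul, hσ', RingHom.id_apply, smul_eq_mul]
  · intro j hj x hx
    show deg0Equiv hk h0k hinj (τ₀ x) = 0
    rw [hτne j hj x hx, map_zero]
  · intro x hx hx0
    have h1 : τ₀ x = 0 := by
      have h2 : deg0Equiv hk h0k hinj (τ₀ x) = 0 := hx0
      exact (map_eq_zero_iff _ (deg0Equiv hk h0k hinj).injective).mp h2
    rw [← hτ0 x hx, h1, Subring.coe_zero, zero_smul]
  · show deg0Equiv hk h0k hinj (τ₀ (x0 m e)) = 1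
    have hx0 := x0_mem hpos m hmsp 𝓔 e he
    have h1 := hτ0 (x0 m e) hx0
    have h2 : (((τ₀ (x0 m e) : GrLC.deg0 𝒜) : R) - 1) • x0 m e = 0 := by
      rw [sub_smul, h1, one_smul, sub_self]
    have h3 := eq_zero_of_smul_x0 h0 m hm 𝓔 e he
      (sub_mem (show ((τ₀ (x0 m e) : GrLC.deg0 𝒜) : R) ∈ 𝒜 0 from (τ₀ (x0 m e)).2)
        (SetLike.GradedOne.one_mem (A := 𝒜))) h2
    have h4 : τ₀ (x0 m e) = 1 := Subtype.ext (sub_eq_zero.mp h3)
    rw [h4, map_one]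

variable {C : Type u} [AddCommGroup C] [Module R C] (𝒞 : ℤ → AddSubgroup C)
  [DirectSum.Decomposition 𝒞] [SetLike.GradedSMul 𝒜 𝒞]
  (τ : E' →ₗ[k] k) (hτ1 : ∀ j : ℤ, j ≠ 0 → ∀ x ∈ 𝓔 j, τ x = 0)
  (hτ2 : ∀ x ∈ 𝓔 0, τ x = 0 → x = 0)

include hτ1 in
theorem tau_eq_tau_P (x : E') : τ x = τ (P 𝓔 0 x) := by
  refine DirectSum.Decomposition.inductionOn 𝓔 (motive := fun x => τ x = τ (P 𝓔 0 x)) ?_ ?_ ?_ x
  · rw [P_zero]
  · intro j xj
    by_cases hj : j = 0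
    · subst hj
      rw [P_of_mem_same 𝓔 xj.2]
    · rw [P_of_mem_ne 𝓔 xj.2 hj, map_zero, hτ1 j hj _ xj.2]
  · intro x y hx hy
    rw [map_add, hx, hy, P_add, map_add]

include hpos hmsp he hτ2 in
/-- A homogeneous map to the envelope whose trace vanishes is zero. -/
theorem eq_zero_of_tau {d : ℤ} (f : C →ₗ[R] E') (hf : GrLC.IsGrHomDeg 𝒞 𝓔 f d)
    (hz : ∀ c ∈ 𝒞 (-d), τ (f c) = 0) : f = 0 := by
  refine eq_zero_of_vanish hpos m hmsp 𝓔 e he 𝒞 f hf (fun c hc => ?_)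
  refine hτ2 _ ?_ (hz c hc)
  have := hf (-d) c hc
  rwa [neg_add_cancel] at this

include hpos hmsp he 𝒞 hτ1 hτ2 in
/-- A map from a finitely generated graded module to the envelope whose trace vanishes is
zero. -/
theorem eq_zero_of_tau' [Module.Finite R C] (f : C →ₗ[R] E') (hz : ∀ c, τ (f c) = 0) :
    f = 0 := by
  classical
  obtain ⟨D, hD⟩ := exists_sum_part 𝒜 𝒞 𝓔 f
  rw [← hD]
  refine Finset.sum_eq_zero (fun d _ => ?_)
  refine eq_zero_of_tau hpos m hmsp 𝓔 e he 𝒞 τ hτ2 (part 𝒜 𝒞 𝓔 f d)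
    (part_isGrHomDeg 𝒜 𝒞 𝓔 f d) (fun c hc => ?_)
  rw [part_of_mem 𝒜 𝒞 𝓔 f d hc]
  have h1 : (-d + d : ℤ) = 0 := neg_add_cancel d
  rw [h1]
  exact (tau_eq_tau_P 𝓔 τ hτ1 (f c)).symm.trans (hz c)

include hk hpos h0 hmsp he in
/-- Every functional on a finite dimensional piece of a graded module is the trace of a
homogeneous map to the envelope. -/
theorem exists_hom_of_functional [Module k C] [IsScalarTower k R C] (hτ3 : τ (x0 m e) = 1)
    (i : ℤ) (V : Submodule k C) (hV : ∀ c, c ∈ V ↔ c ∈ 𝒞 i) [Module.Finite k V]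
    (Λ : C →ₗ[k] k) :
    ∃ f : C →ₗ[R] E', GrLC.IsGrHomDeg 𝒞 𝓔 f (-i) ∧ ∀ c ∈ 𝒞 i, τ (f c) = Λ c := by
  classical
  let W : Submodule k (Module.Dual k V) :=
    { carrier := {l | ∃ f : C →ₗ[R] E', GrLC.IsGrHomDeg 𝒞 𝓔 f (-i) ∧ ∀ v : V, l v = τ (f v.1)}
      add_mem' := by
        rintro l l' ⟨f, hf, hfl⟩ ⟨f', hf', hfl'⟩
        exact ⟨f + f', fun g c hc => add_mem (hf g c hc) (hf' g c hc), fun v => by
          rw [LinearMap.add_apply, LinearMap.add_apply, map_add, hfl, hfl']⟩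
      zero_mem' := ⟨0, fun g c _ => zero_mem _, fun v => by
        rw [LinearMap.zero_apply, LinearMap.zero_apply, map_zero]⟩
      smul_mem' := by
        rintro a l ⟨f, hf, hfl⟩
        refine ⟨algebraMap k R a • f, fun g c hc => ?_, fun v => ?_⟩
        · rw [LinearMap.smul_apply]
          have := SetLike.GradedSMul.smul_mem (A := 𝒜) (B := 𝓔) (hk a) (hf g c hc)
          rwa [vadd_eq_add, zero_add] at this
        · rw [LinearMap.smul_apply, LinearMap.smul_apply, algebraMap_smul, map_smul, hfl] }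
  have hW : W = ⊤ := by
    rw [← Subspace.dualCoannihilator_dualAnnihilator_eq (W := W)]
    have hbot : W.dualCoannihilator = ⊥ := by
      rw [Submodule.eq_bot_iff]
      intro v hv
      by_contra hv0
      have hvC : v.1 ∈ 𝒞 i := (hV v.1).mp v.2
      have hv0' : v.1 ≠ 0 := fun h => hv0 (Subtype.ext h)
      obtain ⟨f, hf, hfv⟩ := exists_sep hpos h0 m hmsp 𝓔 e he 𝒞 hvC hv0'
      let l : Module.Dual k V := (τ ∘ₗ (f.restrictScalars k)) ∘ₗ V.subtype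
      have hl : l ∈ W := ⟨f, hf, fun w => rfl⟩
      have h1 := (Submodule.mem_dualCoannihilator v).mp hv l hl
      have h2 : l v = τ (f v.1) := rfl
      rw [h2, hfv, hτ3] at h1
      exact one_ne_zero h1
    rw [hbot, Submodule.dualAnnihilator_bot]
  have hΛ : (Λ ∘ₗ V.subtype) ∈ W := by
    rw [hW]
    exact Submodule.mem_top
  obtain ⟨f, hf, hfl⟩ := hΛ
  exact ⟨f, hf, fun c hc => (hfl ⟨c, (hV c).mpr hc⟩).symm⟩

end trace

/-! ### The duality -/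

section main

variable {k : Type u} [Field k] {R : Type u} [CommRing R] [Algebra k R]
  (𝒜 : ℤ → Submodule k R) [GradedAlgebra 𝒜]

/-- Graded Matlis duality: `Hom_R(H^*, *E_R(k)) ≅ H` for a graded module `H` with finite
dimensional pieces whose graded `k`-dual `H^*` is finitely generated. -/
theorem exists_hom_equiv [Nontrivial R]
    (hposR : ∀ n : ℤ, n < 0 → 𝒜 n = ⊥) (h0R : 𝒜 0 = Submodule.span k {(1 : R)})
    (mR : HomogeneousIdeal 𝒜)
    (hmR : mR.toIdeal = Ideal.span (⋃ n ∈ Set.Ioi (0 : ℤ), (𝒜 n : Set R)))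
    {E' : Type u} [AddCommGroup E'] [Module R E'] [Module k E'] [IsScalarTower k R E']
    (𝓔 : ℤ → AddSubgroup E') [DirectSum.Decomposition 𝓔] [SetLike.GradedSMul 𝒜 𝓔]
    (e : (R ⧸ mR.toIdeal) →ₗ[R] E') (he : GrLC.IsStarInjHull 𝒜 (GrLC.quotGr 𝒜 mR) 𝓔 e)
    {C : Type u} [AddCommGroup C] [Module R C] [Module k C] [IsScalarTower k R C]
    (𝒞 : ℤ → AddSubgroup C) [DirectSum.Decomposition 𝒞] [SetLike.GradedSMul 𝒜 𝒞]
    [Module.Finite R C]
    {H : Type u} [AddCommGroup H] [Module R H] [Module k H] [twH : IsScalarTower k R H]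
    (ℋ : ℤ → AddSubgroup H) [DirectSum.Decomposition ℋ] [SetLike.GradedSMul 𝒜 ℋ]
    (β : C →ₗ[k] H →ₗ[k] k) (hβ : GrSeg.IsGDual R ℋ 𝒞 β)
    (hfd : ∀ j, Module.Finite k (pieceSub 𝒜 ℋ j)) :
    ∃ φ : (C →ₗ[R] E') ≃ₗ[R] H,
      GrLC.IsGrHom (fun d => (GrLC.homDeg 𝒜 𝒞 𝓔 d).toAddSubgroup) ℋ φ.toLinearMap := by
  classical
  have hinj : Function.Injective (algebraMap k R) := (algebraMap k R).injective
  have hk : ∀ c : k, algebraMap k R c ∈ toAS 𝒜 0 := fun c => SetLike.algebraMap_mem_graded 𝒜 c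
  have h0k := zero_toAS 𝒜 h0R
  have hf0 := isField_deg0 𝒜 h0k hinj
  have hp := pos_toAS 𝒜 hposR
  have hsl := isStarLocal_of_irrelevant 𝒜 hp hf0 mR hmR
  have hmR' : (convIdeal 𝒜 mR).toIdeal =
      Ideal.span (⋃ n ∈ Set.Ioi (0 : ℤ), (toAS 𝒜 n : Set R)) := hmR
  haveI : SetLike.GradedSMul (toAS 𝒜) 𝓔 := gsmul_conv 𝒜 𝓔
  haveI : SetLike.GradedSMul (toAS 𝒜) 𝒞 := gsmul_conv 𝒜 𝒞
  have he' := isStarInjHull_conv 𝒜 𝓔 mR e he
  obtain ⟨τ, hτ1, hτ2, hτ3⟩ :=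
    exists_traceK hk h0k hinj hp hf0 (convIdeal 𝒜 mR) hsl hmR' 𝓔 e he'
  have hflip : GrSeg.IsGDual R 𝒞 ℋ β.flip := isGDual_flip 𝒜 ℋ 𝒞 β hβ hfd
  have hfdC : ∀ i, Module.Finite k (pieceSub 𝒜 𝒞 i) := fun i => by
    haveI := hfd (-i)
    exact pieceSub_dual_finite 𝒜 ℋ 𝒞 β hβ i
  -- the map
  have hex : ∀ f : C →ₗ[R] E', ∃ h : H, ∀ c, β c h = τ (f c) := by
    intro f
    obtain ⟨D, hD⟩ := exists_sum_part (toAS 𝒜) 𝒞 𝓔 f
    obtain ⟨h, hh⟩ := exists_repr_finite 𝒞 ℋ β.flip hflip (τ ∘ₗ f.restrictScalars k)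
      (D.image (fun d => -d)) (by
        intro g hg c hc
        show τ (f c) = 0
        rw [← hD, LinearMap.sum_apply, map_sum]
        refine Finset.sum_eq_zero (fun d hd => ?_)
        have hne : g + d ≠ 0 := by
          intro h
          apply hg
          rw [Finset.mem_image]
          exact ⟨d, hd, by omega⟩
        exact hτ1 (g + d) hne _ (part_isGrHomDeg (toAS 𝒜) 𝒞 𝓔 f d g c hc))
    exact ⟨h, fun c => hh c⟩
  choose φf hφf using hex
  have huniq : ∀ h h' : H, (∀ c, β c h = β c h') → h = h' := by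
    intro h h' hh
    apply eq_of_sub_eq_zero
    apply sepD' 𝒞 ℋ β.flip hflip
    intro c
    rw [LinearMap.flip_apply, map_sub, hh c, sub_self]
  let φl : (C →ₗ[R] E') →ₗ[R] H :=
    { toFun := φf
      map_add' := fun f f' => huniq _ _ (fun c => by
        rw [hφf, map_add, hφf, hφf, LinearMap.add_apply, map_add])
      map_smul' := fun r f => huniq _ _ (fun c => by
        rw [RingHom.id_apply, hφf, ← hβ.map_smul r c (φf f), hφf, LinearMap.smul_apply,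
          f.map_smul r c]) }
  have hφl : ∀ f, φl f = φf f := fun f => rfl
  have hinj' : Function.Injective φl := by
    rw [injective_iff_map_eq_zero]
    intro f hf
    refine eq_zero_of_tau' hp (convIdeal 𝒜 mR) hmR' 𝓔 e he' 𝒞 τ hτ1 hτ2 f (fun c => ?_)
    rw [← hφf f c, ← hφl, hf, map_zero]
  have hsurj : Function.Surjective φl := by
    intro h
    refine DirectSum.Decomposition.inductionOn ℋ (motive := fun h => ∃ f, φl f = h) ?_ ?_ ?_ h
    · exact ⟨0, map_zero _⟩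
    · intro j hj
      haveI := hfdC (-j)
      obtain ⟨f, hf, hfv⟩ := exists_hom_of_functional hk hp hf0 (convIdeal 𝒜 mR) hmR' 𝓔 e he'
        𝒞 τ hτ3 (-j) (pieceSub 𝒜 𝒞 (-j)) (fun c => Iff.rfl) (β.flip hj.1)
      refine ⟨f, huniq _ _ (fun c => ?_)⟩
      rw [hφl, hφf]
      refine DirectSum.Decomposition.inductionOn 𝒞
        (motive := fun c => τ (f c) = β c hj.1) ?_ ?_ ?_ c
      · rw [map_zero, map_zero, map_zero, LinearMap.zero_apply]
      · intro g cg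
        by_cases hg : g = -j
        · subst hg
          rw [hfv _ cg.2, LinearMap.flip_apply]
        · have h1 : g + - -j ≠ 0 := by omega
          rw [hτ1 _ h1 _ (hf g _ cg.2)]
          exact (hβ.vanish g _ cg.2 j (by omega) _ hj.2).symm
      · intro c c' hc hc'
        rw [map_add, map_add, hc, hc', map_add, LinearMap.add_apply]
    · rintro h h' ⟨f, rfl⟩ ⟨f', rfl⟩
      exact ⟨f + f', map_add _ _ _⟩
  refine ⟨LinearEquiv.ofBijective φl ⟨hinj', hsurj⟩, fun d f hf => ?_⟩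
  show φf f ∈ ℋ d
  have hf' : GrLC.IsGrHomDeg 𝒞 𝓔 f d := hf
  apply mem_of_P_ne_eq_zero ℋ
  intro j hj
  apply sepD' 𝒞 ℋ β.flip hflip
  intro c
  have h1 := pair_eq_pair_P 𝒞 ℋ β.flip hflip (P_mem ℋ j (φf f)) c
  have h2 := pair_eq_pair_P ℋ 𝒞 β hβ (P_mem 𝒞 (-j) c) (φf f)
  rw [neg_neg] at h2
  rw [LinearMap.flip_apply, LinearMap.flip_apply] at h1
  rw [LinearMap.flip_apply, h1, ← h2, hφf]
  exact hτ1 (-j + d) (by omega) _ (hf' (-j) _ (P_mem 𝒞 (-j) c))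

/-- A finitely generated graded `k`-dual of the graded local cohomology `H^n_{R_+}(R)` with finite
dimensional pieces is a *canonical module. -/
theorem isStarCanonical_of_isGDual [Nontrivial R]
    (hposR : ∀ n : ℤ, n < 0 → 𝒜 n = ⊥) (h0R : 𝒜 0 = Submodule.span k {(1 : R)})
    (mR : HomogeneousIdeal 𝒜)
    (hmR : mR.toIdeal = Ideal.span (⋃ n ∈ Set.Ioi (0 : ℤ), (𝒜 n : Set R)))
    (n : ℕ) (I : GrLC.StarInjRes 𝒜 𝒜) [Module k (I.H mR n)] [IsScalarTower k R (I.H mR n)]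
    [DirectSum.Decomposition (I.Hgr mR n)] [SetLike.GradedSMul 𝒜 (I.Hgr mR n)]
    {E' : Type u} [AddCommGroup E'] [Module R E'] [Module k E'] [IsScalarTower k R E']
    (𝓔 : ℤ → AddSubgroup E') [DirectSum.Decomposition 𝓔] [SetLike.GradedSMul 𝒜 𝓔]
    (e : (R ⧸ mR.toIdeal) →ₗ[R] E') (he : GrLC.IsStarInjHull 𝒜 (GrLC.quotGr 𝒜 mR) 𝓔 e)
    {C : Type u} [AddCommGroup C] [Module R C] [Module k C] [IsScalarTower k R C]
    (𝒞 : ℤ → AddSubgroup C) [DirectSum.Decomposition 𝒞] [SetLike.GradedSMul 𝒜 𝒞]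
    [Module.Finite R C]
    (β : C →ₗ[k] I.H mR n →ₗ[k] k) (hβ : GrSeg.IsGDual R (I.Hgr mR n) 𝒞 β)
    (hfd : ∀ j, Module.Finite k (pieceSub 𝒜 (I.Hgr mR n) j)) :
    GrLC.IsStarCanonical 𝒜 𝒞 𝓔 mR n I := by
  obtain ⟨φ, hφ⟩ := exists_hom_equiv 𝒜 hposR h0R mR hmR 𝓔 e he 𝒞 (I.Hgr mR n) β hβ hfd
  exact ⟨inferInstance, φ, hφ⟩

end main

end Groth.Agent.Lib.R2H7.GrMatHom
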