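/-
A Noetherian `ℤ`-graded ring `R` with local degree-zero part and a homogeneous unit `t` of minimal
positive degree `N`: the quotient `C = R/(t - 1)` is a local ring (integral over `R_0`), and it is a
regular local ring as soon as `R` is regular.
-/
import Mathlib
import Groth.Prelude.Def_GrLC
import Groth.Agent.Lib.H6xWeierReg

set_option autoImplicit false
open DirectSum

noncomputable section

namespace Groth.Agent.Lib.R2H7.GrRegUnit

universe u

variable {R : Type u} [CommRing R] (𝒜 : ℤ → AddSubgroup R) [GradedRing 𝒜]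

/-! ### Homogeneous units -/

/-- The inverse of a homogeneous unit is homogeneous. -/
theorem inv_mem {d : ℤ} (v : Rˣ) (hv : (v : R) ∈ 𝒜 d) : ((v⁻¹ : Rˣ) : R) ∈ 𝒜 (-d) := by
  have h1 : (v : R) * ((v⁻¹ : Rˣ) : R) = 1 := v.mul_inv
  have h2 : ((decompose 𝒜 ((v : R) * ((v⁻¹ : Rˣ) : R)) (d + (-d)) : R)) =
      (v : R) * (decompose 𝒜 ((v⁻¹ : Rˣ) : R) (-d) : R) :=
    coe_decompose_mul_add_of_left_mem 𝒜 hv
  rw [h1, add_neg_cancel, decompose_of_mem_same 𝒜 (SetLike.GradedOne.one_mem)] at h2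
  have h3 : ((v⁻¹ : Rˣ) : R) = (decompose 𝒜 ((v⁻¹ : Rˣ) : R) (-d) : R) := by
    calc ((v⁻¹ : Rˣ) : R) = ((v⁻¹ : Rˣ) : R) * 1 := (mul_one _).symm
      _ = ((v⁻¹ : Rˣ) : R) * ((v : R) * (decompose 𝒜 ((v⁻¹ : Rˣ) : R) (-d) : R)) := by rw [← h2]
      _ = (decompose 𝒜 ((v⁻¹ : Rˣ) : R) (-d) : R) := by rw [← mul_assoc, Units.inv_mul, one_mul]
  rw [h3]
  exact SetLike.coe_mem _

theorem zpow_mem {d : ℤ} (v : Rˣ) (hv : (v : R) ∈ 𝒜 d) (k : ℤ) :
    ((v ^ k : Rˣ) : R) ∈ 𝒜 (k * d) := by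
  obtain ⟨n, rfl | rfl⟩ := Int.eq_nat_or_neg k
  · rw [zpow_natCast, Units.val_pow_eq_pow_val]
    have := SetLike.pow_mem_graded n hv
    rwa [nsmul_eq_mul] at this
  · rw [zpow_neg, zpow_natCast, ← inv_pow, Units.val_pow_eq_pow_val]
    have := SetLike.pow_mem_graded n (inv_mem 𝒜 v hv)
    rw [nsmul_eq_mul] at this
    convert this using 2
    ring

/-! ### The data -/

/-- A homogeneous unit `t` of minimal positive degree `N`. -/
structure Data (N : ℕ) (t : R) : Prop where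
  hN : 0 < N
  ht : t ∈ 𝒜 (N : ℤ)
  htu : IsUnit t
  hmin : ∀ (n : ℤ), 0 < n → n < (N : ℤ) → ∀ s ∈ 𝒜 n, ¬ IsUnit s

variable {𝒜} {N : ℕ} {t : R} (D : Data 𝒜 N t)

include D

theorem unit_mem : ((D.htu.unit : Rˣ) : R) ∈ 𝒜 (N : ℤ) := by
  rw [IsUnit.unit_spec]
  exact D.ht

theorem mk_zpow (k : ℤ) :
    Ideal.Quotient.mk (Ideal.span {t - 1}) ((D.htu.unit ^ k : Rˣ) : R) = 1 := by
  have h1 : Units.map (Ideal.Quotient.mk (Ideal.span {t - 1})).toMonoidHom D.htu.unit = 1 := by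
    ext
    rw [Units.coe_map, Units.val_one]
    show Ideal.Quotient.mk (Ideal.span {t - 1}) ((D.htu.unit : Rˣ) : R) = 1
    rw [IsUnit.unit_spec, ← sub_eq_zero, ← map_one (Ideal.Quotient.mk (Ideal.span {t - 1})),
      ← map_sub, Ideal.Quotient.eq_zero_iff_mem]
    exact Ideal.mem_span_singleton_self _
  have h2 : Units.map (Ideal.Quotient.mk (Ideal.span {t - 1})).toMonoidHom
      (D.htu.unit ^ k) = 1 := by
    rw [map_zpow, h1, one_zpow]
  have h3 := congrArg Units.val h2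
  rwa [Units.coe_map, Units.val_one] at h3

theorem reduce {i : ℤ} {a : R} (ha : a ∈ 𝒜 i) :
    ∃ b ∈ 𝒜 (i % (N : ℤ)), Ideal.Quotient.mk (Ideal.span {t - 1}) a =
      Ideal.Quotient.mk (Ideal.span {t - 1}) b := by
  refine ⟨a * ((D.htu.unit ^ (-(i / (N : ℤ))) : Rˣ) : R), ?_, ?_⟩
  · have h1 := zpow_mem 𝒜 D.htu.unit (unit_mem D) (-(i / (N : ℤ)))
    have h2 := SetLike.mul_mem_graded ha h1
    convert h2 using 2
    rw [Int.emod_def]
    ring
  · rw [map_mul, mk_zpow D, mul_one]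

variable (𝒜) in
/-- The ideal generated by the homogeneous non-units. -/
def Mstar : Ideal R := Ideal.span {h | SetLike.IsHomogeneousElem 𝒜 h ∧ ¬ IsUnit h}

theorem exists_decomp (a : R) :
    ∃ b ∈ Mstar 𝒜, ∃ r : GrLC.deg0 𝒜, a - (b + (r : R)) ∈ Ideal.span {t - 1} := by
  induction a using DirectSum.Decomposition.inductionOn 𝒜 with
  | zero => exact ⟨0, zero_mem _, 0, by simp⟩
  | homogeneous y =>
    rename_i i
    obtain ⟨b, hb, hmk⟩ := reduce D y.2
    have hsub : (y : R) - b ∈ Ideal.span {t - 1} := by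
      rw [← Ideal.Quotient.eq_zero_iff_mem, map_sub, hmk, sub_self]
    by_cases h0 : i % (N : ℤ) = 0
    · rw [h0] at hb
      refine ⟨0, zero_mem _, ⟨b, hb⟩, ?_⟩
      simpa using hsub
    · have hN' : ((N : ℕ) : ℤ) ≠ 0 := by exact_mod_cast D.hN.ne'
      have hpos : 0 < i % (N : ℤ) := lt_of_le_of_ne (Int.emod_nonneg _ hN') (Ne.symm h0)
      have hlt : i % (N : ℤ) < N := Int.emod_lt_of_pos _ (by exact_mod_cast D.hN)
      refine ⟨b, Ideal.subset_span ⟨⟨_, hb⟩, D.hmin _ hpos hlt b hb⟩, 0, ?_⟩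
      simpa using hsub
  | add a a' ha ha' =>
    obtain ⟨b, hb, r, h⟩ := ha
    obtain ⟨b', hb', r', h'⟩ := ha'
    refine ⟨b + b', add_mem hb hb', r + r', ?_⟩
    have := Ideal.add_mem _ h h'
    convert this using 1
    push_cast
    ring

/-! ### Integrality of `C` over `R_0` -/

variable (𝒜 t) in
/-- The map `R_0 → C`. -/
def phi0 : GrLC.deg0 𝒜 →+* R ⧸ Ideal.span {t - 1} :=
  (Ideal.Quotient.mk _).comp (GrLC.deg0 𝒜).subtype

theorem pow_eq {i : ℤ} {h : R} (hh : h ∈ 𝒜 i) :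
    ∃ c : GrLC.deg0 𝒜, (Ideal.Quotient.mk (Ideal.span {t - 1}) h) ^ N = phi0 𝒜 t c ∧
      (IsUnit (c : R) → IsUnit h) := by
  have h1 := zpow_mem 𝒜 D.htu.unit (unit_mem D) (-i)
  have h2 : h ^ N ∈ 𝒜 ((N : ℤ) * i) := by
    have := SetLike.pow_mem_graded N hh
    rwa [nsmul_eq_mul] at this
  have h3 : h ^ N * ((D.htu.unit ^ (-i) : Rˣ) : R) ∈ 𝒜 0 := by
    have := SetLike.mul_mem_graded h2 h1
    convert this using 2
    ring
  refine ⟨⟨_, h3⟩, ?_, ?_⟩
  · show _ = Ideal.Quotient.mk (Ideal.span {t - 1}) (h ^ N * ((D.htu.unit ^ (-i) : Rˣ) : R))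
    rw [map_mul, mk_zpow D, mul_one, map_pow]
  · intro hu
    have h4 : IsUnit (h ^ N) := isUnit_of_mul_isUnit_left hu
    exact (isUnit_pow_iff D.hN.ne').mp h4

theorem phi0_isIntegral : (phi0 𝒜 t).IsIntegral := by
  classical
  intro x
  obtain ⟨a, rfl⟩ := Ideal.Quotient.mk_surjective x
  let _ : Algebra (GrLC.deg0 𝒜) (R ⧸ Ideal.span {t - 1}) := (phi0 𝒜 t).toAlgebra
  show IsIntegral (GrLC.deg0 𝒜) (Ideal.Quotient.mk (Ideal.span {t - 1}) a)
  rw [← DirectSum.sum_support_decompose 𝒜 a, map_sum]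
  refine IsIntegral.sum _ (fun i _ => ?_)
  obtain ⟨c, hc, -⟩ := pow_eq D (SetLike.coe_mem (decompose 𝒜 a i))
  refine IsIntegral.of_pow D.hN ?_
  rw [hc]
  exact isIntegral_algebraMap

variable [IsLocalRing (GrLC.deg0 𝒜)]

theorem comap_phi0 (𝔐 : Ideal (R ⧸ Ideal.span {t - 1})) [𝔐.IsMaximal] :
    𝔐.comap (phi0 𝒜 t) = IsLocalRing.maximalIdeal (GrLC.deg0 𝒜) := by
  have := Ideal.isMaximal_comap_of_isIntegral_of_isMaximal' (phi0 𝒜 t) (phi0_isIntegral D) 𝔐
  exact IsLocalRing.eq_maximalIdeal this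

theorem mk_mem_of_not_isUnit (𝔐 : Ideal (R ⧸ Ideal.span {t - 1})) [𝔐.IsMaximal] {i : ℤ} {h : R}
    (hh : h ∈ 𝒜 i) (hnu : ¬ IsUnit h) : Ideal.Quotient.mk (Ideal.span {t - 1}) h ∈ 𝔐 := by
  obtain ⟨c, hc, hcu⟩ := pow_eq D hh
  have hc' : c ∈ IsLocalRing.maximalIdeal (GrLC.deg0 𝒜) := by
    rw [IsLocalRing.mem_maximalIdeal, mem_nonunits_iff]
    intro hu
    exact hnu (hcu (hu.map (GrLC.deg0 𝒜).subtype))
  rw [← comap_phi0 D 𝔐, Ideal.mem_comap, ← hc] at hc'
  exact Ideal.IsPrime.mem_of_pow_mem inferInstance _ hc'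

theorem Mstar_le (𝔐 : Ideal (R ⧸ Ideal.span {t - 1})) [𝔐.IsMaximal] :
    Mstar 𝒜 ≤ 𝔐.comap (Ideal.Quotient.mk (Ideal.span {t - 1})) := by
  rw [Mstar, Ideal.span_le]
  rintro h ⟨⟨i, hi⟩, hnu⟩
  exact mk_mem_of_not_isUnit D 𝔐 hi hnu

theorem maximal_le (𝔐 𝔐' : Ideal (R ⧸ Ideal.span {t - 1})) [𝔐.IsMaximal] [𝔐'.IsMaximal] :
    𝔐 ≤ 𝔐' := by
  intro x hx
  obtain ⟨a, rfl⟩ := Ideal.Quotient.mk_surjective x
  obtain ⟨b, hb, r, h⟩ := exists_decomp D a
  have h1 : Ideal.Quotient.mk (Ideal.span {t - 1}) a =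
      Ideal.Quotient.mk (Ideal.span {t - 1}) b + phi0 𝒜 t r := by
    have := Ideal.Quotient.eq_zero_iff_mem.mpr h
    rw [map_sub, sub_eq_zero, map_add] at this
    exact this
  have hb1 : Ideal.Quotient.mk (Ideal.span {t - 1}) b ∈ 𝔐 := Mstar_le D 𝔐 hb
  have hb2 : Ideal.Quotient.mk (Ideal.span {t - 1}) b ∈ 𝔐' := Mstar_le D 𝔐' hb
  have hr : phi0 𝒜 t r ∈ 𝔐 := by
    have := Ideal.sub_mem _ hx hb1
    rwa [h1, add_sub_cancel_left] at this
  have hr' : r ∈ 𝔐.comap (phi0 𝒜 t) := hr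
  rw [comap_phi0 D 𝔐, ← comap_phi0 D 𝔐'] at hr'
  rw [h1]
  exact Ideal.add_mem _ hb2 hr'

omit [IsLocalRing (GrLC.deg0 𝒜)] in
theorem not_isUnit_sub_one [Nontrivial R] : ¬ IsUnit (t - 1) := by
  classical
  rintro ⟨w', hw'⟩
  set w : R := ((w'⁻¹ : Rˣ) : R) with hw
  have hmul : (t - 1) * w = 1 := by
    rw [← hw', hw]
    exact w'.mul_inv
  have hw0 : w ≠ 0 := by
    intro h
    rw [h, mul_zero] at hmul
    exact zero_ne_one hmul
  have hS : (decompose 𝒜 w).support.Nonempty := by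
    rw [Finset.nonempty_iff_ne_empty, Ne, DFinsupp.support_eq_empty]
    intro h
    apply hw0
    have h' : decompose 𝒜 w = decompose 𝒜 0 := by rw [h, decompose_zero]
    exact (decompose 𝒜).injective h'
  set imax := (decompose 𝒜 w).support.max' hS with himax
  set imin := (decompose 𝒜 w).support.min' hS with himin
  have hmaxmem : imax ∈ (decompose 𝒜 w).support := Finset.max'_mem _ hS
  have hminmem : imin ∈ (decompose 𝒜 w).support := Finset.min'_mem _ hS
  have hzero_of_gt : ∀ j : ℤ, imax < j → (decompose 𝒜 w j : R) = 0 := by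
    intro j hj
    by_contra hne
    have hj' : j ∈ (decompose 𝒜 w).support := by
      rw [DFinsupp.mem_support_toFun]
      intro h0
      exact hne (by rw [h0]; rfl)
    exact absurd (Finset.le_max' _ j hj') (not_le.mpr hj)
  have hzero_of_lt : ∀ j : ℤ, j < imin → (decompose 𝒜 w j : R) = 0 := by
    intro j hj
    by_contra hne
    have hj' : j ∈ (decompose 𝒜 w).support := by
      rw [DFinsupp.mem_support_toFun]
      intro h0
      exact hne (by rw [h0]; rfl)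
    exact absurd (Finset.min'_le _ j hj') (not_le.mpr hj)
  have hne_max : (decompose 𝒜 w imax : R) ≠ 0 := by
    intro h0
    rw [DFinsupp.mem_support_toFun] at hmaxmem
    exact hmaxmem (Subtype.ext h0)
  have hne_min : (decompose 𝒜 w imin : R) ≠ 0 := by
    intro h0
    rw [DFinsupp.mem_support_toFun] at hminmem
    exact hminmem (Subtype.ext h0)
  have hcomp : ∀ j : ℤ, (decompose 𝒜 ((t - 1) * w) ((N : ℤ) + j) : R) =
      t * (decompose 𝒜 w j : R) - (decompose 𝒜 w ((N : ℤ) + j) : R) := by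
    intro j
    rw [sub_mul, one_mul, decompose_sub, DirectSum.sub_apply, AddSubgroup.coe_sub,
      coe_decompose_mul_add_of_left_mem 𝒜 D.ht]
  have hone : ∀ j : ℤ, j ≠ 0 → (decompose 𝒜 (1 : R) j : R) = 0 := fun j hj =>
    decompose_of_mem_ne 𝒜 (SetLike.GradedOne.one_mem) (Ne.symm hj)
  have hN' : (0 : ℤ) < N := by exact_mod_cast D.hN
  -- top degree
  have h1 : (N : ℤ) + imax = 0 := by
    by_contra hne
    have := hcomp imax
    rw [hmul, hone _ hne, hzero_of_gt ((N : ℤ) + imax) (by omega), sub_zero] at this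
    exact hne_max ((D.htu.mul_right_eq_zero).mp this.symm)
  -- bottom degree
  have h2 : imin = 0 := by
    by_contra hne
    have := hcomp (imin - N)
    rw [show (N : ℤ) + (imin - N) = imin by ring, hmul, hone _ hne,
      hzero_of_lt (imin - N) (by omega), mul_zero, zero_sub] at this
    exact hne_min (neg_eq_zero.mp this.symm)
  have h3 : imin ≤ imax := Finset.min'_le _ _ hmaxmem
  omega

theorem nontrivial_quot [Nontrivial R] : Nontrivial (R ⧸ Ideal.span {t - 1}) := by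
  rw [Ideal.Quotient.nontrivial_iff, Ne, Ideal.span_singleton_eq_top]
  exact not_isUnit_sub_one D

theorem isLocalRing_quot [Nontrivial R] : IsLocalRing (R ⧸ Ideal.span {t - 1}) := by
  have := nontrivial_quot D
  obtain ⟨𝔐, h𝔐⟩ := Ideal.exists_maximal (R ⧸ Ideal.span {t - 1})
  refine IsLocalRing.of_unique_max_ideal ⟨𝔐, h𝔐, fun 𝔐' h𝔐' => ?_⟩
  exact le_antisymm (maximal_le D 𝔐' 𝔐) (maximal_le D 𝔐 𝔐')

/-! ### Regularity -/

theorem isRegularLocalRing_quot [IsNoetherianRing R]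
    (hreg : ∀ (p : Ideal R) [p.IsPrime], IsRegularLocalRing (Localization.AtPrime p)) :
    IsRegularLocalRing (R ⧸ Ideal.span {t - 1}) := by
  have hnt : Nontrivial R :=
    ⟨⟨0, 1, fun h => zero_ne_one (α := GrLC.deg0 𝒜) (Subtype.ext h)⟩⟩
  have hloc : IsLocalRing (R ⧸ Ideal.span {t - 1}) := isLocalRing_quot D
  have hRR : IsRegularRing R := isRegularRing_iff.mpr hreg
  set n := IsLocalRing.maximalIdeal (R ⧸ Ideal.span {t - 1}) with hn
  have hnmax : n.IsMaximal := IsLocalRing.maximalIdeal.isMaximal _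
  set Q : Ideal R := n.comap (Ideal.Quotient.mk (Ideal.span {t - 1})) with hQ
  have hQprime : Q.IsPrime := Ideal.comap_isPrime _ _
  have htQ : t - 1 ∈ Q := by
    rw [hQ, Ideal.mem_comap, Ideal.Quotient.eq_zero_iff_mem.mpr (Ideal.mem_span_singleton_self _)]
    exact Ideal.zero_mem _
  set P : Ideal R := (Q.homogeneousCore 𝒜).toIdeal with hP
  have hPprime : P.IsPrime := Ideal.IsPrime.homogeneousCore hQprime
  have hPQ : P ≤ Q := Ideal.toIdeal_homogeneousCore_le 𝒜 Q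
  have hMP : Mstar 𝒜 ≤ P := by
    rw [Mstar, Ideal.span_le]
    rintro h ⟨⟨i, hi⟩, hnu⟩
    exact Ideal.mem_homogeneousCore_of_homogeneous_of_mem ⟨i, hi⟩
      (mk_mem_of_not_isUnit D n hi hnu)
  have hQle : Q ≤ P ⊔ Ideal.span {t - 1} := by
    intro a ha
    obtain ⟨b, hb, r, h⟩ := exists_decomp D a
    have hbP : b ∈ P := hMP hb
    have hrQ : (r : R) ∈ Q := by
      have h1 : a - (b + (r : R)) ∈ Q := (Ideal.span_singleton_le_iff_mem Q).mpr htQ h
      have h2 : (r : R) = a - b - (a - (b + (r : R))) := by ring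
      rw [h2]
      exact Ideal.sub_mem _ (Ideal.sub_mem _ ha (hPQ hbP)) h1
    have hrP : (r : R) ∈ P := Ideal.mem_homogeneousCore_of_homogeneous_of_mem ⟨0, r.2⟩ hrQ
    have h3 : a = (b + (r : R)) + (a - (b + (r : R))) := by ring
    rw [h3]
    exact Ideal.add_mem _ (Ideal.mem_sup_left (Ideal.add_mem _ hbP hrP)) (Ideal.mem_sup_right h)
  have htP : t - 1 ∉ P := by
    intro h
    have h1 := (Q.homogeneousCore 𝒜).isHomogeneous 0 h
    have hN0 : ((N : ℕ) : ℤ) ≠ 0 := by exact_mod_cast D.hN.ne'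
    rw [decompose_sub, DirectSum.sub_apply, AddSubgroup.coe_sub,
      decompose_of_mem_ne 𝒜 D.ht hN0, decompose_of_mem_same 𝒜 (SetLike.GradedOne.one_mem),
      zero_sub] at h1
    have h2 : (1 : R) ∈ P := by
      have := P.neg_mem h1
      rwa [neg_neg] at this
    exact hPprime.ne_top ((Ideal.eq_top_iff_one _).mpr h2)
  have hcrit : ∀ s : R, s ∉ Q → s * (t - 1) ∉ Q ^ 2 := by
    intro s hs hmem
    have h1 : Q ^ 2 ≤ P ⊔ Ideal.span {(t - 1) ^ 2} := by
      rw [pow_two]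
      refine (Ideal.mul_mono hQle hQle).trans ?_
      rw [Ideal.mul_le]
      intro x hx y hy
      obtain ⟨p1, hp1, j1, hj1, rfl⟩ := Submodule.mem_sup.mp hx
      obtain ⟨p2, hp2, j2, hj2, rfl⟩ := Submodule.mem_sup.mp hy
      obtain ⟨c1, rfl⟩ := Ideal.mem_span_singleton'.mp hj1
      obtain ⟨c2, rfl⟩ := Ideal.mem_span_singleton'.mp hj2
      have h4 : (p1 + c1 * (t - 1)) * (p2 + c2 * (t - 1)) =
          (p1 * (p2 + c2 * (t - 1)) + c1 * (t - 1) * p2) + (c1 * c2) * (t - 1) ^ 2 := by ring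
      rw [h4]
      exact Ideal.add_mem _ (Ideal.mem_sup_left (Ideal.add_mem _ (Ideal.mul_mem_right _ _ hp1)
        (Ideal.mul_mem_left _ _ hp2))) (Ideal.mem_sup_right (Ideal.mem_span_singleton'.mpr ⟨_, rfl⟩))
    obtain ⟨π, hπ, j, hj, hsum⟩ := Submodule.mem_sup.mp (h1 hmem)
    obtain ⟨r, rfl⟩ := Ideal.mem_span_singleton'.mp hj
    have h2 : (t - 1) * (s - r * (t - 1)) ∈ P := by
      have h5 : (t - 1) * (s - r * (t - 1)) = π := by linear_combination -hsum
      rw [h5]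
      exact hπ
    rcases hPprime.mem_or_mem h2 with h3 | h3
    · exact htP h3
    · apply hs
      have h6 : s = (s - r * (t - 1)) + r * (t - 1) := by ring
      rw [h6]
      exact Ideal.add_mem _ (hPQ h3) (Ideal.mul_mem_left _ _ htQ)
  have hreg' : IsRegularLocalRing (Localization.AtPrime n) :=
    Groth.Agent.Lib.H6xWeierReg.isRegularLocalRing_quot_localization (t - 1) n hcrit
  have hunits : n.primeCompl ≤ IsUnit.submonoid (R ⧸ Ideal.span {t - 1}) := by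
    intro x hx
    exact IsLocalRing.notMem_maximalIdeal.mp hx
  let e : (R ⧸ Ideal.span {t - 1}) ≃ₐ[R ⧸ Ideal.span {t - 1}] Localization.AtPrime n :=
    IsLocalization.atUnits (R ⧸ Ideal.span {t - 1}) n.primeCompl hunits
  exact IsRegularLocalRing.of_ringEquiv e.symm.toRingEquiv

end Groth.Agent.Lib.R2H7.GrRegUnit
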