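/-
For a `ℤ`-graded ring `R` with a homogeneous unit `t` of degree `N > 0`, the ring
`R[U]/(U^N - t)` is isomorphic to the Laurent polynomial ring over `C = R/(t - 1)`.
Consequently it is regular when `C` is a regular local ring.
-/
import Mathlib
import Groth.Agent.Lib.R2H7GrRegUnit
import Groth.Agent.Lib.Helper5Coact
import Groth.Agent.Lib.Helper19GRLoc
import Groth.Agent.Lib.Helper28RegLoc

set_option autoImplicit false
open DirectSum LaurentPolynomial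

noncomputable section

namespace Groth.Agent.Lib.R2H7.GrRegRoot

open Groth.Agent.Lib.Helper5.Coact Groth.Agent.Lib.R2H7.GrRegUnit

universe u

variable {R : Type u} [CommRing R] (𝒜 : ℤ → AddSubgroup R) [GradedRing 𝒜] (N : ℕ) (t : R)

/-- The quotient `C = R/(t - 1)`. -/
abbrev Cq : Type u := R ⧸ Ideal.span {t - 1}

/-- The ring `R' = R[U]/(U^N - t)`. -/
abbrev Rp : Type u := AdjoinRoot (Polynomial.X ^ N - Polynomial.C t)

theorem mk_t : (Ideal.Quotient.mk (Ideal.span {t - 1}) t : Cq t) = 1 := by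
  rw [← sub_eq_zero, ← map_one (Ideal.Quotient.mk (Ideal.span {t - 1})), ← map_sub,
    Ideal.Quotient.eq_zero_iff_mem]
  exact Ideal.mem_span_singleton_self _

/-! ### The map `R' → C[T, T⁻¹]` -/

/-- `R → C[T, T⁻¹]`, `a ↦ Σ ā_i T^i`. -/
def gamma : R →+* (Cq t)[T;T⁻¹] :=
  (AddMonoidAlgebra.mapRingHom ℤ (Ideal.Quotient.mk (Ideal.span {t - 1}))).comp
    (coact 𝒜 (AddMonoidHom.id ℤ))

theorem gamma_of_mem {i : ℤ} {a : R} (ha : a ∈ 𝒜 i) :
    gamma 𝒜 t a = C (Ideal.Quotient.mk (Ideal.span {t - 1}) a) * T i := by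
  rw [gamma, RingHom.comp_apply, coact_of_mem 𝒜 _ ha, AddMonoidAlgebra.mapRingHom_single,
    AddMonoidHom.id_apply, single_eq_C_mul_T]

variable {𝒜 N t}

theorem eval_gamma (ht : t ∈ 𝒜 (N : ℤ)) :
    (Polynomial.X ^ N - Polynomial.C t).eval₂ (gamma 𝒜 t) (T 1) = 0 := by
  rw [Polynomial.eval₂_sub, Polynomial.eval₂_pow, Polynomial.eval₂_X, Polynomial.eval₂_C,
    gamma_of_mem 𝒜 t ht, mk_t, map_one, one_mul, T_pow, mul_one, sub_self]

/-- The map `R' → C[T, T⁻¹]`. -/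
def Phi (ht : t ∈ 𝒜 (N : ℤ)) : Rp N t →+* (Cq t)[T;T⁻¹] :=
  AdjoinRoot.lift (gamma 𝒜 t) (T 1) (eval_gamma ht)

theorem Phi_of (ht : t ∈ 𝒜 (N : ℤ)) (a : R) :
    Phi ht (AdjoinRoot.of _ a) = gamma 𝒜 t a := AdjoinRoot.lift_of _

theorem Phi_root (ht : t ∈ 𝒜 (N : ℤ)) : Phi ht (AdjoinRoot.root _) = T 1 := AdjoinRoot.lift_root _

/-! ### The unit `U` -/

theorem root_pow : (AdjoinRoot.root (Polynomial.X ^ N - Polynomial.C t)) ^ N =
    AdjoinRoot.of _ t := by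
  have h := AdjoinRoot.mk_self (f := Polynomial.X ^ N - Polynomial.C t)
  rw [map_sub, map_pow, AdjoinRoot.mk_X, AdjoinRoot.mk_C, sub_eq_zero] at h
  exact h

theorem isUnit_root (hN : 0 < N) (htu : IsUnit t) :
    IsUnit (AdjoinRoot.root (Polynomial.X ^ N - Polynomial.C t)) := by
  apply (isUnit_pow_iff hN.ne').mp
  rw [root_pow]
  exact htu.map _

/-! ### The map `C[T, T⁻¹] → R'` -/

variable (𝒜) in
/-- `R → R'`, `a ↦ Σ a_i U^{-i}`. -/
def delta (U : (Rp N t)ˣ) : R →+* Rp N t :=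
  (LaurentPolynomial.eval₂ (AdjoinRoot.of _) U⁻¹).comp (coact 𝒜 (AddMonoidHom.id ℤ))

theorem delta_of_mem (U : (Rp N t)ˣ) {i : ℤ} {a : R} (ha : a ∈ 𝒜 i) :
    delta 𝒜 U a = AdjoinRoot.of _ a * ((U⁻¹ ^ i : (Rp N t)ˣ) : Rp N t) := by
  rw [delta, RingHom.comp_apply, coact_of_mem 𝒜 _ ha, AddMonoidHom.id_apply, single_eq_C_mul_T,
    map_mul, eval₂_C, eval₂_T]

theorem delta_t (U : (Rp N t)ˣ) (hU : (U : Rp N t) = AdjoinRoot.root _) (ht : t ∈ 𝒜 (N : ℤ)) :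
    delta 𝒜 U t = 1 := by
  rw [delta_of_mem U ht, ← root_pow, ← hU, zpow_natCast, ← Units.val_pow_eq_pow_val,
    ← Units.val_mul, inv_pow, mul_inv_cancel, Units.val_one]

/-- `C → R'`. -/
def psi (U : (Rp N t)ˣ) (hU : (U : Rp N t) = AdjoinRoot.root _) (ht : t ∈ 𝒜 (N : ℤ)) :
    Cq t →+* Rp N t :=
  Ideal.Quotient.lift (Ideal.span {t - 1}) (delta 𝒜 U) (by
    intro a ha
    obtain ⟨c, rfl⟩ := Ideal.mem_span_singleton'.mp ha
    rw [map_mul, map_sub, delta_t U hU ht, map_one, sub_self, mul_zero])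

theorem psi_mk (U : (Rp N t)ˣ) (hU : (U : Rp N t) = AdjoinRoot.root _) (ht : t ∈ 𝒜 (N : ℤ))
    (a : R) : psi U hU ht (Ideal.Quotient.mk _ a) = delta 𝒜 U a := Ideal.Quotient.lift_mk _ _ _

/-- `C[T, T⁻¹] → R'`. -/
def Psi (U : (Rp N t)ˣ) (hU : (U : Rp N t) = AdjoinRoot.root _) (ht : t ∈ 𝒜 (N : ℤ)) :
    (Cq t)[T;T⁻¹] →+* Rp N t :=
  LaurentPolynomial.eval₂ (psi U hU ht) U

/-! ### The two compositions -/

theorem Psi_comp_Phi (U : (Rp N t)ˣ) (hU : (U : Rp N t) = AdjoinRoot.root _)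
    (ht : t ∈ 𝒜 (N : ℤ)) : (Psi U hU ht).comp (Phi ht) = RingHom.id _ := by
  apply AdjoinRoot.ringHom_ext
  · ext a
    show Psi U hU ht (Phi ht (AdjoinRoot.of _ a)) = AdjoinRoot.of _ a
    refine ring_ind 𝒜 (P := fun a => Psi U hU ht (Phi ht (AdjoinRoot.of _ a)) =
      AdjoinRoot.of _ a) ?_ ?_ ?_ a
    · show Psi U hU ht (Phi ht (AdjoinRoot.of _ 0)) = AdjoinRoot.of _ 0
      rw [map_zero, map_zero, map_zero]
    · intro i a ha
      show Psi U hU ht (Phi ht (AdjoinRoot.of _ a)) = AdjoinRoot.of _ a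
      rw [Phi_of, gamma_of_mem 𝒜 t ha, Psi, map_mul, eval₂_C, eval₂_T, psi_mk, delta_of_mem U ha,
        mul_assoc, ← Units.val_mul, inv_zpow, inv_mul_cancel, Units.val_one, mul_one]
    · intro a b ha hb
      show Psi U hU ht (Phi ht (AdjoinRoot.of _ (a + b))) = AdjoinRoot.of _ (a + b)
      rw [map_add, map_add, map_add, ha, hb]
  · show Psi U hU ht (Phi ht (AdjoinRoot.root _)) = AdjoinRoot.root _
    rw [Phi_root, Psi, eval₂_T, zpow_one, hU]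

theorem val_zpow_eq_T {S : Type u} [CommRing S] (V : (S[T;T⁻¹])ˣ) (hV : (V : S[T;T⁻¹]) = T 1)
    (k : ℤ) : ((V ^ k : (S[T;T⁻¹])ˣ) : S[T;T⁻¹]) = T k := by
  have hinv : ((V⁻¹ : (S[T;T⁻¹])ˣ) : S[T;T⁻¹]) = T (-1) := by
    apply Units.inv_eq_of_mul_eq_one_right
    rw [hV, ← T_add]
    rfl
  obtain ⟨n, rfl | rfl⟩ := Int.eq_nat_or_neg k
  · rw [zpow_natCast, Units.val_pow_eq_pow_val, hV, T_pow, mul_one]
  · rw [zpow_neg, zpow_natCast, ← inv_pow, Units.val_pow_eq_pow_val, hinv, T_pow]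
    congr 1
    ring

theorem Phi_comp_Psi (U : (Rp N t)ˣ) (hU : (U : Rp N t) = AdjoinRoot.root _)
    (ht : t ∈ 𝒜 (N : ℤ)) : (Phi ht).comp (Psi U hU ht) = RingHom.id _ := by
  have hV : ((Units.map (Phi ht).toMonoidHom U : ((Cq t)[T;T⁻¹])ˣ) : (Cq t)[T;T⁻¹]) = T 1 := by
    rw [Units.coe_map]
    show Phi ht (U : Rp N t) = T 1
    rw [hU, Phi_root]
  have hPhiU : ∀ k : ℤ, Phi ht ((U ^ k : (Rp N t)ˣ) : Rp N t) = T k := by
    intro k
    have h1 : Phi ht ((U ^ k : (Rp N t)ˣ) : Rp N t) =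
        ((Units.map (Phi ht).toMonoidHom (U ^ k) : ((Cq t)[T;T⁻¹])ˣ) : (Cq t)[T;T⁻¹]) := by
      rw [Units.coe_map]
      rfl
    rw [h1, map_zpow, val_zpow_eq_T _ hV]
  apply AddMonoidAlgebra.ringHom_ext
  · intro c
    obtain ⟨a, rfl⟩ := Ideal.Quotient.mk_surjective c
    show Phi ht (Psi U hU ht (C (Ideal.Quotient.mk _ a))) = C (Ideal.Quotient.mk _ a)
    rw [Psi, eval₂_C, psi_mk]
    refine ring_ind 𝒜 (P := fun a => Phi ht (delta 𝒜 U a) =
      C (Ideal.Quotient.mk (Ideal.span {t - 1}) a)) ?_ ?_ ?_ a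
    · show Phi ht (delta 𝒜 U 0) = C (Ideal.Quotient.mk (Ideal.span {t - 1}) 0)
      rw [map_zero, map_zero, map_zero, map_zero]
    · intro i a ha
      show Phi ht (delta 𝒜 U a) = C (Ideal.Quotient.mk (Ideal.span {t - 1}) a)
      rw [delta_of_mem U ha, map_mul, Phi_of, gamma_of_mem 𝒜 t ha, inv_zpow, ← zpow_neg, hPhiU,
        mul_assoc, ← T_add, add_neg_cancel, T_zero, mul_one]
    · intro a b ha hb
      show Phi ht (delta 𝒜 U (a + b)) = C (Ideal.Quotient.mk (Ideal.span {t - 1}) (a + b))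
      rw [map_add, map_add, map_add, map_add, ha, hb]
  · intro m
    show Phi ht (Psi U hU ht (T m)) = T m
    rw [Psi, eval₂_T, hPhiU]

/-- `R[U]/(U^N - t) ≃ C[T, T⁻¹]`. -/
def equiv (hN : 0 < N) (htu : IsUnit t) (ht : t ∈ 𝒜 (N : ℤ)) : Rp N t ≃+* (Cq t)[T;T⁻¹] :=
  RingEquiv.ofRingHom (Phi ht) (Psi (isUnit_root hN htu).unit (IsUnit.unit_spec _) ht)
    (Phi_comp_Psi _ _ ht) (Psi_comp_Phi _ _ ht)

/-! ### Regularity -/

theorem isRegularRing_laurent (S : Type u) [CommRing S] [IsRegularLocalRing S] :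
    IsRegularRing S[T;T⁻¹] := by
  have h1 : IsRegularRing S :=
    ⟨fun p _ => Groth.Agent.Lib.Helper28.isRegularLocalRing_localization_of_isRegularLocalRing S p⟩
  have h2 : IsRegularRing (Polynomial S) := inferInstance
  exact Groth.Agent.Lib.Helper19.GR.isRegularRing_of_isLocalization
    (Submonoid.powers (Polynomial.X : Polynomial S))

theorem isRegularRing_adjoinRoot [IsNoetherianRing R] [IsLocalRing (GrLC.deg0 𝒜)]
    (D : Data 𝒜 N t)
    (hreg : ∀ (p : Ideal R) [p.IsPrime], IsRegularLocalRing (Localization.AtPrime p)) :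
    IsRegularRing (Rp N t) := by
  have hC : IsRegularLocalRing (Cq t) := isRegularLocalRing_quot D hreg
  have hL := isRegularRing_laurent (Cq t)
  exact IsRegularRing.of_ringEquiv (equiv D.hN D.htu D.ht).symm

/-- The product condition `R_i R_j ⊆ m t` (`i + j = N`, `i, j > 0`) forces `N` to be the least
positive degree of a homogeneous unit. -/
theorem data_of_mul_mem [IsLocalRing (GrLC.deg0 𝒜)] (hN : 0 < N) (ht : t ∈ 𝒜 (N : ℤ))
    (htu : IsUnit t)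
    (hm : ∀ (i j : ℤ), 0 < i → 0 < j → i + j = (N : ℤ) → ∀ a ∈ 𝒜 i, ∀ b ∈ 𝒜 j,
      ∃ c : GrLC.deg0 𝒜, c ∈ IsLocalRing.maximalIdeal (GrLC.deg0 𝒜) ∧ a * b = (c : R) * t) :
    Data 𝒜 N t := by
  refine ⟨hN, ht, htu, ?_⟩
  intro n hn0 hnN s hs hsu
  have hsv : ((hsu.unit : Rˣ) : R) = s := IsUnit.unit_spec hsu
  have hsinv := inv_mem 𝒜 hsu.unit (by rw [hsv]; exact hs)
  have hs' : ((hsu.unit⁻¹ : Rˣ) : R) * t ∈ 𝒜 ((N : ℤ) - n) := by
    have := SetLike.mul_mem_graded hsinv ht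
    convert this using 2
    ring
  obtain ⟨c, hc, hct⟩ := hm n ((N : ℤ) - n) hn0 (by omega) (by ring) s hs _ hs'
  have h1 : s * (((hsu.unit⁻¹ : Rˣ) : R) * t) = t := by
    rw [← mul_assoc]
    have h0 : s * ((hsu.unit⁻¹ : Rˣ) : R) = 1 := by
      have h00 : ((hsu.unit : Rˣ) : R) * ((hsu.unit⁻¹ : Rˣ) : R) = 1 := Units.mul_inv _
      rw [hsv] at h00
      exact h00
    rw [h0, one_mul]
  rw [h1] at hct
  have h2 : (c : R) = 1 := by
    apply htu.mul_left_injective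
    show (c : R) * t = 1 * t
    rw [one_mul, ← hct]
  have h3 : c = 1 := Subtype.ext h2
  rw [h3] at hc
  exact (IsLocalRing.maximalIdeal.isMaximal _).ne_top ((Ideal.eq_top_iff_one _).mpr hc)

end Groth.Agent.Lib.R2H7.GrRegRoot
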