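/-
Sharpness of the bound beyond which the Hilbert function of a Cohen-Macaulay graded module over a
polynomial ring agrees with its Hilbert polynomial: when only one local cohomology module
`H^δ_m(X)` survives, Serre's formula reads `H_X(n) - P_X(n) = (-1)^δ ℓ(H^δ_m(X)_n)`, and the
Eisenbud-Goto theorem locates the top nonvanishing degree of `H^δ_m(X)` at `reg X - δ`.
-/
import Mathlib
import Groth.Agent.Lib.R2H7GrSerre
import Groth.Agent.Lib.R2H7GrRes
import Groth.Agent.Lib.Helper8LCDepth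
import Groth.Agent.S16323

set_option autoImplicit false
open DirectSum

noncomputable section

namespace Groth.Agent.Lib.R2H7.GrSharp

open Groth.Agent.Lib.R2H7.GrDer Groth.Agent.Lib.R2H7.GrOps Groth.Agent.Lib.R2H7.GrLES
  Groth.Agent.Lib.R2H7.GrTop Groth.Agent.Lib.R2H7.GrEv Groth.Agent.Lib.R2H7.GrH
  Groth.Agent.Lib.R2H7.GrLen Groth.Agent.Lib.R2H7.GrSerre Groth.Agent.Lib.R2H7.GrGen
  Groth.Agent.Lib.R2H7.GrBdry Groth.Agent.Lib.R2H7.GrPoly Groth.Agent.Lib.R2H7.GrReg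
  Groth.Agent.Lib.R2H7.GrRes Groth.Agent.Lib.R2H7.GrTors

universe u

/-! ### Generic part -/

section generic

variable {R : Type u} [CommRing R] {𝒜 : ℤ → AddSubgroup R} [GradedRing 𝒜]
variable (a : HomogeneousIdeal 𝒜)

/-- A piece of finite length and of length zero vanishes. -/
theorem vanX_of_hgLen_eq_zero {X : GrLC.GMod.{u} 𝒜} {i : ℕ} {n : ℤ}
    (hfl : PX (fun N _ _ => IsFiniteLength (GrLC.deg0 𝒜) N) a X i n)
    (h : hgLen a X i n = 0) : VanX a X i n := by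
  obtain ⟨E⟩ := exists_res X
  rw [hgLen_eq a E] at h
  have hfl' := hfl E
  have hne : Module.length (GrLC.deg0 𝒜) (Hg a E i n) ≠ ⊤ := Module.length_ne_top_iff.mpr hfl'
  have h0 : Module.length (GrLC.deg0 𝒜) (Hg a E i n) = 0 := by
    unfold lenQ at h
    have h1 : (Module.length (GrLC.deg0 𝒜) (Hg a E i n)).toNat = 0 := by exact_mod_cast h
    rcases (ENat.toNat_eq_zero).mp h1 with h2 | h2
    · exact h2
    · exact absurd h2 hne
  have hs : Subsingleton (Hg a E i n) := Module.length_eq_zero_iff.mp h0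
  rw [vanX_iff a E]
  intro z hz hzg
  have h3 : (Submodule.Quotient.mk (p := Bg a E i n) ⟨z, (mem_Zg a E).mpr ⟨hz, hzg⟩⟩ :
      Hg a E i n) = 0 := Subsingleton.elim _ _
  have h4 : (⟨z, (mem_Zg a E).mpr ⟨hz, hzg⟩⟩ : ↥(Zg a E i n)) ∈ Bg a E i n :=
    (Submodule.Quotient.mk_eq_zero _).mp h3
  exact (mem_Bg a E).mp h4

variable [IsNoetherianRing R] [IsArtinianRing (GrLC.deg0 𝒜)]

/-- Serre's formula when a single local cohomology module survives in degree `n`. -/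
theorem serre_single (hpos : ∀ n : ℤ, n < 0 → 𝒜 n = ⊥)
    (hle : ∀ k : ℤ, 0 < k → ∀ r ∈ 𝒜 k, r ∈ a.toIdeal) (htors : TorsHyp a)
    (hstd : Ideal.span (⋃ n ∈ Set.Ioi (0 : ℤ), (𝒜 n : Set R)) =
      Ideal.span ((𝒜 1 : AddSubgroup R) : Set R)) (d : ℕ)
    (hvan : ∀ (Y : GrLC.GMod.{u} 𝒜) (g : ℤ), VanX a Y (d + 1) g)
    (X : GrLC.GMod.{u} 𝒜) [hfin : Module.Finite R X.carrier] (P : Polynomial ℚ)
    (hP : ∃ N : ℤ, ∀ n : ℤ, N ≤ n →
      P.eval (n : ℚ) = lenQ (GrLC.deg0 𝒜) ↥(GrLC.comp 𝒜 X.gr n)) (n : ℤ) (δ : ℕ) (hδ : δ ≤ d)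
    (hother : ∀ i : ℕ, i ≠ δ → VanX a X i n) :
    lenQ (GrLC.deg0 𝒜) ↥(GrLC.comp 𝒜 X.gr n) ≠ P.eval (n : ℚ) ↔ ¬ VanX a X δ n := by
  have h := serre_formula a hpos hle htors hstd d hvan X P hP n
  have hchi : chi a d X n = (-1 : ℚ) ^ δ * hgLen a X δ n := by
    unfold chi
    refine Finset.sum_eq_single δ (fun i _ hi => ?_) (fun hi => ?_)
    · rw [hgLen_of_vanX a (hother i hi), mul_zero]
    · exact absurd (Finset.mem_range.mpr (Nat.lt_succ_of_le hδ)) hi
  rw [hchi] at h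
  have hpow : ((-1 : ℚ) ^ δ) ≠ 0 := pow_ne_zero _ (by norm_num)
  constructor
  · intro h1 h2
    rw [hgLen_of_vanX a h2, mul_zero] at h
    exact h1 (sub_eq_zero.mp h)
  · intro h1 h2
    rw [h2, sub_self] at h
    exact h1 (vanX_of_hgLen_eq_zero a (fl_pieces a hpos hle htors X δ n)
      ((mul_eq_zero.mp h.symm).resolve_left hpow))

end generic

/-! ### Lengths along a surjective ring homomorphism -/

section length

theorem length_eq_of_semilinear {A B : Type*} [CommRing A] [CommRing B] (τ : A →+* B)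
    (hτ : Function.Surjective τ) {N₁ N₂ : Type*} [AddCommGroup N₁] [Module A N₁]
    [AddCommGroup N₂] [Module B N₂] (e : N₁ ≃+ N₂)
    (he : ∀ (a : A) (x : N₁), e (a • x) = τ a • e x) :
    Module.length A N₁ = Module.length B N₂ := by
  have : RingHomSurjective τ := ⟨hτ⟩
  let f : N₁ →ₛₗ[τ] N₂ := { toFun := e, map_add' := e.map_add, map_smul' := he }
  rw [Module.length, Module.length, WithBot.unbot_inj,
    Order.krullDim_eq_of_orderIso (Submodule.orderIsoMapComapOfBijective f e.bijective)]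

end length

/-! ### The polynomial ring -/

section poly

variable (k : Type u) [Field k] (N : ℕ)

theorem hpos_poly (m : ℤ) (hm : m < 0) : toAS (GrSyz.stdGr k (Fin N)) m = ⊥ := by
  rw [eq_bot_iff]
  intro p hp
  have h1 : p ∈ GrSyz.stdGr k (Fin N) m := hp
  have h2 : MvPolynomial.constantCoeff p = 0 := by
    rw [MvPolynomial.constantCoeff_eq]
    by_contra hne
    have hw := ((GrSyz.mem_stdGr_iff k (Fin N) m p).mp h1) hne
    rw [map_zero] at hw
    omega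
  exact AddSubgroup.mem_bot.mpr
    (Groth.Agent.Lib.Helper23.eq_zero_of_mem_stdGr_of_nonpos hm.le h1 h2)

/-- The constants, as a ring homomorphism onto the degree zero part. -/
def tau : k →+* ↥(GrLC.deg0 (toAS (GrSyz.stdGr k (Fin N)))) where
  toFun c := ⟨MvPolynomial.C c,
    (GrSyz.mem_stdGr_iff k (Fin N) _ _).2 (MvPolynomial.isWeightedHomogeneous_C _ _)⟩
  map_one' := Subtype.ext (map_one _)
  map_mul' x y := Subtype.ext (map_mul _ x y)
  map_zero' := Subtype.ext (map_zero _)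
  map_add' x y := Subtype.ext (map_add _ x y)

theorem tau_surjective : Function.Surjective (tau k N) := by
  rintro ⟨p, hp⟩
  refine ⟨MvPolynomial.constantCoeff p, Subtype.ext ?_⟩
  exact (Groth.Agent.Helper13RegCount.eq_C_of_mem_stdGr_zero hp).symm

instance isArtinianRing_deg0_poly :
    IsArtinianRing ↥(GrLC.deg0 (toAS (GrSyz.stdGr k (Fin N)))) :=
  (tau_surjective k N).isArtinianRing

theorem hle_poly : ∀ e : ℤ, 0 < e → ∀ r ∈ toAS (GrSyz.stdGr k (Fin N)) e,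
    r ∈ (mm k N).toIdeal :=
  fun e he r hr => Ideal.subset_span ⟨e, he, hr⟩

theorem torsHyp_poly : TorsHyp (mm k N) := by
  intro X _ hkill m
  refine ⟨1, fun r hr => ?_⟩
  rw [pow_one] at hr
  have hr' : r ∈ Ideal.span {r : MvPolynomial (Fin N) k |
      ∃ e : ℤ, 0 < e ∧ r ∈ GrSyz.stdGr k (Fin N) e} := hr
  refine Submodule.span_induction (p := fun r _ => r • m = 0) ?_ ?_ ?_ ?_ hr'
  · rintro x ⟨e, he, hx⟩
    exact hkill e he x hx m
  · exact zero_smul _ _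
  · intro x y _ _ hx hy
    rw [add_smul, hx, hy, add_zero]
  · intro c x _ hx
    rw [smul_eq_mul, mul_smul, hx, smul_zero]

theorem hstd_poly :
    Ideal.span (⋃ e ∈ Set.Ioi (0 : ℤ),
      (toAS (GrSyz.stdGr k (Fin N)) e : Set (MvPolynomial (Fin N) k))) =
      Ideal.span ((toAS (GrSyz.stdGr k (Fin N)) 1 : AddSubgroup (MvPolynomial (Fin N) k)) :
        Set (MvPolynomial (Fin N) k)) := by
  apply le_antisymm
  · rw [Ideal.span_le]
    intro p hp
    obtain ⟨e, he, hpe⟩ := Set.mem_iUnion₂.mp hp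
    have h1 : p ∈ (mm k N).toIdeal := hle_poly k N e he p hpe
    rw [mm_eq_span] at h1
    exact h1
  · apply Ideal.span_mono
    intro p hp
    exact Set.mem_iUnion₂.mpr ⟨1, Set.mem_Ioi.mpr one_pos, hp⟩

theorem hvan_poly (Y : GrLC.GMod.{u} (toAS (GrSyz.stdGr k (Fin N)))) (g : ℤ) :
    VanX (mm k N) Y (N + 1) g := by
  classical
  refine vanX_of_card_lt (mm k N)
    (Finset.univ.image (fun l : Fin N => (MvPolynomial.X l : MvPolynomial (Fin N) k))) ?_ Y
    (N + 1) ?_ g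
  · rw [mm_toIdeal, Groth.Agent.Helper13RegCount.irrel_eq_span_X, Finset.coe_image,
      Finset.coe_univ, Set.image_univ]
  · refine lt_of_le_of_lt Finset.card_image_le ?_
    rw [Finset.card_univ, Fintype.card_fin]
    exact Nat.lt_succ_self N

variable {k N}
variable {M : Type u} [AddCommGroup M] [Module k M] [Module (MvPolynomial (Fin N) k) M]
  [IsScalarTower k (MvPolynomial (Fin N) k) M]
  (ℳ : ℤ → Submodule k M) [DirectSum.Decomposition ℳ]
  [SetLike.GradedSMul (GrSyz.stdGr k (Fin N)) ℳ]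

/-- The identity between a piece over `k` and the same piece over the degree zero part. -/
def pieceEquiv (d : ℤ) : ↥(ℳ d) ≃+
    ↥(GrLC.comp (toAS (GrSyz.stdGr k (Fin N))) (toGMod (GrSyz.stdGr k (Fin N)) ℳ).gr d) where
  toFun x := ⟨x.1, x.2⟩
  invFun y := ⟨y.1, y.2⟩
  left_inv _ := rfl
  right_inv _ := rfl
  map_add' _ _ := rfl

theorem pieceEquiv_smul (d : ℤ) (c : k) (x : ↥(ℳ d)) :
    pieceEquiv (N := N) ℳ d (c • x) = tau k N c • pieceEquiv (N := N) ℳ d x := by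
  apply Subtype.ext
  show c • (x : M) = (MvPolynomial.C c : MvPolynomial (Fin N) k) • (x : M)
  rw [← MvPolynomial.algebraMap_eq, algebraMap_smul]

theorem lenQ_comp_eq_finrank (d : ℤ) :
    lenQ ↥(GrLC.deg0 (toAS (GrSyz.stdGr k (Fin N))))
      ↥(GrLC.comp (toAS (GrSyz.stdGr k (Fin N))) (toGMod (GrSyz.stdGr k (Fin N)) ℳ).gr d) =
      ((Module.finrank k ↥(ℳ d) : ℤ) : ℚ) := by
  have h := length_eq_of_semilinear (tau k N) (tau_surjective k N) (pieceEquiv (N := N) ℳ d)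
    (pieceEquiv_smul (N := N) ℳ d)
  unfold lenQ
  rw [← h, Module.length_eq_rank, Cardinal.toNat_toENat]
  rfl

end poly

/-! ### The sharpness statement -/

section main

variable (k : Type u) [Field k] [IsAlgClosed k] [CharZero k] (n : ℕ)
  (M : Type u) [AddCommGroup M] [Module k M] [Module (MvPolynomial (Fin (n + 1)) k) M]
  [IsScalarTower k (MvPolynomial (Fin (n + 1)) k) M]
  [Module.Finite (MvPolynomial (Fin (n + 1)) k) M]
  (ℳ : ℤ → Submodule k M) [DirectSum.Decomposition ℳ]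
  [SetLike.GradedSMul (GrSyz.stdGr k (Fin (n + 1))) ℳ]

theorem sharp
    (hCM : Module.supportDim (MvPolynomial (Fin (n + 1)) k) M =
      ((LocCoh.idealDepth (GrSyz.irrel (GrSyz.stdGr k (Fin (n + 1)))).toIdeal M : ℕ∞) :
        WithBot ℕ∞))
    (F : GrSyz.FreeRes (GrSyz.stdGr k (Fin (n + 1))) ℳ)
    (hF : F.IsMinimal (GrSyz.irrel (GrSyz.stdGr k (Fin (n + 1)))).toIdeal)
    (ℓ : ℕ) (hℓ : F.HasLengthLE ℓ) (hℓ' : F.rk ℓ ≠ 0)
    (ρ : ℤ) (hρ : F.IsGenLE ρ) (hρ' : ∃ (i : ℕ) (b : Fin (F.rk i)), F.deg i b = ρ + i)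
    (P : Polynomial ℚ)
    (hP : ∃ d₁ : ℤ, ∀ d : ℤ, d₁ ≤ d →
      ((Module.finrank k ↥(ℳ d) : ℤ) : ℚ) = P.eval (d : ℚ)) :
    ((Module.finrank k ↥(ℳ (ρ + ℓ - n - 1)) : ℤ) : ℚ) ≠
      P.eval ((ρ + ℓ - n - 1 : ℤ) : ℚ) := by
  have h1 := Groth.Agent.S16323.result k n M ℳ F hF ℓ hℓ hℓ'
  have hne : LocCoh.idealDepth (GrSyz.irrel (GrSyz.stdGr k (Fin (n + 1)))).toIdeal M ≠ ⊤ := by
    intro h
    rw [h, add_top] at h1
    exact ENat.top_ne_coe _ h1
  obtain ⟨δ, hδ⟩ := ENat.ne_top_iff_exists.mp hne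
  rw [← hδ] at h1 hCM
  have hsum : ℓ + δ = n + 1 := by exact_mod_cast h1
  have hIM : (GrSyz.irrel (GrSyz.stdGr k (Fin (n + 1)))).toIdeal •
      (⊤ : Submodule (MvPolynomial (Fin (n + 1)) k) M) ≠ ⊤ := by
    intro h
    exact hne (Groth.Agent.Lib.Helper28.idealDepth_eq_top_of_smul_top_eq_top _ M h)
  have hfin : Module.Finite (MvPolynomial (Fin (n + 1)) k)
      (toGMod (GrSyz.stdGr k (Fin (n + 1))) ℳ).carrier :=
    inferInstanceAs (Module.Finite (MvPolynomial (Fin (n + 1)) k) M)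
  -- vanishing away from `δ`
  have hlow : ∀ (i : ℕ) (g : ℤ), i < δ →
      VanX (mm k (n + 1)) (toGMod (GrSyz.stdGr k (Fin (n + 1))) ℳ) i g := by
    intro i g hi
    apply vanX_of_subsingleton_H
    show Subsingleton (LocCoh.H (GrSyz.irrel (GrSyz.stdGr k (Fin (n + 1)))).toIdeal i M)
    have key := Groth.Agent.Lib.Helper8.LC.H_eq_zero_of_lt_depth
      (GrSyz.irrel (GrSyz.stdGr k (Fin (n + 1)))).toIdeal δ M hIM (by rw [hδ]) i hi
    exact ⟨fun y z => by rw [key y, key z]⟩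
  have hhigh : ∀ (i : ℕ) (g : ℤ), δ < i →
      VanX (mm k (n + 1)) (toGMod (GrSyz.stdGr k (Fin (n + 1))) ℳ) i g := by
    intro i g hi
    apply vanX_of_subsingleton_H
    show Subsingleton (LocCoh.H (GrSyz.irrel (GrSyz.stdGr k (Fin (n + 1)))).toIdeal i M)
    refine Groth.Agent.S11625.result _ _ M i ?_
    rw [hCM]
    exact_mod_cast hi
  have hother : ∀ (g : ℤ) (i : ℕ), i ≠ δ →
      VanX (mm k (n + 1)) (toGMod (GrSyz.stdGr k (Fin (n + 1))) ℳ) i g := by
    intro g i hi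
    rcases lt_or_gt_of_ne hi with h | h
    · exact hlow i g h
    · exact hhigh i g h
  -- the Eisenbud-Goto theorem
  have hEG := fun d : ℤ => genLE_iff_regL (Nat.succ_pos n)
    (toGMod (GrSyz.stdGr k (Fin (n + 1))) ℳ)
    (convFreeRes (GrSyz.stdGr k (Fin (n + 1))) ℳ F) (ℓ + 1)
    (fun i hi => hℓ i (by omega)) hF d
  have hreg : RegL k (n + 1) (toGMod (GrSyz.stdGr k (Fin (n + 1))) ℳ) ρ := (hEG ρ).mp hρ
  have hnreg : ¬ RegL k (n + 1) (toGMod (GrSyz.stdGr k (Fin (n + 1))) ℳ) (ρ - 1) := by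
    intro h
    obtain ⟨i, b, hb⟩ := hρ'
    have h2 : F.deg i b ≤ ρ - 1 + (i : ℤ) := (hEG (ρ - 1)).mpr h i b
    omega
  -- nonvanishing of `H^δ` in degree `ρ - δ`
  have hnv : ¬ VanX (mm k (n + 1)) (toGMod (GrSyz.stdGr k (Fin (n + 1))) ℳ) δ
      (ρ - (δ : ℤ)) := by
    intro hv
    apply hnreg
    intro i g hg
    by_cases hi : i = δ
    · subst hi
      by_cases hg2 : ρ - (i : ℤ) < g
      · exact hreg i g hg2
      · have hgi : g = ρ - (i : ℤ) := by omega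
        rw [hgi]
        exact hv
    · exact hother g i hi
  -- Serre's formula
  have hP' : ∃ N₀ : ℤ, ∀ d : ℤ, N₀ ≤ d → P.eval (d : ℚ) =
      lenQ ↥(GrLC.deg0 (toAS (GrSyz.stdGr k (Fin (n + 1)))))
        ↥(GrLC.comp (toAS (GrSyz.stdGr k (Fin (n + 1))))
          (toGMod (GrSyz.stdGr k (Fin (n + 1))) ℳ).gr d) := by
    obtain ⟨d₁, hd₁⟩ := hP
    refine ⟨d₁, fun d hd => ?_⟩
    rw [lenQ_comp_eq_finrank]
    exact (hd₁ d hd).symm
  have hS := serre_single (mm k (n + 1)) (hpos_poly k (n + 1)) (hle_poly k (n + 1))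
    (torsHyp_poly k (n + 1)) (hstd_poly k (n + 1)) (n + 1) (hvan_poly k (n + 1))
    (toGMod (GrSyz.stdGr k (Fin (n + 1))) ℳ) P hP' (ρ - (δ : ℤ)) δ (by omega)
    (hother (ρ - (δ : ℤ)))
  have hfinal := hS.mpr hnv
  rw [lenQ_comp_eq_finrank] at hfinal
  have hd : ρ + (ℓ : ℤ) - (n : ℤ) - 1 = ρ - (δ : ℤ) := by omega
  rw [hd]
  exact hfinal

end main

end Groth.Agent.Lib.R2H7.GrSharp
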