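/-
Veronese subrings of standard graded Gorenstein rings: `R^(q)` is Gorenstein iff `q ∣ a(R)`
(for `dim R ≥ 1`, `dim_k R_1 ≥ 2`).  The new direction: if `R^(q)` is Gorenstein, its top local
cohomology carries a dual package, whose top piece is the socle; the socle is the piece of degree
`a(R) - ρ` of `H^n_m(R)` (`ρ` the remainder of `a(R)` modulo `q`), which is dual to `R_ρ`; so
`dim_k R_ρ = 1`, and this forces `ρ = 0` for a ring generated in degree one with `dim_k R_1 ≥ 2` and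
`H^0_m(R) = 0`.
-/
import Mathlib
import Groth.Agent.Lib.R2H7GrType

set_option autoImplicit false
open DirectSum

noncomputable section

namespace Groth.Agent.Lib.R2H7.GrVerIff

open Groth.Agent.Lib.Helper29GrHom Groth.Agent.Lib.Helper29GrEss Groth.Agent.Lib.Helper29GrStd
  Groth.Agent.Lib.R2H7.GrOps Groth.Agent.Lib.R2H7.GrFree
  Groth.Agent.Lib.R2H7.GrCanDict Groth.Agent.Lib.R2H7.GrCanFin Groth.Agent.Lib.R2H7.GrMatlis
  Groth.Agent.Lib.R2H7.GrVer Groth.Agent.Lib.R2H7.GrVerLC Groth.Agent.Lib.R2H7.GrVerLCW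
  Groth.Agent.Lib.R2H7.GrMinRes Groth.Agent.Lib.R2H7.GrBass Groth.Agent.Lib.R2H7.GrGorChar
  Groth.Agent.Lib.R2H7.GrVerGor Groth.Agent.Lib.R2H7.GrType

universe u

variable {R : Type u} [CommRing R] {𝒜 : ℤ → AddSubgroup R} [GradedRing 𝒜]

/-! ### A piece of dimension one in positive degree -/

section one

variable (hpos : ∀ n : ℤ, n < 0 → 𝒜 n = ⊥) (h0 : IsField (GrLC.deg0 𝒜))
  (hstd : Ideal.span (⋃ n ∈ Set.Ioi (0 : ℤ), (𝒜 n : Set R)) =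
    Ideal.span ((𝒜 1 : AddSubgroup R) : Set R))
  (m : HomogeneousIdeal 𝒜)
  (hmsp : m.toIdeal = Ideal.span (⋃ n ∈ Set.Ioi (0 : ℤ), (𝒜 n : Set R)))

include h0 hstd in
/-- If `R_ρ = k u` with `ρ ≥ 1` and multiplication by `u` is injective on `R_1`, then `R_1` is spanned
by one element. -/
theorem exists_gen_one (ρ : ℤ) (hρ : 1 ≤ ρ) (u : R) (hu : u ∈ 𝒜 ρ)
    (hgen : ∀ r ∈ 𝒜 ρ, ∃ κ ∈ 𝒜 0, r = κ * u)
    (hno : ∀ y ∈ 𝒜 1, y * u = 0 → y = 0) :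
    ∃ x₀ ∈ 𝒜 1, ∀ y ∈ 𝒜 1, ∃ c ∈ 𝒜 0, y = c * x₀ := by
  classical
  by_cases hu0 : u = 0
  · refine ⟨0, zero_mem _, fun y hy => ⟨0, zero_mem _, ?_⟩⟩
    rw [zero_mul]
    exact hno y hy (by rw [hu0, mul_zero])
  have hra : u ∈ Ideal.span ((𝒜 1 : AddSubgroup R) : Set R) := by
    rw [← hstd]
    exact Ideal.subset_span (Set.mem_biUnion (Set.mem_Ioi.mpr (by omega)) hu)
  obtain ⟨f, T, hTs, -, hsum⟩ := Submodule.mem_span_iff_exists_finset_subset.mp hra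
  have hcomp := decompose_sum_smul 𝒜 𝒜 T (fun _ => 1) (fun p hp => hTs hp) f ρ
  rw [hsum, DirectSum.decompose_of_mem_same 𝒜 hu] at hcomp
  obtain ⟨x₀, hx₀T, hx₀0⟩ : ∃ p ∈ T, ((decompose 𝒜 (f p)) (ρ - 1) : R) • p ≠ 0 := by
    by_contra h
    apply hu0
    rw [hcomp]
    refine Finset.sum_eq_zero (fun p hp => ?_)
    by_contra hne
    exact h ⟨p, hp, hne⟩
  have hx₀ : x₀ ∈ 𝒜 1 := hTs hx₀T
  have hv₀ : ((decompose 𝒜 (f x₀)) (ρ - 1) : R) ∈ 𝒜 (ρ - 1) := SetLike.coe_mem _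
  generalize ((decompose 𝒜 (f x₀)) (ρ - 1) : R) = v₀ at hx₀0 hv₀
  rw [smul_eq_mul] at hx₀0
  have hprod : v₀ * x₀ ∈ 𝒜 ρ := by
    have h1 := SetLike.GradedMul.mul_mem (A := 𝒜) hv₀ hx₀
    rwa [sub_add_cancel] at h1
  obtain ⟨κ₀, hκ₀, hκ₀u⟩ := hgen _ hprod
  have hκ₀0 : κ₀ ≠ 0 := by
    intro h
    apply hx₀0
    rw [hκ₀u, h, zero_mul]
  obtain ⟨l, hl, hlκ⟩ := exists_inv0 h0 hκ₀ hκ₀0
  have hu' : u = l * (v₀ * x₀) := by
    rw [hκ₀u, ← mul_assoc, hlκ, one_mul]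
  refine ⟨x₀, hx₀, fun y hy => ?_⟩
  have hyv : y * v₀ ∈ 𝒜 ρ := by
    have h1 := SetLike.GradedMul.mul_mem (A := 𝒜) hy hv₀
    have e1 : 1 + (ρ - 1) = ρ := by ring
    rwa [e1] at h1
  obtain ⟨μ, hμ, hμu⟩ := hgen _ hyv
  have hlμ : l * μ ∈ 𝒜 0 := by
    have h1 := SetLike.GradedMul.mul_mem (A := 𝒜) hl hμ
    rwa [add_zero] at h1
  refine ⟨l * μ, hlμ, ?_⟩
  have hmem : y - l * μ * x₀ ∈ 𝒜 1 := by
    refine sub_mem hy ?_
    have h1 := SetLike.GradedMul.mul_mem (A := 𝒜) hlμ hx₀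
    rwa [zero_add] at h1
  have hzero : (y - l * μ * x₀) * u = 0 := by
    have e1 : y * u = l * x₀ * (y * v₀) := by
      conv_lhs => rw [hu']
      ring
    rw [sub_mul, e1, hμu]
    ring
  exact sub_eq_zero.mp (hno _ hmem hzero)

include h0 hstd hmsp in
/-- A ring generated in degree one over a field with `Γ_m(R) = 0` and `dim_k R_1 ≥ 2` has no piece
of positive degree spanned by one element. -/
theorem false_of_piece_one
    (hgam : ∀ x : R, (∃ k : ℕ, ∀ r ∈ m.toIdeal ^ k, r * x = 0) → x = 0)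
    (hR1 : 2 ≤ Module.finrank (GrLC.deg0 𝒜) (GrLC.comp 𝒜 𝒜 1))
    (ρ : ℤ) (hρ : 1 ≤ ρ) (u : R) (hu : u ∈ 𝒜 ρ)
    (hgen : ∀ r ∈ 𝒜 ρ, ∃ κ ∈ 𝒜 0, r = κ * u) : False := by
  classical
  let _ : Field (GrLC.deg0 𝒜) := h0.toField
  have hm1 : m.toIdeal = Ideal.span ((𝒜 1 : AddSubgroup R) : Set R) := hmsp.trans hstd
  -- multiplication by `u` is injective on `R_1`
  have hno : ∀ y ∈ 𝒜 1, y * u = 0 → y = 0 := by
    intro y _ hyu
    apply hgam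
    refine ⟨ρ.toNat, fun r hr => ?_⟩
    have hr' := pow_le_span_piece 𝒜 m.toIdeal hm1 ρ.toNat hr
    rw [Int.toNat_of_nonneg (by omega)] at hr'
    refine Submodule.span_induction (p := fun r _ => r * y = 0) ?_ ?_ ?_ ?_ hr'
    · intro r hr
      obtain ⟨κ, -, rfl⟩ := hgen r hr
      rw [mul_assoc, mul_comm u y, hyu, mul_zero]
    · exact zero_mul y
    · intro a b _ _ ha hb
      rw [add_mul, ha, hb, add_zero]
    · intro c r _ hr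
      rw [smul_eq_mul, mul_assoc, hr, mul_zero]
  obtain ⟨x₀, hx₀, hall⟩ := exists_gen_one h0 hstd ρ hρ u hu hgen hno
  have hle : Module.finrank (GrLC.deg0 𝒜) (GrLC.comp 𝒜 𝒜 1) ≤ 1 := by
    refine finrank_le_one (⟨x₀, hx₀⟩ : ↥(GrLC.comp 𝒜 𝒜 1)) (fun w => ?_)
    obtain ⟨c, hc, hw⟩ := hall w.1 w.2
    exact ⟨⟨c, hc⟩, Subtype.ext hw.symm⟩
  omega

end one

/-! ### `Γ_m(R) = 0` when `H^0_m(R) = 0` -/

theorem gam_self_eq_zero (I : GrLC.StarInjRes 𝒜 𝒜) (m : HomogeneousIdeal 𝒜)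
    (h : Subsingleton (I.H m 0)) (x : R)
    (hx : ∃ k : ℕ, ∀ r ∈ m.toIdeal ^ k, r * x = 0) : x = 0 := by
  obtain ⟨k, hk⟩ := hx
  have hz : I.ε x ∈ I.cocyc m 0 := by
    refine Submodule.mem_inf.mpr ⟨⟨k, fun r hr => ?_⟩, ?_⟩
    · rw [← map_smul, smul_eq_mul, hk r hr, map_zero]
    · rw [I.exact_zero]
      exact LinearMap.mem_range_self _ _
  have h1 := mem_cobdy_of_subsingleton m 0 h hz
  have h2 : I.ε x = 0 := (Submodule.mem_bot R).mp h1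
  exact I.ε_injective (h2.trans (map_zero _).symm)

/-! ### The top piece of a module with a dual package lies in the socle -/

theorem top_mem_socR (hpos : ∀ n : ℤ, n < 0 → 𝒜 n = ⊥)
    {Y : Type u} [AddCommGroup Y] [Module R Y] {𝒴 : ℤ → AddSubgroup Y}
    [DirectSum.Decomposition 𝒴] [SetLike.GradedSMul 𝒜 𝒴] {c : ℤ} {η : Y} (P : DPack 𝒜 𝒴 c η)
    (m : HomogeneousIdeal 𝒜)
    (hmsp : m.toIdeal = Ideal.span (⋃ n ∈ Set.Ioi (0 : ℤ), (𝒜 n : Set R)))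
    {y : Y} (hy : y ∈ 𝒴 c) : y ∈ socR m.toIdeal Y := by
  intro r hr
  rw [hmsp] at hr
  refine Submodule.span_induction (p := fun r _ => r • y = 0) ?_ ?_ ?_ ?_ hr
  · intro r hr
    obtain ⟨i, hi, hri⟩ := Set.mem_iUnion₂.mp hr
    have hi' : 0 < i := hi
    have h1 := SetLike.GradedSMul.smul_mem (A := 𝒜) (B := 𝒴) hri hy
    rw [vadd_eq_add] at h1
    exact eq_zero_of_lt hpos P (by omega) h1
  · exact zero_smul _ _
  · intro a b _ _ ha hb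
    rw [add_smul, ha, hb, add_zero]
  · intro a b _ hb
    rw [smul_eq_mul, mul_smul, hb, smul_zero]

/-! ### The theorem -/

section main

variable [hG : LocCoh.IsGorensteinRing R]
  (hpos : ∀ n : ℤ, n < 0 → 𝒜 n = ⊥) (h0 : IsField (GrLC.deg0 𝒜))
  (m : HomogeneousIdeal 𝒜) (hm : GrLC.IsStarLocal 𝒜 m)
  (hmsp : m.toIdeal = Ideal.span (⋃ n ∈ Set.Ioi (0 : ℤ), (𝒜 n : Set R)))
  (hstd : Ideal.span (⋃ n ∈ Set.Ioi (0 : ℤ), (𝒜 n : Set R)) =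
    Ideal.span ((𝒜 1 : AddSubgroup R) : Set R))
  (hR1 : 2 ≤ Module.finrank (GrLC.deg0 𝒜) (GrLC.comp 𝒜 𝒜 1))
  (n : ℕ) (hn : ringKrullDim R = (n : WithBot ℕ∞)) (h1 : 1 ≤ n) (I : GrLC.StarInjRes 𝒜 𝒜) (a : ℤ)
  (ha : GrLC.endDeg (I.Hgr m n) = ((a : WithTop ℤ) : WithBot (WithTop ℤ)))
  {R' : Type u} [CommRing R'] {𝒜' : ℤ → AddSubgroup R'} [GradedRing 𝒜']
  (V : VerData 𝒜 𝒜')

include hpos h0 hm hmsp hstd hR1 hn h1 ha in
/-- If the Veronese subring `R^(q)` is Gorenstein then `q` divides `a(R)`. -/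
theorem dvd_of_isGorensteinRing_ver [hG' : LocCoh.IsGorensteinRing R'] : (V.q : ℤ) ∣ a := by
  classical
  let _ : Field (GrLC.deg0 𝒜) := h0.toField
  have hpos' := hpos_ver V hpos
  have h0' := isField_deg0_ver V h0
  obtain ⟨hvan, η, P⟩ := exists_dpack_of_gorenstein hpos h0 m hm hmsp n hn I a ha
  obtain ⟨m', hm', hm'sp⟩ := exists_irrelevant hpos' h0'
  haveI hmax' : m'.toIdeal.IsMaximal :=
    Groth.Agent.Lib.R2H7.GrHt.isMaximal_of_isCoatom 𝒜' hpos' m' hm'.1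
  obtain ⟨hvan', ψ, hψinj, hψ1, hψ2⟩ :=
    exists_psi_all m hmsp n I V m' hm'sp hvan (minRes 𝒜' 𝒜')
  -- the Gorenstein ring `R'`
  obtain ⟨n', hht'⟩ : ∃ n' : ℕ, m'.toIdeal.height = n' :=
    ⟨_, (ENat.coe_toNat Ideal.height_ne_top_of_isPrime).symm⟩
  obtain ⟨EX', e', he'⟩ := exists_hull_residue m'
  obtain ⟨-, s', χ', hχ1', hχ2'⟩ :=
    exists_equiv_of_isGorensteinRing m' EX'.gr n' hht' (minRes 𝒜' 𝒜') e' he'
  have P' := dpack_of_equiv hpos' h0' m' hm' hm'sp EX'.gr e' he'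
    ((minRes 𝒜' 𝒜').Hgr m' n') s' χ' hχ1' hχ2'
  have hnn : n' = n := by
    by_contra hne
    haveI := hvan' n' hne
    exact P'.ne (Subsingleton.elim _ _)
  subst hnn
  -- the remainder
  have hq := V.qpos
  have hρ : a - a % (V.q : ℤ) = a / (V.q : ℤ) * V.q := by
    have h2 := Int.emod_add_mul_ediv a (V.q : ℤ)
    linarith
  have hρ0 : 0 ≤ a % (V.q : ℤ) := Int.emod_nonneg _ (ne_of_gt hq)
  have hρq : a % (V.q : ℤ) < V.q := Int.emod_lt_of_pos _ hq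
  -- the top degree of `H^n_{m'}(R')`
  have htop := top_mem_socR hpos' P' m' hm'sp P'.mem
  have hj : -s' = a / (V.q : ℤ) :=
    eq_of_mem_gr ((minRes 𝒜' 𝒜').Hgr m' n') P'.mem
      (mem_of_mem_socR V hpos hstd ψ hψinj hψ1 P m' hm'sp _ _ hρ hρ0 hρq htop) P'.ne
  have hψη : ψ (χ'.symm (x0 m' e')) ∈ I.Hgr m n' (a - a % (V.q : ℤ)) := by
    rw [hρ, ← hj]
    exact hψ1 _ _ P'.mem
  have hgen : ∀ h ∈ I.Hgr m n' (a - a % (V.q : ℤ)),
      ∃ r ∈ 𝒜 0, h = r • ψ (χ'.symm (x0 m' e')) := by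
    intro h hh
    rw [hρ] at hh
    obtain ⟨ξ, hξ, rfl⟩ := hψ2 _ h hh
    rw [← hj] at hξ
    obtain ⟨r', hr', hξr⟩ := P'.gen ξ hξ
    refine ⟨V.φ r', ?_, ?_⟩
    · have h2 := V.map_mem hr'
      rwa [zero_mul] at h2
    · rw [hξr, map_smulₛₗ]
  obtain ⟨hfin, hrank⟩ := finrank_comp_dpack hpos P h0 (a % (V.q : ℤ))
  have hle : Module.finrank (GrLC.deg0 𝒜)
      ↥(GrLC.comp 𝒜 (I.Hgr m n') (a - a % (V.q : ℤ))) ≤ 1 := by
    refine finrank_le_one (⟨_, hψη⟩ : ↥(GrLC.comp 𝒜 (I.Hgr m n') (a - a % (V.q : ℤ))))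
      (fun w => ?_)
    obtain ⟨r, hr, hw⟩ := hgen w.1 w.2
    exact ⟨⟨r, hr⟩, Subtype.ext hw.symm⟩
  rw [hrank] at hle
  haveI hfinρ : Module.Finite (GrLC.deg0 𝒜) ↥(GrLC.comp 𝒜 𝒜 (a % (V.q : ℤ))) :=
    finite_comp_self hpos h0 _
  obtain ⟨u, hu⟩ := finrank_le_one_iff.mp hle
  have hρ1 : a % (V.q : ℤ) = 0 := by
    by_contra hne
    refine false_of_piece_one h0 hstd m hmsp
      (gam_self_eq_zero I m (hvan 0 (by omega))) hR1 (a % (V.q : ℤ)) (by omega) u.1 u.2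
      (fun r hr => ?_)
    obtain ⟨c, hc⟩ := hu ⟨r, hr⟩
    exact ⟨c.1, c.2, (congrArg Subtype.val hc).symm⟩
  rw [hρ1, sub_zero] at hρ
  exact ⟨a / (V.q : ℤ), by rw [mul_comm]; exact hρ⟩

include hpos h0 hm hmsp hstd hR1 hn h1 ha in
/-- For a Gorenstein graded ring `R` generated in degree one over the field `R_0`, with
`dim R ≥ 1` and `dim_k R_1 ≥ 2`: the Veronese subring `R^(q)` is Gorenstein iff `q ∣ a(R)`. -/
theorem isGorensteinRing_ver_iff : LocCoh.IsGorensteinRing R' ↔ (V.q : ℤ) ∣ a := by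
  constructor
  · intro hG'
    exact dvd_of_isGorensteinRing_ver hpos h0 m hm hmsp hstd hR1 n hn h1 I a ha V
  · intro hdvd
    exact isGorensteinRing_ver V hpos h0 m hm hmsp n hn I a ha hdvd

end main

end Groth.Agent.Lib.R2H7.GrVerIff
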