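/-
If a Veronese subring `R^(q)` of a Cohen–Macaulay graded ring `R` over a field, generated in
degree one and of dimension at least two, is Gorenstein, then `R` is Gorenstein and `q` divides
`a(R)`.

The top local cohomology `H = H^n_m(R)` receives the top local cohomology of `R^(q)` as its
Veronese part, which carries a dual package.  This makes `H` a "weak package" (no essentiality
yet), giving a graded surjection `Φ : H → E(-c)` onto the shifted envelope of the residue field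
whose kernel vanishes in the degrees divisible by `q`; the kernel is then killed by all elements of
degree `≥ q`.  Using a regular sequence `x, u` of such degrees, `H = xH` and the divisibility of the
injective module `E` one gets `ker Φ = 0`.
-/
import Mathlib
import Groth.Agent.Lib.R2H7GrVerIff
import Groth.Agent.Lib.R2H7GrGorCan2
import Groth.Agent.Lib.R2H7GrInjMax
import Groth.Agent.Lib.R2H7GrDim
import Groth.Agent.Lib.R2H7GrAinv

set_option autoImplicit false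
open DirectSum

noncomputable section

namespace Groth.Agent.Lib.R2H7.GrVerCM

open Groth.Agent.Lib.Helper29GrHom Groth.Agent.Lib.Helper29GrEss Groth.Agent.Lib.Helper29GrStd
  Groth.Agent.Lib.R2H7.GrOps Groth.Agent.Lib.R2H7.GrFree Groth.Agent.Lib.R2H7.GrDer
  Groth.Agent.Lib.R2H7.GrCanDict Groth.Agent.Lib.R2H7.GrCanFin Groth.Agent.Lib.R2H7.GrMatlis
  Groth.Agent.Lib.R2H7.GrVer Groth.Agent.Lib.R2H7.GrMinRes Groth.Agent.Lib.R2H7.GrVerGor
  Groth.Agent.Lib.R2H7.GrType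

universe u

/-! ### Divisibility in injective modules -/

section div

variable {R : Type u} [CommRing R]

theorem exists_div {E : Type u} [AddCommGroup E] [Module R E] [Module.Injective R E] {x u : R}
    (hreg : ∀ b : R, u * b ∈ Ideal.span {x} → b ∈ Ideal.span {x}) (e : E) (he : x • e = 0) :
    ∃ e' : E, x • e' = 0 ∧ u • e' = e := by
  let J : Ideal R := Ideal.span {x}
  have hJ : J ≤ LinearMap.ker (LinearMap.toSpanSingleton R E e) := by
    refine Ideal.span_le.mpr ?_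
    intro b hb
    rw [Set.mem_singleton_iff] at hb
    rw [hb, SetLike.mem_coe, LinearMap.mem_ker, LinearMap.toSpanSingleton_apply]
    exact he
  let g : (R ⧸ J) →ₗ[R] E := Submodule.liftQ J (LinearMap.toSpanSingleton R E e) hJ
  let f : (R ⧸ J) →ₗ[R] (R ⧸ J) := u • LinearMap.id
  have hfmk : ∀ b : R, f (Ideal.Quotient.mk J b) = Ideal.Quotient.mk J (u * b) := fun b => rfl
  have hf : Function.Injective f := by
    rw [injective_iff_map_eq_zero]
    intro b hb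
    obtain ⟨b, rfl⟩ := Ideal.Quotient.mk_surjective b
    rw [hfmk, Ideal.Quotient.eq_zero_iff_mem] at hb
    rw [Ideal.Quotient.eq_zero_iff_mem]
    exact hreg b hb
  obtain ⟨h, hh⟩ := Module.Injective.out f hf g
  refine ⟨h (Ideal.Quotient.mk J 1), ?_, ?_⟩
  · rw [← map_smul]
    have e1 : x • (Ideal.Quotient.mk J 1 : R ⧸ J) = Ideal.Quotient.mk J (x * 1) := rfl
    have e2 : (Ideal.Quotient.mk J (x * 1) : R ⧸ J) = 0 := by
      rw [mul_one, Ideal.Quotient.eq_zero_iff_mem]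
      exact Ideal.subset_span rfl
    rw [e1, e2, map_zero]
  · rw [← map_smul]
    have e1 : u • (Ideal.Quotient.mk J 1 : R ⧸ J) = f (Ideal.Quotient.mk J 1) := rfl
    rw [e1, hh]
    have e2 : g (Ideal.Quotient.mk J 1) = LinearMap.toSpanSingleton R E e 1 := rfl
    rw [e2, LinearMap.toSpanSingleton_apply, one_smul]

end div

/-! ### The descent lemma -/

section descent

variable {R : Type u} [CommRing R] {𝒜 : ℤ → AddSubgroup R} [GradedRing 𝒜]

theorem injective_of_ver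
    (hstd : Ideal.span (⋃ n ∈ Set.Ioi (0 : ℤ), (𝒜 n : Set R)) =
      Ideal.span ((𝒜 1 : AddSubgroup R) : Set R))
    {Y : Type u} [AddCommGroup Y] [Module R Y] (𝒴 : ℤ → AddSubgroup Y)
    [DirectSum.Decomposition 𝒴] [SetLike.GradedSMul 𝒜 𝒴]
    {E : Type u} [AddCommGroup E] [Module R E] [Module.Injective R E]
    (Φ : Y →ₗ[R] E) (hsurj : Function.Surjective Φ)
    (hhom : ∀ y : Y, Φ y = 0 → ∀ s, Φ ((decompose 𝒴 y) s : Y) = 0)
    (q : ℕ) (hq : 0 < q)
    (hker : ∀ (j : ℤ) (y : Y), y ∈ 𝒴 (j * q) → Φ y = 0 → y = 0)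
    {ex eu : ℤ} {x u : R} (hx : x ∈ 𝒜 ex) (hxq : (q : ℤ) ≤ ex) (hu : u ∈ 𝒜 eu)
    (huq : (q : ℤ) ≤ eu)
    (hdiv : ∀ y : Y, ∃ y', y = x • y')
    (hreg : ∀ b : R, u * b ∈ Ideal.span {x} → b ∈ Ideal.span {x}) :
    Function.Injective Φ := by
  classical
  have hq' : (0 : ℤ) < q := by exact_mod_cast hq
  have step1 : ∀ (s : ℤ) (z : Y), z ∈ 𝒴 s → Φ z = 0 →
      ∀ (t : ℤ) (r : R), (q : ℤ) ≤ t → r ∈ 𝒜 t → r • z = 0 := by
    intro s z hz hΦz t r ht hr
    have hρ0 : 0 ≤ (-s) % (q : ℤ) := Int.emod_nonneg _ (ne_of_gt hq')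
    have hρq : (-s) % (q : ℤ) < q := Int.emod_lt_of_pos _ hq'
    have hρs : (-s) % (q : ℤ) + s = (((-s) % (q : ℤ) + s) / q) * q := by
      have h1 : ((-s) % (q : ℤ) + s) % (q : ℤ) = 0 := by
        rw [Int.emod_add_emod, neg_add_cancel, Int.zero_emod]
      have h2 := Int.emod_add_mul_ediv ((-s) % (q : ℤ) + s) (q : ℤ)
      rw [h1, zero_add] at h2
      rw [mul_comm]
      exact h2.symm
    have hK : ∀ r' ∈ 𝒜 ((-s) % (q : ℤ)),
        r' ∈ (LinearMap.ker (LinearMap.toSpanSingleton R Y z) : Ideal R) := by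
      intro r' hr'
      rw [LinearMap.mem_ker, LinearMap.toSpanSingleton_apply]
      have h1 : r' • z ∈ 𝒴 ((-s) % (q : ℤ) + s) := by
        have := SetLike.GradedSMul.smul_mem (A := 𝒜) (B := 𝒴) hr' hz
        rwa [vadd_eq_add] at this
      rw [hρs] at h1
      exact hker _ _ h1 (by rw [map_smul, hΦz, smul_zero])
    have h3 := piece_le_of_ge hstd
      (LinearMap.ker (LinearMap.toSpanSingleton R Y z) : Ideal R) ((-s) % (q : ℤ)) hρ0 hK
      (t - (-s) % (q : ℤ)).toNat r (by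
        rw [Int.toNat_of_nonneg (by omega)]
        have e1 : (-s) % (q : ℤ) + (t - (-s) % (q : ℤ)) = t := by ring
        rw [e1]
        exact hr)
    rw [LinearMap.mem_ker, LinearMap.toSpanSingleton_apply] at h3
    exact h3
  have step2 : ∀ w : Y, Φ w = 0 →
      ∀ (t : ℤ) (r : R), (q : ℤ) ≤ t → r ∈ 𝒜 t → r • w = 0 := by
    intro w hw t r ht hr
    rw [← DirectSum.sum_support_decompose 𝒴 w, Finset.smul_sum]
    refine Finset.sum_eq_zero (fun s _ => ?_)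
    exact step1 s _ (SetLike.coe_mem _) (hhom w hw s) t r ht hr
  rw [injective_iff_map_eq_zero]
  intro z hz
  obtain ⟨h, rfl⟩ := hdiv z
  have h1 : x • Φ h = 0 := by
    rw [← map_smul]
    exact hz
  obtain ⟨e', he'1, he'2⟩ := exists_div hreg (Φ h) h1
  obtain ⟨h', rfl⟩ := hsurj e'
  have hw1 : Φ (h - u • h') = 0 := by rw [map_sub, map_smul, he'2, sub_self]
  have hw2 : Φ (x • h') = 0 := by
    rw [map_smul]
    exact he'1
  have k1 := step2 _ hw1 ex x hxq hx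
  have k2 := step2 _ hw2 eu u huq hu
  have e1 : x • h = x • (h - u • h') + u • (x • h') := by
    rw [smul_sub, smul_smul, smul_smul, mul_comm u x]
    abel
  rw [e1, k1, k2, add_zero]

end descent

/-! ### Weak packages -/

section weak

variable {R : Type u} [CommRing R] {𝒜 : ℤ → AddSubgroup R} [GradedRing 𝒜]

/-- A dual package without essentiality, but with faithfulness in each degree. -/
structure WPack (𝒜 : ℤ → AddSubgroup R) {Y : Type u} [AddCommGroup Y] [Module R Y]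
    (𝒴 : ℤ → AddSubgroup Y) (c : ℤ) (η : Y) : Prop where
  mem : η ∈ 𝒴 c
  ne : η ≠ 0
  gen : ∀ y ∈ 𝒴 c, ∃ r ∈ 𝒜 0, y = r • η
  sfaith : ∀ (t : ℤ) (r : R), r ∈ 𝒜 t → r ≠ 0 → ∃ y ∈ 𝒴 (c - t), r • y ≠ 0

variable {Y : Type u} [AddCommGroup Y] [Module R Y] {𝒴 : ℤ → AddSubgroup Y}
  [DirectSum.Decomposition 𝒴] [SetLike.GradedSMul 𝒜 𝒴] {c : ℤ} {η : Y}

theorem WPack.eq_zero_of_smul_eta (h0 : IsField (GrLC.deg0 𝒜)) (W : WPack 𝒜 𝒴 c η) {r : R}
    (hr : r ∈ 𝒜 0) (h : r • η = 0) : r = 0 := by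
  by_contra hr0
  obtain ⟨u, -, hu⟩ := exists_inv0 h0 hr hr0
  apply W.ne
  rw [← one_smul R η, ← hu, mul_smul, h, smul_zero]

/-- The coordinate of the component of degree `c`. -/
theorem WPack.exists_coord (h0 : IsField (GrLC.deg0 𝒜)) (W : WPack 𝒜 𝒴 c η) :
    ∃ τ : Y →ₗ[GrLC.deg0 𝒜] GrLC.deg0 𝒜,
      (∀ y ∈ 𝒴 c, ((τ y : GrLC.deg0 𝒜) : R) • η = y) := by
  classical
  have hex : ∀ y : Y, ∃ a : GrLC.deg0 𝒜,
      (a : R) • η = ((decompose 𝒴 y) c : Y) := by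
    intro y
    obtain ⟨r, hr, hry⟩ := W.gen _ (SetLike.coe_mem ((decompose 𝒴 y) c))
    exact ⟨⟨r, hr⟩, hry.symm⟩
  choose t ht using hex
  have huniq : ∀ a b : GrLC.deg0 𝒜, (a : R) • η = (b : R) • η → a = b := by
    intro a b hab
    have h1 : ((a : R) - (b : R)) • η = 0 := by rw [sub_smul, hab, sub_self]
    have h2 := W.eq_zero_of_smul_eta h0
      (sub_mem (show (a : R) ∈ 𝒜 0 from a.2) (show (b : R) ∈ 𝒜 0 from b.2)) h1
    exact Subtype.ext (sub_eq_zero.mp h2)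
  refine ⟨{ toFun := t, map_add' := ?_, map_smul' := ?_ }, ?_⟩
  · intro x y
    apply huniq
    rw [ht, Subring.coe_add, add_smul, ht, ht, DirectSum.decompose_add, DirectSum.add_apply,
      AddSubgroup.coe_add]
  · intro a x
    apply huniq
    rw [RingHom.id_apply, ht, smul_eq_mul, Subring.coe_mul, mul_smul, ht, Subring.smul_def,
      decompose_smul_of_mem 𝒜 𝒴 (show (a : R) ∈ 𝒜 0 from a.2) x c, sub_zero]
  · intro x hx
    show ((t x : GrLC.deg0 𝒜) : R) • η = x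
    rw [ht, DirectSum.decompose_of_mem_same 𝒴 hx]

/-- Every functional on `R_t` is represented by an element of `Y_{c-t}`. -/
theorem WPack.exists_repr [IsNoetherianRing R] (hpos : ∀ n : ℤ, n < 0 → 𝒜 n = ⊥)
    (h0 : IsField (GrLC.deg0 𝒜)) (W : WPack 𝒜 𝒴 c η)
    (τ : Y →ₗ[GrLC.deg0 𝒜] GrLC.deg0 𝒜)
    (hτ : ∀ y ∈ 𝒴 c, ((τ y : GrLC.deg0 𝒜) : R) • η = y) (t : ℤ)
    (ℓ : ↥(GrLC.comp 𝒜 𝒜 t) →ₗ[GrLC.deg0 𝒜] GrLC.deg0 𝒜) :
    ∃ y ∈ 𝒴 (c - t), ∀ (r : R) (hr : r ∈ 𝒜 t), τ (r • y) = ℓ ⟨r, hr⟩ := by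
  classical
  let _ : Field (GrLC.deg0 𝒜) := h0.toField
  have hfinR : Module.Finite (GrLC.deg0 𝒜) ↥(GrLC.comp 𝒜 𝒜 t) := finite_comp_self hpos h0 t
  let B : ↥(GrLC.comp 𝒜 𝒜 t) →ₗ[GrLC.deg0 𝒜]
      ↥(GrLC.comp 𝒜 𝒴 (c - t)) →ₗ[GrLC.deg0 𝒜] GrLC.deg0 𝒜 :=
    LinearMap.mk₂ (GrLC.deg0 𝒜) (fun r y => τ ((r : R) • (y : Y)))
      (fun r r' y => by
        show τ (((r + r' : ↥(GrLC.comp 𝒜 𝒜 t)) : R) • (y : Y)) = _
        rw [Submodule.coe_add, add_smul, map_add])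
      (fun a' r y => by
        have e1 : ((a' • r : ↥(GrLC.comp 𝒜 𝒜 t)) : R) = (a' : R) * (r : R) := rfl
        show τ (((a' • r : ↥(GrLC.comp 𝒜 𝒜 t)) : R) • (y : Y)) =
          a' • τ ((r : R) • (y : Y))
        rw [e1, mul_smul]
        exact map_smul τ a' _)
      (fun r y y' => by
        show τ ((r : R) • ((y + y' : ↥(GrLC.comp 𝒜 𝒴 (c - t))) : Y)) = _
        rw [Submodule.coe_add, smul_add, map_add])
      (fun a' r y => by
        have e1 : ((a' • y : ↥(GrLC.comp 𝒜 𝒴 (c - t))) : Y) =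
            (a' : R) • (y : Y) := rfl
        show τ ((r : R) • ((a' • y : ↥(GrLC.comp 𝒜 𝒴 (c - t))) : Y)) =
          a' • τ ((r : R) • (y : Y))
        rw [e1, smul_comm]
        exact map_smul τ a' _)
  have hBinj : Function.Injective B := by
    rw [injective_iff_map_eq_zero]
    intro r hr
    by_contra hne
    have hne' : (r : R) ≠ 0 := fun h0' => hne (Subtype.ext h0')
    obtain ⟨y, hy, hry⟩ := W.sfaith t r.1 r.2 hne'
    apply hry
    have h1 : τ ((r : R) • y) = 0 := LinearMap.congr_fun hr ⟨y, hy⟩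
    have hmem : (r : R) • y ∈ 𝒴 c := by
      have := SetLike.GradedSMul.smul_mem (A := 𝒜) (B := 𝒴) r.2 hy
      rw [vadd_eq_add] at this
      have e1 : t + (c - t) = c := by ring
      rwa [e1] at this
    rw [← hτ _ hmem, h1, Subring.coe_zero, zero_smul]
  have hsurj : Function.Surjective B.flip := LinearMap.flip_surjective_iff₁.mpr hBinj
  obtain ⟨y, hy⟩ := hsurj ℓ
  refine ⟨y.1, y.2, fun r hr => ?_⟩
  have := LinearMap.congr_fun hy ⟨r, hr⟩
  exact this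

end weak

/-! ### The surjection onto the envelope -/

section hull

variable {R : Type u} [CommRing R] {𝒜 : ℤ → AddSubgroup R} [GradedRing 𝒜]
  [IsNoetherianRing R] (hpos : ∀ n : ℤ, n < 0 → 𝒜 n = ⊥) (h0 : IsField (GrLC.deg0 𝒜))
  (m : HomogeneousIdeal 𝒜) (hm : GrLC.IsStarLocal 𝒜 m)
  (hmsp : m.toIdeal = Ideal.span (⋃ n ∈ Set.Ioi (0 : ℤ), (𝒜 n : Set R)))
  {E' : Type u} [AddCommGroup E'] [Module R E'] (𝓔 : ℤ → AddSubgroup E')
  [DirectSum.Decomposition 𝓔] [SetLike.GradedSMul 𝒜 𝓔]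
  (e : (R ⧸ m.toIdeal) →ₗ[R] E') (he : GrLC.IsStarInjHull 𝒜 (GrLC.quotGr 𝒜 m) 𝓔 e)

include hpos h0 hm hmsp he in
theorem exists_surj {Y : Type u} [AddCommGroup Y] [Module R Y] {𝒴 : ℤ → AddSubgroup Y}
    [DirectSum.Decomposition 𝒴] [SetLike.GradedSMul 𝒜 𝒴] {c : ℤ} {η : Y}
    (W : WPack 𝒜 𝒴 c η) :
    ∃ Φ : Y →ₗ[R] E', (∀ j y, y ∈ 𝒴 j → Φ y ∈ 𝓔 (j + -c)) ∧ Φ η = x0 m e ∧
      (∀ (s : ℤ) (x : E'), x ∈ 𝓔 s → ∃ y ∈ 𝒴 (s + c), Φ y = x) := by
  classical
  have PE := dpack_hull hpos h0 m hm hmsp 𝓔 e he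
  obtain ⟨f, hfdeg, hfη⟩ :=
    Groth.Agent.Lib.R2H7.GrCanDict.exists_sep hpos h0 m hmsp 𝓔 e he 𝒴 W.mem W.ne
  obtain ⟨τY, hτY⟩ := W.exists_coord h0
  obtain ⟨τE, hτE, -⟩ := Groth.Agent.Lib.R2H7.GrMatlis.exists_coord h0 PE
  refine ⟨f, fun j y hy => hfdeg j y hy, hfη, ?_⟩
  intro s x hx
  let ℓ : ↥(GrLC.comp 𝒜 𝒜 (-s)) →ₗ[GrLC.deg0 𝒜] GrLC.deg0 𝒜 :=
    { toFun := fun r => τE ((r : R) • x)
      map_add' := fun r r' => by
        show τE (((r + r' : ↥(GrLC.comp 𝒜 𝒜 (-s))) : R) • x) = _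
        rw [Submodule.coe_add, add_smul, map_add]
      map_smul' := fun a' r => by
        have e1 : ((a' • r : ↥(GrLC.comp 𝒜 𝒜 (-s))) : R) = (a' : R) * (r : R) := rfl
        show τE (((a' • r : ↥(GrLC.comp 𝒜 𝒜 (-s))) : R) • x) = a' • τE ((r : R) • x)
        rw [e1, mul_smul]
        exact map_smul τE a' _ }
  obtain ⟨y, hy, hyℓ⟩ := W.exists_repr hpos h0 τY hτY (-s) ℓ
  have e1 : c - -s = s + c := by ring
  rw [e1] at hy
  refine ⟨y, hy, ?_⟩
  by_contra hne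
  have hfy : f y ∈ 𝓔 s := by
    have := hfdeg _ _ hy
    rwa [add_neg_cancel_right] at this
  have hz : f y - x ∈ 𝓔 s := sub_mem hfy hx
  have hz0 : f y - x ≠ 0 := fun h => hne (sub_eq_zero.mp h)
  obtain ⟨r, hr, hr0, -⟩ := PE.exists_smul_ne hz hz0
  rw [zero_sub] at hr
  apply hr0
  have hry : r • y ∈ 𝒴 c := by
    have := SetLike.GradedSMul.smul_mem (A := 𝒜) (B := 𝒴) hr hy
    rw [vadd_eq_add] at this
    have e2 : -s + (s + c) = c := by ring
    rwa [e2] at this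
  have hrx : r • x ∈ 𝓔 0 := by
    have := SetLike.GradedSMul.smul_mem (A := 𝒜) (B := 𝓔) hr hx
    rw [vadd_eq_add, neg_add_cancel] at this
    exact this
  have h1 : f (r • y) = ((τY (r • y) : GrLC.deg0 𝒜) : R) • x0 m e := by
    conv_lhs => rw [← hτY _ hry]
    rw [map_smul, hfη]
  have h2 : r • x = ((τE (r • x) : GrLC.deg0 𝒜) : R) • x0 m e := (hτE _ hrx).symm
  have h3 : τY (r • y) = τE (r • x) := hyℓ r hr
  rw [smul_sub, ← map_smul, h1, h2, h3, sub_self]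

end hull

end Groth.Agent.Lib.R2H7.GrVerCM
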