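/-
Second part of the descent of the Gorenstein property from a Veronese subring: homogeneous regular
elements of high degree in a Cohen–Macaulay graded ring of dimension at least two, and the theorem
`gorenstein_of_ver`: if `R^(q)` is Gorenstein then `R` is Gorenstein and `q ∣ a(R)`.
-/
import Mathlib
import Groth.Agent.Lib.R2H7GrVerCM

set_option autoImplicit false
open DirectSum
open scoped Pointwise

noncomputable section

namespace Groth.Agent.Lib.R2H7.GrVerCM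

open Groth.Agent.Lib.Helper29GrHom Groth.Agent.Lib.Helper29GrEss Groth.Agent.Lib.Helper29GrStd
  Groth.Agent.Lib.R2H7.GrOps Groth.Agent.Lib.R2H7.GrFree Groth.Agent.Lib.R2H7.GrDer
  Groth.Agent.Lib.R2H7.GrCanDict Groth.Agent.Lib.R2H7.GrCanFin Groth.Agent.Lib.R2H7.GrMatlis
  Groth.Agent.Lib.R2H7.GrVer Groth.Agent.Lib.R2H7.GrMinRes Groth.Agent.Lib.R2H7.GrVerGor
  Groth.Agent.Lib.R2H7.GrType Groth.Agent.Lib.R2H7.GrTors Groth.Agent.Lib.R2H7.GrLES

universe u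

/-! ### Generalities -/

theorem lt_of_add_one_le {x : WithBot ℕ∞} {n : ℕ} (h : x + 1 ≤ (n : WithBot ℕ∞)) :
    x < (n : WithBot ℕ∞) := by
  induction x using WithBot.recBotCoe with
  | bot => exact WithBot.bot_lt_coe _
  | coe y =>
    have h' : ((y + 1 : ℕ∞) : WithBot ℕ∞) ≤ ((n : ℕ∞) : WithBot ℕ∞) := by exact_mod_cast h
    have h2 : y + 1 ≤ (n : ℕ∞) := WithBot.coe_le_coe.mp h'
    have h3 : y < (n : ℕ∞) := by
      induction y using ENat.recTopCoe with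
      | top => simp at h2
      | coe k =>
        have h4 : k + 1 ≤ n := by exact_mod_cast h2
        exact_mod_cast (by omega : k < n)
    exact_mod_cast h3

theorem mem_nonZeroDivisors_of_isSMulRegular {R : Type*} [CommRing R] {x : R}
    (h : IsSMulRegular R x) : x ∈ nonZeroDivisors R := by
  rw [mem_nonZeroDivisors_iff_right]
  intro z hz
  apply h
  change x * z = x * 0
  rw [mul_zero, mul_comm, hz]

theorem exists_rem (q : ℤ) (hq : 0 < q) (t : ℤ) :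
    ∃ ρ : ℤ, 0 ≤ ρ ∧ ρ < q ∧ ∃ k : ℤ, ρ + t = k * q := by
  refine ⟨(-t) % q, Int.emod_nonneg _ (ne_of_gt hq), Int.emod_lt_of_pos _ hq,
    ((-t) % q + t) / q, ?_⟩
  have h1 : ((-t) % q + t) % q = 0 := by
    rw [Int.emod_add_emod, neg_add_cancel, Int.zero_emod]
  have h2 := Int.emod_add_mul_ediv ((-t) % q + t) q
  rw [h1, zero_add] at h2
  rw [mul_comm]
  exact h2.symm

section regular

variable {R : Type u} [CommRing R] {𝒜 : ℤ → AddSubgroup R} [GradedRing 𝒜]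

/-- The top degree of a module with a dual package. -/
theorem endDeg_eq_of_dpack (hpos : ∀ n : ℤ, n < 0 → 𝒜 n = ⊥) {Y : Type u} [AddCommGroup Y]
    [Module R Y] {𝒴 : ℤ → AddSubgroup Y} [DirectSum.Decomposition 𝒴] [SetLike.GradedSMul 𝒜 𝒴]
    {c : ℤ} {η : Y} (P : DPack 𝒜 𝒴 c η) :
    GrLC.endDeg 𝒴 = ((c : WithTop ℤ) : WithBot (WithTop ℤ)) := by
  apply le_antisymm
  · rw [Groth.Agent.Lib.R2H7.GrBdry.endDeg_le_iff']
    intro j hj
    rw [eq_bot_iff]
    intro y hy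
    rw [AddSubgroup.mem_bot]
    exact eq_zero_of_lt hpos P hj hy
  · have h1 : 𝒴 c ≠ ⊥ := by
      intro h
      have h2 := P.mem
      rw [h] at h2
      exact P.ne (AddSubgroup.mem_bot.mp h2)
    unfold GrLC.endDeg
    exact le_iSup₂ (f := fun (n : ℤ) (_ : 𝒴 n ≠ ⊥) => ((n : WithTop ℤ) : WithBot (WithTop ℤ)))
      c h1

/-- A graded module without `m`-torsion has no socle. -/
theorem eq_zero_of_socle (m : HomogeneousIdeal 𝒜)
    (hmsp : m.toIdeal = Ideal.span (⋃ n ∈ Set.Ioi (0 : ℤ), (𝒜 n : Set R)))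
    (X : GrLC.GMod.{u} 𝒜) (hv : ∀ g, VanX m X 0 g) (z : X.carrier)
    (hz : ∀ e : ℤ, 0 < e → ∀ r ∈ 𝒜 e, r • z = 0) : z = 0 := by
  classical
  by_contra hne
  obtain ⟨g, hg⟩ := exists_component_ne_zero X.gr hne
  apply hg
  refine (vanX_zero_iff m X g).mp (hv g) _ ?_ (SetLike.coe_mem _)
  refine ⟨1, fun r hr => ?_⟩
  rw [pow_one, hmsp] at hr
  refine Submodule.span_induction
    (p := fun r _ => r • ((decompose X.gr z) g : X.carrier) = 0) ?_ ?_ ?_ ?_ hr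
  · intro r hr
    obtain ⟨i, hi, hri⟩ := Set.mem_iUnion₂.mp hr
    have hi' : 0 < i := hi
    have h1 := decompose_smul_of_mem 𝒜 X.gr hri z (g + i)
    rw [hz i hi' r hri, DirectSum.decompose_zero, DirectSum.zero_apply, ZeroMemClass.coe_zero,
      add_sub_cancel_right] at h1
    exact h1.symm
  · exact zero_smul _ _
  · intro a b _ _ ha hb
    rw [add_smul, ha, hb, add_zero]
  · intro a b _ hb
    rw [smul_eq_mul, mul_smul, hb, smul_zero]

/-- A homogeneous element regular on the quotient of `X` by a homogeneous regular element, when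
`H^0` and `H^1` of `X` vanish. -/
theorem exists_regular_quot [IsNoetherianRing R] (m : HomogeneousIdeal 𝒜)
    (hmsp : m.toIdeal = Ideal.span (⋃ n ∈ Set.Ioi (0 : ℤ), (𝒜 n : Set R)))
    (X : GrLC.GMod.{u} 𝒜) [Module.Finite R X.carrier]
    {e : ℤ} {x : R} (hx : x ∈ 𝒜 e) (hreg : IsSMulRegular X.carrier x)
    (hv0 : ∀ g, VanX m X 0 g) (hv1 : ∀ g, VanX m X 1 g) :
    ∃ e' : ℤ, 0 < e' ∧ ∃ u ∈ 𝒜 e', ∀ b : X.carrier,
      u • b ∈ x • (⊤ : Submodule R X.carrier) → b ∈ x • (⊤ : Submodule R X.carrier) := by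
  classical
  have hPeq := Groth.Agent.Lib.R2H7.GrAinv.smul_top_eq_range (R := R) (M := X.carrier) x
  have hP : (x • (⊤ : Submodule R X.carrier)).IsHomogeneous X.gr := by
    rw [hPeq]
    exact range_isHomogeneous X.gr (shiftG X (-e)).gr (mulG X e x) (mulG_grHom hx)
  have hker₁ : LinearMap.ker (x • (⊤ : Submodule R X.carrier)).mkQ =
      LinearMap.range (x • (LinearMap.id : X.carrier →ₗ[R] X.carrier)) := by
    rw [Submodule.ker_mkQ]
    exact hPeq
  have hK : ∀ b : X.carrier, x • b = 0 → b ∈ GrLC.gam m.toIdeal X.carrier := by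
    intro b hb
    have hb0 : b = 0 := hreg (a₁ := b) (a₂ := 0) (by show x • b = x • 0; rw [hb, smul_zero])
    rw [hb0]
    exact zero_mem _
  have hvN : ∀ g, VanX m (quotG X _ hP) 0 g := fun g =>
    Groth.Agent.Lib.R2H7.GrAinv.vanX_quot_gen m e hx (Submodule.mkQ _) (mkQ_grHom X _ hP)
      (Submodule.mkQ_surjective _) hker₁ hK 0 g (hv0 g) (hv1 _)
  haveI : Module.Finite R (quotG X _ hP).carrier :=
    inferInstanceAs (Module.Finite R (X.carrier ⧸ x • (⊤ : Submodule R X.carrier)))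
  obtain ⟨e₂, he₂, u, hu, hreg₂⟩ :=
    Groth.Agent.Lib.R2H7.GrDim.exists_regular (quotG X _ hP) (eq_zero_of_socle m hmsp _ hvN)
  refine ⟨e₂, he₂, u, hu, ?_⟩
  intro b hb
  have h1 : u • (Submodule.Quotient.mk b : X.carrier ⧸ x • (⊤ : Submodule R X.carrier)) = 0 := by
    rw [← Submodule.Quotient.mk_smul, Submodule.Quotient.mk_eq_zero]
    exact hb
  have h3 : (Submodule.Quotient.mk b : X.carrier ⧸ x • (⊤ : Submodule R X.carrier)) = 0 :=
    hreg₂ (a₁ := Submodule.Quotient.mk b) (a₂ := 0) (by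
      show u • (Submodule.Quotient.mk b : X.carrier ⧸ x • (⊤ : Submodule R X.carrier)) = u • 0
      rw [h1, smul_zero])
  exact (Submodule.Quotient.mk_eq_zero _).mp h3

/-- Membership in `x • ⊤` inside the ring itself is membership in the principal ideal. -/
theorem mem_smul_top_iff {R : Type*} [CommRing R] (x c : R) :
    c ∈ x • (⊤ : Submodule R R) ↔ c ∈ Ideal.span {x} := by
  rw [Submodule.mem_smul_pointwise_iff_exists, Ideal.mem_span_singleton']
  constructor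
  · rintro ⟨b, -, hb⟩
    refine ⟨b, ?_⟩
    rw [← hb, mul_comm]
    rfl
  · rintro ⟨b, hb⟩
    refine ⟨b, Submodule.mem_top, ?_⟩
    rw [← hb, mul_comm]
    rfl

/-- In a Cohen–Macaulay graded ring of dimension at least two there is a regular sequence `x, u`
of homogeneous elements of degrees at least `q`. -/
theorem exists_regular_pair [LocCoh.IsCohenMacaulayRing R] (hpos : ∀ n : ℤ, n < 0 → 𝒜 n = ⊥)
    (m : HomogeneousIdeal 𝒜) (hm : GrLC.IsStarLocal 𝒜 m)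
    (hmsp : m.toIdeal = Ideal.span (⋃ n ∈ Set.Ioi (0 : ℤ), (𝒜 n : Set R)))
    (n : ℕ) (hn : ringKrullDim R = (n : WithBot ℕ∞)) (h2 : 2 ≤ n) (q : ℕ) (hq : 0 < q) :
    ∃ (ex eu : ℤ) (x u : R), x ∈ 𝒜 ex ∧ (q : ℤ) ≤ ex ∧ u ∈ 𝒜 eu ∧ (q : ℤ) ≤ eu ∧
      IsSMulRegular R x ∧ (∀ b : R, u * b ∈ Ideal.span {x} → b ∈ Ideal.span {x}) := by
  classical
  have hq' : (1 : ℤ) ≤ q := by exact_mod_cast hq
  have hv0 : ∀ g, VanX m (GrLC.GMod.of 𝒜 R 𝒜) 0 g := fun g =>
    Groth.Agent.Lib.R2H7.GrAinv.vanX_of_lt_dim hpos m hm n hn 0 (by omega) g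
  have hv1 : ∀ g, VanX m (GrLC.GMod.of 𝒜 R 𝒜) 1 g := fun g =>
    Groth.Agent.Lib.R2H7.GrAinv.vanX_of_lt_dim hpos m hm n hn 1 (by omega) g
  haveI hfinX : Module.Finite R (GrLC.GMod.of 𝒜 R 𝒜).carrier :=
    inferInstanceAs (Module.Finite R R)
  obtain ⟨e₁, he₁, x₁, hx₁, hreg₁⟩ :=
    Groth.Agent.Lib.R2H7.GrDim.exists_regular (GrLC.GMod.of 𝒜 R 𝒜)
      (eq_zero_of_socle m hmsp _ hv0)
  have hxmem : x₁ ^ q ∈ 𝒜 ((q : ℤ) * e₁) := by
    have h := SetLike.pow_mem_graded q hx₁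
    rwa [nsmul_eq_mul] at h
  have hxq : (q : ℤ) ≤ (q : ℤ) * e₁ := by nlinarith
  have hxreg : IsSMulRegular (GrLC.GMod.of 𝒜 R 𝒜).carrier (x₁ ^ q) := hreg₁.pow q
  obtain ⟨e₂, he₂, u₁, hu₁, hureg⟩ :=
    exists_regular_quot m hmsp (GrLC.GMod.of 𝒜 R 𝒜) hxmem hxreg hv0 hv1
  have humem : u₁ ^ q ∈ 𝒜 ((q : ℤ) * e₂) := by
    have h := SetLike.pow_mem_graded q hu₁
    rwa [nsmul_eq_mul] at h
  have huq : (q : ℤ) ≤ (q : ℤ) * e₂ := by nlinarith
  have hureg' : ∀ b : R, u₁ * b ∈ Ideal.span {x₁ ^ q} → b ∈ Ideal.span {x₁ ^ q} := by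
    intro b hb
    have h1 : u₁ • b ∈ (x₁ ^ q) • (⊤ : Submodule R R) :=
      (mem_smul_top_iff (x₁ ^ q) (u₁ • b)).mpr hb
    exact (mem_smul_top_iff (x₁ ^ q) b).mp (hureg b h1)
  have hpow : ∀ (k : ℕ) (b : R), u₁ ^ k * b ∈ Ideal.span {x₁ ^ q} → b ∈ Ideal.span {x₁ ^ q} := by
    intro k
    induction k with
    | zero =>
      intro b hb
      rwa [pow_zero, one_mul] at hb
    | succ k ih =>
      intro b hb
      apply ih
      apply hureg'
      have e1 : u₁ * (u₁ ^ k * b) = u₁ ^ (k + 1) * b := by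
        rw [← mul_assoc, ← pow_succ']
      rw [e1]
      exact hb
  exact ⟨(q : ℤ) * e₁, (q : ℤ) * e₂, x₁ ^ q, u₁ ^ q, hxmem, hxq, humem, huq, hxreg, hpow q⟩

end regular

/-! ### The theorem -/

section main

variable {R : Type u} [CommRing R] {𝒜 : ℤ → AddSubgroup R} [GradedRing 𝒜]
  {R' : Type u} [CommRing R'] {𝒜' : ℤ → AddSubgroup R'} [GradedRing 𝒜']

/-- If the Veronese subring `R^(q)` of a Cohen–Macaulay graded ring `R` over a field, generated in
degree one and of dimension at least two, is Gorenstein, then `R` is Gorenstein and `q` divides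
`a(R)`. -/
theorem gorenstein_of_ver [hCM : LocCoh.IsCohenMacaulayRing R]
    (hpos : ∀ n : ℤ, n < 0 → 𝒜 n = ⊥) (h0 : IsField (GrLC.deg0 𝒜))
    (m : HomogeneousIdeal 𝒜) (hm : GrLC.IsStarLocal 𝒜 m)
    (hmsp : m.toIdeal = Ideal.span (⋃ n ∈ Set.Ioi (0 : ℤ), (𝒜 n : Set R)))
    (hstd : Ideal.span (⋃ n ∈ Set.Ioi (0 : ℤ), (𝒜 n : Set R)) =
      Ideal.span ((𝒜 1 : AddSubgroup R) : Set R))
    (n : ℕ) (hn : ringKrullDim R = (n : WithBot ℕ∞)) (h2 : 2 ≤ n) (I : GrLC.StarInjRes 𝒜 𝒜)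
    (V : VerData 𝒜 𝒜') [hG' : LocCoh.IsGorensteinRing R'] :
    LocCoh.IsGorensteinRing R ∧ ∃ a : ℤ,
      GrLC.endDeg (I.Hgr m n) = ((a : WithTop ℤ) : WithBot (WithTop ℤ)) ∧ (V.q : ℤ) ∣ a := by
  classical
  let _ : Field (GrLC.deg0 𝒜) := h0.toField
  have hpos' := hpos_ver V hpos
  have h0' := isField_deg0_ver V h0
  have hvan : ∀ j, j ≠ n → Subsingleton (I.H m j) := fun j hj =>
    Groth.Agent.Lib.R2H7.GrGorCan2.subsingleton_H_of_ne hpos m hm n hn I j hj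
  obtain ⟨m', hm', hm'sp⟩ := exists_irrelevant hpos' h0'
  haveI hmax' : m'.toIdeal.IsMaximal :=
    Groth.Agent.Lib.R2H7.GrHt.isMaximal_of_isCoatom 𝒜' hpos' m' hm'.1
  haveI hmax : m.toIdeal.IsMaximal :=
    Groth.Agent.Lib.R2H7.GrHt.isMaximal_of_isCoatom 𝒜 hpos m hm.1
  have hψall : ∀ p : ℕ, ∃ ψ : (minRes 𝒜' 𝒜').H m' p →ₛₗ[V.φ] I.H m p, Function.Injective ψ ∧
      (∀ (j : ℤ) (ξ : (minRes 𝒜' 𝒜').H m' p), ξ ∈ (minRes 𝒜' 𝒜').Hgr m' p j →
        ψ ξ ∈ I.Hgr m p (j * V.q)) ∧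
      (∀ (j : ℤ) (η : I.H m p), η ∈ I.Hgr m p (j * V.q) →
        ∃ ξ ∈ (minRes 𝒜' 𝒜').Hgr m' p j, ψ ξ = η) :=
    fun p => Groth.Agent.Lib.R2H7.GrVerLCW.exists_veronese_H V m m' hmsp hm'sp
      (X := GrLC.GMod.of 𝒜 R 𝒜) (X' := GrLC.GMod.of 𝒜' R' 𝒜') I (minRes 𝒜' 𝒜')
      (V.φ : R' →+ R) (fun r' x' => map_mul V.φ r' x') V.inj V.hdeg p
  have hvan' : ∀ j, j ≠ n → Subsingleton ((minRes 𝒜' 𝒜').H m' j) := by
    intro j hj
    obtain ⟨ψ, hψinj, -, -⟩ := hψall j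
    haveI := hvan j hj
    exact ⟨fun x y => hψinj (Subsingleton.elim _ _)⟩
  obtain ⟨ψ, hψinj, hψ1, hψ2⟩ := hψall n
  obtain ⟨n', hht'⟩ : ∃ n' : ℕ, m'.toIdeal.height = n' :=
    ⟨_, (ENat.coe_toNat Ideal.height_ne_top_of_isPrime).symm⟩
  obtain ⟨EX', e', he'⟩ := exists_hull_residue m'
  obtain ⟨-, s', χ', hχ1', hχ2'⟩ :=
    Groth.Agent.Lib.R2H7.GrGorChar.exists_equiv_of_isGorensteinRing m' EX'.gr n' hht'
      (minRes 𝒜' 𝒜') e' he'
  have P' := dpack_of_equiv hpos' h0' m' hm' hm'sp EX'.gr e' he'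
    ((minRes 𝒜' 𝒜').Hgr m' n') s' χ' hχ1' hχ2'
  have hnn : n' = n := by
    by_contra hne
    haveI := hvan' n' hne
    exact P'.ne (Subsingleton.elim _ _)
  subst hnn
  have hq := V.qpos
  have hψne : ∀ y', y' ≠ 0 → ψ y' ≠ 0 := fun y' h h' =>
    h (hψinj (h'.trans (map_zero ψ).symm))
  have hm1 : m.toIdeal = Ideal.span ((𝒜 1 : AddSubgroup R) : Set R) := hmsp.trans hstd
  have hgam : ∀ r : R, (∃ k : ℕ, ∀ r' ∈ m.toIdeal ^ k, r' * r = 0) → r = 0 := fun r hr =>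
    Groth.Agent.Lib.R2H7.GrVerIff.gam_self_eq_zero I m (hvan 0 (by omega)) r hr
  -- the weak package on `H^n_m(R)`
  have W : WPack 𝒜 (I.Hgr m n') (-s' * V.q) (ψ (χ'.symm (x0 m' e'))) := by
    refine { mem := hψ1 _ _ P'.mem, ne := hψne _ P'.ne, gen := ?_, sfaith := ?_ }
    · intro y hy
      obtain ⟨ξ, hξ, rfl⟩ := hψ2 _ y hy
      obtain ⟨r', hr', hξr⟩ := P'.gen ξ hξ
      refine ⟨V.φ r', ?_, ?_⟩
      · have h3 := V.map_mem hr'
        rwa [zero_mul] at h3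
      · rw [hξr, map_smulₛₗ]
    · intro t r hr hr0
      obtain ⟨ρ, hρ0, -, k, hk⟩ := exists_rem (V.q : ℤ) hq t
      have hex : ∃ s₁ ∈ 𝒜 ρ, s₁ * r ≠ 0 := by
        by_contra hcon
        apply hr0
        apply hgam
        refine ⟨ρ.toNat, fun r' hr' => ?_⟩
        have hr'' := pow_le_span_piece 𝒜 m.toIdeal hm1 ρ.toNat hr'
        rw [Int.toNat_of_nonneg hρ0] at hr''
        refine Submodule.span_induction (p := fun r' _ => r' * r = 0) ?_ ?_ ?_ ?_ hr''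
        · intro s₁ hs₁
          by_contra h
          exact hcon ⟨s₁, hs₁, h⟩
        · exact zero_mul r
        · intro a b _ _ ha hb
          rw [add_mul, ha, hb, add_zero]
        · intro a b _ hb
          rw [smul_eq_mul, mul_assoc, hb, mul_zero]
      obtain ⟨s₁, hs₁, hs₁r⟩ := hex
      have hmem : s₁ * r ∈ 𝒜 (k * V.q) := by
        rw [← hk]
        exact SetLike.mul_mem_graded hs₁ hr
      obtain ⟨r', hr', hφr'⟩ := V.exists_of_mem hmem
      have hr'0 : r' ≠ 0 := by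
        intro h
        apply hs₁r
        rw [← hφr', h, map_zero]
      obtain ⟨y', hy', hry'⟩ := P'.exists_mem_smul_ne hr' hr'0
      refine ⟨s₁ • ψ y', ?_, ?_⟩
      · have h1 : ψ y' ∈ I.Hgr m n' ((-s' - k) * V.q) := hψ1 _ _ hy'
        have h3 := SetLike.GradedSMul.smul_mem (A := 𝒜) (B := I.Hgr m n') hs₁ h1
        rw [vadd_eq_add] at h3
        have e1 : ρ + (-s' - k) * (V.q : ℤ) = -s' * V.q - t := by linear_combination hk
        rwa [e1] at h3
      · rw [smul_smul, mul_comm r s₁, ← hφr', ← map_smulₛₗ]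
        exact hψne _ hry'
  -- the envelope of the residue field of `R`
  obtain ⟨EX, e, he⟩ := exists_hull_residue m
  haveI hinjE : Module.Injective R EX.carrier :=
    Groth.Agent.Lib.R2H7.GrInjMax.injective_of_isStarInjHull 𝒜 m EX.gr e he
  obtain ⟨Φ, hΦdeg, hΦη, hΦpre⟩ := exists_surj hpos h0 m hm hmsp EX.gr e he W
  have hΦsurj : Function.Surjective Φ := by
    intro x'
    have hcomp : ∀ s, ((decompose EX.gr x') s : EX.carrier) ∈ LinearMap.range Φ := by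
      intro s
      obtain ⟨y, -, hy⟩ := hΦpre s _ (SetLike.coe_mem ((decompose EX.gr x') s))
      exact ⟨y, hy⟩
    have hmem : x' ∈ LinearMap.range Φ := by
      rw [← DirectSum.sum_support_decompose EX.gr x']
      exact Submodule.sum_mem _ (fun s _ => hcomp s)
    exact LinearMap.mem_range.mp hmem
  have hhom : ∀ y : I.H m n', Φ y = 0 →
      ∀ s, Φ ((decompose (I.Hgr m n') y) s : I.H m n') = 0 := by
    intro y hy s
    letI : DirectSum.Decomposition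
        (Groth.Agent.Lib.Helper29GrShift.shiftGr EX.gr (-(-s' * V.q))) :=
      Groth.Agent.Lib.Helper29GrShift.shiftDecomposition EX.gr (-(-s' * V.q))
    have h1 := decompose_map (Groth.Agent.Lib.Helper29GrShift.shiftGr EX.gr (-(-s' * V.q)))
      (I.Hgr m n') Φ (fun g y hy => hΦdeg g y hy) y s
    rw [← h1, hy, DirectSum.decompose_zero]
    rfl
  have hkerΦ : ∀ (j : ℤ) (y : I.H m n'), y ∈ I.Hgr m n' (j * V.q) → Φ y = 0 → y = 0 := by
    intro j y hy hΦy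
    by_contra hne
    obtain ⟨ξ, hξ, rfl⟩ := hψ2 j y hy
    have hξ0 : ξ ≠ 0 := fun h => hne (by rw [h, map_zero])
    obtain ⟨r', hr', hr'0, hr'c⟩ := P'.exists_smul_ne hξ hξ0
    obtain ⟨a', ha', haξ⟩ := P'.gen _ hr'c
    have e1 : ψ (r' • ξ) = ψ (a' • χ'.symm (x0 m' e')) := congrArg ψ haξ
    rw [map_smulₛₗ, map_smulₛₗ] at e1
    have e2 := congrArg Φ e1
    rw [map_smul, map_smul, hΦy, smul_zero, hΦη] at e2
    have ha0 : V.φ a' ∈ 𝒜 0 := by
      have h3 := V.map_mem ha'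
      rwa [zero_mul] at h3
    have h4 := eq_zero_of_smul_x0 h0 m hm EX.gr e he ha0 e2.symm
    have h5 : a' = 0 := V.inj (h4.trans (map_zero V.φ).symm)
    apply hr'0
    rw [haξ, h5, zero_smul]
  -- regular elements
  obtain ⟨ex, eu, x, u, hx, hxq, hu, huq, hxreg, hreg⟩ :=
    exists_regular_pair hpos m hm hmsp n' hn h2 V.q V.hq
  have hJ : (Ideal.span {x}).IsHomogeneous 𝒜 := by
    refine Ideal.homogeneous_span 𝒜 {x} ?_
    intro y hy
    rw [Set.mem_singleton_iff] at hy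
    rw [hy]
    exact ⟨_, hx⟩
  have hdiv : ∀ y : I.H m n', ∃ y', y = x • y' := by
    intro y
    have hdim : Module.supportDim R (R ⧸ Ideal.span {x}) < (n' : WithBot ℕ∞) := by
      rw [Module.supportDim_quotient_eq_ringKrullDim]
      apply lt_of_add_one_le
      rw [← hn]
      exact ringKrullDim_quotient_succ_le_of_nonZeroDivisor
        (mem_nonZeroDivisors_of_isSMulRegular hxreg)
    have htop := smul_top_eq_top m I n' hn (Ideal.span {x}) hJ hdim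
    have hy : y ∈ Ideal.span {x} • (⊤ : Submodule R (I.H m n')) := by
      rw [htop]
      exact Submodule.mem_top
    rw [Submodule.ideal_span_singleton_smul] at hy
    obtain ⟨y', -, hy'⟩ := (Submodule.mem_smul_pointwise_iff_exists _ _ _).mp hy
    exact ⟨y', hy'.symm⟩
  -- injectivity
  have hΦinj := injective_of_ver hstd (I.Hgr m n') Φ hΦsurj hhom V.q V.hq hkerΦ hx hxq hu huq
    hdiv hreg
  let α : I.H m n' ≃ₗ[R] EX.carrier := LinearEquiv.ofBijective Φ ⟨hΦinj, hΦsurj⟩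
  have hα1 : ∀ d ξ, ξ ∈ I.Hgr m n' d → α ξ ∈ EX.gr (d + -(-s' * V.q)) :=
    fun d ξ hξ => hΦdeg d ξ hξ
  have hα2 : ∀ d x', x' ∈ EX.gr (d + -(-s' * V.q)) → α.symm x' ∈ I.Hgr m n' d := by
    intro d x' hx'
    obtain ⟨y, hy, hyx⟩ := hΦpre _ x' hx'
    rw [neg_add_cancel_right] at hy
    have h1 : α.symm x' = y := by
      rw [LinearEquiv.symm_apply_eq]
      exact hyx.symm
    rw [h1]
    exact hy
  have hG : LocCoh.IsGorensteinRing R :=
    Groth.Agent.Lib.R2H7.GrGorChar.isGorensteinRing_of_equiv m hm EX.gr n' I hvan he.starInj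
      (-(-s' * V.q)) α hα1
  have P := dpack_of_equiv hpos h0 m hm hmsp EX.gr e he (I.Hgr m n') (-(-s' * V.q)) α hα1 hα2
  refine ⟨hG, -s' * V.q, ?_, dvd_mul_left _ _⟩
  have h6 := endDeg_eq_of_dpack hpos P
  rwa [neg_neg] at h6

end main

end Groth.Agent.Lib.R2H7.GrVerCM
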