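/-
The Veronese grading on a ring `R'` with an injective homomorphism `φ : R' → R` onto the Veronese
subring `⊕_j R_{jq}` of a `ℤ`-graded ring `R`, and the type of the Veronese subrings of a polynomial
ring with all variables in degree one: `r(k[X_1..X_s]^(d)) = C(n-1, s-1)`, `n` the least multiple of
`d` with `n ≥ s`.
-/
import Mathlib
import Groth.Agent.Lib.R2H7GrWPoly
import Groth.Agent.Lib.R2H7GrAinvPoly
import Groth.Agent.Lib.R2H7GrVerGor
import Groth.Agent.Lib.R2H7GrCanDict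
import Groth.Agent.Lib.Helper5KoszulGor
import Groth.Agent.Lib.Helper29FaltingsReg
import Groth.Agent.Lib.Helper6FSReg
import Groth.Agent.S18655

set_option autoImplicit false
open DirectSum

noncomputable section

namespace Groth.Agent.Lib.R2H7.GrVerPoly

universe u

/-! ### The Veronese grading -/

section veronese

variable {R : Type u} [CommRing R] (𝒜 : ℤ → AddSubgroup R) [GradedRing 𝒜]
variable {R' : Type u} [CommRing R'] (φ : R' →+* R) (q : ℕ)

/-- The Veronese grading pulled back along `φ`. -/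
def ver : ℤ → AddSubgroup R' := fun j => (𝒜 (j * q)).comap (φ : R' →+ R)

theorem mem_ver {j : ℤ} {x : R'} : x ∈ ver 𝒜 φ q j ↔ φ x ∈ 𝒜 (j * q) := Iff.rfl

theorem ver_gradedMonoid : SetLike.GradedMonoid (ver 𝒜 φ q) where
  one_mem := by
    show φ 1 ∈ 𝒜 (0 * q)
    rw [map_one, zero_mul]
    exact SetLike.one_mem_graded 𝒜
  mul_mem := by
    intro i j x y hx hy
    show φ (x * y) ∈ 𝒜 ((i + j) * q)
    rw [map_mul, add_mul]
    exact SetLike.mul_mem_graded hx hy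

theorem exists_proj (hφ : Function.Injective φ)
    (H2 : ∀ j : ℤ, ∀ y ∈ 𝒜 (j * q), y ∈ φ.range) (j : ℤ) :
    ∃ π : R' →+ R', ∀ x, φ (π x) = ((decompose 𝒜 (φ x)) (j * q) : R) := by
  have h : ∀ x : R', ∃ y : R', φ y = ((decompose 𝒜 (φ x)) (j * q) : R) :=
    fun x => RingHom.mem_range.mp (H2 j _ (SetLike.coe_mem _))
  choose f hf using h
  refine ⟨AddMonoidHom.mk' f (fun a b => hφ ?_), hf⟩
  rw [hf, map_add φ a b, DirectSum.decompose_add, DirectSum.add_apply, AddSubgroup.coe_add,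
    map_add φ (f a) (f b), hf, hf]

theorem ver_isInternal (hφ : Function.Injective φ) (hq : 0 < q)
    (H1 : ∀ x : R', ∀ i : ℤ, ¬ (q : ℤ) ∣ i → ((decompose 𝒜 (φ x)) i : R) = 0)
    (H2 : ∀ j : ℤ, ∀ y ∈ 𝒜 (j * q), y ∈ φ.range) :
    DirectSum.IsInternal (ver 𝒜 φ q) := by
  classical
  have hq' : (q : ℤ) ≠ 0 := by exact_mod_cast hq.ne'
  choose π hπ using exists_proj 𝒜 φ q hφ H2
  refine Groth.Agent.Lib.R2H7.GrFree.isInternal_of_proj (ver 𝒜 φ q) π (fun d x => ?_)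
    (fun x => ?_) (fun d x hx => ?_) (fun d e x hx hde => ?_)
  · show φ (π d x) ∈ 𝒜 (d * q)
    rw [hπ]
    exact SetLike.coe_mem _
  · refine ⟨((decompose 𝒜 (φ x)).support.filter (fun i => (q : ℤ) ∣ i)).image
      (fun i => i / (q : ℤ)), hφ ?_⟩
    rw [map_sum, Finset.sum_image]
    · have h2 : ∀ i ∈ (decompose 𝒜 (φ x)).support.filter (fun i => (q : ℤ) ∣ i),
          φ (π (i / (q : ℤ)) x) = ((decompose 𝒜 (φ x)) i : R) := by
        intro i hi
        rw [hπ, Int.ediv_mul_cancel (Finset.mem_filter.mp hi).2]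
      rw [Finset.sum_congr rfl h2, Finset.sum_filter_of_ne]
      · exact (DirectSum.sum_support_decompose 𝒜 (φ x)).symm
      · intro i _ hne
        by_contra hnd
        exact hne (H1 x i hnd)
    · intro a ha b hb hab
      have ha' : (q : ℤ) ∣ a := (Finset.mem_filter.mp ha).2
      have hb' : (q : ℤ) ∣ b := (Finset.mem_filter.mp hb).2
      have hab' : a / (q : ℤ) = b / (q : ℤ) := hab
      rw [← Int.ediv_mul_cancel ha', ← Int.ediv_mul_cancel hb', hab']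
  · apply hφ
    rw [hπ]
    exact DirectSum.decompose_of_mem_same 𝒜 hx
  · apply hφ
    rw [hπ, map_zero]
    exact DirectSum.decompose_of_mem_ne 𝒜 hx (fun h => hde (mul_right_cancel₀ hq' h))

/-- The Veronese grading is a ring grading. -/
def verGradedRing (hφ : Function.Injective φ) (hq : 0 < q)
    (H1 : ∀ x : R', ∀ i : ℤ, ¬ (q : ℤ) ∣ i → ((decompose 𝒜 (φ x)) i : R) = 0)
    (H2 : ∀ j : ℤ, ∀ y ∈ 𝒜 (j * q), y ∈ φ.range) : GradedRing (ver 𝒜 φ q) :=
  { toGradedMonoid := ver_gradedMonoid 𝒜 φ q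
    toDecomposition := (ver_isInternal 𝒜 φ q hφ hq H1 H2).chooseDecomposition }

theorem ver_map (H2 : ∀ j : ℤ, ∀ y ∈ 𝒜 (j * q), y ∈ φ.range) (j : ℤ) :
    (ver 𝒜 φ q j).map (φ : R' →+ R) = 𝒜 (j * q) := by
  ext y
  constructor
  · rintro ⟨x, hx, rfl⟩
    exact hx
  · intro hy
    obtain ⟨x, rfl⟩ := RingHom.mem_range.mp (H2 j y hy)
    exact ⟨x, hy, rfl⟩

/-- `φ` is compatible with the decompositions. -/
theorem map_decompose (𝒜' : ℤ → AddSubgroup R') [GradedRing 𝒜'] (hq : 0 < q)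
    (hmem : ∀ (j : ℤ) (x : R'), x ∈ 𝒜' j → φ x ∈ 𝒜 (j * q)) (x : R') (j : ℤ) :
    φ ((decompose 𝒜' x) j : R') = ((decompose 𝒜 (φ x)) (j * q) : R) := by
  classical
  have hq' : (q : ℤ) ≠ 0 := by exact_mod_cast hq.ne'
  induction x using DirectSum.Decomposition.inductionOn 𝒜' with
  | zero => simp
  | homogeneous y =>
    rename_i i
    by_cases hij : i = j
    · subst hij
      rw [DirectSum.decompose_of_mem_same 𝒜' y.2,
        DirectSum.decompose_of_mem_same 𝒜 (hmem i _ y.2)]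
    · rw [DirectSum.decompose_of_mem_ne 𝒜' y.2 hij, map_zero,
        DirectSum.decompose_of_mem_ne 𝒜 (hmem i _ y.2)
          (fun h => hij (mul_right_cancel₀ hq' h))]
  | add a b ha hb =>
    rw [DirectSum.decompose_add, DirectSum.add_apply, AddSubgroup.coe_add, map_add, ha, hb,
      map_add, DirectSum.decompose_add, DirectSum.add_apply, AddSubgroup.coe_add]

/-- The preimage of the irrelevant ideal is the irrelevant ideal of the Veronese grading. -/
theorem comap_eq_span (𝒜' : ℤ → AddSubgroup R') [GradedRing 𝒜'] (hφ : Function.Injective φ)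
    (hq : 0 < q) (hmem : ∀ (j : ℤ) (x : R'), x ∈ 𝒜' j → φ x ∈ 𝒜 (j * q))
    (hpos : ∀ n : ℤ, n < 0 → 𝒜 n = ⊥) (h0 : IsField (GrLC.deg0 𝒜))
    (m : HomogeneousIdeal 𝒜) (hm : GrLC.IsStarLocal 𝒜 m)
    (hmsp : m.toIdeal = Ideal.span (⋃ n ∈ Set.Ioi (0 : ℤ), (𝒜 n : Set R))) :
    Ideal.comap φ m.toIdeal = Ideal.span (⋃ j ∈ Set.Ioi (0 : ℤ), (𝒜' j : Set R')) := by
  classical
  have hq' : (0 : ℤ) < q := by exact_mod_cast hq
  apply le_antisymm
  · intro x hx
    have hx' : φ x ∈ m.toIdeal := hx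
    rw [← DirectSum.sum_support_decompose 𝒜' x]
    refine Ideal.sum_mem _ (fun j _ => ?_)
    rcases lt_trichotomy j 0 with hj | hj | hj
    · have h1 : φ ((decompose 𝒜' x) j : R') ∈ 𝒜 (j * q) := hmem j _ (SetLike.coe_mem _)
      rw [hpos (j * q) (mul_neg_of_neg_of_pos hj hq'), AddSubgroup.mem_bot] at h1
      rw [hφ (h1.trans (map_zero φ).symm)]
      exact zero_mem _
    · subst hj
      have hz : (0 : ℤ) * (q : ℤ) = 0 := zero_mul _
      have h1 := map_decompose 𝒜 φ q 𝒜' hq hmem x 0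
      rw [hz] at h1
      have h2 : ((decompose 𝒜 (φ x)) 0 : R) ∈ m.toIdeal := m.isHomogeneous 0 hx'
      have h3 : ((decompose 𝒜 (φ x)) 0 : R) ∈ 𝒜 0 := SetLike.coe_mem _
      have h4 : φ ((decompose 𝒜' x) 0 : R') = 0 := by
        rw [h1]
        exact Groth.Agent.Lib.R2H7.GrCanDict.eq_zero_of_mem0_of_mem h0 m hm h3 h2
      rw [hφ (h4.trans (map_zero φ).symm)]
      exact zero_mem _
    · exact Ideal.subset_span (Set.mem_iUnion₂.mpr ⟨j, hj, SetLike.coe_mem _⟩)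
  · rw [Ideal.span_le]
    intro x hx
    obtain ⟨j, hj, hxj⟩ := Set.mem_iUnion₂.mp hx
    show φ x ∈ m.toIdeal
    rw [hmsp]
    exact Ideal.subset_span (Set.mem_iUnion₂.mpr ⟨j * q, mul_pos hj hq', hmem j x hxj⟩)

end veronese

/-! ### The type of the Veronese subrings of a polynomial ring, abstractly -/

section abstract

open Groth.Agent.Lib.R2H7.GrBinom Groth.Agent.Lib.R2H7.GrLen

variable {R : Type u} [CommRing R] (𝒜 : ℤ → AddSubgroup R) [GradedRing 𝒜]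

theorem finrank_comp_of_ringEquiv [IsNoetherianRing R] (hpos : ∀ n : ℤ, n < 0 → 𝒜 n = ⊥)
    (h0 : IsField (GrLC.deg0 𝒜)) (m : HomogeneousIdeal 𝒜) (hm : GrLC.IsStarLocal 𝒜 m)
    (hmsp : m.toIdeal = Ideal.span (⋃ n ∈ Set.Ioi (0 : ℤ), (𝒜 n : Set R)))
    (hstd : Ideal.span (⋃ n ∈ Set.Ioi (0 : ℤ), (𝒜 n : Set R)) =
      Ideal.span ((𝒜 1 : AddSubgroup R) : Set R))
    (s : ℕ) (hn : ringKrullDim R = s) (e : R ≃+* MvPolynomial (Fin s) (GrLC.deg0 𝒜)) (t : ℕ) :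
    Module.finrank (GrLC.deg0 𝒜) (GrLC.comp 𝒜 𝒜 (t : ℤ)) = (s + t - 1).choose t := by
  have hH := Groth.Agent.Lib.R2H7.GrRegPoly.hilbert_of_ringEquiv hpos h0 m hm hmsp hstd s hn e
    (t : ℤ) (Int.natCast_nonneg t)
  have h2 : lenQ (GrLC.deg0 𝒜) (GrLC.comp 𝒜 𝒜 (t : ℤ)) =
      ((Module.finrank (GrLC.deg0 𝒜) (GrLC.comp 𝒜 𝒜 (t : ℤ)) : ℕ) : ℚ) := by
    letI : Field (GrLC.deg0 𝒜) := h0.toField
    exact Groth.Agent.Lib.R2H7.GrPres.lenQ_eq_finrank _ _
  rw [h2, hS_natCast] at hH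
  exact_mod_cast hH

theorem type_veronese_of_ringEquiv [LocCoh.IsGorensteinRing R] [LocCoh.IsCohenMacaulayRing R]
    (hpos : ∀ n : ℤ, n < 0 → 𝒜 n = ⊥)
    (h0 : IsField (GrLC.deg0 𝒜)) (m : HomogeneousIdeal 𝒜) (hm : GrLC.IsStarLocal 𝒜 m)
    (hmsp : m.toIdeal = Ideal.span (⋃ n ∈ Set.Ioi (0 : ℤ), (𝒜 n : Set R)))
    (hstd : Ideal.span (⋃ n ∈ Set.Ioi (0 : ℤ), (𝒜 n : Set R)) =
      Ideal.span ((𝒜 1 : AddSubgroup R) : Set R))
    (s : ℕ) (hs : 1 ≤ s) (hn : ringKrullDim R = s)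
    (e : R ≃+* MvPolynomial (Fin s) (GrLC.deg0 𝒜))
    (d : ℕ) (hd : 0 < d) (R' : Type u) [CommRing R'] (φ : R' →+* R) (hφ : Function.Injective φ)
    (H1 : ∀ x : R', ∀ i : ℤ, ¬ (d : ℤ) ∣ i → ((decompose 𝒜 (φ x)) i : R) = 0)
    (H2 : ∀ j : ℤ, ∀ y ∈ 𝒜 (j * d), y ∈ φ.range)
    (m' : Ideal R') [hm'max : m'.IsMaximal] (hm' : m' = Ideal.comap φ m.toIdeal)
    (n : ℕ) (hsn : s ≤ n) (hdn : d ∣ n) (hmin : ∀ n' : ℕ, s ≤ n' → d ∣ n' → n ≤ n') :
    GrLC.bassNum m' R' s = (Nat.choose (n - 1) (s - 1) : ℕ∞) := by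
  classical
  have I : GrLC.StarInjRes 𝒜 𝒜 :=
    (Groth.Agent.Lib.R2H7.GrDer.exists_res (GrLC.GMod.of 𝒜 R 𝒜)).some
  have ha : GrLC.endDeg (I.Hgr m s) = (((-(s : ℤ) : ℤ) : WithTop ℤ) : WithBot (WithTop ℤ)) :=
    (Groth.Agent.Lib.R2H7.GrAinvPoly.endDeg_eq_iff hpos h0 m hm hmsp hstd s hn I).mpr ⟨e⟩
  letI inst' : GradedRing (ver 𝒜 φ d) := verGradedRing 𝒜 φ d hφ hd H1 H2
  have hmem : ∀ (j : ℤ) (x : R'), x ∈ ver 𝒜 φ d j → φ x ∈ 𝒜 (j * d) := fun _ _ h => h
  have hdeg : ∀ j : ℤ, (ver 𝒜 φ d j).map (φ : R' →+ R) = 𝒜 (j * d) := ver_map 𝒜 φ d H2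
  have hm'sp : m' = Ideal.span (⋃ j ∈ Set.Ioi (0 : ℤ), (ver 𝒜 φ d j : Set R')) := by
    rw [hm']
    exact comap_eq_span 𝒜 φ d (ver 𝒜 φ d) hφ hd hmem hpos h0 m hm hmsp
  have hhom : m'.IsHomogeneous (ver 𝒜 φ d) := by
    rw [hm'sp]
    refine Ideal.homogeneous_span _ _ (fun x hx => ?_)
    obtain ⟨j, -, hxj⟩ := Set.mem_iUnion₂.mp hx
    exact ⟨j, hxj⟩
  have hmax' : (HomogeneousIdeal.toIdeal (⟨m', hhom⟩ : HomogeneousIdeal (ver 𝒜 φ d))).IsMaximal :=
    hm'max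
  have hlt : n - s < d := by
    by_contra hge
    have h1 : s + d ≤ n := by omega
    have h2 := hmin (n - d) (by omega) (Nat.dvd_sub hdn (dvd_refl d))
    omega
  have hρ0 : (0 : ℤ) ≤ ((n - s : ℕ) : ℤ) := Int.natCast_nonneg _
  have hρq : ((n - s : ℕ) : ℤ) < (d : ℤ) := by exact_mod_cast hlt
  have hρa : (d : ℤ) ∣ (-(s : ℤ)) - ((n - s : ℕ) : ℤ) := by
    have h1 : (-(s : ℤ)) - ((n - s : ℕ) : ℤ) = -(n : ℤ) := by
      rw [Nat.cast_sub hsn]
      ring
    rw [h1]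
    exact dvd_neg.mpr (Int.natCast_dvd_natCast.mpr hdn)
  have key := Groth.Agent.S18655.result R 𝒜 hpos h0 m hm hmsp hstd s hn I (-(s : ℤ)) ha d hd R'
    (ver 𝒜 φ d) φ hφ hdeg (⟨m', hhom⟩ : HomogeneousIdeal (ver 𝒜 φ d)) hm'sp
    ((n - s : ℕ) : ℤ) hρ0 hρq hρa
  have hfin := finrank_comp_of_ringEquiv 𝒜 hpos h0 m hm hmsp hstd s hn e (n - s)
  rw [hfin] at key
  have hch : (s + (n - s) - 1).choose (n - s) = (n - 1).choose (s - 1) := by
    have h1 : s + (n - s) - 1 = n - 1 := by omega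
    rw [h1]
    exact Nat.choose_symm_of_eq_add (by omega)
  rw [hch] at key
  exact key

end abstract

/-! ### The polynomial ring with all variables in degree one -/

section poly

open Groth.Agent.Lib.R2H7.GrBdry Groth.Agent.Lib.R2H7.GrWPoly Groth.Agent.Helper13Syzygy

variable (k : Type u) [Field k] (s : ℕ)

/-- All weights equal to one. -/
def w1 : Fin s → ℤ := fun _ => 1

theorem weight_w1 (e : Fin s →₀ ℕ) :
    Finsupp.weight (w1 s) e = ((Finsupp.degree e : ℕ) : ℤ) := by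
  rw [Finsupp.weight_eq_sum, Finsupp.degree_eq_sum, Nat.cast_sum]
  refine Finset.sum_congr rfl (fun i _ => ?_)
  simp [w1]

theorem hc_mem (p : MvPolynomial (Fin s) k) (j : ℕ) :
    MvPolynomial.homogeneousComponent j p ∈
      toAS (MvPolynomial.weightedHomogeneousSubmodule k (w1 s)) (j : ℤ) := by
  classical
  show MvPolynomial.IsWeightedHomogeneous (w1 s) (MvPolynomial.homogeneousComponent j p) (j : ℤ)
  intro e he
  rw [weight_w1]
  rw [MvPolynomial.coeff_homogeneousComponent] at he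
  by_cases h : Finsupp.degree e = j
  · rw [h]
  · rw [if_neg h] at he
    exact absurd rfl he

theorem hc_eq_zero_of_mem (y : MvPolynomial (Fin s) k) (i : ℤ)
    (hy : y ∈ toAS (MvPolynomial.weightedHomogeneousSubmodule k (w1 s)) i) (j : ℕ)
    (hji : (j : ℤ) ≠ i) : MvPolynomial.homogeneousComponent j y = 0 := by
  classical
  have hy' : MvPolynomial.IsWeightedHomogeneous (w1 s) y i := hy
  refine MvPolynomial.ext _ _ (fun e => ?_)
  rw [MvPolynomial.coeff_homogeneousComponent, MvPolynomial.coeff_zero]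
  by_cases h : Finsupp.degree e = j
  · rw [if_pos h]
    by_contra hne
    have h1 := hy' hne
    rw [weight_w1, h] at h1
    exact hji h1
  · rw [if_neg h]

variable [GradedRing (MvPolynomial.weightedHomogeneousSubmodule k (w1 s))]

theorem decompose_eq_zero (d : ℕ) (p : MvPolynomial (Fin s) k)
    (hp : ∀ j : ℕ, ¬ d ∣ j → MvPolynomial.homogeneousComponent j p = 0) (i : ℤ)
    (hi : ¬ (d : ℤ) ∣ i) :
    ((decompose (toAS (MvPolynomial.weightedHomogeneousSubmodule k (w1 s))) p) i :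
      MvPolynomial (Fin s) k) = 0 := by
  classical
  rw [← GradedRing.proj_apply]
  conv_lhs => rw [← MvPolynomial.sum_homogeneousComponent p]
  rw [map_sum]
  refine Finset.sum_eq_zero (fun j _ => ?_)
  by_cases hji : (j : ℤ) = i
  · rw [hp j (fun hdj => hi (hji ▸ Int.natCast_dvd_natCast.mpr hdj)), map_zero]
  · rw [GradedRing.proj_apply]
    exact DirectSum.decompose_of_mem_ne _ (hc_mem k s p j) hji

theorem type_veronese (d : ℕ) (hs : 1 ≤ s) (hd : 1 ≤ d)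
    (R' : Type u) [CommRing R'] (φ : R' →+* MvPolynomial (Fin s) k) (hφ : Function.Injective φ)
    (hrange : ∀ p : MvPolynomial (Fin s) k, p ∈ φ.range ↔
      ∀ j : ℕ, ¬ d ∣ j → MvPolynomial.homogeneousComponent j p = 0)
    (m' : Ideal R') [hm'max : m'.IsMaximal]
    (hm' : m' = Ideal.comap φ
      (RingHom.ker (MvPolynomial.constantCoeff : MvPolynomial (Fin s) k →+* k)))
    (n : ℕ) (hsn : s ≤ n) (hdn : d ∣ n) (hmin : ∀ n' : ℕ, s ≤ n' → d ∣ n' → n ≤ n') :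
    GrLC.bassNum m' R' s = (Nat.choose (n - 1) (s - 1) : ℕ∞) := by
  classical
  have hw : ∀ i, 0 < w1 s i := fun _ => zero_lt_one
  have hpos := Groth.Agent.Lib.R2H7.GrWPoly.hpos k s (w1 s) hw
  have h0 := isField_deg0 k s (w1 s) hw
  obtain ⟨m, hm, hmsp⟩ := Groth.Agent.Lib.R2H7.GrVerGor.exists_irrelevant hpos h0
  have hne : (1 : MvPolynomial (Fin s) k) ∉ m.toIdeal := fun h1 =>
    Groth.Agent.Lib.R2H7.GrCanDict.m_ne_top m hm ((Ideal.eq_top_iff_one _).mpr h1)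
  have hIm := I_top_eq_m k s (w1 s) m hw hmsp hne
  have hmker : m.toIdeal =
      RingHom.ker (MvPolynomial.constantCoeff : MvPolynomial (Fin s) k →+* k) := by
    rw [← hIm, I_top_eq_irrel, Groth.Agent.Helper13FreeRes.irrel_stdGr_eq_ker]
  have hstd : Ideal.span (⋃ n ∈ Set.Ioi (0 : ℤ),
      (toAS (MvPolynomial.weightedHomogeneousSubmodule k (w1 s)) n :
        Set (MvPolynomial (Fin s) k))) =
      Ideal.span ((toAS (MvPolynomial.weightedHomogeneousSubmodule k (w1 s)) 1 :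
        AddSubgroup (MvPolynomial (Fin s) k)) : Set (MvPolynomial (Fin s) k)) := by
    apply le_antisymm
    · rw [← hmsp, ← hIm]
      unfold Groth.Agent.Helper13Syzygy.I
      rw [Ideal.span_le]
      rintro _ ⟨l, _, rfl⟩
      exact Ideal.subset_span (X_mem k s (w1 s) l)
    · exact Ideal.span_mono (fun x hx => Set.mem_iUnion₂.mpr ⟨1, Set.mem_Ioi.mpr zero_lt_one, hx⟩)
  have : LocCoh.IsGorensteinRing k := Groth.Agent.Lib.Helper5.GorRing.gorRing_of_field k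
  have hgor : LocCoh.IsGorensteinRing (MvPolynomial (Fin s) k) :=
    Groth.Agent.Lib.Helper5.KoszulGor.gorRing_mvPolynomial k s
  have hreg : IsRegularRing (MvPolynomial (Fin s) k) :=
    Groth.Agent.Lib.Helper6.FSReg.isRegularRing_of_formallySmooth k _
  have hcm : LocCoh.IsCohenMacaulayRing (MvPolynomial (Fin s) k) :=
    Groth.Agent.Lib.Helper29FaltingsReg.isCohenMacaulayRing_of_isRegularRing _
  have hn : ringKrullDim (MvPolynomial (Fin s) k) = (s : WithBot ℕ∞) := by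
    rw [MvPolynomial.ringKrullDim_of_isNoetherianRing, ringKrullDim_eq_zero_of_field]
    simp
  have e : MvPolynomial (Fin s) k ≃+* MvPolynomial (Fin s)
      (GrLC.deg0 (toAS (MvPolynomial.weightedHomogeneousSubmodule k (w1 s)))) :=
    MvPolynomial.mapEquiv (Fin s) (RingEquiv.ofBijective (tauW k s (w1 s))
      ⟨(tauW k s (w1 s)).injective, tauW_surjective k s (w1 s) hw⟩)
  have H1 : ∀ x : R', ∀ i : ℤ, ¬ (d : ℤ) ∣ i →
      ((decompose (toAS (MvPolynomial.weightedHomogeneousSubmodule k (w1 s))) (φ x)) i :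
        MvPolynomial (Fin s) k) = 0 :=
    fun x i hi => decompose_eq_zero k s d (φ x) ((hrange (φ x)).mp ⟨x, rfl⟩) i hi
  have H2 : ∀ j : ℤ, ∀ y ∈ toAS (MvPolynomial.weightedHomogeneousSubmodule k (w1 s)) (j * d),
      y ∈ φ.range := by
    intro j y hy
    rw [hrange]
    intro i hi
    refine hc_eq_zero_of_mem k s y (j * d) hy i (fun h => hi ?_)
    exact Int.natCast_dvd_natCast.mp ⟨j, by rw [h]; ring⟩
  exact type_veronese_of_ringEquiv (toAS (MvPolynomial.weightedHomogeneousSubmodule k (w1 s)))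
    hpos h0 m hm hmsp hstd s hs hn e d hd R' φ hφ H1 H2 m' (by rw [hm', hmker]) n hsn hdn hmin

end poly

end Groth.Agent.Lib.R2H7.GrVerPoly
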