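import Mathlib
import Groth.Agent.S14271

/-!
# Algebraic Hartogs extension across a closed subset of depth `≥ 2` (no Noetherian hypothesis)

* `RegMod a b`: `b` is a nonzerodivisor modulo `a`; stable under powers.
* `surjective_of_depth`: abstract form.  `ρ : A → B` injective ring map, finitely many `f i : A` such that
  `B` behaves like the ring of sections over `⋃ D(f i)`; if every prime of `A` containing all `f i` has a
  regular pair in its local ring, `ρ` is surjective.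
* `bijective_ι_app`: for a scheme `X`, an open `U` with quasi-compact inclusion such that every point outside
  `U` has a weakly regular pair in its maximal ideal, `Γ(X, V) → Γ(U, V ∩ U)` is bijective for every affine `V`.
* `exists_section`: sections over `U` of an affine `X`-scheme extend to `X` (via the scheme theoretic image).
-/

set_option autoImplicit false

universe u

namespace Groth.Agent.Lib.R2H7.Hartogs2

section alg

variable {R : Type*} [CommRing R]

/-- `b` is a nonzerodivisor modulo `a`. -/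
def RegMod (a b : R) : Prop := ∀ x y : R, b * x = a * y → ∃ z, x = a * z

lemma RegMod.pow_left {a b : R} (ha : IsSMulRegular R a) (h : RegMod a b) :
    ∀ k : ℕ, RegMod (a ^ k) b
  | 0 => fun x _ _ => ⟨x, by simp⟩
  | k + 1 => by
    intro x y hxy
    obtain ⟨x', hx'⟩ := h x (a ^ k * y) (by rw [hxy, pow_succ]; ring)
    have h2 : b * x' = a ^ k * y := by
      apply ha
      change a • (b * x') = a • (a ^ k * y)
      simp only [smul_eq_mul]
      calc a * (b * x') = b * (a * x') := by ring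
        _ = b * x := by rw [← hx']
        _ = a ^ (k + 1) * y := hxy
        _ = a * (a ^ k * y) := by rw [pow_succ]; ring
    obtain ⟨z, hz⟩ := RegMod.pow_left ha h k x' y h2
    exact ⟨z, by rw [hx', hz, pow_succ]; ring⟩

lemma RegMod.pow_right {a b : R} (h : RegMod a b) : ∀ k : ℕ, RegMod a (b ^ k)
  | 0 => fun x y hxy => ⟨y, by simpa using hxy⟩
  | k + 1 => by
    intro x y hxy
    obtain ⟨z, hz⟩ := h (b ^ k * x) y (by rw [← hxy, pow_succ]; ring)
    exact RegMod.pow_right h k x z hz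

lemma regMod_of_isWeaklyRegular {a b : R}
    (h : RingTheory.Sequence.IsWeaklyRegular R [a, b]) :
    IsSMulRegular R a ∧ RegMod a b := by
  rw [RingTheory.Sequence.isWeaklyRegular_cons_iff,
    RingTheory.Sequence.isWeaklyRegular_cons_iff] at h
  obtain ⟨ha, hb, -⟩ := h
  refine ⟨ha, fun x y hxy => ?_⟩
  have h1 : b • (Submodule.Quotient.mk x : QuotSMulTop a R) = b • (0 : QuotSMulTop a R) := by
    rw [smul_zero, ← Submodule.Quotient.mk_smul, Submodule.Quotient.mk_eq_zero, smul_eq_mul, hxy]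
    exact Submodule.smul_mem_pointwise_smul y a ⊤ Submodule.mem_top
  have h2 := hb h1
  rw [Submodule.Quotient.mk_eq_zero] at h2
  obtain ⟨z, -, hz⟩ := (Submodule.mem_smul_pointwise_iff_exists x a ⊤).1 h2
  exact ⟨z, by rw [← hz, smul_eq_mul]⟩

lemma le_radical_map_of_mem_minimalPrimes {A S : Type*} [CommRing A] [CommRing S] [Algebra A S]
    (D p : Ideal A) [p.IsPrime] [IsLocalization.AtPrime S p] [IsLocalRing S]
    (hp : p ∈ D.minimalPrimes) :
    IsLocalRing.maximalIdeal S ≤ (Ideal.map (algebraMap A S) D).radical := by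
  intro a ha
  rw [Ideal.radical_eq_sInf, Ideal.mem_sInf]
  rintro q ⟨hJq, hq⟩
  have h1 : D ≤ q.comap (algebraMap A S) := Ideal.map_le_iff_le_comap.mp hJq
  have h2 : q.comap (algebraMap A S) ≤ p := by
    have := IsLocalization.AtPrime.comap_maximalIdeal S p
    rw [← this]
    exact Ideal.comap_mono (IsLocalRing.le_maximalIdeal hq.ne_top)
  have hqc : (q.comap (algebraMap A S)).IsPrime := Ideal.comap_isPrime _ _
  have h3 : q.comap (algebraMap A S) = p := le_antisymm h2 (hp.2 ⟨hqc, h1⟩ h2)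
  have h4 : q = IsLocalRing.maximalIdeal S := by
    rw [← IsLocalization.map_comap p.primeCompl S q]
    change Ideal.map (algebraMap A S) (q.comap (algebraMap A S)) = _
    rw [h3, IsLocalization.AtPrime.map_eq_maximalIdeal]
  rw [h4]
  exact ha

/-- Abstract algebraic Hartogs. -/
theorem surjective_of_depth {A B : Type u} [CommRing A] [CommRing B] (ρ : A →+* B)
    (hinj : Function.Injective ρ) {ι : Type*} [Fintype ι] (f : ι → A)
    (P1 : ∀ (i : ι) (g : B), ∃ (n : ℕ) (h : A), ρ (f i) ^ n * g = ρ h)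
    (P3 : ∀ b : B, (∀ i, ∃ n : ℕ, ρ (f i) ^ n * b = 0) → b = 0)
    (hdepth : ∀ (p : Ideal A) (_ : p.IsPrime), (∀ i, f i ∈ p) →
      ∃ (S : Type u) (_ : CommRing S) (_ : Algebra A S) (_ : IsLocalization.AtPrime S p)
        (_ : IsLocalRing S) (a b : S), a ∈ IsLocalRing.maximalIdeal S ∧
        b ∈ IsLocalRing.maximalIdeal S ∧ IsSMulRegular S a ∧ RegMod a b) :
    Function.Surjective ρ := by
  classical
  intro g
  let D : Ideal A :=
    { carrier := {a | ∃ h, ρ h = ρ a * g}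
      add_mem' := by
        rintro a b ⟨h, hh⟩ ⟨h', hh'⟩
        exact ⟨h + h', by rw [map_add, map_add, add_mul, hh, hh']⟩
      zero_mem' := ⟨0, by simp⟩
      smul_mem' := by
        rintro c a ⟨h, hh⟩
        exact ⟨c * h, by rw [smul_eq_mul, map_mul, map_mul, hh, mul_assoc]⟩ }
  have hD : ∀ a, a ∈ D ↔ ∃ h, ρ h = ρ a * g := fun a => Iff.rfl
  suffices h1 : (1 : A) ∈ D by
    obtain ⟨h, hh⟩ := (hD 1).1 h1
    exact ⟨h, by rw [hh, map_one, one_mul]⟩
  by_contra h1
  have hDtop : D ≠ ⊤ := fun h => h1 (h ▸ Submodule.mem_top)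
  obtain ⟨m, hm, hDm⟩ := Ideal.exists_le_maximal _ hDtop
  obtain ⟨p, hp, -⟩ := Ideal.exists_minimalPrimes_le (J := m) hDm
  have hpp : p.IsPrime := hp.1.1
  have hDp : D ≤ p := hp.1.2
  have hfp : ∀ i, f i ∈ p := by
    intro i
    obtain ⟨n, h, hh⟩ := P1 i g
    have : f i ^ n ∈ D := (hD _).2 ⟨h, by rw [map_pow, hh]⟩
    exact hpp.mem_of_pow_mem n (hDp this)
  obtain ⟨S, _, _, hS, _, a, b, ha, hb, hareg, hab⟩ := hdepth p hpp hfp
  have hrad := le_radical_map_of_mem_minimalPrimes (S := S) D p hp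
  obtain ⟨k₁, hk₁⟩ := hrad ha
  obtain ⟨k₂, hk₂⟩ := hrad hb
  obtain ⟨⟨⟨α, hα⟩, s₁⟩, e₁⟩ := (IsLocalization.mem_map_algebraMap_iff p.primeCompl S).1 hk₁
  obtain ⟨⟨⟨β, hβ⟩, s₂⟩, e₂⟩ := (IsLocalization.mem_map_algebraMap_iff p.primeCompl S).1 hk₂
  have e₁' : a ^ k₁ * algebraMap A S s₁ = algebraMap A S α := e₁
  have e₂' : b ^ k₂ * algebraMap A S s₂ = algebraMap A S β := e₂
  obtain ⟨hα', hhα⟩ := (hD α).1 hα
  obtain ⟨hβ', hhβ⟩ := (hD β).1 hβ
  have hcross : β * hα' = α * hβ' := by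
    apply hinj
    rw [map_mul, map_mul, hhα, hhβ]; ring
  have hab' : RegMod (a ^ k₁) (b ^ k₂) := (hab.pow_left hareg k₁).pow_right k₂
  have hS1 : b ^ k₂ * (algebraMap A S s₂ * algebraMap A S hα') =
      a ^ k₁ * (algebraMap A S s₁ * algebraMap A S hβ') := by
    have := congrArg (algebraMap A S) hcross
    rw [map_mul, map_mul, ← e₁', ← e₂'] at this
    linear_combination this
  obtain ⟨z, hz⟩ := hab' _ _ hS1
  obtain ⟨⟨z', s₃⟩, hz'⟩ := IsLocalization.surj p.primeCompl z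
  have hz'' : z * algebraMap A S s₃ = algebraMap A S z' := hz'
  have hS2 : algebraMap A S ((s₁ : A) * s₂ * s₃ * hα') = algebraMap A S (α * z') := by
    simp only [map_mul]
    rw [← e₁', ← hz'']
    linear_combination (algebraMap A S s₁ * algebraMap A S s₃) * hz
  obtain ⟨s₄, hs₄⟩ := (IsLocalization.eq_iff_exists p.primeCompl S).1 hS2
  obtain ⟨σ, γ, hσp, hσγ⟩ : ∃ σ γ : A, σ ∈ p.primeCompl ∧ σ * hα' = α * γ := by
    refine ⟨(s₄ : A) * s₁ * s₂ * s₃, (s₄ : A) * z', ?_, ?_⟩
    · exact Submonoid.mul_mem _ (Submonoid.mul_mem _ (Submonoid.mul_mem _ s₄.2 s₁.2) s₂.2) s₃.2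
    · linear_combination hs₄
  have hαε : ρ α * (ρ σ * g - ρ γ) = 0 := by
    have h := congrArg ρ hσγ
    rw [map_mul, map_mul, hhα] at h
    linear_combination h
  have hαreg : ∀ x : S, algebraMap A S α * x = 0 → x = 0 := by
    intro x hx
    rw [← e₁', mul_assoc] at hx
    have h2 : algebraMap A S s₁ * x = 0 := (hareg.pow k₁).right_eq_zero_of_smul hx
    have hu : IsUnit (algebraMap A S (s₁ : A)) := IsLocalization.map_units S s₁
    exact (hu.mul_right_eq_zero).1 h2
  have hu : ∀ i, ∃ (n : ℕ) (u : A), u ∈ p.primeCompl ∧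
      ρ u * (ρ (f i) ^ n * (ρ σ * g - ρ γ)) = 0 := by
    intro i
    obtain ⟨n, e, he⟩ := P1 i (ρ σ * g - ρ γ)
    have h0 : α * e = 0 := by
      apply hinj
      rw [map_mul, ← he, map_zero, mul_left_comm, hαε, mul_zero]
    have h1 : algebraMap A S e = 0 := hαreg _ (by rw [← map_mul, h0, map_zero])
    obtain ⟨u, hu⟩ := (IsLocalization.map_eq_zero_iff p.primeCompl S e).1 h1
    exact ⟨n, u, u.2, by rw [he, ← map_mul, hu, map_zero]⟩
  choose n u hup hu0 using hu
  have hUp : (∏ i, u i) ∈ p.primeCompl := Submonoid.prod_mem _ (fun i _ => hup i)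
  have hε' : ρ (∏ i, u i) * (ρ σ * g - ρ γ) = 0 := by
    apply P3
    intro i
    refine ⟨n i, ?_⟩
    obtain ⟨c, hc⟩ : u i ∣ ∏ i, u i := Finset.dvd_prod_of_mem u (Finset.mem_univ i)
    rw [hc, map_mul]
    calc ρ (f i) ^ n i * (ρ (u i) * ρ c * (ρ σ * g - ρ γ))
        = ρ c * (ρ (u i) * (ρ (f i) ^ n i * (ρ σ * g - ρ γ))) := by ring
      _ = 0 := by rw [hu0 i, mul_zero]
  have hUσ : (∏ i, u i) * σ ∈ D := by
    refine (hD _).2 ⟨(∏ i, u i) * γ, ?_⟩
    rw [map_mul, map_mul]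
    linear_combination -hε'
  exact (Submonoid.mul_mem _ hUp hσp) (hDp hUσ)

end alg

section scheme

open AlgebraicGeometry CategoryTheory TopologicalSpace Opposite

variable {X : Scheme.{u}}

lemma res_res {O₁ O₂ O₃ : X.Opens} (h₁₂ : O₁ ≤ O₂) (h₂₃ : O₂ ≤ O₃) (s : Γ(X, O₃)) :
    (X.presheaf.map (homOfLE h₁₂).op).hom ((X.presheaf.map (homOfLE h₂₃).op).hom s) =
      (X.presheaf.map (homOfLE (h₁₂.trans h₂₃)).op).hom s := by
  rw [← CommRingCat.comp_apply, ← Functor.map_comp]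
  rfl

/-- Hartogs for the structure sheaf on an affine open `V` and a compact open `W ≤ V`. -/
theorem bijective_res_of_depth (V : X.affineOpens) (W : X.Opens) (hWV : W ≤ V.1)
    (hWc : IsCompact (W : Set X))
    (hinj : Function.Injective (X.presheaf.map (homOfLE hWV).op).hom)
    (hZ : ∀ z : X, z ∈ V.1 → z ∉ W → ∃ a b : X.presheaf.stalk z,
      a ∈ IsLocalRing.maximalIdeal (X.presheaf.stalk z) ∧
      b ∈ IsLocalRing.maximalIdeal (X.presheaf.stalk z) ∧
      RingTheory.Sequence.IsWeaklyRegular (X.presheaf.stalk z) [a, b]) :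
    Function.Surjective (X.presheaf.map (homOfLE hWV).op).hom := by
  classical
  -- finite cover of `W` by basic opens of `V`
  have hcov : ∀ x : W, ∃ f : Γ(X, V.1), X.basicOpen f ≤ W ∧ (x : X) ∈ X.basicOpen f :=
    fun x => V.2.exists_basicOpen_le x (hWV x.2)
  obtain ⟨t, ht⟩ := hWc.elim_finite_subcover
    (fun f : {f : Γ(X, V.1) // X.basicOpen f ≤ W} => (X.basicOpen f.1 : Set X))
    (fun f => (X.basicOpen f.1).isOpen)
    (by
      intro x hx
      obtain ⟨f, hf, hxf⟩ := hcov ⟨x, hx⟩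
      exact Set.mem_iUnion.2 ⟨⟨f, hf⟩, hxf⟩)
  set ρ := (X.presheaf.map (homOfLE hWV).op).hom with hρ
  refine surjective_of_depth ρ hinj (ι := t) (fun i => i.1.1) ?_ ?_ ?_
  · -- P1
    intro i g
    have hle : X.basicOpen i.1.1 ≤ W := i.1.2
    obtain ⟨n, y, hy⟩ := exists_eq_pow_mul_of_isAffineOpen X V.1 V.2 i.1.1
      ((X.presheaf.map (homOfLE hle).op).hom g)
    have hy' : (X.presheaf.map (homOfLE (X.basicOpen_le i.1.1)).op).hom y =
        ((X.presheaf.map (homOfLE (X.basicOpen_le i.1.1)).op).hom i.1.1) ^ n *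
          (X.presheaf.map (homOfLE hle).op).hom g := hy
    have hb : X.basicOpen (ρ i.1.1) = X.basicOpen i.1.1 := by
      rw [hρ]
      have := X.basicOpen_res i.1.1 (homOfLE hWV).op
      rw [this]
      exact inf_eq_right.2 hle
    have hle' : X.basicOpen (ρ i.1.1) ≤ W := hb.le.trans hle
    have H : (X.presheaf.map (homOfLE hle').op).hom (ρ y - ρ i.1.1 ^ n * g) = 0 := by
      have hle'' : X.basicOpen (ρ i.1.1) ≤ X.basicOpen i.1.1 := hb.le
      have e1 : (X.presheaf.map (homOfLE hle').op).hom (ρ y) =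
          (X.presheaf.map (homOfLE (hle'.trans hWV)).op).hom y := res_res hle' hWV y
      have e2 : (X.presheaf.map (homOfLE hle').op).hom (ρ i.1.1) =
          (X.presheaf.map (homOfLE (hle'.trans hWV)).op).hom i.1.1 := res_res hle' hWV i.1.1
      have h1 := congrArg (X.presheaf.map (homOfLE hle'').op).hom hy'
      rw [map_mul, map_pow, res_res, res_res, res_res] at h1
      rw [map_sub, map_mul, map_pow, sub_eq_zero, e1, e2]
      exact h1
    obtain ⟨m, hm⟩ := exists_pow_mul_eq_zero_of_res_basicOpen_eq_zero_of_isCompact X hWc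
      (ρ y - ρ i.1.1 ^ n * g) (ρ i.1.1) H
    refine ⟨m + n, i.1.1 ^ m * y, ?_⟩
    rw [map_mul, map_pow]
    linear_combination -hm
  · -- P3
    intro b hb
    refine TopCat.Presheaf.section_ext X.sheaf W b 0 (fun x hx => ?_)
    rw [map_zero]
    obtain ⟨i, hi⟩ : ∃ i : t, x ∈ X.basicOpen i.1.1 := by
      have := ht hx
      simp only [Set.mem_iUnion] at this
      obtain ⟨f, hf, hxf⟩ := this
      exact ⟨⟨f, hf⟩, hxf⟩
    obtain ⟨n, hn⟩ := hb i
    have hxV : x ∈ V.1 := hWV hx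
    have hunit : IsUnit (X.presheaf.germ V.1 x hxV i.1.1) := (X.mem_basicOpen _ x hxV).1 hi
    have h1 : X.presheaf.germ W x hx (ρ i.1.1) = X.presheaf.germ V.1 x hxV i.1.1 :=
      X.presheaf.germ_res_apply (homOfLE hWV) x hx i.1.1
    have h2 := congrArg (X.presheaf.germ W x hx) hn
    rw [map_mul, map_pow, map_zero, h1] at h2
    exact ((hunit.pow n).mul_right_eq_zero).1 h2
  · -- depth
    intro p hp hfp
    let y : PrimeSpectrum Γ(X, V.1) := ⟨p, hp⟩
    have hy : V.2.fromSpec y ∈ V.1 := (V.2.isoSpec.inv _).2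
    letI := TopCat.Presheaf.algebra_section_stalk X.presheaf ⟨V.2.fromSpec y, hy⟩
    have hloc : IsLocalization.AtPrime (X.presheaf.stalk (V.2.fromSpec y)) p :=
      V.2.isLocalization_stalk' y hy
    have hnW : V.2.fromSpec y ∉ W := by
      intro hxW
      have := ht hxW
      simp only [Set.mem_iUnion] at this
      obtain ⟨f, hf, hxf⟩ := this
      have hunit : IsUnit (X.presheaf.germ V.1 _ hy f.1) := (X.mem_basicOpen _ _ hy).1 hxf
      have h3 : f.1 ∈ p.primeCompl :=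
        (IsLocalization.AtPrime.isUnit_to_map_iff (X.presheaf.stalk (V.2.fromSpec y)) p f.1).1 hunit
      exact h3 (hfp ⟨f, hf⟩)
    obtain ⟨a, b, ha, hb, hab⟩ := hZ _ hy hnW
    obtain ⟨hareg, hab'⟩ := regMod_of_isWeaklyRegular hab
    exact ⟨X.presheaf.stalk (V.2.fromSpec y), inferInstance, inferInstance, hloc, inferInstance,
      a, b, ha, hb, hareg, hab'⟩

variable (U : X.Opens) [QuasiCompact U.ι]

/-- `Γ(X, V) → Γ(U, V ∩ U)` is bijective for affine `V` when `X` has depth `≥ 2` along `X \ U`. -/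
theorem bijective_ι_app
    (hZ : ∀ z : X, z ∉ U → ∃ a b : X.presheaf.stalk z,
      a ∈ IsLocalRing.maximalIdeal (X.presheaf.stalk z) ∧
      b ∈ IsLocalRing.maximalIdeal (X.presheaf.stalk z) ∧
      RingTheory.Sequence.IsWeaklyRegular (X.presheaf.stalk z) [a, b])
    (V : X.affineOpens) : Function.Bijective (U.ι.app V.1).hom := by
  have hdom := Groth.Agent.S14271.isSchemeTheoreticallyDominant_of_regular X U (fun z hz => by
    obtain ⟨a, b, ha, hb, hab⟩ := hZ z hz
    exact ⟨a, ha, (regMod_of_isWeaklyRegular hab).1⟩)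
  have hker : RingHom.ker (U.ι.app V.1).hom = ⊥ := by
    rw [← Scheme.Hom.ker_apply, U.ι.ker_eq_bot, Scheme.IdealSheafData.ideal_bot]
    rfl
  have hinj : Function.Injective (U.ι.app V.1).hom := (RingHom.injective_iff_ker_eq_bot _).2 hker
  refine ⟨hinj, ?_⟩
  have hWV : U.ι ''ᵁ U.ι ⁻¹ᵁ V.1 ≤ V.1 := Set.image_preimage_subset _ _
  have hWeq : U.ι ''ᵁ U.ι ⁻¹ᵁ V.1 = U ⊓ V.1 := by
    rw [Scheme.Hom.image_preimage_eq_opensRange_inf, Scheme.Opens.opensRange_ι]
  have hWc : IsCompact ((U.ι ''ᵁ U.ι ⁻¹ᵁ V.1 : X.Opens) : Set X) := by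
    have h1 : IsCompact ((U.ι ⁻¹ᵁ V.1 : U.toScheme.Opens) : Set U.toScheme) :=
      QuasiCompact.isCompact_preimage (f := U.ι) _ V.1.isOpen V.2.isCompact
    exact h1.image U.ι.continuous
  exact bijective_res_of_depth V (U.ι ''ᵁ U.ι ⁻¹ᵁ V.1) hWV hWc hinj (fun z hzV hzW => hZ z (by
    intro hzU
    apply hzW
    rw [hWeq]
    exact ⟨hzU, hzV⟩))

/-- Sections over `U` of an affine `X`-scheme extend to `X`. -/
theorem exists_section
    (hZ : ∀ z : X, z ∉ U → ∃ a b : X.presheaf.stalk z,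
      a ∈ IsLocalRing.maximalIdeal (X.presheaf.stalk z) ∧
      b ∈ IsLocalRing.maximalIdeal (X.presheaf.stalk z) ∧
      RingTheory.Sequence.IsWeaklyRegular (X.presheaf.stalk z) [a, b])
    (Y : Scheme.{u}) (f : Y ⟶ X) [IsAffineHom f]
    (t : (U : Scheme.{u}) ⟶ Y) (ht : t ≫ f = U.ι) :
    ∃ s : X ⟶ Y, s ≫ f = 𝟙 X ∧ U.ι ≫ s = t := by
  have : QuasiCompact (t ≫ f) := by rw [ht]; infer_instance
  have : QuasiCompact t := QuasiCompact.of_comp t f
  let g : t.image ⟶ X := t.imageι ≫ f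
  have hg : t.toImage ≫ g = U.ι := by
    rw [← ht, ← Category.assoc, Scheme.Hom.toImage_imageι]
  have : IsAffineHom g := inferInstance
  have hiso : IsIso g := by
    rw [← MorphismProperty.isomorphisms.iff]
    refine IsZariskiLocalAtTarget.of_iSup_eq_top (P := MorphismProperty.isomorphisms Scheme)
      (fun V : X.affineOpens => V.1) (iSup_affineOpens_eq_top X) (fun V => ?_)
    rw [MorphismProperty.isomorphisms.iff, isIso_morphismRestrict_iff_isIso_app g V.2,
      ConcreteCategory.isIso_iff_bijective]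
    -- `U.ι.app V = g.app V ≫ toImage.app (g ⁻¹ V)` up to an `eqToHom`
    have hbij := bijective_ι_app U hZ V
    have hcomp := Scheme.Hom.congr_app hg V.1
    rw [Scheme.Hom.comp_app] at hcomp
    have hinj2 : Function.Injective (t.toImage.app (g ⁻¹ᵁ V.1)) :=
      t.toImage_app_injective ⟨f ⁻¹ᵁ V.1, V.2.preimage f⟩
    -- composite bijective
    have hiso_e : ∀ {O₁ O₂ : (U : Scheme.{u}).Opens} (h : O₁ = O₂),
        IsIso ((U : Scheme.{u}).presheaf.map (eqToHom h).op) := fun h => inferInstance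
    obtain ⟨e, he, hcomp'⟩ : ∃ (e : Γ(U, U.ι ⁻¹ᵁ V.1) ⟶ Γ(U, t.toImage ⁻¹ᵁ g ⁻¹ᵁ V.1)),
        IsIso e ∧ g.app V.1 ≫ t.toImage.app (g ⁻¹ᵁ V.1) = U.ι.app V.1 ≫ e :=
      ⟨_, hiso_e _, hcomp⟩
    have hbij2 : Function.Bijective (g.app V.1 ≫ t.toImage.app (g ⁻¹ᵁ V.1)).hom := by
      rw [hcomp', CommRingCat.hom_comp, RingHom.coe_comp]
      refine Function.Bijective.comp ?_ hbij
      exact (ConcreteCategory.isIso_iff_bijective _).1 he
    rw [CommRingCat.hom_comp, RingHom.coe_comp] at hbij2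
    have hsurj2 : Function.Surjective (t.toImage.app (g ⁻¹ᵁ V.1)).hom := hbij2.2.of_comp
    have hb3 : Function.Bijective (t.toImage.app (g ⁻¹ᵁ V.1)).hom := ⟨hinj2, hsurj2⟩
    exact (Function.Bijective.of_comp_iff' hb3 _).1 hbij2
  refine ⟨inv g ≫ t.imageι, ?_, ?_⟩
  · rw [Category.assoc]
    exact IsIso.inv_hom_id g
  · have : U.ι ≫ inv g = t.toImage := by
      rw [← hg, Category.assoc, IsIso.hom_inv_id, Category.comp_id]
    rw [← Category.assoc, this, Scheme.Hom.toImage_imageι]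

end scheme

end Groth.Agent.Lib.R2H7.Hartogs2
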