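import Mathlib
import Groth.Agent.Lib.Helper15QuadEtale

/-!
# Diagonalization of hermitian forms over a ring with involution whose fixed ring is local

Part A: ring-level lemmas (units among `ε`-symmetric elements, existence of traces that are units).
Part B: matrix induction (Schur complements, Albert's trick in residue characteristic two).
-/

set_option autoImplicit false
universe u v

namespace Groth.Agent.Lib.R2H7.HermDiag

open Groth.Agent.Lib.Helper15.QuadEtale

section ringPart

variable {B : Type u} {A : Type v} [CommRing B] [CommRing A] [Algebra B A]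
  (lam : A ≃+* A) (hlam : Function.Involutive lam) (hB : RInv.IsFixedRing B A lam) [IsLocalRing B]

theorem mem_jacobson_iff (x : A) : x ∈ Ring.jacobson A ↔ ∀ M : Ideal A, M.IsMaximal → x ∈ M := by
  rw [Ring.jacobson_eq_sInf_isMaximal, Ideal.mem_sInf]
  rfl

include hlam hB in
/-- An `ε`-symmetric element outside the Jacobson radical is a unit. -/
theorem isUnit_of_symm (ε : A) (u : A) (hu : u = ε * lam u) (hJ : u ∉ Ring.jacobson A) :
    IsUnit u := by
  rw [mem_jacobson_iff] at hJ
  push Not at hJ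
  obtain ⟨M, hM, huM⟩ := hJ
  by_contra hnu
  obtain ⟨N, hN, huN⟩ := exists_max_ideal_of_mem_nonunits hnu
  rcases maximal_orbit lam hlam hB M N with h | h
  · exact huM (h ▸ huN)
  · rw [h, Ideal.mem_comap] at huN
    have h1 : lam u ∈ M := huN
    apply huM
    rw [hu]
    exact Ideal.mul_mem_left _ _ h1

include hlam hB in
/-- If `lam` is trivial modulo the radical, every element outside the radical is a unit. -/
theorem isUnit_of_trivial (htriv : ∀ a : A, lam a - a ∈ Ring.jacobson A) (u : A)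
    (hJ : u ∉ Ring.jacobson A) : IsUnit u := by
  have hJ' := hJ
  rw [mem_jacobson_iff] at hJ
  push Not at hJ
  obtain ⟨M, hM, huM⟩ := hJ
  by_contra hnu
  obtain ⟨N, hN, huN⟩ := exists_max_ideal_of_mem_nonunits hnu
  rcases maximal_orbit lam hlam hB M N with h | h
  · exact huM (h ▸ huN)
  · rw [h, Ideal.mem_comap] at huN
    have h1 : lam u ∈ M := huN
    have h2 : lam u - u ∈ M := (mem_jacobson_iff _).mp (htriv u) M hM
    apply huM
    have := Ideal.sub_mem _ h1 h2
    rwa [sub_sub_cancel] at this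

theorem lam_eps (ε : A) (hε : ε = 1 ∨ ε = -1) : lam ε = ε := by
  rcases hε with rfl | rfl
  · exact map_one lam
  · rw [map_neg, map_one]

theorem eps_mul_eps (ε : A) (hε : ε = 1 ∨ ε = -1) : ε * ε = 1 := by
  rcases hε with rfl | rfl
  · exact one_mul 1
  · ring

include hlam in
theorem trace_symm (ε : A) (hε : ε = 1 ∨ ε = -1) (a : A) :
    a + ε * lam a = ε * lam (a + ε * lam a) := by
  rw [map_add, map_mul, hlam a, lam_eps lam ε hε, mul_add, ← mul_assoc, eps_mul_eps ε hε, one_mul,
    add_comm]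

include hlam hB in
/-- For a unimodular row `r`, some `c * r l` has a unit `ε`-trace, as soon as `lam` is nontrivial
modulo the radical or `ε + 1` is not in the radical. -/
theorem exists_trace_isUnit [Nontrivial A] (ε : A) (hε : ε = 1 ∨ ε = -1) {ι : Type*} [Fintype ι]
    (r g : ι → A) (hrg : ∑ l, r l * g l = 1)
    (hcase : (∃ a : A, lam a - a ∉ Ring.jacobson A) ∨ ε + 1 ∉ Ring.jacobson A) :
    ∃ (l : ι) (c : A), IsUnit (c * r l + ε * lam (c * r l)) := by
  obtain ⟨M₁, hM₁⟩ := Ideal.exists_maximal A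
  have hJM : ∀ x : A, x ∈ Ring.jacobson A → x ∈ M₁ := fun x hx => (mem_jacobson_iff x).mp hx M₁ hM₁
  obtain ⟨l, hl⟩ : ∃ l, r l ∉ M₁ := by
    by_contra hcon
    push Not at hcon
    have : (1 : A) ∈ M₁ := by
      rw [← hrg]
      exact Ideal.sum_mem _ (fun l _ => Ideal.mul_mem_right _ _ (hcon l))
    exact hM₁.ne_top ((Ideal.eq_top_iff_one _).mpr this)
  have hunit : ∀ a : A, a + ε * lam a ∉ M₁ → IsUnit (a + ε * lam a) := fun a ha =>
    isUnit_of_symm lam hlam hB ε _ (trace_symm lam hlam ε hε a) (fun h => ha (hJM _ h))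
  have hM₂ : (M₁.comap (lam : A →+* A)).IsMaximal :=
    Ideal.comap_isMaximal_of_surjective _ lam.surjective
  refine ⟨l, ?_⟩
  by_cases hM : M₁.comap (lam : A →+* A) = M₁
  · have hlamM : ∀ x ∈ M₁, lam x ∈ M₁ := by
      intro x hx
      rw [← hM] at hx
      exact hx
    have hMJ : ∀ x ∈ M₁, x ∈ Ring.jacobson A := by
      intro x hx
      rw [mem_jacobson_iff]
      intro N hN
      rcases maximal_orbit lam hlam hB M₁ N with h | h
      · rw [h]; exact hx
      · rw [h, hM]; exact hx
    obtain ⟨a₀, ha₀⟩ : ∃ a₀ : A, a₀ + ε * lam a₀ ∉ M₁ := by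
      by_cases hb : ε + 1 ∈ Ring.jacobson A
      · rcases hcase with ⟨a, ha⟩ | hb'
        · refine ⟨a, fun hmem => ha (hMJ _ ?_)⟩
          have h1 : (ε + 1) * lam a ∈ M₁ := Ideal.mul_mem_right _ _ (hJM _ hb)
          have h2 := Ideal.sub_mem _ h1 hmem
          have e : (ε + 1) * lam a - (a + ε * lam a) = lam a - a := by ring
          rwa [e] at h2
        · exact absurd hb hb'
      · refine ⟨1, fun hmem => hb (hMJ _ ?_)⟩
        rw [map_one, mul_one, add_comm] at hmem
        exact hmem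
    obtain ⟨y, i, hi, hyi⟩ := hM₁.exists_inv hl
    refine ⟨a₀ * y, hunit _ ?_⟩
    intro hmem
    apply ha₀
    have e1 : a₀ * y * r l = a₀ - a₀ * i := by
      have : y * r l = 1 - i := by rw [← hyi]; ring
      rw [mul_assoc, this]; ring
    rw [e1, map_sub, map_mul] at hmem
    have h3 : a₀ * i ∈ M₁ := Ideal.mul_mem_left _ _ hi
    have h4 : lam a₀ * lam i ∈ M₁ := Ideal.mul_mem_left _ _ (hlamM i hi)
    have e2 : a₀ + ε * lam a₀ =
        (a₀ - a₀ * i + ε * (lam a₀ - lam a₀ * lam i)) + (a₀ * i + ε * (lam a₀ * lam i)) := by ring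
    rw [e2]
    exact Ideal.add_mem _ hmem (Ideal.add_mem _ h3 (Ideal.mul_mem_left _ _ h4))
  · have hnle : ¬ M₁.comap (lam : A →+* A) ≤ M₁ := fun hle => hM (hM₂.eq_of_le hM₁.ne_top hle)
    obtain ⟨c₀, hc₀, hc₀'⟩ := Set.not_subset.mp hnle
    refine ⟨c₀, hunit _ ?_⟩
    intro hmem
    have h1 : lam (c₀ * r l) ∈ M₁ := by
      rw [map_mul]
      exact Ideal.mul_mem_right _ _ hc₀
    have h2 : c₀ * r l ∈ M₁ := by
      have := Ideal.sub_mem _ hmem (Ideal.mul_mem_left _ ε h1)
      rwa [add_sub_cancel_right] at this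
    rcases hM₁.isPrime.mem_or_mem h2 with h | h
    · exact hc₀' h
    · exact hl h

end ringPart

section matrixPart

open Matrix

variable {A : Type v} [CommRing A] [StarRing A]

/-- Hermitian congruence of square matrices. -/
def Cong {ι : Type*} [Fintype ι] [DecidableEq ι] (h h' : Matrix ι ι A) : Prop :=
  ∃ v : Matrix ι ι A, IsUnit v ∧ vᴴ * h * v = h'

theorem Cong.refl {ι : Type*} [Fintype ι] [DecidableEq ι] (h : Matrix ι ι A) : Cong h h :=
  ⟨1, isUnit_one, by rw [conjTranspose_one, one_mul, mul_one]⟩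

theorem Cong.trans {ι : Type*} [Fintype ι] [DecidableEq ι] {h₁ h₂ h₃ : Matrix ι ι A}
    (h12 : Cong h₁ h₂) (h23 : Cong h₂ h₃) : Cong h₁ h₃ := by
  obtain ⟨v, hv, e1⟩ := h12
  obtain ⟨w, hw, e2⟩ := h23
  refine ⟨v * w, hv.mul hw, ?_⟩
  rw [conjTranspose_mul, ← e2, ← e1]
  simp only [Matrix.mul_assoc]

theorem Cong.isUnit {ι : Type*} [Fintype ι] [DecidableEq ι] {h h' : Matrix ι ι A}
    (hc : Cong h h') (hu : IsUnit h) : IsUnit h' := by
  obtain ⟨v, hv, e⟩ := hc
  rw [← e]
  exact (((Matrix.isUnit_conjTranspose v).mpr hv).mul hu).mul hv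

theorem Cong.herm {ι : Type*} [Fintype ι] [DecidableEq ι] {h h' : Matrix ι ι A} (ε : A)
    (hc : Cong h h') (hh : ε • hᴴ = h) : ε • h'ᴴ = h' := by
  obtain ⟨v, -, e⟩ := hc
  rw [← e, conjTranspose_mul, conjTranspose_mul, conjTranspose_conjTranspose, Matrix.mul_assoc]
  conv_rhs => rw [← hh]
  rw [Matrix.smul_mul, Matrix.mul_smul]

theorem herm_apply {ι : Type*} {h : Matrix ι ι A} (ε : A) (hh : ε • hᴴ = h) (i j : ι) :
    h j i = ε * star (h i j) := by
  conv_lhs => rw [← hh]
  rfl

/-- Transport of congruence along a reindexing. -/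
theorem Cong.submatrix {ι κ : Type*} [Fintype ι] [DecidableEq ι] [Fintype κ] [DecidableEq κ]
    {h h' : Matrix κ κ A} (hc : Cong h h') (e : ι ≃ κ) :
    Cong (h.submatrix e e) (h'.submatrix e e) := by
  obtain ⟨v, hv, e1⟩ := hc
  refine ⟨v.submatrix e e, (isUnit_submatrix_equiv e e).mpr hv, ?_⟩
  rw [conjTranspose_submatrix, submatrix_mul_equiv, submatrix_mul_equiv, e1]

theorem herm_fromBlocks {m n : Type*} (ε : A) (P : Matrix m m A) (Q : Matrix m n A)
    (R : Matrix n m A) (S : Matrix n n A)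
    (hh : ε • (fromBlocks P Q R S)ᴴ = fromBlocks P Q R S) :
    R = ε • Qᴴ ∧ ε • Sᴴ = S ∧ ε • Pᴴ = P := by
  rw [fromBlocks_conjTranspose, fromBlocks_smul, fromBlocks_inj] at hh
  exact ⟨hh.2.2.1.symm, hh.2.2.2, hh.1⟩

/-- Schur complement step. -/
theorem cong_schur {m n : Type*} [Fintype m] [DecidableEq m] [Fintype n] [DecidableEq n] (ε : A)
    (a : Matrix m m A) (B : Matrix m n A) (C : Matrix n m A) (D : Matrix n n A) (ha : IsUnit a)
    (hh : ε • (fromBlocks a B C D)ᴴ = fromBlocks a B C D) :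
    Cong (fromBlocks a B C D) (fromBlocks a 0 0 (D - C * a⁻¹ * B)) := by
  have e1 : a * a⁻¹ = 1 := Matrix.mul_nonsing_inv a ((Matrix.isUnit_iff_isUnit_det a).mp ha)
  set v : Matrix (m ⊕ n) (m ⊕ n) A := fromBlocks 1 (-(a⁻¹ * B)) 0 1 with hv
  have hvu : IsUnit v := by
    rw [Matrix.isUnit_iff_isUnit_det v, hv, det_fromBlocks_zero₂₁, det_one, det_one, one_mul]
    exact isUnit_one
  have hK : ∃ K21 : Matrix n m A,
      vᴴ * fromBlocks a B C D * v = fromBlocks a 0 K21 (D - C * a⁻¹ * B) := by
    refine ⟨(-(a⁻¹ * B))ᴴ * a + C, ?_⟩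
    rw [hv, fromBlocks_conjTranspose, Matrix.mul_assoc, fromBlocks_multiply, fromBlocks_multiply]
    have e2 : a * -(a⁻¹ * B) + B * (1 : Matrix n n A) = 0 := by
      rw [Matrix.mul_neg, ← Matrix.mul_assoc, e1, Matrix.one_mul, Matrix.mul_one, neg_add_cancel]
    rw [e2]
    simp only [conjTranspose_one, conjTranspose_zero, Matrix.mul_one, Matrix.mul_zero, add_zero,
      Matrix.one_mul, Matrix.zero_mul, zero_add, Matrix.mul_neg]
    congr 1
    rw [← Matrix.mul_assoc]
    abel
  obtain ⟨K21, hK21⟩ := hK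
  have hcong : Cong (fromBlocks a B C D) (fromBlocks a 0 K21 (D - C * a⁻¹ * B)) := ⟨v, hvu, hK21⟩
  have hherm := hcong.herm ε hh
  have h21 : K21 = 0 := by
    rw [(herm_fromBlocks ε _ _ _ _ hherm).1, conjTranspose_zero, smul_zero]
  rw [h21] at hcong
  exact hcong

/-- Extending a congruence on the lower-right block. -/
theorem cong_fromBlocks_right {m n : Type*} [Fintype m] [DecidableEq m] [Fintype n] [DecidableEq n]
    (a : Matrix m m A) {S S' : Matrix n n A} (hc : Cong S S') :
    Cong (fromBlocks a 0 0 S) (fromBlocks a 0 0 S') := by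
  obtain ⟨v', hv', e⟩ := hc
  refine ⟨fromBlocks 1 0 0 v', ?_, ?_⟩
  · rw [Matrix.isUnit_iff_isUnit_det (fromBlocks 1 0 0 v'), det_fromBlocks_zero₂₁, det_one, one_mul,
      ← Matrix.isUnit_iff_isUnit_det v']
    exact hv'
  · rw [fromBlocks_conjTranspose, fromBlocks_multiply, fromBlocks_multiply]
    simp only [conjTranspose_one, conjTranspose_zero, Matrix.mul_one, Matrix.mul_zero, add_zero,
      Matrix.one_mul, Matrix.zero_mul, zero_add, e]

theorem star_mem_jacobson {x : A} (hx : x ∈ Ring.jacobson A) : star x ∈ Ring.jacobson A := by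
  rw [← Ideal.jacobson_bot, Ideal.mem_jacobson_bot] at hx ⊢
  intro y
  have h2 := (hx (star y)).star
  rw [star_add, star_mul, star_star, star_one, mul_comm] at h2
  exact h2

section steps

variable (ε : A)
  (H1 : ∀ u : A, u = ε * star u → u ∉ Ring.jacobson A → IsUnit u)
  (H3 : ∀ {ι : Type} [Fintype ι] (r g : ι → A), ∑ l, r l * g l = 1 →
    ((∃ a : A, star a - a ∉ Ring.jacobson A) ∨ ε + 1 ∉ Ring.jacobson A) →
      ∃ (l : ι) (c : A), IsUnit (c * r l + ε * star (c * r l)))

/-- The condition under which the induction runs. -/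
def QCond {ι : Type} (h : Matrix ι ι A) : Prop :=
  (∃ a : A, star a - a ∉ Ring.jacobson A) ∨ ε + 1 ∉ Ring.jacobson A ∨
    ∃ i, h i i ∉ Ring.jacobson A

include H1 H3 in
/-- Step 1: make some diagonal entry a unit. -/
theorem exists_cong_isUnit_diag [Nontrivial A] {ι : Type} [Fintype ι] [DecidableEq ι] [Nonempty ι]
    (h : Matrix ι ι A) (hu : IsUnit h) (hh : ε • hᴴ = h) (hQ : QCond ε h) :
    ∃ (h₁ : Matrix ι ι A) (i₀ : ι), Cong h h₁ ∧ IsUnit (h₁ i₀ i₀) := by
  by_cases hd : ∃ i, h i i ∉ Ring.jacobson A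
  · obtain ⟨i, hi⟩ := hd
    exact ⟨h, i, Cong.refl h, H1 _ (herm_apply ε hh i i) hi⟩
  · push Not at hd
    have hab : (∃ a : A, star a - a ∉ Ring.jacobson A) ∨ ε + 1 ∉ Ring.jacobson A := by
      rcases hQ with h1 | h1 | ⟨i, hi⟩
      · exact Or.inl h1
      · exact Or.inr h1
      · exact absurd (hd i) hi
    obtain ⟨i⟩ := ‹Nonempty ι›
    have hinv : h * h⁻¹ = 1 := Matrix.mul_nonsing_inv h ((Matrix.isUnit_iff_isUnit_det h).mp hu)
    have hrow : ∑ l, h i l * h⁻¹ l i = 1 := by
      have := congrFun (congrFun hinv i) i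
      rw [Matrix.mul_apply, Matrix.one_apply_eq] at this
      exact this
    obtain ⟨l, c, hc⟩ := H3 (fun l => h i l) (fun l => h⁻¹ l i) hrow hab
    have hli : l ≠ i := by
      rintro rfl
      apply not_isUnit_of_mem_jacobson _ hc
      have h1 : c * h l l ∈ Ring.jacobson A := Ideal.mul_mem_left _ _ (hd l)
      exact Ideal.add_mem _ h1 (Ideal.mul_mem_left _ _ (star_mem_jacobson h1))
    set w : Matrix ι ι A := Matrix.transvection l i c with hw
    have hwu : IsUnit w := by
      rw [Matrix.isUnit_iff_isUnit_det w, hw, Matrix.det_transvection_of_ne l i hli]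
      exact isUnit_one
    refine ⟨wᴴ * h * w, i, ⟨w, hwu, rfl⟩, ?_⟩
    have hwH : wᴴ = Matrix.transvection i l (star c) := by
      rw [hw, Matrix.transvection, Matrix.transvection, conjTranspose_add, conjTranspose_one,
        conjTranspose_single]
    have e : (wᴴ * h * w) i i =
        (c * h i l + ε * star (c * h i l)) + (h i i + star c * c * h l l) := by
      rw [hwH, Matrix.mul_assoc, Matrix.transvection_mul_apply_same, hw,
        Matrix.mul_transvection_apply_same, Matrix.mul_transvection_apply_same,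
        herm_apply ε hh i l, star_mul]
      ring
    rw [e]
    exact isUnit_add_of_mem_jacobson hc
      (Ideal.add_mem _ (hd i) (Ideal.mul_mem_left _ _ (hd l)))

theorem isUnit_iff_of_unique {S : Type*} [Unique S] [Fintype S] [DecidableEq S] (a : Matrix S S A) :
    IsUnit a ↔ IsUnit (a default default) := by
  rw [Matrix.isUnit_iff_isUnit_det a, det_unique]

theorem eq_diagonal_of_unique {S : Type*} [Unique S] [DecidableEq S] (a : Matrix S S A) :
    a = diagonal (fun s => a s s) := by
  ext i j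
  rw [Subsingleton.elim j i, diagonal_apply_eq]

variable (H2 : (∀ a : A, star a - a ∈ Ring.jacobson A) → ∀ u : A, u ∉ Ring.jacobson A → IsUnit u)

include H2 in
/-- Albert's trick: if the complement is alternating modulo the radical, change the split-off
vector so that the new complement has a unit on the diagonal. -/
theorem albert [Nontrivial A] {S T : Type} [Unique S] [Fintype S] [DecidableEq S] [Fintype T]
    [DecidableEq T] [Nonempty T] (a : Matrix S S A) (S' : Matrix T T A)
    (ha : IsUnit (a default default)) (hS'u : IsUnit S')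
    (hherm : ε • (fromBlocks a 0 0 S')ᴴ = fromBlocks a 0 0 S')
    (htriv : ∀ x : A, star x - x ∈ Ring.jacobson A) (hb : ε + 1 ∈ Ring.jacobson A)
    (hdiag : ∀ k, S' k k ∈ Ring.jacobson A) :
    ∃ (a' : Matrix S S A) (S'' : Matrix T T A),
      Cong (fromBlocks a 0 0 S') (fromBlocks a' 0 0 S'') ∧ IsUnit (a' default default) ∧
        QCond ε S'' := by
  obtain ⟨j⟩ := ‹Nonempty T›
  have hS'herm : ε • S'ᴴ = S' := (herm_fromBlocks ε _ _ _ _ hherm).2.1
  -- an entry of row `j` outside the radical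
  obtain ⟨l, hl⟩ : ∃ l, S' j l ∉ Ring.jacobson A := by
    by_contra hcon
    push Not at hcon
    have hinv : S' * S'⁻¹ = 1 :=
      Matrix.mul_nonsing_inv S' ((Matrix.isUnit_iff_isUnit_det S').mp hS'u)
    have h1 := congrFun (congrFun hinv j) j
    rw [Matrix.mul_apply, Matrix.one_apply_eq] at h1
    have h2 : (1 : A) ∈ Ring.jacobson A := by
      rw [← h1]
      exact Ideal.sum_mem _ (fun k _ => Ideal.mul_mem_right _ _ (hcon k))
    exact not_isUnit_of_mem_jacobson h2 isUnit_one
  have htu : IsUnit (S' j l) := H2 htriv _ hl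
  set c : Matrix T S A := Matrix.of (fun k _ => if k = j then 1 else 0) with hc
  set w : Matrix (S ⊕ T) (S ⊕ T) A := fromBlocks 1 0 c 1 with hw
  have hwu : IsUnit w := by
    rw [Matrix.isUnit_iff_isUnit_det w, hw, det_fromBlocks_zero₁₂, det_one, det_one, one_mul]
    exact isUnit_one
  have hH3 : wᴴ * fromBlocks a 0 0 S' * w = fromBlocks (a + cᴴ * S' * c) (cᴴ * S') (S' * c) S' := by
    rw [hw, fromBlocks_conjTranspose, fromBlocks_multiply, fromBlocks_multiply]
    simp only [conjTranspose_one, conjTranspose_zero, Matrix.mul_one, Matrix.mul_zero, add_zero,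
      Matrix.one_mul, Matrix.zero_mul, zero_add]
  have hcong3 : Cong (fromBlocks a 0 0 S') (fromBlocks (a + cᴴ * S' * c) (cᴴ * S') (S' * c) S') :=
    ⟨w, hwu, hH3⟩
  have hherm3 := hcong3.herm ε hherm
  have hcS : ∀ s k, (cᴴ * S') s k = S' j k := by
    intro s k
    rw [Matrix.mul_apply]
    simp only [hc, conjTranspose_apply, of_apply]
    rw [Finset.sum_eq_single j]
    · simp
    · intro b _ hbj
      simp [hbj]
    · intro h; exact absurd (Finset.mem_univ j) h
  have hSc : ∀ k s, (S' * c) k s = S' k j := by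
    intro k s
    rw [Matrix.mul_apply]
    simp only [hc, of_apply]
    rw [Finset.sum_eq_single j]
    · simp
    · intro b _ hbj
      simp [hbj]
    · intro h; exact absurd (Finset.mem_univ j) h
  have ha3 : (a + cᴴ * S' * c) default default = a default default + S' j j := by
    rw [Matrix.add_apply, Matrix.mul_apply]
    congr 1
    rw [Finset.sum_eq_single j]
    · rw [hcS]
      simp [hc]
    · intro b _ hbj
      simp [hc, hbj]
    · intro h; exact absurd (Finset.mem_univ j) h
  have ha3u : IsUnit ((a + cᴴ * S' * c) default default) := by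
    rw [ha3]
    exact isUnit_add_of_mem_jacobson ha (hdiag j)
  have ha3u' : IsUnit (a + cᴴ * S' * c) := (isUnit_iff_of_unique _).mpr ha3u
  have hschur := cong_schur ε _ _ _ _ ha3u' hherm3
  refine ⟨a + cᴴ * S' * c, S' - S' * c * (a + cᴴ * S' * c)⁻¹ * (cᴴ * S'), hcong3.trans hschur,
    ha3u, Or.inr (Or.inr ⟨l, ?_⟩)⟩
  -- the diagonal entry at `l`
  set a₃ := a + cᴴ * S' * c with ha₃
  have hinv3 : a₃⁻¹ * a₃ = 1 :=
    Matrix.nonsing_inv_mul a₃ ((Matrix.isUnit_iff_isUnit_det a₃).mp ha3u')
  have hu' : a₃⁻¹ default default * a₃ default default = 1 := by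
    have := congrFun (congrFun hinv3 default) default
    rw [Matrix.mul_apply, Fintype.sum_unique, Matrix.one_apply_eq] at this
    exact this
  have hu'u : IsUnit (a₃⁻¹ default default) := IsUnit.of_mul_eq_one _ hu'
  have hentry : (S' - S' * c * a₃⁻¹ * (cᴴ * S')) l l =
      S' l l - S' l j * a₃⁻¹ default default * S' j l := by
    rw [Matrix.sub_apply, Matrix.mul_apply, Fintype.sum_unique, Matrix.mul_apply,
      Fintype.sum_unique, hSc, hcS]
  rw [hentry, herm_apply ε hS'herm j l]
  -- `ε * star t ≡ -t` modulo the radical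
  set t := S' j l with ht
  have h1 : ε * star t + t ∈ Ring.jacobson A := by
    have e : ε * star t + t = (ε + 1) * star t - (star t - t) := by ring
    rw [e]
    exact Ideal.sub_mem _ (Ideal.mul_mem_right _ _ hb) (htriv t)
  have hmain : IsUnit (t * a₃⁻¹ default default * t) := (htu.mul hu'u).mul htu
  intro hmem
  have e2 : t * a₃⁻¹ default default * t =
      (ε * star t + t) * a₃⁻¹ default default * t - S' l l +
        (S' l l - ε * star t * a₃⁻¹ default default * t) := by ring
  have h2 : t * a₃⁻¹ default default * t ∈ Ring.jacobson A := by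
    rw [e2]
    exact Ideal.add_mem _ (Ideal.sub_mem _
      (Ideal.mul_mem_right _ _ (Ideal.mul_mem_right _ _ h1)) (hdiag l)) hmem
  exact not_isUnit_of_mem_jacobson h2 hmain

include H1 H2 H3 in
/-- Main induction: an invertible `ε`-hermitian matrix satisfying `QCond` is congruent to a
diagonal matrix. -/
theorem exists_cong_diagonal [Nontrivial A] (hε : ε = 1 ∨ ε = -1) : ∀ (n : ℕ) (ι : Type)
    [Fintype ι] [DecidableEq ι], Fintype.card ι = n → ∀ h : Matrix ι ι A, IsUnit h →
      ε • hᴴ = h → (IsEmpty ι ∨ QCond ε h) → ∃ d : ι → A, Cong h (diagonal d) := by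
  intro n
  induction n with
  | zero =>
    intro ι _ _ hcard h _ _ _
    have : IsEmpty ι := Fintype.card_eq_zero_iff.mp hcard
    exact ⟨fun _ => 0, 1, isUnit_one, by ext i; exact isEmptyElim i⟩
  | succ n ih =>
    intro ι _ _ hcard h hu hh hQ
    have hne : Nonempty ι := Fintype.card_pos_iff.mp (by omega)
    have hQ' : QCond ε h := by
      rcases hQ with hQ | hQ
      · exact absurd hne (not_nonempty_iff.mpr hQ)
      · exact hQ
    obtain ⟨h₁, i₀, hc1, hunit⟩ := exists_cong_isUnit_diag ε H1 H3 h hu hh hQ'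
    have hu1 := hc1.isUnit hu
    have hh1 := hc1.herm ε hh
    -- reindex
    let e : ι ≃ {k // k = i₀} ⊕ {k // ¬ k = i₀} := (Equiv.sumCompl (fun k => k = i₀)).symm
    set H : Matrix ({k // k = i₀} ⊕ {k // ¬ k = i₀}) ({k // k = i₀} ⊕ {k // ¬ k = i₀}) A :=
      h₁.submatrix e.symm e.symm with hH
    have hHu : IsUnit H := (isUnit_submatrix_equiv e.symm e.symm).mpr hu1
    have hHh : ε • Hᴴ = H := by
      rw [hH, conjTranspose_submatrix]
      conv_rhs => rw [← hh1]
      rfl
    have hHb : H = fromBlocks H.toBlocks₁₁ H.toBlocks₁₂ H.toBlocks₂₁ H.toBlocks₂₂ :=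
      (fromBlocks_toBlocks H).symm
    have ha0 : IsUnit (H.toBlocks₁₁ default default) := hunit
    have hau : IsUnit H.toBlocks₁₁ := (isUnit_iff_of_unique _).mpr ha0
    rw [hHb] at hHh hHu
    have hschur := cong_schur ε _ _ _ _ hau hHh
    set S' := H.toBlocks₂₂ - H.toBlocks₂₁ * H.toBlocks₁₁⁻¹ * H.toBlocks₁₂ with hS'
    have hu2 := hschur.isUnit hHu
    have hh2 := hschur.herm ε hHh
    have hS'u : IsUnit S' := by
      rw [Matrix.isUnit_iff_isUnit_det _, det_fromBlocks_zero₂₁] at hu2
      rw [Matrix.isUnit_iff_isUnit_det S']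
      exact isUnit_of_mul_isUnit_right hu2
    have hcardT : Fintype.card {k // ¬ k = i₀} = n := by
      rw [Fintype.card_subtype_compl, Fintype.card_subtype_eq, hcard]
      omega
    -- arrange the condition on the complement
    obtain ⟨a', S'', hc2, ha'u, hS''Q⟩ : ∃ (a' : Matrix {k // k = i₀} {k // k = i₀} A)
        (S'' : Matrix {k // ¬ k = i₀} {k // ¬ k = i₀} A),
        Cong (fromBlocks H.toBlocks₁₁ 0 0 S') (fromBlocks a' 0 0 S'') ∧
          IsUnit (a' default default) ∧ (IsEmpty {k // ¬ k = i₀} ∨ QCond ε S'') := by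
      by_cases hT : IsEmpty {k // ¬ k = i₀} ∨ QCond ε S'
      · exact ⟨_, _, Cong.refl _, ha0, hT⟩
      · push Not at hT
        obtain ⟨hTne, hnQ⟩ := hT
        have hTne' : Nonempty {k // ¬ k = i₀} := hTne
        unfold QCond at hnQ
        push Not at hnQ
        obtain ⟨htriv, hb, hdiag⟩ := hnQ
        obtain ⟨a', S'', hc, hau', hQ''⟩ :=
          albert ε H2 H.toBlocks₁₁ S' ha0 hS'u hh2 htriv hb hdiag
        exact ⟨a', S'', hc, hau', Or.inr hQ''⟩
    have hu3 := hc2.isUnit hu2
    have hh3 := hc2.herm ε hh2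
    have hS''u : IsUnit S'' := by
      rw [Matrix.isUnit_iff_isUnit_det _, det_fromBlocks_zero₂₁] at hu3
      rw [Matrix.isUnit_iff_isUnit_det S'']
      exact isUnit_of_mul_isUnit_right hu3
    have hS''h : ε • S''ᴴ = S'' := (herm_fromBlocks ε _ _ _ _ hh3).2.1
    obtain ⟨d', hd'⟩ := ih {k // ¬ k = i₀} hcardT S'' hS''u hS''h hS''Q
    have hc3 : Cong (fromBlocks a' 0 0 S'') (fromBlocks a' 0 0 (diagonal d')) :=
      cong_fromBlocks_right a' hd'
    have hdiag : fromBlocks a' 0 0 (diagonal d') = diagonal (Sum.elim (fun s => a' s s) d') := by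
      rw [← fromBlocks_diagonal, ← eq_diagonal_of_unique a']
    rw [hdiag] at hc3
    have hcH : Cong H (diagonal (Sum.elim (fun s => a' s s) d')) := by
      rw [hHb]
      exact (hschur.trans hc2).trans hc3
    have hback := hcH.submatrix e
    have e1 : H.submatrix e e = h₁ := by
      rw [hH, submatrix_submatrix]
      ext i j
      simp
    rw [e1, submatrix_diagonal_equiv] at hback
    exact ⟨_, hc1.trans hback⟩

end steps

end matrixPart

section final

open Matrix

theorem det_eq_zero_of_alternating_odd {R : Type*} [CommRing R] {ι : Type*} [Fintype ι]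
    [DecidableEq ι] (M : Matrix ι ι R) (hd : ∀ i, M i i = 0) (hs : ∀ i j, M j i = -M i j)
    (hodd : Odd (Fintype.card ι)) : M.det = 0 := by
  rw [Matrix.det_apply]
  apply Finset.sum_ninvolution (fun σ : Equiv.Perm ι => σ⁻¹)
  · intro σ
    have h1 : ∏ i, M (σ⁻¹ i) i = ∏ j, M j (σ j) := by
      rw [← Equiv.prod_comp σ (fun i => M (σ⁻¹ i) i)]
      refine Finset.prod_congr rfl (fun j _ => ?_)
      simp
    have h2 : ∏ j, M j (σ j) = -∏ j, M (σ j) j := by
      have : ∀ j, M j (σ j) = -M (σ j) j := fun j => hs (σ j) j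
      simp_rw [this]
      rw [Finset.prod_neg, Finset.card_univ, hodd.neg_one_pow, neg_one_mul]
    rw [Equiv.Perm.sign_inv, h1, h2, smul_neg, add_neg_cancel]
  · intro σ hne hσ
    apply hne
    have hσ2 : σ ^ 2 ^ 1 = 1 := by
      rw [pow_one, sq]
      calc σ * σ = σ⁻¹ * σ := by rw [hσ]
        _ = 1 := inv_mul_cancel σ
    have : Fact (Nat.Prime 2) := ⟨Nat.prime_two⟩
    obtain ⟨a, ha⟩ := Equiv.Perm.exists_fixed_point_of_prime (p := 2) (n := 1)
      (fun h => (Nat.not_even_iff_odd.mpr hodd) (even_iff_two_dvd.mpr h)) hσ2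
    rw [Finset.prod_eq_zero (Finset.mem_univ a) (by rw [ha, hd]), smul_zero]
  · intro σ; exact Finset.mem_univ _
  · intro σ; exact inv_inv σ

variable {B : Type u} {A : Type v} [CommRing B] [CommRing A] [Algebra B A]
  (lam : A ≃+* A) (hlam : Function.Involutive lam) (hB : RInv.IsFixedRing B A lam) [IsLocalRing B]

/-- The star ring structure defined by an involution of a commutative ring. -/
@[reducible] def starRingOf : StarRing A where
  star := lam
  star_involutive := hlam
  star_mul a b := by rw [map_mul, mul_comm]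
  star_add := map_add lam

include hlam hB in
/-- Diagonalization of hermitian matrices (statement S15583). -/
theorem exists_diagonal (n : ℕ) (ε : A) (hε : ε = 1 ∨ ε = -1) (h : Matrix (Fin n) (Fin n) A)
    (hh : IsUnit h) (herm : ε • (h.map lam).transpose = h)
    (hcase : (∃ a : A, lam a - a ∉ Ring.jacobson A) ∨ ε + 1 ∉ Ring.jacobson A ∨ Odd n) :
    ∃ v : Matrix (Fin n) (Fin n) A, IsUnit v ∧
      ∃ d : Fin n → A, (v.map lam).transpose * h * v = Matrix.diagonal d := by
  rcases subsingleton_or_nontrivial A with hsub | hnt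
  · exact ⟨1, isUnit_one, fun _ => 0, Subsingleton.elim _ _⟩
  letI : StarRing A := starRingOf lam hlam
  have herm' : ε • hᴴ = h := herm
  have H1 : ∀ u : A, u = ε * star u → u ∉ Ring.jacobson A → IsUnit u :=
    fun u hu hJ => isUnit_of_symm lam hlam hB ε u hu hJ
  have H2 : (∀ a : A, star a - a ∈ Ring.jacobson A) → ∀ u : A, u ∉ Ring.jacobson A → IsUnit u :=
    fun htriv u hJ => isUnit_of_trivial lam hlam hB htriv u hJ
  have H3 : ∀ {ι : Type} [Fintype ι] (r g : ι → A), ∑ l, r l * g l = 1 →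
      ((∃ a : A, star a - a ∉ Ring.jacobson A) ∨ ε + 1 ∉ Ring.jacobson A) →
        ∃ (l : ι) (c : A), IsUnit (c * r l + ε * star (c * r l)) :=
    fun r g hrg hc => exists_trace_isUnit lam hlam hB ε hε r g hrg hc
  have hQ : QCond ε h := by
    by_cases ha : ∃ a : A, star a - a ∉ Ring.jacobson A
    · exact Or.inl ha
    by_cases hb : ε + 1 ∉ Ring.jacobson A
    · exact Or.inr (Or.inl hb)
    refine Or.inr (Or.inr ?_)
    push Not at ha hb
    have hodd : Odd n := by
      rcases hcase with h1 | h1 | h1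
      · obtain ⟨a, ha'⟩ := h1
        exact absurd (ha a) ha'
      · exact absurd hb h1
      · exact h1
    by_contra hcon
    push Not at hcon
    have hdet : (h.map (Ideal.Quotient.mk (Ring.jacobson A))).det = 0 := by
      apply det_eq_zero_of_alternating_odd
      · intro i
        rw [Matrix.map_apply]
        exact Ideal.Quotient.eq_zero_iff_mem.mpr (hcon i)
      · intro i j
        rw [Matrix.map_apply, Matrix.map_apply, herm_apply ε herm' i j, ← map_neg,
          Ideal.Quotient.eq, sub_neg_eq_add]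
        have e : ε * star (h i j) + h i j = (ε + 1) * star (h i j) - (star (h i j) - h i j) := by
          ring
        rw [e]
        exact Ideal.sub_mem _ (Ideal.mul_mem_right _ _ hb) (ha _)
      · rw [Fintype.card_fin]
        exact hodd
    have hdet' : h.det ∈ Ring.jacobson A := by
      rw [← Ideal.Quotient.eq_zero_iff_mem, RingHom.map_det]
      exact hdet
    exact not_isUnit_of_mem_jacobson hdet' ((Matrix.isUnit_iff_isUnit_det h).mp hh)
  obtain ⟨d, v, hv, e⟩ := exists_cong_diagonal ε H1 H3 H2 hε n (Fin n) (Fintype.card_fin n) h hh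
    herm' (Or.inr hQ)
  exact ⟨v, hv, d, e⟩

end final

end Groth.Agent.Lib.R2H7.HermDiag
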