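import Mathlib

/-!
# The Hermitian-type hypersurface `∑ (X_i Y_i^q - Y_i X_i^q)` over `𝔽_q`: curve computation

For `ξ = P + S (T e + e')` with `P, e, e'` rational vectors, we compute `F(ξ)` in any commutative
`k`-algebra of characteristic `p`.
-/

namespace Groth.Agent.Lib.R2H7.HermHyp

open Sum

variable {k : Type*} [Field k] [Fintype k] {ι : Type*} [Fintype ι]

/-- the standard alternating form on `k^(ι ⊕ ι)` -/
def Bk (x y : ι ⊕ ι → k) : k := ∑ i, (x (inl i) * y (inr i) - x (inr i) * y (inl i))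

theorem Bk_self (x : ι ⊕ ι → k) : Bk x x = 0 := by
  unfold Bk
  refine Finset.sum_eq_zero (fun i _ => ?_)
  ring

theorem Bk_swap (x y : ι ⊕ ι → k) : Bk x y = - Bk y x := by
  unfold Bk
  rw [← Finset.sum_neg_distrib]
  refine Finset.sum_congr rfl (fun i _ => ?_)
  ring

section curve

variable {D : Type*} [CommRing D] [Algebra k D] (p : ℕ) [Fact p.Prime] [CharP k p] [CharP D p]

include p in
theorem add_pow_card (a b : D) :
    (a + b) ^ Fintype.card k = a ^ Fintype.card k + b ^ Fintype.card k := by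
  obtain ⟨r, -, hq⟩ := FiniteField.card k p
  rw [hq]
  exact add_pow_char_pow a b p r

theorem alg_pow_card (a : k) :
    (algebraMap k D a) ^ Fintype.card k = algebraMap k D a := by
  rw [← map_pow, FiniteField.pow_card]

/-- the curve `ξ = P + S (T e + e')` -/
def xi (S T : D) (Pt e e' : ι ⊕ ι → k) (v : ι ⊕ ι) : D :=
  algebraMap k D (Pt v) + S * (T * algebraMap k D (e v) + algebraMap k D (e' v))

include p in
theorem xi_pow (S T : D) (Pt e e' : ι ⊕ ι → k) (v : ι ⊕ ι) :
    (xi S T Pt e e' v) ^ Fintype.card k =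
      algebraMap k D (Pt v) + S ^ Fintype.card k *
        (T ^ Fintype.card k * algebraMap k D (e v) + algebraMap k D (e' v)) := by
  unfold xi
  rw [add_pow_card p, mul_pow, add_pow_card p, mul_pow, alg_pow_card, alg_pow_card, alg_pow_card]

include p in
theorem F_xi (S T : D) (Pt e e' : ι ⊕ ι → k) :
    ∑ i, (xi S T Pt e e' (inl i) * (xi S T Pt e e' (inr i)) ^ Fintype.card k -
        xi S T Pt e e' (inr i) * (xi S T Pt e e' (inl i)) ^ Fintype.card k) =
      S ^ Fintype.card k * T ^ Fintype.card k * algebraMap k D (Bk Pt e) +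
      S ^ Fintype.card k * algebraMap k D (Bk Pt e') +
      S * T * algebraMap k D (Bk e Pt) + S * algebraMap k D (Bk e' Pt) +
      S ^ (Fintype.card k + 1) * T * algebraMap k D (Bk e e') +
      S ^ (Fintype.card k + 1) * T ^ Fintype.card k * algebraMap k D (Bk e' e) +
      algebraMap k D (Bk Pt Pt) +
      S ^ (Fintype.card k + 1) * T ^ (Fintype.card k + 1) * algebraMap k D (Bk e e) +
      S ^ (Fintype.card k + 1) * algebraMap k D (Bk e' e') := by
  simp only [xi_pow p]
  unfold Bk xi
  simp only [map_sum, map_sub, map_mul, Finset.mul_sum, ← Finset.sum_add_distrib]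
  refine Finset.sum_congr rfl (fun i _ => ?_)
  ring

include p in
theorem F_xi' (S T : D) (Pt e e' : ι ⊕ ι → k) (h1 : Bk e Pt = 0) (h2 : Bk e' Pt = 0) :
    ∑ i, (xi S T Pt e e' (inl i) * (xi S T Pt e e' (inr i)) ^ Fintype.card k -
        xi S T Pt e e' (inr i) * (xi S T Pt e e' (inl i)) ^ Fintype.card k) =
      S ^ (Fintype.card k + 1) * (T - T ^ Fintype.card k) * algebraMap k D (Bk e e') := by
  rw [F_xi p, Bk_self, Bk_self, Bk_self, Bk_swap Pt e, Bk_swap Pt e', h1, h2, Bk_swap e' e]
  simp only [map_zero, map_neg, neg_zero, mul_zero, add_zero]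
  ring

end curve

end Groth.Agent.Lib.R2H7.HermHyp
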