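import Mathlib
import Groth.Agent.Lib.R2H7ConormalCrit
import Groth.Agent.Lib.R2H7HermHypA

/-!
# No rational hyperplane section of `∑ (X_i Y_i^q - Y_i X_i^q) = 0` is smooth (`n ≥ 1`)

The cone over the hyperplane section `L = 0` is singular at the rational point
`P = (-c', c)` (where `L = ∑ c_i X_i + c'_i Y_i`), the point of tangency.
-/

namespace Groth.Agent.Lib.R2H7.HermHyp

open Sum MvPolynomial KaehlerDifferential

universe u

variable {k : Type u} [Field k] [Fintype k] {n : ℕ}

/-- the form `F` -/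
noncomputable def Fpoly (k : Type u) [Field k] [Fintype k] (n : ℕ) :
    MvPolynomial (Fin (n + 1) ⊕ Fin (n + 1)) k :=
  ∑ i : Fin (n + 1), (X (inl i) * X (inr i) ^ Fintype.card k - X (inr i) * X (inl i) ^ Fintype.card k)

/-- the linear form `L` -/
noncomputable def Lpoly (c : Fin (n + 1) ⊕ Fin (n + 1) → k) :
    MvPolynomial (Fin (n + 1) ⊕ Fin (n + 1)) k :=
  ∑ v, C (c v) * X v

/-- the point of tangency -/
def Pt (c : Fin (n + 1) ⊕ Fin (n + 1) → k) : Fin (n + 1) ⊕ Fin (n + 1) → k :=
  Sum.elim (fun i => - c (inr i)) (fun i => c (inl i))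

theorem Bk_Pt (c x : Fin (n + 1) ⊕ Fin (n + 1) → k) : Bk x (Pt c) = ∑ v, c v * x v := by
  unfold Bk Pt
  rw [Fintype.sum_sum_type, ← Finset.sum_add_distrib]
  refine Finset.sum_congr rfl (fun i _ => ?_)
  simp only [Sum.elim_inl, Sum.elim_inr]
  ring

theorem eval_Pt_L (c : Fin (n + 1) ⊕ Fin (n + 1) → k) : eval (Pt c) (Lpoly c) = 0 := by
  unfold Lpoly
  simp only [map_sum, map_mul, eval_C, eval_X]
  rw [← Bk_Pt, Bk_self]

theorem eval_Pt_F (c : Fin (n + 1) ⊕ Fin (n + 1) → k) : eval (Pt c) (Fpoly k n) = 0 := by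
  unfold Fpoly
  simp only [map_sum, map_sub, map_mul, map_pow, eval_X, FiniteField.pow_card]
  refine Finset.sum_eq_zero (fun i _ => ?_)
  ring

theorem exists_Pt_ne_zero (c : Fin (n + 1) ⊕ Fin (n + 1) → k) (hc : c ≠ 0) : ∃ w, Pt c w ≠ 0 := by
  have : ∃ v, c v ≠ 0 := by
    by_contra h
    apply hc
    funext v
    by_contra hv
    exact h ⟨v, hv⟩
  obtain ⟨v, hv⟩ := this
  rcases v with i | i
  · exact ⟨inr i, by simpa [Pt] using hv⟩
  · exact ⟨inl i, by simpa [Pt] using hv⟩

/-- two rational vectors in the hyperplane `L = 0` which are not orthogonal -/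
theorem exists_e (hn : 1 ≤ n) (c : Fin (n + 1) ⊕ Fin (n + 1) → k) (hc : c ≠ 0) :
    ∃ e e' : Fin (n + 1) ⊕ Fin (n + 1) → k, Bk e (Pt c) = 0 ∧ Bk e' (Pt c) = 0 ∧ Bk e e' ≠ 0 := by
  classical
  have : ∃ v, c v ≠ 0 := by
    by_contra h
    apply hc
    funext v
    by_contra hv
    exact h ⟨v, hv⟩
  obtain ⟨v0, hv0⟩ := this
  have : Nontrivial (Fin (n + 1)) := Fin.nontrivial_iff_two_le.mpr (by omega)
  rcases v0 with i0 | i0
  · obtain ⟨j, hj⟩ := exists_ne i0
    refine ⟨fun v => c (inl i0) * (if v = inl j then 1 else 0) - c (inl j) * (if v = inl i0 then 1 else 0),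
      fun v => c (inl i0) * (if v = inr j then 1 else 0) - c (inr j) * (if v = inl i0 then 1 else 0),
      ?_, ?_, ?_⟩
    · rw [Bk_Pt]
      simp only [mul_sub, Finset.sum_sub_distrib, mul_ite, mul_one, mul_zero, Finset.sum_ite_eq',
        Finset.mem_univ, if_true]
      ring
    · rw [Bk_Pt]
      simp only [mul_sub, Finset.sum_sub_distrib, mul_ite, mul_one, mul_zero, Finset.sum_ite_eq',
        Finset.mem_univ, if_true]
      ring
    · unfold Bk
      have hj' : i0 ≠ j := fun h => hj h.symm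
      rw [Finset.sum_eq_single j]
      · simp [hj, hj', hv0]
      · intro i _ hij
        simp [hij]
      · intro h
        exact absurd (Finset.mem_univ j) h
  · obtain ⟨j, hj⟩ := exists_ne i0
    refine ⟨fun v => c (inr i0) * (if v = inl j then 1 else 0) - c (inl j) * (if v = inr i0 then 1 else 0),
      fun v => c (inr i0) * (if v = inr j then 1 else 0) - c (inr j) * (if v = inr i0 then 1 else 0),
      ?_, ?_, ?_⟩
    · rw [Bk_Pt]
      simp only [mul_sub, Finset.sum_sub_distrib, mul_ite, mul_one, mul_zero, Finset.sum_ite_eq',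
        Finset.mem_univ, if_true]
      ring
    · rw [Bk_Pt]
      simp only [mul_sub, Finset.sum_sub_distrib, mul_ite, mul_one, mul_zero, Finset.sum_ite_eq',
        Finset.mem_univ, if_true]
      ring
    · unfold Bk
      have hj' : i0 ≠ j := fun h => hj h.symm
      rw [Finset.sum_eq_single j]
      · simp [hj, hj', hv0]
      · intro i _ hij
        simp [hij]
      · intro h
        exact absurd (Finset.mem_univ j) h

end Groth.Agent.Lib.R2H7.HermHyp
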