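import Mathlib
import Groth.Agent.Lib.R2H7HermHypB

namespace Groth.Agent.Lib.R2H7.HermHyp

open Sum MvPolynomial KaehlerDifferential

universe u

variable {k : Type u} [Field k] [Fintype k] {n : ℕ}

/-- in a module over a finite field `k`, the differential of a `q`-th power vanishes -/
theorem D_pow_card {S : Type*} [CommRing S] [Algebra k S] (z : S) :
    D k S (z ^ Fintype.card k) = 0 := by
  rw [Derivation.leibniz_pow, ← Nat.cast_smul_eq_nsmul k, FiniteField.cast_card_eq_zero, zero_smul]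

section main

variable (c : Fin (n + 1) ⊕ Fin (n + 1) → k) (w : Fin (n + 1) ⊕ Fin (n + 1))

local notation "σ" => (Fin (n + 1) ⊕ Fin (n + 1))
local notation "B₀" => MvPolynomial (Fin (n + 1) ⊕ Fin (n + 1)) k
local notation "S₀" => Localization.Away (X w : MvPolynomial (Fin (n + 1) ⊕ Fin (n + 1)) k)

/-- evaluation at the point of tangency on the localization -/
noncomputable def ev (hw : Pt c w ≠ 0) : S₀ →+* k :=
  IsLocalization.Away.lift (X w : B₀) (g := (eval (Pt c) : B₀ →+* k))
    (by rw [eval_X]; exact isUnit_iff_ne_zero.mpr hw)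

theorem ev_algebraMap (hw : Pt c w ≠ 0) (f : B₀) :
    ev c w hw (algebraMap B₀ S₀ f) = eval (Pt c) f := by
  unfold ev
  rw [IsLocalization.Away.lift_eq]

theorem ev_algebraMap_k (hw : Pt c w ≠ 0) (a : k) :
    ev c w hw (algebraMap k S₀ a) = a := by
  rw [IsScalarTower.algebraMap_apply k B₀ S₀, ev_algebraMap, MvPolynomial.algebraMap_eq, eval_C]

theorem D_diff_mem (hw : Pt c w ≠ 0) :
    D k S₀ (algebraMap B₀ S₀ (Fpoly k n) - algebraMap B₀ S₀ (Lpoly c)) ∈
      RingHom.ker (ev c w hw) • (⊤ : Submodule S₀ Ω[S₀⁄k]) := by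
  have hDF : D k S₀ (algebraMap B₀ S₀ (Fpoly k n)) =
      ∑ i : Fin (n + 1), ((algebraMap B₀ S₀ (X (inr i))) ^ Fintype.card k •
          D k S₀ (algebraMap B₀ S₀ (X (inl i))) -
        (algebraMap B₀ S₀ (X (inl i))) ^ Fintype.card k •
          D k S₀ (algebraMap B₀ S₀ (X (inr i)))) := by
    unfold Fpoly
    rw [map_sum, map_sum]
    refine Finset.sum_congr rfl (fun i _ => ?_)
    rw [map_sub, map_mul, map_mul, map_pow, map_pow, map_sub, Derivation.leibniz,
      Derivation.leibniz, D_pow_card, D_pow_card, smul_zero, smul_zero, zero_add, zero_add]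
  have hDL : D k S₀ (algebraMap B₀ S₀ (Lpoly c)) =
      ∑ i : Fin (n + 1), (algebraMap k S₀ (c (inl i)) • D k S₀ (algebraMap B₀ S₀ (X (inl i))) +
        algebraMap k S₀ (c (inr i)) • D k S₀ (algebraMap B₀ S₀ (X (inr i)))) := by
    unfold Lpoly
    rw [map_sum, map_sum, Fintype.sum_sum_type, ← Finset.sum_add_distrib]
    refine Finset.sum_congr rfl (fun i _ => ?_)
    have hC : ∀ a : k, algebraMap B₀ S₀ (C a) = algebraMap k S₀ a := by
      intro a
      rw [IsScalarTower.algebraMap_apply k B₀ S₀, MvPolynomial.algebraMap_eq]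
    have hterm : ∀ v, D k S₀ (algebraMap B₀ S₀ (C (c v) * X v)) =
        algebraMap k S₀ (c v) • D k S₀ (algebraMap B₀ S₀ (X v)) := by
      intro v
      rw [map_mul (algebraMap B₀ S₀), hC, Derivation.leibniz, Derivation.map_algebraMap,
        smul_zero, add_zero]
    rw [hterm, hterm]
  rw [map_sub, hDF, hDL, ← Finset.sum_sub_distrib]
  refine Submodule.sum_mem _ (fun i _ => ?_)
  have hre : ((algebraMap B₀ S₀ (X (inr i))) ^ Fintype.card k •
          D k S₀ (algebraMap B₀ S₀ (X (inl i))) -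
        (algebraMap B₀ S₀ (X (inl i))) ^ Fintype.card k •
          D k S₀ (algebraMap B₀ S₀ (X (inr i)))) -
      (algebraMap k S₀ (c (inl i)) • D k S₀ (algebraMap B₀ S₀ (X (inl i))) +
        algebraMap k S₀ (c (inr i)) • D k S₀ (algebraMap B₀ S₀ (X (inr i)))) =
      ((algebraMap B₀ S₀ (X (inr i))) ^ Fintype.card k - algebraMap k S₀ (c (inl i))) •
          D k S₀ (algebraMap B₀ S₀ (X (inl i))) +
      (- (algebraMap B₀ S₀ (X (inl i))) ^ Fintype.card k - algebraMap k S₀ (c (inr i))) •
          D k S₀ (algebraMap B₀ S₀ (X (inr i))) := by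
    simp only [sub_smul, neg_smul]
    abel
  rw [hre]
  refine Submodule.add_mem _ ?_ ?_
  · refine Submodule.smul_mem_smul ?_ Submodule.mem_top
    rw [RingHom.mem_ker, map_sub, map_pow, ev_algebraMap, ev_algebraMap_k, eval_X]
    simp [Pt, FiniteField.pow_card]
  · refine Submodule.smul_mem_smul ?_ Submodule.mem_top
    rw [RingHom.mem_ker, map_sub, map_neg, map_pow, ev_algebraMap, ev_algebraMap_k, eval_X]
    simp [Pt, FiniteField.pow_card]

end main

end Groth.Agent.Lib.R2H7.HermHyp
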