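import Mathlib
import Groth.Agent.Lib.R2H7HermHypC

namespace Groth.Agent.Lib.R2H7.HermHyp

open Sum MvPolynomial KaehlerDifferential

universe u

variable {k : Type u} [Field k] [Fintype k] {n : ℕ}

section psi

variable (c : Fin (n + 1) ⊕ Fin (n + 1) → k) (w : Fin (n + 1) ⊕ Fin (n + 1))
  (e e' : Fin (n + 1) ⊕ Fin (n + 1) → k)

local notation "B₀" => MvPolynomial (Fin (n + 1) ⊕ Fin (n + 1)) k
local notation "S₀" => Localization.Away (X w : MvPolynomial (Fin (n + 1) ⊕ Fin (n + 1)) k)
local notation "D₀" => PowerSeries (Polynomial k)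

/-- the curve through the point of tangency -/
noncomputable def xi0 : Fin (n + 1) ⊕ Fin (n + 1) → D₀ :=
  xi (PowerSeries.X : D₀) (PowerSeries.C (Polynomial.X : Polynomial k)) (Pt c) e e'

/-- evaluation along the curve -/
noncomputable def psi0 : B₀ →+* D₀ :=
  eval₂Hom (algebraMap k D₀) (xi0 c e e')

theorem constantCoeff_xi0 (v : Fin (n + 1) ⊕ Fin (n + 1)) :
    PowerSeries.constantCoeff (xi0 c e e' v) = Polynomial.C (Pt c v) := by
  unfold xi0 xi
  rw [map_add, map_mul, PowerSeries.constantCoeff_X, zero_mul, add_zero,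
    PowerSeries.algebraMap_apply, PowerSeries.constantCoeff_C]
  rfl

theorem constantCoeff_psi0 (f : B₀) :
    PowerSeries.constantCoeff (psi0 c e e' f) = Polynomial.C (eval (Pt c) f) := by
  have h : (PowerSeries.constantCoeff (R := Polynomial k)).comp (psi0 c e e') =
      (Polynomial.C : k →+* Polynomial k).comp (eval (Pt c) : B₀ →+* k) := by
    apply MvPolynomial.ringHom_ext
    · intro a
      simp only [psi0, RingHom.comp_apply, eval₂Hom_C, eval_C]
      rw [PowerSeries.algebraMap_apply, PowerSeries.constantCoeff_C]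
      rfl
    · intro v
      simp only [psi0, RingHom.comp_apply, eval₂Hom_X', eval_X]
      exact constantCoeff_xi0 c e e' v
  exact RingHom.congr_fun h f

theorem isUnit_psi0_X (hw : Pt c w ≠ 0) : IsUnit (psi0 c e e' (X w)) := by
  rw [PowerSeries.isUnit_iff_constantCoeff, constantCoeff_psi0, eval_X, Polynomial.isUnit_C]
  exact isUnit_iff_ne_zero.mpr hw

/-- evaluation along the curve on the localization -/
noncomputable def psi (hw : Pt c w ≠ 0) : S₀ →+* D₀ :=
  IsLocalization.Away.lift (X w : B₀) (g := psi0 c e e') (isUnit_psi0_X c w e e' hw)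

theorem psi_algebraMap (hw : Pt c w ≠ 0) (f : B₀) :
    psi c w e e' hw (algebraMap B₀ S₀ f) = psi0 c e e' f := by
  unfold psi
  rw [IsLocalization.Away.lift_eq]

theorem constantCoeff_psi (hw : Pt c w ≠ 0) (z : S₀) :
    PowerSeries.constantCoeff (psi c w e e' hw z) = Polynomial.C (ev c w hw z) := by
  have h : (PowerSeries.constantCoeff (R := Polynomial k)).comp (psi c w e e' hw) =
      (Polynomial.C : k →+* Polynomial k).comp (ev c w hw) := by
    apply IsLocalization.ringHom_ext (Submonoid.powers (X w : B₀))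
    ext f
    · simp only [RingHom.comp_apply]
      rw [psi_algebraMap, constantCoeff_psi0, ev_algebraMap]
    · simp only [RingHom.comp_apply]
      rw [psi_algebraMap, constantCoeff_psi0, ev_algebraMap]
  exact RingHom.congr_fun h z

theorem psi0_L (h1 : Bk e (Pt c) = 0) (h2 : Bk e' (Pt c) = 0) : psi0 c e e' (Lpoly c) = 0 := by
  unfold Lpoly psi0
  simp only [map_sum, map_mul, eval₂Hom_C, eval₂Hom_X']
  have hterm : ∀ v, algebraMap k D₀ (c v) * xi0 c e e' v =
      algebraMap k D₀ (c v * Pt c v) + PowerSeries.X * (PowerSeries.C (Polynomial.X : Polynomial k) *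
        algebraMap k D₀ (c v * e v) + algebraMap k D₀ (c v * e' v)) := by
    intro v
    unfold xi0 xi
    simp only [map_mul]
    ring
  rw [Finset.sum_congr rfl (fun v _ => hterm v), Finset.sum_add_distrib, ← Finset.mul_sum,
    Finset.sum_add_distrib, ← Finset.mul_sum, ← map_sum, ← map_sum, ← map_sum, ← Bk_Pt, ← Bk_Pt,
    ← Bk_Pt, Bk_self, h1, h2]
  simp

theorem psi0_F (p : ℕ) [Fact p.Prime] [CharP k p] (h1 : Bk e (Pt c) = 0) (h2 : Bk e' (Pt c) = 0) :
    psi0 c e e' (Fpoly k n) =
      PowerSeries.X ^ (Fintype.card k + 1) *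
        (PowerSeries.C (Polynomial.X : Polynomial k) -
          PowerSeries.C (Polynomial.X : Polynomial k) ^ Fintype.card k) *
        algebraMap k D₀ (Bk e e') := by
  haveI : CharP D₀ p := charP_of_injective_algebraMap (algebraMap k D₀).injective p
  unfold Fpoly psi0
  simp only [map_sum, map_sub, map_mul, map_pow, eval₂Hom_X']
  exact F_xi' p _ _ (Pt c) e e' h1 h2

theorem psi0_F_ne_zero (h1 : Bk e (Pt c) = 0) (h2 : Bk e' (Pt c) = 0) (h3 : Bk e e' ≠ 0) :
    psi0 c e e' (Fpoly k n) ≠ 0 := by
  obtain ⟨p, hp⟩ := CharP.exists k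
  haveI : Fact p.Prime := ⟨by
    rcases CharP.char_is_prime_or_zero k p with h | h
    · exact h
    · exfalso
      subst h
      haveI : CharZero k := CharP.charP_to_charZero k
      exact not_finite k⟩
  rw [psi0_F c e e' p h1 h2]
  refine mul_ne_zero (mul_ne_zero (pow_ne_zero _ PowerSeries.X_ne_zero) ?_) ?_
  · rw [← map_pow, ← map_sub]
    intro h
    have h' := PowerSeries.C_injective (h.trans (map_zero _).symm)
    have := FiniteField.X_pow_card_sub_X_ne_zero k (Fintype.one_lt_card (α := k))
    apply this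
    rw [← neg_sub, h', neg_zero]
  · exact (map_ne_zero_iff _ (algebraMap k D₀).injective).mpr h3

end psi

end Groth.Agent.Lib.R2H7.HermHyp
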