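import Mathlib
import Groth.Agent.Lib.R2H7HermHypD

namespace Groth.Agent.Lib.R2H7.HermHyp

open Sum MvPolynomial KaehlerDifferential

universe u

variable {k : Type u} [Field k] [Fintype k] {n : ℕ}

section main

variable (c : Fin (n + 1) ⊕ Fin (n + 1) → k) (w : Fin (n + 1) ⊕ Fin (n + 1))

local notation "B₀" => MvPolynomial (Fin (n + 1) ⊕ Fin (n + 1)) k
local notation "S₀" => Localization.Away (X w : MvPolynomial (Fin (n + 1) ⊕ Fin (n + 1)) k)
local notation "D₀" => PowerSeries (Polynomial k)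
local notation "J" => (Ideal.span ({Fpoly k n, Lpoly c} : Set (MvPolynomial (Fin (n + 1) ⊕ Fin (n + 1)) k)))
local notation "BB" => Localization.Away (Ideal.Quotient.mk
  (Ideal.span ({Fpoly k n, Lpoly c} : Set (MvPolynomial (Fin (n + 1) ⊕ Fin (n + 1)) k))) (X w))

theorem hy : Submonoid.powers (X w : B₀) ≤
    Submonoid.comap (Ideal.Quotient.mk J) (Submonoid.powers (Ideal.Quotient.mk J (X w))) := by
  rintro _ ⟨j, rfl⟩
  exact ⟨j, by simp⟩

/-- the canonical map from the localized polynomial ring -/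
noncomputable def toB : S₀ →+* BB :=
  IsLocalization.map BB (Ideal.Quotient.mk J) (hy c w)

theorem toB_algebraMap (f : B₀) :
    toB c w (algebraMap B₀ S₀ f) = algebraMap (B₀ ⧸ J) BB (Ideal.Quotient.mk J f) := by
  unfold toB
  rw [IsLocalization.map_eq]

theorem toB_surjective : Function.Surjective (toB c w) := by
  intro z
  obtain ⟨a, ⟨_, j, rfl⟩, rfl⟩ := IsLocalization.exists_mk'_eq
    (Submonoid.powers (Ideal.Quotient.mk J (X w))) z
  obtain ⟨a, rfl⟩ := Ideal.Quotient.mk_surjective a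
  refine ⟨IsLocalization.mk' S₀ a (⟨(X w) ^ j, j, rfl⟩ : Submonoid.powers (X w : B₀)), ?_⟩
  unfold toB
  rw [IsLocalization.map_mk']
  congr 1

theorem ker_toB : RingHom.ker (toB c w) =
    Ideal.span {algebraMap B₀ S₀ (Fpoly k n), algebraMap B₀ S₀ (Lpoly c)} := by
  have h := IsLocalization.ker_map (S := S₀) BB (M := Submonoid.powers (X w : B₀))
    (T := Submonoid.powers (Ideal.Quotient.mk J (X w))) (Ideal.Quotient.mk J)
    (by rw [Submonoid.map_powers])
  rw [Ideal.mk_ker, Ideal.map_span, Set.image_pair] at h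
  exact h

theorem not_formallySmooth (hn : 1 ≤ n) (hc : c ≠ 0) (hw : Pt c w ≠ 0) :
    ¬ Algebra.FormallySmooth k BB := by
  intro hA
  obtain ⟨e, e', h1, h2, h3⟩ := exists_e hn c hc
  letI alg : Algebra S₀ BB := (toB c w).toAlgebra
  have halg : ∀ z, algebraMap S₀ BB z = toB c w z := fun _ => rfl
  haveI : IsScalarTower k S₀ BB := IsScalarTower.of_algebraMap_eq (fun a => by
    rw [halg, IsScalarTower.algebraMap_apply k B₀ S₀, toB_algebraMap,
      IsScalarTower.algebraMap_apply k (B₀ ⧸ J) BB]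
    rfl)
  have hf : Function.Surjective (algebraMap S₀ BB) := toB_surjective c w
  have hker : RingHom.ker (algebraMap S₀ BB) =
      Ideal.span {algebraMap B₀ S₀ (Fpoly k n), algebraMap B₀ S₀ (Lpoly c)} := ker_toB c w
  have hF𝔪 : algebraMap B₀ S₀ (Fpoly k n) ∈ RingHom.ker (ev c w hw) := by
    rw [RingHom.mem_ker, ev_algebraMap, eval_Pt_F]
  have hL𝔪 : algebraMap B₀ S₀ (Lpoly c) ∈ RingHom.ker (ev c w hw) := by
    rw [RingHom.mem_ker, ev_algebraMap, eval_Pt_L]
  have hI : RingHom.ker (algebraMap S₀ BB) ≤ RingHom.ker (ev c w hw) := by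
    rw [hker, Ideal.span_le]
    rintro x (rfl | rfl)
    · exact hF𝔪
    · exact hL𝔪
  have hg : algebraMap B₀ S₀ (Fpoly k n) - algebraMap B₀ S₀ (Lpoly c) ∈
      RingHom.ker (algebraMap S₀ BB) := by
    rw [hker]
    exact Ideal.sub_mem _ (Ideal.subset_span (by simp)) (Ideal.subset_span (by simp))
  have hmem := Groth.Agent.Lib.R2H7.ConormalCrit.mem_mul_ker_of_D_mem (R := k) hf hA
    (RingHom.ker (ev c w hw)) hI _ hg (D_diff_mem c w hw)
  rw [hker, Ideal.span_insert, Ideal.mul_sup] at hmem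
  obtain ⟨y1, hy1, y2, hy2, hsum⟩ := Submodule.mem_sup.mp hmem
  obtain ⟨α, hα, rfl⟩ := Ideal.mem_mul_span_singleton.mp hy1
  obtain ⟨β, hβ, rfl⟩ := Ideal.mem_mul_span_singleton.mp hy2
  -- apply ψ
  have hψ := congrArg (psi c w e e' hw) hsum
  rw [map_add, map_mul, map_mul, map_sub, psi_algebraMap, psi_algebraMap, psi0_L c e e' h1 h2,
    mul_zero, add_zero, sub_zero] at hψ
  have hne := psi0_F_ne_zero c e e' h1 h2 h3
  have h1α : (1 - psi c w e e' hw α) ≠ 0 := by
    intro h
    have hcc := congrArg PowerSeries.constantCoeff h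
    rw [map_sub, map_one, constantCoeff_psi, RingHom.mem_ker.mp hα, map_zero, map_zero,
      sub_zero] at hcc
    exact one_ne_zero hcc
  have : (1 - psi c w e e' hw α) * psi0 c e e' (Fpoly k n) = 0 := by
    rw [sub_mul, one_mul, hψ, sub_self]
  exact mul_ne_zero h1α hne this

end main

end Groth.Agent.Lib.R2H7.HermHyp
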