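import Mathlib
import Groth.Agent.Lib.R2H7HermDiag

/-!
# Skew-hermitian forms over a ring with involution trivial modulo the radical

An invertible skew-hermitian matrix (with `2` invertible and `lam ≡ id` modulo the Jacobson radical)
has even size and is congruent to a block sum of `2 × 2` blocks congruent to `[[0,1],[-1,0]]`
modulo the radical.
-/

set_option autoImplicit false
universe u v

namespace Groth.Agent.Lib.R2H7.HermSkew

open Groth.Agent.Lib.Helper15.QuadEtale Groth.Agent.Lib.R2H7.HermDiag Matrix

section matrixPart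

variable {A : Type v} [CommRing A] [StarRing A]

/-- Congruence by a permutation of the basis. -/
theorem cong_perm {ι : Type*} [Fintype ι] [DecidableEq ι] (h : Matrix ι ι A) (σ : ι ≃ ι) :
    Cong h (h.submatrix σ σ) := by
  refine ⟨(1 : Matrix ι ι A).submatrix (Equiv.refl ι) σ,
    (isUnit_submatrix_equiv (Equiv.refl ι) σ).mpr isUnit_one, ?_⟩
  rw [conjTranspose_submatrix, conjTranspose_one, Matrix.mul_assoc, mul_submatrix_one,
    one_submatrix_mul, submatrix_submatrix]
  rfl

/-- Extending a congruence on the upper-left block. -/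
theorem cong_fromBlocks_left {m n : Type*} [Fintype m] [DecidableEq m] [Fintype n] [DecidableEq n]
    {a a' : Matrix m m A} (S : Matrix n n A) (hc : Cong a a') :
    Cong (fromBlocks a 0 0 S) (fromBlocks a' 0 0 S) := by
  obtain ⟨v', hv', e⟩ := hc
  refine ⟨fromBlocks v' 0 0 1, ?_, ?_⟩
  · rw [Matrix.isUnit_iff_isUnit_det (fromBlocks v' 0 0 1), det_fromBlocks_zero₂₁, det_one, mul_one,
      ← Matrix.isUnit_iff_isUnit_det v']
    exact hv'
  · rw [fromBlocks_conjTranspose, fromBlocks_multiply, fromBlocks_multiply]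
    simp only [conjTranspose_one, conjTranspose_zero, Matrix.mul_one, Matrix.mul_zero, add_zero,
      Matrix.one_mul, Matrix.zero_mul, zero_add, e]

/-- The block form of the statement. -/
def BlockForm {n : ℕ} (K : Matrix (Fin n) (Fin n) A) : Prop :=
  ∀ i j : Fin n,
    (i.val / 2 ≠ j.val / 2 → K i j = 0) ∧
    (i.val / 2 = j.val / 2 → (Even i.val ↔ Even j.val) → K i j ∈ Ring.jacobson A) ∧
    (i.val / 2 = j.val / 2 → Even i.val → ¬ Even j.val → K i j - 1 ∈ Ring.jacobson A) ∧
    (i.val / 2 = j.val / 2 → ¬ Even i.val → Even j.val → K i j + 1 ∈ Ring.jacobson A)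

theorem skew_main [Nontrivial A] (H2 : ∀ u : A, u ∉ Ring.jacobson A → IsUnit u)
    (h2 : IsUnit (2 : A)) (htriv : ∀ x : A, star x - x ∈ Ring.jacobson A) :
    ∀ (n : ℕ) (h : Matrix (Fin n) (Fin n) A), IsUnit h → (-1 : A) • hᴴ = h →
      Even n ∧ ∃ K : Matrix (Fin n) (Fin n) A, Cong h K ∧ BlockForm K := by
  intro n
  induction n using Nat.strong_induction_on with
  | _ n ih =>
  intro h hu hh
  have hdiagJ : ∀ (k : ℕ) (g : Matrix (Fin k) (Fin k) A), (-1 : A) • gᴴ = g →
      ∀ i, g i i ∈ Ring.jacobson A := by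
    intro k g hg i
    obtain ⟨c, hc⟩ := h2.exists_left_inv
    have h1 := herm_apply (-1 : A) hg i i
    have h3 : (2 : A) * g i i = -(star (g i i) - g i i) := by
      have : star (g i i) = -g i i := by linear_combination h1
      rw [this]
      ring
    have h4 : g i i = c * ((2 : A) * g i i) := by
      rw [← mul_assoc, hc, one_mul]
    rw [h4, h3]
    exact Ideal.mul_mem_left _ _ (Ideal.neg_mem_iff _ |>.mpr (htriv _))
  rcases n with _ | _ | m
  · exact ⟨⟨0, rfl⟩, h, Cong.refl h, fun i => i.elim0⟩
  · exfalso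
    have h1 : h.det = h 0 0 := Matrix.det_fin_one h
    have h3 : IsUnit (h 0 0) := by
      rw [← h1]
      exact (Matrix.isUnit_iff_isUnit_det h).mp hu
    exact not_isUnit_of_mem_jacobson (hdiagJ _ h hh 0) h3
  · -- the row of index `m` has an entry outside the radical
    set i₀ : Fin (m + 2) := Fin.castSucc (Fin.last m) with hi₀
    set i₁ : Fin (m + 2) := Fin.last (m + 1) with hi₁
    have hi₀v : i₀.val = m := rfl
    have hi₁v : i₁.val = m + 1 := rfl
    obtain ⟨j, hj⟩ : ∃ j, h i₀ j ∉ Ring.jacobson A := by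
      by_contra hcon
      push Not at hcon
      have hinv : h * h⁻¹ = 1 := Matrix.mul_nonsing_inv h ((Matrix.isUnit_iff_isUnit_det h).mp hu)
      have h1 := congrFun (congrFun hinv i₀) i₀
      rw [Matrix.mul_apply, Matrix.one_apply_eq] at h1
      have h3 : (1 : A) ∈ Ring.jacobson A := by
        rw [← h1]
        exact Ideal.sum_mem _ (fun k _ => Ideal.mul_mem_right _ _ (hcon k))
      exact not_isUnit_of_mem_jacobson h3 isUnit_one
    have hji₀ : j ≠ i₀ := by
      rintro rfl
      exact hj (hdiagJ _ h hh _)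
    have hi₁i₀ : i₁ ≠ i₀ := by
      intro hcon
      have := congrArg Fin.val hcon
      rw [hi₀v, hi₁v] at this
      omega
    set σ : Fin (m + 2) ≃ Fin (m + 2) := Equiv.swap i₁ j with hσ
    have hσi₀ : σ i₀ = i₀ := Equiv.swap_apply_of_ne_of_ne hi₁i₀.symm hji₀.symm
    have hσi₁ : σ i₁ = j := Equiv.swap_apply_left i₁ j
    set h₁ := h.submatrix σ σ with hh₁
    have hc1 : Cong h h₁ := cong_perm h σ
    have hu1 := hc1.isUnit hu
    have hherm1 := hc1.herm (-1 : A) hh
    have ht : h₁ i₀ i₁ = h i₀ j := by
      rw [hh₁, submatrix_apply, hσi₀, hσi₁]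
    -- blocks
    let e' : Fin 2 ⊕ Fin m ≃ Fin (m + 2) := (Equiv.sumComm (Fin 2) (Fin m)).trans finSumFinEquiv
    have he'l : ∀ b : Fin 2, (e' (Sum.inl b)).val = m + b.val := by
      intro b
      simp [e']
    have he'r : ∀ k : Fin m, (e' (Sum.inr k)).val = k.val := by
      intro k
      simp [e']
    set H := h₁.submatrix e' e' with hH
    have hHu : IsUnit H := (isUnit_submatrix_equiv e' e').mpr hu1
    have hHh : (-1 : A) • Hᴴ = H := by
      rw [hH, conjTranspose_submatrix]
      conv_rhs => rw [← hherm1]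
      rfl
    have hHb : H = fromBlocks H.toBlocks₁₁ H.toBlocks₁₂ H.toBlocks₂₁ H.toBlocks₂₂ :=
      (fromBlocks_toBlocks H).symm
    set a := H.toBlocks₁₁ with ha
    have e0 : e' (Sum.inl 0) = i₀ := Fin.ext (by rw [he'l, hi₀v]; rfl)
    have e1 : e' (Sum.inl 1) = i₁ := Fin.ext (by rw [he'l, hi₁v]; rfl)
    have ha01 : a 0 1 = h i₀ j := by
      rw [← ht]
      change h₁ (e' (Sum.inl 0)) (e' (Sum.inl 1)) = _
      rw [e0, e1]
    have haherm : (-1 : A) • aᴴ = a := by
      rw [hHb] at hHh
      exact (herm_fromBlocks (-1 : A) _ _ _ _ hHh).2.2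
    have ha00 : a 0 0 ∈ Ring.jacobson A := hdiagJ _ a haherm 0
    have ha11 : a 1 1 ∈ Ring.jacobson A := hdiagJ _ a haherm 1
    have htu : IsUnit (a 0 1) := by
      rw [ha01]
      exact H2 _ hj
    have ha10 : a 1 0 = -star (a 0 1) := by
      rw [herm_apply (-1 : A) haherm 0 1]
      ring
    have hau : IsUnit a := by
      rw [Matrix.isUnit_iff_isUnit_det a, Matrix.det_fin_two, ha10]
      have e : a 0 0 * a 1 1 - a 0 1 * -star (a 0 1) = a 0 1 * star (a 0 1) + a 0 0 * a 1 1 := by
        ring
      rw [e]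
      exact isUnit_add_of_mem_jacobson (htu.mul htu.star) (Ideal.mul_mem_right _ _ ha00)
    rw [hHb] at hHh hHu
    have hschur := cong_schur (-1 : A) _ _ _ _ hau hHh
    set S' := H.toBlocks₂₂ - H.toBlocks₂₁ * a⁻¹ * H.toBlocks₁₂ with hS'
    have hu2 := hschur.isUnit hHu
    have hh2 := hschur.herm (-1 : A) hHh
    have hS'u : IsUnit S' := by
      rw [Matrix.isUnit_iff_isUnit_det _, det_fromBlocks_zero₂₁] at hu2
      rw [Matrix.isUnit_iff_isUnit_det S']
      exact isUnit_of_mul_isUnit_right hu2
    have hS'h : (-1 : A) • S'ᴴ = S' := (herm_fromBlocks (-1 : A) _ _ _ _ hh2).2.1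
    obtain ⟨hmeven, K', hcK', hK'⟩ := ih m (by omega) S' hS'u hS'h
    -- normalise the 2 × 2 block
    obtain ⟨ti, hti⟩ := htu.exists_right_inv
    set s : Matrix (Fin 2) (Fin 2) A := diagonal ![1, ti] with hs
    have hsu : IsUnit s := by
      rw [Matrix.isUnit_iff_isUnit_det s, hs, det_diagonal, Fin.prod_univ_two]
      simp only [Matrix.cons_val_zero, Matrix.cons_val_one, one_mul]
      exact IsUnit.of_mul_eq_one _ (by rw [mul_comm]; exact hti)
    set a' := sᴴ * a * s with ha'
    have hca : Cong a a' := ⟨s, hsu, rfl⟩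
    have ha'entry : ∀ b b' : Fin 2, a' b b' = star (![1, ti] b) * a b b' * ![1, ti] b' := by
      intro b b'
      rw [ha', hs, diagonal_conjTranspose, Matrix.mul_assoc, diagonal_mul, mul_diagonal]
      simp only [Pi.star_apply]
      ring
    have ha'00 : a' 0 0 ∈ Ring.jacobson A := by
      rw [ha'entry]
      exact Ideal.mul_mem_right _ _ (Ideal.mul_mem_left _ _ ha00)
    have ha'11 : a' 1 1 ∈ Ring.jacobson A := by
      rw [ha'entry]
      exact Ideal.mul_mem_right _ _ (Ideal.mul_mem_left _ _ ha11)
    have ha'01 : a' 0 1 = 1 := by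
      rw [ha'entry]
      simp only [Matrix.cons_val_zero, Matrix.cons_val_one, star_one, one_mul]
      exact hti
    have ha'10 : a' 1 0 = -1 := by
      rw [ha'entry, ha10]
      simp only [Matrix.cons_val_zero, Matrix.cons_val_one, mul_one]
      rw [mul_neg, ← star_mul, hti, star_one]
    -- assemble
    have hcH : Cong H (fromBlocks a' 0 0 K') := by
      rw [hHb]
      exact (hschur.trans (cong_fromBlocks_right a hcK')).trans (cong_fromBlocks_left K' hca)
    have hback := hcH.submatrix e'.symm
    have e2 : H.submatrix e'.symm e'.symm = h₁ := by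
      rw [hH, submatrix_submatrix]
      ext i j
      simp
    rw [e2] at hback
    refine ⟨by
      obtain ⟨c, hc⟩ := hmeven
      exact ⟨c + 1, by omega⟩, (fromBlocks a' 0 0 K').submatrix e'.symm e'.symm,
      hc1.trans hback, ?_⟩
    obtain ⟨c, hc⟩ := hmeven
    intro i j
    obtain ⟨x, rfl⟩ := e'.surjective i
    obtain ⟨y, rfl⟩ := e'.surjective j
    rw [submatrix_apply, Equiv.symm_apply_apply, Equiv.symm_apply_apply]
    rcases x with b | k <;> rcases y with b' | k'
    · rw [fromBlocks_apply₁₁, he'l, he'l]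
      have hb : b.val < 2 := b.2
      have hb' : b'.val < 2 := b'.2
      refine ⟨fun hne => absurd (by omega) hne, ?_, ?_, ?_⟩
      · intro _ hpar
        fin_cases b <;> fin_cases b'
        · exact ha'00
        · exfalso
          have h1 : Even m := ⟨c, hc⟩
          have h3 : ¬ Even (m + 1) := by
            rw [Nat.even_add_one]; exact not_not.mpr h1
          exact h3 (hpar.mp h1)
        · exfalso
          have h1 : Even m := ⟨c, hc⟩
          have h3 : ¬ Even (m + 1) := by
            rw [Nat.even_add_one]; exact not_not.mpr h1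
          exact h3 (hpar.mpr h1)
        · exact ha'11
      · intro _ hev hnev
        fin_cases b <;> fin_cases b'
        · exact absurd hev hnev
        · simp only [Fin.zero_eta, Fin.mk_one]
          rw [ha'01, sub_self]
          exact Ideal.zero_mem _
        · exfalso
          have h1 : Even m := ⟨c, hc⟩
          have h3 : ¬ Even (m + 1) := by
            rw [Nat.even_add_one]; exact not_not.mpr h1
          exact h3 hev
        · exact absurd hev hnev
      · intro _ hnev hev
        fin_cases b <;> fin_cases b'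
        · exact absurd hev hnev
        · exfalso
          have h1 : Even m := ⟨c, hc⟩
          have h3 : ¬ Even (m + 1) := by
            rw [Nat.even_add_one]; exact not_not.mpr h1
          exact h3 hev
        · simp only [Fin.zero_eta, Fin.mk_one]
          rw [ha'10, neg_add_cancel]
          exact Ideal.zero_mem _
        · exact absurd hev hnev
    · rw [fromBlocks_apply₁₂, he'l, he'r]
      have hk : k'.val < m := k'.2
      refine ⟨fun _ => rfl, fun heq => absurd heq (by omega), fun heq => absurd heq (by omega),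
        fun heq => absurd heq (by omega)⟩
    · rw [fromBlocks_apply₂₁, he'l, he'r]
      have hk : k.val < m := k.2
      refine ⟨fun _ => rfl, fun heq => absurd heq (by omega), fun heq => absurd heq (by omega),
        fun heq => absurd heq (by omega)⟩
    · rw [fromBlocks_apply₂₂, he'r, he'r]
      exact hK' k k'

end matrixPart

section final

variable {B : Type u} {A : Type v} [CommRing B] [CommRing A] [Algebra B A]
  (lam : A ≃+* A) (hlam : Function.Involutive lam) (hB : RInv.IsFixedRing B A lam) [IsLocalRing B]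

include hlam hB in
/-- Block form of skew-hermitian matrices (statement S15584). -/
theorem exists_blocks (n : ℕ) (hid : ∀ a : A, lam a - a ∈ Ring.jacobson A) (h2 : IsUnit (2 : A))
    (h : Matrix (Fin n) (Fin n) A) (hh : IsUnit h) (herm : -(h.map lam).transpose = h) :
    Even n ∧ ∃ v : Matrix (Fin n) (Fin n) A, IsUnit v ∧
      ∀ i j : Fin n,
        (i.val / 2 ≠ j.val / 2 → ((v.map lam).transpose * h * v) i j = 0) ∧
        (i.val / 2 = j.val / 2 → (Even i.val ↔ Even j.val) →
          ((v.map lam).transpose * h * v) i j ∈ Ring.jacobson A) ∧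
        (i.val / 2 = j.val / 2 → Even i.val → ¬ Even j.val →
          ((v.map lam).transpose * h * v) i j - 1 ∈ Ring.jacobson A) ∧
        (i.val / 2 = j.val / 2 → ¬ Even i.val → Even j.val →
          ((v.map lam).transpose * h * v) i j + 1 ∈ Ring.jacobson A) := by
  have hnt : Nontrivial A := hB.1.nontrivial
  letI : StarRing A := starRingOf lam hlam
  have herm' : (-1 : A) • hᴴ = h := by
    rw [neg_one_smul]
    exact herm
  have H2 : ∀ u : A, u ∉ Ring.jacobson A → IsUnit u :=
    fun u hu => isUnit_of_trivial lam hlam hB hid u hu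
  obtain ⟨heven, K, ⟨v, hv, e⟩, hK⟩ := skew_main H2 h2 hid n h hh herm'
  refine ⟨heven, v, hv, fun i j => ?_⟩
  have := hK i j
  rw [← e] at this
  exact this

end final

end Groth.Agent.Lib.R2H7.HermSkew
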