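/-
Hermite (row-reduced) normal form of square matrices with nonzero determinant over `k[[t]]`.
-/
import Mathlib

set_option autoImplicit false
universe u

namespace Groth.Agent.Lib.R2H7.HermiteForm

open PowerSeries Matrix

variable {k : Type u} [Field k]

/-- `f` has no terms in degrees `≥ e`. -/
def Red (e : ℕ) (f : PowerSeries k) : Prop := ∀ n, e ≤ n → coeff n f = 0

theorem Red.sub {e : ℕ} {f g : PowerSeries k} (hf : Red e f) (hg : Red e g) : Red e (f - g) := by
  intro n hn
  rw [map_sub, hf n hn, hg n hn, sub_zero]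

theorem exists_div (e : ℕ) (f : PowerSeries k) : ∃ q : PowerSeries k, Red e (f - X ^ e * q) := by
  refine ⟨PowerSeries.mk fun i => coeff (i + e) f, ?_⟩
  intro n hn
  rw [map_sub, coeff_X_pow_mul', if_pos hn, coeff_mk, Nat.sub_add_cancel hn, sub_self]

theorem eq_zero_of_red_of_dvd {e : ℕ} {f : PowerSeries k} (hf : Red e f) (hd : X ^ e ∣ f) :
    f = 0 := by
  ext n
  rw [map_zero]
  by_cases hn : e ≤ n
  · exact hf n hn
  · exact (X_pow_dvd_iff.mp hd) n (not_le.mp hn)

theorem X_pow_ne_zero (e : ℕ) : (X : PowerSeries k) ^ e ≠ 0 :=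
  pow_ne_zero e X_ne_zero

theorem le_of_X_pow_dvd {a b : ℕ} (h : (X : PowerSeries k) ^ a ∣ X ^ b) : a ≤ b := by
  by_contra hlt
  have h1 := (X_pow_dvd_iff.mp h) b (not_le.mp hlt)
  rw [coeff_X_pow_self] at h1
  exact one_ne_zero h1

section unique

variable {r : ℕ}

/-- If `W * H = H'` with `H` upper triangular with nonzero diagonal and `H'` upper triangular,
then `W` is upper triangular. -/
theorem upper_of_mul {W H H' : Matrix (Fin r) (Fin r) (PowerSeries k)} {e : Fin r → ℕ}
    (hd : ∀ i, H i i = X ^ e i) (hl : ∀ i j, j < i → H i j = 0)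
    (hl' : ∀ i j, j < i → H' i j = 0) (hW : W * H = H') :
    ∀ (i j : Fin r), j < i → W i j = 0 := by
  have key : ∀ m : ℕ, ∀ j : Fin r, (j : ℕ) < m → ∀ i, j < i → W i j = 0 := by
    intro m
    induction m with
    | zero => intro j hj; exact absurd hj (Nat.not_lt_zero _)
    | succ m ih =>
      intro j hj i hji
      by_cases hjm : (j : ℕ) < m
      · exact ih j hjm i hji
      · have h1 : (W * H) i j = 0 := by rw [hW]; exact hl' i j hji
        rw [Matrix.mul_apply, Finset.sum_eq_single j] at h1
        · rw [hd j] at h1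
          exact (mul_eq_zero.mp h1).resolve_right (X_pow_ne_zero _)
        · intro l _ hlj
          rcases lt_or_gt_of_ne hlj with h | h
          · rw [ih l (by have : (l : ℕ) < (j : ℕ) := h; omega) i (h.trans hji), zero_mul]
          · rw [hl l j h, mul_zero]
        · intro h
          exact absurd (Finset.mem_univ j) h
  intro i j hji
  exact key (j + 1) j (Nat.lt_succ_self _) i hji

theorem diag_of_mul {W H H' : Matrix (Fin r) (Fin r) (PowerSeries k)}
    (hl : ∀ i j, j < i → H i j = 0)
    (hWu : ∀ (i j : Fin r), j < i → W i j = 0) (hW : W * H = H') (i : Fin r) :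
    W i i * H i i = H' i i := by
  rw [← hW, Matrix.mul_apply, Finset.sum_eq_single i]
  · intro l _ hli
    rcases lt_or_gt_of_ne hli with h | h
    · rw [hWu i l h, zero_mul]
    · rw [hl l i h, mul_zero]
  · intro h
    exact absurd (Finset.mem_univ i) h

/-- Uniqueness of the row-reduced form. -/
theorem unique_rowRed {W W' H H' : Matrix (Fin r) (Fin r) (PowerSeries k)} {e e' : Fin r → ℕ}
    (hd : ∀ i, H i i = X ^ e i) (hl : ∀ i j, j < i → H i j = 0)
    (hr : ∀ i j, i < j → Red (e j) (H i j))
    (hd' : ∀ i, H' i i = X ^ e' i) (hl' : ∀ i j, j < i → H' i j = 0)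
    (hr' : ∀ i j, i < j → Red (e' j) (H' i j))
    (hW : W * H = H') (hW' : W' * H' = H) : H' = H := by
  have hWu := upper_of_mul hd hl hl' hW
  have hWu' := upper_of_mul hd' hl' hl hW'
  have he : ∀ i, e i = e' i := by
    intro i
    have h1 := diag_of_mul hl hWu hW i
    have h2 := diag_of_mul hl' hWu' hW' i
    rw [hd, hd'] at h1 h2
    exact le_antisymm (le_of_X_pow_dvd (Dvd.intro_left _ h1)) (le_of_X_pow_dvd (Dvd.intro_left _ h2))
  have hdiag : ∀ i, W i i = 1 := by
    intro i
    have h1 := diag_of_mul hl hWu hW i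
    rw [hd, hd', ← he i] at h1
    exact mul_right_cancel₀ (X_pow_ne_zero (e i)) (h1.trans (one_mul _).symm)
  have key : ∀ i : Fin r, ∀ m : ℕ, ∀ j : Fin r, (j : ℕ) < m → i < j → W i j = 0 := by
    intro i m
    induction m with
    | zero => intro j hj; exact absurd hj (Nat.not_lt_zero _)
    | succ m ih =>
      intro j hj hij
      by_cases hjm : (j : ℕ) < m
      · exact ih j hjm hij
      · have h1 : (W * H) i j = H' i j := by rw [hW]
        rw [Matrix.mul_apply, ← Finset.add_sum_erase _ _ (Finset.mem_univ i),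
          ← Finset.add_sum_erase _ _ (Finset.mem_erase.mpr ⟨hij.ne', Finset.mem_univ j⟩),
          Finset.sum_eq_zero, add_zero, hdiag i, one_mul, hd j] at h1
        · have h2 : W i j * X ^ e j = H' i j - H i j := by rw [← h1]; ring
          have h3 : Red (e j) (H' i j - H i j) := by
            refine Red.sub ?_ (hr i j hij)
            rw [he j]
            exact hr' i j hij
          have h4 := eq_zero_of_red_of_dvd h3 (Dvd.intro_left _ h2)
          rw [h4] at h2
          exact (mul_eq_zero.mp h2).resolve_right (X_pow_ne_zero _)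
        · intro l hl1
          rw [Finset.mem_erase, Finset.mem_erase] at hl1
          obtain ⟨hlj, hli, -⟩ := hl1
          rcases lt_or_gt_of_ne hli with h | h
          · rw [hWu i l h, zero_mul]
          · rcases lt_or_gt_of_ne hlj with h' | h'
            · rw [ih l (by have : (l : ℕ) < (j : ℕ) := h'; omega) h, zero_mul]
            · rw [hl l j h', mul_zero]
  have hW1 : W = 1 := by
    ext i j
    rcases lt_trichotomy i j with h | h | h
    · rw [key i (j + 1) j (Nat.lt_succ_self _) h, Matrix.one_apply_ne h.ne]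
    · rw [h, hdiag j, Matrix.one_apply_eq]
    · rw [hWu i j h, Matrix.one_apply_ne h.ne']
  rw [← hW, hW1, Matrix.one_mul]

end unique

section reduce

variable {r : ℕ}

/-- Reduction of row `i` of an upper triangular matrix by the rows below it. -/
theorem exists_reduce_row (T : Matrix (Fin r) (Fin r) (PowerSeries k)) (e : Fin r → ℕ)
    (hd : ∀ i, T i i = X ^ e i) (hl : ∀ i j, j < i → T i j = 0) (i : Fin r) :
    ∃ c : Fin r → PowerSeries k, (∀ j, j ≤ i → c j = 0) ∧
      ∀ j, i < j → Red (e j) ((T i - c ᵥ* T) j) := by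
  have key : ∀ m : ℕ, ∃ c : Fin r → PowerSeries k, (∀ j, j ≤ i → c j = 0) ∧
      ∀ j : Fin r, i < j → (j : ℕ) < m → Red (e j) ((T i - c ᵥ* T) j) := by
    intro m
    induction m with
    | zero => exact ⟨0, fun _ _ => rfl, fun j _ hj => absurd hj (Nat.not_lt_zero _)⟩
    | succ m ih =>
      obtain ⟨c, hc0, hc⟩ := ih
      by_cases hm : ∃ hmr : m < r, i < (⟨m, hmr⟩ : Fin r)
      · obtain ⟨hmr, him⟩ := hm
        set jm : Fin r := ⟨m, hmr⟩ with hjm
        obtain ⟨q, hq⟩ := exists_div (e jm) ((T i - c ᵥ* T) jm)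
        refine ⟨c + Pi.single jm q, ?_, ?_⟩
        · intro j hj
          rw [Pi.add_apply, hc0 j hj, zero_add, Pi.single_eq_of_ne]
          exact (lt_of_le_of_lt hj him).ne
        · intro j hij hj
          have hrow : (T i - (c + Pi.single jm q) ᵥ* T) j = (T i - c ᵥ* T) j - q * T jm j := by
            rw [Matrix.add_vecMul, Matrix.single_vecMul]
            simp only [Pi.sub_apply, Pi.add_apply, Pi.smul_apply, smul_eq_mul, Matrix.row]
            ring
          rw [hrow]
          by_cases hjlt : (j : ℕ) < m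
          · have : j < jm := hjlt
            rw [hl jm j this, mul_zero, sub_zero]
            exact hc j hij hjlt
          · have hjeq : j = jm := by
              apply Fin.ext
              have : (jm : ℕ) = m := rfl
              omega
            rw [hjeq, hd jm, mul_comm]
            exact hq
      · refine ⟨c, hc0, ?_⟩
        intro j hij hj
        by_cases hjlt : (j : ℕ) < m
        · exact hc j hij hjlt
        · exfalso
          apply hm
          have hjm : (j : ℕ) = m := by omega
          refine ⟨hjm ▸ j.isLt, ?_⟩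
          have : j = ⟨m, hjm ▸ j.isLt⟩ := Fin.ext hjm
          rw [← this]
          exact hij
  obtain ⟨c, hc0, hc⟩ := key r
  exact ⟨c, hc0, fun j hij => hc j hij j.isLt⟩

/-- An upper triangular matrix with diagonal entries `X ^ e i` can be row-reduced. -/
theorem exists_reduce (T : Matrix (Fin r) (Fin r) (PowerSeries k)) (e : Fin r → ℕ)
    (hd : ∀ i, T i i = X ^ e i) (hl : ∀ i j, j < i → T i j = 0) :
    ∃ U : Matrix (Fin r) (Fin r) (PowerSeries k), IsUnit U ∧ (∀ i, (U * T) i i = X ^ e i) ∧
      (∀ i j, j < i → (U * T) i j = 0) ∧ (∀ i j, i < j → Red (e j) ((U * T) i j)) := by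
  choose c hc0 hc using exists_reduce_row T e hd hl
  set C : Matrix (Fin r) (Fin r) (PowerSeries k) := Matrix.of c with hC
  have hCij : ∀ i j, C i j = c i j := fun i j => rfl
  have hrow : ∀ i j, ((1 - C) * T) i j = (T i - c i ᵥ* T) j := by
    intro i j
    rw [Matrix.sub_mul, Matrix.one_mul, Matrix.sub_apply, Pi.sub_apply, Matrix.mul_apply]
    rfl
  have hcT : ∀ i j, j ≤ i → (c i ᵥ* T) j = 0 := by
    intro i j hji
    change ∑ l, c i l * T l j = 0
    apply Finset.sum_eq_zero
    intro l _
    by_cases hli : l ≤ i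
    · rw [hc0 i l hli, zero_mul]
    · rw [hl l j (lt_of_le_of_lt hji (not_le.mp hli)), mul_zero]
  refine ⟨1 - C, ?_, ?_, ?_, ?_⟩
  · rw [Matrix.isUnit_iff_isUnit_det (1 - C)]
    have htri : (1 - C).BlockTriangular id := by
      intro i j hji
      have hji' : j < i := hji
      rw [Matrix.sub_apply, Matrix.one_apply_ne hji'.ne', hCij, hc0 i j hji'.le, sub_zero]
    rw [Matrix.det_of_isUpperTriangular htri]
    have : ∀ i, (1 - C) i i = 1 := by
      intro i
      rw [Matrix.sub_apply, Matrix.one_apply_eq, hCij, hc0 i i le_rfl, sub_zero]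
    simp [this]
  · intro i
    rw [hrow, Pi.sub_apply, hcT i i le_rfl, sub_zero, hd]
  · intro i j hji
    rw [hrow, Pi.sub_apply, hcT i j hji.le, sub_zero, hl i j hji]
  · intro i j hij
    rw [hrow]
    exact hc i j hij

end reduce

section triangularize

variable {r : ℕ}

/-- Vectors whose first `m` coordinates vanish. -/
def zeroBelow (k : Type u) [Field k] (r m : ℕ) : Submodule (PowerSeries k) (Fin r → PowerSeries k) where
  carrier := {v | ∀ j : Fin r, (j : ℕ) < m → v j = 0}
  add_mem' := by
    intro v w hv hw j hj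
    rw [Pi.add_apply, hv j hj, hw j hj, add_zero]
  zero_mem' := fun _ _ => rfl
  smul_mem' := by
    intro c v hv j hj
    rw [Pi.smul_apply, hv j hj, smul_zero]

theorem mem_zeroBelow {m : ℕ} {v : Fin r → PowerSeries k} :
    v ∈ zeroBelow k r m ↔ ∀ j : Fin r, (j : ℕ) < m → v j = 0 := Iff.rfl

theorem exists_triangular (M : Matrix (Fin r) (Fin r) (PowerSeries k)) (hM : M.det ≠ 0) :
    ∃ (N : Matrix (Fin r) (Fin r) (PowerSeries k)) (e : Fin r → ℕ), IsUnit N ∧
      (∀ i, (N * M) i i = X ^ e i) ∧ (∀ i j, j < i → (N * M) i j = 0) := by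
  set L : Submodule (PowerSeries k) (Fin r → PowerSeries k) :=
    LinearMap.range (Matrix.vecMulLinear M) with hL
  have hmemL : ∀ v, v ∈ L ↔ ∃ c : Fin r → PowerSeries k, c ᵥ* M = v := by
    intro v
    rw [hL, LinearMap.mem_range]
    rfl
  set J : Fin r → Ideal (PowerSeries k) := fun i =>
    (L ⊓ zeroBelow k r i).map (LinearMap.proj i) with hJ
  have hmemJ : ∀ i a, a ∈ J i ↔ ∃ v, (v ∈ L ∧ v ∈ zeroBelow k r i) ∧ v i = a := by
    intro i a
    rw [hJ]
    simp only [Submodule.mem_map, Submodule.mem_inf, LinearMap.proj_apply]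
  have hdetJ : ∀ i, M.det ∈ J i := by
    intro i
    rw [hmemJ]
    refine ⟨Pi.single i M.det, ⟨?_, ?_⟩, Pi.single_eq_same _ _⟩
    · rw [hmemL]
      refine ⟨M.adjugate i, ?_⟩
      funext j
      have h1 := congrFun (congrFun (Matrix.adjugate_mul M) i) j
      rw [Matrix.mul_apply, Matrix.smul_apply, Matrix.one_apply, smul_eq_mul] at h1
      change ∑ l, M.adjugate i l * M l j = _
      rw [h1, Pi.single_apply]
      by_cases hij : i = j
      · subst hij; simp
      · rw [if_neg hij, if_neg (Ne.symm hij), mul_zero]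
    · intro j hj
      rw [Pi.single_eq_of_ne]
      intro h
      rw [h] at hj
      exact lt_irrefl _ hj
  have hJne : ∀ i, J i ≠ ⊥ := by
    intro i h
    have := hdetJ i
    rw [h, Ideal.mem_bot] at this
    exact hM this
  choose e he using fun i =>
    IsDiscreteValuationRing.ideal_eq_span_pow_irreducible (hJne i) (X_irreducible (R := k))
  have hXJ : ∀ i, (X : PowerSeries k) ^ e i ∈ J i := by
    intro i
    rw [he i]
    exact Ideal.mem_span_singleton_self _
  choose g hg using fun i => (hmemJ i _).mp (hXJ i)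
  choose n hn using fun i => (hmemL _).mp (hg i).1.1
  set T : Matrix (Fin r) (Fin r) (PowerSeries k) := Matrix.of g with hT
  have hNM : Matrix.of n * M = T := by
    apply Matrix.ext
    intro i j
    rw [Matrix.mul_apply]
    have := congrFun (hn i) j
    exact this
  have hspan : ∀ d m : ℕ, m + d = r → ∀ v, v ∈ L → v ∈ zeroBelow k r m →
      ∃ a : Fin r → PowerSeries k, a ᵥ* T = v := by
    intro d
    induction d with
    | zero =>
      intro m hm v _ hvZ
      refine ⟨0, ?_⟩
      rw [Matrix.zero_vecMul]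
      funext j
      exact (hvZ j (by have := j.isLt; omega)).symm
    | succ d ih =>
      intro m hm v hvL hvZ
      have hmr : m < r := by omega
      set im : Fin r := ⟨m, hmr⟩ with him
      have hvJ : v im ∈ J im := (hmemJ im _).mpr ⟨v, ⟨hvL, hvZ⟩, rfl⟩
      rw [he im, Ideal.mem_span_singleton'] at hvJ
      obtain ⟨b, hb⟩ := hvJ
      have hv'L : v - b • g im ∈ L := L.sub_mem hvL (L.smul_mem b (hg im).1.1)
      have hv'Z : v - b • g im ∈ zeroBelow k r (m + 1) := by
        intro j hj
        rw [Pi.sub_apply, Pi.smul_apply, smul_eq_mul]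
        by_cases hjm : (j : ℕ) < m
        · rw [hvZ j hjm, (hg im).1.2 j hjm, mul_zero, sub_zero]
        · have hjeq : j = im := Fin.ext (by have : (im : ℕ) = m := rfl; omega)
          rw [hjeq, (hg im).2, ← hb, sub_self]
      obtain ⟨a', ha'⟩ := ih (m + 1) (by omega) _ hv'L hv'Z
      refine ⟨a' + Pi.single im b, ?_⟩
      rw [Matrix.add_vecMul, Matrix.single_vecMul, ha']
      funext j
      simp only [Pi.add_apply, Pi.sub_apply, Pi.smul_apply, smul_eq_mul, Matrix.row, hT,
        Matrix.of_apply]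
      ring
  have hrows : ∀ i, ∃ a : Fin r → PowerSeries k, a ᵥ* T = M i := by
    intro i
    refine hspan r 0 (by omega) (M i) ?_ ?_
    · rw [hmemL]
      refine ⟨Pi.single i 1, ?_⟩
      rw [Matrix.single_vecMul, one_smul]
      rfl
    · intro j hj
      exact absurd hj (Nat.not_lt_zero _)
  choose a ha using hrows
  have hN'T : Matrix.of a * T = M := by
    apply Matrix.ext
    intro i j
    rw [Matrix.mul_apply]
    exact congrFun (ha i) j
  have hunit : IsUnit (Matrix.of n : Matrix (Fin r) (Fin r) (PowerSeries k)) := by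
    rw [Matrix.isUnit_iff_isUnit_det (Matrix.of n)]
    have h1 : (Matrix.of a * Matrix.of n * M).det = M.det := by
      rw [Matrix.mul_assoc, hNM, hN'T]
    rw [Matrix.det_mul, Matrix.det_mul] at h1
    have h2 : (Matrix.of a).det * (Matrix.of n).det = 1 :=
      mul_right_cancel₀ hM (h1.trans (one_mul _).symm)
    exact IsUnit.of_mul_eq_one_right _ h2
  refine ⟨Matrix.of n, e, hunit, ?_, ?_⟩
  · intro i
    rw [hNM]
    exact (hg i).2
  · intro i j hji
    rw [hNM]
    exact (hg i).1.2 j hji

end triangularize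

section main

variable {r : ℕ}

theorem existsUnique_rowRed (M : Matrix (Fin r) (Fin r) (PowerSeries k)) (hM : M.det ≠ 0) :
    ∃! H : Matrix (Fin r) (Fin r) (PowerSeries k),
      (∃ e : Fin r → ℕ, (∀ i, H i i = PowerSeries.X ^ e i) ∧ (∀ i j, j < i → H i j = 0) ∧
        (∀ i j, i < j → ∀ n, e j ≤ n → PowerSeries.coeff n (H i j) = 0)) ∧
      ∃ N : Matrix (Fin r) (Fin r) (PowerSeries k), IsUnit N ∧ N * M = H := by
  obtain ⟨N, e, hN, hd, hl⟩ := exists_triangular M hM
  obtain ⟨U, hU, hd', hl', hr'⟩ := exists_reduce (N * M) e hd hl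
  refine ⟨U * (N * M), ⟨⟨e, hd', hl', hr'⟩, U * N, hU.mul hN, Matrix.mul_assoc _ _ _⟩, ?_⟩
  rintro H' ⟨⟨e', hd2, hl2, hr2⟩, N', hN', hN'M⟩
  obtain ⟨V, hV⟩ := (hU.mul hN)
  obtain ⟨V', hV'⟩ := hN'
  have h1 : (N' * (↑V⁻¹ : Matrix (Fin r) (Fin r) (PowerSeries k))) * (U * (N * M)) = H' := by
    rw [← hN'M, ← Matrix.mul_assoc U N M, ← hV, Matrix.mul_assoc, ← Matrix.mul_assoc _ _ M,
      Units.inv_mul, Matrix.one_mul]
  have h2 : ((U * N) * (↑V'⁻¹ : Matrix (Fin r) (Fin r) (PowerSeries k))) * H' = U * (N * M) := by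
    rw [← hN'M, ← hV', Matrix.mul_assoc, ← Matrix.mul_assoc _ _ M, Units.inv_mul, Matrix.one_mul,
      Matrix.mul_assoc]
  exact unique_rowRed hd' hl' hr' hd2 hl2 hr2 h1 h2

end main

end Groth.Agent.Lib.R2H7.HermiteForm
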