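/-
Row-reduced form over `k[[t]]` with additional column operations over `k[[t^p]]`.
-/
import Mathlib
import Groth.Agent.Lib.R2H7HermiteForm

set_option autoImplicit false
universe u

namespace Groth.Agent.Lib.R2H7.HermiteForm

open PowerSeries Matrix

variable {k : Type u} [Field k]

/-- `f` has no terms in degrees `n ≥ e` with `n ≡ e mod p`. -/
def NoCong (p e : ℕ) (f : PowerSeries k) : Prop :=
  ∀ n, e ≤ n → n % p = e % p → coeff n f = 0

theorem Red.add {e : ℕ} {f g : PowerSeries k} (hf : Red e f) (hg : Red e g) : Red e (f + g) := by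
  intro n hn
  rw [map_add, hf n hn, hg n hn, add_zero]

theorem Red.zero (e : ℕ) : Red e (0 : PowerSeries k) := fun _ _ => map_zero _

theorem Red.sum {ι : Type*} (s : Finset ι) {e : ℕ} (f : ι → PowerSeries k)
    (hf : ∀ l ∈ s, Red e (f l)) : Red e (∑ l ∈ s, f l) := by
  intro n hn
  rw [map_sum]
  exact Finset.sum_eq_zero fun l hl => hf l hl n hn

theorem red_mul {a b : ℕ} {f g : PowerSeries k} (hf : Red a f) (hg : Red b (X ^ a * g)) :
    Red b (f * g) := by
  intro n hn
  rw [coeff_mul]
  apply Finset.sum_eq_zero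
  rintro ⟨u, v⟩ huv
  have huv' : u + v = n := Finset.HasAntidiagonal.mem_antidiagonal.mp huv
  change coeff u f * coeff v g = 0
  by_cases hu : a ≤ u
  · rw [hf u hu, zero_mul]
  · have h1 := hg (v + a) (by omega)
    rw [coeff_X_pow_mul', if_pos (Nat.le_add_left _ _), Nat.add_sub_cancel] at h1
    rw [h1, mul_zero]

theorem exists_corr (p : ℕ) (e b : ℕ) (v : PowerSeries k) (hv : Red b v) :
    ∃ q : PowerSeries k, (∀ n, ¬ p ∣ n → coeff n q = 0) ∧ Red b (X ^ e * q) ∧
      Red b (v + X ^ e * q) ∧ NoCong p e (v + X ^ e * q) := by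
  classical
  set q : PowerSeries k := PowerSeries.mk fun u => if p ∣ u then -coeff (u + e) v else 0 with hq
  have hcoeff : ∀ n, coeff n (X ^ e * q) =
      if e ≤ n then (if p ∣ (n - e) then -coeff n v else 0) else 0 := by
    intro n
    rw [coeff_X_pow_mul']
    by_cases hn : e ≤ n
    · rw [if_pos hn, if_pos hn, hq, coeff_mk, Nat.sub_add_cancel hn]
    · rw [if_neg hn, if_neg hn]
  have hred : Red b (X ^ e * q) := by
    intro n hn
    rw [hcoeff]
    split_ifs
    · rw [hv n hn, neg_zero]
    · rfl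
    · rfl
  refine ⟨q, ?_, hred, hv.add hred, ?_⟩
  · intro n hn
    rw [hq, coeff_mk, if_neg hn]
  · intro n hn hmod
    have hdvd : p ∣ n - e := (Nat.modEq_iff_dvd' hn).mp hmod.symm
    rw [map_add, hcoeff, if_pos hn, if_pos hdvd, add_neg_cancel]

section col

variable {r : ℕ}

theorem mulVec_single_apply (H : Matrix (Fin r) (Fin r) (PowerSeries k)) (i₀ : Fin r)
    (q : PowerSeries k) (i : Fin r) : (H *ᵥ Pi.single i₀ q) i = H i i₀ * q := by
  change ∑ l, H i l * (Pi.single i₀ q : Fin r → PowerSeries k) l = _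
  rw [Finset.sum_eq_single i₀]
  · rw [Pi.single_eq_same]
  · intro l _ hl
    rw [Pi.single_eq_of_ne hl, mul_zero]
  · intro h
    exact absurd (Finset.mem_univ i₀) h

/-- Column reduction: choice of the `j`-th column of the column operation. -/
theorem exists_col (p : ℕ) (H : Matrix (Fin r) (Fin r) (PowerSeries k)) (e : Fin r → ℕ)
    (hd : ∀ i, H i i = X ^ e i) (hl : ∀ i j, j < i → H i j = 0)
    (hr : ∀ i j, i < j → Red (e j) (H i j)) (j : Fin r) :
    ∃ s : Fin r → PowerSeries k, (∀ l, j ≤ l → s l = 0) ∧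
      (∀ l n, ¬ p ∣ n → coeff n (s l) = 0) ∧
      ∀ i, i < j → Red (e j) (H i j + (H *ᵥ s) i) ∧ NoCong p (e i) (H i j + (H *ᵥ s) i) := by
  have key : ∀ m : ℕ, ∃ s : Fin r → PowerSeries k,
      (∀ l : Fin r, (j ≤ l ∨ (l : ℕ) + m < (j : ℕ)) → s l = 0) ∧
      (∀ l n, ¬ p ∣ n → coeff n (s l) = 0) ∧
      (∀ l, Red (e j) (X ^ e l * s l)) ∧
      ∀ i : Fin r, i < j → (j : ℕ) ≤ (i : ℕ) + m →
        Red (e j) (H i j + (H *ᵥ s) i) ∧ NoCong p (e i) (H i j + (H *ᵥ s) i) := by
    intro m
    induction m with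
    | zero =>
      refine ⟨0, fun _ _ => rfl, fun _ _ _ => map_zero _, fun l => ?_, fun i hij hji => ?_⟩
      · rw [Pi.zero_apply, mul_zero]
        exact Red.zero _
      · exfalso
        have : (i : ℕ) < (j : ℕ) := hij
        omega
    | succ m ih =>
      obtain ⟨s, hs1, hs2, hs3, hs4⟩ := ih
      by_cases hm : m + 1 ≤ (j : ℕ)
      · have hi₀r : (j : ℕ) - (m + 1) < r := by have := j.isLt; omega
        set i₀ : Fin r := ⟨(j : ℕ) - (m + 1), hi₀r⟩ with hi₀
        have hi₀val : (i₀ : ℕ) + (m + 1) = (j : ℕ) := by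
          change (j : ℕ) - (m + 1) + (m + 1) = (j : ℕ)
          omega
        have hi₀j : i₀ < j := by
          change (i₀ : ℕ) < (j : ℕ)
          omega
        have hsi₀ : s i₀ = 0 := hs1 i₀ (Or.inr (by omega))
        set v : PowerSeries k := H i₀ j + (H *ᵥ s) i₀ with hv
        have hvred : Red (e j) v := by
          refine (hr i₀ j hi₀j).add ?_
          change Red (e j) (∑ l, H i₀ l * s l)
          apply Red.sum
          intro l _
          by_cases hl1 : j ≤ l ∨ (l : ℕ) + m < (j : ℕ)
          · rw [hs1 l hl1, mul_zero]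
            exact Red.zero _
          · rw [not_or, not_le, not_lt] at hl1
            have hi₀l : i₀ < l := by
              change (i₀ : ℕ) < (l : ℕ)
              omega
            exact red_mul (hr i₀ l hi₀l) (hs3 l)
        obtain ⟨q, hq1, hq2, hq3, hq4⟩ := exists_corr p (e i₀) (e j) v hvred
        refine ⟨s + Pi.single i₀ q, ?_, ?_, ?_, ?_⟩
        · intro l hl1
          have hne : l ≠ i₀ := by
            intro h
            rw [h] at hl1
            rcases hl1 with h1 | h1
            · exact absurd hi₀j (not_lt.mpr h1)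
            · omega
          rw [Pi.add_apply, Pi.single_eq_of_ne hne, add_zero]
          apply hs1
          rcases hl1 with h1 | h1
          · exact Or.inl h1
          · exact Or.inr (by omega)
        · intro l n hn
          rw [Pi.add_apply, map_add, hs2 l n hn, zero_add]
          by_cases hli : l = i₀
          · rw [hli, Pi.single_eq_same]
            exact hq1 n hn
          · rw [Pi.single_eq_of_ne hli, map_zero]
        · intro l
          by_cases hli : l = i₀
          · rw [hli, Pi.add_apply, hsi₀, zero_add, Pi.single_eq_same]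
            exact hq2
          · rw [Pi.add_apply, Pi.single_eq_of_ne hli, add_zero]
            exact hs3 l
        · intro i hij hji
          have hw : H i j + (H *ᵥ (s + Pi.single i₀ q)) i =
              H i j + (H *ᵥ s) i + H i i₀ * q := by
            rw [Matrix.mulVec_add, Pi.add_apply, mulVec_single_apply, add_assoc]
          rw [hw]
          by_cases hji' : (j : ℕ) ≤ (i : ℕ) + m
          · have hi₀i : i₀ < i := by
              change (i₀ : ℕ) < (i : ℕ)
              omega
            rw [hl i i₀ hi₀i, zero_mul, add_zero]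
            exact hs4 i hij hji'
          · have hii₀ : i = i₀ := Fin.ext (by omega)
            rw [hii₀, hd i₀]
            exact ⟨hq3, hq4⟩
      · refine ⟨s, ?_, hs2, hs3, ?_⟩
        · intro l hl1
          apply hs1
          rcases hl1 with h1 | h1
          · exact Or.inl h1
          · exact Or.inr (by omega)
        · intro i hij hji
          exact hs4 i hij (by omega)
  obtain ⟨s, hs1, hs2, -, hs4⟩ := key r
  refine ⟨s, fun l hl1 => hs1 l (Or.inl hl1), hs2, fun i hij => hs4 i hij ?_⟩
  have := j.isLt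
  omega

/-- Column operations over `k[[t^p]]` removing the congruent terms. -/
theorem exists_colOp (p : ℕ) (H : Matrix (Fin r) (Fin r) (PowerSeries k)) (e : Fin r → ℕ)
    (hd : ∀ i, H i i = X ^ e i) (hl : ∀ i j, j < i → H i j = 0)
    (hr : ∀ i j, i < j → Red (e j) (H i j)) :
    ∃ P : Matrix (Fin r) (Fin r) (PowerSeries k), IsUnit P ∧
      (∀ i j n, ¬ p ∣ n → coeff n (P i j) = 0) ∧
      (∀ i, (H * P) i i = X ^ e i) ∧ (∀ i j, j < i → (H * P) i j = 0) ∧
      (∀ i j, i < j → Red (e j) ((H * P) i j) ∧ NoCong p (e i) ((H * P) i j)) := by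
  choose s hs1 hs2 hs3 using exists_col p H e hd hl hr
  set S : Matrix (Fin r) (Fin r) (PowerSeries k) := Matrix.of fun l j => s j l with hS
  have hSlj : ∀ l j, S l j = s j l := fun l j => rfl
  have hHP : ∀ i j, (H * (1 + S)) i j = H i j + (H *ᵥ s j) i := by
    intro i j
    rw [Matrix.mul_add, Matrix.mul_one, Matrix.add_apply, Matrix.mul_apply]
    rfl
  have hHs : ∀ i j, j ≤ i → (H *ᵥ s j) i = 0 := by
    intro i j hji
    change ∑ l, H i l * s j l = 0
    apply Finset.sum_eq_zero
    intro l _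
    by_cases hjl : j ≤ l
    · rw [hs1 j l hjl, mul_zero]
    · rw [hl i l (lt_of_lt_of_le (not_le.mp hjl) hji), zero_mul]
  refine ⟨1 + S, ?_, ?_, ?_, ?_, ?_⟩
  · rw [Matrix.isUnit_iff_isUnit_det (1 + S)]
    have htri : (1 + S).IsUpperTriangular := by
      intro i j hji
      have hji' : j < i := hji
      rw [Matrix.add_apply, Matrix.one_apply_ne hji'.ne', hSlj, hs1 j i hji'.le, add_zero]
    rw [Matrix.det_of_isUpperTriangular htri]
    have : ∀ i, (1 + S) i i = 1 := by
      intro i
      rw [Matrix.add_apply, Matrix.one_apply_eq, hSlj, hs1 i i le_rfl, add_zero]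
    simp [this]
  · intro i j n hn
    rw [Matrix.add_apply, map_add, hSlj, hs2 j i n hn, add_zero, Matrix.one_apply]
    split_ifs
    · rw [coeff_one, if_neg]
      intro h0
      rw [h0] at hn
      exact hn (dvd_zero p)
    · exact map_zero _
  · intro i
    rw [hHP, hHs i i le_rfl, add_zero, hd]
  · intro i j hji
    rw [hHP, hHs i j hji.le, add_zero, hl i j hji]
  · intro i j hij
    rw [hHP]
    exact hs3 j i hij

theorem exists_rowRed_noCong (p : ℕ) (M : Matrix (Fin r) (Fin r) (PowerSeries k))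
    (hM : M.det ≠ 0) :
    ∃ (N P : Matrix (Fin r) (Fin r) (PowerSeries k)) (e : Fin r → ℕ), IsUnit N ∧ IsUnit P ∧
      (∀ i j n, ¬ p ∣ n → PowerSeries.coeff n (P i j) = 0) ∧
      (∀ i, (N * M * P) i i = PowerSeries.X ^ e i) ∧ (∀ i j, j < i → (N * M * P) i j = 0) ∧
      (∀ i j, i < j → ∀ n, (e j ≤ n ∨ (e i ≤ n ∧ n % p = e i % p)) →
        PowerSeries.coeff n ((N * M * P) i j) = 0) := by
  obtain ⟨N, e, hN, hd, hl⟩ := exists_triangular M hM
  obtain ⟨U, hU, hd', hl', hr'⟩ := exists_reduce (N * M) e hd hl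
  obtain ⟨P, hP, hP2, hP3, hP4, hP5⟩ := exists_colOp p (U * (N * M)) e hd' hl' hr'
  have hassoc : U * N * M = U * (N * M) := Matrix.mul_assoc _ _ _
  refine ⟨U * N, P, e, hU.mul hN, hP, hP2, ?_, ?_, ?_⟩
  · intro i
    rw [hassoc]
    exact hP3 i
  · intro i j hji
    rw [hassoc]
    exact hP4 i j hji
  · intro i j hij n hn
    rw [hassoc]
    rcases hn with hn | ⟨hn1, hn2⟩
    · exact (hP5 i j hij).1 n hn
    · exact (hP5 i j hij).2 n hn1 hn2

end col

end Groth.Agent.Lib.R2H7.HermiteForm
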