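import Mathlib
import Groth.Prelude
import Groth.Agent.Lib.R2H7HilbStab
import Groth.Agent.Lib.R2H4AsympRR
import Groth.Agent.Lib.Helper4ProdDim

/-!
# helper7: Hilbert polynomials of coherent modules on a proper scheme with an ample module

Instantiates the abstract axioms `HilbStab.Ax` for `X.Modules`, `X` proper over a field `k`, with
`ok = Coh.IsCoh`, `HP = ShStab.IsHilbPoly k X L` (`L` ample) and
`sdim F = topologicalKrullDim (CohB1.support F)`.  The input is helper4's Snapper theory
(`R2H4Snapper.s1528`, `R2H4SnapperGen.coeff_ones_eq_sum`, `R2H4AmplePos.pos`).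

* `dim_lt_top_of_lft_field`, `dim_closure_subtype`, `sdim_nat` : dimension lemmas;
* `exists_hilbPoly` : existence of the Hilbert polynomial, with degree bound and the link of its
  top coefficient with the multi-variable Snapper polynomial;
* `coeff_ones_pos_of_coh` : positivity of `(L^e · F)` for `dim Supp F = e`;
* `hilbAx` : the axioms.
-/

set_option autoImplicit false
set_option linter.style.haveILetI false
set_option linter.unusedSectionVars false
universe u
open CategoryTheory CategoryTheory.Limits AlgebraicGeometry TopologicalSpace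

noncomputable section

namespace Groth.Agent.Lib.R2H7.HilbPoly

open Groth.Agent.Lib.R2H4NumPoly Groth.Agent.Lib.R2H4TensorPows Groth.Agent.Lib.R2H4Snapper
  Groth.Agent.Lib.R2H4SnapperCor Groth.Agent.Lib.R2H4SnapperRef
  Groth.Agent.Lib.R2H4SnapperGen Groth.Agent.Lib.R2H4AmplePos Groth.Agent.Lib.R2H4RRAlg
  Groth.Agent.Lib.R2H4AsympRR Groth.Agent.Lib.R2H2.DevA Groth.Agent.Lib.R2H7.StabNum
  Groth.Agent.Lib.Helper4.ProdDim

/-! ### topology -/

section Top

variable {T : Type*} [TopologicalSpace T]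

theorem dim_eq_bot_of_isEmpty [IsEmpty T] : topologicalKrullDim T = ⊥ := by
  unfold topologicalKrullDim
  haveI : IsEmpty (IrreducibleCloseds T) := ⟨fun Z => isEmptyElim Z.2.nonempty.some⟩
  exact Order.krullDim_eq_bot

theorem dim_ne_bot_of_nonempty [Nonempty T] : topologicalKrullDim T ≠ ⊥ := by
  unfold topologicalKrullDim
  rw [Ne, Order.krullDim_eq_bot_iff, not_isEmpty_iff]
  obtain ⟨t⟩ := ‹Nonempty T›
  exact ⟨⟨closure {t}, isIrreducible_singleton.closure, isClosed_closure⟩⟩

theorem dim_closure_subtype (Z : Set T) (hZ : IsClosed Z) (t : Z) :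
    topologicalKrullDim ↥(closure ({t} : Set Z)) =
      topologicalKrullDim ↥(closure ({(t : T)} : Set T)) := by
  have h1 : (Subtype.val : Z → T) '' closure ({t} : Set Z) = closure ({(t : T)} : Set T) := by
    rw [← hZ.isClosedEmbedding_subtypeVal.closure_image_eq, Set.image_singleton]
  rw [← h1]
  exact IsHomeomorph.topologicalKrullDim_eq _
    (Topology.IsEmbedding.subtypeVal.homeomorphImage (closure ({t} : Set Z))).isHomeomorph

theorem exists_nat_of_ne_bot_of_lt_top (x : WithBot ℕ∞) (h1 : x ≠ ⊥) (h2 : x < ⊤) :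
    ∃ e : ℕ, x = (e : WithBot ℕ∞) := by
  obtain ⟨y, hy⟩ := WithBot.ne_bot_iff_exists.1 h1
  rw [← hy] at h2 ⊢
  have h3 : y ≠ ⊤ := by
    rintro rfl
    exact lt_irrefl _ h2
  obtain ⟨e, rfl⟩ := ENat.ne_top_iff_exists.1 h3
  exact ⟨e, rfl⟩

end Top

/-! ### finite dimensionality (copied from helper3's `Helper3DimCons`, which has a long import
chain) -/

section Fin

theorem ringKrullDim_lt_top_of_finiteType (k : Type u) [Field k] (A : Type u) [CommRing A]
    [Algebra k A] [Algebra.FiniteType k A] : ringKrullDim A < ⊤ := by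
  rcases subsingleton_or_nontrivial A with h | h
  · rw [ringKrullDim_eq_bot_of_subsingleton]; exact bot_lt_top
  · obtain ⟨s, g, hinj, hint⟩ := exists_integral_inj_algHom_of_fg k A
    rw [Groth.Agent.Lib.Helper4.TensorDim.ringKrullDim_eq_of_integral_injective k A s g hinj hint]
    exact WithBot.coe_lt_coe.mpr (ENat.natCast_lt_top s)

theorem dim_lt_top_of_lft_field (k : Type u) [Field k] {Z : Scheme.{u}}
    (z : Z ⟶ Spec (CommRingCat.of k)) [LocallyOfFiniteType z] [CompactSpace Z] :
    topologicalKrullDim Z < ⊤ := by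
  let 𝒰 := Z.affineCover.finiteSubcover
  rw [topologicalKrullDim_eq_iSup_openCover Z 𝒰]
  have hpiece : ∀ i, topologicalKrullDim (𝒰.X i) < ⊤ := by
    intro i
    haveI : IsAffine (𝒰.X i) := by
      show IsAffine (Z.affineCover.X _)
      infer_instance
    let φ := (𝒰.X i).isoSpec.inv ≫ 𝒰.f i ≫ z
    letI : Algebra k Γ(𝒰.X i, ⊤) := (Spec.preimage φ).hom.toAlgebra
    haveI : Algebra.FiniteType k Γ(𝒰.X i, ⊤) := by
      have h1 : LocallyOfFiniteType (Spec.map (Spec.preimage φ)) := by
        rw [Spec.map_preimage]; infer_instance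
      exact (HasRingHomProperty.Spec_iff (P := @LocallyOfFiniteType)).mp h1
    rw [topologicalKrullDim_eq_of_iso (𝒰.X i).isoSpec, topologicalKrullDim_Spec]
    exact ringKrullDim_lt_top_of_finiteType k _
  rcases isEmpty_or_nonempty 𝒰.I₀ with h | h
  · rw [iSup_of_empty]; exact bot_lt_top
  · obtain ⟨i₀, hi₀⟩ := Finite.exists_max (fun i => topologicalKrullDim (𝒰.X i))
    exact lt_of_le_of_lt (iSup_le hi₀) (hpiece i₀)

end Fin

/-! ### dimensions of supports -/

section Supp

variable {X : Scheme.{u}}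

theorem sdim_le_of_subset {A B : X.Modules} (h : CohB1.support A ⊆ CohB1.support B) :
    topologicalKrullDim (CohB1.support A) ≤ topologicalKrullDim (CohB1.support B) :=
  (Topology.IsEmbedding.inclusion h).isInducing.topologicalKrullDim_le

theorem sdim_of_isZero {F : X.Modules} (h : IsZero F) :
    topologicalKrullDim (CohB1.support F) = ⊥ := by
  rw [support_of_isZero h]
  haveI : IsEmpty ↥(∅ : Set X) := ⟨fun x => Set.notMem_empty x.1 x.2⟩
  exact dim_eq_bot_of_isEmpty

theorem support_nonempty {F : X.Modules} (hnz : ¬ IsZero F) : (CohB1.support F).Nonempty := by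
  by_contra h
  rw [Set.not_nonempty_iff_eq_empty] at h
  exact hnz (isZero_of_support_subset_empty F h.le)

variable (k : Type u) [Field k] [X.Over (Spec (CommRingCat.of k))]
  [IsProper (X ↘ (Spec (CommRingCat.of k)))]

include k in
theorem dim_lt_top : topologicalKrullDim X < ⊤ := by
  haveI := Groth.Agent.Lib.R2H1.CurveEuler.isNoetherian_of_proper k X
  exact dim_lt_top_of_lft_field k (X ↘ Spec (CommRingCat.of k))

include k in
theorem sdim_nat {F : X.Modules} (hnz : ¬ IsZero F) :
    ∃ e : ℕ, topologicalKrullDim (CohB1.support F) = (e : WithBot ℕ∞) := by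
  haveI : Nonempty ↥(CohB1.support F) := (support_nonempty hnz).to_subtype
  exact exists_nat_of_ne_bot_of_lt_top _ dim_ne_bot_of_nonempty
    (lt_of_le_of_lt (topologicalKrullDim_subspace_le X _) (dim_lt_top k))

end Supp

/-! ### the Hilbert polynomial -/

section HP

/-- the polynomial `∑_{i ≤ e} a_i X^i` -/
def polyOf (a : ℕ → ℚ) (e : ℕ) : Polynomial ℚ :=
  ∑ i ∈ Finset.range (e + 1), Polynomial.monomial i (a i)

theorem eval_polyOf (a : ℕ → ℚ) (e : ℕ) (r : ℚ) :
    (polyOf a e).eval r = ∑ i ∈ Finset.range (e + 1), a i * r ^ i := by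
  unfold polyOf
  rw [Polynomial.eval_finsetSum]
  exact Finset.sum_congr rfl fun i _ => Polynomial.eval_monomial

theorem natDegree_polyOf_le (a : ℕ → ℚ) (e : ℕ) : (polyOf a e).natDegree ≤ e := by
  unfold polyOf
  refine Polynomial.natDegree_sum_le_of_forall_le _ _ fun i hi => ?_
  have := Finset.mem_range.1 hi
  exact (Polynomial.natDegree_monomial_le _).trans (by omega)

theorem coeff_polyOf (a : ℕ → ℚ) (e : ℕ) : (polyOf a e).coeff e = a e := by
  unfold polyOf
  rw [Polynomial.finsetSum_coeff, Finset.sum_eq_single e]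
  · rw [Polynomial.coeff_monomial, if_pos rfl]
  · intro i _ hi
    rw [Polynomial.coeff_monomial, if_neg hi]
  · intro h
    exact absurd (Finset.mem_range.2 (Nat.lt_succ_self e)) h

variable (k : Type u) [Field k] {X : Scheme.{u}} [X.Over (Spec (CommRingCat.of k))]
  [IsProper (X ↘ (Spec (CommRingCat.of k)))]

/-- existence of the Hilbert polynomial, its degree, and its top coefficient -/
theorem exists_hilbPoly (L : X.Modules) (hL : PicF.IsInvertible L) (F : X.Modules)
    (hF : Coh.IsCoh F) (e : ℕ)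
    (hsupp : topologicalKrullDim (CohB1.support F) ≤ ((e : ℕ) : WithBot ℕ∞)) :
    ∃ a : ℕ → ℚ, ShStab.IsHilbPoly k X L F (polyOf a e) ∧
      ∀ R : MvPolynomial (Fin e) ℚ, (∀ n : Fin e → ℕ, fE k X e (fun _ => L) F n = ev n R) →
        MvPolynomial.coeff (Finsupp.equivFunOnFinite.symm fun _ : Fin e => 1) R =
          (e.factorial : ℚ) * a e := by
  classical
  obtain ⟨p, hpdeg, hp⟩ := s1528 k F hF e hsupp 1 (fun _ => L) (fun _ => hL)
  set a : ℕ → ℚ := fun i => MvPolynomial.coeff (Finsupp.single 0 i) p with ha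
  set G : ℕ → ℚ := fun j => ∑ i ∈ Finset.range (e + 1), a i * (j : ℚ) ^ i with hG
  have hχ : ∀ n : ℕ, (Curv2.euler k X (CohB1.tensorMod F (CohB1.tensorPow L n)) : ℚ) = G n := by
    intro n
    have h1 := hp (fun _ => n)
    rw [eval_fin_one p e hpdeg] at h1
    exact h1
  refine ⟨a, ?_, ?_⟩
  · intro m
    rw [eval_polyOf]
    exact hχ m
  · intro R hR
    have hRG : ∀ v : Fin e → ℕ, ev v R = G (∑ i, v i) := by
      intro v
      obtain ⟨ι⟩ := nonempty_powsConst F L e v
      rw [← hR v]
      unfold fE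
      rw [Groth.Agent.Lib.R2H1.DegCartier.euler_congr k ι]
      exact hχ _
    have hRdeg : R.totalDegree ≤ e :=
      totalDegree_le_of_eval k F hF e hsupp e (fun _ => L) (fun _ => hL) R hR
    rw [coeff_ones_eq R (by rw [Fintype.card_fin]; exact hRdeg)]
    have h1 : ∀ t : Finset (Fin e), ev (ind t) R = G t.card := by
      intro t
      rw [hRG]
      congr 1
      simp [ind]
    simp_rw [h1, Fintype.card_fin]
    rw [alt_sum_card e G]
    exact fwd_identity e a

/-- positivity of the top intersection number of an ample module with a coherent module -/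
theorem coeff_ones_pos_of_coh (e : ℕ) (L : X.Modules) (hL : CohB1.IsAmple L) (F : X.Modules)
    (hF : Coh.IsCoh F)
    (hdim : topologicalKrullDim (CohB1.support F) = ((e : ℕ) : WithBot ℕ∞))
    (R : MvPolynomial (Fin e) ℚ)
    (hR : ∀ n : Fin e → ℕ, fE k X e (fun _ => L) F n = ev n R) :
    0 < MvPolynomial.coeff (Finsupp.equivFunOnFinite.symm fun _ : Fin e => 1) R := by
  classical
  have := Groth.Agent.Lib.R2H1.CurveEuler.isNoetherian_of_proper k X
  obtain ⟨Q, hQ⟩ := exists_Q k e L hL.1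
  obtain ⟨T, hT1, hT2, hsum⟩ := coeff_ones_eq_sum k F hF e hdim.le (fun _ => L) (fun _ => hL.1) R
    hR Q hQ
  have hQpos : ∀ ξ ∈ T, 0 < MvPolynomial.coeff
      (Finsupp.equivFunOnFinite.symm fun _ : Fin e => 1) (Q ξ) := by
    intro ξ hξ
    obtain ⟨hdim', -, -⟩ := hT1 ξ hξ
    letI : (zI ξ).subscheme.Over (Spec (CommRingCat.of k)) :=
      ⟨(zI ξ).subschemeι ≫ (X ↘ Spec (CommRingCat.of k))⟩
    haveI : IsProper ((zI ξ).subscheme ↘ Spec (CommRingCat.of k)) :=
      inferInstanceAs (IsProper ((zI ξ).subschemeι ≫ (X ↘ Spec (CommRingCat.of k))))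
    haveI := isIntegral_zS ξ
    refine Groth.Agent.Lib.R2H4AmplePos.pos k e (zI ξ).subscheme ((dim_zS ξ).trans hdim')
      ((Scheme.Modules.pullback (zI ξ).subschemeι).obj L)
      (Groth.Agent.Lib.Helper23.PB.isAmple_pullback_of_isAffineHom _ L hL) (Q ξ) fun n => ?_
    rw [← hQ ξ hdim' n]
    unfold fE
    rw [fE_quotMod_eq k (zI ξ) e (fun _ => L) (fun _ => hL.1) n]
  have hcl : IsClosed (CohB1.support F) := Groth.Agent.S0020.result X F hF.2
  haveI : QuasiSober ↥(CohB1.support F) := hcl.isClosedEmbedding_subtypeVal.quasiSober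
  obtain ⟨t, ht⟩ := exists_dim_closure_eq (T := ↥(CohB1.support F)) e e hdim le_rfl
  rw [dim_closure_subtype _ hcl t] at ht
  have hξT : (t : X) ∈ T := by
    refine hT2 _ ht ?_
    intro h0
    apply t.2
    unfold lenE at h0
    rw [Module.length_eq_zero_iff] at h0
    exact h0
  rw [hsum]
  refine Finset.sum_pos (fun ξ hξ => ?_) ⟨_, hξT⟩
  obtain ⟨-, h0, htop⟩ := hT1 ξ hξ
  have hnat : 0 < (lenE F ξ).toNat := by
    rw [Nat.pos_iff_ne_zero]
    intro hz
    rcases (ENat.toNat_eq_zero.1 hz) with h | h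
    · exact h0 h
    · exact htop h
  have : (0 : ℚ) < ((lenE F ξ).toNat : ℚ) := by exact_mod_cast hnat
  exact mul_pos this (hQpos ξ hξ)

theorem isHilbPoly_zero (L : X.Modules) {F : X.Modules} (hz : IsZero F) :
    ShStab.IsHilbPoly k X L F 0 := by
  intro m
  rw [Polynomial.eval_zero]
  exact fE_of_isZero k 1 (fun _ => L) F hz (fun _ => m)

theorem isHilbPoly_iso (L : X.Modules) {F G : X.Modules} (e : F ≅ G) {P : Polynomial ℚ}
    (h : ShStab.IsHilbPoly k X L F P) : ShStab.IsHilbPoly k X L G P := by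
  intro m
  have h1 : Curv2.euler k X (ShStab.twist X L G m) = Curv2.euler k X (ShStab.twist X L F m) :=
    Groth.Agent.Lib.R2H1.DegCartier.euler_congr k (tIso e.symm (Iso.refl _))
  rw [h1]
  exact h m

theorem isHilbPoly_add (L : X.Modules) (hL : PicF.IsInvertible L) (S : ShortComplex X.Modules)
    (hS : S.ShortExact) (c₁ : Coh.IsCoh S.X₁) (c₂ : Coh.IsCoh S.X₂) (c₃ : Coh.IsCoh S.X₃)
    {P₁ P₃ : Polynomial ℚ} (h₁ : ShStab.IsHilbPoly k X L S.X₁ P₁)
    (h₃ : ShStab.IsHilbPoly k X L S.X₃ P₃) : ShStab.IsHilbPoly k X L S.X₂ (P₁ + P₃) := by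
  intro m
  rw [Polynomial.eval_add, ← h₁ m, ← h₃ m]
  exact fE_add k 1 (fun _ => L) (fun _ => hL) S hS c₁ c₂ c₃ (fun _ => m)

theorem isHilbPoly_unique (L : X.Modules) {F : X.Modules} {P Q : Polynomial ℚ}
    (h₁ : ShStab.IsHilbPoly k X L F P) (h₂ : ShStab.IsHilbPoly k X L F Q) : P = Q :=
  eq_of_forall_eval_eq fun m => (h₁ m).symm.trans (h₂ m)

/-- **the axioms of `HilbStab` hold for coherent modules on a projective scheme** -/
theorem hilbAx (L : X.Modules) (hL : CohB1.IsAmple L) :
    HilbStab.Ax (C := X.Modules) Coh.IsCoh (ShStab.IsHilbPoly k X L)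
      (fun F => topologicalKrullDim (CohB1.support F)) := by
  haveI := Groth.Agent.Lib.R2H1.CurveEuler.isNoetherian_of_proper k X
  refine
    { ok_ker := fun π hE hQ => Groth.Agent.Lib.R2H2.PdSheaf.isCoh_kernel hE hQ π
      ok_coker := fun ι hF hE => Groth.Agent.Lib.R2H2.NilFilt.isCoh_cokernel hF hE ι
      hp_exists := ?_
      hp_unique := fun h₁ h₂ => isHilbPoly_unique k L h₁ h₂
      hp_iso := fun e _ h => isHilbPoly_iso k L e h
      hp_zero := fun hz => isHilbPoly_zero k L hz
      hp_add := fun S hS c₁ c₂ c₃ _ _ h₁ h₃ => isHilbPoly_add k L hL.1 S hS c₁ c₂ c₃ h₁ h₃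
      sdim_mono := fun ι hι => by
        haveI := hι
        exact sdim_le_of_subset (support_subset_of_mono ι)
      sdim_epi := fun π hπ => by
        haveI := hπ
        exact sdim_le_of_subset (support_subset_of_epi π)
      sdim_zero := fun hz => sdim_of_isZero hz
      sdim_nat := fun _ hnz => sdim_nat k hnz
      deg_le := ?_
      alpha_pos := ?_ }
  · intro F hF
    by_cases hz : IsZero F
    · exact ⟨0, isHilbPoly_zero k L hz⟩
    · obtain ⟨e, he⟩ := sdim_nat k hz
      obtain ⟨a, ha, -⟩ := exists_hilbPoly k L hL.1 F hF e he.le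
      exact ⟨_, ha⟩
  · intro F P e hF hP hle
    obtain ⟨a, ha, -⟩ := exists_hilbPoly k L hL.1 F hF e hle
    rw [isHilbPoly_unique k L hP ha]
    exact natDegree_polyOf_le a e
  · intro F P e hF hP heq
    obtain ⟨a, ha, hcoef⟩ := exists_hilbPoly k L hL.1 F hF e heq.le
    obtain ⟨R, -, hR⟩ := s1528 k F hF e heq.le e (fun _ => L) (fun _ => hL.1)
    have hpos := coeff_ones_pos_of_coh k e L hL F hF heq R hR
    rw [hcoef R hR] at hpos
    rw [isHilbPoly_unique k L hP ha]
    unfold StabCat.alpha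
    rw [coeff_polyOf]
    exact hpos

end HP

end Groth.Agent.Lib.R2H7.HilbPoly
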