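import Mathlib
import Groth.Prelude.Def_StabCat
import Groth.Agent.Lib.R2H7StabNum
import Groth.Agent.Lib.R2H7HilbStab
import Groth.Agent.Lib.R2H7HilbStabB
import Groth.Agent.Lib.R2H7HilbStabC

/-!
# helper7: abstract (semi)stability, part D: saturation and the quotient criteria

* `exists_saturation` : under the ascending chain condition on tested subobjects, every tested
  subobject `F` of a pure object `E` is contained in a tested subobject `F'` with `E / F'` zero or
  pure, `P(F') = P(F) + P(T)` with `T` of smaller dimension;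
* `Ax.ss_tfae`, `Ax.st_tfae` : (semi)stability can be tested on saturated subobjects, on quotients
  of positive multiplicity, on pure quotients.
-/

set_option autoImplicit false
universe v u
open CategoryTheory CategoryTheory.Limits Polynomial StabCat Filter
open Groth.Agent.Lib.R2H7.StabNum

namespace Groth.Agent.Lib.R2H7.HilbStab

variable {C : Type u} [Category.{v} C] [Abelian C]
variable {ok : C → Prop} {HP : C → ℚ[X] → Prop} {sdim : C → WithBot ℕ∞}

namespace Ax

variable (ax : Ax ok HP sdim)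
include ax

theorem exists_saturation (axn : AxN ok HP)
    (hacc : ∀ {Q : C}, ok Q → WellFoundedGT {S : Subobject Q // ok (S : C)})
    {E F : C} {d : ℕ} (okE : ok E) (nzE : ¬ IsZero E) (pureE : Pure ok sdim E d) (ι : F ⟶ E)
    [Mono ι] (okF : ok F) {pF pE : ℚ[X]} (hpF : HP F pF) (hpE : HP E pE) :
    ∃ (pT : ℚ[X]) (F' : C) (ι' : F' ⟶ E), Mono ι' ∧ ok F' ∧ HP F' (pF + pT) ∧ alpha d pT = 0 ∧
      (∀ᶠ m : ℕ in atTop, 0 ≤ pT.eval (m : ℚ)) ∧
      (IsZero (cokernel ι') ∨ Pure ok sdim (cokernel ι') d) := by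
  classical
  have okQ := ax.ok_coker ι okF okE
  have hpQ := ax.hp_coker ι okF okE hpF hpE
  have dimE : sdim E = (d : WithBot ℕ∞) := pureE E (𝟙 E) inferInstance okE nzE
  have dimQ : sdim (cokernel ι) ≤ (d : WithBot ℕ∞) :=
    (ax.sdim_epi (cokernel.π ι) inferInstance).trans dimE.le
  haveI := hacc okQ
  have hzBot : IsZero ((⊥ : Subobject (cokernel ι)) : C) :=
    (isZero_zero C).of_iso Subobject.botCoeIsoZero
  have okBot : ok ((⊥ : Subobject (cokernel ι)) : C) := by
    have hz1 : IsZero (kernel (𝟙 E)) := isZero_kernel_of_mono (𝟙 E)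
    exact axn.ok_iso (hz1.iso hzBot) (ax.ok_ker (𝟙 E) okE okE)
  let 𝒯 : Set {S : Subobject (cokernel ι) // ok (S : C)} :=
    {S | sdim (S.1 : C) < (d : WithBot ℕ∞)}
  have hne : 𝒯.Nonempty := by
    refine ⟨⟨⊥, okBot⟩, ?_⟩
    show sdim ((⊥ : Subobject (cokernel ι)) : C) < (d : WithBot ℕ∞)
    rw [ax.sdim_zero hzBot]
    exact WithBot.bot_lt_coe (d : ℕ∞)
  obtain ⟨T, hT, hmax⟩ := wellFounded_gt.has_min 𝒯 hne
  have okT := T.2
  obtain ⟨pT, hpT⟩ := ax.hp_exists okT
  have aT : alpha d pT = 0 := ax.alpha_eq_zero okT hpT hT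
  have hT0 : ∀ᶠ m : ℕ in atTop, 0 ≤ pT.eval (m : ℚ) := by
    by_cases hz : IsZero (T.1 : C)
    · rw [ax.hp_eq_zero hz hpT]
      exact Eventually.of_forall fun m => by rw [eval_zero]
    · exact (ax.eventually_pos okT hz hpT).mono fun m hm => hm.le
  have okR := ax.ok_coker T.1.arrow okT okQ
  have hpR := ax.hp_coker T.1.arrow okT okQ hpT hpQ
  haveI : Epi (cokernel.π ι ≫ cokernel.π T.1.arrow) := epi_comp _ _
  have okF' := ax.ok_ker (cokernel.π ι ≫ cokernel.π T.1.arrow) okE okR
  have hpF' := ax.hp_ker (cokernel.π ι ≫ cokernel.π T.1.arrow) okE okR hpE hpR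
  have hpF'' : HP (kernel (cokernel.π ι ≫ cokernel.π T.1.arrow)) (pF + pT) := by
    have : pE - (pE - pF - pT) = pF + pT := by ring
    rwa [this] at hpF'
  haveI hIso : IsIso (Abelian.factorThruCoimage (cokernel.π ι ≫ cokernel.π T.1.arrow)) :=
    Abelian.isIso_factorThruCoimage _
  let eR : cokernel (kernel.ι (cokernel.π ι ≫ cokernel.π T.1.arrow)) ≅ cokernel T.1.arrow :=
    @asIso _ _ _ _ (Abelian.factorThruCoimage (cokernel.π ι ≫ cokernel.π T.1.arrow)) hIso
  refine ⟨pT, _, kernel.ι (cokernel.π ι ≫ cokernel.π T.1.arrow), inferInstance, okF', hpF'', aT,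
    hT0, ?_⟩
  by_cases hzR : IsZero (cokernel T.1.arrow)
  · exact Or.inl (hzR.of_iso eR)
  · refine Or.inr (pure_of_iso eR.symm ?_)
    intro S σ hσ okS nzS
    haveI := hσ
    by_contra hneS
    have hleS : sdim S ≤ (d : WithBot ℕ∞) :=
      (ax.sdim_mono σ hσ).trans ((ax.sdim_epi (cokernel.π T.1.arrow) inferInstance).trans dimQ)
    have hltS := lt_of_le_of_ne hleS hneS
    obtain ⟨pS, hpS⟩ := ax.hp_exists okS
    have aS : alpha d pS = 0 := ax.alpha_eq_zero okS hpS hltS
    have okRS := ax.ok_coker σ okS okR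
    have hpRS := ax.hp_coker σ okS okR hpS hpR
    haveI : Epi (cokernel.π T.1.arrow ≫ cokernel.π σ) := epi_comp _ _
    have okT' := ax.ok_ker (cokernel.π T.1.arrow ≫ cokernel.π σ) okQ okRS
    have hpT' := ax.hp_ker (cokernel.π T.1.arrow ≫ cokernel.π σ) okQ okRS hpQ hpRS
    have hpT'' : HP (kernel (cokernel.π T.1.arrow ≫ cokernel.π σ)) (pT + pS) := by
      have : pE - pF - (pE - pF - pT - pS) = pT + pS := by ring
      rwa [this] at hpT'
    have dimT' : sdim (kernel (cokernel.π T.1.arrow ≫ cokernel.π σ)) < (d : WithBot ℕ∞) := by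
      have hle : sdim (kernel (cokernel.π T.1.arrow ≫ cokernel.π σ)) ≤ (d : WithBot ℕ∞) :=
        (ax.sdim_mono (kernel.ι (cokernel.π T.1.arrow ≫ cokernel.π σ)) inferInstance).trans dimQ
      refine lt_of_le_of_ne hle fun heq => ?_
      have := ax.alpha_pos d okT' hpT'' heq
      rw [alpha_add, aT, aS, add_zero] at this
      exact lt_irrefl _ this
    have okMk : ok ((Subobject.mk (kernel.ι (cokernel.π T.1.arrow ≫ cokernel.π σ)) :
        Subobject (cokernel ι)) : C) :=
      axn.ok_iso (Subobject.underlyingIso _).symm okT'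
    have memT' : (⟨Subobject.mk (kernel.ι (cokernel.π T.1.arrow ≫ cokernel.π σ)), okMk⟩ :
        {S : Subobject (cokernel ι) // ok (S : C)}) ∈ 𝒯 := by
      show sdim ((Subobject.mk (kernel.ι (cokernel.π T.1.arrow ≫ cokernel.π σ)) :
        Subobject (cokernel ι)) : C) < (d : WithBot ℕ∞)
      rw [ax.sdim_iso (Subobject.underlyingIso _)]
      exact dimT'
    have hle' : T.1 ≤ Subobject.mk (kernel.ι (cokernel.π T.1.arrow ≫ cokernel.π σ)) := by
      refine Subobject.le_mk_of_comm (kernel.lift _ T.1.arrow ?_) (kernel.lift_ι _ _ _)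
      rw [← Category.assoc, cokernel.condition, Limits.zero_comp]
    have hne' : T.1 ≠ Subobject.mk (kernel.ι (cokernel.π T.1.arrow ≫ cokernel.π σ)) := by
      intro heq
      have e : (T.1 : C) ≅ kernel (cokernel.π T.1.arrow ≫ cokernel.π σ) :=
        Subobject.isoOfEqMk T.1 _ heq
      have h1 : pT + pS = pT := ax.hp_unique hpT'' (ax.hp_iso e hpT)
      have h2 : pS = 0 := by linear_combination h1
      obtain ⟨m, hm⟩ := (ax.eventually_pos okS nzS hpS).exists
      rw [h2, eval_zero] at hm
      exact lt_irrefl _ hm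
    exact hmax ⟨_, okMk⟩ memT'
      (lt_of_le_of_ne (show T ≤ ⟨_, okMk⟩ from hle') fun h => hne' (congrArg Subtype.val h))

/-- semistability tested on saturated subobjects or on quotients -/
theorem ss_tfae (axn : AxN ok HP)
    (hacc : ∀ {Q : C}, ok Q → WellFoundedGT {S : Subobject Q // ok (S : C)})
    {E : C} {d : ℕ} (okE : ok E) (nzE : ¬ IsZero E) (pureE : Pure ok sdim E d) :
    [SS ok HP sdim E d,
      ∀ (F : C) (ι : F ⟶ E), Mono ι → ok F → ¬ IsZero F → ¬ IsIso ι →
        Pure ok sdim (cokernel ι) d →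
        ∀ (pF pE : ℚ[X]), HP F pF → HP E pE → RedLE d pF pE,
      ∀ (G : C) (π : E ⟶ G), Epi π → ok G → ¬ IsIso π →
        ∀ (pE pG : ℚ[X]), HP E pE → HP G pG → 0 < alpha d pG → RedLE d pE pG,
      ∀ (G : C) (π : E ⟶ G), Epi π → ok G → ¬ IsZero G → ¬ IsIso π →
        Pure ok sdim G d →
        ∀ (pE pG : ℚ[X]), HP E pE → HP G pG → RedLE d pE pG].TFAE := by
  tfae_have 1 → 3 := by
    intro h G π hπ okG _ pE pG hpE hpG _
    haveI := hπ
    exact ax.redLE_quot h.1 h.2.2.2 π okG hpE hpG
  tfae_have 3 → 4 := by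
    intro h G π hπ okG nzG hniso pureG pE pG hpE hpG
    exact h G π hπ okG hniso pE pG hpE hpG (ax.alpha_pos_of_pure okG nzG pureG hpG)
  tfae_have 4 → 2 := by
    intro h F ι hι okF nzF hniso pureQ pF pE hpF hpE
    haveI := hι
    have okQ := ax.ok_coker ι okF okE
    have nzQ := not_isZero_cokernel ι hniso
    have hpQ := ax.hp_coker ι okF okE hpF hpE
    have hnπ : ¬ IsIso (cokernel.π ι) := by
      intro hiso
      haveI := hiso
      have h0 : ι = 0 := by
        rw [← cancel_mono (cokernel.π ι), cokernel.condition, Limits.zero_comp]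
      exact nzF (IsZero.of_mono_eq_zero ι h0)
    have h1 := h (cokernel ι) (cokernel.π ι) inferInstance okQ nzQ hnπ pureQ pE (pE - pF) hpE hpQ
    rw [redLE_iff] at h1 ⊢
    rw [alpha_sub] at h1
    filter_upwards [h1] with m hm
    rw [eval_sub] at hm
    nlinarith [hm]
  tfae_have 2 → 1 := by
    intro h
    refine ⟨okE, nzE, pureE, ?_⟩
    intro F ι hι okF nzF hniso pF pE hpF hpE
    haveI := hι
    obtain ⟨pT, F', ι', mι', okF', hpF', aT, hT0, hR⟩ :=
      ax.exists_saturation axn hacc okE nzE pureE ι okF hpF hpE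
    haveI := mι'
    obtain ⟨aF, -, hev, -, -⟩ := ax.sub_data okE pureE ι okF nzF hniso hpF hpE
    have aE := ax.alpha_pos_of_pure okE nzE pureE hpE
    by_cases hiso' : IsIso ι'
    · haveI := hiso'
      have hE' : pE = pF + pT := ax.hp_unique hpE (ax.hp_iso (asIso ι') hpF')
      have hα : alpha d pE = alpha d pF := by rw [hE', alpha_add, aT, add_zero]
      rw [redLE_iff, hα]
      filter_upwards [hev] with m hm
      exact mul_le_mul_of_nonneg_left hm.le aF.le
    · have hpure : Pure ok sdim (cokernel ι') d := by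
        rcases hR with hz | hp
        · exfalso
          haveI : Epi ι' := Preadditive.epi_of_isZero_cokernel ι' hz
          exact hiso' (isIso_of_mono_of_epi ι')
        · exact hp
      have nzF' : ¬ IsZero F' := by
        intro hz
        have h0 := ax.hp_eq_zero hz hpF'
        obtain ⟨m, h1, h2⟩ := ((ax.eventually_pos okF nzF hpF).and hT0).exists
        have h3 := congrArg (eval (m : ℚ)) h0
        rw [eval_add, eval_zero] at h3
        linarith
      have h1 := h F' ι' mι' okF' nzF' hiso' hpure (pF + pT) pE hpF' hpE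
      rw [redLE_iff] at h1 ⊢
      rw [alpha_add, aT, add_zero] at h1
      filter_upwards [h1, hT0] with m hm h0
      rw [eval_add] at hm
      nlinarith [mul_nonneg aE.le h0]
  tfae_finish

/-- stability tested on saturated subobjects or on quotients -/
theorem st_tfae (axn : AxN ok HP)
    (hacc : ∀ {Q : C}, ok Q → WellFoundedGT {S : Subobject Q // ok (S : C)})
    {E : C} {d : ℕ} (okE : ok E) (nzE : ¬ IsZero E) (pureE : Pure ok sdim E d) :
    [St ok HP sdim E d,
      ∀ (F : C) (ι : F ⟶ E), Mono ι → ok F → ¬ IsZero F → ¬ IsIso ι →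
        Pure ok sdim (cokernel ι) d →
        ∀ (pF pE : ℚ[X]), HP F pF → HP E pE → RedLT d pF pE,
      ∀ (G : C) (π : E ⟶ G), Epi π → ok G → ¬ IsIso π →
        ∀ (pE pG : ℚ[X]), HP E pE → HP G pG → 0 < alpha d pG → RedLT d pE pG,
      ∀ (G : C) (π : E ⟶ G), Epi π → ok G → ¬ IsZero G → ¬ IsIso π →
        Pure ok sdim G d →
        ∀ (pE pG : ℚ[X]), HP E pE → HP G pG → RedLT d pE pG].TFAE := by
  tfae_have 1 → 3 := by
    intro h G π hπ okG hniso pE pG hpE hpG hpos
    haveI := hπ
    have nzG : ¬ IsZero G := by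
      intro hz
      rw [ax.hp_eq_zero hz hpG, alpha_zero] at hpos
      exact lt_irrefl _ hpos
    exact ax.redLT_quot h.1 h.2.2.2 π okG nzG hniso hpE hpG
  tfae_have 3 → 4 := by
    intro h G π hπ okG nzG hniso pureG pE pG hpE hpG
    exact h G π hπ okG hniso pE pG hpE hpG (ax.alpha_pos_of_pure okG nzG pureG hpG)
  tfae_have 4 → 2 := by
    intro h F ι hι okF nzF hniso pureQ pF pE hpF hpE
    haveI := hι
    have okQ := ax.ok_coker ι okF okE
    have nzQ := not_isZero_cokernel ι hniso
    have hpQ := ax.hp_coker ι okF okE hpF hpE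
    have hnπ : ¬ IsIso (cokernel.π ι) := by
      intro hiso
      haveI := hiso
      have h0 : ι = 0 := by
        rw [← cancel_mono (cokernel.π ι), cokernel.condition, Limits.zero_comp]
      exact nzF (IsZero.of_mono_eq_zero ι h0)
    have h1 := h (cokernel ι) (cokernel.π ι) inferInstance okQ nzQ hnπ pureQ pE (pE - pF) hpE hpQ
    rw [redLT_iff] at h1 ⊢
    rw [alpha_sub] at h1
    filter_upwards [h1] with m hm
    rw [eval_sub] at hm
    nlinarith [hm]
  tfae_have 2 → 1 := by
    intro h
    refine ⟨okE, nzE, pureE, ?_⟩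
    intro F ι hι okF nzF hniso pF pE hpF hpE
    haveI := hι
    obtain ⟨pT, F', ι', mι', okF', hpF', aT, hT0, hR⟩ :=
      ax.exists_saturation axn hacc okE nzE pureE ι okF hpF hpE
    haveI := mι'
    obtain ⟨aF, -, hev, -, -⟩ := ax.sub_data okE pureE ι okF nzF hniso hpF hpE
    have aE := ax.alpha_pos_of_pure okE nzE pureE hpE
    by_cases hiso' : IsIso ι'
    · haveI := hiso'
      have hE' : pE = pF + pT := ax.hp_unique hpE (ax.hp_iso (asIso ι') hpF')
      have hα : alpha d pE = alpha d pF := by rw [hE', alpha_add, aT, add_zero]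
      rw [redLT_iff, hα]
      filter_upwards [hev] with m hm
      exact mul_lt_mul_of_pos_left hm aF
    · have hpure : Pure ok sdim (cokernel ι') d := by
        rcases hR with hz | hp
        · exfalso
          haveI : Epi ι' := Preadditive.epi_of_isZero_cokernel ι' hz
          exact hiso' (isIso_of_mono_of_epi ι')
        · exact hp
      have nzF' : ¬ IsZero F' := by
        intro hz
        have h0 := ax.hp_eq_zero hz hpF'
        obtain ⟨m, h1, h2⟩ := ((ax.eventually_pos okF nzF hpF).and hT0).exists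
        have h3 := congrArg (eval (m : ℚ)) h0
        rw [eval_add, eval_zero] at h3
        linarith
      have h1 := h F' ι' mι' okF' nzF' hiso' hpure (pF + pT) pE hpF' hpE
      rw [redLT_iff] at h1 ⊢
      rw [alpha_add, aT, add_zero] at h1
      filter_upwards [h1, hT0] with m hm h0
      rw [eval_add] at hm
      nlinarith [mul_nonneg aE.le h0]
  tfae_finish

end Ax

end Groth.Agent.Lib.R2H7.HilbStab
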