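import Mathlib
import Groth.Prelude
import Groth.Agent.Lib.R2H7HilbPoly
import Groth.Agent.Lib.R2H7HilbStabC
import Groth.Agent.Lib.R2H7HilbStabD
import Groth.Agent.Lib.R2H7CohACC
import Groth.Agent.Lib.R2H2PdSheaf

/-!
# helper7: the remaining abstract inputs for coherent modules on a projective scheme

* `hilbAxN` : `HilbStab.AxN` (coherence is invariant under isomorphism, Hilbert polynomials are
  integer valued);
* `hilbAcc` : the ascending chain condition on coherent subobjects of a coherent module;
* `hilbBiprod` : binary biproducts of coherent modules are coherent.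
-/

set_option autoImplicit false
universe u
open CategoryTheory CategoryTheory.Limits AlgebraicGeometry

namespace Groth.Agent.Lib.R2H7.HilbPoly

variable (k : Type u) [Field k] {X : Scheme.{u}} [X.Over (Spec (CommRingCat.of k))]

theorem hilbAxN (L : X.Modules) :
    HilbStab.AxN (C := X.Modules) Coh.IsCoh (ShStab.IsHilbPoly k X L) where
  ok_iso := fun e h => Groth.Agent.Lib.R2H2.PdSheaf.isCoh_of_iso e h
  hp_int := fun {F} {_} _ hP m => ⟨Curv2.euler k X (ShStab.twist X L F m), (hP m).symm⟩

theorem hilbAcc [IsProper (X ↘ Spec (CommRingCat.of k))] {Q : X.Modules} (hQ : Coh.IsCoh Q) :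
    WellFoundedGT {S : Subobject Q // Coh.IsCoh (S : X.Modules)} := by
  haveI := Groth.Agent.Lib.R2H1.CurveEuler.isNoetherian_of_proper k X
  exact Groth.Agent.Lib.R2H7.CohACC.acc Q hQ

theorem hilbBiprod {A B : X.Modules} (hA : Coh.IsCoh A) (hB : Coh.IsCoh B) :
    Coh.IsCoh (A ⊞ B) :=
  Groth.Agent.Lib.R2H2.PdSheaf.isCoh_biprod A B hA hB

end Groth.Agent.Lib.R2H7.HilbPoly
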