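import Mathlib
import Groth.Prelude.Def_StabCat
import Groth.Agent.Lib.R2H7StabNum
import Groth.Agent.Lib.R2H7HilbStab
import Groth.Agent.Lib.R2H7HilbStabB
import Groth.Agent.Lib.R2H7HilbStabC

/-!
# helper7: abstract (semi)stability, part E: kernels and cokernels

`Ax.ker_coker_ss` : for a morphism between semistable objects with the same reduced polynomial the
kernel and the cokernel are zero or semistable with that reduced polynomial (the semistable
objects with a fixed reduced polynomial form an abelian subcategory).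
-/

set_option autoImplicit false
universe v u
open CategoryTheory CategoryTheory.Limits Polynomial StabCat Filter
open Groth.Agent.Lib.R2H7.StabNum

namespace Groth.Agent.Lib.R2H7.HilbStab

theorem redEq_sub' {d : ℕ} {f g p : ℚ[X]} (h1 : RedEq d f p) (h2 : RedEq d g p) :
    RedEq d (f - g) p := by
  unfold RedEq at *
  rw [smul_sub, alpha_sub, sub_smul, h1, h2]

variable {C : Type u} [Category.{v} C] [Abelian C]
variable {ok : C → Prop} {HP : C → ℚ[X] → Prop} {sdim : C → WithBot ℕ∞}

namespace Ax

variable (ax : Ax ok HP sdim)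
include ax

theorem ker_coker_ss (axn : AxN ok HP) {E F : C} {d : ℕ} (hE : SS ok HP sdim E d)
    (hF : SS ok HP sdim F d) {pE pF : ℚ[X]} (hpE : HP E pE) (hpF : HP F pF)
    (hred : RedEq d pE pF) (f : E ⟶ F) :
    (IsZero (kernel f) ∨ (SS ok HP sdim (kernel f) d ∧
        ∀ pK : ℚ[X], HP (kernel f) pK → RedEq d pK pE)) ∧
    (IsZero (cokernel f) ∨ (SS ok HP sdim (cokernel f) d ∧
        ∀ pQ : ℚ[X], HP (cokernel f) pQ → RedEq d pQ pE)) := by
  have okE := hE.1
  have okF := hF.1
  have aE := ax.alpha_pos_of_pure hE.1 hE.2.1 hE.2.2.1 hpE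
  have aF := ax.alpha_pos_of_pure hF.1 hF.2.1 hF.2.2.1 hpF
  have hredFE : RedEq d pF pE := hred.symm
  by_cases hI : IsZero (Abelian.image f)
  · -- `f = 0`
    have hf : f = 0 := by
      rw [← Abelian.image.fac f]
      exact (hI.eq_of_tgt (Abelian.factorThruImage f) 0).symm ▸ Limits.zero_comp
    subst hf
    constructor
    · right
      refine ⟨ax.ss_of_iso axn (asIso (kernel.ι (0 : E ⟶ F))).symm hE, fun pK hpK => ?_⟩
      rw [ax.hp_unique hpK (ax.hp_iso (asIso (kernel.ι (0 : E ⟶ F))).symm hpE)]
      exact redEq_refl d _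
    · right
      refine ⟨ax.ss_of_iso axn (asIso (cokernel.π (0 : E ⟶ F))) hF, fun pQ hpQ => ?_⟩
      rw [ax.hp_unique hpQ (ax.hp_iso (asIso (cokernel.π (0 : E ⟶ F))) hpF)]
      exact hredFE
  · have okI := ax.ok_image f okE okF
    obtain ⟨pI, hpI⟩ := ax.hp_exists okI
    have aI : 0 < alpha d pI :=
      ax.alpha_pos d okI hpI
        (hF.2.2.1 _ (Abelian.image.ι f) inferInstance okI hI)
    have h1 : RedLE d pE pI :=
      ax.redLE_quot okE hE.2.2.2 (Abelian.factorThruImage f) okI hpE hpI
    have h2 : RedLE d pI pF := ax.redLE_sub hF.2.2.2 (Abelian.image.ι f) okI hI hpI hpF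
    have h3 : RedLE d pI pE := redLE_trans aI.le aF aE.le h2 (redLE_of_redEq hredFE)
    have hIE : RedEq d pI pE := redEq_of_redLE_of_redLE h3 h1
    have hIF : RedEq d pI pF := redEq_trans aE.ne' hIE hred
    constructor
    · -- the kernel
      by_cases hK : IsZero (kernel f)
      · exact Or.inl hK
      · right
        have okK := ax.ok_ker f okE okF
        have e : kernel f ≅ kernel (Abelian.factorThruImage f) :=
          kernelIsoOfEq (Abelian.image.fac f).symm ≪≫
            kernelCompMono (Abelian.factorThruImage f) (Abelian.image.ι f)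
        have hpK0 := ax.hp_ker (Abelian.factorThruImage f) okE okI hpE hpI
        have hpK : HP (kernel f) (pE - pI) := ax.hp_iso e.symm hpK0
        have heq : RedEq d (pE - pI) pE := redEq_sub' (redEq_refl d pE) hIE
        refine ⟨ax.ss_of_sub_redEq hE (kernel.ι f) okK hK hpK hpE heq, fun pK hpK' => ?_⟩
        rw [ax.hp_unique hpK' hpK]
        exact heq
    · -- the cokernel
      have e : cokernel f ≅ cokernel (Abelian.image.ι f) :=
        cokernelIsoOfEq (Abelian.image.fac f).symm ≪≫
          cokernelEpiComp (Abelian.factorThruImage f) (Abelian.image.ι f)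
      by_cases hiso : IsIso (Abelian.image.ι f)
      · left
        haveI := hiso
        exact (isZero_cokernel_of_epi (Abelian.image.ι f)).of_iso e
      · right
        obtain ⟨hpQ, hQF, -, -⟩ :=
          ax.quot_data hF (Abelian.image.ι f) okI hI hiso hpI hpF hIF
        have hss := ax.ss_quot hF (Abelian.image.ι f) okI hI hiso hpI hpF hIF
        refine ⟨ax.ss_of_iso axn e.symm hss, fun pQ hpQ' => ?_⟩
        rw [ax.hp_unique hpQ' (ax.hp_iso e.symm hpQ)]
        exact redEq_trans aF.ne' hQF hredFE

end Ax

end Groth.Agent.Lib.R2H7.HilbStab
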