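import Mathlib
import Groth.Prelude.Def_StabCat
import Groth.Agent.Lib.R2H7StabNum
import Groth.Agent.Lib.R2H7HilbStab
import Groth.Agent.Lib.R2H7HilbStabB
import Groth.Agent.Lib.R2H7HilbStabC
import Groth.Agent.Lib.R2H7HilbStabD

/-!
# helper7: saturation with the inclusion recorded

`exists_saturation_fac` is `Ax.exists_saturation` together with the factorisation `F ⟶ F'` of the
given monomorphism through its saturation.
-/

set_option autoImplicit false
universe v u
open CategoryTheory CategoryTheory.Limits Polynomial StabCat Filter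
open Groth.Agent.Lib.R2H7.StabNum Groth.Agent.Lib.R2H7.HilbStab

namespace Groth.Agent.Lib.R2H7.HilbStabSat

variable {C : Type u} [Category.{v} C] [Abelian C]
variable {ok : C → Prop} {HP : C → ℚ[X] → Prop} {sdim : C → WithBot ℕ∞}

variable (ax : Ax ok HP sdim)
include ax

theorem exists_saturation_fac (axn : AxN ok HP)
    (hacc : ∀ {Q : C}, ok Q → WellFoundedGT {S : Subobject Q // ok (S : C)})
    {E F : C} {d : ℕ} (okE : ok E) (nzE : ¬ IsZero E) (pureE : Pure ok sdim E d) (ι : F ⟶ E)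
    [Mono ι] (okF : ok F) {pF pE : ℚ[X]} (hpF : HP F pF) (hpE : HP E pE) :
    ∃ (pT : ℚ[X]) (F' : C) (ι' : F' ⟶ E), Mono ι' ∧ ok F' ∧ HP F' (pF + pT) ∧ alpha d pT = 0 ∧
      (∀ᶠ m : ℕ in atTop, 0 ≤ pT.eval (m : ℚ)) ∧
      (IsZero (cokernel ι') ∨ Pure ok sdim (cokernel ι') d) ∧ ∃ j : F ⟶ F', j ≫ ι' = ι := by
  classical
  have okQ := ax.ok_coker ι okF okE
  have hpQ := ax.hp_coker ι okF okE hpF hpE
  have dimE : sdim E = (d : WithBot ℕ∞) := pureE E (𝟙 E) inferInstance okE nzE
  have dimQ : sdim (cokernel ι) ≤ (d : WithBot ℕ∞) :=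
    (ax.sdim_epi (cokernel.π ι) inferInstance).trans dimE.le
  haveI := hacc okQ
  have hzBot : IsZero ((⊥ : Subobject (cokernel ι)) : C) :=
    (isZero_zero C).of_iso Subobject.botCoeIsoZero
  have okBot : ok ((⊥ : Subobject (cokernel ι)) : C) := by
    have hz1 : IsZero (kernel (𝟙 E)) := isZero_kernel_of_mono (𝟙 E)
    exact axn.ok_iso (hz1.iso hzBot) (ax.ok_ker (𝟙 E) okE okE)
  let 𝒯 : Set {S : Subobject (cokernel ι) // ok (S : C)} :=
    {S | sdim (S.1 : C) < (d : WithBot ℕ∞)}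
  have hne : 𝒯.Nonempty := by
    refine ⟨⟨⊥, okBot⟩, ?_⟩
    show sdim ((⊥ : Subobject (cokernel ι)) : C) < (d : WithBot ℕ∞)
    rw [ax.sdim_zero hzBot]
    exact WithBot.bot_lt_coe (d : ℕ∞)
  obtain ⟨T, hT, hmax⟩ := wellFounded_gt.has_min 𝒯 hne
  have okT := T.2
  obtain ⟨pT, hpT⟩ := ax.hp_exists okT
  have aT : alpha d pT = 0 := ax.alpha_eq_zero okT hpT hT
  have hT0 : ∀ᶠ m : ℕ in atTop, 0 ≤ pT.eval (m : ℚ) := by
    by_cases hz : IsZero (T.1 : C)
    · rw [ax.hp_eq_zero hz hpT]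
      exact Eventually.of_forall fun m => by rw [eval_zero]
    · exact (ax.eventually_pos okT hz hpT).mono fun m hm => hm.le
  have okR := ax.ok_coker T.1.arrow okT okQ
  have hpR := ax.hp_coker T.1.arrow okT okQ hpT hpQ
  haveI : Epi (cokernel.π ι ≫ cokernel.π T.1.arrow) := epi_comp _ _
  have okF' := ax.ok_ker (cokernel.π ι ≫ cokernel.π T.1.arrow) okE okR
  have hpF' := ax.hp_ker (cokernel.π ι ≫ cokernel.π T.1.arrow) okE okR hpE hpR
  have hpF'' : HP (kernel (cokernel.π ι ≫ cokernel.π T.1.arrow)) (pF + pT) := by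
    have : pE - (pE - pF - pT) = pF + pT := by ring
    rwa [this] at hpF'
  haveI hIso : IsIso (Abelian.factorThruCoimage (cokernel.π ι ≫ cokernel.π T.1.arrow)) :=
    Abelian.isIso_factorThruCoimage _
  let eR : cokernel (kernel.ι (cokernel.π ι ≫ cokernel.π T.1.arrow)) ≅ cokernel T.1.arrow :=
    @asIso _ _ _ _ (Abelian.factorThruCoimage (cokernel.π ι ≫ cokernel.π T.1.arrow)) hIso
  refine ⟨pT, _, kernel.ι (cokernel.π ι ≫ cokernel.π T.1.arrow), inferInstance, okF', hpF'', aT,
    hT0, ?_, kernel.lift _ ι (by rw [← Category.assoc, cokernel.condition, Limits.zero_comp]),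
    kernel.lift_ι _ _ _⟩
  by_cases hzR : IsZero (cokernel T.1.arrow)
  · exact Or.inl (hzR.of_iso eR)
  · refine Or.inr (pure_of_iso eR.symm ?_)
    intro S σ hσ okS nzS
    haveI := hσ
    by_contra hneS
    have hleS : sdim S ≤ (d : WithBot ℕ∞) :=
      (ax.sdim_mono σ hσ).trans ((ax.sdim_epi (cokernel.π T.1.arrow) inferInstance).trans dimQ)
    have hltS := lt_of_le_of_ne hleS hneS
    obtain ⟨pS, hpS⟩ := ax.hp_exists okS
    have aS : alpha d pS = 0 := ax.alpha_eq_zero okS hpS hltS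
    have okRS := ax.ok_coker σ okS okR
    have hpRS := ax.hp_coker σ okS okR hpS hpR
    haveI : Epi (cokernel.π T.1.arrow ≫ cokernel.π σ) := epi_comp _ _
    have okT' := ax.ok_ker (cokernel.π T.1.arrow ≫ cokernel.π σ) okQ okRS
    have hpT' := ax.hp_ker (cokernel.π T.1.arrow ≫ cokernel.π σ) okQ okRS hpQ hpRS
    have hpT'' : HP (kernel (cokernel.π T.1.arrow ≫ cokernel.π σ)) (pT + pS) := by
      have : pE - pF - (pE - pF - pT - pS) = pT + pS := by ring
      rwa [this] at hpT'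
    have dimT' : sdim (kernel (cokernel.π T.1.arrow ≫ cokernel.π σ)) < (d : WithBot ℕ∞) := by
      have hle : sdim (kernel (cokernel.π T.1.arrow ≫ cokernel.π σ)) ≤ (d : WithBot ℕ∞) :=
        (ax.sdim_mono (kernel.ι (cokernel.π T.1.arrow ≫ cokernel.π σ)) inferInstance).trans dimQ
      refine lt_of_le_of_ne hle fun heq => ?_
      have := ax.alpha_pos d okT' hpT'' heq
      rw [alpha_add, aT, aS, add_zero] at this
      exact lt_irrefl _ this
    have okMk : ok ((Subobject.mk (kernel.ι (cokernel.π T.1.arrow ≫ cokernel.π σ)) :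
        Subobject (cokernel ι)) : C) :=
      axn.ok_iso (Subobject.underlyingIso _).symm okT'
    have memT' : (⟨Subobject.mk (kernel.ι (cokernel.π T.1.arrow ≫ cokernel.π σ)), okMk⟩ :
        {S : Subobject (cokernel ι) // ok (S : C)}) ∈ 𝒯 := by
      show sdim ((Subobject.mk (kernel.ι (cokernel.π T.1.arrow ≫ cokernel.π σ)) :
        Subobject (cokernel ι)) : C) < (d : WithBot ℕ∞)
      rw [ax.sdim_iso (Subobject.underlyingIso _)]
      exact dimT'
    have hle' : T.1 ≤ Subobject.mk (kernel.ι (cokernel.π T.1.arrow ≫ cokernel.π σ)) := by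
      refine Subobject.le_mk_of_comm (kernel.lift _ T.1.arrow ?_) (kernel.lift_ι _ _ _)
      rw [← Category.assoc, cokernel.condition, Limits.zero_comp]
    have hne' : T.1 ≠ Subobject.mk (kernel.ι (cokernel.π T.1.arrow ≫ cokernel.π σ)) := by
      intro heq
      have e : (T.1 : C) ≅ kernel (cokernel.π T.1.arrow ≫ cokernel.π σ) :=
        Subobject.isoOfEqMk T.1 _ heq
      have h1 : pT + pS = pT := ax.hp_unique hpT'' (ax.hp_iso e hpT)
      have h2 : pS = 0 := by linear_combination h1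
      obtain ⟨m, hm⟩ := (ax.eventually_pos okS nzS hpS).exists
      rw [h2, eval_zero] at hm
      exact lt_irrefl _ hm
    exact hmax ⟨_, okMk⟩ memT'
      (lt_of_le_of_ne (show T ≤ ⟨_, okMk⟩ from hle') fun h => hne' (congrArg Subtype.val h))


/-- Hilbert polynomials are eventually monotone along monomorphisms -/
theorem hp_mono_eventually {A B : C} (μ : A ⟶ B) [Mono μ] (okA : ok A) (okB : ok B)
    {pA pB : ℚ[X]} (hA : HP A pA) (hB : HP B pB) :
    ∀ᶠ m : ℕ in atTop, pA.eval (m : ℚ) ≤ pB.eval (m : ℚ) := by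
  have okQ := ax.ok_coker μ okA okB
  have hQ := ax.hp_coker μ okA okB hA hB
  by_cases hz : IsZero (cokernel μ)
  · have h0 : pB - pA = 0 := ax.hp_eq_zero hz hQ
    have h1 : pB = pA := sub_eq_zero.1 h0
    exact Eventually.of_forall fun m => by rw [h1]
  · filter_upwards [ax.eventually_pos okQ hz hQ] with m hm
    rw [Polynomial.eval_sub] at hm
    linarith

end Groth.Agent.Lib.R2H7.HilbStabSat
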