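import Mathlib

/-!
# Polynomial model of a curve singularity (R2H7.HilbZetaModel)

For a subalgebra `R` of `∏ k[[x]]` containing the conductor ideal `∏ x^{c_i} k[[x]]`, the polynomial
model `A = R ∩ ∏ k[x]`: finite type, connected, `∏ k[x]` finite over it, approximation properties.
-/

set_option autoImplicit false
universe u

namespace Groth.Agent.Lib.R2H7.HilbZetaModel

open Polynomial

section

variable {k : Type u} [Field k] {s : ℕ}
  (R : Subalgebra k (Fin s → PowerSeries k))
  (c : Fin s → ℕ)
  (A : Subalgebra k (Fin s → Polynomial k))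

lemma mem_R_of_coeff
    (hc : ∀ f : Fin s → PowerSeries k,
      (∀ g : Fin s → PowerSeries k, g * f ∈ R) ↔ ∀ i, ((c i : ℕ) : ℕ∞) ≤ (f i).order)
    (f : Fin s → PowerSeries k) (hf : ∀ i, ∀ j < c i, PowerSeries.coeff j (f i) = 0) : f ∈ R := by
  have h := (hc f).2 (fun i => PowerSeries.nat_le_order _ _ (hf i))
  have h1 := h 1
  rwa [one_mul] at h1

lemma memA_of_dvd
    (hc : ∀ f : Fin s → PowerSeries k,
      (∀ g : Fin s → PowerSeries k, g * f ∈ R) ↔ ∀ i, ((c i : ℕ) : ℕ∞) ≤ (f i).order)
    (hA : ∀ g : Fin s → Polynomial k, g ∈ A ↔ (fun i => ((g i : Polynomial k) : PowerSeries k)) ∈ R)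
    (C : ℕ) (hC : ∀ i, c i ≤ C) (g : Fin s → Polynomial k) (hg : ∀ i, X ^ C ∣ g i) : g ∈ A := by
  rw [hA]
  apply mem_R_of_coeff R c hc
  intro i j hj
  rw [Polynomial.coeff_coe]
  exact (Polynomial.X_pow_dvd_iff.1 (hg i)) j (lt_of_lt_of_le hj (hC i))

lemma single_monomial_mem_span
    (hc : ∀ f : Fin s → PowerSeries k,
      (∀ g : Fin s → PowerSeries k, g * f ∈ R) ↔ ∀ i, ((c i : ℕ) : ℕ∞) ≤ (f i).order)
    (hA : ∀ g : Fin s → Polynomial k, g ∈ A ↔ (fun i => ((g i : Polynomial k) : PowerSeries k)) ∈ R)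
    (C : ℕ) (hC1 : 1 ≤ C) (hC : ∀ i, c i ≤ C) (i : Fin s) (n : ℕ) (a : k) :
    (Pi.single i (monomial n a) : Fin s → Polynomial k) ∈
      Submodule.span ↥A (Set.range (fun ij : Fin s × Fin C =>
        (Pi.single ij.1 (X ^ (ij.2 : ℕ)) : Fin s → Polynomial k))) := by
  classical
  by_cases hn : n < C
  · have h1 : (Pi.single i (monomial n a) : Fin s → Polynomial k) =
        (algebraMap k ↥A a) • (Pi.single i (X ^ n) : Fin s → Polynomial k) := by
      funext j
      rw [Algebra.smul_def]
      by_cases hj : j = i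
      · subst hj
        simp only [Pi.single_eq_same, Pi.mul_apply]
        rw [← C_mul_X_pow_eq_monomial]
        rfl
      · simp only [Pi.single_eq_of_ne hj, Pi.mul_apply, mul_zero]
    rw [h1]
    exact Submodule.smul_mem _ _ (Submodule.subset_span ⟨(i, ⟨n, hn⟩), rfl⟩)
  · have hmem : (Pi.single i (monomial n a) : Fin s → Polynomial k) ∈ A := by
      apply memA_of_dvd R c A hc hA C hC
      intro j
      by_cases hj : j = i
      · subst hj
        rw [Pi.single_eq_same, ← C_mul_X_pow_eq_monomial]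
        exact Dvd.dvd.mul_left (pow_dvd_pow X (not_lt.1 hn)) _
      · rw [Pi.single_eq_of_ne hj]; exact dvd_zero _
    have hone : (1 : Fin s → Polynomial k) ∈
        Submodule.span ↥A (Set.range (fun ij : Fin s × Fin C =>
          (Pi.single ij.1 (X ^ (ij.2 : ℕ)) : Fin s → Polynomial k))) := by
      have h2 : (1 : Fin s → Polynomial k) = ∑ j, Pi.single j (1 : Polynomial k) :=
        (Finset.univ_sum_single (1 : Fin s → Polynomial k)).symm
      rw [h2]
      refine Submodule.sum_mem _ (fun j _ => ?_)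
      refine Submodule.subset_span ⟨(j, ⟨0, hC1⟩), ?_⟩
      simp
    have h3 : (Pi.single i (monomial n a) : Fin s → Polynomial k) =
        (⟨_, hmem⟩ : ↥A) • (1 : Fin s → Polynomial k) := by
      rw [Algebra.smul_def, mul_one]; rfl
    rw [h3]
    exact Submodule.smul_mem _ _ hone

theorem main
    (hloc : ∀ f ∈ R, ∀ i j : Fin s,
      PowerSeries.constantCoeff (f i) = PowerSeries.constantCoeff (f j))
    (hc : ∀ f : Fin s → PowerSeries k,
      (∀ g : Fin s → PowerSeries k, g * f ∈ R) ↔ ∀ i, ((c i : ℕ) : ℕ∞) ≤ (f i).order)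
    (hA : ∀ g : Fin s → Polynomial k, g ∈ A ↔ (fun i => ((g i : Polynomial k) : PowerSeries k)) ∈ R) :
    Algebra.FiniteType k ↥A ∧
    (∀ e ∈ A, e * e = e → e = 0 ∨ e = 1) ∧
    Module.Finite ↥A (Fin s → Polynomial k) ∧
    (∃ N : ℕ, ∀ g : Fin N → (Fin s → Polynomial k),
      (∀ n, g n ∈ A ∧ ∀ i, (g n i).coeff 0 = 0) → ∀ p : Fin s → Polynomial k, p * ∏ n, g n ∈ A) ∧
    (∀ f ∈ R, ∀ N : ℕ, ∃ g ∈ A, ∀ i : Fin s,
      (N : ℕ∞) ≤ (f i - ((g i : Polynomial k) : PowerSeries k)).order) ∧
    (∀ N : ℕ, ∃ M : ℕ, ∀ g : ↥A, (∀ i : Fin s, Polynomial.X ^ M ∣ (g : Fin s → Polynomial k) i) →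
      g ∈ (Ideal.span {h : ↥A | ∀ i : Fin s, ((h : Fin s → Polynomial k) i).coeff 0 = 0}) ^ N) := by
  classical
  set C : ℕ := (∑ i, c i) + 1 with hCdef
  have hC1 : 1 ≤ C := Nat.le_add_left 1 _
  have hC : ∀ i, c i ≤ C := fun i =>
    le_trans (Finset.single_le_sum (fun j _ => Nat.zero_le (c j)) (Finset.mem_univ i))
      (Nat.le_succ _)
  have hmemA := memA_of_dvd R c A hc hA C hC
  -- finiteness of the product of polynomial rings over A
  have h3 : Module.Finite ↥A (Fin s → Polynomial k) := by
    refine ⟨⟨(Finset.univ : Finset (Fin s × Fin C)).image (fun ij : Fin s × Fin C =>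
      (Pi.single ij.1 (X ^ (ij.2 : ℕ)) : Fin s → Polynomial k)), ?_⟩⟩
    rw [Finset.coe_image, Finset.coe_univ, Set.image_univ, eq_top_iff]
    intro p _
    rw [← Finset.univ_sum_single p]
    refine Submodule.sum_mem _ (fun i _ => ?_)
    generalize p i = q
    induction q using Polynomial.induction_on' with
    | add q₁ q₂ h₁ h₂ => rw [Pi.single_add]; exact Submodule.add_mem _ h₁ h₂
    | monomial n a => exact single_monomial_mem_span R c A hc hA C hC1 hC i n a
  have hP : Algebra.FiniteType k (Fin s → Polynomial k) :=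
    Algebra.FiniteType.trans (S := Polynomial k) inferInstance inferInstance
  refine ⟨?_, ?_, h3, ?_, ?_, ?_⟩
  · -- finite type, by Artin–Tate
    refine ⟨fg_of_fg_of_fg k ↥A (Fin s → Polynomial k) hP.out h3.fg_top ?_⟩
    intro x y h
    exact Subtype.ext h
  · -- idempotents
    intro e he hee
    have hR : (fun i => ((e i : Polynomial k) : PowerSeries k)) ∈ R := (hA e).1 he
    have h01 : ∀ i, e i = 0 ∨ e i = 1 := fun i =>
      IsIdempotentElem.iff_eq_zero_or_one.1 (by
        have := congrFun hee i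
        rwa [Pi.mul_apply] at this)
    have hcc : ∀ i j, (e i).coeff 0 = (e j).coeff 0 := by
      intro i j
      have := hloc _ hR i j
      simpa [← PowerSeries.coeff_zero_eq_constantCoeff_apply, Polynomial.coeff_coe] using this
    by_cases hall : ∀ i, e i = 1
    · right; funext i; rw [hall i]; rfl
    · left
      push Not at hall
      obtain ⟨i₀, hi₀⟩ := hall
      have h0 : e i₀ = 0 := (h01 i₀).resolve_right hi₀
      funext j
      rcases h01 j with h | h
      · rw [h]; rfl
      · exfalso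
        have := hcc i₀ j
        rw [h0, h] at this
        simp at this
  · -- conductor
    refine ⟨C, fun g hg p => ?_⟩
    apply hmemA
    intro i
    rw [Pi.mul_apply, Finset.prod_apply]
    apply Dvd.dvd.mul_left
    have h1 : (X : Polynomial k) ^ C = ∏ _n : Fin C, (X : Polynomial k) := by
      rw [Finset.prod_const, Finset.card_univ, Fintype.card_fin]
    rw [h1]
    apply Finset.prod_dvd_prod_of_dvd
    intro n _
    exact Polynomial.X_dvd_iff.2 ((hg n).2 i)
  · -- approximation
    intro f hf N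
    have hdiff : ∀ i, ∀ j < max N C, PowerSeries.coeff j
        (f i - ((PowerSeries.trunc (max N C) (f i) : Polynomial k) : PowerSeries k)) = 0 := by
      intro i j hj
      rw [map_sub, Polynomial.coeff_coe, PowerSeries.coeff_trunc, if_pos hj, sub_self]
    have hmem : (fun i => f i -
        ((PowerSeries.trunc (max N C) (f i) : Polynomial k) : PowerSeries k)) ∈ R :=
      mem_R_of_coeff R c hc _ (fun i j hj =>
        hdiff i j (lt_of_lt_of_le hj ((hC i).trans (le_max_right _ _))))
    refine ⟨fun i => PowerSeries.trunc (max N C) (f i), ?_, ?_⟩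
    · rw [hA]
      have h1 : (fun i => ((PowerSeries.trunc (max N C) (f i) : Polynomial k) : PowerSeries k)) =
          f - (fun i => f i -
            ((PowerSeries.trunc (max N C) (f i) : Polynomial k) : PowerSeries k)) := by
        funext i; simp
      rw [h1]; exact R.sub_mem hf hmem
    · intro i
      refine le_trans ?_ (PowerSeries.nat_le_order _ _ (hdiff i))
      exact_mod_cast le_max_left N C
  · -- adic topology
    intro N
    refine ⟨C * N + C, fun g hg => ?_⟩
    choose h hh using hg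
    have hu : (fun _ : Fin s => (X : Polynomial k) ^ C) ∈ A :=
      hmemA _ (fun _ => dvd_rfl)
    have hg' : (fun i : Fin s => (X : Polynomial k) ^ C * h i) ∈ A :=
      hmemA _ (fun i => Dvd.intro _ rfl)
    have hprod : g = (⟨_, hu⟩ : ↥A) ^ N * ⟨_, hg'⟩ := by
      apply Subtype.ext
      funext i
      rw [hh i]
      simp only [Subalgebra.coe_mul, Subalgebra.coe_pow, Pi.mul_apply, Pi.pow_apply]
      ring
    rw [hprod]
    apply Ideal.mul_mem_right
    apply Ideal.pow_mem_pow
    apply Ideal.subset_span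
    intro i
    show ((X : Polynomial k) ^ C).coeff 0 = 0
    rw [Polynomial.coeff_X_pow, if_neg]
    omega

end

end Groth.Agent.Lib.R2H7.HilbZetaModel
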