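/-
The homogeneous localization of a graded ring at a homogeneous prime is a normal domain as soon as
the ordinary localization is; consequently `Proj` of a normal graded ring is normal.
-/
import Mathlib

set_option autoImplicit false
universe u

namespace Groth.Agent.Lib.R2H7.ProjNormal

open DirectSum HomogeneousLocalization

section alg

variable {A : Type u} [CommRing A] (𝒜 : ℕ → AddSubgroup A) [GradedRing 𝒜]
  (p : Ideal A) [p.IsPrime]

/-- An element outside an ideal has a homogeneous component outside it. -/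
theorem exists_component_notMem {u : A} (hu : u ∉ p) : ∃ i, (decompose 𝒜 u i : A) ∉ p := by
  classical
  by_contra h
  have h' : ∀ i, (decompose 𝒜 u i : A) ∈ p := fun i => not_not.mp (fun hi => h ⟨i, hi⟩)
  apply hu
  rw [← DirectSum.sum_support_decompose 𝒜 u]
  exact Ideal.sum_mem _ (fun i _ => h' i)

theorem den_mul_val (f : AtPrime 𝒜 p) :
    algebraMap A (Localization.AtPrime p) f.den * f.val =
      algebraMap A (Localization.AtPrime p) f.num := by
  have h := f.den_smul_val
  rwa [Algebra.smul_def] at h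

theorem isUnit_den (f : AtPrime 𝒜 p) : IsUnit (algebraMap A (Localization.AtPrime p) f.den) :=
  IsLocalization.map_units (Localization.AtPrime p) (⟨f.den, f.den_mem⟩ : p.primeCompl)

/-- The key step: a quotient of two homogeneous fractions lying in the local ring is itself a
homogeneous fraction. -/
theorem key [IsDomain (Localization.AtPrime p)] (α β : AtPrime 𝒜 p) (hβ : β ≠ 0)
    (b : Localization.AtPrime p) (h : α.val = b * β.val) : ∃ γ : AtPrime 𝒜 p, γ.val = b := by
  let ι := algebraMap A (Localization.AtPrime p)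
  obtain ⟨⟨c, u⟩, hcu⟩ := IsLocalization.surj p.primeCompl b
  change b * ι (u : A) = ι c at hcu
  have hα := den_mul_val 𝒜 p α
  have hβ' := den_mul_val 𝒜 p β
  change ι α.den * α.val = ι α.num at hα
  change ι β.den * β.val = ι β.num at hβ'
  -- the equation in the localization
  have e1 : ι ((u : A) * (β.den * α.num)) = ι (c * (α.den * β.num)) := by
    simp only [map_mul]
    rw [← hα, ← hβ', ← hcu, h]
    ring
  obtain ⟨w, hw⟩ := (IsLocalization.eq_iff_exists p.primeCompl (Localization.AtPrime p)).mp e1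
  set P := β.den * α.num with hP
  set Q := α.den * β.num with hQ
  have hPmem : P ∈ 𝒜 (α.deg + β.deg) := by
    rw [add_comm]
    exact SetLike.mul_mem_graded β.den_mem_deg α.num_mem_deg
  have hQmem : Q ∈ 𝒜 (α.deg + β.deg) := SetLike.mul_mem_graded α.den_mem_deg β.num_mem_deg
  have e2 : ((w : A) * (u : A)) * P = ((w : A) * c) * Q := by
    rw [mul_assoc, mul_assoc]; exact hw
  have hu' : (w : A) * (u : A) ∉ p := (w * u).2
  obtain ⟨i, hi⟩ := exists_component_notMem 𝒜 p hu'
  have e3 : (decompose 𝒜 ((w : A) * (u : A)) i : A) * P =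
      (decompose 𝒜 ((w : A) * c) i : A) * Q := by
    rw [← coe_decompose_mul_add_of_right_mem 𝒜 hPmem, ← coe_decompose_mul_add_of_right_mem 𝒜 hQmem,
      e2]
  set ui := (decompose 𝒜 ((w : A) * (u : A)) i : A) with hui
  set ci := (decompose 𝒜 ((w : A) * c) i : A) with hci
  refine ⟨HomogeneousLocalization.mk ⟨i, ⟨ci, SetLike.coe_mem _⟩, ⟨ui, SetLike.coe_mem _⟩, hi⟩, ?_⟩
  rw [val_mk, Localization.mk_eq_mk']
  -- units
  have huu : IsUnit (ι ((w : A) * (u : A))) :=
    IsLocalization.map_units (Localization.AtPrime p) (w * u)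
  have hαd := isUnit_den 𝒜 p α
  have hβd := isUnit_den 𝒜 p β
  change IsUnit (ι α.den) at hαd
  change IsUnit (ι β.den) at hβd
  have hβv : β.val ≠ 0 := by
    intro h0
    apply hβ
    apply val_injective
    rw [h0, val_zero]
  have hQ0 : ι Q ≠ 0 := by
    rw [hQ, map_mul, ← hβ']
    exact mul_ne_zero hαd.ne_zero (mul_ne_zero hβd.ne_zero hβv)
  -- ι P = b * ι Q
  have e4 : ι P = b * ι Q := by
    apply huu.mul_left_cancel
    have := congrArg ι e2
    simp only [map_mul] at this ⊢
    rw [this, ← hcu]
    ring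
  have e5 : ι ui * b = ι ci := by
    apply mul_right_cancel₀ hQ0
    have := congrArg ι e3
    simp only [map_mul] at this
    rw [← this, e4]
    ring
  rw [IsLocalization.mk'_eq_iff_eq_mul]
  change ι ci = b * ι ui
  rw [← e5, mul_comm]

/-- The homogeneous localization is a domain when the localization is. -/
theorem isDomain_atPrime [IsDomain (Localization.AtPrime p)] : IsDomain (AtPrime 𝒜 p) :=
  Function.Injective.isDomain (algebraMap (AtPrime 𝒜 p) (Localization.AtPrime p))
    (val_injective _)

/-- The homogeneous localization is integrally closed when the localization is. -/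
theorem isIntegrallyClosed_atPrime [IsDomain (Localization.AtPrime p)]
    [IsIntegrallyClosed (Localization.AtPrime p)] : IsIntegrallyClosed (AtPrime 𝒜 p) := by
  have hdom : IsDomain (AtPrime 𝒜 p) := isDomain_atPrime 𝒜 p
  have hinjB : Function.Injective (algebraMap (Localization.AtPrime p)
      (FractionRing (Localization.AtPrime p))) := IsFractionRing.injective _ _
  have hinj : Function.Injective (algebraMap (AtPrime 𝒜 p)
      (FractionRing (Localization.AtPrime p))) := by
    rw [IsScalarTower.algebraMap_eq (AtPrime 𝒜 p) (Localization.AtPrime p)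
      (FractionRing (Localization.AtPrime p))]
    exact hinjB.comp (val_injective _)
  let f : FractionRing (AtPrime 𝒜 p) →ₐ[AtPrime 𝒜 p] FractionRing (Localization.AtPrime p) :=
    IsFractionRing.liftAlgHom (g := Algebra.ofId _ _) hinj
  rw [isIntegrallyClosed_iff (FractionRing (AtPrime 𝒜 p))]
  intro z hz
  obtain ⟨α, β, hβ, rfl⟩ := IsFractionRing.div_surjective (A := AtPrime 𝒜 p) z
  have hβ0 : β ≠ 0 := nonZeroDivisors.ne_zero hβ
  have h1 : IsIntegral (Localization.AtPrime p)
      (f (algebraMap _ _ α / algebraMap _ _ β)) := (hz.map f).tower_top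
  obtain ⟨b, hb⟩ := IsIntegrallyClosed.isIntegral_iff.mp h1
  rw [map_div₀, AlgHom.commutes, AlgHom.commutes] at hb
  have hβQ : algebraMap (AtPrime 𝒜 p) (FractionRing (Localization.AtPrime p)) β ≠ 0 := by
    rw [Ne, map_eq_zero_iff _ hinj]; exact hβ0
  rw [eq_div_iff hβQ] at hb
  have hb' : b * β.val = α.val := by
    apply hinjB
    rw [map_mul]
    rw [IsScalarTower.algebraMap_apply (AtPrime 𝒜 p) (Localization.AtPrime p)
      (FractionRing (Localization.AtPrime p)), IsScalarTower.algebraMap_apply (AtPrime 𝒜 p)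
      (Localization.AtPrime p) (FractionRing (Localization.AtPrime p))] at hb
    exact hb
  obtain ⟨γ, hγ⟩ := key 𝒜 p α β hβ0 b hb'.symm
  refine ⟨γ, ?_⟩
  have hβF : algebraMap (AtPrime 𝒜 p) (FractionRing (AtPrime 𝒜 p)) β ≠ 0 := by
    rw [Ne, map_eq_zero_iff _ (IsFractionRing.injective _ _)]; exact hβ0
  rw [eq_div_iff hβF, ← map_mul]
  congr 1
  apply val_injective
  rw [val_mul, hγ, hb']

end alg

section proj

open AlgebraicGeometry

variable {A : Type u} [CommRing A] (𝒜 : ℕ → AddSubgroup A) [GradedRing 𝒜]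

theorem stalk_normal
    (hA : ∀ (p : Ideal A) [p.IsPrime], IsDomain (Localization.AtPrime p) ∧
      IsIntegrallyClosed (Localization.AtPrime p))
    (x : Proj 𝒜) :
    IsDomain ((Proj 𝒜).presheaf.stalk x) ∧ IsIntegrallyClosed ((Proj 𝒜).presheaf.stalk x) := by
  have hx : x.asHomogeneousIdeal.toIdeal.IsPrime := x.isPrime
  obtain ⟨h1, h2⟩ := hA x.asHomogeneousIdeal.toIdeal
  let e : (Proj 𝒜).presheaf.stalk x ≃+* AtPrime 𝒜 x.asHomogeneousIdeal.toIdeal :=
    (Proj.stalkIso 𝒜 x).commRingCatIsoToRingEquiv
  have hd : IsDomain (AtPrime 𝒜 x.asHomogeneousIdeal.toIdeal) :=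
    isDomain_atPrime 𝒜 x.asHomogeneousIdeal.toIdeal
  have hi : IsIntegrallyClosed (AtPrime 𝒜 x.asHomogeneousIdeal.toIdeal) :=
    isIntegrallyClosed_atPrime 𝒜 x.asHomogeneousIdeal.toIdeal
  exact ⟨e.toMulEquiv.isDomain _, IsIntegrallyClosed.of_equiv e.symm⟩

end proj

end Groth.Agent.Lib.R2H7.ProjNormal
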