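/-
Descent of depth along a "cyclically pure" local map `φ : B → C` of local rings with `C`
Noetherian: if every ideal of `B` is contracted from `C` and `m_B C` is `m_C`-primary, then `B` is
Noetherian and `depth C ≤ depth B`.
-/
import Mathlib
import Groth.Prelude.Def_CAlg
import Groth.Agent.Lib.Helper28SkLift
import Groth.Agent.Lib.Helper28DepthLoc

set_option autoImplicit false

noncomputable section

namespace Groth.Agent.Lib.R2H7.PureDescent

universe u

/-- A ring all of whose ideals are contracted from a Noetherian ring is Noetherian. -/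
theorem isNoetherianRing_of_contraction {B C : Type u} [CommRing B] [CommRing C]
    [IsNoetherianRing C] (φ : B →+* C) (ha : ∀ I : Ideal B, (I.map φ).comap φ ≤ I) :
    IsNoetherianRing B := by
  rw [isNoetherianRing_iff, isNoetherian_iff']
  have hmono : StrictMono (fun I : Ideal B => I.map φ) := by
    intro I J hIJ
    refine lt_of_le_of_ne (Ideal.map_mono hIJ.le) ?_
    intro h
    have h2 : J ≤ I := by
      calc J ≤ (J.map φ).comap φ := Ideal.le_comap_map
        _ = (I.map φ).comap φ := by
            show (J.map φ).comap φ = (I.map φ).comap φ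
            have h' : I.map φ = J.map φ := h
            rw [h']
        _ ≤ I := ha I
    exact hIJ.not_ge h2
  have hwf : WellFoundedGT (Ideal C) := (isNoetherian_iff' (R := C) (M := C)).mp inferInstance
  exact StrictMono.wellFoundedGT hmono

theorem injective_of_contraction {B C : Type u} [CommRing B] [CommRing C] (φ : B →+* C)
    (ha : ∀ I : Ideal B, (I.map φ).comap φ ≤ I) : Function.Injective φ := by
  rw [injective_iff_map_eq_zero]
  intro b hb
  have h1 : b ∈ ((⊥ : Ideal B).map φ).comap φ := by
    rw [Ideal.map_bot, Ideal.mem_comap, hb]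
    exact Ideal.zero_mem _
  have h2 := ha ⊥ h1
  simpa using h2

/-- `φ` is a local homomorphism. -/
theorem map_mem_maximalIdeal {B C : Type u} [CommRing B] [CommRing C] [IsLocalRing B]
    [IsLocalRing C] (φ : B →+* C) (ha : ∀ I : Ideal B, (I.map φ).comap φ ≤ I) {x : B}
    (hx : x ∈ IsLocalRing.maximalIdeal B) : φ x ∈ IsLocalRing.maximalIdeal C := by
  rw [IsLocalRing.mem_maximalIdeal, mem_nonunits_iff]
  intro hu
  have h1 : (Ideal.span {x}).map φ = ⊤ := by
    rw [Ideal.map_span, Set.image_singleton]
    exact Ideal.span_singleton_eq_top.mpr hu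
  have h2 := ha (Ideal.span {x})
  rw [h1, Ideal.comap_top, top_le_iff, Ideal.span_singleton_eq_top] at h2
  exact (IsLocalRing.mem_maximalIdeal _).mp hx h2

/-- Existence of an element of `m_B` whose image is `C`-regular, when `depth C ≥ 1`. -/
theorem exists_regular {B C : Type u} [CommRing B] [CommRing C] [IsLocalRing B] [IsLocalRing C]
    [IsNoetherianRing C] (φ : B →+* C)
    (hb : IsLocalRing.maximalIdeal C ≤ (Ideal.map φ (IsLocalRing.maximalIdeal B)).radical)
    (h1 : (1 : ℕ∞) ≤ LocCoh.depth C C) :
    ∃ x ∈ IsLocalRing.maximalIdeal B, IsSMulRegular C (φ x) := by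
  by_contra hcon
  have hall : ∀ x ∈ IsLocalRing.maximalIdeal B, ¬ IsSMulRegular C (φ x) := by
    intro x hx hreg
    exact hcon ⟨x, hx, hreg⟩
  have hsub : ((IsLocalRing.maximalIdeal B : Ideal B) : Set B) ⊆
      ⋃ P ∈ associatedPrimes C C, ((P.comap φ : Ideal B) : Set B) := by
    intro x hx
    have h2 : φ x ∈ {r : C | IsSMulRegular C r}ᶜ := hall x hx
    rw [← biUnion_associatedPrimes_eq_compl_regular C C] at h2
    simp only [Set.mem_iUnion, SetLike.mem_coe] at h2 ⊢
    obtain ⟨P, hP, hxP⟩ := h2
    exact ⟨P, hP, hxP⟩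
  obtain ⟨P, hP, hle⟩ := (Ideal.subset_union_prime_finite (associatedPrimes.finite C C)
    (f := fun P : Ideal C => P.comap φ) ⊥ ⊥
    (fun P hP _ _ => by
      have : P.IsPrime := hP.isPrime
      exact Ideal.comap_isPrime φ P)).mp hsub
  have hPprime : P.IsPrime := hP.isPrime
  have h3 : (Ideal.map φ (IsLocalRing.maximalIdeal B)) ≤ P := Ideal.map_le_iff_le_comap.mpr hle
  have h4 : IsLocalRing.maximalIdeal C ≤ P := hb.trans (hPprime.radical_le_iff.mpr h3)
  have h5 : P = IsLocalRing.maximalIdeal C :=
    ((IsLocalRing.maximalIdeal.isMaximal C).eq_of_le hPprime.ne_top h4).symm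
  rw [h5] at hP
  have h6 : LocCoh.depth C C = 0 := (Groth.Agent.Lib.Helper28.depth_eq_zero_iff).mpr hP
  rw [h6] at h1
  exact absurd h1 (by norm_num)

/-- Descent of depth. -/
theorem le_depth_of_contraction : ∀ (n : ℕ) (B C : Type u) [CommRing B] [CommRing C]
    [IsLocalRing B] [IsLocalRing C] [IsNoetherianRing C] (φ : B →+* C)
    (_ : ∀ I : Ideal B, (I.map φ).comap φ ≤ I)
    (_ : IsLocalRing.maximalIdeal C ≤ (Ideal.map φ (IsLocalRing.maximalIdeal B)).radical),
    (n : ℕ∞) ≤ LocCoh.depth C C → (n : ℕ∞) ≤ LocCoh.depth B B := by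
  intro n
  induction n with
  | zero =>
    intro B C _ _ _ _ _ φ _ _ _
    exact bot_le
  | succ n ih =>
    intro B C _ _ _ _ _ φ ha hb hC
    have hNB : IsNoetherianRing B := isNoetherianRing_of_contraction φ ha
    have h1 : (1 : ℕ∞) ≤ LocCoh.depth C C := le_trans (by norm_num) hC
    obtain ⟨x, hxm, hxreg⟩ := exists_regular φ hb h1
    have hinj := injective_of_contraction φ ha
    have hxregB : IsSMulRegular B x := by
      intro b1 b2 h
      apply hinj
      apply hxreg
      simp only [smul_eq_mul] at h ⊢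
      rw [← map_mul, ← map_mul, h]
    have hφxm : φ x ∈ IsLocalRing.maximalIdeal C := map_mem_maximalIdeal φ ha hxm
    have hneB : Ideal.span {x} ≠ (⊤ : Ideal B) := by
      intro h
      rw [Ideal.span_singleton_eq_top] at h
      exact (IsLocalRing.mem_maximalIdeal _).mp hxm h
    have hneC : Ideal.span {φ x} ≠ (⊤ : Ideal C) := by
      intro h
      rw [Ideal.span_singleton_eq_top] at h
      exact (IsLocalRing.mem_maximalIdeal _).mp hφxm h
    have hntB : Nontrivial (B ⧸ Ideal.span {x}) := Ideal.Quotient.nontrivial_iff.mpr hneB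
    have hntC : Nontrivial (C ⧸ Ideal.span {φ x}) := Ideal.Quotient.nontrivial_iff.mpr hneC
    have hlB : IsLocalRing (B ⧸ Ideal.span {x}) :=
      IsLocalRing.of_surjective' (Ideal.Quotient.mk _) Ideal.Quotient.mk_surjective
    have hlC : IsLocalRing (C ⧸ Ideal.span {φ x}) :=
      IsLocalRing.of_surjective' (Ideal.Quotient.mk _) Ideal.Quotient.mk_surjective
    have hle : Ideal.span {x} ≤ (Ideal.span {φ x}).comap φ := by
      rw [Ideal.span_singleton_le_iff_mem, Ideal.mem_comap]
      exact Ideal.mem_span_singleton_self _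
    let φ' : (B ⧸ Ideal.span {x}) →+* (C ⧸ Ideal.span {φ x}) :=
      Ideal.quotientMap (Ideal.span {φ x}) φ hle
    have hφ' : ∀ b : B, φ' (Ideal.Quotient.mk _ b) = Ideal.Quotient.mk _ (φ b) := fun b =>
      Ideal.quotientMap_mk
    have hcomp : φ'.comp (Ideal.Quotient.mk (Ideal.span {x})) =
        (Ideal.Quotient.mk (Ideal.span {φ x})).comp φ := by
      ext b
      exact hφ' b
    -- contraction property for the quotients
    have ha' : ∀ I' : Ideal (B ⧸ Ideal.span {x}), (I'.map φ').comap φ' ≤ I' := by
      intro I' b' hb'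
      obtain ⟨b, rfl⟩ := Ideal.Quotient.mk_surjective b'
      set I : Ideal B := I'.comap (Ideal.Quotient.mk (Ideal.span {x})) with hI
      have hI' : I' = I.map (Ideal.Quotient.mk (Ideal.span {x})) :=
        (Ideal.map_comap_of_surjective _ Ideal.Quotient.mk_surjective I').symm
      have hxI : x ∈ I := by
        rw [hI, Ideal.mem_comap]
        have : (Ideal.Quotient.mk (Ideal.span {x})) x = 0 :=
          Ideal.Quotient.eq_zero_iff_mem.mpr (Ideal.mem_span_singleton_self x)
        rw [this]
        exact Ideal.zero_mem _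
      have hmap : I'.map φ' = (I.map φ).map (Ideal.Quotient.mk (Ideal.span {φ x})) := by
        rw [hI', Ideal.map_map, Ideal.map_map, hcomp]
      rw [Ideal.mem_comap, hφ', hmap] at hb'
      have h2 : φ b ∈ ((I.map φ).map (Ideal.Quotient.mk (Ideal.span {φ x}))).comap
          (Ideal.Quotient.mk (Ideal.span {φ x})) := hb'
      rw [Ideal.comap_map_of_surjective _ Ideal.Quotient.mk_surjective, ← RingHom.ker_eq_comap_bot,
        Ideal.mk_ker] at h2
      have h3 : Ideal.span {φ x} ≤ I.map φ := by
        rw [Ideal.span_singleton_le_iff_mem]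
        exact Ideal.mem_map_of_mem φ hxI
      rw [sup_eq_left.mpr h3] at h2
      exact ha I h2
    -- primary property for the quotients
    have hb' : IsLocalRing.maximalIdeal (C ⧸ Ideal.span {φ x}) ≤
        (Ideal.map φ' (IsLocalRing.maximalIdeal (B ⧸ Ideal.span {x}))).radical := by
      intro c' hc'
      obtain ⟨c, rfl⟩ := Ideal.Quotient.mk_surjective c'
      have hc : c ∈ IsLocalRing.maximalIdeal C := by
        rw [IsLocalRing.mem_maximalIdeal, mem_nonunits_iff] at hc' ⊢
        intro hu
        exact hc' (hu.map _)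
      obtain ⟨k, hk⟩ := hb hc
      refine ⟨k, ?_⟩
      rw [← map_pow]
      have h2 : (Ideal.map φ (IsLocalRing.maximalIdeal B)).map
          (Ideal.Quotient.mk (Ideal.span {φ x})) ≤
          Ideal.map φ' (IsLocalRing.maximalIdeal (B ⧸ Ideal.span {x})) := by
        rw [Ideal.map_map, ← hcomp, ← Ideal.map_map]
        apply Ideal.map_mono
        rw [Ideal.map_le_iff_le_comap]
        intro b hbm
        rw [Ideal.mem_comap, IsLocalRing.mem_maximalIdeal, mem_nonunits_iff]
        intro hu
        have hlh : IsLocalHom (Ideal.Quotient.mk (Ideal.span {x})) :=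
          IsLocalHom.of_surjective _ Ideal.Quotient.mk_surjective
        exact (IsLocalRing.mem_maximalIdeal _).mp hbm (hlh.map_nonunit b hu)
      exact h2 (Ideal.mem_map_of_mem _ hk)
    have hdC := Groth.Agent.Lib.Helper28.depth_quotient_span_singleton_add_one (φ x) hφxm hxreg
    have hdB := Groth.Agent.Lib.Helper28.depth_quotient_span_singleton_add_one x hxm hxregB
    have hC' : (n : ℕ∞) ≤ LocCoh.depth (C ⧸ Ideal.span {φ x}) (C ⧸ Ideal.span {φ x}) := by
      rw [← hdC] at hC
      push_cast at hC
      exact (ENat.add_le_add_iff_right (by norm_num)).mp hC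
    have hB' := ih (B ⧸ Ideal.span {x}) (C ⧸ Ideal.span {φ x}) φ' ha' hb' hC'
    rw [← hdB]
    push_cast
    exact add_le_add_left hB' 1

end Groth.Agent.Lib.R2H7.PureDescent
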