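/-
The homogeneous localization `A_(p)` of an `ℕ`-graded ring at a prime `p`, compared with the
ordinary localization `A_p`: to every ideal `I` of `A_(p)` we attach the homogeneous ideal `Ĩ` of
`A` "generated by the numerators of `I`".  Consequences: every ideal of `A_(p)` is contracted from
`A_p`; `m_{A_(p)} A_p` is primary to the maximal ideal when `p` is a relevant homogeneous prime;
`dim A_(p) ≤ ht p`; and `(A_(p))_q = A_(q̃)` for a prime `q` of `A_(p)`.
-/
import Mathlib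
import Groth.Agent.Lib.R2H7ProjNormal
import Groth.Agent.Lib.R2H7PureDescent

set_option autoImplicit false

noncomputable section

namespace Groth.Agent.Lib.R2H7.HomLoc

open DirectSum HomogeneousLocalization Groth.Agent.Lib.R2H7.ProjNormal

universe u

variable {A : Type u} [CommRing A] (𝒜 : ℕ → AddSubgroup A) [GradedRing 𝒜]
  (p : Ideal A) [p.IsPrime]

/-! ### Homogeneous fractions -/

/-- The homogeneous fraction `n / d`. -/
def frac (e : ℕ) (n : A) (hn : n ∈ 𝒜 e) (d : A) (hd : d ∈ 𝒜 e) (hdp : d ∉ p) : AtPrime 𝒜 p :=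
  HomogeneousLocalization.mk ⟨e, ⟨n, hn⟩, ⟨d, hd⟩, hdp⟩

variable {𝒜 p}

theorem val_frac {e : ℕ} {n : A} (hn : n ∈ 𝒜 e) {d : A} (hd : d ∈ 𝒜 e) (hdp : d ∉ p) :
    (frac 𝒜 p e n hn d hd hdp).val = Localization.mk n ⟨d, hdp⟩ :=
  val_mk _

theorem exists_frac (b : AtPrime 𝒜 p) :
    ∃ (e : ℕ) (n : A) (hn : n ∈ 𝒜 e) (d : A) (hd : d ∈ 𝒜 e) (hdp : d ∉ p),
      b = frac 𝒜 p e n hn d hd hdp := by
  obtain ⟨⟨e, ⟨n, hn⟩, ⟨d, hd⟩, hdp⟩, rfl⟩ := mk_surjective b
  exact ⟨e, n, hn, d, hd, hdp, rfl⟩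

theorem frac_eq {e e' : ℕ} {n n' d d' : A} (hn : n ∈ 𝒜 e) (hd : d ∈ 𝒜 e) (hdp : d ∉ p)
    (hn' : n' ∈ 𝒜 e') (hd' : d' ∈ 𝒜 e') (hdp' : d' ∉ p) (h : n * d' = n' * d) :
    frac 𝒜 p e n hn d hd hdp = frac 𝒜 p e' n' hn' d' hd' hdp' := by
  apply val_injective
  rw [val_frac, val_frac, Localization.mk_eq_mk_iff]
  refine Localization.r_of_eq ?_
  show d' * n = d * n'
  rw [mul_comm, h, mul_comm]

theorem frac_mul {e e' : ℕ} {n n' d d' : A} (hn : n ∈ 𝒜 e) (hd : d ∈ 𝒜 e) (hdp : d ∉ p)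
    (hn' : n' ∈ 𝒜 e') (hd' : d' ∈ 𝒜 e') (hdp' : d' ∉ p) :
    frac 𝒜 p e n hn d hd hdp * frac 𝒜 p e' n' hn' d' hd' hdp' =
      frac 𝒜 p (e + e') (n * n') (SetLike.mul_mem_graded hn hn') (d * d')
        (SetLike.mul_mem_graded hd hd')
        (fun h => (Ideal.IsPrime.mem_or_mem inferInstance h).elim hdp hdp') := by
  apply val_injective
  rw [val_mul, val_frac, val_frac, val_frac, Localization.mk_mul]
  rfl

theorem frac_add {e : ℕ} {n n' d : A} (hn : n ∈ 𝒜 e) (hn' : n' ∈ 𝒜 e) (hd : d ∈ 𝒜 e)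
    (hdp : d ∉ p) :
    frac 𝒜 p e (n + n') (add_mem hn hn') d hd hdp =
      frac 𝒜 p e n hn d hd hdp + frac 𝒜 p e n' hn' d hd hdp := by
  apply val_injective
  rw [val_add, val_frac, val_frac, val_frac, Localization.add_mk_self]

theorem frac_zero {e : ℕ} {n d : A} (hn : n ∈ 𝒜 e) (hd : d ∈ 𝒜 e) (hdp : d ∉ p) (h : n = 0) :
    frac 𝒜 p e n hn d hd hdp = 0 := by
  apply val_injective
  rw [val_frac, val_zero, h, Localization.mk_zero]

theorem frac_eq_one {e : ℕ} {n d : A} (hn : n ∈ 𝒜 e) (hd : d ∈ 𝒜 e) (hdp : d ∉ p) (h : n = d) :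
    frac 𝒜 p e n hn d hd hdp = 1 := by
  apply val_injective
  subst h
  rw [val_frac, val_one]
  exact Localization.mk_self (⟨n, hdp⟩ : p.primeCompl)

theorem isUnit_frac {e : ℕ} {n d : A} (hn : n ∈ 𝒜 e) (hd : d ∈ 𝒜 e) (hdp : d ∉ p)
    (hnp : n ∉ p) : IsUnit (frac 𝒜 p e n hn d hd hdp) := by
  refine IsUnit.of_mul_eq_one (frac 𝒜 p e d hd n hn hnp) ?_
  rw [frac_mul]
  exact frac_eq_one _ _ _ (mul_comm n d)

theorem frac_mem_maximalIdeal {e : ℕ} {n d : A} (hn : n ∈ 𝒜 e) (hd : d ∈ 𝒜 e) (hdp : d ∉ p)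
    (hnp : n ∈ p) : frac 𝒜 p e n hn d hd hdp ∈ IsLocalRing.maximalIdeal (AtPrime 𝒜 p) := by
  rw [IsLocalRing.mem_maximalIdeal, mem_nonunits_iff, ← isUnit_iff_isUnit_val, val_frac,
    Localization.mk_eq_mk', IsLocalization.AtPrime.isUnit_mk'_iff]
  exact fun h => h hnp

/-! ### The ideal of numerators -/

variable (𝒜 p)

/-- Membership predicate of the ideal of numerators of an ideal `I` of `A_(p)`. -/
def InT (I : Ideal (AtPrime 𝒜 p)) (a : A) : Prop :=
  ∀ (k m e : ℕ) (hme : m + k = e) (r : A) (hr : r ∈ 𝒜 m) (t : A) (ht : t ∈ 𝒜 e) (htp : t ∉ p),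
    frac 𝒜 p e (r * (decompose 𝒜 a k : A))
      (hme ▸ SetLike.mul_mem_graded hr (SetLike.coe_mem _)) t ht htp ∈ I

variable {𝒜 p}

theorem inT_homogeneous_iff {I : Ideal (AtPrime 𝒜 p)} {k0 : ℕ} {n : A} (hn : n ∈ 𝒜 k0) :
    InT 𝒜 p I n ↔ ∀ (m e : ℕ) (hme : m + k0 = e) (r : A) (hr : r ∈ 𝒜 m) (t : A)
      (ht : t ∈ 𝒜 e) (htp : t ∉ p),
      frac 𝒜 p e (r * n) (hme ▸ SetLike.mul_mem_graded hr hn) t ht htp ∈ I := by
  constructor
  · intro h m e hme r hr t ht htp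
    have h1 := h k0 m e hme r hr t ht htp
    have h2 : frac 𝒜 p e (r * (decompose 𝒜 n k0 : A))
        (hme ▸ SetLike.mul_mem_graded hr (SetLike.coe_mem _)) t ht htp =
        frac 𝒜 p e (r * n) (hme ▸ SetLike.mul_mem_graded hr hn) t ht htp := by
      apply frac_eq
      rw [decompose_of_mem_same 𝒜 hn]
    rwa [h2] at h1
  · intro h k m e hme r hr t ht htp
    by_cases hk : k = k0
    · subst hk
      have h1 := h m e hme r hr t ht htp
      have h2 : frac 𝒜 p e (r * (decompose 𝒜 n k : A))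
          (hme ▸ SetLike.mul_mem_graded hr (SetLike.coe_mem _)) t ht htp =
          frac 𝒜 p e (r * n) (hme ▸ SetLike.mul_mem_graded hr hn) t ht htp := by
        apply frac_eq
        rw [decompose_of_mem_same 𝒜 hn]
      rwa [h2]
    · have h0 : (decompose 𝒜 n k : A) = 0 := decompose_of_mem_ne 𝒜 hn (Ne.symm hk)
      rw [frac_zero _ _ _ (by rw [h0, mul_zero])]
      exact Ideal.zero_mem _

/-- The additive submonoid underlying the ideal of numerators. -/
def tildeAdd (I : Ideal (AtPrime 𝒜 p)) : AddSubmonoid A where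
  carrier := {a | InT 𝒜 p I a}
  zero_mem' := by
    intro k m e hme r hr t ht htp
    rw [frac_zero _ _ _ (by rw [decompose_zero, DirectSum.zero_apply, ZeroMemClass.coe_zero,
      mul_zero])]
    exact Ideal.zero_mem _
  add_mem' := by
    intro a b ha hb k m e hme r hr t ht htp
    have h1 := ha k m e hme r hr t ht htp
    have h2 := hb k m e hme r hr t ht htp
    have h3 := Ideal.add_mem _ h1 h2
    rw [← frac_add] at h3
    have h4 : frac 𝒜 p e (r * (decompose 𝒜 (a + b) k : A))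
        (hme ▸ SetLike.mul_mem_graded hr (SetLike.coe_mem _)) t ht htp =
        frac 𝒜 p e (r * (decompose 𝒜 a k : A) + r * (decompose 𝒜 b k : A))
          (add_mem (hme ▸ SetLike.mul_mem_graded hr (SetLike.coe_mem _))
            (hme ▸ SetLike.mul_mem_graded hr (SetLike.coe_mem _))) t ht htp := by
      apply frac_eq
      rw [decompose_add, DirectSum.add_apply, AddSubgroup.coe_add, mul_add]
    rw [h4]
    exact h3

theorem mem_tildeAdd {I : Ideal (AtPrime 𝒜 p)} {a : A} : a ∈ tildeAdd (𝒜 := 𝒜) (p := p) I ↔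
    InT 𝒜 p I a := Iff.rfl

theorem homog_mul_mem {I : Ideal (AtPrime 𝒜 p)} {m' : ℕ} {r' : A} (hr' : r' ∈ 𝒜 m') {a : A}
    (ha : InT 𝒜 p I a) : InT 𝒜 p I (r' * a) := by
  intro k m e hme r hr t ht htp
  by_cases hle : m' ≤ k
  · have h1 := ha (k - m') (m + m') e (by omega) (r * r') (SetLike.mul_mem_graded hr hr') t ht htp
    have h2 : frac 𝒜 p e (r * (decompose 𝒜 (r' * a) k : A))
        (hme ▸ SetLike.mul_mem_graded hr (SetLike.coe_mem _)) t ht htp =
        frac 𝒜 p e (r * r' * (decompose 𝒜 a (k - m') : A))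
          ((show m + m' + (k - m') = e by omega) ▸
            SetLike.mul_mem_graded (SetLike.mul_mem_graded hr hr') (SetLike.coe_mem _))
          t ht htp := by
      apply frac_eq
      rw [coe_decompose_mul_of_left_mem_of_le 𝒜 hr' hle]
      ring
    rw [h2]
    exact h1
  · rw [frac_zero _ _ _ (by rw [coe_decompose_mul_of_left_mem_of_not_le 𝒜 hr' hle, mul_zero])]
    exact Ideal.zero_mem _

/-- The ideal of numerators of an ideal `I` of `A_(p)`. -/
def tilde (I : Ideal (AtPrime 𝒜 p)) : Ideal A where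
  carrier := {a | InT 𝒜 p I a}
  zero_mem' := (tildeAdd I).zero_mem
  add_mem' := fun ha hb => (tildeAdd I).add_mem ha hb
  smul_mem' := by
    classical
    intro c a ha
    show InT 𝒜 p I (c * a)
    rw [← mem_tildeAdd, ← DirectSum.sum_support_decompose 𝒜 c, Finset.sum_mul]
    refine AddSubmonoid.sum_mem _ (fun i _ => ?_)
    exact homog_mul_mem (SetLike.coe_mem _) ha

theorem mem_tilde {I : Ideal (AtPrime 𝒜 p)} {a : A} : a ∈ tilde (𝒜 := 𝒜) (p := p) I ↔
    InT 𝒜 p I a := Iff.rfl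

theorem mem_tilde_iff_frac {I : Ideal (AtPrime 𝒜 p)} {k : ℕ} {n d : A} (hn : n ∈ 𝒜 k)
    (hd : d ∈ 𝒜 k) (hdp : d ∉ p) :
    n ∈ tilde (𝒜 := 𝒜) (p := p) I ↔ frac 𝒜 p k n hn d hd hdp ∈ I := by
  rw [mem_tilde, inT_homogeneous_iff hn]
  constructor
  · intro h
    have h1 := h 0 k (zero_add k) 1 (SetLike.GradedOne.one_mem) d hd hdp
    have h2 : frac 𝒜 p k (1 * n)
        ((zero_add k) ▸ SetLike.mul_mem_graded (SetLike.GradedOne.one_mem) hn) d hd hdp =
        frac 𝒜 p k n hn d hd hdp := by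
      apply frac_eq
      rw [one_mul]
    rwa [h2] at h1
  · intro h m e hme r hr t ht htp
    have hrd : r * d ∈ 𝒜 e := hme ▸ SetLike.mul_mem_graded hr hd
    have h2 : frac 𝒜 p e (r * n) (hme ▸ SetLike.mul_mem_graded hr hn) t ht htp =
        frac 𝒜 p e (r * d) hrd t ht htp * frac 𝒜 p k n hn d hd hdp := by
      rw [frac_mul]
      apply frac_eq
      ring
    rw [h2]
    exact Ideal.mul_mem_left _ _ h

theorem exists_of_notMem_tilde {I : Ideal (AtPrime 𝒜 p)} {k : ℕ} {s : A} (hs : s ∈ 𝒜 k)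
    (hsI : s ∉ tilde (𝒜 := 𝒜) (p := p) I) :
    ∃ (m e : ℕ) (hme : m + k = e) (r : A) (hr : r ∈ 𝒜 m) (t : A) (ht : t ∈ 𝒜 e) (htp : t ∉ p),
      frac 𝒜 p e (r * s) (hme ▸ SetLike.mul_mem_graded hr hs) t ht htp ∉ I := by
  by_contra hcon
  apply hsI
  rw [mem_tilde, inT_homogeneous_iff hs]
  intro m e hme r hr t ht htp
  by_contra h1
  exact hcon ⟨m, e, hme, r, hr, t, ht, htp, h1⟩

theorem tilde_mono {I J : Ideal (AtPrime 𝒜 p)} (h : I ≤ J) :
    tilde (𝒜 := 𝒜) (p := p) I ≤ tilde J := by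
  intro a ha k m e hme r hr t ht htp
  exact h (ha k m e hme r hr t ht htp)

theorem tilde_injective : Function.Injective (tilde (𝒜 := 𝒜) (p := p)) := by
  intro I J h
  ext b
  obtain ⟨e, n, hn, d, hd, hdp, rfl⟩ := exists_frac b
  rw [← mem_tilde_iff_frac hn hd hdp, ← mem_tilde_iff_frac hn hd hdp, h]

theorem tilde_isHomogeneous (I : Ideal (AtPrime 𝒜 p)) :
    (tilde (𝒜 := 𝒜) (p := p) I).IsHomogeneous 𝒜 := by
  intro i a ha
  rw [mem_tilde, inT_homogeneous_iff (SetLike.coe_mem (decompose 𝒜 a i))]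
  intro m e hme r hr t ht htp
  exact ha i m e hme r hr t ht htp

theorem tilde_le {I : Ideal (AtPrime 𝒜 p)} (hI : I ≠ ⊤) : tilde (𝒜 := 𝒜) (p := p) I ≤ p := by
  intro a ha
  by_contra hap
  obtain ⟨k, hk⟩ := exists_component_notMem 𝒜 p hap
  have h1 := ha k 0 k (zero_add k) 1 (SetLike.GradedOne.one_mem) (decompose 𝒜 a k : A)
    (SetLike.coe_mem _) hk
  rw [frac_eq_one _ _ _ (one_mul _)] at h1
  exact hI ((Ideal.eq_top_iff_one _).mpr h1)

theorem tilde_isPrime (I : Ideal (AtPrime 𝒜 p)) [hI : I.IsPrime] :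
    (tilde (𝒜 := 𝒜) (p := p) I).IsPrime := by
  refine (tilde_isHomogeneous I).isPrime_of_homogeneous_mem_or_mem ?_ ?_
  · intro h
    have h1 := tilde_le (𝒜 := 𝒜) (p := p) hI.ne_top
    rw [h] at h1
    exact (inferInstance : p.IsPrime).ne_top (top_le_iff.mp h1)
  · rintro x y ⟨i, hx⟩ ⟨j, hy⟩ hxy
    by_contra hcon
    rw [not_or] at hcon
    obtain ⟨hx', hy'⟩ := hcon
    obtain ⟨m, e, hme, r, hr, t, ht, htp, h1⟩ := exists_of_notMem_tilde hx hx'
    obtain ⟨m', e', hme', r', hr', t', ht', htp', h2⟩ := exists_of_notMem_tilde hy hy'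
    have h3 := (inT_homogeneous_iff (SetLike.mul_mem_graded hx hy)).mp (mem_tilde.mp hxy) (m + m')
      (e + e') (by omega) (r * r') (SetLike.mul_mem_graded hr hr') (t * t')
      (SetLike.mul_mem_graded ht ht')
      (fun h => (Ideal.IsPrime.mem_or_mem inferInstance h).elim htp htp')
    have h4 : frac 𝒜 p (e + e') (r * r' * (x * y))
        ((show m + m' + (i + j) = e + e' by omega) ▸
          SetLike.mul_mem_graded (SetLike.mul_mem_graded hr hr') (SetLike.mul_mem_graded hx hy))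
        (t * t') (SetLike.mul_mem_graded ht ht')
        (fun h => (Ideal.IsPrime.mem_or_mem inferInstance h).elim htp htp') =
        frac 𝒜 p e (r * x) (hme ▸ SetLike.mul_mem_graded hr hx) t ht htp *
          frac 𝒜 p e' (r' * y) (hme' ▸ SetLike.mul_mem_graded hr' hy) t' ht' htp' := by
      rw [frac_mul]
      apply frac_eq
      ring
    rw [h4] at h3
    rcases hI.mem_or_mem h3 with h | h
    · exact h1 h
    · exact h2 h

/-! ### Every ideal of `A_(p)` is contracted from `A_p` -/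

theorem map_le_map_tilde (I : Ideal (AtPrime 𝒜 p)) :
    I.map (algebraMap (AtPrime 𝒜 p) (Localization.AtPrime p)) ≤
      (tilde (𝒜 := 𝒜) (p := p) I).map (algebraMap A (Localization.AtPrime p)) := by
  rw [Ideal.map_le_iff_le_comap]
  intro b hb
  obtain ⟨e, n, hn, d, hd, hdp, rfl⟩ := exists_frac b
  rw [Ideal.mem_comap, HomogeneousLocalization.algebraMap_apply, val_frac,
    IsLocalization.mem_map_algebraMap_iff p.primeCompl]
  refine ⟨(⟨n, (mem_tilde_iff_frac hn hd hdp).mpr hb⟩, ⟨d, hdp⟩), ?_⟩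
  show Localization.mk n ⟨d, hdp⟩ * algebraMap A _ d = algebraMap A _ n
  rw [Localization.mk_eq_mk']
  exact IsLocalization.mk'_spec _ n ⟨d, hdp⟩

theorem comap_map_le (I : Ideal (AtPrime 𝒜 p)) :
    (I.map (algebraMap (AtPrime 𝒜 p) (Localization.AtPrime p))).comap
      (algebraMap (AtPrime 𝒜 p) (Localization.AtPrime p)) ≤ I := by
  intro b hb
  have h1 := map_le_map_tilde I (Ideal.mem_comap.mp hb)
  obtain ⟨e, n, hn, d, hd, hdp, rfl⟩ := exists_frac b
  rw [HomogeneousLocalization.algebraMap_apply, val_frac,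
    IsLocalization.mem_map_algebraMap_iff p.primeCompl] at h1
  obtain ⟨⟨⟨a, ha⟩, ⟨s, hs⟩⟩, h2⟩ := h1
  have h2' : Localization.mk n ⟨d, hdp⟩ * algebraMap A (Localization.AtPrime p) s =
      algebraMap A (Localization.AtPrime p) a := h2
  have h4 : Localization.mk n ⟨d, hdp⟩ * algebraMap A (Localization.AtPrime p) d =
      algebraMap A (Localization.AtPrime p) n := by
    rw [Localization.mk_eq_mk']
    exact IsLocalization.mk'_spec _ n ⟨d, hdp⟩
  have h3 : algebraMap A (Localization.AtPrime p) (n * s) =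
      algebraMap A (Localization.AtPrime p) (a * d) := by
    rw [map_mul, map_mul, ← h4, ← h2']
    ring
  obtain ⟨w, hw⟩ := (IsLocalization.eq_iff_exists p.primeCompl (Localization.AtPrime p)).mp h3
  have hu : (w : A) * s ∉ p := fun h => (Ideal.IsPrime.mem_or_mem inferInstance h).elim w.2 hs
  obtain ⟨i, hi⟩ := exists_component_notMem 𝒜 p hu
  have ha' : ((w : A) * d) * a ∈ tilde (𝒜 := 𝒜) (p := p) I := Ideal.mul_mem_left _ _ ha
  have hEq : ((w : A) * d) * a = ((w : A) * s) * n := by linear_combination -hw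
  rw [hEq] at ha'
  have hti : (decompose 𝒜 ((w : A) * s) i : A) * d ∉ p :=
    fun h => (Ideal.IsPrime.mem_or_mem inferInstance h).elim hi hdp
  have h5 := ha' (i + e) 0 (i + e) (zero_add _) 1 (SetLike.GradedOne.one_mem)
    ((decompose 𝒜 ((w : A) * s) i : A) * d)
    (SetLike.mul_mem_graded (SetLike.coe_mem _) hd) hti
  have h6 : ∀ hx, frac 𝒜 p (i + e) (1 * (decompose 𝒜 ((w : A) * s * n) (i + e) : A)) hx
      ((decompose 𝒜 ((w : A) * s) i : A) * d)
      (SetLike.mul_mem_graded (SetLike.coe_mem _) hd) hti = frac 𝒜 p e n hn d hd hdp := by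
    intro hx
    apply frac_eq
    rw [coe_decompose_mul_add_of_right_mem 𝒜 hn]
    ring
  rwa [h6] at h5

/-! ### `m_{A_(p)} A_p` is primary to the maximal ideal -/

theorem maximalIdeal_le_radical (hp : p.IsHomogeneous 𝒜) {e : ℕ} (he : 0 < e) {f : A}
    (hf : f ∈ 𝒜 e) (hfp : f ∉ p) :
    IsLocalRing.maximalIdeal (Localization.AtPrime p) ≤
      ((IsLocalRing.maximalIdeal (AtPrime 𝒜 p)).map
        (algebraMap (AtPrime 𝒜 p) (Localization.AtPrime p))).radical := by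
  classical
  rw [← Localization.AtPrime.map_eq_maximalIdeal, Ideal.map_le_iff_le_comap]
  intro a ha
  rw [← DirectSum.sum_support_decompose 𝒜 a]
  refine Ideal.sum_mem _ (fun i _ => ?_)
  have hai : (decompose 𝒜 a i : A) ∈ p := hp i ha
  set b := (decompose 𝒜 a i : A) with hb
  have hbdeg : b ∈ 𝒜 i := SetLike.coe_mem _
  rw [Ideal.mem_comap]
  refine ⟨e, ?_⟩
  have hnum : b ^ e ∈ 𝒜 (e * i) := by
    have := SetLike.pow_mem_graded e hbdeg
    rwa [smul_eq_mul] at this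
  have hden : f ^ i ∈ 𝒜 (e * i) := by
    have := SetLike.pow_mem_graded i hf
    rwa [smul_eq_mul, mul_comm] at this
  have hdenp : f ^ i ∉ p := fun h => hfp (Ideal.IsPrime.mem_of_pow_mem inferInstance i h)
  have hβ : frac 𝒜 p (e * i) (b ^ e) hnum (f ^ i) hden hdenp ∈
      IsLocalRing.maximalIdeal (AtPrime 𝒜 p) :=
    frac_mem_maximalIdeal _ _ _ (Ideal.pow_mem_of_mem p hai e he)
  have h1 := Ideal.mem_map_of_mem (algebraMap (AtPrime 𝒜 p) (Localization.AtPrime p)) hβ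
  rw [HomogeneousLocalization.algebraMap_apply, val_frac] at h1
  have h2 : (algebraMap A (Localization.AtPrime p) b) ^ e =
      Localization.mk (b ^ e) ⟨f ^ i, hdenp⟩ * algebraMap A (Localization.AtPrime p) (f ^ i) := by
    rw [Localization.mk_eq_mk', ← map_pow]
    exact (IsLocalization.mk'_spec _ (b ^ e) ⟨f ^ i, hdenp⟩).symm
  rw [h2]
  exact Ideal.mul_mem_right _ _ h1

/-! ### Dimension -/

theorem ringKrullDim_atPrime_le :
    ringKrullDim (AtPrime 𝒜 p) ≤ ((p.height : ℕ∞) : WithBot ℕ∞) := by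
  let P0 : PrimeSpectrum A := ⟨p, inferInstance⟩
  let g : PrimeSpectrum (AtPrime 𝒜 p) → Set.Iic P0 := fun q =>
    ⟨⟨tilde (𝒜 := 𝒜) (p := p) q.asIdeal, @tilde_isPrime _ _ _ _ _ _ q.asIdeal q.isPrime⟩,
      tilde_le q.isPrime.ne_top⟩
  have hg : StrictMono g := by
    intro q q' hqq'
    have h1 : q.asIdeal < q'.asIdeal := (PrimeSpectrum.asIdeal_lt_asIdeal _ _).mpr hqq'
    show (g q : PrimeSpectrum A) < (g q' : PrimeSpectrum A)
    rw [← PrimeSpectrum.asIdeal_lt_asIdeal]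
    show tilde (𝒜 := 𝒜) (p := p) q.asIdeal < tilde (𝒜 := 𝒜) (p := p) q'.asIdeal
    exact lt_of_le_of_ne (tilde_mono h1.le) (fun h => h1.ne (tilde_injective h))
  have h1 := Order.krullDim_le_of_strictMono g hg
  rw [← Order.height_eq_krullDim_Iic, ← PrimeSpectrum.height_eq_orderHeight] at h1
  exact h1

/-! ### Localizations of `A_(p)` -/

section Loc

variable (q : Ideal (AtPrime 𝒜 p)) [hq : q.IsPrime]

instance tilde_isPrime_inst : (tilde (𝒜 := 𝒜) (p := p) q).IsPrime := tilde_isPrime q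

theorem primeCompl_le : p.primeCompl ≤ (tilde (𝒜 := 𝒜) (p := p) q).primeCompl := by
  intro s hs hsq
  exact hs (tilde_le hq.ne_top hsq)

/-- The canonical map `A_(p) → A_(q̃)`. -/
def locMap : AtPrime 𝒜 p →+* AtPrime 𝒜 (tilde (𝒜 := 𝒜) (p := p) q) :=
  mapId 𝒜 (primeCompl_le q)

theorem locMap_frac {e : ℕ} {n d : A} (hn : n ∈ 𝒜 e) (hd : d ∈ 𝒜 e) (hdp : d ∉ p) :
    locMap q (frac 𝒜 p e n hn d hd hdp) =
      frac 𝒜 (tilde (𝒜 := 𝒜) (p := p) q) e n hn d hd (fun h => hdp (tilde_le hq.ne_top h)) :=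
  rfl

theorem isLocalization_tilde :
    @IsLocalization (AtPrime 𝒜 p) _ q.primeCompl (AtPrime 𝒜 (tilde (𝒜 := 𝒜) (p := p) q)) _
      (locMap q).toAlgebra := by
  let _ : Algebra (AtPrime 𝒜 p) (AtPrime 𝒜 (tilde (𝒜 := 𝒜) (p := p) q)) := (locMap q).toAlgebra
  refine (isLocalization_iff _ _).mpr ⟨?_, ?_, ?_⟩
  · rintro ⟨y, hy⟩
    obtain ⟨e, n, hn, d, hd, hdp, rfl⟩ := exists_frac y
    show IsUnit (locMap q (frac 𝒜 p e n hn d hd hdp))
    rw [locMap_frac]
    apply isUnit_frac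
    intro hnq
    exact hy ((mem_tilde_iff_frac hn hd hdp).mp hnq)
  · intro z
    obtain ⟨e, a, ha, s, hs, hsq, rfl⟩ := exists_frac z
    obtain ⟨m, e', hme, r, hr, t, ht, htp, hnot⟩ := exists_of_notMem_tilde hs hsq
    refine ⟨(frac 𝒜 p e' (r * a) (hme ▸ SetLike.mul_mem_graded hr ha) t ht htp,
      ⟨frac 𝒜 p e' (r * s) (hme ▸ SetLike.mul_mem_graded hr hs) t ht htp, hnot⟩), ?_⟩
    show frac 𝒜 (tilde (𝒜 := 𝒜) (p := p) q) e a ha s hs hsq *
      locMap q (frac 𝒜 p e' (r * s) (hme ▸ SetLike.mul_mem_graded hr hs) t ht htp) =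
      locMap q (frac 𝒜 p e' (r * a) (hme ▸ SetLike.mul_mem_graded hr ha) t ht htp)
    rw [locMap_frac, locMap_frac, frac_mul]
    apply frac_eq
    ring
  · intro x y hxy
    obtain ⟨e1, n1, hn1, d1, hd1, hdp1, rfl⟩ := exists_frac x
    obtain ⟨e2, n2, hn2, d2, hd2, hdp2, rfl⟩ := exists_frac y
    have hxy' : locMap q (frac 𝒜 p e1 n1 hn1 d1 hd1 hdp1) =
        locMap q (frac 𝒜 p e2 n2 hn2 d2 hd2 hdp2) := hxy
    rw [locMap_frac, locMap_frac] at hxy'
    have h1 := congrArg HomogeneousLocalization.val hxy'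
    rw [val_frac, val_frac, Localization.mk_eq_mk_iff, Localization.r_iff_exists] at h1
    obtain ⟨w, hw⟩ := h1
    have hw' : (w : A) * (d2 * n1) = (w : A) * (d1 * n2) := hw
    obtain ⟨i, hi⟩ := exists_component_notMem 𝒜 (tilde (𝒜 := 𝒜) (p := p) q) w.2
    have hm1 : d2 * n1 ∈ 𝒜 (e1 + e2) := (add_comm e2 e1) ▸ SetLike.mul_mem_graded hd2 hn1
    have hm2 : d1 * n2 ∈ 𝒜 (e1 + e2) := SetLike.mul_mem_graded hd1 hn2
    have hwi : (decompose 𝒜 (w : A) i : A) * (d2 * n1) =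
        (decompose 𝒜 (w : A) i : A) * (d1 * n2) := by
      rw [← coe_decompose_mul_add_of_right_mem 𝒜 hm1, ← coe_decompose_mul_add_of_right_mem 𝒜 hm2,
        hw']
    obtain ⟨m, e', hme, r, hr, t, ht, htp, hnot⟩ :=
      exists_of_notMem_tilde (SetLike.coe_mem (decompose 𝒜 (w : A) i)) hi
    refine ⟨⟨frac 𝒜 p e' (r * (decompose 𝒜 (w : A) i : A))
      (hme ▸ SetLike.mul_mem_graded hr (SetLike.coe_mem _)) t ht htp, hnot⟩, ?_⟩
    show frac 𝒜 p e' (r * (decompose 𝒜 (w : A) i : A))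
      (hme ▸ SetLike.mul_mem_graded hr (SetLike.coe_mem _)) t ht htp *
        frac 𝒜 p e1 n1 hn1 d1 hd1 hdp1 =
      frac 𝒜 p e' (r * (decompose 𝒜 (w : A) i : A))
        (hme ▸ SetLike.mul_mem_graded hr (SetLike.coe_mem _)) t ht htp *
        frac 𝒜 p e2 n2 hn2 d2 hd2 hdp2
    rw [frac_mul, frac_mul]
    apply frac_eq
    linear_combination (r * t) * hwi

end Loc

end Groth.Agent.Lib.R2H7.HomLoc
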