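/-
R2LeadHopf: Hopf's lemma over an algebraically closed field via the Segre cone, Krull's height theorem
and the Nullstellensatz.  Main: `exists_rankOne_zero` (n ≤ a+b-2 bilinear forms have a common nonzero rank one
zero) and `finrank_add_le_finrank_range_succ`.
-/
import Mathlib

set_option autoImplicit false

namespace Groth.Agent.Lib.R2Lead.Hopf

open MvPolynomial

variable {k : Type*} [Field k] (a b : ℕ)

/-- The Segre map `k[z_ij] → k[x_i, y_j]`, `z_ij ↦ x_i y_j`. -/
noncomputable def seg :
    MvPolynomial (Fin a × Fin b) k →ₐ[k] MvPolynomial (Fin a ⊕ Fin b) k :=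
  aeval (fun p => X (Sum.inl p.1) * X (Sum.inr p.2))

@[simp] lemma seg_X (p : Fin a × Fin b) :
    seg (k := k) a b (X p) = X (Sum.inl p.1) * X (Sum.inr p.2) := by
  simp [seg]

/-- Kill the first `i` of the `x`-variables and the first `j` of the `y`-variables. -/
noncomputable def kill (i j : ℕ) :
    MvPolynomial (Fin a ⊕ Fin b) k →ₐ[k] MvPolynomial (Fin a ⊕ Fin b) k :=
  aeval (Sum.elim (fun s : Fin a => if s.val < i then 0 else X (Sum.inl s))
    (fun s : Fin b => if s.val < j then 0 else X (Sum.inr s)))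

@[simp] lemma kill_X_inl (i j : ℕ) (s : Fin a) :
    kill (k := k) a b i j (X (Sum.inl s)) = if s.val < i then 0 else X (Sum.inl s) := by
  simp [kill]

@[simp] lemma kill_X_inr (i j : ℕ) (s : Fin b) :
    kill (k := k) a b i j (X (Sum.inr s)) = if s.val < j then 0 else X (Sum.inr s) := by
  simp [kill]

lemma kill_comp {i j i' j' : ℕ} (hi : i ≤ i') (hj : j ≤ j') :
    (kill (k := k) a b i' j').comp (kill a b i j) = kill a b i' j' := by
  apply MvPolynomial.algHom_ext
  rintro (s | s)
  · simp only [AlgHom.comp_apply, kill_X_inl]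
    split_ifs with h1 h2 h2
    · simp
    · omega
    · simp [h2]
    · simp [h2]
  · simp only [AlgHom.comp_apply, kill_X_inr]
    split_ifs with h1 h2 h2
    · simp
    · omega
    · simp [h2]
    · simp [h2]

/-- The coordinate ring of the Segre cone. -/
abbrev SegRing : Type _ := MvPolynomial (Fin a × Fin b) k ⧸ RingHom.ker (seg (k := k) a b)

/-- the maps whose kernels form the chain of primes -/
noncomputable def psi (i j : ℕ) : SegRing (k := k) a b →ₐ[k] MvPolynomial (Fin a ⊕ Fin b) k :=
  (kill a b i j).comp (Ideal.kerLiftAlg (seg (k := k) a b))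

lemma psi_mk (i j : ℕ) (f : MvPolynomial (Fin a × Fin b) k) :
    psi (k := k) a b i j (Ideal.Quotient.mk _ f) = kill a b i j (seg a b f) := by
  simp [psi]

lemma psi_comp {i j i' j' : ℕ} (hi : i ≤ i') (hj : j ≤ j') (u : SegRing (k := k) a b) :
    kill a b i' j' (psi a b i j u) = psi a b i' j' u := by
  have := kill_comp (k := k) a b hi hj
  simp only [psi, AlgHom.comp_apply]
  exact AlgHom.congr_fun this _

/-- the chain of primes -/
noncomputable def P (i j : ℕ) : Ideal (SegRing (k := k) a b) := RingHom.ker (psi (k := k) a b i j)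

instance (i j : ℕ) : (P (k := k) a b i j).IsPrime := by
  unfold P
  exact RingHom.ker_isPrime _

lemma P_le {i j i' j' : ℕ} (hi : i ≤ i') (hj : j ≤ j') : P (k := k) a b i j ≤ P a b i' j' := by
  intro u hu
  simp only [P, RingHom.mem_ker] at hu ⊢
  rw [← psi_comp a b hi hj, hu, map_zero]

lemma P_lt {i j i' j' : ℕ} (hi : i ≤ i') (hj : j ≤ j') (hia : i < a) (hjb : j < b)
    (h : i < i' ∨ j < j') : P (k := k) a b i j < P a b i' j' := by
  rw [SetLike.lt_iff_le_and_exists]
  refine ⟨P_le a b hi hj, Ideal.Quotient.mk _ (X (⟨i, hia⟩, ⟨j, hjb⟩)), ?_, ?_⟩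
  · simp only [P, RingHom.mem_ker, psi_mk, seg_X, map_mul, kill_X_inl, kill_X_inr]
    rcases h with h | h
    · simp [h]
    · simp [h]
  · simp only [P, RingHom.mem_ker, psi_mk, seg_X, map_mul, kill_X_inl, kill_X_inr]
    simp

lemma le_height_P (ha : 0 < a) (hb : 0 < b) : ∀ t : ℕ, t + 1 ≤ a + b →
    (t : ℕ∞) ≤ (P (k := k) a b (min t (a - 1)) (t - min t (a - 1))).height := by
  intro t
  induction t with
  | zero => intro _; simp
  | succ t ih =>
    intro ht
    have h1 := ih (by omega)
    have hlt : P (k := k) a b (min t (a - 1)) (t - min t (a - 1)) <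
        P a b (min (t + 1) (a - 1)) (t + 1 - min (t + 1) (a - 1)) := by
      apply P_lt
      · omega
      · omega
      · omega
      · omega
      · omega
    have h2 := Ideal.height_add_one_le_of_lt_of_isPrime hlt
    calc ((t + 1 : ℕ) : ℕ∞) = (t : ℕ∞) + 1 := by push_cast; rfl
      _ ≤ _ := by gcongr
      _ ≤ _ := h2

/-- evaluation at the vertex of the Segre cone -/
noncomputable def eps : SegRing (k := k) a b →ₐ[k] k :=
  (aeval (0 : Fin a ⊕ Fin b → k)).comp (Ideal.kerLiftAlg (seg (k := k) a b))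

lemma eps_mk (f : MvPolynomial (Fin a × Fin b) k) :
    eps (k := k) a b (Ideal.Quotient.mk _ f) = aeval (0 : Fin a × Fin b → k) f := by
  have : ((aeval (0 : Fin a ⊕ Fin b → k)).comp (seg (k := k) a b)) =
      aeval (0 : Fin a × Fin b → k) := by
    apply MvPolynomial.algHom_ext
    intro p
    simp
  have h2 := AlgHom.congr_fun this f
  simpa [eps] using h2

lemma eps_psi (i j : ℕ) (u : SegRing (k := k) a b) :
    aeval (0 : Fin a ⊕ Fin b → k) (psi a b i j u) = eps a b u := by
  have : ((aeval (0 : Fin a ⊕ Fin b → k)).comp (kill (k := k) a b i j)) =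
      aeval (0 : Fin a ⊕ Fin b → k) := by
    apply MvPolynomial.algHom_ext
    rintro (s | s)
    · simp only [AlgHom.comp_apply, kill_X_inl]
      split_ifs <;> simp
    · simp only [AlgHom.comp_apply, kill_X_inr]
      split_ifs <;> simp
  simp only [psi, eps, AlgHom.comp_apply]
  exact AlgHom.congr_fun this _

/-- the vertex ideal -/
noncomputable def vtx : Ideal (SegRing (k := k) a b) := RingHom.ker (eps (k := k) a b)

instance : (vtx (k := k) a b).IsPrime := by
  unfold vtx
  exact RingHom.ker_isPrime _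

lemma P_le_vtx (i j : ℕ) : P (k := k) a b i j ≤ vtx a b := by
  intro u hu
  simp only [P, vtx, RingHom.mem_ker] at hu ⊢
  rw [← eps_psi a b i j, hu, map_zero]

lemma le_height_vtx (ha : 0 < a) (hb : 0 < b) :
    ((a + b - 1 : ℕ) : ℕ∞) ≤ (vtx (k := k) a b).height :=
  (le_height_P a b ha hb (a + b - 1) (by omega)).trans (Ideal.height_mono (P_le_vtx a b _ _))

/-- **Key existence statement**: `n ≤ a + b - 2` bilinear forms on `k^a × k^b`, `k` algebraically
closed, have a common zero which is a nonzero rank one matrix. -/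
theorem exists_rankOne_zero [IsAlgClosed k] {n : ℕ} (ha : 0 < a) (hb : 0 < b)
    (hn : n + 2 ≤ a + b) (c : Fin n → Fin a × Fin b → k) :
    ∃ Z : Fin a × Fin b → k, (∃ p, Z p ≠ 0) ∧
      (∀ i i' j j', Z (i, j) * Z (i', j') = Z (i, j') * Z (i', j)) ∧
      ∀ m, ∑ p, c m p * Z p = 0 := by
  classical
  let T := MvPolynomial (Fin a × Fin b) k
  let π : T →+* SegRing (k := k) a b := Ideal.Quotient.mk _
  have hπ : Function.Surjective π := Ideal.Quotient.mk_surjective
  let ℓ : Fin n → T := fun m => ∑ p, C (c m p) * X p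
  let s : Finset (SegRing (k := k) a b) := Finset.univ.image (fun m => π (ℓ m))
  have hs : Ideal.span (s : Set (SegRing (k := k) a b)) ≤ vtx a b := by
    rw [Ideal.span_le]
    intro u hu
    simp only [s, Finset.coe_image, Finset.coe_univ, Set.image_univ, Set.mem_range] at hu
    obtain ⟨m, rfl⟩ := hu
    simp only [SetLike.mem_coe, vtx, RingHom.mem_ker]
    rw [eps_mk]
    simp [ℓ]
  obtain ⟨q, hq, hqv⟩ := Ideal.exists_minimalPrimes_le hs
  haveI : q.IsPrime := hq.1.1
  have hqne : q ≠ vtx a b := by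
    intro h
    have h1 := Ideal.height_le_card_of_mem_minimalPrimes_span_finset hq
    have h2 := le_height_vtx (k := k) a b ha hb
    rw [h] at h1
    have h3 : ((a + b - 1 : ℕ) : ℕ∞) ≤ (s.card : ℕ∞) := h2.trans h1
    have h4 : s.card ≤ n := by
      refine (Finset.card_image_le).trans ?_
      simp
    have h5 : a + b - 1 ≤ s.card := by exact_mod_cast h3
    omega
  obtain ⟨z, hzv, hzq⟩ := SetLike.exists_of_lt (lt_of_le_of_ne hqv hqne)
  have hjac : q.jacobson = q := IsJacobsonRing.out inferInstance (Ideal.IsPrime.isRadical ‹_›)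
  have hz2 : z ∉ q.jacobson := by rw [hjac]; exact hzq
  rw [Ideal.jacobson, Submodule.mem_sInf] at hz2
  push Not at hz2
  obtain ⟨M', ⟨hqM, hM'⟩, hzM⟩ := hz2
  haveI := hM'
  have hMmax : (Ideal.comap π M').IsMaximal := Ideal.comap_isMaximal_of_surjective π hπ
  obtain ⟨Z, hZ⟩ := (MvPolynomial.isMaximal_iff_eq_vanishingIdeal_singleton).mp hMmax
  have hmem : ∀ f : T, π f ∈ M' ↔ aeval Z f = 0 := by
    intro f
    rw [← MvPolynomial.mem_vanishingIdeal_singleton_iff, ← hZ, Ideal.mem_comap]
  refine ⟨Z, ?_, ?_, ?_⟩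
  · by_contra hcon
    push Not at hcon
    obtain ⟨g, rfl⟩ := hπ z
    apply hzM
    rw [hmem]
    have hZ0 : Z = 0 := funext hcon
    rw [hZ0]
    have := hzv
    simp only [vtx, RingHom.mem_ker] at this
    rw [← this]
    exact (eps_mk a b g).symm
  · intro i i' j j'
    have hker : (X (i, j) * X (i', j') - X (i, j') * X (i', j) : T) ∈
        RingHom.ker (seg (k := k) a b) := by
      rw [RingHom.mem_ker, map_sub, map_mul, map_mul]
      erw [seg_X, seg_X, seg_X, seg_X]
      ring
    have h0 : π (X (i, j) * X (i', j') - X (i, j') * X (i', j) : T) = 0 :=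
      Ideal.Quotient.eq_zero_iff_mem.mpr hker
    have h1 : π (X (i, j) * X (i', j') - X (i, j') * X (i', j) : T) ∈ M' := by
      rw [h0]; exact zero_mem _
    rw [hmem] at h1
    simpa [sub_eq_zero] using h1
  · intro m
    have h1 : π (ℓ m) ∈ M' := by
      apply hqM
      apply hq.1.2
      apply Ideal.subset_span
      simp only [s, Finset.coe_image, Finset.coe_univ, Set.image_univ, Set.mem_range]
      exact ⟨m, rfl⟩
    rw [hmem] at h1
    simpa [ℓ] using h1

open scoped TensorProduct in
/-- **Hopf's lemma** over an algebraically closed field: a bilinear map `A × B → C` without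
nontrivial zeros has image spanning a space of dimension at least `dim A + dim B - 1`. -/
theorem finrank_add_le_finrank_range_succ {K : Type*} [Field K] [IsAlgClosed K]
    {A B C : Type*} [AddCommGroup A] [Module K A] [AddCommGroup B] [Module K B]
    [AddCommGroup C] [Module K C] [FiniteDimensional K A] [FiniteDimensional K B]
    [Nontrivial A] [Nontrivial B] (ν : A ⊗[K] B →ₗ[K] C)
    (hA : ∀ x : A, x ≠ 0 → ∀ y : B, ν (x ⊗ₜ[K] y) = 0 → y = 0) :
    Module.finrank K A + Module.finrank K B ≤ Module.finrank K (LinearMap.range ν) + 1 := by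
  classical
  by_contra hcon
  push Not at hcon
  have ha : 0 < Module.finrank K A := Module.finrank_pos
  have hb : 0 < Module.finrank K B := Module.finrank_pos
  let bA := Module.finBasis K A
  let bB := Module.finBasis K B
  let bC := Module.finBasis K (LinearMap.range ν)
  let e : Fin (Module.finrank K A) × Fin (Module.finrank K B) → LinearMap.range ν :=
    fun p => ⟨ν (bA p.1 ⊗ₜ[K] bB p.2), LinearMap.mem_range_self _ _⟩
  obtain ⟨Z, ⟨⟨i0, j0⟩, hZ0⟩, hrk, hzero⟩ :=
    exists_rankOne_zero (k := K) (Module.finrank K A) (Module.finrank K B)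
      (n := Module.finrank K (LinearMap.range ν)) ha hb (by omega)
      (fun m p => bC.repr (e p) m)
  have hw : ∑ p, Z p • e p = 0 := by
    apply bC.repr.injective
    ext m
    rw [map_sum, map_zero, Finsupp.coe_finset_sum, Finset.sum_apply, Finsupp.coe_zero,
      Pi.zero_apply, ← hzero m]
    refine Finset.sum_congr rfl fun p _ => ?_
    rw [map_smul, Finsupp.smul_apply, smul_eq_mul, mul_comm]
  let x : A := ∑ i, Z (i, j0) • bA i
  let y : B := ∑ j, Z (i0, j) • bB j
  have hx : x ≠ 0 := by
    intro h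
    have h1 : bA.repr x i0 = Z (i0, j0) := by
      simp only [x]
      rw [Module.Basis.repr_sum_self]
    rw [h] at h1
    simp at h1
    exact hZ0 h1.symm
  have hy : y ≠ 0 := by
    intro h
    have h1 : bB.repr y j0 = Z (i0, j0) := by
      simp only [y]
      rw [Module.Basis.repr_sum_self]
    rw [h] at h1
    simp at h1
    exact hZ0 h1.symm
  apply hy
  apply hA x hx
  have hw' : ∑ p, Z p • ν (bA p.1 ⊗ₜ[K] bB p.2) = 0 := by
    have := congrArg (Subtype.val) hw
    simpa [e] using this
  have h1 : ν (x ⊗ₜ[K] y) = Z (i0, j0) • ∑ p, Z p • ν (bA p.1 ⊗ₜ[K] bB p.2) := by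
    simp only [x, y, TensorProduct.sum_tmul, TensorProduct.tmul_sum, TensorProduct.smul_tmul_smul,
      map_sum, map_smul]
    rw [Finset.smul_sum, Fintype.sum_prod_type, Finset.sum_comm]
    refine Finset.sum_congr rfl fun i _ => Finset.sum_congr rfl fun j _ => ?_
    rw [smul_smul]
    congr 1
    rw [mul_comm (Z (i0, j0)), hrk i i0 j j0]
  rw [h1, hw']
  simp

end Groth.Agent.Lib.R2Lead.Hopf
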