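import Mathlib
import Groth.Prelude
import Groth.Agent.Lib.R2LeadHopf
import Groth.Agent.Lib.R2H3NegTwist
import Groth.Agent.Lib.R2H2LocFreeTF
import Groth.Agent.Lib.R2H1VBSub
import Groth.Agent.Lib.R2H2PnLocFree
import Groth.Agent.Lib.Helper23TensorQCoh
import Groth.Agent.Lib.Helper23SecTw4
import Groth.Agent.S0002

/-!
# `h⁰(E₁) + h⁰(E₂) ≤ h⁰(E₁ ⊗ E₂) + 1` on integral proper varieties over an algebraically closed field

Namespace `Groth.Agent.Lib.R2H7.HopfH0`.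

* `smul_eq_zero_of_tmul_eq_zero` : `x ⊗ y = 0` in `P ⊗ Q`, `Q` free with basis `b` ⟹ `b.repr y j • x = 0`.
* `eq_zero_or_eq_zero_of_tm_eq_zero` : on an integral scheme, for finite locally free `E₁`, `E₂`,
  `s ⊗ t = 0` (sections over `⊤`) implies `s = 0` or `t = 0`.
* `mulH0` : the `k`-linear multiplication map `H⁰(E₁) ⊗ H⁰(E₂) → H⁰(E₁ ⊗ E₂)`.
* `main` : Hopf's bound.
-/

set_option autoImplicit false
set_option linter.style.haveILetI false
set_option linter.unusedSectionVars false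
universe u
open CategoryTheory CategoryTheory.Limits AlgebraicGeometry TopologicalSpace Opposite TensorProduct

namespace Groth.Agent.Lib.R2H7.HopfH0

open Groth.Agent.Lib.Helper23.SecTw Groth.Agent.Lib.Helper6

section alg

theorem smul_eq_zero_of_tmul_eq_zero {R P Q ι : Type*} [CommRing R] [AddCommGroup P] [Module R P]
    [AddCommGroup Q] [Module R Q] (b : Module.Basis ι R Q) (x : P) (y : Q)
    (h : x ⊗ₜ[R] y = 0) (j : ι) : b.repr y j • x = 0 := by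
  have h1 := congrArg (fun z => TensorProduct.rid R P (LinearMap.lTensor P (b.coord j) z)) h
  simpa using h1

end alg

variable {X : Scheme.{u}}

theorem smul_eq_zero_of_ptm_eq_zero (M N : X.Modules) (V : X.Opens) {ι : Type*}
    (b : Module.Basis ι Γ(X, V) Γ(N, V)) (m : Γ(M, V)) (n : Γ(N, V))
    (h : ptm M N V m n = 0) (j : ι) : b.repr n j • m = 0 := by
  have h' : m ⊗ₜ[Γ(X, V)] n = 0 := h
  exact smul_eq_zero_of_tmul_eq_zero b m n h' j

open Groth.Agent.Lib.R2H2 in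
/-- on an integral scheme, pure tensors of nonzero sections of finite locally free modules are nonzero -/
theorem eq_zero_or_eq_zero_of_tm_eq_zero [IsIntegral X] (E₁ E₂ : X.Modules) {r₁ r₂ : ℕ}
    (h₁ : FlatMod.IsFinLocFreeOfRank r₁ E₁) (h₂ : FlatMod.IsFinLocFreeOfRank r₂ E₂)
    (s : Γ(E₁, ⊤)) (t : Γ(E₂, ⊤)) (h : tm E₁ E₂ ⊤ s t = 0) : s = 0 ∨ t = 0 := by
  by_contra hcon
  push Not at hcon
  obtain ⟨hs, ht⟩ := hcon
  have h0 : toT E₁ E₂ ⊤ (ptm E₁ E₂ ⊤ s t) = toT E₁ E₂ ⊤ 0 := by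
    rw [← tm_eq_toT, h]
    exact (map_zero _).symm
  obtain ⟨V', hV', hηV', heq⟩ := locInj E₁ E₂ ⊤ _ _ h0 (genericPoint X) trivial
  rw [resP_ptm] at heq
  have heq' : ptm E₁ E₂ V' (res E₁ hV' s) (res E₂ hV' t) = 0 := by
    rw [heq]
    exact map_zero _
  obtain ⟨W, hW, hηW, hle, ⟨b⟩⟩ :=
    LocFreeTF.exists_affine_basis_le E₂ h₂ V' (genericPoint X) hηV'
  have heqW : ptm E₁ E₂ W (res E₁ (hle.trans hV') s) (res E₂ (hle.trans hV') t) = 0 := by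
    have h1 := congrArg (resP E₁ E₂ hle) heq'
    rw [resP_ptm, res_res, res_res] at h1
    rw [h1]
    exact map_zero _
  have hne : (W : Set X).Nonempty := ⟨genericPoint X, hηW⟩
  have htW : res E₂ (hle.trans hV') t ≠ 0 := fun h0 =>
    ht (LocFreeTF.eq_zero_of_res_eq_zero E₂ h₂ (hle.trans hV') hne t h0)
  obtain ⟨j, hj⟩ : ∃ j, b.repr (res E₂ (hle.trans hV') t) j ≠ 0 := by
    by_contra hall
    push Not at hall
    apply htW
    apply b.repr.injective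
    ext j
    rw [hall j, map_zero]
    rfl
  have h3 := smul_eq_zero_of_ptm_eq_zero E₁ E₂ W b _ _ heqW j
  have hsW := LocFreeTF.eq_zero_of_smul_eq_zero E₁ h₁ _ hj _ h3
  exact hs (LocFreeTF.eq_zero_of_res_eq_zero E₁ h₁ (hle.trans hV') hne s hsW)

section field

open Groth.Agent.Lib.R2H3.NegTwist

variable (k : Type u) [Field k] [X.Over (Spec (CommRingCat.of k))]

theorem h0Equiv_smul_k (G : X.Modules) (c : k) (ξ : Coh.HH X G 0) :
    h0Equiv G (c • ξ) =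
      (show Γ(X, ⊤) from Coh.toGlobal (X ↘ Spec (CommRingCat.of k)) c) • h0Equiv G ξ := by
  have h1 : h0Equiv G (c • ξ) =
      h0Equiv G ((Coh.toGlobal (X ↘ Spec (CommRingCat.of k)) c) • ξ) := rfl
  rw [h1, h0Equiv_smul]

theorem h0Equiv_symm_smul_k (G : X.Modules) (c : k) (y : Γ(G, ⊤)) :
    (h0Equiv G).symm
      ((show Γ(X, ⊤) from Coh.toGlobal (X ↘ Spec (CommRingCat.of k)) c) • y) =
      c • (h0Equiv G).symm y := by
  apply (h0Equiv G).injective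
  rw [h0Equiv_smul_k, AddEquiv.apply_symm_apply, AddEquiv.apply_symm_apply]

/-- the multiplication map `H⁰(E₁) × H⁰(E₂) → H⁰(E₁ ⊗ E₂)`, `k`-bilinear -/
noncomputable def mulH0 (E₁ E₂ : X.Modules) :
    Coh.HH X E₁ 0 →ₗ[k] Coh.HH X E₂ 0 →ₗ[k] Coh.HH X (CohB1.tensorMod E₁ E₂) 0 :=
  LinearMap.mk₂ k
    (fun ξ ζ => (h0Equiv (CohB1.tensorMod E₁ E₂)).symm (tm E₁ E₂ ⊤ (h0Equiv E₁ ξ) (h0Equiv E₂ ζ)))
    (fun a b c => by rw [map_add, tm_add_left, map_add])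
    (fun c a b => by rw [h0Equiv_smul_k, tm_smul_left, h0Equiv_symm_smul_k])
    (fun a b c => by rw [map_add, tm_add_right, map_add])
    (fun c a b => by rw [h0Equiv_smul_k, tm_smul_right, h0Equiv_symm_smul_k])

theorem mulH0_apply (E₁ E₂ : X.Modules) (ξ : Coh.HH X E₁ 0) (ζ : Coh.HH X E₂ 0) :
    mulH0 k E₁ E₂ ξ ζ =
      (h0Equiv (CohB1.tensorMod E₁ E₂)).symm (tm E₁ E₂ ⊤ (h0Equiv E₁ ξ) (h0Equiv E₂ ζ)) := rfl

theorem mulH0_eq_zero [IsIntegral X] (E₁ E₂ : X.Modules) (h₁ : FlatMod.IsFinLocFree E₁)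
    (h₂ : FlatMod.IsFinLocFree E₂) (ξ : Coh.HH X E₁ 0) (ζ : Coh.HH X E₂ 0)
    (h : mulH0 k E₁ E₂ ξ ζ = 0) : ξ = 0 ∨ ζ = 0 := by
  obtain ⟨r₁, hr₁⟩ := Groth.Agent.Lib.R2H1.VBSub.exists_rank_of_isFinLocFree E₁ h₁
  obtain ⟨r₂, hr₂⟩ := Groth.Agent.Lib.R2H1.VBSub.exists_rank_of_isFinLocFree E₂ h₂
  rw [mulH0_apply] at h
  have h' : tm E₁ E₂ ⊤ (h0Equiv E₁ ξ) (h0Equiv E₂ ζ) = 0 := by
    have := congrArg (h0Equiv (CohB1.tensorMod E₁ E₂)) h
    rwa [AddEquiv.apply_symm_apply, map_zero] at this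
  rcases eq_zero_or_eq_zero_of_tm_eq_zero E₁ E₂ hr₁ hr₂ _ _ h' with h3 | h3
  · left
    exact (h0Equiv E₁).map_eq_zero_iff.1 h3
  · right
    exact (h0Equiv E₂).map_eq_zero_iff.1 h3

/-- **Hopf's bound** `h⁰(E₁) + h⁰(E₂) ≤ h⁰(E₁ ⊗ E₂) + 1`. -/
theorem main [IsAlgClosed k] [IsIntegral X] [IsProper (X ↘ (Spec (CommRingCat.of k)))]
    (E₁ E₂ : X.Modules) (h₁ : FlatMod.IsFinLocFree E₁) (h₂ : FlatMod.IsFinLocFree E₂)
    [Nontrivial (Coh.HH X E₁ 0)] [Nontrivial (Coh.HH X E₂ 0)] :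
    Module.finrank k (Coh.HH X E₁ 0) + Module.finrank k (Coh.HH X E₂ 0) ≤
      Module.finrank k (Coh.HH X (CohB1.tensorMod E₁ E₂) 0) + 1 := by
  have c₁ := Groth.Agent.Lib.R2H2.PnLocFree.isCoh_of_isFinLocFree E₁ h₁
  have c₂ := Groth.Agent.Lib.R2H2.PnLocFree.isCoh_of_isFinLocFree E₂ h₂
  haveI : E₁.IsQuasicoherent := c₁.1
  haveI : E₂.IsQuasicoherent := c₂.1
  haveI : SheafOfModules.IsFiniteType (R := X.ringCatSheaf) E₁ := c₁.2
  haveI : SheafOfModules.IsFiniteType (R := X.ringCatSheaf) E₂ := c₂.2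
  have c₃ : Coh.IsCoh (CohB1.tensorMod E₁ E₂) :=
    ⟨Groth.Agent.Lib.Helper23.TensorQCoh.isQuasicoherent_tensorMod E₁ E₂,
      Groth.Agent.Lib.Helper23.TensorQCoh.isFiniteType_tensorMod E₁ E₂⟩
  haveI : Module.Finite k (Coh.HH X E₁ 0) := Groth.Agent.S0002.result k X E₁ c₁ 0
  haveI : Module.Finite k (Coh.HH X E₂ 0) := Groth.Agent.S0002.result k X E₂ c₂ 0
  haveI : Module.Finite k (Coh.HH X (CohB1.tensorMod E₁ E₂) 0) :=
    Groth.Agent.S0002.result k X _ c₃ 0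
  have hH := Groth.Agent.Lib.R2Lead.Hopf.finrank_add_le_finrank_range_succ (K := k)
    (TensorProduct.lift (mulH0 k E₁ E₂)) (by
      intro x hx y hy
      rw [TensorProduct.lift.tmul] at hy
      exact (mulH0_eq_zero k E₁ E₂ h₁ h₂ x y hy).resolve_left hx)
  have h2 : Module.finrank k (LinearMap.range (TensorProduct.lift (mulH0 k E₁ E₂))) ≤
      Module.finrank k (Coh.HH X (CohB1.tensorMod E₁ E₂) 0) := Submodule.finrank_le _
  omega

end field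

end Groth.Agent.Lib.R2H7.HopfH0
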