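import Mathlib

/-!
# R2H7HopfTransport: transport of a Hopf algebra structure along an algebra equivalence (helper7)

Given a commutative Hopf algebra `A` over `R` and an `R`-algebra equivalence `e : B ≃ₐ[R] A`
(universes of `A` and `B` unrelated), `hopf e : HopfAlgebra R B` extends the given `Algebra R B`
structure; `comul_eq`, `isCocomm_of_transport`.  Used to pass to `Shrink`.
-/

set_option autoImplicit false
universe u v w

namespace Groth.Agent.Lib.R2H7.HopfTransport

open TensorProduct

variable {R : Type u} [CommRing R] {A : Type v} [CommRing A] [HopfAlgebra R A]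
  {B : Type w} [CommRing B] [Algebra R B] (e : B ≃ₐ[R] A)

/-- `A ⊗ A → B ⊗ B` -/
noncomputable def T2 : A ⊗[R] A →ₐ[R] B ⊗[R] B :=
  Algebra.TensorProduct.map (e.symm : A →ₐ[R] B) (e.symm : A →ₐ[R] B)

theorem T2_tmul (x y : A) : T2 e (x ⊗ₜ[R] y) = e.symm x ⊗ₜ[R] e.symm y := rfl

noncomputable def comulB : B →ₐ[R] B ⊗[R] B :=
  (T2 e).comp ((Bialgebra.comulAlgHom R A).comp (e : B →ₐ[R] A))

noncomputable def counitB : B →ₐ[R] R :=
  (Bialgebra.counitAlgHom R A).comp (e : B →ₐ[R] A)

noncomputable def antipodeB : B →ₗ[R] B :=
  e.symm.toLinearMap ∘ₗ (HopfAlgebra.antipode R (A := A)) ∘ₗ e.toLinearMap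

theorem comulB_apply (b : B) : comulB e b = T2 e (Coalgebra.comul (R := R) (e b)) := rfl

theorem comulB_symm (x : A) : comulB e (e.symm x) = T2 e (Coalgebra.comul (R := R) x) := by
  rw [comulB_apply, AlgEquiv.apply_symm_apply]

theorem counitB_apply (b : B) : counitB e b = Coalgebra.counit (R := R) (e b) := rfl

theorem antipodeB_apply (b : B) : antipodeB e b = e.symm (HopfAlgebra.antipode R (e b)) := rfl

theorem map_comulB_T2 (t : A ⊗[R] A) :
    Algebra.TensorProduct.map (comulB e) (AlgHom.id R B) (T2 e t) =
      Algebra.TensorProduct.map (T2 e) (e.symm : A →ₐ[R] B)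
        (Algebra.TensorProduct.map (Bialgebra.comulAlgHom R A) (AlgHom.id R A) t) := by
  induction t using TensorProduct.induction_on with
  | zero => simp
  | tmul x y =>
    rw [T2_tmul, Algebra.TensorProduct.map_tmul, Algebra.TensorProduct.map_tmul,
      Algebra.TensorProduct.map_tmul, comulB_symm]
    rfl
  | add t t' ht ht' => rw [map_add, map_add, map_add, map_add, ht, ht']

theorem map_id_comulB_T2 (t : A ⊗[R] A) :
    Algebra.TensorProduct.map (AlgHom.id R B) (comulB e) (T2 e t) =
      Algebra.TensorProduct.map (e.symm : A →ₐ[R] B) (T2 e)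
        (Algebra.TensorProduct.map (AlgHom.id R A) (Bialgebra.comulAlgHom R A) t) := by
  induction t using TensorProduct.induction_on with
  | zero => simp
  | tmul x y =>
    rw [T2_tmul, Algebra.TensorProduct.map_tmul, Algebra.TensorProduct.map_tmul,
      Algebra.TensorProduct.map_tmul, comulB_symm]
    rfl
  | add t t' ht ht' => rw [map_add, map_add, map_add, map_add, ht, ht']

theorem assoc_map_T2 (s : (A ⊗[R] A) ⊗[R] A) :
    Algebra.TensorProduct.assoc R R R B B B
      (Algebra.TensorProduct.map (T2 e) (e.symm : A →ₐ[R] B) s) =
    Algebra.TensorProduct.map (e.symm : A →ₐ[R] B) (T2 e)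
      (Algebra.TensorProduct.assoc R R R A A A s) := by
  induction s using TensorProduct.induction_on with
  | zero => simp
  | tmul t z =>
    induction t using TensorProduct.induction_on with
    | zero => simp
    | tmul x y => rfl
    | add t t' ht ht' =>
      rw [TensorProduct.add_tmul, map_add, map_add, map_add, map_add, ht, ht']
  | add s s' hs hs' => rw [map_add, map_add, map_add, map_add, hs, hs']

theorem coassocB :
    (Algebra.TensorProduct.assoc R R R B B B).toAlgHom.comp
      ((Algebra.TensorProduct.map (comulB e) (.id R B)).comp (comulB e)) =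
    (Algebra.TensorProduct.map (.id R B) (comulB e)).comp (comulB e) := by
  apply AlgHom.ext
  intro b
  show Algebra.TensorProduct.assoc R R R B B B
      (Algebra.TensorProduct.map (comulB e) (AlgHom.id R B) (comulB e b)) =
    Algebra.TensorProduct.map (AlgHom.id R B) (comulB e) (comulB e b)
  rw [comulB_apply, map_comulB_T2, map_id_comulB_T2, assoc_map_T2]
  congr 1
  exact congrArg (fun f => f (e b)) (Coalgebra.coassoc (R := R) (A := A))

theorem map_counitB_T2 (t : A ⊗[R] A) :
    Algebra.TensorProduct.map (counitB e) (AlgHom.id R B) (T2 e t) =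
      Algebra.TensorProduct.map (AlgHom.id R R) (e.symm : A →ₐ[R] B)
        (Algebra.TensorProduct.map (Bialgebra.counitAlgHom R A) (AlgHom.id R A) t) := by
  induction t using TensorProduct.induction_on with
  | zero => simp
  | tmul x y =>
    rw [T2_tmul, Algebra.TensorProduct.map_tmul, Algebra.TensorProduct.map_tmul,
      Algebra.TensorProduct.map_tmul, counitB_apply, AlgEquiv.apply_symm_apply]
    rfl
  | add t t' ht ht' => rw [map_add, map_add, map_add, map_add, ht, ht']

theorem map_id_counitB_T2 (t : A ⊗[R] A) :
    Algebra.TensorProduct.map (AlgHom.id R B) (counitB e) (T2 e t) =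
      Algebra.TensorProduct.map (e.symm : A →ₐ[R] B) (AlgHom.id R R)
        (Algebra.TensorProduct.map (AlgHom.id R A) (Bialgebra.counitAlgHom R A) t) := by
  induction t using TensorProduct.induction_on with
  | zero => simp
  | tmul x y =>
    rw [T2_tmul, Algebra.TensorProduct.map_tmul, Algebra.TensorProduct.map_tmul,
      Algebra.TensorProduct.map_tmul, counitB_apply, AlgEquiv.apply_symm_apply]
    rfl
  | add t t' ht ht' => rw [map_add, map_add, map_add, map_add, ht, ht']

theorem rTensorB :
    (Algebra.TensorProduct.map (counitB e) (.id R B)).comp (comulB e) =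
      (Algebra.TensorProduct.lid R B).symm := by
  apply AlgHom.ext
  intro b
  show Algebra.TensorProduct.map (counitB e) (AlgHom.id R B) (comulB e b) =
    (Algebra.TensorProduct.lid R B).symm b
  rw [comulB_apply, map_counitB_T2]
  have h := congrArg (fun f => f (e b)) (Coalgebra.rTensor_counit_comp_comul (R := R) (A := A))
  have h' : Algebra.TensorProduct.map (Bialgebra.counitAlgHom R A) (AlgHom.id R A)
      (Coalgebra.comul (R := R) (e b)) = (1 : R) ⊗ₜ[R] (e b) := by
    have : ∀ t : A ⊗[R] A, Algebra.TensorProduct.map (Bialgebra.counitAlgHom R A) (AlgHom.id R A) t =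
        (Coalgebra.counit (R := R) (A := A)).rTensor A t := by
      intro t
      induction t using TensorProduct.induction_on with
      | zero => simp
      | tmul x y => rfl
      | add t t' ht ht' => rw [map_add, map_add, ht, ht']
    rw [this]
    exact h
  rw [h', Algebra.TensorProduct.map_tmul]
  simp

theorem lTensorB :
    (Algebra.TensorProduct.map (.id R B) (counitB e)).comp (comulB e) =
      (Algebra.TensorProduct.rid R R B).symm := by
  apply AlgHom.ext
  intro b
  show Algebra.TensorProduct.map (AlgHom.id R B) (counitB e) (comulB e b) =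
    (Algebra.TensorProduct.rid R R B).symm b
  rw [comulB_apply, map_id_counitB_T2]
  have h := congrArg (fun f => f (e b)) (Coalgebra.lTensor_counit_comp_comul (R := R) (A := A))
  have h' : Algebra.TensorProduct.map (AlgHom.id R A) (Bialgebra.counitAlgHom R A)
      (Coalgebra.comul (R := R) (e b)) = (e b) ⊗ₜ[R] (1 : R) := by
    have : ∀ t : A ⊗[R] A, Algebra.TensorProduct.map (AlgHom.id R A) (Bialgebra.counitAlgHom R A) t =
        (Coalgebra.counit (R := R) (A := A)).lTensor A t := by
      intro t
      induction t using TensorProduct.induction_on with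
      | zero => simp
      | tmul x y => rfl
      | add t t' ht ht' => rw [map_add, map_add, ht, ht']
    rw [this]
    exact h
  rw [h', Algebra.TensorProduct.map_tmul]
  simp

theorem mul'_rTensor_T2 (t : A ⊗[R] A) :
    LinearMap.mul' R B ((antipodeB e).rTensor B (T2 e t)) =
      e.symm (LinearMap.mul' R A ((HopfAlgebra.antipode R (A := A)).rTensor A t)) := by
  induction t using TensorProduct.induction_on with
  | zero => simp
  | tmul x y =>
    rw [T2_tmul, LinearMap.rTensor_tmul, LinearMap.rTensor_tmul, LinearMap.mul'_apply,
      LinearMap.mul'_apply, antipodeB_apply, AlgEquiv.apply_symm_apply, map_mul]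
  | add t t' ht ht' => simp only [map_add, ht, ht']

theorem mul'_lTensor_T2 (t : A ⊗[R] A) :
    LinearMap.mul' R B ((antipodeB e).lTensor B (T2 e t)) =
      e.symm (LinearMap.mul' R A ((HopfAlgebra.antipode R (A := A)).lTensor A t)) := by
  induction t using TensorProduct.induction_on with
  | zero => simp
  | tmul x y =>
    rw [T2_tmul, LinearMap.lTensor_tmul, LinearMap.lTensor_tmul, LinearMap.mul'_apply,
      LinearMap.mul'_apply, antipodeB_apply, AlgEquiv.apply_symm_apply, map_mul]
  | add t t' ht ht' => simp only [map_add, ht, ht']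

/-- The transported Hopf algebra structure. -/
@[reducible] noncomputable def hopf : HopfAlgebra R B :=
  { Bialgebra.ofAlgHom (comulB e) (counitB e) (coassocB e) (rTensorB e) (lTensorB e) with
    antipode := antipodeB e
    mul_antipode_rTensor_comul := by
      apply LinearMap.ext
      intro b
      show LinearMap.mul' R B ((antipodeB e).rTensor B (comulB e b)) =
        algebraMap R B (counitB e b)
      rw [comulB_apply, mul'_rTensor_T2]
      have h := congrArg (fun f => f (e b))
        (HopfAlgebra.mul_antipode_rTensor_comul (R := R) (A := A))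
      have h' : LinearMap.mul' R A ((HopfAlgebra.antipode R (A := A)).rTensor A
          (Coalgebra.comul (R := R) (e b))) = algebraMap R A (Coalgebra.counit (R := R) (e b)) := h
      rw [h', counitB_apply, AlgEquiv.commutes]
    mul_antipode_lTensor_comul := by
      apply LinearMap.ext
      intro b
      show LinearMap.mul' R B ((antipodeB e).lTensor B (comulB e b)) =
        algebraMap R B (counitB e b)
      rw [comulB_apply, mul'_lTensor_T2]
      have h := congrArg (fun f => f (e b))
        (HopfAlgebra.mul_antipode_lTensor_comul (R := R) (A := A))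
      have h' : LinearMap.mul' R A ((HopfAlgebra.antipode R (A := A)).lTensor A
          (Coalgebra.comul (R := R) (e b))) = algebraMap R A (Coalgebra.counit (R := R) (e b)) := h
      rw [h', counitB_apply, AlgEquiv.commutes] }

theorem hopf_comul (b : B) :
    letI := hopf e
    Coalgebra.comul (R := R) b = T2 e (Coalgebra.comul (R := R) (e b)) := rfl

theorem T2_comm (t : A ⊗[R] A) :
    T2 e (TensorProduct.comm R A A t) = TensorProduct.comm R B B (T2 e t) := by
  induction t using TensorProduct.induction_on with
  | zero => simp
  | tmul x y => rfl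
  | add t t' ht ht' => rw [map_add, map_add, map_add, map_add, ht, ht']

theorem T2_injective : Function.Injective (T2 e) := by
  have h : ∀ t : A ⊗[R] A, Algebra.TensorProduct.map (e : B →ₐ[R] A) (e : B →ₐ[R] A) (T2 e t) = t := by
    intro t
    induction t using TensorProduct.induction_on with
    | zero => simp
    | tmul x y =>
      rw [T2_tmul, Algebra.TensorProduct.map_tmul]
      simp
    | add t t' ht ht' => rw [map_add, map_add, ht, ht']
  intro t t' htt
  rw [← h t, ← h t', htt]

/-- Cocommutativity descends along the transport. -/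
theorem isCocomm_of_transport
    (h : letI := hopf e; Coalgebra.IsCocomm R B) : Coalgebra.IsCocomm R A := by
  refine ⟨LinearMap.ext fun a => ?_⟩
  rw [LinearMap.comp_apply, LinearEquiv.coe_coe]
  apply T2_injective e
  rw [T2_comm]
  letI := hopf e
  have h1 := congrArg (fun f => f (e.symm a)) (h.comm_comp_comul)
  have h2 : TensorProduct.comm R B B (Coalgebra.comul (R := R) (e.symm a)) =
      Coalgebra.comul (R := R) (e.symm a) := h1
  rw [hopf_comul, AlgEquiv.apply_symm_apply] at h2
  exact h2

end Groth.Agent.Lib.R2H7.HopfTransport
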