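import Groth.Agent.Lib.R2H7MonicMain

/-!
# Vector bundles on `ℙ¹_R` are Zariski-locally on `Spec R` free on the affine line
-/

namespace Groth.Agent.Lib.R2H7.HorrCover

open Polynomial LaurentPolynomial TensorProduct Matrix
open Groth.Agent.Lib.R2H7.HorrLocal Groth.Agent.Lib.R2H7.HorrPatch
open Groth.Agent.Lib.R2H7.HorrDict Groth.Agent.Lib.R2H7.HorrMain
open Groth.Agent.Lib.R2H7.MonicGlue Groth.Agent.Lib.R2H7.MonicMain

universe u

section Rect

variable {B B' : Type*} [CommRing B] [CommRing B'] [Algebra B B'] (N : Submonoid B)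
  [IsLocalization N B'] {ι κ : Type*} [Finite ι] [Finite κ]

theorem exists_rect_int (M : Matrix ι κ B') :
    ∃ (b : N) (M₁ : Matrix ι κ B), M₁.map (algebraMap B B') = algebraMap B B' b • M := by
  obtain ⟨b, hb⟩ := IsLocalization.exist_integer_multiples_of_finite N
    (fun ij : ι × κ => M ij.1 ij.2)
  have hb' : ∀ ij : ι × κ, ∃ x : B, algebraMap B B' x = (b : B) • M ij.1 ij.2 :=
    fun ij => hb ij
  choose x hx using hb'
  refine ⟨b, Matrix.of fun i j => x (i, j), ?_⟩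
  refine Matrix.ext fun i j => ?_
  simp only [Matrix.map_apply, Matrix.of_apply, Matrix.smul_apply, hx, smul_eq_mul]
  exact Algebra.smul_def _ _

theorem exists_rect_ker (M₁ : Matrix ι κ B) (h : M₁.map (algebraMap B B') = 0) :
    ∃ b : N, (b : B) • M₁ = 0 := by
  classical
  cases nonempty_fintype ι
  cases nonempty_fintype κ
  have h' : ∀ ij : ι × κ, ∃ m : N, (m : B) * M₁ ij.1 ij.2 = 0 := fun ij =>
    (IsLocalization.map_eq_zero_iff N B' _).1 (by
      have := congr_fun (congr_fun h ij.1) ij.2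
      simpa using this)
  choose m hm using h'
  refine ⟨∏ ij, m ij, ?_⟩
  refine Matrix.ext fun i j => ?_
  have : (∏ ij, m ij : N) = (∏ ij ∈ Finset.univ.erase (i, j), m ij) * m (i, j) := by
    rw [Finset.prod_erase_mul _ _ (Finset.mem_univ _)]
  rw [Matrix.smul_apply, Matrix.zero_apply, smul_eq_mul, this, Submonoid.coe_mul, mul_assoc,
    hm (i, j), mul_zero]

end Rect

section Local

variable {S : Type*} [CommRing S] {n : ℕ}

theorem exists_factor_local [IsLocalRing S] (e : Matrix (Fin n) (Fin n) S) (he : e * e = e) :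
    ∃ (r : ℕ) (U : Matrix (Fin n) (Fin r) S) (V : Matrix (Fin r) (Fin n) S),
      U * V = e ∧ V * U = 1 := by
  haveI := projective_range e he
  haveI : Module.Finite S (LinearMap.range (Matrix.toLin' e)) := Module.Finite.range _
  haveI : Module.Free S (LinearMap.range (Matrix.toLin' e)) :=
    Module.free_of_flat_of_isLocalRing
  exact exists_factor_of_free_range e he

theorem exists_good {R : Type*} [CommRing R] (e₀ : Matrix (Fin n) (Fin n) R)
    (he₀ : e₀ * e₀ = e₀) (p : Ideal R) [p.IsPrime] :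
    ∃ g ∉ p, ∃ (r : ℕ) (u : Matrix (Fin n) (Fin r) R) (v : Matrix (Fin r) (Fin n) R),
      u * v = g • e₀ ∧ v * u = g • (1 : Matrix (Fin r) (Fin r) R) := by
  set φ : R →+* Localization.AtPrime p := algebraMap R (Localization.AtPrime p) with hφ
  obtain ⟨r, u, v, huv, hvu⟩ := exists_factor_local (e₀.map φ)
    (by rw [← Matrix.map_mul, he₀])
  obtain ⟨b₁, u₁, hu₁⟩ := exists_rect_int p.primeCompl u
  obtain ⟨b₂, v₁, hv₁⟩ := exists_rect_int p.primeCompl v
  have k1 : (u₁ * v₁ - ((b₁ : R) * (b₂ : R)) • e₀).map φ = 0 := by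
    rw [Matrix.map_sub φ (map_sub φ), Matrix.map_mul, hu₁, hv₁, Matrix.smul_mul, Matrix.mul_smul,
      smul_smul, huv, map_smul_ringHom, map_mul]
    exact sub_self _
  have k2 : (v₁ * u₁ - ((b₁ : R) * (b₂ : R)) • (1 : Matrix (Fin r) (Fin r) R)).map φ = 0 := by
    rw [Matrix.map_sub φ (map_sub φ), Matrix.map_mul, hu₁, hv₁, Matrix.smul_mul, Matrix.mul_smul,
      smul_smul, hvu, map_smul_ringHom, map_mul, Matrix.map_one φ (map_zero φ) (map_one φ),
      mul_comm (algebraMap R _ (b₂ : R))]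
    exact sub_self _
  obtain ⟨b₃, h₃⟩ := exists_rect_ker (B' := Localization.AtPrime p) p.primeCompl _ k1
  obtain ⟨b₄, h₄⟩ := exists_rect_ker (B' := Localization.AtPrime p) p.primeCompl _ k2
  rw [smul_sub, sub_eq_zero, smul_smul] at h₃ h₄
  refine ⟨(b₁ : R) * b₂ * b₃ * b₄,
    (mul_mem (mul_mem (mul_mem b₁.2 b₂.2) b₃.2) b₄.2 : _ ∈ p.primeCompl),
    r, ((b₃ : R) * b₄) • u₁, v₁, ?_, ?_⟩
  · rw [Matrix.smul_mul, mul_comm (b₃ : R) b₄, mul_smul, h₃, smul_smul]
    congr 1; ring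
  · rw [Matrix.mul_smul, mul_smul, h₄, smul_smul]
    congr 1; ring

end Local

section Free

variable {R : Type u} [CommRing R]

theorem free_of_factor {S : Type*} [CommRing S] {M : Type*} [AddCommGroup M] [Module S M]
    {n r : ℕ} (f : (Fin n → S) →ₗ[S] M) (g : M →ₗ[S] (Fin n → S)) (h : f ∘ₗ g = LinearMap.id)
    (U : Matrix (Fin n) (Fin r) S) (V : Matrix (Fin r) (Fin n) S)
    (hUV : U * V = LinearMap.toMatrix' (g ∘ₗ f)) (hVU : V * U = 1) : Module.Free S M := by
  obtain ⟨eqv⟩ := equiv_of_mvn f g h (LinearMap.id : (Fin r → S) →ₗ[S] (Fin r → S))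
    LinearMap.id (LinearMap.id_comp _) (Matrix.toLin' U) (Matrix.toLin' V)
    (by rw [← Matrix.toLin'_mul, hUV, Matrix.toLin'_toMatrix'])
    (by rw [← Matrix.toLin'_mul, hVU, Matrix.toLin'_one, LinearMap.id_comp])
  exact Module.Free.of_equiv eqv.symm

/-- freeness over `R[X]` localized at `C g`, for a good `g`. -/
theorem free_localized_of_good {P : Type*} [AddCommGroup P] [Module R[X] P] {n : ℕ}
    (f₁ : (Fin n → R[X]) →ₗ[R[X]] P) (g₁ : P →ₗ[R[X]] (Fin n → R[X]))
    (h₁ : f₁ ∘ₗ g₁ = LinearMap.id) (hExt : Ext (LinearMap.toMatrix' (g₁ ∘ₗ f₁)))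
    (g : R) (r : ℕ) (u : Matrix (Fin n) (Fin r) R) (v : Matrix (Fin r) (Fin n) R)
    (huv : u * v = g • (evalRingHom (0 : R)).mapMatrix (LinearMap.toMatrix' (g₁ ∘ₗ f₁)))
    (hvu : v * u = g • (1 : Matrix (Fin r) (Fin r) R)) :
    Module.Free (Localization.Away (Polynomial.C g : R[X]))
      (LocalizedModule (Submonoid.powers (Polynomial.C g : R[X])) P) := by
  classical
  set S := Localization.Away (Polynomial.C g : R[X]) with hS
  set ρ : R[X] →+* S := algebraMap R[X] S with hρ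
  set θ : R →+* S := ρ.comp Polynomial.C with hθ
  set eM := LinearMap.toMatrix' (g₁ ∘ₗ f₁) with heM
  have heMI : eM * eM = eM := toMatrix'_idem f₁ g₁ h₁
  obtain ⟨U, V, hUV, hVU⟩ := hExt
  have hgu : IsUnit (θ g) := IsLocalization.Away.algebraMap_isUnit (Polynomial.C g : R[X])
  obtain ⟨w, hw⟩ := hgu.exists_left_inv
  -- factorization of `e₀` over `S`
  set e₀S : Matrix (Fin n) (Fin n) S :=
    ((evalRingHom (0 : R)).mapMatrix eM).map θ with he₀S
  have f1 : (w • u.map θ) * v.map θ = e₀S := by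
    rw [Matrix.smul_mul, ← Matrix.map_mul, huv, map_smul_ringHom, smul_smul, hw, one_smul]
  have f2 : v.map θ * (w • u.map θ) = 1 := by
    rw [Matrix.mul_smul, ← Matrix.map_mul, hvu, map_smul_ringHom, smul_smul, hw, one_smul,
      Matrix.map_one θ (map_zero θ) (map_one θ)]
  have hVUρ : V.map ρ * U.map ρ = e₀S := by
    rw [← Matrix.map_mul, hVU, he₀S]
    refine Matrix.ext fun i j => ?_
    simp [ev0, hθ]
  have hUVρ : U.map ρ * V.map ρ = eM.map ρ := by rw [← Matrix.map_mul, hUV]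
  have hfree : Module.Free S (S ⊗[R[X]] P) := by
    refine free_of_factor (bcP S f₁) (bcC S g₁) (bcP_comp_bcC f₁ g₁ h₁)
      (U.map ρ * (w • u.map θ)) (v.map θ * V.map ρ) ?_ ?_
    · rw [bcC_comp_bcP, LinearMap.toMatrix'_toLin']
      calc U.map ρ * (w • u.map θ) * (v.map θ * V.map ρ)
          = U.map ρ * ((w • u.map θ) * v.map θ) * V.map ρ := by
            simp only [Matrix.mul_assoc]
        _ = (U.map ρ * V.map ρ) * (U.map ρ * V.map ρ) := by
            rw [f1, ← hVUρ]; simp only [Matrix.mul_assoc]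
        _ = eM.map ρ := by rw [hUVρ, ← Matrix.map_mul, heMI]
    · calc v.map θ * V.map ρ * (U.map ρ * (w • u.map θ))
          = v.map θ * (V.map ρ * U.map ρ) * (w • u.map θ) := by
            simp only [Matrix.mul_assoc]
        _ = (v.map θ * (w • u.map θ)) * (v.map θ * (w • u.map θ)) := by
            rw [hVUρ, ← f1]; simp only [Matrix.mul_assoc]
        _ = 1 := by rw [f2, Matrix.one_mul]
  have hbc : IsBaseChange S
      (LocalizedModule.mkLinearMap (Submonoid.powers (Polynomial.C g : R[X])) P) :=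
    LocalizedModule.isBaseChange (Submonoid.powers (Polynomial.C g : R[X])) P
  exact Module.Free.of_equiv hbc.equiv

end Free

section Main

/-- A vector bundle on `ℙ¹_R` (given by charts and a semilinear gluing) is free on `𝔸¹` over the
members of a Zariski cover of `Spec R`. -/
theorem exists_cover_free (R : Type u) [CommRing R]
    (P : Type u) [AddCommGroup P] [Module R[X] P] [Module.Finite R[X] P]
    [Module.Projective R[X] P]
    (P' : Type u) [AddCommGroup P'] [Module R[X] P'] [Module.Finite R[X] P']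
    [Module.Projective R[X] P']
    (e : R[T;T⁻¹] ⊗[R[X]] P ≃+ R[T;T⁻¹] ⊗[R[X]] P')
    (he : ∀ (a : R[T;T⁻¹]) (m : R[T;T⁻¹] ⊗[R[X]] P),
      e (a • m) = LaurentPolynomial.invert a • e m) :
    ∃ (n : ℕ) (g : Fin n → R), Ideal.span (Set.range g) = ⊤ ∧
      ∀ i, Module.Free (Localization.Away (Polynomial.C (g i) : R[X]))
        (LocalizedModule (Submonoid.powers (Polynomial.C (g i) : R[X])) P) := by
  classical
  obtain ⟨n₁, hn₁⟩ := exists_pres R[X] P
  obtain ⟨n₂, hn₂⟩ := exists_pres R[X] P'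
  obtain ⟨f₁, g₁, h₁⟩ := hn₁ (max n₁ n₂) (le_max_left _ _)
  obtain ⟨f₂, g₂, h₂⟩ := hn₂ (max n₁ n₂) (le_max_right _ _)
  let E : (R[T;T⁻¹] ⊗[R[X]] P) →ₛₗ[(LaurentPolynomial.invert (R := R)).toRingEquiv.toRingHom]
      (R[T;T⁻¹] ⊗[R[X]] P') :=
    { toFun := e
      map_add' := e.map_add
      map_smul' := he }
  obtain ⟨G, H, hHG, hGH⟩ := exists_matrices f₁ g₁ h₁ f₂ g₂ h₂ E e.bijective
  have hExt : Ext (LinearMap.toMatrix' (g₁ ∘ₗ f₁)) :=
    ext_global _ _ (toMatrix'_idem f₁ g₁ h₁) (toMatrix'_idem f₂ g₂ h₂) G H hHG hGH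
  set e₀ : Matrix (Fin (max n₁ n₂)) (Fin (max n₁ n₂)) R :=
    (evalRingHom (0 : R)).mapMatrix (LinearMap.toMatrix' (g₁ ∘ₗ f₁)) with he₀
  have he₀I : e₀ * e₀ = e₀ := by rw [he₀, ← map_mul, toMatrix'_idem f₁ g₁ h₁]
  set 𝒮 : Set R := {g | ∃ (r : ℕ) (u : Matrix (Fin (max n₁ n₂)) (Fin r) R)
    (v : Matrix (Fin r) (Fin (max n₁ n₂)) R),
      u * v = g • e₀ ∧ v * u = g • (1 : Matrix (Fin r) (Fin r) R)} with h𝒮
  have htop : Ideal.span 𝒮 = ⊤ := by
    by_contra hne
    obtain ⟨m, hm, hle⟩ := Ideal.exists_le_maximal _ hne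
    haveI := hm
    obtain ⟨g, hg, r, u, v, huv, hvu⟩ := exists_good e₀ he₀I m
    exact hg (hle (Ideal.subset_span ⟨r, u, v, huv, hvu⟩))
  have h1 : (1 : R) ∈ Ideal.span 𝒮 := by rw [htop]; trivial
  obtain ⟨t, ht𝒮, ht1⟩ := Submodule.mem_span_finite_of_mem_span h1
  let eqv := t.equivFin
  refine ⟨t.card, fun i => ((eqv.symm i : t) : R), ?_, ?_⟩
  · have hrange : Set.range (fun i => ((eqv.symm i : t) : R)) = (t : Set R) := by
      ext x
      constructor
      · rintro ⟨i, rfl⟩; exact (eqv.symm i).2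
      · intro hx; exact ⟨eqv ⟨x, hx⟩, by simp⟩
    rw [hrange]
    exact (Ideal.eq_top_iff_one _).2 ht1
  · intro i
    obtain ⟨r, u, v, huv, hvu⟩ := ht𝒮 (eqv.symm i).2
    exact free_localized_of_good f₁ g₁ h₁ hExt _ r u v huv hvu

end Main

end Groth.Agent.Lib.R2H7.HorrCover
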