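import Groth.Agent.Lib.R2H7HorrPatch2
import Mathlib.RingTheory.Localization.Algebra
import Mathlib.RingTheory.Localization.AtPrime.Basic
import Mathlib.RingTheory.Localization.Away.Basic
import Mathlib.RingTheory.Localization.Integer
import Mathlib.RingTheory.Ideal.Maximal
import Mathlib.LinearAlgebra.Finsupp.LinearCombination

/-!
# Quillen patching in matrix form: local-global principle

`ext_of_local`: an idempotent matrix `e` over `R[t]` which is Murray–von Neumann equivalent to
`e(0)` over every localization at a maximal ideal is so over `R`.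
-/

namespace Groth.Agent.Lib.R2H7.HorrQuillen

open Polynomial
open Groth.Agent.Lib.R2H7.HorrKey Groth.Agent.Lib.R2H7.HorrGlue Groth.Agent.Lib.R2H7.HorrPatch

universe u

section Cover

theorem coverData_of_isLocalization {R Ra Rb T : Type*} [CommRing R] [CommRing Ra] [CommRing Rb]
    [CommRing T] [Algebra R Ra] [Algebra R Rb] [Algebra R T] [Algebra Ra T] [Algebra Rb T]
    [IsScalarTower R Ra T] [IsScalarTower R Rb T] (a b : R)
    [IsLocalization.Away a Ra] [IsLocalization.Away b Rb]
    [IsLocalization.Away (algebraMap R Ra b) T] (hab : IsCoprime a b) :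
    CoverData (algebraMap R Ra) (algebraMap R Rb) (algebraMap Ra T) (algebraMap Rb T) a b where
  comm := by rw [← IsScalarTower.algebraMap_eq, ← IsScalarTower.algebraMap_eq]
  hα := IsAwayHom.of_isLocalization a
  hβ := IsAwayHom.of_isLocalization b
  hα' := IsAwayHom.of_isLocalization _
  hβ' := by
    haveI : IsLocalization.Away (algebraMap R Rb a) T :=
      IsLocalization.Away.commutes Rb Ra T b a
    exact IsAwayHom.of_isLocalization _
  cop := hab

variable {S S' S'' : Type*} [CommRing S] [CommRing S'] [CommRing S''] {n : ℕ}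

theorem Ext.map_comp {e : Matrix (Fin n) (Fin n) S[X]} {φ : S →+* S'}
    (h : Ext ((mapRingHom φ).mapMatrix e)) (ψ : S' →+* S'') (χ : S →+* S'')
    (hχ : ψ.comp φ = χ) : Ext ((mapRingHom χ).mapMatrix e) := by
  have := h.map ψ
  rwa [mapMatrix_mapMatrix, Polynomial.mapRingHom_comp, hχ] at this

theorem ext_of_coprime {R : Type u} [CommRing R] (a b : R) (hab : IsCoprime a b)
    (e : Matrix (Fin n) (Fin n) R[X]) (he : e * e = e)
    (ha : Ext ((mapRingHom (algebraMap R (Localization.Away a))).mapMatrix e))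
    (hb : Ext ((mapRingHom (algebraMap R (Localization.Away b))).mapMatrix e)) : Ext e := by
  let Ra := Localization.Away a
  let Rb := Localization.Away b
  let T := Localization.Away (algebraMap R Ra b)
  have hunit : IsUnit (algebraMap R T b) := by
    rw [IsScalarTower.algebraMap_apply R Ra T]
    exact IsLocalization.Away.algebraMap_isUnit _
  let β' : Rb →+* T := IsLocalization.Away.lift b hunit
  letI : Algebra Rb T := β'.toAlgebra
  haveI : IsScalarTower R Rb T :=
    IsScalarTower.of_algebraMap_eq fun x => (IsLocalization.Away.lift_eq b hunit x).symm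
  exact ext_of_cover (coverData_of_isLocalization (Ra := Ra) (Rb := Rb) (T := T) a b hab)
    e he ha hb

end Cover

section Induction

theorem ext_of_sum_eq_one {n : ℕ} : ∀ (k : ℕ) (R : Type u) [CommRing R]
    (e : Matrix (Fin n) (Fin n) R[X]) (_ : e * e = e) (s c : Fin k → R),
    ∑ i, c i * s i = 1 →
    (∀ i, Ext ((mapRingHom (algebraMap R (Localization.Away (s i)))).mapMatrix e)) → Ext e := by
  intro k
  induction k with
  | zero =>
    intro R _ e he s c hsum _
    have h01 : (0 : R) = 1 := by simpa using hsum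
    haveI : Subsingleton R := subsingleton_of_zero_eq_one h01
    exact ⟨e, e, Subsingleton.elim _ _, Subsingleton.elim _ _⟩
  | succ k ih =>
    intro R _ e he s c hsum hloc
    rw [Fin.sum_univ_succ] at hsum
    set a := c 0 * s 0 with ha
    set b := ∑ i : Fin k, c i.succ * s i.succ with hb
    have hab : IsCoprime a b := ⟨1, 1, by rw [one_mul, one_mul]; exact hsum⟩
    refine ext_of_coprime a b hab e he ?_ ?_
    · have hu : IsUnit (algebraMap R (Localization.Away a) (s 0)) :=
        IsLocalization.Away.isUnit_of_dvd a (Dvd.intro_left _ rfl)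
      exact Ext.map_comp (hloc 0) (IsLocalization.Away.lift (s 0) hu) _
        (IsLocalization.Away.lift_comp _ hu)
    · let Rb := Localization.Away b
      let φ : R →+* Rb := algebraMap R Rb
      have hbu : IsUnit (φ b) := IsLocalization.Away.algebraMap_isUnit b
      obtain ⟨w, hw⟩ := hbu.exists_right_inv
      refine ih Rb ((mapRingHom φ).mapMatrix e) (by rw [← map_mul, he])
        (fun i => φ (s i.succ)) (fun i => φ (c i.succ) * w) ?_ ?_
      · calc ∑ i : Fin k, φ (c i.succ) * w * φ (s i.succ)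
            = (∑ i : Fin k, φ (c i.succ * s i.succ)) * w := by
              rw [Finset.sum_mul]
              refine Finset.sum_congr rfl fun i _ => ?_
              rw [map_mul]; ring
          _ = φ b * w := by rw [← map_sum]
          _ = 1 := hw
      · intro i
        have hu : IsUnit (((algebraMap Rb (Localization.Away (φ (s i.succ)))).comp φ)
            (s i.succ)) :=
          show IsUnit (algebraMap Rb (Localization.Away (φ (s i.succ))) (φ (s i.succ))) from
            IsLocalization.Away.algebraMap_isUnit _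
        have := Ext.map_comp (hloc i.succ) (IsLocalization.Away.lift (s i.succ) hu) _
          (IsLocalization.Away.lift_comp _ hu)
        rw [mapMatrix_mapMatrix, Polynomial.mapRingHom_comp]
        exact this

end Induction

section Denominators

variable {B B' : Type*} [CommRing B] [CommRing B'] [Algebra B B'] (N : Submonoid B)
  [IsLocalization N B'] {n : ℕ}

theorem exists_matrix_int (M : Matrix (Fin n) (Fin n) B') :
    ∃ (b : N) (M₁ : Matrix (Fin n) (Fin n) B),
      (algebraMap B B').mapMatrix M₁ = algebraMap B B' b • M := by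
  obtain ⟨b, hb⟩ := IsLocalization.exist_integer_multiples_of_finite N
    (fun ij : Fin n × Fin n => M ij.1 ij.2)
  have hb' : ∀ ij : Fin n × Fin n, ∃ x : B, algebraMap B B' x = (b : B) • M ij.1 ij.2 :=
    fun ij => hb ij
  choose x hx using hb'
  refine ⟨b, Matrix.of fun i j => x (i, j), ?_⟩
  ext i j
  simp only [RingHom.mapMatrix_apply, Matrix.map_apply, Matrix.of_apply, Matrix.smul_apply, hx,
    smul_eq_mul]
  exact Algebra.smul_def _ _

theorem exists_matrix_ker (M₁ : Matrix (Fin n) (Fin n) B)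
    (h : (algebraMap B B').mapMatrix M₁ = 0) : ∃ b : N, (b : B) • M₁ = 0 := by
  have h' : ∀ ij : Fin n × Fin n, ∃ m : N, (m : B) * M₁ ij.1 ij.2 = 0 := fun ij =>
    (IsLocalization.map_eq_zero_iff N B' _).1 (by
      have := congr_fun (congr_fun h ij.1) ij.2
      simpa using this)
  choose m hm using h'
  refine ⟨∏ ij, m ij, ?_⟩
  ext i j
  have : (∏ ij, m ij : N) = (∏ ij ∈ Finset.univ.erase (i, j), m ij) * m (i, j) := by
    rw [Finset.prod_erase_mul _ _ (Finset.mem_univ _)]
  rw [Matrix.smul_apply, Matrix.zero_apply, smul_eq_mul, this, Submonoid.coe_mul, mul_assoc,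
    hm (i, j), mul_zero]

end Denominators

section Spread

attribute [local instance] Polynomial.algebra in
theorem ext_spread {R : Type u} [CommRing R] (M : Submonoid R) (S : Type*) [CommRing S]
    [Algebra R S] [IsLocalization M S] {n : ℕ} (e : Matrix (Fin n) (Fin n) R[X])
    (h : Ext ((mapRingHom (algebraMap R S)).mapMatrix e)) :
    ∃ s ∈ M, Ext ((mapRingHom (algebraMap R (Localization.Away s))).mapMatrix e) := by
  haveI : IsLocalization (M.map (C : R →+* R[X])) S[X] := Polynomial.isLocalization M S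
  obtain ⟨U, V, hUV, hVU⟩ := h
  set ρ : R[X] →+* S[X] := mapRingHom (algebraMap R S) with hρ
  have hρC : ∀ r : R, ρ (C r) = C (algebraMap R S r) := fun r => by simp [hρ]
  obtain ⟨⟨_, s₁, hs₁, rfl⟩, U₁, hU₁⟩ := exists_matrix_int (M.map (C : R →+* R[X])) U
  obtain ⟨⟨_, s₂, hs₂, rfl⟩, V₁, hV₁⟩ := exists_matrix_int (M.map (C : R →+* R[X])) V
  change ρ.mapMatrix U₁ = ρ (C s₁) • U at hU₁
  change ρ.mapMatrix V₁ = ρ (C s₂) • V at hV₁
  have h1 : ρ.mapMatrix (U₁ * V₁ - C (s₁ * s₂) • e) = 0 := by
    rw [map_sub, map_mul, hU₁, hV₁, mapMatrix_smul, Matrix.smul_mul, Matrix.mul_smul, smul_smul,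
      hUV, ← map_mul, ← map_mul, sub_self]
  have h2 : ρ.mapMatrix (V₁ * U₁ - C (s₁ * s₂) • (ev0 R).mapMatrix e) = 0 := by
    rw [map_sub, map_mul, hU₁, hV₁, mapMatrix_smul, Matrix.smul_mul, Matrix.mul_smul, smul_smul,
      hVU, hρ, ev0_mapMatrix_map, ← hρ, ← map_mul, ← map_mul, mul_comm s₁ s₂, sub_self]
  obtain ⟨⟨_, s₃, hs₃, rfl⟩, h₃⟩ := exists_matrix_ker (B' := S[X]) (M.map (C : R →+* R[X])) _ h1
  obtain ⟨⟨_, s₄, hs₄, rfl⟩, h₄⟩ := exists_matrix_ker (B' := S[X]) (M.map (C : R →+* R[X])) _ h2
  refine ⟨s₁ * s₂ * s₃ * s₄, mul_mem (mul_mem (mul_mem hs₁ hs₂) hs₃) hs₄, ?_⟩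
  set s := s₁ * s₂ * s₃ * s₄ with hs
  set φ : R →+* Localization.Away s := algebraMap R (Localization.Away s) with hφ
  set τ : R[X] →+* (Localization.Away s)[X] := mapRingHom φ with hτ
  have hτC : ∀ r : R, τ (C r) = C (φ r) := fun r => by simp [hτ]
  have hu12 : IsUnit (φ (s₁ * s₂)) :=
    IsLocalization.Away.isUnit_of_dvd s ⟨s₃ * s₄, by rw [hs]; ring⟩
  have hu3 : IsUnit (φ s₃) :=
    IsLocalization.Away.isUnit_of_dvd s ⟨s₁ * s₂ * s₄, by rw [hs]; ring⟩
  have hu4 : IsUnit (φ s₄) :=
    IsLocalization.Away.isUnit_of_dvd s ⟨s₁ * s₂ * s₃, by rw [hs]; ring⟩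
  obtain ⟨w, hw⟩ := hu12.exists_left_inv
  have hCw : (C w : (Localization.Away s)[X]) * C (φ (s₁ * s₂)) = 1 := by
    rw [← C_mul, hw, C_1]
  have e1 : τ.mapMatrix U₁ * τ.mapMatrix V₁ = C (φ (s₁ * s₂)) • τ.mapMatrix e := by
    have := congrArg τ.mapMatrix h₃
    simp only [Subtype.coe_mk] at this
    rw [mapMatrix_smul, map_zero, hτC, (hu3.map C).smul_eq_zero, map_sub, map_mul,
      mapMatrix_smul, hτC, sub_eq_zero] at this
    exact this
  have e2 : τ.mapMatrix V₁ * τ.mapMatrix U₁ =
      C (φ (s₁ * s₂)) • (ev0 _).mapMatrix (τ.mapMatrix e) := by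
    have := congrArg τ.mapMatrix h₄
    simp only [Subtype.coe_mk] at this
    rw [mapMatrix_smul, map_zero, hτC, (hu4.map C).smul_eq_zero, map_sub, map_mul,
      mapMatrix_smul, hτC, sub_eq_zero, hτ, ev0_mapMatrix_map, ← hτ] at this
    exact this
  refine ⟨C w • τ.mapMatrix U₁, τ.mapMatrix V₁, ?_, ?_⟩
  · rw [Matrix.smul_mul, e1, smul_smul, hCw, one_smul]
  · rw [Matrix.mul_smul, e2, smul_smul, hCw, one_smul]

end Spread

section Quillen

theorem ext_of_local {R : Type u} [CommRing R] {n : ℕ} (e : Matrix (Fin n) (Fin n) R[X])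
    (he : e * e = e)
    (h : ∀ (m : Ideal R) [m.IsMaximal],
      Ext ((mapRingHom (algebraMap R (Localization.AtPrime m))).mapMatrix e)) : Ext e := by
  classical
  set 𝒮 : Set R :=
    {s | Ext ((mapRingHom (algebraMap R (Localization.Away s))).mapMatrix e)} with h𝒮
  have htop : Ideal.span 𝒮 = ⊤ := by
    by_contra hne
    obtain ⟨m, hm, hle⟩ := Ideal.exists_le_maximal _ hne
    haveI := hm
    obtain ⟨s, hs, hExt⟩ := ext_spread m.primeCompl (Localization.AtPrime m) e (h m)
    exact hs (hle (Ideal.subset_span hExt))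
  have h1 : (1 : R) ∈ Ideal.span 𝒮 := by rw [htop]; trivial
  obtain ⟨t, ht𝒮, ht1⟩ := Submodule.mem_span_finite_of_mem_span h1
  obtain ⟨f, hf⟩ := Submodule.mem_span_finset'.1 ht1
  let eqv := t.equivFin
  refine ext_of_sum_eq_one t.card R e he (fun i => ((eqv.symm i : t) : R))
    (fun i => f (eqv.symm i)) ?_ ?_
  · rw [← hf]
    exact Equiv.sum_comp eqv.symm (fun a : t => f a * (a : R))
  · intro i
    exact ht𝒮 (eqv.symm i).2

end Quillen

end Groth.Agent.Lib.R2H7.HorrQuillen
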