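import Groth.Agent.Lib.R2H7HorrLocal
import Groth.Agent.Lib.R2H7HorrQuillen

/-!
# Dictionary between modules and idempotent matrices for the global Horrocks theorem
-/

namespace Groth.Agent.Lib.R2H7.HorrDict

open Polynomial LaurentPolynomial TensorProduct Matrix
open Groth.Agent.Lib.R2H7.HorrLocal Groth.Agent.Lib.R2H7.HorrPatch
open Groth.Agent.Lib.R2H7.HorrKey

universe u

section Pres

theorem exists_pres (R : Type*) [CommRing R] (M : Type*) [AddCommGroup M] [Module R M]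
    [Module.Finite R M] [Module.Projective R M] :
    ∃ n₀ : ℕ, ∀ n, n₀ ≤ n → ∃ (f : (Fin n → R) →ₗ[R] M) (g : M →ₗ[R] (Fin n → R)),
      f ∘ₗ g = LinearMap.id := by
  obtain ⟨n₀, f, g, -, -, hfg⟩ := Module.Finite.exists_comp_eq_id_of_projective R M
  refine ⟨n₀, fun n hn => ?_⟩
  let π : (Fin n → R) →ₗ[R] (Fin n₀ → R) := LinearMap.funLeft R R (Fin.castLE hn)
  let j : (Fin n₀ → R) →ₗ[R] (Fin n → R) :=
    LinearMap.pi fun i => if h : i.1 < n₀ then LinearMap.proj ⟨i.1, h⟩ else 0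
  have hπj : π ∘ₗ j = LinearMap.id := by
    refine LinearMap.ext fun v => funext fun k => ?_
    simp [π, j, LinearMap.funLeft_apply]
  refine ⟨f ∘ₗ π, j ∘ₗ g, ?_⟩
  rw [LinearMap.comp_assoc, ← LinearMap.comp_assoc g j π, hπj, LinearMap.id_comp, hfg]

theorem piScalarRight_baseChange_toLin' {R S : Type*} [CommRing R] [CommRing S] [Algebra R S]
    {n : ℕ} (m : Matrix (Fin n) (Fin n) R) :
    (TensorProduct.piScalarRight R S S (Fin n)).toLinearMap ∘ₗ (Matrix.toLin' m).baseChange S =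
      Matrix.toLin' (m.map (algebraMap R S)) ∘ₗ
        (TensorProduct.piScalarRight R S S (Fin n)).toLinearMap := by
  apply TensorProduct.AlgebraTensorModule.ext
  intro s v
  funext k
  simp only [LinearMap.comp_apply, LinearEquiv.coe_coe, LinearMap.baseChange_tmul,
    TensorProduct.piScalarRight_apply, TensorProduct.piScalarRightHom_tmul, Matrix.toLin'_apply,
    Matrix.mulVec, dotProduct, Matrix.map_apply, Finset.sum_smul]
  refine Finset.sum_congr rfl fun i _ => ?_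
  rw [mul_smul, Algebra.smul_def (m k i)]

theorem semilin_rep {L : Type*} [CommRing L] (σ : L →+* L) {n : ℕ}
    (F : (Fin n → L) → (Fin n → L)) (hadd : ∀ x y, F (x + y) = F x + F y)
    (hsmul : ∀ (ℓ : L) x, F (ℓ • x) = σ ℓ • F x) (x : Fin n → L) (k : Fin n) :
    F x k = ∑ j, F (Pi.single j 1) k * σ (x j) := by
  let Fadd : (Fin n → L) →+ (Fin n → L) := AddMonoidHom.mk' F hadd
  have hx : x = ∑ j, x j • (Pi.single j 1 : Fin n → L) := by
    ext i; simp [Finset.sum_apply, Pi.single_apply]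
  calc F x k = Fadd (∑ j, x j • (Pi.single j 1 : Fin n → L)) k := by rw [← hx]; rfl
    _ = (∑ j, F (x j • (Pi.single j 1 : Fin n → L))) k := by rw [map_sum]; rfl
    _ = ∑ j, F (Pi.single j 1) k * σ (x j) := by
        rw [Finset.sum_apply]
        refine Finset.sum_congr rfl fun j _ => ?_
        rw [hsmul, Pi.smul_apply, smul_eq_mul, mul_comm]

end Pres

section Extract

variable {A : Type u} [CommRing A]

theorem invert_invert (ℓ : A[T;T⁻¹]) :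
    (LaurentPolynomial.invert (R := A)).toRingEquiv.toRingHom
      ((LaurentPolynomial.invert (R := A)).toRingEquiv.toRingHom ℓ) = ℓ :=
  LaurentPolynomial.involutive_invert ℓ

theorem exists_matrices_aux {M N : Type*} [AddCommGroup M] [Module A[X] M] [AddCommGroup N]
    [Module A[X] N] {n : ℕ} (σ : A[T;T⁻¹] →+* A[T;T⁻¹]) (hσσ : ∀ ℓ, σ (σ ℓ) = ℓ)
    (f₁ : (Fin n → A[X]) →ₗ[A[X]] M) (g₁ : M →ₗ[A[X]] (Fin n → A[X]))
    (h₁ : f₁ ∘ₗ g₁ = LinearMap.id)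
    (f₂ : (Fin n → A[X]) →ₗ[A[X]] N) (g₂ : N →ₗ[A[X]] (Fin n → A[X]))
    (h₂ : f₂ ∘ₗ g₂ = LinearMap.id)
    (E : (A[T;T⁻¹] ⊗[A[X]] M) →ₛₗ[σ] (A[T;T⁻¹] ⊗[A[X]] N)) (hE : Function.Bijective E) :
    ∃ G H : Matrix (Fin n) (Fin n) A[T;T⁻¹],
      H * G = (LinearMap.toMatrix' (g₁ ∘ₗ f₁)).map (toLaurent (R := A)) ∧
      G * H = (LinearMap.toMatrix' (g₂ ∘ₗ f₂)).map (σ ∘ toLaurent (R := A)) := by
  classical
  let τ := TensorProduct.piScalarRight A[X] A[T;T⁻¹] A[T;T⁻¹] (Fin n)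
  let p₁ : (Fin n → A[T;T⁻¹]) →ₗ[A[T;T⁻¹]] A[T;T⁻¹] ⊗[A[X]] M :=
    (f₁.baseChange A[T;T⁻¹]) ∘ₗ τ.symm.toLinearMap
  let c₁ : A[T;T⁻¹] ⊗[A[X]] M →ₗ[A[T;T⁻¹]] (Fin n → A[T;T⁻¹]) :=
    τ.toLinearMap ∘ₗ (g₁.baseChange A[T;T⁻¹])
  let p₂ : (Fin n → A[T;T⁻¹]) →ₗ[A[T;T⁻¹]] A[T;T⁻¹] ⊗[A[X]] N :=
    (f₂.baseChange A[T;T⁻¹]) ∘ₗ τ.symm.toLinearMap
  let c₂ : A[T;T⁻¹] ⊗[A[X]] N →ₗ[A[T;T⁻¹]] (Fin n → A[T;T⁻¹]) :=
    τ.toLinearMap ∘ₗ (g₂.baseChange A[T;T⁻¹])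
  have hp₁c₁ : ∀ y, p₁ (c₁ y) = y := by
    intro y
    have : p₁ ∘ₗ c₁ = LinearMap.id := by
      simp only [p₁, c₁]
      rw [LinearMap.comp_assoc, ← LinearMap.comp_assoc _ τ.toLinearMap τ.symm.toLinearMap,
        LinearEquiv.symm_comp, LinearMap.id_comp, ← LinearMap.baseChange_comp, h₁,
        LinearMap.baseChange_id]
    exact LinearMap.congr_fun this y
  have hp₂c₂ : ∀ y, p₂ (c₂ y) = y := by
    intro y
    have : p₂ ∘ₗ c₂ = LinearMap.id := by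
      simp only [p₂, c₂]
      rw [LinearMap.comp_assoc, ← LinearMap.comp_assoc _ τ.toLinearMap τ.symm.toLinearMap,
        LinearEquiv.symm_comp, LinearMap.id_comp, ← LinearMap.baseChange_comp, h₂,
        LinearMap.baseChange_id]
    exact LinearMap.congr_fun this y
  have hc₁p₁ : ∀ x, c₁ (p₁ x) =
      ((LinearMap.toMatrix' (g₁ ∘ₗ f₁)).map (algebraMap A[X] A[T;T⁻¹])) *ᵥ x := by
    intro x
    have : c₁ ∘ₗ p₁ = Matrix.toLin'
        ((LinearMap.toMatrix' (g₁ ∘ₗ f₁)).map (algebraMap A[X] A[T;T⁻¹])) := by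
      simp only [p₁, c₁]
      rw [LinearMap.comp_assoc, ← LinearMap.comp_assoc _ (f₁.baseChange A[T;T⁻¹]),
        ← LinearMap.baseChange_comp, ← Matrix.toLin'_toMatrix' (g₁ ∘ₗ f₁),
        ← LinearMap.comp_assoc, piScalarRight_baseChange_toLin', LinearMap.comp_assoc,
        LinearEquiv.comp_symm, LinearMap.comp_id, Matrix.toLin'_toMatrix']
    rw [← Matrix.toLin'_apply, ← this]; rfl
  have hc₂p₂ : ∀ x, c₂ (p₂ x) =
      ((LinearMap.toMatrix' (g₂ ∘ₗ f₂)).map (algebraMap A[X] A[T;T⁻¹])) *ᵥ x := by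
    intro x
    have : c₂ ∘ₗ p₂ = Matrix.toLin'
        ((LinearMap.toMatrix' (g₂ ∘ₗ f₂)).map (algebraMap A[X] A[T;T⁻¹])) := by
      simp only [p₂, c₂]
      rw [LinearMap.comp_assoc, ← LinearMap.comp_assoc _ (f₂.baseChange A[T;T⁻¹]),
        ← LinearMap.baseChange_comp, ← Matrix.toLin'_toMatrix' (g₂ ∘ₗ f₂),
        ← LinearMap.comp_assoc, piScalarRight_baseChange_toLin', LinearMap.comp_assoc,
        LinearEquiv.comp_symm, LinearMap.comp_id, Matrix.toLin'_toMatrix']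
    rw [← Matrix.toLin'_apply, ← this]; rfl
  -- the inverse of `E`
  let Eq := Equiv.ofBijective E hE
  let E' : A[T;T⁻¹] ⊗[A[X]] N → A[T;T⁻¹] ⊗[A[X]] M := Eq.symm
  have hEE' : ∀ y, E (E' y) = y := Eq.apply_symm_apply
  have hE'E : ∀ x, E' (E x) = x := Eq.symm_apply_apply
  have hE'add : ∀ y₁ y₂, E' (y₁ + y₂) = E' y₁ + E' y₂ := by
    intro y₁ y₂
    apply hE.1
    rw [hEE', map_add, hEE', hEE']
  have hE'smul : ∀ (ℓ : A[T;T⁻¹]) y, E' (ℓ • y) = σ ℓ • E' y := by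
    intro ℓ y
    apply hE.1
    rw [hEE', map_smulₛₗ, hEE', hσσ]
  let Γ : (Fin n → A[T;T⁻¹]) → (Fin n → A[T;T⁻¹]) := fun x => c₂ (E (p₁ x))
  let Γ' : (Fin n → A[T;T⁻¹]) → (Fin n → A[T;T⁻¹]) := fun y => c₁ (E' (p₂ y))
  have hΓadd : ∀ x y, Γ (x + y) = Γ x + Γ y := fun x y => by
    simp only [Γ, map_add]
  have hΓsmul : ∀ (ℓ : A[T;T⁻¹]) x, Γ (ℓ • x) = σ ℓ • Γ x := fun ℓ x => by
    simp only [Γ, map_smul, map_smulₛₗ]
  have hΓ'add : ∀ x y, Γ' (x + y) = Γ' x + Γ' y := fun x y => by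
    simp only [Γ', map_add, hE'add]
  have hΓ'smul : ∀ (ℓ : A[T;T⁻¹]) x, Γ' (ℓ • x) = σ ℓ • Γ' x := fun ℓ x => by
    simp only [Γ', map_smul, hE'smul]
  have hΓ'Γ : ∀ x, Γ' (Γ x) = c₁ (p₁ x) := fun x => by
    simp only [Γ, Γ', hp₂c₂, hE'E]
  have hΓΓ' : ∀ y, Γ (Γ' y) = c₂ (p₂ y) := fun y => by
    simp only [Γ, Γ', hp₁c₁, hEE']
  let G : Matrix (Fin n) (Fin n) A[T;T⁻¹] := Matrix.of fun i j => Γ (Pi.single j 1) i
  let H : Matrix (Fin n) (Fin n) A[T;T⁻¹] := Matrix.of fun i j => Γ' (Pi.single j 1) i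
  have claim1 : H * G.map σ =
      (LinearMap.toMatrix' (g₁ ∘ₗ f₁)).map (algebraMap A[X] A[T;T⁻¹]) := by
    ext k j
    have := semilin_rep σ Γ' hΓ'add hΓ'smul (Γ (Pi.single j 1)) k
    rw [hΓ'Γ, hc₁p₁, Matrix.mulVec_single_one, Matrix.col_apply] at this
    rw [this, Matrix.mul_apply]
    rfl
  have claim2 : G * H.map σ =
      (LinearMap.toMatrix' (g₂ ∘ₗ f₂)).map (algebraMap A[X] A[T;T⁻¹]) := by
    ext k j
    have := semilin_rep σ Γ hΓadd hΓsmul (Γ' (Pi.single j 1)) k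
    rw [hΓΓ', hc₂p₂, Matrix.mulVec_single_one, Matrix.col_apply] at this
    rw [this, Matrix.mul_apply]
    rfl
  refine ⟨G.map σ, H, claim1, ?_⟩
  have h3 : G.map σ * H = (G * H.map σ).map σ := by
    ext k j
    simp only [Matrix.mul_apply, Matrix.map_apply, map_sum, map_mul, hσσ]
  rw [h3, claim2, Matrix.map_map]
  rfl

theorem exists_matrices {M N : Type*} [AddCommGroup M] [Module A[X] M] [AddCommGroup N]
    [Module A[X] N] {n : ℕ}
    (f₁ : (Fin n → A[X]) →ₗ[A[X]] M) (g₁ : M →ₗ[A[X]] (Fin n → A[X]))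
    (h₁ : f₁ ∘ₗ g₁ = LinearMap.id)
    (f₂ : (Fin n → A[X]) →ₗ[A[X]] N) (g₂ : N →ₗ[A[X]] (Fin n → A[X]))
    (h₂ : f₂ ∘ₗ g₂ = LinearMap.id)
    (E : (A[T;T⁻¹] ⊗[A[X]] M) →ₛₗ[(LaurentPolynomial.invert (R := A)).toRingEquiv.toRingHom]
      (A[T;T⁻¹] ⊗[A[X]] N)) (hE : Function.Bijective E) :
    ∃ G H : Matrix (Fin n) (Fin n) A[T;T⁻¹],
      H * G = (LinearMap.toMatrix' (g₁ ∘ₗ f₁)).map (toLaurent (R := A)) ∧
      G * H = (LinearMap.toMatrix' (g₂ ∘ₗ f₂)).map (tL' A) :=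
  exists_matrices_aux _ invert_invert f₁ g₁ h₁ f₂ g₂ h₂ E hE

end Extract

section Localize

variable {A A' : Type u} [CommRing A] [CommRing A'] (φ : A →+* A')

/-- coefficientwise map on Laurent polynomials. -/
noncomputable def Lmap : A[T;T⁻¹] →+* A'[T;T⁻¹] := AddMonoidAlgebra.mapRingHom ℤ φ

theorem Lmap_comp_toLaurent :
    (Lmap φ).comp (toLaurent (R := A)) = (toLaurent (R := A')).comp (mapRingHom φ) := by
  apply Polynomial.ringHom_ext
  · intro a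
    simp only [RingHom.comp_apply, coe_mapRingHom, Polynomial.map_C, Polynomial.toLaurent_C]
    rw [← LaurentPolynomial.single_eq_C, ← LaurentPolynomial.single_eq_C, Lmap,
      AddMonoidAlgebra.mapRingHom_single]
  · simp only [RingHom.comp_apply, coe_mapRingHom, Polynomial.map_X, Polynomial.toLaurent_X]
    rw [LaurentPolynomial.T, LaurentPolynomial.T, Lmap, AddMonoidAlgebra.mapRingHom_single,
      map_one]

theorem Lmap_invert (ℓ : A[T;T⁻¹]) : Lmap φ (invert ℓ) = invert (Lmap φ ℓ) := by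
  ext k
  simp [Lmap]

theorem Lmap_comp_tL' : (Lmap φ).comp (tL' A) = (tL' A').comp (mapRingHom φ) := by
  refine RingHom.ext fun p => ?_
  rw [RingHom.comp_apply, RingHom.comp_apply, tL'_apply, tL'_apply, Lmap_invert,
    ← RingHom.comp_apply (Lmap φ) toLaurent, Lmap_comp_toLaurent]
  rfl

theorem map_map_of_comp {R₁ R₂ R₃ R₂' m n : Type*} [Semiring R₁] [Semiring R₂] [Semiring R₃]
    [Semiring R₂'] (M : Matrix m n R₁) (f : R₁ →+* R₂) (g : R₂ →+* R₃) (f' : R₁ →+* R₂')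
    (g' : R₂' →+* R₃) (h : g.comp f = g'.comp f') : (M.map f).map g = (M.map f').map g' := by
  ext i j
  simp only [Matrix.map_apply]
  exact RingHom.congr_fun h (M i j)

theorem ext_of_factor {S : Type*} [CommRing S] {n r : ℕ} (e : Matrix (Fin n) (Fin n) S[X])
    (U : Matrix (Fin n) (Fin r) S[X]) (V : Matrix (Fin r) (Fin n) S[X]) (hUV : U * V = e)
    (hVU : V * U = 1) : Ext e := by
  refine ⟨U * V.map (ev0 S), U.map (ev0 S) * V, ?_, ?_⟩
  · rw [Matrix.mul_assoc, ← Matrix.mul_assoc (V.map _), ← Matrix.map_mul, hVU,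
      Matrix.map_one _ (map_zero _) (map_one _), Matrix.one_mul, hUV]
  · rw [Matrix.mul_assoc, ← Matrix.mul_assoc V, hVU, Matrix.one_mul, ← Matrix.map_mul, hUV]
    rfl

theorem ext_localization {n : ℕ} (eM eN : Matrix (Fin n) (Fin n) A[X]) (heM : eM * eM = eM)
    (heN : eN * eN = eN) (G H : Matrix (Fin n) (Fin n) A[T;T⁻¹])
    (hHG : H * G = eM.map (toLaurent (R := A))) (hGH : G * H = eN.map (tL' A))
    [IsLocalRing A'] : Ext ((mapRingHom φ).mapMatrix eM) := by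
  obtain ⟨r, U, V, hUV, hVU⟩ := local_horrocks_matrix (A := A') ((mapRingHom φ).mapMatrix eM)
    ((mapRingHom φ).mapMatrix eN) (by rw [← map_mul, heM]) (by rw [← map_mul, heN])
    ((Lmap φ).mapMatrix G) ((Lmap φ).mapMatrix H)
    (by rw [← map_mul, hHG]; exact map_map_of_comp eM _ _ _ _ (Lmap_comp_toLaurent φ))
    (by rw [← map_mul, hGH]; exact map_map_of_comp eN _ _ _ _ (Lmap_comp_tL' φ))
  exact ext_of_factor _ U V hUV hVU

end Localize

section Global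

variable {A : Type u} [CommRing A]

theorem ext_global {n : ℕ} (eM eN : Matrix (Fin n) (Fin n) A[X]) (heM : eM * eM = eM)
    (heN : eN * eN = eN) (G H : Matrix (Fin n) (Fin n) A[T;T⁻¹])
    (hHG : H * G = eM.map (toLaurent (R := A))) (hGH : G * H = eN.map (tL' A)) : Ext eM :=
  HorrQuillen.ext_of_local eM heM fun m _ =>
    ext_localization (algebraMap A (Localization.AtPrime m)) eM eN heM heN G H hHG hGH

theorem equiv_of_mvn {R : Type*} [CommRing R] {M M' F F' : Type*} [AddCommGroup M]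
    [AddCommGroup M'] [AddCommGroup F] [AddCommGroup F'] [Module R M] [Module R M']
    [Module R F] [Module R F']
    (f : F →ₗ[R] M) (g : M →ₗ[R] F) (hfg : f ∘ₗ g = LinearMap.id)
    (f' : F' →ₗ[R] M') (g' : M' →ₗ[R] F') (hfg' : f' ∘ₗ g' = LinearMap.id)
    (u : F' →ₗ[R] F) (v : F →ₗ[R] F') (huv : u ∘ₗ v = g ∘ₗ f) (hvu : v ∘ₗ u = g' ∘ₗ f') :
    Nonempty (M ≃ₗ[R] M') := by
  have h1 : ∀ y, u (v y) = g (f y) := LinearMap.congr_fun huv
  have h2 : ∀ y, v (u y) = g' (f' y) := LinearMap.congr_fun hvu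
  have h3 : ∀ y, f (g y) = y := LinearMap.congr_fun hfg
  have h4 : ∀ y, f' (g' y) = y := LinearMap.congr_fun hfg'
  refine ⟨LinearEquiv.ofLinear (f' ∘ₗ v ∘ₗ g) (f ∘ₗ u ∘ₗ g') ?_ ?_⟩
  · refine LinearMap.ext fun x => ?_
    simp only [LinearMap.comp_apply, LinearMap.id_apply]
    rw [← h1, h2, h2, h4, h4, h4]
  · refine LinearMap.ext fun x => ?_
    simp only [LinearMap.comp_apply, LinearMap.id_apply]
    rw [← h2, h1, h1, h3, h3, h3]

theorem extended_of_ext {M : Type*} [AddCommGroup M] [Module A[X] M] {n : ℕ}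
    (f₁ : (Fin n → A[X]) →ₗ[A[X]] M) (g₁ : M →ₗ[A[X]] (Fin n → A[X]))
    (h₁ : f₁ ∘ₗ g₁ = LinearMap.id) (hExt : Ext (LinearMap.toMatrix' (g₁ ∘ₗ f₁))) :
    ∃ (P : Type u) (_ : AddCommGroup P) (_ : Module A P),
      Nonempty (M ≃ₗ[A[X]] (A[X] ⊗[A] P)) := by
  classical
  set eM := LinearMap.toMatrix' (g₁ ∘ₗ f₁) with heMdef
  have hgf : (g₁ ∘ₗ f₁) ∘ₗ (g₁ ∘ₗ f₁) = g₁ ∘ₗ f₁ := by
    rw [LinearMap.comp_assoc, ← LinearMap.comp_assoc f₁ g₁ f₁, h₁, LinearMap.id_comp]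
  have heM : eM * eM = eM := by
    rw [heMdef, ← LinearMap.toMatrix'_comp, hgf]
  obtain ⟨U, V, hUV, hVU⟩ := hExt
  set e₀ : Matrix (Fin n) (Fin n) A := (evalRingHom (0 : A)).mapMatrix eM with he₀def
  have he₀ : e₀ * e₀ = e₀ := by rw [he₀def, ← map_mul, heM]
  have hVU' : V * U = e₀.map (algebraMap A A[X]) := by
    rw [hVU]; rfl
  let P : Submodule A (Fin n → A) := LinearMap.range (Matrix.toLin' e₀)
  let f₀ : (Fin n → A) →ₗ[A] P := (Matrix.toLin' e₀).rangeRestrict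
  let g₀ : P →ₗ[A] (Fin n → A) := P.subtype
  have hg₀f₀ : g₀ ∘ₗ f₀ = Matrix.toLin' e₀ := rfl
  have hf₀g₀ : f₀ ∘ₗ g₀ = LinearMap.id := by
    refine LinearMap.ext fun p => Subtype.ext ?_
    exact toLin'_apply_of_mem e₀ he₀ p.2
  let τ := TensorProduct.piScalarRight A A[X] A[X] (Fin n)
  refine ⟨P, inferInstance, inferInstance, ?_⟩
  refine equiv_of_mvn f₁ g₁ h₁ (f₀.baseChange A[X]) (g₀.baseChange A[X])
    (by rw [← LinearMap.baseChange_comp, hf₀g₀, LinearMap.baseChange_id])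
    (Matrix.toLin' U ∘ₗ τ.toLinearMap) (τ.symm.toLinearMap ∘ₗ Matrix.toLin' V) ?_ ?_
  · rw [LinearMap.comp_assoc, ← LinearMap.comp_assoc _ τ.symm.toLinearMap τ.toLinearMap,
      LinearEquiv.comp_symm, LinearMap.id_comp, ← Matrix.toLin'_mul, hUV, heMdef,
      Matrix.toLin'_toMatrix']
  · rw [LinearMap.comp_assoc, ← LinearMap.comp_assoc _ (Matrix.toLin' U) (Matrix.toLin' V),
      ← Matrix.toLin'_mul, hVU', ← piScalarRight_baseChange_toLin', ← LinearMap.comp_assoc,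
      LinearEquiv.symm_comp, LinearMap.id_comp, ← LinearMap.baseChange_comp, hg₀f₀]

end Global

end Groth.Agent.Lib.R2H7.HorrDict
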