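import Groth.Agent.Lib.R2H7HorrKey

/-!
# Gluing over a two-element Zariski cover, in ring-hom form
-/

namespace Groth.Agent.Lib.R2H7.HorrGlue

open Polynomial
open Groth.Agent.Lib.R2H7.HorrKey

/-- Data of a two-element cover `Spec R = D(a) ∪ D(b)`, in ring-hom form. -/
structure CoverData {R Ra Rb Rab : Type*} [CommRing R] [CommRing Ra] [CommRing Rb] [CommRing Rab]
    (α : R →+* Ra) (β : R →+* Rb) (α' : Ra →+* Rab) (β' : Rb →+* Rab) (a b : R) : Prop where
  comm : α'.comp α = β'.comp β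
  hα : IsAwayHom α a
  hβ : IsAwayHom β b
  hα' : IsAwayHom α' (α b)
  hβ' : IsAwayHom β' (β a)
  cop : IsCoprime a b

namespace CoverData

variable {R Ra Rb Rab : Type*} [CommRing R] [CommRing Ra] [CommRing Rb] [CommRing Rab]
  {α : R →+* Ra} {β : R →+* Rb} {α' : Ra →+* Rab} {β' : Rb →+* Rab} {a b : R}

theorem polynomial (h : CoverData α β α' β' a b) :
    CoverData (mapRingHom α) (mapRingHom β) (mapRingHom α') (mapRingHom β') (C a) (C b) where
  comm := by
    rw [Polynomial.mapRingHom_comp, Polynomial.mapRingHom_comp, h.comm]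
  hα := h.hα.polynomial
  hβ := h.hβ.polynomial
  hα' := by
    have := h.hα'.polynomial
    rwa [show (mapRingHom α) (C b) = C (α b) by simp]
  hβ' := by
    have := h.hβ'.polynomial
    rwa [show (mapRingHom β) (C a) = C (β a) by simp]
  cop := by
    obtain ⟨u, v, huv⟩ := h.cop
    exact ⟨C u, C v, by rw [← C_mul, ← C_mul, ← C_add, huv, C_1]⟩

theorem inj (h : CoverData α β α' β' a b) (x : R) (hxa : α x = 0) (hxb : β x = 0) : x = 0 := by
  obtain ⟨k, hk⟩ := h.hα.ker x hxa
  obtain ⟨l, hl⟩ := h.hβ.ker x hxb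
  obtain ⟨u, v, huv⟩ := (h.cop.pow (m := k) (n := l))
  calc x = (u * a ^ k + v * b ^ l) * x := by rw [huv, one_mul]
    _ = u * (a ^ k * x) + v * (b ^ l * x) := by ring
    _ = 0 := by rw [hk, hl, mul_zero, mul_zero, add_zero]

theorem glue (h : CoverData α β α' β' a b) (xa : Ra) (xb : Rb) (hx : α' xa = β' xb) :
    ∃ x : R, α x = xa ∧ β x = xb := by
  obtain ⟨k₁, p₁, hp₁⟩ := h.hα.surj xa
  obtain ⟨k₂, q₂, hq₂⟩ := h.hβ.surj xb
  -- common exponent
  set k := k₁ + k₂ with hk
  set p := p₁ * a ^ k₂ with hp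
  set q := q₂ * b ^ k₁ with hq
  have hpa : xa * α a ^ k = α p := by
    rw [hk, hp, map_mul, ← hp₁, pow_add, map_pow]
    ring
  have hqb : xb * β b ^ k = β q := by
    rw [hk, hq, map_mul, ← hq₂, pow_add, map_pow]
    ring
  have hγ : ∀ r : R, α' (α r) = β' (β r) := fun r => RingHom.congr_fun h.comm r
  -- `p b^k - q a^k` dies in `Rab`
  have h1 : α' (α (p * b ^ k - q * a ^ k)) = 0 := by
    have e1 : α' (α (p * b ^ k)) = α' xa * α' (α a) ^ k * α' (α b) ^ k := by
      rw [map_mul, map_mul, ← hpa, map_mul, map_pow, map_pow, map_pow]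
    have e2 : α' (α (q * a ^ k)) = α' xa * α' (α a) ^ k * α' (α b) ^ k := by
      rw [hγ, map_mul, map_mul, ← hqb, map_mul, ← hx]
      simp only [map_pow]
      rw [hγ a, hγ b]
      ring
    rw [map_sub, map_sub, e1, e2, sub_self]
  obtain ⟨m, hm⟩ := h.hα'.ker _ h1
  have h2 : α (b ^ m * (p * b ^ k - q * a ^ k)) = 0 := by
    rw [map_mul, map_pow]
    exact hm
  obtain ⟨m', hm'⟩ := h.hα.ker _ h2
  set N := m + m' with hN
  have h3 : a ^ N * b ^ N * (p * b ^ k) = a ^ N * b ^ N * (q * a ^ k) := by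
    have : a ^ N * b ^ N * (p * b ^ k - q * a ^ k) = 0 := by
      have e : a ^ N * b ^ N * (p * b ^ k - q * a ^ k) =
          a ^ m * b ^ m' * (a ^ m' * (b ^ m * (p * b ^ k - q * a ^ k))) := by
        rw [hN, pow_add, pow_add]
        ring
      rw [e, hm', mul_zero]
    rw [mul_sub] at this
    exact sub_eq_zero.mp this
  obtain ⟨u, v, huv⟩ := (h.cop.pow (m := k + N) (n := k + N))
  refine ⟨u * a ^ N * p + v * b ^ N * q, ?_, ?_⟩
  · -- multiply by the unit `α a ^ (N + k)`
    have hunit : IsUnit (α a ^ (N + k)) := h.hα.unit.pow _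
    apply hunit.mul_left_injective
    show α (u * a ^ N * p + v * b ^ N * q) * α a ^ (N + k) = xa * α a ^ (N + k)
    have e1 : xa * α a ^ (N + k) = α (a ^ N * p) := by
      rw [pow_add, map_mul, ← hpa, map_pow]
      ring
    rw [e1, ← map_pow, ← map_mul]
    congr 1
    have : (u * a ^ N * p + v * b ^ N * q) * a ^ (N + k) =
        u * a ^ (k + N) * (a ^ N * p) + v * (a ^ N * b ^ N * (q * a ^ k)) := by
      rw [pow_add, pow_add]
      ring
    rw [this, ← h3]
    calc u * a ^ (k + N) * (a ^ N * p) + v * (a ^ N * b ^ N * (p * b ^ k))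
        = (u * a ^ (k + N) + v * b ^ (k + N)) * (a ^ N * p) := by
          rw [pow_add b]
          ring
      _ = a ^ N * p := by rw [huv, one_mul]
  · have hunit : IsUnit (β b ^ (N + k)) := h.hβ.unit.pow _
    apply hunit.mul_left_injective
    show β (u * a ^ N * p + v * b ^ N * q) * β b ^ (N + k) = xb * β b ^ (N + k)
    have e1 : xb * β b ^ (N + k) = β (b ^ N * q) := by
      rw [pow_add, map_mul, ← hqb, map_pow]
      ring
    rw [e1, ← map_pow, ← map_mul]
    congr 1
    have : (u * a ^ N * p + v * b ^ N * q) * b ^ (N + k) =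
        u * (a ^ N * b ^ N * (p * b ^ k)) + v * b ^ (k + N) * (b ^ N * q) := by
      rw [pow_add, pow_add]
      ring
    rw [this, h3]
    calc u * (a ^ N * b ^ N * (q * a ^ k)) + v * b ^ (k + N) * (b ^ N * q)
        = (u * a ^ (k + N) + v * b ^ (k + N)) * (b ^ N * q) := by
          rw [pow_add a]
          ring
      _ = b ^ N * q := by rw [huv, one_mul]

theorem inj_matrix (h : CoverData α β α' β' a b) {n : ℕ} (M : Matrix (Fin n) (Fin n) R)
    (hMa : α.mapMatrix M = 0) (hMb : β.mapMatrix M = 0) : M = 0 := by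
  apply Matrix.ext
  intro i j
  apply h.inj
  · have := congrFun (congrFun hMa i) j
    simpa using this
  · have := congrFun (congrFun hMb i) j
    simpa using this

theorem glue_matrix (h : CoverData α β α' β' a b) {n : ℕ} (Ma : Matrix (Fin n) (Fin n) Ra)
    (Mb : Matrix (Fin n) (Fin n) Rb) (hM : α'.mapMatrix Ma = β'.mapMatrix Mb) :
    ∃ M : Matrix (Fin n) (Fin n) R, α.mapMatrix M = Ma ∧ β.mapMatrix M = Mb := by
  have h1 : ∀ i j, ∃ x : R, α x = Ma i j ∧ β x = Mb i j := by
    intro i j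
    apply h.glue
    have := congrFun (congrFun hM i) j
    simpa using this
  choose x hx using h1
  refine ⟨Matrix.of x, ?_, ?_⟩
  · apply Matrix.ext
    intro i j
    simpa using (hx i j).1
  · apply Matrix.ext
    intro i j
    simpa using (hx i j).2

end CoverData

end Groth.Agent.Lib.R2H7.HorrGlue
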