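import Mathlib

/-!
# Quillen's key lemma, matrix form

`IsAwayHom ψ f`: the ring hom `ψ : S → S'` behaves like a localization away from `f`.
`lemmaK`: an invertible matrix over `A'[t][y]` which is the identity at `y = 0` becomes, after
`y ↦ f^k c`, the image of an invertible matrix over `A[t]`.
-/

namespace Groth.Agent.Lib.R2H7.HorrKey

open Polynomial

/-- `ψ` is "a localization away from `f`". -/
structure IsAwayHom {S S' : Type*} [CommRing S] [CommRing S'] (ψ : S →+* S') (f : S) : Prop where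
  unit : IsUnit (ψ f)
  surj : ∀ z : S', ∃ (k : ℕ) (x : S), z * ψ f ^ k = ψ x
  ker : ∀ a : S, ψ a = 0 → ∃ k : ℕ, f ^ k * a = 0

namespace IsAwayHom

variable {S S' : Type*} [CommRing S] [CommRing S']

theorem of_isLocalization [Algebra S S'] (f : S) [IsLocalization.Away f S'] :
    IsAwayHom (algebraMap S S') f where
  unit := IsLocalization.Away.algebraMap_isUnit f
  surj z := by
    obtain ⟨k, x, h⟩ := IsLocalization.Away.surj f z
    exact ⟨k, x, h⟩
  ker a ha := by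
    have h : algebraMap S S' a = algebraMap S S' 0 := by rw [ha, map_zero]
    obtain ⟨k, hk⟩ := IsLocalization.Away.exists_of_eq f h
    exact ⟨k, by rw [hk, mul_zero]⟩

variable {ψ : S →+* S'} {f : S}

theorem surj_family (h : IsAwayHom ψ f) {ι : Type*} [Finite ι] (g : ι → S') :
    ∃ (k : ℕ) (x : ι → S), ∀ i, ψ (x i) = ψ f ^ k * g i := by
  cases nonempty_fintype ι
  choose k x hx using fun i => h.surj (g i)
  refine ⟨∑ i, k i, fun i => x i * f ^ ((∑ i, k i) - k i), fun i => ?_⟩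
  have hle : k i ≤ ∑ i, k i := Finset.single_le_sum (fun _ _ => Nat.zero_le _) (Finset.mem_univ _)
  rw [map_mul, ← hx, map_pow, mul_assoc, ← pow_add, Nat.add_sub_cancel' hle, mul_comm]

theorem ker_family (h : IsAwayHom ψ f) {ι : Type*} [Finite ι] (g : ι → S)
    (hg : ∀ i, ψ (g i) = 0) : ∃ k : ℕ, ∀ i, f ^ k * g i = 0 := by
  cases nonempty_fintype ι
  choose k hk using fun i => h.ker (g i) (hg i)
  refine ⟨∑ i, k i, fun i => ?_⟩
  have hle : k i ≤ ∑ i, k i := Finset.single_le_sum (fun _ _ => Nat.zero_le _) (Finset.mem_univ _)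
  rw [← Nat.sub_add_cancel hle, pow_add, mul_assoc, hk, mul_zero]

theorem polynomial (h : IsAwayHom ψ f) : IsAwayHom (mapRingHom ψ) (C f) where
  unit := by
    obtain ⟨u, hu⟩ := h.unit
    rw [coe_mapRingHom, Polynomial.map_C, ← hu]
    exact (Polynomial.isUnit_C).mpr u.isUnit
  surj z := by
    induction z using Polynomial.induction_on' with
    | add p q hp hq =>
      obtain ⟨k, x, hx⟩ := hp
      obtain ⟨l, y, hy⟩ := hq
      refine ⟨k + l, x * C f ^ l + y * C f ^ k, ?_⟩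
      rw [map_add, map_mul, map_mul, ← hx, ← hy, map_pow, map_pow, pow_add]
      ring
    | monomial n a =>
      obtain ⟨k, x, hx⟩ := h.surj a
      refine ⟨k, monomial n x, ?_⟩
      rw [coe_mapRingHom, Polynomial.map_monomial, ← hx, Polynomial.map_C, ← C_pow,
        monomial_mul_C]
  ker a ha := by
    have hc : ∀ i : a.support, ψ (a.coeff i) = 0 := by
      intro i
      have := congrArg (fun p => Polynomial.coeff p i) ha
      simpa [coe_mapRingHom, Polynomial.coeff_map] using this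
    obtain ⟨k, hk⟩ := h.ker_family (fun i : a.support => a.coeff i) hc
    refine ⟨k, ?_⟩
    ext i
    rw [← C_pow, coeff_C_mul, coeff_zero]
    by_cases hi : i ∈ a.support
    · exact hk ⟨i, hi⟩
    · rw [Polynomial.notMem_support_iff.mp hi, mul_zero]

end IsAwayHom

section Matrix

variable {S S' : Type*} [CommRing S] [CommRing S'] {n : ℕ}

theorem mapMatrix_smul (ρ : S →+* S') (s : S) (M : Matrix (Fin n) (Fin n) S) :
    ρ.mapMatrix (s • M) = ρ s • ρ.mapMatrix M := by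
  ext i j
  simp

theorem mapMatrix_mapMatrix {S'' : Type*} [CommRing S''] (ρ : S' →+* S'') (σ : S →+* S')
    (M : Matrix (Fin n) (Fin n) S) : ρ.mapMatrix (σ.mapMatrix M) = (ρ.comp σ).mapMatrix M := by
  rw [← RingHom.mapMatrix_comp]
  rfl

end Matrix

section LemmaK

variable {A A' : Type*} [CommRing A] [CommRing A'] (ψ : A →+* A') (f : A) {n : ℕ}

/-- substitution `y ↦ u y` on `S[y]`. -/
noncomputable def subY {S : Type*} [CommRing S] (u : S) : S[X] →+* S[X] :=
  compRingHom (C u * X)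

theorem subY_C {S : Type*} [CommRing S] (u s : S) : subY u (C s) = C s := by
  simp [subY]

theorem subY_X {S : Type*} [CommRing S] (u : S) : subY u (X : S[X]) = C u * X := by
  simp [subY]

theorem eval_comp_subY {S : Type*} [CommRing S] (u c : S) :
    (evalRingHom c).comp (subY u) = evalRingHom (u * c) := by
  apply Polynomial.ringHom_ext
  · intro a; simp [subY]
  · simp [subY]

theorem map_comp_subY {S S' : Type*} [CommRing S] [CommRing S'] (ρ : S →+* S') (u : S) :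
    (mapRingHom ρ).comp (subY u) = (subY (ρ u)).comp (mapRingHom ρ) := by
  apply Polynomial.ringHom_ext
  · intro a; simp [subY]
  · simp [subY]

theorem map_comp_eval {S S' : Type*} [CommRing S] [CommRing S'] (ρ : S →+* S') (c : S) :
    ρ.comp (evalRingHom c) = (evalRingHom (ρ c)).comp (mapRingHom ρ) := by
  apply Polynomial.ringHom_ext
  · intro a; simp
  · simp

theorem lemmaK (hψ : IsAwayHom ψ f)
    (Θ Θ' : Matrix (Fin n) (Fin n) A'[X][X]) (hΘ : Θ * Θ' = 1) (hΘ' : Θ' * Θ = 1)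
    (h0 : (evalRingHom (0 : A'[X])).mapMatrix Θ = 1)
    (h0' : (evalRingHom (0 : A'[X])).mapMatrix Θ' = 1)
    (E : Matrix (Fin n) (Fin n) A[X])
    (hE : Θ * (C : A'[X] →+* A'[X][X]).mapMatrix ((mapRingHom ψ).mapMatrix E) =
      (C : A'[X] →+* A'[X][X]).mapMatrix ((mapRingHom ψ).mapMatrix E) * Θ) :
    ∃ k : ℕ, ∀ c : A, ∃ η η' : Matrix (Fin n) (Fin n) A[X], η * η' = 1 ∧ η' * η = 1 ∧
      (mapRingHom ψ).mapMatrix η = (evalRingHom (C (ψ (f ^ k * c)))).mapMatrix Θ ∧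
      (mapRingHom ψ).mapMatrix η' = (evalRingHom (C (ψ (f ^ k * c)))).mapMatrix Θ' ∧
      η * E = E * η := by
  classical
  set ψ₁ : A[X] →+* A'[X] := mapRingHom ψ with hψ₁
  set ψ₂ : A[X][X] →+* A'[X][X] := mapRingHom ψ₁ with hψ₂
  have haw₂ : IsAwayHom ψ₂ (C (C f)) := hψ.polynomial.polynomial
  -- Step 1: Θ = 1 + Y • Γ
  have hdiv : ∀ (M : Matrix (Fin n) (Fin n) A'[X][X]),
      (evalRingHom (0 : A'[X])).mapMatrix M = 1 →
      ∃ Γ : Matrix (Fin n) (Fin n) A'[X][X], M = 1 + (X : A'[X][X]) • Γ := by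
    intro M hM
    have h1 : ∀ i j, (X : A'[X][X]) ∣ (M - 1) i j := by
      intro i j
      rw [X_dvd_iff, coeff_zero_eq_eval_zero]
      have := congrFun (congrFun hM i) j
      simp only [RingHom.mapMatrix_apply, Matrix.map_apply, coe_evalRingHom] at this
      rw [Matrix.sub_apply, eval_sub, this]
      by_cases hij : i = j
      · subst hij; simp
      · simp [hij]
    choose Γ hΓ using h1
    refine ⟨Matrix.of Γ, ?_⟩
    ext i j
    have := hΓ i j
    simp only [Matrix.sub_apply] at this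
    simp only [Matrix.add_apply, Matrix.smul_apply, Matrix.of_apply, smul_eq_mul]
    rw [← this]
    ring
  obtain ⟨Γ, hΓ⟩ := hdiv Θ h0
  obtain ⟨Γ', hΓ'⟩ := hdiv Θ' h0'
  -- Step 2: clear denominators
  obtain ⟨k₁, x, hx⟩ := haw₂.surj_family
    (fun t : (Fin n × Fin n) ⊕ (Fin n × Fin n) => Sum.elim (fun ij => Γ ij.1 ij.2)
      (fun ij => Γ' ij.1 ij.2) t)
  set Γt : Matrix (Fin n) (Fin n) A[X][X] := Matrix.of fun i j => x (Sum.inl (i, j)) with hΓt
  set Γt' : Matrix (Fin n) (Fin n) A[X][X] := Matrix.of fun i j => x (Sum.inr (i, j)) with hΓt'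
  have hΓt_map : ψ₂.mapMatrix Γt = (ψ₂ (C (C f)) ^ k₁) • Γ := by
    apply Matrix.ext
    intro i j
    simpa [hΓt] using hx (Sum.inl (i, j))
  have hΓt'_map : ψ₂.mapMatrix Γt' = (ψ₂ (C (C f)) ^ k₁) • Γ' := by
    apply Matrix.ext
    intro i j
    simpa [hΓt'] using hx (Sum.inr (i, j))
  -- Step 3: substitution
  set σ : A[X][X] →+* A[X][X] := subY ((C f : A[X]) ^ k₁) with hσ
  set σ' : A'[X][X] →+* A'[X][X] := subY ((C (ψ f) : A'[X]) ^ k₁) with hσ'
  have hσσ' : ψ₂.comp σ = σ'.comp ψ₂ := by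
    rw [hσ, hσ', hψ₂, map_comp_subY]
    congr 2
    rw [map_pow, hψ₁, coe_mapRingHom, Polynomial.map_C]
  set Ψ : Matrix (Fin n) (Fin n) A[X][X] := 1 + (X : A[X][X]) • σ.mapMatrix Γt with hΨ
  set Ψ' : Matrix (Fin n) (Fin n) A[X][X] := 1 + (X : A[X][X]) • σ.mapMatrix Γt' with hΨ'
  have hψ₂CC : ψ₂ (C (C f)) = C (C (ψ f)) := by
    rw [hψ₂, coe_mapRingHom, Polynomial.map_C, hψ₁, coe_mapRingHom, Polynomial.map_C]
  have hσ'C : ∀ s : A'[X], σ' (C s) = C s := fun s => subY_C _ _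
  have hσ'X : σ' (X : A'[X][X]) = C ((C (ψ f) : A'[X]) ^ k₁) * X := subY_X _
  have hmapΨ : ∀ (G : Matrix (Fin n) (Fin n) A[X][X]) (G' : Matrix (Fin n) (Fin n) A'[X][X])
      (M : Matrix (Fin n) (Fin n) A'[X][X]),
      ψ₂.mapMatrix G = (ψ₂ (C (C f)) ^ k₁) • G' → M = 1 + (X : A'[X][X]) • G' →
      ψ₂.mapMatrix (1 + (X : A[X][X]) • σ.mapMatrix G) = σ'.mapMatrix M := by
    intro G G' M hG hM
    rw [hM, map_add, map_add, map_one, map_one, mapMatrix_smul, mapMatrix_smul,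
      mapMatrix_mapMatrix, hσσ', ← mapMatrix_mapMatrix, hG, mapMatrix_smul, hσ'X, hψ₂CC]
    congr 1
    rw [map_pow, hσ'C, smul_smul, hψ₂, coe_mapRingHom, Polynomial.map_X, C_pow]
    congr 1
    ring
  have hΨmap : ψ₂.mapMatrix Ψ = σ'.mapMatrix Θ := hmapΨ Γt Γ Θ hΓt_map hΓ
  have hΨ'map : ψ₂.mapMatrix Ψ' = σ'.mapMatrix Θ' := hmapΨ Γt' Γ' Θ' hΓt'_map hΓ'
  -- Step 4: the error terms
  set G := σ.mapMatrix Γt with hG
  set G' := σ.mapMatrix Γt' with hG'
  set E₂ : Matrix (Fin n) (Fin n) A[X][X] := (C : A[X] →+* A[X][X]).mapMatrix E with hE₂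
  set Δ₁ : Matrix (Fin n) (Fin n) A[X][X] := G + G' + (X : A[X][X]) • (G * G') with hΔ₁
  set Δ₁' : Matrix (Fin n) (Fin n) A[X][X] := G' + G + (X : A[X][X]) • (G' * G) with hΔ₁'
  set Λ₁ : Matrix (Fin n) (Fin n) A[X][X] := G * E₂ - E₂ * G with hΛ₁
  have e1 : Ψ * Ψ' - 1 = (X : A[X][X]) • Δ₁ := by
    rw [hΨ, hΨ', hΔ₁]
    simp only [add_mul, mul_add, one_mul, mul_one, Matrix.smul_mul, Matrix.mul_smul, smul_add,
      smul_smul]
    abel
  have e2 : Ψ' * Ψ - 1 = (X : A[X][X]) • Δ₁' := by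
    rw [hΨ, hΨ', hΔ₁']
    simp only [add_mul, mul_add, one_mul, mul_one, Matrix.smul_mul, Matrix.mul_smul, smul_add,
      smul_smul]
    abel
  have e3 : Ψ * E₂ - E₂ * Ψ = (X : A[X][X]) • Λ₁ := by
    rw [hΨ, hΛ₁]
    simp only [add_mul, mul_add, one_mul, mul_one, Matrix.smul_mul, Matrix.mul_smul, smul_sub]
    abel
  have hXreg : ∀ M : Matrix (Fin n) (Fin n) A'[X][X], (X : A'[X][X]) • M = 0 → M = 0 := by
    intro M hM
    apply Matrix.ext
    intro i j
    have := congrFun (congrFun hM i) j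
    simp only [Matrix.smul_apply, smul_eq_mul, Matrix.zero_apply] at this
    exact (isRegular_X (R := A'[X])).left
      (show (X : A'[X][X]) * M i j = X * (0 : A'[X][X]) by rw [this, mul_zero])
  have hψ₂X : ψ₂ (X : A[X][X]) = X := by rw [hψ₂, coe_mapRingHom, Polynomial.map_X]
  have hE₂map : ψ₂.mapMatrix E₂ = σ'.mapMatrix
      ((C : A'[X] →+* A'[X][X]).mapMatrix (ψ₁.mapMatrix E)) := by
    have hcompE : ψ₂.comp (C : A[X] →+* A[X][X]) =
        (σ'.comp (C : A'[X] →+* A'[X][X])).comp ψ₁ := by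
      apply RingHom.ext
      intro p
      simp [hψ₂, hσ'C]
    rw [hE₂, mapMatrix_mapMatrix, hcompE, ← mapMatrix_mapMatrix, ← mapMatrix_mapMatrix]
  have z1 : ψ₂.mapMatrix Δ₁ = 0 := by
    apply hXreg
    rw [← hψ₂X, ← mapMatrix_smul, ← e1, map_sub, map_mul, map_one, hΨmap, hΨ'map, ← map_mul, hΘ,
      map_one, sub_self]
  have z2 : ψ₂.mapMatrix Δ₁' = 0 := by
    apply hXreg
    rw [← hψ₂X, ← mapMatrix_smul, ← e2, map_sub, map_mul, map_one, hΨmap, hΨ'map, ← map_mul, hΘ',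
      map_one, sub_self]
  have z3 : ψ₂.mapMatrix Λ₁ = 0 := by
    apply hXreg
    rw [← hψ₂X, ← mapMatrix_smul, ← e3, map_sub, map_mul, map_mul, hΨmap, hE₂map, ← map_mul,
      ← map_mul, hE, sub_self]
  -- Step 5: kill torsion
  obtain ⟨k₂, hk₂⟩ := haw₂.ker_family
    (fun t : (Fin n × Fin n) ⊕ ((Fin n × Fin n) ⊕ (Fin n × Fin n)) =>
      Sum.elim (fun ij => Δ₁ ij.1 ij.2)
        (Sum.elim (fun ij => Δ₁' ij.1 ij.2) (fun ij => Λ₁ ij.1 ij.2)) t)
    (by
      rintro (ij | ij | ij)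
      · have := congrFun (congrFun z1 ij.1) ij.2
        simpa using this
      · have := congrFun (congrFun z2 ij.1) ij.2
        simpa using this
      · have := congrFun (congrFun z3 ij.1) ij.2
        simpa using this)
  have t1 : (C (C f) : A[X][X]) ^ k₂ • Δ₁ = 0 := by
    apply Matrix.ext
    intro i j
    simpa using hk₂ (Sum.inl (i, j))
  have t2 : (C (C f) : A[X][X]) ^ k₂ • Δ₁' = 0 := by
    apply Matrix.ext
    intro i j
    simpa using hk₂ (Sum.inr (Sum.inl (i, j)))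
  have t3 : (C (C f) : A[X][X]) ^ k₂ • Λ₁ = 0 := by
    apply Matrix.ext
    intro i j
    simpa using hk₂ (Sum.inr (Sum.inr (i, j)))
  -- Step 6
  refine ⟨k₁ + k₂, fun c => ?_⟩
  set ev : A[X][X] →+* A[X] := evalRingHom (C (f ^ k₂ * c)) with hev
  have hevX : ev (X : A[X][X]) = C (f ^ k₂ * c) := by simp [hev]
  have hevC : ∀ p : A[X], ev (C p) = p := by intro p; simp [hev]
  have hkill : ∀ D : Matrix (Fin n) (Fin n) A[X][X], (C (C f) : A[X][X]) ^ k₂ • D = 0 →
      ev.mapMatrix ((X : A[X][X]) • D) = 0 := by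
    intro D hD
    have h1 := congrArg ev.mapMatrix hD
    rw [mapMatrix_smul, map_pow, hevC, map_zero] at h1
    rw [mapMatrix_smul, hevX, map_mul, map_pow, mul_comm, ← smul_smul, h1, smul_zero]
  have hevE₂ : ev.mapMatrix E₂ = E := by
    rw [hE₂, mapMatrix_mapMatrix]
    have : ev.comp (C : A[X] →+* A[X][X]) = RingHom.id _ := by
      apply RingHom.ext; intro p; simp [hev]
    rw [this, RingHom.mapMatrix_id]
    rfl
  have hcomm : (mapRingHom ψ).comp ev = (evalRingHom (C (ψ (f ^ k₂ * c)))).comp ψ₂ := by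
    rw [hev, map_comp_eval, coe_mapRingHom, Polynomial.map_C]
  have hev' : (evalRingHom (C (ψ (f ^ k₂ * c)))).comp σ' =
      evalRingHom (C (ψ (f ^ (k₁ + k₂) * c))) := by
    rw [hσ', eval_comp_subY]
    congr 1
    rw [← C_pow, ← C_mul, ← map_pow, ← map_mul, pow_add, mul_assoc]
  have hfinal : ∀ (M : Matrix (Fin n) (Fin n) A[X][X]) (M' : Matrix (Fin n) (Fin n) A'[X][X]),
      ψ₂.mapMatrix M = σ'.mapMatrix M' →
      (mapRingHom ψ).mapMatrix (ev.mapMatrix M) =
        (evalRingHom (C (ψ (f ^ (k₁ + k₂) * c)))).mapMatrix M' := by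
    intro M M' h
    rw [mapMatrix_mapMatrix, hcomm, ← mapMatrix_mapMatrix, h, mapMatrix_mapMatrix, hev']
  refine ⟨ev.mapMatrix Ψ, ev.mapMatrix Ψ', ?_, ?_, hfinal Ψ Θ hΨmap, hfinal Ψ' Θ' hΨ'map, ?_⟩
  · rw [← map_mul, ← sub_eq_zero, ← map_one ev.mapMatrix, ← map_sub, e1]
    exact hkill _ t1
  · rw [← map_mul, ← sub_eq_zero, ← map_one ev.mapMatrix, ← map_sub, e2]
    exact hkill _ t2
  · have h1 : ev.mapMatrix (Ψ * E₂ - E₂ * Ψ) = 0 := by
      rw [e3]
      exact hkill _ t3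
    rw [map_sub, map_mul, map_mul, hevE₂] at h1
    exact sub_eq_zero.mp h1

end LemmaK

end Groth.Agent.Lib.R2H7.HorrKey
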