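import Groth.Agent.Lib.R2H7HorrPencil

/-!
# Local Horrocks, lattice form

Over a local ring `R`: a finite projective `R[X]`-module `P` which is "isogenous" to a free module
`R[X] ⊗ V` via maps whose composites are multiplication by a monic polynomial, is free.
-/

namespace Groth.Agent.Lib.R2H7.HorrLattice

open Polynomial TensorProduct IsLocalRing
open Groth.Agent.Lib.R2H7.HorrPencil

universe u

variable {R : Type u} [CommRing R]

theorem finite_of_monic_smul {M : Type*} [AddCommGroup M] [Module R M] [Module R[X] M]
    [IsScalarTower R R[X] M] [Module.Finite R[X] M] (g : R[X]) (hg : g.Monic)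
    (h : ∀ m : M, g • m = 0) : Module.Finite R M := by
  have hM : Module.IsTorsionBy R[X] M g := fun x => h x
  letI := hM.module
  haveI : IsScalarTower R[X] (R[X] ⧸ Ideal.span {g}) M :=
    IsScalarTower.of_algebraMap_smul (R := R[X]) (A := R[X] ⧸ Ideal.span {g}) (M := M)
      fun r x => Module.IsTorsionBy.mk_smul hM r x
  haveI : IsScalarTower R (R[X] ⧸ Ideal.span {g}) M :=
    IsScalarTower.of_algebraMap_smul (R := R) (A := R[X] ⧸ Ideal.span {g}) (M := M)
      fun r x => by
      rw [IsScalarTower.algebraMap_apply R R[X] (R[X] ⧸ Ideal.span {g}), algebraMap_smul,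
        algebraMap_smul]
  haveI : Module.Finite (R[X] ⧸ Ideal.span {g}) M :=
    Module.Finite.of_restrictScalars_finite R[X] _ M
  haveI := hg.finite_quotient
  exact Module.Finite.trans (R[X] ⧸ Ideal.span {g}) M

theorem mem_map_C_of_monic_mul_mem (J : Ideal R) (g q : R[X]) (hg : g.Monic)
    (h : g * q ∈ J.map (C : R →+* R[X])) : q ∈ J.map (C : R →+* R[X]) := by
  have key : ∀ f : R[X], f ∈ J.map (C : R →+* R[X]) ↔ f.map (Ideal.Quotient.mk J) = 0 := by
    intro f
    rw [Ideal.mem_map_C_iff, Polynomial.ext_iff]
    simp [Ideal.Quotient.eq_zero_iff_mem]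
  rw [key] at h ⊢
  rw [Polynomial.map_mul] at h
  exact (hg.map (Ideal.Quotient.mk J)).mul_right_eq_zero_iff.mp h

section CharSeq

variable (R) (E : Type u) [AddCommGroup E] [Module R E] [Module R[X] E] [IsScalarTower R R[X] E]

/-- multiplication by `X` as an `R`-linear endomorphism. -/
noncomputable def tau : E →ₗ[R] E := Algebra.lsmul R R E (X : R[X])

@[simp] theorem tau_apply (e : E) : tau R E e = (X : R[X]) • e := rfl

/-- evaluation `R[X] ⊗ E → E`. -/
noncomputable def eps : R[X] ⊗[R] E →ₗ[R[X]] E := LinearMap.liftBaseChange R[X] LinearMap.id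

@[simp] theorem eps_tmul (p : R[X]) (e : E) : eps R E (p ⊗ₜ e) = p • e := by simp [eps]

/-- `X - τ`. -/
noncomputable def chi : R[X] ⊗[R] E →ₗ[R[X]] R[X] ⊗[R] E :=
  (X : R[X]) • LinearMap.id - (tau R E).baseChange R[X]

theorem chi_tmul (p : R[X]) (e : E) :
    chi R E (p ⊗ₜ e) = (X * p) ⊗ₜ e - p ⊗ₜ ((X : R[X]) • e) := by
  simp [chi, TensorProduct.smul_tmul']

theorem eps_chi (y : R[X] ⊗[R] E) : eps R E (chi R E y) = 0 := by
  induction y using TensorProduct.induction_on with
  | zero => simp
  | tmul p e =>
    rw [chi_tmul, map_sub, eps_tmul, eps_tmul, mul_smul, smul_comm, sub_self]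
  | add x y hx hy => rw [map_add, map_add, hx, hy, add_zero]

theorem eps_surjective : Function.Surjective (eps R E) := fun e => ⟨1 ⊗ₜ e, by simp⟩

theorem X_pow_sub_mem (n : ℕ) : ∀ e : E,
    ((X : R[X]) ^ n) ⊗ₜ[R] e - (1 : R[X]) ⊗ₜ[R] (((X : R[X]) ^ n) • e) ∈
      LinearMap.range (chi R E) := by
  induction n with
  | zero => intro e; simp
  | succ n ih =>
    intro e
    have h1 : ((X : R[X]) ^ (n + 1)) ⊗ₜ[R] e - (1 : R[X]) ⊗ₜ[R] (((X : R[X]) ^ (n + 1)) • e) =
        chi R E (((X : R[X]) ^ n) ⊗ₜ[R] e) +
          (((X : R[X]) ^ n) ⊗ₜ[R] ((X : R[X]) • e) -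
            (1 : R[X]) ⊗ₜ[R] (((X : R[X]) ^ n) • ((X : R[X]) • e))) := by
      rw [chi_tmul, pow_succ, mul_smul, mul_comm]
      abel
    rw [h1]
    exact add_mem ⟨_, rfl⟩ (ih _)

theorem sub_mem_range_chi (y : R[X] ⊗[R] E) :
    y - (1 : R[X]) ⊗ₜ[R] (eps R E y) ∈ LinearMap.range (chi R E) := by
  induction y using TensorProduct.induction_on with
  | zero => simp
  | tmul p e =>
    induction p using Polynomial.induction_on' with
    | add p q hp hq =>
      rw [TensorProduct.add_tmul, map_add, TensorProduct.tmul_add]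
      have : p ⊗ₜ[R] e + q ⊗ₜ[R] e - ((1 : R[X]) ⊗ₜ[R] (eps R E (p ⊗ₜ[R] e)) +
          (1 : R[X]) ⊗ₜ[R] (eps R E (q ⊗ₜ[R] e))) =
          (p ⊗ₜ[R] e - (1 : R[X]) ⊗ₜ[R] (eps R E (p ⊗ₜ[R] e))) +
          (q ⊗ₜ[R] e - (1 : R[X]) ⊗ₜ[R] (eps R E (q ⊗ₜ[R] e))) := by abel
      rw [this]
      exact add_mem hp hq
    | monomial n a =>
      have h1 : (monomial n a : R[X]) = a • (X : R[X]) ^ n := by
        rw [Polynomial.smul_eq_C_mul, Polynomial.C_mul_X_pow_eq_monomial]
      have h2 : (monomial n a : R[X]) ⊗ₜ[R] e = ((X : R[X]) ^ n) ⊗ₜ[R] (a • e) := by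
        rw [h1, TensorProduct.smul_tmul]
      have h3 : eps R E ((monomial n a : R[X]) ⊗ₜ[R] e) = ((X : R[X]) ^ n) • (a • e) := by
        rw [h2, eps_tmul]
      rw [h3, h2]
      exact X_pow_sub_mem R E n (a • e)
  | add x y hx hy =>
    rw [map_add, TensorProduct.tmul_add]
    have : x + y - ((1 : R[X]) ⊗ₜ[R] (eps R E x) + (1 : R[X]) ⊗ₜ[R] (eps R E y)) =
        (x - (1 : R[X]) ⊗ₜ[R] (eps R E x)) + (y - (1 : R[X]) ⊗ₜ[R] (eps R E y)) := by abel
    rw [this]
    exact add_mem hx hy

theorem ker_eps_le : LinearMap.ker (eps R E) ≤ LinearMap.range (chi R E) := by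
  intro y hy
  rw [LinearMap.mem_ker] at hy
  have := sub_mem_range_chi R E y
  rwa [hy, TensorProduct.tmul_zero, sub_zero] at this

theorem equiv_baseChange_tau (y : R[X] ⊗[R] E) :
    PolynomialModule.polynomialTensorProductLEquivPolynomialModule R E
        ((tau R E).baseChange R[X] y) =
      PolynomialModule.map R (tau R E)
        (PolynomialModule.polynomialTensorProductLEquivPolynomialModule R E y) := by
  induction y using TensorProduct.induction_on with
  | zero => simp
  | tmul p e =>
    simp only [LinearMap.baseChange_tmul,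
      PolynomialModule.polynomialTensorProductLEquivPolynomialModule, LinearEquiv.coe_mk,
      LinearMap.liftBaseChange_tmul]
    rw [PolynomialModule.map_smul]
    simp
  | add x y hx hy => simp only [map_add, hx, hy]

theorem map_coeff (f : E →ₗ[R] E) (z : PolynomialModule R E) (n : ℕ) :
    (PolynomialModule.map R f z).coeff n = f (z.coeff n) := by
  induction z using PolynomialModule.induction_linear with
  | zero => simp
  | add p q hp hq => simp [hp, hq]
  | single i m =>
    rw [PolynomialModule.map_single]
    simp only [PolynomialModule.single, PolynomialModule.coeff_ofCoeff, Finsupp.single_apply]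
    split_ifs <;> simp

theorem chi_injective : Function.Injective (chi R E) := by
  rw [injective_iff_map_eq_zero]
  intro y hy
  set e := PolynomialModule.polynomialTensorProductLEquivPolynomialModule R E with he
  have hz : (X : R[X]) • e y - PolynomialModule.map R (tau R E) (e y) = 0 := by
    have := congrArg e hy
    rw [map_zero] at this
    rw [← this]
    simp only [chi, LinearMap.sub_apply, LinearMap.smul_apply, LinearMap.id_apply, map_sub,
      map_smul]
    rw [equiv_baseChange_tau]
  have hcoef : ∀ n, (e y).coeff n = tau R E ((e y).coeff (n + 1)) := by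
    intro n
    have h1 : ((X : R[X]) • e y - PolynomialModule.map R (tau R E) (e y)).coeff (n + 1) =
        (0 : PolynomialModule R E).coeff (n + 1) :=
      congrArg (fun z => PolynomialModule.coeff z (n + 1)) hz
    have h2 : ((X : R[X]) • e y).coeff (n + 1) = (e y).coeff n := by
      rw [← Polynomial.monomial_one_one_eq_X, PolynomialModule.monomial_smul_apply]
      simp
    have h3 : ((X : R[X]) • e y - PolynomialModule.map R (tau R E) (e y)).coeff (n + 1) =
        ((X : R[X]) • e y).coeff (n + 1) -
          (PolynomialModule.map R (tau R E) (e y)).coeff (n + 1) := by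
      have := map_sub (PolynomialModule.coeffAddEquiv (R := R) (M := E)) ((X : R[X]) • e y)
        (PolynomialModule.map R (tau R E) (e y))
      simp only [PolynomialModule.coeffAddEquiv_apply] at this
      rw [this, Finsupp.sub_apply]
    rw [h3, h2, map_coeff] at h1
    have : (0 : PolynomialModule R E).coeff (n + 1) = 0 := by simp
    rw [this] at h1
    exact sub_eq_zero.mp h1
  have hzero : ∀ n, (e y).coeff n = 0 := by
    by_contra hne
    push_neg at hne
    obtain ⟨n, hn⟩ := hne
    -- take the largest index in the support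
    have hsupp : ((e y).coeff.support).Nonempty := ⟨n, Finsupp.mem_support_iff.mpr hn⟩
    set m := ((e y).coeff.support).max' hsupp with hm
    have hm_mem : m ∈ (e y).coeff.support := Finset.max'_mem _ _
    have hm1 : (e y).coeff (m + 1) = 0 := by
      by_contra h
      have := Finset.le_max' _ _ (Finsupp.mem_support_iff.mpr h)
      omega
    have := hcoef m
    rw [hm1, map_zero] at this
    exact (Finsupp.mem_support_iff.mp hm_mem) this
  have : e y = 0 := by
    apply PolynomialModule.coeff_injective
    ext n
    simpa using hzero n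
  exact e.injective (by rw [this, map_zero])

end CharSeq

section KerFree

variable [IsLocalRing R]
variable (V C : Type u) [AddCommGroup V] [Module R V] [Module.Finite R V] [Module.Free R V]
  [AddCommGroup C] [Module R C] [Module R[X] C] [IsScalarTower R R[X] C] [Module.Finite R C]
  [Module.Free R C]

theorem free_ker_of_finite_free (q : R[X] ⊗[R] V →ₗ[R[X]] C) (hq : Function.Surjective q) :
    Module.Free R[X] (LinearMap.ker q) := by
  -- constant part of `q`
  let φ₀ : V →ₗ[R] C := (q.restrictScalars R) ∘ₗ (TensorProduct.mk R R[X] V 1)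
  have hqφ : ∀ x, q x = eps R C (φ₀.baseChange R[X] x) := by
    intro x
    induction x using TensorProduct.induction_on with
    | zero => simp
    | tmul p v =>
      rw [LinearMap.baseChange_tmul, eps_tmul]
      have : p ⊗ₜ[R] v = p • ((1 : R[X]) ⊗ₜ[R] v) := by
        rw [TensorProduct.smul_tmul', smul_eq_mul, mul_one]
      rw [this, map_smul]
      rfl
    | add x y hx hy => rw [map_add, map_add, map_add, hx, hy]
  let α' : V × C →ₗ[R] C := φ₀.coprod (-(tau R C))
  let β' : V × C →ₗ[R] C := LinearMap.snd R V C
  have hinl : ∀ x, pencil α' β' ((LinearMap.inl R V C).baseChange R[X] x) =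
      φ₀.baseChange R[X] x := by
    intro x
    have h1 : α' ∘ₗ LinearMap.inl R V C = φ₀ := by ext; simp [α']
    have h2 : β' ∘ₗ LinearMap.inl R V C = 0 := by ext; simp [β']
    simp only [pencil, LinearMap.add_apply, LinearMap.smul_apply]
    rw [← LinearMap.comp_apply, ← LinearMap.comp_apply, ← LinearMap.baseChange_comp,
      ← LinearMap.baseChange_comp, h1, h2, LinearMap.baseChange_zero]
    simp
  have hinr : ∀ z, pencil α' β' ((LinearMap.inr R V C).baseChange R[X] z) = chi R C z := by
    intro z
    have h1 : α' ∘ₗ LinearMap.inr R V C = -(tau R C) := by ext; simp [α']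
    have h2 : β' ∘ₗ LinearMap.inr R V C = LinearMap.id := by ext; simp [β']
    simp only [pencil, LinearMap.add_apply, LinearMap.smul_apply]
    rw [← LinearMap.comp_apply, ← LinearMap.comp_apply, ← LinearMap.baseChange_comp,
      ← LinearMap.baseChange_comp, h1, h2, LinearMap.baseChange_id, LinearMap.baseChange_neg]
    simp only [chi, LinearMap.sub_apply, LinearMap.smul_apply, LinearMap.id_apply,
      LinearMap.neg_apply]
    abel
  have hdecomp : ∀ y : R[X] ⊗[R] (V × C),
      y = (LinearMap.inl R V C).baseChange R[X] ((LinearMap.fst R V C).baseChange R[X] y) +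
        (LinearMap.inr R V C).baseChange R[X] ((LinearMap.snd R V C).baseChange R[X] y) := by
    intro y
    have h : LinearMap.inl R V C ∘ₗ LinearMap.fst R V C +
        LinearMap.inr R V C ∘ₗ LinearMap.snd R V C = LinearMap.id := by
      ext <;> simp
    have := congrArg (fun f => (LinearMap.baseChange R[X] f) y) h
    simp only [LinearMap.baseChange_add, LinearMap.baseChange_comp, LinearMap.add_apply,
      LinearMap.comp_apply, LinearMap.baseChange_id, LinearMap.id_apply] at this
    exact this.symm
  have hfst_inl : ∀ x, (LinearMap.fst R V C).baseChange R[X]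
      ((LinearMap.inl R V C).baseChange R[X] x) = x := by
    intro x
    rw [← LinearMap.comp_apply, ← LinearMap.baseChange_comp, LinearMap.fst_comp_inl,
      LinearMap.baseChange_id, LinearMap.id_apply]
  have hfst_inr : ∀ z, (LinearMap.fst R V C).baseChange R[X]
      ((LinearMap.inr R V C).baseChange R[X] z) = 0 := by
    intro z
    rw [← LinearMap.comp_apply, ← LinearMap.baseChange_comp, LinearMap.fst_comp_inr,
      LinearMap.baseChange_zero, LinearMap.zero_apply]
  -- surjectivity of the pencil
  have hΨ : Function.Surjective (pencil α' β') := by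
    intro c'
    obtain ⟨x, hx⟩ := hq (eps R C c')
    have h1 : c' - φ₀.baseChange R[X] x ∈ LinearMap.ker (eps R C) := by
      rw [LinearMap.mem_ker, map_sub, ← hqφ, hx, sub_self]
    obtain ⟨z, hz⟩ := ker_eps_le R C h1
    refine ⟨(LinearMap.inl R V C).baseChange R[X] x + (LinearMap.inr R V C).baseChange R[X] z, ?_⟩
    rw [map_add, hinl, hinr, hz]
    abel
  have hβ' : Function.Surjective β' := fun c => ⟨(0, c), rfl⟩
  have hfree := free_ker_pencil (Module.finrank R C) (V × C) C α' β' rfl hβ' hΨ
  -- the comparison map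
  have hmem : ∀ y ∈ LinearMap.ker (pencil α' β'),
      (LinearMap.fst R V C).baseChange R[X] y ∈ LinearMap.ker q := by
    intro y hy
    rw [LinearMap.mem_ker] at hy ⊢
    rw [hqφ, ← hinl]
    have h1 := hdecomp y
    have h2 : pencil α' β' ((LinearMap.inl R V C).baseChange R[X]
        ((LinearMap.fst R V C).baseChange R[X] y)) =
        - chi R C ((LinearMap.snd R V C).baseChange R[X] y) := by
      have := congrArg (pencil α' β') h1
      rw [hy, map_add, hinr] at this
      exact eq_neg_of_add_eq_zero_left this.symm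
    rw [h2, map_neg, eps_chi, neg_zero]
  let θ : LinearMap.ker (pencil α' β') →ₗ[R[X]] LinearMap.ker q :=
    ((LinearMap.fst R V C).baseChange R[X] ∘ₗ (LinearMap.ker (pencil α' β')).subtype).codRestrict
      (LinearMap.ker q) (fun y => hmem y.1 y.2)
  have hθ_inj : Function.Injective θ := by
    rw [injective_iff_map_eq_zero]
    rintro ⟨y, hy⟩ h
    have h0 : (LinearMap.fst R V C).baseChange R[X] y = 0 := by
      have := congrArg Subtype.val h
      simpa [θ] using this
    rw [LinearMap.mem_ker] at hy
    have h1 := hdecomp y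
    rw [h0, map_zero, zero_add] at h1
    have h2 : chi R C ((LinearMap.snd R V C).baseChange R[X] y) = 0 := by
      rw [← hinr, ← h1, hy]
    have h3 := chi_injective R C (h2.trans (map_zero _).symm)
    apply Subtype.ext
    show y = 0
    rw [h1, h3, map_zero]
  have hθ_surj : Function.Surjective θ := by
    rintro ⟨x, hx⟩
    rw [LinearMap.mem_ker, hqφ] at hx
    obtain ⟨z, hz⟩ := ker_eps_le R C hx
    have hy : (LinearMap.inl R V C).baseChange R[X] x - (LinearMap.inr R V C).baseChange R[X] z ∈
        LinearMap.ker (pencil α' β') := by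
      rw [LinearMap.mem_ker, map_sub, hinl, hinr, hz, sub_self]
    refine ⟨⟨_, hy⟩, ?_⟩
    apply Subtype.ext
    simp only [θ, LinearMap.codRestrict_apply, LinearMap.comp_apply, Submodule.subtype_apply]
    rw [map_sub, hfst_inl, hfst_inr, sub_zero]
  exact Module.Free.of_equiv (LinearEquiv.ofBijective θ ⟨hθ_inj, hθ_surj⟩)

end KerFree

end Groth.Agent.Lib.R2H7.HorrLattice
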