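import Groth.Agent.Lib.R2H7HorrLattice

/-!
# Local Horrocks, lattice form (continued): freeness from an isogeny with a free module
-/

namespace Groth.Agent.Lib.R2H7.HorrLattice

open Polynomial TensorProduct IsLocalRing
open Groth.Agent.Lib.R2H7.HorrPencil

universe u

variable {R : Type u} [CommRing R]

section LemmaX

variable (P : Type u) [AddCommGroup P] [Module R[X] P]

theorem map_mem_of_mem_smul_top (I : Ideal R[X]) (f : P →ₗ[R[X]] R[X]) {x : P}
    (hx : x ∈ I • (⊤ : Submodule R[X] P)) : f x ∈ I := by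
  refine Submodule.smul_induction_on hx ?_ ?_
  · intro i hi y _
    rw [map_smul, smul_eq_mul]
    exact I.mul_mem_right _ hi
  · intro x y hx hy
    rw [map_add]
    exact I.add_mem hx hy

theorem map_mem_smul_top {Q : Type*} [AddCommGroup Q] [Module R[X] Q] (I : Ideal R[X])
    (f : P →ₗ[R[X]] Q) {x : P}
    (hx : x ∈ I • (⊤ : Submodule R[X] P)) : f x ∈ I • (⊤ : Submodule R[X] Q) := by
  refine Submodule.smul_induction_on hx ?_ ?_
  · intro i hi y _
    rw [map_smul]
    exact Submodule.smul_mem_smul hi Submodule.mem_top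
  · intro x y hx hy
    rw [map_add]
    exact add_mem hx hy

theorem mem_smul_top_of_monic_smul_mem [Module.Projective R[X] P] (J : Ideal R) (g : R[X])
    (hg : g.Monic) (p : P)
    (h : g • p ∈ (J.map (algebraMap R R[X])) • (⊤ : Submodule R[X] P)) :
    p ∈ (J.map (algebraMap R R[X])) • (⊤ : Submodule R[X] P) := by
  have hC : algebraMap R R[X] = (C : R →+* R[X]) := rfl
  rw [hC] at h ⊢
  obtain ⟨s, hs⟩ := (Module.projective_def' (R := R[X]) (P := P)).mp inferInstance
  have hcoord : ∀ j : P, (s p) j ∈ J.map (C : R →+* R[X]) := by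
    intro j
    apply mem_map_C_of_monic_mul_mem J g _ hg
    have := map_mem_of_mem_smul_top P _ ((Finsupp.lapply j) ∘ₗ s) h
    simpa using this
  have hp : p = Finsupp.linearCombination R[X] id (s p) := by
    have := LinearMap.congr_fun hs p
    simpa using this.symm
  rw [hp, Finsupp.linearCombination_apply]
  exact Submodule.sum_mem _ fun j _ => Submodule.smul_mem_smul (hcoord j) Submodule.mem_top

end LemmaX

section Construction

variable (V : Type u) [AddCommGroup V] [Module R V]
variable (P : Type u) [AddCommGroup P] [Module R P] [Module R[X] P] [IsScalarTower R R[X] P]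
variable (g : R[X]) (a : P →ₗ[R[X]] R[X] ⊗[R] V) (b : R[X] ⊗[R] V →ₗ[R[X]] P)

/-- `F / gF`. -/
abbrev NN : Type u :=
  (R[X] ⊗[R] V) ⧸ ((Ideal.span {g}) • (⊤ : Submodule R[X] (R[X] ⊗[R] V)))

/-- the quotient map `F → F / gF`. -/
noncomputable def rho : R[X] ⊗[R] V →ₗ[R[X]] NN V g := Submodule.mkQ _

theorem rho_surjective : Function.Surjective (rho V g) := Submodule.mkQ_surjective _

theorem rho_smul (x : R[X] ⊗[R] V) : rho V g (g • x) = 0 := by
  rw [rho, Submodule.mkQ_apply, Submodule.Quotient.mk_eq_zero]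
  exact Submodule.smul_mem_smul (Ideal.subset_span rfl) Submodule.mem_top

theorem exists_of_rho_eq_zero (x : R[X] ⊗[R] V) (hx : rho V g x = 0) : ∃ φ, x = g • φ := by
  rw [rho, Submodule.mkQ_apply, Submodule.Quotient.mk_eq_zero,
    Submodule.ideal_span_singleton_smul] at hx
  obtain ⟨φ, -, h⟩ := (Submodule.mem_smul_pointwise_iff_exists _ _ _).mp hx
  exact ⟨φ, h.symm⟩

/-- `N ≃ (R[X]/g) ⊗ V`. -/
noncomputable def equivNN : NN V g ≃ₗ[R] (R[X] ⧸ Ideal.span {g}) ⊗[R] V :=
  ((TensorProduct.quotTensorEquivQuotSMul (R[X] ⊗[R] V) (Ideal.span {g})).symm ≪≫ₗ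
    (TensorProduct.AlgebraTensorModule.cancelBaseChange R R[X] R[X]
      (R[X] ⧸ Ideal.span {g}) V)).restrictScalars R

theorem NN_free [Module.Free R V] (hg : g.Monic) : Module.Free R (NN V g) := by
  haveI := hg.free_quotient
  exact Module.Free.of_equiv (equivNN V g).symm

theorem NN_finite [Module.Finite R V] (hg : g.Monic) : Module.Finite R (NN V g) := by
  haveI := hg.finite_quotient
  exact Module.Finite.equiv (equivNN V g).symm

/-- `P / bF`. -/
abbrev PT : Type u := P ⧸ LinearMap.range b

theorem PT_finite [Module.Finite R[X] P] (hg : g.Monic) (hba : ∀ p, b (a p) = g • p) :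
    Module.Finite R (PT V P b) := by
  apply finite_of_monic_smul g hg
  intro m
  obtain ⟨p, rfl⟩ := Submodule.Quotient.mk_surjective _ m
  rw [← Submodule.Quotient.mk_smul, Submodule.Quotient.mk_eq_zero]
  exact ⟨a p, hba p⟩

/-- the map `P / bF → F / gF` induced by `a`. -/
noncomputable def abar (hab : ∀ x, a (b x) = g • x) : PT V P b →ₗ[R[X]] NN V g :=
  (LinearMap.range b).liftQ (rho V g ∘ₗ a) (by
    rintro _ ⟨x, rfl⟩
    rw [LinearMap.mem_ker, LinearMap.comp_apply, hab, rho_smul])

theorem abar_mk (hab : ∀ x, a (b x) = g • x) (p : P) :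
    abar V P g a b hab (Submodule.Quotient.mk p) = rho V g (a p) := rfl

/-- the cokernel. -/
abbrev CC (hab : ∀ x, a (b x) = g • x) : Type u :=
  NN V g ⧸ LinearMap.range (abar V P g a b hab)

theorem smulTop_restrictScalars {Q : Type*} [AddCommGroup Q] [Module R Q] [Module R[X] Q]
    [IsScalarTower R R[X] Q] (J : Ideal R) (x : Q) :
    x ∈ (J • (⊤ : Submodule R Q)) ↔
      x ∈ (J.map (algebraMap R R[X])) • (⊤ : Submodule R[X] Q) := by
  have := Ideal.smul_restrictScalars (R := R) (S := R[X]) (M := Q) J ⊤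
  rw [Submodule.restrictScalars_top] at this
  rw [← this]
  rfl

theorem abar_lTensor_injective [IsLocalRing R] [Module.Projective R[X] P] (hg : g.Monic)
    (hab : ∀ x, a (b x) = g • x) (hba : ∀ p, b (a p) = g • p) :
    Function.Injective (((abar V P g a b hab).restrictScalars R).lTensor (ResidueField R)) := by
  rw [injective_iff_map_eq_zero]
  intro z hz
  obtain ⟨pt, rfl⟩ := TensorProduct.mk_surjective R (PT V P b) (ResidueField R)
    Ideal.Quotient.mk_surjective z
  obtain ⟨p, rfl⟩ := Submodule.Quotient.mk_surjective _ pt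
  rw [TensorProduct.mk_apply, LinearMap.lTensor_tmul] at hz
  have h1 : rho V g (a p) ∈ (maximalIdeal R • ⊤ : Submodule R (NN V g)) := by
    have h0 : rho V g (a p) ∈
        LinearMap.ker (TensorProduct.mk R (R ⧸ maximalIdeal R) (NN V g) 1) := hz
    rwa [LinearMap.ker_tensorProductMk] at h0
  -- lift to `F`
  have h2 : (maximalIdeal R • ⊤ : Submodule R (NN V g)) =
      (maximalIdeal R • ⊤ : Submodule R (R[X] ⊗[R] V)).map ((rho V g).restrictScalars R) := by
    rw [Submodule.map_smul'', Submodule.map_top, LinearMap.range_eq_top.mpr]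
    exact rho_surjective V g
  rw [h2] at h1
  obtain ⟨μ, hμ, hμ'⟩ := h1
  have h3 : rho V g (a p - μ) = 0 := by
    rw [map_sub]
    have : rho V g μ = rho V g (a p) := hμ'
    rw [this, sub_self]
  obtain ⟨φ, hφ⟩ := exists_of_rho_eq_zero V g _ h3
  -- `a (p - b φ) = μ`
  have h4 : a (p - b φ) = μ := by
    rw [map_sub, hab, ← hφ]
    abel
  have h5 : g • (p - b φ) ∈
      (maximalIdeal R).map (algebraMap R R[X]) • (⊤ : Submodule R[X] P) := by
    rw [← hba, h4]
    exact map_mem_smul_top _ _ b ((smulTop_restrictScalars _ _).mp hμ)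
  have h6 := mem_smul_top_of_monic_smul_mem P (maximalIdeal R) g hg _ h5
  rw [← smulTop_restrictScalars] at h6
  -- conclude
  have h7 : (Submodule.Quotient.mk p : PT V P b) = Submodule.Quotient.mk (p - b φ) := by
    rw [Submodule.Quotient.eq]
    exact ⟨φ, by abel⟩
  rw [TensorProduct.mk_apply, h7]
  have h8 : (Submodule.Quotient.mk (p - b φ) : PT V P b) ∈
      (maximalIdeal R • ⊤ : Submodule R (PT V P b)) := by
    have : (maximalIdeal R • ⊤ : Submodule R P).map
        ((LinearMap.range b).mkQ.restrictScalars R) ≤ maximalIdeal R • ⊤ := by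
      rw [Submodule.map_smul'']
      exact Submodule.smul_mono le_rfl le_top
    exact this (Submodule.mem_map_of_mem h6)
  have h9 : (Submodule.Quotient.mk (p - b φ) : PT V P b) ∈
      LinearMap.ker (TensorProduct.mk R (R ⧸ maximalIdeal R) (PT V P b) 1) := by
    rw [LinearMap.ker_tensorProductMk]
    exact h8
  exact h9

theorem CC_free [IsLocalRing R] [Module.Finite R V] [Module.Free R V] [Module.Finite R[X] P]
    [Module.Projective R[X] P] (hg : g.Monic)
    (hab : ∀ x, a (b x) = g • x) (hba : ∀ p, b (a p) = g • p) :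
    Module.Free R (CC V P g a b hab) := by
  haveI := NN_free V g hg
  haveI := NN_finite V g hg
  haveI := PT_finite V P g a b hg hba
  exact Module.free_of_lTensor_residueField_injective
    ((abar V P g a b hab).restrictScalars R)
    ((LinearMap.range (abar V P g a b hab)).mkQ.restrictScalars R)
    (Submodule.mkQ_surjective _)
    (fun y => LinearMap.exact_map_mkQ_range (abar V P g a b hab) y)
    (abar_lTensor_injective V P g a b hg hab hba)

/-- `F → C`. -/
noncomputable def qq (hab : ∀ x, a (b x) = g • x) : R[X] ⊗[R] V →ₗ[R[X]] CC V P g a b hab :=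
  (LinearMap.range (abar V P g a b hab)).mkQ ∘ₗ rho V g

theorem qq_surjective (hab : ∀ x, a (b x) = g • x) : Function.Surjective (qq V P g a b hab) :=
  (Submodule.mkQ_surjective _).comp (rho_surjective V g)

theorem ker_qq (hab : ∀ x, a (b x) = g • x) :
    LinearMap.ker (qq V P g a b hab) = LinearMap.range a := by
  apply le_antisymm
  · intro x hx
    rw [LinearMap.mem_ker, qq, LinearMap.comp_apply, Submodule.mkQ_apply,
      Submodule.Quotient.mk_eq_zero] at hx
    obtain ⟨pt, hpt⟩ := hx
    obtain ⟨p, rfl⟩ := Submodule.Quotient.mk_surjective _ pt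
    rw [abar_mk] at hpt
    have h3 : rho V g (x - a p) = 0 := by rw [map_sub, hpt, sub_self]
    obtain ⟨φ, hφ⟩ := exists_of_rho_eq_zero V g _ h3
    refine ⟨p + b φ, ?_⟩
    rw [map_add, hab, ← hφ]
    abel
  · rintro _ ⟨p, rfl⟩
    rw [LinearMap.mem_ker, qq, LinearMap.comp_apply, Submodule.mkQ_apply,
      Submodule.Quotient.mk_eq_zero]
    exact ⟨Submodule.Quotient.mk p, rfl⟩

theorem free_of_isogeny [IsLocalRing R] [Module.Finite R V] [Module.Free R V]
    [Module.Finite R[X] P] [Module.Projective R[X] P] (hg : g.Monic)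
    (hab : ∀ x, a (b x) = g • x) (hba : ∀ p, b (a p) = g • p) : Module.Free R[X] P := by
  have hreg : IsSMulRegular P g := Module.Flat.isSMulRegular_of_isRegular hg.isRegular
  have ha_inj : Function.Injective a := by
    intro p p' h
    apply hreg
    show g • p = g • p'
    rw [← hba, ← hba, h]
  haveI := CC_free V P g a b hg hab hba
  haveI := NN_finite V g hg
  haveI : Module.Finite R (CC V P g a b hab) :=
    Module.Finite.of_surjective
      ((LinearMap.range (abar V P g a b hab)).mkQ.restrictScalars R) (Submodule.mkQ_surjective _)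
  haveI := free_ker_of_finite_free V (CC V P g a b hab) (qq V P g a b hab)
    (qq_surjective V P g a b hab)
  exact Module.Free.of_equiv
    ((LinearEquiv.ofInjective a ha_inj).trans
      (LinearEquiv.ofEq _ _ (ker_qq V P g a b hab).symm)).symm

end Construction

end Groth.Agent.Lib.R2H7.HorrLattice
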