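import Groth.Agent.Lib.R2H7HorrLattice2

/-!
# Local Horrocks in matrix form

For a local ring `A` and "`ℙ¹`-gluing data" in matrix form (idempotents `eM`, `eN` over `A[X]`
whose images over `A[T;T⁻¹]` are Murray–von Neumann equivalent after the substitution `X ↦ T⁻¹`
on the second), the image of `eM` is a free module.
-/

namespace Groth.Agent.Lib.R2H7.HorrLocal

open Polynomial LaurentPolynomial TensorProduct IsLocalRing
open Groth.Agent.Lib.R2H7.HorrLattice

universe u

section Dict

variable {S : Type*} [CommRing S] {n : ℕ}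

theorem map_smul_ringHom {α β m n : Type*} [Semiring α] [Semiring β] (f : α →+* β) (r : α)
    (M : Matrix m n α) : (r • M).map f = f r • M.map f := by
  ext i j
  simp

theorem toLin'_apply_of_mem (e : Matrix (Fin n) (Fin n) S) (he : e * e = e) {q : Fin n → S}
    (hq : q ∈ LinearMap.range (Matrix.toLin' e)) : Matrix.toLin' e q = q := by
  obtain ⟨z, rfl⟩ := hq
  rw [← Matrix.toLin'_mul_apply, he]

theorem exists_factor_of_free_range (e : Matrix (Fin n) (Fin n) S) (he : e * e = e)
    [Module.Free S (LinearMap.range (Matrix.toLin' e))] :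
    ∃ (r : ℕ) (U : Matrix (Fin n) (Fin r) S) (V : Matrix (Fin r) (Fin n) S),
      U * V = e ∧ V * U = 1 := by
  rcases subsingleton_or_nontrivial S with hS | hS
  · exact ⟨0, 0, 0, Subsingleton.elim _ _, Subsingleton.elim _ _⟩
  haveI : Module.Finite S (LinearMap.range (Matrix.toLin' e)) := Module.Finite.range _
  let bs := Module.finBasis S (LinearMap.range (Matrix.toLin' e))
  let u : (Fin (Module.finrank S (LinearMap.range (Matrix.toLin' e))) → S) →ₗ[S] (Fin n → S) :=
    (LinearMap.range (Matrix.toLin' e)).subtype ∘ₗ bs.equivFun.symm.toLinearMap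
  let v : (Fin n → S) →ₗ[S] (Fin (Module.finrank S (LinearMap.range (Matrix.toLin' e))) → S) :=
    bs.equivFun.toLinearMap ∘ₗ (Matrix.toLin' e).rangeRestrict
  have huv : u ∘ₗ v = Matrix.toLin' e := by
    apply LinearMap.ext
    intro x
    simp [u, v]
  have hvu : v ∘ₗ u = LinearMap.id := by
    apply LinearMap.ext
    intro y
    have h1 : (Matrix.toLin' e).rangeRestrict (u y) = bs.equivFun.symm y := by
      apply Subtype.ext
      have : u y ∈ LinearMap.range (Matrix.toLin' e) := (bs.equivFun.symm y).2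
      exact toLin'_apply_of_mem e he this
    simp only [LinearMap.comp_apply, LinearMap.id_apply]
    show bs.equivFun ((Matrix.toLin' e).rangeRestrict (u y)) = y
    rw [h1, LinearEquiv.apply_symm_apply]
  refine ⟨_, LinearMap.toMatrix' u, LinearMap.toMatrix' v, ?_, ?_⟩
  · rw [← LinearMap.toMatrix'_comp, huv, LinearMap.toMatrix'_toLin']
  · rw [← LinearMap.toMatrix'_comp, hvu, LinearMap.toMatrix'_id]

theorem projective_range (e : Matrix (Fin n) (Fin n) S) (he : e * e = e) :
    Module.Projective S (LinearMap.range (Matrix.toLin' e)) :=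
  Module.Projective.of_split (LinearMap.range (Matrix.toLin' e)).subtype
    (Matrix.toLin' e).rangeRestrict (by
      apply LinearMap.ext
      rintro ⟨q, hq⟩
      apply Subtype.ext
      exact toLin'_apply_of_mem e he hq)

end Dict

section BLocal

variable {A : Type u} [CommRing A]

/-- polynomials with constant coefficient `1`. -/
noncomputable def S1 (A : Type u) [CommRing A] : Submonoid A[X] :=
  Submonoid.comap (constantCoeff : A[X] →+* A) ⊥

theorem mem_S1 {h : A[X]} : h ∈ S1 A ↔ h.coeff 0 = 1 := by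
  simp [S1, Submonoid.mem_comap, Submonoid.mem_bot]

theorem S1_le : S1 A ≤ nonZeroDivisors A[X] := by
  intro h hh
  rw [mem_S1] at hh
  rw [mem_nonZeroDivisors_iff_right]
  intro x hx
  have h1 : (x : PowerSeries A) * (h : PowerSeries A) = 0 := by
    rw [← Polynomial.coe_mul, hx, Polynomial.coe_zero]
  have h2 : IsUnit (h : PowerSeries A) := by
    rw [PowerSeries.isUnit_iff_constantCoeff]
    simp [hh]
  have h3 : (x : PowerSeries A) = 0 := by
    obtain ⟨u, hu⟩ := h2
    rw [← hu] at h1
    exact (Units.mul_left_eq_zero u).mp h1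
  exact_mod_cast h3

variable (B : Type u) [CommRing B] [Algebra A[X] B] [IsLocalization (S1 A) B]

/-- evaluation at `0` on the localization. -/
noncomputable def evB : B →+* A :=
  IsLocalization.lift (M := S1 A) (g := (constantCoeff : A[X] →+* A)) (fun y => by
    have := mem_S1.mp y.2
    rw [constantCoeff_apply, this]
    exact isUnit_one)

theorem evB_algebraMap (p : A[X]) :
    evB B (algebraMap A[X] B p) = p.coeff 0 := by
  simp [evB]

theorem isLocalHom_evB : IsLocalHom (evB (A := A) B) := ⟨fun x hx => by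
  obtain ⟨p, s, rfl⟩ := IsLocalization.exists_mk'_eq (S1 A) x
  have h1 : evB (A := A) B (IsLocalization.mk' B p s) *
      evB (A := A) B (algebraMap A[X] B (s : A[X])) =
      evB (A := A) B (algebraMap A[X] B p) := by
    rw [← map_mul, IsLocalization.mk'_spec B p s]
  rw [evB_algebraMap, evB_algebraMap, mem_S1.mp s.2, mul_one] at h1
  rw [h1] at hx
  obtain ⟨u, hu⟩ := hx
  have hmem : Polynomial.C (↑u⁻¹ : A) * p ∈ S1 A := by
    rw [mem_S1, coeff_C_mul, ← hu]
    simp
  have h2 : IsUnit (algebraMap A[X] B (Polynomial.C (↑u⁻¹ : A) * p)) :=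
    IsLocalization.map_units _ (⟨_, hmem⟩ : S1 A)
  rw [map_mul] at h2
  have h3 : IsUnit (algebraMap A[X] B p) := isUnit_of_mul_isUnit_right h2
  have h4 : IsUnit (IsLocalization.mk' B p s *
      algebraMap A[X] B (s : A[X])) := by
    rw [IsLocalization.mk'_spec B p s]
    exact h3
  exact isUnit_of_mul_isUnit_left h4⟩

theorem isLocalRing_B [IsLocalRing A] : IsLocalRing B :=
  haveI := isLocalHom_evB (A := A) B
  RingHom.domain_isLocalRing (evB (A := A) B)

theorem algebraMap_B_injective :
    Function.Injective (algebraMap A[X] B) :=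
  IsLocalization.injective B (S1_le (A := A))

theorem exists_isogeny_of_idempotent_aux (B : Type u) [CommRing B] [Algebra A[X] B]
    [IsLocalization (S1 A) B] [IsLocalRing A] {n : ℕ}
    (e : Matrix (Fin n) (Fin n) A[X]) (he : e * e = e) :
    ∃ (r : ℕ) (h : A[X]) (c : Matrix (Fin r) (Fin n) A[X]) (d : Matrix (Fin n) (Fin r) A[X]),
      h.coeff 0 = 1 ∧ c * d = h • (1 : Matrix (Fin r) (Fin r) A[X]) ∧ d * c = h • e ∧
        e * d = d := by
  haveI := isLocalRing_B (A := A) B
  let φ : A[X] →+* B := algebraMap A[X] B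
  have hφ : Function.Injective φ := algebraMap_B_injective B
  have heB : e.map φ * e.map φ = e.map φ := by rw [← Matrix.map_mul, he]
  haveI : Module.Finite B (LinearMap.range (Matrix.toLin' (e.map φ))) :=
    Module.Finite.range _
  haveI := projective_range (e.map φ) heB
  haveI : Module.Free B (LinearMap.range (Matrix.toLin' (e.map φ))) :=
    Module.free_of_flat_of_isLocalRing
  obtain ⟨r, U', V', hUV, hVU⟩ := exists_factor_of_free_range (e.map φ) heB
  obtain ⟨s₁, hs₁⟩ := IsLocalization.exist_integer_multiples_of_finite (S1 A)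
    (fun ij : Fin n × Fin r => U' ij.1 ij.2)
  obtain ⟨s₂, hs₂⟩ := IsLocalization.exist_integer_multiples_of_finite (S1 A)
    (fun ij : Fin r × Fin n => V' ij.1 ij.2)
  choose d hd using hs₁
  choose c hc using hs₂
  have hdm : (Matrix.of fun i j => d (i, j)).map φ = φ s₁ • U' := by
    ext i j
    simp only [Matrix.map_apply, Matrix.of_apply, Matrix.smul_apply, smul_eq_mul]
    rw [show φ (d (i, j)) = _ from hd (i, j), Algebra.smul_def]
  have hcm : (Matrix.of fun i j => c (i, j)).map φ = φ s₂ • V' := by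
    ext i j
    simp only [Matrix.map_apply, Matrix.of_apply, Matrix.smul_apply, smul_eq_mul]
    rw [show φ (c (i, j)) = _ from hc (i, j), Algebra.smul_def]
  have hinj : ∀ {m m' : Type} (M N : Matrix m m' A[X]), M.map φ = N.map φ → M = N :=
    fun M N h => Matrix.map_injective hφ h
  refine ⟨r, (s₂ : A[X]) * (s₁ : A[X]), Matrix.of fun i j => c (i, j),
    Matrix.of fun i j => d (i, j), ?_, ?_, ?_, ?_⟩
  · exact mem_S1.mp (mul_mem s₂.2 s₁.2)
  · apply hinj
    rw [Matrix.map_mul, hcm, hdm, map_smul_ringHom, Matrix.smul_mul, Matrix.mul_smul, hVU,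
      smul_smul, map_mul, Matrix.map_one _ (map_zero φ) (map_one φ)]
  · apply hinj
    rw [Matrix.map_mul, hcm, hdm, map_smul_ringHom, Matrix.smul_mul, Matrix.mul_smul, hUV,
      smul_smul, map_mul, mul_comm]
  · apply hinj
    rw [Matrix.map_mul, hdm, Matrix.mul_smul, ← hUV, Matrix.mul_assoc, hVU, Matrix.mul_one]

/-- From an idempotent over `A[X]`, `A` local: an isogeny with a free module, with "denominator"
of constant coefficient one. -/
theorem exists_isogeny_of_idempotent [IsLocalRing A] {n : ℕ}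
    (e : Matrix (Fin n) (Fin n) A[X]) (he : e * e = e) :
    ∃ (r : ℕ) (h : A[X]) (c : Matrix (Fin r) (Fin n) A[X]) (d : Matrix (Fin n) (Fin r) A[X]),
      h.coeff 0 = 1 ∧ c * d = h • (1 : Matrix (Fin r) (Fin r) A[X]) ∧ d * c = h • e ∧
        e * d = d :=
  exists_isogeny_of_idempotent_aux (Localization (S1 A)) e he

end BLocal

section Laurent

variable {A : Type u} [CommRing A]

/-- `X ↦ T⁻¹`. -/
noncomputable def tL' (A : Type u) [CommRing A] : A[X] →+* A[T;T⁻¹] :=
  ((invert (R := A)).toRingEquiv.toRingHom).comp (toLaurent (R := A))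

theorem tL'_apply (p : A[X]) : tL' A p = invert (toLaurent p) := rfl

theorem exists_T_pow_matrix {m n : Type*} [Fintype m] [Fintype n]
    (M : Matrix m n A[T;T⁻¹]) :
    ∃ (k : ℕ) (M' : Matrix m n A[X]),
      M'.map (toLaurent (R := A)) = (T (k : ℤ) : A[T;T⁻¹]) • M := by
  choose k p hp using fun ij : m × n => LaurentPolynomial.exists_T_pow (M ij.1 ij.2)
  obtain ⟨K, hK⟩ : ∃ K : ℕ, K = ∑ ij, k ij := ⟨_, rfl⟩
  refine ⟨K, fun i j => p (i, j) * X ^ (K - k (i, j)), ?_⟩
  ext i j
  have hle : k (i, j) ≤ K := by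
    rw [hK]
    exact Finset.single_le_sum (fun _ _ => Nat.zero_le _) (Finset.mem_univ _)
  have hcast : ((k (i, j) : ℕ) : ℤ) + ((K - k (i, j) : ℕ) : ℤ) = (K : ℤ) := by omega
  simp only [Matrix.map_apply, map_mul, hp, Polynomial.toLaurent_X_pow, Matrix.smul_apply,
    smul_eq_mul]
  rw [mul_assoc, ← T_add, hcast, mul_comm]

theorem tL'_eq_reverse (h : A[X]) :
    tL' A h = toLaurent h.reverse * T (-(h.natDegree : ℤ)) := by
  rw [toLaurent_reverse, mul_assoc, ← T_add, add_neg_cancel, T_zero, mul_one, tL'_apply]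

theorem reverse_monic_of_coeff_zero [Nontrivial A] (h : A[X]) (hh : h.coeff 0 = 1) :
    h.reverse.Monic := by
  rw [Polynomial.Monic, reverse_leadingCoeff, Polynomial.trailingCoeff,
    natTrailingDegree_eq_zero_of_constantCoeff_ne_zero, hh]
  rw [constantCoeff_apply, hh]
  exact one_ne_zero

theorem exists_monic_isogeny [Nontrivial A] {n r : ℕ}
    (eM eN : Matrix (Fin n) (Fin n) A[X]) (heM : eM * eM = eM)
    (G H : Matrix (Fin n) (Fin n) A[T;T⁻¹])
    (hHG : H * G = eM.map (toLaurent (R := A))) (hGH : G * H = eN.map (tL' A))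
    (h : A[X]) (hh : h.coeff 0 = 1) (c : Matrix (Fin r) (Fin n) A[X])
    (d : Matrix (Fin n) (Fin r) A[X])
    (hcd : c * d = h • (1 : Matrix (Fin r) (Fin r) A[X])) (hdc : d * c = h • eN)
    (hed : eN * d = d) :
    ∃ (g : A[X]) (a : Matrix (Fin r) (Fin n) A[X]) (b : Matrix (Fin n) (Fin r) A[X]),
      g.Monic ∧ a * b = g • (1 : Matrix (Fin r) (Fin r) A[X]) ∧ b * a = g • eM ∧ eM * b = b := by
  -- Laurent-level maps
  set aL : Matrix (Fin r) (Fin n) A[T;T⁻¹] := c.map (tL' A) * G with haL
  set bL : Matrix (Fin n) (Fin r) A[T;T⁻¹] := H * d.map (tL' A) with hbL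
  have h1 : aL * bL = tL' A h • (1 : Matrix (Fin r) (Fin r) A[T;T⁻¹]) := by
    rw [haL, hbL, Matrix.mul_assoc, ← Matrix.mul_assoc G, hGH, ← Matrix.map_mul, hed,
      ← Matrix.map_mul, hcd, map_smul_ringHom, Matrix.map_one _ (map_zero _) (map_one _)]
  have h2 : bL * aL = tL' A h • eM.map (toLaurent (R := A)) := by
    rw [haL, hbL, Matrix.mul_assoc, ← Matrix.mul_assoc (d.map (tL' A)), ← Matrix.map_mul, hdc,
      map_smul_ringHom, Matrix.smul_mul, Matrix.mul_smul, ← hGH, Matrix.mul_assoc G,
      ← Matrix.mul_assoc H, hHG, ← Matrix.map_mul, heM]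
  have h3 : eM.map (toLaurent (R := A)) * bL = bL := by
    rw [hbL, ← hHG, Matrix.mul_assoc H, ← Matrix.mul_assoc G, hGH, ← Matrix.map_mul, hed]
  obtain ⟨K₁, a₀, ha₀⟩ := exists_T_pow_matrix aL
  obtain ⟨K₂, b, hb⟩ := exists_T_pow_matrix bL
  have hinj : ∀ {m m' : Type} (M N : Matrix m m' A[X]),
      M.map (toLaurent (R := A)) = N.map (toLaurent (R := A)) → M = N :=
    fun M N h => Matrix.map_injective Polynomial.toLaurent_injective h
  have hmonic : (h.reverse * X ^ (K₁ + K₂)).Monic :=
    (reverse_monic_of_coeff_zero h hh).mul (monic_X_pow _)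
  have hkey : (T ((K₁ : ℤ)) * T (h.natDegree : ℤ) * T (K₂ : ℤ) : A[T;T⁻¹]) * tL' A h =
      toLaurent (h.reverse * X ^ (K₁ + K₂)) := by
    rw [tL'_eq_reverse, map_mul, Polynomial.toLaurent_X_pow, ← T_add, ← T_add]
    rw [mul_comm, mul_assoc, ← T_add]
    congr 2
    push_cast
    ring
  have ha : ((X ^ h.natDegree : A[X]) • a₀).map (toLaurent (R := A)) =
      ((T (K₁ : ℤ) * T (h.natDegree : ℤ) : A[T;T⁻¹])) • aL := by
    rw [map_smul_ringHom, ha₀, smul_smul, Polynomial.toLaurent_X_pow, mul_comm]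
  refine ⟨h.reverse * X ^ (K₁ + K₂), (X ^ h.natDegree : A[X]) • a₀, b, hmonic, ?_, ?_, ?_⟩
  · apply hinj
    rw [Matrix.map_mul, ha, hb, Matrix.smul_mul, Matrix.mul_smul, smul_smul, h1, smul_smul,
      map_smul_ringHom, Matrix.map_one _ (map_zero _) (map_one _), ← hkey]
  · apply hinj
    rw [Matrix.map_mul, ha, hb, Matrix.smul_mul, Matrix.mul_smul, smul_smul, h2, smul_smul,
      map_smul_ringHom, ← hkey]
    congr 1
    ring
  · apply hinj
    rw [Matrix.map_mul, hb, Matrix.mul_smul, h3]

end Laurent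

section Assemble

variable {A : Type u} [CommRing A] [IsLocalRing A]

theorem free_range_of_monic_isogeny {n r : ℕ} (eM : Matrix (Fin n) (Fin n) A[X])
    (heM : eM * eM = eM) (g : A[X]) (a : Matrix (Fin r) (Fin n) A[X])
    (b : Matrix (Fin n) (Fin r) A[X]) (hg : g.Monic)
    (hab : a * b = g • (1 : Matrix (Fin r) (Fin r) A[X])) (hba : b * a = g • eM)
    (heb : eM * b = b) : Module.Free A[X] (LinearMap.range (Matrix.toLin' eM)) := by
  haveI : Module.Finite A[X] (LinearMap.range (Matrix.toLin' eM)) := Module.Finite.range _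
  haveI := projective_range eM heM
  let ψ := TensorProduct.piScalarRight A A[X] A[X] (Fin r)
  let a' : LinearMap.range (Matrix.toLin' eM) →ₗ[A[X]] A[X] ⊗[A] (Fin r → A) :=
    ψ.symm.toLinearMap ∘ₗ Matrix.toLin' a ∘ₗ (LinearMap.range (Matrix.toLin' eM)).subtype
  let b' : A[X] ⊗[A] (Fin r → A) →ₗ[A[X]] LinearMap.range (Matrix.toLin' eM) :=
    (Matrix.toLin' b ∘ₗ ψ.toLinearMap).codRestrict (LinearMap.range (Matrix.toLin' eM)) (by
      intro x
      refine ⟨Matrix.toLin' b (ψ x), ?_⟩
      rw [← Matrix.toLin'_mul_apply, heb]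
      rfl)
  apply free_of_isogeny (Fin r → A) (LinearMap.range (Matrix.toLin' eM)) g a' b' hg
  · intro x
    simp only [a', b', LinearMap.comp_apply, LinearMap.codRestrict_apply, Submodule.subtype_apply,
      LinearEquiv.coe_coe]
    rw [← Matrix.toLin'_mul_apply, hab]
    simp
  · rintro ⟨p, hp⟩
    apply Subtype.ext
    simp only [a', b', LinearMap.comp_apply, LinearMap.codRestrict_apply, Submodule.subtype_apply,
      LinearEquiv.coe_coe, LinearEquiv.apply_symm_apply]
    rw [← Matrix.toLin'_mul_apply, hba]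
    simp only [map_smul, LinearMap.smul_apply, Submodule.coe_smul]
    rw [toLin'_apply_of_mem eM heM hp]

/-- **Local Horrocks, matrix form.** -/
theorem local_horrocks_matrix {n : ℕ} (eM eN : Matrix (Fin n) (Fin n) A[X])
    (heM : eM * eM = eM) (heN : eN * eN = eN) (G H : Matrix (Fin n) (Fin n) A[T;T⁻¹])
    (hHG : H * G = eM.map (toLaurent (R := A))) (hGH : G * H = eN.map (tL' A)) :
    ∃ (r : ℕ) (U : Matrix (Fin n) (Fin r) A[X]) (V : Matrix (Fin r) (Fin n) A[X]),
      U * V = eM ∧ V * U = 1 := by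
  obtain ⟨r, h, c, d, hh, hcd, hdc, hed⟩ := exists_isogeny_of_idempotent eN heN
  obtain ⟨g, a, b, hg, hab, hba, heb⟩ :=
    exists_monic_isogeny eM eN heM G H hHG hGH h hh c d hcd hdc hed
  haveI := free_range_of_monic_isogeny eM heM g a b hg hab hba heb
  exact exists_factor_of_free_range eM heM

end Assemble

end Groth.Agent.Lib.R2H7.HorrLocal
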