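import Groth.Agent.Lib.R2H7HorrDict

/-!
# The global Horrocks theorem (Quillen's affine form)

A finitely generated projective `A[t]`-module is extended from `A` iff it extends to a vector
bundle on `ℙ¹_A`.
-/

namespace Groth.Agent.Lib.R2H7.HorrMain

open Polynomial LaurentPolynomial TensorProduct Matrix
open Groth.Agent.Lib.R2H7.HorrLocal Groth.Agent.Lib.R2H7.HorrPatch
open Groth.Agent.Lib.R2H7.HorrDict

universe u

section Forward

variable (A : Type u) [CommRing A]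

instance isScalarTower_laurent : IsScalarTower A A[X] A[T;T⁻¹] :=
  IsScalarTower.of_algebraMap_eq fun a => by
    rw [← LaurentPolynomial.C_eq_algebraMap, ← Polynomial.C_eq_algebraMap,
      LaurentPolynomial.algebraMap_eq_toLaurent, Polynomial.toLaurent_C]

variable (P : Type*) [AddCommGroup P] [Module A P]

/-- `invert ⊗ id` on `A[T;T⁻¹] ⊗ P`. -/
noncomputable def invTensor : (A[T;T⁻¹] ⊗[A] P) ≃ₗ[A] (A[T;T⁻¹] ⊗[A] P) :=
  TensorProduct.congr (LaurentPolynomial.invert (R := A)).toLinearEquiv (LinearEquiv.refl A P)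

theorem invTensor_tmul (a : A[T;T⁻¹]) (p : P) :
    invTensor A P (a ⊗ₜ p) = (invert a) ⊗ₜ p := rfl

theorem invTensor_smul (ℓ : A[T;T⁻¹]) (x : A[T;T⁻¹] ⊗[A] P) :
    invTensor A P (ℓ • x) = (invert ℓ) • invTensor A P x := by
  induction x using TensorProduct.induction_on with
  | zero => simp
  | tmul a p =>
    rw [TensorProduct.smul_tmul', invTensor_tmul, invTensor_tmul, TensorProduct.smul_tmul',
      smul_eq_mul, smul_eq_mul, map_mul]
  | add x y hx hy => rw [smul_add, map_add, hx, hy, map_add, smul_add]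

theorem extended_imp (M : Type*) [AddCommGroup M] [Module A[X] M]
    (φ : M ≃ₗ[A[X]] (A[X] ⊗[A] P)) :
    ∃ e : (A[T;T⁻¹] ⊗[A[X]] M) →ₛₗ[(LaurentPolynomial.invert (R := A)).toRingEquiv.toRingHom]
      (A[T;T⁻¹] ⊗[A[X]] M), Function.Bijective e := by
  let ψ : A[T;T⁻¹] ⊗[A[X]] M ≃ₗ[A[T;T⁻¹]] A[T;T⁻¹] ⊗[A] P :=
    (TensorProduct.AlgebraTensorModule.congr (LinearEquiv.refl A[T;T⁻¹] A[T;T⁻¹]) φ) ≪≫ₗ
      (TensorProduct.AlgebraTensorModule.cancelBaseChange A A[X] A[T;T⁻¹] A[T;T⁻¹] P)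
  refine ⟨{ toFun := fun x => ψ.symm (invTensor A P (ψ x))
            map_add' := fun x y => by rw [map_add, map_add, map_add]
            map_smul' := fun ℓ x => ?_ }, ?_⟩
  · show ψ.symm (invTensor A P (ψ (ℓ • x))) = (invert ℓ) • ψ.symm (invTensor A P (ψ x))
    rw [map_smul, invTensor_smul, map_smul]
  · exact ψ.symm.bijective.comp ((invTensor A P).bijective.comp ψ.bijective)

end Forward

section Main

variable (A : Type u) [CommRing A]

theorem toMatrix'_idem {R : Type*} [CommRing R] {K : Type*} [AddCommGroup K] [Module R K] {n : ℕ}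
    (f : (Fin n → R) →ₗ[R] K) (g : K →ₗ[R] (Fin n → R)) (h : f ∘ₗ g = LinearMap.id) :
    LinearMap.toMatrix' (g ∘ₗ f) * LinearMap.toMatrix' (g ∘ₗ f) = LinearMap.toMatrix' (g ∘ₗ f) := by
  rw [← LinearMap.toMatrix'_comp, LinearMap.comp_assoc, ← LinearMap.comp_assoc f g f, h,
    LinearMap.id_comp]

/-- **Global Horrocks theorem** (affine form, Quillen). -/
theorem horrocks_iff (M : Type u) [AddCommGroup M] [Module A[X] M]
    [Module.Finite A[X] M] [Module.Projective A[X] M] :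
    (∃ (P : Type u) (_ : AddCommGroup P) (_ : Module A P),
        Nonempty (M ≃ₗ[A[X]] (A[X] ⊗[A] P))) ↔
      ∃ (N : Type u) (_ : AddCommGroup N) (_ : Module A[X] N),
        Module.Finite A[X] N ∧ Module.Projective A[X] N ∧
        ∃ e : (A[T;T⁻¹] ⊗[A[X]] M) →ₛₗ[(LaurentPolynomial.invert (R := A)).toRingEquiv.toRingHom]
            (A[T;T⁻¹] ⊗[A[X]] N), Function.Bijective e := by
  constructor
  · rintro ⟨P, _, _, ⟨φ⟩⟩
    exact ⟨M, inferInstance, inferInstance, inferInstance, inferInstance,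
      extended_imp A P M φ⟩
  · rintro ⟨N, _, _, hfin, hproj, E, hE⟩
    haveI := hfin
    haveI := hproj
    obtain ⟨n₁, hn₁⟩ := exists_pres A[X] M
    obtain ⟨n₂, hn₂⟩ := exists_pres A[X] N
    obtain ⟨f₁, g₁, h₁⟩ := hn₁ (max n₁ n₂) (le_max_left _ _)
    obtain ⟨f₂, g₂, h₂⟩ := hn₂ (max n₁ n₂) (le_max_right _ _)
    obtain ⟨G, H, hHG, hGH⟩ := exists_matrices f₁ g₁ h₁ f₂ g₂ h₂ E hE
    exact extended_of_ext f₁ g₁ h₁
      (ext_global _ _ (toMatrix'_idem f₁ g₁ h₁) (toMatrix'_idem f₂ g₂ h₂) G H hHG hGH)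

end Main

end Groth.Agent.Lib.R2H7.HorrMain
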