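import Groth.Agent.Lib.R2H7HorrGlue

/-!
# Quillen patching in matrix form (two-element covers)

`Ext e`: the idempotent matrix `e` over `S[t]` is Murray–von Neumann equivalent to `e(0)`.
-/

namespace Groth.Agent.Lib.R2H7.HorrPatch

open Polynomial
open Groth.Agent.Lib.R2H7.HorrKey Groth.Agent.Lib.R2H7.HorrGlue

theorem reassoc {M : Type*} [Semigroup M] {x y z : M} (h : x * y = z) (w : M) :
    x * (y * w) = z * w := by rw [← mul_assoc, h]

section Defs

variable {S S' : Type*} [CommRing S] [CommRing S'] {n : ℕ}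

/-- evaluation at `t = 0` as an endomorphism of `S[t]`. -/
noncomputable def ev0 (S : Type*) [CommRing S] : S[X] →+* S[X] := C.comp (evalRingHom 0)

theorem ev0_ev0 : (ev0 S).comp (ev0 S) = ev0 S := by
  apply Polynomial.ringHom_ext
  · intro a; simp [ev0]
  · simp [ev0]

theorem ev0_map (ρ : S →+* S') : (mapRingHom ρ).comp (ev0 S) = (ev0 S').comp (mapRingHom ρ) := by
  apply Polynomial.ringHom_ext
  · intro a; simp [ev0]
  · simp [ev0]

theorem ev0_mapMatrix_idem (M : Matrix (Fin n) (Fin n) S[X]) :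
    (ev0 S).mapMatrix ((ev0 S).mapMatrix M) = (ev0 S).mapMatrix M := by
  rw [mapMatrix_mapMatrix, ev0_ev0]

theorem ev0_mapMatrix_map (ρ : S →+* S') (M : Matrix (Fin n) (Fin n) S[X]) :
    (mapRingHom ρ).mapMatrix ((ev0 S).mapMatrix M) =
      (ev0 S').mapMatrix ((mapRingHom ρ).mapMatrix M) := by
  rw [mapMatrix_mapMatrix, ev0_map, ← mapMatrix_mapMatrix]

/-- `e` is Murray–von Neumann equivalent to `e(0)`. -/
def Ext (e : Matrix (Fin n) (Fin n) S[X]) : Prop :=
  ∃ U V : Matrix (Fin n) (Fin n) S[X], U * V = e ∧ V * U = (ev0 S).mapMatrix e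

theorem Ext.map {e : Matrix (Fin n) (Fin n) S[X]} (h : Ext e) (ρ : S →+* S') :
    Ext ((mapRingHom ρ).mapMatrix e) := by
  obtain ⟨U, V, hUV, hVU⟩ := h
  refine ⟨(mapRingHom ρ).mapMatrix U, (mapRingHom ρ).mapMatrix V, ?_, ?_⟩
  · rw [← map_mul, hUV]
  · rw [← map_mul, hVU, ev0_mapMatrix_map]

/-- A normalized Murray–von Neumann equivalence between `e` and `e(0)`. -/
structure NormPair (e : Matrix (Fin n) (Fin n) S[X]) where
  U : Matrix (Fin n) (Fin n) S[X]
  V : Matrix (Fin n) (Fin n) S[X]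
  UV : U * V = e
  VU : V * U = (ev0 S).mapMatrix e
  eU : e * U = U
  Ue₀ : U * (ev0 S).mapMatrix e = U
  e₀V : (ev0 S).mapMatrix e * V = V
  Ve : V * e = V
  εU : (ev0 S).mapMatrix U = (ev0 S).mapMatrix e
  εV : (ev0 S).mapMatrix V = (ev0 S).mapMatrix e

theorem Ext.normalize {e : Matrix (Fin n) (Fin n) S[X]} (he : e * e = e) (h : Ext e) :
    Nonempty (NormPair e) := by
  obtain ⟨U, V, hUV, hVU⟩ := h
  have he' := reassoc he
  have hUV' := reassoc hUV
  -- first corner-normalize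
  set e₀ := (ev0 S).mapMatrix e with he₀def
  have he₀ : e₀ * e₀ = e₀ := by rw [he₀def, ← map_mul, he]
  have he₀' := reassoc he₀
  have hεe₀ : (ev0 S).mapMatrix e₀ = e₀ := ev0_mapMatrix_idem e
  set U₁ := e * U * e₀ with hU₁
  set V₁ := e₀ * V * e with hV₁
  have h1 : U₁ * V₁ = e := by
    rw [hU₁, hV₁, ← hVU]
    simp only [mul_assoc, hUV, hUV', he, he']
  have h2 : V₁ * U₁ = e₀ := by
    have : V₁ * U₁ = e₀ * (V * (e * (U * e₀))) := by
      rw [hU₁, hV₁]
      simp only [mul_assoc, he']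
    rw [this, ← hUV]
    simp only [mul_assoc, reassoc hVU, he₀, he₀']
  have h3 : e * U₁ = U₁ := by rw [hU₁]; simp only [← mul_assoc, he]
  have h4 : U₁ * e₀ = U₁ := by rw [hU₁]; simp only [mul_assoc, he₀]
  have h5 : e₀ * V₁ = V₁ := by rw [hV₁]; simp only [← mul_assoc, he₀]
  have h6 : V₁ * e = V₁ := by rw [hV₁]; simp only [mul_assoc, he]
  -- apply ε
  set A := (ev0 S).mapMatrix U₁ with hA
  set B := (ev0 S).mapMatrix V₁ with hB
  have hAB : A * B = e₀ := by rw [hA, hB, ← map_mul, h1]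
  have hBA : B * A = e₀ := by rw [hA, hB, ← map_mul, h2, hεe₀]
  have he₀A : e₀ * A = A := by
    rw [hA]
    conv_lhs => rw [he₀def, ← map_mul, h3]
  have hAe₀ : A * e₀ = A := by
    rw [hA]
    conv_lhs => rw [← hεe₀, ← map_mul, h4]
  have he₀B : e₀ * B = B := by
    rw [hB]
    conv_lhs => rw [← hεe₀, ← map_mul, h5]
  have hBe₀ : B * e₀ = B := by
    rw [hB]
    conv_lhs => rw [he₀def, ← map_mul, h6]
  have hεA : (ev0 S).mapMatrix A = A := ev0_mapMatrix_idem U₁
  have hεB : (ev0 S).mapMatrix B = B := ev0_mapMatrix_idem V₁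
  refine ⟨⟨U₁ * B, A * V₁, ?_, ?_, ?_, ?_, ?_, ?_, ?_, ?_⟩⟩
  · simp only [mul_assoc]
    rw [reassoc hBA, h5, h1]
  · simp only [mul_assoc]
    rw [reassoc h2, he₀B, hAB]
  · rw [← mul_assoc, h3]
  · rw [mul_assoc, hBe₀]
  · rw [← mul_assoc, he₀A]
  · rw [mul_assoc, h6]
  · rw [map_mul, hεB, ← hA, hAB]
  · rw [map_mul, hεA, ← hB, hAB]

end Defs

section Subst

variable (T : Type*) [CommRing T]

/-- `t ↦ y t`. -/
noncomputable def sY : T[X] →+* T[X][X] :=
  eval₂RingHom ((C : T[X] →+* T[X][X]).comp C) (X * C X)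

/-- `t ↦ (1 - y) t`. -/
noncomputable def sY1 : T[X] →+* T[X][X] :=
  eval₂RingHom ((C : T[X] →+* T[X][X]).comp C) ((1 - X) * C X)

theorem eval0_comp_sY : (evalRingHom (0 : T[X])).comp (sY T) = ev0 T := by
  apply Polynomial.ringHom_ext
  · intro a; simp [sY, ev0]
  · simp [sY, ev0]

theorem eval0_comp_sY1 : (evalRingHom (0 : T[X])).comp (sY1 T) = RingHom.id _ := by
  apply Polynomial.ringHom_ext
  · intro a; simp [sY1]
  · simp [sY1]

theorem eval_comp_sY (g : T) : (evalRingHom (C g : T[X])).comp (sY T) = subY g := by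
  apply Polynomial.ringHom_ext
  · intro a; simp [sY, subY]
  · simp [sY, subY]

theorem eval_comp_sY1 (g : T) : (evalRingHom (C g : T[X])).comp (sY1 T) = subY (1 - g) := by
  apply Polynomial.ringHom_ext
  · intro a; simp [sY1, subY]
  · simp [sY1, subY]

theorem eval_comp_C (p : T[X]) :
    (evalRingHom p).comp (C : T[X] →+* T[X][X]) = RingHom.id _ := by
  apply RingHom.ext
  intro q
  simp

theorem sY_comp_ev0 : (sY T).comp (ev0 T) = (C : T[X] →+* T[X][X]).comp (ev0 T) := by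
  apply RingHom.ext
  intro p
  simp [sY, ev0]

theorem sY1_comp_ev0 : (sY1 T).comp (ev0 T) = (C : T[X] →+* T[X][X]).comp (ev0 T) := by
  apply RingHom.ext
  intro p
  simp [sY1, ev0]

end Subst

end Groth.Agent.Lib.R2H7.HorrPatch
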