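import Groth.Agent.Lib.R2H7HorrPatch

/-!
# Quillen patching in matrix form: the two-element cover case
-/

namespace Groth.Agent.Lib.R2H7.HorrPatch

open Polynomial
open Groth.Agent.Lib.R2H7.HorrKey Groth.Agent.Lib.R2H7.HorrGlue

section Patch

variable {R Ra Rb Rab : Type*} [CommRing R] [CommRing Ra] [CommRing Rb] [CommRing Rab]
  {α : R →+* Ra} {β : R →+* Rb} {α' : Ra →+* Rab} {β' : Rb →+* Rab} {a b : R} {n : ℕ}

theorem ext_of_cover (h : CoverData α β α' β' a b) (e : Matrix (Fin n) (Fin n) R[X])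
    (he : e * e = e) (ha : Ext ((mapRingHom α).mapMatrix e))
    (hb : Ext ((mapRingHom β).mapMatrix e)) : Ext e := by
  -- shorthands
  set αs : Matrix (Fin n) (Fin n) R[X] →+* Matrix (Fin n) (Fin n) Ra[X] :=
    (mapRingHom α).mapMatrix with hαs
  set βs : Matrix (Fin n) (Fin n) R[X] →+* Matrix (Fin n) (Fin n) Rb[X] :=
    (mapRingHom β).mapMatrix with hβs
  set αp : Matrix (Fin n) (Fin n) Ra[X] →+* Matrix (Fin n) (Fin n) Rab[X] :=
    (mapRingHom α').mapMatrix with hαp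
  set βp : Matrix (Fin n) (Fin n) Rb[X] →+* Matrix (Fin n) (Fin n) Rab[X] :=
    (mapRingHom β').mapMatrix with hβp
  set εa : Matrix (Fin n) (Fin n) Ra[X] →+* Matrix (Fin n) (Fin n) Ra[X] :=
    (ev0 Ra).mapMatrix with hεa
  set εb : Matrix (Fin n) (Fin n) Rb[X] →+* Matrix (Fin n) (Fin n) Rb[X] :=
    (ev0 Rb).mapMatrix with hεb
  set εh : Matrix (Fin n) (Fin n) Rab[X] →+* Matrix (Fin n) (Fin n) Rab[X] :=
    (ev0 Rab).mapMatrix with hεh
  have hcomm : ∀ M, αp (αs M) = βp (βs M) := by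
    intro M
    rw [hαp, hαs, hβp, hβs, mapMatrix_mapMatrix, mapMatrix_mapMatrix,
      Polynomial.mapRingHom_comp, Polynomial.mapRingHom_comp, h.comm]
  have hεαp : ∀ M, αp (εa M) = εh (αp M) := fun M => ev0_mapMatrix_map α' M
  have hεβp : ∀ M, βp (εb M) = εh (βp M) := fun M => ev0_mapMatrix_map β' M
  have hεαs : ∀ M, αs ((ev0 R).mapMatrix M) = εa (αs M) := fun M => ev0_mapMatrix_map α M
  have hεβs : ∀ M, βs ((ev0 R).mapMatrix M) = εb (βs M) := fun M => ev0_mapMatrix_map β M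
  have hεεh : ∀ M, εh (εh M) = εh M := fun M => ev0_mapMatrix_idem M
  set ea := αs e with hea_def
  set eb := βs e with heb_def
  have hea : ea * ea = ea := by rw [hea_def, ← map_mul, he]
  have heb : eb * eb = eb := by rw [heb_def, ← map_mul, he]
  obtain ⟨pa⟩ := ha.normalize hea
  obtain ⟨pb⟩ := hb.normalize heb
  set eh := αp ea with heh_def
  have hehb : βp eb = eh := (hcomm e).symm
  have heh : eh * eh = eh := by rw [heh_def, ← map_mul, hea]
  set e₀ := εh eh with he₀_def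
  have he₀ : e₀ * e₀ = e₀ := by rw [he₀_def, ← map_mul, heh]
  have hεe₀ : εh e₀ = e₀ := hεεh eh
  have hae₀ : αp (εa ea) = e₀ := hεαp ea
  have hbe₀ : βp (εb eb) = e₀ := by rw [hεβp, hehb]
  -- images over `Rab`
  set Ua := αp pa.U with hUa_def
  set Va := αp pa.V with hVa_def
  set Ub := βp pb.U with hUb_def
  set Vb := βp pb.V with hVb_def
  have a1 : Ua * Va = eh := by rw [hUa_def, hVa_def, ← map_mul, pa.UV]
  have a2 : Va * Ua = e₀ := by rw [hUa_def, hVa_def, ← map_mul, pa.VU, hae₀]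
  have a3 : eh * Ua = Ua := by rw [hUa_def, heh_def, ← map_mul, pa.eU]
  have a4 : Ua * e₀ = Ua := by rw [hUa_def, ← hae₀, ← map_mul, pa.Ue₀]
  have a5 : e₀ * Va = Va := by rw [hVa_def, ← hae₀, ← map_mul, pa.e₀V]
  have a6 : Va * eh = Va := by rw [hVa_def, heh_def, ← map_mul, pa.Ve]
  have a7 : εh Ua = e₀ := by rw [hUa_def, ← hεαp, pa.εU, hae₀]
  have a8 : εh Va = e₀ := by rw [hVa_def, ← hεαp, pa.εV, hae₀]
  have b1 : Ub * Vb = eh := by rw [hUb_def, hVb_def, ← map_mul, pb.UV, hehb]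
  have b2 : Vb * Ub = e₀ := by rw [hUb_def, hVb_def, ← map_mul, pb.VU, hbe₀]
  have b3 : eh * Ub = Ub := by rw [hUb_def, ← hehb, ← map_mul, pb.eU]
  have b4 : Ub * e₀ = Ub := by rw [hUb_def, ← hbe₀, ← map_mul, pb.Ue₀]
  have b5 : e₀ * Vb = Vb := by rw [hVb_def, ← hbe₀, ← map_mul, pb.e₀V]
  have b6 : Vb * eh = Vb := by rw [hVb_def, ← hehb, ← map_mul, pb.Ve]
  have b7 : εh Ub = e₀ := by rw [hUb_def, ← hεβp, pb.εU, hbe₀]
  have b8 : εh Vb = e₀ := by rw [hVb_def, ← hεβp, pb.εV, hbe₀]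
  -- the transition matrix
  set θ := Va * Ub + (1 - e₀) with hθ
  set θ' := Vb * Ua + (1 - e₀) with hθ'
  have hθθ' : θ * θ' = 1 := by
    rw [hθ, hθ']
    simp only [mul_add, add_mul, mul_sub, sub_mul, mul_one, one_mul, mul_assoc, reassoc b1, a3, a2,
      b4, reassoc b5, he₀]
    abel
  have hθ'θ : θ' * θ = 1 := by
    rw [hθ, hθ']
    simp only [mul_add, add_mul, mul_sub, sub_mul, mul_one, one_mul, mul_assoc, reassoc a1, b3, b2,
      a4, reassoc a5, he₀]
    abel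
  have hεθ : εh θ = 1 := by
    rw [hθ, map_add, map_sub, map_mul, map_one, a8, b7, hεe₀, he₀]
    abel
  have hεθ' : εh θ' = 1 := by
    rw [hθ', map_add, map_sub, map_mul, map_one, b8, a7, hεe₀, he₀]
    abel
  have hθe₀ : θ * e₀ = e₀ * θ := by
    rw [hθ]
    simp only [mul_add, add_mul, mul_sub, sub_mul, mul_one, one_mul, mul_assoc, b4, reassoc a5, he₀]
  have hθ'e₀ : θ' * e₀ = e₀ * θ' := by
    rw [hθ']
    simp only [mul_add, add_mul, mul_sub, sub_mul, mul_one, one_mul, mul_assoc, a4, reassoc b5, he₀]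
  have hUaθ : Ua * θ = Ub := by
    rw [hθ]
    simp only [mul_add, mul_sub, mul_one, reassoc a1, b3, a4]
    abel
  have hθ'Va : θ' * Va = Vb := by
    rw [hθ']
    simp only [add_mul, sub_mul, one_mul, mul_assoc, a1, b6, a5]
    abel
  -- Lemma K, first application: base `Rb`
  have hCe₀ : (C : Rab[X] →+* Rab[X][X]).mapMatrix e₀ = (sY Rab).mapMatrix e₀ := by
    have e1 : (C : Rab[X] →+* Rab[X][X]).mapMatrix ((ev0 Rab).mapMatrix eh) =
        (sY Rab).mapMatrix ((ev0 Rab).mapMatrix eh) := by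
      rw [mapMatrix_mapMatrix (C : Rab[X] →+* Rab[X][X]) (ev0 Rab) eh,
        mapMatrix_mapMatrix (sY Rab) (ev0 Rab) eh, sY_comp_ev0]
    exact e1
  have hCe₀' : (C : Rab[X] →+* Rab[X][X]).mapMatrix e₀ = (sY1 Rab).mapMatrix e₀ := by
    have e1 : (C : Rab[X] →+* Rab[X][X]).mapMatrix ((ev0 Rab).mapMatrix eh) =
        (sY1 Rab).mapMatrix ((ev0 Rab).mapMatrix eh) := by
      rw [mapMatrix_mapMatrix (C : Rab[X] →+* Rab[X][X]) (ev0 Rab) eh,
        mapMatrix_mapMatrix (sY1 Rab) (ev0 Rab) eh, sY1_comp_ev0]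
    exact e1
  obtain ⟨k₂, hk₂⟩ := lemmaK β' (β a) h.hβ' ((sY Rab).mapMatrix θ) ((sY Rab).mapMatrix θ')
    (by rw [← map_mul, hθθ', map_one]) (by rw [← map_mul, hθ'θ, map_one])
    (by rw [mapMatrix_mapMatrix, eval0_comp_sY]; exact hεθ)
    (by rw [mapMatrix_mapMatrix, eval0_comp_sY]; exact hεθ')
    (εb eb)
    (by
      have : (mapRingHom β').mapMatrix (εb eb) = e₀ := hbe₀
      rw [this, hCe₀, ← map_mul, ← map_mul, hθe₀])
  -- Lemma K, second application: base `Ra`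
  obtain ⟨k₁, hk₁⟩ := lemmaK α' (α b) h.hα'
    ((C : Rab[X] →+* Rab[X][X]).mapMatrix θ * (sY1 Rab).mapMatrix θ')
    ((sY1 Rab).mapMatrix θ * (C : Rab[X] →+* Rab[X][X]).mapMatrix θ')
    (by
      rw [mul_assoc, ← mul_assoc ((sY1 Rab).mapMatrix θ'), ← map_mul, hθ'θ, map_one, one_mul,
        ← map_mul, hθθ', map_one])
    (by
      rw [mul_assoc, ← mul_assoc ((C : Rab[X] →+* Rab[X][X]).mapMatrix θ'), ← map_mul, hθ'θ,
        map_one, one_mul, ← map_mul, hθθ', map_one])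
    (by
      rw [map_mul, mapMatrix_mapMatrix, mapMatrix_mapMatrix, eval_comp_C, eval0_comp_sY1,
        RingHom.mapMatrix_id]
      exact hθθ')
    (by
      rw [map_mul, mapMatrix_mapMatrix, mapMatrix_mapMatrix, eval_comp_C, eval0_comp_sY1,
        RingHom.mapMatrix_id]
      exact hθθ')
    (εa ea)
    (by
      have : (mapRingHom α').mapMatrix (εa ea) = e₀ := hae₀
      rw [this]
      have c1 : (C : Rab[X] →+* Rab[X][X]).mapMatrix θ * (C : Rab[X] →+* Rab[X][X]).mapMatrix e₀ =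
          (C : Rab[X] →+* Rab[X][X]).mapMatrix e₀ * (C : Rab[X] →+* Rab[X][X]).mapMatrix θ := by
        rw [← map_mul, ← map_mul, hθe₀]
      have c2 : (sY1 Rab).mapMatrix θ' * (C : Rab[X] →+* Rab[X][X]).mapMatrix e₀ =
          (C : Rab[X] →+* Rab[X][X]).mapMatrix e₀ * (sY1 Rab).mapMatrix θ' := by
        rw [hCe₀', ← map_mul, ← map_mul, hθ'e₀]
      rw [mul_assoc, c2, ← mul_assoc, c1, mul_assoc])
  obtain ⟨u, v, huv⟩ := h.cop.pow (m := k₂) (n := k₁)
  obtain ⟨η₂, η₂', h21, h22, h23, h24, h25⟩ := hk₂ (β u)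
  obtain ⟨η₁, η₁', h11, h12, h13, h14, h15⟩ := hk₁ (α v)
  set g : Rab := β' (β (a ^ k₂ * u)) with hg
  have hg2 : β' (β a ^ k₂ * β u) = g := by simp only [hg, map_mul, map_pow]
  have hg1 : (1 : Rab) - α' (α b ^ k₁ * α v) = g := by
    have e1 : α' (α b ^ k₁ * α v) = β' (β (b ^ k₁ * v)) := by
      rw [← map_pow, ← map_mul]
      exact RingHom.congr_fun h.comm _
    have e2 : a ^ k₂ * u = 1 - b ^ k₁ * v := by
      rw [← huv]
      ring
    rw [e1, hg, e2, map_sub, map_sub, map_one, map_one]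
  set sc : Matrix (Fin n) (Fin n) Rab[X] →+* Matrix (Fin n) (Fin n) Rab[X] :=
    (subY g).mapMatrix with hsc
  have e21 : βp η₂ = sc θ := by
    rw [hβp, h23, hg2, mapMatrix_mapMatrix, eval_comp_sY]
  have e22 : βp η₂' = sc θ' := by
    rw [hβp, h24, hg2, mapMatrix_mapMatrix, eval_comp_sY]
  have e11 : αp η₁ = θ * sc θ' := by
    rw [hαp, h13, map_mul, mapMatrix_mapMatrix, mapMatrix_mapMatrix, eval_comp_C, eval_comp_sY1,
      hg1, RingHom.mapMatrix_id]
    rfl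
  have e12 : αp η₁' = sc θ * θ' := by
    rw [hαp, h14, map_mul, mapMatrix_mapMatrix, mapMatrix_mapMatrix, eval_comp_C, eval_comp_sY1,
      hg1, RingHom.mapMatrix_id]
    rfl
  -- glue
  obtain ⟨U, hU1, hU2⟩ := h.polynomial.glue_matrix (pa.U * η₁) (pb.U * η₂') (by
    show αp (pa.U * η₁) = βp (pb.U * η₂')
    rw [map_mul, map_mul, e11, e22, ← mul_assoc, hUaθ])
  obtain ⟨V, hV1, hV2⟩ := h.polynomial.glue_matrix (η₁' * pa.V) (η₂ * pb.V) (by
    show αp (η₁' * pa.V) = βp (η₂ * pb.V)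
    rw [map_mul, map_mul, e12, e21, mul_assoc, hθ'Va])
  refine ⟨U, V, ?_, ?_⟩
  · rw [← sub_eq_zero]
    apply h.polynomial.inj_matrix
    · rw [map_sub, map_mul, hU1, hV1, mul_assoc, ← mul_assoc η₁, h11, one_mul, pa.UV]
      exact sub_self _
    · rw [map_sub, map_mul, hU2, hV2, mul_assoc, ← mul_assoc η₂', h22, one_mul, pb.UV]
      exact sub_self _
  · rw [← sub_eq_zero]
    apply h.polynomial.inj_matrix
    · rw [map_sub, map_mul, hV1, hU1, mul_assoc, ← mul_assoc pa.V, pa.VU]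
      have : (mapRingHom α).mapMatrix ((ev0 R).mapMatrix e) = εa ea := hεαs e
      rw [this, ← h15, ← mul_assoc, h12, one_mul]
      exact sub_self _
    · rw [map_sub, map_mul, hV2, hU2, mul_assoc, ← mul_assoc pb.V, pb.VU]
      have : (mapRingHom β).mapMatrix ((ev0 R).mapMatrix e) = εb eb := hεβs e
      rw [this, ← mul_assoc, h25, mul_assoc, h21, mul_one]
      exact sub_self _

end Patch

end Groth.Agent.Lib.R2H7.HorrPatch
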