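import Mathlib

/-!
# Kernels of surjective linear pencils over a local ring are free

For a local ring `R` and finite projective `R`-modules `W`, `C` with `R`-linear maps
`α β : W → C`, `β` surjective, if the pencil `α + X β : R[X] ⊗ W → R[X] ⊗ C` is surjective
then its kernel is a free `R[X]`-module.  (Core of a proof of Horrocks' theorem.)
-/

namespace Groth.Agent.Lib.R2H7.HorrPencil

open Polynomial TensorProduct IsLocalRing

universe u

variable {R : Type u} [CommRing R]

section Defs

variable {W C : Type u} [AddCommGroup W] [Module R W] [AddCommGroup C] [Module R C]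

/-- The pencil `α + X β`. -/
noncomputable def pencil (α β : W →ₗ[R] C) : R[X] ⊗[R] W →ₗ[R[X]] R[X] ⊗[R] C :=
  α.baseChange R[X] + (X : R[X]) • β.baseChange R[X]

theorem pencil_tmul (α β : W →ₗ[R] C) (p : R[X]) (w : W) :
    pencil α β (p ⊗ₜ w) = p ⊗ₜ α w + (X : R[X]) • (p ⊗ₜ β w) := by
  simp [pencil]

theorem smul_mem_smul_top {E : Type*} [AddCommGroup E] [Module R E] [Module R[X] E]
    [IsScalarTower R R[X] E] (I : Ideal R) (p : R[X]) {n : E}
    (hn : n ∈ (I • ⊤ : Submodule R E)) : p • n ∈ (I • ⊤ : Submodule R E) := by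
  refine Submodule.smul_induction_on hn ?_ ?_
  · intro a ha e _
    rw [smul_comm]
    exact Submodule.smul_mem_smul ha Submodule.mem_top
  · intro x y hx hy
    rw [smul_add]
    exact add_mem hx hy

end Defs

section Local

variable [IsLocalRing R]
variable {W C : Type u} [AddCommGroup W] [Module R W] [AddCommGroup C] [Module R C]

theorem exists_functional [Module.Finite R C] [Module.Projective R C] (c : C)
    (hc : c ∉ (maximalIdeal R • ⊤ : Submodule R C)) : ∃ lam : C →ₗ[R] R, lam c = 1 := by
  haveI : Module.Free R C := Module.free_of_flat_of_isLocalRing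
  let b := Module.Free.chooseBasis R C
  by_cases h : ∃ i, IsUnit (b.repr c i)
  · obtain ⟨i, u, hu⟩ := h
    refine ⟨(↑u⁻¹ : R) • b.coord i, ?_⟩
    simp [← hu]
  · exfalso
    apply hc
    push_neg at h
    rw [← b.linearCombination_repr c, Finsupp.linearCombination_apply]
    exact Submodule.sum_mem _ fun i _ =>
      Submodule.smul_mem_smul ((IsLocalRing.mem_maximalIdeal _).mpr (h i)) Submodule.mem_top

theorem exists_pivot [Module.Finite R C] [Module.Projective R C] [Nontrivial C]
    (α β : W →ₗ[R] C) (hβ : Function.Surjective β) (hΨ : Function.Surjective (pencil α β)) :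
    ∃ w : W, β w = 0 ∧ α w ∉ (maximalIdeal R • ⊤ : Submodule R C) := by
  by_contra hcon
  push_neg at hcon
  obtain ⟨σ, hσ⟩ := Module.projective_lifting_property β LinearMap.id hβ
  let τ : C →ₗ[R] C := -(α ∘ₗ σ)
  let ε : R[X] ⊗[R] C →ₗ[R[X]] Module.AEval' τ :=
    LinearMap.liftBaseChange R[X] (Module.AEval'.of τ).toLinearMap
  have hof : ∀ c : C, c ∈ (maximalIdeal R • ⊤ : Submodule R C) →
      Module.AEval'.of τ c ∈ (maximalIdeal R • ⊤ : Submodule R (Module.AEval' τ)) := by
    intro c hc
    have : (maximalIdeal R • ⊤ : Submodule R C).map (Module.AEval'.of τ).toLinearMap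
        ≤ (maximalIdeal R • ⊤ : Submodule R (Module.AEval' τ)) := by
      rw [Submodule.map_smul'']
      exact Submodule.smul_mono le_rfl le_top
    exact this (Submodule.mem_map_of_mem hc)
  have key : ∀ y : R[X] ⊗[R] W,
      ε (pencil α β y) ∈ (maximalIdeal R • ⊤ : Submodule R (Module.AEval' τ)) := by
    intro y
    induction y using TensorProduct.induction_on with
    | zero => simp
    | tmul p w =>
      have h1 : ε (pencil α β (p ⊗ₜ w)) =
          p • Module.AEval'.of τ (α (w - σ (β w))) := by
        rw [pencil_tmul, map_add, map_smul]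
        simp only [ε, LinearMap.liftBaseChange_tmul, LinearEquiv.coe_coe]
        rw [smul_comm, ← smul_add, Module.AEval'.X_smul_of]
        congr 1
        rw [← map_add]
        congr 1
        simp [τ, map_sub]
        abel
      rw [h1]
      apply smul_mem_smul_top
      apply hof
      apply hcon
      have : β (σ (β w)) = β w := by
        have := LinearMap.congr_fun hσ (β w)
        simpa using this
      rw [map_sub, this, sub_self]
    | add x y hx hy =>
      rw [map_add, map_add]
      exact add_mem hx hy
  have htop : (⊤ : Submodule R (Module.AEval' τ)) ≤ maximalIdeal R • ⊤ := by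
    intro e _
    obtain ⟨y, hy⟩ := hΨ ((1 : R[X]) ⊗ₜ (Module.AEval'.of τ).symm e)
    have := key y
    rw [hy] at this
    simpa [ε] using this
  have hbot := Submodule.eq_bot_of_le_smul_of_le_jacobson_bot (maximalIdeal R)
    (⊤ : Submodule R (Module.AEval' τ)) Module.Finite.fg_top htop
    (by rw [IsLocalRing.jacobson_eq_maximalIdeal ⊥ bot_ne_top])
  obtain ⟨x, y, hxy⟩ := exists_pair_ne C
  apply hxy
  apply (Module.AEval'.of τ).injective
  have h1 : Module.AEval'.of τ x ∈ (⊤ : Submodule R (Module.AEval' τ)) := Submodule.mem_top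
  have h2 : Module.AEval'.of τ y ∈ (⊤ : Submodule R (Module.AEval' τ)) := Submodule.mem_top
  rw [hbot, Submodule.mem_bot] at h1 h2
  rw [h1, h2]

end Local

section Pivot

variable {W C : Type u} [AddCommGroup W] [Module R W] [AddCommGroup C] [Module R C]
variable (α β : W →ₗ[R] C) (w : W) (lam : C →ₗ[R] R)

/-- projection of `C` onto `ker lam` along `α w`. -/
noncomputable def piC (hlam : lam (α w) = 1) : C →ₗ[R] LinearMap.ker lam :=
  (LinearMap.id - (LinearMap.toSpanSingleton R C (α w)) ∘ₗ lam).codRestrict (LinearMap.ker lam)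
    (fun x => by simp [hlam])

/-- projection of `W` onto `ker (lam ∘ α)` along `w`. -/
noncomputable def p0 (hlam : lam (α w) = 1) : W →ₗ[R] LinearMap.ker (lam ∘ₗ α) :=
  (LinearMap.id - (LinearMap.toSpanSingleton R W w) ∘ₗ (lam ∘ₗ α)).codRestrict
    (LinearMap.ker (lam ∘ₗ α)) (fun x => by simp [hlam])

variable (hlam : lam (α w) = 1)

theorem subtype_comp_piC :
    (LinearMap.ker lam).subtype ∘ₗ piC α w lam hlam =
      LinearMap.id - (LinearMap.toSpanSingleton R C (α w)) ∘ₗ lam := by
  ext x; simp [piC]

theorem subtype_comp_p0 :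
    (LinearMap.ker (lam ∘ₗ α)).subtype ∘ₗ p0 α w lam hlam =
      LinearMap.id - (LinearMap.toSpanSingleton R W w) ∘ₗ (lam ∘ₗ α) := by
  ext x; simp [p0]

theorem p0_comp_subtype :
    p0 α w lam hlam ∘ₗ (LinearMap.ker (lam ∘ₗ α)).subtype = LinearMap.id := by
  ext ⟨x, hx⟩
  have : lam (α x) = 0 := by simpa using hx
  simp [p0, this]

theorem piC_comp_single :
    piC α w lam hlam ∘ₗ LinearMap.toSpanSingleton R C (α w) = 0 := by
  ext
  simp [piC, hlam]

theorem p0_comp_single :
    p0 α w lam hlam ∘ₗ LinearMap.toSpanSingleton R W w = 0 := by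
  ext
  simp [p0, hlam]

theorem lam_comp_single (hlam : lam (α w) = 1) :
    lam ∘ₗ LinearMap.toSpanSingleton R C (α w) = LinearMap.id := by
  ext
  simp [hlam]

theorem alpha_comp_single :
    α ∘ₗ LinearMap.toSpanSingleton R W w = LinearMap.toSpanSingleton R C (α w) := by
  ext
  simp

theorem beta_comp_single (hw : β w = 0) :
    β ∘ₗ LinearMap.toSpanSingleton R W w = 0 := by
  ext
  simp [hw]

/-- new `α`. -/
noncomputable def α' : LinearMap.ker (lam ∘ₗ α) →ₗ[R] LinearMap.ker lam :=
  piC α w lam hlam ∘ₗ α ∘ₗ (LinearMap.ker (lam ∘ₗ α)).subtype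

/-- new `β`. -/
noncomputable def β' : LinearMap.ker (lam ∘ₗ α) →ₗ[R] LinearMap.ker lam :=
  piC α w lam hlam ∘ₗ β ∘ₗ (LinearMap.ker (lam ∘ₗ α)).subtype

theorem pencil'_eq :
    pencil (α' α w lam hlam) (β' α β w lam hlam) =
      (piC α w lam hlam).baseChange R[X] ∘ₗ pencil α β ∘ₗ
        ((LinearMap.ker (lam ∘ₗ α)).subtype).baseChange R[X] := by
  simp only [pencil, α', β', LinearMap.baseChange_comp, LinearMap.comp_add, LinearMap.add_comp,
    LinearMap.comp_smul, LinearMap.smul_comp]

theorem pencil_comp_single (hw : β w = 0) :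
    pencil α β ∘ₗ (LinearMap.toSpanSingleton R W w).baseChange R[X] =
      (LinearMap.toSpanSingleton R C (α w)).baseChange R[X] := by
  simp only [pencil, LinearMap.add_comp, LinearMap.smul_comp, ← LinearMap.baseChange_comp,
    alpha_comp_single, beta_comp_single β w hw, LinearMap.baseChange_zero, smul_zero, add_zero]

/-- The comparison map `K`. -/
noncomputable def K : R[X] ⊗[R] LinearMap.ker (lam ∘ₗ α) →ₗ[R[X]] R[X] ⊗[R] W :=
  ((LinearMap.ker (lam ∘ₗ α)).subtype).baseChange R[X] -
    (LinearMap.toSpanSingleton R W w).baseChange R[X] ∘ₗ lam.baseChange R[X] ∘ₗ pencil α β ∘ₗ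
      ((LinearMap.ker (lam ∘ₗ α)).subtype).baseChange R[X]

theorem p0_comp_K :
    (p0 α w lam hlam).baseChange R[X] ∘ₗ K α β w lam = LinearMap.id := by
  unfold K
  rw [LinearMap.comp_sub, ← LinearMap.baseChange_comp, p0_comp_subtype, ← LinearMap.comp_assoc,
    ← LinearMap.baseChange_comp, p0_comp_single, LinearMap.baseChange_zero, LinearMap.zero_comp,
    LinearMap.baseChange_id]
  apply LinearMap.ext
  intro x
  simp

theorem pencil_comp_K (hw : β w = 0) :
    pencil α β ∘ₗ K α β w lam =
      ((LinearMap.ker lam).subtype).baseChange R[X] ∘ₗ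
        pencil (α' α w lam hlam) (β' α β w lam hlam) := by
  apply LinearMap.ext
  intro x₀
  have h2 := fun z => LinearMap.congr_fun (pencil_comp_single α β w hw) z
  have h3 := fun z => congrArg (fun f => (LinearMap.baseChange R[X] f) z)
    (subtype_comp_piC α w lam hlam)
  simp only [LinearMap.comp_apply] at h2
  simp only [LinearMap.baseChange_comp, LinearMap.baseChange_sub, LinearMap.baseChange_id,
    LinearMap.comp_apply, LinearMap.sub_apply, LinearMap.id_apply] at h3
  rw [pencil'_eq]
  simp only [K, LinearMap.comp_apply, LinearMap.sub_apply, map_sub]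
  rw [h2, h3]

theorem K_p0_of_mem (hw : β w = 0) (x : R[X] ⊗[R] W) (hx : pencil α β x = 0) :
    K α β w lam ((p0 α w lam hlam).baseChange R[X] x) = x := by
  have h1 : ((LinearMap.ker (lam ∘ₗ α)).subtype).baseChange R[X]
      ((p0 α w lam hlam).baseChange R[X] x) =
      x - (LinearMap.toSpanSingleton R W w).baseChange R[X] ((lam ∘ₗ α).baseChange R[X] x) := by
    have := congrArg (fun f => (LinearMap.baseChange R[X] f) x) (subtype_comp_p0 α w lam hlam)
    simpa [LinearMap.baseChange_comp, LinearMap.baseChange_sub] using this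
  have h2 : pencil α β ((LinearMap.toSpanSingleton R W w).baseChange R[X]
      ((lam ∘ₗ α).baseChange R[X] x)) =
      (LinearMap.toSpanSingleton R C (α w)).baseChange R[X] ((lam ∘ₗ α).baseChange R[X] x) := by
    have := LinearMap.congr_fun (pencil_comp_single α β w hw) ((lam ∘ₗ α).baseChange R[X] x)
    simpa using this
  have h3 : lam.baseChange R[X] ((LinearMap.toSpanSingleton R C (α w)).baseChange R[X]
      ((lam ∘ₗ α).baseChange R[X] x)) = (lam ∘ₗ α).baseChange R[X] x := by
    have := congrArg (fun f => (LinearMap.baseChange R[X] f) ((lam ∘ₗ α).baseChange R[X] x))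
      (lam_comp_single α w lam hlam)
    simpa [LinearMap.baseChange_comp] using this
  unfold K
  simp only [LinearMap.sub_apply, LinearMap.comp_apply]
  rw [h1, map_sub, hx, zero_sub, h2, map_neg, h3, map_neg]
  abel

theorem pencil'_p0_of_mem (hw : β w = 0) (x : R[X] ⊗[R] W) (hx : pencil α β x = 0) :
    pencil (α' α w lam hlam) (β' α β w lam hlam) ((p0 α w lam hlam).baseChange R[X] x) = 0 := by
  have h1 : ((LinearMap.ker (lam ∘ₗ α)).subtype).baseChange R[X]
      ((p0 α w lam hlam).baseChange R[X] x) =
      x - (LinearMap.toSpanSingleton R W w).baseChange R[X] ((lam ∘ₗ α).baseChange R[X] x) := by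
    have := congrArg (fun f => (LinearMap.baseChange R[X] f) x) (subtype_comp_p0 α w lam hlam)
    simpa [LinearMap.baseChange_comp, LinearMap.baseChange_sub] using this
  have h2 : pencil α β ((LinearMap.toSpanSingleton R W w).baseChange R[X]
      ((lam ∘ₗ α).baseChange R[X] x)) =
      (LinearMap.toSpanSingleton R C (α w)).baseChange R[X] ((lam ∘ₗ α).baseChange R[X] x) := by
    have := LinearMap.congr_fun (pencil_comp_single α β w hw) ((lam ∘ₗ α).baseChange R[X] x)
    simpa using this
  have h4 : ∀ z, (piC α w lam hlam).baseChange R[X]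
      ((LinearMap.toSpanSingleton R C (α w)).baseChange R[X] z) = 0 := by
    intro z
    have := congrArg (fun f => (LinearMap.baseChange R[X] f) z) (piC_comp_single α w lam hlam)
    simpa [LinearMap.baseChange_comp] using this
  rw [pencil'_eq]
  simp only [LinearMap.comp_apply]
  rw [h1, map_sub, hx, zero_sub, h2, map_neg, h4, neg_zero]

theorem ker_pencil_eq_map (hw : β w = 0) :
    LinearMap.ker (pencil α β) =
      (LinearMap.ker (pencil (α' α w lam hlam) (β' α β w lam hlam))).map (K α β w lam) := by
  apply le_antisymm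
  · intro x hx
    rw [LinearMap.mem_ker] at hx
    refine ⟨(p0 α w lam hlam).baseChange R[X] x, ?_, K_p0_of_mem α β w lam hlam hw x hx⟩
    exact pencil'_p0_of_mem α β w lam hlam hw x hx
  · rintro _ ⟨x₀, hx₀, rfl⟩
    rw [SetLike.mem_coe, LinearMap.mem_ker] at hx₀
    rw [LinearMap.mem_ker]
    have := LinearMap.congr_fun (pencil_comp_K α β w lam hlam hw) x₀
    simp only [LinearMap.comp_apply] at this
    rw [this, hx₀, map_zero]

theorem K_injective (hlam : lam (α w) = 1) : Function.Injective (K α β w lam) := by
  intro x y hxy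
  have := LinearMap.congr_fun (p0_comp_K α β w lam hlam)
  have hx := this x
  have hy := this y
  simp only [LinearMap.comp_apply, LinearMap.id_apply] at hx hy
  rw [← hx, ← hy, hxy]

theorem pencil'_surjective (hw : β w = 0) (hΨ : Function.Surjective (pencil α β)) :
    Function.Surjective (pencil (α' α w lam hlam) (β' α β w lam hlam)) := by
  intro y'
  obtain ⟨x, hx⟩ := hΨ (((LinearMap.ker lam).subtype).baseChange R[X] y')
  refine ⟨(p0 α w lam hlam).baseChange R[X] x, ?_⟩
  have h1 : ((LinearMap.ker (lam ∘ₗ α)).subtype).baseChange R[X]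
      ((p0 α w lam hlam).baseChange R[X] x) =
      x - (LinearMap.toSpanSingleton R W w).baseChange R[X] ((lam ∘ₗ α).baseChange R[X] x) := by
    have := congrArg (fun f => (LinearMap.baseChange R[X] f) x) (subtype_comp_p0 α w lam hlam)
    simpa [LinearMap.baseChange_comp, LinearMap.baseChange_sub] using this
  have h2 : pencil α β ((LinearMap.toSpanSingleton R W w).baseChange R[X]
      ((lam ∘ₗ α).baseChange R[X] x)) =
      (LinearMap.toSpanSingleton R C (α w)).baseChange R[X] ((lam ∘ₗ α).baseChange R[X] x) := by
    have := LinearMap.congr_fun (pencil_comp_single α β w hw) ((lam ∘ₗ α).baseChange R[X] x)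
    simpa using this
  have h4 : ∀ z, (piC α w lam hlam).baseChange R[X]
      ((LinearMap.toSpanSingleton R C (α w)).baseChange R[X] z) = 0 := by
    intro z
    have := congrArg (fun f => (LinearMap.baseChange R[X] f) z) (piC_comp_single α w lam hlam)
    simpa [LinearMap.baseChange_comp] using this
  have h5 : (piC α w lam hlam).baseChange R[X]
      (((LinearMap.ker lam).subtype).baseChange R[X] y') = y' := by
    have : piC α w lam hlam ∘ₗ (LinearMap.ker lam).subtype = LinearMap.id := by
      ext ⟨z, hz⟩
      have : lam z = 0 := by simpa using hz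
      simp [piC, this]
    have := congrArg (fun f => (LinearMap.baseChange R[X] f) y') this
    simpa [LinearMap.baseChange_comp] using this
  rw [pencil'_eq]
  simp only [LinearMap.comp_apply]
  rw [h1, map_sub, hx, h2, map_sub, h4, sub_zero, h5]

theorem β'_surjective (hw : β w = 0) (hβ : Function.Surjective β) :
    Function.Surjective (β' α β w lam hlam) := by
  rintro ⟨y, hy⟩
  have hy' : lam y = 0 := by simpa using hy
  obtain ⟨x, rfl⟩ := hβ y
  refine ⟨p0 α w lam hlam x, ?_⟩
  apply Subtype.ext
  simp [β', piC, p0, hw, hy']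

/-- `C ≃ R × ker lam`. -/
noncomputable def equivProd : C ≃ₗ[R] R × LinearMap.ker lam :=
  LinearEquiv.ofLinear (lam.prod (piC α w lam hlam))
    ((LinearMap.toSpanSingleton R C (α w)).coprod (LinearMap.ker lam).subtype)
    (by
      apply LinearMap.ext
      rintro ⟨a, ⟨y, hy⟩⟩
      have hy' : lam y = 0 := by simpa using hy
      apply Prod.ext
      · simp [hlam, hy']
      · apply Subtype.ext
        simp [piC, hlam, hy'])
    (by
      ext x
      simp [piC])

end Pivot

section Main

variable [IsLocalRing R]

theorem free_ker_pencil : ∀ (r : ℕ) (W C : Type u) [AddCommGroup W] [Module R W]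
    [Module.Finite R W] [Module.Projective R W] [AddCommGroup C] [Module R C] [Module.Finite R C]
    [Module.Projective R C] (α β : W →ₗ[R] C), Module.finrank R C = r → Function.Surjective β →
    Function.Surjective (pencil α β) → Module.Free R[X] (LinearMap.ker (pencil α β)) := by
  intro r
  induction r with
  | zero =>
    intro W C _ _ _ _ _ _ _ _ α β hr _ _
    haveI : Module.Free R C := Module.free_of_flat_of_isLocalRing
    haveI : Module.Free R W := Module.free_of_flat_of_isLocalRing
    haveI : Subsingleton C := (Module.finrank_eq_zero_iff_of_free R C).mp hr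
    have : LinearMap.ker (pencil α β) = ⊤ := by
      rw [LinearMap.ker_eq_top]
      apply LinearMap.ext
      intro x
      exact Subsingleton.elim _ _
    rw [this]
    exact Module.Free.of_equiv (Submodule.topEquiv (R := R[X]) (M := R[X] ⊗[R] W)).symm
  | succ r ih =>
    intro W C _ _ _ _ _ _ _ _ α β hr hβ hΨ
    haveI : Module.Free R C := Module.free_of_flat_of_isLocalRing
    haveI : Nontrivial C := by
      by_contra hC
      rw [not_nontrivial_iff_subsingleton] at hC
      have := (Module.finrank_eq_zero_iff_of_free R C).mpr hC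
      omega
    obtain ⟨w, hw, hαw⟩ := exists_pivot α β hβ hΨ
    obtain ⟨lam, hlam⟩ := exists_functional (α w) hαw
    haveI : Module.Projective R (LinearMap.ker lam) :=
      Module.Projective.of_split (LinearMap.ker lam).subtype (piC α w lam hlam) (by
        ext ⟨z, hz⟩
        have : lam z = 0 := by simpa using hz
        simp [piC, this])
    haveI : Module.Finite R (LinearMap.ker lam) :=
      Module.Finite.of_surjective (piC α w lam hlam) (by
        rintro ⟨z, hz⟩
        have : lam z = 0 := by simpa using hz
        exact ⟨z, Subtype.ext (by simp [piC, this])⟩)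
    haveI : Module.Projective R (LinearMap.ker (lam ∘ₗ α)) :=
      Module.Projective.of_split (LinearMap.ker (lam ∘ₗ α)).subtype (p0 α w lam hlam)
        (p0_comp_subtype α w lam hlam)
    haveI : Module.Finite R (LinearMap.ker (lam ∘ₗ α)) :=
      Module.Finite.of_surjective (p0 α w lam hlam) (by
        intro z
        exact ⟨z.1, LinearMap.congr_fun (p0_comp_subtype α w lam hlam) z⟩)
    haveI : Module.Free R (LinearMap.ker lam) := Module.free_of_flat_of_isLocalRing
    have hrank : Module.finrank R (LinearMap.ker lam) = r := by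
      have h1 := LinearEquiv.finrank_eq (equivProd α w lam hlam)
      rw [Module.finrank_prod, Module.finrank_self, hr] at h1
      omega
    have hfree := ih (LinearMap.ker (lam ∘ₗ α)) (LinearMap.ker lam) (α' α w lam hlam)
      (β' α β w lam hlam) hrank (β'_surjective α β w lam hlam hw hβ)
      (pencil'_surjective α β w lam hlam hw hΨ)
    rw [ker_pencil_eq_map α β w lam hlam hw]
    exact Module.Free.of_equiv
      (Submodule.equivMapOfInjective (K α β w lam) (K_injective α β w lam hlam) _)

end Main

end Groth.Agent.Lib.R2H7.HorrPencil
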