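import Mathlib
import Groth.Prelude.Def_W4c2azumayainvolQEt
import Groth.Agent.Lib.Helper24G0
import Groth.Agent.Lib.Helper3HenselInt
import Groth.Agent.S1964

/-!
# Rings with involution whose fixed ring is strictly henselian (S15578)

If `R` is a commutative ring with an involution `lam` whose fixed ring `S` is strictly henselian,
then `R` is integral over `S`, has at most two maximal ideals (swapped by `lam`), and is either
local or a product of two local rings; each local factor is integral over `S` hence strictly
henselian.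
-/

universe u v

namespace Groth.Agent.Lib.R2H7.InvolHensel

open IsLocalRing Polynomial

/-- A local ring integral over a henselian local ring is henselian (any universes). -/
theorem henselian_of_isIntegral (A : Type u) [CommRing A] [HenselianLocalRing A]
    (C : Type v) [CommRing C] [IsLocalRing C] [Algebra A C] [Algebra.IsIntegral A C] :
    HenselianLocalRing C := by
  refine ⟨fun f hf a₀ h0 h1 => ?_⟩
  classical
  let s : Set C := (f.coeffs : Set C) ∪ {a₀}
  have hsfin : s.Finite := (Finset.finite_toSet _).union (Set.finite_singleton _)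
  let C' : Subalgebra A C := Algebra.adjoin A s
  haveI hfin : Module.Finite A C' :=
    Algebra.finite_adjoin_of_finite_of_isIntegral hsfin (fun x _ => Algebra.IsIntegral.isIntegral x)
  haveI hloc : IsLocalHom C'.val.toRingHom :=
    Groth.Agent.Lib.Helper3.HenselInt.isLocalHom_subalgebra_val C'
  haveI : IsLocalRing C' := RingHom.domain_isLocalRing C'.val.toRingHom
  haveI : HenselianLocalRing C' := Groth.Agent.Lib.Helper24G0.henselian_of_finite A C'
  -- lift the polynomial
  have hcoef : ∀ n, f.coeff n ∈ C' := by
    intro n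
    by_cases h : f.coeff n = 0
    · rw [h]; exact zero_mem _
    · exact Algebra.subset_adjoin (Or.inl (Finset.mem_coe.mpr (Polynomial.coeff_mem_coeffs h)))
  have ha₀ : a₀ ∈ C' := Algebra.subset_adjoin (Or.inr rfl)
  have hlift : f ∈ Polynomial.lifts C'.val.toRingHom := by
    rw [Polynomial.lifts_iff_coeff_lifts]
    intro n
    exact ⟨⟨f.coeff n, hcoef n⟩, rfl⟩
  obtain ⟨g, hg, hgdeg, hgmonic⟩ := Polynomial.lifts_and_degree_eq_and_monic hlift hf
  let a₀' : C' := ⟨a₀, ha₀⟩
  have heval : ∀ (p : C'[X]) (x : C'), C'.val.toRingHom (p.eval x) =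
      (p.map C'.val.toRingHom).eval (C'.val.toRingHom x) := by
    intro p x
    rw [Polynomial.eval_map, Polynomial.eval₂_hom]
  have h0' : g.eval a₀' ∈ maximalIdeal C' := by
    rw [mem_maximalIdeal, mem_nonunits_iff]
    intro hu
    have := hu.map C'.val.toRingHom
    rw [heval, hg] at this
    exact h0 this
  have h1' : IsUnit (g.derivative.eval a₀') := by
    apply isUnit_of_map_unit C'.val.toRingHom
    rw [heval, ← Polynomial.derivative_map, hg]
    exact h1
  obtain ⟨a, har, ha⟩ := HenselianLocalRing.is_henselian g hgmonic a₀' h0' h1'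
  refine ⟨C'.val.toRingHom a, ?_, ?_⟩
  · rw [Polynomial.IsRoot, ← hg, ← heval, har, map_zero]
  · have : (a : C) - a₀ = C'.val.toRingHom (a - a₀') := by simp [a₀']
    show (a : C) - a₀ ∈ maximalIdeal C
    rw [this, mem_maximalIdeal, mem_nonunits_iff]
    intro hu
    exact ha (isUnit_of_map_unit C'.val.toRingHom _ hu)

/-- A local ring integral over a strictly henselian local ring is strictly henselian. -/
theorem strict_of_isIntegral (A : Type u) [CommRing A] [HenselianLocalRing A]
    [IsSepClosed (ResidueField A)]
    (C : Type v) [CommRing C] [IsLocalRing C] [Algebra A C] [Algebra.IsIntegral A C] :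
    ∃ _ : HenselianLocalRing C, IsSepClosed (ResidueField C) := by
  refine ⟨henselian_of_isIntegral A C, ?_⟩
  haveI : IsLocalHom (algebraMap A C) := Groth.Agent.S1964.isLocalHom_of_isIntegral_of_isLocalRing
  letI := (ResidueField.map (algebraMap A C)).toAlgebra
  haveI : Algebra.IsAlgebraic (ResidueField A) (ResidueField C) :=
    Groth.Agent.S1964.isAlgebraic_residueField
  exact Algebra.IsAlgebraic.isSepClosed (F := ResidueField A)

/-- A quotient `R ⧸ I` by a proper ideal such that every maximal ideal above `I` equals `P`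
is local. -/
theorem isLocalRing_quotient {R : Type*} [CommRing R] (I P : Ideal R) (hI : I ≠ ⊤)
    (h : ∀ M : Ideal R, M.IsMaximal → I ≤ M → M = P) : IsLocalRing (R ⧸ I) := by
  haveI : Nontrivial (R ⧸ I) := Ideal.Quotient.nontrivial_iff.mpr hI
  obtain ⟨N, hN⟩ := Ideal.exists_maximal (R ⧸ I)
  have key : ∀ N' : Ideal (R ⧸ I), N'.IsMaximal → N'.comap (Ideal.Quotient.mk I) = P := by
    intro N' hN'
    refine h _ (Ideal.comap_isMaximal_of_surjective _ Ideal.Quotient.mk_surjective) ?_
    intro x hx
    rw [Ideal.mem_comap, Ideal.Quotient.eq_zero_iff_mem.mpr hx]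
    exact zero_mem _
  refine IsLocalRing.of_unique_max_ideal ⟨N, hN, fun N' hN' => ?_⟩
  rw [← Ideal.map_comap_of_surjective _ Ideal.Quotient.mk_surjective N',
    ← Ideal.map_comap_of_surjective _ Ideal.Quotient.mk_surjective N, key N hN, key N' hN']

section Invol

variable {S : Type u} {R : Type v} [CommRing S] [CommRing R] [Algebra S R]
  (lam : R ≃+* R) (hlam : Function.Involutive lam) (hS : RInv.IsFixedRing S R lam)

include hlam hS

theorem exists_trace (r : R) : ∃ s : S, algebraMap S R s = r + lam r := by
  have : lam (r + lam r) = r + lam r := by rw [map_add, hlam r, add_comm]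
  obtain ⟨s, hs⟩ := (hS.2 _).mp this
  exact ⟨s, hs⟩

theorem exists_norm (r : R) : ∃ s : S, algebraMap S R s = r * lam r := by
  have : lam (r * lam r) = r * lam r := by rw [map_mul, hlam r, mul_comm]
  obtain ⟨s, hs⟩ := (hS.2 _).mp this
  exact ⟨s, hs⟩

omit hlam in
theorem lam_algebraMap (s : S) : lam (algebraMap S R s) = algebraMap S R s :=
  (hS.2 _).mpr ⟨s, rfl⟩

theorem isIntegral : Algebra.IsIntegral S R := by
  refine ⟨fun r => ?_⟩
  obtain ⟨t, ht⟩ := exists_trace lam hlam hS r
  obtain ⟨n, hn⟩ := exists_norm lam hlam hS r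
  refine ⟨X ^ 2 - C t * X + C n, ?_, ?_⟩
  · have : (X ^ 2 - C t * X + C n : S[X]) = X ^ 2 - (C t * X - C n) := by ring
    rw [this]
    apply Polynomial.monic_X_pow_sub
    have h1 : (C t * X - C n : S[X]).degree ≤ 1 := by
      refine (Polynomial.degree_sub_le _ _).trans (max_le ?_ ?_)
      · exact (Polynomial.degree_C_mul_X_le t)
      · exact (Polynomial.degree_C_le).trans (by norm_num)
    exact lt_of_le_of_lt h1 (by norm_num)
  · simp only [eval₂_add, eval₂_sub, eval₂_mul, eval₂_pow, eval₂_X, eval₂_C, ht, hn]
    ring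


/-- The contraction of a maximal ideal of `R` is the maximal ideal of the local ring `S`. -/
theorem comap_eq_maximalIdeal [IsLocalRing S] (M : Ideal R) [hM : M.IsMaximal] :
    M.comap (algebraMap S R) = maximalIdeal S := by
  haveI := isIntegral lam hlam hS
  exact IsLocalRing.eq_maximalIdeal (Ideal.isMaximal_comap_of_isIntegral_of_isMaximal M)

omit hlam hS in
theorem comap_lam_isMaximal (M : Ideal R) [hM : M.IsMaximal] :
    (M.comap (lam : R →+* R)).IsMaximal :=
  Ideal.comap_isMaximal_of_surjective _ lam.surjective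

/-- Any maximal ideal of `R` is `M` or its conjugate. -/
theorem eq_or_eq_comap [IsLocalRing S] (M : Ideal R) [hM : M.IsMaximal] (M' : Ideal R)
    [hM' : M'.IsMaximal] : M' = M ∨ M' = M.comap (lam : R →+* R) := by
  haveI hlM := comap_lam_isMaximal lam M
  by_contra hcon
  rw [not_or] at hcon
  have h1 : ¬ M' ≤ M := fun hle => hcon.1 (hM'.eq_of_le hM.ne_top hle)
  have h2 : ¬ M' ≤ M.comap (lam : R →+* R) := fun hle => hcon.2 (hM'.eq_of_le hlM.ne_top hle)
  have h3 : ¬ ((M' : Set R) ⊆ (M : Set R) ∪ (M.comap (lam : R →+* R) : Ideal R)) := by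
    rw [Ideal.subset_union]
    rintro (h | h)
    · exact h1 h
    · exact h2 h
  rw [Set.not_subset] at h3
  obtain ⟨r, hrM', hr⟩ := h3
  rw [Set.mem_union, not_or] at hr
  have hr1 : r ∉ M := hr.1
  have hr2 : lam r ∉ M := hr.2
  obtain ⟨n, hn⟩ := exists_norm lam hlam hS r
  have hn1 : n ∈ M'.comap (algebraMap S R) := by
    rw [Ideal.mem_comap, hn]
    exact M'.mul_mem_right _ hrM'
  rw [comap_eq_maximalIdeal lam hlam hS M', ← comap_eq_maximalIdeal lam hlam hS M,
    Ideal.mem_comap, hn] at hn1
  rcases hM.isPrime.mem_or_mem hn1 with h | h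
  · exact hr1 h
  · exact hr2 h

/-- If the maximal ideal `M` is stable under the involution then `R` is local. -/
theorem isLocalRing_of_comap_eq [IsLocalRing S] (M : Ideal R) [hM : M.IsMaximal]
    (h : M.comap (lam : R →+* R) = M) : IsLocalRing R := by
  refine IsLocalRing.of_unique_max_ideal ⟨M, hM, fun M' hM' => ?_⟩
  haveI := hM'
  rcases eq_or_eq_comap lam hlam hS M M' with h' | h'
  · exact h'
  · rw [h', h]

omit hlam hS in
theorem monic_quad (t n : S) : (X ^ 2 - C t * X + C n : S[X]).Monic := by
  have : (X ^ 2 - C t * X + C n : S[X]) = X ^ 2 - (C t * X - C n) := by ring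
  rw [this]
  apply Polynomial.monic_X_pow_sub
  have h1 : (C t * X - C n : S[X]).degree ≤ 1 := by
    refine (Polynomial.degree_sub_le _ _).trans (max_le ?_ ?_)
    · exact (Polynomial.degree_C_mul_X_le t)
    · exact (Polynomial.degree_C_le).trans (by norm_num)
  exact lt_of_le_of_lt h1 (by norm_num)

/-- If the maximal ideal `M` is not stable under the involution, henselianity of `S` yields an
idempotent separating `M` from its conjugate. -/
theorem exists_idem [HenselianLocalRing S] (M : Ideal R) [hM : M.IsMaximal]
    (h : M.comap (lam : R →+* R) ≠ M) :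
    ∃ e : R, e * e = e ∧ e ∉ M ∧ (1 - e) ∈ M ∧ lam e = 1 - e := by
  haveI hlM := comap_lam_isMaximal lam M
  have hle : ¬ M ≤ M.comap (lam : R →+* R) := fun hle => h (hM.eq_of_le hlM.ne_top hle).symm
  obtain ⟨r, hrM, hr⟩ := SetLike.not_le_iff_exists.mp hle
  have hr2 : lam r ∉ M := hr
  obtain ⟨t, ht⟩ := exists_trace lam hlam hS r
  obtain ⟨n, hn⟩ := exists_norm lam hlam hS r
  have hcm := comap_eq_maximalIdeal lam hlam hS M
  have hmem : ∀ s : S, s ∈ maximalIdeal S ↔ algebraMap S R s ∈ M := by
    intro s; rw [← hcm, Ideal.mem_comap]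
  have htu : IsUnit t := by
    by_contra hnu
    have hh : t ∈ maximalIdeal S := hnu
    rw [hmem, ht] at hh
    exact hr2 ((Ideal.add_mem_iff_right M hrM).mp hh)
  have hnm : n ∈ maximalIdeal S := by
    rw [hmem, hn]; exact M.mul_mem_right _ hrM
  -- Hensel
  have hp : (X ^ 2 - C t * X + C n : S[X]).Monic := monic_quad t n
  have h0 : (X ^ 2 - C t * X + C n : S[X]).eval 0 ∈ maximalIdeal S := by
    simpa using hnm
  have h1 : IsUnit ((X ^ 2 - C t * X + C n : S[X]).derivative.eval 0) := by
    simpa using htu
  obtain ⟨s, hsroot, hs0⟩ := HenselianLocalRing.is_henselian _ hp 0 h0 h1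
  rw [sub_zero] at hs0
  have hsr : s ^ 2 - t * s + n = 0 := by simpa [Polynomial.IsRoot] using hsroot
  have hu : IsUnit (s - (t - s)) := by
    by_contra hnu
    have h' : s - (t - s) ∈ maximalIdeal S := hnu
    have h'' : t ∈ maximalIdeal S := by
      have h2 : t = 2 * s - (s - (t - s)) := by ring
      rw [h2]
      exact Ideal.sub_mem _ (Ideal.mul_mem_left _ _ hs0) h'
    exact h'' htu
  obtain ⟨u, hu⟩ := hu
  -- in R
  have hσM : algebraMap S R s ∈ M := (hmem s).mp hs0
  have hsrR : (algebraMap S R s) ^ 2 - (algebraMap S R t) * (algebraMap S R s)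
      + algebraMap S R n = 0 := by
    rw [← map_pow, ← map_mul, ← map_sub, ← map_add, hsr, map_zero]
  have hui : (algebraMap S R s - (algebraMap S R t - algebraMap S R s)) *
      algebraMap S R (↑u⁻¹ : S) = 1 := by
    rw [← map_sub, ← map_sub, ← map_mul, ← hu, Units.mul_inv, map_one]
  have hlσ := lam_algebraMap lam hS s
  have hlτ := lam_algebraMap lam hS t
  have hlu := lam_algebraMap lam hS (↑u⁻¹ : S)
  generalize algebraMap S R s = σ at *
  generalize algebraMap S R t = τ at *
  generalize algebraMap S R n = ν at *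
  generalize algebraMap S R (↑u⁻¹ : S) = ui at *
  have hQ : (r - (τ - σ)) * (r - σ) = 0 := by
    rw [ht, hn] at hsrR
    rw [ht]
    linear_combination (-1 : R) * hsrR
  refine ⟨(r - (τ - σ)) * ui, ?_, ?_, ?_, ?_⟩
  · linear_combination (ui ^ 2) * hQ + ((r - (τ - σ)) * ui) * hui
  · intro he
    have h3 : (r - (τ - σ)) * ui * (σ - (τ - σ)) ∈ M := M.mul_mem_right _ he
    have h4 : (r - (τ - σ)) * ui * (σ - (τ - σ)) = r - (τ - σ) := by
      linear_combination (r - (τ - σ)) * hui
    rw [h4, ht] at h3
    have h5 : lam r = σ - (r - (r + lam r - σ)) := by ring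
    rw [h5] at hr2
    exact hr2 (M.sub_mem hσM h3)
  · have h3 : 1 - (r - (τ - σ)) * ui = (σ - r) * ui := by
      linear_combination (-1 : R) * hui
    rw [h3]
    exact M.mul_mem_right _ (M.sub_mem hσM hrM)
  · rw [map_mul, map_sub, map_sub, hlσ, hlτ, hlu]
    have h3 : lam r = τ - r := by rw [ht]; ring
    rw [h3]
    linear_combination hui

/-- A quotient of `R` with a unique maximal ideal is strictly henselian. -/
theorem strict_quotient [HenselianLocalRing S] [IsSepClosed (ResidueField S)]
    (I P : Ideal R) (hI : I ≠ ⊤)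
    (h : ∀ M : Ideal R, M.IsMaximal → I ≤ M → M = P) :
    ∃ _ : HenselianLocalRing (R ⧸ I), IsSepClosed (ResidueField (R ⧸ I)) := by
  haveI := isIntegral lam hlam hS
  haveI := isLocalRing_quotient I P hI h
  exact strict_of_isIntegral S (R ⧸ I)

end Invol

/-- Main theorem: `R` is a finite product of strictly henselian local rings. -/
theorem main (S : Type u) (R : Type v) [CommRing S] [CommRing R]
    [Algebra S R] (lam : R ≃+* R) (hlam : Function.Involutive lam) (hS : RInv.IsFixedRing S R lam)
    [HenselianLocalRing S] [IsSepClosed (IsLocalRing.ResidueField S)] :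
    ∃ (ι : Type) (_ : Fintype ι) (T : ι → Type v) (_ : ∀ i, CommRing (T i))
      (_ : ∀ i, HenselianLocalRing (T i)),
      (∀ i, IsSepClosed (IsLocalRing.ResidueField (T i))) ∧ Nonempty (R ≃+* (∀ i, T i)) := by
  haveI hint := isIntegral lam hlam hS
  haveI : Nontrivial R := hS.1.nontrivial
  obtain ⟨M, hM⟩ := Ideal.exists_maximal R
  by_cases h : M.comap (lam : R →+* R) = M
  · haveI := isLocalRing_of_comap_eq lam hlam hS M h
    obtain ⟨h1, h2⟩ := strict_of_isIntegral S R
    exact ⟨Unit, inferInstance, fun _ => R, fun _ => inferInstance, fun _ => h1, fun _ => h2,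
      ⟨(RingEquiv.piUnique (fun _ : Unit => R)).symm⟩⟩
  · obtain ⟨e, hee, heM, h1e, hle⟩ := exists_idem lam hlam hS M h
    haveI hlM := comap_lam_isMaximal lam M
    have heL : e ∈ M.comap (lam : R →+* R) := by
      rw [Ideal.mem_comap]
      show lam e ∈ M
      rw [hle]; exact h1e
    have h1eL : (1 - e) ∉ M.comap (lam : R →+* R) := by
      intro hh
      apply hlM.ne_top
      rw [Ideal.eq_top_iff_one]
      have : (1 : R) = e + (1 - e) := by ring
      rw [this]
      exact Ideal.add_mem _ heL hh
    let f : Bool → Ideal R := fun b => cond b (Ideal.span {e}) (Ideal.span {1 - e})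
    have hall : ∀ b, ∃ _ : HenselianLocalRing (R ⧸ f b),
        IsSepClosed (ResidueField (R ⧸ f b)) := by
      intro b
      cases b
      · -- false: span {1 - e}, unique maximal ideal M
        refine strict_quotient lam hlam hS (Ideal.span {1 - e}) M ?_ ?_
        · intro htop
          apply hM.ne_top
          rw [eq_top_iff, ← htop, Ideal.span_singleton_le_iff_mem]
          exact h1e
        · intro M' hM' hle'
          haveI := hM'
          rcases eq_or_eq_comap lam hlam hS M M' with h' | h'
          · exact h'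
          · exfalso
            apply h1eL
            rw [← h']
            exact hle' (Ideal.mem_span_singleton_self _)
      · -- true: span {e}, unique maximal ideal the conjugate of M
        refine strict_quotient lam hlam hS (Ideal.span {e}) (M.comap (lam : R →+* R)) ?_ ?_
        · intro htop
          apply hlM.ne_top
          rw [eq_top_iff, ← htop, Ideal.span_singleton_le_iff_mem]
          exact heL
        · intro M' hM' hle'
          haveI := hM'
          rcases eq_or_eq_comap lam hlam hS M M' with h' | h'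
          · exfalso
            apply heM
            rw [← h']
            exact hle' (Ideal.mem_span_singleton_self _)
          · exact h'
    choose hH hSep using hall
    have hcop : Pairwise (Function.onFun IsCoprime f) := by
      have h01 : IsCoprime (Ideal.span {e}) (Ideal.span {1 - e}) := by
        rw [Ideal.isCoprime_span_singleton_iff]
        exact ⟨1, 1, by ring⟩
      intro i j hij
      cases i <;> cases j
      · exact absurd rfl hij
      · exact h01.symm
      · exact h01
      · exact absurd rfl hij
    have hbot : (⊥ : Ideal R) = ⨅ b, f b := by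
      rw [iInf_bool_eq]
      show ⊥ = Ideal.span {e} ⊓ Ideal.span {1 - e}
      symm
      rw [eq_bot_iff]
      rintro x ⟨hx1, hx2⟩
      obtain ⟨a, ha⟩ := Ideal.mem_span_singleton'.mp hx1
      obtain ⟨b, hb⟩ := Ideal.mem_span_singleton'.mp hx2
      rw [Ideal.mem_bot]
      have : x = b * (1 - e) * e + a * e * (1 - e) := by
        rw [ha, hb]; ring
      rw [this]
      linear_combination (-(b : R) - a) * hee
    refine ⟨Bool, inferInstance, fun b => R ⧸ f b, fun b => inferInstance, hH, hSep, ⟨?_⟩⟩
    exact (RingEquiv.quotientBot R).symm.trans ((Ideal.quotEquivOfEq hbot).trans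
      (Ideal.quotientInfRingEquivPiQuotient f hcop))

end Groth.Agent.Lib.R2H7.InvolHensel
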