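import Mathlib
import Groth.Agent.Lib.R2H7IsoLift
import Groth.Agent.Lib.R2H7SepSplitC

/-!
# R2H7IsoLiftFin: finite groups of multiplicative type over the residue field of a henselian local
ring lift

* `exists_isotrivial_lift_finite`: the lift of `R2H7IsoLift.exists_isotrivial_lift` is finite over
  `R` when the given Hopf algebra is finite over `R ⧸ I` (`R ⧸ I` nontrivial).
* `exists_lift_residueField`: a finite group of multiplicative type over the residue field of a
  henselian local ring lifts to a finite isotrivial group of multiplicative type.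
-/

set_option autoImplicit false
universe u

namespace Groth.Agent.Lib.R2H7.IsoLiftFin

open TensorProduct Coalgebra SGA3b
open Groth.Agent.Lib.R2H7.TwLift Groth.Agent.Lib.Helper25 Groth.Agent.Lib.R2H7.IsoLift

theorem finite_of_finite_monoidAlgebra (S : Type u) [CommRing S] [Nontrivial S] (M : Type u)
    [CommGroup M] [Module.Finite S (MonoidAlgebra S M)] : Finite M :=
  Module.Finite.finite_basis (MonoidAlgebra.basis M S)

theorem exists_isotrivial_lift_finite (R : Type u) [CommRing R] (I : Ideal R) [HenselianRing R I]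
    [Nontrivial (R ⧸ I)]
    (A₀ : Type u) [CommRing A₀] [HopfAlgebra (R ⧸ I) A₀] [Module.Finite (R ⧸ I) A₀]
    (h0 : IsIsotrivial (R ⧸ I) A₀) :
    ∃ (A : Type u) (_ : CommRing A) (_ : HopfAlgebra R A), Module.Finite R A ∧
      IsIsotrivial R A ∧ Nonempty (((R ⧸ I) ⊗[R] A) ≃ₐc[R ⧸ I] A₀) := by
  obtain ⟨k', _, _, hét, hfin, hff, hD⟩ := h0
  haveI := hét
  haveI := hfin
  haveI := hff
  obtain ⟨R', _, _, hfinR', hétR', ⟨ε⟩⟩ := Groth.Agent.S0532.result R I k'
  haveI := hfinR'
  haveI := hétR'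
  haveI : Module.FaithfullyFlat (R ⧸ I) ((R ⧸ I) ⊗[R] R') :=
    Module.FaithfullyFlat.of_linearEquiv (R ⧸ I) k' ε.toLinearEquiv
  haveI hffR' : Module.FaithfullyFlat R R' :=
    faithfullyFlat_of_le_jacobson I R' HenselianRing.jac
  letI : Algebra k' ((R ⧸ I) ⊗[R] R') := ε.symm.toAlgHom.toRingHom.toAlgebra
  haveI : IsScalarTower (R ⧸ I) k' ((R ⧸ I) ⊗[R] R') :=
    IsScalarTower.of_algebraMap_eq (fun x => (ε.symm.commutes x).symm)
  obtain ⟨M, _, ⟨θ₀⟩⟩ := BCB.isDiag_baseChange_of_tower (R ⧸ I) A₀ k' ((R ⧸ I) ⊗[R] R') hD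
  obtain ⟨A, _, _, ⟨Θ⟩, ⟨e⟩⟩ := exists_lift_form (isQuot_quotient I) (R' := R') θ₀
  -- finiteness
  haveI : Nontrivial ((R ⧸ I) ⊗[R] R') :=
    (FaithfulSMul.algebraMap_injective (R ⧸ I) ((R ⧸ I) ⊗[R] R')).nontrivial
  haveI : Module.Finite ((R ⧸ I) ⊗[R] R') (MonoidAlgebra ((R ⧸ I) ⊗[R] R') M) :=
    Module.Finite.equiv θ₀.toCoalgEquiv.toLinearEquiv
  haveI : Finite M := finite_of_finite_monoidAlgebra ((R ⧸ I) ⊗[R] R') M
  haveI : Module.Finite R' (MonoidAlgebra R' M) := Module.Finite.of_basis (MonoidAlgebra.basis M R')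
  haveI : Module.Finite R' (R' ⊗[R] A) :=
    Module.Finite.equiv Θ.symm.toCoalgEquiv.toLinearEquiv
  have hfinA : Module.Finite R A := Module.Finite.of_finite_tensorProduct_of_faithfullyFlat R'
  exact ⟨A, inferInstance, inferInstance, hfinA,
    ⟨R', inferInstance, inferInstance, hétR', hfinR', hffR', ⟨M, inferInstance, ⟨Θ⟩⟩⟩, ⟨e⟩⟩

/-- A finite group of multiplicative type over the residue field of a henselian local ring lifts to
a finite isotrivial group of multiplicative type. -/
theorem exists_lift_residueField (R : Type u) [CommRing R] [HenselianLocalRing R]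
    (C₀ : Type u) [CommRing C₀] [HopfAlgebra (IsLocalRing.ResidueField R) C₀]
    [Module.Finite (IsLocalRing.ResidueField R) C₀]
    (h₀ : IsMultType (IsLocalRing.ResidueField R) C₀) :
    ∃ (C : Type u) (_ : CommRing C) (_ : HopfAlgebra R C), Module.Finite R C ∧ IsIsotrivial R C ∧
      Nonempty ((IsLocalRing.ResidueField R ⊗[R] C) ≃ₐc[IsLocalRing.ResidueField R] C₀) := by
  have hiso := Groth.Agent.Lib.R2H7.SepSplitC.isIsotrivial_of_field (IsLocalRing.ResidueField R)
    C₀ inferInstance h₀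
  letI inst' : HopfAlgebra (R ⧸ IsLocalRing.maximalIdeal R) C₀ :=
    ‹HopfAlgebra (IsLocalRing.ResidueField R) C₀›
  haveI : Module.Finite (R ⧸ IsLocalRing.maximalIdeal R) C₀ :=
    ‹Module.Finite (IsLocalRing.ResidueField R) C₀›
  haveI : Nontrivial (R ⧸ IsLocalRing.maximalIdeal R) :=
    inferInstanceAs (Nontrivial (IsLocalRing.ResidueField R))
  exact exists_isotrivial_lift_finite R (IsLocalRing.maximalIdeal R) C₀ hiso

end Groth.Agent.Lib.R2H7.IsoLiftFin
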