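import Mathlib
import Groth.Prelude.Def_StabCat
import Groth.Agent.Lib.R2H7StabNum
import Groth.Agent.Lib.R2H7HilbStab
import Groth.Agent.Lib.R2H7HilbStabB
import Groth.Agent.Lib.R2H7HilbStabC
import Groth.Agent.Lib.R2H7ValLattice
import Groth.Agent.Lib.R2H7HNBridge
import Groth.Agent.Lib.R2H7JHUnique

/-!
# helper7: the graded objects of a sub and a quotient with the reduced polynomial of a semistable
object are direct summands of its graded object

For a semistable `E` (axioms `HilbStab.Ax`), a tested subobject `G` with the reduced polynomial of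
`E` and the quotient `E / G`: both have Jordan-Hölder filtrations, and for any such filtrations the
factors of `G` and of `E / G` together are the factors of `E` up to a bijection of the index sets
(`exists_factor_equiv`; Jordan-Hölder theorem for the concatenated composition series).  Hence
`gr G` and `gr (E / G)` are retracts of `gr E` (`gr_retracts`).
-/

set_option autoImplicit false
universe v u
open CategoryTheory CategoryTheory.Limits Polynomial StabCat Filter
open Groth.Agent.Lib.R2H7.StabNum Groth.Agent.Lib.R2H7.HilbStab Groth.Agent.Lib.R2H7.ValLattice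
  Groth.Agent.Lib.R2H7.HNBridge Groth.Agent.Lib.R2H7.JHUnique

namespace Groth.Agent.Lib.R2H7.JHSummand

variable {C : Type u} [Category.{v} C] [Abelian C]

/-! ### preimages of subobjects under an epimorphism -/

section Pre

variable {E Q : C} (π : E ⟶ Q) [Epi π]

/-- the preimage of a subobject -/
noncomputable abbrev pre (S : Subobject Q) : Subobject E := (Subobject.pullback π).obj S

instance epi_pullbackπ (S : Subobject Q) : Epi (Subobject.pullbackπ π S) :=
  Abelian.epi_fst_of_isLimit _ _ (Subobject.isPullback π S).isLimit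

theorem pullbackπ_arrow (S : Subobject Q) :
    Subobject.pullbackπ π S ≫ S.arrow = (pre π S).arrow ≫ π :=
  (Subobject.isPullback π S).w

theorem pre_mono {A B : Subobject Q} (h : A ≤ B) : pre π A ≤ pre π B :=
  (Subobject.pullback π).monotone h

theorem ofLE_pullbackπ {A B : Subobject Q} (h : A ≤ B) :
    Subobject.ofLE (pre π A) (pre π B) (pre_mono π h) ≫ Subobject.pullbackπ π B =
      Subobject.pullbackπ π A ≫ Subobject.ofLE A B h := by
  rw [← cancel_mono B.arrow, Category.assoc, Category.assoc, pullbackπ_arrow, ← Category.assoc,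
    Subobject.ofLE_arrow, Subobject.ofLE_arrow, pullbackπ_arrow]

theorem pre_eq_mk_kernel (S : Subobject Q) :
    pre π S = Subobject.mk (kernel.ι (π ≫ cokernel.π S.arrow)) := by
  apply le_antisymm
  · have w : (pre π S).arrow ≫ π ≫ cokernel.π S.arrow = 0 := by
      rw [← Category.assoc, ← pullbackπ_arrow, Category.assoc, cokernel.condition,
        Limits.comp_zero]
    exact Subobject.le_mk_of_comm (kernel.lift _ _ w) (kernel.lift_ι _ _ _)
  · have w : (kernel.ι (π ≫ cokernel.π S.arrow) ≫ π) ≫ cokernel.π S.arrow = 0 := by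
      rw [Category.assoc, kernel.condition]
    have e : Abelian.monoLift S.arrow _ w ≫ S.arrow =
        kernel.ι (π ≫ cokernel.π S.arrow) ≫ π := Abelian.monoLift_comp _ _ _
    exact Subobject.mk_le_of_comm ((Subobject.isPullback π S).lift _ _ e)
      ((Subobject.isPullback π S).lift_snd _ _ e)

theorem pre_factor_iso {A B : Subobject Q} (h : A ≤ B) :
    Nonempty (cokernel (Subobject.ofLE (pre π A) (pre π B) (pre_mono π h)) ≅
      cokernel (Subobject.ofLE A B h)) := by
  obtain ⟨φ, hφ⟩ : ∃ φ : (pre π B : C) ⟶ cokernel (Subobject.ofLE A B h),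
      φ = Subobject.pullbackπ π B ≫ cokernel.π (Subobject.ofLE A B h) := ⟨_, rfl⟩
  haveI : Epi φ := by
    rw [hφ]
    exact epi_comp _ _
  have hker : Subobject.mk (kernel.ι φ ≫ (pre π B).arrow) = pre π A := by
    apply le_antisymm
    · have w : (kernel.ι φ ≫ Subobject.pullbackπ π B) ≫ cokernel.π (Subobject.ofLE A B h) = 0 := by
        rw [Category.assoc, ← hφ]
        exact kernel.condition φ
      have e : Abelian.monoLift (Subobject.ofLE A B h) _ w ≫ A.arrow =
          (kernel.ι φ ≫ (pre π B).arrow) ≫ π := by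
        rw [← Subobject.ofLE_arrow h, ← Category.assoc, Abelian.monoLift_comp, Category.assoc,
          pullbackπ_arrow, Category.assoc]
      exact Subobject.mk_le_of_comm ((Subobject.isPullback π A).lift _ _ e)
        ((Subobject.isPullback π A).lift_snd _ _ e)
    · have w : Subobject.ofLE (pre π A) (pre π B) (pre_mono π h) ≫ φ = 0 := by
        rw [hφ, ← Category.assoc, ofLE_pullbackπ π h, Category.assoc, cokernel.condition,
          Limits.comp_zero]
      exact Subobject.le_mk_of_comm (kernel.lift φ _ w)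
        (by rw [← Category.assoc, kernel.lift_ι, Subobject.ofLE_arrow])
  obtain ⟨e1⟩ := cokernelOfLEIso (pre_mono π h) (kernel.ι φ ≫ (pre π B).arrow)
    (pre π B).arrow hker (Subobject.mk_arrow _) (kernel.ι φ) rfl
  haveI := Abelian.isIso_factorThruCoimage φ
  exact ⟨e1 ≪≫ asIso (Abelian.factorThruCoimage φ)⟩

theorem pre_strictMono : StrictMono (pre π) := by
  intro A B hlt
  refine lt_of_le_of_ne (pre_mono π hlt.le) (fun heq => ?_)
  obtain ⟨e⟩ := pre_factor_iso π hlt.le
  have hz : IsZero (cokernel (Subobject.ofLE (pre π A) (pre π B) (pre_mono π hlt.le))) := by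
    haveI : IsIso (Subobject.ofLE (pre π A) (pre π B) (pre_mono π hlt.le)) :=
      ⟨⟨Subobject.ofLE _ _ heq.ge, by rw [Subobject.ofLE_comp_ofLE, Subobject.ofLE_refl],
        by rw [Subobject.ofLE_comp_ofLE, Subobject.ofLE_refl]⟩⟩
    exact isZero_cokernel_of_epi _
  exact not_isZero_cokernel _ (not_isIso_ofLE hlt) (hz.of_iso e.symm)

end Pre

theorem pre_bot_eq {E G : C} (ι : G ⟶ E) [Mono ι] :
    pre (cokernel.π ι) ⊥ = Subobject.mk ι := by
  apply le_antisymm
  · have w : (pre (cokernel.π ι) ⊥).arrow ≫ cokernel.π ι = 0 := by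
      rw [← pullbackπ_arrow, Subobject.bot_arrow, Limits.comp_zero]
    exact Subobject.le_mk_of_comm (Abelian.monoLift ι _ w) (Abelian.monoLift_comp _ _ _)
  · have e : (0 : G ⟶ ((⊥ : Subobject (cokernel ι)) : C)) ≫
        (⊥ : Subobject (cokernel ι)).arrow = ι ≫ cokernel.π ι := by
      rw [Limits.zero_comp, cokernel.condition]
    exact Subobject.mk_le_of_comm ((Subobject.isPullback (cokernel.π ι) ⊥).lift _ _ e)
      ((Subobject.isPullback (cokernel.π ι) ⊥).lift_snd _ _ e)

/-! ### generalities -/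

theorem subsingleton_subobject {Z : C} (hz : IsZero Z) : Subsingleton (Subobject Z) :=
  ⟨fun a b => by
    rw [eq_bot_of_isZero (IsZero.of_mono a.arrow hz), eq_bot_of_isZero (IsZero.of_mono b.arrow hz)]⟩

theorem map_factor_iso {F E : C} (ι : F ⟶ E) [Mono ι] {A B : Subobject F} (h : A ≤ B)
    (h' : (Subobject.map ι).obj A ≤ (Subobject.map ι).obj B) :
    Nonempty (cokernel (Subobject.ofLE ((Subobject.map ι).obj A) ((Subobject.map ι).obj B) h') ≅
      cokernel (Subobject.ofLE A B h)) :=
  cokernelOfLEIso h' (A.arrow ≫ ι) (B.arrow ≫ ι)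
    (by rw [← Subobject.map_mk, Subobject.mk_arrow])
    (by rw [← Subobject.map_mk, Subobject.mk_arrow]) (Subobject.ofLE A B h)
    (by rw [← Category.assoc, Subobject.ofLE_arrow])

/-- a coproduct over a subset of the indices is a retract -/
theorem retract_sigma {n m : ℕ} (A : Fin n → C) (B : Fin m → C) (φ : Fin n → Fin m)
    (hφ : Function.Injective φ) (e : ∀ a, Nonempty (A a ≅ B (φ a))) :
    ∃ (i : (∐ A) ⟶ (∐ B)) (r : (∐ B) ⟶ (∐ A)), i ≫ r = 𝟙 _ := by
  classical
  refine ⟨Sigma.desc (fun a => (Classical.choice (e a)).hom ≫ Sigma.ι B (φ a)),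
    Sigma.desc (fun b => ∑ a : Fin n, if h : φ a = b then
      eqToHom (congrArg B h.symm) ≫ (Classical.choice (e a)).inv ≫ Sigma.ι A a else 0), ?_⟩
  apply Sigma.hom_ext
  intro a
  rw [Sigma.ι_desc_assoc, Category.assoc, Sigma.ι_desc, Category.comp_id]
  rw [Finset.sum_eq_single a]
  · rw [dif_pos rfl, eqToHom_refl, Category.id_comp, Iso.hom_inv_id_assoc]
  · intro a' _ hne
    rw [dif_neg (fun h => hne (hφ h))]
  · intro h
    exact absurd (Finset.mem_univ a) h

variable {ok : C → Prop} {HP : C → ℚ[X] → Prop} {sdim : C → WithBot ℕ∞}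

section WithAx

variable (ax : Ax ok HP sdim)
include ax

/-- a step between members of the sublattice with stable quotient is a covering -/
theorem isMax_of_st (axn : AxN ok HP)
    (hacc : ∀ {Q : C}, ok Q → WellFoundedGT {S : Subobject Q // ok (S : C)})
    (hbi : ∀ {A B : C}, ok A → ok B → ok (A ⊞ B)) {E : C} {d : ℕ}
    (hE : SS ok HP sdim E d) {pE : ℚ[X]} (hpE : HP E pE) {x y : Subobject E}
    (hA : InX ok HP d pE x) (hB : InX ok HP d pE y) (hlt : x < y)
    (hst : St ok HP sdim (cokernel (Subobject.ofLE x y hlt.le)) d) :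
    IsMax ok HP d pE x y := by
  have okE := hE.1
  have nzE := hE.2.1
  have pureE := hE.2.2.1
  have hvl := vl ax axn hacc hbi okE nzE pureE
  refine ⟨hA, hB, hlt, ?_⟩
  intro z hz hAz hzB
  by_contra hne
  have hzB' : z < y := lt_of_le_of_ne hzB hne
  obtain ⟨G, γ, hγ, okG, nzG, hpG⟩ := quot_of_sub ax hAz.le hzB hA.1 hz.1 hAz
  obtain ⟨okQ, hpQ⟩ := quot_ok_hp ax hlt.le hA.1 hB.1
  have hniso : ¬ IsIso γ := by
    intro hi
    haveI := hi
    have h1 := ax.hp_unique hpQ (ax.hp_iso (asIso γ) hpG)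
    have hPP : PP HP y = PP HP z := sub_left_inj.1 h1
    obtain ⟨m, hm⟩ := (hvl.mono hz.1 hB.1 hzB').exists
    rw [hPP] at hm
    exact lt_irrefl _ hm
  have hlt' : RedLT d (PP HP z - PP HP x) (PP HP y - PP HP x) :=
    hst.2.2.2 G γ hγ okG nzG hniso _ _ hpG hpQ
  have e1 : RedEq d (PP HP z - PP HP x) pE := redEq_sub hz.2 hA.2
  have e2 : RedEq d (PP HP y - PP HP x) pE := redEq_sub hB.2 hA.2
  have aE : alpha d pE ≠ 0 := (ax.alpha_pos_of_pure okE nzE pureE hpE).ne'
  have e3 : RedEq d (PP HP z - PP HP x) (PP HP y - PP HP x) := redEq_trans aE e1 e2.symm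
  exact not_redLT_of_redLE (redLE_of_redEq' e3) hlt'

/-- the members of a chain from `⊥` to `⊤` whose factors have reduced polynomial `P0` -/
theorem inX_of_chain (axn : AxN ok HP) {F : C} (okF : ok F) {d : ℕ} {P0 : ℚ[X]}
    (s : LTSeries (Subobject F)) (hhead : s.head = ⊥) (hlast : s.last = ⊤)
    (hfac : ∀ i : Fin s.length, ok (factor s i) ∧
      ∀ p : ℚ[X], HP (factor s i) p → RedEq d p P0) :
    ∀ i : Fin (s.length + 1), ok ((s i : Subobject F) : C) ∧ RedEq d (PP HP (s i)) P0 := by
  have hok := ok_of_factors ax axn okF s hlast (fun i => (hfac i).1)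
  have heq : ∀ (n : ℕ) (h : n < s.length + 1), RedEq d (PP HP (s ⟨n, h⟩)) P0 := by
    intro n
    induction n with
    | zero =>
      intro h
      have e1 : s ⟨0, h⟩ = s.head := rfl
      rw [e1, hhead, PP_bot ax axn okF]
      exact redEq_zero d _
    | succ n ih =>
      intro h
      have hq := (quot_ok_hp ax (le_of_lt (s.step ⟨n, by omega⟩)) (hok _) (hok _)).2
      have h1 := (hfac ⟨n, by omega⟩).2 _ hq
      have h2 := redEq_add (ih (by omega)) h1
      have e : PP HP (s ⟨n, by omega⟩) +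
          (PP HP (s (Fin.succ ⟨n, by omega⟩)) - PP HP (s (Fin.castSucc ⟨n, by omega⟩))) =
          PP HP (s ⟨n + 1, h⟩) := by
        show PP HP (s ⟨n, _⟩) + (PP HP (s ⟨n + 1, _⟩) - PP HP (s ⟨n, _⟩)) = _
        ring
      rw [e] at h2
      exact h2
  intro i
  exact ⟨hok i, heq i.val i.isLt⟩

/-- the trivial filtration of a zero object -/
theorem isJH_of_isZero {Z : C} {d : ℕ} (hz : IsZero Z) :
    ∃ s : LTSeries (Subobject Z), IsJHWith (fun F => St ok HP sdim F d) HP d Z s := by
  haveI := subsingleton_subobject hz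
  exact ⟨RelSeries.singleton _ ⊥, rfl, Subsingleton.elim _ _, fun i => i.elim0⟩

/-- **the factors of `G` and of `E / G` are the factors of `E`** -/
theorem exists_factor_equiv (axn : AxN ok HP)
    (hacc : ∀ {Q : C}, ok Q → WellFoundedGT {S : Subobject Q // ok (S : C)})
    (hbi : ∀ {A B : C}, ok A → ok B → ok (A ⊞ B)) {E : C} {d : ℕ}
    (hE : SS ok HP sdim E d) (sE : LTSeries (Subobject E))
    (hsE : IsJHWith (fun F => St ok HP sdim F d) HP d E sE)
    {G : C} (ι : G ⟶ E) [Mono ι] (okG : ok G) {pG pE : ℚ[X]} (hpG : HP G pG) (hpE : HP E pE)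
    (hred : RedEq d pG pE)
    (sG : LTSeries (Subobject G)) (hsG : IsJHWith (fun F => St ok HP sdim F d) HP d G sG)
    (sQ : LTSeries (Subobject (cokernel ι)))
    (hsQ : IsJHWith (fun F => St ok HP sdim F d) HP d (cokernel ι) sQ) :
    ∃ f : Fin (sG.length + sQ.length) ≃ Fin sE.length,
      (∀ j : Fin sG.length,
        Nonempty (factor sG j ≅ factor sE (f (Fin.castAdd sQ.length j)))) ∧
      (∀ k : Fin sQ.length,
        Nonempty (factor sQ k ≅ factor sE (f (Fin.natAdd sG.length k)))) := by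
  have okE := hE.1
  have okQ : ok (cokernel ι) := ax.ok_coker ι okG okE
  have hpQ : HP (cokernel ι) (pE - pG) := ax.hp_coker ι okG okE hpG hpE
  -- the factors of `sG` and `sQ` have the reduced polynomial of `E`
  have hfG : ∀ j : Fin sG.length, ok (factor sG j) ∧
      ∀ p : ℚ[X], HP (factor sG j) p → RedEq d p pE := by
    intro j
    refine ⟨(hsG.2.2 j).1.1, fun p hp => ?_⟩
    have h1 := (hsG.2.2 j).2 p pG hp hpG
    have nzG : ¬ IsZero G := fun hz => by
      haveI := subsingleton_subobject hz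
      have hstep : sG j.castSucc < sG j.succ := sG.step j
      exact hstep.ne (Subsingleton.elim _ _)
    have aG : alpha d pG ≠ 0 :=
      (ax.alpha_pos d okG hpG (hE.2.2.1 G ι inferInstance okG nzG)).ne'
    exact redEq_trans aG h1 hred
  have hfQ : ∀ k : Fin sQ.length, ok (factor sQ k) ∧
      ∀ p : ℚ[X], HP (factor sQ k) p → RedEq d p pE := by
    intro k
    have hst := (hsQ.2.2 k).1
    refine ⟨hst.1, fun p hp => ?_⟩
    have h1 := (hsQ.2.2 k).2 p (pE - pG) hp hpQ
    have nzQ : ¬ IsZero (cokernel ι) := fun hz => by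
      haveI := subsingleton_subobject hz
      have hstep : sQ k.castSucc < sQ k.succ := sQ.step k
      exact hstep.ne (Subsingleton.elim _ _)
    have ap : 0 < alpha d p := ax.alpha_pos_of_pure hst.1 hst.2.1 hst.2.2.1 hp
    have aQ : alpha d (pE - pG) ≠ 0 := by
      intro h0
      unfold RedEq at h1
      rw [h0, zero_smul] at h1
      have h2 : pE - pG = 0 := by
        rcases smul_eq_zero.1 h1.symm with h | h
        · exact absurd h ap.ne'
        · exact h
      obtain ⟨m, hm⟩ := (ax.eventually_pos okQ nzQ hpQ).exists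
      rw [h2, eval_zero] at hm
      exact lt_irrefl _ hm
    exact redEq_trans aQ h1 (redEq_sub (redEq_refl d pE) hred)
  have hcG := inX_of_chain ax axn okG sG hsG.1 hsG.2.1 hfG
  have hcQ := inX_of_chain ax axn okQ sQ hsQ.1 hsQ.2.1 hfQ
  -- members of the sublattice of `E`
  have hX1 : ∀ i : Fin (sG.length + 1), InX ok HP d pE ((Subobject.map ι).obj (sG i)) := by
    intro i
    obtain ⟨h1, h2⟩ := PP_mk ax axn ((sG i).arrow ≫ ι) (hcG i).1 (hp_PP ax (hcG i).1)
    rw [← Subobject.map_mk, Subobject.mk_arrow] at h1 h2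
    exact ⟨h1, by rw [h2]; exact (hcG i).2⟩
  have hX2 : ∀ i : Fin (sQ.length + 1), InX ok HP d pE (pre (cokernel.π ι) (sQ i)) := by
    intro i
    have okS := (hcQ i).1
    have okC := ax.ok_coker (sQ i).arrow okS okQ
    have hpC := ax.hp_coker (sQ i).arrow okS okQ (hp_PP ax okS) hpQ
    haveI : Epi (cokernel.π ι ≫ cokernel.π (sQ i).arrow) := epi_comp _ _
    have okK := ax.ok_ker (cokernel.π ι ≫ cokernel.π (sQ i).arrow) okE okC
    have hpK := ax.hp_ker (cokernel.π ι ≫ cokernel.π (sQ i).arrow) okE okC hpE hpC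
    obtain ⟨h1, h2⟩ :=
      PP_mk ax axn (kernel.ι (cokernel.π ι ≫ cokernel.π (sQ i).arrow)) okK hpK
    rw [← pre_eq_mk_kernel] at h1 h2
    refine ⟨h1, ?_⟩
    rw [h2]
    have e : pE - (pE - pG - PP HP (sQ i)) = pG + PP HP (sQ i) := by ring
    rw [e]
    exact redEq_add hred (hcQ i).2
  letI := jhInst ax axn hacc hbi hE hpE
  have hf : StrictMono (Subobject.map ι).obj :=
    (Subobject.map ι).monotone.strictMono_of_injective (Subobject.map_obj_injective ι)
  have hpre : StrictMono (pre (cokernel.π ι)) := pre_strictMono (cokernel.π ι)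
  have hiso1 : ∀ j : Fin sG.length,
      Nonempty (cokernel (Subobject.ofLE ((Subobject.map ι).obj (sG j.castSucc))
        ((Subobject.map ι).obj (sG j.succ)) (hf (sG.step j)).le) ≅ factor sG j) := fun j =>
    map_factor_iso ι (sG.step j).le _
  have hiso2 : ∀ k : Fin sQ.length,
      Nonempty (cokernel (Subobject.ofLE (pre (cokernel.π ι) (sQ k.castSucc))
        (pre (cokernel.π ι) (sQ k.succ)) (hpre (sQ.step k)).le) ≅ factor sQ k) := fun k =>
    pre_factor_iso (cokernel.π ι) (sQ.step k).le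
  let c1 : CompositionSeries (Subobject E) :=
    ⟨sG.length, fun i => (Subobject.map ι).obj (sG i), fun j =>
      isMax_of_st ax axn hacc hbi hE hpE (hX1 _) (hX1 _) (hf (sG.step j))
        (ax.st_of_iso axn (Classical.choice (hiso1 j)).symm (hsG.2.2 j).1)⟩
  let c2 : CompositionSeries (Subobject E) :=
    ⟨sQ.length, fun i => pre (cokernel.π ι) (sQ i), fun k =>
      isMax_of_st ax axn hacc hbi hE hpE (hX2 _) (hX2 _) (hpre (sQ.step k))
        (ax.st_of_iso axn (Classical.choice (hiso2 k)).symm (hsQ.2.2 k).1)⟩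
  let cs : CompositionSeries (Subobject E) :=
    ⟨sE.length, sE.toFun, fun i => isMax_of_jh ax axn hacc hbi hE hpE sE hsE i⟩
  have eG0 : sG 0 = ⊥ := hsG.1
  have eGl : sG (Fin.last sG.length) = ⊤ := hsG.2.1
  have eQ0 : sQ 0 = ⊥ := hsQ.1
  have eQl : sQ (Fin.last sQ.length) = ⊤ := hsQ.2.1
  have eE0 : sE 0 = ⊥ := hsE.1
  have eEl : sE (Fin.last sE.length) = ⊤ := hsE.2.1
  have h12 : c1.last = c2.head := by
    show (Subobject.map ι).obj (sG (Fin.last sG.length)) = pre (cokernel.π ι) (sQ 0)
    rw [eGl, eQ0, Subobject.map_top, pre_bot_eq]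
  have hb : (RelSeries.smash c1 c2 h12).head = cs.head := by
    rw [RelSeries.head_smash]
    show (Subobject.map ι).obj (sG 0) = sE 0
    rw [eG0, eE0, Subobject.map_bot]
  have ht : (RelSeries.smash c1 c2 h12).last = cs.last := by
    rw [RelSeries.last_smash]
    show pre (cokernel.π ι) (sQ (Fin.last sQ.length)) = sE (Fin.last sE.length)
    rw [eQl, eEl]
    exact Subobject.pullback_top _
  obtain ⟨f, hfI⟩ := CompositionSeries.jordan_holder (RelSeries.smash c1 c2 h12) cs hb ht
  refine ⟨f, ?_, ?_⟩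
  · intro j
    have h2 : (RelSeries.smash c1 c2 h12) (Fin.castSucc (Fin.castAdd sQ.length j)) =
        (Subobject.map ι).obj (sG j.castSucc) := RelSeries.smash_castAdd h12 j
    have h3 : (RelSeries.smash c1 c2 h12) (Fin.succ (Fin.castAdd sQ.length j)) =
        (Subobject.map ι).obj (sG j.succ) := RelSeries.smash_succ_castAdd h12 j
    have h1 : JordanHolderLattice.Iso
        ((Subobject.map ι).obj (sG j.castSucc), (Subobject.map ι).obj (sG j.succ))
        (sE (Fin.castSucc (f (Fin.castAdd sQ.length j))),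
          sE (Fin.succ (f (Fin.castAdd sQ.length j)))) :=
      (congrArg₂ (fun a b : Subobject E => JordanHolderLattice.Iso (a, b)
        (sE (Fin.castSucc (f (Fin.castAdd sQ.length j))),
          sE (Fin.succ (f (Fin.castAdd sQ.length j))))) h2 h3).mp
        (hfI (Fin.castAdd sQ.length j))
    obtain ⟨e⟩ := qIso_of_iso h1
    obtain ⟨e1⟩ := Qp_iso (hf (sG.step j)).le
    obtain ⟨e2⟩ := Qp_iso (le_of_lt (sE.step (f (Fin.castAdd sQ.length j))))
    obtain ⟨e0⟩ := hiso1 j
    exact ⟨e0.symm ≪≫ e1.symm ≪≫ e ≪≫ e2⟩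
  · intro k
    have h2 : (RelSeries.smash c1 c2 h12) (Fin.castSucc (Fin.natAdd sG.length k)) =
        pre (cokernel.π ι) (sQ k.castSucc) := RelSeries.smash_natAdd h12 k
    have h3 : (RelSeries.smash c1 c2 h12) (Fin.succ (Fin.natAdd sG.length k)) =
        pre (cokernel.π ι) (sQ k.succ) := RelSeries.smash_succ_natAdd h12 k
    have h1 : JordanHolderLattice.Iso
        (pre (cokernel.π ι) (sQ k.castSucc), pre (cokernel.π ι) (sQ k.succ))
        (sE (Fin.castSucc (f (Fin.natAdd sG.length k))),
          sE (Fin.succ (f (Fin.natAdd sG.length k)))) :=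
      (congrArg₂ (fun a b : Subobject E => JordanHolderLattice.Iso (a, b)
        (sE (Fin.castSucc (f (Fin.natAdd sG.length k))),
          sE (Fin.succ (f (Fin.natAdd sG.length k))))) h2 h3).mp
        (hfI (Fin.natAdd sG.length k))
    obtain ⟨e⟩ := qIso_of_iso h1
    obtain ⟨e1⟩ := Qp_iso (hpre (sQ.step k)).le
    obtain ⟨e2⟩ := Qp_iso (le_of_lt (sE.step (f (Fin.natAdd sG.length k))))
    obtain ⟨e0⟩ := hiso2 k
    exact ⟨e0.symm ≪≫ e1.symm ≪≫ e ≪≫ e2⟩

/-- existence of a Jordan-Hölder filtration of a tested subobject with the reduced polynomial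
of a semistable object -/
theorem exists_jh_sub (axn : AxN ok HP) {E : C} {d : ℕ} (hE : SS ok HP sdim E d)
    {G : C} (ι : G ⟶ E) [Mono ι] (okG : ok G) {pG pE : ℚ[X]} (hpG : HP G pG) (hpE : HP E pE)
    (hred : RedEq d pG pE) :
    ∃ s : LTSeries (Subobject G), IsJHWith (fun F => St ok HP sdim F d) HP d G s := by
  by_cases hz : IsZero G
  · exact isJH_of_isZero ax hz
  · exact ax.exists_jh axn (ax.ss_of_sub_redEq hE ι okG hz hpG hpE hred)

/-- existence of a Jordan-Hölder filtration of the quotient -/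
theorem exists_jh_quot (axn : AxN ok HP) {E : C} {d : ℕ} (hE : SS ok HP sdim E d)
    {G : C} (ι : G ⟶ E) [Mono ι] (okG : ok G) {pG pE : ℚ[X]} (hpG : HP G pG) (hpE : HP E pE)
    (hred : RedEq d pG pE) :
    ∃ s : LTSeries (Subobject (cokernel ι)),
      IsJHWith (fun F => St ok HP sdim F d) HP d (cokernel ι) s := by
  by_cases hzQ : IsZero (cokernel ι)
  · exact isJH_of_isZero ax hzQ
  · by_cases hzG : IsZero G
    · haveI : Mono (cokernel.π ι) := by
        refine Preadditive.mono_of_cancel_zero _ (fun {T} g hg => ?_)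
        rw [← Abelian.monoLift_comp ι g hg, hzG.eq_of_tgt (Abelian.monoLift ι g hg) 0,
          Limits.zero_comp]
      haveI : IsIso (cokernel.π ι) := isIso_of_mono_of_epi _
      exact ax.exists_jh axn (ax.ss_of_iso axn (asIso (cokernel.π ι)) hE)
    · have hniso : ¬ IsIso ι := fun h => by
        haveI := h
        exact hzQ (isZero_cokernel_of_epi ι)
      exact ax.exists_jh axn (ax.ss_quot hE ι okG hzG hniso hpG hpE hred)

/-- **the graded objects of `G` and `E / G` are retracts of the graded object of `E`** -/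
theorem gr_retracts (axn : AxN ok HP)
    (hacc : ∀ {Q : C}, ok Q → WellFoundedGT {S : Subobject Q // ok (S : C)})
    (hbi : ∀ {A B : C}, ok A → ok B → ok (A ⊞ B)) {E : C} {d : ℕ}
    (hE : SS ok HP sdim E d) (sE : LTSeries (Subobject E))
    (hsE : IsJHWith (fun F => St ok HP sdim F d) HP d E sE)
    {G : C} (ι : G ⟶ E) [Mono ι] (okG : ok G) {pG pE : ℚ[X]} (hpG : HP G pG) (hpE : HP E pE)
    (hred : RedEq d pG pE) :
    (∃ sG : LTSeries (Subobject G), IsJHWith (fun F => St ok HP sdim F d) HP d G sG ∧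
      ∃ (i : grObj sG ⟶ grObj sE) (r : grObj sE ⟶ grObj sG), i ≫ r = 𝟙 _) ∧
    (∃ sQ : LTSeries (Subobject (cokernel ι)),
      IsJHWith (fun F => St ok HP sdim F d) HP d (cokernel ι) sQ ∧
      ∃ (i : grObj sQ ⟶ grObj sE) (r : grObj sE ⟶ grObj sQ), i ≫ r = 𝟙 _) := by
  obtain ⟨sG, hsG⟩ := exists_jh_sub ax axn hE ι okG hpG hpE hred
  obtain ⟨sQ, hsQ⟩ := exists_jh_quot ax axn hE ι okG hpG hpE hred
  obtain ⟨f, h1, h2⟩ :=
    exists_factor_equiv ax axn hacc hbi hE sE hsE ι okG hpG hpE hred sG hsG sQ hsQ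
  refine ⟨⟨sG, hsG, ?_⟩, ⟨sQ, hsQ, ?_⟩⟩
  · exact retract_sigma (fun j => factor sG j) (fun i => factor sE i)
      (fun j => f (Fin.castAdd sQ.length j))
      (f.injective.comp (Fin.castAdd_injective _ _)) h1
  · exact retract_sigma (fun k => factor sQ k) (fun i => factor sE i)
      (fun k => f (Fin.natAdd sG.length k))
      (f.injective.comp (Fin.natAdd_injective _ _)) h2

end WithAx

end Groth.Agent.Lib.R2H7.JHSummand
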