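/-
The class of a Zariski locally trivial fibration in the Grothendieck ring of varieties:
`[X] = [Y] · [F]` (S17499).  (helper7)
-/
import Mathlib
import Groth.Prelude.Def_K0Var

set_option autoImplicit false

open CategoryTheory CategoryTheory.Limits AlgebraicGeometry

namespace Groth.Agent.Lib.R2H7.K0Fib

universe u

variable {S : Scheme.{u}}

theorem cl_eq_of_eq {X : Scheme.{u}} (f f' : X ⟶ S) [LocallyOfFiniteType f] [QuasiCompact f]
    [LocallyOfFiniteType f'] [QuasiCompact f'] (h : f = f') : K0Var.cl f = K0Var.cl f' := by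
  subst h; rfl

theorem cl_eq_zero_of_isEmpty {X : Scheme.{u}} (f : X ⟶ S) [LocallyOfFiniteType f]
    [QuasiCompact f] [IsEmpty X] : K0Var.cl f = 0 := by
  haveI : IsEmpty (K0Var.Gen.mk X f).X := ‹IsEmpty X›
  exact K0Var.Gen.cl_eq_zero_of_isEmpty (K0Var.Gen.mk X f)

variable {X Y F : Scheme.{u}} (pY : Y ⟶ S) (pF : F ⟶ S) (f : X ⟶ Y)
  [LocallyOfFiniteType pF] [QuasiCompact pF]

/-- the class identity `[X ×_Y Y'] = [Y'] [F]` for the base change along `g` -/
def Good {Y' : Scheme.{u}} (g : Y' ⟶ Y) : Prop :=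
  ∀ (q : Y' ⟶ S) [LocallyOfFiniteType q] [QuasiCompact q] (r : pullback f g ⟶ S)
    [LocallyOfFiniteType r] [QuasiCompact r],
    q = g ≫ pY → r = pullback.snd f g ≫ q → K0Var.cl r = K0Var.cl q * K0Var.cl pF

/-- a fibration which is trivial over `U` is good after any base change factoring through `U` -/
theorem good_of_triv (U : Y.Opens) (e : (f ⁻¹ᵁ U).toScheme ≅ pullback (U.ι ≫ pY) pF)
    (he : e.hom ≫ pullback.fst (U.ι ≫ pY) pF = f ∣_ U) {Y' : Scheme.{u}} (h : Y' ⟶ U.toScheme) :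
    Good pY pF f (h ≫ U.ι) := by
  intro q _ _ r _ _ hq hr
  have hR := (isPullback_morphismRestrict f U).flip
  let l : pullback f (h ≫ U.ι) ⟶ (f ⁻¹ᵁ U).toScheme :=
    hR.lift (pullback.fst f (h ≫ U.ι)) (pullback.snd f (h ≫ U.ι) ≫ h) (by
      rw [Category.assoc]; exact pullback.condition)
  have hl1 : l ≫ (f ⁻¹ᵁ U).ι = pullback.fst f (h ≫ U.ι) := hR.lift_fst _ _ _
  have hl2 : l ≫ f ∣_ U = pullback.snd f (h ≫ U.ι) ≫ h := hR.lift_snd _ _ _
  have hleft : IsPullback l (pullback.snd f (h ≫ U.ι)) (f ∣_ U) h := by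
    refine IsPullback.of_right (h₁₂ := (f ⁻¹ᵁ U).ι) (h₂₂ := U.ι) (v₁₃ := f) ?_ hl2 hR
    rw [hl1]
    exact IsPullback.of_hasPullback f (h ≫ U.ι)
  have hmid : IsPullback e.hom (f ∣_ U) (pullback.fst (U.ι ≫ pY) pF) (𝟙 U.toScheme) :=
    IsPullback.of_horiz_isIso ⟨by rw [he, Category.comp_id]⟩
  have hright : IsPullback (pullback.snd (U.ι ≫ pY) pF) (pullback.fst (U.ι ≫ pY) pF) pF
      (U.ι ≫ pY) := (IsPullback.of_hasPullback (U.ι ≫ pY) pF).flip
  have hall := (hleft.paste_horiz (hmid.paste_horiz hright)).flip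
  have hq' : h ≫ 𝟙 U.toScheme ≫ U.ι ≫ pY = q := by
    rw [hq]; simp
  rw [hq'] at hall
  let φ := hall.isoPullback
  have hφ : φ.hom ≫ pullback.fst q pF = pullback.snd f (h ≫ U.ι) := hall.isoPullback_hom_fst
  rw [K0Var.cl_congr r (pullback.fst q pF ≫ q) φ (by rw [← Category.assoc, hφ, hr])]
  exact K0Var.cl_mul q pF

theorem good_of_isEmpty {Y' : Scheme.{u}} (g : Y' ⟶ Y) [IsEmpty Y'] : Good pY pF f g := by
  intro q _ _ r _ _ _ _
  haveI : IsEmpty ↥(pullback f g) := Function.isEmpty (pullback.snd f g)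
  rw [cl_eq_zero_of_isEmpty r, cl_eq_zero_of_isEmpty q, zero_mul]

variable [LocallyOfFiniteType f] [QuasiCompact f]

/-- a piece of a scissor decomposition -/
theorem cl_piece {Y' Z : Scheme.{u}} (g : Y' ⟶ Y) (i : Z ⟶ Y') (hG : Good pY pF f (i ≫ g))
    (q : Y' ⟶ S) (r : pullback f g ⟶ S) (hq : q = g ≫ pY) (hr : r = pullback.snd f g ≫ q)
    [LocallyOfFiniteType (i ≫ q)] [QuasiCompact (i ≫ q)]
    [LocallyOfFiniteType (pullback.fst (pullback.snd f g) i ≫ r)]
    [QuasiCompact (pullback.fst (pullback.snd f g) i ≫ r)] :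
    K0Var.cl (pullback.fst (pullback.snd f g) i ≫ r) = K0Var.cl (i ≫ q) * K0Var.cl pF := by
  let ψ := pullbackLeftPullbackSndIso f g i
  have h1 := hG (i ≫ q) (pullback.snd f (i ≫ g) ≫ i ≫ q) (by rw [hq, Category.assoc]) rfl
  rw [← h1]
  refine K0Var.cl_congr _ _ ψ ?_
  rw [← Category.assoc, pullbackLeftPullbackSndIso_hom_snd, hr, ← Category.assoc,
    ← Category.assoc, pullback.condition]

variable [IsLocallyNoetherian S]

theorem good_step (U : Y.Opens)
    (hU : ∀ {Y' : Scheme.{u}} (h : Y' ⟶ U.toScheme), Good pY pF f (h ≫ U.ι))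
    {Y' : Scheme.{u}} (g : Y' ⟶ Y)
    (hZ : ∀ {Z : Scheme.{u}} (i : Z ⟶ Y') [IsClosedImmersion i], (∀ z, g (i z) ∉ U) →
      Good pY pF f (i ≫ g)) : Good pY pF f g := by
  intro q _ _ r _ _ hq hr
  haveI : IsLocallyNoetherian Y' := LocallyOfFiniteType.isLocallyNoetherian q
  haveI : IsLocallyNoetherian (pullback f g) := LocallyOfFiniteType.isLocallyNoetherian r
  let V : Y'.Opens := g ⁻¹ᵁ U
  let Zc : TopologicalSpace.Closeds Y' := ⟨(V : Set Y')ᶜ, V.isOpen.isClosed_compl⟩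
  let I := Scheme.IdealSheafData.vanishingIdeal Zc
  have hri : Set.range I.subschemeι = (Set.range V.ι)ᶜ := by
    rw [Scheme.IdealSheafData.range_subschemeι, Scheme.IdealSheafData.coe_support_vanishingIdeal,
      Scheme.Opens.range_ι]
    rfl
  have s1 := K0Var.cl_scissor q I.subschemeι V.ι hri
  have hrW : Set.range (pullback.fst (pullback.snd f g) I.subschemeι) =
      (Set.range (pullback.fst (pullback.snd f g) V.ι))ᶜ := by
    rw [Scheme.Pullback.range_fst, Scheme.Pullback.range_fst, hri, Set.preimage_compl]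
  have s2 := K0Var.cl_scissor r (pullback.fst (pullback.snd f g) I.subschemeι)
    (pullback.fst (pullback.snd f g) V.ι) hrW
  have gZ : Good pY pF f (I.subschemeι ≫ g) := by
    refine hZ I.subschemeι fun z hz => ?_
    have h1 : I.subschemeι z ∈ Set.range I.subschemeι := ⟨z, rfl⟩
    rw [hri, Scheme.Opens.range_ι] at h1
    exact h1 hz
  have gV : Good pY pF f (V.ι ≫ g) := by
    have : V.ι ≫ g = g ∣_ U ≫ U.ι := (morphismRestrict_ι g U).symm
    rw [this]
    exact hU _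
  have c1 := cl_piece pY pF f g I.subschemeι gZ q r hq hr
  have c2 := cl_piece pY pF f g V.ι gV q r hq hr
  rw [s2, c1, c2, s1]
  ring

variable [LocallyOfFiniteType pY] [QuasiCompact pY] [CompactSpace S]

theorem main (hf : ∀ y : Y, ∃ (U : Y.Opens) (e : (f ⁻¹ᵁ U).toScheme ≅ pullback (U.ι ≫ pY) pF),
      y ∈ U ∧ e.hom ≫ pullback.fst (U.ι ≫ pY) pF = f ∣_ U) :
    K0Var.cl (f ≫ pY) = K0Var.cl pY * K0Var.cl pF := by
  classical
  choose U e hyU he using hf
  haveI : CompactSpace Y := QuasiCompact.compactSpace_of_compactSpace pY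
  obtain ⟨t, ht⟩ := isCompact_univ.elim_finite_subcover (fun y => ((U y : Y.Opens) : Set Y))
    (fun y => (U y).isOpen) (fun y _ => Set.mem_iUnion.mpr ⟨y, hyU y⟩)
  have key : ∀ (t : Finset Y) {Y' : Scheme.{u}} (g : Y' ⟶ Y),
      (∀ y', ∃ y ∈ t, g y' ∈ U y) → Good pY pF f g := by
    intro t
    induction t using Finset.induction_on with
    | empty =>
      intro Y' g hg
      haveI : IsEmpty Y' := ⟨fun y' => by
        obtain ⟨y, hy, -⟩ := hg y'
        exact absurd hy (Finset.notMem_empty y)⟩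
      exact good_of_isEmpty pY pF f g
    | insert y₀ t _ ih =>
      intro Y' g hg
      refine good_step pY pF f (U y₀) (fun h => good_of_triv pY pF f (U y₀) (e y₀) (he y₀) h) g ?_
      intro Z i _ hi
      refine ih (i ≫ g) fun z => ?_
      obtain ⟨y, hy, hyU'⟩ := hg (i z)
      rcases Finset.mem_insert.mp hy with rfl | hy
      · exact absurd hyU' (hi z)
      · exact ⟨y, hy, by rwa [Scheme.Hom.comp_apply]⟩
  have hgood := key t (𝟙 Y) (fun y' => by
    have := ht (Set.mem_univ y')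
    simp only [Set.mem_iUnion] at this
    obtain ⟨y, hy, hy'⟩ := this
    exact ⟨y, hy, by simpa using hy'⟩)
  have h1 := hgood pY (pullback.snd f (𝟙 Y) ≫ pY) (by simp) rfl
  rw [← h1]
  refine (K0Var.cl_congr _ _ (asIso (pullback.fst f (𝟙 Y))) ?_).symm
  rw [asIso_hom, ← Category.assoc, pullback.condition, Category.comp_id]

end Groth.Agent.Lib.R2H7.K0Fib
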