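import Mathlib

/-!
# The rank of the differentials of a standard smooth localization
-/

set_option autoImplicit false
set_option linter.style.haveILetI false

namespace Groth.Agent.Lib.R2H7.RelFrob

universe u v w

open KaehlerDifferential

theorem relativeDimension_eq_of_localization (A : Type u) [CommRing A] (B : Type v) [CommRing B]
    [Algebra A B] [Algebra.Smooth A B] (Br : Type w) [CommRing Br] [Algebra A Br] [Algebra B Br] [IsScalarTower A B Br]
    (M : Submonoid B) [IsLocalization M Br] [Nontrivial Br] (n : ℕ)
    [Algebra.IsStandardSmoothOfRelativeDimension n A Br] (r : ℕ)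
    (hr : ∀ q : PrimeSpectrum B, Module.rankAtStalk (R := B) (Ω[B⁄A]) q = r) : n = r := by
  haveI : Algebra.IsStandardSmooth A Br :=
    Algebra.IsStandardSmoothOfRelativeDimension.isStandardSmooth n
  obtain ⟨y⟩ := (inferInstance : Nonempty (PrimeSpectrum Br))
  haveI := Algebra.FormallyEtale.of_isLocalization (Rₘ := Br) M
  have h1 : Module.rankAtStalk (R := Br) (Ω[Br⁄A]) y =
      Module.rankAtStalk (R := B) (Ω[B⁄A]) (PrimeSpectrum.comap (algebraMap B Br) y) :=
    Module.rankAtStalk_isBaseChange (KaehlerDifferential.isBaseChange_of_formallyEtale A B Br) y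
  rw [hr, Module.rankAtStalk_eq_finrank_of_free] at h1
  have h2 : Module.finrank Br (Ω[Br⁄A]) = n :=
    Module.finrank_eq_of_rank_eq
      (Algebra.IsStandardSmoothOfRelativeDimension.rank_kaehlerDifferential n)
  simp only [Pi.natCast_def, Nat.cast_id] at h1
  omega

end Groth.Agent.Lib.R2H7.RelFrob
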