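import Mathlib
import Groth.Prelude.Def_SGA3b
import Groth.Agent.Lib.R2H7KerFT2

/-!
# R2H7KerFT3: the kernel of a homomorphism from a group of multiplicative type and of finite type
to an affine group of finite presentation is of multiplicative type

* `exists_common`, `exists_mul_coeff_eq_zero`, `exists_smul_eq_zero_of_Hmap`: spreading out of
  vanishing from the local ring at a prime to a basic open neighbourhood.
* `isDiag_quotient_of_subgroup`: if over `Y` the ideal `J` dies in `Y[M ⧸ N]` and the characters in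
  `N` become trivial modulo `J`, then `Y ⊗ (A ⧸ J) ≃ Y[M ⧸ N]`.
* `exists_isDiag_away`, `kernel_isMultType`.
-/

set_option autoImplicit false
universe u

namespace Groth.Agent.Lib.R2H7.KerFT

open TensorProduct Coalgebra SGA3b
open Groth.Agent.Lib.Helper25 Groth.Agent.Lib.R2H7.GLLift Groth.Agent.Lib.R2H7.PInsepHom
  Groth.Agent.Lib.R2H7.QuotGL Groth.Agent.Lib.R2H7.KerMT Groth.Agent.Lib.R2H7.MTDesc

section Common

theorem exists_common {T : Type u} [CommRing T] (𝔮 : Ideal T) [h𝔮 : 𝔮.IsPrime] {ι : Type*}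
    (F : Finset ι) (P : ι → T → Prop) (hmul : ∀ i s t, P i s → P i (t * s))
    (hP : ∀ i ∈ F, ∃ s, s ∉ 𝔮 ∧ P i s) : ∃ s, s ∉ 𝔮 ∧ ∀ i ∈ F, P i s := by
  classical
  induction F using Finset.induction_on with
  | empty =>
    exact ⟨1, fun h => h𝔮.ne_top ((Ideal.eq_top_iff_one _).mpr h), fun i hi => by simp at hi⟩
  | insert a F' ha ih =>
    obtain ⟨s₁, hs₁, h1⟩ := hP a (Finset.mem_insert_self a F')
    obtain ⟨s₂, hs₂, h2⟩ := ih (fun i hi => hP i (Finset.mem_insert_of_mem hi))
    refine ⟨s₂ * s₁, fun h => (h𝔮.mem_or_mem h).elim hs₂ hs₁, fun i hi => ?_⟩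
    rcases Finset.mem_insert.mp hi with rfl | hi'
    · exact hmul _ _ _ h1
    · rw [mul_comm]
      exact hmul _ _ _ (h2 i hi')

theorem exists_mul_coeff_eq_zero {T : Type u} [CommRing T] (𝔮 : Ideal T) [𝔮.IsPrime]
    {Q : Type u} [CommGroup Q] (x : MonoidAlgebra T Q)
    (hx : MonoidAlgebra.mapAlgHom Q (Algebra.ofId T (Localization.AtPrime 𝔮)) x = 0) :
    ∃ s, s ∉ 𝔮 ∧ ∀ m, s * x.coeff m = 0 := by
  classical
  have h0 : ∀ m, algebraMap T (Localization.AtPrime 𝔮) (x.coeff m) = 0 := by
    intro m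
    have h1 := congrArg (fun w => w.coeff m) hx
    simpa [MonoidAlgebra.coeff_mapAlgHom] using h1
  obtain ⟨s, hs, h⟩ := exists_common 𝔮 x.coeff.support (fun m s => s * x.coeff m = 0)
    (fun m s t h => by rw [mul_assoc, h, mul_zero])
    (fun m _ => by
      obtain ⟨t, ht⟩ := (IsLocalization.map_eq_zero_iff 𝔮.primeCompl
        (Localization.AtPrime 𝔮) (x.coeff m)).mp (h0 m)
      exact ⟨t, t.2, ht⟩)
  refine ⟨s, hs, fun m => ?_⟩
  by_cases hm : m ∈ x.coeff.support
  · exact h m hm
  · rw [Finsupp.notMem_support_iff.mp hm, mul_zero]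

theorem mapAlgHom_eq_zero_of_unit {T Y : Type u} [CommRing T] [CommRing Y] [Algebra T Y]
    {Q : Type u} [CommGroup Q] (x : MonoidAlgebra T Q) (s : T) (hs : IsUnit (algebraMap T Y s))
    (h : ∀ m, s * x.coeff m = 0) : MonoidAlgebra.mapAlgHom Q (Algebra.ofId T Y) x = 0 := by
  apply MonoidAlgebra.ext
  apply Finsupp.ext
  intro m
  rw [MonoidAlgebra.coeff_mapAlgHom, Algebra.ofId_apply]
  have h1 := congrArg (algebraMap T Y) (h m)
  rw [map_mul, map_zero] at h1
  exact (hs.mul_right_eq_zero).mp h1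

end Common

section Tensor

variable {R : Type u} [CommRing R] {A : Type u} [CommRing A] [HopfAlgebra R A]

theorem exists_smul_eq_zero_of_Hmap {T : Type u} [CommRing T] [Algebra R T] (𝔮 : Ideal T)
    [𝔮.IsPrime] (z : T ⊗[R] A)
    (hz : Hmap A (IsScalarTower.toAlgHom R T (Localization.AtPrime 𝔮)) z = 0) :
    ∃ s, s ∉ 𝔮 ∧ s • z = 0 := by
  have h1 : (1 : Localization.AtPrime 𝔮) ⊗ₜ[T] z = 0 := by
    have h2 := cancelBC_one_tmul (A := A) (IsScalarTower.toAlgHom R T (Localization.AtPrime 𝔮))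
      (fun _ => rfl) z
    rw [hz] at h2
    have h3 := congrArg (BCB.cancelBC R T (Localization.AtPrime 𝔮) A).symm h2
    rw [BialgEquiv.symm_apply_apply, map_zero] at h3
    exact h3
  haveI : IsLocalizedModule 𝔮.primeCompl
      (TensorProduct.mk T (Localization.AtPrime 𝔮) (T ⊗[R] A) 1) :=
    (isLocalizedModule_iff_isBaseChange 𝔮.primeCompl (Localization.AtPrime 𝔮) _).mpr
      (TensorProduct.isBaseChange T (T ⊗[R] A) (Localization.AtPrime 𝔮))
  obtain ⟨s, hs⟩ := (IsLocalizedModule.eq_zero_iff 𝔮.primeCompl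
    (TensorProduct.mk T (Localization.AtPrime 𝔮) (T ⊗[R] A) 1)).mp h1
  exact ⟨s, s.2, hs⟩

theorem Hmap_eq_zero_of_unit {X Y : Type u} [CommRing X] [CommRing Y] [Algebra R X] [Algebra R Y]
    (f : X →ₐ[R] Y) (z : X ⊗[R] A) (s : X) (hs : IsUnit (f s)) (h : s • z = 0) :
    Hmap A f z = 0 := by
  have h1 := Hmap_smul (A := A) f s z
  rw [h, map_zero] at h1
  exact (hs.smul_eq_zero).mp h1.symm

variable (J : Ideal A) [J.IsHopfIdeal R]

theorem Hmap_bcMk {X Y : Type u} [CommRing X] [CommRing Y] [Algebra R X] [Algebra R Y]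
    (f : X →ₐ[R] Y) (w : X ⊗[R] A) :
    Hmap (A ⧸ J) f (bcMk R J X w) = bcMk R J Y (Hmap A f w) := by
  induction w using TensorProduct.induction_on with
  | zero => simp
  | tmul x a => rfl
  | add a b ha hb => rw [map_add, map_add, ha, hb, map_add, map_add]

theorem Hmap_symm {X Y : Type u} [CommRing X] [CommRing Y] [Algebra R X] [Algebra R Y]
    [Algebra X Y] [IsScalarTower R X Y] {M : Type u} [CommGroup M]
    (e : X ⊗[R] A ≃ₐc[X] MonoidAlgebra X M) (f : X →ₐ[R] Y)
    (hf : ∀ s, f s = algebraMap X Y s) (v : MonoidAlgebra X M) :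
    Hmap A f (e.symm v) =
      (diagEquiv (Y := Y) e).symm (MonoidAlgebra.mapAlgHom M (Algebra.ofId X Y) v) := by
  have h1 := diagEquiv_apply_Hmap e f hf (e.symm v)
  rw [BialgEquiv.apply_symm_apply] at h1
  rw [← h1, BialgEquiv.symm_apply_apply]

theorem mapAlgHom_x {T Y : Type u} [CommRing T] [CommRing Y] [Algebra R T] [Algebra R Y]
    [Algebra T Y] [IsScalarTower R T Y] {M Q : Type u} [CommGroup M] [CommGroup Q]
    (ΘA : T ⊗[R] A ≃ₐc[T] MonoidAlgebra T M) (π : M →* Q) (a : A) :
    MonoidAlgebra.mapAlgHom Q (Algebra.ofId T Y)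
        (MonoidAlgebra.mapDomainBialgHom T π (ΘA ((1 : T) ⊗ₜ[R] a))) =
      MonoidAlgebra.mapDomainBialgHom Y π (diagEquiv (Y := Y) ΘA ((1 : Y) ⊗ₜ[R] a)) := by
  rw [mapAlgHom_mapDomainBialgHom,
    ← diagEquiv_apply_Hmap ΘA (IsScalarTower.toAlgHom R T Y) (fun _ => rfl), Hmap_one_tmul]

theorem Hmap_g {T Y : Type u} [CommRing T] [CommRing Y] [Algebra R T] [Algebra R Y]
    [Algebra T Y] [IsScalarTower R T Y] {M : Type u} [CommGroup M]
    (ΘA : T ⊗[R] A ≃ₐc[T] MonoidAlgebra T M) (v : MonoidAlgebra T M) :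
    Hmap (A ⧸ J) (IsScalarTower.toAlgHom R T Y) (bcMk R J T (ΘA.symm v)) =
      bcMk R J Y ((diagEquiv (Y := Y) ΘA).symm
        (MonoidAlgebra.mapAlgHom M (Algebra.ofId T Y) v)) := by
  rw [Hmap_bcMk, Hmap_symm ΘA _ (fun _ => rfl)]

/-- If over `Y` the ideal `J` dies in `Y[M ⧸ N]` and the characters in `N` become trivial modulo
`J`, then `Y ⊗ (A ⧸ J) ≃ Y[M ⧸ N]`. -/
theorem isDiag_quotient_of_subgroup {Y : Type u} [CommRing Y] [Algebra R Y] {M : Type u}
    [CommGroup M] (ΘA : Y ⊗[R] A ≃ₐc[Y] MonoidAlgebra Y M) (N : Subgroup M)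
    (h1 : ∀ a ∈ J, MonoidAlgebra.mapDomainBialgHom Y (QuotientGroup.mk' N)
      (ΘA ((1 : Y) ⊗ₜ[R] a)) = 0)
    (h2 : ∀ n ∈ N, bcMk R J Y (ΘA.symm (MonoidAlgebra.single n 1)) = 1) :
    IsDiag Y (Y ⊗[R] (A ⧸ J)) := by
  classical
  let π : M →* M ⧸ N := QuotientGroup.mk' N
  let p : Y ⊗[R] A →ₐc[Y] MonoidAlgebra Y (M ⧸ N) :=
    (MonoidAlgebra.mapDomainBialgHom Y π).comp ΘA.toBialgHom
  have hpa : ∀ b, p b = MonoidAlgebra.mapDomainBialgHom Y π (ΘA b) := fun _ => rfl
  have hp : ∀ a ∈ J, p ((1 : Y) ⊗ₜ[R] a) = 0 := fun a ha => h1 a ha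
  let σ₀ : M ⧸ N → M := Function.surjInv (QuotientGroup.mk'_surjective N)
  have hσ : ∀ q, π (σ₀ q) = q := Function.surjInv_eq (QuotientGroup.mk'_surjective N)
  let s : MonoidAlgebra Y (M ⧸ N) → Y ⊗[R] A :=
    fun w => ΘA.symm (MonoidAlgebra.mapDomain σ₀ w)
  have hsa : ∀ w, s w = ΘA.symm (MonoidAlgebra.mapDomain σ₀ w) := fun _ => rfl
  have hbij : Function.Bijective (pbar R J Y p hp) := by
    apply pbar_bijective R J Y p hp s
    · rw [hsa, MonoidAlgebra.mapDomain_zero, map_zero, map_zero]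
    · intro w
      rw [hpa, hsa, BialgEquiv.apply_symm_apply]
      induction w using MonoidAlgebra.induction_linear with
      | zero => rw [MonoidAlgebra.mapDomain_zero, map_zero]
      | add a b ha hb => rw [MonoidAlgebra.mapDomain_add, map_add, ha, hb]
      | single q r =>
        rw [MonoidAlgebra.mapDomain_single, MonoidAlgebra.mapDomainBialgHom_single, hσ]
    · intro b
      have h2' : ∀ v : MonoidAlgebra Y M, bcMk R J Y (ΘA.symm v) =
          bcMk R J Y (ΘA.symm (MonoidAlgebra.mapDomain σ₀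
            (MonoidAlgebra.mapDomainBialgHom Y π v))) := by
        intro v
        induction v using MonoidAlgebra.induction_linear with
        | zero => simp only [map_zero, MonoidAlgebra.mapDomain_zero]
        | add a b ha hb =>
          rw [map_add, map_add, map_add, MonoidAlgebra.mapDomain_add, map_add, map_add, ha, hb]
        | single m r =>
          rw [MonoidAlgebra.mapDomainBialgHom_single, MonoidAlgebra.mapDomain_single]
          have h3 : (σ₀ (π m))⁻¹ * m ∈ N := by
            have h4 : π (σ₀ (π m)) = π m := hσ (π m)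
            exact QuotientGroup.eq.mp h4
          have h6 : (MonoidAlgebra.single m r : MonoidAlgebra Y M) =
              MonoidAlgebra.single (σ₀ (π m)) r *
                MonoidAlgebra.single ((σ₀ (π m))⁻¹ * m) 1 := by
            rw [MonoidAlgebra.single_mul_single, mul_one, mul_inv_cancel_left]
          rw [h6, map_mul, map_mul, h2 _ h3, mul_one]
      have h7 := h2' (ΘA b)
      rw [BialgEquiv.symm_apply_apply] at h7
      rw [h7, hsa, hpa]
  exact ⟨M ⧸ N, inferInstance, ⟨BialgEquiv.ofBijective (pbar R J Y p hp) hbij⟩⟩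

end Tensor

section Spread

variable {R : Type u} [CommRing R] {A : Type u} [CommRing A] [HopfAlgebra R A]
  {C : Type u} [CommRing C] [HopfAlgebra R C] (φ : C →ₐc[R] A)
  (J : Ideal A) [J.IsHopfIdeal R]
  (hJ : J = Ideal.map φ (RingHom.ker (Bialgebra.counitAlgHom R C)))

include hJ in
/-- Near every prime of a base `T` over which `A` splits, `A ⧸ J` splits as well. -/
theorem exists_isDiag_away (hCfp : Algebra.FinitePresentation R C)
    (hAft : Algebra.FiniteType R A) {T : Type u} [CommRing T] [Algebra R T] {M : Type u}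
    [CommGroup M] (ΘA : T ⊗[R] A ≃ₐc[T] MonoidAlgebra T M) (𝔮 : Ideal T) [h𝔮 : 𝔮.IsPrime] :
    ∃ h : T, h ∉ 𝔮 ∧ IsDiag (Localization.Away h) (Localization.Away h ⊗[R] (A ⧸ J)) := by
  classical
  haveI : Nontrivial T := ⟨⟨0, 1, fun h01 => h𝔮.ne_top ((Ideal.eq_top_iff_one _).mpr
    (h01 ▸ zero_mem _))⟩⟩
  have hM : Group.FG M := by
    haveI := hAft
    haveI h1 : Algebra.FiniteType T (T ⊗[R] A) := inferInstance
    haveI h2 : Algebra.FiniteType T (MonoidAlgebra T M) :=
      Algebra.FiniteType.equiv h1 ΘA.toAlgEquiv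
    exact MonoidAlgebra.finiteType_iff_group_fg.mp h2
  obtain ⟨N, hL1, hL2⟩ := local_kernel φ J hJ
    (diagEquiv (Y := Localization.AtPrime 𝔮) ΘA) hCfp hM
  -- generators of the augmentation ideal of `C`
  haveI := hCfp
  obtain ⟨Sc, hSc⟩ : (RingHom.ker (Bialgebra.counitAlgHom R C)).FG :=
    Algebra.FinitePresentation.ker_fG_of_surjective (Bialgebra.counitAlgHom R C)
      (fun r => ⟨algebraMap R C r, by rw [AlgHom.commutes]; rfl⟩)
  have hSc0 : ∀ c ∈ Sc, counit (R := R) c = 0 := by
    intro c hc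
    have h1 : c ∈ RingHom.ker (Bialgebra.counitAlgHom R C) := by
      rw [← hSc]
      exact Ideal.subset_span hc
    have h2 : (Bialgebra.counitAlgHom R C) c = 0 := RingHom.mem_ker.mp h1
    exact h2
  -- generators of `N`
  have hNfg : Group.FG N := (Group.fg_iff_subgroup_fg N).mpr (subgroup_fg hM N)
  obtain ⟨Sn, hSn⟩ := Monoid.fg_def.mp (Group.fg_iff_monoid_fg.mp hNfg)
  -- spreading out the first condition
  obtain ⟨s, hs𝔮, hs⟩ := exists_common 𝔮 Sc
    (fun c s => ∀ m, s * (MonoidAlgebra.mapDomainBialgHom T (QuotientGroup.mk' N)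
      (ΘA ((1 : T) ⊗ₜ[R] φ c))).coeff m = 0)
    (fun c s t h m => by rw [mul_assoc, h m, mul_zero])
    (fun c hc => by
      apply exists_mul_coeff_eq_zero
      rw [mapAlgHom_x]
      have h1 := hL1 ((1 : Localization.AtPrime 𝔮) ⊗ₜ[R] c)
      rw [phiBC_tmul] at h1
      rw [h1, TensorProduct.counit_tmul, hSc0 c hc, zero_smul, map_zero])
  -- spreading out the second condition
  obtain ⟨t, ht𝔮, ht⟩ := exists_common 𝔮 Sn
    (fun n t => t • bcMk R J T (ΘA.symm (MonoidAlgebra.single ((n : N) : M) 1 - 1)) = 0)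
    (fun n s t h => by rw [mul_smul, h, smul_zero])
    (fun n _ => by
      apply exists_smul_eq_zero_of_Hmap
      rw [Hmap_g, map_sub, MonoidAlgebra.mapAlgHom_single, map_one, map_one, map_sub, map_sub,
        map_one, map_one, hL2 n n.2, sub_self])
  refine ⟨s * t, fun h => (h𝔮.mem_or_mem h).elim hs𝔮 ht𝔮, ?_⟩
  have hsu : IsUnit (algebraMap T (Localization.Away (s * t)) s) :=
    isUnit_of_dvd_unit (map_dvd (algebraMap T (Localization.Away (s * t))) (Dvd.intro t rfl))
      (IsLocalization.Away.algebraMap_isUnit (s * t))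
  have htu : IsUnit (algebraMap T (Localization.Away (s * t)) t) :=
    isUnit_of_dvd_unit (map_dvd (algebraMap T (Localization.Away (s * t))) (Dvd.intro_left s rfl))
      (IsLocalization.Away.algebraMap_isUnit (s * t))
  refine isDiag_quotient_of_subgroup J (diagEquiv (Y := Localization.Away (s * t)) ΘA) N ?_ ?_
  · -- `J` dies in `Y[M ⧸ N]`
    let p : Localization.Away (s * t) ⊗[R] A →ₐc[Localization.Away (s * t)]
        MonoidAlgebra (Localization.Away (s * t)) (M ⧸ N) :=
      (MonoidAlgebra.mapDomainBialgHom (Localization.Away (s * t)) (QuotientGroup.mk' N)).comp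
        (diagEquiv (Y := Localization.Away (s * t)) ΘA).toBialgHom
    have hle : J ≤ RingHom.ker ((p0 R (Localization.Away (s * t)) p :
        A →ₐ[R] MonoidAlgebra (Localization.Away (s * t)) (M ⧸ N)) :
        A →+* MonoidAlgebra (Localization.Away (s * t)) (M ⧸ N)) := by
      rw [hJ, Ideal.map_le_iff_le_comap, ← hSc, Ideal.span_le]
      intro c hc
      rw [SetLike.mem_coe, Ideal.mem_comap, RingHom.mem_ker]
      change MonoidAlgebra.mapDomainBialgHom (Localization.Away (s * t)) (QuotientGroup.mk' N)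
        (diagEquiv (Y := Localization.Away (s * t)) ΘA
          ((1 : Localization.Away (s * t)) ⊗ₜ[R] φ c)) = 0
      rw [← mapAlgHom_x]
      exact mapAlgHom_eq_zero_of_unit _ s hsu (hs c hc)
    intro a ha
    exact RingHom.mem_ker.mp (hle ha)
  · -- the characters in `N` are trivial modulo `J`
    have h2gen : ∀ n ∈ Sn, bcMk R J (Localization.Away (s * t))
        ((diagEquiv (Y := Localization.Away (s * t)) ΘA).symm
          (MonoidAlgebra.single ((n : N) : M) 1)) = 1 := by
      intro n hn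
      have h3 := Hmap_eq_zero_of_unit (A := A ⧸ J)
        (IsScalarTower.toAlgHom R T (Localization.Away (s * t))) _ t htu (ht n hn)
      rw [Hmap_g, map_sub, MonoidAlgebra.mapAlgHom_single, map_one, map_one, map_sub, map_sub,
        map_one, map_one, sub_eq_zero] at h3
      exact h3
    have key : ∀ n' : N, n' ∈ Submonoid.closure (Sn : Set N) →
        bcMk R J (Localization.Away (s * t))
          ((diagEquiv (Y := Localization.Away (s * t)) ΘA).symm
            (MonoidAlgebra.single (n' : M) 1)) = 1 := by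
      intro n' hn'
      refine Submonoid.closure_induction
        (motive := fun (n' : N) _ => bcMk R J (Localization.Away (s * t))
          ((diagEquiv (Y := Localization.Away (s * t)) ΘA).symm
            (MonoidAlgebra.single (n' : M) 1)) = 1) ?_ ?_ ?_ hn'
      · intro x hx
        exact h2gen x hx
      · change bcMk R J (Localization.Away (s * t))
          ((diagEquiv (Y := Localization.Away (s * t)) ΘA).symm
            (MonoidAlgebra.single (1 : M) 1)) = 1
        rw [← MonoidAlgebra.one_def, map_one, map_one]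
      · intro x y _ _ hx hy
        have hxy : (MonoidAlgebra.single (((x * y : N)) : M) (1 : Localization.Away (s * t))) =
            MonoidAlgebra.single (x : M) 1 * MonoidAlgebra.single (y : M) 1 := by
          rw [MonoidAlgebra.single_mul_single, mul_one]
          rfl
        rw [hxy, map_mul, map_mul, hx, hy, mul_one]
    intro n hn
    have hmem : (⟨n, hn⟩ : N) ∈ Submonoid.closure (Sn : Set N) := by
      rw [hSn]
      trivial
    exact key ⟨n, hn⟩ hmem

include hJ in
/-- The kernel of a homomorphism from a group of multiplicative type and of finite type to an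
affine group of finite presentation is of multiplicative type. -/
theorem kernel_isMultType (hAft : Algebra.FiniteType R A) (hA : IsMultType R A)
    (hCfp : Algebra.FinitePresentation R C) : IsMultType R (A ⧸ J) := by
  apply isMultType_of_fam
  apply Fam.of_isMultType_cover_base hA
  intro T _ _ hD
  obtain ⟨M, _, ⟨ΘA⟩⟩ := hD
  apply Fam.of_forall_prime
  intro 𝔮 h𝔮
  haveI := h𝔮
  exact exists_isDiag_away φ J hJ hCfp hAft ΘA 𝔮

end Spread

end Groth.Agent.Lib.R2H7.KerFT
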