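import Mathlib
import Groth.Agent.Lib.Helper25Killed
import Groth.Agent.Lib.Helper6Deligne

/-!
# R2H7KillA: quasi-finite commutative affine groups of finite type are killed by an integer

`C` a cocommutative Hopf algebra of finite type over any ring `R`, quasi-finite over `R`.  Then some
positive power map of `Spec C` is trivial (`exists_isKilled`).

The proof needs no Noetherian hypothesis.  Write `D n = [n] - e : C →ₗ[R] C` (`e` the trivial
endomorphism).  Then `D m ∘ D n = D (m n)` (`D_D`), so the family `InFam` of ideals `I` of `R` with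
`D n C ⊆ I C` for some `n > 0` is closed under products; it is an Oka family and membership is
finitely witnessed (`inFam_of_sSup`), so if `⊥` is not in it there is a prime `M` maximal outside it.
The fibre at `M` is a finite commutative group scheme over a field, killed by its order (Deligne);
spreading out gives `s ∉ M` with `s • D d C ⊆ M C` (`exists_smul_D_mem`), and `M + (s)` is in the
family, hence so is `M` (`inFam_of_sup`): contradiction.
-/

set_option autoImplicit false
set_option linter.style.haveILetI false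
universe u

namespace Groth.Agent.Lib.R2H7.Kill

open TensorProduct WithConv SGA3b Coalgebra Groth.Agent.Lib.Helper25.Tors

section Basic

variable (R : Type u) [CommRing R] (C : Type u) [CommRing C] [HopfAlgebra R C]

/-- The trivial endomorphism `c ↦ ε(c)·1`. -/
noncomputable def triv : C →ₐ[R] C := (Algebra.ofId R C).comp (Bialgebra.counitAlgHom R C)

theorem triv_apply (c : C) : triv R C c = algebraMap R C (counit (R := R) c) := rfl

/-- `[n] - e` as a linear map. -/
noncomputable def D (n : ℕ) : C →ₗ[R] C :=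
  (powConv R C n).toLinearMap - (triv R C).toLinearMap

variable {R C}

theorem D_apply (n : ℕ) (c : C) :
    D R C n c = powConv R C n c - algebraMap R C (counit (R := R) c) := rfl

theorem isKilled_iff (n : ℕ) : IsKilled R C n ↔ ∀ c, D R C n c = 0 := by
  constructor
  · intro h c
    rw [D_apply, h c, sub_self]
  · intro h c
    exact sub_eq_zero.mp (h c)

theorem powConv_self' (n : ℕ) (r : R) : powConv R R n r = r := by
  have h := (powConv R R n).commutes r
  simpa using h

theorem counit_powConv' (n : ℕ) (a : C) :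
    counit (R := R) (powConv R C n a) = counit (R := R) a := by
  have h := map_powConv (Bialgebra.counitBialgHom R C) n a
  rw [powConv_self'] at h
  exact h

/-- `D m ∘ D n = D (m n)`. -/
theorem D_D (m n : ℕ) (c : C) : D R C m (D R C n c) = D R C (m * n) c := by
  have h1 : powConv R C m (powConv R C n c) = powConv R C (m * n) c := by
    rw [← powConv_comp]
    rfl
  simp only [D_apply, map_sub, AlgHom.commutes, counit_powConv', Bialgebra.counit_algebraMap,
    sub_self, map_zero, sub_zero, h1]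

theorem mem_smul_top_iff (I : Ideal R) (x : C) :
    x ∈ I • (⊤ : Submodule R C) ↔ x ∈ I.map (algebraMap R C) := by
  rw [Ideal.smul_top_eq_map]
  rfl

theorem D_mem_smul_top {I : Ideal R} (m : ℕ) {x : C} (hx : x ∈ I • (⊤ : Submodule R C)) :
    D R C m x ∈ I • (⊤ : Submodule R C) := by
  refine Submodule.smul_induction_on hx (fun r hr y _ => ?_) (fun x y hx hy => ?_)
  · rw [map_smul]
    exact Submodule.smul_mem_smul hr Submodule.mem_top
  · rw [map_add]
    exact add_mem hx hy

theorem D_mem_mul {I J : Ideal R} {m : ℕ}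
    (hm : ∀ c : C, D R C m c ∈ J • (⊤ : Submodule R C))
    {x : C} (hx : x ∈ I • (⊤ : Submodule R C)) :
    D R C m x ∈ (I * J) • (⊤ : Submodule R C) := by
  refine Submodule.smul_induction_on hx (fun r hr y _ => ?_) (fun x y hx hy => ?_)
  · rw [map_smul, Submodule.mul_smul]
    exact Submodule.smul_mem_smul hr (hm y)
  · rw [map_add]
    exact add_mem hx hy

/-- To check that `D n` takes its values in an ideal of `C` it suffices to look at generators. -/
theorem D_mem_of_generators (n : ℕ) (J : Ideal C) (s : Set C) (hs : Algebra.adjoin R s = ⊤)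
    (h : ∀ x ∈ s, D R C n x ∈ J) (c : C) : D R C n c ∈ J := by
  have key : (Ideal.Quotient.mkₐ R J).comp (powConv R C n) =
      (Ideal.Quotient.mkₐ R J).comp (triv R C) := by
    apply AlgHom.ext_of_adjoin_eq_top hs
    intro x hx
    have h2 := h x hx
    rw [D_apply] at h2
    simp only [AlgHom.comp_apply, Ideal.Quotient.mkₐ_eq_mk, triv_apply]
    exact (Ideal.Quotient.mk_eq_mk_iff_sub_mem _ _).mpr h2
  have h3 := DFunLike.congr_fun key c
  simp only [AlgHom.comp_apply, Ideal.Quotient.mkₐ_eq_mk, triv_apply] at h3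
  rw [D_apply]
  exact (Ideal.Quotient.mk_eq_mk_iff_sub_mem _ _).mp h3

variable (R C) in
/-- The family of ideals `I` of `R` such that some positive power map is trivial modulo `I C`. -/
def InFam (I : Ideal R) : Prop :=
  ∃ n : ℕ, 0 < n ∧ ∀ c : C, D R C n c ∈ I • (⊤ : Submodule R C)

theorem InFam.mono {I J : Ideal R} (hIJ : I ≤ J) (h : InFam R C I) : InFam R C J := by
  obtain ⟨n, hn, hD⟩ := h
  exact ⟨n, hn, fun c => Submodule.smul_mono_left hIJ (hD c)⟩

theorem inFam_top : InFam R C ⊤ :=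
  ⟨1, Nat.one_pos, fun c => by rw [Submodule.top_smul]; exact Submodule.mem_top⟩

theorem InFam.mul {I J : Ideal R} (hI : InFam R C I) (hJ : InFam R C J) : InFam R C (I * J) := by
  obtain ⟨n, hn, hDn⟩ := hI
  obtain ⟨m, hm, hDm⟩ := hJ
  refine ⟨m * n, Nat.mul_pos hm hn, fun c => ?_⟩
  rw [← D_D]
  exact D_mem_mul hDm (hDn c)

theorem isOka : Ideal.IsOka (InFam R C) where
  top := inFam_top
  oka := by
    intro I a h1 h2
    refine (h1.mul h2).mono ?_
    rw [Ideal.mul_le]
    intro x hx y hy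
    obtain ⟨i, hi, z, hz, rfl⟩ := Submodule.mem_sup.mp hx
    obtain ⟨r, rfl⟩ := Ideal.mem_span_singleton'.mp hz
    rw [Ideal.mem_colon_span_singleton] at hy
    rw [add_mul]
    refine add_mem (Ideal.mul_mem_right _ _ hi) ?_
    have : r * a * y = r * (y * a) := by ring
    rw [this]
    exact Ideal.mul_mem_left _ _ hy

theorem exists_mem_chain {c : Set (Ideal R)} (hc : IsChain (· ≤ ·) c) (hne : c.Nonempty)
    {y : C} (hy : y ∈ (sSup c) • (⊤ : Submodule R C)) :
    ∃ I ∈ c, y ∈ I • (⊤ : Submodule R C) := by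
  refine Submodule.smul_induction_on hy (fun r hr x _ => ?_) (fun x y hx hy => ?_)
  · obtain ⟨I, hI, hrI⟩ := (Submodule.mem_sSup_of_directed hne hc.directedOn).mp hr
    exact ⟨I, hI, Submodule.smul_mem_smul hrI Submodule.mem_top⟩
  · obtain ⟨I, hI, hxI⟩ := hx
    obtain ⟨J, hJ, hyJ⟩ := hy
    rcases hc.total hI hJ with h | h
    · exact ⟨J, hJ, add_mem (Submodule.smul_mono_left h hxI) hyJ⟩
    · exact ⟨I, hI, add_mem hxI (Submodule.smul_mono_left h hyJ)⟩

theorem exists_mem_chain_finset {c : Set (Ideal R)} (hc : IsChain (· ≤ ·) c) (hne : c.Nonempty)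
    (F : Finset C) (hF : ∀ y ∈ F, y ∈ (sSup c) • (⊤ : Submodule R C)) :
    ∃ I ∈ c, ∀ y ∈ F, y ∈ I • (⊤ : Submodule R C) := by
  classical
  induction F using Finset.induction_on with
  | empty =>
    obtain ⟨I, hI⟩ := hne
    exact ⟨I, hI, by simp⟩
  | insert a F ha ih =>
    obtain ⟨I, hI, h1⟩ := ih (fun y hy => hF y (Finset.mem_insert_of_mem hy))
    obtain ⟨J, hJ, h2⟩ := exists_mem_chain hc hne (hF a (Finset.mem_insert_self a F))
    rcases hc.total hI hJ with h | h
    · refine ⟨J, hJ, fun y hy => ?_⟩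
      rcases Finset.mem_insert.mp hy with rfl | hy
      · exact h2
      · exact Submodule.smul_mono_left h (h1 y hy)
    · refine ⟨I, hI, fun y hy => ?_⟩
      rcases Finset.mem_insert.mp hy with rfl | hy
      · exact Submodule.smul_mono_left h h2
      · exact h1 y hy

/-- Membership in the family is finitely witnessed. -/
theorem inFam_of_sSup (hft : Algebra.FiniteType R C) {c : Set (Ideal R)}
    (hc : IsChain (· ≤ ·) c) (hne : c.Nonempty) (h : InFam R C (sSup c)) :
    ∃ I ∈ c, InFam R C I := by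
  classical
  obtain ⟨n, hn, hD⟩ := h
  obtain ⟨s, hs⟩ := hft.out
  obtain ⟨I, hI, hI'⟩ := exists_mem_chain_finset hc hne (s.image (D R C n))
    (fun y hy => by
      obtain ⟨x, -, rfl⟩ := Finset.mem_image.mp hy
      exact hD x)
  refine ⟨I, hI, n, hn, fun c => ?_⟩
  rw [mem_smul_top_iff]
  refine D_mem_of_generators n _ (s : Set C) hs (fun x hx => ?_) c
  rw [← mem_smul_top_iff]
  exact hI' _ (Finset.mem_image_of_mem _ hx)

/-- The ideal of `C` of the elements `y` with `s • y ∈ I C`. -/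
def colonIdeal (I : Ideal R) (s : R) : Ideal C where
  carrier := {y | s • y ∈ I • (⊤ : Submodule R C)}
  add_mem' := by
    intro a b ha hb
    simp only [Set.mem_setOf_eq, smul_add] at *
    exact add_mem ha hb
  zero_mem' := by simp
  smul_mem' := by
    intro c y hy
    simp only [Set.mem_setOf_eq] at *
    rw [smul_eq_mul, ← mul_smul_comm]
    rw [mem_smul_top_iff] at hy ⊢
    exact Ideal.mul_mem_left _ c hy

theorem mem_colonIdeal (I : Ideal R) (s : R) (y : C) :
    y ∈ colonIdeal (C := C) I s ↔ s • y ∈ I • (⊤ : Submodule R C) := Iff.rfl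

/-- Gluing along `V(s)` and `D(s)`. -/
theorem inFam_of_sup {I : Ideal R} {s : R} {d : ℕ} (hd : 0 < d)
    (hs : ∀ c : C, s • D R C d c ∈ I • (⊤ : Submodule R C))
    (h : InFam R C (I ⊔ Ideal.span {s})) : InFam R C I := by
  obtain ⟨n, hn, hD⟩ := h
  refine ⟨d * n, Nat.mul_pos hd hn, fun c => ?_⟩
  rw [← D_D]
  have h1 := hD c
  rw [Submodule.sup_smul, Submodule.mem_sup] at h1
  obtain ⟨y, hy, z, hz, hyz⟩ := h1
  rw [← hyz, map_add]
  apply add_mem
  · exact D_mem_smul_top d hy
  · rw [Submodule.ideal_span_singleton_smul] at hz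
    obtain ⟨w, -, rfl⟩ := (Submodule.mem_smul_pointwise_iff_exists _ _ _).mp hz
    rw [map_smul]
    exact hs w

theorem mem_smul_top_of_one_tmul_eq_zero (p : Ideal R) (z : C)
    (h : (1 : R ⧸ p) ⊗ₜ[R] z = 0) : z ∈ p • (⊤ : Submodule R C) := by
  have h1 := congrArg (TensorProduct.quotTensorEquivQuotSMul C p) h
  rw [TensorProduct.quotTensorEquivQuotSMul_mk_one_tmul, map_zero,
    Submodule.Quotient.mk_eq_zero] at h1
  exact h1

theorem D_one_tmul (T : Type u) [CommRing T] [Algebra R T] (n : ℕ) (c : C) :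
    D T (T ⊗[R] C) n ((1 : T) ⊗ₜ[R] c) = (1 : T) ⊗ₜ[R] D R C n c := by
  rw [D_apply, D_apply, TensorProduct.tmul_sub, powConv_baseChange, TensorProduct.counit_tmul,
    Algebra.TensorProduct.algebraMap_apply, Algebra.algebraMap_eq_smul_one (counit (R := R) c),
    TensorProduct.tmul_smul]
  simp [CommSemiring.counit_apply, TensorProduct.smul_tmul']

end Basic

section Fibre

variable {R : Type u} [CommRing R] {C : Type u} [CommRing C] [HopfAlgebra R C]

/-- A finite cocommutative Hopf algebra over a field is killed by its dimension. -/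
theorem isKilled_of_field (K : Type u) [Field K] (F : Type u) [CommRing F] [HopfAlgebra K F]
    [Coalgebra.IsCocomm K F] [Module.Finite K F] :
    0 < Module.finrank K F ∧ IsKilled K F (Module.finrank K F) := by
  haveI : Nontrivial F := (Bialgebra.counitAlgHom K F).toRingHom.domain_nontrivial
  refine ⟨Module.finrank_pos, ?_⟩
  have hdel := Groth.Agent.Lib.Helper6.Deligne.deligne K F (Module.finrank K F) (fun q => by
    simpa using congrFun (Module.rankAtStalk_eq_finrank_of_free (R := K) (M := F)) q)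
  intro a
  change (WithConv.ofConv ((WithConv.toConv (AlgHom.id K F)) ^ (Module.finrank K F))) a = _
  rw [hdel]
  rfl

theorem exists_smul_D_mem_aux [Coalgebra.IsCocomm R C] [Algebra.QuasiFinite R C]
    (p : Ideal R) [hp : p.IsPrime] :
    ∃ d : ℕ, 0 < d ∧ ∀ c : C, ∃ s : R, s ∉ p ∧ s • D R C d c ∈ p • (⊤ : Submodule R C) := by
  haveI : Module.Finite (FractionRing (R ⧸ p)) (FractionRing (R ⧸ p) ⊗[R ⧸ p] ((R ⧸ p) ⊗[R] C)) :=
    Module.Finite.of_quasiFinite (R := FractionRing (R ⧸ p))
      (S := FractionRing (R ⧸ p) ⊗[R ⧸ p] ((R ⧸ p) ⊗[R] C))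
  obtain ⟨hd, hk⟩ := isKilled_of_field (FractionRing (R ⧸ p))
    (FractionRing (R ⧸ p) ⊗[R ⧸ p] ((R ⧸ p) ⊗[R] C))
  refine ⟨_, hd, fun c => ?_⟩
  have h1 : (1 : FractionRing (R ⧸ p)) ⊗ₜ[R ⧸ p]
      (D (R ⧸ p) ((R ⧸ p) ⊗[R] C) _ ((1 : R ⧸ p) ⊗ₜ[R] c)) = 0 :=
    IsKilled.one_tmul (FractionRing (R ⧸ p)) hk _
  rw [D_one_tmul] at h1
  obtain ⟨⟨m, hm⟩, hm0⟩ := (IsLocalizedModule.eq_zero_iff (nonZeroDivisors (R ⧸ p))
    (TensorProduct.mk (R ⧸ p) (FractionRing (R ⧸ p)) ((R ⧸ p) ⊗[R] C) 1)).mp h1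
  obtain ⟨s, rfl⟩ := Ideal.Quotient.mk_surjective m
  refine ⟨s, ?_, ?_⟩
  · intro hs
    exact nonZeroDivisors.ne_zero hm (Ideal.Quotient.eq_zero_iff_mem.mpr hs)
  · apply mem_smul_top_of_one_tmul_eq_zero
    have e1 : (1 : R ⧸ p) ⊗ₜ[R] (s • D R C (Module.finrank (FractionRing (R ⧸ p))
        (FractionRing (R ⧸ p) ⊗[R ⧸ p] ((R ⧸ p) ⊗[R] C))) c) =
        (Ideal.Quotient.mk p s) • ((1 : R ⧸ p) ⊗ₜ[R] D R C (Module.finrank (FractionRing (R ⧸ p))
        (FractionRing (R ⧸ p) ⊗[R ⧸ p] ((R ⧸ p) ⊗[R] C))) c) := by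
      rw [TensorProduct.smul_tmul', ← TensorProduct.smul_tmul, smul_eq_mul, mul_one]
      congr 1
      rw [Algebra.smul_def, mul_one]
      rfl
    rw [e1]
    exact hm0

/-- Spreading out from the fibre at a prime `p`: some `s ∉ p` and `d > 0` with `s • D d C ⊆ p C`. -/
theorem exists_smul_D_mem (hft : Algebra.FiniteType R C) [Coalgebra.IsCocomm R C]
    [Algebra.QuasiFinite R C] (p : Ideal R) [hp : p.IsPrime] :
    ∃ s : R, s ∉ p ∧ ∃ d : ℕ, 0 < d ∧ ∀ c : C, s • D R C d c ∈ p • (⊤ : Submodule R C) := by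
  classical
  obtain ⟨d, hd, key⟩ := exists_smul_D_mem_aux (C := C) p
  choose f hf1 hf2 using key
  obtain ⟨gens, hgens⟩ := hft.out
  refine ⟨∏ x ∈ gens, f x, ?_, d, hd, ?_⟩
  · intro h
    obtain ⟨i, -, hmem⟩ := Ideal.IsPrime.prod_mem_iff.mp h
    exact hf1 i hmem
  · intro c
    rw [← mem_colonIdeal]
    refine D_mem_of_generators d _ (gens : Set C) hgens (fun x hx => ?_) c
    rw [mem_colonIdeal, ← Finset.mul_prod_erase gens f hx, mul_comm, mul_smul]
    exact Submodule.smul_mem _ _ (hf2 x)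

end Fibre

section Main

variable (R : Type u) [CommRing R] (C : Type u) [CommRing C] [HopfAlgebra R C]

/-- A quasi-finite cocommutative Hopf algebra of finite type over any ring is killed by a positive
integer. -/
theorem exists_isKilled (hft : Algebra.FiniteType R C) [Coalgebra.IsCocomm R C]
    [Algebra.QuasiFinite R C] : ∃ n : ℕ, 0 < n ∧ IsKilled R C n := by
  by_contra hcon
  have hOka : Ideal.IsOka (InFam R C) := isOka
  have h0 : ¬ InFam R C ⊥ := by
    rintro ⟨n, hn, hD⟩
    refine hcon ⟨n, hn, (isKilled_iff n).mpr fun c => ?_⟩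
    have h1 := hD c
    rwa [Submodule.bot_smul, Submodule.mem_bot] at h1
  obtain ⟨M, -, hM⟩ : ∃ M, ⊥ ≤ M ∧ Maximal (fun I => ¬ InFam R C I) M := by
    refine zorn_le_nonempty₀ {I | ¬ InFam R C I}
      (fun c hc₁ hc₂ J hJ => ⟨sSup c, ?_, fun _ => le_sSup⟩) ⊥ h0
    intro H
    obtain ⟨I, hI, hPI⟩ := inFam_of_sSup hft hc₂ ⟨J, hJ⟩ H
    exact hc₁ hI hPI
  haveI hMp : M.IsPrime := hOka.isPrime_of_maximal_not hM
  obtain ⟨s, hsM, d, hd, hs⟩ := exists_smul_D_mem hft M
  have h1 : InFam R C (M ⊔ Ideal.span {s}) :=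
    of_not_not (hM.not_prop_of_gt (Submodule.lt_sup_iff_notMem.2 hsM))
  exact hM.prop (inFam_of_sup hd hs h1)

end Main

end Groth.Agent.Lib.R2H7.Kill
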