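import Mathlib
import Groth.Agent.Lib.R2H7KillA
import Groth.Agent.Lib.Helper25FinHopf
import Groth.Agent.Lib.Helper25Points

/-!
# R2H7KillB: homogeneity of affine group schemes of finite type over a field, and quasi-finiteness
over a local base

* `finite_of_quasiFiniteAt`: a Hopf algebra of finite type over a field which is quasi-finite at the
  unit point (the unit point is isolated) is finite (translate by geometric points).
* `quasiFinite_of_fibre_finite`: over a local ring, a Hopf algebra of finite type with finite closed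
  fibre is quasi-finite (Mathlib's Zariski main theorem: the quasi-finite locus is stable under
  generization, and every unit point generizes the closed one).
* `isCocomm_quotient`, `torsionIdeal_le_of_isKilled_quotient`.
-/

set_option autoImplicit false
set_option linter.style.haveILetI false
universe u

namespace Groth.Agent.Lib.R2H7.Kill

open TensorProduct WithConv SGA3b Coalgebra Groth.Agent.Lib.Helper25.Tors Groth.Agent.Lib.Helper25
  Groth.Agent.Lib.Helper25.FinHopf

instance ker_counit_isMaximal' (K : Type u) [Field K] (F : Type u) [CommRing F] [Bialgebra K F] :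
    (RingHom.ker (Bialgebra.counitAlgHom K F)).IsMaximal :=
  RingHom.ker_isMaximal_of_surjective _ (fun c => ⟨algebraMap K F c, by simp⟩)

section AlgClosed

variable (L : Type u) [Field L] [IsAlgClosed L] (F : Type u) [CommRing F] [HopfAlgebra L F]
  [Algebra.FiniteType L F]

theorem exists_algEquiv_comap_eq' (n : Ideal F) (hn : n.IsMaximal) :
    ∃ σ : F ≃ₐ[L] F, (RingHom.ker (Bialgebra.counitAlgHom L F)).comap σ.toRingHom = n := by
  obtain ⟨u, hu⟩ := exists_point_vanishing_on (k := L) n hn.ne_top
  have hker : RingHom.ker u = n := by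
    symm
    apply hn.eq_of_le (RingHom.ker_ne_top _)
    intro b hb
    exact hu b hb
  refine ⟨rtransEquiv u, ?_⟩
  ext a
  rw [Ideal.mem_comap, ← hker, RingHom.mem_ker, RingHom.mem_ker]
  have h1 : Bialgebra.counitAlgHom L F (rtransEquiv u a) = u a := by
    rw [rtransEquiv_apply, Bialgebra.counitAlgHom_apply, counit_rtrans]
  rw [← h1]
  rfl

theorem finite_of_quasiFiniteAt_algClosed
    (h : Algebra.QuasiFiniteAt L (RingHom.ker (Bialgebra.counitAlgHom L F))) :
    Module.Finite L F := by
  haveI : IsNoetherianRing F := Algebra.FiniteType.isNoetherianRing L F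
  have hopen : ∀ (n : Ideal F) (hn : n.IsMaximal),
      IsOpen ({⟨n, hn.isPrime⟩} : Set (PrimeSpectrum F)) := by
    intro n hn
    obtain ⟨σ, hσ⟩ := exists_algEquiv_comap_eq' L F n hn
    subst hσ
    haveI : Algebra.QuasiFiniteAt L
        ((RingHom.ker (Bialgebra.counitAlgHom L F)).comap σ.toRingHom) :=
      Algebra.QuasiFiniteAt.comap_algEquiv _ σ
    exact (Algebra.QuasiFiniteAt.isClopen_singleton (R := L)
      (⟨(RingHom.ker (Bialgebra.counitAlgHom L F)).comap σ.toRingHom, hn.isPrime⟩ :
        PrimeSpectrum F)).isOpen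
  haveI : Ring.KrullDimLE 0 F := by
    rw [Ring.krullDimLE_zero_iff]
    intro P hP
    obtain ⟨n, hn, hPn⟩ := Ideal.exists_le_maximal P hP.ne_top
    have hspec : (⟨P, hP⟩ : PrimeSpectrum F) ⤳ ⟨n, hn.isPrime⟩ :=
      (PrimeSpectrum.le_iff_specializes _ _).mp hPn
    have h1 := hspec.mem_open (hopen n hn) rfl
    have hPn' : P = n := congrArg PrimeSpectrum.asIdeal (Set.mem_singleton_iff.mp h1)
    rw [hPn']
    exact hn
  haveI : IsArtinianRing F :=
    isArtinianRing_iff_isNoetherianRing_krullDimLE_zero.mpr ⟨inferInstance, inferInstance⟩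
  exact (Module.finite_iff_isArtinianRing (R := L) (A := F)).mpr inferInstance

end AlgClosed

section Field

theorem counit_one_tmul {R : Type u} [CommRing R] {C : Type u} [CommRing C] [HopfAlgebra R C]
    (T : Type u) [CommRing T] [Algebra R T] (c : C) :
    counit (R := T) ((1 : T) ⊗ₜ[R] c) = algebraMap R T (counit (R := R) c) := by
  rw [TensorProduct.counit_tmul, CommSemiring.counit_apply, Algebra.algebraMap_eq_smul_one]

/-- Homogeneity: a Hopf algebra of finite type over a field which is quasi-finite at the unit point is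
finite. -/
theorem finite_of_quasiFiniteAt (K : Type u) [Field K] (F : Type u) [CommRing F] [HopfAlgebra K F]
    (hft : Algebra.FiniteType K F)
    (h : Algebra.QuasiFiniteAt K (RingHom.ker (Bialgebra.counitAlgHom K F))) :
    Module.Finite K F := by
  have hq : RingHom.ker (Bialgebra.counitAlgHom K F) =
      (RingHom.ker (Bialgebra.counitAlgHom (AlgebraicClosure K) (AlgebraicClosure K ⊗[K] F))).comap
        (Algebra.TensorProduct.includeRight : F →ₐ[K] AlgebraicClosure K ⊗[K] F).toRingHom := by
    ext a
    rw [Ideal.mem_comap, RingHom.mem_ker, RingHom.mem_ker]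
    change counit (R := K) a = 0 ↔
      counit (R := AlgebraicClosure K) ((1 : AlgebraicClosure K) ⊗ₜ[K] a) = 0
    rw [counit_one_tmul, map_eq_zero_iff _ (algebraMap K (AlgebraicClosure K)).injective]
  have h2 : Algebra.QuasiFiniteAt (AlgebraicClosure K)
      (RingHom.ker (Bialgebra.counitAlgHom (AlgebraicClosure K) (AlgebraicClosure K ⊗[K] F))) :=
    Algebra.QuasiFiniteAt.baseChange (R := K) (RingHom.ker (Bialgebra.counitAlgHom K F))
      (A := AlgebraicClosure K) _ hq
  haveI : Module.Finite (AlgebraicClosure K) (AlgebraicClosure K ⊗[K] F) :=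
    finite_of_quasiFiniteAt_algClosed (AlgebraicClosure K) (AlgebraicClosure K ⊗[K] F) h2
  exact Module.Finite.of_finite_tensorProduct_of_faithfullyFlat (AlgebraicClosure K)

end Field

section Local

variable (R : Type u) [CommRing R] (C : Type u) [CommRing C] [HopfAlgebra R C]

theorem comap_ker_counit_fibre (P : Ideal R) [P.IsPrime] :
    (RingHom.ker (Bialgebra.counitAlgHom P.ResidueField (P.ResidueField ⊗[R] C))).comap
      (Algebra.TensorProduct.includeRight : C →ₐ[R] P.ResidueField ⊗[R] C).toRingHom =
    P.comap (Bialgebra.counitAlgHom R C) := by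
  ext a
  rw [Ideal.mem_comap, RingHom.mem_ker, Ideal.mem_comap]
  change counit (R := P.ResidueField) ((1 : P.ResidueField) ⊗ₜ[R] a) = 0 ↔
    counit (R := R) a ∈ P
  rw [counit_one_tmul, Ideal.algebraMap_residueField_eq_zero]

theorem liesOver_comap_counit (P : Ideal R) :
    (P.comap (Bialgebra.counitAlgHom R C)).LiesOver P := by
  refine ⟨?_⟩
  ext x
  rw [Ideal.under, Ideal.mem_comap, Ideal.mem_comap, AlgHom.commutes]
  rfl

/-- Over a local ring, a Hopf algebra of finite type with finite closed fibre is quasi-finite. -/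
theorem quasiFinite_of_fibre_finite [IsLocalRing R] (hft : Algebra.FiniteType R C)
    (hs : Module.Finite (IsLocalRing.ResidueField R) (IsLocalRing.ResidueField R ⊗[R] C)) :
    Algebra.QuasiFinite R C := by
  -- the closed fibre in Mathlib's form
  have hfib : Module.Finite (IsLocalRing.maximalIdeal R).ResidueField
      ((IsLocalRing.maximalIdeal R).ResidueField ⊗[R] C) := by
    change Module.Finite (R ⧸ IsLocalRing.maximalIdeal R)
      ((R ⧸ IsLocalRing.maximalIdeal R) ⊗[R] C) at hs
    let e := Algebra.TensorProduct.cancelBaseChange R (R ⧸ IsLocalRing.maximalIdeal R)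
      (IsLocalRing.maximalIdeal R).ResidueField (IsLocalRing.maximalIdeal R).ResidueField C
    exact Module.Finite.equiv e.toLinearEquiv
  -- quasi-finite at the unit point of the closed fibre
  haveI := liesOver_comap_counit R C (IsLocalRing.maximalIdeal R)
  haveI : Algebra.QuasiFiniteAt (IsLocalRing.maximalIdeal R).ResidueField
      (RingHom.ker (Bialgebra.counitAlgHom (IsLocalRing.maximalIdeal R).ResidueField
        ((IsLocalRing.maximalIdeal R).ResidueField ⊗[R] C))) := inferInstance
  have h0 : Algebra.QuasiFiniteAt R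
      ((IsLocalRing.maximalIdeal R).comap (Bialgebra.counitAlgHom R C)) :=
    Algebra.QuasiFiniteAt.of_quasiFiniteAt_residueField (IsLocalRing.maximalIdeal R) _
      (RingHom.ker (Bialgebra.counitAlgHom (IsLocalRing.maximalIdeal R).ResidueField
        ((IsLocalRing.maximalIdeal R).ResidueField ⊗[R] C)))
      (comap_ker_counit_fibre R C (IsLocalRing.maximalIdeal R))
  refine ⟨fun P hP => ?_⟩
  have h1 : Algebra.QuasiFiniteAt R (P.comap (Bialgebra.counitAlgHom R C)) :=
    Algebra.QuasiFiniteAt.of_le
      (Ideal.comap_mono (IsLocalRing.le_maximalIdeal hP.ne_top))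
  have h2 : Algebra.QuasiFiniteAt P.ResidueField
      (RingHom.ker (Bialgebra.counitAlgHom P.ResidueField (P.ResidueField ⊗[R] C))) :=
    Algebra.QuasiFiniteAt.baseChange (R := R) (P.comap (Bialgebra.counitAlgHom R C))
      (A := P.ResidueField) _ (comap_ker_counit_fibre R C P).symm
  exact finite_of_quasiFiniteAt P.ResidueField (P.ResidueField ⊗[R] C) inferInstance h2

end Local

section Quot

variable {R : Type u} [CommRing R] {A : Type u} [CommRing A] [HopfAlgebra R A]

theorem isCocomm_quotient [Coalgebra.IsCocomm R A] (I : Ideal A) [I.IsHopfIdeal R] :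
    Coalgebra.IsCocomm R (A ⧸ I) where
  comm_comp_comul := by
    apply LinearMap.ext
    intro q
    obtain ⟨a, rfl⟩ := Ideal.Quotient.mk_surjective q
    simp only [LinearMap.comp_apply, LinearEquiv.coe_coe]
    rw [Bialgebra.Quotient.comul_mk, ← TensorProduct.map_comm, Coalgebra.comm_comul]

theorem torsionIdeal_le_of_isKilled_quotient (J : Ideal A) [J.IsHopfIdeal R] {n : ℕ}
    (h : IsKilled R (A ⧸ J) n) : torsionIdeal R A n ≤ J := by
  unfold torsionIdeal
  rw [Ideal.map_le_iff_le_comap]
  intro a ha
  rw [Ideal.mem_comap, ← Ideal.Quotient.eq_zero_iff_mem]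
  have h1 := map_powConv (Bialgebra.Quotient.mkBialgHom (R := R) J) n a
  rw [Bialgebra.Quotient.mkBialgHom_apply, Bialgebra.Quotient.mkBialgHom_apply, h,
    Bialgebra.Quotient.counit_mk] at h1
  rw [RingHom.mem_ker] at ha
  have ha' : counit (R := R) a = 0 := ha
  rw [h1, ha', map_zero]

end Quot

end Groth.Agent.Lib.R2H7.Kill
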