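import Mathlib
import Groth.Prelude.Def_SGA3b
import Groth.Agent.Lib.R2H7TorsPts4
import Groth.Agent.Lib.R2H7TorsDense
import Groth.Agent.Lib.R2H7IsoNil
import Groth.Agent.Lib.Helper25Points

/-!
# R2H7KillC: schematic density of the torsion in a commutative group with an open subgroup of
multiplicative type, over a field

`exists_pow_mul_eq_zero` / `iInf_torsionIdeal_eq_bot`: `k` a field, `C` a cocommutative Hopf algebra of
finite type, `e` an idempotent with `(e)` a Hopf ideal and `C/(e)` of multiplicative type.  Then for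
all `a`, the intersection of the extensions to `C[1/a]` of the ideals of the `n`-torsion is zero.

Method: over the algebraic closure `K`, every point is `t * h` with `t` torsion and `h` in the open
subgroup; translating by `t` (`Tr`, `trans`) moves the coset `t G` to `G`, where the density is
`TorsDense.iInf_torsionIdeal_eq_bot`; a translation by a point killed by `m` preserves the ideal of
the `m`-torsion (`trans_mem_map`).
-/

set_option autoImplicit false
set_option linter.style.haveILetI false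
universe u

namespace Groth.Agent.Lib.R2H7.Kill

open TensorProduct Coalgebra WithConv SGA3b Groth.Agent.Lib.Helper25 Groth.Agent.Lib.Helper25.Tors
  Groth.Agent.Lib.R2H7.TorsPts

section General

variable {R : Type u} [CommRing R] {A : Type u} [CommRing A] [HopfAlgebra R A]

theorem powConv_self'' (n : ℕ) (r : R) : powConv R R n r = r := by
  have h := (powConv R R n).commutes r
  simpa using h

theorem counit_powConv'' (n : ℕ) (a : A) :
    counit (R := R) (powConv R A n a) = counit (R := R) a := by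
  have h := map_powConv (Bialgebra.counitBialgHom R A) n a
  rw [powConv_self''] at h
  exact h

theorem powConv_mul_apply (n m : ℕ) (u : A) :
    powConv R A (n * m) u = powConv R A n (powConv R A m u) := by
  unfold powConv
  have h := Tors.comp_convPow (WithConv.ofConv ((WithConv.toConv (AlgHom.id R A)) ^ n))
    (WithConv.toConv (AlgHom.id R A)) m
  rw [ofConv_toConv, AlgHom.comp_id, toConv_ofConv, ← pow_mul] at h
  exact (DFunLike.congr_fun h u).symm

theorem torsionIdeal_mul_le (n m : ℕ) : torsionIdeal R A (n * m) ≤ torsionIdeal R A n := by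
  unfold torsionIdeal
  rw [Ideal.map_le_iff_le_comap]
  intro u hu
  rw [Ideal.mem_comap, powConv_mul_apply]
  apply Ideal.mem_map_of_mem
  rw [RingHom.mem_ker] at hu ⊢
  change counit (R := R) (powConv R A m u) = 0
  rw [counit_powConv'']
  exact hu

/-- Elementwise form of the density of the torsion in a group of multiplicative type. -/
theorem exists_pow_mul_eq_zero_of_multType (hft : Algebra.FiniteType R A) (h : IsMultType R A)
    (a y : A) (hy : ∀ n : ℕ, 0 < n → ∃ N : ℕ, a ^ N * y ∈ torsionIdeal R A n) :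
    ∃ N : ℕ, a ^ N * y = 0 := by
  have h0 := Groth.Agent.Lib.R2H7.TorsDense.iInf_torsionIdeal_eq_bot R A hft h a
  have h1 : algebraMap A (Localization.Away a) y ∈ ⨅ n : {n : ℕ // 0 < n},
      Ideal.map (algebraMap A (Localization.Away a)) (torsionIdeal R A n.1) := by
    rw [Submodule.mem_iInf]
    rintro ⟨n, hn⟩
    obtain ⟨N, hN⟩ := hy n hn
    rw [IsLocalization.algebraMap_mem_map_algebraMap_iff (Submonoid.powers a)]
    exact ⟨a ^ N, ⟨N, rfl⟩, hN⟩
  rw [h0, Ideal.mem_bot] at h1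
  obtain ⟨⟨_, N, rfl⟩, hN⟩ := (IsLocalization.map_eq_zero_iff (Submonoid.powers a) _ y).mp h1
  exact ⟨N, hN⟩

theorem exists_pow_stab {S : Type*} [CommRing S] [IsNoetherianRing S] (α : S) :
    ∃ M₀ : ℕ, ∀ w : S, (∃ M : ℕ, α ^ M * w = 0) → α ^ M₀ * w = 0 := by
  let I : ℕ →o Ideal S :=
    ⟨fun M => LinearMap.ker (LinearMap.mulLeft S (α ^ M)), fun M M' hMM' w hw => by
      rw [LinearMap.mem_ker, LinearMap.mulLeft_apply] at hw ⊢
      obtain ⟨j, rfl⟩ := Nat.exists_eq_add_of_le hMM'
      rw [pow_add, mul_comm (α ^ M), mul_assoc, hw, mul_zero]⟩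
  obtain ⟨M₀, hM₀⟩ := monotone_stabilizes_iff_noetherian.mpr inferInstance I
  refine ⟨M₀, fun w hw => ?_⟩
  obtain ⟨M, hM⟩ := hw
  have h1 : w ∈ I (max M M₀) := I.monotone (le_max_left M M₀) (by
    change w ∈ LinearMap.ker (LinearMap.mulLeft S (α ^ M))
    rw [LinearMap.mem_ker, LinearMap.mulLeft_apply]
    exact hM)
  rw [← hM₀ (max M M₀) (le_max_right M M₀)] at h1
  change w ∈ LinearMap.ker (LinearMap.mulLeft S (α ^ M₀)) at h1
  rw [LinearMap.mem_ker, LinearMap.mulLeft_apply] at h1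
  exact h1

end General

section Conv

variable {k : Type u} [CommRing k] {C : Type u} [CommRing C] [HopfAlgebra k C] [IsCocomm k C]

/-- Postcomposition with an algebra map, as a morphism of convolution monoids. -/
noncomputable def postHom {A B : Type u} [CommRing A] [CommRing B] [Algebra k A] [Algebra k B]
    (h : A →ₐ[k] B) : WithConv (C →ₐ[k] A) →* WithConv (C →ₐ[k] B) where
  toFun f := toConv (h.comp f.ofConv)
  map_one' := by
    apply WithConv.ofConv_injective
    apply AlgHom.ext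
    intro c
    change h (algebraMap k A (counit (R := k) c)) = algebraMap k B (counit (R := k) c)
    exact h.commutes _
  map_mul' f g := by
    apply WithConv.ofConv_injective
    exact AlgHom.comp_convMul_distrib h f g

theorem postHom_apply {A B : Type u} [CommRing A] [CommRing B] [Algebra k A] [Algebra k B]
    (h : A →ₐ[k] B) (f : WithConv (C →ₐ[k] A)) (c : C) :
    (postHom h f).ofConv c = h (f.ofConv c) := rfl

variable {K : Type u} [Field K] [Algebra k K]

/-- The constant map attached to a point, with values in `K ⊗ C`. -/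
noncomputable def ptHat (z : WithConv (C →ₐ[k] K)) : WithConv (C →ₐ[k] K ⊗[k] C) :=
  postHom (Algebra.TensorProduct.includeLeft : K →ₐ[k] K ⊗[k] C) z

theorem ptHat_apply (z : WithConv (C →ₐ[k] K)) (c : C) :
    (ptHat z).ofConv c = z.ofConv c ⊗ₜ[k] (1 : C) := rfl

theorem ptHat_mul (s t : WithConv (C →ₐ[k] K)) : ptHat (s * t) = ptHat s * ptHat t :=
  map_mul (postHom _) s t

theorem ptHat_one : ptHat (1 : WithConv (C →ₐ[k] K)) = 1 := map_one (postHom _)

theorem ptHat_pow (s : WithConv (C →ₐ[k] K)) (n : ℕ) : ptHat (s ^ n) = ptHat s ^ n :=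
  map_pow (postHom _) s n

theorem toConv_trans (z : WithConv (C →ₐ[k] K)) :
    (toConv (trans z.ofConv) : WithConv (C →ₐ[k] K ⊗[k] C)) =
      ptHat z * toConv (Algebra.TensorProduct.includeRight : C →ₐ[k] K ⊗[k] C) := by
  apply WithConv.ofConv_injective
  apply AlgHom.ext
  intro c
  have h1 : (ptHat z * toConv (Algebra.TensorProduct.includeRight : C →ₐ[k] K ⊗[k] C)).ofConv c =
      Algebra.TensorProduct.lift (ptHat z).ofConv
        (Algebra.TensorProduct.includeRight : C →ₐ[k] K ⊗[k] C)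
        (fun _ _ => Commute.all _ _) (comul (R := k) c) := AlgHom.convMul_apply _ _ c
  rw [h1]
  change (Algebra.TensorProduct.map z.ofConv (AlgHom.id k C)) (comul (R := k) c) = _
  generalize comul (R := k) c = w
  induction w using TensorProduct.induction_on with
  | zero => simp
  | add x y hx hy => rw [map_add, map_add, hx, hy]
  | tmul a b =>
    rw [Algebra.TensorProduct.map_tmul, Algebra.TensorProduct.lift_tmul]
    change z.ofConv a ⊗ₜ[k] b = (z.ofConv a ⊗ₜ[k] (1 : C)) * ((1 : K) ⊗ₜ[k] b)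
    rw [Algebra.TensorProduct.tmul_mul_tmul, mul_one, one_mul]

theorem trans_one (c : C) :
    trans (1 : WithConv (C →ₐ[k] K)).ofConv c = (1 : K) ⊗ₜ[k] c := by
  have h := toConv_trans (1 : WithConv (C →ₐ[k] K))
  rw [ptHat_one, one_mul] at h
  exact congrArg (fun f : WithConv (C →ₐ[k] K ⊗[k] C) => f.ofConv c) h

/-- Translation by a point as a `K`-algebra endomorphism of `K ⊗ C`. -/
noncomputable def Tr (s : WithConv (C →ₐ[k] K)) : K ⊗[k] C →ₐ[K] K ⊗[k] C :=
  Algebra.TensorProduct.lift (Algebra.TensorProduct.includeLeft : K →ₐ[K] K ⊗[k] C)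
    (trans s.ofConv) (fun _ _ => Commute.all _ _)

theorem Tr_tmul (s : WithConv (C →ₐ[k] K)) (κ : K) (c : C) :
    Tr s (κ ⊗ₜ[k] c) = (κ ⊗ₜ[k] (1 : C)) * trans s.ofConv c := by
  rw [Tr, Algebra.TensorProduct.lift_tmul]
  rfl

theorem Tr_one_tmul (s : WithConv (C →ₐ[k] K)) (c : C) :
    Tr s ((1 : K) ⊗ₜ[k] c) = trans s.ofConv c := by
  rw [Tr_tmul]
  have h : ((1 : K) ⊗ₜ[k] (1 : C)) = 1 := rfl
  rw [h, one_mul]

theorem Tr_tmul_one (s : WithConv (C →ₐ[k] K)) (κ : K) :
    Tr s (κ ⊗ₜ[k] (1 : C)) = κ ⊗ₜ[k] (1 : C) := by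
  rw [Tr_tmul, map_one, mul_one]

theorem Tr_trans (s t : WithConv (C →ₐ[k] K)) (c : C) :
    Tr s (trans t.ofConv c) = trans (t * s).ofConv c := by
  have h2 : postHom ((Tr s).restrictScalars k) (ptHat t) = ptHat t := by
    apply WithConv.ofConv_injective
    apply AlgHom.ext
    intro c
    change Tr s (t.ofConv c ⊗ₜ[k] (1 : C)) = t.ofConv c ⊗ₜ[k] (1 : C)
    exact Tr_tmul_one s _
  have h3 : postHom ((Tr s).restrictScalars k)
      (toConv (Algebra.TensorProduct.includeRight : C →ₐ[k] K ⊗[k] C)) =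
      toConv (trans s.ofConv) := by
    apply WithConv.ofConv_injective
    apply AlgHom.ext
    intro c
    change Tr s ((1 : K) ⊗ₜ[k] c) = trans s.ofConv c
    exact Tr_one_tmul s c
  have h1 : postHom ((Tr s).restrictScalars k) (toConv (trans t.ofConv)) =
      toConv (trans (t * s).ofConv) := by
    rw [toConv_trans, map_mul, toConv_trans (t * s), h2, h3, toConv_trans s, ← mul_assoc,
      ptHat_mul]
  exact congrArg (fun f : WithConv (C →ₐ[k] K ⊗[k] C) => f.ofConv c) h1

theorem trans_comp_powConv (t : WithConv (C →ₐ[k] K)) (m : ℕ) (ht : t ^ m = 1) :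
    (trans t.ofConv).comp (powConv k C m) =
      (Algebra.TensorProduct.includeRight : C →ₐ[k] K ⊗[k] C).comp (powConv k C m) := by
  have h1 : ∀ f : C →ₐ[k] K ⊗[k] C, f.comp (powConv k C m) = ((toConv f) ^ m).ofConv := by
    intro f
    have h := Tors.comp_convPow f (toConv (AlgHom.id k C)) m
    rw [ofConv_toConv, AlgHom.comp_id] at h
    exact h
  rw [h1, h1, toConv_trans, mul_pow, ← ptHat_pow, ht, ptHat_one, one_mul]

theorem trans_mem_map (t : WithConv (C →ₐ[k] K)) (m : ℕ) (ht : t ^ m = 1) {w : C}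
    (hw : w ∈ torsionIdeal k C m) :
    trans t.ofConv w ∈ Ideal.map (Algebra.TensorProduct.includeRight : C →ₐ[k] K ⊗[k] C)
      (torsionIdeal k C m) := by
  have hle : Ideal.map (powConv k C m) (RingHom.ker (Bialgebra.counitAlgHom k C)) ≤
      Ideal.comap (trans t.ofConv)
        (Ideal.map (Algebra.TensorProduct.includeRight : C →ₐ[k] K ⊗[k] C)
          (torsionIdeal k C m)) := by
    rw [Ideal.map_le_iff_le_comap]
    intro u hu
    rw [Ideal.mem_comap, Ideal.mem_comap]
    have h1 := DFunLike.congr_fun (trans_comp_powConv t m ht) u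
    simp only [AlgHom.comp_apply] at h1
    rw [h1]
    exact Ideal.mem_map_of_mem _ (Ideal.mem_map_of_mem _ hu)
  exact hle hw

end Conv

section Main

variable {k : Type u} [Field k] {C : Type u} [CommRing C] [HopfAlgebra k C] [IsCocomm k C]

/-- Every geometric point is the product of a torsion point and a point of the open subgroup. -/
theorem exists_torsion_mul {K : Type u} [Field K] [IsAlgClosed K] [Algebra k K]
    (hft : Algebra.FiniteType k C) (e : C) (he : IsIdempotentElem e)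
    [hH : (Ideal.span {e}).IsHopfIdeal k] (hiso : IsIsotrivial k (C ⧸ Ideal.span {e}))
    (x₀ : WithConv (C →ₐ[k] K)) :
    ∃ (t h : WithConv (C →ₐ[k] K)) (n₀ : ℕ), 0 < n₀ ∧ t ^ n₀ = 1 ∧ h.ofConv e = 0 ∧
      t * h = x₀ := by
  have hε : counit (R := k) e = 0 :=
    hH.toIsCoideal.counit_eq_zero (Ideal.mem_span_singleton_self e)
  have hinv : ∀ x : WithConv (C →ₐ[k] K), x.ofConv e = 0 → (pinv x).ofConv e = 0 := by
    intro x hx
    exact pinv_apply_eq_zero (Ideal.span {e}) x (forall_mem_span_of_apply_eq_zero x e hx) e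
      (Ideal.mem_span_singleton_self e)
  obtain ⟨m, hm, hxm⟩ := exists_pow_apply_eq_zero hft e he hε hinv x₀
  obtain ⟨g, hg⟩ := exists_pre_eq (Ideal.span {e}) (x₀ ^ m)
    (forall_mem_span_of_apply_eq_zero _ e hxm)
  have hftB : Algebra.FiniteType k (C ⧸ Ideal.span {e}) :=
    Algebra.FiniteType.of_surjective (Ideal.Quotient.mkₐ k (Ideal.span {e}))
      Ideal.Quotient.mk_surjective
  obtain ⟨h', N, hN, hroot⟩ := exists_root_point hftB hiso g m hm
  let h : WithConv (C →ₐ[k] K) := pre (Ideal.span {e}) h'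
  have hpow : h ^ (m * N) = x₀ ^ (m * N) := by
    change (preHom (Ideal.span {e}) h') ^ (m * N) = _
    rw [← map_pow, hroot, map_pow, preHom_apply, hg, pow_mul]
  letI : CommGroup (WithConv (C →ₐ[k] K)) := ptsGroup
  have h1 : (x₀ * h⁻¹) ^ (m * N) = 1 := by
    rw [mul_pow, inv_pow, hpow]
    exact mul_inv_cancel _
  have h3 : (x₀ * h⁻¹) * h = x₀ := inv_mul_cancel_right x₀ h
  exact ⟨x₀ * h⁻¹, h, m * N, Nat.mul_pos hm hN, h1,
    pre_apply_eq_zero (Ideal.span {e}) h' (Ideal.mem_span_singleton_self e), h3⟩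

/-- After translation by a torsion point, `a ^ M * y` vanishes on the open subgroup. -/
theorem exists_trans_mem_span {K : Type u} [Field K] [Algebra k K]
    (hft : Algebra.FiniteType k C) (e : C)
    [hH : (Ideal.span {e}).IsHopfIdeal k] (hG : IsMultType k (C ⧸ Ideal.span {e})) (a y : C)
    (h : ∀ n : ℕ, 0 < n → ∃ N : ℕ, a ^ N * y ∈ torsionIdeal k C n)
    (t : WithConv (C →ₐ[k] K)) (n₀ : ℕ) (hn₀ : 0 < n₀) (ht : t ^ n₀ = 1) :
    ∃ M : ℕ, trans t.ofConv (a ^ M * y) ∈ Ideal.span {(1 : K) ⊗ₜ[k] e} := by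
  haveI hftB : Algebra.FiniteType k (C ⧸ Ideal.span {e}) :=
    Algebra.FiniteType.of_surjective (Ideal.Quotient.mkₐ k (Ideal.span {e}))
      Ideal.Quotient.mk_surjective
  let πK : K ⊗[k] C →ₐ[k] K ⊗[k] (C ⧸ Ideal.span {e}) :=
    Algebra.TensorProduct.map (AlgHom.id k K) (Ideal.Quotient.mkₐ k (Ideal.span {e}))
  have hπK : ∀ c : C, πK ((1 : K) ⊗ₜ[k] c) =
      (1 : K) ⊗ₜ[k] (Ideal.Quotient.mk (Ideal.span {e}) c) := fun c => by
    simp [πK]
  have hmtK : IsMultType K (K ⊗[k] (C ⧸ Ideal.span {e})) :=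
    Groth.Agent.Lib.R2H7.IsoNil.isMultType_baseChange K hG
  have hftBK : Algebra.FiniteType K (K ⊗[k] (C ⧸ Ideal.span {e})) := inferInstance
  have hkey : ∀ (m : ℕ) (w : K ⊗[k] C),
      w ∈ Ideal.map (Algebra.TensorProduct.includeRight : C →ₐ[k] K ⊗[k] C) (torsionIdeal k C m) →
      πK w ∈ torsionIdeal K (K ⊗[k] (C ⧸ Ideal.span {e})) m := by
    intro m w hw
    have hle : Ideal.map (Algebra.TensorProduct.includeRight : C →ₐ[k] K ⊗[k] C)
        (torsionIdeal k C m) ≤
        Ideal.comap πK (torsionIdeal K (K ⊗[k] (C ⧸ Ideal.span {e})) m) := by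
      rw [Ideal.map_le_iff_le_comap]
      intro c hc
      rw [Ideal.mem_comap, Ideal.mem_comap]
      change πK ((1 : K) ⊗ₜ[k] c) ∈ _
      rw [hπK]
      exact one_tmul_mem_torsionIdeal K m
        (map_mem_torsionIdeal (Bialgebra.Quotient.mkBialgHom (R := k) (Ideal.span {e})) m hc)
    exact hle hw
  have hyn : ∀ n : ℕ, 0 < n → ∃ N : ℕ,
      (πK (trans t.ofConv a)) ^ N * πK (trans t.ofConv y) ∈
        torsionIdeal K (K ⊗[k] (C ⧸ Ideal.span {e})) n := by
    intro n hn
    obtain ⟨N, hN⟩ := h (n * n₀) (Nat.mul_pos hn hn₀)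
    refine ⟨N, ?_⟩
    have ht' : t ^ (n * n₀) = 1 := by rw [mul_comm, pow_mul, ht, one_pow]
    have h1 := hkey (n * n₀) _ (trans_mem_map t (n * n₀) ht' hN)
    rw [map_mul, map_pow, map_mul, map_pow] at h1
    exact torsionIdeal_mul_le n n₀ h1
  obtain ⟨M, hM⟩ := exists_pow_mul_eq_zero_of_multType hftBK hmtK _ _ hyn
  refine ⟨M, ?_⟩
  have h2 : πK (trans t.ofConv (a ^ M * y)) = 0 := by
    rw [map_mul, map_pow, map_mul, map_pow]
    exact hM
  have hker : RingHom.ker πK =
      Ideal.map (Algebra.TensorProduct.includeRight : C →ₐ[k] K ⊗[k] C)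
        (RingHom.ker (Ideal.Quotient.mkₐ k (Ideal.span {e}))) :=
    Algebra.TensorProduct.lTensor_ker (Ideal.Quotient.mkₐ k (Ideal.span {e}))
      (Ideal.Quotient.mkₐ_surjective k (Ideal.span {e}))
  have hker2 : RingHom.ker (Ideal.Quotient.mkₐ k (Ideal.span {e})) = Ideal.span {e} := by
    ext c
    rw [RingHom.mem_ker, Ideal.Quotient.mkₐ_eq_mk, Ideal.Quotient.eq_zero_iff_mem]
  have h3 : trans t.ofConv (a ^ M * y) ∈ RingHom.ker πK := h2
  rw [hker, hker2, Ideal.map_span, Set.image_singleton] at h3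
  exact h3

theorem exists_pow_mul_eq_zero_aux (K : Type u) [Field K] [IsAlgClosed K] [Algebra k K]
    (hft : Algebra.FiniteType k C) (e : C) (he : IsIdempotentElem e)
    [hH : (Ideal.span {e}).IsHopfIdeal k] (hG : IsMultType k (C ⧸ Ideal.span {e})) (a y : C)
    (h : ∀ n : ℕ, 0 < n → ∃ N : ℕ, a ^ N * y ∈ torsionIdeal k C n) :
    ∃ N : ℕ, a ^ N * y = 0 := by
  have hftB : Algebra.FiniteType k (C ⧸ Ideal.span {e}) :=
    Algebra.FiniteType.of_surjective (Ideal.Quotient.mkₐ k (Ideal.span {e}))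
      Ideal.Quotient.mk_surjective
  have hiso : IsIsotrivial k (C ⧸ Ideal.span {e}) :=
    Groth.Agent.Lib.R2H7.SepSplitC.isIsotrivial_of_field k _ hftB hG
  haveI := hft
  haveI : Algebra.FiniteType K (K ⊗[k] C) := inferInstance
  haveI : IsNoetherianRing (K ⊗[k] C) := Algebra.FiniteType.isNoetherianRing K _
  obtain ⟨M₀, hM₀⟩ := exists_pow_stab ((1 : K) ⊗ₜ[k] a)
  refine ⟨M₀, ?_⟩
  apply Algebra.TensorProduct.includeRight_injective (R := k) (A := K) (B := C)
    (algebraMap k K).injective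
  rw [map_zero]
  change (1 : K) ⊗ₜ[k] (a ^ M₀ * y) = 0
  have hmulpow : ∀ M : ℕ, (1 : K) ⊗ₜ[k] (a ^ M * y) =
      ((1 : K) ⊗ₜ[k] a) ^ M * ((1 : K) ⊗ₜ[k] y) := by
    intro M
    rw [Algebra.TensorProduct.tmul_pow, one_pow, Algebra.TensorProduct.tmul_mul_tmul, one_mul]
  by_contra hne
  let I : Ideal (K ⊗[k] C) :=
    (Submodule.span (K ⊗[k] C) {(1 : K) ⊗ₜ[k] (a ^ M₀ * y)}).annihilator
  have hI : I ≠ ⊤ := by
    intro htop
    have h1 : (1 : K ⊗[k] C) ∈ I := htop ▸ Submodule.mem_top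
    rw [Submodule.mem_annihilator_span_singleton, one_smul] at h1
    exact hne h1
  obtain ⟨X, hX⟩ := exists_point_vanishing_on (k := K) I hI
  let x₀ : WithConv (C →ₐ[k] K) :=
    toConv ((X.restrictScalars k).comp Algebra.TensorProduct.includeRight)
  have hXhat : ∀ w, X w = hat x₀.ofConv w := by
    intro w
    induction w using TensorProduct.induction_on with
    | zero => simp
    | add u v hu hv => rw [map_add, map_add, hu, hv]
    | tmul κ c =>
      rw [hat_tmul]
      have h1 : κ ⊗ₜ[k] c = κ • ((1 : K) ⊗ₜ[k] c) := by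
        rw [TensorProduct.smul_tmul', smul_eq_mul, mul_one]
      rw [h1, map_smul, smul_eq_mul]
      rfl
  obtain ⟨t, hh, n₀, hn₀, ht, hhe, hth⟩ := exists_torsion_mul hft e he hiso x₀
  obtain ⟨M, hM⟩ := exists_trans_mem_span hft e hG a y h t n₀ hn₀ ht
  have h1 : Tr (pinv t) (trans t.ofConv (a ^ M * y)) = (1 : K) ⊗ₜ[k] (a ^ M * y) := by
    rw [Tr_trans, mul_pinv, trans_one]
  have h2 : (1 : K) ⊗ₜ[k] (a ^ M * y) ∈ Ideal.span {trans (pinv t).ofConv e} := by
    rw [← h1]
    have hle : Ideal.span {(1 : K) ⊗ₜ[k] e} ≤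
        Ideal.comap (Tr (pinv t)) (Ideal.span {trans (pinv t).ofConv e}) := by
      rw [Ideal.span_le, Set.singleton_subset_iff]
      change Tr (pinv t) ((1 : K) ⊗ₜ[k] e) ∈ Ideal.span {trans (pinv t).ofConv e}
      rw [Tr_one_tmul]
      exact Ideal.mem_span_singleton_self _
    exact hle hM
  have het_idem : IsIdempotentElem (trans (pinv t).ofConv e) := he.map (trans (pinv t).ofConv)
  obtain ⟨r, hr⟩ := Ideal.mem_span_singleton'.mp h2
  have h3 : ((1 : K) ⊗ₜ[k] a) ^ M *
      (((1 : K) ⊗ₜ[k] y) * (1 - trans (pinv t).ofConv e)) = 0 := by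
    rw [← mul_assoc, ← hmulpow, ← hr, mul_assoc, mul_sub, mul_one, het_idem.eq, sub_self,
      mul_zero]
  have h4 := hM₀ _ ⟨M, h3⟩
  have h5 : (1 - trans (pinv t).ofConv e) ∈ I := by
    rw [Submodule.mem_annihilator_span_singleton, smul_eq_mul, hmulpow, mul_comm, mul_assoc]
    exact h4
  have h6 := hX _ h5
  rw [map_sub, map_one, hXhat, hat_trans] at h6
  have h7 : pinv t * x₀ = hh := by
    rw [← hth, ← mul_assoc, mul_comm (pinv t) t, mul_pinv, one_mul]
  rw [h7, hhe, sub_zero] at h6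
  exact one_ne_zero h6

/-- Elementwise form of S5300. -/
theorem exists_pow_mul_eq_zero (hft : Algebra.FiniteType k C) (e : C) (he : IsIdempotentElem e)
    [hH : (Ideal.span {e}).IsHopfIdeal k] (hG : IsMultType k (C ⧸ Ideal.span {e})) (a y : C)
    (h : ∀ n : ℕ, 0 < n → ∃ N : ℕ, a ^ N * y ∈ torsionIdeal k C n) :
    ∃ N : ℕ, a ^ N * y = 0 :=
  exists_pow_mul_eq_zero_aux (AlgebraicClosure k) hft e he hG a y h

/-- Schematic density of the torsion (S5300). -/
theorem iInf_torsionIdeal_eq_bot_of_open (hft : Algebra.FiniteType k C) (e : C)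
    (he : IsIdempotentElem e) [hH : (Ideal.span {e}).IsHopfIdeal k]
    (hG : IsMultType k (C ⧸ Ideal.span {e})) (a : C) :
    ⨅ n : {n : ℕ // 0 < n},
      Ideal.map (algebraMap C (Localization.Away a)) (torsionIdeal k C n.1) = ⊥ := by
  rw [eq_bot_iff]
  intro x hx
  rw [Ideal.mem_bot]
  rw [Submodule.mem_iInf] at hx
  obtain ⟨⟨y, s⟩, hys⟩ := IsLocalization.surj (Submonoid.powers a) x
  have hunit : IsUnit (algebraMap C (Localization.Away a) s) :=
    IsLocalization.map_units _ s
  suffices hy0 : algebraMap C (Localization.Away a) y = 0 by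
    have h1 : x * algebraMap C (Localization.Away a) s = 0 := by rw [hys, hy0]
    exact (hunit.mul_left_eq_zero).mp h1
  have hyn : ∀ n : ℕ, 0 < n → ∃ N : ℕ, a ^ N * y ∈ torsionIdeal k C n := by
    intro n hn
    have h1 : algebraMap C (Localization.Away a) y ∈
        Ideal.map (algebraMap C (Localization.Away a)) (torsionIdeal k C n) := by
      rw [← hys]
      exact Ideal.mul_mem_right _ _ (hx ⟨n, hn⟩)
    rw [IsLocalization.algebraMap_mem_map_algebraMap_iff (Submonoid.powers a)] at h1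
    obtain ⟨_, ⟨N, rfl⟩, hN⟩ := h1
    exact ⟨N, hN⟩
  obtain ⟨N, hN⟩ := exists_pow_mul_eq_zero hft e he hG a y hyn
  rw [IsLocalization.map_eq_zero_iff (Submonoid.powers a)]
  exact ⟨⟨a ^ N, N, rfl⟩, hN⟩

end Main

end Groth.Agent.Lib.R2H7.Kill
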