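/-
Over a field containing all roots of unity, every monic irreducible factor of `X^m - c` (`c ≠ 0`)
is a binomial `X^D - a`, and all such factors have the same degree.
-/
import Mathlib

set_option autoImplicit false
universe u

namespace Groth.Agent.Lib.R2H7.KummerFactor

open Polynomial

variable {K : Type u} [Field K] (hK : ∀ n : ℕ, 0 < n → (X ^ n - 1 : K[X]).Splits)

include hK in
/-- Two `m`-th roots of the same nonzero element differ by an element of `K`. -/
theorem exists_eq_mul {Ω : Type*} [Field Ω] [Algebra K Ω] (m : ℕ) (hm : 0 < m) {β γ : Ω}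
    (hβ : β ≠ 0) (h : γ ^ m = β ^ m) : ∃ ζ : K, γ = algebraMap K Ω ζ * β := by
  have h1 : (γ / β) ^ m = 1 := by rw [div_pow, h, div_self (pow_ne_zero _ hβ)]
  have hroot : ((X ^ m - 1 : K[X]).map (algebraMap K Ω)).IsRoot (γ / β) := by
    rw [IsRoot.def, Polynomial.map_sub, Polynomial.map_pow, map_X, Polynomial.map_one, eval_sub,
      eval_pow, eval_X, eval_one, h1, sub_self]
  have hne : (X ^ m - 1 : K[X]) ≠ 0 := by
    have := (monic_X_pow_sub_C (1 : K) hm.ne').ne_zero
    rwa [map_one] at this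
  obtain ⟨ζ, hζ⟩ := (hK m hm).mem_range_of_isRoot hne hroot
  refine ⟨ζ, ?_⟩
  have : algebraMap K Ω ζ = γ / β := hζ
  rw [this, div_mul_cancel₀ _ hβ]

include hK in
theorem eq_X_pow_sub_C {c : K} (hc : c ≠ 0) (m : ℕ) (hm : 0 < m) (g : K[X]) (hg : Irreducible g)
    (hgm : g.Monic) (hdvd : g ∣ X ^ m - C c) : ∃ a : K, g = X ^ g.natDegree - C a := by
  classical
  let Ω := AlgebraicClosure K
  have hD : 0 < g.natDegree := hg.natDegree_pos
  obtain ⟨β, hβ⟩ := IsAlgClosed.exists_aeval_eq_zero Ω g (degree_pos_of_irreducible hg).ne'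
  have hpow : ∀ γ : Ω, aeval γ g = 0 → γ ^ m = algebraMap K Ω c := by
    intro γ hγ
    obtain ⟨q, hq⟩ := hdvd
    have := congrArg (aeval γ) hq
    rw [map_mul, hγ, zero_mul, map_sub, map_pow, aeval_X, aeval_C, sub_eq_zero] at this
    exact this
  have hc' : algebraMap K Ω c ≠ 0 := by
    rw [Ne, map_eq_zero]; exact hc
  have hne0 : ∀ γ : Ω, aeval γ g = 0 → γ ≠ 0 := by
    intro γ hγ h0
    have := hpow γ hγ
    rw [h0, zero_pow hm.ne'] at this
    exact hc' this.symm
  have hβ0 : β ≠ 0 := hne0 β hβ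
  set gΩ := g.map (algebraMap K Ω) with hgΩ
  have hsplit : gΩ.Splits := IsAlgClosed.splits gΩ
  have hmon : gΩ.Monic := hgm.map _
  have hdeg : gΩ.natDegree = g.natDegree := natDegree_map _
  set R := gΩ.roots with hR
  have hcard : Multiset.card R = g.natDegree := by
    rw [← hdeg]; exact hsplit.natDegree_eq_card_roots.symm
  have hRroot : ∀ γ ∈ R, aeval γ g = 0 := by
    intro γ hγ
    rw [hR, mem_roots hmon.ne_zero, IsRoot.def, hgΩ, eval_map_algebraMap] at hγ
    exact hγ
  let F : Subfield Ω := (algebraMap K Ω).fieldRange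
  have hRF : ∀ γ ∈ R, γ / β ∈ F := by
    intro γ hγ
    have h1 : γ ^ m = β ^ m := by rw [hpow γ (hRroot γ hγ), hpow β hβ]
    obtain ⟨ζ, hζ⟩ := exists_eq_mul hK m hm hβ0 h1
    rw [hζ, mul_div_assoc, div_self hβ0, mul_one]
    exact ⟨ζ, rfl⟩
  have hprodF : (R.map fun γ => γ / β).prod ∈ F := by
    apply multiset_prod_mem
    intro y hy
    rw [Multiset.mem_map] at hy
    obtain ⟨γ, hγ, rfl⟩ := hy
    exact hRF γ hγ
  have hprod_eq : (R.map fun γ => γ / β).prod = R.prod / β ^ g.natDegree := by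
    rw [Multiset.prod_map_div, Multiset.map_id', Multiset.map_const', Multiset.prod_replicate, hcard]
  have hRprod : R.prod = (-1) ^ g.natDegree * algebraMap K Ω (g.coeff 0) := by
    have h1 := hsplit.coeff_zero_eq_prod_roots_of_monic hmon
    rw [hdeg, hgΩ, coeff_map] at h1
    rw [h1, ← mul_assoc, ← mul_pow, neg_one_mul, neg_neg, one_pow, one_mul]
  have hRprodF : R.prod ∈ F := by
    rw [hRprod]
    apply mul_mem
    · exact pow_mem (neg_mem (one_mem F)) _
    · exact ⟨g.coeff 0, rfl⟩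
  have hRprod0 : R.prod ≠ 0 := by
    apply Multiset.prod_ne_zero
    intro h0
    exact hne0 0 (hRroot 0 h0) rfl
  have hβD : β ^ g.natDegree ∈ F := by
    have h1 : β ^ g.natDegree = R.prod / (R.prod / β ^ g.natDegree) := by
      rw [div_div_cancel₀ hRprod0]
    rw [h1, ← hprod_eq]
    exact div_mem hRprodF hprodF
  obtain ⟨a, ha⟩ := hβD
  refine ⟨a, ?_⟩
  have hmin : g = minpoly K β := minpoly.eq_of_irreducible_of_monic hg hβ hgm
  have hroot : aeval β (X ^ g.natDegree - C a : K[X]) = 0 := by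
    rw [map_sub, map_pow, aeval_X, aeval_C, sub_eq_zero]
    exact ha.symm
  have hdvd2 : g ∣ X ^ g.natDegree - C a := by
    rw [hmin]
    have := minpoly.dvd K β hroot
    rwa [← hmin] at this ⊢
  have hmon2 : (X ^ g.natDegree - C a : K[X]).Monic := monic_X_pow_sub_C a hD.ne'
  exact (eq_of_monic_of_dvd_of_natDegree_le hgm hmon2 hdvd2
    (by rw [natDegree_X_pow_sub_C])).symm

include hK in
theorem natDegree_le {c : K} (hc : c ≠ 0) (m : ℕ) (hm : 0 < m) (g g' : K[X]) (hg : Irreducible g)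
    (hgm : g.Monic) (hdvd : g ∣ X ^ m - C c) (hg' : Irreducible g')
    (hgm' : g'.Monic) (hdvd' : g' ∣ X ^ m - C c) : g'.natDegree ≤ g.natDegree := by
  let Ω := AlgebraicClosure K
  have hD : 0 < g.natDegree := hg.natDegree_pos
  obtain ⟨β, hβ⟩ := IsAlgClosed.exists_aeval_eq_zero Ω g (degree_pos_of_irreducible hg).ne'
  obtain ⟨β', hβ'⟩ := IsAlgClosed.exists_aeval_eq_zero Ω g' (degree_pos_of_irreducible hg').ne'
  have hpow : ∀ (p : K[X]) (γ : Ω), p ∣ X ^ m - C c → aeval γ p = 0 →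
      γ ^ m = algebraMap K Ω c := by
    intro p γ hp hγ
    obtain ⟨q, hq⟩ := hp
    have := congrArg (aeval γ) hq
    rw [map_mul, hγ, zero_mul, map_sub, map_pow, aeval_X, aeval_C, sub_eq_zero] at this
    exact this
  have hc' : algebraMap K Ω c ≠ 0 := by
    rw [Ne, map_eq_zero]; exact hc
  have hβ0 : β ≠ 0 := by
    intro h0
    have := hpow g β hdvd hβ
    rw [h0, zero_pow hm.ne'] at this
    exact hc' this.symm
  obtain ⟨ζ, hζ⟩ := exists_eq_mul hK m hm hβ0
    ((hpow g' β' hdvd' hβ').trans (hpow g β hdvd hβ).symm)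
  obtain ⟨a, ha⟩ := eq_X_pow_sub_C hK hc m hm g hg hgm hdvd
  have hβD : β ^ g.natDegree = algebraMap K Ω a := by
    have := hβ
    rw [ha, map_sub, map_pow, aeval_X, aeval_C, sub_eq_zero] at this
    exact this
  have hroot : aeval β' (X ^ g.natDegree - C (ζ ^ g.natDegree * a) : K[X]) = 0 := by
    rw [map_sub, map_pow, aeval_X, aeval_C, hζ, mul_pow, hβD, map_mul, map_pow, sub_self]
  have hmin : g' = minpoly K β' := minpoly.eq_of_irreducible_of_monic hg' hβ' hgm'
  have hdvd2 : g' ∣ X ^ g.natDegree - C (ζ ^ g.natDegree * a) := by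
    rw [hmin]
    exact minpoly.dvd K β' hroot
  have hmon2 : (X ^ g.natDegree - C (ζ ^ g.natDegree * a) : K[X]).Monic :=
    monic_X_pow_sub_C _ hD.ne'
  have := natDegree_le_of_dvd hdvd2 hmon2.ne_zero
  rwa [natDegree_X_pow_sub_C] at this

include hK in
/-- A monic non-constant divisor of `X^m - c` is a product of binomials `X^D - a` with a common
`D > 0`. -/
theorem exists_multiset {c : K} (hc : c ≠ 0) (m : ℕ) (hm : 0 < m) (f : K[X]) (hf : f.Monic)
    (hfd : f ∣ X ^ m - C c) (hf1 : f ≠ 1) :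
    ∃ D : ℕ, 0 < D ∧ ∃ t : Multiset K[X],
      (∀ g ∈ t, Irreducible g ∧ g.natDegree = D ∧ ∃ a : K, g = X ^ D - C a) ∧ t.prod = f := by
  classical
  set t := UniqueFactorizationMonoid.normalizedFactors f with ht
  have hf0 : f ≠ 0 := hf.ne_zero
  have hirr : ∀ g ∈ t, Irreducible g := fun g hg =>
    UniqueFactorizationMonoid.irreducible_of_normalized_factor g hg
  have hmonic : ∀ g ∈ t, g.Monic := by
    intro g hg
    have h1 := UniqueFactorizationMonoid.normalize_normalized_factor g hg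
    rw [← h1]
    exact monic_normalize (hirr g hg).ne_zero
  have hdvd : ∀ g ∈ t, g ∣ X ^ m - C c := fun g hg =>
    (UniqueFactorizationMonoid.dvd_of_mem_normalizedFactors hg).trans hfd
  have hprod : t.prod = f := by
    apply eq_of_monic_of_associated _ hf (UniqueFactorizationMonoid.prod_normalizedFactors hf0)
    have := monic_multiset_prod_of_monic t id hmonic
    rwa [Multiset.map_id] at this
  have hne : t ≠ 0 := by
    intro h0
    rw [ht, UniqueFactorizationMonoid.normalizedFactors_eq_zero_iff hf0, hf.isUnit_iff] at h0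
    exact hf1 h0
  obtain ⟨g₀, hg₀⟩ := Multiset.exists_mem_of_ne_zero hne
  refine ⟨g₀.natDegree, (hirr g₀ hg₀).natDegree_pos, t, ?_, hprod⟩
  intro g hg
  have hdeg : g.natDegree = g₀.natDegree := le_antisymm
    (natDegree_le hK hc m hm g₀ g (hirr g₀ hg₀) (hmonic g₀ hg₀) (hdvd g₀ hg₀) (hirr g hg)
      (hmonic g hg) (hdvd g hg))
    (natDegree_le hK hc m hm g g₀ (hirr g hg) (hmonic g hg) (hdvd g hg) (hirr g₀ hg₀)
      (hmonic g₀ hg₀) (hdvd g₀ hg₀))
  refine ⟨hirr g hg, hdeg, ?_⟩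
  obtain ⟨a, ha⟩ := eq_X_pow_sub_C hK hc m hm g (hirr g hg) (hmonic g hg) (hdvd g hg)
  exact ⟨a, by rw [← hdeg]; exact ha⟩

end Groth.Agent.Lib.R2H7.KummerFactor
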