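import Mathlib
import Groth.Agent.Lib.Helper13Kz

/-!
# Splitting of Koszul cohomology when the outer elements act by zero (lead)
-/

set_option autoImplicit false
open CategoryTheory CategoryTheory.Limits CochainComplex HomComplex CohIII
open Groth.Agent.Lib.Helper21 Groth.Agent.Helper13Kz

namespace Groth.Agent.Lib.R2LeadKzSplit

universe u

variable {A : Type u} [CommRing A]

/-- linear algebra: a left-split short exact sequence splits. -/
theorem equiv_prod_of_retraction {X Y Z : Type*} [AddCommGroup X] [AddCommGroup Y] [AddCommGroup Z]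
    [Module A X] [Module A Y] [Module A Z] (g : X →ₗ[A] Y) (δ : Y →ₗ[A] Z) (ρ : Y →ₗ[A] X)
    (hρ : ∀ x, ρ (g x) = x) (hex : Function.Exact g δ) (hδ : Function.Surjective δ) :
    Nonempty (Y ≃ₗ[A] X × Z) := by
  refine ⟨LinearEquiv.ofBijective (ρ.prod δ) ⟨?_, ?_⟩⟩
  · rw [← LinearMap.ker_eq_bot, LinearMap.ker_eq_bot']
    intro y hy
    have h1 : ρ y = 0 := congrArg Prod.fst hy
    have h2 : δ y = 0 := congrArg Prod.snd hy
    obtain ⟨x, rfl⟩ := (hex y).mp h2
    rw [hρ] at h1
    rw [h1, map_zero]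
  · rintro ⟨x, z⟩
    obtain ⟨y0, rfl⟩ := hδ z
    refine ⟨y0 + g (x - ρ y0), ?_⟩
    have h0 : δ (g (x - ρ y0)) = 0 := (hex _).mpr ⟨_, rfl⟩
    refine Prod.ext ?_ ?_
    · simp [hρ]
    · show δ (y0 + g (x - ρ y0)) = δ y0
      rw [map_add, h0, add_zero]

/-- the cone of a null-homotopic multiplication splits in cohomology. -/
theorem cone_split (K : CochainComplex (ModuleCat.{u} A) ℤ) (x : A)
    (h : Homotopy (x • 𝟙 K) 0) (i : ℤ) :
    Nonempty ((mappingCone (x • 𝟙 K)).homology i ≃ₗ[A] K.homology i × K.homology (i + 1)) := by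
  have h3 := cone_homology_exact₃ (x • 𝟙 K) i (i + 1) rfl
  have h1 := cone_homology_exact₁ (x • 𝟙 K) i (i + 1) rfl
  rw [ShortComplex.ShortExact.moduleCat_exact_iff_function_exact] at h1 h3
  let r : mappingCone (x • 𝟙 K) ⟶ K :=
    mappingCone.desc (x • 𝟙 K) (Cochain.ofHomotopy h) (𝟙 K) (by simp [δ_ofHomotopy])
  have hr : mappingCone.inr (x • 𝟙 K) ≫ r = 𝟙 K := mappingCone.inr_desc _ _ _ _
  have hr' : HomologicalComplex.homologyMap (mappingCone.inr (x • 𝟙 K)) i ≫
      HomologicalComplex.homologyMap r i = 𝟙 _ := by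
    rw [← HomologicalComplex.homologyMap_comp, hr, HomologicalComplex.homologyMap_id]
  have hz : HomologicalComplex.homologyMap (x • 𝟙 K) (i + 1) = 0 := by
    rw [h.homologyMap_eq, HomologicalComplex.homologyMap_zero]
  refine equiv_prod_of_retraction
    (HomologicalComplex.homologyMap (mappingCone.inr (x • 𝟙 K)) i).hom
    (coneδ (x • 𝟙 K) i (i + 1) rfl).hom (HomologicalComplex.homologyMap r i).hom ?_ h3 ?_
  · intro z
    have := congrArg (fun φ => φ.hom z) hr'
    simpa using this
  · intro z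
    have hz' : (HomologicalComplex.homologyMap (x • 𝟙 K) (i + 1)).hom z = 0 := by
      rw [hz]; rfl
    exact (h1 z).mp hz'

/-- the binomial coefficient extended by zero to all integers -/
def cz (r : ℕ) (n : ℤ) : ℕ := if 0 ≤ n then r.choose n.toNat else 0

lemma cz_succ (r : ℕ) (n : ℤ) : cz (r + 1) n = cz r n + cz r (n - 1) := by
  unfold cz
  by_cases h0 : 0 ≤ n
  · by_cases h1 : 0 ≤ n - 1
    · rw [if_pos h0, if_pos h0, if_pos h1]
      obtain ⟨m, rfl⟩ : ∃ m : ℕ, n = m + 1 := ⟨(n - 1).toNat, by omega⟩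
      have e1 : ((m : ℤ) + 1).toNat = m + 1 := by omega
      have e2 : ((m : ℤ) + 1 - 1).toNat = m := by omega
      rw [e1, e2, Nat.choose_succ_succ, add_comm]
    · have : n = 0 := by omega
      subst this
      simp
  · have h1 : ¬ (0 ≤ n - 1) := by omega
    rw [if_neg h0, if_neg h0, if_neg h1]

lemma cz_zero_zero : cz 0 0 = 1 := by simp [cz]

lemma cz_zero_ne (n : ℤ) (hn : n ≠ 0) : cz 0 n = 0 := by
  unfold cz
  split_ifs with h
  · have : 1 ≤ n.toNat := by omega
    exact Nat.choose_eq_zero_of_lt (by omega)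
  · rfl

lemma cz_natCast (r n : ℕ) : cz r (n : ℤ) = r.choose n := by
  simp [cz]

variable (M : Type u) [AddCommGroup M] [Module A M]

/-- if `f` kills `M` and `K(g; M)` has cohomology only in degree `0`, the cohomology of
`K(f ++ g; M)` in degree `i` is a sum of `binom(|f|, -i)` copies of `H^0(K(g; M))`. -/
theorem KH_append_split (g : List A) (hg : ∀ k : ℤ, k ≠ 0 → Subsingleton (KH g M k)) :
    ∀ (f : List A), (∀ x ∈ f, ∀ m : M, x • m = 0) → ∀ i : ℤ,
      Nonempty (KH (f ++ g) M i ≃ₗ[A] (Fin (cz f.length (-i)) → KH g M 0))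
  | [], _, i => by
    by_cases hi : i = 0
    · subst hi
      rw [List.length_nil, neg_zero, cz_zero_zero]
      exact ⟨(LinearEquiv.funUnique (Fin 1) A _).symm⟩
    · haveI : Subsingleton (KH ([] ++ g) M i) := hg i hi
      rw [List.length_nil, cz_zero_ne _ (by omega : -i ≠ 0)]
      exact ⟨{ toFun := fun _ => 0, invFun := fun _ => 0, map_add' := by simp,
               map_smul' := by simp, left_inv := fun _ => Subsingleton.elim _ _,
               right_inv := fun _ => Subsingleton.elim _ _ }⟩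
  | x :: f, hf, i => by
    have hf' : ∀ y ∈ f, ∀ m : M, y • m = 0 := fun y hy => hf y (List.mem_cons_of_mem _ hy)
    obtain ⟨e1⟩ := KH_append_split g hg f hf' i
    obtain ⟨e2⟩ := KH_append_split g hg f hf' (i + 1)
    have h0 : (x • 𝟙 (ModuleCat.of A M) : ModuleCat.of A M ⟶ ModuleCat.of A M) =
        (0 : A) • 𝟙 (ModuleCat.of A M) := by
      ext m
      simpa using hf x List.mem_cons_self m
    have hx : x • 𝟙 (koszulCx (ModuleCat.of A M) (f ++ g)) = 0 := by
      rw [← koszulMap_smul_id, h0, koszulMap_smul_id, zero_smul]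
    obtain ⟨e⟩ := cone_split (koszulCx (ModuleCat.of A M) (f ++ g)) x (Homotopy.ofEq hx) i
    have hc : cz (x :: f).length (-i) = cz f.length (-i) + cz f.length (-(i + 1)) := by
      rw [List.length_cons, cz_succ]
      congr 2
      ring
    rw [hc]
    have e3 : ((Fin (cz f.length (-i)) → KH g M 0) × (Fin (cz f.length (-(i + 1))) → KH g M 0))
        ≃ₗ[A] (Fin (cz f.length (-i) + cz f.length (-(i + 1))) → KH g M 0) :=
      (LinearEquiv.sumArrowLequivProdArrow _ _ A _).symm.trans
        (LinearEquiv.funCongrLeft A _ finSumFinEquiv.symm)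
    have e12 := e1.prodCongr e2
    exact ⟨(e.trans e12).trans e3⟩

end Groth.Agent.Lib.R2LeadKzSplit
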