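import Mathlib
import Groth.Agent.Lib.Helper13Kz
import Groth.Agent.Lib.R2LeadKzSplit
import Groth.Agent.Lib.R2H3KzGen
import Groth.Agent.S14433

/-!
# Koszul cohomology of `xs ++ ys` when the `ys` lie in the ideal `(xs)` (helper7)
-/

set_option autoImplicit false
universe u
open CategoryTheory CategoryTheory.Limits CochainComplex CohIII
open Groth.Agent.Lib.R2LeadKzSplit

namespace Groth.Agent.Lib.R2H7.KzAppend

variable {A : Type u} [CommRing A]

section Pi

variable (V : ℤ → Type u) [∀ k, AddCommGroup (V k)] [∀ k, Module A (V k)]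

/-- product over all degrees `k` of `μ k` copies of `V k`. -/
abbrev W (μ : ℤ → ℕ) : Type u := (k : ℤ) → Fin (μ k) → V k

/-- additivity in the multiplicity function -/
def wAdd (μ ν : ℤ → ℕ) : (W V μ × W V ν) ≃ₗ[A] W V (fun k => μ k + ν k) where
  toFun p := fun k => Fin.append (p.1 k) (p.2 k)
  invFun f := (fun k i => f k (Fin.castAdd _ i), fun k i => f k (Fin.natAdd _ i))
  map_add' p q := by
    funext k i
    refine Fin.addCases (fun i => ?_) (fun i => ?_) i
    · simp [Fin.append_left]
    · simp [Fin.append_right]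
  map_smul' c p := by
    funext k i
    refine Fin.addCases (fun i => ?_) (fun i => ?_) i
    · simp [Fin.append_left]
    · simp [Fin.append_right]
  left_inv p := by
    refine Prod.ext ?_ ?_
    · funext k i
      simp [Fin.append_left]
    · funext k i
      simp [Fin.append_right]
  right_inv f := by
    funext k i
    refine Fin.addCases (fun i => ?_) (fun i => ?_) i
    · simp [Fin.append_left]
    · simp [Fin.append_right]

/-- one copy in a single degree -/
theorem nonempty_wSingle (m : ℤ) :
    Nonempty (V m ≃ₗ[A] W V (fun k => if k = m then 1 else 0)) := by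
  let φ : W V (fun k => if k = m then 1 else 0) →ₗ[A] V m :=
    { toFun := fun f => f m ⟨0, by simp⟩
      map_add' := fun _ _ => rfl
      map_smul' := fun _ _ => rfl }
  have hbij : Function.Bijective φ := by
    constructor
    · rw [← LinearMap.ker_eq_bot, LinearMap.ker_eq_bot']
      intro f hf
      funext k i
      by_cases hk : k = m
      · subst hk
        have hi : i = ⟨0, by simp⟩ := by
          apply Fin.ext
          have hi : (i : ℕ) < (if k = k then 1 else 0) := i.2
          rw [if_pos rfl] at hi
          show (i : ℕ) = 0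
          omega
        rw [hi]
        exact hf
      · exfalso
        have := i.2
        simp only [if_neg hk] at this
        omega
    · intro v
      refine ⟨Pi.single m (fun _ => v), ?_⟩
      show (Pi.single m (fun _ => v) : W V (fun k => if k = m then 1 else 0)) m ⟨0, by simp⟩ = v
      rw [Pi.single_eq_same]
  exact ⟨(LinearEquiv.ofBijective φ hbij).symm⟩

/-- transport between equal degrees -/
def cst {a b : ℤ} (h : a = b) (v : V a) : V b := cast (congrArg V h) v

omit [∀ k, AddCommGroup (V k)] in
theorem cst_rfl {a : ℤ} (v : V a) : cst V (rfl : a = a) v = v := rfl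

/-- reindexing the product over all degrees as a product over `Fin (r+1)` -/
theorem nonempty_reindex (r : ℕ) (m : ℤ) :
    Nonempty (W V (fun k => cz r (k - m)) ≃ₗ[A]
      ((j : Fin (r + 1)) → Fin (r.choose j) → V (m + ((j : ℕ) : ℤ)))) := by
  have hμ : ∀ j : ℕ, r.choose j = cz r (m + (j : ℤ) - m) := by
    intro j
    rw [add_sub_cancel_left, cz_natCast]
  have hzero : ∀ k : ℤ, (¬ ∃ j : Fin (r + 1), m + ((j : ℕ) : ℤ) = k) → cz r (k - m) = 0 := by
    intro k hk
    unfold cz
    split_ifs with h0
    · apply Nat.choose_eq_zero_of_lt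
      by_contra hle
      rw [not_lt] at hle
      apply hk
      refine ⟨⟨(k - m).toNat, Nat.lt_succ_of_le hle⟩, ?_⟩
      simp only []
      rw [Int.toNat_of_nonneg h0]
      ring
    · rfl
  let Φ : W V (fun k => cz r (k - m)) →ₗ[A]
      ((j : Fin (r + 1)) → Fin (r.choose j) → V (m + ((j : ℕ) : ℤ))) :=
    { toFun := fun f j i => f (m + ((j : ℕ) : ℤ)) (Fin.cast (hμ j) i)
      map_add' := fun _ _ => rfl
      map_smul' := fun _ _ => rfl }
  have hbij : Function.Bijective Φ := by
    constructor
    · rw [← LinearMap.ker_eq_bot, LinearMap.ker_eq_bot']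
      intro f hf
      funext k i
      by_cases hk : ∃ j : Fin (r + 1), m + ((j : ℕ) : ℤ) = k
      · obtain ⟨j, rfl⟩ := hk
        have h1 := congrFun (congrFun hf j) (Fin.cast (hμ j).symm i)
        simpa [Φ] using h1
      · exfalso
        have hi : (i : ℕ) < cz r (k - m) := i.2
        rw [hzero k hk] at hi
        omega
    · intro t
      classical
      let f : W V (fun k => cz r (k - m)) := fun k i =>
        if h : ∃ j : Fin (r + 1), m + ((j : ℕ) : ℤ) = k then
          cst V h.choose_spec (t h.choose (Fin.cast (by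
            have e : k - m = ((h.choose : ℕ) : ℤ) := by linarith [h.choose_spec]
            show cz r (k - m) = r.choose h.choose
            rw [e, cz_natCast]) i))
        else 0
      refine ⟨f, ?_⟩
      funext j i
      have hex : ∃ j' : Fin (r + 1), m + ((j' : ℕ) : ℤ) = m + ((j : ℕ) : ℤ) := ⟨j, rfl⟩
      have key : ∀ (j' : Fin (r + 1)) (hj : j' = j)
          (h2 : m + ((j' : ℕ) : ℤ) = m + ((j : ℕ) : ℤ)) (i' : Fin (r.choose j')),
          cst V h2 (t j' i') = t j (Fin.cast (by rw [hj]) i') := by
        intro j' hj h2 i'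
        subst hj
        rfl
      have hj' : hex.choose = j := by
        have := hex.choose_spec
        apply Fin.ext
        have h3 : ((hex.choose : ℕ) : ℤ) = ((j : ℕ) : ℤ) := by linarith
        exact_mod_cast h3
      show f (m + ((j : ℕ) : ℤ)) (Fin.cast (hμ j) i) = t j i
      simp only [f]
      rw [dif_pos hex, key _ hj']
      congr 1
  exact ⟨LinearEquiv.ofBijective Φ hbij⟩

end Pi

section Main

variable (M : ModuleCat.{u} A) (xs : List A)

/-- the split Koszul cohomology, all degrees at once -/
theorem nonempty_split : ∀ (ys : List A), (∀ y ∈ ys, y ∈ Ideal.span {a | a ∈ xs}) → ∀ m : ℤ,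
    Nonempty ((koszulCx M (ys ++ xs)).homology m ≃ₗ[A]
      W (fun k => ((koszulCx M xs).homology k : Type u)) (fun k => cz ys.length (k - m)))
  | [], _, m => by
    have hfun : (fun k : ℤ => cz ([] : List A).length (k - m)) =
        (fun k : ℤ => if k = m then 1 else 0) := by
      funext k
      by_cases hk : k = m
      · subst hk
        simp [cz_zero_zero]
      · rw [if_neg hk, List.length_nil, cz_zero_ne]
        intro h
        apply hk
        linarith
    rw [hfun]
    exact nonempty_wSingle (A := A) (fun k => ((koszulCx M xs).homology k : Type u)) m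
  | y :: ys, hy, m => by
    have hy' : ∀ z ∈ ys, z ∈ Ideal.span {a | a ∈ xs} :=
      fun z hz => hy z (List.mem_cons_of_mem _ hz)
    obtain ⟨e1⟩ := nonempty_split ys hy' m
    obtain ⟨e2⟩ := nonempty_split ys hy' (m + 1)
    have hmem : y ∈ Ideal.span {a | a ∈ ys ++ xs} :=
      Ideal.span_mono (fun a ha => List.mem_append_right _ ha) (hy y List.mem_cons_self)
    obtain ⟨H⟩ := Groth.Agent.S14433.key2 M (ys ++ xs) y hmem
    obtain ⟨e⟩ := cone_split (koszulCx M (ys ++ xs)) y H m
    have hfun : (fun k : ℤ => cz (y :: ys).length (k - m)) =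
        (fun k : ℤ => cz ys.length (k - m) + cz ys.length (k - (m + 1))) := by
      funext k
      rw [List.length_cons, cz_succ]
      congr 2
      ring
    rw [hfun]
    exact ⟨(e.trans (e1.prodCongr e2)).trans
      (wAdd (A := A) (fun k => ((koszulCx M xs).homology k : Type u)) _ _)⟩

/-- **S15822** in linear-equivalence form for the `koszulCx` model. -/
theorem nonempty_equiv (ys : List A) (hy : ∀ y ∈ ys, y ∈ Ideal.span {a | a ∈ xs}) (m : ℤ) :
    Nonempty ((koszulCx M (ys ++ xs)).homology m ≃ₗ[A]
      ((j : Fin (ys.length + 1)) → Fin (ys.length.choose j) →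
        (koszulCx M xs).homology (m + ((j : ℕ) : ℤ)))) := by
  obtain ⟨e⟩ := nonempty_split M xs ys hy m
  obtain ⟨e'⟩ := nonempty_reindex (A := A) (fun k => ((koszulCx M xs).homology k : Type u))
    ys.length m
  exact ⟨e.trans e'⟩

/-- comparison of homology of the two models -/
noncomputable def homEquiv (l : List A) (k : ℤ) :
    (DRing.tensorCx (Koszul.koszul A l) M).homology k ≃ₗ[A] (koszulCx M l).homology k :=
  ((HomologicalComplex.homologyFunctor (ModuleCat.{u} A) (ComplexShape.up ℤ) k).mapIso
    (Groth.Agent.Helper13Kz.tensorIso M l)).toLinearEquiv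

theorem main (ys : List A) (hy : ∀ y ∈ ys, y ∈ Ideal.span {a | a ∈ xs}) (m : ℤ) :
    Nonempty ((DRing.tensorCx (Koszul.koszul A (xs ++ ys)) M).homology m ≅
      ModuleCat.of A ((j : Fin (ys.length + 1)) → Fin (ys.length.choose j) →
        (DRing.tensorCx (Koszul.koszul A xs) M).homology (m + j))) := by
  obtain ⟨sw⟩ := Groth.Agent.Lib.R2H3.KzGen.nonempty_iso_swap xs ys
  have e0 : (DRing.tensorCx (Koszul.koszul A (xs ++ ys)) M).homology m ≃ₗ[A]
      (DRing.tensorCx (Koszul.koszul A (ys ++ xs)) M).homology m :=
    ((HomologicalComplex.homologyFunctor (ModuleCat.{u} A) (ComplexShape.up ℤ) m).mapIso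
      (((MonoidalCategory.tensorRight M).mapHomologicalComplex (ComplexShape.up ℤ)).mapIso
        sw)).toLinearEquiv
  obtain ⟨e1⟩ := nonempty_equiv M xs ys hy m
  have e2 : ((j : Fin (ys.length + 1)) → Fin (ys.length.choose j) →
        (koszulCx M xs).homology (m + ((j : ℕ) : ℤ))) ≃ₗ[A]
      ((j : Fin (ys.length + 1)) → Fin (ys.length.choose j) →
        (DRing.tensorCx (Koszul.koszul A xs) M).homology (m + j)) :=
    LinearEquiv.piCongrRight (fun j => LinearEquiv.piCongrRight
      (fun _ => (homEquiv M xs (m + ((j : ℕ) : ℤ))).symm))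
  have e := ((e0.trans (homEquiv M (ys ++ xs) m)).trans e1).trans e2
  exact ⟨e.toModuleIso⟩

end Main

end Groth.Agent.Lib.R2H7.KzAppend
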