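import Groth.Agent.Lib.R2H7MonicMain

/-!
# Cancellation for the Laurent series ring

If `M`, `N` are finitely generated projective `R`-modules which become isomorphic over `R((t))`,
then `M ≃ N`.
-/

namespace Groth.Agent.Lib.R2H7.LaurentSer

open TensorProduct Matrix
open Groth.Agent.Lib.R2H7.HorrLocal Groth.Agent.Lib.R2H7.HorrPatch
open Groth.Agent.Lib.R2H7.HorrDict Groth.Agent.Lib.R2H7.HorrMain
open Groth.Agent.Lib.R2H7.MonicGlue Groth.Agent.Lib.R2H7.MonicMain

universe u

section Trunc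

variable {R : Type*} [CommRing R] {n : ℕ}

theorem trunc_const_mul (N : ℕ) (p : Matrix (Fin n) (Fin n) R)
    (U : Matrix (Fin n) (Fin n) (PowerSeries R)) :
    (p.map (PowerSeries.C (R := R)) * U).map (PowerSeries.trunc N) =
      p.map (Polynomial.C (R := R)) * U.map (PowerSeries.trunc N) := by
  refine Matrix.ext fun i j => ?_
  simp only [Matrix.map_apply, Matrix.mul_apply]
  rw [map_sum]
  refine Finset.sum_congr rfl fun k _ => ?_
  exact PowerSeries.trunc_C_mul N _ _

theorem trunc_mul_const (N : ℕ) (p : Matrix (Fin n) (Fin n) R)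
    (U : Matrix (Fin n) (Fin n) (PowerSeries R)) :
    (U * p.map (PowerSeries.C (R := R))).map (PowerSeries.trunc N) =
      U.map (PowerSeries.trunc N) * p.map (Polynomial.C (R := R)) := by
  refine Matrix.ext fun i j => ?_
  simp only [Matrix.map_apply, Matrix.mul_apply]
  rw [map_sum]
  refine Finset.sum_congr rfl fun k _ => ?_
  rw [mul_comm, PowerSeries.trunc_C_mul, mul_comm]

theorem coeff_trunc_mul (N d : ℕ) (hd : d < N) (U V : Matrix (Fin n) (Fin n) (PowerSeries R))
    (i j : Fin n) :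
    ((U.map (PowerSeries.trunc N) * V.map (PowerSeries.trunc N)) i j).coeff d =
      PowerSeries.coeff d ((U * V) i j) := by
  simp only [Matrix.mul_apply, Matrix.map_apply]
  rw [Polynomial.finset_sum_coeff, map_sum]
  refine Finset.sum_congr rfl fun k _ => ?_
  rw [PowerSeries.coeff_mul_eq_coeff_trunc_mul_trunc _ _ hd, ← Polynomial.coe_mul,
    Polynomial.coeff_coe]

theorem trunc_mul_trunc_eq (c : ℕ) (p : Matrix (Fin n) (Fin n) R)
    (U V : Matrix (Fin n) (Fin n) (PowerSeries R))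
    (hUV : U * V = (PowerSeries.X ^ c : PowerSeries R) • p.map (PowerSeries.C (R := R))) :
    ∃ Δ₀ : Matrix (Fin n) (Fin n) (Polynomial R),
      U.map (PowerSeries.trunc (c + 1)) * V.map (PowerSeries.trunc (c + 1)) =
        (Polynomial.X ^ c : Polynomial R) • p.map (Polynomial.C (R := R)) +
          (Polynomial.X ^ (c + 1) : Polynomial R) • Δ₀ := by
  have key : ∀ i j : Fin n, ∃ q : Polynomial R,
      (U.map (PowerSeries.trunc (c + 1)) * V.map (PowerSeries.trunc (c + 1))) i j -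
        (Polynomial.X ^ c : Polynomial R) * Polynomial.C (p i j) =
          Polynomial.X ^ (c + 1) * q := by
    intro i j
    have : (Polynomial.X ^ (c + 1) : Polynomial R) ∣
        (U.map (PowerSeries.trunc (c + 1)) * V.map (PowerSeries.trunc (c + 1))) i j -
          (Polynomial.X ^ c : Polynomial R) * Polynomial.C (p i j) := by
      rw [Polynomial.X_pow_dvd_iff]
      intro d hd
      rw [Polynomial.coeff_sub, coeff_trunc_mul _ _ hd, hUV, sub_eq_zero,
        ← Polynomial.coeff_coe, Polynomial.coe_mul, Polynomial.coe_pow, Polynomial.coe_X,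
        Polynomial.coe_C]
      simp only [Matrix.smul_apply, Matrix.map_apply, smul_eq_mul]
    obtain ⟨q, hq⟩ := this
    exact ⟨q, hq⟩
  choose Δ₀ hΔ₀ using key
  refine ⟨Matrix.of Δ₀, ?_⟩
  refine Matrix.ext fun i j => ?_
  have := hΔ₀ i j
  rw [sub_eq_iff_eq_add'] at this
  simp only [Matrix.add_apply, Matrix.smul_apply, Matrix.map_apply, Matrix.of_apply, smul_eq_mul]
  exact this

end Trunc

section Det

variable {R : Type u} [CommRing R] {n : ℕ}

open Polynomial in
/-- from approximate equations over `R[X]` to exact ones (determinant trick). -/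
theorem exact_of_approx (p p' : Matrix (Fin n) (Fin n) R) (c : ℕ)
    (Ut Vt Δ Δ' : Matrix (Fin n) (Fin n) R[X])
    (hpU : p.map (Polynomial.C (R := R)) * Ut = Ut)
    (hpV : p'.map (Polynomial.C (R := R)) * Vt = Vt)
    (hpΔ : p.map (Polynomial.C (R := R)) * Δ = Δ)
    (hΔp' : Δ' * p'.map (Polynomial.C (R := R)) = Δ')
    (h1 : Ut * Vt = (X ^ c : R[X]) • (p.map (Polynomial.C (R := R)) + (X : R[X]) • Δ))
    (h2 : Vt * Ut = (X ^ c : R[X]) • (p'.map (Polynomial.C (R := R)) + (X : R[X]) • Δ')) :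
    ∃ (m : ℕ) (h : R[X]) (U₀ V₀ : Matrix (Fin n) (Fin n) R[X]), h.coeff 0 = 1 ∧
      U₀ * V₀ = ((X : R[X]) ^ m * h) • p.map (Polynomial.C (R := R)) ∧
      V₀ * U₀ = ((X : R[X]) ^ m * h) • p'.map (Polynomial.C (R := R)) := by
  set pc := p.map (Polynomial.C (R := R)) with hpc
  set pc' := p'.map (Polynomial.C (R := R)) with hpc'
  set Mh : Matrix (Fin n) (Fin n) R[X] := 1 + (X : R[X]) • Δ with hMh
  set Mh' : Matrix (Fin n) (Fin n) R[X] := 1 + (X : R[X]) • Δ' with hMh'
  have hB : pc + (X : R[X]) • Δ = pc * Mh := by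
    rw [hMh, Matrix.mul_add, Matrix.mul_one, Matrix.mul_smul, hpΔ]
  have hB' : pc' + (X : R[X]) • Δ' = Mh' * pc' := by
    rw [hMh', Matrix.add_mul, Matrix.one_mul, Matrix.smul_mul, hΔp']
  have hdet0 : ∀ D : Matrix (Fin n) (Fin n) R[X], (1 + (X : R[X]) • D).det.coeff 0 = 1 := by
    intro D
    rw [Polynomial.coeff_zero_eq_eval_zero, ← Polynomial.coe_evalRingHom, RingHom.map_det]
    have : (evalRingHom (0 : R)).mapMatrix (1 + (X : R[X]) • D) = 1 := by
      rw [map_add, map_one, HorrKey.mapMatrix_smul]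
      simp
    rw [this, Matrix.det_one]
  set h := Mh.det with hh
  set h' := Mh'.det with hh'
  have hW : Mh * Mh.adjugate = h • (1 : Matrix (Fin n) (Fin n) R[X]) := Matrix.mul_adjugate Mh
  have hW' : Mh'.adjugate * Mh' = h' • (1 : Matrix (Fin n) (Fin n) R[X]) :=
    Matrix.adjugate_mul Mh'
  -- `V_a`, `V_b`
  have ea : Ut * (Vt * Mh.adjugate) = ((X : R[X]) ^ c * h) • pc := by
    rw [← Matrix.mul_assoc, h1, hB, Matrix.smul_mul, Matrix.mul_assoc, hW, Matrix.mul_smul,
      Matrix.mul_one, smul_smul]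
  have eb : (Mh'.adjugate * Vt) * Ut = ((X : R[X]) ^ c * h') • pc' := by
    rw [Matrix.mul_assoc, h2, hB', Matrix.mul_smul, ← Matrix.mul_assoc, hW', Matrix.smul_mul,
      Matrix.one_mul, smul_smul, mul_comm]
  have hVa : pc' * (Vt * Mh.adjugate) = Vt * Mh.adjugate := by
    rw [← Matrix.mul_assoc, hpV]
  -- the comparison
  have cmp : ((X : R[X]) ^ c * h') • (Vt * Mh.adjugate) =
      ((X : R[X]) ^ c * h) • ((Mh'.adjugate * Vt) * pc) := by
    have e1 : (Mh'.adjugate * Vt) * (Ut * (Vt * Mh.adjugate)) =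
        ((X : R[X]) ^ c * h) • ((Mh'.adjugate * Vt) * pc) := by
      rw [ea, Matrix.mul_smul]
    have e2 : (Mh'.adjugate * Vt) * (Ut * (Vt * Mh.adjugate)) =
        ((X : R[X]) ^ c * h') • (Vt * Mh.adjugate) := by
      rw [← Matrix.mul_assoc, eb, Matrix.smul_mul, hVa]
    rw [← e2, e1]
  refine ⟨c + c, h * h', Ut, ((X : R[X]) ^ c * h') • (Vt * Mh.adjugate), ?_, ?_, ?_⟩
  · rw [Polynomial.mul_coeff_zero, hh, hh', hdet0, hdet0, one_mul]
  · rw [Matrix.mul_smul, ea, smul_smul]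
    congr 1; ring
  · rw [cmp, Matrix.smul_mul, Matrix.mul_assoc, hpU, eb, smul_smul]
    congr 1; ring

end Det

section Final

variable {R : Type u} [CommRing R] {n : ℕ}

/-- the power series step: MvN equivalence up to `X^m` over `R⟦X⟧` gives MvN equivalence over `R`. -/
theorem mvn_of_powerSeries (p p' : Matrix (Fin n) (Fin n) R) (hp : p * p = p) (hp' : p' * p' = p')
    (m : ℕ) (U V : Matrix (Fin n) (Fin n) (PowerSeries R))
    (hUV : U * V = (PowerSeries.X ^ m : PowerSeries R) • p.map (PowerSeries.C (R := R)))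
    (hVU : V * U = (PowerSeries.X ^ m : PowerSeries R) • p'.map (PowerSeries.C (R := R))) :
    MvN p p' := by
  have hpI : p.map (PowerSeries.C (R := R)) * p.map (PowerSeries.C (R := R)) =
      p.map (PowerSeries.C (R := R)) := by
    rw [← Matrix.map_mul (f := (PowerSeries.C : R →+* PowerSeries R)), hp]
  have hpI' : p'.map (PowerSeries.C (R := R)) * p'.map (PowerSeries.C (R := R)) =
      p'.map (PowerSeries.C (R := R)) := by
    rw [← Matrix.map_mul (f := (PowerSeries.C : R →+* PowerSeries R)), hp']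
  obtain ⟨U₁, V₁, hUV₁, hVU₁, hpU₁, hUq₁, hqV₁, hVp₁⟩ := cube_normalize hpI hpI' hUV hVU
  rw [← pow_mul] at hUV₁ hVU₁
  set c := m * 3 with hc
  obtain ⟨Δ₀, hΔ₀⟩ := trunc_mul_trunc_eq c p U₁ V₁ hUV₁
  obtain ⟨Δ₀', hΔ₀'⟩ := trunc_mul_trunc_eq c p' V₁ U₁ hVU₁
  set pc := p.map (Polynomial.C (R := R)) with hpc
  set pc' := p'.map (Polynomial.C (R := R)) with hpc'
  have hpcI : pc * pc = pc := by
    rw [hpc, ← Matrix.map_mul (f := (Polynomial.C : R →+* Polynomial R)), hp]
  have hpcI' : pc' * pc' = pc' := by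
    rw [hpc', ← Matrix.map_mul (f := (Polynomial.C : R →+* Polynomial R)), hp']
  set Ut := U₁.map (PowerSeries.trunc (c + 1)) with hUt
  set Vt := V₁.map (PowerSeries.trunc (c + 1)) with hVt
  have a1 : pc * Ut = Ut := by rw [hpc, hUt, ← trunc_const_mul, hpU₁]
  have a2 : Ut * pc' = Ut := by rw [hpc', hUt, ← trunc_mul_const, hUq₁]
  have a3 : pc' * Vt = Vt := by rw [hpc', hVt, ← trunc_const_mul, hqV₁]
  have a4 : Vt * pc = Vt := by rw [hpc, hVt, ← trunc_mul_const, hVp₁]
  have e1 : Ut * Vt = (Polynomial.X ^ c : Polynomial R) •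
      (pc + (Polynomial.X : Polynomial R) • (pc * Δ₀ * pc)) := by
    calc Ut * Vt = pc * (Ut * Vt) * pc := by
          rw [← Matrix.mul_assoc, a1, Matrix.mul_assoc, a4]
      _ = _ := by
          rw [hΔ₀, Matrix.mul_add, Matrix.add_mul, Matrix.mul_smul, Matrix.smul_mul,
            Matrix.mul_smul, Matrix.smul_mul, hpcI, hpcI, smul_add, smul_smul, pow_succ]
  have e2 : Vt * Ut = (Polynomial.X ^ c : Polynomial R) •
      (pc' + (Polynomial.X : Polynomial R) • (pc' * Δ₀' * pc')) := by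
    calc Vt * Ut = pc' * (Vt * Ut) * pc' := by
          rw [← Matrix.mul_assoc, a3, Matrix.mul_assoc, a2]
      _ = _ := by
          rw [hΔ₀', Matrix.mul_add, Matrix.add_mul, Matrix.mul_smul, Matrix.smul_mul,
            Matrix.mul_smul, Matrix.smul_mul, hpcI', hpcI', smul_add, smul_smul, pow_succ]
  obtain ⟨m', h, U₀, V₀, hh0, k1, k2⟩ := exact_of_approx p p' c Ut Vt (pc * Δ₀ * pc)
    (pc' * Δ₀' * pc') a1 a3
    (by rw [← Matrix.mul_assoc, ← Matrix.mul_assoc, hpcI])
    (by rw [Matrix.mul_assoc, hpcI']) e1 e2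
  exact core p p' hp hp' m' h hh0 U₀ V₀ k1 k2

/-- **Cancellation for Laurent series.** -/
theorem laurentSeries_cancel (R : Type u) [CommRing R]
    (L : Type u) [CommRing L] [Algebra R L] (eL : L ≃ₐ[R] LaurentSeries R)
    (M N : Type u) [AddCommGroup M] [Module R M] [Module.Finite R M] [Module.Projective R M]
    [AddCommGroup N] [Module R N] [Module.Finite R N] [Module.Projective R N]
    (e : L ⊗[R] M ≃ₗ[L] L ⊗[R] N) :
    Nonempty (M ≃ₗ[R] N) := by
  obtain ⟨n₁, hn₁⟩ := exists_pres R M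
  obtain ⟨n₂, hn₂⟩ := exists_pres R N
  obtain ⟨f₁, g₁, h₁⟩ := hn₁ (max n₁ n₂) (le_max_left _ _)
  obtain ⟨f₂, g₂, h₂⟩ := hn₂ (max n₁ n₂) (le_max_right _ _)
  set p := LinearMap.toMatrix' (g₁ ∘ₗ f₁) with hp
  set p' := LinearMap.toMatrix' (g₂ ∘ₗ f₂) with hp'
  have hpI : p * p = p := toMatrix'_idem f₁ g₁ h₁
  have hpI' : p' * p' = p' := toMatrix'_idem f₂ g₂ h₂
  have hL : MvN (p.map (algebraMap R L)) (p'.map (algebraMap R L)) :=
    exists_matrices_lin f₁ g₁ h₁ f₂ g₂ h₂ e
  have conv : ∀ q : Matrix (Fin (max n₁ n₂)) (Fin (max n₁ n₂)) R,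
      (q.map (algebraMap R L)).map ((eL : L ≃+* LaurentSeries R) : L →+* LaurentSeries R) =
        (q.map (PowerSeries.C (R := R))).map
          (algebraMap (PowerSeries R) (LaurentSeries R)) := by
    intro q
    refine Matrix.ext fun i j => ?_
    simp only [Matrix.map_apply]
    show eL (algebraMap R L (q i j)) =
      algebraMap (PowerSeries R) (LaurentSeries R) (PowerSeries.C (q i j))
    rw [eL.commutes, HahnSeries.algebraMap_apply']
    rfl
  have hK := hL.map ((eL : L ≃+* LaurentSeries R) : L →+* LaurentSeries R)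
  rw [conv p, conv p'] at hK
  obtain ⟨g, hg, U, V, hUV, hVU⟩ :=
    mvn_spread (Submonoid.powers (PowerSeries.X : PowerSeries R)) _ _ hK
  obtain ⟨m, rfl⟩ := (Submonoid.mem_powers_iff _ _).1 hg
  obtain ⟨u, v, huv, hvu⟩ := mvn_of_powerSeries p p' hpI hpI' m U V hUV hVU
  exact equiv_of_mvn f₁ g₁ h₁ f₂ g₂ h₂ (Matrix.toLin' u) (Matrix.toLin' v)
    (by rw [← Matrix.toLin'_mul, huv, hp, Matrix.toLin'_toMatrix'])
    (by rw [← Matrix.toLin'_mul, hvu, hp', Matrix.toLin'_toMatrix'])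

end Final

end Groth.Agent.Lib.R2H7.LaurentSer
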