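import Mathlib

/-!
# Sub-additivity of the colength of an ideal in each generator

`length (A / (I, ab)) ≤ length (A / (I, a)) + length (A / (I, b))`, and its consequence for ideals
generated by products running over a finite index set in each slot.
-/

namespace Groth.Agent.Lib.R2H7.LengthProd

variable {A : Type*} [CommRing A]

theorem length_le_add_of_exact {N M P : Type*} [AddCommGroup N] [AddCommGroup M] [AddCommGroup P]
    [Module A N] [Module A M] [Module A P] (f : N →ₗ[A] M) (g : M →ₗ[A] P)
    (hg : Function.Surjective g) (H : Function.Exact f g) :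
    Module.length A M ≤ Module.length A N + Module.length A P := by
  rw [Module.length_eq_add_of_exact (LinearMap.ker g).subtype g (Submodule.subtype_injective _) hg
    (LinearMap.exact_subtype_ker_map g)]
  gcongr
  have hk : LinearMap.ker g = LinearMap.range f := (LinearMap.exact_iff.mp H)
  rw [hk]
  exact Module.length_le_of_surjective f.rangeRestrict f.surjective_rangeRestrict

/-- the colength of an ideal -/
noncomputable def colen (J : Ideal A) : ℕ∞ := Module.length A (A ⧸ J)

theorem colen_sup_span_mul_le (I : Ideal A) (a b : A) :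
    colen (I ⊔ Ideal.span {a * b}) ≤ colen (I ⊔ Ideal.span {a}) + colen (I ⊔ Ideal.span {b}) := by
  unfold colen
  have h1 : I ⊔ Ideal.span {b} ≤ Submodule.comap (LinearMap.lsmul A A a) (I ⊔ Ideal.span {a * b}) := by
    refine sup_le ?_ ?_
    · intro x hx
      change a • x ∈ I ⊔ Ideal.span {a * b}
      exact Ideal.mem_sup_left (I.smul_mem a hx)
    · rw [Ideal.span_le, Set.singleton_subset_iff]
      change a • b ∈ I ⊔ Ideal.span {a * b}
      exact Ideal.mem_sup_right (Ideal.subset_span rfl)
  have h2 : I ⊔ Ideal.span {a * b} ≤ Submodule.comap (LinearMap.id : A →ₗ[A] A) (I ⊔ Ideal.span {a}) := by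
    refine sup_le ?_ ?_
    · intro x hx
      exact Ideal.mem_sup_left hx
    · rw [Ideal.span_le, Set.singleton_subset_iff]
      change a * b ∈ I ⊔ Ideal.span {a}
      exact Ideal.mem_sup_right (Ideal.mul_mem_right _ _ (Ideal.subset_span rfl))
  let f : (A ⧸ (I ⊔ Ideal.span {b})) →ₗ[A] (A ⧸ (I ⊔ Ideal.span {a * b})) :=
    Submodule.mapQ _ _ (LinearMap.lsmul A A a) h1
  let g : (A ⧸ (I ⊔ Ideal.span {a * b})) →ₗ[A] (A ⧸ (I ⊔ Ideal.span {a})) :=
    Submodule.mapQ _ _ LinearMap.id h2
  have hg : Function.Surjective g := by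
    intro y
    obtain ⟨y, rfl⟩ := Submodule.Quotient.mk_surjective _ y
    exact ⟨Submodule.Quotient.mk y, rfl⟩
  have H : Function.Exact f g := by
    intro x
    obtain ⟨x, rfl⟩ := Submodule.Quotient.mk_surjective _ x
    constructor
    · intro hx
      have hx' : x ∈ I ⊔ Ideal.span {a} := by
        have : g (Submodule.Quotient.mk x) = Submodule.Quotient.mk x := rfl
        rw [this] at hx
        exact (Submodule.Quotient.mk_eq_zero _).mp hx
      obtain ⟨i, hi, z, hz, rfl⟩ := Submodule.mem_sup.mp hx'
      obtain ⟨c, rfl⟩ := Ideal.mem_span_singleton'.mp hz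
      refine ⟨Submodule.Quotient.mk c, ?_⟩
      change Submodule.Quotient.mk (a • c) = Submodule.Quotient.mk (i + c * a)
      rw [Submodule.Quotient.eq]
      have : a • c - (i + c * a) = -i := by simp [smul_eq_mul]; ring
      rw [this]
      exact Ideal.mem_sup_left (I.neg_mem hi)
    · rintro ⟨y, hy⟩
      obtain ⟨y, rfl⟩ := Submodule.Quotient.mk_surjective _ y
      rw [← hy]
      change Submodule.Quotient.mk (a • y) = 0
      rw [Submodule.Quotient.mk_eq_zero]
      refine Ideal.mem_sup_right ?_
      rw [smul_eq_mul]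
      exact Ideal.mul_mem_right _ _ (Ideal.subset_span rfl)
  have := length_le_add_of_exact f g hg H
  rw [add_comm] at this
  exact this

theorem colen_top : colen (⊤ : Ideal A) = 0 := by
  unfold colen
  rw [Module.length_eq_zero_iff]
  exact Ideal.Quotient.subsingleton_iff.mpr rfl

theorem colen_sup_span_prod_le {ι : Type*} (s : Finset ι) (I : Ideal A) (a : ι → A) :
    colen (I ⊔ Ideal.span {∏ i ∈ s, a i}) ≤ ∑ i ∈ s, colen (I ⊔ Ideal.span {a i}) := by
  classical
  induction s using Finset.induction_on with
  | empty =>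
    simp only [Finset.prod_empty, Finset.sum_empty, nonpos_iff_eq_zero]
    rw [Ideal.span_singleton_one, sup_top_eq, colen_top]
  | insert j s hj ih =>
    rw [Finset.prod_insert hj, Finset.sum_insert hj]
    refine (colen_sup_span_mul_le I (a j) (∏ i ∈ s, a i)).trans ?_
    gcongr

theorem colen_span_range_prod_le {G : Type*} [Fintype G] :
    ∀ (n : ℕ) (I : Ideal A) (f : Fin n → G → A),
      colen (I ⊔ Ideal.span (Set.range fun i => ∏ σ, f i σ)) ≤
        ∑ τ : Fin n → G, colen (I ⊔ Ideal.span (Set.range fun i => f i (τ i))) := by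
  classical
  intro n
  induction n with
  | zero =>
    intro I f
    have h0 : ∀ v : Fin 0 → A, Set.range v = ∅ := fun v => Set.range_eq_empty v
    simp only [Finset.univ_unique, Finset.sum_singleton]
    rw [h0, h0]
  | succ n ih =>
    intro I f
    have hsplit : ∀ v : Fin (n + 1) → A,
        I ⊔ Ideal.span (Set.range v) =
          (I ⊔ Ideal.span (Set.range fun i : Fin n => v i.succ)) ⊔ Ideal.span {v 0} := by
      intro v
      rw [Fin.range_fin_succ, Ideal.span_insert, sup_assoc]
      congr 1
      rw [sup_comm]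
      rfl
    rw [hsplit]
    refine (colen_sup_span_prod_le Finset.univ _ (fun σ => f 0 σ)).trans ?_
    rw [← (Fin.consEquiv (fun _ : Fin (n + 1) => G)).sum_comp, Fintype.sum_prod_type]
    refine Finset.sum_le_sum ?_
    intro σ _
    have h3 : (I ⊔ Ideal.span (Set.range fun i : Fin n => ∏ σ, f i.succ σ)) ⊔ Ideal.span {f 0 σ} =
        (I ⊔ Ideal.span {f 0 σ}) ⊔ Ideal.span (Set.range fun i : Fin n => ∏ σ, f i.succ σ) := by
      rw [sup_assoc, sup_assoc]
      congr 1
      exact sup_comm _ _
    rw [h3]
    refine (ih (I ⊔ Ideal.span {f 0 σ}) (fun i => f i.succ)).trans ?_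
    refine le_of_eq (Finset.sum_congr rfl ?_)
    intro τ _
    rw [hsplit]
    have h4 : ∀ J : Ideal A, (I ⊔ Ideal.span {f 0 σ}) ⊔ J = (I ⊔ J) ⊔ Ideal.span {f 0 σ} := by
      intro J
      rw [sup_assoc, sup_assoc]
      congr 1
      exact sup_comm _ _
    rw [h4]
    have e1 : (fun i : Fin n => f i.succ ((Fin.cons σ τ : Fin (n + 1) → G) i.succ)) =
        fun i => f i.succ (τ i) := by
      funext i
      rw [Fin.cons_succ]
    have e2 : f 0 ((Fin.cons σ τ : Fin (n + 1) → G) 0) = f 0 σ := by rw [Fin.cons_zero]
    simp only [Fin.consEquiv, Equiv.coe_fn_mk]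
    rw [e1, e2]

/-- the colength of an ideal generated by products over a finite type in each slot is at most the
sum of the colengths of the ideals generated by one factor in each slot -/
theorem length_quot_span_range_prod_le {G : Type*} [Fintype G] (n : ℕ) (f : Fin n → G → A) :
    Module.length A (A ⧸ Ideal.span (Set.range fun i => ∏ σ, f i σ)) ≤
      ∑ τ : Fin n → G, Module.length A (A ⧸ Ideal.span (Set.range fun i => f i (τ i))) := by
  have := colen_span_range_prod_le n (⊥ : Ideal A) f
  simp only [bot_sup_eq] at this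
  exact this

end Groth.Agent.Lib.R2H7.LengthProd
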