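import Mathlib
import Groth.Prelude.Def_StabCat
import Groth.Agent.Lib.R2H7StabNum
import Groth.Agent.Lib.R2H7HilbStab

/-!
# helper7: stability in the lexicographic form implies that nonzero endomorphisms are isomorphisms

`lex_convex`: a strict convex combination of two vectors which are both lexicographically smaller
than `v` is not `v`.  `Ax.isIso_endo_of_lex`: for a pure tested object `E` such that every tested
subobject of intermediate multiplicity has lexicographically smaller vector of normalised lower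
coefficients (`ℓ`-stability in the form of S15002), every nonzero endomorphism is an isomorphism.
-/

set_option autoImplicit false
universe v u
open CategoryTheory CategoryTheory.Limits Polynomial StabCat Filter
open Groth.Agent.Lib.R2H7.StabNum

namespace Groth.Agent.Lib.R2H7.HilbStab

theorem lex_convex {ℓ : ℕ} (u w v : Fin ℓ → ℚ) (a b : ℚ) (ha : 0 < a) (hb : 0 < b)
    (hv : ∀ j, (a + b) * v j = a * u j + b * w j) (h1 : toLex u < toLex v)
    (h2 : toLex w < toLex v) : False := by
  obtain ⟨i1, e1, l1⟩ := h1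
  obtain ⟨i2, e2, l2⟩ := h2
  simp only [Pi.toLex_apply] at e1 l1 e2 l2
  rcases lt_trichotomy i1 i2 with h | h | h
  · have h3 := hv i1
    have hw := e2 i1 h
    rw [hw] at h3
    nlinarith [mul_pos ha (sub_pos.2 l1)]
  · subst h
    have h3 := hv i1
    nlinarith [mul_pos ha (sub_pos.2 l1), mul_pos hb (sub_pos.2 l2)]
  · have h3 := hv i2
    have hu := e1 i2 h
    rw [hu] at h3
    nlinarith [mul_pos hb (sub_pos.2 l2)]

variable {C : Type u} [Category.{v} C] [Abelian C]
variable {ok : C → Prop} {HP : C → ℚ[X] → Prop} {sdim : C → WithBot ℕ∞}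

namespace Ax

variable (ax : Ax ok HP sdim)
include ax

theorem coeff_pos_of_alpha_pos {d : ℕ} {Q : ℚ[X]} (h : 0 < alpha d Q) : 0 < Q.coeff d := by
  unfold alpha at h
  have hd : (0 : ℚ) < (d.factorial : ℚ) := by exact_mod_cast Nat.factorial_pos d
  by_contra hneg
  push_neg at hneg
  nlinarith

theorem isIso_endo_of_lex {E : C} {d ℓ : ℕ} (okE : ok E) (pureE : Pure ok sdim E d)
    {P : ℚ[X]} (hP : HP E P)
    (hst : ∀ (F : C) (j : F ⟶ E), Mono j → ok F → ∀ Q : ℚ[X], HP F Q →
      0 < Q.coeff d → Q.coeff d < P.coeff d →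
        toLex (fun j : Fin ℓ => (Q.coeff (d - 1 - (j : ℕ)) *
          (Nat.factorial (d - 1 - (j : ℕ)) : ℚ)) / (Q.coeff d * (Nat.factorial d : ℚ))) <
        toLex (fun j : Fin ℓ => (P.coeff (d - 1 - (j : ℕ)) *
          (Nat.factorial (d - 1 - (j : ℕ)) : ℚ)) / (P.coeff d * (Nat.factorial d : ℚ))))
    (φ : E ⟶ E) (hφ : φ ≠ 0) : IsIso φ := by
  have hInz : ¬ IsZero (Abelian.image φ) := fun hz => hφ (by
    rw [← Abelian.image.fac φ, hz.eq_of_src (Abelian.image.ι φ) 0, Limits.comp_zero])
  have okI : ok (Abelian.image φ) := ax.ok_image φ okE okE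
  obtain ⟨pI, hpI⟩ := ax.hp_exists okI
  have dI := pureE _ (Abelian.image.ι φ) inferInstance okI hInz
  have aI : 0 < alpha d pI := ax.alpha_pos d okI hpI dI
  have cI : 0 < pI.coeff d := ax.coeff_pos_of_alpha_pos aI
  have hK := ax.hp_ker (Abelian.factorThruImage φ) okE okI hP hpI
  have okK := ax.ok_ker (Abelian.factorThruImage φ) okE okI
  have hKz : IsZero (kernel (Abelian.factorThruImage φ)) := by
    by_contra nzK
    have dK := pureE _ (kernel.ι (Abelian.factorThruImage φ)) inferInstance okK nzK
    have aK : 0 < alpha d (P - pI) := ax.alpha_pos d okK hK dK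
    have cK : 0 < (P - pI).coeff d := ax.coeff_pos_of_alpha_pos aK
    have cK' : 0 < P.coeff d - pI.coeff d := by rwa [coeff_sub] at cK
    have h1 := hst _ (kernel.ι (Abelian.factorThruImage φ)) inferInstance okK _ hK cK
      (by rw [coeff_sub]; linarith)
    have h2 := hst _ (Abelian.image.ι φ) inferInstance okI _ hpI cI (by linarith)
    refine lex_convex _ _ _ ((P - pI).coeff d) (pI.coeff d) cK cI (fun j => ?_) h1 h2
    have hD : (d.factorial : ℚ) ≠ 0 := by exact_mod_cast (Nat.factorial_pos d).ne'
    have hb : pI.coeff d ≠ 0 := cI.ne'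
    have ha : P.coeff d - pI.coeff d ≠ 0 := cK'.ne'
    have hab : P.coeff d ≠ 0 := by
      have : 0 < P.coeff d := by linarith
      exact this.ne'
    simp only [coeff_sub]
    field_simp
    ring
  haveI : Mono (Abelian.factorThruImage φ) := Preadditive.mono_of_isZero_kernel _ hKz
  haveI : IsIso (Abelian.factorThruImage φ) := isIso_of_mono_of_epi _
  haveI : Mono φ := by
    rw [← Abelian.image.fac φ]
    infer_instance
  have hQ := ax.hp_coker φ okE okE hP hP
  have hz : IsZero (cokernel φ) := by
    by_contra hnz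
    obtain ⟨m, hm⟩ := (ax.eventually_pos (ax.ok_coker φ okE okE) hnz hQ).exists
    simp at hm
  haveI := Preadditive.epi_of_isZero_cokernel φ hz
  exact isIso_of_mono_of_epi φ

end Ax

end Groth.Agent.Lib.R2H7.HilbStab
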