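import Groth.Agent.Lib.Helper25IntegralBC
import Groth.Agent.Lib.Helper25NormalInv
import Groth.Prelude.Def_ComodTens
import Groth.Agent.Lib.R2H7ExtBase

/-!
# Linear reductivity in exact sequences, part A (helper7)

Left/right invariant integrals on commutative Hopf algebras, their transport along injective
bialgebra maps and the antipode; the vectors `kInv k J V` of a comodule invariant under the subgroup
`Spec (A ⧸ J)`; a comodule map with values in `kInv` kills every subcomodule without such invariants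
(in a semisimple comodule); comodule maps between tensor product comodules.
-/

set_option autoImplicit false

namespace Groth.Agent.Lib.R2H7.LinRedA

open TensorProduct HopfRep Groth.Agent.Lib.Helper25

universe u v v' w w'

section Integrals

variable {k : Type u} [Field k] {A : Type v} [CommRing A]

/-- A left-invariant integral: `Σ α(x₁) x₂ = α(x) 1`. -/
def IsLInt [Bialgebra k A] (α : A →ₗ[k] k) : Prop :=
  ∀ x : A, lslice α (CoalgebraStruct.comul (R := k) x) = α x • (1 : A)

/-- A right-invariant integral: `Σ x₁ α(x₂) = α(x) 1`. -/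
def IsRInt [Bialgebra k A] (α : A →ₗ[k] k) : Prop :=
  ∀ x : A, slice A α (CoalgebraStruct.comul (R := k) x) = α x • (1 : A)

theorem isLinearlyReductive_of_isLInt [HopfAlgebra k A] (α : A →ₗ[k] k) (hα : IsLInt α)
    (h1 : α 1 = 1) : IsLinearlyReductive k A := by
  intro V _ _ _ _
  exact isSemisimpleComod_of_totalIntegral α ((isComodHom_trivial_iff α).mpr hα) h1

theorem exists_isLInt [Bialgebra k A] (hG : IsLinearlyReductive k A) :
    ∃ α : A →ₗ[k] k, IsLInt α ∧ α 1 = 1 :=
  exists_integral_of_isLinearlyReductive hG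

theorem isRInt_comp_antipode [HopfAlgebra k A] {α : A →ₗ[k] k} (hα : IsLInt α) :
    IsRInt (α ∘ₗ HopfAlgebra.antipode k) := fun x =>
  slice_comul_antipode_of_isComodHom_trivial α ((isComodHom_trivial_iff α).mpr hα) x

theorem isLInt_comp_antipode [HopfAlgebra k A] {β : A →ₗ[k] k} (hβ : IsRInt β) :
    IsLInt (β ∘ₗ HopfAlgebra.antipode k) := by
  intro x
  have h := hβ (HopfAlgebra.antipode k x)
  rw [comul_antipode] at h
  have key : ∀ z : A ⊗[k] A, slice A β (TensorProduct.map (HopfAlgebra.antipode k)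
      (HopfAlgebra.antipode k) (TensorProduct.comm k A A z)) =
      HopfAlgebra.antipode k (lslice (β ∘ₗ HopfAlgebra.antipode k) z) := by
    intro z
    induction z using TensorProduct.induction_on with
    | zero => simp
    | add x y hx hy => simp only [map_add, hx, hy]
    | tmul a b => simp
  rw [key] at h
  have h2 := congrArg (HopfAlgebra.antipode k) h
  rw [antipode_antipode, map_smul, HopfAlgebra.antipode_one] at h2
  exact h2

theorem isLInt_comp_of_injective {B : Type v'} [CommRing B] [Bialgebra k A] [Bialgebra k B]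
    (f : A →ₐc[k] B) (hf : Function.Injective f) {l : B →ₗ[k] k} (hl : IsLInt l) :
    IsLInt (l ∘ₗ (f : A →ₐ[k] B).toLinearMap) := by
  intro x
  have hinj : Function.Injective (f : A →ₐ[k] B).toLinearMap := hf
  apply hinj
  have h1 := hl (f x)
  have h2 : TensorProduct.map (f : A →ₐ[k] B).toLinearMap (f : A →ₐ[k] B).toLinearMap
      (CoalgebraStruct.comul (R := k) x) = CoalgebraStruct.comul (R := k) (f x) :=
    CoalgHomClass.map_comp_comul_apply f x
  rw [← h2, lslice_map] at h1
  rw [h1, map_smul]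
  simp

theorem exists_factor_of_surjective {M N P : Type*} [AddCommGroup M] [AddCommGroup N]
    [AddCommGroup P] [Module k M] [Module k N] [Module k P]
    (π : M →ₗ[k] N) (hπ : Function.Surjective π) (ψ : M →ₗ[k] P)
    (h : LinearMap.ker π ≤ LinearMap.ker ψ) : ∃ ψb : N →ₗ[k] P, ψb ∘ₗ π = ψ := by
  refine ⟨(LinearMap.ker π).liftQ ψ h ∘ₗ (π.quotKerEquivOfSurjective hπ).symm.toLinearMap, ?_⟩
  ext m
  simp only [LinearMap.comp_apply, LinearEquiv.coe_coe]
  have : (π.quotKerEquivOfSurjective hπ).symm (π m) = Submodule.Quotient.mk m := by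
    rw [LinearEquiv.symm_apply_eq]; rfl
  rw [this, Submodule.liftQ_apply]

end Integrals

section KInv

variable {k A : Type u} [Field k] [CommRing A] [HopfAlgebra k A] (J : Ideal A) [J.IsHopfIdeal k]
variable (V : Type w) [AddCommGroup V] [Module k V] [Comod k A V]

variable (k) in
/-- The coaction of the quotient `A ⧸ J` on an `A`-comodule. -/
noncomputable def kap : V →ₗ[k] V ⊗[k] (A ⧸ J) :=
  (Ideal.Quotient.mkₐ k J).toLinearMap.lTensor V ∘ₗ Comod.coact (k := k) (A := A)

variable (k) in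
/-- The vectors invariant under the subgroup `Spec (A ⧸ J)`. -/
noncomputable def kInv : Submodule k V :=
  LinearMap.ker (kap k J V - (TensorProduct.mk k V (A ⧸ J)).flip 1)

variable {V}

theorem mem_kInv (v : V) : v ∈ kInv k J V ↔
    (Ideal.Quotient.mkₐ k J).toLinearMap.lTensor V (Comod.coact (k := k) (A := A) v) =
      v ⊗ₜ[k] (1 : A ⧸ J) := by
  rw [kInv, LinearMap.mem_ker, LinearMap.sub_apply, sub_eq_zero]
  rfl

theorem mem_kInv_iff_T (v : V) : v ∈ kInv k J V ↔
    ∀ ψ : A →ₗ[k] k, (∀ a ∈ J, ψ a = 0) → T ψ v = ψ 1 • v := by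
  rw [mem_kInv]
  constructor
  · intro h ψ hψ
    obtain ⟨ψb, hψb⟩ := exists_factor_of_surjective (Ideal.Quotient.mkₐ k J).toLinearMap
      (Ideal.Quotient.mkₐ_surjective k J) ψ (by
        intro a ha
        rw [LinearMap.mem_ker] at ha ⊢
        exact hψ a (Ideal.Quotient.eq_zero_iff_mem.mp ha))
    rw [T_apply, ← hψb, ← slice_lTensor, h, slice_tmul]
    simp
  · intro h
    apply eq_of_slice_eq
    intro ψb
    rw [slice_lTensor, ← T_apply, h _ (fun a ha => by
      rw [LinearMap.comp_apply]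
      have : (Ideal.Quotient.mkₐ k J).toLinearMap a = 0 := Ideal.Quotient.eq_zero_iff_mem.mpr ha
      rw [this, map_zero]), slice_tmul]
    simp

theorem isSubcomod_kInv (hI : SGA3.IsNormalHopfIdeal k A J) :
    IsSubcomod (k := k) (A := A) (kInv k J V) := by
  rw [isSubcomod_iff]
  intro φ u hu
  rw [mem_kInv] at hu ⊢
  exact T_mem_invariants_of_normal J hI φ u hu

theorem map_mem_kInv {X : Type w'} [AddCommGroup X] [Module k X] [Comod k A X] {f : V →ₗ[k] X}
    (hf : Hoch.IsComodHom A f) {v : V} (hv : v ∈ kInv k J V) : f v ∈ kInv k J X := by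
  rw [mem_kInv_iff_T] at hv ⊢
  intro ψ hψ
  rw [← map_T_of_isComodHom hf, hv ψ hψ, map_smul]

/-- A comodule map with `A ⧸ J`-invariant values kills every subcomodule without such invariants
(in a semisimple comodule). -/
theorem eq_zero_of_range_le_kInv {X : Type w'} [AddCommGroup X] [Module k X] [Comod k A X]
    (hss : IsSemisimpleComod k A V) {f : V →ₗ[k] X} (hf : Hoch.IsComodHom A f)
    (hr : ∀ x, f x ∈ kInv k J X) {W : Submodule k V} (hW : IsSubcomod (k := k) (A := A) W)
    (hWI : W ⊓ kInv k J V = ⊥) {w : V} (hw : w ∈ W) : f w = 0 := by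
  have hK : IsSubcomod (k := k) (A := A) (LinearMap.ker f ⊓ W) :=
    isSubcomod_inf (isSubcomod_ker hf) hW
  obtain ⟨L', hL', hc⟩ := hss _ hK
  have htop : w ∈ (LinearMap.ker f ⊓ W) ⊔ L' := by rw [hc.sup_eq_top]; exact Submodule.mem_top
  obtain ⟨κ, hκ, ℓ, hℓ, hsum⟩ := Submodule.mem_sup.mp htop
  have hℓW : ℓ ∈ W := by
    have : ℓ = w - κ := by rw [← hsum]; abel
    rw [this]
    exact Submodule.sub_mem _ hw hκ.2
  have hfix : ℓ ∈ kInv k J V := by
    rw [mem_kInv_iff_T]
    intro ψ hψ
    have hmem : T ψ ℓ - ψ 1 • ℓ ∈ L' :=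
      Submodule.sub_mem _ (T_mem_of_isSubcomod hL' ψ hℓ) (Submodule.smul_mem _ _ hℓ)
    have hmemW : T ψ ℓ - ψ 1 • ℓ ∈ W :=
      Submodule.sub_mem _ (T_mem_of_isSubcomod hW ψ hℓW) (Submodule.smul_mem _ _ hℓW)
    have hker : T ψ ℓ - ψ 1 • ℓ ∈ LinearMap.ker f := by
      rw [LinearMap.mem_ker, map_sub, map_T_of_isComodHom hf, map_smul,
        (mem_kInv_iff_T J _).mp (hr ℓ) ψ hψ, sub_self]
    have h4 : T ψ ℓ - ψ 1 • ℓ ∈ (LinearMap.ker f ⊓ W) ⊓ L' :=
      Submodule.mem_inf.mpr ⟨Submodule.mem_inf.mpr ⟨hker, hmemW⟩, hmem⟩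
    rw [hc.inf_eq_bot, Submodule.mem_bot] at h4
    exact sub_eq_zero.mp h4
  have hℓ0 : ℓ = 0 := by
    have h5 : ℓ ∈ W ⊓ kInv k J V := Submodule.mem_inf.mpr ⟨hℓW, hfix⟩
    rwa [hWI, Submodule.mem_bot] at h5
  rw [← hsum, hℓ0, add_zero]
  exact hκ.1

end KInv

end Groth.Agent.Lib.R2H7.LinRedA
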