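import Groth.Agent.Lib.R2H7LinRedA

/-!
# Linear reductivity in exact sequences, part B (helper7)

For an exact sequence `1 → K → G → Q → 1` of affine group schemes over a field in Hopf form
(`φ : AQ → A` injective, `J` the Hopf ideal generated by the augmentation ideal of `AQ`):
`G` linearly reductive ⇒ `K = Spec (A ⧸ J)` linearly reductive (`isLinearlyReductive_quot`),
`G` linearly reductive ⇒ `Q` linearly reductive (`isLinearlyReductive_of_injective`), and
`K`, `Q` linearly reductive ⇒ `G` linearly reductive (`isLinearlyReductive_of_quot`).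
-/

set_option autoImplicit false

namespace Groth.Agent.Lib.R2H7.LinRedB

open TensorProduct HopfRep Groth.Agent.Lib.Helper25 Groth.Agent.Lib.Helper25.HopfSub
  Groth.Agent.Lib.R2H7.LinRedA Groth.Agent.Lib.R2H7.ExtBase

universe u

section MulAux

variable {k : Type u} [Field k]
variable (V W R : Type*) [AddCommGroup V] [Module k V] [AddCommGroup W] [Module k W]
  [CommRing R] [Algebra k R]

/-- `(v ⊗ r) ⊗ (w ⊗ s) ↦ (v ⊗ w) ⊗ r s`. -/
noncomputable def mulAux : (V ⊗[k] R) ⊗[k] (W ⊗[k] R) →ₗ[k] (V ⊗[k] W) ⊗[k] R :=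
  TensorProduct.map LinearMap.id (LinearMap.mul' k R) ∘ₗ
    (AlgebraTensorModule.tensorTensorTensorComm k k k k V R W R).toLinearMap

@[simp] theorem mulAux_tmul (v : V) (r : R) (w : W) (s : R) :
    mulAux V W R ((v ⊗ₜ[k] r) ⊗ₜ[k] (w ⊗ₜ[k] s)) = (v ⊗ₜ[k] w) ⊗ₜ[k] (r * s) := by
  simp [mulAux]

variable {V W R}

theorem mulAux_map {V' W' : Type*} [AddCommGroup V'] [Module k V'] [AddCommGroup W'] [Module k W']
    (f : V →ₗ[k] V') (g : W →ₗ[k] W') (s : V ⊗[k] R) (t : W ⊗[k] R) :
    mulAux V' W' R ((f.rTensor R s) ⊗ₜ[k] (g.rTensor R t)) =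
      (TensorProduct.map f g).rTensor R (mulAux V W R (s ⊗ₜ[k] t)) := by
  induction s using TensorProduct.induction_on with
  | zero => simp
  | add x y hx hy => simp only [map_add, TensorProduct.add_tmul, hx, hy]
  | tmul v r =>
    induction t using TensorProduct.induction_on with
    | zero => simp
    | add x y hx hy => simp only [map_add, TensorProduct.tmul_add, hx, hy]
    | tmul w r' => simp

theorem mulAux_lTensor {R' : Type*} [CommRing R'] [Algebra k R'] (h : R →ₐ[k] R')
    (s : V ⊗[k] R) (t : W ⊗[k] R) :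
    h.toLinearMap.lTensor (V ⊗[k] W) (mulAux V W R (s ⊗ₜ[k] t)) =
      mulAux V W R' ((h.toLinearMap.lTensor V s) ⊗ₜ[k] (h.toLinearMap.lTensor W t)) := by
  induction s using TensorProduct.induction_on with
  | zero => simp
  | add x y hx hy => simp only [map_add, TensorProduct.add_tmul, hx, hy]
  | tmul v r =>
    induction t using TensorProduct.induction_on with
    | zero => simp
    | add x y hx hy => simp only [map_add, TensorProduct.tmul_add, hx, hy]
    | tmul w r' => simp

theorem mulAux_tmul_one (v : V) (t : W ⊗[k] R) :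
    mulAux V W R ((v ⊗ₜ[k] (1 : R)) ⊗ₜ[k] t) = (TensorProduct.assoc k V W R).symm (v ⊗ₜ[k] t) := by
  induction t using TensorProduct.induction_on with
  | zero => simp
  | add x y hx hy => simp only [map_add, TensorProduct.tmul_add, hx, hy]
  | tmul w r => simp

theorem rTensor_mul'_mulAux (s t : R ⊗[k] R) :
    (LinearMap.mul' k R).rTensor R (mulAux R R R (s ⊗ₜ[k] t)) = s * t := by
  induction s using TensorProduct.induction_on with
  | zero => simp
  | add x y hx hy => simp only [map_add, TensorProduct.add_tmul, hx, hy, add_mul]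
  | tmul v r =>
    induction t using TensorProduct.induction_on with
    | zero => simp
    | add x y hx hy => simp only [map_add, TensorProduct.tmul_add, hx, hy, mul_add]
    | tmul w r' => simp

end MulAux

section TensorHom

variable {k : Type u} [Field k] {A : Type*} [CommRing A] [Bialgebra k A]

/-- The tensor product comodule (local instance). -/
@[reducible] noncomputable def tensorComod {V W : Type*} [AddCommGroup V] [Module k V]
    [AddCommGroup W] [Module k W] [c : Comod k A V] [d : Comod k A W] :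
    Comod k A (V ⊗[k] W) := ComodTens.Comod.tensor c d

attribute [local instance] tensorComod

variable {V V' W W' : Type*} [AddCommGroup V] [Module k V] [Comod k A V]
  [AddCommGroup V'] [Module k V'] [Comod k A V'] [AddCommGroup W] [Module k W] [Comod k A W]
  [AddCommGroup W'] [Module k W'] [Comod k A W']

theorem coact_tmul' (v : V) (w : W) :
    Comod.coact (k := k) (A := A) (v ⊗ₜ[k] w) =
      mulAux V W A (Comod.coact (k := k) (A := A) v ⊗ₜ[k] Comod.coact (k := k) (A := A) w) := rfl

theorem isComodHom_map {f : V →ₗ[k] V'} {g : W →ₗ[k] W'} (hf : Hoch.IsComodHom A f)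
    (hg : Hoch.IsComodHom A g) : Hoch.IsComodHom A (TensorProduct.map f g) := by
  unfold Hoch.IsComodHom
  apply TensorProduct.ext'
  intro v w
  simp only [LinearMap.comp_apply, TensorProduct.map_tmul]
  rw [coact_tmul', coact_tmul', isComodHom_apply hf, isComodHom_apply hg, mulAux_map]

theorem isComodHom_mul' : Hoch.IsComodHom A (LinearMap.mul' k A) := by
  unfold Hoch.IsComodHom
  apply TensorProduct.ext'
  intro a x
  simp only [LinearMap.comp_apply, LinearMap.mul'_apply]
  rw [coact_tmul', rTensor_mul'_mulAux]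
  exact Bialgebra.comul_mul a x

end TensorHom

section Proj

variable {k A : Type u} [Field k] [CommRing A] [HopfAlgebra k A] (J : Ideal A) [J.IsHopfIdeal k]

attribute [local instance] tensorComod

theorem kInv_regular : kInv k J A = Subalgebra.toSubmodule (coinvSub k J) := by
  ext x
  rw [mem_kInv, Subalgebra.mem_toSubmodule, mem_coinvSub]
  rfl

theorem mul_mem_kInv {x y : A} (hx : x ∈ kInv k J A) (hy : y ∈ kInv k J A) :
    x * y ∈ kInv k J A := by
  rw [kInv_regular, Subalgebra.mem_toSubmodule] at hx hy ⊢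
  exact mul_mem hx hy

theorem one_mem_kInv : (1 : A) ∈ kInv k J A := by
  rw [kInv_regular, Subalgebra.mem_toSubmodule]
  exact one_mem _

theorem lslice_counit_comul (x : A) :
    lslice (CoalgebraStruct.counit (R := k) (A := A)) (CoalgebraStruct.comul (R := k) x) = x := by
  have h := Coalgebra.rTensor_counit_comul (R := k) x
  rw [lslice, LinearMap.comp_apply, h]
  simp

theorem mk_eq_of_mem_kInv {b : A} (hb : b ∈ kInv k J A) :
    (Ideal.Quotient.mkₐ k J).toLinearMap b =
      CoalgebraStruct.counit (R := k) (A := A) b • (1 : A ⧸ J) := by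
  have h := (mem_kInv J b).mp hb
  have h2 := congrArg (lslice (CoalgebraStruct.counit (R := k) (A := A))) h
  rw [lslice_lTensor, lslice_tmul] at h2
  rw [← h2]
  congr 1
  exact (lslice_counit_comul b).symm

theorem kap_tmul_of_mem {b : A} (hb : b ∈ kInv k J A) (x : A) :
    kap k J (A ⊗[k] A) (b ⊗ₜ[k] x) =
      (TensorProduct.assoc k A A (A ⧸ J)).symm (b ⊗ₜ[k] kap k J A x) := by
  have h := (mem_kInv J b).mp hb
  simp only [kap, LinearMap.comp_apply]
  rw [coact_tmul', mulAux_lTensor, h, mulAux_tmul_one]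

theorem assoc_tmul_one (z : A ⊗[k] A) :
    TensorProduct.assoc k A A (A ⧸ J) (z ⊗ₜ[k] (1 : A ⧸ J)) =
      ((TensorProduct.mk k A (A ⧸ J)).flip 1).lTensor A z := by
  induction z using TensorProduct.induction_on with
  | zero => simp
  | add x y hx hy => simp only [map_add, TensorProduct.add_tmul, hx, hy]
  | tmul a x => simp

/-- For a linearly reductive group and a normal subgroup `Spec (A ⧸ J)`: the equivariant projection
of `A` onto the invariants `B` of the subgroup, which is `B`-linear. -/
theorem exists_proj (hG : IsLinearlyReductive k A) (hI : SGA3.IsNormalHopfIdeal k A J) :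
    ∃ P : A →ₗ[k] A, Hoch.IsComodHom A P ∧ (∀ x, P x ∈ kInv k J A) ∧
      (∀ x ∈ kInv k J A, P x = x) ∧ ∀ b ∈ kInv k J A, ∀ x, P (b * x) = b * P x := by
  have hss : IsSemisimpleComod k A A := isSemisimpleComod_of_isLinearlyReductive hG A
  have hB : IsSubcomod (k := k) (A := A) (kInv k J A) := isSubcomod_kInv J hI
  obtain ⟨C, hC, hc⟩ := hss _ hB
  set P : A →ₗ[k] A := (kInv k J A).projection C hc with hPdef
  have hP : Hoch.IsComodHom A P := isComodHom_projection hB hC hc
  have hPmem : ∀ x, P x ∈ kInv k J A := fun x => Submodule.projection_apply_mem hc x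
  have hPid : ∀ x ∈ kInv k J A, P x = x := fun x hx =>
    Submodule.projection_apply_of_mem_left hc hx
  have hPP : ∀ x, P (P x) = P x := fun x => hPid _ (hPmem x)
  refine ⟨P, hP, hPmem, hPid, ?_⟩
  -- the defect map
  set f : A ⊗[k] A →ₗ[k] A :=
    P ∘ₗ LinearMap.mul' k A ∘ₗ TensorProduct.map P LinearMap.id -
      LinearMap.mul' k A ∘ₗ TensorProduct.map P P with hfdef
  have hf_tmul : ∀ a x : A, f (a ⊗ₜ[k] x) = P (P a * x) - P a * P x := by
    intro a x
    simp [hfdef]
  have hf : Hoch.IsComodHom A f :=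
    isComodHom_sub
      (isComodHom_comp (isComodHom_comp (isComodHom_map hP isComodHom_id) isComodHom_mul') hP)
      (isComodHom_comp (isComodHom_map hP hP) isComodHom_mul')
  have hfr : ∀ z, f z ∈ kInv k J A := by
    intro z
    induction z using TensorProduct.induction_on with
    | zero => rw [map_zero]; exact Submodule.zero_mem _
    | add x y hx hy => rw [map_add]; exact Submodule.add_mem _ hx hy
    | tmul a x =>
      rw [hf_tmul]
      exact Submodule.sub_mem _ (hPmem _) (mul_mem_kInv J (hPmem a) (hPmem x))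
  have hssM : IsSemisimpleComod k A (A ⊗[k] A) :=
    isSemisimpleComod_of_isLinearlyReductive hG (A ⊗[k] A)
  have hBM : IsSubcomod (k := k) (A := A) (kInv k J (A ⊗[k] A)) := isSubcomod_kInv J hI
  obtain ⟨W, hW, hcW⟩ := hssM _ hBM
  -- `f` vanishes on the invariants of `A ⊗ A`
  have hf1 : ∀ z ∈ kInv k J (A ⊗[k] A), f z = 0 := by
    intro z hz
    have hrT : Hoch.IsComodHom A (TensorProduct.map P (LinearMap.id : A →ₗ[k] A)) :=
      isComodHom_map hP isComodHom_id
    set z' := TensorProduct.map P (LinearMap.id : A →ₗ[k] A) z with hz'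
    have h1 : f z = f z' := by
      have : f ∘ₗ TensorProduct.map P (LinearMap.id : A →ₗ[k] A) = f := by
        apply TensorProduct.ext'
        intro a x
        simp only [LinearMap.comp_apply, TensorProduct.map_tmul, LinearMap.id_apply]
        rw [hf_tmul, hf_tmul, hPP]
      rw [hz', ← LinearMap.comp_apply, this]
    have h2 : z' ∈ kInv k J (A ⊗[k] A) := map_mem_kInv J hrT hz
    have h3 : z' ∈ LinearMap.range ((kInv k J A).subtype.rTensor A) := by
      have : TensorProduct.map P (LinearMap.id : A →ₗ[k] A) =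
          (kInv k J A).subtype.rTensor A ∘ₗ
            (P.codRestrict (kInv k J A) hPmem).rTensor A := by
        rw [← LinearMap.rTensor_comp]
        rfl
      rw [hz', this]
      exact ⟨_, rfl⟩
    have h4' : ∀ y : ↥(kInv k J A) ⊗[k] A,
        kap k J (A ⊗[k] A) ((kInv k J A).subtype.rTensor A y) =
        (TensorProduct.assoc k A A (A ⧸ J)).symm
          ((kap k J A).lTensor A ((kInv k J A).subtype.rTensor A y)) := by
      intro y
      induction y using TensorProduct.induction_on with
      | zero => simp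
      | add x y hx hy => simp only [map_add, hx, hy]
      | tmul b x =>
        simp only [LinearMap.rTensor_tmul, Submodule.subtype_apply, LinearMap.lTensor_tmul]
        exact kap_tmul_of_mem J b.2 x
    obtain ⟨y, hy⟩ := h3
    have h4 : kap k J (A ⊗[k] A) z' =
        (TensorProduct.assoc k A A (A ⧸ J)).symm ((kap k J A).lTensor A z') := by
      rw [← hy]
      exact h4' y
    have h5 : (kap k J A).lTensor A z' = ((TensorProduct.mk k A (A ⧸ J)).flip 1).lTensor A z' := by
      have h6 : kap k J (A ⊗[k] A) z' = z' ⊗ₜ[k] (1 : A ⧸ J) := (mem_kInv J z').mp h2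
      rw [h4, LinearEquiv.symm_apply_eq, assoc_tmul_one] at h6
      exact h6
    have h7 : z' ∈ LinearMap.range ((kInv k J A).subtype.lTensor A) := by
      rw [mem_range_lTensor_subtype_iff]
      intro l
      rw [mem_kInv]
      have h8 := congrArg (lslice l) h5
      rw [lslice_lTensor, lslice_lTensor] at h8
      exact h8
    have h9 : ∀ y' : A ⊗[k] ↥(kInv k J A), f ((kInv k J A).subtype.lTensor A y') = 0 := by
      intro y'
      induction y' using TensorProduct.induction_on with
      | zero => simp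
      | add x y hx hy => simp only [map_add, hx, hy, add_zero]
      | tmul a b =>
        simp only [LinearMap.lTensor_tmul, Submodule.subtype_apply]
        rw [hf_tmul, hPid _ (mul_mem_kInv J (hPmem a) b.2), hPid _ b.2, sub_self]
    obtain ⟨y', hy'⟩ := h7
    rw [h1, ← hy']
    exact h9 y'
  have hf0 : f = 0 := by
    apply LinearMap.ext
    intro z
    have htop : z ∈ kInv k J (A ⊗[k] A) ⊔ W := by rw [hcW.sup_eq_top]; exact Submodule.mem_top
    obtain ⟨z₁, hz₁, z₂, hz₂, hsum⟩ := Submodule.mem_sup.mp htop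
    rw [← hsum, map_add, hf1 z₁ hz₁,
      eq_zero_of_range_le_kInv J hssM hf hfr hW hcW.symm.inf_eq_bot hz₂]
    simp
  intro b hb x
  have h := LinearMap.congr_fun hf0 (b ⊗ₜ[k] x)
  rw [hf_tmul, hPid b hb, LinearMap.zero_apply, sub_eq_zero] at h
  exact h

end Proj

section Main

variable {k A Q : Type u} [Field k] [CommRing A] [HopfAlgebra k A] [CommRing Q] [HopfAlgebra k Q]
  (φ : Q →ₐc[k] A) (J : Ideal A) [J.IsHopfIdeal k]
  (hJ : J = Ideal.map (φ : Q →+* A) (RingHom.ker (Bialgebra.counitAlgHom k Q)))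

include hJ in
theorem map_mem_kInv_regular (q : Q) : φ q ∈ kInv k J A := by
  rw [mem_kInv]
  have h := rhoR_map φ J hJ q
  rw [rhoR_apply] at h
  exact h

include hJ in
/-- The kernel `Spec (A ⧸ J)` of a quotient map from a linearly reductive group has a normalized
left integral. -/
theorem exists_isLInt_quot (hG : IsLinearlyReductive k A) :
    ∃ α : (A ⧸ J) →ₗ[k] k, IsLInt α ∧ α 1 = 1 := by
  have hI : SGA3.IsNormalHopfIdeal k A J := isNormalHopfIdeal_map_ker_counit φ J hJ
  obtain ⟨P, hP, hPmem, hPid, hPlin⟩ := exists_proj J hG hI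
  set θ : A →ₗ[k] k := CoalgebraStruct.counit (R := k) (A := A) ∘ₗ P with hθ
  have hθlin : ∀ b ∈ kInv k J A, ∀ x, θ (b * x) =
      CoalgebraStruct.counit (R := k) (A := A) b * θ x := by
    intro b hb x
    rw [hθ, LinearMap.comp_apply, hPlin b hb x, Bialgebra.counit_mul]
    rfl
  -- `θ` kills `J`
  have hθJ : ∀ a ∈ J, ∀ c : A, θ (c * a) = 0 := by
    intro a ha
    rw [hJ, Ideal.map] at ha
    induction ha using Submodule.span_induction with
    | mem x hx =>
      obtain ⟨q, hq, rfl⟩ := hx
      intro c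
      have hq0 : CoalgebraStruct.counit (R := k) (A := A) (φ q) = 0 := by
        have h1 : CoalgebraStruct.counit (R := k) (A := A) (φ q) =
            CoalgebraStruct.counit (R := k) (A := Q) q := CoalgHomClass.counit_comp_apply φ q
        rw [h1]
        exact hq
      have : (φ : Q →+* A) q = φ q := rfl
      rw [this, mul_comm, hθlin _ (map_mem_kInv_regular φ J hJ q), hq0, zero_mul]
    | zero => intro c; rw [mul_zero, map_zero]
    | add x y _ _ hx hy => intro c; rw [mul_add, map_add, hx, hy, add_zero]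
    | smul r x _ hx => intro c; rw [smul_eq_mul, ← mul_assoc]; exact hx _
  obtain ⟨θb, hθb⟩ := exists_factor_of_surjective (Ideal.Quotient.mkₐ k J).toLinearMap
    (Ideal.Quotient.mkₐ_surjective k J) θ (by
      intro a ha
      rw [LinearMap.mem_ker] at ha ⊢
      have := hθJ a (Ideal.Quotient.eq_zero_iff_mem.mp ha) 1
      rwa [one_mul] at this)
  have hθb' : ∀ a, θb (Ideal.Quotient.mk J a) = θ a := fun a => LinearMap.congr_fun hθb a
  refine ⟨θb, ?_, ?_⟩
  · intro y
    obtain ⟨a, rfl⟩ := Ideal.Quotient.mk_surjective y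
    rw [Bialgebra.Quotient.comul_mk, lslice_map, hθb, hθb' a]
    have h1 : lslice θ (CoalgebraStruct.comul (R := k) a) = P a := by
      rw [hθ, ← lslice_rTensor]
      have h2 : P.rTensor A (CoalgebraStruct.comul (R := k) a) =
          CoalgebraStruct.comul (R := k) (P a) := (isComodHom_apply hP a).symm
      rw [h2, lslice_counit_comul]
    rw [h1, mk_eq_of_mem_kInv J (hPmem a)]
    rfl
  · have h1 : (1 : A ⧸ J) = Ideal.Quotient.mk J (1 : A) := rfl
    rw [h1, hθb' 1, hθ, LinearMap.comp_apply, hPid 1 (one_mem_kInv J)]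
    exact Bialgebra.counit_one

include hJ in
/-- A normal subgroup (the kernel of a quotient map) of a linearly reductive group is linearly
reductive. -/
theorem isLinearlyReductive_quot (hG : IsLinearlyReductive k A) :
    IsLinearlyReductive k (A ⧸ J) := by
  obtain ⟨α, hα, h1⟩ := exists_isLInt_quot φ J hJ hG
  exact isLinearlyReductive_of_isLInt α hα h1

/-- A quotient of a linearly reductive group is linearly reductive. -/
theorem isLinearlyReductive_of_injective (hφ : Function.Injective φ)
    (hG : IsLinearlyReductive k A) : IsLinearlyReductive k Q := by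
  obtain ⟨α, hα, h1⟩ := exists_isLInt hG
  refine isLinearlyReductive_of_isLInt _ (isLInt_comp_of_injective φ hφ hα) ?_
  rw [LinearMap.comp_apply]
  have : (φ : Q →ₐ[k] A).toLinearMap 1 = 1 := map_one φ
  rw [this, h1]

theorem lTensor_smul_one_eq (β : A →ₗ[k] k) (z : A ⊗[k] A) :
    ((Algebra.linearMap k (A ⧸ J)) ∘ₗ β).lTensor A z = slice A β z ⊗ₜ[k] (1 : A ⧸ J) := by
  induction z using TensorProduct.induction_on with
  | zero => simp
  | add x y hx hy => simp only [map_add, hx, hy, TensorProduct.add_tmul]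
  | tmul a x =>
    simp only [LinearMap.lTensor_tmul, LinearMap.comp_apply, Algebra.linearMap_apply, slice_tmul]
    rw [Algebra.algebraMap_eq_smul_one, TensorProduct.tmul_smul, TensorProduct.smul_tmul']

include hJ in
/-- An extension of a linearly reductive group by a linearly reductive group is linearly
reductive. -/
theorem isLinearlyReductive_of_quot (hφ : Function.Injective φ)
    (hK : IsLinearlyReductive k (A ⧸ J)) (hQ : IsLinearlyReductive k Q) :
    IsLinearlyReductive k A := by
  obtain ⟨αK', hαK', hK1'⟩ : ∃ α' : (A ⧸ J) →ₗ[k] k, IsRInt α' ∧ α' 1 = 1 := by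
    obtain ⟨αK, hαK, hK1⟩ := exists_isLInt hK
    refine ⟨αK ∘ₗ HopfAlgebra.antipode k, isRInt_comp_antipode hαK, ?_⟩
    rw [LinearMap.comp_apply, HopfAlgebra.antipode_one, hK1]
  obtain ⟨αQ', hαQ', hQ1'⟩ : ∃ α' : Q →ₗ[k] k, IsRInt α' ∧ α' 1 = 1 := by
    obtain ⟨αQ, hαQ, hQ1⟩ := exists_isLInt hQ
    refine ⟨αQ ∘ₗ HopfAlgebra.antipode k, isRInt_comp_antipode hαQ, ?_⟩
    rw [LinearMap.comp_apply, HopfAlgebra.antipode_one, hQ1]
  obtain ⟨β, hβ⟩ : ∃ β : A →ₗ[k] k, β = αK' ∘ₗ (Ideal.Quotient.mkₐ k J).toLinearMap := ⟨_, rfl⟩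
  have hβ' : ∀ a, β a = αK' (Ideal.Quotient.mk J a) := fun a => by rw [hβ]; rfl
  -- `mk ∘ rTrans β = β • 1`
  have hmk : (Ideal.Quotient.mkₐ k J).toLinearMap ∘ₗ rTrans β =
      (Algebra.linearMap k (A ⧸ J)) ∘ₗ β := by
    apply LinearMap.ext
    intro x
    have e1 : ∀ z : A ⊗[k] A, (Ideal.Quotient.mkₐ k J).toLinearMap (slice A β z) =
        slice (A ⧸ J) αK' (TensorProduct.map (Ideal.Quotient.mkₐ k J).toLinearMap
          (Ideal.Quotient.mkₐ k J).toLinearMap z) := by
      intro z
      induction z using TensorProduct.induction_on with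
      | zero => simp
      | add x y hx hy => simp only [map_add, hx, hy]
      | tmul a b =>
        simp only [slice_tmul, TensorProduct.map_tmul, map_smul, hβ']
        rfl
    have h2 : TensorProduct.map (Ideal.Quotient.mkₐ k J).toLinearMap
        (Ideal.Quotient.mkₐ k J).toLinearMap (CoalgebraStruct.comul (R := k) x) =
        CoalgebraStruct.comul (R := k) (Ideal.Quotient.mk J x) :=
      (Bialgebra.Quotient.comul_mk (R := k) J x).symm
    simp only [LinearMap.comp_apply, rTrans]
    rw [e1, h2, hαK' (Ideal.Quotient.mk J x), Algebra.linearMap_apply,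
      Algebra.algebraMap_eq_smul_one, hβ']
  -- the `K`-average lands in the invariants
  have hTmem : ∀ a : A, T β a ∈ kInv k J A := by
    intro a
    rw [mem_kInv, coact_T, ← LinearMap.comp_apply, ← LinearMap.lTensor_comp, hmk,
      lTensor_smul_one_eq]
    rfl
  obtain ⟨r, hr⟩ := LinearMap.exists_leftInverse_of_injective (φ : Q →ₐ[k] A).toLinearMap
    (LinearMap.ker_eq_bot.mpr hφ)
  have hr' : ∀ q : Q, r (φ q) = q := fun q => LinearMap.congr_fun hr q
  have hrange : ∀ a : A, ∃ q : Q, φ q = T β a := by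
    intro a
    have h1 : T β a ∈ coinvSub k J := by
      have := hTmem a
      rwa [kInv_regular, Subalgebra.mem_toSubmodule] at this
    rw [← range_eq_coinvSub φ J hJ] at h1
    exact h1
  obtain ⟨αG, hαG⟩ : ∃ αG : A →ₗ[k] k, αG = αQ' ∘ₗ r ∘ₗ T β := ⟨_, rfl⟩
  have hαG' : ∀ a, αG a = αQ' (r (T β a)) := fun a => by rw [hαG]; rfl
  have hRInt : IsRInt αG := by
    intro a
    obtain ⟨q, hq⟩ := hrange a
    have h1 : slice A αG (CoalgebraStruct.comul (R := k) a) =
        slice A (αQ' ∘ₗ r) (CoalgebraStruct.comul (R := k) (T β a)) := by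
      have h2 : CoalgebraStruct.comul (R := k) (T β a) =
          (rTrans β).lTensor A (CoalgebraStruct.comul (R := k) a) := coact_T β a
      rw [h2, slice_lTensor, hαG]
      rfl
    have h3 : TensorProduct.map (φ : Q →ₐ[k] A).toLinearMap (φ : Q →ₐ[k] A).toLinearMap
        (CoalgebraStruct.comul (R := k) q) = CoalgebraStruct.comul (R := k) (φ q) :=
      CoalgHomClass.map_comp_comul_apply φ q
    have h4 : (αQ' ∘ₗ r) ∘ₗ (φ : Q →ₐ[k] A).toLinearMap = αQ' := by
      rw [LinearMap.comp_assoc, hr, LinearMap.comp_id]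
    have h5 : (φ : Q →ₐ[k] A).toLinearMap 1 = 1 := map_one φ
    have h6 : αG a = αQ' q := by rw [hαG', ← hq, hr' q]
    rw [h1, ← hq, ← h3, slice_map, h4, hαQ' q, map_smul, h5, h6]
  have hG1 : αG 1 = 1 := by
    have h1 : T β (1 : A) = 1 := by
      rw [T_apply]
      have : Comod.coact (k := k) (A := A) (1 : A) = (1 : A) ⊗ₜ[k] (1 : A) :=
        Bialgebra.comul_one
      rw [this, slice_tmul, hβ', map_one, hK1', one_smul]
    have h3 : r 1 = 1 := by
      have := hr' 1
      rwa [map_one] at this
    rw [hαG', h1, h3, hQ1']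
  refine isLinearlyReductive_of_isLInt _ (isLInt_comp_antipode hRInt) ?_
  rw [LinearMap.comp_apply, HopfAlgebra.antipode_one, hG1]

end Main

end Groth.Agent.Lib.R2H7.LinRedB
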