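/-
helper7: values of rational functions at rational points (`LocSym.HasValueAt`) through the local ring
and the evaluation homomorphism; uniformizers and functions with prescribed orders at finitely many
points.
-/
import Groth.Agent.Lib.R2H7LocSymSymbol

set_option autoImplicit false
set_option linter.unusedSectionVars false
set_option linter.style.haveILetI false
universe v u

open CategoryTheory AlgebraicGeometry

namespace Groth.Agent.Lib.R2H7.LocSymValue

open LocSym Groth.Agent.Lib.R2H7 Groth.Agent.Lib.R2H7.LocSymBasic Groth.Agent.Lib.R2H7.LocSymMod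
  Groth.Agent.Lib.R2H7.LocSymApprox Groth.Agent.Lib.R2H7.LocSymSymbol

variable {k : Type u} [Field k] [IsAlgClosed k] {X : Scheme.{u}} [IsIntegral X]
  (c : X ⟶ Spec (CommRingCat.of k)) [IsProper c] [Smooth c]
  (hdim : topologicalKrullDim X = 1)

include hdim

theorem ev_eq_zero_of_mem (x : Pt c) {r : X.presheaf.stalk x.pt}
    (hr : r ∈ IsLocalRing.maximalIdeal (X.presheaf.stalk x.pt)) : ev c x r = 0 := by
  by_contra h
  have hu : IsUnit (ev c x r) := IsUnit.mk0 _ h
  have := (isUnit_map_iff (ev c x) r).mp hu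
  exact (IsLocalRing.mem_maximalIdeal r).mp hr this

theorem algebraMap_injective (x : Pt c) :
    Function.Injective (algebraMap (X.presheaf.stalk x.pt) X.functionField) := by
  haveI := isDVR_pt c hdim x
  exact IsFractionRing.injective _ _

theorem hasValueAt_iff (x : Pt c) (g : X.functionField) (a : k) :
    HasValueAt x g a ↔
      ∃ r : X.presheaf.stalk x.pt, algebraMap (X.presheaf.stalk x.pt) X.functionField r = g ∧
        ev c x r = a := by
  haveI := isDVR_pt c hdim x
  constructor
  · rintro (h | h)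
    · exact ⟨stalkConst c x.pt a, (constFun_eq c x.pt a).symm.trans h.symm, ev_stalkConst c x a⟩
    · obtain ⟨s, hs, hsg⟩ := DvrOrd.exists_mem_maximalIdeal_of_pos (X.presheaf.stalk x.pt)
        X.functionField h
      refine ⟨s + stalkConst c x.pt a, ?_, ?_⟩
      · rw [map_add, hsg, ← constFun_eq, sub_add_cancel]
      · rw [map_add, ev_eq_zero_of_mem c hdim x hs, ev_stalkConst, zero_add]
  · rintro ⟨r, rfl, rfl⟩
    by_cases h0 : r - stalkConst c x.pt (ev c x r) = 0
    · left
      rw [constFun_eq c x.pt, ← sub_eq_zero.mp h0]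
    · right
      have hm : r - stalkConst c x.pt (ev c x r) ∈
          IsLocalRing.maximalIdeal (X.presheaf.stalk x.pt) := by
        apply ker_ev_le
        rw [map_sub, ev_stalkConst, sub_self]
      have := (DvrOrd.ordFrac_algebraMap_pos_iff (X.presheaf.stalk x.pt) X.functionField h0).mpr hm
      rw [map_sub, ← constFun_eq] at this
      exact this

theorem hasValueAt_const (x : Pt c) (a : k) : HasValueAt x (constFun c a) a := Or.inl rfl

theorem hasValueAt_one (x : Pt c) : HasValueAt x (1 : X.functionField) (1 : k) := by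
  left
  rw [map_one]

theorem hasValueAt_mul (x : Pt c) {g h : X.functionField} {a b : k} (hg : HasValueAt x g a)
    (hh : HasValueAt x h b) : HasValueAt x (g * h) (a * b) := by
  rw [hasValueAt_iff c hdim] at hg hh ⊢
  obtain ⟨r, rfl, rfl⟩ := hg
  obtain ⟨s, rfl, rfl⟩ := hh
  exact ⟨r * s, map_mul _ _ _, map_mul _ _ _⟩

theorem hasValueAt_inv (x : Pt c) {g : X.functionField} {a : k} (ha : a ≠ 0)
    (hg : HasValueAt x g a) : HasValueAt x g⁻¹ a⁻¹ := by
  rw [hasValueAt_iff c hdim] at hg ⊢
  obtain ⟨r, rfl, rfl⟩ := hg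
  have hu : IsUnit r := (isUnit_map_iff (ev c x) r).mp (IsUnit.mk0 _ ha)
  obtain ⟨u, rfl⟩ := hu
  refine ⟨((u⁻¹ : (X.presheaf.stalk x.pt)ˣ) : X.presheaf.stalk x.pt), ?_, ?_⟩
  · refine eq_inv_of_mul_eq_one_left ?_
    rw [← map_mul, Units.inv_mul, map_one]
  · refine eq_inv_of_mul_eq_one_left ?_
    rw [← map_mul, Units.inv_mul, map_one]

theorem hasValueAt_div (x : Pt c) {g h : X.functionField} {a b : k} (hb : b ≠ 0)
    (hg : HasValueAt x g a) (hh : HasValueAt x h b) : HasValueAt x (g / h) (a / b) := by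
  rw [div_eq_mul_inv, div_eq_mul_inv]
  exact hasValueAt_mul c hdim x hg (hasValueAt_inv c hdim x hb hh)

theorem hasValueAt_unique (x : Pt c) {g : X.functionField} {a b : k} (ha : HasValueAt x g a)
    (hb : HasValueAt x g b) : a = b := by
  rw [hasValueAt_iff c hdim] at ha hb
  obtain ⟨r, hr, rfl⟩ := ha
  obtain ⟨s, hs, rfl⟩ := hb
  rw [algebraMap_injective c hdim x (hr.trans hs.symm)]

theorem ord_eq_zero_of_hasValueAt (x : Pt c) {g : X.functionField} {a : k} (ha : a ≠ 0)
    (hg : HasValueAt x g a) : x.ord g = 0 := by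
  haveI := isDVR_pt c hdim x
  rw [hasValueAt_iff c hdim] at hg
  obtain ⟨r, rfl, rfl⟩ := hg
  have hu : IsUnit r := (isUnit_map_iff (ev c x) r).mp (IsUnit.mk0 _ ha)
  exact DvrOrd.ordFrac_unit _ _ hu

theorem ne_zero_of_hasValueAt (x : Pt c) {g : X.functionField} {a : k} (ha : a ≠ 0)
    (hg : HasValueAt x g a) : g ≠ 0 := by
  rintro rfl
  have h0 : HasValueAt x (0 : X.functionField) (0 : k) := Or.inl (map_zero _).symm
  exact ha (hasValueAt_unique c hdim x hg h0)

theorem exists_hasValueAt_of_ord_eq_zero (x : Pt c) {g : X.functionField} (hg : g ≠ 0)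
    (h : x.ord g = 0) : ∃ a : k, a ≠ 0 ∧ HasValueAt x g a := by
  haveI := isDVR_pt c hdim x
  obtain ⟨r, rfl⟩ := DvrOrd.exists_of_ordFrac_nonneg (X.presheaf.stalk x.pt) X.functionField hg
    h.ge
  have hr0 : r ≠ 0 := by
    rintro rfl
    exact hg (map_zero _)
  have hu : IsUnit r := by
    by_contra hnu
    have hm : r ∈ IsLocalRing.maximalIdeal (X.presheaf.stalk x.pt) :=
      (IsLocalRing.mem_maximalIdeal r).mpr hnu
    have := (DvrOrd.ordFrac_algebraMap_pos_iff (X.presheaf.stalk x.pt) X.functionField hr0).mpr hm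
    have h' : CycAlg.ordFrac (X.presheaf.stalk x.pt) X.functionField
        (algebraMap (X.presheaf.stalk x.pt) X.functionField r) = 0 := h
    omega
  refine ⟨ev c x r, (hu.map (ev c x)).ne_zero, ?_⟩
  rw [hasValueAt_iff c hdim]
  exact ⟨r, rfl, rfl⟩

/-- for a reduced modulus, congruence to `1` is having value `1` -/
theorem cong1At_iff_hasValueAt_one {m : Pt c →₀ ℕ} {x : Pt c} (hmx : m x = 1)
    (g : X.functionField) : Cong1At m x g ↔ HasValueAt x g 1 := by
  unfold Cong1At HasValueAt
  rw [map_one, hmx, ← ord_neg c hdim x (1 - g), neg_sub]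
  constructor
  · rintro (h | h)
    · exact Or.inl h
    · exact Or.inr (by omega)
  · rintro (h | h)
    · exact Or.inl h
    · exact Or.inr (by push_cast; omega)

/-! ### uniformizers and prescribed orders -/

theorem exists_ord_eq_one (x : Pt c) : ∃ t : X.functionField, t ≠ 0 ∧ x.ord t = 1 := by
  haveI := isDVR_pt c hdim x
  obtain ⟨π, hπ⟩ := IsDedekindDomain.HeightOneSpectrum.valuation_exists_uniformizer
    X.functionField (IsDiscreteValuationRing.maximalIdeal (X.presheaf.stalk x.pt))
  have hπ0 : π ≠ 0 := by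
    rintro rfl
    rw [map_zero] at hπ
    exact WithZero.exp_ne_zero hπ.symm
  refine ⟨π, hπ0, ?_⟩
  have h := DvrOrd.val_eq (X.presheaf.stalk x.pt) X.functionField hπ0
  rw [show DvrOrd.vv (X.presheaf.stalk x.pt) X.functionField π = _ from hπ] at h
  have h1 := WithZero.exp_le_exp.mp h.le
  have h2 := WithZero.exp_le_exp.mp h.ge
  show CycAlg.ordFrac (X.presheaf.stalk x.pt) X.functionField π = 1
  omega

theorem ord_zpow (x : Pt c) {g : X.functionField} (hg : g ≠ 0) (n : ℤ) :
    x.ord (g ^ n) = n * x.ord g := by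
  haveI := isDVR_pt c hdim x
  exact DvrOrd.ordFrac_zpow _ _ hg n

theorem ord_add_eq_of_lt (x : Pt c) {f g : X.functionField} (hf : f ≠ 0) (hg : g ≠ 0)
    (h : x.ord f < x.ord g) : x.ord (f + g) = x.ord f := by
  haveI := isDVR_pt c hdim x
  exact DvrOrd.ordFrac_add_eq_of_lt _ _ hf hg h

/-- a function with prescribed orders at finitely many points -/
theorem exists_ord_eq (S : Finset (Pt c)) (n : Pt c → ℤ) :
    ∃ g : X.functionField, g ≠ 0 ∧ ∀ x ∈ S, x.ord g = n x := by
  classical
  by_cases hS : S = ∅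
  · subst hS
    exact ⟨1, one_ne_zero, fun x hx => absurd hx (Finset.notMem_empty x)⟩
  choose t ht0 ht1 using exists_ord_eq_one c hdim
  have hw0 : ∀ x, t x ^ n x ≠ 0 := fun x => zpow_ne_zero _ (ht0 x)
  have hw1 : ∀ x : Pt c, x.ord (t x ^ n x) = n x := fun x => by
    rw [ord_zpow c hdim x (ht0 x), ht1 x, mul_one]
  obtain ⟨a, ha⟩ := exists_approx_ord' c hdim S (fun x => t x ^ n x) n
  have key : ∀ x ∈ S, a ≠ 0 ∧ x.ord a = n x := by
    intro x hx
    by_cases hax : a = t x ^ n x
    · exact ⟨hax ▸ hw0 x, hax ▸ hw1 x⟩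
    · have h := (ha x hx).resolve_left hax
      have hne : a - t x ^ n x ≠ 0 := sub_ne_zero.mpr hax
      have h2 := ord_add_eq_of_lt c hdim x (hw0 x) hne (by rw [hw1 x]; exact h)
      rw [add_sub_cancel, hw1 x] at h2
      refine ⟨?_, h2⟩
      rintro rfl
      rw [zero_sub, ord_neg c hdim, hw1 x] at h
      exact lt_irrefl _ h
  obtain ⟨x₀, hx₀⟩ := Finset.nonempty_iff_ne_empty.mpr hS
  exact ⟨a, (key x₀ hx₀).1, fun x hx => (key x hx).2⟩

/-- a function with prescribed nonzero values at finitely many points -/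
theorem exists_hasValueAt (S : Finset (Pt c)) (v : Pt c → kˣ) :
    ∃ g : X.functionField, g ≠ 0 ∧ ∀ x ∈ S, HasValueAt x g (v x : k) := by
  classical
  by_cases hS : S = ∅
  · subst hS
    exact ⟨1, one_ne_zero, fun x hx => absurd hx (Finset.notMem_empty x)⟩
  obtain ⟨a, ha⟩ := exists_approx_ord c hdim S (fun x => constFun c (v x : k)) 0
  have key : ∀ x ∈ S, HasValueAt x a (v x : k) := fun x hx => ha x hx
  obtain ⟨x₀, hx₀⟩ := Finset.nonempty_iff_ne_empty.mpr hS
  exact ⟨a, ne_zero_of_hasValueAt c hdim x₀ (v x₀).ne_zero (key x₀ hx₀), key⟩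

end Groth.Agent.Lib.R2H7.LocSymValue
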