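/-
Mittag-Leffler for inverse systems of Artinian modules, and: tensoring with a finitely presented
module commutes with sequential limits of modules of finite length (S14353).  (helper7)
-/
import Mathlib

set_option autoImplicit false

open CategoryTheory CategoryTheory.Limits

namespace Groth.Agent.Lib.R2H7.MLTensor

universe u

variable {R : Type u} [CommRing R]

section ML

variable (X Y : ℕᵒᵖ ⥤ ModuleCat.{u} R) (φ : X ⟶ Y)
  (s : ∀ n : ℕᵒᵖ, Y.obj n) (hs : ∀ {m n : ℕᵒᵖ} (f : m ⟶ n), Y.map f (s m) = s n)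

/-- the inverse system of fibres of `φ` over the compatible family `s` -/
def fibre : ℕᵒᵖ ⥤ Type u where
  obj n := {x : X.obj n // φ.app n x = s n}
  map {m n} f := TypeCat.ofHom fun x => ⟨X.map f x.1, by
    have h1 : φ.app n (X.map f x.1) = Y.map f (φ.app m x.1) := by
      have := φ.naturality f
      exact congrArg (fun g => g.hom x.1) this
    rw [h1, x.2, hs f]⟩
  map_id n := by
    ext x
    change X.map (𝟙 n) x.1 = x.1
    rw [X.map_id]
    rfl
  map_comp {a b c} f g := by
    ext x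
    change X.map (f ≫ g) x.1 = X.map g (X.map f x.1)
    rw [X.map_comp]
    rfl

theorem fibre_isMittagLeffler [∀ n, IsArtinian R (X.obj n)]
    (hr : ∀ n, ∃ x : X.obj n, φ.app n x = s n) :
    (fibre X Y φ s hs).IsMittagLeffler := by
  rw [Functor.isMittagLeffler_iff_subset_range_comp]
  intro j
  let D : ∀ (k : ℕᵒᵖ) (_ : k ⟶ j), Submodule R (X.obj j) :=
    fun k f => (LinearMap.ker (φ.app k).hom).map (X.map f).hom
  have hnat : ∀ {k k' : ℕᵒᵖ} (g : k' ⟶ k) (w : X.obj k'),
      (φ.app k).hom ((X.map g).hom w) = (Y.map g).hom ((φ.app k').hom w) := by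
    intro k k' g w
    exact congrArg (fun t => t.hom w) (φ.naturality g)
  have hanti : ∀ (k k' : ℕᵒᵖ) (f : k ⟶ j) (g : k' ⟶ k), D k' (g ≫ f) ≤ D k f := by
    rintro k k' f g _ ⟨w, hw, rfl⟩
    refine ⟨(X.map g).hom w, ?_, ?_⟩
    · rw [SetLike.mem_coe, LinearMap.mem_ker] at hw ⊢
      rw [hnat, hw, map_zero]
    · rw [X.map_comp]
      rfl
  obtain ⟨D₀, ⟨k₀, f₀, rfl⟩, hmin⟩ := IsArtinian.set_has_minimal
    {D' | ∃ (k : ℕᵒᵖ) (f : k ⟶ j), D' = D k f} ⟨_, j, 𝟙 j, rfl⟩
  refine ⟨k₀, f₀, fun k g => ?_⟩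
  have hDeq : D k (g ≫ f₀) = D k₀ f₀ := by
    by_contra hne
    exact hmin _ ⟨k, g ≫ f₀, rfl⟩ (lt_of_le_of_ne (hanti k₀ k f₀ g) hne)
  rintro _ ⟨x', rfl⟩
  obtain ⟨z0, hz0⟩ := hr k
  have hz1 : (φ.app k₀).hom ((X.map g).hom z0) = s k₀ := by
    rw [hnat]
    exact (congrArg (Y.map g).hom hz0).trans (hs g)
  have hd : x'.1 - (X.map g).hom z0 ∈ LinearMap.ker (φ.app k₀).hom := by
    rw [LinearMap.mem_ker, map_sub, hz1]
    exact sub_eq_zero.mpr x'.2
  have hmem : (X.map f₀).hom (x'.1 - (X.map g).hom z0) ∈ D k₀ f₀ := ⟨_, hd, rfl⟩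
  rw [← hDeq] at hmem
  obtain ⟨w, hw, hwe⟩ := hmem
  rw [SetLike.mem_coe, LinearMap.mem_ker] at hw
  refine ⟨⟨z0 + w, ?_⟩, ?_⟩
  · change (φ.app k).hom (z0 + w) = s k
    rw [map_add, hw, add_zero]
    exact hz0
  · apply Subtype.ext
    change (X.map (g ≫ f₀)).hom (z0 + w) = (X.map f₀).hom x'.1
    rw [map_add, hwe, X.map_comp, map_sub]
    change (X.map f₀).hom ((X.map g).hom z0) + _ = _
    abel

include hs in
theorem exists_section_lift [∀ n, IsArtinian R (X.obj n)]
    (hr : ∀ n, ∃ x : X.obj n, φ.app n x = s n) :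
    ∃ t : ∀ n : ℕᵒᵖ, X.obj n, (∀ {m n : ℕᵒᵖ} (f : m ⟶ n), X.map f (t m) = t n) ∧
      ∀ n, φ.app n (t n) = s n := by
  have hML := fibre_isMittagLeffler X Y φ s hs hr
  haveI : ∀ j, Nonempty ((fibre X Y φ s hs).obj j) := fun j =>
    let ⟨x, hx⟩ := hr j
    ⟨⟨x, hx⟩⟩
  obtain ⟨a⟩ := (fibre X Y φ s hs).toEventualRanges_nonempty hML (Opposite.op 0)
  obtain ⟨σ, -⟩ := Types.surjective_π_app_zero_of_surjective_map
    (Types.limitConeIsLimit (fibre X Y φ s hs).toEventualRanges)
    (fun n => (fibre X Y φ s hs).surjective_toEventualRanges hML _) a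
  let τ := (fibre X Y φ s hs).toEventualRangesSectionsEquiv σ
  refine ⟨fun n => (τ.1 n).1, fun f => ?_, fun n => (τ.1 n).2⟩
  exact congrArg Subtype.val (τ.2 f)

end ML

section SecBij

open MonoidalCategory

/-- the sections characterization of limit cones in `ModuleCat` -/
def SecBij {F : ℕᵒᵖ ⥤ ModuleCat.{u} R} (c : Cone F) : Prop :=
  ∀ s : ∀ n : ℕᵒᵖ, F.obj n, (∀ {m n : ℕᵒᵖ} (f : m ⟶ n), (F.map f).hom (s m) = s n) →
    ∃! x : c.pt, ∀ n, (c.π.app n).hom x = s n

theorem secBij_of_isLimit {F : ℕᵒᵖ ⥤ ModuleCat.{u} R} {c : Cone F} (hc : IsLimit c) :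
    SecBij c := by
  intro s hs
  exact (Types.isLimit_iff ((forget (ModuleCat.{u} R)).mapCone c)).mp
    ⟨isLimitOfPreserves (forget _) hc⟩ s (fun {m n} f => hs f)

theorem isLimit_of_secBij {F : ℕᵒᵖ ⥤ ModuleCat.{u} R} {c : Cone F} (h : SecBij c) :
    Nonempty (IsLimit c) := by
  have h' : Nonempty (IsLimit ((forget (ModuleCat.{u} R)).mapCone c)) :=
    (Types.isLimit_iff _).mpr (fun s hs => h s (fun f => hs f))
  exact ⟨isLimitOfReflects (forget _) h'.some⟩

open TensorProduct

theorem piScalarRight_rTensor {X X' : Type u} [AddCommGroup X] [Module R X] [AddCommGroup X']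
    [Module R X'] (b : ℕ) (f : X →ₗ[R] X') (z : X ⊗[R] (Fin b → R)) (i : Fin b) :
    TensorProduct.piScalarRight R R X' (Fin b) (LinearMap.rTensor (Fin b → R) f z) i =
      f (TensorProduct.piScalarRight R R X (Fin b) z i) := by
  induction z using TensorProduct.induction_on with
  | zero => simp
  | tmul x g =>
    rw [LinearMap.rTensor_tmul, TensorProduct.piScalarRight_apply,
      TensorProduct.piScalarRight_apply, TensorProduct.piScalarRightHom_tmul,
      TensorProduct.piScalarRightHom_tmul, map_smul]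
  | add x y hx hy =>
    rw [map_add, map_add, map_add, Pi.add_apply, Pi.add_apply, hx, hy, map_add]

variable {M : ℕᵒᵖ ⥤ ModuleCat.{u} R} (c : Cone M)

theorem secBij_free (hc : SecBij c) (b : ℕ) :
    SecBij ((tensorRight (ModuleCat.of R (Fin b → R))).mapCone c) := by
  classical
  intro s hs
  have hs' : ∀ {m n : ℕᵒᵖ} (f : m ⟶ n),
      LinearMap.rTensor (Fin b → R) (M.map f).hom (s m) = s n := fun f => hs f
  have hcomp : ∀ i : Fin b, ∀ {m n : ℕᵒᵖ} (f : m ⟶ n),
      (M.map f).hom (TensorProduct.piScalarRight R R (M.obj m) (Fin b) (s m) i) =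
        TensorProduct.piScalarRight R R (M.obj n) (Fin b) (s n) i := by
    intro i m n f
    rw [← piScalarRight_rTensor, hs' f]
  choose x hx hxu using fun i : Fin b =>
    hc (fun n => TensorProduct.piScalarRight R R (M.obj n) (Fin b) (s n) i) (hcomp i)
  refine ⟨(TensorProduct.piScalarRight R R c.pt (Fin b)).symm x, ?_, ?_⟩
  · intro n
    change LinearMap.rTensor (Fin b → R) (c.π.app n).hom _ = s n
    apply (TensorProduct.piScalarRight R R (M.obj n) (Fin b)).injective
    funext i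
    have h1 := piScalarRight_rTensor (X := c.pt) (X' := M.obj n) b (c.π.app n).hom
      ((TensorProduct.piScalarRight R R c.pt (Fin b)).symm x) i
    rw [LinearEquiv.apply_symm_apply] at h1
    exact h1.trans (hx i n)
  · intro z' hz'
    have hz'' : ∀ n, LinearMap.rTensor (Fin b → R) (c.π.app n).hom z' = s n := hz'
    apply (TensorProduct.piScalarRight R R c.pt (Fin b)).injective
    rw [LinearEquiv.apply_symm_apply]
    funext i
    refine hxu i _ fun n => ?_
    have h2 := piScalarRight_rTensor (X := c.pt) (X' := M.obj n) b (c.π.app n).hom z' i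
    rw [hz'' n] at h2
    exact h2.symm

theorem rTensor_lTensor_comm {L X N N' : Type u} [AddCommGroup L] [Module R L] [AddCommGroup X]
    [Module R X] [AddCommGroup N] [Module R N] [AddCommGroup N'] [Module R N']
    (p : L →ₗ[R] X) (α : N →ₗ[R] N') (z : L ⊗[R] N) :
    LinearMap.rTensor N' p (LinearMap.lTensor L α z) =
      LinearMap.lTensor X α (LinearMap.rTensor N p z) := by
  have h1 := LinearMap.congr_fun (LinearMap.rTensor_comp_lTensor L p α) z
  have h2 := LinearMap.congr_fun (LinearMap.lTensor_comp_rTensor L p α) z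
  rw [LinearMap.comp_apply] at h1 h2
  rw [h1, h2]

/-- the natural transformation `- ⊗ N ⟶ - ⊗ N'` -/
def tmap {N N' : Type u} [AddCommGroup N] [Module R N] [AddCommGroup N'] [Module R N']
    (α : N →ₗ[R] N') :
    (M ⋙ tensorRight (ModuleCat.of R N)) ⟶ (M ⋙ tensorRight (ModuleCat.of R N')) :=
  Functor.whiskerLeft M ((MonoidalCategory.tensoringRight (ModuleCat.{u} R)).map (ModuleCat.ofHom α))

theorem tmap_app_hom {N N' : Type u} [AddCommGroup N] [Module R N] [AddCommGroup N'] [Module R N']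
    (α : N →ₗ[R] N') (n : ℕᵒᵖ) (x : M.obj n ⊗[R] N) :
    ((tmap (M := M) α).app n).hom x = LinearMap.lTensor (M.obj n) α x := rfl

set_option maxHeartbeats 1600000 in
theorem secBij_of_exact [∀ n, IsArtinian R (M.obj n)] (hc : SecBij c) {a b : ℕ} {N : Type u}
    [AddCommGroup N] [Module R N] (A : (Fin a → R) →ₗ[R] (Fin b → R)) (π : (Fin b → R) →ₗ[R] N)
    (hex : Function.Exact A π) (hπ : Function.Surjective π) :
    SecBij ((tensorRight (ModuleCat.of R N)).mapCone c) := by
  classical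
  haveI : ∀ n, IsArtinian R ((M ⋙ tensorRight (ModuleCat.of R (Fin b → R))).obj n) := fun n =>
    isArtinian_of_linearEquiv (TensorProduct.piScalarRight R R (M.obj n) (Fin b)).symm
  haveI : ∀ n, IsArtinian R ((M ⋙ tensorRight (ModuleCat.of R (Fin a → R))).obj n) := fun n =>
    isArtinian_of_linearEquiv (TensorProduct.piScalarRight R R (M.obj n) (Fin a)).symm
  have hb := secBij_free c hc b
  have ha := secBij_free c hc a
  have hcw : ∀ {m n : ℕᵒᵖ} (f : m ⟶ n) (x : c.pt),
      (M.map f).hom ((c.π.app m).hom x) = (c.π.app n).hom x := by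
    intro m n f x
    have := c.w f
    exact congrArg (fun g => g.hom x) this
  intro s hs
  have hs' : ∀ {m n : ℕᵒᵖ} (f : m ⟶ n), LinearMap.rTensor N (M.map f).hom (s m) = s n :=
    fun f => hs f
  -- existence
  obtain ⟨t, ht, hts⟩ := exists_section_lift (M ⋙ tensorRight (ModuleCat.of R (Fin b → R)))
    (M ⋙ tensorRight (ModuleCat.of R N)) (tmap π) s (fun f => hs f)
    (fun n => LinearMap.lTensor_surjective (M.obj n) hπ (s n))
  have hts' : ∀ n, LinearMap.lTensor (M.obj n) π (t n) = s n := hts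
  obtain ⟨z, hz, -⟩ := hb t (fun f => ht f)
  have hz' : ∀ n, LinearMap.rTensor (Fin b → R) (c.π.app n).hom z = t n := hz
  have hexist : ∀ n, LinearMap.rTensor N (c.π.app n).hom (LinearMap.lTensor c.pt π z) = s n := by
    intro n
    exact (rTensor_lTensor_comm (L := c.pt) (X := M.obj n) (c.π.app n).hom π z).trans
      ((congrArg (LinearMap.lTensor (M.obj n) π) (hz' n)).trans (hts' n))
  -- uniqueness: elements with zero projections vanish
  have hzero : ∀ d : c.pt ⊗[R] N, (∀ n, LinearMap.rTensor N (c.π.app n).hom d = 0) → d = 0 := by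
    intro d hd
    obtain ⟨z', rfl⟩ := LinearMap.lTensor_surjective c.pt hπ d
    let bf : ∀ n : ℕᵒᵖ, (M ⋙ tensorRight (ModuleCat.of R (Fin b → R))).obj n :=
      fun n => LinearMap.rTensor (Fin b → R) (c.π.app n).hom z'
    have hbf : ∀ {m n : ℕᵒᵖ} (f : m ⟶ n),
        ((M ⋙ tensorRight (ModuleCat.of R (Fin b → R))).map f).hom (bf m) = bf n := by
      intro m n f
      change LinearMap.rTensor (Fin b → R) (M.map f).hom
        (LinearMap.rTensor (Fin b → R) (c.π.app m).hom z') =
          LinearMap.rTensor (Fin b → R) (c.π.app n).hom z'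
      rw [← LinearMap.comp_apply, ← LinearMap.rTensor_comp]
      congr 2
      ext x
      exact hcw f x
    have hbr : ∀ n, ∃ x, ((tmap (M := M) A).app n).hom x = bf n := by
      intro n
      have h0 : LinearMap.lTensor (M.obj n) π (bf n) = 0 :=
        (rTensor_lTensor_comm (L := c.pt) (X := M.obj n) (c.π.app n).hom π z').symm.trans (hd n)
      exact (lTensor_exact (M.obj n) hex hπ (bf n)).mp h0
    obtain ⟨af, haf, hafb⟩ := exists_section_lift
      (M ⋙ tensorRight (ModuleCat.of R (Fin a → R)))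
      (M ⋙ tensorRight (ModuleCat.of R (Fin b → R))) (tmap A) bf hbf hbr
    have hafb' : ∀ n, LinearMap.lTensor (M.obj n) A (af n) = bf n := hafb
    obtain ⟨w, hw, -⟩ := ha af (fun f => haf f)
    have hw' : ∀ n, LinearMap.rTensor (Fin a → R) (c.π.app n).hom w = af n := hw
    have hzz : LinearMap.lTensor c.pt A w = z' := by
      refine (hb bf hbf).unique (fun n => ?_) (fun n => rfl)
      exact (rTensor_lTensor_comm (L := c.pt) (X := M.obj n) (c.π.app n).hom A w).trans
        ((congrArg (LinearMap.lTensor (M.obj n) A) (hw' n)).trans (hafb' n))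
    rw [← hzz, ← LinearMap.comp_apply, ← LinearMap.lTensor_comp, hex.linearMap_comp_eq_zero,
      LinearMap.lTensor_zero, LinearMap.zero_apply]
  refine ⟨LinearMap.lTensor c.pt π z, hexist, ?_⟩
  intro y' hy'
  have hy'' : ∀ n, LinearMap.rTensor N (c.π.app n).hom y' = s n := hy'
  refine sub_eq_zero.mp (hzero _ fun n => ?_)
  rw [map_sub, hy'' n, hexist n, sub_self]

end SecBij

theorem isIso_limitPost (M : ℕᵒᵖ ⥤ ModuleCat.{u} R) (hM : ∀ n : ℕᵒᵖ, IsFiniteLength R (M.obj n))
    (N : Type u) [AddCommGroup N] [Module R N] [Module.FinitePresentation R N] :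
    IsIso (limit.post M (MonoidalCategory.tensorRight (ModuleCat.of R N))) := by
  classical
  obtain ⟨b, a, π, A, hπ, hex⟩ := Module.FinitePresentation.exists_fin' R N
  haveI : ∀ n, IsArtinian R (M.obj n) :=
    fun n => (isFiniteLength_iff_isNoetherian_isArtinian.mp (hM n)).2
  have hsb := secBij_of_exact (limit.cone M) (secBij_of_isLimit (limit.isLimit M)) A π hex hπ
  obtain ⟨hl⟩ := isLimit_of_secBij hsb
  haveI := preservesLimit_of_preserves_limit_cone (limit.isLimit M) hl
  infer_instance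

end Groth.Agent.Lib.R2H7.MLTensor
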