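import Mathlib
import Groth.Prelude.Def_Formal2
import Groth.Agent.Lib.H6xLimCxA

/-!
# Milnor sequence for a tower of cochain complexes of abelian groups with surjective transitions

`main` : for `K : ℕᵒᵖ ⥤ CochainComplex Ab ℤ` with degreewise surjective transition maps,
`H^p(lim K) → lim H^p(K_n)` is surjective with kernel `≃+ lim¹ H^{p-1}(K_n)`.
-/

set_option autoImplicit false
set_option backward.isDefEq.respectTransparency false

universe u

open CategoryTheory CategoryTheory.Limits Opposite HomologicalComplex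

namespace Groth.Agent.Lib.R2H7.MilnorCx

open Groth.Agent.Lib.H6xLimCx

/-! ### Solving `s n - t (s (n+1)) = u n` in a surjective tower -/

theorem exists_solve {G : ℕ → Type u} [∀ n, AddCommGroup (G n)] (t : ∀ n, G (n + 1) →+ G n)
    (ht : ∀ n, Function.Surjective (t n)) (u : ∀ n, G n) :
    ∃ s : ∀ n, G n, ∀ n, s n - t n (s (n + 1)) = u n := by
  let s : ∀ n, G n := fun n =>
    Nat.rec (motive := G) 0 (fun n sn => Classical.choose (ht n (sn - u n))) n
  refine ⟨s, fun n => ?_⟩
  have h : t n (s (n + 1)) = s n - u n := Classical.choose_spec (ht n (s n - u n))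
  rw [h]; abel

/-! ### Limit cones over `ℕᵒᵖ` in abelian groups -/

section ConeNat

variable {G : ℕᵒᵖ ⥤ AddCommGrpCat.{u}}

lemma map_eq_of_succ (x : ∀ n, G.obj (op n))
    (hx : ∀ n, G.map (homOfLE (Nat.le_succ n)).op (x (n + 1)) = x n) :
    ∀ (k n : ℕ) (f : op (n + k) ⟶ op n), G.map f (x (n + k)) = x n := by
  intro k
  induction k with
  | zero =>
    intro n f
    have : f = 𝟙 _ := Subsingleton.elim _ _
    rw [this, G.map_id]; rfl
  | succ k ih =>
    intro n f
    have e : f = (homOfLE (Nat.le_succ (n + k))).op ≫ (homOfLE (Nat.le_add_right n k)).op :=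
      Subsingleton.elim _ _
    rw [e, G.map_comp]
    show G.map _ (G.map _ (x (n + k + 1))) = x n
    rw [hx (n + k)]
    exact ih n _

lemma cone_ext (c : Cone G) (hc : IsLimit c) (x y : c.pt)
    (h : ∀ n, c.π.app (op n) x = c.π.app (op n) y) : x = y :=
  Concrete.isLimit_ext _ hc x y (fun j => h j.unop)

lemma cone_exists (c : Cone G) (hc : IsLimit c) (x : ∀ n, G.obj (op n))
    (hx : ∀ n, G.map (homOfLE (Nat.le_succ n)).op (x (n + 1)) = x n) :
    ∃ y : c.pt, ∀ n, c.π.app (op n) y = x n := by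
  let s : (G ⋙ forget AddCommGrpCat.{u}).sections := ⟨fun j => x j.unop, by
    intro j j' f
    have hle : j'.unop ≤ j.unop := leOfHom f.unop
    obtain ⟨k, hk⟩ := Nat.exists_eq_add_of_le hle
    obtain ⟨m⟩ := j
    obtain ⟨n⟩ := j'
    simp only at hk
    subst hk
    exact map_eq_of_succ x hx k n f⟩
  let e := Types.isLimitEquivSections (isLimitOfPreserves (forget AddCommGrpCat.{u}) hc)
  refine ⟨e.symm s, fun n => ?_⟩
  have := Types.isLimitEquivSections_symm_apply
    (isLimitOfPreserves (forget AddCommGrpCat.{u}) hc) s (op n)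
  exact this

end ConeNat

/-! ### Homology classes in a cochain complex of abelian groups -/

section hcls

variable (i j k : ℤ) (hi : (ComplexShape.up ℤ).prev j = i) (hk : (ComplexShape.up ℤ).next j = k)

lemma comm_apply {K K' : CochainComplex Ab.{u} ℤ} (f : K ⟶ K') (a b : ℤ) (x : K.X a) :
    K'.d a b (f.f a x) = f.f b (K.d a b x) := congr($(f.comm a b) x)

lemma d_d_apply (K : CochainComplex Ab.{u} ℤ) (a b c : ℤ) (x : K.X a) :
    K.d b c (K.d a b x) = 0 := congr($(K.d_comp_d a b c) x)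

/-- The homology class of a cocycle. -/
noncomputable def hcls (K : CochainComplex Ab.{u} ℤ) (x : K.X j) (hx : K.d j k x = 0) :
    K.homology j :=
  ((homologyFunctorIso' Ab.{u} (ComplexShape.up ℤ) i j k hi hk).inv.app K)
    (hmk ((shortComplexFunctor' Ab.{u} (ComplexShape.up ℤ) i j k).obj K) x hx)

lemma hcls_congr (K : CochainComplex Ab.{u} ℤ) {x y : K.X j} (h : x = y) (hx : K.d j k x = 0)
    (hy : K.d j k y = 0) : hcls i j k hi hk K x hx = hcls i j k hi hk K y hy := by
  subst h; rfl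

lemma hcls_surjective (K : CochainComplex Ab.{u} ℤ) (h : K.homology j) :
    ∃ (x : K.X j) (hx : K.d j k x = 0), hcls i j k hi hk K x hx = h := by
  let ι := homologyFunctorIso' Ab.{u} (ComplexShape.up ℤ) i j k hi hk
  obtain ⟨x, hx, hxh⟩ := hmk_surjective
    ((shortComplexFunctor' Ab.{u} (ComplexShape.up ℤ) i j k).obj K) ((ι.hom.app K) h)
  refine ⟨x, hx, ?_⟩
  show (ι.inv.app K) (hmk _ x hx) = h
  rw [hxh]
  exact congr($(ι.hom_inv_id_app K) h)

lemma hcls_eq_zero_iff (K : CochainComplex Ab.{u} ℤ) (x : K.X j) (hx : K.d j k x = 0) :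
    hcls i j k hi hk K x hx = 0 ↔ ∃ z : K.X i, K.d i j z = x := by
  let ι := homologyFunctorIso' Ab.{u} (ComplexShape.up ℤ) i j k hi hk
  refine Iff.trans ?_
    (hmk_eq_zero_iff ((shortComplexFunctor' Ab.{u} (ComplexShape.up ℤ) i j k).obj K) x hx)
  have hinj : Function.Injective (ι.inv.app K) := by
    rw [← AddCommGrpCat.mono_iff_injective]; infer_instance
  constructor
  · intro h
    apply hinj
    rw [map_zero]
    exact h
  · intro h
    show (ι.inv.app K) (hmk _ x hx) = 0
    rw [h, map_zero]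

/-- `hcls` as an additive map on cocycles. -/
noncomputable def hclsHom (K : CochainComplex Ab.{u} ℤ) :
    AddMonoidHom.ker (K.d j k).hom →+ K.homology j :=
  (((homologyFunctorIso' Ab.{u} (ComplexShape.up ℤ) i j k hi hk).inv.app K).hom).comp
    (hmkHom ((shortComplexFunctor' Ab.{u} (ComplexShape.up ℤ) i j k).obj K))

lemma hclsHom_apply (K : CochainComplex Ab.{u} ℤ) (c : AddMonoidHom.ker (K.d j k).hom) :
    hclsHom i j k hi hk K c = hcls i j k hi hk K c.1 c.2 := rfl

lemma hcls_sub (K : CochainComplex Ab.{u} ℤ) (x y : K.X j) (hx : K.d j k x = 0)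
    (hy : K.d j k y = 0) :
    hcls i j k hi hk K (x - y) (by rw [map_sub, hx, hy, sub_zero]) =
      hcls i j k hi hk K x hx - hcls i j k hi hk K y hy := by
  have h := map_sub (hclsHom i j k hi hk K) ⟨x, hx⟩ ⟨y, hy⟩
  exact h

lemma hcls_eq_iff (K : CochainComplex Ab.{u} ℤ) (x y : K.X j) (hx : K.d j k x = 0)
    (hy : K.d j k y = 0) :
    hcls i j k hi hk K x hx = hcls i j k hi hk K y hy ↔ ∃ z : K.X i, K.d i j z = x - y := by
  rw [← sub_eq_zero, ← hcls_sub, hcls_eq_zero_iff]

lemma homologyMap_hcls {K K' : CochainComplex Ab.{u} ℤ} (f : K ⟶ K') (x : K.X j)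
    (hx : K.d j k x = 0) :
    homologyMap f j (hcls i j k hi hk K x hx) =
      hcls i j k hi hk K' (f.f j x) (by rw [comm_apply, hx, map_zero]) := by
  let ι := homologyFunctorIso' Ab.{u} (ComplexShape.up ℤ) i j k hi hk
  have nat := ι.inv.naturality f
  have h1 := congr($nat (hmk ((shortComplexFunctor' Ab.{u} (ComplexShape.up ℤ) i j k).obj K) x hx))
  refine h1.symm.trans ?_
  show (ι.inv.app K') (ShortComplex.homologyMap
    ((shortComplexFunctor' Ab.{u} (ComplexShape.up ℤ) i j k).map f) (hmk _ x hx)) = _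
  rw [homologyMap_hmk]
  rfl

end hcls

/-! ### The Milnor sequence, elementwise form -/

section Main

variable (Kn : ℕ → CochainComplex Ab.{u} ℤ) (tn : ∀ n, Kn (n + 1) ⟶ Kn n)
  (K : CochainComplex Ab.{u} ℤ) (pr : ∀ n, K ⟶ Kn n) (hp : ∀ n, pr (n + 1) ≫ tn n = pr n)
  (hlim : ∀ j : ℤ, ∀ x : ∀ n, (Kn n).X j, (∀ n, (tn n).f j (x (n + 1)) = x n) →
      ∃! y : K.X j, ∀ n, (pr n).f j y = x n)
  (hsurj : ∀ n j, Function.Surjective ((tn n).f j))

include hp in
lemma hp_apply (n : ℕ) (j : ℤ) (x : K.X j) :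
    (tn n).f j ((pr (n + 1)).f j x) = (pr n).f j x :=
  congr($(congrArg (fun φ : K ⟶ Kn n => φ.f j) (hp n)) x)

include hlim in
lemma hsep (j : ℤ) (y : K.X j) (hy : ∀ n, (pr n).f j y = 0) : y = 0 := by
  obtain ⟨y', _, hy'⟩ := hlim j (fun _ => 0) (fun n => map_zero _)
  rw [hy' y hy, hy' 0 (fun n => map_zero _)]

include hp hlim hsurj in
theorem exists_class_of_compat (p q : ℤ) (hqp : q + 1 = p) (η : ∀ n, (Kn n).homology p)
    (hη : ∀ n, homologyMap (tn n) p (η (n + 1)) = η n) :
    ∃ c : K.homology p, ∀ n, homologyMap (pr n) p c = η n := by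
  have hi : (ComplexShape.up ℤ).prev p = q := by rw [CochainComplex.prev]; omega
  have hk : (ComplexShape.up ℤ).next p = p + 1 := CochainComplex.next ℤ p
  choose x hx hxη using fun n => hcls_surjective q p (p + 1) hi hk (Kn n) (η n)
  have h1 : ∀ n, ∃ u : (Kn n).X q, (Kn n).d q p u = x n - (tn n).f p (x (n + 1)) := by
    intro n
    have hx' : (Kn n).d p (p + 1) ((tn n).f p (x (n + 1))) = 0 := by
      rw [comm_apply, hx, map_zero]
    have e : hcls q p (p + 1) hi hk (Kn n) (x n) (hx n) =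
        hcls q p (p + 1) hi hk (Kn n) ((tn n).f p (x (n + 1))) hx' := by
      rw [hxη n, ← hη n, ← hxη (n + 1), homologyMap_hcls]
    exact (hcls_eq_iff q p (p + 1) hi hk (Kn n) _ _ (hx n) hx').1 e
  choose u hu using h1
  obtain ⟨s, hs⟩ := exists_solve (fun n => ((tn n).f q).hom) (fun n => hsurj n q) u
  let x' : ∀ n, (Kn n).X p := fun n => x n - (Kn n).d q p (s n)
  have hx'c : ∀ n, (tn n).f p (x' (n + 1)) = x' n := by
    intro n
    show (tn n).f p (x (n + 1) - (Kn (n + 1)).d q p (s (n + 1))) = x n - (Kn n).d q p (s n)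
    have h2 : (Kn n).d q p (s n) - (Kn n).d q p ((tn n).f q (s (n + 1))) =
        x n - (tn n).f p (x (n + 1)) := by
      rw [← map_sub, ← hu n]
      exact congrArg _ (hs n)
    rw [map_sub, ← comm_apply]
    linear_combination (norm := abel) h2
  obtain ⟨xK, hxK, -⟩ := hlim p x' hx'c
  have hxK0 : K.d p (p + 1) xK = 0 := by
    apply hsep Kn tn K pr hlim
    intro n
    rw [← comm_apply, hxK n]
    show (Kn n).d p (p + 1) (x n - (Kn n).d q p (s n)) = 0
    rw [map_sub, hx n, d_d_apply, sub_zero]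
  refine ⟨hcls q p (p + 1) hi hk K xK hxK0, fun n => ?_⟩
  rw [homologyMap_hcls, ← hxη n, hcls_eq_iff]
  refine ⟨- s n, ?_⟩
  rw [hxK n, map_neg]
  show _ = x n - (Kn n).d q p (s n) - x n
  abel

include hp hlim hsurj in
theorem nonempty_ker_equiv (p q : ℤ) (hqp : q + 1 = p) :
    Nonempty ((⨅ n, (homologyMap (pr n) p).hom.ker : AddSubgroup (K.homology p)) ≃+
      Formal2.limOne (fun n => (Kn n).homology q) (fun n => (homologyMap (tn n) q).hom)) := by
  have hi : (ComplexShape.up ℤ).prev p = q := by rw [CochainComplex.prev]; omega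
  have hk : (ComplexShape.up ℤ).next p = p + 1 := CochainComplex.next ℤ p
  have hi' : (ComplexShape.up ℤ).prev q = q - 1 := CochainComplex.prev ℤ q
  have hk' : (ComplexShape.up ℤ).next q = p := by rw [CochainComplex.next]; exact hqp
  -- the group `Y`
  let Y : AddSubgroup (∀ n, (Kn n).X q) :=
    { carrier := {y | ∀ n, (tn n).f p ((Kn (n + 1)).d q p (y (n + 1))) = (Kn n).d q p (y n)}
      zero_mem' := fun n => by simp only [Pi.zero_apply, map_zero]
      add_mem' := fun {a b} ha hb n => by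
        simp only [Pi.add_apply, map_add]
        rw [ha n, hb n]
      neg_mem' := fun {a} ha n => by
        simp only [Pi.neg_apply, map_neg]
        rw [ha n] }
  have hΦ : ∀ y : Y, ∃! x : K.X p, ∀ n, (pr n).f p x = (Kn n).d q p (y.1 n) :=
    fun y => hlim p _ y.2
  choose xK hxK hxKu using hΦ
  have xK_add : ∀ a b, xK (a + b) = xK a + xK b := fun a b => by
    symm
    apply hxKu
    intro n
    rw [map_add, hxK, hxK]
    show _ = (Kn n).d q p (a.1 n + b.1 n)
    rw [map_add]
  have xK_cyc : ∀ y, K.d p (p + 1) (xK y) = 0 := fun y =>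
    hsep Kn tn K pr hlim _ _ (fun n => by rw [← comm_apply, hxK, d_d_apply])
  let zK : Y →+ AddMonoidHom.ker (K.d p (p + 1)).hom :=
    AddMonoidHom.mk' (fun y => ⟨xK y, xK_cyc y⟩) (fun a b => Subtype.ext (xK_add a b))
  let α : Y →+ K.homology p := (hclsHom q p (p + 1) hi hk K).comp zK
  have α_apply : ∀ y, α y = hcls q p (p + 1) hi hk K (xK y) (xK_cyc y) := fun y => rfl
  let Kφ : AddSubgroup (K.homology p) := ⨅ n, (homologyMap (pr n) p).hom.ker
  have hα_mem : ∀ y, α y ∈ Kφ := fun y => by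
    rw [AddSubgroup.mem_iInf]
    intro n
    rw [AddMonoidHom.mem_ker]
    show homologyMap (pr n) p (α y) = 0
    rw [α_apply, homologyMap_hcls, hcls_eq_zero_iff]
    exact ⟨y.1 n, (hxK y n).symm⟩
  let α' : Y →+ Kφ := α.codRestrict Kφ hα_mem
  have hα_surj : Function.Surjective α' := by
    rintro ⟨c, hc⟩
    rw [AddSubgroup.mem_iInf] at hc
    obtain ⟨x, hx, rfl⟩ := hcls_surjective q p (p + 1) hi hk K c
    have h1 : ∀ n, ∃ yn : (Kn n).X q, (Kn n).d q p yn = (pr n).f p x := fun n => by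
      have h2 : homologyMap (pr n) p (hcls q p (p + 1) hi hk K x hx) = 0 :=
        AddMonoidHom.mem_ker.1 (hc n)
      rw [homologyMap_hcls, hcls_eq_zero_iff] at h2
      exact h2
    choose y hy using h1
    have hyY : y ∈ Y := fun n => by
      rw [hy, hy]
      exact hp_apply Kn tn K pr hp n p x
    refine ⟨⟨y, hyY⟩, Subtype.ext ?_⟩
    show α ⟨y, hyY⟩ = _
    rw [α_apply]
    exact hcls_congr _ _ _ _ _ _ (hxKu ⟨y, hyY⟩ x (fun n => (hy n).symm)).symm _ _
  -- the map to `lim¹`
  have hw : ∀ (y : Y) n, (Kn n).d q p (y.1 n - (tn n).f q (y.1 (n + 1))) = 0 := fun y n => by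
    rw [map_sub, comm_apply, y.2 n, sub_self]
  let w : ∀ n, Y →+ AddMonoidHom.ker ((Kn n).d q p).hom := fun n =>
    AddMonoidHom.mk' (fun y => ⟨y.1 n - (tn n).f q (y.1 (n + 1)), hw y n⟩)
      (fun a b => Subtype.ext (by
        show (a.1 + b.1) n - (tn n).f q ((a.1 + b.1) (n + 1)) =
          (a.1 n - (tn n).f q (a.1 (n + 1))) + (b.1 n - (tn n).f q (b.1 (n + 1)))
        simp only [Pi.add_apply, map_add]
        abel))
  let γ : Y →+ ∀ n, (Kn n).homology q :=
    AddMonoidHom.pi (fun n => (hclsHom (q - 1) q p hi' hk' (Kn n)).comp (w n))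
  have γ_apply : ∀ y n, γ y n =
      hcls (q - 1) q p hi' hk' (Kn n) (y.1 n - (tn n).f q (y.1 (n + 1))) (hw y n) :=
    fun y n => rfl
  let T := Formal2.towerDiff (fun n => (Kn n).homology q) (fun n => (homologyMap (tn n) q).hom)
  let β : Y →+ Formal2.limOne (fun n => (Kn n).homology q)
      (fun n => (homologyMap (tn n) q).hom) :=
    (QuotientAddGroup.mk' T.range).comp γ
  have hβ_surj : Function.Surjective β := by
    intro cbar
    obtain ⟨c, rfl⟩ := QuotientAddGroup.mk'_surjective _ cbar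
    choose z hz hzc using fun n => hcls_surjective (q - 1) q p hi' hk' (Kn n) (c n)
    obtain ⟨y, hy⟩ := exists_solve (fun n => ((tn n).f q).hom) (fun n => hsurj n q) z
    have hy' : ∀ n, y n - (tn n).f q (y (n + 1)) = z n := hy
    have hyY : y ∈ Y := fun n => by
      have h1 : (Kn n).d q p (y n - (tn n).f q (y (n + 1))) = 0 := by
        rw [hy' n]; exact hz n
      rw [map_sub, comm_apply, sub_eq_zero] at h1
      exact h1.symm
    refine ⟨⟨y, hyY⟩, ?_⟩
    show QuotientAddGroup.mk' _ (γ ⟨y, hyY⟩) = QuotientAddGroup.mk' _ c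
    congr 1
    funext n
    rw [γ_apply, ← hzc n]
    exact hcls_congr _ _ _ _ _ _ (hy' n) _ _
  have hker : α'.ker = β.ker := by
    ext y
    rw [AddMonoidHom.mem_ker, AddMonoidHom.mem_ker]
    have e1 : α' y = 0 ↔ ∃ wq : K.X q, K.d q p wq = xK y := by
      rw [← hcls_eq_zero_iff q p (p + 1) hi hk K (xK y) (xK_cyc y)]
      constructor
      · intro h; exact congrArg Subtype.val h
      · intro h; exact Subtype.ext h
    have e2 : β y = 0 ↔ ∃ c : ∀ n, (Kn n).homology q,
        ∀ n, γ y n = c n - homologyMap (tn n) q (c (n + 1)) := by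
      show QuotientAddGroup.mk' _ (γ y) = 0 ↔ _
      rw [QuotientAddGroup.mk'_apply, QuotientAddGroup.eq_zero_iff]
      constructor
      · rintro ⟨c, hc⟩; exact ⟨c, fun n => (congrFun hc n).symm⟩
      · rintro ⟨c, hc⟩; exact ⟨c, funext fun n => (hc n).symm⟩
    rw [e1, e2]
    constructor
    · rintro ⟨wq, hwq⟩
      have hzc : ∀ n, (Kn n).d q p (y.1 n - (pr n).f q wq) = 0 := fun n => by
        rw [map_sub, comm_apply, hwq, hxK, sub_self]
      refine ⟨fun n => hcls (q - 1) q p hi' hk' (Kn n) _ (hzc n), fun n => ?_⟩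
      show γ y n = hcls (q - 1) q p hi' hk' (Kn n) _ (hzc n) -
        homologyMap (tn n) q (hcls (q - 1) q p hi' hk' (Kn (n + 1)) _ (hzc (n + 1)))
      rw [γ_apply, homologyMap_hcls, ← hcls_sub]
      apply hcls_congr
      rw [map_sub, hp_apply Kn tn K pr hp]
      abel
    · rintro ⟨c, hc⟩
      choose z hz hzc using fun n => hcls_surjective (q - 1) q p hi' hk' (Kn n) (c n)
      have h1 : ∀ n, ∃ u : (Kn n).X (q - 1), (Kn n).d (q - 1) q u =
          (y.1 n - (tn n).f q (y.1 (n + 1))) - (z n - (tn n).f q (z (n + 1))) := fun n => by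
        have hz' : (Kn n).d q p (z n - (tn n).f q (z (n + 1))) = 0 := by
          rw [map_sub, comm_apply, hz, hz, map_zero, sub_zero]
        rw [← hcls_eq_iff (q - 1) q p hi' hk' (Kn n) _ _ (hw y n) hz', ← γ_apply, hc n,
          ← hzc n, ← hzc (n + 1), homologyMap_hcls, ← hcls_sub]
      choose u hu using h1
      obtain ⟨s, hs⟩ := exists_solve (fun n => ((tn n).f (q - 1)).hom)
        (fun n => hsurj n (q - 1)) u
      let v : ∀ n, (Kn n).X q := fun n => y.1 n - z n - (Kn n).d (q - 1) q (s n)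
      have hv : ∀ n, (tn n).f q (v (n + 1)) = v n := fun n => by
        show (tn n).f q (y.1 (n + 1) - z (n + 1) - (Kn (n + 1)).d (q - 1) q (s (n + 1))) =
          y.1 n - z n - (Kn n).d (q - 1) q (s n)
        have h2 : (Kn n).d (q - 1) q (s n) - (Kn n).d (q - 1) q ((tn n).f (q - 1) (s (n + 1))) =
            (y.1 n - (tn n).f q (y.1 (n + 1))) - (z n - (tn n).f q (z (n + 1))) := by
          rw [← map_sub, ← hu n]
          exact congrArg _ (hs n)
        rw [map_sub, map_sub, ← comm_apply]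
        linear_combination (norm := abel) h2
      obtain ⟨wq, hwq, -⟩ := hlim q v hv
      refine ⟨wq, ?_⟩
      exact hxKu y _ (fun n => by
        rw [← comm_apply, hwq n]
        show (Kn n).d q p (y.1 n - z n - (Kn n).d (q - 1) q (s n)) = _
        rw [map_sub, map_sub, hz, d_d_apply, sub_zero, sub_zero])
  exact ⟨((QuotientAddGroup.quotientKerEquivOfSurjective α' hα_surj).symm.trans
    (QuotientAddGroup.quotientAddEquivOfEq hker)).trans
    (QuotientAddGroup.quotientKerEquivOfSurjective β hβ_surj)⟩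

end Main

/-! ### Application to `limit K` -/

theorem main (K : ℕᵒᵖ ⥤ HomologicalComplex AddCommGrpCat.{u} (ComplexShape.up ℤ))
    (hK : ∀ (n : ℕ) (q : ℤ), Function.Surjective ((K.map (homOfLE (Nat.le_succ n)).op).f q).hom)
    (p q : ℤ) (hqp : q + 1 = p) :
    Function.Surjective (limit.post K (HomologicalComplex.homologyFunctor _ _ p)).hom ∧
      Nonempty ((limit.post K (HomologicalComplex.homologyFunctor _ _ p)).hom.ker ≃+
        Formal2.limOne (fun n => (K.obj (op n)).homology q)
          (fun n => (HomologicalComplex.homologyMap (K.map (homOfLE (Nat.le_succ n)).op) q).hom)) := by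
  let Kn : ℕ → CochainComplex Ab.{u} ℤ := fun n => K.obj (op n)
  let tn : ∀ n, Kn (n + 1) ⟶ Kn n := fun n => K.map (homOfLE (Nat.le_succ n)).op
  let pr : ∀ n, limit K ⟶ Kn n := fun n => limit.π K (op n)
  have hp : ∀ n, pr (n + 1) ≫ tn n = pr n := fun n => limit.w K _
  have hlim : ∀ j : ℤ, ∀ x : ∀ n, (Kn n).X j, (∀ n, (tn n).f j (x (n + 1)) = x n) →
      ∃! y : (limit K).X j, ∀ n, (pr n).f j y = x n := by
    intro j x hx
    let c := (HomologicalComplex.eval Ab.{u} (ComplexShape.up ℤ) j).mapCone (limit.cone K)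
    have hc : IsLimit c := isLimitOfPreserves _ (limit.isLimit K)
    obtain ⟨y, hy⟩ := cone_exists c hc x hx
    exact ⟨y, hy, fun y' hy' => cone_ext c hc y' y (fun n => (hy' n).trans (hy n).symm)⟩
  have hsurj : ∀ n j, Function.Surjective ((tn n).f j) := fun n j => hK n j
  let H := HomologicalComplex.homologyFunctor Ab.{u} (ComplexShape.up ℤ) p
  let φ := limit.post K H
  have hφ : ∀ n (c : (limit K).homology p),
      limit.π (K ⋙ H) (op n) (φ c) = homologyMap (pr n) p c :=
    fun n c => congr($(limit.post_π K H (op n)) c)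
  let cH := limit.cone (K ⋙ H)
  have hcH : IsLimit cH := limit.isLimit _
  constructor
  · intro z
    obtain ⟨c, hc⟩ := exists_class_of_compat Kn tn (limit K) pr hp hlim hsurj p q hqp
      (fun n => limit.π (K ⋙ H) (op n) z)
      (fun n => congr($(limit.w (K ⋙ H) (homOfLE (Nat.le_succ n)).op) z))
    refine ⟨c, cone_ext cH hcH _ _ (fun n => ?_)⟩
    exact (hφ n c).trans (hc n)
  · obtain ⟨e⟩ := nonempty_ker_equiv Kn tn (limit K) pr hp hlim hsurj p q hqp
    have hker : φ.hom.ker = ⨅ n, (homologyMap (pr n) p).hom.ker := by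
      ext c
      rw [AddMonoidHom.mem_ker, AddSubgroup.mem_iInf]
      constructor
      · intro h n
        rw [AddMonoidHom.mem_ker]
        show homologyMap (pr n) p c = 0
        rw [← hφ n c]
        have h0 : φ c = 0 := h
        rw [h0, map_zero]
      · intro h
        apply cone_ext cH hcH
        intro n
        rw [map_zero]
        exact (hφ n c).trans (AddMonoidHom.mem_ker.1 (h n))
    exact ⟨(AddEquiv.addSubgroupCongr hker).trans e⟩

end Groth.Agent.Lib.R2H7.MilnorCx
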