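/-
S15167: in a central simple algebra of degree `n` over a field containing all roots of unity, the
minimal polynomial of a unit `x` with `x^m ∈ K` is a product of binomials `X^r - a_i` with `r ∣ n`.
-/
import Mathlib
import Groth.Agent.Lib.R2H7KummerFactor
import Groth.Agent.Lib.R2H7CSADegDvd

set_option autoImplicit false
universe u v

namespace Groth.Agent.Lib.R2H7.MinpolyBinom

open Polynomial

theorem main (K : Type u) [Field K] (hK : ∀ n : ℕ, 0 < n → (X ^ n - 1 : K[X]).Splits)
    (A : Type v) [Ring A] [Algebra K A] [Algebra.IsCentral K A] [IsSimpleRing A]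
    [FiniteDimensional K A]
    (n : ℕ) (hn : Module.finrank K A = n ^ 2)
    (x : A) (hx : IsUnit x) (hxm : ∃ m : ℕ, 0 < m ∧ x ^ m ∈ (algebraMap K A).range) :
    ∃ r : ℕ, 0 < r ∧ r ∣ n ∧ ∃ s : Multiset K,
      minpoly K x = (s.map fun a : K => X ^ r - C a).prod := by
  obtain ⟨m, hm, c, hc⟩ := hxm
  have hc0 : c ≠ 0 := by
    intro h0
    rw [h0, map_zero] at hc
    have hu : IsUnit (x ^ m) := hx.pow m
    rw [← hc] at hu
    exact not_isUnit_zero hu
  have hint : IsIntegral K x := IsIntegral.of_finite K x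
  have hmon : (minpoly K x).Monic := minpoly.monic hint
  have hdvd : minpoly K x ∣ X ^ m - C c := by
    apply minpoly.dvd
    rw [map_sub, map_pow, aeval_X, aeval_C, hc, sub_self]
  have hne1 : minpoly K x ≠ 1 := minpoly.ne_one K x
  obtain ⟨D, hD, t, ht, hprod⟩ :=
    Groth.Agent.Lib.R2H7.KummerFactor.exists_multiset hK hc0 m hm (minpoly K x) hmon hdvd hne1
  have hDn : D ∣ n := Groth.Agent.Lib.R2H7.CSADegDvd.dvd_of_minpoly hn x D t
    (fun g hg => ⟨(ht g hg).1, (ht g hg).2.1⟩) hprod
  refine ⟨D, hD, hDn, t.map (fun g => -g.coeff 0), ?_⟩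
  rw [Multiset.map_map, ← hprod]
  congr 1
  symm
  calc Multiset.map ((fun a : K => (X ^ D - C a : K[X])) ∘ fun g => -g.coeff 0) t
      = Multiset.map id t := by
        apply Multiset.map_congr rfl
        intro g hg
        obtain ⟨a, ha⟩ := (ht g hg).2.2
        have hcoeff : g.coeff 0 = -a := by
          rw [ha, coeff_sub, coeff_X_pow, if_neg hD.ne, coeff_C_zero, zero_sub]
        change X ^ D - C (-g.coeff 0) = g
        rw [hcoeff, neg_neg, ← ha]
    _ = t := Multiset.map_id t

end Groth.Agent.Lib.R2H7.MinpolyBinom
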