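import Mathlib

/-!
# Murray–von Neumann equivalence of idempotent matrices and an explicit gluing construction

`MvN p q`: there are `u v` with `u * v = p`, `v * u = q`.  For idempotents `p`, `q` over a
commutative ring `S` with `U * V = (x*y) • p`, `V * U = (x*y) • q` and `la * x + mu * y = 1`, the block
matrix `glueE` is an idempotent which is equivalent to `p` where `x` is invertible and to `q` where
`y` is invertible.
-/

namespace Groth.Agent.Lib.R2H7.MonicGlue

open Matrix

section MvN

variable {ι ι' : Type*} [Fintype ι] [DecidableEq ι] [Fintype ι'] [DecidableEq ι']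
  {S S' : Type*} [CommRing S] [CommRing S']

/-- Murray–von Neumann equivalence of square matrices. -/
def MvN (p q : Matrix ι ι S) : Prop := ∃ u v : Matrix ι ι S, u * v = p ∧ v * u = q

theorem MvN.symm {p q : Matrix ι ι S} (h : MvN p q) : MvN q p := by
  obtain ⟨u, v, h1, h2⟩ := h
  exact ⟨v, u, h2, h1⟩

theorem MvN.trans {p q r : Matrix ι ι S} (hp : p * p = p) (hr : r * r = r) (h1 : MvN p q)
    (h2 : MvN q r) : MvN p r := by
  obtain ⟨u, v, huv, hvu⟩ := h1
  obtain ⟨w, x, hwx, hxw⟩ := h2
  refine ⟨u * w, x * v, ?_, ?_⟩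
  · calc u * w * (x * v) = u * (w * x) * v := by simp only [Matrix.mul_assoc]
      _ = u * (v * u) * v := by rw [hwx, hvu]
      _ = (u * v) * (u * v) := by simp only [Matrix.mul_assoc]
      _ = p := by rw [huv, hp]
  · calc x * v * (u * w) = x * (v * u) * w := by simp only [Matrix.mul_assoc]
      _ = x * (w * x) * w := by rw [hvu, hwx]
      _ = (x * w) * (x * w) := by simp only [Matrix.mul_assoc]
      _ = r := by rw [hxw, hr]

theorem MvN.map {p q : Matrix ι ι S} (h : MvN p q) (ρ : S →+* S') :
    MvN (p.map ρ) (q.map ρ) := by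
  obtain ⟨u, v, huv, hvu⟩ := h
  exact ⟨u.map ρ, v.map ρ, by rw [← Matrix.map_mul, huv], by rw [← Matrix.map_mul, hvu]⟩

theorem MvN.submatrix {p q : Matrix ι ι S} (h : MvN p q) (e : ι' ≃ ι) :
    MvN (p.submatrix e e) (q.submatrix e e) := by
  obtain ⟨u, v, huv, hvu⟩ := h
  exact ⟨u.submatrix e e, v.submatrix e e, by rw [Matrix.submatrix_mul_equiv, huv],
    by rw [Matrix.submatrix_mul_equiv, hvu]⟩

theorem cube_normalize {p q U V : Matrix ι ι S} {c : S} (hp : p * p = p) (hq : q * q = q)
    (hUV : U * V = c • p) (hVU : V * U = c • q) :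
    ∃ U' V' : Matrix ι ι S, U' * V' = (c ^ 3) • p ∧ V' * U' = (c ^ 3) • q ∧ p * U' = U' ∧
      U' * q = U' ∧ q * V' = V' ∧ V' * p = V' := by
  have hpUV : p * (U * V) = U * V := by rw [hUV, Matrix.mul_smul, hp]
  have hUVp : (U * V) * p = U * V := by rw [hUV, Matrix.smul_mul, hp]
  have hqVU : q * (V * U) = V * U := by rw [hVU, Matrix.mul_smul, hq]
  have hVUq : (V * U) * q = V * U := by rw [hVU, Matrix.smul_mul, hq]
  refine ⟨U * V * U, V * U * V, ?_, ?_, ?_, ?_, ?_, ?_⟩
  · calc U * V * U * (V * U * V) = (U * V) * (U * V) * (U * V) := by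
          simp only [Matrix.mul_assoc]
      _ = c ^ 3 • p := by
          rw [hUV]
          simp only [Matrix.smul_mul, Matrix.mul_smul, smul_smul, hp]
          congr 1; ring
  · calc V * U * V * (U * V * U) = (V * U) * (V * U) * (V * U) := by
          simp only [Matrix.mul_assoc]
      _ = c ^ 3 • q := by
          rw [hVU]
          simp only [Matrix.smul_mul, Matrix.mul_smul, smul_smul, hq]
          congr 1; ring
  · calc p * (U * V * U) = (p * (U * V)) * U := by simp only [Matrix.mul_assoc]
      _ = U * V * U := by rw [hpUV]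
  · calc U * V * U * q = U * ((V * U) * q) := by simp only [Matrix.mul_assoc]
      _ = U * V * U := by rw [hVUq]; simp only [Matrix.mul_assoc]
  · calc q * (V * U * V) = (q * (V * U)) * V := by simp only [Matrix.mul_assoc]
      _ = V * U * V := by rw [hqVU]
  · calc V * U * V * p = V * ((U * V) * p) := by simp only [Matrix.mul_assoc]
      _ = V * U * V := by rw [hUVp]; simp only [Matrix.mul_assoc]

end MvN

section Glue

variable {ι : Type*} [Fintype ι] [DecidableEq ι] {S : Type*} [CommRing S]

/-- hypotheses for the gluing construction. -/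
structure GlueData (p q U V : Matrix ι ι S) (x y la mu : S) : Prop where
  hp : p * p = p
  hq : q * q = q
  hUV : U * V = (x * y) • p
  hVU : V * U = (x * y) • q
  hpU : p * U = U
  hUq : U * q = U
  hqV : q * V = V
  hVp : V * p = V
  hlm : la * x + mu * y = 1

/-- the glued idempotent. -/
def glueE (p q U V : Matrix ι ι S) (x y la mu : S) : Matrix (ι ⊕ ι) (ι ⊕ ι) S :=
  fromBlocks ((la * x) • p) (la • U) (mu • V) ((mu * y) • q)

variable {p q U V : Matrix ι ι S} {x y la mu : S}

local notation "Z" => (0 : Matrix ι ι S)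

theorem glueE_idem (h : GlueData p q U V x y la mu) :
    glueE p q U V x y la mu * glueE p q U V x y la mu = glueE p q U V x y la mu := by
  unfold glueE
  rw [Matrix.fromBlocks_multiply]
  congr 1
  · rw [smul_mul_smul_comm, smul_mul_smul_comm, h.hp, h.hUV, smul_smul, ← add_smul]
    congr 1; linear_combination (la * x) * h.hlm
  · rw [smul_mul_smul_comm, smul_mul_smul_comm, h.hpU, h.hUq, ← add_smul]
    congr 1; linear_combination la * h.hlm
  · rw [smul_mul_smul_comm, smul_mul_smul_comm, h.hVp, h.hqV, ← add_smul]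
    congr 1; linear_combination mu * h.hlm
  · rw [smul_mul_smul_comm, smul_mul_smul_comm, h.hVU, h.hq, smul_smul, ← add_smul]
    congr 1; linear_combination (mu * y) * h.hlm

theorem glue_x (h : GlueData p q U V x y la mu) :
    fromBlocks ((la * x) • p) Z (mu • V) Z * fromBlocks (x • p) U Z Z =
        x • glueE p q U V x y la mu ∧
      fromBlocks (x • p) U Z Z * fromBlocks ((la * x) • p) Z (mu • V) Z =
        x • fromBlocks p Z Z Z := by
  constructor
  · rw [glueE, Matrix.fromBlocks_multiply, Matrix.fromBlocks_smul]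
    congr 1
    · rw [Matrix.zero_mul, add_zero, smul_mul_smul_comm, h.hp, smul_smul]
      congr 1; ring
    · rw [Matrix.zero_mul, add_zero, Matrix.smul_mul, h.hpU, smul_smul]
      congr 1; ring
    · rw [Matrix.zero_mul, add_zero, smul_mul_smul_comm, h.hVp, smul_smul]
      congr 1; ring
    · rw [Matrix.zero_mul, add_zero, Matrix.smul_mul, h.hVU, smul_smul, smul_smul]
      congr 1; ring
  · rw [Matrix.fromBlocks_multiply, Matrix.fromBlocks_smul]
    congr 1
    · rw [smul_mul_smul_comm, h.hp, Matrix.mul_smul, h.hUV, smul_smul, ← add_smul]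
      congr 1; linear_combination x * h.hlm
    · simp
    · simp
    · simp

theorem glue_y (h : GlueData p q U V x y la mu) :
    fromBlocks Z (la • U) Z ((mu * y) • q) * fromBlocks Z Z V (y • q) =
        y • glueE p q U V x y la mu ∧
      fromBlocks Z Z V (y • q) * fromBlocks Z (la • U) Z ((mu * y) • q) =
        y • fromBlocks Z Z Z q := by
  constructor
  · rw [glueE, Matrix.fromBlocks_multiply, Matrix.fromBlocks_smul]
    congr 1
    · rw [Matrix.zero_mul, zero_add, Matrix.smul_mul, h.hUV, smul_smul, smul_smul]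
      congr 1; ring
    · rw [Matrix.zero_mul, zero_add, smul_mul_smul_comm, h.hUq, smul_smul]
      congr 1; ring
    · rw [Matrix.zero_mul, zero_add, Matrix.smul_mul, h.hqV, smul_smul]
      congr 1; ring
    · rw [Matrix.zero_mul, zero_add, smul_mul_smul_comm, h.hq, smul_smul]
      congr 1; ring
  · rw [Matrix.fromBlocks_multiply, Matrix.fromBlocks_smul]
    congr 1
    · simp
    · simp
    · simp
    · rw [Matrix.mul_smul, h.hVU, smul_mul_smul_comm, h.hq, smul_smul, ← add_smul]
      congr 1; linear_combination y * h.hlm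

theorem fromBlocks_idem_left {p : Matrix ι ι S} (hp : p * p = p) :
    fromBlocks p Z Z Z * fromBlocks p Z Z Z = fromBlocks p Z Z Z := by
  rw [Matrix.fromBlocks_multiply]
  congr 1 <;> simp [hp]

theorem fromBlocks_idem_right {q : Matrix ι ι S} (hq : q * q = q) :
    fromBlocks Z Z Z q * fromBlocks Z Z Z q = fromBlocks Z Z Z q := by
  rw [Matrix.fromBlocks_multiply]
  congr 1 <;> simp [hq]

theorem mvn_of_blocks {p q : Matrix ι ι S} (hp : p * p = p) (hq : q * q = q)
    (h : MvN (fromBlocks p Z Z Z) (fromBlocks Z Z Z q)) : MvN p q := by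
  obtain ⟨𝒰, 𝒱, h1, h2⟩ := h
  have e1 : 𝒰 * fromBlocks Z Z Z q * 𝒱 = fromBlocks p Z Z Z := by
    calc 𝒰 * fromBlocks Z Z Z q * 𝒱 = (𝒰 * 𝒱) * (𝒰 * 𝒱) := by
          rw [← h2]; simp only [Matrix.mul_assoc]
      _ = fromBlocks p Z Z Z := by rw [h1, fromBlocks_idem_left hp]
  have e2 : 𝒱 * fromBlocks p Z Z Z * 𝒰 = fromBlocks Z Z Z q := by
    calc 𝒱 * fromBlocks p Z Z Z * 𝒰 = (𝒱 * 𝒰) * (𝒱 * 𝒰) := by
          rw [← h1]; simp only [Matrix.mul_assoc]
      _ = fromBlocks Z Z Z q := by rw [h2, fromBlocks_idem_right hq]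
  obtain ⟨a, b, c, d, rfl⟩ : ∃ a b c d, 𝒰 = fromBlocks a b c d :=
    ⟨_, _, _, _, (fromBlocks_toBlocks 𝒰).symm⟩
  obtain ⟨a', b', c', d', rfl⟩ : ∃ a' b' c' d', 𝒱 = fromBlocks a' b' c' d' :=
    ⟨_, _, _, _, (fromBlocks_toBlocks 𝒱).symm⟩
  rw [Matrix.fromBlocks_multiply, Matrix.fromBlocks_multiply, Matrix.fromBlocks_inj] at e1 e2
  have k1 : b * q * c' = p := by simpa using e1.1
  have k2 : c' * p * b = q := by simpa using e2.2.2.2
  refine ⟨p * b * q, q * c' * p, ?_, ?_⟩
  · calc p * b * q * (q * c' * p) = p * (b * (q * q) * c') * p := by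
          simp only [Matrix.mul_assoc]
      _ = p := by rw [hq, k1, hp, hp]
  · calc q * c' * p * (p * b * q) = q * (c' * (p * p) * b) * q := by
          simp only [Matrix.mul_assoc]
      _ = q := by rw [hp, k2, hq, hq]

end Glue

end Groth.Agent.Lib.R2H7.MonicGlue
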