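import Groth.Agent.Lib.R2H7HorrMain
import Groth.Agent.Lib.R2H7MonicGlue

/-!
# Cancellation of the monic localization `A(t)` for finitely generated projective modules

If `P`, `P'` are finitely generated projective `A`-modules which become isomorphic over the
localization of `A[t]` at the monic polynomials then `P ≃ P'`.
-/

namespace Groth.Agent.Lib.R2H7.MonicMain

open Polynomial LaurentPolynomial TensorProduct Matrix
open Groth.Agent.Lib.R2H7.HorrLocal Groth.Agent.Lib.R2H7.HorrPatch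
open Groth.Agent.Lib.R2H7.HorrDict Groth.Agent.Lib.R2H7.HorrMain
open Groth.Agent.Lib.R2H7.MonicGlue

universe u

section Lin

variable {R S : Type*} [CommRing R] [CommRing S] [Algebra R S]
  {M N : Type*} [AddCommGroup M] [Module R M] [AddCommGroup N] [Module R N] {n : ℕ}

/-- base change of a presentation: the projection. -/
noncomputable def bcP (S : Type*) [CommRing S] [Algebra R S] (f : (Fin n → R) →ₗ[R] M) :
    (Fin n → S) →ₗ[S] S ⊗[R] M :=
  (f.baseChange S) ∘ₗ (TensorProduct.piScalarRight R S S (Fin n)).symm.toLinearMap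

/-- base change of a presentation: the coordinates. -/
noncomputable def bcC (S : Type*) [CommRing S] [Algebra R S] (g : M →ₗ[R] (Fin n → R)) :
    S ⊗[R] M →ₗ[S] (Fin n → S) :=
  (TensorProduct.piScalarRight R S S (Fin n)).toLinearMap ∘ₗ (g.baseChange S)

theorem bcP_comp_bcC (f : (Fin n → R) →ₗ[R] M) (g : M →ₗ[R] (Fin n → R))
    (h : f ∘ₗ g = LinearMap.id) : bcP S f ∘ₗ bcC S g = LinearMap.id := by
  unfold bcP bcC
  rw [LinearMap.comp_assoc, ← LinearMap.comp_assoc _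
    (TensorProduct.piScalarRight R S S (Fin n)).toLinearMap
    (TensorProduct.piScalarRight R S S (Fin n)).symm.toLinearMap,
    LinearEquiv.symm_comp, LinearMap.id_comp, ← LinearMap.baseChange_comp, h,
    LinearMap.baseChange_id]

theorem bcC_comp_bcP (f : (Fin n → R) →ₗ[R] M) (g : M →ₗ[R] (Fin n → R)) :
    bcC S g ∘ₗ bcP S f =
      Matrix.toLin' ((LinearMap.toMatrix' (g ∘ₗ f)).map (algebraMap R S)) := by
  unfold bcP bcC
  rw [LinearMap.comp_assoc, ← LinearMap.comp_assoc _ (f.baseChange S),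
    ← LinearMap.baseChange_comp, ← Matrix.toLin'_toMatrix' (g ∘ₗ f),
    ← LinearMap.comp_assoc, piScalarRight_baseChange_toLin', LinearMap.comp_assoc,
    LinearEquiv.comp_symm, LinearMap.comp_id, Matrix.toLin'_toMatrix']

theorem exists_matrices_lin
    (f₁ : (Fin n → R) →ₗ[R] M) (g₁ : M →ₗ[R] (Fin n → R)) (h₁ : f₁ ∘ₗ g₁ = LinearMap.id)
    (f₂ : (Fin n → R) →ₗ[R] N) (g₂ : N →ₗ[R] (Fin n → R)) (h₂ : f₂ ∘ₗ g₂ = LinearMap.id)
    (E : (S ⊗[R] M) ≃ₗ[S] (S ⊗[R] N)) :
    MvN ((LinearMap.toMatrix' (g₁ ∘ₗ f₁)).map (algebraMap R S))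
      ((LinearMap.toMatrix' (g₂ ∘ₗ f₂)).map (algebraMap R S)) := by
  classical
  let Γ : (Fin n → S) →ₗ[S] (Fin n → S) := bcC S g₂ ∘ₗ E.toLinearMap ∘ₗ bcP S f₁
  let Γ' : (Fin n → S) →ₗ[S] (Fin n → S) := bcC S g₁ ∘ₗ E.symm.toLinearMap ∘ₗ bcP S f₂
  have k1 : Γ' ∘ₗ Γ = bcC S g₁ ∘ₗ bcP S f₁ := by
    refine LinearMap.ext fun x => ?_
    have := LinearMap.congr_fun (bcP_comp_bcC (S := S) f₂ g₂ h₂) (E (bcP S f₁ x))
    simp only [LinearMap.comp_apply, LinearMap.id_apply] at this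
    simp only [Γ, Γ', LinearMap.comp_apply, LinearEquiv.coe_coe, this,
      LinearEquiv.symm_apply_apply]
  have k2 : Γ ∘ₗ Γ' = bcC S g₂ ∘ₗ bcP S f₂ := by
    refine LinearMap.ext fun x => ?_
    have := LinearMap.congr_fun (bcP_comp_bcC (S := S) f₁ g₁ h₁) (E.symm (bcP S f₂ x))
    simp only [LinearMap.comp_apply, LinearMap.id_apply] at this
    simp only [Γ, Γ', LinearMap.comp_apply, LinearEquiv.coe_coe, this,
      LinearEquiv.apply_symm_apply]
  refine ⟨LinearMap.toMatrix' Γ', LinearMap.toMatrix' Γ, ?_, ?_⟩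
  · rw [← LinearMap.toMatrix'_comp, k1, bcC_comp_bcP, LinearMap.toMatrix'_toLin']
  · rw [← LinearMap.toMatrix'_comp, k2, bcC_comp_bcP, LinearMap.toMatrix'_toLin']

end Lin

section Spread

variable {B B' : Type*} [CommRing B] [CommRing B'] [Algebra B B'] (N : Submonoid B)
  [IsLocalization N B'] {n : ℕ}

theorem mvn_spread (P Q : Matrix (Fin n) (Fin n) B)
    (h : MvN (P.map (algebraMap B B')) (Q.map (algebraMap B B'))) :
    ∃ g ∈ N, ∃ U V : Matrix (Fin n) (Fin n) B, U * V = g • P ∧ V * U = g • Q := by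
  obtain ⟨u, v, huv, hvu⟩ := h
  obtain ⟨b₁, U₁, hU₁⟩ := HorrQuillen.exists_matrix_int N u
  obtain ⟨b₂, V₁, hV₁⟩ := HorrQuillen.exists_matrix_int N v
  have k1 : (algebraMap B B').mapMatrix (U₁ * V₁ - ((b₁ : B) * (b₂ : B)) • P) = 0 := by
    rw [map_sub, map_mul, hU₁, hV₁, smul_mul_smul_comm, huv, HorrKey.mapMatrix_smul, map_mul]
    exact sub_self _
  have k2 : (algebraMap B B').mapMatrix (V₁ * U₁ - ((b₁ : B) * (b₂ : B)) • Q) = 0 := by
    rw [map_sub, map_mul, hU₁, hV₁, smul_mul_smul_comm, hvu, HorrKey.mapMatrix_smul, map_mul,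
      mul_comm (algebraMap B B' b₂)]
    exact sub_self _
  obtain ⟨b₃, h₃⟩ := HorrQuillen.exists_matrix_ker (B' := B') N _ k1
  obtain ⟨b₄, h₄⟩ := HorrQuillen.exists_matrix_ker (B' := B') N _ k2
  rw [smul_sub, sub_eq_zero, smul_smul] at h₃ h₄
  refine ⟨(b₁ : B) * b₂ * b₃ * b₄, mul_mem (mul_mem (mul_mem b₁.2 b₂.2) b₃.2) b₄.2,
    ((b₃ : B) * b₄) • U₁, V₁, ?_, ?_⟩
  · rw [Matrix.smul_mul, mul_comm (b₃ : B) b₄, mul_smul, h₃, smul_smul]
    congr 1; ring
  · rw [Matrix.mul_smul, mul_smul, h₄, smul_smul]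
    congr 1; ring

end Spread

section Reverse

variable {A : Type u} [CommRing A]

theorem tL'_C (a : A) : tL' A (Polynomial.C a) = toLaurent (Polynomial.C a) := by
  rw [tL'_apply, Polynomial.toLaurent_C, LaurentPolynomial.invert_C]

theorem tL'_eq_reverse (g : A[X]) :
    tL' A g = toLaurent g.reverse * T (-(g.natDegree : ℤ)) := by
  rw [tL'_apply, LaurentPolynomial.toLaurent_reverse, LaurentPolynomial.mul_T_assoc,
    add_neg_cancel, LaurentPolynomial.T_zero, mul_one]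

theorem map_tL'_const {κ : Type*} (M : Matrix κ κ A) :
    (M.map (Polynomial.C : A → A[X])).map (tL' A) = (M.map (Polynomial.C : A → A[X])).map (toLaurent (R := A)) := by
  refine Matrix.ext fun i j => ?_
  simp only [Matrix.map_apply]
  exact tL'_C (A := A) (M i j)

theorem reversal_aux {n : ℕ} (P : Matrix (Fin n) (Fin n) A)
    (U V U₁ V₁ : Matrix (Fin n) (Fin n) A[X]) (g : A[X]) (k₁ k₂ : ℕ)
    (hU₁ : U₁.map (toLaurent (R := A)) = (T (k₁ : ℤ) : A[T;T⁻¹]) • U.map (tL' A))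
    (hV₁ : V₁.map (toLaurent (R := A)) = (T (k₂ : ℤ) : A[T;T⁻¹]) • V.map (tL' A))
    (hUV : U * V = g • P.map (Polynomial.C : A → A[X])) :
    ((X : A[X]) ^ g.natDegree • U₁) * V₁ = ((X : A[X]) ^ (k₁ + k₂) * g.reverse) • P.map (Polynomial.C : A → A[X]) := by
  apply Matrix.map_injective (Polynomial.toLaurent_injective (R := A))
  show (((X : A[X]) ^ g.natDegree • U₁) * V₁).map (toLaurent (R := A)) =
    (((X : A[X]) ^ (k₁ + k₂) * g.reverse) • P.map (Polynomial.C : A → A[X])).map (toLaurent (R := A))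
  have hT : (T (g.natDegree : ℤ) : A[T;T⁻¹]) * T (-(g.natDegree : ℤ)) = 1 := by
    rw [← LaurentPolynomial.T_add, add_neg_cancel, LaurentPolynomial.T_zero]
  have hT2 : (T ((k₁ + k₂ : ℕ) : ℤ) : A[T;T⁻¹]) = T (k₁ : ℤ) * T (k₂ : ℤ) := by
    push_cast; exact LaurentPolynomial.T_add _ _
  rw [Matrix.map_mul, map_smul_ringHom, map_smul_ringHom, hU₁, hV₁, smul_smul,
    smul_mul_smul_comm, ← Matrix.map_mul, hUV, map_smul_ringHom, smul_smul, map_tL'_const,
    tL'_eq_reverse, map_mul, Polynomial.toLaurent_X_pow, Polynomial.toLaurent_X_pow, hT2]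
  congr 1
  linear_combination
    ((T (k₁ : ℤ) : A[T;T⁻¹]) * T (k₂ : ℤ) * toLaurent g.reverse) * hT

theorem reversal {n : ℕ} (P Q : Matrix (Fin n) (Fin n) A) (U V : Matrix (Fin n) (Fin n) A[X])
    (g : A[X]) (hg : g.Monic) (hUV : U * V = g • P.map (Polynomial.C : A → A[X]))
    (hVU : V * U = g • Q.map (Polynomial.C : A → A[X])) :
    ∃ (m : ℕ) (h : A[X]) (U' V' : Matrix (Fin n) (Fin n) A[X]), h.coeff 0 = 1 ∧
      U' * V' = ((X : A[X]) ^ m * h) • P.map (Polynomial.C : A → A[X]) ∧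
      V' * U' = ((X : A[X]) ^ m * h) • Q.map (Polynomial.C : A → A[X]) := by
  obtain ⟨k₁, U₁, hU₁⟩ := exists_T_pow_matrix (U.map (tL' A))
  obtain ⟨k₂, V₁, hV₁⟩ := exists_T_pow_matrix (V.map (tL' A))
  refine ⟨k₁ + k₂, g.reverse, (X : A[X]) ^ g.natDegree • U₁, V₁, ?_, ?_, ?_⟩
  · rw [Polynomial.coeff_zero_reverse, hg.leadingCoeff]
  · exact reversal_aux P U V U₁ V₁ g k₁ k₂ hU₁ hV₁ hUV
  · have := reversal_aux Q V U V₁ U₁ g k₂ k₁ hV₁ hU₁ hVU
    rw [Matrix.mul_smul, ← Matrix.smul_mul, this, add_comm k₂ k₁]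

end Reverse

section Core

variable {A : Type u} [CommRing A]

theorem submatrix_smul' {κ κ' R α : Type*} [SMul R α] (r : R) (M : Matrix κ κ α) (f g : κ' → κ) :
    (r • M).submatrix f g = r • M.submatrix f g := rfl

theorem map_C_map_eval {κ : Type*} (M : Matrix κ κ A) (a : A) :
    (M.map (Polynomial.C : A → A[X])).map (evalRingHom a) = M := by
  refine Matrix.ext fun i j => ?_
  simp

theorem fromBlocks_left_map {κ : Type*} {α β : Type*} [Zero α] [Zero β] (f : α → β)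
    (hf : f 0 = 0) (M : Matrix κ κ α) :
    (fromBlocks M (0 : Matrix κ κ α) (0 : Matrix κ κ α) (0 : Matrix κ κ α)).map f =
      fromBlocks (M.map f) 0 0 0 := by
  rw [Matrix.fromBlocks_map, Matrix.map_zero f hf]

theorem fromBlocks_right_map {κ : Type*} {α β : Type*} [Zero α] [Zero β] (f : α → β)
    (hf : f 0 = 0) (M : Matrix κ κ α) :
    (fromBlocks (0 : Matrix κ κ α) (0 : Matrix κ κ α) (0 : Matrix κ κ α) M).map f =
      fromBlocks 0 0 0 (M.map f) := by
  rw [Matrix.fromBlocks_map, Matrix.map_zero f hf]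

theorem core {n : ℕ} (p p' : Matrix (Fin n) (Fin n) A) (hp : p * p = p) (hp' : p' * p' = p')
    (m : ℕ) (h : A[X]) (hh : h.coeff 0 = 1) (U₀ V₀ : Matrix (Fin n) (Fin n) A[X])
    (h1 : U₀ * V₀ = ((X : A[X]) ^ m * h) • p.map (Polynomial.C : A → A[X]))
    (h2 : V₀ * U₀ = ((X : A[X]) ^ m * h) • p'.map (Polynomial.C : A → A[X])) : MvN p p' := by
  classical
  set pc : Matrix (Fin n) (Fin n) A[X] := p.map (Polynomial.C : A → A[X]) with hpc
  set pc' : Matrix (Fin n) (Fin n) A[X] := p'.map (Polynomial.C : A → A[X]) with hpc'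
  have hpcI : pc * pc = pc := by
    rw [hpc, ← Matrix.map_mul (f := (Polynomial.C : A →+* A[X])), hp]
  have hpcI' : pc' * pc' = pc' := by
    rw [hpc', ← Matrix.map_mul (f := (Polynomial.C : A →+* A[X])), hp']
  obtain ⟨U, V, hUV, hVU, hpU, hUq, hqV, hVp⟩ := cube_normalize hpcI hpcI' h1 h2
  set x : A[X] := X ^ (3 * m) with hx
  set y : A[X] := h ^ 3 with hy
  have hc : ((X : A[X]) ^ m * h) ^ 3 = x * y := by
    rw [hx, hy, mul_pow, ← pow_mul, mul_comm m 3]
  have hcop : IsCoprime x y := by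
    have h0 : IsCoprime (X : A[X]) h := by
      refine ⟨-h.divX, 1, ?_⟩
      have := Polynomial.divX_mul_X_add h
      rw [hh, C_1] at this
      linear_combination (-1 : A[X]) * this
    exact h0.pow
  obtain ⟨la, mu, hlm⟩ := hcop
  have hGD : GlueData pc pc' U V x y la mu :=
    ⟨hpcI, hpcI', by rw [hUV, hc], by rw [hVU, hc], hpU, hUq, hqV, hVp, hlm⟩
  obtain ⟨gx1, gx2⟩ := glue_x hGD
  obtain ⟨gy1, gy2⟩ := glue_y hGD
  have hEI := glueE_idem hGD
  set e := glueE pc pc' U V x y la mu with he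
  -- idempotents over `A`
  have hDp : fromBlocks p (0 : Matrix (Fin n) (Fin n) A) 0 0 * fromBlocks p 0 0 0 =
      fromBlocks p 0 0 0 := fromBlocks_idem_left hp
  have hDp' : fromBlocks (0 : Matrix (Fin n) (Fin n) A) 0 0 p' * fromBlocks 0 0 0 p' =
      fromBlocks 0 0 0 p' := fromBlocks_idem_right hp'
  -- evaluation at `1` and `0`
  have hx1 : evalRingHom (1 : A) x = 1 := by simp [hx]
  have hy0 : evalRingHom (0 : A) y = 1 := by
    simp [hy, ← Polynomial.coeff_zero_eq_eval_zero, hh]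
  have m1 : MvN (e.map (evalRingHom (1 : A))) (fromBlocks p 0 0 0) := by
    refine ⟨(fromBlocks ((la * x) • pc) 0 (mu • V) (0 : Matrix (Fin n) (Fin n) A[X])).map
        (evalRingHom (1 : A)),
      (fromBlocks (x • pc) U 0 (0 : Matrix (Fin n) (Fin n) A[X])).map (evalRingHom (1 : A)),
      ?_, ?_⟩
    · rw [← Matrix.map_mul, gx1, map_smul_ringHom, hx1, one_smul]
    · rw [← Matrix.map_mul, gx2, map_smul_ringHom, hx1, one_smul,
        fromBlocks_left_map _ (map_zero _), hpc, map_C_map_eval]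
  have m0 : MvN (e.map (evalRingHom (0 : A))) (fromBlocks 0 0 0 p') := by
    refine ⟨(fromBlocks (0 : Matrix (Fin n) (Fin n) A[X]) (la • U) 0 ((mu * y) • pc')).map
        (evalRingHom (0 : A)),
      (fromBlocks (0 : Matrix (Fin n) (Fin n) A[X]) 0 V (y • pc')).map (evalRingHom (0 : A)),
      ?_, ?_⟩
    · rw [← Matrix.map_mul, gy1, map_smul_ringHom, hy0, one_smul]
    · rw [← Matrix.map_mul, gy2, map_smul_ringHom, hy0, one_smul,
        fromBlocks_right_map _ (map_zero _), hpc', map_C_map_eval]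
  -- the Laurent data
  let ρ : Fin (n + n) ≃ Fin n ⊕ Fin n := finSumFinEquiv.symm
  set E : Matrix (Fin (n + n)) (Fin (n + n)) A[X] := e.submatrix ρ ρ with hE
  set EN : Matrix (Fin (n + n)) (Fin (n + n)) A[X] :=
    (fromBlocks pc (0 : Matrix (Fin n) (Fin n) A[X]) 0 0).submatrix ρ ρ with hEN
  have hEE : E * E = E := by rw [hE, Matrix.submatrix_mul_equiv, hEI]
  have hENEN : EN * EN = EN := by
    rw [hEN, Matrix.submatrix_mul_equiv, fromBlocks_idem_left hpcI]
  have hTx : (T (-((3 * m : ℕ) : ℤ)) : A[T;T⁻¹]) * toLaurent x = 1 := by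
    rw [hx, Polynomial.toLaurent_X_pow, ← LaurentPolynomial.T_add, neg_add_cancel,
      LaurentPolynomial.T_zero]
  have hExt : Ext E := by
    refine ext_global E EN hEE hENEN
      ((T (-((3 * m : ℕ) : ℤ)) : A[T;T⁻¹]) •
        ((fromBlocks (x • pc) U 0 (0 : Matrix (Fin n) (Fin n) A[X])).map
          (toLaurent (R := A))).submatrix ρ ρ)
      (((fromBlocks ((la * x) • pc) 0 (mu • V) (0 : Matrix (Fin n) (Fin n) A[X])).map
          (toLaurent (R := A))).submatrix ρ ρ) ?_ ?_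
    · rw [Matrix.mul_smul, Matrix.submatrix_mul_equiv, ← Matrix.map_mul, gx1, map_smul_ringHom,
        submatrix_smul', smul_smul, hTx, one_smul, hE, Matrix.submatrix_map]
    · rw [Matrix.smul_mul, Matrix.submatrix_mul_equiv, ← Matrix.map_mul, gx2, map_smul_ringHom,
        submatrix_smul', smul_smul, hTx, one_smul, hEN, ← Matrix.submatrix_map,
        fromBlocks_left_map _ (map_zero _), fromBlocks_left_map _ (map_zero _), hpc,
        map_tL'_const]
  obtain ⟨U', V', hU'V', hV'U'⟩ := hExt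
  have hev : ((ev0 A).mapMatrix E).map (evalRingHom (1 : A)) = E.map (evalRingHom (0 : A)) := by
    refine Matrix.ext fun i j => ?_
    simp [ev0]
  have m10' : MvN (E.map (evalRingHom (1 : A))) (E.map (evalRingHom (0 : A))) :=
    ⟨U'.map (evalRingHom (1 : A)), V'.map (evalRingHom (1 : A)),
      by rw [← Matrix.map_mul, hU'V'], by rw [← Matrix.map_mul, hV'U', hev]⟩
  have hback : ∀ ψ : A[X] →+* A,
      (E.map ψ).submatrix (finSumFinEquiv : Fin n ⊕ Fin n ≃ Fin (n + n)) finSumFinEquiv =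
        e.map ψ := by
    intro ψ
    rw [hE, ← Matrix.submatrix_map, Matrix.submatrix_submatrix]
    have : (ρ : Fin (n + n) → Fin n ⊕ Fin n) ∘ (finSumFinEquiv : Fin n ⊕ Fin n → Fin (n + n)) =
        id := by
      funext z; simp [ρ]
    rw [this, Matrix.submatrix_id_id]
  have m10 : MvN (e.map (evalRingHom (1 : A))) (e.map (evalRingHom (0 : A))) := by
    have := m10'.submatrix (finSumFinEquiv : Fin n ⊕ Fin n ≃ Fin (n + n))
    rwa [hback, hback] at this
  have he0 : e.map (evalRingHom (0 : A)) * e.map (evalRingHom (0 : A)) =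
      e.map (evalRingHom (0 : A)) := by rw [← Matrix.map_mul, hEI]
  have step1 : MvN (fromBlocks p (0 : Matrix (Fin n) (Fin n) A) 0 0)
      (e.map (evalRingHom (0 : A))) := MvN.trans hDp he0 m1.symm m10
  have step2 : MvN (fromBlocks p (0 : Matrix (Fin n) (Fin n) A) 0 0) (fromBlocks 0 0 0 p') :=
    MvN.trans hDp hDp' step1 m0
  exact mvn_of_blocks hp hp' step2

end Core

section Final

/-- **Cancellation for the monic localization.** -/
theorem monic_cancel (A : Type u) [CommRing A] (Mo : Submonoid A[X])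
    (hM : ∀ f : A[X], f ∈ Mo ↔ f.Monic)
    (At : Type u) [CommRing At] [Algebra A[X] At] [IsLocalization Mo At]
    [Algebra A At] [IsScalarTower A A[X] At]
    (P P' : Type u) [AddCommGroup P] [Module A P] [Module.Finite A P] [Module.Projective A P]
    [AddCommGroup P'] [Module A P'] [Module.Finite A P'] [Module.Projective A P']
    (h : Nonempty ((At ⊗[A] P) ≃ₗ[At] (At ⊗[A] P'))) :
    Nonempty (P ≃ₗ[A] P') := by
  obtain ⟨E⟩ := h
  obtain ⟨n₁, hn₁⟩ := exists_pres A P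
  obtain ⟨n₂, hn₂⟩ := exists_pres A P'
  obtain ⟨f₁, g₁, h₁⟩ := hn₁ (max n₁ n₂) (le_max_left _ _)
  obtain ⟨f₂, g₂, h₂⟩ := hn₂ (max n₁ n₂) (le_max_right _ _)
  set p := LinearMap.toMatrix' (g₁ ∘ₗ f₁) with hp
  set p' := LinearMap.toMatrix' (g₂ ∘ₗ f₂) with hp'
  have hpI : p * p = p := toMatrix'_idem f₁ g₁ h₁
  have hpI' : p' * p' = p' := toMatrix'_idem f₂ g₂ h₂
  have hAt : MvN (p.map (algebraMap A At)) (p'.map (algebraMap A At)) :=
    exists_matrices_lin f₁ g₁ h₁ f₂ g₂ h₂ E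
  have conv : ∀ q : Matrix (Fin (max n₁ n₂)) (Fin (max n₁ n₂)) A,
      q.map (algebraMap A At) =
        (q.map (Polynomial.C : A → A[X])).map (algebraMap A[X] At) := by
    intro q
    refine Matrix.ext fun i j => ?_
    simp only [Matrix.map_apply]
    rw [IsScalarTower.algebraMap_apply A A[X] At, Polynomial.algebraMap_apply,
      Algebra.algebraMap_self_apply]
  rw [conv p, conv p'] at hAt
  obtain ⟨g, hg, U, V, hUV, hVU⟩ := mvn_spread Mo _ _ hAt
  obtain ⟨m, hh, U', V', hh0, e1, e2⟩ := reversal p p' U V g ((hM g).1 hg) hUV hVU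
  obtain ⟨u, v, huv, hvu⟩ := core p p' hpI hpI' m hh hh0 U' V' e1 e2
  exact equiv_of_mvn f₁ g₁ h₁ f₂ g₂ h₂ (Matrix.toLin' u) (Matrix.toLin' v)
    (by rw [← Matrix.toLin'_mul, huv, hp, Matrix.toLin'_toMatrix'])
    (by rw [← Matrix.toLin'_mul, hvu, hp', Matrix.toLin'_toMatrix'])

end Final

end Groth.Agent.Lib.R2H7.MonicMain
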