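import Mathlib
import Groth.Prelude.Def_StabCat
import Groth.Agent.Lib.R2H7StabNum
import Groth.Agent.Lib.R2H7HilbStab
import Groth.Agent.Lib.R2H7HilbStabB
import Groth.Agent.Lib.R2H7HilbStabC

/-!
# helper7: abstract slope-semistability (`StabCat.IsMuSS`) for pure objects

Under the axioms `HilbStab.Ax`:

* `Ax.sub_slope_le`, `Ax.quot_slope_ge` : slopes of subobjects and quotients of a pure
  slope-semistable object;
* `Ax.hom_eq_zero_of_mu` : `Hom(F, G) = 0` for pure slope-semistable `F`, `G` with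
  `μ(G) < μ(F)`;
* `Ax.muSS_of_shortExact` : an extension of pure slope-semistable objects of the same slope is
  pure and slope-semistable of that slope.
-/

set_option autoImplicit false
universe v u
open CategoryTheory CategoryTheory.Limits Polynomial StabCat Filter
open Groth.Agent.Lib.R2H7.StabNum

namespace Groth.Agent.Lib.R2H7.HilbStab

variable {C : Type u} [Category.{v} C] [Abelian C]
variable {ok : C → Prop} {HP : C → ℚ[X] → Prop} {sdim : C → WithBot ℕ∞}

namespace Ax

variable (ax : Ax ok HP sdim)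
include ax

theorem sdim_le_of_natDegree_le {F : C} {P : ℚ[X]} {n : ℕ} (okF : ok F) (hp : HP F P)
    (hdeg : P.natDegree ≤ n) : sdim F ≤ (n : WithBot ℕ∞) := by
  by_cases hz : IsZero F
  · rw [ax.sdim_zero hz]
    exact bot_le
  · obtain ⟨e, he⟩ := ax.sdim_nat okF hz
    rw [he]
    by_contra hlt
    have hne : n < e := by
      by_contra h
      push_neg at h
      exact hlt (by exact_mod_cast h)
    have hpos := ax.alpha_pos e okF hp he
    unfold alpha at hpos
    rw [Polynomial.coeff_eq_zero_of_natDegree_lt (lt_of_le_of_lt hdeg hne), mul_zero] at hpos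
    exact lt_irrefl _ hpos

/-- Hilbert polynomials along a monomorphism -/
theorem polyLE_alpha_of_mono {E E' : C} (ι : E ⟶ E') [Mono ι] (okE : ok E) (okE' : ok E')
    {pE pE' : ℚ[X]} (hpE : HP E pE) (hpE' : HP E' pE') (d : ℕ) :
    PolyLE pE pE' ∧ (sdim (cokernel ι) < (d : WithBot ℕ∞) → alpha d pE = alpha d pE') := by
  have okQ := ax.ok_coker ι okE okE'
  have hpQ := ax.hp_coker ι okE okE' hpE hpE'
  refine ⟨?_, fun hlt => ?_⟩
  · rw [polyLE_iff]
    by_cases hz : IsZero (cokernel ι)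
    · have h0 := ax.hp_eq_zero hz hpQ
      rw [sub_eq_zero.1 h0]
      exact Eventually.of_forall fun _ => le_rfl
    · filter_upwards [ax.eventually_pos okQ hz hpQ] with m hm
      rw [eval_sub] at hm
      linarith
  · have h0 := ax.alpha_eq_zero okQ hpQ hlt
    rw [alpha_sub] at h0
    linarith

/-- slopes of subobjects of a pure slope-semistable object -/
theorem sub_slope_le {A A' : C} {n : ℕ} (hn : 1 ≤ n) (okA : ok A) (nzA : ¬ IsZero A)
    (pureA : Pure ok sdim A n) (hmu : IsMuSS ok HP n A) (ι : A' ⟶ A) [Mono ι] (okA' : ok A')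
    {pA pA' : ℚ[X]} (hpA : HP A pA) (hpA' : HP A' pA') :
    alpha (n - 1) pA' ≤ hatSlope n pA * alpha n pA' := by
  have dimA : sdim A = (n : WithBot ℕ∞) := pureA A (𝟙 A) inferInstance okA nzA
  have aA := ax.alpha_pos n okA hpA dimA
  by_cases hz : IsZero A'
  · rw [ax.hp_eq_zero hz hpA', alpha_zero, alpha_zero, mul_zero]
  · have dimA' := pureA A' ι inferInstance okA' hz
    have aA' := ax.alpha_pos n okA' hpA' dimA'
    have okQ := ax.ok_coker ι okA' okA
    have hpQ := ax.hp_coker ι okA' okA hpA' hpA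
    have sdQ : sdim (cokernel ι) ≤ (n : WithBot ℕ∞) :=
      (ax.sdim_epi (cokernel.π ι) inferInstance).trans dimA.le
    have aQ := ax.alpha_nonneg okQ hpQ sdQ
    rw [alpha_sub] at aQ
    rcases (sub_nonneg.1 aQ).eq_or_lt with heq | hlt
    · have a0 : alpha n (pA - pA') = 0 := by rw [alpha_sub, heq, sub_self]
      have sdQ' : sdim (cokernel ι) ≤ ((n - 1 : ℕ) : WithBot ℕ∞) := by
        by_cases hzQ : IsZero (cokernel ι)
        · rw [ax.sdim_zero hzQ]
          exact bot_le
        · obtain ⟨e, he⟩ := ax.sdim_nat okQ hzQ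
          rw [he] at sdQ ⊢
          have hen : e ≤ n := by exact_mod_cast sdQ
          have hne : e ≠ n := by
            rintro rfl
            have := ax.alpha_pos e okQ hpQ he
            rw [a0] at this
            exact lt_irrefl _ this
          have : e ≤ n - 1 := by omega
          exact_mod_cast this
      have bQ := ax.alpha_nonneg okQ hpQ sdQ'
      rw [alpha_sub] at bQ
      unfold hatSlope
      rw [heq, div_mul_cancel₀ _ aA.ne']
      linarith
    · have := hmu A' ι inferInstance okA' pA' pA hpA' hpA aA' hlt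
      unfold hatSlope at this ⊢
      rw [div_le_iff₀ aA'] at this
      exact this

/-- slopes of quotients of a pure slope-semistable object -/
theorem quot_slope_ge {F I : C} {n : ℕ} (hn : 1 ≤ n) (okF : ok F) (nzF : ¬ IsZero F)
    (pureF : Pure ok sdim F n) (hmu : IsMuSS ok HP n F) (π : F ⟶ I) [Epi π] (okI : ok I)
    {pF pI : ℚ[X]} (hpF : HP F pF) (hpI : HP I pI) :
    hatSlope n pF * alpha n pI ≤ alpha (n - 1) pI := by
  have dimF : sdim F = (n : WithBot ℕ∞) := pureF F (𝟙 F) inferInstance okF nzF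
  have aF := ax.alpha_pos n okF hpF dimF
  have okK := ax.ok_ker π okF okI
  have hpK := ax.hp_ker π okF okI hpF hpI
  have h := ax.sub_slope_le hn okF nzF pureF hmu (kernel.ι π) okK hpF hpK
  rw [alpha_sub, alpha_sub, mul_sub] at h
  have hb : alpha (n - 1) pF = hatSlope n pF * alpha n pF := by
    unfold hatSlope
    rw [div_mul_cancel₀ _ aF.ne']
  linarith

/-- `Hom(F, G) = 0` for pure slope-semistable objects with `μ(G) < μ(F)` -/
theorem hom_eq_zero_of_mu {F G : C} {n : ℕ} (hn : 1 ≤ n) (okF : ok F) (nzF : ¬ IsZero F)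
    (pureF : Pure ok sdim F n) (hmuF : IsMuSS ok HP n F) (okG : ok G) (nzG : ¬ IsZero G)
    (pureG : Pure ok sdim G n) (hmuG : IsMuSS ok HP n G) {pF pG : ℚ[X]} (hpF : HP F pF)
    (hpG : HP G pG) (hlt : hatSlope n pG < hatSlope n pF) (φ : F ⟶ G) : φ = 0 := by
  by_contra hφ
  have hI : ¬ IsZero (Abelian.image φ) := by
    intro hz
    apply hφ
    rw [← Abelian.image.fac φ]
    exact (hz.eq_of_tgt (Abelian.factorThruImage φ) 0).symm ▸ Limits.zero_comp
  have okI := ax.ok_image φ okF okG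
  obtain ⟨pI, hpI⟩ := ax.hp_exists okI
  have aI : 0 < alpha n pI :=
    ax.alpha_pos n okI hpI (pureG _ (Abelian.image.ι φ) inferInstance okI hI)
  have h1 := ax.quot_slope_ge hn okF nzF pureF hmuF (Abelian.factorThruImage φ) okI hpF hpI
  have h2 := ax.sub_slope_le hn okG nzG pureG hmuG (Abelian.image.ι φ) okI hpG hpI
  have h3 : hatSlope n pF * alpha n pI ≤ hatSlope n pG * alpha n pI := h1.trans h2
  exact absurd hlt (not_lt.2 (le_of_mul_le_mul_right h3 aI))

/-- decomposition of a subobject of the middle term of a short exact sequence -/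
theorem sub_decomp (T : ShortComplex C) (hT : T.ShortExact) {H' : C} (ι : H' ⟶ T.X₂) [Mono ι]
    (okH' : ok H') (okB : ok T.X₃) :
    ∃ (A' B' : C) (α : A' ⟶ T.X₁) (β : B' ⟶ T.X₃) (κ : A' ⟶ H') (π' : H' ⟶ B'),
      Mono α ∧ Mono β ∧ Mono κ ∧ Epi π' ∧ ok A' ∧ ok B' ∧
        (∀ pH' pB' : ℚ[X], HP H' pH' → HP B' pB' → HP A' (pH' - pB')) ∧
        (IsZero A' → IsIso π') := by
  haveI := hT.mono_f
  have okB' := ax.ok_image (ι ≫ T.g) okH' okB
  have okA' := ax.ok_ker (Abelian.factorThruImage (ι ≫ T.g)) okH' okB'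
  have hk : (kernel.ι (Abelian.factorThruImage (ι ≫ T.g)) ≫ ι) ≫ T.g = 0 := by
    calc (kernel.ι (Abelian.factorThruImage (ι ≫ T.g)) ≫ ι) ≫ T.g
        = kernel.ι (Abelian.factorThruImage (ι ≫ T.g)) ≫
            Abelian.factorThruImage (ι ≫ T.g) ≫ Abelian.image.ι (ι ≫ T.g) := by
          rw [Category.assoc, Abelian.image.fac]
      _ = (kernel.ι (Abelian.factorThruImage (ι ≫ T.g)) ≫
            Abelian.factorThruImage (ι ≫ T.g)) ≫ Abelian.image.ι (ι ≫ T.g) :=
          (Category.assoc _ _ _).symm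
      _ = 0 := by rw [kernel.condition, Limits.zero_comp]
  have hα : Mono (hT.exact.lift _ hk) := by
    haveI : Mono (hT.exact.lift _ hk ≫ T.f) := by
      rw [ShortComplex.Exact.lift_f]
      infer_instance
    exact mono_of_mono (hT.exact.lift _ hk) T.f
  refine ⟨kernel (Abelian.factorThruImage (ι ≫ T.g)), Abelian.image (ι ≫ T.g),
    hT.exact.lift _ hk, Abelian.image.ι (ι ≫ T.g),
    kernel.ι (Abelian.factorThruImage (ι ≫ T.g)), Abelian.factorThruImage (ι ≫ T.g),
    hα, inferInstance, inferInstance, inferInstance, okA', okB', ?_, ?_⟩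
  · intro pH' pB' hpH' hpB'
    exact ax.hp_ker (Abelian.factorThruImage (ι ≫ T.g)) okH' okB' hpH' hpB'
  · intro hz
    haveI : Mono (Abelian.factorThruImage (ι ≫ T.g)) := Preadditive.mono_of_isZero_kernel _ hz
    exact isIso_of_mono_of_epi _

/-- an extension of pure slope-semistable objects of the same slope is pure and slope-semistable
of that slope -/
theorem muSS_of_shortExact {n : ℕ} (hn : 1 ≤ n) (T : ShortComplex C) (hT : T.ShortExact)
    (okH : ok T.X₂) (pureA : Pure ok sdim T.X₁ n) (pureB : Pure ok sdim T.X₃ n)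
    (hA : MuSS ok HP sdim T.X₁ n) (hB : MuSS ok HP sdim T.X₃ n) {pA pB : ℚ[X]}
    (hpA : HP T.X₁ pA) (hpB : HP T.X₃ pB) (hμ : hatSlope n pA = hatSlope n pB) :
    (MuSS ok HP sdim T.X₂ n ∧ Pure ok sdim T.X₂ n) ∧
      ∀ pH : ℚ[X], HP T.X₂ pH → hatSlope n pH = hatSlope n pA := by
  obtain ⟨okA, nzA, dimA, -, muA⟩ := hA
  obtain ⟨okB, nzB, dimB, -, muB⟩ := hB
  haveI := hT.mono_f
  haveI := hT.epi_g
  have aA := ax.alpha_pos n okA hpA dimA
  have aB := ax.alpha_pos n okB hpB dimB
  have hpH0 : HP T.X₂ (pA + pB) := ax.hp_add T hT okA okH okB hpA hpB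
  have hbA : alpha (n - 1) pA = hatSlope n pA * alpha n pA := by
    unfold hatSlope
    rw [div_mul_cancel₀ _ aA.ne']
  have hbB : alpha (n - 1) pB = hatSlope n pA * alpha n pB := by
    rw [hμ]
    unfold hatSlope
    rw [div_mul_cancel₀ _ aB.ne']
  have hslope : hatSlope n (pA + pB) = hatSlope n pA := by
    have hne : alpha n pA + alpha n pB ≠ 0 := (add_pos aA aB).ne'
    have : hatSlope n (pA + pB) = (alpha (n - 1) pA + alpha (n - 1) pB) /
        (alpha n pA + alpha n pB) := by
      unfold hatSlope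
      rw [alpha_add, alpha_add]
    rw [this, div_eq_iff hne, hbA, hbB]
    ring
  have nzH : ¬ IsZero T.X₂ := fun hz => nzA (IsZero.of_mono T.f hz)
  have hdeg : (pA + pB).natDegree ≤ n :=
    (Polynomial.natDegree_add_le _ _).trans
      (max_le (ax.deg_le n okA hpA dimA.le) (ax.deg_le n okB hpB dimB.le))
  have sdH : sdim T.X₂ ≤ (n : WithBot ℕ∞) := ax.sdim_le_of_natDegree_le okH hpH0 hdeg
  have pureH : Pure ok sdim T.X₂ n := by
    intro H' ι hι okH' nzH'
    haveI := hι
    refine le_antisymm ((ax.sdim_mono ι hι).trans sdH) ?_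
    obtain ⟨A', B', α, β, κ, π', hα, hβ, hκ, hπ', okA', okB', -, hiso⟩ :=
      ax.sub_decomp T hT ι okH' okB
    by_cases hz : IsZero A'
    · haveI := hiso hz
      have nzB' : ¬ IsZero B' := fun h => nzH' (h.of_iso (asIso π'))
      rw [ax.sdim_iso (asIso π'), pureB B' β hβ okB' nzB']
    · rw [← pureA A' α hα okA' hz]
      exact ax.sdim_mono κ hκ
  have dimH : sdim T.X₂ = (n : WithBot ℕ∞) := pureH T.X₂ (𝟙 _) inferInstance okH nzH
  refine ⟨⟨⟨okH, nzH, dimH, ?_, ?_⟩, pureH⟩, fun pH hpH => ?_⟩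
  · intro F' ι hι okF'
    by_cases hz : IsZero F'
    · rw [ax.sdim_zero hz, WithBot.bot_add]
      exact WithBot.bot_ne_coe
    · rw [pureH F' ι hι okF' hz]
      intro h
      have : n + 1 = n := by exact_mod_cast h
      omega
  · intro H' ι hι okH' pH' pH hpH' hpH haH' _
    haveI := hι
    obtain ⟨A', B', α, β, κ, π', hα, hβ, hκ, hπ', okA', okB', hp', -⟩ :=
      ax.sub_decomp T hT ι okH' okB
    haveI := hα
    haveI := hβ
    obtain ⟨pB', hpB'⟩ := ax.hp_exists okB'
    have hpA' := hp' pH' pB' hpH' hpB'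
    have s1 := ax.sub_slope_le hn okA nzA pureA muA α okA' hpA hpA'
    have s2 := ax.sub_slope_le hn okB nzB pureB muB β okB' hpB hpB'
    rw [← hμ] at s2
    rw [alpha_sub, alpha_sub, mul_sub] at s1
    rw [ax.hp_unique hpH hpH0, hslope]
    unfold hatSlope at s1 s2 ⊢
    rw [div_le_iff₀ haH']
    linarith
  · rw [ax.hp_unique hpH hpH0, hslope]

end Ax

end Groth.Agent.Lib.R2H7.HilbStab
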