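import Mathlib
import Groth.Prelude.Def_StabCat
import Groth.Agent.Lib.R2H7StabNum
import Groth.Agent.Lib.R2H7HilbStab
import Groth.Agent.Lib.R2H7HilbStabB
import Groth.Agent.Lib.R2H7HilbStabC
import Groth.Agent.Lib.R2H7ValLattice
import Groth.Agent.Lib.R2H7ValLatticeS
import Groth.Agent.Lib.R2H7SatLattice
import Groth.Agent.Lib.R2H7HNBridge
import Groth.Agent.Lib.R2H7JHUnique
import Groth.Agent.Lib.R2H7MuStab

/-!
# helper7: the slope Harder-Narasimhan filtration, abstractly

For a tested, nonzero, pure object `F` (axioms `HilbStab.Ax`, `AxN`, ascending chain condition,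
biproducts) there is exactly one chain of subobjects from `⊥` to `⊤` whose factors are pure and
slope-semistable with strictly decreasing slopes (`existsUnique_muHN`).  The proof applies the
supermodular Harder-Narasimhan theory `ValLatticeS` to the lattice `SatLattice.SL` of saturated
subobjects with the two leading coefficients of the Hilbert polynomial.
-/

set_option autoImplicit false
universe v u
open CategoryTheory CategoryTheory.Limits Polynomial StabCat Filter
open Groth.Agent.Lib.R2H7.StabNum Groth.Agent.Lib.R2H7.HilbStab Groth.Agent.Lib.R2H7.ValLattice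
  Groth.Agent.Lib.R2H7.ValLatticeS Groth.Agent.Lib.R2H7.SatLattice Groth.Agent.Lib.R2H7.HNBridge

namespace Groth.Agent.Lib.R2H7.MuHN

/-! ### numerics -/

theorem redLE_PT_iff {n : ℕ} (hn : 1 ≤ n) (a s b : ℚ[X]) :
    RedLE n (topPart 1 n s - topPart 1 n a) (topPart 1 n b - topPart 1 n a) ↔
      alpha n (b - a) * alpha (n - 1) (s - a) ≤ alpha n (s - a) * alpha (n - 1) (b - a) := by
  rw [← topPart_sub, ← topPart_sub]
  exact redLE_topPart_one_iff hn _ _

theorem redLT_PT_iff {n : ℕ} (hn : 1 ≤ n) (a s b : ℚ[X]) :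
    RedLT n (topPart 1 n s - topPart 1 n a) (topPart 1 n b - topPart 1 n a) ↔
      alpha n (b - a) * alpha (n - 1) (s - a) < alpha n (s - a) * alpha (n - 1) (b - a) := by
  rw [← topPart_sub, ← topPart_sub]
  exact redLT_topPart_one_iff hn _ _

theorem hatSlope_lt_iff {n : ℕ} {f g : ℚ[X]} (af : 0 < alpha n f) (ag : 0 < alpha n g) :
    hatSlope n f < hatSlope n g ↔
      alpha n g * alpha (n - 1) f < alpha n f * alpha (n - 1) g := by
  unfold hatSlope
  rw [div_lt_div_iff₀ af ag]
  constructor <;> intro h <;> linarith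

theorem hatSlope_le_iff {n : ℕ} {f g : ℚ[X]} (af : 0 < alpha n f) (ag : 0 < alpha n g) :
    hatSlope n f ≤ hatSlope n g ↔
      alpha n g * alpha (n - 1) f ≤ alpha n f * alpha (n - 1) g := by
  unfold hatSlope
  rw [div_le_div_iff₀ af ag]
  constructor <;> intro h <;> linarith

variable {C : Type u} [Category.{v} C] [Abelian C]
variable {ok : C → Prop} {HP : C → ℚ[X] → Prop} {sdim : C → WithBot ℕ∞}

/-- the conditions of a slope Harder-Narasimhan filtration -/
def IsMuHN (ok : C → Prop) (HP : C → ℚ[X] → Prop) (sdim : C → WithBot ℕ∞) (n : ℕ) {F : C}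
    (s : LTSeries (Subobject F)) : Prop :=
  s.head = ⊥ ∧ s.last = ⊤ ∧
    (∀ i : Fin s.length, Pure ok sdim (factor s i) n ∧ MuSS ok HP sdim (factor s i) n) ∧
    ∀ i j : Fin s.length, i.val + 1 = j.val →
      ∀ p q : ℚ[X], HP (factor s i) p → HP (factor s j) q → hatSlope n q < hatSlope n p

section WithAx

variable (ax : Ax ok HP sdim)
include ax

theorem alpha_pred_nonneg {Q : C} {p : ℚ[X]} {n : ℕ} (okQ : ok Q) (hpQ : HP Q p)
    (sdQ : sdim Q ≤ (n : WithBot ℕ∞)) (a0 : alpha n p = 0) : 0 ≤ alpha (n - 1) p := by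
  have sdQ' : sdim Q ≤ ((n - 1 : ℕ) : WithBot ℕ∞) := by
    by_cases hzQ : IsZero Q
    · rw [ax.sdim_zero hzQ]
      exact bot_le
    · obtain ⟨e, he⟩ := ax.sdim_nat okQ hzQ
      rw [he] at sdQ ⊢
      have hen : e ≤ n := by exact_mod_cast sdQ
      have hne : e ≠ n := by
        rintro rfl
        have := ax.alpha_pos e okQ hpQ he
        rw [a0] at this
        exact lt_irrefl _ this
      have : e ≤ n - 1 := by omega
      exact_mod_cast this
  exact ax.alpha_nonneg okQ hpQ sdQ'

/-- monotonicity of the second coefficient along extensions of equal multiplicity -/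
theorem hsub {F : C} {n : ℕ} (dimF : sdim F = (n : WithBot ℕ∞)) {A B : Subobject F}
    (hA : ok (A : C)) (hB : ok (B : C)) (h : A ≤ B)
    (heq : alpha n (PP HP A) = alpha n (PP HP B)) :
    alpha (n - 1) (PP HP A) ≤ alpha (n - 1) (PP HP B) := by
  obtain ⟨okQ, hpQ⟩ := quot_ok_hp ax h hA hB
  have sdQ : sdim (cokernel (Subobject.ofLE A B h)) ≤ (n : WithBot ℕ∞) :=
    (ax.sdim_epi (cokernel.π _) inferInstance).trans
      ((ax.sdim_mono B.arrow inferInstance).trans dimF.le)
  have a0 : alpha n (PP HP B - PP HP A) = 0 := by rw [alpha_sub, heq, sub_self]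
  have := alpha_pred_nonneg ax okQ hpQ sdQ a0
  rw [alpha_sub] at this
  linarith

/-- lattice conditions on `[A, B]` give a pure slope-semistable factor -/
theorem mu_of_lattice (axn : AxN ok HP)
    (hacc : ∀ {Q : C}, ok Q → WellFoundedGT {S : Subobject Q // ok (S : C)})
    (hbi : ∀ {A B : C}, ok A → ok B → ok (A ⊞ B)) {F : C} {n : ℕ} (okF : ok F)
    (nzF : ¬ IsZero F) (pureF : Pure ok sdim F n) {A B : Subobject F}
    (hA : SatL (Lam ok) (PP HP) n A) (hB : SatL (Lam ok) (PP HP) n B) (hlt : A < B)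
    (hstep : ∀ S : Subobject F, SatL (Lam ok) (PP HP) n S → A < S → S ≤ B →
      alpha n (PP HP B - PP HP A) * alpha (n - 1) (PP HP S - PP HP A) ≤
        alpha n (PP HP S - PP HP A) * alpha (n - 1) (PP HP B - PP HP A)) :
    Pure ok sdim (cokernel (Subobject.ofLE A B hlt.le)) n ∧
      MuSS ok HP sdim (cokernel (Subobject.ofLE A B hlt.le)) n := by
  have hvl := vl ax axn hacc hbi okF nzF pureF
  have dimF : sdim F = (n : WithBot ℕ∞) := pureF F (𝟙 F) inferInstance okF nzF
  obtain ⟨okQ, hpQ⟩ := quot_ok_hp ax hlt.le hA.1 hB.1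
  have nzQ := not_isZero_cokernel _ (not_isIso_ofLE hlt)
  have sdQ : sdim (cokernel (Subobject.ofLE A B hlt.le)) ≤ (n : WithBot ℕ∞) :=
    (ax.sdim_epi (cokernel.π _) inferInstance).trans
      ((ax.sdim_mono B.arrow inferInstance).trans dimF.le)
  have pureQ : Pure ok sdim (cokernel (Subobject.ofLE A B hlt.le)) n := by
    intro G γ hγ okG nzG
    haveI := hγ
    by_contra hne
    have hle : sdim G ≤ (n : WithBot ℕ∞) := (ax.sdim_mono γ hγ).trans sdQ
    obtain ⟨pG, hpG⟩ := ax.hp_exists okG
    have a0 := ax.alpha_eq_zero okG hpG (lt_of_le_of_ne hle hne)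
    obtain ⟨S, hS, hAS, hSB, hP⟩ := sub_of_quot ax axn hlt.le hA.1 hB.1 γ okG nzG hpG
    have := hA.2 S hS hAS
    rw [hP, alpha_add, a0] at this
    linarith
  have dimQ := pureQ _ (𝟙 _) inferInstance okQ nzQ
  have aQ := ax.alpha_pos n okQ hpQ dimQ
  refine ⟨pureQ, okQ, nzQ, dimQ, ?_, ?_⟩
  · intro F' ι hι okF'
    by_cases hz : IsZero F'
    · rw [ax.sdim_zero hz, WithBot.bot_add]
      exact WithBot.bot_ne_coe
    · rw [pureQ F' ι hι okF' hz]
      intro h
      have : n + 1 = n := by exact_mod_cast h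
      omega
  · intro G γ hγ okG pG pQ' hpG hpQ' haG _
    haveI := hγ
    have nzG : ¬ IsZero G := by
      intro hz
      rw [ax.hp_eq_zero hz hpG, alpha_zero] at haG
      exact lt_irrefl _ haG
    obtain ⟨S, hS, hAS, hSB, hP⟩ := sub_of_quot ax axn hlt.le hA.1 hB.1 γ okG nzG hpG
    have hS' := satL_sat hvl hS
    have hSS' := le_sat hvl hS
    have hS'B := sat_le hvl hS hB hSB
    have h1 := hstep _ hS' (lt_of_lt_of_le hAS hSS') hS'B
    have h2 := alpha_sat hvl hS
    have h3 := hsub ax dimF hS hS'.1 hSS' h2.symm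
    rw [ax.hp_unique hpQ' hpQ]
    rw [hatSlope_le_iff haG aQ]
    have e1 : alpha n pG = alpha n (PP HP (sat hvl S) - PP HP A) := by
      rw [alpha_sub, h2, hP, alpha_add]
      ring
    have e2 : alpha (n - 1) pG ≤ alpha (n - 1) (PP HP (sat hvl S) - PP HP A) := by
      rw [alpha_sub]
      have : alpha (n - 1) (PP HP S) = alpha (n - 1) (PP HP A) + alpha (n - 1) pG := by
        rw [hP, alpha_add]
      linarith
    rw [e1]
    have := mul_le_mul_of_nonneg_left e2 aQ.le
    linarith

/-- a pure slope-semistable factor gives the lattice conditions on `[A, B]` -/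
theorem lattice_of_mu {F : C} {n : ℕ} (hn : 1 ≤ n) {A B : Subobject F} (h : A ≤ B)
    (okA : ok (A : C)) (okB : ok (B : C))
    (pureQ : Pure ok sdim (cokernel (Subobject.ofLE A B h)) n)
    (muQ : MuSS ok HP sdim (cokernel (Subobject.ofLE A B h)) n) :
    ∀ S : Subobject F, ok (S : C) → A < S → S ≤ B →
      alpha n (PP HP A) < alpha n (PP HP S) ∧
        alpha n (PP HP B - PP HP A) * alpha (n - 1) (PP HP S - PP HP A) ≤
          alpha n (PP HP S - PP HP A) * alpha (n - 1) (PP HP B - PP HP A) := by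
  intro S hS hAS hSB
  obtain ⟨okQ, nzQ, dimQ, -, hmu⟩ := muQ
  obtain ⟨-, hpQ⟩ := quot_ok_hp ax h okA okB
  have aQ := ax.alpha_pos n okQ hpQ dimQ
  obtain ⟨G, γ, hγ, okG, nzG, hpG⟩ := quot_of_sub ax hAS.le hSB okA hS hAS
  haveI := hγ
  have aG := ax.alpha_pos n okG hpG (pureQ G γ hγ okG nzG)
  constructor
  · rw [alpha_sub] at aG
    linarith
  · have := ax.sub_slope_le hn okQ nzQ pureQ hmu γ okG hpQ hpG
    unfold hatSlope at this
    rw [div_mul_eq_mul_div, le_div_iff₀ aQ] at this
    linarith

/-- **existence and uniqueness of the slope Harder-Narasimhan filtration** -/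
theorem existsUnique_muHN (axn : AxN ok HP)
    (hacc : ∀ {Q : C}, ok Q → WellFoundedGT {S : Subobject Q // ok (S : C)})
    (hbi : ∀ {A B : C}, ok A → ok B → ok (A ⊞ B)) {F : C} {n : ℕ} (hn : 1 ≤ n)
    (okF : ok F) (nzF : ¬ IsZero F) (pureF : Pure ok sdim F n) :
    ∃! s : LTSeries (Subobject F), IsMuHN ok HP sdim n s := by
  have hvl := vl ax axn hacc hbi okF nzF pureF
  have hpos := posAbove_bot ax axn okF pureF
  have dimF : sdim F = (n : WithBot ℕ∞) := pureF F (𝟙 F) inferInstance okF nzF
  letI := slLattice hvl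
  letI := slBounded hvl hpos
  have hsvl : SVL (fun _ : SL (Lam ok (E := F)) (PP HP (E := F)) n => True) (PT (Lam ok (E := F)) (PP HP (E := F)) n) n :=
    svl hvl hn hpos (fun hA hB h heq => hsub ax dimF hA hB h heq)
  obtain ⟨s', hs', huniq⟩ := hsvl.existsUnique_isHNChain (posAbove_bot_sl hvl hpos)
  have hcoe : StrictMono (fun A : SL (Lam ok (E := F)) (PP HP (E := F)) n => A.1) := fun a b h => h
  -- from chains of saturated subobjects to slope Harder-Narasimhan filtrations
  have T1 : ∀ t' : LTSeries (SL (Lam ok (E := F)) (PP HP (E := F)) n),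
      IsHNChain (fun _ => True) (PT (Lam ok (E := F)) (PP HP (E := F)) n) n t' →
        IsMuHN ok HP sdim n (t'.map (fun A => A.1) hcoe) := by
    rintro t' ⟨hhead, hlast, -, hstep, hdec⟩
    have hfac : ∀ i : Fin t'.length,
        Pure ok sdim (cokernel (Subobject.ofLE (t' i.castSucc).1 (t' i.succ).1
          (le_of_lt (t'.step i)))) n ∧
        MuSS ok HP sdim (cokernel (Subobject.ofLE (t' i.castSucc).1 (t' i.succ).1
          (le_of_lt (t'.step i)))) n := by
      intro i
      refine mu_of_lattice ax axn hacc hbi okF nzF pureF (t' i.castSucc).2 (t' i.succ).2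
        (t'.step i) ?_
      intro S hS h1 h2
      have := (hstep i ⟨S, hS⟩ trivial h1 h2).2
      exact (redLE_PT_iff hn _ _ _).1 this
    have hpoly : ∀ i : Fin t'.length, HP (cokernel (Subobject.ofLE (t' i.castSucc).1
        (t' i.succ).1 (le_of_lt (t'.step i))))
        (PP HP (t' i.succ).1 - PP HP (t' i.castSucc).1) := fun i =>
      (quot_ok_hp ax (le_of_lt (t'.step i)) (t' i.castSucc).2.1 (t' i.succ).2.1).2
    have hapos : ∀ i : Fin t'.length,
        0 < alpha n (PP HP (t' i.succ).1 - PP HP (t' i.castSucc).1) := by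
      intro i
      have := (t' i.castSucc).2.2 (t' i.succ).1 (t' i.succ).2.1 (t'.step i)
      rw [alpha_sub]
      linarith
    refine ⟨?_, ?_, hfac, ?_⟩
    · rw [LTSeries.head_map, hhead]
      rfl
    · rw [LTSeries.last_map, hlast]
      rfl
    · intro i j hij p q hp hq
      rw [ax.hp_unique hp (hpoly i), ax.hp_unique hq (hpoly j)]
      rw [hatSlope_lt_iff (hapos j) (hapos i)]
      have e : (t' j.castSucc) = (t' i.succ) := congrArg t' (Fin.ext (by simp [← hij]))
      have := hdec i j hij
      -- both differences are based at different points: use the truncated form directly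
      have h1 : RedLT n (topPart 1 n (PP HP (t' j.succ).1 - PP HP (t' j.castSucc).1))
          (topPart 1 n (PP HP (t' i.succ).1 - PP HP (t' i.castSucc).1)) := by
        rw [topPart_sub, topPart_sub]
        exact this
      exact (redLT_topPart_one_iff hn _ _).1 h1
  -- from slope Harder-Narasimhan filtrations to chains of saturated subobjects
  have T2 : ∀ t : LTSeries (Subobject F), IsMuHN ok HP sdim n t →
      ∃ t' : LTSeries (SL (Lam ok (E := F)) (PP HP (E := F)) n),
        IsHNChain (fun _ => True) (PT (Lam ok (E := F)) (PP HP (E := F)) n) n t' ∧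
          t'.map (fun A => A.1) hcoe = t := by
    rintro t ⟨hhead, hlast, hfac, hdec⟩
    have hok := JHUnique.ok_of_factors ax axn okF t hlast (fun i => (hfac i).2.1)
    have hlat : ∀ i : Fin t.length, ∀ S : Subobject F, ok (S : C) → t i.castSucc < S →
        S ≤ t i.succ →
        alpha n (PP HP (t i.castSucc)) < alpha n (PP HP S) ∧
          alpha n (PP HP (t i.succ) - PP HP (t i.castSucc)) *
              alpha (n - 1) (PP HP S - PP HP (t i.castSucc)) ≤
            alpha n (PP HP S - PP HP (t i.castSucc)) *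
              alpha (n - 1) (PP HP (t i.succ) - PP HP (t i.castSucc)) := fun i =>
      lattice_of_mu ax hn (le_of_lt (t.step i)) (hok _) (hok _) (hfac i).1 (hfac i).2
    have hsat : ∀ i : Fin (t.length + 1), SatL (Lam ok) (PP HP) n (t i) := by
      intro i
      induction i using Fin.reverseInduction with
      | last =>
        have : t (Fin.last t.length) = ⊤ := hlast
        rw [this]
        exact satL_top hvl
      | cast i ih =>
        exact ⟨hok _, posAbove_of_step hvl (hok _) ih
          (fun S hS h1 h2 => (hlat i S hS h1 h2).1) (le_of_lt (t.step i))⟩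
    have hpoly : ∀ i : Fin t.length, HP (factor t i)
        (PP HP (t i.succ) - PP HP (t i.castSucc)) := fun i =>
      (quot_ok_hp ax (le_of_lt (t.step i)) (hok _) (hok _)).2
    have hapos : ∀ i : Fin t.length,
        0 < alpha n (PP HP (t i.succ) - PP HP (t i.castSucc)) := by
      intro i
      have := (hsat i.castSucc).2 (t i.succ) (hok _) (t.step i)
      rw [alpha_sub]
      linarith
    refine ⟨⟨t.length, fun i => ⟨t i, hsat i⟩, fun i => t.step i⟩, ⟨?_, ?_, fun _ => trivial, ?_, ?_⟩,
      ?_⟩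
    · exact Subtype.ext hhead
    · exact Subtype.ext hlast
    · intro i S _ h1 h2
      obtain ⟨a1, a2⟩ := hlat i S.1 S.2.1 h1 h2
      refine ⟨?_, ?_⟩
      · show alpha n (topPart 1 n (PP HP (t i.castSucc))) < alpha n (topPart 1 n (PP HP S.1))
        rw [alpha_topPart, alpha_topPart]
        exact a1
      · exact (redLE_PT_iff hn _ _ _).2 a2
    · intro i j hij
      have h1 := hdec i j hij _ _ (hpoly i) (hpoly j)
      rw [hatSlope_lt_iff (hapos j) (hapos i)] at h1
      have h2 := (redLT_topPart_one_iff hn _ _).2 h1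
      rw [topPart_sub, topPart_sub] at h2
      exact h2
    · exact RelSeries.ext rfl (funext fun i => rfl)
  refine ⟨s'.map (fun A => A.1) hcoe, T1 s' hs', ?_⟩
  intro t ht
  obtain ⟨t', ht', rfl⟩ := T2 t ht
  rw [huniq t' ht']

end WithAx

end Groth.Agent.Lib.R2H7.MuHN
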