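import Mathlib

/-!
# The no-name lemma (Speiser / Galois descent for rational function fields)

Let `L / k` be a field extension, `K` an intermediate field, `G` a finite group of `k`-automorphisms
of `L` stabilising `K` and acting faithfully on it, and `y : Fin m → L` algebraically independent
over `K`, spanning a `G`-stable `K`-subspace, with `L = K(y)`.  Then `L^G` is purely transcendental
over `K ∩ L^G` on `m` generators.
-/

namespace Groth.Agent.Lib.R2H7.NoName

open MvPolynomial

section Speiser

variable {K L Γ : Type*} [Field K] [Field L] [Algebra K L] [Group Γ] [Fintype Γ]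
  [MulSemiringAction Γ L]

/-- Speiser's lemma: a `K`-subspace `W` of `L` stable under a finite group acting semilinearly
(faithfully on `K`) is spanned by its invariant vectors. -/
theorem speiser (r : Γ → K →+* K)
    (hr : ∀ g a, algebraMap K L (r g a) = g • algebraMap K L a)
    (hfaith : Function.Injective r)
    (W : Submodule K L) (hW : ∀ g : Γ, ∀ w ∈ W, g • w ∈ W) :
    Submodule.span K {w | w ∈ W ∧ ∀ g : Γ, g • w = w} = W := by
  apply le_antisymm
  · exact Submodule.span_le.mpr fun w hw => hw.1
  · intro w hwW
    by_contra hw
    obtain ⟨f, hfw, hfS⟩ := Submodule.exists_dual_map_eq_bot_of_notMem hw inferInstance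
    have hfS' : ∀ s ∈ Submodule.span K {w | w ∈ W ∧ ∀ g : Γ, g • w = w}, f s = 0 := by
      intro s hs
      have : f s ∈ (Submodule.span K {w | w ∈ W ∧ ∀ g : Γ, g • w = w}).map f :=
        Submodule.mem_map_of_mem hs
      rw [hfS] at this
      exact (Submodule.mem_bot K).mp this
    have hsm : ∀ (g : Γ) (a : K), g • (a • w) = (r g a) • (g • w) := by
      intro g a
      rw [Algebra.smul_def, Algebra.smul_def, smul_mul', hr]
    have htr : ∀ a : K, ∑ g : Γ, r g a * f (g • w) = 0 := by
      intro a
      have hmem : (∑ g : Γ, g • (a • w)) ∈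
          Submodule.span K {w | w ∈ W ∧ ∀ g : Γ, g • w = w} := by
        apply Submodule.subset_span
        refine ⟨W.sum_mem fun g _ => hW g _ (W.smul_mem a hwW), fun h => ?_⟩
        rw [Finset.smul_sum]
        simp only [smul_smul]
        exact Fintype.sum_equiv (Equiv.mulLeft h) _ _ (fun g => rfl)
      have h0 := hfS' _ hmem
      rw [map_sum] at h0
      rw [← h0]
      refine Finset.sum_congr rfl fun g _ => ?_
      rw [hsm, LinearMap.map_smul, smul_eq_mul]
    have hli : LinearIndependent K (fun g : Γ => ((r g : K →* K) : K → K)) := by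
      have := linearIndependent_monoidHom K K
      exact this.comp (fun g : Γ => (r g : K →* K))
        (fun g h hgh => hfaith (by ext a; exact DFunLike.congr_fun hgh a))
    have := Fintype.linearIndependent_iff.mp hli (fun g => f (g • w)) (by
      funext a
      simp only [Finset.sum_apply, Pi.smul_apply, smul_eq_mul, Pi.zero_apply]
      rw [← htr a]
      refine Finset.sum_congr rfl fun g _ => mul_comm _ _) 1
    rw [one_smul] at this
    exact hfw this

end Speiser

section LinAlg

/-- From a spanning set `I` of the span of a linearly independent family `y : Fin m → V`,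
extract a basis `t : Fin m → V` consisting of elements of `I`. -/
theorem exists_basis_subset {K V : Type*} [Field K] [AddCommGroup V] [Module K V] {m : ℕ}
    (y : Fin m → V) (hy : LinearIndependent K y) (I : Set V)
    (hI : Submodule.span K I = Submodule.span K (Set.range y)) :
    ∃ t : Fin m → V, (∀ j, t j ∈ I) ∧ LinearIndependent K t ∧
      Submodule.span K (Set.range t) = Submodule.span K (Set.range y) := by
  obtain ⟨b, hbI, hbspan, hbli⟩ := exists_linearIndependent K I
  have heq : Submodule.span K (Set.range (Subtype.val : b → V)) =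
      Submodule.span K (Set.range y) := by
    rw [Subtype.range_coe, hbspan, hI]
  let B1 : Module.Basis b K (Submodule.span K (Set.range y)) :=
    (Module.Basis.span hbli).map (LinearEquiv.ofEq _ _ heq)
  let B2 : Module.Basis (Fin m) K (Submodule.span K (Set.range y)) := Module.Basis.span hy
  let e : Fin m ≃ b := B2.indexEquiv B1
  refine ⟨fun j => (e j : V), fun j => hbI (e j).2, hbli.comp e e.injective, ?_⟩
  rw [← heq]
  congr 1
  ext v
  constructor
  · rintro ⟨j, rfl⟩
    exact ⟨e j, rfl⟩
  · rintro ⟨x, rfl⟩
    exact ⟨e.symm x, by simp⟩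

/-- If `t` and `y` span the same `K`-subspace of `L` and `y` is algebraically independent over `K`,
so is `t`, and they generate the same subalgebra. -/
theorem algebraicIndependent_of_span_eq {K L : Type*} [Field K] [Field L] [Algebra K L] {m : ℕ}
    (y t : Fin m → L) (hy : AlgebraicIndependent K y)
    (hspan : Submodule.span K (Set.range t) = Submodule.span K (Set.range y)) :
    AlgebraicIndependent K t ∧ Algebra.adjoin K (Set.range t) = Algebra.adjoin K (Set.range y) := by
  have hta : ∀ j, ∃ c : Fin m → K, ∑ i, c i • y i = t j := fun j =>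
    (Submodule.mem_span_range_iff_exists_fun K).mp
      (hspan ▸ Submodule.subset_span (Set.mem_range_self j))
  have hyb : ∀ i, ∃ c : Fin m → K, ∑ j, c j • t j = y i := fun i =>
    (Submodule.mem_span_range_iff_exists_fun K).mp
      (hspan.symm ▸ Submodule.subset_span (Set.mem_range_self i))
  choose a ha using hta
  choose b hb using hyb
  let A : Matrix (Fin m) (Fin m) K := Matrix.of a
  let B : Matrix (Fin m) (Fin m) K := Matrix.of b
  have hyl : LinearIndependent K y := hy.linearIndependent
  have hBAy : ∀ i, ∑ l, (B * A) i l • y l = y i := by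
    intro i
    conv_rhs => rw [← hb i]
    simp only [Matrix.mul_apply, Finset.sum_smul]
    rw [Finset.sum_comm]
    refine Finset.sum_congr rfl fun j _ => ?_
    rw [← ha j, Finset.smul_sum]
    refine Finset.sum_congr rfl fun l _ => ?_
    rw [smul_smul]
    rfl
  have hBA : B * A = 1 := by
    ext i l
    have := Fintype.linearIndependent_iff.mp hyl
      (fun l => (B * A) i l - (1 : Matrix (Fin m) (Fin m) K) i l) (by
        simp only [sub_smul, Finset.sum_sub_distrib, hBAy i, Matrix.one_apply, ite_smul,
          one_smul, zero_smul, Finset.sum_ite_eq, Finset.mem_univ, if_true, sub_self]) l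
    exact sub_eq_zero.mp this
  have hAB : A * B = 1 := mul_eq_one_comm.mp hBA
  let φ : MvPolynomial (Fin m) K →ₐ[K] MvPolynomial (Fin m) K :=
    aeval (fun j => ∑ i, C (a j i) * X i)
  let ψ : MvPolynomial (Fin m) K →ₐ[K] MvPolynomial (Fin m) K :=
    aeval (fun i => ∑ l, C (b i l) * X l)
  have h1 : (aeval y).comp φ = aeval t := by
    apply MvPolynomial.algHom_ext
    intro j
    simp only [φ, AlgHom.comp_apply, aeval_X, map_sum, map_mul, aeval_C]
    rw [← ha j]
    refine Finset.sum_congr rfl fun i _ => ?_
    rw [Algebra.smul_def]
  have h2 : ∀ p, ψ (φ p) = p := by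
    intro p
    have : ψ.comp φ = AlgHom.id K _ := by
      apply MvPolynomial.algHom_ext
      intro j
      simp only [φ, ψ, AlgHom.comp_apply, aeval_X, map_sum, map_mul, aeval_C, AlgHom.id_apply,
        algebraMap_eq]
      simp only [Finset.mul_sum]
      rw [Finset.sum_comm]
      have : ∀ l, ∑ i, C (a j i) * (C (b i l) * X l) =
          C ((A * B) j l) * (X l : MvPolynomial (Fin m) K) := by
        intro l
        rw [Matrix.mul_apply, map_sum, Finset.sum_mul]
        refine Finset.sum_congr rfl fun i _ => ?_
        rw [map_mul, mul_assoc]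
        rfl
      simp only [this, hAB, Matrix.one_apply]
      simp
    exact DFunLike.congr_fun this p
  constructor
  · rw [algebraicIndependent_iff_injective_aeval, ← h1]
    have hφ : Function.Injective φ := Function.LeftInverse.injective h2
    exact (algebraicIndependent_iff_injective_aeval.mp hy).comp hφ
  · apply le_antisymm
    · apply Algebra.adjoin_le
      rintro _ ⟨j, rfl⟩
      rw [← ha j]
      exact Subalgebra.sum_mem _ fun i _ =>
        Subalgebra.smul_mem _ (Algebra.subset_adjoin (Set.mem_range_self i)) _
    · apply Algebra.adjoin_le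
      rintro _ ⟨i, rfl⟩
      rw [← hb i]
      exact Subalgebra.sum_mem _ fun j _ =>
        Subalgebra.smul_mem _ (Algebra.subset_adjoin (Set.mem_range_self j)) _

end LinAlg

section Main

theorem smul_aeval {K L Γ : Type*} [Field K] [Field L] [Algebra K L] [Group Γ]
    [MulSemiringAction Γ L] (r : Γ → K →+* K)
    (hr : ∀ g a, algebraMap K L (r g a) = g • algebraMap K L a) {m : ℕ} (t : Fin m → L)
    (ht : ∀ (g : Γ) j, g • t j = t j) (g : Γ) (p : MvPolynomial (Fin m) K) :
    g • (aeval t p) = aeval t (MvPolynomial.map (r g) p) := by
  induction p using MvPolynomial.induction_on with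
  | C a => rw [aeval_C, map_C, aeval_C, hr]
  | add p q hp hq => rw [map_add, smul_add, hp, hq, map_add, map_add]
  | mul_X p j hp => rw [map_mul, smul_mul', hp, aeval_X, ht, map_mul, map_X, map_mul, aeval_X]

variable {k L : Type*} [Field k] [Field L] [Algebra k L]

theorem mem_fixedField_iff' (G : Subgroup (L ≃ₐ[k] L)) (x : L) :
    x ∈ IntermediateField.fixedField G ↔ ∀ g : G, g • x = x := Iff.rfl

/-- The no-name lemma, abstract form. -/
theorem noName (K : IntermediateField k L)
    (G : Subgroup (L ≃ₐ[k] L)) [Finite G] {m : ℕ} (y : Fin m → L)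
    (h1 : ∀ σ ∈ G, ∀ a ∈ K, σ a ∈ K)
    (h2 : ∀ σ ∈ G, (∀ a ∈ K, σ a = a) → σ = 1)
    (h3 : AlgebraicIndependent K y)
    (h4 : ∀ σ ∈ G, ∀ j, σ (y j) ∈ Submodule.span K (Set.range y))
    (h5 : ∀ u : L, ∃ P ∈ Algebra.adjoin K (Set.range y), ∃ Q ∈ Algebra.adjoin K (Set.range y),
      Q ≠ 0 ∧ u * Q = P) :
    ∃ t : Fin m → L, AlgebraicIndependent ↥(K ⊓ IntermediateField.fixedField G) t ∧
      IntermediateField.restrictScalars k (IntermediateField.adjoin
        ↥(K ⊓ IntermediateField.fixedField G) (Set.range t)) = IntermediateField.fixedField G := by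
  classical
  haveI : Fintype G := Fintype.ofFinite G
  -- restricted homs
  let r : G → K →+* K := fun σ =>
    RingHom.restrict (σ.1 : L →+* L) K K (fun a ha => h1 σ.1 σ.2 a ha)
  have hr : ∀ (g : G) (a : K), algebraMap K L (r g a) = g • algebraMap K L a := fun g a => rfl
  have hfaith : Function.Injective r := by
    intro σ τ hστ
    have h : (τ⁻¹ * σ : G) = 1 := by
      apply Subtype.ext
      apply h2 _ (τ⁻¹ * σ).2
      intro a ha
      have h' : σ.1 a = τ.1 a := congrArg (fun f : K →+* K => ((f ⟨a, ha⟩ : K) : L)) hστ
      show τ.1.symm (σ.1 a) = a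
      rw [h']
      exact τ.1.symm_apply_apply a
    exact (inv_mul_eq_one.mp h).symm
  -- W
  have hsm : ∀ (g : G) (a : K) (x : L), g • (a • x) = (r g a) • (g • x) := by
    intro g a x
    rw [Algebra.smul_def, Algebra.smul_def, smul_mul', hr]
  have hW : ∀ g : G, ∀ w ∈ Submodule.span K (Set.range y),
      g • w ∈ Submodule.span K (Set.range y) := by
    intro g w hw
    induction hw using Submodule.span_induction with
    | mem x hx => obtain ⟨j, rfl⟩ := hx; exact h4 g.1 g.2 j
    | zero => rw [smul_zero]; exact Submodule.zero_mem _
    | add x y _ _ hx hy => rw [smul_add]; exact Submodule.add_mem _ hx hy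
    | smul a x _ hx => rw [hsm]; exact Submodule.smul_mem _ _ hx
  have hsp := speiser r hr hfaith (Submodule.span K (Set.range y)) hW
  obtain ⟨t, htI, htli, htspan⟩ := exists_basis_subset y h3.linearIndependent _ hsp
  have htinv : ∀ (g : G) j, g • t j = t j := fun g j => (htI j).2 g
  obtain ⟨htai, htadj⟩ := algebraicIndependent_of_span_eq y t h3 htspan
  have hFle : K ⊓ IntermediateField.fixedField G ≤ IntermediateField.fixedField G := inf_le_right
  refine ⟨t, ?_, ?_⟩
  · letI : Algebra ↥(K ⊓ IntermediateField.fixedField G) K :=
      (IntermediateField.inclusion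
        (inf_le_left : K ⊓ IntermediateField.fixedField G ≤ K)).toRingHom.toAlgebra
    haveI : IsScalarTower ↥(K ⊓ IntermediateField.fixedField G) K L :=
      IsScalarTower.of_algebraMap_eq (fun x => rfl)
    exact htai.restrictScalars (RingHom.injective _)
  · apply le_antisymm
    · have hle : IntermediateField.adjoin ↥(K ⊓ IntermediateField.fixedField G) (Set.range t) ≤
          IntermediateField.extendScalars hFle := by
        rw [IntermediateField.adjoin_le_iff]
        rintro _ ⟨j, rfl⟩
        rw [SetLike.mem_coe, IntermediateField.mem_extendScalars]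
        exact (mem_fixedField_iff' G _).mpr (fun g => htinv g j)
      intro u hu
      rw [IntermediateField.mem_restrictScalars] at hu
      exact (IntermediateField.mem_extendScalars hFle).mp (hle hu)
    · -- invariant polynomials in `t` lie in `F(t)`
      have key : ∀ p : MvPolynomial (Fin m) K, (∀ g : G, g • aeval t p = aeval t p) →
          aeval t p ∈ IntermediateField.adjoin ↥(K ⊓ IntermediateField.fixedField G)
            (Set.range t) := by
        intro p hp
        have hmap : ∀ g : G, MvPolynomial.map (r g) p = p := by
          intro g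
          apply (algebraicIndependent_iff_injective_aeval.mp htai)
          rw [← smul_aeval r hr t htinv, hp g]
        have hcoef : ∀ (g : G) (d : Fin m →₀ ℕ), r g (coeff d p) = coeff d p := by
          intro g d
          have := congrArg (coeff d) (hmap g)
          rwa [coeff_map] at this
        have hcF : ∀ d : Fin m →₀ ℕ, ((coeff d p : K) : L) ∈ K ⊓ IntermediateField.fixedField G := by
          intro d
          refine ⟨(coeff d p).2, ?_⟩
          refine (mem_fixedField_iff' G _).mpr fun g => ?_
          have := congrArg (fun c : K => (c : L)) (hcoef g d)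
          exact this
        rw [aeval_def, eval₂_eq]
        refine sum_mem fun d _ => mul_mem ?_ (prod_mem fun j _ => pow_mem ?_ _)
        · exact IntermediateField.algebraMap_mem _ (⟨_, hcF d⟩ : ↥(K ⊓ IntermediateField.fixedField G))
        · exact IntermediateField.subset_adjoin _ _ (Set.mem_range_self j)
      intro u hu
      rw [IntermediateField.mem_restrictScalars]
      have hu' : ∀ g : G, g • u = u := (mem_fixedField_iff' G u).mp hu
      obtain ⟨P, hP, Q, hQ, hQ0, huQ⟩ := h5 u
      rw [← htadj, Algebra.adjoin_range_eq_range_aeval] at hP hQ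
      obtain ⟨p, hp⟩ := hP
      obtain ⟨q, hq⟩ := hQ
      have hp' : aeval t p = P := hp
      have hq' : aeval t q = Q := hq
      subst hp' hq'
      -- the norm of the denominator
      have hN : ∏ g : G, g • (aeval t q) = aeval t (∏ g : G, MvPolynomial.map (r g) q) := by
        rw [map_prod]
        exact Finset.prod_congr rfl fun g _ => smul_aeval r hr t htinv g q
      have hNinv : ∀ h : G, h • (∏ g : G, g • (aeval t q)) = ∏ g : G, g • (aeval t q) := by
        intro h
        rw [Finset.smul_prod']
        simp only [smul_smul]
        exact Fintype.prod_equiv (Equiv.mulLeft h) _ _ (fun g => rfl)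
      have hN0 : ∏ g : G, g • (aeval t q) ≠ 0 := by
        rw [Finset.prod_ne_zero_iff]
        intro g _
        exact (smul_ne_zero_iff_ne g).mpr hQ0
      have huN : u * ∏ g : G, g • (aeval t q) =
          aeval t (p * ∏ g ∈ Finset.univ.erase (1 : G), MvPolynomial.map (r g) q) := by
        rw [← Finset.mul_prod_erase Finset.univ _ (Finset.mem_univ (1 : G)), one_smul, ← mul_assoc,
          huQ, map_mul, map_prod]
        congr 1
        exact Finset.prod_congr rfl fun g _ => smul_aeval r hr t htinv g q
      have huNinv : ∀ h : G, h • (u * ∏ g : G, g • (aeval t q)) = u * ∏ g : G, g • (aeval t q) := by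
        intro h
        rw [smul_mul', hu' h, hNinv h]
      have e1 := key _ (by rw [← hN]; exact hNinv)
      have e2 := key _ (by rw [← huN]; exact huNinv)
      rw [← hN] at e1
      rw [← huN] at e2
      have : u = (u * ∏ g : G, g • (aeval t q)) / ∏ g : G, g • (aeval t q) := by
        rw [mul_div_assoc, div_self hN0, mul_one]
      rw [this]
      exact div_mem e2 e1

end Main

end Groth.Agent.Lib.R2H7.NoName
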