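import Mathlib
import Groth.Prelude.Def_W4c2brnrinvarInvFld
import Groth.Agent.Lib.R2H7NoName

/-!
# The no-name lemma for rational function fields `k(x, y)` (S15697)
-/

namespace Groth.Agent.Lib.R2H7.NoNameFld

open MvPolynomial Groth.Agent.Lib.R2H7.NoName

universe u

variable (k : Type u) [Field k]

/-- The variables of a rational function field are algebraically independent. -/
theorem algebraicIndependent_X (σ : Type*) :
    AlgebraicIndependent k (fun s : σ => (InvFld.X s : InvFld.Fld σ k)) := by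
  have h := (MvPolynomial.algebraicIndependent_X σ k).map'
    (f := IsScalarTower.toAlgHom k (MvPolynomial σ k) (InvFld.Fld σ k))
    (IsFractionRing.injective (MvPolynomial σ k) (InvFld.Fld σ k))
  exact h

section

variable {k} {n m : ℕ}

/-- `K = k(x)` inside `k(x, y)`. -/
noncomputable abbrev Kx (k : Type u) [Field k] (n m : ℕ) :
    IntermediateField k (InvFld.Fld (Fin n ⊕ Fin m) k) :=
  IntermediateField.adjoin k
    (Set.range fun j : Fin n => (InvFld.X (Sum.inl j) : InvFld.Fld (Fin n ⊕ Fin m) k))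

open scoped IntermediateField.algebraAdjoinAdjoin in
theorem algebraicIndependent_ys :
    AlgebraicIndependent (Kx k n m)
      (fun j : Fin m => (InvFld.X (Sum.inr j) : InvFld.Fld (Fin n ⊕ Fin m) k)) := by
  have hxy := algebraicIndependent_X k (Fin n ⊕ Fin m)
  have hswap : AlgebraicIndependent k
      (Sum.elim (fun j : Fin m => (InvFld.X (Sum.inr j) : InvFld.Fld (Fin n ⊕ Fin m) k))
        (fun j : Fin n => (InvFld.X (Sum.inl j) : InvFld.Fld (Fin n ⊕ Fin m) k))) := by
    have := hxy.comp Sum.swap (Equiv.sumComm _ _).injective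
    convert this using 1
    funext s
    cases s <;> rfl
  have h := (AlgebraicIndependent.sumElim_iff.mp hswap).2
  exact h.extendScalars (Kx k n m)

theorem algebraMap_mem_adjoin (p : MvPolynomial (Fin n ⊕ Fin m) k) :
    algebraMap (MvPolynomial (Fin n ⊕ Fin m) k) (InvFld.Fld (Fin n ⊕ Fin m) k) p ∈
      Algebra.adjoin (Kx k n m)
        (Set.range fun j : Fin m => (InvFld.X (Sum.inr j) : InvFld.Fld (Fin n ⊕ Fin m) k)) := by
  induction p using MvPolynomial.induction_on with
  | C c =>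
    have : algebraMap (MvPolynomial (Fin n ⊕ Fin m) k) (InvFld.Fld (Fin n ⊕ Fin m) k) (C c) =
        algebraMap (Kx k n m) (InvFld.Fld (Fin n ⊕ Fin m) k) (algebraMap k (Kx k n m) c) := by
      rw [← IsScalarTower.algebraMap_apply, ← MvPolynomial.algebraMap_eq,
        ← IsScalarTower.algebraMap_apply]
    rw [this]
    exact Subalgebra.algebraMap_mem _ _
  | add p q hp hq => rw [map_add]; exact Subalgebra.add_mem _ hp hq
  | mul_X p s hp =>
    rw [map_mul]
    refine Subalgebra.mul_mem _ hp ?_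
    cases s with
    | inl i =>
      have hmem : (InvFld.X (Sum.inl i) : InvFld.Fld (Fin n ⊕ Fin m) k) ∈ Kx k n m :=
        IntermediateField.subset_adjoin _ _ (Set.mem_range_self i)
      exact Subalgebra.algebraMap_mem _ (⟨_, hmem⟩ : Kx k n m)
    | inr j => exact Algebra.subset_adjoin (Set.mem_range_self j)

theorem exists_quot (u : InvFld.Fld (Fin n ⊕ Fin m) k) :
    ∃ P ∈ Algebra.adjoin (Kx k n m)
        (Set.range fun j : Fin m => (InvFld.X (Sum.inr j) : InvFld.Fld (Fin n ⊕ Fin m) k)),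
      ∃ Q ∈ Algebra.adjoin (Kx k n m)
        (Set.range fun j : Fin m => (InvFld.X (Sum.inr j) : InvFld.Fld (Fin n ⊕ Fin m) k)),
      Q ≠ 0 ∧ u * Q = P := by
  obtain ⟨a, b, hb, hab⟩ := IsFractionRing.div_surjective (A := MvPolynomial (Fin n ⊕ Fin m) k) u
  have hb0 : algebraMap (MvPolynomial (Fin n ⊕ Fin m) k) (InvFld.Fld (Fin n ⊕ Fin m) k) b ≠ 0 :=
    IsFractionRing.to_map_ne_zero_of_mem_nonZeroDivisors hb
  refine ⟨_, algebraMap_mem_adjoin a, _, algebraMap_mem_adjoin b, hb0, ?_⟩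
  rw [← hab, div_mul_cancel₀ _ hb0]

/-- The no-name lemma for `k(x, y)`. -/
theorem main
    (G : Subgroup (InvFld.Fld (Fin n ⊕ Fin m) k ≃ₐ[k] InvFld.Fld (Fin n ⊕ Fin m) k)) [Finite G]
    (hx : ∀ σ ∈ G, ∀ i : Fin n, σ (InvFld.X (Sum.inl i)) ∈ Submodule.span k (Set.range fun j : Fin n => (InvFld.X (Sum.inl j) : InvFld.Fld (Fin n ⊕ Fin m) k)))
    (hy : ∀ σ ∈ G, ∀ i : Fin m, σ (InvFld.X (Sum.inr i)) ∈ Submodule.span k (Set.range fun j : Fin m => (InvFld.X (Sum.inr j) : InvFld.Fld (Fin n ⊕ Fin m) k)))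
    (hfaith : ∀ σ ∈ G, (∀ i : Fin n, σ (InvFld.X (Sum.inl i)) = InvFld.X (Sum.inl i)) → σ = 1) :
    ∃ t : Fin m → InvFld.Fld (Fin n ⊕ Fin m) k,
      AlgebraicIndependent (↥(IntermediateField.adjoin k (Set.range fun j : Fin n => (InvFld.X (Sum.inl j) : InvFld.Fld (Fin n ⊕ Fin m) k)) ⊓ IntermediateField.fixedField G)) t ∧
      IntermediateField.restrictScalars k (IntermediateField.adjoin (↥(IntermediateField.adjoin k (Set.range fun j : Fin n => (InvFld.X (Sum.inl j) : InvFld.Fld (Fin n ⊕ Fin m) k)) ⊓ IntermediateField.fixedField G)) (Set.range t)) =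
        IntermediateField.fixedField G := by
  have hxK : ∀ i : Fin n, (InvFld.X (Sum.inl i) : InvFld.Fld (Fin n ⊕ Fin m) k) ∈ Kx k n m :=
    fun i => IntermediateField.subset_adjoin _ _ (Set.mem_range_self i)
  have h1 : ∀ σ ∈ G, ∀ a ∈ Kx k n m, σ a ∈ Kx k n m := by
    intro σ hσ
    have hle : Kx k n m ≤ (Kx k n m).comap (σ : _ →ₐ[k] _) := by
      rw [IntermediateField.adjoin_le_iff]
      rintro _ ⟨i, rfl⟩
      show σ (InvFld.X (Sum.inl i)) ∈ Kx k n m
      have hsp : Submodule.span k (Set.range fun j : Fin n =>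
          (InvFld.X (Sum.inl j) : InvFld.Fld (Fin n ⊕ Fin m) k)) ≤
          (Kx k n m).toSubalgebra.toSubmodule := by
        rw [Submodule.span_le]
        rintro _ ⟨j, rfl⟩
        exact hxK j
      exact hsp (hx σ hσ i)
    exact fun a ha => hle ha
  refine noName (Kx k n m) G
    (fun j : Fin m => (InvFld.X (Sum.inr j) : InvFld.Fld (Fin n ⊕ Fin m) k)) h1 ?_
    algebraicIndependent_ys ?_ exists_quot
  · intro σ hσ hfix
    exact hfaith σ hσ fun i => hfix _ (hxK i)
  · intro σ hσ j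
    exact Submodule.span_subset_span k (Kx k n m) _ (hy σ hσ j)

end

end Groth.Agent.Lib.R2H7.NoNameFld
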