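import Mathlib
import Groth.Prelude.Def_W4c2brnrinvarInvFld
import Groth.Agent.Lib.R2H7NoName
import Groth.Agent.Lib.R2H7NoNameFld

/-!
# The no-name lemma for `k(x_i : i ∈ ι)` with a general splitting of the variables
-/

namespace Groth.Agent.Lib.R2H7.NoNameFldGen

open MvPolynomial Groth.Agent.Lib.R2H7.NoName Groth.Agent.Lib.R2H7.NoNameFld

universe u

variable {k : Type u} [Field k] {ι : Type*} {n m : ℕ} (a : Fin n → ι) (b : Fin m → ι)

/-- `K = k(x_{a j})` inside `k(x_i : i ∈ ι)`. -/
noncomputable abbrev Ka (k : Type u) [Field k] {ι : Type*} {n : ℕ} (a : Fin n → ι) :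
    IntermediateField k (InvFld.Fld ι k) :=
  IntermediateField.adjoin k (Set.range fun j : Fin n => (InvFld.X (a j) : InvFld.Fld ι k))

open scoped IntermediateField.algebraAdjoinAdjoin in
theorem algebraicIndependent_b (hab : Function.Bijective (Sum.elim a b)) :
    AlgebraicIndependent (Ka k a) (fun j : Fin m => (InvFld.X (b j) : InvFld.Fld ι k)) := by
  have hxy := algebraicIndependent_X k ι
  have hinj : Function.Injective (Sum.elim b a) := by
    have : Sum.elim b a = Sum.elim a b ∘ Sum.swap := by
      funext s; cases s <;> rfl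
    rw [this]
    exact hab.injective.comp (Equiv.sumComm _ _).injective
  have hswap : AlgebraicIndependent k
      (Sum.elim (fun j : Fin m => (InvFld.X (b j) : InvFld.Fld ι k))
        (fun j : Fin n => (InvFld.X (a j) : InvFld.Fld ι k))) := by
    have := hxy.comp (Sum.elim b a) hinj
    convert this using 1
    funext s
    cases s <;> rfl
  have h := (AlgebraicIndependent.sumElim_iff.mp hswap).2
  exact h.extendScalars (Ka k a)

theorem algebraMap_mem_adjoin (hab : Function.Bijective (Sum.elim a b)) (p : MvPolynomial ι k) :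
    algebraMap (MvPolynomial ι k) (InvFld.Fld ι k) p ∈
      Algebra.adjoin (Ka k a)
        (Set.range fun j : Fin m => (InvFld.X (b j) : InvFld.Fld ι k)) := by
  induction p using MvPolynomial.induction_on with
  | C c =>
    have : algebraMap (MvPolynomial ι k) (InvFld.Fld ι k) (C c) =
        algebraMap (Ka k a) (InvFld.Fld ι k) (algebraMap k (Ka k a) c) := by
      rw [← IsScalarTower.algebraMap_apply, ← MvPolynomial.algebraMap_eq,
        ← IsScalarTower.algebraMap_apply]
    rw [this]
    exact Subalgebra.algebraMap_mem _ _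
  | add p q hp hq => rw [map_add]; exact Subalgebra.add_mem _ hp hq
  | mul_X p s hp =>
    rw [map_mul]
    refine Subalgebra.mul_mem _ hp ?_
    obtain ⟨s', rfl⟩ := hab.surjective s
    cases s' with
    | inl i =>
      have hmem : (InvFld.X (a i) : InvFld.Fld ι k) ∈ Ka k a :=
        IntermediateField.subset_adjoin _ _ (Set.mem_range_self i)
      exact Subalgebra.algebraMap_mem _ (⟨_, hmem⟩ : Ka k a)
    | inr j => exact Algebra.subset_adjoin (Set.mem_range_self j)

theorem exists_quot (hab : Function.Bijective (Sum.elim a b)) (u : InvFld.Fld ι k) :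
    ∃ P ∈ Algebra.adjoin (Ka k a)
        (Set.range fun j : Fin m => (InvFld.X (b j) : InvFld.Fld ι k)),
      ∃ Q ∈ Algebra.adjoin (Ka k a)
        (Set.range fun j : Fin m => (InvFld.X (b j) : InvFld.Fld ι k)),
      Q ≠ 0 ∧ u * Q = P := by
  obtain ⟨p, q, hq, hpq⟩ := IsFractionRing.div_surjective (A := MvPolynomial ι k) u
  have hq0 : algebraMap (MvPolynomial ι k) (InvFld.Fld ι k) q ≠ 0 :=
    IsFractionRing.to_map_ne_zero_of_mem_nonZeroDivisors hq
  refine ⟨_, algebraMap_mem_adjoin a b hab p, _, algebraMap_mem_adjoin a b hab q, hq0, ?_⟩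
  rw [← hpq, div_mul_cancel₀ _ hq0]

/-- The no-name lemma for `k(x_i : i ∈ ι)` with the variables split as `a ⊔ b`. -/
theorem main (hab : Function.Bijective (Sum.elim a b))
    (G : Subgroup (InvFld.Fld ι k ≃ₐ[k] InvFld.Fld ι k)) [Finite G]
    (hx : ∀ σ ∈ G, ∀ i : Fin n, σ (InvFld.X (a i)) ∈
      Submodule.span k (Set.range fun j : Fin n => (InvFld.X (a j) : InvFld.Fld ι k)))
    (hy : ∀ σ ∈ G, ∀ i : Fin m, σ (InvFld.X (b i)) ∈
      Submodule.span k (Set.range fun j : Fin m => (InvFld.X (b j) : InvFld.Fld ι k)))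
    (hfaith : ∀ σ ∈ G, (∀ i : Fin n, σ (InvFld.X (a i)) = InvFld.X (a i)) → σ = 1) :
    ∃ t : Fin m → InvFld.Fld ι k,
      AlgebraicIndependent (↥(Ka k a ⊓ IntermediateField.fixedField G)) t ∧
      IntermediateField.restrictScalars k (IntermediateField.adjoin
        (↥(Ka k a ⊓ IntermediateField.fixedField G)) (Set.range t)) =
        IntermediateField.fixedField G := by
  have hxK : ∀ i : Fin n, (InvFld.X (a i) : InvFld.Fld ι k) ∈ Ka k a :=
    fun i => IntermediateField.subset_adjoin _ _ (Set.mem_range_self i)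
  have h1 : ∀ σ ∈ G, ∀ c ∈ Ka k a, σ c ∈ Ka k a := by
    intro σ hσ
    have hle : Ka k a ≤ (Ka k a).comap (σ : _ →ₐ[k] _) := by
      rw [IntermediateField.adjoin_le_iff]
      rintro _ ⟨i, rfl⟩
      show σ (InvFld.X (a i)) ∈ Ka k a
      have hsp : Submodule.span k (Set.range fun j : Fin n =>
          (InvFld.X (a j) : InvFld.Fld ι k)) ≤
          (Ka k a).toSubalgebra.toSubmodule := by
        rw [Submodule.span_le]
        rintro _ ⟨j, rfl⟩
        exact hxK j
      exact hsp (hx σ hσ i)
    exact fun c hc => hle hc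
  refine noName (Ka k a) G
    (fun j : Fin m => (InvFld.X (b j) : InvFld.Fld ι k)) h1 ?_
    (algebraicIndependent_b a b hab) ?_ (exists_quot a b hab)
  · intro σ hσ hfix
    exact hfaith σ hσ fun i => hfix _ (hxK i)
  · intro σ hσ j
    exact Submodule.span_subset_span k (Ka k a) _ (hy σ hσ j)

end Groth.Agent.Lib.R2H7.NoNameFldGen
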