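import Mathlib
import Groth.Prelude.Def_W4c2arithlefschetzNode
import Groth.Agent.Lib.R2H7NodeAlgFix

/-!
# The node algebra is regular of dimension two; automorphisms switching the branches

`N = B[[t,e]]/(te - π)` is a regular local ring with regular system of parameters `t, e`; for a unit
`α` the element `t - α e` is a prime element of order one not dividing `π`.
-/

set_option autoImplicit false
universe u

namespace Groth.Agent.Lib.R2H7.NodeAlgFix

open IsLocalRing MvPowerSeries Groth.Agent.Lib.Helper19 Groth.Agent.Lib.Helper5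
  Groth.Agent.Lib.R2H7.NodeAlgReg

section regular

variable {B : Type u} [CommRing B] [IsDomain B] [IsDiscreteValuationRing B]

theorem f_notMem_sq {π : B} (hπ : Irreducible π) :
    (X 0 * X 1 - C π : MvPowerSeries (Fin 2) B) ∉ maximalIdeal (MvPowerSeries (Fin 2) B) ^ 2 := by
  intro h
  exact toCotangent_f_ne_zero hπ ((Ideal.toCotangent_eq_zero _ _).mpr h)

theorem isRegularLocalRing_nodeAlg {π : B} (hπ : Irreducible π) :
    IsRegularLocalRing (ArLef.NodeAlg B π) ∧ ringKrullDim (ArLef.NodeAlg B π) = (2 : ℕ) := by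
  have := isLocalRing_nodeAlg hπ
  obtain ⟨h1, h2⟩ := isRegularLocalRing_quotient_span_singleton (f_mem hπ) (f_notMem_sq hπ)
  refine ⟨h1, ?_⟩
  rw [ringKrullDim_ps] at h2
  obtain ⟨n, hn⟩ := exists_nat_ringKrullDim_eq (ArLef.NodeAlg B π)
  change ringKrullDim (ArLef.NodeAlg B π) + 1 = _ at h2
  rw [hn] at h2 ⊢
  have h3 : n + 1 = 3 := by exact_mod_cast h2
  have h4 : n = 2 := by omega
  rw [h4]

theorem t_mem_maximalIdeal {π : B} (hπ : Irreducible π) [IsLocalRing (ArLef.NodeAlg B π)] :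
    ArLef.NodeAlg.t π ∈ maximalIdeal (ArLef.NodeAlg B π) := by
  rw [maximalIdeal_nodeAlg hπ]
  exact Ideal.subset_span (by simp)

theorem e_mem_maximalIdeal {π : B} (hπ : Irreducible π) [IsLocalRing (ArLef.NodeAlg B π)] :
    ArLef.NodeAlg.e π ∈ maximalIdeal (ArLef.NodeAlg B π) := by
  rw [maximalIdeal_nodeAlg hπ]
  exact Ideal.subset_span (by simp)

/-- The regular system of parameters `t, e` of the node algebra. -/
noncomputable def gensN {π : B} (hπ : Irreducible π) [IsLocalRing (ArLef.NodeAlg B π)] :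
    Fin 2 → maximalIdeal (ArLef.NodeAlg B π) :=
  ![⟨ArLef.NodeAlg.t π, t_mem_maximalIdeal hπ⟩, ⟨ArLef.NodeAlg.e π, e_mem_maximalIdeal hπ⟩]

theorem linearIndependent_gensN {π : B} (hπ : Irreducible π) [IsRegularLocalRing (ArLef.NodeAlg B π)] :
    LinearIndependent (ResidueField (ArLef.NodeAlg B π))
      (fun i => (maximalIdeal (ArLef.NodeAlg B π)).toCotangent (gensN hπ i)) := by
  apply linearIndependent_toCotangent_of_span_eq (isRegularLocalRing_nodeAlg hπ).2 (gensN hπ)
  refine Eq.trans ?_ (maximalIdeal_nodeAlg hπ).symm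
  congr 1
  ext g
  simp only [Set.mem_range, Set.mem_insert_iff, Set.mem_singleton_iff, gensN]
  constructor
  · rintro ⟨i, rfl⟩
    fin_cases i <;> simp
  · rintro (rfl | rfl)
    · exact ⟨0, rfl⟩
    · exact ⟨1, rfl⟩

/-- `t - a e` has order one for every `a`. -/
theorem t_sub_mul_e_notMem_sq {π : B} (hπ : Irreducible π) (a : ArLef.NodeAlg B π) :
    ArLef.NodeAlg.t π - a * ArLef.NodeAlg.e π ∉
      (Ideal.span ({ArLef.NodeAlg.t π, ArLef.NodeAlg.e π} : Set (ArLef.NodeAlg B π))) ^ 2 := by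
  have hreg := (isRegularLocalRing_nodeAlg hπ).1
  rw [← maximalIdeal_nodeAlg hπ]
  intro h
  have hmem : ArLef.NodeAlg.t π - a * ArLef.NodeAlg.e π ∈ maximalIdeal (ArLef.NodeAlg B π) :=
    Ideal.sub_mem _ (t_mem_maximalIdeal hπ) (Ideal.mul_mem_left _ _ (e_mem_maximalIdeal hπ))
  have h0 : (maximalIdeal (ArLef.NodeAlg B π)).toCotangent
      ⟨ArLef.NodeAlg.t π - a * ArLef.NodeAlg.e π, hmem⟩ = 0 :=
    (Ideal.toCotangent_eq_zero _ _).mpr h
  have h1 : (⟨ArLef.NodeAlg.t π - a * ArLef.NodeAlg.e π, hmem⟩ :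
      maximalIdeal (ArLef.NodeAlg B π)) = gensN hπ 0 - a • gensN hπ 1 := rfl
  rw [h1, map_sub, map_smul, sub_eq_zero] at h0
  have h2 := (linearIndependent_fin2.mp (linearIndependent_gensN hπ)).2
    (residue (ArLef.NodeAlg B π) a)
  apply h2
  rw [h0]
  exact (algebraMap_smul (ResidueField (ArLef.NodeAlg B π)) a _)

end regular

section switch

variable {B : Type u} [CommRing B] [IsDomain B] [IsDiscreteValuationRing B]

theorem t_sub_mul_e_mem {π : B} (hπ : Irreducible π) [IsLocalRing (ArLef.NodeAlg B π)]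
    (a : ArLef.NodeAlg B π) :
    ArLef.NodeAlg.t π - a * ArLef.NodeAlg.e π ∈ maximalIdeal (ArLef.NodeAlg B π) :=
  Ideal.sub_mem _ (t_mem_maximalIdeal hπ) (Ideal.mul_mem_left _ _ (e_mem_maximalIdeal hπ))

theorem isPrime_span_t_sub_mul_e {π : B} (hπ : Irreducible π) (a : ArLef.NodeAlg B π) :
    (Ideal.span {ArLef.NodeAlg.t π - a * ArLef.NodeAlg.e π}).IsPrime := by
  have hreg := (isRegularLocalRing_nodeAlg hπ).1
  have h := isPrime_span_range_of_linearIndependent
    (fun _ : Fin 1 => (⟨ArLef.NodeAlg.t π - a * ArLef.NodeAlg.e π, t_sub_mul_e_mem hπ a⟩ :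
      maximalIdeal (ArLef.NodeAlg B π)))
    (by
      rw [linearIndependent_unique_iff]
      intro h0
      apply t_sub_mul_e_notMem_sq hπ a
      rw [← maximalIdeal_nodeAlg hπ]
      exact (Ideal.toCotangent_eq_zero _ _).mp h0)
  rwa [Set.range_const] at h

theorem t_sub_mul_e_ne_zero {π : B} (hπ : Irreducible π) (a : ArLef.NodeAlg B π) :
    ArLef.NodeAlg.t π - a * ArLef.NodeAlg.e π ≠ 0 := by
  intro h
  apply t_sub_mul_e_notMem_sq hπ a
  rw [h]
  exact Ideal.zero_mem _

theorem prime_t_sub_mul_e {π : B} (hπ : Irreducible π) (a : ArLef.NodeAlg B π) :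
    Prime (ArLef.NodeAlg.t π - a * ArLef.NodeAlg.e π) :=
  (Ideal.span_singleton_prime (t_sub_mul_e_ne_zero hπ a)).mp (isPrime_span_t_sub_mul_e hπ a)

/-- `π = te` is not divisible by `t - α e` for a unit `α`. -/
theorem pi_notMem_span_t_sub_mul_e {π : B} (hπ : Irreducible π) (α : (ArLef.NodeAlg B π)ˣ) :
    algebraMap B (ArLef.NodeAlg B π) π ∉
      Ideal.span {ArLef.NodeAlg.t π - (α : ArLef.NodeAlg B π) * ArLef.NodeAlg.e π} := by
  have hdom := isDomain_nodeAlg hπ
  have hloc := isLocalRing_nodeAlg hπ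
  set h := ArLef.NodeAlg.t π - (α : ArLef.NodeAlg B π) * ArLef.NodeAlg.e π with hh
  have hprime := isPrime_span_t_sub_mul_e hπ (α : ArLef.NodeAlg B π)
  have hnu : ¬ IsUnit h := fun hu => by
    have := t_sub_mul_e_mem hπ (α : ArLef.NodeAlg B π)
    rw [mem_maximalIdeal, mem_nonunits_iff] at this
    exact this hu
  rw [← Groth.Agent.Lib.Helper22.nodeAlg_t_mul_e π]
  intro hmem
  rcases hprime.mem_or_mem hmem with h1 | h1
  · -- t ∈ (h)
    obtain ⟨c, hc⟩ := Ideal.mem_span_singleton'.mp h1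
    have hirr := (prime_t hπ).irreducible
    have hcu : IsUnit c := by
      rcases hirr.isUnit_or_isUnit hc.symm with hu | hu
      · exact hu
      · exact absurd hu hnu
    apply e_notMem_span_t hπ
    rw [Ideal.mem_span_singleton']
    obtain ⟨c', hc'⟩ := hcu.exists_left_inv
    refine ⟨(α⁻¹ : (ArLef.NodeAlg B π)ˣ) * (1 - c'), ?_⟩
    have h2 : h = c' * ArLef.NodeAlg.t π := by
      rw [← hc, ← mul_assoc, hc', one_mul]
    have h3 : ((α⁻¹ : (ArLef.NodeAlg B π)ˣ) : ArLef.NodeAlg B π) * (α : ArLef.NodeAlg B π) = 1 := by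
      rw [← Units.val_mul, inv_mul_cancel, Units.val_one]
    have h4 : (α : ArLef.NodeAlg B π) * ArLef.NodeAlg.e π = ArLef.NodeAlg.t π - h := by
      rw [hh]; ring
    calc ((α⁻¹ : (ArLef.NodeAlg B π)ˣ) : ArLef.NodeAlg B π) * (1 - c') * ArLef.NodeAlg.t π
        = ((α⁻¹ : (ArLef.NodeAlg B π)ˣ) : ArLef.NodeAlg B π) *
          (ArLef.NodeAlg.t π - c' * ArLef.NodeAlg.t π) := by ring
      _ = ((α⁻¹ : (ArLef.NodeAlg B π)ˣ) : ArLef.NodeAlg B π) *
          ((α : ArLef.NodeAlg B π) * ArLef.NodeAlg.e π) := by rw [← h2, h4]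
      _ = ArLef.NodeAlg.e π := by rw [← mul_assoc, h3, one_mul]
  · -- e ∈ (h)
    obtain ⟨c, hc⟩ := Ideal.mem_span_singleton'.mp h1
    have hirr := (prime_e hπ).irreducible
    have hcu : IsUnit c := by
      rcases hirr.isUnit_or_isUnit hc.symm with hu | hu
      · exact hu
      · exact absurd hu hnu
    apply t_notMem_span_e hπ
    rw [Ideal.mem_span_singleton']
    obtain ⟨c', hc'⟩ := hcu.exists_left_inv
    refine ⟨c' + (α : ArLef.NodeAlg B π), ?_⟩
    have h2 : h = c' * ArLef.NodeAlg.e π := by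
      rw [← hc, ← mul_assoc, hc', one_mul]
    rw [add_mul, ← h2, hh]
    ring

/-- S15318: a `B`-automorphism switching the branches has principal fixed-point ideal generated by
an element of order one, modulo which `π` is regular. -/
theorem fixIdeal_switch (π : B) (hπ : Irreducible π)
    (σ : ArLef.NodeAlg B π ≃ₐ[B] ArLef.NodeAlg B π)
    (ht : Associated (σ (ArLef.NodeAlg.t π)) (ArLef.NodeAlg.e π))
    (he : Associated (σ (ArLef.NodeAlg.e π)) (ArLef.NodeAlg.t π)) :
    ∃ h : ArLef.NodeAlg B π, ArLef.fixIdeal σ = Ideal.span {h} ∧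
      h ∉ (Ideal.span ({ArLef.NodeAlg.t π, ArLef.NodeAlg.e π} : Set (ArLef.NodeAlg B π))) ^ 2 ∧
      IsSMulRegular (ArLef.NodeAlg B π ⧸ Ideal.span ({h} : Set (ArLef.NodeAlg B π))) π := by
  have hdom := isDomain_nodeAlg hπ
  obtain ⟨α, hα⟩ := exists_unit_of_associated ht
  obtain ⟨β, hβ⟩ := exists_unit_of_associated he
  have hte := Groth.Agent.Lib.Helper22.nodeAlg_t_mul_e π
  have h1 : σ (ArLef.NodeAlg.t π) * σ (ArLef.NodeAlg.e π) =
      ArLef.NodeAlg.t π * ArLef.NodeAlg.e π := by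
    rw [← map_mul, hte, σ.commutes]
  have hαβ : (α : ArLef.NodeAlg B π) * β = 1 := by
    have h2 : ((α : ArLef.NodeAlg B π) * β) * (ArLef.NodeAlg.t π * ArLef.NodeAlg.e π) =
        1 * (ArLef.NodeAlg.t π * ArLef.NodeAlg.e π) := by
      have h3 := h1
      rw [hα, hβ] at h3
      linear_combination h3
    exact mul_right_cancel₀ (te_ne_zero hπ) h2
  set h := ArLef.NodeAlg.t π - (α : ArLef.NodeAlg B π) * ArLef.NodeAlg.e π with hh
  have hσt : σ (ArLef.NodeAlg.t π) - ArLef.NodeAlg.t π = -h := by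
    rw [hα, hh]; ring
  have hσe : σ (ArLef.NodeAlg.e π) - ArLef.NodeAlg.e π = (β : ArLef.NodeAlg B π) * h := by
    rw [hβ, hh]; linear_combination (ArLef.NodeAlg.e π) * hαβ
  refine ⟨h, ?_, t_sub_mul_e_notMem_sq hπ _, ?_⟩
  · apply le_antisymm
    · apply fixIdeal_le_nodeAlg hπ (σ : ArLef.NodeAlg B π ≃+* ArLef.NodeAlg B π)
      · intro b
        have : (σ : ArLef.NodeAlg B π ≃+* ArLef.NodeAlg B π)
            (algebraMap B (ArLef.NodeAlg B π) b) = algebraMap B (ArLef.NodeAlg B π) b :=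
          σ.commutes b
        rw [this, sub_self]
        exact Ideal.zero_mem _
      · change σ (ArLef.NodeAlg.t π) - ArLef.NodeAlg.t π ∈ _
        rw [hσt]
        exact neg_mem (Ideal.subset_span rfl)
      · change σ (ArLef.NodeAlg.e π) - ArLef.NodeAlg.e π ∈ _
        rw [hσe]
        exact Ideal.mul_mem_left _ _ (Ideal.subset_span rfl)
    · rw [Ideal.span_le]
      rintro x rfl
      have : h = -(σ (ArLef.NodeAlg.t π) - ArLef.NodeAlg.t π) := by rw [hσt, neg_neg]
      rw [this]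
      exact neg_mem (sub_mem_fixIdeal _ _)
  · have hprime := isPrime_span_t_sub_mul_e hπ (α : ArLef.NodeAlg B π)
    have hπn := pi_notMem_span_t_sub_mul_e hπ α
    intro x y hxy
    obtain ⟨a, rfl⟩ := Ideal.Quotient.mk_surjective x
    obtain ⟨b, rfl⟩ := Ideal.Quotient.mk_surjective y
    have h2 : Ideal.Quotient.mk (Ideal.span {h}) (π • a) =
        Ideal.Quotient.mk (Ideal.span {h}) (π • b) := hxy
    rw [Ideal.Quotient.eq, ← smul_sub] at h2
    have h2' : π • (a - b) = algebraMap B (ArLef.NodeAlg B π) π * (a - b) :=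
      Algebra.smul_def (R := B) (A := ArLef.NodeAlg B π) π (a - b)
    rw [h2'] at h2
    rw [Ideal.Quotient.eq]
    rcases hprime.mem_or_mem h2 with h3 | h3
    · exact absurd h3 hπn
    · exact h3

end switch

end Groth.Agent.Lib.R2H7.NodeAlgFix
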