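import Mathlib
import Groth.Prelude.Def_W4c2arithlefschetzNode
import Groth.Agent.Lib.R2H7NodeAlgSwitch
import Groth.Agent.Lib.R2H7NormLength
import Groth.Agent.Lib.Helper5HilbertRLR

/-!
# Branch-switching automorphisms of the node algebra over an automorphism of the base

For `σ` with `σ π = π + γ π^j` switching the branches, the fixed-point ideal is `(t - α e, e^(2j-1))`,
of colength `2j - 1`, and is contained in no proper principal ideal.
-/

set_option autoImplicit false
universe u

namespace Groth.Agent.Lib.R2H7.NodeAlgFix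

open IsLocalRing MvPowerSeries Groth.Agent.Lib.Helper19 Groth.Agent.Lib.Helper5
  Groth.Agent.Lib.R2H7.NodeAlgReg

variable {B : Type u} [CommRing B] [IsDomain B] [IsDiscreteValuationRing B]

theorem ofList_e_h_eq_maximalIdeal {π : B} (hπ : Irreducible π) [IsLocalRing (ArLef.NodeAlg B π)]
    (a : ArLef.NodeAlg B π) :
    Ideal.ofList [ArLef.NodeAlg.e π, ArLef.NodeAlg.t π - a * ArLef.NodeAlg.e π] =
      maximalIdeal (ArLef.NodeAlg B π) := by
  rw [maximalIdeal_nodeAlg hπ]
  apply le_antisymm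
  · rw [Ideal.span_le]
    intro x hx
    simp only [List.mem_cons, List.not_mem_nil, or_false, Set.mem_ofPred_eq] at hx
    rcases hx with rfl | rfl
    · exact Ideal.subset_span (by simp)
    · exact Ideal.sub_mem _ (Ideal.subset_span (by simp))
        (Ideal.mul_mem_left _ _ (Ideal.subset_span (by simp)))
  · rw [Ideal.span_le]
    rintro x (rfl | rfl)
    · have h1 : ArLef.NodeAlg.t π = (ArLef.NodeAlg.t π - a * ArLef.NodeAlg.e π) +
          a * ArLef.NodeAlg.e π := by ring
      rw [h1]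
      exact Ideal.add_mem _ (Ideal.subset_span (by simp))
        (Ideal.mul_mem_left _ _ (Ideal.subset_span (by simp)))
    · exact Ideal.subset_span (by simp)

theorem length_quotient_span_h_e_pow {π : B} (hπ : Irreducible π) (a : ArLef.NodeAlg B π) (n : ℕ) :
    Module.length (ArLef.NodeAlg B π) (ArLef.NodeAlg B π ⧸
      Ideal.span {ArLef.NodeAlg.t π - a * ArLef.NodeAlg.e π, ArLef.NodeAlg.e π ^ n}) = n := by
  have hreg := (isRegularLocalRing_nodeAlg hπ).1
  have hdim := (isRegularLocalRing_nodeAlg hπ).2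
  have key := Groth.Agent.Lib.R2H7.NormLength.length_prod_cons hdim
    [ArLef.NodeAlg.t π - a * ArLef.NodeAlg.e π] (by simp)
    (by
      intro x hx
      rw [List.mem_singleton] at hx
      rw [hx]
      exact t_sub_mul_e_mem hπ a)
    (List.replicate n (ArLef.NodeAlg.e π))
    (by
      intro f hf
      rw [List.eq_of_mem_replicate hf]
      exact e_mem_maximalIdeal hπ)
    (by
      intro f hf
      rw [List.eq_of_mem_replicate hf, ofList_e_h_eq_maximalIdeal hπ a]
      exact Ideal.le_radical)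
  rw [List.prod_replicate, List.map_replicate, List.sum_replicate, ofList_e_h_eq_maximalIdeal hπ a,
    Groth.Agent.Lib.Helper5.HilbertRLR.length_quotient_maximalIdeal, nsmul_eq_mul, mul_one] at key
  have hI : Ideal.span {ArLef.NodeAlg.t π - a * ArLef.NodeAlg.e π, ArLef.NodeAlg.e π ^ n} =
      Ideal.ofList [ArLef.NodeAlg.e π ^ n, ArLef.NodeAlg.t π - a * ArLef.NodeAlg.e π] := by
    rw [Ideal.ofList_cons, Ideal.ofList_singleton, ← Ideal.span_union, Set.union_comm]
    rfl
  rw [hI]
  exact key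

/-- S15320: branch-switching automorphism over an automorphism of `B` with `σ π = π + γ π^j`. -/
theorem fixIdeal_switch_tau (π : B) (hπ : Irreducible π) (j : ℕ) (hj : 1 ≤ j) (γ : B)
    (hγ : IsUnit γ) (σ : ArLef.NodeAlg B π ≃+* ArLef.NodeAlg B π)
    (hσB : ∀ b : B, σ (algebraMap B (ArLef.NodeAlg B π) b) - algebraMap B (ArLef.NodeAlg B π) b ∈
      Ideal.span ({algebraMap B (ArLef.NodeAlg B π) (π ^ j)} : Set (ArLef.NodeAlg B π)))
    (hσπ : σ (algebraMap B (ArLef.NodeAlg B π) π) =
      algebraMap B (ArLef.NodeAlg B π) (π + γ * π ^ j))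
    (ht : Associated (σ (ArLef.NodeAlg.t π)) (ArLef.NodeAlg.e π))
    (he : Associated (σ (ArLef.NodeAlg.e π)) (ArLef.NodeAlg.t π)) :
    (∀ g : ArLef.NodeAlg B π, ArLef.fixIdeal σ ≤ Ideal.span ({g} : Set (ArLef.NodeAlg B π)) →
        IsUnit g) ∧
      Module.length (ArLef.NodeAlg B π) (ArLef.NodeAlg B π ⧸ ArLef.fixIdeal σ) =
        ((2 * j - 1 : ℕ) : ℕ∞) := by
  have hdom := isDomain_nodeAlg hπ
  have hloc := isLocalRing_nodeAlg hπ
  obtain ⟨k, rfl⟩ : ∃ k, j = k + 1 := ⟨j - 1, by omega⟩
  obtain ⟨α, hα⟩ := exists_unit_of_associated ht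
  obtain ⟨β, hβ⟩ := exists_unit_of_associated he
  have hte : ArLef.NodeAlg.t π * ArLef.NodeAlg.e π = algebraMap B (ArLef.NodeAlg B π) π :=
    Groth.Agent.Lib.Helper22.nodeAlg_t_mul_e π
  generalize ht_def : ArLef.NodeAlg.t π = t at *
  generalize he_def : ArLef.NodeAlg.e π = e at *
  generalize hp_def : algebraMap B (ArLef.NodeAlg B π) π = p at *
  have hcu : IsUnit (algebraMap B (ArLef.NodeAlg B π) γ) := hγ.map _
  generalize hc_def : algebraMap B (ArLef.NodeAlg B π) γ = c at *
  have hσp : σ p = p + c * p ^ (k + 1) := by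
    rw [hσπ, map_add, map_mul, map_pow, hp_def, hc_def]
  have h1 : σ t * σ e = σ p := by rw [← map_mul, hte]
  have hp0 : p ≠ 0 := by
    rw [← hte, ← ht_def, ← he_def]
    exact te_ne_zero hπ
  have hαβ : (α : ArLef.NodeAlg B π) * β = 1 + c * p ^ k := by
    have h2 : ((α : ArLef.NodeAlg B π) * β) * p = (1 + c * p ^ k) * p := by
      have h3 := h1
      rw [hα, hβ, hσp] at h3
      linear_combination h3 - ((α : ArLef.NodeAlg B π) * β) * hte
    exact mul_right_cancel₀ hp0 h2
  have hprime : Prime (t - (α : ArLef.NodeAlg B π) * e) := by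
    rw [← ht_def, ← he_def]
    exact prime_t_sub_mul_e hπ _
  have hpn : p ∉ Ideal.span {t - (α : ArLef.NodeAlg B π) * e} := by
    rw [← ht_def, ← he_def, ← hp_def]
    exact pi_notMem_span_t_sub_mul_e hπ α
  have hlen : Module.length (ArLef.NodeAlg B π) (ArLef.NodeAlg B π ⧸
      Ideal.span {t - (α : ArLef.NodeAlg B π) * e, e ^ (2 * k + 1)}) = ((2 * k + 1 : ℕ) : ℕ∞) := by
    rw [← ht_def, ← he_def]
    exact length_quotient_span_h_e_pow hπ _ _
  generalize hh_def : t - (α : ArLef.NodeAlg B π) * e = h at *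
  have hσt : σ t - t = -h := by
    rw [hα, ← hh_def]; ring
  have hσe : σ e - e = (β : ArLef.NodeAlg B π) * h + c * (p ^ k * e) := by
    rw [hβ, ← hh_def]; linear_combination e * hαβ
  have hdvd : h ∣ p ^ k - ((α : ArLef.NodeAlg B π) * e ^ 2) ^ k := by
    have h2 := sub_dvd_pow_sub_pow p ((α : ArLef.NodeAlg B π) * e ^ 2) k
    have h3 : p - (α : ArLef.NodeAlg B π) * e ^ 2 = h * e := by
      rw [← hte, ← hh_def]; ring
    rw [h3] at h2
    exact (dvd_mul_right h e).trans h2
  obtain ⟨d, hd⟩ := hdvd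
  have hpke : p ^ k * e = h * (d * e) + (α : ArLef.NodeAlg B π) ^ k * e ^ (2 * k + 1) := by
    linear_combination e * hd
  have hαk : IsUnit ((α : ArLef.NodeAlg B π) ^ k) := (α.isUnit).pow k
  have hfix : ArLef.fixIdeal σ = Ideal.span {h, e ^ (2 * k + 1)} := by
    have hh_mem : h ∈ Ideal.span {h, e ^ (2 * k + 1)} := Ideal.subset_span (by simp)
    have he_mem : e ^ (2 * k + 1) ∈ Ideal.span {h, e ^ (2 * k + 1)} := Ideal.subset_span (by simp)
    have hpke_mem : p ^ k * e ∈ Ideal.span {h, e ^ (2 * k + 1)} := by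
      rw [hpke]
      exact Ideal.add_mem _ (Ideal.mul_mem_right _ _ hh_mem) (Ideal.mul_mem_left _ _ he_mem)
    apply le_antisymm
    · apply fixIdeal_le_nodeAlg hπ σ
      · intro b
        refine ((Ideal.span_singleton_le_iff_mem _).mpr ?_) (hσB b)
        rw [map_pow, hp_def]
        have h2 : p ^ (k + 1) = t * (p ^ k * e) := by
          rw [pow_succ, ← hte]; ring
        rw [h2]
        exact Ideal.mul_mem_left _ _ hpke_mem
      · rw [ht_def, hσt]
        exact neg_mem hh_mem
      · rw [he_def, hσe]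
        exact Ideal.add_mem _ (Ideal.mul_mem_left _ _ hh_mem) (Ideal.mul_mem_left _ _ hpke_mem)
    · rw [Ideal.span_le]
      have hh_in : h ∈ ArLef.fixIdeal σ := by
        have h2 : h = -(σ t - t) := by rw [hσt, neg_neg]
        rw [h2]
        exact neg_mem (sub_mem_fixIdeal _ _)
      rintro x (rfl | rfl)
      · exact hh_in
      · have h2 : c * (p ^ k * e) ∈ ArLef.fixIdeal σ := by
          have h3 : c * (p ^ k * e) = (σ e - e) - (β : ArLef.NodeAlg B π) * h := by
            rw [hσe]; ring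
          rw [h3]
          exact Ideal.sub_mem _ (sub_mem_fixIdeal _ _) (Ideal.mul_mem_left _ _ hh_in)
        have h4 : p ^ k * e ∈ ArLef.fixIdeal σ := (Ideal.unit_mul_mem_iff_mem _ hcu).mp h2
        have h5 : (α : ArLef.NodeAlg B π) ^ k * e ^ (2 * k + 1) ∈ ArLef.fixIdeal σ := by
          have h6 : (α : ArLef.NodeAlg B π) ^ k * e ^ (2 * k + 1) = p ^ k * e - h * (d * e) := by
            rw [hpke]; ring
          rw [h6]
          exact Ideal.sub_mem _ h4 (Ideal.mul_mem_right _ _ hh_in)
        exact (Ideal.unit_mul_mem_iff_mem _ hαk).mp h5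
  constructor
  · intro g hg
    by_contra hgu
    rw [hfix] at hg
    have hhg : h ∈ Ideal.span {g} := hg (Ideal.subset_span (by simp))
    obtain ⟨c', hc'⟩ := Ideal.mem_span_singleton'.mp hhg
    have hc'u : IsUnit c' := by
      rcases hprime.irreducible.isUnit_or_isUnit hc'.symm with hu | hu
      · exact hu
      · exact absurd hu hgu
    obtain ⟨c'', hc''⟩ := hc'u.exists_left_inv
    have hgh : h ∣ g := ⟨c'', by rw [← hc', mul_comm, ← mul_assoc, hc'', one_mul]⟩
    have hpk : p ^ (k + 1) ∈ Ideal.span {g} := by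
      apply hg
      have h2 : p ^ (k + 1) = t * (p ^ k * e) := by
        rw [pow_succ, ← hte]; ring
      rw [h2, hpke]
      exact Ideal.mul_mem_left _ _ (Ideal.add_mem _
        (Ideal.mul_mem_right _ _ (Ideal.subset_span (by simp)))
        (Ideal.mul_mem_left _ _ (Ideal.subset_span (by simp))))
    have h3 : h ∣ p ^ (k + 1) := hgh.trans (Ideal.mem_span_singleton.mp hpk)
    exact hpn (Ideal.mem_span_singleton.mpr (hprime.dvd_of_dvd_pow h3))
  · rw [hfix, hlen]
    congr 1

end Groth.Agent.Lib.R2H7.NodeAlgFix
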