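import Mathlib
import Groth.Prelude.Def_W4c2arithlefschetzNode
import Groth.Agent.Lib.R2H7NodeAlgSwitchLen
import Groth.Agent.S15315

/-!
# Branch-stabilizing automorphisms of the node algebra over an automorphism of the base

For `σ` with `σ π = π + γ π^j`, `σ t = α t`, `σ e = β e`, `t ∤ β - 1`, `e ∤ α - 1`, the fixed-point ideal
`((α-1)t, (β-1)e, π^j)` has colength `j (s₁ + s₂) + 1`.
-/

set_option autoImplicit false
universe u

namespace Groth.Agent.Lib.R2H7.NodeAlgFix

open IsLocalRing MvPowerSeries Groth.Agent.Lib.Helper19 Groth.Agent.Lib.Helper5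
  Groth.Agent.Lib.R2H7.NodeAlgReg

variable {B : Type u} [CommRing B] [IsDomain B] [IsDiscreteValuationRing B]

/-- In the two-dimensional local domain `N`, a prime strictly containing a non-zero prime is the
maximal ideal. -/
theorem maximalIdeal_le_of_lt {π : B} (hπ : Irreducible π) [IsLocalRing (ArLef.NodeAlg B π)]
    {Q P : Ideal (ArLef.NodeAlg B π)} [hQ' : Q.IsPrime] [hP' : P.IsPrime] (hQ : Q ≠ ⊥)
    (hQP : Q < P) : maximalIdeal (ArLef.NodeAlg B π) ≤ P := by
  have hdom := isDomain_nodeAlg hπ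
  have hdim := (isRegularLocalRing_nodeAlg hπ).2
  have h0 : (⊥ : Ideal (ArLef.NodeAlg B π)) < Q := bot_lt_iff_ne_bot.mpr hQ
  have h1 := Ideal.height_add_one_le_of_lt_of_isPrime h0
  have h2 := Ideal.height_add_one_le_of_lt_of_isPrime hQP
  have hPle : P ≤ maximalIdeal (ArLef.NodeAlg B π) := IsLocalRing.le_maximalIdeal hP'.ne_top
  by_contra hcon
  have hlt : P < maximalIdeal (ArLef.NodeAlg B π) :=
    lt_of_le_of_ne hPle (fun h => hcon (h ▸ le_rfl))
  have h3 := Ideal.height_add_one_le_of_lt_of_isPrime hlt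
  have h4 : ((maximalIdeal (ArLef.NodeAlg B π)).height : WithBot ℕ∞) = (2 : ℕ) := by
    rw [IsLocalRing.maximalIdeal_height_eq_ringKrullDim, hdim]
  have h5 : (maximalIdeal (ArLef.NodeAlg B π)).height = 2 := by
    have h4' : ((maximalIdeal (ArLef.NodeAlg B π)).height : WithBot ℕ∞) =
        ((2 : ℕ∞) : WithBot ℕ∞) := h4.trans rfl
    exact WithBot.coe_injective h4'
  rw [h5] at h3
  have h6 : (3 : ℕ∞) ≤ P.height + 1 := by
    calc (3 : ℕ∞) = 0 + 1 + 1 + 1 := by norm_num
      _ ≤ (⊥ : Ideal (ArLef.NodeAlg B π)).height + 1 + 1 + 1 := by gcongr; exact bot_le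
      _ ≤ Q.height + 1 + 1 := by gcongr
      _ ≤ P.height + 1 := by gcongr
  have h7 := h6.trans h3
  norm_num at h7

theorem le_radical_ofList_pair {π : B} (hπ : Irreducible π) [IsLocalRing (ArLef.NodeAlg B π)]
    {x a : ArLef.NodeAlg B π} (hx : Prime x) (hxa : ¬ x ∣ a) :
    maximalIdeal (ArLef.NodeAlg B π) ≤ (Ideal.ofList [x, a]).radical := by
  apply Groth.Agent.Lib.R2H7.NormLength.le_radical_of_forall_prime
  intro P hP hle
  have hQ : (Ideal.span {x}).IsPrime := (Ideal.span_singleton_prime hx.ne_zero).mpr hx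
  have hxP : x ∈ P := hle (Ideal.subset_span (by simp))
  have haP : a ∈ P := hle (Ideal.subset_span (by simp))
  refine maximalIdeal_le_of_lt hπ (Q := Ideal.span {x}) ?_ ?_
  · rw [Ne, Ideal.span_singleton_eq_bot]
    exact hx.ne_zero
  · refine lt_of_le_of_ne ((Ideal.span_singleton_le_iff_mem _).mpr hxP) ?_
    intro h
    rw [← h, Ideal.mem_span_singleton] at haP
    exact hxa haP

theorem ofList_pair_eq_span {A : Type u} [CommRing A] (x a : A) :
    Ideal.ofList [x, a] = Ideal.span {x, a} := by
  rw [Ideal.ofList_cons, Ideal.ofList_singleton, ← Ideal.span_union]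
  rfl

theorem isSMulRegular_quotient_of_prime {A : Type u} [CommRing A] {x y : A}
    (hx : (Ideal.span {x}).IsPrime) (hy : y ∉ Ideal.span {x}) :
    IsSMulRegular (A ⧸ Ideal.span ({x} : Set A)) y := by
  intro u v huv
  obtain ⟨a, rfl⟩ := Ideal.Quotient.mk_surjective u
  obtain ⟨b, rfl⟩ := Ideal.Quotient.mk_surjective v
  have h2 : Ideal.Quotient.mk (Ideal.span {x}) (y * a) =
      Ideal.Quotient.mk (Ideal.span {x}) (y * b) := huv
  rw [Ideal.Quotient.eq, ← mul_sub] at h2
  rw [Ideal.Quotient.eq]
  rcases hx.mem_or_mem h2 with h3 | h3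
  · exact absurd h3 hy
  · exact h3

/-- `length N/(x, e b) = 1 + length N/(x, b)` for `x = t`. -/
theorem length_quotient_t_mul_e {π : B} (hπ : Irreducible π) (b : ArLef.NodeAlg B π) :
    Module.length (ArLef.NodeAlg B π) (ArLef.NodeAlg B π ⧸
      (Ideal.span {ArLef.NodeAlg.e π} * Ideal.span {b} ⊔ Ideal.span {ArLef.NodeAlg.t π})) =
    1 + Module.length (ArLef.NodeAlg B π) (ArLef.NodeAlg B π ⧸
      Ideal.span {ArLef.NodeAlg.t π, b}) := by
  have hloc := isLocalRing_nodeAlg hπ
  have hreg : IsSMulRegular (ArLef.NodeAlg B π ⧸ Ideal.span ({ArLef.NodeAlg.t π} :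
      Set (ArLef.NodeAlg B π))) (ArLef.NodeAlg.e π) :=
    isSMulRegular_quotient_of_prime (isPrime_span_t hπ) (e_notMem_span_t hπ)
  have h1 := Groth.Agent.S15315.result (ArLef.NodeAlg B π) (ArLef.NodeAlg.e π)
    (ArLef.NodeAlg.t π) (Ideal.span {b}) hreg
  have h2 : Ideal.span ({ArLef.NodeAlg.e π, ArLef.NodeAlg.t π} : Set (ArLef.NodeAlg B π)) =
      maximalIdeal (ArLef.NodeAlg B π) := by
    rw [maximalIdeal_nodeAlg hπ, Set.pair_comm]
  have h3 : Ideal.span {b} ⊔ Ideal.span {ArLef.NodeAlg.t π} =
      Ideal.span {ArLef.NodeAlg.t π, b} := by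
    rw [sup_comm, ← Ideal.span_union]
    rfl
  rw [h2, h3, Groth.Agent.Lib.Helper5.HilbertRLR.length_quotient_maximalIdeal] at h1
  exact h1

theorem length_quotient_span_a_mul_pow {π : B} (hπ : Irreducible π) [IsLocalRing (ArLef.NodeAlg B π)]
    (a : ArLef.NodeAlg B π) (ha : a ∈ maximalIdeal (ArLef.NodeAlg B π)) (k : ℕ)
    (hea : ¬ ArLef.NodeAlg.e π ∣ a) (hta : k ≠ 0 → ¬ ArLef.NodeAlg.t π ∣ a) :
    Module.length (ArLef.NodeAlg B π) (ArLef.NodeAlg B π ⧸
      Ideal.span {a, ArLef.NodeAlg.t π ^ k * ArLef.NodeAlg.e π ^ (k + 1)}) =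
      (k : ℕ∞) * Module.length (ArLef.NodeAlg B π) (ArLef.NodeAlg B π ⧸
        Ideal.span {ArLef.NodeAlg.t π, a}) +
      ((k + 1 : ℕ) : ℕ∞) * Module.length (ArLef.NodeAlg B π) (ArLef.NodeAlg B π ⧸
        Ideal.span {ArLef.NodeAlg.e π, a}) := by
  have hreg := (isRegularLocalRing_nodeAlg hπ).1
  have hdim := (isRegularLocalRing_nodeAlg hπ).2
  have key := Groth.Agent.Lib.R2H7.NormLength.length_prod_cons hdim [a] (by simp)
    (by
      intro x hx
      rw [List.mem_singleton] at hx
      rw [hx]
      exact ha)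
    (List.replicate k (ArLef.NodeAlg.t π) ++ List.replicate (k + 1) (ArLef.NodeAlg.e π))
    (by
      intro f hf
      rcases List.mem_append.mp hf with hf | hf
      · rw [List.eq_of_mem_replicate hf]
        exact t_mem_maximalIdeal hπ
      · rw [List.eq_of_mem_replicate hf]
        exact e_mem_maximalIdeal hπ)
    (by
      intro f hf
      rcases List.mem_append.mp hf with hf | hf
      · have hk : k ≠ 0 := (List.mem_replicate.mp hf).1
        rw [List.eq_of_mem_replicate hf]
        exact le_radical_ofList_pair hπ (prime_t hπ) (hta hk)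
      · rw [List.eq_of_mem_replicate hf]
        exact le_radical_ofList_pair hπ (prime_e hπ) hea)
  rw [List.prod_append, List.prod_replicate, List.prod_replicate, List.map_append,
    List.map_replicate, List.map_replicate, List.sum_append, List.sum_replicate,
    List.sum_replicate, ofList_pair_eq_span, ofList_pair_eq_span, ofList_pair_eq_span,
    nsmul_eq_mul, nsmul_eq_mul] at key
  rw [Set.pair_comm]
  exact key

theorem length_quotient_eq_zero_of_isUnit_mem {A : Type u} [CommRing A] {I : Ideal A} {a : A}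
    (ha : IsUnit a) (haI : a ∈ I) : Module.length A (A ⧸ I) = 0 := by
  have : I = ⊤ := Ideal.eq_top_of_isUnit_mem I haI ha
  rw [this, Module.length_eq_zero_iff]
  exact Submodule.Quotient.subsingleton_iff.mpr (by simp)

/-- S15323. -/
theorem length_quot_fixIdeal_stab (π : B) (hπ : Irreducible π) (j : ℕ) (hj : 1 ≤ j) (γ : B)
    (hγ : IsUnit γ) (σ : ArLef.NodeAlg B π ≃+* ArLef.NodeAlg B π)
    (hσB : ∀ b : B, σ (algebraMap B (ArLef.NodeAlg B π) b) - algebraMap B (ArLef.NodeAlg B π) b ∈
      Ideal.span ({algebraMap B (ArLef.NodeAlg B π) (π ^ j)} : Set (ArLef.NodeAlg B π)))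
    (hσπ : σ (algebraMap B (ArLef.NodeAlg B π) π) =
      algebraMap B (ArLef.NodeAlg B π) (π + γ * π ^ j))
    (α β : (ArLef.NodeAlg B π)ˣ)
    (ht : σ (ArLef.NodeAlg.t π) = (α : ArLef.NodeAlg B π) * ArLef.NodeAlg.t π)
    (he : σ (ArLef.NodeAlg.e π) = (β : ArLef.NodeAlg B π) * ArLef.NodeAlg.e π)
    (htb : ¬ (ArLef.NodeAlg.t π ∣ (β : ArLef.NodeAlg B π) - 1))
    (hea : ¬ (ArLef.NodeAlg.e π ∣ (α : ArLef.NodeAlg B π) - 1)) :
    Module.length (ArLef.NodeAlg B π) (ArLef.NodeAlg B π ⧸ ArLef.fixIdeal σ) =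
      (j : ℕ∞) * (Module.length (ArLef.NodeAlg B π) (ArLef.NodeAlg B π ⧸
          Ideal.span ({ArLef.NodeAlg.t π, (β : ArLef.NodeAlg B π) - 1} :
            Set (ArLef.NodeAlg B π))) +
        Module.length (ArLef.NodeAlg B π) (ArLef.NodeAlg B π ⧸
          Ideal.span ({ArLef.NodeAlg.e π, (α : ArLef.NodeAlg B π) - 1} :
            Set (ArLef.NodeAlg B π)))) + 1 := by
  have hdom := isDomain_nodeAlg hπ
  have hloc := isLocalRing_nodeAlg hπ
  obtain ⟨k, rfl⟩ : ∃ k, j = k + 1 := ⟨j - 1, by omega⟩
  have hte : ArLef.NodeAlg.t π * ArLef.NodeAlg.e π = algebraMap B (ArLef.NodeAlg B π) π :=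
    Groth.Agent.Lib.Helper22.nodeAlg_t_mul_e π
  have htm := t_mem_maximalIdeal hπ
  have hem := e_mem_maximalIdeal hπ
  have hpt := prime_t hπ
  have hpe := prime_e hπ
  have hne := e_notMem_span_t hπ
  have hLte := length_quotient_t_mul_e hπ ((β : ArLef.NodeAlg B π) - 1)
  have hLa := fun (ha : (α : ArLef.NodeAlg B π) - 1 ∈ maximalIdeal (ArLef.NodeAlg B π)) =>
    length_quotient_span_a_mul_pow hπ ((α : ArLef.NodeAlg B π) - 1) ha k hea
  have hfixle := fixIdeal_le_nodeAlg hπ σ
  have hte0 := te_ne_zero hπ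
  generalize ArLef.NodeAlg.t π = t at *
  generalize ArLef.NodeAlg.e π = e at *
  have hcu : IsUnit (algebraMap B (ArLef.NodeAlg B π) γ) := hγ.map _
  have hσp : σ (algebraMap B (ArLef.NodeAlg B π) π) = algebraMap B (ArLef.NodeAlg B π) π +
      algebraMap B (ArLef.NodeAlg B π) γ * algebraMap B (ArLef.NodeAlg B π) π ^ (k + 1) := by
    rw [hσπ, map_add, map_mul, map_pow]
  have hσB' : ∀ b : B, σ (algebraMap B (ArLef.NodeAlg B π) b) -
      algebraMap B (ArLef.NodeAlg B π) b ∈
      Ideal.span ({algebraMap B (ArLef.NodeAlg B π) π ^ (k + 1)} : Set (ArLef.NodeAlg B π)) := by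
    intro b
    rw [← map_pow]
    exact hσB b
  generalize algebraMap B (ArLef.NodeAlg B π) γ = c at *
  generalize algebraMap B (ArLef.NodeAlg B π) π = p at *
  clear hσB hσπ
  have h1 : σ t * σ e = σ p := by rw [← map_mul, hte]
  have hαβ : (α : ArLef.NodeAlg B π) * β = 1 + c * p ^ k := by
    have h2 : ((α : ArLef.NodeAlg B π) * β) * p = (1 + c * p ^ k) * p := by
      have h3 := h1
      rw [ht, he, hσp] at h3
      linear_combination h3 - ((α : ArLef.NodeAlg B π) * β) * hte
    rw [← hte] at h2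
    rw [← hte]
    exact mul_right_cancel₀ hte0 h2
  generalize ha_def : (α : ArLef.NodeAlg B π) - 1 = a at *
  generalize hb_def : (β : ArLef.NodeAlg B π) - 1 = b at *
  have hα_eq : (α : ArLef.NodeAlg B π) = 1 + a := by rw [← ha_def]; ring
  have hβ_eq : (β : ArLef.NodeAlg B π) = 1 + b := by rw [← hb_def]; ring
  have hR : a + b + a * b = c * p ^ k := by
    rw [hα_eq, hβ_eq] at hαβ
    linear_combination hαβ
  have hσt : σ t - t = a * t := by rw [ht, hα_eq]; ring
  have hσe : σ e - e = b * e := by rw [he, hβ_eq]; ring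
  have hpk : p ^ (k + 1) = t ^ (k + 1) * e ^ (k + 1) := by rw [← hte, mul_pow]
  -- the fixed-point ideal
  have hfix : ArLef.fixIdeal σ = Ideal.span {a * t, b * e, p ^ (k + 1)} := by
    apply le_antisymm
    · apply hfixle
      · intro b'
        refine ((Ideal.span_singleton_le_iff_mem _).mpr ?_) (hσB' b')
        exact Ideal.subset_span (by simp)
      · rw [hσt]
        exact Ideal.subset_span (by simp)
      · rw [hσe]
        exact Ideal.subset_span (by simp)
    · rw [Ideal.span_le]
      rintro x (rfl | rfl | rfl)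
      · rw [← hσt]
        exact sub_mem_fixIdeal _ _
      · rw [← hσe]
        exact sub_mem_fixIdeal _ _
      · have h2 : c * p ^ (k + 1) ∈ ArLef.fixIdeal σ := by
          have h3 : c * p ^ (k + 1) = σ p - p := by rw [hσp]; ring
          rw [h3]
          exact sub_mem_fixIdeal _ _
        exact (Ideal.unit_mul_mem_iff_mem _ hcu).mp h2
  -- the colon ideal
  have hbe : b * e = c * (t ^ k * e ^ (k + 1)) - a * ((1 + b) * e) := by
    have h2 : p ^ k = t ^ k * e ^ k := by rw [← hte, mul_pow]
    rw [h2] at hR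
    linear_combination e * hR
  have hcolon := Groth.Agent.Lib.Helper5.HilbertRLR.length_eq_add_of_colon
    (Ideal.span {a, t ^ k * e ^ (k + 1)}) (Ideal.span {a * t, b * e, p ^ (k + 1)}) t
    (by
      intro y hy
      obtain ⟨u, v, rfl⟩ := Ideal.mem_span_pair.mp hy
      have h2 : t * (u * a + v * (t ^ k * e ^ (k + 1))) = u * (a * t) + v * p ^ (k + 1) := by
        rw [hpk]; ring
      rw [h2]
      exact Ideal.add_mem _ (Ideal.mul_mem_left _ _ (Ideal.subset_span (by simp)))
        (Ideal.mul_mem_left _ _ (Ideal.subset_span (by simp))))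
    (by
      intro y hy
      obtain ⟨u, z, hz, hy⟩ := Ideal.mem_span_insert.mp hy
      obtain ⟨v, w, rfl⟩ := Ideal.mem_span_pair.mp hz
      have h2 : t * (y - u * a - w * (t ^ k * e ^ (k + 1))) = v * (b * e) := by
        rw [hpk] at hy
        linear_combination hy
      have h3 : t ∣ v * (b * e) := ⟨_, h2.symm⟩
      have h4 : t ∣ v := by
        rcases hpt.dvd_or_dvd h3 with h | h
        · exact h
        · rcases hpt.dvd_or_dvd h with h | h
          · exact absurd h htb
          · exact absurd (Ideal.mem_span_singleton.mpr h) hne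
      obtain ⟨v', rfl⟩ := h4
      have h5 : y - u * a - w * (t ^ k * e ^ (k + 1)) = v' * (b * e) := by
        apply mul_left_cancel₀ hpt.ne_zero
        rw [h2]; ring
      have h6 : y = u * a + w * (t ^ k * e ^ (k + 1)) + v' * (b * e) := by
        rw [← h5]; ring
      rw [h6, hbe]
      refine Ideal.add_mem _ (Ideal.add_mem _ (Ideal.mul_mem_left _ _ (Ideal.subset_span (by simp)))
        (Ideal.mul_mem_left _ _ (Ideal.subset_span (by simp)))) (Ideal.mul_mem_left _ _ ?_)
      exact Ideal.sub_mem _ (Ideal.mul_mem_left _ _ (Ideal.subset_span (by simp)))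
        (Ideal.mul_mem_right _ _ (Ideal.subset_span (by simp))))
  have hsup : Ideal.span {a * t, b * e, p ^ (k + 1)} ⊔ Ideal.span {t} =
      Ideal.span {e} * Ideal.span {b} ⊔ Ideal.span {t} := by
    apply le_antisymm
    · refine sup_le ?_ le_sup_right
      rw [Ideal.span_le]
      rintro x (rfl | rfl | rfl)
      · exact Ideal.mem_sup_right (Ideal.mul_mem_left _ _ (Ideal.subset_span rfl))
      · refine Ideal.mem_sup_left ?_
        rw [mul_comm b e]
        exact Ideal.mul_mem_mul (Ideal.subset_span rfl) (Ideal.subset_span rfl)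
      · refine Ideal.mem_sup_right ?_
        rw [hpk, pow_succ, mul_assoc]
        exact Ideal.mul_mem_left _ _ (Ideal.mul_mem_right _ _ (Ideal.subset_span rfl))
    · refine sup_le ?_ le_sup_right
      rw [Ideal.span_singleton_mul_span_singleton, Ideal.span_singleton_le_iff_mem]
      refine Ideal.mem_sup_left ?_
      rw [mul_comm e b]
      exact Ideal.subset_span (by simp)
  rw [hfix, hcolon, hsup, hLte]
  by_cases hau : IsUnit a
  · -- `a` a unit
    rw [length_quotient_eq_zero_of_isUnit_mem hau (Ideal.subset_span (by simp)),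
      length_quotient_eq_zero_of_isUnit_mem (I := Ideal.span {e, a}) hau
        (Ideal.subset_span (by simp))]
    rcases Nat.eq_zero_or_pos k with rfl | hk
    · simp
      ring
    · have hbu : IsUnit b := by
        have h2 : b * (1 + a) = c * p ^ k - a := by linear_combination hR
        have hpm : p ∈ maximalIdeal (ArLef.NodeAlg B π) := by
          rw [← hte]
          exact Ideal.mul_mem_right _ _ htm
        have h3 : IsUnit (c * p ^ k - a) := by
          by_contra hnu
          have h4 : c * p ^ k - a ∈ maximalIdeal (ArLef.NodeAlg B π) := hnu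
          have h5 : c * p ^ k ∈ maximalIdeal (ArLef.NodeAlg B π) :=
            Ideal.mul_mem_left _ _ (Ideal.pow_mem_of_mem _ hpm k hk)
          have h6 : a ∈ maximalIdeal (ArLef.NodeAlg B π) := by
            have := Ideal.sub_mem _ h5 h4
            rwa [sub_sub_cancel] at this
          exact h6 hau
        rw [← h2] at h3
        exact isUnit_of_mul_isUnit_left h3
      rw [length_quotient_eq_zero_of_isUnit_mem (I := Ideal.span {t, b}) hbu
        (Ideal.subset_span (by simp))]
      simp
  · have ham : a ∈ maximalIdeal (ArLef.NodeAlg B π) := hau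
    rcases Nat.eq_zero_or_pos k with rfl | hk
    · rw [hLa ham (fun h => absurd rfl h)]
      simp
      ring
    · have hbα : b * (1 + a) = c * p ^ k - a := by linear_combination hR
      have hpk' : p ^ k = t * (t ^ (k - 1) * e ^ k) := by
        rw [← hte, mul_pow]
        obtain ⟨k', rfl⟩ : ∃ k', k = k' + 1 := ⟨k - 1, by omega⟩
        rw [Nat.add_sub_cancel, pow_succ]
        ring
      have hαu : IsUnit (1 + a) := by rw [← hα_eq]; exact α.isUnit
      have hta : ¬ t ∣ a := by
        intro hdvd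
        apply htb
        have h2 : t ∣ b * (1 + a) := by
          rw [hbα, hpk']
          exact dvd_sub ⟨c * (t ^ (k - 1) * e ^ k), by ring⟩ hdvd
        rcases hpt.dvd_or_dvd h2 with h | h
        · exact h
        · exact absurd (isUnit_of_dvd_unit h hαu) hpt.not_isUnit
      have hspan : Ideal.span {t, b} = Ideal.span {t, a} := by
        obtain ⟨w, hw⟩ := hαu.exists_left_inv
        apply le_antisymm
        · rw [Ideal.span_le]
          rintro x (rfl | rfl)
          · exact Ideal.subset_span (by simp)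
          · have h2 : x = w * (c * p ^ k - a) := by
              rw [← hbα]
              linear_combination (-x) * hw
            rw [h2, hpk']
            refine Ideal.mul_mem_left _ _ (Ideal.sub_mem _ ?_ (Ideal.subset_span (by simp)))
            exact Ideal.mul_mem_left _ _ (Ideal.mul_mem_right _ _ (Ideal.subset_span (by simp)))
        · rw [Ideal.span_le]
          rintro x (rfl | rfl)
          · exact Ideal.subset_span (by simp)
          · have h2 : x = c * p ^ k - b * (1 + x) := by rw [hbα]; ring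
            rw [h2, hpk']
            refine Ideal.sub_mem _ ?_ (Ideal.mul_mem_right _ _ (Ideal.subset_span (by simp)))
            exact Ideal.mul_mem_left _ _ (Ideal.mul_mem_right _ _ (Ideal.subset_span (by simp)))
      rw [hLa ham (fun _ => hta), hspan]
      push_cast
      ring

end Groth.Agent.Lib.R2H7.NodeAlgFix
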