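/-
Successive approximation for node-type deformations, in abstract form: in a complete ring `E` over a
complete ring `Λ`, elements `u, v` with `u v ∈ 𝔪 E` such that `E = ι(Λ) + u E + v E` can be moved
modulo `𝔪 E` to `u', v'` with `u' v' = ι(α)`, `α ∈ 𝔪`.
-/
import Mathlib

set_option autoImplicit false

namespace Groth.Agent.Lib.R2H7.NodeApprox

section limits

variable {R : Type*} [CommRing R] (I : Ideal R)

theorem sub_mem_of_succ (f : ℕ → R) (h : ∀ n, f (n + 1) - f n ∈ I ^ n) {m n : ℕ} (hmn : m ≤ n) :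
    f n - f m ∈ I ^ m := by
  induction n, hmn using Nat.le_induction with
  | base =>
    rw [sub_self]
    exact Ideal.zero_mem _
  | succ n hmn ih =>
    have e : f (n + 1) - f m = (f (n + 1) - f n) + (f n - f m) := by ring
    rw [e]
    exact Ideal.add_mem _ (Ideal.pow_le_pow_right hmn (h n)) ih

theorem smodEq_iff (n : ℕ) (x y : R) :
    x ≡ y [SMOD (I ^ n • ⊤ : Submodule R R)] ↔ x - y ∈ I ^ n := by
  rw [SModEq.sub_mem, smul_eq_mul, Ideal.mul_top]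

theorem exists_limit [IsPrecomplete I R] (f : ℕ → R) (h : ∀ n, f (n + 1) - f n ∈ I ^ n) :
    ∃ L : R, ∀ n, f n - L ∈ I ^ n := by
  obtain ⟨L, hL⟩ := IsPrecomplete.prec' (I := I) (M := R) f (by
    intro m n hmn
    rw [smodEq_iff, ← neg_sub]
    exact (Ideal.neg_mem_iff _).mpr (sub_mem_of_succ I f h hmn))
  exact ⟨L, fun n => (smodEq_iff I n _ _).mp (hL n)⟩

theorem eq_zero_of_forall_mem_pow [IsHausdorff I R] (x : R) (h : ∀ n, x ∈ I ^ n) : x = 0 := by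
  apply IsHausdorff.haus' (I := I) x
  intro n
  rw [smodEq_iff, sub_zero]
  exact h n

end limits

section main

variable {Λ E : Type*} [CommRing Λ] [CommRing E] (ι : Λ →+* E) (𝔪 : Ideal Λ) (𝔫 : Ideal E)
  (u v : E)

theorem decomp_pow (hdec : ∀ b : E, ∃ (a : Λ) (p q : E), b = ι a + u * p + v * q) (n : ℕ)
    (b : E) (hb : b ∈ (𝔪.map ι) ^ n) :
    ∃ (a : Λ) (p q : E), a ∈ 𝔪 ^ n ∧ p ∈ (𝔪.map ι) ^ n ∧ q ∈ (𝔪.map ι) ^ n ∧
      b = ι a + u * p + v * q := by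
  have hb' : b ∈ Ideal.span (ι '' ((𝔪 ^ n : Ideal Λ) : Set Λ)) := by
    rw [← Ideal.map_pow] at hb
    exact hb
  have hback : ∀ x, x ∈ Ideal.span (ι '' ((𝔪 ^ n : Ideal Λ) : Set Λ)) → x ∈ (𝔪.map ι) ^ n := by
    intro x hx
    rw [← Ideal.map_pow]
    exact hx
  refine Submodule.span_induction
    (p := fun b _ => ∃ (a : Λ) (p q : E), a ∈ 𝔪 ^ n ∧ p ∈ (𝔪.map ι) ^ n ∧ q ∈ (𝔪.map ι) ^ n ∧
      b = ι a + u * p + v * q) ?_ ?_ ?_ ?_ hb'
  · rintro x ⟨m, hm, rfl⟩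
    exact ⟨m, 0, 0, hm, Ideal.zero_mem _, Ideal.zero_mem _, by ring⟩
  · exact ⟨0, 0, 0, Ideal.zero_mem _, Ideal.zero_mem _, Ideal.zero_mem _, by rw [map_zero]; ring⟩
  · rintro x y _ _ ⟨a, p, q, ha, hp, hq, hx⟩ ⟨a', p', q', ha', hp', hq', hy⟩
    refine ⟨a + a', p + p', q + q', Ideal.add_mem _ ha ha', Ideal.add_mem _ hp hp',
      Ideal.add_mem _ hq hq', ?_⟩
    rw [hx, hy, map_add]
    ring
  · rintro r x hx ⟨a, p, q, ha, hp, hq, hxe⟩
    obtain ⟨ar, pr, qr, hr⟩ := hdec r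
    have hxmem := hback x hx
    refine ⟨ar * a, ι ar * p + pr * x, ι ar * q + qr * x, Ideal.mul_mem_left _ _ ha,
      Ideal.add_mem _ (Ideal.mul_mem_left _ _ hp) (Ideal.mul_mem_left _ _ hxmem),
      Ideal.add_mem _ (Ideal.mul_mem_left _ _ hq) (Ideal.mul_mem_left _ _ hxmem), ?_⟩
    rw [smul_eq_mul, map_mul]
    linear_combination x * hr + ι ar * hxe

variable [IsAdicComplete 𝔪 Λ] [IsAdicComplete 𝔫 E]

theorem exists_approx (h𝔞𝔫 : 𝔪.map ι ≤ 𝔫)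
    (hclosed : ∀ x : E, (∀ n, x ∈ 𝔪.map ι ⊔ 𝔫 ^ n) → x ∈ 𝔪.map ι)
    (hdec : ∀ b : E, ∃ (a : Λ) (p q : E), b = ι a + u * p + v * q)
    (huv : u * v ∈ 𝔪.map ι) :
    ∃ (α : Λ) (u' v' : E), α ∈ 𝔪 ∧ u' - u ∈ 𝔪.map ι ∧ v' - v ∈ 𝔪.map ι ∧ u' * v' = ι α := by
  classical
  set 𝔞 : Ideal E := 𝔪.map ι with h𝔞
  let good : ℕ → Λ × E × E → Prop := fun n s =>
    s.1 ∈ 𝔪 ∧ s.2.1 - u ∈ 𝔞 ∧ s.2.2 - v ∈ 𝔞 ∧ s.2.1 * s.2.2 - ι s.1 ∈ 𝔞 ^ (n + 1)
  let close : ℕ → Λ × E × E → Λ × E × E → Prop := fun n s s' =>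
    s'.1 - s.1 ∈ 𝔪 ^ (n + 1) ∧ s'.2.1 - s.2.1 ∈ 𝔞 ^ (n + 1) ∧ s'.2.2 - s.2.2 ∈ 𝔞 ^ (n + 1)
  have hle1 : ∀ n : ℕ, 𝔞 ^ (n + 1) ≤ 𝔞 := fun n => Ideal.pow_le_self (Nat.succ_ne_zero n)
  have step : ∀ (n : ℕ) (s : Λ × E × E), good n s → ∃ s', good (n + 1) s' ∧ close n s s' := by
    rintro n ⟨α, u', v'⟩ ⟨hα, hu', hv', hε⟩
    obtain ⟨a, p, q, ha, hp, hq, he⟩ := decomp_pow ι 𝔪 u v hdec (n + 1) _ hε
    refine ⟨(α + a, u' - q, v' - p), ⟨?_, ?_, ?_, ?_⟩, ?_, ?_, ?_⟩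
    · exact Ideal.add_mem _ hα (Ideal.pow_le_self (Nat.succ_ne_zero n) ha)
    · have e : u' - q - u = (u' - u) - q := by ring
      change u' - q - u ∈ 𝔞
      rw [e]
      exact Ideal.sub_mem _ hu' (hle1 n hq)
    · have e : v' - p - v = (v' - v) - p := by ring
      change v' - p - v ∈ 𝔞
      rw [e]
      exact Ideal.sub_mem _ hv' (hle1 n hp)
    · change (u' - q) * (v' - p) - ι (α + a) ∈ 𝔞 ^ (n + 1 + 1)
      have e : (u' - q) * (v' - p) - ι (α + a) = -((u' - u) * p) - (v' - v) * q + p * q := by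
        rw [map_add]
        linear_combination he
      rw [e]
      have h1 : (u' - u) * p ∈ 𝔞 ^ (n + 1 + 1) := by
        rw [pow_succ' 𝔞 (n + 1)]
        exact Ideal.mul_mem_mul hu' hp
      have h2 : (v' - v) * q ∈ 𝔞 ^ (n + 1 + 1) := by
        rw [pow_succ' 𝔞 (n + 1)]
        exact Ideal.mul_mem_mul hv' hq
      have h3 : p * q ∈ 𝔞 ^ (n + 1 + 1) := by
        rw [pow_succ' 𝔞 (n + 1)]
        exact Ideal.mul_mem_mul (hle1 n hp) hq
      exact Ideal.add_mem _ (Ideal.sub_mem _ ((Ideal.neg_mem_iff _).mpr h1) h2) h3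
    · change α + a - α ∈ 𝔪 ^ (n + 1)
      rw [add_sub_cancel_left]
      exact ha
    · change u' - q - u' ∈ 𝔞 ^ (n + 1)
      rw [sub_sub_cancel_left]
      exact (Ideal.neg_mem_iff _).mpr hq
    · change v' - p - v' ∈ 𝔞 ^ (n + 1)
      rw [sub_sub_cancel_left]
      exact (Ideal.neg_mem_iff _).mpr hp
  choose! nxt hnxt using step
  let seq : ℕ → Λ × E × E := fun n => Nat.rec (0, u, v) (fun n s => nxt n s) n
  have hseq : ∀ n, seq (n + 1) = nxt n (seq n) := fun n => rfl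
  have hgood : ∀ n, good n (seq n) := by
    intro n
    induction n with
    | zero =>
      refine ⟨Ideal.zero_mem _, ?_, ?_, ?_⟩
      · change u - u ∈ 𝔞
        rw [sub_self]
        exact Ideal.zero_mem _
      · change v - v ∈ 𝔞
        rw [sub_self]
        exact Ideal.zero_mem _
      · change u * v - ι 0 ∈ 𝔞 ^ (0 + 1)
        rw [map_zero, sub_zero, zero_add, pow_one]
        exact huv
    | succ n ih =>
      rw [hseq]
      exact (hnxt n _ ih).1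
  have hclose : ∀ n, close n (seq n) (seq (n + 1)) := by
    intro n
    rw [hseq]
    exact (hnxt n _ (hgood n)).2
  have h𝔞pow : ∀ n : ℕ, 𝔞 ^ n ≤ 𝔫 ^ n := fun n => Ideal.pow_right_mono h𝔞𝔫 n
  -- limits
  obtain ⟨Lα, hLα⟩ := exists_limit 𝔪 (fun n => (seq n).1) (fun n =>
    Ideal.pow_le_pow_right (Nat.le_succ n) (hclose n).1)
  obtain ⟨Lu, hLu⟩ := exists_limit 𝔫 (fun n => (seq n).2.1) (fun n =>
    Ideal.pow_le_pow_right (Nat.le_succ n) (h𝔞pow _ (hclose n).2.1))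
  obtain ⟨Lv, hLv⟩ := exists_limit 𝔫 (fun n => (seq n).2.2) (fun n =>
    Ideal.pow_le_pow_right (Nat.le_succ n) (h𝔞pow _ (hclose n).2.2))
  refine ⟨Lα, Lu, Lv, ?_, ?_, ?_, ?_⟩
  · have h1 := hLα 1
    rw [pow_one] at h1
    have e : Lα = (seq 1).1 - ((seq 1).1 - Lα) := by ring
    rw [e]
    exact Ideal.sub_mem _ (hgood 1).1 h1
  · apply hclosed
    intro n
    have e : Lu - u = ((seq n).2.1 - u) + -((seq n).2.1 - Lu) := by ring
    rw [e]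
    exact Ideal.add_mem _ (Ideal.mem_sup_left (hgood n).2.1)
      (Ideal.mem_sup_right ((Ideal.neg_mem_iff _).mpr (hLu n)))
  · apply hclosed
    intro n
    have e : Lv - v = ((seq n).2.2 - v) + -((seq n).2.2 - Lv) := by ring
    rw [e]
    exact Ideal.add_mem _ (Ideal.mem_sup_left (hgood n).2.2.1)
      (Ideal.mem_sup_right ((Ideal.neg_mem_iff _).mpr (hLv n)))
  · have hz : Lu * Lv - ι Lα = 0 := by
      apply eq_zero_of_forall_mem_pow 𝔫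
      intro n
      have e : Lu * Lv - ι Lα = ((seq n).2.1 * (seq n).2.2 - ι (seq n).1)
          - ((seq n).2.1 - Lu) * (seq n).2.2 - Lu * ((seq n).2.2 - Lv)
          + ι ((seq n).1 - Lα) := by
        rw [map_sub]
        ring
      rw [e]
      have h1 : (seq n).2.1 * (seq n).2.2 - ι (seq n).1 ∈ 𝔫 ^ n :=
        Ideal.pow_le_pow_right (Nat.le_succ n) (h𝔞pow _ (hgood n).2.2.2)
      have h2 : ((seq n).2.1 - Lu) * (seq n).2.2 ∈ 𝔫 ^ n := Ideal.mul_mem_right _ _ (hLu n)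
      have h3 : Lu * ((seq n).2.2 - Lv) ∈ 𝔫 ^ n := Ideal.mul_mem_left _ _ (hLv n)
      have h4 : ι ((seq n).1 - Lα) ∈ 𝔫 ^ n := by
        apply h𝔞pow n
        rw [h𝔞, ← Ideal.map_pow]
        exact Ideal.mem_map_of_mem _ (hLα n)
      exact Ideal.add_mem _ (Ideal.sub_mem _ (Ideal.sub_mem _ h1 h2) h3) h4
    exact sub_eq_zero.mp hz

end main

end Groth.Agent.Lib.R2H7.NodeApprox
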