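/-
Completions of local homomorphisms `A → B` with node-like fibre: a surjection
`Â[[x,y]]/(xy - α) → B̂` with `α ∈ 𝔪_A Â`.
-/
import Mathlib
import Groth.Agent.Lib.R2H7NodeApprox
import Groth.Agent.Lib.Helper19ComplFlatMap
import Groth.Agent.Lib.Helper19ComplDim
import Groth.Agent.Lib.Helper19PowerSeries
import Groth.Agent.Lib.Helper19PsLiftComplete

set_option autoImplicit false
universe u

namespace Groth.Agent.Lib.R2H7.NodeCompl

open IsLocalRing Groth.Agent.Lib.Helper19 Groth.Agent.Lib.R2H7.NodeApprox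

section ps

variable {Λ : Type*} [CommRing Λ]

theorem range_X_fin_two : Set.range (MvPowerSeries.X : Fin 2 → MvPowerSeries (Fin 2) Λ) =
    {MvPowerSeries.X 0, MvPowerSeries.X 1} := by
  ext x
  simp only [Set.mem_range, Set.mem_insert_iff, Set.mem_singleton_iff, Fin.exists_fin_two]
  constructor
  · rintro (h | h)
    · exact Or.inl h.symm
    · exact Or.inr h.symm
  · rintro (h | h)
    · exact Or.inl h.symm
    · exact Or.inr h.symm

theorem sub_C_mem_varsIdeal (F : MvPowerSeries (Fin 2) Λ) :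
    F - MvPowerSeries.C (MvPowerSeries.constantCoeff F) ∈ varsIdeal (Fin 2) Λ := by
  have h := mem_varsIdeal_pow_of_coeff_eq_zero (σ := Fin 2) (Λ := Λ) 1
    (F - MvPowerSeries.C (MvPowerSeries.constantCoeff F)) (by
      intro α hα
      have h0 : α = 0 := (Finsupp.degree_eq_zero_iff α).mp (by omega)
      subst h0
      rw [MvPowerSeries.coeff_zero_eq_constantCoeff_apply, map_sub, MvPowerSeries.constantCoeff_C,
        sub_self])
  rwa [pow_one] at h

theorem ps_decomp (F : MvPowerSeries (Fin 2) Λ) : ∃ F1 F2 : MvPowerSeries (Fin 2) Λ,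
    F = MvPowerSeries.C (MvPowerSeries.constantCoeff F) + MvPowerSeries.X 0 * F1 +
      MvPowerSeries.X 1 * F2 := by
  have h := sub_C_mem_varsIdeal F
  rw [varsIdeal, range_X_fin_two, Ideal.mem_span_pair] at h
  obtain ⟨a, b, hab⟩ := h
  refine ⟨a, b, ?_⟩
  linear_combination -hab

end ps

section setup

variable (A B : Type u) [CommRing A] [IsLocalRing A] [IsNoetherianRing A]
  [CommRing B] [IsLocalRing B] [IsNoetherianRing B] [Algebra A B] [IsLocalHom (algebraMap A B)]

/-- The completion of `A`. -/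
abbrev Ah : Type u := AdicCompletion (maximalIdeal A) A

theorem map_le : (maximalIdeal A).map (algebraMap A B) ≤ maximalIdeal B :=
  Ideal.map_le_iff_le_comap.mpr (le_of_eq (IsLocalRing.maximalIdeal_comap (algebraMap A B)).symm)

/-- The induced map on completions. -/
noncomputable def iota : Ah A →+* Ah B :=
  FSch.complMap (maximalIdeal A) (maximalIdeal B) (algebraMap A B) (map_le A B)

theorem algebraMap_eq_comp :
    algebraMap A (Ah B) = (algebraMap B (Ah B)).comp (algebraMap A B) := by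
  ext a
  rw [RingHom.comp_apply, AdicCompletion.algebraMap_apply, AdicCompletion.algebraMap_apply,
    Algebra.algebraMap_self, RingHom.id_apply]

theorem iota_algebraMap (a : A) : iota A B (algebraMap A (Ah A) a) = algebraMap A (Ah B) a := by
  rw [AdicCompletion.algebraMap_apply, AdicCompletion.algebraMap_apply, Algebra.algebraMap_self,
    RingHom.id_apply]
  apply AdicCompletion.ext_evalₐ
  intro n
  rw [iota, Groth.Agent.Lib.Helper19.evalₐ_complMap, AdicCompletion.evalₐ_of,
    AdicCompletion.evalₐ_of, Ideal.quotientMap_mk]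

theorem iota_comp : (iota A B).comp (algebraMap A (Ah A)) = algebraMap A (Ah B) :=
  RingHom.ext (iota_algebraMap A B)

/-- `𝔪_A B̂`. -/
noncomputable abbrev aI : Ideal (Ah B) := (maximalIdeal A).map (algebraMap A (Ah B))

theorem map_iota : (maximalIdeal (Ah A)).map (iota A B) = aI A B := by
  rw [AdicCompletion.maximalIdeal_eq_map, Ideal.map_map, iota_comp]

theorem aI_le : aI A B ≤ maximalIdeal (Ah B) := by
  rw [aI, algebraMap_eq_comp, ← Ideal.map_map, AdicCompletion.maximalIdeal_eq_map]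
  exact Ideal.map_mono (map_le A B)

theorem maximalIdeal_eq_sup (u v : B)
    (hgen : maximalIdeal B = Ideal.span {u, v} ⊔ (maximalIdeal A).map (algebraMap A B)) :
    maximalIdeal (Ah B) =
      Ideal.span {algebraMap B (Ah B) u, algebraMap B (Ah B) v} ⊔ aI A B := by
  rw [AdicCompletion.maximalIdeal_eq_map]
  have h := congrArg (Ideal.map (algebraMap B (Ah B))) hgen
  rw [h, Ideal.map_sup, Ideal.map_span, Set.image_pair, Ideal.map_map, ← algebraMap_eq_comp]

theorem exists_residue_rep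
    (hres : Function.Bijective (IsLocalRing.ResidueField.map (algebraMap A B))) (b : Ah B) :
    ∃ a : A, b - algebraMap A (Ah B) a ∈ maximalIdeal (Ah B) := by
  obtain ⟨b₀, hb₀⟩ := exists_sub_of_mem_map_pow (maximalIdeal B)
    (maximalIdeal B).fg_of_isNoetherianRing 1 b
  rw [pow_one, ← AdicCompletion.maximalIdeal_eq_map] at hb₀
  obtain ⟨a', ha'⟩ := hres.2 (residue B b₀)
  obtain ⟨a, rfl⟩ := residue_surjective a'
  rw [IsLocalRing.ResidueField.map_residue] at ha'
  have h1 : b₀ - algebraMap A B a ∈ maximalIdeal B := by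
    rw [← residue_eq_zero_iff, map_sub, ha', sub_self]
  refine ⟨a, ?_⟩
  have e : b - algebraMap A (Ah B) a =
      (b - algebraMap B (Ah B) b₀) + algebraMap B (Ah B) (b₀ - algebraMap A B a) := by
    rw [algebraMap_eq_comp, RingHom.comp_apply, map_sub]
    ring
  rw [e]
  refine Ideal.add_mem _ hb₀ ?_
  rw [AdicCompletion.maximalIdeal_eq_map]
  exact Ideal.mem_map_of_mem _ h1

theorem closed_aI (x : Ah B) (h : ∀ n, x ∈ aI A B ⊔ maximalIdeal (Ah B) ^ n) : x ∈ aI A B := by
  have hz : Ideal.Quotient.mk (aI A B) x = 0 := by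
    apply IsHausdorff.haus' (I := maximalIdeal (Ah B)) (M := Ah B ⧸ aI A B)
    intro n
    rw [SModEq.zero]
    obtain ⟨y, hy, z, hz, hyz⟩ := Submodule.mem_sup.mp (h n)
    have e : Ideal.Quotient.mk (aI A B) x = z • (Ideal.Quotient.mk (aI A B) (1 : Ah B)) := by
      rw [Algebra.smul_def, Ideal.Quotient.algebraMap_eq, ← map_mul, mul_one, ← hyz, map_add,
        Ideal.Quotient.eq_zero_iff_mem.mpr hy, zero_add]
    rw [e]
    exact Submodule.smul_mem_smul hz Submodule.mem_top
  exact Ideal.Quotient.eq_zero_iff_mem.mp hz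

variable {A B}

/-- Any ring map `Â[[x,y]] → B̂` over `ι` sending `x, y` to elements congruent to `u, v` modulo
`𝔪_A B̂` is surjective. -/
theorem surj (hres : Function.Bijective (IsLocalRing.ResidueField.map (algebraMap A B)))
    (u v : B) (hu : u ∈ maximalIdeal B) (hv : v ∈ maximalIdeal B)
    (hgen : maximalIdeal B = Ideal.span {u, v} ⊔ (maximalIdeal A).map (algebraMap A B))
    (Φ : MvPowerSeries (Fin 2) (Ah A) →+* Ah B)
    (hC : ∀ x, Φ (MvPowerSeries.C x) = iota A B x)
    (h0 : Φ (MvPowerSeries.X 0) - algebraMap B (Ah B) u ∈ aI A B)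
    (h1 : Φ (MvPowerSeries.X 1) - algebraMap B (Ah B) v ∈ aI A B) : Function.Surjective Φ := by
  haveI hcomp : IsAdicComplete (maximalIdeal (MvPowerSeries (Fin 2) (Ah A)))
      (MvPowerSeries (Fin 2) (Ah A)) := isAdicComplete_mvPowerSeries (Λ := Ah A) (σ := Fin 2)
  set I : Ideal (MvPowerSeries (Fin 2) (Ah A)) := maximalIdeal (MvPowerSeries (Fin 2) (Ah A))
    with hI
  have hmemI : ∀ g : MvPowerSeries (Fin 2) (Ah A),
      g ∈ I ↔ MvPowerSeries.constantCoeff g ∈ maximalIdeal (Ah A) := by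
    intro g
    rw [hI, maximalIdeal_eq_coeffIdeal, mem_coeffIdeal_one]
  have hXI : ∀ i : Fin 2, (MvPowerSeries.X i : MvPowerSeries (Fin 2) (Ah A)) ∈ I := by
    intro i
    rw [hmemI, MvPowerSeries.constantCoeff_X]
    exact Ideal.zero_mem _
  have huh : algebraMap B (Ah B) u ∈ maximalIdeal (Ah B) := by
    rw [AdicCompletion.maximalIdeal_eq_map]
    exact Ideal.mem_map_of_mem _ hu
  have hvh : algebraMap B (Ah B) v ∈ maximalIdeal (Ah B) := by
    rw [AdicCompletion.maximalIdeal_eq_map]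
    exact Ideal.mem_map_of_mem _ hv
  have hΦX : ∀ i : Fin 2, Φ (MvPowerSeries.X i) ∈ maximalIdeal (Ah B) := by
    refine Fin.forall_fin_two.mpr ⟨?_, ?_⟩
    · have e : Φ (MvPowerSeries.X 0) =
          (Φ (MvPowerSeries.X 0) - algebraMap B (Ah B) u) + algebraMap B (Ah B) u := by ring
      rw [e]
      exact Ideal.add_mem _ (aI_le A B h0) huh
    · have e : Φ (MvPowerSeries.X 1) =
          (Φ (MvPowerSeries.X 1) - algebraMap B (Ah B) v) + algebraMap B (Ah B) v := by ring
      rw [e]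
      exact Ideal.add_mem _ (aI_le A B h1) hvh
  have hΦC : ∀ x ∈ maximalIdeal (Ah A), Φ (MvPowerSeries.C x) ∈ aI A B := by
    intro x hx
    rw [hC, ← map_iota]
    exact Ideal.mem_map_of_mem _ hx
  have hmap_le : I.map Φ ≤ maximalIdeal (Ah B) := by
    rw [Ideal.map_le_iff_le_comap]
    intro g hg
    rw [Ideal.mem_comap]
    have hvars : varsIdeal (Fin 2) (Ah A) ≤ (maximalIdeal (Ah B)).comap Φ := by
      refine Ideal.span_le.mpr ?_
      rintro _ ⟨i, rfl⟩
      exact hΦX i
    have e : g = MvPowerSeries.C (MvPowerSeries.constantCoeff g) +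
        (g - MvPowerSeries.C (MvPowerSeries.constantCoeff g)) := by ring
    rw [e, map_add]
    exact Ideal.add_mem _ (aI_le A B (hΦC _ ((hmemI g).mp hg))) (hvars (sub_C_mem_varsIdeal g))
  have hne : I.map Φ ≠ ⊤ := fun h =>
    (maximalIdeal.isMaximal (Ah B)).ne_top (top_le_iff.mp (h ▸ hmap_le))
  haveI : IsHausdorff (I.map Φ) (Ah B) := IsHausdorff.of_isLocalRing _ _ hne
  have haI_le : aI A B ≤ I.map Φ := by
    refine Ideal.span_le.mpr ?_
    rintro _ ⟨m, hm, rfl⟩
    have hm' : algebraMap A (Ah A) m ∈ maximalIdeal (Ah A) := by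
      rw [AdicCompletion.maximalIdeal_eq_map]
      exact Ideal.mem_map_of_mem _ hm
    have e : algebraMap A (Ah B) m = Φ (MvPowerSeries.C (algebraMap A (Ah A) m)) := by
      rw [hC, iota_algebraMap]
    rw [SetLike.mem_coe, e]
    apply Ideal.mem_map_of_mem
    rw [hmemI, MvPowerSeries.constantCoeff_C]
    exact hm'
  have hn_le : maximalIdeal (Ah B) ≤ I.map Φ := by
    rw [maximalIdeal_eq_sup A B u v hgen]
    refine sup_le (Ideal.span_le.mpr ?_) haI_le
    intro x hx
    rcases hx with rfl | rfl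
    · have e : algebraMap B (Ah B) u =
          Φ (MvPowerSeries.X 0) - (Φ (MvPowerSeries.X 0) - algebraMap B (Ah B) u) := by ring
      rw [SetLike.mem_coe, e]
      exact Ideal.sub_mem _ (Ideal.mem_map_of_mem _ (hXI 0)) (haI_le h0)
    · have e : algebraMap B (Ah B) v =
          Φ (MvPowerSeries.X 1) - (Φ (MvPowerSeries.X 1) - algebraMap B (Ah B) v) := by ring
      rw [SetLike.mem_coe, e]
      exact Ideal.sub_mem _ (Ideal.mem_map_of_mem _ (hXI 1)) (haI_le h1)
  apply surjective_of_mk_map_comp_surjective (I := I) Φ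
  intro y
  obtain ⟨b, rfl⟩ := Ideal.Quotient.mk_surjective y
  obtain ⟨a, ha⟩ := exists_residue_rep A B hres b
  refine ⟨MvPowerSeries.C (algebraMap A (Ah A) a), ?_⟩
  rw [RingHom.comp_apply, hC, iota_algebraMap, Ideal.Quotient.eq, ← neg_sub]
  exact (Ideal.neg_mem_iff _).mpr (hn_le ha)

/-- Main construction. -/
theorem exists_data (hres : Function.Bijective (IsLocalRing.ResidueField.map (algebraMap A B)))
    (u v : B) (hu : u ∈ maximalIdeal B) (hv : v ∈ maximalIdeal B)
    (huv : u * v ∈ (maximalIdeal A).map (algebraMap A B))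
    (hgen : maximalIdeal B = Ideal.span {u, v} ⊔ (maximalIdeal A).map (algebraMap A B)) :
    ∃ (α : Ah A) (Φ : MvPowerSeries (Fin 2) (Ah A) →+* Ah B),
      α ∈ maximalIdeal (Ah A) ∧ (∀ x, Φ (MvPowerSeries.C x) = iota A B x) ∧
      Function.Surjective Φ ∧
      Φ (MvPowerSeries.X 0) - algebraMap B (Ah B) u ∈ aI A B ∧
      Φ (MvPowerSeries.X 1) - algebraMap B (Ah B) v ∈ aI A B ∧
      Φ (MvPowerSeries.X 0 * MvPowerSeries.X 1 - MvPowerSeries.C α) = 0 := by
  letI alg : Algebra (Ah A) (Ah B) := (iota A B).toAlgebra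
  have halg : ∀ x : Ah A, algebraMap (Ah A) (Ah B) x = iota A B x := fun x => rfl
  have huh : algebraMap B (Ah B) u ∈ maximalIdeal (Ah B) := by
    rw [AdicCompletion.maximalIdeal_eq_map]
    exact Ideal.mem_map_of_mem _ hu
  have hvh : algebraMap B (Ah B) v ∈ maximalIdeal (Ah B) := by
    rw [AdicCompletion.maximalIdeal_eq_map]
    exact Ideal.mem_map_of_mem _ hv
  -- ring maps with prescribed images of the variables
  have hex : ∀ u' v' : Ah B, u' ∈ maximalIdeal (Ah B) → v' ∈ maximalIdeal (Ah B) →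
      ∃ Φ : MvPowerSeries (Fin 2) (Ah A) →+* Ah B, (∀ x, Φ (MvPowerSeries.C x) = iota A B x) ∧
        Φ (MvPowerSeries.X 0) = u' ∧ Φ (MvPowerSeries.X 1) = v' := by
    intro u' v' hu' hv'
    obtain ⟨Φ, hΦ⟩ := exists_algHom_X_eq_of_isAdicComplete (Λ := Ah A) (σ := Fin 2) (E := Ah B)
      (maximalIdeal (Ah B)) (![u', v'] : Fin 2 → Ah B) (Fin.forall_fin_two.mpr ⟨hu', hv'⟩)
    refine ⟨(Φ : MvPowerSeries (Fin 2) (Ah A) →+* Ah B), ?_, hΦ 0, hΦ 1⟩
    intro x
    have h1 := Φ.commutes x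
    rw [MvPowerSeries.algebraMap_apply, Algebra.algebraMap_self, RingHom.id_apply, halg] at h1
    exact h1
  -- the decomposition
  obtain ⟨Φ₀, hΦ₀C, hΦ₀0, hΦ₀1⟩ := hex _ _ huh hvh
  have hsurj₀ : Function.Surjective Φ₀ := surj hres u v hu hv hgen Φ₀ hΦ₀C
    (by rw [hΦ₀0, sub_self]; exact Ideal.zero_mem _) (by rw [hΦ₀1, sub_self]; exact Ideal.zero_mem _)
  have hdec : ∀ b : Ah B, ∃ (a : Ah A) (p q : Ah B),
      b = iota A B a + algebraMap B (Ah B) u * p + algebraMap B (Ah B) v * q := by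
    intro b
    obtain ⟨F, rfl⟩ := hsurj₀ b
    obtain ⟨F1, F2, hF⟩ := ps_decomp F
    refine ⟨MvPowerSeries.constantCoeff F, Φ₀ F1, Φ₀ F2, ?_⟩
    conv_lhs => rw [hF]
    rw [map_add, map_add, map_mul, map_mul, hΦ₀C, hΦ₀0, hΦ₀1]
  have huv' : algebraMap B (Ah B) u * algebraMap B (Ah B) v ∈
      (maximalIdeal (Ah A)).map (iota A B) := by
    rw [map_iota, ← map_mul, aI, algebraMap_eq_comp, ← Ideal.map_map]
    exact Ideal.mem_map_of_mem _ huv
  obtain ⟨α, u', v', hα, hu', hv', huv''⟩ := exists_approx (iota A B) (maximalIdeal (Ah A))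
    (maximalIdeal (Ah B)) (algebraMap B (Ah B) u) (algebraMap B (Ah B) v)
    (by rw [map_iota]; exact aI_le A B)
    (by rw [map_iota]; exact closed_aI A B) hdec huv'
  rw [map_iota] at hu' hv'
  have hu'm : u' ∈ maximalIdeal (Ah B) := by
    have e : u' = (u' - algebraMap B (Ah B) u) + algebraMap B (Ah B) u := by ring
    rw [e]
    exact Ideal.add_mem _ (aI_le A B hu') huh
  have hv'm : v' ∈ maximalIdeal (Ah B) := by
    have e : v' = (v' - algebraMap B (Ah B) v) + algebraMap B (Ah B) v := by ring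
    rw [e]
    exact Ideal.add_mem _ (aI_le A B hv') hvh
  obtain ⟨Φ, hΦC, hΦ0, hΦ1⟩ := hex u' v' hu'm hv'm
  refine ⟨α, Φ, hα, hΦC, ?_, ?_, ?_, ?_⟩
  · exact surj hres u v hu hv hgen Φ hΦC (by rw [hΦ0]; exact hu') (by rw [hΦ1]; exact hv')
  · rw [hΦ0]; exact hu'
  · rw [hΦ1]; exact hv'
  · rw [map_sub, map_mul, hΦ0, hΦ1, hΦC, huv'', sub_self]

end setup

end Groth.Agent.Lib.R2H7.NodeCompl
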