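/-
Completions of flat local homomorphisms `A → B` with nodal fibre: the surjection
`Â[[x,y]]/(xy - α) → B̂` of `R2H7NodeCompl` is an isomorphism.
-/
import Mathlib
import Groth.Agent.Lib.R2H7NodeCompl
import Groth.Agent.Lib.Helper28ComplQuot
import Groth.Agent.Lib.R2H3LocPrincipalAlg

set_option autoImplicit false
universe u v

namespace Groth.Agent.Lib.R2H7.NodeCompl

open IsLocalRing Groth.Agent.Lib.Helper19 Groth.Agent.Lib.R2H7.NodeApprox

section generic

/-- A surjective ring endomorphism of a Noetherian ring is injective. -/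
theorem ringHom_injective_of_surjective_endo {N : Type*} [CommRing N] [IsNoetherianRing N]
    (g : N →+* N) (hg : Function.Surjective g) : Function.Injective g := by
  let K : ℕ →o Ideal N :=
    { toFun := fun n => RingHom.ker (g ^ n)
      monotone' := by
        intro m n hmn x hx
        rw [RingHom.mem_ker] at hx ⊢
        obtain ⟨d, rfl⟩ := Nat.exists_eq_add_of_le hmn
        rw [add_comm, pow_add, RingHom.mul_def, RingHom.comp_apply, hx, map_zero] }
  obtain ⟨n, hn⟩ := monotone_stabilizes_iff_noetherian.2 (inferInstance : IsNoetherian N N) K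
  have hsurj : Function.Surjective (g ^ n) := by
    rw [RingHom.coe_pow]
    exact hg.iterate n
  rw [injective_iff_map_eq_zero]
  intro x hx
  obtain ⟨y, rfl⟩ := hsurj x
  have hy : y ∈ K (n + 1) := by
    change y ∈ RingHom.ker (g ^ (n + 1))
    rw [RingHom.mem_ker, pow_succ', RingHom.mul_def, RingHom.comp_apply, hx]
  rw [← hn (n + 1) (Nat.le_succ n)] at hy
  exact hy

/-- Two surjections onto a Noetherian ring with comparable kernels have the same kernel. -/
theorem ker_le_of_surjective {E N : Type*} [CommRing E] [CommRing N] [IsNoetherianRing N]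
    (r s : E →+* N) (hr : Function.Surjective r) (hs : Function.Surjective s)
    (h : RingHom.ker r ≤ RingHom.ker s) : RingHom.ker s ≤ RingHom.ker r := by
  let g : N →+* N := r.liftOfSurjective hr ⟨s, h⟩
  have hg : ∀ x, g (r x) = s x := fun x => r.liftOfSurjective_comp_apply hr ⟨s, h⟩ x
  have hgs : Function.Surjective g := by
    intro y
    obtain ⟨x, rfl⟩ := hs y
    exact ⟨r x, hg x⟩
  have hgi := ringHom_injective_of_surjective_endo g hgs
  intro x hx
  rw [RingHom.mem_ker] at hx ⊢
  apply hgi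
  rw [hg, hx, map_zero]

theorem map_surjective' {σ : Type*} {R R' : Type*} [CommRing R] [CommRing R'] (q : R →+* R')
    (hq : Function.Surjective q) : Function.Surjective (MvPowerSeries.map (σ := σ) q) := by
  intro g
  choose c hc using hq
  refine ⟨(fun α => c (MvPowerSeries.coeff α g) : MvPowerSeries σ R), ?_⟩
  ext α
  rw [MvPowerSeries.coeff_map]
  exact hc _

/-- the kernel of the coefficientwise map, when the kernel of the coefficient map is finitely
generated (copied from `Helper19SmoothPs`) -/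
theorem ker_map_eq_map_C_of_fg {σ : Type v} {R R' : Type u} [CommRing R] [CommRing R']
    (q : R →+* R') (hfg : (RingHom.ker q).FG) :
    RingHom.ker (MvPowerSeries.map (σ := σ) q) =
      (RingHom.ker q).map (MvPowerSeries.C : R →+* MvPowerSeries σ R) := by
  classical
  apply le_antisymm
  · obtain ⟨s, hs⟩ := hfg
    intro g hg
    rw [RingHom.mem_ker] at hg
    have h1 : ∀ α : σ →₀ ℕ, ∃ c : R → R, ∑ i ∈ s, c i * i = MvPowerSeries.coeff α g := by
      intro α
      have h2 : MvPowerSeries.coeff α g ∈ RingHom.ker q := by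
        rw [RingHom.mem_ker, ← MvPowerSeries.coeff_map, hg, map_zero]
      rw [← hs] at h2
      obtain ⟨c, hc⟩ := (Submodule.mem_span_finset (R := R)).1 h2
      exact ⟨c, by simpa [smul_eq_mul] using hc.2⟩
    choose c hc using h1
    let h : R → MvPowerSeries σ R := fun i α => c α i
    have h3 : g = ∑ i ∈ s, (MvPowerSeries.C i : MvPowerSeries σ R) * h i := by
      ext α
      rw [map_sum, ← hc α]
      apply Finset.sum_congr rfl
      intro i _
      rw [MvPowerSeries.coeff_C_mul, mul_comm]
      rfl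
    rw [h3]
    apply Ideal.sum_mem
    intro i hi
    apply Ideal.mul_mem_right
    apply Ideal.mem_map_of_mem
    rw [← hs]
    exact Ideal.subset_span hi
  · rw [Ideal.map_le_iff_le_comap]
    intro r hr
    rw [RingHom.mem_ker] at hr
    rw [Ideal.mem_comap, RingHom.mem_ker, MvPowerSeries.map_C, hr, map_zero]

end generic

section flat

variable (A : Type u) [CommRing A] [IsLocalRing A] [IsNoetherianRing A]

/-- The reduction `Â → κ(A)`. -/
noncomputable def rho : Ah A →+* ResidueField A :=
  ((RingEquiv.ofBijective (ResidueField.map (algebraMap A (Ah A)))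
      (AdicCompletion.residueField_map_bijective A)).symm :
    ResidueField (Ah A) →+* ResidueField A).comp (residue (Ah A))

theorem rho_surjective : Function.Surjective (rho A) := by
  intro y
  obtain ⟨x, hx⟩ := residue_surjective ((RingEquiv.ofBijective
    (ResidueField.map (algebraMap A (Ah A))) (AdicCompletion.residueField_map_bijective A)) y)
  refine ⟨x, ?_⟩
  rw [rho, RingHom.comp_apply, hx]
  exact RingEquiv.symm_apply_apply _ y

theorem ker_rho : RingHom.ker (rho A) = maximalIdeal (Ah A) := by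
  ext x
  rw [RingHom.mem_ker, rho, RingHom.comp_apply, RingHom.coe_coe,
    map_eq_zero_iff _ (RingEquiv.injective _), residue_eq_zero_iff]

theorem map_algebraMap_eq_ker :
    (maximalIdeal A).map (algebraMap A (MvPowerSeries (Fin 2) (Ah A))) =
      RingHom.ker (MvPowerSeries.map (σ := Fin 2) (rho A)) := by
  have h1 : algebraMap A (MvPowerSeries (Fin 2) (Ah A)) =
      (MvPowerSeries.C : Ah A →+* MvPowerSeries (Fin 2) (Ah A)).comp (algebraMap A (Ah A)) := by
    ext a
    rw [MvPowerSeries.algebraMap_apply]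
    rfl
  rw [ker_map_eq_map_C_of_fg (rho A) (by
    rw [ker_rho]
    exact (maximalIdeal (Ah A)).fg_of_isNoetherianRing), ker_rho, h1, ← Ideal.map_map,
    ← AdicCompletion.maximalIdeal_eq_map]

variable {A}
variable {B : Type u} [CommRing B] [IsLocalRing B] [IsNoetherianRing B] [Algebra A B]
  [IsLocalHom (algebraMap A B)]

theorem ker_eq_of_flat [Module.Flat A B]
    (θ : (Ah B ⧸ ((maximalIdeal A).map (algebraMap A B)).map (algebraMap B (Ah B))) ≃+*
      (MvPowerSeries (Fin 2) (ResidueField A) ⧸ Ideal.span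
        {(MvPowerSeries.X 0 * MvPowerSeries.X 1 : MvPowerSeries (Fin 2) (ResidueField A))}))
    (α : Ah A) (hα : α ∈ maximalIdeal (Ah A))
    (Φ : MvPowerSeries (Fin 2) (Ah A) →+* Ah B)
    (hC : ∀ x, Φ (MvPowerSeries.C x) = iota A B x)
    (hsurj : Function.Surjective Φ)
    (hker : Φ (MvPowerSeries.X 0 * MvPowerSeries.X 1 - MvPowerSeries.C α) = 0) :
    RingHom.ker Φ = Ideal.span
      {(MvPowerSeries.X 0 * MvPowerSeries.X 1 - MvPowerSeries.C α :
        MvPowerSeries (Fin 2) (Ah A))} := by
  classical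
  set J : Ideal (MvPowerSeries (Fin 2) (Ah A)) := Ideal.span
    {(MvPowerSeries.X 0 * MvPowerSeries.X 1 - MvPowerSeries.C α :
      MvPowerSeries (Fin 2) (Ah A))} with hJ
  set K : Ideal (MvPowerSeries (Fin 2) (Ah A)) := RingHom.ker Φ with hK
  set 𝔟 : Ideal (MvPowerSeries (Fin 2) (Ah A)) :=
    (maximalIdeal A).map (algebraMap A (MvPowerSeries (Fin 2) (Ah A))) with h𝔟
  have hJK : J ≤ K := by
    rw [hJ, Ideal.span_le, Set.singleton_subset_iff]
    exact hker
  have hΦalg : ∀ a : A, Φ (algebraMap A (MvPowerSeries (Fin 2) (Ah A)) a) =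
      algebraMap A (Ah B) a := by
    intro a
    rw [MvPowerSeries.algebraMap_apply, hC, iota_algebraMap]
  -- reduction to the residue field
  let red : MvPowerSeries (Fin 2) (Ah A) →+* MvPowerSeries (Fin 2) (ResidueField A) :=
    MvPowerSeries.map (rho A)
  have hred : Function.Surjective red := map_surjective' (rho A) (rho_surjective A)
  have hkred : RingHom.ker red = 𝔟 := (map_algebraMap_eq_ker A).symm
  let r : MvPowerSeries (Fin 2) (Ah A) →+* (MvPowerSeries (Fin 2) (ResidueField A) ⧸ Ideal.span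
      {(MvPowerSeries.X 0 * MvPowerSeries.X 1 : MvPowerSeries (Fin 2) (ResidueField A))}) :=
    (Ideal.Quotient.mk _).comp red
  have hr : Function.Surjective r := Ideal.Quotient.mk_surjective.comp hred
  have hCα : (MvPowerSeries.C α : MvPowerSeries (Fin 2) (Ah A)) ∈ 𝔟 := by
    rw [← hkred, RingHom.mem_ker]
    change MvPowerSeries.map (rho A) (MvPowerSeries.C α) = 0
    rw [MvPowerSeries.map_C]
    have : rho A α = 0 := by
      rw [← RingHom.mem_ker, ker_rho]
      exact hα
    rw [this, map_zero]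
  have hkr : RingHom.ker r ≤ J ⊔ 𝔟 := by
    intro F hF
    rw [RingHom.mem_ker, RingHom.comp_apply, Ideal.Quotient.eq_zero_iff_mem,
      Ideal.mem_span_singleton] at hF
    obtain ⟨G', hG'⟩ := hF
    obtain ⟨G, rfl⟩ := hred G'
    have h1 : F - MvPowerSeries.X 0 * MvPowerSeries.X 1 * G ∈ 𝔟 := by
      rw [← hkred, RingHom.mem_ker, map_sub, hG', map_mul, map_mul]
      change _ - MvPowerSeries.map (rho A) (MvPowerSeries.X 0) *
        MvPowerSeries.map (rho A) (MvPowerSeries.X 1) * red G = 0
      rw [MvPowerSeries.map_X, MvPowerSeries.map_X, sub_self]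
    have e : F = (MvPowerSeries.X 0 * MvPowerSeries.X 1 - MvPowerSeries.C α) * G +
        (MvPowerSeries.C α * G + (F - MvPowerSeries.X 0 * MvPowerSeries.X 1 * G)) := by ring
    rw [e]
    exact Submodule.add_mem_sup (Ideal.mul_mem_right _ _ (Ideal.mem_span_singleton_self _))
      (Ideal.add_mem _ (Ideal.mul_mem_right _ _ hCα) h1)
  -- the second surjection
  set 𝔞' : Ideal (Ah B) := ((maximalIdeal A).map (algebraMap A B)).map (algebraMap B (Ah B))
    with h𝔞'
  have h𝔞'eq : 𝔞' = aI A B := by
    rw [h𝔞', Ideal.map_map, ← algebraMap_eq_comp]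
  let s : MvPowerSeries (Fin 2) (Ah A) →+* (MvPowerSeries (Fin 2) (ResidueField A) ⧸ Ideal.span
      {(MvPowerSeries.X 0 * MvPowerSeries.X 1 : MvPowerSeries (Fin 2) (ResidueField A))}) :=
    (θ : _ →+* _).comp ((Ideal.Quotient.mk 𝔞').comp Φ)
  have hs : Function.Surjective s :=
    θ.surjective.comp (Ideal.Quotient.mk_surjective.comp hsurj)
  have hks : ∀ F, F ∈ RingHom.ker s ↔ Φ F ∈ 𝔞' := by
    intro F
    rw [RingHom.mem_ker]
    change θ (Ideal.Quotient.mk 𝔞' (Φ F)) = 0 ↔ _
    rw [map_eq_zero_iff _ θ.injective, Ideal.Quotient.eq_zero_iff_mem]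
  have hJbs : J ⊔ 𝔟 ≤ RingHom.ker s := by
    refine sup_le ?_ ?_
    · intro F hF
      rw [hks]
      have h0 : Φ F = 0 := hJK hF
      rw [h0]
      exact Ideal.zero_mem _
    · rw [h𝔟, Ideal.map_le_iff_le_comap]
      intro m hm
      rw [Ideal.mem_comap, hks, hΦalg, h𝔞'eq]
      exact Ideal.mem_map_of_mem _ hm
  have hsr : RingHom.ker s ≤ RingHom.ker r :=
    ker_le_of_surjective r s hr hs (hkr.trans hJbs)
  have claim : K ≤ J ⊔ 𝔟 := by
    intro F hF
    apply hkr
    apply hsr
    rw [hks]
    have h0 : Φ F = 0 := hF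
    rw [h0]
    exact Ideal.zero_mem _
  -- flatness
  haveI hst : IsScalarTower A B (Ah B) := IsScalarTower.of_algebraMap_eq (fun a => by
    rw [algebraMap_eq_comp]
    rfl)
  haveI hfl1 : Module.Flat B (Ah B) := AdicCompletion.flat_of_isNoetherian _
  haveI hfl2 : Module.Flat A (Ah B) := Module.Flat.trans A B (Ah B)
  let eq0 : (MvPowerSeries (Fin 2) (Ah A) ⧸ K) ≃+* Ah B :=
    RingHom.quotientKerEquivOfSurjective hsurj
  have heq0 : ∀ F, eq0 (Ideal.Quotient.mk K F) = Φ F := fun F =>
    RingHom.quotientKerEquivOfSurjective_apply_mk hsurj F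
  let lin : (MvPowerSeries (Fin 2) (Ah A) ⧸ K) ≃ₗ[A] Ah B :=
    { toFun := eq0
      map_add' := map_add eq0
      map_smul' := by
        intro a x
        obtain ⟨F, rfl⟩ := Ideal.Quotient.mk_surjective x
        rw [RingHom.id_apply, Algebra.smul_def, Algebra.smul_def,
          ← Ideal.Quotient.mk_algebraMap, ← map_mul, heq0, heq0, map_mul, hΦalg]
      invFun := eq0.symm
      left_inv := eq0.left_inv
      right_inv := eq0.right_inv }
  haveI hfl3 : Module.Flat A (MvPowerSeries (Fin 2) (Ah A) ⧸ K) := Module.Flat.of_linearEquiv lin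
  have hflat : K ⊓ 𝔟 ≤ 𝔟 * K :=
    Groth.Agent.Lib.R2H3.LocPrincipalAlg.inf_map_le_mul_of_flat_quotient K (maximalIdeal A)
  -- Nakayama
  have h𝔟max : 𝔟 ≤ maximalIdeal (MvPowerSeries (Fin 2) (Ah A)) := by
    rw [h𝔟, Ideal.map_le_iff_le_comap]
    intro m hm
    rw [Ideal.mem_comap, MvPowerSeries.algebraMap_apply, maximalIdeal_eq_coeffIdeal,
      mem_coeffIdeal_one, MvPowerSeries.constantCoeff_C, AdicCompletion.maximalIdeal_eq_map]
    exact Ideal.mem_map_of_mem _ hm
  have hK_le : K ≤ J ⊔ 𝔟 • K := by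
    intro F hF
    obtain ⟨j, hj, b, hb, rfl⟩ := Submodule.mem_sup.mp (claim hF)
    have hbK : b ∈ K := by
      have h1 := K.sub_mem hF (hJK hj)
      rwa [add_sub_cancel_left] at h1
    refine Submodule.mem_sup.mpr ⟨j, hj, b, ?_, rfl⟩
    rw [smul_eq_mul]
    exact hflat ⟨hbK, hb⟩
  have hfin := Submodule.le_of_le_smul_of_le_jacobson_bot (N := J) (N' := K) (I := 𝔟)
    (IsNoetherian.noetherian K) (h𝔟max.trans (IsLocalRing.maximalIdeal_le_jacobson ⊥)) hK_le
  exact le_antisymm hfin hJK

end flat

end Groth.Agent.Lib.R2H7.NodeCompl
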