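/-
Equivariant successive approximation for node-type deformations, and the complete-ring versions of
the surjectivity and kernel statements of `R2H7NodeCompl` / `R2H7NodeComplFlat`.
-/
import Mathlib
import Groth.Agent.Lib.R2H7NodeComplFlat

set_option autoImplicit false
universe u

namespace Groth.Agent.Lib.R2H7.NodeEquiv

open IsLocalRing Groth.Agent.Lib.Helper19 Groth.Agent.Lib.R2H7.NodeApprox
  Groth.Agent.Lib.R2H7.NodeCompl

section approx

variable {Λ E : Type*} [CommRing Λ] [CommRing E] (ι : Λ →+* E) (𝔪 : Ideal Λ) (𝔫 : Ideal E)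
  (u v : E)

/-- One step of the equivariant approximation. -/
theorem step (hdec : ∀ b : E, ∃ (a : Λ) (p q : E), b = ι a + u * p + v * q)
    (σ : E →+* E) (hσι : ∀ a, σ (ι a) = ι a) (hσσ : ∀ x, σ (σ x) = x)
    (ξ₁ ξ₂ half : Λ) (hξ₁ : ξ₁ * ξ₁ = 1) (hξ₂ : ξ₂ * ξ₂ = 1) (hhalf : 2 * half = 1)
    (hσu : σ u = ι ξ₂ * u) (hσv : σ v = ι ξ₁ * v)
    (n : ℕ) (α : Λ) (u' v' : E)
    (hα : α ∈ 𝔪) (hu' : u' - u ∈ 𝔪.map ι) (hv' : v' - v ∈ 𝔪.map ι)
    (hε : u' * v' - ι α ∈ (𝔪.map ι) ^ (n + 1))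
    (hσu' : σ u' = ι ξ₂ * u') (hσv' : σ v' = ι ξ₁ * v')
    (hcα : (1 + ξ₁ * ξ₂) * half * α = α) :
    ∃ (α₁ : Λ) (u₁ v₁ : E), α₁ ∈ 𝔪 ∧ u₁ - u ∈ 𝔪.map ι ∧ v₁ - v ∈ 𝔪.map ι ∧
      u₁ * v₁ - ι α₁ ∈ (𝔪.map ι) ^ (n + 1 + 1) ∧
      σ u₁ = ι ξ₂ * u₁ ∧ σ v₁ = ι ξ₁ * v₁ ∧ (1 + ξ₁ * ξ₂) * half * α₁ = α₁ ∧
      α₁ - α ∈ 𝔪 ^ (n + 1) ∧ u₁ - u' ∈ (𝔪.map ι) ^ (n + 1) ∧ v₁ - v' ∈ (𝔪.map ι) ^ (n + 1) := by
  set 𝔞 : Ideal E := 𝔪.map ι with h𝔞
  have hle1 : 𝔞 ^ (n + 1) ≤ 𝔞 := Ideal.pow_le_self (Nat.succ_ne_zero n)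
  have hσ𝔞 : ∀ (j : ℕ) (x : E), x ∈ 𝔞 ^ j → σ x ∈ 𝔞 ^ j := by
    intro j x hx
    have h1 : 𝔞 ≤ 𝔞.comap σ := by
      rw [h𝔞, Ideal.map_le_iff_le_comap]
      intro m hm
      rw [Ideal.mem_comap, Ideal.mem_comap, hσι]
      exact Ideal.mem_map_of_mem _ hm
    exact Ideal.le_comap_pow σ j (Ideal.pow_right_mono h1 j hx)
  obtain ⟨a, p, q, ha, hp, hq, he⟩ := decomp_pow ι 𝔪 u v hdec (n + 1) _ hε
  -- images of the constants
  have hx1 : ι ξ₁ * ι ξ₁ = 1 := by rw [← map_mul, hξ₁, map_one]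
  have hx2 : ι ξ₂ * ι ξ₂ = 1 := by rw [← map_mul, hξ₂, map_one]
  have hh : 2 * ι half = 1 := by
    have := congrArg ι hhalf
    rwa [map_mul, map_ofNat, map_one] at this
  have hK4 : (1 + ι ξ₁ * ι ξ₂) * ι half * ι α = ι α := by
    have := congrArg ι hcα
    rwa [map_mul, map_mul, map_add, map_one, map_mul] at this
  have hx12 : ι ξ₁ * ι ξ₂ * ι ξ₂ = ι ξ₁ := by linear_combination ι ξ₁ * hx2
  have hx21 : ι ξ₁ * ι ξ₂ * ι ξ₁ = ι ξ₂ := by linear_combination ι ξ₂ * hx1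
  have hxx : ι ξ₁ * ι ξ₂ * (ι ξ₁ * ι ξ₂) = 1 := by
    linear_combination (ι ξ₂ * ι ξ₂) * hx1 + hx2
  -- apply σ to the decomposition
  have hK2 : ι ξ₂ * u' * (ι ξ₁ * v') - ι α = ι a + ι ξ₂ * u * σ p + ι ξ₁ * v * σ q := by
    have := congrArg σ he
    rwa [map_sub, map_mul, map_add, map_add, map_mul, map_mul, hσι, hσι, hσu', hσv', hσu,
      hσv] at this
  have hA1 : u * p + v * q = u' * v' - ι α - ι a := by linear_combination -he
  have hA2 : ι ξ₂ * u * σ p + ι ξ₁ * v * σ q = ι ξ₁ * ι ξ₂ * (u' * v') - ι α - ι a := by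
    linear_combination -hK2
  have hB : ι ξ₁ * u * σ p + ι ξ₂ * v * σ q =
      u' * v' - ι ξ₁ * ι ξ₂ * ι α - ι ξ₁ * ι ξ₂ * ι a := by
    linear_combination (ι ξ₁ * ι ξ₂) * hA2 - (u * σ p) * hx12 - (v * σ q) * hx21 +
      (u' * v') * hxx
  set p' : E := ι half * (p + ι ξ₁ * σ p) with hp'
  set q' : E := ι half * (q + ι ξ₂ * σ q) with hq'
  have hkey : u' * v' - ι α = (1 + ι ξ₁ * ι ξ₂) * ι half * ι a + u * p' + v * q' := by
    rw [hp', hq']
    linear_combination (-(ι half)) * hA1 + (-(ι half)) * hB + (-(u' * v')) * hh + hK4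
  have hp'mem : p' ∈ 𝔞 ^ (n + 1) :=
    Ideal.mul_mem_left _ _ (Ideal.add_mem _ hp (Ideal.mul_mem_left _ _ (hσ𝔞 _ _ hp)))
  have hq'mem : q' ∈ 𝔞 ^ (n + 1) :=
    Ideal.mul_mem_left _ _ (Ideal.add_mem _ hq (Ideal.mul_mem_left _ _ (hσ𝔞 _ _ hq)))
  have hσp' : σ p' = ι ξ₁ * p' := by
    rw [hp', map_mul, map_add, map_mul, hσι, hσι, hσσ]
    linear_combination (-(ι half * σ p)) * hx1
  have hσq' : σ q' = ι ξ₂ * q' := by
    rw [hq', map_mul, map_add, map_mul, hσι, hσι, hσσ]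
    linear_combination (-(ι half * σ q)) * hx2
  have hcc : (1 + ξ₁ * ξ₂) * half * ((1 + ξ₁ * ξ₂) * half) = (1 + ξ₁ * ξ₂) * half := by
    linear_combination (half * half * ξ₂ * ξ₂) * hξ₁ + (half * half) * hξ₂ +
      ((1 + ξ₁ * ξ₂) * half) * hhalf
  refine ⟨α + (1 + ξ₁ * ξ₂) * half * a, u' - q', v' - p', ?_, ?_, ?_, ?_, ?_, ?_, ?_, ?_, ?_, ?_⟩
  · exact Ideal.add_mem _ hα (Ideal.mul_mem_left _ _ (Ideal.pow_le_self (Nat.succ_ne_zero n) ha))
  · have e : u' - q' - u = (u' - u) - q' := by ring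
    rw [e]
    exact Ideal.sub_mem _ hu' (hle1 hq'mem)
  · have e : v' - p' - v = (v' - v) - p' := by ring
    rw [e]
    exact Ideal.sub_mem _ hv' (hle1 hp'mem)
  · have e : (u' - q') * (v' - p') - ι (α + (1 + ξ₁ * ξ₂) * half * a) =
        -((u' - u) * p') - (v' - v) * q' + p' * q' := by
      rw [map_add, map_mul, map_mul, map_add, map_one, map_mul]
      linear_combination hkey
    rw [e]
    have h1 : (u' - u) * p' ∈ 𝔞 ^ (n + 1 + 1) := by
      rw [pow_succ' 𝔞 (n + 1)]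
      exact Ideal.mul_mem_mul hu' hp'mem
    have h2 : (v' - v) * q' ∈ 𝔞 ^ (n + 1 + 1) := by
      rw [pow_succ' 𝔞 (n + 1)]
      exact Ideal.mul_mem_mul hv' hq'mem
    have h3 : p' * q' ∈ 𝔞 ^ (n + 1 + 1) := by
      rw [pow_succ' 𝔞 (n + 1)]
      exact Ideal.mul_mem_mul (hle1 hp'mem) hq'mem
    exact Ideal.add_mem _ (Ideal.sub_mem _ ((Ideal.neg_mem_iff _).mpr h1) h2) h3
  · rw [map_sub, hσu', hσq']
    ring
  · rw [map_sub, hσv', hσp']
    ring
  · linear_combination hcα + a * hcc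
  · rw [add_sub_cancel_left]
    exact Ideal.mul_mem_left _ _ ha
  · rw [sub_sub_cancel_left]
    exact (Ideal.neg_mem_iff _).mpr hq'mem
  · rw [sub_sub_cancel_left]
    exact (Ideal.neg_mem_iff _).mpr hp'mem

variable [IsAdicComplete 𝔪 Λ] [IsAdicComplete 𝔫 E]

theorem exists_approx_equivariant (h𝔞𝔫 : 𝔪.map ι ≤ 𝔫)
    (hclosed : ∀ x : E, (∀ n, x ∈ 𝔪.map ι ⊔ 𝔫 ^ n) → x ∈ 𝔪.map ι)
    (hdec : ∀ b : E, ∃ (a : Λ) (p q : E), b = ι a + u * p + v * q)
    (huv : u * v ∈ 𝔪.map ι)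
    (σ : E →+* E) (hσι : ∀ a, σ (ι a) = ι a) (hσσ : ∀ x, σ (σ x) = x)
    (hσ𝔫 : ∀ x ∈ 𝔫, σ x ∈ 𝔫)
    (ξ₁ ξ₂ half : Λ) (hξ₁ : ξ₁ * ξ₁ = 1) (hξ₂ : ξ₂ * ξ₂ = 1) (hhalf : 2 * half = 1)
    (hσu : σ u = ι ξ₂ * u) (hσv : σ v = ι ξ₁ * v) :
    ∃ (α : Λ) (u' v' : E), α ∈ 𝔪 ∧ u' - u ∈ 𝔪.map ι ∧ v' - v ∈ 𝔪.map ι ∧ u' * v' = ι α ∧
      σ u' = ι ξ₂ * u' ∧ σ v' = ι ξ₁ * v' ∧ (1 + ξ₁ * ξ₂) * half * α = α := by
  classical
  set 𝔞 : Ideal E := 𝔪.map ι with h𝔞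
  let good : ℕ → Λ × E × E → Prop := fun n s =>
    s.1 ∈ 𝔪 ∧ s.2.1 - u ∈ 𝔞 ∧ s.2.2 - v ∈ 𝔞 ∧ s.2.1 * s.2.2 - ι s.1 ∈ 𝔞 ^ (n + 1) ∧
      σ s.2.1 = ι ξ₂ * s.2.1 ∧ σ s.2.2 = ι ξ₁ * s.2.2 ∧ (1 + ξ₁ * ξ₂) * half * s.1 = s.1
  let close : ℕ → Λ × E × E → Λ × E × E → Prop := fun n s s' =>
    s'.1 - s.1 ∈ 𝔪 ^ (n + 1) ∧ s'.2.1 - s.2.1 ∈ 𝔞 ^ (n + 1) ∧ s'.2.2 - s.2.2 ∈ 𝔞 ^ (n + 1)
  have hstep : ∀ (n : ℕ) (s : Λ × E × E), good n s → ∃ s', good (n + 1) s' ∧ close n s s' := by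
    rintro n ⟨α, u', v'⟩ ⟨hα, hu', hv', hε, hσu', hσv', hcα⟩
    obtain ⟨α₁, u₁, v₁, h1, h2, h3, h4, h5, h6, h7, h8, h9, h10⟩ :=
      step ι 𝔪 u v hdec σ hσι hσσ ξ₁ ξ₂ half hξ₁ hξ₂ hhalf hσu hσv n α u' v' hα hu' hv' hε
        hσu' hσv' hcα
    exact ⟨(α₁, u₁, v₁), ⟨h1, h2, h3, h4, h5, h6, h7⟩, h8, h9, h10⟩
  choose! nxt hnxt using hstep
  let seq : ℕ → Λ × E × E := fun n => Nat.rec (0, u, v) (fun n s => nxt n s) n
  have hseq : ∀ n, seq (n + 1) = nxt n (seq n) := fun n => rfl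
  have hgood : ∀ n, good n (seq n) := by
    intro n
    induction n with
    | zero =>
      refine ⟨Ideal.zero_mem _, ?_, ?_, ?_, hσu, hσv, ?_⟩
      · change u - u ∈ 𝔞
        rw [sub_self]
        exact Ideal.zero_mem _
      · change v - v ∈ 𝔞
        rw [sub_self]
        exact Ideal.zero_mem _
      · change u * v - ι 0 ∈ 𝔞 ^ (0 + 1)
        rw [map_zero, sub_zero, zero_add, pow_one]
        exact huv
      · change (1 + ξ₁ * ξ₂) * half * 0 = 0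
        rw [mul_zero]
    | succ n ih =>
      rw [hseq]
      exact (hnxt n _ ih).1
  have hclose : ∀ n, close n (seq n) (seq (n + 1)) := by
    intro n
    rw [hseq]
    exact (hnxt n _ (hgood n)).2
  have h𝔞pow : ∀ n : ℕ, 𝔞 ^ n ≤ 𝔫 ^ n := fun n => Ideal.pow_right_mono h𝔞𝔫 n
  have hσ𝔫pow : ∀ (j : ℕ) (x : E), x ∈ 𝔫 ^ j → σ x ∈ 𝔫 ^ j := by
    intro j x hx
    have h1 : 𝔫 ≤ 𝔫.comap σ := fun y hy => hσ𝔫 y hy
    exact Ideal.le_comap_pow σ j (Ideal.pow_right_mono h1 j hx)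
  obtain ⟨Lα, hLα⟩ := exists_limit 𝔪 (fun n => (seq n).1) (fun n =>
    Ideal.pow_le_pow_right (Nat.le_succ n) (hclose n).1)
  obtain ⟨Lu, hLu⟩ := exists_limit 𝔫 (fun n => (seq n).2.1) (fun n =>
    Ideal.pow_le_pow_right (Nat.le_succ n) (h𝔞pow _ (hclose n).2.1))
  obtain ⟨Lv, hLv⟩ := exists_limit 𝔫 (fun n => (seq n).2.2) (fun n =>
    Ideal.pow_le_pow_right (Nat.le_succ n) (h𝔞pow _ (hclose n).2.2))
  refine ⟨Lα, Lu, Lv, ?_, ?_, ?_, ?_, ?_, ?_, ?_⟩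
  · have h1 := hLα 1
    rw [pow_one] at h1
    have e : Lα = (seq 1).1 - ((seq 1).1 - Lα) := by ring
    rw [e]
    exact Ideal.sub_mem _ (hgood 1).1 h1
  · apply hclosed
    intro n
    have e : Lu - u = ((seq n).2.1 - u) + -((seq n).2.1 - Lu) := by ring
    rw [e]
    exact Ideal.add_mem _ (Ideal.mem_sup_left (hgood n).2.1)
      (Ideal.mem_sup_right ((Ideal.neg_mem_iff _).mpr (hLu n)))
  · apply hclosed
    intro n
    have e : Lv - v = ((seq n).2.2 - v) + -((seq n).2.2 - Lv) := by ring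
    rw [e]
    exact Ideal.add_mem _ (Ideal.mem_sup_left (hgood n).2.2.1)
      (Ideal.mem_sup_right ((Ideal.neg_mem_iff _).mpr (hLv n)))
  · have hz : Lu * Lv - ι Lα = 0 := by
      apply eq_zero_of_forall_mem_pow 𝔫
      intro n
      have e : Lu * Lv - ι Lα = ((seq n).2.1 * (seq n).2.2 - ι (seq n).1)
          - ((seq n).2.1 - Lu) * (seq n).2.2 - Lu * ((seq n).2.2 - Lv)
          + ι ((seq n).1 - Lα) := by
        rw [map_sub]
        ring
      rw [e]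
      have h1 : (seq n).2.1 * (seq n).2.2 - ι (seq n).1 ∈ 𝔫 ^ n :=
        Ideal.pow_le_pow_right (Nat.le_succ n) (h𝔞pow _ (hgood n).2.2.2.1)
      have h2 : ((seq n).2.1 - Lu) * (seq n).2.2 ∈ 𝔫 ^ n := Ideal.mul_mem_right _ _ (hLu n)
      have h3 : Lu * ((seq n).2.2 - Lv) ∈ 𝔫 ^ n := Ideal.mul_mem_left _ _ (hLv n)
      have h4 : ι ((seq n).1 - Lα) ∈ 𝔫 ^ n := by
        apply h𝔞pow n
        rw [h𝔞, ← Ideal.map_pow]
        exact Ideal.mem_map_of_mem _ (hLα n)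
      exact Ideal.add_mem _ (Ideal.sub_mem _ (Ideal.sub_mem _ h1 h2) h3) h4
    exact sub_eq_zero.mp hz
  · have hz : σ Lu - ι ξ₂ * Lu = 0 := by
      apply eq_zero_of_forall_mem_pow 𝔫
      intro n
      have e : σ Lu - ι ξ₂ * Lu = ι ξ₂ * ((seq n).2.1 - Lu) - σ ((seq n).2.1 - Lu) := by
        rw [map_sub, (hgood n).2.2.2.2.1]
        ring
      rw [e]
      exact Ideal.sub_mem _ (Ideal.mul_mem_left _ _ (hLu n)) (hσ𝔫pow _ _ (hLu n))
    exact sub_eq_zero.mp hz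
  · have hz : σ Lv - ι ξ₁ * Lv = 0 := by
      apply eq_zero_of_forall_mem_pow 𝔫
      intro n
      have e : σ Lv - ι ξ₁ * Lv = ι ξ₁ * ((seq n).2.2 - Lv) - σ ((seq n).2.2 - Lv) := by
        rw [map_sub, (hgood n).2.2.2.2.2.1]
        ring
      rw [e]
      exact Ideal.sub_mem _ (Ideal.mul_mem_left _ _ (hLv n)) (hσ𝔫pow _ _ (hLv n))
    exact sub_eq_zero.mp hz
  · have hz : (1 + ξ₁ * ξ₂) * half * Lα - Lα = 0 := by
      apply eq_zero_of_forall_mem_pow 𝔪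
      intro n
      have e : (1 + ξ₁ * ξ₂) * half * Lα - Lα =
          ((seq n).1 - Lα) - (1 + ξ₁ * ξ₂) * half * ((seq n).1 - Lα) := by
        have h7 := (hgood n).2.2.2.2.2.2
        linear_combination h7
      rw [e]
      exact Ideal.sub_mem _ (hLα n) (Ideal.mul_mem_left _ _ (hLα n))
    exact sub_eq_zero.mp hz

end approx

section complete

/-- Ideals of a Noetherian local ring are closed. -/
theorem closed_ideal {S : Type*} [CommRing S] [IsLocalRing S] [IsNoetherianRing S] (𝔞 : Ideal S)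
    (x : S) (h : ∀ n, x ∈ 𝔞 ⊔ maximalIdeal S ^ n) : x ∈ 𝔞 := by
  have hz : Ideal.Quotient.mk 𝔞 x = 0 := by
    apply IsHausdorff.haus' (I := maximalIdeal S) (M := S ⧸ 𝔞)
    intro n
    rw [SModEq.zero]
    obtain ⟨y, hy, z, hz, hyz⟩ := Submodule.mem_sup.mp (h n)
    have e : Ideal.Quotient.mk 𝔞 x = z • (Ideal.Quotient.mk 𝔞 (1 : S)) := by
      rw [Algebra.smul_def, Ideal.Quotient.algebraMap_eq, ← map_mul, mul_one, ← hyz, map_add,
        Ideal.Quotient.eq_zero_iff_mem.mpr hy, zero_add]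
    rw [e]
    exact Submodule.smul_mem_smul hz Submodule.mem_top
  exact Ideal.Quotient.eq_zero_iff_mem.mp hz

variable {R S : Type u} [CommRing R] [IsLocalRing R] [IsNoetherianRing R]
  [IsAdicComplete (maximalIdeal R) R]
  [CommRing S] [IsLocalRing S] [IsNoetherianRing S] [Algebra R S]

theorem algebraMap_ps_eq_C :
    algebraMap R (MvPowerSeries (Fin 2) R) = (MvPowerSeries.C : R →+* MvPowerSeries (Fin 2) R) := by
  ext a
  rw [MvPowerSeries.algebraMap_apply, Algebra.algebraMap_self, RingHom.id_apply]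

/-- Complete Nakayama: a map `R[[x,y]] → S` over `R` is surjective as soon as the images of
`x, y` generate the maximal ideal of `S` modulo `𝔪_R S` and the residue fields agree. -/
theorem surj_complete (Φ : MvPowerSeries (Fin 2) R →+* S)
    (hC : ∀ x, Φ (MvPowerSeries.C x) = algebraMap R S x)
    (hm : maximalIdeal S = Ideal.span {Φ (MvPowerSeries.X 0), Φ (MvPowerSeries.X 1)} ⊔
      (maximalIdeal R).map (algebraMap R S))
    (hres : ∀ s : S, ∃ r : R, s - algebraMap R S r ∈ maximalIdeal S) : Function.Surjective Φ := by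
  haveI hcomp : IsAdicComplete (maximalIdeal (MvPowerSeries (Fin 2) R))
      (MvPowerSeries (Fin 2) R) := isAdicComplete_mvPowerSeries (Λ := R) (σ := Fin 2)
  set I : Ideal (MvPowerSeries (Fin 2) R) := maximalIdeal (MvPowerSeries (Fin 2) R) with hI
  set 𝔞 : Ideal S := (maximalIdeal R).map (algebraMap R S) with h𝔞
  have hmemI : ∀ g : MvPowerSeries (Fin 2) R,
      g ∈ I ↔ MvPowerSeries.constantCoeff g ∈ maximalIdeal R := by
    intro g
    rw [hI, maximalIdeal_eq_coeffIdeal, mem_coeffIdeal_one]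
  have hXI : ∀ i : Fin 2, (MvPowerSeries.X i : MvPowerSeries (Fin 2) R) ∈ I := by
    intro i
    rw [hmemI, MvPowerSeries.constantCoeff_X]
    exact Ideal.zero_mem _
  have hΦX : ∀ i : Fin 2, Φ (MvPowerSeries.X i) ∈ maximalIdeal S := by
    refine Fin.forall_fin_two.mpr ⟨?_, ?_⟩
    · rw [hm]
      exact Ideal.mem_sup_left (Ideal.subset_span (Set.mem_insert _ _))
    · rw [hm]
      exact Ideal.mem_sup_left (Ideal.subset_span (Set.mem_insert_of_mem _ rfl))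
  have h𝔞le : 𝔞 ≤ maximalIdeal S := by
    rw [hm]
    exact le_sup_right
  have hmap_le : I.map Φ ≤ maximalIdeal S := by
    rw [Ideal.map_le_iff_le_comap]
    intro g hg
    rw [Ideal.mem_comap]
    have hvars : varsIdeal (Fin 2) R ≤ (maximalIdeal S).comap Φ := by
      refine Ideal.span_le.mpr ?_
      rintro _ ⟨i, rfl⟩
      exact hΦX i
    have e : g = MvPowerSeries.C (MvPowerSeries.constantCoeff g) +
        (g - MvPowerSeries.C (MvPowerSeries.constantCoeff g)) := by ring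
    rw [e, map_add, hC]
    exact Ideal.add_mem _ (h𝔞le (Ideal.mem_map_of_mem _ ((hmemI g).mp hg)))
      (hvars (sub_C_mem_varsIdeal g))
  have hne : I.map Φ ≠ ⊤ := fun h =>
    (maximalIdeal.isMaximal S).ne_top (top_le_iff.mp (h ▸ hmap_le))
  haveI : IsHausdorff (I.map Φ) S := IsHausdorff.of_isLocalRing _ _ hne
  have hn_le : maximalIdeal S ≤ I.map Φ := by
    rw [hm]
    refine sup_le (Ideal.span_le.mpr ?_) (Ideal.span_le.mpr ?_)
    · intro x hx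
      rcases hx with rfl | rfl
      · exact Ideal.mem_map_of_mem _ (hXI 0)
      · exact Ideal.mem_map_of_mem _ (hXI 1)
    · rintro _ ⟨m, hm', rfl⟩
      rw [SetLike.mem_coe, ← hC]
      apply Ideal.mem_map_of_mem
      rw [hmemI, MvPowerSeries.constantCoeff_C]
      exact hm'
  apply surjective_of_mk_map_comp_surjective (I := I) Φ
  intro y
  obtain ⟨b, rfl⟩ := Ideal.Quotient.mk_surjective y
  obtain ⟨a, ha⟩ := hres b
  refine ⟨MvPowerSeries.C a, ?_⟩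
  rw [RingHom.comp_apply, hC, Ideal.Quotient.eq, ← neg_sub]
  exact (Ideal.neg_mem_iff _).mpr (hn_le ha)

/-- The kernel of a surjection `R[[x,y]] → S` killing `xy - t`, for `S` flat over `R` with nodal
closed fibre. -/
theorem ker_eq_of_flat_complete [Module.Flat R S] {κ : Type u} [Field κ]
    (ρ : R →+* κ) (hρ : Function.Surjective ρ) (hkρ : RingHom.ker ρ = maximalIdeal R)
    (θ : (S ⧸ (maximalIdeal R).map (algebraMap R S)) ≃+*
      (MvPowerSeries (Fin 2) κ ⧸ Ideal.span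
        {(MvPowerSeries.X 0 * MvPowerSeries.X 1 : MvPowerSeries (Fin 2) κ)}))
    (t : R) (ht : t ∈ maximalIdeal R)
    (Φ : MvPowerSeries (Fin 2) R →+* S)
    (hC : ∀ x, Φ (MvPowerSeries.C x) = algebraMap R S x)
    (hsurj : Function.Surjective Φ)
    (hker : Φ (MvPowerSeries.X 0 * MvPowerSeries.X 1 - MvPowerSeries.C t) = 0) :
    RingHom.ker Φ = Ideal.span
      {(MvPowerSeries.X 0 * MvPowerSeries.X 1 - MvPowerSeries.C t : MvPowerSeries (Fin 2) R)} := by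
  classical
  set J : Ideal (MvPowerSeries (Fin 2) R) := Ideal.span
    {(MvPowerSeries.X 0 * MvPowerSeries.X 1 - MvPowerSeries.C t : MvPowerSeries (Fin 2) R)}
    with hJ
  set K : Ideal (MvPowerSeries (Fin 2) R) := RingHom.ker Φ with hK
  set 𝔟 : Ideal (MvPowerSeries (Fin 2) R) :=
    (maximalIdeal R).map (algebraMap R (MvPowerSeries (Fin 2) R)) with h𝔟
  have hJK : J ≤ K := by
    rw [hJ, Ideal.span_le, Set.singleton_subset_iff]
    exact hker
  have hΦalg : ∀ a : R, Φ (algebraMap R (MvPowerSeries (Fin 2) R) a) = algebraMap R S a := by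
    intro a
    rw [algebraMap_ps_eq_C, hC]
  let red : MvPowerSeries (Fin 2) R →+* MvPowerSeries (Fin 2) κ := MvPowerSeries.map ρ
  have hred : Function.Surjective red := map_surjective' ρ hρ
  have hkred : RingHom.ker red = 𝔟 := by
    rw [h𝔟, algebraMap_ps_eq_C]
    have := ker_map_eq_map_C_of_fg (σ := Fin 2) ρ (by
      rw [hkρ]
      exact (maximalIdeal R).fg_of_isNoetherianRing)
    rw [hkρ] at this
    exact this
  let r : MvPowerSeries (Fin 2) R →+* (MvPowerSeries (Fin 2) κ ⧸ Ideal.span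
      {(MvPowerSeries.X 0 * MvPowerSeries.X 1 : MvPowerSeries (Fin 2) κ)}) :=
    (Ideal.Quotient.mk _).comp red
  have hr : Function.Surjective r := Ideal.Quotient.mk_surjective.comp hred
  have hCt : (MvPowerSeries.C t : MvPowerSeries (Fin 2) R) ∈ 𝔟 := by
    rw [← hkred, RingHom.mem_ker]
    change MvPowerSeries.map ρ (MvPowerSeries.C t) = 0
    rw [MvPowerSeries.map_C]
    have : ρ t = 0 := by
      rw [← RingHom.mem_ker, hkρ]
      exact ht
    rw [this, map_zero]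
  have hkr : RingHom.ker r ≤ J ⊔ 𝔟 := by
    intro F hF
    rw [RingHom.mem_ker, RingHom.comp_apply, Ideal.Quotient.eq_zero_iff_mem,
      Ideal.mem_span_singleton] at hF
    obtain ⟨G', hG'⟩ := hF
    obtain ⟨G, rfl⟩ := hred G'
    have h1 : F - MvPowerSeries.X 0 * MvPowerSeries.X 1 * G ∈ 𝔟 := by
      rw [← hkred, RingHom.mem_ker, map_sub, hG', map_mul, map_mul]
      change _ - MvPowerSeries.map ρ (MvPowerSeries.X 0) *
        MvPowerSeries.map ρ (MvPowerSeries.X 1) * red G = 0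
      rw [MvPowerSeries.map_X, MvPowerSeries.map_X, sub_self]
    have e : F = (MvPowerSeries.X 0 * MvPowerSeries.X 1 - MvPowerSeries.C t) * G +
        (MvPowerSeries.C t * G + (F - MvPowerSeries.X 0 * MvPowerSeries.X 1 * G)) := by ring
    rw [e]
    exact Submodule.add_mem_sup (Ideal.mul_mem_right _ _ (Ideal.mem_span_singleton_self _))
      (Ideal.add_mem _ (Ideal.mul_mem_right _ _ hCt) h1)
  set 𝔞' : Ideal S := (maximalIdeal R).map (algebraMap R S) with h𝔞'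
  let s : MvPowerSeries (Fin 2) R →+* (MvPowerSeries (Fin 2) κ ⧸ Ideal.span
      {(MvPowerSeries.X 0 * MvPowerSeries.X 1 : MvPowerSeries (Fin 2) κ)}) :=
    (θ : _ →+* _).comp ((Ideal.Quotient.mk 𝔞').comp Φ)
  have hs : Function.Surjective s :=
    θ.surjective.comp (Ideal.Quotient.mk_surjective.comp hsurj)
  have hks : ∀ F, F ∈ RingHom.ker s ↔ Φ F ∈ 𝔞' := by
    intro F
    rw [RingHom.mem_ker]
    change θ (Ideal.Quotient.mk 𝔞' (Φ F)) = 0 ↔ _
    rw [map_eq_zero_iff _ θ.injective, Ideal.Quotient.eq_zero_iff_mem]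
  have hJbs : J ⊔ 𝔟 ≤ RingHom.ker s := by
    refine sup_le ?_ ?_
    · intro F hF
      rw [hks]
      have h0 : Φ F = 0 := hJK hF
      rw [h0]
      exact Ideal.zero_mem _
    · rw [h𝔟, Ideal.map_le_iff_le_comap]
      intro m hm
      rw [Ideal.mem_comap, hks, hΦalg]
      exact Ideal.mem_map_of_mem _ hm
  have hsr : RingHom.ker s ≤ RingHom.ker r :=
    ker_le_of_surjective r s hr hs (hkr.trans hJbs)
  have claim : K ≤ J ⊔ 𝔟 := by
    intro F hF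
    apply hkr
    apply hsr
    rw [hks]
    have h0 : Φ F = 0 := hF
    rw [h0]
    exact Ideal.zero_mem _
  let eq0 : (MvPowerSeries (Fin 2) R ⧸ K) ≃+* S := RingHom.quotientKerEquivOfSurjective hsurj
  have heq0 : ∀ F, eq0 (Ideal.Quotient.mk K F) = Φ F := fun F =>
    RingHom.quotientKerEquivOfSurjective_apply_mk hsurj F
  let lin : (MvPowerSeries (Fin 2) R ⧸ K) ≃ₗ[R] S :=
    { toFun := eq0
      map_add' := map_add eq0
      map_smul' := by
        intro a x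
        obtain ⟨F, rfl⟩ := Ideal.Quotient.mk_surjective x
        rw [RingHom.id_apply, Algebra.smul_def, Algebra.smul_def,
          ← Ideal.Quotient.mk_algebraMap, ← map_mul, heq0, heq0, map_mul, hΦalg]
      invFun := eq0.symm
      left_inv := eq0.left_inv
      right_inv := eq0.right_inv }
  haveI hfl3 : Module.Flat R (MvPowerSeries (Fin 2) R ⧸ K) := Module.Flat.of_linearEquiv lin
  have hflat : K ⊓ 𝔟 ≤ 𝔟 * K :=
    Groth.Agent.Lib.R2H3.LocPrincipalAlg.inf_map_le_mul_of_flat_quotient K (maximalIdeal R)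
  have h𝔟max : 𝔟 ≤ maximalIdeal (MvPowerSeries (Fin 2) R) := by
    rw [h𝔟, Ideal.map_le_iff_le_comap]
    intro m hm
    rw [Ideal.mem_comap, algebraMap_ps_eq_C, maximalIdeal_eq_coeffIdeal, mem_coeffIdeal_one,
      MvPowerSeries.constantCoeff_C]
    exact hm
  have hK_le : K ≤ J ⊔ 𝔟 • K := by
    intro F hF
    obtain ⟨j, hj, b, hb, rfl⟩ := Submodule.mem_sup.mp (claim hF)
    have hbK : b ∈ K := by
      have h1 := K.sub_mem hF (hJK hj)
      rwa [add_sub_cancel_left] at h1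
    refine Submodule.mem_sup.mpr ⟨j, hj, b, ?_, rfl⟩
    rw [smul_eq_mul]
    exact hflat ⟨hbK, hb⟩
  have hfin := Submodule.le_of_le_smul_of_le_jacobson_bot (N := J) (N' := K) (I := 𝔟)
    (IsNoetherian.noetherian K) (h𝔟max.trans (IsLocalRing.maximalIdeal_le_jacobson ⊥)) hK_le
  exact le_antisymm hfin hJK

end complete

end Groth.Agent.Lib.R2H7.NodeEquiv
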