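/-
Deformations of a node with an involution that does not exchange the branches:
`S ≃ R[[x,y]]/(xy - t)` equivariantly.
-/
import Mathlib
import Groth.Agent.Lib.R2H7NodeEquiv
import Groth.Agent.Lib.R2H7NodeInv
import Groth.Agent.Lib.R2H7DoublePtNF

set_option autoImplicit false
universe u

namespace Groth.Agent.Lib.R2H7.NodeDeform

open IsLocalRing Groth.Agent.Lib.Helper19 Groth.Agent.Lib.R2H7.ArSingStruct
  Groth.Agent.Lib.R2H7.NodeInv Groth.Agent.Lib.R2H7.DoublePtNF Groth.Agent.Lib.R2H7.DoublePtInv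
  Groth.Agent.Lib.R2H7.NodeEquiv Groth.Agent.Lib.R2H7.NodeCompl

section lin

variable (k : Type u) [Field k]

theorem exists_linHom (a b c d : k) : ∃ f : P k →ₐ[k] P k,
    f (MvPowerSeries.X 0) = a • MvPowerSeries.X 0 + b • MvPowerSeries.X 1 ∧
      f (MvPowerSeries.X 1) = c • MvPowerSeries.X 0 + d • MvPowerSeries.X 1 := by
  have hc := isAdicComplete_P k
  obtain ⟨f, hf⟩ := exists_algHom_X_eq_of_isAdicComplete (Λ := k)
    (IsLocalRing.maximalIdeal (P k))
    (![a • MvPowerSeries.X 0 + b • MvPowerSeries.X 1,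
      c • MvPowerSeries.X 0 + d • MvPowerSeries.X 1] : Fin 2 → P k)
    (Fin.forall_fin_two.mpr ⟨Ideal.add_mem _ (Submodule.smul_of_tower_mem _ a (X_mem k 0))
      (Submodule.smul_of_tower_mem _ b (X_mem k 1)),
      Ideal.add_mem _ (Submodule.smul_of_tower_mem _ c (X_mem k 0))
      (Submodule.smul_of_tower_mem _ d (X_mem k 1))⟩)
  exact ⟨f, hf 0, hf 1⟩

theorem lin_comp (a b c d a' b' c' d' : k) (h1 : a * a' + b * c' = 1) (h2 : a * b' + b * d' = 0)
    (h3 : c * a' + d * c' = 0) (h4 : c * b' + d * d' = 1) (f g : P k →ₐ[k] P k)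
    (hf0 : f (MvPowerSeries.X 0) = a • MvPowerSeries.X 0 + b • MvPowerSeries.X 1)
    (hf1 : f (MvPowerSeries.X 1) = c • MvPowerSeries.X 0 + d • MvPowerSeries.X 1)
    (hg0 : g (MvPowerSeries.X 0) = a' • MvPowerSeries.X 0 + b' • MvPowerSeries.X 1)
    (hg1 : g (MvPowerSeries.X 1) = c' • MvPowerSeries.X 0 + d' • MvPowerSeries.X 1) :
    g.comp f = AlgHom.id k (P k) := by
  have hc := isAdicComplete_P k
  symm
  apply algHom_ext_of_X_of_isHausdorff (IsLocalRing.maximalIdeal (P k))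
  · intro s
    exact X_mem k s
  · refine Fin.forall_fin_two.mpr ⟨?_, ?_⟩
    · have e : g (f (MvPowerSeries.X 0)) =
          (a * a' + b * c') • MvPowerSeries.X 0 + (a * b' + b * d') • MvPowerSeries.X 1 := by
        rw [hf0, map_add, map_smul, map_smul, hg0, hg1]
        simp only [smul_add, smul_smul, add_smul]
        abel
      rw [AlgHom.id_apply, AlgHom.comp_apply, e, h1, h2, one_smul, zero_smul, add_zero]
    · have e : g (f (MvPowerSeries.X 1)) =
          (c * a' + d * c') • MvPowerSeries.X 0 + (c * b' + d * d') • MvPowerSeries.X 1 := by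
        rw [hf1, map_add, map_smul, map_smul, hg0, hg1]
        simp only [smul_add, smul_smul, add_smul]
        abel
      rw [AlgHom.id_apply, AlgHom.comp_apply, e, h3, h4, one_smul, zero_smul, zero_add]

theorem exists_lin (h2 : (2 : k) ≠ 0) : ∃ Ψ : P k ≃ₐ[k] P k,
    Ψ (MvPowerSeries.X 0) = MvPowerSeries.X 1 - MvPowerSeries.X 0 ∧
      Ψ (MvPowerSeries.X 1) = MvPowerSeries.X 1 + MvPowerSeries.X 0 := by
  have hh : (2 : k)⁻¹ + (2 : k)⁻¹ = 1 := by
    field_simp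
    norm_num
  obtain ⟨f, hf0, hf1⟩ := exists_linHom k (-1) 1 1 1
  obtain ⟨g, hg0, hg1⟩ := exists_linHom k (-(2 : k)⁻¹) (2 : k)⁻¹ (2 : k)⁻¹ (2 : k)⁻¹
  refine ⟨AlgEquiv.ofAlgHom f g
    (lin_comp k (-(2 : k)⁻¹) (2 : k)⁻¹ (2 : k)⁻¹ (2 : k)⁻¹ (-1) 1 1 1 ?_ ?_ ?_ ?_ g f hg0 hg1 hf0 hf1)
    (lin_comp k (-1) 1 1 1 (-(2 : k)⁻¹) (2 : k)⁻¹ (2 : k)⁻¹ (2 : k)⁻¹ ?_ ?_ ?_ ?_ f g hf0 hf1 hg0 hg1),
    ?_, ?_⟩
  · linear_combination hh
  · ring
  · ring
  · linear_combination hh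
  · linear_combination hh
  · ring
  · ring
  · linear_combination hh
  · show f (MvPowerSeries.X 0) = _
    rw [hf0, neg_smul, one_smul, one_smul]
    ring
  · show f (MvPowerSeries.X 1) = _
    rw [hf1, one_smul, one_smul]
    ring

theorem nodeEquiv (h2 : (2 : k) ≠ 0) : Nonempty (ArSing.ring k 1 ≃ₐ[k]
    (P k ⧸ Ideal.span {(MvPowerSeries.X 0 * MvPowerSeries.X 1 : P k)})) := by
  obtain ⟨Ψ, h0, h1⟩ := exists_lin k h2
  have h4 : (4 : k) ≠ 0 := by
    have e : (4 : k) = 2 * 2 := by norm_num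
    rw [e]
    exact mul_ne_zero h2 h2
  refine quotEquivOfMap Ψ (ArSing.eqn k 1) (MvPowerSeries.X 0 * MvPowerSeries.X 1)
    (algebraMap k (P k) 4) ((IsUnit.mk0 (4 : k) h4).map (algebraMap k (P k))) ?_
  rw [ArSing.eqn, map_sub, map_pow, map_pow, h0, h1, map_ofNat]
  ring

theorem mem_maximalIdeal_iff_cc (a : ArSing.ring k 1) :
    a ∈ maximalIdeal (ArSing.ring k 1) ↔ PowerSeries.constantCoeff (P1 k a) = 0 := by
  constructor
  · intro ha
    exact (ps_mem_maximalIdeal k).mp (algHom_mem_maximalIdeal_ps k 1 (P1 k) ha)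
  · intro h
    by_contra hna
    have hu : IsUnit a := IsLocalRing.notMem_maximalIdeal.mp hna
    have hu' : IsUnit (P1 k a) := hu.map (P1 k)
    rw [PowerSeries.isUnit_iff_constantCoeff] at hu'
    exact hu'.ne_zero h

/-- The closed-fibre analysis: an involution of the node algebra preserving the two branches has
eigen-generators of the maximal ideal, one on each branch. -/
theorem fibre_analysis (h2 : (2 : k) ≠ 0) (τ : ArSing.ring k 1 →ₐ[k] ArSing.ring k 1)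
    (hτ : ∀ a, τ (τ a) = a)
    (hn1 : ∀ a, P1 k a = 0 → P1 k (τ a) = 0) (hn2 : ∀ a, P2 k a = 0 → P2 k (τ a) = 0) :
    ∃ (c₁ c₂ : k) (ub vb : ArSing.ring k 1), (c₁ = 1 ∨ c₁ = -1) ∧ (c₂ = 1 ∨ c₂ = -1) ∧
      ub * vb = 0 ∧ τ ub = c₁ • ub ∧ τ vb = c₂ • vb ∧
      (∀ a ∈ maximalIdeal (ArSing.ring k 1), ∃ b c, a = b * ub + c * vb) ∧
      ub ∈ maximalIdeal (ArSing.ring k 1) ∧ vb ∈ maximalIdeal (ArSing.ring k 1) := by
  obtain ⟨θ₁, hθ₁⟩ := exists_factor k (P1 k) ((P1 k).comp τ) (P1_surjective k h2)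
    (fun a ha => by rw [AlgHom.comp_apply]; exact hn1 a ha)
  obtain ⟨θ₂, hθ₂⟩ := exists_factor k (P2 k) ((P2 k).comp τ) (P2_surjective k h2)
    (fun a ha => by rw [AlgHom.comp_apply]; exact hn2 a ha)
  have hθ₁' : ∀ a, P1 k (τ a) = θ₁ (P1 k a) := fun a => hθ₁ a
  have hθ₂' : ∀ a, P2 k (τ a) = θ₂ (P2 k a) := fun a => hθ₂ a
  have hθ₁inv : ∀ f, θ₁ (θ₁ f) = f := by
    intro f
    obtain ⟨a, rfl⟩ := P1_surjective k h2 f
    rw [← hθ₁', ← hθ₁', hτ]
  have hθ₂inv : ∀ f, θ₂ (θ₂ f) = f := by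
    intro f
    obtain ⟨a, rfl⟩ := P2_surjective k h2 f
    rw [← hθ₂', ← hθ₂', hτ]
  obtain ⟨c₁, χ₁, hc₁, hχ₁⟩ := exists_linearize k h2 θ₁ hθ₁inv
  obtain ⟨c₂, χ₂, hc₂, hχ₂⟩ := exists_linearize k h2 θ₂ hθ₂inv
  have hcc1 : PowerSeries.constantCoeff (χ₁ PowerSeries.X) = 0 := cc_X_algHom k χ₁.toAlgHom
  have hcc2 : PowerSeries.constantCoeff (χ₂ PowerSeries.X) = 0 := cc_X_algHom k χ₂.toAlgHom
  obtain ⟨ub, hu1, hu2⟩ := exists_branch k h2 (χ₁ PowerSeries.X) 0 (by rw [map_zero]; exact hcc1)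
  obtain ⟨vb, hv1, hv2⟩ := exists_branch k h2 0 (χ₂ PowerSeries.X) (by rw [map_zero]; exact hcc2.symm)
  refine ⟨c₁, c₂, ub, vb, hc₁, hc₂, ?_, ?_, ?_, ?_, ?_, ?_⟩
  · exact branch_eq_zero k h2 (by rw [map_mul, hu1, hv1, mul_zero])
      (by rw [map_mul, hu2, zero_mul])
  · exact branch_ext k h2 (by rw [hθ₁', hu1, hχ₁, map_smul, hu1])
      (by rw [hθ₂', hu2, map_zero, map_smul, hu2, smul_zero])
  · exact branch_ext k h2 (by rw [hθ₁', hv1, map_zero, map_smul, hv1, smul_zero])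
      (by rw [hθ₂', hv2, hχ₂, map_smul, hv2])
  · intro a ha
    have ha1 : PowerSeries.constantCoeff (P1 k a) = 0 := (mem_maximalIdeal_iff_cc k a).mp ha
    have ha2 : PowerSeries.constantCoeff (P2 k a) = 0 := by
      rw [← constantCoeff_P1_eq_P2]; exact ha1
    have hd1 : (PowerSeries.X : PowerSeries k) ∣ χ₁.symm (P1 k a) := by
      rw [PowerSeries.X_dvd_iff]
      have := cc_algHom k χ₁.symm.toAlgHom (P1 k a)
      rw [← ha1]; exact this
    have hd2 : (PowerSeries.X : PowerSeries k) ∣ χ₂.symm (P2 k a) := by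
      rw [PowerSeries.X_dvd_iff]
      have := cc_algHom k χ₂.symm.toAlgHom (P2 k a)
      rw [← ha2]; exact this
    obtain ⟨g₁, hg₁⟩ := hd1
    obtain ⟨g₂, hg₂⟩ := hd2
    have e1 : P1 k a = χ₁ PowerSeries.X * χ₁ g₁ := by
      rw [← map_mul, ← hg₁, AlgEquiv.apply_symm_apply]
    have e2 : P2 k a = χ₂ PowerSeries.X * χ₂ g₂ := by
      rw [← map_mul, ← hg₂, AlgEquiv.apply_symm_apply]
    obtain ⟨b, hb⟩ := P1_surjective k h2 (χ₁ g₁)
    obtain ⟨c, hc⟩ := P2_surjective k h2 (χ₂ g₂)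
    refine ⟨b, c, branch_ext k h2 ?_ ?_⟩
    · rw [map_add, map_mul, map_mul, hb, hu1, hv1, mul_zero, add_zero, e1, mul_comm]
    · rw [map_add, map_mul, map_mul, hu2, mul_zero, zero_add, hc, hv2, e2, mul_comm]
  · exact (mem_maximalIdeal_iff_cc k ub).mpr (by rw [hu1]; exact hcc1)
  · exact (mem_maximalIdeal_iff_cc k vb).mpr (by rw [hv1, map_zero])

end lin

section generic

theorem ker_comp_mem_minimalPrimes {S N D : Type*} [CommRing S] [CommRing N] [CommRing D]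
    [IsDomain D] (f : S →+* N) (hf : Function.Surjective f) (P : N →+* D) (w : N) (hw : P w ≠ 0)
    (hkw : ∀ a, P a = 0 → a * w = 0) :
    RingHom.ker (P.comp f) ∈ (RingHom.ker f).minimalPrimes := by
  haveI : (RingHom.ker (P.comp f)).IsPrime := RingHom.ker_isPrime _
  refine ⟨⟨inferInstance, ?_⟩, ?_⟩
  · intro s hs
    rw [RingHom.mem_ker] at hs ⊢
    rw [RingHom.comp_apply, hs, map_zero]
  · rintro q ⟨hq, hfq⟩ hle s hs
    obtain ⟨w₀, rfl⟩ := hf w
    have hs' : P (f s) = 0 := by rwa [RingHom.mem_ker, RingHom.comp_apply] at hs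
    have h1 : s * w₀ ∈ q := by
      apply hfq
      rw [RingHom.mem_ker, map_mul]
      exact hkw _ hs'
    rcases hq.mem_or_mem h1 with h | h
    · exact h
    · exfalso
      have := hle h
      rw [RingHom.mem_ker, RingHom.comp_apply] at this
      exact hw this

theorem span_pair_sup_le {S : Type*} [CommRing S] {u v u' v' : S} {𝔞 : Ideal S}
    (hu : u' - u ∈ 𝔞) (hv : v' - v ∈ 𝔞) :
    Ideal.span {u', v'} ⊔ 𝔞 ≤ Ideal.span {u, v} ⊔ 𝔞 := by
  refine sup_le ?_ le_sup_right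
  rw [Ideal.span_le]
  intro x hx
  rcases hx with hx | hx
  · have e : x = u + (u' - u) := by rw [hx]; ring
    rw [e]
    exact Ideal.add_mem _ (Ideal.mem_sup_left (Ideal.subset_span (Set.mem_insert _ _)))
      (Ideal.mem_sup_right hu)
  · have e : x = v + (v' - v) := by rw [Set.mem_singleton_iff.mp hx]; ring
    rw [e]
    exact Ideal.add_mem _
      (Ideal.mem_sup_left (Ideal.subset_span (Set.mem_insert_of_mem _ (Set.mem_singleton _))))
      (Ideal.mem_sup_right hv)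

end generic

section complete

variable {R S : Type u} [CommRing R] [IsLocalRing R] [IsNoetherianRing R]
  [IsAdicComplete (maximalIdeal R) R]
  [CommRing S] [IsLocalRing S] [IsNoetherianRing S] [IsAdicComplete (maximalIdeal S) S]
  [Algebra R S] [IsLocalHom (algebraMap R S)] [Module.Flat R S]

/-- The generic equivariant structure theorem over complete local rings. -/
theorem main_complete {κ : Type u} [Field κ] (ρ : R →+* κ) (hρ : Function.Surjective ρ)
    (hkρ : RingHom.ker ρ = maximalIdeal R)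
    (θ : (S ⧸ (maximalIdeal R).map (algebraMap R S)) ≃+*
      (MvPowerSeries (Fin 2) κ ⧸ Ideal.span
        {(MvPowerSeries.X 0 * MvPowerSeries.X 1 : MvPowerSeries (Fin 2) κ)}))
    (hres : ∀ s : S, ∃ r : R, s - algebraMap R S r ∈ maximalIdeal S)
    (u v : S) (huv : u * v ∈ (maximalIdeal R).map (algebraMap R S))
    (hgen : maximalIdeal S = Ideal.span {u, v} ⊔ (maximalIdeal R).map (algebraMap R S))
    (σ : S ≃ₐ[R] S) (hσσ : ∀ s, σ (σ s) = s)
    (ξ₁ ξ₂ half : R) (hξ₁ : ξ₁ * ξ₁ = 1) (hξ₂ : ξ₂ * ξ₂ = 1) (hhalf : 2 * half = 1)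
    (hσu : σ u = algebraMap R S ξ₂ * u) (hσv : σ v = algebraMap R S ξ₁ * v) :
    ∃ t : R, t ∈ maximalIdeal R ∧ (1 + ξ₁ * ξ₂) * half * t = t ∧
      ∃ f : S ≃ₐ[R] (MvPowerSeries (Fin 2) R ⧸ Ideal.span
          {(MvPowerSeries.X 0 * MvPowerSeries.X 1 - MvPowerSeries.C t :
            MvPowerSeries (Fin 2) R)}),
        f (σ (f.symm (Ideal.Quotient.mk _ (MvPowerSeries.X 0)))) =
          ξ₂ • Ideal.Quotient.mk _ (MvPowerSeries.X 0) ∧
        f (σ (f.symm (Ideal.Quotient.mk _ (MvPowerSeries.X 1)))) =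
          ξ₁ • Ideal.Quotient.mk _ (MvPowerSeries.X 1) := by
  set 𝔞 : Ideal S := (maximalIdeal R).map (algebraMap R S) with h𝔞
  have h𝔞le : 𝔞 ≤ maximalIdeal S :=
    Ideal.map_le_iff_le_comap.mpr (le_of_eq (IsLocalRing.maximalIdeal_comap (algebraMap R S)).symm)
  have hum : u ∈ maximalIdeal S := by
    rw [hgen]; exact Ideal.mem_sup_left (Ideal.subset_span (Set.mem_insert _ _))
  have hvm : v ∈ maximalIdeal S := by
    rw [hgen]
    exact Ideal.mem_sup_left (Ideal.subset_span (Set.mem_insert_of_mem _ (Set.mem_singleton _)))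
  have hex : ∀ u' v' : S, u' ∈ maximalIdeal S → v' ∈ maximalIdeal S →
      ∃ Φ : MvPowerSeries (Fin 2) R →ₐ[R] S,
        Φ (MvPowerSeries.X 0) = u' ∧ Φ (MvPowerSeries.X 1) = v' := by
    intro u' v' hu' hv'
    obtain ⟨Φ, hΦ⟩ := exists_algHom_X_eq_of_isAdicComplete (Λ := R) (σ := Fin 2) (E := S)
      (maximalIdeal S) (![u', v'] : Fin 2 → S) (Fin.forall_fin_two.mpr ⟨hu', hv'⟩)
    exact ⟨Φ, hΦ 0, hΦ 1⟩
  have hC : ∀ (Φ : MvPowerSeries (Fin 2) R →ₐ[R] S) (x : R),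
      Φ.toRingHom (MvPowerSeries.C x) = algebraMap R S x := by
    intro Φ x
    have h1 := Φ.commutes x
    rw [MvPowerSeries.algebraMap_apply, Algebra.algebraMap_self, RingHom.id_apply] at h1
    exact h1
  -- the decomposition
  obtain ⟨Φ₀, hΦ₀0, hΦ₀1⟩ := hex u v hum hvm
  have h00 : Φ₀.toRingHom (MvPowerSeries.X 0) = u := hΦ₀0
  have h01 : Φ₀.toRingHom (MvPowerSeries.X 1) = v := hΦ₀1
  have hsurj₀ : Function.Surjective Φ₀.toRingHom :=
    surj_complete Φ₀.toRingHom (hC Φ₀) (by rw [h00, h01]; exact hgen) hres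
  have hdec : ∀ b : S, ∃ (a : R) (p q : S), b = algebraMap R S a + u * p + v * q := by
    intro b
    obtain ⟨F, rfl⟩ := hsurj₀ b
    obtain ⟨F1, F2, hF⟩ := ps_decomp F
    refine ⟨MvPowerSeries.constantCoeff F, Φ₀.toRingHom F1, Φ₀.toRingHom F2, ?_⟩
    conv_lhs => rw [hF]
    rw [map_add, map_add, map_mul, map_mul, hC Φ₀, h00, h01]
  have hσm : ∀ x ∈ maximalIdeal S, (σ : S →+* S) x ∈ maximalIdeal S := by
    intro x hx
    rw [mem_maximalIdeal, mem_nonunits_iff] at hx ⊢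
    intro hu
    apply hx
    have := hu.map σ.symm
    rwa [show σ.symm ((σ : S →+* S) x) = x from σ.symm_apply_apply x] at this
  obtain ⟨t, u', v', ht, hu', hv', huv', hσu', hσv', hct⟩ :=
    exists_approx_equivariant (algebraMap R S) (maximalIdeal R) (maximalIdeal S) u v h𝔞le
      (closed_ideal 𝔞) hdec huv (σ : S →+* S) (fun a => σ.commutes a) hσσ hσm ξ₁ ξ₂ half
      hξ₁ hξ₂ hhalf hσu hσv
  have hu'm : u' ∈ maximalIdeal S := by
    have e : u' = (u' - u) + u := by ring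
    rw [e]
    exact Ideal.add_mem _ (h𝔞le hu') hum
  have hv'm : v' ∈ maximalIdeal S := by
    have e : v' = (v' - v) + v := by ring
    rw [e]
    exact Ideal.add_mem _ (h𝔞le hv') hvm
  obtain ⟨Φ, hΦ0, hΦ1⟩ := hex u' v' hu'm hv'm
  have h0 : Φ.toRingHom (MvPowerSeries.X 0) = u' := hΦ0
  have h1 : Φ.toRingHom (MvPowerSeries.X 1) = v' := hΦ1
  have hspan : Ideal.span {u', v'} ⊔ 𝔞 = Ideal.span {u, v} ⊔ 𝔞 := by
    apply le_antisymm
    · exact span_pair_sup_le hu' hv'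
    · apply span_pair_sup_le
      · have e : u - u' = -(u' - u) := by ring
        rw [e]; exact neg_mem hu'
      · have e : v - v' = -(v' - v) := by ring
        rw [e]; exact neg_mem hv'
  have hsurj : Function.Surjective Φ.toRingHom :=
    surj_complete Φ.toRingHom (hC Φ) (by rw [h0, h1, hspan]; exact hgen) hres
  have hker0 : Φ.toRingHom
      (MvPowerSeries.X 0 * MvPowerSeries.X 1 - MvPowerSeries.C t) = 0 := by
    rw [map_sub, map_mul, h0, h1, hC Φ, huv', sub_self]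
  have hker := ker_eq_of_flat_complete ρ hρ hkρ θ t ht Φ.toRingHom (hC Φ) hsurj hker0
  have hker' : RingHom.ker Φ = Ideal.span
      {(MvPowerSeries.X 0 * MvPowerSeries.X 1 - MvPowerSeries.C t :
        MvPowerSeries (Fin 2) R)} := by
    rw [← hker]
    ext g
    rw [RingHom.mem_ker, RingHom.mem_ker]
    rfl
  have hsurj' : Function.Surjective Φ := hsurj
  let F : (MvPowerSeries (Fin 2) R ⧸ Ideal.span
      {(MvPowerSeries.X 0 * MvPowerSeries.X 1 - MvPowerSeries.C t :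
        MvPowerSeries (Fin 2) R)}) ≃ₐ[R] S :=
    (Ideal.quotientEquivAlgOfEq R hker'.symm).trans (Ideal.quotientKerAlgEquivOfSurjective hsurj')
  have hF : ∀ g, F (Ideal.Quotient.mk _ g) = Φ g := fun g => rfl
  refine ⟨t, ht, hct, F.symm, ?_, ?_⟩
  · rw [AlgEquiv.symm_symm, hF, hΦ0, AlgEquiv.symm_apply_eq, map_smul, hF, hΦ0,
      Algebra.smul_def]
    exact hσu'
  · rw [AlgEquiv.symm_symm, hF, hΦ1, AlgEquiv.symm_apply_eq, map_smul, hF, hΦ1,
      Algebra.smul_def]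
    exact hσv'

end complete

section final

/-- Node deformation with an involution not exchanging the branches. -/
theorem main (k R S : Type u) [Field k] (h2 : (2 : k) ≠ 0)
    [CommRing R] [IsLocalRing R] [IsNoetherianRing R] [IsAdicComplete (IsLocalRing.maximalIdeal R) R]
    [CommRing S] [IsLocalRing S] [IsNoetherianRing S] [IsAdicComplete (IsLocalRing.maximalIdeal S) S]
    [Algebra k R] [Algebra R S] [Algebra k S] [IsScalarTower k R S]
    [IsLocalHom (algebraMap R S)] [Module.Flat R S]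
    (e : (S ⧸ Ideal.map (algebraMap R S) (IsLocalRing.maximalIdeal R)) ≃ₐ[k] ArSing.ring k 1)
    (σ : S ≃ₐ[R] S) (hσ : ∀ s, σ (σ s) = s)
    (hbr : ∀ P ∈ (Ideal.map (algebraMap R S) (IsLocalRing.maximalIdeal R)).minimalPrimes,
      Ideal.map (σ : S →+* S) P = P) :
    ∃ (t : R) (ξ₁ ξ₂ : k), ξ₁ ^ 2 = 1 ∧ ξ₂ ^ 2 = 1 ∧ (ξ₁ = -ξ₂ → t = 0) ∧
      ∃ f : S ≃ₐ[R] (MvPowerSeries (Fin 2) R ⧸
          Ideal.span {(MvPowerSeries.X 0 * MvPowerSeries.X 1 - MvPowerSeries.C t :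
            MvPowerSeries (Fin 2) R)}),
        f (σ (f.symm (Ideal.Quotient.mk _ (MvPowerSeries.X 0)))) =
          algebraMap k R ξ₂ • Ideal.Quotient.mk _ (MvPowerSeries.X 0) ∧
        f (σ (f.symm (Ideal.Quotient.mk _ (MvPowerSeries.X 1)))) =
          algebraMap k R ξ₁ • Ideal.Quotient.mk _ (MvPowerSeries.X 1) := by
  set 𝔞 : Ideal S := Ideal.map (algebraMap R S) (IsLocalRing.maximalIdeal R) with h𝔞
  have h𝔞le : 𝔞 ≤ maximalIdeal S :=
    Ideal.map_le_iff_le_comap.mpr (le_of_eq (IsLocalRing.maximalIdeal_comap (algebraMap R S)).symm)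
  let f : S →ₐ[k] ArSing.ring k 1 := e.toAlgHom.comp (Ideal.Quotient.mkₐ k 𝔞)
  have hf : ∀ s, f s = e (Ideal.Quotient.mk 𝔞 s) := fun s => rfl
  have hfsurj : Function.Surjective f := by
    intro a
    obtain ⟨b, rfl⟩ := e.surjective a
    obtain ⟨s, rfl⟩ := Ideal.Quotient.mk_surjective b
    exact ⟨s, rfl⟩
  have hfker : ∀ s, f s = 0 ↔ s ∈ 𝔞 := by
    intro s
    rw [hf, EmbeddingLike.map_eq_zero_iff, Ideal.Quotient.eq_zero_iff_mem]
  have hfι : ∀ c : k, f (algebraMap R S (algebraMap k R c)) = algebraMap k (ArSing.ring k 1) c := by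
    intro c
    rw [← IsScalarTower.algebraMap_apply k R S, AlgHom.commutes]
  haveI hfloc : IsLocalHom (f : S →+* ArSing.ring k 1) :=
    Function.Surjective.isLocalHom (f : S →+* ArSing.ring k 1) hfsurj
  have hfmem : ∀ s, f s ∈ maximalIdeal (ArSing.ring k 1) ↔ s ∈ maximalIdeal S := by
    intro s
    rw [mem_maximalIdeal, mem_maximalIdeal]
    exact map_mem_nonunits_iff (f : S →+* ArSing.ring k 1) s
  -- the induced involution of the closed fibre
  have hσ𝔞 : 𝔞 ≤ Ideal.comap (σ.toAlgHom.restrictScalars k) 𝔞 := by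
    rw [h𝔞, Ideal.map_le_iff_le_comap]
    intro r hr
    rw [Ideal.mem_comap, Ideal.mem_comap]
    have e1 : (σ.toAlgHom.restrictScalars k) (algebraMap R S r) = algebraMap R S r := σ.commutes r
    rw [e1]
    exact Ideal.mem_map_of_mem _ hr
  let σb : (S ⧸ 𝔞) →ₐ[k] (S ⧸ 𝔞) := Ideal.quotientMapₐ 𝔞 (σ.toAlgHom.restrictScalars k) hσ𝔞
  have hσb : ∀ s, σb (Ideal.Quotient.mk 𝔞 s) = Ideal.Quotient.mk 𝔞 (σ s) := fun s => rfl
  let τ : ArSing.ring k 1 →ₐ[k] ArSing.ring k 1 :=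
    (e.toAlgHom.comp σb).comp e.symm.toAlgHom
  have hτf : ∀ s, τ (f s) = f (σ s) := by
    intro s
    show e (σb (e.symm (e (Ideal.Quotient.mk 𝔞 s)))) = e (Ideal.Quotient.mk 𝔞 (σ s))
    rw [AlgEquiv.symm_apply_apply, hσb]
  have hττ : ∀ a, τ (τ a) = a := by
    intro a
    obtain ⟨s, rfl⟩ := hfsurj a
    rw [hτf, hτf, hσ]
  -- the involution does not exchange the branches
  have hkerf : RingHom.ker (f : S →+* ArSing.ring k 1) = 𝔞 :=
    Ideal.ext fun s => by rw [RingHom.mem_ker]; exact hfker s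
  have hP1u : (P1 k : ArSing.ring k 1 →+* PowerSeries k) (ArSing.x k 1 + ArSing.y k 1) ≠ 0 := by
    show P1 k (ArSing.x k 1 + ArSing.y k 1) ≠ 0
    rw [P1_u]; exact XX_ne_zero k h2
  have hP2v : (P2 k : ArSing.ring k 1 →+* PowerSeries k) (ArSing.y k 1 - ArSing.x k 1) ≠ 0 := by
    show P2 k (ArSing.y k 1 - ArSing.x k 1) ≠ 0
    rw [P2_v, neg_ne_zero]; exact XX_ne_zero k h2
  have hmin1 : RingHom.ker ((P1 k : ArSing.ring k 1 →+* PowerSeries k).comp
      (f : S →+* ArSing.ring k 1)) ∈ 𝔞.minimalPrimes := by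
    rw [← hkerf]
    exact ker_comp_mem_minimalPrimes _ hfsurj _ (ArSing.x k 1 + ArSing.y k 1) hP1u
      (fun a ha => mul_u_eq_zero_of_P1 k h2 ha)
  have hmin2 : RingHom.ker ((P2 k : ArSing.ring k 1 →+* PowerSeries k).comp
      (f : S →+* ArSing.ring k 1)) ∈ 𝔞.minimalPrimes := by
    rw [← hkerf]
    exact ker_comp_mem_minimalPrimes _ hfsurj _ (ArSing.y k 1 - ArSing.x k 1) hP2v
      (fun a ha => mul_v_eq_zero_of_P2 k h2 ha)
  have hn1 : ∀ a, P1 k a = 0 → P1 k (τ a) = 0 := by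
    intro a ha
    obtain ⟨s, rfl⟩ := hfsurj a
    rw [hτf]
    have hs : s ∈ RingHom.ker ((P1 k : ArSing.ring k 1 →+* PowerSeries k).comp
        (f : S →+* ArSing.ring k 1)) := by
      rw [RingHom.mem_ker]; exact ha
    have hσs := Ideal.mem_map_of_mem (σ : S →+* S) hs
    rw [hbr _ hmin1, RingHom.mem_ker] at hσs
    exact hσs
  have hn2 : ∀ a, P2 k a = 0 → P2 k (τ a) = 0 := by
    intro a ha
    obtain ⟨s, rfl⟩ := hfsurj a
    rw [hτf]
    have hs : s ∈ RingHom.ker ((P2 k : ArSing.ring k 1 →+* PowerSeries k).comp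
        (f : S →+* ArSing.ring k 1)) := by
      rw [RingHom.mem_ker]; exact ha
    have hσs := Ideal.mem_map_of_mem (σ : S →+* S) hs
    rw [hbr _ hmin2, RingHom.mem_ker] at hσs
    exact hσs
  obtain ⟨c₁, c₂, ub, vb, hc₁, hc₂, huvb, hτu, hτv, hgenb, hubm, hvbm⟩ :=
    fibre_analysis k h2 τ hττ hn1 hn2
  have hc₁sq : c₁ * c₁ = 1 := by rcases hc₁ with rfl | rfl <;> ring
  have hc₂sq : c₂ * c₂ = 1 := by rcases hc₂ with rfl | rfl <;> ring
  obtain ⟨u₀, hu₀⟩ := hfsurj ub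
  obtain ⟨v₀, hv₀⟩ := hfsurj vb
  have hξ₂ : algebraMap k R c₁ * algebraMap k R c₁ = 1 := by rw [← map_mul, hc₁sq, map_one]
  have hξ₁ : algebraMap k R c₂ * algebraMap k R c₂ = 1 := by rw [← map_mul, hc₂sq, map_one]
  have hhalf : (2 : R) * algebraMap k R (2 : k)⁻¹ = 1 := by
    have e2 : (2 : R) = algebraMap k R 2 := (map_ofNat _ 2).symm
    rw [e2, ← map_mul, mul_inv_cancel₀ h2, map_one]
  have hhN : algebraMap k (ArSing.ring k 1) (2 : k)⁻¹ * 2 = 1 := by
    have e2 : (2 : ArSing.ring k 1) = algebraMap k (ArSing.ring k 1) 2 := (map_ofNat _ 2).symm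
    rw [e2, ← map_mul, inv_mul_cancel₀ h2, map_one]
  -- the eigen-lifts
  have key : ∀ (c : k) (w₀ : S) (wb : ArSing.ring k 1), c * c = 1 → f w₀ = wb → τ wb = c • wb →
      ∃ w : S, f w = wb ∧ σ w = algebraMap R S (algebraMap k R c) * w := by
    intro c w₀ wb hcsq hw₀ hτw
    have hcN : algebraMap k (ArSing.ring k 1) c * algebraMap k (ArSing.ring k 1) c = 1 := by
      rw [← map_mul, hcsq, map_one]
    have hcS : algebraMap R S (algebraMap k R c) * algebraMap R S (algebraMap k R c) = 1 := by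
      rw [← map_mul, ← map_mul, hcsq, map_one, map_one]
    refine ⟨algebraMap R S (algebraMap k R (2 : k)⁻¹) *
      (w₀ + algebraMap R S (algebraMap k R c) * σ w₀), ?_, ?_⟩
    · have hsm : c • wb = algebraMap k (ArSing.ring k 1) c * wb := Algebra.smul_def c wb
      rw [map_mul, map_add, map_mul, hfι, hfι, ← hτf, hw₀, hτw, hsm]
      linear_combination wb * hhN +
        (algebraMap k (ArSing.ring k 1) (2 : k)⁻¹ * wb) * hcN
    · rw [map_mul, map_add, map_mul, AlgEquiv.commutes, AlgEquiv.commutes, hσ]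
      linear_combination (-(algebraMap R S (algebraMap k R (2 : k)⁻¹) * σ w₀)) * hcS
  obtain ⟨u, hfu, hσu⟩ := key c₁ u₀ ub hc₁sq hu₀ hτu
  obtain ⟨v, hfv, hσv⟩ := key c₂ v₀ vb hc₂sq hv₀ hτv
  have huv : u * v ∈ 𝔞 := by
    rw [← hfker, map_mul, hfu, hfv, huvb]
  have hum : u ∈ maximalIdeal S := (hfmem u).mp (by rw [hfu]; exact hubm)
  have hvm : v ∈ maximalIdeal S := (hfmem v).mp (by rw [hfv]; exact hvbm)
  have hgen : maximalIdeal S = Ideal.span {u, v} ⊔ 𝔞 := by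
    apply le_antisymm
    · intro s hs
      obtain ⟨b, c, hbc⟩ := hgenb (f s) ((hfmem s).mpr hs)
      obtain ⟨b₀, rfl⟩ := hfsurj b
      obtain ⟨c₀, rfl⟩ := hfsurj c
      have h1 : s - (b₀ * u + c₀ * v) ∈ 𝔞 := by
        rw [← hfker, map_sub, map_add, map_mul, map_mul, hfu, hfv, hbc, sub_self]
      have e1 : s = (b₀ * u + c₀ * v) + (s - (b₀ * u + c₀ * v)) := by ring
      rw [e1]
      exact Ideal.add_mem _ (Ideal.mem_sup_left (Ideal.mem_span_pair.mpr ⟨b₀, c₀, rfl⟩))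
        (Ideal.mem_sup_right h1)
    · refine sup_le ?_ h𝔞le
      rw [Ideal.span_le]
      intro x hx
      rcases hx with hx | hx
      · rw [hx]; exact hum
      · rw [Set.mem_singleton_iff.mp hx]; exact hvm
  have hres : ∀ s : S, ∃ r : R, s - algebraMap R S r ∈ maximalIdeal S := by
    intro s
    refine ⟨algebraMap k R (PowerSeries.constantCoeff (P1 k (f s))), ?_⟩
    rw [← hfmem, map_sub, hfι, mem_maximalIdeal_iff_cc, map_sub, map_sub, AlgHom.commutes,
      cc_algebraMap, sub_self]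
  -- the residue map
  let ρ : R →+* k := (PowerSeries.constantCoeff : PowerSeries k →+* k).comp
    ((P1 k : ArSing.ring k 1 →+* PowerSeries k).comp
      ((f : S →+* ArSing.ring k 1).comp (algebraMap R S)))
  have hρdef : ∀ r, ρ r = PowerSeries.constantCoeff (P1 k (f (algebraMap R S r))) := fun r => rfl
  have hρ : Function.Surjective ρ := by
    intro c
    refine ⟨algebraMap k R c, ?_⟩
    rw [hρdef, hfι, AlgHom.commutes, cc_algebraMap]
  have hkρ : RingHom.ker ρ = maximalIdeal R := by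
    ext r
    rw [RingHom.mem_ker, hρdef, ← mem_maximalIdeal_iff_cc, hfmem, mem_maximalIdeal,
      mem_maximalIdeal]
    exact map_mem_nonunits_iff (algebraMap R S) r
  obtain ⟨ne⟩ := nodeEquiv k h2
  obtain ⟨t, ht, hct, F, hF0, hF1⟩ := main_complete ρ hρ hkρ
    (e.toRingEquiv.trans ne.toRingEquiv) hres u v huv hgen σ hσ
    (algebraMap k R c₂) (algebraMap k R c₁) (algebraMap k R (2 : k)⁻¹) hξ₁ hξ₂ hhalf hσu hσv
  refine ⟨t, c₂, c₁, ?_, ?_, ?_, F, hF0, hF1⟩
  · rw [pow_two]; exact hc₂sq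
  · rw [pow_two]; exact hc₁sq
  · intro h12
    have e12 : algebraMap k R c₂ * algebraMap k R c₁ = -1 := by
      rw [← map_mul, h12, neg_mul, hc₁sq, map_neg, map_one]
    rw [e12, add_neg_cancel, zero_mul, zero_mul] at hct
    exact hct.symm

end final

end Groth.Agent.Lib.R2H7.NodeDeform
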