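import Mathlib
import Groth.Prelude.Def_W4c2arithlefschetzNode
import Groth.Agent.Lib.R2H7NodeAlgFix
import Groth.Agent.Lib.Helper19PsDim
import Groth.Agent.Lib.Helper5HilbertRLR

/-!
# Fixed points of automorphisms of the node `k[[t,e]]/(te)` over a field

For a `k`-automorphism `σ` with `σ t = α t`, `σ e = β e`, the fixed-point ideal is
`I = ((α-1)t, (β-1)e)` and `length A/I + 1 = length A/(I + (t)) + length A/(I + (e))`.
-/

set_option autoImplicit false
universe u

namespace Groth.Agent.Lib.R2H7.NodeFieldFix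

open IsLocalRing MvPowerSeries Groth.Agent.Lib.Helper19 Groth.Agent.Lib.Helper5
  Groth.Agent.Lib.R2H7.NodeAlgFix

section general

variable {R : Type u} {M : Type u} [Ring R] [AddCommGroup M] [Module R M]

/-- `length M/(N₁ ∩ N₂) + length M/(N₁ + N₂) = length M/N₁ + length M/N₂`. -/
theorem length_inf_add_length_sup (N₁ N₂ : Submodule R M) :
    Module.length R (M ⧸ (N₁ ⊓ N₂)) + Module.length R (M ⧸ (N₁ ⊔ N₂)) =
      Module.length R (M ⧸ N₁) + Module.length R (M ⧸ N₂) := by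
  let f₁ : (M ⧸ (N₁ ⊓ N₂)) →ₗ[R] M ⧸ N₁ :=
    Submodule.mapQ (N₁ ⊓ N₂) N₁ LinearMap.id (by rw [Submodule.comap_id]; exact inf_le_left)
  let f₂ : (M ⧸ (N₁ ⊓ N₂)) →ₗ[R] M ⧸ N₂ :=
    Submodule.mapQ (N₁ ⊓ N₂) N₂ LinearMap.id (by rw [Submodule.comap_id]; exact inf_le_right)
  let g₁ : (M ⧸ N₁) →ₗ[R] M ⧸ (N₁ ⊔ N₂) :=
    Submodule.mapQ N₁ (N₁ ⊔ N₂) LinearMap.id (by rw [Submodule.comap_id]; exact le_sup_left)
  let g₂ : (M ⧸ N₂) →ₗ[R] M ⧸ (N₁ ⊔ N₂) :=
    Submodule.mapQ N₂ (N₁ ⊔ N₂) LinearMap.id (by rw [Submodule.comap_id]; exact le_sup_right)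
  have hf₁ : ∀ z : M, f₁ (Submodule.Quotient.mk z) = Submodule.Quotient.mk z := fun z => rfl
  have hf₂ : ∀ z : M, f₂ (Submodule.Quotient.mk z) = Submodule.Quotient.mk z := fun z => rfl
  have hg₁ : ∀ z : M, g₁ (Submodule.Quotient.mk z) = Submodule.Quotient.mk z := fun z => rfl
  have hg₂ : ∀ z : M, g₂ (Submodule.Quotient.mk z) = Submodule.Quotient.mk z := fun z => rfl
  have hfp : ∀ w, (f₁.prod f₂) w = (f₁ w, f₂ w) := fun w => rfl
  have key := Module.length_eq_add_of_exact (f₁.prod f₂) (g₁.coprod (-g₂)) ?_ ?_ ?_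
  · rw [Module.length_prod] at key
    rw [key]
  · rw [injective_iff_map_eq_zero]
    intro x hx
    obtain ⟨z, rfl⟩ := Submodule.Quotient.mk_surjective _ x
    rw [hfp, Prod.mk_eq_zero, hf₁, hf₂,
      Submodule.Quotient.mk_eq_zero, Submodule.Quotient.mk_eq_zero] at hx
    rw [Submodule.Quotient.mk_eq_zero]
    exact ⟨hx.1, hx.2⟩
  · intro y
    obtain ⟨z, rfl⟩ := Submodule.Quotient.mk_surjective _ y
    refine ⟨(Submodule.Quotient.mk z, 0), ?_⟩
    rw [LinearMap.coprod_apply, map_zero, add_zero, hg₁]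
  · rintro ⟨x, y⟩
    obtain ⟨a, rfl⟩ := Submodule.Quotient.mk_surjective _ x
    obtain ⟨b, rfl⟩ := Submodule.Quotient.mk_surjective _ y
    rw [LinearMap.coprod_apply, LinearMap.neg_apply, hg₁, hg₂, ← sub_eq_add_neg,
      ← Submodule.Quotient.mk_sub, Submodule.Quotient.mk_eq_zero]
    constructor
    · intro h
      obtain ⟨j₁, hj₁, j₂, hj₂, hj⟩ := Submodule.mem_sup.mp h
      refine ⟨Submodule.Quotient.mk (a - j₁), ?_⟩
      rw [hfp, hf₁, hf₂, Prod.mk.injEq]
      constructor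
      · rw [Submodule.Quotient.eq]
        have : a - j₁ - a = -j₁ := by abel
        rw [this]
        exact N₁.neg_mem hj₁
      · rw [Submodule.Quotient.eq]
        have : a - j₁ - b = j₂ := by
          have h' : a - j₁ - b = (a - b) - j₁ := by abel
          rw [h', ← hj]; abel
        rw [this]
        exact hj₂
    · rintro ⟨w, hw⟩
      obtain ⟨z, rfl⟩ := Submodule.Quotient.mk_surjective _ w
      rw [hfp, hf₁, hf₂, Prod.mk.injEq, Submodule.Quotient.eq,
        Submodule.Quotient.eq] at hw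
      have : a - b = -(z - a) + (z - b) := by abel
      rw [this]
      exact Submodule.add_mem _ (Submodule.mem_sup_left (N₁.neg_mem hw.1))
        (Submodule.mem_sup_right hw.2)

end general

section node

variable {k : Type u} [Field k]

theorem f0_not_isUnit : ¬ IsUnit (X 0 * X 1 - C 0 : MvPowerSeries (Fin 2) k) := by
  rw [MvPowerSeries.isUnit_iff_constantCoeff, map_sub, map_mul, constantCoeff_X, constantCoeff_C,
    zero_mul, sub_zero]
  exact not_isUnit_zero

theorem isLocalRing_node : IsLocalRing (ArLef.NodeAlg k 0) :=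
  isLocalRing_quotient (by
    rw [Ne, Ideal.span_singleton_eq_top]
    exact f0_not_isUnit)

theorem te_eq_zero : ArLef.NodeAlg.t (0 : k) * ArLef.NodeAlg.e (0 : k) = 0 := by
  have := Groth.Agent.Lib.Helper22.nodeAlg_t_mul_e (0 : k)
  exact this.trans (map_zero _)

theorem maximalIdeal_node [IsLocalRing (ArLef.NodeAlg k 0)] :
    maximalIdeal (ArLef.NodeAlg k 0) =
      Ideal.span {ArLef.NodeAlg.t (0 : k), ArLef.NodeAlg.e (0 : k)} := by
  rw [maximalIdeal_quotient_eq_map, maximalIdeal_mvPowerSeries_eq, varsIdeal, Ideal.map_span,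
    ← Set.range_comp]
  congr 1
  ext g
  simp only [Set.mem_range, Function.comp_apply, Set.mem_insert_iff, Set.mem_singleton_iff]
  constructor
  · rintro ⟨i, rfl⟩
    fin_cases i
    · exact Or.inl rfl
    · exact Or.inr rfl
  · rintro (rfl | rfl)
    · exact ⟨0, rfl⟩
    · exact ⟨1, rfl⟩

theorem exists_sub_algebraMap_mem_node [IsLocalRing (ArLef.NodeAlg k 0)]
    (a : ArLef.NodeAlg k 0) :
    ∃ c : k, a - algebraMap k (ArLef.NodeAlg k 0) c ∈ maximalIdeal (ArLef.NodeAlg k 0) := by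
  obtain ⟨p, rfl⟩ := Ideal.Quotient.mk_surjective a
  refine ⟨constantCoeff p, ?_⟩
  have h1 : algebraMap k (ArLef.NodeAlg k 0) (constantCoeff p) =
      Ideal.Quotient.mk _ (C (constantCoeff p)) := rfl
  rw [h1, ← map_sub, mk_mem_maximalIdeal_quotient_iff, mem_maximalIdeal, mem_nonunits_iff,
    MvPowerSeries.isUnit_iff_constantCoeff, map_sub, constantCoeff_C, sub_self]
  exact not_isUnit_zero

/-- `(t) ∩ (e) = 0` in `k[[t,e]]/(te)`. -/
theorem mul_e_eq_zero_of_eq {c d : ArLef.NodeAlg k 0}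
    (h : c * ArLef.NodeAlg.t (0 : k) = d * ArLef.NodeAlg.e (0 : k)) :
    d * ArLef.NodeAlg.e (0 : k) = 0 := by
  classical
  obtain ⟨c', rfl⟩ := Ideal.Quotient.mk_surjective c
  obtain ⟨d', rfl⟩ := Ideal.Quotient.mk_surjective d
  unfold ArLef.NodeAlg.t ArLef.NodeAlg.e at h
  rw [← map_mul, ← map_mul, Ideal.Quotient.eq, Ideal.mem_span_singleton'] at h
  obtain ⟨g, hg⟩ := h
  rw [map_zero, sub_zero] at hg
  have h1 : d' * X 1 = X 0 * (c' - g * X 1) := by linear_combination hg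
  have h2 : (X 0 : MvPowerSeries (Fin 2) k) ∣ d' := by
    rw [MvPowerSeries.X_dvd_iff]
    intro m hm
    have h3 : coeff (m + Finsupp.single 1 1) (d' * X 1) = coeff m d' * 1 := by
      rw [MvPowerSeries.X_def]
      exact coeff_add_mul_monomial _ _ _ _
    rw [mul_one] at h3
    rw [← h3, h1]
    apply (MvPowerSeries.X_dvd_iff.mp (dvd_mul_right _ _))
    rw [Finsupp.add_apply, hm, Finsupp.single_apply]
    simp
  obtain ⟨d'', rfl⟩ := h2
  have h4 : Ideal.Quotient.mk (Ideal.span {(X 0 * X 1 - C 0 : MvPowerSeries (Fin 2) k)})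
      (X 0 * d'') * ArLef.NodeAlg.e (0 : k) =
      Ideal.Quotient.mk _ d'' * (ArLef.NodeAlg.t (0 : k) * ArLef.NodeAlg.e (0 : k)) := by
    unfold ArLef.NodeAlg.t ArLef.NodeAlg.e
    rw [map_mul]
    ring
  rw [h4, te_eq_zero, mul_zero]

/-- S15325. -/
theorem length_fixIdeal_add_one (σ : ArLef.NodeAlg k 0 ≃ₐ[k] ArLef.NodeAlg k 0)
    (α β : (ArLef.NodeAlg k 0)ˣ)
    (ht : σ (ArLef.NodeAlg.t (0 : k)) = (α : ArLef.NodeAlg k 0) * ArLef.NodeAlg.t (0 : k))
    (he : σ (ArLef.NodeAlg.e (0 : k)) = (β : ArLef.NodeAlg k 0) * ArLef.NodeAlg.e (0 : k)) :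
    Module.length (ArLef.NodeAlg k 0) (ArLef.NodeAlg k 0 ⧸ ArLef.fixIdeal σ) + 1 =
      Module.length (ArLef.NodeAlg k 0) (ArLef.NodeAlg k 0 ⧸
        (ArLef.fixIdeal σ ⊔ Ideal.span ({ArLef.NodeAlg.t (0 : k)} : Set (ArLef.NodeAlg k 0)))) +
      Module.length (ArLef.NodeAlg k 0) (ArLef.NodeAlg k 0 ⧸
        (ArLef.fixIdeal σ ⊔ Ideal.span ({ArLef.NodeAlg.e (0 : k)} : Set (ArLef.NodeAlg k 0)))) := by
  have hloc : IsLocalRing (ArLef.NodeAlg k 0) := isLocalRing_node
  have hm := maximalIdeal_node (k := k)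
  have hzero := fun (c d : ArLef.NodeAlg k 0) => mul_e_eq_zero_of_eq (c := c) (d := d)
  have hres := exists_sub_algebraMap_mem_node (k := k)
  generalize ArLef.NodeAlg.t (0 : k) = t at *
  generalize ArLef.NodeAlg.e (0 : k) = e at *
  set a : ArLef.NodeAlg k 0 := (α : ArLef.NodeAlg k 0) - 1 with ha
  set b : ArLef.NodeAlg k 0 := (β : ArLef.NodeAlg k 0) - 1 with hb
  have hσt : σ t - t = a * t := by rw [ht, ha]; ring
  have hσe : σ e - e = b * e := by rw [he, hb]; ring
  have htm : t ∈ maximalIdeal (ArLef.NodeAlg k 0) := by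
    rw [hm]; exact Ideal.subset_span (by simp)
  have hem : e ∈ maximalIdeal (ArLef.NodeAlg k 0) := by
    rw [hm]; exact Ideal.subset_span (by simp)
  have hfix : ArLef.fixIdeal σ = Ideal.span {a * t, b * e} := by
    apply le_antisymm
    · unfold ArLef.fixIdeal
      rw [Ideal.span_le]
      rintro _ ⟨r, rfl⟩
      refine map_sub_mem_of_generators (σ : ArLef.NodeAlg k 0 →+* ArLef.NodeAlg k 0)
        (fun x hx => ringEquiv_map_mem_maximalIdeal (σ : ArLef.NodeAlg k 0 ≃+* ArLef.NodeAlg k 0)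
          x hx) _ ?_ {t, e} ?_ hm.symm r
      · intro r
        obtain ⟨c, hc⟩ := hres r
        refine ⟨_, ?_, hc⟩
        have : (σ : ArLef.NodeAlg k 0 →+* ArLef.NodeAlg k 0)
            (algebraMap k (ArLef.NodeAlg k 0) c) = algebraMap k (ArLef.NodeAlg k 0) c :=
          σ.commutes c
        rw [this, sub_self]
        exact Ideal.zero_mem _
      · rintro x (rfl | rfl)
        · change σ x - x ∈ _
          rw [hσt]
          exact Ideal.subset_span (by simp)
        · change σ x - x ∈ _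
          rw [hσe]
          exact Ideal.subset_span (by simp)
    · rw [Ideal.span_le]
      rintro x (rfl | rfl)
      · rw [← hσt]
        exact sub_mem_fixIdeal _ _
      · rw [← hσe]
        exact sub_mem_fixIdeal _ _
  rw [hfix]
  have hIm : Ideal.span {a * t, b * e} ≤ maximalIdeal (ArLef.NodeAlg k 0) := by
    rw [Ideal.span_le]
    rintro x (rfl | rfl)
    · exact Ideal.mul_mem_left _ _ htm
    · exact Ideal.mul_mem_left _ _ hem
  have hinf : (Ideal.span {a * t, b * e} ⊔ Ideal.span {t}) ⊓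
      (Ideal.span {a * t, b * e} ⊔ Ideal.span {e}) = Ideal.span {a * t, b * e} := by
    apply le_antisymm
    · rintro y ⟨hy1, hy2⟩
      obtain ⟨i1, hi1, z1, hz1, rfl⟩ := Submodule.mem_sup.mp hy1
      obtain ⟨i2, hi2, z2, hz2, h12⟩ := Submodule.mem_sup.mp hy2
      obtain ⟨c, rfl⟩ := Ideal.mem_span_singleton'.mp hz1
      obtain ⟨d, rfl⟩ := Ideal.mem_span_singleton'.mp hz2
      obtain ⟨u1, v1, rfl⟩ := Ideal.mem_span_pair.mp hi1
      obtain ⟨u2, v2, rfl⟩ := Ideal.mem_span_pair.mp hi2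
      have h1 : (u1 * a + c - u2 * a) * t = (v2 * b + d - v1 * b) * e := by
        linear_combination -h12
      have h2 := hzero _ _ h1
      rw [h2] at h1
      have h3 : u1 * (a * t) + v1 * (b * e) + c * t = u2 * (a * t) + v1 * (b * e) := by
        linear_combination h1
      rw [h3]
      exact Ideal.add_mem _ (Ideal.mul_mem_left _ _ (Ideal.subset_span (by simp)))
        (Ideal.mul_mem_left _ _ (Ideal.subset_span (by simp)))
    · exact le_inf le_sup_left le_sup_left
  have hsup : (Ideal.span {a * t, b * e} ⊔ Ideal.span {t}) ⊔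
      (Ideal.span {a * t, b * e} ⊔ Ideal.span {e}) = maximalIdeal (ArLef.NodeAlg k 0) := by
    apply le_antisymm
    · refine sup_le (sup_le hIm ?_) (sup_le hIm ?_)
      · exact (Ideal.span_singleton_le_iff_mem _).mpr htm
      · exact (Ideal.span_singleton_le_iff_mem _).mpr hem
    · rw [hm, Ideal.span_le]
      rintro x (rfl | rfl)
      · exact Ideal.mem_sup_left (Ideal.mem_sup_right (Ideal.subset_span rfl))
      · exact Ideal.mem_sup_right (Ideal.mem_sup_right (Ideal.subset_span rfl))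
  have key := length_inf_add_length_sup
    (Ideal.span {a * t, b * e} ⊔ Ideal.span {t} : Ideal (ArLef.NodeAlg k 0))
    (Ideal.span {a * t, b * e} ⊔ Ideal.span {e})
  rw [hinf, hsup, Groth.Agent.Lib.Helper5.HilbertRLR.length_quotient_maximalIdeal] at key
  exact key

end node

end Groth.Agent.Lib.R2H7.NodeFieldFix
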