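import Groth.Agent.Lib.Helper27GrTildeMul2
import Groth.Agent.Lib.R2H2LocPsh

/-!
# `M~` only depends on the non-negative part of a `ℤ`-graded module (helper7, round 2)

* `subFam ℳ P`: the family induced by `ℳ : ℕ → Submodule R M` on an `A`-submodule `P` of `M`;
* `incP ℳ P n : tilde 𝒜 (subFam ℳ P) n ⟶ tilde 𝒜 ℳ n`, an isomorphism as soon as `P` contains
  all the `ℳ n` (no decomposition hypothesis on `ℳ`);
* `nnPart 𝒜 ℳ`: the non-negative part `⊕_{n ≥ 0} M_n` of a `ℤ`-graded module, an `A`-submodule,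
  with its `ℕ`-grading `nnGr` (a decomposition).
-/

set_option autoImplicit false
set_option linter.unusedSectionVars false
universe u

namespace Groth.Agent.Lib.R2H7.NonnegPart

open CategoryTheory CategoryTheory.Limits AlgebraicGeometry TopologicalSpace Opposite
open Groth.Agent.Lib.R2H2.LocPsh Groth.Agent.Lib.Helper27GrTildeSect

variable {R A : Type u} [CommRing R] [CommRing A] [Algebra R A] {𝒜 : ℕ → Submodule R A}
  [GradedAlgebra 𝒜]
variable {M : Type u} [AddCommGroup M] [Module R M] [Module A M] [IsScalarTower R A M]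

section Sub

variable (ℳ : ℕ → Submodule R M) [SetLike.GradedSMul 𝒜 ℳ] (P : Submodule A M)

/-- the induced family on a submodule -/
def subFam (n : ℕ) : Submodule R ↥P := (ℳ n).comap (P.subtype.restrictScalars R)

lemma mem_subFam {n : ℕ} {p : ↥P} : p ∈ subFam ℳ P n ↔ (p : M) ∈ ℳ n := Iff.rfl

instance subFam_gradedSMul : SetLike.GradedSMul 𝒜 (subFam ℳ P) :=
  ⟨fun {i j a m} ha hm => by
    have h := SetLike.GradedSMul.smul_mem (A := 𝒜) (B := ℳ) ha ((mem_subFam ℳ P).mp hm)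
    exact h⟩

/-- the map on localizations at a point induced by the inclusion -/
noncomputable def locι (x : ProjectiveSpectrum 𝒜) :
    GrTilde.LocMod 𝒜 (M := ↥P) x →ₗ[A] GrTilde.LocMod 𝒜 (M := M) x :=
  nMap x.asHomogeneousIdeal.toIdeal.primeCompl P.subtype

lemma locι_mk (x : ProjectiveSpectrum 𝒜) (m : ↥P)
    (s : x.asHomogeneousIdeal.toIdeal.primeCompl) :
    locι P x (LocalizedModule.mk m s) = LocalizedModule.mk (m : M) s := nMap_mk _ _ _ _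

lemma locι_injective (x : ProjectiveSpectrum 𝒜) : Function.Injective (locι P x) :=
  nMap_injective _ _ (Submodule.injective_subtype P)

lemma locι_smul (x : ProjectiveSpectrum 𝒜) (c : Twist.Loc 𝒜 x)
    (t : GrTilde.LocMod 𝒜 (M := ↥P) x) : locι P x (c • t) = c • locι P x t := by
  induction c using Localization.induction_on with | _ p
  induction t using LocalizedModule.induction_on with | _ m s
  rw [LocalizedModule.mk_smul_mk, locι_mk, locι_mk, LocalizedModule.mk_smul_mk]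
  rfl

lemma locι_mem (n : ℤ) (x : ProjectiveSpectrum 𝒜) {t : GrTilde.LocMod 𝒜 (M := ↥P) x}
    (ht : t ∈ GrTilde.tildeAt 𝒜 (subFam ℳ P) n x) : locι P x t ∈ GrTilde.tildeAt 𝒜 ℳ n x := by
  obtain ⟨i, j, m, s, hm, hs, hsx, hij, rfl⟩ := exists_frac_of_mem 𝒜 (subFam ℳ P) n x t ht
  rw [locι_mk]
  exact mk_mem_tildeAt 𝒜 ℳ n x ((mem_subFam ℳ P).mp hm) hs hsx hij

lemma exists_locι_eq (hP : ∀ (n : ℕ) (m : M), m ∈ ℳ n → m ∈ P) (n : ℤ)
    (x : ProjectiveSpectrum 𝒜) {t : GrTilde.LocMod 𝒜 (M := M) x}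
    (ht : t ∈ GrTilde.tildeAt 𝒜 ℳ n x) :
    ∃ t' : GrTilde.LocMod 𝒜 (M := ↥P) x,
      t' ∈ GrTilde.tildeAt 𝒜 (subFam ℳ P) n x ∧ locι P x t' = t := by
  obtain ⟨i, j, m, s, hm, hs, hsx, hij, rfl⟩ := exists_frac_of_mem 𝒜 ℳ n x t ht
  refine ⟨LocalizedModule.mk (⟨m, hP i m hm⟩ : ↥P) ⟨s, hsx⟩, ?_, locι_mk P x _ _⟩
  exact mk_mem_tildeAt 𝒜 (subFam ℳ P) n x (i := i) (m := (⟨m, hP i m hm⟩ : ↥P)) hm hs hsx hij

/-- the induced map on sections -/
noncomputable def fwd (n : ℤ) (U : (Opens (ProjectiveSpectrum.top 𝒜))ᵒᵖ)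
    (f : GrTilde.sect 𝒜 (subFam ℳ P) n U) : GrTilde.sect 𝒜 ℳ n U :=
  ⟨fun y => ⟨locι P y.1 (f.1 y).1, locι_mem ℳ P n y.1 (f.1 y).2⟩, by
    intro y
    obtain ⟨V, mV, iV, i, j, ⟨a, ha⟩, ⟨s, hs⟩, nin, ca, wa⟩ := f.2 y
    refine ⟨V, mV, iV, i, j, ⟨(a : M), ha⟩, ⟨s, hs⟩, nin, ?_, fun z => ?_⟩
    · rcases ca with ca | ca
      · exact Or.inl ca
      · refine Or.inr ?_
        have h0 : a = 0 := ca
        change (a : M) = 0
        rw [h0]
        rfl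
    · exact (congrArg (locι P (iV z).1) (wa z)).trans (locι_mk P _ _ _)⟩

lemma fwd_val (n : ℤ) (U : (Opens (ProjectiveSpectrum.top 𝒜))ᵒᵖ)
    (f : GrTilde.sect 𝒜 (subFam ℳ P) n U) (y : U.unop) :
    ((fwd ℳ P n U f).1 y).1 = locι P y.1 (f.1 y).1 := rfl

theorem fwd_injective (n : ℤ) (U : (Opens (ProjectiveSpectrum.top 𝒜))ᵒᵖ) :
    Function.Injective (fwd ℳ P n U) := by
  intro f f' h
  apply Subtype.ext
  funext y
  apply Subtype.ext
  apply locι_injective P y.1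
  have h1 := congrArg (fun g : GrTilde.sect 𝒜 ℳ n U => (g.1 y).1) h
  exact h1

theorem fwd_surjective (hP : ∀ (n : ℕ) (m : M), m ∈ ℳ n → m ∈ P) (n : ℤ)
    (U : (Opens (ProjectiveSpectrum.top 𝒜))ᵒᵖ) : Function.Surjective (fwd ℳ P n U) := by
  intro g
  choose t ht using fun y : U.unop => exists_locι_eq ℳ P hP n y.1 (g.1 y).2
  refine ⟨⟨fun y => ⟨t y, (ht y).1⟩, ?_⟩, ?_⟩
  · intro y
    obtain ⟨V, mV, iV, i, j, ⟨a, ha⟩, ⟨s, hs⟩, nin, ca, wa⟩ := g.2 y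
    refine ⟨V, mV, iV, i, j, ⟨(⟨a, hP i a ha⟩ : ↥P), ha⟩, ⟨s, hs⟩, nin, ?_, fun z => ?_⟩
    · rcases ca with ca | ca
      · exact Or.inl ca
      · exact Or.inr (Subtype.ext ca)
    · apply locι_injective P z.1
      have h1 : locι P z.1 (t (iV z)) = (g.1 (iV z)).1 := (ht (iV z)).2
      have h2 : (g.1 (iV z)).1 = LocalizedModule.mk a ⟨s, nin z⟩ := wa z
      have h3 := locι_mk P z.1 (⟨a, hP i a ha⟩ : ↥P) ⟨s, nin z⟩
      exact (h1.trans h2).trans h3.symm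
  · apply Subtype.ext
    funext y
    apply Subtype.ext
    exact (ht y).2

theorem fwd_add (n : ℤ) (U : (Opens (ProjectiveSpectrum.top 𝒜))ᵒᵖ)
    (f f' : GrTilde.sect 𝒜 (subFam ℳ P) n U) :
    fwd ℳ P n U (f + f') = fwd ℳ P n U f + fwd ℳ P n U f' := by
  apply Subtype.ext
  funext y
  apply Subtype.ext
  exact map_add (locι P y.1) (f.1 y).1 (f'.1 y).1

theorem fwd_zero (n : ℤ) (U : (Opens (ProjectiveSpectrum.top 𝒜))ᵒᵖ) :
    fwd ℳ P n U 0 = 0 := by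
  apply Subtype.ext
  funext y
  apply Subtype.ext
  exact map_zero (locι P y.1)

theorem fwd_smul (n : ℤ) (U : (Opens (ProjectiveSpectrum.top 𝒜))ᵒᵖ) (c : Twist.O (𝒜 := 𝒜) U)
    (f : GrTilde.sect 𝒜 (subFam ℳ P) n U) :
    fwd ℳ P n U (c • f) = c • fwd ℳ P n U f := by
  apply Subtype.ext
  funext y
  apply Subtype.ext
  change locι P y.1 (((c • f).1 y).1) = ((c • fwd ℳ P n U f).1 y).1
  have h1 : ((c • f).1 y).1 = (c.1 y).val • (f.1 y).1 :=
    GrTilde.coe_smul_val n y.1 (c.1 y) (f.1 y)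
  have h2 : ((c • fwd ℳ P n U f).1 y).1 = (c.1 y).val • ((fwd ℳ P n U f).1 y).1 :=
    GrTilde.coe_smul_val n y.1 (c.1 y) ((fwd ℳ P n U f).1 y)
  rw [h1, h2, locι_smul]
  rfl

variable (𝒜) in
/-- the comparison map on the underlying abelian sheaves -/
noncomputable def incAb (n : ℤ) :
    Coh.toAb (GrTilde.tilde 𝒜 (subFam ℳ P) n) ⟶ Coh.toAb (GrTilde.tilde 𝒜 ℳ n) :=
  ⟨{ app := fun U => AddCommGrpCat.ofHom
      { toFun := fun m => fwd ℳ P n U m
        map_zero' := fwd_zero ℳ P n U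
        map_add' := fun m m' => fwd_add ℳ P n U m m' }
     naturality := by
       intro U V f
       ext m
       rfl }⟩

variable (𝒜) in
/-- the comparison map `(M')(n)~ ⟶ M(n)~` -/
noncomputable def incP (n : ℤ) : GrTilde.tilde 𝒜 (subFam ℳ P) n ⟶ GrTilde.tilde 𝒜 ℳ n :=
  ⟨PresheafOfModules.homMk (incAb 𝒜 ℳ P n).hom (by
    intro U s m
    exact fwd_smul ℳ P n U s m)⟩

lemma incP_app (n : ℤ) (W : (Proj 𝒜).Opens) (m : Γ(GrTilde.tilde 𝒜 (subFam ℳ P) n, W)) :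
    (incP 𝒜 ℳ P n).app W m = fwd ℳ P n (op W) m := rfl

variable (𝒜) in
theorem isIso_incP (hP : ∀ (n : ℕ) (m : M), m ∈ ℳ n → m ∈ P) (n : ℤ) :
    IsIso (incP 𝒜 ℳ P n) := by
  rw [Scheme.Modules.Hom.isIso_iff_isIso_app]
  intro V
  rw [ConcreteCategory.isIso_iff_bijective]
  exact ⟨fwd_injective ℳ P n (op V), fwd_surjective ℳ P hP n (op V)⟩

variable (𝒜) in
/-- the comparison isomorphism -/
noncomputable def incIso (hP : ∀ (n : ℕ) (m : M), m ∈ ℳ n → m ∈ P) (n : ℤ) :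
    GrTilde.tilde 𝒜 (subFam ℳ P) n ≅ GrTilde.tilde 𝒜 ℳ n :=
  haveI := isIso_incP 𝒜 ℳ P hP n
  asIso (incP 𝒜 ℳ P n)

/-- compatibility with the canonical global sections -/
theorem fwd_globalOf {i : ℕ} (m : subFam ℳ P i) :
    fwd ℳ P (i : ℤ) (op ⊤) (GrTilde.globalOf 𝒜 (subFam ℳ P) m) =
      GrTilde.globalOf 𝒜 ℳ (⟨(m.1 : M), m.2⟩ : ℳ i) := by
  apply Subtype.ext
  funext y
  apply Subtype.ext
  exact locι_mk P y.1 _ _

/-- surjectivity of `M_i → Γ(M(i)~)` only depends on the submodule -/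
theorem globalOf_surjective_iff (hP : ∀ (n : ℕ) (m : M), m ∈ ℳ n → m ∈ P) (i : ℕ) :
    Function.Surjective (fun m : ℳ i => GrTilde.globalOf 𝒜 ℳ m) ↔
      Function.Surjective (fun m : subFam ℳ P i => GrTilde.globalOf 𝒜 (subFam ℳ P) m) := by
  constructor
  · intro h σ
    obtain ⟨m, hm⟩ := h (fwd ℳ P (i : ℤ) (op ⊤) σ)
    refine ⟨⟨⟨m.1, hP i m.1 m.2⟩, m.2⟩, ?_⟩
    apply fwd_injective ℳ P (i : ℤ) (op ⊤)
    rw [fwd_globalOf]
    exact hm
  · intro h σ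
    obtain ⟨σ', rfl⟩ := fwd_surjective ℳ P hP (i : ℤ) (op ⊤) σ
    obtain ⟨m, hm⟩ := h σ'
    refine ⟨⟨(m.1 : M), m.2⟩, ?_⟩
    change GrTilde.globalOf 𝒜 ℳ (⟨(m.1 : M), m.2⟩ : ℳ i) = _
    rw [← fwd_globalOf]
    exact congrArg _ hm

end Sub

section Nonneg

variable (𝒜) (ℳ : ℤ → Submodule R M) [DirectSum.Decomposition ℳ]
  [SetLike.GradedSMul 𝒜 (fun n : ℕ => ℳ (n : ℤ))]

/-- the non-negative part, as an `R`-submodule -/
def nnR : Submodule R M := ⨆ n : ℕ, ℳ (n : ℤ)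

lemma mem_nnR_of_mem {n : ℕ} {m : M} (hm : m ∈ ℳ (n : ℤ)) : m ∈ nnR ℳ :=
  Submodule.mem_iSup_of_mem n hm

include 𝒜 in
lemma smul_mem_nnR (a : A) {m : M} (hm : m ∈ nnR ℳ) : a • m ∈ nnR ℳ := by
  classical
  induction a using DirectSum.Decomposition.inductionOn 𝒜 with
  | zero =>
    rw [zero_smul]
    exact zero_mem _
  | @homogeneous i a =>
    refine Submodule.iSup_induction (fun n : ℕ => ℳ (n : ℤ))
      (motive := fun m => (a : A) • m ∈ nnR ℳ) hm ?_ ?_ ?_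
    · intro n x hx
      have h := SetLike.GradedSMul.smul_mem (A := 𝒜) (B := fun n : ℕ => ℳ (n : ℤ)) a.2 hx
      exact Submodule.mem_iSup_of_mem (i + n) h
    · rw [smul_zero]
      exact zero_mem _
    · intro x y hx hy
      rw [smul_add]
      exact add_mem hx hy
  | add a b ha hb =>
    rw [add_smul]
    exact add_mem ha hb

/-- the non-negative part `⊕_{n ≥ 0} M_n`, an `A`-submodule -/
def nnPart : Submodule A M where
  carrier := nnR ℳ
  add_mem' := fun ha hb => add_mem ha hb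
  zero_mem' := zero_mem _
  smul_mem' := fun a _ hm => smul_mem_nnR 𝒜 ℳ a hm

lemma mem_nnPart_of_mem (n : ℕ) (m : M) (hm : m ∈ ℳ (n : ℤ)) : m ∈ nnPart 𝒜 ℳ :=
  mem_nnR_of_mem ℳ hm

/-- the `ℕ`-grading of the non-negative part -/
abbrev nnGr : ℕ → Submodule R ↥(nnPart 𝒜 ℳ) :=
  subFam (fun n : ℕ => ℳ (n : ℤ)) (nnPart 𝒜 ℳ)

theorem isInternal_nnGr : DirectSum.IsInternal (nnGr 𝒜 ℳ) := by
  classical
  rw [DirectSum.isInternal_submodule_iff_iSupIndep_and_iSup_eq_top]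
  constructor
  · rw [iSupIndep_iff_finsetSum_eq_zero_imp_eq_zero]
    intro s v hv hsum i hi
    have hind : iSupIndep (fun n : ℕ => ℳ (n : ℤ)) :=
      (DirectSum.Decomposition.isInternal ℳ).submodule_iSupIndep.comp Nat.cast_injective
    rw [iSupIndep_iff_finsetSum_eq_zero_imp_eq_zero] at hind
    have h1 := hind s (fun n => ((v n : ↥(nnPart 𝒜 ℳ)) : M)) (fun n hn => hv n hn) (by
      have h2 := congrArg (fun p : ↥(nnPart 𝒜 ℳ) => (p : M)) hsum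
      simpa using h2) i hi
    exact Subtype.ext h1
  · rw [eq_top_iff]
    rintro ⟨p, hp⟩ -
    have hp' : p ∈ nnR ℳ := hp
    suffices h : ∀ q (hq : q ∈ nnR ℳ), (⟨q, hq⟩ : ↥(nnPart 𝒜 ℳ)) ∈ ⨆ n, nnGr 𝒜 ℳ n from h p hp'
    intro q hq
    have key : q ∈ (⨆ n, nnGr 𝒜 ℳ n).map ((nnPart 𝒜 ℳ).subtype.restrictScalars R) := by
      rw [Submodule.map_iSup]
      refine Submodule.iSup_induction (fun n : ℕ => ℳ (n : ℤ))
        (motive := fun q => q ∈ ⨆ n, (nnGr 𝒜 ℳ n).map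
          ((nnPart 𝒜 ℳ).subtype.restrictScalars R)) hq ?_ (zero_mem _)
        (fun x y hx hy => add_mem hx hy)
      intro n x hx
      exact Submodule.mem_iSup_of_mem n
        ⟨⟨x, mem_nnPart_of_mem 𝒜 ℳ n x hx⟩, hx, rfl⟩
    obtain ⟨q', hq', hqq⟩ := key
    have : q' = ⟨q, hq⟩ := Subtype.ext hqq
    rw [← this]
    exact hq'

noncomputable instance nnGr_decomposition : DirectSum.Decomposition (nnGr 𝒜 ℳ) :=
  (isInternal_nnGr 𝒜 ℳ).chooseDecomposition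

end Nonneg

end Groth.Agent.Lib.R2H7.NonnegPart
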