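import Mathlib

/-!
# Descent of monogenicity of finite-dimensional algebras over an infinite field (helper7, round 2)

If `B` is a finite-dimensional (associative, not necessarily commutative) algebra over an infinite
field `K`, `n = dim B`, and for some field extension `L` the `L`-algebra `L ⊗ B` has an element `z`
whose powers `1, z, …, z^(n-1)` span it, then `B` has such an element too: the determinant of the
coordinates of the powers of the generic element is a nonzero polynomial.
-/

set_option autoImplicit false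

namespace Groth.Agent.Lib.R2H7.OTMono

open TensorProduct

universe u v w

section Repr

variable {S : Type*} {S' : Type*} [CommRing S] [CommRing S'] {M : Type*} {M' : Type*}
  [AddCommGroup M] [Module S M] [AddCommGroup M'] [Module S' M'] {ι : Type*} [Fintype ι]
  (e : Module.Basis ι S M) (e' : Module.Basis ι S' M') (f : S →+* S') (φ : M →+ M')
  (hφ : ∀ (s : S) (m : M), φ (s • m) = f s • φ m) (he : ∀ i, φ (e i) = e' i)

include hφ he in
/-- A semilinear map carrying a basis to a basis transforms coordinates by the ring map. -/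
theorem repr_map (m : M) (i : ι) : e'.repr (φ m) i = f (e.repr m i) := by
  conv_lhs => rw [← e.sum_repr m]
  rw [map_sum]
  have h1 : ∀ j, φ (e.repr m j • e j) = f (e.repr m j) • e' j := fun j => by rw [hφ, he]
  simp_rw [h1]
  rw [Module.Basis.repr_sum_self]

include hφ he in
theorem det_map [DecidableEq ι] (v : ι → M) :
    e'.det (fun j => φ (v j)) = f (e.det v) := by
  rw [Module.Basis.det_apply, Module.Basis.det_apply, RingHom.map_det, RingHom.mapMatrix_apply]
  congr 1
  ext i j
  rw [Module.Basis.toMatrix_apply, Matrix.map_apply, Module.Basis.toMatrix_apply]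
  exact repr_map e e' f φ hφ he (v j) i

end Repr

section Smul

theorem smul_eq_tmul_one_mul {K : Type*} {S : Type*} {B : Type*} [CommRing K] [CommRing S]
    [Algebra K S] [Ring B] [Algebra K B] (s : S) (m : S ⊗[K] B) :
    s • m = (s ⊗ₜ[K] (1 : B)) * m := by
  induction m using TensorProduct.induction_on with
  | zero => simp
  | add x y hx hy => rw [smul_add, mul_add, hx, hy]
  | tmul p b =>
    rw [TensorProduct.smul_tmul', Algebra.TensorProduct.tmul_mul_tmul, smul_eq_mul, one_mul]

end Smul

section Main

variable {K : Type u} [Field K] [Infinite K] {B : Type v} [Ring B] [Algebra K B]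
  [Module.Finite K B]

/-- Monogenicity of a finite-dimensional algebra over an infinite field descends from a field
extension. -/
theorem exists_gen_of_baseChange (L : Type w) [Field L] [Algebra K L]
    (h : ∃ z : L ⊗[K] B, Submodule.span L
      (Set.range fun i : Fin (Module.finrank K B) => z ^ (i : ℕ)) = ⊤) :
    ∃ y : B, Submodule.span K (Set.range fun i : Fin (Module.finrank K B) => y ^ (i : ℕ)) = ⊤ := by
  classical
  set n := Module.finrank K B with hn
  let b : Module.Basis (Fin n) K B := Module.finBasis K B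
  let eP : Module.Basis (Fin n) (MvPolynomial (Fin n) K) (MvPolynomial (Fin n) K ⊗[K] B) :=
    Algebra.TensorProduct.basis (MvPolynomial (Fin n) K) b
  let Y : MvPolynomial (Fin n) K ⊗[K] B := ∑ i, MvPolynomial.X i ⊗ₜ[K] b i
  let Δ : MvPolynomial (Fin n) K := eP.det (fun j : Fin n => Y ^ (j : ℕ))
  obtain ⟨z, hz⟩ := h
  let eL : Module.Basis (Fin n) L (L ⊗[K] B) := Algebra.TensorProduct.basis L b
  let c : Fin n → L := fun i => eL.repr z i
  let φL : MvPolynomial (Fin n) K ⊗[K] B →ₐ[K] L ⊗[K] B :=
    Algebra.TensorProduct.map (MvPolynomial.aeval c) (AlgHom.id K B)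
  have hφY : φL Y = z := by
    have h1 : φL Y = ∑ i, c i ⊗ₜ[K] b i := by
      simp only [Y, φL, map_sum, Algebra.TensorProduct.map_tmul, MvPolynomial.aeval_X,
        AlgHom.coe_id, id_eq]
    rw [h1]
    conv_rhs => rw [← eL.sum_repr z]
    refine Finset.sum_congr rfl fun i _ => ?_
    rw [Algebra.TensorProduct.basis_apply, TensorProduct.smul_tmul', smul_eq_mul, mul_one]
  have hsemiL : ∀ (s : MvPolynomial (Fin n) K) (m : MvPolynomial (Fin n) K ⊗[K] B),
      φL.toRingHom.toAddMonoidHom (s • m) =
        (MvPolynomial.aeval c : MvPolynomial (Fin n) K →ₐ[K] L).toRingHom s •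
          φL.toRingHom.toAddMonoidHom m := by
    intro s m
    change φL (s • m) = (MvPolynomial.aeval c) s • φL m
    rw [smul_eq_tmul_one_mul, smul_eq_tmul_one_mul, map_mul]
    congr 1
  have hbasisL : ∀ i, φL.toRingHom.toAddMonoidHom (eP i) = eL i := by
    intro i
    change φL (eP i) = eL i
    simp [eP, eL, φL, Algebra.TensorProduct.basis_apply]
  have hΔL : eL.det (fun j : Fin n => z ^ (j : ℕ)) = MvPolynomial.aeval c Δ := by
    have := det_map eP eL (MvPolynomial.aeval c : MvPolynomial (Fin n) K →ₐ[K] L).toRingHom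
      φL.toRingHom.toAddMonoidHom hsemiL hbasisL (fun j : Fin n => Y ^ (j : ℕ))
    rw [← hφY]
    simp only [← map_pow]
    exact this
  have hcardL : Fintype.card (Fin n) = Module.finrank L (L ⊗[K] B) := by
    rw [Module.finrank_eq_card_basis eL]
  have hliL : LinearIndependent L (fun j : Fin n => z ^ (j : ℕ)) :=
    linearIndependent_of_top_le_span_of_card_eq_finrank hz.ge hcardL
  have hunitL : IsUnit (eL.det (fun j : Fin n => z ^ (j : ℕ))) :=
    (Module.Basis.is_basis_iff_det eL).mp ⟨hliL, hz⟩
  have hΔne : Δ ≠ 0 := by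
    intro h0
    rw [hΔL, h0, map_zero] at hunitL
    exact not_isUnit_zero hunitL
  obtain ⟨c₀, hc₀⟩ : ∃ c₀ : Fin n → K, MvPolynomial.eval c₀ Δ ≠ 0 := by
    by_contra hcon
    push_neg at hcon
    exact hΔne (MvPolynomial.funext fun x => by rw [hcon x, map_zero])
  let ψ : MvPolynomial (Fin n) K ⊗[K] B →ₐ[K] B :=
    Algebra.TensorProduct.lift
      ((Algebra.ofId K B).comp (MvPolynomial.aeval c₀ : MvPolynomial (Fin n) K →ₐ[K] K))
      (AlgHom.id K B) (fun s x => Algebra.commutes _ _)
  have hψ_tmul : ∀ (s : MvPolynomial (Fin n) K) (x : B),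
      ψ (s ⊗ₜ[K] x) = MvPolynomial.eval c₀ s • x := by
    intro s x
    simp only [ψ, Algebra.TensorProduct.lift_tmul, AlgHom.comp_apply, AlgHom.coe_id, id_eq,
      MvPolynomial.aeval_eq_eval, Algebra.ofId_apply]
    rw [Algebra.smul_def]
  set y : B := ∑ i, c₀ i • b i with hy
  have hψY : ψ Y = y := by
    simp only [Y, map_sum, hψ_tmul, MvPolynomial.eval_X, hy]
  have hsemi : ∀ (s : MvPolynomial (Fin n) K) (m : MvPolynomial (Fin n) K ⊗[K] B),
      ψ.toRingHom.toAddMonoidHom (s • m) =
        (MvPolynomial.eval c₀ : MvPolynomial (Fin n) K →+* K) s • ψ.toRingHom.toAddMonoidHom m := by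
    intro s m
    change ψ (s • m) = MvPolynomial.eval c₀ s • ψ m
    rw [smul_eq_tmul_one_mul, map_mul, hψ_tmul, smul_mul_assoc, one_mul]
  have hbasis : ∀ i, ψ.toRingHom.toAddMonoidHom (eP i) = b i := by
    intro i
    change ψ (eP i) = b i
    rw [show eP i = (1 : MvPolynomial (Fin n) K) ⊗ₜ[K] b i from
      Algebra.TensorProduct.basis_apply b i, hψ_tmul, map_one, one_smul]
  have hΔK : b.det (fun j : Fin n => y ^ (j : ℕ)) = MvPolynomial.eval c₀ Δ := by
    have := det_map eP b (MvPolynomial.eval c₀ : MvPolynomial (Fin n) K →+* K)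
      ψ.toRingHom.toAddMonoidHom hsemi hbasis (fun j : Fin n => Y ^ (j : ℕ))
    rw [← hψY]
    simp only [← map_pow]
    exact this
  have hunit : IsUnit (b.det (fun j : Fin n => y ^ (j : ℕ))) := by
    rw [hΔK]
    exact isUnit_iff_ne_zero.mpr hc₀
  exact ⟨y, ((Module.Basis.is_basis_iff_det b).mpr hunit).2⟩

end Main

end Groth.Agent.Lib.R2H7.OTMono
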