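import Groth.Agent.Lib.R2H7OTField
import Groth.Agent.Lib.R2H7OTMono
import Groth.Agent.Lib.R2H7CartBC
import Groth.Agent.Lib.Helper6Deligne

/-!
# R2H7OTComm: a group scheme of prime order is commutative and killed by `p` (helper7)

Tate–Oort, Theorem 1, over an arbitrary commutative ring `R`: a commutative Hopf algebra `A`,
finite projective of rank `p` at every prime, is cocommutative (`isCocomm`) and satisfies
`[p] = 1` (`killed`).  Steps: algebraically closed field (`OTField.exists_gen`: the dual algebra is
monogenic) → infinite field (`OTMono`) → local ring with infinite residue field (Nakayama) → local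
ring (pass to `S[X]` localised at `𝔪 S[X]`) → any ring (localise at maximal ideals); then Deligne.
-/

set_option autoImplicit false
universe u

namespace Groth.Agent.Lib.R2H7.OTComm

open TensorProduct WithConv

section BCMap2

variable {R : Type u} [CommRing R] (R' : Type u) [CommRing R'] [Algebra R R']
  (A : Type u) [CommRing A] [Bialgebra R A]

/-- The natural map `A ⊗[R] A → (R' ⊗ A) ⊗[R'] (R' ⊗ A)`. -/
noncomputable def bcMap2 : A ⊗[R] A →ₗ[R] (R' ⊗[R] A) ⊗[R'] (R' ⊗[R] A) :=
  ((AlgebraTensorModule.tensorTensorTensorComm R R' R R' R' R' A A).toLinearMap.restrictScalars R) ∘ₗ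
    (TensorProduct.mk R (R' ⊗[R'] R') (A ⊗[R] A) ((1 : R') ⊗ₜ[R'] (1 : R')))

theorem bcMap2_tmul (a b : A) :
    bcMap2 R' A (a ⊗ₜ[R] b) = ((1 : R') ⊗ₜ[R] a) ⊗ₜ[R'] ((1 : R') ⊗ₜ[R] b) := by
  simp [bcMap2]

theorem comul_one_tmul (x : A) :
    CoalgebraStruct.comul (R := R') ((1 : R') ⊗ₜ[R] x) =
      bcMap2 R' A (CoalgebraStruct.comul (R := R) x) := by
  rw [TensorProduct.comul_tmul]
  rfl

theorem comm_bcMap2 (z : A ⊗[R] A) :
    TensorProduct.comm R' (R' ⊗[R] A) (R' ⊗[R] A) (bcMap2 R' A z) =
      bcMap2 R' A (TensorProduct.comm R A A z) := by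
  induction z using TensorProduct.induction_on with
  | zero => simp
  | tmul a b => rw [bcMap2_tmul, TensorProduct.comm_tmul, TensorProduct.comm_tmul, bcMap2_tmul]
  | add x y hx hy => rw [map_add, map_add, hx, hy, map_add, map_add]

theorem one_tmul_eq_zero_of_bcMap2 (z : A ⊗[R] A) (hz : bcMap2 R' A z = 0) :
    (1 : R') ⊗ₜ[R] z = 0 := by
  have h1 : ((1 : R') ⊗ₜ[R'] (1 : R')) ⊗ₜ[R] z = (0 : (R' ⊗[R'] R') ⊗[R] (A ⊗[R] A)) := by
    have : (AlgebraTensorModule.tensorTensorTensorComm R R' R R' R' R' A A)
        (((1 : R') ⊗ₜ[R'] (1 : R')) ⊗ₜ[R] z) = 0 := hz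
    exact (LinearEquiv.map_eq_zero_iff _).mp this
  have h2 := congrArg (TensorProduct.map ((TensorProduct.rid R' R').toLinearMap.restrictScalars R)
    (LinearMap.id : A ⊗[R] A →ₗ[R] A ⊗[R] A)) h1
  simpa only [TensorProduct.map_tmul, LinearMap.coe_restrictScalars, LinearEquiv.coe_coe,
    TensorProduct.rid_tmul, LinearMap.id_coe, id_eq, map_zero, one_smul] using h2

/-- Cocommutativity descends if `z ↦ 1 ⊗ z` is injective on `A ⊗ A`. -/
theorem comm_comul_of_baseChange [Coalgebra.IsCocomm R' (R' ⊗[R] A)] (a : A) :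
    (1 : R') ⊗ₜ[R] (TensorProduct.comm R A A (CoalgebraStruct.comul (R := R) a)) =
      (1 : R') ⊗ₜ[R] (CoalgebraStruct.comul (R := R) a) := by
  apply sub_eq_zero.mp
  rw [← TensorProduct.tmul_sub]
  apply one_tmul_eq_zero_of_bcMap2
  rw [map_sub, sub_eq_zero, ← comm_bcMap2, ← comul_one_tmul, Coalgebra.comm_comul]

theorem isCocomm_of_baseChange [Module.Flat R A] (hinj : Function.Injective (algebraMap R R'))
    [Coalgebra.IsCocomm R' (R' ⊗[R] A)] : Coalgebra.IsCocomm R A := by
  refine ⟨LinearMap.ext fun a => ?_⟩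
  rw [LinearMap.comp_apply, LinearEquiv.coe_coe]
  have h2 : Function.Injective (LinearMap.rTensor (A ⊗[R] A) (Algebra.linearMap R R')) :=
    Module.Flat.rTensor_preserves_injective_linearMap _ hinj
  have h3 := comm_comul_of_baseChange (R := R) R' A a
  have h4 : ∀ z : A ⊗[R] A, LinearMap.rTensor (A ⊗[R] A) (Algebra.linearMap R R')
      ((1 : R) ⊗ₜ[R] z) = (1 : R') ⊗ₜ[R] z := by
    intro z
    rw [LinearMap.rTensor_tmul, Algebra.linearMap_apply, map_one]
  have h5 : (1 : R) ⊗ₜ[R] (TensorProduct.comm R A A (CoalgebraStruct.comul (R := R) a)) =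
      (1 : R) ⊗ₜ[R] (CoalgebraStruct.comul (R := R) a) := by
    apply h2
    rw [h4, h4, h3]
  have h6 := congrArg (TensorProduct.lid R (A ⊗[R] A)) h5
  simpa using h6

end BCMap2

section Comm

open CartDual

variable (R : Type u) [CommRing R] (A : Type u) [CommRing A] [HopfAlgebra R A]
  [Module.Finite R A] [Module.Projective R A]

/-- If the dual algebra is commutative then `A` is cocommutative. -/
theorem isCocomm_of_comm (h : ∀ a b : D R A, a * b = b * a) : Coalgebra.IsCocomm R A := by
  refine ⟨LinearMap.ext fun a => ?_⟩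
  rw [LinearMap.comp_apply, LinearEquiv.coe_coe]
  apply sub_eq_zero.mp
  rw [← Module.forall_dual_apply_eq_zero_iff R]
  intro φ
  obtain ⟨y, rfl⟩ := (CartDual.ev₂ R A).surjective φ
  rw [map_sub, sub_eq_zero]
  induction y using TensorProduct.induction_on with
  | zero => simp
  | add y y' hy hy' => rw [map_add, LinearMap.add_apply, LinearMap.add_apply, hy, hy']
  | tmul x ψ =>
    have h1 : ∀ t : A ⊗[R] A, CartDual.ev₂ R A (x ⊗ₜ ψ) (TensorProduct.comm R A A t) =
        CartDual.ev₂ R A (ψ ⊗ₜ x) t := by
      intro t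
      induction t using TensorProduct.induction_on with
      | zero => simp
      | tmul a b => rw [TensorProduct.comm_tmul, CartDual.ev₂_tmul, CartDual.ev₂_tmul, mul_comm]
      | add t t' ht ht' => rw [map_add, map_add, map_add, ht, ht']
    have h2 : ∀ (x ψ : D R A), CartDual.ev₂ R A (x ⊗ₜ ψ) (Coalgebra.comul (R := R) a) =
        (x * ψ).ofConv a := by
      intro x ψ
      rw [CartDual.ev₂_tmul_eq']
      rfl
    rw [h1, h2, h2, h x ψ]

theorem comm_of_span_pow {S : Type*} {B : Type*} [CommRing S] [Ring B] [Algebra S B] (y : B) {n : ℕ}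
    (h : Submodule.span S (Set.range fun i : Fin n => y ^ (i : ℕ)) = ⊤) (a b : B) :
    a * b = b * a := by
  have hy : ∀ a : B, ∀ j : ℕ, Commute a (y ^ j) := by
    intro a j
    have ha : a ∈ Submodule.span S (Set.range fun i : Fin n => y ^ (i : ℕ)) := by
      rw [h]; exact Submodule.mem_top
    induction ha using Submodule.span_induction with
    | mem x hx =>
      obtain ⟨i, rfl⟩ := hx
      exact (Commute.refl y).pow_pow _ _
    | zero => exact Commute.zero_left _
    | add x x' _ _ h1 h2 => exact h1.add_left h2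
    | smul c x _ h1 => exact h1.smul_left c
  have hb : b ∈ Submodule.span S (Set.range fun i : Fin n => y ^ (i : ℕ)) := by
    rw [h]; exact Submodule.mem_top
  show Commute a b
  induction hb using Submodule.span_induction with
  | mem x hx =>
    obtain ⟨i, rfl⟩ := hx
    exact hy a _
  | zero => exact Commute.zero_right _
  | add x x' _ _ h1 h2 => exact h1.add_right h2
  | smul c x _ h1 => exact h1.smul_right c

end Comm

section Steps

open CartDual Polynomial

variable (p : ℕ) [Fact p.Prime]

/-- Step A: over an infinite field the dual algebra is monogenic. -/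
theorem exists_gen_infinite (K : Type u) [Field K] [Infinite K] (H : Type u) [CommRing H]
    [HopfAlgebra K H] [Module.Finite K H] (hfin : Module.finrank K H = p) :
    ∃ y : D K H, Submodule.span K (Set.range fun i : Fin p => y ^ (i : ℕ)) = ⊤ := by
  have hfinL : Module.finrank (AlgebraicClosure K) (AlgebraicClosure K ⊗[K] H) = p := by
    rw [Module.finrank_baseChange, hfin]
  obtain ⟨z, hz⟩ := OTField.exists_gen (K := AlgebraicClosure K) (A := AlgebraicClosure K ⊗[K] H)
    hfinL
  have hB : Module.finrank K (D K H) = p := OTField.finrank_D hfin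
  have key : ∃ z' : AlgebraicClosure K ⊗[K] D K H, Submodule.span (AlgebraicClosure K)
      (Set.range fun i : Fin (Module.finrank K (D K H)) => z' ^ (i : ℕ)) = ⊤ := by
    rw [hB]
    refine ⟨(CartBC.bcDEquiv K H (AlgebraicClosure K)).symm z, ?_⟩
    have h1 : (fun i : Fin p => ((CartBC.bcDEquiv K H (AlgebraicClosure K)).symm z) ^ (i : ℕ)) =
        (CartBC.bcDEquiv K H (AlgebraicClosure K)).symm.toLinearEquiv.toLinearMap ∘
          (fun i : Fin p => z ^ (i : ℕ)) := by
      funext i
      exact (map_pow (CartBC.bcDEquiv K H (AlgebraicClosure K)).symm z (i : ℕ)).symm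
    rw [h1, Set.range_comp, ← Submodule.map_span, hz, Submodule.map_top, LinearMap.range_eq_top]
    exact (CartBC.bcDEquiv K H (AlgebraicClosure K)).symm.surjective
  obtain ⟨y, hy⟩ := OTMono.exists_gen_of_baseChange (K := K) (B := D K H) (AlgebraicClosure K) key
  rw [hB] at hy
  exact ⟨y, hy⟩

/-- Step B: over a local ring with infinite residue field the dual algebra is commutative. -/
theorem comm_of_local_infinite (S : Type u) [CommRing S] [IsLocalRing S]
    [Infinite (IsLocalRing.ResidueField S)] (H : Type u) [CommRing H] [HopfAlgebra S H]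
    [Module.Finite S H] [Module.Projective S H]
    (hrk : ∀ q : PrimeSpectrum S, Module.rankAtStalk H q = p) (a b : D S H) : a * b = b * a := by
  have hfin : Module.finrank (IsLocalRing.ResidueField S) (IsLocalRing.ResidueField S ⊗[S] H) = p := by
    let q' : PrimeSpectrum (IsLocalRing.ResidueField S) := ⟨⊥, Ideal.isPrime_bot⟩
    have h1 := Module.rankAtStalk_baseChange (R := S) (M := H) (S := IsLocalRing.ResidueField S) q'
    rw [hrk] at h1
    have h2 : Module.rankAtStalk (IsLocalRing.ResidueField S ⊗[S] H) q' =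
        Module.finrank (IsLocalRing.ResidueField S) (IsLocalRing.ResidueField S ⊗[S] H) := by
      simp [Module.rankAtStalk_eq_finrank_of_free]
    rw [← h2, h1]
  obtain ⟨y', hy'⟩ := exists_gen_infinite p (IsLocalRing.ResidueField S)
    (IsLocalRing.ResidueField S ⊗[S] H) hfin
  obtain ⟨y, hy⟩ := TensorProduct.mk_surjective S (D S H) (IsLocalRing.ResidueField S)
    IsLocalRing.residue_surjective ((CartBC.bcDEquiv S H (IsLocalRing.ResidueField S)).symm y')
  have hspan : Submodule.span S (Set.range fun i : Fin p => y ^ (i : ℕ)) = ⊤ := by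
    rw [← IsLocalRing.map_tensorProduct_mk_eq_top, Submodule.map_span,
      ← Submodule.restrictScalars_span S (IsLocalRing.ResidueField S)
        IsLocalRing.residue_surjective,
      Submodule.restrictScalars_eq_top_iff, ← Set.range_comp]
    have h1 : (TensorProduct.mk S (IsLocalRing.ResidueField S) (D S H) 1) ∘
        (fun i : Fin p => y ^ (i : ℕ)) =
        (CartBC.bcDEquiv S H (IsLocalRing.ResidueField S)).symm.toLinearEquiv.toLinearMap ∘
          (fun i : Fin p => y' ^ (i : ℕ)) := by
      funext i
      show (1 : IsLocalRing.ResidueField S) ⊗ₜ[S] (y ^ (i : ℕ)) =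
        (CartBC.bcDEquiv S H (IsLocalRing.ResidueField S)).symm (y' ^ (i : ℕ))
      rw [map_pow, ← hy, TensorProduct.mk_apply, Algebra.TensorProduct.tmul_pow, one_pow]
    rw [h1, Set.range_comp, ← Submodule.map_span, hy', Submodule.map_top, LinearMap.range_eq_top]
    exact (CartBC.bcDEquiv S H (IsLocalRing.ResidueField S)).symm.surjective
  exact comm_of_span_pow y hspan a b

theorem rank_baseChange {R : Type u} [CommRing R] (R' : Type u) [CommRing R'] [Algebra R R']
    (A : Type u) [AddCommGroup A] [Module R A] [Module.Finite R A] [Module.Flat R A]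
    (hrk : ∀ q : PrimeSpectrum R, Module.rankAtStalk A q = p) (q' : PrimeSpectrum R') :
    Module.rankAtStalk (R' ⊗[R] A) q' = p := by
  rw [Module.rankAtStalk_baseChange]
  exact hrk _

section StepC

theorem infinite_residue (S : Type u) [CommRing S] [IsLocalRing S] (P : Ideal S[X])
    (hPdef : P = (IsLocalRing.maximalIdeal S).map (C : S →+* S[X])) [P.IsPrime]
    (S' : Type u) [CommRing S'] [Algebra S[X] S'] [IsLocalization.AtPrime S' P]
    [IsLocalRing S'] : Infinite (IsLocalRing.ResidueField S') := by
  have h1notin : (1 : S) ∉ IsLocalRing.maximalIdeal S :=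
    (Ideal.ne_top_iff_one _).mp (IsLocalRing.maximalIdeal.isMaximal S).ne_top
  refine Infinite.of_injective (fun i : ℕ => IsLocalRing.residue S'
    (algebraMap S[X] S' (X ^ i))) ?_
  intro i j hij
  by_contra hne
  have h2 : IsLocalRing.residue S' (algebraMap S[X] S' (X ^ i - X ^ j)) = 0 := by
    rw [map_sub, map_sub]
    exact sub_eq_zero.mpr hij
  rw [IsLocalRing.residue_eq_zero_iff, IsLocalization.AtPrime.to_map_mem_maximal_iff S' P, hPdef,
    Ideal.mem_map_C_iff] at h2
  have h3 := h2 i
  rw [coeff_sub, coeff_X_pow, coeff_X_pow, if_pos rfl, if_neg hne, sub_zero] at h3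
  exact h1notin h3

theorem injective_algebraMap (S : Type u) [CommRing S] [IsLocalRing S] (P : Ideal S[X])
    (hPdef : P = (IsLocalRing.maximalIdeal S).map (C : S →+* S[X])) [P.IsPrime]
    (S' : Type u) [CommRing S'] [Algebra S[X] S'] [IsLocalization.AtPrime S' P] [Algebra S S']
    [IsScalarTower S S[X] S'] : Function.Injective (algebraMap S S') := by
  have hloc : Function.Injective (algebraMap S[X] S') := by
    apply IsLocalization.injective S' (M := P.primeCompl)
    intro f hf
    by_contra hnz
    obtain ⟨a, ha0, haf⟩ := Polynomial.notMem_nonZeroDivisors_iff.mp hnz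
    have hf' : ¬ ∀ n : ℕ, f.coeff n ∈ IsLocalRing.maximalIdeal S := by
      intro h
      apply hf
      rw [hPdef]
      exact Ideal.mem_map_C_iff.mpr h
    push_neg at hf'
    obtain ⟨n, hn⟩ := hf'
    have hu : IsUnit (f.coeff n) := by
      by_contra h
      exact hn ((IsLocalRing.mem_maximalIdeal _).mpr h)
    have h4 := congrArg (fun g : S[X] => g.coeff n) haf
    simp only [coeff_smul, smul_eq_mul, coeff_zero] at h4
    exact ha0 ((hu.mul_left_eq_zero).mp h4)
  intro a b hab
  rw [IsScalarTower.algebraMap_apply S S[X] S', IsScalarTower.algebraMap_apply S S[X] S'] at hab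
  have h5 := hloc hab
  rw [Polynomial.algebraMap_apply, Polynomial.algebraMap_apply, Algebra.algebraMap_self,
    RingHom.id_apply, RingHom.id_apply] at h5
  exact C_injective h5

theorem isCocomm_of_local_aux (S : Type u) [CommRing S] (S' : Type u) [CommRing S']
    [Algebra S S'] [IsLocalRing S'] (hinf : Infinite (IsLocalRing.ResidueField S'))
    (hinj : Function.Injective (algebraMap S S')) (H : Type u) [CommRing H]
    [HopfAlgebra S H] [Module.Finite S H] [Module.Projective S H]
    (hrk : ∀ q : PrimeSpectrum S, Module.rankAtStalk H q = p) : Coalgebra.IsCocomm S H := by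
  haveI := hinf
  haveI : Coalgebra.IsCocomm S' (S' ⊗[S] H) :=
    isCocomm_of_comm _ _ (comm_of_local_infinite p _ _ (rank_baseChange p _ H hrk))
  exact isCocomm_of_baseChange S' H hinj

end StepC

/-- Step C: any local ring. -/
theorem isCocomm_of_local (S : Type u) [CommRing S] [IsLocalRing S] (H : Type u) [CommRing H]
    [HopfAlgebra S H] [Module.Finite S H] [Module.Projective S H]
    (hrk : ∀ q : PrimeSpectrum S, Module.rankAtStalk H q = p) : Coalgebra.IsCocomm S H := by
  obtain ⟨P, hP⟩ : ∃ P : Ideal S[X], P = (IsLocalRing.maximalIdeal S).map (C : S →+* S[X]) :=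
    ⟨_, rfl⟩
  haveI : P.IsPrime := by
    rw [hP]
    exact Ideal.isPrime_map_C_of_isPrime
  exact isCocomm_of_local_aux p S (Localization.AtPrime P)
    (infinite_residue S P hP (Localization.AtPrime P))
    (injective_algebraMap S P hP (Localization.AtPrime P)) H hrk

/-- **Tate–Oort Theorem 1, commutativity**: a finite locally free group scheme of prime order over
any ring is commutative. -/
theorem isCocomm (R : Type u) [CommRing R] (A : Type u) [CommRing A] [HopfAlgebra R A]
    [Module.Finite R A] [Module.Projective R A]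
    (hrk : ∀ q : PrimeSpectrum R, Module.rankAtStalk A q = p) : Coalgebra.IsCocomm R A := by
  refine ⟨LinearMap.ext fun a => ?_⟩
  rw [LinearMap.comp_apply, LinearEquiv.coe_coe]
  apply Module.eq_of_localization_maximal
    (fun P _ => Localization.AtPrime P ⊗[R] (A ⊗[R] A))
    (fun P _ => TensorProduct.mk R (Localization.AtPrime P) (A ⊗[R] A) 1)
  intro P hP
  haveI : Coalgebra.IsCocomm (Localization.AtPrime P) (Localization.AtPrime P ⊗[R] A) :=
    isCocomm_of_local p _ _ (rank_baseChange p _ A hrk)
  exact comm_comul_of_baseChange (R := R) (Localization.AtPrime P) A a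

/-- **Tate–Oort Theorem 1, torsion**: a finite locally free group scheme of prime order `p` over any
ring is killed by `p`. -/
theorem killed (R : Type u) [CommRing R] (A : Type u) [CommRing A] [HopfAlgebra R A]
    [Module.Finite R A] [Module.Projective R A]
    (hrk : ∀ q : PrimeSpectrum R, Module.rankAtStalk A q = p) :
    (toConv (AlgHom.id R A)) ^ p = 1 := by
  haveI := isCocomm p R A hrk
  exact Groth.Agent.Lib.Helper6.Deligne.deligne R A p hrk

end Steps

end Groth.Agent.Lib.R2H7.OTComm
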