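import Groth.Agent.Lib.R2H7OTField
import Groth.Agent.Lib.Helper6Deligne
import Groth.Agent.S18471
import Groth.Agent.S18473

/-!
# R2H7OTCore: structure of the eigenspaces `I_i` for a group scheme of order `p` killed by `p`
(helper7)

Setting of Tate–Oort §2: `A` a commutative Hopf algebra over `R`, finite projective of rank `p`,
with `[p] = 1` (hypothesis `hp`).  We prove
* base change compatibility of `P`, `proj`, `b` (`P_bc`, `proj_bc`, `b_bc`);
* `eigenAug i` is a retract of `A` (`finite_eigenAug`, `projective_eigenAug`), and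
  `A ≃ R × Π_{i<p-1} I_i` (`decompEquiv`);
* `rank_eigenAug`: each `I_i` has rank one;
* `pow_eigenAug`: `I_1 ^ t = I_t` for `1 ≤ t ≤ p - 1`.
-/

set_option autoImplicit false
universe u

namespace Groth.Agent.Lib.R2H7.OTCore

open TensorProduct WithConv Groth.Agent.S18468

section BC

variable {R : Type u} [CommRing R] (S : Type u) [CommRing S] [Algebra R S]
  {A : Type u} [CommRing A] [HopfAlgebra R A] (p : ℕ) [Fact p.Prime]

/-- the character `χ` pushed to an `R`-algebra `S` -/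
noncomputable def chiS (χ : (ZMod p)ˣ →* Rˣ) : (ZMod p)ˣ →* Sˣ :=
  (Units.map (algebraMap R S : R →* S)).comp χ

theorem chiS_apply (χ : (ZMod p)ˣ →* Rˣ) (m : (ZMod p)ˣ) :
    ((chiS S p χ m : Sˣ) : S) = algebraMap R S ((χ m : Rˣ) : R) := rfl

theorem hu_bc (u : R) (hu : u * ((p - 1 : ℕ) : R) = 1) :
    algebraMap R S u * ((p - 1 : ℕ) : S) = 1 := by
  rw [← map_natCast (algebraMap R S), ← map_mul, hu, map_one]

theorem hχ_bc (χ : (ZMod p)ˣ →* Rˣ) (hχ : ∀ m : (ZMod p)ˣ, m ≠ 1 → IsUnit ((χ m : R) - 1))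
    (m : (ZMod p)ˣ) (hm : m ≠ 1) : IsUnit ((chiS S p χ m : S) - 1) := by
  rw [chiS_apply, ← map_one (algebraMap R S), ← map_sub]
  exact (hχ m hm).map (algebraMap R S)

theorem hχp_bc (χ : (ZMod p)ˣ →* Rˣ)
    (hχp : ∀ m : (ZMod p)ˣ, ((χ m : Rˣ) : R) - (((m : ZMod p).val : ℕ) : R) ∈
      Ideal.span ({(p : R)} : Set R)) (m : (ZMod p)ˣ) :
    ((chiS S p χ m : Sˣ) : S) - (((m : ZMod p).val : ℕ) : S) ∈ Ideal.span ({(p : S)} : Set S) := by
  obtain ⟨a, ha⟩ := Ideal.mem_span_singleton'.mp (hχp m)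
  rw [Ideal.mem_span_singleton']
  refine ⟨algebraMap R S a, ?_⟩
  rw [chiS_apply, ← map_natCast (algebraMap R S) p, ← map_mul, ha, map_sub, map_natCast]

variable {S}

theorem algmap_smul_tmul (r : R) (s : S) (a : A) :
    (algebraMap R S r) • (s ⊗ₜ[R] a) = s ⊗ₜ[R] (r • a) := by
  rw [algebraMap_smul, TensorProduct.tmul_smul]

variable {p}

theorem P_bc (n : ℕ) (s : S) (a : A) :
    P S (S ⊗[R] A) n (s ⊗ₜ[R] a) = s ⊗ₜ[R] P R A n a :=
  Groth.Agent.Lib.Helper6.Deligne.pow_baseChange S n s a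

theorem proj_bc (u : R) (χ : (ZMod p)ˣ →* Rˣ) (i : ℕ) (s : S) (a : A) :
    OortTate.proj S (S ⊗[R] A) p (algebraMap R S u) (chiS S p χ) i (s ⊗ₜ[R] a) =
      s ⊗ₜ[R] OortTate.proj R A p u χ i a := by
  rw [proj_apply, proj_apply]
  simp only [P_bc, chiS_apply, ← map_pow, algmap_smul_tmul, ← TensorProduct.tmul_sum]

theorem counit_bc (s : S) (a : A) :
    Coalgebra.counit (R := S) (s ⊗ₜ[R] a) = s * algebraMap R S (Coalgebra.counit (R := R) a) := by
  rw [TensorProduct.counit_tmul]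
  show Coalgebra.counit (R := R) a • s = _
  rw [Algebra.smul_def, mul_comm]

theorem b_bc (u : R) (χ : (ZMod p)ˣ →* Rˣ) (i : ℕ) (s : S) (a : A) :
    Groth.Agent.S18471.b p (algebraMap R S u) (chiS S p χ) i (s ⊗ₜ[R] a) =
      s ⊗ₜ[R] Groth.Agent.S18471.b p u χ i a := by
  rw [Groth.Agent.S18471.b_apply, Groth.Agent.S18471.b_apply, proj_bc, counit_bc,
    TensorProduct.tmul_sub, Algebra.TensorProduct.algebraMap_apply]
  congr 1
  rw [Algebra.algebraMap_self, RingHom.id_apply, mul_comm, ← Algebra.smul_def,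
    TensorProduct.smul_tmul, Algebra.algebraMap_eq_smul_one]

end BC

section Retract

variable {R : Type u} [CommRing R] {A : Type u} [CommRing A] [HopfAlgebra R A]
  {p : ℕ} [Fact p.Prime] (u : R) (hu : u * ((p - 1 : ℕ) : R) = 1) (χ : (ZMod p)ˣ →* Rˣ)
  (hp : (toConv (AlgHom.id R A)) ^ p = 1)

/-- the projector `b_i` with codomain restricted to `I_i` -/
noncomputable def bRes (i : ℕ) : A →ₗ[R] OortTate.eigenAug R A p χ i :=
  LinearMap.codRestrict _ (Groth.Agent.S18471.b p u χ i) (Groth.Agent.S18471.b_mem p u χ hp i)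

theorem bRes_coe (i : ℕ) (a : A) :
    ((bRes u χ hp i a : OortTate.eigenAug R A p χ i) : A) = Groth.Agent.S18471.b p u χ i a := rfl

include hu in
theorem bRes_comp_subtype (i : ℕ) :
    (bRes u χ hp i) ∘ₗ (OortTate.eigenAug R A p χ i).subtype = LinearMap.id := by
  apply LinearMap.ext
  intro x
  apply Subtype.ext
  exact Groth.Agent.S18471.b_of_mem p u hu χ i x.1 x.2

include hu hp in
theorem finite_eigenAug [Module.Finite R A] (i : ℕ) :
    Module.Finite R (OortTate.eigenAug R A p χ i) := by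
  refine Module.Finite.of_surjective (bRes u χ hp i) ?_
  intro x
  exact ⟨x.1, LinearMap.congr_fun (bRes_comp_subtype u hu χ hp i) x⟩

include hu hp in
theorem projective_eigenAug [Module.Projective R A] (i : ℕ) :
    Module.Projective R (OortTate.eigenAug R A p χ i) :=
  Module.Projective.of_split (OortTate.eigenAug R A p χ i).subtype (bRes u χ hp i)
    (bRes_comp_subtype u hu χ hp i)

theorem chi_pow_card (m : (ZMod p)ˣ) : ((χ m : Rˣ) : R) ^ (p - 1) = 1 := by
  rw [← Units.val_pow_eq_pow_val, ← map_pow, ZMod.units_pow_card_sub_one_eq_one, map_one,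
    Units.val_one]

theorem eigenAug_mod (i : ℕ) :
    OortTate.eigenAug R A p χ i = OortTate.eigenAug R A p χ (i % (p - 1)) := by
  ext f
  rw [mem_eigenAug, mem_eigenAug]
  have h : ∀ m : (ZMod p)ˣ, ((χ m : Rˣ) : R) ^ i = ((χ m : Rˣ) : R) ^ (i % (p - 1)) := by
    intro m
    conv_lhs => rw [← Nat.div_add_mod i (p - 1), pow_add, pow_mul, chi_pow_card, one_pow, one_mul]
  simp only [h]

theorem b_of_mem_ne (hχ : ∀ m : (ZMod p)ˣ, m ≠ 1 → IsUnit ((χ m : R) - 1))
    (i j : ℕ) (hi : i < p - 1) (hj : j < p - 1) (hij : i ≠ j) (x : A)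
    (hx : x ∈ OortTate.eigenAug R A p χ i) : Groth.Agent.S18471.b p u χ j x = 0 := by
  have h1 := proj_of_eigen_ne p u χ hχ i j hi hj hij x ((mem_eigenAug p χ i x).mp hx).2
  rw [Groth.Agent.S18471.b_apply, h1, map_zero, map_zero, sub_zero]

end Retract

section Decomp

variable {R : Type u} [CommRing R] {A : Type u} [CommRing A] [HopfAlgebra R A]
  {p : ℕ} [Fact p.Prime] (u : R) (hu : u * ((p - 1 : ℕ) : R) = 1) (χ : (ZMod p)ˣ →* Rˣ)
  (hχ : ∀ m : (ZMod p)ˣ, m ≠ 1 → IsUnit ((χ m : R) - 1))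
  (hp : (toConv (AlgHom.id R A)) ^ p = 1)

noncomputable def decompFwd :
    A →ₗ[R] R × (Π i : Fin (p - 1), OortTate.eigenAug R A p χ (i : ℕ)) :=
  LinearMap.prod (Coalgebra.counit (R := R)) (LinearMap.pi fun i => bRes u χ hp (i : ℕ))

noncomputable def decompBwd :
    R × (Π i : Fin (p - 1), OortTate.eigenAug R A p χ (i : ℕ)) →ₗ[R] A :=
  LinearMap.coprod (Algebra.linearMap R A)
    (∑ i : Fin (p - 1), (OortTate.eigenAug R A p χ (i : ℕ)).subtype ∘ₗ LinearMap.proj i)

theorem decompBwd_apply (y : R × (Π i : Fin (p - 1), OortTate.eigenAug R A p χ (i : ℕ))) :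
    decompBwd χ y = algebraMap R A y.1 +
      ∑ i : Fin (p - 1), ((y.2 i : OortTate.eigenAug R A p χ (i : ℕ)) : A) := by
  simp [decompBwd, LinearMap.coprod_apply, LinearMap.sum_apply]

include hu hχ in
theorem decomp_left (a : A) : decompBwd χ (decompFwd u χ hp a) = a := by
  rw [decompBwd_apply]
  show algebraMap R A (Coalgebra.counit (R := R) a) +
    ∑ i : Fin (p - 1), Groth.Agent.S18471.b p u χ (i : ℕ) a = a
  simp only [Groth.Agent.S18471.b_apply]
  have h1 : ∑ i : Fin (p - 1), algebraMap R A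
      (Coalgebra.counit (R := R) (OortTate.proj R A p u χ (i : ℕ) a)) =
      algebraMap R A (Coalgebra.counit (R := R) a) := by
    rw [← map_sum, ← map_sum, sum_proj p u hu χ hχ a]
  rw [Finset.sum_sub_distrib, sum_proj p u hu χ hχ a, h1]
  abel

include hu hχ in
theorem decomp_right (y : R × (Π i : Fin (p - 1), OortTate.eigenAug R A p χ (i : ℕ))) :
    decompFwd u χ hp (decompBwd χ y) = y := by
  have hc : ∀ i : Fin (p - 1), Coalgebra.counit (R := R)
      ((y.2 i : OortTate.eigenAug R A p χ (i : ℕ)) : A) = 0 :=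
    fun i => ((mem_eigenAug p χ (i : ℕ) _).mp (y.2 i).2).1
  rw [decompBwd_apply]
  apply Prod.ext
  · show Coalgebra.counit (R := R) (algebraMap R A y.1 + ∑ i : Fin (p - 1), ((y.2 i : _) : A)) = y.1
    rw [map_add, Bialgebra.counit_algebraMap, map_sum, Finset.sum_eq_zero (fun i _ => hc i),
      add_zero]
  · funext j
    apply Subtype.ext
    show Groth.Agent.S18471.b p u χ (j : ℕ)
      (algebraMap R A y.1 + ∑ i : Fin (p - 1), ((y.2 i : _) : A)) = ((y.2 j : _) : A)
    rw [map_add, Algebra.algebraMap_eq_smul_one, map_smul, Groth.Agent.S18471.b_one, smul_zero,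
      zero_add, map_sum, Finset.sum_eq_single j]
    · exact Groth.Agent.S18471.b_of_mem p u hu χ (j : ℕ) _ (y.2 j).2
    · intro i _ hij
      exact b_of_mem_ne u χ hχ (i : ℕ) (j : ℕ) i.2 j.2 (fun h => hij (Fin.ext h)) _ (y.2 i).2
    · intro h
      exact absurd (Finset.mem_univ _) h

/-- `A ≅ R × Π_{i < p-1} I_i`. -/
noncomputable def decompEquiv (hu : u * ((p - 1 : ℕ) : R) = 1)
    (hχ : ∀ m : (ZMod p)ˣ, m ≠ 1 → IsUnit ((χ m : R) - 1)) :
    A ≃ₗ[R] R × (Π i : Fin (p - 1), OortTate.eigenAug R A p χ (i : ℕ)) :=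
  LinearEquiv.ofLinear (decompFwd u χ hp) (decompBwd χ)
    (LinearMap.ext fun y => decomp_right u hu χ hχ hp y)
    (LinearMap.ext fun a => decomp_left u hu χ hχ hp a)

include hu hχ hp in
theorem rank_sum [Module.Finite R A] [Module.Projective R A] (q : PrimeSpectrum R) :
    Module.rankAtStalk A q =
      1 + ∑ i : Fin (p - 1), Module.rankAtStalk (OortTate.eigenAug R A p χ (i : ℕ)) q := by
  haveI : Nontrivial R := q.nontrivial
  haveI : ∀ i : Fin (p - 1), Module.Finite R (OortTate.eigenAug R A p χ (i : ℕ)) :=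
    fun i => finite_eigenAug u hu χ hp (i : ℕ)
  haveI : ∀ i : Fin (p - 1), Module.Projective R (OortTate.eigenAug R A p χ (i : ℕ)) :=
    fun i => projective_eigenAug u hu χ hp (i : ℕ)
  haveI : Module.Projective R (Π i : Fin (p - 1), OortTate.eigenAug R A p χ (i : ℕ)) :=
    Module.Projective.of_equiv (DFinsupp.linearEquivFunOnFintype (R := R)
      (M := fun i : Fin (p - 1) => OortTate.eigenAug R A p χ (i : ℕ)))
  rw [Module.rankAtStalk_eq_of_equiv (decompEquiv u χ hp hu hχ), Module.rankAtStalk_prod,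
    Pi.add_apply, Module.rankAtStalk_self, Module.rankAtStalk_pi, finsum_eq_sum_of_fintype]
  rfl

end Decomp

section RankPos

theorem rankAtStalk_pos_of_nontrivial {R : Type u} [CommRing R] (M : Type u) [AddCommGroup M]
    [Module R M] [Module.Finite R M] [Module.Flat R M] (q : PrimeSpectrum R) (K : Type u) [Field K]
    [Algebra R K] [Algebra q.asIdeal.ResidueField K] [IsScalarTower R q.asIdeal.ResidueField K]
    (h : Nontrivial (K ⊗[R] M)) : 0 < Module.rankAtStalk M q := by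
  rw [Nat.pos_iff_ne_zero]
  intro h0
  rw [Module.rankAtStalk_eq] at h0
  have hsub : ∀ x : q.asIdeal.Fiber M, x = 0 := finrank_zero_iff_forall_zero.mp h0
  have hsub2 : ∀ z : K ⊗[q.asIdeal.ResidueField] (q.asIdeal.ResidueField ⊗[R] M), z = 0 := by
    intro z
    induction z using TensorProduct.induction_on with
    | zero => rfl
    | tmul k n => rw [hsub n, TensorProduct.tmul_zero]
    | add z z' hz hz' => rw [hz, hz', add_zero]
  let e : K ⊗[q.asIdeal.ResidueField] (q.asIdeal.ResidueField ⊗[R] M) ≃ₗ[K] K ⊗[R] M :=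
    TensorProduct.AlgebraTensorModule.cancelBaseChange R _ K K M
  obtain ⟨a, b, hab⟩ := h
  apply hab
  rw [← e.apply_symm_apply a, ← e.apply_symm_apply b, hsub2 (e.symm a), hsub2 (e.symm b)]

end RankPos

section Mul

variable {R : Type u} [CommRing R] {A : Type u} [CommRing A] [HopfAlgebra R A]
  {p : ℕ} [Fact p.Prime] (χ : (ZMod p)ˣ →* Rˣ)

theorem mul_mem_eigenAug (a b : ℕ) (x y : A) (hx : x ∈ OortTate.eigenAug R A p χ a)
    (hy : y ∈ OortTate.eigenAug R A p χ b) : x * y ∈ OortTate.eigenAug R A p χ (a + b) := by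
  rw [mem_eigenAug] at hx hy ⊢
  refine ⟨?_, fun m => ?_⟩
  · have h : Coalgebra.counit (R := R) (x * y) = Bialgebra.counitAlgHom R A (x * y) := rfl
    rw [h, map_mul, Bialgebra.counitAlgHom_apply, hx.1, zero_mul]
  · rw [map_mul, hx.2 m, hy.2 m, smul_mul_smul_comm, pow_add]

theorem pow_mem_eigenAug (x : A) (hx : x ∈ OortTate.eigenAug R A p χ 1) :
    ∀ t : ℕ, 1 ≤ t → x ^ t ∈ OortTate.eigenAug R A p χ t := by
  intro t ht
  induction t, ht using Nat.le_induction with
  | base => rwa [pow_one]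
  | succ t ht ih =>
    rw [pow_succ]
    exact mul_mem_eigenAug χ t 1 _ _ ih hx

theorem eigenAug_one_pow_le (t : ℕ) (ht : 1 ≤ t) :
    (OortTate.eigenAug R A p χ 1) ^ t ≤ OortTate.eigenAug R A p χ t := by
  induction t, ht using Nat.le_induction with
  | base => rw [pow_one]
  | succ t ht ih =>
    rw [pow_succ]
    refine Submodule.mul_le.mpr fun x hx y hy => ?_
    exact mul_mem_eigenAug χ t 1 x y (ih hx) hy

end Mul

section Rank

variable {R : Type u} [CommRing R] {A : Type u} [CommRing A] [HopfAlgebra R A]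
  [Module.Finite R A] [Module.Projective R A]
  {p : ℕ} [Fact p.Prime] (u : R) (hu : u * ((p - 1 : ℕ) : R) = 1) (χ : (ZMod p)ˣ →* Rˣ)
  (hχ : ∀ m : (ZMod p)ˣ, m ≠ 1 → IsUnit ((χ m : R) - 1))
  (hχp : ∀ m : (ZMod p)ˣ, ((χ m : Rˣ) : R) - (((m : ZMod p).val : ℕ) : R) ∈
      Ideal.span ({(p : R)} : Set R))
  (hp : (toConv (AlgHom.id R A)) ^ p = 1)
  (hrk : ∀ q : PrimeSpectrum R, Module.rankAtStalk A q = p)

omit [Module.Finite R A] [Module.Projective R A] in
theorem bK_eq_baseChange (K : Type u) [CommRing K] [Algebra R K] (i : ℕ) (z : K ⊗[R] A) :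
    Groth.Agent.S18471.b p (algebraMap R K u) (chiS K p χ) i z =
      (Groth.Agent.S18471.b p u χ i).baseChange K z := by
  induction z using TensorProduct.induction_on with
  | zero => rw [map_zero, map_zero]
  | tmul s a => rw [b_bc, LinearMap.baseChange_tmul]
  | add z z' hz hz' => rw [map_add, map_add, hz, hz']

omit [Module.Finite R A] [Module.Projective R A] in
theorem rank_congr {N N' : Submodule R A} (h : N = N') (q : PrimeSpectrum R) :
    Module.rankAtStalk N q = Module.rankAtStalk N' q := by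
  subst h; rfl

include hu hχp hp hrk in
theorem nontrivial_baseChange_eigenAug (K : Type u) [Field K] [IsAlgClosed K] [Algebra R K]
    (t : ℕ) (ht1 : 1 ≤ t) (ht : t ≤ p - 1) :
    Nontrivial (K ⊗[R] OortTate.eigenAug R A p χ t) := by
  have hfin : Module.finrank K (K ⊗[R] A) = p := by
    let q' : PrimeSpectrum K := ⟨⊥, Ideal.isPrime_bot⟩
    have h1 := Module.rankAtStalk_baseChange (R := R) (M := A) (S := K) q'
    rw [hrk] at h1
    have h2 : Module.rankAtStalk (K ⊗[R] A) q' = Module.finrank K (K ⊗[R] A) := by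
      simp [Module.rankAtStalk_eq_finrank_of_free]
    rw [← h2, h1]
  obtain ⟨x, hx, hxne⟩ := OTField.exists_eigen (K := K) (A := K ⊗[R] A) (algebraMap R K u)
    (hu_bc K p u hu) (chiS K p χ) (hχp_bc K p χ hχp) hfin
  have hxt := pow_mem_eigenAug (chiS K p χ) x hx t ht1
  have hxtne : x ^ t ≠ 0 := by
    intro h
    apply hxne
    rw [← Nat.sub_add_cancel ht, pow_add, h, mul_zero]
  have h1 := Groth.Agent.S18471.b_of_mem p (algebraMap R K u) (hu_bc K p u hu) (chiS K p χ) t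
    (x ^ t) hxt
  rw [bK_eq_baseChange] at h1
  have h2 : Groth.Agent.S18471.b p u χ t =
      (OortTate.eigenAug R A p χ t).subtype ∘ₗ bRes u χ hp t := LinearMap.ext fun a => rfl
  rw [h2, LinearMap.baseChange_comp] at h1
  refine ⟨⟨(bRes u χ hp t).baseChange K (x ^ t), 0, fun h0 => hxtne ?_⟩⟩
  rw [← h1, LinearMap.comp_apply, h0, map_zero]

include hu hχp hp hrk in
theorem rank_pos (q : PrimeSpectrum R) (t : ℕ) (ht1 : 1 ≤ t) (ht : t ≤ p - 1) :
    0 < Module.rankAtStalk (OortTate.eigenAug R A p χ t) q := by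
  haveI := finite_eigenAug u hu χ hp t
  haveI := projective_eigenAug u hu χ hp t
  exact rankAtStalk_pos_of_nontrivial _ q (AlgebraicClosure q.asIdeal.ResidueField)
    (nontrivial_baseChange_eigenAug u hu χ hχp hp hrk _ t ht1 ht)

include hu hχ hχp hp hrk in
/-- **Rank one**: every eigenspace `I_i` has rank one at every prime. -/
theorem rank_eigenAug (i : ℕ) (q : PrimeSpectrum R) :
    Module.rankAtStalk (OortTate.eigenAug R A p χ i) q = 1 := by
  have hp2 : 2 ≤ p := (Fact.out : p.Prime).two_le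
  have hpos : ∀ j : Fin (p - 1),
      1 ≤ Module.rankAtStalk (OortTate.eigenAug R A p χ (j : ℕ)) q := by
    intro j
    by_cases hj : (j : ℕ) = 0
    · have h1 : OortTate.eigenAug R A p χ (p - 1) = OortTate.eigenAug R A p χ (j : ℕ) := by
        rw [eigenAug_mod χ (p - 1), Nat.mod_self, hj]
      rw [← rank_congr h1 q]
      exact rank_pos u hu χ hχp hp hrk q (p - 1) (by omega) le_rfl
    · exact rank_pos u hu χ hχp hp hrk q (j : ℕ) (by omega) (by have := j.2; omega)
  have hsum := rank_sum u hu χ hχ hp q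
  rw [hrk] at hsum
  have hall : ∀ j : Fin (p - 1),
      Module.rankAtStalk (OortTate.eigenAug R A p χ (j : ℕ)) q = 1 := by
    intro j0
    by_contra hne
    have h2 : 1 < Module.rankAtStalk (OortTate.eigenAug R A p χ (j0 : ℕ)) q :=
      lt_of_le_of_ne (hpos j0) (Ne.symm hne)
    have h3 : ∑ _j : Fin (p - 1), 1 <
        ∑ j : Fin (p - 1), Module.rankAtStalk (OortTate.eigenAug R A p χ (j : ℕ)) q :=
      Finset.sum_lt_sum (fun j _ => hpos j) ⟨j0, Finset.mem_univ _, h2⟩
    rw [Finset.sum_const, Finset.card_univ, Fintype.card_fin, smul_eq_mul, mul_one] at h3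
    omega
  have hlt : i % (p - 1) < p - 1 := Nat.mod_lt _ (by omega)
  rw [rank_congr (eigenAug_mod χ i) q]
  exact hall ⟨i % (p - 1), hlt⟩

end Rank

section Wt

open Groth.Agent.S18473

variable (R : Type u) [CommRing R] (p : ℕ) [Fact p.Prime] (u : R) (χ : (ZMod p)ˣ →* Rˣ)
  (hu : u * ((p - 1 : ℕ) : R) = 1)
  (hχ : ∀ m : (ZMod p)ˣ, m ≠ 1 → IsUnit ((χ m : R) - 1))
  (hχp : ∀ m : (ZMod p)ˣ, ((χ m : Rˣ) : R) - (((m : ZMod p).val : ℕ) : R) ∈
      Ideal.span ({(p : R)} : Set R))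

include hu hχ hχp in
/-- In the group algebra of `ℤ/p`: `y_1 y_k = c y_{k+1}` with `c` a unit (Jacobi sum). -/
theorem ygen_mul_succ (k : ℕ) (hk1 : 1 ≤ k) (hk2 : k ≤ p - 2) (hp3 : 3 ≤ p) :
    ∃ c : R, IsUnit c ∧
      OortTate.ygen R p u χ 1 * OortTate.ygen R p u χ k = c • OortTate.ygen R p u χ (k + 1) := by
  obtain ⟨c, hc⟩ := eigen_eq_smul_ygen R p u χ hu (k + 1)
    (OortTate.ygen R p u χ 1 * OortTate.ygen R p u χ k)
    (by
      have : Coalgebra.counit (R := R) (OortTate.ygen R p u χ 1 * OortTate.ygen R p u χ k) =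
          (Bialgebra.counitAlgHom R (Amu R p))
            (OortTate.ygen R p u χ 1 * OortTate.ygen R p u χ k) := rfl
      rw [this, map_mul, Bialgebra.counitAlgHom_apply, counit_ygen, zero_mul])
    (by
      intro m
      rw [map_mul, ygen_eigen, ygen_eigen, smul_mul_smul_comm, pow_one, pow_succ, mul_comm])
  have hJ := Groth.Agent.H9Jacobi.jacobi_isUnit (Xc R p χ) (Xc_congr R p χ hχp)
    (fun i hi0 hi => sum_Xc_inv_pow R p χ hχ i hi0 hi) hp3 k hk1 hk2
  have h2 := congrArg (cf R p 1) hc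
  rw [cf_one_mul_ygen R p u χ hχ k hk1 hk2 hp3, map_smul, cf_one_ygen, smul_eq_mul] at h2
  have hcu : c = u * jacobiSum (Xc R p χ)⁻¹ ((Xc R p χ)⁻¹ ^ k) := by
    have h3 : (c - u * jacobiSum (Xc R p χ)⁻¹ ((Xc R p χ)⁻¹ ^ k)) * u = 0 := by
      linear_combination -h2
    exact sub_eq_zero.mp (u_mul_cancel R p u hu _ h3)
  have huu : IsUnit u := IsUnit.of_mul_eq_one _ hu
  refine ⟨c, ?_, hc⟩
  rw [hcu]
  exact huu.mul hJ

include hu hχ hχp in
/-- `y_1 ^ t = w_t y_t` with `w_t` a unit, for `1 ≤ t ≤ p - 1`. -/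
theorem ygen_pow (t : ℕ) (ht1 : 1 ≤ t) (ht : t ≤ p - 1) :
    ∃ w : R, IsUnit w ∧ OortTate.ygen R p u χ 1 ^ t = w • OortTate.ygen R p u χ t := by
  induction t, ht1 using Nat.le_induction with
  | base => exact ⟨1, isUnit_one, by rw [pow_one, one_smul]⟩
  | succ t ht1 ih =>
    obtain ⟨w, hw, hyw⟩ := ih (by omega)
    obtain ⟨c, hc, hyc⟩ := ygen_mul_succ R p u χ hu hχ hχp t ht1 (by omega) (by omega)
    refine ⟨w * c, hw.mul hc, ?_⟩
    rw [pow_succ, hyw, smul_mul_assoc, mul_comm, hyc, smul_smul]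

end Wt

section Pow

open Groth.Agent.S18473

variable {R : Type u} [CommRing R] {A : Type u} [CommRing A] [HopfAlgebra R A]
  {p : ℕ} [Fact p.Prime] (u : R) (hu : u * ((p - 1 : ℕ) : R) = 1) (χ : (ZMod p)ˣ →* Rˣ)
  (hχ : ∀ m : (ZMod p)ˣ, m ≠ 1 → IsUnit ((χ m : R) - 1))
  (hχp : ∀ m : (ZMod p)ˣ, ((χ m : Rˣ) : R) - (((m : ZMod p).val : ℕ) : R) ∈
      Ideal.span ({(p : R)} : Set R))
  (hp : (toConv (AlgHom.id R A)) ^ p = 1)

/-- the convolution algebra `End_R(A)` -/
abbrev EndC (R : Type u) [CommRing R] (A : Type u) [CommRing A] [HopfAlgebra R A] : Type u :=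
  WithConv (A →ₗ[R] A)

theorem idL_pow (n : ℕ) :
    (toConv (LinearMap.id : A →ₗ[R] A) : EndC R A) ^ n = toConv (P R A n).toLinearMap :=
  (AlgHom.toLinearMap_convPow (toConv (AlgHom.id R A)) n).symm

include hp in
theorem idL_pow_p : (toConv (LinearMap.id : A →ₗ[R] A) : EndC R A) ^ p = 1 := by
  rw [idL_pow, P_def, hp]
  rfl

/-- the representation `a ↦ [a]` of `ℤ/p` in the convolution algebra -/
noncomputable def rho : Multiplicative (ZMod p) →* EndC R A where
  toFun a := (toConv (LinearMap.id : A →ₗ[R] A) : EndC R A) ^ (Multiplicative.toAdd a).val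
  map_one' := by
    show _ ^ (0 : ZMod p).val = 1
    rw [ZMod.val_zero, pow_zero]
  map_mul' a b := by
    show _ ^ (Multiplicative.toAdd a + Multiplicative.toAdd b).val = _ ^ _ * _ ^ _
    rw [ZMod.val_add, ← pow_eq_pow_mod _ (idL_pow_p hp), pow_add]

/-- the algebra map `R[ℤ/p] → End_R(A)`, `T^a ↦ [a]` -/
noncomputable def Phi : Amu R p →ₐ[R] EndC R A :=
  MonoidAlgebra.lift R (EndC R A) (Multiplicative (ZMod p)) (rho hp)

theorem Phi_Tp (a : ZMod p) :
    Phi hp (Tp R p a) = (toConv (LinearMap.id : A →ₗ[R] A) : EndC R A) ^ a.val := by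
  unfold Phi Tp
  rw [MonoidAlgebra.lift_single, one_smul]
  rfl

/-- evaluation of an element of the convolution algebra at `a` -/
noncomputable def evE (a : A) : EndC R A →ₗ[R] A :=
  (LinearMap.applyₗ a) ∘ₗ (WithConv.linearEquiv R (A →ₗ[R] A)).toLinearMap

theorem evE_apply (a : A) (f : EndC R A) : evE a f = f.ofConv a := rfl

theorem Phi_ygen (i : ℕ) :
    Phi hp (OortTate.ygen R p u χ i) = toConv (Groth.Agent.S18471.b p u χ i) := by
  apply WithConv.ext
  apply LinearMap.ext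
  intro a
  rw [← evE_apply, ← evE_apply, ygen_eq, map_smul, map_sum, map_smul, map_sum]
  have h1 : ∀ m : (ZMod p)ˣ, evE a (Phi hp ((((χ m⁻¹ : Rˣ) : R) ^ i) • (Tp R p (m : ZMod p) - 1))) =
      (((χ m⁻¹ : Rˣ) : R) ^ i) • P R A (m : ZMod p).val a -
        (((χ m⁻¹ : Rˣ) : R) ^ i) • algebraMap R A (Coalgebra.counit (R := R) a) := by
    intro m
    rw [map_smul, map_smul, map_sub, map_sub, Phi_Tp, map_one, idL_pow, smul_sub]
    rfl
  rw [Finset.sum_congr rfl (fun m _ => h1 m), Finset.sum_sub_distrib, smul_sub, evE_apply]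
  show _ = Groth.Agent.S18471.b p u χ i a
  rw [Groth.Agent.S18471.b_apply, proj_apply]
  congr 1
  rw [map_smul, map_sum]
  simp only [map_smul, counit_P, smul_eq_mul]
  rw [← Finset.sum_smul, ← Finset.sum_mul, smul_smul, Algebra.algebraMap_eq_smul_one,
    Algebra.algebraMap_eq_smul_one, smul_smul, mul_assoc]

theorem convPow_mem (f : EndC R A) (N : Submodule R A) (hf : ∀ a, f.ofConv a ∈ N) :
    ∀ (t : ℕ) (a : A), (f ^ t).ofConv a ∈ N ^ t := by
  intro t
  induction t with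
  | zero =>
    intro a
    rw [pow_zero, pow_zero]
    exact Submodule.algebraMap_mem _
  | succ t ih =>
    intro a
    rw [pow_succ, pow_succ]
    have h := Coalgebra.Repr.convMul_apply (Coalgebra.Repr.arbitrary R a) (f ^ t) f
    have h' : (f ^ t * f).ofConv a = _ := h
    rw [h']
    refine Submodule.sum_mem _ fun i _ => ?_
    exact Submodule.mul_mem_mul (ih _) (hf _)

include hu hχ hχp hp in
/-- **Powers**: `I_1 ^ t = I_t` for `1 ≤ t ≤ p - 1`. -/
theorem pow_eigenAug (t : ℕ) (ht1 : 1 ≤ t) (ht : t ≤ p - 1) :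
    (OortTate.eigenAug R A p χ 1) ^ t = OortTate.eigenAug R A p χ t := by
  apply le_antisymm (eigenAug_one_pow_le χ t ht1)
  intro z hz
  obtain ⟨w, hw, hyw⟩ := ygen_pow R p u χ hu hχ hχp t ht1 ht
  have h1 : (toConv (Groth.Agent.S18471.b p u χ 1) : EndC R A) ^ t =
      w • (toConv (Groth.Agent.S18471.b p u χ t) : EndC R A) := by
    rw [← Phi_ygen u χ hp, ← map_pow, hyw, map_smul, Phi_ygen]
  have h2 : ((toConv (Groth.Agent.S18471.b p u χ 1) : EndC R A) ^ t).ofConv z ∈
      (OortTate.eigenAug R A p χ 1) ^ t :=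
    convPow_mem _ _ (fun a => Groth.Agent.S18471.b_mem p u χ hp 1 a) t z
  rw [h1] at h2
  have h3 : (w • (toConv (Groth.Agent.S18471.b p u χ t) : EndC R A)).ofConv z = w • z := by
    show w • Groth.Agent.S18471.b p u χ t z = w • z
    rw [Groth.Agent.S18471.b_of_mem p u hu χ t z hz]
  rw [h3] at h2
  obtain ⟨w', hw'⟩ := hw.exists_left_inv
  have h4 : z = w' • (w • z) := by rw [smul_smul, hw', one_smul]
  rw [h4]
  exact Submodule.smul_mem _ _ h2

end Pow

end Groth.Agent.Lib.R2H7.OTCore
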