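import Groth.Agent.Lib.Helper25FinHopf
import Groth.Agent.S18468
import Groth.Prelude.Def_CartDual
import Groth.Prelude.Def_W4c5ffgsreadingcourseOT

/-!
# R2H7OTField: group schemes of prime order over an algebraically closed field (helper7)

For a commutative Hopf algebra `A` of prime dimension `p` over an algebraically closed field `K`:
* `exists_gen`: the dual algebra `D K A` is generated by one element (`∃ y, span {y^i : i < p} = ⊤`);
* `exists_eigen`: the `χ`-eigenspace `I_1` of the augmentation ideal contains `x` with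
  `x^(p-1) ≠ 0` (Tate–Oort, field case of Lemma 2).
Both are proved by the dichotomy: either `A` has `p` points (étale case, the group of points is
cyclic) or one point (local case, characteristic `p`, a point derivation `ξ` with `ξ^i (x^j)`
triangular).
-/

set_option autoImplicit false
universe u

namespace Groth.Agent.Lib.R2H7.OTField

open TensorProduct WithConv Groth.Agent.S18468

section Etale

variable {K : Type u} [Field K] {A : Type u} [CommRing A] [HopfAlgebra K A] [Module.Finite K A]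
variable (p : ℕ) [Fact p.Prime]

/-- if `A` has as many points as its dimension, the points span the dual -/
theorem span_points (hcard : Nat.card (A →ₐ[K] K) = Module.finrank K A) :
    Submodule.span K (Set.range (AlgHom.toLinearMap : (A →ₐ[K] K) → A →ₗ[K] K)) = ⊤ := by
  classical
  have hli := linearIndependent_algHom_toLinearMap K A K
  haveI : Finite (A →ₐ[K] K) := Groth.Agent.Lib.Helper25.FinHopf.finite_points
  haveI := Fintype.ofFinite (A →ₐ[K] K)
  have hcard' : Fintype.card (A →ₐ[K] K) = Module.finrank K (A →ₗ[K] K) := by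
    rw [← Nat.card_eq_fintype_card, hcard]
    exact (Subspace.dual_finrank_eq (K := K) (V := A)).symm
  exact hli.span_eq_top_of_card_eq_finrank' hcard'

theorem ev_injective (hcard : Nat.card (A →ₐ[K] K) = Module.finrank K A) (a : A)
    (h : ∀ γ : A →ₐ[K] K, γ a = 0) : a = 0 := by
  rw [← Module.forall_dual_apply_eq_zero_iff K a]
  intro φ
  have hφ : φ ∈ Submodule.span K (Set.range (AlgHom.toLinearMap : (A →ₐ[K] K) → A →ₗ[K] K)) := by
    rw [span_points hcard]; exact Submodule.mem_top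
  induction hφ using Submodule.span_induction with
  | mem ψ hψ =>
    obtain ⟨γ, rfl⟩ := hψ
    exact h γ
  | zero => rfl
  | add ψ ψ' _ _ h1 h2 => rw [LinearMap.add_apply, h1, h2, add_zero]
  | smul c ψ _ h1 => rw [LinearMap.smul_apply, h1, smul_zero]

theorem ev_surjective (hcard : Nat.card (A →ₐ[K] K) = Module.finrank K A)
    (F : (A →ₐ[K] K) → K) : ∃ a : A, ∀ γ : A →ₐ[K] K, γ a = F γ := by
  classical
  haveI : Finite (A →ₐ[K] K) := Groth.Agent.Lib.Helper25.FinHopf.finite_points
  haveI := Fintype.ofFinite (A →ₐ[K] K)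
  let ev : A →ₗ[K] ((A →ₐ[K] K) → K) := LinearMap.pi (fun γ => γ.toLinearMap)
  have hinj : Function.Injective ev := by
    rw [← LinearMap.ker_eq_bot, LinearMap.ker_eq_bot']
    intro a ha
    exact ev_injective hcard a (fun γ => congrFun ha γ)
  have hfr : Module.finrank K A = Module.finrank K ((A →ₐ[K] K) → K) := by
    rw [Module.finrank_pi, ← Nat.card_eq_fintype_card, hcard]
  have hsurj := (LinearMap.injective_iff_surjective_of_finrank_eq_finrank hfr).mp hinj
  obtain ⟨a, ha⟩ := hsurj F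
  exact ⟨a, fun γ => congrFun ha γ⟩

/-- evaluation of a point on a power map -/
theorem point_P (γ : WithConv (A →ₐ[K] K)) (n : ℕ) (a : A) :
    γ.ofConv (P K A n a) = (γ ^ n).ofConv a := by
  have h := comp_convPow γ.ofConv (toConv (AlgHom.id K A)) n
  have h2 := congrArg (fun f : A →ₐ[K] K => f a) h
  simp only [AlgHom.comp_apply] at h2
  rw [P_def]
  rw [h2]
  rfl

variable {p}

/-- In the étale case the group of points is cyclic of order `p`: a generator. -/
theorem exists_generator (hcard : Nat.card (A →ₐ[K] K) = p) :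
    ∃ g : WithConv (A →ₐ[K] K), orderOf g = p ∧ ∀ γ : WithConv (A →ₐ[K] K), ∃ k : ℕ, k < p ∧ γ = g ^ k := by
  have hcardG : Nat.card (WithConv (A →ₐ[K] K)) = p := by
    rw [Nat.card_congr (WithConv.equiv (A →ₐ[K] K))]; exact hcard
  haveI : IsCyclic (WithConv (A →ₐ[K] K)) := isCyclic_of_prime_card hcardG
  obtain ⟨g, hg⟩ := IsCyclic.exists_generator (α := WithConv (A →ₐ[K] K))
  have hord : orderOf g = p := by rw [orderOf_eq_card_of_forall_mem_zpowers hg, hcardG]
  have hp0 : 0 < p := (Fact.out : p.Prime).pos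
  haveI : Finite (WithConv (A →ₐ[K] K)) := Nat.finite_of_card_ne_zero (by rw [hcardG]; exact hp0.ne')
  refine ⟨g, hord, fun γ => ?_⟩
  have h1 := (mem_powers_iff_mem_zpowers (x := g) (y := γ)).mpr (hg γ)
  obtain ⟨n, hn⟩ := (Submonoid.mem_powers_iff _ _).mp h1
  refine ⟨n % p, Nat.mod_lt _ hp0, ?_⟩
  rw [← hn, ← hord, pow_mod_orderOf]

end Etale

section EtaleMain

variable {K : Type u} [Field K] {A : Type u} [CommRing A] [HopfAlgebra K A] [Module.Finite K A]
variable {p : ℕ} [Fact p.Prime]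

theorem pow_val_inj (g : WithConv (A →ₐ[K] K)) (hord : orderOf g = p) (m n : (ZMod p)ˣ)
    (h : g ^ (m : ZMod p).val = g ^ (n : ZMod p).val) : m = n := by
  rw [pow_eq_pow_iff_modEq, hord] at h
  have hm := ZMod.val_lt (m : ZMod p)
  have hn := ZMod.val_lt (n : ZMod p)
  have h2 : (m : ZMod p).val = (n : ZMod p).val := Nat.ModEq.eq_of_lt_of_lt h hm hn
  exact Units.ext (ZMod.val_injective p h2)

theorem pow_val_ne_one (g : WithConv (A →ₐ[K] K)) (hord : orderOf g = p) (m : (ZMod p)ˣ) :
    g ^ (m : ZMod p).val ≠ 1 := by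
  intro h
  have h1 := orderOf_dvd_of_pow_eq_one h
  rw [hord] at h1
  have hm := ZMod.val_lt (m : ZMod p)
  have hm0 : (m : ZMod p).val ≠ 0 := by
    intro h0
    exact Units.ne_zero m ((ZMod.val_eq_zero _).mp h0)
  exact absurd (Nat.le_of_dvd (Nat.pos_of_ne_zero hm0) h1) (not_le.mpr hm)

open Classical in
/-- the function `g^m ↦ χ(m)`, `1 ↦ 0` on the cyclic group of points -/
noncomputable def Ffun (χ : (ZMod p)ˣ →* Kˣ) (g γ : WithConv (A →ₐ[K] K)) : K :=
  ∑ m : (ZMod p)ˣ, if γ = g ^ (m : ZMod p).val then ((χ m : Kˣ) : K) else 0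

theorem Ffun_pow (χ : (ZMod p)ˣ →* Kˣ) (g : WithConv (A →ₐ[K] K)) (hord : orderOf g = p)
    (n : (ZMod p)ˣ) : Ffun χ g (g ^ (n : ZMod p).val) = ((χ n : Kˣ) : K) := by
  classical
  unfold Ffun
  rw [Finset.sum_eq_single n]
  · rw [if_pos rfl]
  · intro m _ hmn
    rw [if_neg]
    intro h
    exact hmn (pow_val_inj g hord m n h.symm)
  · intro h
    exact absurd (Finset.mem_univ _) h

theorem Ffun_one (χ : (ZMod p)ˣ →* Kˣ) (g : WithConv (A →ₐ[K] K)) (hord : orderOf g = p) :
    Ffun χ g 1 = 0 := by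
  classical
  unfold Ffun
  refine Finset.sum_eq_zero fun m _ => ?_
  rw [if_neg]
  intro h
  exact pow_val_ne_one g hord m h.symm

theorem one_or_pow (g : WithConv (A →ₐ[K] K))
    (hgen : ∀ γ : WithConv (A →ₐ[K] K), ∃ k : ℕ, k < p ∧ γ = g ^ k) (γ : WithConv (A →ₐ[K] K)) :
    γ = 1 ∨ ∃ m : (ZMod p)ˣ, γ = g ^ (m : ZMod p).val := by
  obtain ⟨k, hk, rfl⟩ := hgen γ
  by_cases hk0 : k = 0
  · left; rw [hk0, pow_zero]
  · right
    have hcop : Nat.Coprime k p :=
      (Nat.coprime_of_lt_prime hk0 hk (Fact.out : p.Prime)).symm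
    refine ⟨ZMod.unitOfCoprime k hcop, ?_⟩
    rw [ZMod.coe_unitOfCoprime, ZMod.val_natCast_of_lt hk]

theorem etale_eigen (χ : (ZMod p)ˣ →* Kˣ) (hcard : Nat.card (A →ₐ[K] K) = p)
    (hfin : Module.finrank K A = p) :
    ∃ x ∈ OortTate.eigenAug K A p χ 1, x ^ (p - 1) ≠ 0 := by
  obtain ⟨g, hord, hgen⟩ := exists_generator (K := K) (A := A) hcard
  have hcard' : Nat.card (A →ₐ[K] K) = Module.finrank K A := hcard.trans hfin.symm
  obtain ⟨x, hx⟩ := ev_surjective hcard' (fun γ => Ffun χ g (toConv γ))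
  have hx' : ∀ γ : WithConv (A →ₐ[K] K), γ.ofConv x = Ffun χ g γ := fun γ => hx γ.ofConv
  refine ⟨x, (mem_eigenAug p χ 1 x).mpr ⟨?_, ?_⟩, ?_⟩
  · have h1 := hx' 1
    rw [Ffun_one χ g hord] at h1
    exact h1
  · intro m
    apply sub_eq_zero.mp
    apply ev_injective hcard'
    intro γ
    rw [map_sub, sub_eq_zero, map_smul, smul_eq_mul, pow_one]
    have h1 := point_P (toConv γ) (m : ZMod p).val x
    rw [ofConv_toConv] at h1
    rw [h1, hx', hx γ]
    rcases one_or_pow g hgen (toConv γ) with h2 | ⟨n, hn⟩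
    · rw [h2, one_pow, Ffun_one χ g hord, mul_zero]
    · rw [hn, ← pow_mul]
      have h3 : g ^ ((n : ZMod p).val * (m : ZMod p).val) = g ^ ((n * m : (ZMod p)ˣ) : ZMod p).val := by
        rw [pow_eq_pow_iff_modEq, hord, Units.val_mul, ZMod.val_mul]
        exact (Nat.mod_modEq _ _).symm
      rw [h3, Ffun_pow χ g hord, Ffun_pow χ g hord, map_mul, Units.val_mul, mul_comm]
  · intro h0
    have h1 := congrArg g.ofConv h0
    rw [map_pow, map_zero, hx' g] at h1
    have hFg : Ffun χ g g = 1 := by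
      have h2 := Ffun_pow χ g hord 1
      rwa [Units.val_one, ZMod.val_one, pow_one, map_one, Units.val_one] at h2
    rw [hFg, one_pow] at h1
    exact one_ne_zero h1

theorem finrank_D (hfin : Module.finrank K A = p) : Module.finrank K (CartDual.D K A) = p := by
  rw [(CartDual.toDual K A).finrank_eq]
  exact (Subspace.dual_finrank_eq (K := K) (V := A)).trans hfin

theorem etale_gen (hcard : Nat.card (A →ₐ[K] K) = p) (hfin : Module.finrank K A = p) :
    ∃ y : CartDual.D K A, Submodule.span K (Set.range fun i : Fin p => y ^ (i : ℕ)) = ⊤ := by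
  obtain ⟨g, hord, -⟩ := exists_generator (K := K) (A := A) hcard
  refine ⟨toConv g.ofConv.toLinearMap, ?_⟩
  have hpow : ∀ i : ℕ, (toConv g.ofConv.toLinearMap : CartDual.D K A) ^ i =
      toConv (g ^ i).ofConv.toLinearMap := fun i => (AlgHom.toLinearMap_convPow g i).symm
  have hinj : Function.Injective (fun i : Fin p => (g ^ (i : ℕ)).ofConv) := by
    intro i j hij
    have h1 : g ^ (i : ℕ) = g ^ (j : ℕ) := WithConv.ofConv_injective hij
    rw [pow_eq_pow_iff_modEq, hord] at h1
    exact Fin.ext (Nat.ModEq.eq_of_lt_of_lt h1 i.2 j.2)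
  have hli := (linearIndependent_algHom_toLinearMap K A K).comp _ hinj
  have hli2 := hli.map' (CartDual.toDual K A).symm.toLinearMap (LinearEquiv.ker _)
  have hfam : ((CartDual.toDual K A).symm.toLinearMap ∘
      (AlgHom.toLinearMap ∘ fun i : Fin p => (g ^ (i : ℕ)).ofConv)) =
      fun i : Fin p => (toConv g.ofConv.toLinearMap : CartDual.D K A) ^ (i : ℕ) := by
    funext i
    rw [hpow]
    rfl
  rw [hfam] at hli2
  apply hli2.span_eq_top_of_card_eq_finrank'
  rw [Fintype.card_fin, finrank_D hfin]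

end EtaleMain

section Pairing

variable {K : Type u} [Field K] {A : Type u} [CommRing A] [HopfAlgebra K A] [Module.Finite K A]

/-- a point derivation at the unit is a primitive element of the dual bialgebra -/
theorem comul_prim (ξ : A →ₗ[K] K)
    (hξ : ∀ a b : A, ξ (a * b) = Coalgebra.counit (R := K) a * ξ b + ξ a * Coalgebra.counit (R := K) b) :
    Coalgebra.comul (R := K) (toConv ξ : CartDual.D K A) =
      (toConv ξ : CartDual.D K A) ⊗ₜ[K] 1 + 1 ⊗ₜ[K] (toConv ξ : CartDual.D K A) := by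
  apply (CartDual.ev₂ K A).injective
  apply TensorProduct.ext'
  intro a b
  rw [CartDual.ev₂_coalgebra_comul_tmul, map_add, LinearMap.add_apply, CartDual.ev₂_tmul,
    CartDual.ev₂_tmul]
  show ξ (a * b) = ξ a * (algebraMap K K (Coalgebra.counit (R := K) b)) +
    algebraMap K K (Coalgebra.counit (R := K) a) * ξ b
  rw [hξ a b, Algebra.algebraMap_self, RingHom.id_apply, RingHom.id_apply, add_comm]

theorem comul_pow_prim (ξ : CartDual.D K A)
    (hprim : Coalgebra.comul (R := K) ξ = ξ ⊗ₜ[K] 1 + 1 ⊗ₜ[K] ξ) (i : ℕ) :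
    Coalgebra.comul (R := K) (ξ ^ i) =
      ∑ k ∈ Finset.range (i + 1), (i.choose k : K) • ((ξ ^ k) ⊗ₜ[K] (ξ ^ (i - k))) := by
  have h1 : Coalgebra.comul (R := K) (ξ ^ i) = (Coalgebra.comul (R := K) ξ) ^ i := by
    rw [← Bialgebra.comulAlgHom_apply, map_pow, Bialgebra.comulAlgHom_apply]
  have hcomm : Commute (ξ ⊗ₜ[K] (1 : CartDual.D K A)) ((1 : CartDual.D K A) ⊗ₜ[K] ξ) := by
    show _ * _ = _ * _
    rw [Algebra.TensorProduct.tmul_mul_tmul, Algebra.TensorProduct.tmul_mul_tmul, mul_one, one_mul]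
  rw [h1, hprim]
  refine (Commute.add_pow (R := CartDual.D K A ⊗[K] CartDual.D K A) hcomm i).trans ?_
  refine Finset.sum_congr rfl fun k _ => ?_
  rw [Algebra.TensorProduct.tmul_pow, Algebra.TensorProduct.tmul_pow, one_pow, one_pow,
    Algebra.TensorProduct.tmul_mul_tmul, mul_one, one_mul, ← (Nat.cast_commute _ _).eq,
    ← nsmul_eq_mul, Nat.cast_smul_eq_nsmul]

theorem pair_pow_mul (ξ : CartDual.D K A)
    (hprim : Coalgebra.comul (R := K) ξ = ξ ⊗ₜ[K] 1 + 1 ⊗ₜ[K] ξ) (i : ℕ) (a b : A) :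
    (ξ ^ i).ofConv (a * b) =
      ∑ k ∈ Finset.range (i + 1),
        (i.choose k : K) * ((ξ ^ k).ofConv a * (ξ ^ (i - k)).ofConv b) := by
  have h := CartDual.ev₂_coalgebra_comul_tmul K A (ξ ^ i) a b
  rw [comul_pow_prim ξ hprim i, map_sum, LinearMap.sum_apply] at h
  rw [CartDual.coe_apply] at h
  rw [← h]
  refine Finset.sum_congr rfl fun k _ => ?_
  rw [map_smul, LinearMap.smul_apply, CartDual.ev₂_tmul, smul_eq_mul]

theorem pair_pow_pow (ξ : CartDual.D K A)
    (hprim : Coalgebra.comul (R := K) ξ = ξ ⊗ₜ[K] 1 + 1 ⊗ₜ[K] ξ) (x : A)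
    (hx0 : Coalgebra.counit (R := K) x = 0) (hx1 : ξ.ofConv x = 1) :
    ∀ j : ℕ, (∀ i < j, (ξ ^ i).ofConv (x ^ j) = 0) ∧
      (ξ ^ j).ofConv (x ^ j) = (j.factorial : K) := by
  have h0x : (ξ ^ 0).ofConv x = 0 := by
    rw [pow_zero]
    show algebraMap K K (Coalgebra.counit (R := K) x) = 0
    rw [hx0, map_zero]
  intro j
  induction j with
  | zero =>
    refine ⟨fun i hi => absurd hi (Nat.not_lt_zero i), ?_⟩
    rw [pow_zero, pow_zero, Nat.factorial_zero, Nat.cast_one]
    show algebraMap K K (Coalgebra.counit (R := K) (1 : A)) = 1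
    rw [Bialgebra.counit_one, map_one]
  | succ j ih =>
    obtain ⟨ih0, ih1⟩ := ih
    constructor
    · intro i hi
      rw [pow_succ, pair_pow_mul ξ hprim]
      refine Finset.sum_eq_zero fun k hk => ?_
      rw [Finset.mem_range] at hk
      by_cases hkj : k < j
      · rw [ih0 k hkj, zero_mul, mul_zero]
      · have h : i - k = 0 := by omega
        rw [h, h0x, mul_zero, mul_zero]
    · rw [pow_succ x, pair_pow_mul ξ hprim, Finset.sum_eq_single j]
      · rw [ih1, Nat.choose_succ_self_right, show j + 1 - j = 1 by omega, pow_one, hx1, mul_one,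
          Nat.factorial_succ]
        push_cast
        ring
      · intro k hk hkj
        rw [Finset.mem_range] at hk
        by_cases hkj' : k < j
        · rw [ih0 k hkj', zero_mul, mul_zero]
        · have h : j + 1 - k = 0 := by omega
          rw [h, h0x, mul_zero, mul_zero]
      · intro h
        exact absurd (Finset.mem_range.mpr (by omega)) h

theorem linIndep_pow (q : ℕ) [Fact q.Prime] [CharP K q] (ξ : CartDual.D K A)
    (hprim : Coalgebra.comul (R := K) ξ = ξ ⊗ₜ[K] 1 + 1 ⊗ₜ[K] ξ) (x : A)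
    (hx0 : Coalgebra.counit (R := K) x = 0) (hx1 : ξ.ofConv x = 1) :
    LinearIndependent K (fun i : Fin q => ξ ^ (i : ℕ)) := by
  classical
  have hfac : ∀ j < q, ((j.factorial : ℕ) : K) ≠ 0 := by
    intro j hj h
    rw [CharP.cast_eq_zero_iff K q, (Fact.out : q.Prime).dvd_factorial] at h
    omega
  let M : Matrix (Fin q) (Fin q) K := fun i j => (ξ ^ (i : ℕ)).ofConv (x ^ (j : ℕ))
  have hM : M.IsLowerTriangular := by
    intro i j hij
    have hij' : i < j := OrderDual.toDual_lt_toDual.mp hij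
    exact (pair_pow_pow ξ hprim x hx0 hx1 j).1 i hij'
  have hdet : M.det ≠ 0 := by
    rw [Matrix.det_of_isLowerTriangular M hM]
    refine Finset.prod_ne_zero_iff.mpr fun j _ => ?_
    show (ξ ^ (j : ℕ)).ofConv (x ^ (j : ℕ)) ≠ 0
    rw [(pair_pow_pow ξ hprim x hx0 hx1 j).2]
    exact hfac j j.2
  rw [Fintype.linearIndependent_iff]
  intro d hd
  have hv : Matrix.vecMul d M = 0 := by
    funext j
    let evA : CartDual.D K A →ₗ[K] K :=
      (LinearMap.applyₗ (x ^ (j : ℕ))) ∘ₗ (CartDual.toDual K A).toLinearMap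
    have h1 := congrArg evA hd
    rw [map_sum, map_zero] at h1
    simp only [map_smul, smul_eq_mul] at h1
    rw [Matrix.vecMul, dotProduct, Pi.zero_apply, ← h1]
    rfl
  have h2 := Matrix.eq_zero_of_vecMul_eq_zero hdet hv
  intro i
  exact congrFun h2 i

/-- symmetric version of `Coalgebra.sum_counit_smul` -/
theorem sum_smul_counit {a : A} {ι : Type*} (𝓡 : Coalgebra.Repr K a ι) :
    ∑ i ∈ 𝓡.index, Coalgebra.counit (R := K) (𝓡.right i) • 𝓡.left i = a := by
  have h := congrArg (TensorProduct.rid K A) (Coalgebra.sum_tmul_counit_eq 𝓡)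
  rw [map_sum] at h
  simpa only [TensorProduct.rid_tmul, one_smul] using h

theorem xi_P (ξ : A →ₗ[K] K)
    (hξ : ∀ a b : A, ξ (a * b) = Coalgebra.counit (R := K) a * ξ b + ξ a * Coalgebra.counit (R := K) b) :
    ∀ (n : ℕ) (a : A), ξ (P K A n a) = (n : K) * ξ a := by
  have hξ1 : ξ 1 = 0 := by
    have h := hξ 1 1
    rw [mul_one, Bialgebra.counit_one, one_mul, mul_one] at h
    linear_combination -h
  intro n
  induction n with
  | zero =>
    intro a
    rw [P_def, pow_zero, Nat.cast_zero, zero_mul]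
    show ξ (algebraMap K A (Coalgebra.counit (R := K) a)) = 0
    rw [Algebra.algebraMap_eq_smul_one, map_smul, hξ1, smul_zero]
  | succ n ih =>
    intro a
    let 𝓡 := Coalgebra.Repr.arbitrary K a
    have h1 : P K A (n + 1) a = ∑ i ∈ 𝓡.index, P K A n (𝓡.left i) * 𝓡.right i := by
      rw [P_def, pow_succ]
      exact Groth.Agent.Lib.Helper25.convMul_apply_of_comul_eq 𝓡.index a 𝓡.left 𝓡.right
        𝓡.eq.symm _ _
    have h2 : ∑ i ∈ 𝓡.index, Coalgebra.counit (R := K) (𝓡.left i) * ξ (𝓡.right i) = ξ a := by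
      have h := congrArg ξ (Coalgebra.sum_counit_smul 𝓡)
      rw [map_sum] at h
      simpa only [map_smul, smul_eq_mul] using h
    have h3 : ∑ i ∈ 𝓡.index, ξ (𝓡.left i) * Coalgebra.counit (R := K) (𝓡.right i) = ξ a := by
      have h := congrArg ξ (sum_smul_counit 𝓡)
      rw [map_sum] at h
      simpa only [map_smul, smul_eq_mul, mul_comm] using h
    rw [h1, map_sum]
    have h4 : ∀ i ∈ 𝓡.index, ξ (P K A n (𝓡.left i) * 𝓡.right i) =
        Coalgebra.counit (R := K) (𝓡.left i) * ξ (𝓡.right i) +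
          (n : K) * (ξ (𝓡.left i) * Coalgebra.counit (R := K) (𝓡.right i)) := by
      intro i _
      rw [hξ, counit_P, ih, mul_assoc]
    rw [Finset.sum_congr rfl h4, Finset.sum_add_distrib, h2, ← Finset.mul_sum, h3]
    push_cast
    ring

end Pairing

section LocalMain

open Groth.Agent.Lib.Helper25.FinHopf

variable {K : Type u} [Field K] {A : Type u} [CommRing A] [HopfAlgebra K A] [Module.Finite K A]
variable {p : ℕ} [Fact p.Prime]

theorem local_data [IsAlgClosed K] (hcard : Nat.card (A →ₐ[K] K) = 1)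
    (hfin : Module.finrank K A = p) :
    CharP K p ∧ ∃ (x : A) (ξ : A →ₗ[K] K), Coalgebra.counit (R := K) x = 0 ∧
      (∀ a b : A, ξ (a * b) =
        Coalgebra.counit (R := K) a * ξ b + ξ a * Coalgebra.counit (R := K) b) ∧ ξ x = 1 := by
  have hp : p.Prime := Fact.out
  have h1 := finrank_eq_card_mul (k := K) (A := A)
  rw [hcard, one_mul, hfin] at h1
  have hbot : unitIdeal K A = ⊥ := by
    by_contra h
    have h2 := finrank_quot_lt (k := K) (unitIdeal K A) h
    rw [← h1, hfin] at h2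
    exact lt_irrefl _ h2
  have hpow : Groth.Agent.Lib.Helper25.augI K A ^ p = ⊥ := by
    have h2 : unitIdeal K A = Groth.Agent.Lib.Helper25.augI K A ^ Module.finrank K A := rfl
    rw [← hfin, ← h2, hbot]
  have hnil : ∀ x : A, Coalgebra.counit (R := K) x = 0 → IsNilpotent x := by
    intro x hx
    refine ⟨p, ?_⟩
    have hx' : Bialgebra.counitAlgHom K A x = 0 := hx
    have h2 : x ^ p ∈ Groth.Agent.Lib.Helper25.augI K A ^ p :=
      Ideal.pow_mem_pow (show x ∈ RingHom.ker (Bialgebra.counitAlgHom K A) from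
        RingHom.mem_ker.mpr hx') p
    rw [hpow] at h2
    exact h2
  have hne1 : ¬ (∀ x : A, Coalgebra.counit (R := K) x = 0 → x = 0) := by
    intro h0
    have h2 := finrank_eq_one_of_augI_eq_bot (k := K) (A := A) h0
    rw [hfin] at h2
    exact hp.one_lt.ne' h2
  have hchar : CharP K p := by
    obtain ⟨ℓ, hℓ⟩ := CharP.exists K
    rcases CharP.char_is_prime_or_zero K ℓ with hprime | h0
    · haveI := Fact.mk hprime
      obtain ⟨r, hr⟩ := finrank_eq_pow_of_nilpotent ℓ (surjective_frobenius K ℓ) p A hnil hfin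
      have hr0 : r ≠ 0 := by
        intro h
        rw [h, pow_zero] at hr
        exact hp.one_lt.ne' hr
      have hdvd : ℓ ∣ p := by
        rw [hr]
        exact dvd_pow_self ℓ hr0
      have hℓp : ℓ = p := (Nat.prime_dvd_prime_iff_eq hprime hp).mp hdvd
      rw [← hℓp]
      exact hℓ
    · exfalso
      subst h0
      haveI : CharZero K := CharP.charP_to_charZero K
      haveI : Algebra.FiniteType K A := Module.Finite.finiteType A
      haveI : IsReduced A := Groth.Agent.Lib.Helper25.CartH.isReduced_of_charZero_hopf (k := K) (A := A)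
      exact hne1 (fun x hx => (hnil x hx).eq_zero)
  refine ⟨hchar, ?_⟩
  haveI : IsNoetherianRing A := IsNoetherianRing.of_finite K A
  obtain ⟨n, xs, ξs, hx, hξ, hδ, hsq⟩ := exists_dual_family' (Bialgebra.counitAlgHom K A)
  have hn : n ≠ 0 := by
    intro hn0
    subst hn0
    apply hne1
    have hle : RingHom.ker (Bialgebra.counitAlgHom K A) ≤ RingHom.ker (Bialgebra.counitAlgHom K A) ^ 2 := by
      intro b hb
      have h2 := hsq b hb
      simpa using h2
    have hm2 : RingHom.ker (Bialgebra.counitAlgHom K A) ^ 2 = RingHom.ker (Bialgebra.counitAlgHom K A) :=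
      le_antisymm (Ideal.pow_le_self two_ne_zero) hle
    have hmk : ∀ k : ℕ, 1 ≤ k →
        RingHom.ker (Bialgebra.counitAlgHom K A) ^ k = RingHom.ker (Bialgebra.counitAlgHom K A) := by
      intro k hk
      induction k, hk using Nat.le_induction with
      | base => exact pow_one _
      | succ k hk ih => rw [pow_succ, ih, ← sq, hm2]
    have hmbot : RingHom.ker (Bialgebra.counitAlgHom K A) = ⊥ := by
      rw [← hmk p hp.one_lt.le]
      exact hpow
    intro x hx
    have hx' : Bialgebra.counitAlgHom K A x = 0 := hx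
    have h2 : x ∈ RingHom.ker (Bialgebra.counitAlgHom K A) := RingHom.mem_ker.mpr hx'
    rw [hmbot] at h2
    exact h2
  let i0 : Fin n := ⟨0, Nat.pos_of_ne_zero hn⟩
  have hx0 : Bialgebra.counitAlgHom K A (xs i0) = 0 := RingHom.mem_ker.mp (hx i0)
  refine ⟨xs i0, ξs i0, hx0, fun a b => hξ i0 a b, ?_⟩
  rw [hδ i0 i0, if_pos rfl]

theorem local_hp (hfin : Module.finrank K A = p) : (toConv (AlgHom.id K A)) ^ p = 1 := by
  have h := convPow_id_finrank K A
  rwa [hfin] at h

theorem local_eigen [CharP K p] (u : K) (hu : u * ((p - 1 : ℕ) : K) = 1) (χ : (ZMod p)ˣ →* Kˣ)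
    (hχp : ∀ m : (ZMod p)ˣ, ((χ m : Kˣ) : K) - (((m : ZMod p).val : ℕ) : K) ∈
      Ideal.span ({(p : K)} : Set K))
    (hfin : Module.finrank K A = p) (x : A) (ξ : A →ₗ[K] K)
    (hx0 : Coalgebra.counit (R := K) x = 0)
    (hξ : ∀ a b : A, ξ (a * b) =
        Coalgebra.counit (R := K) a * ξ b + ξ a * Coalgebra.counit (R := K) b)
    (hx1 : ξ x = 1) :
    ∃ x' ∈ OortTate.eigenAug K A p χ 1, x' ^ (p - 1) ≠ 0 := by
  have hp : p.Prime := Fact.out
  have hpp := local_hp (K := K) (A := A) hfin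
  have hχm : ∀ m : (ZMod p)ˣ, (((m : ZMod p).val : ℕ) : K) = ((χ m : Kˣ) : K) := by
    intro m
    have h := hχp m
    rw [CharP.cast_eq_zero K p, Set.singleton_zero, Ideal.span_zero, Ideal.mem_bot, sub_eq_zero] at h
    exact h.symm
  set x' := OortTate.proj K A p u χ 1 x with hx'
  have hc0 : Coalgebra.counit (R := K) x' = 0 := by
    rw [hx', proj_apply, map_smul, map_sum]
    simp only [map_smul, counit_P, hx0, smul_zero, Finset.sum_const_zero]
  have hξx' : ξ x' = 1 := by
    rw [hx', proj_apply, map_smul, map_sum]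
    simp only [map_smul, xi_P ξ hξ, hx1, mul_one, smul_eq_mul, pow_one, hχm]
    have h1 : ∀ m : (ZMod p)ˣ, ((χ m⁻¹ : Kˣ) : K) * ((χ m : Kˣ) : K) = 1 := by
      intro m
      rw [← Units.val_mul, ← map_mul, inv_mul_cancel, map_one, Units.val_one]
    simp only [h1, Finset.sum_const, Finset.card_univ, ZMod.card_units, nsmul_eq_mul, mul_one]
    exact hu
  refine ⟨x', (mem_eigenAug p χ 1 x').mpr ⟨hc0, fun m => P_proj p u χ hpp 1 m x⟩, ?_⟩
  intro h0
  have hprim := comul_prim (K := K) (A := A) ξ hξ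
  have h2 := (pair_pow_pow (toConv ξ : CartDual.D K A) hprim x' hc0 hξx' (p - 1)).2
  rw [h0, map_zero] at h2
  have h3 : (((p - 1).factorial : ℕ) : K) ≠ 0 := by
    intro h
    rw [CharP.cast_eq_zero_iff K p, hp.dvd_factorial] at h
    have := hp.one_lt
    omega
  exact h3 h2.symm

theorem local_gen [CharP K p] (hfin : Module.finrank K A = p) (x : A) (ξ : A →ₗ[K] K)
    (hx0 : Coalgebra.counit (R := K) x = 0)
    (hξ : ∀ a b : A, ξ (a * b) =
        Coalgebra.counit (R := K) a * ξ b + ξ a * Coalgebra.counit (R := K) b)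
    (hx1 : ξ x = 1) :
    ∃ y : CartDual.D K A, Submodule.span K (Set.range fun i : Fin p => y ^ (i : ℕ)) = ⊤ := by
  refine ⟨toConv ξ, ?_⟩
  have hli := linIndep_pow p (toConv ξ : CartDual.D K A) (comul_prim ξ hξ) x hx0 hx1
  apply hli.span_eq_top_of_card_eq_finrank'
  rw [Fintype.card_fin, finrank_D hfin]

theorem card_points [IsAlgClosed K] (hfin : Module.finrank K A = p) :
    Nat.card (A →ₐ[K] K) = 1 ∨ Nat.card (A →ₐ[K] K) = p := by
  have h1 := finrank_eq_card_mul (k := K) (A := A)
  rw [hfin] at h1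
  exact (Nat.dvd_prime (Fact.out : p.Prime)).mp ⟨_, h1⟩

/-- **Field case, eigenvector**: over an algebraically closed field, the `χ`-eigenspace of the
augmentation ideal of a Hopf algebra of prime dimension `p` contains `x` with `x^(p-1) ≠ 0`. -/
theorem exists_eigen [IsAlgClosed K] (u : K) (hu : u * ((p - 1 : ℕ) : K) = 1)
    (χ : (ZMod p)ˣ →* Kˣ)
    (hχp : ∀ m : (ZMod p)ˣ, ((χ m : Kˣ) : K) - (((m : ZMod p).val : ℕ) : K) ∈
      Ideal.span ({(p : K)} : Set K))
    (hfin : Module.finrank K A = p) :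
    ∃ x ∈ OortTate.eigenAug K A p χ 1, x ^ (p - 1) ≠ 0 := by
  rcases card_points (K := K) (A := A) hfin with h1 | hp
  · obtain ⟨hchar, x, ξ, hx0, hξ, hx1⟩ := local_data (K := K) (A := A) h1 hfin
    haveI := hchar
    exact local_eigen u hu χ hχp hfin x ξ hx0 hξ hx1
  · exact etale_eigen χ hp hfin

/-- **Field case, monogenic dual**: over an algebraically closed field the dual algebra of a Hopf
algebra of prime dimension `p` is generated by one element. -/
theorem exists_gen [IsAlgClosed K] (hfin : Module.finrank K A = p) :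
    ∃ y : CartDual.D K A, Submodule.span K (Set.range fun i : Fin p => y ^ (i : ℕ)) = ⊤ := by
  rcases card_points (K := K) (A := A) hfin with h1 | hp
  · obtain ⟨hchar, x, ξ, hx0, hξ, hx1⟩ := local_data (K := K) (A := A) h1 hfin
    haveI := hchar
    exact local_gen hfin x ξ hx0 hξ hx1
  · exact etale_gen hp hfin

end LocalMain

end Groth.Agent.Lib.R2H7.OTField
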