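import Groth.Agent.Lib.R2H7OTCore

/-!
# R2H7OTPair: the Cartier pairing `R[ℤ/p] → A ⊗ A^D ≅ End_R(A)` (helper7)

* `swap_of_rank_one`, `eq_zero_of_smul_eq_zero`: rank one projective modules.
* `Psi : A ⊗ D R A →ₐ End_R(A)^conv` (an algebra isomorphism, `PsiEquiv`), `Psi_canonical`: the
  canonical element goes to the identity; `Psi_comp`: any algebra map `ϕ : R[ℤ/p] → A ⊗ D` sending
  `T` to the canonical element satisfies `Psi ∘ ϕ = Phi`.
* `span_pairing`, `pairing_free`: Tate–Oort, the image of `y_1` generates `I_1(A) ⊗ I_1(A^D)`.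
-/

set_option autoImplicit false
universe u

namespace Groth.Agent.Lib.R2H7.OTPair

open TensorProduct WithConv Groth.Agent.S18468 Groth.Agent.Lib.R2H7.OTCore CartDual

section RankOne

variable {R : Type u} [CommRing R] (L : Type u) [AddCommGroup L] [Module R L] [Module.Finite R L]
  [Module.Projective R L] (hrk : ∀ q : PrimeSpectrum R, Module.rankAtStalk L q = 1)

include hrk in
/-- In a rank one projective module, `λ(x) y = λ(y) x`. -/
theorem swap_of_rank_one (f : L →ₗ[R] R) (x y : L) : f x • y = f y • x := by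
  apply Module.eq_of_localization_maximal
    (fun P _ => Localization.AtPrime P ⊗[R] L)
    (fun P _ => TensorProduct.mk R (Localization.AtPrime P) L 1)
  intro P hP
  show (1 : Localization.AtPrime P) ⊗ₜ[R] (f x • y) = (1 : Localization.AtPrime P) ⊗ₜ[R] (f y • x)
  haveI : Module.Free (Localization.AtPrime P) (Localization.AtPrime P ⊗[R] L) :=
    Module.free_of_flat_of_isLocalRing
  have hr : Module.finrank (Localization.AtPrime P) (Localization.AtPrime P ⊗[R] L) = 1 := by
    rw [← Module.rankAtStalk_eq_finrank_tensorProduct ⟨P, hP.isPrime⟩]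
    exact hrk _
  let b := Module.finBasisOfFinrankEq (Localization.AtPrime P) (Localization.AtPrime P ⊗[R] L) hr
  have hgen : ∀ m : Localization.AtPrime P ⊗[R] L, ∃ s : Localization.AtPrime P, m = s • b 0 := by
    intro m
    refine ⟨b.repr m 0, ?_⟩
    conv_lhs => rw [← b.sum_repr m]
    simp
  let fP : Localization.AtPrime P ⊗[R] L →ₗ[Localization.AtPrime P] Localization.AtPrime P :=
    (TensorProduct.AlgebraTensorModule.rid R (Localization.AtPrime P)
      (Localization.AtPrime P)).toLinearMap ∘ₗ (f.baseChange (Localization.AtPrime P))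
  have hf : ∀ z : L, fP ((1 : Localization.AtPrime P) ⊗ₜ[R] z) =
      algebraMap R (Localization.AtPrime P) (f z) := by
    intro z
    simp [fP, Algebra.algebraMap_eq_smul_one]
  have key : ∀ m m' : Localization.AtPrime P ⊗[R] L, fP m • m' = fP m' • m := by
    intro m m'
    obtain ⟨s, rfl⟩ := hgen m
    obtain ⟨t, rfl⟩ := hgen m'
    rw [map_smul, map_smul, smul_eq_mul, smul_eq_mul, smul_smul, smul_smul]
    congr 1
    ring
  have h1 : ∀ z z' : L, (1 : Localization.AtPrime P) ⊗ₜ[R] (f z • z') =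
      fP ((1 : Localization.AtPrime P) ⊗ₜ[R] z) • ((1 : Localization.AtPrime P) ⊗ₜ[R] z') := by
    intro z z'
    rw [hf, algebraMap_smul, TensorProduct.tmul_smul]
  rw [h1, h1, key]

include hrk in
/-- A rank one projective module is faithful. -/
theorem eq_zero_of_smul_eq_zero (r : R) (h : ∀ x : L, r • x = 0) : r = 0 := by
  apply Module.eq_of_localization_maximal
    (fun P _ => Localization.AtPrime P)
    (fun P _ => Algebra.linearMap R (Localization.AtPrime P))
  intro P hP
  show algebraMap R (Localization.AtPrime P) r = algebraMap R (Localization.AtPrime P) 0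
  rw [map_zero]
  haveI : Module.Free (Localization.AtPrime P) (Localization.AtPrime P ⊗[R] L) :=
    Module.free_of_flat_of_isLocalRing
  have hr : Module.finrank (Localization.AtPrime P) (Localization.AtPrime P ⊗[R] L) = 1 := by
    rw [← Module.rankAtStalk_eq_finrank_tensorProduct ⟨P, hP.isPrime⟩]
    exact hrk _
  let b := Module.finBasisOfFinrankEq (Localization.AtPrime P) (Localization.AtPrime P ⊗[R] L) hr
  have hkill : ∀ m : Localization.AtPrime P ⊗[R] L,
      algebraMap R (Localization.AtPrime P) r • m = 0 := by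
    intro m
    induction m using TensorProduct.induction_on with
    | zero => rw [smul_zero]
    | tmul s x => rw [algebraMap_smul, ← TensorProduct.tmul_smul, h x, TensorProduct.tmul_zero]
    | add m m' hm hm' => rw [smul_add, hm, hm', add_zero]
  have h2 := hkill (b 0)
  have h3 := congrArg b.repr h2
  rw [LinearEquiv.map_smul, Module.Basis.repr_self, LinearEquiv.map_zero] at h3
  have h4 := DFunLike.congr_fun h3 0
  rw [Finsupp.smul_apply, Finsupp.single_eq_same, smul_eq_mul, mul_one, Finsupp.zero_apply] at h4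
  exact h4

end RankOne

section Psi

variable (R : Type u) [CommRing R] (A : Type u) [CommRing A] [HopfAlgebra R A]
  [Module.Finite R A] [Module.Projective R A]

/-- `A ⊗ A^D ≅ End_R(A)`, `a ⊗ ψ ↦ (b ↦ ψ(b) a)`, as a linear equivalence. -/
noncomputable def PsiEquiv : A ⊗[R] D R A ≃ₗ[R] EndC R A :=
  (TensorProduct.congr (LinearEquiv.refl R A) (toDual R A)) ≪≫ₗ
    TensorProduct.comm R A (Module.Dual R A) ≪≫ₗ dualTensorHomEquiv R A A ≪≫ₗ
    (WithConv.linearEquiv R (A →ₗ[R] A)).symm

theorem PsiEquiv_tmul (a : A) (ψ : D R A) (b : A) :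
    (PsiEquiv R A (a ⊗ₜ[R] ψ)).ofConv b = ψ.ofConv b • a := by
  simp [PsiEquiv, dualTensorHom_apply]

/-- `A ⊗ A^D → End_R(A)` is an algebra map for the convolution product. -/
noncomputable def Psi : A ⊗[R] D R A →ₐ[R] EndC R A :=
  Algebra.TensorProduct.algHomOfLinearMapTensorProduct (PsiEquiv R A).toLinearMap
    (by
      intro a₁ a₂ ψ₁ ψ₂
      apply WithConv.ext
      apply LinearMap.ext
      intro b
      show (PsiEquiv R A ((a₁ * a₂) ⊗ₜ[R] (ψ₁ * ψ₂))).ofConv b =
        (PsiEquiv R A (a₁ ⊗ₜ[R] ψ₁) * PsiEquiv R A (a₂ ⊗ₜ[R] ψ₂)).ofConv b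
      have h1 := Coalgebra.Repr.convMul_apply (Coalgebra.Repr.arbitrary R b)
        (PsiEquiv R A (a₁ ⊗ₜ[R] ψ₁)) (PsiEquiv R A (a₂ ⊗ₜ[R] ψ₂))
      have h1' : (PsiEquiv R A (a₁ ⊗ₜ[R] ψ₁) * PsiEquiv R A (a₂ ⊗ₜ[R] ψ₂)).ofConv b = _ := h1
      have h2 := Coalgebra.Repr.convMul_apply (Coalgebra.Repr.arbitrary R b) ψ₁ ψ₂
      have h2' : (ψ₁ * ψ₂).ofConv b = _ := h2
      rw [h1', PsiEquiv_tmul, h2', Finset.sum_smul]
      refine Finset.sum_congr rfl fun i _ => ?_
      show _ = (PsiEquiv R A (a₁ ⊗ₜ[R] ψ₁)).ofConv _ * (PsiEquiv R A (a₂ ⊗ₜ[R] ψ₂)).ofConv _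
      rw [PsiEquiv_tmul, PsiEquiv_tmul, smul_mul_smul_comm])
    (by
      apply WithConv.ext
      apply LinearMap.ext
      intro b
      show (PsiEquiv R A ((1 : A) ⊗ₜ[R] (1 : D R A))).ofConv b = (1 : EndC R A).ofConv b
      rw [PsiEquiv_tmul]
      show (algebraMap R R (Coalgebra.counit (R := R) b)) • (1 : A) =
        algebraMap R A (Coalgebra.counit (R := R) b)
      rw [Algebra.algebraMap_self, RingHom.id_apply, Algebra.algebraMap_eq_smul_one])

theorem Psi_apply (z : A ⊗[R] D R A) : Psi R A z = PsiEquiv R A z := rfl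

theorem Psi_tmul (a : A) (ψ : D R A) (b : A) :
    (Psi R A (a ⊗ₜ[R] ψ)).ofConv b = ψ.ofConv b • a := PsiEquiv_tmul R A a ψ b

theorem Psi_injective : Function.Injective (Psi R A) := (PsiEquiv R A).injective

/-- the contraction `(id ⊗ ev_a)` is evaluation of the endomorphism at `a` -/
theorem contract_eq (a : A) (z : A ⊗[R] D R A) :
    TensorProduct.rid R A (LinearMap.lTensor A
      ((Module.Dual.eval R A a) ∘ₗ (CartDual.toDual R A).toLinearMap) z) = (Psi R A z).ofConv a := by
  induction z using TensorProduct.induction_on with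
  | zero => simp
  | tmul x ψ =>
    rw [LinearMap.lTensor_tmul, TensorProduct.rid_tmul, Psi_tmul]
    rfl
  | add z z' hz hz' => rw [map_add, map_add, map_add, hz, hz']; rfl

/-- the canonical element corresponds to the identity -/
theorem Psi_canonical (δ : A ⊗[R] D R A)
    (hδ : ∀ a : A, TensorProduct.rid R A (LinearMap.lTensor A
      ((Module.Dual.eval R A a) ∘ₗ (CartDual.toDual R A).toLinearMap) δ) = a) :
    Psi R A δ = toConv (LinearMap.id : A →ₗ[R] A) := by
  apply WithConv.ext
  apply LinearMap.ext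
  intro a
  rw [← contract_eq, hδ]
  rfl

end Psi

section Main

open Groth.Agent.S18473

variable {R : Type u} [CommRing R] {A : Type u} [CommRing A] [HopfAlgebra R A]
  [Coalgebra.IsCocomm R A] [Module.Finite R A] [Module.Projective R A]
  {p : ℕ} [Fact p.Prime] (u : R) (hu : u * ((p - 1 : ℕ) : R) = 1) (χ : (ZMod p)ˣ →* Rˣ)
  (hχ : ∀ m : (ZMod p)ˣ, m ≠ 1 → IsUnit ((χ m : R) - 1))
  (hχp : ∀ m : (ZMod p)ˣ, ((χ m : Rˣ) : R) - (((m : ZMod p).val : ℕ) : R) ∈
      Ideal.span ({(p : R)} : Set R))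
  (hp : (toConv (AlgHom.id R A)) ^ p = 1)
  (hrk : ∀ q : PrimeSpectrum R, Module.rankAtStalk A q = p)

omit [Coalgebra.IsCocomm R A] in
theorem algHom_pow_to {B : Type u} [CommRing B] [Algebra R B] (ϕ : B →ₐ[R] A ⊗[R] D R A) (x : B)
    (n : ℕ) : ϕ (x ^ n) = ϕ x ^ n := by
  induction n with
  | zero =>
    rw [pow_zero, pow_zero]
    exact ϕ.map_one'
  | succ n ih => rw [pow_succ, pow_succ, map_mul, ih]

omit [Coalgebra.IsCocomm R A] in
theorem Psi_pow (z : A ⊗[R] D R A) (n : ℕ) : Psi R A (z ^ n) = Psi R A z ^ n := by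
  induction n with
  | zero =>
    rw [pow_zero, pow_zero]
    exact (Psi R A).map_one'
  | succ n ih => rw [pow_succ, pow_succ, map_mul, ih]

omit [Coalgebra.IsCocomm R A] in
/-- `Psi ∘ ϕ = Phi` for any algebra map `ϕ` sending `T` to the canonical element. -/
theorem Psi_comp (ϕ : Amu R p →ₐ[R] A ⊗[R] D R A)
    (hϕ : Psi R A (ϕ (OortTate.muT R p)) = toConv (LinearMap.id : A →ₗ[R] A)) (y : Amu R p) :
    Psi R A (ϕ y) = Phi hp y := by
  rw [decomp R p y, map_sum, map_sum, map_sum]
  refine Finset.sum_congr rfl fun a _ => ?_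
  rw [map_smul, map_smul, map_smul]
  congr 1
  have h3 : Tp R p a = Tp R p 1 ^ a.val := by
    rw [Tp_pow, nsmul_eq_mul, mul_one, ZMod.natCast_zmod_val]
  rw [Phi_Tp, h3, algHom_pow_to, Psi_pow, ← muT_eq, hϕ]

/-- restriction of linear forms `I_i(A^D) → I_i(A)^*` -/
noncomputable def rhoL (i : ℕ) :
    OortTate.eigenAug R (D R A) p χ i →ₗ[R] Module.Dual R (OortTate.eigenAug R A p χ i) where
  toFun f := ((toDual R A) (f : D R A)).comp (OortTate.eigenAug R A p χ i).subtype
  map_add' f g := by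
    apply LinearMap.ext
    intro x
    rfl
  map_smul' r f := by
    apply LinearMap.ext
    intro x
    rfl

theorem rhoL_apply (i : ℕ) (f : OortTate.eigenAug R (D R A) p χ i)
    (x : OortTate.eigenAug R A p χ i) : rhoL χ i f x = (f : D R A).ofConv (x : A) := rfl

/-- the restriction isomorphism `I_i(A^D) ≅ I_i(A)^*` (S18471) -/
noncomputable def rhoE (i : ℕ) :
    OortTate.eigenAug R (D R A) p χ i ≃ₗ[R] Module.Dual R (OortTate.eigenAug R A p χ i) :=
  LinearEquiv.ofBijective (rhoL χ i) (Groth.Agent.S18471.main p u hu χ hp i)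

theorem rhoE_apply (i : ℕ) (f : OortTate.eigenAug R (D R A) p χ i)
    (x : OortTate.eigenAug R A p χ i) : rhoE u hu χ hp i f x = (f : D R A).ofConv (x : A) := rfl

/-- `φ(b) = (ρ φ)(b_i b)` for `φ ∈ I_i(A^D)` -/
theorem ofConv_eq_rhoE (i : ℕ) (f : OortTate.eigenAug R (D R A) p χ i) (b : A) :
    (f : D R A).ofConv b = rhoE u hu χ hp i f (bRes u χ hp i b) := by
  rw [rhoE_apply, bRes_coe]
  exact (Groth.Agent.S18471.phi_b p u hu χ i f.1 f.2 b).symm

include hu hχ hχp hp hrk in
/-- pure tensors of `I_1(A) ⊗ I_1(A^D)` are multiples of the image of `y_1` -/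
theorem pairing_tmul (ϕ : Amu R p →ₐ[R] A ⊗[R] D R A)
    (hϕ : Psi R A (ϕ (OortTate.muT R p)) = toConv (LinearMap.id : A →ₗ[R] A))
    (a : OortTate.eigenAug R A p χ 1) (f : OortTate.eigenAug R (D R A) p χ 1) :
    (a : A) ⊗ₜ[R] (f : D R A) = ((f : D R A).ofConv (a : A)) • ϕ (OortTate.ygen R p u χ 1) := by
  haveI := finite_eigenAug u hu χ hp 1
  haveI := projective_eigenAug u hu χ hp 1
  apply Psi_injective R A
  rw [map_smul, Psi_comp hp ϕ hϕ, Phi_ygen]
  apply WithConv.ext
  apply LinearMap.ext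
  intro b
  rw [Psi_tmul]
  show _ = (f : D R A).ofConv (a : A) • Groth.Agent.S18471.b p u χ 1 b
  rw [ofConv_eq_rhoE u hu χ hp 1 f b, ← rhoE_apply u hu χ hp 1 f a, ← bRes_coe u χ hp 1 b,
    ← Submodule.coe_smul, ← Submodule.coe_smul]
  congr 1
  exact swap_of_rank_one _ (fun q => rank_eigenAug u hu χ hχ hχp hp hrk 1 q) _ _ _

include hu hχ hχp hp hrk in
/-- the image of `y_1` lies in the image of `I_1(A) ⊗ I_1(A^D)` -/
theorem pairing_mem (ϕ : Amu R p →ₐ[R] A ⊗[R] D R A)
    (hϕ : Psi R A (ϕ (OortTate.muT R p)) = toConv (LinearMap.id : A →ₗ[R] A)) :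
    ϕ (OortTate.ygen R p u χ 1) ∈ LinearMap.range (TensorProduct.map
      (OortTate.eigenAug R A p χ 1).subtype (OortTate.eigenAug R (D R A) p χ 1).subtype) := by
  haveI := finite_eigenAug u hu χ hp 1
  haveI := projective_eigenAug u hu χ hp 1
  have key : ∀ (t : Module.Dual R (OortTate.eigenAug R A p χ 1) ⊗[R] OortTate.eigenAug R A p χ 1)
      (b : A),
      (Psi R A (TensorProduct.map (OortTate.eigenAug R A p χ 1).subtype
        (OortTate.eigenAug R (D R A) p χ 1).subtype
        (TensorProduct.comm R _ _ (TensorProduct.map (rhoE u hu χ hp 1).symm.toLinearMap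
          LinearMap.id t)))).ofConv b =
      ((dualTensorHom R _ _ t (bRes u χ hp 1 b) : OortTate.eigenAug R A p χ 1) : A) := by
    intro t b
    induction t using TensorProduct.induction_on with
    | zero => simp
    | tmul l a =>
      rw [TensorProduct.map_tmul, TensorProduct.comm_tmul, TensorProduct.map_tmul, Psi_tmul,
        dualTensorHom_apply, Submodule.coe_smul]
      congr 1
      rw [Submodule.subtype_apply, ofConv_eq_rhoE u hu χ hp 1, LinearEquiv.coe_coe,
        LinearEquiv.apply_symm_apply]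
    | add t t' ht ht' =>
      simp only [map_add, WithConv.ofConv_add, LinearMap.add_apply, Submodule.coe_add]
      rw [ht, ht']
  refine ⟨TensorProduct.comm R _ _ (TensorProduct.map (rhoE u hu χ hp 1).symm.toLinearMap
    LinearMap.id ((dualTensorHomEquiv R _ _).symm LinearMap.id)), ?_⟩
  apply Psi_injective R A
  rw [Psi_comp hp ϕ hϕ, Phi_ygen]
  apply WithConv.ext
  apply LinearMap.ext
  intro b
  rw [key]
  have h1 : dualTensorHom R (OortTate.eigenAug R A p χ 1) (OortTate.eigenAug R A p χ 1)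
      ((dualTensorHomEquiv R _ _).symm LinearMap.id) = LinearMap.id :=
    (dualTensorHomEquiv R (OortTate.eigenAug R A p χ 1)
      (OortTate.eigenAug R A p χ 1)).apply_symm_apply LinearMap.id
  rw [h1]
  rfl

include hu hχ hχp hp hrk in
/-- **Tate–Oort**: the image of `y_1` under the Cartier pairing generates `I_1(A) ⊗ I_1(A^D)`. -/
theorem span_pairing (ϕ : Amu R p →ₐ[R] A ⊗[R] D R A)
    (hϕ : Psi R A (ϕ (OortTate.muT R p)) = toConv (LinearMap.id : A →ₗ[R] A)) :
    Submodule.span R {ϕ (OortTate.ygen R p u χ 1)} =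
      LinearMap.range (TensorProduct.map (OortTate.eigenAug R A p χ 1).subtype
        (OortTate.eigenAug R (D R A) p χ 1).subtype) := by
  apply le_antisymm
  · rw [Submodule.span_le, Set.singleton_subset_iff]
    exact pairing_mem u hu χ hχ hχp hp hrk ϕ hϕ
  · rintro _ ⟨w, rfl⟩
    induction w using TensorProduct.induction_on with
    | zero => rw [map_zero]; exact Submodule.zero_mem _
    | tmul a f =>
      rw [TensorProduct.map_tmul, Submodule.subtype_apply, Submodule.subtype_apply,
        pairing_tmul u hu χ hχ hχp hp hrk ϕ hϕ a f]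
      exact Submodule.smul_mem _ _ (Submodule.mem_span_singleton_self _)
    | add w w' hw hw' =>
      rw [map_add]
      exact Submodule.add_mem _ hw hw'

include hu hχ hχp hp hrk in
/-- the image of `y_1` is a free generator -/
theorem pairing_free (ϕ : Amu R p →ₐ[R] A ⊗[R] D R A)
    (hϕ : Psi R A (ϕ (OortTate.muT R p)) = toConv (LinearMap.id : A →ₗ[R] A))
    (r : R) (hr : r • ϕ (OortTate.ygen R p u χ 1) = 0) : r = 0 := by
  haveI := finite_eigenAug u hu χ hp 1
  haveI := projective_eigenAug u hu χ hp 1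
  have h1 := congrArg (Psi R A) hr
  rw [map_smul, Psi_comp hp ϕ hϕ, Phi_ygen, map_zero] at h1
  apply eq_zero_of_smul_eq_zero (OortTate.eigenAug R A p χ 1)
    (fun q => rank_eigenAug u hu χ hχ hχp hp hrk 1 q) r
  intro x
  apply Subtype.ext
  have h2 := congrArg (fun F : EndC R A => F.ofConv (x : A)) h1
  have h3 : r • Groth.Agent.S18471.b p u χ 1 (x : A) = 0 := h2
  rw [Groth.Agent.S18471.b_of_mem p u hu χ 1 x.1 x.2] at h3
  exact h3

end Main

end Groth.Agent.Lib.R2H7.OTPair
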