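import Mathlib
import Groth.Agent.Lib.R2H7OTPair

/-!
# R2H7OTPres: presentation of a rank `p` algebra by an invertible submodule (helper7)

Abstract form of the Tate–Oort presentation `A = Sym(I_1)/(x_1 ⋯ x_p - a(x_1 ⊗ ⋯ ⊗ x_p))`.

* `tmul_comm'`, `ι_mul_comm`, `mul_comm'`: the tensor algebra of a rank one projective module is
  commutative.
* `cumPow W t = ⨆ s < t, W ^ s`.
* `main`: if `A` is a finite projective `R`-algebra of rank `p ≥ 2`, `L ⊆ A` is an invertible
  submodule with `∑_{s<p} L^s = A` and `L^p ≤ L`, then `T(L) → A` is surjective with kernel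
  generated by the relations `ι x_1 ⋯ ι x_p - ι (x_1 ⋯ x_p)`.
* `exists_lift`, `algHom_ext`: the resulting universal property.
-/

set_option autoImplicit false
universe u v

namespace Groth.Agent.Lib.R2H7.OTPres

open TensorProduct

section RankOne

variable {R : Type u} [CommRing R] (L : Type u) [AddCommGroup L] [Module R L] [Module.Finite R L]
  [Module.Projective R L] (hrk : ∀ q : PrimeSpectrum R, Module.rankAtStalk L q = 1)

include hrk in
/-- In `L ⊗ L` for `L` invertible, `x ⊗ y = y ⊗ x`. -/
theorem tmul_comm' (x y : L) : x ⊗ₜ[R] y = y ⊗ₜ[R] x := by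
  classical
  obtain ⟨s, hs⟩ := (Module.Projective.out :
    ∃ s : L →ₗ[R] (L →₀ R), Function.LeftInverse (Finsupp.linearCombination R id) s)
  let f : L → (L →ₗ[R] R) := fun e => (Finsupp.lapply e) ∘ₗ s
  let S : Finset L := (s x).support ∪ (s y).support
  have hx : x = ∑ e ∈ S, f e x • e := by
    conv_lhs => rw [← hs x]
    rw [Finsupp.linearCombination_apply, Finsupp.sum_of_support_subset _ Finset.subset_union_left]
    · rfl
    · intro e _; simp
  have hy : y = ∑ e ∈ S, f e y • e := by
    conv_lhs => rw [← hs y]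
    rw [Finsupp.linearCombination_apply, Finsupp.sum_of_support_subset _ Finset.subset_union_right]
    · rfl
    · intro e _; simp
  calc x ⊗ₜ[R] y = (∑ e ∈ S, f e x • e) ⊗ₜ[R] y := by rw [← hx]
    _ = ∑ e ∈ S, e ⊗ₜ[R] (f e x • y) := by
        rw [TensorProduct.sum_tmul]
        exact Finset.sum_congr rfl fun e _ => TensorProduct.smul_tmul _ _ _
    _ = ∑ e ∈ S, e ⊗ₜ[R] (f e y • x) := by
        refine Finset.sum_congr rfl fun e _ => ?_
        rw [OTPair.swap_of_rank_one L hrk (f e) x y]
    _ = (∑ e ∈ S, f e y • e) ⊗ₜ[R] x := by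
        rw [TensorProduct.sum_tmul]
        exact Finset.sum_congr rfl fun e _ => (TensorProduct.smul_tmul _ _ _).symm
    _ = y ⊗ₜ[R] x := by rw [← hy]

include hrk in
theorem ι_mul_comm (x y : L) :
    TensorAlgebra.ι R x * TensorAlgebra.ι R y = TensorAlgebra.ι R y * TensorAlgebra.ι R x := by
  have h := congrArg (TensorProduct.lift ((LinearMap.mul R (TensorAlgebra R L)).compl₁₂
    (TensorAlgebra.ι R) (TensorAlgebra.ι R))) (tmul_comm' L hrk x y)
  simpa using h

include hrk in
/-- The tensor algebra of an invertible module is commutative. -/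
theorem mul_comm' (a b : TensorAlgebra R L) : a * b = b * a := by
  have h1 : ∀ (x : L) (b : TensorAlgebra R L), Commute (TensorAlgebra.ι R x) b := by
    intro x b
    induction b using TensorAlgebra.induction with
    | algebraMap r => exact (Algebra.commutes r _).symm
    | ι y => exact ι_mul_comm L hrk x y
    | mul a b ha hb => exact ha.mul_right hb
    | add a b ha hb => exact ha.add_right hb
  show Commute a b
  induction a using TensorAlgebra.induction with
  | algebraMap r => exact Algebra.commutes r b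
  | ι x => exact h1 x b
  | mul a a' ha ha' => exact ha.mul_left ha'
  | add a a' ha ha' => exact ha.add_left ha'

end RankOne

section CumPow

variable {R : Type u} [CommSemiring R] {A : Type v} [Semiring A] [Algebra R A]

/-- `cumPow W t = ∑_{s < t} W ^ s`. -/
def cumPow (W : Submodule R A) : ℕ → Submodule R A
  | 0 => ⊥
  | t + 1 => cumPow W t ⊔ W ^ t

theorem cumPow_succ (W : Submodule R A) (t : ℕ) : cumPow W (t + 1) = cumPow W t ⊔ W ^ t := rfl

theorem pow_le_cumPow (W : Submodule R A) (s t : ℕ) (h : s < t) : W ^ s ≤ cumPow W t := by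
  induction t with
  | zero => omega
  | succ t ih =>
    rcases Nat.lt_succ_iff_lt_or_eq.mp h with h' | rfl
    · exact (ih h').trans le_sup_left
    · exact le_sup_right

theorem cumPow_mul_le (W : Submodule R A) (t : ℕ) : cumPow W t * W ≤ cumPow W (t + 1) := by
  induction t with
  | zero => simp [cumPow]
  | succ t ih =>
    show (cumPow W t ⊔ W ^ t) * W ≤ cumPow W (t + 1) ⊔ W ^ (t + 1)
    rw [Submodule.sup_mul]
    refine sup_le (ih.trans le_sup_left) ?_
    rw [← pow_succ]
    exact le_sup_right

theorem map_cumPow {B : Type*} [Semiring B] [Algebra R B] (f : A →ₐ[R] B) (W : Submodule R A)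
    (t : ℕ) :
    Submodule.map f.toLinearMap (cumPow W t) = cumPow (Submodule.map f.toLinearMap W) t := by
  induction t with
  | zero => simp [cumPow]
  | succ t ih => rw [cumPow_succ, cumPow_succ, Submodule.map_sup, ih, Submodule.map_pow]

end CumPow

section Cover

variable (R : Type u) [CommRing R] (L : Type u) [AddCommGroup L] [Module R L]

/-- A finite projective module of constant rank `n` mapping onto the submodule `W` of `T(L)`. -/
structure Cover (W : Submodule R (TensorAlgebra R L)) (n : ℕ) where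
  N : Type u
  [acg : AddCommGroup N]
  [mod : Module R N]
  κ : N →ₗ[R] TensorAlgebra R L
  [fin : Module.Finite R N]
  [proj : Module.Projective R N]
  rk : ∀ q : PrimeSpectrum R, Module.rankAtStalk N q = n
  range_eq : LinearMap.range κ = W

attribute [instance] Cover.acg Cover.mod Cover.fin Cover.proj

variable {R L}

/-- transport along equalities -/
def Cover.cast {W W' : Submodule R (TensorAlgebra R L)} {n n' : ℕ} (hW : W = W') (hn : n = n')
    (c : Cover R L W n) : Cover R L W' n' := by
  subst hW; subst hn; exact c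

variable (R L)

noncomputable def coverBot : Cover R L ⊥ 0 where
  N := PUnit.{u+1}
  κ := 0
  rk := fun q => by rw [Module.rankAtStalk_eq_zero_of_subsingleton]; rfl
  range_eq := LinearMap.range_zero

noncomputable def coverOne : Cover R L 1 1 where
  N := R
  κ := Algebra.linearMap R (TensorAlgebra R L)
  rk := fun q => by
    haveI : Nontrivial R := q.nontrivial
    rw [Module.rankAtStalk_self]; rfl
  range_eq := Submodule.one_eq_range.symm

variable {R L}

noncomputable def Cover.mulι [Module.Finite R L] [Module.Projective R L]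
    (hrk : ∀ q : PrimeSpectrum R, Module.rankAtStalk L q = 1)
    {W : Submodule R (TensorAlgebra R L)} {n : ℕ} (c : Cover R L W n) :
    Cover R L (W * LinearMap.range (TensorAlgebra.ι R (M := L))) n where
  N := c.N ⊗[R] L
  κ := LinearMap.mul' R (TensorAlgebra R L) ∘ₗ TensorProduct.map c.κ (TensorAlgebra.ι R)
  rk := fun q => by rw [Module.rankAtStalk_tensorProduct, Pi.mul_apply, c.rk, hrk, mul_one]
  range_eq := by
    apply le_antisymm
    · rintro _ ⟨z, rfl⟩
      induction z using TensorProduct.induction_on with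
      | zero => simp
      | tmul a b =>
        simp only [LinearMap.comp_apply, TensorProduct.map_tmul, LinearMap.mul'_apply]
        have ha : c.κ a ∈ W := c.range_eq.le (LinearMap.mem_range_self _ a)
        exact Submodule.mul_mem_mul ha (LinearMap.mem_range_self _ b)
      | add z z' hz hz' => rw [map_add]; exact add_mem hz hz'
    · rw [Submodule.mul_le]
      rintro m hm _ ⟨b, rfl⟩
      obtain ⟨a, rfl⟩ := c.range_eq.ge hm
      exact ⟨a ⊗ₜ b, by simp⟩

noncomputable def Cover.sup {W W' : Submodule R (TensorAlgebra R L)} {n n' : ℕ}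
    (c : Cover R L W n) (c' : Cover R L W' n') : Cover R L (W ⊔ W') (n + n') where
  N := c.N × c'.N
  κ := c.κ.coprod c'.κ
  rk := fun q => by rw [Module.rankAtStalk_prod, Pi.add_apply, c.rk, c'.rk]
  range_eq := by rw [LinearMap.range_coprod, c.range_eq, c'.range_eq]

variable [Module.Finite R L] [Module.Projective R L]
  (hrk : ∀ q : PrimeSpectrum R, Module.rankAtStalk L q = 1)

noncomputable def coverPow :
    (t : ℕ) → Cover R L ((LinearMap.range (TensorAlgebra.ι R (M := L))) ^ t) 1
  | 0 => (coverOne R L).cast (pow_zero _).symm rfl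
  | t + 1 => ((coverPow t).mulι hrk).cast (pow_succ _ _).symm rfl

noncomputable def coverCum :
    (t : ℕ) → Cover R L (cumPow (LinearMap.range (TensorAlgebra.ι R (M := L))) t) t
  | 0 => coverBot R L
  | t + 1 => ((coverCum t).sup (coverPow hrk t)).cast rfl rfl

end Cover

section Main

variable {R : Type u} [CommRing R] {A : Type u} [CommRing A] [Algebra R A] [Module.Finite R A]
  [Module.Projective R A] (p : ℕ) (hp2 : 2 ≤ p)
  (hrkA : ∀ q : PrimeSpectrum R, Module.rankAtStalk A q = p)
  (L : Submodule R A) [Module.Finite R L] [Module.Projective R L]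
  (hrkL : ∀ q : PrimeSpectrum R, Module.rankAtStalk L q = 1)
  (H1 : cumPow L p = ⊤) (H2 : L ^ p ≤ L)

/-- the set of relations -/
def relSet : Set (TensorAlgebra R L) :=
  {x : TensorAlgebra R L | ∃ (f : Fin p → L) (g : L), (g : A) = ∏ i, (f i : A) ∧
    x = (List.ofFn fun i => TensorAlgebra.ι R (f i)).prod - TensorAlgebra.ι R g}

theorem map_range_ι :
    Submodule.map (TensorAlgebra.lift R L.subtype).toLinearMap
      (LinearMap.range (TensorAlgebra.ι R (M := L))) = L := by
  rw [← LinearMap.range_comp, TensorAlgebra.ι_comp_lift, Submodule.range_subtype]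

theorem relSet_le_ker : Ideal.span (relSet p L) ≤ RingHom.ker (TensorAlgebra.lift R L.subtype) := by
  rw [Ideal.span_le]
  rintro _ ⟨f, g, hg, rfl⟩
  rw [SetLike.mem_coe, RingHom.mem_ker, map_sub, map_list_prod, List.map_ofFn,
    TensorAlgebra.lift_ι_apply, Submodule.subtype_apply, hg, sub_eq_zero, List.prod_ofFn]
  refine Finset.prod_congr rfl fun i _ => ?_
  simp

theorem prod_mem_pow (n : ℕ) (x : Fin n → L) : ∏ i, (x i : A) ∈ L ^ n := by
  rw [Submodule.pow_eq_span_pow_set]
  apply Submodule.subset_span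
  rw [Set.mem_pow]
  exact ⟨fun i => ⟨(x i : A), (x i).2⟩, by rw [List.prod_ofFn]⟩

include H2 in
theorem range_pow_le :
    (LinearMap.range (TensorAlgebra.ι R (M := L))) ^ p ≤
      LinearMap.range (TensorAlgebra.ι R (M := L)) ⊔
        (Ideal.span (relSet p L)).restrictScalars R := by
  rw [Submodule.pow_eq_span_pow_set, Submodule.span_le]
  intro z hz
  rw [Set.mem_pow] at hz
  obtain ⟨f, rfl⟩ := hz
  choose x hx using fun i => (f i).2
  let g : L := ⟨∏ i, (x i : A), H2 (prod_mem_pow L p x)⟩
  have hrel : (List.ofFn fun i => TensorAlgebra.ι R (x i)).prod - TensorAlgebra.ι R g ∈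
      relSet p L := ⟨x, g, rfl, rfl⟩
  have hfx : (fun i => ((f i : TensorAlgebra R L))) = fun i => TensorAlgebra.ι R (x i) :=
    funext fun i => (hx i).symm
  rw [hfx]
  have : (List.ofFn fun i => TensorAlgebra.ι R (x i)).prod =
      TensorAlgebra.ι R g + ((List.ofFn fun i => TensorAlgebra.ι R (x i)).prod -
        TensorAlgebra.ι R g) := by abel
  rw [this]
  exact Submodule.add_mem_sup (LinearMap.mem_range_self _ g) (Ideal.subset_span hrel)

include hp2 hrkL H2 in
theorem cum_sup_rel_eq_top :
    cumPow (LinearMap.range (TensorAlgebra.ι R (M := L))) p ⊔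
      (Ideal.span (relSet p L)).restrictScalars R = ⊤ := by
  set Wι := LinearMap.range (TensorAlgebra.ι R (M := L)) with hWι
  set J' := (Ideal.span (relSet p L)).restrictScalars R with hJ'
  set M := cumPow Wι p ⊔ J' with hM
  have h1 : (1 : TensorAlgebra R L) ∈ M := by
    apply Submodule.mem_sup_left
    apply pow_le_cumPow Wι 0 p (by omega)
    rw [pow_zero]
    exact Submodule.one_le.mp le_rfl
  have hW1 : Wι ≤ cumPow Wι p := by
    have := pow_le_cumPow Wι 1 p (by omega)
    rwa [pow_one] at this
  have hJW : J' * Wι ≤ J' := by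
    rw [Submodule.mul_le]
    intro j hj w _
    rw [mul_comm' L hrkL j w]
    exact Ideal.mul_mem_left _ w hj
  have hMW : M * Wι ≤ M := by
    rw [hM, Submodule.sup_mul]
    refine sup_le ?_ (hJW.trans le_sup_right)
    refine (cumPow_mul_le Wι p).trans ?_
    rw [cumPow_succ]
    refine sup_le le_sup_left ?_
    refine (range_pow_le p L H2).trans ?_
    exact sup_le (hW1.trans le_sup_left) le_sup_right
  have key : ∀ a : TensorAlgebra R L, ∀ m ∈ M, m * a ∈ M := by
    intro a
    induction a using TensorAlgebra.induction with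
    | algebraMap r =>
      intro m hm
      rw [← Algebra.commutes, ← Algebra.smul_def]
      exact M.smul_mem r hm
    | ι x =>
      intro m hm
      exact hMW (Submodule.mul_mem_mul hm (LinearMap.mem_range_self _ x))
    | mul a b ha hb =>
      intro m hm
      rw [← mul_assoc]
      exact hb _ (ha m hm)
    | add a b ha hb =>
      intro m hm
      rw [mul_add]
      exact add_mem (ha m hm) (hb m hm)
  rw [eq_top_iff]
  intro a _
  have := key a 1 h1
  rwa [one_mul] at this

include hp2 hrkA hrkL H1 H2 in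
/-- The abstract presentation theorem. -/
theorem main :
    Function.Surjective (TensorAlgebra.lift R L.subtype) ∧
      RingHom.ker (TensorAlgebra.lift R L.subtype) = Ideal.span (relSet p L) := by
  set π := TensorAlgebra.lift R L.subtype with hπ
  let c := coverCum hrkL p
  let e : c.N →ₗ[R] A := π.toLinearMap ∘ₗ c.κ
  have he_range : LinearMap.range e = ⊤ := by
    rw [LinearMap.range_comp, c.range_eq, map_cumPow, map_range_ι, H1]
  have he_surj : Function.Surjective e := LinearMap.range_eq_top.mp he_range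
  have he_bij : Function.Bijective e :=
    Module.bijective_of_surjective_of_rankAtStalk_eq he_surj (fun m _ => by rw [c.rk, hrkA])
  have hsurj : Function.Surjective π := by
    intro a
    obtain ⟨y, rfl⟩ := he_surj a
    exact ⟨c.κ y, rfl⟩
  refine ⟨hsurj, le_antisymm ?_ (relSet_le_ker p L)⟩
  intro z hz
  have hz' : z ∈ cumPow (LinearMap.range (TensorAlgebra.ι R (M := L))) p ⊔
      (Ideal.span (relSet p L)).restrictScalars R := by
    rw [cum_sup_rel_eq_top p hp2 L hrkL H2]; trivial
  obtain ⟨w, hw, j, hj, rfl⟩ := Submodule.mem_sup.mp hz'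
  obtain ⟨y, rfl⟩ := c.range_eq.ge hw
  have hj' : j ∈ Ideal.span (relSet p L) := hj
  have hπj : π j = 0 := RingHom.mem_ker.mp (relSet_le_ker p L hj')
  have hπz : π (c.κ y + j) = 0 := RingHom.mem_ker.mp hz
  rw [map_add, hπj, add_zero] at hπz
  have hy : y = 0 := he_bij.injective (by rw [map_zero]; exact hπz)
  rw [hy, map_zero, zero_add]
  exact hj'

include hp2 hrkA hrkL H1 H2 in
/-- Universal property: a linear map `τ : L → B` compatible with `p`-fold products extends to an
algebra homomorphism `A → B`. -/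
theorem exists_lift {B : Type v} [CommRing B] [Algebra R B] (τ : L →ₗ[R] B)
    (hτ : ∀ (f : Fin p → L) (g : L), (g : A) = ∏ i, (f i : A) → τ g = ∏ i, τ (f i)) :
    ∃ φ : A →ₐ[R] B, ∀ x : L, φ (x : A) = τ x := by
  obtain ⟨hs, hk⟩ := main p hp2 hrkA L hrkL H1 H2
  have h : ∀ a ∈ RingHom.ker (TensorAlgebra.lift R L.subtype), TensorAlgebra.lift R τ a = 0 := by
    intro a ha
    rw [hk] at ha
    have hle : Ideal.span (relSet p L) ≤ RingHom.ker (TensorAlgebra.lift R τ) := by
      rw [Ideal.span_le]
      rintro _ ⟨f, g, hg, rfl⟩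
      rw [SetLike.mem_coe, RingHom.mem_ker, map_sub, map_list_prod, List.map_ofFn,
        TensorAlgebra.lift_ι_apply, hτ f g hg, sub_eq_zero, List.prod_ofFn]
      refine Finset.prod_congr rfl fun i _ => ?_
      simp
    exact RingHom.mem_ker.mp (hle ha)
  refine ⟨(Ideal.Quotient.liftₐ (RingHom.ker (TensorAlgebra.lift R L.subtype))
    (TensorAlgebra.lift R τ) h).comp
      (Ideal.quotientKerAlgEquivOfSurjective hs).symm.toAlgHom, fun x => ?_⟩
  have hx : (x : A) = TensorAlgebra.lift R L.subtype (TensorAlgebra.ι R x) := by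
    rw [TensorAlgebra.lift_ι_apply]; rfl
  rw [hx, AlgHom.comp_apply]
  erw [Ideal.quotientKerAlgEquivOfSurjective_symm_apply hs]
  rw [Ideal.Quotient.liftₐ_apply, Ideal.Quotient.lift_mk]
  exact TensorAlgebra.lift_ι_apply _ _

include hp2 hrkA hrkL H1 H2 in
/-- Algebra homomorphisms out of `A` are determined by their values on `L`. -/
theorem algHom_ext {B : Type v} [Semiring B] [Algebra R B] (φ ψ : A →ₐ[R] B)
    (h : ∀ x : L, φ (x : A) = ψ (x : A)) : φ = ψ := by
  obtain ⟨hs, -⟩ := main p hp2 hrkA L hrkL H1 H2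
  have : φ.comp (TensorAlgebra.lift R L.subtype) = ψ.comp (TensorAlgebra.lift R L.subtype) := by
    apply TensorAlgebra.hom_ext
    ext x
    simpa using h x
  ext a
  obtain ⟨z, rfl⟩ := hs a
  exact DFunLike.congr_fun this z

end Main

section OT

open Groth.Agent.Lib.R2H7.OTCore WithConv

variable {R : Type u} [CommRing R] {A : Type u} [CommRing A] [HopfAlgebra R A]
  [Module.Finite R A] [Module.Projective R A]
  {p : ℕ} [Fact p.Prime] (u : R) (hu : u * ((p - 1 : ℕ) : R) = 1) (χ : (ZMod p)ˣ →* Rˣ)
  (hχ : ∀ m : (ZMod p)ˣ, m ≠ 1 → IsUnit ((χ m : R) - 1))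
  (hχp : ∀ m : (ZMod p)ˣ, ((χ m : Rˣ) : R) - (((m : ZMod p).val : ℕ) : R) ∈
      Ideal.span ({(p : R)} : Set R))
  (hp : (toConv (AlgHom.id R A)) ^ p = 1)
  (hrk : ∀ q : PrimeSpectrum R, Module.rankAtStalk A q = p)

omit [Module.Finite R A] [Module.Projective R A] in
include hu hχ hχp hp in
theorem H1 : cumPow (OortTate.eigenAug R A p χ 1) p = ⊤ := by
  have hp2 : 2 ≤ p := (Fact.out : p.Prime).two_le
  rw [eq_top_iff]
  intro a _
  rw [← decomp_left u hu χ hχ hp a, decompBwd_apply]
  refine add_mem ?_ (Submodule.sum_mem _ fun i _ => ?_)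
  · apply pow_le_cumPow _ 0 p (by omega)
    rw [pow_zero]
    exact Submodule.algebraMap_mem _
  · by_cases hi : (i : ℕ) = 0
    · apply pow_le_cumPow _ (p - 1) p (by omega)
      rw [pow_eigenAug u hu χ hχ hχp hp (p - 1) (by omega) le_rfl, eigenAug_mod χ (p - 1),
        Nat.mod_self, ← hi]
      exact Subtype.property _
    · apply pow_le_cumPow _ (i : ℕ) p (by omega)
      rw [pow_eigenAug u hu χ hχ hχp hp (i : ℕ) (by omega) (by omega)]
      exact Subtype.property _

omit [Module.Finite R A] [Module.Projective R A] in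
theorem H2 : (OortTate.eigenAug R A p χ 1) ^ p ≤ OortTate.eigenAug R A p χ 1 := by
  have hp2 : 2 ≤ p := (Fact.out : p.Prime).two_le
  refine (eigenAug_one_pow_le χ p (by omega)).trans (le_of_eq ?_)
  rw [eigenAug_mod χ p, eigenAug_mod χ 1]
  congr 1
  have h := Nat.add_mod_left (p - 1) 1
  rwa [show p - 1 + 1 = p by omega] at h

include hu hχ hχp hp hrk in
/-- Tate–Oort: `A` is the quotient of the tensor (= symmetric) algebra of `I_1` by the relations
`x_1 ⋯ x_p = a(x_1 ⊗ ⋯ ⊗ x_p)`. -/
theorem pres :
    Function.Surjective (TensorAlgebra.lift R (OortTate.eigenAug R A p χ 1).subtype) ∧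
      RingHom.ker (TensorAlgebra.lift R (OortTate.eigenAug R A p χ 1).subtype) =
        Ideal.span (relSet p (OortTate.eigenAug R A p χ 1)) := by
  haveI := finite_eigenAug u hu χ hp 1
  haveI := projective_eigenAug u hu χ hp 1
  exact main p (Fact.out : p.Prime).two_le hrk _
    (fun q => rank_eigenAug u hu χ hχ hχp hp hrk 1 q) (H1 u hu χ hχ hχp hp) (H2 χ)

include hu hχ hχp hp hrk in
theorem ot_lift {B : Type v} [CommRing B] [Algebra R B]
    (τ : OortTate.eigenAug R A p χ 1 →ₗ[R] B)
    (hτ : ∀ (f : Fin p → OortTate.eigenAug R A p χ 1) (g : OortTate.eigenAug R A p χ 1),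
      (g : A) = ∏ i, (f i : A) → τ g = ∏ i, τ (f i)) :
    ∃ φ : A →ₐ[R] B, ∀ x : OortTate.eigenAug R A p χ 1, φ (x : A) = τ x := by
  haveI := finite_eigenAug u hu χ hp 1
  haveI := projective_eigenAug u hu χ hp 1
  exact exists_lift p (Fact.out : p.Prime).two_le hrk _
    (fun q => rank_eigenAug u hu χ hχ hχp hp hrk 1 q) (H1 u hu χ hχ hχp hp) (H2 χ) τ hτ

include hu hχ hχp hp hrk in
theorem ot_algHom_ext {B : Type v} [Semiring B] [Algebra R B] (φ ψ : A →ₐ[R] B)
    (h : ∀ x : OortTate.eigenAug R A p χ 1, φ (x : A) = ψ (x : A)) : φ = ψ := by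
  haveI := finite_eigenAug u hu χ hp 1
  haveI := projective_eigenAug u hu χ hp 1
  exact algHom_ext p (Fact.out : p.Prime).two_le hrk _
    (fun q => rank_eigenAug u hu χ hχ hχp hp hrk 1 q) (H1 u hu χ hχ hχp hp) (H2 χ) φ ψ h

end OT

end Groth.Agent.Lib.R2H7.OTPres
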