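import Mathlib
import Groth.Agent.Lib.R2H7OTPres
import Groth.Agent.Lib.R2H7OTComm
import Groth.Prelude.Def_CartDual2

/-!
# R2H7OTIso: the Oort–Tate classification map is injective on isomorphism classes (helper7)

Given `θ : I_1(A) ≃ I_1(A')` compatible with the `p`-fold products on `I_1(A)` and (by transpose)
on `I_1(A^D)`, we build a bialgebra isomorphism `A ≃ A'`.
-/

set_option autoImplicit false
universe u

namespace Groth.Agent.Lib.R2H7.OTIso

open TensorProduct WithConv Groth.Agent.S18468 Groth.Agent.Lib.R2H7.OTCore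
  Groth.Agent.Lib.R2H7.OTPair CartDual Groth.Agent.S18473

section Aux

theorem prod_mem_pow' {R : Type*} [CommSemiring R] {A : Type*} [CommSemiring A] [Algebra R A]
    (L : Submodule R A) (n : ℕ) (x : Fin n → L) : ∏ i, (x i : A) ∈ L ^ n := by
  rw [Submodule.pow_eq_span_pow_set]
  apply Submodule.subset_span
  rw [Set.mem_pow]
  exact ⟨fun i => ⟨(x i : A), (x i).2⟩, by rw [List.prod_ofFn]⟩

end Aux

section One

variable {R : Type u} [CommRing R] {A : Type u} [CommRing A] [HopfAlgebra R A]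
  [Coalgebra.IsCocomm R A] [Module.Finite R A] [Module.Projective R A]
  {p : ℕ} [Fact p.Prime] (u : R) (hu : u * ((p - 1 : ℕ) : R) = 1) (χ : (ZMod p)ˣ →* Rˣ)
  (hχ : ∀ m : (ZMod p)ˣ, m ≠ 1 → IsUnit ((χ m : R) - 1))
  (hχp : ∀ m : (ZMod p)ˣ, ((χ m : Rˣ) : R) - (((m : ZMod p).val : ℕ) : R) ∈
      Ideal.span ({(p : R)} : Set R))
  (hp : (toConv (AlgHom.id R A)) ^ p = 1)
  (hrk : ∀ q : PrimeSpectrum R, Module.rankAtStalk A q = p)

omit [Coalgebra.IsCocomm R A] in
/-- the dual has the same rank -/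
theorem rank_D (q : PrimeSpectrum R) :
    Module.rankAtStalk (D R A) q = Module.rankAtStalk A q := by
  rw [Module.rankAtStalk_eq_finrank_tensorProduct, Module.rankAtStalk_eq_finrank_tensorProduct]
  have e1 : (Localization.AtPrime q.asIdeal ⊗[R] D R A) ≃ₗ[Localization.AtPrime q.asIdeal]
      D (Localization.AtPrime q.asIdeal) (Localization.AtPrime q.asIdeal ⊗[R] A) :=
    (CartBC.bcDEquiv R A (Localization.AtPrime q.asIdeal)).toLinearEquiv
  haveI : Module.Free (Localization.AtPrime q.asIdeal) (Localization.AtPrime q.asIdeal ⊗[R] A) :=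
    Module.free_of_flat_of_isLocalRing
  rw [e1.finrank_eq, (toDual (Localization.AtPrime q.asIdeal)
    (Localization.AtPrime q.asIdeal ⊗[R] A)).finrank_eq]
  exact Module.finrank_linearMap_self _ _ _

/-- `Dual(I_1) ⊗ I_1 → A ⊗ A^D`, `l ⊗ a ↦ a ⊗ ρ⁻¹ l` -/
noncomputable def zmap :
    Module.Dual R (OortTate.eigenAug R A p χ 1) ⊗[R] OortTate.eigenAug R A p χ 1 →ₗ[R]
      A ⊗[R] D R A :=
  TensorProduct.map (OortTate.eigenAug R A p χ 1).subtype
      (OortTate.eigenAug R (D R A) p χ 1).subtype ∘ₗ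
    (TensorProduct.comm R _ _).toLinearMap ∘ₗ
      TensorProduct.map (rhoE u hu χ hp 1).symm.toLinearMap LinearMap.id

theorem zmap_tmul (l : Module.Dual R (OortTate.eigenAug R A p χ 1))
    (a : OortTate.eigenAug R A p χ 1) :
    zmap u hu χ hp (l ⊗ₜ[R] a) =
      (a : A) ⊗ₜ[R] (((rhoE u hu χ hp 1).symm l : OortTate.eigenAug R (D R A) p χ 1) : D R A) :=
  rfl

theorem Psi_zmap
    (t : Module.Dual R (OortTate.eigenAug R A p χ 1) ⊗[R] OortTate.eigenAug R A p χ 1) (b : A) :
    (Psi R A (zmap u hu χ hp t)).ofConv b =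
      ((dualTensorHom R _ _ t (bRes u χ hp 1 b) : OortTate.eigenAug R A p χ 1) : A) := by
  induction t using TensorProduct.induction_on with
  | zero => simp
  | tmul l a =>
    rw [zmap_tmul, Psi_tmul, dualTensorHom_apply, Submodule.coe_smul]
    congr 1
    rw [ofConv_eq_rhoE u hu χ hp 1, LinearEquiv.apply_symm_apply]
  | add t t' ht ht' =>
    simp only [map_add, WithConv.ofConv_add, LinearMap.add_apply, Submodule.coe_add]
    rw [ht, ht']

include hu hp in
theorem exists_t0 :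
    ∃ t₀ : Module.Dual R (OortTate.eigenAug R A p χ 1) ⊗[R] OortTate.eigenAug R A p χ 1,
      ∀ x : OortTate.eigenAug R A p χ 1, dualTensorHom R _ _ t₀ x = x := by
  haveI := finite_eigenAug u hu χ hp 1
  haveI := projective_eigenAug u hu χ hp 1
  refine ⟨(dualTensorHomEquiv R _ _).symm LinearMap.id, fun x => ?_⟩
  have h1 : dualTensorHom R (OortTate.eigenAug R A p χ 1) (OortTate.eigenAug R A p χ 1)
      ((dualTensorHomEquiv R _ _).symm LinearMap.id) = LinearMap.id :=
    (dualTensorHomEquiv R (OortTate.eigenAug R A p χ 1)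
      (OortTate.eigenAug R A p χ 1)).apply_symm_apply LinearMap.id
  rw [h1]; rfl

theorem Psi_zmap_t0
    (t₀ : Module.Dual R (OortTate.eigenAug R A p χ 1) ⊗[R] OortTate.eigenAug R A p χ 1)
    (ht₀ : ∀ x : OortTate.eigenAug R A p χ 1, dualTensorHom R _ _ t₀ x = x) :
    Psi R A (zmap u hu χ hp t₀) = toConv (Groth.Agent.S18471.b p u χ 1) := by
  apply WithConv.ext
  apply LinearMap.ext
  intro b
  rw [Psi_zmap, ht₀, bRes_coe]

omit [Coalgebra.IsCocomm R A] in
/-- `Psi` as an algebra isomorphism -/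
noncomputable def PsiAlgEquiv : A ⊗[R] D R A ≃ₐ[R] EndC R A :=
  AlgEquiv.ofBijective (Psi R A) ⟨Psi_injective R A, fun y => ⟨(PsiEquiv R A).symm y, by
    rw [Psi_apply]; exact (PsiEquiv R A).apply_symm_apply y⟩⟩

/-- the Cartier pairing map `R[ℤ/p] → A ⊗ A^D`, `T ↦ canonical element` -/
noncomputable def phiA : Amu R p →ₐ[R] A ⊗[R] D R A :=
  ((PsiAlgEquiv (R := R) (A := A)).symm : EndC R A →ₐ[R] A ⊗[R] D R A).comp (Phi hp)

omit [Coalgebra.IsCocomm R A] in
theorem Psi_phiA (y : Amu R p) : Psi R A (phiA hp y) = Phi hp y :=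
  (PsiAlgEquiv (R := R) (A := A)).apply_symm_apply (Phi hp y)

omit [Coalgebra.IsCocomm R A] in
theorem Psi_phiA_T : Psi R A (phiA hp (OortTate.muT R p)) = toConv (LinearMap.id : A →ₗ[R] A) := by
  rw [Psi_phiA, muT_eq, Phi_Tp, ZMod.val_one, pow_one]

theorem phiA_ygen
    (t₀ : Module.Dual R (OortTate.eigenAug R A p χ 1) ⊗[R] OortTate.eigenAug R A p χ 1)
    (ht₀ : ∀ x : OortTate.eigenAug R A p χ 1, dualTensorHom R _ _ t₀ x = x) :
    phiA hp (OortTate.ygen R p u χ 1) = zmap u hu χ hp t₀ := by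
  apply Psi_injective R A
  rw [Psi_phiA, Phi_ygen, Psi_zmap_t0 u hu χ hp t₀ ht₀]

end One

section Two

variable {R : Type u} [CommRing R] {A : Type u} [CommRing A] [HopfAlgebra R A]
  [Coalgebra.IsCocomm R A] [Module.Finite R A] [Module.Projective R A]
  {A' : Type u} [CommRing A'] [HopfAlgebra R A']
  [Coalgebra.IsCocomm R A'] [Module.Finite R A'] [Module.Projective R A']
  {p : ℕ} [Fact p.Prime] (u : R) (hu : u * ((p - 1 : ℕ) : R) = 1) (χ : (ZMod p)ˣ →* Rˣ)
  (hχ : ∀ m : (ZMod p)ˣ, m ≠ 1 → IsUnit ((χ m : R) - 1))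
  (hχp : ∀ m : (ZMod p)ˣ, ((χ m : Rˣ) : R) - (((m : ZMod p).val : ℕ) : R) ∈
      Ideal.span ({(p : R)} : Set R))
  (hp : (toConv (AlgHom.id R A)) ^ p = 1) (hp' : (toConv (AlgHom.id R A')) ^ p = 1)
  (hrk : ∀ q : PrimeSpectrum R, Module.rankAtStalk A q = p)
  (hrk' : ∀ q : PrimeSpectrum R, Module.rankAtStalk A' q = p)
  (θ : OortTate.eigenAug R A p χ 1 ≃ₗ[R] OortTate.eigenAug R A' p χ 1)

omit [Coalgebra.IsCocomm R A] [Module.Finite R A] [Module.Projective R A]
  [Coalgebra.IsCocomm R A'] [Module.Finite R A'] [Module.Projective R A'] in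
/-- compatibility of `θ` with `p`-fold products passes to `θ⁻¹` -/
theorem theta_symm_prod
    (hθ : ∀ (f : Fin p → OortTate.eigenAug R A p χ 1) (g : OortTate.eigenAug R A p χ 1),
      (g : A) = ∏ i, (f i : A) →
        ((θ g : OortTate.eigenAug R A' p χ 1) : A') = ∏ i, ((θ (f i)) : A'))
    (f' : Fin p → OortTate.eigenAug R A' p χ 1) (g' : OortTate.eigenAug R A' p χ 1)
    (hg : (g' : A') = ∏ i, (f' i : A')) :
    ((θ.symm g' : OortTate.eigenAug R A p χ 1) : A) = ∏ i, ((θ.symm (f' i)) : A) := by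
  let h : OortTate.eigenAug R A p χ 1 :=
    ⟨∏ i, ((θ.symm (f' i)) : A), OTPres.H2 χ (prod_mem_pow' _ p _)⟩
  have h1 := hθ (fun i => θ.symm (f' i)) h rfl
  simp only [LinearEquiv.apply_symm_apply] at h1
  have h2 : θ h = g' := Subtype.ext (h1.trans hg.symm)
  rw [← h2, LinearEquiv.symm_apply_apply]

/-- the transpose inverse of `θ` on `I_1` of the duals -/
noncomputable def vartheta :
    OortTate.eigenAug R (D R A) p χ 1 ≃ₗ[R] OortTate.eigenAug R (D R A') p χ 1 :=
  (rhoE u hu χ hp 1).trans (θ.symm.dualMap.trans (rhoE u hu χ hp' 1).symm)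

theorem rhoE_vartheta (ψ : OortTate.eigenAug R (D R A) p χ 1) :
    rhoE u hu χ hp' 1 (vartheta u hu χ hp hp' θ ψ) = θ.symm.dualMap (rhoE u hu χ hp 1 ψ) := by
  simp [vartheta]

theorem vartheta_rhoE_symm (l : Module.Dual R (OortTate.eigenAug R A p χ 1)) :
    vartheta u hu χ hp hp' θ ((rhoE u hu χ hp 1).symm l) =
      (rhoE u hu χ hp' 1).symm (θ.symm.dualMap l) := by
  simp [vartheta]

theorem vartheta_spec (ψ : OortTate.eigenAug R (D R A) p χ 1)
    (x : OortTate.eigenAug R A p χ 1) :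
    ((vartheta u hu χ hp hp' θ ψ : OortTate.eigenAug R (D R A') p χ 1) : D R A').ofConv
      ((θ x : OortTate.eigenAug R A' p χ 1) : A') = (ψ : D R A).ofConv (x : A) := by
  rw [← rhoE_apply u hu χ hp' 1, ← rhoE_apply u hu χ hp 1, rhoE_vartheta,
    LinearEquiv.dualMap_apply, LinearEquiv.symm_apply_apply]

theorem vartheta_prod
    (hθD : ∀ (φ : Fin p → OortTate.eigenAug R (CartDual.D R A) p χ 1)
      (φ' : Fin p → OortTate.eigenAug R (CartDual.D R A') p χ 1)
      (ψ : OortTate.eigenAug R (CartDual.D R A) p χ 1)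
      (ψ' : OortTate.eigenAug R (CartDual.D R A') p χ 1),
      (∀ i, ∀ x : OortTate.eigenAug R A p χ 1,
        CartDual.toDual R A (φ i : CartDual.D R A) (x : A) =
          CartDual.toDual R A' (φ' i : CartDual.D R A')
            ((θ x : OortTate.eigenAug R A' p χ 1) : A')) →
      (ψ : CartDual.D R A) = ∏ i, (φ i : CartDual.D R A) →
      (ψ' : CartDual.D R A') = ∏ i, (φ' i : CartDual.D R A') →
      ∀ x : OortTate.eigenAug R A p χ 1,
        CartDual.toDual R A (ψ : CartDual.D R A) (x : A) =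
          CartDual.toDual R A' (ψ' : CartDual.D R A')
            ((θ x : OortTate.eigenAug R A' p χ 1) : A'))
    (φ : Fin p → OortTate.eigenAug R (D R A) p χ 1) (ψ : OortTate.eigenAug R (D R A) p χ 1)
    (hψ : (ψ : D R A) = ∏ i, (φ i : D R A)) :
    ((vartheta u hu χ hp hp' θ ψ : OortTate.eigenAug R (D R A') p χ 1) : D R A') =
      ∏ i, ((vartheta u hu χ hp hp' θ (φ i) : OortTate.eigenAug R (D R A') p χ 1) : D R A') := by
  let ψ'' : OortTate.eigenAug R (D R A') p χ 1 :=
    ⟨∏ i, ((vartheta u hu χ hp hp' θ (φ i) : OortTate.eigenAug R (D R A') p χ 1) : D R A'),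
      OTPres.H2 χ (prod_mem_pow' _ p _)⟩
  have h := hθD φ (fun i => vartheta u hu χ hp hp' θ (φ i)) ψ ψ''
    (fun i x => (vartheta_spec u hu χ hp hp' θ (φ i) x).symm) hψ rfl
  have h2 : vartheta u hu χ hp hp' θ ψ = ψ'' := by
    apply (rhoE u hu χ hp' 1).injective
    apply LinearMap.ext
    intro x'
    obtain ⟨x, rfl⟩ := θ.surjective x'
    rw [rhoE_apply, rhoE_apply, vartheta_spec]
    exact h x
  rw [h2]

variable (f : A →ₐ[R] A')
  (hf : ∀ x : OortTate.eigenAug R A p χ 1, f (x : A) = ((θ x : OortTate.eigenAug R A' p χ 1) : A'))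
  (g : D R A →ₐ[R] D R A')
  (hg : ∀ ψ : OortTate.eigenAug R (D R A) p χ 1, g (ψ : D R A) =
    ((vartheta u hu χ hp hp' θ ψ : OortTate.eigenAug R (D R A') p χ 1) : D R A'))

include hf hg in
theorem F_zmap
    (t : Module.Dual R (OortTate.eigenAug R A p χ 1) ⊗[R] OortTate.eigenAug R A p χ 1) :
    Algebra.TensorProduct.map f g (zmap u hu χ hp t) =
      zmap u hu χ hp' (TensorProduct.map θ.symm.dualMap.toLinearMap θ.toLinearMap t) := by
  induction t using TensorProduct.induction_on with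
  | zero => simp
  | tmul l a =>
    rw [zmap_tmul, Algebra.TensorProduct.map_tmul, hf, hg, vartheta_rhoE_symm,
      TensorProduct.map_tmul, zmap_tmul]
    rfl
  | add t t' ht ht' => rw [map_add, map_add, map_add, map_add, ht, ht']

omit [Coalgebra.IsCocomm R A] [Module.Finite R A] [Module.Projective R A]
  [Coalgebra.IsCocomm R A'] [Module.Finite R A'] [Module.Projective R A'] in
theorem dualTensorHom_conj
    (t : Module.Dual R (OortTate.eigenAug R A p χ 1) ⊗[R] OortTate.eigenAug R A p χ 1)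
    (x' : OortTate.eigenAug R A' p χ 1) :
    dualTensorHom R _ _ (TensorProduct.map θ.symm.dualMap.toLinearMap θ.toLinearMap t) x' =
      θ (dualTensorHom R _ _ t (θ.symm x')) := by
  induction t using TensorProduct.induction_on with
  | zero => simp
  | tmul l a =>
    rw [TensorProduct.map_tmul, dualTensorHom_apply, dualTensorHom_apply, map_smul]
    rfl
  | add t t' ht ht' =>
    simp only [map_add, LinearMap.add_apply]
    rw [ht, ht']

include hf hg in
theorem Psi_F_zmap_t0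
    (t₀ : Module.Dual R (OortTate.eigenAug R A p χ 1) ⊗[R] OortTate.eigenAug R A p χ 1)
    (ht₀ : ∀ x : OortTate.eigenAug R A p χ 1, dualTensorHom R _ _ t₀ x = x) :
    Psi R A' (Algebra.TensorProduct.map f g (zmap u hu χ hp t₀)) =
      toConv (Groth.Agent.S18471.b p u χ 1) := by
  apply WithConv.ext
  apply LinearMap.ext
  intro b'
  rw [F_zmap u hu χ hp hp' θ f hf g hg, Psi_zmap, dualTensorHom_conj, ht₀,
    LinearEquiv.apply_symm_apply, bRes_coe]

include hu hχ hχp hf hg in
/-- `(f ⊗ g)` carries the canonical element of `A ⊗ A^D` to that of `A' ⊗ A'^D`. -/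
theorem Psi_F_canonical :
    Psi R A' (Algebra.TensorProduct.map f g (phiA hp (OortTate.muT R p))) =
      toConv (LinearMap.id : A' →ₗ[R] A') := by
  obtain ⟨t₀, ht₀⟩ := exists_t0 u hu χ hp
  have h1 : (Psi R A').comp ((Algebra.TensorProduct.map f g).comp (phiA hp)) = Phi hp' := by
    apply AlgHom.ext_of_adjoin_eq_top (adjoin_ygen_eq_top R p u χ hu hχ hχp)
    intro y hy
    rw [Set.mem_singleton_iff.mp hy, AlgHom.comp_apply, AlgHom.comp_apply,
      phiA_ygen u hu χ hp t₀ ht₀, Psi_F_zmap_t0 u hu χ hp hp' θ f hf g hg t₀ ht₀, Phi_ygen]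
  have h2 := DFunLike.congr_fun h1 (OortTate.muT R p)
  rw [AlgHom.comp_apply, AlgHom.comp_apply] at h2
  rw [h2, muT_eq, Phi_Tp, ZMod.val_one, pow_one]

end Two

section Three

variable {R : Type u} [CommRing R] {A : Type u} [CommRing A] [HopfAlgebra R A]
  [Coalgebra.IsCocomm R A] [Module.Finite R A] [Module.Projective R A]
  {A' : Type u} [CommRing A'] [HopfAlgebra R A']
  [Coalgebra.IsCocomm R A'] [Module.Finite R A'] [Module.Projective R A']
  (f : A →ₐ[R] A') (g : D R A →ₐ[R] D R A')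

theorem transp_key (z : A ⊗[R] D R A) (ψ' : D R A') (b' : A') :
    ψ'.ofConv ((Psi R A' (Algebra.TensorProduct.map f g z)).ofConv b') =
      (g (toConv (ψ'.ofConv ∘ₗ f.toLinearMap ∘ₗ (Psi R A z).ofConv))).ofConv b' := by
  induction z using TensorProduct.induction_on with
  | zero => simp
  | tmul a ψ =>
    have h1 : (toConv (ψ'.ofConv ∘ₗ f.toLinearMap ∘ₗ (Psi R A (a ⊗ₜ[R] ψ)).ofConv) : D R A) =
        (ψ'.ofConv (f a)) • ψ := by
      apply WithConv.ext
      apply LinearMap.ext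
      intro b
      show ψ'.ofConv (f ((Psi R A (a ⊗ₜ[R] ψ)).ofConv b)) = ψ'.ofConv (f a) * ψ.ofConv b
      rw [Psi_tmul, map_smul, map_smul, smul_eq_mul, mul_comm]
    rw [h1, Algebra.TensorProduct.map_tmul, Psi_tmul, map_smul, map_smul, smul_eq_mul]
    show _ = ψ'.ofConv (f a) * (g ψ).ofConv b'
    ring
  | add z z' hz hz' =>
    simp only [map_add, WithConv.ofConv_add, WithConv.toConv_add, LinearMap.add_apply,
      LinearMap.comp_add]
    rw [hz, hz']

theorem g_transpose (δ : A ⊗[R] D R A)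
    (hcan : Psi R A' (Algebra.TensorProduct.map f g δ) = toConv (LinearMap.id : A' →ₗ[R] A'))
    (hδ : Psi R A δ = toConv (LinearMap.id : A →ₗ[R] A)) (ψ' : D R A') :
    g (transposeLin R f.toLinearMap ψ') = ψ' := by
  apply WithConv.ext
  apply LinearMap.ext
  intro b'
  have h := transp_key f g δ ψ' b'
  rw [hcan, hδ] at h
  simp only [WithConv.ofConv_toConv, LinearMap.comp_id, LinearMap.id_apply] at h
  exact h.symm

theorem ev₂_map_f (x z : D R A') (t : A ⊗[R] A) :
    ev₂ R A' (x ⊗ₜ[R] z) (Algebra.TensorProduct.map f f t) =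
      ev₂ R A (transposeLin R f.toLinearMap x ⊗ₜ[R] transposeLin R f.toLinearMap z) t := by
  induction t using TensorProduct.induction_on with
  | zero => simp
  | tmul a b =>
    rw [Algebra.TensorProduct.map_tmul, ev₂_tmul, ev₂_tmul]
    rfl
  | add t t' ht ht' => rw [map_add, map_add, map_add, ht, ht']

theorem ev₂_comul' (x z : D R A) (a : A) :
    ev₂ R A (x ⊗ₜ[R] z) (Coalgebra.comul (R := R) a) = (x * z).ofConv a := by
  rw [ev₂_tmul_eq']
  rfl

/-- If the transpose of an algebra map is multiplicative, the map is comultiplicative. -/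
theorem comul_of_transpose_mul
    (hT : ∀ x z : D R A', transposeLin R f.toLinearMap (x * z) =
      transposeLin R f.toLinearMap x * transposeLin R f.toLinearMap z) (a : A) :
    Algebra.TensorProduct.map f f (Coalgebra.comul (R := R) a) = Coalgebra.comul (R := R) (f a) := by
  apply sub_eq_zero.mp
  rw [← Module.forall_dual_apply_eq_zero_iff R]
  intro φ
  obtain ⟨y, rfl⟩ := (ev₂ R A').surjective φ
  rw [map_sub, sub_eq_zero]
  induction y using TensorProduct.induction_on with
  | zero => simp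
  | add y y' hy hy' => rw [map_add, LinearMap.add_apply, LinearMap.add_apply, hy, hy']
  | tmul x z =>
    rw [ev₂_map_f, ev₂_comul', ev₂_comul', ← hT]
    rfl

end Three

section Final

variable {R : Type u} [CommRing R] {A : Type u} [CommRing A] [HopfAlgebra R A]
  [Coalgebra.IsCocomm R A] [Module.Finite R A] [Module.Projective R A]
  {A' : Type u} [CommRing A'] [HopfAlgebra R A']
  [Coalgebra.IsCocomm R A'] [Module.Finite R A'] [Module.Projective R A']
  {p : ℕ} [Fact p.Prime] (u : R) (hu : u * ((p - 1 : ℕ) : R) = 1) (χ : (ZMod p)ˣ →* Rˣ)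
  (hχ : ∀ m : (ZMod p)ˣ, m ≠ 1 → IsUnit ((χ m : R) - 1))
  (hχp : ∀ m : (ZMod p)ˣ, ((χ m : Rˣ) : R) - (((m : ZMod p).val : ℕ) : R) ∈
      Ideal.span ({(p : R)} : Set R))
  (hrk : ∀ q : PrimeSpectrum R, Module.rankAtStalk A q = p)
  (hrk' : ∀ q : PrimeSpectrum R, Module.rankAtStalk A' q = p)
  (θ : OortTate.eigenAug R A p χ 1 ≃ₗ[R] OortTate.eigenAug R A' p χ 1)

include hu hχ hχp hrk hrk' in
/-- Tate–Oort: the classification map `G ↦ (I_1, a, b)` is injective on isomorphism classes. -/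
theorem iso
    (hθ : ∀ (f : Fin p → OortTate.eigenAug R A p χ 1) (g : OortTate.eigenAug R A p χ 1),
      (g : A) = ∏ i, (f i : A) →
        ((θ g : OortTate.eigenAug R A' p χ 1) : A') = ∏ i, ((θ (f i)) : A'))
    (hθD : ∀ (φ : Fin p → OortTate.eigenAug R (CartDual.D R A) p χ 1)
      (φ' : Fin p → OortTate.eigenAug R (CartDual.D R A') p χ 1)
      (ψ : OortTate.eigenAug R (CartDual.D R A) p χ 1)
      (ψ' : OortTate.eigenAug R (CartDual.D R A') p χ 1),
      (∀ i, ∀ x : OortTate.eigenAug R A p χ 1,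
        CartDual.toDual R A (φ i : CartDual.D R A) (x : A) =
          CartDual.toDual R A' (φ' i : CartDual.D R A')
            ((θ x : OortTate.eigenAug R A' p χ 1) : A')) →
      (ψ : CartDual.D R A) = ∏ i, (φ i : CartDual.D R A) →
      (ψ' : CartDual.D R A') = ∏ i, (φ' i : CartDual.D R A') →
      ∀ x : OortTate.eigenAug R A p χ 1,
        CartDual.toDual R A (ψ : CartDual.D R A) (x : A) =
          CartDual.toDual R A' (ψ' : CartDual.D R A')
            ((θ x : OortTate.eigenAug R A' p χ 1) : A')) :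
    Nonempty (A ≃ₐc[R] A') := by
  have hp := OTComm.killed p R A hrk
  have hp' := OTComm.killed p R A' hrk'
  have hrkD : ∀ q : PrimeSpectrum R, Module.rankAtStalk (D R A) q = p :=
    fun q => (rank_D q).trans (hrk q)
  have hpD := OTComm.killed p R (D R A) hrkD
  -- the algebra maps
  obtain ⟨f, hf⟩ := OTPres.ot_lift u hu χ hχ hχp hp hrk
    ((OortTate.eigenAug R A' p χ 1).subtype ∘ₗ θ.toLinearMap) (fun f g h => hθ f g h)
  obtain ⟨f', hf'⟩ := OTPres.ot_lift u hu χ hχ hχp hp' hrk'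
    ((OortTate.eigenAug R A p χ 1).subtype ∘ₗ θ.symm.toLinearMap)
    (fun f g h => theta_symm_prod χ θ hθ f g h)
  have hf1 : ∀ x : OortTate.eigenAug R A p χ 1,
      f (x : A) = ((θ x : OortTate.eigenAug R A' p χ 1) : A') := hf
  have hf1' : ∀ x : OortTate.eigenAug R A' p χ 1,
      f' (x : A') = ((θ.symm x : OortTate.eigenAug R A p χ 1) : A) := hf'
  have h1 : f'.comp f = AlgHom.id R A :=
    OTPres.ot_algHom_ext u hu χ hχ hχp hp hrk _ _ (fun x => by
      rw [AlgHom.comp_apply, hf1, hf1', LinearEquiv.symm_apply_apply]; rfl)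
  have h2 : f.comp f' = AlgHom.id R A' :=
    OTPres.ot_algHom_ext u hu χ hχ hχp hp' hrk' _ _ (fun x => by
      rw [AlgHom.comp_apply, hf1', hf1, LinearEquiv.apply_symm_apply]; rfl)
  obtain ⟨g, hg⟩ := OTPres.ot_lift u hu χ hχ hχp hpD hrkD
    ((OortTate.eigenAug R (D R A') p χ 1).subtype ∘ₗ (vartheta u hu χ hp hp' θ).toLinearMap)
    (fun φ ψ h => vartheta_prod u hu χ hp hp' θ hθD φ ψ h)
  have hg1 : ∀ ψ : OortTate.eigenAug R (D R A) p χ 1, g (ψ : D R A) =
      ((vartheta u hu χ hp hp' θ ψ : OortTate.eigenAug R (D R A') p χ 1) : D R A') := hg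
  have hcan := Psi_F_canonical u hu χ hχ hχp hp hp' θ f hf1 g hg1
  have hgT : ∀ ψ' : D R A', g (transposeLin R f.toLinearMap ψ') = ψ' :=
    g_transpose f g _ hcan (Psi_phiA_T hp)
  have hTg : ∀ ψ : D R A, transposeLin R f.toLinearMap (g ψ) = ψ := by
    intro ψ
    have h3 : ψ = transposeLin R f.toLinearMap (transposeLin R f'.toLinearMap ψ) := by
      apply WithConv.ext
      apply LinearMap.ext
      intro a
      show ψ.ofConv a = ψ.ofConv (f' (f a))
      rw [← AlgHom.comp_apply, h1]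
      rfl
    conv_lhs => rw [h3, hgT]
    exact h3.symm
  have hTmul : ∀ x z : D R A', transposeLin R f.toLinearMap (x * z) =
      transposeLin R f.toLinearMap x * transposeLin R f.toLinearMap z := by
    intro x z
    conv_lhs => rw [← hgT x, ← hgT z, ← map_mul, hTg]
  have hcomul := comul_of_transpose_mul f hTmul
  have hcounit : (Bialgebra.counitAlgHom R A').comp f = Bialgebra.counitAlgHom R A :=
    OTPres.ot_algHom_ext u hu χ hχ hχp hp hrk _ _ (fun x => by
      rw [AlgHom.comp_apply, hf1]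
      have hx := LinearMap.mem_ker.mp (Submodule.mem_inf.mp x.2).1
      have hx' := LinearMap.mem_ker.mp (Submodule.mem_inf.mp (θ x).2).1
      exact hx'.trans hx.symm)
  refine ⟨BialgEquiv.ofAlgEquiv (AlgEquiv.ofAlgHom f f' h2 h1) ?_ ?_⟩
  · exact hcounit
  · apply AlgHom.ext
    intro a
    exact hcomul a

end Final

end Groth.Agent.Lib.R2H7.OTIso
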