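import Mathlib
import Groth.Agent.Lib.R2H7OTIso

/-!
# R2H7OTFree: Oort–Tate injectivity in the free case (helper7)

`I_1(A) = R x`, `I_1(A^D) = R ξ`, `ξ(x) = 1`, `x^p = α x`, `ξ^p = β ξ` and the same for `A'`;
if `α' = v^(p-1) α`, `β' = v^(1-p) β` then `A ≅ A'` as bialgebras (apply `OTIso.iso` to
`θ(x) = v⁻¹ x'`).
-/

set_option autoImplicit false
universe u

namespace Groth.Agent.Lib.R2H7.OTFree

open TensorProduct WithConv CartDual

section Aux

variable {R : Type u} [CommRing R] {B : Type u} [CommRing B] [Algebra R B]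

/-- products of multiples of a fixed element -/
theorem prod_smul_const {n : ℕ} (r : Fin n → R) (x : B) :
    ∏ i, (r i • x) = (∏ i, r i) • x ^ n := by
  rw [Finset.prod_smul, Finset.prod_const, Finset.card_univ, Fintype.card_fin]

theorem unit_pow_aux (v : Rˣ) (n : ℕ) (hn : 1 ≤ n) :
    ((v⁻¹ : Rˣ) : R) ^ n * (v : R) ^ (n - 1) = ((v⁻¹ : Rˣ) : R) := by
  obtain ⟨m, rfl⟩ : ∃ m, n = m + 1 := ⟨n - 1, by omega⟩
  rw [Nat.add_sub_cancel, pow_succ, mul_right_comm, ← mul_pow, Units.inv_mul, one_pow, one_mul]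

theorem unit_pow_aux' (v : Rˣ) (n : ℕ) (hn : 1 ≤ n) :
    (v : R) ^ n * (((v⁻¹ : Rˣ) : R) ^ (n - 1) * ((v⁻¹ : Rˣ) : R)) = 1 := by
  rw [← pow_succ, Nat.sub_add_cancel hn, ← mul_pow, Units.mul_inv, one_pow]

end Aux

section Main

variable {p : ℕ} [Fact p.Prime] {R : Type u} [CommRing R] (u : R)
  (hu : u * ((p - 1 : ℕ) : R) = 1)
  (χ : (ZMod p)ˣ →* Rˣ) (hχ : ∀ m : (ZMod p)ˣ, m ≠ 1 → IsUnit ((χ m : R) - 1))
  (hχp : ∀ m : (ZMod p)ˣ, ((χ m : Rˣ) : R) - (((m : ZMod p).val : ℕ) : R) ∈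
    Ideal.span ({(p : R)} : Set R))
  {A : Type u} [CommRing A] [HopfAlgebra R A] [Coalgebra.IsCocomm R A] [Module.Finite R A]
  [Module.Projective R A] (hrk : ∀ q : PrimeSpectrum R, Module.rankAtStalk A q = p)
  {A' : Type u} [CommRing A'] [HopfAlgebra R A'] [Coalgebra.IsCocomm R A'] [Module.Finite R A']
  [Module.Projective R A'] (hrk' : ∀ q : PrimeSpectrum R, Module.rankAtStalk A' q = p)

omit [Coalgebra.IsCocomm R A] [Module.Finite R A] [Module.Projective R A] in
/-- coordinates on `I_1(A) = R x` -/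
theorem coord (x : A) (hx : Submodule.span R {x} = OortTate.eigenAug R A p χ 1)
    (ξ : CartDual.D R A) (hxξ : CartDual.toDual R A ξ x = 1)
    (y : A) (hy : y ∈ OortTate.eigenAug R A p χ 1) : y = (CartDual.toDual R A ξ y) • x := by
  rw [← hx] at hy
  obtain ⟨r, rfl⟩ := Submodule.mem_span_singleton.mp hy
  rw [map_smul, hxξ, smul_eq_mul, mul_one]

/-- coordinates on `I_1(A^D) = R ξ` -/
theorem coordD (x : A) (ξ : CartDual.D R A)
    (hξ : Submodule.span R {ξ} = OortTate.eigenAug R (CartDual.D R A) p χ 1)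
    (hxξ : CartDual.toDual R A ξ x = 1)
    (ψ : CartDual.D R A) (hψ : ψ ∈ OortTate.eigenAug R (CartDual.D R A) p χ 1) :
    ψ = (CartDual.toDual R A ψ x) • ξ := by
  rw [← hξ] at hψ
  obtain ⟨r, rfl⟩ := Submodule.mem_span_singleton.mp hψ
  rw [map_smul, LinearMap.smul_apply, hxξ, smul_eq_mul, mul_one]

include hu hχ hχp hrk hrk' in
theorem free_iso
    (x : A) (hx : Submodule.span R {x} = OortTate.eigenAug R A p χ 1)
    (ξ : CartDual.D R A) (hξ : Submodule.span R {ξ} = OortTate.eigenAug R (CartDual.D R A) p χ 1)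
    (hxξ : CartDual.toDual R A ξ x = 1)
    (x' : A') (hx' : Submodule.span R {x'} = OortTate.eigenAug R A' p χ 1)
    (ξ' : CartDual.D R A')
    (hξ' : Submodule.span R {ξ'} = OortTate.eigenAug R (CartDual.D R A') p χ 1)
    (hxξ' : CartDual.toDual R A' ξ' x' = 1)
    (α β α' β' : R) (hα : x ^ p = α • x) (hβ : ξ ^ p = β • ξ) (hα' : x' ^ p = α' • x')
    (hβ' : ξ' ^ p = β' • ξ')
    (v : Rˣ) (hαv : α' = ((v ^ (p - 1) : Rˣ) : R) * α)
    (hβv : β' = ((v⁻¹ ^ (p - 1) : Rˣ) : R) * β) :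
    Nonempty (A ≃ₐc[R] A') := by
  have hp1 : 1 ≤ p := (Fact.out : p.Prime).one_le
  have hxmem : x ∈ OortTate.eigenAug R A p χ 1 := by
    rw [← hx]; exact Submodule.mem_span_singleton_self x
  have hxmem' : x' ∈ OortTate.eigenAug R A' p χ 1 := by
    rw [← hx']; exact Submodule.mem_span_singleton_self x'
  let xs : OortTate.eigenAug R A p χ 1 := ⟨x, hxmem⟩
  let xs' : OortTate.eigenAug R A' p χ 1 := ⟨x', hxmem'⟩
  let θ₁ : OortTate.eigenAug R A p χ 1 →ₗ[R] OortTate.eigenAug R A' p χ 1 :=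
    LinearMap.toSpanSingleton R _ (((v⁻¹ : Rˣ) : R) • xs') ∘ₗ
      ((CartDual.toDual R A ξ) ∘ₗ (OortTate.eigenAug R A p χ 1).subtype)
  let θ₂ : OortTate.eigenAug R A' p χ 1 →ₗ[R] OortTate.eigenAug R A p χ 1 :=
    LinearMap.toSpanSingleton R _ ((v : R) • xs) ∘ₗ
      ((CartDual.toDual R A' ξ') ∘ₗ (OortTate.eigenAug R A' p χ 1).subtype)
  have hθ₁ : ∀ y : OortTate.eigenAug R A p χ 1,
      ((θ₁ y : OortTate.eigenAug R A' p χ 1) : A') =
        (CartDual.toDual R A ξ (y : A) * ((v⁻¹ : Rˣ) : R)) • x' := by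
    intro y
    simp [θ₁, xs', LinearMap.toSpanSingleton_apply, smul_smul]
  have hθ₂ : ∀ y : OortTate.eigenAug R A' p χ 1,
      ((θ₂ y : OortTate.eigenAug R A p χ 1) : A) =
        (CartDual.toDual R A' ξ' (y : A') * (v : R)) • x := by
    intro y
    simp [θ₂, xs, LinearMap.toSpanSingleton_apply, smul_smul]
  have h12 : θ₁ ∘ₗ θ₂ = LinearMap.id := by
    apply LinearMap.ext
    intro y
    apply Subtype.ext
    rw [LinearMap.comp_apply, hθ₁, hθ₂, map_smul, hxξ, LinearMap.id_apply, smul_eq_mul, mul_one,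
      mul_assoc, Units.mul_inv, mul_one]
    exact (coord χ x' hx' ξ' hxξ' y y.2).symm
  have h21 : θ₂ ∘ₗ θ₁ = LinearMap.id := by
    apply LinearMap.ext
    intro y
    apply Subtype.ext
    rw [LinearMap.comp_apply, hθ₂, hθ₁, map_smul, hxξ', LinearMap.id_apply, smul_eq_mul, mul_one,
      mul_assoc, Units.inv_mul, mul_one]
    exact (coord χ x hx ξ hxξ y y.2).symm
  let θ : OortTate.eigenAug R A p χ 1 ≃ₗ[R] OortTate.eigenAug R A' p χ 1 :=
    LinearEquiv.ofLinear θ₁ θ₂ h12 h21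
  have hθc : ∀ y : OortTate.eigenAug R A p χ 1,
      ((θ y : OortTate.eigenAug R A' p χ 1) : A') =
        (CartDual.toDual R A ξ (y : A) * ((v⁻¹ : Rˣ) : R)) • x' := hθ₁
  refine OTIso.iso u hu χ hχ hχp hrk hrk' θ ?_ ?_
  · intro f g hg
    have h1 : (g : A) = ((∏ i, CartDual.toDual R A ξ (f i : A)) * α) • x := by
      rw [hg]
      conv_lhs =>
        rw [show (fun i => (f i : A)) = fun i => (CartDual.toDual R A ξ (f i : A)) • x from
          funext fun i => coord χ x hx ξ hxξ (f i) (f i).2]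
      rw [prod_smul_const, hα, smul_smul]
    have h2 : CartDual.toDual R A ξ (g : A) = (∏ i, CartDual.toDual R A ξ (f i : A)) * α := by
      rw [h1, map_smul, hxξ, smul_eq_mul, mul_one]
    rw [hθc, h2]
    simp_rw [hθc]
    rw [prod_smul_const, hα', smul_smul, Finset.prod_mul_distrib, Finset.prod_const,
      Finset.card_univ, Fintype.card_fin, hαv, Units.val_pow_eq_pow_val]
    congr 1
    have := unit_pow_aux v p hp1
    linear_combination (-(∏ i, CartDual.toDual R A ξ (f i : A)) * α) * this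
  · intro φ φ' ψ ψ' hφ hψ hψ' y
    have hs : ∀ i, CartDual.toDual R A' (φ' i : CartDual.D R A') x' =
        (v : R) * CartDual.toDual R A (φ i : CartDual.D R A) x := by
      intro i
      have h := hφ i xs
      rw [hθc, map_smul, smul_eq_mul] at h
      show _ = (v : R) * CartDual.toDual R A (φ i : CartDual.D R A) (xs : A)
      rw [h, hxξ, one_mul, ← mul_assoc, Units.mul_inv, one_mul]
    have h1 : (ψ : CartDual.D R A) =
        ((∏ i, CartDual.toDual R A (φ i : CartDual.D R A) x) * β) • ξ := by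
      rw [hψ]
      conv_lhs =>
        rw [show (fun i => (φ i : CartDual.D R A)) =
          fun i => (CartDual.toDual R A (φ i : CartDual.D R A) x) • ξ from
          funext fun i => coordD χ x ξ hξ hxξ (φ i) (φ i).2]
      rw [prod_smul_const, hβ, smul_smul]
    have h1' : (ψ' : CartDual.D R A') =
        ((∏ i, CartDual.toDual R A' (φ' i : CartDual.D R A') x') * β') • ξ' := by
      rw [hψ']
      conv_lhs =>
        rw [show (fun i => (φ' i : CartDual.D R A')) =
          fun i => (CartDual.toDual R A' (φ' i : CartDual.D R A') x') • ξ' from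
          funext fun i => coordD χ x' ξ' hξ' hxξ' (φ' i) (φ' i).2]
      rw [prod_smul_const, hβ', smul_smul]
    rw [h1, h1', hθc]
    simp only [map_smul, LinearMap.smul_apply, smul_eq_mul, hxξ', mul_one]
    simp_rw [hs]
    rw [Finset.prod_mul_distrib, Finset.prod_const, Finset.card_univ, Fintype.card_fin, hβv,
      Units.val_pow_eq_pow_val]
    have := unit_pow_aux' v p hp1
    linear_combination ((∏ i, CartDual.toDual R A (φ i : CartDual.D R A) x) * β *
      CartDual.toDual R A ξ (y : A)) * (-this)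

end Main

end Groth.Agent.Lib.R2H7.OTFree
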