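/-
The two-branch singularities `A_r = k[[x,y]]/(y^2 - x^(r+1))`, `r = 2n+1` odd (char ≠ 2):
branch maps `Qp, Qm : A_r → k[[t]]`, `x ↦ t`, `y ↦ ± t^(n+1)`, identify `A_r` with the pairs of series
congruent modulo `t^(n+1)`; endomorphisms with prescribed branches; automorphisms acting on the
two branches by automorphisms of `k[[t]]` congruent modulo `t^(n+1)`; every algebra map
`A_r → k[[t]]` factors through one of the branches; involutions up to conjugacy.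
-/
import Mathlib
import Groth.Agent.Lib.R2H7NodeInv

set_option autoImplicit false
universe u

namespace Groth.Agent.Lib.R2H7.OddBranch

open IsLocalRing Groth.Agent.Lib.R2H7.ArSingStruct Groth.Agent.Lib.R2H7.NodeInv

section taylor

variable (k : Type u) [Field k]

theorem dvd_map (χ : PowerSeries k →ₐ[k] PowerSeries k) (N : ℕ) {f : PowerSeries k}
    (h : PowerSeries.X ^ N ∣ f) : PowerSeries.X ^ N ∣ χ f := by
  obtain ⟨c, hc⟩ : (PowerSeries.X : PowerSeries k) ∣ χ PowerSeries.X := by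
    rw [PowerSeries.X_dvd_iff]
    exact cc_X_algHom k χ
  obtain ⟨e, rfl⟩ := h
  rw [map_mul, map_pow, hc, mul_pow, mul_assoc]
  exact Dvd.intro _ rfl

theorem algHom_C (χ : PowerSeries k →ₐ[k] PowerSeries k) (a : k) :
    χ (PowerSeries.C a) = PowerSeries.C a := by
  have h : (PowerSeries.C a : PowerSeries k) = algebraMap k (PowerSeries k) a := by
    rw [PowerSeries.algebraMap_apply, Algebra.algebraMap_self, RingHom.id_apply]
  rw [h, AlgHom.commutes]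

theorem congr_poly (χ₁ χ₂ : PowerSeries k →ₐ[k] PowerSeries k) (p : Polynomial k) :
    χ₁ PowerSeries.X - χ₂ PowerSeries.X ∣ χ₁ (p : PowerSeries k) - χ₂ (p : PowerSeries k) := by
  refine Polynomial.induction_on p ?_ ?_ ?_
  · intro a
    rw [Polynomial.coe_C, algHom_C, algHom_C, sub_self]
    exact dvd_zero _
  · intro p₁ p₂ h₁ h₂
    rw [Polynomial.coe_add, map_add, map_add]
    have h : χ₁ (p₁ : PowerSeries k) + χ₁ (p₂ : PowerSeries k) -
        (χ₂ (p₁ : PowerSeries k) + χ₂ (p₂ : PowerSeries k)) =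
        (χ₁ (p₁ : PowerSeries k) - χ₂ (p₁ : PowerSeries k)) +
        (χ₁ (p₂ : PowerSeries k) - χ₂ (p₂ : PowerSeries k)) := by ring
    rw [h]
    exact dvd_add h₁ h₂
  · intro m a _
    rw [Polynomial.coe_mul, Polynomial.coe_C, Polynomial.coe_pow, Polynomial.coe_X, map_mul,
      map_mul, map_pow, map_pow, algHom_C, algHom_C, ← mul_sub]
    exact Dvd.dvd.mul_left (sub_dvd_pow_sub_pow _ _ _) _

theorem congr_mod (χ₁ χ₂ : PowerSeries k →ₐ[k] PowerSeries k) (N : ℕ)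
    (h : PowerSeries.X ^ N ∣ χ₁ PowerSeries.X - χ₂ PowerSeries.X) (g : PowerSeries k) :
    PowerSeries.X ^ N ∣ χ₁ g - χ₂ g := by
  obtain ⟨p, g', hg⟩ : ∃ (p : Polynomial k) (g' : PowerSeries k),
      g = PowerSeries.X ^ N * g' + (p : PowerSeries k) :=
    ⟨_, _, PowerSeries.eq_X_pow_mul_shift_add_trunc N g⟩
  have h1 : PowerSeries.X ^ N ∣ χ₁ (PowerSeries.X ^ N * g') :=
    dvd_map k χ₁ N (Dvd.intro _ rfl)
  have h2 : PowerSeries.X ^ N ∣ χ₂ (PowerSeries.X ^ N * g') :=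
    dvd_map k χ₂ N (Dvd.intro _ rfl)
  have h3 : PowerSeries.X ^ N ∣ χ₁ (p : PowerSeries k) - χ₂ (p : PowerSeries k) :=
    dvd_trans h (congr_poly k χ₁ χ₂ p)
  have h4 : χ₁ g - χ₂ g = χ₁ (PowerSeries.X ^ N * g') - χ₂ (PowerSeries.X ^ N * g') +
      (χ₁ (p : PowerSeries k) - χ₂ (p : PowerSeries k)) := by
    rw [hg, map_add, map_add]
    ring
  rw [h4]
  exact dvd_add (dvd_sub h1 h2) h3

theorem symm_cond (χ₁ χ₂ : PowerSeries k ≃ₐ[k] PowerSeries k) (N : ℕ)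
    (h : PowerSeries.X ^ N ∣ χ₁ PowerSeries.X - χ₂ PowerSeries.X) :
    PowerSeries.X ^ N ∣ χ₁.symm PowerSeries.X - χ₂.symm PowerSeries.X := by
  have h1 : PowerSeries.X ^ N ∣ (χ₂ : PowerSeries k →ₐ[k] PowerSeries k) (χ₂.symm PowerSeries.X) -
      (χ₁ : PowerSeries k →ₐ[k] PowerSeries k) (χ₂.symm PowerSeries.X) := by
    apply congr_mod
    have h5 : (χ₂ : PowerSeries k →ₐ[k] PowerSeries k) PowerSeries.X -
        (χ₁ : PowerSeries k →ₐ[k] PowerSeries k) PowerSeries.X =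
        -(χ₁ PowerSeries.X - χ₂ PowerSeries.X) := by
      change χ₂ PowerSeries.X - χ₁ PowerSeries.X = _
      ring
    rw [h5]
    exact (dvd_neg).mpr h
  have h2 : (χ₂ : PowerSeries k →ₐ[k] PowerSeries k) (χ₂.symm PowerSeries.X) -
      (χ₁ : PowerSeries k →ₐ[k] PowerSeries k) (χ₂.symm PowerSeries.X) =
      χ₁ (χ₁.symm PowerSeries.X - χ₂.symm PowerSeries.X) := by
    change χ₂ (χ₂.symm PowerSeries.X) - χ₁ (χ₂.symm PowerSeries.X) = _
    rw [map_sub, AlgEquiv.apply_symm_apply, AlgEquiv.apply_symm_apply]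
  rw [h2] at h1
  have h3 := dvd_map k (χ₁.symm : PowerSeries k →ₐ[k] PowerSeries k) N h1
  change PowerSeries.X ^ N ∣ χ₁.symm (χ₁ (χ₁.symm PowerSeries.X - χ₂.symm PowerSeries.X)) at h3
  rwa [AlgEquiv.symm_apply_apply] at h3

theorem coeff_one_eq_of_dvd (N : ℕ) (hN : 2 ≤ N) {f g : PowerSeries k}
    (h : PowerSeries.X ^ N ∣ f - g) : PowerSeries.coeff 1 f = PowerSeries.coeff 1 g := by
  rw [PowerSeries.X_pow_dvd_iff] at h
  have h1 := h 1 (by omega)
  rw [map_sub, sub_eq_zero] at h1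
  exact h1

theorem coeff_one_mul (θ₁ θ₂ : PowerSeries k →ₐ[k] PowerSeries k)
    (h : θ₁ (θ₂ PowerSeries.X) = PowerSeries.X) :
    PowerSeries.coeff 1 (θ₁ PowerSeries.X) * PowerSeries.coeff 1 (θ₂ PowerSeries.X) = 1 := by
  obtain ⟨q₁, hq₁⟩ : (PowerSeries.X : PowerSeries k) ∣ θ₁ PowerSeries.X := by
    rw [PowerSeries.X_dvd_iff]
    exact cc_X_algHom k θ₁
  obtain ⟨q₂, hq₂⟩ : (PowerSeries.X : PowerSeries k) ∣ θ₂ PowerSeries.X := by
    rw [PowerSeries.X_dvd_iff]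
    exact cc_X_algHom k θ₂
  have e : ∀ q : PowerSeries k, PowerSeries.coeff 1 (PowerSeries.X * q) =
      PowerSeries.constantCoeff q := by
    intro q
    have h3 := PowerSeries.coeff_succ_X_mul (R := k) 0 q
    rw [zero_add] at h3
    rw [h3, PowerSeries.coeff_zero_eq_constantCoeff_apply]
  have hqq : q₁ * θ₁ q₂ = 1 := by
    have h1 := h
    rw [hq₂, map_mul, hq₁] at h1
    have h3 : (PowerSeries.X : PowerSeries k) * (q₁ * θ₁ q₂) = PowerSeries.X * 1 := by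
      rw [mul_one, ← mul_assoc]
      exact h1
    exact mul_left_cancel₀ PowerSeries.X_ne_zero h3
  have h4 := congrArg PowerSeries.constantCoeff hqq
  rw [map_mul, cc_algHom, map_one] at h4
  rw [hq₁, hq₂, e, e]
  exact h4

end taylor

section branch

variable (k : Type u) [Field k] (n : ℕ)

/-- The branch map on the model: `root ↦ c • t^(n+1)` for `c^2 = 1`. -/
noncomputable def bqS (c : k) (hc : c ^ 2 = 1) :
    AdjoinRoot (pol k (2 * n + 1)) →ₐ[k] PowerSeries k :=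
  AdjoinRoot.liftAlgHom (pol k (2 * n + 1)) (AlgHom.id k (PowerSeries k))
    (c • PowerSeries.X ^ (n + 1)) (by
    rw [pol, Polynomial.eval₂_sub, Polynomial.eval₂_pow, Polynomial.eval₂_X, Polynomial.eval₂_C]
    change (c • (PowerSeries.X : PowerSeries k) ^ (n + 1)) ^ 2 - PowerSeries.X ^ (2 * n + 1 + 1) = 0
    rw [smul_pow, hc, one_smul, ← pow_mul, show (n + 1) * 2 = 2 * n + 1 + 1 by ring, sub_self])

/-- The branch map `A_{2n+1} → k[[t]]`, `x ↦ t`, `y ↦ c • t^(n+1)`. -/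
noncomputable def bq (c : k) (hc : c ^ 2 = 1) : ArSing.ring k (2 * n + 1) →ₐ[k] PowerSeries k :=
  (bqS k n c hc).comp (alpha k (2 * n + 1))

theorem bq_rep (c : k) (hc : c ^ 2 = 1) (a b : PowerSeries k) :
    bq k n c hc (ArSing.xMap k (2 * n + 1) a + ArSing.xMap k (2 * n + 1) b *
      ArSing.y k (2 * n + 1)) = a + b * (c • PowerSeries.X ^ (n + 1)) := by
  rw [bq, AlgHom.comp_apply, map_add, map_mul, alpha_xMap, alpha_xMap, alpha_y, map_add, map_mul,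
    bqS, AdjoinRoot.liftAlgHom_of, AdjoinRoot.liftAlgHom_of, AdjoinRoot.liftAlgHom_root]
  rfl

theorem bq_x (c : k) (hc : c ^ 2 = 1) :
    bq k n c hc (ArSing.x k (2 * n + 1)) = PowerSeries.X := by
  have h := bq_rep k n c hc PowerSeries.X 0
  simp only [map_zero, zero_mul, add_zero, xMap_X] at h
  exact h

theorem bq_y (c : k) (hc : c ^ 2 = 1) :
    bq k n c hc (ArSing.y k (2 * n + 1)) = c • PowerSeries.X ^ (n + 1) := by
  have h := bq_rep k n c hc 0 1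
  simp only [map_zero, zero_add, map_one, one_mul] at h
  exact h

/-- The branch `y = x^(n+1)`. -/
noncomputable def Qp : ArSing.ring k (2 * n + 1) →ₐ[k] PowerSeries k := bq k n 1 (one_pow 2)

/-- The branch `y = -x^(n+1)`. -/
noncomputable def Qm : ArSing.ring k (2 * n + 1) →ₐ[k] PowerSeries k := bq k n (-1) (by ring)

theorem Qp_rep (a b : PowerSeries k) :
    Qp k n (ArSing.xMap k (2 * n + 1) a + ArSing.xMap k (2 * n + 1) b *
      ArSing.y k (2 * n + 1)) = a + b * PowerSeries.X ^ (n + 1) := by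
  rw [Qp, bq_rep, one_smul]

theorem Qm_rep (a b : PowerSeries k) :
    Qm k n (ArSing.xMap k (2 * n + 1) a + ArSing.xMap k (2 * n + 1) b *
      ArSing.y k (2 * n + 1)) = a - b * PowerSeries.X ^ (n + 1) := by
  rw [Qm, bq_rep, neg_smul, one_smul]
  ring

theorem Qp_x : Qp k n (ArSing.x k (2 * n + 1)) = PowerSeries.X := bq_x k n 1 _
theorem Qp_y : Qp k n (ArSing.y k (2 * n + 1)) = PowerSeries.X ^ (n + 1) := by
  rw [Qp, bq_y, one_smul]
theorem Qm_x : Qm k n (ArSing.x k (2 * n + 1)) = PowerSeries.X := bq_x k n (-1) _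
theorem Qm_y : Qm k n (ArSing.y k (2 * n + 1)) = -PowerSeries.X ^ (n + 1) := by
  rw [Qm, bq_y, neg_smul, one_smul]

theorem Q_dvd (a : ArSing.ring k (2 * n + 1)) :
    PowerSeries.X ^ (n + 1) ∣ Qp k n a - Qm k n a := by
  obtain ⟨a, b, rfl⟩ := exists_rep_ring k (2 * n + 1) a
  rw [Qp_rep, Qm_rep]
  exact ⟨b + b, by ring⟩

variable (h2 : (2 : k) ≠ 0)

include h2 in
theorem branch_eq_zero {a : ArSing.ring k (2 * n + 1)} (h1 : Qp k n a = 0) (h2' : Qm k n a = 0) :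
    a = 0 := by
  obtain ⟨a, b, rfl⟩ := exists_rep_ring k (2 * n + 1) a
  rw [Qp_rep] at h1
  rw [Qm_rep] at h2'
  have ha2 : (2 : k) • a = 0 := by
    rw [two_smul]
    linear_combination h1 + h2'
  have ha : a = 0 := (smul_eq_zero.mp ha2).resolve_left h2
  rw [ha, zero_add] at h1
  have hb : b = 0 := (mul_eq_zero.mp h1).resolve_right (pow_ne_zero _ PowerSeries.X_ne_zero)
  rw [ha, hb, map_zero, zero_mul, add_zero]

include h2 in
theorem branch_ext {a b : ArSing.ring k (2 * n + 1)} (h1 : Qp k n a = Qp k n b)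
    (h2' : Qm k n a = Qm k n b) : a = b := by
  rw [← sub_eq_zero]
  apply branch_eq_zero k n h2
  · rw [map_sub, h1, sub_self]
  · rw [map_sub, h2', sub_self]

include h2 in
theorem exists_branch (f g : PowerSeries k) (hfg : PowerSeries.X ^ (n + 1) ∣ f - g) :
    ∃ c : ArSing.ring k (2 * n + 1), Qp k n c = f ∧ Qm k n c = g := by
  obtain ⟨d, hd⟩ := hfg
  refine ⟨ArSing.xMap k (2 * n + 1) ((2 : k)⁻¹ • (f + g)) +
    ArSing.xMap k (2 * n + 1) ((2 : k)⁻¹ • d) * ArSing.y k (2 * n + 1), ?_, ?_⟩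
  · rw [Qp_rep, smul_mul_assoc, ← smul_add]
    have : f + g + d * PowerSeries.X ^ (n + 1) = (2 : k) • f := by
      rw [two_smul]
      linear_combination (-1 : PowerSeries k) * hd
    rw [this, smul_smul, inv_mul_cancel₀ h2, one_smul]
  · rw [Qm_rep, smul_mul_assoc, ← smul_sub]
    have : f + g - d * PowerSeries.X ^ (n + 1) = (2 : k) • g := by
      rw [two_smul]
      linear_combination hd
    rw [this, smul_smul, inv_mul_cancel₀ h2, one_smul]

variable (Q1 Q2 : ArSing.ring k (2 * n + 1) →ₐ[k] PowerSeries k)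
  (hcc : ∀ a, PowerSeries.X ^ (n + 1) ∣ Q1 a - Q2 a)

/-- The element of `A_{2n+1}` with prescribed branches. -/
noncomputable def liftFun (a : ArSing.ring k (2 * n + 1)) : ArSing.ring k (2 * n + 1) :=
  Classical.choose (exists_branch k n h2 (Q1 a) (Q2 a) (hcc a))

theorem Qp_liftFun (a : ArSing.ring k (2 * n + 1)) :
    Qp k n (liftFun k n h2 Q1 Q2 hcc a) = Q1 a :=
  (Classical.choose_spec (exists_branch k n h2 (Q1 a) (Q2 a) (hcc a))).1

theorem Qm_liftFun (a : ArSing.ring k (2 * n + 1)) :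
    Qm k n (liftFun k n h2 Q1 Q2 hcc a) = Q2 a :=
  (Classical.choose_spec (exists_branch k n h2 (Q1 a) (Q2 a) (hcc a))).2

/-- The endomorphism of `A_{2n+1}` with prescribed branch maps. -/
noncomputable def liftPair : ArSing.ring k (2 * n + 1) →ₐ[k] ArSing.ring k (2 * n + 1) where
  toFun := liftFun k n h2 Q1 Q2 hcc
  map_one' := branch_ext k n h2 (by simp only [Qp_liftFun, map_one])
    (by simp only [Qm_liftFun, map_one])
  map_mul' a b := branch_ext k n h2 (by simp only [Qp_liftFun, map_mul])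
    (by simp only [Qm_liftFun, map_mul])
  map_zero' := branch_ext k n h2 (by simp only [Qp_liftFun, map_zero])
    (by simp only [Qm_liftFun, map_zero])
  map_add' a b := branch_ext k n h2 (by simp only [Qp_liftFun, map_add])
    (by simp only [Qm_liftFun, map_add])
  commutes' r := branch_ext k n h2 (by simp only [Qp_liftFun, AlgHom.commutes])
    (by simp only [Qm_liftFun, AlgHom.commutes])

theorem Qp_liftPair (a : ArSing.ring k (2 * n + 1)) :
    Qp k n (liftPair k n h2 Q1 Q2 hcc a) = Q1 a :=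
  Qp_liftFun k n h2 Q1 Q2 hcc a

theorem Qm_liftPair (a : ArSing.ring k (2 * n + 1)) :
    Qm k n (liftPair k n h2 Q1 Q2 hcc a) = Q2 a :=
  Qm_liftFun k n h2 Q1 Q2 hcc a

theorem pairHom_cond (χ₁ χ₂ : PowerSeries k →ₐ[k] PowerSeries k)
    (h : PowerSeries.X ^ (n + 1) ∣ χ₁ PowerSeries.X - χ₂ PowerSeries.X)
    (a : ArSing.ring k (2 * n + 1)) :
    PowerSeries.X ^ (n + 1) ∣ (χ₁.comp (Qp k n)) a - (χ₂.comp (Qm k n)) a := by
  rw [AlgHom.comp_apply, AlgHom.comp_apply]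
  have h1 : χ₁ (Qp k n a) - χ₂ (Qm k n a) =
      χ₁ (Qp k n a - Qm k n a) + (χ₁ (Qm k n a) - χ₂ (Qm k n a)) := by
    rw [map_sub]
    ring
  rw [h1]
  exact dvd_add (dvd_map k χ₁ _ (Q_dvd k n a)) (congr_mod k χ₁ χ₂ _ h _)

/-- The endomorphism acting by `χ₁`, `χ₂` on the two branches. -/
noncomputable def pairHom (χ₁ χ₂ : PowerSeries k →ₐ[k] PowerSeries k)
    (h : PowerSeries.X ^ (n + 1) ∣ χ₁ PowerSeries.X - χ₂ PowerSeries.X) :
    ArSing.ring k (2 * n + 1) →ₐ[k] ArSing.ring k (2 * n + 1) :=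
  liftPair k n h2 (χ₁.comp (Qp k n)) (χ₂.comp (Qm k n)) (pairHom_cond k n χ₁ χ₂ h)

theorem Qp_pairHom (χ₁ χ₂ : PowerSeries k →ₐ[k] PowerSeries k)
    (h : PowerSeries.X ^ (n + 1) ∣ χ₁ PowerSeries.X - χ₂ PowerSeries.X)
    (a : ArSing.ring k (2 * n + 1)) :
    Qp k n (pairHom k n h2 χ₁ χ₂ h a) = χ₁ (Qp k n a) :=
  Qp_liftPair k n h2 _ _ _ a

theorem Qm_pairHom (χ₁ χ₂ : PowerSeries k →ₐ[k] PowerSeries k)
    (h : PowerSeries.X ^ (n + 1) ∣ χ₁ PowerSeries.X - χ₂ PowerSeries.X)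
    (a : ArSing.ring k (2 * n + 1)) :
    Qm k n (pairHom k n h2 χ₁ χ₂ h a) = χ₂ (Qm k n a) :=
  Qm_liftPair k n h2 _ _ _ a

/-- The automorphism acting by `χ₁`, `χ₂` on the two branches. -/
noncomputable def pairAut (χ₁ χ₂ : PowerSeries k ≃ₐ[k] PowerSeries k)
    (h : PowerSeries.X ^ (n + 1) ∣ χ₁ PowerSeries.X - χ₂ PowerSeries.X) :
    ArSing.ring k (2 * n + 1) ≃ₐ[k] ArSing.ring k (2 * n + 1) :=
  AlgEquiv.ofAlgHom (pairHom k n h2 χ₁.toAlgHom χ₂.toAlgHom h)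
    (pairHom k n h2 χ₁.symm.toAlgHom χ₂.symm.toAlgHom (symm_cond k χ₁ χ₂ _ h))
    (AlgHom.ext fun a => branch_ext k n h2
      (by
        rw [AlgHom.comp_apply, Qp_pairHom, Qp_pairHom]
        exact χ₁.apply_symm_apply _)
      (by
        rw [AlgHom.comp_apply, Qm_pairHom, Qm_pairHom]
        exact χ₂.apply_symm_apply _))
    (AlgHom.ext fun a => branch_ext k n h2
      (by
        rw [AlgHom.comp_apply, Qp_pairHom, Qp_pairHom]
        exact χ₁.symm_apply_apply _)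
      (by
        rw [AlgHom.comp_apply, Qm_pairHom, Qm_pairHom]
        exact χ₂.symm_apply_apply _))

theorem Qp_pairAut (χ₁ χ₂ : PowerSeries k ≃ₐ[k] PowerSeries k)
    (h : PowerSeries.X ^ (n + 1) ∣ χ₁ PowerSeries.X - χ₂ PowerSeries.X)
    (a : ArSing.ring k (2 * n + 1)) :
    Qp k n (pairAut k n h2 χ₁ χ₂ h a) = χ₁ (Qp k n a) :=
  Qp_pairHom k n h2 χ₁.toAlgHom χ₂.toAlgHom h a

theorem Qm_pairAut (χ₁ χ₂ : PowerSeries k ≃ₐ[k] PowerSeries k)
    (h : PowerSeries.X ^ (n + 1) ∣ χ₁ PowerSeries.X - χ₂ PowerSeries.X)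
    (a : ArSing.ring k (2 * n + 1)) :
    Qm k n (pairAut k n h2 χ₁ χ₂ h a) = χ₂ (Qm k n a) :=
  Qm_pairHom k n h2 χ₁.toAlgHom χ₂.toAlgHom h a

/-- Every algebra map `A_{2n+1} → k[[t]]` factors through one of the two branches. -/
theorem exists_factor (S : ArSing.ring k (2 * n + 1) →ₐ[k] PowerSeries k) :
    ∃ θ : PowerSeries k →ₐ[k] PowerSeries k, θ PowerSeries.X = S (ArSing.x k (2 * n + 1)) ∧
      ((∀ a, S a = θ (Qp k n a)) ∨ (∀ a, S a = θ (Qm k n a))) := by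
  have hu0 : PowerSeries.constantCoeff (S (ArSing.x k (2 * n + 1))) = 0 := by
    have h1 := algHom_mem_maximalIdeal_ps k (2 * n + 1) S (x_mem k (2 * n + 1))
    rwa [ps_mem_maximalIdeal] at h1
  have hc := isAdicComplete_ps k
  obtain ⟨θ, hθ⟩ := Groth.Agent.Lib.Helper19.exists_algHom_X_eq_of_isAdicComplete (Λ := k)
    (σ := Unit) (E := PowerSeries k) (maximalIdeal (PowerSeries k))
    (fun _ => S (ArSing.x k (2 * n + 1))) (fun _ => (ps_mem_maximalIdeal k).mpr hu0)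
  have hθX : θ (PowerSeries.X : PowerSeries k) = S (ArSing.x k (2 * n + 1)) := hθ ()
  refine ⟨θ, hθX, ?_⟩
  have hy : (S (ArSing.y k (2 * n + 1))) ^ 2 = (S (ArSing.x k (2 * n + 1))) ^ (2 * n + 1 + 1) := by
    have h := congrArg S (y_sq k (2 * n + 1))
    simpa only [map_pow] using h
  have h3 : (S (ArSing.y k (2 * n + 1)) - (S (ArSing.x k (2 * n + 1))) ^ (n + 1)) *
      (S (ArSing.y k (2 * n + 1)) + (S (ArSing.x k (2 * n + 1))) ^ (n + 1)) = 0 := by
    linear_combination hy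
  rcases mul_eq_zero.mp h3 with h | h
  · left
    have hS : S = θ.comp (Qp k n) := by
      apply ring_algHom_ext_ps
      · rw [AlgHom.comp_apply, Qp_x, hθX]
      · rw [AlgHom.comp_apply, Qp_y, map_pow, hθX]
        exact sub_eq_zero.mp h
    intro a
    rw [hS]
    rfl
  · right
    have hS : S = θ.comp (Qm k n) := by
      apply ring_algHom_ext_ps
      · rw [AlgHom.comp_apply, Qm_x, hθX]
      · rw [AlgHom.comp_apply, Qm_y, map_neg, map_pow, hθX]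
        exact eq_neg_of_add_eq_zero_left h
    intro a
    rw [hS]
    rfl

end branch

section main

variable (k : Type u) [Field k] (n : ℕ) (h2 : (2 : k) ≠ 0)

include h2 in
/-- The linearising coordinate `(t + c θ(t))/2`. -/
theorem exists_lin (c : k) (hcc : c * c = 1) (θ : PowerSeries k →ₐ[k] PowerSeries k)
    (hc1 : PowerSeries.coeff 1 (θ PowerSeries.X) = c) :
    ∃ ψ : PowerSeries k ≃ₐ[k] PowerSeries k, ψ PowerSeries.X =
      PowerSeries.C (2⁻¹ : k) * (PowerSeries.X + PowerSeries.C c * θ PowerSeries.X) ∧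
      PowerSeries.coeff 1 (PowerSeries.C (2⁻¹ : k) *
        (PowerSeries.X + PowerSeries.C c * θ PowerSeries.X)) = 1 := by
  have h0 : PowerSeries.constantCoeff (PowerSeries.C (2⁻¹ : k) *
      (PowerSeries.X + PowerSeries.C c * θ PowerSeries.X)) = 0 := by
    rw [map_mul, map_add, map_mul, cc_X_algHom, PowerSeries.constantCoeff_X, mul_zero, add_zero,
      mul_zero]
  have h1 : PowerSeries.coeff 1 (PowerSeries.C (2⁻¹ : k) *
      (PowerSeries.X + PowerSeries.C c * θ PowerSeries.X)) = 1 := by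
    rw [PowerSeries.coeff_C_mul, map_add, PowerSeries.coeff_C_mul, hc1, PowerSeries.coeff_one_X, hcc,
      one_add_one_eq_two, inv_mul_cancel₀ h2]
  obtain ⟨ψ, hψ⟩ := exists_algEquiv_X k _ h0 (by rw [h1]; exact one_ne_zero)
  exact ⟨ψ, hψ, h1⟩

theorem lin_eigen (c : k) (hcc : c * c = 1) (θ : PowerSeries k →ₐ[k] PowerSeries k)
    (hi : θ (θ PowerSeries.X) = PowerSeries.X) :
    θ (PowerSeries.C (2⁻¹ : k) * (PowerSeries.X + PowerSeries.C c * θ PowerSeries.X)) =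
      PowerSeries.C c * (PowerSeries.C (2⁻¹ : k) *
        (PowerSeries.X + PowerSeries.C c * θ PowerSeries.X)) := by
  have hC : (PowerSeries.C c : PowerSeries k) * PowerSeries.C c = 1 := by
    rw [← map_mul, hcc, map_one]
  rw [map_mul, map_add, map_mul, algHom_C, algHom_C, hi]
  linear_combination (-(PowerSeries.C (2⁻¹ : k) * θ PowerSeries.X)) * hC

variable (σ : ArSing.ring k (2 * n + 1) ≃ₐ[k] ArSing.ring k (2 * n + 1))
  (hσ : ∀ a, σ (σ a) = a)

theorem smul_x_eq (c : k) (Q : ArSing.ring k (2 * n + 1) →ₐ[k] PowerSeries k) (a : ArSing.ring k (2 * n + 1)) :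
    Q (c • a) = PowerSeries.C c * Q a := by
  rw [map_smul, PowerSeries.smul_eq_C_mul]

include h2 hσ in
theorem casePreserve (hn : 1 ≤ n) (θ₁ θ₂ : PowerSeries k →ₐ[k] PowerSeries k)
    (hθ1X : θ₁ PowerSeries.X = Qp k n (σ (ArSing.x k (2 * n + 1))))
    (hθ2X : θ₂ PowerSeries.X = Qm k n (σ (ArSing.x k (2 * n + 1))))
    (h1 : ∀ a, Qp k n (σ a) = θ₁ (Qp k n a)) (h2' : ∀ a, Qm k n (σ a) = θ₂ (Qm k n a)) :
    ∃ (φ : ArSing.ring k (2 * n + 1) ≃ₐ[k] ArSing.ring k (2 * n + 1)) (c ε : k),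
      c ^ 2 = 1 ∧ ε ^ 2 = 1 ∧
      φ.symm (σ (φ (ArSing.x k (2 * n + 1)))) = c • ArSing.x k (2 * n + 1) ∧
      φ.symm (σ (φ (ArSing.y k (2 * n + 1)))) = ε • ArSing.y k (2 * n + 1) := by
  have hd : PowerSeries.X ^ (n + 1) ∣ θ₁ PowerSeries.X - θ₂ PowerSeries.X := by
    rw [hθ1X, hθ2X]
    exact Q_dvd k n _
  obtain ⟨c, hc⟩ : ∃ c : k, PowerSeries.coeff 1 (θ₁ PowerSeries.X) = c := ⟨_, rfl⟩
  have hc2 : PowerSeries.coeff 1 (θ₂ PowerSeries.X) = c := by
    rw [← hc]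
    exact (coeff_one_eq_of_dvd k (n + 1) (by omega) hd).symm
  have hθ1i : θ₁ (θ₁ PowerSeries.X) = PowerSeries.X := by
    rw [hθ1X, ← h1, hσ, Qp_x]
  have hθ2i : θ₂ (θ₂ PowerSeries.X) = PowerSeries.X := by
    rw [hθ2X, ← h2', hσ, Qm_x]
  have hcc : c * c = 1 := by
    have h := coeff_one_mul k θ₁ θ₁ hθ1i
    rwa [hc] at h
  have hC : (PowerSeries.C c : PowerSeries k) * PowerSeries.C c = 1 := by
    rw [← map_mul, hcc, map_one]
  obtain ⟨ψ₁, hψ₁, -⟩ := exists_lin k h2 c hcc θ₁ hc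
  obtain ⟨ψ₂, hψ₂, -⟩ := exists_lin k h2 c hcc θ₂ hc2
  have hψd : PowerSeries.X ^ (n + 1) ∣ ψ₁ PowerSeries.X - ψ₂ PowerSeries.X := by
    obtain ⟨e, he⟩ := hd
    refine ⟨PowerSeries.C (2⁻¹ : k) * PowerSeries.C c * e, ?_⟩
    rw [hψ₁, hψ₂]
    linear_combination (PowerSeries.C (2⁻¹ : k) * PowerSeries.C c) * he
  have he1 := lin_eigen k c hcc θ₁ hθ1i
  have he2 := lin_eigen k c hcc θ₂ hθ2i
  rw [← hψ₁] at he1
  rw [← hψ₂] at he2
  obtain ⟨φ, hφ⟩ : ∃ φ : ArSing.ring k (2 * n + 1) ≃ₐ[k] ArSing.ring k (2 * n + 1),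
      φ = pairAut k n h2 ψ₁ ψ₂ hψd := ⟨_, rfl⟩
  have hQp : ∀ a, Qp k n (φ a) = ψ₁ (Qp k n a) := fun a => by
    rw [hφ]; exact Qp_pairAut k n h2 ψ₁ ψ₂ hψd a
  have hQm : ∀ a, Qm k n (φ a) = ψ₂ (Qm k n a) := fun a => by
    rw [hφ]; exact Qm_pairAut k n h2 ψ₁ ψ₂ hψd a
  have hx : σ (φ (ArSing.x k (2 * n + 1))) = φ (c • ArSing.x k (2 * n + 1)) := by
    apply branch_ext k n h2
    · rw [h1, hQp, Qp_x, he1, hQp, smul_x_eq, Qp_x, map_mul]
      congr 1
      exact (algHom_C k (ψ₁ : PowerSeries k →ₐ[k] PowerSeries k) c).symm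
    · rw [h2', hQm, Qm_x, he2, hQm, smul_x_eq, Qm_x, map_mul]
      congr 1
      exact (algHom_C k (ψ₂ : PowerSeries k →ₐ[k] PowerSeries k) c).symm
  have hy : σ (φ (ArSing.y k (2 * n + 1))) = φ (c ^ (n + 1) • ArSing.y k (2 * n + 1)) := by
    have h5 : ψ₁ (PowerSeries.C c) = PowerSeries.C c :=
      algHom_C k (ψ₁ : PowerSeries k →ₐ[k] PowerSeries k) _
    have h6 : ψ₂ (PowerSeries.C c) = PowerSeries.C c :=
      algHom_C k (ψ₂ : PowerSeries k →ₐ[k] PowerSeries k) _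
    apply branch_ext k n h2
    · have L : Qp k n (σ (φ (ArSing.y k (2 * n + 1)))) =
          (PowerSeries.C c * ψ₁ PowerSeries.X) ^ (n + 1) := by
        rw [h1, hQp, Qp_y, map_pow, map_pow, he1]
      have Rr : Qp k n (φ (c ^ (n + 1) • ArSing.y k (2 * n + 1))) =
          PowerSeries.C c ^ (n + 1) * (ψ₁ PowerSeries.X) ^ (n + 1) := by
        simp only [hQp, smul_x_eq, Qp_y, map_mul, map_pow, h5]
      rw [L, Rr, mul_pow]
    · have L : Qm k n (σ (φ (ArSing.y k (2 * n + 1)))) =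
          -(PowerSeries.C c * ψ₂ PowerSeries.X) ^ (n + 1) := by
        rw [h2', hQm, Qm_y, map_neg, map_neg, map_pow, map_pow, he2]
      have Rr : Qm k n (φ (c ^ (n + 1) • ArSing.y k (2 * n + 1))) =
          PowerSeries.C c ^ (n + 1) * -(ψ₂ PowerSeries.X) ^ (n + 1) := by
        simp only [hQm, smul_x_eq, Qm_y, map_mul, map_pow, map_neg, h6]
      rw [L, Rr, mul_pow, mul_neg]
  refine ⟨φ, c, c ^ (n + 1), by rw [sq]; exact hcc, ?_, ?_, ?_⟩
  · rw [← pow_mul, mul_comm, pow_mul, sq, hcc, one_pow]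
  · rw [hx, AlgEquiv.symm_apply_apply]
  · rw [hy, AlgEquiv.symm_apply_apply]

include h2 hσ in
theorem caseSwap (hn : 1 ≤ n) (θ₁ θ₂ : PowerSeries k →ₐ[k] PowerSeries k)
    (hθ1X : θ₁ PowerSeries.X = Qp k n (σ (ArSing.x k (2 * n + 1))))
    (hθ2X : θ₂ PowerSeries.X = Qm k n (σ (ArSing.x k (2 * n + 1))))
    (h1 : ∀ a, Qp k n (σ a) = θ₁ (Qm k n a)) (h2' : ∀ a, Qm k n (σ a) = θ₂ (Qp k n a)) :
    ∃ (φ : ArSing.ring k (2 * n + 1) ≃ₐ[k] ArSing.ring k (2 * n + 1)) (c ε : k),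
      c ^ 2 = 1 ∧ ε ^ 2 = 1 ∧
      φ.symm (σ (φ (ArSing.x k (2 * n + 1)))) = c • ArSing.x k (2 * n + 1) ∧
      φ.symm (σ (φ (ArSing.y k (2 * n + 1)))) = ε • ArSing.y k (2 * n + 1) := by
  have hd : PowerSeries.X ^ (n + 1) ∣ θ₁ PowerSeries.X - θ₂ PowerSeries.X := by
    rw [hθ1X, hθ2X]
    exact Q_dvd k n _
  obtain ⟨c, hc⟩ : ∃ c : k, PowerSeries.coeff 1 (θ₁ PowerSeries.X) = c := ⟨_, rfl⟩
  have hc2 : PowerSeries.coeff 1 (θ₂ PowerSeries.X) = c := by
    rw [← hc]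
    exact (coeff_one_eq_of_dvd k (n + 1) (by omega) hd).symm
  have h12 : θ₁ (θ₂ PowerSeries.X) = PowerSeries.X := by
    rw [hθ2X, ← h1, hσ, Qp_x]
  have h21 : θ₂ (θ₁ PowerSeries.X) = PowerSeries.X := by
    rw [hθ1X, ← h2', hσ, Qm_x]
  have hcc : c * c = 1 := by
    have h := coeff_one_mul k θ₁ θ₂ h12
    rwa [hc, hc2] at h
  have hC : (PowerSeries.C c : PowerSeries k) * PowerSeries.C c = 1 := by
    rw [← map_mul, hcc, map_one]
  have h21f : ∀ f, θ₂ (θ₁ f) = f := fun f =>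
    DFunLike.congr_fun (ps_algHom_ext k (θ₂.comp θ₁) (AlgHom.id k _) h21) f
  obtain ⟨ψ₂, hψ₂, hτ1⟩ := exists_lin k h2 c hcc θ₁ hc
  have hkey : PowerSeries.X ^ (n + 1) ∣
      PowerSeries.C c * θ₁ (ψ₂ PowerSeries.X) - ψ₂ PowerSeries.X := by
    have h3 : PowerSeries.C c * θ₁ (ψ₂ PowerSeries.X) - ψ₂ PowerSeries.X =
        PowerSeries.C (2⁻¹ : k) * θ₁ (θ₁ PowerSeries.X - θ₂ PowerSeries.X) := by
      rw [hψ₂, map_mul, map_add, map_mul, algHom_C, algHom_C, map_sub, h12]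
      linear_combination (PowerSeries.C (2⁻¹ : k) * θ₁ (θ₁ PowerSeries.X)) * hC
    rw [h3]
    exact Dvd.dvd.mul_left (dvd_map k θ₁ _ hd) _
  have hτ0 : PowerSeries.constantCoeff (ψ₂ PowerSeries.X) = 0 :=
    cc_X_algHom k (ψ₂ : PowerSeries k →ₐ[k] PowerSeries k)
  have hs0 : PowerSeries.constantCoeff (PowerSeries.C c * θ₁ (ψ₂ PowerSeries.X)) = 0 := by
    rw [map_mul, cc_algHom, hτ0, mul_zero]
  have hs1 : PowerSeries.coeff 1 (PowerSeries.C c * θ₁ (ψ₂ PowerSeries.X)) ≠ 0 := by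
    rw [coeff_one_eq_of_dvd k (n + 1) (by omega) hkey, hψ₂, hτ1]
    exact one_ne_zero
  obtain ⟨ψ₁, hψ₁⟩ := exists_algEquiv_X k _ hs0 hs1
  have hψd : PowerSeries.X ^ (n + 1) ∣ ψ₁ PowerSeries.X - ψ₂ PowerSeries.X := by
    rw [hψ₁]
    exact hkey
  obtain ⟨φ, hφ⟩ : ∃ φ : ArSing.ring k (2 * n + 1) ≃ₐ[k] ArSing.ring k (2 * n + 1),
      φ = pairAut k n h2 ψ₁ ψ₂ hψd := ⟨_, rfl⟩
  have hQp : ∀ a, Qp k n (φ a) = ψ₁ (Qp k n a) := fun a => by
    rw [hφ]; exact Qp_pairAut k n h2 ψ₁ ψ₂ hψd a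
  have hQm : ∀ a, Qm k n (φ a) = ψ₂ (Qm k n a) := fun a => by
    rw [hφ]; exact Qm_pairAut k n h2 ψ₁ ψ₂ hψd a
  have h5 : ψ₁ (PowerSeries.C c) = PowerSeries.C c :=
    algHom_C k (ψ₁ : PowerSeries k →ₐ[k] PowerSeries k) _
  have h6 : ψ₂ (PowerSeries.C c) = PowerSeries.C c :=
    algHom_C k (ψ₂ : PowerSeries k →ₐ[k] PowerSeries k) _
  have hx : σ (φ (ArSing.x k (2 * n + 1))) = φ (c • ArSing.x k (2 * n + 1)) := by
    apply branch_ext k n h2
    · have L : Qp k n (σ (φ (ArSing.x k (2 * n + 1)))) = θ₁ (ψ₂ PowerSeries.X) := by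
        rw [h1, hQm, Qm_x]
      have Rr : Qp k n (φ (c • ArSing.x k (2 * n + 1))) =
          PowerSeries.C c * (PowerSeries.C c * θ₁ (ψ₂ PowerSeries.X)) := by
        simp only [hQp, smul_x_eq, Qp_x, map_mul, h5, hψ₁]
      rw [L, Rr]
      linear_combination (-(θ₁ (ψ₂ PowerSeries.X))) * hC
    · have L : Qm k n (σ (φ (ArSing.x k (2 * n + 1)))) = PowerSeries.C c * ψ₂ PowerSeries.X := by
        rw [h2', hQp, Qp_x, hψ₁, map_mul, algHom_C, h21f]
      have Rr : Qm k n (φ (c • ArSing.x k (2 * n + 1))) = PowerSeries.C c * ψ₂ PowerSeries.X := by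
        simp only [hQm, smul_x_eq, Qm_x, map_mul, h6]
      rw [L, Rr]
  have hE : (PowerSeries.C c : PowerSeries k) ^ (n + 1) * PowerSeries.C c ^ (n + 1) = 1 := by
    rw [← mul_pow, hC, one_pow]
  have hy : σ (φ (ArSing.y k (2 * n + 1))) = φ ((-c ^ (n + 1)) • ArSing.y k (2 * n + 1)) := by
    apply branch_ext k n h2
    · have L : Qp k n (σ (φ (ArSing.y k (2 * n + 1)))) = -(θ₁ (ψ₂ PowerSeries.X)) ^ (n + 1) := by
        rw [h1, hQm, Qm_y, map_neg, map_neg, map_pow, map_pow]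
      have Rr : Qp k n (φ ((-c ^ (n + 1)) • ArSing.y k (2 * n + 1))) =
          -PowerSeries.C c ^ (n + 1) * (PowerSeries.C c * θ₁ (ψ₂ PowerSeries.X)) ^ (n + 1) := by
        simp only [hQp, smul_x_eq, Qp_y, map_mul, map_pow, map_neg, h5, hψ₁]
      rw [L, Rr, mul_pow]
      linear_combination ((θ₁ (ψ₂ PowerSeries.X)) ^ (n + 1)) * hE
    · have L : Qm k n (σ (φ (ArSing.y k (2 * n + 1)))) =
          (PowerSeries.C c * ψ₂ PowerSeries.X) ^ (n + 1) := by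
        rw [h2', hQp, Qp_y, map_pow, map_pow, hψ₁, map_mul, algHom_C, h21f]
      have Rr : Qm k n (φ ((-c ^ (n + 1)) • ArSing.y k (2 * n + 1))) =
          -PowerSeries.C c ^ (n + 1) * -(ψ₂ PowerSeries.X) ^ (n + 1) := by
        simp only [hQm, smul_x_eq, Qm_y, map_mul, map_pow, map_neg, h6]
      rw [L, Rr, mul_pow]
      ring
  refine ⟨φ, c, -c ^ (n + 1), by rw [sq]; exact hcc, ?_, ?_, ?_⟩
  · rw [neg_sq, ← pow_mul, mul_comm, pow_mul, sq, hcc, one_pow]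
  · rw [hx, AlgEquiv.symm_apply_apply]
  · rw [hy, AlgEquiv.symm_apply_apply]

include h2 hσ in
/-- Normal form of an involution of `A_{2n+1}`, `n ≥ 1`: up to conjugacy `x ↦ c x`, `y ↦ ε y` with
`c, ε = ±1`. -/
theorem main (hn : 1 ≤ n) :
    ∃ (φ : ArSing.ring k (2 * n + 1) ≃ₐ[k] ArSing.ring k (2 * n + 1)) (c ε : k),
      c ^ 2 = 1 ∧ ε ^ 2 = 1 ∧
      φ.symm (σ (φ (ArSing.x k (2 * n + 1)))) = c • ArSing.x k (2 * n + 1) ∧
      φ.symm (σ (φ (ArSing.y k (2 * n + 1)))) = ε • ArSing.y k (2 * n + 1) := by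
  obtain ⟨θ₁, hθ1X, h1⟩ := exists_factor k n ((Qp k n).comp
    (σ : ArSing.ring k (2 * n + 1) →ₐ[k] ArSing.ring k (2 * n + 1)))
  obtain ⟨θ₂, hθ2X, h2'⟩ := exists_factor k n ((Qm k n).comp
    (σ : ArSing.ring k (2 * n + 1) →ₐ[k] ArSing.ring k (2 * n + 1)))
  have hθ1X' : θ₁ PowerSeries.X = Qp k n (σ (ArSing.x k (2 * n + 1))) := hθ1X
  have hθ2X' : θ₂ PowerSeries.X = Qm k n (σ (ArSing.x k (2 * n + 1))) := hθ2X
  have hne0 : (PowerSeries.X : PowerSeries k) ^ (n + 1) + PowerSeries.X ^ (n + 1) ≠ 0 := by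
    intro h
    have h3 : (2 : k) • (PowerSeries.X : PowerSeries k) ^ (n + 1) = 0 := by
      rw [two_smul]
      exact h
    rcases smul_eq_zero.mp h3 with h' | h'
    · exact h2 h'
    · exact pow_ne_zero _ PowerSeries.X_ne_zero h'
  rcases h1 with h1 | h1
  · have h1' : ∀ a, Qp k n (σ a) = θ₁ (Qp k n a) := fun a => h1 a
    rcases h2' with h2' | h2'
    · exfalso
      have h2'' : ∀ a, Qm k n (σ a) = θ₂ (Qp k n a) := fun a => h2' a
      have ha : Qp k n (ArSing.y k (2 * n + 1) - ArSing.x k (2 * n + 1) ^ (n + 1)) = 0 := by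
        rw [map_sub, map_pow, Qp_x, Qp_y, sub_self]
      have h3 : σ (ArSing.y k (2 * n + 1) - ArSing.x k (2 * n + 1) ^ (n + 1)) = 0 :=
        branch_eq_zero k n h2 (by rw [h1', ha, map_zero]) (by rw [h2'', ha, map_zero])
      have h4 : ArSing.y k (2 * n + 1) - ArSing.x k (2 * n + 1) ^ (n + 1) = 0 :=
        σ.injective (h3.trans (map_zero σ).symm)
      have h5 : Qm k n (ArSing.y k (2 * n + 1) - ArSing.x k (2 * n + 1) ^ (n + 1)) = 0 := by
        rw [h4, map_zero]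
      rw [map_sub, map_pow, Qm_x, Qm_y] at h5
      apply hne0
      linear_combination -h5
    · have h2'' : ∀ a, Qm k n (σ a) = θ₂ (Qm k n a) := fun a => h2' a
      exact casePreserve k n h2 σ hσ hn θ₁ θ₂ hθ1X' hθ2X' h1' h2''
  · have h1' : ∀ a, Qp k n (σ a) = θ₁ (Qm k n a) := fun a => h1 a
    rcases h2' with h2' | h2'
    · have h2'' : ∀ a, Qm k n (σ a) = θ₂ (Qp k n a) := fun a => h2' a
      exact caseSwap k n h2 σ hσ hn θ₁ θ₂ hθ1X' hθ2X' h1' h2''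
    · exfalso
      have h2'' : ∀ a, Qm k n (σ a) = θ₂ (Qm k n a) := fun a => h2' a
      have ha : Qm k n (ArSing.y k (2 * n + 1) + ArSing.x k (2 * n + 1) ^ (n + 1)) = 0 := by
        rw [map_add, map_pow, Qm_x, Qm_y, neg_add_cancel]
      have h3 : σ (ArSing.y k (2 * n + 1) + ArSing.x k (2 * n + 1) ^ (n + 1)) = 0 :=
        branch_eq_zero k n h2 (by rw [h1', ha, map_zero]) (by rw [h2'', ha, map_zero])
      have h4 : ArSing.y k (2 * n + 1) + ArSing.x k (2 * n + 1) ^ (n + 1) = 0 :=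
        σ.injective (h3.trans (map_zero σ).symm)
      have h5 : Qp k n (ArSing.y k (2 * n + 1) + ArSing.x k (2 * n + 1) ^ (n + 1)) = 0 := by
        rw [h4, map_zero]
      rw [map_add, map_pow, Qp_x, Qp_y] at h5
      exact hne0 h5

end main

section triv

variable (k : Type u) [Field k]

theorem eq_refl_of_conj (r : ℕ) (σ φ : ArSing.ring k r ≃ₐ[k] ArSing.ring k r)
    (hx : φ.symm (σ (φ (ArSing.x k r))) = ArSing.x k r)
    (hy : φ.symm (σ (φ (ArSing.y k r))) = ArSing.y k r) : σ = AlgEquiv.refl := by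
  have h : (((φ.trans σ).trans φ.symm : ArSing.ring k r ≃ₐ[k] ArSing.ring k r) :
      ArSing.ring k r →ₐ[k] ArSing.ring k r) = AlgHom.id k _ := by
    apply ring_algHom_ext k r r
    · change φ.symm (σ (φ (ArSing.x k r))) ∈ maximalIdeal _
      rw [hx]
      exact x_mem k r
    · change φ.symm (σ (φ (ArSing.y k r))) ∈ maximalIdeal _
      rw [hy]
      exact y_mem k r
    · exact hx
    · exact hy
  ext b
  have h3 := DFunLike.congr_fun h (φ.symm b)
  change φ.symm (σ (φ (φ.symm b))) = φ.symm b at h3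
  rw [AlgEquiv.apply_symm_apply] at h3
  exact φ.symm.injective h3

end triv

end Groth.Agent.Lib.R2H7.OddBranch
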