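import Mathlib
import Groth.Prelude
import Groth.Agent.Lib.R2H7HilbPoly
import Groth.Agent.Lib.R2H2NilFilt

/-!
# Parabolic Hilbert functions of weighted filtrations

`euler_twist_sub`: for a coherent subobject `S ⊆ E` the Euler characteristic of `S(m)` is
`P_E(m) - P_{E/S}(m)`; `parHilb_eq`: the parabolic Hilbert function as `P - Σ (w_j - w_{j-1}) H_j`.
-/

universe u

open CategoryTheory CategoryTheory.Limits AlgebraicGeometry Polynomial

namespace Groth.Agent.Lib.R2H7.ParHilb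

open Groth.Agent.Lib.R2H7.HilbPoly

variable (k : Type u) [Field k] {X : Scheme.{u}} [X.Over (Spec (CommRingCat.of k))]
  [IsProper (X ↘ Spec (CommRingCat.of k))]

/-- The Hilbert polynomial of a coherent subobject: there is `Q` with `P = Q + H`. -/
theorem exists_hilbPoly_sub (L : X.Modules) (hL : CohB1.IsAmple L) {E : X.Modules}
    (hE : Coh.IsCoh E) (S : Subobject E) (hS : Coh.IsCoh (S : X.Modules))
    (P H : ℚ[X]) (hP : ShStab.IsHilbPoly k X L E P)
    (hH : ShStab.IsHilbPoly k X L (cokernel S.arrow) H) :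
    ∃ Q : ℚ[X], ShStab.IsHilbPoly k X L (S : X.Modules) Q ∧ P = Q + H := by
  obtain ⟨Q, hQ⟩ := (hilbAx k L hL).hp_exists hS
  have hSE : (ShortComplex.mk S.arrow (cokernel.π S.arrow) (cokernel.condition _)).ShortExact :=
    { exact := ShortComplex.exact_cokernel S.arrow
      mono_f := by dsimp; infer_instance
      epi_g := by dsimp; infer_instance }
  have hsum := isHilbPoly_add k L hL.1 _ hSE hS hE
    (Groth.Agent.Lib.R2H2.NilFilt.isCoh_cokernel hS hE S.arrow) hQ hH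
  exact ⟨Q, hQ, isHilbPoly_unique k L hP hsum⟩

theorem euler_twist_sub (L : X.Modules) (hL : CohB1.IsAmple L) {E : X.Modules}
    (hE : Coh.IsCoh E) (S : Subobject E) (hS : Coh.IsCoh (S : X.Modules))
    (P H : ℚ[X]) (hP : ShStab.IsHilbPoly k X L E P)
    (hH : ShStab.IsHilbPoly k X L (cokernel S.arrow) H) (m : ℕ) :
    (Curv2.euler k X (ShStab.twist X L (S : X.Modules) m) : ℚ) =
      P.eval (m : ℚ) - H.eval (m : ℚ) := by
  obtain ⟨Q, hQ, hPQ⟩ := exists_hilbPoly_sub k L hL hE S hS P H hP hH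
  rw [hPQ, Polynomial.eval_add, hQ m]
  ring

/-- the quotient by the top subobject has Hilbert polynomial zero -/
theorem hilbPoly_coker_top (L : X.Modules) {E : X.Modules} (H : ℚ[X])
    (hH : ShStab.IsHilbPoly k X L (cokernel (⊤ : Subobject E).arrow) H) : H = 0 := by
  have hz : IsZero (cokernel (⊤ : Subobject E).arrow) := by
    haveI : IsIso (⊤ : Subobject E).arrow := inferInstance
    exact isZero_cokernel_of_epi _
  exact isHilbPoly_unique k L hH (isHilbPoly_zero k L hz)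

omit [IsProper (X ↘ Spec (CommRingCat.of k))] in
/-- Abel summation for the weighted filtration sum. -/
theorem abel_sum (l : ℕ) (w : Fin (l + 2) → ℝ) (h : Fin (l + 2) → ℝ) (p : ℝ) (h0 : h 0 = 0)
    (hw : w (Fin.last (l + 1)) = 1) :
    (p - h (Fin.last (l + 1))) +
        ∑ j : Fin (l + 1), w j.castSucc * ((p - h j.castSucc) - (p - h j.succ)) =
      p - ∑ j : Fin (l + 1), (w j.succ - w j.castSucc) * h j.succ := by
  have h1 : ∑ j : Fin (l + 2), w j * h j =
      w 0 * h 0 + ∑ j : Fin (l + 1), w j.succ * h j.succ := Fin.sum_univ_succ _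
  have h2 : ∑ j : Fin (l + 2), w j * h j =
      ∑ j : Fin (l + 1), w j.castSucc * h j.castSucc + w (Fin.last (l + 1)) * h (Fin.last (l + 1)) :=
    Fin.sum_univ_castSucc _
  have e1 : ∑ j : Fin (l + 1), w j.castSucc * ((p - h j.castSucc) - (p - h j.succ)) =
      ∑ j : Fin (l + 1), w j.castSucc * h j.succ - ∑ j : Fin (l + 1), w j.castSucc * h j.castSucc := by
    rw [← Finset.sum_sub_distrib]
    apply Finset.sum_congr rfl
    intro j _
    ring
  have e2 : ∑ j : Fin (l + 1), (w j.succ - w j.castSucc) * h j.succ =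
      ∑ j : Fin (l + 1), w j.succ * h j.succ - ∑ j : Fin (l + 1), w j.castSucc * h j.succ := by
    rw [← Finset.sum_sub_distrib]
    apply Finset.sum_congr rfl
    intro j _
    ring
  rw [e1, e2]
  rw [h0, mul_zero, zero_add] at h1
  rw [hw, one_mul] at h2
  linarith

/-- The parabolic Hilbert function in terms of the Hilbert polynomials of the quotients. -/
theorem parHilb_eq (L : X.Modules) (hL : CohB1.IsAmple L) (E : X.Modules) (hE : Coh.IsCoh E)
    (𝓔 : ParSh.Str E)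
    (hcoh : ∀ j, Coh.IsCoh ((𝓔.pieceX j : Subobject E) : X.Modules))
    (P : ℚ[X]) (hP : ShStab.IsHilbPoly k X L E P) (H : Fin (𝓔.l + 2) → ℚ[X])
    (hH : ∀ j, ShStab.IsHilbPoly k X L (cokernel (𝓔.pieceX j).arrow) (H j)) (m : ℕ) :
    𝓔.parHilb k X L m =
      ((P.eval (m : ℚ) : ℚ) : ℝ) -
        ∑ j : Fin (𝓔.l + 1), (𝓔.wtX j.succ - 𝓔.wtX j.castSucc) *
          (((H j.succ).eval (m : ℚ) : ℚ) : ℝ) := by
  have he : ∀ j : Fin (𝓔.l + 2),
      (Curv2.euler k X (ShStab.twist X L ((𝓔.pieceX j : Subobject E) : X.Modules) m) : ℝ) =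
        ((P.eval (m : ℚ) : ℚ) : ℝ) - (((H j).eval (m : ℚ) : ℚ) : ℝ) := by
    intro j
    have h1 := euler_twist_sub k L hL hE (𝓔.pieceX j) (hcoh j) P (H j) hP (hH j) m
    have h2 : ((Curv2.euler k X (ShStab.twist X L ((𝓔.pieceX j : Subobject E) : X.Modules) m) : ℚ) : ℝ)
        = ((P.eval (m : ℚ) - (H j).eval (m : ℚ) : ℚ) : ℝ) := by rw [h1]
    push_cast at h2
    exact_mod_cast h2
  have h0 : (((H 0).eval (m : ℚ) : ℚ) : ℝ) = 0 := by
    have hp0 : 𝓔.pieceX 0 = ⊤ := by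
      have : (0 : Fin (𝓔.l + 2)) = (0 : Fin (𝓔.l + 1)).castSucc := rfl
      rw [this, ParSh.Str.pieceX_castSucc, 𝓔.piece_zero]
    have hH0 := hH 0
    rw [hp0] at hH0
    rw [hilbPoly_coker_top k L (H 0) hH0]
    simp
  unfold ParSh.Str.parHilb ParSh.Str.parSum
  have hbot : 𝓔.bot = 𝓔.pieceX (Fin.last (𝓔.l + 1)) := (ParSh.Str.pieceX_last 𝓔).symm
  have hpiece : ∀ j : Fin (𝓔.l + 1), 𝓔.piece j = 𝓔.pieceX j.castSucc :=
    fun j => (ParSh.Str.pieceX_castSucc 𝓔 j).symm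
  have hwt : ∀ j : Fin (𝓔.l + 1), 𝓔.wt j = 𝓔.wtX j.castSucc :=
    fun j => (ParSh.Str.wtX_castSucc 𝓔 j).symm
  simp only [hbot, hpiece, hwt, he]
  exact abel_sum 𝓔.l 𝓔.wtX (fun j => (((H j).eval (m : ℚ) : ℚ) : ℝ)) _ h0 (ParSh.Str.wtX_last 𝓔)

end Groth.Agent.Lib.R2H7.ParHilb
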