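import Mathlib
import Groth.Prelude
import Groth.Agent.Lib.R2H7ParHilb
import Groth.Agent.Lib.R2H7HilbStab
import Groth.Agent.Lib.R2H1DegCartier
import Groth.Agent.Lib.Helper21ModTensor5
import Groth.Agent.Lib.R2H1ProjLF
import Groth.Agent.Lib.R2H2DevA
import Groth.Agent.Lib.R2H4Snapper
import Groth.Agent.Lib.H6xSuppPush
import Groth.Agent.Lib.R2H1SkyDecomp

/-!
# Coefficients of the parabolic Hilbert polynomial

For a subobject `S` of a coherent module `E` with `I·E ≤ S` the quotient `E / S` is supported in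
`Supp E ∩ V(I)`; consequently the Hilbert polynomials of `E` and `S` agree in degrees at least
the dimension bound, and the coefficient of degree `d - 1` is monotone in `S`.
-/

universe u

open CategoryTheory CategoryTheory.Limits AlgebraicGeometry Polynomial

namespace Groth.Agent.Lib.R2H7.ParHilbB

open Groth.Agent.Lib.R2H7.HilbPoly

section Supp

variable {X : Scheme.{u}}

/-- `E ⊗ O_D` is supported in `V(I)`. -/
theorem support_tensor_quotMod_subset (I : X.IdealSheafData) (E : X.Modules) :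
    CohB1.support (CohB1.tensorMod E (ClSub.quotMod I)) ⊆ (I.support : Set X) := by
  have e : CohB1.tensorMod E (ClSub.quotMod I) ≅ CohB1.tensorMod (ClSub.quotMod I) E :=
    Groth.Agent.Lib.Helper21.ModTensor5.brdApp X.sheaf E (ClSub.quotMod I)
  rw [Groth.Agent.Lib.H6xSuppPush.support_eq_of_iso e]
  intro y hy
  by_contra hcon
  exact hy (Groth.Agent.Lib.R2H1.SkyDecomp.stalk_tensor_subsingleton (ClSub.quotMod I) E
    (I.support : Set X) I.support.isClosed
    (fun x hx => Groth.Agent.Lib.R2H1.DegCartier.stalk_quotMod_subsingleton I x hx) y hcon)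

/-- `E ⊗ O_D` surjects onto `E / I·E` (right exactness of the tensor product). -/
theorem exists_epi_tensor_quotMod (I : X.IdealSheafData) (E : X.Modules) :
    ∃ φ : CohB1.tensorMod E (ClSub.quotMod I) ⟶ cokernel (ParSh.twistMap I E), Epi φ := by
  haveI := Groth.Agent.Lib.R2H1.ProjLF.preservesFiniteColimits_tensorBi_obj E
  have hS := Groth.Agent.Lib.R2H1.DegCartier.idealSeq_shortExact I
  haveI : Epi (Groth.Agent.Lib.R2H1.DegCartier.idealSeq I).g := hS.epi_g
  let T := DCoh.tensorBi.obj E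
  have hz : T.map (ClSub.idealModι I) ≫ T.map (ClSub.toSubscheme I) = 0 := by
    rw [← T.map_comp]
    have : ClSub.idealModι I ≫ ClSub.toSubscheme I = 0 :=
      (Groth.Agent.Lib.R2H1.DegCartier.idealSeq I).zero
    rw [this, T.map_zero]
  have hc : IsColimit (CokernelCofork.ofπ (T.map (ClSub.toSubscheme I)) hz) :=
    CokernelCofork.mapIsColimit _ hS.exact.gIsCokernel T
  let u : T.obj (Coh.structureModule X) ⟶ E := (SecTwist.unitorR E).hom
  haveI : IsIso u := by
    show IsIso (SecTwist.unitorR E).hom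
    infer_instance
  let ψ : T.obj (Coh.structureModule X) ⟶ cokernel (ParSh.twistMap I E) :=
    u ≫ cokernel.π _
  have hψ : T.map (ClSub.idealModι I) ≫ ψ = 0 := by
    have h1 : T.map (ClSub.idealModι I) ≫ u = ParSh.twistMap I E := by
      rw [KoszTw.tensorBi_obj_map]; rfl
    show T.map (ClSub.idealModι I) ≫ u ≫ cokernel.π _ = 0
    rw [← Category.assoc, h1]
    exact cokernel.condition _
  refine ⟨hc.desc (CokernelCofork.ofπ ψ hψ), ?_⟩
  have hfac : T.map (ClSub.toSubscheme I) ≫ hc.desc (CokernelCofork.ofπ ψ hψ) = ψ :=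
    hc.fac (CokernelCofork.ofπ ψ hψ) WalkingParallelPair.one
  haveI : Epi ψ := epi_comp _ _
  exact epi_of_epi_fac hfac

theorem support_coker_twistMap_subset (I : X.IdealSheafData) (E : X.Modules) :
    CohB1.support (cokernel (ParSh.twistMap I E)) ⊆ (I.support : Set X) := by
  obtain ⟨φ, hφ⟩ := exists_epi_tensor_quotMod I E
  exact (Groth.Agent.Lib.R2H2.DevA.support_subset_of_epi φ).trans
    (support_tensor_quotMod_subset I E)

/-- For `I·E ≤ S ≤ E` the quotient `E / S` is supported in `Supp E ∩ V(I)`. -/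
theorem support_coker_arrow_subset (I : X.IdealSheafData) (E : X.Modules) (S : Subobject E)
    (hS : ParSh.twistSub I E ≤ S) :
    CohB1.support (cokernel S.arrow) ⊆ CohB1.support E ∩ (I.support : Set X) := by
  refine Set.subset_inter
    (Groth.Agent.Lib.R2H2.DevA.support_subset_of_epi (cokernel.π S.arrow)) ?_
  have hS' : imageSubobject (ParSh.twistMap I E) ≤ S := hS
  have hcomp : ParSh.twistMap I E ≫ cokernel.π S.arrow = 0 := by
    have h1 : ParSh.twistMap I E =
        factorThruImageSubobject (ParSh.twistMap I E) ≫ Subobject.ofLE _ _ hS' ≫ S.arrow := by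
      rw [Subobject.ofLE_arrow]; exact (imageSubobject_arrow_comp _).symm
    rw [h1, Category.assoc, Category.assoc, cokernel.condition, Limits.comp_zero, Limits.comp_zero]
  let χ := cokernel.desc (ParSh.twistMap I E) (cokernel.π S.arrow) hcomp
  haveI : Epi χ := epi_of_epi_fac (cokernel.π_desc _ _ hcomp)
  exact (Groth.Agent.Lib.R2H2.DevA.support_subset_of_epi χ).trans
    (support_coker_twistMap_subset I E)

theorem sdim_coker_lt (I : X.IdealSheafData) (E : X.Modules) (S : Subobject E)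
    (hS : ParSh.twistSub I E ≤ S) (d : ℕ)
    (hsupp : topologicalKrullDim ↥(CohB1.support E ∩ (I.support : Set X)) < (d : WithBot ℕ∞)) :
    topologicalKrullDim (CohB1.support (cokernel S.arrow)) < (d : WithBot ℕ∞) :=
  lt_of_le_of_lt (Topology.IsInducing.topologicalKrullDim_le
    (Topology.IsEmbedding.inclusion (support_coker_arrow_subset I E S hS)).isInducing) hsupp

end Supp

section Str

variable {C : Type*} [Category C] {E : C}

theorem pieceX_succ_le (𝓔 : ParSh.Str E) (j : Fin (𝓔.l + 1)) :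
    𝓔.pieceX j.succ ≤ 𝓔.pieceX j.castSucc := by
  rw [𝓔.pieceX_castSucc]
  induction j using Fin.lastCases with
  | last => rw [𝓔.pieceX_succ_last]; exact 𝓔.bot_le _
  | cast i =>
    rw [𝓔.pieceX_succ_castSucc]
    exact 𝓔.piece_anti (by rw [Fin.le_iff_val_le_val]; simp)

theorem pieceX_zero (𝓔 : ParSh.Str E) : 𝓔.pieceX 0 = ⊤ := by
  simpa [𝓔.piece_zero] using 𝓔.pieceX_castSucc 0

theorem wt_nonneg' (𝓔 : ParSh.Str E) (j : Fin (𝓔.l + 1)) : 0 ≤ 𝓔.wt j :=
  le_trans 𝓔.wt_nonneg (𝓔.wt_strictMono.monotone (Fin.zero_le j))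

theorem wt_le_one (𝓔 : ParSh.Str E) (j : Fin (𝓔.l + 1)) : 𝓔.wt j ≤ 1 :=
  le_trans (𝓔.wt_strictMono.monotone (Fin.le_last j)) 𝓔.wt_lt_one.le

theorem coeff_parPoly (𝓔 : ParSh.Str E) (PX : Fin (𝓔.l + 2) → ℚ[X]) (n : ℕ) :
    (W4swparbununimod.parPoly 𝓔 PX).coeff n =
      (Rat.castHom ℝ) ((PX (Fin.last (𝓔.l + 1))).coeff n) +
        ∑ j : Fin (𝓔.l + 1), 𝓔.wt j *
          ((Rat.castHom ℝ) ((PX j.castSucc).coeff n) - (Rat.castHom ℝ) ((PX j.succ).coeff n)) := by
  unfold W4swparbununimod.parPoly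
  simp only [W4swparbununimod.rpoly, Polynomial.coeff_add, Polynomial.finsetSum_coeff,
    Polynomial.coeff_C_mul, Polynomial.coeff_sub, Polynomial.coeff_map]

theorem weighted_bounds (l : ℕ) (w : Fin (l + 1) → ℝ) (c : Fin (l + 2) → ℝ)
    (hw0 : ∀ j, 0 ≤ w j) (hw1 : ∀ j, w j ≤ 1)
    (hmono : ∀ j : Fin (l + 1), c j.succ ≤ c j.castSucc) :
    c (Fin.last (l + 1)) ≤
        c (Fin.last (l + 1)) + ∑ j : Fin (l + 1), w j * (c j.castSucc - c j.succ) ∧
      c (Fin.last (l + 1)) + ∑ j : Fin (l + 1), w j * (c j.castSucc - c j.succ) ≤ c 0 := by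
  have hpos : 0 ≤ ∑ j : Fin (l + 1), w j * (c j.castSucc - c j.succ) :=
    Finset.sum_nonneg (fun j _ => mul_nonneg (hw0 j) (sub_nonneg.2 (hmono j)))
  have hle : ∑ j : Fin (l + 1), w j * (c j.castSucc - c j.succ) ≤
      ∑ j : Fin (l + 1), (c j.castSucc - c j.succ) :=
    Finset.sum_le_sum (fun j _ => mul_le_of_le_one_left (sub_nonneg.2 (hmono j)) (hw1 j))
  have htel : ∑ j : Fin (l + 1), (c j.castSucc - c j.succ) = c 0 - c (Fin.last (l + 1)) := by
    have h1 : ∑ j : Fin (l + 2), c j = c 0 + ∑ j : Fin (l + 1), c j.succ := Fin.sum_univ_succ _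
    have h2 : ∑ j : Fin (l + 2), c j = ∑ j : Fin (l + 1), c j.castSucc + c (Fin.last (l + 1)) :=
      Fin.sum_univ_castSucc _
    rw [Finset.sum_sub_distrib]; linarith
  constructor
  · linarith
  · linarith

end Str

section Hilb

variable (k : Type u) [Field k] {X : Scheme.{u}} [X.Over (Spec (CommRingCat.of k))]
  [IsProper (X ↘ Spec (CommRingCat.of k))]

/-- Hilbert polynomials of `E` and of `S ⊇ I·E` agree in degrees `≥ d > dim (Supp E ∩ V(I))`. -/
theorem coeff_eq_of_le (L : X.Modules) (hL : CohB1.IsAmple L) (I : X.IdealSheafData)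
    (E : X.Modules) (hE : Coh.IsCoh E) (S : Subobject E) (hcS : Coh.IsCoh (S : X.Modules))
    (hS : ParSh.twistSub I E ≤ S) (d : ℕ)
    (hsupp : topologicalKrullDim ↥(CohB1.support E ∩ (I.support : Set X)) < (d : WithBot ℕ∞))
    (P Q : ℚ[X]) (hP : ShStab.IsHilbPoly k X L E P)
    (hQ : ShStab.IsHilbPoly k X L (S : X.Modules) Q) (n : ℕ) (hn : d ≤ n) :
    Q.coeff n = P.coeff n := by
  have ax := hilbAx k L hL
  have hH := ax.hp_coker S.arrow hcS hE hQ hP
  have hlt : topologicalKrullDim (CohB1.support (cokernel S.arrow)) < (n : WithBot ℕ∞) :=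
    lt_of_lt_of_le (sdim_coker_lt I E S hS d hsupp) (by exact_mod_cast hn)
  have h0 := ax.alpha_eq_zero (ax.ok_coker S.arrow hcS hE) hH hlt
  unfold StabCat.alpha at h0
  rcases mul_eq_zero.1 h0 with h1 | h1
  · exact absurd h1 (by exact_mod_cast (Nat.factorial_pos n).ne')
  · rw [Polynomial.coeff_sub] at h1
    linarith

/-- The coefficient of degree `d - 1` is monotone along `I·E ≤ T ≤ S`. -/
theorem coeff_pred_mono (L : X.Modules) (hL : CohB1.IsAmple L) (I : X.IdealSheafData)
    (E : X.Modules) (hE : Coh.IsCoh E) (S T : Subobject E) (hcS : Coh.IsCoh (S : X.Modules))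
    (hcT : Coh.IsCoh (T : X.Modules)) (hTS : T ≤ S)
    (hT : ParSh.twistSub I E ≤ T) (d : ℕ) (hd : 1 ≤ d)
    (hsupp : topologicalKrullDim ↥(CohB1.support E ∩ (I.support : Set X)) < (d : WithBot ℕ∞))
    (P QS QT : ℚ[X]) (hP : ShStab.IsHilbPoly k X L E P)
    (hQS : ShStab.IsHilbPoly k X L (S : X.Modules) QS)
    (hQT : ShStab.IsHilbPoly k X L (T : X.Modules) QT) :
    (Rat.castHom ℝ) (QT.coeff (d - 1)) ≤ (Rat.castHom ℝ) (QS.coeff (d - 1)) := by
  have ax := hilbAx k L hL
  have hHS := ax.hp_coker S.arrow hcS hE hQS hP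
  have hHT := ax.hp_coker T.arrow hcT hE hQT hP
  have okS := ax.ok_coker S.arrow hcS hE
  have okT := ax.ok_coker T.arrow hcT hE
  have hcomp : T.arrow ≫ cokernel.π S.arrow = 0 := by
    rw [← Subobject.ofLE_arrow hTS, Category.assoc, cokernel.condition, Limits.comp_zero]
  let π := cokernel.desc T.arrow (cokernel.π S.arrow) hcomp
  haveI : Epi π := epi_of_epi_fac (cokernel.π_desc _ _ hcomp)
  have hK := ax.hp_ker π okT okS hHT hHS
  have okK := ax.ok_ker π okT okS
  have hlt : topologicalKrullDim (CohB1.support (kernel π)) < (((d - 1) + 1 : ℕ) : WithBot ℕ∞) := by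
    rw [Nat.sub_add_cancel hd]
    exact lt_of_le_of_lt (ax.sdim_mono (kernel.ι π) inferInstance) (sdim_coker_lt I E T hT d hsupp)
  have hle := Groth.Agent.Lib.R2H4Snapper.le_of_lt_succ' _ _ hlt
  have h0 := ax.alpha_nonneg okK hK hle
  unfold StabCat.alpha at h0
  have hf : (0 : ℚ) < ((d - 1).factorial : ℚ) := by exact_mod_cast Nat.factorial_pos (d - 1)
  have h1 : 0 ≤ ((P - QT) - (P - QS)).coeff (d - 1) := (mul_nonneg_iff_of_pos_left hf).1 h0
  simp only [Polynomial.coeff_sub] at h1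
  have h2 : QT.coeff (d - 1) ≤ QS.coeff (d - 1) := by linarith
  rw [eq_ratCast, eq_ratCast]
  exact_mod_cast h2

/-- the Hilbert polynomial of the top piece is that of `E` -/
theorem hilbPoly_top (L : X.Modules) (hL : CohB1.IsAmple L) (E : X.Modules) (hE : Coh.IsCoh E)
    (hcT : Coh.IsCoh ((⊤ : Subobject E) : X.Modules))
    (P Q : ℚ[X]) (hP : ShStab.IsHilbPoly k X L E P)
    (hQ : ShStab.IsHilbPoly k X L ((⊤ : Subobject E) : X.Modules) Q) : Q = P := by
  have ax := hilbAx k L hL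
  have hH := ax.hp_coker (⊤ : Subobject E).arrow hcT hE hQ hP
  have := Groth.Agent.Lib.R2H7.ParHilb.hilbPoly_coker_top k L _ hH
  exact (sub_eq_zero.1 this).symm

end Hilb

end Groth.Agent.Lib.R2H7.ParHilbB
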