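import Mathlib
import Groth.Prelude
import Groth.Agent.Lib.R2H7ParHilb
import Groth.Agent.Lib.R2H7HilbStab
import Groth.Agent.Lib.R2H2PdSheaf

/-!
# Additivity of the parabolic Hilbert function in parabolic extensions

For `0 → F → E → G → 0` and a subobject `S ⊆ E` the sequence `0 → F ∩ S → S → im(S → G) → 0` is
short exact; Euler characteristics of twists are additive, hence so are weighted sums.
-/

universe v u

open CategoryTheory CategoryTheory.Limits AlgebraicGeometry Polynomial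

namespace Groth.Agent.Lib.R2H7.ParHilbC

open Groth.Agent.Lib.R2H7.HilbPoly

section Generic

variable {C : Type u} [Category.{v} C] [Abelian C]

/-- `0 → i⁻¹(S) → S → im(S → G) → 0` is short exact. -/
theorem shortExact_pullback_image {F E G : C} (i : F ⟶ E) (p : E ⟶ G) (w : i ≫ p = 0)
    (hSE : (ShortComplex.mk i p w).ShortExact) (S : Subobject E) :
    ∃ z : Subobject.pullbackπ i S ≫ factorThruImageSubobject (S.arrow ≫ p) = 0,
      (ShortComplex.mk (Subobject.pullbackπ i S) (factorThruImageSubobject (S.arrow ≫ p))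
        z).ShortExact := by
  have hpb := Subobject.isPullback i S
  haveI : Mono i := hSE.mono_f
  have z : Subobject.pullbackπ i S ≫ factorThruImageSubobject (S.arrow ≫ p) = 0 := by
    rw [← cancel_mono (imageSubobject (S.arrow ≫ p)).arrow, Category.assoc,
      imageSubobject_arrow_comp, Limits.zero_comp, ← Category.assoc, hpb.w, Category.assoc, w,
      Limits.comp_zero]
  refine ⟨z, ?_⟩
  haveI : Mono (Subobject.pullbackπ i S) := by
    haveI : Mono (Subobject.pullbackπ i S ≫ S.arrow) := by rw [hpb.w]; infer_instance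
    exact mono_of_mono _ S.arrow
  refine ShortComplex.ShortExact.mk' ?_ ‹_› (by dsimp; infer_instance)
  rw [ShortComplex.exact_iff_exact_up_to_refinements]
  intro A x₂ hx₂
  dsimp at x₂ hx₂ ⊢
  have h1 : (x₂ ≫ S.arrow) ≫ p = 0 := by
    have h2 : (x₂ ≫ factorThruImageSubobject (S.arrow ≫ p)) ≫
        (imageSubobject (S.arrow ≫ p)).arrow = 0 := by rw [hx₂, Limits.zero_comp]
    rw [Category.assoc, imageSubobject_arrow_comp] at h2
    rw [Category.assoc]; exact h2
  have hy : hSE.exact.lift (x₂ ≫ S.arrow) h1 ≫ i = x₂ ≫ S.arrow := hSE.exact.lift_f _ _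
  refine ⟨A, 𝟙 A, inferInstance, hpb.lift x₂ (hSE.exact.lift (x₂ ≫ S.arrow) h1) hy.symm, ?_⟩
  rw [Category.id_comp, hpb.lift_fst]

theorem parSum_eq {E : C} (𝓔 : ParSh.Str E) (f : C → ℝ) :
    𝓔.parSum f = f (𝓔.pieceX (Fin.last (𝓔.l + 1)) : C) +
      ∑ j : Fin (𝓔.l + 1), 𝓔.wt j * (f (𝓔.pieceX j.castSucc : C) - f (𝓔.pieceX j.succ : C)) := by
  unfold ParSh.Str.parSum
  rw [𝓔.pieceX_last]
  congr 1
  apply Finset.sum_congr rfl
  intro j _
  rw [𝓔.pieceX_castSucc]

theorem pieceX_induced {F E : C} (i : F ⟶ E) (𝓔 : ParSh.Str E) (j : Fin (𝓔.l + 2)) :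
    (𝓔.induced i).pieceX j = (Subobject.pullback i).obj (𝓔.pieceX j) := by
  induction j using Fin.lastCases with
  | last =>
    have h1 : (𝓔.induced i).pieceX (Fin.last ((𝓔.induced i).l + 1)) = (𝓔.induced i).bot :=
      (𝓔.induced i).pieceX_last
    rw [𝓔.pieceX_last]; exact h1
  | cast j =>
    have h1 : (𝓔.induced i).pieceX (Fin.castSucc (n := (𝓔.induced i).l + 1) j) =
        (𝓔.induced i).piece j := (𝓔.induced i).pieceX_castSucc j
    rw [𝓔.pieceX_castSucc]; exact h1

theorem pieceX_coinduced {E G : C} (p : E ⟶ G) [Epi p] (𝓔 : ParSh.Str E) (j : Fin (𝓔.l + 2)) :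
    (𝓔.coinduced p).pieceX j = imageSubobject ((𝓔.pieceX j).arrow ≫ p) := by
  induction j using Fin.lastCases with
  | last =>
    have h1 : (𝓔.coinduced p).pieceX (Fin.last ((𝓔.coinduced p).l + 1)) = (𝓔.coinduced p).bot :=
      (𝓔.coinduced p).pieceX_last
    rw [𝓔.pieceX_last]; exact h1
  | cast j =>
    have h1 : (𝓔.coinduced p).pieceX (Fin.castSucc (n := (𝓔.coinduced p).l + 1) j) =
        (𝓔.coinduced p).piece j := (𝓔.coinduced p).pieceX_castSucc j
    rw [𝓔.pieceX_castSucc]; exact h1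

/-- weighted sums are additive as soon as the function is additive on each extended piece -/
theorem parSum_induced_add_coinduced {F E G : C} (i : F ⟶ E) (p : E ⟶ G) [Epi p]
    (𝓔 : ParSh.Str E) (f : C → ℝ)
    (hf : ∀ j : Fin (𝓔.l + 2), f ((Subobject.pullback i).obj (𝓔.pieceX j) : C) +
      f (imageSubobject ((𝓔.pieceX j).arrow ≫ p) : C) = f (𝓔.pieceX j : C)) :
    (𝓔.induced i).parSum f + (𝓔.coinduced p).parSum f = 𝓔.parSum f := by
  have hsum : ∀ j : Fin (𝓔.l + 2), f ((𝓔.induced i).pieceX j : C) +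
      f ((𝓔.coinduced p).pieceX j : C) = f (𝓔.pieceX j : C) := fun j => by
    rw [pieceX_induced, pieceX_coinduced]; exact hf j
  rw [parSum_eq, parSum_eq, parSum_eq]
  change (f ((𝓔.induced i).pieceX (Fin.last (𝓔.l + 1)) : C) +
      ∑ j : Fin (𝓔.l + 1), 𝓔.wt j *
        (f ((𝓔.induced i).pieceX j.castSucc : C) - f ((𝓔.induced i).pieceX j.succ : C))) +
    (f ((𝓔.coinduced p).pieceX (Fin.last (𝓔.l + 1)) : C) +
      ∑ j : Fin (𝓔.l + 1), 𝓔.wt j *
        (f ((𝓔.coinduced p).pieceX j.castSucc : C) - f ((𝓔.coinduced p).pieceX j.succ : C))) = _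
  rw [add_add_add_comm, ← Finset.sum_add_distrib, hsum]
  congr 1
  apply Finset.sum_congr rfl
  intro j _
  rw [← hsum j.castSucc, ← hsum j.succ]; ring

end Generic

section Sch

variable (k : Type u) [Field k] {X : Scheme.{u}} [X.Over (Spec (CommRingCat.of k))]
  [IsProper (X ↘ Spec (CommRingCat.of k))]

/-- Euler characteristics of twists are additive in short exact sequences of coherent modules. -/
theorem euler_twist_add (L : X.Modules) (hL : CohB1.IsAmple L) (S : ShortComplex X.Modules)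
    (hS : S.ShortExact) (c₁ : Coh.IsCoh S.X₁) (c₂ : Coh.IsCoh S.X₂) (c₃ : Coh.IsCoh S.X₃)
    (m : ℕ) :
    (Curv2.euler k X (ShStab.twist X L S.X₁ m) : ℝ) +
      (Curv2.euler k X (ShStab.twist X L S.X₃ m) : ℝ) =
        (Curv2.euler k X (ShStab.twist X L S.X₂ m) : ℝ) := by
  obtain ⟨P₁, h₁⟩ := (hilbAx k L hL).hp_exists c₁
  obtain ⟨P₃, h₃⟩ := (hilbAx k L hL).hp_exists c₃
  have h₂ := isHilbPoly_add k L hL.1 S hS c₁ c₂ c₃ h₁ h₃
  have e : (Curv2.euler k X (ShStab.twist X L S.X₁ m) : ℚ) +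
      (Curv2.euler k X (ShStab.twist X L S.X₃ m) : ℚ) =
      (Curv2.euler k X (ShStab.twist X L S.X₂ m) : ℚ) := by
    rw [h₂ m, h₁ m, h₃ m, Polynomial.eval_add]
  exact_mod_cast e

include k in
/-- the image of a coherent subobject in a coherent quotient is coherent -/
theorem isCoh_imageSubobject {A B : X.Modules} (a : A ⟶ B) (hA : Coh.IsCoh A) (hB : Coh.IsCoh B)
    (L : X.Modules) (hL : CohB1.IsAmple L) :
    Coh.IsCoh ((imageSubobject a : Subobject B) : X.Modules) :=
  Groth.Agent.Lib.R2H2.PdSheaf.isCoh_of_iso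
    (Abelian.imageIsoImage a ≪≫ (imageSubobjectIso a).symm)
    ((hilbAx k L hL).ok_image a hA hB)

theorem euler_twist_pullback_add_image (L : X.Modules) (hL : CohB1.IsAmple L)
    {F E G : X.Modules} (hG : Coh.IsCoh G) (i : F ⟶ E) (p : E ⟶ G) (w : i ≫ p = 0)
    (hSE : (ShortComplex.mk i p w).ShortExact) (S : Subobject E)
    (hS : Coh.IsCoh (S : X.Modules)) (m : ℕ) :
    (Curv2.euler k X (ShStab.twist X L ((Subobject.pullback i).obj S : X.Modules) m) : ℝ) +
      (Curv2.euler k X (ShStab.twist X L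
        ((imageSubobject (S.arrow ≫ p) : Subobject G) : X.Modules) m) : ℝ) =
      (Curv2.euler k X (ShStab.twist X L (S : X.Modules) m) : ℝ) := by
  haveI := Groth.Agent.Lib.R2H1.CurveEuler.isNoetherian_of_proper k X
  obtain ⟨z, hT⟩ := shortExact_pullback_image i p w hSE S
  have c₃ : Coh.IsCoh ((imageSubobject (S.arrow ≫ p) : Subobject G) : X.Modules) :=
    isCoh_imageSubobject k (S.arrow ≫ p) hS hG L hL
  have c₁ : Coh.IsCoh ((Subobject.pullback i).obj S : X.Modules) :=
    Groth.Agent.Lib.R2H2.PdSheaf.isCoh_X₁ _ hT hS c₃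
  exact euler_twist_add k L hL _ hT c₁ hS c₃ m

/-- **additivity of the parabolic Hilbert function in parabolic extensions** -/
theorem parHilb_add (L : X.Modules) (hL : CohB1.IsAmple L) {F E G : X.Modules}
    (hG : Coh.IsCoh G) (i : F ⟶ E) (p : E ⟶ G) [Epi p] (w : i ≫ p = 0)
    (hSE : (ShortComplex.mk i p w).ShortExact) (𝓔 : ParSh.Str E)
    (hcoh : ∀ j, Coh.IsCoh ((𝓔.pieceX j : Subobject E) : X.Modules)) (m : ℕ) :
    (𝓔.induced i).parHilb k X L m + (𝓔.coinduced p).parHilb k X L m = 𝓔.parHilb k X L m := by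
  unfold ParSh.Str.parHilb
  exact parSum_induced_add_coinduced i p 𝓔 _
    (fun j => euler_twist_pullback_add_image k L hL hG i p w hSE (𝓔.pieceX j) (hcoh j) m)

end Sch

end Groth.Agent.Lib.R2H7.ParHilbC
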