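import Mathlib
import Groth.Prelude
import Groth.Agent.Lib.R2H7ParHilbB
import Groth.Agent.Lib.R2H7ParHilbC

/-!
# Induced filtrations on a submodule: coefficients of the (modified) parabolic Hilbert polynomials
-/

universe u

open CategoryTheory CategoryTheory.Limits AlgebraicGeometry Polynomial

namespace Groth.Agent.Lib.R2H7.ParHilbD

open Groth.Agent.Lib.R2H7.HilbPoly Groth.Agent.Lib.R2H7.ParHilbB Groth.Agent.Lib.R2H7.ParHilbC

section Real

/-- a real polynomial of degree at most `e` with positive coefficient in degree `e` is eventually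
positive on the natural numbers -/
theorem exists_forall_eval_pos {R : ℝ[X]} {e : ℕ} (hdeg : R.natDegree ≤ e)
    (hpos : 0 < R.coeff e) : ∃ M : ℕ, ∀ m : ℕ, M ≤ m → 0 < R.eval (m : ℝ) := by
  have hne : R.coeff e ≠ 0 := hpos.ne'
  have hnat : R.natDegree = e := le_antisymm hdeg (Polynomial.le_natDegree_of_ne_zero hne)
  have hlc : 0 < R.leadingCoeff := by rw [Polynomial.leadingCoeff, hnat]; exact hpos
  rcases Nat.eq_zero_or_pos e with he | he
  · refine ⟨0, fun m _ => ?_⟩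
    have h1 : R = Polynomial.C (R.coeff 0) :=
      Polynomial.eq_C_of_natDegree_eq_zero (by rw [hnat, he])
    rw [h1, Polynomial.eval_C]; rw [he] at hpos; exact hpos
  · have hR0 : R ≠ 0 := by rintro rfl; simp at hne
    have hdeg' : 0 < R.degree := by
      rw [Polynomial.degree_eq_natDegree hR0, hnat]; exact_mod_cast he
    have ht := (Polynomial.tendsto_atTop_of_leadingCoeff_nonneg R hdeg' hlc.le).comp
      tendsto_natCast_atTop_atTop
    have hev := ht.eventually (Filter.eventually_gt_atTop 0)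
    obtain ⟨M, hM⟩ := Filter.eventually_atTop.1 hev
    exact ⟨M, fun m hm => hM m hm⟩

/-- comparison of two real polynomials of degree `≤ d` whose cross-multiplied leading terms cancel -/
theorem cross_compare (A B : ℝ[X]) (a b : ℝ) (d : ℕ) (hd : 1 ≤ d)
    (hzero : ∀ n, d ≤ n → b * B.coeff n - a * A.coeff n = 0) :
    ((∃ M : ℕ, ∀ m : ℕ, M ≤ m → A.eval (m : ℝ) * a ≤ B.eval (m : ℝ) * b) →
        A.coeff (d - 1) * a ≤ B.coeff (d - 1) * b) ∧
      (A.coeff (d - 1) * a < B.coeff (d - 1) * b →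
        ∃ M : ℕ, ∀ m : ℕ, M ≤ m → A.eval (m : ℝ) * a < B.eval (m : ℝ) * b) := by
  set R : ℝ[X] := Polynomial.C b * B - Polynomial.C a * A with hR
  have hcoeff : ∀ n, R.coeff n = b * B.coeff n - a * A.coeff n := fun n => by
    rw [hR, Polynomial.coeff_sub, Polynomial.coeff_C_mul, Polynomial.coeff_C_mul]
  have heval : ∀ x : ℝ, R.eval x = B.eval x * b - A.eval x * a := fun x => by
    rw [hR, Polynomial.eval_sub, Polynomial.eval_mul, Polynomial.eval_mul, Polynomial.eval_C,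
      Polynomial.eval_C]; ring
  have hdeg : R.natDegree ≤ d - 1 := by
    rw [Polynomial.natDegree_le_iff_coeff_eq_zero]
    intro N hN
    rw [hcoeff]; exact hzero N (by omega)
  have hdegn : (-R).natDegree ≤ d - 1 := by rw [Polynomial.natDegree_neg]; exact hdeg
  constructor
  · rintro ⟨M, hM⟩
    by_contra hcon
    have hneg : 0 < (-R).coeff (d - 1) := by
      rw [Polynomial.coeff_neg, hcoeff]; linarith [not_le.1 hcon]
    obtain ⟨M', hM'⟩ := exists_forall_eval_pos hdegn hneg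
    have h1 := hM (max M M') (le_max_left _ _)
    have h2 := hM' (max M M') (le_max_right _ _)
    rw [Polynomial.eval_neg, heval] at h2
    linarith
  · intro hlt
    have hpos : 0 < R.coeff (d - 1) := by rw [hcoeff]; linarith
    obtain ⟨M, hM⟩ := exists_forall_eval_pos hdeg hpos
    refine ⟨M, fun m hm => ?_⟩
    have h1 := hM m hm
    rw [heval] at h1
    linarith

end Real

section Supp

variable {X : Scheme.{u}}

/-- `W / (W ∩ S)` embeds into `E / S`, hence has smaller support. -/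
theorem sdim_coker_pullback_le {W E : X.Modules} (ι : W ⟶ E) (S : Subobject E) :
    topologicalKrullDim (CohB1.support (cokernel ((Subobject.pullback ι).obj S).arrow)) ≤
      topologicalKrullDim (CohB1.support (cokernel S.arrow)) := by
  have sq := (Subobject.isPullback ι S).flip
  haveI := Abelian.mono_cokernel_map_of_isPullback sq
  exact sdim_le_of_subset
    (Groth.Agent.Lib.R2H2.DevA.support_subset_of_mono (cokernel.map _ _ _ _ sq.w))

end Supp

section Hilb

variable (k : Type u) [Field k] {X : Scheme.{u}} [X.Over (Spec (CommRingCat.of k))]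
  [IsProper (X ↘ Spec (CommRingCat.of k))]

/-- Hilbert polynomials of `E` and `S ⊆ E` agree in degrees `≥ d > dim Supp (E / S)`. -/
theorem coeff_eq_of_sdim_lt (L : X.Modules) (hL : CohB1.IsAmple L)
    {E : X.Modules} (hE : Coh.IsCoh E) (S : Subobject E) (hcS : Coh.IsCoh (S : X.Modules))
    (d : ℕ)
    (hlt : topologicalKrullDim (CohB1.support (cokernel S.arrow)) < (d : WithBot ℕ∞))
    (P Q : ℚ[X]) (hP : ShStab.IsHilbPoly k X L E P)
    (hQ : ShStab.IsHilbPoly k X L (S : X.Modules) Q) (n : ℕ) (hn : d ≤ n) :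
    Q.coeff n = P.coeff n := by
  have ax := hilbAx k L hL
  have hH := ax.hp_coker S.arrow hcS hE hQ hP
  have hlt' : topologicalKrullDim (CohB1.support (cokernel S.arrow)) < (n : WithBot ℕ∞) :=
    lt_of_lt_of_le hlt (by exact_mod_cast hn)
  have h0 := ax.alpha_eq_zero (ax.ok_coker S.arrow hcS hE) hH hlt'
  unfold StabCat.alpha at h0
  rcases mul_eq_zero.1 h0 with h1 | h1
  · exact absurd h1 (by exact_mod_cast (Nat.factorial_pos n).ne')
  · rw [Polynomial.coeff_sub] at h1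
    linarith

/-- the Hilbert polynomial of a quotient with small support vanishes in high degrees -/
theorem coeff_quot_eq_zero (L : X.Modules) (hL : CohB1.IsAmple L)
    {M : X.Modules} (hM : Coh.IsCoh M) (d : ℕ)
    (hlt : topologicalKrullDim (CohB1.support M) < (d : WithBot ℕ∞))
    (H : ℚ[X]) (hH : ShStab.IsHilbPoly k X L M H) (n : ℕ) (hn : d ≤ n) : H.coeff n = 0 := by
  have ax := hilbAx k L hL
  have hlt' : topologicalKrullDim (CohB1.support M) < (n : WithBot ℕ∞) :=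
    lt_of_lt_of_le hlt (by exact_mod_cast hn)
  have h0 := ax.alpha_eq_zero hM hH hlt'
  unfold StabCat.alpha at h0
  rcases mul_eq_zero.1 h0 with h1 | h1
  · exact absurd h1 (by exact_mod_cast (Nat.factorial_pos n).ne')
  · exact h1

include k in
/-- preimages of coherent subobjects under a monomorphism of coherent modules are coherent -/
theorem isCoh_pullback (L : X.Modules) (hL : CohB1.IsAmple L) {W E : X.Modules} (ι : W ⟶ E)
    [Mono ι] (hW : Coh.IsCoh W) (hE : Coh.IsCoh E) (S : Subobject E)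
    (hS : Coh.IsCoh (S : X.Modules)) :
    Coh.IsCoh ((Subobject.pullback ι).obj S : X.Modules) := by
  haveI := Groth.Agent.Lib.R2H1.CurveEuler.isNoetherian_of_proper k X
  have hSE : (ShortComplex.mk ι (cokernel.π ι) (cokernel.condition ι)).ShortExact :=
    ShortComplex.ShortExact.mk' (ShortComplex.exact_cokernel ι) ‹Mono ι› inferInstance
  obtain ⟨z, hT⟩ := shortExact_pullback_image ι (cokernel.π ι) (cokernel.condition ι) hSE S
  have hG : Coh.IsCoh (cokernel ι) := Groth.Agent.Lib.R2H2.NilFilt.isCoh_cokernel hW hE ι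
  have c₃ := isCoh_imageSubobject k (S.arrow ≫ cokernel.π ι) hS hG L hL
  exact Groth.Agent.Lib.R2H2.PdSheaf.isCoh_X₁ _ hT hS c₃

end Hilb

theorem coeff_parPolyOne {C : Type*} [Category C] {E : C} (𝓔 : ParSh.Str E) (d : ℕ) (Q : ℚ[X])
    (QH H : Fin (𝓔.l + 2) → ℚ[X]) (n : ℕ) :
    (W4swparbununimod.parPolyOne 𝓔 d Q QH H).coeff n =
      (Rat.castHom ℝ) (Q.coeff n) -
        ∑ j : Fin (𝓔.l + 1), ((𝓔.wtX j.succ - 𝓔.wtX j.castSucc) *
          ((StabCat.alpha (d - 1) (QH j.succ) / StabCat.alpha (d - 1) (H j.succ) : ℚ) : ℝ)) *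
            (Rat.castHom ℝ) ((H j.succ).coeff n) := by
  unfold W4swparbununimod.parPolyOne
  simp only [W4swparbununimod.rpoly, Polynomial.coeff_sub, Polynomial.finsetSum_coeff,
    Polynomial.coeff_C_mul, Polynomial.coeff_map]

section Main

variable (k : Type u) [Field k] {X : Scheme.{u}} [X.Over (Spec (CommRingCat.of k))]
  [IsProper (X ↘ Spec (CommRingCat.of k))]

include k in
/-- common facts on the filtration induced on a coherent submodule -/
theorem induced_facts (L : X.Modules) (hL : CohB1.IsAmple L) (I : X.IdealSheafData)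
    (E : X.Modules) (hE : Coh.IsCoh E) (𝓔 : ParSh.Str E) (h𝓔 : 𝓔.Along I)
    (hcoh : ∀ j, Coh.IsCoh ((𝓔.pieceX j : Subobject E) : X.Modules)) (d : ℕ)
    (hsupp : topologicalKrullDim ↥(CohB1.support E ∩ (I.support : Set X)) < (d : WithBot ℕ∞))
    {W : X.Modules} (ι : W ⟶ E) [Mono ι] (hW : Coh.IsCoh W) :
    (∀ j : Fin (𝓔.l + 2), topologicalKrullDim (CohB1.support (cokernel (𝓔.pieceX j).arrow)) <
        (d : WithBot ℕ∞)) ∧
      (∀ j : Fin (𝓔.l + 2),
        topologicalKrullDim (CohB1.support (cokernel ((𝓔.induced ι).pieceX j).arrow)) <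
          (d : WithBot ℕ∞)) ∧
      (∀ j : Fin (𝓔.l + 2), Coh.IsCoh (((𝓔.induced ι).pieceX j : Subobject W) : X.Modules)) := by
  have hbot : ∀ j, ParSh.twistSub I E ≤ 𝓔.pieceX j := fun j => by
    have := 𝓔.bot_le_pieceX j; rwa [show 𝓔.bot = ParSh.twistSub I E from h𝓔] at this
  have hI : ∀ j : Fin (𝓔.l + 2), (𝓔.induced ι).pieceX j = (Subobject.pullback ι).obj (𝓔.pieceX j) :=
    pieceX_induced ι 𝓔
  have hltE : ∀ j : Fin (𝓔.l + 2),
      topologicalKrullDim (CohB1.support (cokernel (𝓔.pieceX j).arrow)) < (d : WithBot ℕ∞) :=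
    fun j => sdim_coker_lt I E _ (hbot j) d hsupp
  refine ⟨hltE, fun j => ?_, fun j => ?_⟩
  · rw [hI j]; exact lt_of_le_of_lt (sdim_coker_pullback_le ι _) (hltE j)
  · rw [hI j]; exact isCoh_pullback k L hL ι hW hE _ (hcoh j)

theorem s18528 (L : X.Modules) (hL : CohB1.IsAmple L) (I : X.IdealSheafData)
    (E : X.Modules) (hE : Coh.IsCoh E) (h0 : ¬ IsZero E) (d : ℕ) (hd : 1 ≤ d)
    (hpure : ShStab.IsPure X E d) (𝓔 : ParSh.Str E) (h𝓔 : 𝓔.Along I)
    (hcoh : ∀ j, Coh.IsCoh ((𝓔.pieceX j : Subobject E) : X.Modules))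
    (hsupp : topologicalKrullDim ↥(CohB1.support E ∩ (I.support : Set X)) < (d : WithBot ℕ∞))
    (P : ℚ[X]) (hP : ShStab.IsHilbPoly k X L E P) (PX : Fin (𝓔.l + 2) → ℚ[X])
    (hPX : ∀ j, ShStab.IsHilbPoly k X L ((𝓔.pieceX j : Subobject E) : X.Modules) (PX j))
    {W : X.Modules} (ι : W ⟶ E) [Mono ι] (hW : Coh.IsCoh W)
    (Q : ℚ[X]) (hQ : ShStab.IsHilbPoly k X L W Q) (QX : Fin (𝓔.l + 2) → ℚ[X])
    (hQX : ∀ j, ShStab.IsHilbPoly k X L (((𝓔.induced ι).pieceX j : Subobject W) : X.Modules) (QX j)) :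
    ((∃ M : ℕ, ∀ m : ℕ, M ≤ m →
        (W4swparbununimod.parPoly (𝓔.induced ι) QX).eval (m : ℝ) * (StabCat.alpha d P : ℝ) ≤
          (W4swparbununimod.parPoly 𝓔 PX).eval (m : ℝ) * (StabCat.alpha d Q : ℝ)) →
      (W4swparbununimod.parPoly (𝓔.induced ι) QX).coeff (d - 1) * (StabCat.alpha d P : ℝ) ≤
        (W4swparbununimod.parPoly 𝓔 PX).coeff (d - 1) * (StabCat.alpha d Q : ℝ)) ∧
    ((W4swparbununimod.parPoly (𝓔.induced ι) QX).coeff (d - 1) * (StabCat.alpha d P : ℝ) <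
        (W4swparbununimod.parPoly 𝓔 PX).coeff (d - 1) * (StabCat.alpha d Q : ℝ) →
      ∃ M : ℕ, ∀ m : ℕ, M ≤ m →
        (W4swparbununimod.parPoly (𝓔.induced ι) QX).eval (m : ℝ) * (StabCat.alpha d P : ℝ) <
          (W4swparbununimod.parPoly 𝓔 PX).eval (m : ℝ) * (StabCat.alpha d Q : ℝ)) := by
  obtain ⟨hltE, hltW, cW⟩ := induced_facts k L hL I E hE 𝓔 h𝓔 hcoh d hsupp ι hW
  have ax := hilbAx k L hL
  have hsE : topologicalKrullDim (CohB1.support E) = (d : WithBot ℕ∞) :=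
    hpure E (𝟙 E) inferInstance hE h0
  have hsW : topologicalKrullDim (CohB1.support W) ≤ (d : WithBot ℕ∞) :=
    (ax.sdim_mono ι inferInstance).trans hsE.le
  have hdP : P.natDegree ≤ d := ax.deg_le d hE hP hsE.le
  have hdQ : Q.natDegree ≤ d := ax.deg_le d hW hQ hsW
  have hexpW : ∀ n, (W4swparbununimod.parPoly (𝓔.induced ι) QX).coeff n =
      (Rat.castHom ℝ) ((QX (Fin.last (𝓔.l + 1))).coeff n) +
        ∑ j : Fin (𝓔.l + 1), 𝓔.wt j *
          ((Rat.castHom ℝ) ((QX j.castSucc).coeff n) - (Rat.castHom ℝ) ((QX j.succ).coeff n)) :=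
    fun n => coeff_parPoly (𝓔.induced ι) QX n
  have hA : ∀ n, d ≤ n → (W4swparbununimod.parPoly (𝓔.induced ι) QX).coeff n =
      (Rat.castHom ℝ) (Q.coeff n) := by
    intro n hn
    have key : ∀ j : Fin (𝓔.l + 2), (QX j).coeff n = Q.coeff n := fun j =>
      coeff_eq_of_sdim_lt k L hL hW _ (cW j) d (hltW j) Q (QX j) hQ (hQX j) n hn
    rw [hexpW]
    simp only [key, sub_self, mul_zero, Finset.sum_const_zero, add_zero]
  have hB : ∀ n, d ≤ n → (W4swparbununimod.parPoly 𝓔 PX).coeff n =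
      (Rat.castHom ℝ) (P.coeff n) := by
    intro n hn
    have key : ∀ j : Fin (𝓔.l + 2), (PX j).coeff n = P.coeff n := fun j =>
      coeff_eq_of_sdim_lt k L hL hE _ (hcoh j) d (hltE j) P (PX j) hP (hPX j) n hn
    rw [coeff_parPoly]
    simp only [key, sub_self, mul_zero, Finset.sum_const_zero, add_zero]
  refine cross_compare (W4swparbununimod.parPoly (𝓔.induced ι) QX)
    (W4swparbununimod.parPoly 𝓔 PX) (StabCat.alpha d P : ℝ) (StabCat.alpha d Q : ℝ) d hd ?_
  intro n hn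
  rw [hA n hn, hB n hn]
  rcases hn.eq_or_lt with rfl | hlt
  · unfold StabCat.alpha
    simp only [eq_ratCast]
    push_cast
    ring
  · rw [Polynomial.coeff_eq_zero_of_natDegree_lt (lt_of_le_of_lt hdP hlt),
      Polynomial.coeff_eq_zero_of_natDegree_lt (lt_of_le_of_lt hdQ hlt)]
    simp

theorem s18530 (L : X.Modules) (hL : CohB1.IsAmple L) (I : X.IdealSheafData)
    (E : X.Modules) (hE : Coh.IsCoh E) (𝓔 : ParSh.Str E) (h𝓔 : 𝓔.Along I)
    (hcoh : ∀ j, Coh.IsCoh ((𝓔.pieceX j : Subobject E) : X.Modules)) (d : ℕ) (hd : 1 ≤ d)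
    (hsupp : topologicalKrullDim ↥(CohB1.support E ∩ (I.support : Set X)) < (d : WithBot ℕ∞))
    (H : Fin (𝓔.l + 2) → ℚ[X]) (hH : ∀ j, ShStab.IsHilbPoly k X L (cokernel (𝓔.pieceX j).arrow) (H j))
    (hHa : ∀ j : Fin (𝓔.l + 1), StabCat.alpha (d - 1) (H j.succ) ≠ 0)
    {W : X.Modules} (ι : W ⟶ E) [Mono ι] (hW : Coh.IsCoh W)
    (Q : ℚ[X]) (hQ : ShStab.IsHilbPoly k X L W Q) (QX : Fin (𝓔.l + 2) → ℚ[X])
    (hQX : ∀ j, ShStab.IsHilbPoly k X L (((𝓔.induced ι).pieceX j : Subobject W) : X.Modules) (QX j))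
    (QH : Fin (𝓔.l + 2) → ℚ[X])
    (hQH : ∀ j, ShStab.IsHilbPoly k X L (cokernel ((𝓔.induced ι).pieceX j).arrow) (QH j)) :
    (W4swparbununimod.parPolyOne 𝓔 d Q QH H).coeff d = (W4swparbununimod.parPoly (𝓔.induced ι) QX).coeff d ∧
      (W4swparbununimod.parPolyOne 𝓔 d Q QH H).coeff (d - 1) =
        (W4swparbununimod.parPoly (𝓔.induced ι) QX).coeff (d - 1) := by
  obtain ⟨hltE, hltW, cW⟩ := induced_facts k L hL I E hE 𝓔 h𝓔 hcoh d hsupp ι hW
  have ax := hilbAx k L hL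
  have okQ : ∀ j : Fin (𝓔.l + 2), Coh.IsCoh (cokernel ((𝓔.induced ι).pieceX j).arrow) :=
    fun j => ax.ok_coker _ (cW j) hW
  have okH : ∀ j : Fin (𝓔.l + 2), Coh.IsCoh (cokernel (𝓔.pieceX j).arrow) :=
    fun j => ax.ok_coker _ (hcoh j) hE
  have hsplit : ∀ j : Fin (𝓔.l + 2), Q = QX j + QH j := fun j => by
    obtain ⟨Q', hQ', e⟩ := Groth.Agent.Lib.R2H7.ParHilb.exists_hilbPoly_sub k L hL hW _ (cW j) Q
      (QH j) hQ (hQH j)
    rw [isHilbPoly_unique k L (hQX j) hQ']; exact e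
  have hQH0 : QH 0 = 0 := by
    have e0 : (𝓔.induced ι).pieceX (0 : Fin (𝓔.l + 2)) = ⊤ := pieceX_zero (𝓔.induced ι)
    have h1 : ShStab.IsHilbPoly k X L
        (cokernel ((𝓔.induced ι).pieceX (0 : Fin (𝓔.l + 2))).arrow) (QH 0) := hQH 0
    rw [e0] at h1
    exact Groth.Agent.Lib.R2H7.ParHilb.hilbPoly_coker_top k L _ h1
  have hd0 : ∀ j : Fin (𝓔.l + 2), (QH j).coeff d = 0 := fun j =>
    coeff_quot_eq_zero k L hL (okQ j) d (hltW j) _ (hQH j) d le_rfl
  have hH0 : ∀ j : Fin (𝓔.l + 2), (H j).coeff d = 0 := fun j =>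
    coeff_quot_eq_zero k L hL (okH j) d (hltE j) _ (hH j) d le_rfl
  have hqx : ∀ (j : Fin (𝓔.l + 2)) (n : ℕ), (QX j).coeff n = Q.coeff n - (QH j).coeff n := by
    intro j n
    have := congrArg (fun R : ℚ[X] => R.coeff n) (hsplit j)
    simp only [Polynomial.coeff_add] at this
    linarith
  have hexpW : ∀ n, (W4swparbununimod.parPoly (𝓔.induced ι) QX).coeff n =
      (Rat.castHom ℝ) ((QX (Fin.last (𝓔.l + 1))).coeff n) +
        ∑ j : Fin (𝓔.l + 1), 𝓔.wt j *
          ((Rat.castHom ℝ) ((QX j.castSucc).coeff n) - (Rat.castHom ℝ) ((QX j.succ).coeff n)) :=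
    fun n => coeff_parPoly (𝓔.induced ι) QX n
  constructor
  · rw [coeff_parPolyOne, hexpW]
    simp only [hH0, hqx, hd0, map_zero, mul_zero, Finset.sum_const_zero, sub_zero, sub_self,
      add_zero]
  · rw [coeff_parPolyOne, hexpW]
    have hterm : ∀ j : Fin (𝓔.l + 1), ((𝓔.wtX j.succ - 𝓔.wtX j.castSucc) *
        ((StabCat.alpha (d - 1) (QH j.succ) / StabCat.alpha (d - 1) (H j.succ) : ℚ) : ℝ)) *
          (Rat.castHom ℝ) ((H j.succ).coeff (d - 1)) =
        (𝓔.wtX j.succ - 𝓔.wtX j.castSucc) * (Rat.castHom ℝ) ((QH j.succ).coeff (d - 1)) := by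
      intro j
      have hh : (H j.succ).coeff (d - 1) ≠ 0 := by
        intro h0; apply hHa j; unfold StabCat.alpha; rw [h0, mul_zero]
      have hf : ((d - 1).factorial : ℚ) ≠ 0 := by
        exact_mod_cast (Nat.factorial_pos (d - 1)).ne'
      have hq : (StabCat.alpha (d - 1) (QH j.succ) / StabCat.alpha (d - 1) (H j.succ)) *
          (H j.succ).coeff (d - 1) = (QH j.succ).coeff (d - 1) := by
        unfold StabCat.alpha; field_simp
      rw [mul_assoc]; congr 1
      rw [eq_ratCast, eq_ratCast]; exact_mod_cast hq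
    simp only [hterm, hqx, map_sub]
    have hab := Groth.Agent.Lib.R2H7.ParHilb.abel_sum 𝓔.l 𝓔.wtX
      (fun j => (Rat.castHom ℝ) ((QH j).coeff (d - 1))) ((Rat.castHom ℝ) (Q.coeff (d - 1)))
      (by simp [hQH0]) 𝓔.wtX_last
    simp only [ParSh.Str.wtX_castSucc] at hab ⊢
    exact hab.symm

end Main

end Groth.Agent.Lib.R2H7.ParHilbD
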