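import Mathlib
import Groth.Prelude
import Groth.Agent.Lib.R2H7ParHilbD

/-!
# The second modified parabolic Hilbert polynomial versus the first (limits in the second variable)
-/

universe u

open CategoryTheory CategoryTheory.Limits AlgebraicGeometry Polynomial Filter Topology

namespace Groth.Agent.Lib.R2H7.ParHilbE

open Groth.Agent.Lib.R2H7.HilbPoly Groth.Agent.Lib.R2H7.ParHilbB Groth.Agent.Lib.R2H7.ParHilbC
  Groth.Agent.Lib.R2H7.ParHilbD

section Real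

/-- `P(x) / x^d → coeff_d P` for a real polynomial of degree at most `d`. -/
theorem tendsto_eval_div_pow (P : ℝ[X]) (d : ℕ) (h : P.natDegree ≤ d) :
    Tendsto (fun x : ℝ => P.eval x / x ^ d) atTop (𝓝 (P.coeff d)) := by
  by_cases hP : P = 0
  · subst hP; simp
  rcases h.eq_or_lt with heq | hlt
  · have hdeg : P.degree = (X ^ d : ℝ[X]).degree := by
      rw [Polynomial.degree_X_pow, Polynomial.degree_eq_natDegree hP, heq]
    have h1 := Polynomial.div_tendsto_atTop_leadingCoeff_div_of_degree_eq P (X ^ d) hdeg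
    simp only [Polynomial.eval_pow, Polynomial.eval_X, Polynomial.leadingCoeff_X_pow,
      div_one] at h1
    rw [Polynomial.leadingCoeff, heq] at h1
    exact h1
  · have hdeg : P.degree < (X ^ d : ℝ[X]).degree := by
      rw [Polynomial.degree_X_pow]
      exact lt_of_le_of_lt Polynomial.degree_le_natDegree (by exact_mod_cast hlt)
    have h1 := Polynomial.div_tendsto_atTop_zero_of_degree_lt P (X ^ d) hdeg
    simp only [Polynomial.eval_pow, Polynomial.eval_X] at h1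
    rw [Polynomial.coeff_eq_zero_of_natDegree_lt hlt]
    exact h1

theorem cast_eval (P : ℚ[X]) (n : ℕ) :
    ((P.eval (n : ℚ) : ℚ) : ℝ) = (P.map (Rat.castHom ℝ)).eval (n : ℝ) := by
  rw [Polynomial.eval_natCast_map, eq_ratCast]

/-- `P(n) / n^d → coeff_d P` along the natural numbers, for a rational polynomial. -/
theorem tendsto_rat_eval_div_pow (P : ℚ[X]) (d : ℕ) (h : P.natDegree ≤ d) :
    Tendsto (fun n : ℕ => ((P.eval (n : ℚ) : ℚ) : ℝ) / (n : ℝ) ^ d) atTop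
      (𝓝 ((P.coeff d : ℚ) : ℝ)) := by
  have h1 := (tendsto_eval_div_pow (P.map (Rat.castHom ℝ)) d
    (le_trans (Polynomial.natDegree_map_le) h)).comp tendsto_natCast_atTop_atTop
  rw [Polynomial.coeff_map, eq_ratCast] at h1
  refine h1.congr fun n => ?_
  simp only [Function.comp_apply, cast_eval]

/-- `K(n) / H(n) → α_e(K) / α_e(H)` when both have degree at most `e` and `α_e(H) ≠ 0`. -/
theorem tendsto_ratio (K H : ℚ[X]) (e : ℕ) (hK : K.natDegree ≤ e) (hH : H.natDegree ≤ e)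
    (hne : H.coeff e ≠ 0) :
    Tendsto (fun n : ℕ => ((K.eval (n : ℚ) / H.eval (n : ℚ) : ℚ) : ℝ)) atTop
      (𝓝 ((StabCat.alpha e K / StabCat.alpha e H : ℚ) : ℝ)) := by
  have hne' : ((H.coeff e : ℚ) : ℝ) ≠ 0 := by exact_mod_cast hne
  have h1 := (tendsto_rat_eval_div_pow K e hK).div (tendsto_rat_eval_div_pow H e hH) hne'
  have hlim : ((K.coeff e : ℚ) : ℝ) / ((H.coeff e : ℚ) : ℝ) =
      ((StabCat.alpha e K / StabCat.alpha e H : ℚ) : ℝ) := by
    unfold StabCat.alpha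
    have hf : ((e.factorial : ℚ) : ℝ) ≠ 0 := by exact_mod_cast (Nat.factorial_pos e).ne'
    push_cast
    field_simp
  rw [hlim] at h1
  refine h1.congr' ?_
  filter_upwards [eventually_ge_atTop 1] with n hn
  have hn0 : ((n : ℝ) ^ e) ≠ 0 := pow_ne_zero _ (by exact_mod_cast (by omega : n ≠ 0))
  simp only [Pi.div_apply]
  rw [div_div_div_cancel_right₀ hn0, Rat.cast_div]

end Real

section Main

variable (k : Type u) [Field k] {X : Scheme.{u}} [X.Over (Spec (CommRingCat.of k))]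
  [IsProper (X ↘ Spec (CommRingCat.of k))]

theorem s18532 (L : X.Modules) (hL : CohB1.IsAmple L) (I : X.IdealSheafData)
    (E : X.Modules) (hE : Coh.IsCoh E) (𝓔 : ParSh.Str E) (h𝓔 : 𝓔.Along I)
    (hcoh : ∀ j, Coh.IsCoh ((𝓔.pieceX j : Subobject E) : X.Modules)) (d : ℕ) (hd : 1 ≤ d)
    (hsupp : topologicalKrullDim ↥(CohB1.support E ∩ (I.support : Set X)) < (d : WithBot ℕ∞))
    (h0 : ¬ IsZero E) (hpure : ShStab.IsPure X E d)
    (P : ℚ[X]) (hP : ShStab.IsHilbPoly k X L E P) (PX : Fin (𝓔.l + 2) → ℚ[X])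
    (H : Fin (𝓔.l + 2) → ℚ[X]) (hH : ∀ j, ShStab.IsHilbPoly k X L (cokernel (𝓔.pieceX j).arrow) (H j))
    (hHa : ∀ j : Fin (𝓔.l + 1), StabCat.alpha (d - 1) (H j.succ) ≠ 0)
    {W : X.Modules} (ι : W ⟶ E) [Mono ι] (hW : Coh.IsCoh W)
    (Q : ℚ[X]) (hQ : ShStab.IsHilbPoly k X L W Q) (QH : Fin (𝓔.l + 2) → ℚ[X])
    (hQH : ∀ j, ShStab.IsHilbPoly k X L (cokernel ((𝓔.induced ι).pieceX j).arrow) (QH j)) :
    ((∃ M : ℕ, ∀ m : ℕ, M ≤ m → ∃ N : ℕ, ∀ n : ℕ, N ≤ n →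
        (((Q.eval (m : ℚ) : ℚ) : ℝ) -
            ∑ j : Fin (𝓔.l + 1), (𝓔.wtX j.succ - 𝓔.wtX j.castSucc) *
              ((((QH j.succ).eval (n : ℚ) / (H j.succ).eval (n : ℚ) : ℚ) : ℝ) * (((H j.succ).eval (m : ℚ) : ℚ) : ℝ))) *
          ((P.eval (n : ℚ) : ℚ) : ℝ) ≤
        (W4swparbununimod.parPoly 𝓔 PX).eval (m : ℝ) * ((Q.eval (n : ℚ) : ℚ) : ℝ)) →
      ∃ M : ℕ, ∀ m : ℕ, M ≤ m →
        (W4swparbununimod.parPolyOne 𝓔 d Q QH H).eval (m : ℝ) * (StabCat.alpha d P : ℝ) ≤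
          (W4swparbununimod.parPoly 𝓔 PX).eval (m : ℝ) * (StabCat.alpha d Q : ℝ)) ∧
    ((∃ M : ℕ, ∀ m : ℕ, M ≤ m →
        (W4swparbununimod.parPolyOne 𝓔 d Q QH H).eval (m : ℝ) * (StabCat.alpha d P : ℝ) <
          (W4swparbununimod.parPoly 𝓔 PX).eval (m : ℝ) * (StabCat.alpha d Q : ℝ)) →
      ∃ M : ℕ, ∀ m : ℕ, M ≤ m → ∃ N : ℕ, ∀ n : ℕ, N ≤ n →
        (((Q.eval (m : ℚ) : ℚ) : ℝ) -
            ∑ j : Fin (𝓔.l + 1), (𝓔.wtX j.succ - 𝓔.wtX j.castSucc) *
              ((((QH j.succ).eval (n : ℚ) / (H j.succ).eval (n : ℚ) : ℚ) : ℝ) * (((H j.succ).eval (m : ℚ) : ℚ) : ℝ))) *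
          ((P.eval (n : ℚ) : ℚ) : ℝ) <
        (W4swparbununimod.parPoly 𝓔 PX).eval (m : ℝ) * ((Q.eval (n : ℚ) : ℚ) : ℝ)) := by
  obtain ⟨hltE, hltW, cW⟩ := induced_facts k L hL I E hE 𝓔 h𝓔 hcoh d hsupp ι hW
  have ax := hilbAx k L hL
  have hsE : topologicalKrullDim (CohB1.support E) = (d : WithBot ℕ∞) :=
    hpure E (𝟙 E) inferInstance hE h0
  have hsW : topologicalKrullDim (CohB1.support W) ≤ (d : WithBot ℕ∞) :=
    (ax.sdim_mono ι inferInstance).trans hsE.le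
  have hdP : P.natDegree ≤ d := ax.deg_le d hE hP hsE.le
  have hdQ : Q.natDegree ≤ d := ax.deg_le d hW hQ hsW
  have okQ : ∀ j : Fin (𝓔.l + 2), Coh.IsCoh (cokernel ((𝓔.induced ι).pieceX j).arrow) :=
    fun j => ax.ok_coker _ (cW j) hW
  have okH : ∀ j : Fin (𝓔.l + 2), Coh.IsCoh (cokernel (𝓔.pieceX j).arrow) :=
    fun j => ax.ok_coker _ (hcoh j) hE
  have hdH : ∀ j : Fin (𝓔.l + 2), (H j).natDegree ≤ d - 1 := fun j =>
    ax.deg_le (d - 1) (okH j) (hH j) (Groth.Agent.Lib.R2H4Snapper.le_of_lt_succ' _ _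
      (by rw [Nat.sub_add_cancel hd]; exact hltE j))
  have hdK : ∀ j : Fin (𝓔.l + 2), (QH j).natDegree ≤ d - 1 := fun j =>
    ax.deg_le (d - 1) (okQ j) (hQH j) (Groth.Agent.Lib.R2H4Snapper.le_of_lt_succ' _ _
      (by rw [Nat.sub_add_cancel hd]; exact hltW j))
  have hHne : ∀ j : Fin (𝓔.l + 1), (H j.succ).coeff (d - 1) ≠ 0 := fun j h0 => by
    apply hHa j; unfold StabCat.alpha; rw [h0, mul_zero]
  have limP := tendsto_rat_eval_div_pow P d hdP
  have limQ := tendsto_rat_eval_div_pow Q d hdQ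
  have limR : ∀ j : Fin (𝓔.l + 1), Tendsto (fun n : ℕ =>
      (((QH j.succ).eval (n : ℚ) / (H j.succ).eval (n : ℚ) : ℚ) : ℝ)) atTop
      (𝓝 ((StabCat.alpha (d - 1) (QH j.succ) / StabCat.alpha (d - 1) (H j.succ) : ℚ) : ℝ)) :=
    fun j => tendsto_ratio _ _ (d - 1) (hdK _) (hdH _) (hHne j)
  have limT : ∀ m : ℕ, Tendsto (fun n : ℕ => ((Q.eval (m : ℚ) : ℚ) : ℝ) -
      ∑ j : Fin (𝓔.l + 1), (𝓔.wtX j.succ - 𝓔.wtX j.castSucc) *
        ((((QH j.succ).eval (n : ℚ) / (H j.succ).eval (n : ℚ) : ℚ) : ℝ) *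
          (((H j.succ).eval (m : ℚ) : ℚ) : ℝ))) atTop
      (𝓝 ((W4swparbununimod.parPolyOne 𝓔 d Q QH H).eval (m : ℝ))) := by
    intro m
    have e : (W4swparbununimod.parPolyOne 𝓔 d Q QH H).eval (m : ℝ) =
        ((Q.eval (m : ℚ) : ℚ) : ℝ) - ∑ j : Fin (𝓔.l + 1), (𝓔.wtX j.succ - 𝓔.wtX j.castSucc) *
          (((StabCat.alpha (d - 1) (QH j.succ) / StabCat.alpha (d - 1) (H j.succ) : ℚ) : ℝ) *
            (((H j.succ).eval (m : ℚ) : ℚ) : ℝ)) := by
      unfold W4swparbununimod.parPolyOne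
      simp only [W4swparbununimod.rpoly, Polynomial.eval_sub, Polynomial.eval_finset_sum,
        Polynomial.eval_mul, Polynomial.eval_C, Polynomial.eval_natCast_map, eq_ratCast, mul_assoc]
    rw [e]
    exact tendsto_const_nhds.sub
      (tendsto_finset_sum _ fun j _ => ((limR j).mul_const _).const_mul _)
  have hf : (0 : ℝ) < (d.factorial : ℝ) := by exact_mod_cast Nat.factorial_pos d
  have halP : (StabCat.alpha d P : ℝ) = (d.factorial : ℝ) * ((P.coeff d : ℚ) : ℝ) := by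
    unfold StabCat.alpha; push_cast; ring
  have halQ : (StabCat.alpha d Q : ℝ) = (d.factorial : ℝ) * ((Q.coeff d : ℚ) : ℝ) := by
    unfold StabCat.alpha; push_cast; ring
  constructor
  · rintro ⟨M, hM⟩
    refine ⟨M, fun m hm => ?_⟩
    obtain ⟨N, hN⟩ := hM m hm
    have hlim1 := (limT m).mul limP
    have hlim2 := limQ.const_mul ((W4swparbununimod.parPoly 𝓔 PX).eval (m : ℝ))
    have hle := le_of_tendsto_of_tendsto hlim1 hlim2 (by
      filter_upwards [eventually_ge_atTop (max N 1)] with n hn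
      have h1 := hN n (le_trans (le_max_left _ _) hn)
      have hn1 : 1 ≤ n := le_trans (le_max_right _ _) hn
      have hpos : (0 : ℝ) < (n : ℝ) ^ d := pow_pos (by exact_mod_cast hn1) d
      rw [← mul_div_assoc, ← mul_div_assoc]
      exact div_le_div_of_nonneg_right h1 hpos.le)
    rw [halP, halQ]
    have := mul_le_mul_of_nonneg_left hle hf.le
    linarith
  · rintro ⟨M, hM⟩
    refine ⟨M, fun m hm => ?_⟩
    have h1 := hM m hm
    rw [halP, halQ] at h1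
    have hlt : (W4swparbununimod.parPolyOne 𝓔 d Q QH H).eval (m : ℝ) * ((P.coeff d : ℚ) : ℝ) <
        (W4swparbununimod.parPoly 𝓔 PX).eval (m : ℝ) * ((Q.coeff d : ℚ) : ℝ) := by
      by_contra hcon
      have := mul_le_mul_of_nonneg_left (not_lt.1 hcon) hf.le
      linarith
    have hlim1 := (limT m).mul limP
    have hlim2 := limQ.const_mul ((W4swparbununimod.parPoly 𝓔 PX).eval (m : ℝ))
    have hev := hlim1.eventually_lt hlim2 hlt
    obtain ⟨N, hN⟩ := Filter.eventually_atTop.1 hev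
    refine ⟨max N 1, fun n hn => ?_⟩
    have h2 := hN n (le_trans (le_max_left _ _) hn)
    have hn1 : 1 ≤ n := le_trans (le_max_right _ _) hn
    have hpos : (0 : ℝ) < (n : ℝ) ^ d := pow_pos (by exact_mod_cast hn1) d
    rw [← mul_div_assoc, ← mul_div_assoc, div_lt_div_iff_of_pos_right hpos] at h2
    exact h2

end Main

end Groth.Agent.Lib.R2H7.ParHilbE
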