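import Mathlib
import Groth.Prelude
import Groth.Agent.Lib.R2H7ParHilbE
import Groth.Agent.Lib.R2H7HilbStabD

/-!
# First modified parabolic polynomial versus the parabolic polynomial of the induced filtration

If all flag quotients `E / E_j` are semistable, then `par-P₁(W ⊂ E) ≤ Par_W` eventually.
-/

universe v u

open CategoryTheory CategoryTheory.Limits AlgebraicGeometry Polynomial Filter StabCat

namespace Groth.Agent.Lib.R2H7.ParHilbF

open Groth.Agent.Lib.R2H7.HilbPoly Groth.Agent.Lib.R2H7.ParHilbB Groth.Agent.Lib.R2H7.ParHilbC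
  Groth.Agent.Lib.R2H7.ParHilbD Groth.Agent.Lib.R2H7.ParHilbE Groth.Agent.Lib.R2H7.StabNum

section Generic

variable {C : Type u} [Category.{v} C] {E : C}

theorem wtX_castSucc_le_succ (𝓔 : ParSh.Str E) (j : Fin (𝓔.l + 1)) :
    𝓔.wtX j.castSucc ≤ 𝓔.wtX j.succ := by
  rw [𝓔.wtX_castSucc]
  induction j using Fin.lastCases with
  | last => rw [Fin.succ_last, 𝓔.wtX_last]; exact 𝓔.wt_lt_one.le
  | cast i =>
    rw [Fin.succ_castSucc, 𝓔.wtX_castSucc]
    exact 𝓔.wt_strictMono.monotone (by rw [Fin.le_iff_val_le_val]; simp)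

theorem parPoly_eval_eq (𝓔 : ParSh.Str E) (QX K : Fin (𝓔.l + 2) → ℚ[X]) (Q : ℚ[X])
    (hs : ∀ j, Q = QX j + K j) (h0 : K 0 = 0) (x : ℝ) :
    (W4swparbununimod.parPoly 𝓔 QX).eval x = (W4swparbununimod.rpoly Q).eval x -
      ∑ j : Fin (𝓔.l + 1), (𝓔.wtX j.succ - 𝓔.wtX j.castSucc) *
        (W4swparbununimod.rpoly (K j.succ)).eval x := by
  have hq : ∀ j, (W4swparbununimod.rpoly (QX j)).eval x =
      (W4swparbununimod.rpoly Q).eval x - (W4swparbununimod.rpoly (K j)).eval x := by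
    intro j
    have h1 : W4swparbununimod.rpoly Q =
        W4swparbununimod.rpoly (QX j) + W4swparbununimod.rpoly (K j) := by
      show Q.map _ = (QX j).map _ + (K j).map _
      rw [← Polynomial.map_add, ← hs j]
    rw [h1, Polynomial.eval_add]; ring
  unfold W4swparbununimod.parPoly
  simp only [Polynomial.eval_add, Polynomial.eval_finset_sum, Polynomial.eval_mul,
    Polynomial.eval_C, Polynomial.eval_sub, hq]
  have hab := Groth.Agent.Lib.R2H7.ParHilb.abel_sum 𝓔.l 𝓔.wtX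
    (fun j => (W4swparbununimod.rpoly (K j)).eval x) ((W4swparbununimod.rpoly Q).eval x)
    (by simp [h0]) 𝓔.wtX_last
  simp only [ParSh.Str.wtX_castSucc] at hab ⊢
  exact hab

theorem parPolyOne_eval (𝓔 : ParSh.Str E) (d : ℕ) (Q : ℚ[X]) (QH H : Fin (𝓔.l + 2) → ℚ[X])
    (x : ℝ) :
    (W4swparbununimod.parPolyOne 𝓔 d Q QH H).eval x = (W4swparbununimod.rpoly Q).eval x -
      ∑ j : Fin (𝓔.l + 1), (𝓔.wtX j.succ - 𝓔.wtX j.castSucc) *
        (((StabCat.alpha (d - 1) (QH j.succ) / StabCat.alpha (d - 1) (H j.succ) : ℚ) : ℝ) *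
          (W4swparbununimod.rpoly (H j.succ)).eval x) := by
  unfold W4swparbununimod.parPolyOne
  simp only [Polynomial.eval_sub, Polynomial.eval_finset_sum, Polynomial.eval_mul,
    Polynomial.eval_C, mul_assoc]

end Generic

section Sch

variable (k : Type u) [Field k] {X : Scheme.{u}} [X.Over (Spec (CommRingCat.of k))]
  [IsProper (X ↘ Spec (CommRingCat.of k))]

theorem isSemistable_of_isStable {L G : X.Modules} {e : ℕ} (h : ShStab.IsStable k X L G e) :
    ShStab.IsSemistable k X L G e :=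
  ⟨h.1, h.2.1, h.2.2.1, fun F ι hι okF nz niso pF pE hF hE =>
    Groth.Agent.Lib.R2H7.StabNum.RedLT.redLE (h.2.2.2 F ι hι okF nz niso pF pE hF hE)⟩

/-- the Hilbert polynomial of `W / (W ∩ S)` is eventually bounded by the multiple of that of a
semistable quotient `E / S` with the same multiplicity -/
theorem quot_eval_le (L : X.Modules) (hL : CohB1.IsAmple L) {E W : X.Modules}
    (hW : Coh.IsCoh W) (ι : W ⟶ E) [Mono ι] (S : Subobject E)
    (cT : Coh.IsCoh ((Subobject.pullback ι).obj S : X.Modules)) (e : ℕ)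
    (hG : ShStab.IsSemistable k X L (cokernel S.arrow) e) (K Hp : ℚ[X])
    (hK : ShStab.IsHilbPoly k X L (cokernel ((Subobject.pullback ι).obj S).arrow) K)
    (hH : ShStab.IsHilbPoly k X L (cokernel S.arrow) Hp) :
    ∀ᶠ m : ℕ in atTop,
      K.eval (m : ℚ) ≤ (StabCat.alpha e K / StabCat.alpha e Hp) * Hp.eval (m : ℚ) := by
  have ax := hilbAx k L hL
  obtain ⟨okG, nzG, pureG, ssG⟩ := hG
  have okF : Coh.IsCoh (cokernel ((Subobject.pullback ι).obj S).arrow) := ax.ok_coker _ cT hW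
  have sq := (Subobject.isPullback ι S).flip
  have hμ := Abelian.mono_cokernel_map_of_isPullback sq
  have aH : 0 < StabCat.alpha e Hp :=
    ax.alpha_pos e okG hH (pureG _ (𝟙 _) inferInstance okG nzG)
  by_cases hz : IsZero (cokernel ((Subobject.pullback ι).obj S).arrow)
  · have h0 : K = 0 := ax.hp_eq_zero hz hK
    subst h0
    exact Eventually.of_forall fun m => by simp [alpha_zero]
  by_cases hiso : IsIso (cokernel.map _ _ _ _ sq.w)
  · have h1 : K = Hp := ax.hp_unique (ax.hp_iso (asIso (cokernel.map _ _ _ _ sq.w)) hK) hH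
    subst h1
    exact Eventually.of_forall fun m => by rw [div_self aH.ne', one_mul]
  · have hred := ssG _ (cokernel.map _ _ _ _ sq.w) hμ okF hz hiso K Hp hK hH
    rw [redLE_iff] at hred
    filter_upwards [hred] with m hm
    rw [div_mul_eq_mul_div, le_div_iff₀ aH]
    linarith

/-- if every flag quotient is semistable of dimension `d - 1`, the first modified parabolic
polynomial of `W ⊂ E` is eventually at most the parabolic polynomial of the induced filtration -/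
theorem p1_le_par (L : X.Modules) (hL : CohB1.IsAmple L) (I : X.IdealSheafData)
    (E : X.Modules) (hE : Coh.IsCoh E) (𝓔 : ParSh.Str E) (h𝓔 : 𝓔.Along I)
    (hcoh : ∀ j, Coh.IsCoh ((𝓔.pieceX j : Subobject E) : X.Modules)) (d : ℕ)
    (hsupp : topologicalKrullDim ↥(CohB1.support E ∩ (I.support : Set X)) < (d : WithBot ℕ∞))
    (H : Fin (𝓔.l + 2) → ℚ[X]) (hH : ∀ j, ShStab.IsHilbPoly k X L (cokernel (𝓔.pieceX j).arrow) (H j))
    (hq : ∀ j : Fin (𝓔.l + 1),
      ShStab.IsSemistable k X L (cokernel (𝓔.pieceX j.succ).arrow) (d - 1))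
    {W : X.Modules} (ι : W ⟶ E) [Mono ι] (hW : Coh.IsCoh W)
    (Q : ℚ[X]) (hQ : ShStab.IsHilbPoly k X L W Q) (QX : Fin (𝓔.l + 2) → ℚ[X])
    (hQX : ∀ j, ShStab.IsHilbPoly k X L (((𝓔.induced ι).pieceX j : Subobject W) : X.Modules) (QX j))
    (QH : Fin (𝓔.l + 2) → ℚ[X])
    (hQH : ∀ j, ShStab.IsHilbPoly k X L (cokernel ((𝓔.induced ι).pieceX j).arrow) (QH j)) :
    ∀ᶠ m : ℕ in atTop, (W4swparbununimod.parPolyOne 𝓔 d Q QH H).eval (m : ℝ) ≤
      (W4swparbununimod.parPoly (𝓔.induced ι) QX).eval (m : ℝ) := by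
  obtain ⟨hltE, hltW, cW⟩ := induced_facts k L hL I E hE 𝓔 h𝓔 hcoh d hsupp ι hW
  have ax := hilbAx k L hL
  have hI : ∀ j : Fin (𝓔.l + 2),
      (𝓔.induced ι).pieceX j = (Subobject.pullback ι).obj (𝓔.pieceX j) := pieceX_induced ι 𝓔
  have hsplit : ∀ j : Fin (𝓔.l + 2), Q = QX j + QH j := fun j => by
    obtain ⟨Q', hQ', e⟩ := Groth.Agent.Lib.R2H7.ParHilb.exists_hilbPoly_sub k L hL hW _ (cW j) Q
      (QH j) hQ (hQH j)
    rw [isHilbPoly_unique k L (hQX j) hQ']; exact e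
  have hQH0 : QH 0 = 0 := by
    have e0 : (𝓔.induced ι).pieceX (0 : Fin (𝓔.l + 2)) = ⊤ := pieceX_zero (𝓔.induced ι)
    have h1 : ShStab.IsHilbPoly k X L
        (cokernel ((𝓔.induced ι).pieceX (0 : Fin (𝓔.l + 2))).arrow) (QH 0) := hQH 0
    rw [e0] at h1
    exact Groth.Agent.Lib.R2H7.ParHilb.hilbPoly_coker_top k L _ h1
  have hev : ∀ᶠ m : ℕ in atTop, ∀ j : Fin (𝓔.l + 1), (QH j.succ).eval (m : ℚ) ≤
      (StabCat.alpha (d - 1) (QH j.succ) / StabCat.alpha (d - 1) (H j.succ)) *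
        (H j.succ).eval (m : ℚ) := by
    rw [Filter.eventually_all]
    intro j
    have c1 := cW j.succ
    have h1 := hQH j.succ
    rw [hI j.succ] at c1 h1
    exact quot_eval_le k L hL hW ι (𝓔.pieceX j.succ) c1 (d - 1) (hq j) _ _ h1 (hH j.succ)
  filter_upwards [hev] with m hm
  have e1 : (W4swparbununimod.parPoly (𝓔.induced ι) QX).eval (m : ℝ) =
      (W4swparbununimod.rpoly Q).eval (m : ℝ) -
        ∑ j : Fin (𝓔.l + 1), (𝓔.wtX j.succ - 𝓔.wtX j.castSucc) *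
          (W4swparbununimod.rpoly (QH j.succ)).eval (m : ℝ) :=
    parPoly_eval_eq (𝓔.induced ι) QX QH Q hsplit hQH0 (m : ℝ)
  rw [e1, parPolyOne_eval]
  apply sub_le_sub_left
  apply Finset.sum_le_sum
  intro j _
  apply mul_le_mul_of_nonneg_left _ (sub_nonneg.2 (wtX_castSucc_le_succ 𝓔 j))
  show (W4swparbununimod.rpoly (QH j.succ)).eval (m : ℝ) ≤ _ * (W4swparbununimod.rpoly (H j.succ)).eval (m : ℝ)
  rw [← cast_eval, ← cast_eval]
  exact_mod_cast hm j

theorem s18533 (L : X.Modules) (hL : CohB1.IsAmple L) (I : X.IdealSheafData)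
    (E : X.Modules) (hE : Coh.IsCoh E) (𝓔 : ParSh.Str E) (h𝓔 : 𝓔.Along I)
    (hcoh : ∀ j, Coh.IsCoh ((𝓔.pieceX j : Subobject E) : X.Modules)) (d : ℕ)
    (hsupp : topologicalKrullDim ↥(CohB1.support E ∩ (I.support : Set X)) < (d : WithBot ℕ∞))
    (h0 : ¬ IsZero E) (hpure : ShStab.IsPure X E d)
    (P : ℚ[X]) (hP : ShStab.IsHilbPoly k X L E P) (PX : Fin (𝓔.l + 2) → ℚ[X])
    (H : Fin (𝓔.l + 2) → ℚ[X]) (hH : ∀ j, ShStab.IsHilbPoly k X L (cokernel (𝓔.pieceX j).arrow) (H j))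
    (hst : (∀ (W : X.Modules) (ι : W ⟶ E), Mono ι → Coh.IsCoh W → ¬ IsZero W → ¬ IsIso ι → ShStab.IsPure X (cokernel ι) d →
        ∀ (Q : ℚ[X]) (QX : Fin (𝓔.l + 2) → ℚ[X]), ShStab.IsHilbPoly k X L W Q →
          (∀ j, ShStab.IsHilbPoly k X L (((𝓔.induced ι).pieceX j : Subobject W) : X.Modules) (QX j)) →
          ∃ M : ℕ, ∀ m : ℕ, M ≤ m →
            (W4swparbununimod.parPoly (𝓔.induced ι) QX).eval (m : ℝ) * (StabCat.alpha d P : ℝ) <
              (W4swparbununimod.parPoly 𝓔 PX).eval (m : ℝ) * (StabCat.alpha d Q : ℝ)))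
    (hq : ∀ j : Fin (𝓔.l + 1), ShStab.IsStable k X L (cokernel (𝓔.pieceX j.succ).arrow) (d - 1))
    {W : X.Modules} (ι : W ⟶ E) [Mono ι] (hW : Coh.IsCoh W)
    (Q : ℚ[X]) (hQ : ShStab.IsHilbPoly k X L W Q) (QH : Fin (𝓔.l + 2) → ℚ[X])
    (hQH : ∀ j, ShStab.IsHilbPoly k X L (cokernel ((𝓔.induced ι).pieceX j).arrow) (QH j)) (hW0 : ¬ IsZero W) (hWp : ¬ IsIso ι) (hWsat : ShStab.IsPure X (cokernel ι) d) :
    ∃ M : ℕ, ∀ m : ℕ, M ≤ m →
      (W4swparbununimod.parPolyOne 𝓔 d Q QH H).eval (m : ℝ) * (StabCat.alpha d P : ℝ) <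
        (W4swparbununimod.parPoly 𝓔 PX).eval (m : ℝ) * (StabCat.alpha d Q : ℝ) := by
  obtain ⟨hltE, hltW, cW⟩ := induced_facts k L hL I E hE 𝓔 h𝓔 hcoh d hsupp ι hW
  have ax := hilbAx k L hL
  obtain ⟨QX, hQX⟩ : ∃ QX : Fin (𝓔.l + 2) → ℚ[X], ∀ j : Fin (𝓔.l + 2),
      ShStab.IsHilbPoly k X L (((𝓔.induced ι).pieceX j : Subobject W) : X.Modules) (QX j) :=
    ⟨fun j => (ax.hp_exists (cW j)).choose, fun j => (ax.hp_exists (cW j)).choose_spec⟩
  obtain ⟨M, hM⟩ := hst W ι inferInstance hW hW0 hWp hWsat Q QX hQ hQX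
  have hle := p1_le_par k L hL I E hE 𝓔 h𝓔 hcoh d hsupp H hH
    (fun j => isSemistable_of_isStable k (hq j)) ι hW Q hQ QX hQX QH hQH
  obtain ⟨M', hM'⟩ := Filter.eventually_atTop.1 hle
  have hsE : topologicalKrullDim (CohB1.support E) = (d : WithBot ℕ∞) :=
    hpure E (𝟙 E) inferInstance hE h0
  have aP : (0 : ℝ) < (StabCat.alpha d P : ℝ) := by
    exact_mod_cast ax.alpha_pos d hE hP hsE
  refine ⟨max M M', fun m hm => ?_⟩
  exact lt_of_le_of_lt
    (mul_le_mul_of_nonneg_right (hM' m (le_trans (le_max_right _ _) hm)) aP.le)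
    (hM m (le_trans (le_max_left _ _) hm))

end Sch

end Groth.Agent.Lib.R2H7.ParHilbF
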