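import Mathlib
import Groth.Prelude
import Groth.Agent.Lib.R2H7ParHilbF
import Groth.Agent.Lib.R2H7HilbStabSat
import Groth.Agent.Lib.R2H7HilbPolyB

/-!
# p₀-semistability and semistable flag quotients give p₁-semistability
-/

universe v u

open CategoryTheory CategoryTheory.Limits AlgebraicGeometry Polynomial Filter StabCat

namespace Groth.Agent.Lib.R2H7.ParHilbG

open Groth.Agent.Lib.R2H7.HilbPoly Groth.Agent.Lib.R2H7.ParHilbB Groth.Agent.Lib.R2H7.ParHilbC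
  Groth.Agent.Lib.R2H7.ParHilbD Groth.Agent.Lib.R2H7.ParHilbE Groth.Agent.Lib.R2H7.ParHilbF
  Groth.Agent.Lib.R2H7.StabNum

section Generic

variable {C : Type u} [Category.{v} C] {E : C}

theorem weighted_ident (𝓔 : ParSh.Str E) (z : Fin (𝓔.l + 2) → ℝ) :
    z (Fin.last (𝓔.l + 1)) + ∑ j : Fin (𝓔.l + 1), 𝓔.wt j * (z j.castSucc - z j.succ) =
      𝓔.wtX 0 * z 0 + ∑ j : Fin (𝓔.l + 1), (𝓔.wtX j.succ - 𝓔.wtX j.castSucc) * z j.succ := by
  have h1 : ∑ i : Fin (𝓔.l + 2), 𝓔.wtX i * z i =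
      𝓔.wtX 0 * z 0 + ∑ j : Fin (𝓔.l + 1), 𝓔.wtX j.succ * z j.succ := Fin.sum_univ_succ _
  have h2 : ∑ i : Fin (𝓔.l + 2), 𝓔.wtX i * z i =
      ∑ j : Fin (𝓔.l + 1), 𝓔.wtX j.castSucc * z j.castSucc +
        𝓔.wtX (Fin.last (𝓔.l + 1)) * z (Fin.last (𝓔.l + 1)) := Fin.sum_univ_castSucc _
  rw [𝓔.wtX_last, one_mul] at h2
  have e1 : ∑ j : Fin (𝓔.l + 1), 𝓔.wt j * (z j.castSucc - z j.succ) =
      ∑ j : Fin (𝓔.l + 1), 𝓔.wtX j.castSucc * z j.castSucc -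
        ∑ j : Fin (𝓔.l + 1), 𝓔.wtX j.castSucc * z j.succ := by
    rw [← Finset.sum_sub_distrib]
    apply Finset.sum_congr rfl
    intro j _
    rw [𝓔.wtX_castSucc]; ring
  have e2 : ∑ j : Fin (𝓔.l + 1), (𝓔.wtX j.succ - 𝓔.wtX j.castSucc) * z j.succ =
      ∑ j : Fin (𝓔.l + 1), 𝓔.wtX j.succ * z j.succ -
        ∑ j : Fin (𝓔.l + 1), 𝓔.wtX j.castSucc * z j.succ := by
    rw [← Finset.sum_sub_distrib]
    apply Finset.sum_congr rfl
    intro j _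
    ring
  rw [e1, e2]
  linarith

theorem wtX_zero_nonneg (𝓔 : ParSh.Str E) : 0 ≤ 𝓔.wtX 0 := by
  have h := 𝓔.wtX_castSucc 0
  simp only [Fin.castSucc_zero] at h
  rw [h]; exact 𝓔.wt_nonneg

theorem weighted_mono (𝓔 : ParSh.Str E) (x x' : Fin (𝓔.l + 2) → ℝ) (h : ∀ i, x i ≤ x' i) :
    x (Fin.last (𝓔.l + 1)) + ∑ j : Fin (𝓔.l + 1), 𝓔.wt j * (x j.castSucc - x j.succ) ≤
      x' (Fin.last (𝓔.l + 1)) + ∑ j : Fin (𝓔.l + 1), 𝓔.wt j * (x' j.castSucc - x' j.succ) := by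
  rw [weighted_ident, weighted_ident]
  apply add_le_add (mul_le_mul_of_nonneg_left (h 0) (wtX_zero_nonneg 𝓔))
  apply Finset.sum_le_sum
  intro j _
  exact mul_le_mul_of_nonneg_left (h _) (sub_nonneg.2 (wtX_castSucc_le_succ 𝓔 j))

theorem parPoly_eval (𝓔 : ParSh.Str E) (QX : Fin (𝓔.l + 2) → ℚ[X]) (x : ℝ) :
    (W4swparbununimod.parPoly 𝓔 QX).eval x =
      (W4swparbununimod.rpoly (QX (Fin.last (𝓔.l + 1)))).eval x +
        ∑ j : Fin (𝓔.l + 1), 𝓔.wt j * ((W4swparbununimod.rpoly (QX j.castSucc)).eval x -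
          (W4swparbununimod.rpoly (QX j.succ)).eval x) := by
  unfold W4swparbununimod.parPoly
  simp only [Polynomial.eval_add, Polynomial.eval_finset_sum, Polynomial.eval_mul,
    Polynomial.eval_C, Polynomial.eval_sub]

end Generic

section Sch

variable (k : Type u) [Field k] {X : Scheme.{u}} [X.Over (Spec (CommRingCat.of k))]
  [IsProper (X ↘ Spec (CommRingCat.of k))]

/-- the parabolic polynomial of the induced filtration is eventually monotone in the submodule -/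
theorem par_mono (L : X.Modules) (hL : CohB1.IsAmple L) (I : X.IdealSheafData)
    (E : X.Modules) (hE : Coh.IsCoh E) (𝓔 : ParSh.Str E) (h𝓔 : 𝓔.Along I)
    (hcoh : ∀ j, Coh.IsCoh ((𝓔.pieceX j : Subobject E) : X.Modules)) (d : ℕ)
    (hsupp : topologicalKrullDim ↥(CohB1.support E ∩ (I.support : Set X)) < (d : WithBot ℕ∞))
    {W W' : X.Modules} (ι : W ⟶ E) [Mono ι] (ι' : W' ⟶ E) [Mono ι'] (j : W ⟶ W')
    (hj : j ≫ ι' = ι) (hW : Coh.IsCoh W) (hW' : Coh.IsCoh W')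
    (QX QX' : Fin (𝓔.l + 2) → ℚ[X])
    (hQX : ∀ i, ShStab.IsHilbPoly k X L (((𝓔.induced ι).pieceX i : Subobject W) : X.Modules) (QX i))
    (hQX' : ∀ i, ShStab.IsHilbPoly k X L (((𝓔.induced ι').pieceX i : Subobject W') : X.Modules) (QX' i)) :
    ∀ᶠ m : ℕ in atTop, (W4swparbununimod.parPoly (𝓔.induced ι) QX).eval (m : ℝ) ≤
      (W4swparbununimod.parPoly (𝓔.induced ι') QX').eval (m : ℝ) := by
  obtain ⟨-, -, cW⟩ := induced_facts k L hL I E hE 𝓔 h𝓔 hcoh d hsupp ι hW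
  obtain ⟨-, -, cW'⟩ := induced_facts k L hL I E hE 𝓔 h𝓔 hcoh d hsupp ι' hW'
  have ax := hilbAx k L hL
  haveI : Mono j := mono_of_mono_fac hj
  have hI : ∀ i : Fin (𝓔.l + 2), (𝓔.induced ι).pieceX i =
      (Subobject.pullback j).obj ((𝓔.induced ι').pieceX i) := fun i => by
    rw [pieceX_induced ι 𝓔 i, pieceX_induced ι' 𝓔 i, ← Subobject.pullback_comp, hj]
  have hev : ∀ᶠ m : ℕ in atTop, ∀ i : Fin (𝓔.l + 2),
      (QX i).eval (m : ℚ) ≤ (QX' i).eval (m : ℚ) := by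
    rw [Filter.eventually_all]
    intro i
    have c1 := cW i
    have h1 := hQX i
    rw [hI i] at c1 h1
    have hpb := Subobject.isPullback j ((𝓔.induced ι').pieceX i)
    haveI : Mono (Subobject.pullbackπ j ((𝓔.induced ι').pieceX i)) := by
      haveI : Mono (Subobject.pullbackπ j ((𝓔.induced ι').pieceX i) ≫
          ((𝓔.induced ι').pieceX i).arrow) := by rw [hpb.w]; infer_instance
      exact mono_of_mono _ ((𝓔.induced ι').pieceX i).arrow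
    exact Groth.Agent.Lib.R2H7.HilbStabSat.hp_mono_eventually ax
      (Subobject.pullbackπ j ((𝓔.induced ι').pieceX i)) c1 (cW' i) h1 (hQX' i)
  filter_upwards [hev] with m hm
  have e1 : (W4swparbununimod.parPoly (𝓔.induced ι) QX).eval (m : ℝ) =
      (W4swparbununimod.rpoly (QX (Fin.last (𝓔.l + 1)))).eval (m : ℝ) +
        ∑ j : Fin (𝓔.l + 1), 𝓔.wt j * ((W4swparbununimod.rpoly (QX j.castSucc)).eval (m : ℝ) -
          (W4swparbununimod.rpoly (QX j.succ)).eval (m : ℝ)) :=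
    parPoly_eval (𝓔.induced ι) QX (m : ℝ)
  have e2 : (W4swparbununimod.parPoly (𝓔.induced ι') QX').eval (m : ℝ) =
      (W4swparbununimod.rpoly (QX' (Fin.last (𝓔.l + 1)))).eval (m : ℝ) +
        ∑ j : Fin (𝓔.l + 1), 𝓔.wt j * ((W4swparbununimod.rpoly (QX' j.castSucc)).eval (m : ℝ) -
          (W4swparbununimod.rpoly (QX' j.succ)).eval (m : ℝ)) :=
    parPoly_eval (𝓔.induced ι') QX' (m : ℝ)
  rw [e1, e2]
  refine weighted_mono 𝓔 (fun i => (W4swparbununimod.rpoly (QX i)).eval (m : ℝ))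
    (fun i => (W4swparbununimod.rpoly (QX' i)).eval (m : ℝ)) (fun i => ?_)
  show (W4swparbununimod.rpoly (QX i)).eval (m : ℝ) ≤ (W4swparbununimod.rpoly (QX' i)).eval (m : ℝ)
  rw [← cast_eval, ← cast_eval]
  exact_mod_cast hm i

theorem s18531 (L : X.Modules) (hL : CohB1.IsAmple L) (I : X.IdealSheafData)
    (E : X.Modules) (hE : Coh.IsCoh E) (𝓔 : ParSh.Str E) (h𝓔 : 𝓔.Along I)
    (hcoh : ∀ j, Coh.IsCoh ((𝓔.pieceX j : Subobject E) : X.Modules)) (d : ℕ)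
    (hsupp : topologicalKrullDim ↥(CohB1.support E ∩ (I.support : Set X)) < (d : WithBot ℕ∞))
    (h0 : ¬ IsZero E) (hpure : ShStab.IsPure X E d)
    (P : ℚ[X]) (hP : ShStab.IsHilbPoly k X L E P) (PX : Fin (𝓔.l + 2) → ℚ[X])
    (H : Fin (𝓔.l + 2) → ℚ[X]) (hH : ∀ j, ShStab.IsHilbPoly k X L (cokernel (𝓔.pieceX j).arrow) (H j))
    (hss : (∀ (W : X.Modules) (ι : W ⟶ E), Mono ι → Coh.IsCoh W → ¬ IsZero W → ShStab.IsPure X (cokernel ι) d →
        ∀ (Q : ℚ[X]) (QX : Fin (𝓔.l + 2) → ℚ[X]), ShStab.IsHilbPoly k X L W Q →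
          (∀ j, ShStab.IsHilbPoly k X L (((𝓔.induced ι).pieceX j : Subobject W) : X.Modules) (QX j)) →
          ∃ M : ℕ, ∀ m : ℕ, M ≤ m →
            (W4swparbununimod.parPoly (𝓔.induced ι) QX).eval (m : ℝ) * (StabCat.alpha d P : ℝ) ≤
              (W4swparbununimod.parPoly 𝓔 PX).eval (m : ℝ) * (StabCat.alpha d Q : ℝ)))
    (hq : ∀ j : Fin (𝓔.l + 1), ShStab.IsSemistable k X L (cokernel (𝓔.pieceX j.succ).arrow) (d - 1))
    {W : X.Modules} (ι : W ⟶ E) [Mono ι] (hW : Coh.IsCoh W)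
    (Q : ℚ[X]) (hQ : ShStab.IsHilbPoly k X L W Q) (QH : Fin (𝓔.l + 2) → ℚ[X])
    (hQH : ∀ j, ShStab.IsHilbPoly k X L (cokernel ((𝓔.induced ι).pieceX j).arrow) (QH j)) (hW0 : ¬ IsZero W) :
    ∃ M : ℕ, ∀ m : ℕ, M ≤ m →
      (W4swparbununimod.parPolyOne 𝓔 d Q QH H).eval (m : ℝ) * (StabCat.alpha d P : ℝ) ≤
        (W4swparbununimod.parPoly 𝓔 PX).eval (m : ℝ) * (StabCat.alpha d Q : ℝ) := by
  obtain ⟨hltE, hltW, cW⟩ := induced_facts k L hL I E hE 𝓔 h𝓔 hcoh d hsupp ι hW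
  have ax := hilbAx k L hL
  have axn := hilbAxN k (X := X) L
  -- saturation
  obtain ⟨pT, W', ι', hι', hW', hQ', aT, -, hpur, j, hj⟩ :=
    Groth.Agent.Lib.R2H7.HilbStabSat.exists_saturation_fac ax axn
      (fun {Q} hQ => hilbAcc k hQ) hE h0 hpure ι hW hQ hP
  haveI := hι'
  haveI : Mono j := mono_of_mono_fac hj
  have nzW' : ¬ IsZero W' := fun hz => hW0 (IsZero.of_mono j hz)
  have pure' : ShStab.IsPure X (cokernel ι') d := by
    rcases hpur with hz | hp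
    · intro F φ hφ _ nzF
      haveI := hφ
      exact absurd (IsZero.of_mono φ hz) nzF
    · exact hp
  obtain ⟨-, -, cW'⟩ := induced_facts k L hL I E hE 𝓔 h𝓔 hcoh d hsupp ι' hW'
  obtain ⟨QX, hQX⟩ : ∃ QX : Fin (𝓔.l + 2) → ℚ[X], ∀ i : Fin (𝓔.l + 2),
      ShStab.IsHilbPoly k X L (((𝓔.induced ι).pieceX i : Subobject W) : X.Modules) (QX i) :=
    ⟨fun i => (ax.hp_exists (cW i)).choose, fun i => (ax.hp_exists (cW i)).choose_spec⟩
  obtain ⟨QX', hQX'⟩ : ∃ QX' : Fin (𝓔.l + 2) → ℚ[X], ∀ i : Fin (𝓔.l + 2),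
      ShStab.IsHilbPoly k X L (((𝓔.induced ι').pieceX i : Subobject W') : X.Modules) (QX' i) :=
    ⟨fun i => (ax.hp_exists (cW' i)).choose, fun i => (ax.hp_exists (cW' i)).choose_spec⟩
  obtain ⟨M, hM⟩ := hss W' ι' hι' hW' nzW' pure' (Q + pT) QX' hQ' hQX'
  have hle := p1_le_par k L hL I E hE 𝓔 h𝓔 hcoh d hsupp H hH hq ι hW Q hQ QX hQX QH hQH
  have hmono := par_mono k L hL I E hE 𝓔 h𝓔 hcoh d hsupp ι ι' j hj hW hW' QX QX' hQX hQX'
  obtain ⟨M', hM'⟩ := Filter.eventually_atTop.1 (hle.and hmono)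
  have hsE : topologicalKrullDim (CohB1.support E) = (d : WithBot ℕ∞) :=
    hpure E (𝟙 E) inferInstance hE h0
  have aP : (0 : ℝ) < (StabCat.alpha d P : ℝ) := by
    exact_mod_cast ax.alpha_pos d hE hP hsE
  have aQ : StabCat.alpha d (Q + pT) = StabCat.alpha d Q := by
    rw [alpha_add, aT, add_zero]
  refine ⟨max M M', fun m hm => ?_⟩
  have h1 := hM m (le_trans (le_max_left _ _) hm)
  obtain ⟨h2, h3⟩ := hM' m (le_trans (le_max_right _ _) hm)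
  rw [aQ] at h1
  exact le_trans (mul_le_mul_of_nonneg_right (le_trans h2 h3) aP.le) h1

end Sch

end Groth.Agent.Lib.R2H7.ParHilbG
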