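import Mathlib
import Groth.Prelude
import Groth.Agent.Lib.R2H7ParHilbG
import Groth.Agent.Lib.R2H7HNBridge

/-!
# Tools for kernels and images of parabolic homomorphisms
-/

universe v u

open CategoryTheory CategoryTheory.Limits AlgebraicGeometry Polynomial Filter StabCat

namespace Groth.Agent.Lib.R2H7.ParHilbH

open Groth.Agent.Lib.R2H7.HilbPoly Groth.Agent.Lib.R2H7.ParHilbB Groth.Agent.Lib.R2H7.ParHilbC
  Groth.Agent.Lib.R2H7.ParHilbD Groth.Agent.Lib.R2H7.ParHilbE Groth.Agent.Lib.R2H7.ParHilbF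
  Groth.Agent.Lib.R2H7.ParHilbG Groth.Agent.Lib.R2H7.StabNum

section Generic

variable {C : Type u} [Category.{v} C] [Abelian C] {E : C}

/-- the extended pieces are the values of the real filtration at the extended weights -/
theorem at_wtX (𝓔 : ParSh.Str E) (i : Fin (𝓔.l + 2)) : 𝓔.at (𝓔.wtX i) = 𝓔.pieceX i := by
  induction i using Fin.lastCases with
  | last =>
    rw [𝓔.wtX_last, 𝓔.pieceX_last]
    exact 𝓔.at_eq_bot fun j => lt_of_le_of_lt (𝓔.wt_strictMono.monotone (Fin.le_last j)) 𝓔.wt_lt_one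
  | cast j =>
    rw [𝓔.wtX_castSucc, 𝓔.pieceX_castSucc]
    exact 𝓔.at_eq_piece j le_rfl fun j' hj' => 𝓔.wt_strictMono hj'

theorem wtX_mem_Icc (𝓔 : ParSh.Str E) (i : Fin (𝓔.l + 2)) : 0 ≤ 𝓔.wtX i ∧ 𝓔.wtX i ≤ 1 := by
  induction i using Fin.lastCases with
  | last => rw [𝓔.wtX_last]; exact ⟨zero_le_one, le_rfl⟩
  | cast j => rw [𝓔.wtX_castSucc]; exact ⟨wt_nonneg' 𝓔 j, wt_le_one 𝓔 j⟩

theorem wtX_castSucc_lt_succ (𝓔 : ParSh.Str E) (j : Fin (𝓔.l + 1)) :
    𝓔.wtX j.castSucc < 𝓔.wtX j.succ := by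
  rw [𝓔.wtX_castSucc]
  induction j using Fin.lastCases with
  | last => rw [Fin.succ_last, 𝓔.wtX_last]; exact 𝓔.wt_lt_one
  | cast i =>
    rw [Fin.succ_castSucc, 𝓔.wtX_castSucc]
    exact 𝓔.wt_strictMono (by rw [Fin.lt_iff_val_lt_val]; simp)

/-- the image of `S` in `V` lies in the preimage of `T` as soon as `f = q ≫ u` maps `S` into `T` -/
theorem image_le_pullback {E F V : C} (q : E ⟶ V) (u : V ⟶ F) (S : Subobject E)
    (T : Subobject F) (h : T.Factors (S.arrow ≫ q ≫ u)) :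
    imageSubobject (S.arrow ≫ q) ≤ (Subobject.pullback u).obj T := by
  have hpb := Subobject.isPullback u T
  have hk : T.factorThru (S.arrow ≫ q ≫ u) h ≫ T.arrow = (S.arrow ≫ q) ≫ u := by
    rw [Subobject.factorThru_arrow, Category.assoc]
  exact imageSubobject_le _ (hpb.lift _ _ hk) (hpb.lift_snd _ _ hk)

theorem weighted_add (𝓔 : ParSh.Str E) (x y z : Fin (𝓔.l + 2) → ℝ) (h : ∀ i, x i + y i = z i) :
    (x (Fin.last (𝓔.l + 1)) + ∑ j : Fin (𝓔.l + 1), 𝓔.wt j * (x j.castSucc - x j.succ)) +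
      (y (Fin.last (𝓔.l + 1)) + ∑ j : Fin (𝓔.l + 1), 𝓔.wt j * (y j.castSucc - y j.succ)) =
      z (Fin.last (𝓔.l + 1)) + ∑ j : Fin (𝓔.l + 1), 𝓔.wt j * (z j.castSucc - z j.succ) := by
  rw [add_add_add_comm, ← Finset.sum_add_distrib, h]
  congr 1
  apply Finset.sum_congr rfl
  intro j _
  rw [← h j.castSucc, ← h j.succ]; ring

/-- equality of weighted sums with termwise inequalities and positive weight jumps forces
termwise equality -/
theorem weighted_eq_imp (𝓔 : ParSh.Str E) (hw0 : 0 < 𝓔.wt 0) (x x' : Fin (𝓔.l + 2) → ℝ)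
    (h : ∀ i, x i ≤ x' i)
    (heq : x (Fin.last (𝓔.l + 1)) + ∑ j : Fin (𝓔.l + 1), 𝓔.wt j * (x j.castSucc - x j.succ) =
      x' (Fin.last (𝓔.l + 1)) + ∑ j : Fin (𝓔.l + 1), 𝓔.wt j * (x' j.castSucc - x' j.succ)) :
    ∀ i, x i = x' i := by
  rw [weighted_ident, weighted_ident] at heq
  have hpos0 : 0 < 𝓔.wtX 0 := by
    have h1 := 𝓔.wtX_castSucc 0
    simp only [Fin.castSucc_zero] at h1
    rw [h1]; exact hw0
  have hΔ : ∀ j : Fin (𝓔.l + 1), 0 < 𝓔.wtX j.succ - 𝓔.wtX j.castSucc := fun j =>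
    sub_pos.2 (wtX_castSucc_lt_succ 𝓔 j)
  have h0 : 0 ≤ 𝓔.wtX 0 * (x' 0 - x 0) := mul_nonneg hpos0.le (sub_nonneg.2 (h 0))
  have hs : ∀ j ∈ (Finset.univ : Finset (Fin (𝓔.l + 1))),
      0 ≤ (𝓔.wtX j.succ - 𝓔.wtX j.castSucc) * (x' j.succ - x j.succ) := fun j _ =>
    mul_nonneg (hΔ j).le (sub_nonneg.2 (h _))
  have htot : 𝓔.wtX 0 * (x' 0 - x 0) +
      ∑ j : Fin (𝓔.l + 1), (𝓔.wtX j.succ - 𝓔.wtX j.castSucc) * (x' j.succ - x j.succ) = 0 := by
    have e : ∑ j : Fin (𝓔.l + 1), (𝓔.wtX j.succ - 𝓔.wtX j.castSucc) * (x' j.succ - x j.succ) =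
        ∑ j : Fin (𝓔.l + 1), (𝓔.wtX j.succ - 𝓔.wtX j.castSucc) * x' j.succ -
          ∑ j : Fin (𝓔.l + 1), (𝓔.wtX j.succ - 𝓔.wtX j.castSucc) * x j.succ := by
      rw [← Finset.sum_sub_distrib]
      apply Finset.sum_congr rfl
      intro j _; ring
    rw [e]; linarith
  have hsum0 : ∑ j : Fin (𝓔.l + 1),
      (𝓔.wtX j.succ - 𝓔.wtX j.castSucc) * (x' j.succ - x j.succ) = 0 := by
    have := Finset.sum_nonneg hs
    linarith
  have hz0 : 𝓔.wtX 0 * (x' 0 - x 0) = 0 := by linarith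
  have hterm := (Finset.sum_eq_zero_iff_of_nonneg hs).1 hsum0
  intro i
  induction i using Fin.cases with
  | zero =>
    rcases mul_eq_zero.1 hz0 with h1 | h1
    · exact absurd h1 hpos0.ne'
    · linarith
  | succ j =>
    rcases mul_eq_zero.1 (hterm j (Finset.mem_univ _)) with h1 | h1
    · exact absurd h1 (hΔ j).ne'
    · linarith

/-- two real polynomials which agree at all large natural numbers are equal -/
theorem eq_of_eventually_eval_eq (p q : ℝ[X])
    (h : ∀ᶠ m : ℕ in atTop, p.eval (m : ℝ) = q.eval (m : ℝ)) : p = q := by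
  obtain ⟨M, hM⟩ := Filter.eventually_atTop.1 h
  apply Polynomial.eq_of_infinite_eval_eq
  have hinf : (Set.range fun n : ℕ => ((n + M : ℕ) : ℝ)).Infinite :=
    Set.infinite_range_of_injective fun a b hab => by
      have : (a + M : ℕ) = b + M := by exact_mod_cast hab
      omega
  refine hinf.mono ?_
  rintro _ ⟨n, rfl⟩
  exact hM (n + M) (Nat.le_add_left _ _)

end Generic

section Sch

variable (k : Type u) [Field k] {X : Scheme.{u}} [X.Over (Spec (CommRingCat.of k))]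
  [IsProper (X ↘ Spec (CommRingCat.of k))]

/-- a monomorphism of coherent modules with equal Hilbert polynomials is an isomorphism -/
theorem isIso_of_hp_eq (L : X.Modules) (hL : CohB1.IsAmple L) {A B : X.Modules} (μ : A ⟶ B)
    [Mono μ] (hA : Coh.IsCoh A) (hB : Coh.IsCoh B) (p : ℚ[X])
    (hpA : ShStab.IsHilbPoly k X L A p) (hpB : ShStab.IsHilbPoly k X L B p) : IsIso μ := by
  have ax := hilbAx k L hL
  have okQ := ax.ok_coker μ hA hB
  have hQ := ax.hp_coker μ hA hB hpA hpB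
  rw [sub_self] at hQ
  have hz : IsZero (cokernel μ) := by
    by_contra hnz
    obtain ⟨m, hm⟩ := (ax.eventually_pos okQ hnz hQ).exists
    rw [Polynomial.eval_zero] at hm
    exact lt_irrefl _ hm
  haveI : Epi μ := Preadditive.epi_of_isZero_cokernel μ hz
  exact isIso_of_mono_of_epi μ

/-- subobjects `S ≤ T` with equal Hilbert polynomials coincide -/
theorem subobject_eq_of_hp_eq (L : X.Modules) (hL : CohB1.IsAmple L) {V : X.Modules}
    (S T : Subobject V) (hle : S ≤ T) (hS : Coh.IsCoh (S : X.Modules))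
    (hT : Coh.IsCoh (T : X.Modules)) (p : ℚ[X])
    (hpS : ShStab.IsHilbPoly k X L (S : X.Modules) p)
    (hpT : ShStab.IsHilbPoly k X L (T : X.Modules) p) : S = T :=
  le_antisymm hle (Groth.Agent.Lib.R2H7.HNBridge.le_of_isIso_ofLE hle
    (isIso_of_hp_eq k L hL (Subobject.ofLE S T hle) hS hT p hpS hpT))

/-- Hilbert polynomials of `j⁻¹(S)`, `S` and the image of `S` are additive -/
theorem hp_pullback_add_image (L : X.Modules) (hL : CohB1.IsAmple L)
    {K E V : X.Modules} (hV : Coh.IsCoh V) (j : K ⟶ E) (q : E ⟶ V) (w : j ≫ q = 0)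
    (hSE : (ShortComplex.mk j q w).ShortExact) (S : Subobject E)
    (hS : Coh.IsCoh (S : X.Modules)) (pK pV pS : ℚ[X])
    (hK : ShStab.IsHilbPoly k X L ((Subobject.pullback j).obj S : X.Modules) pK)
    (hI : ShStab.IsHilbPoly k X L
      ((imageSubobject (S.arrow ≫ q) : Subobject V) : X.Modules) pV)
    (hpS : ShStab.IsHilbPoly k X L (S : X.Modules) pS) : pK + pV = pS := by
  haveI := Groth.Agent.Lib.R2H1.CurveEuler.isNoetherian_of_proper k X
  obtain ⟨z, hT⟩ := shortExact_pullback_image j q w hSE S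
  have c₃ : Coh.IsCoh ((imageSubobject (S.arrow ≫ q) : Subobject V) : X.Modules) :=
    isCoh_imageSubobject k (S.arrow ≫ q) hS hV L hL
  have c₁ : Coh.IsCoh ((Subobject.pullback j).obj S : X.Modules) :=
    Groth.Agent.Lib.R2H2.PdSheaf.isCoh_X₁ _ hT hS c₃
  exact (isHilbPoly_unique k L hpS (isHilbPoly_add k L hL.1 _ hT c₁ hS c₃ hK hI)).symm

/-- semistability (tested on nonzero saturated submodules) applied to a possibly zero submodule -/
theorem ss_apply (L : X.Modules) (hL : CohB1.IsAmple L) {E : X.Modules} (𝓔 : ParSh.Str E)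
    (d : ℕ) (P : ℚ[X]) (PX : Fin (𝓔.l + 2) → ℚ[X])
    (hss : (∀ (W : X.Modules) (ι : W ⟶ E), Mono ι → Coh.IsCoh W → ¬ IsZero W → ShStab.IsPure X (cokernel ι) d →
        ∀ (Q : ℚ[X]) (QX : Fin (𝓔.l + 2) → ℚ[X]), ShStab.IsHilbPoly k X L W Q →
          (∀ j, ShStab.IsHilbPoly k X L (((𝓔.induced ι).pieceX j : Subobject W) : X.Modules) (QX j)) →
          ∃ M : ℕ, ∀ m : ℕ, M ≤ m →
            (W4swparbununimod.parPoly (𝓔.induced ι) QX).eval (m : ℝ) * (StabCat.alpha d P : ℝ) ≤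
              (W4swparbununimod.parPoly 𝓔 PX).eval (m : ℝ) * (StabCat.alpha d Q : ℝ)))
    {W : X.Modules} (ι : W ⟶ E) [Mono ι] (hW : Coh.IsCoh W)
    (hpure : ShStab.IsPure X (cokernel ι) d) (Q : ℚ[X]) (QX : Fin (𝓔.l + 2) → ℚ[X])
    (hQ : ShStab.IsHilbPoly k X L W Q)
    (hQX : ∀ j, ShStab.IsHilbPoly k X L (((𝓔.induced ι).pieceX j : Subobject W) : X.Modules) (QX j)) :
    ∀ᶠ m : ℕ in atTop,
      (W4swparbununimod.parPoly (𝓔.induced ι) QX).eval (m : ℝ) * (StabCat.alpha d P : ℝ) ≤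
        (W4swparbununimod.parPoly 𝓔 PX).eval (m : ℝ) * (StabCat.alpha d Q : ℝ) := by
  by_cases hz : IsZero W
  · have ax := hilbAx k L hL
    have hQ0 : Q = 0 := ax.hp_eq_zero hz hQ
    have hQX0 : ∀ j : Fin (𝓔.l + 2), QX j = 0 := fun j =>
      ax.hp_eq_zero (IsZero.of_mono ((𝓔.induced ι).pieceX j).arrow hz) (hQX j)
    have hpar : W4swparbununimod.parPoly (𝓔.induced ι) QX = 0 := by
      have hfun : QX = fun _ => 0 := funext hQX0
      rw [hfun]
      unfold W4swparbununimod.parPoly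
      simp
    refine Eventually.of_forall fun m => ?_
    rw [hpar, hQ0, alpha_zero]
    simp
  · obtain ⟨M, hM⟩ := hss W ι inferInstance hW hz hpure Q QX hQ hQX
    exact Filter.eventually_atTop.2 ⟨M, hM⟩

end Sch

end Groth.Agent.Lib.R2H7.ParHilbH
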