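import Mathlib
import Groth.Prelude
import Groth.Agent.Lib.R2H7ParHilbH

/-!
# Kernel and image of a parabolic homomorphism between p₀-semistable parabolic sheaves with the
same reduced parabolic Hilbert polynomial
-/

universe v u

open CategoryTheory CategoryTheory.Limits AlgebraicGeometry Polynomial Filter StabCat

namespace Groth.Agent.Lib.R2H7.ParHilbI

open Groth.Agent.Lib.R2H7.HilbPoly Groth.Agent.Lib.R2H7.ParHilbB Groth.Agent.Lib.R2H7.ParHilbC
  Groth.Agent.Lib.R2H7.ParHilbD Groth.Agent.Lib.R2H7.ParHilbE Groth.Agent.Lib.R2H7.ParHilbF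
  Groth.Agent.Lib.R2H7.ParHilbG Groth.Agent.Lib.R2H7.ParHilbH Groth.Agent.Lib.R2H7.StabNum
  Groth.Agent.Lib.R2H7.HilbStab

/-- a structure on `F` with the length and the weights of `𝓔` -/
abbrev mkStr {C : Type u} [Category.{v} C] {E F : C} (𝓔 : ParSh.Str E)
    (pF : Fin (𝓔.l + 1) → Subobject F) (bF : Subobject F) (pF0 : pF 0 = ⊤) (pFa : Antitone pF)
    (bFle : ∀ j, bF ≤ pF j) : ParSh.Str F :=
  ⟨𝓔.l, pF, bF, 𝓔.wt, pF0, pFa, bFle, 𝓔.wt_strictMono, 𝓔.wt_nonneg, 𝓔.wt_lt_one⟩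

section Sch

variable (k : Type u) [Field k] {X : Scheme.{u}} [X.Over (Spec (CommRingCat.of k))]
  [IsProper (X ↘ Spec (CommRingCat.of k))]

/-- termwise eventual monotonicity of the Hilbert polynomials of the induced pieces -/
theorem pieces_mono (L : X.Modules) (hL : CohB1.IsAmple L)
    {E : X.Modules} (hE : Coh.IsCoh E) (𝓔 : ParSh.Str E)
    (hcoh : ∀ j, Coh.IsCoh ((𝓔.pieceX j : Subobject E) : X.Modules))
    {W W' : X.Modules} (ι : W ⟶ E) [Mono ι] (ι' : W' ⟶ E) [Mono ι'] (j : W ⟶ W')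
    (hj : j ≫ ι' = ι) (hW : Coh.IsCoh W) (hW' : Coh.IsCoh W')
    (QX QX' : Fin (𝓔.l + 2) → ℚ[X])
    (hQX : ∀ i, ShStab.IsHilbPoly k X L (((𝓔.induced ι).pieceX i : Subobject W) : X.Modules) (QX i))
    (hQX' : ∀ i, ShStab.IsHilbPoly k X L (((𝓔.induced ι').pieceX i : Subobject W') : X.Modules) (QX' i)) :
    ∀ᶠ m : ℕ in atTop, ∀ i : Fin (𝓔.l + 2), (QX i).eval (m : ℚ) ≤ (QX' i).eval (m : ℚ) := by
  have ax := hilbAx k L hL
  have cW : ∀ i : Fin (𝓔.l + 2), Coh.IsCoh (((𝓔.induced ι).pieceX i : Subobject W) : X.Modules) :=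
    fun i => by rw [pieceX_induced ι 𝓔 i]; exact isCoh_pullback k L hL ι hW hE _ (hcoh i)
  have cW' : ∀ i : Fin (𝓔.l + 2),
      Coh.IsCoh (((𝓔.induced ι').pieceX i : Subobject W') : X.Modules) :=
    fun i => by rw [pieceX_induced ι' 𝓔 i]; exact isCoh_pullback k L hL ι' hW' hE _ (hcoh i)
  haveI : Mono j := mono_of_mono_fac hj
  have hI : ∀ i : Fin (𝓔.l + 2), (𝓔.induced ι).pieceX i =
      (Subobject.pullback j).obj ((𝓔.induced ι').pieceX i) := fun i => by
    rw [pieceX_induced ι 𝓔 i, pieceX_induced ι' 𝓔 i, ← Subobject.pullback_comp, hj]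
  rw [Filter.eventually_all]
  intro i
  have c1 := cW i
  have h1 := hQX i
  rw [hI i] at c1 h1
  have hpb := Subobject.isPullback j ((𝓔.induced ι').pieceX i)
  haveI : Mono (Subobject.pullbackπ j ((𝓔.induced ι').pieceX i)) := by
    haveI : Mono (Subobject.pullbackπ j ((𝓔.induced ι').pieceX i) ≫
        ((𝓔.induced ι').pieceX i).arrow) := by rw [hpb.w]; infer_instance
    exact mono_of_mono _ ((𝓔.induced ι').pieceX i).arrow
  exact Groth.Agent.Lib.R2H7.HilbStabSat.hp_mono_eventually ax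
    (Subobject.pullbackπ j ((𝓔.induced ι').pieceX i)) c1 (cW' i) h1 (hQX' i)

theorem cast_eval_le {p q : ℚ[X]} {m : ℕ} (h : p.eval (m : ℚ) ≤ q.eval (m : ℚ)) :
    (W4swparbununimod.rpoly p).eval (m : ℝ) ≤ (W4swparbununimod.rpoly q).eval (m : ℝ) := by
  show (p.map (Rat.castHom ℝ)).eval (m : ℝ) ≤ (q.map (Rat.castHom ℝ)).eval (m : ℝ)
  rw [← cast_eval, ← cast_eval]
  exact_mod_cast h

theorem rpoly_injective {p q : ℚ[X]}
    (h : W4swparbununimod.rpoly p = W4swparbununimod.rpoly q) : p = q :=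
  Polynomial.map_injective (Rat.castHom ℝ) Rat.cast_injective h

set_option maxHeartbeats 1600000 in
theorem core (L : X.Modules) (hL : CohB1.IsAmple L) (I : X.IdealSheafData) (d : ℕ)
    {E F : X.Modules} (hE : Coh.IsCoh E) (hF : Coh.IsCoh F) (hE0 : ¬ IsZero E) (hF0 : ¬ IsZero F)
    (hEp : ShStab.IsPure X E d) (hFp : ShStab.IsPure X F d)
    (𝓔 : ParSh.Str E) (pF : Fin (𝓔.l + 1) → Subobject F) (bF : Subobject F) (pF0 : pF 0 = ⊤)
    (pFa : Antitone pF) (bFle : ∀ j, bF ≤ pF j)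
    (hcE : ∀ j, Coh.IsCoh ((𝓔.pieceX j : Subobject E) : X.Modules))
    (hcF : ∀ j, Coh.IsCoh (((mkStr 𝓔 pF bF pF0 pFa bFle).pieceX j : Subobject F) : X.Modules))
    (hw0 : 0 < 𝓔.wt 0)
    (P R : ℚ[X]) (hP : ShStab.IsHilbPoly k X L E P) (hR : ShStab.IsHilbPoly k X L F R)
    (PX : Fin (𝓔.l + 2) → ℚ[X]) (hPX : ∀ j, ShStab.IsHilbPoly k X L ((𝓔.pieceX j : Subobject E) : X.Modules) (PX j))
    (RX : Fin (𝓔.l + 2) → ℚ[X])
    (hRX : ∀ j, ShStab.IsHilbPoly k X L (((mkStr 𝓔 pF bF pF0 pFa bFle).pieceX j : Subobject F) : X.Modules) (RX j))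
    (hssE : (∀ (W : X.Modules) (ι : W ⟶ E), Mono ι → Coh.IsCoh W → ¬ IsZero W → ShStab.IsPure X (cokernel ι) d →
        ∀ (Q : ℚ[X]) (QX : Fin (𝓔.l + 2) → ℚ[X]), ShStab.IsHilbPoly k X L W Q →
          (∀ j, ShStab.IsHilbPoly k X L (((𝓔.induced ι).pieceX j : Subobject W) : X.Modules) (QX j)) →
          ∃ M : ℕ, ∀ m : ℕ, M ≤ m →
            (W4swparbununimod.parPoly (𝓔.induced ι) QX).eval (m : ℝ) * (StabCat.alpha d P : ℝ) ≤
              (W4swparbununimod.parPoly 𝓔 PX).eval (m : ℝ) * (StabCat.alpha d Q : ℝ)))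
    (hssF : (∀ (W : X.Modules) (ι : W ⟶ F), Mono ι → Coh.IsCoh W → ¬ IsZero W → ShStab.IsPure X (cokernel ι) d →
        ∀ (Q : ℚ[X]) (QX : Fin (𝓔.l + 2) → ℚ[X]), ShStab.IsHilbPoly k X L W Q →
          (∀ j, ShStab.IsHilbPoly k X L ((((mkStr 𝓔 pF bF pF0 pFa bFle).induced ι).pieceX j : Subobject W) : X.Modules) (QX j)) →
          ∃ M : ℕ, ∀ m : ℕ, M ≤ m →
            (W4swparbununimod.parPoly ((mkStr 𝓔 pF bF pF0 pFa bFle).induced ι) QX).eval (m : ℝ) * (StabCat.alpha d R : ℝ) ≤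
              (W4swparbununimod.parPoly (mkStr 𝓔 pF bF pF0 pFa bFle) RX).eval (m : ℝ) * (StabCat.alpha d Q : ℝ)))
    (hred : W4swparbununimod.parPoly 𝓔 PX * Polynomial.C (StabCat.alpha d R : ℝ) =
      W4swparbununimod.parPoly (mkStr 𝓔 pF bF pF0 pFa bFle) RX * Polynomial.C (StabCat.alpha d P : ℝ))
    (f : E ⟶ F) (hf : ParSh.IsParHom 𝓔 (mkStr 𝓔 pF bF pF0 pFa bFle) f)
    {K V : X.Modules} (j : K ⟶ E) [Mono j] (w : j ≫ f = 0) (hex : (ShortComplex.mk j f w).Exact)
    (q : E ⟶ V) [Epi q] (u : V ⟶ F) [Mono u] (hqu : q ≫ u = f) :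
    (∀ (QK : ℚ[X]) (QKX : Fin (𝓔.l + 2) → ℚ[X]), ShStab.IsHilbPoly k X L K QK →
        (∀ j', ShStab.IsHilbPoly k X L (((𝓔.induced j).pieceX j' : Subobject K) : X.Modules) (QKX j')) →
        W4swparbununimod.parPoly (𝓔.induced j) QKX * Polynomial.C (StabCat.alpha d P : ℝ) =
          W4swparbununimod.parPoly 𝓔 PX * Polynomial.C (StabCat.alpha d QK : ℝ)) ∧
    ShStab.IsPure X (cokernel u) d ∧
    (∀ a : ℝ, 0 ≤ a → a ≤ 1 →
      (𝓔.coinduced q).at a = ((mkStr 𝓔 pF bF pF0 pFa bFle).induced u).at a) := by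
  classical
  set 𝓕 : ParSh.Str F := mkStr 𝓔 pF bF pF0 pFa bFle with h𝓕def
  have ax := hilbAx k L hL
  have axn := hilbAxN k (X := X) L
  haveI := Groth.Agent.Lib.R2H1.CurveEuler.isNoetherian_of_proper k X
  -- the short exact sequence `0 → K → E → V → 0`
  have wq : j ≫ q = 0 := by
    rw [← cancel_mono u, Category.assoc, hqu, w, Limits.zero_comp]
  have hexq : (ShortComplex.mk j q wq).Exact := by
    rw [ShortComplex.exact_iff_exact_up_to_refinements] at hex ⊢
    intro A x₂ hx₂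
    refine hex x₂ ?_
    dsimp at hx₂ ⊢
    have h3 : x₂ ≫ (q ≫ u) = 0 := by rw [← Category.assoc, hx₂, Limits.zero_comp]
    rwa [hqu] at h3
  have hSE : (ShortComplex.mk j q wq).ShortExact :=
    ShortComplex.ShortExact.mk' hexq ‹Mono j› ‹Epi q›
  haveI : StrongEpi q := strongEpi_of_epi q
  have hV : Coh.IsCoh V :=
    Groth.Agent.Lib.R2H2.PdSheaf.isCoh_of_iso
      (Abelian.imageIsoImage f ≪≫ (image.isoStrongEpiMono q u hqu).symm) (ax.ok_image f hE hF)
  have hK : Coh.IsCoh K := Groth.Agent.Lib.R2H2.PdSheaf.isCoh_X₁ _ hSE hE hV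
  have hVp : ShStab.IsPure X V d := fun G φ hφ hG nz => by
    haveI := hφ
    exact hFp G (φ ≫ u) inferInstance hG nz
  haveI : Epi (ShortComplex.mk j q wq).g := ‹Epi q›
  have eV : cokernel j ≅ V :=
    (cokernelIsCokernel j).coconePointUniqueUpToIso hexq.gIsCokernel
  have hKsat : ShStab.IsPure X (cokernel j) d := fun G φ hφ hG nz => by
    haveI := hφ
    exact hVp G (φ ≫ eV.hom) inferInstance hG nz
  -- coherence of the pieces
  have cK : ∀ i : Fin (𝓔.l + 2), Coh.IsCoh (((𝓔.induced j).pieceX i : Subobject K) : X.Modules) :=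
    fun i => by rw [pieceX_induced j 𝓔 i]; exact isCoh_pullback k L hL j hK hE _ (hcE i)
  have cVc : ∀ i : Fin (𝓔.l + 2),
      Coh.IsCoh (((𝓔.coinduced q).pieceX i : Subobject V) : X.Modules) :=
    fun i => by
      rw [pieceX_coinduced q 𝓔 i]; exact isCoh_imageSubobject k _ (hcE i) hV L hL
  have cVi : ∀ i : Fin (𝓔.l + 2),
      Coh.IsCoh (((𝓕.induced u).pieceX i : Subobject V) : X.Modules) :=
    fun i => by rw [pieceX_induced u 𝓕 i]; exact isCoh_pullback k L hL u hV hF _ (hcF i)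
  -- Hilbert polynomials
  obtain ⟨QK, hQK⟩ := ax.hp_exists hK
  obtain ⟨QV, hQV⟩ := ax.hp_exists hV
  obtain ⟨QKX, hQKX⟩ : ∃ QKX : Fin (𝓔.l + 2) → ℚ[X], ∀ i : Fin (𝓔.l + 2),
      ShStab.IsHilbPoly k X L (((𝓔.induced j).pieceX i : Subobject K) : X.Modules) (QKX i) :=
    ⟨fun i => (ax.hp_exists (cK i)).choose, fun i => (ax.hp_exists (cK i)).choose_spec⟩
  obtain ⟨QVc, hQVc⟩ : ∃ QVc : Fin (𝓔.l + 2) → ℚ[X], ∀ i : Fin (𝓔.l + 2),
      ShStab.IsHilbPoly k X L (((𝓔.coinduced q).pieceX i : Subobject V) : X.Modules) (QVc i) :=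
    ⟨fun i => (ax.hp_exists (cVc i)).choose, fun i => (ax.hp_exists (cVc i)).choose_spec⟩
  obtain ⟨QVi, hQVi⟩ : ∃ QVi : Fin (𝓔.l + 2) → ℚ[X], ∀ i : Fin (𝓔.l + 2),
      ShStab.IsHilbPoly k X L (((𝓕.induced u).pieceX i : Subobject V) : X.Modules) (QVi i) :=
    ⟨fun i => (ax.hp_exists (cVi i)).choose, fun i => (ax.hp_exists (cVi i)).choose_spec⟩
  -- saturation of `V` in `F`
  obtain ⟨pT, W', ι', hι', hW', hQW, aT, -, hpur, jV, hjV⟩ :=
    Groth.Agent.Lib.R2H7.HilbStabSat.exists_saturation_fac ax axn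
      (fun {Q} hQ => hilbAcc k hQ) hF hF0 hFp u hV hQV hR
  haveI := hι'
  haveI : Mono jV := mono_of_mono_fac hjV
  have pure' : ShStab.IsPure X (cokernel ι') d := by
    rcases hpur with hz | hp
    · intro G φ hφ _ nzG
      haveI := hφ
      exact absurd (IsZero.of_mono φ hz) nzG
    · exact hp
  have cW : ∀ i : Fin (𝓔.l + 2),
      Coh.IsCoh (((𝓕.induced ι').pieceX i : Subobject W') : X.Modules) :=
    fun i => by rw [pieceX_induced ι' 𝓕 i]; exact isCoh_pullback k L hL ι' hW' hF _ (hcF i)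
  obtain ⟨QWX, hQWX⟩ : ∃ QWX : Fin (𝓔.l + 2) → ℚ[X], ∀ i : Fin (𝓔.l + 2),
      ShStab.IsHilbPoly k X L (((𝓕.induced ι').pieceX i : Subobject W') : X.Modules) (QWX i) :=
    ⟨fun i => (ax.hp_exists (cW i)).choose, fun i => (ax.hp_exists (cW i)).choose_spec⟩
  -- the four eventual inequalities
  have hA := ss_apply k L hL 𝓔 d P PX hssE j hK hKsat QK QKX hQK hQKX
  have hD := ss_apply k L hL 𝓕 d R RX hssF ι' hW' pure' (QV + pT) QWX hQW hQWX
  have hC2 := pieces_mono k L hL hF 𝓕 hcF u ι' jV hjV hV hW' QVi QWX hQVi hQWX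
  have hle : ∀ i : Fin (𝓔.l + 2), (𝓔.coinduced q).pieceX i ≤ (𝓕.induced u).pieceX i := by
    intro i
    rw [pieceX_coinduced q 𝓔 i, pieceX_induced u 𝓕 i]
    apply image_le_pullback q u
    have h1 := hf (𝓔.wtX i) (wtX_mem_Icc 𝓔 i).1 (wtX_mem_Icc 𝓔 i).2
    have e2 : 𝓕.at (𝓔.wtX i) = 𝓕.pieceX i := at_wtX 𝓕 i
    rw [at_wtX 𝓔 i, e2] at h1
    rw [hqu]; exact h1
  have hC1 : ∀ᶠ m : ℕ in atTop, ∀ i : Fin (𝓔.l + 2),
      (QVc i).eval (m : ℚ) ≤ (QVi i).eval (m : ℚ) := by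
    rw [Filter.eventually_all]
    intro i
    exact Groth.Agent.Lib.R2H7.HilbStabSat.hp_mono_eventually ax
      (Subobject.ofLE _ _ (hle i)) (cVc i) (cVi i) (hQVc i) (hQVi i)
  -- expansions
  have eK : ∀ x : ℝ, (W4swparbununimod.parPoly (𝓔.induced j) QKX).eval x =
      (W4swparbununimod.rpoly (QKX (Fin.last (𝓔.l + 1)))).eval x +
        ∑ i : Fin (𝓔.l + 1), 𝓔.wt i * ((W4swparbununimod.rpoly (QKX i.castSucc)).eval x -
          (W4swparbununimod.rpoly (QKX i.succ)).eval x) :=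
    fun x => parPoly_eval (𝓔.induced j) QKX x
  have eVc : ∀ x : ℝ, (W4swparbununimod.parPoly (𝓔.coinduced q) QVc).eval x =
      (W4swparbununimod.rpoly (QVc (Fin.last (𝓔.l + 1)))).eval x +
        ∑ i : Fin (𝓔.l + 1), 𝓔.wt i * ((W4swparbununimod.rpoly (QVc i.castSucc)).eval x -
          (W4swparbununimod.rpoly (QVc i.succ)).eval x) :=
    fun x => parPoly_eval (𝓔.coinduced q) QVc x
  have eVi : ∀ x : ℝ, (W4swparbununimod.parPoly (𝓕.induced u) QVi).eval x =
      (W4swparbununimod.rpoly (QVi (Fin.last (𝓔.l + 1)))).eval x +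
        ∑ i : Fin (𝓔.l + 1), 𝓔.wt i * ((W4swparbununimod.rpoly (QVi i.castSucc)).eval x -
          (W4swparbununimod.rpoly (QVi i.succ)).eval x) :=
    fun x => parPoly_eval (𝓕.induced u) QVi x
  have eW : ∀ x : ℝ, (W4swparbununimod.parPoly (𝓕.induced ι') QWX).eval x =
      (W4swparbununimod.rpoly (QWX (Fin.last (𝓔.l + 1)))).eval x +
        ∑ i : Fin (𝓔.l + 1), 𝓔.wt i * ((W4swparbununimod.rpoly (QWX i.castSucc)).eval x -
          (W4swparbununimod.rpoly (QWX i.succ)).eval x) :=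
    fun x => parPoly_eval (𝓕.induced ι') QWX x
  have eE : ∀ x : ℝ, (W4swparbununimod.parPoly 𝓔 PX).eval x =
      (W4swparbununimod.rpoly (PX (Fin.last (𝓔.l + 1)))).eval x +
        ∑ i : Fin (𝓔.l + 1), 𝓔.wt i * ((W4swparbununimod.rpoly (PX i.castSucc)).eval x -
          (W4swparbununimod.rpoly (PX i.succ)).eval x) :=
    fun x => parPoly_eval 𝓔 PX x
  -- additivity
  have hadd : ∀ i : Fin (𝓔.l + 2), QKX i + QVc i = PX i := by
    intro i
    have h1 := hQKX i
    have h2 := hQVc i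
    rw [pieceX_induced j 𝓔 i] at h1
    rw [pieceX_coinduced q 𝓔 i] at h2
    exact hp_pullback_add_image k L hL hV j q wq hSE (𝓔.pieceX i) (hcE i) _ _ _ h1 h2 (hPX i)
  have hB : ∀ x : ℝ, (W4swparbununimod.parPoly (𝓔.induced j) QKX).eval x +
      (W4swparbununimod.parPoly (𝓔.coinduced q) QVc).eval x =
      (W4swparbununimod.parPoly 𝓔 PX).eval x := by
    intro x
    rw [eK, eVc, eE]
    refine weighted_add 𝓔 (fun i => (W4swparbununimod.rpoly (QKX i)).eval x)
      (fun i => (W4swparbununimod.rpoly (QVc i)).eval x)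
      (fun i => (W4swparbununimod.rpoly (PX i)).eval x) (fun i => ?_)
    show (W4swparbununimod.rpoly (QKX i)).eval x + (W4swparbununimod.rpoly (QVc i)).eval x =
      (W4swparbununimod.rpoly (PX i)).eval x
    rw [← hadd i]
    show _ = ((QKX i + QVc i).map (Rat.castHom ℝ)).eval x
    rw [Polynomial.map_add, Polynomial.eval_add]
  have hRd : ∀ x : ℝ, (W4swparbununimod.parPoly 𝓔 PX).eval x * (StabCat.alpha d R : ℝ) =
      (W4swparbununimod.parPoly 𝓕 RX).eval x * (StabCat.alpha d P : ℝ) := by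
    intro x
    have := congrArg (Polynomial.eval x) hred
    simpa only [Polynomial.eval_mul, Polynomial.eval_C] using this
  have hPsum : P = QK + QV :=
    isHilbPoly_unique k L hP (isHilbPoly_add k L hL.1 _ hSE hK hE hV hQK hQV)
  have hS : (StabCat.alpha d P : ℝ) = (StabCat.alpha d QK : ℝ) + (StabCat.alpha d QV : ℝ) := by
    rw [hPsum, alpha_add]; push_cast; ring
  have hsE : topologicalKrullDim (CohB1.support E) = (d : WithBot ℕ∞) :=
    hEp E (𝟙 E) inferInstance hE hE0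
  have hsF : topologicalKrullDim (CohB1.support F) = (d : WithBot ℕ∞) :=
    hFp F (𝟙 F) inferInstance hF hF0
  have aP : (0 : ℝ) < (StabCat.alpha d P : ℝ) := by exact_mod_cast ax.alpha_pos d hE hP hsE
  have aR : (0 : ℝ) < (StabCat.alpha d R : ℝ) := by exact_mod_cast ax.alpha_pos d hF hR hsF
  have aQW : (StabCat.alpha d (QV + pT) : ℝ) = (StabCat.alpha d QV : ℝ) := by
    rw [alpha_add, aT, add_zero]
  -- the key: all inequalities are eventually equalities
  have hkey : ∀ᶠ m : ℕ in atTop,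
      (W4swparbununimod.parPoly (𝓔.induced j) QKX).eval (m : ℝ) * (StabCat.alpha d P : ℝ) =
        (W4swparbununimod.parPoly 𝓔 PX).eval (m : ℝ) * (StabCat.alpha d QK : ℝ) ∧
      (∀ i : Fin (𝓔.l + 2), (W4swparbununimod.rpoly (QVc i)).eval (m : ℝ) =
        (W4swparbununimod.rpoly (QVi i)).eval (m : ℝ)) ∧
      (∀ i : Fin (𝓔.l + 2), (W4swparbununimod.rpoly (QVi i)).eval (m : ℝ) =
        (W4swparbununimod.rpoly (QWX i)).eval (m : ℝ)) := by
    filter_upwards [hA, hD, hC1, hC2] with m h1 h4 h2 h3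
    rw [aQW] at h4
    have hx2 : ∀ i : Fin (𝓔.l + 2), (W4swparbununimod.rpoly (QVc i)).eval (m : ℝ) ≤
        (W4swparbununimod.rpoly (QVi i)).eval (m : ℝ) := fun i => cast_eval_le (h2 i)
    have hx3 : ∀ i : Fin (𝓔.l + 2), (W4swparbununimod.rpoly (QVi i)).eval (m : ℝ) ≤
        (W4swparbununimod.rpoly (QWX i)).eval (m : ℝ) := fun i => cast_eval_le (h3 i)
    have hc1 : (W4swparbununimod.parPoly (𝓔.coinduced q) QVc).eval (m : ℝ) ≤
        (W4swparbununimod.parPoly (𝓕.induced u) QVi).eval (m : ℝ) := by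
      rw [eVc, eVi]
      exact weighted_mono 𝓔 (fun i => (W4swparbununimod.rpoly (QVc i)).eval (m : ℝ))
        (fun i => (W4swparbununimod.rpoly (QVi i)).eval (m : ℝ)) hx2
    have hc2 : (W4swparbununimod.parPoly (𝓕.induced u) QVi).eval (m : ℝ) ≤
        (W4swparbununimod.parPoly (𝓕.induced ι') QWX).eval (m : ℝ) := by
      rw [eVi, eW]
      exact weighted_mono 𝓔 (fun i => (W4swparbununimod.rpoly (QVi i)).eval (m : ℝ))
        (fun i => (W4swparbununimod.rpoly (QWX i)).eval (m : ℝ)) hx3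
    have hb := hB (m : ℝ)
    have hr := hRd (m : ℝ)
    set κ := (W4swparbununimod.parPoly (𝓔.induced j) QKX).eval (m : ℝ) with hκ
    set vc := (W4swparbununimod.parPoly (𝓔.coinduced q) QVc).eval (m : ℝ) with hvc
    set vi := (W4swparbununimod.parPoly (𝓕.induced u) QVi).eval (m : ℝ) with hvi
    set wv := (W4swparbununimod.parPoly (𝓕.induced ι') QWX).eval (m : ℝ) with hwv
    set e := (W4swparbununimod.parPoly 𝓔 PX).eval (m : ℝ) with he
    set φ := (W4swparbununimod.parPoly 𝓕 RX).eval (m : ℝ) with hφ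
    set a := (StabCat.alpha d P : ℝ) with ha
    set b := (StabCat.alpha d R : ℝ) with hb'
    set aK := (StabCat.alpha d QK : ℝ) with haK
    set aV := (StabCat.alpha d QV : ℝ) with haV
    -- lower bound
    have hlow : e * aV ≤ vc * a := by
      have h10 : vc * a = e * a - κ * a := by rw [← hb]; ring
      have h11 : e * a = e * aK + e * aV := by rw [hS]; ring
      linarith
    -- upper bound
    have hup : vc * a * b ≤ e * aV * b := by
      have h5 : vc * b ≤ wv * b := mul_le_mul_of_nonneg_right (le_trans hc1 hc2) aR.le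
      have h6 : (vc * b) * a ≤ (φ * aV) * a :=
        mul_le_mul_of_nonneg_right (le_trans h5 h4) aP.le
      have h7 : (φ * aV) * a = e * aV * b := by
        have : φ * a = e * b := hr.symm
        calc (φ * aV) * a = (φ * a) * aV := by ring
          _ = (e * b) * aV := by rw [this]
          _ = e * aV * b := by ring
      calc vc * a * b = (vc * b) * a := by ring
        _ ≤ (φ * aV) * a := h6
        _ = e * aV * b := h7
    have hup' : vc * a ≤ e * aV := le_of_mul_le_mul_right hup aR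
    have heq1 : vc * a = e * aV := le_antisymm hup' hlow
    have hκeq : κ * a = e * aK := by
      have : κ * a = e * a - vc * a := by rw [← hb]; ring
      rw [this, heq1, hS]; ring
    -- equalities in the chain
    have hwvb : wv * b * a = vc * b * a := by
      have h5 : vc * b ≤ wv * b := mul_le_mul_of_nonneg_right (le_trans hc1 hc2) aR.le
      have h6 : (wv * b) * a ≤ (φ * aV) * a := mul_le_mul_of_nonneg_right h4 aP.le
      have h7 : (φ * aV) * a = vc * b * a := by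
        have : φ * a = e * b := hr.symm
        calc (φ * aV) * a = (φ * a) * aV := by ring
          _ = (e * b) * aV := by rw [this]
          _ = (e * aV) * b := by ring
          _ = (vc * a) * b := by rw [heq1]
          _ = vc * b * a := by ring
      have h8 : vc * b * a ≤ wv * b * a := mul_le_mul_of_nonneg_right h5 aP.le
      linarith
    have hab : 0 < b * a := mul_pos aR aP
    have hwv_eq : wv = vc := by
      have : wv * (b * a) = vc * (b * a) := by
        rw [← mul_assoc, ← mul_assoc]; exact hwvb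
      exact mul_right_cancel₀ hab.ne' this
    have hvi_eq : vi = vc := le_antisymm (by rw [← hwv_eq]; exact hc2) hc1
    refine ⟨hκeq, ?_, ?_⟩
    · refine weighted_eq_imp 𝓔 hw0 (fun i => (W4swparbununimod.rpoly (QVc i)).eval (m : ℝ))
        (fun i => (W4swparbununimod.rpoly (QVi i)).eval (m : ℝ)) hx2 ?_
      have h9 : vc = vi := hvi_eq.symm
      rw [hvc, hvi, eVc, eVi] at h9
      exact h9
    · refine weighted_eq_imp 𝓔 hw0 (fun i => (W4swparbununimod.rpoly (QVi i)).eval (m : ℝ))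
        (fun i => (W4swparbununimod.rpoly (QWX i)).eval (m : ℝ)) hx3 ?_
      have h9 : vi = wv := by rw [hvi_eq, hwv_eq]
      rw [hvi, hwv, eVi, eW] at h9
      exact h9
  -- polynomial consequences
  have hpolyVcVi : ∀ i : Fin (𝓔.l + 2), QVc i = QVi i := fun i =>
    rpoly_injective (eq_of_eventually_eval_eq _ _ (hkey.mono fun m hm => hm.2.1 i))
  have hpolyViW : ∀ i : Fin (𝓔.l + 2), QVi i = QWX i := fun i =>
    rpoly_injective (eq_of_eventually_eval_eq _ _ (hkey.mono fun m hm => hm.2.2 i))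
  refine ⟨?_, ?_, ?_⟩
  · -- (1)
    intro QK' QKX' hQK' hQKX'
    have e1 : QK' = QK := isHilbPoly_unique k L hQK' hQK
    have e2 : QKX' = QKX := funext fun i => isHilbPoly_unique k L (hQKX' i) (hQKX i)
    rw [e1, e2]
    apply eq_of_eventually_eval_eq
    filter_upwards [hkey] with m hm
    rw [Polynomial.eval_mul, Polynomial.eval_mul, Polynomial.eval_C, Polynomial.eval_C]
    exact hm.1
  · -- (2)
    have e0V : (𝓕.induced u).pieceX (0 : Fin (𝓔.l + 2)) = ⊤ := pieceX_zero (𝓕.induced u)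
    have e0W : (𝓕.induced ι').pieceX (0 : Fin (𝓔.l + 2)) = ⊤ := pieceX_zero (𝓕.induced ι')
    have h1 := hQVi 0
    have c1 := cVi 0
    have h2 := hQWX 0
    have c2 := cW 0
    rw [e0V] at h1 c1
    rw [e0W] at h2 c2
    have t1 : QVi 0 = QV := hilbPoly_top k L hL V hV c1 QV (QVi 0) hQV h1
    have t2 : QWX 0 = QV + pT := hilbPoly_top k L hL W' hW' c2 (QV + pT) (QWX 0) hQW h2
    have hQW' : ShStab.IsHilbPoly k X L W' QV := by
      have : QV + pT = QV := by rw [← t2, ← hpolyViW 0, t1]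
      rwa [this] at hQW
    haveI : IsIso jV := isIso_of_hp_eq k L hL jV hV hW' QV hQV hQW'
    have eC : cokernel u ≅ cokernel ι' :=
      cokernel.mapIso u ι' (asIso jV) (Iso.refl F) (by simp [hjV])
    intro G φ hφ hG nz
    haveI := hφ
    exact pure' G (φ ≫ eC.hom) inferInstance hG nz
  · -- (3)
    have hpX : ∀ i : Fin (𝓔.l + 2), (𝓔.coinduced q).pieceX i = (𝓕.induced u).pieceX i := by
      intro i
      have h2 := hQVi i
      rw [← hpolyVcVi i] at h2
      exact subobject_eq_of_hp_eq k L hL _ _ (hle i) (cVc i) (cVi i) (QVc i) (hQVc i) h2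
    have hpiece : (𝓔.coinduced q).piece = (𝓕.induced u).piece := by
      funext i
      have h1 := hpX i.castSucc
      have e1 : (𝓔.coinduced q).pieceX (Fin.castSucc (n := 𝓔.l + 1) i) = (𝓔.coinduced q).piece i :=
        (𝓔.coinduced q).pieceX_castSucc i
      have e2 : (𝓕.induced u).pieceX (Fin.castSucc (n := 𝓔.l + 1) i) = (𝓕.induced u).piece i :=
        (𝓕.induced u).pieceX_castSucc i
      exact e1.symm.trans (h1.trans e2)
    have hbot : (𝓔.coinduced q).bot = (𝓕.induced u).bot := by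
      have h1 := hpX (Fin.last (𝓔.l + 1))
      have e1 : (𝓔.coinduced q).pieceX (Fin.last (𝓔.l + 1)) = (𝓔.coinduced q).bot :=
        (𝓔.coinduced q).pieceX_last
      have e2 : (𝓕.induced u).pieceX (Fin.last (𝓔.l + 1)) = (𝓕.induced u).bot :=
        (𝓕.induced u).pieceX_last
      exact e1.symm.trans (h1.trans e2)
    intro a _ _
    show (Finset.univ.filter fun i => a ≤ (𝓔.coinduced q).wt i).sup (𝓔.coinduced q).piece ⊔
        (𝓔.coinduced q).bot =
      (Finset.univ.filter fun i => a ≤ (𝓕.induced u).wt i).sup (𝓕.induced u).piece ⊔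
        (𝓕.induced u).bot
    rw [hpiece, hbot]
    rfl

theorem s18529
    (L : X.Modules) (hL : CohB1.IsAmple L) (I : X.IdealSheafData) (hD : FGA.IsEffCartier I) (d : ℕ) (hd : 1 ≤ d)
    {E F : X.Modules} (hE : Coh.IsCoh E) (hF : Coh.IsCoh F) (hE0 : ¬ IsZero E) (hF0 : ¬ IsZero F)
    (hEp : ShStab.IsPure X E d) (hFp : ShStab.IsPure X F d)
    (hEs : topologicalKrullDim ↥(CohB1.support E ∩ (I.support : Set X)) < (d : WithBot ℕ∞))
    (hFs : topologicalKrullDim ↥(CohB1.support F ∩ (I.support : Set X)) < (d : WithBot ℕ∞))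
    (𝓔 : ParSh.Str E) (h𝓔 : 𝓔.Along I) (𝓕 : ParSh.Str F) (h𝓕 : 𝓕.Along I)
    (hcE : ∀ j, Coh.IsCoh ((𝓔.pieceX j : Subobject E) : X.Modules))
    (hcF : ∀ j, Coh.IsCoh ((𝓕.pieceX j : Subobject F) : X.Modules))
    (hw : Set.range 𝓕.wt = Set.range 𝓔.wt) (hw0 : 0 < 𝓔.wt 0)
    (P R : ℚ[X]) (hP : ShStab.IsHilbPoly k X L E P) (hR : ShStab.IsHilbPoly k X L F R)
    (PX : Fin (𝓔.l + 2) → ℚ[X]) (hPX : ∀ j, ShStab.IsHilbPoly k X L ((𝓔.pieceX j : Subobject E) : X.Modules) (PX j))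
    (RX : Fin (𝓕.l + 2) → ℚ[X]) (hRX : ∀ j, ShStab.IsHilbPoly k X L ((𝓕.pieceX j : Subobject F) : X.Modules) (RX j))
    (hssE : (∀ (W : X.Modules) (ι : W ⟶ E), Mono ι → Coh.IsCoh W → ¬ IsZero W → ShStab.IsPure X (cokernel ι) d →
        ∀ (Q : ℚ[X]) (QX : Fin (𝓔.l + 2) → ℚ[X]), ShStab.IsHilbPoly k X L W Q →
          (∀ j, ShStab.IsHilbPoly k X L (((𝓔.induced ι).pieceX j : Subobject W) : X.Modules) (QX j)) →
          ∃ M : ℕ, ∀ m : ℕ, M ≤ m →
            (W4swparbununimod.parPoly (𝓔.induced ι) QX).eval (m : ℝ) * (StabCat.alpha d P : ℝ) ≤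
              (W4swparbununimod.parPoly 𝓔 PX).eval (m : ℝ) * (StabCat.alpha d Q : ℝ)))
    (hssF : (∀ (W : X.Modules) (ι : W ⟶ F), Mono ι → Coh.IsCoh W → ¬ IsZero W → ShStab.IsPure X (cokernel ι) d →
        ∀ (Q : ℚ[X]) (QX : Fin (𝓕.l + 2) → ℚ[X]), ShStab.IsHilbPoly k X L W Q →
          (∀ j, ShStab.IsHilbPoly k X L (((𝓕.induced ι).pieceX j : Subobject W) : X.Modules) (QX j)) →
          ∃ M : ℕ, ∀ m : ℕ, M ≤ m →
            (W4swparbununimod.parPoly (𝓕.induced ι) QX).eval (m : ℝ) * (StabCat.alpha d R : ℝ) ≤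
              (W4swparbununimod.parPoly 𝓕 RX).eval (m : ℝ) * (StabCat.alpha d Q : ℝ)))
    (hred : W4swparbununimod.parPoly 𝓔 PX * Polynomial.C (StabCat.alpha d R : ℝ) =
      W4swparbununimod.parPoly 𝓕 RX * Polynomial.C (StabCat.alpha d P : ℝ))
    (f : E ⟶ F) (hf : ParSh.IsParHom 𝓔 𝓕 f)
    {K V : X.Modules} (j : K ⟶ E) [Mono j] (w : j ≫ f = 0) (hex : (ShortComplex.mk j f w).Exact)
    (q : E ⟶ V) [Epi q] (u : V ⟶ F) [Mono u] (hqu : q ≫ u = f) :
    (∀ (QK : ℚ[X]) (QKX : Fin (𝓔.l + 2) → ℚ[X]), ShStab.IsHilbPoly k X L K QK →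
        (∀ j', ShStab.IsHilbPoly k X L (((𝓔.induced j).pieceX j' : Subobject K) : X.Modules) (QKX j')) →
        W4swparbununimod.parPoly (𝓔.induced j) QKX * Polynomial.C (StabCat.alpha d P : ℝ) =
          W4swparbununimod.parPoly 𝓔 PX * Polynomial.C (StabCat.alpha d QK : ℝ)) ∧
    ShStab.IsPure X (cokernel u) d ∧
    (∀ a : ℝ, 0 ≤ a → a ≤ 1 → (𝓔.coinduced q).at a = (𝓕.induced u).at a) := by
  obtain ⟨lF, pF, bF, wF, pF0, pFa, bFle, wFm, wF0, wF1⟩ := 𝓕
  have hl : lF = 𝓔.l := by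
    have h1 : (Finset.univ.image wF : Finset ℝ) = Finset.univ.image 𝓔.wt := by
      apply Finset.coe_injective
      rw [Finset.coe_image, Finset.coe_image, Finset.coe_univ, Finset.coe_univ, Set.image_univ,
        Set.image_univ]
      exact hw
    have h2 := congrArg Finset.card h1
    rw [Finset.card_image_of_injective _ wFm.injective,
      Finset.card_image_of_injective _ 𝓔.wt_strictMono.injective, Finset.card_univ,
      Finset.card_univ, Fintype.card_fin, Fintype.card_fin] at h2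
    omega
  subst hl
  have hwt : wF = 𝓔.wt := (StrictMono.range_inj wFm 𝓔.wt_strictMono).1 hw
  subst hwt
  exact core k L hL I d hE hF hE0 hF0 hEp hFp 𝓔 pF bF pF0 pFa bFle hcE hcF hw0 P R hP hR PX hPX RX
    hRX hssE hssF hred f hf j w hex q u hqu

end Sch

end Groth.Agent.Lib.R2H7.ParHilbI
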