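/-
A complete regular local ring with coefficient field is finite free over the power series ring on
any system of parameters, of rank the length of the quotient (miracle flatness + complete Nakayama).
-/
import Mathlib
import Groth.Agent.Lib.Helper19CKRel2
import Groth.Agent.Lib.Helper19PsDim
import Groth.Agent.Lib.Helper5RLR3
import Groth.Agent.S2082
import Groth.Agent.Lib.R2H7CoeffLength

set_option autoImplicit false
universe u v w

namespace Groth.Agent.Lib.R2H7.ParamFree

open IsLocalRing MvPowerSeries

section core

variable {k A : Type u} [Field k] [CommRing A] [IsRegularLocalRing A] [Algebra k A]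
  (n : ℕ) (hn : ringKrullDim A = n)
  (hk : Function.Surjective (residue A ∘ algebraMap k A))
  (x : Fin n → A) (hx : (Ideal.span (Set.range x)).radical = maximalIdeal A)
  (φ : MvPowerSeries (Fin n) k →ₐ[k] A) (hφ : ∀ i, φ (MvPowerSeries.X i) = x i)

include hx in
theorem span_le_maximalIdeal : Ideal.span (Set.range x) ≤ maximalIdeal A := by
  rw [← hx]; exact Ideal.le_radical

include hx in
theorem maximalIdeal_mem_minimalPrimes :
    maximalIdeal A ∈ (Ideal.span (Set.range x)).minimalPrimes := by
  refine ⟨⟨inferInstance, span_le_maximalIdeal n x hx⟩, ?_⟩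
  rintro q ⟨hq, hJq⟩ -
  rw [← hx]
  exact (hq.radical_le_iff).mpr hJq

include hφ in
theorem map_maximalIdeal_eq :
    (maximalIdeal (MvPowerSeries (Fin n) k)).map φ.toRingHom = Ideal.span (Set.range x) := by
  rw [Groth.Agent.Lib.Helper19.maximalIdeal_mvPowerSeries_eq, Groth.Agent.Lib.Helper19.varsIdeal,
    Ideal.map_span, ← Set.range_comp]
  congr 2
  ext i
  exact hφ i

include hn hk hx hφ in
theorem free_aux [IsAdicComplete (maximalIdeal A) A] :
    ∃ (_ : Algebra (MvPowerSeries (Fin n) k) A),
      (∀ r, algebraMap (MvPowerSeries (Fin n) k) A r = φ r) ∧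
      Module.Finite (MvPowerSeries (Fin n) k) A ∧ Module.Free (MvPowerSeries (Fin n) k) A := by
  set J := Ideal.span (Set.range x) with hJ
  have hNoeth : IsNoetherianRing A := inferInstance
  let algPA : Algebra (MvPowerSeries (Fin n) k) A := φ.toRingHom.toAlgebra
  have halg : ∀ r, algebraMap (MvPowerSeries (Fin n) k) A r = φ r := fun r => rfl
  have : IsScalarTower k (MvPowerSeries (Fin n) k) A :=
    IsScalarTower.of_algebraMap_eq (fun c => (φ.commutes c).symm)
  have hJm : J ≤ maximalIdeal A := span_le_maximalIdeal n x hx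
  have hloc : ∀ i, algebraMap (MvPowerSeries (Fin n) k) A (X i) ∈ maximalIdeal A := fun i => by
    rw [halg, hφ]; exact hJm (Ideal.subset_span ⟨i, rfl⟩)
  have hlh : IsLocalHom (algebraMap (MvPowerSeries (Fin n) k) A) :=
    Groth.Agent.Lib.Helper19.CKRel.isLocalHom_algebraMap n hloc
  have hmap : (maximalIdeal (MvPowerSeries (Fin n) k)).map
      (algebraMap (MvPowerSeries (Fin n) k) A) = J := map_maximalIdeal_eq n x φ hφ
  have hartJ : IsArtinianRing (A ⧸ J) :=
    IsLocalRing.quotient_artinian_of_mem_minimalPrimes_of_isLocalRing J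
      (maximalIdeal_mem_minimalPrimes n x hx)
  have : Module.Finite k (ResidueField A) := by
    apply Module.Finite.of_surjective (Algebra.linearMap k (ResidueField A))
    intro y
    obtain ⟨c, hc⟩ := hk y
    exact ⟨c, hc⟩
  have hfin : Module.Finite (MvPowerSeries (Fin n) k) A :=
    Groth.Agent.Lib.Helper19.CKRel.finite_of_isArtinianRing_quotient n hloc (by rw [hmap]; exact hartJ)
  have : LocCoh.IsCohenMacaulayLocalRing A :=
    Groth.Agent.Lib.Helper5.isCohenMacaulayLocalRing_of_isRegularLocalRing A
  have hJtop : J ≠ ⊤ := fun h => (maximalIdeal.isMaximal A).ne_top (top_le_iff.mp (h ▸ hJm))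
  have : Nontrivial (A ⧸ J) := Ideal.Quotient.nontrivial_iff.mpr hJtop
  have hdim0 : ringKrullDim (A ⧸ (maximalIdeal (MvPowerSeries (Fin n) k)).map
      (algebraMap (MvPowerSeries (Fin n) k) A)) = 0 := by
    rw [hmap]
    exact ringKrullDimZero_iff_ringKrullDim_eq_zero.mp inferInstance
  have hflat : Module.Flat (MvPowerSeries (Fin n) k) A := by
    apply Groth.Agent.S2082.result
    rw [hdim0, add_zero, hn, Groth.Agent.Lib.Helper19.ringKrullDim_mvPowerSeries]
  exact ⟨algPA, halg, hfin, Module.free_of_flat_of_isLocalRing⟩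

include hn hk hx hφ in
theorem core [IsAdicComplete (maximalIdeal A) A] :
    ∃ (d : ℕ) (b : Fin d → A), (d : ℕ∞) = Module.length A (A ⧸ Ideal.span (Set.range x)) ∧
      Function.Bijective (fun r : Fin d → MvPowerSeries (Fin n) k => ∑ i, φ (r i) * b i) := by
  obtain ⟨algPA, halg, hfin, hfree⟩ := free_aux n hn hk x hx φ hφ
  set J := Ideal.span (Set.range x) with hJ
  have hNoeth : IsNoetherianRing A := inferInstance
  have hmap : (maximalIdeal (MvPowerSeries (Fin n) k)).map φ.toRingHom = J :=
    map_maximalIdeal_eq n x φ hφ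
  let d := Module.finrank (MvPowerSeries (Fin n) k) A
  let b : Module.Basis (Fin d) (MvPowerSeries (Fin n) k) A := Module.finBasis _ _
  have hsmul : ∀ (r : MvPowerSeries (Fin n) k) (a : A), r • a = φ r * a := fun r a => by
    rw [Algebra.smul_def, halg]
  have hsum : ∀ r : Fin d → MvPowerSeries (Fin n) k,
      b.equivFun.symm r = ∑ i, φ (r i) * b i := by
    intro r
    rw [Module.Basis.equivFun_symm_apply]
    exact Finset.sum_congr rfl (fun i _ => hsmul _ _)
  refine ⟨d, fun i => b i, ?_, ?_⟩
  · -- the length
    have hartJ : IsArtinianRing (A ⧸ J) :=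
      IsLocalRing.quotient_artinian_of_mem_minimalPrimes_of_isLocalRing J
        (maximalIdeal_mem_minimalPrimes n x hx)
    have hartM : IsArtinian A (A ⧸ J) :=
      isArtinian_of_surjective_algebraMap (R := A ⧸ J) (S := A) (M := A ⧸ J)
        Ideal.Quotient.mk_surjective
    have hne : Module.length A (A ⧸ J) ≠ ⊤ := Module.length_ne_top
    obtain ⟨e, he⟩ := ENat.ne_top_iff_exists.mp hne
    obtain ⟨hQfin, hQrank⟩ := Groth.Agent.Lib.R2H7.CoeffLength.finite_and_finrank_eq hk e (A ⧸ J)
      he.symm
    -- the comparison map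
    let Θ : (Fin d → k) →ₗ[k] (A ⧸ J) :=
      Fintype.linearCombination k (fun i => Ideal.Quotient.mk J (b i))
    have hΘ : ∀ c : Fin d → k, Θ c = Ideal.Quotient.mk J (∑ i, φ (C (c i)) * b i) := by
      intro c
      rw [Fintype.linearCombination_apply, map_sum]
      apply Finset.sum_congr rfl
      intro i _
      have h1 : φ (C (c i)) = algebraMap k A (c i) := φ.commutes (c i)
      rw [h1, map_mul, Algebra.smul_def]
      rfl
    have hΘinj : Function.Injective Θ := by
      rw [injective_iff_map_eq_zero]
      intro c hc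
      rw [hΘ, Ideal.Quotient.eq_zero_iff_mem] at hc
      obtain ⟨a, ha⟩ := (Ideal.mem_span_range_iff_exists_fun).mp hc
      have h1 : b.equivFun (∑ i, φ (C (c i)) * b i) = fun i => C (c i) := by
        rw [← hsum, LinearEquiv.apply_symm_apply]
      have h2 : (∑ j, a j * x j) = ∑ j, (X j : MvPowerSeries (Fin n) k) • a j := by
        apply Finset.sum_congr rfl
        intro j _
        rw [hsmul, hφ, mul_comm]
      rw [← ha, h2, map_sum] at h1
      funext i
      have h3 := congrArg (fun f => constantCoeff (f i)) h1
      simp only [Finset.sum_apply, map_smul, Pi.smul_apply, smul_eq_mul, map_sum, map_mul,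
        constantCoeff_X, zero_mul, Finset.sum_const_zero, constantCoeff_C] at h3
      exact h3.symm
    have hΘsurj : Function.Surjective Θ := by
      intro q
      obtain ⟨a, rfl⟩ := Ideal.Quotient.mk_surjective q
      obtain ⟨r, rfl⟩ : ∃ r : Fin d → MvPowerSeries (Fin n) k, a = ∑ i, φ (r i) * b i :=
        ⟨b.equivFun a, by rw [← hsum, LinearEquiv.symm_apply_apply]⟩
      refine ⟨fun i => constantCoeff (r i), ?_⟩
      rw [hΘ, ← sub_eq_zero, ← map_sub, Ideal.Quotient.eq_zero_iff_mem, ← Finset.sum_sub_distrib]
      apply Ideal.sum_mem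
      intro i _
      rw [← sub_mul, ← map_sub]
      apply Ideal.mul_mem_right
      rw [← hmap]
      apply Ideal.mem_map_of_mem
      rw [mem_maximalIdeal, mem_nonunits_iff, MvPowerSeries.isUnit_iff_constantCoeff, map_sub,
        constantCoeff_C, sub_self]
      exact not_isUnit_zero
    have hrank : Module.finrank k (A ⧸ J) = d := by
      rw [← (LinearEquiv.ofBijective Θ ⟨hΘinj, hΘsurj⟩).finrank_eq, Module.finrank_fin_fun]
    rw [← he]
    have : e = d := by rw [← hQrank, hrank]
    rw [this]
  · have : (fun r : Fin d → MvPowerSeries (Fin n) k => ∑ i, φ (r i) * b i) = b.equivFun.symm := by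
      funext r
      exact (hsum r).symm
    rw [this]
    exact b.equivFun.symm.bijective

end core

section transport

variable {A : Type u} [CommRing A] [IsRegularLocalRing A] [IsAdicComplete (maximalIdeal A) A]
  {k : Type v} [Field k] [Algebra k A]

/-- A complete regular local ring is finite free over the power series ring on a system of
parameters, of rank the length of the quotient. -/
theorem main (n : ℕ) (hn : ringKrullDim A = n)
    (hk : Function.Surjective (residue A ∘ algebraMap k A))
    (x : Fin n → A) (hx : (Ideal.span (Set.range x)).radical = maximalIdeal A)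
    (φ : MvPowerSeries (Fin n) k →ₐ[k] A) (hφ : ∀ i, φ (MvPowerSeries.X i) = x i) :
    ∃ (d : ℕ) (b : Fin d → A), (d : ℕ∞) = Module.length A (A ⧸ Ideal.span (Set.range x)) ∧
      Function.Bijective (fun r : Fin d → MvPowerSeries (Fin n) k => ∑ i, φ (r i) * b i) := by
  let f : k →+* ResidueField A := (residue A).comp (algebraMap k A)
  have hf : Function.Bijective f := ⟨f.injective, hk⟩
  let e : k ≃+* ResidueField A := RingEquiv.ofBijective f hf
  let es : ResidueField A →+* k := (e.symm : ResidueField A →+* k)
  let ef : k →+* ResidueField A := (e : k →+* ResidueField A)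
  let algκ : Algebra (ResidueField A) A := ((algebraMap k A).comp es).toAlgebra
  have hk' : Function.Surjective (residue A ∘ algebraMap (ResidueField A) A) := by
    intro c
    refine ⟨c, ?_⟩
    change residue A (algebraMap k A (e.symm c)) = c
    exact e.apply_symm_apply c
  let φ' : MvPowerSeries (Fin n) (ResidueField A) →ₐ[ResidueField A] A :=
    { toRingHom := φ.toRingHom.comp (MvPowerSeries.map es)
      commutes' := fun c => by
        change φ (MvPowerSeries.map es (algebraMap _ _ c)) = algebraMap k A (es c)
        rw [MvPowerSeries.algebraMap_apply, Algebra.algebraMap_self, RingHom.id_apply,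
          MvPowerSeries.map_C]
        exact φ.commutes (es c) }
  have hφ'app : ∀ r, φ' r = φ (MvPowerSeries.map es r) := fun r => rfl
  have hφ' : ∀ i, φ' (MvPowerSeries.X i) = x i := by
    intro i
    rw [hφ'app, MvPowerSeries.map_X, hφ]
  obtain ⟨d, b, hd, hbij⟩ := core n hn hk' x hx φ' hφ'
  refine ⟨d, b, hd, ?_⟩
  have hcomp : es.comp ef = RingHom.id k := e.symm_toRingHom_comp_toRingHom
  have hcomp' : ef.comp es = RingHom.id (ResidueField A) := e.toRingHom_comp_symm_toRingHom
  have h1 : ∀ r : MvPowerSeries (Fin n) k,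
      MvPowerSeries.map es (MvPowerSeries.map ef r) = r := by
    intro r
    rw [← RingHom.comp_apply, ← MvPowerSeries.map_comp, hcomp, MvPowerSeries.map_id,
      RingHom.id_apply]
  have h2 : ∀ r : MvPowerSeries (Fin n) (ResidueField A),
      MvPowerSeries.map ef (MvPowerSeries.map es r) = r := by
    intro r
    rw [← RingHom.comp_apply, ← MvPowerSeries.map_comp, hcomp', MvPowerSeries.map_id,
      RingHom.id_apply]
  have hG : Function.Bijective (fun (r : Fin d → MvPowerSeries (Fin n) k) (i : Fin d) =>
      MvPowerSeries.map ef (r i)) := by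
    rw [Function.bijective_iff_has_inverse]
    refine ⟨fun r' i => MvPowerSeries.map es (r' i), ?_, ?_⟩
    · intro r
      funext i
      exact h1 (r i)
    · intro r'
      funext i
      exact h2 (r' i)
  have hF : (fun r : Fin d → MvPowerSeries (Fin n) k => ∑ i, φ (r i) * b i) =
      (fun r' : Fin d → MvPowerSeries (Fin n) (ResidueField A) => ∑ i, φ' (r' i) * b i) ∘
        (fun (r : Fin d → MvPowerSeries (Fin n) k) (i : Fin d) => MvPowerSeries.map ef (r i)) := by
    funext r
    change _ = ∑ i, φ' (MvPowerSeries.map ef (r i)) * b i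
    apply Finset.sum_congr rfl
    intro i _
    rw [hφ'app, h1]
  rw [hF]
  exact hbij.comp hG

end transport

end Groth.Agent.Lib.R2H7.ParamFree
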