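import Mathlib

/-!
# Tensoring with an invertible object is an equivalence
-/

namespace Groth.Agent.Lib.R2H7.Picard

open CategoryTheory MonoidalCategory

universe v u

variable {C : Type u} [Category.{v} C] [MonoidalCategory C]

/-- if `X ⊗ Y ≅ 𝟙` and `Y ⊗ X ≅ 𝟙` then `tensorLeft X` is an equivalence -/
noncomputable def tensorLeftEquiv {X Y : C} (e : X ⊗ Y ≅ 𝟙_ C) (e' : Y ⊗ X ≅ 𝟙_ C) : C ≌ C :=
  CategoryTheory.Equivalence.mk (tensorLeft X) (tensorLeft Y)
    (NatIso.ofComponents (fun Z => (λ_ Z).symm ≪≫ whiskerRightIso e'.symm Z ≪≫ α_ Y X Z)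
      (by
        intro Z Z' f
        dsimp
        simp only [Category.assoc, whiskerRightIso_hom, whiskerLeftIso_hom, Iso.symm_hom]
        rw [leftUnitor_inv_naturality_assoc, whisker_exchange_assoc, associator_naturality_right]))
    (NatIso.ofComponents (fun Z => (α_ X Y Z).symm ≪≫ whiskerRightIso e Z ≪≫ λ_ Z)
      (by
        intro Z Z' f
        dsimp
        simp only [Category.assoc, whiskerRightIso_hom, whiskerLeftIso_hom, Iso.symm_hom]
        rw [associator_inv_naturality_right_assoc, whisker_exchange_assoc,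
          leftUnitor_naturality]))

/-- if `X ⊗ Y ≅ 𝟙` and `Y ⊗ X ≅ 𝟙` then `tensorRight X` is an equivalence -/
noncomputable def tensorRightEquiv {X Y : C} (e : X ⊗ Y ≅ 𝟙_ C) (e' : Y ⊗ X ≅ 𝟙_ C) : C ≌ C :=
  CategoryTheory.Equivalence.mk (tensorRight X) (tensorRight Y)
    (NatIso.ofComponents (fun Z => (ρ_ Z).symm ≪≫ whiskerLeftIso Z e.symm ≪≫ (α_ Z X Y).symm)
      (by
        intro Z Z' f
        dsimp
        simp only [Category.assoc, whiskerRightIso_hom, whiskerLeftIso_hom, Iso.symm_hom]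
        rw [rightUnitor_inv_naturality_assoc, ← whisker_exchange_assoc,
          associator_inv_naturality_left]))
    (NatIso.ofComponents (fun Z => α_ Z Y X ≪≫ whiskerLeftIso Z e' ≪≫ ρ_ Z)
      (by
        intro Z Z' f
        dsimp
        simp only [Category.assoc, whiskerRightIso_hom, whiskerLeftIso_hom, Iso.symm_hom]
        rw [associator_naturality_left_assoc, ← whisker_exchange_assoc, rightUnitor_naturality]))

theorem tensorLeft_isEquivalence {X Y : C} (e : X ⊗ Y ≅ 𝟙_ C) (e' : Y ⊗ X ≅ 𝟙_ C) :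
    (tensorLeft X).IsEquivalence :=
  (tensorLeftEquiv e e').isEquivalence_functor

theorem tensorRight_isEquivalence {X Y : C} (e : X ⊗ Y ≅ 𝟙_ C) (e' : Y ⊗ X ≅ 𝟙_ C) :
    (tensorRight X).IsEquivalence :=
  (tensorRightEquiv e e').isEquivalence_functor

theorem tensor_isEquivalence_of_braided [BraidedCategory C] {X Y : C} (e : X ⊗ Y ≅ 𝟙_ C) :
    (tensorLeft X).IsEquivalence ∧ (tensorRight X).IsEquivalence :=
  ⟨tensorLeft_isEquivalence e ((β_ Y X) ≪≫ e), tensorRight_isEquivalence e ((β_ Y X) ≪≫ e)⟩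

end Groth.Agent.Lib.R2H7.Picard
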