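import Mathlib

/-!
# The free Picard groupoid on a symmetric monoidal category (Picardification)

Objects are formal expressions built from the objects of `A`, a unit, tensor products and formal
inverses.  Morphisms are formal composites of the structure morphisms of a symmetric monoidal
category, the images of the morphisms of `A`, the lax structure maps `μ`, `ε` of the inclusion,
evaluation maps `η X : X ⊗ X⁻¹ ⟶ 𝟙` and formal inverses of all of these, modulo the relations making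
the result a symmetric monoidal groupoid and the inclusion a lax braided functor.
-/

namespace Groth.Agent.Lib.R2H7.Picard

open CategoryTheory MonoidalCategory

universe v u

variable (A : Type u) [Category.{v} A] [MonoidalCategory A] [SymmetricCategory A]

/-- formal objects -/
inductive Obj : Type u
  | of : A → Obj
  | unit : Obj
  | tensor : Obj → Obj → Obj
  | inv : Obj → Obj

variable {A}

/-- formal morphisms -/
inductive Hom : Obj A → Obj A → Type (max u v)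
  | id (X : Obj A) : Hom X X
  | comp {X Y Z : Obj A} (f : Hom X Y) (g : Hom Y Z) : Hom X Z
  | sinv {X Y : Obj A} (f : Hom X Y) : Hom Y X
  | of {a b : A} (f : a ⟶ b) : Hom (Obj.of a) (Obj.of b)
  | tensor {W X Y Z : Obj A} (f : Hom W Y) (g : Hom X Z) : Hom (W.tensor X) (Y.tensor Z)
  | α (X Y Z : Obj A) : Hom ((X.tensor Y).tensor Z) (X.tensor (Y.tensor Z))
  | l (X : Obj A) : Hom (Obj.unit.tensor X) X
  | ρ (X : Obj A) : Hom (X.tensor Obj.unit) X
  | β (X Y : Obj A) : Hom (X.tensor Y) (Y.tensor X)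
  | μ (a b : A) : Hom ((Obj.of a).tensor (Obj.of b)) (Obj.of (a ⊗ b))
  | ε : Hom Obj.unit (Obj.of (𝟙_ A))
  | η (X : Obj A) : Hom (X.tensor X.inv) Obj.unit

/-- the relations -/
inductive HRel : ∀ {X Y : Obj A}, Hom X Y → Hom X Y → Prop
  | refl {X Y} (f : Hom X Y) : HRel f f
  | symm {X Y} (f g : Hom X Y) : HRel f g → HRel g f
  | trans {X Y} {f g h : Hom X Y} : HRel f g → HRel g h → HRel f h
  | comp {X Y Z} {f f' : Hom X Y} {g g' : Hom Y Z} :
      HRel f f' → HRel g g' → HRel (f.comp g) (f'.comp g')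
  | tensor {W X Y Z} {f f' : Hom W X} {g g' : Hom Y Z} :
      HRel f f' → HRel g g' → HRel (f.tensor g) (f'.tensor g')
  | sinv {X Y} {f f' : Hom X Y} : HRel f f' → HRel f.sinv f'.sinv
  | comp_id {X Y} (f : Hom X Y) : HRel (f.comp (Hom.id _)) f
  | id_comp {X Y} (f : Hom X Y) : HRel ((Hom.id _).comp f) f
  | assoc {X Y U V : Obj A} (f : Hom X U) (g : Hom U V) (h : Hom V Y) :
      HRel ((f.comp g).comp h) (f.comp (g.comp h))
  | comp_sinv {X Y} (f : Hom X Y) : HRel (f.comp f.sinv) (Hom.id _)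
  | sinv_comp {X Y} (f : Hom X Y) : HRel (f.sinv.comp f) (Hom.id _)
  | tensor_id {X Y : Obj A} : HRel ((Hom.id X).tensor (Hom.id Y)) (Hom.id _)
  | tensor_comp {X₁ Y₁ Z₁ X₂ Y₂ Z₂ : Obj A} (f₁ : Hom X₁ Y₁) (f₂ : Hom X₂ Y₂)
      (g₁ : Hom Y₁ Z₁) (g₂ : Hom Y₂ Z₂) :
      HRel ((f₁.tensor f₂).comp (g₁.tensor g₂)) ((f₁.comp g₁).tensor (f₂.comp g₂))
  | α_nat {X₁ X₂ X₃ Y₁ Y₂ Y₃ : Obj A} (f₁ : Hom X₁ Y₁) (f₂ : Hom X₂ Y₂) (f₃ : Hom X₃ Y₃) :
      HRel (((f₁.tensor f₂).tensor f₃).comp (Hom.α Y₁ Y₂ Y₃))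
        ((Hom.α X₁ X₂ X₃).comp (f₁.tensor (f₂.tensor f₃)))
  | l_nat {X Y : Obj A} (f : Hom X Y) :
      HRel (((Hom.id Obj.unit).tensor f).comp (Hom.l Y)) ((Hom.l X).comp f)
  | ρ_nat {X Y : Obj A} (f : Hom X Y) :
      HRel ((f.tensor (Hom.id Obj.unit)).comp (Hom.ρ Y)) ((Hom.ρ X).comp f)
  | pentagon {W X Y Z : Obj A} :
      HRel (((Hom.α W X Y).tensor (Hom.id Z)).comp
          ((Hom.α W (X.tensor Y) Z).comp ((Hom.id W).tensor (Hom.α X Y Z))))
        ((Hom.α (W.tensor X) Y Z).comp (Hom.α W X (Y.tensor Z)))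
  | triangle {X Y : Obj A} :
      HRel ((Hom.α X Obj.unit Y).comp ((Hom.id X).tensor (Hom.l Y)))
        ((Hom.ρ X).tensor (Hom.id Y))
  | β_nat {X₁ X₂ Y₁ Y₂ : Obj A} (f : Hom X₁ Y₁) (g : Hom X₂ Y₂) :
      HRel ((f.tensor g).comp (Hom.β Y₁ Y₂)) ((Hom.β X₁ X₂).comp (g.tensor f))
  | hexagon_forward {X Y Z : Obj A} :
      HRel ((Hom.α X Y Z).comp ((Hom.β X (Y.tensor Z)).comp (Hom.α Y Z X)))
        (((Hom.β X Y).tensor (Hom.id Z)).comp ((Hom.α Y X Z).comp ((Hom.id Y).tensor (Hom.β X Z))))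
  | hexagon_reverse {X Y Z : Obj A} :
      HRel ((Hom.α X Y Z).sinv.comp ((Hom.β (X.tensor Y) Z).comp (Hom.α Z X Y).sinv))
        (((Hom.id X).tensor (Hom.β Y Z)).comp
          ((Hom.α X Z Y).sinv.comp ((Hom.β X Z).tensor (Hom.id Y))))
  | symmetry {X Y : Obj A} : HRel ((Hom.β X Y).comp (Hom.β Y X)) (Hom.id _)
  | of_id (a : A) : HRel (Hom.of (𝟙 a)) (Hom.id _)
  | of_comp {a b c : A} (f : a ⟶ b) (g : b ⟶ c) : HRel (Hom.of (f ≫ g)) ((Hom.of f).comp (Hom.of g))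
  | μ_nat {a a' b b' : A} (f : a ⟶ b) (g : a' ⟶ b') :
      HRel (((Hom.of f).tensor (Hom.of g)).comp (Hom.μ b b')) ((Hom.μ a a').comp (Hom.of (f ⊗ₘ g)))
  | μ_assoc (a b c : A) :
      HRel (((Hom.μ a b).tensor (Hom.id (Obj.of c))).comp
          ((Hom.μ (a ⊗ b) c).comp (Hom.of (α_ a b c).hom)))
        ((Hom.α (Obj.of a) (Obj.of b) (Obj.of c)).comp
          (((Hom.id (Obj.of a)).tensor (Hom.μ b c)).comp (Hom.μ a (b ⊗ c))))
  | left_unitality (a : A) :
      HRel (Hom.l (Obj.of a))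
        ((Hom.ε.tensor (Hom.id (Obj.of a))).comp ((Hom.μ (𝟙_ A) a).comp (Hom.of (λ_ a).hom)))
  | right_unitality (a : A) :
      HRel (Hom.ρ (Obj.of a))
        (((Hom.id (Obj.of a)).tensor Hom.ε).comp ((Hom.μ a (𝟙_ A)).comp (Hom.of (ρ_ a).hom)))
  | μ_braided (a b : A) :
      HRel ((Hom.μ a b).comp (Hom.of (β_ a b).hom)) ((Hom.β (Obj.of a) (Obj.of b)).comp (Hom.μ b a))

instance setoidHom (X Y : Obj A) : Setoid (Hom X Y) :=
  ⟨HRel, ⟨HRel.refl, HRel.symm _ _, HRel.trans⟩⟩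

open HRel

instance categoryObj : Category.{max u v} (Obj A) where
  Hom X Y := Quotient (setoidHom X Y)
  id X := ⟦Hom.id X⟧
  comp := Quotient.map₂ Hom.comp (fun _ _ hf _ _ hg ↦ HRel.comp hf hg)
  id_comp := by
    rintro X Y ⟨f⟩
    exact Quotient.sound (id_comp f)
  comp_id := by
    rintro X Y ⟨f⟩
    exact Quotient.sound (comp_id f)
  assoc := by
    rintro W X Y Z ⟨f⟩ ⟨g⟩ ⟨h⟩
    exact Quotient.sound (assoc f g h)

/-- the morphism represented by a formal morphism -/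
abbrev homMk {X Y : Obj A} (f : Hom X Y) : X ⟶ Y := ⟦f⟧

theorem homMk_comp {X Y Z : Obj A} (f : Hom X Y) (g : Hom Y Z) :
    homMk (f.comp g) = homMk f ≫ homMk g := rfl

theorem homMk_id (X : Obj A) : homMk (Hom.id X) = 𝟙 X := rfl

theorem homMk_sound {X Y : Obj A} {f g : Hom X Y} (h : HRel f g) : homMk f = homMk g :=
  Quotient.sound h

/-- the associator -/
def assocIso (X Y Z : Obj A) : (X.tensor Y).tensor Z ≅ X.tensor (Y.tensor Z) where
  hom := homMk (Hom.α X Y Z)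
  inv := homMk (Hom.α X Y Z).sinv
  hom_inv_id := Quotient.sound (comp_sinv _)
  inv_hom_id := Quotient.sound (sinv_comp _)

/-- the left unitor -/
def lIso (X : Obj A) : Obj.unit.tensor X ≅ X where
  hom := homMk (Hom.l X)
  inv := homMk (Hom.l X).sinv
  hom_inv_id := Quotient.sound (comp_sinv _)
  inv_hom_id := Quotient.sound (sinv_comp _)

/-- the right unitor -/
def ρIso (X : Obj A) : X.tensor Obj.unit ≅ X where
  hom := homMk (Hom.ρ X)
  inv := homMk (Hom.ρ X).sinv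
  hom_inv_id := Quotient.sound (comp_sinv _)
  inv_hom_id := Quotient.sound (sinv_comp _)

/-- the tensor product of morphisms -/
def tensorHom' {X₁ Y₁ X₂ Y₂ : Obj A} : (X₁ ⟶ Y₁) → (X₂ ⟶ Y₂) → (X₁.tensor X₂ ⟶ Y₁.tensor Y₂) :=
  Quotient.map₂ Hom.tensor (fun _ _ hf _ _ hg ↦ HRel.tensor hf hg)

instance : MonoidalCategoryStruct (Obj A) where
  tensorObj X Y := X.tensor Y
  tensorHom := tensorHom'
  whiskerLeft X _ _ f := tensorHom' (𝟙 X) f
  whiskerRight f Y := tensorHom' f (𝟙 Y)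
  tensorUnit := Obj.unit
  associator := assocIso
  leftUnitor := lIso
  rightUnitor := ρIso

theorem homMk_tensor {X₁ Y₁ X₂ Y₂ : Obj A} (f : Hom X₁ Y₁) (g : Hom X₂ Y₂) :
    homMk (f.tensor g) = homMk f ⊗ₘ homMk g := rfl

instance : MonoidalCategory (Obj A) :=
  MonoidalCategory.ofTensorHom
    (id_tensorHom_id := fun _ _ => Quotient.sound tensor_id)
    (id_tensorHom := fun _ _ _ _ => rfl)
    (tensorHom_id := fun _ _ => rfl)
    (tensorHom_comp_tensorHom := by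
      rintro X₁ Y₁ Z₁ X₂ Y₂ Z₂ ⟨f₁⟩ ⟨f₂⟩ ⟨g₁⟩ ⟨g₂⟩
      exact Quotient.sound (tensor_comp _ _ _ _))
    (associator_naturality := by
      rintro X₁ X₂ X₃ Y₁ Y₂ Y₃ ⟨f₁⟩ ⟨f₂⟩ ⟨f₃⟩
      exact Quotient.sound (α_nat _ _ _))
    (leftUnitor_naturality := by
      rintro X Y ⟨f⟩
      exact Quotient.sound (l_nat _))
    (rightUnitor_naturality := by
      rintro X Y ⟨f⟩
      exact Quotient.sound (ρ_nat _))
    (pentagon := fun _ _ _ _ => Quotient.sound pentagon)
    (triangle := fun _ _ => Quotient.sound triangle)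

/-- the braiding -/
def βIso (X Y : Obj A) : X ⊗ Y ≅ Y ⊗ X where
  hom := homMk (Hom.β X Y)
  inv := homMk (Hom.β Y X)
  hom_inv_id := Quotient.sound symmetry
  inv_hom_id := Quotient.sound symmetry

instance : BraidedCategory (Obj A) where
  braiding := βIso
  braiding_naturality_right := by
    rintro X Y Z ⟨f⟩
    exact Quotient.sound (β_nat (Hom.id X) f)
  braiding_naturality_left := by
    rintro X Y ⟨f⟩ Z
    exact Quotient.sound (β_nat f (Hom.id Z))
  hexagon_forward := fun _ _ _ => Quotient.sound hexagon_forward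
  hexagon_reverse := fun _ _ _ => Quotient.sound hexagon_reverse

instance : SymmetricCategory (Obj A) where
  symmetry := fun _ _ => Quotient.sound symmetry

instance : IsGroupoid (Obj A) where
  all_isIso := by
    rintro X Y ⟨f⟩
    exact ⟨⟨homMk f.sinv, Quotient.sound (comp_sinv f), Quotient.sound (sinv_comp f)⟩⟩

theorem homMk_α (X Y Z : Obj A) : homMk (Hom.α X Y Z) = (α_ X Y Z).hom := rfl
theorem homMk_l (X : Obj A) : homMk (Hom.l X) = (λ_ X).hom := rfl
theorem homMk_ρ (X : Obj A) : homMk (Hom.ρ X) = (ρ_ X).hom := rfl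
theorem homMk_β (X Y : Obj A) : homMk (Hom.β X Y) = (β_ X Y).hom := rfl

theorem homMk_sinv {X Y : Obj A} (f : Hom X Y) : homMk f.sinv = inv (homMk f) := by
  symm
  apply IsIso.inv_eq_of_hom_inv_id
  exact Quotient.sound (comp_sinv f)

/-- the evaluation isomorphism `X ⊗ X⁻¹ ≅ 𝟙` -/
noncomputable def ηIso (X : Obj A) : X ⊗ X.inv ≅ 𝟙_ (Obj A) := asIso (homMk (Hom.η X))

end Groth.Agent.Lib.R2H7.Picard
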