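import Mathlib
import Groth.Agent.Lib.R2H7PicFree
import Groth.Agent.Lib.R2H7PicEquiv

namespace Groth.Agent.Lib.R2H7.Picard

open CategoryTheory MonoidalCategory

universe v u

variable {A : Type u} [Category.{v} A] [MonoidalCategory A] [SymmetricCategory A]

open HRel

variable (A) in
/-- the inclusion -/
def incl : A ⥤ Obj A where
  obj a := Obj.of a
  map f := homMk (Hom.of f)
  map_id a := Quotient.sound (of_id a)
  map_comp f g := Quotient.sound (of_comp f g)

theorem incl_obj (a : A) : (incl A).obj a = Obj.of a := rfl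
theorem incl_map {a b : A} (f : a ⟶ b) : (incl A).map f = homMk (Hom.of f) := rfl

instance : (incl A).LaxBraided where
  ε := homMk Hom.ε
  μ a b := homMk (Hom.μ a b)
  μ_natural_left := by
    intro a b f c
    have h1 : homMk (((Hom.of f).tensor (Hom.of (𝟙 c))).comp (Hom.μ b c)) =
        homMk ((Hom.μ a c).comp (Hom.of (f ⊗ₘ 𝟙 c))) := Quotient.sound (μ_nat f (𝟙 c))
    have h2 : homMk (Hom.of (𝟙 c)) = 𝟙 (Obj.of c) := Quotient.sound (of_id c)
    rw [homMk_comp, homMk_comp, homMk_tensor, h2, MonoidalCategory.tensorHom_id,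
      MonoidalCategory.tensorHom_id] at h1
    exact h1
  μ_natural_right := by
    intro a b c f
    have h1 : homMk (((Hom.of (𝟙 c)).tensor (Hom.of f)).comp (Hom.μ c b)) =
        homMk ((Hom.μ c a).comp (Hom.of (𝟙 c ⊗ₘ f))) := Quotient.sound (μ_nat (𝟙 c) f)
    have h2 : homMk (Hom.of (𝟙 c)) = 𝟙 (Obj.of c) := Quotient.sound (of_id c)
    rw [homMk_comp, homMk_comp, homMk_tensor, h2, MonoidalCategory.id_tensorHom,
      MonoidalCategory.id_tensorHom] at h1
    exact h1
  associativity := by
    intro a b c
    have h1 := homMk_sound (μ_assoc a b c)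
    rw [homMk_comp, homMk_comp, homMk_comp, homMk_comp, homMk_tensor, homMk_tensor, homMk_id,
      homMk_id, MonoidalCategory.tensorHom_id, MonoidalCategory.id_tensorHom] at h1
    exact h1
  left_unitality := by
    intro a
    have h1 := homMk_sound (left_unitality a)
    rw [homMk_comp, homMk_comp, homMk_tensor, homMk_id, MonoidalCategory.tensorHom_id] at h1
    exact h1
  right_unitality := by
    intro a
    have h1 := homMk_sound (right_unitality a)
    rw [homMk_comp, homMk_comp, homMk_tensor, homMk_id, MonoidalCategory.id_tensorHom] at h1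
    exact h1
  braided := by
    intro a b
    exact homMk_sound (μ_braided a b)

theorem incl_ε : Functor.LaxMonoidal.ε (incl A) = homMk Hom.ε := rfl
theorem incl_μ (a b : A) : Functor.LaxMonoidal.μ (incl A) a b = homMk (Hom.μ a b) := rfl

theorem isPicard (X : Obj A) : (tensorLeft X).IsEquivalence ∧ (tensorRight X).IsEquivalence :=
  tensor_isEquivalence_of_braided (ηIso X)

end Groth.Agent.Lib.R2H7.Picard
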