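import Mathlib

/-!
# Families of morphisms compatible with the lax monoidal structures

For lax monoidal functors `F G : C ⥤ D` into a monoidal groupoid and a family
`θ X : F.obj X ⟶ G.obj X` compatible with the units and the tensorators, the class of morphisms
of `C` for which `θ` is natural is closed under composition, inverses, tensor products and contains
all structure morphisms.
-/

namespace Groth.Agent.Lib.R2H7.Picard

open CategoryTheory MonoidalCategory Functor.LaxMonoidal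

universe v₁ u₁ v₂ u₂

variable {C : Type u₁} [Category.{v₁} C] [MonoidalCategory C]
variable {D : Type u₂} [Category.{v₂} D] [MonoidalCategory D] [IsGroupoid D]
variable (F G : C ⥤ D)
variable (θ : ∀ X : C, F.obj X ⟶ G.obj X)

/-- naturality of a family at a morphism -/
def IsNatAt {X Y : C} (f : X ⟶ Y) : Prop := F.map f ≫ θ Y = θ X ≫ G.map f

variable {F G θ}

theorem isNatAt_id (X : C) : IsNatAt F G θ (𝟙 X) := by
  unfold IsNatAt
  rw [F.map_id, G.map_id, Category.id_comp, Category.comp_id]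

theorem isNatAt_comp {X Y Z : C} {f : X ⟶ Y} {g : Y ⟶ Z} (hf : IsNatAt F G θ f)
    (hg : IsNatAt F G θ g) : IsNatAt F G θ (f ≫ g) := by
  unfold IsNatAt at *
  rw [F.map_comp, G.map_comp, Category.assoc, hg, ← Category.assoc, hf, Category.assoc]

theorem isNatAt_inv {X Y : C} {f : X ⟶ Y} [IsIso f] (hf : IsNatAt F G θ f) :
    IsNatAt F G θ (inv f) := by
  unfold IsNatAt at *
  rw [F.map_inv, G.map_inv, IsIso.inv_comp_eq, ← Category.assoc, hf, Category.assoc,
    IsIso.hom_inv_id, Category.comp_id]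

section Lax

variable [F.LaxMonoidal] [G.LaxMonoidal]
variable (hunit : ε F ≫ θ (𝟙_ C) = ε G)
  (htensor : ∀ X Y : C, μ F X Y ≫ θ (X ⊗ Y) = (θ X ⊗ₘ θ Y) ≫ μ G X Y)

include htensor in
theorem isNatAt_tensorHom {X Y X' Y' : C} {f : X ⟶ Y} {g : X' ⟶ Y'} (hf : IsNatAt F G θ f)
    (hg : IsNatAt F G θ g) : IsNatAt F G θ (f ⊗ₘ g) := by
  unfold IsNatAt at *
  rw [← cancel_epi (μ F X X'), ← Category.assoc, ← μ_natural, Category.assoc, htensor,
    ← Category.assoc, MonoidalCategory.tensorHom_comp_tensorHom, hf, hg,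
    ← MonoidalCategory.tensorHom_comp_tensorHom, Category.assoc, μ_natural, ← Category.assoc,
    ← htensor, Category.assoc]

include htensor in
theorem isNatAt_associator (X Y Z : C) : IsNatAt F G θ (α_ X Y Z).hom := by
  unfold IsNatAt
  rw [← cancel_epi (μ F (X ⊗ Y) Z), ← cancel_epi (μ F X Y ▷ F.obj Z)]
  have h1 : μ F X Y ▷ F.obj Z ≫ μ F (X ⊗ Y) Z ≫ F.map (α_ X Y Z).hom ≫ θ (X ⊗ Y ⊗ Z) =
      (α_ _ _ _).hom ≫ ((θ X ⊗ₘ (θ Y ⊗ₘ θ Z)) ≫ G.obj X ◁ μ G Y Z) ≫ μ G X (Y ⊗ Z) := by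
    rw [← Category.assoc, ← Category.assoc, Category.assoc (μ F X Y ▷ F.obj Z),
      Functor.LaxMonoidal.associativity, Category.assoc, Category.assoc, htensor,
      ← MonoidalCategory.id_tensorHom, ← Category.assoc (𝟙 (F.obj X) ⊗ₘ μ F Y Z),
      MonoidalCategory.tensorHom_comp_tensorHom, Category.id_comp, htensor,
      ← MonoidalCategory.id_tensorHom, MonoidalCategory.tensorHom_comp_tensorHom,
      Category.comp_id]
  have h2 : μ F X Y ▷ F.obj Z ≫ μ F (X ⊗ Y) Z ≫ θ ((X ⊗ Y) ⊗ Z) ≫ G.map (α_ X Y Z).hom =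
      (((θ X ⊗ₘ θ Y) ⊗ₘ θ Z) ≫ μ G X Y ▷ G.obj Z) ≫ μ G (X ⊗ Y) Z ≫ G.map (α_ X Y Z).hom := by
    rw [← Category.assoc (μ F (X ⊗ Y) Z), htensor, ← MonoidalCategory.tensorHom_id,
      Category.assoc, ← Category.assoc (μ F X Y ⊗ₘ 𝟙 (F.obj Z)),
      MonoidalCategory.tensorHom_comp_tensorHom, Category.id_comp, htensor,
      ← MonoidalCategory.tensorHom_id, MonoidalCategory.tensorHom_comp_tensorHom,
      Category.comp_id]
  rw [h1, h2, Category.assoc, Category.assoc, Functor.LaxMonoidal.associativity,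
    MonoidalCategory.associator_naturality_assoc]

include hunit htensor in
theorem isNatAt_leftUnitor (X : C) : IsNatAt F G θ (λ_ X).hom := by
  unfold IsNatAt
  rw [← cancel_epi (μ F (𝟙_ C) X), ← cancel_epi (ε F ▷ F.obj X)]
  have h1 : ε F ▷ F.obj X ≫ μ F (𝟙_ C) X ≫ F.map (λ_ X).hom ≫ θ X = (λ_ _).hom ≫ θ X := by
    rw [← Category.assoc, ← Category.assoc, Category.assoc (ε F ▷ F.obj X),
      ← Functor.LaxMonoidal.left_unitality]
  have h2 : ε F ▷ F.obj X ≫ μ F (𝟙_ C) X ≫ θ (𝟙_ C ⊗ X) ≫ G.map (λ_ X).hom =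
      (𝟙_ D ◁ θ X) ≫ (λ_ _).hom := by
    rw [← Category.assoc (μ F (𝟙_ C) X), htensor, ← MonoidalCategory.tensorHom_id,
      Category.assoc, ← Category.assoc (ε F ⊗ₘ 𝟙 (F.obj X)),
      MonoidalCategory.tensorHom_comp_tensorHom, Category.id_comp, hunit,
      Functor.LaxMonoidal.left_unitality (F := G), ← MonoidalCategory.id_tensorHom,
      ← MonoidalCategory.tensorHom_id, ← Category.assoc (𝟙 (𝟙_ D) ⊗ₘ θ X),
      MonoidalCategory.tensorHom_comp_tensorHom, Category.id_comp, Category.comp_id]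
  rw [h1, h2, MonoidalCategory.leftUnitor_naturality]

include hunit htensor in
theorem isNatAt_rightUnitor (X : C) : IsNatAt F G θ (ρ_ X).hom := by
  unfold IsNatAt
  rw [← cancel_epi (μ F X (𝟙_ C)), ← cancel_epi (F.obj X ◁ ε F)]
  have h1 : F.obj X ◁ ε F ≫ μ F X (𝟙_ C) ≫ F.map (ρ_ X).hom ≫ θ X = (ρ_ _).hom ≫ θ X := by
    rw [← Category.assoc, ← Category.assoc, Category.assoc (F.obj X ◁ ε F),
      ← Functor.LaxMonoidal.right_unitality]
  have h2 : F.obj X ◁ ε F ≫ μ F X (𝟙_ C) ≫ θ (X ⊗ 𝟙_ C) ≫ G.map (ρ_ X).hom =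
      (θ X ▷ 𝟙_ D) ≫ (ρ_ _).hom := by
    rw [← Category.assoc (μ F X (𝟙_ C)), htensor, ← MonoidalCategory.id_tensorHom,
      Category.assoc, ← Category.assoc (𝟙 (F.obj X) ⊗ₘ ε F),
      MonoidalCategory.tensorHom_comp_tensorHom, Category.id_comp, hunit,
      Functor.LaxMonoidal.right_unitality (F := G), ← MonoidalCategory.id_tensorHom,
      ← MonoidalCategory.tensorHom_id, ← Category.assoc (θ X ⊗ₘ 𝟙 (𝟙_ D)),
      MonoidalCategory.tensorHom_comp_tensorHom, Category.id_comp, Category.comp_id]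
  rw [h1, h2, MonoidalCategory.rightUnitor_naturality]

end Lax

theorem isNatAt_braiding [BraidedCategory C] [BraidedCategory D] [F.LaxBraided] [G.LaxBraided]
    (htensor : ∀ X Y : C, μ F X Y ≫ θ (X ⊗ Y) = (θ X ⊗ₘ θ Y) ≫ μ G X Y) (X Y : C) :
    IsNatAt F G θ (β_ X Y).hom := by
  unfold IsNatAt
  rw [← cancel_epi (μ F X Y), ← Category.assoc, Functor.LaxBraided.braided, Category.assoc,
    htensor, ← BraidedCategory.braiding_naturality_assoc, ← Functor.LaxBraided.braided,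
    ← Category.assoc, ← htensor, Category.assoc]

end Groth.Agent.Lib.R2H7.Picard
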