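import Mathlib
import Groth.Agent.Lib.R2H7PicIncl
import Groth.Agent.Lib.R2H7PicNat

/-!
# Extending monoidal natural transformations from `A` to the free Picard groupoid
-/

namespace Groth.Agent.Lib.R2H7.Picard

open CategoryTheory MonoidalCategory Functor.LaxMonoidal

universe v u v' u'

variable {A : Type u} [Category.{v} A] [MonoidalCategory A] [SymmetricCategory A]
variable {P : Type u'} [Category.{v'} P] [MonoidalCategory P] [SymmetricCategory P] [IsGroupoid P]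
  (hP : ∀ X : P, (tensorLeft X).IsEquivalence ∧ (tensorRight X).IsEquivalence)
  (Ψ Ψ' : Obj A ⥤ P) [Ψ.LaxBraided] [Ψ'.LaxBraided] (τ : incl A ⋙ Ψ ⟶ incl A ⋙ Ψ')

/-- the evaluation morphism -/
def evalHom (X : Obj A) : X ⊗ X.inv ⟶ 𝟙_ (Obj A) := homMk (Hom.η X)

/-- the morphism that `Ψ' X ◁ θ (X⁻¹)` has to be -/
noncomputable def extInvAux (X : Obj A) (θX : Ψ.obj X ⟶ Ψ'.obj X)
    (θ1 : Ψ.obj (𝟙_ (Obj A)) ⟶ Ψ'.obj (𝟙_ (Obj A))) :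
    Ψ'.obj X ⊗ Ψ.obj X.inv ⟶ Ψ'.obj X ⊗ Ψ'.obj X.inv :=
  inv (θX ▷ Ψ.obj X.inv) ≫ μ Ψ X X.inv ≫ Ψ.map (evalHom X) ≫ θ1 ≫
    inv (Ψ'.map (evalHom X)) ≫ inv (μ Ψ' X X.inv)

/-- the extension on objects -/
noncomputable def extObj : ∀ X : Obj A, Ψ.obj X ⟶ Ψ'.obj X
  | .of a => τ.app a
  | .unit => inv (ε Ψ) ≫ ε Ψ'
  | .tensor X Y => inv (μ Ψ X Y) ≫ (extObj X ⊗ₘ extObj Y) ≫ μ Ψ' X Y
  | .inv X =>
    haveI := (hP (Ψ'.obj X)).1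
    (tensorLeft (Ψ'.obj X)).preimage (extInvAux Ψ Ψ' X (extObj X) (inv (ε Ψ) ≫ ε Ψ'))

theorem extObj_of (a : A) : extObj hP Ψ Ψ' τ (Obj.of a) = τ.app a := by
  simp only [extObj]

theorem extObj_unit' : extObj hP Ψ Ψ' τ (𝟙_ (Obj A)) = inv (ε Ψ) ≫ ε Ψ' := by
  change extObj hP Ψ Ψ' τ Obj.unit = _
  simp only [extObj]

theorem extObj_unit : ε Ψ ≫ extObj hP Ψ Ψ' τ (𝟙_ (Obj A)) = ε Ψ' := by
  rw [extObj_unit', IsIso.hom_inv_id_assoc]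

theorem extObj_tensor' (X Y : Obj A) : extObj hP Ψ Ψ' τ (X ⊗ Y) =
    inv (μ Ψ X Y) ≫ (extObj hP Ψ Ψ' τ X ⊗ₘ extObj hP Ψ Ψ' τ Y) ≫ μ Ψ' X Y := by
  change extObj hP Ψ Ψ' τ (X.tensor Y) = _
  simp only [extObj]

theorem extObj_tensor (X Y : Obj A) : μ Ψ X Y ≫ extObj hP Ψ Ψ' τ (X ⊗ Y) =
    (extObj hP Ψ Ψ' τ X ⊗ₘ extObj hP Ψ Ψ' τ Y) ≫ μ Ψ' X Y := by
  rw [extObj_tensor', IsIso.hom_inv_id_assoc]

theorem whiskerLeft_extObj_inv (X : Obj A) :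
    Ψ'.obj X ◁ extObj hP Ψ Ψ' τ X.inv =
      extInvAux Ψ Ψ' X (extObj hP Ψ Ψ' τ X) (extObj hP Ψ Ψ' τ (𝟙_ (Obj A))) := by
  haveI := (hP (Ψ'.obj X)).1
  rw [extObj_unit']
  simp only [extObj]
  exact (tensorLeft (Ψ'.obj X)).map_preimage _

theorem extObj_eval (X : Obj A) :
    IsNatAt Ψ Ψ' (extObj hP Ψ Ψ' τ) (evalHom X) := by
  unfold IsNatAt
  rw [extObj_tensor', MonoidalCategory.tensorHom_def, whiskerLeft_extObj_inv]
  unfold extInvAux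
  simp only [Category.assoc, IsIso.hom_inv_id_assoc, IsIso.inv_hom_id_assoc, IsIso.inv_hom_id,
    Category.comp_id]

theorem extObj_natural (hτ : NatTrans.IsMonoidal τ) {X Y : Obj A} (f : Hom X Y) :
    IsNatAt Ψ Ψ' (extObj hP Ψ Ψ' τ) (homMk f) := by
  induction f with
  | id X => exact isNatAt_id X
  | comp f g ihf ihg => exact isNatAt_comp ihf ihg
  | sinv f ih =>
    rw [homMk_sinv]
    exact isNatAt_inv ih
  | of f =>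
    unfold IsNatAt
    rw [extObj_of, extObj_of]
    exact τ.naturality f
  | tensor f g ihf ihg => exact isNatAt_tensorHom (extObj_tensor hP Ψ Ψ' τ) ihf ihg
  | α X Y Z => exact isNatAt_associator (extObj_tensor hP Ψ Ψ' τ) X Y Z
  | l X => exact isNatAt_leftUnitor (extObj_unit hP Ψ Ψ' τ) (extObj_tensor hP Ψ Ψ' τ) X
  | ρ X => exact isNatAt_rightUnitor (extObj_unit hP Ψ Ψ' τ) (extObj_tensor hP Ψ Ψ' τ) X
  | β X Y => exact isNatAt_braiding (extObj_tensor hP Ψ Ψ' τ) X Y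
  | μ a b =>
    unfold IsNatAt
    have h := hτ.tensor a b
    rw [Functor.LaxMonoidal.comp_μ, Functor.LaxMonoidal.comp_μ] at h
    have h' : (μ Ψ (Obj.of a) (Obj.of b) ≫ Ψ.map (homMk (Hom.μ a b))) ≫ τ.app (a ⊗ b) =
        (τ.app a ⊗ₘ τ.app b) ≫ μ Ψ' (Obj.of a) (Obj.of b) ≫ Ψ'.map (homMk (Hom.μ a b)) := h
    have h2 := extObj_tensor hP Ψ Ψ' τ (Obj.of a) (Obj.of b)
    rw [extObj_of, extObj_of] at h2
    rw [← cancel_epi (μ Ψ (Obj.of a) (Obj.of b)), extObj_of]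
    have e1 : μ Ψ (Obj.of a) (Obj.of b) ≫ Ψ.map (homMk (Hom.μ a b)) ≫ τ.app (a ⊗ b) =
        (τ.app a ⊗ₘ τ.app b) ≫ μ Ψ' (Obj.of a) (Obj.of b) ≫ Ψ'.map (homMk (Hom.μ a b)) := by
      rw [← h', Category.assoc]
    have e2 : μ Ψ (Obj.of a) (Obj.of b) ≫ extObj hP Ψ Ψ' τ (Obj.of a ⊗ Obj.of b) ≫
          Ψ'.map (homMk (Hom.μ a b)) =
        (τ.app a ⊗ₘ τ.app b) ≫ μ Ψ' (Obj.of a) (Obj.of b) ≫ Ψ'.map (homMk (Hom.μ a b)) := by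
      rw [← Category.assoc]
      exact (congrArg (· ≫ Ψ'.map (homMk (Hom.μ a b))) h2).trans (Category.assoc _ _ _)
    exact e1.trans e2.symm
  | ε =>
    unfold IsNatAt
    have h := hτ.unit
    rw [Functor.LaxMonoidal.comp_ε, Functor.LaxMonoidal.comp_ε] at h
    have h' : (ε Ψ ≫ Ψ.map (homMk Hom.ε)) ≫ τ.app (𝟙_ A) = ε Ψ' ≫ Ψ'.map (homMk Hom.ε) := h
    rw [← cancel_epi (ε Ψ), extObj_of]
    have e1 : ε Ψ ≫ Ψ.map (homMk Hom.ε) ≫ τ.app (𝟙_ A) = ε Ψ' ≫ Ψ'.map (homMk Hom.ε) := by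
      rw [← h', Category.assoc]
    have e2 : ε Ψ ≫ extObj hP Ψ Ψ' τ (𝟙_ (Obj A)) ≫ Ψ'.map (homMk Hom.ε) =
        ε Ψ' ≫ Ψ'.map (homMk Hom.ε) := by
      rw [← Category.assoc, extObj_unit hP Ψ Ψ' τ]
    exact e1.trans e2.symm
  | η X => exact extObj_eval hP Ψ Ψ' τ X

/-- the extension of a monoidal natural transformation -/
noncomputable def ext (hτ : NatTrans.IsMonoidal τ) : Ψ ⟶ Ψ' where
  app := extObj hP Ψ Ψ' τ
  naturality := by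
    rintro X Y ⟨f⟩
    exact extObj_natural hP Ψ Ψ' τ hτ f

theorem ext_app (hτ : NatTrans.IsMonoidal τ) (X : Obj A) :
    (ext hP Ψ Ψ' τ hτ).app X = extObj hP Ψ Ψ' τ X := rfl

theorem ext_isMonoidal (hτ : NatTrans.IsMonoidal τ) :
    NatTrans.IsMonoidal (ext hP Ψ Ψ' τ hτ) where
  unit := extObj_unit hP Ψ Ψ' τ
  tensor := extObj_tensor hP Ψ Ψ' τ

theorem whiskerLeft_ext (hτ : NatTrans.IsMonoidal τ) :
    Functor.whiskerLeft (incl A) (ext hP Ψ Ψ' τ hτ) = τ := by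
  ext a
  exact extObj_of hP Ψ Ψ' τ a

theorem ext_unique_unit (θ : Ψ ⟶ Ψ') (hθ : NatTrans.IsMonoidal θ) :
    θ.app (𝟙_ (Obj A)) = extObj hP Ψ Ψ' τ (𝟙_ (Obj A)) := by
  have h := hθ.unit
  rw [extObj_unit', ← h, IsIso.inv_hom_id_assoc]

theorem ext_unique_app (θ : Ψ ⟶ Ψ') (hθ : NatTrans.IsMonoidal θ)
    (hw : Functor.whiskerLeft (incl A) θ = τ) (X : Obj A) :
    θ.app X = extObj hP Ψ Ψ' τ X := by
  induction X with
  | of a =>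
    rw [extObj_of, ← hw]
    rfl
  | unit => exact ext_unique_unit hP Ψ Ψ' τ θ hθ
  | tensor X Y ihX ihY =>
    have h := hθ.tensor X Y
    change θ.app (X ⊗ Y) = extObj hP Ψ Ψ' τ (X ⊗ Y)
    rw [extObj_tensor', ← ihX, ← ihY, ← h, IsIso.inv_hom_id_assoc]
  | inv X ih =>
    haveI := (hP (Ψ'.obj X)).1
    apply (tensorLeft (Ψ'.obj X)).map_injective
    change Ψ'.obj X ◁ θ.app X.inv = Ψ'.obj X ◁ extObj hP Ψ Ψ' τ X.inv
    rw [whiskerLeft_extObj_inv]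
    unfold extInvAux
    have h := hθ.tensor X X.inv
    rw [IsIso.eq_inv_comp, ← ih, ← MonoidalCategory.tensorHom_def,
      ← ext_unique_unit hP Ψ Ψ' τ θ hθ, θ.naturality_assoc, IsIso.hom_inv_id_assoc,
      ← Category.assoc, h, Category.assoc, IsIso.hom_inv_id, Category.comp_id]

theorem ext_unique (hτ : NatTrans.IsMonoidal τ) (θ : Ψ ⟶ Ψ') (hθ : NatTrans.IsMonoidal θ)
    (hw : Functor.whiskerLeft (incl A) θ = τ) : θ = ext hP Ψ Ψ' τ hτ := by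
  ext X
  exact ext_unique_app hP Ψ Ψ' τ θ hθ hw X

include hP in
theorem existsUnique_ext (hτ : NatTrans.IsMonoidal τ) :
    ∃! θ : Ψ ⟶ Ψ', NatTrans.IsMonoidal θ ∧ Functor.whiskerLeft (incl A) θ = τ :=
  ⟨ext hP Ψ Ψ' τ hτ, ⟨ext_isMonoidal hP Ψ Ψ' τ hτ, whiskerLeft_ext hP Ψ Ψ' τ hτ⟩,
    fun θ hθ => ext_unique hP Ψ Ψ' τ hτ θ hθ.1 hθ.2⟩

end Groth.Agent.Lib.R2H7.Picard
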