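import Mathlib
import Groth.Agent.Lib.R2H7PicIncl

namespace Groth.Agent.Lib.R2H7.Picard

open CategoryTheory MonoidalCategory

universe v u v' u'

variable {A : Type u} [Category.{v} A] [MonoidalCategory A] [SymmetricCategory A]
variable {P : Type u'} [Category.{v'} P] [MonoidalCategory P] [SymmetricCategory P] [IsGroupoid P]
  (hP : ∀ X : P, (tensorLeft X).IsEquivalence ∧ (tensorRight X).IsEquivalence)
  (Φ : A ⥤ P) [Φ.LaxBraided]

/-- a chosen inverse object -/
noncomputable def invObj (Y : P) : P :=
  haveI := (hP Y).1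
  (tensorLeft Y).objPreimage (𝟙_ P)

/-- the chosen evaluation isomorphism -/
noncomputable def invIso (Y : P) : Y ⊗ invObj hP Y ≅ 𝟙_ P :=
  haveI := (hP Y).1
  (tensorLeft Y).objObjPreimageIso (𝟙_ P)

/-- the lift on objects -/
noncomputable def liftObj : Obj A → P
  | .of a => Φ.obj a
  | .unit => 𝟙_ P
  | .tensor X Y => liftObj X ⊗ liftObj Y
  | .inv X => invObj hP (liftObj X)

/-- the lift on formal morphisms -/
noncomputable def liftHom : ∀ {X Y : Obj A}, Hom X Y → (liftObj hP Φ X ⟶ liftObj hP Φ Y)
  | _, _, .id _ => 𝟙 _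
  | _, _, .comp f g => liftHom f ≫ liftHom g
  | _, _, .sinv f => inv (liftHom f)
  | _, _, .of f => Φ.map f
  | _, _, .tensor f g => liftHom f ⊗ₘ liftHom g
  | _, _, .α _ _ _ => (α_ _ _ _).hom
  | _, _, .l _ => (λ_ _).hom
  | _, _, .ρ _ => (ρ_ _).hom
  | _, _, .β _ _ => (β_ _ _).hom
  | _, _, .μ a b => Functor.LaxMonoidal.μ Φ a b
  | _, _, .ε => Functor.LaxMonoidal.ε Φ
  | _, _, .η X => (invIso hP (liftObj hP Φ X)).hom

theorem liftHom_rel {X Y : Obj A} {f g : Hom X Y} (h : HRel f g) :
    liftHom hP Φ f = liftHom hP Φ g := by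
  induction h with
  | refl => rfl
  | symm _ _ _ ih => exact ih.symm
  | trans _ _ ih1 ih2 => exact ih1.trans ih2
  | comp _ _ ih1 ih2 => simp only [liftHom]; rw [ih1, ih2]
  | tensor _ _ ih1 ih2 => simp only [liftHom]; rw [ih1, ih2]
  | sinv _ ih => simp only [liftHom]; simp only [ih]
  | comp_id => simp only [liftHom]; rw [Category.comp_id]
  | id_comp => simp only [liftHom]; rw [Category.id_comp]
  | assoc => simp only [liftHom]; rw [Category.assoc]
  | comp_sinv => simp only [liftHom]; rw [IsIso.hom_inv_id]
  | sinv_comp => simp only [liftHom]; rw [IsIso.inv_hom_id]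
  | tensor_id => simp only [liftHom, liftObj]; rw [MonoidalCategory.id_tensorHom_id]
  | tensor_comp => simp only [liftHom, liftObj]; exact MonoidalCategory.tensorHom_comp_tensorHom _ _ _ _
  | α_nat => simp only [liftHom, liftObj]; rw [MonoidalCategory.associator_naturality]
  | l_nat =>
    simp only [liftHom, liftObj]
    rw [MonoidalCategory.id_tensorHom, MonoidalCategory.leftUnitor_naturality]
  | ρ_nat =>
    simp only [liftHom, liftObj]
    rw [MonoidalCategory.tensorHom_id, MonoidalCategory.rightUnitor_naturality]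
  | pentagon =>
    simp only [liftHom, liftObj]
    rw [MonoidalCategory.tensorHom_id, MonoidalCategory.id_tensorHom, MonoidalCategory.pentagon]
  | triangle =>
    simp only [liftHom, liftObj]
    rw [MonoidalCategory.tensorHom_id, MonoidalCategory.id_tensorHom, MonoidalCategory.triangle]
  | β_nat => simp only [liftHom, liftObj]; rw [BraidedCategory.braiding_naturality]
  | hexagon_forward =>
    simp only [liftHom, liftObj]
    rw [MonoidalCategory.tensorHom_id, MonoidalCategory.id_tensorHom,
      BraidedCategory.hexagon_forward]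
  | hexagon_reverse =>
    simp only [liftHom, liftObj]
    rw [MonoidalCategory.tensorHom_id, MonoidalCategory.id_tensorHom, IsIso.Iso.inv_hom,
      IsIso.Iso.inv_hom, IsIso.Iso.inv_hom, BraidedCategory.hexagon_reverse]
  | symmetry => simp only [liftHom, liftObj]; rw [SymmetricCategory.symmetry]
  | of_id => simp only [liftHom, liftObj]; exact Φ.map_id _
  | of_comp => simp only [liftHom, liftObj]; exact Φ.map_comp _ _
  | μ_nat => simp only [liftHom, liftObj]; rw [Functor.LaxMonoidal.μ_natural]
  | μ_assoc =>
    simp only [liftHom, liftObj]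
    rw [MonoidalCategory.tensorHom_id, MonoidalCategory.id_tensorHom,
      Functor.LaxMonoidal.associativity]
  | left_unitality =>
    simp only [liftHom, liftObj]
    rw [MonoidalCategory.tensorHom_id, ← Functor.LaxMonoidal.left_unitality]
  | right_unitality =>
    simp only [liftHom, liftObj]
    rw [MonoidalCategory.id_tensorHom, ← Functor.LaxMonoidal.right_unitality]
  | μ_braided => simp only [liftHom, liftObj]; rw [Functor.LaxBraided.braided]

end Groth.Agent.Lib.R2H7.Picard
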