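import Mathlib
import Groth.Agent.Lib.R2H7PicLift

namespace Groth.Agent.Lib.R2H7.Picard

open CategoryTheory MonoidalCategory

universe v u v' u'

variable {A : Type u} [Category.{v} A] [MonoidalCategory A] [SymmetricCategory A]
variable {P : Type u'} [Category.{v'} P] [MonoidalCategory P] [SymmetricCategory P] [IsGroupoid P]
  (hP : ∀ X : P, (tensorLeft X).IsEquivalence ∧ (tensorRight X).IsEquivalence)
  (Φ : A ⥤ P) [Φ.LaxBraided]

/-- the lifted functor -/
noncomputable def lift : Obj A ⥤ P where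
  obj := liftObj hP Φ
  map {X Y} := Quotient.lift (liftHom hP Φ) (fun _ _ h => liftHom_rel hP Φ h)
  map_id X := rfl
  map_comp := by
    rintro X Y Z ⟨f⟩ ⟨g⟩
    rfl

theorem lift_obj (X : Obj A) : (lift hP Φ).obj X = liftObj hP Φ X := rfl

theorem lift_map_homMk {X Y : Obj A} (f : Hom X Y) :
    (lift hP Φ).map (homMk f) = liftHom hP Φ f := rfl

theorem lift_obj_tensor (X Y : Obj A) :
    (lift hP Φ).obj (X ⊗ Y) = (lift hP Φ).obj X ⊗ (lift hP Φ).obj Y := rfl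

theorem lift_obj_unit : (lift hP Φ).obj (𝟙_ (Obj A)) = 𝟙_ P := rfl

theorem whiskerRight_homMk {X Y : Obj A} (f : Hom X Y) (Z : Obj A) :
    homMk f ▷ Z = homMk (f.tensor (Hom.id Z)) := rfl

theorem whiskerLeft_homMk (Z : Obj A) {X Y : Obj A} (f : Hom X Y) :
    Z ◁ homMk f = homMk ((Hom.id Z).tensor f) := rfl

noncomputable instance liftLaxBraided : (lift hP Φ).LaxBraided where
  ε := 𝟙 _
  μ X Y := 𝟙 _
  μ_natural_left := by
    rintro X Y ⟨f⟩ Z
    change (lift hP Φ).map (homMk f) ▷ _ ≫ 𝟙 _ = 𝟙 _ ≫ (lift hP Φ).map (homMk f ▷ Z)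
    rw [whiskerRight_homMk, lift_map_homMk, lift_map_homMk, Category.comp_id, Category.id_comp]
    simp only [liftHom]
    rw [MonoidalCategory.tensorHom_id]
    rfl
  μ_natural_right := by
    rintro X Y Z ⟨f⟩
    change _ ◁ (lift hP Φ).map (homMk f) ≫ 𝟙 _ = 𝟙 _ ≫ (lift hP Φ).map (Z ◁ homMk f)
    rw [whiskerLeft_homMk, lift_map_homMk, lift_map_homMk, Category.comp_id, Category.id_comp]
    simp only [liftHom]
    rw [MonoidalCategory.id_tensorHom]
    rfl
  associativity := by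
    intro X Y Z
    change 𝟙 _ ▷ _ ≫ 𝟙 _ ≫ (lift hP Φ).map (homMk (Hom.α X Y Z)) =
      (α_ _ _ _).hom ≫ _ ◁ 𝟙 _ ≫ 𝟙 _
    rw [lift_map_homMk]
    simp only [liftHom]
    erw [MonoidalCategory.id_whiskerRight, MonoidalCategory.whiskerLeft_id]
    simp only [Category.id_comp, Category.comp_id]
  left_unitality := by
    intro X
    change (λ_ _).hom = 𝟙 _ ▷ _ ≫ 𝟙 _ ≫ (lift hP Φ).map (homMk (Hom.l X))
    rw [lift_map_homMk]
    simp only [liftHom]
    erw [MonoidalCategory.id_whiskerRight]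
    simp only [Category.id_comp]
  right_unitality := by
    intro X
    change (ρ_ _).hom = _ ◁ 𝟙 _ ≫ 𝟙 _ ≫ (lift hP Φ).map (homMk (Hom.ρ X))
    rw [lift_map_homMk]
    simp only [liftHom]
    erw [MonoidalCategory.whiskerLeft_id]
    simp only [Category.id_comp]
  braided := by
    intro X Y
    change 𝟙 _ ≫ (lift hP Φ).map (homMk (Hom.β X Y)) = (β_ _ _).hom ≫ 𝟙 _
    rw [lift_map_homMk]
    simp only [liftHom]
    rw [Category.id_comp, Category.comp_id]

theorem lift_ε : Functor.LaxMonoidal.ε (lift hP Φ) = 𝟙 _ := rfl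
theorem lift_μ (X Y : Obj A) : Functor.LaxMonoidal.μ (lift hP Φ) X Y = 𝟙 _ := rfl

/-- the comparison isomorphism -/
noncomputable def liftIso : incl A ⋙ lift hP Φ ≅ Φ :=
  NatIso.ofComponents (fun a => Iso.refl _) (by
    intro a b f
    change (lift hP Φ).map (homMk (Hom.of f)) ≫ 𝟙 _ = 𝟙 _ ≫ Φ.map f
    rw [lift_map_homMk, Category.comp_id, Category.id_comp]
    rfl)

theorem liftIso_hom_app (a : A) : (liftIso hP Φ).hom.app a = 𝟙 _ := rfl

instance liftIso_isMonoidal : NatTrans.IsMonoidal (liftIso hP Φ).hom where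
  unit := by
    rw [Functor.LaxMonoidal.comp_ε]
    change (𝟙 (𝟙_ P) ≫ Functor.LaxMonoidal.ε Φ) ≫ 𝟙 (Φ.obj (𝟙_ A)) = Functor.LaxMonoidal.ε Φ
    rw [Category.id_comp, Category.comp_id]
  tensor := by
    intro a b
    rw [Functor.LaxMonoidal.comp_μ]
    change (𝟙 (Φ.obj a ⊗ Φ.obj b) ≫ Functor.LaxMonoidal.μ Φ a b) ≫ 𝟙 (Φ.obj (a ⊗ b)) =
      (𝟙 (Φ.obj a) ⊗ₘ 𝟙 (Φ.obj b)) ≫ Functor.LaxMonoidal.μ Φ a b
    rw [Category.id_comp, Category.comp_id, MonoidalCategory.id_tensorHom_id, Category.id_comp]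

end Groth.Agent.Lib.R2H7.Picard
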