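/-
helper7: the generalised Picard group of a smooth proper curve with a reduced modulus
(`W4c1etcurveeff2.PicMod`): principal divisors are divisors of functions, the kernel of
`PicMod → Pic` is `(kˣ)^S / kˣ`, and its `n`-torsion.
-/
import Groth.Agent.Lib.R2H7LocSymValue
import Groth.Prelude.Def_W4c1etcurveeff2PicMod
import Mathlib.RingTheory.RootsOfUnity.AlgebraicallyClosed

set_option autoImplicit false
set_option linter.unusedSectionVars false
set_option linter.style.haveILetI false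
universe v u

open CategoryTheory AlgebraicGeometry

namespace Groth.Agent.Lib.R2H7.PicMod

open LocSym W4c1etcurveeff2 Groth.Agent.Lib.R2H7 Groth.Agent.Lib.R2H7.LocSymBasic
  Groth.Agent.Lib.R2H7.LocSymMod Groth.Agent.Lib.R2H7.LocSymApprox
  Groth.Agent.Lib.R2H7.LocSymSymbol Groth.Agent.Lib.R2H7.LocSymValue

variable {k : Type u} [Field k] [IsAlgClosed k] {X : Scheme.{u}} [IsIntegral X]
  (c : X ⟶ Spec (CommRingCat.of k)) [IsProper c] [Smooth c]
  (hdim : topologicalKrullDim X = 1)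

include hdim

/-- the divisor of a rational function -/
noncomputable def divOf (g : X.functionField) : Pt c →₀ ℤ :=
  Finsupp.ofSupportFinite (fun x => x.ord g) (finite_ord_ne_zero c hdim g)

theorem divOf_apply (g : X.functionField) (x : Pt c) : divOf c hdim g x = x.ord g := rfl

theorem isDivOf_divOf {g : X.functionField} (hg : g ≠ 0) : IsDivOf c (divOf c hdim g) g :=
  ⟨hg, fun _ => rfl⟩

theorem isDivOf_iff (D : Pt c →₀ ℤ) (g : X.functionField) :
    IsDivOf c D g ↔ g ≠ 0 ∧ D = divOf c hdim g := by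
  constructor
  · rintro ⟨hg, h⟩
    exact ⟨hg, Finsupp.ext h⟩
  · rintro ⟨hg, rfl⟩
    exact isDivOf_divOf c hdim hg

theorem isDivOf_one : IsDivOf c (0 : Pt c →₀ ℤ) (1 : X.functionField) :=
  ⟨one_ne_zero, fun x => by rw [Finsupp.zero_apply, ord_one c hdim x]⟩

theorem isDivOf_mul {D E : Pt c →₀ ℤ} {g h : X.functionField} (hD : IsDivOf c D g)
    (hE : IsDivOf c E h) : IsDivOf c (D + E) (g * h) :=
  ⟨mul_ne_zero hD.1 hE.1, fun x => by
    rw [Finsupp.add_apply, hD.2 x, hE.2 x, ord_mul c hdim x hD.1 hE.1]⟩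

theorem isDivOf_inv {D : Pt c →₀ ℤ} {g : X.functionField} (hD : IsDivOf c D g) :
    IsDivOf c (-D) g⁻¹ :=
  ⟨inv_ne_zero hD.1, fun x => by
    rw [Finsupp.neg_apply, hD.2 x, ord_inv c hdim x hD.1]⟩

theorem mem_principal_iff (D : Pt c →₀ ℤ) :
    D ∈ principal c ↔ ∃ g : X.functionField, IsDivOf c D g := by
  constructor
  · intro h
    have h' : D ∈ AddSubgroup.closure {D | ∃ g : X.functionField, IsDivOf c D g} := h
    refine AddSubgroup.closure_induction
      (p := fun D _ => ∃ g : X.functionField, IsDivOf c D g) ?_ ?_ ?_ ?_ h'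
    · intro D hD
      exact hD
    · exact ⟨1, isDivOf_one c hdim⟩
    · rintro D E _ _ ⟨g, hg⟩ ⟨h, hh⟩
      exact ⟨g * h, isDivOf_mul c hdim hg hh⟩
    · rintro D _ ⟨g, hg⟩
      exact ⟨g⁻¹, isDivOf_inv c hdim hg⟩
  · intro h
    exact AddSubgroup.subset_closure h

theorem cong1_one (m : Pt c →₀ ℕ) : Cong1 m (1 : X.functionField) := fun _ _ => Or.inl rfl

theorem cong1_mul {m : Pt c →₀ ℕ} {g h : X.functionField} (hg : Cong1 m g) (hh : Cong1 m h) :
    Cong1 m (g * h) := fun x hx => cong1At_mul c hdim hx (hg x hx) (hh x hx)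

theorem cong1_inv {m : Pt c →₀ ℕ} {g : X.functionField} (hg : Cong1 m g) :
    Cong1 m g⁻¹ := fun x hx => cong1At_inv c hdim hx (hg x hx)

theorem mem_principalMod_iff (m : Pt c →₀ ℕ) (D : divAway c m) :
    D ∈ principalMod c m ↔
      ∃ g : X.functionField, IsDivOf c (D : Pt c →₀ ℤ) g ∧ Cong1 m g := by
  constructor
  · intro h
    have h' : D ∈ AddSubgroup.closure {D : divAway c m |
        ∃ g : X.functionField, IsDivOf c (D : Pt c →₀ ℤ) g ∧ Cong1 m g} := h
    refine AddSubgroup.closure_induction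
      (p := fun (D : divAway c m) _ =>
        ∃ g : X.functionField, IsDivOf c (D : Pt c →₀ ℤ) g ∧ Cong1 m g) ?_ ?_ ?_ ?_ h'
    · intro D hD
      exact hD
    · exact ⟨1, isDivOf_one c hdim, cong1_one c hdim m⟩
    · rintro D E _ _ ⟨g, hg, hgc⟩ ⟨h, hh, hhc⟩
      exact ⟨g * h, isDivOf_mul c hdim hg hh, cong1_mul c hdim hgc hhc⟩
    · rintro D _ ⟨g, hg, hgc⟩
      exact ⟨g⁻¹, isDivOf_inv c hdim hg, cong1_inv c hdim hgc⟩
  · intro h
    exact AddSubgroup.subset_closure h

omit hdim in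
theorem picModToPic_mk (m : Pt c →₀ ℕ) (D : divAway c m) :
    picModToPic c m (QuotientAddGroup.mk D) = QuotientAddGroup.mk (D : Pt c →₀ ℤ) := rfl

theorem surj (m : Pt c →₀ ℕ) : Function.Surjective (picModToPic c m) := by
  intro y
  obtain ⟨D, rfl⟩ := QuotientAddGroup.mk_surjective y
  obtain ⟨g, hg, hgS⟩ := exists_ord_eq c hdim m.support (fun x => D x)
  have hmem : D - divOf c hdim g ∈ divAway c m := by
    show ∀ x ∈ m.support, (D - divOf c hdim g) x = 0
    intro x hx
    rw [Finsupp.sub_apply, divOf_apply, hgS x hx, sub_self]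
  refine ⟨QuotientAddGroup.mk ⟨D - divOf c hdim g, hmem⟩, ?_⟩
  rw [picModToPic_mk]
  rw [QuotientAddGroup.eq]
  have : -(D - divOf c hdim g) + D = divOf c hdim g := by abel
  show -(D - divOf c hdim g) + D ∈ principal c
  rw [this]
  exact (mem_principal_iff c hdim _).mpr ⟨g, isDivOf_divOf c hdim hg⟩

theorem hasValueAt_pow (x : Pt c) {g : X.functionField} {a : k} (hg : HasValueAt x g a) (n : ℕ) :
    HasValueAt x (g ^ n) (a ^ n) := by
  induction n with
  | zero =>
    rw [pow_zero, pow_zero]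
    exact hasValueAt_one c hdim x
  | succ n ih =>
    rw [pow_succ, pow_succ]
    exact hasValueAt_mul c hdim x ih hg

theorem ord_pow (x : Pt c) {g : X.functionField} (hg : g ≠ 0) (n : ℕ) :
    x.ord (g ^ n) = n * x.ord g := by
  have := ord_zpow c hdim x hg (n : ℤ)
  rw [zpow_natCast] at this
  exact this

theorem divOf_mem_divAway (m : Pt c →₀ ℕ) {g : X.functionField} {v : Pt c → kˣ}
    (hv : ∀ x ∈ m.support, HasValueAt x g (v x : k)) : divOf c hdim g ∈ divAway c m := by
  show ∀ x ∈ m.support, divOf c hdim g x = 0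
  intro x hx
  exact ord_eq_zero_of_hasValueAt c hdim x (v x).ne_zero (hv x hx)

/-- the class in `PicMod` of the divisor of a function with nonzero values on the support -/
noncomputable def cls (m : Pt c →₀ ℕ) (g : X.functionField) (v : Pt c → kˣ)
    (hv : ∀ x ∈ m.support, HasValueAt x g (v x : k)) : PicMod c m :=
  QuotientAddGroup.mk (⟨divOf c hdim g, divOf_mem_divAway c hdim m hv⟩ : divAway c m)

theorem cls_eq_zero_iff {m : Pt c →₀ ℕ} (hm : ∀ x : Pt c, m x ≤ 1) {g : X.functionField}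
    (hg0 : g ≠ 0) {v : Pt c → kˣ} (hgv : ∀ x ∈ m.support, HasValueAt x g (v x : k)) :
    cls c hdim m g v hgv = 0 ↔ ∃ a : kˣ, ∀ x ∈ m.support, v x = a := by
  have hm1 : ∀ x ∈ m.support, m x = 1 := by
    intro x hx
    have h1 := Finsupp.mem_support_iff.mp hx
    have h2 := hm x
    omega
  unfold cls
  rw [QuotientAddGroup.eq_zero_iff, mem_principalMod_iff c hdim]
  constructor
  · rintro ⟨h, hh, hc⟩
    have hh0 : h ≠ 0 := hh.1
    have hord : ∀ x : Pt c, 0 ≤ x.ord (g / h) := by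
      intro x
      rw [ord_div c hdim x hg0 hh0, ← hh.2 x]
      show 0 ≤ x.ord g - divOf c hdim g x
      rw [divOf_apply, sub_self]
    obtain ⟨a, ha⟩ := exists_const_of_forall_ord_nonneg c hdim (g / h) hord
    have ha0 : a ≠ 0 := by
      rintro rfl
      rw [map_zero] at ha
      exact div_ne_zero hg0 hh0 ha
    refine ⟨Units.mk0 a ha0, fun x hx => ?_⟩
    have h1 : HasValueAt x h 1 := (cong1At_iff_hasValueAt_one c hdim (hm1 x hx) h).mp (hc x hx)
    have h2 : HasValueAt x (g / h * h) (a * 1) := by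
      refine hasValueAt_mul c hdim x ?_ h1
      rw [ha]
      exact hasValueAt_const c hdim x a
    rw [div_mul_cancel₀ _ hh0, mul_one] at h2
    exact Units.ext (hasValueAt_unique c hdim x (hgv x hx) h2)
  · rintro ⟨a, ha⟩
    have ha0 : (a : k) ≠ 0 := a.ne_zero
    have hc0 : constFun c (a : k) ≠ 0 := by
      rw [Ne, map_eq_zero]
      exact ha0
    refine ⟨g / constFun c (a : k), ⟨div_ne_zero hg0 hc0, fun x => ?_⟩, fun x hx => ?_⟩
    · show divOf c hdim g x = _
      rw [divOf_apply, ord_div c hdim x hg0 hc0, ord_constFun c hdim x ha0, sub_zero]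
    · rw [cong1At_iff_hasValueAt_one c hdim (hm1 x hx)]
      have := hasValueAt_div c hdim x ha0 (hgv x hx) (hasValueAt_const c hdim x (a : k))
      rw [ha x hx, div_self ha0] at this
      exact this

theorem nsmul_cls {m : Pt c →₀ ℕ} {g : X.functionField} (hg0 : g ≠ 0) {v : Pt c → kˣ}
    (hgv : ∀ x ∈ m.support, HasValueAt x g (v x : k)) (n : ℕ) :
    n • cls c hdim m g v hgv = cls c hdim m (g ^ n) (v ^ n) (fun x hx => by
      rw [Pi.pow_apply, Units.val_pow_eq_pow_val]
      exact hasValueAt_pow c hdim x (hgv x hx) n) := by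
  unfold cls
  rw [← QuotientAddGroup.mk_nsmul]
  congr 1
  refine Subtype.ext (Finsupp.ext fun x => ?_)
  show (n • divOf c hdim g) x = divOf c hdim (g ^ n) x
  rw [Finsupp.smul_apply, divOf_apply, divOf_apply, ord_pow c hdim x hg0, nsmul_eq_mul]

theorem cls_sub {m : Pt c →₀ ℕ} {g g' : X.functionField} (hg0 : g ≠ 0) (hg0' : g' ≠ 0)
    {v v' : Pt c → kˣ} (hgv : ∀ x ∈ m.support, HasValueAt x g (v x : k))
    (hgv' : ∀ x ∈ m.support, HasValueAt x g' (v' x : k)) :
    cls c hdim m g v hgv - cls c hdim m g' v' hgv' =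
      cls c hdim m (g / g') (v / v') (fun x hx => by
        rw [Pi.div_apply, Units.val_div_eq_div_val]
        exact hasValueAt_div c hdim x (v' x).ne_zero (hgv x hx) (hgv' x hx)) := by
  unfold cls
  rw [← QuotientAddGroup.mk_sub]
  congr 1
  refine Subtype.ext (Finsupp.ext fun x => ?_)
  show (divOf c hdim g - divOf c hdim g') x = divOf c hdim (g / g') x
  rw [Finsupp.sub_apply, divOf_apply, divOf_apply, divOf_apply, ord_div c hdim x hg0 hg0']

theorem cls_eq_iff {m : Pt c →₀ ℕ} (hm : ∀ x : Pt c, m x ≤ 1) {g g' : X.functionField}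
    (hg0 : g ≠ 0) (hg0' : g' ≠ 0)
    {v v' : Pt c → kˣ} (hgv : ∀ x ∈ m.support, HasValueAt x g (v x : k))
    (hgv' : ∀ x ∈ m.support, HasValueAt x g' (v' x : k)) :
    cls c hdim m g v hgv = cls c hdim m g' v' hgv' ↔
      ∃ a : kˣ, ∀ x ∈ m.support, v x = a * v' x := by
  rw [← sub_eq_zero, cls_sub c hdim hg0 hg0', cls_eq_zero_iff c hdim hm (div_ne_zero hg0 hg0')]
  refine exists_congr fun a => forall_congr' fun x => forall_congr' fun _ => ?_
  rw [Pi.div_apply, div_eq_iff_eq_mul]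

theorem picModToPic_cls {m : Pt c →₀ ℕ} {g : X.functionField} (hg0 : g ≠ 0) {v : Pt c → kˣ}
    (hgv : ∀ x ∈ m.support, HasValueAt x g (v x : k)) :
    picModToPic c m (cls c hdim m g v hgv) = 0 := by
  unfold cls
  rw [picModToPic_mk, QuotientAddGroup.eq_zero_iff]
  exact (mem_principal_iff c hdim _).mpr ⟨g, isDivOf_divOf c hdim hg0⟩

theorem exists_cls_of_ker (m : Pt c →₀ ℕ) (y : PicMod c m) (hy : picModToPic c m y = 0) :
    ∃ (g : X.functionField) (v : Pt c → kˣ)
      (hv : ∀ x ∈ m.support, HasValueAt x g (v x : k)),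
      g ≠ 0 ∧ y = cls c hdim m g v hv := by
  obtain ⟨D, rfl⟩ := QuotientAddGroup.mk_surjective y
  rw [picModToPic_mk, QuotientAddGroup.eq_zero_iff] at hy
  obtain ⟨g, hg⟩ := (mem_principal_iff c hdim _).mp hy
  have hv : ∀ x : Pt c, ∃ u : kˣ, x ∈ m.support → HasValueAt x g (u : k) := by
    intro x
    by_cases hx : x ∈ m.support
    · have h0 : x.ord g = 0 := by
        rw [← hg.2 x]
        exact D.2 x hx
      obtain ⟨a, ha, hva⟩ := exists_hasValueAt_of_ord_eq_zero c hdim x hg.1 h0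
      exact ⟨Units.mk0 a ha, fun _ => hva⟩
    · exact ⟨1, fun h => absurd h hx⟩
  choose v hv using hv
  refine ⟨g, v, hv, hg.1, ?_⟩
  unfold cls
  congr 1
  exact Subtype.ext (Finsupp.ext fun x => hg.2 x)

/-- statement S14182 -/
theorem s14182 (m : Pt c →₀ ℕ) (hm : ∀ x : Pt c, m x ≤ 1) :
    Function.Surjective (picModToPic c m) ∧
    (∀ y : PicMod c m, picModToPic c m y = 0 ↔
      ∃ (g : X.functionField) (D : divAway c m) (v : Pt c → kˣ),
        IsDivOf c (D : Pt c →₀ ℤ) g ∧ (∀ x ∈ m.support, HasValueAt x g (v x : k)) ∧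
        y = (QuotientAddGroup.mk D : PicMod c m)) ∧
    (∀ v : Pt c → kˣ, ∃ (g : X.functionField) (D : divAway c m),
        IsDivOf c (D : Pt c →₀ ℤ) g ∧ (∀ x ∈ m.support, HasValueAt x g (v x : k)) ∧
        ((QuotientAddGroup.mk D : PicMod c m) = 0 ↔ ∃ a : kˣ, ∀ x ∈ m.support, v x = a)) := by
  refine ⟨surj c hdim m, fun y => ⟨fun hy => ?_, ?_⟩, fun v => ?_⟩
  · obtain ⟨g, v, hv, hg0, rfl⟩ := exists_cls_of_ker c hdim m y hy
    exact ⟨g, ⟨divOf c hdim g, divOf_mem_divAway c hdim m hv⟩, v, isDivOf_divOf c hdim hg0, hv, rfl⟩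
  · rintro ⟨g, D, v, hg, -, rfl⟩
    rw [picModToPic_mk, QuotientAddGroup.eq_zero_iff]
    exact (mem_principal_iff c hdim _).mpr ⟨g, hg⟩
  · obtain ⟨g, hg0, hgv⟩ := exists_hasValueAt c hdim m.support v
    exact ⟨g, ⟨divOf c hdim g, divOf_mem_divAway c hdim m hgv⟩, isDivOf_divOf c hdim hg0, hgv,
      cls_eq_zero_iff c hdim hm hg0 hgv⟩

theorem torsion_lift (m : Pt c →₀ ℕ) (hm : ∀ x : Pt c, m x ≤ 1) (n : ℕ) (hn : 1 ≤ n)
    (y : Pic c) (hy : n • y = 0) :
    ∃ x : PicMod c m, n • x = 0 ∧ picModToPic c m x = y := by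
  obtain ⟨x0, rfl⟩ := surj c hdim m y
  have h1 : picModToPic c m (n • x0) = 0 := by
    rw [map_nsmul]
    exact hy
  obtain ⟨f, u, hu, hf0, hfx⟩ := exists_cls_of_ker c hdim m _ h1
  have hw : ∀ x : Pt c, ∃ w : kˣ, w ^ n = u x := by
    intro x
    obtain ⟨z, hz⟩ := IsAlgClosed.exists_pow_nat_eq (u x : k) (by omega : 0 < n)
    have hz0 : z ≠ 0 := by
      rintro rfl
      rw [zero_pow (by omega)] at hz
      exact (u x).ne_zero hz.symm
    exact ⟨Units.mk0 z hz0, Units.ext (by rw [Units.val_pow_eq_pow_val]; exact hz)⟩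
  choose w hw using hw
  obtain ⟨h, hh0, hhw⟩ := exists_hasValueAt c hdim m.support w
  refine ⟨x0 - cls c hdim m h w hhw, ?_, ?_⟩
  · rw [nsmul_sub, hfx, nsmul_cls c hdim hh0, cls_sub c hdim hf0 (pow_ne_zero n hh0),
      cls_eq_zero_iff c hdim hm (div_ne_zero hf0 (pow_ne_zero n hh0))]
    refine ⟨1, fun x hx => ?_⟩
    rw [Pi.div_apply, Pi.pow_apply, hw x, div_self']
  · rw [map_sub, picModToPic_cls c hdim hh0, sub_zero]

theorem card_ker_torsion (m : Pt c →₀ ℕ) (hm : ∀ x : Pt c, m x ≤ 1) (n : ℕ) (hn : 1 ≤ n)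
    (hnk : (n : k) ≠ 0) :
    Nat.card {x : PicMod c m // n • x = 0 ∧ picModToPic c m x = 0} =
      n ^ (m.support.card - 1) := by
  classical
  haveI : NeZero (n : k) := ⟨hnk⟩
  haveI : NeZero n := ⟨by omega⟩
  by_cases hS : m.support = ∅
  · rw [hS, Finset.card_empty, Nat.zero_sub, pow_zero, Nat.card_eq_one_iff_unique]
    have key : ∀ z : PicMod c m, picModToPic c m z = 0 → z = 0 := by
      intro z hz
      obtain ⟨g, v, hv, hg0, rfl⟩ := exists_cls_of_ker c hdim m z hz
      rw [cls_eq_zero_iff c hdim hm hg0]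
      exact ⟨1, fun x hx => by rw [hS] at hx; exact absurd hx (Finset.notMem_empty x)⟩
    refine ⟨⟨?_⟩, ⟨⟨0, smul_zero n, map_zero _⟩⟩⟩
    rintro ⟨x, hx1, hx2⟩ ⟨y, hy1, hy2⟩
    exact Subtype.ext ((key x hx2).trans (key y hy2).symm)
  · obtain ⟨x0, hx0⟩ := Finset.nonempty_iff_ne_empty.mpr hS
    have hcard : Nat.card (↥(m.support.erase x0) → rootsOfUnity n k) =
        n ^ (m.support.card - 1) := by
      rw [Nat.card_fun, HasEnoughRootsOfUnity.natCard_rootsOfUnity, Nat.card_eq_fintype_card,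
        Fintype.card_coe, Finset.card_erase_of_mem hx0]
    rw [← hcard]
    symm
    -- extension by one
    let ext : (↥(m.support.erase x0) → rootsOfUnity n k) → Pt c → kˣ := fun w x =>
      if h : x ∈ m.support.erase x0 then ((w ⟨x, h⟩ : rootsOfUnity n k) : kˣ) else 1
    have ext_pow : ∀ w, ext w ^ n = 1 := by
      intro w
      funext x
      rw [Pi.pow_apply, Pi.one_apply]
      by_cases h : x ∈ m.support.erase x0
      · show (if h : x ∈ m.support.erase x0 then ((w ⟨x, h⟩ : rootsOfUnity n k) : kˣ) else 1) ^ n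
          = 1
        rw [dif_pos h]
        exact (mem_rootsOfUnity n _).mp (w ⟨x, h⟩).2
      · show (if h : x ∈ m.support.erase x0 then ((w ⟨x, h⟩ : rootsOfUnity n k) : kˣ) else 1) ^ n
          = 1
        rw [dif_neg h, one_pow]
    have ext_x0 : ∀ w, ext w x0 = 1 := by
      intro w
      show (if h : x0 ∈ m.support.erase x0 then ((w ⟨x0, h⟩ : rootsOfUnity n k) : kˣ) else 1) = 1
      rw [dif_neg (Finset.notMem_erase x0 m.support)]
    have ext_T : ∀ w (t : ↥(m.support.erase x0)), ext w t.1 = (w t : kˣ) := by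
      intro w t
      show (if h : t.1 ∈ m.support.erase x0 then ((w ⟨t.1, h⟩ : rootsOfUnity n k) : kˣ) else 1) = _
      rw [dif_pos t.2]
    have hex : ∀ w, ∃ g : X.functionField, g ≠ 0 ∧
        ∀ x ∈ m.support, HasValueAt x g (ext w x : k) :=
      fun w => exists_hasValueAt c hdim m.support (ext w)
    choose G hG0 hGv using hex
    have hΦ1 : ∀ w, n • cls c hdim m (G w) (ext w) (hGv w) = 0 := by
      intro w
      rw [nsmul_cls c hdim (hG0 w), cls_eq_zero_iff c hdim hm (pow_ne_zero n (hG0 w))]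
      exact ⟨1, fun x _ => by rw [ext_pow w, Pi.one_apply]⟩
    refine Nat.card_eq_of_bijective
      (fun w => (⟨cls c hdim m (G w) (ext w) (hGv w), hΦ1 w,
        picModToPic_cls c hdim (hG0 w) (hGv w)⟩ :
        {x : PicMod c m // n • x = 0 ∧ picModToPic c m x = 0})) ⟨?_, ?_⟩
    · intro w w' hww
      have h1 : cls c hdim m (G w) (ext w) (hGv w) = cls c hdim m (G w') (ext w') (hGv w') :=
        congrArg Subtype.val hww
      rw [cls_eq_iff c hdim hm (hG0 w) (hG0 w')] at h1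
      obtain ⟨a, ha⟩ := h1
      have ha1 : a = 1 := by
        have := ha x0 hx0
        rw [ext_x0 w, ext_x0 w', mul_one] at this
        exact this.symm
      funext t
      have := ha t.1 (Finset.mem_of_mem_erase t.2)
      rw [ha1, one_mul, ext_T, ext_T] at this
      exact Subtype.ext this
    · rintro ⟨z, hz1, hz2⟩
      obtain ⟨g, u, hu, hg0, rfl⟩ := exists_cls_of_ker c hdim m z hz2
      rw [nsmul_cls c hdim hg0, cls_eq_zero_iff c hdim hm (pow_ne_zero n hg0)] at hz1
      obtain ⟨a, ha⟩ := hz1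
      have hroot : ∀ x ∈ m.support, (u x / u x0) ^ n = 1 := by
        intro x hx
        have h1 := ha x hx
        have h2 := ha x0 hx0
        rw [Pi.pow_apply] at h1 h2
        rw [div_pow, h1, h2, div_self']
      obtain ⟨w0, hw0⟩ : ∃ w0 : ↥(m.support.erase x0) → rootsOfUnity n k,
          ∀ t, (w0 t : kˣ) = u t.1 / u x0 :=
        ⟨fun t => ⟨u t.1 / u x0, (mem_rootsOfUnity n _).mpr
          (hroot t.1 (Finset.mem_of_mem_erase t.2))⟩, fun t => rfl⟩
      refine ⟨w0, Subtype.ext ?_⟩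
      show cls c hdim m (G w0) (ext w0) (hGv w0) = cls c hdim m g u hu
      rw [cls_eq_iff c hdim hm (hG0 w0) hg0]
      refine ⟨(u x0)⁻¹, fun x hx => ?_⟩
      by_cases hxT : x ∈ m.support.erase x0
      · refine (ext_T w0 ⟨x, hxT⟩).trans ?_
        rw [hw0]
        show u x / u x0 = (u x0)⁻¹ * u x
        rw [div_eq_inv_mul]
      · have hxx : x = x0 := by
          by_contra hne
          exact hxT (Finset.mem_erase.mpr ⟨hne, hx⟩)
        rw [hxx, inv_mul_cancel]
        exact ext_x0 w0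

/-- statement S14183 -/
theorem s14183 (m : Pt c →₀ ℕ) (hm : ∀ x : Pt c, m x ≤ 1)
    (s : ℕ) (hs : m.support.card = s) (n : ℕ) (hn : 1 ≤ n) (hnk : (n : k) ≠ 0) :
    (∀ y : Pic c, n • y = 0 → ∃ x : PicMod c m, n • x = 0 ∧ picModToPic c m x = y) ∧
    Nat.card {x : PicMod c m // n • x = 0 ∧ picModToPic c m x = 0} = n ^ (s - 1) := by
  subst hs
  exact ⟨fun y hy => torsion_lift c hdim m hm n hn y hy, card_ker_torsion c hdim m hm n hn hnk⟩

end Groth.Agent.Lib.R2H7.PicMod
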