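import Mathlib
import Groth.Prelude
import Groth.Agent.Lib.R2H7HilbPolyB
import Groth.Agent.Lib.R2LeadKRR
import Groth.Agent.Lib.R2H3VAmpleConv
import Groth.Agent.Lib.R2H3AmpleSV
import Groth.Agent.Lib.R2H4TensorPows
import Groth.Agent.S9705

/-!
# helper7: Hilbert polynomials on projective space, integer twists versus natural twists

On `P = P^n_k` with `L = O(1)`: a polynomial `ψ` satisfies `χ(G ⊗ O(m)) = ψ(m)` for all integers `m`
if and only if it satisfies `ShStab.IsHilbPoly k P O(1) G ψ` (the same for natural `m`, with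
`O(1)^{⊗ m}` instead of `O(m)`), for coherent `G` (`hilbZ_iff`).
-/

set_option autoImplicit false
universe u
open CategoryTheory CategoryTheory.Limits AlgebraicGeometry Polynomial
open Groth.Agent.Lib.R2H4TensorPows Groth.Agent.Lib.R2Lead.KRR Groth.Agent.Lib.R2H7.StabNum
  Groth.Agent.Lib.R2H7.HilbPoly

namespace Groth.Agent.Lib.R2H7.PnHilbZ

variable (n : ℕ) (k : Type u) [Field k]

instance isProper_projSpace :
    IsProper ((CohB1.ProjSpace n k) ↘ Spec (CommRingCat.of k)) :=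
  Groth.Agent.S9705.isProper_projSpace_toSpec n k

theorem nonempty_tensorPow_iso (m : ℕ) :
    Nonempty (CohB1.tensorPow (Twist.twistProjSpace n k 1) m ≅
      Twist.twistProjSpace n k (m : ℤ)) := by
  induction m with
  | zero =>
    obtain ⟨e⟩ := nonempty_twistProjSpace_zero_iso n k
    exact ⟨e.symm⟩
  | succ m ih =>
    obtain ⟨e⟩ := ih
    obtain ⟨e'⟩ := nonempty_twistProjSpace_tensor_iso n k (m : ℤ) 1
    have h : ((m + 1 : ℕ) : ℤ) = (m : ℤ) + 1 := by push_cast; rfl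
    rw [h]
    exact ⟨tIso e (Iso.refl _) ≪≫ e'⟩

/-- the integer form of the Hilbert polynomial property -/
def HPZ (G : (CohB1.ProjSpace n k).Modules) (ψ : ℚ[X]) : Prop :=
  ∀ m : ℤ, (Curv2.euler k (CohB1.ProjSpace n k)
    (CohB1.tensorMod G (Twist.twistProjSpace n k m)) : ℚ) = ψ.eval (m : ℚ)

theorem hilbNat_of_hilbZ (G : (CohB1.ProjSpace n k).Modules) (ψ : ℚ[X]) (h : HPZ n k G ψ) :
    ShStab.IsHilbPoly k (CohB1.ProjSpace n k) (Twist.twistProjSpace n k 1) G ψ := by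
  intro m
  obtain ⟨e⟩ := nonempty_tensorPow_iso n k m
  have h1 : Curv2.euler k (CohB1.ProjSpace n k)
      (ShStab.twist (CohB1.ProjSpace n k) (Twist.twistProjSpace n k 1) G m) =
      Curv2.euler k (CohB1.ProjSpace n k)
        (CohB1.tensorMod G (Twist.twistProjSpace n k (m : ℤ))) :=
    Groth.Agent.Lib.R2H1.DegCartier.euler_congr k (tIso (Iso.refl _) e)
  rw [h1, h (m : ℤ), Int.cast_natCast]

theorem hilbZ_of_hilbNat (G : (CohB1.ProjSpace n k).Modules) (hG : Coh.IsCoh G) (ψ : ℚ[X])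
    (h : ShStab.IsHilbPoly k (CohB1.ProjSpace n k) (Twist.twistProjSpace n k 1) G ψ) :
    HPZ n k G ψ := by
  intro m
  obtain ⟨N, hN⟩ : ∃ N : ℕ, 0 ≤ m + N := ⟨(-m).toNat, by omega⟩
  set G' := CohB1.tensorMod G (Twist.twistProjSpace n k (-(N : ℤ))) with hG'def
  have hG' : Coh.IsCoh G' :=
    Groth.Agent.Lib.R2H3.AmpleSV.isCoh_tensorMod_invertible G _ hG
      (isInvertible_twistProjSpace n k _)
  obtain ⟨P', hP'⟩ := (hilbAx k (Twist.twistProjSpace n k 1)
    (Groth.Agent.Lib.R2H3.VAmpleConv.isAmple_twistProjSpace_one n k)).hp_exists hG'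
  have key : ∀ (j : ℕ) (a : ℤ), a = (j : ℤ) - N →
      Nonempty (CohB1.tensorMod G' (CohB1.tensorPow (Twist.twistProjSpace n k 1) j) ≅
        CohB1.tensorMod G (Twist.twistProjSpace n k a)) := by
    intro j a ha
    obtain ⟨e1⟩ := nonempty_tensorPow_iso n k j
    obtain ⟨e2⟩ := nonempty_twistProjSpace_tensor_iso n k (-(N : ℤ)) (j : ℤ)
    have h3 : -(N : ℤ) + j = a := by omega
    rw [h3] at e2
    exact ⟨tIso (Iso.refl _) e1 ≪≫ tAssoc _ _ _ ≪≫ tIso (Iso.refl _) e2⟩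
  have hshift : P'.comp (X + C (N : ℚ)) = ψ := by
    apply eq_of_forall_eval_eq
    intro m'
    rw [eval_comp, eval_add, eval_X, eval_C]
    obtain ⟨e⟩ := key (m' + N) (m' : ℤ) (by push_cast; ring)
    obtain ⟨e1⟩ := nonempty_tensorPow_iso n k m'
    have h1 := hP' (m' + N)
    have h2 := h m'
    have h3 : Curv2.euler k (CohB1.ProjSpace n k)
        (ShStab.twist (CohB1.ProjSpace n k) (Twist.twistProjSpace n k 1) G' (m' + N)) =
        Curv2.euler k (CohB1.ProjSpace n k)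
          (ShStab.twist (CohB1.ProjSpace n k) (Twist.twistProjSpace n k 1) G m') :=
      Groth.Agent.Lib.R2H1.DegCartier.euler_congr k (e ≪≫ tIso (Iso.refl _) e1.symm)
    rw [← h2, ← h3, h1]
    push_cast
    rfl
  obtain ⟨e⟩ := key (m + N).toNat m (by omega)
  have h1 := hP' (m + N).toNat
  have h3 : Curv2.euler k (CohB1.ProjSpace n k)
      (ShStab.twist (CohB1.ProjSpace n k) (Twist.twistProjSpace n k 1) G' (m + N).toNat) =
      Curv2.euler k (CohB1.ProjSpace n k)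
        (CohB1.tensorMod G (Twist.twistProjSpace n k m)) :=
    Groth.Agent.Lib.R2H1.DegCartier.euler_congr k e
  rw [← h3, h1, ← hshift, eval_comp, eval_add, eval_X, eval_C]
  congr 1
  have h4 : (((m + N).toNat : ℕ) : ℤ) = m + N := Int.toNat_of_nonneg hN
  have h5 := congrArg (Int.cast : ℤ → ℚ) h4
  rw [Int.cast_natCast] at h5
  rw [h5]
  push_cast
  rfl

theorem hilbZ_iff {G : (CohB1.ProjSpace n k).Modules} {ψ : ℚ[X]} (hG : Coh.IsCoh G) :
    HPZ n k G ψ ↔
      ShStab.IsHilbPoly k (CohB1.ProjSpace n k) (Twist.twistProjSpace n k 1) G ψ :=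
  ⟨hilbNat_of_hilbZ n k G ψ, hilbZ_of_hilbNat n k G hG ψ⟩

end Groth.Agent.Lib.R2H7.PnHilbZ
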