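/-
The homogeneous localization `A_(p)` of a Noetherian `ℕ`-graded ring at a relevant homogeneous
prime inherits Noetherianity, the Cohen–Macaulay property and Serre's conditions `(S_k)` from `A`.
Consequently the local rings of `Proj A` are Cohen–Macaulay (resp. `(S_k)`) when `A` is.
-/
import Mathlib
import Groth.Agent.Lib.R2H7HomLoc
import Groth.Agent.Lib.Helper28FibreTrans
import Groth.Agent.Lib.Helper5FiberRing
import Groth.Agent.Lib.Helper28PolyCM
import Groth.Agent.Lib.Helper28Normal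
import Groth.Agent.Lib.Helper5TensorSk
import Groth.Agent.Lib.Helper28SkLift

set_option autoImplicit false

noncomputable section

namespace Groth.Agent.Lib.R2H7.ProjCM

open DirectSum HomogeneousLocalization Groth.Agent.Lib.R2H7.HomLoc
  Groth.Agent.Lib.R2H7.PureDescent Groth.Agent.Lib.Helper28 LocCoh

universe u

section alg

variable {A : Type u} [CommRing A] (𝒜 : ℕ → AddSubgroup A) [GradedRing 𝒜]
  (p : Ideal A) [p.IsPrime]

theorem isNoetherianRing_atPrime [IsNoetherianRing A] : IsNoetherianRing (AtPrime 𝒜 p) :=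
  isNoetherianRing_of_contraction (algebraMap (AtPrime 𝒜 p) (Localization.AtPrime p))
    comap_map_le

variable {𝒜 p}

theorem depth_le_depth_atPrime [IsNoetherianRing A] (hp : p.IsHomogeneous 𝒜) {e : ℕ}
    (he : 0 < e) {f : A} (hf : f ∈ 𝒜 e) (hfp : f ∉ p) :
    depth (Localization.AtPrime p) (Localization.AtPrime p) ≤
      depth (AtPrime 𝒜 p) (AtPrime 𝒜 p) := by
  rw [← ENat.forall_natCast_le_iff_le]
  intro n hn
  exact le_depth_of_contraction n _ _ (algebraMap (AtPrime 𝒜 p) (Localization.AtPrime p))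
    comap_map_le (maximalIdeal_le_radical hp he hf hfp) hn

theorem isCohenMacaulayLocalRing_atPrime [IsNoetherianRing A] (hp : p.IsHomogeneous 𝒜) {e : ℕ}
    (he : 0 < e) {f : A} (hf : f ∈ 𝒜 e) (hfp : f ∉ p)
    (hC : IsCohenMacaulayLocalRing (Localization.AtPrime p)) :
    IsCohenMacaulayLocalRing (AtPrime 𝒜 p) := by
  have hN := isNoetherianRing_atPrime 𝒜 p
  rw [isCohenMacaulayLocalRing_iff]
  have h1 := (isCohenMacaulayLocalRing_iff (Localization.AtPrime p)).mp hC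
  have h2 := depth_le_depth_atPrime hp he hf hfp
  have h3 := Groth.Agent.Lib.Helper5.FiberRing.depth_le_height (AtPrime 𝒜 p)
  have h4 := ringKrullDim_atPrime_le (𝒜 := 𝒜) (p := p)
  rw [← IsLocalRing.maximalIdeal_height_eq_ringKrullDim, WithBot.coe_le_coe] at h4
  have h5 : (IsLocalRing.maximalIdeal (Localization.AtPrime p)).height = p.height := by
    have := IsLocalization.AtPrime.ringKrullDim_eq_height p (Localization.AtPrime p)
    rw [← IsLocalRing.maximalIdeal_height_eq_ringKrullDim] at this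
    exact WithBot.coe_injective this
  apply le_antisymm
  · calc (IsLocalRing.maximalIdeal (AtPrime 𝒜 p)).height ≤ p.height := h4
      _ = depth (Localization.AtPrime p) (Localization.AtPrime p) := by rw [← h5, h1]
      _ ≤ depth (AtPrime 𝒜 p) (AtPrime 𝒜 p) := h2
  · exact h3

theorem hasSk_atPrime [IsNoetherianRing A] (k : ℕ) (hA : HasSk k A A) {e : ℕ}
    (he : 0 < e) {f : A} (hf : f ∈ 𝒜 e) (hfp : f ∉ p) :
    HasSk k (AtPrime 𝒜 p) (AtPrime 𝒜 p) := by
  have hN := isNoetherianRing_atPrime 𝒜 p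
  rw [hasSk_self_iff_enat]
  intro q hq
  have hqt : (tilde (𝒜 := 𝒜) (p := p) q).IsHomogeneous 𝒜 := tilde_isHomogeneous q
  have hfq : f ∉ tilde (𝒜 := 𝒜) (p := p) q := fun h => hfp (tilde_le hq.ne_top h)
  have hNq := isNoetherianRing_atPrime 𝒜 (tilde (𝒜 := 𝒜) (p := p) q)
  letI : Algebra (AtPrime 𝒜 p) (AtPrime 𝒜 (tilde (𝒜 := 𝒜) (p := p) q)) := (locMap q).toAlgebra
  haveI : IsLocalization.AtPrime (AtPrime 𝒜 (tilde (𝒜 := 𝒜) (p := p) q)) q :=
    isLocalization_tilde q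
  let eqv : Localization.AtPrime q ≃+* AtPrime 𝒜 (tilde (𝒜 := 𝒜) (p := p) q) :=
    (IsLocalization.algEquiv q.primeCompl (Localization.AtPrime q)
      (AtPrime 𝒜 (tilde (𝒜 := 𝒜) (p := p) q))).toRingEquiv
  have h1 : depth (Localization.AtPrime q) (Localization.AtPrime q) =
      depth (AtPrime 𝒜 (tilde (𝒜 := 𝒜) (p := p) q)) (AtPrime 𝒜 (tilde (𝒜 := 𝒜) (p := p) q)) :=
    depth_self_eq_of_ringEquiv eqv
  have h2 := depth_le_depth_atPrime hqt he hf hfq
  have h3 := (hasSk_self_iff_enat k).mp hA (tilde (𝒜 := 𝒜) (p := p) q)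
  have h4 : q.height ≤ (tilde (𝒜 := 𝒜) (p := p) q).height := by
    have a1 := IsLocalization.AtPrime.ringKrullDim_eq_height q
      (AtPrime 𝒜 (tilde (𝒜 := 𝒜) (p := p) q))
    have a2 := ringKrullDim_atPrime_le (𝒜 := 𝒜) (p := tilde (𝒜 := 𝒜) (p := p) q)
    rw [a1] at a2
    exact WithBot.coe_le_coe.mp a2
  calc min (k : ℕ∞) q.height ≤ min (k : ℕ∞) (tilde (𝒜 := 𝒜) (p := p) q).height :=
        min_le_min le_rfl h4
    _ ≤ _ := h3
    _ ≤ _ := h2
    _ = _ := h1.symm

end alg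

section proj

open AlgebraicGeometry

variable {A : Type u} [CommRing A] (𝒜 : ℕ → AddSubgroup A) [GradedRing 𝒜]

/-- A point of `Proj` misses a homogeneous element of positive degree. -/
theorem exists_pos_notMem (x : Proj 𝒜) :
    ∃ (e : ℕ) (_ : 0 < e) (f : A) (_ : f ∈ 𝒜 e), f ∉ x.asHomogeneousIdeal.toIdeal := by
  have hx : x.asHomogeneousIdeal.toIdeal.IsPrime := x.isPrime
  have h1 := x.not_irrelevant_le
  obtain ⟨a, ha, hax⟩ := SetLike.not_le_iff_exists.mp h1
  have hax' : a ∉ x.asHomogeneousIdeal.toIdeal := hax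
  obtain ⟨i, hi⟩ := Groth.Agent.Lib.R2H7.ProjNormal.exists_component_notMem 𝒜
    x.asHomogeneousIdeal.toIdeal hax'
  have hi0 : i ≠ 0 := by
    rintro rfl
    apply hi
    have h0 : (decompose 𝒜 a 0 : A) = 0 := (HomogeneousIdeal.mem_irrelevant_iff 𝒜 a).mp ha
    rw [h0]
    exact Ideal.zero_mem _
  exact ⟨i, Nat.pos_of_ne_zero hi0, _, SetLike.coe_mem (decompose 𝒜 a i), hi⟩

theorem stalk_cm [h : IsCohenMacaulayRing A] (x : Proj 𝒜) :
    IsCohenMacaulayLocalRing ((Proj 𝒜).presheaf.stalk x) := by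
  have hx : x.asHomogeneousIdeal.toIdeal.IsPrime := x.isPrime
  obtain ⟨e, he, f, hf, hfx⟩ := exists_pos_notMem 𝒜 x
  let eqv : (Proj 𝒜).presheaf.stalk x ≃+* AtPrime 𝒜 x.asHomogeneousIdeal.toIdeal :=
    (Proj.stalkIso 𝒜 x).commRingCatIsoToRingEquiv
  have h1 : IsCohenMacaulayLocalRing (AtPrime 𝒜 x.asHomogeneousIdeal.toIdeal) :=
    isCohenMacaulayLocalRing_atPrime x.asHomogeneousIdeal.isHomogeneous he hf hfx
      (h.isCohenMacaulayLocalRing_localization _)
  exact isCohenMacaulayLocalRing_of_ringEquiv eqv.symm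

theorem stalk_hasSk [IsNoetherianRing A] (k : ℕ) (hA : HasSk k A A) (x : Proj 𝒜) :
    HasSk k ((Proj 𝒜).presheaf.stalk x) ((Proj 𝒜).presheaf.stalk x) := by
  have hx : x.asHomogeneousIdeal.toIdeal.IsPrime := x.isPrime
  obtain ⟨e, he, f, hf, hfx⟩ := exists_pos_notMem 𝒜 x
  let eqv : (Proj 𝒜).presheaf.stalk x ≃+* AtPrime 𝒜 x.asHomogeneousIdeal.toIdeal :=
    (Proj.stalkIso 𝒜 x).commRingCatIsoToRingEquiv
  have hN := isNoetherianRing_atPrime 𝒜 x.asHomogeneousIdeal.toIdeal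
  have hN' : IsNoetherianRing ((Proj 𝒜).presheaf.stalk x) :=
    isNoetherianRing_of_ringEquiv _ eqv.symm
  have h1 : HasSk k (AtPrime 𝒜 x.asHomogeneousIdeal.toIdeal)
      (AtPrime 𝒜 x.asHomogeneousIdeal.toIdeal) := hasSk_atPrime k hA he hf hfx
  exact Groth.Agent.Lib.Helper5.TensorSk.hasSk_self_of_ringEquiv eqv.symm k h1

end proj

end Groth.Agent.Lib.R2H7.ProjCM
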