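/-
Under condition (#) on an `ℕ`-graded ring `A`, every relevant homogeneous prime `p` misses an
element of each large degree, hence the homogeneous localization `A_(p)` → `A_p` is flat (proved by
the equational criterion of flatness) and local; the Gorenstein property therefore descends from
`A_p` to `A_(p)`.  Consequently the local rings of `Proj A` are Gorenstein when `A` is.
-/
import Mathlib
import Groth.Agent.Lib.R2H7ProjCM
import Groth.Agent.Lib.Helper5GorFlat
import Groth.Agent.Lib.Helper5GorRing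

set_option autoImplicit false

noncomputable section

namespace Groth.Agent.Lib.R2H7.ProjGor

open DirectSum HomogeneousLocalization Groth.Agent.Lib.R2H7.HomLoc LocCoh

universe u

section alg

variable {A : Type u} [CommRing A] (𝒜 : ℕ → AddSubgroup A) [GradedRing 𝒜]
  (p : Ideal A) [p.IsPrime]

/-- Common homogeneous denominators for a finite family of elements of `A_(p)`. -/
theorem exists_common_den {ι : Type*} (s : Finset ι) (f : ι → AtPrime 𝒜 p) :
    ∃ (k : ℕ) (t : A) (ht : t ∈ 𝒜 k) (htp : t ∉ p) (n : ι → A),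
      ∀ i ∈ s, ∃ hn : n i ∈ 𝒜 k, f i = frac 𝒜 p k (n i) hn t ht htp := by
  classical
  induction s using Finset.induction_on with
  | empty =>
    exact ⟨0, 1, SetLike.GradedOne.one_mem,
      fun h => (‹p.IsPrime›).ne_top ((Ideal.eq_top_iff_one _).mpr h), fun _ => 0,
      fun i hi => absurd hi (Finset.notMem_empty i)⟩
  | insert j s hj ih =>
    obtain ⟨k, t, ht, htp, n, hn⟩ := ih
    obtain ⟨e, m, hm, d, hd, hdp, hfj⟩ := exists_frac (f j)
    refine ⟨k + e, t * d, SetLike.mul_mem_graded ht hd,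
      fun h => (Ideal.IsPrime.mem_or_mem inferInstance h).elim htp hdp,
      fun i => if i = j then t * m else n i * d, ?_⟩
    intro i hi
    dsimp only
    by_cases hij : i = j
    · subst hij
      have h1 : (if i = i then t * m else n i * d) ∈ 𝒜 (k + e) := by
        rw [if_pos rfl]
        exact SetLike.mul_mem_graded ht hm
      refine ⟨h1, ?_⟩
      rw [hfj]
      apply frac_eq
      rw [if_pos rfl]
      ring
    · have his : i ∈ s := (Finset.mem_insert.mp hi).resolve_left hij
      obtain ⟨hni, hfi⟩ := hn i his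
      have h1 : (if i = j then t * m else n i * d) ∈ 𝒜 (k + e) := by
        rw [if_neg hij]
        exact SetLike.mul_mem_graded hni hd
      refine ⟨h1, ?_⟩
      rw [hfi]
      apply frac_eq
      rw [if_neg hij]
      ring

variable {𝒜}

theorem mem_aux1 {d j : ℕ} {c a : A} (hc : c ∈ 𝒜 j) (ha : a ∈ 𝒜 d) :
    c * a ^ j ∈ 𝒜 (j * (d + 1)) := by
  have h : c * a ^ j ∈ 𝒜 (j + j • d) :=
    SetLike.mul_mem_graded hc (SetLike.pow_mem_graded j ha)
  have e : j + j • d = j * (d + 1) := by
    rw [smul_eq_mul]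
    ring
  rwa [e] at h

theorem mem_aux2 {d j : ℕ} {b : A} (hb : b ∈ 𝒜 (d + 1)) : b ^ j ∈ 𝒜 (j * (d + 1)) := by
  have h : b ^ j ∈ 𝒜 (j • (d + 1)) := SetLike.pow_mem_graded j hb
  rwa [smul_eq_mul] at h

variable (𝒜)

/-- If `p` misses homogeneous elements of two consecutive degrees, then `A_p` is flat over
`A_(p)`. -/
theorem flat_atPrime {d : ℕ} {a b : A} (ha : a ∈ 𝒜 d) (hap : a ∉ p) (hb : b ∈ 𝒜 (d + 1))
    (hbp : b ∉ p) : Module.Flat (AtPrime 𝒜 p) (Localization.AtPrime p) := by
  classical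
  apply Module.Flat.of_forall_isTrivialRelation
  intro m f x hfx
  obtain ⟨k, t, ht, htp, n, hn0⟩ := exists_common_den 𝒜 p Finset.univ f
  have hn1 := fun i => hn0 i (Finset.mem_univ i)
  choose hn hf using hn1
  obtain ⟨s, hs⟩ := IsLocalization.exist_integer_multiples_of_finite p.primeCompl x
  choose r hr using hs
  have hx : ∀ i, x i = Localization.mk (r i) s := by
    intro i
    rw [Localization.mk_eq_mk', IsLocalization.eq_mk'_iff_mul_eq, hr i, Algebra.smul_def,
      mul_comm]
  -- the relation in `A`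
  have hrel : Localization.mk (∑ i, n i * r i) ((⟨t, htp⟩ : p.primeCompl) * s) = 0 := by
    rw [Localization.mk_sum, ← hfx]
    refine Finset.sum_congr rfl fun i _ => ?_
    change _ = (f i).val * x i
    rw [hf i, val_frac, hx i, Localization.mk_mul]
  rw [Localization.mk_eq_mk', IsLocalization.mk'_eq_zero_iff] at hrel
  obtain ⟨w, hw⟩ := hrel
  have hz : ∑ i, n i * ((w : A) * r i) = 0 := by
    rw [← hw, Finset.mul_sum]
    refine Finset.sum_congr rfl fun i _ => ?_
    ring
  have hcomp : ∀ l : ℕ, ∑ i, n i * (decompose 𝒜 ((w : A) * r i) l : A) = 0 := by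
    intro l
    have h1 : ∀ i, n i * (decompose 𝒜 ((w : A) * r i) l : A) =
        GradedRing.proj 𝒜 (k + l) (n i * ((w : A) * r i)) := by
      intro i
      rw [GradedRing.proj_apply, DirectSum.coe_decompose_mul_add_of_left_mem 𝒜 (hn i)]
    rw [Finset.sum_congr rfl fun i _ => h1 i, ← map_sum, hz, map_zero]
  let N : ℕ := Finset.univ.sup (fun i => (decompose 𝒜 ((w : A) * r i)).support.sup id)
  have hN : ∀ i l, N < l → (decompose 𝒜 ((w : A) * r i) l : A) = 0 := by
    intro i l hl
    by_contra h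
    have h1 : l ∈ (decompose 𝒜 ((w : A) * r i)).support := by
      rw [DFinsupp.mem_support_iff]
      intro h'
      apply h
      rw [h']
      rfl
    have h2 : l ≤ (decompose 𝒜 ((w : A) * r i)).support.sup id := Finset.le_sup (f := id) h1
    have h3 : (decompose 𝒜 ((w : A) * r i)).support.sup id ≤ N :=
      Finset.le_sup (f := fun i => (decompose 𝒜 ((w : A) * r i)).support.sup id)
        (Finset.mem_univ i)
    omega
  have hsum : ∀ i, ∑ l ∈ Finset.range (N + 1), (decompose 𝒜 ((w : A) * r i) l : A) =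
      (w : A) * r i := by
    intro i
    conv_rhs => rw [← DirectSum.sum_support_decompose 𝒜 ((w : A) * r i)]
    symm
    apply Finset.sum_subset
    · intro l hl
      rw [Finset.mem_range]
      by_contra h
      have h1 := hN i l (by omega)
      rw [DFinsupp.mem_support_iff] at hl
      exact hl (Subtype.ext h1)
    · intro l _ hl
      rw [DFinsupp.notMem_support_iff] at hl
      rw [hl]
      rfl
  have hbpow : ∀ j : ℕ, b ^ j ∉ p := fun j h =>
    hbp (Ideal.IsPrime.mem_of_pow_mem inferInstance _ h)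
  refine ⟨N + 1, fun i j => frac 𝒜 p ((j : ℕ) * (d + 1))
      ((decompose 𝒜 ((w : A) * r i) (j : ℕ) : A) * a ^ (j : ℕ))
      (mem_aux1 (SetLike.coe_mem _) ha) (b ^ (j : ℕ)) (mem_aux2 hb) (hbpow _),
    fun j => Localization.mk (b ^ (j : ℕ)) ((⟨a, hap⟩ : p.primeCompl) ^ (j : ℕ) * (w * s)),
    ?_, ?_⟩
  · intro i
    have key : ∀ j : Fin (N + 1),
        (frac 𝒜 p ((j : ℕ) * (d + 1))
          ((decompose 𝒜 ((w : A) * r i) (j : ℕ) : A) * a ^ (j : ℕ))
          (mem_aux1 (SetLike.coe_mem _) ha) (b ^ (j : ℕ)) (mem_aux2 hb) (hbpow _)) •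
          (Localization.mk (b ^ (j : ℕ)) ((⟨a, hap⟩ : p.primeCompl) ^ (j : ℕ) * (w * s)) :
            Localization.AtPrime p) =
        Localization.mk (decompose 𝒜 ((w : A) * r i) (j : ℕ) : A) (w * s) := by
      intro j
      change (frac 𝒜 p _ _ _ _ _ _).val * _ = _
      rw [val_frac, Localization.mk_mul, Localization.mk_eq_mk_iff]
      refine Localization.r_of_eq ?_
      simp only [Submonoid.coe_mul, SubmonoidClass.coe_pow]
      ring
    rw [Finset.sum_congr rfl fun j _ => key j, ← Localization.mk_sum,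
      Fin.sum_univ_eq_sum_range (fun l => (decompose 𝒜 ((w : A) * r i) l : A)) (N + 1),
      hsum i, hx i, Localization.mk_eq_mk_iff]
    refine Localization.r_of_eq ?_
    simp only [Submonoid.coe_mul]
    ring
  · intro j
    apply val_injective
    rw [val_zero]
    change algebraMap (AtPrime 𝒜 p) (Localization.AtPrime p) _ = 0
    rw [map_sum]
    have key : ∀ i, algebraMap (AtPrime 𝒜 p) (Localization.AtPrime p)
        (f i * frac 𝒜 p ((j : ℕ) * (d + 1))
          ((decompose 𝒜 ((w : A) * r i) (j : ℕ) : A) * a ^ (j : ℕ))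
          (mem_aux1 (SetLike.coe_mem _) ha) (b ^ (j : ℕ)) (mem_aux2 hb) (hbpow _)) =
        Localization.mk (n i * (decompose 𝒜 ((w : A) * r i) (j : ℕ) : A) * a ^ (j : ℕ))
          ((⟨t, htp⟩ : p.primeCompl) * ⟨b ^ (j : ℕ), hbpow _⟩) := by
      intro i
      rw [map_mul, HomogeneousLocalization.algebraMap_apply,
        HomogeneousLocalization.algebraMap_apply, hf i, val_frac, val_frac,
        Localization.mk_mul, mul_assoc]
    rw [Finset.sum_congr rfl fun i _ => key i, ← Localization.mk_sum, ← Finset.sum_mul,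
      hcomp, zero_mul, Localization.mk_zero]

/-- The structure map `A_(p) → A_p` is a local homomorphism. -/
theorem isLocalHom_algebraMap :
    IsLocalHom (algebraMap (AtPrime 𝒜 p) (Localization.AtPrime p)) :=
  ⟨fun y hy => (isUnit_iff_isUnit_val 𝒜 p y).mp hy⟩

variable {𝒜 p}

/-- Descent of the Gorenstein property from `A_p` to `A_(p)`. -/
theorem isGorensteinLocalRing_atPrime [IsNoetherianRing A] {d : ℕ} {a b : A} (ha : a ∈ 𝒜 d)
    (hap : a ∉ p) (hb : b ∈ 𝒜 (d + 1)) (hbp : b ∉ p)
    (hC : IsGorensteinLocalRing (Localization.AtPrime p)) :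
    IsGorensteinLocalRing (AtPrime 𝒜 p) := by
  have hN := ProjCM.isNoetherianRing_atPrime 𝒜 p
  have := flat_atPrime 𝒜 p ha hap hb hbp
  have hloc := isLocalHom_algebraMap 𝒜 p
  let I : Ideal (Localization.AtPrime p) :=
    (IsLocalRing.maximalIdeal (AtPrime 𝒜 p)).map
      (algebraMap (AtPrime 𝒜 p) (Localization.AtPrime p))
  have hI : I ≠ ⊤ := by
    intro h
    have h1 : I ≤ IsLocalRing.maximalIdeal (Localization.AtPrime p) :=
      ((IsLocalRing.local_hom_TFAE
        (algebraMap (AtPrime 𝒜 p) (Localization.AtPrime p))).out 0 2).mp hloc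
    rw [h] at h1
    exact (IsLocalRing.maximalIdeal.isMaximal _).ne_top (top_le_iff.mp h1)
  have : Nontrivial (Localization.AtPrime p ⧸ I) := Ideal.Quotient.nontrivial_iff.mpr hI
  have : IsLocalRing (Localization.AtPrime p ⧸ I) :=
    IsLocalRing.of_surjective' (Ideal.Quotient.mk I) Ideal.Quotient.mk_surjective
  exact ((Groth.Agent.Lib.Helper5.GorFlat.main (AtPrime 𝒜 p) (Localization.AtPrime p)
    (Localization.AtPrime p ⧸ I) (Ideal.Quotient.mk I) Ideal.Quotient.mk_surjective
    Ideal.mk_ker).mp hC).1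

open Pointwise in
/-- Under condition (#), a relevant prime misses a homogeneous element of every large degree. -/
theorem exists_notMem_of_sharp {d₀ : ℕ}
    (hsharp : ∀ d : ℕ, d₀ ≤ d → ∀ n : ℕ, 1 ≤ n →
      𝒜 ((n + 1) * d) = AddSubgroup.closure ((𝒜 d : Set A) * (𝒜 (n * d) : Set A)))
    {e : ℕ} (he : 0 < e) {f : A} (hf : f ∈ 𝒜 e) (hfp : f ∉ p) (d : ℕ) (hd : d₀ ≤ d) :
    ∃ a ∈ 𝒜 d, a ∉ p := by
  by_contra hcon
  have hall : ∀ a ∈ 𝒜 d, a ∈ p := by
    intro a ha
    by_contra h
    exact hcon ⟨a, ha, h⟩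
  have hfd : f ^ d ∈ 𝒜 (d • e) := SetLike.pow_mem_graded d hf
  have hfdp : f ^ d ∉ p := fun h => hfp (Ideal.IsPrime.mem_of_pow_mem inferInstance _ h)
  rcases Nat.lt_or_ge e 2 with h2 | h2
  · have he1 : e = 1 := by omega
    subst he1
    rw [smul_eq_mul, mul_one] at hfd
    exact hfdp (hall _ hfd)
  · obtain ⟨n, rfl⟩ : ∃ n, e = n + 1 := ⟨e - 1, by omega⟩
    have hn : 1 ≤ n := by omega
    have h1 := hsharp d hd n hn
    have h3 : 𝒜 ((n + 1) * d) ≤ p.toAddSubgroup := by
      rw [h1, AddSubgroup.closure_le]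
      rintro _ ⟨x, hx, y, hy, rfl⟩
      exact Ideal.mul_mem_right y p (hall x hx)
    apply hfdp
    apply h3
    rw [smul_eq_mul, mul_comm] at hfd
    exact hfd

end alg

section proj

open AlgebraicGeometry Pointwise

variable {A : Type u} [CommRing A] (𝒜 : ℕ → AddSubgroup A) [GradedRing 𝒜]

theorem stalk_gor [h : IsGorensteinRing A]
    (hsharp : ∃ d₀ : ℕ, ∀ d : ℕ, d₀ ≤ d → ∀ n : ℕ, 1 ≤ n →
      𝒜 ((n + 1) * d) = AddSubgroup.closure ((𝒜 d : Set A) * (𝒜 (n * d) : Set A)))
    (x : Proj 𝒜) : IsGorensteinLocalRing ((Proj 𝒜).presheaf.stalk x) := by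
  have hx : x.asHomogeneousIdeal.toIdeal.IsPrime := x.isPrime
  obtain ⟨e, he, f, hf, hfx⟩ := ProjCM.exists_pos_notMem 𝒜 x
  obtain ⟨d₀, hd₀⟩ := hsharp
  obtain ⟨a, ha, hap⟩ := exists_notMem_of_sharp hd₀ he hf hfx d₀ le_rfl
  obtain ⟨b, hb, hbp⟩ := exists_notMem_of_sharp hd₀ he hf hfx (d₀ + 1) (Nat.le_succ _)
  let eqv : (Proj 𝒜).presheaf.stalk x ≃+* AtPrime 𝒜 x.asHomogeneousIdeal.toIdeal :=
    (Proj.stalkIso 𝒜 x).commRingCatIsoToRingEquiv
  have h1 : IsGorensteinLocalRing (AtPrime 𝒜 x.asHomogeneousIdeal.toIdeal) :=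
    isGorensteinLocalRing_atPrime ha hap hb hbp (h.isGorensteinLocalRing_localization _)
  exact Groth.Agent.Lib.Helper5.GorRing.gorLocal_of_ringEquiv eqv.symm

end proj

end Groth.Agent.Lib.R2H7.ProjGor
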