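import Mathlib
import Groth.Prelude
import Groth.Agent.Lib.R2H7HilbPolyB
import Groth.Agent.Lib.R2LeadKRR
import Groth.Agent.Lib.R2H3VAmpleConv
import Groth.Agent.Lib.R2H3AmpleSV
import Groth.Agent.Lib.R2H4TensorPows
import Groth.Agent.Lib.Helper23PB

/-!
# helper7: Hilbert polynomials on a scheme over projective space, integer versus natural twists

For `ι : X ⟶ P^N_k` with `X` proper over `k` and `L = ι^* O(1)` ample: a polynomial `ψ` satisfies
`χ(G ⊗ ι^* O(m)) = ψ(m)` for all integers `m` (`HPZ`, in terms of `Pic13.twistOn`) if and only if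
`ShStab.IsHilbPoly k X L G ψ`, for coherent `G` (`hilbZ_iff`).  `isAmple_pullback_one`: `L` is ample
when `ι` is a topological embedding (e.g. an immersion).
-/

set_option autoImplicit false
universe u
open CategoryTheory CategoryTheory.Limits AlgebraicGeometry Polynomial
open Groth.Agent.Lib.R2H4TensorPows Groth.Agent.Lib.R2Lead.KRR Groth.Agent.Lib.R2H7.StabNum
  Groth.Agent.Lib.R2H7.HilbPoly

namespace Groth.Agent.Lib.R2H7.ProjHilbZ

variable {N : ℕ} {k : Type u} [Field k] {X : Scheme.{u}} (ι : X ⟶ CohB1.ProjSpace N k)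

/-- `O_X(m) = ι^* O(m)` -/
noncomputable def OX (m : ℤ) : X.Modules :=
  (Scheme.Modules.pullback ι).obj (Twist.twistProjSpace N k m)

theorem isInvertible_OX (m : ℤ) : PicF.IsInvertible (OX ι m) :=
  Groth.Agent.Lib.Helper23.PB.isInvertible_pullback ι _ (isInvertible_twistProjSpace N k m)

theorem nonempty_OX_tensor_iso (a b : ℤ) :
    Nonempty (CohB1.tensorMod (OX ι a) (OX ι b) ≅ OX ι (a + b)) := by
  obtain ⟨e1⟩ := Groth.Agent.Lib.Helper23.PB.nonempty_pullback_tensorMod_iso ι _ _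
    (isInvertible_twistProjSpace N k a) (isInvertible_twistProjSpace N k b)
  obtain ⟨e2⟩ := nonempty_twistProjSpace_tensor_iso N k a b
  exact ⟨e1.symm ≪≫ (Scheme.Modules.pullback ι).mapIso e2⟩

theorem nonempty_OX_zero_iso : Nonempty (OX ι 0 ≅ Coh.structureModule X) := by
  obtain ⟨e⟩ := nonempty_twistProjSpace_zero_iso N k
  exact ⟨(Scheme.Modules.pullback ι).mapIso e ≪≫ Groth.Agent.Lib.Helper23.PB.pullbackUnitIso ι⟩

theorem nonempty_tensorPow_iso (m : ℕ) :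
    Nonempty (CohB1.tensorPow (OX ι 1) m ≅ OX ι (m : ℤ)) := by
  induction m with
  | zero =>
    obtain ⟨e⟩ := nonempty_OX_zero_iso ι
    exact ⟨e.symm⟩
  | succ m ih =>
    obtain ⟨e⟩ := ih
    obtain ⟨e'⟩ := nonempty_OX_tensor_iso ι (m : ℤ) 1
    have h : ((m + 1 : ℕ) : ℤ) = (m : ℤ) + 1 := by push_cast; rfl
    rw [h]
    exact ⟨tIso e (Iso.refl _) ≪≫ e'⟩

theorem isAmple_pullback_one [CompactSpace X] (hι : Topology.IsEmbedding ι) :
    CohB1.IsAmple (OX ι 1) :=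
  Groth.Agent.Lib.Helper23.PB.isAmple_pullback_of_isEmbedding ι hι _
    (Groth.Agent.Lib.R2H3.VAmpleConv.isAmple_twistProjSpace_one N k)

variable [X.Over (Spec (CommRingCat.of k))]

/-- the integer form of the Hilbert polynomial property -/
def HPZ (G : X.Modules) (ψ : ℚ[X]) : Prop :=
  ∀ m : ℤ, (Curv2.euler k X (Pic13.twistOn k ι G m) : ℚ) = ψ.eval (m : ℚ)

theorem hilbNat_of_hilbZ (G : X.Modules) (ψ : ℚ[X]) (h : HPZ ι G ψ) :
    ShStab.IsHilbPoly k X (OX ι 1) G ψ := by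
  intro m
  obtain ⟨e⟩ := nonempty_tensorPow_iso ι m
  have h1 : Curv2.euler k X (ShStab.twist X (OX ι 1) G m) =
      Curv2.euler k X (Pic13.twistOn k ι G (m : ℤ)) :=
    Groth.Agent.Lib.R2H1.DegCartier.euler_congr k (tIso (Iso.refl _) e)
  rw [h1, h (m : ℤ), Int.cast_natCast]

variable [IsProper (X ↘ Spec (CommRingCat.of k))]

theorem hilbZ_of_hilbNat (hL : CohB1.IsAmple (OX ι 1)) (G : X.Modules) (hG : Coh.IsCoh G)
    (ψ : ℚ[X]) (h : ShStab.IsHilbPoly k X (OX ι 1) G ψ) : HPZ ι G ψ := by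
  intro m
  obtain ⟨M, hM⟩ : ∃ M : ℕ, 0 ≤ m + M := ⟨(-m).toNat, by omega⟩
  set G' := CohB1.tensorMod G (OX ι (-(M : ℤ))) with hG'def
  have hG' : Coh.IsCoh G' :=
    Groth.Agent.Lib.R2H3.AmpleSV.isCoh_tensorMod_invertible G _ hG (isInvertible_OX ι _)
  obtain ⟨P', hP'⟩ := (hilbAx k (OX ι 1) hL).hp_exists hG'
  have key : ∀ (j : ℕ) (a : ℤ), a = (j : ℤ) - M →
      Nonempty (CohB1.tensorMod G' (CohB1.tensorPow (OX ι 1) j) ≅
        CohB1.tensorMod G (OX ι a)) := by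
    intro j a ha
    obtain ⟨e1⟩ := nonempty_tensorPow_iso ι j
    obtain ⟨e2⟩ := nonempty_OX_tensor_iso ι (-(M : ℤ)) (j : ℤ)
    have h3 : -(M : ℤ) + j = a := by omega
    rw [h3] at e2
    exact ⟨tIso (Iso.refl _) e1 ≪≫ tAssoc _ _ _ ≪≫ tIso (Iso.refl _) e2⟩
  have hshift : P'.comp (Polynomial.X + C (M : ℚ)) = ψ := by
    apply eq_of_forall_eval_eq
    intro m'
    rw [eval_comp, eval_add, eval_X, eval_C]
    obtain ⟨e⟩ := key (m' + M) (m' : ℤ) (by push_cast; ring)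
    obtain ⟨e1⟩ := nonempty_tensorPow_iso ι m'
    have h1 := hP' (m' + M)
    have h2 := h m'
    have h3 : Curv2.euler k X (ShStab.twist X (OX ι 1) G' (m' + M)) =
        Curv2.euler k X (ShStab.twist X (OX ι 1) G m') :=
      Groth.Agent.Lib.R2H1.DegCartier.euler_congr k (e ≪≫ tIso (Iso.refl _) e1.symm)
    rw [← h2, ← h3, h1]
    push_cast
    rfl
  obtain ⟨e⟩ := key (m + M).toNat m (by omega)
  have h1 := hP' (m + M).toNat
  have h3 : Curv2.euler k X (ShStab.twist X (OX ι 1) G' (m + M).toNat) =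
      Curv2.euler k X (Pic13.twistOn k ι G m) :=
    Groth.Agent.Lib.R2H1.DegCartier.euler_congr k e
  rw [← h3, h1, ← hshift, eval_comp, eval_add, eval_X, eval_C]
  congr 1
  have h4 : (((m + M).toNat : ℕ) : ℤ) = m + M := Int.toNat_of_nonneg hM
  have h5 := congrArg (Int.cast : ℤ → ℚ) h4
  rw [Int.cast_natCast] at h5
  rw [h5]
  push_cast
  rfl

theorem hilbZ_iff (hL : CohB1.IsAmple (OX ι 1)) {G : X.Modules} {ψ : ℚ[X]} (hG : Coh.IsCoh G) :
    HPZ ι G ψ ↔ ShStab.IsHilbPoly k X (OX ι 1) G ψ :=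
  ⟨hilbNat_of_hilbZ ι G ψ, hilbZ_of_hilbNat ι hL G hG ψ⟩

end Groth.Agent.Lib.R2H7.ProjHilbZ
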