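import Mathlib
import Groth.Agent.Lib.Helper4ProjCone7

/-!
# Linear forms missing a closed subset of projective space of dimension `≤ d`

Namespace `Groth.Agent.Lib.R2H7.ProjNoetherA`.

Generalisation of `Helper4.ProjCone.exists_linear_forms` from homogeneous primes to arbitrary closed subsets.
-/

set_option autoImplicit false
set_option linter.style.haveILetI false
universe u

open AlgebraicGeometry Order

namespace Groth.Agent.Lib.R2H7.ProjNoetherA

open MvPolynomial Groth.Agent.Lib.Helper4.ProjCone

variable (k : Type u) [Field k] (n : ℕ)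

/-- the inductive construction of linear forms cutting down the dimension, for a homogeneous ideal
all of whose points have coheight at most `r` -/
theorem exists_linear_forms_of_coheight_le [Infinite k] (I : Ideal (MvPolynomial (Fin (n + 1)) k))
    (hIh : I.IsHomogeneous (CohB1.polyGrading n k)) (r : ℕ)
    (hbase : ∀ z : ProjectiveSpectrum (CohB1.polyGrading n k),
      I ≤ z.asHomogeneousIdeal.toIdeal → Order.coheight z ≤ (r : ℕ∞)) :
    ∀ j : ℕ, ∃ h : Fin j → MvPolynomial (Fin (n + 1)) k, (∀ i, (h i).IsHomogeneous 1) ∧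
      ∀ z : ProjectiveSpectrum (CohB1.polyGrading n k),
        I ⊔ Ideal.span (Set.range h) ≤ z.asHomogeneousIdeal.toIdeal →
          Order.coheight z + (j : ℕ∞) ≤ (r : ℕ∞) := by
  intro j
  induction j with
  | zero =>
    refine ⟨Fin.elim0, fun i => i.elim0, ?_⟩
    intro z hz
    simpa using hbase z (le_sup_left.trans hz)
  | succ j ih =>
    obtain ⟨h, hh, hz⟩ := ih
    obtain ⟨h', hh', hav⟩ := exists_linear_notMem_minimalPrimes k n (I ⊔ Ideal.span (Set.range h))
    refine ⟨Fin.cons h' h, ?_, ?_⟩
    · intro i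
      refine Fin.cases ?_ (fun i => ?_) i
      · rw [Fin.cons_zero]; exact hh'
      · rw [Fin.cons_succ]; exact hh i
    · intro z hzle
      rw [Fin.range_cons, Ideal.span_insert] at hzle
      have hJz : I ⊔ Ideal.span (Set.range h) ≤ z.asHomogeneousIdeal.toIdeal :=
        sup_le (le_sup_left.trans hzle) ((le_sup_right.trans le_sup_right).trans hzle)
      have hh'z : h' ∈ z.asHomogeneousIdeal.toIdeal :=
        hzle (Ideal.mem_sup_right (Ideal.mem_sup_left (Ideal.subset_span rfl)))
      haveI : z.asHomogeneousIdeal.toIdeal.IsPrime := z.isPrime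
      obtain ⟨q, hq, hqz⟩ := Ideal.exists_minimalPrimes_le hJz
      have hJhom : (I ⊔ Ideal.span (Set.range h)).IsHomogeneous (CohB1.polyGrading n k) := by
        refine Ideal.IsHomogeneous.sup hIh ?_
        apply Ideal.homogeneous_span
        rintro _ ⟨i, rfl⟩
        exact ⟨1, (MvPolynomial.mem_homogeneousSubmodule _ _).mpr (hh i)⟩
      have hqhom := Groth.Agent.Lib.Helper27ProjHypConn.isHomogeneous_of_mem_minimalPrimes
        (CohB1.polyGrading n k) hJhom hq
      have hrel : ¬ (HomogeneousIdeal.irrelevant (CohB1.polyGrading n k)).toIdeal ≤ q :=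
        fun hle => z.not_irrelevant_le (hle.trans hqz)
      obtain ⟨y, hy⟩ : ∃ y : ProjectiveSpectrum (CohB1.polyGrading n k),
          y.asHomogeneousIdeal.toIdeal = q := ⟨⟨⟨q, hqhom⟩, hq.1.1, hrel⟩, rfl⟩
      have hyz : y < z := by
        refine lt_of_le_of_ne ?_ ?_
        · change y.asHomogeneousIdeal.toIdeal ≤ z.asHomogeneousIdeal.toIdeal
          rw [hy]
          exact hqz
        · intro heq
          apply hav q hq hrel
          rw [← hy, heq]
          exact hh'z
      have h1 := Order.coheight_add_one_le hyz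
      have h2 := hz y (by rw [hy]; exact hq.1.2)
      calc Order.coheight z + ((j + 1 : ℕ) : ℕ∞) = (Order.coheight z + 1) + (j : ℕ∞) := by
            push_cast; ring
        _ ≤ Order.coheight y + (j : ℕ∞) := add_le_add h1 le_rfl
        _ ≤ (r : ℕ∞) := h2

/-- **linear forms missing a closed subset of dimension `≤ d`**: `d + 1` linear forms without common
zero on `Z`. -/
theorem exists_linear_forms_of_isClosed [Infinite k]
    (Z : Set (ProjectiveSpectrum (CohB1.polyGrading n k))) (hZ : IsClosed Z) (d : ℕ)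
    (hdim : topologicalKrullDim ↥Z ≤ (d : WithBot ℕ∞)) :
    ∃ h : Fin (d + 1) → MvPolynomial (Fin (n + 1)) k, (∀ i, (h i).IsHomogeneous 1) ∧
      ∀ z ∈ Z, ∃ i, h i ∉ z.asHomogeneousIdeal := by
  obtain ⟨h, hh, hz⟩ := exists_linear_forms_of_coheight_le k n
    (ProjectiveSpectrum.vanishingIdeal Z).toIdeal (ProjectiveSpectrum.vanishingIdeal Z).isHomogeneous d
    (fun z hz => by
      have hzZ : z ∈ Z := (mem_iff_vanishingIdeal_le k n Z hZ z).2 hz
      have h1 := (coheight_le_topologicalKrullDim (CohB1.polyGrading n k) Z hZ z hzZ).trans hdim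
      exact_mod_cast h1) (d + 1)
  refine ⟨h, hh, fun z hzZ => ?_⟩
  by_contra hcon
  push Not at hcon
  have hle : (ProjectiveSpectrum.vanishingIdeal Z).toIdeal ⊔ Ideal.span (Set.range h) ≤
      z.asHomogeneousIdeal.toIdeal := by
    refine sup_le ((mem_iff_vanishingIdeal_le k n Z hZ z).1 hzZ) ?_
    rw [Ideal.span_le]
    rintro _ ⟨i, rfl⟩
    exact hcon i
  have h1 := hz z hle
  have h2 : ((d + 1 : ℕ) : ℕ∞) ≤ Order.coheight z + ((d + 1 : ℕ) : ℕ∞) := le_add_self
  have h3 := h2.trans h1
  have : d + 1 ≤ d := by exact_mod_cast h3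
  omega

end Groth.Agent.Lib.R2H7.ProjNoetherA
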