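import Mathlib
import Groth.Prelude
import Groth.Agent.Lib.R2H7ProjNoetherA
import Groth.Agent.Lib.Helper4VarDim13
import Groth.Agent.Lib.Helper4VarDim9
import Groth.Agent.Lib.Helper4VarDim11
import Groth.Agent.Lib.R2H3VAmpleMain
import Groth.Agent.Lib.R2H1PLineA
import Groth.Agent.Lib.R2LeadKRR
import Groth.Agent.Lib.Helper23PB
import Groth.Agent.S10829
import Groth.Agent.S9705
set_option backward.isDefEq.respectTransparency.types false

/-!
# Projective Noether normalisation (S15000)

Namespace `Groth.Agent.Lib.R2H7.ProjNoetherB`.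

`main` : a closed subscheme `Y ⊆ P^N_k` of dimension `d` (`k` an infinite field) admits a finite surjective
`k`-morphism `π : Y ⟶ P^d_k` with `π^* O(1) ≅ O_Y(1)`.
-/

set_option autoImplicit false
set_option linter.style.haveILetI false
set_option linter.unusedSectionVars false
universe u
open CategoryTheory CategoryTheory.Limits AlgebraicGeometry TopologicalSpace Opposite

namespace Groth.Agent.Lib.R2H7.ProjNoetherB

open Groth.Agent.Lib.Helper23.SecTw Groth.Agent.Lib.Helper23.GenLocus Groth.Agent.Lib.Helper6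
  Groth.Agent.Lib.Helper23.AmpleIso Groth.Agent.Lib.Helper23.Extend Groth.Agent.Lib.Helper27GrTildeSect
  Groth.Agent.Lib.R2H3.VAmpleMor Groth.Agent.Lib.R2H3.VAmpleMain

section trdeg

open Groth.Agent.Lib.Helper4.VarDim

variable (k : Type u) [Field k] {X X' : Scheme.{u}}
  [X.Over (Spec (CommRingCat.of k))] [X'.Over (Spec (CommRingCat.of k))]
  [LocallyOfFiniteType (X ↘ Spec (CommRingCat.of k))]
  [LocallyOfFiniteType (X' ↘ Spec (CommRingCat.of k))]

/-- finite morphisms preserve the transcendence degree of residue fields (copy of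
`R2H1.CurveLift.trdegNat_eq_of_isFinite` with light imports) -/
theorem trdegNat_eq_of_isFinite (f : X' ⟶ X)
    (hf : f ≫ (X ↘ Spec (CommRingCat.of k)) = X' ↘ Spec (CommRingCat.of k)) [IsFinite f]
    (t : X') : trdegNat k X (f t) = trdegNat k X' t := by
  have h1 := trdeg_add_trdeg_residueFieldMap k f hf t
  rw [trdeg_residueFieldMap_eq_zero_of_locallyQuasiFinite f t, add_zero,
    trdeg_eq_trdegNat k _ (f t), trdeg_eq_trdegNat k X' t] at h1
  exact_mod_cast h1

end trdeg

variable (k : Type u) [Field k]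

/-- the family of degree one elements: the chosen linear forms, followed by the coordinates -/
noncomputable def fam (N d : ℕ) (h : Fin (d + 1) → MvPolynomial (Fin (N + 1)) k) :
    Fin (d + 1) ⊕ Fin (N + 1) → MvPolynomial (Fin (N + 1)) k :=
  Sum.elim h (fun j => MvPolynomial.X j)

theorem fam_mem (N d : ℕ) (h : Fin (d + 1) → MvPolynomial (Fin (N + 1)) k)
    (hh : ∀ i, (h i).IsHomogeneous 1) (j : Fin (d + 1) ⊕ Fin (N + 1)) :
    fam k N d h j ∈ CohB1.polyGrading N k 1 := by
  rcases j with i | j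
  · exact (MvPolynomial.mem_homogeneousSubmodule _ _).mpr (hh i)
  · exact hX N j

theorem fam_cov (N d : ℕ) (h : Fin (d + 1) → MvPolynomial (Fin (N + 1)) k)
    (y : Proj (CohB1.polyGrading N k)) :
    ∃ j, fam k N d h j ∉
      (show ProjectiveSpectrum (CohB1.polyGrading N k) from y).asHomogeneousIdeal := by
  obtain ⟨i, hi⟩ := hcovX (R := k) N y
  exact ⟨Sum.inr i, hi⟩

/-- the generic point of `P^d_k` is the only point with residue field of transcendence degree `d` -/
theorem eq_genericPoint_of_trdegNat (d : ℕ)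
    [(CohB1.ProjSpace d k).Over (Spec (CommRingCat.of k))]
    [LocallyOfFiniteType ((CohB1.ProjSpace d k) ↘ Spec (CommRingCat.of k))]
    [IrreducibleSpace (CohB1.ProjSpace d k)]
    (p : CohB1.ProjSpace d k)
    (hp : Groth.Agent.Lib.Helper4.VarDim.trdegNat k (CohB1.ProjSpace d k) p = d) :
    p = genericPoint (CohB1.ProjSpace d k) := by
  by_contra hne
  have hsp : genericPoint (CohB1.ProjSpace d k) ⤳ p := genericPoint_specializes p
  have h1 := Groth.Agent.Lib.Helper4.VarDim.trdegNat_lt_of_specializes k (CohB1.ProjSpace d k)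
    _ p hsp (Ne.symm hne)
  have h2 := Groth.Agent.Lib.Helper4.VarDim.trdegNat_le_topologicalKrullDim k (CohB1.ProjSpace d k)
    (genericPoint (CohB1.ProjSpace d k))
  rw [Groth.Agent.S10829.result k d] at h2
  have h3 : Groth.Agent.Lib.Helper4.VarDim.trdegNat k (CohB1.ProjSpace d k)
      (genericPoint (CohB1.ProjSpace d k)) ≤ d := by exact_mod_cast h2
  omega

open Groth.Agent.Lib.Helper4.VarDim in
/-- **Projective Noether normalisation.** -/
theorem main [Infinite k] (N d : ℕ) (Y : Scheme.{u}) (f : Y ⟶ Spec (CommRingCat.of k))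
    (ι : Y ⟶ CohB1.ProjSpace N k) [IsClosedImmersion ι]
    (hι : ι ≫ CohB1.ProjSpace.toSpec N k = f)
    (hdim : topologicalKrullDim ↥Y = (d : WithBot ℕ∞)) :
    ∃ π : Y ⟶ CohB1.ProjSpace d k, π ≫ CohB1.ProjSpace.toSpec d k = f ∧ IsFinite π ∧
      Function.Surjective π.base ∧
      Nonempty ((Scheme.Modules.pullback π).obj (Twist.twistProjSpace d k 1) ≅
        (Scheme.Modules.pullback ι).obj (Twist.twistProjSpace N k 1)) := by
  classical
  let Z : Set (ProjectiveSpectrum (CohB1.polyGrading N k)) := Set.range ι.base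
  have hZc : IsClosed Z := ι.isClosedEmbedding.isClosed_range
  have hZdim : topologicalKrullDim ↥Z ≤ (d : WithBot ℕ∞) := by
    have e : Y ≃ₜ Z := ι.isClosedEmbedding.isEmbedding.toHomeomorph
    rw [← hdim]
    exact (IsHomeomorph.topologicalKrullDim_eq _ e.isHomeomorph).ge
  obtain ⟨h, hh, hmiss⟩ :=
    Groth.Agent.Lib.R2H7.ProjNoetherA.exists_linear_forms_of_isClosed k N Z hZc d hZdim
  have hG := fam_mem k N d h hh
  have hcov := fam_cov k N d h
  let L : Y.Modules := (Scheme.Modules.pullback ι).obj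
    (GrTilde.tilde (CohB1.polyGrading N k) (CohB1.polyGrading N k) ((1 : ℕ) : ℤ))
  let s' : Fin (d + 1) ⊕ Fin (N + 1) → ProjUP.Γm L := fun j =>
    ProjUP.pullSec ι (GrTilde.tilde (CohB1.polyGrading N k) (CohB1.polyGrading N k) ((1 : ℕ) : ℤ))
      (gsec (CohB1.polyGrading N k) 1 ⊤ (hG j))
  have hτ : ∀ j, (Iso.refl L).hom.app ⊤ (ProjUP.pullSec ι
      (GrTilde.tilde (CohB1.polyGrading N k) (CohB1.polyGrading N k) ((1 : ℕ) : ℤ))
      (gsec (CohB1.polyGrading N k) 1 ⊤ (hG j))) = s' j := fun j => rfl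
  have hpre : ∀ i : Fin (d + 1), ι ⁻¹ᵁ Proj.basicOpen (CohB1.polyGrading N k) (h i) =
      CohB1.genLocus L (secHom L (s' (Sum.inl i))) := fun i =>
    preimage_eq (CohB1.polyGrading N k) (fam k N d h) hG hcov ι L (Iso.refl L) s' hτ (Sum.inl i)
  let s : Fin (d + 1) → ProjUP.Γm L := fun i => s' (Sum.inl i)
  have hs : ProjUP.GeneratedBy L s := by
    apply Groth.Agent.Lib.R2H3.VAmpleMor.generatedBy_of_cover
    intro y
    obtain ⟨i, hi⟩ := hmiss (ι.base y) ⟨y, rfl⟩
    refine ⟨i, ?_⟩
    rw [← hpre i]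
    exact (ProjectiveSpectrum.mem_basicOpen (CohB1.polyGrading N k) (h i) _).mpr hi
  have hL : PicF.IsInvertible L :=
    Groth.Agent.Lib.Helper23.PB.isInvertible_pullback ι _
      (isInvertible_of_cover (CohB1.polyGrading N k) 1
        (fun i => (MvPolynomial.X i : MvPolynomial (Fin (N + 1)) k)) (hX (R := k) N)
        (hcovX (R := k) N))
  obtain ⟨π, hπ, τ, hτ''⟩ : ∃ (π : Y ⟶ CohB1.ProjSpace d k)
      (_ : π ≫ CohB1.ProjSpace.toSpec d k = f)
      (τ : (Scheme.Modules.pullback π).obj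
        (GrTilde.tilde (CohB1.polyGrading d k) (CohB1.polyGrading d k) ((1 : ℕ) : ℤ)) ≅ L),
      ∀ i, τ.hom.app ⊤ (ProjUP.pullSec π
        (GrTilde.tilde (CohB1.polyGrading d k) (CohB1.polyGrading d k) ((1 : ℕ) : ℤ))
          (gsec (CohB1.polyGrading d k) 1 ⊤ (hX (R := k) d i))) = s i :=
    exists_mor_data (R := k) d f L hL s hs
  haveI : IsProper (CohB1.ProjSpace.toSpec N k) :=
    Groth.Agent.S9705.isProper_projSpace_toSpec N k
  haveI : IsProper (CohB1.ProjSpace.toSpec d k) :=
    Groth.Agent.S9705.isProper_projSpace_toSpec d k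
  haveI : IsProper f := by rw [← hι]; infer_instance
  haveI : IsProper (π ≫ CohB1.ProjSpace.toSpec d k) := by rw [hπ]; infer_instance
  haveI : IsProper π := IsProper.of_comp π (CohB1.ProjSpace.toSpec d k)
  have hpre' : ∀ i, π ⁻¹ᵁ Proj.basicOpen (CohB1.polyGrading d k)
      (MvPolynomial.X i : MvPolynomial (Fin (d + 1)) k) =
      CohB1.genLocus L (secHom L (s i)) := fun i =>
    preimage_eq (CohB1.polyGrading d k)
      (fun i => (MvPolynomial.X i : MvPolynomial (Fin (d + 1)) k)) (hX (R := k) d)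
      (hcovX (R := k) d) π L τ s hτ'' i
  haveI : IsAffineHom π := by
    apply isAffineHom_of_forall_exists_isAffineOpen
    intro p
    obtain ⟨i, hi⟩ := hcovX (R := k) d p
    refine ⟨Proj.basicOpen (CohB1.polyGrading d k) (MvPolynomial.X i),
      (ProjectiveSpectrum.mem_basicOpen _ _ _).mpr hi,
      Proj.isAffineOpen_basicOpen (CohB1.polyGrading d k) _ (hX (R := k) d i) Nat.one_pos, ?_⟩
    rw [hpre' i, ← hpre i]
    let ι' : Y ⟶ Proj (CohB1.polyGrading N k) := ι
    haveI : IsAffineHom ι' := (inferInstance : IsAffineHom ι)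
    exact (Proj.isAffineOpen_basicOpen (CohB1.polyGrading N k) (h i) (hG (Sum.inl i))
      Nat.one_pos).preimage ι'
  haveI hfin : IsFinite π := IsFinite.iff_isProper_and_isAffineHom.mpr ⟨inferInstance, inferInstance⟩
  refine ⟨π, hπ, hfin, ?_, ?_⟩
  swap
  · rw [twist_eq, twist_eq]
    exact ⟨τ⟩
  -- surjectivity
  letI : Y.Over (Spec (CommRingCat.of k)) := ⟨f⟩
  haveI : LocallyOfFiniteType (Y ↘ Spec (CommRingCat.of k)) :=
    (inferInstance : LocallyOfFiniteType f)
  haveI : LocallyOfFiniteType ((CohB1.ProjSpace d k) ↘ Spec (CommRingCat.of k)) :=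
    (inferInstance : LocallyOfFiniteType (CohB1.ProjSpace.toSpec d k))
  haveI : CompactSpace Y := QuasiCompact.compactSpace_of_compactSpace f
  haveI : Nonempty Y := by
    by_contra hne
    rw [not_nonempty_iff] at hne
    haveI : IsEmpty (IrreducibleCloseds ↥Y) :=
      ⟨fun c => hne.elim c.isIrreducible'.nonempty.some⟩
    have h0 : topologicalKrullDim ↥Y = ⊥ := Order.krullDim_eq_bot
    rw [h0] at hdim
    exact absurd hdim (by simp)
  obtain ⟨η, -, hη⟩ := exists_trdegNat_eq_topologicalKrullDim k Y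
  have hπ' : π ≫ ((CohB1.ProjSpace d k) ↘ Spec (CommRingCat.of k)) =
      Y ↘ Spec (CommRingCat.of k) := hπ
  have h1 : trdegNat k (CohB1.ProjSpace d k) (π η) = d := by
    rw [trdegNat_eq_of_isFinite k (X := CohB1.ProjSpace d k) π hπ' η]
    rw [hdim] at hη
    exact_mod_cast hη.symm
  haveI : IsIntegral (CohB1.ProjSpace d k) :=
    Groth.Agent.Lib.R2H1.PLineA.isIntegral_projSpace d k
  have h2 := eq_genericPoint_of_trdegNat k d (π η) h1
  intro p
  have hcl : IsClosed (Set.range π.base) := π.isClosedMap.isClosed_range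
  have hsp : genericPoint (CohB1.ProjSpace d k) ⤳ p := genericPoint_specializes p
  exact hsp.mem_closed hcl ⟨η, h2⟩

end Groth.Agent.Lib.R2H7.ProjNoetherB
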