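import Mathlib
import Groth.Agent.Lib.R2H7ValInter

/-!
# The intersection of a semilocal Prüfer domain with a subfield of its fraction field
-/

set_option autoImplicit false

namespace Groth.Agent.Lib.R2H7.ValInter

universe u

variable (R L : Type u) [CommRing R] [IsDomain R] [Field L] [Algebra R L] [IsFractionRing R L]

theorem mem_ofField_or_inv_mem (𝔪 : Ideal R) [𝔪.IsPrime]
    (h : ValuationRing (Localization.AtPrime 𝔪)) (x : L) :
    x ∈ Localization.subalgebra.ofField L 𝔪.primeCompl 𝔪.primeCompl_le_nonZeroDivisors ∨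
      x⁻¹ ∈ Localization.subalgebra.ofField L 𝔪.primeCompl 𝔪.primeCompl_le_nonZeroDivisors := by
  obtain ⟨a, b, hb, rfl⟩ := IsFractionRing.div_surjective R x
  have hinj : Function.Injective (algebraMap R L) := IsFractionRing.injective R L
  have hb0 : algebraMap R L b ≠ 0 :=
    (map_ne_zero_iff _ hinj).mpr (nonZeroDivisors.ne_zero hb)
  by_cases ha : a = 0
  · left
    rw [ha, map_zero, zero_div]
    exact Subalgebra.zero_mem _
  have ha0 : algebraMap R L a ≠ 0 := (map_ne_zero_iff _ hinj).mpr ha
  have hinj' : Function.Injective (algebraMap R (Localization.AtPrime 𝔪)) :=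
    IsLocalization.injective _ 𝔪.primeCompl_le_nonZeroDivisors
  obtain ⟨c, hc⟩ := ValuationRing.cond (algebraMap R (Localization.AtPrime 𝔪) a)
    (algebraMap R (Localization.AtPrime 𝔪) b)
  obtain ⟨c₁, s, rfl⟩ := IsLocalization.exists_mk'_eq 𝔪.primeCompl c
  have hs0 : algebraMap R L (s : R) ≠ 0 :=
    (map_ne_zero_iff _ hinj).mpr (fun h0 => s.2 (by rw [h0]; exact 𝔪.zero_mem))
  rcases hc with hc | hc
  · right
    rw [IsLocalization.mul_mk'_eq_mk'_of_mul, IsLocalization.mk'_eq_iff_eq_mul, ← map_mul] at hc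
    have h1 : a * c₁ = b * s := hinj' hc
    have h2 : algebraMap R L a * algebraMap R L c₁ = algebraMap R L b * algebraMap R L s := by
      rw [← map_mul, ← map_mul, h1]
    refine ⟨c₁, s, s.2, ?_⟩
    rw [inv_div]
    field_simp
    linear_combination -h2
  · left
    rw [IsLocalization.mul_mk'_eq_mk'_of_mul, IsLocalization.mk'_eq_iff_eq_mul, ← map_mul] at hc
    have h1 : b * c₁ = a * s := hinj' hc
    have h2 : algebraMap R L b * algebraMap R L c₁ = algebraMap R L a * algebraMap R L s := by
      rw [← map_mul, ← map_mul, h1]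
    refine ⟨c₁, s, s.2, ?_⟩
    field_simp
    linear_combination -h2

/-- the valuation subring of `L` given by the localization of `R` at a prime -/
noncomputable def locVal (𝔪 : Ideal R) [𝔪.IsPrime]
    (h : ValuationRing (Localization.AtPrime 𝔪)) : ValuationSubring L :=
  { (Localization.subalgebra.ofField L 𝔪.primeCompl
      𝔪.primeCompl_le_nonZeroDivisors).toSubring with
    mem_or_inv_mem' := mem_ofField_or_inv_mem R L 𝔪 h }

theorem mem_locVal (𝔪 : Ideal R) [𝔪.IsPrime] (h : ValuationRing (Localization.AtPrime 𝔪))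
    (x : L) : x ∈ locVal R L 𝔪 h ↔
      x ∈ Localization.subalgebra.ofField L 𝔪.primeCompl 𝔪.primeCompl_le_nonZeroDivisors :=
  Iff.rfl

/-- **`R ∩ K` is a semilocal Prüfer domain with fraction field `K`.** -/
theorem semilocal_prufer_inf_subfield
    (hR : ∀ (p : Ideal R) [p.IsPrime], ValuationRing (Localization.AtPrime p))
    (hfin : Finite (MaximalSpectrum R)) (K : Subfield L) :
    (∀ (p : Ideal ↥((algebraMap R L).range ⊓ K.toSubring)) [p.IsPrime],
        ValuationRing (Localization.AtPrime p)) ∧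
      Finite (MaximalSpectrum ↥((algebraMap R L).range ⊓ K.toSubring)) ∧
      ∀ x : L, x ∈ K → ∃ a b : L, a ∈ (algebraMap R L).range ⊓ K.toSubring ∧
        b ∈ (algebraMap R L).range ⊓ K.toSubring ∧ b ≠ 0 ∧ x = a / b := by
  haveI : Nonempty (MaximalSpectrum R) := by
    obtain ⟨M, hM⟩ := Ideal.exists_maximal R
    exact ⟨⟨M, hM⟩⟩
  let O : MaximalSpectrum R → ValuationSubring L := fun v =>
    haveI := v.isMaximal.isPrime
    locVal R L v.asIdeal (hR v.asIdeal)
  have hS : ∀ x, x ∈ (algebraMap R L).range ⊓ K.toSubring ↔ x ∈ K ∧ ∀ v, x ∈ O v := by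
    intro x
    have h1 : x ∈ (algebraMap R L).range ↔ ∀ v, x ∈ O v := by
      have h2 := MaximalSpectrum.iInf_localization_eq_bot R L
      have h3 : x ∈ (algebraMap R L).range ↔ x ∈ (⊥ : Subalgebra R L) := by
        rw [Algebra.mem_bot]
        rfl
      rw [h3, ← h2, Algebra.mem_iInf]
      rfl
    rw [Subring.mem_inf, h1]
    exact and_comm
  exact ⟨fun p _ => valuationRing_localization O K _ hS p,
    finite_maximalSpectrum O K _ hS, fun x hx => exists_eq_div O K _ hS x hx⟩

end Groth.Agent.Lib.R2H7.ValInter
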