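import Mathlib
import Groth.Agent.Lib.R2H7PruferInter
import Groth.Agent.Lib.Helper5Abhyankar

/-!
# Finite Krull dimension of `R ∩ K` for a finitely generated subfield `K`

Let `S = K ∩ ⋂ O_i` be a finite intersection of valuation rings of a field `L` with a subfield `K`
generated (as a field) by a finite set `t`.  Then every chain of primes of `S` has length at most
`#t + 1` (a crude form of Abhyankar's inequality), so `S` has finite Krull dimension.
-/

set_option autoImplicit false

namespace Groth.Agent.Lib.R2H7.PruferDim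

open Groth.Agent.Lib.R2H7.ValInter

section Order

variable {L Γ : Type*} [Field L] [LinearOrderedCommGroupWithZero Γ] (v : Valuation L Γ)

theorem lt_prod (g : ℕ → L) (x : L) (hx1 : v x < 1) (I : Finset ℕ) :
    (∀ i ∈ I, ∀ n : ℕ, v x < v (g i) ^ n) → ∀ b : ℕ → ℕ, v x < v (∏ i ∈ I, g i ^ b i) := by
  classical
  induction I using Finset.induction_on with
  | empty => intro _ b; simpa using hx1
  | insert i I hi ih =>
    intro hx b
    have ih' := ih (fun j hj => hx j (Finset.mem_insert_of_mem hj))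
    rw [Finset.prod_insert hi, map_mul, map_pow]
    by_contra hcon
    rw [not_lt] at hcon
    have h1 : v x < v (g i) ^ (2 * b i) := hx i (Finset.mem_insert_self _ _) _
    have h2 : v x < v (∏ j ∈ I, g j ^ (2 * b j)) := ih' (fun j => 2 * b j)
    have h3 : v (∏ j ∈ I, g j ^ (2 * b j)) = v (∏ j ∈ I, g j ^ b j) ^ 2 := by
      rw [← map_pow, ← Finset.prod_pow]
      congr 1
      refine Finset.prod_congr rfl fun j _ => ?_
      rw [← pow_mul, mul_comm]
    rw [h3] at h2
    have h4 : v x * v x < v (g i) ^ (2 * b i) * v (∏ j ∈ I, g j ^ b j) ^ 2 :=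
      mul_lt_mul'' h1 h2 zero_le zero_le
    have h5 : (v (g i) ^ b i * v (∏ j ∈ I, g j ^ b j)) ^ 2 ≤ v x ^ 2 := pow_le_pow_left' hcon 2
    rw [mul_pow, ← pow_mul, mul_comm (b i) 2, sq (v x)] at h5
    exact lt_irrefl _ (lt_of_lt_of_le h4 h5)

theorem exp_lt_false (g : ℕ → L) (i0 : ℕ) (I : Finset ℕ)
    (hg1 : ∀ i ∈ insert i0 I, v (g i) < 1) (hg0 : g i0 ≠ 0)
    (hch : ∀ j ∈ I, ∀ n : ℕ, v (g i0) < v (g j) ^ n) (hi0 : i0 ∉ I) (a b : ℕ → ℕ)
    (h : v (∏ i ∈ insert i0 I, g i ^ a i) = v (∏ i ∈ insert i0 I, g i ^ b i)) :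
    ¬ a i0 < b i0 := by
  classical
  intro hlt
  rw [Finset.prod_insert hi0, Finset.prod_insert hi0, map_mul, map_mul, map_pow, map_pow] at h
  obtain ⟨d, hd⟩ := Nat.exists_eq_add_of_lt hlt
  rw [hd, pow_add, pow_add, mul_assoc, mul_assoc] at h
  have hne : v (g i0) ^ a i0 ≠ 0 := pow_ne_zero _ ((Valuation.ne_zero_iff v).mpr hg0)
  have h' := mul_left_cancel₀ hne h
  have hA : v (g i0) < v (∏ i ∈ I, g i ^ a i) :=
    lt_prod v g (g i0) (hg1 i0 (Finset.mem_insert_self _ _)) I hch a
  have hB : v (∏ i ∈ I, g i ^ b i) ≤ 1 := by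
    rw [map_prod]
    refine Finset.prod_le_one' fun j hj => ?_
    rw [map_pow]
    exact pow_le_one' (hg1 j (Finset.mem_insert_of_mem hj)).le _
  have hd1 : v (g i0) ^ d ≤ 1 := pow_le_one' (hg1 i0 (Finset.mem_insert_self _ _)).le _
  have hle : v (g i0) ^ d * (v (g i0) ^ 1 * v (∏ i ∈ I, g i ^ b i)) ≤ v (g i0) := by
    calc v (g i0) ^ d * (v (g i0) ^ 1 * v (∏ i ∈ I, g i ^ b i))
        ≤ 1 * (v (g i0) ^ 1 * 1) := mul_le_mul' hd1 (mul_le_mul' le_rfl hB)
      _ = v (g i0) := by simp
  rw [h'] at hA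
  exact lt_irrefl _ (lt_of_lt_of_le hA hle)

theorem exp_eq (g : ℕ → L) (I : Finset ℕ) : (∀ i ∈ I, v (g i) < 1) → (∀ i ∈ I, g i ≠ 0) →
    (∀ i ∈ I, ∀ j ∈ I, i < j → ∀ n : ℕ, v (g i) < v (g j) ^ n) → ∀ a b : ℕ → ℕ,
    v (∏ i ∈ I, g i ^ a i) = v (∏ i ∈ I, g i ^ b i) → ∀ i ∈ I, a i = b i := by
  classical
  refine Finset.induction_on_min I ?_ ?_
  · intro _ _ _ a b _ i hi
    simp at hi
  · intro i0 I hmin ih hg1 hg0 hch a b h
    have hi0 : i0 ∉ I := fun hmem => lt_irrefl _ (hmin i0 hmem)
    have hch0 : ∀ j ∈ I, ∀ n : ℕ, v (g i0) < v (g j) ^ n := fun j hj n =>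
      hch i0 (Finset.mem_insert_self _ _) j (Finset.mem_insert_of_mem hj) (hmin j hj) n
    have hgi0 := hg0 i0 (Finset.mem_insert_self _ _)
    have h1 := exp_lt_false v g i0 I hg1 hgi0 hch0 hi0 a b h
    have h2 := exp_lt_false v g i0 I hg1 hgi0 hch0 hi0 b a h.symm
    have heq : a i0 = b i0 := le_antisymm (not_lt.mp h2) (not_lt.mp h1)
    have h' : v (∏ i ∈ I, g i ^ a i) = v (∏ i ∈ I, g i ^ b i) := by
      rw [Finset.prod_insert hi0, Finset.prod_insert hi0, map_mul, map_mul, heq] at h
      refine mul_left_cancel₀ ?_ h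
      rw [map_pow]
      exact pow_ne_zero _ ((Valuation.ne_zero_iff v).mpr hgi0)
    have ih' := ih (fun i hi => hg1 i (Finset.mem_insert_of_mem hi))
      (fun i hi => hg0 i (Finset.mem_insert_of_mem hi))
      (fun i hi j hj hij n =>
        hch i (Finset.mem_insert_of_mem hi) j (Finset.mem_insert_of_mem hj) hij n) a b h'
    intro i hi
    rcases Finset.mem_insert.mp hi with h0 | hi'
    · rw [h0]; exact heq
    · exact ih' i hi'

end Order

/-- the prime subring of a field -/
abbrev Zr (L : Type*) [Field L] : Subring L := (Int.castRingHom L).range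

section Sep

variable {L : Type*} [Field L] {ι : Type*} (O : ι → ValuationSubring L) (K : Subfield L)
  (S : Subring L) [Finite ι] [Nonempty ι] (hS : ∀ x, x ∈ S ↔ x ∈ K ∧ ∀ i, x ∈ O i)

include hS in
theorem sep (i : ι) (p : Ideal S) [hpp : p.IsPrime]
    (hp : p ≤ nIdeal O S (fun x hx => ((hS x).mp hx).2) i) (a b : S) (ha : a ∈ p) (hb : b ∉ p)
    (n : ℕ) : (O i).valuation (a : L) < (O i).valuation (b : L) ^ n := by
  by_contra hcon
  rw [not_lt] at hcon
  have hb0 : (b : L) ≠ 0 := fun h0 => hb (by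
    have : b = 0 := Subtype.ext h0
    rw [this]; exact p.zero_mem)
  have ha0 : (a : L) ≠ 0 := by
    intro h0
    rw [h0, map_zero, ← map_pow] at hcon
    exact (pow_ne_zero n hb0) ((Valuation.zero_iff _).mp (le_antisymm hcon zero_le))
  have hva0 : (0 : (O i).ValueGroup) < (O i).valuation (a : L) :=
    zero_lt_iff.mpr ((Valuation.ne_zero_iff _).mpr ha0)
  have hxK : (b : L) ^ n / (a : L) ∈ K :=
    K.div_mem (K.pow_mem ((hS _).mp b.2).1 n) ((hS _).mp a.2).1
  have hxO : (b : L) ^ n / (a : L) ∈ O i := by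
    rw [← ValuationSubring.valuation_le_one_iff, map_div₀, map_pow]
    exact (div_le_one₀ hva0).mpr hcon
  obtain ⟨t, htS, ht0, hxt, hval⟩ := exists_denominator O K S hS _ hxK
  have hvt : (O i).valuation t = 1 := hval i hxO
  have htp : (⟨t, htS⟩ : S) ∉ p := fun hmem => by
    have h1 := hp hmem
    rw [mem_nIdeal] at h1
    exact (ne_of_lt h1) hvt
  have hmem : b ^ n * ⟨t, htS⟩ ∈ p := by
    have h1 : b ^ n * ⟨t, htS⟩ = ⟨(b : L) ^ n / (a : L) * t, hxt⟩ * a := by
      apply Subtype.ext
      push_cast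
      field_simp
    rw [h1]; exact p.mul_mem_left _ ha
  rcases hpp.mem_or_mem hmem with h | h
  · exact hb (hpp.mem_of_pow_mem n h)
  · exact htp h

include hS in
theorem exists_pi (i : ι) (y : S) (hy0 : y ≠ 0)
    (hy : y ∈ nIdeal O S (fun x hx => ((hS x).mp hx).2) i) :
    ∃ π : S, π ≠ 0 ∧ (O i).valuation (π : L) < 1 ∧
      ∀ n : ℕ, (n : L) ≠ 0 → ∃ e : ℕ, (O i).valuation (n : L) = (O i).valuation (π : L) ^ e := by
  classical
  have hle : ∀ n : ℕ, (O i).valuation (n : L) ≤ 1 := fun n =>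
    (ValuationSubring.valuation_le_one_iff _ _).mpr (natCast_mem (O i) n)
  by_cases h : ∃ ℓ : ℕ, (ℓ : L) ≠ 0 ∧ (O i).valuation (ℓ : L) < 1
  · obtain ⟨hℓ0, hℓ1⟩ := Nat.find_spec h
    have hmin : ∀ m : ℕ, m < Nat.find h → (m : L) ≠ 0 → (O i).valuation (m : L) = 1 :=
      fun m hm hm0 => le_antisymm (hle m) (not_lt.mp fun hlt => Nat.find_min h hm ⟨hm0, hlt⟩)
    have hℓ2 : 1 < Nat.find h := by
      by_contra hcon
      have h01 : Nat.find h = 0 ∨ Nat.find h = 1 := by omega
      rcases h01 with h0 | h1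
      · apply hℓ0; rw [h0]; simp
      · rw [h1] at hℓ1; simp at hℓ1
    refine ⟨⟨(Nat.find h : L), natCast_mem S _⟩, fun h0 => hℓ0 (congrArg Subtype.val h0), hℓ1, ?_⟩
    intro n
    induction n using Nat.strong_induction_on with
    | _ n ih =>
      intro hn0
      have hnpos : 0 < n := Nat.pos_of_ne_zero (fun h0 => hn0 (by rw [h0]; simp))
      have hdecomp : (n : L) = (Nat.find h : L) * ((n / Nat.find h : ℕ) : L)
          + ((n % Nat.find h : ℕ) : L) := by
        rw [← Nat.cast_mul, ← Nat.cast_add, Nat.div_add_mod]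
      by_cases hr : ((n % Nat.find h : ℕ) : L) = 0
      · rw [hr, add_zero] at hdecomp
        have hq0 : ((n / Nat.find h : ℕ) : L) ≠ 0 := fun h0 => hn0 (by rw [hdecomp, h0, mul_zero])
        obtain ⟨e, he⟩ := ih (n / Nat.find h) (Nat.div_lt_self hnpos hℓ2) hq0
        refine ⟨e + 1, ?_⟩
        rw [hdecomp, map_mul, he, pow_succ, mul_comm]
      · have hr1 : (O i).valuation ((n % Nat.find h : ℕ) : L) = 1 :=
          hmin _ (Nat.mod_lt _ (by omega)) hr
        refine ⟨0, ?_⟩
        rw [pow_zero, hdecomp, add_comm, Valuation.map_add_eq_of_lt_left, hr1]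
        rw [hr1, map_mul]
        calc (O i).valuation (Nat.find h : L) * (O i).valuation ((n / Nat.find h : ℕ) : L)
            ≤ (O i).valuation (Nat.find h : L) * 1 := mul_le_mul' le_rfl (hle _)
          _ < 1 := by rwa [mul_one]
  · push Not at h
    refine ⟨y, hy0, (mem_nIdeal O S _ i y).mp hy, fun n hn0 => ⟨0, ?_⟩⟩
    rw [pow_zero]
    exact le_antisymm (hle n) (h n hn0)

include hS in
theorem length_le (t : Finset L) (hK : K = Subfield.closure (t : Set L)) (P : ℕ → Ideal S)
    (r : ℕ) (hprime : ∀ k ≤ r, (P k).IsPrime)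
    (hmono : ∀ k k', k ≤ k' → k' ≤ r → P k ≤ P k')
    (hstrict : ∀ k < r, P k < P (k + 1)) : r ≤ t.card + 1 := by
  classical
  rcases Nat.eq_zero_or_pos r with hr0 | hrpos
  · omega
  haveI hPr := hprime r le_rfl
  obtain ⟨i, hi⟩ := exists_le_nIdeal O K S hS (P r) hPr.ne_top
  have hPn : ∀ k ≤ r, P k ≤ nIdeal O S (fun x hx => ((hS x).mp hx).2) i := fun k hk =>
    (hmono k r hk le_rfl).trans hi
  have hex : ∀ k : ℕ, ∃ y : S, 1 ≤ k → k ≤ r → y ∈ P k ∧ y ∉ P (k - 1) := by
    intro k
    by_cases hk : 1 ≤ k ∧ k ≤ r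
    · obtain ⟨y, hy1, hy2⟩ := SetLike.exists_of_lt (hstrict (k - 1) (by omega))
      refine ⟨y, fun _ _ => ⟨?_, hy2⟩⟩
      have : k - 1 + 1 = k := by omega
      rwa [this] at hy1
    · exact ⟨0, fun h1 h2 => absurd ⟨h1, h2⟩ hk⟩
  choose yS hyS using hex
  have hy0 : ∀ k, 1 ≤ k → k ≤ r → yS k ≠ 0 := fun k h1 h2 h0 =>
    (hyS k h1 h2).2 (by rw [h0]; exact (P (k - 1)).zero_mem)
  obtain ⟨π, hπ0, hπ1, hπn⟩ := exists_pi O K S hS i (yS r) (hy0 r hrpos le_rfl)
    (hPn r le_rfl (hyS r hrpos le_rfl).1)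
  -- levels
  let lev : S → ℕ := fun u => ((Finset.range (r + 1)).filter (fun k => u ∉ P k)).card
  have hlevy : ∀ k, 1 ≤ k → k ≤ r → lev (yS k) = k := by
    intro k h1 h2
    have hfil : (Finset.range (r + 1)).filter (fun k' => yS k ∉ P k') = Finset.range k := by
      ext k'
      simp only [Finset.mem_filter, Finset.mem_range]
      constructor
      · rintro ⟨hk', hnot⟩
        by_contra hge
        rw [not_lt] at hge
        exact hnot (hmono k k' hge (by omega) (hyS k h1 h2).1)
      · intro hlt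
        exact ⟨by omega, fun hmem =>
          (hyS k h1 h2).2 (hmono k' (k - 1) (by omega) (by omega) hmem)⟩
    show ((Finset.range (r + 1)).filter (fun k' => yS k ∉ P k')).card = k
    rw [hfil, Finset.card_range]
  have hsepl : ∀ a b : S, lev a < lev b → ∀ n : ℕ,
      (O i).valuation (a : L) < (O i).valuation (b : L) ^ n := by
    intro a b hab n
    have hsepk : ∃ k ≤ r, a ∈ P k ∧ b ∉ P k := by
      by_contra hcon
      push Not at hcon
      refine absurd hab (not_lt.mpr (Finset.card_le_card ?_))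
      intro k hk
      simp only [Finset.mem_filter, Finset.mem_range] at hk ⊢
      exact ⟨hk.1, fun ha => hk.2 (hcon k (by omega) ha)⟩
    obtain ⟨k, hk, hak, hbk⟩ := hsepk
    haveI := hprime k hk
    exact sep O K S hS i (P k) (hPn k hk) a b hak hbk n
  -- the family
  let lp : ℕ := lev π
  let J : Finset ℕ := (Finset.Icc 1 r).erase lp
  let gS : ℕ → S := fun k => if k = lp then π else yS k
  have hJmem : ∀ k ∈ J, k ≠ lp ∧ 1 ≤ k ∧ k ≤ r := fun k hk => by
    have hk' := Finset.mem_erase.mp hk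
    have hk'' := Finset.mem_Icc.mp hk'.2
    exact ⟨hk'.1, hk''.1, hk''.2⟩
  have hg_lp : gS lp = π := if_pos rfl
  have hg_J : ∀ k ∈ J, gS k = yS k := fun k hk => if_neg (hJmem k hk).1
  have hlp_notin : lp ∉ J := Finset.notMem_erase _ _
  have hglev : ∀ k ∈ insert lp J, lev (gS k) = k := by
    intro k hk
    rcases Finset.mem_insert.mp hk with h | hk
    · rw [h, hg_lp]
    · rw [hg_J k hk]; exact hlevy k (hJmem k hk).2.1 (hJmem k hk).2.2
  have hg1 : ∀ k ∈ insert lp J, (O i).valuation ((gS k : S) : L) < 1 := by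
    intro k hk
    rcases Finset.mem_insert.mp hk with h | hk
    · rw [h, hg_lp]; exact hπ1
    · rw [hg_J k hk]
      exact (mem_nIdeal O S _ i _).mp
        (hPn k (hJmem k hk).2.2 (hyS k (hJmem k hk).2.1 (hJmem k hk).2.2).1)
  have hg0 : ∀ k ∈ insert lp J, ((gS k : S) : L) ≠ 0 := by
    intro k hk h0
    have h0' : gS k = 0 := Subtype.ext h0
    rcases Finset.mem_insert.mp hk with h | hk
    · rw [h, hg_lp] at h0'; exact hπ0 h0'
    · rw [hg_J k hk] at h0'; exact hy0 k (hJmem k hk).2.1 (hJmem k hk).2.2 h0'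
  have hch : ∀ a ∈ insert lp J, ∀ b ∈ insert lp J, a < b → ∀ n : ℕ,
      (O i).valuation ((gS a : S) : L) < (O i).valuation ((gS b : S) : L) ^ n := by
    intro a ha b hb hab n
    exact hsepl _ _ (by rw [hglev a ha, hglev b hb]; exact hab) n
  -- values of the integer coefficients
  have hcoef : ∀ c : Zr L, (c : L) ≠ 0 →
      ∃ e : ℕ, (O i).valuation (c : L) = (O i).valuation (π : L) ^ e := by
    intro c hc
    obtain ⟨z, hz⟩ := c.2
    have hz' : (c : L) = (z : L) := by rw [← hz]; simp
    have hcases : (z : L) = ((z.natAbs : ℕ) : L) ∨ (z : L) = -((z.natAbs : ℕ) : L) := by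
      rcases Int.natAbs_eq z with h | h
      · left
        have h1 := congrArg (fun w : ℤ => (w : L)) h
        simp only [Int.cast_natCast] at h1
        exact h1
      · right
        have h1 := congrArg (fun w : ℤ => (w : L)) h
        simp only [Int.cast_natCast, Int.cast_neg] at h1
        exact h1
    rcases hcases with h | h
    · rw [hz', h] at hc ⊢
      exact hπn _ hc
    · rw [hz', h] at hc ⊢
      rw [Valuation.map_neg]
      exact hπn _ (neg_ne_zero.mp hc)
  -- algebraic independence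
  have hAI : AlgebraicIndependent (Zr L) (fun k : J => ((gS k.1 : S) : L)) := by
    rw [algebraicIndependent_iff]
    intro Q hQ
    by_contra hQ0
    rw [MvPolynomial.aeval_def, MvPolynomial.eval₂_eq] at hQ
    have hcne : ∀ d ∈ Q.support, ((MvPolynomial.coeff d Q : Zr L) : L) ≠ 0 := fun d hd h0 =>
      (MvPolynomial.mem_support_iff.mp hd) (Subtype.ext h0)
    have hexp : ∀ d : J →₀ ℕ, ∃ e : ℕ, d ∈ Q.support →
        (O i).valuation ((MvPolynomial.coeff d Q : Zr L) : L) = (O i).valuation (π : L) ^ e := by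
      intro d
      by_cases hd : d ∈ Q.support
      · obtain ⟨e, he⟩ := hcoef _ (hcne d hd); exact ⟨e, fun _ => he⟩
      · exact ⟨0, fun h => absurd h hd⟩
    choose ex hex using hexp
    let A : (J →₀ ℕ) → ℕ → ℕ := fun d k =>
      if k = lp then ex d else if h : k ∈ J then d ⟨k, h⟩ else 0
    have hA_lp : ∀ d, A d lp = ex d := fun d => if_pos rfl
    have hA_J : ∀ d (k : J), A d k.1 = d k := fun d k => by
      show (if k.1 = lp then ex d else if h : k.1 ∈ J then d ⟨k.1, h⟩ else 0) = d k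
      rw [if_neg (hJmem k.1 k.2).1, dif_pos k.2]
    have hterm : ∀ d ∈ Q.support,
        (O i).valuation (algebraMap (Zr L) L (MvPolynomial.coeff d Q) *
          ∏ k ∈ d.support, ((gS k.1 : S) : L) ^ d k) =
        (O i).valuation (∏ k ∈ insert lp J, ((gS k : S) : L) ^ A d k) := by
      intro d hd
      rw [Finset.prod_insert hlp_notin, map_mul, map_mul]
      congr 1
      · rw [hg_lp, map_pow, hA_lp]
        exact hex d hd
      · congr 1
        rw [← Finset.prod_coe_sort J, Finset.prod_subset (Finset.subset_univ d.support)]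
        · refine Finset.prod_congr rfl fun k _ => ?_
          rw [hA_J]
        · intro k _ hk
          rw [Finsupp.notMem_support_iff.mp hk, pow_zero]
    refine Groth.Agent.Lib.Helper5.Abhyankar.sum_ne_zero_of_distinct (O i).valuation
      Q.support _ ?_ ?_ hQ
    · intro d hd d' hd' hne heq
      rw [hterm d hd, hterm d' hd'] at heq
      have hall := exp_eq (O i).valuation (fun k => ((gS k : S) : L)) (insert lp J) hg1 hg0 hch
        (A d) (A d') heq
      apply hne
      ext k
      have h1 := hall k.1 (Finset.mem_insert_of_mem k.2)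
      rwa [hA_J, hA_J] at h1
    · have hsupp : Q.support.Nonempty := by
        rw [Finset.nonempty_iff_ne_empty, ne_eq, MvPolynomial.support_eq_empty]; exact hQ0
      obtain ⟨d, hd⟩ := hsupp
      exact ⟨d, hd, mul_ne_zero (hcne d hd) (Finset.prod_ne_zero_iff.mpr fun k _ =>
        pow_ne_zero _ (hg0 k.1 (Finset.mem_insert_of_mem k.2)))⟩
  -- counting
  have hcount : J.card ≤ t.card := by
    have hinj := hAI.injective
    have hind : (AlgebraicIndependent.matroid (Zr L) L).Indep
        (Set.range fun k : J => ((gS k.1 : S) : L)) := by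
      rw [AlgebraicIndependent.matroid_indep_iff]
      exact hAI.to_subtype_range
    have hsub : (Set.range fun k : J => ((gS k.1 : S) : L)) ⊆
        (AlgebraicIndependent.matroid (Zr L) L).closure (t : Set L) := by
      rw [AlgebraicIndependent.matroid_closure_eq]
      rintro _ ⟨k, rfl⟩
      have hmemK : ((gS k.1 : S) : L) ∈ Subfield.closure (t : Set L) := by
        rw [← hK]; exact ((hS _).mp (gS k.1).2).1
      obtain ⟨y, hy, z, hz, hyz⟩ := Subfield.mem_closure_iff.mp hmemK
      have hle : Subring.closure (t : Set L) ≤ (Algebra.adjoin (Zr L) (t : Set L)).toSubring :=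
        Subring.closure_le.mpr Algebra.subset_adjoin
      have hy' : y ∈ Algebra.adjoin (Zr L) (t : Set L) := hle hy
      have hz' : z ∈ Algebra.adjoin (Zr L) (t : Set L) := hle hz
      show IsAlgebraic (Algebra.adjoin (Zr L) (t : Set L)) ((gS k.1 : S) : L)
      rw [← hyz, div_eq_mul_inv]
      exact (isAlgebraic_algebraMap (⟨y, hy'⟩ : Algebra.adjoin (Zr L) (t : Set L))).mul
        (isAlgebraic_algebraMap (⟨z, hz'⟩ : Algebra.adjoin (Zr L) (t : Set L))).inv
    have h1 := hind.encard_le_eRk_of_subset hsub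
    rw [Matroid.eRk_closure_eq] at h1
    have h2 := h1.trans (Matroid.eRk_le_encard _ _)
    rw [Set.encard_coe_eq_coe_finsetCard] at h2
    have h3 : (Set.range fun k : J => ((gS k.1 : S) : L)).encard = J.card := by
      rw [← Set.image_univ, hinj.encard_image, Set.encard_univ, ENat.card_eq_coe_fintype_card,
        Fintype.card_coe]
    rw [h3] at h2
    exact_mod_cast h2
  have hJcard : r - 1 ≤ J.card := by
    have := Finset.pred_card_le_card_erase (s := Finset.Icc 1 r) (a := lp)
    simpa using this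
  omega

include hS in
theorem ringKrullDim_lt_top (t : Finset L) (hK : K = Subfield.closure (t : Set L)) :
    ringKrullDim S < ⊤ := by
  have hle : ringKrullDim S ≤ ((t.card + 1 : ℕ) : WithBot ℕ∞) := by
    unfold ringKrullDim Order.krullDim
    refine iSup_le fun p => ?_
    have hlen : p.length ≤ t.card + 1 := by
      refine length_le O K S hS t hK
        (fun k => (p ⟨min k p.length, by omega⟩).asIdeal) p.length ?_ ?_ ?_
      · intro k _; exact (p _).isPrime
      · intro k k' hkk' hk'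
        have h1 : (p ⟨min k p.length, by omega⟩) ≤ (p ⟨min k' p.length, by omega⟩) :=
          p.strictMono.monotone (by rw [Fin.le_def]; simp only; omega)
        exact h1
      · intro k hk
        have h1 : (p ⟨min k p.length, by omega⟩) < (p ⟨min (k + 1) p.length, by omega⟩) :=
          p.strictMono (by rw [Fin.lt_def]; simp only; omega)
        exact h1
    exact_mod_cast hlen
  refine lt_of_le_of_lt hle ?_
  exact WithBot.coe_lt_coe.mpr (ENat.natCast_lt_top _)

end Sep

section Main

universe u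

variable (R L : Type u) [CommRing R] [IsDomain R] [Field L] [Algebra R L] [IsFractionRing R L]

theorem semilocal_prufer_dim
    (hR : ∀ (p : Ideal R) [p.IsPrime], ValuationRing (Localization.AtPrime p))
    (hfin : Finite (MaximalSpectrum R)) (t : Finset L) :
    ringKrullDim ↥((algebraMap R L).range ⊓ (Subfield.closure (t : Set L)).toSubring) < ⊤ := by
  haveI : Nonempty (MaximalSpectrum R) := by
    obtain ⟨M, hM⟩ := Ideal.exists_maximal R
    exact ⟨⟨M, hM⟩⟩
  let O : MaximalSpectrum R → ValuationSubring L := fun v =>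
    haveI := v.isMaximal.isPrime
    locVal R L v.asIdeal (hR v.asIdeal)
  have hS : ∀ x, x ∈ (algebraMap R L).range ⊓ (Subfield.closure (t : Set L)).toSubring ↔
      x ∈ Subfield.closure (t : Set L) ∧ ∀ v, x ∈ O v := by
    intro x
    have h1 : x ∈ (algebraMap R L).range ↔ ∀ v, x ∈ O v := by
      have h2 := MaximalSpectrum.iInf_localization_eq_bot R L
      have h3 : x ∈ (algebraMap R L).range ↔ x ∈ (⊥ : Subalgebra R L) := by
        rw [Algebra.mem_bot]
        rfl
      rw [h3, ← h2, Algebra.mem_iInf]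
      rfl
    rw [Subring.mem_inf, h1]
    exact and_comm
  exact ringKrullDim_lt_top O (Subfield.closure (t : Set L)) _ hS t rfl

end Main

end Groth.Agent.Lib.R2H7.PruferDim
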