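import Mathlib
import Groth.Prelude.Def_W4c4chowquasisplitPn

/-!
# The truncated algebra `QsChow.P n` and its involution: `P = P^τ + P^τ ε₂`

For an algebra endomorphism `τ` of `P n` with `τ ε₁ = ε₁`, `τ ε_j = ε_j + ε₁^(2j-3)` every element
is of the form `a + b ε₂` with `a`, `b` fixed by `τ`; consequently `(1 + τ) P = ε₁ P^τ`.
-/

namespace Groth.Agent.Lib.R2H7.QsChowA

open MvPolynomial QsChow

lemma two_eq_zero (n : ℕ) : (2 : P n) = 0 := by
  have h : (2 : P n) = (2 : ZMod 2) • (1 : P n) := by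
    rw [two_smul, one_add_one_eq_two]
  rw [h]
  have : (2 : ZMod 2) = 0 := by decide
  rw [this, zero_smul]

lemma add_self (n : ℕ) (x : P n) : x + x = 0 := by
  linear_combination x * two_eq_zero n

lemma mk_X_eq_eps (n : ℕ) (i : Fin (numVars n)) :
    Ideal.Quotient.mk (truncIdeal n) (X i) = eps n (i.val + 1) := by
  unfold eps
  rw [dif_pos ⟨Nat.succ_pos _, i.isLt⟩]
  congr 2

lemma two_le_numVars {n : ℕ} (hn : 2 ≤ n) : 2 ≤ numVars n := by
  unfold numVars; omega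

section

variable {n : ℕ} (τ : P n →ₐ[ZMod 2] P n)

/-- `y = a + b ε₂` with `a`, `b` fixed. -/
def Dec (y : P n) : Prop := ∃ a b : P n, τ a = a ∧ τ b = b ∧ y = a + b * eps n 2

variable {τ}

lemma tau_c (hn : 2 ≤ n) (hτ1 : τ (eps n 1) = eps n 1)
    (hτ : ∀ j : ℕ, 2 ≤ j → j ≤ numVars n → τ (eps n j) = eps n j + eps n 1 ^ (2 * j - 3)) :
    τ (eps n 2 ^ 2 + eps n 1 * eps n 2) = eps n 2 ^ 2 + eps n 1 * eps n 2 := by
  have h2 := hτ 2 le_rfl (two_le_numVars hn)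
  have h2' : τ (eps n 2) = eps n 2 + eps n 1 := by simpa using h2
  rw [map_add, map_pow, map_mul, h2', hτ1]
  linear_combination (eps n 1 * eps n 2 + eps n 1 ^ 2) * two_eq_zero n

lemma Dec.mul (hn : 2 ≤ n) (hτ1 : τ (eps n 1) = eps n 1)
    (hτ : ∀ j : ℕ, 2 ≤ j → j ≤ numVars n → τ (eps n j) = eps n j + eps n 1 ^ (2 * j - 3))
    {y y' : P n} (hy : Dec τ y) (hy' : Dec τ y') : Dec τ (y * y') := by
  obtain ⟨a, b, ha, hb, rfl⟩ := hy
  obtain ⟨a', b', ha', hb', rfl⟩ := hy'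
  refine ⟨a * a' + b * b' * (eps n 2 ^ 2 + eps n 1 * eps n 2),
    a * b' + a' * b + b * b' * eps n 1, ?_, ?_, ?_⟩
  · rw [map_add, map_mul, map_mul, map_mul, tau_c hn hτ1 hτ, ha, ha', hb, hb']
  · rw [map_add, map_add, map_mul, map_mul, map_mul, map_mul, hτ1, ha, ha', hb, hb']
  · linear_combination (-(b * b' * eps n 1 * eps n 2)) * two_eq_zero n

lemma Dec.add {y y' : P n} (hy : Dec τ y) (hy' : Dec τ y') : Dec τ (y + y') := by
  obtain ⟨a, b, ha, hb, rfl⟩ := hy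
  obtain ⟨a', b', ha', hb', rfl⟩ := hy'
  refine ⟨a + a', b + b', ?_, ?_, ?_⟩
  · rw [map_add, ha, ha']
  · rw [map_add, hb, hb']
  · ring

lemma dec_algebraMap (c : ZMod 2) : Dec τ (algebraMap (ZMod 2) (P n) c) :=
  ⟨algebraMap (ZMod 2) (P n) c, 0, τ.commutes c, map_zero _, by simp⟩

lemma dec_gen (hn : 2 ≤ n) (hτ1 : τ (eps n 1) = eps n 1)
    (hτ : ∀ j : ℕ, 2 ≤ j → j ≤ numVars n → τ (eps n j) = eps n j + eps n 1 ^ (2 * j - 3))
    (i : Fin (numVars n)) : Dec τ (eps n (i.val + 1)) := by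
  by_cases h0 : i.val = 0
  · rw [h0]
    exact ⟨eps n 1, 0, hτ1, map_zero _, by simp⟩
  by_cases h1 : i.val = 1
  · rw [h1]
    exact ⟨0, 1, map_zero _, map_one _, by simp⟩
  have hj2 : 2 ≤ i.val + 1 := by omega
  have hjs : i.val + 1 ≤ numVars n := i.isLt
  have hk : 2 * (i.val + 1) - 3 = (2 * (i.val + 1) - 4) + 1 := by omega
  have h2 := hτ 2 le_rfl (two_le_numVars hn)
  have h2' : τ (eps n 2) = eps n 2 + eps n 1 := by simpa using h2
  refine ⟨eps n (i.val + 1) + eps n 1 ^ (2 * (i.val + 1) - 4) * eps n 2,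
    eps n 1 ^ (2 * (i.val + 1) - 4), ?_, ?_, ?_⟩
  · rw [map_add, map_mul, map_pow, hτ1, h2', hτ _ hj2 hjs, hk, pow_succ]
    linear_combination (eps n 1 ^ (2 * (i.val + 1) - 4) * eps n 1) * two_eq_zero n
  · rw [map_pow, hτ1]
  · linear_combination (-(eps n 1 ^ (2 * (i.val + 1) - 4) * eps n 2)) * two_eq_zero n

/-- Every element of `P n` is `a + b ε₂` with `a`, `b` fixed by `τ`. -/
theorem dec (hn : 2 ≤ n) (hτ1 : τ (eps n 1) = eps n 1)
    (hτ : ∀ j : ℕ, 2 ≤ j → j ≤ numVars n → τ (eps n j) = eps n j + eps n 1 ^ (2 * j - 3))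
    (y : P n) : Dec τ y := by
  obtain ⟨p, rfl⟩ := Ideal.Quotient.mk_surjective y
  induction p using MvPolynomial.induction_on with
  | C a => exact dec_algebraMap a
  | add p q hp hq =>
    rw [map_add]
    exact hp.add hq
  | mul_X p i hp =>
    rw [map_mul, mk_X_eq_eps]
    exact hp.mul hn hτ1 hτ (dec_gen hn hτ1 hτ i)

/-- `y + τ y = ε₁ b` for a fixed `b`. -/
theorem add_tau_eq (hn : 2 ≤ n) (hτ1 : τ (eps n 1) = eps n 1)
    (hτ : ∀ j : ℕ, 2 ≤ j → j ≤ numVars n → τ (eps n j) = eps n j + eps n 1 ^ (2 * j - 3))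
    (y : P n) : ∃ b : P n, τ b = b ∧ y + τ y = eps n 1 * b := by
  obtain ⟨a, b, ha, hb, rfl⟩ := dec hn hτ1 hτ y
  have h2 := hτ 2 le_rfl (two_le_numVars hn)
  have h2' : τ (eps n 2) = eps n 2 + eps n 1 := by simpa using h2
  refine ⟨b, hb, ?_⟩
  rw [map_add, map_mul, ha, hb, h2']
  linear_combination (a + b * eps n 2) * two_eq_zero n

/-- `ε₁ z = (ε₂ z) + τ (ε₂ z)` for fixed `z`. -/
theorem eps_mul_fixed_eq (hn : 2 ≤ n)
    (hτ : ∀ j : ℕ, 2 ≤ j → j ≤ numVars n → τ (eps n j) = eps n j + eps n 1 ^ (2 * j - 3))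
    (z : P n) (hz : τ z = z) : eps n 2 * z + τ (eps n 2 * z) = eps n 1 * z := by
  have h2 := hτ 2 le_rfl (two_le_numVars hn)
  have h2' : τ (eps n 2) = eps n 2 + eps n 1 := by simpa using h2
  rw [map_mul, hz, h2']
  linear_combination (eps n 2 * z) * two_eq_zero n

end

end Groth.Agent.Lib.R2H7.QsChowA
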