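/-
Deformations of a (possibly non-split) node `q(x,y) = 0`, `q` a binary quadratic form with unit
discriminant: successive approximation, the kernel lemma, and the structure theorem over complete
local rings.
-/
import Mathlib
import Groth.Agent.Lib.R2H7NodeEquiv
import Groth.Agent.Lib.R2H7NodeDeform

set_option autoImplicit false
universe u

namespace Groth.Agent.Lib.R2H7.QuadNode

open IsLocalRing Groth.Agent.Lib.Helper19 Groth.Agent.Lib.R2H7.NodeApprox
  Groth.Agent.Lib.R2H7.NodeCompl Groth.Agent.Lib.R2H7.NodeEquiv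

section approx

variable {Λ E : Type*} [CommRing Λ] [CommRing E] (ι : Λ →+* E) (𝔪 : Ideal Λ) (𝔫 : Ideal E)
  (u v : E)

variable [IsAdicComplete 𝔪 Λ] [IsAdicComplete 𝔫 E]

/-- Successive approximation for a binary quadratic form with unit discriminant. -/
theorem exists_approx_quad (A B C d : E) (hd : (4 * A * C - B ^ 2) * d = 1)
    (h𝔞𝔫 : 𝔪.map ι ≤ 𝔫)
    (hclosed : ∀ x : E, (∀ n, x ∈ 𝔪.map ι ⊔ 𝔫 ^ n) → x ∈ 𝔪.map ι)
    (hdec : ∀ b : E, ∃ (a : Λ) (p q : E), b = ι a + u * p + v * q)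
    (huv : A * u ^ 2 + B * u * v + C * v ^ 2 ∈ 𝔪.map ι) :
    ∃ (α : Λ) (u' v' : E), α ∈ 𝔪 ∧ u' - u ∈ 𝔪.map ι ∧ v' - v ∈ 𝔪.map ι ∧
      A * u' ^ 2 + B * u' * v' + C * v' ^ 2 = ι α := by
  classical
  set 𝔞 : Ideal E := 𝔪.map ι with h𝔞
  let good : ℕ → Λ × E × E → Prop := fun n s =>
    s.1 ∈ 𝔪 ∧ s.2.1 - u ∈ 𝔞 ∧ s.2.2 - v ∈ 𝔞 ∧
      A * s.2.1 ^ 2 + B * s.2.1 * s.2.2 + C * s.2.2 ^ 2 - ι s.1 ∈ 𝔞 ^ (n + 1)
  let close : ℕ → Λ × E × E → Λ × E × E → Prop := fun n s s' =>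
    s'.1 - s.1 ∈ 𝔪 ^ (n + 1) ∧ s'.2.1 - s.2.1 ∈ 𝔞 ^ (n + 1) ∧ s'.2.2 - s.2.2 ∈ 𝔞 ^ (n + 1)
  have hle1 : ∀ n : ℕ, 𝔞 ^ (n + 1) ≤ 𝔞 := fun n => Ideal.pow_le_self (Nat.succ_ne_zero n)
  have step : ∀ (n : ℕ) (s : Λ × E × E), good n s → ∃ s', good (n + 1) s' ∧ close n s s' := by
    rintro n ⟨α, u', v'⟩ ⟨hα, hu', hv', hε⟩
    obtain ⟨a, p, q, ha, hp, hq, he⟩ := decomp_pow ι 𝔪 u v hdec (n + 1) _ hε
    set δ₁ : E := d * (2 * C * p - B * q) with hδ₁
    set δ₂ : E := d * (2 * A * q - B * p) with hδ₂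
    have hδ₁m : δ₁ ∈ 𝔞 ^ (n + 1) :=
      Ideal.mul_mem_left _ _ (Ideal.sub_mem _ (Ideal.mul_mem_left _ _ hp) (Ideal.mul_mem_left _ _ hq))
    have hδ₂m : δ₂ ∈ 𝔞 ^ (n + 1) :=
      Ideal.mul_mem_left _ _ (Ideal.sub_mem _ (Ideal.mul_mem_left _ _ hq) (Ideal.mul_mem_left _ _ hp))
    have h1 : 2 * A * δ₁ + B * δ₂ = p := by
      rw [hδ₁, hδ₂]
      linear_combination p * hd
    have h2 : B * δ₁ + 2 * C * δ₂ = q := by
      rw [hδ₁, hδ₂]
      linear_combination q * hd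
    refine ⟨(α + a, u' - δ₁, v' - δ₂), ⟨?_, ?_, ?_, ?_⟩, ?_, ?_, ?_⟩
    · exact Ideal.add_mem _ hα (Ideal.pow_le_self (Nat.succ_ne_zero n) ha)
    · have e : u' - δ₁ - u = (u' - u) - δ₁ := by ring
      change u' - δ₁ - u ∈ 𝔞
      rw [e]
      exact Ideal.sub_mem _ hu' (hle1 n hδ₁m)
    · have e : v' - δ₂ - v = (v' - v) - δ₂ := by ring
      change v' - δ₂ - v ∈ 𝔞
      rw [e]
      exact Ideal.sub_mem _ hv' (hle1 n hδ₂m)
    · change A * (u' - δ₁) ^ 2 + B * (u' - δ₁) * (v' - δ₂) + C * (v' - δ₂) ^ 2 - ι (α + a) ∈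
        𝔞 ^ (n + 1 + 1)
      have e : A * (u' - δ₁) ^ 2 + B * (u' - δ₁) * (v' - δ₂) + C * (v' - δ₂) ^ 2 - ι (α + a) =
          -((u' - u) * p) - (v' - v) * q +
            (A * (δ₁ * δ₁) + B * (δ₁ * δ₂) + C * (δ₂ * δ₂)) := by
        rw [map_add]
        linear_combination he - u' * h1 - v' * h2
      rw [e]
      have m1 : (u' - u) * p ∈ 𝔞 ^ (n + 1 + 1) := by
        rw [pow_succ' 𝔞 (n + 1)]
        exact Ideal.mul_mem_mul hu' hp
      have m2 : (v' - v) * q ∈ 𝔞 ^ (n + 1 + 1) := by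
        rw [pow_succ' 𝔞 (n + 1)]
        exact Ideal.mul_mem_mul hv' hq
      have m3 : δ₁ * δ₁ ∈ 𝔞 ^ (n + 1 + 1) := by
        rw [pow_succ' 𝔞 (n + 1)]
        exact Ideal.mul_mem_mul (hle1 n hδ₁m) hδ₁m
      have m4 : δ₁ * δ₂ ∈ 𝔞 ^ (n + 1 + 1) := by
        rw [pow_succ' 𝔞 (n + 1)]
        exact Ideal.mul_mem_mul (hle1 n hδ₁m) hδ₂m
      have m5 : δ₂ * δ₂ ∈ 𝔞 ^ (n + 1 + 1) := by
        rw [pow_succ' 𝔞 (n + 1)]
        exact Ideal.mul_mem_mul (hle1 n hδ₂m) hδ₂m
      exact Ideal.add_mem _ (Ideal.sub_mem _ ((Ideal.neg_mem_iff _).mpr m1) m2)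
        (Ideal.add_mem _ (Ideal.add_mem _ (Ideal.mul_mem_left _ _ m3) (Ideal.mul_mem_left _ _ m4))
          (Ideal.mul_mem_left _ _ m5))
    · change α + a - α ∈ 𝔪 ^ (n + 1)
      rw [add_sub_cancel_left]
      exact ha
    · change u' - δ₁ - u' ∈ 𝔞 ^ (n + 1)
      rw [sub_sub_cancel_left]
      exact (Ideal.neg_mem_iff _).mpr hδ₁m
    · change v' - δ₂ - v' ∈ 𝔞 ^ (n + 1)
      rw [sub_sub_cancel_left]
      exact (Ideal.neg_mem_iff _).mpr hδ₂m
  choose! nxt hnxt using step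
  let seq : ℕ → Λ × E × E := fun n => Nat.rec (0, u, v) (fun n s => nxt n s) n
  have hseq : ∀ n, seq (n + 1) = nxt n (seq n) := fun n => rfl
  have hgood : ∀ n, good n (seq n) := by
    intro n
    induction n with
    | zero =>
      refine ⟨Ideal.zero_mem _, ?_, ?_, ?_⟩
      · change u - u ∈ 𝔞
        rw [sub_self]
        exact Ideal.zero_mem _
      · change v - v ∈ 𝔞
        rw [sub_self]
        exact Ideal.zero_mem _
      · change A * u ^ 2 + B * u * v + C * v ^ 2 - ι 0 ∈ 𝔞 ^ (0 + 1)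
        rw [map_zero, sub_zero, zero_add, pow_one]
        exact huv
    | succ n ih =>
      rw [hseq]
      exact (hnxt n _ ih).1
  have hclose : ∀ n, close n (seq n) (seq (n + 1)) := by
    intro n
    rw [hseq]
    exact (hnxt n _ (hgood n)).2
  have h𝔞pow : ∀ n : ℕ, 𝔞 ^ n ≤ 𝔫 ^ n := fun n => Ideal.pow_right_mono h𝔞𝔫 n
  obtain ⟨Lα, hLα⟩ := exists_limit 𝔪 (fun n => (seq n).1) (fun n =>
    Ideal.pow_le_pow_right (Nat.le_succ n) (hclose n).1)
  obtain ⟨Lu, hLu⟩ := exists_limit 𝔫 (fun n => (seq n).2.1) (fun n =>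
    Ideal.pow_le_pow_right (Nat.le_succ n) (h𝔞pow _ (hclose n).2.1))
  obtain ⟨Lv, hLv⟩ := exists_limit 𝔫 (fun n => (seq n).2.2) (fun n =>
    Ideal.pow_le_pow_right (Nat.le_succ n) (h𝔞pow _ (hclose n).2.2))
  refine ⟨Lα, Lu, Lv, ?_, ?_, ?_, ?_⟩
  · have h1 := hLα 1
    rw [pow_one] at h1
    have e : Lα = (seq 1).1 - ((seq 1).1 - Lα) := by ring
    rw [e]
    exact Ideal.sub_mem _ (hgood 1).1 h1
  · apply hclosed
    intro n
    have e : Lu - u = ((seq n).2.1 - u) + -((seq n).2.1 - Lu) := by ring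
    rw [e]
    exact Ideal.add_mem _ (Ideal.mem_sup_left (hgood n).2.1)
      (Ideal.mem_sup_right ((Ideal.neg_mem_iff _).mpr (hLu n)))
  · apply hclosed
    intro n
    have e : Lv - v = ((seq n).2.2 - v) + -((seq n).2.2 - Lv) := by ring
    rw [e]
    exact Ideal.add_mem _ (Ideal.mem_sup_left (hgood n).2.2.1)
      (Ideal.mem_sup_right ((Ideal.neg_mem_iff _).mpr (hLv n)))
  · have hz : A * Lu ^ 2 + B * Lu * Lv + C * Lv ^ 2 - ι Lα = 0 := by
      apply eq_zero_of_forall_mem_pow 𝔫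
      intro n
      have e : A * Lu ^ 2 + B * Lu * Lv + C * Lv ^ 2 - ι Lα =
          (A * (seq n).2.1 ^ 2 + B * (seq n).2.1 * (seq n).2.2 + C * (seq n).2.2 ^ 2 -
              ι (seq n).1)
          - ((seq n).2.1 - Lu) * (A * ((seq n).2.1 + Lu) + B * (seq n).2.2)
          - ((seq n).2.2 - Lv) * (B * Lu + C * ((seq n).2.2 + Lv))
          + ι ((seq n).1 - Lα) := by
        rw [map_sub]
        ring
      rw [e]
      have h1 : A * (seq n).2.1 ^ 2 + B * (seq n).2.1 * (seq n).2.2 + C * (seq n).2.2 ^ 2 -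
          ι (seq n).1 ∈ 𝔫 ^ n :=
        Ideal.pow_le_pow_right (Nat.le_succ n) (h𝔞pow _ (hgood n).2.2.2)
      have h2 : ((seq n).2.1 - Lu) * (A * ((seq n).2.1 + Lu) + B * (seq n).2.2) ∈ 𝔫 ^ n :=
        Ideal.mul_mem_right _ _ (hLu n)
      have h3 : ((seq n).2.2 - Lv) * (B * Lu + C * ((seq n).2.2 + Lv)) ∈ 𝔫 ^ n :=
        Ideal.mul_mem_right _ _ (hLv n)
      have h4 : ι ((seq n).1 - Lα) ∈ 𝔫 ^ n := by
        apply h𝔞pow n
        rw [h𝔞, ← Ideal.map_pow]
        exact Ideal.mem_map_of_mem _ (hLα n)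
      exact Ideal.add_mem _ (Ideal.sub_mem _ (Ideal.sub_mem _ h1 h2) h3) h4
    exact sub_eq_zero.mp hz

end approx

section kernel

/-- The abstract kernel lemma: a surjection `Φ : E → S'` with `S'` flat over `A₀`, whose kernel
contains `J`, has kernel `J` as soon as `E/(J + 𝔭₀E)` and `S'/𝔭₀S'` are both quotients isomorphic to
the same Noetherian ring `N` (compatibly). -/
theorem ker_eq_of_flat_abstract {A₀ E S' N : Type*} [CommRing A₀] [CommRing E] [CommRing S']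
    [CommRing N] [IsNoetherianRing N] [IsNoetherianRing E] [Algebra A₀ E] [Algebra A₀ S']
    [Module.Flat A₀ S'] (𝔭₀ : Ideal A₀)
    (Φ : E →+* S') (hΦalg : ∀ a, Φ (algebraMap A₀ E a) = algebraMap A₀ S' a)
    (hsurj : Function.Surjective Φ) (J : Ideal E) (hJK : J ≤ RingHom.ker Φ)
    (hjac : 𝔭₀.map (algebraMap A₀ E) ≤ Ideal.jacobson ⊥)
    (r : E →+* N) (hr : Function.Surjective r)
    (hkr : RingHom.ker r ≤ J ⊔ 𝔭₀.map (algebraMap A₀ E))
    (s' : S' →+* N) (hs' : Function.Surjective s')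
    (hks' : 𝔭₀.map (algebraMap A₀ S') ≤ RingHom.ker s') :
    RingHom.ker Φ = J := by
  classical
  set K : Ideal E := RingHom.ker Φ with hK
  set 𝔟 : Ideal E := 𝔭₀.map (algebraMap A₀ E) with h𝔟
  let s : E →+* N := s'.comp Φ
  have hs : Function.Surjective s := hs'.comp hsurj
  have hJbs : J ⊔ 𝔟 ≤ RingHom.ker s := by
    refine sup_le ?_ ?_
    · intro F hF
      rw [RingHom.mem_ker]
      change s' (Φ F) = 0
      have h0 : Φ F = 0 := hJK hF
      rw [h0, map_zero]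
    · rw [h𝔟, Ideal.map_le_iff_le_comap]
      intro m hm
      rw [Ideal.mem_comap, RingHom.mem_ker]
      change s' (Φ (algebraMap A₀ E m)) = 0
      rw [hΦalg]
      exact hks' (Ideal.mem_map_of_mem _ hm)
  have hsr : RingHom.ker s ≤ RingHom.ker r :=
    ker_le_of_surjective r s hr hs (hkr.trans hJbs)
  have claim : K ≤ J ⊔ 𝔟 := by
    intro F hF
    apply hkr
    apply hsr
    rw [RingHom.mem_ker]
    change s' (Φ F) = 0
    have h0 : Φ F = 0 := hF
    rw [h0, map_zero]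
  let eq0 : (E ⧸ K) ≃+* S' := RingHom.quotientKerEquivOfSurjective hsurj
  have heq0 : ∀ F, eq0 (Ideal.Quotient.mk K F) = Φ F := fun F =>
    RingHom.quotientKerEquivOfSurjective_apply_mk hsurj F
  let lin : (E ⧸ K) ≃ₗ[A₀] S' :=
    { toFun := eq0
      map_add' := map_add eq0
      map_smul' := by
        intro a x
        obtain ⟨F, rfl⟩ := Ideal.Quotient.mk_surjective x
        rw [RingHom.id_apply, Algebra.smul_def, Algebra.smul_def,
          ← Ideal.Quotient.mk_algebraMap, ← map_mul, heq0, heq0, map_mul, hΦalg]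
      invFun := eq0.symm
      left_inv := eq0.left_inv
      right_inv := eq0.right_inv }
  haveI hfl3 : Module.Flat A₀ (E ⧸ K) := Module.Flat.of_linearEquiv lin
  have hflat : K ⊓ 𝔟 ≤ 𝔟 * K :=
    Groth.Agent.Lib.R2H3.LocPrincipalAlg.inf_map_le_mul_of_flat_quotient K 𝔭₀
  have hK_le : K ≤ J ⊔ 𝔟 • K := by
    intro F hF
    obtain ⟨j, hj, b, hb, rfl⟩ := Submodule.mem_sup.mp (claim hF)
    have hbK : b ∈ K := by
      have h1 := K.sub_mem hF (hJK hj)
      rwa [add_sub_cancel_left] at h1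
    refine Submodule.mem_sup.mpr ⟨j, hj, b, ?_, rfl⟩
    rw [smul_eq_mul]
    exact hflat ⟨hbK, hb⟩
  have hfin := Submodule.le_of_le_smul_of_le_jacobson_bot (N := J) (N' := K) (I := 𝔟)
    (IsNoetherian.noetherian K) hjac hK_le
  exact le_antisymm hfin hJK

end kernel

section complete

variable {A₀ R S : Type u} [CommRing A₀] [CommRing R] [IsLocalRing R] [IsNoetherianRing R]
  [IsAdicComplete (maximalIdeal R) R]
  [CommRing S] [IsLocalRing S] [IsNoetherianRing S] [IsAdicComplete (maximalIdeal S) S]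
  [Algebra A₀ R] [Algebra R S] [Algebra A₀ S] [IsScalarTower A₀ R S]
  [IsLocalHom (algebraMap R S)] [Module.Flat A₀ S]

/-- The structure theorem: a flat local homomorphism of complete Noetherian local rings whose
closed fibre is `κ[[x,y]]/(q)` for a binary quadratic form `q` with non-zero discriminant is of the
form `R[[x,y]]/(Q - t)`, `Q` any lift of `q`. -/
theorem quad_complete (𝔭₀ : Ideal A₀) (h𝔭₀ : 𝔭₀.map (algebraMap A₀ R) = maximalIdeal R)
    {κ : Type u} [Field κ] (ρ : R →+* κ) (hρ : Function.Surjective ρ)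
    (hkρ : RingHom.ker ρ = maximalIdeal R)
    (a b c : R) (hdisc : IsUnit (b ^ 2 - 4 * a * c))
    (θ : (S ⧸ (maximalIdeal R).map (algebraMap R S)) ≃+*
      (MvPowerSeries (Fin 2) κ ⧸ Ideal.span
        {(MvPowerSeries.C (ρ a) * MvPowerSeries.X 0 ^ 2 +
          MvPowerSeries.C (ρ b) * MvPowerSeries.X 0 * MvPowerSeries.X 1 +
          MvPowerSeries.C (ρ c) * MvPowerSeries.X 1 ^ 2 : MvPowerSeries (Fin 2) κ)}))
    (hθ : ∀ r : R, θ (Ideal.Quotient.mk _ (algebraMap R S r)) =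
      Ideal.Quotient.mk _ (MvPowerSeries.C (ρ r))) :
    ∃ t ∈ maximalIdeal R, Nonempty (S ≃ₐ[R] (MvPowerSeries (Fin 2) R ⧸ Ideal.span
        {(MvPowerSeries.C a * MvPowerSeries.X 0 ^ 2 +
          MvPowerSeries.C b * MvPowerSeries.X 0 * MvPowerSeries.X 1 +
          MvPowerSeries.C c * MvPowerSeries.X 1 ^ 2 - MvPowerSeries.C t :
            MvPowerSeries (Fin 2) R)})) := by
  classical
  revert θ
  set 𝔞 : Ideal S := (maximalIdeal R).map (algebraMap R S) with h𝔞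
  have h𝔞le : 𝔞 ≤ maximalIdeal S :=
    Ideal.map_le_iff_le_comap.mpr (le_of_eq (IsLocalRing.maximalIdeal_comap (algebraMap R S)).symm)
  set qb : MvPowerSeries (Fin 2) κ := MvPowerSeries.C (ρ a) * MvPowerSeries.X 0 ^ 2 +
    MvPowerSeries.C (ρ b) * MvPowerSeries.X 0 * MvPowerSeries.X 1 +
    MvPowerSeries.C (ρ c) * MvPowerSeries.X 1 ^ 2 with hqb
  intro θ hθ
  have hccq : MvPowerSeries.constantCoeff qb = 0 := by
    rw [hqb]
    simp
  let ε : (MvPowerSeries (Fin 2) κ ⧸ Ideal.span {qb}) →+* κ :=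
    Ideal.Quotient.lift _ (MvPowerSeries.constantCoeff : MvPowerSeries (Fin 2) κ →+* κ) (by
      intro x hx
      obtain ⟨y, rfl⟩ := Ideal.mem_span_singleton.mp hx
      rw [map_mul, hccq, zero_mul])
  have hε : ∀ G, ε (Ideal.Quotient.mk _ G) = MvPowerSeries.constantCoeff G :=
    fun G => Ideal.Quotient.lift_mk _ _ _
  let g : S →+* (MvPowerSeries (Fin 2) κ ⧸ Ideal.span {qb}) :=
    (θ : _ →+* _).comp (Ideal.Quotient.mk 𝔞)
  have hg : ∀ s, g s = θ (Ideal.Quotient.mk 𝔞 s) := fun s => rfl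
  have hgsurj : Function.Surjective g := by
    intro n
    obtain ⟨m, rfl⟩ := θ.surjective n
    obtain ⟨s, rfl⟩ := Ideal.Quotient.mk_surjective m
    exact ⟨s, rfl⟩
  have hgker : ∀ s, g s = 0 ↔ s ∈ 𝔞 := by
    intro s
    rw [hg, map_eq_zero_iff _ θ.injective, Ideal.Quotient.eq_zero_iff_mem]
  have hgι : ∀ r, g (algebraMap R S r) = Ideal.Quotient.mk _ (MvPowerSeries.C (ρ r)) := hθ
  have hmem : ∀ s, s ∈ maximalIdeal S ↔ ε (g s) = 0 := by
    have hχsurj : Function.Surjective (ε.comp g) := by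
      intro c
      obtain ⟨r, rfl⟩ := hρ c
      refine ⟨algebraMap R S r, ?_⟩
      rw [RingHom.comp_apply, hgι, hε, MvPowerSeries.constantCoeff_C]
    have hχker : RingHom.ker (ε.comp g) = maximalIdeal S := by
      haveI := RingHom.ker_isMaximal_of_surjective (ε.comp g) hχsurj
      exact IsLocalRing.eq_maximalIdeal this
    intro s
    rw [← hχker, RingHom.mem_ker, RingHom.comp_apply]
  have hres : ∀ s : S, ∃ r : R, s - algebraMap R S r ∈ maximalIdeal S := by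
    intro s
    obtain ⟨r, hr⟩ := hρ (ε (g s))
    refine ⟨r, ?_⟩
    rw [hmem, map_sub, map_sub, hgι, hε, MvPowerSeries.constantCoeff_C, hr, sub_self]
  obtain ⟨u, hu⟩ := hgsurj (Ideal.Quotient.mk _ (MvPowerSeries.X 0))
  obtain ⟨v, hv⟩ := hgsurj (Ideal.Quotient.mk _ (MvPowerSeries.X 1))
  have hum : u ∈ maximalIdeal S := by
    rw [hmem, hu, hε, MvPowerSeries.constantCoeff_X]
  have hvm : v ∈ maximalIdeal S := by
    rw [hmem, hv, hε, MvPowerSeries.constantCoeff_X]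
  have huv : algebraMap R S a * u ^ 2 + algebraMap R S b * u * v + algebraMap R S c * v ^ 2 ∈
      𝔞 := by
    have e1 : g (algebraMap R S a * u ^ 2 + algebraMap R S b * u * v + algebraMap R S c * v ^ 2) =
        Ideal.Quotient.mk _ qb := by
      simp only [map_add, map_mul, map_pow, hgι, hu, hv, hqb]
    rw [← hgker, e1]
    exact Ideal.Quotient.eq_zero_iff_mem.mpr (Ideal.mem_span_singleton_self _)
  have hgen : maximalIdeal S = Ideal.span {u, v} ⊔ 𝔞 := by
    apply le_antisymm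
    · intro s hs
      obtain ⟨G, hG⟩ := Ideal.Quotient.mk_surjective (g s)
      have hccG : MvPowerSeries.constantCoeff G = 0 := by
        rw [← hε, hG]
        exact (hmem s).mp hs
      obtain ⟨G1, G2, hG12⟩ := ps_decomp G
      rw [hccG, map_zero, zero_add] at hG12
      obtain ⟨s1, hs1⟩ := hgsurj (Ideal.Quotient.mk _ G1)
      obtain ⟨s2, hs2⟩ := hgsurj (Ideal.Quotient.mk _ G2)
      have h1 : s - (s1 * u + s2 * v) ∈ 𝔞 := by
        have e2 : Ideal.Quotient.mk (Ideal.span {qb}) G =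
            Ideal.Quotient.mk _ G1 * Ideal.Quotient.mk _ (MvPowerSeries.X 0) +
              Ideal.Quotient.mk _ G2 * Ideal.Quotient.mk _ (MvPowerSeries.X 1) := by
          conv_lhs => rw [hG12]
          rw [map_add, map_mul, map_mul]
          ring
        rw [← hgker, map_sub, map_add, map_mul, map_mul, hs1, hs2, hu, hv, ← hG, e2, sub_self]
      have e1 : s = (s1 * u + s2 * v) + (s - (s1 * u + s2 * v)) := by ring
      rw [e1]
      exact Ideal.add_mem _ (Ideal.mem_sup_left (Ideal.mem_span_pair.mpr ⟨s1, s2, rfl⟩))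
        (Ideal.mem_sup_right h1)
    · refine sup_le ?_ h𝔞le
      rw [Ideal.span_le]
      intro x hx
      rcases hx with hx | hx
      · rw [hx]; exact hum
      · rw [Set.mem_singleton_iff.mp hx]; exact hvm
  -- maps out of the power series ring
  have hex : ∀ u' v' : S, u' ∈ maximalIdeal S → v' ∈ maximalIdeal S →
      ∃ Φ : MvPowerSeries (Fin 2) R →ₐ[R] S,
        Φ (MvPowerSeries.X 0) = u' ∧ Φ (MvPowerSeries.X 1) = v' := by
    intro u' v' hu' hv'
    obtain ⟨Φ, hΦ⟩ := exists_algHom_X_eq_of_isAdicComplete (Λ := R) (σ := Fin 2) (E := S)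
      (maximalIdeal S) (![u', v'] : Fin 2 → S) (Fin.forall_fin_two.mpr ⟨hu', hv'⟩)
    exact ⟨Φ, hΦ 0, hΦ 1⟩
  have hC : ∀ (Φ : MvPowerSeries (Fin 2) R →ₐ[R] S) (x : R),
      Φ.toRingHom (MvPowerSeries.C x) = algebraMap R S x := by
    intro Φ x
    have h1 := Φ.commutes x
    rw [MvPowerSeries.algebraMap_apply, Algebra.algebraMap_self, RingHom.id_apply] at h1
    exact h1
  obtain ⟨Φ₀, hΦ₀0, hΦ₀1⟩ := hex u v hum hvm
  have h00 : Φ₀.toRingHom (MvPowerSeries.X 0) = u := hΦ₀0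
  have h01 : Φ₀.toRingHom (MvPowerSeries.X 1) = v := hΦ₀1
  have hsurj₀ : Function.Surjective Φ₀.toRingHom :=
    surj_complete Φ₀.toRingHom (hC Φ₀) (by rw [h00, h01]; exact hgen) hres
  have hdec : ∀ b : S, ∃ (a : R) (p q : S), b = algebraMap R S a + u * p + v * q := by
    intro b
    obtain ⟨F, rfl⟩ := hsurj₀ b
    obtain ⟨F1, F2, hF⟩ := ps_decomp F
    refine ⟨MvPowerSeries.constantCoeff F, Φ₀.toRingHom F1, Φ₀.toRingHom F2, ?_⟩
    conv_lhs => rw [hF]
    rw [map_add, map_add, map_mul, map_mul, hC Φ₀, h00, h01]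
  obtain ⟨w, hw⟩ := hdisc.exists_right_inv
  have hd0 : (4 * a * c - b ^ 2) * (-w) = 1 := by linear_combination hw
  have hd : (4 * algebraMap R S a * algebraMap R S c - algebraMap R S b ^ 2) *
      algebraMap R S (-w) = 1 := by
    have := congrArg (algebraMap R S) hd0
    simpa only [map_mul, map_sub, map_pow, map_one, map_ofNat] using this
  obtain ⟨t, u', v', ht, hu', hv', hQ⟩ :=
    exists_approx_quad (algebraMap R S) (maximalIdeal R) (maximalIdeal S) u v
      (algebraMap R S a) (algebraMap R S b) (algebraMap R S c) (algebraMap R S (-w)) hd h𝔞le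
      (closed_ideal 𝔞) hdec huv
  have hu'm : u' ∈ maximalIdeal S := by
    have e : u' = (u' - u) + u := by ring
    rw [e]
    exact Ideal.add_mem _ (h𝔞le hu') hum
  have hv'm : v' ∈ maximalIdeal S := by
    have e : v' = (v' - v) + v := by ring
    rw [e]
    exact Ideal.add_mem _ (h𝔞le hv') hvm
  obtain ⟨Φ, hΦ0, hΦ1⟩ := hex u' v' hu'm hv'm
  have h0 : Φ.toRingHom (MvPowerSeries.X 0) = u' := hΦ0
  have h1 : Φ.toRingHom (MvPowerSeries.X 1) = v' := hΦ1
  have hspan : Ideal.span {u', v'} ⊔ 𝔞 = Ideal.span {u, v} ⊔ 𝔞 := by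
    apply le_antisymm
    · exact Groth.Agent.Lib.R2H7.NodeDeform.span_pair_sup_le hu' hv'
    · apply Groth.Agent.Lib.R2H7.NodeDeform.span_pair_sup_le
      · have e : u - u' = -(u' - u) := by ring
        rw [e]; exact neg_mem hu'
      · have e : v - v' = -(v' - v) := by ring
        rw [e]; exact neg_mem hv'
  have hsurj : Function.Surjective Φ.toRingHom :=
    surj_complete Φ.toRingHom (hC Φ) (by rw [h0, h1, hspan]; exact hgen) hres
  set F : MvPowerSeries (Fin 2) R := MvPowerSeries.C a * MvPowerSeries.X 0 ^ 2 +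
    MvPowerSeries.C b * MvPowerSeries.X 0 * MvPowerSeries.X 1 +
    MvPowerSeries.C c * MvPowerSeries.X 1 ^ 2 - MvPowerSeries.C t with hF
  have hker0 : Φ.toRingHom F = 0 := by
    have e1 : Φ.toRingHom F = algebraMap R S a * u' ^ 2 + algebraMap R S b * u' * v' +
        algebraMap R S c * v' ^ 2 - algebraMap R S t := by
      simp only [hF, map_sub, map_add, map_mul, map_pow, hC Φ, h0, h1]
    rw [e1, hQ, sub_self]
  have hρt : ρ t = 0 := by
    rw [← RingHom.mem_ker, hkρ]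
    exact ht
  have hFq : MvPowerSeries.map ρ F = qb := by
    simp only [hF, hqb, map_sub, map_add, map_mul, map_pow, MvPowerSeries.map_C,
      MvPowerSeries.map_X, hρt, map_zero, sub_zero]
  have hkred : RingHom.ker (MvPowerSeries.map (σ := Fin 2) ρ) =
      (maximalIdeal R).map (MvPowerSeries.C : R →+* MvPowerSeries (Fin 2) R) := by
    have := ker_map_eq_map_C_of_fg (σ := Fin 2) ρ (by
      rw [hkρ]
      exact (maximalIdeal R).fg_of_isNoetherianRing)
    rw [hkρ] at this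
    exact this
  have halg : algebraMap A₀ (MvPowerSeries (Fin 2) R) =
      (MvPowerSeries.C : R →+* MvPowerSeries (Fin 2) R).comp (algebraMap A₀ R) := by
    ext x
    rw [MvPowerSeries.algebraMap_apply]
    rfl
  have h𝔟 : 𝔭₀.map (algebraMap A₀ (MvPowerSeries (Fin 2) R)) =
      (maximalIdeal R).map (MvPowerSeries.C : R →+* MvPowerSeries (Fin 2) R) := by
    rw [halg, ← Ideal.map_map, h𝔭₀]
  have hker : RingHom.ker Φ.toRingHom = Ideal.span {F} := by
    refine ker_eq_of_flat_abstract (A₀ := A₀) (N := MvPowerSeries (Fin 2) κ ⧸ Ideal.span {qb})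
      𝔭₀ Φ.toRingHom ?_ hsurj (Ideal.span {F}) ?_ ?_
      ((Ideal.Quotient.mk (Ideal.span {qb})).comp (MvPowerSeries.map ρ)) ?_ ?_ g hgsurj ?_
    · intro x
      rw [halg, RingHom.comp_apply, hC Φ, ← IsScalarTower.algebraMap_apply]
    · rw [Ideal.span_le, Set.singleton_subset_iff]
      exact hker0
    · rw [h𝔟]
      refine le_trans ?_ (IsLocalRing.maximalIdeal_le_jacobson ⊥)
      rw [Ideal.map_le_iff_le_comap]
      intro m hm
      rw [Ideal.mem_comap, maximalIdeal_eq_coeffIdeal, mem_coeffIdeal_one,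
        MvPowerSeries.constantCoeff_C]
      exact hm
    · exact Ideal.Quotient.mk_surjective.comp (map_surjective' ρ hρ)
    · intro F' hF'
      rw [RingHom.mem_ker, RingHom.comp_apply, Ideal.Quotient.eq_zero_iff_mem,
        Ideal.mem_span_singleton] at hF'
      obtain ⟨G', hG'⟩ := hF'
      obtain ⟨G, rfl⟩ := map_surjective' (σ := Fin 2) ρ hρ G'
      have h1 : F' - F * G ∈ 𝔭₀.map (algebraMap A₀ (MvPowerSeries (Fin 2) R)) := by
        rw [h𝔟, ← hkred, RingHom.mem_ker, map_sub, map_mul, hFq, hG', sub_self]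
      have e : F' = F * G + (F' - F * G) := by ring
      rw [e]
      exact Submodule.add_mem_sup (Ideal.mul_mem_right _ _ (Ideal.mem_span_singleton_self _)) h1
    · have e1 : 𝔭₀.map (algebraMap A₀ S) = 𝔞 := by
        rw [h𝔞, ← h𝔭₀, Ideal.map_map, ← IsScalarTower.algebraMap_eq]
      rw [e1]
      intro s hs
      rw [RingHom.mem_ker]
      exact (hgker s).mpr hs
  have hker' : RingHom.ker Φ = Ideal.span {F} := by
    rw [← hker]
    ext g'
    rw [RingHom.mem_ker, RingHom.mem_ker]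
    rfl
  have hsurj' : Function.Surjective Φ := hsurj
  exact ⟨t, ht, ⟨((Ideal.quotientEquivAlgOfEq R hker'.symm).trans
    (Ideal.quotientKerAlgEquivOfSurjective hsurj')).symm⟩⟩

end complete

end Groth.Agent.Lib.R2H7.QuadNode
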