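/-
The completed local ring of a flat local homomorphism `A → B` of Noetherian local rings whose
fibre ring has completion `κ[[x,y]]/(q)`, `q` a binary quadratic form with non-zero discriminant:
`B̂ ≅ Â[[x,y]]/(Q - h)`.
-/
import Mathlib
import Groth.Agent.Lib.R2H7QuadNode
import Groth.Agent.Lib.Helper28ComplQuot2

set_option autoImplicit false
universe u

namespace Groth.Agent.Lib.R2H7.QuadNode

open IsLocalRing Groth.Agent.Lib.Helper19 Groth.Agent.Lib.R2H7.NodeApprox
  Groth.Agent.Lib.R2H7.NodeCompl Groth.Agent.Lib.R2H7.NodeEquiv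

section fibre

variable {A B : Type u} [CommRing A] [IsLocalRing A] [IsNoetherianRing A]
  [CommRing B] [IsLocalRing B] [IsNoetherianRing B] [Algebra A B] [IsLocalHom (algebraMap A B)]

theorem rho_algebraMap (a : A) : rho A (algebraMap A (Ah A) a) = residue A a := by
  rw [rho, RingHom.comp_apply, RingHom.coe_coe, RingEquiv.symm_apply_eq,
    RingEquiv.ofBijective_apply, ResidueField.map_residue]

theorem quad_of_fibre [Module.Flat A B] {κ : Type u} [Field κ] (ρ₀ : A →+* κ)
    (hρ₀ : Function.Surjective ρ₀) (hkρ₀ : RingHom.ker ρ₀ = maximalIdeal A)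
    {Cc : Type u} [CommRing Cc] [IsLocalRing Cc] (ψ : B →+* Cc) (hψ : Function.Surjective ψ)
    (hkψ : RingHom.ker ψ = (maximalIdeal A).map (algebraMap A B))
    (j : κ →+* Cc) (hj : ∀ a : A, ψ (algebraMap A B a) = j (ρ₀ a))
    (ab bb cb : κ) (hdisc : bb ^ 2 - 4 * ab * cb ≠ 0)
    (e₀ : AdicCompletion (maximalIdeal Cc) Cc ≃+* (MvPowerSeries (Fin 2) κ ⧸ Ideal.span
      {(MvPowerSeries.C ab * MvPowerSeries.X 0 ^ 2 +
        MvPowerSeries.C bb * MvPowerSeries.X 0 * MvPowerSeries.X 1 +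
        MvPowerSeries.C cb * MvPowerSeries.X 1 ^ 2 : MvPowerSeries (Fin 2) κ)}))
    (he₀ : ∀ r : κ, e₀ (algebraMap Cc (AdicCompletion (maximalIdeal Cc) Cc) (j r)) =
      Ideal.Quotient.mk _ (MvPowerSeries.C r)) :
    ∃ ρh : Ah A →+* κ, (∀ a, ρh (algebraMap A (Ah A) a) = ρ₀ a) ∧ Function.Surjective ρh ∧
      ∀ a b c : Ah A, ρh a = ab → ρh b = bb → ρh c = cb →
        IsUnit (b ^ 2 - 4 * a * c) ∧ ∃ h ∈ maximalIdeal (Ah A),
          ∃ e : Ah B ≃+* (MvPowerSeries (Fin 2) (Ah A) ⧸ Ideal.span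
            {(MvPowerSeries.C a * MvPowerSeries.X 0 ^ 2 +
              MvPowerSeries.C b * MvPowerSeries.X 0 * MvPowerSeries.X 1 +
              MvPowerSeries.C c * MvPowerSeries.X 1 ^ 2 - MvPowerSeries.C h :
                MvPowerSeries (Fin 2) (Ah A))}),
            ∀ r : A, e (algebraMap B (Ah B) (algebraMap A B r)) =
              Ideal.Quotient.mk _ (MvPowerSeries.C (algebraMap A (Ah A) r)) := by
  classical
  -- the reduction map of the completion
  haveI hloc₀ : IsLocalHom ρ₀ := ⟨fun x hx => by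
    by_contra hnu
    have hxm : x ∈ maximalIdeal A := (mem_maximalIdeal x).mpr hnu
    rw [← hkρ₀, RingHom.mem_ker] at hxm
    rw [hxm] at hx
    exact not_isUnit_zero hx⟩
  let ρh : Ah A →+* κ := (ResidueField.lift ρ₀).comp (rho A)
  have hρh1 : ∀ a, ρh (algebraMap A (Ah A) a) = ρ₀ a := by
    intro a
    rw [RingHom.comp_apply, rho_algebraMap, ResidueField.lift_residue_apply]
  have hρhsurj : Function.Surjective ρh := by
    intro x
    obtain ⟨a, rfl⟩ := hρ₀ x
    exact ⟨algebraMap A (Ah A) a, hρh1 a⟩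
  have hkρh : RingHom.ker ρh = maximalIdeal (Ah A) := by
    ext x
    rw [RingHom.mem_ker, RingHom.comp_apply, map_eq_zero_iff _ (ResidueField.lift ρ₀).injective,
      ← RingHom.mem_ker, ker_rho]
  refine ⟨ρh, hρh1, hρhsurj, ?_⟩
  intro a b c ha hb hc
  subst ha hb hc
  have hdiscU : IsUnit (b ^ 2 - 4 * a * c) := by
    rw [← IsLocalRing.notMem_maximalIdeal, ← hkρh, RingHom.mem_ker]
    simpa only [map_sub, map_mul, map_pow, map_ofNat] using hdisc
  refine ⟨hdiscU, ?_⟩
  -- algebra structures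
  letI alg : Algebra (Ah A) (Ah B) := (iota A B).toAlgebra
  have halg : ∀ x : Ah A, algebraMap (Ah A) (Ah B) x = iota A B x := fun x => rfl
  haveI hst0 : IsScalarTower A (Ah A) (Ah B) := IsScalarTower.of_algebraMap_eq (fun x => by
    rw [halg, iota_algebraMap])
  haveI hlocι : IsLocalHom (algebraMap (Ah A) (Ah B)) := by
    refine ((local_hom_TFAE (algebraMap (Ah A) (Ah B))).out 2 0).mp ?_
    change (maximalIdeal (Ah A)).map (iota A B) ≤ _
    rw [map_iota]
    exact aI_le A B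
  haveI hst : IsScalarTower A B (Ah B) := IsScalarTower.of_algebraMap_eq (fun x => by
    rw [algebraMap_eq_comp]
    rfl)
  haveI hfl1 : Module.Flat B (Ah B) := AdicCompletion.flat_of_isNoetherian _
  haveI hfl2 : Module.Flat A (Ah B) := Module.Flat.trans A B (Ah B)
  have h𝔭₀ : (maximalIdeal A).map (algebraMap A (Ah A)) = maximalIdeal (Ah A) :=
    (AdicCompletion.maximalIdeal_eq_map (R := A)).symm
  -- the isomorphism of the closed fibre
  set K : Ideal B := (maximalIdeal A).map (algebraMap A B) with hK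
  obtain ⟨e₁, he₁⟩ := Groth.Agent.Lib.Helper28.exists_ringEquiv_adicCompletion_quotient
    (maximalIdeal B) K
  let ε : (B ⧸ K) ≃+* Cc :=
    (Ideal.quotEquivOfEq hkψ.symm).trans (RingHom.quotientKerEquivOfSurjective hψ)
  have hε : ∀ x : B, ε (Ideal.Quotient.mk K x) = ψ x := fun x => rfl
  have hmap : ((maximalIdeal B).map (Ideal.Quotient.mk K)).map (ε : (B ⧸ K) →+* Cc) =
      maximalIdeal Cc := by
    rw [Ideal.map_map]
    have e1 : (ε : (B ⧸ K) →+* Cc).comp (Ideal.Quotient.mk K) = ψ := RingHom.ext hε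
    rw [e1]
    exact map_maximalIdeal_of_surjective ψ hψ
  obtain ⟨e₂, he₂⟩ := Groth.Agent.Lib.Helper28.exists_ringEquiv_adicCompletion_of_ringEquiv
    ((maximalIdeal B).map (Ideal.Quotient.mk K)) (maximalIdeal Cc)
    (((maximalIdeal B).fg_of_isNoetherianRing).map _) ε hmap
  have hideal : (maximalIdeal (Ah A)).map (algebraMap (Ah A) (Ah B)) =
      K.map (algebraMap B (Ah B)) := by
    change (maximalIdeal (Ah A)).map (iota A B) = _
    rw [map_iota, hK, Ideal.map_map, ← algebraMap_eq_comp]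
  let θ : (Ah B ⧸ (maximalIdeal (Ah A)).map (algebraMap (Ah A) (Ah B))) ≃+*
      (MvPowerSeries (Fin 2) κ ⧸ Ideal.span
        {(MvPowerSeries.C (ρh a) * MvPowerSeries.X 0 ^ 2 +
          MvPowerSeries.C (ρh b) * MvPowerSeries.X 0 * MvPowerSeries.X 1 +
          MvPowerSeries.C (ρh c) * MvPowerSeries.X 1 ^ 2 : MvPowerSeries (Fin 2) κ)}) :=
    (Ideal.quotEquivOfEq hideal).trans (e₁.trans (e₂.trans e₀))
  have hθA : ∀ x : A, θ (Ideal.Quotient.mk _ (algebraMap (Ah A) (Ah B) (algebraMap A (Ah A) x))) =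
      Ideal.Quotient.mk _ (MvPowerSeries.C (ρ₀ x)) := by
    intro x
    have e1 : algebraMap (Ah A) (Ah B) (algebraMap A (Ah A) x) =
        algebraMap B (Ah B) (algebraMap A B x) := by
      rw [halg, iota_algebraMap, algebraMap_eq_comp A B, RingHom.comp_apply]
    rw [e1]
    change e₀ (e₂ (e₁ (Ideal.quotEquivOfEq hideal (Ideal.Quotient.mk _ _)))) = _
    rw [Ideal.quotEquivOfEq_mk, he₁]
    have e2 : algebraMap (B ⧸ K) (AdicCompletion ((maximalIdeal B).map (Ideal.Quotient.mk K))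
        (B ⧸ K)) (Ideal.Quotient.mk K (algebraMap A B x)) =
        AdicCompletion.of _ _ (Ideal.Quotient.mk K (algebraMap A B x)) := by
      rw [AdicCompletion.algebraMap_apply, Algebra.algebraMap_self, RingHom.id_apply]
    rw [e2, he₂, hε, hj]
    have e3 : AdicCompletion.of (maximalIdeal Cc) Cc (j (ρ₀ x)) =
        algebraMap Cc (AdicCompletion (maximalIdeal Cc) Cc) (j (ρ₀ x)) := by
      rw [AdicCompletion.algebraMap_apply, Algebra.algebraMap_self, RingHom.id_apply]
    rw [e3, he₀]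
  have hθ : ∀ r : Ah A, θ (Ideal.Quotient.mk _ (algebraMap (Ah A) (Ah B) r)) =
      Ideal.Quotient.mk _ (MvPowerSeries.C (ρh r)) := by
    intro r
    obtain ⟨x, hx⟩ := hρ₀ (ρh r)
    have hm : r - algebraMap A (Ah A) x ∈ maximalIdeal (Ah A) := by
      rw [← hkρh, RingHom.mem_ker, map_sub, hρh1, hx, sub_self]
    have e1 : Ideal.Quotient.mk ((maximalIdeal (Ah A)).map (algebraMap (Ah A) (Ah B)))
        (algebraMap (Ah A) (Ah B) r) =
        Ideal.Quotient.mk _ (algebraMap (Ah A) (Ah B) (algebraMap A (Ah A) x)) := by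
      rw [Ideal.Quotient.eq, ← map_sub]
      exact Ideal.mem_map_of_mem _ hm
    rw [e1, hθA, hx]
  obtain ⟨t, ht, ⟨f⟩⟩ := quad_complete (A₀ := A) (R := Ah A) (S := Ah B) (maximalIdeal A) h𝔭₀
    ρh hρhsurj hkρh a b c hdiscU θ hθ
  refine ⟨t, ht, f.toRingEquiv, ?_⟩
  intro r
  have e1 : algebraMap B (Ah B) (algebraMap A B r) =
      algebraMap (Ah A) (Ah B) (algebraMap A (Ah A) r) := by
    rw [halg, iota_algebraMap, algebraMap_eq_comp A B, RingHom.comp_apply]
  rw [e1]
  change f (algebraMap (Ah A) (Ah B) (algebraMap A (Ah A) r)) = _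
  rw [AlgEquiv.commutes, ← Ideal.Quotient.mk_algebraMap,
    MvPowerSeries.algebraMap_apply, Algebra.algebraMap_self, RingHom.id_apply]

end fibre

end Groth.Agent.Lib.R2H7.QuadNode
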