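/-
Scheme glue for the completed local ring of a flat family at a (possibly non-split) node of a
fibre: the fibre local ring as a quotient of the local ring of the total space, compatibly with
the residue field of the base.
-/
import Mathlib
import Groth.Prelude.Def_Curv2
import Groth.Agent.Lib.R2H7QuadNodeCompl
import Groth.Agent.Lib.H9ModFibSch

set_option autoImplicit false
universe u
open AlgebraicGeometry CategoryTheory

namespace Groth.Agent.Lib.R2H7.QuadNodeSch

open IsLocalRing Groth.Agent.Lib.R2H7.QuadNode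

theorem germ_app_congr {X Y : Scheme.{u}} {g g' : X ⟶ Y} (h : g = g') (U : Y.Opens) (x : X)
    (hx : g x ∈ U) (s : Γ(Y, U)) :
    X.presheaf.germ (g ⁻¹ᵁ U) x hx (g.app U s) =
      X.presheaf.germ (g' ⁻¹ᵁ U) x (h ▸ hx) (g'.app U s) := by
  subst h; rfl

theorem fromSpecResidueField_app (S : Scheme.{u}) (y : S) (U : S.Opens) (hyU : y ∈ U) :
    (S.fromSpecResidueField y).app U =
      S.presheaf.germ U y hyU ≫ S.residue y ≫ (Scheme.ΓSpecIso (S.residueField y)).inv ≫
        (Spec (S.residueField y)).presheaf.map (homOfLE le_top).op := by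
  rw [Scheme.fromSpecResidueField, Scheme.Hom.comp_app, Scheme.fromSpecStalk_app hyU]
  simp only [Category.assoc]
  rw [Scheme.Hom.naturality]
  have h' : (Scheme.ΓSpecIso (S.presheaf.stalk y)).inv ≫
      Scheme.Hom.app (Spec.map (S.residue y)) ⊤ =
      S.residue y ≫ (Scheme.ΓSpecIso (S.residueField y)).inv :=
    (Scheme.ΓSpecIso_inv_naturality (S.residue y)).symm
  rw [reassoc_of% h']
  rfl

variable {T S : Scheme.{u}} (f : T ⟶ S) (y : S) (z : f.fiber y)

/-- the structure map `κ(y) → O_{T_y, z}` -/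
noncomputable def jmap : S.residueField y →+* (f.fiber y).presheaf.stalk z :=
  @Curv2.stalkMap (S.residueField y) _ (f.fiber y) ⟨f.fiberToSpecResidueField y⟩ z

theorem jmap_apply (r : S.residueField y) :
    jmap f y z r = (f.fiber y).presheaf.germ ⊤ z trivial
      ((f.fiberToSpecResidueField y).appTop ((Scheme.ΓSpecIso (S.residueField y)).inv r)) := rfl

theorem compat_germ (U : S.Opens)
    (hyU : y ∈ U) (a' : Γ(S, U)) (hzU : (f.fiberι y ≫ f) z ∈ U) :
    (f.fiber y).presheaf.germ ((f.fiberι y ≫ f) ⁻¹ᵁ U) z hzU ((f.fiberι y ≫ f).app U a') =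
      jmap f y z ((S.residue y) (S.presheaf.germ U y hyU a')) := by
  rw [germ_app_congr (f.fiber_fac y) U z hzU a', jmap_apply]
  rw [Scheme.Hom.comp_app, fromSpecResidueField_app S y U hyU]
  simp only [Category.assoc, Scheme.Hom.naturality, CommRingCat.comp_apply]
  exact TopCat.Presheaf.germ_res_apply _ _ _ _ _

theorem fib_eq : f (f.fiberι y z) = y := by
  have h1 : f.fiberι y z ∈ Set.range (f.fiberι y) := ⟨z, rfl⟩
  rw [Scheme.Hom.range_fiberι] at h1
  exact h1

/-- the reduction `O_{S, f(ι z)} → κ(y)` -/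
noncomputable def rho0 : S.presheaf.stalk (f (f.fiberι y z)) →+* S.residueField y :=
  (S.residue y).hom.comp
    (S.presheaf.stalkSpecializes (specializes_of_eq (fib_eq f y z).symm)).hom

theorem rho0_germ (U : S.Opens) (hxU : f (f.fiberι y z) ∈ U) (hyU : y ∈ U) (a' : Γ(S, U)) :
    rho0 f y z (S.presheaf.germ U _ hxU a') = (S.residue y) (S.presheaf.germ U y hyU a') := by
  change (S.residue y) ((S.presheaf.stalkSpecializes _)
    (S.presheaf.germ U _ hxU a')) = _
  rw [TopCat.Presheaf.germ_stalkSpecializes_apply]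

theorem rho0_surjective : Function.Surjective (rho0 f y z) := by
  intro c
  obtain ⟨b, rfl⟩ := S.residue_surjective y c
  obtain ⟨U, hyU, a', rfl⟩ := TopCat.Presheaf.germ_exist _ b
  have hxU : f (f.fiberι y z) ∈ U := (fib_eq f y z).symm ▸ hyU
  exact ⟨S.presheaf.germ U _ hxU a', rho0_germ f y z U hxU hyU a'⟩

theorem ker_rho0 : RingHom.ker (rho0 f y z) = maximalIdeal _ := by
  haveI := RingHom.ker_isMaximal_of_surjective (rho0 f y z) (rho0_surjective f y z)
  exact IsLocalRing.eq_maximalIdeal this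

theorem compat (a : S.presheaf.stalk (f (f.fiberι y z))) :
    ((f.fiberι y).stalkMap z).hom ((f.stalkMap (f.fiberι y z)).hom a) =
      jmap f y z (rho0 f y z a) := by
  obtain ⟨U, hxU, a', rfl⟩ := TopCat.Presheaf.germ_exist _ a
  have hyU : y ∈ U := fib_eq f y z ▸ hxU
  rw [rho0_germ f y z U hxU hyU a', ← compat_germ f y z U hyU a' hxU]
  change ((f.fiberι y).stalkMap z) ((f.stalkMap (f.fiberι y z)) (S.presheaf.germ U _ hxU a')) = _
  rw [Scheme.Hom.germ_stalkMap_apply, Scheme.Hom.germ_stalkMap_apply, Scheme.Hom.comp_app]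
  rfl

section main

variable [LocallyOfFiniteType f]

/-- The general scheme-theoretic statement, at the point `ι z` of the total space. -/
theorem quad_fibre_sch [IsNoetherianRing (S.presheaf.stalk (f (f.fiberι y z)))]
    (hfl : (f.stalkMap (f.fiberι y z)).hom.Flat)
    (ab bb cb : S.residueField y) (hdisc : bb ^ 2 - 4 * ab * cb ≠ 0)
    (e₀ : Curv2.cpl ((f.fiber y).presheaf.stalk z) ≃+*
      (MvPowerSeries (Fin 2) (S.residueField y) ⧸ Ideal.span
        {(MvPowerSeries.C ab * MvPowerSeries.X 0 ^ 2 +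
          MvPowerSeries.C bb * MvPowerSeries.X 0 * MvPowerSeries.X 1 +
          MvPowerSeries.C cb * MvPowerSeries.X 1 ^ 2 :
            MvPowerSeries (Fin 2) (S.residueField y))}))
    (he₀ : ∀ r : S.residueField y, e₀ (algebraMap ((f.fiber y).presheaf.stalk z)
      (Curv2.cpl ((f.fiber y).presheaf.stalk z)) (jmap f y z r)) =
      Ideal.Quotient.mk _ (MvPowerSeries.C r)) :
    ∃ ρh : Curv2.cpl (S.presheaf.stalk (f (f.fiberι y z))) →+* S.residueField y,
      Function.Surjective ρh ∧
      ∀ a b c : Curv2.cpl (S.presheaf.stalk (f (f.fiberι y z))),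
        ρh a = ab → ρh b = bb → ρh c = cb →
        IsUnit (b ^ 2 - 4 * a * c) ∧
        ∃ h ∈ maximalIdeal (Curv2.cpl (S.presheaf.stalk (f (f.fiberι y z)))),
          ∃ e : Curv2.cpl (T.presheaf.stalk (f.fiberι y z)) ≃+*
            (MvPowerSeries (Fin 2) (Curv2.cpl (S.presheaf.stalk (f (f.fiberι y z)))) ⧸ Ideal.span
              {(MvPowerSeries.C a * MvPowerSeries.X 0 ^ 2 +
                MvPowerSeries.C b * MvPowerSeries.X 0 * MvPowerSeries.X 1 +
                MvPowerSeries.C c * MvPowerSeries.X 1 ^ 2 - MvPowerSeries.C h :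
                  MvPowerSeries (Fin 2) (Curv2.cpl (S.presheaf.stalk (f (f.fiberι y z)))))}),
            ∀ r : S.presheaf.stalk (f (f.fiberι y z)),
              e (algebraMap (T.presheaf.stalk (f.fiberι y z))
                  (Curv2.cpl (T.presheaf.stalk (f.fiberι y z)))
                  ((f.stalkMap (f.fiberι y z)).hom r)) =
                Ideal.Quotient.mk _ (MvPowerSeries.C
                  (algebraMap (S.presheaf.stalk (f (f.fiberι y z)))
                    (Curv2.cpl (S.presheaf.stalk (f (f.fiberι y z)))) r)) := by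
  letI alg : Algebra (S.presheaf.stalk (f (f.fiberι y z))) (T.presheaf.stalk (f.fiberι y z)) :=
    (f.stalkMap (f.fiberι y z)).hom.toAlgebra
  haveI hflat : Module.Flat (S.presheaf.stalk (f (f.fiberι y z)))
      (T.presheaf.stalk (f.fiberι y z)) := hfl
  haveI hess : Algebra.EssFiniteType (S.presheaf.stalk (f (f.fiberι y z)))
      (T.presheaf.stalk (f.fiberι y z)) := LocallyOfFiniteType.stalkMap f (f.fiberι y z)
  haveI hnoeth : IsNoetherianRing (T.presheaf.stalk (f.fiberι y z)) :=
    Algebra.EssFiniteType.isNoetherianRing (S.presheaf.stalk (f (f.fiberι y z))) _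
  haveI hloc : IsLocalHom (algebraMap (S.presheaf.stalk (f (f.fiberι y z)))
      (T.presheaf.stalk (f.fiberι y z))) :=
    inferInstanceAs (IsLocalHom (f.stalkMap (f.fiberι y z)).hom)
  obtain ⟨ρh, -, hρh, H⟩ := quad_of_fibre (A := S.presheaf.stalk (f (f.fiberι y z)))
    (B := T.presheaf.stalk (f.fiberι y z)) (rho0 f y z) (rho0_surjective f y z) (ker_rho0 f y z)
    ((f.fiberι y).stalkMap z).hom ((f.fiberι y).stalkMap_surjective z)
    (Groth.Agent.Lib.H9ModFibSch.ker_stalkMap_fiberι f y z) (jmap f y z) (compat f y z)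
    ab bb cb hdisc e₀ he₀
  exact ⟨ρh, hρh, H⟩


/-- the conclusion of S16290 as a predicate on points of the total space -/
def P16290 (x : T) : Prop :=
  ∀ [IsNoetherianRing (S.presheaf.stalk (f x))], (f.stalkMap x).hom.Flat →
    ∃ a b c : Curv2.cpl (S.presheaf.stalk (f x)), IsUnit (b ^ 2 - 4 * a * c) ∧
      ∃ h ∈ IsLocalRing.maximalIdeal (Curv2.cpl (S.presheaf.stalk (f x))),
        ∃ e : Curv2.cpl (T.presheaf.stalk x) ≃+*
            (MvPowerSeries (Fin 2) (Curv2.cpl (S.presheaf.stalk (f x))) ⧸ Ideal.span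
              {(MvPowerSeries.C a * MvPowerSeries.X 0 ^ 2 +
                MvPowerSeries.C b * MvPowerSeries.X 0 * MvPowerSeries.X 1 +
                MvPowerSeries.C c * MvPowerSeries.X 1 ^ 2 - MvPowerSeries.C h :
                  MvPowerSeries (Fin 2) (Curv2.cpl (S.presheaf.stalk (f x))))}),
          ∀ r : S.presheaf.stalk (f x),
            e (algebraMap (T.presheaf.stalk x) (Curv2.cpl (T.presheaf.stalk x))
                ((f.stalkMap x).hom r)) =
              Ideal.Quotient.mk _ (MvPowerSeries.C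
                (algebraMap (S.presheaf.stalk (f x)) (Curv2.cpl (S.presheaf.stalk (f x))) r))

theorem p16290 (ab bb cb : S.residueField y) (hdisc : bb ^ 2 - 4 * ab * cb ≠ 0)
    (e₀ : Curv2.cpl ((f.fiber y).presheaf.stalk z) ≃+*
      (MvPowerSeries (Fin 2) (S.residueField y) ⧸ Ideal.span
        {(MvPowerSeries.C ab * MvPowerSeries.X 0 ^ 2 +
          MvPowerSeries.C bb * MvPowerSeries.X 0 * MvPowerSeries.X 1 +
          MvPowerSeries.C cb * MvPowerSeries.X 1 ^ 2 :
            MvPowerSeries (Fin 2) (S.residueField y))}))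
    (he₀ : ∀ r : S.residueField y, e₀ (algebraMap ((f.fiber y).presheaf.stalk z)
      (Curv2.cpl ((f.fiber y).presheaf.stalk z)) (jmap f y z r)) =
      Ideal.Quotient.mk _ (MvPowerSeries.C r)) :
    P16290 f (f.fiberι y z) := by
  intro inst hfl
  obtain ⟨ρh, hsurj, H⟩ := quad_fibre_sch f y z hfl ab bb cb hdisc e₀ he₀
  obtain ⟨a, ha⟩ := hsurj ab
  obtain ⟨b, hb⟩ := hsurj bb
  obtain ⟨c, hc⟩ := hsurj cb
  obtain ⟨hu, h, hh, e, he⟩ := H a b c ha hb hc
  exact ⟨a, b, c, hu, h, hh, e, he⟩

/-- S16290 in unpacked form. -/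
theorem main16290 (t : T) [IsNoetherianRing (S.presheaf.stalk (f t))]
    (hfl : (f.stalkMap t).hom.Flat)
    (ab bb cb : S.residueField (f t)) (hdisc : bb ^ 2 - 4 * ab * cb ≠ 0)
    (e₀ : Curv2.cpl ((f.fiber (f t)).presheaf.stalk (f.asFiber t)) ≃+*
      (MvPowerSeries (Fin 2) (S.residueField (f t)) ⧸ Ideal.span
        {(MvPowerSeries.C ab * MvPowerSeries.X 0 ^ 2 +
          MvPowerSeries.C bb * MvPowerSeries.X 0 * MvPowerSeries.X 1 +
          MvPowerSeries.C cb * MvPowerSeries.X 1 ^ 2 :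
            MvPowerSeries (Fin 2) (S.residueField (f t)))}))
    (he₀ : ∀ r : S.residueField (f t),
      e₀ (algebraMap ((f.fiber (f t)).presheaf.stalk (f.asFiber t))
        (Curv2.cpl ((f.fiber (f t)).presheaf.stalk (f.asFiber t)))
        (jmap f (f t) (f.asFiber t) r)) =
      Ideal.Quotient.mk _ (MvPowerSeries.C r)) :
    ∃ a b c : Curv2.cpl (S.presheaf.stalk (f t)), IsUnit (b ^ 2 - 4 * a * c) ∧
      ∃ h ∈ IsLocalRing.maximalIdeal (Curv2.cpl (S.presheaf.stalk (f t))),
        ∃ e : Curv2.cpl (T.presheaf.stalk t) ≃+*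
            (MvPowerSeries (Fin 2) (Curv2.cpl (S.presheaf.stalk (f t))) ⧸ Ideal.span
              {(MvPowerSeries.C a * MvPowerSeries.X 0 ^ 2 +
                MvPowerSeries.C b * MvPowerSeries.X 0 * MvPowerSeries.X 1 +
                MvPowerSeries.C c * MvPowerSeries.X 1 ^ 2 - MvPowerSeries.C h :
                  MvPowerSeries (Fin 2) (Curv2.cpl (S.presheaf.stalk (f t))))}),
          ∀ r : S.presheaf.stalk (f t),
            e (algebraMap (T.presheaf.stalk t) (Curv2.cpl (T.presheaf.stalk t))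
                ((f.stalkMap t).hom r)) =
              Ideal.Quotient.mk _ (MvPowerSeries.C
                (algebraMap (S.presheaf.stalk (f t)) (Curv2.cpl (S.presheaf.stalk (f t))) r)) := by
  have key : P16290 f (f.fiberι (f t) (f.asFiber t)) :=
    p16290 f (f t) (f.asFiber t) ab bb cb hdisc e₀ he₀
  rw [Scheme.Hom.fiberι_asFiber] at key
  exact key hfl

/-- the conclusion of S6573 as a predicate on points of the total space -/
def P6573 (x : T) : Prop :=
  ∀ [IsNoetherianRing (S.presheaf.stalk (f x))], (f.stalkMap x).hom.Flat →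
    ∃ h ∈ IsLocalRing.maximalIdeal (Curv2.cpl (S.presheaf.stalk (f x))),
      ∃ e : Curv2.cpl (T.presheaf.stalk x) ≃+*
          (MvPowerSeries (Fin 2) (Curv2.cpl (S.presheaf.stalk (f x))) ⧸ Ideal.span
            {(MvPowerSeries.X 0 * MvPowerSeries.X 1 - MvPowerSeries.C h :
              MvPowerSeries (Fin 2) (Curv2.cpl (S.presheaf.stalk (f x))))}),
        ∀ a : S.presheaf.stalk (f x),
          e (algebraMap (T.presheaf.stalk x) (Curv2.cpl (T.presheaf.stalk x))
              ((f.stalkMap x).hom a)) =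
            Ideal.Quotient.mk _ (MvPowerSeries.C
              (algebraMap (S.presheaf.stalk (f x)) (Curv2.cpl (S.presheaf.stalk (f x))) a))

theorem p6573
    (e₀ : Curv2.cpl ((f.fiber y).presheaf.stalk z) ≃+*
      (MvPowerSeries (Fin 2) (S.residueField y) ⧸ Ideal.span
        {(MvPowerSeries.X 0 * MvPowerSeries.X 1 : MvPowerSeries (Fin 2) (S.residueField y))}))
    (he₀ : ∀ r : S.residueField y, e₀ (algebraMap ((f.fiber y).presheaf.stalk z)
      (Curv2.cpl ((f.fiber y).presheaf.stalk z)) (jmap f y z r)) =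
      Ideal.Quotient.mk _ (MvPowerSeries.C r)) :
    P6573 f (f.fiberι y z) := by
  intro inst hfl
  have hI : Ideal.span
      {(MvPowerSeries.X 0 * MvPowerSeries.X 1 : MvPowerSeries (Fin 2) (S.residueField y))} =
      Ideal.span {(MvPowerSeries.C 0 * MvPowerSeries.X 0 ^ 2 +
          MvPowerSeries.C 1 * MvPowerSeries.X 0 * MvPowerSeries.X 1 +
          MvPowerSeries.C 0 * MvPowerSeries.X 1 ^ 2 :
            MvPowerSeries (Fin 2) (S.residueField y))} := by
    congr 2
    rw [map_zero, map_one, zero_mul, zero_mul, zero_add, add_zero, one_mul]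
  have hdisc : (1 : S.residueField y) ^ 2 - 4 * 0 * 0 ≠ 0 := by
    rw [one_pow, mul_zero, sub_zero]
    exact one_ne_zero
  obtain ⟨ρh, hsurj, H⟩ := quad_fibre_sch f y z hfl 0 1 0 hdisc
    (e₀.trans (Ideal.quotEquivOfEq hI)) (by
      intro r
      change Ideal.quotEquivOfEq hI (e₀ _) = _
      rw [he₀, Ideal.quotEquivOfEq_mk])
  obtain ⟨hu, h, hh, e, he⟩ := H 0 1 0 (map_zero _) (map_one _) (map_zero _)
  have hJ : Ideal.span {(MvPowerSeries.C 0 * MvPowerSeries.X 0 ^ 2 +
        MvPowerSeries.C 1 * MvPowerSeries.X 0 * MvPowerSeries.X 1 +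
        MvPowerSeries.C 0 * MvPowerSeries.X 1 ^ 2 - MvPowerSeries.C h :
          MvPowerSeries (Fin 2) (Curv2.cpl (S.presheaf.stalk (f (f.fiberι y z)))))} =
      Ideal.span {(MvPowerSeries.X 0 * MvPowerSeries.X 1 - MvPowerSeries.C h :
          MvPowerSeries (Fin 2) (Curv2.cpl (S.presheaf.stalk (f (f.fiberι y z)))))} := by
    congr 2
    rw [map_zero, map_one, zero_mul, zero_mul, zero_add, add_zero, one_mul]
  refine ⟨h, hh, e.trans (Ideal.quotEquivOfEq hJ), fun r => ?_⟩
  change Ideal.quotEquivOfEq hJ (e _) = _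
  rw [he, Ideal.quotEquivOfEq_mk]

/-- S6573 in unpacked form. -/
theorem main6573 (t : T) [IsNoetherianRing (S.presheaf.stalk (f t))]
    (hfl : (f.stalkMap t).hom.Flat)
    (e₀ : Curv2.cpl ((f.fiber (f t)).presheaf.stalk (f.asFiber t)) ≃+*
      (MvPowerSeries (Fin 2) (S.residueField (f t)) ⧸ Ideal.span
        {(MvPowerSeries.X 0 * MvPowerSeries.X 1 :
          MvPowerSeries (Fin 2) (S.residueField (f t)))}))
    (he₀ : ∀ r : S.residueField (f t),
      e₀ (algebraMap ((f.fiber (f t)).presheaf.stalk (f.asFiber t))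
        (Curv2.cpl ((f.fiber (f t)).presheaf.stalk (f.asFiber t)))
        (jmap f (f t) (f.asFiber t) r)) =
      Ideal.Quotient.mk _ (MvPowerSeries.C r)) :
    ∃ h ∈ IsLocalRing.maximalIdeal (Curv2.cpl (S.presheaf.stalk (f t))),
      ∃ e : Curv2.cpl (T.presheaf.stalk t) ≃+*
          (MvPowerSeries (Fin 2) (Curv2.cpl (S.presheaf.stalk (f t))) ⧸ Ideal.span
            {(MvPowerSeries.X 0 * MvPowerSeries.X 1 - MvPowerSeries.C h :
              MvPowerSeries (Fin 2) (Curv2.cpl (S.presheaf.stalk (f t))))}),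
        ∀ a : S.presheaf.stalk (f t),
          e (algebraMap (T.presheaf.stalk t) (Curv2.cpl (T.presheaf.stalk t))
              ((f.stalkMap t).hom a)) =
            Ideal.Quotient.mk _ (MvPowerSeries.C
              (algebraMap (S.presheaf.stalk (f t)) (Curv2.cpl (S.presheaf.stalk (f t))) a)) := by
  have key : P6573 f (f.fiberι (f t) (f.asFiber t)) := p6573 f (f t) (f.asFiber t) e₀ he₀
  rw [Scheme.Hom.fiberι_asFiber] at key
  exact key hfl

end main

end Groth.Agent.Lib.R2H7.QuadNodeSch
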