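import Mathlib
import Groth.Prelude.Def_DRing2
import Groth.Prelude.Def_DRing4
import Groth.Agent.Lib.Helper17HOne1

/-!
# `RHom(P, L) ≅ Hom•(P, L)` for a bounded above complex of projectives (helper7, round 2)

* `quasiIso_of_elements_cx` : elementwise criterion for quasi-isomorphisms of cochain complexes of modules.
* `quasiIso_homCxMap` : `Hom•(P, -)` preserves quasi-isomorphisms for `P` K-projective.
* `main` : S6996.
-/

set_option autoImplicit false
set_option linter.style.haveILetI false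
universe u
open CategoryTheory CategoryTheory.Limits
open CochainComplex CochainComplex.HomComplex
attribute [local instance] HasDerivedCategory.standard

namespace Groth.Agent.Lib.R2H7.RHomProj

variable {R : Type u} [CommRing R]

/-- elementwise criterion for cochain complexes of modules -/
lemma quasiIso_of_elements_cx {K L : CochainComplex (ModuleCat.{u} R) ℤ} (φ : K ⟶ L)
    (hsurj : ∀ (n : ℤ) (x₂ : L.X n), L.d n (n + 1) x₂ = 0 →
      ∃ x₁ : K.X n, K.d n (n + 1) x₁ = 0 ∧ ∃ y : L.X (n - 1),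
        φ.f n x₁ = x₂ + L.d (n - 1) n y)
    (hinj : ∀ (n : ℤ) (x₁ : K.X n), K.d n (n + 1) x₁ = 0 →
      (∃ y : L.X (n - 1), φ.f n x₁ = L.d (n - 1) n y) →
      ∃ z : K.X (n - 1), K.d (n - 1) n z = x₁) :
    QuasiIso φ := by
  rw [quasiIso_iff]
  intro n
  rw [quasiIsoAt_iff' φ (n - 1) n (n + 1) (by simp) (by simp)]
  exact Groth.Agent.Lib.Helper17.HOne.quasiIso_of_elements _ (hsurj n) (hinj n)

section KProj

variable {P L L' : CochainComplex (ModuleCat.{u} R) ℤ} [P.IsKProjective] (f : L ⟶ L')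
  [QuasiIso f] (n : ℤ)

lemma isIso_Qh_map :
    IsIso (DerivedCategory.Qh.map
      ((HomotopyCategory.quotient (ModuleCat.{u} R) (ComplexShape.up ℤ)).map (f⟦n⟧'))) := by
  have h1 : QuasiIso (f⟦n⟧') := inferInstance
  exact (NatIso.isIso_map_iff (DerivedCategory.quotientCompQhIso (ModuleCat.{u} R)) (f⟦n⟧')).2
    ((DerivedCategory.isIso_Q_map_iff_quasiIso _ _).2 h1)

lemma quotient_map_eq_zero_of_comp (g : P ⟶ L⟦n⟧)
    (h : (HomotopyCategory.quotient (ModuleCat.{u} R) (ComplexShape.up ℤ)).map (g ≫ f⟦n⟧') = 0) :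
    (HomotopyCategory.quotient (ModuleCat.{u} R) (ComplexShape.up ℤ)).map g = 0 := by
  apply (IsKProjective.Qh_map_bijective P _).injective
  rw [Functor.map_zero]
  haveI := isIso_Qh_map f n
  rw [← cancel_mono (DerivedCategory.Qh.map
    ((HomotopyCategory.quotient (ModuleCat.{u} R) (ComplexShape.up ℤ)).map (f⟦n⟧'))), zero_comp,
    ← Functor.map_comp, ← Functor.map_comp, h, Functor.map_zero]

lemma exists_lift (g' : P ⟶ L'⟦n⟧) : ∃ g : P ⟶ L⟦n⟧,
    (HomotopyCategory.quotient (ModuleCat.{u} R) (ComplexShape.up ℤ)).map (g ≫ f⟦n⟧') =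
      (HomotopyCategory.quotient (ModuleCat.{u} R) (ComplexShape.up ℤ)).map g' := by
  haveI := isIso_Qh_map f n
  obtain ⟨a, ha⟩ := (IsKProjective.Qh_map_bijective P _).surjective
    (DerivedCategory.Qh.map
      ((HomotopyCategory.quotient (ModuleCat.{u} R) (ComplexShape.up ℤ)).map g') ≫
      inv (DerivedCategory.Qh.map
        ((HomotopyCategory.quotient (ModuleCat.{u} R) (ComplexShape.up ℤ)).map (f⟦n⟧'))))
  obtain ⟨g, rfl⟩ :=
    (HomotopyCategory.quotient (ModuleCat.{u} R) (ComplexShape.up ℤ)).map_surjective a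
  refine ⟨g, (IsKProjective.Qh_map_bijective P _).injective ?_⟩
  rw [Functor.map_comp, Functor.map_comp, ha, Category.assoc, IsIso.inv_hom_id, Category.comp_id]

omit [P.IsKProjective] in
lemma mem_coboundaries_iff_quotient_map_eq_zero (ζ : Cocycle P L n) :
    ζ ∈ coboundaries P L n ↔
      (HomotopyCategory.quotient (ModuleCat.{u} R) (ComplexShape.up ℤ)).map
        (Cocycle.equivHomShift.symm ζ) = 0 := by
  rw [← CohomologyClass.toHom_mk_eq_zero_iff, CohomologyClass.toHom_mk]

end KProj

theorem quasiIso_homCxMap (P : DRing.Cx R) [P.IsKProjective] {L L' : DRing.Cx R} (f : L ⟶ L')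
    [QuasiIso f] : QuasiIso (DRing.homCxMap P f) := by
  apply quasiIso_of_elements_cx
  · intro n (z' : Cochain P L' n) hz'
    let ζ' : Cocycle P L' n := Cocycle.mk z' (n + 1) rfl hz'
    obtain ⟨g, hg⟩ := exists_lift f n (Cocycle.equivHomShift.symm ζ')
    have h1 : ((Cocycle.equivHomShift g).postcomp f - ζ') ∈ coboundaries P L' n := by
      rw [mem_coboundaries_iff_quotient_map_eq_zero, map_sub, Functor.map_sub,
        Cocycle.equivHomShift_symm_postcomp, AddEquiv.symm_apply_apply, hg, sub_self]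
    obtain ⟨y, hy⟩ := (mem_coboundaries_iff _ (n - 1) (by omega)).1 h1
    refine ⟨(Cocycle.equivHomShift g).1, (Cocycle.equivHomShift g).δ_eq_zero _, y, ?_⟩
    have h2 : ((Cocycle.equivHomShift g).postcomp f).1 = (z' : Cochain P L' n) + δ (n - 1) n y := by
      rw [hy, Cocycle.coe_sub]
      change _ = (z' : Cochain P L' n) + (_ - z')
      abel
    exact h2
  · rintro n (z : Cochain P L n) hz ⟨y, hy⟩
    let ζ : Cocycle P L n := Cocycle.mk z (n + 1) rfl hz
    have h1 : ζ.postcomp f ∈ coboundaries P L' n :=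
      (mem_coboundaries_iff _ (n - 1) (by omega)).2 ⟨y, hy.symm⟩
    rw [mem_coboundaries_iff_quotient_map_eq_zero, Cocycle.equivHomShift_symm_postcomp] at h1
    have h2 := quotient_map_eq_zero_of_comp f n _ h1
    rw [← mem_coboundaries_iff_quotient_map_eq_zero] at h2
    obtain ⟨w, hw⟩ := (mem_coboundaries_iff _ (n - 1) (by omega)).1 h2
    exact ⟨w, hw⟩

theorem main (P : DRing.Cx R) (b : ℤ)
    (hb : DRing.VanishesAbove P b) (hP : ∀ i : ℤ, Module.Projective R (P.X i)) [DRing.HasRHomCx P]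
    (L : DRing.Cx R) :
    Nonempty ((DRing.RHomCx P).obj (DRing.toD L) ≅ DRing.toD (DRing.homCx P L)) := by
  haveI : P.IsStrictlyLE b := by
    rw [CochainComplex.isStrictlyLE_iff]
    intro i hi
    exact hb i hi
  haveI : ∀ i : ℤ, Projective (P.X i) := fun i => by
    exact (IsProjective.iff_projective (R := R) (P.X i)).1 (hP i)
  haveI : P.IsKProjective := CochainComplex.isKProjective_of_projective P b
  have hinv : (HomologicalComplex.quasiIso (ModuleCat.{u} R) (ComplexShape.up ℤ)).IsInvertedBy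
      (DRing.homCxQ P) := by
    intro L L' f hf
    haveI : QuasiIso f := hf
    exact (DerivedCategory.isIso_Q_map_iff_quasiIso _ _).2 (quasiIso_homCxMap P f)
  haveI := Functor.isIso_of_isRightDerivedFunctor_of_inverts (L := DerivedCategory.Q)
    (DRing.RHomCx P) ((DRing.homCxQ P).totalRightDerivedUnit DerivedCategory.Q
      (HomologicalComplex.quasiIso (ModuleCat.{u} R) (ComplexShape.up ℤ))) hinv
  exact ⟨(asIso (((DRing.homCxQ P).totalRightDerivedUnit DerivedCategory.Q
      (HomologicalComplex.quasiIso (ModuleCat.{u} R) (ComplexShape.up ℤ))).app L)).symm⟩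

end Groth.Agent.Lib.R2H7.RHomProj
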