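/-
S15185: in a central division algebra of degree `n = n' p^m` over a field `K ⊇ μ_∞` of
characteristic `p`, if `x^r ∈ K` and `Nrd x` is a `p^m`-th power then `x^{n'} ∈ K`.
-/
import Mathlib
import Groth.Prelude.Def_GSzCSA
import Groth.Agent.Lib.R2H7KummerFactor

set_option autoImplicit false
universe u v

namespace Groth.Agent.Lib.R2H7.RedNormTorsion

open Polynomial TensorProduct

/-- The reduced norm of a scalar `c` is `c^n`. -/
theorem redNorm_algebraMap {K : Type u} [Field K] {A : Type v} [Ring A] [Algebra K A]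
    [Module.Finite K A] {n : ℕ} (hA : Module.finrank K A = n ^ 2)
    (N : A →* K) (hN : CSAGal.IsRedNorm K A N) (c : K) : N (algebraMap K A c) = c ^ n := by
  obtain ⟨K', _, _, _, n₀, φ, h⟩ := hN
  have hfin : Module.finrank K' (K' ⊗[K] A) = n ^ 2 := by
    rw [Module.finrank_baseChange, hA]
  have hn₀ : n₀ = n := by
    have h1 := φ.toLinearEquiv.finrank_eq
    rw [hfin, Module.finrank_matrix, Fintype.card_fin, Module.finrank_self, mul_one, ← pow_two] at h1
    exact (Nat.pow_left_injective (n := 2) (by norm_num) h1).symm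
  have h1 := h (algebraMap K A c)
  have h2 : (1 : K') ⊗ₜ[K] (algebraMap K A c) =
      algebraMap K' (K' ⊗[K] A) (algebraMap K K' c) := by
    rw [Algebra.TensorProduct.algebraMap_apply, Algebra.algebraMap_self, RingHom.id_apply,
      Algebra.algebraMap_eq_smul_one, Algebra.algebraMap_eq_smul_one, TensorProduct.smul_tmul]
  rw [h2, AlgEquiv.commutes, Matrix.algebraMap_eq_diagonal, Matrix.det_diagonal] at h1
  simp only [Pi.algebraMap_apply, Algebra.algebraMap_self, RingHom.id_apply, Finset.prod_const,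
    Finset.card_univ, Fintype.card_fin] at h1
  rw [hn₀, ← map_pow] at h1
  exact (algebraMap K K').injective h1

/-- In a domain, a root of a product of linear factors over the centre lies in the centre. -/
theorem exists_root_of_aeval_prod {K : Type u} [Field K] {A : Type v} [Ring A] [Algebra K A]
    [Nontrivial A] [NoZeroDivisors A] (s : Multiset K) (y : A)
    (h : aeval y (s.map fun ζ => (X - C ζ : K[X])).prod = 0) :
    ∃ ζ ∈ s, y = algebraMap K A ζ := by
  induction s using Multiset.induction_on with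
  | empty =>
    rw [Multiset.map_zero, Multiset.prod_zero, map_one] at h
    exact absurd h one_ne_zero
  | cons ζ s ih =>
    rw [Multiset.map_cons, Multiset.prod_cons, map_mul, mul_eq_zero] at h
    rcases h with h | h
    · refine ⟨ζ, Multiset.mem_cons_self ζ s, ?_⟩
      rw [map_sub, aeval_X, aeval_C, sub_eq_zero] at h
      exact h
    · obtain ⟨ζ', hζ', hy⟩ := ih h
      exact ⟨ζ', Multiset.mem_cons_of_mem hζ', hy⟩

theorem main (K : Type u) [Field K] (p : ℕ) [Fact p.Prime] [CharP K p]
    (hK : ∀ n : ℕ, 0 < n → (X ^ n - 1 : K[X]).Splits)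
    (A : Type v) [DivisionRing A] [Algebra K A] [FiniteDimensional K A]
    (n n' m : ℕ) (hA : Module.finrank K A = n ^ 2) (hn : n = n' * p ^ m)
    (N : A →* K) (hN : CSAGal.IsRedNorm K A N)
    (x : A) (hx : x ≠ 0) (hxr : ∃ r : ℕ, 0 < r ∧ x ^ r ∈ (algebraMap K A).range)
    (hNx : ∃ b : K, b ≠ 0 ∧ N x = b ^ (p ^ m)) :
    x ^ n' ∈ (algebraMap K A).range := by
  obtain ⟨r, hr, c, hc⟩ := hxr
  obtain ⟨b, hb0, hb⟩ := hNx
  have hc0 : c ≠ 0 := by
    intro h0
    rw [h0, map_zero] at hc
    exact pow_ne_zero r hx hc.symm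
  have hint : IsIntegral K x := IsIntegral.of_finite K x
  have hirr : Irreducible (minpoly K x) := minpoly.irreducible hint
  have hmon : (minpoly K x).Monic := minpoly.monic hint
  have hdvd : minpoly K x ∣ X ^ r - C c := by
    apply minpoly.dvd
    rw [map_sub, map_pow, aeval_X, aeval_C, hc, sub_self]
  obtain ⟨a, ha⟩ := Groth.Agent.Lib.R2H7.KummerFactor.eq_X_pow_sub_C hK hc0 r hr (minpoly K x)
    hirr hmon hdvd
  set D := (minpoly K x).natDegree with hD
  have hDpos : 0 < D := hirr.natDegree_pos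
  have hxD : x ^ D = algebraMap K A a := by
    have h0 := minpoly.aeval K x
    rw [ha, map_sub, map_pow, aeval_X, aeval_C, sub_eq_zero] at h0
    exact h0
  -- norm computation
  have hN1 : N x ^ D = a ^ n := by
    rw [← map_pow, hxD, redNorm_algebraMap hA N hN]
  have hbD : b ^ D = a ^ n' := by
    have h1 : (b ^ D) ^ (p ^ m) = (a ^ n') ^ (p ^ m) := by
      rw [← pow_mul, ← pow_mul, mul_comm D, pow_mul, ← hb, hN1, hn]
    have h2 := iterateFrobenius_inj K p m
    apply h2
    rw [iterateFrobenius_def, iterateFrobenius_def]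
    exact h1
  have ha0 : a ≠ 0 := by
    intro h0
    rw [h0, map_zero] at hxD
    exact pow_ne_zero D hx hxD
  -- the root of unity
  set y : A := x ^ n' * algebraMap K A b⁻¹ with hy
  have hyD : y ^ D = 1 := by
    have hcomm : Commute (x ^ n') (algebraMap K A b⁻¹) := (Algebra.commutes b⁻¹ (x ^ n')).symm
    rw [hy, hcomm.mul_pow, ← pow_mul, mul_comm n' D, pow_mul, hxD,
      ← map_pow, ← map_pow, ← map_mul, inv_pow, hbD, mul_inv_cancel₀ (pow_ne_zero _ ha0), map_one]
  have hsplit := hK D hDpos
  have hmonD : (X ^ D - 1 : K[X]).Monic := by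
    have := monic_X_pow_sub_C (1 : K) hDpos.ne'
    rwa [map_one] at this
  have hprod := hsplit.eq_prod_roots_of_monic hmonD
  have hy0 : aeval y (X ^ D - 1 : K[X]) = 0 := by
    rw [map_sub, map_pow, aeval_X, map_one, hyD, sub_self]
  rw [hprod] at hy0
  obtain ⟨ζ, -, hζ⟩ := exists_root_of_aeval_prod _ y hy0
  refine ⟨ζ * b, ?_⟩
  rw [map_mul, ← hζ, hy, mul_assoc, ← map_mul, inv_mul_cancel₀ hb0, map_one, mul_one]

end Groth.Agent.Lib.R2H7.RedNormTorsion
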