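import Mathlib
import Groth.Prelude.Def_RootCh

/-!
# Basic theory of Weyl chambers, fundamental weights and corners (helper7, round 2)

General lemmas on `RootCh` notions used by the RootCh milestones.
-/

set_option autoImplicit false

open Module

namespace Groth.Agent.Lib.R2H7.RootCh

open _root_.RootCh

universe u v w x

variable {ι : Type u} {R : Type v} {M : Type w} {N : Type x}

section CommRing

variable [CommRing R] [AddCommGroup M] [Module R M] [AddCommGroup N] [Module R N]
variable {P : RootPairing ι R M N}

/-- Expansion of a coroot in the simple coroots of a base, with natural coefficients up to a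
global sign. -/
theorem exists_coroot_eq_sum_nat_or_neg (b : P.Base) (k : ι) :
    ∃ f : ι → ℕ, Function.support f ⊆ b.support ∧
      (P.coroot k = ∑ j ∈ b.support, f j • P.coroot j ∨
        P.coroot k = -∑ j ∈ b.support, f j • P.coroot j) :=
  b.flip.exists_root_eq_sum_nat_or_neg k

/-- The pairing of a vector with a coroot, expanded in the pairings with simple coroots. -/
theorem exists_coroot'_eq_sum_nat_or_neg (b : P.Base) (k : ι) :
    ∃ f : ι → ℕ, Function.support f ⊆ b.support ∧
      ((P.coroot k = ∑ j ∈ b.support, f j • P.coroot j ∧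
          ∀ ξ : M, P.coroot' k ξ = ∑ j ∈ b.support, (f j : R) * P.coroot' j ξ) ∨
        (P.coroot k = -∑ j ∈ b.support, f j • P.coroot j ∧
          ∀ ξ : M, P.coroot' k ξ = -∑ j ∈ b.support, (f j : R) * P.coroot' j ξ)) := by
  obtain ⟨f, hf, h | h⟩ := exists_coroot_eq_sum_nat_or_neg b k
  · refine ⟨f, hf, Or.inl ⟨h, fun ξ => ?_⟩⟩
    change P.toLinearMap ξ (P.coroot k) = _
    rw [h, map_sum]
    refine Finset.sum_congr rfl fun j _ => ?_
    rw [map_nsmul, nsmul_eq_mul]
    rfl
  · refine ⟨f, hf, Or.inr ⟨h, fun ξ => ?_⟩⟩
    change P.toLinearMap ξ (P.coroot k) = _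
    rw [h, map_neg, map_sum]
    congr 1
    refine Finset.sum_congr rfl fun j _ => ?_
    rw [map_nsmul, nsmul_eq_mul]
    rfl

end CommRing

section RootSystem

variable [CommRing R] [AddCommGroup M] [Module R M] [AddCommGroup N] [Module R N]
variable {P : RootPairing ι R M N} [P.IsRootSystem]

theorem coroot'_fundWeight [DecidableEq ι] (b : P.Base) (i j : b.support) :
    P.coroot' j (fundWeight b i) = if j = i then 1 else 0 := by
  split_ifs with h
  · subst h; exact coroot'_fundWeight_self b j
  · exact coroot'_fundWeight_of_ne b i j h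

/-- A vector of `M` is determined by its pairings with the simple coroots of a base. -/
theorem eq_of_forall_coroot'_eq (b : P.Base) {ξ η : M}
    (h : ∀ i : b.support, P.coroot' i ξ = P.coroot' i η) : ξ = η := by
  apply P.toPerfPair.injective
  apply b.toCoweightBasis.ext
  intro i
  rw [LinearMap.toPerfPair_apply, LinearMap.toPerfPair_apply, RootPairing.Base.toCoweightBasis_apply]
  exact h i

/-- Expansion of a vector in the fundamental weights of a base. -/
theorem eq_sum_fundWeight (b : P.Base) (ξ : M) :
    ξ = ∑ i : b.support, P.coroot' i ξ • fundWeight b i := by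
  classical
  apply eq_of_forall_coroot'_eq b
  intro j
  rw [map_sum]
  simp only [map_smul, smul_eq_mul, coroot'_fundWeight, mul_ite, mul_one, mul_zero]
  rw [Finset.sum_ite_eq]
  simp

theorem fundWeight_injective (b : P.Base) [Nontrivial R] : Function.Injective (fundWeight b) := by
  classical
  intro i j h
  by_contra hne
  have h1 := coroot'_fundWeight b i i
  rw [h, coroot'_fundWeight b j i, if_neg hne, if_pos rfl] at h1
  exact zero_ne_one h1

/-- The fundamental weights of a base are linearly independent. -/
theorem linearIndependent_fundWeight (b : P.Base) : LinearIndependent R (fundWeight b) := by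
  classical
  rw [Fintype.linearIndependent_iff]
  intro g hg j
  have := congrArg (P.coroot' j) hg
  rw [map_sum, map_zero] at this
  simp only [map_smul, smul_eq_mul, coroot'_fundWeight, mul_ite, mul_one, mul_zero] at this
  rw [Finset.sum_ite_eq] at this
  simpa using this

end RootSystem

section Field

variable [Field R] [AddCommGroup M] [Module R M] [AddCommGroup N] [Module R N]
variable {P : RootPairing ι R M N}

/-- The span of a set of simple coroots has dimension the number of these coroots. -/
theorem finrank_span_coroot_image (b : P.Base) (S : Finset ι) (hS : S ⊆ b.support) :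
    finrank R (Submodule.span R (P.coroot '' (S : Set ι))) = S.card := by
  have hli : LinearIndependent R (fun i : (S : Set ι) => P.coroot i) :=
    b.linearIndepOn_coroot.mono (by exact_mod_cast hS)
  have hrange : Set.range (fun i : (S : Set ι) => P.coroot i) = P.coroot '' (S : Set ι) := by
    ext x
    constructor
    · rintro ⟨i, rfl⟩
      exact ⟨i, i.2, rfl⟩
    · rintro ⟨i, hi, rfl⟩
      exact ⟨⟨i, hi⟩, rfl⟩
  rw [← hrange, finrank_span_eq_card hli]
  simp

end Field

section Ordered

variable [Field R] [LinearOrder R] [IsStrictOrderedRing R]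
variable [AddCommGroup M] [Module R M] [AddCommGroup N] [Module R N]
variable {P : RootPairing ι R M N}

/-- A coroot vanishing on a dominant vector lies in the span of the simple coroots vanishing on
it. -/
theorem coroot_mem_span_of_coroot'_eq_zero [DecidableEq ι] (b : P.Base) {ξ : M}
    (hξ : ξ ∈ closedChamber b) {k : ι} (hk : P.coroot' k ξ = 0) :
    P.coroot k ∈ Submodule.span R
      (P.coroot '' ((b.support.filter fun i => P.coroot' i ξ = 0 : Finset ι) : Set ι)) := by
  obtain ⟨f, -, h⟩ := exists_coroot'_eq_sum_nat_or_neg b k
  have hterm : ∀ j ∈ b.support, 0 ≤ (f j : R) * P.coroot' j ξ := fun j hj =>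
    mul_nonneg (Nat.cast_nonneg _) (hξ j hj)
  have hsum : ∑ j ∈ b.support, (f j : R) * P.coroot' j ξ = 0 := by
    rcases h with ⟨-, h⟩ | ⟨-, h⟩
    · rw [← h ξ, hk]
    · have := h ξ
      rw [hk] at this
      exact neg_eq_zero.mp this.symm
  have hzero := (Finset.sum_eq_zero_iff_of_nonneg hterm).mp hsum
  have hmem : ∑ j ∈ b.support, f j • P.coroot j ∈ Submodule.span R
      (P.coroot '' ((b.support.filter fun i => P.coroot' i ξ = 0 : Finset ι) : Set ι)) := by
    refine Submodule.sum_mem _ fun j hj => ?_
    by_cases hfj : f j = 0
    · rw [hfj, zero_smul]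
      exact Submodule.zero_mem _
    · have hc : P.coroot' j ξ = 0 := by
        have := hzero j hj
        rcases mul_eq_zero.mp this with h0 | h0
        · exact absurd (by exact_mod_cast h0) hfj
        · exact h0
      refine Submodule.smul_of_tower_mem _ _ (Submodule.subset_span ⟨j, ?_, rfl⟩)
      exact Finset.mem_coe.mpr (Finset.mem_filter.mpr ⟨hj, hc⟩)
  rcases h with ⟨h, -⟩ | ⟨h, -⟩
  · rw [h]; exact hmem
  · rw [h]; exact Submodule.neg_mem _ hmem

/-- For a dominant vector, the span of all coroots vanishing on it is the span of the simple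
coroots vanishing on it. -/
theorem span_coroot_zeroSet_eq [DecidableEq ι] (b : P.Base) {ξ : M} (hξ : ξ ∈ closedChamber b) :
    Submodule.span R (P.coroot '' {k | P.coroot' k ξ = 0}) = Submodule.span R
      (P.coroot '' ((b.support.filter fun i => P.coroot' i ξ = 0 : Finset ι) : Set ι)) := by
  apply le_antisymm
  · rw [Submodule.span_le]
    rintro _ ⟨k, hk, rfl⟩
    exact coroot_mem_span_of_coroot'_eq_zero b hξ hk
  · apply Submodule.span_mono
    rintro _ ⟨k, hk, rfl⟩
    exact ⟨k, (Finset.mem_filter.mp (Finset.mem_coe.mp hk)).2, rfl⟩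

/-- The number of simple coroots of `b` vanishing on a `b`-dominant vector only depends on the
vector. -/
theorem finrank_span_coroot_zeroSet [DecidableEq ι] (b : P.Base) {ξ : M}
    (hξ : ξ ∈ closedChamber b) :
    finrank R (Submodule.span R (P.coroot '' {k | P.coroot' k ξ = 0})) =
      (b.support.filter fun i => P.coroot' i ξ = 0).card := by
  rw [span_coroot_zeroSet_eq b hξ, finrank_span_coroot_image b _ (Finset.filter_subset _ _)]

end Ordered

section RootSystem2

variable [CommRing R] [AddCommGroup M] [Module R M] [AddCommGroup N] [Module R N]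
variable {P : RootPairing ι R M N} [P.IsRootSystem]

/-- The pairing of a fundamental weight with any coroot is an integer (up to sign the coefficient
of the corresponding simple coroot). -/
theorem exists_nat_coroot'_fundWeight (b : P.Base) (i : b.support) (k : ι) :
    ∃ n : ℕ, P.coroot' k (fundWeight b i) = n ∨ P.coroot' k (fundWeight b i) = -(n : R) := by
  classical
  obtain ⟨f, -, h⟩ := exists_coroot'_eq_sum_nat_or_neg b k
  have hsum : ∑ j ∈ b.support, (f j : R) * P.coroot' j (fundWeight b i) = f i := by
    rw [← Finset.sum_coe_sort b.support]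
    simp only [coroot'_fundWeight, mul_ite, mul_one, mul_zero]
    rw [Finset.sum_ite_eq']
    simp
  refine ⟨f i, ?_⟩
  rcases h with ⟨-, h⟩ | ⟨-, h⟩
  · left; rw [h, hsum]
  · right; rw [h, hsum]

end RootSystem2

section OrderedRootSystem

variable [Field R] [LinearOrder R] [IsStrictOrderedRing R]
variable [AddCommGroup M] [Module R M] [AddCommGroup N] [Module R N]
variable {P : RootPairing ι R M N} [P.IsRootSystem]

theorem fundWeight_mem_closedChamber (b : P.Base) (i : b.support) :
    fundWeight b i ∈ closedChamber b := by
  classical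
  intro k hk
  have := coroot'_fundWeight b i ⟨k, hk⟩
  change P.coroot' k (fundWeight b i) = _ at this
  rw [this]
  split_ifs <;> norm_num

theorem card_support_eq_finrank (b : P.Base) : b.support.card = finrank R N := by
  rw [Module.finrank_eq_card_basis b.toCoweightBasis, Fintype.card_coe]

/-- A fundamental weight (of any base) lying in the closed chamber of `b` is a fundamental weight
of `b`. -/
theorem exists_fundWeight_eq_of_mem_closedChamber (b b' : P.Base) (j : b'.support)
    (h : fundWeight b' j ∈ closedChamber b) : ∃ i : b.support, fundWeight b i = fundWeight b' j := by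
  classical
  set w := fundWeight b' j with hw
  have hw' : w ∈ closedChamber b' := fundWeight_mem_closedChamber b' j
  have h1 := finrank_span_coroot_zeroSet b h
  have h2 := finrank_span_coroot_zeroSet b' hw'
  have h3 : (b'.support.filter fun i => P.coroot' i w = 0) = b'.support.erase j := by
    ext k
    simp only [Finset.mem_filter, Finset.mem_erase]
    constructor
    · rintro ⟨hk, hk0⟩
      refine ⟨?_, hk⟩
      rintro rfl
      have := coroot'_fundWeight_self b' j
      rw [← hw, hk0] at this
      exact zero_ne_one this
    · rintro ⟨hne, hk⟩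
      refine ⟨hk, ?_⟩
      exact coroot'_fundWeight_of_ne b' j ⟨k, hk⟩ (fun h => hne (congrArg Subtype.val h))
  have hcard : b.support.card = b'.support.card := by
    rw [card_support_eq_finrank b, card_support_eq_finrank b']
  have h4 : (b.support.filter fun i => ¬ P.coroot' i w = 0).card = 1 := by
    have h5 := Finset.card_filter_add_card_filter_not (s := b.support)
      (p := fun i => P.coroot' i w = 0)
    have h6 : (b'.support.erase (j : ι)).card = b'.support.card - 1 :=
      Finset.card_erase_of_mem j.2
    have h7 : 0 < b'.support.card := Finset.card_pos.mpr ⟨j, j.2⟩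
    rw [h3] at h2
    omega
  obtain ⟨i0, hi0⟩ := Finset.card_eq_one.mp h4
  have hi0mem : i0 ∈ b.support.filter fun i => ¬ P.coroot' i w = 0 := by
    rw [hi0]; exact Finset.mem_singleton_self _
  obtain ⟨hi0s, hi0c⟩ := Finset.mem_filter.mp hi0mem
  have hother : ∀ i : b.support, (i : ι) ≠ i0 → P.coroot' i w = 0 := by
    intro i hne
    by_contra hc
    have : (i : ι) ∈ b.support.filter fun i => ¬ P.coroot' i w = 0 :=
      Finset.mem_filter.mpr ⟨i.2, hc⟩
    rw [hi0, Finset.mem_singleton] at this
    exact hne this
  set c := P.coroot' i0 w with hc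
  -- expansion of `w`
  have hexp : w = c • fundWeight b ⟨i0, hi0s⟩ := by
    have := eq_sum_fundWeight b w
    rw [Finset.sum_eq_single (⟨i0, hi0s⟩ : b.support)] at this
    · exact this
    · intro i _ hne
      rw [hother i (fun h => hne (Subtype.ext h)), zero_smul]
    · intro h; exact absurd (Finset.mem_univ _) h
  -- integrality
  obtain ⟨m, hm⟩ := exists_nat_coroot'_fundWeight b' j i0
  obtain ⟨n, hn⟩ := exists_nat_coroot'_fundWeight b ⟨i0, hi0s⟩ (j : ι)
  have hcnonneg : 0 ≤ c := h i0 hi0s
  have hone : c * P.coroot' j (fundWeight b ⟨i0, hi0s⟩) = 1 := by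
    have := coroot'_fundWeight_self b' j
    rw [← hw] at this
    conv_lhs at this => rw [hexp]
    rwa [map_smul, smul_eq_mul] at this
  have hcm : c = m := by
    rcases hm with hm | hm
    · exact hm
    · have : c ≤ 0 := by rw [hc, hm]; exact neg_nonpos.mpr (Nat.cast_nonneg _)
      have hc0 : c = 0 := le_antisymm this hcnonneg
      exact absurd hc0 hi0c
  have hmn : m * n = 1 := by
    rcases hn with hn | hn
    · rw [hcm, hn] at hone
      exact_mod_cast hone
    · rw [hcm, hn] at hone
      have : ((m * n : ℕ) : R) = -1 := by push_cast; linarith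
      have h0 : (0 : R) ≤ ((m * n : ℕ) : R) := Nat.cast_nonneg _
      rw [this] at h0
      linarith
  have hm1 : m = 1 := Nat.eq_one_of_mul_eq_one_right hmn
  refine ⟨⟨i0, hi0s⟩, ?_⟩
  rw [hexp, hcm, hm1, Nat.cast_one, one_smul]

end OrderedRootSystem

end Groth.Agent.Lib.R2H7.RootCh
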