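import Mathlib
import Groth.Agent.Lib.R2H7RootCh

/-!
# Facets, chambers and corners (helper7, round 2)

* existence of a base whose closed chamber contains a given vector (`exists_base_mem_closedChamber`);
* the sign vector of a dominant vector is determined by its positivity pattern on the simple coroots;
* the corners of the facet of a dominant vector (`corners_ofVec`).
-/

set_option autoImplicit false
open Module
namespace Groth.Agent.Lib.R2H7.RootCh
open _root_.RootCh
universe u v w x
variable {ι : Type u} {R : Type v} {M : Type w} {N : Type x}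

section Exist

variable [Field R] [LinearOrder R] [IsStrictOrderedRing R]
variable [AddCommGroup M] [Module R M] [AddCommGroup N] [Module R N] [Finite ι]
variable (P : RootPairing ι R M N) [P.IsRootSystem] [P.IsCrystallographic] [P.IsReduced]

/-- finitely many positive bounds have a common positive lower bound -/
theorem exists_pos_forall_lt {κ : Type*} [Finite κ] (δ : κ → R) (hδ : ∀ i, 0 < δ i) :
    ∃ ε : R, 0 < ε ∧ ∀ i, ε < δ i := by
  classical
  have := Fintype.ofFinite κ
  rcases isEmpty_or_nonempty κ with h | h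
  · exact ⟨1, one_pos, fun i => (h.false i).elim⟩
  · refine ⟨(Finset.univ.inf' Finset.univ_nonempty δ) / 2, ?_, fun i => ?_⟩
    · apply half_pos
      rw [Finset.lt_inf'_iff]
      exact fun i _ => hδ i
    · have h1 : Finset.univ.inf' Finset.univ_nonempty δ ≤ δ i := Finset.inf'_le _ (Finset.mem_univ i)
      have h2 : 0 < Finset.univ.inf' Finset.univ_nonempty δ := by
        rw [Finset.lt_inf'_iff]
        exact fun i _ => hδ i
      linarith

/-- A base of `P` from a functional on `N` that does not vanish on any coroot: its simple coroots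
are positive for the functional. -/
theorem exists_base_of_dual (g : Dual R N) (hg : ∀ i, g (P.coroot i) ≠ 0) :
    ∃ b : P.Base, ∀ i ∈ b.support, 0 < g (P.coroot i) := by
  let _ := P.flip.indexNeg
  let b₀ : P.flip.Base := RootPairing.Base.mk' P.flip
    (IsAddIndecomposable.baseOf P.flip.root (g : N →+ R))
    (P.flip.linearIndepOn_root_baseOf' g hg)
    (fun i => IsAddIndecomposable.mem_or_neg_mem_closure_baseOf P.flip.root (g : N →+ R) i (hg i)
      (by simp))
  refine ⟨b₀.flip, fun i hi => ?_⟩
  have hi' : i ∈ IsAddIndecomposable.baseOf P.flip.root (g : N →+ R) := by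
    simpa [b₀, RootPairing.Base.mk'] using hi
  exact IsAddIndecomposable.baseOf_subset_pos _ _ hi'

/-- Every vector lies in the closed chamber of some base. -/
theorem exists_base_mem_closedChamber (ξ : M) : ∃ b : P.Base, ξ ∈ closedChamber b := by
  obtain ⟨g₀, hg₀⟩ := exists_dual_forall_apply_ne_zero (K := R) P.coroot (fun i => P.flip.ne_zero i)
  -- bounds
  let a : ι → R := fun i => P.coroot' i ξ
  let c : ι → R := fun i => g₀ (P.coroot i)
  let δ : ι → R := fun i => if a i = 0 then 1 else |a i| / |c i|
  have hδ : ∀ i, 0 < δ i := by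
    intro i
    simp only [δ]
    split_ifs with h
    · exact one_pos
    · exact div_pos (abs_pos.mpr h) (abs_pos.mpr (hg₀ i))
  obtain ⟨ε, hε, hεδ⟩ := exists_pos_forall_lt δ hδ
  have hsmall : ∀ i, a i ≠ 0 → ε * |c i| < |a i| := by
    intro i hi
    have := hεδ i
    simp only [δ, if_neg hi] at this
    rwa [lt_div_iff₀ (abs_pos.mpr (hg₀ i))] at this
  let g : Dual R N := P.toLinearMap ξ + ε • g₀
  have hgval : ∀ i, g (P.coroot i) = a i + ε * c i := fun i => rfl
  have hg : ∀ i, g (P.coroot i) ≠ 0 := by
    intro i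
    rw [hgval]
    by_cases hi : a i = 0
    · rw [hi, zero_add]
      exact mul_ne_zero hε.ne' (hg₀ i)
    · intro h0
      have h1 := hsmall i hi
      have h2 : a i = -(ε * c i) := by linarith
      rw [h2, abs_neg, abs_mul, abs_of_pos hε] at h1
      exact lt_irrefl _ h1
  obtain ⟨b, hb⟩ := exists_base_of_dual P g hg
  refine ⟨b, fun i hi => ?_⟩
  by_contra hneg
  rw [not_le] at hneg
  have hpos := hb i hi
  rw [hgval] at hpos
  have hai : a i ≠ 0 := ne_of_lt hneg
  have h1 := hsmall i hai
  rw [abs_of_neg hneg] at h1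
  have h2 : ε * c i ≤ ε * |c i| := mul_le_mul_of_nonneg_left (le_abs_self _) hε.le
  change a i < 0 at hneg
  linarith

end Exist

section Facets

variable [Field R] [LinearOrder R] [IsStrictOrderedRing R]
variable [AddCommGroup M] [Module R M] [AddCommGroup N] [Module R N]
variable {P : RootPairing ι R M N}

theorem sgnVec_apply (ξ : M) (k : ι) : sgnVec P ξ k = SignType.sign (P.coroot' k ξ) := rfl

theorem mem_carrier_ofVec (ξ : M) : ξ ∈ (Facet.ofVec P ξ).carrier := rfl

theorem Facet.eq_ofVec (F : Facet P) {ξ : M} (hξ : ξ ∈ F.carrier) : F = Facet.ofVec P ξ :=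
  Facet.ext hξ.symm

theorem Facet.carrier_nonempty (F : Facet P) : F.carrier.Nonempty := F.exists_sgnVec_eq

/-- If `ξ` and `η` are dominant and every simple coroot positive on `ξ` is positive on `η`, then
`ξ` lies in the closure of the facet of `η`. -/
theorem sgnVec_eq_zero_or_eq_of_closedChamber (b : P.Base) {ξ η : M} (hξ : ξ ∈ closedChamber b)
    (hη : η ∈ closedChamber b)
    (h : ∀ j ∈ b.support, 0 < P.coroot' j ξ → 0 < P.coroot' j η) (k : ι) :
    sgnVec P ξ k = 0 ∨ sgnVec P ξ k = sgnVec P η k := by
  obtain ⟨f, -, hf⟩ := exists_coroot'_eq_sum_nat_or_neg b k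
  have hξnn : ∀ j ∈ b.support, 0 ≤ (f j : R) * P.coroot' j ξ := fun j hj =>
    mul_nonneg (Nat.cast_nonneg _) (hξ j hj)
  have hηnn : ∀ j ∈ b.support, 0 ≤ (f j : R) * P.coroot' j η := fun j hj =>
    mul_nonneg (Nat.cast_nonneg _) (hη j hj)
  have hSξ : 0 ≤ ∑ j ∈ b.support, (f j : R) * P.coroot' j ξ := Finset.sum_nonneg hξnn
  have key : 0 < ∑ j ∈ b.support, (f j : R) * P.coroot' j ξ →
      0 < ∑ j ∈ b.support, (f j : R) * P.coroot' j η := by
    intro hpos
    obtain ⟨j, hj, hjpos⟩ := Finset.exists_lt_of_sum_lt (s := b.support)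
      (f := fun _ => (0 : R)) (g := fun j => (f j : R) * P.coroot' j ξ)
      (by rw [Finset.sum_const_zero]; exact hpos)
    change 0 < (f j : R) * P.coroot' j ξ at hjpos
    have hfj : 0 < (f j : R) := by
      rcases (Nat.cast_nonneg (f j) : (0 : R) ≤ f j).eq_or_lt with h0 | h0
      · rw [← h0, zero_mul] at hjpos; exact absurd hjpos (lt_irrefl _)
      · exact h0
    have haj : 0 < P.coroot' j ξ := by
      rcases (hξ j hj).eq_or_lt with h0 | h0
      · rw [← h0, mul_zero] at hjpos; exact absurd hjpos (lt_irrefl _)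
      · exact h0
    exact Finset.sum_pos' hηnn ⟨j, hj, mul_pos hfj (h j hj haj)⟩
  rw [sgnVec_apply, sgnVec_apply]
  rcases hf with ⟨-, hf⟩ | ⟨-, hf⟩
  · rw [hf ξ, hf η]
    rcases hSξ.eq_or_lt with h0 | h0
    · left; rw [← h0]; exact sign_zero
    · right; rw [sign_pos h0, sign_pos (key h0)]
  · rw [hf ξ, hf η]
    rcases hSξ.eq_or_lt with h0 | h0
    · left; rw [← h0, neg_zero]; exact sign_zero
    · right; rw [sign_neg (neg_neg_of_pos h0), sign_neg (neg_neg_of_pos (key h0))]

/-- Two dominant vectors with the same positivity pattern on the simple coroots lie in the same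
facet. -/
theorem sgnVec_eq_of_closedChamber (b : P.Base) {ξ η : M} (hξ : ξ ∈ closedChamber b)
    (hη : η ∈ closedChamber b)
    (h : ∀ j ∈ b.support, 0 < P.coroot' j ξ ↔ 0 < P.coroot' j η) :
    sgnVec P ξ = sgnVec P η := by
  funext k
  have h1 := sgnVec_eq_zero_or_eq_of_closedChamber b hξ hη (fun j hj => (h j hj).mp) k
  have h2 := sgnVec_eq_zero_or_eq_of_closedChamber b hη hξ (fun j hj => (h j hj).mpr) k
  rcases h1 with h1 | h1
  · rcases h2 with h2 | h2
    · rw [h1, h2]
    · rw [h2]
  · exact h1

theorem coroot'_nonneg_of_sgnVec {ξ η : M} {i : ι} (hξ : 0 ≤ P.coroot' i ξ)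
    (h : sgnVec P η i = 0 ∨ sgnVec P η i = sgnVec P ξ i) : 0 ≤ P.coroot' i η := by
  rw [sgnVec_apply, sgnVec_apply] at h
  rcases h with h | h
  · exact (sign_eq_zero_iff.mp h).ge
  · by_contra hneg
    rw [not_le] at hneg
    rw [sign_neg hneg] at h
    rcases hξ.eq_or_lt with h0 | h0
    · rw [← h0, sign_zero] at h; exact absurd h (by decide)
    · rw [sign_pos h0] at h; exact absurd h (by decide)

/-- The closure of the facet of a dominant vector is contained in the closed chamber. -/
theorem closure_ofVec_subset_closedChamber (b : P.Base) {ξ : M} (hξ : ξ ∈ closedChamber b) :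
    (Facet.ofVec P ξ).closure ⊆ closedChamber b :=
  fun _ hη i hi => coroot'_nonneg_of_sgnVec (hξ i hi) (hη i)

theorem carrier_subset_closure (F : Facet P) : F.carrier ⊆ F.closure :=
  fun ξ hξ i => Or.inr (congrFun hξ i)

end Facets

section Corners

variable [Field R] [LinearOrder R] [IsStrictOrderedRing R]
variable [AddCommGroup M] [Module R M] [AddCommGroup N] [Module R N]
variable {P : RootPairing ι R M N} [P.IsRootSystem]

/-- For a dominant `ξ`, the fundamental weight `ϖ_i` of `b` lies in the closure of the facet of `ξ`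
iff the simple coroot `i` is positive on `ξ`. -/
theorem fundWeight_mem_closure_ofVec_iff (b : P.Base) {ξ : M} (hξ : ξ ∈ closedChamber b)
    (i : b.support) : fundWeight b i ∈ (Facet.ofVec P ξ).closure ↔ 0 < P.coroot' i ξ := by
  classical
  constructor
  · intro h
    have h1 := h i
    rw [sgnVec_apply, coroot'_fundWeight_self, sign_one] at h1
    rcases h1 with h1 | h1
    · exact absurd h1 (by decide)
    · have : SignType.sign (P.coroot' i ξ) = 1 := h1.symm
      exact sign_eq_one_iff.mp this
  · intro h k
    refine sgnVec_eq_zero_or_eq_of_closedChamber b (fundWeight_mem_closedChamber b i) hξ ?_ k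
    intro j hj hpos
    have := coroot'_fundWeight b i ⟨j, hj⟩
    change P.coroot' j (fundWeight b i) = _ at this
    rw [this] at hpos
    split_ifs at hpos with hji
    · rw [← hji] at h; exact h
    · exact absurd hpos (lt_irrefl _)

/-- The corners of the facet of a dominant vector `ξ` are the fundamental weights `ϖ_i` of `b`
with `⟪ξ, α̌_i⟫ > 0`. -/
theorem corners_ofVec (b : P.Base) {ξ : M} (hξ : ξ ∈ closedChamber b) :
    (Facet.ofVec P ξ).corners = fundWeight b '' {i : b.support | 0 < P.coroot' i ξ} := by
  ext m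
  constructor
  · rintro ⟨⟨b', j, rfl⟩, hm⟩
    have hm' := closure_ofVec_subset_closedChamber b hξ hm
    obtain ⟨i, hi⟩ := exists_fundWeight_eq_of_mem_closedChamber b b' j hm'
    refine ⟨i, ?_, hi⟩
    rw [← hi] at hm
    exact (fundWeight_mem_closure_ofVec_iff b hξ i).mp hm
  · rintro ⟨i, hi, rfl⟩
    exact ⟨⟨b, i, rfl⟩, (fundWeight_mem_closure_ofVec_iff b hξ i).mpr hi⟩

/-- The corners of a facet are linearly independent as soon as the facet lies in some closed
chamber. -/
theorem linearIndepOn_corners_ofVec (b : P.Base) {ξ : M} (hξ : ξ ∈ closedChamber b) :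
    LinearIndepOn R (fun m : M => m) (Facet.ofVec P ξ).corners := by
  rw [corners_ofVec b hξ]
  have h1 : LinearIndepOn R (fundWeight b) {i : b.support | 0 < P.coroot' i ξ} :=
    (linearIndependent_fundWeight b).linearIndepOn _
  exact h1.id_image

/-- a dominant vector is a combination of the corners of its facet -/
theorem eq_sum_corners (b : P.Base) (ξ : M) (hξ : ξ ∈ closedChamber b) [DecidableEq ι] :
    ξ = ∑ i ∈ (Finset.univ.filter fun i : b.support => 0 < P.coroot' i ξ),
      P.coroot' i ξ • fundWeight b i := by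
  conv_lhs => rw [eq_sum_fundWeight b ξ]
  rw [Finset.sum_filter]
  refine Finset.sum_congr rfl fun i _ => ?_
  split_ifs with h
  · rfl
  · have : P.coroot' i ξ = 0 := le_antisymm (not_lt.mp h) (hξ i i.2)
    rw [this, zero_smul]

end Corners

section Carrier

variable [Field R] [LinearOrder R] [IsStrictOrderedRing R]
variable [AddCommGroup M] [Module R M] [AddCommGroup N] [Module R N]
variable {P : RootPairing ι R M N}

/-- Membership in the facet of a dominant vector, in terms of the simple coroots. -/
theorem mem_carrier_ofVec_iff (b : P.Base) {ξ : M} (hξ : ξ ∈ closedChamber b) (η : M) :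
    η ∈ (Facet.ofVec P ξ).carrier ↔
      η ∈ closedChamber b ∧ ∀ j ∈ b.support, (0 < P.coroot' j η ↔ 0 < P.coroot' j ξ) := by
  constructor
  · intro hη
    have h1 : η ∈ closedChamber b :=
      closure_ofVec_subset_closedChamber b hξ (carrier_subset_closure _ hη)
    refine ⟨h1, fun j _ => ?_⟩
    have h2 : SignType.sign (P.coroot' j η) = SignType.sign (P.coroot' j ξ) := congrFun hη j
    rw [← sign_eq_one_iff, ← sign_eq_one_iff, h2]
  · rintro ⟨h1, h2⟩
    exact sgnVec_eq_of_closedChamber b h1 hξ h2

end Carrier

section Carrier2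

variable [Field R] [LinearOrder R] [IsStrictOrderedRing R]
variable [AddCommGroup M] [Module R M] [AddCommGroup N] [Module R N]
variable {P : RootPairing ι R M N} [P.IsRootSystem]

/-- adding a corner to a vector of the facet stays in the facet -/
theorem add_fundWeight_mem_carrier (b : P.Base) {ξ : M} (hξ : ξ ∈ closedChamber b)
    (i : b.support) (hi : 0 < P.coroot' i ξ) :
    ξ + fundWeight b i ∈ (Facet.ofVec P ξ).carrier := by
  classical
  rw [mem_carrier_ofVec_iff b hξ]
  have hval : ∀ j (hj : j ∈ b.support), P.coroot' j (ξ + fundWeight b i) =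
      P.coroot' j ξ + if (⟨j, hj⟩ : b.support) = i then 1 else 0 := by
    intro j hj
    rw [map_add]
    congr 1
    exact coroot'_fundWeight b i ⟨j, hj⟩
  refine ⟨fun j hj => ?_, fun j hj => ?_⟩
  · rw [hval j hj]
    have := hξ j hj
    split_ifs <;> linarith
  · rw [hval j hj]
    have h0 := hξ j hj
    split_ifs with hji
    · have : P.coroot' j ξ = P.coroot' i ξ := by rw [← hji]
      rw [this]
      constructor
      · intro _; exact hi
      · intro _; linarith
    · rw [add_zero]

/-- Vectors of the facet of a dominant vector are combinations of its corners. -/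
theorem carrier_ofVec_subset_span_corners (b : P.Base) {ξ : M} (hξ : ξ ∈ closedChamber b) :
    (Facet.ofVec P ξ).carrier ⊆ Submodule.span R (Facet.ofVec P ξ).corners := by
  classical
  intro η hη
  obtain ⟨h1, h2⟩ := (mem_carrier_ofVec_iff b hξ η).mp hη
  rw [SetLike.mem_coe, eq_sum_corners b η h1]
  refine Submodule.sum_mem _ fun i hi => Submodule.smul_mem _ _ (Submodule.subset_span ?_)
  rw [corners_ofVec b hξ]
  exact ⟨i, (h2 i i.2).mp (Finset.mem_filter.mp hi).2, rfl⟩

theorem span_carrier_ofVec (b : P.Base) {ξ : M} (hξ : ξ ∈ closedChamber b) :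
    Submodule.span R (Facet.ofVec P ξ).carrier = Submodule.span R (Facet.ofVec P ξ).corners := by
  apply le_antisymm
  · exact Submodule.span_le.mpr (carrier_ofVec_subset_span_corners b hξ)
  · rw [Submodule.span_le, corners_ofVec b hξ]
    rintro _ ⟨i, hi, rfl⟩
    have h1 : ξ + fundWeight b i ∈ Submodule.span R (Facet.ofVec P ξ).carrier :=
      Submodule.subset_span (add_fundWeight_mem_carrier b hξ i hi)
    have h2 : ξ ∈ Submodule.span R (Facet.ofVec P ξ).carrier :=
      Submodule.subset_span (mem_carrier_ofVec ξ)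
    have := Submodule.sub_mem _ h1 h2
    rwa [add_sub_cancel_left] at this

end Carrier2

end Groth.Agent.Lib.R2H7.RootCh
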