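import Mathlib
import Groth.Agent.Lib.R2H7RootChFacet

/-!
# Facets as positive combinations of their corners; adding/removing corners (helper7, round 2)
-/

set_option autoImplicit false
open Module
namespace Groth.Agent.Lib.R2H7.RootCh
open _root_.RootCh
universe u v w x
variable {ι : Type u} {R : Type v} {M : Type w} {N : Type x}

section PosComb

variable [Field R] [LinearOrder R] [IsStrictOrderedRing R]
variable [AddCommGroup M] [Module R M] [AddCommGroup N] [Module R N]
variable {P : RootPairing ι R M N} [P.IsRootSystem]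

/-- pairing of a finitely supported combination of fundamental weights of `b` with a simple
coroot -/
theorem coroot'_sum_of_support_subset (b : P.Base) (c : M →₀ R)
    (hc : (c.support : Set M) ⊆ Set.range (fundWeight b)) (j : b.support) :
    P.coroot' j (c.sum fun m r => r • m) = c (fundWeight b j) := by
  classical
  rw [Finsupp.sum, map_sum]
  rw [Finset.sum_eq_single (fundWeight b j)]
  · rw [map_smul, smul_eq_mul, coroot'_fundWeight_self, mul_one]
  · intro m hm hne
    obtain ⟨i, rfl⟩ := hc hm
    have hij : j ≠ i := fun h => hne (by rw [h])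
    rw [map_smul, smul_eq_mul, coroot'_fundWeight_of_ne b i j hij, mul_zero]
  · intro h
    rw [Finsupp.notMem_support_iff.mp h, zero_smul, map_zero]

/-- The facet of a dominant vector is the set of strictly positive combinations of its corners. -/
theorem carrier_ofVec_eq_setOf_pos_comb (b : P.Base) {ξ : M} (hξ : ξ ∈ closedChamber b) :
    (Facet.ofVec P ξ).carrier = {η : M | ∃ c : M →₀ R,
      (c.support : Set M) ⊆ (Facet.ofVec P ξ).corners ∧
      (∀ m ∈ (Facet.ofVec P ξ).corners, 0 < c m) ∧ c.sum (fun m r => r • m) = η} := by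
  classical
  have hinj := fundWeight_injective b (R := R)
  ext η
  constructor
  · intro hη
    obtain ⟨h1, h2⟩ := (mem_carrier_ofVec_iff b hξ η).mp hη
    -- coefficients
    let c₀ : b.support →₀ R := Finsupp.equivFunOnFinite.symm fun i => P.coroot' i η
    refine ⟨Finsupp.mapDomain (fundWeight b) c₀, ?_, ?_, ?_⟩
    · intro m hm
      have hm' := Finsupp.mapDomain_support hm
      obtain ⟨i, hi, rfl⟩ := Finset.mem_image.mp hm'
      rw [corners_ofVec b hξ]
      refine ⟨i, ?_, rfl⟩
      have hne : P.coroot' i η ≠ 0 := by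
        have := Finsupp.mem_support_iff.mp hi
        simpa [c₀] using this
      exact (h2 i i.2).mp (lt_of_le_of_ne (h1 i i.2) (Ne.symm hne))
    · intro m hm
      rw [corners_ofVec b hξ] at hm
      obtain ⟨i, hi, rfl⟩ := hm
      rw [Finsupp.mapDomain_apply hinj]
      change 0 < P.coroot' i η
      exact (h2 i i.2).mpr hi
    · rw [Finsupp.sum_mapDomain_index (by intro; simp) (by intro _ _ _; simp [add_smul])]
      rw [Finsupp.sum_fintype _ _ (by intro; simp)]
      exact (eq_sum_fundWeight b η).symm
  · rintro ⟨c, hc1, hc2, rfl⟩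
    rw [corners_ofVec b hξ] at hc1 hc2
    have hc1' : (c.support : Set M) ⊆ Set.range (fundWeight b) := fun m hm => by
      obtain ⟨i, -, rfl⟩ := hc1 hm
      exact ⟨i, rfl⟩
    have hval := coroot'_sum_of_support_subset b c hc1'
    have hzero : ∀ j : b.support, ¬ 0 < P.coroot' j ξ → c (fundWeight b j) = 0 := by
      intro j hj
      by_contra hne
      have : fundWeight b j ∈ (c.support : Set M) := Finsupp.mem_support_iff.mpr hne
      obtain ⟨i, hi, hij⟩ := hc1 this
      rw [hinj hij] at hi
      exact hj hi
    rw [mem_carrier_ofVec_iff b hξ]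
    refine ⟨fun j hj => ?_, fun j hj => ?_⟩
    · have := hval ⟨j, hj⟩
      change P.coroot' j _ = _ at this
      rw [this]
      by_cases hpos : 0 < P.coroot' j ξ
      · exact (hc2 _ ⟨⟨j, hj⟩, hpos, rfl⟩).le
      · rw [hzero ⟨j, hj⟩ hpos]
    · have := hval ⟨j, hj⟩
      change P.coroot' j _ = _ at this
      rw [this]
      constructor
      · intro hpos
        by_contra hneg
        rw [hzero ⟨j, hj⟩ hneg] at hpos
        exact lt_irrefl _ hpos
      · intro hpos
        exact hc2 _ ⟨⟨j, hj⟩, hpos, rfl⟩

end PosComb

section AddRemove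

variable [Field R] [LinearOrder R] [IsStrictOrderedRing R]
variable [AddCommGroup M] [Module R M] [AddCommGroup N] [Module R N]
variable {P : RootPairing ι R M N} [P.IsRootSystem]

theorem mem_baseCorners_iff (b : P.Base) (m : M) :
    m ∈ baseCorners b ↔ ∃ i : b.support, fundWeight b i = m := by
  constructor
  · rintro ⟨⟨b', j, rfl⟩, hm⟩
    exact exists_fundWeight_eq_of_mem_closedChamber b b' j hm
  · rintro ⟨i, rfl⟩
    exact ⟨⟨b, i, rfl⟩, fundWeight_mem_closedChamber b i⟩

/-- adding a fundamental weight of `b` to a `b`-dominant vector adds the corresponding corner -/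
theorem corners_ofVec_add_fundWeight (b : P.Base) {ξ : M} (hξ : ξ ∈ closedChamber b)
    (i : b.support) :
    (Facet.ofVec P (ξ + fundWeight b i)).corners =
      insert (fundWeight b i) (Facet.ofVec P ξ).corners := by
  classical
  have hdom : ξ + fundWeight b i ∈ closedChamber b := by
    intro j hj
    rw [map_add]
    exact add_nonneg (hξ j hj) (fundWeight_mem_closedChamber b i j hj)
  rw [corners_ofVec b hdom, corners_ofVec b hξ]
  ext m
  simp only [Set.mem_image, Set.mem_ofPred_eq, Set.mem_insert_iff]
  constructor
  · rintro ⟨j, hj, rfl⟩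
    by_cases hji : j = i
    · left; rw [hji]
    · right
      refine ⟨j, ?_, rfl⟩
      rwa [map_add, coroot'_fundWeight_of_ne b i j hji, add_zero] at hj
  · rintro (rfl | ⟨j, hj, rfl⟩)
    · refine ⟨i, ?_, rfl⟩
      rw [map_add, coroot'_fundWeight_self]
      have := hξ i i.2
      linarith
    · refine ⟨j, ?_, rfl⟩
      rw [map_add]
      exact add_pos_of_pos_of_nonneg hj (fundWeight_mem_closedChamber b i j j.2)

/-- removing the `ϖ_i`-component of a `b`-dominant vector removes the corresponding corner -/
theorem corners_ofVec_sub_fundWeight (b : P.Base) {ξ : M} (hξ : ξ ∈ closedChamber b)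
    (i : b.support) :
    (Facet.ofVec P (ξ - P.coroot' i ξ • fundWeight b i)).corners =
      (Facet.ofVec P ξ).corners \ {fundWeight b i} := by
  classical
  have hinj := fundWeight_injective b (R := R)
  have hval : ∀ j : b.support, P.coroot' j (ξ - P.coroot' i ξ • fundWeight b i) =
      if j = i then 0 else P.coroot' j ξ := by
    intro j
    rw [map_sub, map_smul, smul_eq_mul, coroot'_fundWeight]
    split_ifs with h
    · rw [h, mul_one, sub_self]
    · rw [mul_zero, sub_zero]
  have hdom : ξ - P.coroot' i ξ • fundWeight b i ∈ closedChamber b := by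
    intro j hj
    have := hval ⟨j, hj⟩
    change P.coroot' j _ = _ at this
    rw [this]
    split_ifs
    · exact le_refl _
    · exact hξ j hj
  rw [corners_ofVec b hdom, corners_ofVec b hξ]
  ext m
  simp only [Set.mem_image, Set.mem_ofPred_eq, Set.mem_sdiff, Set.mem_singleton_iff]
  constructor
  · rintro ⟨j, hj, rfl⟩
    rw [hval j] at hj
    split_ifs at hj with hji
    · exact absurd hj (lt_irrefl _)
    · exact ⟨⟨j, hj, rfl⟩, fun h => hji (hinj h)⟩
  · rintro ⟨⟨j, hj, rfl⟩, hne⟩
    refine ⟨j, ?_, rfl⟩
    rw [hval j, if_neg (fun h => hne (by rw [h]))]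
    exact hj

end AddRemove

end Groth.Agent.Lib.R2H7.RootCh
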