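import Mathlib
import Groth.Agent.Lib.R2H7RootChFacet2

/-!
# Duality between facets of a root system and of its dual (helper7, round 2)

The polarization `M → N` attached to the canonical invariant form carries the sign vector of a
vector (read against the coroots) to the same sign vector read against the roots; fundamental
weights go to positive multiples of the corresponding fundamental coweights; the correspondence
`RootCh.Corr` is the graph of a function on fundamental weights.
-/

set_option autoImplicit false
open Module
namespace Groth.Agent.Lib.R2H7.RootCh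
open _root_.RootCh
universe u v w x
variable {ι : Type u} {R : Type v} {M : Type w} {N : Type x}

section Pol

variable [Field R] [LinearOrder R] [IsStrictOrderedRing R]
variable [AddCommGroup M] [Module R M] [AddCommGroup N] [Module R N] [Fintype ι]
variable (P : RootPairing ι R M N)

/-- the squared length of a root for the canonical form -/
noncomputable def q (k : ι) : R := P.RootForm (P.root k) (P.root k)

theorem q_pos (k : ι) : 0 < q P k :=
  P.rootForm_pos_of_ne_zero (Submodule.subset_span ⟨k, rfl⟩) (P.ne_zero k)

/-- `2⟪α_k, Pol ξ⟫ = q_k ⟪ξ, α̌_k⟫`. -/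
theorem two_mul_root'_polarization (ξ : M) (k : ι) :
    2 * P.root' k (P.Polarization ξ) = q P k * P.coroot' k ξ := by
  have h1 : P.root' k (P.Polarization ξ) = P.RootForm ξ (P.root k) :=
    P.toLinearMap_apply_apply_Polarization ξ (P.root k)
  have h2 : P.RootForm ξ (P.root k) = P.RootForm (P.root k) ξ := by
    have := P.rootForm_symmetric
    rw [LinearMap.isSymm_def] at this
    exact this ξ (P.root k)
  have h3 : P.RootForm (P.root k) ξ = P.toLinearMap ξ (P.Polarization (P.root k)) :=
    (P.toLinearMap_apply_apply_Polarization (P.root k) ξ).symm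
  have h4 := congrArg (P.toLinearMap ξ) (P.rootForm_self_smul_coroot k)
  rw [map_smul, map_nsmul, smul_eq_mul, nsmul_eq_mul] at h4
  rw [h1, h2, h3]
  change _ = P.RootForm (P.root k) (P.root k) * P.toLinearMap ξ (P.coroot k)
  rw [h4]
  norm_num

theorem sign_root'_polarization (ξ : M) (k : ι) :
    SignType.sign (P.root' k (P.Polarization ξ)) = SignType.sign (P.coroot' k ξ) := by
  have h := two_mul_root'_polarization P ξ k
  have h2 : SignType.sign (2 * P.root' k (P.Polarization ξ)) =
      SignType.sign (q P k * P.coroot' k ξ) := by rw [h]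
  rw [sign_mul, sign_mul, sign_pos (q_pos P k), sign_pos (two_pos), one_mul, one_mul] at h2
  exact h2

/-- The polarization of a vector of a facet lies in the dual facet. -/
theorem cosgnVec_polarization (ξ : M) : cosgnVec P (P.Polarization ξ) = sgnVec P ξ :=
  funext fun k => sign_root'_polarization P ξ k

theorem Facet.dualCarrier_nonempty (F : Facet P) : F.dualCarrier.Nonempty := by
  obtain ⟨ξ, hξ⟩ := F.exists_sgnVec_eq
  exact ⟨P.Polarization ξ, (cosgnVec_polarization P ξ).trans hξ⟩

end Pol

section Coweights

variable [Field R] [LinearOrder R] [IsStrictOrderedRing R]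
variable [AddCommGroup M] [Module R M] [AddCommGroup N] [Module R N] [Fintype ι]
variable {P : RootPairing ι R M N} [P.IsRootSystem]

theorem root'_fundCoweight [DecidableEq ι] (b : P.Base) (i j : b.support) :
    P.root' j (fundCoweight b i) = if j = i then 1 else 0 :=
  coroot'_fundWeight (P := P.flip) b.flip i j

/-- A vector of `N` is determined by its pairings with the simple roots of a base. -/
theorem eq_of_forall_root'_eq (b : P.Base) {x y : N}
    (h : ∀ i : b.support, P.root' i x = P.root' i y) : x = y :=
  eq_of_forall_coroot'_eq (P := P.flip) b.flip h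

/-- `2 Pol(ϖ_i) = q_i ϖ̌_i`. -/
theorem two_smul_polarization_fundWeight (b : P.Base) (i : b.support) :
    (2 : R) • P.Polarization (fundWeight b i) = q P i • fundCoweight b i := by
  classical
  apply eq_of_forall_root'_eq b
  intro j
  rw [map_smul, map_smul, smul_eq_mul, smul_eq_mul, two_mul_root'_polarization,
    coroot'_fundWeight, root'_fundCoweight]
  split_ifs with h
  · rw [h]
  · simp

/-- `q_k ⟪ϖ_i, α̌_k⟫ = q_i ⟪α_k, ϖ̌_i⟫`. -/
theorem q_mul_coroot'_fundWeight (b : P.Base) (i : b.support) (k : ι) :
    q P k * P.coroot' k (fundWeight b i) = q P i * P.root' k (fundCoweight b i) := by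
  have := congrArg (P.root' k) (two_smul_polarization_fundWeight b i)
  rw [map_smul, map_smul, smul_eq_mul, smul_eq_mul, two_mul_root'_polarization] at this
  exact this

theorem sign_coroot'_fundWeight (b : P.Base) (i : b.support) (k : ι) :
    SignType.sign (P.coroot' k (fundWeight b i)) = SignType.sign (P.root' k (fundCoweight b i)) := by
  have h := congrArg SignType.sign (q_mul_coroot'_fundWeight b i k)
  rwa [sign_mul, sign_mul, sign_pos (q_pos P k), sign_pos (q_pos P i), one_mul, one_mul] at h

theorem exists_nat_root'_fundCoweight (b : P.Base) (i : b.support) (k : ι) :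
    ∃ n : ℕ, P.root' k (fundCoweight b i) = n ∨ P.root' k (fundCoweight b i) = -(n : R) :=
  exists_nat_coroot'_fundWeight (P := P.flip) b.flip i k

/-- The correspondence between fundamental weights and fundamental coweights is well defined. -/
theorem fundCoweight_eq_of_fundWeight_eq (b b' : P.Base) (i : b.support) (i' : b'.support)
    (h : fundWeight b i = fundWeight b' i') : fundCoweight b i = fundCoweight b' i' := by
  classical
  have e1 := two_smul_polarization_fundWeight b i
  have e2 := two_smul_polarization_fundWeight b' i'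
  rw [h] at e1
  have e : q P i • fundCoweight b i = q P i' • fundCoweight b' i' := e1.symm.trans e2
  have hq := q_pos P (i : ι)
  have hq' := q_pos P (i' : ι)
  -- pair with `α_{i'}` and `α_i`
  have p1 := congrArg (P.root' i') e
  have p2 := congrArg (P.root' i) e
  rw [map_smul, map_smul, smul_eq_mul, smul_eq_mul, root'_fundCoweight_self, mul_one] at p1
  rw [map_smul, map_smul, smul_eq_mul, smul_eq_mul, root'_fundCoweight_self, mul_one] at p2
  obtain ⟨n, hn⟩ := exists_nat_root'_fundCoweight b i (i' : ι)
  obtain ⟨m, hm⟩ := exists_nat_root'_fundCoweight b' i' (i : ι)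
  have hn' : P.root' i' (fundCoweight b i) = n := by
    rcases hn with hn | hn
    · exact hn
    · rw [hn] at p1
      have : q P i * -(n : R) ≤ 0 :=
        mul_nonpos_of_nonneg_of_nonpos hq.le (neg_nonpos.mpr (Nat.cast_nonneg _))
      linarith
  have hm' : P.root' i (fundCoweight b' i') = m := by
    rcases hm with hm | hm
    · exact hm
    · rw [hm] at p2
      have : q P i' * -(m : R) ≤ 0 :=
        mul_nonpos_of_nonneg_of_nonpos hq'.le (neg_nonpos.mpr (Nat.cast_nonneg _))
      linarith
  rw [hn'] at p1
  rw [hm'] at p2
  have hnm : (n : R) * m = 1 := by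
    have h3 : q P i * ((n : R) * m) = q P i := by
      calc q P i * ((n : R) * m) = (q P i * n) * m := by ring
        _ = q P i' * m := by rw [p1]
        _ = q P i := p2.symm
    have := mul_left_cancel₀ hq.ne' (h3.trans (mul_one _).symm)
    exact this
  have hnm' : n * m = 1 := by exact_mod_cast hnm
  have hn1 : n = 1 := Nat.eq_one_of_mul_eq_one_right hnm'
  rw [hn1, Nat.cast_one, mul_one] at p1
  rw [p1] at e
  exact smul_right_injective N hq'.ne' e

/-- `y` corresponds to the fundamental weight `ϖ_i` of `b` iff it is the fundamental coweight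
`ϖ̌_i` of `b`. -/
theorem corr_fundWeight_iff (b : P.Base) (i : b.support) (y : N) :
    Corr P (fundWeight b i) y ↔ y = fundCoweight b i := by
  constructor
  · rintro ⟨b', i', h1, rfl⟩
    exact fundCoweight_eq_of_fundWeight_eq b' b i' i h1
  · rintro rfl
    exact ⟨b, i, rfl, rfl⟩

end Coweights

section DualCorners

variable [Field R] [LinearOrder R] [IsStrictOrderedRing R]
variable [AddCommGroup M] [Module R M] [AddCommGroup N] [Module R N] [Fintype ι]
variable {P : RootPairing ι R M N} [P.IsRootSystem]

theorem root'_polarization_pos_iff (ξ : M) (k : ι) :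
    0 < P.root' k (P.Polarization ξ) ↔ 0 < P.coroot' k ξ := by
  rw [← sign_eq_one_iff, ← sign_eq_one_iff, sign_root'_polarization]

theorem root'_polarization_nonneg_iff (ξ : M) (k : ι) :
    0 ≤ P.root' k (P.Polarization ξ) ↔ 0 ≤ P.coroot' k ξ := by
  rw [← mul_nonneg_iff_of_pos_left (two_pos : (0 : R) < 2), two_mul_root'_polarization,
    mul_nonneg_iff_of_pos_left (q_pos P k)]

theorem polarization_mem_closedChamber_flip (b : P.Base) {ξ : M} (hξ : ξ ∈ closedChamber b) :
    P.Polarization ξ ∈ closedChamber (P := P.flip) b.flip :=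
  fun i hi => (root'_polarization_nonneg_iff ξ i).mpr (hξ i hi)

/-- The dual corners of the facet of a vector are the corners of the facet of its polarization in
the dual root system. -/
theorem dualCorners_ofVec (ξ : M) :
    (Facet.ofVec P ξ).dualCorners = (Facet.ofVec P.flip (P.Polarization ξ)).corners := by
  ext y
  constructor
  · rintro ⟨h1, h2⟩
    refine ⟨h1, fun i => ?_⟩
    have := h2 i
    change cosgnVec P y i = 0 ∨ cosgnVec P y i = sgnVec P ξ i at this
    rw [← cosgnVec_polarization] at this
    exact this
  · rintro ⟨h1, h2⟩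
    refine ⟨h1, fun i => ?_⟩
    have := h2 i
    change cosgnVec P y i = 0 ∨ cosgnVec P y i = cosgnVec P (P.Polarization ξ) i at this
    rw [cosgnVec_polarization] at this
    exact this

/-- The dual corners of the facet of a dominant vector `ξ` are the fundamental coweights `ϖ̌_i` of
`b` with `⟪ξ, α̌_i⟫ > 0`. -/
theorem dualCorners_ofVec_eq (b : P.Base) {ξ : M} (hξ : ξ ∈ closedChamber b) :
    (Facet.ofVec P ξ).dualCorners = fundCoweight b '' {i : b.support | 0 < P.coroot' i ξ} := by
  rw [dualCorners_ofVec, corners_ofVec (P := P.flip) b.flip (polarization_mem_closedChamber_flip b hξ)]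
  ext y
  constructor
  · rintro ⟨i, hi, rfl⟩
    exact ⟨i, (root'_polarization_pos_iff (P := P) ξ i).mp hi, rfl⟩
  · rintro ⟨i, hi, rfl⟩
    exact ⟨i, (root'_polarization_pos_iff (P := P) ξ i).mpr hi, rfl⟩

theorem dualCorners_ofVec_eq_setOf_corr (b : P.Base) {ξ : M} (hξ : ξ ∈ closedChamber b) :
    (Facet.ofVec P ξ).dualCorners = {y : N | ∃ m ∈ (Facet.ofVec P ξ).corners, Corr P m y} := by
  rw [dualCorners_ofVec_eq b hξ, corners_ofVec b hξ]
  ext y
  constructor
  · rintro ⟨i, hi, rfl⟩
    exact ⟨fundWeight b i, ⟨i, hi, rfl⟩, (corr_fundWeight_iff b i _).mpr rfl⟩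
  · rintro ⟨_, ⟨i, hi, rfl⟩, hy⟩
    exact ⟨i, hi, ((corr_fundWeight_iff b i y).mp hy).symm⟩

end DualCorners

end Groth.Agent.Lib.R2H7.RootCh
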