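import Mathlib
import Groth.Agent.Lib.R2H7RootChDual

/-!
# Parabolic sets of roots of facets (helper7, round 2)
-/

set_option autoImplicit false
open Module
namespace Groth.Agent.Lib.R2H7.RootCh
open _root_.RootCh
universe u v w x
variable {ι : Type u} {R : Type v} {M : Type w} {N : Type x}

section Neg

variable [CommRing R] [AddCommGroup M] [Module R M] [AddCommGroup N] [Module R N]
variable (P : RootPairing ι R M N)

/-- the index of the opposite root -/
def negIdx (k : ι) : ι := P.reflectionPerm k k

theorem root_negIdx (k : ι) : P.root (negIdx P k) = -P.root k := by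
  rw [negIdx, P.root_reflectionPerm, P.reflection_apply_self]

theorem coroot_negIdx (k : ι) : P.coroot (negIdx P k) = -P.coroot k := by
  rw [negIdx, P.coroot_reflectionPerm, P.coreflection_apply_self]

theorem root'_negIdx (k : ι) (y : N) : P.root' (negIdx P k) y = -P.root' k y := by
  change P.toLinearMap (P.root (negIdx P k)) y = -P.toLinearMap (P.root k) y
  rw [root_negIdx, map_neg, LinearMap.neg_apply]

theorem coroot'_negIdx (k : ι) (ξ : M) : P.coroot' (negIdx P k) ξ = -P.coroot' k ξ := by
  change P.toLinearMap ξ (P.coroot (negIdx P k)) = -P.toLinearMap ξ (P.coroot k)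
  rw [coroot_negIdx, map_neg]

theorem negIdx_negIdx (k : ι) : negIdx P (negIdx P k) = k := by
  apply P.root.injective
  rw [root_negIdx, root_negIdx, neg_neg]

end Neg

section Parab

variable [Field R] [LinearOrder R] [IsStrictOrderedRing R]
variable [AddCommGroup M] [Module R M] [AddCommGroup N] [Module R N]
variable {P : RootPairing ι R M N}

theorem mem_parab_ofVec_iff (ξ : M) (k : ι) :
    k ∈ (Facet.ofVec P ξ).parab ↔ 0 ≤ P.coroot' k ξ := by
  change SignType.sign (P.coroot' k ξ) ≠ -1 ↔ _
  rw [Ne, sign_eq_neg_one_iff, not_lt]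

end Parab

section Parab2

variable [Field R] [LinearOrder R] [IsStrictOrderedRing R]
variable [AddCommGroup M] [Module R M] [AddCommGroup N] [Module R N] [Fintype ι]
variable {P : RootPairing ι R M N} [P.IsRootSystem]

/-- The corners of the facet of `ξ` are the fundamental weights whose corresponding fundamental
coweight is non-negative on the parabolic set of the facet. -/
theorem corners_ofVec_eq_setOf_nonneg_on_parab (b : P.Base) {ξ : M} (hξ : ξ ∈ closedChamber b) :
    (Facet.ofVec P ξ).corners = {m : M | m ∈ fundWeights P ∧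
      ∀ y : N, Corr P m y → ∀ k ∈ (Facet.ofVec P ξ).parab, 0 ≤ P.root' k y} := by
  ext m
  constructor
  · intro hm
    have hm' := hm
    rw [corners_ofVec b hξ] at hm'
    obtain ⟨i, hi, rfl⟩ := hm'
    refine ⟨hm.1, fun y hy k hk => ?_⟩
    rw [(corr_fundWeight_iff b i y).mp hy]
    rw [mem_parab_ofVec_iff] at hk
    by_contra hneg
    rw [not_le] at hneg
    have h1 : SignType.sign (P.coroot' k (fundWeight b i)) = -1 := by
      rw [sign_coroot'_fundWeight, sign_neg hneg]
    have h2 := hm.2 k
    change SignType.sign (P.coroot' k (fundWeight b i)) = 0 ∨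
      SignType.sign (P.coroot' k (fundWeight b i)) = SignType.sign (P.coroot' k ξ) at h2
    rw [h1] at h2
    rcases h2 with h2 | h2
    · exact absurd h2 (by decide)
    · have := sign_eq_neg_one_iff.mp h2.symm
      exact absurd hk (not_le.mpr this)
  · rintro ⟨⟨b', i', rfl⟩, H⟩
    refine ⟨⟨b', i', rfl⟩, fun k => ?_⟩
    have Hy := H (fundCoweight b' i') ⟨b', i', rfl, rfl⟩
    change SignType.sign (P.coroot' k (fundWeight b' i')) = 0 ∨
      SignType.sign (P.coroot' k (fundWeight b' i')) = SignType.sign (P.coroot' k ξ)
    rw [sign_coroot'_fundWeight]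
    have hk1 : 0 ≤ P.coroot' k ξ → 0 ≤ P.root' k (fundCoweight b' i') := fun h =>
      Hy k ((mem_parab_ofVec_iff ξ k).mpr h)
    have hk2 : P.coroot' k ξ ≤ 0 → P.root' k (fundCoweight b' i') ≤ 0 := fun h => by
      have h' : 0 ≤ P.coroot' (negIdx P k) ξ := by rw [coroot'_negIdx]; linarith
      have := Hy (negIdx P k) ((mem_parab_ofVec_iff ξ _).mpr h')
      rw [root'_negIdx] at this
      linarith
    rcases lt_trichotomy (P.coroot' k ξ) 0 with h | h | h
    · rw [sign_neg h]
      rcases (hk2 h.le).eq_or_lt with h0 | h0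
      · left; rw [h0, sign_zero]
      · right; exact sign_neg h0
    · left
      have : P.root' k (fundCoweight b' i') = 0 := le_antisymm (hk2 h.le) (hk1 h.ge)
      rw [this, sign_zero]
    · rw [sign_pos h]
      rcases (hk1 h.le).eq_or_lt with h0 | h0
      · left; rw [← h0, sign_zero]
      · right; exact sign_pos h0

end Parab2

end Groth.Agent.Lib.R2H7.RootCh
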