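import Mathlib
import Groth.Agent.Lib.R2H7RootChParab

/-!
# The sum of the roots of the parabolic set of a facet lies in the facet (helper7, round 2)
-/

set_option autoImplicit false
open Module
namespace Groth.Agent.Lib.R2H7.RootCh
open _root_.RootCh
universe u v w x
variable {ι : Type u} {R : Type v} {M : Type w} {N : Type x}

section Sym

variable [Field R] [LinearOrder R] [IsStrictOrderedRing R]
variable [AddCommGroup M] [Module R M] [AddCommGroup N] [Module R N] [Fintype ι]
variable (P : RootPairing ι R M N)

/-- `q_k ⟪α_j, α̌_k⟫ = q_j ⟪α_k, α̌_j⟫`. -/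
theorem q_mul_pairing (j k : ι) : q P k * P.pairing j k = q P j * P.pairing k j := by
  have h1 := two_mul_root'_polarization P (P.root j) k
  have h2 := congrArg (P.root' k) (P.rootForm_self_smul_coroot j)
  rw [map_smul, map_nsmul, smul_eq_mul, nsmul_eq_mul] at h2
  change q P j * P.pairing k j = _ at h2
  change _ = q P k * P.pairing j k at h1
  rw [← h1, h2]
  norm_num

theorem pairing_pos_of_pairing_pos {j k : ι} (h : 0 < P.pairing j k) : 0 < P.pairing k j := by
  have h1 := q_mul_pairing P j k
  have h2 : 0 < q P k * P.pairing j k := mul_pos (q_pos P k) h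
  rw [h1] at h2
  exact (pos_iff_pos_of_mul_pos h2).mp (q_pos P j)

end Sym

section Sum

variable [Field R] [LinearOrder R] [IsStrictOrderedRing R]
variable [AddCommGroup M] [Module R M] [AddCommGroup N] [Module R N] [Fintype ι]
variable (P : RootPairing ι R M N)

theorem coroot'_reflectionPerm_apply (j k : ι) (ξ : M) :
    P.coroot' (P.reflectionPerm j k) ξ = P.coroot' k ξ - P.pairing j k * P.coroot' j ξ := by
  rw [P.coroot'_reflectionPerm, LinearMap.comp_apply, LinearEquiv.coe_coe, P.reflection_apply,
    map_sub, map_smul, smul_eq_mul, mul_comm]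
  rfl

theorem pairing_reflectionPerm_left (j k : ι) :
    P.pairing (P.reflectionPerm j k) j = -P.pairing k j := by
  change P.toLinearMap (P.root (P.reflectionPerm j k)) (P.coroot j) = _
  rw [P.root_reflectionPerm, P.reflection_apply_root, map_sub, map_smul, LinearMap.sub_apply,
    LinearMap.smul_apply, smul_eq_mul]
  change P.pairing k j - P.pairing k j * P.pairing j j = _
  rw [P.pairing_same]
  ring

open Classical in
/-- Pairing of the sum of the roots non-negative on `ξ` with a coroot. -/
theorem coroot'_sum_nonneg_roots (ξ : M) (j : ι) :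
    (P.coroot' j ξ = 0 →
      P.coroot' j (∑ k ∈ Finset.univ.filter (fun k => 0 ≤ P.coroot' k ξ), P.root k) = 0) ∧
    (0 < P.coroot' j ξ →
      0 < P.coroot' j (∑ k ∈ Finset.univ.filter (fun k => 0 ≤ P.coroot' k ξ), P.root k)) := by
  set S := Finset.univ.filter (fun k => 0 ≤ P.coroot' k ξ) with hS
  set τ := P.reflectionPerm j with hτ
  have hsum : P.coroot' j (∑ k ∈ S, P.root k) = ∑ k ∈ S, P.pairing k j := by
    rw [map_sum]; rfl
  have hmemS : ∀ k, k ∈ S ↔ 0 ≤ P.coroot' k ξ := fun k => by
    rw [hS, Finset.mem_filter]; exact ⟨fun h => h.2, fun h => ⟨Finset.mem_univ _, h⟩⟩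
  have hττ : ∀ k, τ (τ k) = k := fun k => P.reflectionPerm_self j k
  have hpτ : ∀ k, P.pairing (τ k) j = -P.pairing k j := fun k => pairing_reflectionPerm_left P j k
  -- split the sum
  rw [hsum, ← Finset.sum_filter_add_sum_filter_not S (fun k => τ k ∈ S)]
  have hfirst : ∑ k ∈ S.filter (fun k => τ k ∈ S), P.pairing k j = 0 := by
    apply Finset.sum_involution (fun k _ => τ k)
    · intro k _; rw [hpτ]; ring
    · intro k _ hne hfix
      apply hne
      have := hpτ k
      rw [hfix] at this
      linarith
    · intro k hk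
      rw [Finset.mem_filter] at hk ⊢
      exact ⟨hk.2, by rw [hττ]; exact hk.1⟩
    · intro k _; exact hττ k
  rw [hfirst, zero_add]
  constructor
  · intro h0
    apply Finset.sum_eq_zero
    intro k hk
    rw [Finset.mem_filter] at hk
    exfalso
    apply hk.2
    rw [hmemS, hτ, coroot'_reflectionPerm_apply, h0, mul_zero, sub_zero]
    exact (hmemS k).mp hk.1
  · intro hpos
    have hterm : ∀ k ∈ S.filter (fun k => ¬ τ k ∈ S), 0 < P.pairing k j := by
      intro k hk
      rw [Finset.mem_filter] at hk
      have h1 := (hmemS k).mp hk.1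
      have h2 : P.coroot' (τ k) ξ < 0 := not_le.mp (fun h => hk.2 ((hmemS _).mpr h))
      rw [hτ, coroot'_reflectionPerm_apply] at h2
      have h3 : 0 < P.pairing j k * P.coroot' j ξ := by linarith
      have h4 : 0 < P.pairing j k := (pos_iff_pos_of_mul_pos h3).mpr hpos
      exact pairing_pos_of_pairing_pos P h4
    apply Finset.sum_pos hterm
    refine ⟨j, ?_⟩
    rw [Finset.mem_filter]
    refine ⟨(hmemS j).mpr hpos.le, fun h => ?_⟩
    have := (hmemS _).mp h
    rw [hτ, coroot'_reflectionPerm_apply, P.pairing_same] at this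
    linarith

open Classical in
/-- The sum of the roots that are non-negative on `ξ` lies in the facet of `ξ`. -/
theorem sgnVec_sum_nonneg_roots (ξ : M) :
    sgnVec P (∑ k ∈ Finset.univ.filter (fun k => 0 ≤ P.coroot' k ξ), P.root k) = sgnVec P ξ := by
  funext j
  rw [sgnVec_apply, sgnVec_apply]
  rcases lt_trichotomy (P.coroot' j ξ) 0 with h | h | h
  · have h' : 0 < P.coroot' (negIdx P j) ξ := by rw [coroot'_negIdx]; linarith
    have := (coroot'_sum_nonneg_roots P ξ (negIdx P j)).2 h'
    rw [coroot'_negIdx] at this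
    rw [sign_neg h, sign_neg (by linarith)]
  · rw [h, (coroot'_sum_nonneg_roots P ξ j).1 h]
  · rw [sign_pos h, sign_pos ((coroot'_sum_nonneg_roots P ξ j).2 h)]

end Sum

end Groth.Agent.Lib.R2H7.RootCh
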