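import Mathlib
import Groth.Agent.Lib.R2H7RootChSum

/-!
# Parabolic sets of roots are the parabolic sets of facets (helper7, round 2)

For a parabolic set `S` (closed, `S ∪ -S` everything) let `S₊ = S \ (-S)`; the sum `ξ` of the roots
of `S₊` satisfies `⟪ξ, α̌_k⟫ ≥ 0 ↔ k ∈ S`.  The proof only uses root strings.
-/

set_option autoImplicit false
open Module
namespace Groth.Agent.Lib.R2H7.RootCh
open _root_.RootCh
universe u v w x
variable {ι : Type u} {R : Type v} {M : Type w} {N : Type x}

section Strings

variable [Field R] [LinearOrder R] [IsStrictOrderedRing R]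
variable [AddCommGroup M] [Module R M] [AddCommGroup N] [Module R N] [Finite ι]
variable (P : RootPairing ι R M N) [P.IsCrystallographic] [P.IsReduced]

/-- the "unipotent part" of a set of roots -/
def plusPart (S : Set ι) : Set ι := {k | k ∈ S ∧ negIdx P k ∉ S}

variable {P}

theorem plusPart_ideal {S : Set ι} (hS : IsParabolicSubset P S) {a c k : ι}
    (ha : a ∈ plusPart P S) (hc : c ∈ S) (hk : P.root k = P.root a + P.root c) :
    k ∈ plusPart P S := by
  refine ⟨hS.1 a c k ha.1 hc hk, fun hneg => ha.2 ?_⟩
  refine hS.1 (negIdx P k) c (negIdx P a) hneg hc ?_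
  rw [root_negIdx, root_negIdx, hk]
  abel

/-- moving along a root string in the direction of a root of `S` stays in the plus part -/
theorem plusPart_string {S : Set ι} (hS : IsParabolicSubset P S) {j k : ι}
    (hj : j ∈ S) (hk : k ∈ plusPart P S) (m : ℕ) (l : ι)
    (hl : P.root l = P.root k + m • P.root j) : l ∈ plusPart P S := by
  have : IsAddTorsionFree M := .of_isTorsionFree R M
  by_cases hli : LinearIndependent R ![P.root j, P.root k]
  · -- induct along the chain
    have hchain : ∀ t : ℕ, t ≤ m → ∀ l' : ι, P.root l' = P.root k + t • P.root j →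
        l' ∈ plusPart P S := by
      intro t
      induction t with
      | zero =>
        intro _ l' hl'
        rw [zero_smul, add_zero] at hl'
        rw [P.root.injective hl']
        exact hk
      | succ t ih =>
        intro ht l' hl'
        have hmem : P.root k + t • P.root j ∈ Set.range P.root := by
          rw [RootPairing.root_add_nsmul_mem_range_iff_le_chainTopCoeff hli]
          have : P.root k + m • P.root j ∈ Set.range P.root := ⟨l, hl⟩
          rw [RootPairing.root_add_nsmul_mem_range_iff_le_chainTopCoeff hli] at this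
          omega
        obtain ⟨l'', hl''⟩ := hmem
        have h1 := ih (by omega) l'' hl''
        refine plusPart_ideal hS h1 hj ?_
        rw [hl', hl'', succ_nsmul, add_assoc]
    exact hchain m le_rfl l hl
  · rcases RootPairing.IsReduced.eq_or_eq_neg j k hli with h | h
    · -- `k = j`
      have hkj : k = j := (P.root.injective h).symm
      rcases Nat.eq_zero_or_pos m with hm | hm
      · rw [hm, zero_smul, add_zero] at hl
        rw [P.root.injective hl]; exact hk
      · exfalso
        have h2 : P.root l = (m + 1) • P.root j := by rw [hl, hkj, succ_nsmul, add_comm]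
        have : (m + 1).AtLeastTwo := ⟨by omega⟩
        exact P.nsmul_notMem_range_root (n := m + 1) (i := j) ⟨l, h2⟩
    · -- `k = -j`: impossible
      exfalso
      apply hk.2
      have : negIdx P k = j := by
        apply P.root.injective
        rw [root_negIdx, h]
      rw [this]; exact hj

end Strings

section Involution

variable [Field R] [LinearOrder R] [IsStrictOrderedRing R]
variable [AddCommGroup M] [Module R M] [AddCommGroup N] [Module R N] [Fintype ι]
variable (P : RootPairing ι R M N)

open Classical in
/-- the part of a sum of pairings `⟪α_k, α̌_j⟫` over `k ∈ T` that is stable under `s_j` cancels -/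
theorem sum_pairing_eq_sum_filter (T : Finset ι) (j : ι) :
    ∑ k ∈ T, P.pairing k j = ∑ k ∈ T.filter (fun k => P.reflectionPerm j k ∉ T), P.pairing k j := by
  have hττ : ∀ k, P.reflectionPerm j (P.reflectionPerm j k) = k := fun k => P.reflectionPerm_self j k
  have hpτ : ∀ k, P.pairing (P.reflectionPerm j k) j = -P.pairing k j := fun k =>
    pairing_reflectionPerm_left P j k
  rw [← Finset.sum_filter_add_sum_filter_not T (fun k => P.reflectionPerm j k ∈ T)]
  have hfirst : ∑ k ∈ T.filter (fun k => P.reflectionPerm j k ∈ T), P.pairing k j = 0 := by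
    apply Finset.sum_involution (fun k _ => P.reflectionPerm j k)
    · intro k _; rw [hpτ]; ring
    · intro k _ hne hfix
      apply hne
      have := hpτ k
      rw [hfix] at this
      linarith
    · intro k hk
      rw [Finset.mem_filter] at hk ⊢
      exact ⟨hk.2, by rw [hττ]; exact hk.1⟩
    · intro k _; exact hττ k
  rw [hfirst, zero_add]

end Involution

section Main

variable [Field R] [LinearOrder R] [IsStrictOrderedRing R]
variable [AddCommGroup M] [Module R M] [AddCommGroup N] [Module R N] [Fintype ι]
variable {P : RootPairing ι R M N} [P.IsCrystallographic] [P.IsReduced]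

theorem reflectionPerm_mem_plusPart {S : Set ι} (hS : IsParabolicSubset P S) {j k : ι}
    (hj : j ∈ S) (hk : k ∈ plusPart P S) (hn : P.pairing k j ≤ 0) :
    P.reflectionPerm j k ∈ plusPart P S := by
  set z := P.pairingIn ℤ k j with hz
  have hzR : ((z : ℤ) : R) = P.pairing k j := by
    have := P.algebraMap_pairingIn ℤ k j
    simpa using this
  have hz0 : z ≤ 0 := by
    have : ((z : ℤ) : R) ≤ 0 := hzR ▸ hn
    exact_mod_cast this
  obtain ⟨m, hm⟩ : ∃ m : ℕ, z = -(m : ℤ) := ⟨(-z).toNat, by omega⟩
  refine plusPart_string hS hj hk m _ ?_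
  rw [P.root_reflectionPerm, RootPairing.reflection_apply_root' ℤ, ← hz, hm, neg_smul, sub_neg_eq_add,
    natCast_zsmul]

open Classical in
/-- the sum of the roots of the plus part -/
noncomputable def plusSum (P : RootPairing ι R M N) (S : Set ι) : M :=
  ∑ k ∈ Finset.univ.filter (fun k => k ∈ plusPart P S), P.root k

open Classical in
theorem coroot'_plusSum (S : Set ι) (j : ι) :
    P.coroot' j (plusSum P S) =
      ∑ k ∈ Finset.univ.filter (fun k => k ∈ plusPart P S), P.pairing k j := by
  rw [plusSum, map_sum]; rfl

theorem coroot'_plusSum_pos {S : Set ι} (hS : IsParabolicSubset P S) {j : ι}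
    (hj : j ∈ plusPart P S) : 0 < P.coroot' j (plusSum P S) := by
  classical
  rw [coroot'_plusSum, sum_pairing_eq_sum_filter]
  apply Finset.sum_pos
  · intro k hk
    rw [Finset.mem_filter, Finset.mem_filter] at hk
    by_contra hneg
    rw [not_lt] at hneg
    apply hk.2
    rw [Finset.mem_filter]
    exact ⟨Finset.mem_univ _, reflectionPerm_mem_plusPart hS hj.1 hk.1.2 hneg⟩
  · refine ⟨j, ?_⟩
    rw [Finset.mem_filter, Finset.mem_filter]
    refine ⟨⟨Finset.mem_univ _, hj⟩, fun h => ?_⟩
    rw [Finset.mem_filter] at h
    exact hj.2 h.2.1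

theorem coroot'_plusSum_eq_zero {S : Set ι} (hS : IsParabolicSubset P S) {j : ι}
    (hj : j ∈ S) (hj' : negIdx P j ∈ S) : P.coroot' j (plusSum P S) = 0 := by
  classical
  rw [coroot'_plusSum, sum_pairing_eq_sum_filter]
  apply Finset.sum_eq_zero
  intro k hk
  exfalso
  rw [Finset.mem_filter, Finset.mem_filter] at hk
  apply hk.2
  rw [Finset.mem_filter]
  refine ⟨Finset.mem_univ _, ?_⟩
  rcases le_or_gt (P.pairing k j) 0 with hn | hn
  · exact reflectionPerm_mem_plusPart hS hj hk.1.2 hn
  · -- use `-j`
    have hn' : P.pairing k (negIdx P j) ≤ 0 := by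
      have : P.pairing k (negIdx P j) = -P.pairing k j := by
        change P.toLinearMap (P.root k) (P.coroot (negIdx P j)) = -P.toLinearMap (P.root k) (P.coroot j)
        rw [coroot_negIdx, map_neg]
      rw [this]; linarith
    have h1 := reflectionPerm_mem_plusPart hS hj' hk.1.2 hn'
    have h2 : P.reflectionPerm (negIdx P j) k = P.reflectionPerm j k := by
      apply P.root.injective
      rw [P.root_reflectionPerm, P.root_reflectionPerm, P.reflection_apply, P.reflection_apply,
        root_negIdx, coroot'_negIdx]
      simp
    rwa [h2] at h1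

/-- A parabolic set of roots is the set of roots that are non-negative on `plusSum`. -/
theorem mem_iff_coroot'_plusSum_nonneg {S : Set ι} (hS : IsParabolicSubset P S) (k : ι) :
    k ∈ S ↔ 0 ≤ P.coroot' k (plusSum P S) := by
  constructor
  · intro hk
    by_cases hk' : negIdx P k ∈ S
    · exact (coroot'_plusSum_eq_zero hS hk hk').ge
    · exact (coroot'_plusSum_pos hS ⟨hk, hk'⟩).le
  · intro h
    by_contra hk
    have hk' : negIdx P k ∈ S := (hS.2 k).resolve_left hk
    have : negIdx P k ∈ plusPart P S := ⟨hk', by rwa [negIdx_negIdx]⟩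
    have := coroot'_plusSum_pos hS this
    rw [coroot'_negIdx] at this
    linarith

/-- Every parabolic set of roots is the parabolic set of a facet. -/
theorem exists_facet_parab_eq {S : Set ι} (hS : IsParabolicSubset P S) :
    ∃ F : Facet P, F.parab = S := by
  refine ⟨Facet.ofVec P (plusSum P S), ?_⟩
  ext k
  rw [mem_parab_ofVec_iff, ← mem_iff_coroot'_plusSum_nonneg hS]

end Main

end Groth.Agent.Lib.R2H7.RootCh
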