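import Mathlib
import Groth.Agent.Lib.R2H7RootChParab2

/-!
# The bijection between facets and parabolic sets of roots (helper7, round 2)
-/

set_option autoImplicit false
open Module
namespace Groth.Agent.Lib.R2H7.RootCh
open _root_.RootCh
universe u v w x
variable {ι : Type u} {R : Type v} {M : Type w} {N : Type x}

section Order

variable [Field R] [LinearOrder R] [IsStrictOrderedRing R]
variable [AddCommGroup M] [Module R M] [AddCommGroup N] [Module R N]
variable {P : RootPairing ι R M N}

theorem Facet.sgn_negIdx (F : Facet P) (i : ι) : F.sgn (negIdx P i) = -F.sgn i := by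
  obtain ⟨ξ, hξ⟩ := F.exists_sgnVec_eq
  rw [← hξ, sgnVec_apply, sgnVec_apply, coroot'_negIdx, Left.sign_neg]

theorem Facet.le_iff_parab_subset (F G : Facet P) : F ≤ G ↔ F.parab ⊆ G.parab := by
  constructor
  · intro h i hi hG
    apply hi
    rcases h i with h0 | h0
    · rw [hG] at h0; exact absurd h0 (by decide)
    · rw [← h0]; exact hG
  · intro h i
    have key : ∀ k, G.sgn k = -1 → F.sgn k = -1 := fun k hk => by
      by_contra hF
      exact h hF hk
    rcases hG : G.sgn i with _ | _ | _
    · left; rfl
    · right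
      exact (key i hG).symm
    · right
      have h1 : G.sgn (negIdx P i) = -1 := by rw [Facet.sgn_negIdx, hG]; rfl
      have h2 := key _ h1
      rw [Facet.sgn_negIdx] at h2
      have : F.sgn i = 1 := by
        rcases hF : F.sgn i with _ | _ | _ <;> rw [hF] at h2 <;> first | rfl | exact absurd h2 (by decide)
      exact this.symm

theorem Facet.parab_injective : Function.Injective (Facet.parab (P := P)) := by
  intro F G h
  apply le_antisymm
  · rw [Facet.le_iff_parab_subset, h]
  · rw [Facet.le_iff_parab_subset, h]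

end Order

section IsParabolic

variable [Field R] [LinearOrder R] [IsStrictOrderedRing R]
variable [AddCommGroup M] [Module R M] [AddCommGroup N] [Module R N] [Fintype ι]
variable {P : RootPairing ι R M N}

theorem q_smul_coroot_of_root_add {i j k : ι} (h : P.root k = P.root i + P.root j) :
    q P k • P.coroot k = q P i • P.coroot i + q P j • P.coroot j := by
  have hk := P.rootForm_self_smul_coroot k
  have hi := P.rootForm_self_smul_coroot i
  have hj := P.rootForm_self_smul_coroot j
  change q P k • P.coroot k = _ at hk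
  change q P i • P.coroot i = _ at hi
  change q P j • P.coroot j = _ at hj
  rw [hk, hi, hj, h, map_add, smul_add]

theorem Facet.isParabolicSubset_parab (F : Facet P) : IsParabolicSubset P F.parab := by
  obtain ⟨ξ, hξ⟩ := F.exists_sgnVec_eq
  have hF : F = Facet.ofVec P ξ := Facet.eq_ofVec F hξ
  rw [hF]
  constructor
  · intro i j k hi hj hk
    rw [mem_parab_ofVec_iff] at hi hj ⊢
    have h := congrArg (P.toLinearMap ξ) (q_smul_coroot_of_root_add hk)
    rw [map_smul, map_add, map_smul, map_smul, smul_eq_mul, smul_eq_mul, smul_eq_mul] at h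
    change q P k * P.coroot' k ξ = q P i * P.coroot' i ξ + q P j * P.coroot' j ξ at h
    have h1 : 0 ≤ q P k * P.coroot' k ξ := by
      rw [h]
      exact add_nonneg (mul_nonneg (q_pos P i).le hi) (mul_nonneg (q_pos P j).le hj)
    exact (mul_nonneg_iff_of_pos_left (q_pos P k)).mp h1
  · intro i
    rw [mem_parab_ofVec_iff, mem_parab_ofVec_iff]
    change _ ∨ 0 ≤ P.coroot' (negIdx P i) ξ
    rw [coroot'_negIdx]
    rcases le_total 0 (P.coroot' i ξ) with h | h
    · left; exact h
    · right; linarith

end IsParabolic

section General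

variable [Field R] [LinearOrder R] [IsStrictOrderedRing R]
variable [AddCommGroup M] [Module R M] [AddCommGroup N] [Module R N] [Fintype ι]
variable {P : RootPairing ι R M N} [P.IsRootSystem] [P.IsCrystallographic] [P.IsReduced]

theorem Facet.carrier_eq_setOf_pos_comb (F : Facet P) :
    F.carrier = {η : M | ∃ c : M →₀ R, (c.support : Set M) ⊆ F.corners ∧
      (∀ m ∈ F.corners, 0 < c m) ∧ c.sum (fun m r => r • m) = η} := by
  obtain ⟨ξ, hξ⟩ := F.exists_sgnVec_eq
  have hF : F = Facet.ofVec P ξ := Facet.eq_ofVec F hξ
  obtain ⟨b, hb⟩ := exists_base_mem_closedChamber P ξ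
  rw [hF]
  exact carrier_ofVec_eq_setOf_pos_comb b hb

theorem Facet.corners_eq_setOf_nonneg_on_parab (F : Facet P) :
    F.corners = {m : M | m ∈ fundWeights P ∧
      ∀ y : N, Corr P m y → ∀ k ∈ F.parab, 0 ≤ P.root' k y} := by
  obtain ⟨ξ, hξ⟩ := F.exists_sgnVec_eq
  have hF : F = Facet.ofVec P ξ := Facet.eq_ofVec F hξ
  obtain ⟨b, hb⟩ := exists_base_mem_closedChamber P ξ
  rw [hF]
  exact corners_ofVec_eq_setOf_nonneg_on_parab b hb

/-- A facet is determined by its corners. -/
theorem Facet.eq_of_corners_eq {F G : Facet P} (h : F.corners = G.corners) : F = G := by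
  have hc : F.carrier = G.carrier := by
    rw [Facet.carrier_eq_setOf_pos_comb F, Facet.carrier_eq_setOf_pos_comb G, h]
  obtain ⟨ξ, hξ⟩ := F.exists_sgnVec_eq
  have hξ' : ξ ∈ G.carrier := hc ▸ hξ
  exact Facet.ext (hξ.symm.trans hξ')

end General

end Groth.Agent.Lib.R2H7.RootCh
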