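import Mathlib
import Groth.Agent.Lib.R2H7RootChParab3

/-!
# Reflected bases of a root pairing (helper7, round 2)

`reflBase b i` is the image of the base `b` under the reflection in the root `i`; its positive roots
are the images of the positive roots of `b`.  Mathlib has no action of the Weyl group on bases.
-/

set_option autoImplicit false
open Module
namespace Groth.Agent.Lib.R2H7.RootCh
open _root_.RootCh
universe u v w x
variable {ι : Type u} {R : Type v} {M : Type w} {N : Type x}

section FiniteBase

variable [CommRing R] [AddCommGroup M] [Module R M] [AddCommGroup N] [Module R N]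
variable {P : RootPairing ι R M N}

theorem Base.ext_support {b b' : P.Base} (h : b.support = b'.support) : b = b' := by
  cases b; cases b'
  simp only at h
  subst h
  rfl

instance instFiniteBase [Finite ι] : Finite P.Base :=
  Finite.of_injective (fun b : P.Base => b.support) (fun _ _ h => Base.ext_support h)

end FiniteBase

section Def

variable [CommRing R] [AddCommGroup M] [Module R M] [AddCommGroup N] [Module R N]
variable {P : RootPairing ι R M N}

theorem root_comp_reflectionPerm (i : ι) :
    P.root ∘ P.reflectionPerm i = P.reflection i ∘ P.root := by
  funext j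
  simp

theorem coroot_comp_reflectionPerm (i : ι) :
    P.coroot ∘ P.reflectionPerm i = P.coreflection i ∘ P.coroot := by
  funext j
  simp

theorem image_root_reflectionPerm (i : ι) (s : Set ι) :
    P.root '' (P.reflectionPerm i '' s) = P.reflection i '' (P.root '' s) := by
  rw [Set.image_image, Set.image_image]
  apply Set.image_congr
  intro j _
  simp

theorem image_coroot_reflectionPerm (i : ι) (s : Set ι) :
    P.coroot '' (P.reflectionPerm i '' s) = P.coreflection i '' (P.coroot '' s) := by
  rw [Set.image_image, Set.image_image]
  apply Set.image_congr
  intro j _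
  simp

/-- The image of a base under the reflection in the root `i`. -/
def reflBase (b : P.Base) (i : ι) : P.Base where
  support := b.support.map (P.reflectionPerm i).toEmbedding
  linearIndepOn_root := by
    rw [Finset.coe_map]
    refine (linearIndepOn_equiv (R := R) (P.reflectionPerm i) (f := P.root)
      (s := (b.support : Set ι))).mp ?_
    rw [root_comp_reflectionPerm]
    exact b.linearIndepOn_root.map_injOn _ (P.reflection i).injective.injOn
  linearIndepOn_coroot := by
    rw [Finset.coe_map]
    refine (linearIndepOn_equiv (R := R) (P.reflectionPerm i) (f := P.coroot)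
      (s := (b.support : Set ι))).mp ?_
    rw [coroot_comp_reflectionPerm]
    exact b.linearIndepOn_coroot.map_injOn _ (P.coreflection i).injective.injOn
  root_mem_or_neg_mem k := by
    rw [Finset.coe_map]
    have h := b.root_mem_or_neg_mem (P.reflectionPerm i k)
    have hcl : AddSubmonoid.closure (P.root '' (⇑(P.reflectionPerm i).toEmbedding '' (b.support : Set ι))) =
        (AddSubmonoid.closure (P.root '' (b.support : Set ι))).map
          (P.reflection i : M →ₗ[R] M).toAddMonoidHom := by
      rw [AddMonoidHom.map_mclosure]
      congr 1
      exact image_root_reflectionPerm i _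
    rw [hcl]
    rcases h with h | h
    · left
      refine ⟨_, h, ?_⟩
      simp
    · right
      refine ⟨_, h, ?_⟩
      simp
  coroot_mem_or_neg_mem k := by
    rw [Finset.coe_map]
    have h := b.coroot_mem_or_neg_mem (P.reflectionPerm i k)
    have hcl : AddSubmonoid.closure (P.coroot '' (⇑(P.reflectionPerm i).toEmbedding '' (b.support : Set ι))) =
        (AddSubmonoid.closure (P.coroot '' (b.support : Set ι))).map
          (P.coreflection i : N →ₗ[R] N).toAddMonoidHom := by
      rw [AddMonoidHom.map_mclosure]
      congr 1
      exact image_coroot_reflectionPerm i _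
    rw [hcl]
    rcases h with h | h
    · left
      refine ⟨_, h, ?_⟩
      simp
    · right
      refine ⟨_, h, ?_⟩
      simp

theorem mem_support_reflBase (b : P.Base) (i k : ι) :
    k ∈ (reflBase b i).support ↔ P.reflectionPerm i k ∈ b.support := by
  change k ∈ b.support.map (P.reflectionPerm i).toEmbedding ↔ _
  rw [Finset.mem_map]
  constructor
  · rintro ⟨j, hj, rfl⟩
    simpa using hj
  · intro h
    exact ⟨_, h, by simp⟩

theorem reflectionPerm_mem_support_reflBase (b : P.Base) (i : ι) {k : ι} (hk : k ∈ b.support) :
    P.reflectionPerm i k ∈ (reflBase b i).support := by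
  rw [mem_support_reflBase, P.reflectionPerm_self]
  exact hk

end Def

section Height

variable [CommRing R] [CharZero R] [AddCommGroup M] [Module R M] [AddCommGroup N] [Module R N]
variable {P : RootPairing ι R M N}

theorem height_reflBase (b : P.Base) (i k : ι) :
    (reflBase b i).height k = b.height (P.reflectionPerm i k) := by
  obtain ⟨f, -, -, hf⟩ := b.exists_root_eq_sum_int (P.reflectionPerm i k)
  rw [RootPairing.Base.height_eq_sum hf]
  have hk : P.root k = ∑ j ∈ (reflBase b i).support,
      (f ∘ P.reflectionPerm i) j • P.root j := by
    change _ = ∑ j ∈ b.support.map (P.reflectionPerm i).toEmbedding, _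
    rw [Finset.sum_map]
    have h1 := congrArg (P.reflection i) hf
    rw [← P.root_reflectionPerm, P.reflectionPerm_self, map_sum] at h1
    rw [h1]
    apply Finset.sum_congr rfl
    intro j _
    simp
  rw [RootPairing.Base.height_eq_sum hk]
  change ∑ j ∈ b.support.map (P.reflectionPerm i).toEmbedding, _ = _
  rw [Finset.sum_map]
  apply Finset.sum_congr rfl
  intro j _
  simp

theorem isPos_reflBase_iff (b : P.Base) (i k : ι) :
    (reflBase b i).IsPos k ↔ b.IsPos (P.reflectionPerm i k) := by
  rw [RootPairing.Base.isPos_iff, RootPairing.Base.isPos_iff, height_reflBase]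

theorem isPos_negIdx_iff (b : P.Base) (k : ι) : b.IsPos (negIdx P k) ↔ ¬ b.IsPos k :=
  RootPairing.Base.IsPos.neg_iff_not b k

end Height

end Groth.Agent.Lib.R2H7.RootCh
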