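import Mathlib
import Groth.Prelude.Def_RedSub
import Groth.Agent.Lib.R2H7RootChRefl
import Groth.Agent.Lib.Helper8Root4

/-!
# Two closed sets of roots covering the root system (helper7, round 2)

If `R₁`, `R₂` are closed sets of roots of a root pairing over `ℤ`, each containing the positive
roots of a base, and `R₁ ∪ R₂` is everything, then `R₁ ∩ (-R₂)` contains the positive roots of a
base.  Proof: among the bases whose positive roots lie in `R₁` take one with the largest number of
positive roots in `-R₂`; if some positive root is not in `-R₂` then some simple root `α` is not, and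
reflecting the base in `α` increases the count.
-/

set_option autoImplicit false
open Set Function

namespace Groth.Agent.Lib.R2H7.RedSubClosed

open Groth.Agent.Lib.R2H7.RootCh Groth.Agent.Lib.Helper8

variable {idx M N : Type} [AddCommGroup M] [AddCommGroup N] (P : RootPairing idx ℤ M N)

theorem exists_nat_sum (b : P.Base) {m : M}
    (hm : m ∈ AddSubmonoid.closure (P.root '' (b.support : Set idx))) :
    ∃ f : idx → ℕ, m = ∑ j ∈ b.support, f j • P.root j := by
  classical
  induction hm using AddSubmonoid.closure_induction with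
  | mem x hx =>
    obtain ⟨j, hj, rfl⟩ := hx
    refine ⟨Pi.single j 1, ?_⟩
    rw [Finset.sum_eq_single_of_mem j (Finset.mem_coe.mp hj)]
    · simp
    · intro k _ hk
      simp [Pi.single_eq_of_ne hk]
  | zero => exact ⟨0, by simp⟩
  | add x y _ _ hx hy =>
    obtain ⟨f, rfl⟩ := hx
    obtain ⟨g, rfl⟩ := hy
    exact ⟨f + g, by simp [add_smul, Finset.sum_add_distrib]⟩

theorem mem_posRoots_iff_isPos (b : P.Base) (a : idx) :
    a ∈ RedSub.posRoots P b ↔ b.IsPos a := by
  constructor
  · intro ha
    obtain ⟨f, hf⟩ := exists_nat_sum P b ha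
    have hf' : P.root a = ∑ j ∈ b.support, ((f j : ℤ)) • P.root j := by
      rw [hf]
      exact Finset.sum_congr rfl fun j _ => (natCast_zsmul _ _).symm
    rw [RootPairing.Base.isPos_iff', RootPairing.Base.height_eq_sum hf']
    exact Finset.sum_nonneg fun j _ => Int.natCast_nonneg _
  · intro ha
    rcases b.root_mem_or_neg_mem a with h | h
    · exact h
    · exfalso
      obtain ⟨f, hf⟩ := exists_nat_sum P b h
      have hf' : P.root a = ∑ j ∈ b.support, (-(f j : ℤ)) • P.root j := by
        rw [← neg_neg (P.root a), hf, ← Finset.sum_neg_distrib]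
        exact Finset.sum_congr rfl fun j _ => by rw [neg_smul, natCast_zsmul]
      rw [RootPairing.Base.isPos_iff, RootPairing.Base.height_eq_sum hf'] at ha
      have : ∑ j ∈ b.support, (-(f j : ℤ)) ≤ 0 :=
        Finset.sum_nonpos fun j _ => neg_nonpos.mpr (Int.natCast_nonneg _)
      omega

theorem posRoots_subset_of_support [Finite idx] (b : P.Base) (R : Set idx)
    (hcl : ∀ a b c : idx, a ∈ R → b ∈ R → P.root a + P.root b = P.root c → c ∈ R)
    (hs : ∀ j ∈ b.support, j ∈ R) : RedSub.posRoots P b ⊆ R := by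
  intro a ha
  rw [mem_posRoots_iff_isPos] at ha
  exact ha.induction_on_add (p := fun i => i ∈ R) hs
    (fun i j k hk hi hj => hcl i j k hi (hs j hj) hk.symm)

theorem eq_of_root_eq_nsmul [Finite idx] (b : P.Base) {k i : idx} (hi : i ∈ b.support)
    {n : ℕ} (h : P.root k = n • P.root i) : k = i := by
  have := isAddTorsionFree P
  have := isAddTorsionFree' P
  have h1 : ((n : ℤ)) • P.root i ∈ Set.range P.root := ⟨k, by rw [h, natCast_zsmul]⟩
  rcases b.eq_one_or_neg_one_of_mem_support_of_smul_mem i hi (n : ℤ) h1 with h2 | h2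
  · have hn : n = 1 := by exact_mod_cast h2
    subst hn
    apply P.root.injective
    rw [h, one_smul]
  · exfalso
    omega

theorem reflectionPerm_mem_posRoots [Finite idx] (b : P.Base) {k i : idx} (hi : i ∈ b.support)
    (hk : k ∈ RedSub.posRoots P b) (hki : k ≠ i) :
    P.reflectionPerm i k ∈ RedSub.posRoots P b := by
  have hΔ : RootD.IsSimpleSys P (b.support : Set idx) :=
    ⟨b.linearIndepOn_root, b.root_mem_or_neg_mem⟩
  exact simple_reflection_pos hΔ hk (Finset.mem_coe.mpr hi)
    (fun n h => hki (eq_of_root_eq_nsmul P b hi h))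

theorem main [Finite idx] (R₁ R₂ : Set idx)
    (h₁ : ∀ a b c : idx, a ∈ R₁ → b ∈ R₁ → P.root a + P.root b = P.root c → c ∈ R₁)
    (h₂ : ∀ a b c : idx, a ∈ R₂ → b ∈ R₂ → P.root a + P.root b = P.root c → c ∈ R₂)
    (hb₁ : ∃ b : P.Base, RedSub.posRoots P b ⊆ R₁) (hb₂ : ∃ b : P.Base, RedSub.posRoots P b ⊆ R₂)
    (hunion : R₁ ∪ R₂ = Set.univ) :
    ∃ b : P.Base, RedSub.posRoots P b ⊆ {a | a ∈ R₁ ∧ ∃ c ∈ R₂, P.root a = -P.root c} := by
  classical
  obtain ⟨b₂, hb₂⟩ := hb₂
  have hR₂ : ∀ a : idx, a ∈ R₂ ∨ negIdx P a ∈ R₂ := by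
    intro a
    rcases b₂.root_mem_or_neg_mem a with h | h
    · exact Or.inl (hb₂ h)
    · right
      apply hb₂
      show P.root (negIdx P a) ∈ AddSubmonoid.closure (P.root '' (b₂.support : Set idx))
      rw [root_negIdx]
      exact h
  have h₂' : ∀ a b c : idx, a ∈ {a | negIdx P a ∈ R₂} → b ∈ {a | negIdx P a ∈ R₂} →
      P.root a + P.root b = P.root c → c ∈ {a | negIdx P a ∈ R₂} := by
    intro a b c ha hb hc
    refine h₂ (negIdx P a) (negIdx P b) (negIdx P c) ha hb ?_
    rw [root_negIdx, root_negIdx, root_negIdx, ← hc, neg_add]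
  have : Nonempty {b : P.Base // RedSub.posRoots P b ⊆ R₁} := by
    obtain ⟨b, hb⟩ := hb₁
    exact ⟨⟨b, hb⟩⟩
  obtain ⟨b, hmax⟩ := Finite.exists_max (α := {b : P.Base // RedSub.posRoots P b ⊆ R₁})
    (fun b => Set.ncard {a | a ∈ RedSub.posRoots P b.1 ∧ negIdx P a ∈ R₂})
  refine ⟨b.1, ?_⟩
  have key : RedSub.posRoots P b.1 ⊆ {a | negIdx P a ∈ R₂} := by
    by_contra hnot
    have hex : ∃ α ∈ b.1.support, negIdx P α ∉ R₂ := by
      by_contra hall
      have hall' : ∀ α ∈ b.1.support, α ∈ {a | negIdx P a ∈ R₂} :=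
        fun α hα => by_contra fun h => hall ⟨α, hα, h⟩
      exact hnot (posRoots_subset_of_support P b.1 _ h₂' hall')
    obtain ⟨α, hα, hαneg⟩ := hex
    have hα2 : α ∈ R₂ := (hR₂ α).resolve_right hαneg
    have hα1 : negIdx P α ∈ R₁ := by
      have hu : negIdx P α ∈ R₁ ∪ R₂ := by
        rw [hunion]
        trivial
      exact hu.resolve_right hαneg
    have hαpos : α ∈ RedSub.posRoots P b.1 :=
      (mem_posRoots_iff_isPos P b.1 α).mpr (RootPairing.Base.isPos_of_mem_support hα)
    have hαnegpos : negIdx P α ∉ RedSub.posRoots P b.1 := by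
      rw [mem_posRoots_iff_isPos, isPos_negIdx_iff, not_not]
      exact RootPairing.Base.isPos_of_mem_support hα
    have hb'mem : ∀ k, k ∈ RedSub.posRoots P (reflBase b.1 α) ↔
        P.reflectionPerm α k ∈ RedSub.posRoots P b.1 := by
      intro k
      rw [mem_posRoots_iff_isPos, mem_posRoots_iff_isPos, isPos_reflBase_iff]
    have hb'1 : RedSub.posRoots P (reflBase b.1 α) ⊆ R₁ := by
      intro k hk
      rw [hb'mem] at hk
      by_cases hkα : P.reflectionPerm α k = α
      · have hk' : k = negIdx P α := by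
          have h3 := congrArg (P.reflectionPerm α) hkα
          rw [P.reflectionPerm_self] at h3
          exact h3
        rw [hk']
        exact hα1
      · have h3 := reflectionPerm_mem_posRoots P b.1 hα hk hkα
        rw [P.reflectionPerm_self] at h3
        exact b.2 h3
    have hsub : insert (negIdx P α) {a | a ∈ RedSub.posRoots P b.1 ∧ negIdx P a ∈ R₂} ⊆
        {a | a ∈ RedSub.posRoots P (reflBase b.1 α) ∧ negIdx P a ∈ R₂} := by
      intro a ha
      rcases ha with rfl | ha
      · refine ⟨?_, ?_⟩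
        · rw [hb'mem]
          show P.reflectionPerm α (P.reflectionPerm α α) ∈ _
          rw [P.reflectionPerm_self]
          exact hαpos
        · rw [negIdx_negIdx]
          exact hα2
      · refine ⟨?_, ha.2⟩
        rw [hb'mem]
        have hne : a ≠ α := by
          rintro rfl
          exact hαneg ha.2
        exact reflectionPerm_mem_posRoots P b.1 hα ha.1 hne
    have hnotin : negIdx P α ∉ {a | a ∈ RedSub.posRoots P b.1 ∧ negIdx P a ∈ R₂} :=
      fun h => hαnegpos h.1
    have hlt : Set.ncard {a | a ∈ RedSub.posRoots P b.1 ∧ negIdx P a ∈ R₂} <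
        Set.ncard {a | a ∈ RedSub.posRoots P (reflBase b.1 α) ∧ negIdx P a ∈ R₂} := by
      calc Set.ncard {a | a ∈ RedSub.posRoots P b.1 ∧ negIdx P a ∈ R₂}
          < Set.ncard (insert (negIdx P α)
              {a | a ∈ RedSub.posRoots P b.1 ∧ negIdx P a ∈ R₂}) := by
            rw [Set.ncard_insert_of_notMem hnotin (Set.toFinite _)]
            exact Nat.lt_succ_self _
        _ ≤ _ := Set.ncard_le_ncard hsub (Set.toFinite _)
    have h4 := hmax ⟨reflBase b.1 α, hb'1⟩
    exact absurd h4 (not_le.mpr hlt)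
  intro a ha
  refine ⟨b.2 ha, negIdx P a, key ha, ?_⟩
  rw [root_negIdx, neg_neg]

end Groth.Agent.Lib.R2H7.RedSubClosed
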