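import Mathlib
import Groth.Prelude.Def_RedSub
import Groth.Agent.Lib.R2H7RedSubClosed

/-!
# Inversions of `s_c w` versus `w` (helper7, round 2)

For a Weyl group element `w` (given by a word) and a positive root `c`, the number of inversions of
`s_c w` exceeds that of `w` iff `w⁻¹ c` is positive.  Direct counting proof: the difference of the two
inversion numbers is `#S⁺ - #S⁻` where `S` is the inversion set of `s_c`, split according to the sign of
`w⁻¹ β`; the involution `β ↦ -s_c β` of `S` fixes `c` and maps `S⁻` into `S⁺` (resp. `S⁺` into `S⁻`)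
when `w⁻¹ c` is positive (resp. negative), because `β + (-s_c β)` is a positive multiple of `c`.
-/

set_option autoImplicit false
open Set Function

namespace Groth.Agent.Lib.R2H7.RedSubInv

open Groth.Agent.Lib.R2H7.RootCh Groth.Agent.Lib.R2H7.RedSubClosed

theorem perm_apply_inv_self {α : Type*} (f : Equiv.Perm α) (x : α) : f (f⁻¹ x) = x :=
  f.apply_symm_apply x

theorem perm_inv_apply_self {α : Type*} (f : Equiv.Perm α) (x : α) : f⁻¹ (f x) = x :=
  f.symm_apply_apply x

section Abstract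

variable {ι : Type*} [Finite ι]

theorem count_abstract (p : ι → Prop) (neg : ι → ι) (hneg : ∀ a, neg (neg a) = a)
    (hp : ∀ a, p (neg a) ↔ ¬ p a) (w t : Equiv.Perm ι)
    (hw : ∀ a, w (neg a) = neg (w a)) (ht : ∀ a, t (neg a) = neg (t a))
    (htt : ∀ a, t (t a) = a) (c : ι) (hc : p c) (htc : t c = neg c)
    (Hpos : p (w⁻¹ c) → ∀ β, p β → ¬ p (t β) → ¬ p (w⁻¹ β) → p (w⁻¹ (neg (t β))))
    (Hneg : ¬ p (w⁻¹ c) → ∀ β, p β → ¬ p (t β) → p (w⁻¹ β) → ¬ p (w⁻¹ (neg (t β)))) :
    Set.ncard {a | p a ∧ ¬ p (w a)} < Set.ncard {a | p a ∧ ¬ p ((t * w) a)} ↔ p (w⁻¹ c) := by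
  classical
  set A : Set ι := {a | p a ∧ ¬ p (w a)} with hA
  set A' : Set ι := {a | p a ∧ ¬ p ((t * w) a)} with hA'
  set Sp : Set ι := {β | p β ∧ ¬ p (t β) ∧ p (w⁻¹ β)} with hSp
  set Sm : Set ι := {β | p β ∧ ¬ p (t β) ∧ ¬ p (w⁻¹ β)} with hSm
  have hneg_inj : Function.Injective neg := fun a b h => by rw [← hneg a, h, hneg]
  have hwinv : ∀ a, w⁻¹ (neg a) = neg (w⁻¹ a) := by
    intro a
    apply w.injective
    rw [hw, perm_apply_inv_self, perm_apply_inv_self]
  have h1 : Sp = w '' (A' \ A) := by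
    ext β
    constructor
    · rintro ⟨h1, h2, h3⟩
      refine ⟨w⁻¹ β, ⟨⟨h3, ?_⟩, ?_⟩, perm_apply_inv_self w β⟩
      · show ¬ p ((t * w) (w⁻¹ β))
        rw [Equiv.Perm.mul_apply, perm_apply_inv_self]
        exact h2
      · rintro ⟨_, h4⟩
        rw [perm_apply_inv_self] at h4
        exact h4 h1
    · rintro ⟨a, ⟨⟨ha1, ha2⟩, ha3⟩, rfl⟩
      rw [Equiv.Perm.mul_apply] at ha2
      refine ⟨?_, ha2, ?_⟩
      · by_contra h
        exact ha3 ⟨ha1, h⟩
      · rw [perm_inv_apply_self]
        exact ha1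
  have h2 : Sm = (fun a => neg (w a)) '' (A \ A') := by
    ext β
    constructor
    · rintro ⟨h1, h2, h3⟩
      refine ⟨neg (w⁻¹ β), ⟨⟨(hp _).mpr h3, ?_⟩, ?_⟩, ?_⟩
      · rw [hw, perm_apply_inv_self, hp]
        exact not_not.mpr h1
      · rintro ⟨_, h4⟩
        rw [Equiv.Perm.mul_apply, hw, perm_apply_inv_self, ht, hp] at h4
        exact h4 h2
      · show neg (w (neg (w⁻¹ β))) = β
        rw [hw, perm_apply_inv_self, hneg]
    · rintro ⟨a, ⟨⟨ha1, ha2⟩, ha3⟩, rfl⟩
      have ha4 : p (t (w a)) := by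
        by_contra h
        exact ha3 ⟨ha1, by rw [Equiv.Perm.mul_apply]; exact h⟩
      refine ⟨(hp _).mpr ha2, ?_, ?_⟩
      · rw [ht, hp]
        exact not_not.mpr ha4
      · rw [hwinv, perm_inv_apply_self, hp]
        exact not_not.mpr ha1
  have hinj2 : Function.Injective (fun a => neg (w a)) := hneg_inj.comp w.injective
  have hcard1 : Sp.ncard = (A' \ A).ncard := by
    rw [h1, Set.ncard_image_of_injective _ w.injective]
  have hcard2 : Sm.ncard = (A \ A').ncard := by
    rw [h2, Set.ncard_image_of_injective _ hinj2]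
  rw [Set.ncard_lt_ncard_iff_ncard_sdiff_lt_ncard_sdiff (Set.toFinite A) (Set.toFinite A'),
    ← hcard1, ← hcard2]
  have hι_inj : Function.Injective (fun β => neg (t β)) := hneg_inj.comp t.injective
  have hιι : ∀ β, neg (t (neg (t β))) = β := by
    intro β
    rw [ht, htt, hneg]
  have hιc : neg (t c) = c := by rw [htc, hneg]
  have hcS : p c ∧ ¬ p (t c) := ⟨hc, by rw [htc, hp]; exact not_not.mpr hc⟩
  have hιS : ∀ β, p β → ¬ p (t β) → p (neg (t β)) ∧ ¬ p (t (neg (t β))) := by
    intro β h1 h2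
    refine ⟨(hp _).mpr h2, ?_⟩
    rw [ht, htt, hp]
    exact not_not.mpr h1
  constructor
  · intro hlt
    by_contra hnc
    have hsub : (fun β => neg (t β)) '' Sp ⊆ Sm \ {c} := by
      rintro _ ⟨β, ⟨h1, h2, h3⟩, rfl⟩
      refine ⟨⟨(hιS β h1 h2).1, (hιS β h1 h2).2, Hneg hnc β h1 h2 h3⟩, ?_⟩
      intro h
      have h4 : neg (t β) = c := h
      have h5 : β = c := by rw [← hιι β, h4, hιc]
      rw [h5] at h3
      exact hnc h3
    have hcm : c ∈ Sm := ⟨hcS.1, hcS.2, hnc⟩
    have hlt' : Sp.ncard < Sm.ncard := by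
      calc Sp.ncard = ((fun β => neg (t β)) '' Sp).ncard :=
            (Set.ncard_image_of_injective _ hι_inj).symm
        _ ≤ (Sm \ {c}).ncard := Set.ncard_le_ncard hsub (Set.toFinite _)
        _ < Sm.ncard := Set.ncard_sdiff_singleton_lt_of_mem hcm (Set.toFinite _)
    omega
  · intro hpc
    have hsub : (fun β => neg (t β)) '' Sm ⊆ Sp \ {c} := by
      rintro _ ⟨β, ⟨h1, h2, h3⟩, rfl⟩
      refine ⟨⟨(hιS β h1 h2).1, (hιS β h1 h2).2, Hpos hpc β h1 h2 h3⟩, ?_⟩
      intro h
      have h4 : neg (t β) = c := h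
      have h5 : β = c := by rw [← hιι β, h4, hιc]
      rw [h5] at h3
      exact h3 hpc
    have hcm : c ∈ Sp := ⟨hcS.1, hcS.2, hpc⟩
    calc Sm.ncard = ((fun β => neg (t β)) '' Sm).ncard :=
          (Set.ncard_image_of_injective _ hι_inj).symm
      _ ≤ (Sp \ {c}).ncard := Set.ncard_le_ncard hsub (Set.toFinite _)
      _ < Sp.ncard := Set.ncard_sdiff_singleton_lt_of_mem hcm (Set.toFinite _)

end Abstract

variable {idx M N : Type} [AddCommGroup M] [AddCommGroup N] (P : RootPairing idx ℤ M N)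

theorem mem_negRoots_iff (b : P.Base) (a : idx) : a ∈ RedSub.negRoots P b ↔ ¬ b.IsPos a := by
  rw [← isPos_negIdx_iff, ← mem_posRoots_iff_isPos]
  show -P.root a ∈ AddSubmonoid.closure (P.root '' (b.support : Set idx)) ↔
    P.root (negIdx P a) ∈ AddSubmonoid.closure (P.root '' (b.support : Set idx))
  rw [root_negIdx]

theorem height_negIdx (b : P.Base) (k : idx) : b.height (negIdx P k) = - b.height k :=
  b.height_reflectionPerm_self k

theorem exists_linear (l : List idx) :
    ∃ W : M ≃ₗ[ℤ] M, ∀ a, P.root (RedSub.wordPerm P l a) = W (P.root a) := by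
  induction l with
  | nil => exact ⟨LinearEquiv.refl ℤ M, fun a => by simp [RedSub.wordPerm]⟩
  | cons i l ih =>
    obtain ⟨W, hW⟩ := ih
    refine ⟨W.trans (P.reflection i), fun a => ?_⟩
    have h : RedSub.wordPerm P (i :: l) = P.reflectionPerm i * RedSub.wordPerm P l := by
      simp [RedSub.wordPerm]
    rw [h, Equiv.Perm.mul_apply, P.root_reflectionPerm, hW]
    rfl

theorem perm_negIdx {σ : Equiv.Perm idx} {L : M → M} (hL : ∀ x, L (-x) = - L x)
    (h : ∀ a, P.root (σ a) = L (P.root a)) (a : idx) :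
    σ (negIdx P a) = negIdx P (σ a) := by
  apply P.root.injective
  rw [h, root_negIdx, root_negIdx, hL, h]

theorem main [Finite idx] (b : P.Base) (l : List idx) (c : idx) (hc : c ∈ RedSub.posRoots P b) :
    Set.ncard {a : idx | a ∈ RedSub.posRoots P b ∧ RedSub.wordPerm P l a ∈ RedSub.negRoots P b} <
      Set.ncard {a : idx | a ∈ RedSub.posRoots P b ∧
        (P.reflectionPerm c * RedSub.wordPerm P l) a ∈ RedSub.negRoots P b} ↔
      (RedSub.wordPerm P l)⁻¹ c ∈ RedSub.posRoots P b := by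
  obtain ⟨W, hW⟩ := exists_linear P l
  generalize RedSub.wordPerm P l = w at hW ⊢
  have hWinv : ∀ a, P.root (w⁻¹ a) = W.symm (P.root a) := by
    intro a
    apply W.injective
    rw [← hW, perm_apply_inv_self, LinearEquiv.apply_symm_apply]
  have hset1 : {a : idx | a ∈ RedSub.posRoots P b ∧ w a ∈ RedSub.negRoots P b} =
      {a | b.IsPos a ∧ ¬ b.IsPos (w a)} := by
    ext a
    simp only [Set.mem_ofPred_eq, mem_posRoots_iff_isPos, mem_negRoots_iff]
  have hset2 : {a : idx | a ∈ RedSub.posRoots P b ∧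
      (P.reflectionPerm c * w) a ∈ RedSub.negRoots P b} =
      {a | b.IsPos a ∧ ¬ b.IsPos ((P.reflectionPerm c * w) a)} := by
    ext a
    simp only [Set.mem_ofPred_eq, mem_posRoots_iff_isPos, mem_negRoots_iff]
  rw [hset1, hset2, mem_posRoots_iff_isPos]
  have hcpos : b.IsPos c := (mem_posRoots_iff_isPos P b c).mp hc
  have key : ∀ β : idx,
      b.height (negIdx P (P.reflectionPerm c β)) = - b.height β + P.pairing β c * b.height c ∧
      b.height (w⁻¹ (negIdx P (P.reflectionPerm c β))) =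
        - b.height (w⁻¹ β) + P.pairing β c * b.height (w⁻¹ c) := by
    intro β
    have hr : P.root (negIdx P (P.reflectionPerm c β)) =
        P.root (negIdx P β) + P.pairing β c • P.root c := by
      rw [root_negIdx, root_negIdx, P.root_reflectionPerm, P.reflection_apply_root]
      abel
    constructor
    · have h3 := b.height_add_zsmul hr
      rw [h3, height_negIdx, smul_eq_mul]
    · have hr2 : P.root (w⁻¹ (negIdx P (P.reflectionPerm c β))) =
          P.root (negIdx P (w⁻¹ β)) + P.pairing β c • P.root (w⁻¹ c) := by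
        rw [hWinv, hr, map_add, map_zsmul, root_negIdx, root_negIdx, map_neg, hWinv, hWinv]
      have h3 := b.height_add_zsmul hr2
      rw [h3, height_negIdx, smul_eq_mul]
  refine count_abstract b.IsPos (negIdx P) (negIdx_negIdx P) (isPos_negIdx_iff b) w
    (P.reflectionPerm c) (perm_negIdx P (L := ⇑W) (map_neg W) hW)
    (perm_negIdx P (L := ⇑(P.reflection c)) (map_neg (P.reflection c))
      (fun a => P.root_reflectionPerm c a))
    (fun a => P.reflectionPerm_self c a) c hcpos rfl ?_ ?_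
  · intro hpc β h1 h2 h3
    obtain ⟨k1, k2⟩ := key β
    have h5 : 0 < b.height β := h1
    have h6 : 0 < b.height c := hcpos
    have hn : 0 < P.pairing β c := by
      have h4 : 0 < b.height (negIdx P (P.reflectionPerm c β)) :=
        (isPos_negIdx_iff b _).mpr h2
      rw [k1] at h4
      by_contra hle
      have hle' : P.pairing β c ≤ 0 := not_lt.mp hle
      nlinarith [mul_nonneg (neg_nonneg.mpr hle') h6.le]
    show 0 < b.height (w⁻¹ (negIdx P (P.reflectionPerm c β)))
    rw [k2]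
    have h7 : b.height (w⁻¹ β) ≤ 0 := not_lt.mp h3
    have h8 : 0 < b.height (w⁻¹ c) := hpc
    nlinarith [mul_pos hn h8]
  · intro hpc β h1 h2 h3
    obtain ⟨k1, k2⟩ := key β
    have h5 : 0 < b.height β := h1
    have h6 : 0 < b.height c := hcpos
    have hn : 0 < P.pairing β c := by
      have h4 : 0 < b.height (negIdx P (P.reflectionPerm c β)) :=
        (isPos_negIdx_iff b _).mpr h2
      rw [k1] at h4
      by_contra hle
      have hle' : P.pairing β c ≤ 0 := not_lt.mp hle
      nlinarith [mul_nonneg (neg_nonneg.mpr hle') h6.le]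
    show ¬ 0 < b.height (w⁻¹ (negIdx P (P.reflectionPerm c β)))
    rw [k2]
    have h7 : 0 < b.height (w⁻¹ β) := h3
    have h8 : b.height (w⁻¹ c) ≤ 0 := not_lt.mp hpc
    nlinarith [mul_nonneg hn.le (neg_nonneg.mpr h8)]

end Groth.Agent.Lib.R2H7.RedSubInv
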