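/-
Rees algebras of filtrations defined by finitely (or arbitrarily) many weighted discrete valuations
are integrally closed: the monomial (Gauss) extensions of the valuations are multiplicative.
-/
import Mathlib
import Groth.Prelude.Def_W4c2filtblowupsingRees

set_option autoImplicit false
universe u

namespace Groth.Agent.Lib.R2H7.ReesClosed

open Polynomial

section generic

variable {B : Type*} [CommRing B] (N : B → ℝ) (hN0 : N 0 = 0)
  (hmul : ∀ x y, N (x * y) = N x * N y) (hadd : ∀ x y, N (x + y) ≤ max (N x) (N y))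
  (hnn : ∀ x, 0 ≤ N x) (hneg : ∀ x, N (-x) = N x) (hone : N 1 = 1)

include hN0 hadd in
theorem N_sum_le {ι : Type*} (s : Finset ι) (f : ι → B) (C : ℝ) (hC : 0 ≤ C)
    (h : ∀ j ∈ s, N (f j) ≤ C) : N (∑ j ∈ s, f j) ≤ C := by
  classical
  induction s using Finset.induction_on with
  | empty => rw [Finset.sum_empty, hN0]; exact hC
  | insert a s ha ih =>
    rw [Finset.sum_insert ha]
    exact (hadd _ _).trans (max_le (h a (Finset.mem_insert_self _ _))
      (ih fun j hj => h j (Finset.mem_insert_of_mem hj)))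

include hmul hone in
theorem N_pow (z : B) (k : ℕ) : N (z ^ k) = N z ^ k := by
  induction k with
  | zero => rw [pow_zero, pow_zero, hone]
  | succ k ih => rw [pow_succ, pow_succ, hmul, ih]

include hN0 hmul hadd hnn hneg hone in
/-- The unit ball of a multiplicative nonarchimedean norm is integrally closed. -/
theorem le_one_of_isIntegral {S : Type*} [CommRing S] [Algebra S B]
    (hS : ∀ s : S, N (algebraMap S B s) ≤ 1) (z : B) (hz : IsIntegral S z) : N z ≤ 1 := by
  obtain ⟨p, hp, hpz⟩ := hz
  by_contra hlt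
  have hlt : 1 < N z := not_le.mp hlt
  rw [Polynomial.eval₂_eq_sum_range, Finset.sum_range_succ, hp.coeff_natDegree, map_one,
    one_mul] at hpz
  rcases Nat.eq_zero_or_pos p.natDegree with hm | hm
  · rw [hm, Finset.sum_range_zero, zero_add, pow_zero] at hpz
    have := congrArg N hpz
    rw [hone, hN0] at this
    exact one_ne_zero this
  · have hsum : N (∑ j ∈ Finset.range p.natDegree, algebraMap S B (p.coeff j) * z ^ j) ≤
        N z ^ (p.natDegree - 1) := by
      apply N_sum_le N hN0 hadd
      · exact pow_nonneg (hnn z) _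
      · intro j hj
        rw [hmul, N_pow N hmul hone]
        have hj' : j ≤ p.natDegree - 1 := by
          have := Finset.mem_range.mp hj
          omega
        calc N (algebraMap S B (p.coeff j)) * N z ^ j ≤ 1 * N z ^ j :=
              mul_le_mul_of_nonneg_right (hS _) (pow_nonneg (hnn z) _)
          _ = N z ^ j := one_mul _
          _ ≤ N z ^ (p.natDegree - 1) := pow_le_pow_right₀ hlt.le hj'
    have hz' : z ^ p.natDegree =
        -(∑ j ∈ Finset.range p.natDegree, algebraMap S B (p.coeff j) * z ^ j) := by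
      linear_combination hpz
    have h1 : N z ^ p.natDegree ≤ N z ^ (p.natDegree - 1) := by
      rw [← N_pow N hmul hone, hz', hneg]
      exact hsum
    have h2 : N z ^ (p.natDegree - 1) < N z ^ p.natDegree :=
      pow_lt_pow_right₀ hlt (by omega)
    exact absurd h1 (not_le.mpr h2)

end generic

section phi

/-- `a ↦ 2^{-q a}`, with `⊤ ↦ 0`. -/
noncomputable def phi (q : ℕ) : WithTop ℤ → ℝ :=
  WithTop.recTopCoe 0 (fun n : ℤ => (2 : ℝ) ^ (-((q : ℤ) * n)))

theorem phi_top (q : ℕ) : phi q ⊤ = 0 := rfl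

theorem phi_coe (q : ℕ) (n : ℤ) : phi q (n : WithTop ℤ) = (2 : ℝ) ^ (-((q : ℤ) * n)) := rfl

theorem phi_nonneg (q : ℕ) (a : WithTop ℤ) : 0 ≤ phi q a := by
  induction a using WithTop.recTopCoe with
  | top => rw [phi_top]
  | coe n => rw [phi_coe]; positivity

theorem phi_add (q : ℕ) (a b : WithTop ℤ) : phi q (a + b) = phi q a * phi q b := by
  induction a using WithTop.recTopCoe with
  | top => rw [WithTop.top_add, phi_top, zero_mul]
  | coe n =>
    induction b using WithTop.recTopCoe with
    | top => rw [WithTop.add_top, phi_top, mul_zero]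
    | coe m =>
      rw [← WithTop.coe_add, phi_coe, phi_coe, phi_coe, ← zpow_add₀ (two_ne_zero)]
      congr 1
      ring

theorem phi_eq_zero_iff (q : ℕ) (a : WithTop ℤ) : phi q a = 0 ↔ a = ⊤ := by
  induction a using WithTop.recTopCoe with
  | top => simp [phi_top]
  | coe n =>
    rw [phi_coe]
    constructor
    · intro h
      exact absurd h (zpow_ne_zero _ two_ne_zero)
    · intro h
      exact absurd h (WithTop.coe_ne_top)

theorem phi_anti (q : ℕ) {a b : WithTop ℤ} (h : a ≤ b) : phi q b ≤ phi q a := by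
  induction b using WithTop.recTopCoe with
  | top => rw [phi_top]; exact phi_nonneg q a
  | coe m =>
    induction a using WithTop.recTopCoe with
    | top => exact absurd h (WithTop.not_top_le_coe m)
    | coe n =>
      rw [phi_coe, phi_coe]
      have hnm : n ≤ m := WithTop.coe_le_coe.mp h
      apply zpow_le_zpow_right₀ one_le_two
      exact neg_le_neg (mul_le_mul_of_nonneg_left hnm (Int.natCast_nonneg q))

theorem phi_min (q : ℕ) (a b : WithTop ℤ) : phi q (min a b) = max (phi q a) (phi q b) := by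
  rcases le_total a b with h | h
  · rw [min_eq_left h, max_eq_left (phi_anti q h)]
  · rw [min_eq_right h, max_eq_right (phi_anti q h)]

/-- The key translation between the order condition and the norm condition. -/
theorem le_iff (p q : ℕ) (hq : 0 < q) (k : ℕ) (a : WithTop ℤ) :
    ((k * p : ℕ) : WithTop ℤ) ≤ (q : WithTop ℤ) * a ↔ phi q a * ((2 : ℝ) ^ p) ^ k ≤ 1 := by
  induction a using WithTop.recTopCoe with
  | top =>
    rw [phi_top, zero_mul]
    have : (q : WithTop ℤ) * ⊤ = ⊤ := by
      apply WithTop.mul_top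
      exact_mod_cast hq.ne'
    rw [this]
    simp
  | coe n =>
    rw [phi_coe]
    have h1 : ((k * p : ℕ) : WithTop ℤ) = (((k * p : ℕ) : ℤ) : WithTop ℤ) := rfl
    have h2 : (q : WithTop ℤ) * (n : WithTop ℤ) = (((q : ℤ) * n : ℤ) : WithTop ℤ) := by
      rw [WithTop.coe_mul]
      rfl
    rw [h1, h2, WithTop.coe_le_coe]
    have h3 : ((2 : ℝ) ^ p) ^ k = (2 : ℝ) ^ (((k * p : ℕ) : ℤ)) := by
      rw [zpow_natCast, ← pow_mul, mul_comm]
    rw [h3, ← zpow_add₀ (two_ne_zero)]
    constructor
    · intro h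
      apply zpow_le_one_of_nonpos₀ one_le_two
      linarith
    · intro h
      by_contra hlt
      have hlt : (q : ℤ) * n < ((k * p : ℕ) : ℤ) := not_le.mp hlt
      have : (1 : ℝ) < (2 : ℝ) ^ (-((q : ℤ) * n) + ((k * p : ℕ) : ℤ)) := by
        apply one_lt_zpow₀ one_lt_two
        linarith
      exact absurd h (not_le.mpr this)

end phi

section absV

variable {A K : Type u} [CommRing A] [IsDomain A] [Field K] [Algebra A K] [IsFractionRing A K]

/-- The absolute value `x ↦ 2^{-q v(x)}` on `A`. -/
noncomputable def absV (v : AddValuation K (WithTop ℤ)) (q : ℕ) : AbsoluteValue A ℝ where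
  toFun x := phi q (v (algebraMap A K x))
  map_mul' x y := by rw [map_mul, AddValuation.map_mul, phi_add]
  nonneg' x := phi_nonneg _ _
  eq_zero' x := by
    rw [phi_eq_zero_iff, AddValuation.top_iff, map_eq_zero_iff _ (IsFractionRing.injective A K)]
  add_le' x y := by
    rw [map_add]
    have h := AddValuation.map_add v (algebraMap A K x) (algebraMap A K y)
    have h2 := phi_anti q h
    rw [phi_min] at h2
    refine h2.trans (max_le ?_ ?_)
    · exact le_add_of_nonneg_right (phi_nonneg _ _)
    · exact le_add_of_nonneg_left (phi_nonneg _ _)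

theorem absV_apply (v : AddValuation K (WithTop ℤ)) (q : ℕ) (x : A) :
    absV v q x = phi q (v (algebraMap A K x)) := rfl

theorem absV_nonarch (v : AddValuation K (WithTop ℤ)) (q : ℕ) :
    IsNonarchimedean (absV (A := A) v q) := by
  intro x y
  rw [absV_apply, absV_apply, absV_apply, map_add]
  have h := AddValuation.map_add v (algebraMap A K x) (algebraMap A K y)
  have h2 := phi_anti q h
  rw [phi_min] at h2
  exact h2

end absV

section main

variable (A K : Type u) [CommRing A] [IsDomain A] [IsIntegrallyClosed A] [Field K] [Algebra A K]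
  [IsFractionRing A K]

theorem mem_rees_iff (ι : Type) (v : ι → AddValuation K (WithTop ℤ)) (p q : ι → ℕ)
    (hq : ∀ i, 0 < q i) (𝓕 : FiltBl.IdealFiltration A)
    (hF : ∀ (k : ℕ) (x : A), x ∈ 𝓕.F k ↔
      ∀ i, ((k * p i : ℕ) : WithTop ℤ) ≤ (q i : WithTop ℤ) * v i (algebraMap A K x))
    (f : A[X]) : f ∈ 𝓕.rees ↔ ∀ i, f.gaussNorm (absV (A := A) (v i) (q i)) ((2 : ℝ) ^ p i) ≤ 1 := by
  have hc : ∀ i, (0 : ℝ) ≤ (2 : ℝ) ^ p i := fun i => by positivity
  constructor
  · intro hf i
    obtain ⟨n, hn⟩ := f.exists_eq_gaussNorm (absV (A := A) (v i) (q i)) ((2 : ℝ) ^ p i)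
    rw [hn, absV_apply, ← le_iff (p i) (q i) (hq i)]
    exact (hF n _).mp (hf n) i
  · intro h n
    rw [hF]
    intro i
    rw [le_iff (p i) (q i) (hq i), ← absV_apply]
    exact (f.le_gaussNorm (absV (A := A) (v i) (q i)) (hc i) n).trans (h i)

theorem main (ι : Type) (v : ι → AddValuation K (WithTop ℤ)) (p q : ι → ℕ)
    (hq : ∀ i, 0 < q i) (𝓕 : FiltBl.IdealFiltration A)
    (hF : ∀ (k : ℕ) (x : A), x ∈ 𝓕.F k ↔
      ∀ i, ((k * p i : ℕ) : WithTop ℤ) ≤ (q i : WithTop ℤ) * v i (algebraMap A K x)) :
    IsIntegrallyClosed 𝓕.rees := by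
  have hin : IsIntegrallyClosedIn 𝓕.rees A[X] := by
    rw [isIntegrallyClosedIn_iff]
    refine ⟨Subtype.val_injective, ?_⟩
    intro z hz
    refine ⟨⟨z, ?_⟩, rfl⟩
    rw [mem_rees_iff A K ι v p q hq 𝓕 hF]
    intro i
    have hcpos : (0 : ℝ) < (2 : ℝ) ^ p i := by positivity
    have hna := absV_nonarch (A := A) (v i) (q i)
    have hone : (1 : A[X]).gaussNorm (absV (A := A) (v i) (q i)) ((2 : ℝ) ^ p i) = 1 := by
      rw [← Polynomial.C_1, Polynomial.gaussNorm_C, map_one]
    have hnegone : (-1 : A[X]).gaussNorm (absV (A := A) (v i) (q i)) ((2 : ℝ) ^ p i) = 1 := by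
      rw [← Polynomial.C_1, ← Polynomial.C_neg, Polynomial.gaussNorm_C, map_neg_eq_map, map_one]
    apply le_one_of_isIntegral (fun f : A[X] => f.gaussNorm (absV (A := A) (v i) (q i)) ((2 : ℝ) ^ p i))
      (Polynomial.gaussNorm_zero _ _) (Polynomial.gaussNorm_mul hna hcpos)
      (Polynomial.isNonarchimedean_gaussNorm _ hna hcpos.le)
      (fun f => f.gaussNorm_nonneg _ hcpos.le) ?_ hone ?_ z hz
    · intro f
      have : -f = -1 * f := by ring
      change (-f).gaussNorm _ _ = f.gaussNorm _ _
      rw [this, Polynomial.gaussNorm_mul hna hcpos, hnegone, one_mul]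
    · intro s
      exact (mem_rees_iff A K ι v p q hq 𝓕 hF s.1).mp s.2 i
  exact IsIntegrallyClosed.of_isIntegrallyClosed_of_isIntegrallyClosedIn (R := 𝓕.rees) (S := A[X])

end main

end Groth.Agent.Lib.R2H7.ReesClosed
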