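import Mathlib

/-!
# Algebra for reflexive modules in dimension at most one (helper7, round 2)

* `dim_cases` : trichotomy for a Krull dimension.
* `isPrincipalIdealRing_of_dim_lt_two` : a Noetherian integrally closed local domain of dimension
  `< 2` is a principal ideal ring.
* `free_of_isReflexive` : finite reflexive modules over a PID are free.
* `surjective_dual_eval_of_pid` : over a PID the biduality map of a finite module is surjective.
* `surjective_of_surjective_eval`, `injective_of_injective_eval` : transport to a `Q`-valued duality.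
-/

set_option autoImplicit false
set_option linter.style.haveILetI false
universe u

namespace Groth.Agent.Lib.R2H7.ReflAlg

theorem dim_cases (d : WithBot ℕ∞) : d ≤ 0 ∨ d = 1 ∨ (2 : WithBot ℕ∞) ≤ d := by
  induction d using WithBot.recBotCoe with
  | bot => exact Or.inl bot_le
  | coe d =>
    induction d using ENat.recTopCoe with
    | top =>
      right; right
      exact le_top
    | coe n =>
      rcases Nat.lt_or_ge n 1 with h | h
      · left
        have h0 : n = 0 := by omega
        subst h0
        exact le_refl _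
      · rcases Nat.lt_or_ge n 2 with h2 | h2
        · right; left
          have h1 : n = 1 := by omega
          subst h1
          rfl
        · right; right
          have h3 : ((2 : ℕ∞) : WithBot ℕ∞) ≤ ((n : ℕ∞) : WithBot ℕ∞) :=
            WithBot.coe_le_coe.2 (by exact_mod_cast h2)
          exact h3

theorem le_one_of_not_two_le (d : WithBot ℕ∞) (h : ¬ (2 : WithBot ℕ∞) ≤ d) : d ≤ 1 := by
  rcases dim_cases d with h0 | h1 | h2
  · exact h0.trans zero_le_one
  · exact h1.le
  · exact absurd h2 h

section PID

variable (R : Type*) [CommRing R] [IsDomain R] [IsNoetherianRing R] [IsLocalRing R]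
  [IsIntegrallyClosed R]

theorem isPrincipalIdealRing_of_dim_le_one (hdim : ringKrullDim R ≤ 1) :
    IsPrincipalIdealRing R := by
  haveI : Ring.KrullDimLE 1 R := Ring.krullDimLE_iff.2 (by exact_mod_cast hdim)
  have h4 : IsIntegrallyClosed R ∧
      ∀ P : Ideal R, P ≠ ⊥ → P.IsPrime → P = IsLocalRing.maximalIdeal R :=
    ⟨inferInstance, fun P hP hPp => IsLocalRing.eq_maximalIdeal (hPp.isMaximal_of_ne_bot hP)⟩
  exact ((tfae_of_isNoetherianRing_of_isLocalRing_of_isDomain (R := R)).out 0 3).2 h4

theorem isPrincipalIdealRing_of_dim_lt_two (hdim : ¬ (2 : WithBot ℕ∞) ≤ ringKrullDim R) :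
    IsPrincipalIdealRing R :=
  isPrincipalIdealRing_of_dim_le_one R (le_one_of_not_two_le _ hdim)

end PID

section Free

variable {R : Type*} [CommRing R] [IsDomain R] [IsPrincipalIdealRing R]
variable {P : Type*} [AddCommGroup P] [Module R P] [Module.Finite R P]

theorem free_of_isReflexive [Module.IsReflexive R P] : Module.Free R P :=
  Module.free_of_finite_type_torsion_free'

/-- over a PID the biduality map of a finite module is surjective. -/
theorem surjective_dual_eval_of_pid : Function.Surjective (Module.Dual.eval R P) := by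
  classical
  let T : Submodule R P := Submodule.torsion R P
  haveI : Module.IsTorsionFree R (P ⧸ T) :=
    inferInstanceAs (Module.IsTorsionFree R (P ⧸ Submodule.torsion R P))
  haveI : Module.Free R (P ⧸ T) := Module.free_of_finite_type_torsion_free'
  haveI : Module.IsReflexive R (P ⧸ T) := inferInstance
  intro l
  let l' : Module.Dual R (Module.Dual R (P ⧸ T)) := l.comp (T.mkQ.dualMap)
  obtain ⟨q, hq⟩ := (Module.bijective_dual_eval R (P ⧸ T)).2 l'
  obtain ⟨p, rfl⟩ := T.mkQ_surjective q
  refine ⟨p, ?_⟩
  apply LinearMap.ext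
  intro g
  have hg : T ≤ LinearMap.ker g := by
    intro t ht
    obtain ⟨a, ha⟩ := (Submodule.mem_torsion_iff t).1 ht
    have h1 : (a : R) * g t = 0 := by
      rw [← smul_eq_mul, ← map_smul]
      have : (a : R) • t = 0 := ha
      rw [this, map_zero]
    rcases mul_eq_zero.1 h1 with h2 | h2
    · exact absurd h2 (nonZeroDivisors.coe_ne_zero a)
    · exact h2
  let gb : Module.Dual R (P ⧸ T) := T.liftQ g hg
  have hgb : g = T.mkQ.dualMap gb := by
    apply LinearMap.ext
    intro v
    rfl
  have h2 : l' gb = gb (T.mkQ p) := by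
    rw [← hq]
    rfl
  calc Module.Dual.eval R P p g = gb (T.mkQ p) := rfl
    _ = l' gb := h2.symm
    _ = l (T.mkQ.dualMap gb) := rfl
    _ = l g := by rw [← hgb]

end Free

section Transport

variable {R P Q D : Type*} [CommRing R] [AddCommGroup P] [Module R P]
  [AddCommGroup Q] [Module R Q] [AddCommGroup D] [Module R D]

/-- linear algebra: the `Q`-valued biduality map is the usual one up to an equivalence. -/
theorem exists_equiv_comp (ι : R ≃ₗ[R] Q)
    (e : D →ₗ[R] (P →ₗ[R] Q)) (he : Function.Bijective e) (β : P →ₗ[R] (D →ₗ[R] Q))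
    (hβ : ∀ v θ, β v θ = e θ v) :
    ∃ A : (Module.Dual R P →ₗ[R] R) ≃ₗ[R] (D →ₗ[R] Q),
      (β : P → (D →ₗ[R] Q)) = A ∘ (Module.Dual.eval R P) := by
  let E : D ≃ₗ[R] (P →ₗ[R] Q) := LinearEquiv.ofBijective e he
  let c : (P →ₗ[R] Q) ≃ₗ[R] (P →ₗ[R] R) := LinearEquiv.congrRight ι.symm
  let T : D ≃ₗ[R] Module.Dual R P := E.trans c
  let A : (Module.Dual R P →ₗ[R] R) ≃ₗ[R] (D →ₗ[R] Q) := LinearEquiv.arrowCongr T.symm ι
  refine ⟨A, funext fun v => ?_⟩
  apply LinearMap.ext
  intro θ
  rw [hβ]
  change e θ v = ι (Module.Dual.eval R P v (T θ))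
  change e θ v = ι (ι.symm (e θ v))
  rw [LinearEquiv.apply_symm_apply]

theorem surjective_of_surjective_eval (ι : R ≃ₗ[R] Q)
    (e : D →ₗ[R] (P →ₗ[R] Q)) (he : Function.Bijective e) (β : P →ₗ[R] (D →ₗ[R] Q))
    (hβ : ∀ v θ, β v θ = e θ v) (h : Function.Surjective (Module.Dual.eval R P)) :
    Function.Surjective β := by
  obtain ⟨A, hA⟩ := exists_equiv_comp ι e he β hβ
  rw [hA]
  exact A.surjective.comp h

end Transport

end Groth.Agent.Lib.R2H7.ReflAlg
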