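import Mathlib
import Groth.Agent.Lib.H6xKProjB
set_option backward.isDefEq.respectTransparency.types false

/-!
# helper7: a retract of a finite locally free module is finite locally free (any scheme)

The affine case is helper6's `H6xKProj.exists_retract_freeMod` with helper20's
`LocFree.isFinLocFree_of_retract`; the general case follows on an affine open cover
(`isFinLocFree_of_restrict_cover`, copied from helper6's `H6xPerfAffD` to keep the import closure small).
-/

set_option autoImplicit false
set_option linter.style.haveILetI false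

universe u

open CategoryTheory CategoryTheory.Limits AlgebraicGeometry TopologicalSpace Opposite

namespace Groth.Agent.Lib.R2H7.RetractLF

variable {X : Scheme.{u}}

/-- finite local freeness can be checked along arbitrary open immersions -/
theorem isFinLocFree_of_exists_openImmersion (M : X.Modules)
    (h : ∀ x : X, ∃ (Z : Scheme.{u}) (g : Z ⟶ X) (_ : IsOpenImmersion g) (n : ℕ),
      x ∈ Set.range g.base ∧ Nonempty (M.restrict g ≅ FlatMod.freeMod Z n)) :
    FlatMod.IsFinLocFree M := by
  intro x
  obtain ⟨Z, g, hg, n, hx, ⟨e⟩⟩ := h x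
  refine ⟨g.opensRange, n, hx, ⟨?_⟩⟩
  exact (Scheme.Modules.restrictFunctorCongr g.isoOpensRange_inv_comp.symm).app M ≪≫
    (Scheme.Modules.restrictFunctorComp g.isoOpensRange.inv g).app M ≪≫
    (Scheme.Modules.restrictFunctor g.isoOpensRange.inv).mapIso e ≪≫
    Groth.Agent.H3.FLF.restrictFreeMod g.isoOpensRange.inv n

theorem isFinLocFree_of_restrict_cover (M : X.Modules)
    (h : ∀ x : X, ∃ W : X.Opens, x ∈ W ∧ FlatMod.IsFinLocFree (M.restrict W.ι)) :
    FlatMod.IsFinLocFree M := by
  refine isFinLocFree_of_exists_openImmersion M (fun x => ?_)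
  obtain ⟨W, hxW, hW⟩ := h x
  obtain ⟨U', n, hxU', ⟨e⟩⟩ := hW ⟨x, hxW⟩
  refine ⟨U', U'.ι ≫ W.ι, inferInstance, n, ⟨⟨⟨x, hxW⟩, hxU'⟩, rfl⟩, ⟨?_⟩⟩
  exact (Scheme.Modules.restrictFunctorComp U'.ι W.ι).app M ≪≫ e

/-- on an affine scheme, a retract of a finite locally free module is finite locally free -/
theorem isFinLocFree_of_retract_affine [IsAffine X] {M P : X.Modules}
    (hP : FlatMod.IsFinLocFree P) (s : M ⟶ P) (r : P ⟶ M) (hsr : s ≫ r = 𝟙 M) :
    FlatMod.IsFinLocFree M := by
  obtain ⟨n, s', r', h'⟩ := Groth.Agent.Lib.H6xKProj.exists_retract_freeMod P hP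
  refine Groth.Agent.Lib.Helper20.LocFree.isFinLocFree_of_retract (s ≫ s') (r' ≫ r) ?_
  rw [Category.assoc, ← Category.assoc s' r' r, h', Category.id_comp, hsr]

/-- **a retract of a finite locally free module is finite locally free** -/
theorem isFinLocFree_of_retract {M P : X.Modules} (hP : FlatMod.IsFinLocFree P) (s : M ⟶ P)
    (r : P ⟶ M) (hsr : s ≫ r = 𝟙 M) : FlatMod.IsFinLocFree M := by
  refine isFinLocFree_of_restrict_cover M (fun x => ?_)
  obtain ⟨W, hW, hxW, -⟩ := exists_isAffineOpen_mem_and_subset (x := x) (U := ⊤) trivial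
  haveI : IsAffine (W : Scheme.{u}) := hW
  refine ⟨W, hxW, ?_⟩
  exact isFinLocFree_of_retract_affine
    (Groth.Agent.Lib.H6xPerfLoc.isFinLocFree_restrict W.ι P hP)
    ((Scheme.Modules.restrictFunctor W.ι).map s) ((Scheme.Modules.restrictFunctor W.ι).map r)
    (by rw [← CategoryTheory.Functor.map_comp, hsr, CategoryTheory.Functor.map_id])

/-- restriction to an open subscheme of a retract -/
theorem isFinLocFree_restrict_of_retract {M P : X.Modules} (s : M ⟶ P) (r : P ⟶ M)
    (hsr : s ≫ r = 𝟙 M) (U : X.Opens) (hP : FlatMod.IsFinLocFree (P.restrict U.ι)) :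
    FlatMod.IsFinLocFree (M.restrict U.ι) :=
  isFinLocFree_of_retract hP ((Scheme.Modules.restrictFunctor U.ι).map s)
    ((Scheme.Modules.restrictFunctor U.ι).map r)
    (by rw [← CategoryTheory.Functor.map_comp, hsr, CategoryTheory.Functor.map_id])

end Groth.Agent.Lib.R2H7.RetractLF
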