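import Mathlib
import Groth.Prelude.Def_RefHull
import Groth.Prelude.Def_FlatMod2
import Groth.Prelude.Def_Pi1
import Groth.Agent.Lib.R2LeadReflB
import Groth.Agent.Lib.R2LeadReflC
import Groth.Agent.Lib.R2LeadHartB
import Groth.Agent.Lib.Helper2LocFree
import Groth.Agent.Lib.Helper23UnitStalk
import Groth.Agent.Lib.R2H7RetractLF
import Groth.Agent.Lib.R2H7ReflAlg
set_option backward.isDefEq.respectTransparency.types false

/-!
# Reflexive sheaves: extension from big opens and extension of generic maps (helper7, round 2)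

Everything is stated relative to a Hartogs hypothesis `Hartogs E` (restriction maps of `E` are
bijective across closed subsets of codimension at least two), so that this file does not depend on
the proof of Hartogs' theorem for reflexive sheaves.
-/

set_option autoImplicit false
set_option linter.style.haveILetI false
set_option linter.unusedSectionVars false
universe u

open AlgebraicGeometry CategoryTheory TopologicalSpace Opposite RefHull

noncomputable section

namespace Groth.Agent.Lib.R2H7.ReflExt

open Groth.Agent.Lib.R2H7.ReflAlg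

variable {X : Scheme.{u}}

/-! ### Generalities on sections and stalks -/

section Gen

/-- the abelian sheaf underlying a module -/
abbrev sh (F : X.Modules) : TopCat.Sheaf Ab X := ⟨F.presheaf, F.isSheaf⟩

theorem bijective_map_congr (F : X.Modules) {W A B : X.Opens} (h : A = B) (hA : A ≤ W)
    (hB : B ≤ W) :
    Function.Bijective (F.presheaf.map (homOfLE hA).op) ↔
      Function.Bijective (F.presheaf.map (homOfLE hB).op) := by
  subst h
  rfl

/-- the unit of the restriction adjunction is an isomorphism iff all restriction maps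
`F(W) → F(W ⊓ U)` are bijective. -/
theorem isIso_unit_iff (F : X.Modules) (U : X.Opens) :
    IsIso ((Scheme.Modules.restrictAdjunction U.ι).unit.app F) ↔
      ∀ W : X.Opens,
        Function.Bijective (F.presheaf.map (homOfLE (inf_le_left : W ⊓ U ≤ W)).op) := by
  rw [Scheme.Modules.Hom.isIso_iff_isIso_app]
  refine forall_congr' fun W => ?_
  rw [Scheme.Modules.restrictAdjunction_unit_app_app, ConcreteCategory.isIso_iff_bijective]
  have hEq : U.ι ''ᵁ (U.ι ⁻¹ᵁ W) = W ⊓ U := by
    rw [Scheme.Hom.image_preimage_eq_opensRange_inf, Scheme.Opens.opensRange_ι, inf_comm]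
  exact bijective_map_congr F hEq _ _

/-- a morphism which is bijective on the stalks at the points of `V` is bijective on `V`. -/
theorem bijective_app_of_stalk_bijective {F G : X.Modules} (φ : F ⟶ G) (V : X.Opens)
    (h : ∀ x ∈ V, Function.Bijective (stalkMapₗ φ x)) : Function.Bijective (φ.app V) :=
  TopCat.Presheaf.app_bijective_of_stalkFunctor_map_bijective
    (F := sh F) (G := sh G) ⟨φ.mapPresheaf⟩ V h

theorem res_app {F G : X.Modules} (φ : F ⟶ G) {U V : X.Opens} (i : V ⟶ U) (s : Γ(F, U)) :
    G.presheaf.map i.op (φ.app U s) = φ.app V (F.presheaf.map i.op s) := by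
  have := φ.mapPresheaf.naturality i.op
  exact (congrArg (fun ψ => ψ s) this).symm

/-- if `F` and `G` both extend uniquely from `V` to `W` and `φ` is bijective over `V`, it is
bijective over `W`. -/
theorem bijective_app_of_extend {F G : X.Modules} (φ : F ⟶ G) {W V : X.Opens} (hVW : V ≤ W)
    (hF : Function.Bijective (F.presheaf.map (homOfLE hVW).op))
    (hG : Function.Bijective (G.presheaf.map (homOfLE hVW).op))
    (hV : Function.Bijective (φ.app V)) : Function.Bijective (φ.app W) := by
  have hcomm : ∀ s : Γ(F, W), G.presheaf.map (homOfLE hVW).op (φ.app W s) =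
      φ.app V (F.presheaf.map (homOfLE hVW).op s) := fun s => res_app φ (homOfLE hVW) s
  constructor
  · intro s s' hss
    apply hF.1
    apply hV.1
    rw [← hcomm, ← hcomm, hss]
  · intro t
    obtain ⟨s₁, hs₁⟩ := hV.2 (G.presheaf.map (homOfLE hVW).op t)
    obtain ⟨s, hs⟩ := hF.2 s₁
    refine ⟨s, hG.1 ?_⟩
    rw [hcomm, hs, hs₁]

/-- naturality of specialization maps. -/
theorem stalkMapₗ_specializes {F G : X.Modules} (φ : F ⟶ G) {x y : X} (h : y ⤳ x)
    (v : F.presheaf.stalk x) :
    stalkMapₗ φ y ((F.presheaf.stalkSpecializes h).hom v) =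
      (G.presheaf.stalkSpecializes h).hom (stalkMapₗ φ x v) := by
  obtain ⟨U, hx, s, rfl⟩ := TopCat.Presheaf.exists_germ_eq F.presheaf v
  have e1 : (F.presheaf.stalkSpecializes h).hom (F.presheaf.germ U x hx s) =
      F.presheaf.germ U y (h.mem_open U.isOpen hx) s :=
    TopCat.Presheaf.germ_stalkSpecializes_apply F.presheaf hx h s
  rw [e1, stalkMapₗ_germ, stalkMapₗ_germ]
  exact (TopCat.Presheaf.germ_stalkSpecializes_apply G.presheaf hx h _).symm

/-- construct a morphism of modules from its maps on sections. -/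
def homOfSections (G E : X.Modules) (f : ∀ U : X.Opens, Γ(G, U) →+ Γ(E, U))
    (hnat : ∀ {U V : X.Opens} (i : V ⟶ U) (s : Γ(G, U)),
      f V (G.presheaf.map i.op s) = E.presheaf.map i.op (f U s))
    (hsmul : ∀ (U : X.Opens) (r : Γ(X, U)) (s : Γ(G, U)), f U (r • s) = r • f U s) : G ⟶ E :=
  ⟨PresheafOfModules.homMk
    { app := fun U => AddCommGrpCat.ofHom (f U.unop)
      naturality := fun {U V} i => by
        ext s
        exact hnat i.unop s }
    (fun U r s => hsmul U.unop r s)⟩

theorem homOfSections_app (G E : X.Modules) (f : ∀ U : X.Opens, Γ(G, U) →+ Γ(E, U))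
    (hnat : ∀ {U V : X.Opens} (i : V ⟶ U) (s : Γ(G, U)),
      f V (G.presheaf.map i.op s) = E.presheaf.map i.op (f U s))
    (hsmul : ∀ (U : X.Opens) (r : Γ(X, U)) (s : Γ(G, U)), f U (r • s) = r • f U s)
    (U : X.Opens) (s : Γ(G, U)) : (homOfSections G E f hnat hsmul).app U s = f U s := rfl

end Gen

/-! ### Sections and generic germs on an integral scheme -/

section Generic

variable [IsIntegral X]

/-- the specialization map from the stalk at `x` to the generic stalk. -/
abbrev spg (E : X.Modules) (x : X) :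
    E.presheaf.stalk x →+ E.presheaf.stalk (genericPoint X) :=
  (E.presheaf.stalkSpecializes (genericPoint_specializes x)).hom

theorem generic_mem {W : X.Opens} {x : X} (hx : x ∈ W) : genericPoint X ∈ W :=
  (genericPoint_specializes x).mem_open W.isOpen hx

theorem spg_germ (E : X.Modules) {W : X.Opens} {x : X} (hx : x ∈ W) (t : Γ(E, W)) :
    spg E x (E.presheaf.germ W x hx t) = E.presheaf.germ W (genericPoint X) (generic_mem hx) t :=
  TopCat.Presheaf.germ_stalkSpecializes_apply E.presheaf hx (genericPoint_specializes x) t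

theorem spg_generic (E : X.Modules) (τ : E.presheaf.stalk (genericPoint X)) :
    spg E (genericPoint X) τ = τ := by
  have h : E.presheaf.stalkSpecializes (genericPoint_specializes (genericPoint X)) = 𝟙 _ :=
    TopCat.Presheaf.stalkSpecializes_refl E.presheaf (genericPoint X)
  change (E.presheaf.stalkSpecializes (genericPoint_specializes (genericPoint X))).hom τ = τ
  rw [h]
  rfl

/-- injectivity of all specialization maps to the generic stalk. -/
def SpInj (E : X.Modules) : Prop :=
  ∀ (x : X) (v : E.presheaf.stalk x), spg E x v = 0 → v = 0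

theorem SpInj.injective {E : X.Modules} (h : SpInj E) (x : X) : Function.Injective (spg E x) := by
  rw [injective_iff_map_eq_zero]
  exact h x

/-- sections with the same generic germ are equal. -/
theorem eq_of_generic {E : X.Modules} (hE : SpInj E) {W : X.Opens} (t t' : Γ(E, W))
    (h : ∀ hη : genericPoint X ∈ W,
      E.presheaf.germ W (genericPoint X) hη t = E.presheaf.germ W (genericPoint X) hη t') :
    t = t' := by
  refine TopCat.Presheaf.section_ext (sh E) W t t' (fun x hx => ?_)
  apply hE.injective x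
  rw [spg_germ, spg_germ]
  exact h (generic_mem hx)

/-- (G) gluing by generic germs: an element of the generic stalk which comes from the stalk at
every point of `W` is the generic germ of a section over `W`. -/
theorem exists_section_of_generic {E : X.Modules} (hE : SpInj E) (W : X.Opens)
    (τ : E.presheaf.stalk (genericPoint X))
    (h : ∀ x ∈ W, ∃ v : E.presheaf.stalk x, spg E x v = τ) :
    ∃ t : Γ(E, W), ∀ (x : X) (hx : x ∈ W), spg E x (E.presheaf.germ W x hx t) = τ := by
  classical
  have hloc : ∀ x : W, ∃ (V : X.Opens) (_ : x.1 ∈ V) (_ : V ≤ W) (s : Γ(E, V)),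
      ∀ (y : X) (hy : y ∈ V), spg E y (E.presheaf.germ V y hy s) = τ := by
    intro x
    obtain ⟨v, hv⟩ := h x.1 x.2
    obtain ⟨V, hxV, s, rfl⟩ := TopCat.Presheaf.exists_germ_eq E.presheaf v
    refine ⟨V ⊓ W, ⟨hxV, x.2⟩, inf_le_right,
      E.presheaf.map (homOfLE (inf_le_left : V ⊓ W ≤ V)).op s, fun y hy => ?_⟩
    rw [TopCat.Presheaf.germ_res_apply, spg_germ]
    rw [spg_germ] at hv
    exact hv
  choose V hxV hVW s hs using hloc
  have hcompat : TopCat.Presheaf.IsCompatible E.presheaf V s := by
    intro i j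
    refine TopCat.Presheaf.section_ext (sh E) _ _ _ (fun y hy => ?_)
    apply hE.injective y
    rw [TopCat.Presheaf.germ_res_apply, TopCat.Presheaf.germ_res_apply, hs, hs]
  have hcover : W ≤ iSup V := by
    intro x hx
    exact Opens.mem_iSup.mpr ⟨⟨x, hx⟩, hxV ⟨x, hx⟩⟩
  obtain ⟨t, ht, -⟩ := (sh E).existsUnique_gluing' V W (fun i => homOfLE (hVW i)) hcover s hcompat
  refine ⟨t, fun x hx => ?_⟩
  have h1 := hs ⟨x, hx⟩ x (hxV ⟨x, hx⟩)
  rw [← ht ⟨x, hx⟩] at h1
  rw [← h1]
  congr 1
  exact (TopCat.Presheaf.germ_res_apply E.presheaf (homOfLE (hVW ⟨x, hx⟩)) x (hxV ⟨x, hx⟩) t).symm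

/-- a point with local ring of dimension `≤ 0` is the generic point. -/
theorem eq_genericPoint_of_dim_le_zero {x : X}
    (hdim : ringKrullDim (X.presheaf.stalk x) ≤ 0) : x = genericPoint X := by
  haveI : Ring.KrullDimLE 0 (X.presheaf.stalk x) :=
    Ring.krullDimLE_iff.2 (by exact_mod_cast hdim)
  obtain ⟨p₀, hp₀⟩ : genericPoint X ∈ Set.range (X.fromSpecStalk x) := by
    rw [Scheme.range_fromSpecStalk]; exact genericPoint_specializes x
  haveI := p₀.2
  have hmax : p₀.asIdeal.IsMaximal := inferInstance
  have h3 : p₀ = IsLocalRing.closedPoint (X.presheaf.stalk x) :=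
    PrimeSpectrum.ext (IsLocalRing.eq_maximalIdeal hmax)
  rw [← hp₀, h3]
  exact Scheme.fromSpecStalk_closedPoint.symm

/-- the Hartogs property of a module: sections extend uniquely across closed subsets all of whose
points have local rings of dimension at least two. -/
def Hartogs (E : X.Modules) : Prop :=
  ∀ (U V : X.Opens) (hVU : V ≤ U),
    (∀ x ∈ U, x ∉ V → (2 : WithBot ℕ∞) ≤ ringKrullDim (X.presheaf.stalk x)) →
    Function.Bijective (E.presheaf.map (homOfLE hVU).op)

/-- (G)+(H): an element of the generic stalk which comes from the stalk at every point of `W` of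
codimension one is the generic germ of a section over `W`. -/
theorem exists_section_of_codim_one {E : X.Modules} (hE : SpInj E) (hH : Hartogs E) (W : X.Opens)
    (τ : E.presheaf.stalk (genericPoint X))
    (h : ∀ x ∈ W, ringKrullDim (X.presheaf.stalk x) = 1 →
      ∃ v : E.presheaf.stalk x, spg E x v = τ) :
    ∃ t : Γ(E, W), ∀ (x : X) (hx : x ∈ W), spg E x (E.presheaf.germ W x hx t) = τ := by
  have hopen : IsOpen {x : X | x ∈ W ∧ ∃ v : E.presheaf.stalk x, spg E x v = τ} := by
    rw [isOpen_iff_forall_mem_open]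
    rintro x ⟨hxW, v, hv⟩
    obtain ⟨V, hxV, s, rfl⟩ := TopCat.Presheaf.exists_germ_eq E.presheaf v
    refine ⟨((V ⊓ W : X.Opens) : Set X), ?_, (V ⊓ W).isOpen, ⟨hxV, hxW⟩⟩
    rintro y ⟨hyV, hyW⟩
    refine ⟨hyW, E.presheaf.germ V y hyV s, ?_⟩
    rw [spg_germ]
    rw [spg_germ] at hv
    exact hv
  let V : X.Opens := ⟨_, hopen⟩
  have hVW : V ≤ W := fun x hx => hx.1
  obtain ⟨tV, htV⟩ := exists_section_of_generic hE V τ (fun x hx => hx.2)
  have hdim : ∀ x ∈ W, x ∉ V → (2 : WithBot ℕ∞) ≤ ringKrullDim (X.presheaf.stalk x) := by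
    intro x hxW hxV
    rcases dim_cases (ringKrullDim (X.presheaf.stalk x)) with h0 | h1 | h2
    · exfalso
      obtain rfl := eq_genericPoint_of_dim_le_zero h0
      exact hxV ⟨hxW, τ, spg_generic E τ⟩
    · exfalso
      exact hxV ⟨hxW, h x hxW h1⟩
    · exact h2
  obtain ⟨t, ht⟩ := (hH W V hVW hdim).2 tV
  refine ⟨t, fun x hx => ?_⟩
  have hηV : genericPoint X ∈ V := ⟨generic_mem hx, τ, spg_generic E τ⟩
  have h1 := htV (genericPoint X) hηV
  rw [spg_generic] at h1
  rw [spg_germ, ← h1, ← ht]
  exact (TopCat.Presheaf.germ_res_apply E.presheaf (homOfLE hVW) (genericPoint X) hηV t).symm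

end Generic

/-! ### Reflexive modules -/

section Refl

open Groth.Agent.Lib.R2Lead.ReflB Groth.Agent.Lib.R2Lead.ReflC

variable [IsIntegral X] [IsLocallyNoetherian X]

theorem isReflexive_structureModule' : RefHull.IsReflexive (Coh.structureModule X) := by
  have h : RefHull.IsReflexive (Coh.structureModule X) ↔
      ∀ x : ↥X, RefHull.IsReflexiveAt (Coh.structureModule X) x :=
    (tfae (Coh.structureModule X) (isCoh_structureModule X)).out 0 1
  rw [h]
  intro x
  unfold IsReflexiveAt
  exact Module.equiv (Groth.Agent.Lib.Helper23.UnitStalk.unitStalkEquiv x)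

theorem isCoh_ddual (F : X.Modules) (hF : Coh.IsCoh F) : Coh.IsCoh (ddual F) :=
  isCoh_dual (dual F) (isCoh_dual F hF)

theorem isReflexive_ddual (F : X.Modules) (hF : Coh.IsCoh F) : RefHull.IsReflexive (ddual F) :=
  isReflexive_homSh (dual F) (Coh.structureModule X) (isCoh_dual F hF) (isCoh_structureModule X)
    isReflexive_structureModule'

theorem isReflexiveAt_ddual (F : X.Modules) (hF : Coh.IsCoh F) (x : X) :
    Module.IsReflexive (X.presheaf.stalk x) ((ddual F).presheaf.stalk x) := by
  have h : RefHull.IsReflexive (ddual F) ↔ ∀ x : ↥X, RefHull.IsReflexiveAt (ddual F) x :=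
    (tfae (ddual F) (isCoh_ddual F hF)).out 0 1
  exact h.1 (isReflexive_ddual F hF) x

/-- specialization maps to the generic stalk are injective for quasi-coherent modules with
reflexive stalks. -/
theorem spInj_of_reflexive (E : X.Modules) [E.IsQuasicoherent]
    (h : ∀ x : X, Module.IsReflexive (X.presheaf.stalk x) (E.presheaf.stalk x)) : SpInj E := by
  intro x v hv
  refine Groth.Agent.Lib.R2LeadHartB.stalkSpecializes_injective E (fun y a w haw => ?_)
    (genericPoint_specializes x) v hv
  haveI := h y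
  exact (Module.isTorsionFree_iff_smul_eq_zero.1 inferInstance) a w haw

theorem spInj_ddual (F : X.Modules) (hF : Coh.IsCoh F) : SpInj (ddual F) := by
  haveI := (isCoh_ddual F hF).1
  exact spInj_of_reflexive (ddual F) (isReflexiveAt_ddual F hF)

/-- over a local ring which is a principal ideal domain the stalk of `F ⟶ F^**` is surjective -/
theorem surjective_stalkMap_bidualMap (F : X.Modules) (hF : Coh.IsCoh F) (x : X)
    [IsPrincipalIdealRing (X.presheaf.stalk x)] :
    Function.Surjective (stalkMapₗ (bidualMap F) x) := by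
  have he := Groth.Agent.Lib.Helper8RefHullFP.evalStalk_bijective_of_isFP F (Coh.structureModule X)
    (isFP_of_isCoh F hF) x
  have he' := Groth.Agent.Lib.Helper8RefHullFP.evalStalk_bijective_of_isFP (dual F)
    (Coh.structureModule X) (isFP_of_isCoh (dual F) (isCoh_dual F hF)) x
  haveI := finite_stalk F hF x
  have h1 : Function.Surjective (bidualAt F x) :=
    surjective_of_surjective_eval (Groth.Agent.Lib.Helper23.UnitStalk.unitStalkEquiv x)
      (evalStalk F (Coh.structureModule X) x) he (bidualAt F x)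
      (fun v θ => bidualAt_apply F x v θ) surjective_dual_eval_of_pid
  have hfun : (bidualAt F x : F.presheaf.stalk x → _) =
      (evalStalk (dual F) (Coh.structureModule X) x) ∘ (stalkMapₗ (bidualMap F) x) :=
    funext fun v => (evalStalk_stalkMap_bidualMap F x v).symm
  rw [hfun] at h1
  exact (Function.Surjective.of_comp_iff' he' _).1 h1

theorem isReflexiveAt_genericPoint (F : X.Modules) (hF : Coh.IsCoh F) :
    IsReflexiveAt F (genericPoint X) := by
  unfold IsReflexiveAt
  haveI := finite_stalk F hF (genericPoint X)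
  have hf : IsField (X.presheaf.stalk (genericPoint X)) :=
    isField_stalk_of_closure_mem_irreducibleComponents X _
      (by simp [irreducibleComponents_eq_singleton])
  letI := hf.toField
  infer_instance

theorem bijective_stalkMap_bidualMap_generic (F : X.Modules) (hF : Coh.IsCoh F) :
    Function.Bijective (stalkMapₗ (bidualMap F) (genericPoint X)) :=
  (isReflexiveAt_iff F hF _).1 (isReflexiveAt_genericPoint F hF)

end Refl

/-! ### Extending a map of generic stalks to a morphism into the reflexive hull -/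

section Extend

variable [IsIntegral X] [IsLocallyNoetherian X] (F G : X.Modules)
  (T : G.presheaf.stalk (genericPoint X) →ₗ[X.presheaf.stalk (genericPoint X)]
    F.presheaf.stalk (genericPoint X))

/-- the generic germ which the image of the section `s` must have. -/
def tau {W : X.Opens} (hη : genericPoint X ∈ W) (s : Γ(G, W)) :
    (ddual F).presheaf.stalk (genericPoint X) :=
  stalkMapₗ (bidualMap F) (genericPoint X) (T (G.presheaf.germ W (genericPoint X) hη s))

theorem exists_section (hE : SpInj (ddual F)) (hH : Hartogs (ddual F))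
    (hT : ∀ x : X, ringKrullDim (X.presheaf.stalk x) = 1 →
      Set.MapsTo T (Set.range (spg G x)) (Set.range (spg F x)))
    (W : X.Opens) (s : Γ(G, W)) :
    ∃ t : Γ(ddual F, W), ∀ hη : genericPoint X ∈ W,
      (ddual F).presheaf.germ W (genericPoint X) hη t = tau F G T hη s := by
  by_cases hη : genericPoint X ∈ W
  · obtain ⟨t, ht⟩ := exists_section_of_codim_one hE hH W (tau F G T hη s)
      (fun x hx hdim => by
        have h1 : G.presheaf.germ W (genericPoint X) hη s ∈ Set.range (spg G x) :=
          ⟨G.presheaf.germ W x hx s, spg_germ G hx s⟩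
        obtain ⟨f, hf⟩ := hT x hdim h1
        refine ⟨stalkMapₗ (bidualMap F) x f, ?_⟩
        unfold tau
        rw [← hf]
        exact (stalkMapₗ_specializes (bidualMap F) (genericPoint_specializes x) f).symm)
    refine ⟨t, fun hη' => ?_⟩
    have h2 := ht (genericPoint X) hη
    rw [spg_germ] at h2
    exact h2
  · exact ⟨0, fun hη' => absurd hη' hη⟩

theorem exists_hom (hE : SpInj (ddual F)) (hH : Hartogs (ddual F))
    (hT : ∀ x : X, ringKrullDim (X.presheaf.stalk x) = 1 →
      Set.MapsTo T (Set.range (spg G x)) (Set.range (spg F x))) :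
    ∃ ψ : G ⟶ ddual F, stalkMapₗ ψ (genericPoint X) =
      (stalkMapₗ (bidualMap F) (genericPoint X)).comp T := by
  choose f hf using exists_section F G T hE hH hT
  have hadd : ∀ (W : X.Opens) (s s' : Γ(G, W)), f W (s + s') = f W s + f W s' := by
    intro W s s'
    apply eq_of_generic hE
    intro hη
    rw [hf, map_add, hf, hf]
    unfold tau
    rw [map_add, map_add, map_add]
  let fh : ∀ W : X.Opens, Γ(G, W) →+ Γ(ddual F, W) := fun W => AddMonoidHom.mk' (f W) (hadd W)
  have hnat : ∀ {U V : X.Opens} (i : V ⟶ U) (s : Γ(G, U)),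
      fh V (G.presheaf.map i.op s) = (ddual F).presheaf.map i.op (fh U s) := by
    intro U V i s
    apply eq_of_generic hE
    intro hη
    change (ddual F).presheaf.germ V _ hη (f V (G.presheaf.map i.op s)) =
      (ddual F).presheaf.germ V _ hη ((ddual F).presheaf.map i.op (f U s))
    rw [hf, TopCat.Presheaf.germ_res_apply, hf]
    unfold tau
    rw [TopCat.Presheaf.germ_res_apply]
  have hsmul : ∀ (U : X.Opens) (r : Γ(X, U)) (s : Γ(G, U)), fh U (r • s) = r • fh U s := by
    intro U r s
    apply eq_of_generic hE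
    intro hη
    change (ddual F).presheaf.germ U _ hη (f U (r • s)) =
      (ddual F).presheaf.germ U _ hη (r • f U s)
    rw [hf, Mero.germ_smul, hf]
    unfold tau
    rw [Mero.germ_smul, map_smul, map_smul]
  refine ⟨homOfSections G (ddual F) fh hnat hsmul, ?_⟩
  apply LinearMap.ext
  intro v
  obtain ⟨W, hη, s, rfl⟩ := TopCat.Presheaf.exists_germ_eq G.presheaf v
  rw [stalkMapₗ_germ, homOfSections_app]
  exact hf W s hη

theorem mapsTo_of_hom (ψ : G ⟶ ddual F)
    (hψ : stalkMapₗ ψ (genericPoint X) = (stalkMapₗ (bidualMap F) (genericPoint X)).comp T)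
    (x : X) (hsurj : Function.Surjective (stalkMapₗ (bidualMap F) x))
    (hinj : Function.Injective (stalkMapₗ (bidualMap F) (genericPoint X))) :
    Set.MapsTo T (Set.range (spg G x)) (Set.range (spg F x)) := by
  rintro _ ⟨g, rfl⟩
  obtain ⟨f, hf⟩ := hsurj (stalkMapₗ ψ x g)
  refine ⟨f, hinj ?_⟩
  have h1 := stalkMapₗ_specializes (bidualMap F) (genericPoint_specializes x) f
  have h2 := stalkMapₗ_specializes ψ (genericPoint_specializes x) g
  rw [hf, ← h2, hψ] at h1
  exact h1

end Extend

/-! ### The locally free locus -/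

section FreeLocus

open Groth.Agent.Lib.R2Lead.ReflB Groth.Agent.Lib.R2Lead.ReflC

/-- the locus where `F` is free of finite rank -/
def freeLocus (F : X.Modules) : X.Opens :=
  sSup {V : X.Opens | ∃ n : ℕ, Nonempty (F.restrict V.ι ≅ FlatMod.freeMod (↑V) n)}

theorem mem_freeLocus_iff (F : X.Modules) (x : X) :
    x ∈ freeLocus F ↔ ∃ (V : X.Opens) (n : ℕ), x ∈ V ∧
      Nonempty (F.restrict V.ι ≅ FlatMod.freeMod (↑V) n) := by
  unfold freeLocus
  rw [Opens.mem_sSup]
  constructor
  · rintro ⟨V, ⟨n, hn⟩, hx⟩
    exact ⟨V, n, hx, hn⟩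
  · rintro ⟨V, n, hx, hn⟩
    exact ⟨V, ⟨n, hn⟩, hx⟩

theorem isFinLocFree_restrict_freeLocus (F : X.Modules) :
    FlatMod.IsFinLocFree (F.restrict (freeLocus F).ι) := by
  refine Groth.Agent.Lib.R2H7.RetractLF.isFinLocFree_of_exists_openImmersion _ (fun y => ?_)
  obtain ⟨V, n, hyV, ⟨e⟩⟩ := (mem_freeLocus_iff F y.1).1 y.2
  have hVU : V ≤ freeLocus F := fun z hz => (mem_freeLocus_iff F z).2 ⟨V, n, hz, ⟨e⟩⟩
  refine ⟨V, X.homOfLE hVU, inferInstance, n, ⟨⟨y.1, hyV⟩, ?_⟩, ⟨?_⟩⟩
  · apply Subtype.ext
    exact Scheme.homOfLE_apply _ _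
  · have hj : X.homOfLE hVU ≫ (freeLocus F).ι = V.ι := X.homOfLE_ι hVU
    exact ((Scheme.Modules.restrictFunctorComp (X.homOfLE hVU) (freeLocus F).ι).app F).symm ≪≫
      (Scheme.Modules.restrictFunctorCongr hj).app F ≪≫ e

theorem isFlatAt_of_isFinLocFree_restrict (F : X.Modules) [F.IsQuasicoherent] (U : X.Opens)
    (h : FlatMod.IsFinLocFree (F.restrict U.ι)) (x : X) (hx : x ∈ U) : FlatMod.IsFlatAt F x := by
  obtain ⟨V', n, hyV', ⟨e⟩⟩ := h ⟨x, hx⟩
  have e' : F.restrict (V'.ι ≫ U.ι) ≅ FlatMod.freeMod (↑V') n :=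
    (Scheme.Modules.restrictFunctorComp V'.ι U.ι).app F ≪≫ e
  have h1 := Groth.Agent.Lib.Helper2.LocFree.isFlatAt_of_restrict_iso_freeMod (V'.ι ≫ U.ι) F e'
    ⟨⟨x, hx⟩, hyV'⟩
  exact h1

variable [IsLocallyNoetherian X]

theorem free_stalk_of_isFlatAt (F : X.Modules) (hF : Coh.IsCoh F) (x : X)
    (h : FlatMod.IsFlatAt F x) : Module.Free (X.presheaf.stalk x) (F.presheaf.stalk x) := by
  haveI := finite_stalk F hF x
  haveI : Module.Flat (X.presheaf.stalk x) (F.presheaf.stalk x) := h
  exact Module.free_of_flat_of_isLocalRing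

theorem mem_freeLocus_of_free (F : X.Modules) (hF : Coh.IsCoh F) (x : X)
    [Module.Free (X.presheaf.stalk x) (F.presheaf.stalk x)] : x ∈ freeLocus F := by
  haveI := hF.1
  haveI := hF.2
  haveI : SheafOfModules.IsFinitePresentation (R := X.ringCatSheaf) F :=
    Groth.Agent.Lib.Helper23.FinType.isFinitePresentation_of_isFiniteType F
  exact (mem_freeLocus_iff F x).2
    (Groth.Agent.Lib.Helper2.LocFree.exists_restrict_iso_freeMod_of_isFlatAt F x
      (Module.Flat.of_free : Module.Flat (X.presheaf.stalk x) (F.presheaf.stalk x)))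

end FreeLocus

/-! ### Reflexive iff extension from a big open where the module is locally free -/

section Main

open Groth.Agent.Lib.R2Lead.ReflB Groth.Agent.Lib.R2Lead.ReflC

variable [IsIntegral X] [IsLocallyNoetherian X]

theorem forward (hX : Pi1.IsNormalScheme X) (F : X.Modules) (hF : Coh.IsCoh F)
    (hrefl : ∀ x : X, Module.IsReflexive (X.presheaf.stalk x) (F.presheaf.stalk x))
    (hH : Hartogs F) :
    ∃ U : X.Opens,
      (∀ x : X, x ∉ U → (2 : WithBot ℕ∞) ≤ ringKrullDim (X.presheaf.stalk x)) ∧
      FlatMod.IsFinLocFree (F.restrict U.ι) ∧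
      IsIso ((Scheme.Modules.restrictAdjunction U.ι).unit.app F) := by
  have hdim : ∀ x : X, x ∉ freeLocus F →
      (2 : WithBot ℕ∞) ≤ ringKrullDim (X.presheaf.stalk x) := by
    intro x hx
    by_contra hd
    apply hx
    haveI := (hX x).2
    haveI : IsNoetherianRing (X.presheaf.stalk x) := inferInstance
    haveI := isPrincipalIdealRing_of_dim_lt_two (X.presheaf.stalk x) hd
    haveI := hrefl x
    haveI := finite_stalk F hF x
    haveI : Module.Free (X.presheaf.stalk x) (F.presheaf.stalk x) := free_of_isReflexive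
    exact mem_freeLocus_of_free F hF x
  refine ⟨freeLocus F, hdim, isFinLocFree_restrict_freeLocus F, ?_⟩
  rw [isIso_unit_iff]
  intro W
  exact hH W (W ⊓ freeLocus F) inf_le_left
    (fun x hxW hxn => hdim x (fun hxU => hxn ⟨hxW, hxU⟩))

theorem backward (F : X.Modules) (hF : Coh.IsCoh F) (U : X.Opens)
    (hdim : ∀ x : X, x ∉ U → (2 : WithBot ℕ∞) ≤ ringKrullDim (X.presheaf.stalk x))
    (hlf : FlatMod.IsFinLocFree (F.restrict U.ι))
    (hiso : IsIso ((Scheme.Modules.restrictAdjunction U.ι).unit.app F))
    (hH : Hartogs (ddual F)) :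
    ∀ x : X, Module.IsReflexive (X.presheaf.stalk x) (F.presheaf.stalk x) := by
  have h01 : RefHull.IsReflexive F ↔ ∀ x : ↥X, RefHull.IsReflexiveAt F x := (tfae F hF).out 0 1
  suffices h : RefHull.IsReflexive F from h01.1 h
  unfold RefHull.IsReflexive
  rw [Scheme.Modules.Hom.isIso_iff_isIso_app]
  intro W
  rw [ConcreteCategory.isIso_iff_bijective]
  have hFW := (isIso_unit_iff F U).1 hiso W
  have hEW := hH W (W ⊓ U) inf_le_left (fun x hxW hxn => hdim x (fun hxU => hxn ⟨hxW, hxU⟩))
  refine bijective_app_of_extend (bidualMap F) inf_le_left hFW hEW ?_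
  apply bijective_app_of_stalk_bijective
  intro x hx
  rw [← isReflexiveAt_iff F hF x]
  unfold IsReflexiveAt
  haveI := hF.1
  haveI := free_stalk_of_isFlatAt F hF x (isFlatAt_of_isFinLocFree_restrict F U hlf x hx.2)
  haveI := finite_stalk F hF x
  infer_instance

end Main

end Groth.Agent.Lib.R2H7.ReflExt

end
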