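import Groth.Agent.Lib.R2H7CechLC2
import Groth.Agent.Lib.R2H7NonnegPart
import Groth.Agent.Lib.R2H7GlobalRho
import Groth.Agent.Lib.R2H2PnCoh
import Groth.Agent.Lib.R2H2PnSerre
import Groth.Agent.Lib.Helper23AmpleIso
import Groth.Agent.Lib.Helper13HB
import Groth.Agent.Lib.R2H7GrReg
import Groth.Agent.Lib.R2H7GrPoly
import Groth.Agent.Lib.R2H7GrKos
import Groth.Agent.Lib.R2H7GrTop
import Groth.Agent.Lib.R2H7GrRes
import Groth.Agent.Lib.Helper13RegLin
import Groth.Agent.S4400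
import Groth.Agent.S0013
import Groth.Agent.Lib.Helper27ProjGamma2
import Groth.Agent.Lib.Helper27PnChart

/-!
# Regularity of a graded module over the polynomial ring and of its sheaf (helper7, round 2)

For a finitely generated `ℤ`-graded module `M` over `S = k[x_0, …, x_r]`:

* `subsingleton_HH_twist_iff`: `H^{q+1}(P^r, M~(n)) = 0 ↔ H^{q+2}_𝔪(M)_n = 0`;
* `globalOf_surjective_iff_vanX`: `M_d → H^0(P^r, M(d)~)` is surjective iff `H^1_𝔪(M)_d = 0`
  (`d ≥ 0`);
* `isMRegular_of_regL`, `reg3_iff_sheaf`: the comparison of the regularity of `M` (local cohomology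
  sense) and of the sheaf `M~`.
-/

set_option autoImplicit false
set_option linter.unusedSectionVars false
universe u

namespace Groth.Agent.Lib.R2H7.RegSheaf

open CategoryTheory CategoryTheory.Limits AlgebraicGeometry Opposite
open Groth.Agent.Lib.Helper16.CechLow Groth.Agent.Lib.R2H2.LocPsh Groth.Agent.Lib.R2H2.CechCmp
  Groth.Agent.Lib.R2H2.Strand Groth.Agent.Lib.R2H2.StrandCech Groth.Agent.Lib.R2H2.KoszulPoly
  Groth.Agent.Lib.R2H2.ProjSec Groth.Agent.Lib.R2H2.PnCoh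
open Groth.Agent.Lib.R2H7.CechLC Groth.Agent.Lib.R2H7.NonnegPart Groth.Agent.Lib.R2H7.GlobalRho
open Groth.Agent.Lib.R2H7.GrDer Groth.Agent.Lib.R2H7.GrOps Groth.Agent.Lib.R2H7.GrLES
  Groth.Agent.Lib.R2H7.GrTors Groth.Agent.Lib.R2H7.GrBdry Groth.Agent.Lib.R2H7.GrPoly
  Groth.Agent.Lib.R2H7.GrTop

section Basic

variable (k : Type u) [Field k] (r : ℕ)

/-- the degree grading of the polynomial ring and the standard `ℤ`-grading are compatible -/
theorem hcmp : Cmp (CohB1.polyGrading r k) (toAS (GrSyz.stdGr k (Fin (r + 1)))) where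
  mem_iff := fun i a => by
    show a ∈ MvPolynomial.homogeneousSubmodule (Fin (r + 1)) k i ↔
      a ∈ GrSyz.stdGr k (Fin (r + 1)) (i : ℤ)
    rw [Groth.Agent.Helper13HB.stdGr_natCast]
  neg := fun n a hn ha => by
    have ha' : a ∈ GrSyz.stdGr k (Fin (r + 1)) n := ha
    rw [Groth.Agent.Helper13HB.stdGr_neg n hn] at ha'
    exact (Submodule.mem_bot k).mp ha'

theorem mm_eq_span_vars :
    (mm k (r + 1)).toIdeal = Ideal.span {f | f ∈ vars k r} := by
  apply le_antisymm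
  · exact GrKos.mm_le_span k (r + 1)
  · rw [Ideal.span_le]
    intro f hf
    exact (GrKos.vars_mem k (r + 1) f hf).2

theorem hfs_vars' : ∀ f ∈ vars k r, ∃ e : ℕ, f ∈ CohB1.polyGrading r k e := by
  intro f hf
  obtain ⟨e, -, he⟩ := hfs_vars k r f hf
  exact ⟨e, he⟩

theorem hgen : (HomogeneousIdeal.irrelevant (CohB1.polyGrading r k)).toIdeal =
    Ideal.span (CohB1.polyGrading r k 1 : Set (MvPolynomial (Fin (r + 1)) k)) := by
  apply le_antisymm
  · refine le_trans (Groth.Agent.Lib.Helper27ProjGamma.irrelevant_le r k) ?_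
    apply Ideal.span_mono
    rintro _ ⟨j, rfl⟩
    exact Groth.Agent.Lib.Helper27PnChart.X_mem_one r k j
  · rw [Ideal.span_le]
    intro p hp
    show p ∈ HomogeneousIdeal.irrelevant (CohB1.polyGrading r k)
    rw [HomogeneousIdeal.mem_irrelevant_iff, GradedRing.proj_apply]
    exact DirectSum.decompose_of_mem_ne (CohB1.polyGrading r k) hp one_ne_zero

/-- Grothendieck vanishing above the number of variables -/
theorem vanX_of_gt (Y : GrLC.GMod.{u} (toAS (GrSyz.stdGr k (Fin (r + 1))))) (i : ℕ)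
    (hi : r + 1 < i) (g : ℤ) : VanX (mm k (r + 1)) Y i g := by
  classical
  refine vanX_of_card_lt (mm k (r + 1))
    (Finset.univ.image (fun l : Fin (r + 1) =>
      (MvPolynomial.X l : MvPolynomial (Fin (r + 1)) k))) ?_ Y i ?_ g
  · rw [mm_toIdeal, Groth.Agent.Helper13RegCount.irrel_eq_span_X, Finset.coe_image,
      Finset.coe_univ, Set.image_univ]
  · refine lt_of_le_of_lt Finset.card_image_le ?_
    rw [Finset.card_univ, Fintype.card_fin]
    exact hi

/-- sheaf cohomology of `N(d)~` on projective space is computed by the strand Čech complex -/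
theorem nonempty_HH_strand {N : Type u} [AddCommGroup N] [Module k N]
    [Module (MvPolynomial (Fin (r + 1)) k) N] [IsScalarTower k (MvPolynomial (Fin (r + 1)) k) N]
    (𝒩 : ℕ → Submodule k N) [DirectSum.Decomposition 𝒩]
    [SetLike.GradedSMul (CohB1.polyGrading r k) 𝒩] (d : ℤ) (q : ℕ) :
    Nonempty (Coh.HH (Proj (CohB1.polyGrading r k))
        (GrTilde.tilde (CohB1.polyGrading r k) 𝒩 d) q ≃+
      ((CNd (vars k r) (zgr (CohB1.polyGrading r k) 𝒩) d).homology q : AddCommGrpCat.{u})) := by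
  have hqc : (GrTilde.tilde (CohB1.polyGrading r k) 𝒩 d).IsQuasicoherent :=
    Groth.Agent.Lib.Helper27GrTildeSect.isQuasicoherent_tilde _ _ d
  obtain ⟨e1⟩ := Groth.Agent.S0013.result (Proj (CohB1.polyGrading r k))
    (Wp (CohB1.polyGrading r k) (vars k r)) (iSup_Wp_vars k r)
    (isAffineOpen_biInf_Wp (CohB1.polyGrading r k) (vars k r) (hfs_vars k r))
    (GrTilde.tilde (CohB1.polyGrading r k) 𝒩 d) q
  obtain ⟨e2⟩ := nonempty_cech_strand (CohB1.polyGrading r k) 𝒩 (vars k r)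
    (hfs_vars k r) d q
  exact ⟨e1.symm.trans e2.symm⟩

end Basic

section Compare

variable {k : Type u} [Field k] (r : ℕ)
variable {M : Type u} [AddCommGroup M] [Module k M] [Module (MvPolynomial (Fin (r + 1)) k) M]
  [IsScalarTower k (MvPolynomial (Fin (r + 1)) k) M]
  (ℳ : ℤ → Submodule k M) [DirectSum.Decomposition ℳ]
  [SetLike.GradedSMul (GrSyz.stdGr k (Fin (r + 1))) ℳ]
  [SetLike.GradedSMul (CohB1.polyGrading r k) (fun n : ℕ => ℳ (n : ℤ))]

/-- the graded module `M` -/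
noncomputable abbrev XX : GrLC.GMod.{u} (toAS (GrSyz.stdGr k (Fin (r + 1)))) :=
  toGMod (GrSyz.stdGr k (Fin (r + 1))) ℳ

/-- the part of `M` of non-negative degrees, as a graded module -/
noncomputable abbrev XP : GrLC.GMod.{u} (toAS (GrSyz.stdGr k (Fin (r + 1)))) :=
  gmodOf (hcmp k r) ↥(nnPart (CohB1.polyGrading r k) ℳ)
    (zgr (CohB1.polyGrading r k) (nnGr (CohB1.polyGrading r k) ℳ))

/-- the inclusion of the non-negative part -/
noncomputable def inc :
    (XP r ℳ).carrier →ₗ[MvPolynomial (Fin (r + 1)) k] (XX r ℳ).carrier :=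
  (nnPart (CohB1.polyGrading r k) ℳ).subtype

theorem inc_gr : GrLC.IsGrHom (XP r ℳ).gr (XX r ℳ).gr (inc r ℳ) := by
  intro g m hm
  cases g with
  | ofNat i => exact hm
  | negSucc i =>
    have hm' : m ∈ (⊥ : AddSubgroup ↥(nnPart (CohB1.polyGrading r k) ℳ)) := hm
    have h0 : m = 0 := AddSubgroup.mem_bot.mp hm'
    rw [h0, map_zero]
    exact zero_mem _

theorem inc_inj : Function.Injective (inc r ℳ) :=
  Submodule.injective_subtype _

theorem torsion_of_bounded (T : GrLC.GMod.{u} (toAS (GrSyz.stdGr k (Fin (r + 1)))))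
    (hb : ∀ g : ℤ, 0 ≤ g → ∀ t : T.carrier, t ∈ T.gr g → t = 0) (t : T.carrier) :
    t ∈ GrLC.gam (mm k (r + 1)).toIdeal T.carrier :=
  mem_gam_of_bounded (mm k (r + 1)) (mm_eq_span k (r + 1)) T ⊤
    (fun _ _ _ => Submodule.mem_top) 0 (fun j hj m _ hm => hb j hj m hm) t Submodule.mem_top

/-- the cokernel of the inclusion of the non-negative part is `𝔪`-torsion and concentrated in
negative degrees -/
theorem exists_ses : ∃ T : GrLC.GMod.{u} (toAS (GrSyz.stdGr k (Fin (r + 1)))),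
    Nonempty (GSES (XP r ℳ) (XX r ℳ) T) ∧
    ((∀ t : T.carrier, t ∈ GrLC.gam (mm k (r + 1)).toIdeal T.carrier) ∧
    (∀ g : ℤ, 0 ≤ g → ∀ t : T.carrier, t ∈ T.gr g → t = 0)) := by
  refine ⟨_, ⟨GrKos.GSES.ofInj (inc r ℳ) (inc_gr r ℳ) (inc_inj r ℳ)⟩, ?_⟩
  have key : ∀ T : GrLC.GMod.{u} (toAS (GrSyz.stdGr k (Fin (r + 1)))),
      (∀ g : ℤ, 0 ≤ g → ∀ t : T.carrier, t ∈ T.gr g → t = 0) →
      ((∀ t : T.carrier, t ∈ GrLC.gam (mm k (r + 1)).toIdeal T.carrier) ∧
        (∀ g : ℤ, 0 ≤ g → ∀ t : T.carrier, t ∈ T.gr g → t = 0)) :=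
    fun T hb => ⟨torsion_of_bounded r T hb, hb⟩
  apply key
  intro g hg t ht
  obtain ⟨a, ha, rfl⟩ := ht
  obtain ⟨n, rfl⟩ := Int.eq_ofNat_of_zero_le hg
  have ha' : a ∈ ℳ (n : ℤ) := ha
  exact (Submodule.Quotient.mk_eq_zero _).mpr
    ⟨⟨a, mem_nnPart_of_mem (CohB1.polyGrading r k) ℳ n a ha'⟩, rfl⟩

theorem vanX_XP_iff_succ (i : ℕ) (g : ℤ) :
    VanX (mm k (r + 1)) (XP r ℳ) (i + 2) g ↔ VanX (mm k (r + 1)) (XX r ℳ) (i + 2) g := by
  obtain ⟨T, ⟨S⟩, hT, -⟩ := exists_ses r ℳ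
  constructor
  · intro h
    exact vanX_mid S _ h (vanX_of_torsion _ T hT (i + 2) (Nat.succ_pos _) g)
  · intro h
    exact vanX_left S _ (i := i + 1) h (vanX_of_torsion _ T hT (i + 1) (Nat.succ_pos _) g)

theorem vanX_XP_iff_one (g : ℤ) (hg : 0 ≤ g) :
    VanX (mm k (r + 1)) (XP r ℳ) 1 g ↔ VanX (mm k (r + 1)) (XX r ℳ) 1 g := by
  obtain ⟨T, ⟨S⟩, hT, hb⟩ := exists_ses r ℳ
  constructor
  · intro h
    exact vanX_mid S _ h (vanX_of_torsion _ T hT 1 Nat.one_pos g)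
  · intro h
    refine vanX_left S _ (i := 0) h ?_
    rw [vanX_zero_iff]
    intro m _ hm
    exact hb g hg m hm

/-- **`H^{q+1}(P^r, M~(n)) = 0` iff `H^{q+2}_𝔪(M)_n = 0`** -/
theorem subsingleton_HH_twist_iff (q : ℕ) (n : ℤ) :
    Subsingleton (Coh.HH (CohB1.ProjSpace r k)
      (CohB1.tensorMod (GrTilde.tilde (CohB1.polyGrading r k) (fun n : ℕ => ℳ (n : ℤ)) 0)
        (Twist.twistProjSpace r k n)) (q + 1)) ↔
      VanX (mm k (r + 1)) (XX r ℳ) (q + 2) n := by
  obtain ⟨e0⟩ := Groth.Agent.S4400.result (CohB1.polyGrading r k) (hgen k r)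
    (nnGr (CohB1.polyGrading r k) ℳ) n
  have e : GrTilde.tilde (CohB1.polyGrading r k) (nnGr (CohB1.polyGrading r k) ℳ) n ≅
      CohB1.tensorMod (GrTilde.tilde (CohB1.polyGrading r k) (fun n : ℕ => ℳ (n : ℤ)) 0)
        (Twist.twistProjSpace r k n) :=
    e0 ≪≫ Groth.Agent.Lib.Helper23.AmpleIso.tensorModIso
      (incIso (CohB1.polyGrading r k) (fun n : ℕ => ℳ (n : ℤ))
        (nnPart (CohB1.polyGrading r k) ℳ) (mem_nnPart_of_mem (CohB1.polyGrading r k) ℳ) 0)
      (Iso.refl _)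
  obtain ⟨e1⟩ := nonempty_HH_strand k r (nnGr (CohB1.polyGrading r k) ℳ) n (q + 1)
  rw [← vanX_XP_iff_succ r ℳ q n, ← tz_iff_vanX (hcmp k r) (vars k r) (hfs_vars' k r)
    (mm k (r + 1)) (mm_eq_span_vars k r) n q (XP r ℳ)]
  constructor
  · intro h
    have h1 : Subsingleton (Coh.HH (Proj (CohB1.polyGrading r k))
        (GrTilde.tilde (CohB1.polyGrading r k) (nnGr (CohB1.polyGrading r k) ℳ) n) (q + 1)) :=
      Groth.Agent.Lib.R2H2.PnSerre.subsingleton_HH_of_iso e.symm (q + 1) h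
    have h2 : Subsingleton ((CNd (vars k r) (zgr (CohB1.polyGrading r k)
        (nnGr (CohB1.polyGrading r k) ℳ)) n).homology (q + 1) : AddCommGrpCat.{u}) :=
      e1.symm.toEquiv.subsingleton
    exact @AddCommGrpCat.isZero_of_subsingleton _ h2
  · intro h
    have h2 : Subsingleton ((CNd (vars k r) (zgr (CohB1.polyGrading r k)
        (nnGr (CohB1.polyGrading r k) ℳ)) n).homology (q + 1) : AddCommGrpCat.{u}) :=
      AddCommGrpCat.subsingleton_of_isZero h
    have h1 : Subsingleton (Coh.HH (Proj (CohB1.polyGrading r k))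
        (GrTilde.tilde (CohB1.polyGrading r k) (nnGr (CohB1.polyGrading r k) ℳ) n) (q + 1)) :=
      e1.toEquiv.subsingleton
    exact Groth.Agent.Lib.R2H2.PnSerre.subsingleton_HH_of_iso e (q + 1) h1

/-- **`M_d → H^0(P^r, M(d)~)` is surjective iff `H^1_𝔪(M)_d = 0`** (`d ≥ 0`) -/
theorem globalOf_surjective_iff_vanX (d : ℕ) :
    Function.Surjective (fun m : ↥(ℳ ((d : ℕ) : ℤ)) =>
      GrTilde.globalOf (CohB1.polyGrading r k) (fun n : ℕ => ℳ (n : ℤ)) m) ↔
      VanX (mm k (r + 1)) (XX r ℳ) 1 (d : ℤ) := by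
  rw [← vanX_XP_iff_one r ℳ (d : ℤ) (Int.natCast_nonneg d),
    ← surj_iff_vanX (hcmp k r) (vars k r) (hfs_vars' k r) (mm k (r + 1)) (mm_eq_span_vars k r)
      (d : ℤ) (XP r ℳ)]
  exact (globalOf_surjective_iff (𝒜 := CohB1.polyGrading r k) (fun n : ℕ => ℳ (n : ℤ))
      (nnPart (CohB1.polyGrading r k) ℳ) (mem_nnPart_of_mem (CohB1.polyGrading r k) ℳ) d).trans
    (globalOf_surjective_iff_rho (CohB1.polyGrading r k) (nnGr (CohB1.polyGrading r k) ℳ)
      (vars k r) (hfs_vars k r) (iSup_Wp_vars k r) d)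

/-- regularity of `M` (local cohomology sense) gives regularity of the sheaf `M~` -/
theorem isMRegular_of_regL (d : ℤ) (h : GrReg.RegL k (r + 1) (XX r ℳ) d) :
    Curv2.IsMRegular k r
      (GrTilde.tilde (CohB1.polyGrading r k) (fun n : ℕ => ℳ (n : ℤ)) 0) d := by
  intro i hi1 _
  obtain ⟨q, rfl⟩ : ∃ q, i = q + 1 := ⟨i - 1, by omega⟩
  refine (subsingleton_HH_twist_iff r ℳ q _).mpr (h (q + 2) _ ?_)
  push_cast
  omega

theorem vanX_congr {Y : GrLC.GMod.{u} (toAS (GrSyz.stdGr k (Fin (r + 1))))} {i : ℕ} {g g' : ℤ}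
    (hg : g = g') (h : VanX (mm k (r + 1)) Y i g) : VanX (mm k (r + 1)) Y i g' := hg ▸ h

/-- the weak (three term) regularity of `M` in terms of the sheaf `M~` -/
theorem reg3_iff_sheaf (d : ℕ) :
    GrReg.Reg3 k (r + 1) (XX r ℳ) (d : ℤ) ↔
      (Curv2.IsMRegular k r
          (GrTilde.tilde (CohB1.polyGrading r k) (fun n : ℕ => ℳ (n : ℤ)) 0) (d : ℤ) ∧
        (∀ e : ℤ, (d : ℤ) < e → VanX (mm k (r + 1)) (XX r ℳ) 0 e) ∧
        Function.Surjective (fun m : ↥(ℳ ((d : ℕ) : ℤ)) =>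
          GrTilde.globalOf (CohB1.polyGrading r k) (fun n : ℕ => ℳ (n : ℤ)) m)) := by
  constructor
  · rintro ⟨h0, h1⟩
    refine ⟨?_, h0, ?_⟩
    · intro i hi1 _
      obtain ⟨q, rfl⟩ : ∃ q, i = q + 1 := ⟨i - 1, by omega⟩
      refine (subsingleton_HH_twist_iff r ℳ q _).mpr
        (vanX_congr r ?_ (h1 (q + 2) (Nat.succ_pos _)))
      push_cast
      ring
    · refine (globalOf_surjective_iff_vanX r ℳ d).mpr (vanX_congr r ?_ (h1 1 Nat.one_pos))
      push_cast
      ring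
  · rintro ⟨hreg, h0, hs⟩
    refine ⟨h0, fun i hi => ?_⟩
    rcases Nat.lt_or_ge (r + 1) i with hgt | hle
    · exact vanX_of_gt k r _ i hgt _
    · obtain ⟨q, rfl⟩ : ∃ q, i = q + 1 := ⟨i - 1, by omega⟩
      rcases Nat.eq_zero_or_pos q with hq | hq
      · subst hq
        refine vanX_congr r ?_ ((globalOf_surjective_iff_vanX r ℳ d).mp hs)
        push_cast
        ring
      · obtain ⟨q', rfl⟩ : ∃ q', q = q' + 1 := ⟨q - 1, by omega⟩
        have h1 := (subsingleton_HH_twist_iff r ℳ q' _).mp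
          (hreg (q' + 1) (by omega) (by omega))
        refine vanX_congr r ?_ h1
        push_cast
        ring

end Compare

end Groth.Agent.Lib.R2H7.RegSheaf
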