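import Mathlib
import Groth.Prelude.Def_FrobAlg
import Groth.Agent.Lib.R2H7RelFrobBasic

/-!
# The relative Frobenius of a finitely presented algebra is finite and of finite presentation
-/

set_option autoImplicit false
set_option linter.style.haveILetI false

namespace Groth.Agent.Lib.R2H7.RelFrob

open TensorProduct FrobAlg

universe u v

theorem relFrob_finite_finitePresentation (p : ℕ) [Fact p.Prime] (A : Type u) [CommRing A]
    [CharP A p] (B : Type v) [CommRing B] [Algebra A B] [CharP B p]
    [Algebra.FinitePresentation A B] :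
    letI := (relFrob p A B).toAlgebra
    Module.Finite (BaseChange p A B) B ∧ Module.FinitePresentation (BaseChange p A B) B := by
  have hp : p.Prime := Fact.out
  let T := FrobAlg.Twist p A
  let B' := FrobAlg.BaseChange p A B
  let e : A ≃+* T := FrobAlg.toTwist p A
  letI algTB : Algebra T B := ((algebraMap A B).comp (e.symm : T →+* A)).toAlgebra
  letI algTA : Algebra T A := (e.symm : T →+* A).toAlgebra
  haveI : IsScalarTower T A B := IsScalarTower.of_algebraMap_eq (fun _ => rfl)
  have hTA : Algebra.FinitePresentation T A :=
    Algebra.FinitePresentation.equiv (AlgEquiv.ofRingEquiv (f := e.symm) (fun _ => rfl) : T ≃ₐ[T] A)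
  have hTB : Algebra.FinitePresentation T B := Algebra.FinitePresentation.trans T A B
  have hTB' : Algebra.FiniteType T B' :=
    Algebra.FiniteType.equiv inferInstance (Algebra.TensorProduct.commRight A T B)
  letI algB'B : Algebra B' B := (FrobAlg.relFrob p A B).toAlgebra
  have htower : ∀ t : T, algebraMap T B t = algebraMap B' B (algebraMap T B' t) := by
    intro t
    change algebraMap A B (e.symm t) = FrobAlg.relFrob p A B ((1 : B) ⊗ₜ[A] t)
    rw [relFrob_tmul, one_pow, one_mul]
  haveI tower : @IsScalarTower T B' B Algebra.toSMul Algebra.toSMul Algebra.toSMul :=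
    IsScalarTower.of_algebraMap_eq htower
  haveI hfp : Algebra.FinitePresentation B' B :=
    Algebra.FinitePresentation.of_restrict_scalars_finitePresentation T B' B
  haveI : Algebra.IsIntegral B' B := ⟨fun s => by
    refine ⟨Polynomial.X ^ p - Polynomial.C (s ⊗ₜ[A] (1 : T)),
      Polynomial.monic_X_pow_sub_C _ hp.ne_zero, ?_⟩
    rw [Polynomial.eval₂_sub, Polynomial.eval₂_pow, Polynomial.eval₂_X, Polynomial.eval₂_C]
    change s ^ p - relFrob p A B (s ⊗ₜ[A] (1 : T)) = 0
    rw [relFrob_tmul_one, sub_self]⟩
  haveI hfin : Module.Finite B' B := Algebra.IsIntegral.finite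
  exact ⟨hfin, Module.FinitePresentation.of_finite_of_finitePresentation B' B⟩

end Groth.Agent.Lib.R2H7.RelFrob
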