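import Mathlib
import Groth.Prelude.Def_FrobAlg
import Groth.Agent.Lib.R2H7RelFrobBasic
import Groth.Agent.Lib.R2H7AwayPow

/-!
# The relative Frobenius and localization away from an element
-/

set_option autoImplicit false
set_option linter.style.haveILetI false

namespace Groth.Agent.Lib.R2H7.RelFrob

open TensorProduct FrobAlg

universe u v w

/-- transfer of `IsLocalization` along identifications of the rings with copies -/
theorem isLocalization_of_ringEquiv {R S R' S' : Type*} [CommRing R] [CommRing S] [CommRing R']
    [CommRing S'] [Algebra R S] [Algebra R' S'] (M : Submonoid R) [IsLocalization M S]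
    (e : R ≃+* R') (f : S ≃+* S')
    (h : ∀ r, algebraMap R' S' (e r) = f (algebraMap R S r)) :
    IsLocalization (M.map (e : R →* R')) S' where
  map_units := by
    rintro ⟨_, r, hr, rfl⟩
    change IsUnit (algebraMap R' S' (e r))
    rw [h]
    exact (IsLocalization.map_units S ⟨r, hr⟩).map f
  surj := by
    intro s'
    obtain ⟨⟨x, m⟩, hx⟩ := IsLocalization.surj M (f.symm s')
    refine ⟨⟨e x, ⟨e m, m, m.2, rfl⟩⟩, ?_⟩
    change s' * algebraMap R' S' (e m) = algebraMap R' S' (e x)
    rw [h, h, ← hx, map_mul, RingEquiv.apply_symm_apply]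
  exists_of_eq := by
    intro x y hxy
    obtain ⟨x, rfl⟩ := e.surjective x
    obtain ⟨y, rfl⟩ := e.surjective y
    rw [h, h] at hxy
    obtain ⟨c, hc⟩ := (IsLocalization.eq_iff_exists M S).mp (f.injective hxy)
    refine ⟨⟨e c, c, c.2, rfl⟩, ?_⟩
    change e c * e x = e c * e y
    rw [← map_mul, ← map_mul, hc]

section

variable (p : ℕ) [Fact p.Prime] (A : Type u) [CommRing A] [CharP A p]
  (B : Type v) [CommRing B] [Algebra A B] [CharP B p]
  (Br : Type w) [CommRing Br] [Algebra A Br] [CharP Br p] [Algebra B Br] [IsScalarTower A B Br]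
  (g : B) [IsLocalization.Away g Br]

/-- the map `B ⊗ T → Br ⊗ T` -/
noncomputable def mapLoc : BaseChange p A B →ₐ[A] BaseChange p A Br :=
  Algebra.TensorProduct.map (IsScalarTower.toAlgHom A B Br) (AlgHom.id A (Twist p A))

theorem rankAtStalk_relFrob_localization (hflat : (relFrob p A B).Flat)
    (hfin : (relFrob p A B).Finite) (q : PrimeSpectrum (BaseChange p A B))
    (hq : (g ⊗ₜ[A] (1 : Twist p A) : BaseChange p A B) ∉ q.asIdeal) :
    ∃ x : PrimeSpectrum (BaseChange p A Br),
      (letI := (relFrob p A B).toAlgebra
       Module.rankAtStalk (R := BaseChange p A B) B q) =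
      (letI := (relFrob p A Br).toAlgebra
       Module.rankAtStalk (R := BaseChange p A Br) Br x) := by
  have hp : p.Prime := Fact.out
  -- the rings
  let B' := BaseChange p A B
  let B'r := BaseChange p A Br
  let D := Target p A B
  let Dr := Target p A Br
  -- the algebra structures
  letI algB'B'r : Algebra B' B'r := (mapLoc p A B Br).toRingHom.toAlgebra
  letI algB'D : Algebra B' D := ((toTarget p A B : B →+* D).comp (relFrob p A B)).toAlgebra
  letI algB'rDr : Algebra B'r Dr := ((toTarget p A Br : Br →+* Dr).comp (relFrob p A Br)).toAlgebra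
  letI algDDr : Algebra D Dr := ((toTarget p A Br : Br →+* Dr).comp
    ((algebraMap B Br).comp ((toTarget p A B).symm : D →+* B))).toAlgebra
  letI algB'Dr : Algebra B' Dr := ((algebraMap D Dr).comp (algebraMap B' D)).toAlgebra
  haveI t1 : IsScalarTower B' D Dr := IsScalarTower.of_algebraMap_eq (fun _ => rfl)
  haveI t2 : IsScalarTower B' B'r Dr := IsScalarTower.of_algebraMap_eq (fun x => by
    change toTarget p A Br (algebraMap B Br (relFrob p A B x)) =
      toTarget p A Br (relFrob p A Br (mapLoc p A B Br x))
    rw [mapLoc, relFrob_natural]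
    rfl)
  haveI t3 : IsScalarTower B B' B'r := IsScalarTower.of_algebraMap_eq (fun b => by
    change algebraMap B (BaseChange p A Br) b =
      mapLoc p A B Br (algebraMap B (BaseChange p A B) b)
    rw [Algebra.TensorProduct.algebraMap_apply, Algebra.TensorProduct.algebraMap_apply,
      Algebra.algebraMap_self, RingHom.id_apply, mapLoc, Algebra.TensorProduct.map_tmul]
    rfl)
  -- the localizations
  let S : Submonoid B' := Algebra.algebraMapSubmonoid B' (Submonoid.powers g)
  haveI hloc1 : IsLocalization S B'r := by
    apply IsLocalization.tensorProduct_tensorProduct A (Twist p A) (Submonoid.powers g) Br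
    ext t
    change mapLoc p A B Br ((1 : B) ⊗ₜ[A] t) = (1 : Br) ⊗ₜ[A] t
    rw [mapLoc, Algebra.TensorProduct.map_tmul, map_one]
    rfl
  have hS : Algebra.algebraMapSubmonoid D S =
      (Submonoid.powers (g ^ p)).map ((toTarget p A B : B ≃+* D) : B →* D) := by
    change Algebra.algebraMapSubmonoid D
      (Algebra.algebraMapSubmonoid B' (Submonoid.powers g)) = _
    rw [Algebra.algebraMapSubmonoid_powers, Algebra.algebraMapSubmonoid_powers,
      Submonoid.map_powers]
    congr 1
    change toTarget p A B (relFrob p A B (algebraMap B (BaseChange p A B) g)) = _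
    rw [Algebra.TensorProduct.algebraMap_apply, Algebra.algebraMap_self, RingHom.id_apply,
      relFrob_tmul_one]
    rfl
  haveI hloc2 : IsLocalization (Algebra.algebraMapSubmonoid D S) Dr := by
    rw [hS]
    haveI : IsLocalization (Submonoid.powers (g ^ p)) Br :=
      isLocalization_away_pow g p hp.pos
    exact isLocalization_of_ringEquiv (Submonoid.powers (g ^ p)) (toTarget p A B)
      (toTarget p A Br) (fun _ => rfl)
  haveI hpo : Algebra.IsPushout B' D B'r Dr := Algebra.isPushout_of_isLocalization S B'r D Dr
  -- flatness and finiteness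
  haveI hflat' : Module.Flat B' D :=
    (RingHom.Flat.comp hflat (RingHom.Flat.of_bijective (toTarget p A B).bijective) :
      ((toTarget p A B : B →+* D).comp (relFrob p A B)).Flat)
  haveI hfin' : Module.Finite B' D :=
    (RingHom.Finite.comp (RingHom.Finite.of_surjective _ (toTarget p A B).surjective) hfin :
      ((toTarget p A B : B →+* D).comp (relFrob p A B)).Finite)
  -- the point
  have hrange := PrimeSpectrum.localization_comap_range B'r S
  have hq' : q ∈ { P : PrimeSpectrum B' | Disjoint (S : Set B') (P.asIdeal : Set B') } := by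
    change Disjoint ((Algebra.algebraMapSubmonoid B' (Submonoid.powers g) : Submonoid B') : Set B')
      (q.asIdeal : Set B')
    rw [Algebra.algebraMapSubmonoid_powers, Ideal.disjoint_powers_iff_notMem_of_isPrime]
    rwa [Algebra.TensorProduct.algebraMap_apply, Algebra.algebraMap_self, RingHom.id_apply]
  rw [← hrange] at hq'
  obtain ⟨x, hx⟩ := hq'
  refine ⟨x, ?_⟩
  have hrank := Algebra.rankAtStalk_eq_of_isPushout B' D B'r Dr x
  rw [hx] at hrank
  exact hrank.symm

end

end Groth.Agent.Lib.R2H7.RelFrob
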