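import Mathlib
import Groth.Prelude.Def_FrobAlg
import Groth.Agent.Lib.R2H7RelFrobBasic
import Groth.Agent.Lib.R2H7RelFrobPushout
import Groth.Agent.Lib.R2H7RelFrobPoly

/-!
# The rank of the relative Frobenius of an algebra étale over a polynomial ring
-/

set_option autoImplicit false
set_option linter.style.haveILetI false

namespace Groth.Agent.Lib.R2H7.RelFrob

open TensorProduct FrobAlg

universe u v w

section

variable (p : ℕ) [Fact p.Prime] (A : Type u) [CommRing A] [CharP A p]
  (C : Type v) [CommRing C] [Algebra A C] [CharP C p]
  (B : Type w) [CommRing B] [Algebra A B] [CharP B p] [Algebra C B] [IsScalarTower A C B]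

attribute [local instance] Tower.algC'B' Tower.algC'TC Tower.algB'TB Tower.algTCTB Tower.algBTB
  Tower.algC'TB

theorem rankAtStalk_target_of_etale [Algebra.Etale C B]
    [Module.Flat (BaseChange p A C) (Twist p C)] [Module.Finite (BaseChange p A C) (Twist p C)]
    (x : PrimeSpectrum (BaseChange p A B)) :
    Module.rankAtStalk (R := BaseChange p A B) (Target p C B) x =
      Module.rankAtStalk (R := BaseChange p A C) (Twist p C)
        (PrimeSpectrum.comap (algebraMap (BaseChange p A C) (BaseChange p A B)) x) := by
  haveI := isPushout_right p A C B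
  exact Algebra.rankAtStalk_eq_of_isPushout (BaseChange p A C) (Twist p C) (BaseChange p A B)
    (Target p C B) x

end

section

variable (p : ℕ) [Fact p.Prime] (A : Type u) [CommRing A] [CharP A p] (σ : Type v) [Finite σ]

attribute [local instance] Tower.algC'TC

/-- the basis of small monomials, for the twisted copy -/
noncomputable def twistBasis :
    Module.Basis (σ → Fin p) (BaseChange p A (MvPolynomial σ A)) (Twist p (MvPolynomial σ A)) :=
  relFrobBasis p A σ

instance : Module.Free (BaseChange p A (MvPolynomial σ A)) (Twist p (MvPolynomial σ A)) :=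
  Module.Free.of_basis (twistBasis p A σ)

instance : Module.Finite (BaseChange p A (MvPolynomial σ A)) (Twist p (MvPolynomial σ A)) :=
  Module.Finite.of_basis (twistBasis p A σ)

theorem finrank_twist_mvPolynomial [Nontrivial A] :
    Module.finrank (BaseChange p A (MvPolynomial σ A)) (Twist p (MvPolynomial σ A)) =
      p ^ Nat.card σ := by
  haveI : Nontrivial (BaseChange p A (MvPolynomial σ A)) := by
    refine ⟨⟨0, 1, fun h => ?_⟩⟩
    have := congrArg (relFrob p A (MvPolynomial σ A)) h
    rw [map_zero, map_one] at this
    exact zero_ne_one this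
  classical
  haveI := Fintype.ofFinite σ
  rw [Module.finrank_eq_card_basis (twistBasis p A σ), Fintype.card_fun, Fintype.card_fin,
    Nat.card_eq_fintype_card]

end

section

attribute [local instance] Tower.algC'B' Tower.algC'TC Tower.algB'TB Tower.algTCTB Tower.algBTB
  Tower.algC'TB

/-- the rank of the relative Frobenius of an algebra which is étale over a polynomial ring in `n`
variables is `p ^ n` everywhere -/
theorem rankAtStalk_relFrob_of_etale_mvPolynomial (p : ℕ) [Fact p.Prime] (A : Type u) [CommRing A]
    [CharP A p] (B : Type v) [CommRing B] [Algebra A B] [CharP B p] (n : ℕ)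
    (g : MvPolynomial (Fin n) A →ₐ[A] B) (hg : g.toRingHom.Etale)
    (x : PrimeSpectrum (BaseChange p A B)) :
    letI := (relFrob p A B).toAlgebra
    Module.rankAtStalk (R := BaseChange p A B) B x = p ^ n := by
  have hp : p.Prime := Fact.out
  haveI : Nontrivial A := CharP.nontrivial_of_char_ne_one (R := A) hp.ne_one
  letI : Algebra (MvPolynomial (Fin n) A) B := g.toRingHom.toAlgebra
  haveI : IsScalarTower A (MvPolynomial (Fin n) A) B :=
    IsScalarTower.of_algebraMap_eq (fun a => (g.commutes a).symm)
  haveI : Algebra.Etale (MvPolynomial (Fin n) A) B := hg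
  have h := rankAtStalk_target_of_etale p A (MvPolynomial (Fin n) A) B x
  have h2 := Module.rankAtStalk_eq_finrank_of_free
    (R := BaseChange p A (MvPolynomial (Fin n) A)) (M := Twist p (MvPolynomial (Fin n) A))
  rw [h2, finrank_twist_mvPolynomial] at h
  simp only [Nat.card_eq_fintype_card, Fintype.card_fin, Pi.natCast_def, Nat.cast_id] at h
  exact h

end

end Groth.Agent.Lib.R2H7.RelFrob
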