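import Mathlib
import Groth.Prelude.Def_FrobAlg
import Groth.Agent.Lib.R2H7RelFrobSmooth
import Groth.Agent.Lib.R2H7RelFrobFinite
import Groth.Agent.Lib.R2H7RelFrobRank
import Groth.Agent.Lib.R2H7RelFrobLoc
import Groth.Agent.Lib.R2H7KaehlerRankLoc

/-!
# The relative Frobenius of a smooth algebra of relative dimension `r` is finite locally free of
rank `p ^ r`
-/

set_option autoImplicit false
set_option linter.style.haveILetI false

namespace Groth.Agent.Lib.R2H7.RelFrob

open TensorProduct FrobAlg

universe u v

theorem relFrob_rank_of_smooth (p : ℕ) [Fact p.Prime] (A : Type u) [CommRing A] [CharP A p]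
    (B : Type v) [CommRing B] [Algebra A B] [CharP B p] [Algebra.Smooth A B] (r : ℕ)
    (hr : ∀ q : PrimeSpectrum B, Module.rankAtStalk (R := B) (Ω[B⁄A]) q = r)
    (q : PrimeSpectrum (BaseChange p A B)) :
    letI := (relFrob p A B).toAlgebra
    Module.rankAtStalk (R := BaseChange p A B) B q = p ^ r := by
  have hp : p.Prime := Fact.out
  have hflat := relFrob_flat_of_smooth p A B
  have hfin : (relFrob p A B).Finite := (relFrob_finite_finitePresentation p A B).1
  obtain ⟨s, hs, hstd⟩ := Algebra.Smooth.exists_span_eq_top_isStandardSmooth A B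
  -- a member of the cover not in `q`
  have hex : ∃ g ∈ s, (g ⊗ₜ[A] (1 : Twist p A) : BaseChange p A B) ∉ q.asIdeal := by
    by_contra hcon
    have hall : ∀ g ∈ s, (g ⊗ₜ[A] (1 : Twist p A) : BaseChange p A B) ∈ q.asIdeal := by
      intro g hg
      by_contra h
      exact hcon ⟨g, hg, h⟩
    have hle : Ideal.span s ≤ Ideal.comap (algebraMap B (BaseChange p A B)) q.asIdeal := by
      rw [Ideal.span_le]
      intro g hg
      change algebraMap B (BaseChange p A B) g ∈ q.asIdeal
      rw [Algebra.TensorProduct.algebraMap_apply, Algebra.algebraMap_self, RingHom.id_apply]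
      exact hall g hg
    rw [hs] at hle
    have h1 : (1 : B) ∈ Ideal.comap (algebraMap B (BaseChange p A B)) q.asIdeal :=
      hle Submodule.mem_top
    rw [Ideal.mem_comap, map_one] at h1
    exact q.2.one_notMem h1
  obtain ⟨g, hgs, hgq⟩ := hex
  haveI : Algebra.IsStandardSmooth A (Localization.Away g) := hstd g hgs
  -- the localization is nontrivial
  haveI hnt : Nontrivial (Localization.Away g) := by
    by_contra hcon
    rw [not_nontrivial_iff_subsingleton] at hcon
    have h0 : (0 : B) ∈ Submonoid.powers g :=
      (IsLocalization.subsingleton_iff (M := Submonoid.powers g)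
        (S := Localization.Away g)).mp hcon
    obtain ⟨k, hk⟩ := h0
    have hk' : g ^ k = 0 := hk
    apply hgq
    apply q.2.mem_of_pow_mem k
    rw [Algebra.TensorProduct.tmul_pow, hk', zero_tmul]
    exact Ideal.zero_mem _
  have hp0 : ((p : ℕ) : Localization.Away g) = 0 := by
    rw [← map_natCast (algebraMap B (Localization.Away g)), CharP.cast_eq_zero, map_zero]
  haveI : CharP (Localization.Away g) p := (CharP.charP_iff_prime_eq_zero hp).mpr hp0
  obtain ⟨ι, σ, hσ, hι, ⟨P⟩⟩ :=
    Algebra.IsStandardSmooth.out (R := A) (S := Localization.Away g)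
  haveI : Algebra.IsStandardSmoothOfRelativeDimension P.dimension A (Localization.Away g) :=
    ⟨⟨ι, σ, hσ, hι, P, rfl⟩⟩
  obtain ⟨g₀, hg₀⟩ := Algebra.IsStandardSmoothOfRelativeDimension.exists_etale_mvPolynomial
    P.dimension A (Localization.Away g)
  obtain ⟨x, hx⟩ := rankAtStalk_relFrob_localization p A B (Localization.Away g) g hflat hfin q hgq
  have hn : P.dimension = r :=
    relativeDimension_eq_of_localization A B (Localization.Away g) (Submonoid.powers g)
      P.dimension r hr
  have h2 := rankAtStalk_relFrob_of_etale_mvPolynomial p A (Localization.Away g) P.dimension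
    g₀ hg₀ x
  rw [hn] at h2
  exact hx.trans h2

theorem relFrob_finite_projective_rank (p : ℕ) [Fact p.Prime] (A : Type u) [CommRing A]
    [CharP A p] (B : Type v) [CommRing B] [Algebra A B] [CharP B p] [Algebra.Smooth A B] (r : ℕ)
    (hr : ∀ q : PrimeSpectrum B, Module.rankAtStalk (R := B) (Ω[B⁄A]) q = r) :
    letI := (relFrob p A B).toAlgebra
    Module.Finite (BaseChange p A B) B ∧ Module.Projective (BaseChange p A B) B ∧
      ∀ q : PrimeSpectrum (BaseChange p A B),
        Module.rankAtStalk (R := BaseChange p A B) B q = p ^ r := by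
  letI := (relFrob p A B).toAlgebra
  obtain ⟨hfin, hfp⟩ := relFrob_finite_finitePresentation p A B
  haveI hflat : Module.Flat (BaseChange p A B) B := relFrob_flat_of_smooth p A B
  exact ⟨hfin, Module.Flat.projective_of_finitePresentation,
    fun q => relFrob_rank_of_smooth p A B r hr q⟩

end Groth.Agent.Lib.R2H7.RelFrob
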