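import Mathlib

/-!
# Finite residue field extensions are realised fppf-locally (R2H7.ResExtFppf)

For a point `s` of a scheme `S` and a finite extension `ℓ` of `κ(s)`: an affine open `U ∋ s`, the
polynomial algebra `Γ(S,U)[x_1..x_n]` and a map to `ℓ` whose `Spec` is a preimmersion.
-/

set_option autoImplicit false
universe u

namespace Groth.Agent.Lib.R2H7.ResExtFppf

open AlgebraicGeometry CategoryTheory

section Alg

variable {B L : Type u} [CommRing B] [Field L] (f : B →+* L)

/-- elements of `L` that are fractions of elements of the image of `f` -/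
def IsFrac (x : L) : Prop := ∃ r s : B, IsUnit (f s) ∧ f s * x = f r

lemma isFrac_map (b : B) : IsFrac f (f b) := ⟨b, 1, by rw [map_one]; exact isUnit_one, by
  rw [map_one, one_mul]⟩

lemma isFrac_zero : IsFrac f 0 := by simpa using isFrac_map f 0

lemma isFrac_add {x y : L} (hx : IsFrac f x) (hy : IsFrac f y) : IsFrac f (x + y) := by
  obtain ⟨r, s, hs, h⟩ := hx
  obtain ⟨r', s', hs', h'⟩ := hy
  refine ⟨r * s' + r' * s, s * s', by rw [map_mul]; exact hs.mul hs', ?_⟩
  rw [map_mul, map_add, map_mul, map_mul]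
  linear_combination (f s') * h + (f s) * h'

lemma isFrac_mul {x y : L} (hx : IsFrac f x) (hy : IsFrac f y) : IsFrac f (x * y) := by
  obtain ⟨r, s, hs, h⟩ := hx
  obtain ⟨r', s', hs', h'⟩ := hy
  refine ⟨r * r', s * s', by rw [map_mul]; exact hs.mul hs', ?_⟩
  rw [map_mul, map_mul]
  linear_combination (f s' * y) * h + f r * h'

end Alg

lemma exists_ev (S : Scheme.{u}) (U : S.Opens) (hU : IsAffineOpen U) (s : S) (hs : s ∈ U)
    (c : S.residueField s) :
    ∃ a g : Γ(S, U), IsUnit ((S.evaluation U s hs).hom g) ∧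
      (S.evaluation U s hs).hom g * c = (S.evaluation U s hs).hom a := by
  obtain ⟨z, rfl⟩ := S.residue_surjective s c
  letI : Algebra Γ(S, U) (S.presheaf.stalk s) :=
    TopCat.Presheaf.algebra_section_stalk S.presheaf (⟨s, hs⟩ : U)
  have hloc : IsLocalization.AtPrime (S.presheaf.stalk s)
      (hU.primeIdealOf ⟨s, hs⟩).asIdeal := hU.isLocalization_stalk ⟨s, hs⟩
  obtain ⟨⟨a, g⟩, hag⟩ := IsLocalization.surj (hU.primeIdealOf ⟨s, hs⟩).asIdeal.primeCompl z
  have hunit : IsUnit (algebraMap Γ(S, U) (S.presheaf.stalk s) g) :=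
    IsLocalization.map_units (M := (hU.primeIdealOf ⟨s, hs⟩).asIdeal.primeCompl) _ g
  have halg : algebraMap Γ(S, U) (S.presheaf.stalk s) = (S.presheaf.germ U s hs).hom :=
    TopCat.Presheaf.stalk_open_algebraMap S.presheaf (⟨s, hs⟩ : U)
  refine ⟨a, g, ?_, ?_⟩
  · have h1 := hunit.map (S.residue s).hom
    rw [halg] at h1
    exact h1
  · have h2 := congrArg (S.residue s).hom hag
    rw [map_mul, halg] at h2
    rw [mul_comm]
    exact h2

theorem main (S : Scheme.{u}) (s : ↥S)
    (ℓ : Type u) [Field ℓ] [Algebra (S.residueField s) ℓ] [Module.Finite (S.residueField s) ℓ] :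
    ∃ (U' : Scheme.{u}) (b : U' ⟶ S) (t : Spec (CommRingCat.of ℓ) ⟶ U'),
      IsAffine U' ∧ Flat b ∧ LocallyOfFinitePresentation b ∧ IsPreimmersion t ∧
        t ≫ b = Spec.map (CommRingCat.ofHom (algebraMap (S.residueField s) ℓ)) ≫
          S.fromSpecResidueField s := by
  obtain ⟨U, hU, hs, -⟩ := exists_isAffineOpen_mem_and_subset (x := s) (U := ⊤) trivial
  obtain ⟨n, β, hβ⟩ := Module.Finite.exists_fin (R := S.residueField s) (M := ℓ)
  -- the evaluation map to ℓ
  let g₀ : Γ(S, U) →+* ℓ := (algebraMap (S.residueField s) ℓ).comp (S.evaluation U s hs).hom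
  let f : MvPolynomial (Fin n) Γ(S, U) →+* ℓ := MvPolynomial.eval₂Hom g₀ β
  have hfC : ∀ a, f (MvPolynomial.C a) = algebraMap (S.residueField s) ℓ
      ((S.evaluation U s hs).hom a) := fun a => MvPolynomial.eval₂Hom_C _ _ _
  have hfX : ∀ i, f (MvPolynomial.X i) = β i := fun i => MvPolynomial.eval₂Hom_X' _ _ _
  have hfrac : ∀ x : ℓ, IsFrac f x := by
    intro x
    have hx : x ∈ Submodule.span (S.residueField s) (Set.range β) := by rw [hβ]; trivial
    obtain ⟨c, rfl⟩ := (Submodule.mem_span_range_iff_exists_fun _).1 hx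
    refine Finset.sum_induction _ (IsFrac f) (fun _ _ => isFrac_add f) (isFrac_zero f) ?_
    intro i _
    rw [Algebra.smul_def]
    refine isFrac_mul f ?_ (hfX i ▸ isFrac_map f _)
    obtain ⟨a, g, hg, hag⟩ := exists_ev S U hU s hs (c i)
    refine ⟨MvPolynomial.C a, MvPolynomial.C g, ?_, ?_⟩
    · rw [hfC]; exact hg.map _
    · rw [hfC, hfC, ← map_mul, hag]
  refine ⟨Spec (CommRingCat.of (MvPolynomial (Fin n) Γ(S, U))),
    Spec.map (CommRingCat.ofHom (MvPolynomial.C : Γ(S, U) →+* MvPolynomial (Fin n) Γ(S, U))) ≫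
      hU.fromSpec, Spec.map (CommRingCat.ofHom f), inferInstance, ?_, ?_, ?_, ?_⟩
  · have h1 : Flat (Spec.map (CommRingCat.ofHom
        (MvPolynomial.C : Γ(S, U) →+* MvPolynomial (Fin n) Γ(S, U)))) := by
      rw [Flat.SpecMap_iff]
      show (MvPolynomial.C : Γ(S, U) →+* MvPolynomial (Fin n) Γ(S, U)).Flat
      rw [← MvPolynomial.algebraMap_eq, RingHom.flat_algebraMap_iff]
      infer_instance
    infer_instance
  · have h1 : LocallyOfFinitePresentation (Spec.map (CommRingCat.ofHom
        (MvPolynomial.C : Γ(S, U) →+* MvPolynomial (Fin n) Γ(S, U)))) := by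
      rw [LocallyOfFinitePresentation.SpecMap_iff]
      show (MvPolynomial.C : Γ(S, U) →+* MvPolynomial (Fin n) Γ(S, U)).FinitePresentation
      rw [← MvPolynomial.algebraMap_eq, RingHom.finitePresentation_algebraMap]
      infer_instance
    infer_instance
  · apply IsPreimmersion.mk_SpecMap
    · exact Topology.IsEmbedding.of_subsingleton _
    · exact RingHom.surjectiveOnStalks_of_exists_div hfrac
  · rw [Scheme.fromSpecResidueField, ← hU.fromSpecStalk_eq_fromSpecStalk hs,
      IsAffineOpen.fromSpecStalk, ← Category.assoc, ← Category.assoc, ← Category.assoc,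
      ← Spec.map_comp, ← Spec.map_comp, ← Spec.map_comp]
    congr 2
    ext a
    exact hfC a

end Groth.Agent.Lib.R2H7.ResExtFppf
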