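import Mathlib

/-!
# From a retraction of the cotangent complex up to `t ^ n` to derivations on square-zero extensions

Let `P → B` be an extension of the `A`-algebra `B` and `l` a `B`-linear map from the cotangent space
of `P` to its cotangent module with `l ∘ d = t ^ n`.  For a square-zero ideal `J` of an `A`-algebra
`C` and an `A`-algebra map `g : P.Ring → C` mapping `P.ker` into `J`, surjective modulo `J`, and
whose kernel modulo `J` is `P.ker + s P.Ring` with `s = 0` in `C`, there is an `A`-linear derivation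
`D : C → J` which is multiplication by `t ^ n` on `J`.
-/

set_option autoImplicit false
universe u
open TensorProduct

namespace Groth.Agent.Lib.R2H7.RigidSm

section Der
open Algebra Algebra.Extension KaehlerDifferential

variable {A B : Type u} [CommRing A] [CommRing B] [Algebra A B] (P : Algebra.Extension.{u} A B)
  {C : Type u} [CommRing C] [Algebra A C] (J : Ideal C) (g : P.Ring →ₐ[A] C)

/-- `x ↦ g x` on the kernel, as a `g`-semilinear map -/
noncomputable def kerMap : P.ker →ₛₗ[g.toRingHom] C where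
  toFun x := g x.1
  map_add' x y := by simp
  map_smul' r x := by
    show g ((r • x : P.ker) : P.Ring) = g.toRingHom r • g x.1
    rw [Submodule.coe_smul, smul_eq_mul, map_mul, smul_eq_mul]
    rfl

variable {J} in
lemma kerMap_le (hJ : ∀ x ∈ J, ∀ y ∈ J, x * y = 0) (hgI : ∀ x ∈ P.ker, g x ∈ J) :
    (P.ker • (⊤ : Submodule P.Ring P.ker)) ≤ LinearMap.ker (kerMap P g) := by
  rw [Submodule.smul_le]
  intro a ha x _
  rw [LinearMap.mem_ker]
  show g ((a • x : P.ker) : P.Ring) = 0
  rw [Submodule.coe_smul, smul_eq_mul, map_mul]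
  exact hJ _ (hgI a ha) _ (hgI x.1 x.2)

variable {J} in
/-- the map `I/I² → C` induced by `g` -/
noncomputable def psi (hJ : ∀ x ∈ J, ∀ y ∈ J, x * y = 0) (hgI : ∀ x ∈ P.ker, g x ∈ J) :
    P.Cotangent → C := fun x =>
  Submodule.liftQ (P.ker • (⊤ : Submodule P.Ring P.ker)) (kerMap P g) (kerMap_le P g hJ hgI)
    (x.val : P.ker ⧸ (P.ker • (⊤ : Submodule P.Ring P.ker)))

variable {J} (hJ : ∀ x ∈ J, ∀ y ∈ J, x * y = 0) (hgI : ∀ x ∈ P.ker, g x ∈ J)

lemma psi_mk (x : P.ker) : psi P g hJ hgI (Cotangent.mk x) = g x.1 := rfl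

lemma psi_add (x y : P.Cotangent) :
    psi P g hJ hgI (x + y) = psi P g hJ hgI x + psi P g hJ hgI y := by
  obtain ⟨x, rfl⟩ := Cotangent.mk_surjective x
  obtain ⟨y, rfl⟩ := Cotangent.mk_surjective y
  rw [← map_add, psi_mk, psi_mk, psi_mk, Submodule.coe_add, map_add]

lemma psi_smul (r : P.Ring) (x : P.Cotangent) :
    psi P g hJ hgI (r • x) = g r * psi P g hJ hgI x := by
  obtain ⟨x, rfl⟩ := Cotangent.mk_surjective x
  rw [← map_smul, psi_mk, psi_mk, Submodule.coe_smul, smul_eq_mul, map_mul]

lemma psi_zero : psi P g hJ hgI 0 = 0 := by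
  have := psi_mk P g hJ hgI 0
  rw [map_zero] at this
  rw [this]
  simp

lemma psi_mem (x : P.Cotangent) : psi P g hJ hgI x ∈ J := by
  obtain ⟨x, rfl⟩ := Cotangent.mk_surjective x
  rw [psi_mk]
  exact hgI x.1 x.2

variable (l : P.CotangentSpace →ₗ[B] P.Cotangent)

/-- the derivation `P.Ring → J` obtained from `l` -/
noncomputable def delta (r : P.Ring) : C :=
  psi P g hJ hgI (l ((1 : B) ⊗ₜ[P.Ring] D A P.Ring r))

lemma delta_add (r s : P.Ring) :
    delta P g hJ hgI l (r + s) = delta P g hJ hgI l r + delta P g hJ hgI l s := by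
  unfold delta
  rw [map_add, TensorProduct.tmul_add, map_add, psi_add]

lemma delta_mul (r s : P.Ring) :
    delta P g hJ hgI l (r * s) = g r * delta P g hJ hgI l s + g s * delta P g hJ hgI l r := by
  unfold delta
  rw [Derivation.leibniz, TensorProduct.tmul_add, TensorProduct.tmul_smul, TensorProduct.tmul_smul,
    map_add, LinearMap.map_smul_of_tower, LinearMap.map_smul_of_tower, psi_add, psi_smul, psi_smul]

lemma delta_algebraMap (a : A) : delta P g hJ hgI l (algebraMap A P.Ring a) = 0 := by
  unfold delta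
  rw [Derivation.map_algebraMap, TensorProduct.tmul_zero, map_zero, psi_zero]

lemma delta_zero : delta P g hJ hgI l 0 = 0 := by
  have := delta_algebraMap P g hJ hgI l 0
  rwa [map_zero] at this

lemma delta_mem (r : P.Ring) : delta P g hJ hgI l r ∈ J := psi_mem P g hJ hgI _

lemma delta_smul (a : A) (r : P.Ring) :
    delta P g hJ hgI l (a • r) = a • delta P g hJ hgI l r := by
  rw [Algebra.smul_def, delta_mul, delta_algebraMap, mul_zero, add_zero, AlgHom.commutes,
    Algebra.smul_def]

lemma delta_ker (t : A) (n : ℕ)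
    (hl : l ∘ₗ P.cotangentComplex = (algebraMap A B t) ^ n • LinearMap.id)
    (x : P.Ring) (hx : x ∈ P.ker) :
    delta P g hJ hgI l x = algebraMap A C (t ^ n) * g x := by
  have h1 : l (P.cotangentComplex (Cotangent.mk ⟨x, hx⟩)) =
      (algebraMap A B t) ^ n • Cotangent.mk ⟨x, hx⟩ := by
    have := LinearMap.congr_fun hl (Cotangent.mk ⟨x, hx⟩)
    simpa using this
  rw [cotangentComplex_mk] at h1
  unfold delta
  show psi P g hJ hgI (l ((1 : B) ⊗ₜ[P.Ring] D A P.Ring x)) = _
  rw [h1]
  have h2 : (algebraMap A B t) ^ n = algebraMap P.Ring B (algebraMap A P.Ring (t ^ n)) := by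
    rw [← IsScalarTower.algebraMap_apply, map_pow]
  rw [h2, algebraMap_smul, psi_smul, psi_mk, AlgHom.commutes]

variable (hsurj : ∀ c : C, ∃ r : P.Ring, c - g r ∈ J)

/-- a chosen lift -/
noncomputable def lift0 (c : C) : P.Ring := Classical.choose (hsurj c)

lemma lift0_spec (c : C) : c - g (lift0 P g hsurj c) ∈ J := Classical.choose_spec (hsurj c)

variable (t : A) (n : ℕ)

/-- the derivation on `C` -/
noncomputable def derFun (c : C) : C :=
  delta P g hJ hgI l (lift0 P g hsurj c) + algebraMap A C (t ^ n) * (c - g (lift0 P g hsurj c))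

variable (hl : l ∘ₗ P.cotangentComplex = (algebraMap A B t) ^ n • LinearMap.id)
  (s : A) (hs : algebraMap A C s = 0)
  (hker : ∀ r, g r ∈ J → ∃ x ∈ P.ker, ∃ r', r = x + algebraMap A P.Ring s * r')

include hl hs hker in
lemma derFun_eq (c : C) (r : P.Ring) (hr : c - g r ∈ J) :
    derFun P g hJ hgI l hsurj t n c =
      delta P g hJ hgI l r + algebraMap A C (t ^ n) * (c - g r) := by
  set r₀ := lift0 P g hsurj c with hr₀
  have h0 : c - g r₀ ∈ J := lift0_spec P g hsurj c
  have hd : g (r - r₀) ∈ J := by
    have : g (r - r₀) = (c - g r₀) - (c - g r) := by rw [map_sub]; ring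
    rw [this]
    exact J.sub_mem h0 hr
  obtain ⟨x, hx, r', hr'⟩ := hker _ hd
  have hgs : g (algebraMap A P.Ring s) = 0 := by rw [AlgHom.commutes, hs]
  have e1 : delta P g hJ hgI l r = delta P g hJ hgI l r₀ + algebraMap A C (t ^ n) * g x := by
    have : r = r₀ + (x + algebraMap A P.Ring s * r') := by rw [← hr']; ring
    rw [this, delta_add, delta_add, delta_mul, delta_algebraMap, hgs,
      delta_ker P g hJ hgI l t n hl x hx]
    ring
  have e2 : g r = g r₀ + g x := by
    have : r = r₀ + (x + algebraMap A P.Ring s * r') := by rw [← hr']; ring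
    rw [this, map_add, map_add, map_mul, hgs, zero_mul, add_zero]
  show delta P g hJ hgI l r₀ + algebraMap A C (t ^ n) * (c - g r₀) = _
  rw [e1, e2]
  ring

include hl hs hker hJ hgI hsurj in
theorem exists_der :
    ∃ D : C →ₗ[A] C, (∀ c, D c ∈ J) ∧ (∀ c c', D (c * c') = c * D c' + c' * D c) ∧
      (∀ j ∈ J, D j = algebraMap A C (t ^ n) * j) := by
  have key := derFun_eq P g hJ hgI l hsurj t n hl s hs hker
  have hmem : ∀ c, derFun P g hJ hgI l hsurj t n c ∈ J := fun c =>
    J.add_mem (delta_mem P g hJ hgI l _) (J.mul_mem_left _ (lift0_spec P g hsurj c))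
  refine ⟨{ toFun := derFun P g hJ hgI l hsurj t n, map_add' := ?_, map_smul' := ?_ },
    hmem, ?_, ?_⟩
  · intro c c'
    have h1 := lift0_spec P g hsurj c
    have h2 := lift0_spec P g hsurj c'
    have h3 : (c + c') - g (lift0 P g hsurj c + lift0 P g hsurj c') ∈ J := by
      have : (c + c') - g (lift0 P g hsurj c + lift0 P g hsurj c') =
          (c - g (lift0 P g hsurj c)) + (c' - g (lift0 P g hsurj c')) := by rw [map_add]; ring
      rw [this]
      exact J.add_mem h1 h2
    rw [key _ _ h3, delta_add, map_add]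
    show _ = (delta P g hJ hgI l (lift0 P g hsurj c) + _) + (delta P g hJ hgI l (lift0 P g hsurj c') + _)
    ring
  · intro a c
    have h1 := lift0_spec P g hsurj c
    have h3 : a • c - g (a • lift0 P g hsurj c) ∈ J := by
      have : a • c - g (a • lift0 P g hsurj c) = a • (c - g (lift0 P g hsurj c)) := by
        rw [map_smul, smul_sub]
      rw [this]
      exact J.smul_of_tower_mem a h1
    rw [key _ _ h3, delta_smul, map_smul, RingHom.id_apply]
    show _ = a • (delta P g hJ hgI l (lift0 P g hsurj c) + _)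
    rw [smul_add, ← smul_sub, mul_smul_comm]
  · intro c c'
    show derFun P g hJ hgI l hsurj t n (c * c') =
      c * derFun P g hJ hgI l hsurj t n c' + c' * derFun P g hJ hgI l hsurj t n c
    set r := lift0 P g hsurj c
    set r' := lift0 P g hsurj c'
    have h1 : c - g r ∈ J := lift0_spec P g hsurj c
    have h2 : c' - g r' ∈ J := lift0_spec P g hsurj c'
    have h3 : c * c' - g (r * r') ∈ J := by
      have : c * c' - g (r * r') = (c - g r) * c' + g r * (c' - g r') := by rw [map_mul]; ring
      rw [this]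
      exact J.add_mem (J.mul_mem_right _ h1) (J.mul_mem_left _ h2)
    rw [key _ _ h3, key c r h1, key c' r' h2, delta_mul]
    have z1 : (c - g r) * delta P g hJ hgI l r' = 0 := hJ _ h1 _ (delta_mem P g hJ hgI l _)
    have z2 : (c' - g r') * delta P g hJ hgI l r = 0 := hJ _ h2 _ (delta_mem P g hJ hgI l _)
    have z3 : (c - g r) * (c' - g r') = 0 := hJ _ h1 _ h2
    have e1 : c * delta P g hJ hgI l r' = g r * delta P g hJ hgI l r' := by
      have : c = (c - g r) + g r := by ring
      rw [this, add_mul, z1, zero_add]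
    have e2 : c' * delta P g hJ hgI l r = g r' * delta P g hJ hgI l r := by
      have : c' = (c' - g r') + g r' := by ring
      rw [this, add_mul, z2, zero_add]
    rw [mul_add, mul_add, e1, e2, map_mul]
    linear_combination (-(algebraMap A C (t ^ n))) * z3
  · intro j hj
    have h3 : j - g 0 ∈ J := by rwa [map_zero, sub_zero]
    show derFun P g hJ hgI l hsurj t n j = _
    rw [key _ _ h3, delta_zero, map_zero, sub_zero, zero_add]

end Der

end Groth.Agent.Lib.R2H7.RigidSm
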