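import Mathlib

/-!
# Splitting a square-zero extension of `B₀` from a derivation on its base change

Let `q₀ : E₀ → B₀` be a surjection of `k`-algebras with square-zero kernel, `Am` a `k`-algebra with
an element `u` and a `k`-linear functional `lam` with `lam u = 1`.  A `k`-linear derivation `D` of
`Am ⊗[k] E₀` with values in the kernel of `Am ⊗ E₀ → Am ⊗ B₀` which is multiplication by `u ⊗ 1`
on that kernel yields a `k`-algebra section of `q₀`.
-/

set_option autoImplicit false
universe u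
open TensorProduct

namespace Groth.Agent.Lib.R2H7.RigidSm

section Split

variable {k : Type u} [CommRing k] {B₀ E₀ Am : Type u} [CommRing B₀] [Algebra k B₀] [CommRing E₀]
  [Algebra k E₀] [CommRing Am] [Algebra k Am]

/-- `a ⊗ e ↦ lam a • e` -/
noncomputable def contr (M : Type u) [AddCommGroup M] [Module k M] (lam : Am →ₗ[k] k) :
    Am ⊗[k] M →ₗ[k] M :=
  (TensorProduct.lid k M).toLinearMap ∘ₗ LinearMap.rTensor M lam

@[simp] lemma contr_tmul (M : Type u) [AddCommGroup M] [Module k M] (lam : Am →ₗ[k] k) (a : Am)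
    (x : M) : contr M lam (a ⊗ₜ[k] x) = lam a • x := by
  simp [contr]

lemma contr_mul (lam : Am →ₗ[k] k) (e : E₀) (c : Am ⊗[k] E₀) :
    contr E₀ lam (((1 : Am) ⊗ₜ[k] e) * c) = e * contr E₀ lam c := by
  induction c using TensorProduct.induction_on with
  | zero => simp
  | tmul a e' =>
    rw [Algebra.TensorProduct.tmul_mul_tmul, one_mul, contr_tmul, contr_tmul, mul_smul_comm]
  | add x y hx hy => rw [mul_add, map_add, hx, hy, map_add, mul_add]

lemma contr_map (lam : Am →ₗ[k] k) (q₀ : E₀ →ₐ[k] B₀) (c : Am ⊗[k] E₀) :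
    q₀ (contr E₀ lam c) = contr B₀ lam (Algebra.TensorProduct.map (AlgHom.id k Am) q₀ c) := by
  induction c using TensorProduct.induction_on with
  | zero => simp
  | tmul a e' =>
    rw [Algebra.TensorProduct.map_tmul, contr_tmul, contr_tmul, map_smul, AlgHom.coe_id, id]
  | add x y hx hy => rw [map_add, map_add, hx, hy, map_add, map_add]

variable (q₀ : E₀ →ₐ[k] B₀) (hq₀ : Function.Surjective q₀)
  (hN : ∀ x y, q₀ x = 0 → q₀ y = 0 → x * y = 0)
  (u : Am) (lam : Am →ₗ[k] k) (hlam : lam u = 1)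
  (D : Am ⊗[k] E₀ →ₗ[k] Am ⊗[k] E₀)
  (hDJ : ∀ c, Algebra.TensorProduct.map (AlgHom.id k Am) q₀ (D c) = 0)
  (hDmul : ∀ c c', D (c * c') = c * D c' + c' * D c)
  (hDu : ∀ j, Algebra.TensorProduct.map (AlgHom.id k Am) q₀ j = 0 → D j = (u ⊗ₜ[k] (1 : E₀)) * j)

/-- the induced derivation of `E₀` -/
noncomputable def der0 : E₀ →ₗ[k] E₀ :=
  contr E₀ lam ∘ₗ D ∘ₗ (TensorProduct.mk k Am E₀ 1)

lemma der0_apply (e : E₀) : der0 lam D e = contr E₀ lam (D ((1 : Am) ⊗ₜ[k] e)) := rfl

include hDmul in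
lemma der0_mul (e e' : E₀) :
    der0 lam D (e * e') = e * der0 lam D e' + e' * der0 lam D e := by
  rw [der0_apply, der0_apply, der0_apply]
  have : ((1 : Am) ⊗ₜ[k] (e * e')) = ((1 : Am) ⊗ₜ[k] e) * ((1 : Am) ⊗ₜ[k] e') := by
    rw [Algebra.TensorProduct.tmul_mul_tmul, one_mul]
  rw [this, hDmul, map_add, contr_mul, contr_mul]

include hDJ in
lemma der0_mem (e : E₀) : q₀ (der0 lam D e) = 0 := by
  rw [der0_apply, contr_map, hDJ, map_zero]

include hDu hlam in
lemma der0_ker (ν : E₀) (hν : q₀ ν = 0) : der0 lam D ν = ν := by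
  rw [der0_apply, hDu]
  · rw [Algebra.TensorProduct.tmul_mul_tmul, mul_one, one_mul, contr_tmul, hlam, one_smul]
  · rw [Algebra.TensorProduct.map_tmul, hν, TensorProduct.tmul_zero]

include hDmul in
lemma der0_one : der0 lam D 1 = 0 := by
  have := der0_mul lam D hDmul 1 1
  rw [mul_one, one_mul] at this
  have h2 : der0 lam D 1 + 0 = der0 lam D 1 + der0 lam D 1 := by rw [add_zero]; exact this
  exact (add_left_cancel h2).symm

include hN hDJ hDmul in
/-- `id - der0` as an algebra endomorphism -/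
noncomputable def phi0 : E₀ →ₐ[k] E₀ :=
  AlgHom.ofLinearMap (LinearMap.id - der0 lam D)
    (by rw [LinearMap.sub_apply, LinearMap.id_apply, der0_one lam D hDmul, sub_zero])
    (by
      intro e e'
      rw [LinearMap.sub_apply, LinearMap.sub_apply, LinearMap.sub_apply, LinearMap.id_apply,
        LinearMap.id_apply, LinearMap.id_apply, der0_mul lam D hDmul]
      have z : der0 lam D e * der0 lam D e' = 0 :=
        hN _ _ (der0_mem q₀ lam D hDJ e) (der0_mem q₀ lam D hDJ e')
      linear_combination (-1 : E₀) * z)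

include hq₀ hN hlam hDJ hDmul hDu in
theorem exists_section_of_der : ∃ s : B₀ →ₐ[k] E₀, ∀ b, q₀ (s b) = b := by
  classical
  set φ := phi0 q₀ hN lam D hDJ hDmul with hφ
  have φ_apply : ∀ e, φ e = e - der0 lam D e := fun e => rfl
  have φ_ker : ∀ ν, q₀ ν = 0 → φ ν = 0 := by
    intro ν hν
    rw [φ_apply, der0_ker q₀ u lam hlam D hDu ν hν, sub_self]
  have φ_eq : ∀ e e', q₀ e = q₀ e' → φ e = φ e' := by
    intro e e' h
    have : φ (e - e') = 0 := φ_ker _ (by rw [map_sub, h, sub_self])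
    rw [map_sub, sub_eq_zero] at this
    exact this
  have hinv : ∀ b, q₀ (Function.surjInv hq₀ b) = b := Function.surjInv_eq hq₀
  refine ⟨
    { toFun := fun b => φ (Function.surjInv hq₀ b)
      map_one' := ?_
      map_mul' := ?_
      map_zero' := ?_
      map_add' := ?_
      commutes' := ?_ }, ?_⟩
  · rw [φ_eq _ 1 (by rw [hinv, map_one]), map_one]
  · intro b b'
    show φ _ = φ _ * φ _
    rw [← map_mul]
    exact φ_eq _ _ (by rw [hinv, map_mul, hinv, hinv])
  · show φ _ = 0
    rw [φ_eq _ 0 (by rw [hinv, map_zero]), map_zero]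
  · intro b b'
    show φ _ = φ _ + φ _
    rw [← map_add]
    exact φ_eq _ _ (by rw [hinv, map_add, hinv, hinv])
  · intro c
    show φ _ = _
    rw [φ_eq _ (algebraMap k E₀ c) (by rw [hinv, AlgHom.commutes]), AlgHom.commutes]
  · intro b
    show q₀ (φ (Function.surjInv hq₀ b)) = b
    rw [φ_apply, map_sub, der0_mem q₀ lam D hDJ, sub_zero, hinv]

end Split

section Smooth

variable {k : Type u} [CommRing k] {B₀ : Type u} [CommRing B₀] [Algebra k B₀] {ι : Type u}
  (f : MvPolynomial ι k →ₐ[k] B₀)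

lemma kerSquareLift_sq (x y : MvPolynomial ι k ⧸ RingHom.ker f.toRingHom ^ 2)
    (hx : f.kerSquareLift x = 0) (hy : f.kerSquareLift y = 0) : x * y = 0 := by
  have hx' : x ∈ (RingHom.ker f.toRingHom).cotangentIdeal := by
    rw [← AlgHom.ker_kerSquareLift]; exact hx
  have hy' : y ∈ (RingHom.ker f.toRingHom).cotangentIdeal := by
    rw [← AlgHom.ker_kerSquareLift]; exact hy
  have h1 : x * y ∈ (RingHom.ker f.toRingHom).cotangentIdeal *
      (RingHom.ker f.toRingHom).cotangentIdeal := Ideal.mul_mem_mul hx' hy'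
  have h2 : (RingHom.ker f.toRingHom).cotangentIdeal * (RingHom.ker f.toRingHom).cotangentIdeal
      = ⊥ := by
    rw [← pow_two]; exact Ideal.cotangentIdeal_square _
  rw [h2] at h1
  exact h1

lemma kerSquareLift_surjective (hf : Function.Surjective f) :
    Function.Surjective f.kerSquareLift := by
  intro b
  obtain ⟨x, rfl⟩ := hf b
  exact ⟨Ideal.Quotient.mk _ x, AlgHom.kerSquareLift_mk f x⟩

theorem formallySmooth_of_section
    (s : B₀ →ₐ[k] MvPolynomial ι k ⧸ RingHom.ker f.toRingHom ^ 2)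
    (hs : ∀ b, f.kerSquareLift (s b) = b) : Algebra.FormallySmooth k B₀ :=
  Algebra.FormallySmooth.of_split f s (AlgHom.ext hs)

end Smooth

end Groth.Agent.Lib.R2H7.RigidSm
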