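import Mathlib

/-!
# The Artinian local quotients `A ⧸ 𝔪 ^ m` of a `k`-algebra at a maximal ideal with residue field `k`
-/

set_option autoImplicit false
universe u

namespace Groth.Agent.Lib.R2H7.RigidSm

section Am

variable {k A : Type u} [Field k] [CommRing A] [Algebra k A] (𝔪 : Ideal A) [h𝔪 : 𝔪.IsMaximal]
  (m : ℕ)

include h𝔪 in
lemma pow_ne_top (hm : m ≠ 0) : 𝔪 ^ m ≠ ⊤ := fun h =>
  h𝔪.ne_top (top_le_iff.mp (h ▸ Ideal.pow_le_self hm))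

lemma prime_eq (q : Ideal (A ⧸ 𝔪 ^ m)) [hq : q.IsPrime] :
    q = 𝔪.map (Ideal.Quotient.mk (𝔪 ^ m)) := by
  have h1 : 𝔪 ^ m ≤ q.comap (Ideal.Quotient.mk (𝔪 ^ m)) := by
    intro x hx
    rw [Ideal.mem_comap, Ideal.Quotient.eq_zero_iff_mem.mpr hx]
    exact q.zero_mem
  haveI hp : (q.comap (Ideal.Quotient.mk (𝔪 ^ m))).IsPrime := Ideal.comap_isPrime _ _
  have h2 : 𝔪 ≤ q.comap (Ideal.Quotient.mk (𝔪 ^ m)) := hp.le_of_pow_le h1
  have h3 : 𝔪 = q.comap (Ideal.Quotient.mk (𝔪 ^ m)) := h𝔪.eq_of_le hp.ne_top h2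
  have h4 := Ideal.map_comap_of_surjective (Ideal.Quotient.mk (𝔪 ^ m))
    Ideal.Quotient.mk_surjective q
  rw [← h3] at h4
  exact h4.symm

lemma isMaximal_map (hm : m ≠ 0) : (𝔪.map (Ideal.Quotient.mk (𝔪 ^ m))).IsMaximal := by
  haveI : Nontrivial (A ⧸ 𝔪 ^ m) := Ideal.Quotient.nontrivial_iff.mpr (pow_ne_top 𝔪 m hm)
  obtain ⟨M, hM⟩ := Ideal.exists_maximal (A ⧸ 𝔪 ^ m)
  haveI := hM.isPrime
  rw [← prime_eq 𝔪 m M]
  exact hM

lemma isLocalRing_quot (hm : m ≠ 0) : IsLocalRing (A ⧸ 𝔪 ^ m) :=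
  IsLocalRing.of_unique_max_ideal ⟨_, isMaximal_map 𝔪 m hm, fun M hM => by
    haveI := hM.isPrime
    exact prime_eq 𝔪 m M⟩

lemma maximalIdeal_quot [IsLocalRing (A ⧸ 𝔪 ^ m)] :
    IsLocalRing.maximalIdeal (A ⧸ 𝔪 ^ m) = 𝔪.map (Ideal.Quotient.mk (𝔪 ^ m)) :=
  prime_eq 𝔪 m _

lemma isArtinianRing_quot [IsNoetherianRing A] (hm : m ≠ 0) : IsArtinianRing (A ⧸ 𝔪 ^ m) :=
  isArtinianRing_iff_krullDimLE_zero.mpr (Ring.KrullDimLE.mk₀ fun q hq => by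
    haveI := hq
    rw [prime_eq 𝔪 m q]
    exact isMaximal_map 𝔪 m hm)

lemma map_pow_eq_bot : (𝔪.map (Ideal.Quotient.mk (𝔪 ^ m))) ^ m = ⊥ := by
  rw [← Ideal.map_pow, Ideal.map_quotient_self]

lemma mem_map_iff (hm : m ≠ 0) (a : A) :
    Ideal.Quotient.mk (𝔪 ^ m) a ∈ 𝔪.map (Ideal.Quotient.mk (𝔪 ^ m)) ↔ a ∈ 𝔪 := by
  constructor
  · intro h
    rw [Ideal.mem_map_iff_of_surjective _ Ideal.Quotient.mk_surjective] at h
    obtain ⟨x, hx, hxa⟩ := h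
    have : x - a ∈ 𝔪 ^ m := Ideal.Quotient.eq.mp hxa
    have h2 : x - a ∈ 𝔪 := Ideal.pow_le_self hm this
    have : a = x - (x - a) := by ring
    rw [this]
    exact 𝔪.sub_mem hx h2
  · intro h
    exact Ideal.mem_map_of_mem _ h

theorem exists_aug (hres : Function.Bijective (algebraMap k (A ⧸ 𝔪))) (hm : m ≠ 0) :
    ∃ aug : (A ⧸ 𝔪 ^ m) →ₐ[k] k,
      RingHom.ker aug.toRingHom = 𝔪.map (Ideal.Quotient.mk (𝔪 ^ m)) ∧
      (∀ a : A, a - algebraMap k A (aug (Ideal.Quotient.mk (𝔪 ^ m) a)) ∈ 𝔪) := by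
  let e₀ : k ≃ₐ[k] A ⧸ 𝔪 := AlgEquiv.ofBijective (Algebra.ofId k (A ⧸ 𝔪)) hres
  let fac : (A ⧸ 𝔪 ^ m) →ₐ[k] A ⧸ 𝔪 := Ideal.Quotient.factorₐ k (Ideal.pow_le_self hm)
  let aug : (A ⧸ 𝔪 ^ m) →ₐ[k] k := (e₀.symm : (A ⧸ 𝔪) →ₐ[k] k).comp fac
  have haug : ∀ a : A, aug (Ideal.Quotient.mk (𝔪 ^ m) a) = e₀.symm (Ideal.Quotient.mk 𝔪 a) :=
    fun a => rfl
  have he₀ : ∀ c : k, e₀ c = algebraMap k (A ⧸ 𝔪) c := fun c => rfl
  have key : ∀ a : A, Ideal.Quotient.mk 𝔪 (algebraMap k A (aug (Ideal.Quotient.mk (𝔪 ^ m) a)))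
      = Ideal.Quotient.mk 𝔪 a := by
    intro a
    rw [haug]
    have : Ideal.Quotient.mk 𝔪 (algebraMap k A (e₀.symm (Ideal.Quotient.mk 𝔪 a))) =
        e₀ (e₀.symm (Ideal.Quotient.mk 𝔪 a)) := by rw [he₀]; rfl
    rw [this, AlgEquiv.apply_symm_apply]
  refine ⟨aug, ?_, ?_⟩
  · ext x
    obtain ⟨a, rfl⟩ := Ideal.Quotient.mk_surjective x
    rw [mem_map_iff 𝔪 m hm, RingHom.mem_ker]
    show aug (Ideal.Quotient.mk (𝔪 ^ m) a) = 0 ↔ _
    rw [haug, map_eq_zero_iff _ e₀.symm.injective, Ideal.Quotient.eq_zero_iff_mem]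
  · intro a
    rw [← Ideal.Quotient.eq, key]

end Am

section Res

variable {k A : Type u} [Field k] [IsAlgClosed k] [CommRing A] [Algebra k A]
  [Algebra.FiniteType k A] (𝔪 : Ideal A) [h𝔪 : 𝔪.IsMaximal]

theorem bijective_algebraMap_quot : Function.Bijective (algebraMap k (A ⧸ 𝔪)) := by
  letI : Field (A ⧸ 𝔪) := Ideal.Quotient.field 𝔪
  haveI : Algebra.FiniteType k (A ⧸ 𝔪) :=
    Algebra.FiniteType.of_surjective (Ideal.Quotient.mkₐ k 𝔪) (Ideal.Quotient.mkₐ_surjective k 𝔪)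
  haveI : Module.Finite k (A ⧸ 𝔪) := finite_of_finite_type_of_isJacobsonRing k (A ⧸ 𝔪)
  haveI : Algebra.IsIntegral k (A ⧸ 𝔪) := Algebra.IsIntegral.of_finite k (A ⧸ 𝔪)
  exact IsAlgClosed.algebraMap_bijective_of_isIntegral

end Res

section Misc

variable {k : Type u} [Field k]

lemma exists_functional {V : Type u} [AddCommGroup V] [Module k V] (v : V) (hv : v ≠ 0) :
    ∃ lam : V →ₗ[k] k, lam v = 1 := by
  obtain ⟨g, hg⟩ := LinearMap.exists_leftInverse_of_injective (LinearMap.toSpanSingleton k V v)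
    (LinearMap.ker_toSpanSingleton k hv)
  refine ⟨g, ?_⟩
  have := LinearMap.congr_fun hg 1
  simpa using this

lemma pow_notMem_span_pow {A : Type u} [CommRing A] [IsDomain A] (t : A)
    (ht : (Ideal.span {t}).IsMaximal) (ht0 : t ≠ 0) (n : ℕ) :
    t ^ n ∉ Ideal.span {t} ^ (n + 1) := by
  intro h
  rw [Ideal.span_singleton_pow, Ideal.mem_span_singleton] at h
  obtain ⟨a, ha⟩ := h
  have h1 : t ^ n * 1 = t ^ n * (t * a) := by rw [mul_one, ← mul_assoc, ← pow_succ]; exact ha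
  have h2 : 1 = t * a := mul_left_cancel₀ (pow_ne_zero n ht0) h1
  have h3 : Ideal.span {t} = ⊤ :=
    Ideal.span_singleton_eq_top.mpr (IsUnit.of_mul_eq_one _ h2.symm)
  exact ht.ne_top h3

lemma ne_zero_of_krullDim {A : Type u} [CommRing A] [IsDomain A] (t : A)
    (ht : (Ideal.span {t}).IsMaximal) (hdim : ringKrullDim A = 1) : t ≠ 0 := by
  rintro rfl
  have h0 : (Ideal.span {(0 : A)}) = ⊥ := by simp
  rw [h0] at ht
  have hf : IsField A := by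
    have := (Ideal.Quotient.maximal_ideal_iff_isField_quotient (⊥ : Ideal A)).mp ht
    exact MulEquiv.isField this (RingEquiv.quotientBot A).symm.toMulEquiv
  have := ringKrullDim_eq_zero_of_isField hf
  rw [this] at hdim
  exact zero_ne_one hdim

end Misc

end Groth.Agent.Lib.R2H7.RigidSm
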