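import Mathlib
import Groth.Agent.Lib.R2H7RigidAffine
import Groth.Agent.Lib.R2H7RigidSmC

/-!
# Trivialisation of the infinitesimal neighbourhoods of a fibre with rigid coordinate ring
-/

set_option autoImplicit false
universe u
open TensorProduct

namespace Groth.Agent.Lib.R2H7.RigidSm

section Triv

variable {k : Type u} [Field k] {A B B₀ : Type u} [CommRing A] [CommRing B] [CommRing B₀]
  [Algebra k A] [Algebra A B] [Algebra k B] [IsScalarTower k A B] [Algebra k B₀]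
  [Module.Flat A B] [IsNoetherianRing A]
  (𝔪 : Ideal A) [h𝔪 : 𝔪.IsMaximal] (m : ℕ)

theorem exists_triv (hm : m ≠ 0) (hres : Function.Bijective (algebraMap k (A ⧸ 𝔪)))
    (hT : ∀ E : Exal.Ext k B₀ B₀, E.IsTrivial)
    (ρ : B →ₐ[k] B₀) (hρ : Function.Surjective ρ)
    (hkerρ : RingHom.ker ρ.toRingHom = 𝔪.map (algebraMap A B)) :
    Nonempty (((A ⧸ 𝔪 ^ m) ⊗[k] B₀) ≃ₐ[A ⧸ 𝔪 ^ m] ((A ⧸ 𝔪 ^ m) ⊗[A] B)) := by
  classical
  haveI : IsLocalRing (A ⧸ 𝔪 ^ m) := isLocalRing_quot 𝔪 m hm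
  haveI : IsArtinianRing (A ⧸ 𝔪 ^ m) := isArtinianRing_quot 𝔪 m hm
  obtain ⟨aug, haug_ker, haug⟩ := exists_aug 𝔪 m hres hm
  letI algAB₀ : Algebra A B₀ := (ρ.toRingHom.comp (algebraMap A B)).toAlgebra
  have halg : ∀ a : A, algebraMap A B₀ a = ρ (algebraMap A B a) := fun a => rfl
  haveI : IsScalarTower k A B₀ := IsScalarTower.of_algebraMap_eq (fun c => by
    rw [halg, ← IsScalarTower.algebraMap_apply k A B, AlgHom.commutes])
  have hρ0 : ∀ a ∈ 𝔪, ρ (algebraMap A B a) = 0 := by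
    intro a ha
    have : algebraMap A B a ∈ RingHom.ker ρ.toRingHom := by
      rw [hkerρ]; exact Ideal.mem_map_of_mem _ ha
    exact this
  let ρA : B →ₐ[A] B₀ := { ρ.toRingHom with commutes' := fun a => rfl }
  have hρA : ∀ b, ρA b = ρ b := fun b => rfl
  let fA : (A ⧸ 𝔪 ^ m) →ₐ[A] B₀ := Ideal.Quotient.liftₐ (𝔪 ^ m) (Algebra.ofId A B₀)
    (fun a ha => by
      show algebraMap A B₀ a = 0
      rw [halg]; exact hρ0 a (Ideal.pow_le_self hm ha))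
  have hfA : ∀ a : A, fA (Ideal.Quotient.mk (𝔪 ^ m) a) = ρ (algebraMap A B a) := fun a => rfl
  let cA : (A ⧸ 𝔪 ^ m) ⊗[A] B →ₐ[A] B₀ :=
    Algebra.TensorProduct.lift fA ρA (fun _ _ => Commute.all _ _)
  let c : (A ⧸ 𝔪 ^ m) ⊗[A] B →ₐ[k] B₀ := cA.restrictScalars k
  have hc_tmul : ∀ (x : A ⧸ 𝔪 ^ m) (b : B), c (x ⊗ₜ[A] b) = fA x * ρ b := fun x b => by
    show cA (x ⊗ₜ[A] b) = _
    rw [Algebra.TensorProduct.lift_tmul, hρA]
  have halgT : ∀ x : A ⧸ 𝔪 ^ m,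
      algebraMap (A ⧸ 𝔪 ^ m) ((A ⧸ 𝔪 ^ m) ⊗[A] B) x = x ⊗ₜ[A] (1 : B) := fun x => rfl
  have hsurj : Function.Surjective c := by
    intro b₀
    obtain ⟨b, rfl⟩ := hρ b₀
    refine ⟨1 ⊗ₜ[A] b, ?_⟩
    rw [hc_tmul, map_one, one_mul]
  have hmk_surj : Function.Surjective (algebraMap A (A ⧸ 𝔪 ^ m)) := Ideal.Quotient.mk_surjective
  have hker : RingHom.ker c.toRingHom = (𝔪.map (Ideal.Quotient.mk (𝔪 ^ m))).map
      (algebraMap (A ⧸ 𝔪 ^ m) ((A ⧸ 𝔪 ^ m) ⊗[A] B)) := by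
    apply le_antisymm
    · intro y hy
      obtain ⟨b, rfl⟩ := Algebra.TensorProduct.includeRight_surjective (R := A) B hmk_surj y
      have hb : ρ b = 0 := by
        have : c ((1 : A ⧸ 𝔪 ^ m) ⊗ₜ[A] b) = 0 := hy
        rwa [hc_tmul, map_one, one_mul] at this
      have hb' : b ∈ 𝔪.map (algebraMap A B) := by rw [← hkerρ]; exact hb
      have hle : 𝔪.map (algebraMap A B) ≤ Ideal.comap
          (Algebra.TensorProduct.includeRight : B →ₐ[A] (A ⧸ 𝔪 ^ m) ⊗[A] B).toRingHom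
          ((𝔪.map (Ideal.Quotient.mk (𝔪 ^ m))).map
            (algebraMap (A ⧸ 𝔪 ^ m) ((A ⧸ 𝔪 ^ m) ⊗[A] B))) := by
        rw [Ideal.map_le_iff_le_comap]
        intro a ha
        rw [Ideal.mem_comap, Ideal.mem_comap]
        show (Algebra.TensorProduct.includeRight : B →ₐ[A] (A ⧸ 𝔪 ^ m) ⊗[A] B)
          (algebraMap A B a) ∈ _
        rw [AlgHom.commutes, IsScalarTower.algebraMap_apply A (A ⧸ 𝔪 ^ m)]
        exact Ideal.mem_map_of_mem _ (Ideal.mem_map_of_mem _ ha)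
      exact hle hb'
    · rw [Ideal.map_le_iff_le_comap, Ideal.map_le_iff_le_comap]
      intro a ha
      rw [Ideal.mem_comap, Ideal.mem_comap, RingHom.mem_ker]
      show c (algebraMap (A ⧸ 𝔪 ^ m) ((A ⧸ 𝔪 ^ m) ⊗[A] B) (Ideal.Quotient.mk (𝔪 ^ m) a)) = 0
      rw [halgT, hc_tmul, map_one, mul_one, hfA]
      exact hρ0 a ha
  have hker1 : RingHom.ker c.toRingHom = (IsLocalRing.maximalIdeal (A ⧸ 𝔪 ^ m)).map
      (algebraMap (A ⧸ 𝔪 ^ m) ((A ⧸ 𝔪 ^ m) ⊗[A] B)) := by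
    rw [maximalIdeal_quot 𝔪 m]; exact hker
  obtain ⟨σ, hσ⟩ := Groth.Agent.Lib.R2H7.RigidAffine.exists_section hT c hsurj hker1
  have hker2 : RingHom.ker c.toRingHom = (RingHom.ker aug.toRingHom).map
      (algebraMap (A ⧸ 𝔪 ^ m) ((A ⧸ 𝔪 ^ m) ⊗[A] B)) := by
    rw [haug_ker]; exact hker
  have hn : (RingHom.ker aug.toRingHom) ^ m = ⊥ := by
    rw [haug_ker]; exact map_pow_eq_bot 𝔪 m
  have hc : ∀ a : A ⧸ 𝔪 ^ m, c (algebraMap (A ⧸ 𝔪 ^ m) ((A ⧸ 𝔪 ^ m) ⊗[A] B) a) =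
      algebraMap k B₀ (aug a) := by
    intro a
    obtain ⟨a, rfl⟩ := Ideal.Quotient.mk_surjective a
    rw [halgT, hc_tmul, map_one, mul_one, hfA]
    have h1 := hρ0 _ (haug a)
    rw [map_sub, map_sub, sub_eq_zero] at h1
    rw [h1, ← IsScalarTower.algebraMap_apply k A B, AlgHom.commutes]
  have hbij := Groth.Agent.Lib.R2H7.RigidAffine.bijective_of_section aug m hn c hc hker2 σ hσ
  exact ⟨AlgEquiv.ofBijective _ hbij⟩

end Triv

end Groth.Agent.Lib.R2H7.RigidSm
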