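import Mathlib
import Groth.Agent.Lib.R2H7RigidSmA
import Groth.Agent.Lib.R2H7RigidSmB
import Groth.Agent.Lib.R2H7RigidSmC
import Groth.Agent.Lib.R2H7RigidSmD
import Groth.Agent.Lib.Helper19TorsRetrC
import Groth.Agent.Lib.Helper19ExalT1D
import Groth.Agent.Lib.Helper7ExalBaer

/-!
# A rigid singular affine scheme is not smoothable over a curve (ring level)
-/

set_option autoImplicit false
universe u
open TensorProduct

namespace Groth.Agent.Lib.R2H7.RigidSm

section Sq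

variable {k : Type u} [CommRing k] {B₀ E₀ Am : Type u} [CommRing B₀] [Algebra k B₀] [CommRing E₀]
  [Algebra k E₀] [CommRing Am] [Algebra k Am]

lemma ker_map_sq (q₀ : E₀ →ₐ[k] B₀) (hq₀ : Function.Surjective q₀)
    (hN : ∀ x y, q₀ x = 0 → q₀ y = 0 → x * y = 0) (x y : Am ⊗[k] E₀)
    (hx : Algebra.TensorProduct.map (AlgHom.id k Am) q₀ x = 0)
    (hy : Algebra.TensorProduct.map (AlgHom.id k Am) q₀ y = 0) : x * y = 0 := by
  have hk := Algebra.TensorProduct.lTensor_ker (A := Am) q₀ hq₀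
  have hx' : x ∈ (RingHom.ker q₀).map
      (Algebra.TensorProduct.includeRight : E₀ →ₐ[k] Am ⊗[k] E₀) := by rw [← hk]; exact hx
  have hy' : y ∈ (RingHom.ker q₀).map
      (Algebra.TensorProduct.includeRight : E₀ →ₐ[k] Am ⊗[k] E₀) := by rw [← hk]; exact hy
  have h1 := Ideal.mul_mem_mul hx' hy'
  rw [← Ideal.map_mul] at h1
  have h2 : RingHom.ker q₀ * RingHom.ker q₀ = ⊥ := by
    rw [eq_bot_iff, Ideal.mul_le]
    intro a ha b hb
    rw [Ideal.mem_bot]
    exact hN a b ha hb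
  rw [h2, Ideal.map_bot] at h1
  exact h1

end Sq

section Generic

variable {k : Type u} [Field k] {A B B₀ Am E₀ : Type u} [CommRing A] [CommRing B] [CommRing B₀]
  [CommRing Am] [CommRing E₀]
  [Algebra k A] [Algebra A B] [Algebra k B] [IsScalarTower k A B] [Algebra k B₀] [Algebra k E₀]
  [Algebra A Am] [Algebra k Am] [IsScalarTower k A Am]
  (P : Algebra.Extension.{u} A B) [Algebra.FormallySmooth A P.Ring]
  (t : A) (n : ℕ) (l : P.CotangentSpace →ₗ[B] P.Cotangent)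
  (hl : l ∘ₗ P.cotangentComplex = (algebraMap A B t) ^ n • LinearMap.id)
  (Ψ : (Am ⊗[k] B₀) ≃ₐ[Am] (Am ⊗[A] B))
  (hAm : Function.Surjective (algebraMap A Am))
  (s : A) (hs : algebraMap A Am s = 0)
  (hkerB : ∀ b : B, (1 : Am) ⊗ₜ[A] b = 0 → ∃ b', b = algebraMap A B s * b')
  (lam : Am →ₗ[k] k) (hlam : lam (algebraMap A Am (t ^ n)) = 1)
  (q₀ : E₀ →ₐ[k] B₀) (hq₀ : Function.Surjective q₀)
  (hN : ∀ x y, q₀ x = 0 → q₀ y = 0 → x * y = 0)

include hl hAm hs hkerB hlam hq₀ hN Ψ in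
theorem exists_section_of_triv : ∃ σ : B₀ →ₐ[k] E₀, ∀ b, q₀ (σ b) = b := by
  classical
  let prA : Am ⊗[k] E₀ →ₐ[A] Am ⊗[k] B₀ := Algebra.TensorProduct.map (AlgHom.id A Am) q₀
  have hpr : ∀ c, prA c = Algebra.TensorProduct.map (AlgHom.id k Am) q₀ c := fun c => rfl
  have hprsurj : Function.Surjective prA := by
    intro y
    obtain ⟨x, hx⟩ := Algebra.TensorProduct.map_surjective (AlgHom.id k Am) q₀
      Function.surjective_id hq₀ y
    exact ⟨x, (hpr x).trans hx⟩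
  let J : Ideal (Am ⊗[k] E₀) := RingHom.ker prA.toRingHom
  have hJmem : ∀ c, c ∈ J ↔ prA c = 0 := fun c => Iff.rfl
  have hJ : ∀ x ∈ J, ∀ y ∈ J, x * y = 0 := fun x hx y hy =>
    ker_map_sq q₀ hq₀ hN x y ((hpr x).symm.trans hx) ((hpr y).symm.trans hy)
  have hnil : IsNilpotent (RingHom.ker (prA : Am ⊗[k] E₀ →+* Am ⊗[k] B₀)) := by
    refine ⟨2, ?_⟩
    rw [pow_two]
    exact eq_bot_iff.mpr (Ideal.mul_le.mpr fun x hx y hy => by
      rw [Ideal.mem_bot]; exact hJ x hx y hy)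
  let γ : P.Ring →ₐ[A] Am ⊗[k] B₀ :=
    ((Ψ.symm.restrictScalars A : (Am ⊗[A] B) ≃ₐ[A] (Am ⊗[k] B₀)) : (Am ⊗[A] B) →ₐ[A] _).comp
      ((Algebra.TensorProduct.includeRight : B →ₐ[A] Am ⊗[A] B).comp
        (IsScalarTower.toAlgHom A P.Ring B))
  have hγ : ∀ r, γ r = Ψ.symm ((1 : Am) ⊗ₜ[A] algebraMap P.Ring B r) := fun r => rfl
  have hγsurj : Function.Surjective γ := by
    intro y
    obtain ⟨b, hb⟩ := Algebra.TensorProduct.includeRight_surjective (R := A) B hAm (Ψ y)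
    obtain ⟨r, rfl⟩ := P.algebraMap_surjective b
    refine ⟨r, ?_⟩
    rw [hγ]
    have : (1 : Am) ⊗ₜ[A] algebraMap P.Ring B r = Ψ y := hb
    rw [this, AlgEquiv.symm_apply_apply]
  let g : P.Ring →ₐ[A] Am ⊗[k] E₀ :=
    Algebra.FormallySmooth.liftOfSurjective γ prA hprsurj hnil
  have hg : ∀ r, prA (g r) = γ r :=
    Algebra.FormallySmooth.liftOfSurjective_apply γ prA hprsurj hnil
  have hgI : ∀ x ∈ P.ker, g x ∈ J := by
    intro x hx
    rw [hJmem, hg, hγ]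
    have : algebraMap P.Ring B x = 0 := hx
    rw [this, TensorProduct.tmul_zero, map_zero]
  have hsurjg : ∀ c : Am ⊗[k] E₀, ∃ r : P.Ring, c - g r ∈ J := by
    intro c
    obtain ⟨r, hr⟩ := hγsurj (prA c)
    refine ⟨r, ?_⟩
    rw [hJmem, map_sub, hg, hr, sub_self]
  have hsC : algebraMap A (Am ⊗[k] E₀) s = 0 := by
    rw [Algebra.TensorProduct.algebraMap_apply, hs, TensorProduct.zero_tmul]
  have hker : ∀ r, g r ∈ J → ∃ x ∈ P.ker, ∃ r', r = x + algebraMap A P.Ring s * r' := by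
    intro r hr
    have h1 : γ r = 0 := by rw [← hg]; exact hr
    rw [hγ] at h1
    have h2 : (1 : Am) ⊗ₜ[A] algebraMap P.Ring B r = 0 :=
      (map_eq_zero_iff _ Ψ.symm.injective).mp h1
    obtain ⟨b', hb'⟩ := hkerB _ h2
    obtain ⟨r', rfl⟩ := P.algebraMap_surjective b'
    refine ⟨r - algebraMap A P.Ring s * r', ?_, r', by ring⟩
    show algebraMap P.Ring B (r - algebraMap A P.Ring s * r') = 0
    rw [map_sub, map_mul, ← IsScalarTower.algebraMap_apply A P.Ring B, hb', sub_self]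
  obtain ⟨D, hD1, hD2, hD3⟩ := exists_der P g hJ hgI l hsurjg t n hl s hsC hker
  refine exists_section_of_der q₀ hq₀ hN (algebraMap A Am (t ^ n)) lam hlam
    (D.restrictScalars k) ?_ ?_ ?_
  · intro c
    show Algebra.TensorProduct.map (AlgHom.id k Am) q₀ (D c) = 0
    rw [← hpr]
    exact hD1 c
  · intro c c'
    exact hD2 c c'
  · intro j hj
    show D j = _
    rw [hD3 j ((hpr j).trans hj), Algebra.TensorProduct.algebraMap_apply]

end Generic

end Groth.Agent.Lib.R2H7.RigidSm
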