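import Mathlib
import Groth.Agent.Lib.R2H7RigidSmE

/-!
# A rigid singular affine scheme is not smoothable over a curve
-/

set_option autoImplicit false
universe u
open TensorProduct

namespace Groth.Agent.Lib.R2H7.RigidSm

open Groth.Agent.Lib.Helper19.TorsRetr

section Main

lemma isTrivial_of_subsingleton_T1 {k : Type u} [Field k] (B₀ : Type u) [CommRing B₀]
    [Algebra k B₀] (h : Subsingleton (CotT.T1 (CotT.canon k B₀) B₀)) (E : Exal.Ext k B₀ B₀) :
    E.IsTrivial := by
  obtain ⟨e, -⟩ := Groth.Agent.Lib.Helper19.ExalT1.exists_equiv_T1 k B₀ (CotT.canon k B₀) B₀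
  have h1 : E.cl = (Exal.Ext.trivial k B₀ B₀).cl := e.injective (Subsingleton.elim _ _)
  obtain ⟨eq⟩ := Quotient.exact h1
  exact Groth.Agent.Lib.Helper7.ExalLib.isTrivial_of_equiv eq
    (Groth.Agent.Lib.Helper7.ExalLib.trivial_isTrivial k B₀ B₀)

theorem formallySmooth_of_rigid {k : Type u} [Field k] [IsAlgClosed k] (B₀ : Type u)
    [CommRing B₀] [Algebra k B₀] [Algebra.FiniteType k B₀]
    (hT : ∀ E : Exal.Ext k B₀ B₀, E.IsTrivial)
    (A B : Type u) [CommRing A] [CommRing B] [IsDomain A] [Algebra k A] [Algebra.FiniteType k A]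
    (hdim : ringKrullDim A = 1) (t : A) (ht : (Ideal.span {t}).IsMaximal)
    [Algebra A B] [Algebra.FiniteType A B] [Module.Flat A B] [Algebra k B] [IsScalarTower k A B]
    (e : (B ⧸ Ideal.span {algebraMap A B t}) ≃ₐ[k] B₀)
    (hsm : ∀ q : PrimeSpectrum B, algebraMap A B t ∉ q.asIdeal → q ∈ Algebra.smoothLocus A B) :
    Algebra.FormallySmooth k B₀ := by
  classical
  haveI : IsNoetherianRing A := Algebra.FiniteType.isNoetherianRing k A
  haveI : IsNoetherianRing B := Algebra.FiniteType.isNoetherianRing A B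
  haveI : Algebra.FinitePresentation A B :=
    Algebra.FinitePresentation.of_finiteType.mp inferInstance
  obtain ⟨n, l, hl⟩ := (smooth_iff_hasRetr A (algebraMap A B t)).mp hsm
  haveI := ht
  have ht0 : t ≠ 0 := ne_zero_of_krullDim t ht hdim
  have hm0 : n + 1 ≠ 0 := Nat.succ_ne_zero n
  let ρ : B →ₐ[k] B₀ := e.toAlgHom.comp (Ideal.Quotient.mkₐ k (Ideal.span {algebraMap A B t}))
  have hρ : Function.Surjective ρ := e.surjective.comp (Ideal.Quotient.mkₐ_surjective k _)
  have hkerρ : RingHom.ker ρ.toRingHom = (Ideal.span {t}).map (algebraMap A B) := by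
    rw [Ideal.map_span, Set.image_singleton]
    ext b
    rw [RingHom.mem_ker]
    show e (Ideal.Quotient.mk _ b) = 0 ↔ _
    rw [map_eq_zero_iff _ e.injective, Ideal.Quotient.eq_zero_iff_mem]
  obtain ⟨Ψ⟩ := exists_triv (Ideal.span {t}) (n + 1) hm0
    (bijective_algebraMap_quot (Ideal.span {t})) hT ρ hρ hkerρ
  obtain ⟨ι, _, f, hf⟩ := Algebra.FiniteType.iff_quotient_mvPolynomial'.mp
    (inferInstance : Algebra.FiniteType k B₀)
  have hu : algebraMap A (A ⧸ Ideal.span {t} ^ (n + 1)) (t ^ n) ≠ 0 := by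
    intro h
    exact pow_notMem_span_pow t ht ht0 n (Ideal.Quotient.eq_zero_iff_mem.mp h)
  obtain ⟨lam, hlam⟩ := exists_functional (k := k) _ hu
  have hkerB : ∀ b : B, (1 : A ⧸ Ideal.span {t} ^ (n + 1)) ⊗ₜ[A] b = 0 →
      ∃ b', b = algebraMap A B (t ^ (n + 1)) * b' := by
    intro b hb
    have h3 := congrArg (TensorProduct.quotTensorEquivQuotSMul B (Ideal.span {t} ^ (n + 1))) hb
    rw [TensorProduct.quotTensorEquivQuotSMul_mk_one_tmul, map_zero,
      Submodule.Quotient.mk_eq_zero, Ideal.smul_top_eq_map, Submodule.restrictScalars_mem,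
      Ideal.span_singleton_pow, Ideal.map_span, Set.image_singleton,
      Ideal.mem_span_singleton'] at h3
    obtain ⟨b', hb'⟩ := h3
    exact ⟨b', by rw [← hb', mul_comm]⟩
  have hs : algebraMap A (A ⧸ Ideal.span {t} ^ (n + 1)) (t ^ (n + 1)) = 0 :=
    Ideal.Quotient.eq_zero_iff_mem.mpr (Ideal.pow_mem_pow (Ideal.mem_span_singleton_self t) _)
  haveI : Algebra.FormallySmooth A (P0 A B).toExtension.Ring :=
    inferInstanceAs (Algebra.FormallySmooth A (MvPolynomial _ A))
  obtain ⟨σ, hσ⟩ := exists_section_of_triv (P0 A B).toExtension t n l hl Ψ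
    Ideal.Quotient.mk_surjective (t ^ (n + 1)) hs hkerB lam hlam f.kerSquareLift
    (kerSquareLift_surjective f hf) (kerSquareLift_sq f)
  exact formallySmooth_of_section f σ hσ

end Main

end Groth.Agent.Lib.R2H7.RigidSm
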