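import Mathlib
import Groth.Agent.Lib.R2H7RootChParab3
import Groth.Prelude.Def_RootCh2

/-!
# Root systems with a complementary convex solid: basic facts (helper7, round 2)

Independence of the degree / numerical invariants of the adjacent chamber; the sum of the roots of an
elementary set lies in the span of the corners.
-/

set_option autoImplicit false
open Module
namespace Groth.Agent.Lib.R2H7.RootCh
open _root_.RootCh
universe u v w x
variable {ι : Type u} {R : Type v} {M : Type w} {N : Type x}

section Basic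

variable [Field R] [LinearOrder R] [IsStrictOrderedRing R]
variable [AddCommGroup M] [Module R M] [AddCommGroup N] [Module R N]
variable {P : RootPairing ι R M N}

theorem Facet.closure_subset_closedChamber_of_mem_cham (F : Facet P) {b : P.Base}
    (hb : b ∈ F.cham) : F.closure ⊆ closedChamber b := by
  obtain ⟨ξ, hξ⟩ := F.exists_sgnVec_eq
  have hF : F = Facet.ofVec P ξ := Facet.eq_ofVec F hξ
  have h1 : ξ ∈ closedChamber b := hb hξ
  rw [hF]
  exact closure_ofVec_subset_closedChamber b h1

theorem mem_cham_ofVec_iff (ξ : M) (b : P.Base) :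
    b ∈ (Facet.ofVec P ξ).cham ↔ ξ ∈ closedChamber b := by
  constructor
  · intro h
    exact h (mem_carrier_ofVec ξ)
  · intro h η hη
    exact closure_ofVec_subset_closedChamber b h (carrier_subset_closure _ hη)

end Basic

section Basic2

variable [Field R] [LinearOrder R] [IsStrictOrderedRing R]
variable [AddCommGroup M] [Module R M] [AddCommGroup N] [Module R N]
variable {P : RootPairing ι R M N} [P.IsRootSystem]

theorem Facet.corners_subset_baseCorners (F : Facet P) {b : P.Base} (hb : b ∈ F.cham) :
    F.corners ⊆ baseCorners b :=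
  fun _ hm => ⟨hm.1, Facet.closure_subset_closedChamber_of_mem_cham F hb hm.2⟩

/-- (B1) extends linearly to the span of the corners of a facet. -/
theorem toLinearMap_eq_of_mem_span_corners {d : P.Base → N} (hd : IsCCS d) (F : Facet P)
    {b b' : P.Base} (hb : b ∈ F.cham) (hb' : b' ∈ F.cham) {v : M}
    (hv : v ∈ Submodule.span R F.corners) :
    P.toLinearMap v (d b) = P.toLinearMap v (d b') := by
  induction hv using Submodule.span_induction with
  | mem m hm =>
    exact hd.corner_eq b b' m (Facet.corners_subset_baseCorners F hb hm)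
      (Facet.corners_subset_baseCorners F hb' hm)
  | zero => simp
  | add x y _ _ hx hy => rw [map_add, LinearMap.add_apply, LinearMap.add_apply, hx, hy]
  | smul r x _ hx => rw [map_smul, LinearMap.smul_apply, LinearMap.smul_apply, hx]

theorem Facet.deg_eq [Finite ι] (d : P.Base → N) (F : Facet P) (b : P.Base) :
    F.deg d b = P.toLinearMap (∑ i ∈ (Set.toFinite F.parab).toFinset, P.root i) (d b) := by
  rw [map_sum, LinearMap.sum_apply]
  rfl

theorem Facet.numInv_eq [Finite ι] (d : P.Base → N) (F : Facet P) (m : M) (b : P.Base) :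
    F.numInv d m b =
      P.toLinearMap (∑ i ∈ (Set.toFinite (F.Psi m)).toFinset, P.root i) (d b) := by
  rw [map_sum, LinearMap.sum_apply]
  rfl

end Basic2

section General

variable [Field R] [LinearOrder R] [IsStrictOrderedRing R]
variable [AddCommGroup M] [Module R M] [AddCommGroup N] [Module R N] [Finite ι]
variable {P : RootPairing ι R M N} [P.IsRootSystem] [P.IsCrystallographic] [P.IsReduced]

/-- The sum of the roots of the parabolic set of a facet lies in the facet. -/
theorem Facet.sum_root_parab_mem_carrier (F : Facet P) :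
    (∑ i ∈ (Set.toFinite F.parab).toFinset, P.root i) ∈ F.carrier := by
  classical
  have := Fintype.ofFinite ι
  obtain ⟨ξ, hξ⟩ := F.exists_sgnVec_eq
  have hF : F = Facet.ofVec P ξ := Facet.eq_ofVec F hξ
  have hset : (Set.toFinite F.parab).toFinset =
      Finset.univ.filter (fun k => 0 ≤ P.coroot' k ξ) := by
    ext k
    rw [Set.Finite.mem_toFinset, Finset.mem_filter, hF, mem_parab_ofVec_iff]
    exact ⟨fun h => ⟨Finset.mem_univ _, h⟩, fun h => h.2⟩
  rw [hset]
  change sgnVec P _ = F.sgn
  rw [← hξ]
  convert sgnVec_sum_nonneg_roots P ξ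

theorem Facet.exists_mem_cham (F : Facet P) : ∃ b : P.Base, b ∈ F.cham := by
  obtain ⟨ξ, hξ⟩ := F.exists_sgnVec_eq
  have hF : F = Facet.ofVec P ξ := Facet.eq_ofVec F hξ
  obtain ⟨b, hb⟩ := exists_base_mem_closedChamber P ξ
  exact ⟨b, by rw [hF, mem_cham_ofVec_iff]; exact hb⟩

theorem Facet.carrier_subset_span_corners (F : Facet P) :
    F.carrier ⊆ Submodule.span R F.corners := by
  obtain ⟨ξ, hξ⟩ := F.exists_sgnVec_eq
  have hF : F = Facet.ofVec P ξ := Facet.eq_ofVec F hξ
  obtain ⟨b, hb⟩ := exists_base_mem_closedChamber P ξ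
  rw [hF]
  exact carrier_ofVec_subset_span_corners b hb

/-- The degree of a facet does not depend on the adjacent chamber. -/
theorem Facet.deg_eq_of_mem_cham {d : P.Base → N} (hd : IsCCS d) (F : Facet P)
    {b b' : P.Base} (hb : b ∈ F.cham) (hb' : b' ∈ F.cham) : F.deg d b = F.deg d b' := by
  rw [Facet.deg_eq, Facet.deg_eq]
  exact toLinearMap_eq_of_mem_span_corners hd F hb hb'
    (Facet.carrier_subset_span_corners F (Facet.sum_root_parab_mem_carrier F))

end General

section Psi

variable [Field R] [LinearOrder R] [IsStrictOrderedRing R]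
variable [AddCommGroup M] [Module R M] [AddCommGroup N] [Module R N] [Fintype ι]
variable {P : RootPairing ι R M N} [P.IsRootSystem]

theorem mem_Psi_ofVec_iff (b : P.Base) {ξ : M} (hξ : ξ ∈ closedChamber b) (i₀ : b.support)
    (k : ι) :
    k ∈ (Facet.ofVec P ξ).Psi (fundWeight b i₀) ↔
      P.root' k (fundCoweight b i₀) = 1 ∧
        ∀ i : b.support, 0 < P.coroot' i ξ → i ≠ i₀ → P.root' k (fundCoweight b i) = 0 := by
  unfold Facet.Psi
  rw [corners_ofVec b hξ]
  constructor
  · rintro ⟨h1, h2⟩
    refine ⟨h1 _ ((corr_fundWeight_iff b i₀ _).mpr rfl), fun i hi hne => ?_⟩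
    refine h2 (fundWeight b i) ⟨i, hi, rfl⟩ (fun h => hne (fundWeight_injective b h)) _
      ((corr_fundWeight_iff b i _).mpr rfl)
  · rintro ⟨h1, h2⟩
    refine ⟨fun x hx => ?_, ?_⟩
    · rw [(corr_fundWeight_iff b i₀ x).mp hx]; exact h1
    · rintro _ ⟨i, hi, rfl⟩ hne x hx
      rw [(corr_fundWeight_iff b i x).mp hx]
      exact h2 i hi (fun h => hne (by rw [h]))

theorem root'_reflectionPerm_apply (P : RootPairing ι R M N) (j k : ι) (y : N) :
    P.root' (P.reflectionPerm j k) y = P.root' k y - P.pairing k j * P.root' j y := by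
  change P.toLinearMap (P.root (P.reflectionPerm j k)) y = _
  rw [P.root_reflectionPerm, P.reflection_apply_root, map_sub, map_smul, LinearMap.sub_apply,
    LinearMap.smul_apply, smul_eq_mul]

open Classical in
/-- The sum of the roots of the elementary set `Ψ(F, m)` lies in the span of the corners. -/
theorem sum_root_Psi_ofVec_mem_span (b : P.Base) {ξ : M} (hξ : ξ ∈ closedChamber b)
    (i₀ : b.support) (hi₀ : 0 < P.coroot' i₀ ξ) :
    (∑ k ∈ (Set.toFinite ((Facet.ofVec P ξ).Psi (fundWeight b i₀))).toFinset, P.root k) ∈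
      Submodule.span R (Facet.ofVec P ξ).corners := by
  set T := (Set.toFinite ((Facet.ofVec P ξ).Psi (fundWeight b i₀))).toFinset with hT
  set v := ∑ k ∈ T, P.root k with hv
  have hmemT : ∀ k, k ∈ T ↔ P.root' k (fundCoweight b i₀) = 1 ∧
        ∀ i : b.support, 0 < P.coroot' i ξ → i ≠ i₀ → P.root' k (fundCoweight b i) = 0 := by
    intro k
    rw [hT, Set.Finite.mem_toFinset]
    exact mem_Psi_ofVec_iff b hξ i₀ k
  -- stability under Levi simple reflections
  have hstab : ∀ j : b.support, P.coroot' j ξ = 0 → ∀ k, k ∈ T → P.reflectionPerm j k ∈ T := by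
    intro j hj k hk
    rw [hmemT] at hk ⊢
    have hj0 : ∀ i : b.support, 0 < P.coroot' i ξ → P.root' j (fundCoweight b i) = 0 := by
      intro i hi
      rw [root'_fundCoweight]
      rw [if_neg]
      rintro rfl
      rw [hj] at hi
      exact lt_irrefl _ hi
    refine ⟨?_, fun i hi hne => ?_⟩
    · rw [root'_reflectionPerm_apply, hk.1, hj0 i₀ hi₀, mul_zero, sub_zero]
    · rw [root'_reflectionPerm_apply, hk.2 i hi hne, hj0 i hi, mul_zero, sub_zero]
  have hzero : ∀ j : b.support, P.coroot' j ξ = 0 → P.coroot' j v = 0 := by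
    intro j hj
    have h1 : P.coroot' j v = ∑ k ∈ T, P.pairing k j := by
      rw [hv, map_sum]; rfl
    rw [h1, sum_pairing_eq_sum_filter P T j]
    apply Finset.sum_eq_zero
    intro k hk
    rw [Finset.mem_filter] at hk
    exact absurd (hstab j hj k hk.1) hk.2
  rw [eq_sum_fundWeight b v]
  apply Submodule.sum_mem
  intro i _
  rcases (hξ i i.2).lt_or_eq with h | h
  · apply Submodule.smul_mem
    apply Submodule.subset_span
    rw [corners_ofVec b hξ]
    exact ⟨i, h, rfl⟩
  · rw [hzero i h.symm, zero_smul]
    exact Submodule.zero_mem _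

end Psi

section PsiGeneral

variable [Field R] [LinearOrder R] [IsStrictOrderedRing R]
variable [AddCommGroup M] [Module R M] [AddCommGroup N] [Module R N] [Finite ι]
variable {P : RootPairing ι R M N} [P.IsRootSystem] [P.IsCrystallographic] [P.IsReduced]

/-- The sum of the roots of the elementary set `Ψ(F, m)` lies in the span of the corners of `F`. -/
theorem Facet.sum_root_Psi_mem_span (F : Facet P) {m : M} (hm : m ∈ F.corners) :
    (∑ i ∈ (Set.toFinite (F.Psi m)).toFinset, P.root i) ∈ Submodule.span R F.corners := by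
  classical
  have := Fintype.ofFinite ι
  obtain ⟨ξ, hξ⟩ := F.exists_sgnVec_eq
  have hF : F = Facet.ofVec P ξ := Facet.eq_ofVec F hξ
  obtain ⟨b, hb⟩ := exists_base_mem_closedChamber P ξ
  subst hF
  rw [corners_ofVec b hb] at hm
  obtain ⟨i₀, hi₀, rfl⟩ := hm
  convert sum_root_Psi_ofVec_mem_span b hb i₀ hi₀

/-- The numerical invariants of a facet do not depend on the adjacent chamber. -/
theorem Facet.numInv_eq_of_mem_cham {d : P.Base → N} (hd : IsCCS d) (F : Facet P) {m : M}
    (hm : m ∈ F.corners) {b b' : P.Base} (hb : b ∈ F.cham) (hb' : b' ∈ F.cham) :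
    F.numInv d m b = F.numInv d m b' := by
  rw [Facet.numInv_eq, Facet.numInv_eq]
  exact toLinearMap_eq_of_mem_span_corners hd F hb hb' (Facet.sum_root_Psi_mem_span F hm)

end PsiGeneral

end Groth.Agent.Lib.R2H7.RootCh
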