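import Mathlib
import Groth.Agent.Lib.R2H7RootChRefl
import Groth.Agent.Lib.R2H7RootCh2Basic

/-!
# The key inequality for a complementary convex solid (helper7, round 2)

For a complementary convex solid `d` and bases `b`, `c`: every dominant vector `ξ` of `b` satisfies
`⟪ξ, d b⟫ ≤ ⟪ξ, d c⟫`.  Proof by induction along a gallery of reflected bases from `c` to `b`.
-/

set_option autoImplicit false
open Module
namespace Groth.Agent.Lib.R2H7.RootCh
open _root_.RootCh
universe u v w x
variable {ι : Type u} {R : Type v} {M : Type w} {N : Type x}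

section Bases

variable [Field R] [LinearOrder R] [IsStrictOrderedRing R]
variable [AddCommGroup M] [Module R M] [AddCommGroup N] [Module R N] [Finite ι]
variable {P : RootPairing ι R M N} [P.IsCrystallographic] [P.IsReduced]

omit [P.IsCrystallographic] [P.IsReduced] [Finite ι] in
theorem isPos_iff_of_imp (b c : P.Base) (h : ∀ k, b.IsPos k → c.IsPos k) (k : ι) :
    b.IsPos k ↔ c.IsPos k := by
  refine ⟨h k, fun hc => ?_⟩
  by_contra hb
  have h1 : b.IsPos (negIdx P k) := (isPos_negIdx_iff b k).mpr hb
  have h2 := h _ h1
  exact (isPos_negIdx_iff c k).mp h2 hc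

omit [P.IsReduced] in
theorem IsPos.mem_support_or_exists_add (c : P.Base) {i : ι} (hi : c.IsPos i) :
    i ∈ c.support ∨ ∃ k j, c.IsPos k ∧ j ∈ c.support ∧ P.root i = P.root k + P.root j := by
  obtain ⟨j, hj, hj'⟩ := hi.exists_mem_support_pos_pairingIn
  rw [P.zero_lt_pairingIn_iff'] at hj'
  rcases eq_or_ne i j with rfl | hij
  · left; exact hj
  · right
    obtain ⟨k, hk⟩ := P.root_sub_root_mem_of_pairingIn_pos hj' hij
    have hkn : c.height k = c.height i - 1 := by
      rw [c.height_sub hk, RootPairing.Base.height_one_of_mem_support hj]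
    have hkpos : c.IsPos k := by
      rw [RootPairing.Base.isPos_iff']
      have := (RootPairing.Base.isPos_iff c).mp hi
      omega
    exact ⟨k, j, hkpos, hj, by rw [hk]; abel⟩

omit [P.IsReduced] in
theorem support_subset_of_isPos_iff (b c : P.Base) (h : ∀ k, b.IsPos k ↔ c.IsPos k) :
    b.support ⊆ c.support := by
  intro i hi
  have hci : c.IsPos i := (h i).mp (RootPairing.Base.isPos_of_mem_support hi)
  rcases IsPos.mem_support_or_exists_add c hci with h1 | ⟨k, j, hk, hj, hkj⟩
  · exact h1
  · exfalso
    have h1 : b.height i = b.height k + b.height j := b.height_add hkj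
    have h2 := RootPairing.Base.height_one_of_mem_support hi
    have h3 : 0 < b.height k := (h k).mpr hk
    have h4 : 0 < b.height j := (h j).mpr (RootPairing.Base.isPos_of_mem_support hj)
    omega

omit [P.IsReduced] in
/-- A base is determined by its positive roots. -/
theorem eq_of_isPos_imp (b c : P.Base) (h : ∀ k, b.IsPos k → c.IsPos k) : b = c := by
  have h' := isPos_iff_of_imp b c h
  apply Base.ext_support
  exact Finset.Subset.antisymm (support_subset_of_isPos_iff b c h')
    (support_subset_of_isPos_iff c b (fun k => (h' k).symm))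

omit [P.IsReduced] in
theorem isPos_of_forall_mem_support (b c : P.Base) (h : ∀ j ∈ c.support, b.IsPos j) {k : ι}
    (hk : c.IsPos k) : b.IsPos k := by
  refine hk.induction_on_add (p := fun k => b.IsPos k) h ?_
  intro i j k hk hi hj
  exact RootPairing.Base.IsPos.add hi (h j hj) hk

end Bases

section PosCoroot

variable [Field R] [LinearOrder R] [IsStrictOrderedRing R]
variable [AddCommGroup M] [Module R M] [AddCommGroup N] [Module R N] [Fintype ι]
variable {P : RootPairing ι R M N}

/-- A coroot of a positive root is non-negative on the closed chamber. -/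
theorem coroot'_nonneg_of_isPos (b : P.Base) {k : ι} (hk : b.IsPos k) {ξ : M}
    (hξ : ξ ∈ closedChamber b) : 0 ≤ P.coroot' k ξ := by
  obtain ⟨f, hf, h | h⟩ := b.exists_root_eq_sum_nat_or_neg k
  · have h1 : q P k • P.coroot k = ∑ j ∈ b.support, f j • (q P j • P.coroot j) := by
      have hk' := P.rootForm_self_smul_coroot k
      change q P k • P.coroot k = _ at hk'
      rw [hk', h, map_sum, Finset.smul_sum]
      apply Finset.sum_congr rfl
      intro j _
      have hj' := P.rootForm_self_smul_coroot j
      change q P j • P.coroot j = _ at hj'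
      rw [hj', map_nsmul, smul_comm]
    have h2 := congrArg (P.toLinearMap ξ) h1
    rw [map_smul, map_sum, smul_eq_mul] at h2
    change q P k * P.coroot' k ξ = _ at h2
    have h3 : 0 ≤ q P k * P.coroot' k ξ := by
      rw [h2]
      apply Finset.sum_nonneg
      intro j hj
      rw [map_nsmul, map_smul, smul_eq_mul]
      apply nsmul_nonneg
      exact mul_nonneg (q_pos P j).le (hξ j hj)
    exact (mul_nonneg_iff_of_pos_left (q_pos P k)).mp h3
  · exfalso
    have h1 : P.root k = ∑ j ∈ b.support, (fun j => -(f j : ℤ)) j • P.root j := by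
      rw [h, ← Finset.sum_neg_distrib]
      apply Finset.sum_congr rfl
      intro j _
      simp
    have h2 := RootPairing.Base.height_eq_sum h1
    have h3 : 0 < b.height k := hk
    rw [h2] at h3
    have h4 : ∑ j ∈ b.support, (fun j => -(f j : ℤ)) j ≤ 0 :=
      Finset.sum_nonpos (fun j _ => by simp)
    exact absurd h3 (not_lt.mpr h4)

theorem coroot'_nonpos_of_not_isPos (b : P.Base) {k : ι} (hk : ¬ b.IsPos k) {ξ : M}
    (hξ : ξ ∈ closedChamber b) : P.coroot' k ξ ≤ 0 := by
  have h1 := coroot'_nonneg_of_isPos b ((isPos_negIdx_iff b k).mpr hk) hξ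
  rw [coroot'_negIdx] at h1
  linarith

end PosCoroot

section Dual

variable [Field R] [LinearOrder R] [IsStrictOrderedRing R]
variable [AddCommGroup M] [Module R M] [AddCommGroup N] [Module R N]
variable {P : RootPairing ι R M N} [P.IsRootSystem]

omit [LinearOrder R] [IsStrictOrderedRing R] in
theorem toLinearMap_fundWeight (b : P.Base) (i : b.support) (y : N) :
    P.toLinearMap (fundWeight b i) y = b.toCoweightBasis.coord i y := by
  have h : P.toLinearMap (P.toPerfPair.symm (b.toCoweightBasis.coord i)) =
      b.toCoweightBasis.coord i := P.toLinearMap.apply_symm_toPerfPair_self _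
  rw [fundWeight, h]

omit [LinearOrder R] [IsStrictOrderedRing R] in
/-- A vector of `N` is the combination of the simple coroots with coefficients its pairings with
the fundamental weights. -/
theorem eq_sum_coroot (b : P.Base) (y : N) :
    y = ∑ i : b.support, P.toLinearMap (fundWeight b i) y • P.coroot i := by
  conv_lhs => rw [← b.toCoweightBasis.sum_repr y]
  apply Finset.sum_congr rfl
  intro i _
  rw [toLinearMap_fundWeight, Basis.coord_apply, b.toCoweightBasis_apply]

end Dual

section Adjacent

variable [Field R] [LinearOrder R] [IsStrictOrderedRing R]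
variable [AddCommGroup M] [Module R M] [AddCommGroup N] [Module R N] [Fintype ι]
variable {P : RootPairing ι R M N} [P.IsRootSystem]

/-- The fundamental weights of `b` other than the one of `j` are fundamental weights of the
reflected base `s_j b`. -/
theorem fundWeight_reflBase_of_ne (c : P.Base) (j : ι) (i : c.support) (hij : (i : ι) ≠ j)
    (hj : j ∈ c.support) :
    fundWeight (reflBase c j)
      ⟨P.reflectionPerm j i, reflectionPerm_mem_support_reflBase c j i.2⟩ = fundWeight c i := by
  classical
  apply eq_of_forall_coroot'_eq (reflBase c j)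
  intro k'
  have hk : P.reflectionPerm j k' ∈ c.support := (mem_support_reflBase c j k').mp k'.2
  rw [coroot'_fundWeight]
  have h1 : P.coroot' (k' : ι) (fundWeight c i) =
      P.coroot' (P.reflectionPerm j k') (fundWeight c i) := by
    conv_lhs => rw [← P.reflectionPerm_self j (k' : ι)]
    rw [coroot'_reflectionPerm_apply]
    have h0 : P.coroot' j (fundWeight c i) = 0 := by
      have := coroot'_fundWeight c i ⟨j, hj⟩
      rw [if_neg (fun h => hij (congrArg Subtype.val h).symm)] at this
      exact this
    rw [h0, mul_zero, sub_zero]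
  rw [h1]
  have h2 := coroot'_fundWeight c i ⟨P.reflectionPerm j k', hk⟩
  change P.coroot' (P.reflectionPerm j k') (fundWeight c i) = _ at h2
  rw [h2]
  by_cases h : k' = ⟨P.reflectionPerm j i, reflectionPerm_mem_support_reflBase c j i.2⟩
  · rw [if_pos h, if_pos]
    apply Subtype.ext
    change P.reflectionPerm j k' = i
    rw [h]
    exact P.reflectionPerm_self j i
  · rw [if_neg h, if_neg]
    intro h'
    apply h
    apply Subtype.ext
    have := congrArg Subtype.val h'
    change P.reflectionPerm j k' = i at this
    change (k' : ι) = P.reflectionPerm j i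
    rw [← this, P.reflectionPerm_self]

theorem baseCorners_inter_reflBase (c : P.Base) {j : ι} (hj : j ∈ c.support) :
    baseCorners c ∩ baseCorners (reflBase c j) =
      fundWeight c '' {i : c.support | (i : ι) ≠ j} := by
  classical
  ext m
  constructor
  · rintro ⟨h1, h2⟩
    obtain ⟨i, rfl⟩ := (mem_baseCorners_iff c m).mp h1
    refine ⟨i, ?_, rfl⟩
    intro hij
    have hmem : negIdx P j ∈ (reflBase c j).support := by
      rw [mem_support_reflBase]
      change P.reflectionPerm j (P.reflectionPerm j j) ∈ c.support
      rw [P.reflectionPerm_self]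
      exact hj
    have h3 := h2.2 (negIdx P j) hmem
    rw [coroot'_negIdx] at h3
    have h4 := coroot'_fundWeight c i ⟨j, hj⟩
    rw [if_pos (Subtype.ext hij.symm)] at h4
    change P.coroot' j (fundWeight c i) = 1 at h4
    rw [h4] at h3
    linarith
  · rintro ⟨i, hi, rfl⟩
    refine ⟨(mem_baseCorners_iff c _).mpr ⟨i, rfl⟩, ?_⟩
    rw [← fundWeight_reflBase_of_ne c j i hi hj]
    exact (mem_baseCorners_iff _ _).mpr ⟨_, rfl⟩

theorem ncard_baseCorners_inter_reflBase (c : P.Base) {j : ι} (hj : j ∈ c.support) :
    (baseCorners c ∩ baseCorners (reflBase c j)).ncard + 1 = c.support.card := by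
  rw [baseCorners_inter_reflBase c hj, Set.ncard_image_of_injective _ (fundWeight_injective c)]
  have h1 : {i : c.support | (i : ι) ≠ j} = Set.univ \ {⟨j, hj⟩} := by
    ext i
    simp only [Set.mem_ofPred_eq, Set.mem_sdiff, Set.mem_univ, Set.mem_singleton_iff, true_and]
    exact ⟨fun h h' => h (congrArg Subtype.val h'), fun h h' => h (Subtype.ext h')⟩
  rw [h1, Set.ncard_sdiff_singleton_add_one (Set.mem_univ _) Set.finite_univ, Set.ncard_univ,
    Nat.card_eq_fintype_card, Fintype.card_coe]

end Adjacent

section KeyInequality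

variable [Field R] [LinearOrder R] [IsStrictOrderedRing R]
variable [AddCommGroup M] [Module R M] [AddCommGroup N] [Module R N] [Finite ι]
variable {P : RootPairing ι R M N} [P.IsRootSystem] [P.IsCrystallographic] [P.IsReduced]

omit [P.IsRootSystem] in
theorem isPos_and_not_isPos_reflBase_iff (c : P.Base) {j : ι} (hj : j ∈ c.support) (k : ι) :
    (c.IsPos k ∧ ¬ (reflBase c j).IsPos k) ↔ k = j := by
  rw [isPos_reflBase_iff]
  constructor
  · rintro ⟨h1, h2⟩
    by_contra hkj
    exact h2 (h1.reflectionPerm hj hkj)
  · rintro rfl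
    refine ⟨RootPairing.Base.isPos_of_mem_support hj, ?_⟩
    exact (isPos_negIdx_iff c k).mp.mt (not_not.mpr (RootPairing.Base.isPos_of_mem_support hj)) |>
      fun h => h
  
/-- Crossing the wall of the simple root `j` of `c` changes `d` by a non-negative multiple of the
coroot of `j`. -/
theorem exists_d_reflBase_eq {d : P.Base → N} (hd : IsCCS d) (c : P.Base) {j : ι}
    (hj : j ∈ c.support) :
    ∃ t : R, 0 ≤ t ∧ d (reflBase c j) = d c + t • P.coroot j := by
  classical
  have := Fintype.ofFinite ι
  set c' := reflBase c j with hc'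
  set δ := d c' - d c with hδ
  have h0 : ∀ i : c.support, (i : ι) ≠ j → P.toLinearMap (fundWeight c i) δ = 0 := by
    intro i hi
    have hmem : fundWeight c i ∈ baseCorners c ∩ baseCorners c' := by
      rw [hc', baseCorners_inter_reflBase c hj]
      exact ⟨i, hi, rfl⟩
    rw [hδ, map_sub, sub_eq_zero]
    exact (hd.corner_eq c c' _ hmem.1 hmem.2).symm
  have h1 : δ = P.toLinearMap (fundWeight c ⟨j, hj⟩) δ • P.coroot j := by
    conv_lhs => rw [eq_sum_coroot c δ]
    rw [Finset.sum_eq_single ⟨j, hj⟩]
    · intro i _ hi
      rw [h0 i (fun h => hi (Subtype.ext h)), zero_smul]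
    · intro h; exact absurd (Finset.mem_univ _) h
  set t := P.toLinearMap (fundWeight c ⟨j, hj⟩) δ with ht
  have h2 : P.root' j (d c) ≤ P.root' j (d c') :=
    hd.wall_le c c' j (ncard_baseCorners_inter_reflBase c hj)
      (fun k => isPos_and_not_isPos_reflBase_iff c hj k)
  have h3 : P.root' j δ = t * 2 := by
    rw [h1, map_smul, smul_eq_mul]
    congr 1
    exact P.root_coroot_two j
  have h4 : 0 ≤ P.root' j δ := by
    rw [hδ, map_sub]; linarith
  refine ⟨t, by linarith, ?_⟩
  rw [← h1, hδ]
  abel

/-- **Key inequality**: for a complementary convex solid, a dominant vector of `b` pairs least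
with `d b`. -/
theorem toLinearMap_le_of_mem_closedChamber {d : P.Base → N} (hd : IsCCS d) (b c : P.Base)
    {ξ : M} (hξ : ξ ∈ closedChamber b) :
    P.toLinearMap ξ (d b) ≤ P.toLinearMap ξ (d c) := by
  classical
  have := Fintype.ofFinite ι
  induction hn : {k | b.IsPos k ∧ ¬ c.IsPos k}.ncard using Nat.strong_induction_on
    generalizing c with
  | _ n ih =>
    by_cases hex : ∃ j ∈ c.support, ¬ b.IsPos j
    · obtain ⟨j, hj, hbj⟩ := hex
      obtain ⟨t, ht, hdt⟩ := exists_d_reflBase_eq hd c hj
      have hlt : {k | b.IsPos k ∧ ¬ (reflBase c j).IsPos k}.ncard < n := by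
        rw [← hn]
        apply Set.ncard_lt_ncard _ (Set.toFinite _)
        constructor
        · rintro k ⟨hk1, hk2⟩
          refine ⟨hk1, fun hck => hk2 ?_⟩
          rw [isPos_reflBase_iff]
          have hkj : k ≠ j := by rintro rfl; exact hbj hk1
          exact hck.reflectionPerm hj hkj
        · intro hsub
          have hmem : negIdx P j ∈ {k | b.IsPos k ∧ ¬ c.IsPos k} :=
            ⟨(isPos_negIdx_iff b j).mpr hbj,
              fun h => (isPos_negIdx_iff c j).mp h (RootPairing.Base.isPos_of_mem_support hj)⟩
          have h2 := (hsub hmem).2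
          apply h2
          rw [isPos_reflBase_iff]
          change c.IsPos (P.reflectionPerm j (P.reflectionPerm j j))
          rw [P.reflectionPerm_self]
          exact RootPairing.Base.isPos_of_mem_support hj
      have h1 := ih _ hlt (reflBase c j) rfl
      rw [hdt, map_add, map_smul, smul_eq_mul] at h1
      have h2 : P.coroot' j ξ ≤ 0 := coroot'_nonpos_of_not_isPos b hbj hξ
      change P.toLinearMap ξ (d b) ≤ P.toLinearMap ξ (d c) + t * P.coroot' j ξ at h1
      nlinarith
    · have hall : ∀ j ∈ c.support, b.IsPos j := by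
        intro j hj
        by_contra h
        exact hex ⟨j, hj, h⟩
      have hcb : c = b := eq_of_isPos_imp c b (fun k hk => isPos_of_forall_mem_support b c hall hk)
      rw [hcb]

end KeyInequality

end Groth.Agent.Lib.R2H7.RootCh
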