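import Mathlib
import Groth.Agent.Lib.R2H7RootCh2Basic
import Groth.Agent.Lib.R2H7RootChRefl
import Groth.Agent.Lib.R2H7Gordan

/-!
# The dual solid of a facet contains the polyhedron cut out by its hyperplanes and half-spaces
(helper7, round 2)
-/

set_option autoImplicit false
open Module
namespace Groth.Agent.Lib.R2H7.RootCh
open _root_.RootCh
universe u v w x
variable {ι : Type u} {R : Type v} {M : Type w} {N : Type x}


section Large

variable [Field R] [LinearOrder R] [IsStrictOrderedRing R]

theorem exists_pos_forall_pos_add_mul {κ : Type*} [Finite κ] (a p : κ → R) (S : Set κ)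
    (hp : ∀ k ∈ S, 0 < p k) : ∃ t : R, 0 < t ∧ ∀ k ∈ S, 0 < a k + t * p k := by
  classical
  have := Fintype.ofFinite κ
  refine ⟨∑ j ∈ Finset.univ.filter (· ∈ S), |a j| / p j + 1, ?_, fun k hk => ?_⟩
  · have : 0 ≤ ∑ j ∈ Finset.univ.filter (· ∈ S), |a j| / p j :=
      Finset.sum_nonneg (fun j hj => div_nonneg (abs_nonneg _)
        (hp j (Finset.mem_filter.mp hj).2).le)
    linarith
  · have hpk := hp k hk
    have h1 : |a k| / p k ≤ ∑ j ∈ Finset.univ.filter (· ∈ S), |a j| / p j :=
      Finset.single_le_sum (f := fun j => |a j| / p j)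
        (fun j hj => div_nonneg (abs_nonneg _) (hp j (Finset.mem_filter.mp hj).2).le)
        (Finset.mem_filter.mpr ⟨Finset.mem_univ k, hk⟩)
    have h2 : |a k| = (|a k| / p k) * p k := by field_simp
    have h3 : -|a k| ≤ a k := neg_abs_le _
    nlinarith

end Large

section Solid

variable [Field R] [LinearOrder R] [IsStrictOrderedRing R]
variable [AddCommGroup M] [Module R M] [AddCommGroup N] [Module R N] [Finite ι]
variable {P : RootPairing ι R M N} [P.IsRootSystem] [P.IsCrystallographic] [P.IsReduced]

/-- A point of all the hyperplanes of the corners of `F` pairs with a vector of the span of the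
corners like `d b`, `b` adjacent to `F`. -/
theorem toLinearMap_eq_of_mem_iInter_hyper {d : P.Base → N} (F : Facet P) {y : N}
    (hy : y ∈ ⋂ m ∈ F.corners, hyper d m) {b : P.Base} (hb : b ∈ F.cham) {v : M}
    (hv : v ∈ Submodule.span R F.corners) :
    P.toLinearMap v y = P.toLinearMap v (d b) := by
  induction hv using Submodule.span_induction with
  | mem m hm =>
    have h1 : y ∈ hyper d m := Set.mem_iInter₂.mp hy m hm
    exact h1 b (Facet.corners_subset_baseCorners F hb hm)
  | zero => simp
  | add x y _ _ hx hy => rw [map_add, LinearMap.add_apply, LinearMap.add_apply, hx, hy]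
  | smul r x _ hx => rw [map_smul, LinearMap.smul_apply, LinearMap.smul_apply, hx]

/-- The polyhedron cut out by the hyperplanes of the corners of `F` and the closed half-spaces of the
corners of the chambers adjacent to `F` is contained in the dual solid of `F`.  (No axiom on `d`
is needed for this inclusion.) -/
theorem Facet.iInter_subset_dualSolid (d : P.Base → N) (F : Facet P) :
    (⋂ m ∈ F.corners, hyper d m) ∩ ⋂ m ∈ F.corners', halfClosed d m ⊆ dualSolid d F := by
  classical
  rintro y ⟨hy1, hy2⟩
  by_contra hy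
  unfold dualSolid at hy
  have hfin : (d '' F.cham).Finite := Set.toFinite _
  have hy' : y ∉ convexHull R ((hfin.toFinset : Finset N) : Set N) := by
    rwa [Set.Finite.coe_toFinset]
  obtain ⟨f, hf⟩ := Gordan.exists_dual_forall_lt_of_notMem_convexHull hfin.toFinset y hy'
  have hf' : ∀ b ∈ F.cham, f y < f (d b) := fun b hb =>
    hf _ (hfin.mem_toFinset.mpr ⟨b, hb, rfl⟩)
  set ξ' : M := P.toPerfPair.symm f with hξ'
  have hξ'f : P.toLinearMap ξ' = f := P.toLinearMap.apply_symm_toPerfPair_self f
  obtain ⟨ξF, hξF⟩ := F.exists_sgnVec_eq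
  have hξFc : ξF ∈ F.carrier := hξF
  have hξFs : ξF ∈ Submodule.span R F.corners := Facet.carrier_subset_span_corners F hξFc
  -- choose t large
  obtain ⟨t, ht, hlarge⟩ := exists_pos_forall_pos_add_mul (fun k => P.coroot' k ξ')
    (fun k => P.coroot' k ξF) {k | F.sgn k = 1} (by
      intro k hk
      have h1 : SignType.sign (P.coroot' k ξF) = 1 := by
        have := congrFun hξF k
        rw [sgnVec_apply] at this
        rw [this]; exact hk
      exact sign_eq_one_iff.mp h1)
  set ξ'' : M := ξ' + t • ξF with hξ''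
  have hco : ∀ k, P.coroot' k ξ'' = P.coroot' k ξ' + t * P.coroot' k ξF := by
    intro k
    rw [hξ'', map_add, map_smul, smul_eq_mul]
  obtain ⟨b₁, hb₁⟩ := exists_base_mem_closedChamber P ξ''
  -- `b₁` is adjacent to `F`
  have hb₁F : b₁ ∈ F.cham := by
    intro η hη i hi
    have hηi : sgnVec P η i = F.sgn i := congrFun hη i
    rw [sgnVec_apply] at hηi
    by_contra hneg
    have hneg' : P.coroot' i η < 0 := not_le.mp hneg
    have hsgn : F.sgn i = -1 := by rw [← hηi]; exact sign_neg hneg'
    have h1 : F.sgn (negIdx P i) = 1 := by rw [Facet.sgn_negIdx, hsgn]; rfl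
    have h2 := hlarge (negIdx P i) h1
    simp only [coroot'_negIdx] at h2
    have h3 := hb₁ i hi
    rw [hco] at h3
    linarith
  -- pairing with y
  have h1 : P.toLinearMap ξ'' y < P.toLinearMap ξ'' (d b₁) := by
    rw [hξ'', map_add, map_smul, LinearMap.add_apply, LinearMap.add_apply, LinearMap.smul_apply,
      LinearMap.smul_apply, hξ'f, toLinearMap_eq_of_mem_iInter_hyper F hy1 hb₁F hξFs]
    exact add_lt_add_left (hf' b₁ hb₁F) _
  have h2 : P.toLinearMap ξ'' (d b₁) ≤ P.toLinearMap ξ'' y := by
    rw [eq_sum_fundWeight b₁ ξ'', map_sum, LinearMap.sum_apply, LinearMap.sum_apply]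
    apply Finset.sum_le_sum
    intro i _
    rw [map_smul, LinearMap.smul_apply, LinearMap.smul_apply, smul_eq_mul, smul_eq_mul]
    apply mul_le_mul_of_nonneg_left _ (hb₁ i i.2)
    have hcorner : fundWeight b₁ i ∈ baseCorners b₁ :=
      (mem_baseCorners_iff b₁ _).mpr ⟨i, rfl⟩
    have hmem : fundWeight b₁ i ∈ F.corners' := Set.mem_biUnion hb₁F hcorner
    have h3 : y ∈ halfClosed d (fundWeight b₁ i) := Set.mem_iInter₂.mp hy2 _ hmem
    exact h3 b₁ hcorner
  exact absurd h1 (not_lt.mpr h2)

end Solid

end Groth.Agent.Lib.R2H7.RootCh
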