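import Mathlib
import Groth.Agent.Lib.R2H7RootCh2Solid
import Groth.Agent.Lib.R2H7RootCh2Key

/-!
# The dual solid of a facet as an intersection of hyperplanes and half-spaces (helper7, round 2)
-/

set_option autoImplicit false
open Module
namespace Groth.Agent.Lib.R2H7.RootCh
open _root_.RootCh
universe u v w x
variable {ι : Type u} {R : Type v} {M : Type w} {N : Type x}

section Convex

variable [Field R] [LinearOrder R] [IsStrictOrderedRing R]
variable [AddCommGroup M] [Module R M] [AddCommGroup N] [Module R N]
variable {P : RootPairing ι R M N} [P.IsRootSystem]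

theorem convex_hyper (d : P.Base → N) (m : M) : Convex R (hyper d m) := by
  intro x hx y hy a c _ _ hac b hb
  rw [map_add, map_smul, map_smul, hx b hb, hy b hb, ← add_smul, hac, one_smul]

theorem convex_halfClosed (d : P.Base → N) (m : M) : Convex R (halfClosed d m) := by
  intro x hx y hy a c ha hc hac b hb
  rw [map_add, map_smul, map_smul, smul_eq_mul, smul_eq_mul]
  have h1 := hx b hb
  have h2 := hy b hb
  have h3 : P.toLinearMap m (d b) = a * P.toLinearMap m (d b) + c * P.toLinearMap m (d b) := by
    rw [← add_mul, hac, one_mul]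
  rw [h3]
  exact add_le_add (mul_le_mul_of_nonneg_left h1 ha) (mul_le_mul_of_nonneg_left h2 hc)

end Convex

section Main

variable [Field R] [LinearOrder R] [IsStrictOrderedRing R]
variable [AddCommGroup M] [Module R M] [AddCommGroup N] [Module R N] [Finite ι]
variable {P : RootPairing ι R M N} [P.IsRootSystem] [P.IsCrystallographic] [P.IsReduced]

/-- Every value of a complementary convex solid lies in every closed half-space. -/
theorem d_mem_halfClosed {d : P.Base → N} (hd : IsCCS d) (c : P.Base) (m : M) :
    d c ∈ halfClosed d m :=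
  fun b hb => toLinearMap_le_of_mem_closedChamber hd b c hb.2

theorem d_mem_hyper {d : P.Base → N} (hd : IsCCS d) (F : Facet P) {c : P.Base} (hc : c ∈ F.cham)
    {m : M} (hm : m ∈ F.corners) : d c ∈ hyper d m :=
  fun b hb => hd.corner_eq c b m (Facet.corners_subset_baseCorners F hc hm) hb

theorem Facet.dualSolid_subset_iInter {d : P.Base → N} (hd : IsCCS d) (F : Facet P) :
    dualSolid d F ⊆ (⋂ m ∈ F.corners, hyper d m) ∩ ⋂ m : M, halfClosed d m := by
  apply convexHull_min
  · rintro _ ⟨c, hc, rfl⟩
    refine ⟨Set.mem_iInter₂.mpr (fun m hm => d_mem_hyper hd F hc hm),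
      Set.mem_iInter.mpr (fun m => d_mem_halfClosed hd c m)⟩
  · exact (convex_iInter₂ (fun m _ => convex_hyper d m)).inter
      (convex_iInter (fun m => convex_halfClosed d m))

/-- The dual solid of a facet is the intersection of the hyperplanes of its corners and the closed
half-spaces of the corners of its adjacent chambers. -/
theorem Facet.dualSolid_eq {d : P.Base → N} (hd : IsCCS d) (F : Facet P) :
    dualSolid d F = (⋂ m ∈ F.corners, hyper d m) ∩ ⋂ m ∈ F.corners', halfClosed d m := by
  apply Set.Subset.antisymm
  · intro y hy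
    obtain ⟨h1, h2⟩ := Facet.dualSolid_subset_iInter hd F hy
    exact ⟨h1, Set.mem_iInter₂.mpr (fun m _ => Set.mem_iInter.mp h2 m)⟩
  · exact Facet.iInter_subset_dualSolid d F

omit [P.IsRootSystem] [P.IsCrystallographic] [P.IsReduced] [Finite ι] in
theorem cham_origin : (Facet.origin P).cham = Set.univ := by
  ext b
  simp only [Set.mem_univ, iff_true]
  change b ∈ (Facet.ofVec P 0).cham
  rw [mem_cham_ofVec_iff]
  intro i _
  simp

omit [P.IsCrystallographic] [P.IsReduced] [Finite ι] in
theorem corners_origin : (Facet.origin P).corners = ∅ := by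
  classical
  ext m
  simp only [Set.mem_empty_iff_false, iff_false]
  rintro ⟨⟨b, i, rfl⟩, h2⟩
  have h3 := h2 i
  change SignType.sign (P.coroot' i (fundWeight b i)) = 0 ∨
    SignType.sign (P.coroot' i (fundWeight b i)) = SignType.sign (P.coroot' i (0 : M)) at h3
  rw [coroot'_fundWeight_self, map_zero, sign_zero, sign_one] at h3
  rcases h3 with h | h <;> exact absurd h (by decide)

omit [P.IsCrystallographic] [P.IsReduced] [Finite ι] in
theorem solid_eq_dualSolid_origin (d : P.Base → N) : solid d = dualSolid d (Facet.origin P) := by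
  unfold solid dualSolid
  rw [cham_origin, Set.image_univ]

/-- A point lies in the solid iff it lies in all the closed half-spaces of the fundamental weights. -/
theorem mem_solid_iff {d : P.Base → N} (hd : IsCCS d) (y : N) :
    y ∈ solid d ↔ ∀ b : P.Base, ∀ m ∈ baseCorners b, P.toLinearMap m (d b) ≤ P.toLinearMap m y := by
  rw [solid_eq_dualSolid_origin]
  constructor
  · intro hy b m hm
    have h2 := (Facet.dualSolid_subset_iInter hd _ hy).2
    exact Set.mem_iInter.mp h2 m b hm
  · intro h
    apply Facet.iInter_subset_dualSolid d (Facet.origin P)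
    refine ⟨?_, ?_⟩
    · rw [corners_origin]
      simp
    · apply Set.mem_iInter₂.mpr
      intro m _ b hb
      exact h b m hb

end Main

end Groth.Agent.Lib.R2H7.RootCh
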