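import Mathlib
import Groth.Agent.Lib.R2H7RootCh2Main

/-!
# Degrees of facets and semi-stability (helper7, round 2)
-/

set_option autoImplicit false
open Module
namespace Groth.Agent.Lib.R2H7.RootCh
open _root_.RootCh
universe u v w x
variable {ι : Type u} {R : Type v} {M : Type w} {N : Type x}

section Deg

variable [Field R] [LinearOrder R] [IsStrictOrderedRing R]
variable [AddCommGroup M] [Module R M] [AddCommGroup N] [Module R N] [Finite ι]
variable {P : RootPairing ι R M N} [P.IsRootSystem] [P.IsCrystallographic] [P.IsReduced]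

theorem deg_le_zero_of_corners {d : P.Base → N}
    (h : ∀ b : P.Base, ∀ m ∈ baseCorners b, P.toLinearMap m (d b) ≤ 0) (F : Facet P)
    {b : P.Base} (hb : b ∈ F.cham) : F.deg d b ≤ 0 := by
  classical
  rw [Facet.deg_eq]
  set σ := ∑ i ∈ (Set.toFinite F.parab).toFinset, P.root i with hσdef
  have hσ : σ ∈ closedChamber b := hb (Facet.sum_root_parab_mem_carrier F)
  rw [eq_sum_fundWeight b σ, map_sum, LinearMap.sum_apply]
  apply Finset.sum_nonpos
  intro i _
  rw [map_smul, LinearMap.smul_apply, smul_eq_mul]
  exact mul_nonpos_of_nonneg_of_nonpos (hσ i i.2)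
    (h b _ ((mem_baseCorners_iff b _).mpr ⟨i, rfl⟩))

theorem corners_ofVec_fundWeight (b : P.Base) (i : b.support) :
    (Facet.ofVec P (fundWeight b i)).corners = {fundWeight b i} := by
  classical
  rw [corners_ofVec b (fundWeight_mem_closedChamber b i)]
  ext x
  constructor
  · rintro ⟨i', hi', rfl⟩
    have hi'' : 0 < P.coroot' i' (fundWeight b i) := hi'
    rw [coroot'_fundWeight] at hi''
    split_ifs at hi'' with h
    · rw [h]; rfl
    · exact absurd hi'' (lt_irrefl 0)
  · rintro rfl
    refine ⟨i, ?_, rfl⟩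
    change 0 < P.coroot' i (fundWeight b i)
    rw [coroot'_fundWeight_self]
    exact one_pos

theorem fundWeight_ne_zero (b : P.Base) (i : b.support) : fundWeight b i ≠ 0 := by
  intro h
  have := coroot'_fundWeight_self b i
  rw [h, map_zero] at this
  exact zero_ne_one this

theorem dim_ofVec_fundWeight (b : P.Base) (i : b.support) :
    (Facet.ofVec P (fundWeight b i)).dim = 1 := by
  unfold Facet.dim
  rw [span_carrier_ofVec b (fundWeight_mem_closedChamber b i), corners_ofVec_fundWeight,
    finrank_span_singleton (fundWeight_ne_zero b i)]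

theorem corner_le_zero_of_deg {d : P.Base → N}
    (h : ∀ (F : Facet P) (b : P.Base), F.dim = 1 → b ∈ F.cham → F.deg d b ≤ 0)
    (b : P.Base) (m : M) (hm : m ∈ baseCorners b) : P.toLinearMap m (d b) ≤ 0 := by
  classical
  obtain ⟨i, rfl⟩ := (mem_baseCorners_iff b m).mp hm
  have hmc : fundWeight b i ∈ closedChamber b := fundWeight_mem_closedChamber b i
  have hbF : b ∈ (Facet.ofVec P (fundWeight b i)).cham := (mem_cham_ofVec_iff _ b).mpr hmc
  have hdeg := h _ b (dim_ofVec_fundWeight b i) hbF
  rw [Facet.deg_eq] at hdeg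
  set σ := ∑ k ∈ (Set.toFinite (Facet.ofVec P (fundWeight b i)).parab).toFinset, P.root k
    with hσdef
  have hσF : σ ∈ (Facet.ofVec P (fundWeight b i)).carrier := Facet.sum_root_parab_mem_carrier _
  have hσ := (mem_carrier_ofVec_iff b hmc σ).mp hσF
  have hσeq : σ = P.coroot' i σ • fundWeight b i := by
    conv_lhs => rw [eq_sum_fundWeight b σ]
    rw [Finset.sum_eq_single i]
    · intro j _ hj
      have hnot : ¬ 0 < P.coroot' j σ := by
        rw [hσ.2 j j.2, coroot'_fundWeight, if_neg hj]
        exact lt_irrefl 0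
      have h0 : P.coroot' j σ = 0 := le_antisymm (not_lt.mp hnot) (hσ.1 j j.2)
      rw [h0, zero_smul]
    · intro h'; exact absurd (Finset.mem_univ _) h'
  have hpos : 0 < P.coroot' i σ :=
    (hσ.2 i i.2).mpr (by rw [coroot'_fundWeight_self]; exact one_pos)
  rw [hσeq, map_smul, LinearMap.smul_apply, smul_eq_mul] at hdeg
  by_contra hcon
  have hcon' := not_le.mp hcon
  have := mul_pos hpos hcon'
  linarith

theorem semistable_iff_corners {d : P.Base → N} (hd : IsCCS d) :
    IsSemistable d ↔ ∀ b : P.Base, ∀ m ∈ baseCorners b, P.toLinearMap m (d b) ≤ 0 := by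
  unfold IsSemistable
  rw [mem_solid_iff hd]
  constructor
  · intro h b m hm
    have := h b m hm
    rwa [map_zero] at this
  · intro h b m hm
    rw [map_zero]
    exact h b m hm

end Deg

end Groth.Agent.Lib.R2H7.RootCh
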