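import Mathlib
import Groth.Agent.Lib.R2H7RootCh2Main

/-!
# Special facets of a root system with a complementary convex solid (helper7, round 2)

The dual facet in coordinates, uniqueness of the point `y(F)`, numerical invariants and specialness.
-/

set_option autoImplicit false
open Module
namespace Groth.Agent.Lib.R2H7.RootCh
open _root_.RootCh
universe u v w x
variable {ι : Type u} {R : Type v} {M : Type w} {N : Type x}

section DualFacet

variable [Field R] [LinearOrder R] [IsStrictOrderedRing R]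
variable [AddCommGroup M] [Module R M] [AddCommGroup N] [Module R N] [Fintype ι]
variable {P : RootPairing ι R M N} [P.IsRootSystem]

omit [P.IsRootSystem] in
theorem dualCarrier_ofVec (ξ : M) :
    (Facet.ofVec P ξ).dualCarrier = (Facet.ofVec P.flip (P.Polarization ξ)).carrier := by
  ext x
  change cosgnVec P x = sgnVec P ξ ↔ cosgnVec P x = cosgnVec P (P.Polarization ξ)
  rw [cosgnVec_polarization]

theorem mem_dualCarrier_ofVec_iff (b : P.Base) {ξ : M} (hξ : ξ ∈ closedChamber b) (x : N) :
    x ∈ (Facet.ofVec P ξ).dualCarrier ↔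
      (∀ j ∈ b.support, 0 ≤ P.root' j x) ∧
        ∀ j ∈ b.support, (0 < P.root' j x ↔ 0 < P.coroot' j ξ) := by
  rw [dualCarrier_ofVec, mem_carrier_ofVec_iff (P := P.flip) b.flip
    (polarization_mem_closedChamber_flip b hξ)]
  constructor
  · rintro ⟨h1, h2⟩
    refine ⟨fun j hj => h1 j hj, fun j hj => ?_⟩
    rw [← root'_polarization_pos_iff]
    exact h2 j hj
  · rintro ⟨h1, h2⟩
    refine ⟨fun j hj => h1 j hj, fun j hj => ?_⟩
    have := h2 j hj
    rw [← root'_polarization_pos_iff] at this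
    exact this

theorem span_dualCarrier_ofVec (b : P.Base) {ξ : M} (hξ : ξ ∈ closedChamber b) :
    Submodule.span R (Facet.ofVec P ξ).dualCarrier =
      Submodule.span R (fundCoweight b '' {i : b.support | 0 < P.coroot' i ξ}) := by
  rw [dualCarrier_ofVec, span_carrier_ofVec (P := P.flip) b.flip
    (polarization_mem_closedChamber_flip b hξ), ← dualCorners_ofVec, dualCorners_ofVec_eq b hξ]

theorem exists_polarization_eq_of_mem_span (b : P.Base) (I : Set b.support) {z : N}
    (hz : z ∈ Submodule.span R (fundCoweight b '' I)) :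
    ∃ v ∈ Submodule.span R (fundWeight b '' I), P.Polarization v = z := by
  induction hz using Submodule.span_induction with
  | mem x hx =>
    obtain ⟨i, hi, rfl⟩ := hx
    refine ⟨(q P i)⁻¹ • (2 : R) • fundWeight b i,
      Submodule.smul_mem _ _ (Submodule.smul_mem _ _ (Submodule.subset_span ⟨i, hi, rfl⟩)), ?_⟩
    rw [map_smul, map_smul, two_smul_polarization_fundWeight, smul_smul,
      inv_mul_cancel₀ (q_pos P i).ne', one_smul]
  | zero => exact ⟨0, Submodule.zero_mem _, map_zero _⟩
  | add x y _ _ hx hy =>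
    obtain ⟨v, hv, rfl⟩ := hx
    obtain ⟨v', hv', rfl⟩ := hy
    exact ⟨v + v', Submodule.add_mem _ hv hv', map_add _ _ _⟩
  | smul r x _ hx =>
    obtain ⟨v, hv, rfl⟩ := hx
    exact ⟨r • v, Submodule.smul_mem _ _ hv, map_smul _ _ _⟩

theorem eq_zero_of_polarization_pairing_eq_zero (b : P.Base) (I : Set b.support) {v : M}
    (hv : v ∈ Submodule.span R (fundWeight b '' I))
    (h : ∀ i ∈ I, P.toLinearMap (fundWeight b i) (P.Polarization v) = 0) : v = 0 := by
  have h1 : ∀ w ∈ Submodule.span R (fundWeight b '' I), P.RootForm v w = 0 := by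
    intro w hw
    induction hw using Submodule.span_induction with
    | mem x hx =>
      obtain ⟨i, hi, rfl⟩ := hx
      rw [← P.toLinearMap_apply_apply_Polarization]
      exact h i hi
    | zero => simp
    | add x y _ _ hx hy => rw [map_add, hx, hy, add_zero]
    | smul r x _ hx => rw [map_smul, hx, smul_zero]
  exact P.rootForm_anisotropic v (h1 v hv)

/-- A vector of the span of the dual facet is determined by its pairings with the corners. -/
theorem eq_of_mem_span_dualCarrier_ofVec (b : P.Base) {ξ : M} (hξ : ξ ∈ closedChamber b)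
    {y y' : N} (hy : y ∈ Submodule.span R (Facet.ofVec P ξ).dualCarrier)
    (hy' : y' ∈ Submodule.span R (Facet.ofVec P ξ).dualCarrier)
    (h : ∀ m ∈ (Facet.ofVec P ξ).corners, P.toLinearMap m y = P.toLinearMap m y') : y = y' := by
  rw [span_dualCarrier_ofVec b hξ] at hy hy'
  obtain ⟨v, hv, hvz⟩ := exists_polarization_eq_of_mem_span b _ (Submodule.sub_mem _ hy hy')
  have hv0 : v = 0 := by
    apply eq_zero_of_polarization_pairing_eq_zero b _ hv
    intro i hi
    rw [hvz, map_sub, sub_eq_zero]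
    apply h
    rw [corners_ofVec b hξ]
    exact ⟨i, hi, rfl⟩
  rw [hv0, map_zero] at hvz
  exact (sub_eq_zero.mp hvz.symm)

end DualFacet

section YLocus

variable [Field R] [LinearOrder R] [IsStrictOrderedRing R]
variable [AddCommGroup M] [Module R M] [AddCommGroup N] [Module R N] [Finite ι]
variable {P : RootPairing ι R M N} [P.IsRootSystem] [P.IsCrystallographic] [P.IsReduced]

theorem Facet.eq_of_mem_span_dualCarrier (F : Facet P) {y y' : N}
    (hy : y ∈ Submodule.span R F.dualCarrier) (hy' : y' ∈ Submodule.span R F.dualCarrier)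
    (h : ∀ m ∈ F.corners, P.toLinearMap m y = P.toLinearMap m y') : y = y' := by
  have := Fintype.ofFinite ι
  obtain ⟨ξ, hξ⟩ := F.exists_sgnVec_eq
  have hF : F = Facet.ofVec P ξ := Facet.eq_ofVec F hξ
  obtain ⟨b, hb⟩ := exists_base_mem_closedChamber P ξ
  subst hF
  exact eq_of_mem_span_dualCarrier_ofVec b hb hy hy' h

/-- The locus `y(F)` has at most one point (whatever `d`). -/
theorem yLocus_subsingleton (d : P.Base → N) (F : Facet P) : (yLocus d F).Subsingleton := by
  rintro y ⟨hy1, hy2⟩ y' ⟨hy1', hy2'⟩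
  obtain ⟨b, hb⟩ := Facet.exists_mem_cham F
  apply Facet.eq_of_mem_span_dualCarrier F hy2 hy2'
  intro m hm
  have h1 : y ∈ hyper d m := Set.mem_iInter₂.mp hy1 m hm
  have h2 : y' ∈ hyper d m := Set.mem_iInter₂.mp hy1' m hm
  have hmb := Facet.corners_subset_baseCorners F hb hm
  rw [h1 b hmb, h2 b hmb]

theorem dualCarrier_inter_dualSolid_subset_yLocus {d : P.Base → N} (hd : IsCCS d) (F : Facet P) :
    F.dualCarrier ∩ dualSolid d F ⊆ yLocus d F :=
  fun _ hy => ⟨(Facet.dualSolid_subset_iInter hd F hy.2).1, Submodule.subset_span hy.1⟩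

theorem yLocus_eq_singleton {d : P.Base → N} (hd : IsCCS d) (F : Facet P) {y₀ : N}
    (h1 : y₀ ∈ F.dualCarrier) (h2 : y₀ ∈ dualSolid d F) :
    yLocus d F = {y₀} ∧ F.dualCarrier ∩ dualSolid d F = {y₀} := by
  have hmem : y₀ ∈ yLocus d F := dualCarrier_inter_dualSolid_subset_yLocus hd F ⟨h1, h2⟩
  have hY : yLocus d F = {y₀} := by
    ext y
    constructor
    · intro hy
      exact yLocus_subsingleton d F hy hmem
    · rintro rfl
      exact hmem
  refine ⟨hY, ?_⟩
  ext y
  constructor
  · intro hy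
    exact yLocus_subsingleton d F (dualCarrier_inter_dualSolid_subset_yLocus hd F hy) hmem
  · rintro rfl
    exact ⟨h1, h2⟩

end YLocus

section NumInv

variable [Field R] [LinearOrder R] [IsStrictOrderedRing R]
variable [AddCommGroup M] [Module R M] [AddCommGroup N] [Module R N] [Fintype ι]
variable {P : RootPairing ι R M N} [P.IsRootSystem] [P.IsCrystallographic] [P.IsReduced]

theorem eq_sum_fundCoweight (b : P.Base) (z : N) :
    z = ∑ i : b.support, P.root' i z • fundCoweight b i :=
  eq_sum_fundWeight (P := P.flip) b.flip z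

theorem root'_eq_zero_of_mem_span_fundCoweight (b : P.Base) (I : Set b.support) {z : N}
    (hz : z ∈ Submodule.span R (fundCoweight b '' I)) (j : b.support) (hj : j ∉ I) :
    P.root' j z = 0 := by
  classical
  induction hz using Submodule.span_induction with
  | mem x hx =>
    obtain ⟨i, hi, rfl⟩ := hx
    rw [root'_fundCoweight, if_neg]
    rintro rfl
    exact hj hi
  | zero => simp
  | add x y _ _ hx hy => rw [map_add, hx, hy, add_zero]
  | smul r x _ hx => rw [map_smul, hx, smul_zero]

/-- A root of the elementary set `Ψ(F, ϖ_{i₀})` pairs with a vector of the span of the dual facet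
like the simple root `α_{i₀}`. -/
theorem root'_eq_of_mem_Psi (b : P.Base) {ξ : M} (hξ : ξ ∈ closedChamber b) (i₀ : b.support)
    {k : ι} (hk : k ∈ (Facet.ofVec P ξ).Psi (fundWeight b i₀)) {z : N}
    (hz : ∀ j : b.support, ¬ 0 < P.coroot' j ξ → P.root' j z = 0) :
    P.root' k z = P.root' i₀ z := by
  classical
  rw [mem_Psi_ofVec_iff b hξ] at hk
  conv_lhs => rw [eq_sum_fundCoweight b z]
  rw [map_sum, Finset.sum_eq_single i₀]
  · rw [map_smul, hk.1, smul_eq_mul, mul_one]
  · intro i _ hi
    rw [map_smul, smul_eq_mul]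
    by_cases hiI : 0 < P.coroot' i ξ
    · rw [hk.2 i hiI hi, mul_zero]
    · rw [hz i hiI, zero_mul]
  · intro h; exact absurd (Finset.mem_univ _) h

theorem self_mem_Psi (b : P.Base) {ξ : M} (hξ : ξ ∈ closedChamber b) (i₀ : b.support) :
    (i₀ : ι) ∈ (Facet.ofVec P ξ).Psi (fundWeight b i₀) := by
  classical
  rw [mem_Psi_ofVec_iff b hξ]
  refine ⟨root'_fundCoweight_self b i₀, fun i _ hi => ?_⟩
  rw [root'_fundCoweight, if_neg (Ne.symm hi)]

/-- For a point `z` of the locus `y(F)`, the numerical invariant at the corner `ϖ_{i₀}` is a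
positive multiple of `⟪α_{i₀}, z⟫`. -/
theorem numInv_pos_iff {d : P.Base → N} (b : P.Base) {ξ : M} (hξ : ξ ∈ closedChamber b)
    (i₀ : b.support) (hi₀ : 0 < P.coroot' i₀ ξ) {z : N} (hz : z ∈ yLocus d (Facet.ofVec P ξ))
    {b' : P.Base} (hb' : b' ∈ (Facet.ofVec P ξ).cham) :
    0 < (Facet.ofVec P ξ).numInv d (fundWeight b i₀) b' ↔ 0 < P.root' i₀ z := by
  classical
  set F := Facet.ofVec P ξ with hF
  have hz0 : ∀ j : b.support, ¬ 0 < P.coroot' j ξ → P.root' j z = 0 := by
    intro j hj
    have h2 := hz.2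
    rw [SetLike.mem_coe, span_dualCarrier_ofVec b hξ] at h2
    exact root'_eq_zero_of_mem_span_fundCoweight b _ h2 j hj
  have hspan := sum_root_Psi_ofVec_mem_span b hξ i₀ hi₀
  rw [Facet.numInv_eq, ← toLinearMap_eq_of_mem_iInter_hyper F hz.1 hb' hspan, map_sum,
    LinearMap.sum_apply]
  have hterm : ∀ k ∈ (Set.toFinite (F.Psi (fundWeight b i₀))).toFinset,
      P.toLinearMap (P.root k) z = P.root' i₀ z := by
    intro k hk
    rw [Set.Finite.mem_toFinset] at hk
    exact root'_eq_of_mem_Psi b hξ i₀ hk hz0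
  rw [Finset.sum_congr rfl hterm, Finset.sum_const, nsmul_eq_mul]
  have hcard : 0 < ((Set.toFinite (F.Psi (fundWeight b i₀))).toFinset.card : R) := by
    rw [Nat.cast_pos, Finset.card_pos]
    exact ⟨i₀, (Set.Finite.mem_toFinset _).mpr (self_mem_Psi b hξ i₀)⟩
  constructor
  · intro h
    exact (pos_iff_pos_of_mul_pos h).mp hcard
  · intro h
    exact mul_pos hcard h

end NumInv

section Special

variable [Field R] [LinearOrder R] [IsStrictOrderedRing R]
variable [AddCommGroup M] [Module R M] [AddCommGroup N] [Module R N] [Finite ι]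
variable {P : RootPairing ι R M N} [P.IsRootSystem] [P.IsCrystallographic] [P.IsReduced]

/-- (S1) + (S2) ⇔ the dual facet meets the dual solid. -/
theorem isSpecial_iff {d : P.Base → N} (hd : IsCCS d) (F : Facet P) :
    ((∀ m ∈ F.corners, ∀ b ∈ F.cham, 0 < F.numInv d m b) ∧
        (dualSolid d F ∩ (Submodule.span R F.dualCarrier : Set N)).Nonempty) ↔
      IsSpecial d F := by
  classical
  have := Fintype.ofFinite ι
  obtain ⟨ξ, hξ⟩ := F.exists_sgnVec_eq
  have hF : F = Facet.ofVec P ξ := Facet.eq_ofVec F hξ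
  obtain ⟨b, hb⟩ := exists_base_mem_closedChamber P ξ
  subst hF
  have hbF : b ∈ (Facet.ofVec P ξ).cham := (mem_cham_ofVec_iff ξ b).mpr hb
  constructor
  · rintro ⟨hS1, z, hz1, hz2⟩
    have hzY : z ∈ yLocus d (Facet.ofVec P ξ) :=
      ⟨(Facet.dualSolid_subset_iInter hd _ hz1).1, hz2⟩
    refine ⟨z, ?_, hz1⟩
    rw [mem_dualCarrier_ofVec_iff b hb]
    have hpos : ∀ j : b.support, 0 < P.coroot' j ξ → 0 < P.root' j z := by
      intro j hj
      rw [← numInv_pos_iff b hb j hj hzY hbF]
      exact hS1 _ (by rw [corners_ofVec b hb]; exact ⟨j, hj, rfl⟩) b hbF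
    have hzero : ∀ j : b.support, ¬ 0 < P.coroot' j ξ → P.root' j z = 0 := by
      intro j hj
      have h2 := hz2
      rw [SetLike.mem_coe, span_dualCarrier_ofVec b hb] at h2
      exact root'_eq_zero_of_mem_span_fundCoweight b _ h2 j hj
    refine ⟨fun j hj => ?_, fun j hj => ?_⟩
    · by_cases h : 0 < P.coroot' j ξ
      · exact (hpos ⟨j, hj⟩ h).le
      · exact (hzero ⟨j, hj⟩ h).ge
    · constructor
      · intro h
        by_contra hn
        rw [hzero ⟨j, hj⟩ hn] at h
        exact lt_irrefl _ h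
      · exact hpos ⟨j, hj⟩
  · rintro ⟨y₀, h1, h2⟩
    have hY := dualCarrier_inter_dualSolid_subset_yLocus hd _ ⟨h1, h2⟩
    refine ⟨?_, ⟨y₀, h2, Submodule.subset_span h1⟩⟩
    intro m hm b' hb'
    rw [corners_ofVec b hb] at hm
    obtain ⟨i₀, hi₀, rfl⟩ := hm
    rw [numInv_pos_iff b hb i₀ hi₀ hY hb']
    exact (((mem_dualCarrier_ofVec_iff b hb y₀).mp h1).2 i₀ i₀.2).mpr hi₀

end Special

end Groth.Agent.Lib.R2H7.RootCh
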