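import Mathlib
import Groth.Agent.Lib.R2H7RootCh2Special

/-!
# The special facet is the largest facet of maximal degree (helper7, round 2)
-/

set_option autoImplicit false
open Module
namespace Groth.Agent.Lib.R2H7.RootCh
open _root_.RootCh
universe u v w x
variable {ι : Type u} {R : Type v} {M : Type w} {N : Type x}

section Sums

variable [Field R] [LinearOrder R] [IsStrictOrderedRing R] [Fintype ι]

open Classical in
theorem sum_le_sum_nonneg (a : ι → R) (T : Finset ι) :
    ∑ k ∈ T, a k ≤ ∑ k ∈ Finset.univ.filter (fun k => 0 ≤ a k), a k := by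
  rw [← Finset.sum_filter_add_sum_filter_not T (fun k => 0 ≤ a k)]
  have h1 : ∑ k ∈ T.filter (fun k => ¬ 0 ≤ a k), a k ≤ 0 :=
    Finset.sum_nonpos (fun k hk => (not_le.mp (Finset.mem_filter.mp hk).2).le)
  have h2 : ∑ k ∈ T.filter (fun k => 0 ≤ a k), a k ≤
      ∑ k ∈ Finset.univ.filter (fun k => 0 ≤ a k), a k := by
    apply Finset.sum_le_sum_of_subset_of_nonneg
    · intro k hk
      rw [Finset.mem_filter] at hk ⊢
      exact ⟨Finset.mem_univ _, hk.2⟩
    · intro k hk _
      exact (Finset.mem_filter.mp hk).2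
  linarith

open Classical in
theorem sum_lt_sum_nonneg (a : ι → R) (T : Finset ι) {k₀ : ι} (hk₀ : k₀ ∈ T) (ha : a k₀ < 0) :
    ∑ k ∈ T, a k < ∑ k ∈ Finset.univ.filter (fun k => 0 ≤ a k), a k := by
  rw [← Finset.add_sum_erase T a hk₀]
  have := sum_le_sum_nonneg a (T.erase k₀)
  linarith

end Sums

section Max

variable [Field R] [LinearOrder R] [IsStrictOrderedRing R]
variable [AddCommGroup M] [Module R M] [AddCommGroup N] [Module R N] [Finite ι]
variable {P : RootPairing ι R M N} [P.IsRootSystem] [P.IsCrystallographic] [P.IsReduced]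

theorem dualSolid_subset_solid (d : P.Base → N) (F : Facet P) : dualSolid d F ⊆ solid d :=
  convexHull_mono (Set.image_subset_range d _)

/-- A dominant vector of `c` pairs least with `d c` on the whole solid. -/
theorem toLinearMap_le_of_mem_solid {d : P.Base → N} (hd : IsCCS d) (c : P.Base) {ξ : M}
    (hξ : ξ ∈ closedChamber c) {y : N} (hy : y ∈ solid d) :
    P.toLinearMap ξ (d c) ≤ P.toLinearMap ξ y := by
  have hconv : Convex R {y : N | P.toLinearMap ξ (d c) ≤ P.toLinearMap ξ y} :=
    convex_halfSpace_ge (P.toLinearMap ξ).isLinear _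
  have hsub : Set.range d ⊆ {y : N | P.toLinearMap ξ (d c) ≤ P.toLinearMap ξ y} := by
    rintro _ ⟨c', rfl⟩
    exact toLinearMap_le_of_mem_closedChamber hd c c' hξ
  exact convexHull_min hsub hconv hy

omit [P.IsCrystallographic] [P.IsReduced] in
theorem toLinearMap_sum_root_parab (G : Facet P) (y : N) :
    P.toLinearMap (∑ i ∈ (Set.toFinite G.parab).toFinset, P.root i) y =
      ∑ i ∈ (Set.toFinite G.parab).toFinset, P.root' i y := by
  rw [map_sum, LinearMap.sum_apply]

/-- For a special facet `F` with point `y₀`, the degree of any facet `G` is at most the sum of the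
`⟪α, y₀⟫` over the parabolic set of `G`. -/
theorem deg_le_sum_root' {d : P.Base → N} (hd : IsCCS d) {y₀ : N} (hy₀ : y₀ ∈ solid d)
    (G : Facet P) {c : P.Base} (hc : c ∈ G.cham) :
    G.deg d c ≤ ∑ i ∈ (Set.toFinite G.parab).toFinset, P.root' i y₀ := by
  rw [Facet.deg_eq, ← toLinearMap_sum_root_parab]
  exact toLinearMap_le_of_mem_solid hd c (hc (Facet.sum_root_parab_mem_carrier G)) hy₀

theorem deg_eq_sum_root' {d : P.Base → N} (hd : IsCCS d) (F : Facet P) {y₀ : N}
    (h2 : y₀ ∈ dualSolid d F) {b : P.Base} (hb : b ∈ F.cham) :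
    F.deg d b = ∑ i ∈ (Set.toFinite F.parab).toFinset, P.root' i y₀ := by
  rw [Facet.deg_eq, ← toLinearMap_sum_root_parab]
  exact (toLinearMap_eq_of_mem_iInter_hyper F (Facet.dualSolid_subset_iInter hd F h2).1 hb
    (Facet.carrier_subset_span_corners F (Facet.sum_root_parab_mem_carrier F))).symm

open Classical in
omit [P.IsRootSystem] [P.IsCrystallographic] [P.IsReduced] in
theorem parab_toFinset_eq_of_mem_dualCarrier [Fintype ι] (F : Facet P) {y₀ : N}
    (h1 : y₀ ∈ F.dualCarrier) :
    (Set.toFinite F.parab).toFinset = Finset.univ.filter (fun k => 0 ≤ P.root' k y₀) := by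
  ext k
  rw [Set.Finite.mem_toFinset, Finset.mem_filter]
  have hk : F.sgn k = SignType.sign (P.root' k y₀) := (congrFun h1 k).symm
  change F.sgn k ≠ -1 ↔ _
  rw [hk]
  constructor
  · intro h
    refine ⟨Finset.mem_univ _, ?_⟩
    by_contra hneg
    exact h (sign_neg (not_le.mp hneg))
  · rintro ⟨-, h⟩ hneg
    rw [sign_eq_neg_one_iff] at hneg
    exact absurd h (not_le.mpr hneg)

/-- The special facet has maximal degree and is the largest facet of maximal degree. -/
theorem isSpecial_max {d : P.Base → N} (hd : IsCCS d) (F : Facet P) {b : P.Base}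
    (hb : b ∈ F.cham) (hF : IsSpecial d F) :
    (∀ (G : Facet P) (c : P.Base), c ∈ G.cham → G.deg d c ≤ F.deg d b) ∧
      ∀ (G : Facet P) (c : P.Base), c ∈ G.cham → G.deg d c = F.deg d b → G ≤ F := by
  classical
  have := Fintype.ofFinite ι
  obtain ⟨y₀, h1, h2⟩ := hF
  have hy₀ : y₀ ∈ solid d := dualSolid_subset_solid d F h2
  have hF' := deg_eq_sum_root' hd F h2 hb
  rw [parab_toFinset_eq_of_mem_dualCarrier F h1] at hF'
  constructor
  · intro G c hc
    rw [hF']
    exact (deg_le_sum_root' hd hy₀ G hc).trans (sum_le_sum_nonneg _ _)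
  · intro G c hc heq
    rw [Facet.le_iff_parab_subset]
    intro k hk
    by_contra hkF
    have hneg : P.root' k y₀ < 0 := by
      by_contra hnn
      apply hkF
      have : k ∈ (Set.toFinite F.parab).toFinset := by
        rw [parab_toFinset_eq_of_mem_dualCarrier F h1, Finset.mem_filter]
        exact ⟨Finset.mem_univ _, not_lt.mp hnn⟩
      exact (Set.Finite.mem_toFinset _).mp this
    have h3 := sum_lt_sum_nonneg (fun k => P.root' k y₀) _
      ((Set.Finite.mem_toFinset (Set.toFinite G.parab)).mpr hk) hneg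
    have h4 := deg_le_sum_root' hd hy₀ G hc
    rw [heq, hF'] at h4
    exact absurd h3 (not_lt.mpr h4)

end Max

end Groth.Agent.Lib.R2H7.RootCh
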