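import Mathlib
import Groth.Agent.Lib.R2H7RootCh2Max

/-!
# The special facet and the point of the solid closest to the origin (helper7, round 2)
-/

set_option autoImplicit false
open Module
namespace Groth.Agent.Lib.R2H7.RootCh
open _root_.RootCh
universe u v w x
variable {ι : Type u} {R : Type v} {M : Type w} {N : Type x}

section Rep

variable [Field R] [LinearOrder R] [IsStrictOrderedRing R]
variable [AddCommGroup M] [Module R M] [AddCommGroup N] [Module R N]
variable {P : RootPairing ι R M N} [P.IsRootSystem]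

/-- The vector of `M` representing the linear form `B(y, ·)` on `N`. -/
noncomputable def repVec (P : RootPairing ι R M N) [P.IsRootSystem]
    (B : LinearMap.BilinForm R N) (y : N) : M :=
  P.toPerfPair.symm (B y)

omit [LinearOrder R] [IsStrictOrderedRing R] in
theorem toLinearMap_repVec (B : LinearMap.BilinForm R N) (y z : N) :
    P.toLinearMap (repVec P B y) z = B y z := by
  have h : P.toLinearMap (P.toPerfPair.symm (B y)) = B y :=
    P.toLinearMap.apply_symm_toPerfPair_self _
  rw [repVec, h]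

omit [LinearOrder R] [IsStrictOrderedRing R] [P.IsRootSystem] in
theorem two_mul_B_coroot (B : LinearMap.BilinForm R N)
    (hBi : ∀ (i : ι) (y z : N), B (P.coreflection i y) (P.coreflection i z) = B y z)
    (y : N) (k : ι) :
    2 * B y (P.coroot k) = P.root' k y * B (P.coroot k) (P.coroot k) := by
  have h := hBi k y (P.coroot k)
  rw [P.coreflection_apply_self, P.coreflection_apply, map_neg, map_sub, map_smul,
    LinearMap.sub_apply, LinearMap.smul_apply, smul_eq_mul] at h
  linear_combination (-1 : R) * h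

theorem sgnVec_repVec (B : LinearMap.BilinForm R N)
    (hBp : ∀ y : N, y ≠ 0 → 0 < B y y)
    (hBi : ∀ (i : ι) (y z : N), B (P.coreflection i y) (P.coreflection i z) = B y z) (y : N) :
    sgnVec P (repVec P B y) = cosgnVec P y := by
  funext k
  change SignType.sign (P.toLinearMap (repVec P B y) (P.coroot k)) = SignType.sign (P.root' k y)
  rw [toLinearMap_repVec]
  have h := two_mul_B_coroot B hBi y k
  have hpos : 0 < B (P.coroot k) (P.coroot k) := hBp _ (P.ne_zero' k)
  have h2 : SignType.sign (2 * B y (P.coroot k)) =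
      SignType.sign (P.root' k y * B (P.coroot k) (P.coroot k)) := by rw [h]
  rw [sign_mul, sign_mul, sign_pos hpos, sign_pos two_pos, one_mul, mul_one] at h2
  exact h2

theorem repVec_mem_carrier (B : LinearMap.BilinForm R N)
    (hBp : ∀ y : N, y ≠ 0 → 0 < B y y)
    (hBi : ∀ (i : ι) (y z : N), B (P.coreflection i y) (P.coreflection i z) = B y z)
    (F : Facet P) {y : N} (hy : y ∈ F.dualCarrier) : repVec P B y ∈ F.carrier :=
  (sgnVec_repVec B hBp hBi y).trans hy

omit [LinearOrder R] [IsStrictOrderedRing R] in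
theorem B_self_eq (B : LinearMap.BilinForm R N) (hBs : ∀ y z : N, B y z = B z y) (y₀ y : N) :
    B y y = B y₀ y₀ + 2 * B y₀ (y - y₀) + B (y - y₀) (y - y₀) := by
  have h : y = y₀ + (y - y₀) := by abel
  conv_lhs => rw [h]
  simp only [map_add, LinearMap.add_apply]
  rw [hBs (y - y₀) y₀]
  ring

end Rep

section Metric

variable [Field R] [LinearOrder R] [IsStrictOrderedRing R]
variable [AddCommGroup M] [Module R M] [AddCommGroup N] [Module R N] [Finite ι]
variable {P : RootPairing ι R M N} [P.IsRootSystem] [P.IsCrystallographic] [P.IsReduced]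

/-- The point `y(F)` of a special facet is the point of the solid closest to the origin. -/
theorem isSpecial_closest {d : P.Base → N} (hd : IsCCS d)
    (B : LinearMap.BilinForm R N) (hBs : ∀ y z : N, B y z = B z y)
    (hBp : ∀ y : N, y ≠ 0 → 0 < B y y)
    (hBi : ∀ (i : ι) (y z : N), B (P.coreflection i y) (P.coreflection i z) = B y z)
    (F : Facet P) (hF : IsSpecial d F) :
    ∃ y₀ : N, yLocus d F = {y₀} ∧ y₀ ∈ solid d ∧
      ∀ y ∈ solid d, y ≠ y₀ → B y₀ y₀ < B y y := by
  obtain ⟨y₀, h1, h2⟩ := hF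
  refine ⟨y₀, (yLocus_eq_singleton hd F h1 h2).1, dualSolid_subset_solid d F h2, ?_⟩
  intro y hy hne
  obtain ⟨b, hb⟩ := Facet.exists_mem_cham F
  have hξ₀ : repVec P B y₀ ∈ F.carrier := repVec_mem_carrier B hBp hBi F h1
  have h3 : P.toLinearMap (repVec P B y₀) (d b) ≤ P.toLinearMap (repVec P B y₀) y :=
    toLinearMap_le_of_mem_solid hd b (hb hξ₀) hy
  have h4 : P.toLinearMap (repVec P B y₀) y₀ = P.toLinearMap (repVec P B y₀) (d b) :=
    toLinearMap_eq_of_mem_iInter_hyper F (Facet.dualSolid_subset_iInter hd F h2).1 hb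
      (Facet.carrier_subset_span_corners F hξ₀)
  rw [← h4, toLinearMap_repVec, toLinearMap_repVec] at h3
  have h5 : 0 ≤ B y₀ (y - y₀) := by rw [map_sub]; linarith
  have h6 : 0 < B (y - y₀) (y - y₀) := hBp _ (sub_ne_zero.mpr hne)
  rw [B_self_eq B hBs y₀ y]
  linarith

/-- A point of the solid of minimal norm is orthogonal-minimal: `B(y₀, y - y₀) ≥ 0` on the solid. -/
theorem B_sub_nonneg_of_min {d : P.Base → N}
    (B : LinearMap.BilinForm R N) (hBs : ∀ y z : N, B y z = B z y)
    (hBp : ∀ y : N, y ≠ 0 → 0 < B y y)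
    {y₀ : N} (hy₀ : y₀ ∈ solid d) (hmin : ∀ y ∈ solid d, B y₀ y₀ ≤ B y y)
    {y : N} (hy : y ∈ solid d) : 0 ≤ B y₀ (y - y₀) := by
  by_contra hneg
  have hneg' : B y₀ (y - y₀) < 0 := not_le.mp hneg
  have hne : y - y₀ ≠ 0 := by
    intro h
    rw [h, map_zero] at hneg'
    exact lt_irrefl _ hneg'
  set e := y - y₀ with he
  set a := -B y₀ e with ha
  have hapos : 0 < a := by rw [ha]; linarith
  have hE : 0 < B e e := hBp e hne
  set t := min 1 (a / B e e) with ht
  have ht0 : 0 < t := lt_min one_pos (div_pos hapos hE)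
  have ht1 : t ≤ 1 := min_le_left _ _
  have htE : t * B e e ≤ a := by
    have : t ≤ a / B e e := min_le_right _ _
    rwa [le_div_iff₀ hE] at this
  have hyt : y₀ + t • e ∈ solid d := by
    have hconv : Convex R (solid d) := convex_convexHull R _
    have := hconv hy₀ hy (sub_nonneg.mpr ht1) ht0.le (by ring)
    have heq : (1 - t) • y₀ + t • y = y₀ + t • e := by
      rw [he, smul_sub, sub_smul, one_smul]; abel
    rwa [heq] at this
  have hm := hmin _ hyt
  rw [B_self_eq B hBs y₀ (y₀ + t • e)] at hm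
  have hsub : y₀ + t • e - y₀ = t • e := by abel
  rw [hsub] at hm
  simp only [map_smul, LinearMap.smul_apply, smul_eq_mul] at hm
  have h1 : B y₀ e = -a := by rw [ha]; ring
  rw [h1] at hm
  nlinarith

/-- The facet of a point of minimal norm of the solid is special. -/
theorem isSpecial_of_min {d : P.Base → N} (hd : IsCCS d)
    (B : LinearMap.BilinForm R N) (hBs : ∀ y z : N, B y z = B z y)
    (hBp : ∀ y : N, y ≠ 0 → 0 < B y y)
    (hBi : ∀ (i : ι) (y z : N), B (P.coreflection i y) (P.coreflection i z) = B y z)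
    {y₀ : N} (hy₀ : y₀ ∈ solid d) (hmin : ∀ y ∈ solid d, B y₀ y₀ ≤ B y y)
    (F : Facet P) (hF : y₀ ∈ F.dualCarrier) :
    IsSpecial d F ∧ yLocus d F = {y₀} := by
  classical
  have := Fintype.ofFinite ι
  obtain ⟨b, hb⟩ := Facet.exists_mem_cham F
  set ξ₀ := repVec P B y₀ with hξ₀def
  have hξ₀ : ξ₀ ∈ F.carrier := repVec_mem_carrier B hBp hBi F hF
  have hξ₀b : ξ₀ ∈ closedChamber b := hb hξ₀
  have hFeq : F = Facet.ofVec P ξ₀ := Facet.eq_ofVec F hξ₀
  have hsolid := (mem_solid_iff hd y₀).mp hy₀
  -- pairing of ξ₀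
  have h1 : P.toLinearMap ξ₀ y₀ ≤ P.toLinearMap ξ₀ (d b) := by
    have h := B_sub_nonneg_of_min B hBs hBp hy₀ hmin
      (subset_convexHull R _ (Set.mem_range_self b) : d b ∈ solid d)
    rw [map_sub] at h
    rw [hξ₀def, toLinearMap_repVec, toLinearMap_repVec]
    linarith
  -- each corner pairs equally
  have hcorner : ∀ i : b.support, 0 < P.coroot' i ξ₀ →
      P.toLinearMap (fundWeight b i) y₀ = P.toLinearMap (fundWeight b i) (d b) := by
    have hsum : ∑ i ∈ (Finset.univ.filter fun i : b.support => 0 < P.coroot' i ξ₀),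
        P.coroot' i ξ₀ * (P.toLinearMap (fundWeight b i) y₀ -
          P.toLinearMap (fundWeight b i) (d b)) ≤ 0 := by
      have e1 : P.toLinearMap ξ₀ y₀ - P.toLinearMap ξ₀ (d b) =
          ∑ i ∈ (Finset.univ.filter fun i : b.support => 0 < P.coroot' i ξ₀),
            P.coroot' i ξ₀ * (P.toLinearMap (fundWeight b i) y₀ -
              P.toLinearMap (fundWeight b i) (d b)) := by
        conv_lhs => rw [eq_sum_corners b ξ₀ hξ₀b]
        rw [map_sum, LinearMap.sum_apply, LinearMap.sum_apply, ← Finset.sum_sub_distrib]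
        apply Finset.sum_congr rfl
        intro i _
        rw [map_smul, LinearMap.smul_apply, LinearMap.smul_apply, smul_eq_mul, smul_eq_mul,
          mul_sub]
      rw [← e1]
      linarith
    have hnn : ∀ i ∈ (Finset.univ.filter fun i : b.support => 0 < P.coroot' i ξ₀),
        0 ≤ P.coroot' i ξ₀ * (P.toLinearMap (fundWeight b i) y₀ -
          P.toLinearMap (fundWeight b i) (d b)) := by
      intro i hi
      apply mul_nonneg (Finset.mem_filter.mp hi).2.le
      have := hsolid b (fundWeight b i) ((mem_baseCorners_iff b _).mpr ⟨i, rfl⟩)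
      linarith
    have hzero := (Finset.sum_eq_zero_iff_of_nonneg hnn).mp
      (le_antisymm hsum (Finset.sum_nonneg hnn))
    intro i hi
    have := hzero i (Finset.mem_filter.mpr ⟨Finset.mem_univ _, hi⟩)
    rcases mul_eq_zero.mp this with h | h
    · exact absurd h hi.ne'
    · exact sub_eq_zero.mp h
  have hmemSolid : y₀ ∈ dualSolid d F := by
    apply Facet.iInter_subset_dualSolid d F
    refine ⟨?_, ?_⟩
    · apply Set.mem_iInter₂.mpr
      intro m hm b' hb'
      have hmb : m ∈ baseCorners b := Facet.corners_subset_baseCorners F hb hm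
      rw [hd.corner_eq b' b m hb' hmb]
      rw [hFeq, corners_ofVec b hξ₀b] at hm
      obtain ⟨i, hi, rfl⟩ := hm
      exact hcorner i hi
    · apply Set.mem_iInter₂.mpr
      intro m _ b' hb'
      exact hsolid b' m hb'
  exact ⟨⟨y₀, hF, hmemSolid⟩, (yLocus_eq_singleton hd F hF hmemSolid).1⟩

end Metric

end Groth.Agent.Lib.R2H7.RootCh
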