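import Mathlib
import Groth.Agent.Lib.R2H7RootCh2Metric
import Groth.Agent.Lib.R2H7ClosestPoint

/-!
# Existence and uniqueness of the special facet (helper7, round 2)
-/

set_option autoImplicit false
open Module
namespace Groth.Agent.Lib.R2H7.RootCh
open _root_.RootCh
universe u v w x
variable {ι : Type u} {R : Type v} {M : Type w} {N : Type x}

section Exist

variable [Field R] [LinearOrder R] [IsStrictOrderedRing R]
variable [AddCommGroup M] [Module R M] [AddCommGroup N] [Module R N] [Finite ι]
variable {P : RootPairing ι R M N} [P.IsRootSystem] [P.IsCrystallographic] [P.IsReduced]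

/-- A special facet exists: the facet of the point of the solid closest to the origin for the
canonical invariant form on `N`. -/
theorem exists_isSpecial {d : P.Base → N} (hd : IsCCS d) : ∃ F : Facet P, IsSpecial d F := by
  classical
  have := Fintype.ofFinite ι
  have hBs : ∀ y z : N, P.CorootForm y z = P.CorootForm z y := by
    intro y z
    rw [P.corootForm_apply_apply, P.corootForm_apply_apply]
    exact Finset.sum_congr rfl (fun i _ => mul_comm _ _)
  have hBp : ∀ y : N, y ≠ 0 → 0 < P.CorootForm y y := by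
    intro y hy
    have h1 : 0 ≤ P.CorootForm y y := P.flip.zero_le_rootForm y
    rcases h1.lt_or_eq with h | h
    · exact h
    · exact absurd (P.flip.rootForm_anisotropic y h.symm) hy
  have hBi : ∀ (i : ι) (y z : N),
      P.CorootForm (P.coreflection i y) (P.coreflection i z) = P.CorootForm y z :=
    fun i y z => P.flip.rootForm_reflection_reflection_apply i y z
  have hfin : (Set.range d).Finite := Set.toFinite _
  obtain ⟨b₀⟩ := P.nonempty_base
  have hne : hfin.toFinset.Nonempty := ⟨d b₀, hfin.mem_toFinset.mpr ⟨b₀, rfl⟩⟩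
  obtain ⟨y₀, hy₀, hmin⟩ := Closest.exists_min_on_convexHull P.CorootForm hBs hBp hfin.toFinset hne
  rw [Set.Finite.coe_toFinset] at hy₀ hmin
  refine ⟨Facet.ofVec P (repVec P P.CorootForm y₀), ?_⟩
  have hF : y₀ ∈ (Facet.ofVec P (repVec P P.CorootForm y₀)).dualCarrier :=
    (sgnVec_repVec P.CorootForm hBp hBi y₀).symm
  exact (isSpecial_of_min hd P.CorootForm hBs hBp hBi hy₀ hmin _ hF).1

theorem isSpecial_unique {d : P.Base → N} (hd : IsCCS d) {F F' : Facet P}
    (hF : IsSpecial d F) (hF' : IsSpecial d F') : F = F' := by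
  obtain ⟨b, hb⟩ := Facet.exists_mem_cham F
  obtain ⟨b', hb'⟩ := Facet.exists_mem_cham F'
  have h1 := isSpecial_max hd F hb hF
  have h2 := isSpecial_max hd F' hb' hF'
  have heq : F'.deg d b' = F.deg d b := le_antisymm (h1.1 F' b' hb') (h2.1 F b hb)
  exact le_antisymm (h2.2 F b hb heq.symm) (h1.2 F' b' hb' heq)

theorem existsUnique_isSpecial {d : P.Base → N} (hd : IsCCS d) :
    ∃! F : Facet P, IsSpecial d F := by
  obtain ⟨F, hF⟩ := exists_isSpecial hd
  exact ⟨F, hF, fun F' hF' => isSpecial_unique hd hF' hF⟩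

/-- A facet of maximal degree, maximal among those, is special. -/
theorem isSpecial_of_max {d : P.Base → N} (hd : IsCCS d) (F : Facet P) {b : P.Base}
    (hb : b ∈ F.cham)
    (hmax : ∀ (G : Facet P) (c : P.Base), c ∈ G.cham → G.deg d c ≤ F.deg d b)
    (hmaxl : ∀ (G : Facet P) (c : P.Base), c ∈ G.cham → G.deg d c = F.deg d b → F ≤ G → G = F) :
    IsSpecial d F := by
  obtain ⟨F₀, hF₀⟩ := exists_isSpecial hd
  obtain ⟨b₀, hb₀⟩ := Facet.exists_mem_cham F₀
  have h1 := isSpecial_max hd F₀ hb₀ hF₀
  have heq : F₀.deg d b₀ = F.deg d b := le_antisymm (hmax F₀ b₀ hb₀) (h1.1 F b hb)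
  have hle : F ≤ F₀ := h1.2 F b hb heq.symm
  have := hmaxl F₀ b₀ hb₀ heq hle
  rw [← this]
  exact hF₀

end Exist

end Groth.Agent.Lib.R2H7.RootCh
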