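import Mathlib

/-!
# R2H7SSLin: linear algebra of a finite free algebra embedded in a product of copies of its
fraction field by finitely many characters

`A` a finite free algebra over a domain `R` with fraction field `K`, `χ : J → (A →ₐ[R] K)` a finite
family of characters which is jointly injective (`hinj`) and without repetition (`hdist`), `b` a
basis of `A`.

`L` (the `K`-linear map `(ι → K) → (J → K)` with matrix `χ m (b i)`), `L_injective`,
`L_surjective` (Dedekind), `card_eq`, `exists_preimage` (every vector of `J → K` is, up to a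
nonzero denominator, the image of an element of `A`), `tensor_injective` (joint injectivity of the
`χ m ⊗ χ n` on `A ⊗ A`).
-/

set_option autoImplicit false

namespace Groth.Agent.Lib.R2H7.SSLin

open scoped TensorProduct

universe u

section Lin

variable {R : Type u} [CommRing R] [IsDomain R]
  {K : Type u} [Field K] [Algebra R K] [IsFractionRing R K]
  {A : Type u} [CommRing A] [Algebra R A]
  {J : Type} [Fintype J]
  (χ : J → (A →ₐ[R] K))
  {ι : Type u} [Fintype ι] (b : Module.Basis ι R A)

/-- the `K`-linear map with matrix `χ m (b i)` -/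
noncomputable def L : (ι → K) →ₗ[K] (J → K) where
  toFun c := fun m => ∑ i, c i * χ m (b i)
  map_add' c d := by
    funext m
    simp only [Pi.add_apply, add_mul, Finset.sum_add_distrib]
  map_smul' k c := by
    funext m
    simp only [Pi.smul_apply, smul_eq_mul, RingHom.id_apply, Finset.mul_sum, mul_assoc]

theorem L_apply (c : ι → K) (m : J) : L χ b c m = ∑ i, c i * χ m (b i) := rfl

theorem chi_sum (r : ι → R) (m : J) :
    χ m (∑ i, r i • b i) = ∑ i, algebraMap R K (r i) * χ m (b i) := by
  rw [map_sum]
  refine Finset.sum_congr rfl fun i _ => ?_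
  rw [map_smul, Algebra.smul_def]

omit [IsDomain R] in
theorem exists_clear (c : ι → K) :
    ∃ (s : R) (r : ι → R), s ∈ nonZeroDivisors R ∧
      ∀ i, algebraMap R K (r i) = algebraMap R K s * c i := by
  classical
  obtain ⟨s, hs⟩ := IsLocalization.exist_integer_multiples (nonZeroDivisors R)
    (Finset.univ : Finset ι) c
  have h2 : ∀ i, ∃ r : R, algebraMap R K r = (s : R) • c i := fun i =>
    RingHom.mem_rangeS.mp (hs i (Finset.mem_univ i))
  choose r hr using h2
  refine ⟨s, r, s.2, fun i => ?_⟩
  rw [hr i, Algebra.smul_def]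

theorem algebraMap_ne_zero {s : R} (hs : s ≠ 0) : algebraMap R K s ≠ 0 := by
  rw [Ne, map_eq_zero_iff _ (IsFractionRing.injective R K)]
  exact hs

include b in
theorem L_injective (hinj : ∀ a : A, (∀ m, χ m a = 0) → a = 0) :
    Function.Injective (L χ b) := by
  rw [injective_iff_map_eq_zero]
  intro c hc
  obtain ⟨s, r, hs, hr⟩ := exists_clear (R := R) c
  have hs0 : s ≠ 0 := nonZeroDivisors.ne_zero hs
  have h0 : (∑ i, r i • b i) = 0 := by
    apply hinj
    intro m
    rw [chi_sum]
    have : ∑ i, algebraMap R K (r i) * χ m (b i) = algebraMap R K s * L χ b c m := by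
      rw [L_apply, Finset.mul_sum]
      refine Finset.sum_congr rfl fun i _ => ?_
      rw [hr i, mul_assoc]
    rw [this, hc, Pi.zero_apply, mul_zero]
  have hr0 : ∀ i, r i = 0 := fun i =>
    Fintype.linearIndependent_iff.mp b.linearIndependent r h0 i
  funext i
  have := hr i
  rw [hr0 i, map_zero] at this
  exact (mul_eq_zero.mp this.symm).resolve_left (algebraMap_ne_zero hs0)

include b in
theorem L_surjective (hdist : Function.Injective χ) : Function.Surjective (L χ b) := by
  classical
  rw [← LinearMap.range_eq_top]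
  by_contra hne
  obtain ⟨φ, hφ0, hφ⟩ := (LinearMap.range (L χ b)).exists_le_ker_of_lt_top
    (lt_top_iff_ne_top.mpr hne)
  set w : J → K := fun m => φ (Pi.single m 1) with hw
  have hφf : ∀ f : J → K, φ f = ∑ m, f m * w m := by
    intro f
    conv_lhs => rw [← Finset.univ_sum_single f]
    rw [map_sum]
    refine Finset.sum_congr rfl fun m _ => ?_
    have : (Pi.single m (f m) : J → K) = f m • Pi.single m 1 := by
      rw [← Pi.single_smul, smul_eq_mul, mul_one]
    rw [this, map_smul, smul_eq_mul]
  have h1 : ∀ i, ∑ m, w m * χ m (b i) = 0 := by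
    intro i
    have hmem := hφ (LinearMap.mem_range_self (L χ b) (Pi.single i 1))
    rw [LinearMap.mem_ker, hφf] at hmem
    rw [← hmem]
    refine Finset.sum_congr rfl fun m _ => ?_
    rw [L_apply, Finset.sum_eq_single i]
    · rw [Pi.single_eq_same, one_mul, mul_comm]
    · intro j _ hj
      rw [Pi.single_eq_of_ne hj, zero_mul]
    · intro h; exact absurd (Finset.mem_univ i) h
  have h2 : ∀ a : A, ∑ m, w m * χ m a = 0 := by
    intro a
    rw [← b.sum_repr a]
    have : ∀ m, w m * χ m (∑ i, b.repr a i • b i) =
        ∑ i, algebraMap R K (b.repr a i) * (w m * χ m (b i)) := by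
      intro m
      rw [chi_sum, Finset.mul_sum]
      refine Finset.sum_congr rfl fun i _ => ?_
      ring
    simp_rw [this]
    rw [Finset.sum_comm]
    refine Finset.sum_eq_zero fun i _ => ?_
    rw [← Finset.mul_sum, h1 i, mul_zero]
  have hli : LinearIndependent K (fun m : J => (((χ m : A →ₐ[R] K) : A →* K) : A → K)) :=
    (linearIndependent_monoidHom A K).comp (fun m => ((χ m : A →ₐ[R] K) : A →* K)) (by
      intro m n hmn
      apply hdist
      ext a
      exact congrArg (fun f : A →* K => f a) hmn)
  have h3 : ∑ m, w m • (((χ m : A →ₐ[R] K) : A →* K) : A → K) = 0 := by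
    funext a
    simp only [Finset.sum_apply, Pi.smul_apply, smul_eq_mul, Pi.zero_apply]
    exact h2 a
  have hw0 := Fintype.linearIndependent_iff.mp hli w h3
  apply hφ0
  apply LinearMap.ext
  intro f
  rw [hφf, LinearMap.zero_apply]
  refine Finset.sum_eq_zero fun m _ => ?_
  rw [hw0 m, mul_zero]

include b in
theorem card_eq (hinj : ∀ a : A, (∀ m, χ m a = 0) → a = 0) (hdist : Function.Injective χ) :
    Fintype.card ι = Fintype.card J := by
  have e : (ι → K) ≃ₗ[K] (J → K) :=
    LinearEquiv.ofBijective (L χ b) ⟨L_injective χ b hinj, L_surjective χ b hdist⟩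
  have := e.finrank_eq
  rwa [Module.finrank_fintype_fun_eq_card, Module.finrank_fintype_fun_eq_card] at this

include b in
theorem exists_preimage (hdist : Function.Injective χ) (f : J → K) :
    ∃ (a : A) (s : R), s ≠ 0 ∧ ∀ m, χ m a = algebraMap R K s * f m := by
  obtain ⟨c, hc⟩ := L_surjective χ b hdist f
  obtain ⟨s, r, hs, hr⟩ := exists_clear (R := R) c
  refine ⟨∑ i, r i • b i, s, nonZeroDivisors.ne_zero hs, fun m => ?_⟩
  rw [chi_sum, ← hc, L_apply, Finset.mul_sum]
  refine Finset.sum_congr rfl fun i _ => ?_
  rw [hr i, mul_assoc]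

include b in
theorem tensor_injective (hinj : ∀ a : A, (∀ m, χ m a = 0) → a = 0) (z : A ⊗[R] A)
    (hz : ∀ m n, Algebra.TensorProduct.lift (χ m) (χ n) (fun _ _ => Commute.all _ _) z = 0) :
    z = 0 := by
  classical
  set B := b.tensorProduct b with hB
  set c := B.repr z with hc
  have hzc : z = ∑ ij : ι × ι, c ij • (b ij.1 ⊗ₜ[R] b ij.2) := by
    conv_lhs => rw [← B.sum_repr z]
    refine Finset.sum_congr rfl fun ij _ => ?_
    rw [hB, Module.Basis.tensorProduct_apply]
  have hT : ∀ m n, ∑ i, ∑ j, algebraMap R K (c (i, j)) * χ m (b i) * χ n (b j) = 0 := by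
    intro m n
    have := hz m n
    rw [hzc, map_sum] at this
    rw [← this, Fintype.sum_prod_type]
    refine Finset.sum_congr rfl fun i _ => Finset.sum_congr rfl fun j _ => ?_
    rw [map_smul, Algebra.TensorProduct.lift_tmul, Algebra.smul_def, mul_assoc]
  -- first step
  have hd : ∀ n i, ∑ j, algebraMap R K (c (i, j)) * χ n (b j) = 0 := by
    intro n
    have hL : L χ b (fun i => ∑ j, algebraMap R K (c (i, j)) * χ n (b j)) = 0 := by
      funext m
      rw [L_apply, Pi.zero_apply, ← hT m n]
      refine Finset.sum_congr rfl fun i _ => ?_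
      rw [Finset.sum_mul]
      refine Finset.sum_congr rfl fun j _ => ?_
      ring
    have := L_injective χ b hinj (hL.trans (map_zero _).symm)
    intro i
    exact congrFun this i
  have hc0 : ∀ i j, c (i, j) = 0 := by
    intro i
    have hL : L χ b (fun j => algebraMap R K (c (i, j))) = 0 := by
      funext n
      rw [L_apply, Pi.zero_apply]
      exact hd n i
    have := L_injective χ b hinj (hL.trans (map_zero _).symm)
    intro j
    have h2 := congrFun this j
    exact (map_eq_zero_iff _ (IsFractionRing.injective R K)).mp h2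
  rw [hzc]
  refine Finset.sum_eq_zero fun ij _ => ?_
  rw [show c ij = 0 from hc0 ij.1 ij.2, zero_smul]

end Lin

end Groth.Agent.Lib.R2H7.SSLin
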