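import Mathlib

/-!
# R2H7SSFibre: degree of minimal polynomials of group-like and primitive elements of a commutative
bialgebra over a field of characteristic `p`

`natDegree_minpoly_ge_of_groupLike` : a group-like `g ≠ 1` with `g ^ p = 1` (`p` prime) has
minimal polynomial of degree at least `p`; `natDegree_minpoly_sub_one_ge_of_groupLike` the same
for `g - 1`; `natDegree_minpoly_ge_of_primitive` : in characteristic `p`, a nonzero primitive
element killed by the counit has minimal polynomial of degree at least `p`.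
`Dg`, `Dg_pow` (the operator `(id ⊗ g) ∘ Δ` and its values on powers of a primitive element).
-/

set_option autoImplicit false

namespace Groth.Agent.Lib.R2H7.SSFibre

open scoped TensorProduct
open Polynomial

universe u v

section GrpLike

variable {k : Type u} [Field k] {H : Type v} [CommRing H] [Bialgebra k H]

theorem natDegree_minpoly_ge_of_groupLike (p : ℕ) [hp : Fact p.Prime] (g : H)
    (hg : IsGroupLikeElem k g) (hgp : g ^ p = 1) (hg1 : g ≠ 1) (hint : IsIntegral k g) :
    p ≤ (minpoly k g).natDegree := by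
  by_contra hlt
  push_neg at hlt
  have hord : orderOf g = p := orderOf_eq_prime hgp hg1
  let e : Fin p → GroupLike k H := fun i => ⟨g ^ (i : ℕ), hg.pow⟩
  have he : Function.Injective e := by
    intro i j hij
    have h1 : g ^ (i : ℕ) = g ^ (j : ℕ) := congrArg GroupLike.val hij
    apply Fin.ext
    apply pow_injOn_Iio_orderOf (x := g)
    · rw [hord]; exact i.2
    · rw [hord]; exact j.2
    · exact h1
  have hli : LinearIndependent k (fun i : Fin p => g ^ (i : ℕ)) :=
    (linearIndep_groupLikeVal (R := k) (A := H)).comp e he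
  have h0 : aeval g (minpoly k g) = 0 := minpoly.aeval k g
  rw [aeval_eq_sum_range' hlt, Finset.sum_range] at h0
  have hc := Fintype.linearIndependent_iff.mp hli (fun i => (minpoly k g).coeff i) h0
    ⟨(minpoly k g).natDegree, hlt⟩
  have hmonic : (minpoly k g).Monic := minpoly.monic hint
  rw [Fin.val_mk, coeff_natDegree, hmonic.leadingCoeff] at hc
  exact one_ne_zero hc

theorem natDegree_minpoly_sub_one_ge_of_groupLike (p : ℕ) [hp : Fact p.Prime] (g : H)
    (hg : IsGroupLikeElem k g) (hgp : g ^ p = 1) (hg1 : g ≠ 1) (hint : IsIntegral k g) :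
    p ≤ (minpoly k (g - 1)).natDegree := by
  have h1 : g - 1 = g - algebraMap k H 1 := by rw [map_one]
  rw [h1, minpoly.sub_algebraMap g 1, natDegree_comp, natDegree_X_add_C, mul_one]
  exact natDegree_minpoly_ge_of_groupLike p g hg hgp hg1 hint

end GrpLike

section Prim

variable {k : Type u} [Field k] {H : Type v} [CommRing H] [Bialgebra k H]

/-- the operator `(id ⊗ g) ∘ Δ` -/
noncomputable def Dg (g : H →ₗ[k] k) : H →ₗ[k] H :=
  (TensorProduct.rid k H).toLinearMap ∘ₗ (LinearMap.lTensor H g) ∘ₗ (Coalgebra.comul (R := k))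

theorem Dg_pow (g : H →ₗ[k] k) (x : H)
    (hx : Coalgebra.comul (R := k) x = x ⊗ₜ[k] 1 + 1 ⊗ₜ[k] x) (i : ℕ) :
    Dg g (x ^ i) =
      ∑ j ∈ Finset.range (i + 1), ((i.choose j : k) * g (x ^ (i - j))) • x ^ j := by
  have h1 : Coalgebra.comul (R := k) (x ^ i) = (x ⊗ₜ[k] 1 + 1 ⊗ₜ[k] x) ^ i := by
    rw [← hx]; exact Bialgebra.comul_pow x i
  rw [Dg, LinearMap.comp_apply, LinearMap.comp_apply, h1,
    (Commute.all (x ⊗ₜ[k] (1 : H)) ((1 : H) ⊗ₜ[k] x)).add_pow i]
  simp only [map_sum]
  refine Finset.sum_congr rfl fun j _ => ?_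
  rw [Algebra.TensorProduct.tmul_pow, Algebra.TensorProduct.tmul_pow, one_pow, one_pow,
    Algebra.TensorProduct.tmul_mul_tmul, mul_one, one_mul, ← nsmul_eq_mul', map_nsmul,
    LinearMap.lTensor_tmul, LinearEquiv.coe_coe, map_nsmul, TensorProduct.rid_tmul,
    ← Nat.cast_smul_eq_nsmul k, smul_smul]

theorem natDegree_minpoly_ge_of_primitive (p : ℕ) [hp : Fact p.Prime] [CharP k p] (x : H)
    (hx : Coalgebra.comul (R := k) x = x ⊗ₜ[k] 1 + 1 ⊗ₜ[k] x)
    (hε : Coalgebra.counit (R := k) x = 0) (hx0 : x ≠ 0) (hint : IsIntegral k x) :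
    p ≤ (minpoly k x).natDegree := by
  by_contra hlt
  push_neg at hlt
  obtain ⟨μ, hμ⟩ : ∃ μ, μ = minpoly k x := ⟨_, rfl⟩
  obtain ⟨d, hd⟩ : ∃ d, d = μ.natDegree := ⟨_, rfl⟩
  rw [← hμ, ← hd] at hlt
  have hmonic : μ.Monic := hμ ▸ minpoly.monic hint
  have hμ0 : aeval x μ = 0 := hμ ▸ minpoly.aeval k x
  have hmin : ∀ r : k[X], r ≠ 0 → aeval x r = 0 → d ≤ r.natDegree := by
    intro r hr hr0
    rw [hd, hμ]
    exact natDegree_le_natDegree (minpoly.degree_le_of_ne_zero k x hr hr0)
  haveI : Nontrivial H := ⟨⟨x, 0, hx0⟩⟩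
  have hd1 : 1 ≤ d := by
    rw [hd, hμ]; exact minpoly.natDegree_pos hint
  rcases Nat.eq_or_lt_of_le hd1 with hd1' | hd2
  · have h1 : μ = X + C (μ.coeff 0) := hmonic.eq_X_add_C (by rw [← hd, ← hd1'])
    rw [h1] at hμ0
    simp only [map_add, aeval_X, aeval_C] at hμ0
    have h2 := congrArg (Coalgebra.counit (R := k)) hμ0
    rw [map_add, hε, zero_add, map_zero, Bialgebra.counit_algebraMap] at h2
    rw [h2, map_zero, add_zero] at hμ0
    exact hx0 hμ0
  · have hli : LinearIndependent k (fun i : Fin d => x ^ (i : ℕ)) := by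
      have := linearIndependent_pow (K := k) x
      rw [← hμ, ← hd] at this
      exact this
    obtain ⟨g, hg⟩ : ∃ g : H →ₗ[k] k,
        ∀ i : Fin d, g (x ^ (i : ℕ)) = if (i : ℕ) = 1 then 1 else 0 := by
      let Bs := Module.Basis.span hli
      let f0 : Submodule.span k (Set.range fun i : Fin d => x ^ (i : ℕ)) →ₗ[k] k :=
        Bs.constr k (fun i => if (i : ℕ) = 1 then 1 else 0)
      obtain ⟨g, hg⟩ := LinearMap.exists_extend f0
      refine ⟨g, fun i => ?_⟩
      have e1 : g (x ^ (i : ℕ)) = f0 ⟨x ^ (i : ℕ), Submodule.subset_span ⟨i, rfl⟩⟩ := by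
        rw [← hg]; rfl
      rw [e1]
      have e2 : (⟨x ^ (i : ℕ), Submodule.subset_span ⟨i, rfl⟩⟩ :
          Submodule.span k (Set.range fun i : Fin d => x ^ (i : ℕ))) = Bs i := by
        exact (Module.Basis.span_apply hli i).symm
      rw [e2, Module.Basis.constr_basis]
    have hgn : ∀ n, n < d → g (x ^ n) = if n = 1 then 1 else 0 := fun n hn => hg ⟨n, hn⟩
    have hD1 : ∀ i, i < d → Dg g (x ^ i) = (i : k) • x ^ (i - 1) := by
      intro i hi
      rw [Dg_pow g x hx]
      rcases Nat.eq_zero_or_pos i with rfl | hipos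
      · rw [Finset.sum_range_one, hgn 0 (by omega), if_neg (by omega), mul_zero, zero_smul,
          Nat.cast_zero, zero_smul]
      · obtain ⟨i', rfl⟩ : ∃ i', i = i' + 1 := ⟨i - 1, by omega⟩
        rw [Finset.sum_eq_single i']
        · rw [show i' + 1 - i' = 1 by omega, hgn 1 (by omega), if_pos rfl, mul_one,
            Nat.choose_succ_self_right, Nat.add_sub_cancel]
        · intro j hj hj'
          have hjle : j ≤ i' + 1 := Nat.lt_succ_iff.mp (Finset.mem_range.mp hj)
          rw [hgn (i' + 1 - j) (by omega), if_neg (by omega), mul_zero, zero_smul]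
        · intro h; exact absurd (Finset.mem_range.mpr (by omega)) h
    have hDd : Dg g (x ^ d) = g (x ^ d) • 1 + (d : k) • x ^ (d - 1) := by
      rw [Dg_pow g x hx]
      obtain ⟨d', rfl⟩ : ∃ d', d = d' + 1 := ⟨d - 1, by omega⟩
      rw [Finset.sum_eq_add 0 d' (by omega)]
      · rw [Nat.choose_zero_right, Nat.cast_one, one_mul, pow_zero, Nat.sub_zero,
          show d' + 1 - d' = 1 by omega, hgn 1 (by omega), if_pos rfl, mul_one,
          Nat.choose_succ_self_right, Nat.add_sub_cancel]
      · intro j hj hj'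
        have hjle : j ≤ d' + 1 := Nat.lt_succ_iff.mp (Finset.mem_range.mp hj)
        rw [hgn (d' + 1 - j) (by omega), if_neg (by omega), mul_zero, zero_smul]
      · intro h; exact absurd (Finset.mem_range.mpr (by omega)) h
      · intro h; exact absurd (Finset.mem_range.mpr (by omega)) h
    -- the polynomial r
    set r : k[X] := derivative μ + C (g (x ^ d)) with hr
    have hder : aeval x (derivative μ) =
        ∑ i ∈ Finset.range (d + 1), (μ.coeff i * (i : k)) • x ^ (i - 1) := by
      rw [derivative_apply, sum_over_range, map_sum, ← hd]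
      · refine Finset.sum_congr rfl fun i _ => ?_
        rw [map_mul, aeval_C, map_pow, aeval_X, Algebra.smul_def]
      · intro n; rw [zero_mul, map_zero, zero_mul]
    have hr0 : aeval x r = 0 := by
      have h1 : Dg g (aeval x μ) = 0 := by rw [hμ0, map_zero]
      rw [aeval_eq_sum_range, map_sum, ← hd, Finset.sum_range_succ] at h1
      rw [hr, map_add, aeval_C, hder, Finset.sum_range_succ, ← h1]
      have hμd : μ.coeff d = 1 := by rw [hd]; exact hmonic.coeff_natDegree
      rw [map_smul, hDd, hμd, one_smul, one_mul, Algebra.algebraMap_eq_smul_one]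
      have : ∑ i ∈ Finset.range d, (μ.coeff i * (i : k)) • x ^ (i - 1) =
          ∑ i ∈ Finset.range d, Dg g (μ.coeff i • x ^ i) := by
        refine Finset.sum_congr rfl fun i hi => ?_
        rw [map_smul, hD1 i (Finset.mem_range.mp hi), smul_smul]
      rw [this]
      abel
    have hdk : (d : k) ≠ 0 := by
      intro h
      have := (CharP.cast_eq_zero_iff k p d).mp h
      exact absurd (Nat.le_of_dvd (by omega) this) (by omega)
    have hrne : r ≠ 0 := by
      intro h
      have h2 := congrArg (fun q : k[X] => q.coeff (d - 1)) h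
      simp only [hr, coeff_add, coeff_derivative, coeff_C, coeff_zero] at h2
      rw [if_neg (by omega), add_zero, show d - 1 + 1 = d by omega] at h2
      have hμd : μ.coeff d = 1 := by rw [hd]; exact hmonic.coeff_natDegree
      rw [hμd, one_mul] at h2
      have : ((d - 1 : ℕ) : k) + 1 = (d : k) := by
        rw [← Nat.cast_one (R := k), ← Nat.cast_add, show d - 1 + 1 = d by omega]
      rw [this] at h2
      exact hdk h2
    have hrdeg : r.natDegree < d := by
      have h1 : (derivative μ).natDegree < d := by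
        rw [hd]; exact natDegree_derivative_lt (by rw [← hd]; omega)
      calc r.natDegree ≤ max (derivative μ).natDegree (C (g (x ^ d))).natDegree :=
            natDegree_add_le _ _
        _ < d := by
            rw [natDegree_C]
            exact max_lt h1 (by omega)
    exact absurd (hmin r hrne hr0) (by omega)

end Prim

end Groth.Agent.Lib.R2H7.SSFibre
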