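import Mathlib
import Groth.Prelude.Def_SekSuwa2
import Groth.Agent.Lib.R2H7SSFibre

/-!
# R2H7SSPrep: preparations for the classification of models of `ℤ/p` over a discrete valuation ring

`exists_pow_smul_not_mem` (over a DVR, a nonzero vector of a finite module is `π ^ n • x` with
`x ∉ 𝔪 M`), `divCond_of_roots` (the divisibility condition `SekSuwa.DivCond lam p` from integrality of
the `(ζ ^ i - 1) / lam`), `isGroupLikeElem_one_tmul`, `comul_one_tmul_of_primitive`,
`counit_one_tmul` (base change of group-like / primitive elements to a residue field),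
`linearCombination_bijective_of_natDegree_minpoly` (powers of `x` form a basis as soon as the
reduction of `x` has minimal polynomial of degree at least the rank).
-/

set_option autoImplicit false

namespace Groth.Agent.Lib.R2H7.SSPrep

open scoped TensorProduct
open Polynomial

universe u

section DVR

variable {R : Type u} [CommRing R] [IsDomain R] [IsDiscreteValuationRing R]
  {A : Type u} [AddCommGroup A] [Module R A] [Module.Finite R A]

theorem exists_pow_smul_not_mem (π : R) (hπ : Irreducible π) (v : A) (hv : v ≠ 0) :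
    ∃ (n : ℕ) (x : A), v = π ^ n • x ∧
      x ∉ (IsLocalRing.maximalIdeal R) • (⊤ : Submodule R A) := by
  classical
  have hm : IsLocalRing.maximalIdeal R = Ideal.span {π} := hπ.maximalIdeal_eq
  have hK := Ideal.iInf_pow_smul_eq_bot_of_isLocalRing (R := R) (M := A)
    (IsLocalRing.maximalIdeal R) (Ideal.IsPrime.ne_top inferInstance)
  have hex : ∃ N, v ∉ (IsLocalRing.maximalIdeal R) ^ N • (⊤ : Submodule R A) := by
    by_contra hcon
    push_neg at hcon
    apply hv
    have : v ∈ (⨅ i : ℕ, (IsLocalRing.maximalIdeal R) ^ i • ⊤ : Submodule R A) :=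
      (Submodule.mem_iInf _).mpr hcon
    rw [hK] at this
    exact (Submodule.mem_bot R).mp this
  obtain ⟨N₀, hN₀, hmin⟩ : ∃ N₀, v ∉ (IsLocalRing.maximalIdeal R) ^ N₀ • (⊤ : Submodule R A) ∧
      ∀ m < N₀, v ∈ (IsLocalRing.maximalIdeal R) ^ m • (⊤ : Submodule R A) :=
    ⟨Nat.find hex, Nat.find_spec hex, fun m hm => by_contra fun h => Nat.find_min hex hm h⟩
  have hN₀pos : N₀ ≠ 0 := by
    intro h0
    apply hN₀
    rw [h0, pow_zero, Ideal.one_eq_top, Submodule.top_smul]
    exact Submodule.mem_top
  have hmem := hmin (N₀ - 1) (by omega)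
  rw [hm, Ideal.span_singleton_pow, Submodule.ideal_span_singleton_smul] at hmem
  obtain ⟨x, -, hx⟩ := (Submodule.mem_smul_pointwise_iff_exists _ _ _).mp hmem
  refine ⟨N₀ - 1, x, hx.symm, fun hxm => ?_⟩
  apply hN₀
  have hN : N₀ = (N₀ - 1) + 1 := by omega
  rw [hN, pow_succ, Submodule.mul_smul, ← hx]
  refine Submodule.smul_mem_smul (Ideal.pow_mem_pow ?_ _) hxm
  rw [hm]
  exact Ideal.mem_span_singleton_self π

end DVR

section Div

variable {R : Type u} [CommRing R] [IsDomain R]

theorem divCond_of_roots (p : ℕ) (hp : 0 < p) (ζ : R) (hζ : IsPrimitiveRoot ζ p)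
    (lam : R) (hlam : lam ≠ 0) (xr : ℕ → R) (hxr : ∀ i < p, lam * xr i = ζ ^ i - 1) :
    SekSuwa.DivCond lam p := by
  refine ⟨mem_nonZeroDivisors_of_ne_zero hlam, ∏ i ∈ Finset.range p, (X - C (xr i)), ?_⟩
  have h1 : (X ^ p - C (1 : R)) = ∏ i ∈ Finset.range p, (X - C (ζ ^ i * 1)) :=
    X_pow_sub_C_eq_prod hζ hp (one_pow p)
  have h2 := congrArg (fun q : R[X] => q.comp (1 + C lam * X)) h1
  simp only [sub_comp, pow_comp, X_comp, C_comp, prod_comp] at h2
  rw [map_one] at h2
  rw [h2, map_pow, ← Finset.card_range p, ← Finset.prod_const, Finset.card_range,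
    ← Finset.prod_mul_distrib]
  refine Finset.prod_congr rfl fun i hi => ?_
  rw [mul_sub, ← C_mul, hxr i (Finset.mem_range.mp hi), mul_one, C_sub, C_1]
  ring

end Div

section BC

variable {R : Type u} [CommRing R] {k : Type u} [Field k] [Algebra R k]
  {A : Type u} [CommRing A] [Bialgebra R A]

theorem isGroupLikeElem_one_tmul (u : A) (hΔ : Coalgebra.comul (R := R) u = u ⊗ₜ[R] u)
    (hε : Coalgebra.counit (R := R) u = 1) :
    IsGroupLikeElem k ((1 : k) ⊗ₜ[R] u) := by
  constructor
  · rw [TensorProduct.counit_tmul, hε, one_smul, CommSemiring.counit_apply]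
  · rw [TensorProduct.comul_tmul, hΔ, CommSemiring.comul_apply,
      TensorProduct.AlgebraTensorModule.tensorTensorTensorComm_tmul]

theorem counit_one_tmul (x : A) (hε : Coalgebra.counit (R := R) x = 0) :
    Coalgebra.counit (R := k) ((1 : k) ⊗ₜ[R] x) = 0 := by
  rw [TensorProduct.counit_tmul, hε, zero_smul]

theorem comul_one_tmul_of_primitive (x : A) (lam : R) (hlam : algebraMap R k lam = 0)
    (hΔ : Coalgebra.comul (R := R) x = x ⊗ₜ[R] 1 + 1 ⊗ₜ[R] x + lam • (x ⊗ₜ[R] x)) :
    Coalgebra.comul (R := k) ((1 : k) ⊗ₜ[R] x) =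
      ((1 : k) ⊗ₜ[R] x) ⊗ₜ[k] 1 + 1 ⊗ₜ[k] ((1 : k) ⊗ₜ[R] x) := by
  have h0 : (1 : k) ⊗ₜ[R] (lam • x) = 0 := by
    rw [← TensorProduct.smul_tmul, Algebra.smul_def, hlam, zero_mul, TensorProduct.zero_tmul]
  rw [TensorProduct.comul_tmul, hΔ, TensorProduct.smul_tmul', CommSemiring.comul_apply,
    TensorProduct.tmul_add, TensorProduct.tmul_add, map_add, map_add,
    TensorProduct.AlgebraTensorModule.tensorTensorTensorComm_tmul,
    TensorProduct.AlgebraTensorModule.tensorTensorTensorComm_tmul,
    TensorProduct.AlgebraTensorModule.tensorTensorTensorComm_tmul, h0, TensorProduct.zero_tmul,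
    add_zero, Algebra.TensorProduct.one_def]

end BC

section Transfer

variable {R : Type u} [CommRing R] [IsLocalRing R]
  {A : Type u} [CommRing A] [Algebra R A] [Module.Finite R A] [Module.Flat R A]

theorem linearCombination_bijective_of_natDegree_minpoly (p : ℕ)
    (hrank : Module.finrank R A = p) (x : A)
    (hdeg : p ≤ (minpoly (IsLocalRing.ResidueField R)
      ((1 : IsLocalRing.ResidueField R) ⊗ₜ[R] x)).natDegree) :
    Function.Bijective (Finsupp.linearCombination R (fun i : Fin p => x ^ (i : ℕ))) := by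
  haveI : Module.Free R A := Module.free_of_flat_of_isLocalRing
  set k := IsLocalRing.ResidueField R
  set xb : k ⊗[R] A := (1 : k) ⊗ₜ[R] x with hxb
  have hli0 := linearIndependent_pow (K := k) xb
  have hli : LinearIndependent k (fun i : Fin p => xb ^ (i : ℕ)) :=
    hli0.comp (Fin.castLE hdeg) (Fin.castLE_injective _)
  have hfr : Module.finrank k (k ⊗[R] A) = p := by
    rw [Module.finrank_baseChange, hrank]
  have hspan : Submodule.span k (Set.range fun i : Fin p => xb ^ (i : ℕ)) = ⊤ :=
    hli.span_eq_top_of_card_eq_finrank' (by rw [Fintype.card_fin, hfr])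
  have hbij : Function.Bijective
      (Finsupp.linearCombination k (fun i : Fin p => xb ^ (i : ℕ))) :=
    ⟨hli, by rw [← LinearMap.range_eq_top, Finsupp.range_linearCombination]; exact hspan⟩
  apply Module.IsLocalRing.linearCombination_bijective_of_flat
  have : (TensorProduct.mk R k A 1 ∘ fun i : Fin p => x ^ (i : ℕ)) =
      fun i : Fin p => xb ^ (i : ℕ) := by
    funext i
    simp only [Function.comp_apply, TensorProduct.mk_apply, hxb,
      Algebra.TensorProduct.tmul_pow, one_pow]
  rw [this]
  exact hbij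

end Transfer

end Groth.Agent.Lib.R2H7.SSPrep
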