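import Mathlib
import Groth.Agent.Lib.R2H7SSLin

/-!
# R2H7SSUnit: group-like elements of a finite free bialgebra over an integrally closed domain
with prescribed values under a multiplicative family of characters

Setting of `R2H7SSLin`, with `A` a bialgebra, `R` integrally closed, `J` with an addition such that
`χ (m + n) = χ m ⋆ χ n` (convolution), and `z : J → R` multiplicative.

`exists_unit` : there is `u : A` with `χ m u = z m` for all `m` (integrality argument through the
linear dual of `A`), `comul_eq_of_chi` (such a `u` satisfies `Δ u = u ⊗ u`),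
`counit_eq_one_of_comul` and `isGroupLikeElem_of_chi`.
-/

set_option autoImplicit false

namespace Groth.Agent.Lib.R2H7.SSUnit

open scoped TensorProduct
open Groth.Agent.Lib.R2H7.SSLin

universe u

section Unit

variable {R : Type u} [CommRing R] [IsDomain R]
  {K : Type u} [Field K] [Algebra R K] [IsFractionRing R K]
  {A : Type u} [CommRing A] [Bialgebra R A]
  {J : Type} [Fintype J] [Add J]
  (χ : J → (A →ₐ[R] K))
  {ι : Type u} [Fintype ι] (b : Module.Basis ι R A)

omit [IsDomain R] [Fintype J] [Add J] in
include b in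
theorem smul_eq_zero_of_basis {c : R} {a : A} [NoZeroDivisors R] (h : c • a = 0) (ha : a ≠ 0) :
    c = 0 := by
  obtain ⟨i, hi⟩ : ∃ i, b.repr a i ≠ 0 := by
    by_contra hcon
    push_neg at hcon
    apply ha
    rw [← b.sum_repr a]
    exact Finset.sum_eq_zero fun i _ => by rw [hcon i, zero_smul]
  have h2 := congrArg (fun y => b.repr y i) h
  simp only [map_smul, Finsupp.smul_apply, smul_eq_mul, map_zero, Finsupp.zero_apply] at h2
  exact (mul_eq_zero.mp h2).resolve_right hi

include b in
theorem comul_eq_of_chi (hinj : ∀ a : A, (∀ m, χ m a = 0) → a = 0)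
    (hmul : ∀ m n a, χ (m + n) a = Algebra.TensorProduct.lift (χ m) (χ n)
      (fun _ _ => Commute.all _ _) (Coalgebra.comul (R := R) a))
    (z : J → R) (hz : ∀ m n, z (m + n) = z m * z n)
    (u : A) (hu : ∀ m, χ m u = algebraMap R K (z m)) :
    Coalgebra.comul (R := R) u = u ⊗ₜ[R] u := by
  rw [← sub_eq_zero]
  apply tensor_injective χ b hinj
  intro m n
  rw [map_sub, ← hmul, Algebra.TensorProduct.lift_tmul, hu, hu, hu, hz, map_mul, sub_self]

include b in
theorem counit_eq_one_of_comul (u : A) (hu : Coalgebra.comul (R := R) u = u ⊗ₜ[R] u)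
    (hu0 : u ≠ 0) : Coalgebra.counit (R := R) u = 1 := by
  have h1 := Coalgebra.rTensor_counit_comul (R := R) u
  rw [hu, LinearMap.rTensor_tmul] at h1
  have h2 := congrArg (TensorProduct.lid R A) h1
  rw [TensorProduct.lid_tmul, TensorProduct.lid_tmul, one_smul] at h2
  have h3 : (Coalgebra.counit (R := R) u - 1) • u = 0 := by
    rw [sub_smul, one_smul, h2, sub_self]
  exact sub_eq_zero.mp (smul_eq_zero_of_basis b h3 hu0)

include b in
theorem exists_unit [IsIntegrallyClosed R]
    (hinj : ∀ a : A, (∀ m, χ m a = 0) → a = 0) (hdist : Function.Injective χ)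
    (hmul : ∀ m n a, χ (m + n) a = Algebra.TensorProduct.lift (χ m) (χ n)
      (fun _ _ => Commute.all _ _) (Coalgebra.comul (R := R) a))
    (z : J → R) (hz : ∀ m n, z (m + n) = z m * z n) (hz0 : ∃ m, z m ≠ 0) :
    ∃ u : A, ∀ m, χ m u = algebraMap R K (z m) := by
  classical
  obtain ⟨a₀, s, hs, ha₀⟩ := exists_preimage χ b hdist (fun m => algebraMap R K (z m))
  have hsK : algebraMap R K s ≠ 0 := algebraMap_ne_zero hs
  have hC3 : s • Coalgebra.comul (R := R) a₀ = a₀ ⊗ₜ[R] a₀ := by
    rw [← sub_eq_zero]
    apply tensor_injective χ b hinj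
    intro m n
    rw [map_sub, map_smul, ← hmul, Algebra.TensorProduct.lift_tmul, ha₀, ha₀, ha₀, hz, map_mul,
      Algebra.smul_def]
    ring
  obtain ⟨m₀, hm₀⟩ := hz0
  have ha₀ne : a₀ ≠ 0 := by
    intro h
    have := ha₀ m₀
    rw [h, map_zero] at this
    exact (mul_ne_zero hsK (algebraMap_ne_zero hm₀)) this.symm
  let ψ : Module.Dual R A →ₗ[R] K :=
    { toFun := fun f => (algebraMap R K s)⁻¹ * algebraMap R K (f a₀)
      map_add' := fun f g => by
        simp only [LinearMap.add_apply, map_add, mul_add]
      map_smul' := fun c f => by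
        simp only [LinearMap.smul_apply, smul_eq_mul, map_mul, RingHom.id_apply, Algebra.smul_def]
        ring }
  have hψ : ∀ f, ψ f = (algebraMap R K s)⁻¹ * algebraMap R K (f a₀) := fun _ => rfl
  let N : Submodule R K := LinearMap.range ψ
  haveI : Module.Finite R (Module.Dual R A) := Module.Finite.of_basis b.dualBasis
  have hNfg : N.FG := by
    have : (⊤ : Submodule R (Module.Dual R A)).FG := Module.Finite.fg_top
    have h2 := this.map ψ
    rwa [Submodule.map_top] at h2
  have hNne : N ≠ ⊥ := by
    obtain ⟨i, hi⟩ : ∃ i, b.repr a₀ i ≠ 0 := by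
      by_contra hcon
      push_neg at hcon
      apply ha₀ne
      rw [← b.sum_repr a₀]
      exact Finset.sum_eq_zero fun i _ => by rw [hcon i, zero_smul]
    intro hbot
    have hmem : ψ (b.coord i) ∈ N := LinearMap.mem_range_self _ _
    rw [hbot, Submodule.mem_bot, hψ, Module.Basis.coord_apply] at hmem
    exact (mul_ne_zero (inv_ne_zero hsK) (algebraMap_ne_zero hi)) hmem
  have hmulN : ∀ f g : Module.Dual R A, ψ f * ψ g ∈ N := by
    intro f g
    let h : Module.Dual R A :=
      (LinearMap.mul' R R) ∘ₗ (TensorProduct.map f g) ∘ₗ (Coalgebra.comul (R := R) (A := A))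
    refine ⟨h, ?_⟩
    have key : s * h a₀ = f a₀ * g a₀ := by
      have := congrArg ((LinearMap.mul' R R) ∘ₗ (TensorProduct.map f g)) hC3
      simp only [map_smul, LinearMap.comp_apply, TensorProduct.map_tmul, LinearMap.mul'_apply,
        smul_eq_mul] at this
      exact this
    rw [hψ, hψ, hψ]
    have key' : algebraMap R K s * algebraMap R K (h a₀) =
        algebraMap R K (f a₀) * algebraMap R K (g a₀) := by
      rw [← map_mul, key, map_mul]
    field_simp
    rw [← key']
  have hint : ∀ f : Module.Dual R A, IsIntegral R (ψ f) := by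
    intro f
    refine isIntegral_of_smul_mem_submodule N hNne hNfg (ψ f) ?_
    rintro n ⟨g, rfl⟩
    rw [smul_eq_mul]
    exact hmulN f g
  have hdiv : ∀ f : Module.Dual R A, ∃ r : R, f a₀ = s * r := by
    intro f
    obtain ⟨r, hr⟩ := IsIntegrallyClosed.algebraMap_eq_of_integral (hint f)
    refine ⟨r, ?_⟩
    apply IsFractionRing.injective R K
    rw [map_mul, hr, hψ]
    field_simp
  choose r hr using fun i => hdiv (b.coord i)
  refine ⟨∑ i, r i • b i, fun m => ?_⟩
  have h1 : a₀ = s • ∑ i, r i • b i := by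
    conv_lhs => rw [← b.sum_repr a₀]
    rw [Finset.smul_sum]
    refine Finset.sum_congr rfl fun i _ => ?_
    rw [smul_smul, ← hr i, Module.Basis.coord_apply]
  have h2 := ha₀ m
  rw [h1, map_smul, Algebra.smul_def] at h2
  exact mul_left_cancel₀ hsK h2

end Unit

end Groth.Agent.Lib.R2H7.SSUnit
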