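import Mathlib
import Groth.Prelude.Def_SekSuwa2
import Groth.Agent.Lib.R2H7SSLin
import Groth.Agent.Lib.R2H7SSUnit
import Groth.Agent.Lib.R2H7SSFibre
import Groth.Agent.Lib.R2H7SSPrep
import Groth.Agent.Lib.Helper24GKFree

/-!
# R2H7SSMain: models of `ℤ/p` over a discrete valuation ring containing `ζ_p` (Hopf algebra form)

`main` : let `R` be a discrete valuation ring with residue characteristic `p`, `ζ ∈ R` a primitive
`p`-th root of unity, `K` its fraction field, `B` a finite flat `R`-bialgebra and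
`χ : ℤ/p → Hom_{R-alg}(B, K)` an injective family of characters, jointly injective on `B`, with
`χ (m + n) = χ m ⋆ χ n`.  Then `B ≅ R[T]/(P_{λ,p}(T))` (`SekSuwa.AK R lam p h`) as bialgebras for
some `λ ≠ 0` satisfying `SekSuwa.DivCond lam p`.

Auxiliary: `phiAlg`, `phiHom` (the bialgebra map `AK R lam N h → B` attached to an element `x` with
`P(x) = 0`, `Δ x = x ⊗ 1 + 1 ⊗ x + λ x ⊗ x`), `smul_eq_zero_of_basis'`.
-/

set_option autoImplicit false

namespace Groth.Agent.Lib.R2H7.SSMain

open scoped TensorProduct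
open Polynomial SekSuwa
open Groth.Agent.Lib.R2H7.SSLin Groth.Agent.Lib.R2H7.SSUnit Groth.Agent.Lib.R2H7.SSFibre
  Groth.Agent.Lib.R2H7.SSPrep

universe u

theorem smul_eq_zero_of_basis' {R : Type*} [CommRing R] [NoZeroDivisors R] {M : Type*}
    [AddCommGroup M] [Module R M] {ι : Type*} (b : Module.Basis ι R M) {c : R} {a : M}
    (h : c • a = 0) (hc : c ≠ 0) : a = 0 := by
  apply b.repr.injective
  ext i
  have h2 := congrArg (fun y => b.repr y i) h
  simp only [map_smul, Finsupp.smul_apply, smul_eq_mul, map_zero, Finsupp.zero_apply] at h2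
  rw [map_zero, Finsupp.zero_apply]
  exact (mul_eq_zero.mp h2).resolve_left hc

section Build

variable {R : Type u} [CommRing R] {B : Type u} [CommRing B] [Bialgebra R B]
  (lam : R) (N : ℕ) (h : DivCond lam N) (x c : B)
  (hc : (1 + lam • x) * c = 1) (hP : Polynomial.aeval x (psiPoly lam N h) = 0)

/-- the algebra map `R[T]/(P) → B`, `T ↦ x` -/
noncomputable def phiAlg : AK R lam N h →ₐ[R] B :=
  Ideal.Quotient.liftₐ (kerIdeal lam N h) (SekSuwa.A.lift R lam x c hc) (by
    intro z hz
    obtain ⟨w, rfl⟩ := Ideal.mem_span_singleton'.mp hz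
    rw [map_mul]
    have : (SekSuwa.A.lift R lam x c hc) (kerGen lam N h) = 0 := by
      rw [kerGen, ← Polynomial.aeval_algHom_apply, SekSuwa.A.lift_t, hP]
    rw [this, mul_zero])

theorem phiAlg_t : phiAlg lam N h x c hc hP AK.t = x := by
  change SekSuwa.A.lift R lam x c hc SekSuwa.A.t = x
  exact SekSuwa.A.lift_t _ _ _

theorem phiAlg_inv : phiAlg lam N h x c hc hP AK.inv = c := by
  change SekSuwa.A.lift R lam x c hc SekSuwa.A.inv = c
  exact SekSuwa.A.lift_inv _ _ _

variable (hεx : Coalgebra.counit (R := R) x = 0) (hεc : Coalgebra.counit (R := R) c = 1)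
  (hΔx : Coalgebra.comul (R := R) x = x ⊗ₜ[R] 1 + 1 ⊗ₜ[R] x + lam • (x ⊗ₜ[R] x))
  (hΔc : Coalgebra.comul (R := R) c = c ⊗ₜ[R] c)

/-- the bialgebra map `R[T]/(P) → B`, `T ↦ x` -/
noncomputable def phiHom : AK R lam N h →ₐc[R] B :=
  BialgHom.ofAlgHom (phiAlg lam N h x c hc hP)
    (by
      apply AK.algHom_ext
      · rw [AlgHom.comp_apply, phiAlg_t]
        change CoalgebraStruct.counit (R := R) x =
          CoalgebraStruct.counit (R := R) (AK.t : AK R lam N h)
        rw [hεx, AK.counit_t]
      · rw [AlgHom.comp_apply, phiAlg_inv]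
        change CoalgebraStruct.counit (R := R) c =
          CoalgebraStruct.counit (R := R) (AK.inv : AK R lam N h)
        rw [hεc, AK.counit_inv])
    (by
      apply AK.algHom_ext
      · rw [AlgHom.comp_apply, AlgHom.comp_apply, phiAlg_t]
        change Algebra.TensorProduct.map _ _
            (CoalgebraStruct.comul (R := R) (AK.t : AK R lam N h)) =
          CoalgebraStruct.comul (R := R) x
        rw [AK.comul_t, hΔx, map_add, map_add, map_smul, Algebra.TensorProduct.map_tmul,
          Algebra.TensorProduct.map_tmul, Algebra.TensorProduct.map_tmul, map_one, phiAlg_t]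
      · rw [AlgHom.comp_apply, AlgHom.comp_apply, phiAlg_inv]
        change Algebra.TensorProduct.map _ _
            (CoalgebraStruct.comul (R := R) (AK.inv : AK R lam N h)) =
          CoalgebraStruct.comul (R := R) c
        rw [AK.comul_inv, hΔc, Algebra.TensorProduct.map_tmul, phiAlg_inv])

theorem phiHom_t : phiHom lam N h x c hc hP hεx hεc hΔx hΔc AK.t = x :=
  phiAlg_t lam N h x c hc hP

end Build

section Main

variable {R : Type u} [CommRing R] [IsDomain R] [IsDiscreteValuationRing R]
  {K : Type u} [Field K] [Algebra R K] [IsFractionRing R K]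
  (p : ℕ) [hpF : Fact p.Prime] [CharP (IsLocalRing.ResidueField R) p]
  (ζ : R) (hζ : IsPrimitiveRoot ζ p)
  {B : Type u} [CommRing B] [Bialgebra R B] [Module.Finite R B] [Module.Flat R B]
  (χ : ZMod p → (B →ₐ[R] K))

include hζ in
theorem main (hinj : ∀ a : B, (∀ m, χ m a = 0) → a = 0)
    (hmul : ∀ m n a, χ (m + n) a = Algebra.TensorProduct.lift (χ m) (χ n)
      (fun _ _ => Commute.all _ _) (Coalgebra.comul (R := R) a))
    (hdist : Function.Injective χ) :
    ∃ (lam : R) (h : DivCond lam p), lam ≠ 0 ∧ Nonempty (AK R lam p h ≃ₐc[R] B) := by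
  classical
  have hp : p.Prime := Fact.out
  haveI : NeZero p := ⟨hp.ne_zero⟩
  haveI : Module.Free R B := Module.free_of_flat_of_isLocalRing
  obtain ⟨b, hb⟩ : ∃ b : Module.Basis (Module.Free.ChooseBasisIndex R B) R B,
      b = Module.Free.chooseBasis R B := ⟨_, rfl⟩
  have hζp : ζ ^ p = 1 := hζ.pow_eq_one
  have hmod : ∀ a : ℕ, ζ ^ (a % p) = ζ ^ a := fun a => by
    conv_rhs => rw [← Nat.mod_add_div a p, pow_add, pow_mul, hζp, one_pow, mul_one]
  obtain ⟨z, hzdef⟩ : ∃ z : ZMod p → R, z = fun m => ζ ^ m.val := ⟨_, rfl⟩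
  have hzv : ∀ m, z m = ζ ^ m.val := fun m => by rw [hzdef]
  have hz : ∀ m n, z (m + n) = z m * z n := by
    intro m n
    rw [hzv, hzv, hzv, ZMod.val_add, hmod, pow_add]
  have hz00 : z 0 = 1 := by rw [hzv, ZMod.val_zero, pow_zero]
  have hz0 : ∃ m, z m ≠ 0 := ⟨0, by rw [hz00]; exact one_ne_zero⟩
  obtain ⟨u, hu⟩ := exists_unit χ b hinj hdist hmul z hz hz0
  have hΔu := comul_eq_of_chi χ b hinj hmul z hz u hu
  have hu0 : u ≠ 0 := by
    intro h
    have := hu 0
    rw [h, map_zero, hz00, map_one] at this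
    exact zero_ne_one this
  have hεu := counit_eq_one_of_comul b u hΔu hu0
  have hup : u ^ p = 1 := by
    rw [← sub_eq_zero]
    apply hinj
    intro m
    rw [map_sub, map_pow, map_one, hu, ← map_pow, hzv, ← pow_mul, mul_comm, pow_mul, hζp,
      one_pow, map_one, sub_self]
  have hζ1 : ζ ≠ 1 := hζ.ne_one hp.one_lt
  have hv : u - 1 ≠ 0 := by
    intro h
    have h1 := hu 1
    haveI : Fact (1 < p) := ⟨hp.one_lt⟩
    rw [sub_eq_zero.mp h, map_one, hzv, ZMod.val_one, pow_one] at h1
    exact hζ1 ((IsFractionRing.injective R K) (by rw [map_one]; exact h1.symm))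
  obtain ⟨π, hπ⟩ := IsDiscreteValuationRing.exists_irreducible R
  obtain ⟨n, x, hvx, hxm⟩ := exists_pow_smul_not_mem π hπ (u - 1) hv
  obtain ⟨lam, hlamdef⟩ : ∃ lam, lam = π ^ n := ⟨_, rfl⟩
  rw [← hlamdef] at hvx
  have hlam0 : lam ≠ 0 := by rw [hlamdef]; exact pow_ne_zero n hπ.ne_zero
  have hux : u = 1 + lam • x := by rw [← hvx]; ring
  have hxint : ∀ m, ∃ r : R, algebraMap R K r = χ m x := fun m =>
    IsIntegrallyClosed.algebraMap_eq_of_integral ((IsIntegral.of_finite R x).map (χ m))
  choose xr hxr using hxint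
  have hlx : ∀ m, lam * xr m = z m - 1 := by
    intro m
    apply IsFractionRing.injective R K
    rw [map_mul, hxr, map_sub, map_one, ← hu m, hux, map_add, map_one, map_smul,
      Algebra.smul_def]
    ring
  have hdiv : DivCond lam p :=
    divCond_of_roots p hp.pos ζ hζ lam hlam0 (fun i => xr (i : ZMod p)) (by
      intro i hi
      rw [hlx, hzv, ZMod.val_cast_of_lt hi])
  have hPx : Polynomial.aeval x (psiPoly lam p hdiv) = 0 := by
    have h1 := aeval_psiPoly hdiv x
    rw [← Algebra.smul_def, ← Algebra.smul_def, ← hux, hup, sub_self] at h1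
    exact smul_eq_zero_of_basis' b h1 (pow_ne_zero p hlam0)
  obtain ⟨c, hcdef⟩ : ∃ c : B, c = u ^ (p - 1) := ⟨_, rfl⟩
  have hc : (1 + lam • x) * c = 1 := by
    rw [← hux, hcdef, ← pow_succ', Nat.sub_add_cancel hp.one_le, hup]
  have hεx : Coalgebra.counit (R := R) x = 0 := by
    have h1 := hεu
    rw [hux, map_add, Bialgebra.counit_one, map_smul, smul_eq_mul] at h1
    have h2 : lam * Coalgebra.counit (R := R) x = 0 := by
      have := sub_eq_zero.mpr h1
      rw [add_sub_cancel_left] at this
      exact this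
    exact (mul_eq_zero.mp h2).resolve_left hlam0
  have hΔx : Coalgebra.comul (R := R) x = x ⊗ₜ[R] 1 + 1 ⊗ₜ[R] x + lam • (x ⊗ₜ[R] x) := by
    have h1 := hΔu
    rw [hux, map_add, Bialgebra.comul_one, map_smul] at h1
    have h2 : lam • (Coalgebra.comul (R := R) x -
        (x ⊗ₜ[R] 1 + 1 ⊗ₜ[R] x + lam • (x ⊗ₜ[R] x))) = 0 := by
      rw [smul_sub, sub_eq_zero]
      have h3 : lam • Coalgebra.comul (R := R) x =
          (1 + lam • x) ⊗ₜ[R] (1 + lam • x) - (1 : B ⊗[R] B) := by
        rw [← h1]; ring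
      rw [h3]
      simp only [TensorProduct.add_tmul, TensorProduct.tmul_add, Algebra.TensorProduct.one_def,
        ← TensorProduct.smul_tmul', TensorProduct.tmul_smul, smul_smul, smul_add]
      module
    exact sub_eq_zero.mp (smul_eq_zero_of_basis' (b.tensorProduct b) h2 hlam0)
  have hΔc : Coalgebra.comul (R := R) c = c ⊗ₜ[R] c := by
    rw [hcdef, Bialgebra.comul_pow, hΔu, Algebra.TensorProduct.tmul_pow]
  have hεc : Coalgebra.counit (R := R) c = 1 := by
    rw [hcdef, Bialgebra.counit_pow, hεu, one_pow]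
  obtain ⟨φ, hφ⟩ : ∃ φ : AK R lam p hdiv →ₐc[R] B,
      φ = phiHom lam p hdiv x c hc hPx hεx hεc hΔx hΔc := ⟨_, rfl⟩
  have hφt : φ AK.t = x := by rw [hφ]; exact phiHom_t ..
  have hcard : Fintype.card (Module.Free.ChooseBasisIndex R B) = p := by
    rw [card_eq χ b hinj hdist, ZMod.card]
  have hrank : Module.finrank R B = p := by
    rw [Module.finrank_eq_card_basis b, hcard]
  have hdeg : p ≤ (minpoly (IsLocalRing.ResidueField R)
      ((1 : IsLocalRing.ResidueField R) ⊗ₜ[R] x)).natDegree := by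
    rcases Nat.eq_zero_or_pos n with hn | hn
    · have hl1 : lam = 1 := by rw [hlamdef, hn, pow_zero]
      have hxu : x = u - 1 := by rw [hux, hl1, one_smul]; ring
      have hg := isGroupLikeElem_one_tmul (k := IsLocalRing.ResidueField R) u hΔu hεu
      have hxb : (1 : IsLocalRing.ResidueField R) ⊗ₜ[R] x =
          (1 : IsLocalRing.ResidueField R) ⊗ₜ[R] u - 1 := by
        rw [hxu, TensorProduct.tmul_sub, Algebra.TensorProduct.one_def]
      rw [hxb]
      apply natDegree_minpoly_sub_one_ge_of_groupLike p _ hg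
      · rw [Algebra.TensorProduct.tmul_pow, one_pow, hup, Algebra.TensorProduct.one_def]
      · intro h1
        apply hxm
        rw [← LinearMap.ker_tensorProductMk, LinearMap.mem_ker, TensorProduct.mk_apply]
        exact hxb.trans (by rw [h1]; exact sub_self _)
      · exact IsIntegral.of_finite _ _
    · have hlk : algebraMap R (IsLocalRing.ResidueField R) lam = 0 := by
        rw [hlamdef, map_pow]
        have : algebraMap R (IsLocalRing.ResidueField R) π = 0 := by
          refine (IsLocalRing.residue_eq_zero_iff π).mpr ?_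
          rw [hπ.maximalIdeal_eq]
          exact Ideal.mem_span_singleton_self π
        rw [this, zero_pow hn.ne']
      apply natDegree_minpoly_ge_of_primitive p _
        (comul_one_tmul_of_primitive x lam hlk hΔx) (counit_one_tmul x hεx)
      · intro h1
        apply hxm
        rw [← LinearMap.ker_tensorProductMk, LinearMap.mem_ker, TensorProduct.mk_apply]
        exact h1
      · exact IsIntegral.of_finite _ _
  have hbij := linearCombination_bijective_of_natDegree_minpoly p hrank x hdeg
  have hsurj : Function.Surjective φ := by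
    intro a
    obtain ⟨cf, rfl⟩ := hbij.2 a
    refine ⟨Finsupp.linearCombination R
      (fun i : Fin p => (AK.t : AK R lam p hdiv) ^ (i : ℕ)) cf, ?_⟩
    rw [Finsupp.linearCombination_apply, Finsupp.linearCombination_apply, Finsupp.sum,
      Finsupp.sum, map_sum]
    refine Finset.sum_congr rfl fun i _ => ?_
    rw [map_smul, map_pow, hφt]
  have hinjφ : Function.Injective φ := by
    haveI := Groth.Agent.Lib.Helper24GKFree.free hp.pos hdiv
    haveI := Groth.Agent.Lib.Helper24GKFree.finite hp.pos hdiv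
    have hfr : Module.finrank R (AK R lam p hdiv) = p :=
      Groth.Agent.Lib.Helper24GKFree.finrank_eq hp.pos hdiv
    let e : B ≃ₗ[R] AK R lam p hdiv := LinearEquiv.ofFinrankEq _ _ (by rw [hrank, hfr])
    have hs : Function.Surjective (e.toLinearMap ∘ₗ (φ : AK R lam p hdiv →ₗ[R] B)) := by
      intro y
      obtain ⟨w, hw⟩ := hsurj (e.symm y)
      exact ⟨w, by rw [LinearMap.comp_apply]; erw [hw]; exact e.apply_symm_apply y⟩
    have hi := OrzechProperty.injective_of_surjective_endomorphism _ hs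
    intro a a' haa
    apply hi
    rw [LinearMap.comp_apply, LinearMap.comp_apply]
    exact congrArg e haa
  exact ⟨lam, hdiv, hlam0, ⟨BialgEquiv.ofBijective φ ⟨hinjφ, hsurj⟩⟩⟩

end Main

end Groth.Agent.Lib.R2H7.SSMain
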