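import Mathlib
import Groth.Prelude.Def_SekSuwa2
import Groth.Agent.Lib.R2H7SSLin
import Groth.Agent.Lib.R2H7SSMain

/-!
# R2H7SS2Ker: the kernel of a quotient `G → G_{μ,1}` (Hopf algebra form)

`ker_side` : let `B` be a finite flat bialgebra over a DVR `R ∋ ζ_p` with a jointly injective
multiplicative family of characters `χ : J → Hom(B, K)`, and `x ∈ B` a `μ`-primitive element
(`Δ x = x ⊗ 1 + 1 ⊗ x + μ x ⊗ x`, `ε x = 0`) such that `χ_m(x) = 0` exactly for `m` in the image of an
injective additive `ι : ℤ/p → J`, and such that `B/(x)` is `R`-torsion free.  Then `B/(x)` is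
isomorphic, as a bialgebra, to some `AK R lam p` (via `R2H7SSMain.main`): there is a surjective
bialgebra map `q : B → AK R lam p` with kernel `(x)`.
-/

set_option autoImplicit false

namespace Groth.Agent.Lib.R2H7.SS2Ker

open scoped TensorProduct
open Polynomial SekSuwa
open Groth.Agent.Lib.R2H7.SSLin Groth.Agent.Lib.R2H7.SSMain

universe u

section Main

variable {R : Type u} [CommRing R] [IsDomain R] [IsDiscreteValuationRing R]
  {K : Type u} [Field K] [Algebra R K] [IsFractionRing R K]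
  (p : ℕ) [hpF : Fact p.Prime] [CharP (IsLocalRing.ResidueField R) p]
  (ζ : R) (hζ : IsPrimitiveRoot ζ p)
  {B : Type u} [CommRing B] [Bialgebra R B] [Module.Finite R B] [Module.Flat R B]
  {J : Type} [Fintype J] [AddGroup J]
  (χ : J → (B →ₐ[R] K))

theorem isCoideal_span (mu : R) (x : B) (hεx : Coalgebra.counit (R := R) x = 0)
    (hΔx : Coalgebra.comul (R := R) x = x ⊗ₜ[R] 1 + 1 ⊗ₜ[R] x + mu • (x ⊗ₜ[R] x)) :
    ((Ideal.span {x}).restrictScalars R).IsCoideal := by
  refine Submodule.IsCoideal.mk ?_ ?_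
  · intro z hz
    obtain ⟨a, rfl⟩ := Ideal.mem_span_singleton'.mp hz
    change Bialgebra.counitAlgHom R B (a * x) = 0
    rw [map_mul]
    change _ * CoalgebraStruct.counit (R := R) x = 0
    rw [hεx, mul_zero]
  · intro z hz
    obtain ⟨a, rfl⟩ := Ideal.mem_span_singleton'.mp hz
    have hmk : (Submodule.restrictScalars R (Ideal.span {x})).mkQ =
        (Ideal.Quotient.mkₐ R (Ideal.span {x})).toLinearMap := rfl
    rw [hmk]
    change Algebra.TensorProduct.map (Ideal.Quotient.mkₐ R (Ideal.span {x}))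
        (Ideal.Quotient.mkₐ R (Ideal.span {x})) (Bialgebra.comulAlgHom R B (a * x)) = 0
    rw [map_mul, map_mul]
    change _ * Algebra.TensorProduct.map _ _ (CoalgebraStruct.comul (R := R) x) = 0
    rw [hΔx, map_add, map_add, map_smul, Algebra.TensorProduct.map_tmul,
      Algebra.TensorProduct.map_tmul, Algebra.TensorProduct.map_tmul]
    have h0 : Ideal.Quotient.mkₐ R (Ideal.span {x}) x = 0 :=
      (Ideal.Quotient.eq_zero_iff_mem).mpr (Ideal.subset_span rfl)
    simp [h0]

include hζ in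
theorem ker_side (hinj : ∀ a : B, (∀ m, χ m a = 0) → a = 0)
    (hmul : ∀ m n a, χ (m + n) a = Algebra.TensorProduct.lift (χ m) (χ n)
      (fun _ _ => Commute.all _ _) (Coalgebra.comul (R := R) a))
    (hdist : Function.Injective χ)
    (mu : R) (x : B) (hεx : Coalgebra.counit (R := R) x = 0)
    (hΔx : Coalgebra.comul (R := R) x = x ⊗ₜ[R] 1 + 1 ⊗ₜ[R] x + mu • (x ⊗ₜ[R] x))
    (ι : ZMod p →+ J) (hι : Function.Injective ι)
    (hx0 : ∀ a, χ (ι a) x = 0) (hx1 : ∀ m, (∀ a, ι a ≠ m) → χ m x ≠ 0)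
    (hTF : ∀ (s : R) (y : B), s ≠ 0 → s • y ∈ Ideal.span {x} → y ∈ Ideal.span {x}) :
    ∃ (lam : R) (h₁ : DivCond lam p) (q : B →ₐc[R] AK R lam p h₁), lam ≠ 0 ∧
      Function.Surjective q ∧ ∀ y, q y = 0 ↔ y ∈ Ideal.span {x} := by
  classical
  haveI : Module.Free R B := Module.free_of_flat_of_isLocalRing
  obtain ⟨b, hb⟩ : ∃ b : Module.Basis (Module.Free.ChooseBasisIndex R B) R B,
      b = Module.Free.chooseBasis R B := ⟨_, rfl⟩
  haveI hco : ((Ideal.span {x}).restrictScalars R).IsCoideal := isCoideal_span mu x hεx hΔx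
  haveI : Module.Finite R (B ⧸ Ideal.span {x}) :=
    Module.Finite.of_surjective (Ideal.Quotient.mkₐ R (Ideal.span {x})).toLinearMap
      Ideal.Quotient.mk_surjective
  haveI : Module.IsTorsionFree R (B ⧸ Ideal.span {x}) := by
    refine Module.IsTorsionFree.of_smul_eq_zero (fun r m hrm => ?_)
    by_cases hr : r = 0
    · exact Or.inl hr
    · right
      obtain ⟨y, rfl⟩ := Ideal.Quotient.mk_surjective m
      have h1 : Ideal.Quotient.mk (Ideal.span {x}) (r • y) = 0 := hrm
      rw [Ideal.Quotient.eq_zero_iff_mem] at h1 ⊢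
      exact hTF r y hr h1
  haveI : Module.Flat R (B ⧸ Ideal.span {x}) := inferInstance
  -- characters of the quotient
  have hvan : ∀ (a : ZMod p) (y : B), y ∈ Ideal.span {x} → χ (ι a) y = 0 := by
    intro a y hy
    obtain ⟨w, rfl⟩ := Ideal.mem_span_singleton'.mp hy
    rw [map_mul, hx0, mul_zero]
  obtain ⟨χ', hχ'⟩ : ∃ χ' : ZMod p → (B ⧸ Ideal.span {x} →ₐ[R] K),
      ∀ a y, χ' a (Ideal.Quotient.mk (Ideal.span {x}) y) = χ (ι a) y :=
    ⟨fun a => Ideal.Quotient.liftₐ (Ideal.span {x}) (χ (ι a)) (hvan a), fun a y => rfl⟩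
  have hinj' : ∀ y' : B ⧸ Ideal.span {x}, (∀ a, χ' a y' = 0) → y' = 0 := by
    intro y' hy'
    obtain ⟨y, rfl⟩ := Ideal.Quotient.mk_surjective y'
    obtain ⟨a₀, s, hs, ha₀⟩ := exists_preimage χ b hdist
      (fun m => if (∃ a, ι a = m) then 0 else χ m y / χ m x)
    have hsy : a₀ * x = s • y := by
      rw [← sub_eq_zero]
      apply hinj
      intro m
      rw [map_sub, map_mul, map_smul, ha₀, Algebra.smul_def]
      by_cases hm : ∃ a, ι a = m
      · obtain ⟨a, rfl⟩ := hm
        have := hy' a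
        rw [hχ'] at this
        rw [hx0, this, mul_zero, mul_zero, sub_self]
      · rw [if_neg hm]
        have hne : χ m x ≠ 0 := hx1 m (fun a ha => hm ⟨a, ha⟩)
        rw [mul_assoc, div_mul_cancel₀ _ hne]
        exact sub_self _
    rw [Ideal.Quotient.eq_zero_iff_mem]
    apply hTF s y hs
    rw [← hsy]
    exact Ideal.mul_mem_left _ _ (Ideal.subset_span rfl)
  have hlift : ∀ (a a' : ZMod p) (z : B ⊗[R] B),
      Algebra.TensorProduct.lift (χ' a) (χ' a') (fun _ _ => Commute.all _ _)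
        (TensorProduct.map (Ideal.Quotient.mkₐ R (Ideal.span {x})).toLinearMap
          (Ideal.Quotient.mkₐ R (Ideal.span {x})).toLinearMap z) =
      Algebra.TensorProduct.lift (χ (ι a)) (χ (ι a')) (fun _ _ => Commute.all _ _) z := by
    intro a a' z
    induction z using TensorProduct.induction_on with
    | zero => rw [map_zero, map_zero, map_zero]
    | tmul y₁ y₂ =>
      rw [TensorProduct.map_tmul, Algebra.TensorProduct.lift_tmul, Algebra.TensorProduct.lift_tmul]
      change χ' a (Ideal.Quotient.mk _ y₁) * χ' a' (Ideal.Quotient.mk _ y₂) = _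
      rw [hχ', hχ']
    | add z₁ z₂ h₁ h₂ => rw [map_add, map_add, map_add, h₁, h₂]
  have hmul' : ∀ a a' y', χ' (a + a') y' = Algebra.TensorProduct.lift (χ' a) (χ' a')
      (fun _ _ => Commute.all _ _) (Coalgebra.comul (R := R) y') := by
    intro a a' y'
    obtain ⟨y, rfl⟩ := Ideal.Quotient.mk_surjective y'
    rw [Bialgebra.Quotient.comul_mk, hlift, hχ', map_add, hmul]
  have hdist' : Function.Injective χ' := by
    intro a a' haa
    apply hι
    apply hdist
    apply AlgHom.ext
    intro y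
    rw [← hχ', ← hχ', haa]
  obtain ⟨lam, h₁, hlam, ⟨E⟩⟩ := main p ζ hζ χ' hinj' hmul' hdist'
  refine ⟨lam, h₁, (E.symm : B ⧸ Ideal.span {x} →ₐc[R] AK R lam p h₁).comp
    (Bialgebra.Quotient.mkBialgHom (Ideal.span {x})), hlam, ?_, ?_⟩
  · intro c
    obtain ⟨y, hy⟩ := Ideal.Quotient.mk_surjective (E c)
    refine ⟨y, ?_⟩
    change E.symm (Ideal.Quotient.mk _ y) = c
    rw [hy]
    exact E.symm_apply_apply c
  · intro y
    change E.symm (Ideal.Quotient.mk _ y) = 0 ↔ _
    rw [← Ideal.Quotient.eq_zero_iff_mem]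
    constructor
    · intro h
      have := congrArg E h
      rwa [E.apply_symm_apply, map_zero] at this
    · intro h
      rw [h, map_zero]

end Main

end Groth.Agent.Lib.R2H7.SS2Ker
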