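import Mathlib

/-!
# R2H7SS2Lift: lifting projectivity from the special fibre over a discrete valuation ring

`projective_of_residue_flat` : let `R` be a discrete valuation ring with residue field `k`, `C` a finite
`R`-algebra and `B` a `C`-algebra which is finite and flat over `R`.  If `k ⊗ B` is flat over `k ⊗ C`,
then `B` is a projective `C`-module ("critère de platitude par fibres" in the finite case, proved by
lifting a splitting and Nakayama).

`exists_smul_of_smul_eq` : if `B` is a projective `C`-module and `C/(t)` has no `ϖ`-torsion then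
`B/tB` has no `ϖ`-torsion.
-/

set_option autoImplicit false

namespace Groth.Agent.Lib.R2H7.SS2Lift

open scoped TensorProduct

universe u

section Tmul

variable {R : Type u} [CommRing R] [IsDomain R] [IsDiscreteValuationRing R]

local notation "𝕜" => IsLocalRing.ResidueField R

theorem exists_smul_of_tmul_eq_zero {X : Type*} [AddCommGroup X] [Module R X] (ϖ : R)
    (hϖ : Irreducible ϖ) (x : X) (h : (1 : 𝕜) ⊗ₜ[R] x = 0) : ∃ x' : X, x = ϖ • x' := by
  have hmem : x ∈ (IsLocalRing.maximalIdeal R) • (⊤ : Submodule R X) := by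
    rw [← LinearMap.ker_tensorProductMk, LinearMap.mem_ker, TensorProduct.mk_apply]
    exact h
  rw [hϖ.maximalIdeal_eq, Submodule.ideal_span_singleton_smul,
    Submodule.mem_smul_pointwise_iff_exists] at hmem
  obtain ⟨x', -, hx'⟩ := hmem
  exact ⟨x', hx'.symm⟩

theorem exists_tmul_eq {X : Type*} [AddCommGroup X] [Module R X] (z : 𝕜 ⊗[R] X) :
    ∃ x : X, (1 : 𝕜) ⊗ₜ[R] x = z :=
  TensorProduct.mk_surjective R X 𝕜 IsLocalRing.residue_surjective z

end Tmul

section Lift

variable {R : Type u} [CommRing R] [IsDomain R] [IsDiscreteValuationRing R]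
  {C B : Type u} [CommRing C] [CommRing B] [Algebra R C] [Algebra R B] [Algebra C B]
  [IsScalarTower R C B] [Module.Finite R C] [Module.Finite R B] [Module.Flat R B]

local notation "𝕜" => IsLocalRing.ResidueField R

set_option maxHeartbeats 1600000 in
theorem projective_of_residue_flat
    (h : (Algebra.TensorProduct.map (AlgHom.id 𝕜 𝕜)
      (IsScalarTower.toAlgHom R C B)).toRingHom.Flat) : Module.Projective C B := by
  classical
  obtain ⟨ϖ, hϖ⟩ := IsDiscreteValuationRing.exists_irreducible R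
  obtain ⟨ψ', hψ'⟩ : ∃ ψ' : 𝕜 ⊗[R] C →ₐ[𝕜] 𝕜 ⊗[R] B,
      ψ' = Algebra.TensorProduct.map (AlgHom.id 𝕜 𝕜) (IsScalarTower.toAlgHom R C B) := ⟨_, rfl⟩
  rw [← hψ'] at h
  letI algCB' : Algebra (𝕜 ⊗[R] C) (𝕜 ⊗[R] B) := ψ'.toRingHom.toAlgebra
  have halg : ∀ c : 𝕜 ⊗[R] C, algebraMap (𝕜 ⊗[R] C) (𝕜 ⊗[R] B) c = ψ' c := fun _ => rfl
  haveI : IsScalarTower 𝕜 (𝕜 ⊗[R] C) (𝕜 ⊗[R] B) :=
    IsScalarTower.of_algebraMap_eq (fun x => (ψ'.commutes x).symm)
  have hfl : Module.Flat (𝕜 ⊗[R] C) (𝕜 ⊗[R] B) := h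
  haveI : Module.Finite (𝕜 ⊗[R] C) (𝕜 ⊗[R] B) := Module.Finite.of_restrictScalars_finite 𝕜 _ _
  haveI : IsNoetherianRing (𝕜 ⊗[R] C) := Algebra.FiniteType.isNoetherianRing 𝕜 _
  haveI : Module.FinitePresentation (𝕜 ⊗[R] C) (𝕜 ⊗[R] B) :=
    Module.finitePresentation_of_finite _ _
  haveI : Module.Projective (𝕜 ⊗[R] C) (𝕜 ⊗[R] B) := Module.Flat.projective_of_finitePresentation
  -- the basic compatibility of scalar multiplications
  have hsm : ∀ (c : C) (y : B), ((1 : 𝕜) ⊗ₜ[R] c : 𝕜 ⊗[R] C) • ((1 : 𝕜) ⊗ₜ[R] y : 𝕜 ⊗[R] B) =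
      (1 : 𝕜) ⊗ₜ[R] (c • y) := by
    intro c y
    rw [Algebra.smul_def, halg, hψ', Algebra.TensorProduct.map_tmul,
      Algebra.TensorProduct.tmul_mul_tmul, AlgHom.id_apply, one_mul,
      IsScalarTower.coe_toAlgHom', Algebra.smul_def]
  -- generators
  obtain ⟨n, b, hb⟩ := Module.Finite.exists_fin (R := R) (M := B)
  obtain ⟨q, hq⟩ : ∃ q : (Fin n → C) →ₗ[C] B, q = Fintype.linearCombination C b := ⟨_, rfl⟩
  have hqapp : ∀ c, q c = ∑ i, c i • b i := fun c => by
    rw [hq, Fintype.linearCombination_apply]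
  have hqsurj : Function.Surjective q := by
    intro y
    have hy : y ∈ Submodule.span R (Set.range b) := by rw [hb]; trivial
    rw [← Fintype.range_linearCombination] at hy
    obtain ⟨c, rfl⟩ := hy
    refine ⟨fun i => algebraMap R C (c i), ?_⟩
    rw [hqapp, Fintype.linearCombination_apply]
    refine Finset.sum_congr rfl fun i _ => ?_
    rw [algebraMap_smul]
  obtain ⟨qb, hqb⟩ : ∃ qb : (Fin n → 𝕜 ⊗[R] C) →ₗ[𝕜 ⊗[R] C] 𝕜 ⊗[R] B,
      qb = Fintype.linearCombination (𝕜 ⊗[R] C) (fun i => (1 : 𝕜) ⊗ₜ[R] b i) := ⟨_, rfl⟩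
  have hq2 : ∀ c : Fin n → C, qb (fun i => (1 : 𝕜) ⊗ₜ[R] c i) = (1 : 𝕜) ⊗ₜ[R] q c := by
    intro c
    rw [hqb, Fintype.linearCombination_apply, hqapp, TensorProduct.tmul_sum]
    refine Finset.sum_congr rfl fun i _ => ?_
    rw [hsm]
  have hqbsurj : Function.Surjective qb := by
    intro z
    obtain ⟨y, rfl⟩ := exists_tmul_eq z
    obtain ⟨c, rfl⟩ := hqsurj y
    exact ⟨_, hq2 c⟩
  obtain ⟨σ, hσ⟩ := Module.projective_lifting_property qb LinearMap.id hqbsurj
  have hσ' : ∀ z, qb (σ z) = z := fun z => by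
    have := congrArg (fun f => f z) hσ
    simpa using this
  -- lift the matrix of σ
  have hEex : ∀ i j : Fin n, ∃ c : C, (1 : 𝕜) ⊗ₜ[R] c = σ ((1 : 𝕜) ⊗ₜ[R] b j) i :=
    fun i j => exists_tmul_eq _
  choose E hE using hEex
  obtain ⟨e, he⟩ : ∃ e : (Fin n → C) →ₗ[C] (Fin n → C),
      e = LinearMap.pi (fun i => Fintype.linearCombination C (E i)) := ⟨_, rfl⟩
  have heapp : ∀ c i, e c i = ∑ j, c j • E i j := fun c i => by
    rw [he, LinearMap.pi_apply, Fintype.linearCombination_apply]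
  have he1 : ∀ c : Fin n → C, (fun i => (1 : 𝕜) ⊗ₜ[R] (e c i)) =
      σ (qb (fun i => (1 : 𝕜) ⊗ₜ[R] c i)) := by
    intro c
    funext i
    rw [hqb, Fintype.linearCombination_apply, map_sum, Finset.sum_apply, heapp,
      TensorProduct.tmul_sum]
    refine Finset.sum_congr rfl fun j _ => ?_
    rw [map_smul, Pi.smul_apply, ← hE, smul_eq_mul, smul_eq_mul,
      Algebra.TensorProduct.tmul_mul_tmul, one_mul]
  -- q c ≡ q (e c) modulo ϖ
  have hcong : ∀ c : Fin n → C, ∃ y : B, q c - q (e c) = ϖ • y := by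
    intro c
    apply exists_smul_of_tmul_eq_zero ϖ hϖ
    rw [TensorProduct.tmul_sub, ← hq2, ← hq2, he1, hσ', sub_self]
  choose y0 hy0 using fun j : Fin n => hcong (Pi.single j 1)
  choose f hf using fun j : Fin n => hqsurj (y0 j)
  obtain ⟨g, hg⟩ : ∃ g : (Fin n → C) →ₗ[C] (Fin n → C), g = Fintype.linearCombination C f :=
    ⟨_, rfl⟩
  obtain ⟨r, hr⟩ : ∃ r : (Fin n → C) →ₗ[C] (Fin n → C),
      r = LinearMap.id - e - (algebraMap R C ϖ) • g := ⟨_, rfl⟩
  have hrapp : ∀ c, r c = c - e c - ϖ • g c := fun c => by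
    rw [hr, LinearMap.sub_apply, LinearMap.sub_apply, LinearMap.id_apply, LinearMap.smul_apply,
      algebraMap_smul]
  have hqr : ∀ c, q (r c) = 0 := by
    have h0 : q ∘ₗ r = 0 := by
      apply LinearMap.pi_ext
      intro j x
      have hx : (Pi.single j x : Fin n → C) = x • Pi.single j (1 : C) := by
        rw [← Pi.single_smul, smul_eq_mul, mul_one]
      rw [hx, map_smul, LinearMap.comp_apply, hrapp, map_sub, map_sub, hy0,
        LinearMap.map_smul_of_tower, hg,
        Fintype.linearCombination_apply_single, one_smul, hf, sub_self, LinearMap.zero_apply,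
        smul_zero]
    intro c
    have := congrArg (fun T => T c) h0
    simpa using this
  -- r is the identity on the kernel of q modulo ϖ
  have hker : ∀ c : Fin n → C, q c = 0 → ∃ c' : Fin n → C, q c' = 0 ∧ r c - c = ϖ • c' := by
    intro c hc
    have h1 : ∀ i, ∃ gi : C, e c i = ϖ • gi := by
      intro i
      apply exists_smul_of_tmul_eq_zero ϖ hϖ
      have h2 := congrFun (he1 c) i
      rw [hq2, hc, TensorProduct.tmul_zero, map_zero] at h2
      exact h2
    choose g1 hg1 using h1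
    have h3 : e c = ϖ • g1 := by
      funext i
      rw [hg1, Pi.smul_apply]
    have h4 : r c - c = ϖ • (-g1 - g c) := by
      rw [hrapp, h3, smul_sub, smul_neg]
      abel
    refine ⟨-g1 - g c, ?_, h4⟩
    have h5 : ϖ • q (-g1 - g c) = 0 := by
      rw [← LinearMap.map_smul_of_tower, ← h4, map_sub, hqr, hc, sub_self]
    exact (smul_eq_zero_iff_right hϖ.ne_zero).mp h5
  -- Nakayama: r maps ker q onto ker q
  haveI : IsNoetherian R C := isNoetherian_of_isNoetherianRing_of_finite R C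
  haveI : IsNoetherian R (Fin n → C) := inferInstance
  have hsurj : ∀ c : Fin n → C, q c = 0 → ∃ c' : Fin n → C, q c' = 0 ∧ r c' = c := by
    have hle : (LinearMap.ker q).restrictScalars R ≤
        ((LinearMap.ker q).map r).restrictScalars R := by
      apply Submodule.le_of_le_smul_of_le_jacobson_bot (I := IsLocalRing.maximalIdeal R)
        (IsNoetherian.noetherian _) (IsLocalRing.maximalIdeal_le_jacobson ⊥)
      intro c hc
      have hc0 : q c = 0 := hc
      obtain ⟨c', hc', hcc'⟩ := hker c hc0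
      have e1 : c = r c + ϖ • (-c') := by
        rw [smul_neg, ← hcc']
        abel
      rw [e1]
      refine Submodule.add_mem_sup ?_ ?_
      · exact ⟨c, hc0, rfl⟩
      · refine Submodule.smul_mem_smul ?_ ?_
        · rw [hϖ.maximalIdeal_eq]
          exact Ideal.mem_span_singleton_self ϖ
        · change q (-c') = 0
          rw [map_neg, hc', neg_zero]
    intro c hc
    obtain ⟨c', hc', hcc'⟩ := hle (show c ∈ (LinearMap.ker q).restrictScalars R from hc)
    exact ⟨c', hc', hcc'⟩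
  -- the restriction of r to ker q is bijective
  haveI : IsNoetherianRing C := Algebra.FiniteType.isNoetherianRing R C
  haveI : IsNoetherian C (Fin n → C) := inferInstance
  obtain ⟨rN, hrN⟩ : ∃ rN : LinearMap.ker q →ₗ[C] LinearMap.ker q,
      ∀ c, (rN c : Fin n → C) = r c :=
    ⟨(r.codRestrict (LinearMap.ker q) (fun c => hqr c)).comp (LinearMap.ker q).subtype,
      fun c => rfl⟩
  have hrNsurj : Function.Surjective rN := by
    intro c
    obtain ⟨c', hc', hcc'⟩ := hsurj c c.2
    exact ⟨⟨c', hc'⟩, Subtype.ext (by rw [hrN]; exact hcc')⟩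
  have hrNbij : Function.Bijective rN :=
    ⟨OrzechProperty.injective_of_surjective_endomorphism rN hrNsurj, hrNsurj⟩
  obtain ⟨ρ, hρ⟩ : ∃ ρ : LinearMap.ker q ≃ₗ[C] LinearMap.ker q, ∀ c, ρ c = rN c :=
    ⟨LinearEquiv.ofBijective rN hrNbij, fun c => rfl⟩
  obtain ⟨θ, hθ⟩ : ∃ θ : (Fin n → C) →ₗ[C] LinearMap.ker q,
      θ = ρ.symm.toLinearMap ∘ₗ (r.codRestrict (LinearMap.ker q) (fun c => hqr c)) := ⟨_, rfl⟩
  have hθN : ∀ c : LinearMap.ker q, θ (c : Fin n → C) = c := by
    intro c
    rw [hθ, LinearMap.comp_apply]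
    have : r.codRestrict (LinearMap.ker q) (fun c => hqr c) (c : Fin n → C) = rN c :=
      Subtype.ext (by rw [hrN]; rfl)
    rw [this, ← hρ]
    exact ρ.symm_apply_apply c
  obtain ⟨s', hs'⟩ : ∃ s' : (Fin n → C) →ₗ[C] (Fin n → C),
      s' = LinearMap.id - (LinearMap.ker q).subtype ∘ₗ θ := ⟨_, rfl⟩
  have hs'N : LinearMap.ker q ≤ LinearMap.ker ((LinearMap.ker q).mkQ ∘ₗ s') := by
    intro c hc
    rw [LinearMap.mem_ker, LinearMap.comp_apply, hs', LinearMap.sub_apply, LinearMap.id_apply,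
      LinearMap.comp_apply, hθN ⟨c, hc⟩, Submodule.subtype_apply, sub_self, map_zero]
  have hs'N2 : LinearMap.ker q ≤ LinearMap.ker s' := by
    intro c hc
    rw [LinearMap.mem_ker, hs', LinearMap.sub_apply, LinearMap.id_apply,
      LinearMap.comp_apply, hθN ⟨c, hc⟩, Submodule.subtype_apply, sub_self]
  haveI : Module.Projective C ((Fin n → C) ⧸ LinearMap.ker q) := by
    refine Module.Projective.of_split ((LinearMap.ker q).liftQ s' hs'N2) (LinearMap.ker q).mkQ ?_
    apply LinearMap.ext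
    intro z
    obtain ⟨c, rfl⟩ := Submodule.Quotient.mk_surjective _ z
    rw [LinearMap.comp_apply, LinearMap.id_apply, Submodule.liftQ_apply, hs', LinearMap.sub_apply,
      LinearMap.id_apply, map_sub, LinearMap.comp_apply, Submodule.subtype_apply]
    have : (LinearMap.ker q).mkQ ((θ c : LinearMap.ker q) : Fin n → C) = 0 := by
      rw [Submodule.mkQ_apply, Submodule.Quotient.mk_eq_zero]
      exact (θ c).2
    rw [this, sub_zero]
    rfl
  exact Module.Projective.of_equiv (q.quotKerEquivOfSurjective hqsurj)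

end Lift

section Tors

variable {C B : Type u} [CommRing C] [CommRing B] [Algebra C B] [Module.Projective C B]

theorem exists_smul_of_smul_eq (ϖ t : C)
    (hC : ∀ c c' : C, ϖ * c = t * c' → ∃ c'' : C, c = t * c'')
    (y w : B) (h : ϖ • y = t • w) : ∃ w' : B, y = t • w' := by
  classical
  obtain ⟨s, hs⟩ := (Module.projective_def' (R := C) (P := B)).mp inferInstance
  have hs' : ∀ z, Finsupp.linearCombination C id (s z) = z := fun z => by
    have := congrArg (fun f => f z) hs
    simpa using this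
  have h1 : ∀ b : B, ∃ c'' : C, s y b = t * c'' := by
    intro b
    apply hC _ (s w b)
    have h2 := congrArg (fun z => s z b) h
    simp only [map_smul, Finsupp.smul_apply, smul_eq_mul] at h2
    exact h2
  choose g hg using h1
  refine ⟨∑ b ∈ (s y).support, g b • b, ?_⟩
  conv_lhs => rw [← hs' y, Finsupp.linearCombination_apply, Finsupp.sum]
  rw [Finset.smul_sum]
  refine Finset.sum_congr rfl fun b _ => ?_
  rw [hg, mul_smul, id]

end Tors

end Groth.Agent.Lib.R2H7.SS2Lift
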