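import Mathlib
import Groth.Prelude.Def_SekSuwa2
import Groth.Agent.Lib.R2H7SSLin
import Groth.Agent.Lib.R2H7SSUnit
import Groth.Agent.Lib.R2H7SSFibre
import Groth.Agent.Lib.R2H7SSPrep
import Groth.Agent.Lib.R2H7SSMain
import Groth.Agent.Lib.R2H7SS2Lift
import Groth.Agent.Lib.Helper24GKFree
import Groth.Agent.Lib.Helper25TakeuchiCor

/-!
# R2H7SS2Quot: quotients `G → G_{μ,1}` of a finite flat group scheme over a DVR with constant generic
fibre (Hopf algebra form)

`sub_counit_mem` : in `AK R mu N h`, `c - ε(c) ∈ (t)`.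

`prep` : for a finite flat Hopf algebra `B` over a DVR `R ∋ ζ_p` with a jointly injective multiplicative
family of characters `χ : J → Hom(B, K)` and a nontrivial additive `π : J → ℤ/p`, there are `μ ≠ 0`
and a bialgebra map `φ : AK R μ p → B` with `μ χ_m(φ t) = ζ^{π m} - 1`, such that the reduction of `φ t`
has minimal polynomial of degree `≥ p`.

`quot_side` : moreover `φ` is injective and flat, and `B/(φ t)` is `R`-torsion free.
-/

set_option autoImplicit false

namespace Groth.Agent.Lib.R2H7.SS2Quot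

open scoped TensorProduct
open Polynomial SekSuwa
open Groth.Agent.Lib.R2H7.SSLin Groth.Agent.Lib.R2H7.SSUnit Groth.Agent.Lib.R2H7.SSFibre
  Groth.Agent.Lib.R2H7.SSPrep Groth.Agent.Lib.R2H7.SSMain Groth.Agent.Lib.R2H7.SS2Lift

universe u

section AKfacts

variable {R : Type u} [CommRing R] (mu : R) (N : ℕ) (h : DivCond mu N)

theorem u_mul_inv : (1 + mu • (AK.t : AK R mu N h)) * AK.inv = 1 := by
  have := congrArg (AK.mkHom R mu N h) (A.u_mul_inv (R := R) (lam := mu))
  rw [map_mul, map_one, A.u, map_add, map_one, map_smul] at this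
  exact this

theorem sub_counit_mem (c : AK R mu N h) :
    c - algebraMap R (AK R mu N h) (Coalgebra.counit (R := R) c) ∈
      Ideal.span {(AK.t : AK R mu N h)} := by
  obtain ⟨I, hI⟩ : ∃ I : Ideal (AK R mu N h), I = Ideal.span {(AK.t : AK R mu N h)} := ⟨_, rfl⟩
  rw [← hI]
  have ht : (AK.t : AK R mu N h) ∈ I := by rw [hI]; exact Ideal.subset_span rfl
  have key : (Ideal.Quotient.mkₐ R I) =
      (Algebra.ofId R (AK R mu N h ⧸ I)).comp (Bialgebra.counitAlgHom R (AK R mu N h)) := by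
    apply AK.algHom_ext
    · rw [Ideal.Quotient.mkₐ_eq_mk, AlgHom.comp_apply]
      have : Bialgebra.counitAlgHom R (AK R mu N h) (AK.t : AK R mu N h) = 0 :=
        AK.counit_t (R := R) (lam := mu) (N := N) (h := h)
      rw [this, map_zero, Ideal.Quotient.eq_zero_iff_mem]
      exact ht
    · rw [Ideal.Quotient.mkₐ_eq_mk, AlgHom.comp_apply]
      have : Bialgebra.counitAlgHom R (AK R mu N h) (AK.inv : AK R mu N h) = 1 :=
        AK.counit_inv (R := R) (lam := mu) (N := N) (h := h)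
      rw [this, map_one, ← map_one (Ideal.Quotient.mk I), Ideal.Quotient.eq]
      have e1 := u_mul_inv mu N h
      rw [Algebra.smul_def] at e1
      have e2 : (AK.inv : AK R mu N h) - 1 =
          AK.t * (-(algebraMap R (AK R mu N h) mu * AK.inv)) := by
        linear_combination e1
      rw [e2]
      exact Ideal.mul_mem_right _ _ ht
  have h1 := congrArg (fun f => f c) key
  simp only [Ideal.Quotient.mkₐ_eq_mk, AlgHom.comp_apply] at h1
  have h2 : Bialgebra.counitAlgHom R (AK R mu N h) c = Coalgebra.counit (R := R) c := rfl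
  rw [h2] at h1
  have h3 : (Algebra.ofId R (AK R mu N h ⧸ I)) (Coalgebra.counit (R := R) c) =
      Ideal.Quotient.mk I (algebraMap R (AK R mu N h) (Coalgebra.counit (R := R) c)) := rfl
  rw [h3] at h1
  exact Ideal.Quotient.eq.mp h1

end AKfacts

section Main

variable {R : Type u} [CommRing R] [IsDomain R] [IsDiscreteValuationRing R]
  {K : Type u} [Field K] [Algebra R K] [IsFractionRing R K]
  (p : ℕ) [hpF : Fact p.Prime] [CharP (IsLocalRing.ResidueField R) p]
  (ζ : R) (hζ : IsPrimitiveRoot ζ p)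
  {B : Type u} [CommRing B] [HopfAlgebra R B] [Module.Finite R B] [Module.Flat R B]
  {J : Type} [Fintype J] [AddGroup J]
  (χ : J → (B →ₐ[R] K))

local notation "𝕜" => IsLocalRing.ResidueField R

include hζ in
theorem prep (hinj : ∀ a : B, (∀ m, χ m a = 0) → a = 0)
    (hmul : ∀ m n a, χ (m + n) a = Algebra.TensorProduct.lift (χ m) (χ n)
      (fun _ _ => Commute.all _ _) (Coalgebra.comul (R := R) a))
    (hdist : Function.Injective χ) (π : J →+ ZMod p) (m₀ : J) (hm₀ : π m₀ ≠ 0) :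
    ∃ (mu : R) (h : DivCond mu p) (φ : AK R mu p h →ₐc[R] B), mu ≠ 0 ∧
      (∀ m, algebraMap R K mu * χ m (φ AK.t) = algebraMap R K (ζ ^ (π m).val) - 1) ∧
      p ≤ (minpoly 𝕜 ((1 : 𝕜) ⊗ₜ[R] φ AK.t)).natDegree := by
  classical
  have hp : p.Prime := Fact.out
  haveI : NeZero p := ⟨hp.ne_zero⟩
  haveI : Module.Free R B := Module.free_of_flat_of_isLocalRing
  obtain ⟨b, hb⟩ : ∃ b : Module.Basis (Module.Free.ChooseBasisIndex R B) R B,
      b = Module.Free.chooseBasis R B := ⟨_, rfl⟩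
  have hζp : ζ ^ p = 1 := hζ.pow_eq_one
  have hmod : ∀ a : ℕ, ζ ^ (a % p) = ζ ^ a := fun a => by
    conv_rhs => rw [← Nat.mod_add_div a p, pow_add, pow_mul, hζp, one_pow, mul_one]
  obtain ⟨z, hzdef⟩ : ∃ z : J → R, z = fun m => ζ ^ (π m).val := ⟨_, rfl⟩
  have hzv : ∀ m, z m = ζ ^ (π m).val := fun m => by rw [hzdef]
  have hz : ∀ m n, z (m + n) = z m * z n := by
    intro m n
    rw [hzv, hzv, hzv, map_add, ZMod.val_add, hmod, pow_add]
  have hz00 : z 0 = 1 := by rw [hzv, map_zero, ZMod.val_zero, pow_zero]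
  have hz0 : ∃ m, z m ≠ 0 := ⟨0, by rw [hz00]; exact one_ne_zero⟩
  obtain ⟨u, hu⟩ := exists_unit χ b hinj hdist hmul z hz hz0
  have hΔu := comul_eq_of_chi χ b hinj hmul z hz u hu
  have hu0 : u ≠ 0 := by
    intro h
    have := hu 0
    rw [h, map_zero, hz00, map_one] at this
    exact zero_ne_one this
  have hεu := counit_eq_one_of_comul b u hΔu hu0
  have hup : u ^ p = 1 := by
    rw [← sub_eq_zero]
    apply hinj
    intro m
    rw [map_sub, map_pow, map_one, hu, ← map_pow, hzv, ← pow_mul, mul_comm, pow_mul, hζp,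
      one_pow, map_one, sub_self]
  have hv : u - 1 ≠ 0 := by
    intro h
    have h1 := hu m₀
    rw [sub_eq_zero.mp h, map_one, hzv] at h1
    have h2 : ζ ^ (π m₀).val = 1 :=
      (IsFractionRing.injective R K) (by rw [map_one]; exact h1.symm)
    exact hζ.pow_ne_one_of_pos_of_lt ((ZMod.val_ne_zero _).mpr hm₀) (ZMod.val_lt _) h2
  obtain ⟨ϖ, hϖ⟩ := IsDiscreteValuationRing.exists_irreducible R
  obtain ⟨n, x, hvx, hxm⟩ := exists_pow_smul_not_mem ϖ hϖ (u - 1) hv
  obtain ⟨mu, hmudef⟩ : ∃ mu, mu = ϖ ^ n := ⟨_, rfl⟩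
  rw [← hmudef] at hvx
  have hmu0 : mu ≠ 0 := by rw [hmudef]; exact pow_ne_zero n hϖ.ne_zero
  have hux : u = 1 + mu • x := by rw [← hvx]; ring
  have hxint : ∀ m, ∃ r : R, algebraMap R K r = χ m x := fun m =>
    IsIntegrallyClosed.algebraMap_eq_of_integral ((IsIntegral.of_finite R x).map (χ m))
  choose xr hxr using hxint
  have hlx : ∀ m, mu * xr m = z m - 1 := by
    intro m
    apply IsFractionRing.injective R K
    rw [map_mul, hxr, map_sub, map_one, ← hu m, hux, map_add, map_one, map_smul,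
      Algebra.smul_def]
    ring
  -- preimages of the classes `i`
  obtain ⟨mi, hmi⟩ : ∃ mi : ℕ → J, ∀ i : ℕ, π (mi i) = (i : ZMod p) := by
    refine ⟨fun i => (((i : ZMod p) * (π m₀)⁻¹).val) • m₀, fun i => ?_⟩
    rw [map_nsmul, nsmul_eq_mul, ZMod.natCast_zmod_val, mul_assoc, inv_mul_cancel₀ hm₀, mul_one]
  have hdiv : DivCond mu p :=
    divCond_of_roots p hp.pos ζ hζ mu hmu0 (fun i => xr (mi i)) (by
      intro i hi
      rw [hlx, hzv, hmi, ZMod.val_cast_of_lt hi])
  have hPx : Polynomial.aeval x (psiPoly mu p hdiv) = 0 := by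
    have h1 := aeval_psiPoly hdiv x
    rw [← Algebra.smul_def, ← Algebra.smul_def, ← hux, hup, sub_self] at h1
    exact smul_eq_zero_of_basis' b h1 (pow_ne_zero p hmu0)
  obtain ⟨c, hcdef⟩ : ∃ c : B, c = u ^ (p - 1) := ⟨_, rfl⟩
  have hc : (1 + mu • x) * c = 1 := by
    rw [← hux, hcdef, ← pow_succ', Nat.sub_add_cancel hp.one_le, hup]
  have hεx : Coalgebra.counit (R := R) x = 0 := by
    have h1 := hεu
    rw [hux, map_add, Bialgebra.counit_one, map_smul, smul_eq_mul] at h1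
    have h2 : mu * Coalgebra.counit (R := R) x = 0 := by
      have := sub_eq_zero.mpr h1
      rw [add_sub_cancel_left] at this
      exact this
    exact (mul_eq_zero.mp h2).resolve_left hmu0
  have hΔx : Coalgebra.comul (R := R) x = x ⊗ₜ[R] 1 + 1 ⊗ₜ[R] x + mu • (x ⊗ₜ[R] x) := by
    have h1 := hΔu
    rw [hux, map_add, Bialgebra.comul_one, map_smul] at h1
    have h2 : mu • (Coalgebra.comul (R := R) x -
        (x ⊗ₜ[R] 1 + 1 ⊗ₜ[R] x + mu • (x ⊗ₜ[R] x))) = 0 := by
      rw [smul_sub, sub_eq_zero]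
      have h3 : mu • Coalgebra.comul (R := R) x =
          (1 + mu • x) ⊗ₜ[R] (1 + mu • x) - (1 : B ⊗[R] B) := by
        rw [← h1]; ring
      rw [h3]
      simp only [TensorProduct.add_tmul, TensorProduct.tmul_add, Algebra.TensorProduct.one_def,
        ← TensorProduct.smul_tmul', TensorProduct.tmul_smul, smul_smul, smul_add]
      module
    exact sub_eq_zero.mp (smul_eq_zero_of_basis' (b.tensorProduct b) h2 hmu0)
  have hΔc : Coalgebra.comul (R := R) c = c ⊗ₜ[R] c := by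
    rw [hcdef, Bialgebra.comul_pow, hΔu, Algebra.TensorProduct.tmul_pow]
  have hεc : Coalgebra.counit (R := R) c = 1 := by
    rw [hcdef, Bialgebra.counit_pow, hεu, one_pow]
  obtain ⟨φ, hφ⟩ : ∃ φ : AK R mu p hdiv →ₐc[R] B,
      φ = phiHom mu p hdiv x c hc hPx hεx hεc hΔx hΔc := ⟨_, rfl⟩
  have hφt : φ AK.t = x := by rw [hφ]; exact phiHom_t ..
  have hdeg : p ≤ (minpoly 𝕜 ((1 : 𝕜) ⊗ₜ[R] x)).natDegree := by
    rcases Nat.eq_zero_or_pos n with hn | hn
    · have hl1 : mu = 1 := by rw [hmudef, hn, pow_zero]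
      have hxu : x = u - 1 := by rw [hux, hl1, one_smul]; ring
      have hg := isGroupLikeElem_one_tmul (k := 𝕜) u hΔu hεu
      have hxb : (1 : 𝕜) ⊗ₜ[R] x = (1 : 𝕜) ⊗ₜ[R] u - 1 := by
        rw [hxu, TensorProduct.tmul_sub, Algebra.TensorProduct.one_def]
      rw [hxb]
      apply natDegree_minpoly_sub_one_ge_of_groupLike p _ hg
      · rw [Algebra.TensorProduct.tmul_pow, one_pow, hup, Algebra.TensorProduct.one_def]
      · intro h1
        apply hxm
        rw [← LinearMap.ker_tensorProductMk, LinearMap.mem_ker, TensorProduct.mk_apply]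
        exact hxb.trans (by rw [h1]; exact sub_self _)
      · exact IsIntegral.of_finite _ _
    · have hlk : algebraMap R 𝕜 mu = 0 := by
        rw [hmudef, map_pow]
        have : algebraMap R 𝕜 ϖ = 0 := by
          refine (IsLocalRing.residue_eq_zero_iff ϖ).mpr ?_
          rw [hϖ.maximalIdeal_eq]
          exact Ideal.mem_span_singleton_self ϖ
        rw [this, zero_pow hn.ne']
      apply natDegree_minpoly_ge_of_primitive p _
        (comul_one_tmul_of_primitive x mu hlk hΔx) (counit_one_tmul x hεx)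
      · intro h1
        apply hxm
        rw [← LinearMap.ker_tensorProductMk, LinearMap.mem_ker, TensorProduct.mk_apply]
        exact h1
      · exact IsIntegral.of_finite _ _
  refine ⟨mu, hdiv, φ, hmu0, fun m => ?_, by rw [hφt]; exact hdeg⟩
  rw [hφt, ← hxr, ← map_mul, hlx, hzv, map_sub, map_one]

include hζ in
theorem quot_side (hinj : ∀ a : B, (∀ m, χ m a = 0) → a = 0)
    (hmul : ∀ m n a, χ (m + n) a = Algebra.TensorProduct.lift (χ m) (χ n)
      (fun _ _ => Commute.all _ _) (Coalgebra.comul (R := R) a))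
    (hdist : Function.Injective χ) (π : J →+ ZMod p) (m₀ : J) (hm₀ : π m₀ ≠ 0) :
    ∃ (mu : R) (h : DivCond mu p) (φ : AK R mu p h →ₐc[R] B), mu ≠ 0 ∧
      (∀ m, algebraMap R K mu * χ m (φ AK.t) = algebraMap R K (ζ ^ (π m).val) - 1) ∧
      Function.Injective φ ∧ (φ : AK R mu p h →+* B).Flat ∧
      (∀ (s : R) (y : B), s ≠ 0 → s • y ∈ Ideal.span {φ AK.t} → y ∈ Ideal.span {φ AK.t}) := by
  classical
  obtain ⟨mu, h, φ, hmu, hval, hdeg⟩ := prep p ζ hζ χ hinj hmul hdist π m₀ hm₀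
  refine ⟨mu, h, φ, hmu, hval, ?_⟩
  have hp : p.Prime := Fact.out
  obtain ⟨ϖ, hϖ⟩ := IsDiscreteValuationRing.exists_irreducible R
  haveI := Groth.Agent.Lib.Helper24GKFree.free hp.pos h
  haveI := Groth.Agent.Lib.Helper24GKFree.finite hp.pos h
  have hfr : Module.finrank R (AK R mu p h) = p :=
    Groth.Agent.Lib.Helper24GKFree.finrank_eq hp.pos h
  obtain ⟨ψb, hψb⟩ : ∃ ψb : 𝕜 ⊗[R] AK R mu p h →ₐc[𝕜] 𝕜 ⊗[R] B,
      ψb = Bialgebra.TensorProduct.map (BialgHom.id 𝕜 𝕜) φ := ⟨_, rfl⟩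
  have hψbt : ∀ (a : 𝕜) (c : AK R mu p h), ψb (a ⊗ₜ[R] c) = a ⊗ₜ[R] φ c := by
    intro a c
    rw [hψb, Bialgebra.TensorProduct.map_tmul]
    rfl
  obtain ⟨xb, hxb⟩ : ∃ xb : 𝕜 ⊗[R] B, xb = (1 : 𝕜) ⊗ₜ[R] φ AK.t := ⟨_, rfl⟩
  obtain ⟨tb, htb⟩ : ∃ tb : 𝕜 ⊗[R] AK R mu p h, tb = (1 : 𝕜) ⊗ₜ[R] AK.t := ⟨_, rfl⟩
  rw [← hxb] at hdeg
  have hli : LinearIndependent 𝕜 (fun i : Fin p => xb ^ (i : ℕ)) :=
    (linearIndependent_pow (K := 𝕜) xb).comp (Fin.castLE hdeg) (Fin.castLE_injective _)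
  have htx : ∀ i : ℕ, ψb (tb ^ i) = xb ^ i := by
    intro i
    rw [map_pow, htb, hψbt, hxb]
  have hli_t : LinearIndependent 𝕜 (fun i : Fin p => tb ^ (i : ℕ)) := by
    apply LinearIndependent.of_comp ((ψb : 𝕜 ⊗[R] AK R mu p h →ₐ[𝕜] 𝕜 ⊗[R] B).toLinearMap)
    have : ((ψb : 𝕜 ⊗[R] AK R mu p h →ₐ[𝕜] 𝕜 ⊗[R] B).toLinearMap ∘
        fun i : Fin p => tb ^ (i : ℕ)) = fun i : Fin p => xb ^ (i : ℕ) := by
      funext i
      exact htx i
    rw [this]
    exact hli
  have hspan_t : Submodule.span 𝕜 (Set.range fun i : Fin p => tb ^ (i : ℕ)) = ⊤ :=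
    hli_t.span_eq_top_of_card_eq_finrank' (by
      rw [Fintype.card_fin, Module.finrank_baseChange, hfr])
  have hinjb : Function.Injective ψb := by
    rw [injective_iff_map_eq_zero]
    intro z hz
    have hzmem : z ∈ Submodule.span 𝕜 (Set.range fun i : Fin p => tb ^ (i : ℕ)) := by
      rw [hspan_t]; trivial
    obtain ⟨κ, rfl⟩ := (Submodule.mem_span_range_iff_exists_fun 𝕜).mp hzmem
    rw [map_sum] at hz
    have hz' : ∑ i : Fin p, κ i • xb ^ (i : ℕ) = 0 := by
      rw [← hz]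
      refine Finset.sum_congr rfl fun i _ => ?_
      rw [map_smul, htx]
    have hκ := Fintype.linearIndependent_iff.mp hli κ hz'
    refine Finset.sum_eq_zero fun i _ => ?_
    rw [hκ i, zero_smul]
  have hff := Groth.Agent.Lib.Helper25.faithfullyFlat_of_injective ψb hinjb
  letI algCB : Algebra (AK R mu p h) B := (φ : AK R mu p h →+* B).toAlgebra
  have halg : ∀ c : AK R mu p h, algebraMap (AK R mu p h) B c = φ c := fun _ => rfl
  haveI : IsScalarTower R (AK R mu p h) B :=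
    IsScalarTower.of_algebraMap_eq (fun r => (AlgHomClass.commutes φ r).symm)
  have heq : (ψb : 𝕜 ⊗[R] AK R mu p h →+* 𝕜 ⊗[R] B) =
      (Algebra.TensorProduct.map (AlgHom.id 𝕜 𝕜)
        (IsScalarTower.toAlgHom R (AK R mu p h) B)).toRingHom := by
    apply RingHom.ext
    intro z
    induction z using TensorProduct.induction_on with
    | zero => rw [map_zero, map_zero]
    | tmul a c =>
      change ψb (a ⊗ₜ[R] c) = Algebra.TensorProduct.map (AlgHom.id 𝕜 𝕜)
        (IsScalarTower.toAlgHom R (AK R mu p h) B) (a ⊗ₜ[R] c)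
      rw [hψbt, Algebra.TensorProduct.map_tmul]
      rfl
    | add x y hx hy => rw [map_add, map_add, hx, hy]
  haveI hproj : Module.Projective (AK R mu p h) B :=
    projective_of_residue_flat (by rw [← heq]; exact hff.flat)
  have hflat : (φ : AK R mu p h →+* B).Flat := (inferInstance : Module.Flat (AK R mu p h) B)
  -- injectivity
  have hinjφ : Function.Injective φ := by
    rw [injective_iff_map_eq_zero]
    intro c hc
    by_contra hc0
    obtain ⟨n, c₁, hcc₁, hc₁⟩ := exists_pow_smul_not_mem ϖ hϖ c hc0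
    have h1 : (1 : 𝕜) ⊗ₜ[R] c₁ = (0 : 𝕜 ⊗[R] AK R mu p h) := by
      apply hinjb
      rw [hψbt, map_zero]
      have h0 : ϖ ^ n • φ c₁ = 0 := by rw [← map_smul, ← hcc₁, hc]
      rw [(smul_eq_zero_iff_right (pow_ne_zero n hϖ.ne_zero)).mp h0, TensorProduct.tmul_zero]
    apply hc₁
    rw [← LinearMap.ker_tensorProductMk, LinearMap.mem_ker, TensorProduct.mk_apply]
    exact h1
  -- torsion freeness of the quotient
  have hC : ∀ c c' : AK R mu p h, algebraMap R (AK R mu p h) ϖ * c = AK.t * c' →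
      ∃ c'' : AK R mu p h, c = AK.t * c'' := by
    intro c c' hcc
    have h1 := congrArg (Bialgebra.counitAlgHom R (AK R mu p h)) hcc
    have ht0 : Bialgebra.counitAlgHom R (AK R mu p h) (AK.t : AK R mu p h) = 0 :=
      AK.counit_t (R := R) (lam := mu) (N := p) (h := h)
    rw [map_mul, map_mul, AlgHom.commutes, ht0, zero_mul] at h1
    have h2 : Coalgebra.counit (R := R) c = 0 := by
      rcases mul_eq_zero.mp h1 with h3 | h3
      · exact absurd h3 hϖ.ne_zero
      · exact h3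
    have h3 := sub_counit_mem mu p h c
    rw [h2, map_zero, sub_zero] at h3
    obtain ⟨c'', hc''⟩ := Ideal.mem_span_singleton'.mp h3
    exact ⟨c'', by rw [← hc'', mul_comm]⟩
  have hTFϖ : ∀ y : B, ϖ • y ∈ Ideal.span {φ AK.t} → y ∈ Ideal.span {φ AK.t} := by
    intro y hy
    obtain ⟨w, hw⟩ := Ideal.mem_span_singleton'.mp hy
    have h4 : (algebraMap R (AK R mu p h) ϖ) • y = (AK.t : AK R mu p h) • w := by
      rw [Algebra.smul_def, Algebra.smul_def, halg, halg, AlgHomClass.commutes,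
        ← Algebra.smul_def, ← hw, mul_comm]
    obtain ⟨w', hw'⟩ := exists_smul_of_smul_eq (algebraMap R (AK R mu p h) ϖ) AK.t hC y w h4
    rw [hw', Algebra.smul_def, halg]
    exact Ideal.mem_span_singleton'.mpr ⟨w', mul_comm _ _⟩
  have hTFpow : ∀ (n : ℕ) (y : B), ϖ ^ n • y ∈ Ideal.span {φ AK.t} →
      y ∈ Ideal.span {φ AK.t} := by
    intro n
    induction n with
    | zero => intro y hy; rwa [pow_zero, one_smul] at hy
    | succ n ih =>
      intro y hy
      apply ih
      apply hTFϖ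
      rwa [smul_smul, ← pow_succ']
  refine ⟨hinjφ, hflat, ?_⟩
  intro s y hs hy
  obtain ⟨n, v, rfl⟩ := IsDiscreteValuationRing.eq_unit_mul_pow_irreducible hs hϖ
  apply hTFpow n
  have h5 := Submodule.smul_of_tower_mem (Ideal.span {φ AK.t}) ((v⁻¹ : Rˣ) : R) hy
  rwa [smul_smul, ← mul_assoc, Units.inv_mul, one_mul] at h5

end Main

end Groth.Agent.Lib.R2H7.SS2Quot
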