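import Mathlib
import Groth.Prelude.Def_SekSuwa2
import Groth.Agent.Lib.R2H7SSLin
import Groth.Agent.Lib.R2H7SS2Quot
import Groth.Agent.Lib.R2H7SS2Ker

/-!
# R2H7SS2Alg: finite flat Hopf algebras of rank `p²` over a DVR with constant generic fibre are
extensions of `AK R mu p` by `AK R lam p` (Hopf algebra form)

`exists_pi_iota` : an additive group of order `p²` has a surjection `π` onto `ℤ/p` whose kernel is the
image of an injective `ι : ℤ/p → J`.

`alg_main` : let `R` be a DVR of residue characteristic `p` containing a primitive `p²`-th root of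
unity, `B` a finite flat Hopf algebra over `R`, `χ : J → Hom(B, K)` a jointly injective multiplicative
injective family of characters indexed by a group of order `p²`.  Then there are `λ, μ ≠ 0`, an injective
flat bialgebra map `φ : AK R μ p → B` and a surjective bialgebra map `q : B → AK R λ p` with kernel
the ideal generated by `φ(t)`.
-/

set_option autoImplicit false

namespace Groth.Agent.Lib.R2H7.SS2Alg

open scoped TensorProduct
open Polynomial SekSuwa
open Groth.Agent.Lib.R2H7.SSLin Groth.Agent.Lib.R2H7.SS2Quot Groth.Agent.Lib.R2H7.SS2Ker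

universe u

theorem exists_pi_iota (p : ℕ) [hp : Fact p.Prime] {J : Type} [AddGroup J] [Fintype J]
    (hcard : Fintype.card J = p ^ 2) :
    ∃ (π : J →+ ZMod p) (ι : ZMod p →+ J) (m₀ : J), π m₀ ≠ 0 ∧ Function.Injective ι ∧
      (∀ a, π (ι a) = 0) ∧ (∀ m, π m = 0 → ∃ a, ι a = m) := by
  classical
  have hp1 : p.Prime := hp.out
  haveI : NeZero p := ⟨hp1.ne_zero⟩
  haveI : Fact (1 < p) := ⟨hp1.one_lt⟩
  have hcomm : ∀ a b : J, a + b = b + a := by
    have h1 : Nat.card (Multiplicative J) = p ^ 2 := by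
      rw [Nat.card_eq_fintype_card, Fintype.card_multiplicative, hcard]
    have h2 := (IsPGroup.isMulCommutative_of_card_eq_prime_sq h1).is_comm.comm
    intro a b
    exact h2 (Multiplicative.ofAdd a) (Multiplicative.ofAdd b)
  obtain ⟨g, hg⟩ := exists_prime_addOrderOf_dvd_card (G := J) p
    (by rw [hcard]; exact dvd_pow_self p two_ne_zero)
  obtain ⟨H, hH⟩ : ∃ H : AddSubgroup J, H = AddSubgroup.zmultiples g := ⟨_, rfl⟩
  haveI : H.Normal := ⟨fun n hn a => by rw [hcomm a n, add_neg_cancel_right]; exact hn⟩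
  have hHcard : Nat.card H = p := by rw [hH, Nat.card_zmultiples, hg]
  have hQcard : Nat.card (J ⧸ H) = p := by
    have h1 := AddSubgroup.card_eq_card_quotient_mul_card_addSubgroup H
    rw [Nat.card_eq_fintype_card, hcard, hHcard, sq] at h1
    exact (Nat.eq_of_mul_eq_mul_right hp1.pos h1).symm
  have hcyc : IsAddCyclic (J ⧸ H) := isAddCyclic_of_prime_card hQcard
  obtain ⟨e⟩ : Nonempty (ZMod p ≃+ (J ⧸ H)) :=
    ⟨(ZMod.ringEquivCongr hQcard.symm).toAddEquiv.trans (zmodAddCyclicAddEquiv hcyc)⟩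
  obtain ⟨π, hπ⟩ : ∃ π : J →+ ZMod p, ∀ m, π m = e.symm (QuotientAddGroup.mk' H m) :=
    ⟨e.symm.toAddMonoidHom.comp (QuotientAddGroup.mk' H), fun m => rfl⟩
  have hπ0 : ∀ m, π m = 0 ↔ m ∈ H := by
    intro m
    rw [hπ, AddEquiv.map_eq_zero_iff, QuotientAddGroup.mk'_apply, QuotientAddGroup.eq_zero_iff]
  have hpg : (p : ℤ) • g = 0 := by
    rw [natCast_zsmul, ← hg, addOrderOf_nsmul_eq_zero]
  obtain ⟨ι, hι⟩ : ∃ ι : ZMod p →+ J, ∀ k : ℤ, ι (k : ZMod p) = k • g :=
    ⟨ZMod.lift p ⟨zmultiplesHom J g, hpg⟩, fun k => by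
      rw [ZMod.lift_coe]; rfl⟩
  obtain ⟨m₀, hm₀⟩ := QuotientAddGroup.mk'_surjective H (e 1)
  refine ⟨π, ι, m₀, ?_, ?_, ?_, ?_⟩
  · rw [hπ, hm₀, e.symm_apply_apply]
    exact one_ne_zero
  · rw [injective_iff_map_eq_zero]
    intro a ha
    have h1 : ι a = (a.val : ℤ) • g := by
      rw [← hι, Int.cast_natCast, ZMod.natCast_zmod_val]
    rw [h1, natCast_zsmul] at ha
    have h2 : p ∣ a.val := by
      have h4 := addOrderOf_dvd_of_nsmul_eq_zero ha
      rwa [hg] at h4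
    have h3 : a.val = 0 := Nat.eq_zero_of_dvd_of_lt h2 (ZMod.val_lt a)
    exact (ZMod.val_eq_zero a).mp h3
  · intro a
    rw [hπ0, hH]
    have h1 : ι a = (a.val : ℤ) • g := by
      rw [← hι, Int.cast_natCast, ZMod.natCast_zmod_val]
    rw [h1]
    exact AddSubgroup.zsmul_mem_zmultiples g _
  · intro m hm
    rw [hπ0, hH, AddSubgroup.mem_zmultiples_iff] at hm
    obtain ⟨k, hk⟩ := hm
    exact ⟨(k : ZMod p), by rw [hι, hk]⟩

section Main

variable {R : Type u} [CommRing R] [IsDomain R] [IsDiscreteValuationRing R]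
  {K : Type u} [Field K] [Algebra R K] [IsFractionRing R K]
  (p : ℕ) [hpF : Fact p.Prime] [CharP (IsLocalRing.ResidueField R) p]
  (ζ : R) (hζ : IsPrimitiveRoot ζ (p ^ 2))
  {B : Type u} [CommRing B] [HopfAlgebra R B] [Module.Finite R B] [Module.Flat R B]
  {J : Type} [Fintype J] [AddGroup J]
  (χ : J → (B →ₐ[R] K))

include hζ in
theorem alg_main (hcard : Fintype.card J = p ^ 2)
    (hinj : ∀ a : B, (∀ m, χ m a = 0) → a = 0)
    (hmul : ∀ m n a, χ (m + n) a = Algebra.TensorProduct.lift (χ m) (χ n)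
      (fun _ _ => Commute.all _ _) (Coalgebra.comul (R := R) a))
    (hdist : Function.Injective χ) :
    ∃ (lam mu : R) (h₁ : DivCond lam p) (h₂ : DivCond mu p)
      (φ : AK R mu p h₂ →ₐc[R] B) (q : B →ₐc[R] AK R lam p h₁),
      lam ≠ 0 ∧ mu ≠ 0 ∧ Function.Injective φ ∧ (φ : AK R mu p h₂ →+* B).Flat ∧
      Function.Surjective q ∧ (∀ y, q y = 0 ↔ y ∈ Ideal.span {φ AK.t}) := by
  classical
  have hp : p.Prime := Fact.out
  haveI : NeZero p := ⟨hp.ne_zero⟩
  have hζp : IsPrimitiveRoot (ζ ^ p) p := hζ.pow (pow_pos hp.pos 2) (sq p)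
  obtain ⟨π, ι, m₀, hm₀, hιinj, hπι, hker⟩ := exists_pi_iota p hcard
  obtain ⟨mu, h₂, φ, hmu, hval, hinjφ, hflat, hTF⟩ :=
    quot_side p (ζ ^ p) hζp χ hinj hmul hdist π m₀ hm₀
  have hεx : Coalgebra.counit (R := R) (φ AK.t) = 0 := by
    rw [CoalgHomClass.counit_comp_apply]
    exact AK.counit_t
  have hΔx : Coalgebra.comul (R := R) (φ AK.t) =
      φ AK.t ⊗ₜ[R] 1 + 1 ⊗ₜ[R] φ AK.t + mu • (φ AK.t ⊗ₜ[R] φ AK.t) := by
    rw [← CoalgHomClass.map_comp_comul_apply, AK.comul_t, map_add, map_add, map_smul,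
      TensorProduct.map_tmul, TensorProduct.map_tmul, TensorProduct.map_tmul]
    simp only [LinearMap.coe_coe, map_one]
  have hmuK : algebraMap R K mu ≠ 0 := algebraMap_ne_zero hmu
  have hx0 : ∀ a, χ (ι a) (φ AK.t) = 0 := by
    intro a
    have h1 := hval (ι a)
    rw [hπι, ZMod.val_zero, pow_zero, map_one, sub_self] at h1
    exact (mul_eq_zero.mp h1).resolve_left hmuK
  have hx1 : ∀ m, (∀ a, ι a ≠ m) → χ m (φ AK.t) ≠ 0 := by
    intro m hm h0
    have hπm : π m ≠ 0 := fun h => by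
      obtain ⟨a, ha⟩ := hker m h
      exact hm a ha
    have h1 := hval m
    rw [h0, mul_zero] at h1
    have h2 : (ζ ^ p) ^ (π m).val = 1 :=
      IsFractionRing.injective R K (by rw [map_one]; exact sub_eq_zero.mp h1.symm)
    exact hζp.pow_ne_one_of_pos_of_lt ((ZMod.val_ne_zero _).mpr hπm) (ZMod.val_lt _) h2
  obtain ⟨lam, h₁, q, hlam, hqs, hqk⟩ :=
    ker_side p (ζ ^ p) hζp χ hinj hmul hdist mu (φ AK.t) hεx hΔx ι hιinj hx0 hx1 hTF
  exact ⟨lam, mu, h₁, h₂, φ, q, hlam, hmu, hinjφ, hflat, hqs, hqk⟩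

end Main

end Groth.Agent.Lib.R2H7.SS2Alg
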