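import Mathlib
import Groth.Prelude.Def_SekSuwa2
import Groth.Prelude.Def_NonAbH2
import Groth.Prelude.Def_AlgGrp
import Groth.Agent.Lib.Helper11KerPair

/-!
# R2H7SS2Sch: exact sequences of affine group schemes from Hopf algebra data

`isPushout`, `isKernel`, `isExactSeq_specHom` : let `φ : C → B`, `q : B → D` be bialgebra maps of
commutative Hopf algebras over `R`, with the augmentation ideal of `C` generated by `t`, `q` surjective
with kernel `(φ t)`, and `φ` injective, integral, flat and of finite presentation.  Then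
`1 → Spec D → Spec B → Spec C → 1` is exact for the fppf topology (`NonAbH1.IsExactSeq`).
-/

set_option autoImplicit false

namespace Groth.Agent.Lib.R2H7.SS2Sch

open CategoryTheory CategoryTheory.Limits AlgebraicGeometry SekSuwa MonObj
  CartesianMonoidalCategory MonoidalCategory

universe u

section Main

variable {R : Type u} [CommRing R] {C B D : Type u} [CommRing C] [CommRing B] [CommRing D]
  [HopfAlgebra R C] [HopfAlgebra R B] [HopfAlgebra R D]
  (φ : C →ₐc[R] B) (q : B →ₐc[R] D) (t : C)

theorem q_comp_phi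
    (hC : ∀ c : C, c - algebraMap R C (Coalgebra.counit (R := R) c) ∈ Ideal.span {t})
    (hqk : ∀ y, q y = 0 ↔ y ∈ Ideal.span {φ t}) (c : C) :
    q (φ c) = algebraMap R D (Coalgebra.counit (R := R) c) := by
  have h1 : φ (c - algebraMap R C (Coalgebra.counit (R := R) c)) ∈ Ideal.span {φ t} := by
    obtain ⟨w, hw⟩ := Ideal.mem_span_singleton'.mp (hC c)
    rw [← hw, map_mul]
    exact Ideal.mul_mem_left _ _ (Ideal.subset_span rfl)
  have h2 := (hqk _).mpr h1
  rw [map_sub, map_sub, sub_eq_zero, AlgHomClass.commutes, AlgHomClass.commutes] at h2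
  exact h2

theorem comp_eq
    (hC : ∀ c : C, c - algebraMap R C (Coalgebra.counit (R := R) c) ∈ Ideal.span {t})
    (hqk : ∀ y, q y = 0 ↔ y ∈ Ideal.span {φ t}) :
    q.comp φ = (Bialgebra.unitBialgHom R D).comp (Bialgebra.counitBialgHom R C) := by
  apply BialgHom.ext
  intro c
  exact q_comp_phi φ q t hC hqk c

theorem spec_comp_eq_one
    (hC : ∀ c : C, c - algebraMap R C (Coalgebra.counit (R := R) c) ∈ Ideal.span {t})
    (hqk : ∀ y, q y = 0 ↔ y ∈ Ideal.span {φ t}) :
    specHom q ≫ specHom φ = 1 := by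
  rw [← specHom_comp, comp_eq φ q t hC hqk, specHom_trivial]

theorem isPushout
    (hC : ∀ c : C, c - algebraMap R C (Coalgebra.counit (R := R) c) ∈ Ideal.span {t})
    (ht : Coalgebra.counit (R := R) t = 0)
    (hqs : Function.Surjective q) (hqk : ∀ y, q y = 0 ↔ y ∈ Ideal.span {φ t}) :
    IsPushout (CommRingCat.ofHom (φ : C →+* B))
      (CommRingCat.ofHom ((Bialgebra.counitAlgHom R C : C →ₐ[R] R) : C →+* R))
      (CommRingCat.ofHom (q : B →+* D))
      (CommRingCat.ofHom (algebraMap R D)) := by
  have w : CommRingCat.ofHom (φ : C →+* B) ≫ CommRingCat.ofHom (q : B →+* D) =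
      CommRingCat.ofHom ((Bialgebra.counitAlgHom R C : C →ₐ[R] R) : C →+* R) ≫
        CommRingCat.ofHom (algebraMap R D) := by
    ext c
    exact q_comp_phi φ q t hC hqk c
  have hs : ∀ s : PushoutCocone (CommRingCat.ofHom (φ : C →+* B))
      (CommRingCat.ofHom ((Bialgebra.counitAlgHom R C : C →ₐ[R] R) : C →+* R)), ∀ c : C,
      s.inl.hom (φ c) = s.inr.hom (Bialgebra.counitAlgHom R C c) := by
    intro s c
    have := congrArg (fun f => f.hom c) s.condition
    exact this
  have hker : ∀ s : PushoutCocone (CommRingCat.ofHom (φ : C →+* B))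
      (CommRingCat.ofHom ((Bialgebra.counitAlgHom R C : C →ₐ[R] R) : C →+* R)),
      RingHom.ker (q : B →+* D) ≤ RingHom.ker s.inl.hom := by
    intro s y hy
    have hy0 : q y = 0 := hy
    obtain ⟨a, rfl⟩ := Ideal.mem_span_singleton'.mp ((hqk y).mp hy0)
    rw [RingHom.mem_ker, map_mul, hs s]
    have : Bialgebra.counitAlgHom R C t = 0 := ht
    rw [this, map_zero, mul_zero]
  refine IsPushout.of_isColimit' ⟨w⟩ (PushoutCocone.IsColimit.mk w
    (fun s => CommRingCat.ofHom ((q : B →+* D).liftOfSurjective hqs ⟨s.inl.hom, hker s⟩))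
    ?_ ?_ ?_)
  · intro s
    ext y
    exact RingHom.liftOfSurjective_comp_apply (q : B →+* D) hqs ⟨s.inl.hom, hker s⟩ y
  · intro s
    ext r
    change ((q : B →+* D).liftOfSurjective hqs ⟨s.inl.hom, hker s⟩) (algebraMap R D r) =
      s.inr.hom r
    have h1 : algebraMap R D r = (q : B →+* D) (algebraMap R B r) :=
      (AlgHomClass.commutes q r).symm
    rw [h1, RingHom.liftOfSurjective_comp_apply]
    change s.inl.hom (algebraMap R B r) = _
    have h2 : algebraMap R B r = φ (algebraMap R C r) := (AlgHomClass.commutes φ r).symm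
    rw [h2, hs s, AlgHom.commutes]
    rfl
  · intro s m hm1 _
    ext d
    obtain ⟨y, rfl⟩ := hqs d
    have := congrArg (fun f => f.hom y) hm1
    exact this.trans
      (RingHom.liftOfSurjective_comp_apply (q : B →+* D) hqs ⟨s.inl.hom, hker s⟩ y).symm

theorem isKernel
    (hC : ∀ c : C, c - algebraMap R C (Coalgebra.counit (R := R) c) ∈ Ideal.span {t})
    (ht : Coalgebra.counit (R := R) t = 0)
    (hqs : Function.Surjective q) (hqk : ∀ y, q y = 0 ↔ y ∈ Ideal.span {φ t}) :
    AlgGrp.IsKernel (specHom q) (specHom φ) := by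
  unfold AlgGrp.IsKernel
  have comm : specHom q ≫ specHom φ =
      toUnit ((Spec (.of D)).asOver (Spec (.of R))) ≫
        η[(Spec (.of C)).asOver (Spec (.of R))] := by
    rw [spec_comp_eq_one φ q t hC hqk, Hom.one_def]
  refine IsPullback.of_map (Over.forget _) comm ?_
  have hu : (toUnit ((Spec (.of D)).asOver (Spec (.of R)))).left =
      Spec.map (CommRingCat.ofHom (algebraMap R D)) := by
    rw [← Category.comp_id (toUnit ((Spec (.of D)).asOver (Spec (.of R)))).left]
    exact Over.w (toUnit ((Spec (.of D)).asOver (Spec (.of R))))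
  have := isPullback_SpecMap_of_isPushout _ _ _ _ (isPushout φ q t hC ht hqs hqk)
  simp only [Over.forget_obj, Over.forget_map]
  rw [hu]
  exact this

theorem isExactSeq_specHom
    (hC : ∀ c : C, c - algebraMap R C (Coalgebra.counit (R := R) c) ∈ Ideal.span {t})
    (ht : Coalgebra.counit (R := R) t = 0)
    (hqs : Function.Surjective q) (hqk : ∀ y, q y = 0 ↔ y ∈ Ideal.span {φ t})
    (hflat : (φ : C →+* B).Flat) (hfp : (φ : C →+* B).FinitePresentation)
    (hint : (φ : C →+* B).IsIntegral) (hinjφ : Function.Injective φ) :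
    NonAbH1.IsExactSeq Scheme.fppfPrecoverage (specHom q) (specHom φ) := by
  refine ⟨inferInstance, inferInstance, spec_comp_eq_one φ q t hC hqk,
    Groth.Agent.Lib.Helper11KerPair.isPullback_of_isKernel _ _ (isKernel φ q t hC ht hqs hqk), ?_⟩
  haveI h1 : Flat (specHom φ).left := by
    have : Flat (Spec.map (CommRingCat.ofHom (φ : C →+* B))) :=
      (HasRingHomProperty.Spec_iff (P := @Flat)).mpr hflat
    exact this
  haveI h2 : LocallyOfFinitePresentation (specHom φ).left := by
    have : LocallyOfFinitePresentation (Spec.map (CommRingCat.ofHom (φ : C →+* B))) :=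
      (HasRingHomProperty.Spec_iff (P := @LocallyOfFinitePresentation)).mpr hfp
    exact this
  haveI h3 : Surjective (specHom φ).left := by
    have : Surjective (Spec.map (CommRingCat.ofHom (φ : C →+* B))) := by
      rw [surjective_iff]
      exact RingHom.IsIntegral.comap_surjective hint hinjφ
    exact this
  refine ⟨Presieve.singleton (specHom φ).left, Scheme.Hom.singleton_mem_fppfPrecoverage _, ?_⟩
  intro S' f hf
  cases hf
  exact ⟨𝟙 _, Category.id_comp _⟩

end Main

end Groth.Agent.Lib.R2H7.SS2Sch
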