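import Mathlib
import Groth.Prelude.Def_TwC
import Groth.Agent.Lib.Helper27GaGm

/-!
# R2H7SSTrans: from a constant generic fibre of an affine group scheme to characters of its
Hopf algebra

`G` a group scheme over `Spec R` identified (as a group) with `Spec A` for a Hopf algebra `A`
(`u`, `v` inverse homomorphisms), `K` an `R`-algebra, `e` an isomorphism of the base change of `G` to
`Spec K` with a constant scheme `M_K`.

`pts` (the `K`-points of `Spec A` attached to the points `TwC.pt m` of `M_K`), `chi` (the
corresponding characters `A →ₐ[R] K`), `pts_mul`, `chi_mul` (multiplicativity, under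
`TwC.IsConstGrp`), `chi_injective`, `chi_jointly_injective` (a function on `Spec A` vanishing at all
the points `chi m` is zero, when `A` is flat and `R → K` injective).
-/

set_option autoImplicit false

namespace Groth.Agent.Lib.R2H7.SSTrans

open CategoryTheory CategoryTheory.Limits MonoidalCategory CartesianMonoidalCategory MonObj GrpObj
  AlgebraicGeometry
open scoped TensorProduct
open Groth.Agent.Lib.Helper27.GaGm

universe u

section Pt

variable (S : Scheme.{u}) [Nonempty S] (M : Type) [Small.{u} M]

theorem pt_injective : Function.Injective (TwC.pt S M) := by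
  intro m n hmn
  by_contra hne
  have h1 : Sigma.ι (fun _ : M => S) m = Sigma.ι (fun _ : M => S) n :=
    congrArg Over.Hom.left hmn
  have hsq : CommSq (𝟙 S) (𝟙 S) (Sigma.ι (fun _ : M => S) m) (Sigma.ι (fun _ : M => S) n) :=
    ⟨by rw [Category.id_comp, Category.id_comp, h1]⟩
  have := isEmpty_of_commSq_sigmaι_of_ne (g := fun _ : M => S) hsq hne
  exact (not_isEmpty_of_nonempty S) this

end Pt

section Trans

variable {R : Type u} [CommRing R] {K : Type u} [CommRing K] [Algebra R K]
  {A : Type u} [CommRing A] [HopfAlgebra R A]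
  (G : Over (Spec (CommRingCat.of R))) [GrpObj G]
  (u : (Spec (CommRingCat.of A)).asOver (Spec (CommRingCat.of R)) ⟶ G)
  (v : G ⟶ (Spec (CommRingCat.of A)).asOver (Spec (CommRingCat.of R)))
  {M : Type} [Group M] [Small.{u} M]
  (e : Red.bc (Spec.map (CommRingCat.ofHom (algebraMap R K))) G ≅
    TwC.const (Spec (CommRingCat.of K)) M)

variable (R K) in
/-- the comparison of the two ways of seeing `Spec K` over `Spec R` -/
noncomputable def jIso : (Spec (CommRingCat.of K)).asOver (Spec (CommRingCat.of R)) ≅
    (Over.map (Spec.map (CommRingCat.ofHom (algebraMap R K)))).obj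
      (𝟙_ (Over (Spec (CommRingCat.of K)))) :=
  Over.isoMk (Iso.refl _) (by
    simp only [Iso.refl_hom, Category.id_comp, Over.map_obj_hom]
    erw [Category.id_comp]
    rfl)

theorem jIso_hom_left : (jIso R K).hom.left = 𝟙 (Spec (CommRingCat.of K)) := rfl

/-- the `K`-points of `Spec A` coming from the points of the constant scheme -/
noncomputable def pts (m : M) : (Spec (CommRingCat.of K)).asOver (Spec (CommRingCat.of R)) ⟶
    (Spec (CommRingCat.of A)).asOver (Spec (CommRingCat.of R)) :=
  (jIso R K).hom ≫ adjEquiv (Spec.map (CommRingCat.ofHom (algebraMap R K))) G _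
    (TwC.pt _ M m ≫ e.inv) ≫ v

theorem pts_mul [IsMonHom v]
    (he : TwC.IsConstGrp M (Red.bc (Spec.map (CommRingCat.ofHom (algebraMap R K))) G) e)
    (m n : M) : pts G v e (m * n) = pts G v e m * pts G v e n := by
  unfold pts
  rw [← he m n, adjEquiv_mul, MonObj.mul_comp, MonObj.comp_mul]

theorem pts_left (m : M) : (pts G v e m).left =
    Sigma.ι (fun _ : M => Spec (CommRingCat.of K)) m ≫ e.inv.left ≫
      pullback.fst G.hom (Spec.map (CommRingCat.ofHom (algebraMap R K))) ≫ v.left := by
  unfold pts
  rw [Over.comp_left, Over.comp_left, adjEquiv_left, Over.comp_left, jIso_hom_left]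
  erw [Category.id_comp]

/-- the characters of `A` with values in `K` coming from the points of the constant scheme -/
noncomputable def chi (m : M) : A →ₐ[R] K :=
  ((Spec.mapMulEquiv (R := R) (S := A) (T := K)).symm (pts G v e m)).ofConv

theorem mapMulEquiv_chi (m : M) :
    Spec.mapMulEquiv (R := R) (S := A) (T := K) (WithConv.toConv (chi G v e m)) = pts G v e m := by
  unfold chi
  rw [WithConv.toConv_ofConv, MulEquiv.apply_symm_apply]

theorem pts_left_eq (m : M) : (pts G v e m).left =
    Spec.map (CommRingCat.ofHom (chi G v e m).toRingHom) := by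
  rw [← mapMulEquiv_chi]
  rfl

theorem chi_mul [IsMonHom v]
    (he : TwC.IsConstGrp M (Red.bc (Spec.map (CommRingCat.ofHom (algebraMap R K))) G) e)
    (m n : M) (a : A) :
    chi G v e (m * n) a = Algebra.TensorProduct.lift (chi G v e m) (chi G v e n)
      (fun _ _ => Commute.all _ _) (Coalgebra.comul (R := R) a) := by
  have h1 : WithConv.toConv (chi G v e (m * n)) =
      WithConv.toConv (chi G v e m) * WithConv.toConv (chi G v e n) := by
    apply (Spec.mapMulEquiv (R := R) (S := A) (T := K)).injective
    rw [map_mul, mapMulEquiv_chi, mapMulEquiv_chi, mapMulEquiv_chi, pts_mul G v e he]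
  have h2 := AlgHom.convMul_apply (WithConv.toConv (chi G v e m))
    (WithConv.toConv (chi G v e n)) a
  rw [← h1] at h2
  exact h2

include u in
theorem chi_injective [Nontrivial K] (hvu : v ≫ u = 𝟙 G) :
    Function.Injective (chi G v e) := by
  intro m n hmn
  have h1 : pts G v e m = pts G v e n := by
    rw [← mapMulEquiv_chi, ← mapMulEquiv_chi, hmn]
  unfold pts at h1
  rw [cancel_epi] at h1
  have h2 := congrArg (fun t => t ≫ u) h1
  simp only [Category.assoc, hvu, Category.comp_id] at h2
  have h3 := (adjEquiv (Spec.map (CommRingCat.ofHom (algebraMap R K))) G _).injective h2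
  rw [cancel_mono] at h3
  exact pt_injective _ M h3

end Trans

section Joint

variable {B : Type u} [CommRing B]

theorem fn_id_eq_zero (b : B) (h : fn (𝟙 (Spec (CommRingCat.of B))) b = 0) : b = 0 := by
  unfold fn at h
  have h2 := congrArg (fun t => (Scheme.ΓSpecIso (CommRingCat.of B)).hom t) h
  simp only [Scheme.Hom.id_appTop, map_zero] at h2
  have h3 : (Scheme.ΓSpecIso (CommRingCat.of B)).hom
      ((Scheme.ΓSpecIso (CommRingCat.of B)).inv b) = b :=
    congrArg (fun k => k.hom b) (Scheme.ΓSpecIso (CommRingCat.of B)).inv_hom_id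
  rw [← h3]
  exact h2

variable {R : Type u} [CommRing R] {K : Type u} [CommRing K] [Algebra R K]
  {A : Type u} [CommRing A] [HopfAlgebra R A] [Module.Flat R A]
  (G : Over (Spec (CommRingCat.of R))) [GrpObj G]
  (u : (Spec (CommRingCat.of A)).asOver (Spec (CommRingCat.of R)) ⟶ G)
  (v : G ⟶ (Spec (CommRingCat.of A)).asOver (Spec (CommRingCat.of R)))
  {M : Type} [Group M] [Small.{u} M]
  (e : Red.bc (Spec.map (CommRingCat.ofHom (algebraMap R K))) G ≅
    TwC.const (Spec (CommRingCat.of K)) M)

theorem chi_jointly_injective (huv : u ≫ v = 𝟙 _) (hK : Function.Injective (algebraMap R K))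
    (a : A) (ha : ∀ m, chi G v e m a = 0) : a = 0 := by
  obtain ⟨ul, hul⟩ : ∃ ul : Spec (CommRingCat.of A) ⟶ G.left, ul = u.left := ⟨_, rfl⟩
  obtain ⟨vl, hvl⟩ : ∃ vl : G.left ⟶ Spec (CommRingCat.of A), vl = v.left := ⟨_, rfl⟩
  have hw : ul ≫ G.hom = Spec.map (CommRingCat.ofHom (algebraMap R A)) := by
    rw [hul]; exact Over.w u
  have huvl : ul ≫ vl = 𝟙 _ := by
    rw [hul, hvl]
    have := congrArg Over.Hom.left huv
    rw [Over.comp_left] at this
    exact this
  obtain ⟨q, hq⟩ : ∃ q : (Red.bc (Spec.map (CommRingCat.ofHom (algebraMap R K))) G).left ⟶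
      Spec (CommRingCat.of A),
      q = pullback.fst G.hom (Spec.map (CommRingCat.ofHom (algebraMap R K))) ≫ vl := ⟨_, rfl⟩
  have h1 : fn (e.inv.left ≫ q) a = 0 := by
    apply Scheme.zero_of_zero_cover _ (sigmaOpenCover (fun _ : M => Spec (CommRingCat.of K)))
    intro m
    change (Sigma.ι (fun _ : M => Spec (CommRingCat.of K)) m).appTop (fn (e.inv.left ≫ q) a) = 0
    rw [← fn_comp]
    have h3 : Sigma.ι (fun _ : M => Spec (CommRingCat.of K)) m ≫ e.inv.left ≫ q =
        Spec.map (CommRingCat.ofHom (chi G v e m).toRingHom) := by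
      rw [← pts_left_eq, pts_left, hq, hvl]
      rfl
    rw [h3]
    have h4 := fn_specMap (𝟙 (Spec (CommRingCat.of K))) (chi G v e m).toRingHom a
    rw [Category.id_comp] at h4
    rw [h4]
    change fn (𝟙 _) (chi G v e m a) = 0
    rw [ha m, fn_eq, map_zero]
  have h2 : fn q a = 0 := by
    have h3 : q = e.hom.left ≫ (e.inv.left ≫ q) := by
      rw [← Category.assoc, ← Over.comp_left, e.hom_inv_id, Over.id_left, Category.id_comp]
    rw [h3, fn_comp, h1, map_zero]
  obtain ⟨θ, hθ⟩ : ∃ θ : Spec (CommRingCat.of (A ⊗[R] K)) ⟶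
      (Red.bc (Spec.map (CommRingCat.ofHom (algebraMap R K))) G).left,
      θ ≫ q = Spec.map (CommRingCat.ofHom
        (Algebra.TensorProduct.includeLeftRingHom : A →+* A ⊗[R] K)) := by
    refine ⟨(pullbackSpecIso R A K).inv ≫ pullback.lift
      (pullback.fst (Spec.map (CommRingCat.ofHom (algebraMap R A)))
        (Spec.map (CommRingCat.ofHom (algebraMap R K))) ≫ ul)
      (pullback.snd (Spec.map (CommRingCat.ofHom (algebraMap R A)))
        (Spec.map (CommRingCat.ofHom (algebraMap R K)))) (by
        rw [Category.assoc, hw, pullback.condition]), ?_⟩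
    rw [hq, Category.assoc, pullback.lift_fst_assoc, Category.assoc, huvl, Category.comp_id,
      pullbackSpecIso_inv_fst]
  have h5 : fn (θ ≫ q) a = 0 := by rw [fn_comp, h2, map_zero]
  rw [hθ] at h5
  have h6 := fn_specMap (𝟙 (Spec (CommRingCat.of (A ⊗[R] K))))
    (Algebra.TensorProduct.includeLeftRingHom : A →+* A ⊗[R] K) a
  rw [Category.id_comp] at h6
  rw [h6] at h5
  have h7 := fn_id_eq_zero _ h5
  exact (Algebra.TensorProduct.includeLeft_injective (S := R) (A := A) (B := K) hK)
    (h7.trans (map_zero _).symm)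

end Joint

end Groth.Agent.Lib.R2H7.SSTrans
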