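import Mathlib
import Groth.Prelude.Def_SekSuwa2
import Groth.Prelude.Def_TwC
import Groth.Prelude.Def_Mor2
import Groth.Prelude.Def_NonAbH2
import Groth.Agent.Lib.R2H7SSLin
import Groth.Agent.Lib.R2H7SSTrans
import Groth.Agent.Lib.R2H7SS2Quot
import Groth.Agent.Lib.R2H7SS2Alg
import Groth.Agent.Lib.R2H7SS2Sch
import Groth.Agent.Lib.Helper8ExactSeq

/-!
# R2H7SS2Final: finite flat group schemes of order `p²` over a DVR with constant generic fibre are
extensions of `G_{μ,1}` by `G_{λ,1}`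

`isPullback_of_pts`, `isExactSeq_of_iso` (transport of an exact sequence along an isomorphism of the
middle group), `aux`, `main` (= S14686).
-/

set_option autoImplicit false

namespace Groth.Agent.Lib.R2H7.SS2Final

open CategoryTheory CategoryTheory.Limits MonoidalCategory CartesianMonoidalCategory MonObj GrpObj
  AlgebraicGeometry
open scoped TensorProduct
open Groth.Agent.Lib.R2H7.SSTrans Groth.Agent.Lib.Helper8ExactSeq

universe u

section Transport

variable {S : Scheme.{u}} {K : Precoverage Scheme.{u}} {G' G H G'' : Over S} [GrpObj G']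
  [GrpObj G] [GrpObj H] [GrpObj G'']

theorem isPullback_of_pts (u : G' ⟶ G) (v : G ⟶ G'')
    (w : fst G G' ≫ v = ((G ◁ u) ≫ μ[G]) ≫ v)
    (h : ∀ (T : Over S) (x y : T ⟶ G), x ≫ v = y ≫ v → ∃! g : T ⟶ G', x * (g ≫ u) = y) :
    IsPullback (fst G G') ((G ◁ u) ≫ μ[G]) v v := by
  apply isPullback_of_existsUnique w
  intro T a b hab
  obtain ⟨g, hg, huniq⟩ := h T a b hab
  refine ⟨lift a g, ⟨lift_fst _ _, by rw [lift_whiskerLeft_mul]; exact hg⟩, ?_⟩
  rintro l ⟨hl1, hl2⟩
  have hl : l = lift (l ≫ fst G G') (l ≫ snd G G') := by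
    apply CartesianMonoidalCategory.hom_ext
    · rw [lift_fst]
    · rw [lift_snd]
  have hg' : a * ((l ≫ snd G G') ≫ u) = b := by
    rw [← hl1, ← lift_whiskerLeft_mul, ← hl, hl2]
  rw [hl, hl1, huniq _ hg']

theorem isExactSeq_of_iso (u : G' ⟶ G) (v : G ⟶ G'') (a : G ⟶ H) (b : H ⟶ G)
    [IsMonHom a] [IsMonHom b] (hab : a ≫ b = 𝟙 G) (hba : b ≫ a = 𝟙 H)
    (hex : NonAbH1.IsExactSeq K u v) : NonAbH1.IsExactSeq K (u ≫ a) (b ≫ v) := by
  haveI := hex.1
  haveI := hex.2.1
  have h1 : (u ≫ a) ≫ (b ≫ v) = 1 := by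
    rw [Category.assoc, ← Category.assoc a, hab, Category.id_comp, hex.2.2.1]
  refine ⟨inferInstance, inferInstance, h1, ?_, ?_⟩
  · apply isPullback_of_pts
    · have e1 : ((H ◁ (u ≫ a)) ≫ μ[H]) = fst H G' * (snd H G' ≫ (u ≫ a)) := by
        rw [← lift_whiskerLeft_mul, lift_fst_snd, Category.id_comp]
      rw [e1, MonObj.mul_comp, Category.assoc (snd H G'), h1, MonObj.comp_one, _root_.mul_one]
    · intro T x y hxy
      have hxy' : (x ≫ b) ≫ v = (y ≫ b) ≫ v := by
        simpa only [Category.assoc] using hxy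
      obtain ⟨g, hg, huniq⟩ := existsUnique_of_comp_v_eq hex (x ≫ b) (y ≫ b) hxy'
      have hg' : (x ≫ b) * (g ≫ u) = y ≫ b := hg
      refine ⟨g, ?_, ?_⟩
      · show x * (g ≫ u ≫ a) = y
        have h2 := congrArg (· ≫ a) hg'
        simp only [MonObj.mul_comp, Category.assoc, hba, Category.comp_id] at h2
        exact h2
      · intro g' hg''
        apply huniq
        show (x ≫ b) * (g' ≫ u) = y ≫ b
        have h2 : x * (g' ≫ u ≫ a) = y := hg''
        rw [← h2, MonObj.mul_comp, Category.assoc, Category.assoc, hab, Category.comp_id]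
  · obtain ⟨Rc, hRc, hsec⟩ := hex.2.2.2.2
    refine ⟨Rc, hRc, fun S' f hf => ?_⟩
    obtain ⟨s, hs⟩ := hsec f hf
    refine ⟨s ≫ a.left, ?_⟩
    change (s ≫ a.left) ≫ (b ≫ v).left = f
    rw [Over.comp_left, Category.assoc, ← Category.assoc a.left, ← Over.comp_left, hab,
      Over.id_left, Category.id_comp]
    exact hs

end Transport

section Main

variable (R : Type u) [CommRing R] [IsDomain R] [IsDiscreteValuationRing R]
  (p : ℕ) [Fact p.Prime] [CharP (IsLocalRing.ResidueField R) p]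
  (ζ : R) (hζ : IsPrimitiveRoot ζ (p ^ 2))

include hζ in
set_option maxHeartbeats 1600000 in
theorem aux (A : Type u) [CommRing A] [HopfAlgebra R A]
    (G : Over (Spec (CommRingCat.of R))) [GrpObj G]
    (hG : Mor2.IsFinLocFreeOfDeg (p ^ 2) G.hom)
    (e₀ : Grp.mk ((Spec (CommRingCat.of A)).asOver (Spec (CommRingCat.of R))) ≅ Grp.mk G)
    (M : Type) [Group M] [Finite M]
    (e : Red.bc (Spec.map (CommRingCat.ofHom (algebraMap R (FractionRing R)))) G ≅
      TwC.const (Spec (CommRingCat.of (FractionRing R))) M)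
    (he : TwC.IsConstGrp M
      (Red.bc (Spec.map (CommRingCat.ofHom (algebraMap R (FractionRing R)))) G) e) :
    ∃ (lam mu : R) (h₁ : SekSuwa.DivCond lam p) (h₂ : SekSuwa.DivCond mu p)
      (u : SekSuwa.GK R lam p h₁ ⟶ G) (v : G ⟶ SekSuwa.GK R mu p h₂),
      lam ≠ 0 ∧ mu ≠ 0 ∧ NonAbH1.IsExactSeq Scheme.fppfPrecoverage u v := by
  classical
  have hp : p.Prime := Fact.out
  haveI : IsFinite G.hom := hG.1.1
  haveI : Flat G.hom := hG.1.2.1
  haveI : LocallyOfFinitePresentation G.hom := hG.1.2.2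
  have hr := hG.2
  obtain ⟨u₀, hu₀⟩ : ∃ u₀ : (Spec (CommRingCat.of A)).asOver (Spec (CommRingCat.of R)) ⟶ G,
    u₀ = e₀.hom.hom.hom := ⟨_, rfl⟩
  obtain ⟨v₀, hv₀⟩ : ∃ v₀ : G ⟶ (Spec (CommRingCat.of A)).asOver (Spec (CommRingCat.of R)),
    v₀ = e₀.inv.hom.hom := ⟨_, rfl⟩
  haveI : IsMonHom u₀ := by rw [hu₀]; infer_instance
  haveI : IsMonHom v₀ := by rw [hv₀]; infer_instance
  have huv : u₀ ≫ v₀ = 𝟙 _ := by
    rw [hu₀, hv₀, ← Grp.comp_hom_hom, e₀.hom_inv_id, Grp.id_hom_hom]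
  have hvu : v₀ ≫ u₀ = 𝟙 G := by
    rw [hu₀, hv₀, ← Grp.comp_hom_hom, e₀.inv_hom_id, Grp.id_hom_hom]
  haveI : IsIso u₀ := ⟨v₀, huv, hvu⟩
  obtain ⟨ul, hul⟩ : ∃ ul : Spec (CommRingCat.of A) ⟶ G.left, ul = u₀.left := ⟨_, rfl⟩
  haveI : IsIso ul := by rw [hul]; exact (Over.forget _).map_isIso u₀
  have hw : ul ≫ G.hom = Spec.map (CommRingCat.ofHom (algebraMap R A)) := by
    rw [hul]; exact Over.w u₀
  haveI hfin : IsFinite (Spec.map (CommRingCat.ofHom (algebraMap R A))) := by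
    rw [← hw]; infer_instance
  haveI hflat : Flat (Spec.map (CommRingCat.ofHom (algebraMap R A))) := by
    rw [← hw]; infer_instance
  haveI hlfp : LocallyOfFinitePresentation (Spec.map (CommRingCat.ofHom (algebraMap R A))) := by
    rw [← hw]; infer_instance
  haveI : Module.Finite R A := by
    have := (IsFinite.SpecMap_iff _).mp hfin
    exact RingHom.finite_algebraMap.mp this
  haveI : Module.Flat R A := by
    have := (Flat.SpecMap_iff).mp hflat
    exact RingHom.flat_algebraMap_iff.mp this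
  haveI : Algebra.FinitePresentation R A := by
    have := (LocallyOfFinitePresentation.SpecMap_iff _).mp hlfp
    exact RingHom.finitePresentation_algebraMap.mp this
  haveI : Module.Free R A := Module.free_of_flat_of_isLocalRing
  have hrank : Module.finrank R A = p ^ 2 := by
    have h1 : Module.rankAtStalk A (IsLocalRing.closedPoint R) = p ^ 2 := by
      rw [← Scheme.Hom.finrank_SpecMap_algebraMap R A (IsLocalRing.closedPoint R), ← hw,
        Scheme.Hom.finrank_comp_left_of_isIso]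
      exact hr _
    rw [Module.rankAtStalk_eq_finrank_of_free] at h1
    exact h1
  obtain ⟨b, hb⟩ : ∃ b : Module.Basis (Module.Free.ChooseBasisIndex R A) R A,
      b = Module.Free.chooseBasis R A := ⟨_, rfl⟩
  haveI : Fintype M := Fintype.ofFinite M
  obtain ⟨χ, hχ⟩ : ∃ χ : Additive M → (A →ₐ[R] FractionRing R),
      χ = fun m => chi G v₀ e (Additive.toMul m) := ⟨_, rfl⟩
  have hinj : ∀ a : A, (∀ m, χ m a = 0) → a = 0 := by
    intro a ha
    refine chi_jointly_injective G u₀ v₀ e huv (IsFractionRing.injective R (FractionRing R)) a ?_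
    intro m
    have := ha (Additive.ofMul m)
    rw [hχ] at this
    exact this
  have hmul : ∀ m n a, χ (m + n) a = Algebra.TensorProduct.lift (χ m) (χ n)
      (fun _ _ => Commute.all _ _) (Coalgebra.comul (R := R) a) := by
    intro m n a
    rw [hχ]
    exact chi_mul G v₀ e he (Additive.toMul m) (Additive.toMul n) a
  have hdist : Function.Injective χ := by
    rw [hχ]
    exact (chi_injective G u₀ v₀ e hvu).comp Additive.toMul.injective
  have hcard : Fintype.card (Additive M) = p ^ 2 := by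
    rw [← Groth.Agent.Lib.R2H7.SSLin.card_eq χ b hinj hdist, ← Module.finrank_eq_card_basis b,
      hrank]
  obtain ⟨lam, mu, h₁, h₂, φ, q, hlam, hmu, hinjφ, hflatφ, hqs, hqk⟩ :=
    Groth.Agent.Lib.R2H7.SS2Alg.alg_main p ζ hζ χ hcard hinj hmul hdist
  haveI := Groth.Agent.Lib.Helper24GKFree.finite hp.pos h₂
  letI algCA : Algebra (SekSuwa.AK R mu p h₂) A := (φ : SekSuwa.AK R mu p h₂ →+* A).toAlgebra
  haveI : IsScalarTower R (SekSuwa.AK R mu p h₂) A :=
    IsScalarTower.of_algebraMap_eq (fun r => (AlgHomClass.commutes φ r).symm)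
  have hfp : (φ : SekSuwa.AK R mu p h₂ →+* A).FinitePresentation :=
    Algebra.FinitePresentation.of_restrict_scalars_finitePresentation R (SekSuwa.AK R mu p h₂) A
  haveI : Module.Finite (SekSuwa.AK R mu p h₂) A :=
    Module.Finite.of_restrictScalars_finite R (SekSuwa.AK R mu p h₂) A
  have hint : (φ : SekSuwa.AK R mu p h₂ →+* A).IsIntegral :=
    RingHom.Finite.to_isIntegral (inferInstance : Module.Finite (SekSuwa.AK R mu p h₂) A)
  have hex := Groth.Agent.Lib.R2H7.SS2Sch.isExactSeq_specHom φ q SekSuwa.AK.t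
    (Groth.Agent.Lib.R2H7.SS2Quot.sub_counit_mem mu p h₂) SekSuwa.AK.counit_t hqs hqk hflatφ hfp
    hint hinjφ
  exact ⟨lam, mu, h₁, h₂, SekSuwa.specHom q ≫ u₀, v₀ ≫ SekSuwa.specHom φ, hlam, hmu,
    isExactSeq_of_iso _ _ u₀ v₀ huv hvu hex⟩

include hζ in
theorem main (G : Over (Spec (CommRingCat.of R))) [GrpObj G]
    (hG : Mor2.IsFinLocFreeOfDeg (p ^ 2) G.hom)
    (M : Type) [Group M] [Finite M]
    (e : Red.bc (Spec.map (CommRingCat.ofHom (algebraMap R (FractionRing R)))) G ≅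
      TwC.const (Spec (CommRingCat.of (FractionRing R))) M)
    (he : TwC.IsConstGrp M
      (Red.bc (Spec.map (CommRingCat.ofHom (algebraMap R (FractionRing R)))) G) e) :
    ∃ (lam mu : R) (h₁ : SekSuwa.DivCond lam p) (h₂ : SekSuwa.DivCond mu p)
      (u : SekSuwa.GK R lam p h₁ ⟶ G) (v : G ⟶ SekSuwa.GK R mu p h₂),
      lam ≠ 0 ∧ mu ≠ 0 ∧ NonAbH1.IsExactSeq Scheme.fppfPrecoverage u v := by
  haveI : IsFinite G.hom := hG.1.1
  haveI : IsAffine G.left := isAffine_of_isAffineHom G.hom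
  obtain ⟨Y, ⟨e₀⟩⟩ := (essImage_hopfSpec (R := CommRingCat.of R) (G := Grp.mk G)).mpr
    ‹IsAffine G.left›
  exact @aux R _ _ _ p _ _ ζ hζ (Y.unop : Type u) Y.unop.commRing Y.unop.hopfAlgebra G _ hG e₀
    M _ _ e he

end Main

end Groth.Agent.Lib.R2H7.SS2Final
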