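import Mathlib

/-!
# R2H7SSPts: points of `Spec C ×_R Spec A` with values in an `R`-algebra `L`

* `pt f : Spec T ⟶ Spec S` over `Spec R`, for an `R`-algebra map `f : S → T`, with `pt_comp`,
  `pt_injective`, `pt_surjective`.
* `ev : Spec (C ⊗ A) ⟶ Spec C ⊗ Spec A` (an isomorphism), `map_lift_ev`.
* `eq_of_pts`: two morphisms `Spec C ⊗ Spec A ⟶ Spec B` over `Spec R` that agree on all `L`-valued
  points `lift (pt f) (pt g)` are equal, provided the `R`-algebra maps `C ⊗ A → L` induced by pairs
  `(f, g)` are jointly injective.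
-/

set_option autoImplicit false

namespace Groth.Agent.Lib.R2H7.SSPts

open CategoryTheory CategoryTheory.Limits AlgebraicGeometry MonoidalCategory
  CartesianMonoidalCategory
open scoped TensorProduct

universe u

/-- `Spec S` over `Spec R`. -/
noncomputable abbrev GS (R : Type u) [CommRing R] (S : Type u) [CommRing S] [Algebra R S] :
    Over (Spec (CommRingCat.of R)) :=
  (Spec (CommRingCat.of S)).asOver (Spec (CommRingCat.of R))

section pt

variable {R : Type u} [CommRing R] {S T U : Type u} [CommRing S] [CommRing T] [CommRing U]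
  [Algebra R S] [Algebra R T] [Algebra R U]

/-- The morphism `Spec T ⟶ Spec S` over `Spec R` of an `R`-algebra map `S → T`. -/
noncomputable def pt (f : S →ₐ[R] T) : GS R T ⟶ GS R S :=
  (Spec.map (CommRingCat.ofHom f.toRingHom)).asOver _

theorem pt_left (f : S →ₐ[R] T) : (pt f).left = Spec.map (CommRingCat.ofHom f.toRingHom) := rfl

theorem pt_comp (f : S →ₐ[R] T) (g : T →ₐ[R] U) : pt g ≫ pt f = pt (g.comp f) := by
  apply Over.OverMorphism.ext
  exact (Spec.map_comp (CommRingCat.ofHom f.toRingHom) (CommRingCat.ofHom g.toRingHom)).symm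

theorem pt_injective {f g : S →ₐ[R] T} (h : pt f = pt g) : f = g := by
  have h1 : (pt f).left = (pt g).left := by rw [h]
  rw [pt_left, pt_left] at h1
  have h2 := Spec.map_injective h1
  have h3 : f.toRingHom = g.toRingHom := congrArg CommRingCat.Hom.hom h2
  exact AlgHom.coe_ringHom_injective h3

theorem pt_surjective (m : GS R T ⟶ GS R S) : ∃ f : S →ₐ[R] T, pt f = m := by
  refine ⟨⟨(Spec.preimage m.left).hom, ?_⟩, ?_⟩
  · suffices CommRingCat.ofHom (algebraMap R S) ≫ Spec.preimage m.left =
      CommRingCat.ofHom (algebraMap R T) from fun r ↦ congr($this r)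
    apply Spec.map_injective
    simpa [-comp_over] using! m.w
  · apply Over.OverMorphism.ext
    rw [pt_left]
    exact Spec.map_preimage _

end pt

section ev

variable (R : Type u) [CommRing R] (C A : Type u) [CommRing C] [CommRing A]
  [Algebra R C] [Algebra R A]

/-- The canonical morphism `Spec (C ⊗ A) ⟶ Spec C ×_R Spec A`. -/
noncomputable def ev : GS R (C ⊗[R] A) ⟶ GS R C ⊗ GS R A :=
  lift (pt (Algebra.TensorProduct.includeLeft : C →ₐ[R] C ⊗[R] A))
    (pt (Algebra.TensorProduct.includeRight : A →ₐ[R] C ⊗[R] A))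

theorem ev_fst : ev R C A ≫ fst _ _ = pt (Algebra.TensorProduct.includeLeft : C →ₐ[R] C ⊗[R] A) :=
  lift_fst _ _

theorem ev_snd : ev R C A ≫ snd _ _ =
    pt (Algebra.TensorProduct.includeRight : A →ₐ[R] C ⊗[R] A) :=
  lift_snd _ _

theorem ev_left : (ev R C A).left = (pullbackSpecIso R C A).inv := by
  apply pullback.hom_ext
  · have h : (ev R C A ≫ fst _ _).left = _ := congrArg (fun k => k.left) (ev_fst R C A)
    exact h.trans (pullbackSpecIso_inv_fst (R := R) (S := C) (T := A)).symm
  · have h : (ev R C A ≫ snd _ _).left = _ := congrArg (fun k => k.left) (ev_snd R C A)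
    exact h.trans (pullbackSpecIso_inv_snd (R := R) (S := C) (T := A)).symm

instance : IsIso (ev R C A) := by
  haveI : IsIso ((Over.forget _).map (ev R C A)) := by
    change IsIso (ev R C A).left
    rw [ev_left]
    infer_instance
  exact isIso_of_reflects_iso (ev R C A) (Over.forget _)

variable {R C A}

theorem map_lift_ev {L : Type u} [CommRing L] [Algebra R L] (f : C →ₐ[R] L) (g : A →ₐ[R] L) :
    pt (Algebra.TensorProduct.lift f g (fun _ _ => .all ..)) ≫ ev R C A = lift (pt f) (pt g) := by
  apply CartesianMonoidalCategory.hom_ext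
  · rw [Category.assoc, ev_fst, lift_fst, pt_comp]
    congr 1
    ext c
    simp
  · rw [Category.assoc, ev_snd, lift_snd, pt_comp]
    congr 1
    ext c
    simp

/-- Two morphisms out of `Spec C ×_R Spec A` into an affine `R`-scheme that agree on all `L`-points
are equal, when the maps `C ⊗ A → L` are jointly injective. -/
theorem eq_of_pts (L : Type u) [CommRing L] [Algebra R L]
    (hJI : ∀ d : C ⊗[R] A, (∀ (f : C →ₐ[R] L) (g : A →ₐ[R] L),
      Algebra.TensorProduct.lift f g (fun _ _ => .all ..) d = 0) → d = 0)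
    {B : Type u} [CommRing B] [Algebra R B] (m₁ m₂ : GS R C ⊗ GS R A ⟶ GS R B)
    (h : ∀ (f : C →ₐ[R] L) (g : A →ₐ[R] L),
      lift (pt f) (pt g) ≫ m₁ = lift (pt f) (pt g) ≫ m₂) : m₁ = m₂ := by
  rw [← cancel_epi (ev R C A)]
  obtain ⟨φ₁, h₁⟩ := pt_surjective (ev R C A ≫ m₁)
  obtain ⟨φ₂, h₂⟩ := pt_surjective (ev R C A ≫ m₂)
  rw [← h₁, ← h₂]
  congr 1
  ext b
  rw [← sub_eq_zero]
  apply hJI
  intro f g
  have e := h f g
  rw [← map_lift_ev, Category.assoc, Category.assoc, ← h₁, ← h₂, pt_comp, pt_comp] at e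
  have e2 := pt_injective e
  have e3 := congrArg (fun k => k b) e2
  simp only [AlgHom.comp_apply] at e3
  rw [map_sub, e3, sub_self]

end ev

end Groth.Agent.Lib.R2H7.SSPts
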