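import Mathlib
import Groth.Prelude.Def_SekSuwa2
import Groth.Agent.Lib.Helper24GKFree

/-!
# R2H7SSRoots: points of `G_{λ,N}` in a field containing a primitive `N`-th root of unity

Let `L` be a field which is an `R`-algebra with `R → L` injective, containing a primitive `N`-th
root of unity `ζ` (`N > 0`).  The `R`-algebra maps `AK R lam N h → L` are `t ↦ (ζ^i - 1)/λ`
(`evHom`, `rt`); they are jointly injective (`eq_zero_of_forall`), also after tensoring
(`tensor_eq_zero`), and there are at most `N` of them (`algHom_t_injective`, `aeval_algHom_t`).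
-/

set_option autoImplicit false

namespace Groth.Agent.Lib.R2H7.SSRoots

open Polynomial SekSuwa
open scoped TensorProduct
open Groth.Agent.Lib.Helper24GKFree

universe u

variable {R : Type u} [CommRing R] {lam : R} {N : ℕ} {L : Type u} [Field L] [Algebra R L]

/-- The `R`-algebra map `AK → L` with `t ↦ r`, for a root `r` of `P_{λ,N}`. -/
noncomputable def evHom (hN : 0 < N) (h : DivCond lam N) (r : L)
    (hr : Polynomial.aeval r (psiPoly lam N h) = 0) : AK R lam N h →ₐ[R] L :=
  (AdjoinRoot.liftAlgHom (psiPoly lam N h) (Algebra.ofId R L) r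
    (by rw [← hr]; rfl)).comp (toAdj hN h)

theorem evHom_t (hN : 0 < N) (h : DivCond lam N) (r : L)
    (hr : Polynomial.aeval r (psiPoly lam N h) = 0) : evHom hN h r hr AK.t = r := by
  rw [evHom, AlgHom.comp_apply, toAdj_t]
  exact AdjoinRoot.liftAlgHom_root _ _ _ _

theorem evHom_aeval (hN : 0 < N) (h : DivCond lam N) (r : L)
    (hr : Polynomial.aeval r (psiPoly lam N h) = 0) (q : R[X]) :
    evHom hN h r hr (Polynomial.aeval AK.t q) = Polynomial.aeval r q := by
  rw [← Polynomial.aeval_algHom_apply, evHom_t]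

/-- Every element of `AK` is a polynomial of degree `< N` in `t`. -/
theorem exists_poly [Nontrivial R] (hN : 0 < N) (h : DivCond lam N) (c : AK R lam N h) :
    ∃ q : R[X], q.natDegree < N ∧ Polynomial.aeval AK.t q = c := by
  obtain ⟨q₀, hq₀⟩ := AdjoinRoot.mk_surjective (g := psiPoly lam N h) (toAdj hN h c)
  have hm := psiPoly_monic hN h
  have hne : psiPoly lam N h ≠ 1 := by
    intro h1
    have := psiPoly_natDegree hN h
    rw [h1, natDegree_one] at this
    omega
  refine ⟨q₀ %ₘ psiPoly lam N h, ?_, ?_⟩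
  · have := Polynomial.natDegree_modByMonic_lt q₀ hm hne
    rwa [psiPoly_natDegree hN h] at this
  · have e1 : AdjoinRoot.mk (psiPoly lam N h) (q₀ %ₘ psiPoly lam N h) = toAdj hN h c := by
      rw [← hq₀, AdjoinRoot.mk_eq_mk]
      have := Polynomial.modByMonic_add_div q₀ (psiPoly lam N h)
      refine ⟨-(q₀ /ₘ psiPoly lam N h), ?_⟩
      linear_combination this
    have e2 : (equivAdj hN h).symm (toAdj hN h c) = c := (equivAdj hN h).symm_apply_apply c
    have e3 : ∀ x, (equivAdj hN h).symm x = fromAdj h x := fun x => rfl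
    rw [← e2, ← e1, e3, ← AdjoinRoot.aeval_eq, ← Polynomial.aeval_algHom_apply, fromAdj_root]

theorem aeval_algHom_t (h : DivCond lam N) (g : AK R lam N h →ₐ[R] L) :
    Polynomial.aeval (g AK.t) (psiPoly lam N h) = 0 := by
  rw [Polynomial.aeval_algHom_apply, AK.aeval_t, map_zero]

theorem algHom_t_injective (hN : 0 < N) (h : DivCond lam N) {g g' : AK R lam N h →ₐ[R] L}
    (e : g AK.t = g' AK.t) : g = g' := by
  apply AK.algHom_ext e
  rw [AK_inv_eq hN h, map_pow, map_pow, map_add, map_add, map_one, map_one, map_smul, map_smul, e]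

section Root

variable (hinj : Function.Injective (algebraMap R L)) {ζ : L} (hζ : IsPrimitiveRoot ζ N)

/-- The roots `(ζ^i - 1)/λ` of `P_{λ,N}`. -/
noncomputable def rt (lam : R) (ζ : L) (i : ℕ) : L := (ζ ^ i - 1) / algebraMap R L lam

include hinj in
theorem lam_ne_zero (h : DivCond lam N) : algebraMap R L lam ≠ 0 := by
  haveI : Nontrivial R := (algebraMap R L).domain_nontrivial
  intro h0
  have : lam = 0 := hinj (by rw [h0, map_zero])
  exact nonZeroDivisors.ne_zero h.nzd this

include hinj hζ in
theorem rt_root (h : DivCond lam N) (i : ℕ) :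
    Polynomial.aeval (rt lam ζ i) (psiPoly lam N h) = 0 := by
  have hl := lam_ne_zero hinj h
  have e := aeval_psiPoly h (rt lam ζ i)
  have e1 : 1 + algebraMap R L lam * rt lam ζ i = ζ ^ i := by
    rw [rt, mul_div_cancel₀ _ hl]; ring
  rw [e1, ← pow_mul, mul_comm i N, pow_mul, hζ.pow_eq_one, one_pow, sub_self] at e
  rcases mul_eq_zero.mp e with e2 | e2
  · rw [map_pow] at e2
    exact absurd (pow_eq_zero_iff (Nat.pos_iff_ne_zero.mp (Nat.pos_of_ne_zero (by
      intro hN0; subst hN0; simp at e2))) |>.mp e2) hl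
  · exact e2

include hinj hζ in
theorem rt_injective (h : DivCond lam N) :
    Function.Injective (fun i : Fin N => rt lam ζ (i : ℕ)) := by
  intro i j hij
  have hl := lam_ne_zero hinj h
  simp only [rt] at hij
  have h1 : ζ ^ (i : ℕ) = ζ ^ (j : ℕ) := by
    have := (div_left_inj' hl).mp hij
    exact sub_left_injective this
  exact Fin.ext (hζ.pow_inj i.2 j.2 h1)

include hinj hζ in
/-- Joint injectivity of the `L`-points of `G_{λ,N}`. -/
theorem eq_zero_of_forall (hN : 0 < N) (h : DivCond lam N) (c : AK R lam N h)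
    (hc : ∀ f : AK R lam N h →ₐ[R] L, f c = 0) : c = 0 := by
  haveI : Nontrivial R := (algebraMap R L).domain_nontrivial
  obtain ⟨q, hq, rfl⟩ := exists_poly hN h c
  have hq0 : q.map (algebraMap R L) = 0 := by
    apply Polynomial.eq_zero_of_natDegree_lt_card_of_eval_eq_zero _ (rt_injective hinj hζ h)
    · intro i
      have := hc (evHom hN h _ (rt_root hinj hζ h i))
      rw [evHom_aeval] at this
      rw [Polynomial.eval_map_algebraMap]
      exact this
    · rw [Fintype.card_fin]
      exact lt_of_le_of_lt Polynomial.natDegree_map_le hq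
  have : q = 0 := Polynomial.map_injective _ hinj (by rw [hq0, Polynomial.map_zero])
  rw [this, map_zero]

end Root

section Tensor

variable {C : Type u} [CommRing C] [Algebra R C]

/-- Every element of `C ⊗ AK` is `∑_{j<N} c_j ⊗ t^j`. -/
theorem exists_coeffs [Nontrivial R] (hN : 0 < N) (h : DivCond lam N)
    (d : C ⊗[R] AK R lam N h) :
    ∃ c : ℕ → C, d = ∑ j ∈ Finset.range N, c j ⊗ₜ[R] ((AK.t : AK R lam N h) ^ j) := by
  induction d using TensorProduct.induction_on with
  | zero => exact ⟨fun _ => 0, by simp⟩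
  | tmul x a =>
    obtain ⟨q, hq, rfl⟩ := exists_poly hN h a
    refine ⟨fun j => q.coeff j • x, ?_⟩
    rw [Polynomial.aeval_eq_sum_range' hq, TensorProduct.tmul_sum]
    refine Finset.sum_congr rfl fun j _ => ?_
    rw [TensorProduct.tmul_smul, TensorProduct.smul_tmul']
  | add x y hx hy =>
    obtain ⟨c₁, h₁⟩ := hx
    obtain ⟨c₂, h₂⟩ := hy
    refine ⟨fun j => c₁ j + c₂ j, ?_⟩
    rw [h₁, h₂, ← Finset.sum_add_distrib]
    refine Finset.sum_congr rfl fun j _ => ?_
    rw [TensorProduct.add_tmul]

variable (hinj : Function.Injective (algebraMap R L)) {ζ : L} (hζ : IsPrimitiveRoot ζ N)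

include hinj hζ in
/-- Joint injectivity of the maps `C ⊗ AK → L` induced by pairs of `L`-points. -/
theorem tensor_eq_zero (hN : 0 < N) (h : DivCond lam N)
    (hC : ∀ c : C, (∀ f : C →ₐ[R] L, f c = 0) → c = 0)
    (d : C ⊗[R] AK R lam N h)
    (hd : ∀ (f : C →ₐ[R] L) (g : AK R lam N h →ₐ[R] L),
      Algebra.TensorProduct.lift f g (fun _ _ => .all ..) d = 0) : d = 0 := by
  haveI : Nontrivial R := (algebraMap R L).domain_nontrivial
  obtain ⟨c, rfl⟩ := exists_coeffs hN h d
  have hc : ∀ j ∈ Finset.range N, c j = 0 := by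
    intro j hj
    apply hC
    intro f
    set Q : L[X] := ∑ k ∈ Finset.range N, Polynomial.C (f (c k)) * Polynomial.X ^ k with hQ
    have hQ0 : Q = 0 := by
      apply Polynomial.eq_zero_of_natDegree_lt_card_of_eval_eq_zero _ (rt_injective hinj hζ h)
      · intro i
        have := hd f (evHom hN h _ (rt_root hinj hζ h i))
        rw [map_sum] at this
        simp only [Algebra.TensorProduct.lift_tmul, map_pow, evHom_t] at this
        rw [hQ, Polynomial.eval_finset_sum]
        simpa using this
      · rw [Fintype.card_fin]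
        have : Q.natDegree ≤ N - 1 := by
          rw [hQ]
          apply Polynomial.natDegree_sum_le_of_forall_le
          intro k hk
          have := Finset.mem_range.mp hk
          exact (Polynomial.natDegree_C_mul_X_pow_le _ _).trans (by omega)
        omega
    have hco := congrArg (fun P : L[X] => P.coeff j) hQ0
    simp only [hQ, Polynomial.finset_sum_coeff, Polynomial.coeff_C_mul_X_pow,
      Polynomial.coeff_zero] at hco
    rw [Finset.sum_ite_eq (Finset.range N) j] at hco
    rwa [if_pos hj] at hco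
  rw [Finset.sum_eq_zero]
  intro j hj
  rw [hc j hj, TensorProduct.zero_tmul]

end Tensor

end Groth.Agent.Lib.R2H7.SSRoots
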