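import Mathlib
import Groth.Prelude.Def_SekSuwa2
import Groth.Prelude.Def_AlgGrp
import Groth.Agent.Lib.R2H7SSPts
import Groth.Agent.Lib.R2H7SSRoots
import Groth.Agent.Lib.Helper12Act
import Groth.Agent.Lib.Helper8Deligne
import Groth.Agent.S14694

/-!
# R2H7SSAct: every action of `G_{μ,1}` on `G_{λ,1}` by group automorphisms is trivial

Over a domain `R` of characteristic zero, with `N = p` prime.  The `L`-points (`L` an algebraic
closure of the fraction field) of `G_{λ,1}` form a group of order at most `p`, on which the `p`-group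
of `L`-points of `G_{μ,1}` acts fixing `1`, hence trivially (`act_pt_eq`); and the `L`-points of
`G_{μ,1} × G_{λ,1}` are schematically dense enough (`SSPts.eq_of_pts`, `SSRoots.tensor_eq_zero`) to
conclude that the action map is the second projection (`act_eq_snd`, `main`).
-/

set_option autoImplicit false

namespace Groth.Agent.Lib.R2H7.SSAct

open CategoryTheory AlgebraicGeometry MonoidalCategory CartesianMonoidalCategory MonObj GrpObj
  SekSuwa
open Groth.Agent.Lib.R2H7.SSPts Groth.Agent.Lib.R2H7.SSRoots Groth.Agent.Lib.Helper12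
open Groth.Agent.Lib.Helper24GKFree

universe u

section Fix

variable {R : Type u} [CommRing R] {p : ℕ} [Fact p.Prime] {lam mu : R}
  (h₁ : DivCond lam p) (h₂ : DivCond mu p)

theorem pow_eq_one (T : Over (Spec (CommRingCat.of R))) (g : T ⟶ GK R mu p h₂) : g ^ p = 1 := by
  obtain ⟨⟨i1, i2, i3⟩, hr⟩ := Groth.Agent.S14694.result R mu p (Fact.out : p.Prime).pos h₂
  haveI := i1
  haveI := i2
  haveI := i3
  exact Groth.Agent.Lib.Helper8Deligne.core (GK R mu p h₂) p hr T g

variable {L : Type u} [Field L] [Algebra R L]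

/-- There are at most `p` points of `G_{λ,1}` with values in a field. -/
theorem card_pts_le : Finite (GS R L ⟶ GK R lam p h₁) ∧ Nat.card (GS R L ⟶ GK R lam p h₁) ≤ p := by
  haveI : Nontrivial R := (algebraMap R L).domain_nontrivial
  have hp : 0 < p := (Fact.out : p.Prime).pos
  have hne : (psiPoly lam p h₁).map (algebraMap R L) ≠ 0 :=
    ((psiPoly_monic hp h₁).map (algebraMap R L)).ne_zero
  let τ : (GS R L ⟶ GK R lam p h₁) → (psiPoly lam p h₁).rootSet L := fun x =>
    ⟨(Classical.choose (pt_surjective x)) AK.t,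
      Polynomial.mem_rootSet'.mpr ⟨hne, aeval_algHom_t h₁ _⟩⟩
  have hτ : Function.Injective τ := by
    intro x y hxy
    have e : (Classical.choose (pt_surjective x)) AK.t = (Classical.choose (pt_surjective y)) AK.t :=
      congrArg Subtype.val hxy
    have e2 := algHom_t_injective hp h₁ e
    rw [← Classical.choose_spec (pt_surjective x), ← Classical.choose_spec (pt_surjective y), e2]
  haveI : Finite ((psiPoly lam p h₁).rootSet L) := inferInstance
  refine ⟨Finite.of_injective τ hτ, ?_⟩
  calc Nat.card (GS R L ⟶ GK R lam p h₁) ≤ Nat.card ((psiPoly lam p h₁).rootSet L) :=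
        Nat.card_le_card_of_injective τ hτ
    _ = ((psiPoly lam p h₁).rootSet L).ncard := Nat.card_coe_set_eq _
    _ ≤ (psiPoly lam p h₁).natDegree := Polynomial.ncard_rootSet_le _ _
    _ = p := psiPoly_natDegree hp h₁

variable (a : AlgGrp.Action (GK R mu p h₂) (GK R lam p h₁))

/-- An action by group automorphisms is trivial on field-valued points. -/
theorem act_pt_eq
    (hmul : ∀ (g : GS R L ⟶ GK R mu p h₂) (x y : GS R L ⟶ GK R lam p h₁),
      lift g (x * y) ≫ a.act = (lift g x ≫ a.act) * (lift g y ≫ a.act))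
    (g : GS R L ⟶ GK R mu p h₂) (x : GS R L ⟶ GK R lam p h₁) : lift g x ≫ a.act = x := by
  classical
  obtain ⟨hfin, hcard⟩ := card_pts_le h₁ (R := R) (L := L)
  haveI := hfin
  haveI : Fintype (GS R L ⟶ GK R lam p h₁) := Fintype.ofFinite _
  let F : Function.End (GS R L ⟶ GK R lam p h₁) :=
    (show (GS R L ⟶ GK R lam p h₁) → (GS R L ⟶ GK R lam p h₁) from fun x => lift g x ≫ a.act)
  have hFx : ∀ x, F x = lift g x ≫ a.act := fun _ => rfl
  have hpow : ∀ n : ℕ, ∀ x, (F ^ n) x = lift (g ^ n) x ≫ a.act := by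
    intro n
    induction n with
    | zero =>
      intro x
      have e : (F ^ 0) x = x := by rw [pow_zero]; rfl
      rw [e, pow_zero, act_one]
    | succ n ih =>
      intro x
      have e : (F ^ (n + 1)) x = (F ^ n) (F x) := by rw [pow_succ]; rfl
      rw [e, ih, pow_succ, act_mul, hFx]
  have hF : F ^ p ^ 1 = 1 := by
    funext x
    rw [pow_one, hpow, pow_eq_one h₂, act_one]
    rfl
  have hmod := Equiv.Perm.card_fixedPoints_modEq (f := F) (p := p) (n := 1) hF
  rw [← Nat.card_eq_fintype_card, ← Nat.card_eq_fintype_card, Nat.card_coe_set_eq] at hmod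
  have h1 : (1 : GS R L ⟶ GK R lam p h₁) ∈ Function.fixedPoints F := by
    change F 1 = 1
    rw [hFx]
    have e := hmul g 1 1
    rw [_root_.mul_one] at e
    have e2 : (lift g (1 : GS R L ⟶ GK R lam p h₁) ≫ a.act) * 1 =
        (lift g 1 ≫ a.act) * (lift g 1 ≫ a.act) := by rw [_root_.mul_one]; exact e
    exact (mul_left_cancel e2).symm
  by_contra hne
  have hne' : Function.fixedPoints F ≠ Set.univ := by
    intro hU
    have hx : x ∈ Function.fixedPoints F := hU ▸ Set.mem_univ x
    exact hne hx
  have hlt := Set.ncard_lt_card hne'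
  have hpos : 0 < (Function.fixedPoints F).ncard := (Set.ncard_pos).mpr ⟨1, h1⟩
  have hk : (Function.fixedPoints F).ncard < p := lt_of_lt_of_le hlt hcard
  unfold Nat.ModEq at hmod
  rw [Nat.mod_eq_of_lt hk] at hmod
  rcases hcard.lt_or_eq with hn | hn
  · rw [Nat.mod_eq_of_lt hn] at hmod
    omega
  · rw [hn, Nat.mod_self] at hmod
    omega

end Fix

section Main

variable (R : Type u) [CommRing R] [IsDomain R] [CharZero R] (p : ℕ) [Fact p.Prime]
  (lam mu : R) (h₁ : DivCond lam p) (h₂ : DivCond mu p)
  (a : AlgGrp.Action (GK R mu p h₂) (GK R lam p h₁))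

include R in
theorem act_eq_snd
    (hmul : ∀ (T : Over (Spec (CommRingCat.of R))) (g : T ⟶ GK R mu p h₂)
      (x y : T ⟶ GK R lam p h₁),
      lift g (x * y) ≫ a.act = (lift g x ≫ a.act) * (lift g y ≫ a.act)) :
    a.act = snd (GK R mu p h₂) (GK R lam p h₁) := by
  have hp : 0 < p := (Fact.out : p.Prime).pos
  have hinj : Function.Injective (algebraMap R (AlgebraicClosure (FractionRing R))) := by
    rw [IsScalarTower.algebraMap_eq R (FractionRing R) (AlgebraicClosure (FractionRing R))]
    exact (algebraMap (FractionRing R) (AlgebraicClosure (FractionRing R))).injective.comp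
      (IsFractionRing.injective R (FractionRing R))
  haveI : CharZero (AlgebraicClosure (FractionRing R)) := charZero_of_injective_algebraMap hinj
  haveI : NeZero ((p : ℕ) : AlgebraicClosure (FractionRing R)) :=
    ⟨Nat.cast_ne_zero.mpr (Fact.out : p.Prime).ne_zero⟩
  obtain ⟨ζ, hζ⟩ := HasEnoughRootsOfUnity.exists_primitiveRoot
    (AlgebraicClosure (FractionRing R)) p
  have hfix := act_pt_eq h₁ h₂ a (L := AlgebraicClosure (FractionRing R))
    (fun g x y => hmul _ g x y)
  refine eq_of_pts (AlgebraicClosure (FractionRing R)) (fun d hd =>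
    tensor_eq_zero hinj hζ hp h₁ (fun c hc => eq_zero_of_forall hinj hζ hp h₂ c hc) d hd)
    a.act (snd (GK R mu p h₂) (GK R lam p h₁)) ?_
  intro f g
  rw [lift_snd]
  exact hfix (pt f) (pt g)

theorem main
    (hmul : ∀ (T : Over (Spec (CommRingCat.of R))) (g : T ⟶ GK R mu p h₂)
      (x y : T ⟶ GK R lam p h₁),
      lift g (x * y) ≫ a.act = (lift g x ≫ a.act) * (lift g y ≫ a.act))
    (T : Over (Spec (CommRingCat.of R))) (g : T ⟶ GK R mu p h₂) (x : T ⟶ GK R lam p h₁) :
    lift g x ≫ a.act = x := by
  rw [act_eq_snd R p lam mu h₁ h₂ a hmul, lift_snd]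

end Main

end Groth.Agent.Lib.R2H7.SSAct
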