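import Mathlib
import Groth.Prelude.Def_SekSuwa2
import Groth.Agent.Lib.Helper24GKFree

/-!
# R2H7SSAlphaGenA: `α^{λ,N} : G_{λ,N} → μ_N` is an isomorphism after base change to an `R`-algebra in
which `λ` is invertible (ring level)

`theta K h : R[ℤ/N] ⊗ K → AK ⊗ K` (base change of `alphaNHom`) is bijective when `λ` is a unit of `K`
(`theta_bijective`), with inverse `rho` (`t ↦ (u - 1) ⊗ λ⁻¹`).
-/

set_option autoImplicit false

namespace Groth.Agent.Lib.R2H7.SSAlphaGen

open SekSuwa Polynomial
open scoped TensorProduct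
open Groth.Agent.Lib.Helper24GKFree

universe u

variable {R : Type u} [CommRing R] {lam : R} {N : ℕ}

/-- The `R`-algebra map `AK → B` with `t ↦ r`, for a root `r` of `P_{λ,N}` in any `R`-algebra. -/
noncomputable def evHom (hN : 0 < N) (h : DivCond lam N) {B : Type u} [CommRing B] [Algebra R B]
    (r : B) (hr : Polynomial.aeval r (psiPoly lam N h) = 0) : AK R lam N h →ₐ[R] B :=
  (AdjoinRoot.liftAlgHom (psiPoly lam N h) (Algebra.ofId R B) r
    (by rw [← hr]; rfl)).comp (toAdj hN h)

theorem evHom_t (hN : 0 < N) (h : DivCond lam N) {B : Type u} [CommRing B] [Algebra R B]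
    (r : B) (hr : Polynomial.aeval r (psiPoly lam N h) = 0) : evHom hN h r hr AK.t = r := by
  rw [evHom, AlgHom.comp_apply, toAdj_t]
  exact AdjoinRoot.liftAlgHom_root _ _ _ _

theorem algHom_ext_t (hN : 0 < N) (h : DivCond lam N) {B : Type u} [CommRing B] [Algebra R B]
    {g g' : AK R lam N h →ₐ[R] B} (e : g AK.t = g' AK.t) : g = g' := by
  apply AK.algHom_ext e
  rw [AK_inv_eq hN h, map_pow, map_pow, map_add, map_add, map_one, map_one, map_smul, map_smul, e]

/-- The generator of `R[ℤ/N]`. -/
noncomputable def gen (R : Type u) [CommRing R] (N : ℕ) : MonoidAlgebra R (Multiplicative (ZMod N)) :=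
  MonoidAlgebra.single (Multiplicative.ofAdd (1 : ZMod N)) 1

theorem gen_pow (R : Type u) [CommRing R] (N : ℕ) : gen R N ^ N = 1 := by
  rw [gen, MonoidAlgebra.single_pow, one_pow, ← ofAdd_nsmul, nsmul_one, ZMod.natCast_self,
    ofAdd_zero]
  rfl

theorem single_eq_gen_pow (R : Type u) [CommRing R] (N : ℕ) [NeZero N]
    (x : Multiplicative (ZMod N)) :
    (MonoidAlgebra.single x (1 : R) : MonoidAlgebra R (Multiplicative (ZMod N))) =
      gen R N ^ (Multiplicative.toAdd x).val := by
  rw [gen, MonoidAlgebra.single_pow, one_pow, ← ofAdd_nsmul, nsmul_one, ZMod.natCast_zmod_val,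
    ofAdd_toAdd]

theorem alphaNHom_gen (h : DivCond lam N) : alphaNHom R lam N h (gen R N) = 1 + lam • AK.t :=
  alphaNHom_single_one R lam N h

section Base

variable (K : Type u) [CommRing K] [Algebra R K]

/-- The base change of `alphaNHom` to `K`. -/
noncomputable def theta (h : DivCond lam N) :
    MonoidAlgebra R (Multiplicative (ZMod N)) ⊗[R] K →ₐ[R] AK R lam N h ⊗[R] K :=
  Algebra.TensorProduct.map
    (alphaNHom R lam N h : MonoidAlgebra R (Multiplicative (ZMod N)) →ₐ[R] AK R lam N h)
    (AlgHom.id R K)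

theorem theta_tmul (h : DivCond lam N) (b : MonoidAlgebra R (Multiplicative (ZMod N))) (κ : K) :
    theta K h (b ⊗ₜ[R] κ) = alphaNHom R lam N h b ⊗ₜ[R] κ := by
  rw [theta, Algebra.TensorProduct.map_tmul]
  rfl

variable {K}
variable (hu : IsUnit (algebraMap R K lam))

/-- The element `(u - 1) ⊗ λ⁻¹`. -/
noncomputable def rr : MonoidAlgebra R (Multiplicative (ZMod N)) ⊗[R] K :=
  (gen R N - 1) ⊗ₜ[R] (↑(hu.unit⁻¹) : K)

theorem lam_smul_inv : lam • (↑(hu.unit⁻¹) : K) = 1 := by
  rw [Algebra.smul_def]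
  exact hu.mul_val_inv

theorem one_add_lam_smul_rr :
    (1 : MonoidAlgebra R (Multiplicative (ZMod N)) ⊗[R] K) + lam • rr (N := N) hu =
      gen R N ⊗ₜ[R] 1 := by
  rw [rr, ← TensorProduct.tmul_smul, lam_smul_inv, TensorProduct.sub_tmul,
    Algebra.TensorProduct.one_def]
  abel

theorem aeval_rr (h : DivCond lam N) : Polynomial.aeval (rr (N := N) hu) (psiPoly lam N h) = 0 := by
  have e := aeval_psiPoly h (rr (N := N) hu)
  rw [← Algebra.smul_def lam, one_add_lam_smul_rr, Algebra.TensorProduct.tmul_pow, gen_pow, one_pow,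
    ← Algebra.TensorProduct.one_def, sub_self] at e
  have hunit : IsUnit (algebraMap R (MonoidAlgebra R (Multiplicative (ZMod N)) ⊗[R] K) (lam ^ N)) := by
    rw [map_pow]
    refine IsUnit.pow N ?_
    rw [← AlgHom.commutes (Algebra.TensorProduct.includeRight :
      K →ₐ[R] MonoidAlgebra R (Multiplicative (ZMod N)) ⊗[R] K)]
    exact hu.map _
  exact (hunit.mul_right_eq_zero).mp e

/-- The inverse of `theta` on `AK`. -/
noncomputable def rho₁ (hN : 0 < N) (h : DivCond lam N) :
    AK R lam N h →ₐ[R] MonoidAlgebra R (Multiplicative (ZMod N)) ⊗[R] K :=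
  evHom hN h (rr (N := N) hu) (aeval_rr hu h)

theorem rho₁_t (hN : 0 < N) (h : DivCond lam N) : rho₁ hu hN h AK.t = rr (N := N) hu :=
  evHom_t hN h _ _

/-- The inverse of `theta`. -/
noncomputable def rho (hN : 0 < N) (h : DivCond lam N) :
    AK R lam N h ⊗[R] K →ₐ[R] MonoidAlgebra R (Multiplicative (ZMod N)) ⊗[R] K :=
  Algebra.TensorProduct.lift (rho₁ hu hN h) Algebra.TensorProduct.includeRight
    (fun _ _ => Commute.all _ _)

theorem rho_tmul (hN : 0 < N) (h : DivCond lam N) (a : AK R lam N h) (κ : K) :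
    rho hu hN h (a ⊗ₜ[R] κ) = rho₁ hu hN h a * (1 ⊗ₜ[R] κ) := by
  rw [rho, Algebra.TensorProduct.lift_tmul, Algebra.TensorProduct.includeRight_apply]

theorem theta_rho₁ (hN : 0 < N) (h : DivCond lam N) (a : AK R lam N h) :
    theta K h (rho₁ hu hN h a) = a ⊗ₜ[R] 1 := by
  have e : (theta K h).comp (rho₁ hu hN h) =
      (Algebra.TensorProduct.includeLeft : AK R lam N h →ₐ[R] AK R lam N h ⊗[R] K) := by
    apply algHom_ext_t hN h
    rw [AlgHom.comp_apply, rho₁_t, rr, theta_tmul, map_sub, map_one, alphaNHom_gen,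
      add_sub_cancel_left, TensorProduct.smul_tmul, lam_smul_inv,
      Algebra.TensorProduct.includeLeft_apply]
  exact congrArg (fun k => k a) e

theorem rho₁_alpha (hN : 0 < N) (h : DivCond lam N)
    (b : MonoidAlgebra R (Multiplicative (ZMod N))) :
    rho₁ hu hN h (alphaNHom R lam N h b) = b ⊗ₜ[R] 1 := by
  haveI : NeZero N := ⟨hN.ne'⟩
  have e : (rho₁ hu hN h).comp
      (alphaNHom R lam N h : MonoidAlgebra R (Multiplicative (ZMod N)) →ₐ[R] AK R lam N h) =
      (Algebra.TensorProduct.includeLeft :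
        MonoidAlgebra R (Multiplicative (ZMod N)) →ₐ[R] _ ⊗[R] K) := by
    apply MonoidAlgebra.algHom_ext
    · intro x
      rw [single_eq_gen_pow R N x, map_pow, map_pow, AlgHom.comp_apply,
        Algebra.TensorProduct.includeLeft_apply]
      have e1 : (alphaNHom R lam N h : MonoidAlgebra R (Multiplicative (ZMod N)) →ₐ[R] AK R lam N h)
          (gen R N) = 1 + lam • AK.t := alphaNHom_gen h
      rw [e1, map_add, map_one, map_smul, rho₁_t, one_add_lam_smul_rr]
    · exact Subsingleton.elim _ _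
  exact congrArg (fun k => k b) e

theorem theta_rho (hN : 0 < N) (h : DivCond lam N) (x : AK R lam N h ⊗[R] K) :
    theta K h (rho hu hN h x) = x := by
  induction x using TensorProduct.induction_on with
  | zero => rw [map_zero, map_zero]
  | tmul a κ =>
    rw [rho_tmul, map_mul, theta_rho₁, theta_tmul, map_one, Algebra.TensorProduct.tmul_mul_tmul,
      mul_one, one_mul]
  | add x y hx hy => rw [map_add, map_add, hx, hy]

theorem rho_theta (hN : 0 < N) (h : DivCond lam N)
    (x : MonoidAlgebra R (Multiplicative (ZMod N)) ⊗[R] K) :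
    rho hu hN h (theta K h x) = x := by
  induction x using TensorProduct.induction_on with
  | zero => rw [map_zero, map_zero]
  | tmul b κ =>
    rw [theta_tmul, rho_tmul, rho₁_alpha, Algebra.TensorProduct.tmul_mul_tmul, mul_one, one_mul]
  | add x y hx hy => rw [map_add, map_add, hx, hy]

include hu in
theorem theta_bijective (hN : 0 < N) (h : DivCond lam N) : Function.Bijective (theta K h) :=
  ⟨Function.LeftInverse.injective (rho_theta hu hN h),
    Function.RightInverse.surjective (theta_rho hu hN h)⟩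

end Base

end Groth.Agent.Lib.R2H7.SSAlphaGen
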