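import Mathlib
import Groth.Prelude.Def_NonAbH2
import Groth.Prelude.Def_AlgGrp
import Groth.Agent.Lib.Helper8ExactSeq
import Groth.Agent.Lib.Helper12Act
import Groth.Agent.Lib.Helper12Torsor
import Groth.Agent.Lib.Helper12Descent
import Groth.Agent.Lib.Helper8BalProdFix

/-!
# R2H7TorsGenA: torsors under finite flat groups and equivariant maps which are generically bijective

* `isIso_of_existsUnique_lift` (Yoneda).
* `torsor_prop`, `torsor_isFinite`, `torsor_flat`, `torsor_surjective`: the structure morphism of an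
  fppf torsor inherits properties of the group.
* `bijective_comp_of_isIso_pullback`: if `g` becomes an isomorphism after base change along `j`, it is
  bijective on `T`-points for all `T` over the source of `j`.
* `existsUnique_lift_of_bijective`: a `g`-equivariant map of pseudo-torsors `φ : P ⟶ P'` is bijective on
  `T`-points whenever `g` is and `P` has a `T`-point.
-/

set_option autoImplicit false

namespace Groth.Agent.Lib.R2H7.TorsGen

open CategoryTheory CategoryTheory.Limits AlgebraicGeometry MonoidalCategory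
  CartesianMonoidalCategory MonObj GrpObj
open Groth.Agent.Lib.Helper8ExactSeq Groth.Agent.Lib.Helper12

universe u

theorem isIso_of_existsUnique_lift {C : Type*} [Category C] {A B : C} (f : A ⟶ B)
    (h : ∀ (T : C) (t : T ⟶ B), ∃! l : T ⟶ A, l ≫ f = t) : IsIso f := by
  obtain ⟨s, hs, -⟩ := h B (𝟙 B)
  refine ⟨s, ?_, hs⟩
  obtain ⟨l, -, hl⟩ := h A f
  have h1 : f ≫ s = l := hl (f ≫ s) (by
    show (f ≫ s) ≫ f = f
    rw [Category.assoc, hs, Category.comp_id])
  have h2 : 𝟙 A = l := hl (𝟙 A) (Category.id_comp f)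
  rw [h1, h2]

section TorsorProp

variable {S : Scheme.{u}} {G P : Over S} [GrpObj G] (a : AlgGrp.Action G P)

theorem torsor_prop (Q : MorphismProperty Scheme.{u}) [IsZariskiLocalAtTarget Q]
    [Q.DescendsAlong (@Surjective ⊓ @Flat ⊓ @LocallyOfFinitePresentation)]
    [Q.IsStableUnderBaseChange]
    (hP : NonAbH1.IsTorsorFor Scheme.fppfPrecoverage a) (hG : Q G.hom) : Q P.hom := by
  obtain ⟨hps, R, hR, hsec⟩ := hP
  exact Groth.Agent.Lib.Helper8BalProdFix.of_fppf_cover Q P.hom R hR (fun V φ hφ =>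
    pullback_snd_of_hasSectionOver a hps hG φ (hsec φ hφ))

theorem torsor_isFinite (hP : NonAbH1.IsTorsorFor Scheme.fppfPrecoverage a) [IsFinite G.hom] :
    IsFinite P.hom := by
  haveI := descendsAlong_isFinite.{u}
  exact torsor_prop a @IsFinite hP inferInstance

theorem torsor_flat (hP : NonAbH1.IsTorsorFor Scheme.fppfPrecoverage a) [Flat G.hom] :
    Flat P.hom := by
  haveI := descendsAlong_flat.{u}
  exact torsor_prop a @Flat hP inferInstance

theorem torsor_surjective (hP : NonAbH1.IsTorsorFor Scheme.fppfPrecoverage a) :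
    Surjective P.hom := by
  obtain ⟨-, R, hR, hsec⟩ := hP
  have hR' : R ∈ Scheme.precoverage (@Flat ⊓ @LocallyOfFinitePresentation) S := hR
  obtain ⟨𝒰₀, rfl⟩ := (Precoverage.mem_iff_exists_zeroHypercover).mp hR'
  refine ⟨fun x => ?_⟩
  obtain ⟨i, y, rfl⟩ := Scheme.Cover.exists_eq 𝒰₀ x
  obtain ⟨s, hs⟩ := hsec (𝒰₀.f i) ⟨i⟩
  exact ⟨s y, by rw [← Scheme.Hom.comp_apply, hs]⟩

end TorsorProp

section Points

variable {X Y : Scheme.{u}} (j : Y ⟶ X) {G G' : Over X} (g : G ⟶ G')

theorem bijective_comp_of_isIso_pullback (hg : IsIso ((Over.pullback j).map g)) (T : Over Y) :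
    Function.Bijective (fun c : (Over.map j).obj T ⟶ G => c ≫ g) := by
  let e := (Over.mapPullbackAdj j).homEquiv T
  have hnat : ∀ c : (Over.map j).obj T ⟶ G, e G' (c ≫ g) = e G c ≫ (Over.pullback j).map g :=
    fun c => Adjunction.homEquiv_naturality_right _ _ _
  constructor
  · intro c₁ c₂ h
    have h1 : e G c₁ ≫ (Over.pullback j).map g = e G c₂ ≫ (Over.pullback j).map g := by
      rw [← hnat, ← hnat]; exact congrArg _ h
    exact (e G).injective ((cancel_mono _).mp h1)
  · intro c'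
    refine ⟨(e G).symm (e G' c' ≫ inv ((Over.pullback j).map g)), ?_⟩
    apply (e G').injective
    change e G' ((e G).symm (e G' c' ≫ inv ((Over.pullback j).map g)) ≫ g) = _
    rw [hnat, Equiv.apply_symm_apply, Category.assoc, IsIso.inv_hom_id, Category.comp_id]

end Points

section Equivariant

variable {S : Scheme.{u}} {G G' P P' : Over S} [GrpObj G] [GrpObj G'] (g : G ⟶ G') [IsMonHom g]
  (a : AlgGrp.Action G P) (a' : AlgGrp.Action G' P') (φ : P ⟶ P')

theorem act_comp_equivariant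
    (hφ : a.act ≫ φ = lift (fst G P ≫ g) (snd G P ≫ φ) ≫ a'.act) {T : Over S}
    (c : T ⟶ G) (x : T ⟶ P) :
    (lift c x ≫ a.act) ≫ φ = lift (c ≫ g) (x ≫ φ) ≫ a'.act := by
  rw [Category.assoc, hφ, ← Category.assoc]
  congr 1
  apply CartesianMonoidalCategory.hom_ext
  · simp
  · simp

theorem existsUnique_lift_of_bijective
    (hP : NonAbH1.IsPseudoTorsorSch a) (hP' : NonAbH1.IsPseudoTorsorSch a')
    (hφ : a.act ≫ φ = lift (fst G P ≫ g) (snd G P ≫ φ) ≫ a'.act) {T : Over S}
    (hbij : Function.Bijective (fun c : T ⟶ G => c ≫ g)) (x₀ : T ⟶ P) (σ : T ⟶ P') :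
    ∃! x : T ⟶ P, x ≫ φ = σ := by
  obtain ⟨c', hc', -⟩ := existsUnique_of_isPseudoTorsor hP' (x₀ ≫ φ) σ
  obtain ⟨c, hc⟩ := hbij.surjective c'
  have hc2 : c ≫ g = c' := hc
  refine ⟨lift c x₀ ≫ a.act, ?_, ?_⟩
  · change (lift c x₀ ≫ a.act) ≫ φ = σ
    rw [act_comp_equivariant g a a' φ hφ, hc2, hc']
  · intro x hx
    obtain ⟨d, hd, -⟩ := existsUnique_of_isPseudoTorsor hP x₀ x
    have h1 : lift (d ≫ g) (x₀ ≫ φ) ≫ a'.act = σ := by
      rw [← act_comp_equivariant g a a' φ hφ, hd, hx]
    have h2 : d ≫ g = c' :=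
      (existsUnique_of_isPseudoTorsor hP' (x₀ ≫ φ) σ).unique h1 hc'
    have h3 : d = c := hbij.injective (h2.trans hc2.symm)
    rw [← hd, h3]

end Equivariant

end Groth.Agent.Lib.R2H7.TorsGen
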