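import Mathlib
import Groth.Agent.Lib.R2H7TorsGenA

/-!
# R2H7TorsGenB: the fibre of a generically bijective equivariant map over a section is generically
an isomorphism

`isIso_generic_fibre`: let `φ : P ⟶ P'` be `g`-equivariant between pseudo-torsors over `X`, `s'` a
section of `P'`, `j : Y ⟶ X` with `g` an isomorphism after base change along `j`, and `P ⟶ X` flat,
surjective and quasi-compact.  Then the base change to `Y` of the fibre `φ⁻¹(s') ⟶ X` is an isomorphism.
-/

set_option autoImplicit false

namespace Groth.Agent.Lib.R2H7.TorsGen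

open CategoryTheory CategoryTheory.Limits AlgebraicGeometry MonoidalCategory
  CartesianMonoidalCategory MonObj GrpObj
open Groth.Agent.Lib.Helper8ExactSeq Groth.Agent.Lib.Helper12

universe u

section Generic

variable {X Y : Scheme.{u}} (j : Y ⟶ X) {G G' P P' : Over X} [GrpObj G] [GrpObj G']
  (g : G ⟶ G') [IsMonHom g] (a : AlgGrp.Action G P) (a' : AlgGrp.Action G' P') (φ : P ⟶ P')
  (s' : X ⟶ P'.left)

set_option maxHeartbeats 800000 in
theorem isIso_generic_fibre
    (hg : IsIso ((Over.pullback j).map g))
    (hP : NonAbH1.IsPseudoTorsorSch a) (hP' : NonAbH1.IsPseudoTorsorSch a')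
    (hφ : a.act ≫ φ = lift (fst G P ≫ g) (snd G P ≫ φ) ≫ a'.act)
    (hs' : s' ≫ P'.hom = 𝟙 X)
    [Surjective P.hom] [Flat P.hom] [QuasiCompact P.hom] :
    IsIso (pullback.snd (pullback.snd φ.left s') j) := by
  have hQw : (@Surjective ⊓ @Flat ⊓ @QuasiCompact : MorphismProperty Scheme.{u})
      (pullback.snd P.hom j) := ⟨⟨inferInstance, inferInstance⟩, inferInstance⟩
  refine MorphismProperty.of_pullback_fst_of_descendsAlong
    (P := MorphismProperty.isomorphisms Scheme.{u})
    (Q := (@Surjective ⊓ @Flat ⊓ @QuasiCompact : MorphismProperty Scheme.{u}))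
    (f := pullback.snd P.hom j) (g := pullback.snd (pullback.snd φ.left s') j) hQw ?_
  change IsIso (pullback.fst (pullback.snd P.hom j) (pullback.snd (pullback.snd φ.left s') j))
  apply isIso_of_existsUnique_lift
  intro T t
  -- the base point
  obtain ⟨b, hb⟩ : ∃ b : T ⟶ Y, b = t ≫ pullback.snd P.hom j := ⟨_, rfl⟩
  have hbij : Function.Bijective (fun c : Over.mk (b ≫ j) ⟶ G => c ≫ g) :=
    bijective_comp_of_isIso_pullback j g hg (Over.mk b)
  have hx₀w : (t ≫ pullback.fst P.hom j) ≫ P.hom = b ≫ j := by
    rw [Category.assoc, pullback.condition, ← Category.assoc, ← hb]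
  let x₀ : Over.mk (b ≫ j) ⟶ P := Over.homMk (t ≫ pullback.fst P.hom j) hx₀w
  have hσw : ((b ≫ j) ≫ s') ≫ P'.hom = b ≫ j := by
    rw [Category.assoc, hs', Category.comp_id]
  let σ : Over.mk (b ≫ j) ⟶ P' := Over.homMk ((b ≫ j) ≫ s') hσw
  obtain ⟨x, hx, hxu⟩ := existsUnique_lift_of_bijective g a a' φ hP hP' hφ hbij x₀ σ
  have hxl : x.left ≫ φ.left = (b ≫ j) ≫ s' := by
    have := congrArg (fun k => k.left) hx
    exact this
  -- existence
  let v₁ : T ⟶ pullback φ.left s' := pullback.lift x.left (b ≫ j) hxl
  have hv₁ : v₁ ≫ pullback.snd φ.left s' = b ≫ j := pullback.lift_snd _ _ _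
  let v : T ⟶ pullback (pullback.snd φ.left s') j := pullback.lift v₁ b hv₁
  have hv : v ≫ pullback.snd (pullback.snd φ.left s') j = b := pullback.lift_snd _ _ _
  refine ⟨pullback.lift t v (by rw [hv, hb]), pullback.lift_fst _ _ _, ?_⟩
  -- uniqueness
  intro l' hl'
  have hl'2 : l' ≫ pullback.fst (pullback.snd P.hom j) (pullback.snd (pullback.snd φ.left s') j) = t :=
    hl'
  apply pullback.hom_ext
  · rw [hl'2, pullback.lift_fst]
  · rw [pullback.lift_snd]
    have hq : (l' ≫ pullback.snd (pullback.snd P.hom j) (pullback.snd (pullback.snd φ.left s') j)) ≫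
        pullback.snd (pullback.snd φ.left s') j = b := by
      rw [Category.assoc, ← pullback.condition, ← Category.assoc, hl'2, hb]
    apply pullback.hom_ext
    · -- components in `pullback φ.left s'`
      have hp1 : ((l' ≫ pullback.snd (pullback.snd P.hom j)
          (pullback.snd (pullback.snd φ.left s') j)) ≫
          pullback.fst (pullback.snd φ.left s') j) ≫ pullback.snd φ.left s' = b ≫ j := by
        rw [Category.assoc, pullback.condition, ← Category.assoc, hq]
      rw [pullback.lift_fst]
      apply pullback.hom_ext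
      · rw [pullback.lift_fst]
        -- the `P`-component
        obtain ⟨r, hr⟩ : ∃ r : T ⟶ P.left, r = ((l' ≫ pullback.snd (pullback.snd P.hom j)
            (pullback.snd (pullback.snd φ.left s') j)) ≫
            pullback.fst (pullback.snd φ.left s') j) ≫ pullback.fst φ.left s' := ⟨_, rfl⟩
        have hrφ : r ≫ φ.left = (b ≫ j) ≫ s' := by
          rw [hr, Category.assoc, pullback.condition, ← Category.assoc, hp1]
        have hrw : r ≫ P.hom = b ≫ j := by
          rw [← Over.w φ, ← Category.assoc, hrφ, Category.assoc, hs', Category.comp_id]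
        let x' : Over.mk (b ≫ j) ⟶ P := Over.homMk r hrw
        have hx' : x' ≫ φ = σ := by
          apply Over.OverMorphism.ext
          exact hrφ
        have := hxu x' hx'
        rw [← hr, ← this]
        rfl
      · rw [pullback.lift_snd, hp1]
    · rw [pullback.lift_snd, hq]

end Generic

end Groth.Agent.Lib.R2H7.TorsGen
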