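import Mathlib
import Groth.Prelude.Def_Pi1
import Groth.Agent.Lib.Helper10RedInd
import Groth.Agent.Lib.R2H4BirIso

/-!
# R2H7TorsGenC: a finite morphism to a normal integral scheme with a section over the generic point
has a section

* `ptScheme`, `ptι`: the closure of a point as an integral closed subscheme (as in `R2H1ProperPushRat`).
* `isIso_stalkMap_of_factor`.
* `exists_section_of_generic_point`.
-/

set_option autoImplicit false

namespace Groth.Agent.Lib.R2H7.TorsGen

open CategoryTheory CategoryTheory.Limits AlgebraicGeometry TopologicalSpace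
open Groth.Agent.Lib.Helper10.RedInd

universe u

section Pt

/-- the closure of a point as a closed set. -/
def ptClosed (X : Scheme.{u}) (ξ : X) : Closeds X := ⟨closure {ξ}, isClosed_closure⟩

/-- the ideal sheaf of the closure of a point with its reduced structure. -/
noncomputable def ptIdeal (X : Scheme.{u}) (ξ : X) : X.IdealSheafData :=
  Scheme.IdealSheafData.vanishingIdeal (ptClosed X ξ)

/-- the closure of a point, as an integral closed subscheme. -/
noncomputable abbrev ptScheme (X : Scheme.{u}) (ξ : X) : Scheme.{u} := (ptIdeal X ξ).subscheme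

/-- the closed immersion of the closure of a point. -/
noncomputable abbrev ptι (X : Scheme.{u}) (ξ : X) : ptScheme X ξ ⟶ X := (ptIdeal X ξ).subschemeι

theorem range_ptι (X : Scheme.{u}) (ξ : X) : Set.range (ptι X ξ) = closure {ξ} := by
  rw [Scheme.IdealSheafData.range_subschemeι]
  unfold ptIdeal
  rw [Scheme.IdealSheafData.coe_support_vanishingIdeal]
  rfl

instance isReduced_ptScheme (X : Scheme.{u}) (ξ : X) : IsReduced (ptScheme X ξ) :=
  isReduced_subscheme_vanishingIdeal (ptClosed X ξ)

instance irreducibleSpace_ptScheme (X : Scheme.{u}) (ξ : X) : IrreducibleSpace (ptScheme X ξ) := by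
  have h : IsIrreducible ((ptIdeal X ξ).support : Set X) := by
    unfold ptIdeal
    rw [Scheme.IdealSheafData.coe_support_vanishingIdeal]
    exact isIrreducible_singleton.closure
  exact Subtype.irreducibleSpace h

instance isIntegral_ptScheme (X : Scheme.{u}) (ξ : X) : IsIntegral (ptScheme X ξ) :=
  isIntegral_of_irreducibleSpace_of_isReduced _

theorem ptι_genericPoint (X : Scheme.{u}) (ξ : X) : ptι X ξ (genericPoint (ptScheme X ξ)) = ξ := by
  have hξ : ξ ∈ Set.range (ptι X ξ) := by
    rw [range_ptι]
    exact subset_closure rfl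
  obtain ⟨w, hw⟩ := hξ
  have hgen : IsGenericPoint w (⊤ : Set (ptScheme X ξ)) := by
    unfold IsGenericPoint
    rw [(ptι X ξ).isEmbedding.isInducing.closure_eq_preimage_closure_image, Set.image_singleton, hw,
      ← range_ptι]
    ext z
    simp only [Set.mem_preimage, Set.top_eq_univ, Set.mem_univ, iff_true]
    exact ⟨z, rfl⟩
  have := (genericPoint_spec (ptScheme X ξ)).eq hgen
  rw [this, hw]

end Pt

theorem isIso_stalkMap_of_factor {Z X S : Scheme.{u}} [IsIntegral Z] [IsIntegral X] (f : Z ⟶ X)
    (z₁ : S ⟶ Z) (c : S) (hc : z₁ c = genericPoint Z) (hf : f (genericPoint Z) = genericPoint X)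
    (hs : Function.Surjective ((z₁ ≫ f).stalkMap c)) : IsIso (f.stalkMap (genericPoint Z)) := by
  have hFX : ∀ y : X, y = genericPoint X → IsField (X.presheaf.stalk y) := by
    rintro _ rfl
    exact Field.toIsField X.functionField
  have hFZ : ∀ w : Z, w = genericPoint Z → IsField (Z.presheaf.stalk w) := by
    rintro _ rfl
    exact Field.toIsField Z.functionField
  have key : ∀ (w : Z) (_ : w = genericPoint Z) (B : CommRingCat.{u}) [Nontrivial B]
      (β : Z.presheaf.stalk w ⟶ B),
      Function.Surjective (f.stalkMap w ≫ β) → IsIso (f.stalkMap (genericPoint Z)) := by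
    rintro _ rfl B _ β hsurj
    rw [ConcreteCategory.isIso_iff_bijective]
    constructor
    · letI := (hFX _ hf).toField
      exact RingHom.injective (f.stalkMap (genericPoint Z)).hom
    · letI := (hFZ _ rfl).toField
      have hβ : Function.Injective β := RingHom.injective β.hom
      intro y
      obtain ⟨x, hx⟩ := hsurj (β y)
      refine ⟨x, hβ ?_⟩
      rw [← hx]
      rfl
  have hcomp := Scheme.Hom.stalkMap_comp z₁ f c
  rw [hcomp] at hs
  exact key (z₁ c) hc _ (z₁.stalkMap c) hs

theorem exists_section_of_generic_point {X F : Scheme.{u}} [IsIntegral X]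
    (hX : Pi1.IsNormalScheme X) (p : F ⟶ X) [IsFinite p]
    (z₀ : Spec (X.presheaf.stalk (genericPoint X)) ⟶ F)
    (hz₀ : z₀ ≫ p = X.fromSpecStalk (genericPoint X)) : ∃ t : X ⟶ F, t ≫ p = 𝟙 X := by
  obtain ⟨c, hcdef⟩ : ∃ c : Spec (X.presheaf.stalk (genericPoint X)),
      c = IsLocalRing.closedPoint (X.presheaf.stalk (genericPoint X)) := ⟨_, rfl⟩
  obtain ⟨z, hz⟩ : ∃ z : F, z = z₀ c := ⟨_, rfl⟩
  haveI : Subsingleton (Spec (X.presheaf.stalk (genericPoint X))) :=
    inferInstanceAs (Subsingleton (PrimeSpectrum X.functionField))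
  haveI : IsReduced (Spec (X.presheaf.stalk (genericPoint X))) :=
    inferInstanceAs (IsReduced (Spec X.functionField))
  have hker : (ptι F z).ker ≤ z₀.ker := by
    rw [Scheme.IdealSheafData.ker_subschemeι, ker_eq_vanishingIdeal_of_isReduced]
    apply Scheme.IdealSheafData.vanishingIdeal_antimono
    rw [TopologicalSpace.Closeds.closure_le]
    rintro _ ⟨w, rfl⟩
    rw [Subsingleton.elim w c, ← hz]
    exact subset_closure rfl
  obtain ⟨z₁, hz₁⟩ : ∃ z₁ : Spec (X.presheaf.stalk (genericPoint X)) ⟶ ptScheme F z,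
      z₁ ≫ ptι F z = z₀ := ⟨IsClosedImmersion.lift (ptι F z) z₀ hker,
        IsClosedImmersion.lift_fac _ _ _⟩
  obtain ⟨f, hfdef⟩ : ∃ f : ptScheme F z ⟶ X, f = ptι F z ≫ p := ⟨_, rfl⟩
  haveI : IsFinite f := by rw [hfdef]; infer_instance
  have hgen : f (genericPoint (ptScheme F z)) = genericPoint X := by
    rw [hfdef]
    change p (ptι F z (genericPoint _)) = _
    rw [ptι_genericPoint, hz]
    change (z₀ ≫ p) c = _
    rw [hz₀, hcdef]
    exact Scheme.fromSpecStalk_closedPoint
  have hc : z₁ c = genericPoint (ptScheme F z) := by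
    apply (ptι F z).isEmbedding.injective
    rw [ptι_genericPoint]
    change (z₁ ≫ ptι F z) c = z
    rw [hz₁, hz]
  haveI : Surjective f := by
    constructor
    rw [← Set.range_eq_univ, ← Set.univ_subset_iff]
    have hcl : IsClosed (Set.range f) := by
      rw [← Set.image_univ]
      exact f.isClosedMap _ isClosed_univ
    have h2 : closure {genericPoint X} ⊆ Set.range f :=
      closure_minimal (Set.singleton_subset_iff.2 ⟨genericPoint _, hgen⟩) hcl
    rwa [(genericPoint_spec X).def] at h2
  have hs : Function.Surjective ((z₁ ≫ f).stalkMap c) := by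
    have e : z₁ ≫ f = X.fromSpecStalk (genericPoint X) := by
      rw [hfdef, ← Category.assoc, hz₁, hz₀]
    rw [e]
    exact (X.fromSpecStalk (genericPoint X)).stalkMap_surjective c
  have hdeg := isIso_stalkMap_of_factor f z₁ c hc hgen hs
  haveI := Groth.Agent.Lib.R2H4.BirIso.isIso_of_finite_birational_normal f hX hdeg
  refine ⟨inv f ≫ ptι F z, ?_⟩
  rw [Category.assoc, ← hfdef]
  exact IsIso.inv_hom_id f

end Groth.Agent.Lib.R2H7.TorsGen
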