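import Mathlib
import Groth.Prelude.Def_NonAbH2
import Groth.Prelude.Def_Pi1
import Groth.Agent.Lib.R2H7TorsGenA
import Groth.Agent.Lib.R2H7TorsGenB
import Groth.Agent.Lib.R2H7TorsGenC

/-!
# R2H7TorsGenD: torsors under finite flat groups over a normal integral scheme: trivial kernel of
`H¹(X, G) → H¹(X, G')` for a generically bijective homomorphism `G → G'`
-/

set_option autoImplicit false

namespace Groth.Agent.Lib.R2H7.TorsGen

open CategoryTheory CategoryTheory.Limits AlgebraicGeometry MonoidalCategory
  CartesianMonoidalCategory MonObj GrpObj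

universe u

theorem main {X : Scheme.{u}} [IsIntegral X]
    (hX : Pi1.IsNormalScheme X) (G G' : Over X) [GrpObj G] [GrpObj G']
    [IsFinite G.hom] [Flat G.hom] [IsFinite G'.hom]
    (g : G ⟶ G') [IsMonHom g]
    (hg : IsIso ((Over.pullback (X.fromSpecStalk (genericPoint X))).map g))
    (P : Over X) (a : AlgGrp.Action G P) (hP : NonAbH1.IsTorsorFor Scheme.fppfPrecoverage a)
    (P' : Over X) (a' : AlgGrp.Action G' P') (hP' : NonAbH1.IsTorsorFor Scheme.fppfPrecoverage a')
    (hpush : NonAbH1.IsPushforwardAlongSch g a a') (htriv : NonAbH1.HasSectionOver P' (𝟙 X)) :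
    NonAbH1.HasSectionOver P (𝟙 X) := by
  obtain ⟨φ, hφ⟩ := hpush
  obtain ⟨s', hs'⟩ := htriv
  haveI := torsor_isFinite a hP
  haveI := torsor_flat a hP
  haveI := torsor_surjective a hP
  haveI := torsor_isFinite a' hP'
  haveI hq := isIso_generic_fibre (X.fromSpecStalk (genericPoint X)) g a a' φ s' hg hP.1 hP'.1
    hφ hs'
  haveI : IsClosedImmersion s' := by
    haveI : IsClosedImmersion (s' ≫ P'.hom) := by rw [hs']; infer_instance
    exact IsClosedImmersion.of_comp s' P'.hom
  have e : pullback.snd φ.left s' = pullback.fst φ.left s' ≫ P.hom := by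
    rw [← Over.w φ, ← Category.assoc, pullback.condition, Category.assoc, hs', Category.comp_id]
  haveI : IsFinite (pullback.snd φ.left s') := by
    rw [e]; infer_instance
  have hz₀ : (inv (pullback.snd (pullback.snd φ.left s') (X.fromSpecStalk (genericPoint X))) ≫
      pullback.fst (pullback.snd φ.left s') (X.fromSpecStalk (genericPoint X))) ≫
      pullback.snd φ.left s' = X.fromSpecStalk (genericPoint X) := by
    rw [Category.assoc, pullback.condition, IsIso.inv_hom_id_assoc]
  obtain ⟨t, ht⟩ := exists_section_of_generic_point hX (pullback.snd φ.left s') _ hz₀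
  exact ⟨t ≫ pullback.fst φ.left s', by rw [Category.assoc, ← e, ht]⟩

end Groth.Agent.Lib.R2H7.TorsGen
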