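import Mathlib
import Groth.Prelude.Def_SekSuwa2
import Groth.Prelude.Def_NonAbH2
import Groth.Prelude.Def_Pi1
import Groth.Prelude.Def_Red
import Groth.Agent.Lib.R2H7SSAlphaGenA
import Groth.Agent.Lib.R2H7TorsGenD
import Groth.Agent.S14694

/-!
# R2H7SSAlphaGenB: `α^{λ,N}` is generically an isomorphism; application to torsors (S14688)
-/

set_option autoImplicit false

namespace Groth.Agent.Lib.R2H7.SSAlphaGen

open CategoryTheory CategoryTheory.Limits AlgebraicGeometry SekSuwa
open scoped TensorProduct

universe u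

section PullbackSpec

variable {R A B K : Type u} [CommRing R] [CommRing A] [CommRing B] [CommRing K]
  [Algebra R A] [Algebra R B] [Algebra R K]

theorem pullbackSpec_map (ψ : B →ₐ[R] A)
    (l : pullback (Spec.map (CommRingCat.ofHom (algebraMap R A)))
        (Spec.map (CommRingCat.ofHom (algebraMap R K))) ⟶
      pullback (Spec.map (CommRingCat.ofHom (algebraMap R B)))
        (Spec.map (CommRingCat.ofHom (algebraMap R K))))
    (h1 : l ≫ pullback.fst _ _ = pullback.fst _ _ ≫ Spec.map (CommRingCat.ofHom ψ.toRingHom))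
    (h2 : l ≫ pullback.snd _ _ = pullback.snd _ _) :
    l = (pullbackSpecIso R A K).hom ≫
      Spec.map (CommRingCat.ofHom (Algebra.TensorProduct.map ψ (AlgHom.id R K)).toRingHom) ≫
        (pullbackSpecIso R B K).inv := by
  apply pullback.hom_ext
  · rw [h1, Category.assoc, Category.assoc, pullbackSpecIso_inv_fst, ← Spec.map_comp,
      ← pullbackSpecIso_hom_fst (R := R) (S := A) (T := K), Category.assoc, ← Spec.map_comp]
    congr 2
  · rw [h2, Category.assoc, Category.assoc, pullbackSpecIso_inv_snd, ← Spec.map_comp,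
      ← pullbackSpecIso_hom_snd (R := R) (S := A) (T := K)]
    congr 2
    ext κ
    simp

theorem isIso_of_bijective_map (ψ : B →ₐ[R] A)
    (l : pullback (Spec.map (CommRingCat.ofHom (algebraMap R A)))
        (Spec.map (CommRingCat.ofHom (algebraMap R K))) ⟶
      pullback (Spec.map (CommRingCat.ofHom (algebraMap R B)))
        (Spec.map (CommRingCat.ofHom (algebraMap R K))))
    (h1 : l ≫ pullback.fst _ _ = pullback.fst _ _ ≫ Spec.map (CommRingCat.ofHom ψ.toRingHom))
    (h2 : l ≫ pullback.snd _ _ = pullback.snd _ _)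
    (hbij : Function.Bijective (Algebra.TensorProduct.map ψ (AlgHom.id R K))) : IsIso l := by
  rw [pullbackSpec_map ψ l h1 h2]
  haveI : IsIso (CommRingCat.ofHom (Algebra.TensorProduct.map ψ (AlgHom.id R K)).toRingHom) := by
    rw [ConcreteCategory.isIso_iff_bijective]
    exact hbij
  infer_instance

end PullbackSpec

section Alpha

variable {R : Type u} [CommRing R] {lam : R} {N : ℕ}

theorem isIso_pullback_alphaN (hN : 0 < N) (h : DivCond lam N) (K : Type u) [CommRing K]
    [Algebra R K] (hu : IsUnit (algebraMap R K lam)) :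
    IsIso ((Over.pullback (Spec.map (CommRingCat.ofHom (algebraMap R K)))).map
      (alphaN R lam N h)) := by
  haveI : IsIso ((Over.forget _).map ((Over.pullback (Spec.map (CommRingCat.ofHom
      (algebraMap R K)))).map (alphaN R lam N h))) := by
    change IsIso ((Over.pullback (Spec.map (CommRingCat.ofHom
      (algebraMap R K)))).map (alphaN R lam N h)).left
    refine isIso_of_bijective_map
      (alphaNHom R lam N h : MonoidAlgebra R (Multiplicative (ZMod N)) →ₐ[R] AK R lam N h)
      _ ?_ ?_ (theta_bijective hu hN h)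
    · exact pullback.lift_fst _ _ _
    · exact pullback.lift_snd _ _ _
  exact isIso_of_reflects_iso _ (Over.forget _)

end Alpha

section Main

open MonoidalCategory CartesianMonoidalCategory MonObj GrpObj

theorem map_genericPoint_asIdeal {R : Type u} [CommRing R] [IsDomain R] {X : Scheme.{u}}
    [IsIntegral X] (f : X ⟶ Spec (CommRingCat.of R)) [Flat f] :
    (f (genericPoint X)).asIdeal = ⊥ := by
  obtain ⟨y₀, hy₀⟩ : ∃ y₀ : Spec (CommRingCat.of R), y₀.asIdeal = ⊥ :=
    ⟨(⟨⊥, Ideal.isPrime_bot⟩ : PrimeSpectrum R), rfl⟩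
  have hsp : y₀ ⤳ f (genericPoint X) :=
    (PrimeSpectrum.le_iff_specializes (R := R) y₀ (f (genericPoint X))).mp (by
      change y₀.asIdeal ≤ _
      rw [hy₀]
      exact bot_le)
  obtain ⟨x, hx, hfx⟩ := Flat.generalizingMap f hsp
  have hx2 : genericPoint X ⤳ x := (genericPoint_spec X).specializes (Set.mem_univ x)
  have hxe : x = genericPoint X := (hx.antisymm hx2).eq
  rw [← hxe, hfx, hy₀]

theorem main14688 (R : Type u) [CommRing R] [IsDomain R] (N : ℕ) (hN : 0 < N) (lam : R)
    (h : DivCond lam N) (X : Scheme.{u}) [IsIntegral X] (hX : Pi1.IsNormalScheme X)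
    (f : X ⟶ Spec (CommRingCat.of R)) [Flat f]
    (P : Over X) (a : AlgGrp.Action (Red.bc f (GK R lam N h)) P)
    (hP : NonAbH1.IsTorsorFor Scheme.fppfPrecoverage a)
    (P' : Over X) (a' : AlgGrp.Action (Red.bc f (Red.diag R (ZMod N))) P')
    (hP' : NonAbH1.IsTorsorFor Scheme.fppfPrecoverage a')
    (hpush : NonAbH1.IsPushforwardAlongSch ((Over.pullback f).map (alphaN R lam N h)) a a')
    (htriv : NonAbH1.HasSectionOver P' (𝟙 X)) : NonAbH1.HasSectionOver P (𝟙 X) := by
  haveI : NeZero N := ⟨hN.ne'⟩
  obtain ⟨⟨i1, i2, i3⟩, -⟩ := Groth.Agent.S14694.result R lam N hN h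
  haveI := i1
  haveI := i2
  haveI : IsFinite (Red.bc f (GK R lam N h)).hom :=
    inferInstanceAs (IsFinite (pullback.snd (GK R lam N h).hom f))
  haveI : Flat (Red.bc f (GK R lam N h)).hom :=
    inferInstanceAs (Flat (pullback.snd (GK R lam N h).hom f))
  haveI : IsFinite (Red.diag R (ZMod N)).hom := by
    change IsFinite (Spec.map (CommRingCat.ofHom
      (algebraMap R (MonoidAlgebra R (Multiplicative (ZMod N))))))
    rw [IsFinite.SpecMap_iff]
    haveI : Module.Finite R (MonoidAlgebra R (Multiplicative (ZMod N))) :=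
      Module.Finite.of_basis (MonoidAlgebra.basis (Multiplicative (ZMod N)) R)
    simpa [RingHom.finite_algebraMap]
  haveI : IsFinite (Red.bc f (Red.diag R (ZMod N))).hom :=
    inferInstanceAs (IsFinite (pullback.snd (Red.diag R (ZMod N)).hom f))
  haveI : IsMonHom ((Over.pullback f).map (alphaN R lam N h)) := Functor.map.instIsMonHom ..
  refine Groth.Agent.Lib.R2H7.TorsGen.main hX _ _ ((Over.pullback f).map (alphaN R lam N h)) ?_
    P a hP P' a' hP' hpush htriv
  obtain ⟨φ, hφ⟩ : ∃ φ : CommRingCat.of R ⟶ X.presheaf.stalk (genericPoint X),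
      Spec.map φ = X.fromSpecStalk (genericPoint X) ≫ f :=
    ⟨Spec.preimage (X.fromSpecStalk (genericPoint X) ≫ f), Spec.map_preimage _⟩
  letI : Algebra R (X.presheaf.stalk (genericPoint X)) := φ.hom.toAlgebra
  have hk : Spec.map (CommRingCat.ofHom (algebraMap R (X.presheaf.stalk (genericPoint X)))) =
      X.fromSpecStalk (genericPoint X) ≫ f := hφ
  have hne : φ.hom lam ≠ 0 := by
    intro h0
    have hmem : lam ∈ ((Spec.map φ)
        (IsLocalRing.closedPoint (X.presheaf.stalk (genericPoint X)))).asIdeal := by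
      rw [Spec.map_apply, PrimeSpectrum.comap_asIdeal, Ideal.mem_comap, h0]
      exact Ideal.zero_mem _
    rw [hφ] at hmem
    have e : (X.fromSpecStalk (genericPoint X) ≫ f)
        (IsLocalRing.closedPoint (X.presheaf.stalk (genericPoint X))) = f (genericPoint X) := by
      change f ((X.fromSpecStalk (genericPoint X))
        (IsLocalRing.closedPoint (X.presheaf.stalk (genericPoint X)))) = _
      rw [Scheme.fromSpecStalk_closedPoint]
    rw [e, map_genericPoint_asIdeal, Ideal.mem_bot] at hmem
    exact (nonZeroDivisors.ne_zero h.nzd) hmem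
  have hF : IsField (X.presheaf.stalk (genericPoint X)) :=
    isField_stalk_of_closure_mem_irreducibleComponents X _
      (by simp [irreducibleComponents_eq_singleton])
  have hu : IsUnit (algebraMap R (X.presheaf.stalk (genericPoint X)) lam) := by
    obtain ⟨b, hb⟩ := hF.mul_inv_cancel hne
    exact isUnit_iff_exists_inv.mpr ⟨b, hb⟩
  have h1 := isIso_pullback_alphaN hN h (X.presheaf.stalk (genericPoint X)) hu
  rw [hk] at h1
  exact (NatIso.isIso_map_iff (Over.pullbackComp (X.fromSpecStalk (genericPoint X)) f)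
    (alphaN R lam N h)).mp h1

end Main

end Groth.Agent.Lib.R2H7.SSAlphaGen
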