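import Mathlib
import Groth.Prelude.Def_SekSuwa2
import Groth.Prelude.Def_TwC
import Groth.Agent.Lib.R2H7SSMain
import Groth.Agent.Lib.R2H7SSTrans

/-!
# R2H7SSFinal: finite flat group schemes over a DVR with generic fibre `ℤ/p` are the `G_{λ,1}`

`specHom_id`, `grpIso_of_bialgEquiv` (a bialgebra isomorphism gives an isomorphism of the group
schemes), `aux` (the classification for `G` identified with `Spec A`), `main` (the classification
for an arbitrary finite flat `G`).
-/

set_option autoImplicit false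

namespace Groth.Agent.Lib.R2H7.SSFinal

open CategoryTheory CategoryTheory.Limits MonoidalCategory CartesianMonoidalCategory MonObj GrpObj
  AlgebraicGeometry
open scoped TensorProduct
open Groth.Agent.Lib.R2H7.SSTrans

universe u

section Iso

variable {R : Type u} [CommRing R] {B₁ B₂ : Type u} [CommRing B₁] [CommRing B₂]
  [HopfAlgebra R B₁] [HopfAlgebra R B₂]

theorem specHom_id : SekSuwa.specHom (BialgHom.id R B₁) = 𝟙 _ := by
  apply Over.OverMorphism.ext
  rw [SekSuwa.specHom_left]
  exact Spec.map_id (CommRingCat.of B₁)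

/-- a bialgebra isomorphism gives an isomorphism of the spectra over `Spec R` -/
noncomputable def specIso (E : B₁ ≃ₐc[R] B₂) :
    (Spec (CommRingCat.of B₂)).asOver (Spec (CommRingCat.of R)) ≅
      (Spec (CommRingCat.of B₁)).asOver (Spec (CommRingCat.of R)) where
  hom := SekSuwa.specHom (E : B₁ →ₐc[R] B₂)
  inv := SekSuwa.specHom (E.symm : B₂ →ₐc[R] B₁)
  hom_inv_id := by
    rw [← SekSuwa.specHom_comp, BialgEquiv.comp_symm]
    exact specHom_id
  inv_hom_id := by
    rw [← SekSuwa.specHom_comp, BialgEquiv.symm_comp]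
    exact specHom_id

instance (E : B₁ ≃ₐc[R] B₂) : IsMonHom (specIso E).hom :=
  SekSuwa.isMonHom_specHom _

/-- a bialgebra isomorphism gives an isomorphism of affine group schemes -/
noncomputable def grpIso_of_bialgEquiv (E : B₁ ≃ₐc[R] B₂) :
    Grp.mk ((Spec (CommRingCat.of B₂)).asOver (Spec (CommRingCat.of R))) ≅
      Grp.mk ((Spec (CommRingCat.of B₁)).asOver (Spec (CommRingCat.of R))) :=
  Grp.mkIso' (specIso E)

end Iso

section Main

variable (R : Type u) [CommRing R] [IsDomain R] [IsDiscreteValuationRing R]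
  (p : ℕ) [Fact p.Prime] [CharP (IsLocalRing.ResidueField R) p]
  (ζ : R) (hζ : IsPrimitiveRoot ζ p)

include hζ in
theorem aux (A : Type u) [CommRing A] [HopfAlgebra R A]
    (G : Over (Spec (CommRingCat.of R))) [GrpObj G] [IsFinite G.hom] [Flat G.hom]
    (e₀ : Grp.mk ((Spec (CommRingCat.of A)).asOver (Spec (CommRingCat.of R))) ≅ Grp.mk G)
    (e : Red.bc (Spec.map (CommRingCat.ofHom (algebraMap R (FractionRing R)))) G ≅
      TwC.const (Spec (CommRingCat.of (FractionRing R))) (Multiplicative (ZMod p)))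
    (he : TwC.IsConstGrp (Multiplicative (ZMod p))
      (Red.bc (Spec.map (CommRingCat.ofHom (algebraMap R (FractionRing R)))) G) e) :
    ∃ (lam : R) (h : SekSuwa.DivCond lam p), lam ≠ 0 ∧
      Nonempty (Grp.mk G ≅ Grp.mk (SekSuwa.GK R lam p h)) := by
  obtain ⟨u, hu⟩ : ∃ u : (Spec (CommRingCat.of A)).asOver (Spec (CommRingCat.of R)) ⟶ G,
    u = e₀.hom.hom.hom := ⟨_, rfl⟩
  obtain ⟨v, hv⟩ : ∃ v : G ⟶ (Spec (CommRingCat.of A)).asOver (Spec (CommRingCat.of R)),
    v = e₀.inv.hom.hom := ⟨_, rfl⟩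
  haveI : IsMonHom u := by rw [hu]; infer_instance
  haveI : IsMonHom v := by rw [hv]; infer_instance
  have huv : u ≫ v = 𝟙 _ := by
    rw [hu, hv, ← Grp.comp_hom_hom, e₀.hom_inv_id, Grp.id_hom_hom]
  have hvu : v ≫ u = 𝟙 G := by
    rw [hu, hv, ← Grp.comp_hom_hom, e₀.inv_hom_id, Grp.id_hom_hom]
  haveI : IsIso u := ⟨v, huv, hvu⟩
  obtain ⟨ul, hul⟩ : ∃ ul : Spec (CommRingCat.of A) ⟶ G.left, ul = u.left := ⟨_, rfl⟩
  haveI : IsIso ul := by rw [hul]; exact (Over.forget _).map_isIso u
  have hw : ul ≫ G.hom = Spec.map (CommRingCat.ofHom (algebraMap R A)) := by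
    rw [hul]; exact Over.w u
  haveI hfin : IsFinite (Spec.map (CommRingCat.ofHom (algebraMap R A))) := by
    rw [← hw]; infer_instance
  haveI hflat : Flat (Spec.map (CommRingCat.ofHom (algebraMap R A))) := by
    rw [← hw]; infer_instance
  haveI : Module.Finite R A := by
    have := (IsFinite.SpecMap_iff _).mp hfin
    exact RingHom.finite_algebraMap.mp this
  haveI : Module.Flat R A := by
    have := (Flat.SpecMap_iff).mp hflat
    exact RingHom.flat_algebraMap_iff.mp this
  obtain ⟨χ, hχ⟩ : ∃ χ : ZMod p → (A →ₐ[R] FractionRing R),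
      χ = fun m => chi G v e (Multiplicative.ofAdd m) := ⟨_, rfl⟩
  have hinj : ∀ a : A, (∀ m, χ m a = 0) → a = 0 := by
    intro a ha
    refine chi_jointly_injective G u v e huv (IsFractionRing.injective R (FractionRing R)) a ?_
    intro m
    have := ha (Multiplicative.toAdd m)
    rw [hχ] at this
    exact this
  have hmul : ∀ m n a, χ (m + n) a = Algebra.TensorProduct.lift (χ m) (χ n)
      (fun _ _ => Commute.all _ _) (Coalgebra.comul (R := R) a) := by
    intro m n a
    rw [hχ]
    exact chi_mul G v e he (Multiplicative.ofAdd m) (Multiplicative.ofAdd n) a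
  have hdist : Function.Injective χ := by
    rw [hχ]
    exact (chi_injective G u v e hvu).comp Multiplicative.ofAdd.injective
  obtain ⟨lam, h, hlam, ⟨E⟩⟩ := Groth.Agent.Lib.R2H7.SSMain.main p ζ hζ χ hinj hmul hdist
  exact ⟨lam, h, hlam, ⟨e₀.symm ≪≫ grpIso_of_bialgEquiv E⟩⟩

include hζ in
theorem main (G : Over (Spec (CommRingCat.of R))) [GrpObj G] [IsFinite G.hom] [Flat G.hom]
    (e : Red.bc (Spec.map (CommRingCat.ofHom (algebraMap R (FractionRing R)))) G ≅
      TwC.const (Spec (CommRingCat.of (FractionRing R))) (Multiplicative (ZMod p)))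
    (he : TwC.IsConstGrp (Multiplicative (ZMod p))
      (Red.bc (Spec.map (CommRingCat.ofHom (algebraMap R (FractionRing R)))) G) e) :
    ∃ (lam : R) (h : SekSuwa.DivCond lam p), lam ≠ 0 ∧
      Nonempty (Grp.mk G ≅ Grp.mk (SekSuwa.GK R lam p h)) := by
  haveI : IsAffine G.left := isAffine_of_isAffineHom G.hom
  obtain ⟨Y, ⟨e₀⟩⟩ := (essImage_hopfSpec (R := CommRingCat.of R) (G := Grp.mk G)).mpr
    ‹IsAffine G.left›
  exact @aux R _ _ _ p _ _ ζ hζ (Y.unop : Type u) Y.unop.commRing Y.unop.hopfAlgebra G _ _ _ e₀ e he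

end Main

end Groth.Agent.Lib.R2H7.SSFinal
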