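import Mathlib
import Groth.Prelude.Def_StabCat
import Groth.Agent.Lib.R2H7StabNum
import Groth.Agent.Lib.R2H7HilbStab
import Groth.Agent.Lib.R2H7HilbStabB
import Groth.Agent.Lib.R2H7HilbStabC
import Groth.Agent.Lib.R2H7ValLattice
import Groth.Agent.Lib.R2H7HNBridge
import Groth.Agent.Lib.R2H7JHUnique
import Groth.Agent.Lib.R2H7JHSummand

/-!
# helper7: a nonzero morphism between semistable objects with the same reduced polynomial

`exists_stable_sub_of_hom_ne_zero`: if `f : E ⟶ F` is a nonzero morphism between semistable objects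
with the same reduced polynomial and `sF` is a Jordan-Hölder filtration of `F`, there are a stable
subobject `g : S ⟶ F` (with the reduced polynomial of `F`) through which a quotient of a subobject
of `E` maps (`e1 ≫ f = e2 ≫ g` with `e2` an epimorphism), and a Jordan-Hölder filtration of
`F / S`, such that `S` and the factors of `F / S` are factors of `sF`.

`mono_map_of_chain`: a functor sends `g` to a monomorphism if it does so for the successive
inclusions of the preimages of a filtration of the cokernel.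
-/

set_option autoImplicit false
universe v u
open CategoryTheory CategoryTheory.Limits Polynomial StabCat Filter
open Groth.Agent.Lib.R2H7.StabNum Groth.Agent.Lib.R2H7.HilbStab Groth.Agent.Lib.R2H7.ValLattice
  Groth.Agent.Lib.R2H7.HNBridge Groth.Agent.Lib.R2H7.JHUnique Groth.Agent.Lib.R2H7.JHSummand

namespace Groth.Agent.Lib.R2H7.SSHom

variable {C : Type u} [Category.{v} C] [Abelian C]

theorem isIso_cokernel_π_of_isZero {A B : C} (u : A ⟶ B) (hz : IsZero A) :
    IsIso (cokernel.π u) := by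
  have hu : u = 0 := hz.eq_of_src _ _
  subst hu
  infer_instance

/-- a functor sends `g` to a monomorphism if it does so for the successive inclusions of the
preimages of a filtration of the cokernel of `g` -/
theorem mono_map_of_chain {D : Type*} [Category D] (Φ : C ⥤ D) {F S : C} (g : S ⟶ F) [Mono g]
    (sQ : LTSeries (Subobject (cokernel g))) (hhead : sQ.head = ⊥) (hlast : sQ.last = ⊤)
    (hstep : ∀ k : Fin sQ.length,
      Mono (Φ.map (Subobject.ofLE (pre (cokernel.π g) (sQ k.castSucc))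
        (pre (cokernel.π g) (sQ k.succ)) (pre_mono _ (le_of_lt (sQ.step k)))))) :
    Mono (Φ.map g) := by
  have hbot : pre (cokernel.π g) ⊥ = Subobject.mk g := pre_bot_eq g
  have key : ∀ i : Fin (sQ.length + 1), ∀ h : Subobject.mk g ≤ pre (cokernel.π g) (sQ i),
      Mono (Φ.map (Subobject.ofLE _ _ h)) := by
    intro i
    induction i using Fin.induction with
    | zero =>
      intro h
      have e0 : sQ 0 = ⊥ := hhead
      have h' : pre (cokernel.π g) (sQ 0) ≤ Subobject.mk g := by rw [e0, hbot]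
      haveI : IsIso (Subobject.ofLE _ _ h) :=
        ⟨⟨Subobject.ofLE _ _ h', by rw [Subobject.ofLE_comp_ofLE, Subobject.ofLE_refl],
          by rw [Subobject.ofLE_comp_ofLE, Subobject.ofLE_refl]⟩⟩
      infer_instance
    | succ i ih =>
      intro h
      have h1 : Subobject.mk g ≤ pre (cokernel.π g) (sQ i.castSucc) := by
        rw [← hbot]
        exact pre_mono _ bot_le
      haveI := ih h1
      haveI := hstep i
      rw [← Subobject.ofLE_comp_ofLE _ _ _ h1 (pre_mono _ (le_of_lt (sQ.step i))), Φ.map_comp]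
      exact mono_comp _ _
  have el : sQ (Fin.last sQ.length) = ⊤ := hlast
  have htop : pre (cokernel.π g) (sQ (Fin.last sQ.length)) = ⊤ := by
    rw [el]
    exact Subobject.pullback_top _
  have h2 : Subobject.mk g ≤ pre (cokernel.π g) (sQ (Fin.last sQ.length)) := by
    rw [htop]
    exact le_top
  haveI := key (Fin.last _) h2
  haveI : IsIso (pre (cokernel.π g) (sQ (Fin.last sQ.length))).arrow :=
    (Subobject.isIso_arrow_iff_eq_top _).2 htop
  have hg : (Subobject.underlyingIso g).inv ≫ Subobject.ofLE _ _ h2 ≫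
      (pre (cokernel.π g) (sQ (Fin.last sQ.length))).arrow = g := by
    rw [Subobject.ofLE_arrow, Subobject.underlyingIso_arrow]
  have hΦ : Φ.map g = Φ.map (Subobject.underlyingIso g).inv ≫ Φ.map (Subobject.ofLE _ _ h2) ≫
      Φ.map (pre (cokernel.π g) (sQ (Fin.last sQ.length))).arrow := by
    rw [← Φ.map_comp, ← Φ.map_comp, hg]
  rw [hΦ]
  infer_instance

variable {ok : C → Prop} {HP : C → ℚ[X] → Prop} {sdim : C → WithBot ℕ∞}

section WithAx

variable (ax : Ax ok HP sdim)
include ax

/-- tested preimages -/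
theorem ok_pre (axn : AxN ok HP) {E Q : C} (π : E ⟶ Q) [Epi π] (okE : ok E) (okQ : ok Q)
    {S : Subobject Q} (okS : ok (S : C)) : ok ((pre π S : Subobject E) : C) := by
  have okC := ax.ok_coker S.arrow okS okQ
  haveI : Epi (π ≫ cokernel.π S.arrow) := epi_comp _ _
  have okK := ax.ok_ker (π ≫ cokernel.π S.arrow) okE okC
  obtain ⟨pK, hpK⟩ := ax.hp_exists okK
  obtain ⟨h1, -⟩ := PP_mk ax axn (kernel.ι (π ≫ cokernel.π S.arrow)) okK hpK
  rw [← pre_eq_mk_kernel] at h1
  exact h1

/-- the terms of a Jordan-Hölder filtration are tested -/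
theorem ok_of_isJH (axn : AxN ok HP) {Q : C} (okQ : ok Q) {d : ℕ} (sQ : LTSeries (Subobject Q))
    (hsQ : IsJHWith (fun G => St ok HP sdim G d) HP d Q sQ) (i : Fin (sQ.length + 1)) :
    ok ((sQ i : Subobject Q) : C) := by
  obtain ⟨pQ, hpQ⟩ := ax.hp_exists okQ
  exact (inX_of_chain ax axn okQ sQ hsQ.1 hsQ.2.1
    (fun i => ⟨(hsQ.2.2 i).1.1, fun p hp => (hsQ.2.2 i).2 p pQ hp hpQ⟩) i).1

/-- the one-term series `⊥` -/
noncomputable def botSeries (S : C) : LTSeries (Subobject S) := RelSeries.singleton _ ⊥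

omit ax in
theorem botSeries_last (S : C) : (botSeries S).last = ⊥ := rfl

omit ax in
theorem botSeries_length (S : C) : (botSeries S).length = 0 := rfl

/-- the filtration `⊥ < ⊤` of a stable object -/
theorem exists_trivial_jh (axn : AxN ok HP) {S : C} {d : ℕ} (hS : St ok HP sdim S d) :
    ∃ (s : LTSeries (Subobject S)) (j : Fin s.length),
      IsJHWith (fun F => St ok HP sdim F d) HP d S s ∧ Nonempty (factor s j ≅ S) := by
  have hlt : (botSeries S).last < ⊤ := by
    rw [botSeries_last]
    exact bot_lt_top_of_not_isZero hS.2.1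
  obtain ⟨e⟩ := factor_snoc_last_iso (botSeries S) ⊤ hlt
    (⊥ : Subobject S).arrow (𝟙 S) (Subobject.mk_arrow _) (Subobject.top_eq_id S).symm
    (⊥ : Subobject S).arrow (Category.comp_id _)
  haveI : IsIso (cokernel.π (⊥ : Subobject S).arrow) :=
    isIso_cokernel_π_of_isZero _ isZero_bot
  have e' : factor ((botSeries S).snoc ⊤ hlt) (Fin.last (botSeries S).length) ≅ S :=
    e ≪≫ (asIso (cokernel.π (⊥ : Subobject S).arrow)).symm
  refine ⟨(botSeries S).snoc ⊤ hlt, Fin.last (botSeries S).length, ⟨?_, ?_, ?_⟩, ⟨e'⟩⟩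
  · rw [RelSeries.head_snoc]
    rfl
  · exact RelSeries.last_snoc _ _ _
  · refine Fin.lastCases (n := (botSeries S).length) ?_ ?_
    · refine ⟨ax.st_of_iso axn e'.symm hS, fun p q hp hq => ?_⟩
      rw [ax.hp_unique (ax.hp_iso e' hp) hq]
      exact redEq_refl d q
    · intro i
      exact i.elim0

/-- **a nonzero morphism between semistable objects with the same reduced polynomial** -/
theorem exists_stable_sub_of_hom_ne_zero (axn : AxN ok HP)
    (hacc : ∀ {Q : C}, ok Q → WellFoundedGT {S : Subobject Q // ok (S : C)})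
    (hbi : ∀ {A B : C}, ok A → ok B → ok (A ⊞ B)) {E F : C} {d : ℕ}
    (hE : SS ok HP sdim E d) (hF : SS ok HP sdim F d) {pE pF : ℚ[X]} (hpE : HP E pE)
    (hpF : HP F pF) (hred : RedEq d pE pF) (sF : LTSeries (Subobject F))
    (hsF : IsJHWith (fun G => St ok HP sdim G d) HP d F sF) (f : E ⟶ F) (hf : f ≠ 0) :
    ∃ (S : C) (g : S ⟶ F) (E' : C) (e1 : E' ⟶ E) (e2 : E' ⟶ S)
      (sQ : LTSeries (Subobject (cokernel g))),
      Mono g ∧ Epi e2 ∧ e1 ≫ f = e2 ≫ g ∧ St ok HP sdim S d ∧
      IsJHWith (fun G => St ok HP sdim G d) HP d (cokernel g) sQ ∧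
      (∃ i : Fin sF.length, Nonempty (S ≅ factor sF i)) ∧
      (∀ k : Fin sQ.length, ∃ i : Fin sF.length, Nonempty (factor sQ k ≅ factor sF i)) := by
  have okE := hE.1
  have okF := hF.1
  have okI := ax.ok_image f okE okF
  have nzI : ¬ IsZero (Abelian.image f) := fun hz => hf (by
    rw [← Abelian.image.fac f, hz.eq_of_tgt (Abelian.factorThruImage f) 0, Limits.zero_comp])
  obtain ⟨pI, hpI⟩ := ax.hp_exists okI
  have l1 : RedLE d pE pI :=
    ax.redLE_quot okE hE.2.2.2 (Abelian.factorThruImage f) okI hpE hpI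
  have l2 : RedLE d pI pF := ax.redLE_sub hF.2.2.2 (Abelian.image.ι f) okI nzI hpI hpF
  have aE : 0 < alpha d pE := ax.alpha_pos_of_pure okE hE.2.1 hE.2.2.1 hpE
  have aF : 0 < alpha d pF := ax.alpha_pos_of_pure okF hF.2.1 hF.2.2.1 hpF
  have aI : 0 < alpha d pI :=
    ax.alpha_pos d okI hpI (hF.2.2.1 _ (Abelian.image.ι f) inferInstance okI nzI)
  have hredI : RedEq d pI pF := by
    rw [redLE_iff] at l1 l2
    have h3 := redEq_iff.1 hred
    unfold RedEq
    apply eq_of_eventually_eq
    filter_upwards [l1, l2] with m h1 h2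
    rw [eval_smul, eval_smul, smul_eq_mul, smul_eq_mul]
    apply le_antisymm h2
    have h5 := h3 m
    have h6 := mul_le_mul_of_nonneg_left h1 aF.le
    have h4 : alpha d pE * (alpha d pI * pF.eval (m : ℚ)) ≤
        alpha d pE * (alpha d pF * pI.eval (m : ℚ)) := by
      have h7 : alpha d pI * (alpha d pF * pE.eval (m : ℚ)) =
          alpha d pI * (alpha d pE * pF.eval (m : ℚ)) := by rw [h5]
      linarith
    exact le_of_mul_le_mul_left h4 aE
  have hI : SS ok HP sdim (Abelian.image f) d :=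
    ax.ss_of_sub_redEq hF (Abelian.image.ι f) okI nzI hpI hpF hredI
  obtain ⟨sI, hsI⟩ := ax.exists_jh axn hI
  have hI0 : sI 0 = ⊥ := hsI.1
  have hIl : sI (Fin.last sI.length) = ⊤ := hsI.2.1
  have hlen : 0 < sI.length := by
    by_contra h0
    have h0' : sI.length = 0 := by omega
    have e0 : (0 : Fin (sI.length + 1)) = Fin.last sI.length := Fin.ext (by simp [h0'])
    rw [e0, hIl] at hI0
    exact (bot_lt_top_of_not_isZero nzI).ne hI0.symm
  obtain ⟨i0, hi0⟩ : ∃ i0 : Fin sI.length, i0.castSucc = 0 := ⟨⟨0, hlen⟩, rfl⟩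
  have hz0 : IsZero ((sI i0.castSucc : Subobject (Abelian.image f)) : C) := by
    rw [hi0, hI0]
    exact isZero_bot
  have e : ((sI i0.succ : Subobject (Abelian.image f)) : C) ≅ factor sI i0 :=
    @asIso _ _ _ _ (cokernel.π (Subobject.ofLE (sI i0.castSucc) (sI i0.succ)
      (le_of_lt (sI.step i0)))) (isIso_cokernel_π_of_isZero _ hz0)
  have hS : St ok HP sdim ((sI i0.succ : Subobject (Abelian.image f)) : C) d :=
    ax.st_of_iso axn e.symm (hsI.2.2 i0).1
  obtain ⟨pS, hpS⟩ := ax.hp_exists hS.1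
  have hredS : RedEq d pS pF :=
    redEq_trans aI.ne' ((hsI.2.2 i0).2 pS pI (ax.hp_iso e hpS) hpI) hredI
  -- the preimage of `S` in `E`
  have hc : pullback.fst (Abelian.factorThruImage f) (sI i0.succ).arrow ≫
      Abelian.factorThruImage f = pullback.snd _ _ ≫ (sI i0.succ).arrow := pullback.condition
  have hcomm : pullback.fst (Abelian.factorThruImage f) (sI i0.succ).arrow ≫ f =
      pullback.snd (Abelian.factorThruImage f) (sI i0.succ).arrow ≫
        ((sI i0.succ).arrow ≫ Abelian.image.ι f) :=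
    calc pullback.fst (Abelian.factorThruImage f) (sI i0.succ).arrow ≫ f
        = pullback.fst (Abelian.factorThruImage f) (sI i0.succ).arrow ≫
            (Abelian.factorThruImage f ≫ Abelian.image.ι f) := by rw [Abelian.image.fac]
      _ = (pullback.fst (Abelian.factorThruImage f) (sI i0.succ).arrow ≫
            Abelian.factorThruImage f) ≫ Abelian.image.ι f := (Category.assoc _ _ _).symm
      _ = (pullback.snd _ _ ≫ (sI i0.succ).arrow) ≫ Abelian.image.ι f := by rw [hc]
      _ = _ := Category.assoc _ _ _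
  -- filtrations
  obtain ⟨sT, j0, hsT, ⟨eT⟩⟩ := exists_trivial_jh ax axn hS
  obtain ⟨sQ, hsQ⟩ := exists_jh_quot ax axn hF ((sI i0.succ).arrow ≫ Abelian.image.ι f) hS.1
    hpS hpF hredS
  obtain ⟨φ, h1, h2⟩ := exists_factor_equiv ax axn hacc hbi hF sF hsF
    ((sI i0.succ).arrow ≫ Abelian.image.ι f) hS.1 hpS hpF hredS sT hsT sQ hsQ
  refine ⟨_, (sI i0.succ).arrow ≫ Abelian.image.ι f, _,
    pullback.fst (Abelian.factorThruImage f) (sI i0.succ).arrow,
    pullback.snd (Abelian.factorThruImage f) (sI i0.succ).arrow, sQ, inferInstance,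
    inferInstance, hcomm, hS, hsQ, ?_, ?_⟩
  · obtain ⟨e1⟩ := h1 j0
    exact ⟨_, ⟨eT.symm ≪≫ e1⟩⟩
  · intro k
    exact ⟨_, h2 k⟩

end WithAx

end Groth.Agent.Lib.R2H7.SSHom
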