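import Mathlib
import Groth.Prelude
import Groth.Agent.Lib.R2H7HilbPolyB
import Groth.Agent.Lib.R2H7SSHom
import Groth.Agent.Lib.R2H7FibreMono
import Groth.Agent.Lib.R2H7RetractLF

/-!
# helper7: a morphism of semistable sheaves with the same reduced Hilbert polynomial which vanishes
# in the fibre at a point near which the graded object of the target is locally free is zero
-/

set_option autoImplicit false
universe u
open CategoryTheory CategoryTheory.Limits AlgebraicGeometry StabCat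

namespace Groth.Agent.Lib.R2H7.SSHomGeo

open Groth.Agent.Lib.R2H7.HilbStab Groth.Agent.Lib.R2H7.JHSummand Groth.Agent.Lib.R2H7.SSHom
  Groth.Agent.Lib.R2H7.FibreMono

/-- a summand of a finite coproduct is a retract -/
theorem sigma_retract {C : Type*} [Category C] [Abelian C] {n : ℕ} (B : Fin n → C) (i : Fin n) :
    ∃ (s : B i ⟶ ∐ B) (r : (∐ B) ⟶ B i), s ≫ r = 𝟙 _ := by
  classical
  refine ⟨Sigma.ι B i, Sigma.desc (fun j => if h : j = i then eqToHom (congrArg B h) else 0), ?_⟩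
  rw [Sigma.ι_desc, dif_pos rfl, eqToHom_refl]

variable (k : Type u) [Field k] {X : Scheme.{u}} [X.Over (Spec (CommRingCat.of k))]
  [IsProper (X ↘ Spec (CommRingCat.of k))]

/-- **a morphism of semistable sheaves vanishing in a fibre is zero** -/
theorem hom_eq_zero [IrreducibleSpace X] (d : ℕ)
    (hX : topologicalKrullDim X = (d : WithBot ℕ∞))
    (L : X.Modules) (hL : CohB1.IsAmple L) (E F : X.Modules)
    (hE : ShStab.IsSemistable k X L E d) (hF : ShStab.IsSemistable k X L F d)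
    (pE pF : Polynomial ℚ) (hpE : ShStab.IsHilbPoly k X L E pE)
    (hpF : ShStab.IsHilbPoly k X L F pF) (hred : StabCat.RedEq d pE pF)
    {T : Scheme.{u}} [Nonempty T] [Subsingleton T] (ξ : T ⟶ X)
    (sF : LTSeries (Subobject F)) (hsF : ShStab.IsJHFiltration k X L F d sF)
    (hgrF : ∀ x ∈ Set.range ξ.base, ∃ U : X.Opens, x ∈ U ∧
      FlatMod.IsFinLocFree ((StabCat.grObj sF).restrict U.ι))
    (f : E ⟶ F) (hf : (Scheme.Modules.pullback ξ).map f = 0) : f = 0 := by
  by_contra hne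
  have ax := Groth.Agent.Lib.R2H7.HilbPoly.hilbAx k L hL
  have axn := Groth.Agent.Lib.R2H7.HilbPoly.hilbAxN k L
  obtain ⟨S, g, E', e1, e2, sQ, hg, he2, hcomm, hS, hsQ, ⟨i0, ⟨eS⟩⟩, hQ⟩ :=
    exists_stable_sub_of_hom_ne_zero ax axn
      (fun hQ => Groth.Agent.Lib.R2H7.HilbPoly.hilbAcc k hQ)
      (fun hA hB => Groth.Agent.Lib.R2H7.HilbPoly.hilbBiprod hA hB) hE hF hpE hpF hred sF hsF f hne
  haveI := hg
  haveI := he2
  obtain ⟨t0⟩ := ‹Nonempty T›
  obtain ⟨U, hxU, hU⟩ := hgrF (ξ.base t0) ⟨t0, rfl⟩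
  have hξt : ∀ t : T, ξ.base t = ξ.base t0 := fun t => by rw [Subsingleton.elim t t0]
  -- the factors of `sF` are locally free on `U`
  have hfacU : ∀ i : Fin sF.length, FlatMod.IsFinLocFree ((factor sF i).restrict U.ι) := by
    intro i
    obtain ⟨s, r, hsr⟩ := sigma_retract (fun i => factor sF i) i
    exact Groth.Agent.Lib.R2H7.RetractLF.isFinLocFree_restrict_of_retract s r hsr U hU
  obtain ⟨W, hWaff, hxW, hWU⟩ := exists_isAffineOpen_mem_and_subset hxU
  have hfacW : ∀ i : Fin sF.length, FlatMod.IsFinLocFree ((factor sF i).restrict W.ι) :=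
    fun i => isFinLocFree_restrict_of_le hWU _ (hfacU i)
  have hξW : Set.range ξ ⊆ W := by
    rintro _ ⟨t, rfl⟩
    have h1 : ξ.base t = ξ.base t0 := hξt t
    exact h1 ▸ hxW
  have okF : Coh.IsCoh F := hF.1
  have okQ : Coh.IsCoh (cokernel g) := ax.ok_coker g hS.1 okF
  -- the pullback of `g` is a monomorphism
  have hmono : Mono ((Scheme.Modules.pullback ξ).map g) := by
    refine mono_map_of_chain (Scheme.Modules.pullback ξ) g sQ hsQ.1 hsQ.2.1 (fun j => ?_)
    have okB : Coh.IsCoh ((pre (cokernel.π g) (sQ j.succ) : Subobject F) : X.Modules) :=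
      ok_pre ax axn (cokernel.π g) okF okQ (ok_of_isJH ax axn okQ sQ hsQ j.succ)
    haveI : ((pre (cokernel.π g) (sQ j.succ) : Subobject F) : X.Modules).IsQuasicoherent := okB.1
    obtain ⟨i, ⟨ei⟩⟩ := hQ j
    obtain ⟨e⟩ := pre_factor_iso (cokernel.π g) (le_of_lt (sQ.step j))
    refine mono_pullback_map ξ W hWaff hξW _ ?_
    exact Groth.Agent.Lib.Helper26.ModLocFree.isFinLocFree_of_iso
      ((Scheme.Modules.restrictFunctor W.ι).mapIso (e ≪≫ ei).symm) (hfacW i)
  have h0 : (Scheme.Modules.pullback ξ).map g = 0 := by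
    haveI : Epi ((Scheme.Modules.pullback ξ).map e2) := inferInstance
    have h1 : (Scheme.Modules.pullback ξ).map e2 ≫ (Scheme.Modules.pullback ξ).map g = 0 := by
      rw [← CategoryTheory.Functor.map_comp, ← hcomm, CategoryTheory.Functor.map_comp, hf,
        Limits.comp_zero]
    exact (cancel_epi ((Scheme.Modules.pullback ξ).map e2)).1 (h1.trans Limits.comp_zero.symm)
  have hz : IsZero ((Scheme.Modules.pullback ξ).obj S) := IsZero.of_mono_eq_zero _ h0
  -- `S` is free near the point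
  have hSU : FlatMod.IsFinLocFree (S.restrict U.ι) :=
    Groth.Agent.Lib.Helper26.ModLocFree.isFinLocFree_of_iso
      ((Scheme.Modules.restrictFunctor U.ι).mapIso eS.symm) (hfacU i0)
  obtain ⟨U', n, hxU', ⟨e⟩⟩ := hSU ⟨ξ.base t0, hxU⟩
  have e' : S.restrict (U'.ι ≫ U.ι) ≅ FlatMod.freeMod (U' : Scheme.{u}) n :=
    (Scheme.Modules.restrictFunctorComp U'.ι U.ι).app S ≪≫ e
  rcases Nat.eq_zero_or_pos n with hn | hn
  · subst hn
    have hz' : IsZero ((Scheme.Modules.restrictFunctor (U'.ι ≫ U.ι)).obj S) :=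
      IsZero.of_iso (isZero_freeMod_zero _) e'
    have hns := Groth.Agent.Lib.R2H2.DevA.not_mem_support_of_isZero_restrict (U'.ι ≫ U.ι) S hz'
      ⟨⟨ξ.base t0, hxU⟩, hxU'⟩
    have hsupp : CohB1.support S = Set.univ :=
      eq_univ_of_dim_eq _ (Groth.Agent.S0020.result X S hS.1.2) d hX
        (hS.2.2.1 S (𝟙 S) inferInstance hS.1 hS.2.1)
    exact hns (hsupp ▸ Set.mem_univ _)
  · have hrange : Set.range ξ.base ⊆ Set.range (U'.ι ≫ U.ι).base := by
      rintro _ ⟨t, rfl⟩
      exact ⟨⟨⟨ξ.base t0, hxU⟩, hxU'⟩, (hξt t).symm⟩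
    obtain ⟨ε⟩ := nonempty_pullback_iso_freeMod' ξ (U'.ι ≫ U.ι) hrange S n e'
    exact not_isZero_freeMod T n hn (IsZero.of_iso hz ε.symm)

end Groth.Agent.Lib.R2H7.SSHomGeo
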