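import Mathlib
import Groth.Agent.Lib.R2H7NormLength
import Groth.Agent.Lib.Helper7RegHomField

/-!
# Codimension-two saturation of submodules of flat modules over regular rings of dimension ≤ 2
(helper7, round 2)

`Big I` : every prime containing the ideal `I` has height at least two.
`cond N a` : the conductor ideal `{r | r • a ∈ N}`.
`sat N` : the elements whose conductor into `N` is big.

Over a regular ring of Krull dimension at most two and inside a flat module, the saturation of a
finitely generated submodule is finitely generated and projective.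
-/

set_option autoImplicit false

namespace Groth.Agent.Lib.R2H7.Sat

open IsLocalRing RingTheory.Sequence

universe u v w

section Defs

variable {R : Type u} [CommRing R]

/-- An ideal all of whose primes have height at least two. -/
def Big (I : Ideal R) : Prop := ∀ p : Ideal R, p.IsPrime → I ≤ p → (2 : ℕ∞) ≤ p.height

theorem Big.mono {I J : Ideal R} (h : I ≤ J) (hI : Big I) : Big J :=
  fun p hp hJ => hI p hp (h.trans hJ)

theorem big_top : Big (⊤ : Ideal R) :=
  fun _ hp h => absurd (top_le_iff.mp h) hp.ne_top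

theorem Big.inf {I J : Ideal R} (hI : Big I) (hJ : Big J) : Big (I ⊓ J) := fun p hp h => by
  rcases hp.inf_le.mp h with h1 | h1
  · exact hI p hp h1
  · exact hJ p hp h1

variable {E : Type v} [AddCommGroup E] [Module R E]

/-- The conductor of `a` into `N`. -/
def cond (N : Submodule R E) (a : E) : Ideal R := N.comap (LinearMap.toSpanSingleton R E a)

theorem mem_cond {N : Submodule R E} {a : E} {r : R} : r ∈ cond N a ↔ r • a ∈ N := by
  simp [cond]

theorem cond_mono {N N' : Submodule R E} (h : N ≤ N') (a : E) : cond N a ≤ cond N' a :=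
  fun _ hr => mem_cond.mpr (h (mem_cond.mp hr))

theorem cond_eq_top {N : Submodule R E} {a : E} (ha : a ∈ N) : cond N a = ⊤ := by
  rw [eq_top_iff]
  intro r _
  exact mem_cond.mpr (N.smul_mem r ha)

/-- The codimension-two saturation of a submodule. -/
def sat (N : Submodule R E) : Submodule R E where
  carrier := {a | Big (cond N a)}
  zero_mem' := by
    change Big (cond N 0)
    rw [cond_eq_top N.zero_mem]
    exact big_top
  add_mem' := by
    intro a b ha hb
    change Big (cond N (a + b))
    refine Big.mono ?_ (Big.inf ha hb)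
    intro r hr
    rw [mem_cond, smul_add]
    exact N.add_mem (mem_cond.mp hr.1) (mem_cond.mp hr.2)
  smul_mem' := by
    intro c a ha
    change Big (cond N (c • a))
    refine Big.mono ?_ ha
    intro r hr
    rw [mem_cond, smul_comm]
    exact N.smul_mem c (mem_cond.mp hr)

theorem mem_sat {N : Submodule R E} {a : E} : a ∈ sat N ↔ Big (cond N a) := Iff.rfl

theorem le_sat (N : Submodule R E) : N ≤ sat N := fun a ha => by
  rw [mem_sat, cond_eq_top ha]
  exact big_top

theorem sat_mono {N N' : Submodule R E} (h : N ≤ N') : sat N ≤ sat N' :=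
  fun a ha => Big.mono (cond_mono h a) ha

theorem sat_sat (N : Submodule R E) : sat (sat N) = sat N := by
  refine le_antisymm ?_ (le_sat _)
  intro a ha
  rw [mem_sat] at ha ⊢
  intro p hp hle
  by_contra hlt
  have h1 : ¬ cond (sat N) a ≤ p := fun h => hlt (ha p hp h)
  obtain ⟨j, hj, hjp⟩ := SetLike.not_le_iff_exists.mp h1
  have hj' : Big (cond N (j • a)) := mem_cond.mp hj
  have h2 : ¬ cond N (j • a) ≤ p := fun h => hlt (hj' p hp h)
  obtain ⟨t, ht, htp⟩ := SetLike.not_le_iff_exists.mp h2
  have h3 : t * j ∈ cond N a := by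
    rw [mem_cond, mul_smul]
    exact mem_cond.mp ht
  rcases hp.mem_or_mem (hle h3) with h | h
  · exact htp h
  · exact hjp h

end Defs

section Common

variable {R : Type u} [CommRing R]

/-- Finitely many elements each killed outside a prime are killed by a common element. -/
theorem exists_notMem_forall_smul_eq_zero {X : Type v} [AddCommGroup X] [Module R X] (m : Ideal R)
    [m.IsPrime] (N : Submodule R X) (hN : N.FG) :
    (∀ x ∈ N, ∃ c, c ∉ m ∧ c • x = 0) → ∃ c, c ∉ m ∧ ∀ x ∈ N, c • x = 0 := by
  induction N, hN using Submodule.fg_induction with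
  | singleton x =>
    intro h
    obtain ⟨c, hc, hcx⟩ := h x (Submodule.mem_span_singleton_self x)
    refine ⟨c, hc, fun y hy => ?_⟩
    obtain ⟨a, rfl⟩ := Submodule.mem_span_singleton.mp hy
    rw [smul_comm, hcx, smul_zero]
  | sup N₁ N₂ _ _ ih₁ ih₂ =>
    intro h
    obtain ⟨c₁, hc₁, h₁⟩ := ih₁ fun x hx => h x (Submodule.mem_sup_left hx)
    obtain ⟨c₂, hc₂, h₂⟩ := ih₂ fun x hx => h x (Submodule.mem_sup_right hx)
    refine ⟨c₁ * c₂, fun hmem => ?_, fun x hx => ?_⟩
    · rcases Ideal.IsPrime.mem_or_mem ‹m.IsPrime› hmem with h' | h'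
      · exact hc₁ h'
      · exact hc₂ h'
    · obtain ⟨x₁, hx₁, x₂, hx₂, rfl⟩ := Submodule.mem_sup.mp hx
      have e1 : (c₁ * c₂) • x₁ = 0 := by rw [mul_comm, mul_smul, h₁ x₁ hx₁, smul_zero]
      have e2 : (c₁ * c₂) • x₂ = 0 := by rw [mul_smul, h₂ x₂ hx₂, smul_zero]
      rw [smul_add, e1, e2, add_zero]

/-- A finite family of properties of ring elements, each stable under multiples and each holding
for some element outside a prime, hold simultaneously for some element outside the prime. -/
theorem exists_common {κ : Type*} [Finite κ] (m : Ideal R) [m.IsPrime] (Q : κ → R → Prop)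
    (hQ : ∀ j c d, Q j c → Q j (d * c)) (h : ∀ j, ∃ c, c ∉ m ∧ Q j c) :
    ∃ c, c ∉ m ∧ ∀ j, Q j c := by
  classical
  haveI := Fintype.ofFinite κ
  choose c hc hQc using h
  refine ⟨∏ j, c j, fun hmem => ?_, fun j => ?_⟩
  · obtain ⟨j, _, hj⟩ := (Ideal.IsPrime.prod_mem_iff (hp := ‹m.IsPrime›)).mp hmem
    exact hc j hj
  · rw [← Finset.prod_erase_mul _ _ (Finset.mem_univ j)]
    exact hQ j _ _ (hQc j)

theorem exists_eq_smul_of_pair {S : Type u} [CommRing S] {M : Type v} [AddCommGroup M]
    [Module S M] {u v : S} (h : IsWeaklyRegular M [u, v]) {a b : M} (hab : v • a = u • b) :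
    ∃ c : M, a = u • c := by
  obtain ⟨_, h2⟩ := (isWeaklyRegular_cons_iff M u [v]).mp h
  obtain ⟨h3, _⟩ := (isWeaklyRegular_cons_iff (QuotSMulTop u M) v []).mp h2
  have h4 : v • (Submodule.Quotient.mk a : QuotSMulTop u M) = 0 := by
    rw [← Submodule.Quotient.mk_smul, hab, Submodule.Quotient.mk_eq_zero]
    exact Submodule.smul_mem_pointwise_smul b u ⊤ Submodule.mem_top
  have h5 : (Submodule.Quotient.mk a : QuotSMulTop u M) = 0 := by
    apply h3
    change v • (Submodule.Quotient.mk a : QuotSMulTop u M) = v • 0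
    rw [h4, smul_zero]
  rw [Submodule.Quotient.mk_eq_zero] at h5
  obtain ⟨c, _, hc⟩ := (Submodule.mem_smul_pointwise_iff_exists a u ⊤).mp h5
  exact ⟨c, hc.symm⟩

theorem isSMulRegular_of_pair {S : Type u} [CommRing S] {M : Type v} [AddCommGroup M]
    [Module S M] {u v : S} (h : IsWeaklyRegular M [u, v]) : IsSMulRegular M u :=
  ((isWeaklyRegular_cons_iff M u [v]).mp h).1

end Common

section Regular

variable {R : Type u} [CommRing R] [IsRegularRing R]

/-- A big ideal of a regular ring contains a nonzerodivisor. -/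
theorem Big.exists_nonZeroDivisor {I : Ideal R} (hI : Big I) : ∃ u ∈ I, u ∈ nonZeroDivisors R := by
  classical
  haveI : IsReduced R := Groth.Agent.Lib.Helper7.RegHomField.isReduced_of_isRegularRing R
  have hfin : (minimalPrimes R).Finite := minimalPrimes.finite_of_isNoetherianRing R
  by_contra hcon
  push_neg at hcon
  have hsub : (I : Set R) ⊆ ⋃ p ∈ (↑hfin.toFinset : Set (Ideal R)), (p : Set R) := by
    intro u hu
    have hu' := hcon u hu
    rw [mem_nonZeroDivisors_iff_right] at hu'
    push_neg at hu'
    obtain ⟨r, hr, hr0⟩ := hu'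
    have hrn : r ∉ nilradical R := by
      rw [nilradical_eq_zero R]
      exact hr0
    rw [nilradical, ← Ideal.sInf_minimalPrimes, Ideal.mem_sInf] at hrn
    push_neg at hrn
    obtain ⟨p, hp, hrp⟩ := hrn
    have hpp : p.IsPrime := hp.1.1
    have hup : u ∈ p := by
      have h0 : u * r ∈ p := by rw [mul_comm, hr]; exact p.zero_mem
      rcases hpp.mem_or_mem h0 with h | h
      · exact h
      · exact absurd h hrp
    simp only [Set.mem_iUnion, Finset.mem_coe, Set.Finite.mem_toFinset]
    exact ⟨p, hp, hup⟩
  obtain ⟨p, hp, hIp⟩ := (Ideal.subset_union_prime (f := fun p : Ideal R => p) ⊥ ⊥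
    (fun p hp _ _ => by
      have hp' : p ∈ minimalPrimes R := by simpa using hp
      exact hp'.1.1)).mp hsub
  have hp' : p ∈ minimalPrimes R := by simpa using hp
  haveI : p.IsPrime := hp'.1.1
  have h2 := hI p hp'.1.1 hIp
  rw [Ideal.height_eq_zero_iff.mpr hp'] at h2
  exact absurd h2 (by norm_num)

variable (hdim : ringKrullDim R ≤ 2)

include hdim in
/-- Height and dimension at a maximal ideal containing a big ideal. -/
theorem Big.ringKrullDim_localization {I : Ideal R} (hI : Big I) (m : Ideal R) [m.IsMaximal]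
    (hIm : I ≤ m) : ringKrullDim (Localization.AtPrime m) = (2 : ℕ) := by
  have h1 : (2 : ℕ∞) ≤ m.height := hI m inferInstance hIm
  have h2 : (m.height : WithBot ℕ∞) ≤ 2 := (Ideal.height_le_ringKrullDim_of_isPrime).trans hdim
  have h3 : m.height = 2 := le_antisymm (WithBot.coe_le_coe.mp h2) h1
  rw [IsLocalization.AtPrime.ringKrullDim_eq_height m (Localization.AtPrime m), h3]
  rfl

include hdim in
/-- Inside a big ideal contained in a maximal ideal `m` there are two elements forming a regular
sequence in the localization at `m`. -/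
theorem Big.exists_local_data {I : Ideal R} (hI : Big I) (m : Ideal R) [m.IsMaximal] (hIm : I ≤ m) :
    ∃ u ∈ I, ∃ v ∈ I, IsWeaklyRegular (Localization.AtPrime m)
      [algebraMap R (Localization.AtPrime m) u, algebraMap R (Localization.AtPrime m) v] := by
  set S := Localization.AtPrime m with hS
  have hdS : ringKrullDim S = (2 : ℕ) := hI.ringKrullDim_localization hdim m hIm
  have hm2 : m.height = 2 := by
    have h1 : (2 : ℕ∞) ≤ m.height := hI m inferInstance hIm
    have h2 : (m.height : WithBot ℕ∞) ≤ 2 := (Ideal.height_le_ringKrullDim_of_isPrime).trans hdim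
    exact le_antisymm (WithBot.coe_le_coe.mp h2) h1
  obtain ⟨z, hz⟩ := Groth.Agent.Lib.Helper5.HilbertRLR.exists_regular_system (A := S) hdS
  -- the extension of `I` is primary to the maximal ideal
  have hrad : maximalIdeal S ≤ (I.map (algebraMap R S)).radical := by
    rw [Ideal.radical_eq_sInf]
    refine le_sInf ?_
    rintro P ⟨hIP, hP⟩
    haveI := hP
    have hp : (P.under R).IsPrime := inferInstance
    have hIp : I ≤ P.under R := Ideal.map_le_iff_le_comap.mp hIP
    have hpm : P.under R ≤ m := by
      have h1 : P ≤ maximalIdeal S := IsLocalRing.le_maximalIdeal hP.ne_top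
      have h2 := Ideal.comap_mono (f := algebraMap R S) h1
      rwa [show (maximalIdeal S).comap (algebraMap R S) = m from
        IsLocalization.AtPrime.under_maximalIdeal S m] at h2
    have h2 := hI (P.under R) hp hIp
    have heq : P.under R = m := by
      by_contra hne
      have hlt : P.under R < m := lt_of_le_of_ne hpm hne
      have h3 := Ideal.height_add_one_le_of_lt_of_isPrime hlt
      rw [hm2] at h3
      have h4 : (2 : ℕ∞) + 1 ≤ 2 := (add_le_add_left h2 1).trans h3
      exact absurd h4 (by decide)
    have h5 : P = maximalIdeal S := by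
      rw [← IsLocalization.map_under m.primeCompl S P, heq,
        IsLocalization.AtPrime.map_eq_maximalIdeal]
    rw [h5]
  obtain ⟨n, hn⟩ := Ideal.exists_pow_le_of_le_radical_of_fg hrad
    (IsNoetherian.noetherian (maximalIdeal S))
  have hmem : ∀ i : Fin 2, ((z i : S) ^ (n + 1)) ∈ I.map (algebraMap R S) := by
    intro i
    apply hn
    rw [pow_succ]
    exact Ideal.mul_mem_right _ _ (Ideal.pow_mem_pow (z i).2 n)
  have hex : ∀ i : Fin 2, ∃ t ∈ I, ∃ s : m.primeCompl,
      (z i : S) ^ (n + 1) * algebraMap R S s = algebraMap R S t := by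
    intro i
    obtain ⟨⟨t, s⟩, hts⟩ := (IsLocalization.mem_map_algebraMap_iff m.primeCompl S).mp (hmem i)
    exact ⟨t.1, t.2, s, hts⟩
  obtain ⟨u, hu, su, hsu⟩ := hex 0
  obtain ⟨v, hv, sv, hsv⟩ := hex 1
  refine ⟨u, hu, v, hv, ?_⟩
  have hunit : ∀ s : m.primeCompl, IsUnit (algebraMap R S s) :=
    fun s => IsLocalization.map_units S s
  have hzmem : ∀ (i : Fin 2) (w : S) (s : m.primeCompl),
      (z i : S) ^ (n + 1) * algebraMap R S s = w → w ∈ maximalIdeal S := by
    intro i w s h
    rw [← h, pow_succ]
    exact Ideal.mul_mem_right _ _ (Ideal.mul_mem_left _ _ (z i).2)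
  refine Groth.Agent.Lib.R2H7.NormLength.isWeaklyRegular_of_par (n := 2) hdS _ rfl ?_ ?_
  · intro x hx
    simp only [List.mem_cons, List.not_mem_nil, or_false] at hx
    rcases hx with rfl | rfl
    · exact hzmem 0 _ su hsu
    · exact hzmem 1 _ sv hsv
  · rw [← hz, Ideal.span_le]
    rintro _ ⟨i, rfl⟩
    have hzi : ∀ (w : S) (s : m.primeCompl), w ∈ Ideal.ofList [algebraMap R S u, algebraMap R S v] →
        (z i : S) ^ (n + 1) * algebraMap R S s = w →
        (z i : S) ∈ (Ideal.ofList [algebraMap R S u, algebraMap R S v]).radical := by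
      intro w s hw h
      refine ⟨n + 1, ?_⟩
      obtain ⟨c, hc⟩ := (hunit s).exists_left_inv
      have : (z i : S) ^ (n + 1) = c * w := by
        rw [← h, mul_comm ((z i : S) ^ (n + 1)), ← mul_assoc, hc, one_mul]
      rw [this]
      exact Ideal.mul_mem_left _ _ hw
    have hu' : algebraMap R S u ∈ Ideal.ofList [algebraMap R S u, algebraMap R S v] :=
      Ideal.subset_span (by simp)
    have hv' : algebraMap R S v ∈ Ideal.ofList [algebraMap R S u, algebraMap R S v] :=
      Ideal.subset_span (by simp)
    fin_cases i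
    · exact hzi _ su hu' hsu
    · exact hzi _ sv hv' hsv

include hdim in
/-- Every linear form on a big ideal of a regular ring of dimension at most two is a
multiplication. -/
theorem Big.exists_eq_mul {I : Ideal R} (hI : Big I) (ψ : I →ₗ[R] R) :
    ∃ r : R, ∀ t : I, ψ t = (t : R) * r := by
  -- the ideal of denominators
  let D : Ideal R :=
    { carrier := {s | ∃ r : R, ∀ t : I, s * ψ t = (t : R) * r}
      add_mem' := by
        rintro s s' ⟨r, hr⟩ ⟨r', hr'⟩
        exact ⟨r + r', fun t => by rw [add_mul, hr, hr', mul_add]⟩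
      zero_mem' := ⟨0, fun t => by simp⟩
      smul_mem' := by
        rintro c s ⟨r, hr⟩
        exact ⟨c * r, fun t => by rw [smul_eq_mul, mul_assoc, hr, mul_left_comm]⟩ }
  have hsymm : ∀ (a b : I), (a : R) * ψ b = (b : R) * ψ a := by
    intro a b
    have h1 : (a : R) • b = (b : R) • a := Subtype.ext (by simp [mul_comm])
    have h2 := congrArg ψ h1
    rwa [map_smul, map_smul, smul_eq_mul, smul_eq_mul] at h2
  suffices hD : D = ⊤ by
    have h1 : (1 : R) ∈ D := hD ▸ Submodule.mem_top
    obtain ⟨r, hr⟩ := h1
    exact ⟨r, fun t => by rw [← hr t, one_mul]⟩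
  by_contra hD
  obtain ⟨m, hm, hDm⟩ := Ideal.exists_le_maximal D hD
  haveI := hm
  by_cases hIm : I ≤ m
  · set S := Localization.AtPrime m with hS
    obtain ⟨u, hu, v, hv, hreg⟩ := hI.exists_local_data hdim m hIm
    set a := ψ ⟨u, hu⟩ with ha
    set b := ψ ⟨v, hv⟩ with hb
    have hab : v * a = u * b := hsymm ⟨v, hv⟩ ⟨u, hu⟩
    have hab' : algebraMap R S v • algebraMap R S a = algebraMap R S u • algebraMap R S b := by
      rw [smul_eq_mul, smul_eq_mul, ← map_mul, ← map_mul, hab]
    obtain ⟨c, hc⟩ := exists_eq_smul_of_pair hreg hab'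
    obtain ⟨r₀, s₀, rfl⟩ := IsLocalization.exists_mk'_eq m.primeCompl c
    have h1 : algebraMap R S (a * s₀) = algebraMap R S (u * r₀) := by
      rw [map_mul, map_mul, hc, smul_eq_mul, mul_assoc, IsLocalization.mk'_spec]
    obtain ⟨s₁, hs₁⟩ := (IsLocalization.eq_iff_exists m.primeCompl S).mp h1
    -- `s * a = u * r`
    set s : R := s₁ * s₀ with hs
    set r : R := s₁ * r₀ with hr
    have hsm : s ∉ m := fun h => by
      rcases Ideal.IsPrime.mem_or_mem inferInstance h with h' | h'
      · exact s₁.2 h'
      · exact s₀.2 h'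
    have hsa : s * a = u * r := by
      rw [hs, hr]
      calc (s₁ : R) * s₀ * a = s₁ * (a * s₀) := by ring
        _ = s₁ * (u * r₀) := hs₁
        _ = u * (s₁ * r₀) := by ring
    -- the defect form
    let Z : I →ₗ[R] R := s • ψ - r • I.subtype
    have hZ : ∀ t : I, u * Z t = 0 := by
      intro t
      have h2 : u * ψ t = (t : R) * a := hsymm ⟨u, hu⟩ t
      change u * (s * ψ t - r * (t : R)) = 0
      calc u * (s * ψ t - r * (t : R)) = s * (u * ψ t) - u * r * t := by ring
        _ = s * ((t : R) * a) - s * a * t := by rw [h2, hsa]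
        _ = 0 := by ring
    have hureg : IsSMulRegular S (algebraMap R S u) := isSMulRegular_of_pair hreg
    have hZ' : ∀ x ∈ LinearMap.range Z, ∃ c, c ∉ m ∧ c • x = 0 := by
      rintro _ ⟨t, rfl⟩
      have h3 : algebraMap R S (Z t) = 0 := by
        apply hureg
        change algebraMap R S u * algebraMap R S (Z t) = algebraMap R S u * 0
        rw [← map_mul, hZ t, map_zero, mul_zero]
      obtain ⟨c, hc⟩ := (IsLocalization.map_eq_zero_iff m.primeCompl S _).mp h3
      exact ⟨c, c.2, hc⟩
    have hfg : (LinearMap.range Z).FG := by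
      rw [LinearMap.range_eq_map]
      exact Submodule.FG.map _ (Module.Finite.fg_top)
    obtain ⟨c, hcm, hc⟩ := exists_notMem_forall_smul_eq_zero m _ hfg hZ'
    have hcs : c * s ∈ D := by
      refine ⟨c * r, fun t => ?_⟩
      have h4 : c * (s * ψ t - r * (t : R)) = 0 := hc _ ⟨t, rfl⟩
      have h5 : c * s * ψ t - (t : R) * (c * r) = 0 := by
        rw [← h4]; ring
      exact sub_eq_zero.mp h5
    rcases Ideal.IsPrime.mem_or_mem inferInstance (hDm hcs) with h | h
    · exact hcm h
    · exact hsm h
  · obtain ⟨t₀, ht₀, ht₀m⟩ := SetLike.not_le_iff_exists.mp hIm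
    apply ht₀m
    apply hDm
    exact ⟨ψ ⟨t₀, ht₀⟩, fun t => hsymm ⟨t₀, ht₀⟩ t⟩

include hdim in
/-- The same for maps to a finite free module. -/
theorem Big.exists_eq_smul_finsupp {I : Ideal R} (hI : Big I) {k : ℕ}
    (ψ : I →ₗ[R] (Fin k →₀ R)) : ∃ l : Fin k →₀ R, ∀ t : I, ψ t = (t : R) • l := by
  have h : ∀ j : Fin k, ∃ r : R, ∀ t : I, (Finsupp.lapply j ∘ₗ ψ) t = (t : R) * r :=
    fun j => hI.exists_eq_mul hdim _
  choose r hr using h
  refine ⟨Finsupp.equivFunOnFinite.symm r, fun t => ?_⟩
  ext j
  have := hr j t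
  simpa using this

include hdim in
/-- The saturation of a finitely generated submodule of a flat module is finitely generated. -/
theorem sat_fg {E : Type v} [AddCommGroup E] [Module R E] [Module.Flat R E] (N : Submodule R E)
    (hN : N.FG) : (sat N).FG := by
  haveI : Module.Finite R N := Module.Finite.iff_fg.mpr hN
  haveI : Module.FinitePresentation R N := Module.finitePresentation_of_finite R N
  obtain ⟨k, g, h, hgh⟩ := Module.Flat.exists_factorization_of_finitePresentation N.subtype
  have hg : Function.Injective g := by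
    intro x y hxy
    have := congrArg h hxy
    rw [← LinearMap.comp_apply, ← LinearMap.comp_apply, ← hgh] at this
    exact Subtype.ext this
  let Γ : Submodule R (E × (Fin k →₀ R)) :=
    { carrier := {p | ∃ u ∈ nonZeroDivisors R, ∃ hu : u • p.1 ∈ N, g ⟨u • p.1, hu⟩ = u • p.2}
      add_mem' := by
        rintro ⟨a, l⟩ ⟨a', l'⟩ ⟨u, hu, hua, hgl⟩ ⟨u', hu', hua', hgl'⟩
        have h1 : (u * u') • (a + a') ∈ N := by
          rw [smul_add]
          refine N.add_mem ?_ ?_
          · rw [mul_comm, mul_smul]; exact N.smul_mem _ hua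
          · rw [mul_smul]; exact N.smul_mem _ hua'
        refine ⟨u * u', mul_mem hu hu', h1, ?_⟩
        have h2 : (⟨(u * u') • (a + a'), h1⟩ : N) = u' • ⟨u • a, hua⟩ + u • ⟨u' • a', hua'⟩ := by
          apply Subtype.ext
          simp only [Submodule.coe_add, Submodule.coe_smul, smul_add, mul_smul]
          rw [smul_comm u u' a]
        change g ⟨(u * u') • (a + a'), h1⟩ = (u * u') • (l + l')
        rw [h2, map_add, map_smul, map_smul, hgl, hgl', smul_add, mul_smul, mul_smul,
          smul_comm u' u l]
      zero_mem' := ⟨1, one_mem _, by simp, by simp; exact map_zero g⟩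
      smul_mem' := by
        rintro c ⟨a, l⟩ ⟨u, hu, hua, hgl⟩
        have h1 : u • (c • a) ∈ N := by rw [smul_comm]; exact N.smul_mem _ hua
        refine ⟨u, hu, h1, ?_⟩
        have h2 : (⟨u • (c • a), h1⟩ : N) = c • ⟨u • a, hua⟩ := by
          apply Subtype.ext
          simp only [Submodule.coe_smul]
          rw [smul_comm]
        change g ⟨u • (c • a), h1⟩ = u • (c • l)
        rw [h2, map_smul, hgl, smul_comm] }
  -- the second projection is injective on `Γ`
  let π₂ : Γ →ₗ[R] (Fin k →₀ R) := (LinearMap.snd R E (Fin k →₀ R)) ∘ₗ Γ.subtype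
  have hπ₂ : Function.Injective π₂ := by
    rw [injective_iff_map_eq_zero]
    rintro ⟨⟨a, l⟩, u, hu, hua, hgl⟩ h0
    have hl : l = 0 := h0
    subst hl
    have h1 : g ⟨u • a, hua⟩ = 0 := by
      rw [show g ⟨u • a, hua⟩ = u • (0 : Fin k →₀ R) from hgl, smul_zero]
    have h2 : (⟨u • a, hua⟩ : N) = 0 := hg (by rw [h1, map_zero])
    have h3 : u • a = 0 := congrArg Subtype.val h2
    have h4 : a = 0 := by
      apply Module.Flat.isSMulRegular_of_nonZeroDivisors hu
      change u • a = u • 0
      rw [h3, smul_zero]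
    apply Subtype.ext
    exact Prod.ext h4 rfl
  haveI : Module.Finite R Γ := Module.Finite.of_injective π₂ hπ₂
  have hΓ : Γ.FG := Module.Finite.iff_fg.mp inferInstance
  have hle : sat N ≤ Γ.map (LinearMap.fst R E (Fin k →₀ R)) := by
    intro a ha
    have hbig : Big (cond N a) := ha
    let ψ : cond N a →ₗ[R] (Fin k →₀ R) :=
      { toFun := fun t => g ⟨(t : R) • a, mem_cond.mp t.2⟩
        map_add' := by
          intro t t'
          rw [← map_add]
          congr 1
          apply Subtype.ext
          simp [add_smul]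
        map_smul' := by
          intro c t
          rw [RingHom.id_apply, ← map_smul]
          congr 1
          apply Subtype.ext
          simp [mul_smul] }
    obtain ⟨l, hl⟩ := hbig.exists_eq_smul_finsupp hdim ψ
    obtain ⟨u, hu, hunz⟩ := hbig.exists_nonZeroDivisor
    refine ⟨(a, l), ⟨u, hunz, mem_cond.mp hu, ?_⟩, rfl⟩
    exact hl ⟨u, hu⟩
  have hfg2 : (Γ.map (LinearMap.fst R E (Fin k →₀ R))).FG := hΓ.map _
  haveI : Module.Finite R (Γ.map (LinearMap.fst R E (Fin k →₀ R))) := Module.Finite.iff_fg.mpr hfg2
  haveI : IsNoetherian R (Γ.map (LinearMap.fst R E (Fin k →₀ R))) := inferInstance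
  have h5 : (Submodule.comap (Γ.map (LinearMap.fst R E (Fin k →₀ R))).subtype (sat N)).FG :=
    IsNoetherian.noetherian _
  have h6 := h5.map (Γ.map (LinearMap.fst R E (Fin k →₀ R))).subtype
  rwa [Submodule.map_comap_subtype, inf_eq_right.mpr hle] at h6

end Regular

section LocalFree

open TensorProduct

variable {S : Type u} [CommRing S] [IsLocalRing S] [IsNoetherianRing S]
  {M : Type v} [AddCommGroup M] [Module S M] [Module.Finite S M]

theorem free_of_maximalIdeal_eq_bot (h : maximalIdeal S = ⊥) : Module.Free S M := by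
  haveI : Module.FinitePresentation S M := Module.finitePresentation_of_finite S M
  apply Module.free_of_maximalIdeal_rTensor_injective
  have hz : ∀ z : (maximalIdeal S) ⊗[S] M, z = 0 := by
    intro z
    induction z using TensorProduct.induction_on with
    | zero => rfl
    | tmul a n =>
      have ha : a = 0 := by
        apply Subtype.ext
        have h0 : (a : S) ∈ (⊥ : Ideal S) := by rw [← h]; exact a.2
        exact (Ideal.mem_bot.mp h0)
      rw [ha, TensorProduct.zero_tmul]
    | add z w hz hw => rw [hz, hw, add_zero]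
  intro z w _
  rw [hz z, hz w]

theorem free_of_regular_single (x : S) (hx : maximalIdeal S = Ideal.span {x})
    (h1 : ∀ v : M, x • v = 0 → v = 0) : Module.Free S M := by
  haveI : Module.FinitePresentation S M := Module.finitePresentation_of_finite S M
  apply Module.free_of_maximalIdeal_rTensor_injective
  have hxm : x ∈ maximalIdeal S := by rw [hx]; exact Ideal.mem_span_singleton_self x
  have hrep : ∀ z : (maximalIdeal S) ⊗[S] M, ∃ v : M,
      z = (⟨x, hxm⟩ : maximalIdeal S) ⊗ₜ[S] v := by
    intro z
    induction z using TensorProduct.induction_on with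
    | zero => exact ⟨0, by simp⟩
    | tmul a n =>
      have ha : (a : S) ∈ Ideal.span {x} := by rw [← hx]; exact a.2
      rw [Ideal.mem_span_singleton'] at ha
      obtain ⟨α, hα⟩ := ha
      refine ⟨α • n, ?_⟩
      have : a = α • (⟨x, hxm⟩ : maximalIdeal S) := Subtype.ext (by simp [hα])
      rw [this, TensorProduct.smul_tmul]
    | add z w hz hw =>
      obtain ⟨v, rfl⟩ := hz
      obtain ⟨w', rfl⟩ := hw
      exact ⟨v + w', by rw [TensorProduct.tmul_add]⟩
  rw [injective_iff_map_eq_zero]
  intro z hz
  obtain ⟨v, rfl⟩ := hrep z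
  have h2 := congrArg (TensorProduct.lid S M) hz
  rw [LinearMap.rTensor_tmul, TensorProduct.lid_tmul, map_zero] at h2
  have hv : v = 0 := h1 v h2
  rw [hv, TensorProduct.tmul_zero]

theorem free_of_regular_pair (x y : S) (hxy : maximalIdeal S = Ideal.span {x, y})
    (h1 : ∀ v : M, x • v = 0 → v = 0)
    (h2 : ∀ v w : M, y • v = x • w → ∃ e : M, v = x • e) : Module.Free S M := by
  haveI : Module.FinitePresentation S M := Module.finitePresentation_of_finite S M
  apply Module.free_of_maximalIdeal_rTensor_injective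
  have hxm : x ∈ maximalIdeal S := by rw [hxy]; exact Ideal.subset_span (by simp)
  have hym : y ∈ maximalIdeal S := by rw [hxy]; exact Ideal.subset_span (by simp)
  have hrep : ∀ z : (maximalIdeal S) ⊗[S] M, ∃ v w : M,
      z = (⟨x, hxm⟩ : maximalIdeal S) ⊗ₜ[S] v + (⟨y, hym⟩ : maximalIdeal S) ⊗ₜ[S] w := by
    intro z
    induction z using TensorProduct.induction_on with
    | zero => exact ⟨0, 0, by simp⟩
    | tmul a n =>
      have ha : (a : S) ∈ Ideal.span {x, y} := by rw [← hxy]; exact a.2
      rw [Ideal.mem_span_pair] at ha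
      obtain ⟨α, β, hαβ⟩ := ha
      refine ⟨α • n, β • n, ?_⟩
      have : a = α • (⟨x, hxm⟩ : maximalIdeal S) + β • (⟨y, hym⟩ : maximalIdeal S) :=
        Subtype.ext (by simp [hαβ])
      rw [this, TensorProduct.add_tmul, TensorProduct.smul_tmul, TensorProduct.smul_tmul]
    | add z w hz hw =>
      obtain ⟨v, w₁, rfl⟩ := hz
      obtain ⟨v', w', rfl⟩ := hw
      refine ⟨v + v', w₁ + w', ?_⟩
      rw [TensorProduct.tmul_add, TensorProduct.tmul_add]
      abel
  rw [injective_iff_map_eq_zero]
  intro z hz
  obtain ⟨v, w, rfl⟩ := hrep z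
  have h3 := congrArg (TensorProduct.lid S M) hz
  rw [map_add, LinearMap.rTensor_tmul, LinearMap.rTensor_tmul, map_add, TensorProduct.lid_tmul,
    TensorProduct.lid_tmul, map_zero] at h3
  change x • v + y • w = 0 at h3
  have h4 : y • w = x • (-v) := by
    rw [smul_neg]
    exact eq_neg_of_add_eq_zero_right h3
  obtain ⟨e, he⟩ := h2 w (-v) h4
  have h5 : x • (v + y • e) = 0 := by
    rw [smul_add, smul_comm x y e, ← he]
    exact h3
  have h6 : v = -(y • e) := eq_neg_of_add_eq_zero_left (h1 _ h5)
  rw [h6, he, TensorProduct.tmul_neg, ← TensorProduct.smul_tmul, ← TensorProduct.smul_tmul]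
  have h7 : y • (⟨x, hxm⟩ : maximalIdeal S) = x • (⟨y, hym⟩ : maximalIdeal S) :=
    Subtype.ext (by simp [mul_comm])
  rw [h7, neg_add_cancel]

end LocalFree

section LocalizedFree

variable {R : Type u} [CommRing R] [IsNoetherianRing R] (m : Ideal R) [m.IsMaximal]
  [IsRegularLocalRing (Localization.AtPrime m)]

/-- Freeness of the localization of a finite module at a maximal ideal whose local ring is regular
of dimension at most two, from an elementwise torsion-freeness (`H1`) and depth-two (`H2`)
condition. -/
theorem free_localizedModule_of_depth (hS2 : ringKrullDim (Localization.AtPrime m) ≤ 2)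
    {P : Type v} [AddCommGroup P] [Module R P] [Module.Finite R P]
    (H1 : ∀ r : R,
      IsSMulRegular (Localization.AtPrime m) (algebraMap R (Localization.AtPrime m) r) →
      ∀ n : P, r • n = 0 → ∃ c, c ∉ m ∧ c • n = 0)
    (H2 : ringKrullDim (Localization.AtPrime m) = (2 : ℕ) → ∀ x₀ y₀ : R,
      IsWeaklyRegular (Localization.AtPrime m)
        [algebraMap R (Localization.AtPrime m) x₀, algebraMap R (Localization.AtPrime m) y₀] →
      Ideal.span {algebraMap R (Localization.AtPrime m) x₀,
        algebraMap R (Localization.AtPrime m) y₀} = maximalIdeal (Localization.AtPrime m) →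
      ∀ n₁ n₂ : P, y₀ • n₁ = x₀ • n₂ → ∃ c, c ∉ m ∧ ∃ n₃ : P, c • n₁ = x₀ • n₃) :
    Module.Free (Localization.AtPrime m) (LocalizedModule m.primeCompl P) := by
  set S := Localization.AtPrime m with hS
  obtain ⟨d, hd⟩ := Groth.Agent.Lib.Helper5.exists_nat_ringKrullDim_eq S
  have hd2 : d ≤ 2 := by
    rw [hd] at hS2
    exact_mod_cast hS2
  obtain ⟨z, hz⟩ := Groth.Agent.Lib.Helper5.HilbertRLR.exists_regular_system (A := S) hd
  have hex : ∀ i : Fin d, ∃ (a : R) (s : m.primeCompl),
      (z i : S) * algebraMap R S s = algebraMap R S a := by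
    intro i
    obtain ⟨a, s, h⟩ := IsLocalization.exists_mk'_eq m.primeCompl (z i : S)
    exact ⟨a, s, by rw [← h, IsLocalization.mk'_spec]⟩
  choose x s hxs using hex
  have hunit : ∀ t : m.primeCompl, IsUnit (algebraMap R S t) :=
    fun t => IsLocalization.map_units S t
  have hXm : ∀ i, algebraMap R S (x i) ∈ maximalIdeal S := by
    intro i
    rw [← hxs i]
    exact Ideal.mul_mem_right _ _ (z i).2
  have hspan : Ideal.span (Set.range fun i => algebraMap R S (x i)) = maximalIdeal S := by
    apply le_antisymm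
    · rw [Ideal.span_le]
      rintro _ ⟨i, rfl⟩
      exact hXm i
    · rw [← hz, Ideal.span_le]
      rintro _ ⟨i, rfl⟩
      obtain ⟨c, hc⟩ := (hunit (s i)).exists_right_inv
      have : (z i : S) = algebraMap R S (x i) * c := by
        rw [← hxs i, mul_assoc, hc, mul_one]
      change (z i : S) ∈ _
      rw [this]
      exact Ideal.mul_mem_right _ _ (Ideal.subset_span ⟨i, rfl⟩)
  -- torsion-freeness of the localized module
  have h1 : ∀ r : R, IsSMulRegular S (algebraMap R S r) →
      ∀ v : LocalizedModule m.primeCompl P, r • v = 0 → v = 0 := by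
    intro r hr v
    induction v using LocalizedModule.induction_on with
    | h n t =>
      intro h0
      rw [LocalizedModule.smul'_mk, ← LocalizedModule.zero_mk (1 : m.primeCompl),
        LocalizedModule.mk_eq] at h0
      obtain ⟨u, hu⟩ := h0
      rw [smul_zero, smul_zero, one_smul, Submonoid.smul_def, ← mul_smul] at hu
      have hreg : IsSMulRegular S (algebraMap R S ((u : R) * r)) := by
        rw [map_mul]
        exact IsSMulRegular.mul ((hunit u).isSMulRegular S) hr
      obtain ⟨c, hc, hcn⟩ := H1 _ hreg n hu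
      rw [← LocalizedModule.zero_mk (1 : m.primeCompl), LocalizedModule.mk_eq]
      refine ⟨⟨c, hc⟩, ?_⟩
      rw [smul_zero, smul_zero, one_smul, Submonoid.smul_def]
      exact hcn
  have hsm : ∀ (r : R) (v : LocalizedModule m.primeCompl P), algebraMap R S r • v = r • v :=
    fun r v => algebraMap_smul S r v
  interval_cases d
  · -- dimension zero
    apply free_of_maximalIdeal_eq_bot
    rw [← hspan]
    have : (Set.range fun i : Fin 0 => algebraMap R S (x i)) = ∅ := Set.range_eq_empty _
    rw [this, Ideal.span_empty]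
  · -- dimension one
    have hr : (Set.range fun i : Fin 1 => algebraMap R S (x i)) = {algebraMap R S (x 0)} := by
      ext w
      constructor
      · rintro ⟨i, rfl⟩
        rw [Subsingleton.elim i 0]
        rfl
      · intro h
        exact ⟨0, h.symm⟩
    rw [hr] at hspan
    have hreg : IsWeaklyRegular S [algebraMap R S (x 0)] := by
      refine Groth.Agent.Lib.R2H7.NormLength.isWeaklyRegular_of_par (n := 1) hd _ rfl ?_ ?_
      · intro w hw
        simp only [List.mem_cons, List.not_mem_nil, or_false] at hw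
        rw [hw]
        exact hXm 0
      · rw [← hspan]
        refine le_trans ?_ Ideal.le_radical
        rw [Ideal.span_le]
        intro w hw
        rw [Set.mem_singleton_iff] at hw
        rw [hw]
        exact Ideal.subset_span (by simp)
    have hreg0 : IsSMulRegular S (algebraMap R S (x 0)) :=
      ((isWeaklyRegular_cons_iff S _ []).mp hreg).1
    refine free_of_regular_single (algebraMap R S (x 0)) hspan.symm ?_
    intro v hv
    rw [hsm] at hv
    exact h1 _ hreg0 v hv
  · -- dimension two
    have hr : (Set.range fun i : Fin 2 => algebraMap R S (x i)) =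
        {algebraMap R S (x 0), algebraMap R S (x 1)} := by
      ext w
      constructor
      · rintro ⟨i, rfl⟩
        fin_cases i
        · exact Or.inl rfl
        · exact Or.inr rfl
      · rintro (h | h)
        · exact ⟨0, h.symm⟩
        · exact ⟨1, h.symm⟩
    rw [hr] at hspan
    have hreg : IsWeaklyRegular S [algebraMap R S (x 0), algebraMap R S (x 1)] := by
      refine Groth.Agent.Lib.R2H7.NormLength.isWeaklyRegular_of_par (n := 2) hd _ rfl ?_ ?_
      · intro w hw
        simp only [List.mem_cons, List.not_mem_nil, or_false] at hw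
        rcases hw with rfl | rfl
        · exact hXm 0
        · exact hXm 1
      · rw [← hspan]
        refine le_trans ?_ Ideal.le_radical
        rw [Ideal.span_le]
        rintro w (hw | hw)
        · rw [hw]; exact Ideal.subset_span (by simp)
        · rw [Set.mem_singleton_iff] at hw
          rw [hw]; exact Ideal.subset_span (by simp)
    have hreg0 : IsSMulRegular S (algebraMap R S (x 0)) := isSMulRegular_of_pair hreg
    refine free_of_regular_pair (algebraMap R S (x 0)) (algebraMap R S (x 1)) hspan.symm ?_ ?_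
    · intro v hv
      rw [hsm] at hv
      exact h1 _ hreg0 v hv
    · intro v w
      induction v, w using LocalizedModule.induction_on₂ with
      | h n₁ n₂ t₁ t₂ =>
        intro hvw
        rw [hsm, hsm, LocalizedModule.smul'_mk, LocalizedModule.smul'_mk,
          LocalizedModule.mk_eq] at hvw
        obtain ⟨u, hu⟩ := hvw
        simp only [Submonoid.smul_def] at hu
        have hrel : x 1 • (((u : R) * t₂) • n₁) = x 0 • (((u : R) * t₁) • n₂) := by
          calc x 1 • (((u : R) * t₂) • n₁) = (u : R) • (t₂ : R) • x 1 • n₁ := by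
                rw [mul_smul, smul_comm (x 1) (u : R), smul_comm (x 1) (t₂ : R)]
            _ = (u : R) • (t₁ : R) • x 0 • n₂ := hu
            _ = x 0 • (((u : R) * t₁) • n₂) := by
                rw [mul_smul, smul_comm (x 0) (u : R), smul_comm (x 0) (t₁ : R)]
        obtain ⟨c, hc, n₃, hn₃⟩ := H2 hd (x 0) (x 1) hreg hspan _ _ hrel
        refine ⟨LocalizedModule.mk n₃ ((⟨c, hc⟩ * u * t₂) * t₁), ?_⟩
        rw [hsm, LocalizedModule.smul'_mk, ← hn₃]
        have : c • ((u : R) * t₂) • n₁ = ((⟨c, hc⟩ * u * t₂ : m.primeCompl)) • n₁ := by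
          rw [Submonoid.smul_def, ← mul_smul]
          congr 1
          simp [mul_assoc]
        rw [this, LocalizedModule.mk_cancel_common_left]

end LocalizedFree

section FlatLocal

variable {R : Type u} [CommRing R] (m : Ideal R) [m.IsPrime]
  {E : Type v} [AddCommGroup E] [Module R E] [Module.Flat R E]

/-- In a flat module, an element killed by `r` with `r` regular in the localization at `m` is
killed by an element outside `m`. -/
theorem exists_smul_eq_zero_of_flat (r : R)
    (hr : IsSMulRegular (Localization.AtPrime m) (algebraMap R (Localization.AtPrime m) r))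
    (n : E) (h : r • n = 0) : ∃ c, c ∉ m ∧ c • n = 0 := by
  have hrel : ∑ i : Fin 1, (fun _ => r) i • (fun _ => n) i = 0 := by simpa using h
  obtain ⟨k, a, y, hxy, hfa⟩ := Module.Flat.isTrivialRelation_of_sum_smul_eq_zero hrel
  have hn : n = ∑ j, a 0 j • y j := hxy 0
  have ha : ∀ j, r * a 0 j = 0 := fun j => by simpa using hfa j
  have hloc : ∀ j, ∃ c, c ∉ m ∧ c * a 0 j = 0 := by
    intro j
    have h0 : algebraMap R (Localization.AtPrime m) (a 0 j) = 0 := by
      apply hr
      change algebraMap R (Localization.AtPrime m) r * algebraMap R (Localization.AtPrime m) (a 0 j)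
        = algebraMap R (Localization.AtPrime m) r * 0
      rw [← map_mul, ha j, map_zero, mul_zero]
    obtain ⟨c, hc⟩ := (IsLocalization.map_eq_zero_iff m.primeCompl (Localization.AtPrime m) _).mp h0
    exact ⟨c, c.2, hc⟩
  obtain ⟨c, hcm, hc⟩ := exists_common m (fun j c => c * a 0 j = 0)
    (fun j c d hQ => by rw [mul_assoc, hQ, mul_zero]) hloc
  refine ⟨c, hcm, ?_⟩
  rw [hn, Finset.smul_sum]
  refine Finset.sum_eq_zero fun j _ => ?_
  rw [← mul_smul, hc j, zero_smul]

/-- In a flat module, a relation `y₀ • n₁ = x₀ • n₂` with `(x₀, y₀)` a regular sequence in the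
localization at `m` forces `n₁ ∈ x₀ • E` up to an element outside `m`. -/
theorem exists_smul_eq_smul_of_flat (x₀ y₀ : R)
    (hreg : IsWeaklyRegular (Localization.AtPrime m)
      [algebraMap R (Localization.AtPrime m) x₀, algebraMap R (Localization.AtPrime m) y₀])
    (n₁ n₂ : E) (h : y₀ • n₁ = x₀ • n₂) : ∃ c, c ∉ m ∧ ∃ e : E, c • n₁ = x₀ • e := by
  set S := Localization.AtPrime m with hS
  have hrel : ∑ i : Fin 2, (![y₀, -x₀] : Fin 2 → R) i • (![n₁, n₂] : Fin 2 → E) i = 0 := by
    rw [Fin.sum_univ_two]
    simp [h]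
  obtain ⟨k, a, y, hxy, hfa⟩ := Module.Flat.isTrivialRelation_of_sum_smul_eq_zero hrel
  have hn : n₁ = ∑ j, a 0 j • y j := hxy 0
  have ha : ∀ j, y₀ * a 0 j = x₀ * a 1 j := by
    intro j
    have := hfa j
    rw [Fin.sum_univ_two] at this
    simp only [Matrix.cons_val_zero, Matrix.cons_val_one, neg_mul] at this
    exact eq_of_sub_eq_zero (by rw [sub_eq_add_neg]; exact this)
  have hloc : ∀ j, ∃ c, c ∉ m ∧ ∃ r, c * a 0 j = x₀ * r := by
    intro j
    have hab : algebraMap R S y₀ • algebraMap R S (a 0 j) =
        algebraMap R S x₀ • algebraMap R S (a 1 j) := by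
      rw [smul_eq_mul, smul_eq_mul, ← map_mul, ← map_mul, ha j]
    obtain ⟨c, hc⟩ := exists_eq_smul_of_pair hreg hab
    obtain ⟨r₀, s₀, rfl⟩ := IsLocalization.exists_mk'_eq m.primeCompl c
    have h1 : algebraMap R S (a 0 j * s₀) = algebraMap R S (x₀ * r₀) := by
      rw [map_mul, map_mul, hc, smul_eq_mul, mul_assoc, IsLocalization.mk'_spec]
    obtain ⟨t, ht⟩ := (IsLocalization.eq_iff_exists m.primeCompl S).mp h1
    refine ⟨t * s₀, fun hmem => ?_, t * r₀, ?_⟩
    · rcases Ideal.IsPrime.mem_or_mem inferInstance hmem with h' | h'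
      · exact t.2 h'
      · exact s₀.2 h'
    · calc (t : R) * s₀ * a 0 j = t * (a 0 j * s₀) := by ring
        _ = t * (x₀ * r₀) := ht
        _ = x₀ * (t * r₀) := by ring
  obtain ⟨c, hcm, hc⟩ := exists_common m (fun j c => ∃ r, c * a 0 j = x₀ * r)
    (fun j c d hQ => by
      obtain ⟨r, hr⟩ := hQ
      exact ⟨d * r, by rw [mul_assoc, hr]; ring⟩) hloc
  choose r hr using hc
  refine ⟨c, hcm, ∑ j, r j • y j, ?_⟩
  rw [hn, Finset.smul_sum, Finset.smul_sum]
  refine Finset.sum_congr rfl fun j _ => ?_
  rw [← mul_smul, ← mul_smul, hr j]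

end FlatLocal

section Projective

variable {R : Type u} [CommRing R] [IsRegularRing R] (hdim : ringKrullDim R ≤ 2)
  {E : Type v} [AddCommGroup E] [Module R E] [Module.Flat R E]

include hdim in
/-- The saturation of a finitely generated submodule of a flat module over a regular ring of
dimension at most two is projective. -/
theorem sat_projective (N : Submodule R E) (hN : N.FG) : Module.Projective R (sat N) := by
  have hfg := sat_fg hdim N hN
  haveI : Module.Finite R (sat N) := Module.Finite.iff_fg.mpr hfg
  haveI : Module.FinitePresentation R (sat N) := Module.finitePresentation_of_finite R _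
  apply Module.projective_of_localization_maximal
  intro m hm
  haveI := hm
  set S := Localization.AtPrime m with hS
  have hS2 : ringKrullDim S ≤ 2 := by
    rw [IsLocalization.AtPrime.ringKrullDim_eq_height m S]
    exact (Ideal.height_le_ringKrullDim_of_isPrime).trans hdim
  haveI : Module.Free S (LocalizedModule m.primeCompl (sat N)) := by
    refine free_localizedModule_of_depth m hS2 ?_ ?_
    · intro r hr n hn
      have h0 : r • (n : E) = 0 := by
        have := congrArg Subtype.val hn
        simpa using this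
      obtain ⟨c, hc, hcn⟩ := exists_smul_eq_zero_of_flat m r hr (n : E) h0
      exact ⟨c, hc, Subtype.ext (by simpa using hcn)⟩
    · intro hd x₀ y₀ hreg hspan n₁ n₂ h
      have h0 : y₀ • (n₁ : E) = x₀ • (n₂ : E) := by
        have := congrArg Subtype.val h
        simpa using this
      obtain ⟨c, hc, e, he⟩ := exists_smul_eq_smul_of_flat m x₀ y₀ hreg _ _ h0
      have hx₀reg : IsSMulRegular S (algebraMap R S x₀) := isSMulRegular_of_pair hreg
      have h1 : x₀ • (y₀ • e - c • (n₂ : E)) = 0 := by
        rw [smul_sub, smul_comm x₀ y₀ e, ← he, smul_comm x₀ c, ← h0, smul_comm y₀ c, sub_self]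
      obtain ⟨c₂, hc₂, hc₂e⟩ := exists_smul_eq_zero_of_flat m x₀ hx₀reg _ h1
      rw [smul_sub, sub_eq_zero] at hc₂e
      -- `e' = c₂ • e` satisfies `x₀ • e', y₀ • e' ∈ sat N`
      have hxe : x₀ • (c₂ • e) ∈ sat N := by
        rw [smul_comm, ← he]
        exact (sat N).smul_mem _ ((sat N).smul_mem _ n₁.2)
      have hye : y₀ • (c₂ • e) ∈ sat N := by
        rw [smul_comm, hc₂e]
        exact (sat N).smul_mem _ ((sat N).smul_mem _ n₂.2)
      -- an element outside `m` multiplying `m` into `(x₀, y₀)`
      let J : Ideal R := Ideal.span {x₀, y₀}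
      have hJ : ∀ g ∈ Submodule.map (Submodule.mkQ J) m, ∃ c, c ∉ m ∧ c • g = 0 := by
        rintro _ ⟨g, hg, rfl⟩
        have hgS : algebraMap R S g ∈ Ideal.map (algebraMap R S) J := by
          rw [Ideal.map_span, Set.image_pair, hspan,
            ← IsLocalization.AtPrime.map_eq_maximalIdeal m S]
          exact Ideal.mem_map_of_mem _ hg
        obtain ⟨⟨j, t⟩, hjt⟩ := (IsLocalization.mem_map_algebraMap_iff m.primeCompl S).mp hgS
        rw [← map_mul] at hjt
        obtain ⟨t₂, ht₂⟩ := (IsLocalization.eq_iff_exists m.primeCompl S).mp hjt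
        refine ⟨t₂ * t, fun hmem => ?_, ?_⟩
        · rcases Ideal.IsPrime.mem_or_mem inferInstance hmem with h' | h'
          · exact t₂.2 h'
          · exact t.2 h'
        · rw [← map_smul, Submodule.mkQ_apply, Submodule.Quotient.mk_eq_zero, smul_eq_mul]
          have : (t₂ : R) * t * g = t₂ * (j : R) := by
            rw [← ht₂]; ring
          rw [this]
          exact J.mul_mem_left _ j.2
      have hmfg : (Submodule.map (Submodule.mkQ J) m).FG :=
        Submodule.FG.map _ (IsNoetherian.noetherian m)
      obtain ⟨c₃, hc₃, hc₃m⟩ := exists_notMem_forall_smul_eq_zero m _ hmfg hJ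
      have hc₃J : ∀ g ∈ m, c₃ * g ∈ J := by
        intro g hg
        have := hc₃m _ ⟨g, hg, rfl⟩
        rw [← map_smul, Submodule.mkQ_apply, Submodule.Quotient.mk_eq_zero, smul_eq_mul] at this
        exact this
      have hmle : m ≤ cond (sat N) (c₃ • c₂ • e) := by
        intro g hg
        rw [mem_cond, ← mul_smul, mul_comm]
        obtain ⟨α, β, hαβ⟩ := Ideal.mem_span_pair.mp (hc₃J g hg)
        rw [← hαβ, add_smul, mul_smul, mul_smul]
        exact (sat N).add_mem ((sat N).smul_mem _ hxe) ((sat N).smul_mem _ hye)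
      have hmh : m.height = 2 := by
        have h2 := IsLocalization.AtPrime.ringKrullDim_eq_height m S
        rw [hd] at h2
        have h3 : (m.height : WithBot ℕ∞) = ((2 : ℕ∞) : WithBot ℕ∞) := by rw [← h2]; rfl
        exact WithBot.coe_injective h3
      have hbig : Big m := by
        intro p hp hmp
        rw [← hm.eq_of_le hp.ne_top hmp, hmh]
      have hmem : c₃ • c₂ • e ∈ sat N := by
        rw [← sat_sat N]
        exact Big.mono hmle hbig
      refine ⟨c₃ * c₂ * c, fun hmem' => ?_, ⟨_, hmem⟩, ?_⟩
      · rcases Ideal.IsPrime.mem_or_mem inferInstance hmem' with h' | h'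
        · rcases Ideal.IsPrime.mem_or_mem inferInstance h' with h'' | h''
          · exact hc₃ h''
          · exact hc₂ h''
        · exact hc h'
      · apply Subtype.ext
        simp only [Submodule.coe_smul]
        rw [mul_smul, mul_smul, he, smul_comm c₂ x₀, smul_comm c₃ x₀]
  infer_instance

end Projective

end Groth.Agent.Lib.R2H7.Sat
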