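/-
The section ring `R_{X,P} = ⊕ L(nP) T^n` of a point of a function field: its grading by the
degree in `T`, Noetherianity, and the graded local-global principle for the Gorenstein property
(`R` is Gorenstein as soon as its localization at the irrelevant ideal is).
-/
import Mathlib
import Groth.Agent.Lib.Helper27Sect8
import Groth.Agent.Lib.H6xNatZ
import Groth.Agent.Lib.H6xGrCone
import Groth.Agent.Lib.Helper6Graded
import Groth.Agent.Lib.R2H7GrGorLoc

set_option autoImplicit false
set_option linter.style.haveILetI false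

universe u

open FunFld WithZero Polynomial DirectSum

noncomputable section

namespace Groth.Agent.Lib.R2H7.SectGrade

open Groth.Agent.Lib.LeadFF Groth.Agent.Lib.Helper27Sect

/-! ### A criterion for internal direct sums -/

theorem isInternal_of_proj' {ι M σ : Type*} [DecidableEq ι] [AddCommMonoid M] [SetLike σ M]
    [AddSubmonoidClass σ M] (P : ι → σ) (π : ι → M →+ M) (hmem : ∀ d x, π d x ∈ P d)
    (hsum : ∀ x, ∃ T : Finset ι, x = ∑ d ∈ T, π d x)
    (hsame : ∀ d x, x ∈ P d → π d x = x) (hne : ∀ d e x, x ∈ P d → d ≠ e → π e x = 0) :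
    DirectSum.IsInternal P := by
  classical
  have key : ∀ (z : ⨁ d, P d) (e : ι), π e (DirectSum.coeAddMonoidHom P z) = ((z e : P e) : M) := by
    intro z e
    induction z using DirectSum.induction_on with
    | zero =>
      rw [map_zero, map_zero]
      rfl
    | of d x =>
      rw [DirectSum.coeAddMonoidHom_of]
      by_cases hde : d = e
      · subst hde
        rw [DirectSum.of_eq_same, hsame d x x.2]
      · rw [DirectSum.of_eq_of_ne _ _ _ (Ne.symm hde), hne d e x x.2 hde]
        rfl
    | add x y hx hy =>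
      rw [map_add, map_add, hx, hy, DirectSum.add_apply]
      rfl
  constructor
  · intro z1 z2 hz
    apply DFinsupp.ext
    intro e
    apply Subtype.ext
    rw [← key z1 e, ← key z2 e, hz]
  · intro x
    obtain ⟨T, hT⟩ := hsum x
    refine ⟨∑ d ∈ T, DirectSum.of (fun d => P d) d ⟨π d x, hmem d x⟩, ?_⟩
    rw [map_sum]
    conv_rhs => rw [hT]
    refine Finset.sum_congr rfl (fun d _ => ?_)
    rw [DirectSum.coeAddMonoidHom_of]

variable {k K : Type u} [Field k] [Field K] [Algebra k K]

/-! ### The grading -/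

/-- The degree `n` piece of the section ring. -/
def gr (P : Place k K) (n : ℕ) : Submodule k (RP P) where
  carrier := {p | ∀ j : ℕ, j ≠ n → p.1.coeff j = 0}
  add_mem' := by
    intro p q hp hq j hj
    show (p.1 + q.1).coeff j = 0
    rw [coeff_add, hp j hj, hq j hj, add_zero]
  zero_mem' := by
    intro j _
    show (0 : K[X]).coeff j = 0
    rw [coeff_zero]
  smul_mem' := by
    intro c p hp j hj
    show (c • p.1).coeff j = 0
    rw [coeff_smul, hp j hj, smul_zero]

theorem mem_gr {P : Place k K} {n : ℕ} {p : RP P} :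
    p ∈ gr P n ↔ ∀ j : ℕ, j ≠ n → p.1.coeff j = 0 := Iff.rfl

theorem coeff_mem_L {P : Place k K} (p : RP P) (n : ℕ) :
    p.1.coeff n ∈ L (Finsupp.single P (n : ℤ) : Divisor k K) := mem_RP.mp p.2 n

/-- The projection onto the degree `n` piece. -/
def pr (P : Place k K) (n : ℕ) : RP P →+ RP P where
  toFun p := mono P n (p.1.coeff n)
  map_zero' := by
    apply Subtype.ext
    rw [mono_val (coeff_mem_L 0 n)]
    show monomial n ((0 : K[X]).coeff n) = 0
    rw [coeff_zero, map_zero]
  map_add' p q := by
    rw [← mono_add (coeff_mem_L p n) (coeff_mem_L q n)]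
    rfl

theorem pr_val (P : Place k K) (n : ℕ) (p : RP P) :
    ((pr P n p : RP P) : K[X]) = monomial n (p.1.coeff n) := mono_val (coeff_mem_L p n)

theorem pr_mem (P : Place k K) (n : ℕ) (p : RP P) : pr P n p ∈ gr P n := by
  intro j hj
  rw [pr_val, coeff_monomial, if_neg (Ne.symm hj)]

theorem pr_same (P : Place k K) (n : ℕ) (p : RP P) (hp : p ∈ gr P n) : pr P n p = p := by
  apply Subtype.ext
  rw [pr_val]
  ext j
  rw [coeff_monomial]
  split_ifs with h
  · rw [h]
  · exact (hp j (Ne.symm h)).symm

theorem pr_ne (P : Place k K) (n e : ℕ) (p : RP P) (hp : p ∈ gr P n) (hne : n ≠ e) :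
    pr P e p = 0 := by
  apply Subtype.ext
  rw [pr_val, hp e (Ne.symm hne), map_zero]
  rfl

theorem sum_pr (P : Place k K) (p : RP P) : p = ∑ d ∈ p.1.support, pr P d p := by
  apply Subtype.ext
  rw [AddSubmonoidClass.coe_finsetSum]
  conv_lhs => rw [p.1.as_sum_support]
  exact Finset.sum_congr rfl (fun d _ => (pr_val P d p).symm)

instance gradedMonoid (P : Place k K) : SetLike.GradedMonoid (gr P) where
  one_mem := by
    intro j hj
    show (1 : K[X]).coeff j = 0
    rw [coeff_one, if_neg hj]
  mul_mem := by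
    intro i j p q hp hq l hl
    show (p.1 * q.1).coeff l = 0
    rw [coeff_mul]
    refine Finset.sum_eq_zero (fun x hx => ?_)
    have hxl : x.1 + x.2 = l := Finset.HasAntidiagonal.mem_antidiagonal.mp hx
    by_cases h1 : x.1 = i
    · have h2 : x.2 ≠ j := by
        intro h2
        apply hl
        rw [← hxl, h1, h2]
      rw [hq x.2 h2, mul_zero]
    · rw [hp x.1 h1, zero_mul]

theorem isInternal_gr (P : Place k K) : DirectSum.IsInternal (gr P) :=
  isInternal_of_proj' (gr P) (pr P) (pr_mem P) (fun p => ⟨_, sum_pr P p⟩) (pr_same P)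
    (pr_ne P)

instance gradedAlgebra (P : Place k K) : GradedAlgebra (gr P) :=
  { toGradedMonoid := gradedMonoid P
    toDecomposition := (isInternal_gr P).chooseDecomposition }

theorem decompose_eq (P : Place k K) (p : RP P) (n : ℕ) :
    ((DirectSum.decompose (gr P) p n : gr P n) : RP P) = pr P n p := by
  classical
  conv_lhs => rw [sum_pr P p]
  rw [DirectSum.decompose_sum, DFinsupp.finsetSum_apply, AddSubmonoidClass.coe_finsetSum]
  by_cases hn : n ∈ p.1.support
  · rw [Finset.sum_eq_single n]
    · rw [DirectSum.decompose_of_mem_same (gr P) (pr_mem P n p)]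
    · intro d _ hdn
      rw [DirectSum.decompose_of_mem_ne (gr P) (pr_mem P d p) hdn]
    · intro h
      exact absurd hn h
  · rw [Finset.sum_eq_zero]
    · have : p.1.coeff n = 0 := Polynomial.notMem_support_iff.mp hn
      apply Subtype.ext
      rw [pr_val, this, map_zero]
      rfl
    · intro d hd
      have hdn : d ≠ n := fun h => hn (h ▸ hd)
      rw [DirectSum.decompose_of_mem_ne (gr P) (pr_mem P d p) hdn]

theorem irrelevant_eq (P : Place k K) :
    (HomogeneousIdeal.irrelevant (gr P)).toIdeal = irr P := by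
  ext p
  rw [HomogeneousIdeal.mem_iff, HomogeneousIdeal.mem_irrelevant_iff, mem_irr, GradedRing.proj_apply,
    decompose_eq]
  constructor
  · intro h
    have := congrArg (fun q : RP P => q.1.coeff 0) h
    simpa [pr_val] using this
  · intro h
    apply Subtype.ext
    rw [pr_val, h, map_zero]
    rfl

section algClosed

variable [IsAlgClosed k] (hK : IsFunctionField k K) (P : Place k K)

include hK in
theorem h0_gr : ∀ a ∈ gr P 0, ∃ c : k, algebraMap k (RP P) c = a := by
  intro a ha
  have h1 := coeff_mem_L a 0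
  rw [Nat.cast_zero] at h1
  obtain ⟨c, hc⟩ := exists_const_of_mem_L_zero hK P h1
  refine ⟨c, ?_⟩
  apply Subtype.ext
  show algebraMap k K[X] c = a.1
  ext j
  rw [Polynomial.algebraMap_apply, coeff_C]
  split_ifs with h
  · rw [h, hc]
  · exact (ha j h).symm

include hK in
theorem irr_fg (hg : 0 < genus k K) : (irr P).FG := by
  classical
  have hfin := minGens_finite hK P
  have hex : ∀ h : ℕ, ∃ x : K, h ∈ W4c6gradedringsgw.minGens (W4c6gradedringsgw.poleOrders P) →
      (P.1 x = exp (h : ℤ) ∧ ∀ Q : Place k K, Q ≠ P → Q.1 x ≤ 1) := by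
    intro h
    by_cases hh : h ∈ W4c6gradedringsgw.minGens (W4c6gradedringsgw.poleOrders P)
    · obtain ⟨x, hx⟩ := (not_isGap_iff P h).mp ((mem_poleOrders_iff hK P h).mp hh.1)
      exact ⟨x, fun _ => hx⟩
    · exact ⟨0, fun h' => absurd h' hh⟩
  choose x hx using hex
  let G : Set (RP P) := insert (tX P)
    ((fun h => mono P h (x h)) '' W4c6gradedringsgw.minGens (W4c6gradedringsgw.poleOrders P))
  have hGfin : G.Finite := (hfin.image _).insert _
  have hspan : Ideal.span G = irr P := by
    apply le_antisymm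
    · rw [Ideal.span_le]
      rintro g (rfl | ⟨h, hh, rfl⟩)
      · rw [SetLike.mem_coe, mem_irr, tX_val, coeff_X_zero]
      · have hyL : x h ∈ L (Finsupp.single P (h : ℤ) : Divisor k K) :=
          mem_L_single.mpr ⟨(hx h hh).1.le, (hx h hh).2⟩
        show mono P h (x h) ∈ irr P
        rw [mem_irr, mono_val hyL, coeff_monomial, if_neg hh.2.1]
    · intro p hp
      refine mem_of_coeff_zero hK P _ (Ideal.subset_span (Set.mem_insert _ _)) ?_ p (mem_irr.mp hp)
      intro h hh
      exact ⟨x h, (hx h hh).1, (hx h hh).2,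
        Ideal.subset_span (Set.mem_insert_of_mem _ ⟨h, hh, rfl⟩)⟩
  rw [← hspan]
  exact ⟨hGfin.toFinset, by rw [Set.Finite.coe_toFinset]⟩

include hK in
theorem isNoetherianRing (hg : 0 < genus k K) : IsNoetherianRing (RP P) := by
  have hfg : (HomogeneousIdeal.irrelevant (gr P)).toIdeal.FG := by
    rw [irrelevant_eq]
    exact irr_fg hK P hg
  haveI hft : Algebra.FiniteType (gr P 0) (RP P) :=
    (Groth.Agent.Lib.Helper6.irrelevant_fg_iff_finiteType (gr P)).mp hfg
  have hsurj : Function.Surjective (algebraMap k (gr P 0)) := by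
    rintro ⟨a, ha⟩
    obtain ⟨c, hc⟩ := h0_gr hK P a ha
    exact ⟨c, Subtype.ext hc⟩
  haveI : IsNoetherianRing (gr P 0) := isNoetherianRing_of_surjective k (gr P 0) _ hsurj
  exact Algebra.FiniteType.isNoetherianRing (gr P 0) (RP P)

include hK in
theorem irr_isMaximal : (irr P).IsMaximal := by
  rw [← irrelevant_eq]
  exact Groth.Agent.Lib.H6xGrCone.isMaximal_irrelevant (gr P) (h0_gr hK P)

include hK in
/-- The graded local-global principle for the section ring. -/
theorem gor_of_local (hg : 0 < genus k K) [hp : (irr P).IsPrime]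
    (h : LocCoh.IsGorensteinLocalRing (Localization.AtPrime (irr P))) :
    LocCoh.IsGorensteinRing (RP P) := by
  haveI := isNoetherianRing hK P hg
  have hstar := Groth.Agent.Lib.H6xGrCone.isStarLocal_irrZ (gr P) (h0_gr hK P)
  have heq : (Groth.Agent.Lib.H6xGrCone.irrZ (gr P)).toIdeal = irr P := irrelevant_eq P
  haveI hp' : (Groth.Agent.Lib.H6xGrCone.irrZ (gr P)).toIdeal.IsPrime := heq ▸ hp
  have h' : LocCoh.IsGorensteinLocalRing
      (Localization.AtPrime (Groth.Agent.Lib.H6xGrCone.irrZ (gr P)).toIdeal) :=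
    (Groth.Agent.Lib.R2H7.GrGorLoc.gorLocal_congr _ _ heq).mpr h
  exact Groth.Agent.Lib.R2H7.GrGorLoc.isGorensteinRing_of_localization
    (Groth.Agent.Lib.H6xNatZ.zgr (gr P)) (Groth.Agent.Lib.H6xGrCone.irrZ (gr P)) hstar h'

end algClosed

end Groth.Agent.Lib.R2H7.SectGrade
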