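/-
Kunz' theorem for the section ring of a point: `R_{X,P}` is Gorenstein iff the Weierstrass
semigroup `H_{X,P}` is symmetric.  We cut `R` down by the regular sequence `T, u` (`u` of degree
`e = 2g` with leading term `X^e`) to the Artinian local ring `R/(T,u) = k[H]/(X^e)` and compare
its socle with the symmetry of `H`.
-/
import Mathlib
import Groth.Agent.Lib.R2H7SectGrade
import Groth.Agent.Lib.R2H7ArtGor

set_option autoImplicit false
set_option linter.style.haveILetI false

universe u

open FunFld WithZero Polynomial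

noncomputable section

namespace Groth.Agent.Lib.R2H7.SectKunz

open Groth.Agent.Lib.LeadFF Groth.Agent.Lib.Helper27Sect Groth.Agent.Lib.R2H7.SectGrade
  Groth.Agent.Lib.R2H7.ArtGor

variable {k K : Type u} [Field k] [Field K] [Algebra k K] [IsAlgClosed k]
  (hK : IsFunctionField k K) (P : Place k K) {π : K} (hπ : P.1 π = exp (-1 : ℤ))

theorem ringKrullDim_eq_zero_of_finite {k : Type u} [Field k] (B : Type u) [CommRing B]
    [Algebra k B] [Module.Finite k B] [Nontrivial B] : ringKrullDim B = 0 := by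
  haveI : IsArtinianRing B := IsArtinianRing.of_finite k B
  haveI : IsNoetherianRing B := inferInstance
  exact ringKrullDimZero_iff_ringKrullDim_eq_zero.mp
    (isArtinianRing_iff_krullDimLE_zero.mp inferInstance)

/-! ### The ideal `(T, u)` -/

theorem tX_eq (P : Place k K) : ((tX P : RP P) : K[X]) = C (algebraMap k K 1) * X := by
  rw [tX_val, map_one, map_one, one_mul]

theorem phi_tX : phi hK P hπ (tX P) = 0 :=
  phi_t_eq_zero hK P hπ (tX P) 1 (tX_eq P)

theorem ker_phi_tX : RingHom.ker (phi hK P hπ) = Ideal.span {tX P} :=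
  ker_phi hK P hπ (tX P) 1 one_ne_zero (tX_eq P)

theorem mem_span_iff (e : ℕ) (u : RP P) (hu : phi hK P hπ u = X ^ e) (p : RP P) :
    p ∈ Ideal.span {tX P, u} ↔
      ∀ n : ℕ, (phi hK P hπ p).coeff n ≠ 0 → e ≤ n ∧ ¬ IsGap P (n - e) := by
  constructor
  · intro hp n hn
    obtain ⟨a, b, rfl⟩ := Ideal.mem_span_pair.mp hp
    rw [map_add, map_mul, map_mul, phi_tX, mul_zero, zero_add, hu, coeff_mul_X_pow'] at hn
    split_ifs at hn with h
    · exact ⟨h, not_isGap_of_coeff_ne_zero hK P hπ b _ hn⟩
    · exact absurd rfl hn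
  · intro h
    set q := phi hK P hπ p with hq
    let q' : k[X] := ∑ n ∈ q.support, monomial (n - e) (q.coeff n)
    have h1 : q' * X ^ e = q := by
      rw [Finset.sum_mul]
      conv_rhs => rw [q.as_sum_support]
      refine Finset.sum_congr rfl (fun n hn => ?_)
      rw [monomial_mul_X_pow, Nat.sub_add_cancel (h n (mem_support_iff.mp hn)).1]
    have h2 : q' ∈ (phi hK P hπ).range := by
      refine Subalgebra.sum_mem _ (fun n hn => ?_)
      rw [← C_mul_X_pow_eq_monomial]
      refine Subalgebra.mul_mem _ ?_ (X_pow_mem_range hK P hπ (h n (mem_support_iff.mp hn)).2)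
      exact Subalgebra.algebraMap_mem _ _
    obtain ⟨d, hd⟩ := h2
    have h3 : p - d * u ∈ RingHom.ker (phi hK P hπ) := by
      rw [RingHom.mem_ker, map_sub, map_mul, hu]
      have : (phi hK P hπ) d = q' := hd
      rw [this, h1, sub_self]
    rw [ker_phi_tX, Ideal.mem_span_singleton'] at h3
    obtain ⟨c, hc⟩ := h3
    rw [Ideal.mem_span_pair]
    exact ⟨c, d, by rw [hc]; ring⟩

theorem coeff_zero_phi_of_mem_irr {p : RP P} (hp : p ∈ irr P) :
    (phi hK P hπ p).coeff 0 = 0 := by
  rw [coeff_phi, mem_irr.mp hp, zero_mul, resK_zero]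

variable (e : ℕ) (he : 0 < e) (u : RP P) (hu : phi hK P hπ u = X ^ e)

include hu he in
theorem one_notMem : (1 : RP P) ∉ Ideal.span {tX P, u} := by
  intro h
  have := (mem_span_iff hK P hπ e u hu 1).mp h 0 (by rw [map_one, coeff_one_zero]; exact one_ne_zero)
  omega

include hu he in
theorem u_mem_irr : u ∈ irr P := by
  rw [mem_irr]
  have h1 := coeff_mem_L u 0
  rw [Nat.cast_zero] at h1
  obtain ⟨c, hc⟩ := exists_const_of_mem_L_zero hK P h1
  have h2 : (phi hK P hπ u).coeff 0 = c := by
    rw [coeff_phi, ← hc, pow_zero, mul_one, resK_algebraMap]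
  rw [hu, coeff_X_pow, if_neg (by omega)] at h2
  rw [← hc, ← h2, map_zero]

include hu he in
theorem u_notMem : u ∉ Ideal.span {tX P} := by
  intro h
  rw [← ker_phi_tX hK P hπ, RingHom.mem_ker, hu] at h
  exact pow_ne_zero e X_ne_zero h

include hK hu in
theorem isUnit_mk (s : RP P) (hs : s ∉ irr P) :
    IsUnit (Ideal.Quotient.mk (Ideal.span {tX P, u}) s) := by
  have h1 := coeff_mem_L s 0
  rw [Nat.cast_zero] at h1
  obtain ⟨c, hc⟩ := exists_const_of_mem_L_zero hK P h1
  have hc0 : c ≠ 0 := by
    rintro rfl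
    apply hs
    rw [mem_irr, ← hc, map_zero]
  set sp : RP P := s - algebraMap k (RP P) c with hsp
  have hspirr : sp ∈ irr P := by
    rw [mem_irr]
    show (s.1 - algebraMap k K[X] c).coeff 0 = 0
    rw [coeff_sub, Polynomial.algebraMap_apply, coeff_C_zero, hc, sub_self]
  have hnil : IsNilpotent (Ideal.Quotient.mk (Ideal.span {tX P, u}) sp) := by
    refine ⟨e + 2 * genus k K, ?_⟩
    rw [← map_pow, Ideal.Quotient.eq_zero_iff_mem, mem_span_iff hK P hπ e u hu]
    intro n hn
    obtain ⟨r, hr⟩ := X_dvd_iff.mpr (coeff_zero_phi_of_mem_irr hK P hπ hspirr)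
    rw [map_pow, hr, mul_pow, coeff_X_pow_mul'] at hn
    split_ifs at hn with h
    · refine ⟨by omega, ?_⟩
      exact not_isGap_of_large hK P (deg_eq_one_of_algClosed hK P) (by omega)
    · exact absurd rfl hn
  have hunit : IsUnit (Ideal.Quotient.mk (Ideal.span {tX P, u}) (algebraMap k (RP P) c)) := by
    have : IsUnit (algebraMap k (RP P) c) := (IsUnit.mk0 c hc0).map (algebraMap k (RP P))
    exact this.map _
  have hsum : Ideal.Quotient.mk (Ideal.span {tX P, u}) s =
      Ideal.Quotient.mk (Ideal.span {tX P, u}) (algebraMap k (RP P) c) +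
        Ideal.Quotient.mk (Ideal.span {tX P, u}) sp := by
    rw [← map_add, hsp, add_sub_cancel]
  rw [hsum]
  exact hnil.isUnit_add_left_of_commute hunit
    (Commute.all (Ideal.Quotient.mk (Ideal.span {tX P, u}) sp)
      (Ideal.Quotient.mk (Ideal.span {tX P, u}) (algebraMap k (RP P) c)))

include hK hu he in
theorem isLocalRing_quot : IsLocalRing (RP P ⧸ Ideal.span {tX P, u}) := by
  haveI : Nontrivial (RP P ⧸ Ideal.span {tX P, u}) :=
    Ideal.Quotient.nontrivial_iff.mpr
      (fun h => one_notMem hK P hπ e he u hu (h ▸ Submodule.mem_top))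
  apply IsLocalRing.of_isUnit_or_isUnit_one_sub_self
  intro a
  obtain ⟨s, rfl⟩ := Ideal.Quotient.mk_surjective a
  by_cases hs : s ∈ irr P
  · right
    rw [← map_one (Ideal.Quotient.mk _), ← map_sub]
    apply isUnit_mk hK P hπ e u hu
    rw [mem_irr]
    show ((1 : K[X]) - s.1).coeff 0 ≠ 0
    rw [coeff_sub, mem_irr.mp hs, sub_zero, coeff_one_zero]
    exact one_ne_zero
  · left
    exact isUnit_mk hK P hπ e u hu s hs

include hK hu in
theorem finite_quot : Module.Finite k (RP P ⧸ Ideal.span {tX P, u}) := by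
  classical
  let N := e + 2 * genus k K
  let Ψ : RP P →ₗ[k] (Fin N → k) :=
    LinearMap.pi (fun i => (Polynomial.lcoeff k (i : ℕ)).comp (phi hK P hπ).toLinearMap)
  have hΨ : ∀ p i, Ψ p i = (phi hK P hπ p).coeff (i : ℕ) := fun p i => rfl
  have hle : LinearMap.ker Ψ ≤ (Ideal.span {tX P, u}).restrictScalars k := by
    intro p hp
    rw [Submodule.restrictScalars_mem, mem_span_iff hK P hπ e u hu]
    intro n hn
    have hnN : N ≤ n := by
      by_contra hlt
      rw [not_le] at hlt
      apply hn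
      have := congrFun (LinearMap.mem_ker.mp hp) ⟨n, hlt⟩
      rwa [hΨ] at this
    refine ⟨by omega, ?_⟩
    exact not_isGap_of_large hK P (deg_eq_one_of_algClosed hK P) (by omega)
  haveI : Module.Finite k (RP P ⧸ LinearMap.ker Ψ) :=
    Module.Finite.equiv (LinearMap.quotKerEquivRange Ψ).symm
  let f : (RP P ⧸ LinearMap.ker Ψ) →ₗ[k] (RP P ⧸ Ideal.span {tX P, u}) :=
    (Submodule.Quotient.restrictScalarsEquiv k (Ideal.span {tX P, u})).toLinearMap.comp
      (Submodule.mapQ (LinearMap.ker Ψ) ((Ideal.span {tX P, u}).restrictScalars k)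
        LinearMap.id hle)
  refine Module.Finite.of_surjective f ?_
  intro z
  obtain ⟨p, rfl⟩ := Ideal.Quotient.mk_surjective z
  refine ⟨Submodule.Quotient.mk p, ?_⟩
  show (Submodule.Quotient.restrictScalarsEquiv k (Ideal.span {tX P, u}))
    (Submodule.mapQ _ _ LinearMap.id hle (Submodule.Quotient.mk p)) = _
  rw [Submodule.mapQ_apply, LinearMap.id_apply, Submodule.Quotient.restrictScalarsEquiv_mk]
  rfl

/-- The functional "coefficient of `X^D`" on the quotient. -/
def lamQ (D : ℕ) (hD : IsGap P (D - e)) (hDe : e ≤ D) :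
    (RP P ⧸ Ideal.span {tX P, u}) →ₗ[k] k :=
  (Submodule.liftQ ((Ideal.span {tX P, u}).restrictScalars k)
    ((Polynomial.lcoeff k D).comp (phi hK P hπ).toLinearMap) (by
      intro p hp
      rw [Submodule.restrictScalars_mem, mem_span_iff hK P hπ e u hu] at hp
      rw [LinearMap.mem_ker]
      by_contra h
      exact (hp D h).2 hD)).comp
    (Submodule.Quotient.restrictScalarsEquiv k (Ideal.span {tX P, u})).symm.toLinearMap

theorem lamQ_mk (D : ℕ) (hD : IsGap P (D - e)) (hDe : e ≤ D) (p : RP P) :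
    lamQ hK P hπ e u hu D hD hDe (Ideal.Quotient.mk _ p) = (phi hK P hπ p).coeff D := by
  unfold lamQ
  rw [LinearMap.comp_apply]
  show Submodule.liftQ _ _ _ ((Submodule.Quotient.restrictScalarsEquiv k
    (Ideal.span {tX P, u})).symm (Submodule.Quotient.mk p)) = _
  rw [Submodule.Quotient.restrictScalarsEquiv_symm_mk, Submodule.liftQ_apply]
  rfl

/-! ### The two implications -/

/-- Membership in the set of pole orders, for integers. -/
def InH (P : Place k K) (n : ℤ) : Prop := ∃ h ∈ W4c6gradedringsgw.poleOrders P, (h : ℤ) = n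

include hK in
theorem inH_natCast (n : ℕ) : InH P (n : ℤ) ↔ ¬ IsGap P n := by
  constructor
  · rintro ⟨h, hh, hn⟩
    have : h = n := by exact_mod_cast hn
    rw [← this]
    exact (mem_poleOrders_iff hK P h).mp hh
  · intro h
    exact ⟨n, (mem_poleOrders_iff hK P n).mpr h, rfl⟩

theorem not_inH_neg {n : ℤ} (hn : n < 0) : ¬ InH P n := by
  rintro ⟨h, -, hh⟩
  omega

include hK hu he in
theorem gorLocal_quot_of_symmetric (hg : 0 < genus k K) (d : ℤ)
    (hsym : ∀ n : ℤ, InH P n ↔ ¬ InH P (d - n)) :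
    LocCoh.IsGorensteinLocalRing (RP P ⧸ Ideal.span {tX P, u}) := by
  have hP := deg_eq_one_of_algClosed hK P
  have h1gap := isGap_one hK hg P hP
  have hd0 : 0 ≤ d := by
    by_contra hlt
    rw [not_le] at hlt
    have h1 : InH P (1 : ℤ) := (hsym 1).mpr (not_inH_neg P (by omega))
    have := (inH_natCast hK P 1).mp (by exact_mod_cast h1)
    exact this h1gap
  obtain ⟨D, rfl⟩ := Int.eq_ofNat_of_zero_le hd0
  have hDgap : IsGap P D := by
    by_contra h
    have h0 : InH P (0 : ℤ) := by
      have := (inH_natCast hK P 0).mpr (not_isGap_zero P)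
      exact_mod_cast this
    have h2 := (hsym 0).mp h0
    rw [sub_zero] at h2
    exact h2 ((inH_natCast hK P D).mpr h)
  have hDgap' : IsGap P (D + e - e) := by rwa [Nat.add_sub_cancel]
  haveI := isLocalRing_quot hK P hπ e he u hu
  haveI := finite_quot hK P hπ e u hu
  refine gor_of_pairing (k := k) _ (lamQ hK P hπ e u hu (D + e) hDgap' (Nat.le_add_left e D)) ?_
  intro a ha
  obtain ⟨p, rfl⟩ := Ideal.Quotient.mk_surjective a
  have hp : p ∉ Ideal.span {tX P, u} := fun h => ha (Ideal.Quotient.eq_zero_iff_mem.mpr h)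
  rw [mem_span_iff hK P hπ e u hu] at hp
  push Not at hp
  obtain ⟨n, hn, hbad⟩ := hp
  have hnH : ¬ IsGap P n := not_isGap_of_coeff_ne_zero hK P hπ p n hn
  have hnot : ¬ InH P ((n : ℤ) - e) := by
    rintro ⟨h, hh, hhn⟩
    have hle : e ≤ n := by omega
    have hgap := hbad hle
    have : n - e = h := by omega
    rw [this] at hgap
    exact (mem_poleOrders_iff hK P h).mp hh hgap
  have hin : InH P ((D : ℤ) - ((n : ℤ) - e)) := by
    rw [hsym]
    intro h
    apply hnot
    have : (D : ℤ) - ((D : ℤ) - ((n : ℤ) - e)) = (n : ℤ) - e := by ring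
    rwa [this] at h
  obtain ⟨h, hh, hhn⟩ := hin
  have hhgap : ¬ IsGap P h := (mem_poleOrders_iff hK P h).mp hh
  obtain ⟨q, hq⟩ := X_pow_mem_range hK P hπ hhgap
  have hq' : phi hK P hπ q = X ^ h := hq
  refine ⟨Ideal.Quotient.mk _ q, ?_⟩
  rw [← map_mul, lamQ_mk, map_mul, hq', coeff_mul_X_pow', if_pos (by omega)]
  have : D + e - h = n := by omega
  rw [this]
  exact hn

include hK hu he in
theorem symmetric_of_gorLocal_quot (hg : 0 < genus k K)
    (hG : LocCoh.IsGorensteinLocalRing (RP P ⧸ Ideal.span {tX P, u})) :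
    W4c6gradedringsgw.IsSymmetric (W4c6gradedringsgw.poleOrders P) := by
  classical
  have hP := deg_eq_one_of_algClosed hK P
  have h1gap := isGap_one hK hg P hP
  haveI := finite_quot hK P hπ e u hu
  haveI : IsLocalRing (RP P ⧸ Ideal.span {tX P, u}) := hG.toIsLocalRing
  have hdim := ringKrullDim_eq_zero_of_finite (k := k) (RP P ⧸ Ideal.span {tX P, u})
  -- the Frobenius number
  set g2 := 2 * genus k K with hg2
  set F := Nat.findGreatest (fun n => IsGap P n) g2 with hF
  have hFgap : IsGap P F := Nat.findGreatest_spec (P := fun n => IsGap P n) (m := 1)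
    (by omega) h1gap
  have hFmax : ∀ n, F < n → ¬ IsGap P n := by
    intro n hn
    by_cases hle : n ≤ g2
    · exact Nat.findGreatest_is_greatest (P := fun n => IsGap P n) hn hle
    · exact not_isGap_of_large hK P hP (by omega)
  -- socle elements
  have hsoc : ∀ (f : ℕ) (x : RP P), phi hK P hπ x = X ^ (f + e) →
      (∀ h', 0 < h' → ¬ IsGap P h' → ¬ IsGap P (f + h')) →
      ∀ q ∈ IsLocalRing.maximalIdeal (RP P ⧸ Ideal.span {tX P, u}),
        q * Ideal.Quotient.mk _ x = 0 := by
    intro f x hx hPF q hq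
    obtain ⟨q', rfl⟩ := Ideal.Quotient.mk_surjective q
    have hq'irr : q' ∈ irr P := by
      by_contra h
      exact (IsLocalRing.mem_maximalIdeal _).mp hq (isUnit_mk hK P hπ e u hu q' h)
    rw [← map_mul, Ideal.Quotient.eq_zero_iff_mem, mem_span_iff hK P hπ e u hu]
    intro n hn
    rw [map_mul, hx, coeff_mul_X_pow'] at hn
    split_ifs at hn with hle
    · have hj0 : n - (f + e) ≠ 0 := by
        intro h0
        rw [h0, coeff_zero_phi_of_mem_irr hK P hπ hq'irr] at hn
        exact hn rfl
      have hjgap := not_isGap_of_coeff_ne_zero hK P hπ q' _ hn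
      refine ⟨by omega, ?_⟩
      have : n - e = f + (n - (f + e)) := by omega
      rw [this]
      exact hPF _ (Nat.pos_of_ne_zero hj0) hjgap
    · exact absurd rfl hn
  have hne : ∀ (f : ℕ) (x : RP P), phi hK P hπ x = X ^ (f + e) → IsGap P f →
      Ideal.Quotient.mk (Ideal.span {tX P, u}) x ≠ 0 := by
    intro f x hx hf h0
    rw [Ideal.Quotient.eq_zero_iff_mem, mem_span_iff hK P hπ e u hu] at h0
    have := (h0 (f + e) (by rw [hx, coeff_X_pow, if_pos rfl]; exact one_ne_zero)).2
    rw [Nat.add_sub_cancel] at this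
    exact this hf
  have hegap : ¬ IsGap P e := by
    have := not_isGap_of_coeff_ne_zero hK P hπ u e (by rw [hu, coeff_X_pow, if_pos rfl]; exact one_ne_zero)
    exact this
  have hPF_F : ∀ h', 0 < h' → ¬ IsGap P h' → ¬ IsGap P (F + h') :=
    fun h' hh' _ => hFmax _ (by omega)
  obtain ⟨xF, hxF⟩ := X_pow_mem_range hK P hπ (hFmax (F + e) (by omega))
  have hxF' : phi hK P hπ xF = X ^ (F + e) := hxF
  refine ⟨(F : ℤ), fun n => ?_⟩
  change InH P n ↔ ¬ InH P ((F : ℤ) - n)
  constructor
  · rintro ⟨h1, hh1, rfl⟩ ⟨h2, hh2, h12⟩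
    have : h1 + h2 = F := by omega
    apply not_isGap_add ((mem_poleOrders_iff hK P h1).mp hh1)
      ((mem_poleOrders_iff hK P h2).mp hh2)
    rw [this]
    exact hFgap
  · intro hnot
    by_cases hm : (F : ℤ) - n < 0
    · obtain ⟨n', rfl⟩ := Int.eq_ofNat_of_zero_le (by omega : 0 ≤ n)
      exact (inH_natCast hK P n').mpr (hFmax n' (by omega))
    · rw [not_lt] at hm
      obtain ⟨m', hm'⟩ := Int.eq_ofNat_of_zero_le hm
      have hm'gap : IsGap P m' := by
        by_contra h
        apply hnot
        rw [hm']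
        exact (inH_natCast hK P m').mpr h
      set h₀ := Nat.findGreatest (fun h => ¬ IsGap P h ∧ IsGap P (m' + h)) F with hh₀
      have hspec : ¬ IsGap P h₀ ∧ IsGap P (m' + h₀) :=
        Nat.findGreatest_spec (P := fun h => ¬ IsGap P h ∧ IsGap P (m' + h)) (m := 0)
          (Nat.zero_le _) ⟨not_isGap_zero P, by rwa [add_zero]⟩
      have hfle : m' + h₀ ≤ F := by
        by_contra hlt
        exact hFmax _ (by omega) hspec.2
      have hPF : ∀ h', 0 < h' → ¬ IsGap P h' → ¬ IsGap P (m' + h₀ + h') := by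
        intro h' hh' hh'gap hgap
        have hle : m' + h₀ + h' ≤ F := by
          by_contra hlt
          exact hFmax _ (by omega) hgap
        have := Nat.findGreatest_is_greatest
          (P := fun h => ¬ IsGap P h ∧ IsGap P (m' + h)) (n := F) (k := h₀ + h')
          (by omega) (by omega)
        apply this
        refine ⟨not_isGap_add hspec.1 hh'gap, ?_⟩
        rwa [← add_assoc]
      have hfe : ¬ IsGap P (m' + h₀ + e) := hPF e he hegap
      obtain ⟨xf, hxf⟩ := X_pow_mem_range hK P hπ hfe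
      have hxf' : phi hK P hπ xf = X ^ (m' + h₀ + e) := hxf
      obtain ⟨c, hc⟩ := exists_mul_of_socle (RP P ⧸ Ideal.span {tX P, u}) hdim
        (hsoc F xF hxF' hPF_F) (hsoc (m' + h₀) xf hxf' hPF) (hne F xF hxF' hFgap)
      obtain ⟨c', rfl⟩ := Ideal.Quotient.mk_surjective c
      rw [← map_mul, Ideal.Quotient.eq, mem_span_iff hK P hπ e u hu] at hc
      have hfF : F ≤ m' + h₀ := by
        by_contra hlt
        rw [not_le] at hlt
        have h1 : (phi hK P hπ (xf - c' * xF)).coeff (m' + h₀ + e) ≠ 0 := by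
          rw [map_sub, map_mul, hxf', hxF', coeff_sub, coeff_X_pow, if_pos rfl, coeff_mul_X_pow',
            if_neg (by omega), sub_zero]
          exact one_ne_zero
        have := (hc _ h1).2
        rw [Nat.add_sub_cancel] at this
        exact this hspec.2
      have hFeq : F = m' + h₀ := le_antisymm hfF hfle
      have hn : n = (h₀ : ℤ) := by omega
      rw [hn]
      exact (inH_natCast hK P h₀).mpr hspec.1

/-! ### The main theorem -/

include hK in
theorem main (hg : 0 < genus k K) :
    LocCoh.IsGorensteinRing (RP P) ↔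
      W4c6gradedringsgw.IsSymmetric (W4c6gradedringsgw.poleOrders P) := by
  obtain ⟨π, hπ⟩ := exists_unif P
  have hP := deg_eq_one_of_algClosed hK P
  set e := 2 * genus k K with he
  have he0 : 0 < e := by omega
  have hegap : ¬ IsGap P e := not_isGap_of_large hK P hP le_rfl
  obtain ⟨u, hu⟩ := X_pow_mem_range hK P hπ hegap
  have hu' : phi hK P hπ u = X ^ e := hu
  haveI hmax : (irr P).IsMaximal := irr_isMaximal hK P
  have hprime : Prime (tX P) := (prime_and_quotient hK P hg (tX P) 1 one_ne_zero (by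
    rw [tX_val, map_one, one_mul])).1
  have htm : tX P ∈ irr P := by rw [mem_irr, tX_val, coeff_X_zero]
  have hchain : ∀ [IsNoetherianRing (RP P)],
      LocCoh.IsGorensteinLocalRing (Localization.AtPrime (irr P)) ↔
        LocCoh.IsGorensteinLocalRing (RP P ⧸ Ideal.span {tX P, u}) := by
    intro _
    exact gor_iff_quot (irr P) (tX P) u hprime htm (u_mem_irr hK P hπ e he0 u hu')
      (u_notMem hK P hπ e he0 u hu') (isUnit_mk hK P hπ e u hu')
  constructor
  · intro hG
    haveI : IsNoetherianRing (RP P) := hG.toIsNoetherian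
    have h1 : LocCoh.IsGorensteinLocalRing (Localization.AtPrime (irr P)) :=
      hG.isGorensteinLocalRing_localization (irr P)
    exact symmetric_of_gorLocal_quot hK P hπ e he0 u hu' hg (hchain.mp h1)
  · rintro ⟨d, hd⟩
    haveI : IsNoetherianRing (RP P) := isNoetherianRing hK P hg
    have h1 := gorLocal_quot_of_symmetric hK P hπ e he0 u hu' hg d hd
    exact gor_of_local hK P hg (hchain.mpr h1)

end Groth.Agent.Lib.R2H7.SectKunz
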