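/-
The socle of a Segre product `X # Y` of graded modules carrying dual packages in degrees `a` and
`a - e` (`e ≥ 0`) over standard graded rings: it is the piece of degree `a - e`, of dimension
`dim_k R_e`; and the type of the Segre product of two standard graded Gorenstein rings.
-/
import Mathlib
import Groth.Agent.Lib.R2H7SegGor

set_option autoImplicit false
open DirectSum
open scoped TensorProduct

noncomputable section

namespace Groth.Agent.Lib.R2H7.SegType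

open Groth.Agent.Lib.Helper29GrEss Groth.Agent.Lib.Helper29GrHom Groth.Agent.Lib.Helper29GrGam
  Groth.Agent.Lib.R2H7.GrBdry Groth.Agent.Lib.R2H7.GrDer Groth.Agent.Lib.R2H7.GrH
  Groth.Agent.Lib.R2H7.GrFun Groth.Agent.Lib.R2H7.GrGen
  Groth.Agent.Lib.R2H7.SegPres Groth.Agent.Lib.R2H7.SegTheta Groth.Agent.Lib.R2H7.SegGen
  Groth.Agent.Lib.R2H7.SegDual Groth.Agent.Lib.R2H7.SegConv Groth.Agent.Lib.R2H7.SegVan
  Groth.Agent.Lib.R2H7.SegRing Groth.Agent.Lib.R2H7.SegCM Groth.Agent.Lib.R2H7.GrMatlis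
  Groth.Agent.Lib.R2H7.GrMinRes Groth.Agent.Lib.R2H7.GrVerGor Groth.Agent.Lib.R2H7.GrVerCM
  Groth.Agent.Lib.R2H7.GrGorChar Groth.Agent.Lib.R2H7.GrBass Groth.Agent.Lib.R2H7.SegGor

universe u

section socle

variable {k : Type u} [Field k] {R S T : Type u} [CommRing R] [CommRing S] [CommRing T]
  [Algebra k R] [Algebra k S] [Algebra k T]
variable {𝒜 : ℤ → AddSubgroup R} [GradedRing 𝒜] {ℬ : ℤ → AddSubgroup S} [GradedRing ℬ]
  {𝒯 : ℤ → AddSubgroup T} [GradedRing 𝒯] {ψ : T →ₐ[k] R ⊗[k] S}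
variable (X : GrLC.GMod.{u} 𝒜) (Y : GrLC.GMod.{u} ℬ)
  [Module k X.carrier] [IsScalarTower k R X.carrier]
  [Module k Y.carrier] [IsScalarTower k S Y.carrier]
variable (hψ : SegCtx 𝒜 ℬ 𝒯 ψ)

theorem val_sum {ι : Type*} (s : Finset ι) (f : ι → SegCar X Y hψ) :
    (∑ i ∈ s, f i).1 = ∑ i ∈ s, (f i).1 := by
  classical
  induction s using Finset.induction_on with
  | empty => simp only [Finset.sum_empty]; rfl
  | insert i s hi ih => rw [Finset.sum_insert hi, Finset.sum_insert hi, add_val, ih]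

/-- An element of the Segre product from an element of the underlying submodule. -/
def mkS (z : X.carrier ⊗[k] Y.carrier) (hz : z ∈ segSub k X Y) : SegCar X Y hψ := ⟨z, hz⟩

theorem mkS_val (z : X.carrier ⊗[k] Y.carrier) (hz : z ∈ segSub k X Y) :
    (mkS X Y hψ z hz).1 = z := rfl

theorem lc_val {ι : Type*} [Fintype ι] (x : ι → X.carrier) (ηY : Y.carrier)
    (hmem : ∀ i, x i ⊗ₜ[k] ηY ∈ segSub k X Y) (γ : ι → k) :
    (∑ i, algebraMap k T (γ i) • mkS X Y hψ (x i ⊗ₜ[k] ηY) (hmem i)).1 =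
      (∑ i, γ i • x i) ⊗ₜ[k] ηY := by
  rw [val_sum, TensorProduct.sum_tmul]
  refine Finset.sum_congr rfl fun i _ => ?_
  rw [algebraMap_smul, ksmul_val, mkS_val, TensorProduct.smul_tmul']

variable (hposR : ∀ n : ℤ, n < 0 → 𝒜 n = ⊥) (hposS : ∀ n : ℤ, n < 0 → ℬ n = ⊥)
  (hstdR : Ideal.span (⋃ n ∈ Set.Ioi (0 : ℤ), (𝒜 n : Set R)) =
    Ideal.span ((𝒜 1 : AddSubgroup R) : Set R))
  (hstdS : Ideal.span (⋃ n ∈ Set.Ioi (0 : ℤ), (ℬ n : Set S)) =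
    Ideal.span ((ℬ 1 : AddSubgroup S) : Set S))
  {a e : ℤ} (he : 0 ≤ e) {ηX : X.carrier} {ηY : Y.carrier}
  (P : DPack 𝒜 X.gr a ηX) (Q : DPack ℬ Y.gr (a - e) ηY)
  (mT : HomogeneousIdeal 𝒯)
  (hmT : mT.toIdeal = Ideal.span (⋃ n ∈ Set.Ioi (0 : ℤ), (𝒯 n : Set T)))

include hposS Q in
theorem piece_eq_zero_of_lt {j : ℤ} (hj : a - e < j) {z : X.carrier ⊗[k] Y.carrier}
    (hz : z ∈ piece k X Y j) : z = 0 := by
  refine piece_induction X.gr Y.gr (P := fun z => z = 0) ?_ rfl ?_ ?_ hz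
  · intro x _ y hy
    rw [Groth.Agent.Lib.R2H7.GrType.eq_zero_of_lt hposS Q hj hy, TensorProduct.tmul_zero]
  · intro z z' h1 h2
    rw [h1, h2, add_zero]
  · intro c z h1
    rw [h1, smul_zero]

include hposS Q hmT in
theorem mem_socR_of_mem_gr {p : (segG X Y hψ).carrier} (hp : p ∈ (segG X Y hψ).gr (a - e)) :
    p ∈ socR mT.toIdeal (segG X Y hψ).carrier := by
  intro t ht
  rw [hmT] at ht
  refine Submodule.span_induction (p := fun t _ => t • p = 0) ?_ ?_ ?_ ?_ ht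
  · intro t ht
    obtain ⟨i, hi, hti⟩ := Set.mem_iUnion₂.mp ht
    have hi' : 0 < i := hi
    have h1 := SetLike.GradedSMul.smul_mem (A := 𝒯) (B := (segG X Y hψ).gr) hti hp
    rw [vadd_eq_add] at h1
    exact Subtype.ext (piece_eq_zero_of_lt X Y hposS Q (by omega) h1)
  · exact zero_smul _ _
  · intro x y _ _ hx hy
    rw [add_smul, hx, hy, add_zero]
  · intro c x _ hx
    rw [smul_eq_mul, mul_smul, hx, smul_zero]

include hposR hposS hstdR hstdS he P Q hmT in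
theorem eq_of_mem_socR_seg {j : ℤ} {p' : (segG X Y hψ).carrier}
    (hp : p' ∈ (segG X Y hψ).gr j) (hsoc : p' ∈ socR mT.toIdeal (segG X Y hψ).carrier)
    (hne : p' ≠ 0) : j = a - e := by
  obtain ⟨p, rfl⟩ : ∃ p : SegCar X Y hψ, p = p' := ⟨p', rfl⟩
  have hp1 : p.1 ∈ piece k X Y j := hp
  have hp0 : p.1 ≠ 0 := fun h => hne (Subtype.ext h)
  have hjb : j ≤ a - e := by
    by_contra hlt
    exact hp0 (piece_eq_zero_of_lt X Y hposS Q (not_le.mp hlt) hp1)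
  by_contra hjne
  have hlt : j < a - e := lt_of_le_of_ne hjb hjne
  let FX : Set (X.carrier →ₗ[k] X.carrier) :=
    {f | ∃ (j' : ℤ) (g : X.carrier →ₗ[k] X.carrier), f = g ∘ₗ projK X hψ.k𝒜 j' ∧
      ((j' < a ∧ ∃ r ∈ 𝒜 1, g = mulL (k := k) r) ∨ (a ≤ j' ∧ g = LinearMap.id))}
  let FY : Set (Y.carrier →ₗ[k] Y.carrier) :=
    {f | ∃ (j' : ℤ) (g : Y.carrier →ₗ[k] Y.carrier), f = g ∘ₗ projK Y hψ.kℬ j' ∧
      ((j' < a - e ∧ ∃ r ∈ ℬ 1, g = mulL (k := k) r) ∨ (a - e ≤ j' ∧ g = LinearMap.id))}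
  have hFX : ∀ v : X.carrier, v ≠ 0 → ∃ f ∈ FX, f v ≠ 0 := by
    intro v hv
    obtain ⟨j', hj'⟩ := exists_projK_ne X hψ.k𝒜 hv
    by_cases hja : j' < a
    · have hex : ∃ r ∈ 𝒜 1, r • projK X hψ.k𝒜 j' v ≠ 0 := by
        by_contra hcon
        push_neg at hcon
        have h1 := Groth.Agent.Lib.R2H7.GrType.lt_and_le_of_kill hposR P hstdR 1 (by norm_num)
          (projK_mem X hψ.k𝒜 j' v) hj' hcon
        omega
      obtain ⟨r, hr, hr0⟩ := hex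
      exact ⟨_, ⟨j', _, rfl, Or.inl ⟨hja, r, hr, rfl⟩⟩, hr0⟩
    · exact ⟨_, ⟨j', _, rfl, Or.inr ⟨not_lt.mp hja, rfl⟩⟩, hj'⟩
  have hFY : ∀ v : Y.carrier, v ≠ 0 → ∃ f ∈ FY, f v ≠ 0 := by
    intro v hv
    obtain ⟨j', hj'⟩ := exists_projK_ne Y hψ.kℬ hv
    by_cases hja : j' < a - e
    · have hex : ∃ r ∈ ℬ 1, r • projK Y hψ.kℬ j' v ≠ 0 := by
        by_contra hcon
        push_neg at hcon
        have h1 := Groth.Agent.Lib.R2H7.GrType.lt_and_le_of_kill hposS Q hstdS 1 (by norm_num)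
          (projK_mem Y hψ.kℬ j' v) hj' hcon
        omega
      obtain ⟨r, hr, hr0⟩ := hex
      exact ⟨_, ⟨j', _, rfl, Or.inl ⟨hja, r, hr, rfl⟩⟩, hr0⟩
    · exact ⟨_, ⟨j', _, rfl, Or.inr ⟨not_lt.mp hja, rfl⟩⟩, hj'⟩
  obtain ⟨f, ⟨j₁, g, rfl, hg⟩, f', ⟨j₂, g', rfl, hg'⟩, hne2⟩ :=
    exists_map_ne hp0 FX hFX FY hFY
  rw [TensorProduct.map_comp, LinearMap.comp_apply] at hne2
  have hjj : j₁ = j ∧ j₂ = j := by
    by_contra hcon
    have h1 : j₁ ≠ j ∨ j₂ ≠ j := not_and_or.mp hcon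
    rw [map_projK_ne X Y hψ.k𝒜 hψ.kℬ h1 hp1, map_zero] at hne2
    exact hne2 rfl
  obtain ⟨e1, e2⟩ := hjj
  rw [e1, e2, map_projK_same X Y hψ.k𝒜 hψ.kℬ hp1] at hne2
  rcases hg with ⟨-, r, hr, rfl⟩ | ⟨hj₁, -⟩
  · rcases hg' with ⟨-, r', hr', rfl⟩ | ⟨hj₂, -⟩
    · rw [← act_eq_map] at hne2
      obtain ⟨t, ht, hψt⟩ := hψ.ψ_surj 1 (r ⊗ₜ[k] r') (tmul_mem_piece 𝒜 ℬ hr hr')
      have htm : t ∈ mT.toIdeal := by
        rw [hmT]
        exact Ideal.subset_span (Set.mem_biUnion (Set.mem_Ioi.mpr Int.one_pos) ht)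
      have h3 := hsoc t htm
      apply hne2
      have h4 : GrSeg.act k R S X.carrier Y.carrier (ψ t) p.1 = 0 :=
        congrArg Subtype.val h3
      rw [hψt] at h4
      exact h4
    · omega
  · omega

include hposR hposS hstdR hstdS he P Q hmT in
theorem mem_gr_of_mem_socR {y : (segG X Y hψ).carrier}
    (hy : y ∈ socR mT.toIdeal (segG X Y hψ).carrier) : y ∈ (segG X Y hψ).gr (a - e) := by
  classical
  have hhom : (socR mT.toIdeal (segG X Y hψ).carrier).IsHomogeneous (segG X Y hψ).gr :=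
    socR_isHomogeneous mT (segG X Y hψ)
  rw [← DirectSum.sum_support_decompose (segG X Y hψ).gr y]
  refine AddSubgroup.sum_mem _ (fun j _ => ?_)
  by_cases hne : ((decompose (segG X Y hψ).gr y) j : (segG X Y hψ).carrier) = 0
  · rw [hne]
    exact zero_mem _
  · have hj := eq_of_mem_socR_seg X Y hψ hposR hposS hstdR hstdS he P Q mT hmT
      (SetLike.coe_mem ((decompose (segG X Y hψ).gr y) j)) (hhom j hy) hne
    rw [← hj]
    exact SetLike.coe_mem _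

include Q hψ in
theorem exists_tmul_eta (h0S : ∀ r ∈ ℬ 0, ∃ c : k, algebraMap k S c = r)
    {z : X.carrier ⊗[k] Y.carrier} (hz : z ∈ piece k X Y (a - e)) :
    ∃ x ∈ X.gr (a - e), z = x ⊗ₜ[k] ηY := by
  refine piece_induction X.gr Y.gr (P := fun z => ∃ x ∈ X.gr (a - e), z = x ⊗ₜ[k] ηY)
    ?_ ?_ ?_ ?_ hz
  · intro x hx y hy
    obtain ⟨r', hr', hyr⟩ := Q.gen y hy
    obtain ⟨β, rfl⟩ := h0S r' hr'
    refine ⟨β • x, ?_, ?_⟩
    · rw [← algebraMap_smul R β x]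
      have h1 := SetLike.GradedSMul.smul_mem (A := 𝒜) (B := X.gr) (hψ.k𝒜 β) hx
      rwa [vadd_eq_add, zero_add] at h1
    · rw [hyr, algebraMap_smul, TensorProduct.tmul_smul, TensorProduct.smul_tmul']
  · exact ⟨0, zero_mem _, (TensorProduct.zero_tmul _ _).symm⟩
  · rintro z z' ⟨x, hx, rfl⟩ ⟨x', hx', rfl⟩
    exact ⟨x + x', add_mem hx hx', (TensorProduct.add_tmul _ _ _).symm⟩
  · rintro c z ⟨x, hx, rfl⟩
    refine ⟨c • x, ?_, (TensorProduct.smul_tmul' _ _ _).symm⟩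
    rw [← algebraMap_smul R c x]
    have h1 := SetLike.GradedSMul.smul_mem (A := 𝒜) (B := X.gr) (hψ.k𝒜 c) hx
    rwa [vadd_eq_add, zero_add] at h1

include hposR hposS hstdR hstdS he P Q hmT in
/-- A basis of the socle of a Segre product, with `dim_k R_e` elements. -/
theorem exists_socle_basis_seg [IsNoetherianRing R] (hfR : IsField (GrLC.deg0 𝒜))
    (h0R : ∀ r ∈ 𝒜 0, ∃ c : k, algebraMap k R c = r)
    (hinjR : Function.Injective (algebraMap k R))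
    (h0S : ∀ r ∈ ℬ 0, ∃ c : k, algebraMap k S c = r)
    (h0T : ∀ t ∈ 𝒯 0, ∃ c : k, algebraMap k T c = t) :
    ∃ w : Fin (Module.finrank (GrLC.deg0 𝒜) ↥(GrLC.comp 𝒜 𝒜 e)) → (segG X Y hψ).carrier,
      (∀ α, w α ∈ socR mT.toIdeal (segG X Y hψ).carrier) ∧
      (∀ c : Fin (Module.finrank (GrLC.deg0 𝒜) ↥(GrLC.comp 𝒜 𝒜 e)) →₀ T,
        (∀ α, c α ∈ 𝒯 0) → Finsupp.linearCombination T w c = 0 → ∀ α, c α = 0) ∧
      (∀ y ∈ socR mT.toIdeal (segG X Y hψ).carrier,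
        ∃ c : Fin (Module.finrank (GrLC.deg0 𝒜) ↥(GrLC.comp 𝒜 𝒜 e)) →₀ T,
          y = Finsupp.linearCombination T w c) := by
  classical
  let _ : Field (GrLC.deg0 𝒜) := hfR.toField
  obtain ⟨hfin, hrank⟩ := Groth.Agent.Lib.R2H7.GrType.finrank_comp_dpack hposR P hfR e
  let β : Module.Basis (Fin (Module.finrank (GrLC.deg0 𝒜) ↥(GrLC.comp 𝒜 𝒜 e))) (GrLC.deg0 𝒜)
      ↥(GrLC.comp 𝒜 X.gr (a - e)) := Module.finBasisOfFinrankEq _ _ hrank
  have hβ : ∀ α, ((β α : ↥(GrLC.comp 𝒜 X.gr (a - e))) : X.carrier) ∈ X.gr (a - e) :=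
    fun α => (β α).2
  have hmem : ∀ α, ((β α : ↥(GrLC.comp 𝒜 X.gr (a - e))) : X.carrier) ⊗ₜ[k] ηY ∈ segSub k X Y :=
    fun α => piece_le_segSub X Y (a - e) (tmul_mem_piece X.gr Y.gr (hβ α) Q.mem)
  let w : Fin (Module.finrank (GrLC.deg0 𝒜) ↥(GrLC.comp 𝒜 𝒜 e)) → (segG X Y hψ).carrier :=
    fun α => mkS X Y hψ (((β α : ↥(GrLC.comp 𝒜 X.gr (a - e))) : X.carrier) ⊗ₜ[k] ηY) (hmem α)
  have hcoe : ∀ (d : GrLC.deg0 𝒜) (γ : k), algebraMap k R γ = (d : R) → ∀ α,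
      (((d • β α : ↥(GrLC.comp 𝒜 X.gr (a - e)))) : X.carrier) =
        γ • ((β α : ↥(GrLC.comp 𝒜 X.gr (a - e))) : X.carrier) := by
    intro d γ hγ α
    have h1 : (((d • β α : ↥(GrLC.comp 𝒜 X.gr (a - e)))) : X.carrier) =
        (d : R) • ((β α : ↥(GrLC.comp 𝒜 X.gr (a - e))) : X.carrier) := rfl
    rw [h1, ← hγ, algebraMap_smul]
  have hLCeq : ∀ c : Fin (Module.finrank (GrLC.deg0 𝒜) ↥(GrLC.comp 𝒜 𝒜 e)) →₀ T,
      Finsupp.linearCombination T w c = ∑ α, c α • w α := by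
    intro c
    rw [Finsupp.linearCombination_apply, Finsupp.sum_fintype _ _ (fun i => zero_smul T (w i))]
  have hLCval : ∀ γ : Fin (Module.finrank (GrLC.deg0 𝒜) ↥(GrLC.comp 𝒜 𝒜 e)) → k,
      ((∑ α, algebraMap k T (γ α) • w α : (segG X Y hψ).carrier) : SegCar X Y hψ).1 =
        (∑ α, γ α • ((β α : ↥(GrLC.comp 𝒜 X.gr (a - e))) : X.carrier)) ⊗ₜ[k] ηY :=
    fun γ => lc_val X Y hψ _ ηY hmem γ
  refine ⟨w, fun α => mem_socR_of_mem_gr X Y hψ hposS Q mT hmT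
    (tmul_mem_piece X.gr Y.gr (hβ α) Q.mem), ?_, ?_⟩
  · intro c hc0 hLC α
    choose γ hγ using fun α => h0T (c α) (hc0 α)
    have h1 := hLCval γ
    have h2 : (∑ α, algebraMap k T (γ α) • w α : (segG X Y hψ).carrier) = 0 := by
      rw [← hLC, hLCeq]
      exact Finset.sum_congr rfl fun α _ => by rw [hγ α]
    rw [h2] at h1
    have h3 : (∑ α, γ α • ((β α : ↥(GrLC.comp 𝒜 X.gr (a - e))) : X.carrier)) = 0 := by
      by_contra hne
      exact tmul_ne_zero (k := k) hne Q.ne h1.symm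
    have h4 : ∑ α, (⟨algebraMap k R (γ α), hψ.k𝒜 (γ α)⟩ : GrLC.deg0 𝒜) • β α = 0 := by
      apply Subtype.ext
      rw [Submodule.coe_sum, Submodule.coe_zero, ← h3]
      exact Finset.sum_congr rfl fun α _ => hcoe _ (γ α) rfl α
    have h5 := Fintype.linearIndependent_iff.mp β.linearIndependent
      (fun α => (⟨algebraMap k R (γ α), hψ.k𝒜 (γ α)⟩ : GrLC.deg0 𝒜)) h4 α
    have h6 : algebraMap k R (γ α) = 0 := congrArg Subtype.val h5
    have h7 : γ α = 0 := hinjR (h6.trans (map_zero _).symm)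
    rw [← hγ α, h7, map_zero]
  · intro y hy'
    have hyb := mem_gr_of_mem_socR X Y hψ hposR hposS hstdR hstdS he P Q mT hmT hy'
    obtain ⟨x, hx, hyx⟩ := exists_tmul_eta X Y hψ Q h0S hyb
    have hsum := β.sum_repr ⟨x, hx⟩
    choose γ hγ using fun α => h0R _ (β.repr ⟨x, hx⟩ α).2
    refine ⟨Finsupp.equivFunOnFinite.symm (fun α => algebraMap k T (γ α)), ?_⟩
    rw [hLCeq]
    have h1 := hLCval γ
    have h2 : (∑ α, γ α • ((β α : ↥(GrLC.comp 𝒜 X.gr (a - e))) : X.carrier)) = x := by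
      have h3 : ((∑ α, β.repr ⟨x, hx⟩ α • β α : ↥(GrLC.comp 𝒜 X.gr (a - e))) : X.carrier) = x :=
        congrArg Subtype.val hsum
      rw [Submodule.coe_sum] at h3
      rw [← h3]
      exact Finset.sum_congr rfl fun α _ => (hcoe _ (γ α) (hγ α) α).symm
    rw [h2] at h1
    exact Subtype.ext (hyx.trans h1.symm)

end socle

/-! ### The type of a Segre product of standard graded Gorenstein rings -/

section main

attribute [local instance] hModK hTowerK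

variable (k : Type u) [Field k] (R : Type u) [CommRing R] [Algebra k R]
  (𝒜 : ℤ → Submodule k R) [GradedAlgebra 𝒜] (S : Type u) [CommRing S] [Algebra k S]
  (ℬ : ℤ → Submodule k S) [GradedAlgebra ℬ] (T : Type u) [CommRing T] [Algebra k T]
  (𝒯 : ℤ → Submodule k T) [GradedAlgebra 𝒯] (ψ : T →ₐ[k] TensorProduct k R S)

theorem bassNum_segre
    (hposR : ∀ n : ℤ, n < 0 → 𝒜 n = ⊥) (h0R : 𝒜 0 = Submodule.span k {(1 : R)})
    [Algebra.FiniteType k R] (hposS : ∀ n : ℤ, n < 0 → ℬ n = ⊥)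
    (h0S : ℬ 0 = Submodule.span k {(1 : S)}) [Algebra.FiniteType k S]
    (hψ : Function.Injective ψ)
    (hdegT : ∀ n : ℤ, (𝒯 n).map ψ.toLinearMap =
      Submodule.span k {x : TensorProduct k R S | ∃ a ∈ 𝒜 n, ∃ b ∈ ℬ n, x = a ⊗ₜ[k] b})
    [LocCoh.IsGorensteinRing R] [LocCoh.IsGorensteinRing S] (mR : HomogeneousIdeal 𝒜)
    (hmR : mR.toIdeal = Ideal.span (⋃ n ∈ Set.Ioi (0 : ℤ), (𝒜 n : Set R)))
    (hstdR : Ideal.span (⋃ n ∈ Set.Ioi (0 : ℤ), (𝒜 n : Set R)) =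
      Ideal.span ((𝒜 1 : Submodule k R) : Set R))
    (I : GrLC.StarInjRes 𝒜 𝒜) (mS : HomogeneousIdeal ℬ)
    (hmS : mS.toIdeal = Ideal.span (⋃ n ∈ Set.Ioi (0 : ℤ), (ℬ n : Set S)))
    (hstdS : Ideal.span (⋃ n ∈ Set.Ioi (0 : ℤ), (ℬ n : Set S)) =
      Ideal.span ((ℬ 1 : Submodule k S) : Set S))
    (J : GrLC.StarInjRes ℬ ℬ) (r s : ℕ) (hr : ringKrullDim R = r) (hs : ringKrullDim S = s)
    (h2r : 2 ≤ r) (h2s : 2 ≤ s) (a b : ℤ)
    (ha : GrLC.endDeg (I.Hgr mR r) = ((a : WithTop ℤ) : WithBot (WithTop ℤ)))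
    (hb : GrLC.endDeg (J.Hgr mS s) = ((b : WithTop ℤ) : WithBot (WithTop ℤ))) (hab : b ≤ a)
    [LocCoh.IsCohenMacaulayRing T] (mT : HomogeneousIdeal 𝒯) [hmaxT : mT.toIdeal.IsMaximal]
    (hmT : mT.toIdeal = Ideal.span (⋃ n ∈ Set.Ioi (0 : ℤ), (𝒯 n : Set T))) :
    GrLC.bassNum mT.toIdeal T (r + s - 1) = (Module.finrank k (𝒜 (a - b)) : ℕ∞) := by
  classical
  haveI : Nontrivial R := nontrivial_of_ringKrullDim_eq r hr
  haveI : Nontrivial S := nontrivial_of_ringKrullDim_eq s hs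
  have hT : GrSeg.IsSegreRing 𝒜 ℬ 𝒯 ψ := ⟨hψ, hdegT⟩
  haveI : LocCoh.IsCohenMacaulayRing R :=
    Groth.Agent.Lib.Helper5.GorUnmixed.isCohenMacaulayRing_of_isGorensteinRing R
  haveI : LocCoh.IsCohenMacaulayRing S :=
    Groth.Agent.Lib.Helper5.GorUnmixed.isCohenMacaulayRing_of_isGorensteinRing S
  have hfR := isField_deg0 𝒜 (zero_toAS 𝒜 h0R) (algebraMap k R).injective
  have hfS := isField_deg0 ℬ (zero_toAS ℬ h0S) (algebraMap k S).injective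
  have hfT := isField_deg0 𝒯 (zero_toAS_T 𝒜 ℬ 𝒯 ψ h0R h0S hT)
    (algebraMap_T_injective (R := R) (S := S) ψ)
  have hpR := pos_toAS 𝒜 hposR
  have hpS := pos_toAS ℬ hposS
  have hpT := pos_toAS_T 𝒜 ℬ 𝒯 ψ hposR hT
  have hψ' := segCtx_of 𝒜 ℬ 𝒯 ψ hT
  have hslR := isStarLocal_of_irrelevant 𝒜 hpR hfR mR hmR
  have hslS := isStarLocal_of_irrelevant ℬ hpS hfS mS hmS
  have hslT := isStarLocal_of_irrelevant 𝒯 hpT hfT mT hmT
  have hmR' : (convIdeal 𝒜 mR).toIdeal =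
      Ideal.span (⋃ n ∈ Set.Ioi (0 : ℤ), (toAS 𝒜 n : Set R)) := hmR
  have hmS' : (convIdeal ℬ mS).toIdeal =
      Ideal.span (⋃ n ∈ Set.Ioi (0 : ℤ), (toAS ℬ n : Set S)) := hmS
  have hmT' : (convIdeal 𝒯 mT).toIdeal =
      Ideal.span (⋃ n ∈ Set.Ioi (0 : ℤ), (toAS 𝒯 n : Set T)) := hmT
  have hstdR' := Groth.Agent.Lib.R2H7.SegStd.hstd_toAS 𝒜 hstdR
  have hstdS' := Groth.Agent.Lib.R2H7.SegStd.hstd_toAS ℬ hstdS
  have ha' : GrLC.endDeg ((convRes 𝒜 𝒜 I).Hgr (convIdeal 𝒜 mR) r) =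
      ((a : WithTop ℤ) : WithBot (WithTop ℤ)) := (endDeg_conv 𝒜 I mR r).symm.trans ha
  have hb' : GrLC.endDeg ((convRes ℬ ℬ J).Hgr (convIdeal ℬ mS) s) =
      ((b : WithTop ℤ) : WithBot (WithTop ℤ)) := (endDeg_conv ℬ J mS s).symm.trans hb
  obtain ⟨-, ηR, PR⟩ := Groth.Agent.Lib.R2H7.GrType.exists_dpack_of_gorenstein hpR hfR
    (convIdeal 𝒜 mR) hslR hmR' r hr (convRes 𝒜 𝒜 I) a ha'
  obtain ⟨-, ηS, PS⟩ := Groth.Agent.Lib.R2H7.GrType.exists_dpack_of_gorenstein hpS hfS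
    (convIdeal ℬ mS) hslS hmS' s hs (convRes ℬ ℬ J) b hb'
  have PS' : DPack (toAS ℬ) ((convRes ℬ ℬ J).Hgr (convIdeal ℬ mS) s) (a - (a - b)) ηS := by
    rw [sub_sub_cancel]
    exact PS
  obtain ⟨n, hn⟩ : ∃ n, r + s = n + 2 := ⟨r + s - 2, by omega⟩
  obtain ⟨Θ₀, -⟩ := theta_conv k R 𝒜 S ℬ T 𝒯 ψ hT mR hmR mS hmS mT hmT I J
    (minRes (toAS 𝒯) (toAS 𝒯)) r s n hr hs h2r h2s hn
  let Θ : (minRes (toAS 𝒯) (toAS 𝒯)).H (convIdeal 𝒯 mT) (n + 1) ≃ₗ[T]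
      (segG (HG (convRes 𝒜 𝒜 I) (convIdeal 𝒜 mR) r)
        (HG (convRes ℬ ℬ J) (convIdeal ℬ mS) s) hψ').carrier := Θ₀
  obtain ⟨w, hwa, hwb, hwc⟩ := exists_socle_basis_seg
    (HG (convRes 𝒜 𝒜 I) (convIdeal 𝒜 mR) r) (HG (convRes ℬ ℬ J) (convIdeal ℬ mS) s) hψ'
    hpR hpS hstdR' hstdS' (sub_nonneg.mpr hab) PR PS' (convIdeal 𝒯 mT) hmT' hfR
    (zero_toAS 𝒜 h0R) (algebraMap k R).injective (zero_toAS ℬ h0S)
    (zero_toAS_T 𝒜 ℬ 𝒯 ψ h0R h0S hT)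
  have hdimT := ringKrullDim_segre k R 𝒜 hposR h0R S ℬ hposS h0S T 𝒯 ψ hψ hdegT r s hr hs
    (by omega) (by omega)
  have hrs1 : r + s - 1 = n + 1 := by omega
  rw [hrs1] at hdimT ⊢
  haveI hmaxT' : (convIdeal 𝒯 mT).toIdeal.IsMaximal := hmaxT
  have hvanT : ∀ j, j < n + 1 →
      Subsingleton ((minRes (toAS 𝒯) (toAS 𝒯)).H (convIdeal 𝒯 mT) j) := fun j hj =>
    Groth.Agent.Lib.R2H7.GrGorCan2.subsingleton_H_of_ne hpT _ hslT (n + 1) hdimT _ j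
      (Nat.ne_of_lt hj)
  have hLCΘ : ∀ c : Fin (Module.finrank (GrLC.deg0 (toAS 𝒜))
      ↥(GrLC.comp (toAS 𝒜) (toAS 𝒜) (a - b))) →₀ T,
      Θ.symm (Finsupp.linearCombination T w c) =
        Finsupp.linearCombination T (fun α => Θ.symm (w α)) c :=
    fun c => Finsupp.apply_linearCombination T Θ.symm.toLinearMap w c
  have key := Groth.Agent.Lib.R2H7.GrType.bassNum_eq_card hpT (convIdeal 𝒯 mT) hmT'
    (minRes (toAS 𝒯) (toAS 𝒯)) (minRes_isMin (toAS 𝒯) (toAS 𝒯)) (n + 1) hvanT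
    (fun α => Θ.symm (w α))
    (fun α t ht => by
      rw [← map_smul, hwa α t ht, map_zero])
    (fun c hc0 hLC => by
      have h1 : Θ.symm (Finsupp.linearCombination T w c) = 0 := (hLCΘ c).trans hLC
      have h2 : Finsupp.linearCombination T w c = 0 := by
        have := congrArg Θ h1
        rwa [LinearEquiv.apply_symm_apply, map_zero] at this
      exact hwb c hc0 h2)
    (fun y hy => by
      have hy' : Θ y ∈ socR (convIdeal 𝒯 mT).toIdeal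
          (segG (HG (convRes 𝒜 𝒜 I) (convIdeal 𝒜 mR) r)
            (HG (convRes ℬ ℬ J) (convIdeal ℬ mS) s) hψ').carrier := by
        intro t ht
        have h3 : t • Θ y = Θ (t • y) := (map_smul Θ t y).symm
        exact h3.trans (by rw [hy t ht, map_zero])
      obtain ⟨c, hc⟩ := hwc (Θ y) hy'
      refine ⟨c, ?_⟩
      have h4 : Θ.symm (Θ y) = Θ.symm (Finsupp.linearCombination T w c) := congrArg Θ.symm hc
      rw [LinearEquiv.symm_apply_apply] at h4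
      exact h4.trans (hLCΘ c))
  have key' : GrLC.bassNum mT.toIdeal T (n + 1) = ENat.card (Fin
      (Module.finrank (GrLC.deg0 (toAS 𝒜)) ↥(GrLC.comp (toAS 𝒜) (toAS 𝒜) (a - b)))) := key
  rw [key']
  have e1 : Module.finrank (GrLC.deg0 (toAS 𝒜)) ↥(GrLC.comp (toAS 𝒜) (toAS 𝒜) (a - b)) =
      Module.finrank k ↥(𝒜 (a - b)) :=
    (finrank_comp_conv 𝒜 𝒜 (a - b)).symm.trans (finrank_comp_self 𝒜 h0R (a - b))
  rw [e1]
  simp

end main

end Groth.Agent.Lib.R2H7.SegType
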