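/-
The graded `k`-dual of a Segre product: if `C_R` is the graded dual of `X` and `C_S` the graded
dual of `Y` (pieces of finite dimension), then the Segre product `C_R # C_S` is the graded dual of
`X # Y` under the tensor product of the two pairings (`exists_isGDual_segre`), and the pieces of
`X # Y` are finite dimensional (`finite_piece_segre`).  (helper7)
-/
import Mathlib
import Groth.Agent.Lib.R2H7SegType
import Groth.Agent.Lib.R2H7GrFDual
import Groth.Agent.Lib.Helper24GrDual3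

set_option autoImplicit false
open DirectSum
open scoped TensorProduct

noncomputable section

namespace Groth.Agent.Lib.R2H7.SegPair

open Groth.Agent.Lib.Helper24GrDual Groth.Agent.Lib.Helper24GrDual3
  Groth.Agent.Lib.R2H7.GrBdry Groth.Agent.Lib.R2H7.SegPres Groth.Agent.Lib.R2H7.SegDual
  Groth.Agent.Lib.R2H7.SegType Groth.Agent.Lib.R2H7.GrFDual

universe u

/-! ### The tensor product of two pairings -/

section LA

variable {k : Type u} [Field k] {C₁ C₂ H₁ H₂ : Type u} [AddCommGroup C₁] [Module k C₁]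
  [AddCommGroup C₂] [Module k C₂] [AddCommGroup H₁] [Module k H₁] [AddCommGroup H₂] [Module k H₂]
  (β₁ : C₁ →ₗ[k] H₁ →ₗ[k] k) (β₂ : C₂ →ₗ[k] H₂ →ₗ[k] k)

/-- The tensor product of two pairings. -/
def tpair : C₁ ⊗[k] C₂ →ₗ[k] H₁ ⊗[k] H₂ →ₗ[k] k :=
  (TensorProduct.dualDistrib k H₁ H₂) ∘ₗ (TensorProduct.map β₁ β₂)

theorem tpair_tmul (c₁ : C₁) (c₂ : C₂) (h₁ : H₁) (h₂ : H₂) :
    tpair β₁ β₂ (c₁ ⊗ₜ[k] c₂) (h₁ ⊗ₜ[k] h₂) = β₁ c₁ h₁ * β₂ c₂ h₂ := rfl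

theorem tpair_act {R S : Type u} [CommRing R] [CommRing S] [Algebra k R] [Algebra k S]
    [Module R C₁] [IsScalarTower k R C₁] [Module R H₁] [IsScalarTower k R H₁]
    [Module S C₂] [IsScalarTower k S C₂] [Module S H₂] [IsScalarTower k S H₂]
    (h₁ : ∀ (r : R) (c : C₁) (h : H₁), β₁ (r • c) h = β₁ c (r • h))
    (h₂ : ∀ (s : S) (c : C₂) (h : H₂), β₂ (s • c) h = β₂ c (s • h))
    (w : R ⊗[k] S) (z : C₁ ⊗[k] C₂) (y : H₁ ⊗[k] H₂) :
    tpair β₁ β₂ (GrSeg.act k R S C₁ C₂ w z) y =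
      tpair β₁ β₂ z (GrSeg.act k R S H₁ H₂ w y) := by
  induction w using TensorProduct.induction_on with
  | zero => simp only [map_zero, LinearMap.zero_apply]
  | add w w' hw hw' => simp only [map_add, LinearMap.add_apply, hw, hw']
  | tmul a b =>
    induction z using TensorProduct.induction_on with
    | zero => simp only [map_zero, LinearMap.zero_apply]
    | add z z' hz hz' => simp only [map_add, LinearMap.add_apply, hz, hz']
    | tmul c c' =>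
      induction y using TensorProduct.induction_on with
      | zero => simp only [map_zero]
      | add y y' hy hy' => simp only [map_add, hy, hy']
      | tmul h h' =>
        rw [GrSeg.act_tmul, GrSeg.act_tmul, tpair_tmul, tpair_tmul, h₁, h₂]

theorem tpair_eq_zero_of_piece (𝒞₁ : ℤ → AddSubgroup C₁) (𝒞₂ : ℤ → AddSubgroup C₂)
    (ℋ₁ : ℤ → AddSubgroup H₁) (ℋ₂ : ℤ → AddSubgroup H₂) {n m : ℤ}
    (hv : ∀ c ∈ 𝒞₁ n, ∀ h ∈ ℋ₁ m, β₁ c h = 0)
    {z : C₁ ⊗[k] C₂} (hz : z ∈ GrSeg.segrePiece k 𝒞₁ 𝒞₂ n)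
    {y : H₁ ⊗[k] H₂} (hy : y ∈ GrSeg.segrePiece k ℋ₁ ℋ₂ m) : tpair β₁ β₂ z y = 0 := by
  refine piece_induction 𝒞₁ 𝒞₂ (P := fun z => tpair β₁ β₂ z y = 0) ?_ ?_ ?_ ?_ hz
  · intro c hc c' _
    refine piece_induction ℋ₁ ℋ₂ (P := fun y => tpair β₁ β₂ (c ⊗ₜ[k] c') y = 0) ?_ ?_ ?_ ?_ hy
    · intro h hh h' _
      rw [tpair_tmul, hv c hc h hh, zero_mul]
    · rw [map_zero]
    · intro y y' e e'
      rw [map_add, e, e', add_zero]
    · intro a y e
      rw [map_smul, e, smul_zero]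
  · rw [map_zero, LinearMap.zero_apply]
  · intro z z' e e'
    rw [map_add, LinearMap.add_apply, e, e', add_zero]
  · intro a z e
    rw [map_smul, LinearMap.smul_apply, e, smul_zero]

theorem tpair_proj (p₁ : H₁ →ₗ[k] H₁) (p₂ : H₂ →ₗ[k] H₂) (𝒞₁ : ℤ → AddSubgroup C₁)
    (𝒞₂ : ℤ → AddSubgroup C₂) {n : ℤ}
    (h₁ : ∀ c ∈ 𝒞₁ n, ∀ h, β₁ c h = β₁ c (p₁ h)) (h₂ : ∀ c ∈ 𝒞₂ n, ∀ h, β₂ c h = β₂ c (p₂ h))
    {z : C₁ ⊗[k] C₂} (hz : z ∈ GrSeg.segrePiece k 𝒞₁ 𝒞₂ n) (h : H₁) (h' : H₂) :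
    tpair β₁ β₂ z (h ⊗ₜ[k] h') = tpair β₁ β₂ z (p₁ h ⊗ₜ[k] p₂ h') := by
  refine piece_induction 𝒞₁ 𝒞₂
    (P := fun z => tpair β₁ β₂ z (h ⊗ₜ[k] h') = tpair β₁ β₂ z (p₁ h ⊗ₜ[k] p₂ h')) ?_ ?_ ?_ ?_ hz
  · intro c hc c' hc'
    rw [tpair_tmul, tpair_tmul, ← h₁ c hc h, ← h₂ c' hc' h']
  · rw [map_zero, LinearMap.zero_apply, LinearMap.zero_apply]
  · intro z z' e e'
    rw [map_add, LinearMap.add_apply, LinearMap.add_apply, e, e']
  · intro a z e
    rw [map_smul, LinearMap.smul_apply, LinearMap.smul_apply, e]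

theorem exists_tpair_ne (hn₁ : ∀ c : C₁, c ≠ 0 → ∃ h, β₁ c h ≠ 0)
    (hn₂ : ∀ c : C₂, c ≠ 0 → ∃ h, β₂ c h ≠ 0) {z : C₁ ⊗[k] C₂} (hz : z ≠ 0) :
    ∃ h h', tpair β₁ β₂ z (h ⊗ₜ[k] h') ≠ 0 := by
  obtain ⟨f, ⟨h, rfl⟩, f', ⟨h', rfl⟩, hne⟩ := exists_map_ne hz (Set.range β₁.flip)
    (fun c hc => by
      obtain ⟨h, hh⟩ := hn₁ c hc
      exact ⟨β₁.flip h, ⟨h, rfl⟩, hh⟩) (Set.range β₂.flip)
    (fun c hc => by
      obtain ⟨h, hh⟩ := hn₂ c hc
      exact ⟨β₂.flip h, ⟨h, rfl⟩, hh⟩)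
  refine ⟨h, h', fun h0 => hne ?_⟩
  have key : ∀ z : C₁ ⊗[k] C₂,
      TensorProduct.lid k k (TensorProduct.map (β₁.flip h) (β₂.flip h') z) =
        tpair β₁ β₂ z (h ⊗ₜ[k] h') := by
    intro z
    induction z using TensorProduct.induction_on with
    | zero => simp only [map_zero, LinearMap.zero_apply]
    | add z z' e e' => simp only [map_add, LinearMap.add_apply, e, e']
    | tmul c c' =>
      rw [TensorProduct.map_tmul, TensorProduct.lid_tmul, tpair_tmul, LinearMap.flip_apply,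
        LinearMap.flip_apply, smul_eq_mul]
  have h1 := key z
  rw [h0] at h1
  exact (LinearEquiv.map_eq_zero_iff _).mp h1

theorem exists_tpair_eq (V₁ : Submodule k C₁) (V₂ : Submodule k C₂) (W₁ : Submodule k H₁)
    (W₂ : Submodule k H₂) [Module.Finite k W₁] [Module.Finite k W₂]
    (hs₁ : ∀ l : H₁ →ₗ[k] k, ∃ c ∈ V₁, ∀ h ∈ W₁, β₁ c h = l h)
    (hs₂ : ∀ l : H₂ →ₗ[k] k, ∃ c ∈ V₂, ∀ h ∈ W₂, β₂ c h = l h)
    (G : H₁ ⊗[k] H₂ →ₗ[k] k) :
    ∃ z ∈ Submodule.span k {x : C₁ ⊗[k] C₂ | ∃ a ∈ V₁, ∃ b ∈ V₂, x = a ⊗ₜ[k] b},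
      ∀ h ∈ W₁, ∀ h' ∈ W₂, tpair β₁ β₂ z (h ⊗ₜ[k] h') = G (h ⊗ₜ[k] h') := by
  classical
  let ρ₁ : V₁ →ₗ[k] Module.Dual k W₁ :=
    ((LinearMap.lcomp k k W₁.subtype) ∘ₗ β₁) ∘ₗ V₁.subtype
  let ρ₂ : V₂ →ₗ[k] Module.Dual k W₂ :=
    ((LinearMap.lcomp k k W₂.subtype) ∘ₗ β₂) ∘ₗ V₂.subtype
  have hρ₁ : ∀ (v : V₁) (w : W₁), ρ₁ v w = β₁ v.1 w.1 := fun v w => rfl
  have hρ₂ : ∀ (v : V₂) (w : W₂), ρ₂ v w = β₂ v.1 w.1 := fun v w => rfl
  have hsurj₁ : Function.Surjective ρ₁ := by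
    intro l
    obtain ⟨L, hL⟩ := LinearMap.exists_extend l
    obtain ⟨c, hc, hcl⟩ := hs₁ L
    refine ⟨⟨c, hc⟩, LinearMap.ext (fun w => ?_)⟩
    rw [hρ₁, hcl w.1 w.2, ← hL]
    rfl
  have hsurj₂ : Function.Surjective ρ₂ := by
    intro l
    obtain ⟨L, hL⟩ := LinearMap.exists_extend l
    obtain ⟨c, hc, hcl⟩ := hs₂ L
    refine ⟨⟨c, hc⟩, LinearMap.ext (fun w => ?_)⟩
    rw [hρ₂, hcl w.1 w.2, ← hL]
    rfl
  have hsurj := TensorProduct.map_surjective hsurj₁ hsurj₂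
  let G' : Module.Dual k (W₁ ⊗[k] W₂) := G ∘ₗ TensorProduct.map W₁.subtype W₂.subtype
  obtain ⟨z', hz'⟩ := hsurj ((TensorProduct.dualDistribEquiv k W₁ W₂).symm G')
  have hmem : ∀ z' : V₁ ⊗[k] V₂, TensorProduct.map V₁.subtype V₂.subtype z' ∈
      Submodule.span k {x : C₁ ⊗[k] C₂ | ∃ a ∈ V₁, ∃ b ∈ V₂, x = a ⊗ₜ[k] b} := by
    intro z'
    induction z' using TensorProduct.induction_on with
    | zero => rw [map_zero]; exact zero_mem _
    | add a b ha hb => rw [map_add]; exact add_mem ha hb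
    | tmul v v' => exact Submodule.subset_span ⟨v.1, v.2, v'.1, v'.2, rfl⟩
  refine ⟨TensorProduct.map V₁.subtype V₂.subtype z', hmem z', fun h hh h' hh' => ?_⟩
  have key : ∀ z' : V₁ ⊗[k] V₂,
      tpair β₁ β₂ (TensorProduct.map V₁.subtype V₂.subtype z') (h ⊗ₜ[k] h') =
        TensorProduct.dualDistrib k W₁ W₂ (TensorProduct.map ρ₁ ρ₂ z')
          ((⟨h, hh⟩ : W₁) ⊗ₜ[k] (⟨h', hh'⟩ : W₂)) := by
    intro z'
    induction z' using TensorProduct.induction_on with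
    | zero => simp only [map_zero, LinearMap.zero_apply]
    | add a b ha hb => simp only [map_add, LinearMap.add_apply, ha, hb]
    | tmul v v' =>
      rw [TensorProduct.map_tmul, tpair_tmul, TensorProduct.map_tmul,
        TensorProduct.dualDistrib_apply, hρ₁, hρ₂]
      rfl
  rw [key, hz']
  have h1 : TensorProduct.dualDistrib k W₁ W₂
      ((TensorProduct.dualDistribEquiv k W₁ W₂).symm G') = G' :=
    (TensorProduct.dualDistribEquiv k W₁ W₂).apply_symm_apply G'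
  rw [h1]
  rfl

end LA

/-! ### Finiteness of the pieces of a module with a graded dual with finite pieces -/

section fin

variable {k : Type u} [Field k] {R : Type u} [CommRing R] [Algebra k R]
  {M : Type u} [AddCommGroup M] [Module R M] [Module k M] [IsScalarTower k R M]
  (ℳ : ℤ → AddSubgroup M) [DirectSum.Decomposition ℳ]
  {D : Type u} [AddCommGroup D] [Module R D] [Module k D] [IsScalarTower k R D]
  (𝒟 : ℤ → AddSubgroup D) [DirectSum.Decomposition 𝒟]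
  (β : D →ₗ[k] M →ₗ[k] k)

theorem finite_of_dual (hD : GrSeg.IsGDual R ℳ 𝒟 β) (n : ℤ) (V : Submodule k D)
    (hV : ∀ d, d ∈ V ↔ d ∈ 𝒟 n) [Module.Finite k V] (W : Submodule k M)
    (hW : ∀ x, x ∈ W ↔ x ∈ ℳ (-n)) : Module.Finite k W := by
  let ρ : W →ₗ[k] Module.Dual k V := ((LinearMap.lcomp k k V.subtype) ∘ₗ β.flip) ∘ₗ W.subtype
  have hρ : ∀ (w : W) (v : V), ρ w v = β v.1 w.1 := fun w v => rfl
  have hinj : Function.Injective ρ := by
    rw [injective_iff_map_eq_zero]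
    intro w hw
    apply Subtype.ext
    apply (Module.forall_dual_apply_eq_zero_iff k w.1).mp
    intro l
    obtain ⟨d, hd, hdl⟩ := hD.exists_eq n l
    rw [← hdl w.1 ((hW _).mp w.2), ← hρ w ⟨d, (hV d).mpr hd⟩, hw]
    rfl
  exact Module.Finite.of_injective ρ hinj

end fin

/-! ### The dual of a Segre product -/

section segre

variable {k : Type u} [Field k] {R S T : Type u} [CommRing R] [CommRing S] [CommRing T]
  [Algebra k R] [Algebra k S] [Algebra k T]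
  {𝒜 : ℤ → AddSubgroup R} [GradedRing 𝒜] {ℬ : ℤ → AddSubgroup S} [GradedRing ℬ]
  {𝒯 : ℤ → AddSubgroup T} [GradedRing 𝒯] {ψ : T →ₐ[k] R ⊗[k] S}

theorem kstable_of_gsmul {M : Type u} [AddCommGroup M] [Module R M] [Module k M]
    [IsScalarTower k R M] (ℳ : ℤ → AddSubgroup M) [SetLike.GradedSMul 𝒜 ℳ]
    (hk : ∀ c : k, algebraMap k R c ∈ 𝒜 0) : KStable (k := k) ℳ := by
  intro c g x hx
  rw [← algebraMap_smul R c x]
  have := SetLike.GradedSMul.smul_mem (A := 𝒜) (B := ℳ) (hk c) hx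
  rwa [vadd_eq_add, zero_add] at this

/-- A piece of a graded module with `k`-stable pieces, as a subspace. -/
def ksub {M : Type u} [AddCommGroup M] [Module k M] (ℳ : ℤ → AddSubgroup M)
    (hk : KStable (k := k) ℳ) (n : ℤ) : Submodule k M where
  carrier := ℳ n
  add_mem' := add_mem
  zero_mem' := zero_mem _
  smul_mem' c x hx := hk c n x hx

theorem mem_ksub {M : Type u} [AddCommGroup M] [Module k M] (ℳ : ℤ → AddSubgroup M)
    (hk : KStable (k := k) ℳ) (n : ℤ) (x : M) : x ∈ ksub ℳ hk n ↔ x ∈ ℳ n := Iff.rfl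

variable (X : GrLC.GMod.{u} 𝒜) (Y : GrLC.GMod.{u} ℬ)
  [Module k X.carrier] [IsScalarTower k R X.carrier]
  [Module k Y.carrier] [IsScalarTower k S Y.carrier]
  (hψ : SegCtx 𝒜 ℬ 𝒯 ψ)
  {CR : Type u} [AddCommGroup CR] [Module R CR] [Module k CR] [IsScalarTower k R CR]
  (𝒞R : ℤ → AddSubgroup CR) [DirectSum.Decomposition 𝒞R] [SetLike.GradedSMul 𝒜 𝒞R]
  {CS : Type u} [AddCommGroup CS] [Module S CS] [Module k CS] [IsScalarTower k S CS]
  (𝒞S : ℤ → AddSubgroup CS) [DirectSum.Decomposition 𝒞S] [SetLike.GradedSMul ℬ 𝒞S]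
  (βR : CR →ₗ[k] X.carrier →ₗ[k] k) (hR : GrSeg.IsGDual R X.gr 𝒞R βR)
  (βS : CS →ₗ[k] Y.carrier →ₗ[k] k) (hS : GrSeg.IsGDual S Y.gr 𝒞S βS)
  (hfR : ∀ j : ℤ, ∃ s : Finset CR, ∀ c ∈ 𝒞R j, c ∈ Submodule.span k (s : Set CR))
  (hfS : ∀ j : ℤ, ∃ s : Finset CS, ∀ c ∈ 𝒞S j, c ∈ Submodule.span k (s : Set CS))

include hψ hR hfR in
theorem finite_ksub_X (j : ℤ) :
    Module.Finite k (ksub X.gr (kstable_of_gsmul X.gr hψ.k𝒜) j) := by
  have hkC : KStable (k := k) 𝒞R := kstable_of_gsmul 𝒞R hψ.k𝒜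
  haveI : Module.Finite k (ksub 𝒞R hkC (-j)) := by
    obtain ⟨s, hs⟩ := hfR (-j)
    exact Submodule.finiteDimensional_of_le (fun x hx => hs x hx)
  exact finite_of_dual X.gr 𝒞R βR hR (-j) (ksub 𝒞R hkC (-j)) (fun d => Iff.rfl) _
    (fun x => by rw [neg_neg]; exact Iff.rfl)

include hψ hS hfS in
theorem finite_ksub_Y (j : ℤ) :
    Module.Finite k (ksub Y.gr (kstable_of_gsmul Y.gr hψ.kℬ) j) := by
  have hkC : KStable (k := k) 𝒞S := kstable_of_gsmul 𝒞S hψ.kℬ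
  haveI : Module.Finite k (ksub 𝒞S hkC (-j)) := by
    obtain ⟨s, hs⟩ := hfS (-j)
    exact Submodule.finiteDimensional_of_le (fun x hx => hs x hx)
  exact finite_of_dual Y.gr 𝒞S βS hS (-j) (ksub 𝒞S hkC (-j)) (fun d => Iff.rfl) _
    (fun x => by rw [neg_neg]; exact Iff.rfl)

include hψ hR hS hfR hfS in
/-- The pieces of the Segre product of two graded modules whose graded duals have finite
dimensional pieces are finite dimensional. -/
theorem finite_piece (j : ℤ) : Module.Finite k (piece k X Y j) := by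
  haveI := finite_ksub_X X hψ 𝒞R βR hR hfR j
  haveI := finite_ksub_Y Y hψ 𝒞S βS hS hfS j
  have hle : piece k X Y j ≤ LinearMap.range (TensorProduct.map
      (ksub X.gr (kstable_of_gsmul X.gr hψ.k𝒜) j).subtype
      (ksub Y.gr (kstable_of_gsmul Y.gr hψ.kℬ) j).subtype) := by
    refine Submodule.span_le.mpr ?_
    rintro _ ⟨a, ha, b, hb, rfl⟩
    exact ⟨(⟨a, ha⟩ : ksub X.gr (kstable_of_gsmul X.gr hψ.k𝒜) j) ⊗ₜ[k]
      (⟨b, hb⟩ : ksub Y.gr (kstable_of_gsmul Y.gr hψ.kℬ) j), rfl⟩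
  exact Submodule.finiteDimensional_of_le hle

variable {P : Type u} [AddCommGroup P] [Module T P] [Module k P] [IsScalarTower k T P]
  (𝒬 : ℤ → AddSubgroup P) [DirectSum.Decomposition 𝒬]
  (φ : P →ₗ[k] CR ⊗[k] CS) (hP : GrSeg.IsSegreMod ψ 𝒞R 𝒞S 𝒬 φ)
  {H : Type u} [AddCommGroup H] [Module T H] [Module k H] [twH : IsScalarTower k T H]
  (ℋ : ℤ → AddSubgroup H) [DirectSum.Decomposition ℋ]
  (Θ : H ≃ₗ[T] SegCar X Y hψ)
  (hΘ : ∀ (g : ℤ) (ξ : H), ξ ∈ ℋ g ↔ (Θ ξ).1 ∈ piece k X Y g)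

/-- The underlying tensor of an element of the Segre product, `k`-linearly. -/
def valK : SegCar X Y hψ →ₗ[k] X.carrier ⊗[k] Y.carrier where
  toFun p := p.1
  map_add' _ _ := rfl
  map_smul' _ _ := rfl

include hR hS hfR hfS hΘ in
/-- The pieces of a graded module isomorphic to the Segre product are finite dimensional. -/
theorem finite_piece_segre (j : ℤ) (W : Submodule k H) (hW : ∀ ξ, ξ ∈ W ↔ ξ ∈ ℋ j) :
    Module.Finite k W := by
  haveI := finite_piece X Y hψ 𝒞R 𝒞S βR hR βS hS hfR hfS j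
  let vΘ : H →ₗ[k] X.carrier ⊗[k] Y.carrier :=
    valK X Y hψ ∘ₗ (Θ.toLinearMap.restrictScalars k)
  have hvΘ : ∀ ξ, vΘ ξ = (Θ ξ).1 := fun ξ => rfl
  let f : W →ₗ[k] piece k X Y j :=
    (vΘ ∘ₗ W.subtype).codRestrict (piece k X Y j) (fun w => (hΘ j w.1).mp ((hW _).mp w.2))
  have hf : Function.Injective f := by
    intro w w' hww
    apply Subtype.ext
    apply Θ.injective
    apply val_injective X Y hψ
    have h1 : ((f w : piece k X Y j) : X.carrier ⊗[k] Y.carrier) = (f w' : piece k X Y j) :=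
      congrArg Subtype.val hww
    exact h1
  exact Module.Finite.of_injective f hf

include hR hS hfR hfS hP hΘ in
/-- The Segre product of the graded duals is the graded dual of the Segre product. -/
theorem exists_isGDual_segre : ∃ βT : P →ₗ[k] H →ₗ[k] k, GrSeg.IsGDual T ℋ 𝒬 βT := by
  classical
  have hkX : KStable (k := k) X.gr := kstable_of_gsmul X.gr hψ.k𝒜
  have hkY : KStable (k := k) Y.gr := kstable_of_gsmul Y.gr hψ.kℬ
  have hkCR : KStable (k := k) 𝒞R := kstable_of_gsmul 𝒞R hψ.k𝒜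
  have hkCS : KStable (k := k) 𝒞S := kstable_of_gsmul 𝒞S hψ.kℬ
  let vΘ : H →ₗ[k] X.carrier ⊗[k] Y.carrier :=
    valK X Y hψ ∘ₗ (Θ.toLinearMap.restrictScalars k)
  have hvΘ : ∀ ξ, vΘ ξ = (Θ ξ).1 := fun ξ => rfl
  let βT : P →ₗ[k] H →ₗ[k] k := (tpair βR βS).compl₁₂ φ vΘ
  have hβT : ∀ p ξ, βT p ξ = tpair βR βS (φ p) (Θ ξ).1 := fun p ξ => rfl
  have hφmem : ∀ n p, p ∈ 𝒬 n → φ p ∈ GrSeg.segrePiece k 𝒞R 𝒞S n := by
    intro n p hp
    have h1 : φ p ∈ φ '' (𝒬 n : Set P) := ⟨p, hp, rfl⟩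
    rw [hP.image_piece n] at h1
    exact h1
  have hndR : ∀ c : CR, c ≠ 0 → ∃ h, βR c h ≠ 0 := by
    intro c hc
    by_contra hall
    push_neg at hall
    exact hc (sepD' X.gr 𝒞R βR hR c hall)
  have hndS : ∀ c : CS, c ≠ 0 → ∃ h, βS c h ≠ 0 := by
    intro c hc
    by_contra hall
    push_neg at hall
    exact hc (sepD' Y.gr 𝒞S βS hS c hall)
  refine ⟨βT, { map_smul := ?_, vanish := ?_, eq_zero := ?_, exists_eq := ?_ }⟩
  · intro t p ξ
    rw [hβT, hβT, hP.map_smul, Θ.map_smul t ξ, smul_val]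
    exact tpair_act βR βS hR.map_smul hS.map_smul (ψ t) (φ p) (Θ ξ).1
  · intro n p hp m hm ξ hξ
    rw [hβT]
    exact tpair_eq_zero_of_piece βR βS 𝒞R 𝒞S X.gr Y.gr
      (fun c hc h hh => hR.vanish n c hc m hm h hh) (hφmem n p hp) ((hΘ m ξ).mp hξ)
  · intro n p hp hv
    by_contra hp0
    have hz : φ p ≠ 0 := fun h => hp0 (hP.injective (h.trans (map_zero φ).symm))
    obtain ⟨h, h', hne⟩ := exists_tpair_ne βR βS hndR hndS hz
    have e1 := tpair_proj βR βS (projK X hψ.k𝒜 (-n)) (projK Y hψ.kℬ (-n)) 𝒞R 𝒞S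
      (fun c hc h => pair_eq_pair_P X.gr 𝒞R βR hR hc h)
      (fun c hc h => pair_eq_pair_P Y.gr 𝒞S βS hS hc h) (hφmem n p hp) h h'
    rw [e1] at hne
    have hmem : projK X hψ.k𝒜 (-n) h ⊗ₜ[k] projK Y hψ.kℬ (-n) h' ∈ piece k X Y (-n) :=
      tmul_mem_piece X.gr Y.gr (projK_mem X _ _ h) (projK_mem Y _ _ h')
    let q : SegCar X Y hψ := mkS X Y hψ _ (piece_le_segSub X Y (-n) hmem)
    have hξ : Θ.symm q ∈ ℋ (-n) := by
      rw [hΘ, Θ.apply_symm_apply]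
      exact hmem
    have h2 := hv (Θ.symm q) hξ
    rw [hβT, Θ.apply_symm_apply] at h2
    exact hne h2
  · intro n g
    let toSeg : X.carrier ⊗[k] Y.carrier →ₗ[k] SegCar X Y hψ :=
      { toFun := fun z => mkS X Y hψ (PiN X Y hψ (-n) z)
          (piece_le_segSub X Y (-n) (PiN_mem X Y hψ (-n) z))
        map_add' := fun z z' => val_injective X Y hψ (by
          show PiN X Y hψ (-n) (z + z') = PiN X Y hψ (-n) z + PiN X Y hψ (-n) z'
          rw [map_add])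
        map_smul' := fun c z => val_injective X Y hψ (by
          show PiN X Y hψ (-n) (c • z) = c • PiN X Y hψ (-n) z
          rw [map_smul]) }
    have htoSeg : ∀ z, (toSeg z).1 = PiN X Y hψ (-n) z := fun z => rfl
    let G : X.carrier ⊗[k] Y.carrier →ₗ[k] k :=
      (g ∘ₗ (Θ.symm.toLinearMap.restrictScalars k)) ∘ₗ toSeg
    have hG : ∀ z, G z = g (Θ.symm (toSeg z)) := fun z => rfl
    haveI := finite_ksub_X X hψ 𝒞R βR hR hfR (-n)
    haveI := finite_ksub_Y Y hψ 𝒞S βS hS hfS (-n)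
    obtain ⟨z, hz, hzG⟩ := exists_tpair_eq βR βS (ksub 𝒞R hkCR n) (ksub 𝒞S hkCS n)
      (ksub X.gr hkX (-n)) (ksub Y.gr hkY (-n))
      (fun l => by
        obtain ⟨c, hc, hcl⟩ := hR.exists_eq n l
        exact ⟨c, hc, fun h hh => hcl h hh⟩)
      (fun l => by
        obtain ⟨c, hc, hcl⟩ := hS.exists_eq n l
        exact ⟨c, hc, fun h hh => hcl h hh⟩) G
    have hz' : z ∈ GrSeg.segrePiece k 𝒞R 𝒞S n :=
      Submodule.span_mono (by
        rintro _ ⟨a, ha, b, hb, rfl⟩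
        exact ⟨a, ha, b, hb, rfl⟩) hz
    have hz'' : z ∈ φ '' (𝒬 n : Set P) := by
      rw [hP.image_piece n]
      exact hz'
    obtain ⟨p, hp, rfl⟩ := hz''
    refine ⟨p, hp, fun ξ hξ => ?_⟩
    rw [hβT]
    have hmem := (hΘ (-n) ξ).mp hξ
    have key : ∀ y ∈ piece k X Y (-n), tpair βR βS (φ p) y = G y := by
      intro y hy
      refine piece_induction X.gr Y.gr (P := fun y => tpair βR βS (φ p) y = G y) ?_ ?_ ?_ ?_ hy
      · intro h hh h' hh'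
        exact hzG h hh h' hh'
      · rw [map_zero, map_zero]
      · intro y y' e e'
        rw [map_add, map_add, e, e']
      · intro c y e
        rw [map_smul, map_smul, e]
    rw [key _ hmem, hG]
    have h3 : toSeg (Θ ξ).1 = Θ ξ := val_injective X Y hψ (by
      show (toSeg (Θ ξ).1).1 = (Θ ξ).1
      rw [htoSeg, PiN_same X Y hψ hmem])
    rw [h3, Θ.symm_apply_apply]

end segre

end Groth.Agent.Lib.R2H7.SegPair
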