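/-
The canonical module of a Segre product: for graded rings `R`, `S` over a field of dimensions at
least two, the Segre product `K_R # K_S` of *canonical modules is a *canonical module of
`T = R # S` (`isStarCanonical_segre`).  Ingredients: the dictionary between *canonical modules
and graded duals of the top local cohomology (`R2H7GrCanPair.exists_pairing'`,
`R2H7GrCanFinite.isGDual_of_pairing`, and its converse `R2H7GrMatHom.exists_hom_equiv`), the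
isomorphism `H^{r+s-1}_{T_+}(T) ≅ H^r_{R_+}(R) # H^s_{S_+}(S)` (`R2H7SegGor.theta_conv`), the
graded dual of a Segre product (`R2H7SegPair.exists_isGDual_segre`) and the finite generation of
Segre products of modules (`R2LeadSegreFG.main`).  (helper7)
-/
import Mathlib
import Groth.Agent.Lib.R2H7GrMatHom
import Groth.Agent.Lib.R2H7SegPair
import Groth.Agent.Lib.R2H7GrCanFinite
import Groth.Agent.Lib.R2H7GrCanPair
import Groth.Agent.Lib.R2LeadSegreFG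

set_option autoImplicit false
open DirectSum
open scoped TensorProduct

noncomputable section

namespace Groth.Agent.Lib.R2H7.SegCanMod

open Groth.Agent.Lib.Helper24GrDual Groth.Agent.Lib.Helper24GrDual3
  Groth.Agent.Lib.R2H7.GrBdry Groth.Agent.Lib.R2H7.GrCanDict Groth.Agent.Lib.R2H7.GrCanPair
  Groth.Agent.Lib.R2H7.GrCanFinite Groth.Agent.Lib.R2H7.GrWPolyCan
  Groth.Agent.Lib.R2H7.SegPres Groth.Agent.Lib.R2H7.SegTheta Groth.Agent.Lib.R2H7.SegGen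
  Groth.Agent.Lib.R2H7.SegConv Groth.Agent.Lib.R2H7.SegVan Groth.Agent.Lib.R2H7.SegCM
  Groth.Agent.Lib.R2H7.SegGor Groth.Agent.Lib.R2H7.SegTotRB Groth.Agent.Lib.R2H7.SegPair
  Groth.Agent.Lib.R2H7.GrMatHom

universe u

attribute [local instance] hModK hTowerK

section dual

variable {k : Type u} [Field k] {R : Type u} [CommRing R] [Algebra k R]
  (𝒜 : ℤ → Submodule k R) [GradedAlgebra 𝒜]

/-- A *canonical module is a graded `k`-dual of the top local cohomology. -/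
theorem exists_isGDual_of_isStarCanonical [Nontrivial R] [IsNoetherianRing R]
    (hposR : ∀ n : ℤ, n < 0 → 𝒜 n = ⊥) (h0R : 𝒜 0 = Submodule.span k {(1 : R)})
    (mR : HomogeneousIdeal 𝒜)
    (hmR : mR.toIdeal = Ideal.span (⋃ n ∈ Set.Ioi (0 : ℤ), (𝒜 n : Set R)))
    (r : ℕ) (I : GrLC.StarInjRes 𝒜 𝒜)
    {ER : Type u} [AddCommGroup ER] [Module R ER] (𝓔R : ℤ → AddSubgroup ER)
    [DirectSum.Decomposition 𝓔R] [SetLike.GradedSMul 𝒜 𝓔R] (eR : (R ⧸ mR.toIdeal) →ₗ[R] ER)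
    (heR : GrLC.IsStarInjHull 𝒜 (GrLC.quotGr 𝒜 mR) 𝓔R eR)
    {CR : Type u} [AddCommGroup CR] [Module R CR] [Module k CR] [IsScalarTower k R CR]
    (𝒞R : ℤ → AddSubgroup CR) [DirectSum.Decomposition 𝒞R] [SetLike.GradedSMul 𝒜 𝒞R]
    (hCR : GrLC.IsStarCanonical 𝒜 𝒞R 𝓔R mR r I) :
    ∃ βR : CR →ₗ[k] (convRes 𝒜 𝒜 I).H (convIdeal 𝒜 mR) r →ₗ[k] k,
      GrSeg.IsGDual R ((convRes 𝒜 𝒜 I).Hgr (convIdeal 𝒜 mR) r) 𝒞R βR := by
  have hinj : Function.Injective (algebraMap k R) := (algebraMap k R).injective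
  have hk : ∀ c : k, algebraMap k R c ∈ toAS 𝒜 0 := fun c => SetLike.algebraMap_mem_graded 𝒜 c
  have h0k := zero_toAS 𝒜 h0R
  have hf0 := isField_deg0 𝒜 h0k hinj
  have hp := pos_toAS 𝒜 hposR
  have hsl := isStarLocal_of_irrelevant 𝒜 hp hf0 mR hmR
  have hmR' : (convIdeal 𝒜 mR).toIdeal =
      Ideal.span (⋃ n ∈ Set.Ioi (0 : ℤ), (toAS 𝒜 n : Set R)) := hmR
  haveI : SetLike.GradedSMul (toAS 𝒜) 𝓔R := gsmul_conv 𝒜 𝓔R
  haveI : SetLike.GradedSMul (toAS 𝒜) 𝒞R := gsmul_conv 𝒜 𝒞R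
  have heR' := isStarInjHull_conv 𝒜 𝓔R mR eR heR
  have hCR' := isStarCanonical_conv 𝒜 𝓔R 𝒞R mR r I hCR
  obtain ⟨β₀, h1, h2, h3, h4⟩ :=
    exists_pairing' hp hf0 (convIdeal 𝒜 mR) hsl hmR' 𝓔R eR heR' 𝒞R r (convRes 𝒜 𝒜 I) hCR'
  have hσ : ∀ a : k, ((((deg0Equiv hk h0k hinj).symm a : GrLC.deg0 (toAS 𝒜)) : R)) =
      algebraMap R R (algebraMap k R a) := by
    intro a
    have h5 := deg0Equiv_algebraMap hk h0k hinj ((deg0Equiv hk h0k hinj).symm a)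
    rw [RingEquiv.apply_symm_apply] at h5
    exact h5.symm
  exact isGDual_of_pairing (k := k) (R := R) (S := R) (𝒜' := toAS 𝒜)
    (deg0Equiv hk h0k hinj).symm hσ 𝒞R ((convRes 𝒜 𝒜 I).Hgr (convIdeal 𝒜 mR) r)
    ((convRes 𝒜 𝒜 I).Hgr (convIdeal 𝒜 mR) r) (AddEquiv.refl _) (fun r x => rfl)
    (fun g x => Iff.rfl) β₀ h1 h2 h3 h4

end dual

/-- `theta_conv` with an arbitrary index. -/
theorem theta_conv' (k : Type u) [Field k] (R : Type u) [CommRing R] [Algebra k R]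
    (𝒜 : ℤ → Submodule k R) [GradedAlgebra 𝒜] (S : Type u) [CommRing S] [Algebra k S]
    (ℬ : ℤ → Submodule k S) [GradedAlgebra ℬ] (T : Type u) [CommRing T] [Algebra k T]
    (𝒯 : ℤ → Submodule k T) [GradedAlgebra 𝒯] (ψ : T →ₐ[k] TensorProduct k R S)
    [IsNoetherianRing R] [IsNoetherianRing S] [IsNoetherianRing T]
    (hT : GrSeg.IsSegreRing 𝒜 ℬ 𝒯 ψ) (mR : HomogeneousIdeal 𝒜)
    (hmR : mR.toIdeal = Ideal.span (⋃ n ∈ Set.Ioi (0 : ℤ), (𝒜 n : Set R)))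
    (mS : HomogeneousIdeal ℬ)
    (hmS : mS.toIdeal = Ideal.span (⋃ n ∈ Set.Ioi (0 : ℤ), (ℬ n : Set S)))
    (mT : HomogeneousIdeal 𝒯)
    (hmT : mT.toIdeal = Ideal.span (⋃ n ∈ Set.Ioi (0 : ℤ), (𝒯 n : Set T)))
    (I : GrLC.StarInjRes 𝒜 𝒜) (J : GrLC.StarInjRes ℬ ℬ)
    (IT : GrLC.StarInjRes (toAS 𝒯) (toAS 𝒯)) (r s m : ℕ)
    (hr : ringKrullDim R = r) (hs : ringKrullDim S = s) (h2r : 2 ≤ r) (h2s : 2 ≤ s)
    (hrs : r + s = m + 1) :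
    ∃ Θ : IT.H (convIdeal 𝒯 mT) m ≃ₗ[T]
        SegCar (HG (convRes 𝒜 𝒜 I) (convIdeal 𝒜 mR) r) (HG (convRes ℬ ℬ J) (convIdeal ℬ mS) s)
          (segCtx_of 𝒜 ℬ 𝒯 ψ hT),
      ∀ (g : ℤ) (ξ : IT.H (convIdeal 𝒯 mT) m),
        ξ ∈ IT.Hgr (convIdeal 𝒯 mT) m g ↔
          (Θ ξ).1 ∈ piece k (HG (convRes 𝒜 𝒜 I) (convIdeal 𝒜 mR) r)
            (HG (convRes ℬ ℬ J) (convIdeal ℬ mS) s) g := by
  obtain ⟨n, rfl⟩ : ∃ n, m = n + 1 := ⟨m - 1, by omega⟩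
  obtain ⟨Θ, hΘ⟩ := theta_conv k R 𝒜 S ℬ T 𝒯 ψ hT mR hmR mS hmS mT hmT I J IT r s n hr hs
    h2r h2s (by omega)
  exact ⟨Θ, fun g ξ => hΘ g ξ⟩

/-- The Segre product of *canonical modules is a *canonical module of the Segre product. -/
theorem isStarCanonical_segre (k : Type u) [Field k] (R : Type u) [CommRing R] [Algebra k R]
    (𝒜 : ℤ → Submodule k R) [GradedAlgebra 𝒜] (hposR : ∀ n : ℤ, n < 0 → 𝒜 n = ⊥)
    (h0R : 𝒜 0 = Submodule.span k {(1 : R)}) [Algebra.FiniteType k R] (S : Type u) [CommRing S]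
    [Algebra k S] (ℬ : ℤ → Submodule k S) [GradedAlgebra ℬ]
    (hposS : ∀ n : ℤ, n < 0 → ℬ n = ⊥) (h0S : ℬ 0 = Submodule.span k {(1 : S)})
    [Algebra.FiniteType k S] (T : Type u) [CommRing T] [Algebra k T] (𝒯 : ℤ → Submodule k T)
    [GradedAlgebra 𝒯] (ψ : T →ₐ[k] TensorProduct k R S) (hT : GrSeg.IsSegreRing 𝒜 ℬ 𝒯 ψ)
    (mR : HomogeneousIdeal 𝒜)
    (hmR : mR.toIdeal = Ideal.span (⋃ n ∈ Set.Ioi (0 : ℤ), (𝒜 n : Set R)))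
    (I : GrLC.StarInjRes 𝒜 𝒜) (mS : HomogeneousIdeal ℬ)
    (hmS : mS.toIdeal = Ideal.span (⋃ n ∈ Set.Ioi (0 : ℤ), (ℬ n : Set S)))
    (J : GrLC.StarInjRes ℬ ℬ) (mT : HomogeneousIdeal 𝒯)
    (hmT : mT.toIdeal = Ideal.span (⋃ n ∈ Set.Ioi (0 : ℤ), (𝒯 n : Set T)))
    (IT : GrLC.StarInjRes 𝒯 𝒯) (r s : ℕ) (hr : ringKrullDim R = r) (hs : ringKrullDim S = s)
    (h2r : 2 ≤ r) (h2s : 2 ≤ s) (ER : Type u) [AddCommGroup ER] [Module R ER]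
    (𝓔R : ℤ → AddSubgroup ER) [DirectSum.Decomposition 𝓔R] [SetLike.GradedSMul 𝒜 𝓔R]
    (eR : (R ⧸ mR.toIdeal) →ₗ[R] ER)
    (heR : GrLC.IsStarInjHull 𝒜 (GrLC.quotGr 𝒜 mR) 𝓔R eR) (CR : Type u) [AddCommGroup CR]
    [Module R CR] [Module k CR] [IsScalarTower k R CR] (𝒞R : ℤ → AddSubgroup CR)
    [DirectSum.Decomposition 𝒞R] [SetLike.GradedSMul 𝒜 𝒞R]
    (hCR : GrLC.IsStarCanonical 𝒜 𝒞R 𝓔R mR r I) (ES : Type u) [AddCommGroup ES] [Module S ES]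
    (𝓔S : ℤ → AddSubgroup ES) [DirectSum.Decomposition 𝓔S] [SetLike.GradedSMul ℬ 𝓔S]
    (eS : (S ⧸ mS.toIdeal) →ₗ[S] ES)
    (heS : GrLC.IsStarInjHull ℬ (GrLC.quotGr ℬ mS) 𝓔S eS) (CS : Type u) [AddCommGroup CS]
    [Module S CS] [Module k CS] [IsScalarTower k S CS] (𝒞S : ℤ → AddSubgroup CS)
    [DirectSum.Decomposition 𝒞S] [SetLike.GradedSMul ℬ 𝒞S]
    (hCS : GrLC.IsStarCanonical ℬ 𝒞S 𝓔S mS s J) (ET : Type u) [AddCommGroup ET] [Module T ET]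
    (𝓔T : ℤ → AddSubgroup ET) [DirectSum.Decomposition 𝓔T] [SetLike.GradedSMul 𝒯 𝓔T]
    (eT : (T ⧸ mT.toIdeal) →ₗ[T] ET)
    (heT : GrLC.IsStarInjHull 𝒯 (GrLC.quotGr 𝒯 mT) 𝓔T eT) (P : Type u) [AddCommGroup P]
    [Module T P] [Module k P] [IsScalarTower k T P] (𝒬 : ℤ → AddSubgroup P)
    [DirectSum.Decomposition 𝒬] [SetLike.GradedSMul 𝒯 𝒬] (φ : P →ₗ[k] TensorProduct k CR CS)
    (hP : GrSeg.IsSegreMod ψ 𝒞R 𝒞S 𝒬 φ) :
    GrLC.IsStarCanonical 𝒯 𝒬 𝓔T mT (r + s - 1) IT := by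
  classical
  haveI : Nontrivial R := nontrivial_of_ringKrullDim_eq r hr
  haveI : Nontrivial S := nontrivial_of_ringKrullDim_eq s hs
  haveI : Nontrivial T := (algebraMap_T_injective (R := R) (S := S) ψ).nontrivial
  haveI : IsNoetherianRing R := Algebra.FiniteType.isNoetherianRing k R
  haveI : IsNoetherianRing S := Algebra.FiniteType.isNoetherianRing k S
  haveI : IsNoetherianRing T :=
    Groth.Agent.S18646.result k R 𝒜 hposR h0R S ℬ hposS h0S T 𝒯 ψ hT.1 hT.2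
  have hpT := pos_toAS_T 𝒜 ℬ 𝒯 ψ hposR hT
  have hψ' := segCtx_of 𝒜 ℬ 𝒯 ψ hT
  -- finite generation
  haveI hfinCR : Module.Finite R CR := hCR.1
  haveI hfinCS : Module.Finite S CS := hCS.1
  haveI hfinP : Module.Finite T P :=
    Groth.Agent.Lib.R2Lead.SegreFG.main k R 𝒜 S ℬ T 𝒯 ψ hT CR 𝒞R CS 𝒞S P 𝒬 φ hP
  -- the graded duals
  obtain ⟨βR, hβR⟩ := exists_isGDual_of_isStarCanonical 𝒜 hposR h0R mR hmR r I 𝓔R eR heR 𝒞R hCR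
  obtain ⟨βS, hβS⟩ := exists_isGDual_of_isStarCanonical ℬ hposS h0S mS hmS s J 𝓔S eS heS 𝒞S hCS
  haveI : SetLike.GradedSMul (toAS 𝒜) 𝒞R := gsmul_conv 𝒜 𝒞R
  haveI : SetLike.GradedSMul (toAS ℬ) 𝒞S := gsmul_conv ℬ 𝒞S
  have hfCR : ∀ j : ℤ, ∃ s : Finset CR, ∀ c ∈ 𝒞R j, c ∈ Submodule.span k (s : Set CR) :=
    fun j => piece_le_span 𝒜 𝒞R hposR h0R j
  have hfCS : ∀ j : ℤ, ∃ s : Finset CS, ∀ c ∈ 𝒞S j, c ∈ Submodule.span k (s : Set CS) :=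
    fun j => piece_le_span ℬ 𝒞S hposS h0S j
  -- the top local cohomology of the Segre product
  obtain ⟨Θ, hΘ⟩ := theta_conv' k R 𝒜 S ℬ T 𝒯 ψ hT mR hmR mS hmS mT hmT I J (convRes 𝒯 𝒯 IT)
    r s (r + s - 1) hr hs h2r h2s (by omega)
  obtain ⟨βT, hβT⟩ := exists_isGDual_segre (HG (convRes 𝒜 𝒜 I) (convIdeal 𝒜 mR) r)
    (HG (convRes ℬ ℬ J) (convIdeal ℬ mS) s) hψ' 𝒞R 𝒞S βR hβR βS hβS hfCR hfCS 𝒬 φ hP
    (twH := hTowerK (k := k) (convRes 𝒯 𝒯 IT) (convIdeal 𝒯 mT) (r + s - 1))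
    ((convRes 𝒯 𝒯 IT).Hgr (convIdeal 𝒯 mT) (r + s - 1)) Θ hΘ
  -- the hypotheses of graded Matlis duality
  letI : Module k ET := Module.compHom ET (algebraMap k T)
  haveI : IsScalarTower k T ET := IsScalarTower.of_algebraMap_smul (fun _ _ => rfl)
  haveI : SetLike.GradedSMul 𝒯 ((convRes 𝒯 𝒯 IT).Hgr (convIdeal 𝒯 mT) (r + s - 1)) :=
    ⟨fun {i j} {t ξ} ht hξ => SetLike.GradedSMul.smul_mem (A := toAS 𝒯)
      (B := (convRes 𝒯 𝒯 IT).Hgr (convIdeal 𝒯 mT) (r + s - 1)) ht hξ⟩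
  have hposT : ∀ n : ℤ, n < 0 → 𝒯 n = ⊥ := by
    intro n hn
    rw [Submodule.eq_bot_iff]
    intro t ht
    have h1 : t ∈ toAS 𝒯 n := ht
    rw [hpT n hn] at h1
    exact AddSubgroup.mem_bot.mp h1
  have h0T : 𝒯 0 = Submodule.span k {(1 : T)} := by
    apply le_antisymm
    · intro t ht
      obtain ⟨c, rfl⟩ := zero_toAS_T 𝒜 ℬ 𝒯 ψ h0R h0S hT t ht
      rw [Algebra.algebraMap_eq_smul_one]
      exact Submodule.smul_mem _ c (Submodule.subset_span rfl)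
    · rw [Submodule.span_le]
      intro x hx
      rw [Set.mem_singleton_iff] at hx
      rw [hx]
      exact SetLike.GradedOne.one_mem (A := 𝒯)
  have hfdT : ∀ j, Module.Finite k
      (pieceSub 𝒯 ((convRes 𝒯 𝒯 IT).Hgr (convIdeal 𝒯 mT) (r + s - 1)) j) := fun j =>
    finite_piece_segre (HG (convRes 𝒜 𝒜 I) (convIdeal 𝒜 mR) r)
      (HG (convRes ℬ ℬ J) (convIdeal ℬ mS) s) hψ' 𝒞R 𝒞S βR hβR βS hβS hfCR hfCS
      (twH := hTowerK (k := k) (convRes 𝒯 𝒯 IT) (convIdeal 𝒯 mT) (r + s - 1))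
      ((convRes 𝒯 𝒯 IT).Hgr (convIdeal 𝒯 mT) (r + s - 1)) Θ hΘ j _
      (fun ξ => Iff.rfl)
  obtain ⟨Φ, hΦ⟩ := exists_hom_equiv 𝒯 hposT h0T mT hmT 𝓔T eT heT 𝒬
    (twH := hTowerK (k := k) (convRes 𝒯 𝒯 IT) (convIdeal 𝒯 mT) (r + s - 1))
    ((convRes 𝒯 𝒯 IT).Hgr (convIdeal 𝒯 mT) (r + s - 1)) βT hβT hfdT
  refine ⟨hfinP, Φ, ?_⟩
  intro d f hf
  obtain ⟨z, hz, hzeq⟩ := hΦ d f hf
  exact ⟨z, hz, hzeq⟩

end Groth.Agent.Lib.R2H7.SegCanMod
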