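/-
Segre products of one-dimensional standard graded Cohen–Macaulay rings over a field: if
`T = R # S` is Gorenstein and `R` is not a polynomial ring, then `S ≅ k[X]` and `R ≅ T` is
Gorenstein.  The proof is numerical: by Serre's formula `dim R_n + dim H^1(R)_n = e` is constant,
the Künneth formula gives `dim H^1(T)_n = e f - dim R_n dim S_n`, and the socle degree of the
Gorenstein ring `T` has `dim H^1(T)_a = 1`, which forces `e = 1` or `f = 1`.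
-/
import Mathlib
import Groth.Agent.Lib.R2H7SegGor
import Groth.Agent.Lib.Helper5GorRing

set_option autoImplicit false

open DirectSum
open scoped TensorProduct

noncomputable section

namespace Groth.Agent.Lib.R2H7.SegDimOne

open Groth.Agent.Lib.Helper29GrEss Groth.Agent.Lib.Helper29GrHom Groth.Agent.Lib.Helper29GrGam
  Groth.Agent.Lib.R2H7.GrBdry Groth.Agent.Lib.R2H7.GrDer Groth.Agent.Lib.R2H7.GrH
  Groth.Agent.Lib.R2H7.GrFun Groth.Agent.Lib.R2H7.GrGen Groth.Agent.Lib.R2H7.GrLen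
  Groth.Agent.Lib.R2H7.SegPres Groth.Agent.Lib.R2H7.SegTheta Groth.Agent.Lib.R2H7.SegGen
  Groth.Agent.Lib.R2H7.SegDual Groth.Agent.Lib.R2H7.SegConv Groth.Agent.Lib.R2H7.SegVan
  Groth.Agent.Lib.R2H7.SegRing Groth.Agent.Lib.R2H7.SegCM Groth.Agent.Lib.R2H7.GrMatlis
  Groth.Agent.Lib.R2H7.GrMinRes Groth.Agent.Lib.R2H7.GrVerGor Groth.Agent.Lib.R2H7.GrVerCM
  Groth.Agent.Lib.R2H7.GrGorChar Groth.Agent.Lib.R2H7.SegGor

universe u

/-! ### The additive-subgroup level -/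

section AS

variable {R : Type u} [CommRing R] {𝒜 : ℤ → AddSubgroup R} [GradedRing 𝒜]

/-- The socle degree piece of the top local cohomology of a graded Gorenstein ring is
one-dimensional. -/
theorem finrank_hcomp_of_dpack (h0 : IsField (GrLC.deg0 𝒜)) (I : GrLC.StarInjRes 𝒜 𝒜)
    (m : HomogeneousIdeal 𝒜) (i : ℕ) (a : ℤ) (η : I.H m i) (P : DPack 𝒜 (I.Hgr m i) a η) :
    Module.finrank (GrLC.deg0 𝒜) ↥(I.Hcomp m i a) = 1 := by
  let _ : Field (GrLC.deg0 𝒜) := h0.toField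
  have hmem : η ∈ I.Hcomp m i a := P.mem
  have hne : (⟨η, hmem⟩ : ↥(I.Hcomp m i a)) ≠ 0 := fun h => P.ne (congrArg Subtype.val h)
  rw [finrank_eq_one_iff_of_nonzero' _ hne]
  rintro ⟨w, hw⟩
  obtain ⟨r, hr, hrw⟩ := P.gen w hw
  exact ⟨⟨r, hr⟩, Subtype.ext hrw.symm⟩

variable [IsNoetherianRing R]

theorem finite_comp (hpos : ∀ n : ℤ, n < 0 → 𝒜 n = ⊥) (h0 : IsField (GrLC.deg0 𝒜)) (n : ℤ) :
    Module.Finite (GrLC.deg0 𝒜) ↥(GrLC.comp 𝒜 𝒜 n) := by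
  let _ : Field (GrLC.deg0 𝒜) := h0.toField
  have hart : IsArtinianRing (GrLC.deg0 𝒜) := inferInstance
  have hfinR : Module.Finite R (GrLC.GMod.of 𝒜 R 𝒜).carrier := inferInstanceAs (Module.Finite R R)
  have hfl : IsFiniteLength (GrLC.deg0 𝒜) ↥(GrLC.comp 𝒜 𝒜 n) :=
    Groth.Agent.Lib.R2H7.GrSerre.fl_comp hpos (GrLC.GMod.of 𝒜 R 𝒜) n
  have hnoeth := (isFiniteLength_iff_isNoetherian_isArtinian.mp hfl).1
  exact Module.IsNoetherian.finite _ _

theorem finrank_comp_pos (hpos : ∀ n : ℤ, n < 0 → 𝒜 n = ⊥) (h0 : IsField (GrLC.deg0 𝒜)) (n : ℤ)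
    (hn : 𝒜 n ≠ ⊥) : 0 < Module.finrank (GrLC.deg0 𝒜) ↥(GrLC.comp 𝒜 𝒜 n) := by
  let _ : Field (GrLC.deg0 𝒜) := h0.toField
  haveI := finite_comp hpos h0 n
  rw [Module.finrank_pos_iff_exists_ne_zero]
  obtain ⟨x, hx, hx0⟩ := exists_ne_of_ne_bot hn
  exact ⟨⟨x, hx⟩, fun h => hx0 (congrArg Subtype.val h)⟩

/-- For a one-dimensional Cohen–Macaulay standard graded ring over a field, the sum of the Hilbert
function and of the dimensions of the pieces of `H^1` is constant. -/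
theorem hilb_const [LocCoh.IsCohenMacaulayRing R] (hpos : ∀ n : ℤ, n < 0 → 𝒜 n = ⊥)
    (h0 : IsField (GrLC.deg0 𝒜))
    (hstd : Ideal.span (⋃ n ∈ Set.Ioi (0 : ℤ), (𝒜 n : Set R)) =
      Ideal.span ((𝒜 1 : AddSubgroup R) : Set R))
    (m : HomogeneousIdeal 𝒜) (hm : GrLC.IsStarLocal 𝒜 m)
    (hd : ringKrullDim R = ((1 : ℕ) : WithBot ℕ∞)) (I : GrLC.StarInjRes 𝒜 𝒜) :
    ∃ e : ℕ, ∀ n : ℤ, Module.finrank (GrLC.deg0 𝒜) ↥(GrLC.comp 𝒜 𝒜 n) +
      Module.finrank (GrLC.deg0 𝒜) ↥(I.Hcomp m 1 n) = e := by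
  classical
  let _ : Field (GrLC.deg0 𝒜) := h0.toField
  have hart : IsArtinianRing (GrLC.deg0 𝒜) := inferInstance
  have hfin : Module.Finite R (GrLC.GMod.of 𝒜 R 𝒜).carrier := inferInstanceAs (Module.Finite R R)
  obtain ⟨P, hP⟩ := Groth.Agent.Lib.R2H7.GrAinvLow.exists_hp_starLocal hpos hstd m hm 1 hd
    (GrLC.GMod.of 𝒜 R 𝒜)
  have hdim : Module.supportDim R (GrLC.GMod.of 𝒜 R 𝒜).carrier ≤ ((1 : ℕ) : WithBot ℕ∞) := by
    have h1 : Module.supportDim R (GrLC.GMod.of 𝒜 R 𝒜).carrier = ringKrullDim R :=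
      Module.supportDim_self_eq_ringKrullDim R
    rw [h1, hd]
  have hdeg : P.degree < ((1 : ℕ) : WithBot ℕ) :=
    Groth.Agent.Lib.R2H7.GrDim.degree_lt_of_supportDim_le hpos 1 (GrLC.GMod.of 𝒜 R 𝒜) hfin hdim P hP
  have hle : P.degree ≤ 0 := by
    rw [Nat.cast_one] at hdeg
    exact Nat.WithBot.lt_one_iff_le_zero.mp hdeg
  have hPc : ∀ t : ℚ, P.eval t = P.coeff 0 := by
    intro t
    rw [Polynomial.eq_C_of_degree_le_zero hle, Polynomial.eval_C, Polynomial.coeff_C_zero]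
  have hP' : ∃ N : ℤ, ∀ n : ℤ, N ≤ n → P.eval (n : ℚ) =
      ((Module.length (GrLC.deg0 𝒜) ↥(GrLC.comp 𝒜 𝒜 n)).toNat : ℚ) := hP
  have hH0 : Subsingleton (I.H m 0) :=
    Groth.Agent.Lib.R2H7.GrGorCan2.subsingleton_H_of_ne hpos m hm 1 hd I 0 (by omega)
  have key : ∀ n : ℤ, ((Module.finrank (GrLC.deg0 𝒜) ↥(GrLC.comp 𝒜 𝒜 n) : ℕ) : ℚ) +
      ((Module.finrank (GrLC.deg0 𝒜) ↥(I.Hcomp m 1 n) : ℕ) : ℚ) = P.coeff 0 := by
    intro n
    have hS : ((Module.length (GrLC.deg0 𝒜) ↥(GrLC.comp 𝒜 𝒜 n)).toNat : ℚ) - P.eval (n : ℚ) =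
        ∑ i ∈ Finset.range (1 + 1),
          (-1 : ℚ) ^ i * ((Module.length (GrLC.deg0 𝒜) ↥(I.Hcomp m i n)).toNat : ℚ) :=
      Groth.Agent.Lib.R2H7.GrSerreLoc.serre_formula_starLocal hpos hstd m hm 1 hd
        (GrLC.GMod.of 𝒜 R 𝒜) I P hP' n
    have e0 : ((Module.length (GrLC.deg0 𝒜) ↥(I.Hcomp m 0 n)).toNat : ℚ) = 0 := by
      haveI : Subsingleton ↥(I.Hcomp m 0 n) := ⟨fun a b => Subtype.ext (Subsingleton.elim _ _)⟩
      exact lenQ_of_subsingleton _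
    have e1 : ((Module.length (GrLC.deg0 𝒜) ↥(I.Hcomp m 1 n)).toNat : ℚ) =
        ((Module.finrank (GrLC.deg0 𝒜) ↥(I.Hcomp m 1 n) : ℕ) : ℚ) :=
      Groth.Agent.Lib.R2H7.GrPres.lenQ_eq_finrank (GrLC.deg0 𝒜) _
    have e2 : ((Module.length (GrLC.deg0 𝒜) ↥(GrLC.comp 𝒜 𝒜 n)).toNat : ℚ) =
        ((Module.finrank (GrLC.deg0 𝒜) ↥(GrLC.comp 𝒜 𝒜 n) : ℕ) : ℚ) :=
      Groth.Agent.Lib.R2H7.GrPres.lenQ_eq_finrank (GrLC.deg0 𝒜) _
    rw [Finset.sum_range_succ, Finset.sum_range_one, hPc, e0, e1, e2] at hS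
    norm_num at hS
    linarith
  refine ⟨Module.finrank (GrLC.deg0 𝒜) ↥(GrLC.comp 𝒜 𝒜 0) +
    Module.finrank (GrLC.deg0 𝒜) ↥(I.Hcomp m 1 0), fun n => ?_⟩
  have h1 := key n
  have h2 := key 0
  have h3 : ((Module.finrank (GrLC.deg0 𝒜) ↥(GrLC.comp 𝒜 𝒜 n) +
      Module.finrank (GrLC.deg0 𝒜) ↥(I.Hcomp m 1 n) : ℕ) : ℚ) =
      ((Module.finrank (GrLC.deg0 𝒜) ↥(GrLC.comp 𝒜 𝒜 0) +
        Module.finrank (GrLC.deg0 𝒜) ↥(I.Hcomp m 1 0) : ℕ) : ℚ) := by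
    push_cast
    linarith
  exact_mod_cast h3

end AS

/-! ### Standard graded algebras with Hilbert function one -/

section poly

variable {k : Type u} [Field k] {S : Type u} [CommRing S] [Algebra k S]
  (ℬ : ℤ → Submodule k S) [GradedAlgebra ℬ]

/-- A standard graded algebra over a field all of whose pieces in non-negative degrees are
one-dimensional is a polynomial ring in one variable of degree one. -/
theorem exists_gen_of_hilbert_one (hpos : ∀ n : ℤ, n < 0 → ℬ n = ⊥)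
    (h0 : ℬ 0 = Submodule.span k {(1 : S)})
    (hstd : Ideal.span (⋃ n ∈ Set.Ioi (0 : ℤ), (ℬ n : Set S)) =
      Ideal.span ((ℬ 1 : Submodule k S) : Set S))
    (h1 : ∀ n : ℤ, 0 ≤ n → Module.finrank k ↥(ℬ n) = 1) :
    ∃ x : S, (∀ m : ℕ, x ^ m ∈ ℬ (m : ℤ)) ∧
      (∀ (n : ℤ) (b : S), b ∈ ℬ n → ∃ c : k, b = c • x ^ n.toNat) ∧
      Function.Bijective (Polynomial.aeval (R := k) x) := by
  classical
  obtain ⟨v, hv0, hv⟩ := finrank_eq_one_iff'.mp (h1 1 (by norm_num))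
  have hx1 : (v : S) ∈ ℬ 1 := v.2
  have hlin : ∀ y ∈ ℬ 1, ∃ c : k, y = c • (v : S) := by
    intro y hy
    obtain ⟨c, hc⟩ := hv ⟨y, hy⟩
    exact ⟨c, (congrArg Subtype.val hc).symm⟩
  have hxm : ∀ m : ℕ, (v : S) ^ m ∈ ℬ (m : ℤ) := by
    intro m
    have := SetLike.pow_mem_graded m hx1
    rwa [nsmul_eq_mul, mul_one] at this
  have hgen : ∀ m : ℕ, ∀ b ∈ ℬ (m : ℤ), b ∈ Submodule.span k {(v : S) ^ m} := by
    intro m
    induction m with
    | zero =>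
      intro b hb
      rw [pow_zero]
      have hb' : b ∈ ℬ 0 := by simpa using hb
      rwa [h0] at hb'
    | succ m ih =>
      intro b hb
      have hb' : b ∈ toAS ℬ ((m : ℤ) + 1) := by
        have e : ((m + 1 : ℕ) : ℤ) = (m : ℤ) + 1 := by push_cast; ring
        rw [← e]
        exact hb
      obtain ⟨t, a, ht, ha, hsum⟩ := Groth.Agent.Lib.R2H7.GrPres.exists_sum_mul
        (Groth.Agent.Lib.R2H7.SegStd.hstd_toAS ℬ hstd) (m : ℤ) (by omega) b hb'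
      rw [hsum]
      refine Submodule.sum_mem _ (fun y hy => ?_)
      obtain ⟨c, hc⟩ := hlin y (ht y hy)
      obtain ⟨d, hd⟩ := Submodule.mem_span_singleton.mp (ih (a y) (ha y))
      have e3 : a y * y = (d * c) • (v : S) ^ (m + 1) := by
        rw [pow_succ, ← smul_mul_smul_comm, hd, ← hc]
      rw [e3]
      exact Submodule.smul_mem _ _ (Submodule.mem_span_singleton_self _)
  have hne : ∀ m : ℕ, (v : S) ^ m ≠ 0 := by
    intro m h
    obtain ⟨w, hw0, -⟩ := finrank_eq_one_iff'.mp (h1 (m : ℤ) (by omega))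
    apply hw0
    obtain ⟨c, hc⟩ := Submodule.mem_span_singleton.mp (hgen m w.1 w.2)
    apply Subtype.ext
    rw [← hc, h, smul_zero]
    rfl
  have hB : ∀ (n : ℤ) (b : S), b ∈ ℬ n → ∃ c : k, b = c • (v : S) ^ n.toNat := by
    intro n b hb
    rcases lt_or_ge n 0 with hn | hn
    · rw [hpos n hn] at hb
      exact ⟨0, by rw [(Submodule.mem_bot k).mp hb, zero_smul]⟩
    · have e : ((n.toNat : ℕ) : ℤ) = n := Int.toNat_of_nonneg hn
      have hb' : b ∈ ℬ ((n.toNat : ℕ) : ℤ) := by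
        rw [e]
        exact hb
      obtain ⟨c, hc⟩ := Submodule.mem_span_singleton.mp (hgen n.toNat b hb')
      exact ⟨c, hc.symm⟩
  refine ⟨(v : S), hxm, hB, ?_, ?_⟩
  · have hcoef : ∀ (p : Polynomial k) (i : ℕ),
        ((decompose ℬ (Polynomial.aeval (v : S) p)) (i : ℤ) : S) = p.coeff i • (v : S) ^ i := by
      intro p i
      induction p using Polynomial.induction_on' with
      | add p q hp hq =>
        rw [map_add, decompose_add, DirectSum.add_apply, Submodule.coe_add, hp, hq,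
          Polynomial.coeff_add, add_smul]
      | monomial n a =>
        have hmem : Polynomial.aeval (v : S) (Polynomial.monomial n a) ∈ ℬ (n : ℤ) := by
          rw [Polynomial.aeval_monomial, ← Algebra.smul_def]
          exact Submodule.smul_mem _ _ (hxm n)
        by_cases h : n = i
        · subst h
          rw [DirectSum.decompose_of_mem_same ℬ hmem, Polynomial.coeff_monomial, if_pos rfl,
            Polynomial.aeval_monomial, ← Algebra.smul_def]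
        · have h' : (n : ℤ) ≠ (i : ℤ) := by exact_mod_cast h
          rw [DirectSum.decompose_of_mem_ne ℬ hmem h', Polynomial.coeff_monomial, if_neg h,
            zero_smul]
    rw [injective_iff_map_eq_zero]
    intro p hp
    ext i
    rw [Polynomial.coeff_zero]
    have h2 := hcoef p i
    rw [hp, decompose_zero] at h2
    have h3 : p.coeff i • (v : S) ^ i = 0 := h2.symm
    rcases smul_eq_zero.mp h3 with h | h
    · exact h
    · exact absurd h (hne i)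
  · intro s
    have hs : s ∈ (Polynomial.aeval (R := k) (v : S)).range := by
      rw [← DirectSum.sum_support_decompose ℬ s]
      refine Subalgebra.sum_mem _ (fun i _ => ?_)
      obtain ⟨c, hc⟩ := hB i _ (SetLike.coe_mem ((decompose ℬ s) i))
      rw [hc]
      refine ⟨Polynomial.C c * Polynomial.X ^ i.toNat, ?_⟩
      rw [map_mul, map_pow]
      show Polynomial.aeval (v : S) (Polynomial.C c) * Polynomial.aeval (v : S) Polynomial.X ^ i.toNat = _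
      rw [Polynomial.aeval_C, Polynomial.aeval_X, Algebra.smul_def]
    exact hs

end poly

/-! ### The Segre product with a polynomial ring in one variable -/

section iso

variable {k : Type u} [Field k] {R S T : Type u} [CommRing R] [CommRing S] [CommRing T]
  [Algebra k R] [Algebra k S] [Algebra k T]
  (𝒜 : ℤ → Submodule k R) [GradedAlgebra 𝒜] (ℬ : ℤ → Submodule k S) [GradedAlgebra ℬ]
  (𝒯 : ℤ → Submodule k T) [GradedAlgebra 𝒯] (ψ : T →ₐ[k] R ⊗[k] S)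

/-- The projection of the Segre product to the first factor induced by an augmentation of the
second factor. -/
def segPhi (ev : S →ₐ[k] k) : T →ₐ[k] R :=
  (Algebra.TensorProduct.rid k k R).toAlgHom.comp
    ((Algebra.TensorProduct.map (AlgHom.id k R) ev).comp ψ)

theorem segPhi_of_eq (ev : S →ₐ[k] k) {x : S} (hev : ev x = 1) {t : T} {a : R} {m : ℕ}
    (h : ψ t = a ⊗ₜ[k] (x ^ m)) : segPhi ψ ev t = a := by
  unfold segPhi
  rw [AlgHom.comp_apply, AlgHom.comp_apply, h, Algebra.TensorProduct.map_tmul, map_pow, hev,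
    one_pow]
  show (Algebra.TensorProduct.rid k k R) (a ⊗ₜ[k] (1 : k)) = a
  rw [Algebra.TensorProduct.rid_tmul, one_smul]

variable (hψ : Function.Injective ψ)
  (hdegT : ∀ n : ℤ, (𝒯 n).map ψ.toLinearMap =
    Submodule.span k {z : R ⊗[k] S | ∃ a ∈ 𝒜 n, ∃ b ∈ ℬ n, z = a ⊗ₜ[k] b})
  (hposR : ∀ n : ℤ, n < 0 → 𝒜 n = ⊥)
  (x : S) (hxm : ∀ m : ℕ, x ^ m ∈ ℬ (m : ℤ))
  (hB : ∀ (n : ℤ) (b : S), b ∈ ℬ n → ∃ c : k, b = c • x ^ n.toNat)
  (ev : S →ₐ[k] k) (hev : ev x = 1)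

include hdegT hB in
theorem exists_tmul_pow (n : ℤ) (t : T) (ht : t ∈ 𝒯 n) :
    ∃ a ∈ 𝒜 n, ψ t = a ⊗ₜ[k] (x ^ n.toNat) := by
  have h1 : ψ t ∈ (𝒯 n).map ψ.toLinearMap := Submodule.mem_map_of_mem ht
  rw [hdegT n] at h1
  refine Submodule.span_induction (p := fun z _ => ∃ a ∈ 𝒜 n, z = a ⊗ₜ[k] (x ^ n.toNat))
    ?_ ?_ ?_ ?_ h1
  · rintro z ⟨a, ha, b, hb, rfl⟩
    obtain ⟨c, hc⟩ := hB n b hb
    exact ⟨c • a, Submodule.smul_mem _ c ha, by
      rw [hc, TensorProduct.tmul_smul, TensorProduct.smul_tmul']⟩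
  · exact ⟨0, zero_mem _, (TensorProduct.zero_tmul _ _).symm⟩
  · rintro z w _ _ ⟨a, ha, rfl⟩ ⟨a', ha', rfl⟩
    exact ⟨a + a', add_mem ha ha', (TensorProduct.add_tmul _ _ _).symm⟩
  · rintro c z _ ⟨a, ha, rfl⟩
    exact ⟨c • a, Submodule.smul_mem _ c ha, TensorProduct.smul_tmul' _ _ _⟩

include hdegT hB hev in
theorem segPhi_mem (n : ℤ) (t : T) (ht : t ∈ 𝒯 n) : segPhi ψ ev t ∈ 𝒜 n := by
  obtain ⟨a, ha, h⟩ := exists_tmul_pow 𝒜 ℬ 𝒯 ψ hdegT x hB n t ht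
  rw [segPhi_of_eq ψ ev hev h]
  exact ha

include hdegT hB hev in
theorem coe_decompose_segPhi (t : T) (j : ℤ) :
    ((decompose 𝒜 (segPhi ψ ev t)) j : R) = segPhi ψ ev ((decompose 𝒯 t) j : T) := by
  have hΦ := segPhi_mem 𝒜 ℬ 𝒯 ψ hdegT x hB ev hev
  refine DirectSum.Decomposition.inductionOn 𝒯
    (motive := fun t => ((decompose 𝒜 (segPhi ψ ev t)) j : R) =
      segPhi ψ ev ((decompose 𝒯 t) j : T)) ?_ ?_ ?_ t
  · simp
  · intro i m
    by_cases h : i = j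
    · subst h
      rw [decompose_of_mem_same 𝒜 (hΦ i m m.2), decompose_of_mem_same 𝒯 m.2]
    · rw [decompose_of_mem_ne 𝒜 (hΦ i m m.2) h, decompose_of_mem_ne 𝒯 m.2 h, map_zero]
  · intro a b ha hb
    rw [map_add, decompose_add, decompose_add, DirectSum.add_apply, DirectSum.add_apply,
      Submodule.coe_add, Submodule.coe_add, map_add, ha, hb]

include hψ hdegT hposR hxm hB hev in
/-- The Segre product of `R` with a polynomial ring in one variable of degree one is `R`. -/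
theorem segPhi_bijective : Function.Bijective (segPhi ψ ev) := by
  classical
  constructor
  · rw [injective_iff_map_eq_zero]
    intro t ht
    rw [← DirectSum.sum_support_decompose 𝒯 t]
    refine Finset.sum_eq_zero (fun j _ => ?_)
    have h1 := coe_decompose_segPhi 𝒜 ℬ 𝒯 ψ hdegT x hB ev hev t j
    rw [ht, decompose_zero] at h1
    have h2 : segPhi ψ ev ((decompose 𝒯 t) j : T) = 0 := h1.symm
    obtain ⟨a, -, h⟩ := exists_tmul_pow 𝒜 ℬ 𝒯 ψ hdegT x hB j _ (SetLike.coe_mem ((decompose 𝒯 t) j))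
    rw [segPhi_of_eq ψ ev hev h] at h2
    rw [h2, TensorProduct.zero_tmul] at h
    exact (injective_iff_map_eq_zero ψ).mp hψ _ h
  · intro r
    have hr : r ∈ (segPhi ψ ev).range := by
      rw [← DirectSum.sum_support_decompose 𝒜 r]
      refine Subalgebra.sum_mem _ (fun j _ => ?_)
      rcases lt_or_ge j 0 with hj | hj
      · have h2 : ∀ z ∈ 𝒜 j, z = 0 := fun z hz => by
          rw [hposR j hj] at hz
          exact (Submodule.mem_bot k).mp hz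
        rw [h2 _ (SetLike.coe_mem ((decompose 𝒜 r) j))]
        exact zero_mem _
      · have e : ((j.toNat : ℕ) : ℤ) = j := Int.toNat_of_nonneg hj
        have hx : x ^ j.toNat ∈ ℬ j := by
          have := hxm j.toNat
          rwa [e] at this
        have h1 : ((decompose 𝒜 r) j : R) ⊗ₜ[k] (x ^ j.toNat) ∈ (𝒯 j).map ψ.toLinearMap := by
          rw [hdegT j]
          exact Submodule.subset_span ⟨_, SetLike.coe_mem _, _, hx, rfl⟩
        obtain ⟨t, -, ht⟩ := h1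
        exact ⟨t, segPhi_of_eq ψ ev hev ht⟩
    exact hr

end iso

/-! ### The `k`-subspace level -/

section sub

variable (k : Type u) [Field k] (R : Type u) [CommRing R] [Nontrivial R] [Algebra k R]
  (𝒜 : ℤ → Submodule k R) [GradedAlgebra 𝒜]

theorem hilb_const_sub (hposR : ∀ n : ℤ, n < 0 → 𝒜 n = ⊥)
    (h0R : 𝒜 0 = Submodule.span k {(1 : R)}) [Algebra.FiniteType k R]
    [LocCoh.IsCohenMacaulayRing R]
    (hstdR : Ideal.span (⋃ n ∈ Set.Ioi (0 : ℤ), (𝒜 n : Set R)) =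
      Ideal.span ((𝒜 1 : Submodule k R) : Set R))
    (hr : ringKrullDim R = ((1 : ℕ) : WithBot ℕ∞)) (I : GrLC.StarInjRes 𝒜 𝒜) :
    ∃ e : ℕ, ∀ n : ℤ, Module.finrank k ↥(𝒜 n) +
      Module.finrank (GrLC.deg0 𝒜) ↥(I.Hcomp (irrIdeal 𝒜) 1 n) = e := by
  haveI : IsNoetherianRing R := Algebra.FiniteType.isNoetherianRing k R
  have hfR := isField_deg0 𝒜 (zero_toAS 𝒜 h0R) (algebraMap k R).injective
  have hpR := pos_toAS 𝒜 hposR
  have hslR := isStarLocal_of_irrelevant 𝒜 hpR hfR (irrIdeal 𝒜) (irrIdeal_toIdeal 𝒜)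
  obtain ⟨e, he⟩ := hilb_const hpR hfR (Groth.Agent.Lib.R2H7.SegStd.hstd_toAS 𝒜 hstdR)
    (convIdeal 𝒜 (irrIdeal 𝒜)) hslR hr (convRes 𝒜 𝒜 I)
  refine ⟨e, fun n => ?_⟩
  have e1 : Module.finrank k ↥(𝒜 n) =
      Module.finrank (GrLC.deg0 (toAS 𝒜)) ↥(GrLC.comp (toAS 𝒜) (toAS 𝒜) n) :=
    (finrank_comp_self 𝒜 h0R n).symm.trans (finrank_comp_conv 𝒜 𝒜 n)
  have e2 : Module.finrank (GrLC.deg0 𝒜) ↥(I.Hcomp (irrIdeal 𝒜) 1 n) =
      Module.finrank (GrLC.deg0 (toAS 𝒜))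
        ↥((convRes 𝒜 𝒜 I).Hcomp (convIdeal 𝒜 (irrIdeal 𝒜)) 1 n) :=
    (finrank_hcomp_conv 𝒜 𝒜 I (irrIdeal 𝒜) 1 n).trans
      (hgEquiv (convIdeal 𝒜 (irrIdeal 𝒜)) (convRes 𝒜 𝒜 I) 1 n).finrank_eq
  rw [e1, e2]
  exact he n

theorem finrank_piece_pos (hposR : ∀ n : ℤ, n < 0 → 𝒜 n = ⊥)
    (h0R : 𝒜 0 = Submodule.span k {(1 : R)}) [Algebra.FiniteType k R] (n : ℤ)
    (hn : 𝒜 n ≠ ⊥) : 0 < Module.finrank k ↥(𝒜 n) := by
  haveI : IsNoetherianRing R := Algebra.FiniteType.isNoetherianRing k R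
  have hfR := isField_deg0 𝒜 (zero_toAS 𝒜 h0R) (algebraMap k R).injective
  have hpR := pos_toAS 𝒜 hposR
  have hn' : toAS 𝒜 n ≠ ⊥ := by
    intro h
    apply hn
    rw [Submodule.eq_bot_iff]
    intro x hx
    have hx' : x ∈ toAS 𝒜 n := hx
    rw [h] at hx'
    exact AddSubgroup.mem_bot.mp hx'
  have e1 : Module.finrank k ↥(𝒜 n) =
      Module.finrank (GrLC.deg0 (toAS 𝒜)) ↥(GrLC.comp (toAS 𝒜) (toAS 𝒜) n) :=
    (finrank_comp_self 𝒜 h0R n).symm.trans (finrank_comp_conv 𝒜 𝒜 n)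
  rw [e1]
  exact finrank_comp_pos hpR hfR n hn'

end sub

set_option maxHeartbeats 4000000 in
/-- Let `R` and `S` be standard graded Cohen–Macaulay rings of dimension one over a field `k`,
`R` not a polynomial ring.  If the Segre product `T = R # S` is Gorenstein, then `S` is a
polynomial ring and `R` is Gorenstein. -/
theorem segre_dim_one (k : Type u) [Field k] (R : Type u) [CommRing R] [Algebra k R]
    (𝒜 : ℤ → Submodule k R) [GradedAlgebra 𝒜]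
    (hposR : ∀ n : ℤ, n < 0 → 𝒜 n = ⊥) (h0R : 𝒜 0 = Submodule.span k {(1 : R)})
    [Algebra.FiniteType k R] (S : Type u) [CommRing S] [Algebra k S]
    (ℬ : ℤ → Submodule k S) [GradedAlgebra ℬ] (hposS : ∀ n : ℤ, n < 0 → ℬ n = ⊥)
    (h0S : ℬ 0 = Submodule.span k {(1 : S)}) [Algebra.FiniteType k S] (T : Type u) [CommRing T]
    [Algebra k T] (𝒯 : ℤ → Submodule k T) [GradedAlgebra 𝒯] (ψ : T →ₐ[k] TensorProduct k R S)
    (hψ : Function.Injective ψ)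
    (hdegT : ∀ n : ℤ, (𝒯 n).map ψ.toLinearMap =
      Submodule.span k {x : TensorProduct k R S | ∃ a ∈ 𝒜 n, ∃ b ∈ ℬ n, x = a ⊗ₜ[k] b})
    [LocCoh.IsCohenMacaulayRing R] [LocCoh.IsCohenMacaulayRing S]
    (hstdR : Ideal.span (⋃ n ∈ Set.Ioi (0 : ℤ), (𝒜 n : Set R)) =
      Ideal.span ((𝒜 1 : Submodule k R) : Set R))
    (hstdS : Ideal.span (⋃ n ∈ Set.Ioi (0 : ℤ), (ℬ n : Set S)) =
      Ideal.span ((ℬ 1 : Submodule k S) : Set S))
    (hr : ringKrullDim R = 1) (hs : ringKrullDim S = 1)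
    (hR : IsEmpty (R ≃ₐ[k] Polynomial k)) [LocCoh.IsGorensteinRing T] :
    Nonempty (S ≃ₐ[k] Polynomial k) ∧ LocCoh.IsGorensteinRing R := by
  classical
  have hr' : ringKrullDim R = ((1 : ℕ) : WithBot ℕ∞) := by rw [hr, Nat.cast_one]
  have hs' : ringKrullDim S = ((1 : ℕ) : WithBot ℕ∞) := by rw [hs, Nat.cast_one]
  haveI : Nontrivial R := nontrivial_of_ringKrullDim_eq 1 hr'
  haveI : Nontrivial S := nontrivial_of_ringKrullDim_eq 1 hs'
  have hT : GrSeg.IsSegreRing 𝒜 ℬ 𝒯 ψ := ⟨hψ, hdegT⟩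
  haveI : IsNoetherianRing R := Algebra.FiniteType.isNoetherianRing k R
  haveI : IsNoetherianRing S := Algebra.FiniteType.isNoetherianRing k S
  haveI : IsNoetherianRing T :=
    Groth.Agent.S18646.result k R 𝒜 hposR h0R S ℬ hposS h0S T 𝒯 ψ hψ hdegT
  haveI : LocCoh.IsCohenMacaulayRing T :=
    Groth.Agent.Lib.Helper5.GorUnmixed.isCohenMacaulayRing_of_isGorensteinRing T
  have hfR := isField_deg0 𝒜 (zero_toAS 𝒜 h0R) (algebraMap k R).injective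
  have hfS := isField_deg0 ℬ (zero_toAS ℬ h0S) (algebraMap k S).injective
  have hfT := isField_deg0 𝒯 (zero_toAS_T 𝒜 ℬ 𝒯 ψ h0R h0S hT)
    (algebraMap_T_injective (R := R) (S := S) ψ)
  have hpR := pos_toAS 𝒜 hposR
  have hpS := pos_toAS ℬ hposS
  have hpT := pos_toAS_T 𝒜 ℬ 𝒯 ψ hposR hT
  have hslT := isStarLocal_of_irrelevant 𝒯 hpT hfT (irrIdeal 𝒯) (irrIdeal_toIdeal 𝒯)
  have hmT' : (convIdeal 𝒯 (irrIdeal 𝒯)).toIdeal =
      Ideal.span (⋃ n ∈ Set.Ioi (0 : ℤ), (toAS 𝒯 n : Set T)) := irrIdeal_toIdeal 𝒯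
  obtain ⟨I⟩ := exists_res_conv 𝒜 𝒜
  obtain ⟨J⟩ := exists_res_conv ℬ ℬ
  obtain ⟨IT⟩ := exists_res_conv 𝒯 𝒯
  have hdimT : ringKrullDim T = ((1 : ℕ) : WithBot ℕ∞) :=
    ringKrullDim_segre k R 𝒜 hposR h0R S ℬ hposS h0S T 𝒯 ψ hψ hdegT 1 1 hr' hs' le_rfl le_rfl
  obtain ⟨e, he⟩ := hilb_const_sub k R 𝒜 hposR h0R hstdR hr' I
  obtain ⟨f, hf⟩ := hilb_const_sub k S ℬ hposS h0S hstdS hs' J
  obtain ⟨a, η, -, DT⟩ := exists_dpack_gor hpT hfT (convIdeal 𝒯 (irrIdeal 𝒯)) hslT hmT' 1 hdimT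
    (convRes 𝒯 𝒯 IT)
  have hτ : Module.finrank (GrLC.deg0 𝒯) ↥(IT.Hcomp (irrIdeal 𝒯) 1 a) = 1 :=
    ((finrank_hcomp_conv 𝒯 𝒯 IT (irrIdeal 𝒯) 1 a).trans
      (hgEquiv (convIdeal 𝒯 (irrIdeal 𝒯)) (convRes 𝒯 𝒯 IT) 1 a).finrank_eq).trans
      (finrank_hcomp_of_dpack hfT (convRes 𝒯 𝒯 IT) (convIdeal 𝒯 (irrIdeal 𝒯)) 1 a η DT)
  have hM : ∀ d : ℤ, I.Hcomp (irrIdeal 𝒜) 0 d = ⊥ := fun d =>
    hcomp_eq_bot_of_ne 𝒜 hpR hfR (irrIdeal 𝒜) (irrIdeal_toIdeal 𝒜) I 1 hr' 0 (by omega) d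
  have hN : ∀ d : ℤ, J.Hcomp (irrIdeal ℬ) 0 d = ⊥ := fun d =>
    hcomp_eq_bot_of_ne ℬ hpS hfS (irrIdeal ℬ) (irrIdeal_toIdeal ℬ) J 1 hs' 0 (by omega) d
  have hP := ringSegreMod 𝒜 ℬ 𝒯 ψ hψ hdegT
  have hK := segre_kunneth k R 𝒜 hposR h0R S ℬ hposS h0S T 𝒯 ψ hT (irrIdeal 𝒜)
    (irrIdeal_toIdeal 𝒜) (irrIdeal ℬ) (irrIdeal_toIdeal ℬ) (irrIdeal 𝒯) (irrIdeal_toIdeal 𝒯)
    𝒜 I ℬ J 𝒯 ψ.toLinearMap hP IT hM hN 1 a
  have z1 : Module.finrank (GrLC.deg0 𝒜) ↥(I.Hcomp (irrIdeal 𝒜) 0 a) = 0 := by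
    rw [hM a]
    exact finrank_bot _ _
  have z2 : Module.finrank (GrLC.deg0 ℬ) ↥(J.Hcomp (irrIdeal ℬ) 0 a) = 0 := by
    rw [hN a]
    exact finrank_bot _ _
  have hK2 : Module.finrank (GrLC.deg0 𝒯) ↥(IT.Hcomp (irrIdeal 𝒯) 1 a) = Module.finrank k ↥(𝒜 a) *
        Module.finrank (GrLC.deg0 ℬ) ↥(J.Hcomp (irrIdeal ℬ) 1 a) +
      Module.finrank (GrLC.deg0 𝒜) ↥(I.Hcomp (irrIdeal 𝒜) 1 a) * Module.finrank k ↥(ℬ a) +
      (Module.finrank (GrLC.deg0 𝒜) ↥(I.Hcomp (irrIdeal 𝒜) 0 a) *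
          Module.finrank (GrLC.deg0 ℬ) ↥(J.Hcomp (irrIdeal ℬ) 2 a) +
        Module.finrank (GrLC.deg0 𝒜) ↥(I.Hcomp (irrIdeal 𝒜) 1 a) *
          Module.finrank (GrLC.deg0 ℬ) ↥(J.Hcomp (irrIdeal ℬ) 1 a) +
        Module.finrank (GrLC.deg0 𝒜) ↥(I.Hcomp (irrIdeal 𝒜) 2 a) *
          Module.finrank (GrLC.deg0 ℬ) ↥(J.Hcomp (irrIdeal ℬ) 0 a)) := by
    rw [hK, Finset.sum_range_succ, Finset.sum_range_succ, Finset.sum_range_one,
      finrank_comp_self 𝒜 h0R a, finrank_comp_self ℬ h0S a]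
  rw [hτ, z1, z2, zero_mul, mul_zero, zero_add, add_zero] at hK2
  have hea := he a
  have hfa := hf a
  have hdR : ¬ ringKrullDim R ≤ 0 := by
    rw [hr']
    intro h
    have h1 : (1 : ℕ) ≤ 0 := by exact_mod_cast h
    omega
  have hdS : ¬ ringKrullDim S ≤ 0 := by
    rw [hs']
    intro h
    have h1 : (1 : ℕ) ≤ 0 := by exact_mod_cast h
    omega
  have hef : e = 1 ∨ f = 1 := by
    generalize Module.finrank k ↥(𝒜 a) = r at hK2 hea
    generalize Module.finrank k ↥(ℬ a) = s at hK2 hfa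
    generalize Module.finrank (GrLC.deg0 𝒜) ↥(I.Hcomp (irrIdeal 𝒜) 1 a) = ρ at hK2 hea
    generalize Module.finrank (GrLC.deg0 ℬ) ↥(J.Hcomp (irrIdeal ℬ) 1 a) = σ at hK2 hfa
    rcases Nat.eq_zero_or_pos ρ with h | h
    · left
      rw [h, zero_mul, zero_mul, add_zero, add_zero] at hK2
      have h2 : r = 1 := Nat.dvd_one.mp (Dvd.intro σ hK2.symm)
      omega
    · right
      have h3 : s ≤ ρ * s := Nat.le_mul_of_pos_left s h
      have h4 : σ ≤ ρ * σ := Nat.le_mul_of_pos_left σ h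
      have h5 : f ≠ 0 := by
        intro h0
        have hs0 : s = 0 := by omega
        have hσ0 : σ = 0 := by omega
        rw [hs0, hσ0] at hK2
        simp at hK2
      obtain ⟨A, hA⟩ : ∃ A, A = r * σ := ⟨_, rfl⟩
      obtain ⟨B, hB⟩ : ∃ B, B = ρ * s := ⟨_, rfl⟩
      obtain ⟨C, hC⟩ : ∃ C, C = ρ * σ := ⟨_, rfl⟩
      rw [← hA, ← hB, ← hC] at hK2
      rw [← hB] at h3
      rw [← hC] at h4
      omega
  rcases hef with he1 | hf1
  · exfalso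
    have hR1 : ∀ n : ℤ, 0 ≤ n → Module.finrank k ↥(𝒜 n) = 1 := by
      intro n hn
      have h1 := he n
      rw [he1] at h1
      have h2 := finrank_piece_pos k R 𝒜 hposR h0R n
        (Groth.Agent.Lib.R2H7.SegStd.piece_ne_bot_sub k R 𝒜 hposR h0R hstdR hdR n hn)
      omega
    obtain ⟨x, -, -, hbij⟩ := exists_gen_of_hilbert_one 𝒜 hposR h0R hstdR hR1
    exact hR.false (AlgEquiv.ofBijective (Polynomial.aeval x) hbij).symm
  · have hS1 : ∀ n : ℤ, 0 ≤ n → Module.finrank k ↥(ℬ n) = 1 := by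
      intro n hn
      have h1 := hf n
      rw [hf1] at h1
      have h2 := finrank_piece_pos k S ℬ hposS h0S n
        (Groth.Agent.Lib.R2H7.SegStd.piece_ne_bot_sub k S ℬ hposS h0S hstdS hdS n hn)
      omega
    obtain ⟨x, hxm, hB, hbij⟩ := exists_gen_of_hilbert_one ℬ hposS h0S hstdS hS1
    have hX : (AlgEquiv.ofBijective (Polynomial.aeval x) hbij).symm x = Polynomial.X := by
      rw [AlgEquiv.symm_apply_eq]
      exact (Polynomial.aeval_X x).symm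
    have hev : ((Polynomial.aeval (1 : k)).comp
        (AlgEquiv.ofBijective (Polynomial.aeval x) hbij).symm.toAlgHom) x = 1 := by
      show Polynomial.aeval (1 : k) ((AlgEquiv.ofBijective (Polynomial.aeval x) hbij).symm x) = 1
      rw [hX, Polynomial.aeval_X]
    have hbijΦ := segPhi_bijective 𝒜 ℬ 𝒯 ψ hψ hdegT hposR x hxm hB _ hev
    exact ⟨⟨(AlgEquiv.ofBijective (Polynomial.aeval x) hbij).symm⟩,
      Groth.Agent.Lib.Helper5.GorRing.gorRing_of_ringEquiv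
        (AlgEquiv.ofBijective _ hbijΦ).toRingEquiv⟩

end Groth.Agent.Lib.R2H7.SegDimOne
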