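/-
One-sided special structures: the Segre product `X # W` of a special graded `R`-module `X` with a
graded `S`-module `W` on which a homogeneous element of the degree of the parameters acts
invertibly.  The `T_+`-torsion of `X # W`, its acyclicity for the torsion functor, and the
resolution `E^• # W` of `M # W` obtained from a *injective resolution `E^•` of `M`.
-/
import Mathlib
import Groth.Agent.Lib.R2H7SegAcyc
import Groth.Agent.Lib.R2H7GrAcycW

set_option autoImplicit false
open DirectSum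
open scoped TensorProduct

noncomputable section

namespace Groth.Agent.Lib.R2H7.SegOne

open Groth.Agent.Lib.Helper29GrEss Groth.Agent.Lib.Helper29GrHom Groth.Agent.Lib.R2H7.GrBdry
  Groth.Agent.Lib.R2H7.GrDer Groth.Agent.Lib.R2H7.GrAcyc
  Groth.Agent.Lib.R2H7.SegPres Groth.Agent.Lib.R2H7.SegSpecial Groth.Agent.Lib.R2H7.SegIdem
  Groth.Agent.Lib.R2H7.SegTors Groth.Agent.Lib.R2H7.SegSum Groth.Agent.Lib.R2H7.SegAcyc

universe u

variable {k : Type u} [Field k] {R S T : Type u} [CommRing R] [CommRing S] [CommRing T]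
  [Algebra k R] [Algebra k S] [Algebra k T]
variable {𝒜 : ℤ → AddSubgroup R} [GradedRing 𝒜] {ℬ : ℤ → AddSubgroup S} [GradedRing ℬ]
  {𝒯 : ℤ → AddSubgroup T} [GradedRing 𝒯] {ψ : T →ₐ[k] R ⊗[k] S}

theorem id_grHom {A : Type u} [CommRing A] {Z : Type u} [AddCommGroup Z] [Module A Z]
    (𝒵 : ℤ → AddSubgroup Z) : GrLC.IsGrHom 𝒵 𝒵 (LinearMap.id : Z →ₗ[A] Z) :=
  fun _ _ hm => hm

/-! ### Inverting a homogeneous element -/

section inv

theorem bijective_pow_smul {W : Type u} [AddCommGroup W] [Module S W] (g : S)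
    (hg : Function.Bijective (fun w : W => g • w)) :
    ∀ n : ℕ, Function.Bijective (fun w : W => g ^ n • w)
  | 0 => by
    have h : (fun w : W => g ^ 0 • w) = id := funext fun w => by rw [pow_zero, one_smul]; rfl
    rw [h]
    exact Function.bijective_id
  | n + 1 => by
    have h : (fun w : W => g ^ (n + 1) • w) = (fun w : W => g ^ n • w) ∘ (fun w : W => g • w) :=
      funext fun w => by rw [pow_succ, mul_smul]; rfl
    rw [h]
    exact (bijective_pow_smul g hg n).comp hg

/-- The inverse of the multiplication by a homogeneous element acting bijectively. -/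
theorem exists_inv_grHomDeg (W : GrLC.GMod.{u} ℬ) {d : ℤ} {y : S} (hy : y ∈ ℬ d)
    (hbij : Function.Bijective (fun w : W.carrier => y • w)) :
    ∃ θ : W.carrier →ₗ[S] W.carrier, GrLC.IsGrHomDeg W.gr W.gr θ (-d) ∧
      ∀ w, θ (y • w) = w := by
  classical
  let e : W.carrier ≃ₗ[S] W.carrier :=
    LinearEquiv.ofBijective (LinearMap.lsmul S W.carrier y) hbij
  have he : ∀ w, e w = y • w := fun w => rfl
  refine ⟨e.symm.toLinearMap, ?_, fun w => ?_⟩
  · intro n w hw
    show e.symm w ∈ W.gr (n + -d)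
    have hyv : y • e.symm w = w := by rw [← he]; exact e.apply_symm_apply w
    have hcomp : ∀ j, j ≠ n + -d → ((decompose W.gr (e.symm w)) j : W.carrier) = 0 := by
      intro j hj
      apply hbij.1
      show y • ((decompose W.gr (e.symm w)) j : W.carrier) = y • (0 : W.carrier)
      rw [smul_zero]
      have h1 := decompose_smul_of_mem ℬ W.gr hy (e.symm w) (j + d)
      rw [add_sub_cancel_right, hyv] at h1
      rw [← h1]
      exact DirectSum.decompose_of_mem_ne W.gr hw (fun h => hj (by rw [h]; ring))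
    rw [← DirectSum.sum_support_decompose W.gr (e.symm w)]
    refine sum_mem fun j _ => ?_
    by_cases h : j = n + -d
    · rw [h]
      exact SetLike.coe_mem _
    · rw [hcomp j h]
      exact zero_mem _
  · show e.symm (y • w) = w
    rw [← he]
    exact e.symm_apply_apply w

end inv

/-! ### Linear algebra over the base field -/

section LA

variable {A B C : Type u} [AddCommGroup A] [Module R A] [Module k A] [IsScalarTower k R A]
  [AddCommGroup B] [Module R B] [Module k B] [IsScalarTower k R B]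
  [AddCommGroup C] [Module R C] [Module k C] [IsScalarTower k R C]
  (W : Type u) [AddCommGroup W] [Module S W] [Module k W] [IsScalarTower k S W]

theorem kmap_comp_id (f : A →ₗ[R] B) (g : B →ₗ[R] C) (z : A ⊗[k] W) :
    kmap (g ∘ₗ f) (LinearMap.id : W →ₗ[S] W) z =
      kmap g (LinearMap.id : W →ₗ[S] W) (kmap f (LinearMap.id : W →ₗ[S] W) z) := by
  induction z using TensorProduct.induction_on with
  | zero => simp only [map_zero]
  | tmul a w => rfl
  | add z z' h h' =>
    simp only [map_add]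
    rw [h, h']

theorem kmap_zero_id (z : A ⊗[k] W) :
    kmap (0 : A →ₗ[R] B) (LinearMap.id : W →ₗ[S] W) z = 0 := by
  induction z using TensorProduct.induction_on with
  | zero => simp only [map_zero]
  | tmul a w =>
    rw [kmap_tmul, LinearMap.zero_apply, TensorProduct.zero_tmul]
  | add z z' h h' =>
    simp only [map_add]
    rw [h, h', add_zero]

theorem kmap_id_id (z : A ⊗[k] W) :
    kmap (LinearMap.id : A →ₗ[R] A) (LinearMap.id : W →ₗ[S] W) z = z := by
  induction z using TensorProduct.induction_on with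
  | zero => simp only [map_zero]
  | tmul a w => rfl
  | add z z' h h' =>
    simp only [map_add]
    rw [h, h']

theorem kmap_injective (f : A →ₗ[R] B) (hf : Function.Injective f) :
    Function.Injective (kmap (k := k) f (LinearMap.id : W →ₗ[S] W)) := by
  show Function.Injective (TensorProduct.map (f.restrictScalars k)
    ((LinearMap.id : W →ₗ[S] W).restrictScalars k))
  exact TensorProduct.map_injective_of_flat_flat _ _ hf (fun _ _ h => h)

/-- Tensoring with a vector space is exact. -/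
theorem exists_kmap_eq_of_exact (f : A →ₗ[R] B) (g : B →ₗ[R] C) (hgf : ∀ a, g (f a) = 0)
    (hex : ∀ b, g b = 0 → ∃ a, f a = b) (z : B ⊗[k] W)
    (hz : kmap g (LinearMap.id : W →ₗ[S] W) z = 0) :
    ∃ w : A ⊗[k] W, kmap f (LinearMap.id : W →ₗ[S] W) w = z := by
  have hexact : Function.Exact (f.restrictScalars k) (g.restrictScalars k) := by
    intro b
    constructor
    · intro hb
      obtain ⟨a, ha⟩ := hex b hb
      exact ⟨a, ha⟩
    · rintro ⟨a, rfl⟩
      exact hgf a
  have h2 := Module.Flat.rTensor_exact W hexact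
  exact (h2 z).mp hz

end LA

/-! ### Projections onto the pieces commute with homogeneous maps -/

section proj

variable (hψ : SegCtx 𝒜 ℬ 𝒯 ψ)
variable {X X' : GrLC.GMod.{u} 𝒜} {Y Y' : GrLC.GMod.{u} ℬ}
  [Module k X.carrier] [IsScalarTower k R X.carrier]
  [Module k X'.carrier] [IsScalarTower k R X'.carrier]
  [Module k Y.carrier] [IsScalarTower k S Y.carrier]
  [Module k Y'.carrier] [IsScalarTower k S Y'.carrier]

theorem kmap_PiN {f : X.carrier →ₗ[R] X'.carrier} {g : Y.carrier →ₗ[S] Y'.carrier}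
    (hf : GrLC.IsGrHom X.gr X'.gr f) (hg : GrLC.IsGrHom Y.gr Y'.gr g) (n : ℤ)
    (z : X.carrier ⊗[k] Y.carrier) :
    kmap f g (PiN X Y hψ n z) = PiN X' Y' hψ n (kmap f g z) := by
  induction z using TensorProduct.induction_on with
  | zero => simp only [map_zero]
  | tmul x y =>
    show f (projK X hψ.k𝒜 n x) ⊗ₜ[k] g (projK Y hψ.kℬ n y) =
      projK X' hψ.k𝒜 n (f x) ⊗ₜ[k] projK Y' hψ.kℬ n (g y)
    rw [projK_apply, projK_apply, projK_apply, projK_apply, decompose_map X'.gr X.gr f hf x n,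
      decompose_map Y'.gr Y.gr g hg y n]
  | add z z' h h' =>
    simp only [map_add]
    rw [h, h']

/-- An element of the Segre product from an element of the underlying subspace. -/
def mkS' (X : GrLC.GMod.{u} 𝒜) (Y : GrLC.GMod.{u} ℬ) [Module k X.carrier]
    [IsScalarTower k R X.carrier] [Module k Y.carrier] [IsScalarTower k S Y.carrier]
    (z : X.carrier ⊗[k] Y.carrier) (hz : z ∈ segSub k X Y) : SegCar X Y hψ := ⟨z, hz⟩

theorem mkS'_val (z : X.carrier ⊗[k] Y.carrier) (hz : z ∈ segSub k X Y) :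
    (mkS' hψ X Y z hz).1 = z := rfl

theorem val_sum' {ι : Type} (s : Finset ι) (f : ι → SegCar X Y hψ) :
    (∑ i ∈ s, f i).1 = ∑ i ∈ s, (f i).1 :=
  map_sum (segSub k X Y).subtype f s

end proj

/-! ### Exactness of `- # N` -/

section exact

variable (hψ : SegCtx 𝒜 ℬ 𝒯 ψ)
variable {A B C : GrLC.GMod.{u} 𝒜} (N : GrLC.GMod.{u} ℬ)
  [Module k A.carrier] [IsScalarTower k R A.carrier]
  [Module k B.carrier] [IsScalarTower k R B.carrier]
  [Module k C.carrier] [IsScalarTower k R C.carrier]
  [Module k N.carrier] [IsScalarTower k S N.carrier]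

theorem seg_exact (f : A.carrier →ₗ[R] B.carrier) (g : B.carrier →ₗ[R] C.carrier)
    (hf : GrLC.IsGrHom A.gr B.gr f) (hg : GrLC.IsGrHom B.gr C.gr g)
    (hex : LinearMap.ker g = LinearMap.range f) :
    LinearMap.ker (segMap₀ hψ g (LinearMap.id : N.carrier →ₗ[S] N.carrier) hg (id_grHom N.gr)) =
      LinearMap.range
        (segMap₀ hψ f (LinearMap.id : N.carrier →ₗ[S] N.carrier) hf (id_grHom N.gr)) := by
  have hgf : ∀ a, g (f a) = 0 := fun a => by
    have h1 : f a ∈ LinearMap.ker g := by rw [hex]; exact LinearMap.mem_range_self f a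
    exact h1
  have hex' : ∀ b, g b = 0 → ∃ a, f a = b := fun b hb => by
    have h1 : b ∈ LinearMap.range f := by rw [← hex]; exact hb
    exact h1
  apply le_antisymm
  · refine ker_le_range_of_homogeneous (A := segG A N hψ) (B := segG B N hψ) (C := segG C N hψ)
      _ _ (segMap₀_grHom hψ _ _ _ _) ?_
    intro j b hb hgb
    have hb' : b.1 ∈ piece k B N j := hb
    have h0 : kmap g (LinearMap.id : N.carrier →ₗ[S] N.carrier) b.1 = 0 :=
      congrArg Subtype.val hgb
    obtain ⟨w, hw⟩ := exists_kmap_eq_of_exact N.carrier f g hgf hex' b.1 h0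
    refine ⟨mkS' hψ A N (PiN A N hψ j w) (piece_le_segSub A N j (PiN_mem A N hψ j w)), ?_⟩
    apply Subtype.ext
    show kmap f (LinearMap.id : N.carrier →ₗ[S] N.carrier) (PiN A N hψ j w) = b.1
    rw [kmap_PiN hψ hf (id_grHom N.gr), hw, PiN_same B N hψ hb']
  · rintro _ ⟨w, rfl⟩
    rw [LinearMap.mem_ker]
    apply Subtype.ext
    show kmap g (LinearMap.id : N.carrier →ₗ[S] N.carrier)
      (kmap f (LinearMap.id : N.carrier →ₗ[S] N.carrier) w.1) = 0
    rw [← kmap_comp_id]
    have h1 : g ∘ₗ f = 0 := LinearMap.ext fun a => hgf a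
    rw [h1, kmap_zero_id]

end exact

/-! ### The resolution `E^• # N` of `M # N` -/

section resolution

variable (hψ : SegCtx 𝒜 ℬ 𝒯 ψ)
variable {M : GrLC.GMod.{u} 𝒜} (E : GrLC.StarInjRes 𝒜 M.gr) (N : GrLC.GMod.{u} ℬ)
  [Module k M.carrier] [IsScalarTower k R M.carrier]
  [∀ n, Module k (E.X n).carrier] [∀ n, IsScalarTower k R (E.X n).carrier]
  [Module k N.carrier] [IsScalarTower k S N.carrier]

/-- The resolution `E^• # N` of `M # N`. -/
def segResOne : GRes (segG M N hψ) where
  A n := segG (E.X n) N hψ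
  d n := segMap₀ hψ (E.d n) (LinearMap.id : N.carrier →ₗ[S] N.carrier) (E.d_grHom n)
    (id_grHom N.gr)
  ε := segMap₀ hψ E.ε (LinearMap.id : N.carrier →ₗ[S] N.carrier) E.ε_grHom (id_grHom N.gr)
  d_gr n := segMap₀_grHom hψ _ _ _ _
  ε_gr := segMap₀_grHom hψ _ _ _ _
  ε_inj := by
    intro u v h
    apply Subtype.ext
    exact kmap_injective N.carrier E.ε E.ε_injective (congrArg Subtype.val h)
  exact_zero := seg_exact hψ N E.ε (E.d 0) E.ε_grHom (E.d_grHom 0) E.exact_zero
  exact_succ n := seg_exact hψ N (E.d n) (E.d (n + 1)) (E.d_grHom n) (E.d_grHom (n + 1))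
    (E.exact_succ n)

theorem segResOne_d_val (n : ℕ) (u : SegCar (E.X n) N hψ) :
    ((segResOne hψ E N).d n u).1 =
      kmap (E.d n) (LinearMap.id : N.carrier →ₗ[S] N.carrier) u.1 := rfl

end resolution

/-! ### One-sided special structures -/

section one

variable (hψ : SegCtx 𝒜 ℬ 𝒯 ψ) (mT : HomogeneousIdeal 𝒯)
  (hmT : mT.toIdeal = Ideal.span (⋃ n ∈ Set.Ioi (0 : ℤ), (𝒯 n : Set T)))
  (pR : SpParam 𝒜)
  (hmR : ∀ j : ℤ, 0 < j → ∀ r ∈ 𝒜 j, r ∈ pR.a.toIdeal)
  (hDpos : 0 < pR.D)
variable {X : GrLC.GMod.{u} 𝒜} {W : GrLC.GMod.{u} ℬ}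
  [Module k X.carrier] [IsScalarTower k R X.carrier]
  [Module k W.carrier] [IsScalarTower k S W.carrier]
  (sX : SpStr pR X)
  (y₀ : S) (hy₀ : y₀ ∈ ℬ pR.D) (θ : W.carrier →ₗ[S] W.carrier)
  (hθ : GrLC.IsGrHomDeg W.gr W.gr θ (-pR.D)) (hθy : ∀ w, θ (y₀ • w) = w)

/-- The torsion idempotent of `X # W`. -/
def EL : SegCar X W hψ →ₗ[T] SegCar X W hψ :=
  segMap₀ hψ sX.ρ (LinearMap.id : W.carrier →ₗ[S] W.carrier) sX.ρ_gr (id_grHom W.gr)

/-- The component idempotents of `X # W`. -/
def Ei (i : Fin pR.r) : SegCar X W hψ →ₗ[T] SegCar X W hψ :=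
  segMap₀ hψ (sX.ρc i) (LinearMap.id : W.carrier →ₗ[S] W.carrier) (sX.ρc_gr i) (id_grHom W.gr)

/-- The retractions of the multiplications by the elements over `x i ⊗ y₀`. -/
def Hi (i : Fin pR.r) : SegCar X W hψ →ₗ[T] SegCar X W hψ :=
  segMapD hψ (sX.η i) θ (-pR.D) (sX.η_gr i) hθ

include hψ hy₀ in
theorem exists_ti (i : Fin pR.r) : ∃ t ∈ 𝒯 pR.D, ψ t = pR.x i ⊗ₜ[k] y₀ :=
  hψ.ψ_surj pR.D _ (tmul_mem_piece 𝒜 ℬ (pR.hxD i) hy₀)

include hθy in
theorem Hi_smul_Ei (i : Fin pR.r) {t : T} (ht : ψ t = pR.x i ⊗ₜ[k] y₀) (p : SegCar X W hψ) :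
    Hi hψ pR sX θ hθ i (t • Ei hψ pR sX i p) = Ei hψ pR sX i p := by
  apply Subtype.ext
  show kmap (sX.η i) θ (GrSeg.act k R S X.carrier W.carrier (ψ t)
    (kmap (sX.ρc i) (LinearMap.id : W.carrier →ₗ[S] W.carrier) p.1)) =
      kmap (sX.ρc i) (LinearMap.id : W.carrier →ₗ[S] W.carrier) p.1
  rw [ht]
  generalize p.1 = z
  induction z using TensorProduct.induction_on with
  | zero => simp only [map_zero]
  | tmul v w =>
    rw [kmap_tmul, GrSeg.act_tmul, kmap_tmul, sX.η_x, LinearMap.id_apply, hθy]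
  | add z z' h h' =>
    simp only [map_add]
    rw [h, h']

include hθ hθy in
theorem Ei_eq_zero_of_pow (i : Fin pR.r) {t : T} (ht : ψ t = pR.x i ⊗ₜ[k] y₀) :
    ∀ (n : ℕ) (p : SegCar X W hψ), t ^ n • Ei hψ pR sX i p = 0 → Ei hψ pR sX i p = 0 := by
  intro n
  induction n with
  | zero =>
    intro p hp
    rwa [pow_zero, one_smul] at hp
  | succ n ih =>
    intro p hp
    have h1 : Ei hψ pR sX i (t • p) = 0 := by
      apply ih
      rw [map_smul, smul_smul, ← pow_succ]
      exact hp
    rw [map_smul] at h1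
    rw [← Hi_smul_Ei hψ pR sX y₀ θ hθ hθy i ht p, h1, map_zero]

theorem Ei_idem (i : Fin pR.r) (q : SegCar X W hψ) :
    Ei hψ pR sX i (Ei hψ pR sX i q) = Ei hψ pR sX i q := by
  apply Subtype.ext
  show kmap (sX.ρc i) (LinearMap.id : W.carrier →ₗ[S] W.carrier)
    (kmap (sX.ρc i) (LinearMap.id : W.carrier →ₗ[S] W.carrier) q.1) =
      kmap (sX.ρc i) (LinearMap.id : W.carrier →ₗ[S] W.carrier) q.1
  generalize q.1 = z
  induction z using TensorProduct.induction_on with
  | zero => simp only [map_zero]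
  | tmul v w => rw [kmap_tmul, kmap_tmul, sX.ρc_idem, LinearMap.id_apply]
  | add z z' h h' =>
    simp only [map_add]
    rw [h, h']

theorem kmap_sub_ρ_eq_sum (z : X.carrier ⊗[k] W.carrier) :
    kmap (LinearMap.id - sX.ρ) (LinearMap.id : W.carrier →ₗ[S] W.carrier) z =
      ∑ i : Fin pR.r, kmap (sX.ρc i) (LinearMap.id : W.carrier →ₗ[S] W.carrier) z := by
  induction z using TensorProduct.induction_on with
  | zero => simp only [map_zero, Finset.sum_const_zero]
  | tmul v w =>
    rw [kmap_tmul, id_sub_ρ_eq pR sX v, TensorProduct.sum_tmul]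
    rfl
  | add z z' h h' =>
    simp only [map_add]
    rw [h, h', ← Finset.sum_add_distrib]

theorem two_terms (z : X.carrier ⊗[k] W.carrier) :
    z = kmap sX.ρ (LinearMap.id : W.carrier →ₗ[S] W.carrier) z +
      kmap (LinearMap.id - sX.ρ) (LinearMap.id : W.carrier →ₗ[S] W.carrier) z := by
  induction z using TensorProduct.induction_on with
  | zero => simp only [map_zero, add_zero]
  | tmul v w =>
    rw [kmap_tmul, kmap_tmul, LinearMap.sub_apply, LinearMap.id_apply, LinearMap.id_apply,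
      TensorProduct.sub_tmul]
    abel
  | add z z' h h' =>
    simp only [map_add]
    conv_lhs => rw [h, h']
    abel

include hmT hmR in
theorem EL_mem_gam [IsNoetherianRing T] (u : SegCar X W hψ) :
    EL hψ pR sX u ∈ GrLC.gam mT.toIdeal (SegCar X W hψ) :=
  mem_gam_of_killed hψ mT hmT (kfilt_KL (S := S) hψ pR.a.toIdeal hmR) (EL hψ pR sX u)
    (killed_left pR.a.toIdeal sX.ρ sX.tors LinearMap.id u.1)

include hmT hmR hDpos hy₀ hθ hθy in
/-- The torsion of the Segre product of a special module with a module on which `y₀` acts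
invertibly. -/
theorem mem_gam_iff1 [IsNoetherianRing T] (p : SegCar X W hψ) :
    p ∈ GrLC.gam mT.toIdeal (SegCar X W hψ) ↔
      kmap (LinearMap.id - sX.ρ) (LinearMap.id : W.carrier →ₗ[S] W.carrier) p.1 = 0 := by
  constructor
  · intro hp
    rw [kmap_sub_ρ_eq_sum]
    refine Finset.sum_eq_zero fun i _ => ?_
    obtain ⟨t, htD, ht⟩ := exists_ti hψ pR y₀ hy₀ i
    have htm : t ∈ mT.toIdeal := mem_mT_of_deg mT hmT pR hDpos htD
    have hE : Ei hψ pR sX i p ∈ GrLC.gam mT.toIdeal (SegCar X W hψ) := gam_map _ _ hp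
    obtain ⟨n, hn⟩ := hE
    have h0 := Ei_eq_zero_of_pow hψ pR sX y₀ θ hθ hθy i ht n p
      (hn _ (Ideal.pow_mem_pow htm n))
    exact congrArg Subtype.val h0
  · intro hp
    have h2 := two_terms pR sX p.1
    rw [hp, add_zero] at h2
    have h3 := EL_mem_gam hψ mT hmT pR hmR sX p
    have h4 : EL hψ pR sX p = p := Subtype.ext h2.symm
    rwa [h4] at h3

include hmT hmR hDpos sX hy₀ hθ hθy in
/-- The Segre product of a special module with a module on which `y₀` acts invertibly is acyclic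
for the torsion functor. -/
theorem vanX_one [IsNoetherianRing T] (l : ℕ) (g : ℤ) :
    VanX mT (segG X W hψ) (l + 1) g := by
  classical
  let E : Option (Fin pR.r) → (SegCar X W hψ →ₗ[T] SegCar X W hψ) := fun o =>
    match o with
    | none => EL hψ pR sX
    | some i => Ei hψ pR sX i
  have hE : ∀ o, GrLC.IsGrHom (segG X W hψ).gr (segG X W hψ).gr (E o) := by
    intro o
    cases o with
    | none => exact segMap₀_grHom hψ _ _ _ _
    | some i => exact segMap₀_grHom hψ _ _ _ _
  refine vanX_of_factor (X := segG X W hψ) mT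
    (fun o => rangeG (X := segG X W hψ) (E o) (hE o))
    (fun o => (E o).codRestrict (LinearMap.range (E o))
      (fun u => LinearMap.mem_range_self (E o) u))
    (fun o => (LinearMap.range (E o)).subtype) ?_ ?_ ?_ ?_
  · intro o g m hm
    show E o m ∈ (segG X W hψ).gr g
    exact hE o g m hm
  · intro o g m hm
    exact hm
  · intro u
    show ∑ o, E o u = u
    rw [Fintype.sum_option]
    show EL hψ pR sX u + ∑ i, Ei hψ pR sX i u = u
    apply Subtype.ext
    have h1 : (EL hψ pR sX u + ∑ i, Ei hψ pR sX i u).1 =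
        (EL hψ pR sX u).1 + (∑ i, Ei hψ pR sX i u).1 := rfl
    rw [h1, val_sum' hψ]
    have h2 := two_terms pR sX u.1
    rw [kmap_sub_ρ_eq_sum] at h2
    exact h2.symm
  · intro o
    cases o with
    | none =>
      refine vanX_range_of_torsion (X := segG X W hψ) mT (E none) (hE none) ?_ (l + 1)
        (Nat.succ_pos l) g
      intro u
      exact EL_mem_gam hψ mT hmT pR hmR sX u
    | some i =>
      obtain ⟨t, htD, ht⟩ := exists_ti hψ pR y₀ hy₀ i
      refine vanX_range_of_retract (X := segG X W hψ) mT (E (some i)) (hE (some i)) ?_ htD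
        (mem_mT_of_deg mT hmT pR hDpos htD) (Hi hψ pR sX θ hθ i)
        (segMapD_grHomDeg hψ _ _ _ _ _) ?_ (l + 1) g
      · intro u
        exact Ei_idem hψ pR sX i u
      · intro u
        exact Hi_smul_Ei hψ pR sX y₀ θ hθ hθy i ht u

end one

end Groth.Agent.Lib.R2H7.SegOne
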