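/-
The cohomology of the torsion of `Y^• # W` for a complex `Y0 → Y1 → Y2` of special graded
`R`-modules and a graded `S`-module `W` on which a homogeneous element of the degree of the
parameters acts invertibly: it is the Segre product of the cohomology of the torsion of `Y^•`
with `W`.
-/
import Mathlib
import Groth.Agent.Lib.R2H7SegOne
import Groth.Agent.Lib.R2H7GrOps

set_option autoImplicit false
set_option maxHeartbeats 400000
open DirectSum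
open scoped TensorProduct

noncomputable section

namespace Groth.Agent.Lib.R2H7.SegOneCoh

open Groth.Agent.Lib.Helper29GrEss Groth.Agent.Lib.Helper29GrHom Groth.Agent.Lib.R2H7.GrBdry
  Groth.Agent.Lib.R2H7.GrDer Groth.Agent.Lib.R2H7.GrAcyc Groth.Agent.Lib.R2H7.GrAcycW
  Groth.Agent.Lib.R2H7.GrOps
  Groth.Agent.Lib.R2H7.SegPres Groth.Agent.Lib.R2H7.SegSpecial Groth.Agent.Lib.R2H7.SegIdem
  Groth.Agent.Lib.R2H7.SegTors Groth.Agent.Lib.R2H7.SegSum Groth.Agent.Lib.R2H7.SegAcyc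
  Groth.Agent.Lib.R2H7.SegOne

universe u

variable {k : Type u} [Field k] {R S T : Type u} [CommRing R] [CommRing S] [CommRing T]
  [Algebra k R] [Algebra k S] [Algebra k T]
variable {𝒜 : ℤ → AddSubgroup R} [GradedRing 𝒜] {ℬ : ℤ → AddSubgroup S} [GradedRing ℬ]
  {𝒯 : ℤ → AddSubgroup T} [GradedRing 𝒯] {ψ : T →ₐ[k] R ⊗[k] S}

/-! ### Vector space structures -/

/-- The vector space structure of a Segre product. -/
@[instance_reducible]
def segGModK (X : GrLC.GMod.{u} 𝒜) (Y : GrLC.GMod.{u} ℬ)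
    [Module k X.carrier] [IsScalarTower k R X.carrier]
    [Module k Y.carrier] [IsScalarTower k S Y.carrier] (hψ : SegCtx 𝒜 ℬ 𝒯 ψ) :
    Module k (segG X Y hψ).carrier := segModK X Y hψ

attribute [local instance] segGModK

theorem segGTower (X : GrLC.GMod.{u} 𝒜) (Y : GrLC.GMod.{u} ℬ)
    [Module k X.carrier] [IsScalarTower k R X.carrier]
    [Module k Y.carrier] [IsScalarTower k S Y.carrier] (hψ : SegCtx 𝒜 ℬ 𝒯 ψ) :
    IsScalarTower k T (segG X Y hψ).carrier := segTower X Y hψ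

attribute [local instance] segGTower

/-- The vector space structure of a homogeneous submodule. -/
@[instance_reducible]
def subModK (X : GrLC.GMod.{u} 𝒜) [Module k X.carrier] [IsScalarTower k R X.carrier]
    (P : Submodule R X.carrier) (hP : P.IsHomogeneous X.gr) :
    Module k (subG X P hP).carrier := inferInstanceAs (Module k ↥P)

attribute [local instance] subModK

theorem subTower (X : GrLC.GMod.{u} 𝒜) [Module k X.carrier] [IsScalarTower k R X.carrier]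
    (P : Submodule R X.carrier) (hP : P.IsHomogeneous X.gr) :
    IsScalarTower k R (subG X P hP).carrier := inferInstanceAs (IsScalarTower k R ↥P)

attribute [local instance] subTower

/-! ### The cocycles as a graded module -/

section general

variable (pR : SpParam 𝒜)
variable {Y Y' : GrLC.GMod.{u} 𝒜} (W : GrLC.GMod.{u} ℬ)
  [Module k Y.carrier] [IsScalarTower k R Y.carrier]
  [Module k Y'.carrier] [IsScalarTower k R Y'.carrier]
  [Module k W.carrier] [IsScalarTower k S W.carrier]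
  (f : Y.carrier →ₗ[R] Y'.carrier) (hf : GrLC.IsGrHom Y.gr Y'.gr f) (s : SpStr pR Y)

/-- The torsion cocycles as a graded module. -/
abbrev ZG : GrLC.GMod.{u} 𝒜 := subG Y (ZW pR.a f) (ZW_isHomogeneous pR.a f hf)

/-- The inclusion of the torsion cocycles. -/
def inclZ : (ZG pR f hf).carrier →ₗ[R] Y.carrier := (ZW pR.a f).subtype

theorem inclZ_apply (z : (ZG pR f hf).carrier) : inclZ pR f hf z = z.1 := rfl

theorem inclZ_grHom : GrLC.IsGrHom (ZG pR f hf).gr Y.gr (inclZ pR f hf) := fun _ _ hm => hm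

theorem inclZ_injective : Function.Injective (inclZ pR f hf) := fun _ _ h => Subtype.ext h

/-- A tensor killed by `(1 - ρ) ⊗ 1` and by `f ⊗ 1` comes from the cocycles. -/
theorem exists_inclZ_eq (z : Y.carrier ⊗[k] W.carrier)
    (hz1 : kmap (LinearMap.id - s.ρ) (LinearMap.id : W.carrier →ₗ[S] W.carrier) z = 0)
    (hz2 : kmap f (LinearMap.id : W.carrier →ₗ[S] W.carrier) z = 0) :
    ∃ x : (ZG pR f hf).carrier ⊗[k] W.carrier,
      kmap (inclZ pR f hf) (LinearMap.id : W.carrier →ₗ[S] W.carrier) x = z := by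
  let F : Y.carrier →ₗ[R] Y.carrier × Y'.carrier := (LinearMap.id - s.ρ).prod f
  have hF : ∀ z : Y.carrier ⊗[k] W.carrier,
      kmap F (LinearMap.id : W.carrier →ₗ[S] W.carrier) z =
        kmap (LinearMap.inl R Y.carrier Y'.carrier) (LinearMap.id : W.carrier →ₗ[S] W.carrier)
            (kmap (LinearMap.id - s.ρ) (LinearMap.id : W.carrier →ₗ[S] W.carrier) z) +
          kmap (LinearMap.inr R Y.carrier Y'.carrier) (LinearMap.id : W.carrier →ₗ[S] W.carrier)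
            (kmap f (LinearMap.id : W.carrier →ₗ[S] W.carrier) z) := by
    intro z
    induction z using TensorProduct.induction_on with
    | zero => simp only [map_zero, add_zero]
    | tmul v w =>
      rw [kmap_tmul, kmap_tmul, kmap_tmul, kmap_tmul, kmap_tmul, ← TensorProduct.add_tmul]
      congr 1
      show ((LinearMap.id - s.ρ : Y.carrier →ₗ[R] Y.carrier) v, f v) =
        ((LinearMap.id - s.ρ : Y.carrier →ₗ[R] Y.carrier) v, (0 : Y'.carrier)) +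
          ((0 : Y.carrier), f v)
      rw [Prod.mk_add_mk, add_zero, zero_add]
    | add z z' h h' =>
      simp only [map_add]
      rw [h, h']
      abel
  have h0 : kmap F (LinearMap.id : W.carrier →ₗ[S] W.carrier) z = 0 := by
    rw [hF, hz1, hz2, map_zero, map_zero, add_zero]
  refine exists_kmap_eq_of_exact W.carrier (inclZ pR f hf) F ?_ ?_ z h0
  · intro a
    show ((LinearMap.id - s.ρ : Y.carrier →ₗ[R] Y.carrier) a.1, f a.1) = 0
    have h1 : s.ρ a.1 = a.1 := s.ρ_eq_self_iff.mpr ((mem_ZW pR.a).mp a.2).1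
    have h2 : f a.1 = 0 := ((mem_ZW pR.a).mp a.2).2
    rw [LinearMap.sub_apply, LinearMap.id_apply, h1, sub_self, h2]
    rfl
  · intro b hb
    have hb' : ((LinearMap.id - s.ρ : Y.carrier →ₗ[R] Y.carrier) b, f b) = 0 := hb
    rw [Prod.mk_eq_zero] at hb'
    have h1 : s.ρ b = b := by
      have h2 := hb'.1
      rw [LinearMap.sub_apply, LinearMap.id_apply, sub_eq_zero] at h2
      exact h2.symm
    exact ⟨⟨b, (mem_ZW pR.a).mpr ⟨s.ρ_eq_self_iff.mp h1, hb'.2⟩⟩, rfl⟩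

theorem kmap_sub_ρ_inclZ (x : (ZG pR f hf).carrier ⊗[k] W.carrier) :
    kmap (LinearMap.id - s.ρ) (LinearMap.id : W.carrier →ₗ[S] W.carrier)
      (kmap (inclZ pR f hf) (LinearMap.id : W.carrier →ₗ[S] W.carrier) x) = 0 := by
  rw [← kmap_comp_id]
  have h1 : (LinearMap.id - s.ρ : Y.carrier →ₗ[R] Y.carrier) ∘ₗ inclZ pR f hf = 0 := by
    refine LinearMap.ext fun a => ?_
    have h2 : s.ρ a.1 = a.1 := s.ρ_eq_self_iff.mpr ((mem_ZW pR.a).mp a.2).1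
    show (LinearMap.id - s.ρ : Y.carrier →ₗ[R] Y.carrier) a.1 = 0
    rw [LinearMap.sub_apply, LinearMap.id_apply, h2, sub_self]
  rw [h1, kmap_zero_id]

theorem kmap_f_inclZ (x : (ZG pR f hf).carrier ⊗[k] W.carrier) :
    kmap f (LinearMap.id : W.carrier →ₗ[S] W.carrier)
      (kmap (inclZ pR f hf) (LinearMap.id : W.carrier →ₗ[S] W.carrier) x) = 0 := by
  rw [← kmap_comp_id]
  have h1 : f ∘ₗ inclZ pR f hf = 0 := by
    refine LinearMap.ext fun a => ?_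
    exact ((mem_ZW pR.a).mp a.2).2
  rw [h1, kmap_zero_id]

end general

/-! ### The comparison map -/

section core

variable (hψ : SegCtx 𝒜 ℬ 𝒯 ψ) (mT : HomogeneousIdeal 𝒯)
  (hmT : mT.toIdeal = Ideal.span (⋃ n ∈ Set.Ioi (0 : ℤ), (𝒯 n : Set T)))
  (pR : SpParam 𝒜)
  (hmR : ∀ j : ℤ, 0 < j → ∀ r ∈ 𝒜 j, r ∈ pR.a.toIdeal)
  (hDpos : 0 < pR.D)
variable {Y0 Y1 Y2 : GrLC.GMod.{u} 𝒜} (W : GrLC.GMod.{u} ℬ)
  [Module k Y0.carrier] [IsScalarTower k R Y0.carrier]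
  [Module k Y1.carrier] [IsScalarTower k R Y1.carrier]
  [Module k Y2.carrier] [IsScalarTower k R Y2.carrier]
  [Module k W.carrier] [IsScalarTower k S W.carrier]
  (d0 : Y0.carrier →ₗ[R] Y1.carrier) (d1 : Y1.carrier →ₗ[R] Y2.carrier)
  (h0 : GrLC.IsGrHom Y0.gr Y1.gr d0) (h1 : GrLC.IsGrHom Y1.gr Y2.gr d1)
  (s0 : SpStr pR Y0) (s1 : SpStr pR Y1)
  (y₀ : S) (hy₀ : y₀ ∈ ℬ pR.D) (θ : W.carrier →ₗ[S] W.carrier)
  (hθ : GrLC.IsGrHomDeg W.gr W.gr θ (-pR.D)) (hθy : ∀ w, θ (y₀ • w) = w)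

/-- The map `f # W`. -/
def segD {A B : GrLC.GMod.{u} 𝒜} [Module k A.carrier] [IsScalarTower k R A.carrier]
    [Module k B.carrier] [IsScalarTower k R B.carrier] (f : A.carrier →ₗ[R] B.carrier)
    (hf : GrLC.IsGrHom A.gr B.gr f) :
    (segG A W hψ).carrier →ₗ[T] (segG B W hψ).carrier :=
  segMap₀ hψ f (LinearMap.id : W.carrier →ₗ[S] W.carrier) hf (id_grHom W.gr)

theorem segD_val {A B : GrLC.GMod.{u} 𝒜} [Module k A.carrier] [IsScalarTower k R A.carrier]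
    [Module k B.carrier] [IsScalarTower k R B.carrier] (f : A.carrier →ₗ[R] B.carrier)
    (hf : GrLC.IsGrHom A.gr B.gr f) (u : SegCar A W hψ) :
    (segD hψ W f hf u).1 = kmap f (LinearMap.id : W.carrier →ₗ[S] W.carrier) u.1 := rfl

include h0 h1 in
theorem comp_grHom : GrLC.IsGrHom Y0.gr Y2.gr (d1 ∘ₗ d0) :=
  fun g m hm => h1 g _ (h0 g m hm)

/-- The class map of the cocycles. -/
def clsZ : (ZG pR d1 h1).carrier →ₗ[R] HW pR.a d0 d1 := (BW pR.a d0 d1).mkQ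

/-- The differential from the elements of the torsion of `Y0` mapping to cocycles. -/
def dA : (ZG pR (d1 ∘ₗ d0) (comp_grHom d0 d1 h0 h1)).carrier →ₗ[R] (ZG pR d1 h1).carrier :=
  LinearMap.codRestrict (ZW pR.a d1) (d0 ∘ₗ inclZ pR (d1 ∘ₗ d0) (comp_grHom d0 d1 h0 h1))
    (fun a => (mem_ZW pR.a).mpr ⟨gam_map pR.a.toIdeal d0 ((mem_ZW pR.a).mp a.2).1,
      ((mem_ZW pR.a).mp a.2).2⟩)

theorem inclZ_dA (a : (ZG pR (d1 ∘ₗ d0) (comp_grHom d0 d1 h0 h1)).carrier) :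
    inclZ pR d1 h1 (dA pR d0 d1 h0 h1 a) = d0 a.1 := rfl

theorem clsZ_dA (a : (ZG pR (d1 ∘ₗ d0) (comp_grHom d0 d1 h0 h1)).carrier) :
    clsZ pR d0 d1 h1 (dA pR d0 d1 h0 h1 a) = 0 := by
  show Submodule.Quotient.mk (dA pR d0 d1 h0 h1 a : ↥(ZW pR.a d1)) = (0 : HW pR.a d0 d1)
  refine (Submodule.Quotient.mk_eq_zero (BW pR.a d0 d1)).mpr ?_
  exact (mem_BW pR.a).mpr ⟨a.1, ((mem_ZW pR.a).mp a.2).1, rfl⟩

theorem exists_dA_eq (b : (ZG pR d1 h1).carrier) (hb : clsZ pR d0 d1 h1 b = 0) :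
    ∃ a, dA pR d0 d1 h0 h1 a = b := by
  have h2 : Submodule.Quotient.mk (b : ↥(ZW pR.a d1)) = (0 : HW pR.a d0 d1) := hb
  have h3 := (Submodule.Quotient.mk_eq_zero (BW pR.a d0 d1)).mp h2
  obtain ⟨w, hw, hwb⟩ := (mem_BW pR.a).mp h3
  refine ⟨⟨w, (mem_ZW pR.a).mpr ⟨hw, ?_⟩⟩, Subtype.ext hwb⟩
  show d1 (d0 w) = 0
  rw [hwb]
  exact ((mem_ZW pR.a).mp b.2).2

/-- `Z ⊗ W → Y1 ⊗ W`. -/
def jZ : (ZG pR d1 h1).carrier ⊗[k] W.carrier →ₗ[k] Y1.carrier ⊗[k] W.carrier :=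
  kmap (inclZ pR d1 h1) (LinearMap.id : W.carrier →ₗ[S] W.carrier)

/-- `Z ⊗ W → H ⊗ W`. -/
def piZ : (ZG pR d1 h1).carrier ⊗[k] W.carrier →ₗ[k] HW pR.a d0 d1 ⊗[k] W.carrier :=
  kmap (clsZ pR d0 d1 h1) (LinearMap.id : W.carrier →ₗ[S] W.carrier)

theorem jZ_injective : Function.Injective (jZ (k := k) pR W d1 h1) :=
  kmap_injective W.carrier (inclZ pR d1 h1) (inclZ_injective pR d1 h1)

/-- The torsion cocycles of the Segre product, inside `Y1 ⊗ W`. -/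
def valZ : ↥(ZW mT (segD hψ W d1 h1)) →ₗ[k] Y1.carrier ⊗[k] W.carrier where
  toFun p := (p.1 : SegCar Y1 W hψ).1
  map_add' _ _ := rfl
  map_smul' _ _ := rfl

theorem valZ_apply (p : ↥(ZW mT (segD hψ W d1 h1))) :
    valZ hψ mT W d1 h1 p = (p.1 : SegCar Y1 W hψ).1 := rfl

include hmT hmR hDpos s1 hy₀ hθ hθy in
theorem exists_jZ_eq [IsNoetherianRing T] (p : ↥(ZW mT (segD hψ W d1 h1))) :
    ∃ x, jZ pR W d1 h1 x = valZ hψ mT W d1 h1 p := by
  have hp := (mem_ZW mT).mp p.2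
  have hp1 : kmap (LinearMap.id - s1.ρ) (LinearMap.id : W.carrier →ₗ[S] W.carrier)
      (valZ hψ mT W d1 h1 p) = 0 :=
    (mem_gam_iff1 hψ mT hmT pR hmR hDpos s1 y₀ hy₀ θ hθ hθy p.1).mp hp.1
  have hp2 : kmap d1 (LinearMap.id : W.carrier →ₗ[S] W.carrier) (valZ hψ mT W d1 h1 p) = 0 :=
    congrArg Subtype.val hp.2
  exact exists_inclZ_eq pR W d1 h1 s1 _ hp1 hp2

variable (r : Y1.carrier ⊗[k] W.carrier →ₗ[k] (ZG pR d1 h1).carrier ⊗[k] W.carrier)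

/-- The comparison map on the cocycles. -/
def Phi0 : ↥(ZW mT (segD hψ W d1 h1)) →ₗ[k] HW pR.a d0 d1 ⊗[k] W.carrier :=
  piZ pR W d0 d1 h1 ∘ₗ r ∘ₗ valZ hψ mT W d1 h1

theorem Phi0_eq (hr : ∀ x, r (jZ pR W d1 h1 x) = x) (p : ↥(ZW mT (segD hψ W d1 h1)))
    (x : (ZG pR d1 h1).carrier ⊗[k] W.carrier) (hx : jZ pR W d1 h1 x = valZ hψ mT W d1 h1 p) :
    Phi0 hψ mT pR W d0 d1 h1 r p = piZ pR W d0 d1 h1 x := by
  show piZ pR W d0 d1 h1 (r (valZ hψ mT W d1 h1 p)) = piZ pR W d0 d1 h1 x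
  rw [← hx, hr]

include hmT hmR hDpos s0 hy₀ hθ hθy in
/-- The comparison map kills the coboundaries. -/
theorem Phi0_eq_zero [IsNoetherianRing T] (hr : ∀ x, r (jZ pR W d1 h1 x) = x)
    (p : ↥(ZW mT (segD hψ W d1 h1)))
    (hp : p ∈ BW mT (segD hψ W d0 h0) (segD hψ W d1 h1)) :
    Phi0 hψ mT pR W d0 d1 h1 r p = 0 := by
  obtain ⟨w, hw, hwp⟩ := (mem_BW mT).mp hp
  have hw1 : kmap (LinearMap.id - s0.ρ) (LinearMap.id : W.carrier →ₗ[S] W.carrier)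
      (w : SegCar Y0 W hψ).1 = 0 :=
    (mem_gam_iff1 hψ mT hmT pR hmR hDpos s0 y₀ hy₀ θ hθ hθy w).mp hw
  have hwp' : kmap d0 (LinearMap.id : W.carrier →ₗ[S] W.carrier) (w : SegCar Y0 W hψ).1 =
      valZ hψ mT W d1 h1 p := congrArg Subtype.val hwp
  have hp2 : kmap d1 (LinearMap.id : W.carrier →ₗ[S] W.carrier) (valZ hψ mT W d1 h1 p) = 0 :=
    congrArg Subtype.val ((mem_ZW mT).mp p.2).2
  have hw2 : kmap (d1 ∘ₗ d0) (LinearMap.id : W.carrier →ₗ[S] W.carrier)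
      (w : SegCar Y0 W hψ).1 = 0 := by
    rw [kmap_comp_id, hwp', hp2]
  obtain ⟨x₀, hx₀⟩ := exists_inclZ_eq pR W (d1 ∘ₗ d0) (comp_grHom d0 d1 h0 h1) s0 _ hw1 hw2
  have hj : jZ pR W d1 h1 (kmap (dA pR d0 d1 h0 h1) (LinearMap.id : W.carrier →ₗ[S] W.carrier)
      x₀) = valZ hψ mT W d1 h1 p := by
    show kmap (inclZ pR d1 h1) (LinearMap.id : W.carrier →ₗ[S] W.carrier)
      (kmap (dA pR d0 d1 h0 h1) (LinearMap.id : W.carrier →ₗ[S] W.carrier) x₀) = _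
    rw [← kmap_comp_id]
    have h3 : inclZ pR d1 h1 ∘ₗ dA pR d0 d1 h0 h1 =
        d0 ∘ₗ inclZ pR (d1 ∘ₗ d0) (comp_grHom d0 d1 h0 h1) := rfl
    rw [h3, kmap_comp_id, hx₀, hwp']
  rw [Phi0_eq hψ mT pR W d0 d1 h1 r hr p _ hj]
  show kmap (clsZ pR d0 d1 h1) (LinearMap.id : W.carrier →ₗ[S] W.carrier)
    (kmap (dA pR d0 d1 h0 h1) (LinearMap.id : W.carrier →ₗ[S] W.carrier) x₀) = 0
  rw [← kmap_comp_id]
  have h4 : clsZ pR d0 d1 h1 ∘ₗ dA pR d0 d1 h0 h1 = 0 :=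
    LinearMap.ext fun a => clsZ_dA pR d0 d1 h0 h1 a
  rw [h4, kmap_zero_id]

include hmT hmR hDpos s0 s1 hy₀ hθ hθy in
/-- A cocycle killed by the comparison map is a coboundary. -/
theorem mem_BW_of_Phi0 [IsNoetherianRing T] (hr : ∀ x, r (jZ pR W d1 h1 x) = x)
    (p : ↥(ZW mT (segD hψ W d1 h1))) (hp : Phi0 hψ mT pR W d0 d1 h1 r p = 0) :
    p ∈ BW mT (segD hψ W d0 h0) (segD hψ W d1 h1) := by
  classical
  obtain ⟨x, hx⟩ := exists_jZ_eq hψ mT hmT pR hmR hDpos W d1 h1 s1 y₀ hy₀ θ hθ hθy p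
  rw [Phi0_eq hψ mT pR W d0 d1 h1 r hr p x hx] at hp
  obtain ⟨x₀, hx₀⟩ := exists_kmap_eq_of_exact W.carrier (dA pR d0 d1 h0 h1) (clsZ pR d0 d1 h1)
    (clsZ_dA pR d0 d1 h0 h1) (exists_dA_eq pR d0 d1 h0 h1) x hp
  -- the preimage in `Y0 ⊗ W`
  set w₀ : Y0.carrier ⊗[k] W.carrier :=
    kmap (inclZ pR (d1 ∘ₗ d0) (comp_grHom d0 d1 h0 h1))
      (LinearMap.id : W.carrier →ₗ[S] W.carrier) x₀ with hw₀
  have hd : kmap d0 (LinearMap.id : W.carrier →ₗ[S] W.carrier) w₀ = valZ hψ mT W d1 h1 p := by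
    rw [hw₀, ← kmap_comp_id]
    have h3 : d0 ∘ₗ inclZ pR (d1 ∘ₗ d0) (comp_grHom d0 d1 h0 h1) =
        inclZ pR d1 h1 ∘ₗ dA pR d0 d1 h0 h1 := rfl
    rw [h3, kmap_comp_id, hx₀]
    exact hx
  have hρ : kmap (LinearMap.id - s0.ρ) (LinearMap.id : W.carrier →ₗ[S] W.carrier) w₀ = 0 :=
    kmap_sub_ρ_inclZ pR W (d1 ∘ₗ d0) (comp_grHom d0 d1 h0 h1) s0 x₀
  -- cut down to the Segre product
  have hpmem : valZ hψ mT W d1 h1 p ∈ segSub k Y1 W := (p.1 : SegCar Y1 W hψ).2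
  obtain ⟨σ, -, hσ⟩ := exists_finset_PiN Y1 W hψ hpmem
  set w : Y0.carrier ⊗[k] W.carrier := ∑ n ∈ σ, PiN Y0 W hψ n w₀ with hw
  have hwmem : w ∈ segSub k Y0 W :=
    sum_mem fun n _ => piece_le_segSub Y0 W n (PiN_mem Y0 W hψ n w₀)
  have hwd : kmap d0 (LinearMap.id : W.carrier →ₗ[S] W.carrier) w = valZ hψ mT W d1 h1 p := by
    rw [hw, map_sum]
    conv_rhs => rw [hσ]
    refine Finset.sum_congr rfl fun n _ => ?_
    rw [kmap_PiN hψ h0 (id_grHom W.gr), hd]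
  have hwρ : kmap (LinearMap.id - s0.ρ) (LinearMap.id : W.carrier →ₗ[S] W.carrier) w = 0 := by
    rw [hw, map_sum]
    refine Finset.sum_eq_zero fun n _ => ?_
    rw [kmap_PiN hψ (isGrHom_id_sub Y0.gr s0.ρ_gr) (id_grHom W.gr), hρ, map_zero]
  refine (mem_BW mT).mpr ⟨mkS' hψ Y0 W w hwmem, ?_, ?_⟩
  · exact (mem_gam_iff1 hψ mT hmT pR hmR hDpos s0 y₀ hy₀ θ hθ hθy _).mpr hwρ
  · apply Subtype.ext
    exact hwd

/-- The comparison map sends the cocycles of degree `n` into the piece of degree `n`. -/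
theorem piZ_mem_piece {n : ℤ} {x : (ZG pR d1 h1).carrier ⊗[k] W.carrier}
    (hx : x ∈ piece k (ZG pR d1 h1) W n) :
    piZ pR W d0 d1 h1 x ∈ GrSeg.segrePiece k (HWgr pR.a d0 d1) W.gr n := by
  refine piece_induction (ZG pR d1 h1).gr W.gr
    (P := fun x => piZ pR W d0 d1 h1 x ∈ GrSeg.segrePiece k (HWgr pR.a d0 d1) W.gr n)
    ?_ ?_ ?_ ?_ hx
  · intro a ha b hb
    exact Submodule.subset_span ⟨clsZ pR d0 d1 h1 a, ⟨a, ha, rfl⟩, b, hb, rfl⟩
  · rw [map_zero]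
    exact zero_mem _
  · intro z z' hz hz'
    rw [map_add]
    exact add_mem hz hz'
  · intro c z hz
    rw [map_smul]
    exact Submodule.smul_mem _ c hz

include hmT hmR hDpos s0 s1 hy₀ hθ hθy in
/-- The cohomology of the torsion of `Y^• # W` is the Segre product of the cohomology of the
torsion of `Y^•` with `W`. -/
theorem exists_segre_coh [IsNoetherianRing T] :
    ∃ Φ : HW mT (segD hψ W d0 h0) (segD hψ W d1 h1) →ₗ[k] HW pR.a d0 d1 ⊗[k] W.carrier,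
      Function.Injective Φ ∧
      (∀ n : ℤ, Φ '' ((HWgr mT (segD hψ W d0 h0) (segD hψ W d1 h1) n :
          AddSubgroup (HW mT (segD hψ W d0 h0) (segD hψ W d1 h1))) :
            Set (HW mT (segD hψ W d0 h0) (segD hψ W d1 h1))) =
        ((GrSeg.segrePiece k (HWgr pR.a d0 d1) W.gr n :
          Submodule k (HW pR.a d0 d1 ⊗[k] W.carrier)) : Set (HW pR.a d0 d1 ⊗[k] W.carrier))) ∧
      ∀ (t : T) (ξ : HW mT (segD hψ W d0 h0) (segD hψ W d1 h1)),
        Φ (t • ξ) = GrSeg.act k R S (HW pR.a d0 d1) W.carrier (ψ t) (Φ ξ) := by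
  classical
  obtain ⟨r, hr'⟩ := LinearMap.exists_leftInverse_of_injective (jZ (k := k) pR W d1 h1)
    (LinearMap.ker_eq_bot.mpr (jZ_injective pR W d1 h1))
  have hr : ∀ x, r (jZ pR W d1 h1 x) = x := fun x => LinearMap.congr_fun hr' x
  have hle : (BW mT (segD hψ W d0 h0) (segD hψ W d1 h1)).restrictScalars k ≤
      LinearMap.ker (Phi0 hψ mT pR W d0 d1 h1 r) := by
    intro p hp
    exact LinearMap.mem_ker.mpr
      (Phi0_eq_zero hψ mT hmT pR hmR hDpos W d0 d1 h0 h1 s0 y₀ hy₀ θ hθ hθy r hr p hp)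
  let Φ : HW mT (segD hψ W d0 h0) (segD hψ W d1 h1) →ₗ[k] HW pR.a d0 d1 ⊗[k] W.carrier :=
    (Submodule.liftQ ((BW mT (segD hψ W d0 h0) (segD hψ W d1 h1)).restrictScalars k)
      (Phi0 hψ mT pR W d0 d1 h1 r) hle) ∘ₗ
    (Submodule.Quotient.restrictScalarsEquiv k
      (BW mT (segD hψ W d0 h0) (segD hψ W d1 h1))).symm.toLinearMap
  have hΦ : ∀ p : ↥(ZW mT (segD hψ W d1 h1)),
      Φ (Submodule.Quotient.mk p) = Phi0 hψ mT pR W d0 d1 h1 r p := fun p => rfl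
  have hA := exists_jZ_eq hψ mT hmT pR hmR hDpos W d1 h1 s1 y₀ hy₀ θ hθ hθy
  refine ⟨Φ, ?_, ?_, ?_⟩
  · refine (injective_iff_map_eq_zero Φ).mpr ?_
    intro ξ hξ
    obtain ⟨p, rfl⟩ := Submodule.Quotient.mk_surjective _ ξ
    rw [hΦ] at hξ
    exact (Submodule.Quotient.mk_eq_zero _).mpr
      (mem_BW_of_Phi0 hψ mT hmT pR hmR hDpos W d0 d1 h0 h1 s0 s1 y₀ hy₀ θ hθ hθy r hr p hξ)
  · intro n
    apply Set.Subset.antisymm
    · rintro _ ⟨ξ, hξ, rfl⟩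
      obtain ⟨p, hpn, rfl⟩ := (mem_HWgr mT).mp hξ
      rw [hΦ]
      obtain ⟨x, hx⟩ := hA p
      have hpn' : valZ hψ mT W d1 h1 p ∈ piece k Y1 W n := hpn
      have hx' : jZ pR W d1 h1 (PiN (ZG pR d1 h1) W hψ n x) = valZ hψ mT W d1 h1 p := by
        show kmap (inclZ pR d1 h1) (LinearMap.id : W.carrier →ₗ[S] W.carrier)
          (PiN (ZG pR d1 h1) W hψ n x) = _
        rw [kmap_PiN hψ (inclZ_grHom pR d1 h1) (id_grHom W.gr)]
        have h2 : kmap (inclZ pR d1 h1) (LinearMap.id : W.carrier →ₗ[S] W.carrier) x =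
            valZ hψ mT W d1 h1 p := hx
        rw [h2, PiN_same Y1 W hψ hpn']
      rw [Phi0_eq hψ mT pR W d0 d1 h1 r hr p _ hx']
      exact piZ_mem_piece pR W d0 d1 h1 (PiN_mem (ZG pR d1 h1) W hψ n x)
    · intro z hz
      refine piece_induction (HWgr pR.a d0 d1) W.gr
        (P := fun z => z ∈ Φ '' ((HWgr mT (segD hψ W d0 h0) (segD hψ W d1 h1) n :
          AddSubgroup (HW mT (segD hψ W d0 h0) (segD hψ W d1 h1))) :
            Set (HW mT (segD hψ W d0 h0) (segD hψ W d1 h1)))) ?_ ?_ ?_ ?_ hz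
      · intro a ha b hb
        obtain ⟨zz, hzz, rfl⟩ := (mem_HWgr pR.a).mp ha
        have hmem : (zz : Y1.carrier) ⊗ₜ[k] b ∈ segSub k Y1 W :=
          piece_le_segSub Y1 W n (tmul_mem_piece Y1.gr W.gr hzz hb)
        have hp0 : mkS' hψ Y1 W ((zz : Y1.carrier) ⊗ₜ[k] b) hmem ∈
            ZW mT (segD hψ W d1 h1) := by
          refine (mem_ZW mT).mpr ⟨?_, ?_⟩
          · refine (mem_gam_iff1 hψ mT hmT pR hmR hDpos s1 y₀ hy₀ θ hθ hθy _).mpr ?_
            show kmap (LinearMap.id - s1.ρ) (LinearMap.id : W.carrier →ₗ[S] W.carrier)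
              ((zz : Y1.carrier) ⊗ₜ[k] b) = 0
            rw [kmap_tmul, LinearMap.sub_apply, LinearMap.id_apply,
              s1.ρ_eq_self_iff.mpr ((mem_ZW pR.a).mp zz.2).1, sub_self, TensorProduct.zero_tmul]
          · apply Subtype.ext
            show kmap d1 (LinearMap.id : W.carrier →ₗ[S] W.carrier)
              ((zz : Y1.carrier) ⊗ₜ[k] b) = 0
            rw [kmap_tmul, ((mem_ZW pR.a).mp zz.2).2, TensorProduct.zero_tmul]
        refine ⟨Submodule.Quotient.mk ⟨_, hp0⟩, (mem_HWgr mT).mpr ⟨⟨_, hp0⟩, ?_, rfl⟩, ?_⟩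
        · show (zz : Y1.carrier) ⊗ₜ[k] b ∈ piece k Y1 W n
          exact tmul_mem_piece Y1.gr W.gr hzz hb
        · rw [hΦ]
          have hx : jZ pR W d1 h1 ((zz : (ZG pR d1 h1).carrier) ⊗ₜ[k] b) =
              valZ hψ mT W d1 h1 ⟨_, hp0⟩ := rfl
          rw [Phi0_eq hψ mT pR W d0 d1 h1 r hr _ _ hx]
          rfl
      · exact ⟨0, zero_mem _, map_zero Φ⟩
      · rintro z z' ⟨ξ, hξ, rfl⟩ ⟨ξ', hξ', rfl⟩
        exact ⟨ξ + ξ', add_mem hξ hξ', map_add Φ ξ ξ'⟩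
      · rintro c z ⟨ξ, hξ, rfl⟩
        refine ⟨c • ξ, ?_, map_smul Φ c ξ⟩
        obtain ⟨p, hpn, rfl⟩ := (mem_HWgr mT).mp hξ
        refine (mem_HWgr mT).mpr ⟨c • p, ?_, rfl⟩
        have hpn' : valZ hψ mT W d1 h1 p ∈ piece k Y1 W n := hpn
        show c • valZ hψ mT W d1 h1 p ∈ piece k Y1 W n
        exact Submodule.smul_mem _ c hpn'
  · intro t ξ
    obtain ⟨p, rfl⟩ := Submodule.Quotient.mk_surjective _ ξ
    have hsm : t • (Submodule.Quotient.mk p : HW mT (segD hψ W d0 h0) (segD hψ W d1 h1)) =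
        Submodule.Quotient.mk (t • p) := rfl
    rw [hsm, hΦ, hΦ]
    obtain ⟨x, hx⟩ := hA p
    have hx' : jZ pR W d1 h1 (GrSeg.act k R S (ZG pR d1 h1).carrier W.carrier (ψ t) x) =
        valZ hψ mT W d1 h1 (t • p) := by
      show kmap (inclZ pR d1 h1) (LinearMap.id : W.carrier →ₗ[S] W.carrier)
        (GrSeg.act k R S (ZG pR d1 h1).carrier W.carrier (ψ t) x) = _
      rw [kmap_act]
      have h2 : kmap (inclZ pR d1 h1) (LinearMap.id : W.carrier →ₗ[S] W.carrier) x =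
          valZ hψ mT W d1 h1 p := hx
      rw [h2]
      rfl
    rw [Phi0_eq hψ mT pR W d0 d1 h1 r hr (t • p) _ hx', Phi0_eq hψ mT pR W d0 d1 h1 r hr p x hx]
    exact kmap_act _ _ _ _

end core

end Groth.Agent.Lib.R2H7.SegOneCoh
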