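/-
The local cohomology of the Segre product `M # N` of a graded `R`-module `M` with a graded
`S`-module `N` on which a homogeneous element of positive degree acts bijectively:
`H^q_{T_+}(M # N) ≅ H^q_m(M) # N`.
-/
import Mathlib
import Groth.Agent.Lib.R2H7SegOneCoh
import Groth.Agent.Lib.R2H7SegConv
import Groth.Agent.Lib.R2H7GrMinRes
import Groth.Agent.Lib.R2H7GrSocle

set_option autoImplicit false
set_option maxHeartbeats 400000
open DirectSum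
open scoped TensorProduct

noncomputable section

namespace Groth.Agent.Lib.R2H7.SegOneMain

open Groth.Agent.Lib.Helper29GrEss Groth.Agent.Lib.Helper29GrHom Groth.Agent.Lib.R2H7.GrBdry
  Groth.Agent.Lib.R2H7.GrDer Groth.Agent.Lib.R2H7.GrAcyc Groth.Agent.Lib.R2H7.GrAcycW
  Groth.Agent.Lib.R2H7.GrOps Groth.Agent.Lib.R2H7.GrMinRes Groth.Agent.Lib.R2H7.GrSocle
  Groth.Agent.Lib.R2H7.SegPres Groth.Agent.Lib.R2H7.SegSpecial Groth.Agent.Lib.R2H7.SegIdem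
  Groth.Agent.Lib.R2H7.SegTors Groth.Agent.Lib.R2H7.SegSum Groth.Agent.Lib.R2H7.SegAcyc
  Groth.Agent.Lib.R2H7.SegFinal Groth.Agent.Lib.R2H7.SegConv
  Groth.Agent.Lib.R2H7.SegOne Groth.Agent.Lib.R2H7.SegOneCoh

universe u

attribute [local instance] segGModK segGTower subModK subTower

/-! ### Transport of a Segre presentation along graded isomorphisms -/

section transport

variable {k : Type u} [Field k] {R S T : Type u} [CommRing R] [CommRing S] [CommRing T]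
  [Algebra k R] [Algebra k S] [Algebra k T] (ψ : T →ₐ[k] R ⊗[k] S)
variable {HR HR' : Type u} [AddCommGroup HR] [Module R HR] [Module k HR] [IsScalarTower k R HR]
  [AddCommGroup HR'] [Module R HR'] [Module k HR'] [IsScalarTower k R HR']
  {N : Type u} [AddCommGroup N] [Module S N] [Module k N] [IsScalarTower k S N]
  {HT HT' : Type u} [AddCommGroup HT] [Module T HT] [Module k HT] [IsScalarTower k T HT]
  [AddCommGroup HT'] [Module T HT'] [Module k HT'] [IsScalarTower k T HT']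
  (𝒢R : ℤ → AddSubgroup HR) (𝒢R' : ℤ → AddSubgroup HR') (𝒩 : ℤ → AddSubgroup N)
  (𝒢T : ℤ → AddSubgroup HT) (𝒢T' : ℤ → AddSubgroup HT') [DirectSum.Decomposition 𝒢T']

theorem kmap_mem_segrePiece (f : HR →ₗ[R] HR') (hf : ∀ n a, a ∈ 𝒢R n → f a ∈ 𝒢R' n) {n : ℤ}
    {z : HR ⊗[k] N} (hz : z ∈ GrSeg.segrePiece k 𝒢R 𝒩 n) :
    kmap f (LinearMap.id : N →ₗ[S] N) z ∈ GrSeg.segrePiece k 𝒢R' 𝒩 n := by
  refine piece_induction 𝒢R 𝒩
    (P := fun z => kmap f (LinearMap.id : N →ₗ[S] N) z ∈ GrSeg.segrePiece k 𝒢R' 𝒩 n)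
    ?_ ?_ ?_ ?_ hz
  · intro a ha b hb
    exact tmul_mem_piece 𝒢R' 𝒩 (hf n a ha) hb
  · rw [map_zero]
    exact zero_mem _
  · intro z z' h h'
    rw [map_add]
    exact add_mem h h'
  · intro c z h
    rw [map_smul]
    exact Submodule.smul_mem _ c h

theorem isSegreMod_transport (Φ : HT →ₗ[k] HR ⊗[k] N) (hinj : Function.Injective Φ)
    (himg : ∀ n : ℤ, Φ '' (𝒢T n : Set HT) = (GrSeg.segrePiece k 𝒢R 𝒩 n : Set (HR ⊗[k] N)))
    (hsm : ∀ (t : T) (ξ : HT), Φ (t • ξ) = GrSeg.act k R S HR N (ψ t) (Φ ξ))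
    (eT : HT ≃ₗ[T] HT') (heT : ∀ (n : ℤ) (ξ : HT), ξ ∈ 𝒢T n ↔ eT ξ ∈ 𝒢T' n)
    (eR : HR ≃ₗ[R] HR') (heR : ∀ (n : ℤ) (ξ : HR), ξ ∈ 𝒢R n ↔ eR ξ ∈ 𝒢R' n) :
    ∃ φ' : HT' →ₗ[k] HR' ⊗[k] N, GrSeg.IsSegreMod ψ 𝒢R' 𝒩 𝒢T' φ' := by
  refine ⟨(kmap eR.toLinearMap (LinearMap.id : N →ₗ[S] N)) ∘ₗ Φ ∘ₗ
    (eT.symm.toLinearMap.restrictScalars k), ?_, ?_, ?_⟩
  · intro x y hxy
    have h1 : Φ (eT.symm x) = Φ (eT.symm y) :=
      kmap_injective N eR.toLinearMap eR.injective hxy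
    exact eT.symm.injective (hinj h1)
  · intro n
    apply Set.Subset.antisymm
    · rintro _ ⟨ξ', hξ', rfl⟩
      have h1 : eT.symm ξ' ∈ 𝒢T n := (heT n _).mpr (by rw [eT.apply_symm_apply]; exact hξ')
      have h2 : Φ (eT.symm ξ') ∈ GrSeg.segrePiece k 𝒢R 𝒩 n := by
        have h3 : Φ (eT.symm ξ') ∈ Φ '' (𝒢T n : Set HT) := ⟨_, h1, rfl⟩
        rw [himg n] at h3
        exact h3
      exact kmap_mem_segrePiece 𝒢R 𝒢R' 𝒩 eR.toLinearMap (fun n a ha => (heR n a).mp ha) h2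
    · intro z hz
      have h1 : kmap eR.symm.toLinearMap (LinearMap.id : N →ₗ[S] N) z ∈
          GrSeg.segrePiece k 𝒢R 𝒩 n :=
        kmap_mem_segrePiece 𝒢R' 𝒢R 𝒩 eR.symm.toLinearMap
          (fun n a ha => (heR n _).mpr (by
            show eR (eR.symm a) ∈ 𝒢R' n
            rw [eR.apply_symm_apply]
            exact ha)) hz
      have h2 : kmap eR.symm.toLinearMap (LinearMap.id : N →ₗ[S] N) z ∈
          Φ '' (𝒢T n : Set HT) := by
        rw [himg n]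
        exact h1
      obtain ⟨ξ, hξ, hξz⟩ := h2
      refine ⟨eT ξ, (heT n ξ).mp hξ, ?_⟩
      show kmap eR.toLinearMap (LinearMap.id : N →ₗ[S] N) (Φ (eT.symm (eT ξ))) = z
      rw [eT.symm_apply_apply, hξz, ← kmap_comp_id]
      have h3 : eR.toLinearMap ∘ₗ eR.symm.toLinearMap = LinearMap.id :=
        LinearMap.ext fun a => eR.apply_symm_apply a
      rw [h3, kmap_id_id]
  · intro t p
    show kmap eR.toLinearMap (LinearMap.id : N →ₗ[S] N) (Φ (eT.symm (t • p))) =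
      GrSeg.act k R S HR' N (ψ t)
        (kmap eR.toLinearMap (LinearMap.id : N →ₗ[S] N) (Φ (eT.symm p)))
    rw [map_smul, hsm, kmap_act]

end transport

/-! ### The main theorem over rings graded by additive subgroups -/

section AS

variable {k : Type u} [Field k] {R S T : Type u} [CommRing R] [CommRing S] [CommRing T]
  [Algebra k R] [Algebra k S] [Algebra k T]
variable {𝒜 : ℤ → AddSubgroup R} [GradedRing 𝒜] {ℬ : ℤ → AddSubgroup S} [GradedRing ℬ]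
  {𝒯 : ℤ → AddSubgroup T} [GradedRing 𝒯] {ψ : T →ₐ[k] R ⊗[k] S}

/-- The cohomology of the torsion of a piece of a *injective resolution is the local
cohomology. -/
theorem exists_eR {M : GrLC.GMod.{u} 𝒜} (a : HomogeneousIdeal 𝒜)
    (E EM : GrLC.StarInjRes 𝒜 M.gr) (q : ℕ) {Y0 : GrLC.GMod.{u} 𝒜}
    (d0 : Y0.carrier →ₗ[R] (E.X q).carrier)
    (hB : ∀ z : ↥(ZW a (E.d q)), z ∈ BW a d0 (E.d q) ↔ (z : (E.X q).carrier) ∈ E.cobdy a q) :
    ∃ eR : HW a d0 (E.d q) ≃ₗ[R] EM.H a q,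
      ∀ (n : ℤ) (ξ : HW a d0 (E.d q)), ξ ∈ HWgr a d0 (E.d q) n ↔ eR ξ ∈ EM.Hgr a q n := by
  have hBeq : BW a d0 (E.d q) = (E.cobdy a q).comap (E.cocyc a q).subtype :=
    Submodule.ext fun z => hB z
  let e1 : HW a d0 (E.d q) ≃ₗ[R] E.H a q := Submodule.quotEquivOfEq _ _ hBeq
  have he1 : ∀ z : ↥(ZW a (E.d q)),
      e1 (Submodule.Quotient.mk z) = (Submodule.Quotient.mk z : E.H a q) := fun z => rfl
  refine ⟨e1.trans (hEquiv a E EM q), fun n ξ => ⟨?_, ?_⟩⟩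
  · rintro ⟨z, hz, rfl⟩
    show hEquiv a E EM q (e1 (Submodule.Quotient.mk z)) ∈ EM.Hgr a q n
    rw [he1]
    exact hEquiv_mem a E EM q n ⟨z, hz, rfl⟩
  · intro h
    have h2 := hEquiv_symm_mem a E EM q n h
    have h3 : (hEquiv a E EM q).symm ((e1.trans (hEquiv a E EM q)) ξ) = e1 ξ :=
      (hEquiv a E EM q).symm_apply_apply _
    rw [h3] at h2
    obtain ⟨z, hz, hzξ⟩ := h2
    refine ⟨z, hz, ?_⟩
    apply e1.injective
    rw [he1]
    exact hzξ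

variable (hψ : SegCtx 𝒜 ℬ 𝒯 ψ) [IsNoetherianRing R] [IsNoetherianRing T]
  (mT : HomogeneousIdeal 𝒯)
  (hmT : mT.toIdeal = Ideal.span (⋃ n ∈ Set.Ioi (0 : ℤ), (𝒯 n : Set T)))

include hmT in
/-- The main theorem, for a special resolution of `M`. -/
theorem segre_one_res (pR : SpParam 𝒜)
    (hmR : ∀ j : ℤ, 0 < j → ∀ r ∈ 𝒜 j, r ∈ pR.a.toIdeal) (hDpos : 0 < pR.D)
    (M : GrLC.GMod.{u} 𝒜) (N : GrLC.GMod.{u} ℬ)
    [Module k M.carrier] [IsScalarTower k R M.carrier]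
    [Module k N.carrier] [IsScalarTower k S N.carrier]
    (y₀ : S) (hy₀ : y₀ ∈ ℬ pR.D) (θ : N.carrier →ₗ[S] N.carrier)
    (hθ : GrLC.IsGrHomDeg N.gr N.gr θ (-pR.D)) (hθy : ∀ w, θ (y₀ • w) = w)
    (E : GrLC.StarInjRes 𝒜 M.gr) [∀ n, Module k (E.X n).carrier]
    [∀ n, IsScalarTower k R (E.X n).carrier] (sE : ∀ n, SpStr pR (E.X n))
    (EM : GrLC.StarInjRes 𝒜 M.gr) (F : GrLC.StarInjRes 𝒯 (segG M N hψ).gr) (q : ℕ)
    [mkR : Module k (EM.H pR.a q)] [twR : IsScalarTower k R (EM.H pR.a q)]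
    [mkT : Module k (F.H mT q)] [twT : IsScalarTower k T (F.H mT q)]
    [dcT : DirectSum.Decomposition (F.Hgr mT q)] :
    ∃ φ' : F.H mT q →ₗ[k] EM.H pR.a q ⊗[k] N.carrier,
      GrSeg.IsSegreMod ψ (EM.Hgr pR.a q) N.gr (F.Hgr mT q) φ' := by
  classical
  have hac : ∀ (n l : ℕ) (g' : ℤ), VanX mT ((segResOne hψ E N).A n) (l + 1) g' :=
    fun n l g' => vanX_one hψ mT hmT pR hmR hDpos (sE n) y₀ hy₀ θ hθ hθy l g'
  have hind : iSupIndep (F.Hgr mT q) := hgr_indep mT F q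
  cases q with
  | zero =>
    have h00 : GrLC.IsGrHom (E.X 0).gr (E.X 0).gr
        (0 : (E.X 0).carrier →ₗ[R] (E.X 0).carrier) := fun _ _ _ => zero_mem _
    obtain ⟨eT, heT⟩ := exists_acycW_zero mT (segResOne hψ E N) F
      (segD hψ N (0 : (E.X 0).carrier →ₗ[R] (E.X 0).carrier) h00)
      (fun y => Subtype.ext (kmap_zero_id N.carrier y.1)) hind
    obtain ⟨Φ, hinj, himg, hsm⟩ := exists_segre_coh hψ mT hmT pR hmR hDpos N
      (0 : (E.X 0).carrier →ₗ[R] (E.X 0).carrier) (E.d 0) h00 (E.d_grHom 0) (sE 0) (sE 0)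
      y₀ hy₀ θ hθ hθy
    obtain ⟨eR, heR⟩ := exists_eR pR.a E EM 0 (0 : (E.X 0).carrier →ₗ[R] (E.X 0).carrier)
      (fun z => ⟨fun ⟨w, _, hw⟩ => (Submodule.mem_bot R).mpr hw.symm,
        fun hz => ⟨0, zero_mem _, by rw [map_zero]; exact ((Submodule.mem_bot R).mp hz).symm⟩⟩)
    exact isSegreMod_transport ψ (HWgr pR.a _ (E.d 0)) (EM.Hgr pR.a 0) N.gr
      (HWgr mT _ _) (F.Hgr mT 0) Φ hinj himg hsm eT heT eR heR
  | succ n =>
    obtain ⟨eT, heT⟩ := exists_acycW_succ mT (segResOne hψ E N) F n hac hind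
    obtain ⟨Φ, hinj, himg, hsm⟩ := exists_segre_coh hψ mT hmT pR hmR hDpos N
      (E.d n) (E.d (n + 1)) (E.d_grHom n) (E.d_grHom (n + 1)) (sE n) (sE (n + 1))
      y₀ hy₀ θ hθ hθy
    obtain ⟨eR, heR⟩ := exists_eR pR.a E EM (n + 1) (E.d n) (fun z => Iff.rfl)
    exact isSegreMod_transport ψ (HWgr pR.a _ (E.d (n + 1))) (EM.Hgr pR.a (n + 1)) N.gr
      (HWgr mT _ _) (F.Hgr mT (n + 1)) Φ hinj himg hsm eT heT eR heR

include hmT in
/-- The main theorem over rings graded by additive subgroups. -/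
theorem segre_one_AS (mR : HomogeneousIdeal 𝒜)
    (hmR : mR.toIdeal = Ideal.span (⋃ n ∈ Set.Ioi (0 : ℤ), (𝒜 n : Set R)))
    (M : GrLC.GMod.{u} 𝒜) (N : GrLC.GMod.{u} ℬ)
    [Module k M.carrier] [IsScalarTower k R M.carrier]
    [Module k N.carrier] [IsScalarTower k S N.carrier]
    (e : ℕ) (he : 0 < e) (g : S) (hg : g ∈ ℬ (e : ℤ))
    (hgN : Function.Bijective (fun y : N.carrier => g • y))
    (EM : GrLC.StarInjRes 𝒜 M.gr) (F : GrLC.StarInjRes 𝒯 (segG M N hψ).gr) (q : ℕ)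
    [mkR : Module k (EM.H mR q)] [twR : IsScalarTower k R (EM.H mR q)]
    [mkT : Module k (F.H mT q)] [twT : IsScalarTower k T (F.H mT q)]
    [dcT : DirectSum.Decomposition (F.Hgr mT q)] :
    ∃ φ' : F.H mT q →ₗ[k] EM.H mR q ⊗[k] N.carrier,
      GrSeg.IsSegreMod ψ (EM.Hgr mR q) N.gr (F.Hgr mT q) φ' := by
  classical
  obtain ⟨p₀, hp₀a, hp₀D⟩ := exists_spParam mR hmR
  subst hp₀a
  have hDeq : (powParam p₀ e he).D = (e : ℤ) * p₀.D := by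
    show e • p₀.D = _
    rw [nsmul_eq_mul]
  have hDpos : 0 < (powParam p₀ e he).D := by
    rw [hDeq]
    exact mul_pos (by exact_mod_cast he) hp₀D
  have hmR' : ∀ j : ℤ, 0 < j → ∀ r ∈ 𝒜 j, r ∈ (powParam p₀ e he).a.toIdeal := by
    intro j hj r hr
    show r ∈ p₀.a.toIdeal
    rw [hmR]
    exact Ideal.subset_span (Set.mem_iUnion₂.mpr ⟨j, hj, hr⟩)
  have hy₀ : g ^ p₀.D.toNat ∈ ℬ (powParam p₀ e he).D := by
    have h1 := SetLike.pow_mem_graded p₀.D.toNat hg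
    have h2 : p₀.D.toNat • (e : ℤ) = (powParam p₀ e he).D := by
      rw [hDeq, nsmul_eq_mul, Int.toNat_of_nonneg hp₀D.le, mul_comm]
    rwa [h2] at h1
  obtain ⟨θ, hθ, hθy⟩ := exists_inv_grHomDeg N hy₀ (bijective_pow_smul g hgN p₀.D.toNat)
  letI instK : ∀ n, Module k ((spRes (powParam p₀ e he) M).X n).carrier :=
    fun n => Module.compHom _ (algebraMap k R)
  haveI instTw : ∀ n, IsScalarTower k R ((spRes (powParam p₀ e he) M).X n).carrier :=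
    fun n => IsScalarTower.of_algebraMap_smul (fun _ _ => rfl)
  exact segre_one_res hψ mT hmT (powParam p₀ e he) hmR' hDpos M N (g ^ p₀.D.toNat) hy₀ θ hθ hθy
    (spRes (powParam p₀ e he) M) (spResStr (powParam p₀ e he) M) EM F q
    (mkR := mkR) (twR := twR) (mkT := mkT) (twT := twT) (dcT := dcT)

end AS

/-! ### The main theorem -/

section main

/-- `H^q_{T_+}(M # N) ≅ H^q_m(M) # N` when a homogeneous element of positive degree acts
bijectively on `N`. -/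
theorem segre_one (k : Type u) [Field k] (R : Type u) [CommRing R] [Algebra k R]
    (𝒜 : ℤ → Submodule k R) [GradedAlgebra 𝒜] (hposR : ∀ n : ℤ, n < 0 → 𝒜 n = ⊥)
    (h0R : 𝒜 0 = Submodule.span k {(1 : R)}) [Algebra.FiniteType k R] (S : Type u) [CommRing S]
    [Algebra k S] (ℬ : ℤ → Submodule k S) [GradedAlgebra ℬ]
    (hposS : ∀ n : ℤ, n < 0 → ℬ n = ⊥) (h0S : ℬ 0 = Submodule.span k {(1 : S)})
    [Algebra.FiniteType k S] (T : Type u) [CommRing T] [Algebra k T] (𝒯 : ℤ → Submodule k T)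
    [GradedAlgebra 𝒯] (ψ : T →ₐ[k] TensorProduct k R S) (hT : GrSeg.IsSegreRing 𝒜 ℬ 𝒯 ψ)
    (mR : HomogeneousIdeal 𝒜)
    (hmR : mR.toIdeal = Ideal.span (⋃ n ∈ Set.Ioi (0 : ℤ), (𝒜 n : Set R)))
    (mT : HomogeneousIdeal 𝒯)
    (hmT : mT.toIdeal = Ideal.span (⋃ n ∈ Set.Ioi (0 : ℤ), (𝒯 n : Set T)))
    (M : Type u) [AddCommGroup M] [Module R M] [Module k M] [IsScalarTower k R M]
    (ℳ : ℤ → AddSubgroup M) [DirectSum.Decomposition ℳ] [SetLike.GradedSMul 𝒜 ℳ]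
    (EM : GrLC.StarInjRes 𝒜 ℳ) (N : Type u) [AddCommGroup N] [Module S N] [Module k N]
    [IsScalarTower k S N] (𝒩 : ℤ → AddSubgroup N) [DirectSum.Decomposition 𝒩]
    [SetLike.GradedSMul ℬ 𝒩] (e : ℕ) (he : 0 < e) (g : S) (hg : g ∈ ℬ (e : ℤ))
    (hgN : Function.Bijective (fun y : N => g • y)) (P : Type u) [AddCommGroup P] [Module T P]
    [Module k P] [IsScalarTower k T P] (𝒬 : ℤ → AddSubgroup P) [DirectSum.Decomposition 𝒬]
    [SetLike.GradedSMul 𝒯 𝒬] (φ : P →ₗ[k] TensorProduct k M N)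
    (hP : GrSeg.IsSegreMod ψ ℳ 𝒩 𝒬 φ) (EP : GrLC.StarInjRes 𝒯 𝒬) (q : ℕ)
    [mkR : Module k (EM.H mR q)] [twR : IsScalarTower k R (EM.H mR q)]
    [mkT : Module k (EP.H mT q)] [twT : IsScalarTower k T (EP.H mT q)]
    [dcT : DirectSum.Decomposition (EP.Hgr mT q)] :
    ∃ φ' : EP.H mT q →ₗ[k] TensorProduct k (EM.H mR q) N,
      GrSeg.IsSegreMod ψ (EM.Hgr mR q) 𝒩 (EP.Hgr mT q) φ' := by
  classical
  haveI : IsNoetherianRing R := Algebra.FiniteType.isNoetherianRing k R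
  haveI : IsNoetherianRing T :=
    Groth.Agent.S18646.result k R 𝒜 hposR h0R S ℬ hposS h0S T 𝒯 ψ hT.1 hT.2
  have hψ' := segCtx_of 𝒜 ℬ 𝒯 ψ hT
  exact segre_one_AS hψ' (convIdeal 𝒯 mT) hmT (convIdeal 𝒜 mR) hmR
    (toGMod 𝒜 ℳ) (toGMod ℬ 𝒩) e he g hg hgN (convRes 𝒜 ℳ EM)
    (transRes (segIso 𝒜 ℬ 𝒯 ℳ 𝒩 𝒬 hP hψ') (segIso_grHom 𝒜 ℬ 𝒯 ℳ 𝒩 𝒬 hP hψ')
      (convRes 𝒯 𝒬 EP)) q
    (mkR := mkR) (twR := twR) (mkT := mkT) (twT := twT) (dcT := dcT)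

end main

end Groth.Agent.Lib.R2H7.SegOneMain
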