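import Mathlib
import Groth.Agent.Lib.R2H7GLLiftB

/-!
# R2H7SepSplit: groups of multiplicative type of finite type over a field are isotrivial

* `geomDiag`: over a field `k`, a Hopf algebra of finite type and of multiplicative type is spanned
  by group-like elements after base change to the algebraic closure.
* `nil_ker_lmul`: for a purely inseparable extension `E / F`, the kernel of `E ⊗[F] E → E` is nil.
* `isDiagonalizable_of_purelyInseparable`: diagonalisability descends along purely inseparable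
  extensions.
* `exists_finite_isDiagonalizable`: for an algebraic extension `K / k` and `A` of finite type,
  diagonalisability of `K ⊗ A` holds over a finite subextension.
* `exists_finite_separable_split`: the splitting field can be taken finite separable.
-/

set_option autoImplicit false
universe u

namespace Groth.Agent.Lib.R2H7.SepSplit

open TensorProduct Coalgebra Groth.Agent.Lib.Helper25 Groth.Agent.Lib.R2H7.GLLiftB SGA3b

section Geom

variable (k : Type u) [Field k] (A : Type u) [CommRing A] [HopfAlgebra k A]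

theorem geomDiag [Algebra.FiniteType k A] (h : IsMultType k A) :
    HopfRep.IsDiagonalizable (AlgebraicClosure k) (AlgebraicClosure k ⊗[k] A) := by
  obtain ⟨K, _, _, hD⟩ := BCB.exists_field_isDiag k A (BCB.isMultTypeConst_of_isMultType k A h)
  have hDz : HopfRep.IsDiagonalizable K (K ⊗[k] A) := BCB.isDiagonalizable_of_isDiag hD
  haveI : Coalgebra.IsCocomm K (K ⊗[k] A) := isCocomm_of_isDiagonalizable hDz
  have hc : Coalgebra.IsCocomm k A := isCocomm_of_baseChange k K A
  have hp := noPrim_of_baseChange k K A (fun x hx => prim_eq_zero_of_isDiagonalizable hDz x hx)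
  exact (Groth.Agent.S7979.result k A).mpr ⟨hc, hp⟩

theorem isDiagFT_of_isDiagonalizable {K : Type u} [Field K] {H : Type u} [CommRing H]
    [HopfAlgebra K H] [Algebra.FiniteType K H] (h : HopfRep.IsDiagonalizable K H) :
    IsDiagFT K H := by
  obtain ⟨M, _, ⟨e⟩⟩ := HopfSub.isDiag_of_isDiagonalizable h
  refine ⟨M, inferInstance, ?_, ⟨e⟩⟩
  have h1 : Algebra.FiniteType K (MonoidAlgebra K M) :=
    Algebra.FiniteType.equiv (inferInstance : Algebra.FiniteType K H) (e : H ≃ₐ[K] MonoidAlgebra K M)
  exact MonoidAlgebra.finiteType_iff_group_fg.mp h1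

end Geom

section Insep

variable (F : Type u) [Field F] (E : Type u) [Field E] [Algebra F E]

theorem nil_ker_lmul [IsPurelyInseparable F E] :
    ∀ z ∈ KaehlerDifferential.ideal F E, IsNilpotent z := by
  intro z hz
  obtain ⟨q, hq⟩ := ExpChar.exists F
  haveI := hq
  haveI : Nontrivial (E ⊗[F] E) :=
    (Algebra.TensorProduct.lmul' F : E ⊗[F] E →ₐ[F] E).toRingHom.domain_nontrivial
  haveI : ExpChar (E ⊗[F] E) q :=
    expChar_of_injective_algebraMap (algebraMap F (E ⊗[F] E)).injective q
  rw [← KaehlerDifferential.span_range_eq_ideal] at hz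
  have hle : Ideal.span (Set.range fun s : E => (1 : E) ⊗ₜ[F] s - s ⊗ₜ[F] (1 : E)) ≤
      nilradical (E ⊗[F] E) := by
    rw [Ideal.span_le]
    rintro _ ⟨s, rfl⟩
    obtain ⟨n, c, hc⟩ := IsPurelyInseparable.pow_mem F q s
    refine mem_nilradical.mpr ⟨q ^ n, ?_⟩
    rw [sub_pow_expChar_pow, Algebra.TensorProduct.tmul_pow, Algebra.TensorProduct.tmul_pow,
      one_pow, ← hc, Algebra.algebraMap_eq_smul_one, TensorProduct.tmul_smul,
      TensorProduct.smul_tmul', sub_self]
  exact mem_nilradical.mp (hle hz)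

variable (B : Type u) [CommRing B] [HopfAlgebra F B]

theorem mem_smul_top_of_Hmap_eq_zero {S T : Type u} [CommRing S] [CommRing T] [Algebra F S]
    [Algebra F T] (μ : S →ₐ[F] T) (hμ : Function.Surjective μ) (K : Ideal S)
    (hK : ∀ s, μ s = 0 → s ∈ K) (z : S ⊗[F] B) (hz : Hmap B μ z = 0) :
    z ∈ K • (⊤ : Submodule S (S ⊗[F] B)) := by
  have h1 := rTensor_exact B (LinearMap.exact_subtype_ker_map μ.toLinearMap) hμ
  have hz' : LinearMap.rTensor B μ.toLinearMap z = 0 := by
    rw [← Hmap_eq_rTensor B]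
    exact hz
  have key : ∀ w : (LinearMap.ker μ.toLinearMap) ⊗[F] B,
      LinearMap.rTensor B (LinearMap.ker μ.toLinearMap).subtype w ∈
        K • (⊤ : Submodule S (S ⊗[F] B)) := by
    intro w
    induction w using TensorProduct.induction_on with
    | zero => simp
    | tmul κ b =>
      rw [LinearMap.rTensor_tmul]
      have h2 : ((LinearMap.ker μ.toLinearMap).subtype κ) ⊗ₜ[F] b =
          (κ : S) • ((1 : S) ⊗ₜ[F] b) := by
        rw [TensorProduct.smul_tmul', smul_eq_mul, mul_one]
        rfl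
      rw [h2]
      exact Submodule.smul_mem_smul (hK _ κ.2) Submodule.mem_top
    | add x y hx hy =>
      rw [map_add]
      exact add_mem hx hy
  obtain ⟨w, rfl⟩ := (h1 z).mp hz'
  exact key w

theorem Hmap_lmul_includeLeft (g : E ⊗[F] B) :
    Hmap B (Algebra.TensorProduct.lmul' F : E ⊗[F] E →ₐ[F] E)
      (Hmap B (Algebra.TensorProduct.includeLeft : E →ₐ[F] E ⊗[F] E) g) = g := by
  induction g using TensorProduct.induction_on with
  | zero => simp
  | tmul e b => simp [Hmap]
  | add x y hx hy => rw [map_add, map_add, hx, hy]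

theorem Hmap_lmul_includeRight (g : E ⊗[F] B) :
    Hmap B (Algebra.TensorProduct.lmul' F : E ⊗[F] E →ₐ[F] E)
      (Hmap B (Algebra.TensorProduct.includeRight : E →ₐ[F] E ⊗[F] E) g) = g := by
  induction g using TensorProduct.induction_on with
  | zero => simp
  | tmul e b => simp [Hmap]
  | add x y hx hy => rw [map_add, map_add, hx, hy]

/-- Group-like elements descend along purely inseparable extensions, for geometrically
diagonalisable Hopf algebras. -/
theorem exists_groupLike_descent [IsPurelyInseparable F E]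
    (hD : HopfRep.IsDiagonalizable E (E ⊗[F] B)) (g : E ⊗[F] B) (hg : IsGroupLikeElem E g) :
    ∃ g₀ : B, IsGroupLikeElem F g₀ ∧ (1 : E) ⊗ₜ[F] g₀ = g := by
  have hDiag : IsDiag E (E ⊗[F] B) := HopfSub.isDiag_of_isDiagonalizable hD
  have hD2 : IsDiag (E ⊗[F] E) ((E ⊗[F] E) ⊗[F] B) :=
    BCB.isDiag_baseChange_of_tower F B E (E ⊗[F] E) hDiag
  have hU : UniqGL (E ⊗[F] E) ((E ⊗[F] E) ⊗[F] B) (KaehlerDifferential.ideal F E) :=
    uniqGL_of_noPrimMod (MRB.noPrimMod_of_isDiag _ _ hD2) _ (nil_ker_lmul F E)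
  set q₁ : E →ₐ[F] E ⊗[F] E := Algebra.TensorProduct.includeLeft with hq₁
  set q₂ : E →ₐ[F] E ⊗[F] E := Algebra.TensorProduct.includeRight with hq₂
  have hG₁ : IsGroupLikeElem (E ⊗[F] E) (Hmap B q₁ g) := isGroupLikeElem_map q₁ hg
  have hG₂ : IsGroupLikeElem (E ⊗[F] E) (Hmap B q₂ g) := isGroupLikeElem_map q₂ hg
  have hd : Hmap B q₁ g - Hmap B q₂ g ∈
      (KaehlerDifferential.ideal F E) • (⊤ : Submodule (E ⊗[F] E) ((E ⊗[F] E) ⊗[F] B)) := by
    apply mem_smul_top_of_Hmap_eq_zero F B (Algebra.TensorProduct.lmul' F : E ⊗[F] E →ₐ[F] E)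
      (fun e => ⟨e ⊗ₜ[F] 1, by simp⟩) _ (fun s hs => hs)
    rw [map_sub, Hmap_lmul_includeLeft, Hmap_lmul_includeRight, sub_self]
  have heq : Hmap B q₁ g = Hmap B q₂ g := hU _ _ hG₁ hG₂ hd
  have hmem : g ∈ LinearMap.range (TensorProduct.mk F E B 1) := by
    apply Groth.Agent.Lib.Helper22.amitsur_mem_range
    rw [← assoc_Hmap_includeRight, ← assoc_Hmap_includeLeft, heq]
  obtain ⟨g₀, hg₀⟩ := hmem
  rw [TensorProduct.mk_apply] at hg₀
  subst hg₀
  exact ⟨g₀, isGroupLikeElem_of_one_tmul E hg, rfl⟩

/-- Diagonalisability descends along purely inseparable field extensions. -/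
theorem isDiagonalizable_of_purelyInseparable [IsPurelyInseparable F E]
    (hD : HopfRep.IsDiagonalizable E (E ⊗[F] B)) : HopfRep.IsDiagonalizable F B := by
  have hD' := hD
  unfold HopfRep.IsDiagonalizable at hD' ⊢
  set V : Submodule F B := Submodule.span F {a : B | IsGroupLikeElem F a} with hV
  have hr : (⊤ : Submodule E (E ⊗[F] B)) ≤ LinearMap.range (V.subtype.baseChange E) := by
    rw [← hD', Submodule.span_le]
    intro g hg
    obtain ⟨g₀, hg₀, rfl⟩ := exists_groupLike_descent F E B hD g hg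
    exact ⟨(1 : E) ⊗ₜ[F] ⟨g₀, Submodule.subset_span hg₀⟩, by simp⟩
  have hsurj : Function.Surjective (LinearMap.lTensor E V.subtype) := by
    intro y
    obtain ⟨x, hx⟩ := hr (Submodule.mem_top : y ∈ ⊤)
    exact ⟨x, hx⟩
  have h2 := (Module.FaithfullyFlat.lTensor_surjective_iff_surjective F E V.subtype).mp hsurj
  rw [eq_top_iff]
  intro b _
  obtain ⟨v, rfl⟩ := h2 b
  exact v.2

end Insep

section Spread

variable (k : Type u) [Field k] (K : Type u) [Field K] [Algebra k K]
  (A : Type u) [CommRing A] [HopfAlgebra k A]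

/-- `L ⊗ A → K ⊗ A` for an intermediate field `L`. -/
noncomputable abbrev up (L : IntermediateField k K) : L ⊗[k] A →ₐ[k] K ⊗[k] A := Hmap A L.val

theorem up_injective (L : IntermediateField k K) : Function.Injective (up k K A L) := by
  have h : ⇑(up k K A L) = ⇑(LinearMap.rTensor A L.val.toLinearMap) :=
    funext (Hmap_eq_rTensor A L.val)
  rw [h]
  exact Module.Flat.rTensor_preserves_injective_linearMap _ Subtype.val_injective

theorem up_inclusion {L L' : IntermediateField k K} (h : L ≤ L') (x : L ⊗[k] A) :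
    up k K A L' (Hmap A (IntermediateField.inclusion h) x) = up k K A L x := by
  induction x using TensorProduct.induction_on with
  | zero => simp
  | tmul c a => simp [Hmap]
  | add x y hx hy => rw [map_add, map_add, hx, hy, map_add]

theorem range_up_mono {L L' : IntermediateField k K} (h : L ≤ L') :
    Set.range (up k K A L) ⊆ Set.range (up k K A L') := by
  rintro _ ⟨x, rfl⟩
  exact ⟨Hmap A (IntermediateField.inclusion h) x, up_inclusion k K A h x⟩

theorem exists_finite_mem_range [Algebra.IsAlgebraic k K] (x : K ⊗[k] A) :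
    ∃ L : IntermediateField k K, FiniteDimensional k L ∧ x ∈ Set.range (up k K A L) := by
  induction x using TensorProduct.induction_on with
  | zero => exact ⟨⊥, inferInstance, ⟨0, map_zero _⟩⟩
  | tmul c a =>
    refine ⟨IntermediateField.adjoin k {c}, IntermediateField.adjoin.finiteDimensional
      (Algebra.IsAlgebraic.isAlgebraic c).isIntegral,
      ⟨(⟨c, IntermediateField.mem_adjoin_simple_self k c⟩ : IntermediateField.adjoin k {c}) ⊗ₜ[k] a,
        ?_⟩⟩
    simp [Hmap]
  | add x y hx hy =>
    obtain ⟨L₁, h1, hx⟩ := hx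
    obtain ⟨L₂, h2, hy⟩ := hy
    refine ⟨L₁ ⊔ L₂, inferInstance, ?_⟩
    obtain ⟨x', rfl⟩ := range_up_mono k K A (le_sup_left : L₁ ≤ L₁ ⊔ L₂) hx
    obtain ⟨y', rfl⟩ := range_up_mono k K A (le_sup_right : L₂ ≤ L₁ ⊔ L₂) hy
    exact ⟨x' + y', map_add _ _ _⟩

theorem exists_finite_forall_mem_range [Algebra.IsAlgebraic k K] (X : Finset (K ⊗[k] A))
    (C : Finset K) :
    ∃ L : IntermediateField k K, FiniteDimensional k L ∧ (∀ c ∈ C, c ∈ L) ∧
      ∀ x ∈ X, x ∈ Set.range (up k K A L) := by
  classical
  induction X using Finset.induction_on with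
  | empty =>
    refine ⟨IntermediateField.adjoin k (C : Set K), ?_,
      fun c hc => IntermediateField.subset_adjoin k _ hc, by simp⟩
    exact IntermediateField.finiteDimensional_adjoin
      (fun x _ => (Algebra.IsAlgebraic.isAlgebraic x).isIntegral)
  | insert x X hx ih =>
    obtain ⟨L₁, h1, hC, hX⟩ := ih
    obtain ⟨L₂, h2, hx2⟩ := exists_finite_mem_range k K A x
    refine ⟨L₁ ⊔ L₂, inferInstance, fun c hc => (le_sup_left : L₁ ≤ L₁ ⊔ L₂) (hC c hc), ?_⟩
    intro y hy
    rw [Finset.mem_insert] at hy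
    rcases hy with rfl | hy
    · exact range_up_mono k K A le_sup_right hx2
    · exact range_up_mono k K A le_sup_left (hX y hy)

theorem isGroupLikeElem_of_up (L : IntermediateField k K) (g' : L ⊗[k] A)
    (hg : IsGroupLikeElem K (up k K A L g')) : IsGroupLikeElem L g' := by
  refine isGroupLikeElem_of_one_tmul (S := L) K (B := L ⊗[k] A) ?_
  have h1 : BCB.cancelBC k L K A ((1 : K) ⊗ₜ[L] g') = up k K A L g' :=
    cancelBC_one_tmul L.val (fun _ => rfl) g'
  have h2 : (1 : K) ⊗ₜ[L] g' = (BCB.cancelBC k L K A).symm (up k K A L g') := by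
    rw [← h1, BialgEquiv.symm_apply_apply]
  rw [h2]
  exact hg.map (BCB.cancelBC k L K A).symm

theorem mul_mem_span_groupLike {R : Type u} [CommRing R] {H : Type u} [CommRing H]
    [Bialgebra R H] {x y : H}
    (hx : x ∈ Submodule.span R {a : H | IsGroupLikeElem R a})
    (hy : y ∈ Submodule.span R {a : H | IsGroupLikeElem R a}) :
    x * y ∈ Submodule.span R {a : H | IsGroupLikeElem R a} := by
  have h := Submodule.mul_mem_mul hx hy
  rw [Submodule.span_mul_span] at h
  refine Submodule.span_mono ?_ h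
  rintro _ ⟨a, ha, b, hb, rfl⟩
  exact ha.mul hb

/-- Diagonalisability over an algebraic extension holds over a finite subextension. -/
theorem exists_finite_isDiagonalizable [Algebra.IsAlgebraic k K] [Algebra.FiniteType k A]
    (hD : HopfRep.IsDiagonalizable K (K ⊗[k] A)) :
    ∃ L : IntermediateField k K, FiniteDimensional k L ∧
      HopfRep.IsDiagonalizable L (L ⊗[k] A) := by
  classical
  obtain ⟨s, hs⟩ := (Algebra.FiniteType.out : (⊤ : Subalgebra k A).FG)
  have hD' := hD
  unfold HopfRep.IsDiagonalizable at hD'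
  have hmem : ∀ a : A, ∃ (f : K ⊗[k] A → K) (t : Finset (K ⊗[k] A)),
      (↑t ⊆ {g : K ⊗[k] A | IsGroupLikeElem K g}) ∧ Function.support f ⊆ ↑t ∧
        ∑ g ∈ t, f g • g = (1 : K) ⊗ₜ[k] a := by
    intro a
    have : (1 : K) ⊗ₜ[k] a ∈ Submodule.span K {g : K ⊗[k] A | IsGroupLikeElem K g} := by
      rw [hD']
      trivial
    exact Submodule.mem_span_iff_exists_finset_subset.mp this
  choose f t ht1 ht2 ht3 using hmem
  obtain ⟨L, hLfin, hC, hX⟩ := exists_finite_forall_mem_range k K A (s.biUnion t)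
    (s.biUnion fun a => (t a).image (f a))
  refine ⟨L, hLfin, ?_⟩
  have hpre : ∀ a ∈ s, ∀ g ∈ t a, ∃ g' : L ⊗[k] A, up k K A L g' = g :=
    fun a ha g hg => hX g (Finset.mem_biUnion.mpr ⟨a, ha, hg⟩)
  have hc : ∀ a ∈ s, ∀ g ∈ t a, f a g ∈ L :=
    fun a ha g hg => hC _ (Finset.mem_biUnion.mpr ⟨a, ha, Finset.mem_image_of_mem _ hg⟩)
  have h1 : ∀ a ∈ s, (1 : L) ⊗ₜ[k] a ∈
      Submodule.span L {g : L ⊗[k] A | IsGroupLikeElem L g} := by
    intro a ha
    choose! g' hg' using hpre a ha
    have hsum : (1 : L) ⊗ₜ[k] a =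
        ∑ g ∈ (t a).attach, (⟨f a g.1, hc a ha g.1 g.2⟩ : L) • g' g.1 := by
      apply up_injective k K A L
      rw [map_sum, Hmap_one_tmul, ← ht3 a, ← Finset.sum_attach]
      refine Finset.sum_congr rfl fun g _ => ?_
      rw [Hmap_smul, hg' g.1 g.2]
      rfl
    rw [hsum]
    refine Submodule.sum_mem _ fun g _ => Submodule.smul_mem _ _ (Submodule.subset_span ?_)
    apply isGroupLikeElem_of_up k K A L
    rw [hg' g.1 g.2]
    exact ht1 a g.2
  have h2 : ∀ a : A, (1 : L) ⊗ₜ[k] a ∈
      Submodule.span L {g : L ⊗[k] A | IsGroupLikeElem L g} := by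
    intro a
    have ha : a ∈ Algebra.adjoin k (s : Set A) := by
      rw [hs]
      trivial
    induction ha using Algebra.adjoin_induction with
    | mem x hx => exact h1 x hx
    | algebraMap r =>
      have h3 : (1 : L) ⊗ₜ[k] (algebraMap k A r) =
          (algebraMap k L r) • ((1 : L) ⊗ₜ[k] (1 : A)) := by
        rw [Algebra.algebraMap_eq_smul_one, TensorProduct.tmul_smul, algebraMap_smul]
      rw [h3]
      refine Submodule.smul_mem _ _ (Submodule.subset_span ?_)
      change IsGroupLikeElem L ((1 : L) ⊗ₜ[k] (1 : A))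
      rw [← Algebra.TensorProduct.one_def]
      exact IsGroupLikeElem.one (R := L) (A := L ⊗[k] A)
    | add x y _ _ hx hy =>
      rw [TensorProduct.tmul_add]
      exact add_mem hx hy
    | mul x y _ _ hx hy =>
      have h3 : (1 : L) ⊗ₜ[k] (x * y) = ((1 : L) ⊗ₜ[k] x) * ((1 : L) ⊗ₜ[k] y) := by
        rw [Algebra.TensorProduct.tmul_mul_tmul, mul_one]
      rw [h3]
      exact mul_mem_span_groupLike (R := L) (H := L ⊗[k] A) hx hy
  unfold HopfRep.IsDiagonalizable
  rw [eq_top_iff]
  intro z _
  induction z using TensorProduct.induction_on with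
  | zero => exact zero_mem _
  | tmul c a =>
    have h3 : c ⊗ₜ[k] a = c • ((1 : L) ⊗ₜ[k] a) := by
      rw [TensorProduct.smul_tmul', smul_eq_mul, mul_one]
    rw [h3]
    exact Submodule.smul_mem _ _ (h2 a)
  | add x y hx hy => exact add_mem (hx trivial) (hy trivial)

end Spread

section Main

theorem isDiagonalizable_of_tower (k : Type u) [Field k] (A : Type u) [CommRing A]
    [HopfAlgebra k A] (F E : Type u) [Field F] [Field E] [Algebra k F] [Algebra k E]
    [Algebra F E] [IsScalarTower k F E] [IsPurelyInseparable F E]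
    (h1 : HopfRep.IsDiagonalizable E (E ⊗[k] A)) : HopfRep.IsDiagonalizable F (F ⊗[k] A) := by
  have h2 : HopfRep.IsDiagonalizable E (E ⊗[F] (F ⊗[k] A)) :=
    BCB.isDiagonalizable_of_surjective (BCB.cancelBC k F E A).symm.toBialgHom
      (fun y => ⟨BCB.cancelBC k F E A y, BialgEquiv.symm_apply_apply _ y⟩) h1
  exact isDiagonalizable_of_purelyInseparable F E _ h2

/-- Over a field, a group of multiplicative type and of finite type is split by a finite separable
extension. -/
theorem exists_finite_separable_split (k : Type u) [Field k] (A : Type u) [CommRing A]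
    [HopfAlgebra k A] (hft : Algebra.FiniteType k A) (h : IsMultType k A) :
    ∃ (k' : Type u) (_ : Field k') (_ : Algebra k k'), Module.Finite k k' ∧
      Algebra.IsSeparable k k' ∧ IsDiagFT k' (k' ⊗[k] A) := by
  haveI := hft
  have h1 := geomDiag k A h
  have h3 : HopfRep.IsDiagonalizable (separableClosure k (AlgebraicClosure k))
      ((separableClosure k (AlgebraicClosure k)) ⊗[k] A) :=
    isDiagonalizable_of_tower k A (separableClosure k (AlgebraicClosure k)) (AlgebraicClosure k) h1
  obtain ⟨L, hLfin, hL⟩ := exists_finite_isDiagonalizable k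
    (separableClosure k (AlgebraicClosure k)) A h3
  haveI : Algebra.IsSeparable k L := Algebra.isSeparable_tower_bot_of_isSeparable k L
    (separableClosure k (AlgebraicClosure k))
  exact ⟨L, inferInstance, inferInstance, hLfin, inferInstance, isDiagFT_of_isDiagonalizable hL⟩

end Main

end Groth.Agent.Lib.R2H7.SepSplit
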