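import Mathlib

/-!
# R2H7SmoothMonoid: a fine sharp monoid with smooth monoid algebra is free

`N` a finitely generated cancellative commutative monoid whose only unit is `0`.  If `R[N]` is
formally smooth over a nonzero ring `R` then `N ≃ ℕ^S` for a finite set `S` of generators
(`exists_addEquiv`), and `R[N]` is the symmetric algebra of a finite free module
(`exists_algEquiv_symmetricAlgebra`).

Proof: take a minimal generating set `S`; over a residue field `k`, the kernel `I` of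
`k[X_s] → k[N]` has no constant or linear terms, so `I ≤ 𝔪²`; a section of the square-zero extension
`k[X]/𝔪I → k[N]` given by formal smoothness shows `I ≤ 𝔪 I`, and Nakayama gives `I = 0`.
-/

set_option autoImplicit false
universe u

namespace Groth.Agent.Lib.R2H7.SmoothMonoid

open TensorProduct

theorem exists_eq_single_add {σ : Type*} (a : σ →₀ ℕ) (t : σ) (h : a t ≠ 0) :
    ∃ a' : σ →₀ ℕ, a = Finsupp.single t 1 + a' := by
  classical
  refine ⟨a - Finsupp.single t 1, ?_⟩
  ext x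
  simp only [Finsupp.add_apply, Finsupp.tsub_apply, Finsupp.single_apply]
  split_ifs with hx
  · subst hx
    omega
  · omega

theorem exists_ne_zero_of_ne_zero {σ : Type*} (a : σ →₀ ℕ) (h : a ≠ 0) : ∃ t, a t ≠ 0 := by
  by_contra hcon
  push Not at hcon
  exact h (Finsupp.ext hcon)

section Monoid

variable {N : Type} [AddCommMonoid N] [DecidableEq N]

theorem exists_min_gen [AddMonoid.FG N] :
    ∃ S : Finset N, AddSubmonoid.closure (S : Set N) = ⊤ ∧
      ∀ s ∈ S, s ∉ AddSubmonoid.closure ((S.erase s : Finset N) : Set N) := by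
  classical
  have hfg : (⊤ : AddSubmonoid N).FG := AddMonoid.fg_def.mp inferInstance
  have hex : ∃ n : ℕ, ∃ S : Finset N, S.card = n ∧ AddSubmonoid.closure (S : Set N) = ⊤ := by
    obtain ⟨S, hS⟩ := hfg
    exact ⟨S.card, S, rfl, hS⟩
  obtain ⟨S, hcard, hS⟩ := Nat.find_spec hex
  refine ⟨S, hS, fun s hs hmem => ?_⟩
  have hlt : (S.erase s).card < Nat.find hex := by
    rw [← hcard]
    exact Finset.card_erase_lt_of_mem hs
  apply Nat.find_min hex hlt
  refine ⟨S.erase s, rfl, ?_⟩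
  rw [eq_top_iff, ← hS, AddSubmonoid.closure_le]
  intro x hx
  by_cases hxs : x = s
  · rw [hxs]
    exact hmem
  · exact AddSubmonoid.subset_closure (Finset.mem_coe.mpr (Finset.mem_erase.mpr ⟨hxs, hx⟩))

variable (S : Finset N)

/-- The canonical map `ℕ^S → N`. -/
noncomputable def psi : ({x // x ∈ S} →₀ ℕ) →+ N :=
  (Finsupp.linearCombination ℕ (fun s : {x // x ∈ S} => (s : N))).toAddMonoidHom

omit [DecidableEq N] in
theorem psi_apply (a : {x // x ∈ S} →₀ ℕ) :
    psi S a = Finsupp.linearCombination ℕ (fun s : {x // x ∈ S} => (s : N)) a := rfl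

omit [DecidableEq N] in
theorem psi_single (s : {x // x ∈ S}) (n : ℕ) : psi S (Finsupp.single s n) = n • (s : N) := by
  rw [psi_apply, Finsupp.linearCombination_single]

omit [DecidableEq N] in
theorem psi_mem (T : Finset N) (a : {x // x ∈ S} →₀ ℕ) (h : ∀ t, a t ≠ 0 → (t : N) ∈ T) :
    psi S a ∈ AddSubmonoid.closure (T : Set N) := by
  rw [psi_apply, Finsupp.linearCombination_apply, Finsupp.sum]
  apply AddSubmonoid.sum_mem
  intro t ht
  exact AddSubmonoid.nsmul_mem _
    (AddSubmonoid.subset_closure (Finset.mem_coe.mpr (h t (Finsupp.mem_support_iff.mp ht)))) _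

omit [DecidableEq N] in
theorem psi_surjective (hS : AddSubmonoid.closure (S : Set N) = ⊤) :
    Function.Surjective (psi S) := by
  intro n
  have hn : n ∈ AddSubmonoid.closure (S : Set N) := by
    rw [hS]
    trivial
  refine AddSubmonoid.closure_induction (motive := fun n _ => ∃ a, psi S a = n) ?_ ?_ ?_ hn
  · intro x hx
    exact ⟨Finsupp.single ⟨x, hx⟩ 1, by rw [psi_single, one_nsmul]⟩
  · exact ⟨0, map_zero _⟩
  · rintro x y _ _ ⟨a, rfl⟩ ⟨b, rfl⟩
    exact ⟨a + b, map_add _ _ _⟩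

variable [IsCancelAdd N] (hsharp : ∀ n : N, IsAddUnit n → n = 0)
  (hmin : ∀ s ∈ S, s ∉ AddSubmonoid.closure ((S.erase s : Finset N) : Set N))

omit [IsCancelAdd N] in
include hsharp hmin in
theorem psi_eq_zero (a : {x // x ∈ S} →₀ ℕ) (h : psi S a = 0) : a = 0 := by
  classical
  by_contra ha
  obtain ⟨t, ht⟩ := exists_ne_zero_of_ne_zero a ha
  obtain ⟨a', rfl⟩ := exists_eq_single_add a t ht
  rw [map_add, psi_single, one_nsmul] at h
  have hu : IsAddUnit (t : N) := ⟨⟨(t : N), psi S a', h, by rw [add_comm]; exact h⟩, rfl⟩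
  have ht0 : (t : N) = 0 := hsharp _ hu
  apply hmin (t : N) t.2
  rw [ht0]
  exact zero_mem _

include hsharp hmin in
theorem psi_eq_self (a : {x // x ∈ S} →₀ ℕ) (s : {x // x ∈ S}) (h : psi S a = (s : N)) :
    a = Finsupp.single s 1 := by
  classical
  by_cases hs : a s = 0
  · exfalso
    apply hmin (s : N) s.2
    have hmem : psi S a ∈ AddSubmonoid.closure ((S.erase (s : N) : Finset N) : Set N) := by
      apply psi_mem
      intro t ht
      refine Finset.mem_erase.mpr ⟨?_, t.2⟩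
      intro hts
      have hts' : t = s := Subtype.ext hts
      rw [hts'] at ht
      exact ht hs
    rw [h] at hmem
    exact hmem
  · obtain ⟨a', rfl⟩ := exists_eq_single_add a s hs
    rw [map_add, psi_single, one_nsmul] at h
    have h0 : psi S a' = 0 := by
      have h1 : (s : N) + psi S a' = (s : N) + 0 := by rw [h, add_zero]
      exact add_left_cancel h1
    rw [psi_eq_zero S hsharp hmin a' h0, add_zero]

end Monoid

section Alg

variable {N : Type} [AddCommMonoid N] [DecidableEq N] (S : Finset N) (k : Type u) [Field k]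

/-- The map `k[X_s] → k[N]`. -/
noncomputable def Phi : MvPolynomial {x // x ∈ S} k →ₐ[k] AddMonoidAlgebra k N :=
  AddMonoidAlgebra.mapDomainAlgHom k k (psi S)

omit [DecidableEq N] in
theorem Phi_single (a : {x // x ∈ S} →₀ ℕ) (c : k) :
    Phi S k (AddMonoidAlgebra.single a c) = AddMonoidAlgebra.single (psi S a) c := by
  simp [Phi]

theorem coeff_Phi_of_fiber (a₀ : {x // x ∈ S} →₀ ℕ)
    (hfib : ∀ a, psi S a = psi S a₀ → a = a₀) (f : MvPolynomial {x // x ∈ S} k) :
    (Phi S k f).coeff (psi S a₀) = MvPolynomial.coeff a₀ f := by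
  classical
  induction f using AddMonoidAlgebra.induction_linear with
  | zero => simp
  | add x y hx hy =>
    rw [map_add, AddMonoidAlgebra.coeff_add, Finsupp.add_apply, hx, hy, MvPolynomial.coeff_add]
  | single a c =>
    rw [Phi_single, AddMonoidAlgebra.coeff_single, Finsupp.single_apply,
      MvPolynomial.single_eq_monomial, MvPolynomial.coeff_monomial]
    by_cases h : a = a₀
    · subst h
      simp
    · rw [if_neg h, if_neg (fun h' => h (hfib a h'))]

theorem Phi_surjective (hS : AddSubmonoid.closure (S : Set N) = ⊤) :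
    Function.Surjective (Phi S k) := by
  intro y
  induction y using AddMonoidAlgebra.induction_linear with
  | zero => exact ⟨0, map_zero _⟩
  | add x y hx hy =>
    obtain ⟨x', rfl⟩ := hx
    obtain ⟨y', rfl⟩ := hy
    exact ⟨x' + y', map_add _ _ _⟩
  | single n c =>
    obtain ⟨a, rfl⟩ := psi_surjective S hS n
    exact ⟨AddMonoidAlgebra.single a c, Phi_single S k a c⟩

variable [IsCancelAdd N] (hS : AddSubmonoid.closure (S : Set N) = ⊤)
  (hsharp : ∀ n : N, IsAddUnit n → n = 0)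
  (hmin : ∀ s ∈ S, s ∉ AddSubmonoid.closure ((S.erase s : Finset N) : Set N))

include hS hsharp hmin in
theorem ker_Phi_eq_bot [Algebra.FormallySmooth k (AddMonoidAlgebra k N)] :
    RingHom.ker (Phi S k) = ⊥ := by
  classical
  set I : Ideal (MvPolynomial {x // x ∈ S} k) := RingHom.ker (Phi S k) with hI
  set 𝔪 : Ideal (MvPolynomial {x // x ∈ S} k) :=
    RingHom.ker (MvPolynomial.constantCoeff : MvPolynomial {x // x ∈ S} k →+* k) with h𝔪
  have hmemI : ∀ f, f ∈ I ↔ Phi S k f = 0 := fun f => RingHom.mem_ker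
  have hmem𝔪 : ∀ f, f ∈ 𝔪 ↔ MvPolynomial.coeff 0 f = 0 := by
    intro f
    rw [h𝔪, RingHom.mem_ker, MvPolynomial.constantCoeff_eq]
  -- coefficients of elements of `I`
  have hc0 : ∀ f ∈ I, MvPolynomial.coeff 0 f = 0 := by
    intro f hf
    have h1 := coeff_Phi_of_fiber S k 0
      (fun a ha => psi_eq_zero S hsharp hmin a (by rw [ha, map_zero])) f
    rw [(hmemI f).mp hf] at h1
    rw [← h1]
    rfl
  have hc1 : ∀ f ∈ I, ∀ s, MvPolynomial.coeff (Finsupp.single s 1) f = 0 := by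
    intro f hf s
    have hψ : psi S (Finsupp.single s 1) = (s : N) := by rw [psi_single, one_nsmul]
    have h1 := coeff_Phi_of_fiber S k (Finsupp.single s 1)
      (fun a ha => psi_eq_self S hsharp hmin a s (by rw [ha, hψ])) f
    rw [(hmemI f).mp hf] at h1
    rw [← h1]
    rfl
  have hI𝔪 : I ≤ 𝔪 := fun f hf => (hmem𝔪 f).mpr (hc0 f hf)
  have hX : ∀ s, (MvPolynomial.X s : MvPolynomial {x // x ∈ S} k) ∈ 𝔪 := fun s => by
    rw [h𝔪, RingHom.mem_ker, MvPolynomial.constantCoeff_X]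
  -- `I ≤ 𝔪²`
  have hI2 : I ≤ 𝔪 * 𝔪 := by
    intro f hf
    rw [MvPolynomial.as_sum f]
    refine Ideal.sum_mem _ (fun a ha => ?_)
    have hca : MvPolynomial.coeff a f ≠ 0 := MvPolynomial.mem_support_iff.mp ha
    have ha0 : a ≠ 0 := fun h => hca (h ▸ hc0 f hf)
    obtain ⟨s, hs⟩ := exists_ne_zero_of_ne_zero a ha0
    obtain ⟨a', rfl⟩ := exists_eq_single_add a s hs
    have ha'0 : a' ≠ 0 := by
      intro h
      apply hca
      rw [h, add_zero]
      exact hc1 f hf s
    obtain ⟨t, ht⟩ := exists_ne_zero_of_ne_zero a' ha'0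
    obtain ⟨a'', rfl⟩ := exists_eq_single_add a' t ht
    have hmon : MvPolynomial.monomial (Finsupp.single s 1 + (Finsupp.single t 1 + a''))
        (MvPolynomial.coeff (Finsupp.single s 1 + (Finsupp.single t 1 + a'')) f) =
        MvPolynomial.X s * MvPolynomial.X t *
          MvPolynomial.monomial a'' (MvPolynomial.coeff
            (Finsupp.single s 1 + (Finsupp.single t 1 + a'')) f) := by
      rw [MvPolynomial.X, MvPolynomial.X, MvPolynomial.monomial_mul, MvPolynomial.monomial_mul,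
        one_mul, one_mul, add_assoc]
    rw [hmon]
    exact Ideal.mul_mem_right _ _ (Ideal.mul_mem_mul (hX s) (hX t))
  -- the square-zero extension
  set K : Ideal (MvPolynomial {x // x ∈ S} k) := 𝔪 * I with hK
  have hKI : K ≤ I := Ideal.mul_le_right
  let q : MvPolynomial {x // x ∈ S} k →ₐ[k] MvPolynomial {x // x ∈ S} k ⧸ K :=
    Ideal.Quotient.mkₐ k K
  have hq : ∀ p, q p = Ideal.Quotient.mk K p := fun _ => rfl
  have hqs : Function.Surjective q := Ideal.Quotient.mkₐ_surjective k K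
  let Φb : MvPolynomial {x // x ∈ S} k ⧸ K →ₐ[k] AddMonoidAlgebra k N :=
    Ideal.Quotient.liftₐ K (Phi S k) (fun p hp => (hmemI p).mp (hKI hp))
  have hΦb : ∀ p, Φb (q p) = Phi S k p := fun p => rfl
  have hΦbs : Function.Surjective Φb := fun y => by
    obtain ⟨p, rfl⟩ := Phi_surjective S k hS y
    exact ⟨q p, hΦb p⟩
  have hkerq : ∀ y, Φb y = 0 → ∃ i ∈ I, q i = y := by
    intro y hy
    obtain ⟨p, rfl⟩ := hqs y
    exact ⟨p, (hmemI p).mpr (by rw [← hΦb, hy]), rfl⟩
  have hmul0 : ∀ y₁ y₂, Φb y₁ = 0 → Φb y₂ = 0 → y₁ * y₂ = 0 := by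
    intro y₁ y₂ h1 h2
    obtain ⟨i₁, hi₁, rfl⟩ := hkerq y₁ h1
    obtain ⟨i₂, hi₂, rfl⟩ := hkerq y₂ h2
    rw [← map_mul, hq, Ideal.Quotient.eq_zero_iff_mem]
    exact Ideal.mul_mem_mul (hI𝔪 hi₁) hi₂
  have hmul𝔪 : ∀ y p, Φb y = 0 → p ∈ 𝔪 → y * q p = 0 := by
    intro y p h1 hp
    obtain ⟨i, hi, rfl⟩ := hkerq y h1
    rw [← map_mul, hq, Ideal.Quotient.eq_zero_iff_mem, mul_comm]
    exact Ideal.mul_mem_mul hp hi
  have hnil : IsNilpotent (RingHom.ker
      (Φb : MvPolynomial {x // x ∈ S} k ⧸ K →+* AddMonoidAlgebra k N)) := by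
    refine ⟨2, ?_⟩
    have h2 : RingHom.ker (Φb : MvPolynomial {x // x ∈ S} k ⧸ K →+* AddMonoidAlgebra k N) *
        RingHom.ker (Φb : MvPolynomial {x // x ∈ S} k ⧸ K →+* AddMonoidAlgebra k N) = ⊥ := by
      rw [eq_bot_iff, Ideal.mul_le]
      intro r hr s hs
      rw [Ideal.mem_bot]
      exact hmul0 r s (RingHom.mem_ker.mp hr) (RingHom.mem_ker.mp hs)
    have h3 : RingHom.ker (Φb : MvPolynomial {x // x ∈ S} k ⧸ K →+* AddMonoidAlgebra k N) ^ 2 =
        RingHom.ker (Φb : MvPolynomial {x // x ∈ S} k ⧸ K →+* AddMonoidAlgebra k N) *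
        RingHom.ker (Φb : MvPolynomial {x // x ∈ S} k ⧸ K →+* AddMonoidAlgebra k N) := pow_two _
    rw [h3, h2]
    rfl
  let σl : AddMonoidAlgebra k N →ₐ[k] MvPolynomial {x // x ∈ S} k ⧸ K :=
    Algebra.FormallySmooth.liftOfSurjective (AlgHom.id k _) Φb hΦbs hnil
  have hσl : ∀ y, Φb (σl y) = y := fun y =>
    Algebra.FormallySmooth.liftOfSurjective_apply (AlgHom.id k _) Φb hΦbs hnil y
  let θ : MvPolynomial {x // x ∈ S} k →ₐ[k] MvPolynomial {x // x ∈ S} k ⧸ K :=
    σl.comp (Phi S k)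
  have hθ : ∀ p, θ p = σl (Phi S k p) := fun _ => rfl
  have hD : ∀ p, Φb (θ p - q p) = 0 := by
    intro p
    rw [map_sub, hθ, hσl, hΦb, sub_self]
  have hprod : ∀ p₁ ∈ 𝔪, ∀ p₂ ∈ 𝔪, θ (p₁ * p₂) = q (p₁ * p₂) := by
    intro p₁ h1 p₂ h2
    obtain ⟨d₁, hd₁, e1⟩ : ∃ d, Φb d = 0 ∧ θ p₁ = q p₁ + d :=
      ⟨θ p₁ - q p₁, hD p₁, by ring⟩
    obtain ⟨d₂, hd₂, e2⟩ : ∃ d, Φb d = 0 ∧ θ p₂ = q p₂ + d :=
      ⟨θ p₂ - q p₂, hD p₂, by ring⟩
    rw [map_mul, map_mul, e1, e2]
    have a1 := hmul𝔪 d₁ p₂ hd₁ h2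
    have a2 := hmul𝔪 d₂ p₁ hd₂ h1
    have a3 := hmul0 d₁ d₂ hd₁ hd₂
    calc (q p₁ + d₁) * (q p₂ + d₂)
        = q p₁ * q p₂ + d₂ * q p₁ + d₁ * q p₂ + d₁ * d₂ := by ring
      _ = q p₁ * q p₂ := by rw [a1, a2, a3, add_zero, add_zero, add_zero]
  have hθq : ∀ f ∈ 𝔪 * 𝔪, θ f = q f := by
    intro f hf
    refine Submodule.mul_induction_on hf (fun p₁ h1 p₂ h2 => hprod p₁ h1 p₂ h2)
      (fun x y hx hy => by rw [map_add, map_add, hx, hy])
  have hIle : I ≤ 𝔪 • I := by
    intro f hf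
    have h1 : θ f = 0 := by rw [hθ, (hmemI f).mp hf, map_zero]
    have h2 : q f = 0 := by
      rw [← hθq f (hI2 hf)]
      exact h1
    rw [hq, Ideal.Quotient.eq_zero_iff_mem] at h2
    exact h2
  have hfg : (I : Submodule (MvPolynomial {x // x ∈ S} k) (MvPolynomial {x // x ∈ S} k)).FG :=
    IsNoetherian.noetherian I
  obtain ⟨r, hr1, hr2⟩ :=
    Submodule.exists_sub_one_mem_and_smul_eq_zero_of_fg_of_le_smul 𝔪 I hfg hIle
  have hr0 : r ≠ 0 := by
    intro h
    rw [h, zero_sub] at hr1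
    have h1 : (1 : MvPolynomial {x // x ∈ S} k) ∈ 𝔪 := by simpa using 𝔪.neg_mem hr1
    rw [h𝔪, RingHom.mem_ker, map_one] at h1
    exact one_ne_zero h1
  rw [eq_bot_iff]
  intro f hf
  have h1 := hr2 f hf
  rw [smul_eq_mul] at h1
  rw [Ideal.mem_bot]
  exact (mul_eq_zero.mp h1).resolve_left hr0

include hS hsharp hmin in
theorem psi_injective [Algebra.FormallySmooth k (AddMonoidAlgebra k N)] :
    Function.Injective (psi S) := by
  intro a b hab
  have hinj : Function.Injective (Phi S k) :=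
    (RingHom.injective_iff_ker_eq_bot _).mpr (ker_Phi_eq_bot S k hS hsharp hmin)
  have h1 : Phi S k (AddMonoidAlgebra.single a 1) = Phi S k (AddMonoidAlgebra.single b 1) := by
    rw [Phi_single, Phi_single, hab]
  exact AddMonoidAlgebra.single_left_injective (one_ne_zero : (1 : k) ≠ 0) (hinj h1)

end Alg

section Main

theorem exists_addEquiv (R : Type u) [CommRing R] [Nontrivial R] (N : Type) [AddCommMonoid N]
    [AddMonoid.FG N] [IsCancelAdd N] (hsharp : ∀ n : N, IsAddUnit n → n = 0)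
    [Algebra.FormallySmooth R (AddMonoidAlgebra R N)] :
    ∃ S : Finset N, Nonempty (({x // x ∈ S} →₀ ℕ) ≃+ N) := by
  classical
  obtain ⟨S, hS, hmin⟩ := exists_min_gen (N := N)
  obtain ⟨m, hm⟩ := Ideal.exists_maximal R
  haveI := hm
  letI : Field (R ⧸ m) := Ideal.Quotient.field m
  haveI : Algebra.FormallySmooth (R ⧸ m) ((R ⧸ m) ⊗[R] AddMonoidAlgebra R N) := inferInstance
  haveI : Algebra.FormallySmooth (R ⧸ m) (AddMonoidAlgebra (R ⧸ m) N) :=
    Algebra.FormallySmooth.of_equiv (AddMonoidAlgebra.scalarTensorEquiv R (R ⧸ m))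
  exact ⟨S, ⟨AddEquiv.ofBijective (psi S)
    ⟨psi_injective S (R ⧸ m) hS hsharp hmin, psi_surjective S hS⟩⟩⟩

theorem exists_algEquiv_symmetricAlgebra (R : Type u) [CommRing R] (N : Type) [AddCommMonoid N]
    [AddMonoid.FG N] [IsCancelAdd N] (hsharp : ∀ n : N, IsAddUnit n → n = 0)
    [Algebra.Smooth R (AddMonoidAlgebra R N)] :
    ∃ (P : Type u) (_ : AddCommGroup P) (_ : Module R P), Module.Finite R P ∧
      Module.Projective R P ∧ Nonempty (AddMonoidAlgebra R N ≃ₐ[R] SymmetricAlgebra R P) := by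
  rcases subsingleton_or_nontrivial R with hR | hR
  · haveI : Subsingleton (AddMonoidAlgebra R N) := Module.subsingleton R _
    haveI : Subsingleton (SymmetricAlgebra R R) := Module.subsingleton R _
    refine ⟨R, inferInstance, inferInstance, inferInstance, inferInstance, ⟨?_⟩⟩
    exact
      { toFun := fun _ => 0
        invFun := fun _ => 0
        left_inv := fun _ => Subsingleton.elim _ _
        right_inv := fun _ => Subsingleton.elim _ _
        map_mul' := fun _ _ => Subsingleton.elim _ _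
        map_add' := fun _ _ => Subsingleton.elim _ _
        commutes' := fun _ => Subsingleton.elim _ _ }
  · obtain ⟨S, ⟨e⟩⟩ := exists_addEquiv R N hsharp
    refine ⟨{x // x ∈ S} →₀ R, inferInstance, inferInstance, inferInstance, inferInstance, ⟨?_⟩⟩
    exact (AddMonoidAlgebra.domCongr R R e.symm).trans
      (SymmetricAlgebra.equivMvPolynomial (Finsupp.basisSingleOne)).symm

end Main

end Groth.Agent.Lib.R2H7.SmoothMonoid
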