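/-
Polynomial algebra used for plane curves with a double component:
* an elimination (Bezout) identity in `R[X]` for an irreducible `p` and `q` not divisible by `p`;
* a formal arc on two plane curves without common component is constant (over an algebraically
  closed field);
* a polynomial all of whose partial derivatives vanish is not irreducible (perfect coefficients);
* an irreducible polynomial does not divide a non-zero partial derivative of itself.
-/
import Mathlib

set_option autoImplicit false
universe u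

namespace Groth.Agent.Lib.R2H7.SqCurveAlg

section bezout

open Polynomial

variable {R : Type*} [CommRing R] [IsDomain R] [UniqueFactorizationMonoid R]

theorem exists_bezout (p q : R[X]) (hp : Irreducible p) (hpq : ¬ p ∣ q) :
    ∃ (A B : R[X]) (d : R), d ≠ 0 ∧ A * p + B * q = C d := by
  by_cases hdeg : p.natDegree = 0
  · obtain ⟨c, hc⟩ : ∃ c, p = C c := ⟨p.coeff 0, Polynomial.eq_C_of_natDegree_eq_zero hdeg⟩
    refine ⟨1, 0, c, ?_, by rw [one_mul, zero_mul, add_zero, hc]⟩
    rintro rfl
    rw [map_zero] at hc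
    exact hp.ne_zero hc
  · have hprim : p.IsPrimitive := hp.isPrimitive hdeg
    have hirrK : Irreducible (p.map (algebraMap R (FractionRing R))) :=
      (hprim.irreducible_iff_irreducible_map_fraction_map).mp hp
    have hndvd : ¬ p.map (algebraMap R (FractionRing R)) ∣ q.map (algebraMap R (FractionRing R)) :=
      fun h => hpq ((hprim.dvd_iff_fraction_map_dvd_fraction_map (FractionRing R)).mpr h)
    obtain ⟨A', B', hAB⟩ := (hirrK.coprime_iff_not_dvd).mpr hndvd
    obtain ⟨b₁, hb₁, hA⟩ := IsLocalization.integerNormalization_spec (nonZeroDivisors R) A'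
    obtain ⟨b₂, hb₂, hB⟩ := IsLocalization.integerNormalization_spec (nonZeroDivisors R) B'
    rw [Algebra.smul_def, Polynomial.algebraMap_apply] at hA hB
    refine ⟨C b₂ * IsLocalization.integerNormalization (nonZeroDivisors R) A',
      C b₁ * IsLocalization.integerNormalization (nonZeroDivisors R) B', b₁ * b₂,
      mul_ne_zero (nonZeroDivisors.ne_zero hb₁) (nonZeroDivisors.ne_zero hb₂), ?_⟩
    apply Polynomial.map_injective (algebraMap R (FractionRing R))
      (IsFractionRing.injective R (FractionRing R))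
    simp only [Polynomial.map_add, Polynomial.map_mul, Polynomial.map_C, hA, hB, map_mul]
    linear_combination (C (algebraMap R (FractionRing R) b₁) *
      C (algebraMap R (FractionRing R) b₂)) * hAB

end bezout

section arc

variable {k : Type u} [Field k] [IsAlgClosed k]

theorem mem_range_of_aeval_eq_zero {T : Type*} [CommRing T] [IsDomain T] [Algebra k T]
    (d : MvPolynomial (Fin 1) k) (hd : d ≠ 0) (γ : T)
    (h : MvPolynomial.aeval (fun _ : Fin 1 => γ) d = 0) : γ ∈ (algebraMap k T).range := by
  have halg : IsAlgebraic k γ := by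
    by_contra htr
    have htr' : Transcendental k γ := htr
    have hind : AlgebraicIndependent k (fun _ : Fin 1 => γ) :=
      algebraicIndependent_unique_type_iff.mpr htr'
    exact hd (hind (by rw [h, map_zero]))
  have hint : IsIntegral k γ := halg.isIntegral
  have hirr := minpoly.irreducible hint
  have hdeg := IsAlgClosed.degree_eq_one_of_irreducible k hirr
  exact minpoly.mem_range_of_degree_eq_one k γ hdeg

theorem finSucc_rename (d : MvPolynomial (Fin 1) k) :
    MvPolynomial.finSuccEquiv k 1 (MvPolynomial.rename Fin.succ d) = Polynomial.C d := by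
  induction d using MvPolynomial.induction_on with
  | C a =>
    rw [MvPolynomial.rename_C, MvPolynomial.finSuccEquiv_apply, MvPolynomial.coe_eval₂Hom,
      MvPolynomial.eval₂_C]
    rfl
  | add p q hp hq => rw [map_add, map_add, hp, hq, map_add]
  | mul_X p j hp =>
    rw [map_mul, map_mul, hp, MvPolynomial.rename_X, MvPolynomial.finSuccEquiv_X_succ, ← map_mul]

theorem arc_one {T : Type*} [CommRing T] [IsDomain T] [Algebra k T]
    (p q : MvPolynomial (Fin 2) k) (hp : Irreducible p) (hpq : ¬ p ∣ q)
    (ψ : MvPolynomial (Fin 2) k →ₐ[k] T) (h1 : ψ p = 0) (h2 : ψ q = 0) :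
    ψ (MvPolynomial.X 1) ∈ (algebraMap k T).range := by
  have hep : Irreducible (MvPolynomial.finSuccEquiv k 1 p) :=
    (MulEquiv.irreducible_iff (MvPolynomial.finSuccEquiv k 1)).mpr hp
  have hepq : ¬ MvPolynomial.finSuccEquiv k 1 p ∣ MvPolynomial.finSuccEquiv k 1 q :=
    fun h => hpq ((map_dvd_iff (MvPolynomial.finSuccEquiv k 1)).mp h)
  obtain ⟨A, B, d, hd, hAB⟩ := exists_bezout _ _ hep hepq
  have h3 : (MvPolynomial.finSuccEquiv k 1).symm A * p + (MvPolynomial.finSuccEquiv k 1).symm B * q =
      MvPolynomial.rename Fin.succ d := by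
    apply (MvPolynomial.finSuccEquiv k 1).injective
    rw [map_add, map_mul, map_mul, AlgEquiv.apply_symm_apply, AlgEquiv.apply_symm_apply, hAB,
      finSucc_rename]
  have h4 : ψ (MvPolynomial.rename Fin.succ d) = 0 := by
    rw [← h3, map_add, map_mul, map_mul, h1, h2, mul_zero, mul_zero, add_zero]
  have h5 : ψ (MvPolynomial.rename Fin.succ d) =
      MvPolynomial.aeval (fun _ : Fin 1 => ψ (MvPolynomial.X 1)) d := by
    have hfun : ((⇑ψ ∘ MvPolynomial.X) ∘ Fin.succ) =
        fun _ : Fin 1 => ψ (MvPolynomial.X 1) := by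
      funext j
      have hj : j = 0 := Subsingleton.elim _ _
      subst hj
      rfl
    conv_lhs => rw [MvPolynomial.aeval_unique ψ]
    rw [MvPolynomial.aeval_rename, hfun]
  rw [h5] at h4
  exact mem_range_of_aeval_eq_zero d (fun h0 => hd h0) _ h4

theorem arc_zero {T : Type*} [CommRing T] [IsDomain T] [Algebra k T]
    (p q : MvPolynomial (Fin 2) k) (hp : Irreducible p) (hpq : ¬ p ∣ q)
    (ψ : MvPolynomial (Fin 2) k →ₐ[k] T) (h1 : ψ p = 0) (h2 : ψ q = 0) :
    ψ (MvPolynomial.X 0) ∈ (algebraMap k T).range := by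
  have hss : ∀ r : MvPolynomial (Fin 2) k,
      MvPolynomial.rename (Equiv.swap (0 : Fin 2) 1) (MvPolynomial.rename (Equiv.swap (0 : Fin 2) 1) r)
        = r := by
    intro r
    rw [MvPolynomial.rename_rename]
    have : (⇑(Equiv.swap (0 : Fin 2) 1) ∘ ⇑(Equiv.swap (0 : Fin 2) 1)) = id := by
      funext j
      simp
    rw [this, MvPolynomial.rename_id_apply]
  have hp' : Irreducible (MvPolynomial.rename (Equiv.swap (0 : Fin 2) 1) p) := by
    have := (MulEquiv.irreducible_iff (MvPolynomial.renameEquiv k (Equiv.swap (0 : Fin 2) 1))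
      (x := p)).mpr hp
    simpa using this
  have hpq' : ¬ MvPolynomial.rename (Equiv.swap (0 : Fin 2) 1) p ∣
      MvPolynomial.rename (Equiv.swap (0 : Fin 2) 1) q := by
    intro h
    apply hpq
    have := map_dvd (MvPolynomial.rename (Equiv.swap (0 : Fin 2) 1) :
      MvPolynomial (Fin 2) k →ₐ[k] MvPolynomial (Fin 2) k) h
    rwa [hss, hss] at this
  have h := arc_one _ _ hp' hpq' (ψ.comp (MvPolynomial.rename (Equiv.swap (0 : Fin 2) 1)))
    (by rw [AlgHom.comp_apply, hss, h1]) (by rw [AlgHom.comp_apply, hss, h2])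
  rw [AlgHom.comp_apply, MvPolynomial.rename_X] at h
  simpa using h

end arc

section pth

open MvPolynomial

variable {k : Type u} [Field k] {σ : Type*}

theorem cast_eq_zero_of_pderiv_eq_zero (p : MvPolynomial σ k) (h : ∀ i, pderiv i p = 0)
    (m : σ →₀ ℕ) (hm : coeff m p ≠ 0) (i : σ) : ((m i : ℕ) : k) = 0 := by
  classical
  by_cases hmi : m i = 0
  · rw [hmi, Nat.cast_zero]
  · have hle : Finsupp.single i 1 ≤ m := by
      rw [Finsupp.single_le_iff]
      exact Nat.one_le_iff_ne_zero.mpr hmi
    have hsum : m - Finsupp.single i 1 + Finsupp.single i 1 = m := tsub_add_cancel_of_le hle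
    have h1 := coeff_pderiv (i := i) p (m - Finsupp.single i 1)
    rw [h i, coeff_zero, hsum] at h1
    have h2 : ((((m - Finsupp.single i 1 : σ →₀ ℕ) i : ℕ) : k)) + 1 = ((m i : ℕ) : k) := by
      rw [Finsupp.tsub_apply, Finsupp.single_eq_same, ← Nat.cast_one (R := k), ← Nat.cast_add,
        Nat.sub_add_cancel (Nat.one_le_iff_ne_zero.mpr hmi)]
    rw [h2] at h1
    exact (mul_eq_zero.mp h1.symm).resolve_left hm

theorem not_irreducible_of_pderiv_eq_zero [IsAlgClosed k] (p : MvPolynomial σ k)
    (h : ∀ i, pderiv i p = 0) : ¬ Irreducible p := by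
  classical
  intro hirr
  obtain ⟨ℓ, hℓ⟩ := CharP.exists k
  have key := cast_eq_zero_of_pderiv_eq_zero p h
  haveI := hℓ
  rcases CharP.char_is_prime_or_zero k ℓ with hprime | h0
  · have hdvd : ∀ m, coeff m p ≠ 0 → ∀ i, ℓ ∣ m i := fun m hm i =>
      (CharP.cast_eq_zero_iff k ℓ (m i)).mp (key m hm i)
    choose c hc using fun a : k => IsAlgClosed.exists_pow_nat_eq a (n := ℓ) hprime.pos
    have hr : (∑ m ∈ p.support,
        monomial (m.mapRange (· / ℓ) (Nat.zero_div ℓ)) (c (coeff m p))) ^ ℓ = p := by
      haveI : Fact ℓ.Prime := ⟨hprime⟩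
      rw [sum_pow_char]
      conv_rhs => rw [← MvPolynomial.support_sum_monomial_coeff p]
      apply Finset.sum_congr rfl
      intro m hm
      have hm2 : ℓ • Finsupp.mapRange (· / ℓ) (Nat.zero_div ℓ) m = m := by
        ext i
        rw [Finsupp.smul_apply, Finsupp.mapRange_apply, smul_eq_mul]
        exact Nat.mul_div_cancel' (hdvd m (mem_support_iff.mp hm) i)
      rw [monomial_pow, hc, hm2]
    rw [← hr] at hirr
    exact not_irreducible_pow hprime.ne_one hirr
  · subst h0
    haveI : CharZero k := CharP.charP_to_charZero k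
    have hsupp : ∀ m, coeff m p ≠ 0 → m = 0 := by
      intro m hm
      ext i
      have := key m hm i
      rw [Finsupp.zero_apply]
      exact_mod_cast this
    have hp : p = C (coeff 0 p) := by
      ext m
      rw [coeff_C]
      by_cases hm0 : 0 = m
      · rw [if_pos hm0, hm0]
      · rw [if_neg hm0]
        by_contra hne
        exact hm0 (hsupp m hne).symm
    by_cases hc0 : coeff 0 p = 0
    · rw [hp, hc0, map_zero] at hirr
      exact not_irreducible_zero hirr
    · apply hirr.not_isUnit
      rw [hp]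
      exact (isUnit_iff_ne_zero.mpr hc0).map MvPolynomial.C

theorem totalDegree_pderiv_lt (p : MvPolynomial σ k) (i : σ) (hq : pderiv i p ≠ 0) :
    (pderiv i p).totalDegree < p.totalDegree := by
  classical
  obtain ⟨d, hd⟩ := MvPolynomial.ne_zero_iff.mp hq
  have hne : (pderiv i p).support.Nonempty := ⟨d, mem_support_iff.mpr hd⟩
  obtain ⟨m, hm, hdeg⟩ := Finset.exists_mem_eq_sup _ hne (fun m : σ →₀ ℕ => m.sum fun _ e => e)
  have hm' : coeff (m + Finsupp.single i 1) p ≠ 0 := by
    rw [mem_support_iff, coeff_pderiv] at hm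
    exact left_ne_zero_of_mul hm
  have h3 := MvPolynomial.le_totalDegree (mem_support_iff.mpr hm')
  have h4 : (m + Finsupp.single i 1).sum (fun _ e => e) = (m.sum fun _ e => e) + 1 := by
    rw [Finsupp.sum_add_index' (fun _ => rfl) (fun _ _ _ => rfl), Finsupp.sum_single_index rfl]
  have h5 : (pderiv i p).totalDegree = m.sum fun _ e => e := hdeg
  omega

theorem not_dvd_pderiv (p : MvPolynomial σ k) (i : σ) (hq : pderiv i p ≠ 0) :
    ¬ p ∣ pderiv i p := by
  rintro ⟨s, hs⟩
  have hp0 : p ≠ 0 := by
    rintro rfl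
    exact hq (map_zero _)
  have hs0 : s ≠ 0 := by
    rintro rfl
    rw [mul_zero] at hs
    exact hq hs
  have h1 : (pderiv i p).totalDegree = p.totalDegree + s.totalDegree := by
    rw [hs]
    exact totalDegree_mul_of_isDomain hp0 hs0
  have h2 := totalDegree_pderiv_lt p i hq
  omega

end pth

end Groth.Agent.Lib.R2H7.SqCurveAlg
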