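/-
Plane curve germs with a double smooth branch: `k[[x,y]]/(F) ≃ k[[x,y]]/(y²)` exactly when
`F = U·G²` with `U` a unit and `G` a regular parameter; for `F` the recentring of a polynomial `f`
over an algebraically closed field this happens exactly when `f = g²h` with `h(a) ≠ 0` and `g`
smooth at `a`.
-/
import Mathlib
import Groth.Agent.Lib.R2H7DoublePtNF
import Groth.Agent.Lib.Helper19InvFun
import Groth.Agent.Lib.R2H7SqCurveAlg

set_option autoImplicit false
universe u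

namespace Groth.Agent.Lib.R2H7.SqCurvePS

open Groth.Agent.Lib.Helper19 Groth.Agent.Lib.H9NodeKer Groth.Agent.Lib.R2H7.DoublePtInv
  Groth.Agent.Lib.R2H7.DoublePtTaylor Groth.Agent.Lib.R2H7.DoublePtNF
  Groth.Agent.Lib.R2H7.SqCurveAlg

variable {k : Type u} [Field k]

/-! ### Recentring -/

/-- Recentre a polynomial at `a` and view it as a power series. -/
noncomputable def rc (a : Fin 2 → k) : MvPolynomial (Fin 2) k →ₐ[k] P k where
  toFun q := ((MvPolynomial.aeval (fun i : Fin 2 => MvPolynomial.X i + MvPolynomial.C (a i)) q :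
    MvPolynomial (Fin 2) k) : P k)
  map_one' := by simp only [map_one, MvPolynomial.coe_one]
  map_mul' p q := by simp only [map_mul, MvPolynomial.coe_mul]
  map_zero' := by simp only [map_zero, MvPolynomial.coe_zero]
  map_add' p q := by simp only [map_add, MvPolynomial.coe_add]
  commutes' c := by
    simp only [MvPolynomial.algebraMap_eq, MvPolynomial.aeval_C, MvPolynomial.coe_C,
      MvPowerSeries.algebraMap_apply, Algebra.algebraMap_self, RingHom.id_apply]

theorem rc_apply (a : Fin 2 → k) (q : MvPolynomial (Fin 2) k) :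
    rc a q = ((MvPolynomial.aeval (fun i : Fin 2 => MvPolynomial.X i + MvPolynomial.C (a i)) q :
      MvPolynomial (Fin 2) k) : P k) := rfl

theorem cc_rc (a : Fin 2 → k) (q : MvPolynomial (Fin 2) k) :
    MvPowerSeries.constantCoeff (rc a q) = MvPolynomial.eval a q := by
  rw [rc_apply, ← MvPowerSeries.coeff_zero_eq_constantCoeff_apply, MvPolynomial.coeff_coe, ← e00,
    coeff_zero_shift]

theorem coeff_rc_single (a : Fin 2 → k) (q : MvPolynomial (Fin 2) k) (i : Fin 2) :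
    MvPowerSeries.coeff (Finsupp.single i 1) (rc a q) =
      MvPolynomial.eval a (MvPolynomial.pderiv i q) := by
  rw [rc_apply, MvPolynomial.coeff_coe, eval_pderiv_eq_coeff]

theorem pderiv_rc (a : Fin 2 → k) (q : MvPolynomial (Fin 2) k) (i : Fin 2) :
    MvPowerSeries.pderiv k i (rc a q) = rc a (MvPolynomial.pderiv i q) := by
  rw [rc_apply, MvPowerSeries.pderiv_coe, pderiv_shift, rc_apply]

theorem rc_X (a : Fin 2 → k) (i : Fin 2) :
    rc a (MvPolynomial.X i) = MvPowerSeries.X i + MvPowerSeries.C (a i) := by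
  rw [rc_apply, MvPolynomial.aeval_X, MvPolynomial.coe_add, MvPolynomial.coe_X, MvPolynomial.coe_C]

/-! ### Augmentation -/

theorem C_eq_algebraMap (c : k) : (MvPowerSeries.C c : P k) = algebraMap k (P k) c := by
  rw [MvPowerSeries.algebraMap_apply, Algebra.algebraMap_self, RingHom.id_apply]

theorem mem_mI_iff (p : P k) : p ∈ mI k ↔ MvPowerSeries.constantCoeff p = 0 := by
  rw [mem_one_iff, e00, MvPowerSeries.coeff_zero_eq_constantCoeff_apply]

theorem sub_C_mem (p : P k) : p - MvPowerSeries.C (MvPowerSeries.constantCoeff p) ∈ mI k := by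
  rw [mem_mI_iff, map_sub, MvPowerSeries.constantCoeff_C, sub_self]

theorem isUnit_iff_not_mem (p : P k) : IsUnit p ↔ p ∉ mI k := by
  rw [mem_mI_iff, MvPowerSeries.isUnit_iff_constantCoeff, isUnit_iff_ne_zero]

theorem algHom_eq_of_X_eq_zero {T : Type*} [CommRing T] [Algebra k T] (ρ : P k →ₐ[k] T)
    (h : ∀ i, ρ (MvPowerSeries.X i) = 0) (p : P k) :
    ρ p = algebraMap k T (MvPowerSeries.constantCoeff p) := by
  have hle : mI k ≤ RingHom.ker (ρ : P k →+* T) := by
    refine Ideal.span_le.mpr ?_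
    rintro _ ⟨i, rfl⟩
    exact h i
  have h1 := hle (sub_C_mem p)
  rw [RingHom.mem_ker, RingHom.coe_coe, map_sub, C_eq_algebraMap, AlgHom.commutes,
    sub_eq_zero] at h1
  exact h1

theorem algHom_X_eq_zero (ε : P k →ₐ[k] k) (i : Fin 2) : ε (MvPowerSeries.X i) = 0 := by
  by_contra hne
  have hu : IsUnit ((MvPowerSeries.X i : P k) - MvPowerSeries.C (ε (MvPowerSeries.X i))) := by
    rw [MvPowerSeries.isUnit_iff_constantCoeff, map_sub, MvPowerSeries.constantCoeff_X,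
      MvPowerSeries.constantCoeff_C, zero_sub, isUnit_iff_ne_zero]
    exact neg_ne_zero.mpr hne
  have hu2 := hu.map ε
  rw [map_sub, C_eq_algebraMap, AlgHom.commutes, Algebra.algebraMap_self, RingHom.id_apply,
    sub_self] at hu2
  exact not_isUnit_zero hu2

/-- Every `k`-algebra map `k[[x,y]] → k` is the constant coefficient. -/
theorem algHom_k_eq_cc (ε : P k →ₐ[k] k) (p : P k) : ε p = MvPowerSeries.constantCoeff p := by
  rw [algHom_eq_of_X_eq_zero ε (algHom_X_eq_zero ε) p, Algebra.algebraMap_self, RingHom.id_apply]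

/-- The constant coefficient as an algebra map. -/
noncomputable def ccA : P k →ₐ[k] k :=
  { (MvPowerSeries.constantCoeff : P k →+* k) with
    commutes' := fun c => by
      change MvPowerSeries.constantCoeff (algebraMap k (P k) c) = algebraMap k k c
      rw [← C_eq_algebraMap, MvPowerSeries.constantCoeff_C, Algebra.algebraMap_self,
        RingHom.id_apply] }

theorem ccA_apply (p : P k) : ccA p = MvPowerSeries.constantCoeff p := rfl

theorem cc_algHom_P (Θ : P k →ₐ[k] P k) (p : P k) :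
    MvPowerSeries.constantCoeff (Θ p) = MvPowerSeries.constantCoeff p := by
  have := algHom_k_eq_cc (ccA.comp Θ) p
  rwa [AlgHom.comp_apply, ccA_apply] at this

theorem cc_algHom_ps (ρ : P k →ₐ[k] PowerSeries k) (p : P k) :
    PowerSeries.constantCoeff (ρ p) = MvPowerSeries.constantCoeff p := by
  have := algHom_k_eq_cc ((ccAlg k).comp ρ) p
  rw [AlgHom.comp_apply] at this
  exact this

theorem algHom_mem_pow (Θ : P k →ₐ[k] P k) (n : ℕ) {p : P k} (hp : p ∈ mI k ^ n) :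
    Θ p ∈ mI k ^ n := by
  have hp' : p ∈ augIdeal (Fin 2) k ^ n := by
    rw [augIdeal_eq_varsIdeal]
    exact hp
  have h := map_mem_augIdeal_pow Θ
    (fun i => mem_augIdeal.mpr (by rw [cc_algHom_P, MvPowerSeries.constantCoeff_X])) n hp'
  rw [augIdeal_eq_varsIdeal] at h
  exact h

theorem coeff_e_X0 (m n : ℕ) : MvPowerSeries.coeff (e m n) (MvPowerSeries.X 0 : P k) =
    if m = 1 ∧ n = 0 then 1 else 0 := by
  rw [show (MvPowerSeries.X 0 : P k) = MvPowerSeries.X 0 ^ 1 * MvPowerSeries.X 1 ^ 0 by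
    rw [pow_one, pow_zero, mul_one], coeff_e_mono]

theorem coeff_e_X1 (m n : ℕ) : MvPowerSeries.coeff (e m n) (MvPowerSeries.X 1 : P k) =
    if m = 0 ∧ n = 1 then 1 else 0 := by
  rw [show (MvPowerSeries.X 1 : P k) = MvPowerSeries.X 0 ^ 0 * MvPowerSeries.X 1 ^ 1 by
    rw [pow_one, pow_zero, one_mul], coeff_e_mono]

/-! ### Step 1: from an isomorphism to `F = U·G²` -/

theorem exists_unit_sq_of_equiv (F : P k)
    (φ : (P k ⧸ Ideal.span {F}) ≃ₐ[k] (P k ⧸ Ideal.span {(MvPowerSeries.X 1 : P k) ^ 2})) :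
    ∃ U G : P k, IsUnit U ∧ G ∈ mI k ∧ G ∉ mI k ^ 2 ∧ F = U * G ^ 2 := by
  classical
  haveI : IsDomain (P k) := NoZeroDivisors.to_isDomain _
  have hc := isAdicComplete_P k
  have hJ₂top : Ideal.span {(MvPowerSeries.X 1 : P k) ^ 2} ≠ ⊤ := span_ne_top (sq_mem k)
  haveI hnt₂ : Nontrivial (P k ⧸ Ideal.span {(MvPowerSeries.X 1 : P k) ^ 2}) :=
    Ideal.Quotient.nontrivial_iff.mpr hJ₂top
  haveI hnt₁ : Nontrivial (P k ⧸ Ideal.span {F}) := φ.toEquiv.nontrivial
  have hF : F ∈ mI k := by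
    by_contra hF
    have hu : IsUnit F := (isUnit_iff_not_mem F).mpr hF
    exact Ideal.Quotient.nontrivial_iff.mp hnt₁ (Ideal.span_singleton_eq_top.mpr hu)
  haveI hloc₂ : IsLocalRing (P k ⧸ Ideal.span {(MvPowerSeries.X 1 : P k) ^ 2}) :=
    IsLocalRing.of_surjective' (Ideal.Quotient.mk _) Ideal.Quotient.mk_surjective
  haveI hloc₁ : IsLocalRing (P k ⧸ Ideal.span {F}) :=
    IsLocalRing.of_surjective' (Ideal.Quotient.mk _) Ideal.Quotient.mk_surjective
  let π₁ : P k →ₐ[k] P k ⧸ Ideal.span {F} := Ideal.Quotient.mkₐ k _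
  let π₂ : P k →ₐ[k] P k ⧸ Ideal.span {(MvPowerSeries.X 1 : P k) ^ 2} := Ideal.Quotient.mkₐ k _
  have hπ₁ : Function.Surjective π₁ := Ideal.Quotient.mkₐ_surjective k _
  have hπ₂ : Function.Surjective π₂ := Ideal.Quotient.mkₐ_surjective k _
  have hker₁ : ∀ x : P k, π₁ x = 0 ↔ F ∣ x := fun x => by
    change Ideal.Quotient.mk _ x = 0 ↔ _
    rw [Ideal.Quotient.eq_zero_iff_mem, Ideal.mem_span_singleton]
  have hker₂ : ∀ x : P k, π₂ x = 0 ↔ (MvPowerSeries.X 1 : P k) ^ 2 ∣ x := fun x => by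
    change Ideal.Quotient.mk _ x = 0 ↔ _
    rw [Ideal.Quotient.eq_zero_iff_mem, Ideal.mem_span_singleton]
  -- augmentations of the quotients
  let ε₁ : (P k ⧸ Ideal.span {F}) →ₐ[k] k := Ideal.Quotient.liftₐ _ (ccA (k := k)) (by
    intro x hx
    obtain ⟨y, rfl⟩ := Ideal.mem_span_singleton.mp hx
    rw [ccA_apply, map_mul, (mem_mI_iff F).mp hF, zero_mul])
  let ε₂ : (P k ⧸ Ideal.span {(MvPowerSeries.X 1 : P k) ^ 2}) →ₐ[k] k :=
    Ideal.Quotient.liftₐ _ (ccA (k := k)) (by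
      intro x hx
      obtain ⟨y, rfl⟩ := Ideal.mem_span_singleton.mp hx
      rw [ccA_apply, map_mul, (mem_mI_iff _).mp (sq_mem k), zero_mul])
  have hε₁ : ∀ x : P k, ε₁ (π₁ x) = MvPowerSeries.constantCoeff x := fun x => rfl
  have hε₂ : ∀ x : P k, ε₂ (π₂ x) = MvPowerSeries.constantCoeff x := fun x => rfl
  -- lifts of the images of the variables
  choose b hb using fun i : Fin 2 => hπ₂ (φ (π₁ (MvPowerSeries.X i)))
  choose b' hb' using fun i : Fin 2 => hπ₁ (φ.symm (π₂ (MvPowerSeries.X i)))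
  have hb0 : ∀ i, b i ∈ mI k := by
    intro i
    rw [mem_mI_iff, ← hε₂, hb]
    have := algHom_k_eq_cc ((ε₂.comp (φ : (P k ⧸ Ideal.span {F}) →ₐ[k] _)).comp π₁)
      (MvPowerSeries.X i)
    rw [MvPowerSeries.constantCoeff_X] at this
    exact this
  have hb'0 : ∀ i, b' i ∈ mI k := by
    intro i
    rw [mem_mI_iff, ← hε₁, hb']
    have := algHom_k_eq_cc ((ε₁.comp (φ.symm : _ →ₐ[k] (P k ⧸ Ideal.span {F}))).comp π₂)
      (MvPowerSeries.X i)
    rw [MvPowerSeries.constantCoeff_X] at this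
    exact this
  obtain ⟨Θ, hΘ⟩ := exists_algHom_X_eq_of_isAdicComplete (Λ := k)
    (IsLocalRing.maximalIdeal (P k)) b (fun i => by rw [maximalIdeal_eq]; exact hb0 i)
  obtain ⟨Θ', hΘ'⟩ := exists_algHom_X_eq_of_isAdicComplete (Λ := k)
    (IsLocalRing.maximalIdeal (P k)) b' (fun i => by rw [maximalIdeal_eq]; exact hb'0 i)
  have hmax₂ : ∀ x : P k, x ∈ mI k →
      π₂ x ∈ IsLocalRing.maximalIdeal (P k ⧸ Ideal.span {(MvPowerSeries.X 1 : P k) ^ 2}) := by
    intro x hx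
    rw [← IsLocalRing.map_maximalIdeal_of_surjective
      (π₂ : P k →+* P k ⧸ Ideal.span {(MvPowerSeries.X 1 : P k) ^ 2}) hπ₂, maximalIdeal_eq]
    exact Ideal.mem_map_of_mem _ hx
  have hmax₁ : ∀ x : P k, x ∈ mI k →
      π₁ x ∈ IsLocalRing.maximalIdeal (P k ⧸ Ideal.span {F}) := by
    intro x hx
    rw [← IsLocalRing.map_maximalIdeal_of_surjective
      (π₁ : P k →+* P k ⧸ Ideal.span {F}) hπ₁, maximalIdeal_eq]
    exact Ideal.mem_map_of_mem _ hx
  have hcomm : π₂.comp Θ = (φ : (P k ⧸ Ideal.span {F}) →ₐ[k] _).comp π₁ := by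
    refine algHom_ext_of_X_of_isHausdorff (Λ := k)
      (IsLocalRing.maximalIdeal (P k ⧸ Ideal.span {(MvPowerSeries.X 1 : P k) ^ 2})) _ _ ?_ ?_
    · intro i
      rw [AlgHom.comp_apply, hΘ]
      exact hmax₂ _ (hb0 i)
    · intro i
      rw [AlgHom.comp_apply, hΘ, hb]
      rfl
  have hcomm' : π₁.comp Θ' = (φ.symm : _ →ₐ[k] (P k ⧸ Ideal.span {F})).comp π₂ := by
    refine algHom_ext_of_X_of_isHausdorff (Λ := k)
      (IsLocalRing.maximalIdeal (P k ⧸ Ideal.span {F})) _ _ ?_ ?_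
    · intro i
      rw [AlgHom.comp_apply, hΘ']
      exact hmax₁ _ (hb'0 i)
    · intro i
      rw [AlgHom.comp_apply, hΘ', hb']
      rfl
  have hc1 : ∀ x : P k, π₂ (Θ x) = φ (π₁ x) := fun x => congrArg (fun g => g x) hcomm
  have hc2 : ∀ x : P k, π₁ (Θ' x) = φ.symm (π₂ x) := fun x => congrArg (fun g => g x) hcomm'
  -- consequences
  obtain ⟨w, hw⟩ : (MvPowerSeries.X 1 : P k) ^ 2 ∣ Θ F := by
    rw [← hker₂, hc1, (hker₁ F).mpr dvd_rfl, map_zero]
  obtain ⟨A, hA⟩ : F ∣ Θ' ((MvPowerSeries.X 1 : P k) ^ 2) := by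
    rw [← hker₁, hc2, (hker₂ _).mpr dvd_rfl, map_zero]
  obtain ⟨c, hcc⟩ : (MvPowerSeries.X 1 : P k) ^ 2 ∣ Θ (Θ' (MvPowerSeries.X 1)) - MvPowerSeries.X 1 := by
    rw [← hker₂, map_sub, hc1, hc2, AlgEquiv.apply_symm_apply, sub_self]
  set G : P k := Θ' (MvPowerSeries.X 1) with hGdef
  have hΘG : Θ G = MvPowerSeries.X 1 + MvPowerSeries.X 1 ^ 2 * c := by
    rw [← hcc]; ring
  have hX1 : (MvPowerSeries.X 1 : P k) ≠ 0 := by
    intro h
    have h' := congrArg (MvPowerSeries.coeff (e 0 1)) h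
    rw [coeff_e_X1] at h'
    simp at h'
  have key : (1 + MvPowerSeries.X 1 * c) ^ 2 = w * Θ A := by
    have hA2 : G ^ 2 = F * A := by
      rw [hGdef, ← map_pow]
      exact hA
    have h1 : Θ G ^ 2 = Θ F * Θ A := by
      rw [← map_pow, hA2, map_mul]
    rw [hΘG, hw] at h1
    have h2 : (MvPowerSeries.X 1 : P k) ^ 2 * (1 + MvPowerSeries.X 1 * c) ^ 2 =
        MvPowerSeries.X 1 ^ 2 * (w * Θ A) := by
      rw [← mul_assoc, ← h1]; ring
    exact mul_left_cancel₀ (pow_ne_zero 2 hX1) h2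
  have hAunit : IsUnit A := by
    have h3 := congrArg MvPowerSeries.constantCoeff key
    rw [map_pow, map_add, map_mul, map_one, MvPowerSeries.constantCoeff_X, zero_mul, add_zero,
      one_pow, map_mul, cc_algHom_P] at h3
    rw [MvPowerSeries.isUnit_iff_constantCoeff, isUnit_iff_ne_zero]
    intro h0
    rw [h0, mul_zero] at h3
    exact one_ne_zero h3
  obtain ⟨A', hA'⟩ := hAunit.exists_right_inv
  refine ⟨A', G, IsUnit.of_mul_eq_one_right A hA', ?_, ?_, ?_⟩
  · rw [mem_mI_iff, hGdef, cc_algHom_P, MvPowerSeries.constantCoeff_X]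
  · intro hG2
    have h4 := algHom_mem_pow Θ 2 hG2
    rw [hΘG] at h4
    have h5 := ((mem_sq_iff _).mp h4).2.2
    rw [map_add, coeff_e_X1, sq, mul_assoc, coeff_X1_mul_succ, coeff_X1_mul_zero] at h5
    simp at h5
  · rw [map_pow] at hA
    rw [← hGdef] at hA
    rw [hA, mul_comm A', mul_assoc, hA', mul_one]

/-! ### Step 2: arcs on `G = 0` -/

theorem prime_of_smooth (G : P k) (hG1 : G ∈ mI k) (hG2 : G ∉ mI k ^ 2) : Prime G := by
  obtain ⟨θ⟩ := smooth_equiv k G hG1 hG2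
  have hG0 : G ≠ 0 := by
    rintro rfl
    exact hG2 (Ideal.zero_mem _)
  haveI : IsDomain (P k ⧸ Ideal.span {G}) := MulEquiv.isDomain (PowerSeries k) θ.toMulEquiv
  exact (Ideal.span_singleton_prime hG0).mp ((Ideal.Quotient.isDomain_iff_prime _).mp inferInstance)

theorem no_common_factor [IsAlgClosed k] (a : Fin 2 → k) (G : P k) (hG1 : G ∈ mI k)
    (hG2 : G ∉ mI k ^ 2) (p q : MvPolynomial (Fin 2) k) (hp : Irreducible p) (hpq : ¬ p ∣ q)
    (h1 : G ∣ rc a p) (h2 : G ∣ rc a q) : False := by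
  obtain ⟨θ⟩ := smooth_equiv k G hG1 hG2
  let ρ : P k →ₐ[k] PowerSeries k :=
    (θ : (P k ⧸ Ideal.span {G}) →ₐ[k] PowerSeries k).comp (Ideal.Quotient.mkₐ k (Ideal.span {G}))
  have hρsurj : Function.Surjective ρ := θ.surjective.comp (Ideal.Quotient.mkₐ_surjective k _)
  have hρG : ∀ x, G ∣ x → ρ x = 0 := by
    intro x hx
    change θ (Ideal.Quotient.mk _ x) = 0
    rw [(Ideal.Quotient.eq_zero_iff_mem).mpr (Ideal.mem_span_singleton.mpr hx), map_zero]
  let ψ : MvPolynomial (Fin 2) k →ₐ[k] PowerSeries k := ρ.comp (rc a)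
  have hψp : ψ p = 0 := hρG _ h1
  have hψq : ψ q = 0 := hρG _ h2
  have hmem : ∀ i : Fin 2, ψ (MvPolynomial.X i) ∈ (algebraMap k (PowerSeries k)).range :=
    Fin.forall_fin_two.mpr ⟨arc_zero p q hp hpq ψ hψp hψq, arc_one p q hp hpq ψ hψp hψq⟩
  have hccalg : ∀ c : k, PowerSeries.constantCoeff (algebraMap k (PowerSeries k) c) = c := by
    intro c
    rw [PowerSeries.algebraMap_apply, Algebra.algebraMap_self, RingHom.id_apply,
      PowerSeries.constantCoeff_C]
  have hX : ∀ i : Fin 2, ρ (MvPowerSeries.X i) = 0 := by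
    intro i
    obtain ⟨c, hc⟩ := hmem i
    have h3 : ψ (MvPolynomial.X i) = ρ (MvPowerSeries.X i) + algebraMap k _ (a i) := by
      change ρ (rc a (MvPolynomial.X i)) = _
      rw [rc_X, map_add, C_eq_algebraMap, AlgHom.commutes]
    have h4 : ρ (MvPowerSeries.X i) = algebraMap k (PowerSeries k) (c - a i) := by
      rw [map_sub, hc, h3, add_sub_cancel_right]
    have h5 := cc_algHom_ps ρ (MvPowerSeries.X i)
    rw [h4, MvPowerSeries.constantCoeff_X, hccalg] at h5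
    rw [h4, h5, map_zero]
  obtain ⟨x, hx⟩ := hρsurj PowerSeries.X
  have h6 := algHom_eq_of_X_eq_zero ρ hX x
  rw [hx] at h6
  have h7 := congrArg (PowerSeries.coeff 1) h6
  rw [PowerSeries.coeff_one_X, PowerSeries.algebraMap_apply, Algebra.algebraMap_self,
    RingHom.id_apply, PowerSeries.coeff_C] at h7
  simp at h7

theorem not_sq_dvd [IsAlgClosed k] (a : Fin 2 → k) (G : P k) (hG1 : G ∈ mI k)
    (hG2 : G ∉ mI k ^ 2) (p : MvPolynomial (Fin 2) k) (hp : Irreducible p) :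
    ¬ G ^ 2 ∣ rc a p := by
  rintro ⟨H, hH⟩
  obtain ⟨i, hi⟩ : ∃ i, MvPolynomial.pderiv i p ≠ 0 := by
    by_contra hne
    exact not_irreducible_of_pderiv_eq_zero p (fun i => not_not.mp fun h => hne ⟨i, h⟩) hp
  have h1 : G ∣ rc a (MvPolynomial.pderiv i p) := by
    rw [← pderiv_rc, hH, sq, mul_assoc, Derivation.leibniz, Derivation.leibniz]
    refine ⟨G * MvPowerSeries.pderiv k i H + H * MvPowerSeries.pderiv k i G +
      H * MvPowerSeries.pderiv k i G, ?_⟩
    simp only [smul_eq_mul]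
    ring
  exact no_common_factor a G hG1 hG2 p _ hp (not_dvd_pderiv p i hi)
    ⟨G * H, by rw [hH]; ring⟩ h1

theorem exists_irreducible_factor_dvd (a : Fin 2 → k) (G : P k) (hGp : Prime G)
    (q : MvPolynomial (Fin 2) k) :
    q ≠ 0 → G ∣ rc a q → ∃ p, Irreducible p ∧ p ∣ q ∧ G ∣ rc a p := by
  induction q using WfDvdMonoid.induction_on_irreducible with
  | zero => intro h; exact absurd rfl h
  | unit u hu =>
    intro _ hd
    exact absurd (isUnit_of_dvd_unit hd (hu.map (rc a))) hGp.not_unit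
  | mul x i hx hi ih =>
    intro _ hd
    rw [map_mul] at hd
    rcases hGp.dvd_or_dvd hd with h | h
    · exact ⟨i, hi, dvd_mul_right i x, h⟩
    · obtain ⟨p, hp, hpx, hGp'⟩ := ih hx h
      exact ⟨p, hp, hpx.mul_left i, hGp'⟩

/-! ### The converse direction -/

theorem sq_equiv_of_smooth (U G : P k) (hU : IsUnit U) (hG1 : G ∈ mI k) (hG2 : G ∉ mI k ^ 2) :
    Nonempty ((P k ⧸ Ideal.span {U * G ^ 2}) ≃ₐ[k]
      (P k ⧸ Ideal.span {(MvPowerSeries.X 1 : P k) ^ 2})) := by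
  classical
  have hc := isAdicComplete_P k
  have h00 : MvPowerSeries.coeff (e 0 0) G = 0 := (mem_one_iff G).mp hG1
  have hne : ¬ (MvPowerSeries.coeff (e 1 0) G = 0 ∧ MvPowerSeries.coeff (e 0 1) G = 0) := by
    rintro ⟨h10, h01⟩
    exact hG2 ((mem_sq_iff G).mpr ⟨h00, h10, h01⟩)
  obtain ⟨L, hL0, hdet⟩ : ∃ L : P k, L ∈ mI k ∧
      MvPowerSeries.coeff (e 1 0) L * MvPowerSeries.coeff (e 0 1) G -
        MvPowerSeries.coeff (e 0 1) L * MvPowerSeries.coeff (e 1 0) G ≠ 0 := by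
    by_cases h01 : MvPowerSeries.coeff (e 0 1) G = 0
    · refine ⟨MvPowerSeries.X 1, ?_, ?_⟩
      · rw [mem_mI_iff, MvPowerSeries.constantCoeff_X]
      · rw [coeff_e_X1, coeff_e_X1]
        simp only [one_ne_zero, zero_ne_one, and_true, and_false, and_self, if_true, if_false,
          zero_mul, one_mul, zero_sub, ne_eq, neg_eq_zero]
        intro h10
        exact hne ⟨h10, h01⟩
    · refine ⟨MvPowerSeries.X 0, ?_, ?_⟩
      · rw [mem_mI_iff, MvPowerSeries.constantCoeff_X]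
      · rw [coeff_e_X0, coeff_e_X0]
        simp only [one_ne_zero, zero_ne_one, and_true, and_false, and_self, if_true, if_false,
          zero_mul, one_mul, sub_zero, ne_eq]
        exact h01
  obtain ⟨Φ, hΦ⟩ := exists_algHom_X_eq_of_isAdicComplete (Λ := k)
    (IsLocalRing.maximalIdeal (P k)) (![L, G] : Fin 2 → P k)
    (Fin.forall_fin_two.mpr ⟨by rw [maximalIdeal_eq]; exact hL0,
      by rw [maximalIdeal_eq]; exact hG1⟩)
  have hΦ0 : Φ (MvPowerSeries.X 0) = L := hΦ 0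
  have hΦ1 : Φ (MvPowerSeries.X 1) = G := hΦ 1
  have hbij : Function.Bijective Φ := by
    refine bijective_of_isUnit_jacobian_det (R := k) (σ := Fin 2) Φ ?_ ?_
    · refine Fin.forall_fin_two.mpr ⟨?_, ?_⟩
      · rw [hΦ0]; exact (mem_mI_iff L).mp hL0
      · rw [hΦ1]; exact (mem_mI_iff G).mp hG1
    · rw [Matrix.det_fin_two, isUnit_iff_ne_zero]
      simp only [Matrix.of_apply]
      rw [hΦ0, hΦ1, ← e10, ← e01]
      exact hdet
  let Φe : P k ≃ₐ[k] P k := AlgEquiv.ofBijective Φ hbij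
  obtain ⟨U', hU'⟩ := hU.exists_right_inv
  have hU'unit : IsUnit U' := IsUnit.of_mul_eq_one_right U hU'
  obtain ⟨E⟩ := quotEquivOfMap Φe ((MvPowerSeries.X 1 : P k) ^ 2) (U * G ^ 2) U' hU'unit (by
    change Φ ((MvPowerSeries.X 1 : P k) ^ 2) = _
    rw [map_pow, hΦ1, mul_comm U, mul_assoc, hU', mul_one])
  exact ⟨E.symm⟩

theorem backward (f g h : MvPolynomial (Fin 2) k) (a : Fin 2 → k) (hf : f = g ^ 2 * h)
    (hh : MvPolynomial.eval a h ≠ 0) (hg : MvPolynomial.eval a g = 0) (i : Fin 2)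
    (hi : MvPolynomial.eval a (MvPolynomial.pderiv i g) ≠ 0) :
    Nonempty ((P k ⧸ Ideal.span {rc a f}) ≃ₐ[k]
      (P k ⧸ Ideal.span {(MvPowerSeries.X 1 : P k) ^ 2})) := by
  have e : rc a f = rc a h * (rc a g) ^ 2 := by rw [hf, map_mul, map_pow, mul_comm]
  rw [e]
  refine sq_equiv_of_smooth (rc a h) (rc a g) ?_ ?_ ?_
  · rw [MvPowerSeries.isUnit_iff_constantCoeff, cc_rc, isUnit_iff_ne_zero]
    exact hh
  · rw [mem_mI_iff, cc_rc]
    exact hg
  · intro hmem
    have h3 := (mem_sq_iff _).mp hmem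
    rw [e10, e01] at h3
    have key : ∀ i : Fin 2, MvPowerSeries.coeff (Finsupp.single i 1) (rc a g) = 0 :=
      Fin.forall_fin_two.mpr ⟨h3.2.1, h3.2.2⟩
    exact hi (by rw [← coeff_rc_single]; exact key i)

end Groth.Agent.Lib.R2H7.SqCurvePS
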