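/-
Main theorem on plane curve germs with a double smooth branch (see `R2H7SqCurvePS`).
-/
import Mathlib
import Groth.Agent.Lib.R2H7SqCurvePS

set_option autoImplicit false
universe u

namespace Groth.Agent.Lib.R2H7.SqCurvePS

open Groth.Agent.Lib.Helper19 Groth.Agent.Lib.H9NodeKer Groth.Agent.Lib.R2H7.DoublePtInv
  Groth.Agent.Lib.R2H7.DoublePtTaylor Groth.Agent.Lib.R2H7.DoublePtNF
  Groth.Agent.Lib.R2H7.SqCurveAlg

variable {k : Type u} [Field k]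

/-! ### The two directions -/

theorem forward [IsAlgClosed k] (f : MvPolynomial (Fin 2) k) (a : Fin 2 → k)
    (φ : (P k ⧸ Ideal.span {rc a f}) ≃ₐ[k]
      (P k ⧸ Ideal.span {(MvPowerSeries.X 1 : P k) ^ 2})) :
    ∃ g h : MvPolynomial (Fin 2) k, f = g ^ 2 * h ∧ MvPolynomial.eval a h ≠ 0 ∧
      MvPolynomial.eval a g = 0 ∧
      ∃ i : Fin 2, MvPolynomial.eval a (MvPolynomial.pderiv i g) ≠ 0 := by
  haveI : IsDomain (P k) := NoZeroDivisors.to_isDomain _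
  obtain ⟨U, G, hU, hG1, hG2, hF⟩ := exists_unit_sq_of_equiv (rc a f) φ
  have hGp := prime_of_smooth G hG1 hG2
  have hG0 : G ≠ 0 := hGp.ne_zero
  have hf0 : f ≠ 0 := by
    rintro rfl
    rw [map_zero] at hF
    exact mul_ne_zero hU.ne_zero (pow_ne_zero 2 hG0) hF.symm
  obtain ⟨p₁, hp₁, hp₁f, hGp₁⟩ := exists_irreducible_factor_dvd a G hGp f hf0
    ⟨U * G, by rw [hF]; ring⟩
  obtain ⟨f₁, hf₁⟩ := hp₁f
  obtain ⟨H₁, hH₁⟩ := hGp₁
  have hnG : ¬ G ∣ H₁ := by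
    rintro ⟨H', hH'⟩
    exact not_sq_dvd a G hG1 hG2 p₁ hp₁ ⟨H', by rw [hH₁, hH']; ring⟩
  have e1 : U * G = H₁ * rc a f₁ := by
    have h3 : G * (U * G) = G * (H₁ * rc a f₁) := by
      rw [← mul_assoc G H₁, ← hH₁, ← map_mul, ← hf₁, hF]; ring
    exact mul_left_cancel₀ hG0 h3
  have hGf₁ : G ∣ rc a f₁ := by
    have h3 : G ∣ H₁ * rc a f₁ := ⟨U, by rw [← e1]; ring⟩
    exact (hGp.dvd_or_dvd h3).resolve_left hnG
  have hf₁0 : f₁ ≠ 0 := by
    rintro rfl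
    rw [mul_zero] at hf₁
    exact hf0 hf₁
  obtain ⟨p₂, hp₂, hp₂f, hGp₂⟩ := exists_irreducible_factor_dvd a G hGp f₁ hf₁0 hGf₁
  have hdvd : p₁ ∣ p₂ := by
    by_contra hnd
    exact no_common_factor a G hG1 hG2 p₁ p₂ hp₁ hnd ⟨H₁, hH₁⟩ hGp₂
  obtain ⟨u, hu⟩ := hp₁.associated_of_dvd hp₂ hdvd
  obtain ⟨f₂, hf₂⟩ := hp₂f
  have hfact : f = p₁ ^ 2 * (↑u * f₂) := by
    rw [hf₁, hf₂, ← hu]; ring
  have e2 : H₁ ^ 2 * rc a (↑u * f₂) = U := by
    have h3 : G ^ 2 * (H₁ ^ 2 * rc a (↑u * f₂)) = G ^ 2 * U := by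
      have h4 : rc a f = (G * H₁) ^ 2 * rc a (↑u * f₂) := by
        rw [← hH₁, ← map_pow, ← map_mul, ← hfact]
      rw [mul_comm (G ^ 2) U, ← hF, h4]; ring
    exact mul_left_cancel₀ (pow_ne_zero 2 hG0) h3
  have hunit : IsUnit (H₁ ^ 2 * rc a (↑u * f₂)) := by rw [e2]; exact hU
  have hunit_h : IsUnit (rc a (↑u * f₂)) := isUnit_of_mul_isUnit_right hunit
  have hunit_H : IsUnit H₁ := by
    have h3 : IsUnit (H₁ ^ 2) := isUnit_of_mul_isUnit_left hunit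
    rw [sq] at h3
    exact isUnit_of_mul_isUnit_left h3
  have r1 : MvPolynomial.eval a ((u : MvPolynomial (Fin 2) k) * f₂) ≠ 0 := by
    rw [← cc_rc]
    rw [MvPowerSeries.isUnit_iff_constantCoeff, isUnit_iff_ne_zero] at hunit_h
    exact hunit_h
  have r2 : MvPolynomial.eval a p₁ = 0 := by
    rw [← cc_rc, hH₁, map_mul, (mem_mI_iff G).mp hG1, zero_mul]
  have r3 : ∃ i : Fin 2, MvPolynomial.eval a (MvPolynomial.pderiv i p₁) ≠ 0 := by
    by_contra hne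
    have hall : ∀ i : Fin 2, MvPolynomial.eval a (MvPolynomial.pderiv i p₁) = 0 :=
      fun i => not_not.mp fun h => hne ⟨i, h⟩
    have hmem : rc a p₁ ∈ mI k ^ 2 := by
      rw [mem_sq_iff, e00, e10, e01, coeff_rc_single, coeff_rc_single,
        MvPowerSeries.coeff_zero_eq_constantCoeff_apply, hH₁, map_mul, (mem_mI_iff G).mp hG1,
        zero_mul]
      exact ⟨rfl, hall 0, hall 1⟩
    obtain ⟨H', hH'⟩ := hunit_H.exists_right_inv
    apply hG2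
    have h3 : G = rc a p₁ * H' := by
      rw [hH₁, mul_assoc, hH', mul_one]
    rw [h3]
    exact Ideal.mul_mem_right _ _ hmem
  exact ⟨p₁, _, hfact, r1, r2, r3⟩

theorem main [IsAlgClosed k] (f : MvPolynomial (Fin 2) k) (a : Fin 2 → k) :
    Nonempty ((P k ⧸ Ideal.span {rc a f}) ≃ₐ[k]
      (P k ⧸ Ideal.span {(MvPowerSeries.X 1 : P k) ^ 2})) ↔
    ∃ g h : MvPolynomial (Fin 2) k, f = g ^ 2 * h ∧ MvPolynomial.eval a h ≠ 0 ∧
      MvPolynomial.eval a g = 0 ∧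
      ∃ i : Fin 2, MvPolynomial.eval a (MvPolynomial.pderiv i g) ≠ 0 := by
  constructor
  · rintro ⟨φ⟩
    exact forward f a φ
  · rintro ⟨g, h, hf, hh, hg, i, hi⟩
    exact backward f g h a hf hh hg i hi

end Groth.Agent.Lib.R2H7.SqCurvePS
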