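import Mathlib
import Groth.Prelude.Def_W4c2brnrinvarInvFld
import Groth.Agent.Lib.R2H7NoName
import Groth.Agent.Lib.R2H7NoNameFld
import Groth.Agent.Lib.R2H7NoNameFldGen

/-!
# Stable equivalence of invariant fields of faithful linear representations (S15696)
-/

namespace Groth.Agent.Lib.R2H7.StableEquiv

open MvPolynomial Groth.Agent.Lib.R2H7.NoName Groth.Agent.Lib.R2H7.NoNameFld
  Groth.Agent.Lib.R2H7.NoNameFldGen

universe u

variable {k : Type u} [Field k]

section Embed

variable {α ι : Type*} (f : α → ι) (hf : Function.Injective f)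

/-- The embedding `k(x_i : i ∈ α) → k(x_i : i ∈ ι)` induced by an injection `α → ι`. -/
noncomputable def embed : InvFld.Fld α k →ₐ[k] InvFld.Fld ι k :=
  IsFractionRing.liftAlgHom
    (g := (IsScalarTower.toAlgHom k (MvPolynomial ι k) (InvFld.Fld ι k)).comp (rename f))
    ((IsFractionRing.injective (MvPolynomial ι k) (InvFld.Fld ι k)).comp (rename_injective f hf))

theorem embed_algebraMap (p : MvPolynomial α k) :
    embed f hf (algebraMap (MvPolynomial α k) (InvFld.Fld α k) p) =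
      algebraMap (MvPolynomial ι k) (InvFld.Fld ι k) (rename f p) := by
  unfold embed
  rw [IsFractionRing.liftAlgHom_apply, IsFractionRing.lift_algebraMap]
  rfl

theorem embed_X (i : α) : embed f hf (InvFld.X i : InvFld.Fld α k) = InvFld.X (f i) := by
  show embed f hf (algebraMap _ _ (X i)) = _
  rw [embed_algebraMap, rename_X]

theorem embed_injective : Function.Injective (embed (k := k) f hf) :=
  (embed f hf).toRingHom.injective

end Embed

section Ext

variable {α : Type*}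

/-- Ring homomorphisms out of `k(x)` into a field which agree on `k` and on the variables
agree. -/
theorem algHom_ext_X {L : Type*} [Field L] [Algebra k L] (φ ψ : InvFld.Fld α k →ₐ[k] L)
    (h : ∀ i, φ (InvFld.X i) = ψ (InvFld.X i)) : φ = ψ := by
  have h1 : φ.comp (IsScalarTower.toAlgHom k (MvPolynomial α k) (InvFld.Fld α k)) =
      ψ.comp (IsScalarTower.toAlgHom k (MvPolynomial α k) (InvFld.Fld α k)) := by
    apply MvPolynomial.algHom_ext
    intro i
    exact h i
  have h2 : (φ : InvFld.Fld α k →+* L) = (ψ : InvFld.Fld α k →+* L) := by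
    apply IsFractionRing.ringHom_ext (A := MvPolynomial α k)
    intro p
    exact DFunLike.congr_fun h1 p
  apply AlgHom.ext
  intro u
  exact RingHom.congr_fun h2 u

theorem adjoin_X_eq_top :
    IntermediateField.adjoin k (Set.range fun i : α => (InvFld.X i : InvFld.Fld α k)) = ⊤ := by
  rw [eq_top_iff]
  intro u _
  have hp : ∀ p : MvPolynomial α k, algebraMap (MvPolynomial α k) (InvFld.Fld α k) p ∈
      IntermediateField.adjoin k (Set.range fun i : α => (InvFld.X i : InvFld.Fld α k)) := by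
    intro p
    induction p using MvPolynomial.induction_on with
    | C c =>
      rw [← MvPolynomial.algebraMap_eq, ← IsScalarTower.algebraMap_apply]
      exact IntermediateField.algebraMap_mem _ c
    | add p q hp hq => rw [map_add]; exact add_mem hp hq
    | mul_X p i hp =>
      rw [map_mul]
      exact mul_mem hp (IntermediateField.subset_adjoin _ _ (Set.mem_range_self i))
  obtain ⟨p, q, _, rfl⟩ := IsFractionRing.div_surjective (A := MvPolynomial α k) u
  exact div_mem (hp p) (hp q)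

end Ext

section Poly

variable {α β : Type*}

/-- A `k`-endomorphism of `k(x)` sending each variable to a linear form restricts to the
polynomial ring. -/
theorem exists_poly_restrict (σ : InvFld.Fld α k →ₐ[k] InvFld.Fld α k)
    (h : ∀ i, σ (InvFld.X i) ∈
      Submodule.span k (Set.range fun j : α => (InvFld.X j : InvFld.Fld α k))) :
    ∃ σ₀ : MvPolynomial α k →ₐ[k] MvPolynomial α k,
      ∀ p, algebraMap (MvPolynomial α k) (InvFld.Fld α k) (σ₀ p) =
        σ (algebraMap (MvPolynomial α k) (InvFld.Fld α k) p) := by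
  have hle : Submodule.span k (Set.range fun j : α => (InvFld.X j : InvFld.Fld α k)) ≤
      (IsScalarTower.toAlgHom k (MvPolynomial α k) (InvFld.Fld α k)).range.toSubmodule := by
    rw [Submodule.span_le]
    rintro _ ⟨j, rfl⟩
    exact ⟨X j, rfl⟩
  have hq : ∀ i, ∃ q : MvPolynomial α k,
      algebraMap (MvPolynomial α k) (InvFld.Fld α k) q = σ (InvFld.X i) := fun i => hle (h i)
  choose q hq using hq
  refine ⟨aeval q, fun p => ?_⟩
  have : (IsScalarTower.toAlgHom k (MvPolynomial α k) (InvFld.Fld α k)).comp (aeval q) =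
      σ.comp (IsScalarTower.toAlgHom k (MvPolynomial α k) (InvFld.Fld α k)) := by
    apply MvPolynomial.algHom_ext
    intro i
    simp only [AlgHom.comp_apply, aeval_X, IsScalarTower.coe_toAlgHom']
    exact hq i
  exact DFunLike.congr_fun this p

/-- A `k`-automorphism of `k(x)` which, together with its inverse, sends each variable to a linear
form restricts to an automorphism of the polynomial ring. -/
theorem exists_poly_equiv (σ : InvFld.Fld α k ≃ₐ[k] InvFld.Fld α k)
    (h : ∀ i, σ (InvFld.X i) ∈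
      Submodule.span k (Set.range fun j : α => (InvFld.X j : InvFld.Fld α k)))
    (h' : ∀ i, σ.symm (InvFld.X i) ∈
      Submodule.span k (Set.range fun j : α => (InvFld.X j : InvFld.Fld α k))) :
    ∃ σ₀ : MvPolynomial α k ≃ₐ[k] MvPolynomial α k,
      ∀ p, algebraMap (MvPolynomial α k) (InvFld.Fld α k) (σ₀ p) =
        σ (algebraMap (MvPolynomial α k) (InvFld.Fld α k) p) := by
  obtain ⟨s, hs⟩ := exists_poly_restrict (σ : InvFld.Fld α k →ₐ[k] InvFld.Fld α k) h
  obtain ⟨s', hs'⟩ := exists_poly_restrict (σ.symm : InvFld.Fld α k →ₐ[k] InvFld.Fld α k) h'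
  have hinj := IsFractionRing.injective (MvPolynomial α k) (InvFld.Fld α k)
  have h1 : s.comp s' = AlgHom.id k _ := by
    apply AlgHom.ext
    intro p
    apply hinj
    rw [AlgHom.comp_apply, hs, hs']
    exact σ.apply_symm_apply _
  have h2 : s'.comp s = AlgHom.id k _ := by
    apply AlgHom.ext
    intro p
    apply hinj
    rw [AlgHom.comp_apply, hs', hs]
    exact σ.symm_apply_apply _
  exact ⟨AlgEquiv.ofAlgHom s s' h1 h2, hs⟩

/-- The endomorphism of `k[x, y]` induced by endomorphisms of `k[x]` and `k[y]`. -/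
noncomputable def prodHom (s : MvPolynomial α k →ₐ[k] MvPolynomial α k)
    (t : MvPolynomial β k →ₐ[k] MvPolynomial β k) :
    MvPolynomial (α ⊕ β) k →ₐ[k] MvPolynomial (α ⊕ β) k :=
  aeval (Sum.elim (fun i => rename Sum.inl (s (X i))) (fun j => rename Sum.inr (t (X j))))

theorem prodHom_X_inl (s : MvPolynomial α k →ₐ[k] MvPolynomial α k)
    (t : MvPolynomial β k →ₐ[k] MvPolynomial β k) (i : α) :
    prodHom s t (X (Sum.inl i)) = rename Sum.inl (s (X i)) := by
  simp [prodHom]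

theorem prodHom_X_inr (s : MvPolynomial α k →ₐ[k] MvPolynomial α k)
    (t : MvPolynomial β k →ₐ[k] MvPolynomial β k) (j : β) :
    prodHom s t (X (Sum.inr j)) = rename Sum.inr (t (X j)) := by
  simp [prodHom]

theorem prodHom_rename_inl (s : MvPolynomial α k →ₐ[k] MvPolynomial α k)
    (t : MvPolynomial β k →ₐ[k] MvPolynomial β k) (p : MvPolynomial α k) :
    prodHom s t (rename Sum.inl p) = rename Sum.inl (s p) := by
  have : (prodHom s t).comp (rename Sum.inl) = (rename Sum.inl).comp s := by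
    apply MvPolynomial.algHom_ext
    intro i
    simp [prodHom]
  exact DFunLike.congr_fun this p

theorem prodHom_rename_inr (s : MvPolynomial α k →ₐ[k] MvPolynomial α k)
    (t : MvPolynomial β k →ₐ[k] MvPolynomial β k) (p : MvPolynomial β k) :
    prodHom s t (rename Sum.inr p) = rename Sum.inr (t p) := by
  have : (prodHom s t).comp (rename Sum.inr) = (rename Sum.inr).comp t := by
    apply MvPolynomial.algHom_ext
    intro i
    simp [prodHom]
  exact DFunLike.congr_fun this p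

theorem prodHom_comp (s s' : MvPolynomial α k →ₐ[k] MvPolynomial α k)
    (t t' : MvPolynomial β k →ₐ[k] MvPolynomial β k) :
    (prodHom s t).comp (prodHom s' t') = prodHom (s.comp s') (t.comp t') := by
  apply MvPolynomial.algHom_ext
  intro i
  cases i with
  | inl i =>
    rw [AlgHom.comp_apply, prodHom_X_inl, prodHom_rename_inl, prodHom_X_inl, AlgHom.comp_apply]
  | inr j =>
    rw [AlgHom.comp_apply, prodHom_X_inr, prodHom_rename_inr, prodHom_X_inr, AlgHom.comp_apply]

theorem prodHom_id :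
    prodHom (AlgHom.id k (MvPolynomial α k)) (AlgHom.id k (MvPolynomial β k)) = AlgHom.id k _ := by
  apply MvPolynomial.algHom_ext
  intro i
  cases i <;> simp [prodHom]

/-- The automorphism of `k[x, y]` induced by automorphisms of `k[x]` and `k[y]`. -/
noncomputable def prodEquiv (s : MvPolynomial α k ≃ₐ[k] MvPolynomial α k)
    (t : MvPolynomial β k ≃ₐ[k] MvPolynomial β k) :
    MvPolynomial (α ⊕ β) k ≃ₐ[k] MvPolynomial (α ⊕ β) k :=
  AlgEquiv.ofAlgHom (prodHom (s : _ →ₐ[k] _) (t : _ →ₐ[k] _))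
    (prodHom (s.symm : _ →ₐ[k] _) (t.symm : _ →ₐ[k] _))
    (by rw [prodHom_comp, ← prodHom_id]; congr 1 <;> (apply AlgHom.ext; intro p; simp))
    (by rw [prodHom_comp, ← prodHom_id]; congr 1 <;> (apply AlgHom.ext; intro p; simp))

theorem prodEquiv_rename_inl (s : MvPolynomial α k ≃ₐ[k] MvPolynomial α k)
    (t : MvPolynomial β k ≃ₐ[k] MvPolynomial β k) (p : MvPolynomial α k) :
    prodEquiv s t (rename Sum.inl p) = rename Sum.inl (s p) :=
  prodHom_rename_inl _ _ p

theorem prodEquiv_rename_inr (s : MvPolynomial α k ≃ₐ[k] MvPolynomial α k)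
    (t : MvPolynomial β k ≃ₐ[k] MvPolynomial β k) (p : MvPolynomial β k) :
    prodEquiv s t (rename Sum.inr p) = rename Sum.inr (t p) :=
  prodHom_rename_inr _ _ p

end Poly

section Lift

variable {α β : Type*}

/-- `k(x) → k(x, y)`. -/
noncomputable abbrev ιx (k : Type u) [Field k] (α β : Type*) :
    InvFld.Fld α k →ₐ[k] InvFld.Fld (α ⊕ β) k :=
  embed Sum.inl Sum.inl_injective

/-- `k(y) → k(x, y)`. -/
noncomputable abbrev ιy (k : Type u) [Field k] (α β : Type*) :
    InvFld.Fld β k →ₐ[k] InvFld.Fld (α ⊕ β) k :=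
  embed Sum.inr Sum.inr_injective

/-- `ρ` is the automorphism of `k(x, y)` acting as `σ` on `k(x)` and as `τ` on `k(y)`. -/
def IsLift (σ : InvFld.Fld α k ≃ₐ[k] InvFld.Fld α k) (τ : InvFld.Fld β k ≃ₐ[k] InvFld.Fld β k)
    (ρ : InvFld.Fld (α ⊕ β) k ≃ₐ[k] InvFld.Fld (α ⊕ β) k) : Prop :=
  (∀ u, ρ (ιx k α β u) = ιx k α β (σ u)) ∧ (∀ v, ρ (ιy k α β v) = ιy k α β (τ v))

theorem exists_isLift (σ : InvFld.Fld α k ≃ₐ[k] InvFld.Fld α k)
    (τ : InvFld.Fld β k ≃ₐ[k] InvFld.Fld β k)
    (hσ : ∀ i, σ (InvFld.X i) ∈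
      Submodule.span k (Set.range fun j : α => (InvFld.X j : InvFld.Fld α k)))
    (hσ' : ∀ i, σ.symm (InvFld.X i) ∈
      Submodule.span k (Set.range fun j : α => (InvFld.X j : InvFld.Fld α k)))
    (hτ : ∀ i, τ (InvFld.X i) ∈
      Submodule.span k (Set.range fun j : β => (InvFld.X j : InvFld.Fld β k)))
    (hτ' : ∀ i, τ.symm (InvFld.X i) ∈
      Submodule.span k (Set.range fun j : β => (InvFld.X j : InvFld.Fld β k))) :
    ∃ ρ, IsLift σ τ ρ := by
  obtain ⟨σ₀, hσ₀⟩ := exists_poly_equiv σ hσ hσ'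
  obtain ⟨τ₀, hτ₀⟩ := exists_poly_equiv τ hτ hτ'
  let ρ : InvFld.Fld (α ⊕ β) k ≃ₐ[k] InvFld.Fld (α ⊕ β) k :=
    IsFractionRing.algEquivOfAlgEquiv (prodEquiv σ₀ τ₀)
  have hρ : ∀ p, ρ (algebraMap (MvPolynomial (α ⊕ β) k) (InvFld.Fld (α ⊕ β) k) p) =
      algebraMap (MvPolynomial (α ⊕ β) k) (InvFld.Fld (α ⊕ β) k) (prodEquiv σ₀ τ₀ p) :=
    fun p => IsFractionRing.algEquivOfAlgEquiv_algebraMap _ p
  refine ⟨ρ, ?_, ?_⟩
  · have : (ρ : InvFld.Fld (α ⊕ β) k →ₐ[k] InvFld.Fld (α ⊕ β) k).comp (ιx k α β) =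
        (ιx k α β).comp (σ : InvFld.Fld α k →ₐ[k] InvFld.Fld α k) := by
      apply algHom_ext_X
      intro i
      simp only [AlgHom.comp_apply, AlgEquiv.coe_algHom]
      show ρ (embed Sum.inl Sum.inl_injective (algebraMap _ _ (X i))) =
        embed Sum.inl Sum.inl_injective (σ (algebraMap _ _ (X i)))
      rw [embed_algebraMap, hρ, ← hσ₀, embed_algebraMap, prodEquiv_rename_inl]
    exact fun u => DFunLike.congr_fun this u
  · have : (ρ : InvFld.Fld (α ⊕ β) k →ₐ[k] InvFld.Fld (α ⊕ β) k).comp (ιy k α β) =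
        (ιy k α β).comp (τ : InvFld.Fld β k →ₐ[k] InvFld.Fld β k) := by
      apply algHom_ext_X
      intro i
      simp only [AlgHom.comp_apply, AlgEquiv.coe_algHom]
      show ρ (embed Sum.inr Sum.inr_injective (algebraMap _ _ (X i))) =
        embed Sum.inr Sum.inr_injective (τ (algebraMap _ _ (X i)))
      rw [embed_algebraMap, hρ, ← hτ₀, embed_algebraMap, prodEquiv_rename_inr]
    exact fun u => DFunLike.congr_fun this u

theorem IsLift.unique {σ : InvFld.Fld α k ≃ₐ[k] InvFld.Fld α k}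
    {τ : InvFld.Fld β k ≃ₐ[k] InvFld.Fld β k}
    {ρ ρ' : InvFld.Fld (α ⊕ β) k ≃ₐ[k] InvFld.Fld (α ⊕ β) k}
    (h : IsLift σ τ ρ) (h' : IsLift σ τ ρ') : ρ = ρ' := by
  have : (ρ : InvFld.Fld (α ⊕ β) k →ₐ[k] InvFld.Fld (α ⊕ β) k) = ρ' := by
    apply algHom_ext_X
    intro s
    cases s with
    | inl i =>
      have e : (InvFld.X (Sum.inl i) : InvFld.Fld (α ⊕ β) k) = ιx k α β (InvFld.X i) :=
        (embed_X _ _ i).symm
      simp only [AlgEquiv.coe_algHom]
      rw [e, h.1, h'.1]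
    | inr j =>
      have e : (InvFld.X (Sum.inr j) : InvFld.Fld (α ⊕ β) k) = ιy k α β (InvFld.X j) :=
        (embed_X _ _ j).symm
      simp only [AlgEquiv.coe_algHom]
      rw [e, h.2, h'.2]
  apply AlgEquiv.ext
  intro u
  exact DFunLike.congr_fun this u

theorem IsLift.mul {σ σ' : InvFld.Fld α k ≃ₐ[k] InvFld.Fld α k}
    {τ τ' : InvFld.Fld β k ≃ₐ[k] InvFld.Fld β k}
    {ρ ρ' : InvFld.Fld (α ⊕ β) k ≃ₐ[k] InvFld.Fld (α ⊕ β) k}
    (h : IsLift σ τ ρ) (h' : IsLift σ' τ' ρ') : IsLift (σ * σ') (τ * τ') (ρ * ρ') := by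
  constructor
  · intro u
    rw [AlgEquiv.mul_apply, h'.1, h.1, AlgEquiv.mul_apply]
  · intro v
    rw [AlgEquiv.mul_apply, h'.2, h.2, AlgEquiv.mul_apply]

theorem IsLift.one : IsLift (1 : InvFld.Fld α k ≃ₐ[k] InvFld.Fld α k)
    (1 : InvFld.Fld β k ≃ₐ[k] InvFld.Fld β k) 1 :=
  ⟨fun _ => rfl, fun _ => rfl⟩

end Lift

section Transport

/-- Base change of rational function fields along an isomorphism of coefficient fields. -/
noncomputable def fldCongr {F₁ F₂ : Type*} [Field F₁] [Field F₂] [Algebra k F₁] [Algebra k F₂]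
    (m : ℕ) (φ : F₁ ≃ₐ[k] F₂) : InvFld.Fld (Fin m) F₁ ≃ₐ[k] InvFld.Fld (Fin m) F₂ :=
  IsFractionRing.algEquivOfAlgEquiv (MvPolynomial.mapAlgEquiv (Fin m) φ)

/-- The rational function field over `F'` on an algebraically independent family. -/
noncomputable def fldEquivAdjoin {L : Type*} [Field L] [Algebra k L]
    (F' : Type*) [Field F'] [Algebra k F'] [Algebra F' L] [IsScalarTower k F' L] {m : ℕ}
    (t : Fin m → L) (ht : AlgebraicIndependent F' t) :
    InvFld.Fld (Fin m) F' ≃ₐ[k]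
      ↥((IntermediateField.adjoin F' (Set.range t)).restrictScalars k) :=
  (ht.aevalEquivField.restrictScalars k).trans AlgEquiv.refl

end Transport

section Side

variable {ι : Type*} {n m : ℕ}

theorem embed_mem_span {α : Type*} (f : α → ι) (hf : Function.Injective f)
    (u : InvFld.Fld α k)
    (hu : u ∈ Submodule.span k (Set.range fun j : α => (InvFld.X j : InvFld.Fld α k))) :
    embed f hf u ∈
      Submodule.span k (Set.range fun j : α => (InvFld.X (f j) : InvFld.Fld ι k)) := by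
  induction hu using Submodule.span_induction with
  | mem x hx =>
    obtain ⟨j, rfl⟩ := hx
    rw [embed_X]
    exact Submodule.subset_span ⟨j, rfl⟩
  | zero => rw [map_zero]; exact Submodule.zero_mem _
  | add x y _ _ hx hy => rw [map_add]; exact Submodule.add_mem _ hx hy
  | smul c x _ hx => rw [map_smul]; exact Submodule.smul_mem _ c hx

theorem Ka_eq_fieldRange (a : Fin n → ι) (ha : Function.Injective a) :
    Ka k a = (embed (k := k) a ha).fieldRange := by
  have hset : (embed (k := k) a ha) '' (Set.range fun i : Fin n =>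
      (InvFld.X i : InvFld.Fld (Fin n) k)) =
      Set.range fun j : Fin n => (InvFld.X (a j) : InvFld.Fld ι k) := by
    ext x
    constructor
    · rintro ⟨_, ⟨j, rfl⟩, rfl⟩
      exact ⟨j, (embed_X _ _ j).symm⟩
    · rintro ⟨j, rfl⟩
      exact ⟨InvFld.X j, ⟨j, rfl⟩, embed_X _ _ j⟩
  rw [AlgHom.fieldRange_eq_map, ← adjoin_X_eq_top, IntermediateField.adjoin_map, hset]

/-- One side of the stable equivalence: `k(x)^G (t_1, …, t_m) ≅ k(x, y)^Δ`. -/
theorem side (a : Fin n → ι) (b : Fin m → ι) (ha : Function.Injective a)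
    (hab : Function.Bijective (Sum.elim a b))
    (G : Subgroup (InvFld.Fld (Fin n) k ≃ₐ[k] InvFld.Fld (Fin n) k))
    (Δ : Subgroup (InvFld.Fld ι k ≃ₐ[k] InvFld.Fld ι k)) [Finite Δ]
    (h1 : ∀ ρ ∈ Δ, ∃ σ ∈ G, ∀ u, ρ (embed a ha u) = embed a ha (σ u))
    (h2 : ∀ σ ∈ G, ∃ ρ ∈ Δ, ∀ u, ρ (embed a ha u) = embed a ha (σ u))
    (h3 : ∀ ρ ∈ Δ, (∀ u, ρ (embed a ha u) = embed a ha u) → ρ = 1)
    (h4 : ∀ σ ∈ G, ∀ i, σ (InvFld.X i) ∈ Submodule.span k
      (Set.range fun j : Fin n => (InvFld.X j : InvFld.Fld (Fin n) k)))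
    (h5 : ∀ ρ ∈ Δ, ∀ j, ρ (InvFld.X (b j)) ∈ Submodule.span k
      (Set.range fun j : Fin m => (InvFld.X (b j) : InvFld.Fld ι k))) :
    Nonempty (InvFld.Fld (Fin m) (IntermediateField.fixedField G) ≃ₐ[k]
      ↥(IntermediateField.fixedField Δ)) := by
  have hx : ∀ ρ ∈ Δ, ∀ i : Fin n, ρ (InvFld.X (a i)) ∈
      Submodule.span k (Set.range fun j : Fin n => (InvFld.X (a j) : InvFld.Fld ι k)) := by
    intro ρ hρ i
    obtain ⟨σ, hσ, hρσ⟩ := h1 ρ hρ
    rw [← embed_X a ha i, hρσ]
    exact embed_mem_span a ha _ (h4 σ hσ i)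
  have hfaith : ∀ ρ ∈ Δ, (∀ i : Fin n, ρ (InvFld.X (a i)) = InvFld.X (a i)) → ρ = 1 := by
    intro ρ hρ hfix
    obtain ⟨σ, hσ, hρσ⟩ := h1 ρ hρ
    apply h3 ρ hρ
    intro u
    rw [hρσ]
    have hσid : (σ : InvFld.Fld (Fin n) k →ₐ[k] InvFld.Fld (Fin n) k) = AlgHom.id k _ := by
      apply algHom_ext_X
      intro i
      apply embed_injective a ha
      simp only [AlgEquiv.coe_toAlgHom, AlgHom.id_apply]
      rw [← hρσ, embed_X, hfix i]
    have : σ u = u := DFunLike.congr_fun hσid u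
    rw [this]
  obtain ⟨t, htai, htE⟩ := NoNameFldGen.main a b hab Δ hx h5 hfaith
  -- the coefficient fields
  let j : ↥(IntermediateField.fixedField G) →ₐ[k] InvFld.Fld ι k :=
    (embed a ha).comp (IntermediateField.fixedField G).val
  have hj : j.fieldRange = Ka k a ⊓ IntermediateField.fixedField Δ := by
    ext x
    constructor
    · rintro ⟨⟨u, hu⟩, rfl⟩
      refine ⟨?_, ?_⟩
      · rw [Ka_eq_fieldRange a ha]
        exact ⟨u, rfl⟩
      · rw [SetLike.mem_coe, IntermediateField.mem_fixedField_iff]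
        intro ρ hρ
        obtain ⟨σ, hσ, hρσ⟩ := h1 ρ hρ
        show ρ (embed a ha u) = embed a ha u
        rw [hρσ, (IntermediateField.mem_fixedField_iff G u).mp hu σ hσ]
    · rintro ⟨hxK, hxΔ⟩
      rw [SetLike.mem_coe, Ka_eq_fieldRange a ha] at hxK
      obtain ⟨u, rfl⟩ := hxK
      rw [SetLike.mem_coe, IntermediateField.mem_fixedField_iff] at hxΔ
      have hu : u ∈ IntermediateField.fixedField G := by
        rw [IntermediateField.mem_fixedField_iff]
        intro σ hσ
        obtain ⟨ρ, hρ, hρσ⟩ := h2 σ hσ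
        apply embed_injective a ha
        rw [← hρσ]
        exact hxΔ ρ hρ
      exact ⟨⟨u, hu⟩, rfl⟩
  let φ : ↥(IntermediateField.fixedField G) ≃ₐ[k]
      ↥(Ka k a ⊓ IntermediateField.fixedField Δ) :=
    (AlgEquiv.ofInjectiveField j).trans (IntermediateField.equivOfEq hj)
  exact ⟨(fldCongr m φ).trans ((fldEquivAdjoin _ t htai).trans
    (IntermediateField.equivOfEq htE))⟩

end Side

section Final

variable {n m : ℕ}

/-- Two faithful linear representations of a finite group have stably equivalent fields of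
invariants. -/
theorem main (G : Subgroup (InvFld.Fld (Fin n) k ≃ₐ[k] InvFld.Fld (Fin n) k)) [Finite G]
    (H : Subgroup (InvFld.Fld (Fin m) k ≃ₐ[k] InvFld.Fld (Fin m) k)) [Finite H] (e : G ≃* H)
    (hG : ∀ σ ∈ G, ∀ i : Fin n, σ (InvFld.X i) ∈ Submodule.span k
      (Set.range fun j : Fin n => (InvFld.X j : InvFld.Fld (Fin n) k)))
    (hH : ∀ τ ∈ H, ∀ i : Fin m, τ (InvFld.X i) ∈ Submodule.span k
      (Set.range fun j : Fin m => (InvFld.X j : InvFld.Fld (Fin m) k))) :
    ∃ r s : ℕ, Nonempty (InvFld.Fld (Fin r) (IntermediateField.fixedField G) ≃ₐ[k]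
      InvFld.Fld (Fin s) (IntermediateField.fixedField H)) := by
  have hex : ∀ σ : G, ∃ ρ, IsLift (σ.1) ((e σ).1) ρ := fun σ =>
    exists_isLift σ.1 (e σ).1 (hG σ.1 σ.2) (hG σ.1⁻¹ (inv_mem σ.2)) (hH _ (e σ).2)
      (hH (e σ).1⁻¹ (inv_mem (e σ).2))
  choose ℓ hℓ using hex
  let ℓhom : G →* (InvFld.Fld (Fin n ⊕ Fin m) k ≃ₐ[k] InvFld.Fld (Fin n ⊕ Fin m) k) :=
    { toFun := ℓ
      map_one' := by
        refine IsLift.unique (hℓ 1) ?_
        rw [map_one]
        exact IsLift.one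
      map_mul' := fun σ σ' => by
        refine IsLift.unique (hℓ (σ * σ')) ?_
        rw [map_mul]
        exact (hℓ σ).mul (hℓ σ') }
  have hℓhom : ∀ σ, ℓhom σ = ℓ σ := fun σ => rfl
  let Δ := ℓhom.range
  haveI : Finite Δ := Finite.of_surjective ℓhom.rangeRestrict ℓhom.rangeRestrict_surjective
  -- side x
  have hab1 : Function.Bijective (Sum.elim (Sum.inl : Fin n → Fin n ⊕ Fin m) Sum.inr) := by
    rw [Sum.elim_inl_inr]; exact Function.bijective_id
  obtain ⟨ψ1⟩ := side (Sum.inl : Fin n → Fin n ⊕ Fin m) Sum.inr Sum.inl_injective hab1 G Δ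
    (by
      rintro _ ⟨σ, rfl⟩
      exact ⟨σ.1, σ.2, (hℓ σ).1⟩)
    (by
      intro σ hσ
      exact ⟨ℓ ⟨σ, hσ⟩, ⟨⟨σ, hσ⟩, rfl⟩, (hℓ ⟨σ, hσ⟩).1⟩)
    (by
      rintro _ ⟨σ, rfl⟩ hfix
      have hσ1 : σ = 1 := by
        apply Subtype.ext
        apply AlgEquiv.ext
        intro u
        apply embed_injective (k := k) (Sum.inl : Fin n → Fin n ⊕ Fin m) Sum.inl_injective
        rw [← (hℓ σ).1 u]
        exact hfix u
      rw [hσ1, map_one])
    hG
    (by
      rintro _ ⟨σ, rfl⟩ j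
      rw [← embed_X (k := k) (Sum.inr : Fin m → Fin n ⊕ Fin m) Sum.inr_injective j]
      have := (hℓ σ).2 (InvFld.X j)
      rw [hℓhom, this]
      exact embed_mem_span _ _ _ (hH _ (e σ).2 j))
  -- side y
  have hab2 : Function.Bijective (Sum.elim (Sum.inr : Fin m → Fin n ⊕ Fin m) Sum.inl) := by
    have : Sum.elim (Sum.inr : Fin m → Fin n ⊕ Fin m) Sum.inl = Sum.swap := by
      funext s; cases s <;> rfl
    rw [this]
    exact (Equiv.sumComm _ _).bijective
  obtain ⟨ψ2⟩ := side (Sum.inr : Fin m → Fin n ⊕ Fin m) Sum.inl Sum.inr_injective hab2 H Δ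
    (by
      rintro _ ⟨σ, rfl⟩
      exact ⟨(e σ).1, (e σ).2, (hℓ σ).2⟩)
    (by
      intro τ hτ
      refine ⟨ℓ (e.symm ⟨τ, hτ⟩), ⟨e.symm ⟨τ, hτ⟩, rfl⟩, ?_⟩
      have := (hℓ (e.symm ⟨τ, hτ⟩)).2
      rw [e.apply_symm_apply] at this
      exact this)
    (by
      rintro _ ⟨σ, rfl⟩ hfix
      have hσ1 : e σ = 1 := by
        apply Subtype.ext
        apply AlgEquiv.ext
        intro u
        apply embed_injective (k := k) (Sum.inr : Fin m → Fin n ⊕ Fin m) Sum.inr_injective
        rw [← (hℓ σ).2 u]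
        exact hfix u
      rw [(MulEquiv.map_eq_one_iff e).mp hσ1, map_one])
    hH
    (by
      rintro _ ⟨σ, rfl⟩ j
      rw [← embed_X (k := k) (Sum.inl : Fin n → Fin n ⊕ Fin m) Sum.inl_injective j]
      have := (hℓ σ).1 (InvFld.X j)
      rw [hℓhom, this]
      exact embed_mem_span _ _ _ (hG _ σ.2 j))
  exact ⟨m, n, ⟨ψ1.trans ψ2.symm⟩⟩

end Final

end Groth.Agent.Lib.R2H7.StableEquiv
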