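import Mathlib
import Groth.Prelude.Def_StabCat
import Groth.Prelude.Def_FlatMod2
import Groth.Agent.Lib.Helper4NormDelta
import Groth.Agent.Lib.Helper23StalkLin
import Groth.Agent.Lib.Helper23FinPres
import Groth.Agent.Lib.Helper2LocFree
import Groth.Agent.Lib.H9FreeFib
import Groth.Agent.Lib.R2H2DevA
import Groth.Agent.Lib.R2H7HNBridge
import Groth.Agent.Lib.R2H7RetractLF
import Groth.Agent.Lib.R2H7SSHomGeo

/-!
# helper7: freeness of stalks along filtrations, and local freeness from the fibres

* `free_of_exact`: an extension of free modules is free.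
* `free_stalk_of_filtration`: if the factors of a filtration (from `⊥` to `⊤`) of an `O_X`-module
  have free stalks at `x`, so has the module.
* `free_stalk_of_gr_locFree`: on a locally Noetherian scheme, if the graded object of a filtration
  with coherent factors is finite locally free near `y` then the stalk at `y` is free.
* `exists_locFree_of_fibre_free`: a coherent module flat over the base whose restriction to a fibre
  (or any base change) has a free stalk is finite locally free near the image point.
-/

set_option autoImplicit false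
universe u
open CategoryTheory CategoryTheory.Limits AlgebraicGeometry StabCat

namespace Groth.Agent.Lib.R2H7.StalkFilt

open Groth.Agent.Lib.Helper4.NormDelta Groth.Agent.Lib.Helper23.StalkLin

/-- an extension of free modules is free -/
theorem free_of_exact {R A B C : Type*} [CommRing R] [AddCommGroup A] [Module R A]
    [AddCommGroup B] [Module R B] [AddCommGroup C] [Module R C]
    (f : A →ₗ[R] B) (g : B →ₗ[R] C) (hf : Function.Injective f) (hex : Function.Exact f g)
    (hg : Function.Surjective g) [Module.Free R A] [Module.Free R C] : Module.Free R B := by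
  obtain ⟨s, hs⟩ := Module.projective_lifting_property g LinearMap.id hg
  have hs' : ∀ c, g (s c) = c := fun c => LinearMap.congr_fun hs c
  have hinj : Function.Injective (f.coprod s) := by
    rw [injective_iff_map_eq_zero]
    rintro ⟨a, c⟩ h
    rw [LinearMap.coprod_apply] at h
    have h1 : g (f a + s c) = 0 := by rw [h, map_zero]
    rw [map_add, hs', (hex (f a)).2 ⟨a, rfl⟩, zero_add] at h1
    subst h1
    rw [map_zero, add_zero] at h
    have h2 : a = 0 := hf (by rw [h, map_zero])
    rw [h2]
    rfl
  have hsurj : Function.Surjective (f.coprod s) := by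
    intro b
    have h1 : g (b - s (g b)) = 0 := by rw [map_sub, hs', sub_self]
    obtain ⟨a, ha⟩ := (hex _).1 h1
    refine ⟨(a, g b), ?_⟩
    rw [LinearMap.coprod_apply, ha]
    abel
  exact Module.Free.of_equiv (LinearEquiv.ofBijective (f.coprod s) ⟨hinj, hsurj⟩)

variable {X : Scheme.{u}}

theorem free_stalk_of_isZero {M : X.Modules} (hz : IsZero M) (x : X) :
    Module.Free (X.presheaf.stalk x) (M.presheaf.stalk x) := by
  have h := Groth.Agent.Lib.R2H2.DevA.support_of_isZero hz
  have hx : x ∉ CohB1.support M := by
    rw [h]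
    exact Set.notMem_empty x
  haveI : Subsingleton (M.presheaf.stalk x) := not_not.mp hx
  exact Module.Free.of_subsingleton _ _

theorem free_stalk_of_shortExact (S : ShortComplex X.Modules) (hS : S.ShortExact) (x : X)
    (h1 : Module.Free (X.presheaf.stalk x) (S.X₁.presheaf.stalk x))
    (h3 : Module.Free (X.presheaf.stalk x) (S.X₃.presheaf.stalk x)) :
    Module.Free (X.presheaf.stalk x) (S.X₂.presheaf.stalk x) := by
  haveI := hS.mono_f
  haveI := hS.epi_g
  exact free_of_exact (stalkLin S.f x) (stalkLin S.g x) (stalkLin_injective S.f x)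
    (stalkLin_exact S hS x) (stalkLin_surjective S.g x)

theorem free_stalk_of_iso {M N : X.Modules} (e : M ≅ N) (x : X)
    (h : Module.Free (X.presheaf.stalk x) (M.presheaf.stalk x)) :
    Module.Free (X.presheaf.stalk x) (N.presheaf.stalk x) :=
  Module.Free.of_equiv (Groth.Agent.Lib.H9FreeFib.stalkEquivOfIso e x)

/-- if the factors of a filtration have free stalks at `x`, so has the module -/
theorem free_stalk_of_filtration {E : X.Modules} (s : LTSeries (Subobject E))
    (hhead : s.head = ⊥) (hlast : s.last = ⊤) (x : X)
    (hfac : ∀ i : Fin s.length,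
      Module.Free (X.presheaf.stalk x) ((factor s i).presheaf.stalk x)) :
    Module.Free (X.presheaf.stalk x) (E.presheaf.stalk x) := by
  have key : ∀ i : Fin (s.length + 1), Module.Free (X.presheaf.stalk x)
      (((s i : Subobject E) : X.Modules).presheaf.stalk x) := by
    intro i
    induction i using Fin.induction with
    | zero =>
      have e0 : s 0 = ⊥ := hhead
      have hz : IsZero ((s 0 : Subobject E) : X.Modules) := by
        rw [e0]
        exact Groth.Agent.Lib.R2H7.HNBridge.isZero_bot
      exact free_stalk_of_isZero hz x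
    | succ i ih =>
      let S : ShortComplex X.Modules := ShortComplex.mk
        (Subobject.ofLE (s i.castSucc) (s i.succ) (le_of_lt (s.step i)))
        (cokernel.π (Subobject.ofLE (s i.castSucc) (s i.succ) (le_of_lt (s.step i))))
        (cokernel.condition _)
      have hS : S.ShortExact :=
        { exact := ShortComplex.exact_cokernel _
          mono_f := inferInstanceAs (Mono (Subobject.ofLE _ _ _))
          epi_g := inferInstanceAs (Epi (cokernel.π _)) }
      exact free_stalk_of_shortExact S hS x ih (hfac i)
  have el : s (Fin.last s.length) = ⊤ := hlast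
  haveI : IsIso (s (Fin.last s.length)).arrow := (Subobject.isIso_arrow_iff_eq_top _).2 el
  exact free_stalk_of_iso (asIso (s (Fin.last s.length)).arrow) x (key (Fin.last _))

/-- on a locally Noetherian scheme, a coherent retract of a module which is finite locally free
near `y` has a free stalk at `y` -/
theorem free_stalk_of_retract_locFree [IsLocallyNoetherian X] (M P : X.Modules)
    (hM : Coh.IsCoh M) (σ : M ⟶ P) (ρ : P ⟶ M) (hσρ : σ ≫ ρ = 𝟙 M) (y : X) (V : X.Opens)
    (hyV : y ∈ V) (hV : FlatMod.IsFinLocFree (P.restrict V.ι)) :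
    Module.Free (X.presheaf.stalk y) (M.presheaf.stalk y) := by
  haveI : M.IsQuasicoherent := hM.1
  haveI : SheafOfModules.IsFiniteType (R := X.ringCatSheaf) M := hM.2
  haveI : SheafOfModules.IsFinitePresentation (R := X.ringCatSheaf) M :=
    Groth.Agent.Lib.Helper23.FinType.isFinitePresentation_of_isFiniteType M
  have hfV : FlatMod.IsFinLocFree (M.restrict V.ι) :=
    Groth.Agent.Lib.R2H7.RetractLF.isFinLocFree_restrict_of_retract σ ρ hσρ V hV
  obtain ⟨U', n, hyU', ⟨e⟩⟩ := hfV ⟨y, hyV⟩
  have e' : M.restrict (U'.ι ≫ V.ι) ≅ FlatMod.freeMod (U' : Scheme.{u}) n :=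
    (Scheme.Modules.restrictFunctorComp U'.ι V.ι).app M ≪≫ e
  have hfl : FlatMod.IsFlatAt M y :=
    Groth.Agent.Lib.Helper2.LocFree.isFlatAt_of_restrict_iso_freeMod (U'.ι ≫ V.ι) M e'
      ⟨⟨y, hyV⟩, hyU'⟩
  exact (Groth.Agent.Lib.H9FreeFib.free_stalk_iff_isFlatAt M y).mpr hfl

/-- on a locally Noetherian scheme, if the graded object of a filtration with coherent factors
is finite locally free near `y`, the stalk at `y` is free -/
theorem free_stalk_of_gr_locFree [IsLocallyNoetherian X] {E : X.Modules}
    (s : LTSeries (Subobject E)) (hhead : s.head = ⊥) (hlast : s.last = ⊤)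
    (hcoh : ∀ i : Fin s.length, Coh.IsCoh (factor s i)) (y : X) (V : X.Opens) (hyV : y ∈ V)
    (hV : FlatMod.IsFinLocFree ((grObj s).restrict V.ι)) :
    Module.Free (X.presheaf.stalk y) (E.presheaf.stalk y) := by
  refine free_stalk_of_filtration s hhead hlast y (fun i => ?_)
  obtain ⟨σ, ρ, hσρ⟩ := Groth.Agent.Lib.R2H7.SSHomGeo.sigma_retract (fun i => factor s i) i
  exact free_stalk_of_retract_locFree (factor s i) _ (hcoh i) σ ρ hσρ y V hyV hV

/-- a coherent module, flat over the base, whose base change has a free stalk at `x'` is finite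
locally free near the image of `x'` -/
theorem exists_locFree_of_fibre_free {S : Scheme.{u}} [IsLocallyNoetherian X] (f : X ⟶ S)
    (F : X.Modules) (hF : Coh.IsCoh F) (hfl : FlatMod.IsFlatOver f F)
    {S' X' : Scheme.{u}} (g : S' ⟶ S) (f' : X' ⟶ S') (g' : X' ⟶ X)
    (hc : IsPullback g' f' f g) (x' : X')
    (hfree : Module.Free (X'.presheaf.stalk x')
      (((Scheme.Modules.pullback g').obj F).presheaf.stalk x')) :
    ∃ U : X.Opens, g' x' ∈ U ∧ FlatMod.IsFinLocFree (F.restrict U.ι) := by
  haveI : F.IsQuasicoherent := hF.1
  haveI : SheafOfModules.IsFiniteType (R := X.ringCatSheaf) F := hF.2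
  haveI hfp : SheafOfModules.IsFinitePresentation (R := X.ringCatSheaf) F :=
    Groth.Agent.Lib.Helper23.FinType.isFinitePresentation_of_isFiniteType F
  have hset := Groth.Agent.Lib.H9FreeFib.main9769 f F hfp hfl g f' g' hc
  have hx' : x' ∈ {x' : ↑X' | Module.Free ↑(X'.presheaf.stalk x')
      ↑(((Scheme.Modules.pullback g').obj F).presheaf.stalk x')} := hfree
  rw [hset] at hx'
  have hfx : Module.Free (X.presheaf.stalk (g' x')) (F.presheaf.stalk (g' x')) := hx'
  obtain ⟨D, m, hxD, ⟨e⟩⟩ :=
    Groth.Agent.Lib.Helper2.LocFree.exists_restrict_iso_freeMod_of_isFlatAt F (g' x')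
      ((Groth.Agent.Lib.H9FreeFib.free_stalk_iff_isFlatAt F (g' x')).mp hfx)
  exact ⟨D, hxD, Groth.Agent.Lib.Helper2.LocFree.isFinLocFree_of_iso_freeMod _ e⟩

end Groth.Agent.Lib.R2H7.StalkFilt
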