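import Mathlib

/-!
# Etale algebras are locally open in `Spec (R[t]/(p))[1/p']` (helper7, round 2)

* `exists_algHom_isLocalization` : for a standard etale pair `(f, g)` there is an `R`-algebra map
  `(R[t]/f)[1/f'] → (R[t]/f)[1/g]` exhibiting the target as a localization away from one element.
* `exists_monic_openImmersion` : for an etale `R`-algebra `S` and a prime `Q` of `S` there are
  `f ∉ Q` and a monic `p` such that every model `Sf` of `S[1/f]` receives a ring map from
  `(R[t]/p)[1/p']` over `R` whose `Spec` is an open immersion.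
* `appLE_of_ι_comp` (copied from helper3's `Helper3EtGUSch` to keep imports light).
-/

set_option autoImplicit false
universe u
open CategoryTheory AlgebraicGeometry Polynomial

namespace Groth.Agent.Lib.R2H7.StdEtaleOpenImm

section Alg

variable {R : Type u} [CommRing R]

/-- The structure map `A[1/a] → A[1/b]` when `a` becomes a unit in `A[1/b]`, as a localization. -/
theorem isLocalization_away_of_isUnit {A : Type u} [CommRing A] (a b : A)
    (T S' : Type u) [CommRing T] [CommRing S'] [Algebra A T] [Algebra A S']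
    [IsLocalization.Away a T] [IsLocalization.Away b S']
    (h : IsUnit (algebraMap A S' a)) :
    ∃ ψ : T →ₐ[A] S', letI := ψ.toRingHom.toAlgebra
      IsLocalization.Away (algebraMap A T b) S' := by
  let ψ : T →ₐ[A] S' := IsLocalization.Away.liftAlgHom (S := T) a (f := Algebra.ofId A S') h
  refine ⟨ψ, ?_⟩
  letI := ψ.toRingHom.toAlgebra
  haveI : IsScalarTower A T S' := IsScalarTower.of_algebraMap_eq' ψ.comp_algebraMap.symm
  haveI : IsLocalization.Away (algebraMap A S' a) S' :=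
    IsLocalization.away_of_isUnit_of_bijective _ h Function.bijective_id
  exact IsLocalization.Away.commutes T S' S' a b

theorem isUnit_derivative (P : StandardEtalePair R) :
    IsUnit (algebraMap (AdjoinRoot P.f) (Localization.Away (AdjoinRoot.mk P.f P.g))
      (AdjoinRoot.mk P.f (derivative P.f))) := by
  have hmap : P.HasMap (algebraMap (AdjoinRoot P.f) (Localization.Away (AdjoinRoot.mk P.f P.g))
      (AdjoinRoot.root P.f)) := by
    refine ⟨?_, ?_⟩
    · rw [aeval_algebraMap_apply, AdjoinRoot.aeval_eq, AdjoinRoot.mk_self, map_zero]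
    · rw [aeval_algebraMap_apply, AdjoinRoot.aeval_eq]
      exact IsLocalization.Away.algebraMap_isUnit ..
  have := hmap.isUnit_derivative_f
  rwa [aeval_algebraMap_apply, AdjoinRoot.aeval_eq] at this

/-- `(R[t]/f)[1/f'] → (R[t]/f)[1/g]` for a standard etale pair. -/
theorem exists_ringHom_isOpenImmersion (P : StandardEtalePair R) :
    ∃ ψ : Localization.Away (AdjoinRoot.mk P.f (derivative P.f)) →+*
        Localization.Away (AdjoinRoot.mk P.f P.g),
      ψ.comp (algebraMap R _) = algebraMap R _ ∧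
      IsOpenImmersion (Spec.map (CommRingCat.ofHom ψ)) := by
  obtain ⟨ψ, hψ⟩ := isLocalization_away_of_isUnit (A := AdjoinRoot P.f)
    (AdjoinRoot.mk P.f (derivative P.f)) (AdjoinRoot.mk P.f P.g)
    (Localization.Away (AdjoinRoot.mk P.f (derivative P.f)))
    (Localization.Away (AdjoinRoot.mk P.f P.g)) (isUnit_derivative P)
  refine ⟨ψ.toRingHom, ?_, ?_⟩
  · ext r
    simp only [RingHom.comp_apply]
    rw [IsScalarTower.algebraMap_apply R (AdjoinRoot P.f)
      (Localization.Away (AdjoinRoot.mk P.f (derivative P.f))),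
      IsScalarTower.algebraMap_apply R (AdjoinRoot P.f)
      (Localization.Away (AdjoinRoot.mk P.f P.g))]
    exact ψ.commutes _
  · letI := ψ.toRingHom.toAlgebra
    exact IsOpenImmersion.of_isLocalization (R := Localization.Away (AdjoinRoot.mk P.f (derivative P.f)))
      (S := Localization.Away (AdjoinRoot.mk P.f P.g))
      (algebraMap (AdjoinRoot P.f) _ (AdjoinRoot.mk P.f P.g))

theorem isIso_SpecMap_ringEquiv {B C : Type u} [CommRing B] [CommRing C] (e : B ≃+* C) :
    IsIso (Spec.map (CommRingCat.ofHom e.toRingHom)) := by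
  have : IsIso (CommRingCat.ofHom e.toRingHom) :=
    inferInstanceAs (IsIso e.toCommRingCatIso.hom)
  infer_instance

theorem exists_monic_openImmersion {S : Type u} [CommRing S] [Algebra R S] [Algebra.Etale R S]
    (Q : Ideal S) [Q.IsPrime] :
    ∃ f : S, f ∉ Q ∧ ∃ p : R[X], p.Monic ∧
      ∀ (Sf : Type u) [CommRing Sf] [Algebra S Sf] [IsLocalization.Away f Sf],
        ∃ θ : Localization.Away (AdjoinRoot.mk p (derivative p)) →+* Sf,
          θ.comp (algebraMap R _) = (algebraMap S Sf).comp (algebraMap R S) ∧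
          IsOpenImmersion (Spec.map (CommRingCat.ofHom θ)) := by
  haveI : Algebra.FormallyEtale S (Localization.AtPrime Q) :=
    Algebra.FormallyEtale.of_isLocalization Q.primeCompl
  haveI : Algebra.IsEtaleAt R Q := Algebra.FormallyEtale.comp R S _
  obtain ⟨f, hfQ, hstd⟩ := Algebra.IsEtaleAt.exists_isStandardEtale (R := R) Q
  let Ps : StandardEtalePresentation R (Localization.Away f) :=
    hstd.nonempty_standardEtalePresentation.some
  refine ⟨f, hfQ, Ps.f, Ps.monic_f, ?_⟩
  intro Sf _ _ _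
  let e1 : Localization.Away f ≃ₐ[R] Localization.Away (AdjoinRoot.mk Ps.f Ps.g) :=
    Ps.equivRing.trans Ps.P.equivAwayAdjoinRoot
  let e2 : Localization.Away f ≃ₐ[S] Sf := IsLocalization.algEquiv (.powers f) _ _
  obtain ⟨ψ, hψ, hψo⟩ := exists_ringHom_isOpenImmersion Ps.P
  let ε : Localization.Away (AdjoinRoot.mk Ps.f Ps.g) ≃+* Sf :=
    e1.symm.toRingEquiv.trans e2.toRingEquiv
  refine ⟨ε.toRingHom.comp ψ, ?_, ?_⟩
  · rw [RingHom.comp_assoc, hψ]
    ext r
    simp only [RingHom.comp_apply]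
    change e2 (e1.symm (algebraMap R _ r)) = _
    rw [e1.symm.commutes, IsScalarTower.algebraMap_apply R S (Localization.Away f),
      e2.commutes]
  · rw [CommRingCat.ofHom_comp, Spec.map_comp]
    haveI := isIso_SpecMap_ringEquiv ε
    haveI := hψo
    infer_instance

end Alg

/-- ring-level property of `f` on affine opens inside an open `U₀` from the property of
`U₀.ι ≫ f` (copy of helper3's `Helper3.EtGUSch.appLE_of_ι_comp`). -/
theorem appLE_of_ι_comp {P : MorphismProperty Scheme.{u}}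
    {Q : ∀ {R S : Type u} [CommRing R] [CommRing S], (R →+* S) → Prop}
    [HasRingHomProperty P Q]
    {X Y : Scheme.{u}} (f : X ⟶ Y) (U₀ : X.Opens) (H : P (U₀.ι ≫ f)) {V : Y.Opens}
    (hV : IsAffineOpen V) {U : X.Opens} (hU : IsAffineOpen U) (hUU₀ : U ≤ U₀)
    (e : U ≤ f ⁻¹ᵁ V) : Q (f.appLE V U e).hom := by
  have hUr : U ≤ U₀.ι.opensRange := by rw [Scheme.Opens.opensRange_ι]; exact hUU₀
  let W : U₀.toScheme.Opens := U₀.ι ⁻¹ᵁ U
  have hW : IsAffineOpen W := hU.preimage_of_isOpenImmersion U₀.ι hUr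
  have himg : U₀.ι ''ᵁ W = U := by
    rw [Scheme.Hom.image_preimage_eq_opensRange_inf, inf_eq_right.mpr hUr]
  have e' : W ≤ (U₀.ι ≫ f) ⁻¹ᵁ V := by
    intro w hw
    exact e hw
  have h1 := HasRingHomProperty.appLE P (U₀.ι ≫ f) H ⟨V, hV⟩ ⟨W, hW⟩ e'
  have hiso : IsIso (U₀.ι.appLE (U₀.ι ''ᵁ W) W (U₀.ι.preimage_image_eq _).ge) :=
    inferInstanceAs (IsIso (U₀.ι.app _ ≫
      U₀.toScheme.presheaf.map (eqToHom (U₀.ι.preimage_image_eq _).symm).op))
  have e2 : U₀.ι ''ᵁ W ≤ f ⁻¹ᵁ V := himg ▸ e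
  rw [← Scheme.Hom.appLE_comp_appLE _ _ _ (U₀.ι ''ᵁ W) W e2 (U₀.ι.preimage_image_eq _).ge,
    CommRingCat.hom_comp,
    (HasRingHomProperty.isLocal_ringHomProperty P).respectsIso.cancel_right_isIso] at h1
  exact (f.appLE_congr _ rfl himg (fun f => Q f.hom)).mp h1

theorem mem_basicOpen_iff_notMem_primeIdealOf {X : Scheme.{u}} {U : X.Opens} (hU : IsAffineOpen U)
    {x : X} (hx : x ∈ U) (g : Γ(X, U)) :
    x ∈ X.basicOpen g ↔ g ∉ (hU.primeIdealOf ⟨x, hx⟩).asIdeal := by
  letI := TopCat.Presheaf.algebra_section_stalk X.presheaf ⟨x, hx⟩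
  haveI := hU.isLocalization_stalk ⟨x, hx⟩
  rw [Scheme.mem_basicOpen _ _ _ hx]
  exact IsLocalization.AtPrime.isUnit_to_map_iff (X.presheaf.stalk x)
    (hU.primeIdealOf ⟨x, hx⟩).asIdeal g

/-- Main theorem: etale near `x` implies an affine neighbourhood open in
`Spec (R[t]/(p))[1/p']`. -/
theorem main {X Y : Scheme.{u}} (φ : X ⟶ Y) (x : X)
    (V : Y.Opens) (hV : IsAffineOpen V) (hxV : φ.base x ∈ V)
    (hφ : ∃ W : X.Opens, x ∈ W ∧ Etale (W.ι ≫ φ)) :
    ∃ (U : X.Opens) (hU : IsAffineOpen U) (_ : x ∈ U) (e : U ≤ φ ⁻¹ᵁ V)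
      (p : Polynomial Γ(Y, V)) (_ : p.Monic)
      (j : U.toScheme ⟶ Spec (CommRingCat.of (Localization.Away (AdjoinRoot.mk p (Polynomial.derivative p))))),
      IsOpenImmersion j ∧
        j ≫ Spec.map (CommRingCat.ofHom
            (algebraMap Γ(Y, V) (Localization.Away (AdjoinRoot.mk p (Polynomial.derivative p))))) =
          hU.isoSpec.hom ≫ Spec.map (φ.appLE V U e) := by
  obtain ⟨W, hxW, hét⟩ := hφ
  obtain ⟨U0, hU0, hxU0, hU0le⟩ :=
    exists_isAffineOpen_mem_and_subset (show x ∈ W ⊓ φ ⁻¹ᵁ V from ⟨hxW, hxV⟩)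
  have hU0W : U0 ≤ W := fun y hy => (hU0le hy).1
  have e0 : U0 ≤ φ ⁻¹ᵁ V := fun y hy => (hU0le hy).2
  have hE : RingHom.Etale (φ.appLE V U0 e0).hom :=
    appLE_of_ι_comp (P := @Etale) φ W hét hV hU0 hU0W e0
  letI algRS : Algebra Γ(Y, V) Γ(X, U0) := (φ.appLE V U0 e0).hom.toAlgebra
  haveI : Algebra.Etale Γ(Y, V) Γ(X, U0) := hE
  obtain ⟨f, hfQ, p, hp, H⟩ := exists_monic_openImmersion (R := Γ(Y, V)) (S := Γ(X, U0))
    (hU0.primeIdealOf ⟨x, hxU0⟩).asIdeal
  have hxU : x ∈ X.basicOpen f := (mem_basicOpen_iff_notMem_primeIdealOf hU0 hxU0 f).mpr hfQ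
  have hU : IsAffineOpen (X.basicOpen f) := hU0.basicOpen f
  have e : X.basicOpen f ≤ φ ⁻¹ᵁ V := (X.basicOpen_le f).trans e0
  haveI := hU0.isLocalization_basicOpen f
  obtain ⟨θ, hθ, hθo⟩ := H Γ(X, X.basicOpen f)
  refine ⟨X.basicOpen f, hU, hxU, e, p, hp, hU.isoSpec.hom ≫ Spec.map (CommRingCat.ofHom θ),
    inferInstance, ?_⟩
  rw [Category.assoc, ← Spec.map_comp, ← CommRingCat.ofHom_comp, hθ]
  congr 2
  rw [← Scheme.Hom.appLE_map φ e0 (homOfLE (X.basicOpen_le f)).op]
  rfl

end Groth.Agent.Lib.R2H7.StdEtaleOpenImm
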