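import Mathlib
import Groth.Prelude.Def_W4c2brnrinvarInvFld
import Groth.Agent.Lib.R2H7NoNameFld
import Groth.Agent.Lib.R2H7StableEquiv

/-!
# Invariants of the symmetric group: stable purity (S15698)
-/

namespace Groth.Agent.Lib.R2H7.SymInv

open MvPolynomial Groth.Agent.Lib.R2H7.NoNameFld Groth.Agent.Lib.R2H7.StableEquiv

universe u

variable {k : Type u} [Field k]

section Perm

variable (n : ℕ)

/-- The automorphism of `k(y_1, …, y_n)` permuting the variables. -/
noncomputable def permAut (π : Equiv.Perm (Fin n)) :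
    InvFld.Fld (Fin n) k ≃ₐ[k] InvFld.Fld (Fin n) k :=
  IsFractionRing.algEquivOfAlgEquiv (MvPolynomial.renameEquiv k π)

theorem permAut_algebraMap (π : Equiv.Perm (Fin n)) (p : MvPolynomial (Fin n) k) :
    permAut n π (algebraMap (MvPolynomial (Fin n) k) (InvFld.Fld (Fin n) k) p) =
      algebraMap (MvPolynomial (Fin n) k) (InvFld.Fld (Fin n) k) (rename π p) := by
  unfold permAut
  rw [IsFractionRing.algEquivOfAlgEquiv_algebraMap]
  rfl

theorem permAut_X (π : Equiv.Perm (Fin n)) (i : Fin n) :
    permAut n π (InvFld.X i : InvFld.Fld (Fin n) k) = InvFld.X (π i) := by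
  show permAut n π (algebraMap _ _ (X i)) = _
  rw [permAut_algebraMap, rename_X]

theorem algEquiv_ext_X {α : Type*} (φ ψ : InvFld.Fld α k ≃ₐ[k] InvFld.Fld α k)
    (h : ∀ i, φ (InvFld.X i) = ψ (InvFld.X i)) : φ = ψ := by
  have := algHom_ext_X (φ : InvFld.Fld α k →ₐ[k] InvFld.Fld α k) ψ h
  apply AlgEquiv.ext
  intro u
  exact DFunLike.congr_fun this u

/-- The permutation representation of `S_n` on `k(y_1, …, y_n)`. -/
noncomputable def permHom :
    Equiv.Perm (Fin n) →* (InvFld.Fld (Fin n) k ≃ₐ[k] InvFld.Fld (Fin n) k) where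
  toFun := permAut n
  map_one' := by
    apply algEquiv_ext_X
    intro i
    rw [permAut_X]
    rfl
  map_mul' π π' := by
    apply algEquiv_ext_X
    intro i
    rw [AlgEquiv.mul_apply, permAut_X, permAut_X, permAut_X]
    rfl

theorem permHom_apply (π : Equiv.Perm (Fin n)) : permHom (k := k) n π = permAut n π := rfl

theorem permHom_injective : Function.Injective (permHom (k := k) n) := by
  intro π π' h
  ext i
  have h1 : permAut (k := k) n π (InvFld.X i) = permAut n π' (InvFld.X i) := by
    rw [← permHom_apply, ← permHom_apply, h]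
  rw [permAut_X, permAut_X] at h1
  have := (algebraicIndependent_X k (Fin n)).injective h1
  rw [this]

end Perm

section Sym

variable (n : ℕ)

/-- The elementary symmetric functions in `k(y_1, …, y_n)`. -/
noncomputable def w (k : Type u) [Field k] (n : ℕ) (i : Fin n) : InvFld.Fld (Fin n) k :=
  algebraMap (MvPolynomial (Fin n) k) (InvFld.Fld (Fin n) k) (esymm (Fin n) k (i + 1))

theorem algebraicIndependent_esymm :
    AlgebraicIndependent k (fun i : Fin n => esymm (Fin n) k (i + 1)) := by
  rw [algebraicIndependent_iff_injective_aeval]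
  intro p q hpq
  apply (esymmAlgHom_fin_bijective k n).1
  apply Subtype.ext
  rw [esymmAlgHom_apply, esymmAlgHom_apply]
  exact hpq

theorem algebraicIndependent_w : AlgebraicIndependent k (w k n) :=
  (algebraicIndependent_esymm n).map'
    (f := IsScalarTower.toAlgHom k (MvPolynomial (Fin n) k) (InvFld.Fld (Fin n) k))
    (IsFractionRing.injective (MvPolynomial (Fin n) k) (InvFld.Fld (Fin n) k))

theorem algebraMap_mem_of_isSymmetric (p : MvPolynomial (Fin n) k) (hp : p.IsSymmetric) :
    algebraMap (MvPolynomial (Fin n) k) (InvFld.Fld (Fin n) k) p ∈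
      IntermediateField.adjoin k (Set.range (w k n)) := by
  obtain ⟨g, hg⟩ := (esymmAlgHom_fin_bijective k n).2 ⟨p, hp⟩
  have hg' : aeval (fun i : Fin n => esymm (Fin n) k (i + 1)) g = p := by
    rw [← esymmAlgHom_apply, hg]
  rw [← hg', ← MvPolynomial.aeval_algebraMap_apply]
  apply IntermediateField.algebra_adjoin_le_adjoin
  rw [Algebra.adjoin_range_eq_range_aeval]
  exact ⟨g, rfl⟩

/-- The field of invariants of `S_n` permuting the variables is generated by the elementary
symmetric functions. -/
theorem fixedField_permHom_range :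
    IntermediateField.fixedField (permHom (k := k) n).range =
      IntermediateField.adjoin k (Set.range (w k n)) := by
  classical
  apply le_antisymm
  · intro u hu
    rw [IntermediateField.mem_fixedField_iff] at hu
    have hu' : ∀ π : Equiv.Perm (Fin n), permAut n π u = u :=
      fun π => hu _ ⟨π, rfl⟩
    obtain ⟨p, q, hq, rfl⟩ := IsFractionRing.div_surjective (A := MvPolynomial (Fin n) k) u
    have hq0 : q ≠ 0 := nonZeroDivisors.ne_zero hq
    have hinj := IsFractionRing.injective (MvPolynomial (Fin n) k) (InvFld.Fld (Fin n) k)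
    have hqL : algebraMap (MvPolynomial (Fin n) k) (InvFld.Fld (Fin n) k) q ≠ 0 :=
      IsFractionRing.to_map_ne_zero_of_mem_nonZeroDivisors hq
    -- the norm of the denominator
    have hNsym : (∏ π : Equiv.Perm (Fin n), rename π q).IsSymmetric := by
      intro π'
      rw [map_prod]
      simp only [rename_rename]
      exact Fintype.prod_equiv (Equiv.mulLeft π') _ _ (fun π => rfl)
    have hN0 : (∏ π : Equiv.Perm (Fin n), rename π q) ≠ 0 := by
      rw [Finset.prod_ne_zero_iff]
      intro π _ h0
      apply hq0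
      apply rename_injective π π.injective
      rw [h0, map_zero]
    have hNL : algebraMap (MvPolynomial (Fin n) k) (InvFld.Fld (Fin n) k)
        (∏ π : Equiv.Perm (Fin n), rename π q) ≠ 0 := by
      intro h0
      apply hN0
      apply hinj
      rw [h0, map_zero]
    have hPN : algebraMap (MvPolynomial (Fin n) k) (InvFld.Fld (Fin n) k)
        (p * ∏ π ∈ Finset.univ.erase (1 : Equiv.Perm (Fin n)), rename π q) =
        (algebraMap _ _ p / algebraMap _ _ q) *
          algebraMap (MvPolynomial (Fin n) k) (InvFld.Fld (Fin n) k)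
            (∏ π : Equiv.Perm (Fin n), rename π q) := by
      rw [← Finset.mul_prod_erase Finset.univ _ (Finset.mem_univ (1 : Equiv.Perm (Fin n)))]
      have : rename (⇑(1 : Equiv.Perm (Fin n))) q = q := by
        rw [Equiv.Perm.coe_one, rename_id_apply]
      rw [this, map_mul, map_mul]
      field_simp
    have hPsym : (p * ∏ π ∈ Finset.univ.erase (1 : Equiv.Perm (Fin n)), rename π q).IsSymmetric := by
      intro π
      apply hinj
      rw [← permAut_algebraMap, hPN, map_mul, hu' π, permAut_algebraMap, hNsym π]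
    have e1 := algebraMap_mem_of_isSymmetric n _ hNsym
    have e2 := algebraMap_mem_of_isSymmetric n _ hPsym
    have : algebraMap (MvPolynomial (Fin n) k) (InvFld.Fld (Fin n) k) p / algebraMap _ _ q =
        algebraMap (MvPolynomial (Fin n) k) (InvFld.Fld (Fin n) k)
          (p * ∏ π ∈ Finset.univ.erase (1 : Equiv.Perm (Fin n)), rename π q) /
        algebraMap (MvPolynomial (Fin n) k) (InvFld.Fld (Fin n) k)
          (∏ π : Equiv.Perm (Fin n), rename π q) := by
      rw [hPN, mul_div_assoc, div_self hNL, mul_one]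
    rw [this]
    exact div_mem e2 e1
  · rw [IntermediateField.adjoin_le_iff]
    rintro _ ⟨i, rfl⟩
    rw [SetLike.mem_coe, IntermediateField.mem_fixedField_iff]
    rintro _ ⟨π, rfl⟩
    rw [permHom_apply]
    unfold w
    rw [permAut_algebraMap, rename_esymm]

end Sym

section Gen

/-- A rational function field over a purely transcendental extension of `k` is purely
transcendental over `k`. -/
theorem fld_generators {F' : Type*} [Field F'] [Algebra k F'] (s n : ℕ) (v : Fin n → F')
    (hv : AlgebraicIndependent k v) (hgen : IntermediateField.adjoin k (Set.range v) = ⊤) :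
    ∃ T : Fin s ⊕ Fin n → InvFld.Fld (Fin s) F',
      AlgebraicIndependent k T ∧ IntermediateField.adjoin k (Set.range T) = ⊤ := by
  refine ⟨Sum.elim (fun j : Fin s => (InvFld.X j : InvFld.Fld (Fin s) F'))
    (algebraMap F' (InvFld.Fld (Fin s) F') ∘ v), ?_, ?_⟩
  · exact hv.sumElim_comp (algebraicIndependent_X F' (Fin s))
  · set E := IntermediateField.adjoin k (Set.range (Sum.elim
      (fun j : Fin s => (InvFld.X j : InvFld.Fld (Fin s) F'))
      (algebraMap F' (InvFld.Fld (Fin s) F') ∘ v))) with hE
    have h1 : ∀ c : F', algebraMap F' (InvFld.Fld (Fin s) F') c ∈ E := by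
      have hle : IntermediateField.adjoin k (Set.range v) ≤
          E.comap (IsScalarTower.toAlgHom k F' (InvFld.Fld (Fin s) F')) := by
        rw [IntermediateField.adjoin_le_iff]
        rintro _ ⟨i, rfl⟩
        show algebraMap F' (InvFld.Fld (Fin s) F') (v i) ∈ E
        exact IntermediateField.subset_adjoin _ _ ⟨Sum.inr i, rfl⟩
      rw [hgen] at hle
      intro c
      exact hle (IntermediateField.mem_top (x := c))
    have h2 : ∀ j : Fin s, (InvFld.X j : InvFld.Fld (Fin s) F') ∈ E := fun j =>
      IntermediateField.subset_adjoin _ _ ⟨Sum.inl j, rfl⟩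
    have h3 : ∀ p : MvPolynomial (Fin s) F',
        algebraMap (MvPolynomial (Fin s) F') (InvFld.Fld (Fin s) F') p ∈ E := by
      intro p
      induction p using MvPolynomial.induction_on with
      | C c =>
        rw [← MvPolynomial.algebraMap_eq, ← IsScalarTower.algebraMap_apply]
        exact h1 c
      | add p q hp hq => rw [map_add]; exact add_mem hp hq
      | mul_X p i hp => rw [map_mul]; exact mul_mem hp (h2 i)
    rw [eq_top_iff]
    intro u _
    obtain ⟨p, q, _, rfl⟩ := IsFractionRing.div_surjective (A := MvPolynomial (Fin s) F') u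
    exact div_mem (h3 p) (h3 q)

end Gen

section Final

variable {n m : ℕ}

theorem transport {A B : Type*} [Field A] [Field B] [Algebra k A] [Algebra k B]
    (Θ : A ≃ₐ[k] B) {ι : Type*} (T : ι → A) (hT : AlgebraicIndependent k T)
    (hgen : IntermediateField.adjoin k (Set.range T) = ⊤) :
    AlgebraicIndependent k (fun i => Θ (T i)) ∧
      IntermediateField.adjoin k (Set.range fun i => Θ (T i)) = ⊤ := by
  constructor
  · exact hT.map' (f := (Θ : A →ₐ[k] B)) Θ.injective
  · have hrange : (Set.range fun i => Θ (T i)) = (Θ : A →ₐ[k] B) '' Set.range T := by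
      ext x
      constructor
      · rintro ⟨i, rfl⟩
        exact ⟨T i, ⟨_, rfl⟩, rfl⟩
      · rintro ⟨_, ⟨j, rfl⟩, rfl⟩
        exact ⟨j, rfl⟩
    rw [hrange, ← IntermediateField.adjoin_map, hgen, ← AlgHom.fieldRange_eq_map,
      AlgHom.fieldRange_eq_top]
    exact Θ.surjective

theorem reindex {A : Type*} [Field A] [Algebra k A] {ι κ : Type*} (ε : κ ≃ ι) (T : ι → A)
    (hT : AlgebraicIndependent k T)
    (hgen : IntermediateField.adjoin k (Set.range T) = ⊤) :
    AlgebraicIndependent k (fun i => T (ε i)) ∧
      IntermediateField.adjoin k (Set.range fun i => T (ε i)) = ⊤ := by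
  constructor
  · exact hT.comp ε ε.injective
  · have : (Set.range fun i => T (ε i)) = Set.range T := by
      ext x
      constructor
      · rintro ⟨i, rfl⟩
        exact ⟨ε i, rfl⟩
      · rintro ⟨j, rfl⟩
        exact ⟨ε.symm j, by simp⟩
    rw [this, hgen]

/-- The invariants of a faithful linear representation of `S_n` are stably pure. -/
theorem main (G : Subgroup (InvFld.Fld (Fin m) k ≃ₐ[k] InvFld.Fld (Fin m) k)) [Finite G]
    (e : G ≃* Equiv.Perm (Fin n))
    (hG : ∀ σ ∈ G, ∀ i : Fin m, σ (InvFld.X i) ∈ Submodule.span k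
      (Set.range fun j : Fin m => (InvFld.X j : InvFld.Fld (Fin m) k))) :
    ∃ (r N : ℕ) (t : Fin N → InvFld.Fld (Fin r) (IntermediateField.fixedField G)),
      AlgebraicIndependent k t ∧ IntermediateField.adjoin k (Set.range t) = ⊤ := by
  let H := (permHom (k := k) n).range
  haveI : Finite H := Finite.of_surjective (permHom (k := k) n).rangeRestrict
    (permHom (k := k) n).rangeRestrict_surjective
  let e' : G ≃* H := e.trans (MonoidHom.ofInjective (permHom_injective n))
  have hH : ∀ τ ∈ H, ∀ i : Fin n, τ (InvFld.X i) ∈ Submodule.span k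
      (Set.range fun j : Fin n => (InvFld.X j : InvFld.Fld (Fin n) k)) := by
    rintro _ ⟨π, rfl⟩ i
    rw [permHom_apply, permAut_X]
    exact Submodule.subset_span ⟨π i, rfl⟩
  obtain ⟨r, s, ⟨ψ⟩⟩ := StableEquiv.main G H e' hG hH
  -- the invariant field of `S_n`
  let φ : InvFld.Fld (Fin n) k ≃ₐ[k] ↥(IntermediateField.fixedField H) :=
    (algebraicIndependent_w (k := k) n).aevalEquivField.trans
      (IntermediateField.equivOfEq (fixedField_permHom_range n).symm)
  let Θ : InvFld.Fld (Fin s) (InvFld.Fld (Fin n) k) ≃ₐ[k]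
      InvFld.Fld (Fin r) (IntermediateField.fixedField G) :=
    ((fldCongr s φ).trans ψ.symm)
  obtain ⟨T, hT, hTgen⟩ := fld_generators (k := k) s n
    (fun i : Fin n => (InvFld.X i : InvFld.Fld (Fin n) k)) (algebraicIndependent_X k (Fin n))
    adjoin_X_eq_top
  obtain ⟨hT2, hTgen2⟩ := reindex (k := k) (finSumFinEquiv (m := s) (n := n)).symm T hT hTgen
  obtain ⟨hT3, hTgen3⟩ := transport Θ _ hT2 hTgen2
  exact ⟨r, s + n, _, hT3, hTgen3⟩

end Final

end Groth.Agent.Lib.R2H7.SymInv
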