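/-
T² = 0 gives the retraction `ρ : J → B₀` needed to lift a flat deformation of a finitely
presented algebra along a small extension (abstract ring level).
-/
import Mathlib
import Groth.Prelude.Def_CotT
import Groth.Agent.Lib.R2H7FlatNil

set_option autoImplicit false
universe u
open TensorProduct

namespace Groth.Agent.Lib.R2H7.T2Lift

section Rho

variable {k B₀ : Type u} [CommRing k] [CommRing B₀] [Algebra k B₀] {ι σ : Type u}
  (P : Algebra.Presentation k B₀ ι σ) {R : Type u} [CommRing R] [Algebra R B₀]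
  (red : R →+* P.toExtension.Ring) (G : σ → R)

/-- Reduction of coefficient vectors. -/
noncomputable def redF : (σ →₀ R) →+ CotT.relMod P :=
  Finsupp.mapRange.addMonoidHom red.toAddMonoidHom

theorem redF_apply (r : σ →₀ R) (s : σ) : redF P red r s = red (r s) := rfl

theorem redF_smul (c : R) (r : σ →₀ R) : redF P red (c • r) = red c • redF P red r := by
  ext s
  rw [redF_apply, Finsupp.smul_apply, Finsupp.smul_apply, redF_apply, smul_eq_mul, smul_eq_mul,
    map_mul]

theorem redF_surjective (hred : Function.Surjective red) : Function.Surjective (redF P red) :=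
  Finsupp.mapRange_surjective _ (map_zero _) hred

theorem redF_single (s : σ) (a : R) :
    redF P red (Finsupp.single s a) = Finsupp.single s (red a) := by
  ext s'
  rw [redF_apply]
  by_cases h : s = s'
  · subst h
    rw [Finsupp.single_eq_same, Finsupp.single_eq_same]
  · rw [Finsupp.single_eq_of_ne' h, Finsupp.single_eq_of_ne' h, map_zero]

theorem red_linearCombination (hG : ∀ s, red (G s) = P.relation s) (r : σ →₀ R) :
    red (Finsupp.linearCombination R G r) = CotT.jmap P (redF P red r) := by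
  induction r using Finsupp.induction_linear with
  | zero => rw [map_zero, map_zero, map_zero, map_zero]
  | add x y hx hy => rw [map_add, map_add, map_add, map_add, hx, hy]
  | single s a =>
    rw [Finsupp.linearCombination_single, redF_single, CotT.jmap_single, smul_eq_mul, map_mul, hG]

theorem linearCombination_mem (J : Ideal R) (hGJ : ∀ s, G s ∈ J) (r : σ →₀ R) :
    Finsupp.linearCombination R G r ∈ J := by
  have h1 : Finsupp.linearCombination R G r ∈ LinearMap.range (Finsupp.linearCombination R G) :=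
    LinearMap.mem_range_self _ r
  rw [Finsupp.range_linearCombination] at h1
  refine (Submodule.span_le (p := J)).2 ?_ h1
  rintro _ ⟨s, rfl⟩
  exact hGJ s

theorem linearCombination_mem_mul (J : Ideal R) (hGJ : ∀ s, G s ∈ J) (r : σ →₀ R)
    (hr : redF P red r = 0) :
    Finsupp.linearCombination R G r ∈ RingHom.ker red * J := by
  have hrs : ∀ s, r s ∈ RingHom.ker red := fun s => by
    have h := DFunLike.congr_fun hr s
    exact h
  rw [Finsupp.linearCombination_apply, Finsupp.sum]
  refine Submodule.sum_mem _ fun s _ => ?_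
  rw [smul_eq_mul]
  exact Ideal.mul_mem_mul (hrs s) (hGJ s)

/-- `b` is the `τ`-coefficient of a lifted relation over `q`. -/
def IsLift (J : Ideal R) (τ : R) (q : CotT.relMod P) (b : B₀) : Prop :=
  ∃ (r : σ →₀ R) (a : R), redF P red r = q ∧
    Finsupp.linearCombination R G r + a * τ ∈ RingHom.ker red * J ∧ algebraMap R B₀ a = b

theorem isLift_zero (J : Ideal R) (τ : R) : IsLift P red G J τ 0 0 :=
  ⟨0, 0, map_zero _, by rw [map_zero, zero_mul, add_zero]; exact Ideal.zero_mem _, map_zero _⟩

theorem isLift_add (J : Ideal R) (τ : R) {q q' : CotT.relMod P} {b b' : B₀}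
    (h : IsLift P red G J τ q b) (h' : IsLift P red G J τ q' b') :
    IsLift P red G J τ (q + q') (b + b') := by
  obtain ⟨r, a, hr, hm, ha⟩ := h
  obtain ⟨r', a', hr', hm', ha'⟩ := h'
  refine ⟨r + r', a + a', by rw [map_add, hr, hr'], ?_, by rw [map_add, ha, ha']⟩
  have h1 : Finsupp.linearCombination R G (r + r') + (a + a') * τ =
      (Finsupp.linearCombination R G r + a * τ) +
        (Finsupp.linearCombination R G r' + a' * τ) := by
    rw [map_add]
    ring
  rw [h1]
  exact Ideal.add_mem _ hm hm'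

theorem isLift_smul (J : Ideal R) (τ : R) (c : R) {q : CotT.relMod P} {b : B₀}
    (h : IsLift P red G J τ q b) :
    IsLift P red G J τ (red c • q) (algebraMap R B₀ c * b) := by
  obtain ⟨r, a, hr, hm, ha⟩ := h
  refine ⟨c • r, c * a, by rw [redF_smul, hr], ?_, by rw [map_mul, ha]⟩
  have h1 : Finsupp.linearCombination R G (c • r) + c * a * τ =
      c * (Finsupp.linearCombination R G r + a * τ) := by
    rw [map_smul, smul_eq_mul]
    ring
  rw [h1]
  exact Ideal.mul_mem_left _ _ hm

theorem isLift_unique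
    (halg : ∀ x, algebraMap R B₀ x = algebraMap P.toExtension.Ring B₀ (red x))
    (J : Ideal R) (τ : R) (hGJ : ∀ s, G s ∈ J)
    (hinj : ∀ a : R, τ * a ∈ RingHom.ker red * J → red a ∈ P.toExtension.ker)
    {q : CotT.relMod P} {b b' : B₀}
    (h : IsLift P red G J τ q b) (h' : IsLift P red G J τ q b') : b = b' := by
  obtain ⟨r, a, hr, hm, ha⟩ := h
  obtain ⟨r', a', hr', hm', ha'⟩ := h'
  have h0 : redF P red (r - r') = 0 := by rw [map_sub, hr, hr', sub_self]
  have h1 := linearCombination_mem_mul P red G J hGJ (r - r') h0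
  have h2 : τ * (a - a') = (Finsupp.linearCombination R G r + a * τ) -
      (Finsupp.linearCombination R G r' + a' * τ) - Finsupp.linearCombination R G (r - r') := by
    rw [map_sub]
    ring
  have h3 : τ * (a - a') ∈ RingHom.ker red * J := by
    rw [h2]
    exact Ideal.sub_mem _ (Ideal.sub_mem _ hm hm') h1
  have h4 : algebraMap P.toExtension.Ring B₀ (red (a - a')) = 0 := hinj _ h3
  rw [← halg, map_sub, sub_eq_zero] at h4
  rw [← ha, ← ha', h4]

theorem exists_isLift (hred : Function.Surjective red)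
    (J : Ideal R) (τ : R) (hGJ : ∀ s, G s ∈ J) (hG : ∀ s, red (G s) = P.relation s)
    (hflat : J ⊓ RingHom.ker red ≤ RingHom.ker red * J ⊔ Ideal.span {τ})
    (q : CotT.relMod P) (hq : CotT.jmap P q = 0) : ∃ b, IsLift P red G J τ q b := by
  obtain ⟨r, rfl⟩ := redF_surjective P red hred q
  have h2 : Finsupp.linearCombination R G r ∈ J ⊓ RingHom.ker red :=
    ⟨linearCombination_mem G J hGJ r, by
      show red _ = 0
      rw [red_linearCombination P red G hG, hq]⟩
  obtain ⟨v, hv, y, hy, hvy⟩ := Submodule.mem_sup.1 (hflat h2)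
  obtain ⟨c, rfl⟩ := Ideal.mem_span_singleton'.1 hy
  refine ⟨algebraMap R B₀ (-c), r, -c, rfl, ?_, rfl⟩
  have h3 : Finsupp.linearCombination R G r + -c * τ = v := by
    rw [← hvy]
    ring
  rw [h3]
  exact hv

theorem isLift_triv (hred : Function.Surjective red)
    (J : Ideal R) (τ : R) (hG : ∀ s, red (G s) = P.relation s) (a b : CotT.relMod P) :
    IsLift P red G J τ (CotT.jmap P a • b - CotT.jmap P b • a) 0 := by
  obtain ⟨a', rfl⟩ := redF_surjective P red hred a
  obtain ⟨b', rfl⟩ := redF_surjective P red hred b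
  refine ⟨Finsupp.linearCombination R G a' • b' - Finsupp.linearCombination R G b' • a', 0, ?_, ?_,
    map_zero _⟩
  · rw [map_sub, redF_smul, redF_smul, red_linearCombination P red G hG,
      red_linearCombination P red G hG]
  · have h1 : Finsupp.linearCombination R G (Finsupp.linearCombination R G a' • b' -
        Finsupp.linearCombination R G b' • a') + 0 * τ = 0 := by
      rw [map_sub, map_smul, map_smul, smul_eq_mul, smul_eq_mul]
      ring
    rw [h1]
    exact Ideal.zero_mem _

include P in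
theorem exists_rho_of_T2 (hT2 : Subsingleton (CotT.T2 P B₀))
    (hred : Function.Surjective red)
    (halg : ∀ x, algebraMap R B₀ x = algebraMap P.toExtension.Ring B₀ (red x))
    (J : Ideal R) (τ : R) (hτJ : τ ∈ J) (hτ0 : red τ = 0)
    (hJI : ∀ z ∈ J, red z ∈ P.toExtension.ker)
    (hIJ : ∀ f ∈ P.toExtension.ker, ∃ z ∈ J, red z = f)
    (hflat : J ⊓ RingHom.ker red ≤ RingHom.ker red * J ⊔ Ideal.span {τ})
    (e : ℕ) (hnil : RingHom.ker red ^ e = ⊥)
    (hinj : ∀ a : R, τ * a ∈ RingHom.ker red * J → red a ∈ P.toExtension.ker) :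
    ∃ ρ : J →ₗ[R] B₀, ρ ⟨τ, hτJ⟩ = 1 := by
  classical
  -- lifts of the relations
  have hGex : ∀ s : σ, ∃ z ∈ J, red z = P.relation s := fun s => hIJ _ (P.relation_mem_ker s)
  choose G hGJ hG using hGex
  let Θ₀ : (σ →₀ R) →ₗ[R] R := Finsupp.linearCombination R G
  have hΘ₀J : ∀ r, Θ₀ r ∈ J := linearCombination_mem G J hGJ
  have hredΘ₀ : ∀ r, red (Θ₀ r) = CotT.jmap P (redF P red r) := red_linearCombination P red G hG
  let Θ' : ((σ →₀ R) × R) →ₗ[R] R := Θ₀.coprod (LinearMap.toSpanSingleton R R τ)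
  have hΘ' : ∀ x, Θ' x = Θ₀ x.1 + x.2 * τ := fun x => rfl
  let Θ : ((σ →₀ R) × R) →ₗ[R] J := LinearMap.codRestrict J Θ'
    (fun x => by rw [hΘ']; exact J.add_mem (hΘ₀J x.1) (J.mul_mem_left _ hτJ))
  have hΘ : ∀ x, ((Θ x : J) : R) = Θ₀ x.1 + x.2 * τ := fun x => rfl
  have hΘsurj : Function.Surjective Θ := by
    refine Groth.Agent.Lib.R2H7.FlatNil.surjective_of_nilpotent (RingHom.ker red) e hnil Θ ?_
    intro z
    obtain ⟨h, hh⟩ : ∃ h : CotT.relMod P, CotT.jmap P h = red z := by
      have h1 : red z ∈ LinearMap.range (CotT.jmap P) := by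
        rw [CotT.range_jmap]
        exact hJI z z.2
      exact h1
    obtain ⟨H, rfl⟩ := redF_surjective P red hred h
    have h2 : (z : R) - Θ₀ H ∈ J ⊓ RingHom.ker red :=
      ⟨J.sub_mem z.2 (hΘ₀J H), by
        show red _ = 0
        rw [map_sub, hredΘ₀, hh, sub_self]⟩
    obtain ⟨v, hv, y, hy, hvy⟩ := Submodule.mem_sup.1 (hflat h2)
    obtain ⟨c, rfl⟩ := Ideal.mem_span_singleton'.1 hy
    refine ⟨(H, c), ?_⟩
    rw [Submodule.mem_smul_top_iff]
    have h3 : ((Θ (H, c) - z : J) : R) = -v := by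
      show Θ₀ H + c * τ - (z : R) = -v
      linear_combination hvy
    rw [h3]
    exact Submodule.neg_mem _ hv
  -- the obstruction map
  have hex : ∀ q : CotT.relKer P, ∃ b, IsLift P red G J τ (q : CotT.relMod P) b := fun q =>
    exists_isLift P red G hred J τ hGJ hG hflat q q.2
  choose ob hob using hex
  have hobu : ∀ (q : CotT.relKer P) (b : B₀), IsLift P red G J τ (q : CotT.relMod P) b →
      ob q = b := fun q b h => isLift_unique P red G halg J τ hGJ hinj (hob q) h
  let ob₀ : CotT.relKer P →ₗ[P.toExtension.Ring] B₀ :=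
    { toFun := ob
      map_add' := fun q q' => hobu _ _ (isLift_add P red G J τ (hob q) (hob q'))
      map_smul' := fun c q => by
        obtain ⟨c', rfl⟩ := hred c
        show ob (red c' • q) = red c' • ob q
        rw [Algebra.smul_def, ← halg]
        exact hobu _ _ (isLift_smul P red G J τ c' (hob q)) }
  have htriv : ∀ y ∈ CotT.trivRel P, IsLift P red G J τ y 0 := by
    intro y hy
    induction hy using Submodule.span_induction with
    | mem y hy =>
      obtain ⟨a, b, rfl⟩ := hy
      exact isLift_triv P red G hred J τ hG a b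
    | zero => exact isLift_zero P red G J τ
    | add x y _ _ hx hy =>
      have h := isLift_add P red G J τ hx hy
      rwa [add_zero] at h
    | smul c x _ hx =>
      obtain ⟨c', rfl⟩ := hred c
      have h := isLift_smul P red G J τ c' hx
      rwa [mul_zero] at h
  let Φ₁ : B₀ ⊗[P.toExtension.Ring] (CotT.relKer P) →ₗ[B₀] B₀ := LinearMap.liftBaseChange B₀ ob₀
  have hΦ₁ : LinearMap.range ((CotT.trivRelKer P).subtype.baseChange B₀) ≤ LinearMap.ker Φ₁ := by
    rw [LinearMap.range_le_ker_iff]
    refine TensorProduct.AlgebraTensorModule.ext fun b y => ?_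
    simp only [LinearMap.coe_comp, Function.comp_apply, LinearMap.baseChange_tmul,
      Submodule.coe_subtype, LinearMap.zero_apply]
    show Φ₁ (b ⊗ₜ (y : CotT.relKer P)) = 0
    rw [LinearMap.liftBaseChange_tmul]
    have hy : ((y : CotT.relKer P) : CotT.relMod P) ∈ CotT.trivRel P := y.2
    have h0 : ob₀ (y : CotT.relKer P) = 0 := hobu _ _ (htriv _ hy)
    rw [h0, smul_zero]
  let Φ : CotT.L2 P →ₗ[B₀] B₀ := Submodule.liftQ _ Φ₁ hΦ₁
  have hΦ : Φ ∈ LinearMap.range (CotT.d2Star P B₀) :=
    (Submodule.Quotient.mk_eq_zero _).1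
      (Subsingleton.elim (Submodule.Quotient.mk Φ : CotT.T2 P B₀) 0)
  obtain ⟨φ, hφ⟩ := hΦ
  let ψ : CotT.relMod P →ₗ[P.toExtension.Ring] B₀ :=
    (φ.restrictScalars P.toExtension.Ring) ∘ₗ
      (TensorProduct.mk P.toExtension.Ring B₀ (CotT.relMod P) 1)
  have hψ : ∀ q : CotT.relKer P, ψ q = ob q := by
    intro q
    have h1 : Φ (Submodule.Quotient.mk ((1 : B₀) ⊗ₜ q)) =
        φ (CotT.d2 P (Submodule.Quotient.mk ((1 : B₀) ⊗ₜ q))) := by
      rw [← hφ]
      rfl
    rw [CotT.d2_mk_tmul] at h1
    have h2 : Φ (Submodule.Quotient.mk ((1 : B₀) ⊗ₜ q)) = ob q := by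
      show Φ₁ ((1 : B₀) ⊗ₜ q) = ob q
      rw [LinearMap.liftBaseChange_tmul, one_smul]
      rfl
    rw [← h2, h1]
    rfl
  have hψred : ∀ (c : R) (r : σ →₀ R),
      ψ (redF P red (c • r)) = algebraMap R B₀ c * ψ (redF P red r) := by
    intro c r
    rw [redF_smul, map_smul, Algebra.smul_def, ← halg]
  let Ξ : ((σ →₀ R) × R) →ₗ[R] B₀ :=
    { toFun := fun x => algebraMap R B₀ x.2 - ψ (redF P red x.1)
      map_add' := fun x y => by
        show algebraMap R B₀ (x.2 + y.2) - ψ (redF P red (x.1 + y.1)) = _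
        rw [map_add, map_add, map_add]
        ring
      map_smul' := fun c x => by
        show algebraMap R B₀ (c * x.2) - ψ (redF P red (c • x.1)) =
          c • (algebraMap R B₀ x.2 - ψ (redF P red x.1))
        rw [hψred, map_mul, Algebra.smul_def]
        ring }
  have hker : LinearMap.ker Θ ≤ LinearMap.ker Ξ := by
    rintro ⟨r, a⟩ hx
    have h0 : Θ₀ r + a * τ = 0 := congrArg Subtype.val (LinearMap.mem_ker.1 hx)
    have hq : CotT.jmap P (redF P red r) = 0 := by
      rw [← hredΘ₀]
      have h3 : Θ₀ r = -(a * τ) := eq_neg_of_add_eq_zero_left h0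
      rw [h3, map_neg, map_mul, hτ0, mul_zero, neg_zero]
    have hl : IsLift P red G J τ (redF P red r) (algebraMap R B₀ a) :=
      ⟨r, a, rfl, by rw [h0]; exact Ideal.zero_mem _, rfl⟩
    have h1 : ob ⟨redF P red r, hq⟩ = algebraMap R B₀ a := hobu ⟨_, hq⟩ _ hl
    rw [LinearMap.mem_ker]
    show algebraMap R B₀ a - ψ (redF P red r) = 0
    rw [← h1, ← hψ ⟨_, hq⟩]
    exact sub_self _
  let eq := LinearMap.quotKerEquivOfSurjective Θ hΘsurj
  let ρ : J →ₗ[R] B₀ := ((LinearMap.ker Θ).liftQ Ξ hker) ∘ₗ eq.symm.toLinearMap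
  refine ⟨ρ, ?_⟩
  have h1 : (⟨τ, hτJ⟩ : J) = Θ (0, 1) := by
    apply Subtype.ext
    show τ = Θ₀ 0 + 1 * τ
    rw [map_zero, zero_add, one_mul]
  show (LinearMap.ker Θ).liftQ Ξ hker (eq.symm ⟨τ, hτJ⟩) = 1
  rw [h1, LinearMap.quotKerEquivOfSurjective_symm_apply, Submodule.liftQ_apply]
  show algebraMap R B₀ 1 - ψ (redF P red 0) = 1
  rw [map_one, map_zero, map_zero, sub_zero]

end Rho

end Groth.Agent.Lib.R2H7.T2Lift
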