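/-
Flatness input for the T² lifting argument: if `C t * a ∈ 𝔪 B[X] * J` then `a ∈ J + 𝔪 B[X]`,
where `J` is the kernel of `B[X] → E` and `E` is flat over `A = B/(t)`.
-/
import Mathlib
import Groth.Agent.Lib.Helper5FlatKer

set_option autoImplicit false
universe u
open TensorProduct

namespace Groth.Agent.Lib.R2H7.T2Lift

theorem exists_sub_mem_of_mul_mem {B A E : Type u} [CommRing B] [IsLocalRing B] [CommRing A]
    [CommRing E] {ι : Type u} (p : B →+* A) (hp : Function.Surjective p) (t : B)
    (hker : RingHom.ker p = Ideal.span {t}) (ht0 : t ≠ 0)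
    (ht : ∀ x ∈ IsLocalRing.maximalIdeal B, x * t = 0)
    (α : A →+* E) (hα : α.Flat) (ei : ι → E)
    (hπsurj : Function.Surjective (MvPolynomial.eval₂Hom (α.comp p) ei))
    (a : MvPolynomial ι B)
    (ha : MvPolynomial.C t * a ∈ (IsLocalRing.maximalIdeal B).map MvPolynomial.C *
      RingHom.ker (MvPolynomial.eval₂Hom (α.comp p) ei)) :
    ∃ z ∈ RingHom.ker (MvPolynomial.eval₂Hom (α.comp p) ei),
      a - z ∈ (IsLocalRing.maximalIdeal B).map MvPolynomial.C := by
  classical
  let π : MvPolynomial ι B →+* E := MvPolynomial.eval₂Hom (α.comp p) ei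
  let J : Ideal (MvPolynomial ι B) := RingHom.ker π
  letI algAE : Algebra A E := α.toAlgebra
  haveI : Module.Flat A E := hα
  let πA : MvPolynomial ι A →ₐ[A] E := MvPolynomial.aeval ei
  have hπA : ∀ x, πA (MvPolynomial.map p x) = π x := fun x => MvPolynomial.eval₂_map _ _ _ _
  have hπAsurj : Function.Surjective πA := by
    intro y
    obtain ⟨x, rfl⟩ := hπsurj y
    exact ⟨_, hπA x⟩
  have hmapp : Function.Surjective (MvPolynomial.map p :
      MvPolynomial ι B →+* MvPolynomial ι A) := MvPolynomial.map_surjective p hp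
  have hpt : p t = 0 := by
    rw [← RingHom.mem_ker, hker]
    exact Ideal.subset_span rfl
  let JA : Submodule A (MvPolynomial ι A) := LinearMap.ker πA.toLinearMap
  haveI : Module.Flat A JA :=
    Groth.Agent.Lib.Helper5.flat_of_exact_of_flat_of_flat JA.subtype πA.toLinearMap
      JA.subtype_injective hπAsurj (LinearMap.exact_subtype_ker_map _)
  -- decompose the product
  have h1 : MvPolynomial.C t * a ∈ IsLocalRing.maximalIdeal B • (J.restrictScalars B) := by
    have h0 := Ideal.smul_restrictScalars (S := MvPolynomial ι B) (IsLocalRing.maximalIdeal B) J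
    rw [← h0]
    exact ha
  have h2 : Submodule.span B (Set.range (fun z : J => (z : MvPolynomial ι B))) =
      J.restrictScalars B := by
    have h3 : Set.range (fun z : J => (z : MvPolynomial ι B)) =
        ((J.restrictScalars B : Submodule B (MvPolynomial ι B)) : Set (MvPolynomial ι B)) := by
      ext x
      constructor
      · rintro ⟨z, rfl⟩
        exact z.2
      · intro hx
        exact ⟨⟨x, hx⟩, rfl⟩
    rw [h3, Submodule.span_eq]
  rw [← h2, Submodule.mem_ideal_smul_span_iff_exists_sum] at h1
  obtain ⟨c, hc𝔪, hcsum⟩ := h1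
  have hx : ∀ l : c.support,
      MvPolynomial.map p ((l.1 : J) : MvPolynomial ι B) ∈ JA := fun l => by
    show πA (MvPolynomial.map p ((l.1 : J) : MvPolynomial ι B)) = 0
    rw [hπA]
    exact (l.1 : J).2
  have h3 : MvPolynomial.map p (MvPolynomial.C t * a) = 0 := by
    rw [map_mul, MvPolynomial.map_C, hpt, map_zero, zero_mul]
  have hsum0 : ∑ l : c.support, p (c l.1) •
      (⟨MvPolynomial.map p ((l.1 : J) : MvPolynomial ι B), hx l⟩ : JA) = 0 := by
    apply Subtype.ext
    rw [Submodule.coe_sum, Submodule.coe_zero]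
    calc ∑ l : c.support, ((p (c l.1) •
          (⟨MvPolynomial.map p ((l.1 : J) : MvPolynomial ι B), hx l⟩ : JA) : JA) :
            MvPolynomial ι A)
        = ∑ l : c.support,
            MvPolynomial.map p (c l.1 • ((l.1 : J) : MvPolynomial ι B)) :=
          Finset.sum_congr rfl fun l _ => by
            rw [Submodule.coe_smul, MvPolynomial.smul_eq_C_mul, MvPolynomial.smul_eq_C_mul,
              map_mul, MvPolynomial.map_C]
      _ = ∑ z ∈ c.support, MvPolynomial.map p (c z • (z : MvPolynomial ι B)) :=
          Finset.sum_coe_sort c.support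
            (fun z => MvPolynomial.map p (c z • (z : MvPolynomial ι B)))
      _ = MvPolynomial.map p (c.sum fun z b => b • (z : MvPolynomial ι B)) := by
          rw [Finsupp.sum, map_sum]
      _ = 0 := by rw [hcsum, h3]
  obtain ⟨n, cc, y, hxy, hfc⟩ := Module.Flat.isTrivialRelation_of_sum_smul_eq_zero hsum0
  -- lifts
  choose Y hY using fun j => hmapp (y j : MvPolynomial ι A)
  have hYJ : ∀ j, Y j ∈ J := fun j => by
    show π (Y j) = 0
    rw [← hπA, hY]
    exact (y j).2
  choose D hD using fun (l : c.support) (j : Fin n) => hp (cc l j)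
  have hkm : RingHom.ker (MvPolynomial.map p : MvPolynomial ι B →+* MvPolynomial ι A) =
      Ideal.span {MvPolynomial.C t} := by
    rw [MvPolynomial.ker_map, hker, Ideal.map_span, Set.image_singleton]
  have hw : ∀ l : c.support, ∃ w, ((l.1 : J) : MvPolynomial ι B) =
      ∑ j, MvPolynomial.C (D l j) * Y j + MvPolynomial.C t * w := by
    intro l
    have h4 : ((l.1 : J) : MvPolynomial ι B) - ∑ j, MvPolynomial.C (D l j) * Y j ∈
        RingHom.ker (MvPolynomial.map p : MvPolynomial ι B →+* MvPolynomial ι A) := by
      rw [RingHom.mem_ker, map_sub, map_sum, sub_eq_zero]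
      have h5 := congrArg Subtype.val (hxy l)
      rw [Submodule.coe_sum] at h5
      refine h5.trans (Finset.sum_congr rfl fun j _ => ?_)
      rw [map_mul, MvPolynomial.map_C, hD, hY, Submodule.coe_smul, MvPolynomial.smul_eq_C_mul]
    rw [hkm] at h4
    obtain ⟨w, hw⟩ := Ideal.mem_span_singleton'.1 h4
    exact ⟨w, by rw [mul_comm, hw]; ring⟩
  choose w hw using hw
  have hd : ∀ j : Fin n, ∃ d, ∑ l : c.support, c l.1 * D l j = t * d := by
    intro j
    have h6 : ∑ l : c.support, c l.1 * D l j ∈ RingHom.ker p := by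
      rw [RingHom.mem_ker, map_sum, ← hfc j]
      refine Finset.sum_congr rfl fun l _ => ?_
      rw [map_mul, hD]
    rw [hker] at h6
    obtain ⟨d, hd⟩ := Ideal.mem_span_singleton'.1 h6
    exact ⟨d, by rw [← hd, mul_comm]⟩
  choose d hd using hd
  let z : MvPolynomial ι B := ∑ j, MvPolynomial.C (d j) * Y j
  have hzJ : z ∈ J := Ideal.sum_mem _ fun j _ => Ideal.mul_mem_left _ _ (hYJ j)
  have hmain : MvPolynomial.C t * a = MvPolynomial.C t * z := by
    calc MvPolynomial.C t * a
        = ∑ l : c.support, MvPolynomial.C (c l.1) * ((l.1 : J) : MvPolynomial ι B) := by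
          rw [← hcsum, Finsupp.sum,
            ← Finset.sum_coe_sort c.support (fun z => c z • (z : MvPolynomial ι B))]
          exact Finset.sum_congr rfl fun l _ => MvPolynomial.smul_eq_C_mul _ _
      _ = ∑ l : c.support, (∑ j, MvPolynomial.C (c l.1 * D l j) * Y j +
            MvPolynomial.C (c l.1 * t) * w l) := by
          refine Finset.sum_congr rfl fun l _ => ?_
          conv_lhs => rw [hw l]
          rw [mul_add, Finset.mul_sum]
          congr 1
          · refine Finset.sum_congr rfl fun j _ => ?_
            rw [map_mul]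
            ring
          · rw [map_mul]
            ring
      _ = ∑ l : c.support, ∑ j, MvPolynomial.C (c l.1 * D l j) * Y j := by
          refine Finset.sum_congr rfl fun l _ => ?_
          rw [ht _ (hc𝔪 l.1), map_zero, zero_mul, add_zero]
      _ = ∑ j, ∑ l : c.support, MvPolynomial.C (c l.1 * D l j) * Y j := Finset.sum_comm
      _ = ∑ j, MvPolynomial.C (t * d j) * Y j := by
          refine Finset.sum_congr rfl fun j _ => ?_
          rw [← Finset.sum_mul, ← map_sum, hd]
      _ = MvPolynomial.C t * z := by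
          rw [Finset.mul_sum]
          refine Finset.sum_congr rfl fun j _ => ?_
          rw [map_mul]
          ring
  refine ⟨z, hzJ, ?_⟩
  have h7 : MvPolynomial.C t * (a - z) = 0 := by rw [mul_sub, hmain, sub_self]
  rw [MvPolynomial.mem_map_C_iff]
  intro m
  have h8 : t * MvPolynomial.coeff m (a - z) = 0 := by
    rw [← MvPolynomial.coeff_C_mul, h7, MvPolynomial.coeff_zero]
  by_contra hnm
  have hu : IsUnit (MvPolynomial.coeff m (a - z)) := by
    by_contra hnu
    exact hnm ((IsLocalRing.mem_maximalIdeal _).2 hnu)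
  exact ht0 ((hu.mul_left_eq_zero).1 h8)

end Groth.Agent.Lib.R2H7.T2Lift
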