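/-
Global assembly: if `T²(B₀/k, B₀) = 0` (computed from a presentation), flat deformations of `B₀`
lift along small extensions (ring level).
-/
import Mathlib
import Groth.Prelude.Def_CotT
import Groth.Agent.Lib.R2H7LciLiftB
import Groth.Agent.Lib.R2H7FlatNil
import Groth.Agent.Lib.R2H7T2LiftA
import Groth.Agent.Lib.R2H7T2LiftB

set_option autoImplicit false
universe u
open TensorProduct

namespace Groth.Agent.Lib.R2H7.T2Lift

open Groth.Agent.Lib.R2H7.LciLift Groth.Agent.Helper13KzLift Algebra

section Assembly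

variable {B A k A₀ E : Type u} [CommRing B] [IsLocalRing B] [IsArtinianRing B]
  [CommRing A] [Field k] [CommRing A₀] [Algebra k A₀] [CommRing E]

theorem exists_lift_T2 {ι σ : Type u} (P : Algebra.Presentation k A₀ ι σ)
    (hT2 : Subsingleton (CotT.T2 P A₀))
    (p : B →+* A) (hp : Function.Surjective p) (t : B)
    (hker : RingHom.ker p = Ideal.span {t}) (ht0 : t ≠ 0)
    (htm : t ∈ IsLocalRing.maximalIdeal B)
    (ht : ∀ x ∈ IsLocalRing.maximalIdeal B, x * t = 0)
    (resA : A →+* k) (hresA : Function.Surjective resA)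
    (α : A →+* E) (hα : α.Flat) (c : E →+* A₀) (hc : Function.Surjective c)
    (hkc : RingHom.ker c = (RingHom.ker resA).map α)
    (hcα : ∀ s, c (α s) = algebraMap k A₀ (resA s)) :
    ∃ (E' : Type u) (_ : CommRing E') (α' : B →+* E') (q : E' →+* E),
      α'.Flat ∧ Function.Surjective q ∧ (∀ b, q (α' b) = α (p b)) ∧
        RingHom.ker q = (RingHom.ker p).map α' := by
  classical
  let resB : B →+* k := resA.comp p
  have hresB : Function.Surjective resB := hresA.comp hp
  have hkB : RingHom.ker resB = IsLocalRing.maximalIdeal B := ker_res resB hresB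
  let red : MvPolynomial ι B →+* P.toExtension.Ring := MvPolynomial.map resB
  have hred : Function.Surjective red := MvPolynomial.map_surjective resB hresB
  have hkred : RingHom.ker red = (IsLocalRing.maximalIdeal B).map MvPolynomial.C := by
    show RingHom.ker (MvPolynomial.map resB : MvPolynomial ι B →+* MvPolynomial ι k) = _
    rw [MvPolynomial.ker_map, hkB]
  have hpt : p t = 0 := by
    rw [← RingHom.mem_ker, hker]
    exact Ideal.subset_span rfl
  let φ : P.toExtension.Ring →+* A₀ := algebraMap P.toExtension.Ring A₀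
  have hφ : Function.Surjective φ := P.toExtension.algebraMap_surjective
  have hφC : ∀ x : k, φ (MvPolynomial.C x) = algebraMap k A₀ x := fun x => by
    show algebraMap P.toExtension.Ring A₀ (MvPolynomial.C x) = _
    rw [CotT.algebraMap_toExtension, MvPolynomial.aeval_C]
  have hφX : ∀ i : ι, φ (MvPolynomial.X i) = P.val i := fun i => by
    show algebraMap P.toExtension.Ring A₀ (MvPolynomial.X i) = _
    rw [CotT.algebraMap_toExtension, MvPolynomial.aeval_X]
  choose ei hei using fun i : ι => hc (P.val i)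
  let π : MvPolynomial ι B →+* E := MvPolynomial.eval₂Hom (α.comp p) ei
  have hπC : ∀ b, π (MvPolynomial.C b) = α (p b) := fun b => MvPolynomial.eval₂_C _ _ b
  have hπX : ∀ i, π (MvPolynomial.X i) = ei i := fun i => MvPolynomial.eval₂_X _ _ i
  have hπcomp : π.comp MvPolynomial.C = α.comp p := RingHom.ext hπC
  have hcπ : ∀ x, c (π x) = φ (red x) := by
    have h : c.comp π = φ.comp red := by
      apply MvPolynomial.ringHom_ext
      · intro b
        show c (π (MvPolynomial.C b)) = φ (MvPolynomial.map resB (MvPolynomial.C b))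
        rw [hπC, hcα, MvPolynomial.map_C, hφC]
        rfl
      · intro i
        show c (π (MvPolynomial.X i)) = φ (MvPolynomial.map resB (MvPolynomial.X i))
        rw [hπX, hei, MvPolynomial.map_X, hφX]
    exact fun x => congrArg (fun f => f x) h
  have hmA : (IsLocalRing.maximalIdeal B).map p = RingHom.ker resA := by
    rw [← hkB]
    show (RingHom.ker (resA.comp p)).map p = _
    rw [← RingHom.comap_ker, Ideal.map_comap_of_surjective p hp]
  have hkc' : RingHom.ker c = ((IsLocalRing.maximalIdeal B).map MvPolynomial.C).map π := by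
    rw [hkc, ← hmA, Ideal.map_map, Ideal.map_map, hπcomp]
  -- surjectivity of `π`
  letI algBE : Algebra B E := (α.comp p).toAlgebra
  obtain ⟨e, he⟩ := Groth.Agent.Lib.Helper19.isNilpotent_maximalIdeal_of_artinian B
  have hπsurj : Function.Surjective π := by
    let πL : MvPolynomial ι B →ₗ[B] E :=
      { toFun := π
        map_add' := map_add π
        map_smul' := fun b x => by
          show π (b • x) = (α.comp p) b * π x
          rw [MvPolynomial.smul_eq_C_mul, map_mul, hπC]
          rfl }
    refine Groth.Agent.Lib.R2H7.FlatNil.surjective_of_nilpotent (IsLocalRing.maximalIdeal B) e he πL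
      ?_
    intro y
    obtain ⟨f, hf⟩ := hφ (c y)
    obtain ⟨F, rfl⟩ := hred f
    refine ⟨F, ?_⟩
    have h1 : π F - y ∈ RingHom.ker c := by
      rw [RingHom.mem_ker, map_sub, hcπ, hf, sub_self]
    rw [hkc', Ideal.map_map, hπcomp] at h1
    rw [Ideal.smul_top_eq_map]
    exact h1
  let J : Ideal (MvPolynomial ι B) := RingHom.ker π
  have hJI : ∀ z ∈ J, red z ∈ P.toExtension.ker := by
    intro z hz
    show φ (red z) = 0
    rw [← hcπ, (RingHom.mem_ker).1 hz, map_zero]
  have hIJ : ∀ f ∈ P.toExtension.ker, ∃ z ∈ J, red z = f := by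
    intro f hf
    obtain ⟨F, rfl⟩ := hred f
    have h1 : π F ∈ RingHom.ker c := by
      rw [RingHom.mem_ker, hcπ]
      exact hf
    rw [hkc'] at h1
    obtain ⟨G, hG, hGF⟩ := (Ideal.mem_map_iff_of_surjective π hπsurj).1 h1
    refine ⟨F - G, ?_, ?_⟩
    · show π (F - G) = 0
      rw [map_sub, hGF, sub_self]
    · have hG0 : red G = 0 := by
        rw [← RingHom.mem_ker, hkred]
        exact hG
      rw [map_sub, hG0, sub_zero]
  -- flatness consequence
  have hflat : J ⊓ (IsLocalRing.maximalIdeal B).map MvPolynomial.C ≤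
      (IsLocalRing.maximalIdeal B).map MvPolynomial.C * J ⊔
        Ideal.span {MvPolynomial.C t} := by
    letI algAE : Algebra A E := α.toAlgebra
    haveI : Module.Flat A E := hα
    let πA : MvPolynomial ι A →ₐ[A] E := MvPolynomial.aeval ei
    have hπA : ∀ x, πA (MvPolynomial.map p x) = π x := fun x =>
      MvPolynomial.eval₂_map _ _ _ _
    have hπAsurj : Function.Surjective πA := by
      intro y
      obtain ⟨x, rfl⟩ := hπsurj y
      exact ⟨_, hπA x⟩
    have hmapp : Function.Surjective (MvPolynomial.map p :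
        MvPolynomial ι B →+* MvPolynomial ι A) := MvPolynomial.map_surjective p hp
    haveI : Module.Flat A (MvPolynomial ι A ⧸ RingHom.ker πA) :=
      Module.Flat.of_linearEquiv
        (Ideal.quotientKerAlgEquivOfSurjective hπAsurj).toLinearEquiv
    have h0 := inf_map_le_mul (RingHom.ker resA) (RingHom.ker πA)
    rw [MvPolynomial.algebraMap_eq] at h0
    have hcompC : (MvPolynomial.map p : MvPolynomial ι B →+* MvPolynomial ι A).comp
        MvPolynomial.C = MvPolynomial.C.comp p := RingHom.ext fun b => MvPolynomial.map_C p b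
    have hmC : ((IsLocalRing.maximalIdeal B).map MvPolynomial.C).map
        (MvPolynomial.map p : MvPolynomial ι B →+* MvPolynomial ι A) =
        (RingHom.ker resA).map MvPolynomial.C := by
      rw [Ideal.map_map, hcompC, ← Ideal.map_map, hmA]
    have hJc : J = (RingHom.ker πA).comap
        (MvPolynomial.map p : MvPolynomial ι B →+* MvPolynomial ι A) := by
      ext x
      show π x = 0 ↔ πA (MvPolynomial.map p x) = 0
      rw [hπA]
    have hJm : J.map (MvPolynomial.map p :
        MvPolynomial ι B →+* MvPolynomial ι A) = RingHom.ker πA := by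
      rw [hJc, Ideal.map_comap_of_surjective _ hmapp]
    intro z hz
    have h1 : MvPolynomial.map p z ∈
        RingHom.ker πA ⊓ (RingHom.ker resA).map MvPolynomial.C := by
      refine ⟨?_, ?_⟩
      · rw [← hJm]
        exact Ideal.mem_map_of_mem _ hz.1
      · rw [← hmC]
        exact Ideal.mem_map_of_mem _ hz.2
    have h2 := h0 h1
    rw [← hmC, ← hJm, ← Ideal.map_mul] at h2
    obtain ⟨w, hw, hwz⟩ := (Ideal.mem_map_iff_of_surjective _ hmapp).1 h2
    have h3 : z - w ∈ RingHom.ker (MvPolynomial.map p :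
        MvPolynomial ι B →+* MvPolynomial ι A) := by
      rw [RingHom.mem_ker, map_sub, hwz, sub_self]
    rw [MvPolynomial.ker_map, hker, Ideal.map_span, Set.image_singleton] at h3
    have : z = w + (z - w) := by ring
    rw [this]
    exact Ideal.add_mem _ (Ideal.mem_sup_left hw) (Ideal.mem_sup_right h3)
  -- the weak injectivity
  have hinj : ∀ a, MvPolynomial.C t * a ∈ RingHom.ker red * J → red a ∈ P.toExtension.ker := by
    intro a ha
    rw [hkred] at ha
    obtain ⟨z, hzJ, hz⟩ := exists_sub_mem_of_mul_mem p hp t hker ht0 ht α hα ei hπsurj a ha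
    have h1 : red (a - z) = 0 := by
      rw [← RingHom.mem_ker, hkred]
      exact hz
    have h2 : red a = red z := by
      rw [map_sub, sub_eq_zero] at h1
      exact h1
    rw [h2]
    exact hJI z hzJ
  -- the retraction
  letI algPA₀ : Algebra (MvPolynomial ι B) A₀ := (c.comp π).toAlgebra
  have hτJ : MvPolynomial.C t ∈ J := by
    show π (MvPolynomial.C t) = 0
    rw [hπC, hpt, map_zero]
  have hτ0 : red (MvPolynomial.C t) = 0 := by
    show MvPolynomial.map resB (MvPolynomial.C t) = 0
    rw [MvPolynomial.map_C]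
    show MvPolynomial.C (resA (p t)) = 0
    rw [hpt, map_zero, map_zero]
  have hflat' : J ⊓ RingHom.ker red ≤ RingHom.ker red * J ⊔ Ideal.span {MvPolynomial.C t} := by
    rw [hkred]
    exact hflat
  have hnil : RingHom.ker red ^ e = ⊥ := by
    rw [hkred, ← Ideal.map_pow, he, Ideal.zero_eq_bot, Ideal.map_bot]
  obtain ⟨ρ, hρ⟩ := exists_rho_of_T2 P red hT2 hred (fun x => hcπ x) J (MvPolynomial.C t) hτJ hτ0
    hJI hIJ hflat' e hnil hinj
  have hS : Function.Surjective (algebraMap (MvPolynomial ι B) A₀) := by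
    intro s
    obtain ⟨y, rfl⟩ := hc s
    obtain ⟨x, rfl⟩ := hπsurj y
    exact ⟨x, rfl⟩
  -- the lifted ideal and algebra
  let IB : Ideal (MvPolynomial ι B) := liftIdeal J ρ
  let mkB : MvPolynomial ι B →+* MvPolynomial ι B ⧸ IB := Ideal.Quotient.mk IB
  let α' : B →+* MvPolynomial ι B ⧸ IB := mkB.comp MvPolynomial.C
  let q : MvPolynomial ι B ⧸ IB →+* E :=
    Ideal.Quotient.lift IB π (fun x hx => liftIdeal_le J ρ hx)
  have hqmk : ∀ x, q (mkB x) = π x := fun x => Ideal.Quotient.lift_mk _ _ _
  have hqsurj : Function.Surjective q := fun y => by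
    obtain ⟨x, rfl⟩ := hπsurj y
    exact ⟨mkB x, hqmk x⟩
  have hqα : ∀ b, q (α' b) = α (p b) := fun b => by
    show q (mkB (MvPolynomial.C b)) = _
    rw [hqmk, hπC]
  have hkq : RingHom.ker q = Ideal.span {α' t} := by
    have h1 : RingHom.ker q = J.map mkB := Ideal.ker_quotient_lift π _
    rw [h1]
    apply le_antisymm
    · rw [Ideal.map_le_iff_le_comap]
      intro z hz
      obtain ⟨r, hr⟩ := exists_sub_mem_liftIdeal hS J ρ ⟨MvPolynomial.C t, hτJ⟩ hρ ⟨z, hz⟩
      rw [Ideal.mem_comap, Ideal.mem_span_singleton']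
      refine ⟨mkB r, ?_⟩
      have h2 : mkB (z - r * MvPolynomial.C t) = 0 := Ideal.Quotient.eq_zero_iff_mem.2 hr
      rw [map_sub, sub_eq_zero, map_mul] at h2
      exact h2.symm
    · rw [Ideal.span_le, Set.singleton_subset_iff]
      exact Ideal.mem_map_of_mem _ hτJ
  have hkq' : RingHom.ker q = (RingHom.ker p).map α' := by
    rw [hkq, hker, Ideal.map_span, Set.image_singleton]
  refine ⟨MvPolynomial ι B ⧸ IB, inferInstance, α', q, ?_, hqsurj, hqα, hkq'⟩
  have hα'eq : α' = algebraMap B (MvPolynomial ι B ⧸ IB) := rfl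
  letI algAE : Algebra A E := α.toAlgebra
  haveI : Module.Flat A E := hα
  suffices hfl : Module.Flat B (MvPolynomial ι B ⧸ IB) from
    hα'eq ▸ RingHom.flat_algebraMap_iff.2 hfl
  refine flat_of_small p hp t hker htm ht q hqsurj hqα ?_ ?_
  · intro y hy
    have h1 : y ∈ Ideal.span {α' t} := by
      rw [← hkq]
      exact hy
    obtain ⟨a, ha⟩ := Ideal.mem_span_singleton'.1 h1
    exact ⟨a, by rw [← ha, mul_comm]; rfl⟩
  · intro y hy
    obtain ⟨a, rfl⟩ := Ideal.Quotient.mk_surjective y
    have h1 : a * MvPolynomial.C t ∈ IB := by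
      rw [← Ideal.Quotient.eq_zero_iff_mem, map_mul, mul_comm]
      exact hy
    have h2 : algebraMap (MvPolynomial ι B) A₀ a = 0 :=
      algebraMap_eq_zero_of_mul_mem J ρ ⟨MvPolynomial.C t, hτJ⟩ hρ a h1
    have h3 : π a ∈ RingHom.ker c := h2
    rw [hkc'] at h3
    obtain ⟨μ, hμ, hμa⟩ := (Ideal.mem_map_iff_of_surjective π hπsurj).1 h3
    have h4 : a - μ ∈ J := by
      show π (a - μ) = 0
      rw [map_sub, hμa, sub_self]
    obtain ⟨r, hr⟩ := exists_sub_mem_liftIdeal hS J ρ ⟨MvPolynomial.C t, hτJ⟩ hρ ⟨a - μ, h4⟩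
    have h5 : mkB a = mkB μ + mkB r * α' t := by
      have h6 : mkB (a - μ - r * MvPolynomial.C t) = 0 := Ideal.Quotient.eq_zero_iff_mem.2 hr
      rw [map_sub, map_sub, map_mul] at h6
      show mkB a = mkB μ + mkB r * mkB (MvPolynomial.C t)
      linear_combination h6
    rw [Ideal.smul_top_eq_map]
    show mkB a ∈ (IsLocalRing.maximalIdeal B).map α'
    rw [h5]
    refine Ideal.add_mem _ ?_ (Ideal.mul_mem_left _ _ (Ideal.mem_map_of_mem _ htm))
    have h7 : (IsLocalRing.maximalIdeal B).map α' =
        ((IsLocalRing.maximalIdeal B).map MvPolynomial.C).map mkB := by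
      rw [Ideal.map_map]
    rw [h7]
    exact Ideal.mem_map_of_mem _ hμ

end Assembly

end Groth.Agent.Lib.R2H7.T2Lift
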