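/-
Scheme level: if `T²(B₀/k, B₀) = 0`, deformations of `Spec B₀` over `Art Λ k` lift along small
extensions.
-/
import Mathlib
import Groth.Prelude.Def_ArtFun4
import Groth.Prelude.Def_CotT
import Groth.Agent.Lib.R2H7LciLiftD
import Groth.Agent.Lib.R2H7T2LiftC

set_option autoImplicit false
universe u

namespace Groth.Agent.Lib.R2H7.T2Lift

open CategoryTheory CategoryTheory.Limits AlgebraicGeometry ArtFun ArtFun.Art
open Groth.Agent.Lib.R2H7 Groth.Agent.Lib.R2H7.LciLift

section Geom

variable {Λ k : Type u} [CommRing Λ] [Field k] [Algebra Λ k] {B₀ : Type u} [CommRing B₀]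
  [Algebra k B₀]

/-- Lifting a deformation of `Spec B₀` along a small extension when `T² = 0`. -/
theorem exists_lift_def_T2 {ι σ : Type u} (P : Algebra.Presentation k B₀ ι σ)
    (hT2 : Subsingleton (CotT.T2 P B₀)) {B A : Art Λ k} (p : B ⟶ A) (hp : IsSmallExt p)
    (ξ : DefSch (Λ := Λ) (Spec (CommRingCat.of B₀))
      (Spec.map (CommRingCat.ofHom (algebraMap k B₀))) A) :
    ∃ ξ' : DefSch (Λ := Λ) (Spec (CommRingCat.of B₀))
      (Spec.map (CommRingCat.ofHom (algebraMap k B₀))) B, Nonempty ((ξ'.baseChange p).Iso ξ) := by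
  classical
  obtain ⟨E, α, c, ψ, hαflat, hcsurj, hkc, hcα, hf, hi⟩ := exists_ringDataΛ A ξ
  obtain ⟨hpsurj, hkne, hkprin, hmk⟩ := hp
  obtain ⟨t, htgen⟩ := hkprin.principal
  have hker : RingHom.ker p.toAlgHom.toRingHom = Ideal.span {t} := htgen
  have ht0 : t ≠ 0 := by
    rintro rfl
    apply hkne
    rw [show RingHom.ker p.toAlgHom = RingHom.ker p.toAlgHom.toRingHom from rfl, hker]
    simp
  have htker : t ∈ RingHom.ker p.toAlgHom.toRingHom := by
    rw [hker]
    exact Ideal.subset_span rfl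
  have htm : t ∈ IsLocalRing.maximalIdeal B :=
    Groth.Agent.Lib.Helper19.ker_le_maximalIdeal p htker
  have ht : ∀ x ∈ IsLocalRing.maximalIdeal B, x * t = 0 := by
    intro x hx
    have h1 : x * t ∈ IsLocalRing.maximalIdeal B * RingHom.ker p.toAlgHom :=
      Ideal.mul_mem_mul hx htker
    rw [hmk] at h1
    exact h1
  have hresp : ∀ b : B, A.res (p b) = B.res b := fun b => Art.res_app p b
  obtain ⟨E', _, α', q, hα'flat, hqsurj, hqα, hkq⟩ := exists_lift_T2 P hT2
    p.toAlgHom.toRingHom hpsurj t hker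
    ht0 htm ht A.res.toRingHom A.res_surjective α.hom hαflat c.hom hcsurj hkc
    (fun s => congrArg (fun f => f s) hcα)
  -- the deformation over `B`
  have hw' : (c.hom.comp q).comp α' = (algebraMap k B₀).comp B.res.toRingHom := by
    ext b
    show c.hom (q (α' b)) = algebraMap k B₀ (B.res b)
    rw [hqα, ← hresp]
    exact congrArg (fun f => f (p b)) hcα
  have hsurj' : Function.Surjective (c.hom.comp q) := hcsurj.comp hqsurj
  have hkAB : (RingHom.ker B.res.toRingHom).map p.toAlgHom.toRingHom =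
      RingHom.ker A.res.toRingHom := by
    have h1 : RingHom.ker B.res.toRingHom =
        (RingHom.ker A.res.toRingHom).comap p.toAlgHom.toRingHom := by
      ext b
      rw [Ideal.mem_comap, RingHom.mem_ker, RingHom.mem_ker]
      show B.res b = 0 ↔ A.res (p b) = 0
      rw [hresp]
    rw [h1, Ideal.map_comap_of_surjective p.toAlgHom.toRingHom hpsurj]
  have hker' : RingHom.ker (c.hom.comp q) ≤ (RingHom.ker B.res.toRingHom).map α' := by
    intro y hy
    have h1 : q y ∈ RingHom.ker c.hom := hy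
    have hcomp : α.hom.comp p.toAlgHom.toRingHom = q.comp α' := RingHom.ext fun b => (hqα b).symm
    rw [hkc, ← hkAB, Ideal.map_map, hcomp, ← Ideal.map_map] at h1
    obtain ⟨y', hy', hyy'⟩ := (Ideal.mem_map_iff_of_surjective q hqsurj).1 h1
    have h2 : y - y' ∈ RingHom.ker q := by
      rw [RingHom.mem_ker, map_sub, hyy', sub_self]
    rw [hkq] at h2
    have h3 : (RingHom.ker p.toAlgHom.toRingHom).map α' ≤
        (RingHom.ker B.res.toRingHom).map α' := by
      refine Ideal.map_mono ?_
      intro b hb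
      rw [RingHom.mem_ker] at hb ⊢
      show B.res b = 0
      rw [← hresp]
      show A.res (p.toAlgHom.toRingHom b) = 0
      rw [hb, map_zero]
    have : y = y' + (y - y') := by ring
    rw [this]
    exact Ideal.add_mem _ hy' (h3 h2)
  let ξ' := mkDefΛ B E' α' (c.hom.comp q) hα'flat hw' hsurj' hker'
  refine ⟨ξ', ⟨?_⟩⟩
  -- the pullback square
  have hpo : IsPushout (CommRingCat.ofHom α') (CommRingCat.ofHom p.toAlgHom.toRingHom)
      (CommRingCat.ofHom q) (CommRingCat.ofHom α.hom) :=
    DefLift.isPushout_of_surj_ker p.toAlgHom.toRingHom hpsurj α' q α.hom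
      (RingHom.ext fun b => hqα b) hqsurj (le_of_eq hkq)
  have hpb := isPullback_SpecMap_of_isPushout _ _ _ _ hpo
  let j : ξ.total ⟶ ξ'.total := ψ.hom ≫ Spec.map (CommRingCat.ofHom q)
  have hj : IsPullback j ξ.f ξ'.f (specMap p) := by
    show IsPullback (ψ.hom ≫ Spec.map (CommRingCat.ofHom q)) ξ.f
      (Spec.map (CommRingCat.ofHom α')) (specMap p)
    refine IsPullback.of_iso hpb ψ.symm (Iso.refl _) (Iso.refl _) (Iso.refl _) ?_ ?_ ?_ ?_
    · rw [Iso.refl_hom, Category.comp_id, Iso.symm_hom, Iso.inv_hom_id_assoc]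
    · rw [Iso.refl_hom, Category.comp_id, Iso.symm_hom, hf]
      rfl
    · rw [Iso.refl_hom, Iso.refl_hom, Category.comp_id, Category.id_comp]
    · rw [Iso.refl_hom, Iso.refl_hom, Category.comp_id, Category.id_comp]
  have hij : ξ.i ≫ j = ξ'.i := by
    show ξ.i ≫ ψ.hom ≫ Spec.map (CommRingCat.ofHom q) =
      Spec.map (CommRingCat.ofHom (c.hom.comp q))
    rw [← Category.assoc, hi, ← Spec.map_comp]
    rfl
  exact
    { iso := (IsPullback.of_hasPullback ξ'.f (specMap p)).isoIsPullback _ _ hj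
      hom_f := IsPullback.isoIsPullback_hom_snd _ _ _ _
      i_hom := by
        apply hj.hom_ext
        · rw [Category.assoc, IsPullback.isoIsPullback_hom_fst, DefSch.baseChange_i_fst, hij]
        · rw [Category.assoc, IsPullback.isoIsPullback_hom_snd, DefSch.baseChange_i_f, ξ.i_f] }

/-- `T² = 0` implies that `Def(B) → Def(A)` is surjective for every small extension. -/
theorem surjective_defFunctor_map_T2 {ι σ : Type u} (P : Algebra.Presentation k B₀ ι σ)
    (hT2 : Subsingleton (CotT.T2 P B₀)) {B A : Art Λ k} (p : B ⟶ A) (hp : IsSmallExt p) :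
    Function.Surjective ((ArtFun.defFunctor (Λ := Λ) (Spec (CommRingCat.of B₀))
      (Spec.map (CommRingCat.ofHom (algebraMap k B₀)))).map p) := by
  intro x
  induction x using Quotient.inductionOn with
  | h ξ =>
    obtain ⟨ξ', ⟨e⟩⟩ := exists_lift_def_T2 P hT2 p hp ξ
    exact ⟨ξ'.cl, Quotient.sound ⟨e⟩⟩

end Geom

end Groth.Agent.Lib.R2H7.T2Lift
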