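import Mathlib
import Groth.Agent.Lib.Helper13TorMore
import Groth.Agent.Lib.Helper13TorNat

/-!
# `Tor_1` against an overring inside the fraction field (S15024, S15025)
-/

set_option autoImplicit false

namespace Groth.Agent.Lib.R2H7.TFCurvTor

open CategoryTheory CategoryTheory.Limits MonoidalCategory Groth.Agent.Helper13Tor
open scoped TensorProduct

universe u

variable (O : Type u) [CommRing O] [IsDomain O] (K : Type u) [Field K] [Algebra O K]
  [IsFractionRing O K]

/-- `E ⊗ f` is injective if `E` embeds in `K`, the source of `f` is flat and `f` is injective. -/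
theorem lTensor_injective {E P M : Type u} [AddCommGroup E] [Module O E] [AddCommGroup P]
    [Module O P] [AddCommGroup M] [Module O M] (i : E →ₗ[O] K) (hi : Function.Injective i)
    [Module.Flat O P] (f : P →ₗ[O] M) (hf : Function.Injective f) :
    Function.Injective (LinearMap.lTensor E f) := by
  haveI : Module.Flat O K := IsLocalization.flat K (nonZeroDivisors O)
  have h1 : Function.Injective (LinearMap.rTensor P i) :=
    Module.Flat.rTensor_preserves_injective_linearMap i hi
  have h2 : Function.Injective (LinearMap.lTensor K f) :=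
    Module.Flat.lTensor_preserves_injective_linearMap f hf
  have hcomm : (LinearMap.rTensor M i) ∘ₗ (LinearMap.lTensor E f) =
      (LinearMap.lTensor K f) ∘ₗ (LinearMap.rTensor P i) := by
    rw [LinearMap.rTensor_comp_lTensor, LinearMap.lTensor_comp_rTensor]
  intro x y hxy
  apply h1
  apply h2
  have e1 := LinearMap.congr_fun hcomm x
  have e2 := LinearMap.congr_fun hcomm y
  simp only [LinearMap.comp_apply] at e1 e2
  rw [← e1, ← e2, hxy]

/-- `E ⊗ P` is torsion-free if `E` embeds in `K` and `P` is flat. -/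
theorem eq_zero_of_smul_eq_zero {E P : Type u} [AddCommGroup E] [Module O E] [AddCommGroup P]
    [Module O P] (i : E →ₗ[O] K) (hi : Function.Injective i) [Module.Flat O P]
    (r : O) (hr : r ≠ 0) (w : E ⊗[O] P) (hw : r • w = 0) : w = 0 := by
  have h1 : Function.Injective (LinearMap.rTensor P i) :=
    Module.Flat.rTensor_preserves_injective_linearMap i hi
  apply h1
  rw [map_zero]
  have h2 : r • (LinearMap.rTensor P i w) = 0 := by rw [← map_smul, hw, map_zero]
  have hr' : algebraMap O K r ≠ 0 :=
    (map_ne_zero_iff _ (IsFractionRing.injective O K)).mpr hr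
  have h3 : (algebraMap O K r) • (LinearMap.rTensor P i w) = 0 := by
    rw [algebraMap_smul]; exact h2
  have h4 := congrArg (fun z => (algebraMap O K r)⁻¹ • z) h3
  simp only [smul_smul, inv_mul_cancel₀ hr', one_smul, smul_zero] at h4
  exact h4

section SES

variable {O}

/-- the short exact sequence of an injective linear map and its cokernel -/
@[reducible] noncomputable def ses {P M : Type u} [AddCommGroup P] [Module O P] [AddCommGroup M] [Module O M]
    (f : P →ₗ[O] M) : ShortComplex (ModuleCat.{u} O) :=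
  ShortComplex.mk (ModuleCat.ofHom f) (ModuleCat.ofHom (LinearMap.range f).mkQ) (by
    ext x
    show (LinearMap.range f).mkQ (f x) = 0
    simp)

theorem ses_shortExact {P M : Type u} [AddCommGroup P] [Module O P] [AddCommGroup M] [Module O M]
    (f : P →ₗ[O] M) (hf : Function.Injective f) : (ses f).ShortExact := by
  refine ShortComplex.ShortExact.mk' ?_ ?_ ?_
  · rw [ShortComplex.moduleCat_exact_iff]
    intro x hx
    have hx' : (Submodule.Quotient.mk (show M from x) : M ⧸ LinearMap.range f) = 0 := hx
    obtain ⟨y, hy⟩ := (Submodule.Quotient.mk_eq_zero _).mp hx'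
    exact ⟨y, hy⟩
  · exact (ModuleCat.mono_iff_injective _).mpr hf
  · exact (ModuleCat.epi_iff_surjective _).mpr (Submodule.mkQ_surjective _)

end SES

/-- S15024 -/
theorem main24 (M : Type u) [AddCommGroup M] [Module O M] (n : ℕ)
    (f : (Fin n → O) →ₗ[O] M) (hf : Function.Injective f) :
    Nonempty (((Tor (ModuleCat.{u} O) 1).obj (ModuleCat.of O ↥(integralClosure O K))).obj
        (ModuleCat.of O M) ≅
      ((Tor (ModuleCat.{u} O) 1).obj (ModuleCat.of O ↥(integralClosure O K))).obj
        (ModuleCat.of O (M ⧸ LinearMap.range f))) ∧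
      Function.Injective (LinearMap.lTensor ↥(integralClosure O K) f) := by
  have hinj : Function.Injective (LinearMap.lTensor ↥(integralClosure O K) f) :=
    lTensor_injective O K (integralClosure O K).val.toLinearMap Subtype.val_injective f hf
  refine ⟨?_, hinj⟩
  have hS := ses_shortExact f hf
  obtain ⟨δ, w₁, w₂, hex₁, hex₂⟩ :=
    tor₂_exists_δ (ModuleCat.of O ↥(integralClosure O K)) (ses f) hS 0
  have hmono0 : Mono (((Tor (ModuleCat.{u} O) 0).obj
      (ModuleCat.of O ↥(integralClosure O K))).map (ses f).f) :=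
    (mono_tor_zero_map_iff _ (ses f).f).mpr hinj
  have hδ0 : δ = 0 := by
    rw [← cancel_mono (((Tor (ModuleCat.{u} O) 0).obj
      (ModuleCat.of O ↥(integralClosure O K))).map (ses f).f), w₂, zero_comp]
  have hepi : Epi (((Tor (ModuleCat.{u} O) (0 + 1)).obj
      (ModuleCat.of O ↥(integralClosure O K))).map (ses f).g) := hex₁.epi_f hδ0
  haveI : Module.Flat O ((ses f).X₁) := inferInstanceAs (Module.Flat O (Fin n → O))
  have hz : IsZero (((Tor (ModuleCat.{u} O) 1).obj
      (ModuleCat.of O ↥(integralClosure O K))).obj (ses f).X₁) :=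
    isZero_tor_of_flat_right _ _ 1 one_pos
  have hmono : Mono (((Tor (ModuleCat.{u} O) 1).obj
      (ModuleCat.of O ↥(integralClosure O K))).map (ses f).g) :=
    (tor₂_exact₂ (ModuleCat.of O ↥(integralClosure O K)) (ses f) hS 1).mono_g
      (hz.eq_of_src _ _)
  haveI : Epi (((Tor (ModuleCat.{u} O) 1).obj
      (ModuleCat.of O ↥(integralClosure O K))).map (ses f).g) := hepi
  haveI := hmono
  haveI := isIso_of_mono_of_epi (((Tor (ModuleCat.{u} O) 1).obj
      (ModuleCat.of O ↥(integralClosure O K))).map (ses f).g)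
  exact ⟨asIso (((Tor (ModuleCat.{u} O) 1).obj
      (ModuleCat.of O ↥(integralClosure O K))).map (ses f).g)⟩

/-- a finite length module over a domain of dimension one is killed by a nonzero element -/
theorem exists_ne_zero_smul_eq_zero (hdim : ringKrullDim O = 1) (T : Type u) [AddCommGroup T]
    [Module O T] [Module.Finite O T] (hT : IsFiniteLength O T) :
    ∃ r : O, r ≠ 0 ∧ ∀ t : T, r • t = 0 := by
  classical
  have hel : ∀ t : T, ∃ r : O, r ≠ 0 ∧ r • t = 0 := by
    intro t
    by_contra hcon
    push Not at hcon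
    have hinj : Function.Injective (LinearMap.toSpanSingleton O T t) := by
      rw [← LinearMap.ker_eq_bot, LinearMap.ker_eq_bot']
      intro r hr
      by_contra hr0
      exact hcon r hr0 hr
    have hfl : IsFiniteLength O O := IsFiniteLength.of_injective hT hinj
    rw [isFiniteLength_iff_isNoetherian_isArtinian] at hfl
    haveI : IsArtinianRing O := hfl.2
    have hfield : IsField O := IsArtinianRing.isField_of_isDomain O
    have h0 := ringKrullDim_eq_zero_of_isField hfield
    rw [hdim] at h0
    exact one_ne_zero h0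
  choose rt hrt0 hrt using hel
  obtain ⟨s, hs⟩ := (Module.Finite.fg_top : (⊤ : Submodule O T).FG)
  refine ⟨∏ t ∈ s, rt t, Finset.prod_ne_zero_iff.mpr fun t _ => hrt0 t, ?_⟩
  intro t
  have ht : t ∈ Submodule.span O (s : Set T) := by rw [hs]; trivial
  induction ht using Submodule.span_induction with
  | mem x hx =>
    rw [← Finset.mul_prod_erase s rt (Finset.mem_coe.mp hx), mul_comm, mul_smul, hrt, smul_zero]
  | zero => exact smul_zero _
  | add x y _ _ hx hy => rw [smul_add, hx, hy, add_zero]
  | smul a x _ hx => rw [smul_comm, hx, smul_zero]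

/-- S15025 -/
theorem main25 (hdim : ringKrullDim O = 1) (M : Type u) [AddCommGroup M] [Module O M] (n : ℕ)
    (g : M →ₗ[O] (Fin n → O)) (hg : Function.Injective g)
    (hT : IsFiniteLength O ((Fin n → O) ⧸ LinearMap.range g)) :
    Nonempty (↥(Submodule.torsion O (TensorProduct O ↥(integralClosure O K) M)) ≃ₗ[O]
      ↑(((Tor (ModuleCat.{u} O) 1).obj (ModuleCat.of O ↥(integralClosure O K))).obj
        (ModuleCat.of O ((Fin n → O) ⧸ LinearMap.range g)))) := by
  classical
  obtain ⟨r, hr0, hr⟩ := exists_ne_zero_smul_eq_zero O hdim _ hT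
  -- the map h with g ∘ h = r
  have hmem : ∀ i : Fin n, ∃ m : M, g m = r • (Pi.basisFun O (Fin n) i) := by
    intro i
    have h1 : (LinearMap.range g).mkQ (r • (Pi.basisFun O (Fin n) i)) = 0 := by
      rw [map_smul]; exact hr _
    rw [Submodule.mkQ_apply, Submodule.Quotient.mk_eq_zero] at h1
    exact h1
  choose hm hhm using hmem
  obtain ⟨h, hh⟩ : ∃ h : (Fin n → O) →ₗ[O] M, ∀ i, h (Pi.basisFun O (Fin n) i) = hm i :=
    ⟨(Pi.basisFun O (Fin n)).constr O hm, fun i => Module.Basis.constr_basis _ _ _ i⟩
  have hgh : g ∘ₗ h = r • LinearMap.id := by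
    refine (Pi.basisFun O (Fin n)).ext fun i => ?_
    rw [LinearMap.comp_apply, hh, hhm]
    rfl
  have hhg : h ∘ₗ g = r • LinearMap.id := by
    ext m
    apply hg
    have := LinearMap.congr_fun hgh (g m)
    simp only [LinearMap.comp_apply, LinearMap.smul_apply, LinearMap.id_apply] at this ⊢
    rw [this, map_smul]
  -- kernel of E ⊗ g is the torsion
  have hker : LinearMap.ker (LinearMap.lTensor ↥(integralClosure O K) g) =
      Submodule.torsion O (TensorProduct O ↥(integralClosure O K) M) := by
    ext z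
    rw [LinearMap.mem_ker, Submodule.mem_torsion_iff]
    constructor
    · intro hz
      refine ⟨⟨r, mem_nonZeroDivisors_of_ne_zero hr0⟩, ?_⟩
      show r • z = 0
      have h1 : LinearMap.lTensor ↥(integralClosure O K) h
          (LinearMap.lTensor ↥(integralClosure O K) g z) = r • z := by
        rw [← LinearMap.comp_apply, ← LinearMap.lTensor_comp, hhg, LinearMap.lTensor_smul,
          LinearMap.lTensor_id]
        rfl
      rw [← h1, hz, map_zero]
    · rintro ⟨a, ha⟩
      have ha0 : (a : O) ≠ 0 := nonZeroDivisors.ne_zero a.2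
      refine eq_zero_of_smul_eq_zero O K (integralClosure O K).val.toLinearMap
        Subtype.val_injective (a : O) ha0 _ ?_
      rw [← map_smul]
      have : (a : O) • z = 0 := ha
      rw [this, map_zero]
  -- the connecting map
  have hS := ses_shortExact g hg
  obtain ⟨δ, w₁, w₂, hex₁, hex₂⟩ :=
    tor₂_exists_δ (ModuleCat.of O ↥(integralClosure O K)) (ses g) hS 0
  haveI : Module.Flat O ((ses g).X₂) := inferInstanceAs (Module.Flat O (Fin n → O))
  have hz : IsZero (((Tor (ModuleCat.{u} O) (0 + 1)).obj
      (ModuleCat.of O ↥(integralClosure O K))).obj (ses g).X₂) :=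
    isZero_tor_of_flat_right _ _ 1 one_pos
  have hδmono : Mono δ := hex₁.mono_g (hz.eq_of_src _ _)
  let F := tL (ModuleCat.of O ↥(integralClosure O K))
  let e₁ := F.leftDerivedZeroIsoSelf.app (ses g).X₁
  let e₂ := F.leftDerivedZeroIsoSelf.app (ses g).X₂
  have hn : (F.leftDerived 0).map (ses g).f ≫ e₂.hom = e₁.hom ≫ F.map (ses g).f :=
    F.leftDerivedZeroIsoSelf.hom.naturality (ses g).f
  have hFmap : ∀ z, (F.map (ses g).f).hom z = LinearMap.lTensor ↥(integralClosure O K) g z :=
    fun z => rfl
  -- δ' : Tor_1 → E ⊗ M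
  let δ' : ((Tor (ModuleCat.{u} O) 1).obj (ModuleCat.of O ↥(integralClosure O K))).obj
      (ModuleCat.of O ((Fin n → O) ⧸ LinearMap.range g)) ⟶ (F.leftDerived 0).obj (ses g).X₁ := δ
  have hδ'mono : Mono δ' := hδmono
  have w₂' : δ' ≫ (F.leftDerived 0).map (ses g).f = 0 := w₂
  have hex₂' : ∀ y : ↑((F.leftDerived 0).obj (ses g).X₁),
      ((F.leftDerived 0).map (ses g).f).hom y = 0 → ∃ t, δ'.hom t = y := by
    have h := hex₂
    rw [ShortComplex.moduleCat_exact_iff] at h
    exact h
  let φ : ↑(((Tor (ModuleCat.{u} O) 1).obj (ModuleCat.of O ↥(integralClosure O K))).obj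
      (ModuleCat.of O ((Fin n → O) ⧸ LinearMap.range g))) →ₗ[O]
        TensorProduct O ↥(integralClosure O K) M := (δ' ≫ e₁.hom).hom
  have hφinj : Function.Injective φ := by
    haveI := hδ'mono
    exact (ModuleCat.mono_iff_injective (δ' ≫ e₁.hom)).mp (mono_comp δ' e₁.hom)
  have hid : ∀ z, e₁.hom.hom (e₁.inv.hom z) = z := fun z => by
    have := congrArg (fun ψ => ψ.hom z) e₁.inv_hom_id
    exact this
  have hφker : ∀ z : TensorProduct O ↥(integralClosure O K) M,
      (∃ t, φ t = z) ↔ LinearMap.lTensor ↥(integralClosure O K) g z = 0 := by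
    intro z
    constructor
    · rintro ⟨t, rfl⟩
      have h1 : (δ' ≫ e₁.hom) ≫ F.map (ses g).f = 0 := by
        rw [Category.assoc, ← hn, ← Category.assoc, w₂', zero_comp]
      have := congrArg (fun ψ => ψ.hom t) h1
      exact this
    · intro hz0
      have hz0' : (F.map (ses g).f).hom z = 0 := hz0
      have h2 : ((F.leftDerived 0).map (ses g).f).hom (e₁.inv.hom z) = 0 := by
        have h3 : (F.leftDerived 0).map (ses g).f = e₁.hom ≫ F.map (ses g).f ≫ e₂.inv := by
          rw [← Category.assoc, ← hn, Category.assoc, Iso.hom_inv_id, Category.comp_id]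
        rw [h3]
        show e₂.inv.hom ((F.map (ses g).f).hom (e₁.hom.hom (e₁.inv.hom z))) = 0
        rw [hid, hz0', map_zero]
      obtain ⟨t, ht⟩ := hex₂' (e₁.inv.hom z) h2
      refine ⟨t, ?_⟩
      show e₁.hom.hom (δ'.hom t) = z
      rw [ht, hid]
  have hφtors : ∀ t, φ t ∈ Submodule.torsion O (TensorProduct O ↥(integralClosure O K) M) := by
    intro t
    rw [← hker, LinearMap.mem_ker]
    exact (hφker _).mp ⟨t, rfl⟩
  refine ⟨(LinearEquiv.ofBijective (φ.codRestrict _ hφtors) ⟨?_, ?_⟩).symm⟩
  · intro a b hab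
    exact hφinj (congrArg Subtype.val hab)
  · rintro ⟨z, hz⟩
    rw [← hker, LinearMap.mem_ker] at hz
    obtain ⟨t, ht⟩ := (hφker z).mpr hz
    exact ⟨t, Subtype.ext ht⟩

end Groth.Agent.Lib.R2H7.TFCurvTor
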