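import Mathlib
import Groth.Agent.Lib.Helper10TF
import Groth.Agent.Lib.Helper29ExtSes

/-! Vanishing of `Ext^i(M, ω)` (`i ≥ 1`) for `M` finite torsion-free over a domain and `ω` of
injective dimension at most one: embed `M` into a finite free module and shift. (helper7) -/

set_option autoImplicit false
open CategoryTheory CategoryTheory.Abelian

namespace Groth.Agent.Lib.R2H7.TFExt

universe u

variable (O : Type u) [CommRing O] [IsDomain O]

theorem subsingleton_ext_of_torsionFree (W : Type u) [AddCommGroup W] [Module O W]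
    (hW : HasInjectiveDimensionLT (ModuleCat.of O W) 2)
    (M : Type u) [AddCommGroup M] [Module O M] [Module.Finite O M] [Module.IsTorsionFree O M]
    (i : ℕ) (hi : 1 ≤ i) :
    Subsingleton (Ext.{u} (ModuleCat.of O M) (ModuleCat.of O W) i) := by
  obtain ⟨n, f, hf⟩ := Groth.Agent.Lib.Helper10.exists_injective_of_isTorsionFree O M
  let g : (Fin n → O) →ₗ[O] ((Fin n → O) ⧸ LinearMap.range f) := (LinearMap.range f).mkQ
  have hg : Function.Surjective g := Submodule.mkQ_surjective _
  have hex : Function.Exact f g := LinearMap.exact_map_mkQ_range f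
  have hS := Groth.Agent.Lib.Helper29ExtSes.ses_shortExact f g hf hg hex
  have hP : Projective (ModuleCat.of O (Fin n → O)) :=
    (IsProjective.iff_projective.{u, u} (Fin n → O)).mp inferInstance
  suffices ∀ x : Ext.{u} (ModuleCat.of O M) (ModuleCat.of O W) i, x = 0 from
    ⟨fun x y => by rw [this x, this y]⟩
  intro x
  have h0 : hS.extClass.comp x (rfl : 1 + i = 1 + i) = 0 := by
    have : Subsingleton (Ext.{u} (ModuleCat.of O ((Fin n → O) ⧸ LinearMap.range f))
        (ModuleCat.of O W) (1 + i)) :=
      HasInjectiveDimensionLT.subsingleton.{u} _ 2 (1 + i) (by omega) _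
    exact Subsingleton.elim _ _
  obtain ⟨x₂, hx₂⟩ := Ext.contravariant_sequence_exact₁ hS (ModuleCat.of O W) x rfl h0
  have hx0 : x₂ = 0 := by
    obtain ⟨j, rfl⟩ : ∃ j, i = j + 1 := ⟨i - 1, by omega⟩
    exact Ext.eq_zero_of_projective _
  rw [← hx₂, hx0, Ext.comp_zero]

end Groth.Agent.Lib.R2H7.TFExt
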