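/-
R2H7TFNormal: torsion-free modules over a one-dimensional Noetherian local domain with finite
normalization sit between O^n and Otilde^n (S15009).
-/
import Mathlib

set_option autoImplicit false
set_option linter.unusedVariables false
set_option linter.style.haveILetI false
set_option linter.unusedSectionVars false

namespace Groth.Agent.Lib.R2H7.TFNormal

open IsLocalRing

section Avoid

/-- Avoidance: a module is not a finite union of proper submodules containing `I M`, when `I` is a
maximal ideal with infinite residue field. -/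
theorem exists_notMem_of_finite {O : Type*} [CommRing O] (I : Ideal O) [hI : I.IsMaximal]
    [Infinite (O ⧸ I)] {M : Type*} [AddCommGroup M] [Module O M] {ι : Type*} [Finite ι]
    (B : ι → Submodule O M) (hB : ∀ i, B i ≠ ⊤)
    (hm : ∀ i, I • (⊤ : Submodule O M) ≤ B i) : ∃ x : M, ∀ i, x ∉ B i := by
  classical
  letI : Field (O ⧸ I) := Ideal.Quotient.field I
  by_contra hcon
  push Not at hcon
  let B' : ι → Submodule (O ⧸ I) (M ⧸ (I • ⊤ : Submodule O M)) := fun i =>
    { carrier := (Submodule.mkQ (I • ⊤ : Submodule O M)) '' (B i : Set M)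
      add_mem' := by
        rintro _ _ ⟨x, hx, rfl⟩ ⟨y, hy, rfl⟩
        exact ⟨x + y, (B i).add_mem hx hy, map_add _ _ _⟩
      zero_mem' := ⟨0, (B i).zero_mem, map_zero _⟩
      smul_mem' := by
        rintro c _ ⟨x, hx, rfl⟩
        obtain ⟨c0, rfl⟩ := Ideal.Quotient.mk_surjective c
        exact ⟨c0 • x, (B i).smul_mem c0 hx, rfl⟩ }
  have hcov : ⋃ i, (B' i : Set (M ⧸ (I • ⊤ : Submodule O M))) = Set.univ := by
    ext q
    simp only [Set.mem_iUnion, Set.mem_univ, iff_true]
    obtain ⟨x, rfl⟩ := Submodule.mkQ_surjective _ q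
    obtain ⟨i, hi⟩ := hcon x
    exact ⟨i, x, hi, rfl⟩
  obtain ⟨i, hi⟩ := Subspace.exists_eq_top_of_iUnion_eq_univ hcov
  apply hB i
  rw [eq_top_iff]
  intro x _
  have hx : Submodule.mkQ (I • ⊤ : Submodule O M) x ∈ B' i := by rw [hi]; trivial
  obtain ⟨y, hy, hxy⟩ := hx
  have h1 : y - x ∈ (I • ⊤ : Submodule O M) := by
    rw [← Submodule.Quotient.mk_eq_zero, Submodule.Quotient.mk_sub]
    exact sub_eq_zero.mpr hxy
  have h2 := hm i h1
  have h3 : x = y - (y - x) := by abel
  rw [h3]
  exact (B i).sub_mem hy h2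

end Avoid

section Norm

universe u

variable (O : Type u) [CommRing O] [IsDomain O] [IsNoetherianRing O] [IsLocalRing O]
  (K : Type u) [Field K] [Algebra O K] [IsFractionRing O K]

theorem isDedekindDomain_integralClosure (hdim : ringKrullDim O = 1)
    (hfin : Module.Finite O ↥(integralClosure O K)) :
    IsDedekindDomain ↥(integralClosure O K) := by
  haveI : Ring.DimensionLEOne O := by
    have hle : Ring.KrullDimLE 1 O := Ring.krullDimLE_iff.mpr (by rw [hdim]; rfl)
    exact ⟨fun {p} hp0 hp => Ring.krullDimLE_one_iff_of_noZeroDivisors.mp hle p hp0 hp⟩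
  haveI : IsNoetherianRing ↥(integralClosure O K) := IsNoetherianRing.of_finite O _
  haveI : IsIntegrallyClosed ↥(integralClosure O K) :=
    integralClosure.isIntegrallyClosedOfFiniteExtension K
  exact { }

theorem maximalIdeal_le_comap (𝔫 : Ideal ↥(integralClosure O K)) [h𝔫 : 𝔫.IsMaximal] :
    maximalIdeal O ≤ 𝔫.comap (algebraMap O ↥(integralClosure O K)) := by
  haveI : Algebra.IsIntegral O ↥(integralClosure O K) := inferInstance
  haveI := Ideal.isMaximal_comap_of_isIntegral_of_isMaximal (R := O) 𝔫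
  exact (IsLocalRing.eq_maximalIdeal this).ge

theorem finite_maximal (hfin : Module.Finite O ↥(integralClosure O K)) :
    {𝔫 : Ideal ↥(integralClosure O K) | 𝔫.IsMaximal}.Finite := by
  haveI := hfin
  refine (Algebra.QuasiFinite.finite_primesOver (R := O) (S := ↥(integralClosure O K))
    (maximalIdeal O)).subset ?_
  intro 𝔫 h𝔫
  haveI : 𝔫.IsMaximal := h𝔫
  haveI : Algebra.IsIntegral O ↥(integralClosure O K) := inferInstance
  have hmax := Ideal.isMaximal_comap_of_isIntegral_of_isMaximal (R := O) 𝔫
  refine ⟨h𝔫.isPrime, ⟨?_⟩⟩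
  exact (IsLocalRing.eq_maximalIdeal hmax).symm

theorem isUnit_of_forall_notMem {R : Type*} [CommRing R] (d : R)
    (h : ∀ 𝔫 : Ideal R, 𝔫.IsMaximal → d ∉ 𝔫) : IsUnit d := by
  by_contra hd
  obtain ⟨𝔫, h𝔫, hle⟩ := Ideal.exists_le_maximal (Ideal.span {d})
    (by rwa [Ne, Ideal.span_singleton_eq_top])
  exact h 𝔫 h𝔫 (hle (Ideal.mem_span_singleton_self d))

end Norm

section Coords

universe u

open TensorProduct

variable (O : Type u) [CommRing O] [IsDomain O] [IsNoetherianRing O] [IsLocalRing O]
  (K : Type u) [Field K] [Algebra O K] [IsFractionRing O K]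
  (M : Type u) [AddCommGroup M] [Module O M] [Module.Finite O M] [NoZeroSMulDivisors O M]

/-- embedding of `M` into `K^n` spanning over `K`. -/
theorem exists_embedding (n : ℕ) (hn : Module.finrank K (K ⊗[O] M) = n) :
    ∃ j : M →ₗ[O] (Fin n → K), Function.Injective j ∧
      Submodule.span K (Set.range j) = ⊤ := by
  let e : (K ⊗[O] M) ≃ₗ[K] (Fin n → K) := (Module.finBasisOfFinrankEq K (K ⊗[O] M) hn).equivFun
  let j0 : M →ₗ[O] K ⊗[O] M := TensorProduct.mk O K M 1
  have hj0 : Function.Injective j0 := by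
    rw [injective_iff_map_eq_zero]
    intro m hm
    obtain ⟨s, hs⟩ := (IsLocalizedModule.eq_zero_iff (nonZeroDivisors O) j0).mp hm
    rcases smul_eq_zero.mp hs with h | h
    · exact absurd h (nonZeroDivisors.ne_zero s.2)
    · exact h
  refine ⟨(e.restrictScalars O).toLinearMap ∘ₗ j0, ?_, ?_⟩
  · exact (e.restrictScalars O).injective.comp hj0
  · rw [eq_top_iff]
    rintro v -
    obtain ⟨w, rfl⟩ := e.surjective v
    have hw : w ∈ Submodule.span K (Set.range j0) := by
      induction w using TensorProduct.induction_on with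
      | zero => exact Submodule.zero_mem _
      | tmul a m =>
        have : a ⊗ₜ[O] m = a • j0 m := by
          show a ⊗ₜ[O] m = a • ((1 : K) ⊗ₜ[O] m)
          rw [TensorProduct.smul_tmul', smul_eq_mul, mul_one]
        rw [this]
        exact Submodule.smul_mem _ _ (Submodule.subset_span ⟨m, rfl⟩)
      | add x y hx hy => exact Submodule.add_mem _ hx hy
    have := Submodule.apply_mem_span_image_of_mem_span e.toLinearMap hw
    refine Submodule.span_mono ?_ this
    rintro _ ⟨_, ⟨m, rfl⟩, rfl⟩
    exact ⟨m, rfl⟩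

/-- coordinates: `M` embeds in `Otilde^n` with full `Otilde`-span. -/
theorem exists_coords (hdim : ringKrullDim O = 1)
    (hfin : Module.Finite O ↥(integralClosure O K)) (n : ℕ)
    (hn : Module.finrank K (K ⊗[O] M) = n) :
    ∃ J : M →ₗ[O] (Fin n → ↥(integralClosure O K)), Function.Injective J ∧
      Submodule.span ↥(integralClosure O K) (Set.range J) = ⊤ := by
  classical
  obtain ⟨j, hjinj, hjspan⟩ := exists_embedding O K M n hn
  haveI := hfin
  haveI hded : IsDedekindDomain ↥(integralClosure O K) :=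
    isDedekindDomain_integralClosure O K hdim hfin
  haveI hfrac : IsFractionRing ↥(integralClosure O K) K :=
    integralClosure.isFractionRing_of_finite_extension K K
  haveI hpid : IsPrincipalIdealRing ↥(integralClosure O K) :=
    IsPrincipalIdealRing.of_finite_maximals (finite_maximal O K hfin)
  -- the Otilde-span of M
  let N : Submodule ↥(integralClosure O K) (Fin n → K) := Submodule.span _ (Set.range j)
  obtain ⟨s, hs⟩ := (Module.finite_def.mp (inferInstance : Module.Finite O M))
  have hNfg : N.FG := by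
    refine ⟨s.image j, ?_⟩
    apply le_antisymm
    · apply Submodule.span_mono
      rintro _ hx
      rw [Finset.coe_image] at hx
      obtain ⟨m, -, rfl⟩ := hx
      exact ⟨m, rfl⟩
    · apply Submodule.span_le.mpr
      rintro _ ⟨m, rfl⟩
      have hm : m ∈ Submodule.span O (s : Set M) := by rw [hs]; trivial
      induction hm using Submodule.span_induction with
      | mem x hx =>
        apply Submodule.subset_span
        rw [Finset.coe_image]
        exact ⟨x, hx, rfl⟩
      | zero => rw [map_zero]; exact Submodule.zero_mem _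
      | add x y _ _ hx hy => rw [map_add]; exact Submodule.add_mem _ hx hy
      | smul c x _ hx =>
        rw [map_smul, ← algebraMap_smul ↥(integralClosure O K) c (j x)]
        exact Submodule.smul_mem _ _ hx
  haveI : Module.Finite ↥(integralClosure O K) N := Module.Finite.iff_fg.mpr hNfg
  haveI : Module.IsTorsionFree ↥(integralClosure O K) N := by
    apply Module.IsTorsionFree.of_smul_eq_zero
    intro r x hrx
    by_cases hr : r = 0
    · exact Or.inl hr
    right
    apply Subtype.ext
    funext i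
    have h1 : (r • x : N).1 i = 0 := by rw [hrx]; rfl
    have h2 : (r : K) * (x.1 i) = 0 := h1
    rcases mul_eq_zero.mp h2 with h | h
    · exact absurd (Subtype.ext h) hr
    · exact h
  haveI : Module.Free ↥(integralClosure O K) N := Module.free_of_finite_type_torsion_free'
  let b := Module.finBasis ↥(integralClosure O K) N
  -- b is a K-basis of K^n
  have hbli : LinearIndependent K (fun i => ((b i : N) : Fin n → K)) := by
    rw [← LinearIndependent.iff_fractionRing (R := ↥(integralClosure O K)) (K := K)]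
    exact b.linearIndependent.map' N.subtype (Submodule.ker_subtype N)
  have hbspan : Submodule.span K (Set.range (fun i => ((b i : N) : Fin n → K))) = ⊤ := by
    rw [eq_top_iff, ← hjspan]
    apply Submodule.span_le.mpr
    rintro _ ⟨m, rfl⟩
    have hmem : j m ∈ N := Submodule.subset_span ⟨m, rfl⟩
    have hrepr := b.sum_repr ⟨j m, hmem⟩
    have h1 : j m = ∑ i, ((b.repr ⟨j m, hmem⟩ i : ↥(integralClosure O K)) : K) •
        ((b i : N) : Fin n → K) := by
      have := congrArg (fun x : N => (x : Fin n → K)) hrepr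
      simp only [Submodule.coe_sum, Submodule.coe_smul] at this
      refine this.symm.trans ?_
      refine Finset.sum_congr rfl (fun i _ => ?_)
      rfl
    rw [h1]
    exact Submodule.sum_mem _ (fun i _ => Submodule.smul_mem _ _ (Submodule.subset_span ⟨i, rfl⟩))
  have hcard : Module.finrank ↥(integralClosure O K) N = n := by
    have hB := Module.Basis.mk hbli hbspan.ge
    have := Module.finrank_eq_card_basis hB
    rw [Module.finrank_fin_fun, Fintype.card_fin] at this
    exact this.symm
  let b' : Module.Basis (Fin n) ↥(integralClosure O K) N := b.reindex (finCongr hcard)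
  let jN : M →ₗ[O] N :=
    { toFun := fun m => ⟨j m, Submodule.subset_span ⟨m, rfl⟩⟩
      map_add' := fun x y => Subtype.ext (map_add j x y)
      map_smul' := fun c x => Subtype.ext (by
        simp only [RingHom.id_apply, Submodule.coe_smul_of_tower, map_smul]) }
  have hjN : Function.Injective jN := fun x y h => hjinj (congrArg Subtype.val h)
  refine ⟨(b'.equivFun.restrictScalars O).toLinearMap ∘ₗ jN,
    (b'.equivFun.restrictScalars O).injective.comp hjN, ?_⟩
  -- span
  have hspanN : Submodule.span ↥(integralClosure O K) (Set.range jN) = ⊤ := by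
    rw [eq_top_iff]
    rintro ⟨x, hx⟩ -
    induction hx using Submodule.span_induction with
    | mem y hy =>
      obtain ⟨m, rfl⟩ := hy
      exact Submodule.subset_span ⟨m, rfl⟩
    | zero => exact Submodule.zero_mem _
    | add y z hy hz ihy ihz =>
      have : (⟨y + z, Submodule.add_mem _ hy hz⟩ : N) = ⟨y, hy⟩ + ⟨z, hz⟩ := rfl
      rw [this]
      exact Submodule.add_mem _ ihy ihz
    | smul c y hy ihy =>
      have : (⟨c • y, Submodule.smul_mem _ c hy⟩ : N) = c • ⟨y, hy⟩ := rfl
      rw [this]
      exact Submodule.smul_mem _ _ ihy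
  rw [eq_top_iff]
  intro v _
  obtain ⟨w, rfl⟩ := b'.equivFun.surjective v
  have hw : w ∈ Submodule.span ↥(integralClosure O K) (Set.range jN) := by rw [hspanN]; trivial
  have := Submodule.apply_mem_span_image_of_mem_span b'.equivFun.toLinearMap hw
  refine Submodule.span_mono ?_ this
  rintro _ ⟨_, ⟨m, rfl⟩, rfl⟩
  exact ⟨m, rfl⟩

end Coords

section Select

universe u

variable (O : Type u) [CommRing O] [IsLocalRing O] (R : Type u) [CommRing R] [Algebra O R]
  (M : Type u) [AddCommGroup M] [Module O M] (n : ℕ)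

/-- reduction mod `𝔫` on coordinates -/
noncomputable def piq (𝔫 : Ideal R) : (Fin n → R) →ₗ[R] (Fin n → R ⧸ 𝔫) :=
  ((Ideal.Quotient.mkₐ R 𝔫).toLinearMap).compLeft (Fin n)

lemma piq_apply (𝔫 : Ideal R) (v : Fin n → R) (i : Fin n) :
    piq R n 𝔫 v i = Ideal.Quotient.mk 𝔫 (v i) := rfl

lemma piq_surjective (𝔫 : Ideal R) : Function.Surjective (piq R n 𝔫) := by
  intro w
  have : ∀ i, ∃ r, Ideal.Quotient.mk 𝔫 r = w i := fun i => Ideal.Quotient.mk_surjective (w i)
  choose v hv using this
  exact ⟨v, funext hv⟩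

theorem exists_good (J : M →ₗ[O] (Fin n → R))
    (hfinmax : {𝔫 : Ideal R | 𝔫.IsMaximal}.Finite)
    (hlies : ∀ 𝔫 : Ideal R, 𝔫.IsMaximal → maximalIdeal O ≤ 𝔫.comap (algebraMap O R))
    [Infinite (O ⧸ maximalIdeal O)]
    (hJ : Submodule.span R (Set.range J) = ⊤) :
    ∀ l, l ≤ n → ∃ ms : Fin l → M, ∀ 𝔫 : Ideal R, 𝔫.IsMaximal →
      LinearIndependent (R ⧸ 𝔫) (fun i => piq R n 𝔫 (J (ms i))) := by
  classical
  intro l
  induction l with
  | zero =>
    intro _
    exact ⟨Fin.elim0, fun 𝔫 _ => linearIndependent_empty_type⟩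
  | succ l ih =>
    intro hl
    obtain ⟨ms, hms⟩ := ih (Nat.le_of_succ_le hl)
    haveI : Finite ↥{𝔫 : Ideal R | 𝔫.IsMaximal} := hfinmax.to_subtype
    -- the bad submodules
    have key : ∀ 𝔫 : Ideal R, 𝔫.IsMaximal → ∃ B : Submodule O M, B ≠ ⊤ ∧
        maximalIdeal O • (⊤ : Submodule O M) ≤ B ∧
        ∀ x, x ∉ B → piq R n 𝔫 (J x) ∉
          Submodule.span (R ⧸ 𝔫) (Set.range (fun i => piq R n 𝔫 (J (ms i)))) := by
      intro 𝔫 h𝔫
      letI : Field (R ⧸ 𝔫) := Ideal.Quotient.field 𝔫
      obtain ⟨S, hSdef⟩ : ∃ S : Submodule (R ⧸ 𝔫) (Fin n → R ⧸ 𝔫),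
        S = Submodule.span (R ⧸ 𝔫) (Set.range (fun i => piq R n 𝔫 (J (ms i)))) := ⟨_, rfl⟩
      let φ : M →ₗ[O] (Fin n → R ⧸ 𝔫) := ((piq R n 𝔫).restrictScalars O) ∘ₗ J
      have hφ : ∀ x, φ x = piq R n 𝔫 (J x) := fun x => rfl
      refine ⟨(S.restrictScalars O).comap φ, ?_, ?_, ?_⟩
      · intro hB
        have h1 : ∀ v : Fin n → R, piq R n 𝔫 v ∈ S := by
          intro v
          have hv : v ∈ Submodule.span R (Set.range J) := by rw [hJ]; trivial
          induction hv using Submodule.span_induction with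
          | mem y hy =>
            obtain ⟨m, rfl⟩ := hy
            have hm : m ∈ (S.restrictScalars O).comap φ := by rw [hB]; trivial
            exact hm
          | zero => rw [map_zero]; exact S.zero_mem
          | add y z _ _ hy hz => rw [map_add]; exact S.add_mem hy hz
          | smul c y _ hy =>
            rw [map_smul, ← algebraMap_smul (R ⧸ 𝔫) c]
            exact S.smul_mem _ hy
        have h2 : S = ⊤ := by
          rw [eq_top_iff]
          rintro w -
          obtain ⟨v, rfl⟩ := piq_surjective R n 𝔫 w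
          exact h1 v
        have h3 : Module.finrank (R ⧸ 𝔫) S ≤ l := by
          have := finrank_range_le_card (R := R ⧸ 𝔫) (fun i : Fin l => piq R n 𝔫 (J (ms i)))
          rw [Fintype.card_fin] at this
          rw [hSdef]
          exact this
        rw [h2, finrank_top, Module.finrank_fin_fun] at h3
        omega
      · rw [Submodule.smul_le]
        intro c hc x _
        have hc' : algebraMap O R c ∈ 𝔫 := hlies 𝔫 h𝔫 hc
        have h0 : φ (c • x) = 0 := by
          funext i
          show Ideal.Quotient.mk 𝔫 (J (c • x) i) = 0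
          rw [map_smul, Pi.smul_apply, Algebra.smul_def, map_mul,
            Ideal.Quotient.eq_zero_iff_mem.mpr hc', zero_mul]
        show φ (c • x) ∈ S
        rw [h0]
        exact S.zero_mem
      · intro x hx hmem
        apply hx
        show φ x ∈ S
        rw [hφ, hSdef]
        exact hmem
    choose B hB1 hB2 hB3 using key
    obtain ⟨x, hx⟩ := exists_notMem_of_finite (maximalIdeal O)
      (fun 𝔫 : ↥{𝔫 : Ideal R | 𝔫.IsMaximal} => B 𝔫.1 𝔫.2) (fun 𝔫 => hB1 𝔫.1 𝔫.2)
      (fun 𝔫 => hB2 𝔫.1 𝔫.2)
    refine ⟨Fin.snoc ms x, fun 𝔫 h𝔫 => ?_⟩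
    letI : Field (R ⧸ 𝔫) := Ideal.Quotient.field 𝔫
    have hfun : (fun i => piq R n 𝔫 (J (Fin.snoc (α := fun _ => M) ms x i))) =
        Fin.snoc (α := fun _ => (Fin n → R ⧸ 𝔫)) (fun i => piq R n 𝔫 (J (ms i)))
          (piq R n 𝔫 (J x)) := by
      have := Fin.comp_snoc (fun y : M => piq R n 𝔫 (J y)) ms x
      exact this
    rw [hfun, linearIndependent_finSnoc]
    exact ⟨hms 𝔫 h𝔫, hB3 𝔫 h𝔫 x (hx ⟨𝔫, h𝔫⟩)⟩

end Select

section Main

universe u

open TensorProduct

theorem main (O : Type u) [CommRing O] [IsDomain O] [IsNoetherianRing O] [IsLocalRing O]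
    (hdim : ringKrullDim O = 1) [IsAlgClosed (IsLocalRing.ResidueField O)] (K : Type u) [Field K]
    [Algebra O K] [IsFractionRing O K] (hfin : Module.Finite O ↥(integralClosure O K))
    (M : Type u) [AddCommGroup M] [Module O M] [Module.Finite O M] [NoZeroSMulDivisors O M]
    (n : ℕ) (hn : Module.finrank K (TensorProduct O K M) = n) :
    ∃ M' : Submodule O (Fin n → K),
      Submodule.pi Set.univ (fun _ : Fin n => (1 : Submodule O K)) ≤ M' ∧
      M' ≤ Submodule.pi Set.univ
        (fun _ : Fin n => (Subalgebra.toSubmodule (integralClosure O K))) ∧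
      Nonempty (M ≃ₗ[O] ↥M') := by
  classical
  obtain ⟨J, hJinj, hJspan⟩ := exists_coords O K M hdim hfin n hn
  haveI : Infinite (O ⧸ maximalIdeal O) :=
    (inferInstance : Infinite (IsLocalRing.ResidueField O))
  obtain ⟨ms, hms⟩ := exists_good O ↥(integralClosure O K) M n J (finite_maximal O K hfin)
    (fun 𝔫 h𝔫 => by haveI := h𝔫; exact maximalIdeal_le_comap O K 𝔫) hJspan n le_rfl
  let Rm : Matrix (Fin n) (Fin n) ↥(integralClosure O K) := fun l i => J (ms l) i
  have hdet : IsUnit Rm.det := by
    apply isUnit_of_forall_notMem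
    intro 𝔫 h𝔫 hmem
    letI : Field (↥(integralClosure O K) ⧸ 𝔫) := Ideal.Quotient.field 𝔫
    have hli := hms 𝔫 h𝔫
    have hrow : (fun l => piq ↥(integralClosure O K) n 𝔫 (J (ms l))) =
        (Rm.map (Ideal.Quotient.mk 𝔫)).row := by
      funext l i; rfl
    rw [hrow, Matrix.linearIndependent_rows_iff_isUnit, Matrix.isUnit_iff_isUnit_det] at hli
    have hd : (Rm.map (Ideal.Quotient.mk 𝔫)).det = Ideal.Quotient.mk 𝔫 Rm.det := by
      rw [← RingHom.mapMatrix_apply, ← RingHom.map_det]
    rw [hd, Ideal.Quotient.eq_zero_iff_mem.mpr hmem] at hli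
    exact not_isUnit_zero hli
  have h1 : Rm * Rm⁻¹ = 1 := Matrix.mul_nonsing_inv Rm hdet
  have h2 : Rm⁻¹ * Rm = 1 := Matrix.nonsing_inv_mul Rm hdet
  let T : (Fin n → ↥(integralClosure O K)) →ₗ[↥(integralClosure O K)]
      (Fin n → ↥(integralClosure O K)) := Matrix.vecMulLinear Rm⁻¹
  have hT : ∀ v, T v = Matrix.vecMul v Rm⁻¹ := fun v => rfl
  have hTinj : Function.Injective T := by
    intro v w h
    have := congrArg (fun u => Matrix.vecMul u Rm) h
    simp only [hT, Matrix.vecMul_vecMul, h2, Matrix.vecMul_one] at this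
    exact this
  have hTms : ∀ l, T (J (ms l)) = Pi.single l 1 := by
    intro l
    have hrow : J (ms l) = Rm l := rfl
    rw [hT, hrow, ← Matrix.mul_apply_eq_vecMul, h1]
    funext i
    rw [Matrix.one_apply, Pi.single_apply]
    by_cases hil : i = l
    · rw [if_pos hil, if_pos hil.symm]
    · rw [if_neg hil, if_neg (Ne.symm hil)]
  let coe : (Fin n → ↥(integralClosure O K)) →ₗ[O] (Fin n → K) :=
    ((integralClosure O K).val.toLinearMap).compLeft (Fin n)
  have hcoe : ∀ v i, coe v i = ((v i : ↥(integralClosure O K)) : K) := fun v i => rfl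
  have hcoeinj : Function.Injective coe := by
    intro v w h
    funext i
    exact Subtype.ext (by rw [← hcoe, ← hcoe, h])
  let Φ : M →ₗ[O] (Fin n → K) := coe ∘ₗ (T.restrictScalars O) ∘ₗ J
  have hΦ : ∀ m, Φ m = coe (T (J m)) := fun m => rfl
  have hΦinj : Function.Injective Φ := hcoeinj.comp (hTinj.comp hJinj)
  have hΦms : ∀ l, Φ (ms l) = Pi.single l 1 := by
    intro l
    rw [hΦ, hTms]
    funext i
    rw [hcoe, Pi.single_apply, Pi.single_apply]
    split_ifs <;> rfl
  refine ⟨LinearMap.range Φ, ?_, ?_, ⟨LinearEquiv.ofInjective Φ hΦinj⟩⟩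
  · intro x hx
    rw [Submodule.mem_pi] at hx
    have hex : ∀ i, ∃ c : O, algebraMap O K c = x i := fun i => by
      have := hx i (Set.mem_univ i)
      rwa [Submodule.mem_one] at this
    choose c hc using hex
    refine ⟨∑ l, c l • ms l, ?_⟩
    rw [map_sum]
    funext i
    rw [Finset.sum_apply]
    have : ∀ l, (Φ (c l • ms l)) i = if i = l then x i else 0 := by
      intro l
      rw [map_smul, hΦms, Pi.smul_apply, Pi.single_apply]
      split_ifs with h
      · rw [Algebra.smul_def, mul_one, h, hc]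
      · rw [smul_zero]
    simp_rw [this]
    rw [Finset.sum_ite_eq Finset.univ i (fun _ => x i), if_pos (Finset.mem_univ i)]
  · rintro _ ⟨m, rfl⟩
    rw [Submodule.mem_pi]
    intro i _
    rw [hΦ, hcoe]
    exact (T (J m) i).2

end Main

end Groth.Agent.Lib.R2H7.TFNormal
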