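import Mathlib
import Groth.Agent.Lib.R2H7InvolHensel

/-!
# Totally and tamely ramified extensions of complete DVRs: a uniformizer with `u^n ∈ A` (helper7)
-/

set_option autoImplicit false
universe u
open IsLocalRing Polynomial

namespace Groth.Agent.Lib.R2H7.TameUnif

/-- complete local rings are henselian local rings -/
theorem henselianLocalRing_of_isAdicComplete (A : Type*) [CommRing A] [IsLocalRing A]
    [IsAdicComplete (maximalIdeal A) A] : HenselianLocalRing A := by
  refine ⟨fun f hf a₀ h1 h2 => ?_⟩
  exact HenselianRing.is_henselian (I := maximalIdeal A) f hf a₀ h1 (h2.map _)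

/-- Eisenstein polynomial `X^r - a` for an irreducible `a`. -/
theorem irreducible_X_pow_sub_C {R : Type*} [CommRing R] [IsDomain R] [IsDiscreteValuationRing R]
    (π : R) (hπ : Irreducible π) (r : ℕ) (hr : 0 < r) :
    Irreducible (X ^ r - C π : R[X]) := by
  have hmonic : (X ^ r - C π : R[X]).Monic := monic_X_pow_sub_C π hr.ne'
  have hdeg : (X ^ r - C π : R[X]).degree = r := degree_X_pow_sub_C hr π
  have hπp : Prime π := hπ.prime
  have hprime : (Ideal.span {π}).IsPrime := (Ideal.span_singleton_prime hπ.ne_zero).mpr hπp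
  apply irreducible_of_eisenstein_criterion hprime
  · rw [hmonic.leadingCoeff]
    exact (Ideal.ne_top_iff_one _).mp hprime.ne_top
  · intro k hk
    rw [hdeg] at hk
    have hk' : k < r := by exact_mod_cast hk
    rw [coeff_sub, coeff_X_pow, if_neg hk'.ne, zero_sub, coeff_C]
    split_ifs
    · exact (Ideal.neg_mem_iff _).mpr (Ideal.mem_span_singleton_self π)
    · rw [neg_zero]
      exact Ideal.zero_mem _
  · rw [hdeg]
    exact_mod_cast hr
  · rw [coeff_sub, coeff_X_pow, if_neg hr.ne, zero_sub, coeff_C_zero, Ideal.span_singleton_pow,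
      Ideal.neg_mem_iff, Ideal.mem_span_singleton]
    rintro ⟨c, hc⟩
    have h1 : π * (1 - π * c) = 0 := by linear_combination hc
    rcases mul_eq_zero.mp h1 with h | h
    · exact hπ.ne_zero h
    · exact hπ.not_isUnit (IsUnit.of_mul_eq_one c (by linear_combination -h))
  · exact hmonic.isPrimitive

section Main

variable (A B : Type u) [CommRing A] [IsDomain A] [IsDiscreteValuationRing A]
  [CommRing B] [IsDedekindDomain B] [Algebra A B] [Module.Finite A B] [Module.IsTorsionFree A B]

omit [IsDomain A] [IsDiscreteValuationRing A] [IsDedekindDomain B] [Module.IsTorsionFree A B] in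
theorem under_eq [IsLocalRing A] (q : Ideal B) [q.IsMaximal] : q.under A = maximalIdeal A := by
  have : (q.under A).IsMaximal :=
    Ideal.isMaximal_comap_of_isIntegral_of_isMaximal (R := A) q
  exact IsLocalRing.eq_maximalIdeal this

theorem injective_algebraMap : Function.Injective (algebraMap A B) :=
  FaithfulSMul.algebraMap_injective A B

variable (M : Ideal B) [M.IsMaximal]

theorem finrank_pos' : 0 < Module.finrank A B := Module.finrank_pos

/-- total ramification forces a single prime and trivial residue extension -/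
theorem unique_and_inertia (hram : M.ramificationIdx A = Module.finrank A B) :
    (∀ q : Ideal B, q.IsMaximal → q = M) ∧ M.inertiaDeg A = 1 := by
  classical
  set p := maximalIdeal A with hp
  have : Module.Free A B := Module.free_of_finite_type_torsion_free'
  have : Module.Flat A B := inferInstance
  have : Finite (p.primesOver B) := Algebra.QuasiFinite.finite_primesOver p
  let : Fintype (p.primesOver B) := Fintype.ofFinite _
  have hsum := Ideal.sum_ramification_inertia_eq_finrank p B
  have hn := finrank_pos' A B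
  have hMp : M ∈ p.primesOver B := ⟨inferInstance, ⟨(under_eq A B M).symm⟩⟩
  let Mp : p.primesOver B := ⟨M, hMp⟩
  have hpos : ∀ q : p.primesOver B, 0 < q.1.ramificationIdx A * q.1.inertiaDeg A := by
    intro q
    have : q.1.IsPrime := q.2.1
    exact Nat.mul_pos (Ideal.ramificationIdx_pos q.1 A) (Ideal.inertiaDeg_pos q.1 A)
  have hfpos : 0 < M.inertiaDeg A := Ideal.inertiaDeg_pos M A
  rw [← Finset.add_sum_erase Finset.univ _ (Finset.mem_univ Mp)] at hsum
  have hM : Mp.1.ramificationIdx A * Mp.1.inertiaDeg A =
      Module.finrank A B * M.inertiaDeg A := by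
    show M.ramificationIdx A * M.inertiaDeg A = _
    rw [hram]
  rw [hM] at hsum
  have hle : Module.finrank A B ≤ Module.finrank A B * M.inertiaDeg A :=
    Nat.le_mul_of_pos_right _ hfpos
  have hrest : ∑ q ∈ Finset.univ.erase Mp, q.1.ramificationIdx A * q.1.inertiaDeg A = 0 := by
    omega
  have hf1 : M.inertiaDeg A = 1 := by
    rw [hrest, add_zero] at hsum
    exact Nat.eq_of_mul_eq_mul_left hn (by rw [mul_one]; exact hsum)
  refine ⟨fun q hq => ?_, hf1⟩
  by_contra hne
  have hqp : q ∈ p.primesOver B := ⟨hq.isPrime, ⟨(under_eq A B q).symm⟩⟩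
  have hmem : (⟨q, hqp⟩ : p.primesOver B) ∈ Finset.univ.erase Mp := by
    rw [Finset.mem_erase]
    refine ⟨fun h => hne (congrArg Subtype.val h), Finset.mem_univ _⟩
  have h1 := (Finset.sum_eq_zero_iff.1 hrest) ⟨q, hqp⟩ hmem
  have h2 := hpos ⟨q, hqp⟩
  omega

theorem isLocalRing (hram : M.ramificationIdx A = Module.finrank A B) : IsLocalRing B :=
  IsLocalRing.of_unique_max_ideal ⟨M, inferInstance, fun q hq => (unique_and_inertia A B M hram).1 q hq⟩

include A in
theorem map_ne_bot : (maximalIdeal A).map (algebraMap A B) ≠ ⊥ := by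
  have hp : maximalIdeal A ≠ ⊥ := by
    intro h
    exact IsDiscreteValuationRing.not_a_field A h
  exact Ideal.map_ne_bot_of_ne_bot hp

include A in
theorem M_ne_bot : M ≠ ⊥ := by
  intro h
  apply map_ne_bot A B
  rw [eq_bot_iff, ← h]
  rw [Ideal.map_le_iff_le_comap]
  exact (under_eq A B M).ge

end Main

section Final

variable (A B : Type u) [CommRing A] [IsDomain A] [IsDiscreteValuationRing A]
  [IsAdicComplete (maximalIdeal A) A]
  [CommRing B] [IsDedekindDomain B] [Algebra A B] [Module.Finite A B] [Module.IsTorsionFree A B]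
  (M : Ideal B) [M.IsMaximal]

theorem main (hram : M.ramificationIdx A = Module.finrank A B)
    (hm : IsUnit ((Module.finrank A B : ℕ) : A)) :
    ∃ u : B, u ∈ M ∧ u ∉ M ^ 2 ∧ u ^ Module.finrank A B ∈ (algebraMap A B).range ∧
      (minpoly A u).natDegree = Module.finrank A B := by
  classical
  set n := Module.finrank A B with hn
  have hnpos : 0 < n := finrank_pos' A B
  have hloc : IsLocalRing B := isLocalRing A B M hram
  have hMmax : maximalIdeal B = M := (IsLocalRing.eq_maximalIdeal (inferInstance : M.IsMaximal)).symm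
  have hnf : ¬ IsField B := by
    intro hf
    let := hf.toField
    exact M_ne_bot A B M (Ideal.eq_bot_of_prime M)
  have hdvr : IsDiscreteValuationRing B := by
    have h := (IsDiscreteValuationRing.TFAE B hnf).out 0 2
    rw [h]
    infer_instance
  have : HenselianLocalRing A := henselianLocalRing_of_isAdicComplete A
  have : Algebra.IsIntegral A B := Algebra.IsIntegral.of_finite A B
  have hhens : HenselianLocalRing B := Groth.Agent.Lib.R2H7.InvolHensel.henselian_of_isIntegral A B
  obtain ⟨ϖA, hϖA⟩ := IsDiscreteValuationRing.exists_irreducible A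
  obtain ⟨ϖB, hϖB⟩ := IsDiscreteValuationRing.exists_irreducible B
  have hinj := injective_algebraMap A B
  have hne0 : algebraMap A B ϖA ≠ 0 := by
    rw [Ne, map_eq_zero_iff _ hinj]
    exact hϖA.ne_zero
  obtain ⟨k, ε, hk⟩ := IsDiscreteValuationRing.eq_unit_mul_pow_irreducible hne0 hϖB
  have hMB : M = Ideal.span {ϖB} := by rw [← hMmax]; exact hϖB.maximalIdeal_eq
  have hpA : maximalIdeal A = Ideal.span {ϖA} := hϖA.maximalIdeal_eq
  -- the exponent is the ramification index
  have hmap : (maximalIdeal A).map (algebraMap A B) = M ^ k := by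
    rw [hpA, Ideal.map_span, Set.image_singleton, hk, hMB, Ideal.span_singleton_pow,
      Ideal.span_singleton_mul_left_unit ε.isUnit]
  have hkn : k = n := by
    have : M.LiesOver (maximalIdeal A) := ⟨(under_eq A B M).symm⟩
    have hp : maximalIdeal A ≠ ⊥ := fun h => IsDiscreteValuationRing.not_a_field A h
    have h1 := Ideal.ramificationIdx'_eq_ramificationIdx (maximalIdeal A) M hp
    rw [hram] at h1
    rw [← h1]
    symm
    apply Ideal.ramificationIdx'_spec
    · rw [hmap]
    · rw [hmap]
      intro hle
      have hlt : M ^ (k + 1) < M ^ k := Ideal.pow_succ_lt_pow (M_ne_bot A B M) k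
      exact absurd hle (not_le_of_gt hlt)
  subst hkn
  -- residue fields agree
  have hf1 := (unique_and_inertia A B M hram).2
  have : M.LiesOver (maximalIdeal A) := ⟨(under_eq A B M).symm⟩
  have hres : ∀ b : B, ∃ a : A, b - algebraMap A B a ∈ M := by
    intro b
    have h2 : (maximalIdeal A).inertiaDeg' M = 1 := by
      rw [Ideal.inertiaDeg'_eq_inertiaDeg]
      exact hf1
    rw [Ideal.inertiaDeg'_algebraMap] at h2
    letI : Field (A ⧸ maximalIdeal A) := Ideal.Quotient.field _
    have h3 := (finrank_eq_one_iff_of_nonzero' (K := A ⧸ maximalIdeal A) (1 : B ⧸ M)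
      one_ne_zero).1 (by convert h2) (Ideal.Quotient.mk M b)
    obtain ⟨c, hc⟩ := h3
    obtain ⟨a, rfl⟩ := Ideal.Quotient.mk_surjective c
    refine ⟨a, ?_⟩
    rw [← Ideal.Quotient.eq]
    rw [← hc, Algebra.smul_def, mul_one]
    rfl
  -- approximate ε by a constant
  obtain ⟨c, hc⟩ := hres (ε : B)
  have hcu : IsUnit c := by
    by_contra hcn
    have hcm : c ∈ maximalIdeal A := (IsLocalRing.mem_maximalIdeal c).2 hcn
    have : algebraMap A B c ∈ M := by
      have h := Ideal.mem_map_of_mem (algebraMap A B) hcm
      rw [hmap] at h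
      exact Ideal.pow_le_self hnpos.ne' h
    have h2 : (ε : B) ∈ M := by
      have := M.add_mem hc this
      simpa using this
    exact (inferInstance : M.IsPrime).ne_top (Ideal.eq_top_of_isUnit_mem _ h2 ε.isUnit)
  obtain ⟨c', hc'⟩ := hcu.exists_right_inv
  -- Hensel: an n-th root of ε / c
  set y : B := (ε : B) * algebraMap A B c' with hy
  have hy1 : y - 1 ∈ M := by
    have : y - 1 = ((ε : B) - algebraMap A B c) * algebraMap A B c' := by
      rw [hy, sub_mul, ← map_mul, hc', map_one]
    rw [this]
    exact M.mul_mem_right _ hc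
  have hnB : IsUnit ((n : ℕ) : B) := by
    have := hm.map (algebraMap A B)
    rwa [map_natCast] at this
  obtain ⟨w, hw, hw1⟩ := HenselianLocalRing.is_henselian (X ^ n - C y : B[X])
    (monic_X_pow_sub_C y hnpos.ne') 1 (by
      rw [hMmax]
      simp only [eval_sub, eval_pow, eval_X, one_pow, eval_C]
      have : (1 : B) - y = -(y - 1) := by ring
      rw [this]
      exact M.neg_mem hy1) (by
      simp only [derivative_sub, derivative_X_pow, derivative_C, sub_zero, eval_mul, eval_pow,
        eval_X, one_pow, mul_one, eval_natCast]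
      simpa using hnB)
  have hwn : w ^ n = y := by
    have := hw
    simp only [IsRoot.def, eval_sub, eval_pow, eval_X, eval_C] at this
    exact sub_eq_zero.1 this
  rw [hMmax] at hw1
  have hwu : IsUnit w := by
    by_contra hwn'
    have hwm : w ∈ M := by
      rw [← hMmax]
      exact (IsLocalRing.mem_maximalIdeal w).2 hwn'
    have : (1 : B) ∈ M := by
      have := M.sub_mem hwm hw1
      simpa using this
    exact (inferInstance : M.IsPrime).ne_top ((Ideal.eq_top_iff_one M).2 this)
  obtain ⟨w', hw'⟩ := hwu.exists_right_inv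
  -- the uniformizer
  refine ⟨w * ϖB, ?_, ?_, ?_, ?_⟩
  · rw [hMB]
    exact Ideal.mul_mem_left _ _ (Ideal.mem_span_singleton_self ϖB)
  · rw [hMB, Ideal.span_singleton_pow, Ideal.mem_span_singleton]
    rintro ⟨d, hd⟩
    have h1 : ϖB * (w - ϖB * d) = 0 := by linear_combination hd
    rcases mul_eq_zero.mp h1 with h | h
    · exact hϖB.ne_zero h
    · apply hϖB.not_isUnit
      have : ϖB * (d * w') = 1 := by
        have : w = ϖB * d := sub_eq_zero.1 h
        calc ϖB * (d * w') = (ϖB * d) * w' := by ring
          _ = w * w' := by rw [← this]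
          _ = 1 := hw'
      exact IsUnit.of_mul_eq_one _ this
  · refine ⟨c' * ϖA, ?_⟩
    rw [map_mul, hk, mul_pow, hwn, hy]
    ring
  · -- minimal polynomial
    have hc'u : IsUnit c' := IsUnit.of_mul_eq_one c (by rw [mul_comm]; exact hc')
    have hcπ : Irreducible (c' * ϖA) := by
      have : Associated ϖA (c' * ϖA) := ⟨hc'u.unit, by rw [mul_comm]; rfl⟩
      exact this.irreducible hϖA
    have hirr := irreducible_X_pow_sub_C (c' * ϖA) hcπ n hnpos
    have hroot : aeval (w * ϖB) (X ^ n - C (c' * ϖA) : A[X]) = 0 := by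
      simp only [map_sub, map_pow, aeval_X, aeval_C]
      rw [sub_eq_zero, map_mul, hk, mul_pow, hwn, hy]
      ring
    have hint : IsIntegral A (w * ϖB) := Algebra.IsIntegral.isIntegral _
    have hdvd := minpoly.isIntegrallyClosed_dvd hint hroot
    have hmonic : (X ^ n - C (c' * ϖA) : A[X]).Monic := monic_X_pow_sub_C _ hnpos.ne'
    rcases (hirr.dvd_iff).1 hdvd with h | h
    · exact absurd h (minpoly.not_isUnit A (w * ϖB))
    · have := eq_of_monic_of_associated hmonic (minpoly.monic hint) h
      rw [← this, natDegree_X_pow_sub_C]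

end Final

end Groth.Agent.Lib.R2H7.TameUnif
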