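import Mathlib
import Groth.Prelude.Def_W4c1hilbpnTgt
import Groth.Agent.Lib.Helper24TgtPiece
import Groth.Agent.Lib.Helper24TgtPiece2
import Groth.Agent.Lib.Helper20Monomial

/-!
# Multigraded decomposition of `T(I) = Hom(I, S/I)` for monomial ideals of finite colength

* `tPiece_eq_bot_of_nonneg`, `tPiece_eq_bot_of_neg`: pieces of constant sign vanish;
* `stdBasis`: the basis of `S/I` by standard monomials, coefficient functionals `cf`;
* `iSup_tPiece_eq_top`: `T(I)` is spanned by its multigraded pieces.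
-/

namespace Groth.Agent.Lib.R2H7.TgtDecomp

open W4c1hilbpn MvPolynomial Module Groth.Agent.Lib.Helper24TgtPiece Groth.Agent.Lib.Helper20

variable {σ : Type*} {k : Type*} [Field k]

section vanish

variable [Fintype σ] {I : Ideal (MvPolynomial σ k)}

lemma tPiece_eq_bot_of_nonneg (hI : IsMonomial I) (α : σ → ℤ) (hα : ∀ i, 0 ≤ α i) :
    tPiece I α = ⊥ := by
  rw [eq_bot_iff]
  intro φ hφ
  rw [Submodule.mem_bot]
  apply ext_monomial hI
  intro β hβ
  have hnn : ∀ i, 0 ≤ (β i : ℤ) + α i := fun i => add_nonneg (Int.natCast_nonneg _) (hα i)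
  have h1 := (hφ β hβ).1 hnn
  have hz : ∀ i, 0 ≤ (((0 : σ →₀ ℕ) i : ℕ) : ℤ) + α i := fun i => by simpa using hα i
  have hs : shift β α = shift 0 α + β := by
    have := shift_add_of_nonneg α (β := 0) β hz
    rwa [zero_add] at this
  have hmem : shift β α ∈ exps I := by
    rw [hs, add_comm]; exact exps_add hβ _
  rw [mk_monomial_eq_zero.mpr hmem] at h1
  simpa using h1

lemma exists_pow_mem (hI : IsMonomial I) [Module.Finite k (MvPolynomial σ k ⧸ I)] (i : σ) :
    ∃ M : ℕ, Finsupp.single i M ∈ exps I := by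
  by_contra h
  push Not at h
  haveI := finite_compl_exps I hI
  have hinj : Function.Injective
      (fun t : ℕ => (⟨Finsupp.single i t, h t⟩ : {β : σ →₀ ℕ // β ∉ exps I})) := by
    intro a b hab
    have := congrArg (fun x => x.1 i) hab
    simpa using this
  haveI := Finite.of_injective _ hinj
  exact not_finite ℕ

lemma good_zero_of_neg (hI : IsMonomial I) [Module.Finite k (MvPolynomial σ k ⧸ I)]
    {α : σ → ℤ} (hα : ∀ i, α i < 0) (i0 i1 : σ) (h01 : i0 ≠ i1)
    {F : (σ → ℤ) → k} (hF : Good I α F) :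
    ∀ β, β ∈ exps I → pt α β ∈ region I α → F (pt α β) = 0 := by
  classical
  obtain ⟨M, hM⟩ := exists_pow_mem hI i1
  have key : ∀ m : ℕ, ∀ β : σ →₀ ℕ, β i0 * (M + 1) + (M - β i1) = m → β ∈ exps I →
      pt α β ∈ region I α → F (pt α β) = 0 := by
    intro m
    induction m using Nat.strong_induction_on with
    | _ m ih =>
      intro β hm hβ hr
      by_cases hneg : ∃ i, pt α β i < 0
      · exact hF.neg _ hr hneg
      push Not at hneg
      have hnn : ∀ i, 0 ≤ (β i : ℤ) + α i := hneg
      have hnotmem : shift β α ∉ exps I := fun h => (mem_region_pt hβ).mp hr ⟨hnn, h⟩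
      have hβ0 : 1 ≤ β i0 := by
        have h1 := hnn i0
        have h2 := hα i0
        omega
      obtain ⟨β', hβ'def⟩ : ∃ β' : σ →₀ ℕ, β' = β - Finsupp.single i0 1 := ⟨_, rfl⟩
      have e0 : β' i0 = β i0 - 1 := by simp [hβ'def]
      have e1 : β' i1 = β i1 := by simp [hβ'def, Finsupp.single_apply, h01]
      have hββ' : β = β' + Finsupp.single i0 1 := by
        ext j
        by_cases hj : j = i0
        · subst hj
          simp only [Finsupp.add_apply, Finsupp.single_eq_same, e0]
          omega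
        · simp [hβ'def, Finsupp.single_apply, Ne.symm hj]
      by_cases hβ' : β' ∈ exps I
      · have hr' : pt α β' ∈ region I α := by
          rw [mem_region_pt hβ']
          rintro ⟨h1, h2⟩
          apply hnotmem
          rw [hββ', shift_add_of_nonneg α _ h1]
          exact exps_add h2 _
        have hadj := adj_step α β' i0
        rw [← hββ'] at hadj
        rw [← hF.adj _ _ hr' hr hadj]
        refine ih (β' i0 * (M + 1) + (M - β' i1)) ?_ β' rfl hβ' hr'
        rw [e0, e1, ← hm]
        have h3 : (β i0 - 1) * (M + 1) + (M + 1) = β i0 * (M + 1) := by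
          rw [← Nat.succ_mul]
          congr 1
          omega
        omega
      · have hβ1 : β i1 < M := by
          by_contra hge
          push Not at hge
          apply hβ'
          have h4 : β' = Finsupp.single i1 M + (β' - Finsupp.single i1 M) := by
            ext j
            by_cases hj : j = i1
            · subst hj
              simp only [Finsupp.add_apply, Finsupp.tsub_apply, Finsupp.single_eq_same, e1]
              omega
            · simp [Finsupp.single_apply, Ne.symm hj]
          rw [h4]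
          exact exps_add hM _
        have hβ'' : β + Finsupp.single i1 1 ∈ exps I := exps_add hβ _
        have hr'' : pt α (β + Finsupp.single i1 1) ∈ region I α := by
          rw [mem_region_pt hβ'']
          rintro ⟨_, h2⟩
          apply hβ'
          rw [shift_add_of_nonneg α _ hnn] at h2
          have h5 : β' = (shift β α + Finsupp.single i1 1) +
              (β' - (shift β α + Finsupp.single i1 1)) := by
            ext j
            have h6 := hnn j
            have h7 := hα j
            by_cases hj0 : j = i0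
            · subst hj0
              have hs1 : (Finsupp.single i1 1 : σ →₀ ℕ) j = 0 := by
                simp [Finsupp.single_apply, h01.symm]
              simp only [Finsupp.add_apply, Finsupp.tsub_apply, shift_apply, e0, hs1]
              omega
            · have hβ'j : β' j = β j := by
                simp [hβ'def, Finsupp.single_apply, Ne.symm hj0]
              by_cases hj1 : j = i1
              · subst hj1
                simp only [Finsupp.add_apply, Finsupp.tsub_apply, shift_apply,
                  Finsupp.single_eq_same, hβ'j]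
                omega
              · have hs1 : (Finsupp.single i1 1 : σ →₀ ℕ) j = 0 := by
                  simp [Finsupp.single_apply, Ne.symm hj1]
                simp only [Finsupp.add_apply, Finsupp.tsub_apply, shift_apply, hβ'j, hs1]
                omega
          rw [h5]
          exact exps_add h2 _
        have hadj := adj_step α β i1
        rw [hF.adj _ _ hr hr'' hadj]
        refine ih _ ?_ (β + Finsupp.single i1 1) rfl hβ'' hr''
        have e0' : (β + Finsupp.single i1 1 : σ →₀ ℕ) i0 = β i0 := by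
          simp [Finsupp.single_apply, h01.symm]
        have e1' : (β + Finsupp.single i1 1 : σ →₀ ℕ) i1 = β i1 + 1 := by simp
        rw [e0', e1', ← hm]
        omega
  intro β hβ hr
  exact key _ β rfl hβ hr

lemma tPiece_eq_bot_of_neg (hI : IsMonomial I) [Module.Finite k (MvPolynomial σ k ⧸ I)]
    (α : σ → ℤ) (hα : ∀ i, α i < 0) (i0 i1 : σ) (h01 : i0 ≠ i1) : tPiece I α = ⊥ := by
  rw [eq_bot_iff]
  intro φ hφ
  rw [Submodule.mem_bot]
  obtain ⟨F, hF, hFφ⟩ := exists_good_of_mem hφ
  apply ext_monomial hI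
  intro β hβ
  rw [hFφ β hβ, LinearMap.zero_apply]
  unfold gF
  by_cases hr : pt α β ∈ region I α
  · rw [good_zero_of_neg hI hα i0 i1 h01 hF β hβ hr, zero_smul]
  · rw [mem_region_pt hβ, not_not] at hr
    rw [mk_monomial_eq_zero.mpr hr.2, smul_zero]

end vanish

section basis

variable (I : Ideal (MvPolynomial σ k)) (hI : IsMonomial I)

lemma span_std : ⊤ ≤ Submodule.span k (Set.range
    (fun β : {β : σ →₀ ℕ // β ∉ exps I} => Ideal.Quotient.mk I (monomial β.1 (1 : k)))) := by
  have key : ∀ p : MvPolynomial σ k, Ideal.Quotient.mk I p ∈ Submodule.span k (Set.range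
      (fun β : {β : σ →₀ ℕ // β ∉ exps I} => Ideal.Quotient.mk I (monomial β.1 (1 : k)))) := by
    intro p
    induction p using MvPolynomial.induction_on' with
    | monomial β a =>
      rw [mk_monomial_smul]
      apply Submodule.smul_mem
      by_cases h : β ∈ exps I
      · rw [mk_monomial_eq_zero.mpr h]; exact Submodule.zero_mem _
      · exact Submodule.subset_span ⟨⟨β, h⟩, rfl⟩
    | add p q hp hq => rw [map_add]; exact Submodule.add_mem _ hp hq
  intro q _
  obtain ⟨p, rfl⟩ := Ideal.Quotient.mk_surjective q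
  exact key p

/-- The basis of `S/I` by standard monomials. -/
noncomputable def stdBasis : Basis {β : σ →₀ ℕ // β ∉ exps I} k (MvPolynomial σ k ⧸ I) :=
  Basis.mk (linearIndependent_monomial_compl_exps I hI) (span_std I)

lemma stdBasis_apply (j : {β : σ →₀ ℕ // β ∉ exps I}) :
    stdBasis I hI j = Ideal.Quotient.mk I (monomial j.1 (1 : k)) := by
  simp [stdBasis]

open Classical in
/-- The coefficient of the standard monomial `x^γ` (zero when `x^γ ∈ I`). -/
noncomputable def cf (γ : σ →₀ ℕ) : (MvPolynomial σ k ⧸ I) →ₗ[k] k :=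
  if h : γ ∉ exps I then (stdBasis I hI).coord ⟨γ, h⟩ else 0

lemma cf_of_mem {γ : σ →₀ ℕ} (h : γ ∈ exps I) : cf I hI γ = 0 := by
  unfold cf
  rw [dif_neg (not_not.mpr h)]

lemma cf_of_notMem {γ : σ →₀ ℕ} (h : γ ∉ exps I) : cf I hI γ = (stdBasis I hI).coord ⟨γ, h⟩ := by
  unfold cf
  rw [dif_pos h]

open Classical in
lemma cf_mk_monomial (γ1 γ2 : σ →₀ ℕ) :
    cf I hI γ2 (Ideal.Quotient.mk I (monomial γ1 (1 : k))) =
      if γ1 = γ2 ∧ γ2 ∉ exps I then 1 else 0 := by
  classical
  by_cases h2 : γ2 ∈ exps I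
  · rw [cf_of_mem I hI h2, LinearMap.zero_apply, if_neg (fun h => h.2 h2)]
  · rw [cf_of_notMem I hI h2]
    by_cases h1 : γ1 ∈ exps I
    · rw [mk_monomial_eq_zero.mpr h1, map_zero]
      have : ¬ (γ1 = γ2 ∧ γ2 ∉ exps I) := by
        rintro ⟨rfl, _⟩; exact h2 h1
      rw [if_neg this]
    · rw [← stdBasis_apply I hI ⟨γ1, h1⟩, Basis.coord_apply, Basis.repr_self,
        Finsupp.single_apply]
      by_cases e : γ1 = γ2
      · subst e
        rw [if_pos rfl, if_pos ⟨rfl, h2⟩]
      · have hne : (⟨γ1, h1⟩ : {β : σ →₀ ℕ // β ∉ exps I}) ≠ ⟨γ2, h2⟩ :=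
          fun h => e (congrArg Subtype.val h)
        rw [if_neg hne, if_neg (fun h => e h.1)]

lemma sub_single_notMem {γ2 : σ →₀ ℕ} (h2 : γ2 ∉ exps I) (i : σ) :
    γ2 - Finsupp.single i 1 ∉ exps I := by
  classical
  intro hmem
  apply h2
  by_cases hpos : 0 < γ2 i
  · have h3 : γ2 = (γ2 - Finsupp.single i 1) + Finsupp.single i 1 := by
      ext l
      by_cases hl : l = i
      · subst hl
        simp only [Finsupp.add_apply, Finsupp.tsub_apply, Finsupp.single_eq_same]
        omega
      · simp [Finsupp.single_apply, Ne.symm hl]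
    rw [h3]
    exact exps_add hmem _
  · have h3 : γ2 - Finsupp.single i 1 = γ2 := by
      ext l
      by_cases hl : l = i
      · subst hl
        simp only [Finsupp.tsub_apply, Finsupp.single_eq_same]
        omega
      · simp [Finsupp.single_apply, Ne.symm hl]
    rwa [h3] at hmem

lemma cf_X_mul {γ2 : σ →₀ ℕ} (h2 : γ2 ∉ exps I) (i : σ) (q : MvPolynomial σ k ⧸ I) :
    cf I hI γ2 (Ideal.Quotient.mk I (monomial (Finsupp.single i 1) 1) * q) =
      if 0 < γ2 i then cf I hI (γ2 - Finsupp.single i 1) q else 0 := by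
  classical
  have hsub := sub_single_notMem I h2 i
  by_cases hpos : 0 < γ2 i
  · rw [if_pos hpos]
    have hL : (cf I hI γ2).comp
        (LinearMap.mulLeft k (Ideal.Quotient.mk I (monomial (Finsupp.single i 1) (1 : k)))) =
        cf I hI (γ2 - Finsupp.single i 1) := by
      apply (stdBasis I hI).ext
      intro j
      rw [LinearMap.comp_apply, LinearMap.mulLeft_apply, stdBasis_apply, ← map_mul,
        monomial_mul, one_mul, cf_mk_monomial, cf_mk_monomial]
      have hiff : (Finsupp.single i 1 + j.1 = γ2 ∧ γ2 ∉ exps I) ↔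
          (j.1 = γ2 - Finsupp.single i 1 ∧ γ2 - Finsupp.single i 1 ∉ exps I) := by
        constructor
        · rintro ⟨h, _⟩
          refine ⟨?_, hsub⟩
          rw [← h]
          exact (add_tsub_cancel_left _ _).symm
        · rintro ⟨h, _⟩
          refine ⟨?_, h2⟩
          rw [h]
          ext l
          by_cases hl : l = i
          · subst hl
            simp only [Finsupp.add_apply, Finsupp.tsub_apply, Finsupp.single_eq_same]
            omega
          · simp [Finsupp.single_apply, Ne.symm hl]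
      by_cases hc : Finsupp.single i 1 + j.1 = γ2 ∧ γ2 ∉ exps I
      · rw [if_pos hc, if_pos (hiff.mp hc)]
      · rw [if_neg hc, if_neg (fun h => hc (hiff.mpr h))]
    have := congrArg (fun L => L q) hL
    simpa using this
  · rw [if_neg hpos]
    have hL : (cf I hI γ2).comp
        (LinearMap.mulLeft k (Ideal.Quotient.mk I (monomial (Finsupp.single i 1) (1 : k)))) =
        0 := by
      apply (stdBasis I hI).ext
      intro j
      rw [LinearMap.comp_apply, LinearMap.mulLeft_apply, stdBasis_apply, ← map_mul,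
        monomial_mul, one_mul, cf_mk_monomial, LinearMap.zero_apply]
      have hc : ¬ (Finsupp.single i 1 + j.1 = γ2 ∧ γ2 ∉ exps I) := by
        rintro ⟨h, _⟩
        apply hpos
        rw [← h]
        simp
      rw [if_neg hc]
    have := congrArg (fun L => L q) hL
    simpa using this

end basis

section decomp

variable [Fintype σ] {I : Ideal (MvPolynomial σ k)} (hI : IsMonomial I) (φ : Tgt I)

open Classical in
/-- The value of `φ` on the monomial `x^β` (zero if `x^β ∉ I`). -/
noncomputable def phi' (β : σ →₀ ℕ) : MvPolynomial σ k ⧸ I :=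
  if h : monomial β (1 : k) ∈ I then φ ⟨monomial β 1, h⟩ else 0

lemma phi'_of_mem (β : σ →₀ ℕ) (hβ : monomial β (1 : k) ∈ I) :
    phi' φ β = φ ⟨monomial β 1, hβ⟩ := dif_pos hβ

lemma phi'_add (β : σ →₀ ℕ) (hβ : β ∈ exps I) (i : σ) :
    phi' φ (β + Finsupp.single i 1) =
      Ideal.Quotient.mk I (monomial (Finsupp.single i 1) 1) * phi' φ β := by
  rw [phi'_of_mem φ _ (exps_add hβ _), phi'_of_mem φ _ hβ]
  exact map_monomial_add φ hβ _ _

open Classical in
/-- The coefficient of `x^(β+α)` in `φ(x^β)`. -/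
noncomputable def G (α : σ → ℤ) (β : σ →₀ ℕ) : k :=
  if (∀ i, 0 ≤ (β i : ℤ) + α i) then cf I hI (shift β α) (phi' φ β) else 0

/-- The function on integer vectors attached to the degree-`α` component of `φ`. -/
noncomputable def Fα (α : σ → ℤ) : (σ → ℤ) → k := fun γ => G hI φ α (bOf α γ)

lemma G_step (α : σ → ℤ) (β : σ →₀ ℕ) (hβ : β ∈ exps I) (i : σ)
    (hr' : pt α (β + Finsupp.single i 1) ∈ region I α) :
    G hI φ α β = G hI φ α (β + Finsupp.single i 1) := by
  classical
  have hβ' : β + Finsupp.single i 1 ∈ exps I := exps_add hβ _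
  unfold G
  by_cases hnn' : ∀ j, 0 ≤ (((β + Finsupp.single i 1 : σ →₀ ℕ) j : ℕ) : ℤ) + α j
  · rw [if_pos hnn']
    have hγ2 : shift (β + Finsupp.single i 1) α ∉ exps I :=
      fun h => (mem_region_pt hβ').mp hr' ⟨hnn', h⟩
    rw [phi'_add φ β hβ i, cf_X_mul I hI hγ2]
    by_cases hnn : ∀ j, 0 ≤ (β j : ℤ) + α j
    · rw [if_pos hnn]
      have hs : shift (β + Finsupp.single i 1) α = shift β α + Finsupp.single i 1 :=
        shift_add_of_nonneg α _ hnn
      have hpos : 0 < shift (β + Finsupp.single i 1) α i := by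
        rw [hs]; simp
      rw [if_pos hpos, hs]
      have h3 : shift β α + Finsupp.single i 1 - Finsupp.single i 1 = shift β α :=
        add_tsub_cancel_right _ _
      rw [h3]
    · rw [if_neg hnn]
      push Not at hnn
      obtain ⟨j, hj⟩ := hnn
      have hji : j = i := by
        by_contra hne
        have h4 := hnn' j
        simp only [Finsupp.add_apply, Finsupp.single_apply, if_neg (Ne.symm hne), add_zero] at h4
        omega
      subst hji
      have hz : ¬ 0 < shift (β + Finsupp.single j 1) α j := by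
        rw [shift_apply]
        have h4 := hnn' j
        simp only [Finsupp.add_apply, Finsupp.single_eq_same, Nat.cast_add, Nat.cast_one] at h4 ⊢
        omega
      rw [if_neg hz]
  · rw [if_neg hnn']
    have hnn : ¬ ∀ j, 0 ≤ (β j : ℤ) + α j := by
      intro h
      apply hnn'
      intro j
      have h4 := h j
      simp only [Finsupp.add_apply, Nat.cast_add]
      omega
    rw [if_neg hnn]

lemma good_Fα (α : σ → ℤ) : Good I α (Fα hI φ α) := by
  refine ⟨?_, ?_⟩
  · rintro γ γ' ⟨⟨β, hβ, rfl⟩, hn⟩ ⟨⟨β', hβ', rfl⟩, hn'⟩ hadj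
    have hr : pt α β ∈ region I α := ⟨⟨β, hβ, rfl⟩, hn⟩
    have hr' : pt α β' ∈ region I α := ⟨⟨β', hβ', rfl⟩, hn'⟩
    show G hI φ α (bOf α (pt α β)) = G hI φ α (bOf α (pt α β'))
    rw [bOf_pt, bOf_pt]
    obtain ⟨i, hi | hi⟩ := adj_pt_cases α hadj
    · subst hi
      exact G_step hI φ α β hβ i hr'
    · subst hi
      exact (G_step hI φ α β' hβ' i hr).symm
  · rintro γ ⟨⟨β, hβ, rfl⟩, hn⟩ ⟨i, hi⟩
    show G hI φ α (bOf α (pt α β)) = 0
    rw [bOf_pt]
    unfold G
    rw [if_neg]
    intro h
    exact absurd (h i) (not_le.mpr hi)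

lemma sum_G [Module.Finite k (MvPolynomial σ k ⧸ I)] (β : σ →₀ ℕ) (A : Finset (σ → ℤ))
    (hA : ∀ j : {γ : σ →₀ ℕ // γ ∉ exps I}, (fun i => (j.1 i : ℤ) - β i) ∈ A) :
    ∑ α ∈ A, G hI φ α β • Ideal.Quotient.mk I (monomial (shift β α) (1 : k)) = phi' φ β := by
  classical
  haveI : Finite {γ : σ →₀ ℕ // γ ∉ exps I} := finite_compl_exps I hI
  letI := Fintype.ofFinite {γ : σ →₀ ℕ // γ ∉ exps I}
  obtain ⟨a, ha⟩ : ∃ a : {γ : σ →₀ ℕ // γ ∉ exps I} → (σ → ℤ),
      a = fun j i => (j.1 i : ℤ) - β i := ⟨_, rfl⟩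
  have ha_inj : Function.Injective a := by
    intro j j' h
    apply Subtype.ext
    ext i
    have h5 := congrFun h i
    simp only [ha] at h5
    omega
  have hpt : ∀ j, ∀ i, (β i : ℤ) + a j i = j.1 i := fun j i => by simp [ha]
  have hshift : ∀ j, shift β (a j) = j.1 := by
    intro j
    ext i
    rw [shift_apply, hpt]
    simp
  have hsub : Finset.univ.image a ⊆ A := by
    intro α hα
    obtain ⟨j, _, rfl⟩ := Finset.mem_image.mp hα
    rw [ha]
    exact hA j
  rw [← Finset.sum_subset hsub]
  · rw [Finset.sum_image (fun j _ j' _ h => ha_inj h)]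
    conv_rhs => rw [← (stdBasis I hI).sum_repr (phi' φ β)]
    apply Finset.sum_congr rfl
    intro j _
    rw [hshift, stdBasis_apply]
    congr 1
    unfold G
    rw [if_pos (fun i => by rw [hpt]; exact Int.natCast_nonneg _), hshift, cf_of_notMem I hI j.2]
    rfl
  · intro α _ hα
    unfold G
    by_cases hnn : ∀ i, 0 ≤ (β i : ℤ) + α i
    · rw [if_pos hnn]
      by_cases hmem : shift β α ∈ exps I
      · rw [mk_monomial_eq_zero.mpr hmem, smul_zero]
      · exfalso
        apply hα
        refine Finset.mem_image.mpr ⟨⟨shift β α, hmem⟩, Finset.mem_univ _, ?_⟩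
        funext i
        simp only [ha, shift_apply]
        have h6 := hnn i
        omega
    · rw [if_neg hnn, zero_smul]

omit [Fintype σ] in
lemma exists_finset_gens [Finite σ] (hI : IsMonomial I) : ∃ G0 : Finset (σ →₀ ℕ),
    (∀ β ∈ G0, β ∈ exps I) ∧
      I = Ideal.span ((fun β => monomial β (1 : k)) '' (G0 : Set (σ →₀ ℕ))) := by
  classical
  obtain ⟨s, hs⟩ := (isNoetherianRing_iff_ideal_fg (MvPolynomial σ k)).mp inferInstance I
  have hmem : ∀ p ∈ s, ∀ β ∈ p.support, β ∈ exps I := by
    intro p hp β hβ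
    have hpI : p ∈ I := by
      rw [← hs]; exact Ideal.subset_span hp
    exact hI p hpI β hβ
  refine ⟨s.biUnion (fun p => p.support), ?_, ?_⟩
  · intro β hβ
    obtain ⟨p, hp, hβp⟩ := Finset.mem_biUnion.mp hβ
    exact hmem p hp β hβp
  · apply le_antisymm
    · rw [← hs, Ideal.span_le]
      intro p hp
      rw [SetLike.mem_coe, ← MvPolynomial.support_sum_monomial_coeff p]
      apply Ideal.sum_mem
      intro β hβ
      have h7 : monomial β (coeff β p) = C (coeff β p) * monomial β (1 : k) := by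
        rw [C_mul_monomial, mul_one]
      rw [h7]
      apply Ideal.mul_mem_left
      apply Ideal.subset_span
      exact ⟨β, Finset.mem_coe.mpr (Finset.mem_biUnion.mpr ⟨p, hp, hβ⟩), rfl⟩
    · rw [Ideal.span_le]
      rintro _ ⟨β, hβ, rfl⟩
      obtain ⟨p, hp, hβp⟩ := Finset.mem_biUnion.mp (Finset.mem_coe.mp hβ)
      exact hmem p hp β hβp

omit [Fintype σ] in
lemma ext_gens {M : Type*} [AddCommGroup M] [Module (MvPolynomial σ k) M]
    (G0 : Finset (σ →₀ ℕ)) (hG : ∀ β ∈ G0, β ∈ exps I)
    (hspan : I = Ideal.span ((fun β => monomial β (1 : k)) '' (G0 : Set (σ →₀ ℕ))))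
    (φ ψ : ↥I →ₗ[MvPolynomial σ k] M)
    (h : ∀ β (hβ : β ∈ G0), φ ⟨monomial β 1, hG β hβ⟩ = ψ ⟨monomial β 1, hG β hβ⟩) : φ = ψ := by
  have key : ∀ p (_ : p ∈ Ideal.span ((fun β => monomial β (1 : k)) '' (G0 : Set (σ →₀ ℕ)))),
      ∀ hp' : p ∈ I, φ ⟨p, hp'⟩ = ψ ⟨p, hp'⟩ := by
    intro p hp
    induction hp using Submodule.span_induction with
    | mem x hx =>
      obtain ⟨β, hβ, rfl⟩ := hx
      intro hp'
      exact h β (Finset.mem_coe.mp hβ)
    | zero =>
      intro hp'
      have h8 : (⟨0, hp'⟩ : ↥I) = 0 := rfl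
      rw [h8, map_zero, map_zero]
    | add x y hx' hy' hx hy =>
      intro hp'
      have hxI : x ∈ I := by rw [hspan]; exact hx'
      have hyI : y ∈ I := by rw [hspan]; exact hy'
      have h8 : (⟨x + y, hp'⟩ : ↥I) = ⟨x, hxI⟩ + ⟨y, hyI⟩ := rfl
      rw [h8, map_add, map_add, hx hxI, hy hyI]
    | smul r x hx' hx =>
      intro hp'
      have hxI : x ∈ I := by rw [hspan]; exact hx'
      have h8 : (⟨r • x, hp'⟩ : ↥I) = r • ⟨x, hxI⟩ := rfl
      rw [h8, map_smul, map_smul, hx hxI]
  ext ⟨p, hp⟩
  have hp2 : p ∈ Ideal.span ((fun β => monomial β (1 : k)) '' (G0 : Set (σ →₀ ℕ))) := by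
    rw [← hspan]; exact hp
  exact key p hp2 hp

/-- `T(I)` is spanned by its multigraded pieces. -/
theorem iSup_tPiece_eq_top [Module.Finite k (MvPolynomial σ k ⧸ I)] (hI : IsMonomial I) :
    (⨆ α : σ → ℤ, tPiece I α) = ⊤ := by
  classical
  rw [eq_top_iff]
  intro φ _
  obtain ⟨G0, hG0, hspan⟩ := exists_finset_gens hI
  haveI : Finite {γ : σ →₀ ℕ // γ ∉ exps I} := finite_compl_exps I hI
  letI := Fintype.ofFinite {γ : σ →₀ ℕ // γ ∉ exps I}
  obtain ⟨A, hAdef⟩ : ∃ A : Finset (σ → ℤ), A = G0.biUnion (fun β => Finset.univ.image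
      (fun j : {γ : σ →₀ ℕ // γ ∉ exps I} => fun i => (j.1 i : ℤ) - β i)) := ⟨_, rfl⟩
  have hφ : φ = ∑ α ∈ A, mkTgt hI (Fα hI φ α) (good_Fα hI φ α) := by
    apply ext_gens G0 hG0 hspan
    intro β hβ
    rw [LinearMap.sum_apply]
    have h9 : ∀ α ∈ A, mkTgt hI (Fα hI φ α) (good_Fα hI φ α) ⟨monomial β 1, hG0 β hβ⟩ =
        G hI φ α β • Ideal.Quotient.mk I (monomial (shift β α) (1 : k)) := by
      intro α _
      have h10 := mkTgt_apply hI (Fα hI φ α) (good_Fα hI φ α) β (hG0 β hβ)
      refine h10.trans ?_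
      unfold gF Fα
      rw [bOf_pt]
    have hAj : ∀ j : {γ : σ →₀ ℕ // γ ∉ exps I}, (fun i => (j.1 i : ℤ) - β i) ∈ A := by
      intro j
      rw [hAdef]
      exact Finset.mem_biUnion.mpr ⟨β, hβ, Finset.mem_image.mpr ⟨j, Finset.mem_univ _, rfl⟩⟩
    rw [Finset.sum_congr rfl h9, sum_G hI φ β A hAj, phi'_of_mem φ β (hG0 β hβ)]
  rw [hφ]
  apply Submodule.sum_mem
  intro α _
  exact Submodule.mem_iSup_of_mem α (mkTgt_mem hI _ _)

end decomp

end Groth.Agent.Lib.R2H7.TgtDecomp
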