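import Mathlib
import Groth.Prelude.Def_W4c1hilbpnTgt
import Groth.Agent.Lib.Helper24TgtPiece
import Groth.Agent.Lib.Helper24TgtPiece2
import Groth.Agent.Lib.Helper20Monomial
import Groth.Agent.Lib.R2H7TgtDecomp

/-!
# Graded pieces of `T(m^r) = Hom(m^r, S/m^r)` for the irrelevant ideal `m`

`finrank_tPiece_pow`: the piece of multidegree `α` has dimension `C(n + r - w - 1, n - 1)` when
`∑ α = -1` and `w = ∑ (-α_i)⁺ ≤ r`, and vanishes otherwise.
-/

namespace Groth.Agent.Lib.R2H7.TgtPowVars

open W4c1hilbpn MvPolynomial Module Groth.Agent.Lib.Helper24TgtPiece Groth.Agent.Lib.Helper20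
  Groth.Agent.Lib.R2H7.TgtDecomp

variable {σ : Type*} {k : Type*} [Field k]

lemma mem_exps_pow (r : ℕ) (β : σ →₀ ℕ) :
    β ∈ exps (idealOfVars σ k ^ r) ↔ r ≤ β.degree := by
  classical
  show monomial β (1 : k) ∈ idealOfVars σ k ^ r ↔ _
  rw [mem_pow_idealOfVars_iff]
  constructor
  · intro h
    apply h
    rw [MvPolynomial.mem_support_iff, coeff_monomial, if_pos rfl]
    exact one_ne_zero
  · intro h x hx
    have hxb : x = β := by
      by_contra hne
      rw [MvPolynomial.mem_support_iff, coeff_monomial, if_neg (Ne.symm hne)] at hx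
      exact hx rfl
    rw [hxb]
    exact h

lemma isMonomial_pow (r : ℕ) : IsMonomial (idealOfVars σ k ^ r) := by
  intro p hp β hβ
  rw [mem_pow_idealOfVars_iff] at hp
  exact (mem_exps_pow r β).mpr (hp β hβ)

lemma finite_quot_pow [Finite σ] (r : ℕ) :
    Module.Finite k (MvPolynomial σ k ⧸ idealOfVars σ k ^ r) := by
  have hfin : Finite {β : σ →₀ ℕ // β ∉ exps (idealOfVars σ k ^ r)} := by
    have h := Finsupp.finite_of_degree_lt (σ := σ) r
    have h2 : {β : σ →₀ ℕ | β ∉ exps (idealOfVars σ k ^ r)}.Finite := by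
      refine h.subset ?_
      intro β hβ
      rw [Set.mem_setOf_eq, mem_exps_pow] at hβ
      exact not_le.mp hβ
    exact h2.to_subtype
  refine ⟨?_⟩
  rw [← top_le_iff.mp (span_std (idealOfVars σ k ^ r))]
  exact Submodule.fg_span (Set.finite_range _)

section comb

variable [Fintype σ] {I : Ideal (MvPolynomial σ k)} {r : ℕ}
  (hE : ∀ β : σ →₀ ℕ, β ∈ exps I ↔ r ≤ β.degree) {α : σ → ℤ}

omit [Fintype σ] in
lemma exists_pt' [Fintype σ] (v : ↥(region I α)) :
    ∃ β, ∃ (_ : β ∈ exps I) (hr : pt α β ∈ region I α), v = ⟨pt α β, hr⟩ := by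
  obtain ⟨⟨β, hβ, hvβ⟩, _⟩ := v.2
  have hr : pt α β ∈ region I α := by
    have h1 : pt α β = v.1 := hvβ.symm
    rw [h1]
    exact v.2
  exact ⟨β, hβ, hr, Subtype.ext hvβ⟩

lemma degree_shift (α : σ → ℤ) (β : σ →₀ ℕ) (h : ∀ i, 0 ≤ (β i : ℤ) + α i) :
    ((shift β α).degree : ℤ) = (β.degree : ℤ) + ∑ i, α i := by
  rw [Finsupp.degree_eq_sum, Finsupp.degree_eq_sum]
  push_cast
  rw [← Finset.sum_add_distrib]
  apply Finset.sum_congr rfl
  intro i _
  rw [shift_apply]
  have := h i
  omega

include hE in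
lemma exists_neg_of_sum_nonneg (hs : 0 ≤ ∑ i, α i) (v : ↥(region I α)) : ∃ i, v.1 i < 0 := by
  obtain ⟨β, hβ, hr, rfl⟩ := exists_pt' v
  by_contra hneg
  push Not at hneg
  have hnn : ∀ i, 0 ≤ (β i : ℤ) + α i := hneg
  apply (mem_region_pt hβ).mp hr
  refine ⟨hnn, (hE _).mpr ?_⟩
  have h1 := degree_shift α β hnn
  have h2 := (hE β).mp hβ
  omega

include hE in
lemma degree_eq_of_nonneg (hs : ∑ i, α i = -1) {β : σ →₀ ℕ} (hβ : β ∈ exps I)
    (hr : pt α β ∈ region I α) (hnn : ∀ i, 0 ≤ (β i : ℤ) + α i) : β.degree = r := by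
  have hnot : ¬ r ≤ (shift β α).degree :=
    fun h => (mem_region_pt hβ).mp hr ⟨hnn, (hE _).mpr h⟩
  have h1 := degree_shift α β hnn
  have h2 := (hE β).mp hβ
  omega

include hE in
lemma no_adj_of_nonneg (hs : ∑ i, α i = -1) {β : σ →₀ ℕ} (hβ : β ∈ exps I)
    (hr : pt α β ∈ region I α) (hnn : ∀ i, 0 ≤ (β i : ℤ) + α i) (u : ↥(region I α)) :
    ¬ (RG I α).Adj ⟨pt α β, hr⟩ u := by
  intro hadj
  obtain ⟨β', hβ', hr', rfl⟩ := exists_pt' u
  rw [SimpleGraph.induce_adj] at hadj
  have hadj' : (stepGraph σ).Adj (pt α β) (pt α β') := hadj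
  have hdeg := degree_eq_of_nonneg hE hs hβ hr hnn
  have h1 := degree_shift α β hnn
  obtain ⟨i, hi | hi⟩ := adj_pt_cases α hadj'
  · subst hi
    apply (mem_region_pt hβ').mp hr'
    refine ⟨fun l => ?_, ?_⟩
    · have := hnn l
      simp only [Finsupp.add_apply, Nat.cast_add]
      omega
    · rw [shift_add_of_nonneg α _ hnn, hE, map_add, Finsupp.degree_single]
      omega
  · have h2 := (hE β').mp hβ'
    rw [hi, map_add, Finsupp.degree_single] at hdeg
    omega

include hE in
lemma supp_eq_singleton (hs : ∑ i, α i = -1) {β : σ →₀ ℕ} (hβ : β ∈ exps I)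
    (hr : pt α β ∈ region I α) (hnn : ∀ i, 0 ≤ (β i : ℤ) + α i) :
    ((RG I α).connectedComponentMk ⟨pt α β, hr⟩).supp = {⟨pt α β, hr⟩} := by
  ext u
  rw [SimpleGraph.ConnectedComponent.mem_supp_iff, SimpleGraph.ConnectedComponent.eq,
    Set.mem_singleton_iff]
  constructor
  · intro h
    obtain ⟨p⟩ := h.symm
    cases p with
    | nil => rfl
    | cons hadj _ => exact absurd hadj (no_adj_of_nonneg hE hs hβ hr hnn _)
  · rintro rfl
    exact SimpleGraph.Reachable.refl _

include hE in
lemma infinite_comp_of_sum_le [Nontrivial σ] (hs : ∑ i, α i ≤ -2) (v : ↥(region I α)) :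
    ((RG I α).connectedComponentMk v).supp.Infinite := by
  classical
  obtain ⟨i, hi⟩ : ∃ i, α i < 0 := by
    by_contra h
    push Not at h
    have := Finset.sum_nonneg (fun i _ => h i) (s := Finset.univ)
    omega
  obtain ⟨j, hj⟩ := exists_ne i
  have key : ∀ m : ℕ, ∀ β (hβ : β ∈ exps I) (hr : pt α β ∈ region I α),
      ((β i : ℤ) + α i + 1).toNat = m →
      ((RG I α).connectedComponentMk ⟨pt α β, hr⟩).supp.Infinite := by
    intro m
    induction m with
    | zero =>
      intro β hβ hr hm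
      apply infinite_supp_of_neg
      refine ⟨i, ?_⟩
      show (β i : ℤ) + α i < 0
      omega
    | succ m ih =>
      intro β hβ hr hm
      by_cases hneg : ∃ l, pt α β l < 0
      · exact infinite_supp_of_neg _ hneg
      push Not at hneg
      have hnn : ∀ l, 0 ≤ (β l : ℤ) + α l := hneg
      have hd1 := (hE β).mp hβ
      have hnot : ¬ r ≤ (shift β α).degree :=
        fun h => (mem_region_pt hβ).mp hr ⟨hnn, (hE _).mpr h⟩
      have hds := degree_shift α β hnn
      have hβi : 1 ≤ β i := by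
        have := hnn i
        omega
      have step : ∀ β1 (hβ1 : β1 ∈ exps I) (hr1 : pt α β1 ∈ region I α),
          (∀ l, 0 ≤ (β1 l : ℤ) + α l) → r + 1 ≤ β1.degree → β1 i = β i →
          ((RG I α).connectedComponentMk ⟨pt α β1, hr1⟩).supp.Infinite := by
        intro β1 hβ1 hr1 hnn1 hdeg1 hi1
        obtain ⟨β2, hβ2def⟩ : ∃ β2 : σ →₀ ℕ, β2 = β1 - Finsupp.single i 1 := ⟨_, rfl⟩
        have e2 : β2 i = β1 i - 1 := by simp [hβ2def]
        have h12 : β1 = β2 + Finsupp.single i 1 := by
          ext l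
          by_cases hl : l = i
          · subst hl
            simp only [Finsupp.add_apply, Finsupp.single_eq_same, e2]
            omega
          · simp [hβ2def, Finsupp.single_apply, Ne.symm hl]
        have hdeg2 : β2.degree + 1 = β1.degree := by
          rw [h12, map_add, Finsupp.degree_single]
        have hβ2 : β2 ∈ exps I := (hE _).mpr (by omega)
        have hnot1 : ¬ r ≤ (shift β1 α).degree :=
          fun h => (mem_region_pt hβ1).mp hr1 ⟨hnn1, (hE _).mpr h⟩
        have hds1 := degree_shift α β1 hnn1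
        have hr2 : pt α β2 ∈ region I α := by
          rw [mem_region_pt hβ2]
          rintro ⟨h1, h2⟩
          have hds2 := degree_shift α β2 h1
          have h3 := (hE _).mp h2
          omega
        have hadj : (RG I α).Adj ⟨pt α β2, hr2⟩ ⟨pt α β1, hr1⟩ := by
          rw [SimpleGraph.induce_adj]
          show (stepGraph σ).Adj (pt α β2) (pt α β1)
          rw [h12]
          exact adj_step α β2 i
        have hcomp : (RG I α).connectedComponentMk ⟨pt α β1, hr1⟩ =
            (RG I α).connectedComponentMk ⟨pt α β2, hr2⟩ :=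
          SimpleGraph.ConnectedComponent.eq.mpr hadj.symm.reachable
        rw [hcomp]
        apply ih β2 hβ2 hr2
        omega
      by_cases hdeg : r + 1 ≤ β.degree
      · exact step β hβ hr hnn hdeg rfl
      · have hdr : β.degree = r := by omega
        have hβ1 : β + Finsupp.single j 1 ∈ exps I := exps_add hβ _
        have hnn1 : ∀ l, 0 ≤ (((β + Finsupp.single j 1 : σ →₀ ℕ) l : ℕ) : ℤ) + α l := by
          intro l
          have := hnn l
          simp only [Finsupp.add_apply, Nat.cast_add]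
          omega
        have hr1 : pt α (β + Finsupp.single j 1) ∈ region I α := by
          rw [mem_region_pt hβ1]
          rintro ⟨_, h2⟩
          rw [shift_add_of_nonneg α _ hnn, hE, map_add, Finsupp.degree_single] at h2
          omega
        have hadj : (RG I α).Adj ⟨pt α β, hr⟩ ⟨pt α (β + Finsupp.single j 1), hr1⟩ := by
          rw [SimpleGraph.induce_adj]
          exact adj_step α β j
        rw [SimpleGraph.ConnectedComponent.eq.mpr hadj.reachable]
        apply step _ hβ1 hr1 hnn1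
        · rw [map_add, Finsupp.degree_single]
          omega
        · simp [Finsupp.single_apply, hj]
  obtain ⟨β, hβ, hr, rfl⟩ := exists_pt' v
  exact key _ β hβ hr rfl

/-- the vector of negative parts of `α` -/
noncomputable def nu (α : σ → ℤ) : σ →₀ ℕ :=
  Finsupp.equivFunOnFinite.symm fun i => (-α i).toNat

lemma nu_apply (α : σ → ℤ) (i : σ) : nu α i = (-α i).toNat := rfl

lemma degree_nu (α : σ → ℤ) : (nu α).degree = ∑ i, (-α i).toNat := by
  rw [Finsupp.degree_eq_sum]
  rfl

include hE in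
lemma mem_region_of (hs : ∑ i, α i = -1) (γ' : σ →₀ ℕ) (hγ : γ'.degree + (nu α).degree = r) :
    γ' + nu α ∈ exps I ∧ pt α (γ' + nu α) ∈ region I α ∧
      ∀ i, 0 ≤ (((γ' + nu α : σ →₀ ℕ) i : ℕ) : ℤ) + α i := by
  have hβ : γ' + nu α ∈ exps I := by
    rw [hE, map_add]
    omega
  have hnn : ∀ i, 0 ≤ (((γ' + nu α : σ →₀ ℕ) i : ℕ) : ℤ) + α i := by
    intro i
    simp only [Finsupp.add_apply, nu_apply, Nat.cast_add]
    omega
  refine ⟨hβ, ?_, hnn⟩
  rw [mem_region_pt hβ]
  rintro ⟨_, h2⟩
  have h1 := degree_shift α _ hnn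
  have h3 := (hE _).mp h2
  rw [map_add] at h1
  push_cast at h1
  omega

include hE in
lemma card_BC_of_sum_eq [Nontrivial σ] (hs : ∑ i, α i = -1) :
    Nat.card (BC I α) = Nat.card {γ' : σ →₀ ℕ // γ'.degree + (nu α).degree = r} := by
  classical
  let f : {γ' : σ →₀ ℕ // γ'.degree + (nu α).degree = r} → BC I α := fun γ' =>
    ⟨(RG I α).connectedComponentMk ⟨pt α (γ'.1 + nu α), (mem_region_of hE hs γ'.1 γ'.2).2.1⟩, by
      rw [supp_eq_singleton hE hs (mem_region_of hE hs γ'.1 γ'.2).1
        (mem_region_of hE hs γ'.1 γ'.2).2.1 (mem_region_of hE hs γ'.1 γ'.2).2.2]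
      exact Set.finite_singleton _⟩
  have hinj : Function.Injective f := by
    intro γ1 γ2 h
    have h1 : (f γ1).1 = (f γ2).1 := congrArg Subtype.val h
    have h2 : (⟨pt α (γ2.1 + nu α), (mem_region_of hE hs γ2.1 γ2.2).2.1⟩ : ↥(region I α)) ∈
        ((RG I α).connectedComponentMk
          ⟨pt α (γ1.1 + nu α), (mem_region_of hE hs γ1.1 γ1.2).2.1⟩).supp := by
      rw [SimpleGraph.ConnectedComponent.mem_supp_iff]
      exact h1.symm
    rw [supp_eq_singleton hE hs (mem_region_of hE hs γ1.1 γ1.2).1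
      (mem_region_of hE hs γ1.1 γ1.2).2.1 (mem_region_of hE hs γ1.1 γ1.2).2.2,
      Set.mem_singleton_iff] at h2
    have h3 : pt α (γ2.1 + nu α) = pt α (γ1.1 + nu α) := congrArg Subtype.val h2
    have h4 := congrArg (bOf α) h3
    rw [bOf_pt, bOf_pt] at h4
    exact Subtype.ext (add_right_cancel h4).symm
  have hsurj : Function.Surjective f := by
    intro c
    obtain ⟨v, hv⟩ := c.1.nonempty_supp
    rw [SimpleGraph.ConnectedComponent.mem_supp_iff] at hv
    obtain ⟨β, hβ, hr, rfl⟩ := exists_pt' v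
    have hnn : ∀ l, 0 ≤ (β l : ℤ) + α l := by
      by_contra hneg
      push Not at hneg
      have hinf := infinite_supp_of_neg (I := I) (α := α) ⟨pt α β, hr⟩ hneg
      rw [hv] at hinf
      exact hinf c.2
    have hdeg := degree_eq_of_nonneg hE hs hβ hr hnn
    have hle : nu α ≤ β := by
      intro l
      rw [nu_apply]
      have := hnn l
      omega
    have hsum : β - nu α + nu α = β := tsub_add_cancel_of_le hle
    have hγ : (β - nu α).degree + (nu α).degree = r := by
      rw [← map_add, hsum, hdeg]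
    refine ⟨⟨β - nu α, hγ⟩, ?_⟩
    apply Subtype.ext
    show (RG I α).connectedComponentMk ⟨pt α (β - nu α + nu α), _⟩ = c.1
    rw [← hv]
    congr 1
    apply Subtype.ext
    show pt α (β - nu α + nu α) = pt α β
    rw [hsum]
  exact (Nat.card_congr (Equiv.ofBijective f ⟨hinj, hsurj⟩)).symm

omit [Field k] in
lemma card_degree_add_eq (w r : ℕ) (hσ : 1 ≤ Fintype.card σ) :
    Nat.card {γ : σ →₀ ℕ // γ.degree + w = r} =
      if w ≤ r then (Fintype.card σ + r - w - 1).choose (Fintype.card σ - 1) else 0 := by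
  classical
  by_cases hw : w ≤ r
  · rw [if_pos hw]
    have e : {γ : σ →₀ ℕ // γ.degree + w = r} ≃
        ↥((Finset.univ : Finset σ).finsuppAntidiag (r - w)) :=
      Equiv.subtypeEquivRight (fun γ => by
        rw [Finset.mem_finsuppAntidiag, Finsupp.degree_eq_sum]
        have hsum : (Finset.univ : Finset σ).sum ⇑γ = ∑ i, γ i := rfl
        rw [hsum]
        constructor
        · intro h
          exact ⟨by omega, Finset.subset_univ _⟩
        · rintro ⟨h, _⟩
          omega)
    rw [Nat.card_congr e, Nat.card_eq_finsetCard, Finset.card_finsuppAntidiag_nat_eq_choose,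
      Finset.card_univ]
    have h1 : Fintype.card σ + (r - w) - 1 = Fintype.card σ + r - w - 1 := by omega
    rw [h1]
    apply Nat.choose_symm_of_eq_add
    omega
  · rw [if_neg hw]
    haveI : IsEmpty {γ : σ →₀ ℕ // γ.degree + w = r} := ⟨fun γ => hw (by have := γ.2; omega)⟩
    exact Nat.card_of_isEmpty

include hE in
lemma card_BC_of_sum_ne [Nontrivial σ] (hs : ∑ i, α i ≠ -1) : Nat.card (BC I α) = 0 := by
  haveI : IsEmpty (BC I α) := by
    refine ⟨fun c => ?_⟩
    obtain ⟨v, hv⟩ := c.1.nonempty_supp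
    rw [SimpleGraph.ConnectedComponent.mem_supp_iff] at hv
    have hinf : ((RG I α).connectedComponentMk v).supp.Infinite := by
      by_cases h0 : 0 ≤ ∑ i, α i
      · exact infinite_supp_of_neg v (exists_neg_of_sum_nonneg hE h0 v)
      · exact infinite_comp_of_sum_le hE (by omega) v
    rw [hv] at hinf
    exact hinf c.2
  exact Nat.card_of_isEmpty

end comb

/-- Dimension of the graded pieces of `T(m^r)`. -/
theorem finrank_tPiece_pow [Fintype σ] [Nontrivial σ] (r : ℕ) (α : σ → ℤ) :
    Module.finrank k ↥(tPiece (idealOfVars σ k ^ r) α) =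
      if (∑ i, α i = -1 ∧ ∑ i, (-α i).toNat ≤ r)
        then (Fintype.card σ + r - (∑ i, (-α i).toNat) - 1).choose (Fintype.card σ - 1)
        else 0 := by
  haveI := finite_quot_pow (σ := σ) (k := k) r
  rw [finrank_tPiece (isMonomial_pow r)]
  show Nat.card (BC (idealOfVars σ k ^ r) α) = _
  have hE := mem_exps_pow (σ := σ) (k := k) r
  by_cases hs : ∑ i, α i = -1
  · rw [card_BC_of_sum_eq hE hs, card_degree_add_eq _ _ Fintype.card_pos, degree_nu]
    by_cases hw : ∑ i, (-α i).toNat ≤ r
    · rw [if_pos hw, if_pos ⟨hs, hw⟩]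
    · rw [if_neg hw, if_neg (fun h => hw h.2)]
  · rw [card_BC_of_sum_ne hE hs, if_neg (fun h => hs h.1)]

end Groth.Agent.Lib.R2H7.TgtPowVars
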