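import Mathlib
import Groth.Agent.S14272
import Groth.Agent.Lib.Helper5RLR
import Groth.Agent.Lib.R2H7TorsGenA

/-!
# R2H7TorsExt: extension of morphisms across closed subsets of depth >= 2

* `exists_weaklyRegular_pair`: a regular local ring of dimension `>= 2` has a weakly regular sequence of
  length two in its maximal ideal.
* `exists_pair_of_flat`: such pairs transfer along flat local homomorphisms.
* `hZ_preimage`: the depth hypothesis transfers to the preimage of `U` under a flat morphism.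
* `existsUnique_extension`: for `P` flat over `X`, `Q` affine over `X`, `U` open with depth `>= 2` complement
  and quasi-compact inclusion, restriction `Hom_X(P, Q) -> Hom_U(P_U, Q_U)` is bijective.
-/

set_option autoImplicit false

noncomputable section

namespace Groth.Agent.Lib.R2H7.TorsExt

open CategoryTheory CategoryTheory.Limits AlgebraicGeometry IsLocalRing RingTheory.Sequence

universe u

section alg

theorem exists_weaklyRegular_pair (R : Type u) [CommRing R] [IsRegularLocalRing R]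
    (h2 : (2 : WithBot ℕ∞) ≤ ringKrullDim R) :
    ∃ a b : R, a ∈ maximalIdeal R ∧ b ∈ maximalIdeal R ∧ IsWeaklyRegular R [a, b] := by
  obtain ⟨d, hd⟩ := Groth.Agent.Lib.Helper5.exists_nat_ringKrullDim_eq R
  have hreg : ((maximalIdeal R).spanFinrank : WithBot ℕ∞) = ringKrullDim R :=
    IsRegularLocalRing.spanFinrank_maximalIdeal
  rw [hd] at hreg h2
  have hreg' : (maximalIdeal R).spanFinrank = d := by exact_mod_cast hreg
  have h2' : 2 ≤ d := by exact_mod_cast h2
  obtain ⟨s, z, hs, hsup⟩ := Groth.Agent.Lib.Helper5.exists_extension_span_eq_maximalIdeal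
    (R := R) (r := 0) (fun i => i.elim0) (linearIndependent_empty_type)
  have hsd : s = d := by omega
  subst hsd
  have hemp : (Set.range fun i : Fin 0 => ((Fin.elim0 i : maximalIdeal R) : R)) = ∅ :=
    Set.range_eq_empty _
  rw [hemp, Ideal.span_empty, sup_bot_eq] at hsup
  have hR := Groth.Agent.Lib.Helper5.isRegular_ofFn_of_span_eq_maximalIdeal hd
    (fun i => (z i : R)) hsup
  obtain ⟨k, rfl⟩ : ∃ k, s = k + 2 := ⟨s - 2, by omega⟩
  have hw := hR.toIsWeaklyRegular
  rw [List.ofFn_succ, List.ofFn_succ] at hw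
  have hw' := ((isWeaklyRegular_append_iff R [(z 0 : R), (z (Fin.succ 0) : R)] _).mp hw).1
  exact ⟨_, _, (z 0).2, (z (Fin.succ 0)).2, hw'⟩

theorem exists_pair_of_flat {A B : Type u} [CommRing A] [CommRing B] [IsLocalRing A] [IsLocalRing B]
    (φ : A →+* B) [IsLocalHom φ] (hφ : φ.Flat)
    (h : ∃ a b : A, a ∈ maximalIdeal A ∧ b ∈ maximalIdeal A ∧ IsWeaklyRegular A [a, b]) :
    ∃ a b : B, a ∈ maximalIdeal B ∧ b ∈ maximalIdeal B ∧ IsWeaklyRegular B [a, b] := by
  obtain ⟨a, b, ha, hb, hab⟩ := h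
  letI := φ.toAlgebra
  haveI : Module.Flat A B := hφ
  have h1 := hab.of_flat (S := B)
  refine ⟨φ a, φ b, ?_, ?_, h1⟩
  · rw [mem_maximalIdeal, mem_nonunits_iff] at ha ⊢
    exact fun h => ha (isUnit_of_map_unit φ a h)
  · rw [mem_maximalIdeal, mem_nonunits_iff] at hb ⊢
    exact fun h => hb (isUnit_of_map_unit φ b h)

end alg

section scheme

variable {X : Scheme.{u}}

/-- The depth-two condition on the complement of `U`. -/
def DepthTwo (U : X.Opens) : Prop :=
  ∀ z : X, z ∉ U → ∃ a b : X.presheaf.stalk z,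
    a ∈ IsLocalRing.maximalIdeal (X.presheaf.stalk z) ∧
    b ∈ IsLocalRing.maximalIdeal (X.presheaf.stalk z) ∧
    RingTheory.Sequence.IsWeaklyRegular (X.presheaf.stalk z) [a, b]

theorem depthTwo_of_regular (U : X.Opens)
    (hZ : ∀ z : X, z ∉ U → IsRegularLocalRing (X.presheaf.stalk z) ∧
      (2 : WithBot ℕ∞) ≤ ringKrullDim (X.presheaf.stalk z)) : DepthTwo U := by
  intro z hz
  obtain ⟨h1, h2⟩ := hZ z hz
  exact exists_weaklyRegular_pair _ h2

theorem depthTwo_preimage {P : Scheme.{u}} (f : P ⟶ X) [Flat f] (U : X.Opens) (hZ : DepthTwo U) :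
    DepthTwo (f ⁻¹ᵁ U) := by
  intro z hz
  have hz' : f z ∉ U := hz
  exact exists_pair_of_flat (f.stalkMap z).hom (Flat.stalkMap f z) (hZ (f z) hz')

instance quasiCompact_preimage_ι {P : Scheme.{u}} (f : P ⟶ X) (U : X.Opens) [QuasiCompact U.ι] :
    QuasiCompact (f ⁻¹ᵁ U).ι :=
  MorphismProperty.of_isPullback (P := @QuasiCompact) (isPullback_morphismRestrict f U)
    inferInstance

theorem existsUnique_extension (U : X.Opens) [QuasiCompact U.ι] (hZ : DepthTwo U)
    (P Q : Over X) [Flat P.hom] [IsAffineHom Q.hom]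
    (h' : (Over.pullback U.ι).obj P ⟶ (Over.pullback U.ι).obj Q) :
    ∃! h : P ⟶ Q, (Over.pullback U.ι).map h = h' := by
  have hZ' := depthTwo_preimage P.hom U hZ
  let e := pullbackRestrictIsoRestrict P.hom U
  have he1 : e.hom ≫ (P.hom ⁻¹ᵁ U).ι = pullback.fst P.hom U.ι :=
    pullbackRestrictIsoRestrict_hom_ι P.hom U
  have he2 : e.inv ≫ pullback.fst P.hom U.ι = (P.hom ⁻¹ᵁ U).ι :=
    pullbackRestrictIsoRestrict_inv_fst P.hom U
  have hw : h'.left ≫ pullback.snd Q.hom U.ι = pullback.snd P.hom U.ι := Over.w h'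
  have hcond : pullback.fst P.hom U.ι ≫ P.hom = (h'.left ≫ pullback.fst Q.hom U.ι) ≫ Q.hom := by
    calc pullback.fst P.hom U.ι ≫ P.hom = pullback.snd P.hom U.ι ≫ U.ι := pullback.condition
      _ = (h'.left ≫ pullback.snd Q.hom U.ι) ≫ U.ι := by rw [hw]
      _ = _ := by rw [Category.assoc, ← pullback.condition, Category.assoc]
  let t : ((P.hom ⁻¹ᵁ U : P.left.Opens) : Scheme.{u}) ⟶ pullback P.hom Q.hom :=
    e.inv ≫ pullback.lift (pullback.fst P.hom U.ι) (h'.left ≫ pullback.fst Q.hom U.ι) hcond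
  have ht : t ≫ pullback.fst P.hom Q.hom = (P.hom ⁻¹ᵁ U).ι := by
    simp only [t, Category.assoc, pullback.lift_fst, he2]
  have htsnd : t ≫ pullback.snd P.hom Q.hom = e.inv ≫ h'.left ≫ pullback.fst Q.hom U.ι := by
    simp only [t, Category.assoc, pullback.lift_snd]
  have hmapfst : ∀ h : P ⟶ Q, ((Over.pullback U.ι).map h).left ≫ pullback.fst Q.hom U.ι =
      pullback.fst P.hom U.ι ≫ h.left := fun h => by
    simp only [Over.pullback_map_left]
    exact pullback.lift_fst _ _ _
  have hmapsnd : ∀ h : P ⟶ Q, ((Over.pullback U.ι).map h).left ≫ pullback.snd Q.hom U.ι =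
      pullback.snd P.hom U.ι := fun h => by
    simp only [Over.pullback_map_left]
    exact pullback.lift_snd _ _ _
  have : IsAffineHom (pullback.fst P.hom Q.hom) :=
    MorphismProperty.of_isPullback (P := @IsAffineHom) (IsPullback.of_hasPullback P.hom Q.hom).flip
      inferInstance
  obtain ⟨s, hs1, hs2⟩ := Groth.Agent.Lib.R2H7.Hartogs2.exists_section (P.hom ⁻¹ᵁ U) hZ'
    (pullback P.hom Q.hom) (pullback.fst P.hom Q.hom) t ht
  have hsw : (s ≫ pullback.snd P.hom Q.hom) ≫ Q.hom = P.hom := by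
    rw [Category.assoc, ← pullback.condition, ← Category.assoc, hs1, Category.id_comp]
  refine ⟨Over.homMk (s ≫ pullback.snd P.hom Q.hom) hsw, ?_, ?_⟩
  · apply Over.OverMorphism.ext
    apply pullback.hom_ext
    · rw [hmapfst]
      change pullback.fst P.hom U.ι ≫ (s ≫ pullback.snd P.hom Q.hom) = _
      rw [← he1, Category.assoc, ← Category.assoc _ s, hs2, htsnd, Iso.hom_inv_id_assoc]
    · rw [hmapsnd, hw]
  · intro h₂ hh₂
    apply Over.OverMorphism.ext
    change h₂.left = s ≫ pullback.snd P.hom Q.hom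
    have hw₂ : h₂.left ≫ Q.hom = P.hom := Over.w h₂
    let s₂ : P.left ⟶ pullback P.hom Q.hom :=
      pullback.lift (𝟙 P.left) h₂.left (by rw [Category.id_comp, hw₂])
    have hs₂1 : s₂ ≫ pullback.fst P.hom Q.hom = 𝟙 P.left := pullback.lift_fst _ _ _
    have hs₂2 : s₂ ≫ pullback.snd P.hom Q.hom = h₂.left := pullback.lift_snd _ _ _
    have hs₂U : (P.hom ⁻¹ᵁ U).ι ≫ s₂ = (P.hom ⁻¹ᵁ U).ι ≫ s := by
      rw [hs2]
      apply pullback.hom_ext
      · rw [Category.assoc, hs₂1, Category.comp_id, ht]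
      · rw [Category.assoc, hs₂2, htsnd, ← hh₂, hmapfst, ← Category.assoc, he2]
    have hsep : IsSeparated (pullback.fst P.hom Q.hom) := inferInstance
    have := Groth.Agent.S14271.result P.left (P.hom ⁻¹ᵁ U) (fun z hz => by
      obtain ⟨a, b, ha, hb, hab⟩ := hZ' z hz
      exact ⟨a, ha, (Groth.Agent.Lib.R2H7.Hartogs2.regMod_of_isWeaklyRegular hab).1⟩)
      (pullback P.hom Q.hom) (pullback.fst P.hom Q.hom) s₂ s hs₂1 hs1 hs₂U
    rw [← hs₂2, this]

end scheme

end Groth.Agent.Lib.R2H7.TorsExt
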