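import Mathlib

/-!
# Units of group algebras `R[G]` over a domain (`G` with two-unique-sums, e.g. `ℤ^n`)
and the coproduct property of `R[G]` as `R ⊔ ℤ[G]` in commutative rings.
-/

namespace Groth.Agent.Lib.R2H7.TorusUnitsAlg

open AddMonoidAlgebra

universe u

section Units

variable {R : Type*} [CommRing R] [IsDomain R] {G : Type*} [AddCommGroup G] [TwoUniqueSums G]

/-- A product of two group-algebra elements equal to `1` forces the supports to be singletons. -/
theorem card_support_mul_le_one {f g : AddMonoidAlgebra R G} (hfg : f * g = 1) :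
    f.coeff.support.card * g.coeff.support.card ≤ 1 := by
  classical
  by_contra hlt
  rw [not_le] at hlt
  obtain ⟨p1, hp1, p2, hp2, hne, hu1, hu2⟩ := TwoUniqueSums.uniqueAdd_of_one_lt_card hlt
  rw [Finset.mem_product] at hp1 hp2
  have key : ∀ p : G × G, p.1 ∈ f.coeff.support → p.2 ∈ g.coeff.support →
      UniqueAdd f.coeff.support g.coeff.support p.1 p.2 → p.1 + p.2 = 0 := by
    intro p h1 h2 hu
    have h := coeff_mul_add_of_uniqueAdd hu
    rw [hfg, one_def, coeff_single] at h
    have hne0 : f.coeff p.1 * g.coeff p.2 ≠ 0 :=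
      mul_ne_zero (Finsupp.mem_support_iff.1 h1) (Finsupp.mem_support_iff.1 h2)
    by_contra hp
    rw [Finsupp.single_apply, if_neg (fun h0 => hp h0.symm)] at h
    exact hne0 h.symm
  have e1 := key p1 hp1.1 hp1.2 hu1
  have e2 := key p2 hp2.1 hp2.2 hu2
  have := hu1 hp2.1 hp2.2 (e2.trans e1.symm)
  exact hne (Prod.ext this.1 this.2).symm

/-- Units of `R[G]` (`R` a domain, `G` with two unique sums) are monomials with unit coefficient. -/
theorem exists_single_of_isUnit (f : AddMonoidAlgebra R G) (hf : IsUnit f) :
    ∃ (e : G) (c : R), IsUnit c ∧ f = single e c := by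
  classical
  obtain ⟨g, hfg⟩ := hf.exists_right_inv
  have hf0 : f ≠ 0 := by
    rintro rfl
    rw [zero_mul] at hfg
    exact zero_ne_one hfg
  have hg0 : g ≠ 0 := by
    rintro rfl
    rw [mul_zero] at hfg
    exact zero_ne_one hfg
  have hle := card_support_mul_le_one hfg
  have hfs : f.coeff.support.Nonempty := by
    rw [Finsupp.support_nonempty_iff]
    exact fun h => hf0 (coeff_eq_zero.1 h)
  have hgs : g.coeff.support.Nonempty := by
    rw [Finsupp.support_nonempty_iff]
    exact fun h => hg0 (coeff_eq_zero.1 h)
  have hf1 : f.coeff.support.card = 1 := by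
    have h1 := Finset.card_pos.2 hfs
    have h2 := Finset.card_pos.2 hgs
    nlinarith
  have hg1 : g.coeff.support.card = 1 := by
    have h1 := Finset.card_pos.2 hfs
    have h2 := Finset.card_pos.2 hgs
    nlinarith
  obtain ⟨e, c, hc, hfe⟩ := Finsupp.card_support_eq_one'.1 hf1
  obtain ⟨e', c', hc', hge⟩ := Finsupp.card_support_eq_one'.1 hg1
  have hf' : f = single e c := by
    apply coeff_injective
    rw [hfe, coeff_single]
  have hg' : g = single e' c' := by
    apply coeff_injective
    rw [hge, coeff_single]
  refine ⟨e, c, ?_, hf'⟩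
  rw [hf', hg', single_mul_single, one_def] at hfg
  have h := congrArg (fun x => x.coeff (e + e')) hfg
  simp only [coeff_single, Finsupp.single_apply, if_true] at h
  have hcc : c * c' ≠ 0 := mul_ne_zero hc hc'
  split_ifs at h with h0
  · exact IsUnit.of_mul_eq_one _ h
  · exact absurd h hcc

end Units

section Coprod

variable (R : Type u) [CommRing R] (G : Type) [AddCommGroup G]

/-- The inclusion of constants `R → R[G]`. -/
noncomputable def i₁ : R →+* AddMonoidAlgebra R G := singleZeroRingHom

/-- The base change map `ULift ℤ[G] → R[G]`. -/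
noncomputable def i₂ : ULift.{u} (AddMonoidAlgebra ℤ G) →+* AddMonoidAlgebra R G :=
  (mapRingHom G (Int.castRingHom R)).comp (ULift.ringEquiv : ULift.{u} (AddMonoidAlgebra ℤ G) ≃+* _).toRingHom

@[simp] theorem i₁_apply (r : R) : i₁ R G r = single 0 r := rfl

@[simp] theorem i₂_up_single (e : G) (z : ℤ) :
    i₂ R G (ULift.up (single e z)) = single e (z : R) := by
  show (mapRingHom G (Int.castRingHom R)) (single e z) = _
  rw [mapRingHom_single]
  rfl

theorem i₁_mul_i₂ (c : R) (e : G) : i₁ R G c * i₂ R G (ULift.up (single e 1)) = single e c := by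
  rw [i₁_apply, i₂_up_single, single_mul_single, zero_add, Int.cast_one, mul_one]

variable {R G}

/-- Existence part of the coproduct property of `R[G]`. -/
theorem exists_lift {D : Type u} [CommRing D] (f : R →+* D)
    (g : ULift.{u} (AddMonoidAlgebra ℤ G) →+* D) :
    ∃ h : AddMonoidAlgebra R G →+* D, h.comp (i₁ R G) = f ∧ h.comp (i₂ R G) = g := by
  let g₀ : AddMonoidAlgebra ℤ G →+* D :=
    g.comp (ULift.ringEquiv : ULift.{u} (AddMonoidAlgebra ℤ G) ≃+* _).symm.toRingHom
  let g' : Multiplicative G →* D := (g₀ : AddMonoidAlgebra ℤ G →* D).comp (of ℤ G)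
  let h : AddMonoidAlgebra R G →+* D := liftNCRingHom f g' (fun _ _ => Commute.all _ _)
  have hg' : ∀ a : G, g' (Multiplicative.ofAdd a) = g₀ (single a 1) := fun a => rfl
  refine ⟨h, ?_, ?_⟩
  · ext r
    simp only [RingHom.comp_apply, i₁_apply, h, liftNCRingHom_single, hg']
    rw [← one_def, map_one, mul_one]
  · have key : h.comp (mapRingHom G (Int.castRingHom R)) = g₀ := by
      apply ringHom_ext
      · intro z
        simp only [RingHom.comp_apply, mapRingHom_single, h, liftNCRingHom_single, hg']
        have hz : (single 0 z : AddMonoidAlgebra ℤ G) = (z : AddMonoidAlgebra ℤ G) := by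
          rw [intCast_def, Int.cast_id]
        rw [← one_def, map_one, mul_one, hz, map_intCast]
        simp
      · intro a
        simp only [RingHom.comp_apply, mapRingHom_single, h, liftNCRingHom_single, hg']
        simp
    ext x
    exact RingHom.congr_fun key x.down

/-- Uniqueness part of the coproduct property of `R[G]`. -/
theorem lift_unique {D : Type*} [CommRing D] (h h' : AddMonoidAlgebra R G →+* D)
    (h1 : h.comp (i₁ R G) = h'.comp (i₁ R G)) (h2 : h.comp (i₂ R G) = h'.comp (i₂ R G)) :
    h = h' := by
  apply ringHom_ext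
  · intro r
    exact RingHom.congr_fun h1 r
  · intro a
    have := RingHom.congr_fun h2 (ULift.up (single a 1))
    simpa using this

end Coprod

end Groth.Agent.Lib.R2H7.TorusUnitsAlg
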