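import Mathlib
import Groth.Agent.Lib.R2H7TorusUnitsAlg

/-!
# Units on `X × 𝔾_mⁿ` for an integral scheme `X`
-/

universe u

open CategoryTheory CategoryTheory.Limits AlgebraicGeometry Opposite

namespace Groth.Agent.Lib.R2H7.TorusUnitsGeo

open Groth.Agent.Lib.R2H7.TorusUnitsAlg

section ProdSpec

variable {A B C : CommRingCat.{u}} (j₁ : A ⟶ C) (j₂ : B ⟶ C)

/-- If `C` is a coproduct of `A` and `B` in commutative rings, then `Spec C` is the product of
`Spec A` and `Spec B`. -/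
theorem isIso_prodLift
    (huniv : ∀ (D : CommRingCat.{u}) (f : A ⟶ D) (g : B ⟶ D),
      ∃ h : C ⟶ D, j₁ ≫ h = f ∧ j₂ ≫ h = g)
    (huniq : ∀ (D : CommRingCat.{u}) (h h' : C ⟶ D),
      j₁ ≫ h = j₁ ≫ h' → j₂ ≫ h = j₂ ≫ h' → h = h') :
    IsIso (prod.lift (Spec.map j₁) (Spec.map j₂)) := by
  obtain ⟨h, h1, h2⟩ := huniv Γ(Spec A ⨯ Spec B, ⊤)
    ((Scheme.ΓSpecIso A).inv ≫ (prod.fst : Spec A ⨯ Spec B ⟶ Spec A).appTop)
    ((Scheme.ΓSpecIso B).inv ≫ (prod.snd : Spec A ⨯ Spec B ⟶ Spec B).appTop)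
  refine ⟨⟨(Spec A ⨯ Spec B).toSpecΓ ≫ Spec.map h, ?_, ?_⟩⟩
  · have key : h ≫ (prod.lift (Spec.map j₁) (Spec.map j₂)).appTop = (Scheme.ΓSpecIso C).inv := by
      apply huniq
      · rw [← Category.assoc, h1, Category.assoc, ← Scheme.Hom.comp_appTop, prod.lift_fst,
          Scheme.ΓSpecIso_inv_naturality]
      · rw [← Category.assoc, h2, Category.assoc, ← Scheme.Hom.comp_appTop, prod.lift_snd,
          Scheme.ΓSpecIso_inv_naturality]
    rw [← Category.assoc, Scheme.toSpecΓ_naturality, Category.assoc, ← Spec.map_comp, key]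
    exact toSpecΓ_SpecMap_ΓSpecIso_inv C
  · apply prod.hom_ext
    · rw [Category.assoc, Category.assoc, prod.lift_fst, Category.id_comp, ← Spec.map_comp, h1,
        Spec.map_comp, ← Category.assoc, ← Scheme.toSpecΓ_naturality, Category.assoc,
        toSpecΓ_SpecMap_ΓSpecIso_inv, Category.comp_id]
    · rw [Category.assoc, Category.assoc, prod.lift_snd, Category.id_comp, ← Spec.map_comp, h2,
        Spec.map_comp, ← Category.assoc, ← Scheme.toSpecΓ_naturality, Category.assoc,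
        toSpecΓ_SpecMap_ΓSpecIso_inv, Category.comp_id]

end ProdSpec

variable (n : ℕ)

/-- The (universe lifted) Laurent polynomial ring `ℤ[ℤⁿ]`. -/
abbrev S0 : Type u := ULift.{u} (AddMonoidAlgebra ℤ (Fin n → ℤ))

/-- The split torus `𝔾_mⁿ = Spec ℤ[ℤⁿ]`. -/
noncomputable abbrev T : Scheme.{u} := Spec (CommRingCat.of (S0.{u} n))

/-- The character `t^e` as a global function on the torus. -/
noncomputable def τ (e : Fin n → ℤ) : Γ(T.{u} n, ⊤) :=
  (Scheme.ΓSpecIso (CommRingCat.of (S0.{u} n))).inv (ULift.up (AddMonoidAlgebra.single e 1))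

section Affine

variable (R : CommRingCat.{u})

/-- `R[ℤⁿ]` as an object of `CommRingCat`. -/
noncomputable abbrev RG : CommRingCat.{u} := CommRingCat.of (AddMonoidAlgebra R (Fin n → ℤ))

/-- constants -/
noncomputable def k₁ : R ⟶ RG n R := CommRingCat.ofHom (i₁ R (Fin n → ℤ))

/-- base change of Laurent polynomials -/
noncomputable def k₂ : CommRingCat.of (S0.{u} n) ⟶ RG n R := CommRingCat.ofHom (i₂ R (Fin n → ℤ))

/-- The comparison morphism `Spec R[ℤⁿ] ⟶ Spec R × 𝔾_mⁿ`. -/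
noncomputable def θ : Spec (RG n R) ⟶ Spec R ⨯ T.{u} n :=
  prod.lift (Spec.map (k₁ n R)) (Spec.map (k₂ n R))

instance : IsIso (θ n R) := by
  unfold θ
  apply isIso_prodLift
  · intro D f g
    obtain ⟨h, h1, h2⟩ := exists_lift (R := R) (G := Fin n → ℤ) f.hom g.hom
    refine ⟨CommRingCat.ofHom h, ?_, ?_⟩
    · ext x
      exact RingHom.congr_fun h1 x
    · ext x
      exact RingHom.congr_fun h2 x
  · intro D h h' e1 e2
    apply CommRingCat.hom_ext
    refine lift_unique (R := R) (G := Fin n → ℤ) h.hom h'.hom ?_ ?_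
    · ext y
      exact congrArg (fun φ : R ⟶ D => φ.hom y) e1
    · ext y
      exact congrArg (fun φ : CommRingCat.of (S0.{u} n) ⟶ D => φ.hom y) e2

theorem θ_appTop (c : R) (e : Fin n → ℤ) :
    (θ n R).appTop ((prod.fst : Spec R ⨯ T.{u} n ⟶ Spec R).appTop ((Scheme.ΓSpecIso R).inv c) *
      (prod.snd : Spec R ⨯ T.{u} n ⟶ T.{u} n).appTop (τ n e)) =
    (Scheme.ΓSpecIso (RG n R)).inv (AddMonoidAlgebra.single e c) := by
  have h1 : (θ n R).appTop ((prod.fst : Spec R ⨯ T.{u} n ⟶ Spec R).appTop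
      ((Scheme.ΓSpecIso R).inv c)) = (Scheme.ΓSpecIso (RG n R)).inv (k₁ n R c) := by
    rw [← CommRingCat.comp_apply, ← Scheme.Hom.comp_appTop, θ, prod.lift_fst,
      ← CommRingCat.comp_apply, ← Scheme.ΓSpecIso_inv_naturality, CommRingCat.comp_apply]
  have h2 : (θ n R).appTop ((prod.snd : Spec R ⨯ T.{u} n ⟶ T.{u} n).appTop (τ n e)) =
      (Scheme.ΓSpecIso (RG n R)).inv (k₂ n R (ULift.up (AddMonoidAlgebra.single e 1))) := by
    rw [← CommRingCat.comp_apply, ← Scheme.Hom.comp_appTop, θ, prod.lift_snd, τ,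
      ← CommRingCat.comp_apply, ← Scheme.ΓSpecIso_inv_naturality, CommRingCat.comp_apply]
  rw [map_mul, h1, h2, ← map_mul]
  congr 1
  exact i₁_mul_i₂ R (Fin n → ℤ) c e

theorem θ_appTop_injective : Function.Injective (θ n R).appTop := by
  have h : ∀ x, (inv (θ n R)).appTop ((θ n R).appTop x) = x := by
    intro x
    rw [← CommRingCat.comp_apply, ← Scheme.Hom.comp_appTop, IsIso.inv_hom_id]
    rfl
  exact Function.LeftInverse.injective h

/-- Units on `Spec R × 𝔾_mⁿ` for a domain `R`. -/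
theorem exists_eq_of_isUnit [IsDomain R] (v : Γ(Spec R ⨯ T.{u} n, ⊤)) (hv : IsUnit v) :
    ∃ (c : Γ(Spec R, ⊤)) (e : Fin n → ℤ), IsUnit c ∧
      v = (prod.fst : Spec R ⨯ T.{u} n ⟶ Spec R).appTop c *
        (prod.snd : Spec R ⨯ T.{u} n ⟶ T.{u} n).appTop (τ n e) := by
  have hw : IsUnit ((Scheme.ΓSpecIso (RG n R)).hom ((θ n R).appTop v)) :=
    (hv.map (θ n R).appTop.hom).map (Scheme.ΓSpecIso (RG n R)).hom.hom
  obtain ⟨e, c, hc, hwe⟩ := exists_single_of_isUnit _ hw
  refine ⟨(Scheme.ΓSpecIso R).inv c, e, hc.map (Scheme.ΓSpecIso R).inv.hom, ?_⟩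
  apply θ_appTop_injective
  rw [θ_appTop, ← hwe, ← CommRingCat.comp_apply, Iso.hom_inv_id]
  rfl

/-- Uniqueness of the monomial decomposition on `Spec R × 𝔾_mⁿ`. -/
theorem eq_of_eq [Nontrivial R] (c c' : Γ(Spec R, ⊤)) (e e' : Fin n → ℤ) (hc : IsUnit c)
    (h : (prod.fst : Spec R ⨯ T.{u} n ⟶ Spec R).appTop c *
        (prod.snd : Spec R ⨯ T.{u} n ⟶ T.{u} n).appTop (τ n e) =
      (prod.fst : Spec R ⨯ T.{u} n ⟶ Spec R).appTop c' *
        (prod.snd : Spec R ⨯ T.{u} n ⟶ T.{u} n).appTop (τ n e')) :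
    e = e' ∧ c = c' := by
  have hcc : ∀ x : Γ(Spec R, ⊤), (Scheme.ΓSpecIso R).inv ((Scheme.ΓSpecIso R).hom x) = x := by
    intro x
    rw [← CommRingCat.comp_apply, Iso.hom_inv_id]
    rfl
  have h' := congrArg (θ n R).appTop h
  rw [← hcc c, ← hcc c', θ_appTop, θ_appTop] at h'
  have hinj : Function.Injective (Scheme.ΓSpecIso (RG n R)).inv :=
    (ConcreteCategory.bijective_of_isIso _).1
  have h'' := hinj h'
  have hc0 : (Scheme.ΓSpecIso R).hom c ≠ 0 := (hc.map (Scheme.ΓSpecIso R).hom.hom).ne_zero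
  rcases AddMonoidAlgebra.single_inj.1 h'' with h3 | h3
  · refine ⟨h3.1, ?_⟩
    rw [← hcc c, ← hcc c', h3.2]
  · exact absurd h3.1 hc0

end Affine

section Naturality

variable {Y Y' : Scheme.{u}}

theorem map_prodMap (g : Y' ⟶ Y) (c : Γ(Y, ⊤)) (s : Γ(T.{u} n, ⊤)) :
    (prod.map g (𝟙 (T.{u} n))).appTop ((prod.fst : Y ⨯ T.{u} n ⟶ Y).appTop c *
      (prod.snd : Y ⨯ T.{u} n ⟶ T.{u} n).appTop s) =
    (prod.fst : Y' ⨯ T.{u} n ⟶ Y').appTop (g.appTop c) *
      (prod.snd : Y' ⨯ T.{u} n ⟶ T.{u} n).appTop s := by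
  have h1 : (prod.map g (𝟙 (T.{u} n))).appTop ((prod.fst : Y ⨯ T.{u} n ⟶ Y).appTop c) =
      (prod.fst : Y' ⨯ T.{u} n ⟶ Y').appTop (g.appTop c) := by
    rw [← CommRingCat.comp_apply, ← Scheme.Hom.comp_appTop, prod.map_fst, Scheme.Hom.comp_appTop,
      CommRingCat.comp_apply]
  have h2 : (prod.map g (𝟙 (T.{u} n))).appTop ((prod.snd : Y ⨯ T.{u} n ⟶ T.{u} n).appTop s) =
      (prod.snd : Y' ⨯ T.{u} n ⟶ T.{u} n).appTop s := by
    rw [← CommRingCat.comp_apply, ← Scheme.Hom.comp_appTop, prod.map_snd, Category.comp_id]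
  rw [map_mul, h1, h2]

/-- The augmentation `ℤ[ℤⁿ] → ℤ`. -/
noncomputable def aug : S0.{u} n →+* ULift.{u} ℤ :=
  (ULift.ringEquiv : ULift.{u} ℤ ≃+* ℤ).symm.toRingHom.comp
    ((AddMonoidAlgebra.liftNCRingHom (RingHom.id ℤ) (1 : Multiplicative (Fin n → ℤ) →* ℤ)
      (fun _ _ => Commute.all _ _)).comp
      (ULift.ringEquiv : S0.{u} n ≃+* _).toRingHom)

theorem aug_single (e : Fin n → ℤ) : aug.{u} n (ULift.up (AddMonoidAlgebra.single e 1)) = 1 := by
  show ULift.up (AddMonoidAlgebra.liftNCRingHom (RingHom.id ℤ)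
    (1 : Multiplicative (Fin n → ℤ) →* ℤ) (fun _ _ => Commute.all _ _)
    (AddMonoidAlgebra.single e 1)) = 1
  rw [AddMonoidAlgebra.liftNCRingHom_single]
  simp
  rfl

/-- The unit point of the torus, over any scheme. -/
noncomputable def ε (Y : Scheme.{u}) : Y ⟶ T.{u} n :=
  specULiftZIsTerminal.{u}.from Y ≫ Spec.map (CommRingCat.ofHom (aug.{u} n))

theorem ε_nat (g : Y' ⟶ Y) : g ≫ ε n Y = ε n Y' := by
  rw [ε, ε, ← Category.assoc]
  congr 1
  exact specULiftZIsTerminal.{u}.hom_ext _ _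

theorem ε_appTop (Y : Scheme.{u}) (e : Fin n → ℤ) : (ε n Y).appTop (τ n e) = 1 := by
  rw [ε, Scheme.Hom.comp_appTop, CommRingCat.comp_apply, τ,
    ← CommRingCat.comp_apply (Scheme.ΓSpecIso _).inv, ← Scheme.ΓSpecIso_inv_naturality,
    CommRingCat.comp_apply]
  have : (CommRingCat.ofHom (aug.{u} n)) (ULift.up (AddMonoidAlgebra.single e 1)) = 1 :=
    aug_single n e
  rw [this, map_one, map_one]

/-- The unit section of `Y × 𝔾_mⁿ → Y`. -/
noncomputable def σ (Y : Scheme.{u}) : Y ⟶ Y ⨯ T.{u} n := prod.lift (𝟙 Y) (ε n Y)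

theorem σ_nat (g : Y' ⟶ Y) : g ≫ σ n Y = σ n Y' ≫ prod.map g (𝟙 (T.{u} n)) := by
  apply prod.hom_ext
  · rw [σ, σ, Category.assoc, Category.assoc, prod.lift_fst, prod.map_fst, prod.lift_fst_assoc,
      Category.comp_id, Category.id_comp]
  · rw [σ, σ, Category.assoc, Category.assoc, prod.lift_snd, prod.map_snd, prod.lift_snd_assoc,
      Category.comp_id, ε_nat]

theorem σ_appTop (Y : Scheme.{u}) (c : Γ(Y, ⊤)) (e : Fin n → ℤ) :
    (σ n Y).appTop ((prod.fst : Y ⨯ T.{u} n ⟶ Y).appTop c *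
      (prod.snd : Y ⨯ T.{u} n ⟶ T.{u} n).appTop (τ n e)) = c := by
  have h1 : (σ n Y).appTop ((prod.fst : Y ⨯ T.{u} n ⟶ Y).appTop c) = c := by
    rw [← CommRingCat.comp_apply, ← Scheme.Hom.comp_appTop, σ, prod.lift_fst]
    rfl
  have h2 : (σ n Y).appTop ((prod.snd : Y ⨯ T.{u} n ⟶ T.{u} n).appTop (τ n e)) = 1 := by
    rw [← CommRingCat.comp_apply, ← Scheme.Hom.comp_appTop, σ, prod.lift_snd, ε_appTop]
  rw [map_mul, h1, h2, mul_one]

end Naturality

/-- **Units on tori**: for an integral scheme `X`, every unit on `X × 𝔾_mⁿ` is uniquely of the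
form `pr₁^*(u) · pr₂^*(t^e)`. -/
theorem main (X : Scheme.{u}) [IsIntegral X] (v : Γ(X ⨯ T.{u} n, ⊤)) (hv : IsUnit v) :
    ∃! p : (Γ(X, ⊤))ˣ × (Fin n → ℤ),
      v = (prod.fst : X ⨯ T.{u} n ⟶ X).appTop (p.1 : Γ(X, ⊤)) *
        (prod.snd : X ⨯ T.{u} n ⟶ T.{u} n).appTop (τ n p.2) := by
  have hvK : IsUnit ((prod.map (X.fromSpecStalk (genericPoint X)) (𝟙 (T.{u} n))).appTop v) :=
    hv.map (prod.map (X.fromSpecStalk (genericPoint X)) (𝟙 (T.{u} n))).appTop.hom
  obtain ⟨cK, e, hcK, hvK'⟩ := exists_eq_of_isUnit n X.functionField _ hvK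
  have hc : IsUnit ((σ n X).appTop v) := hv.map (σ n X).appTop.hom
  have hmain : v = (prod.fst : X ⨯ T.{u} n ⟶ X).appTop ((σ n X).appTop v) *
      (prod.snd : X ⨯ T.{u} n ⟶ T.{u} n).appTop (τ n e) := by
    apply Scheme.OpenCover.ext_elem _ _
      ((X.affineOpenCover.openCover).pullback₁ (prod.fst : X ⨯ T.{u} n ⟶ X))
    intro i
    let R : CommRingCat.{u} := X.affineOpenCover.X i
    let g : Spec R ⟶ X := X.affineOpenCover.f i
    have : IsOpenImmersion g := X.affineOpenCover.map_prop i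
    show (pullback.fst (prod.fst : X ⨯ T.{u} n ⟶ X) g).appTop v =
      (pullback.fst (prod.fst : X ⨯ T.{u} n ⟶ X) g).appTop _
    by_cases hne : Nonempty (Spec R)
    · have : IsIntegral (Spec R) := isIntegral_of_isOpenImmersion g
      have : IsDomain R := (affine_isIntegral_iff R).1 inferInstance
      have hvi : IsUnit ((prod.map g (𝟙 (T.{u} n))).appTop v) :=
        hv.map (prod.map g (𝟙 (T.{u} n))).appTop.hom
      obtain ⟨ci, ei, hci, hvi'⟩ := exists_eq_of_isUnit n R _ hvi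
      have hrange : Set.range (X.fromSpecStalk (genericPoint X)) ⊆ Set.range g := by
        rw [Scheme.range_fromSpecStalk]
        intro y hy
        have hopen : IsOpen (Set.range g) := g.isOpenEmbedding.isOpen_range
        have hη : genericPoint X ∈ Set.range g := by
          rw [(genericPoint_spec X).mem_open_set_iff hopen]
          obtain ⟨z⟩ := hne
          exact ⟨g z, trivial, z, rfl⟩
        exact (hy : y ⤳ genericPoint X).mem_open hopen hη
      have hl : IsOpenImmersion.lift g (X.fromSpecStalk (genericPoint X)) hrange ≫ g =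
          X.fromSpecStalk (genericPoint X) := IsOpenImmersion.lift_fac _ _ _
      have h1 : (prod.map (X.fromSpecStalk (genericPoint X)) (𝟙 (T.{u} n))).appTop v =
          (prod.fst : Spec X.functionField ⨯ T.{u} n ⟶ _).appTop
            ((IsOpenImmersion.lift g (X.fromSpecStalk (genericPoint X)) hrange).appTop ci) *
          (prod.snd : Spec X.functionField ⨯ T.{u} n ⟶ T.{u} n).appTop (τ n ei) := by
        have : prod.map (X.fromSpecStalk (genericPoint X)) (𝟙 (T.{u} n)) =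
            prod.map (IsOpenImmersion.lift g (X.fromSpecStalk (genericPoint X)) hrange)
              (𝟙 (T.{u} n)) ≫ prod.map g (𝟙 (T.{u} n)) := by
          rw [prod.map_map, hl, Category.comp_id]
        rw [this, Scheme.Hom.comp_appTop, CommRingCat.comp_apply, hvi', map_prodMap]
      have hei : ei = e :=
        (eq_of_eq n X.functionField _ _ _ _ (hci.map
          (IsOpenImmersion.lift g (X.fromSpecStalk (genericPoint X)) hrange).appTop.hom)
          (h1.symm.trans hvK')).1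
      have hci' : g.appTop ((σ n X).appTop v) = ci := by
        rw [← CommRingCat.comp_apply, ← Scheme.Hom.comp_appTop, σ_nat, Scheme.Hom.comp_appTop,
          CommRingCat.comp_apply, hvi', σ_appTop]
      have h2 : (prod.map g (𝟙 (T.{u} n))).appTop v = (prod.map g (𝟙 (T.{u} n))).appTop
          ((prod.fst : X ⨯ T.{u} n ⟶ X).appTop ((σ n X).appTop v) *
            (prod.snd : X ⨯ T.{u} n ⟶ T.{u} n).appTop (τ n e)) := by
        rw [map_prodMap, hci', ← hei]
        exact hvi'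
      have hξ : prod.lift (pullback.snd (prod.fst : X ⨯ T.{u} n ⟶ X) g)
          (pullback.fst (prod.fst : X ⨯ T.{u} n ⟶ X) g ≫ prod.snd) ≫ prod.map g (𝟙 (T.{u} n)) =
          pullback.fst (prod.fst : X ⨯ T.{u} n ⟶ X) g := by
        apply prod.hom_ext
        · rw [Category.assoc, prod.map_fst, prod.lift_fst_assoc, pullback.condition]
        · rw [Category.assoc, prod.map_snd, prod.lift_snd_assoc, Category.comp_id]
      rw [← hξ]
      exact congrArg (prod.lift (pullback.snd (prod.fst : X ⨯ T.{u} n ⟶ X) g)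
          (pullback.fst (prod.fst : X ⨯ T.{u} n ⟶ X) g ≫ prod.snd)).appTop h2
    · have : IsEmpty (Spec R) := not_nonempty_iff.1 hne
      have : IsEmpty ↥(pullback (prod.fst : X ⨯ T.{u} n ⟶ X) g) :=
        Function.isEmpty (pullback.snd (prod.fst : X ⨯ T.{u} n ⟶ X) g)
      exact Subsingleton.elim _ _
  refine ⟨(hc.unit, e), ?_, ?_⟩
  · simpa using hmain
  · rintro ⟨u', e'⟩ hp
    simp only at hp
    have h1 : (σ n X).appTop v = (u' : Γ(X, ⊤)) := by
      conv_lhs => rw [hp]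
      rw [σ_appTop]
    have h2 := congrArg (prod.map (X.fromSpecStalk (genericPoint X)) (𝟙 (T.{u} n))).appTop hp
    rw [map_prodMap, hvK'] at h2
    have h3 := (eq_of_eq n X.functionField _ _ _ _ hcK h2).1
    refine Prod.ext (Units.ext ?_) h3.symm
    simp only [IsUnit.unit_spec]
    exact h1.symm

end Groth.Agent.Lib.R2H7.TorusUnitsGeo
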