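import Mathlib
import Groth.Agent.Lib.H5bTrace

/-!
# Traces of `X` on `ℂ[X]`-modules along short complexes (helper7, round 2)

For `M : ModuleCat ℂ[X]` we write `F.obj M` for the underlying complex vector space and
`Φ M` for multiplication by `X`.  Main results: trace additivity on short exact sequences,
`tr S.X₂ = tr S.homology + tr (range S.f) + tr (range S.g)` for a short complex `S`, and the
domination relation `Dom M' M` (vanishing, finiteness, dimension and eigenvalue bounds pass from
`M` to `M'`) for subobjects, quotients and homology.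
-/

set_option autoImplicit false
set_option linter.style.haveILetI false
universe u
open CategoryTheory CategoryTheory.Limits Polynomial

namespace Groth.Agent.Lib.R2H7.TrSS

noncomputable abbrev F := ModuleCat.restrictScalars.{u} (algebraMap ℂ (Polynomial ℂ))

noncomputable abbrev Φ (M : ModuleCat.{u} (Polynomial ℂ)) : (F.obj M) →ₗ[ℂ] (F.obj M) :=
  (F.map ((Polynomial.X : Polynomial ℂ) • 𝟙 M)).hom

noncomputable abbrev tr (M : ModuleCat.{u} (Polynomial ℂ)) : ℂ :=
  LinearMap.trace ℂ (F.obj M) (Φ M)

lemma Φ_apply (M : ModuleCat.{u} (Polynomial ℂ)) (v : M) :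
    Φ M v = (Polynomial.X : Polynomial ℂ) • v := rfl

lemma F_map_apply {M M' : ModuleCat.{u} (Polynomial ℂ)} (g : M ⟶ M') (v : M) :
    (F.map g).hom v = g.hom v := rfl

lemma Φ_comm {M M' : ModuleCat.{u} (Polynomial ℂ)} (g : M ⟶ M') (v : F.obj M) :
    (F.map g).hom (Φ M v) = Φ M' ((F.map g).hom v) := by
  change g.hom ((Polynomial.X : Polynomial ℂ) • (v : M)) =
    (Polynomial.X : Polynomial ℂ) • g.hom (v : M)
  exact map_smul _ _ _

section LA

variable {K : Type*} [Field K] {V V' : Type*} [AddCommGroup V] [Module K V] [AddCommGroup V']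
  [Module K V']

lemma eig_of_injective (i : V' →ₗ[K] V) (hi : Function.Injective i) (φ' : Module.End K V')
    (φ : Module.End K V) (hc : ∀ v, i (φ' v) = φ (i v)) {μ : K} (h : φ'.HasEigenvalue μ) :
    φ.HasEigenvalue μ := by
  obtain ⟨v, hv⟩ := h.exists_hasEigenvector
  have h1 : φ' v = μ • v := hv.apply_eq_smul
  have h2 : v ≠ 0 := hv.2
  refine Module.End.hasEigenvalue_of_hasEigenvector (x := i v) ⟨?_, ?_⟩
  · rw [Module.End.mem_eigenspace_iff, ← hc, h1, map_smul]
  · exact fun h0 => h2 (hi (by rw [h0, map_zero]))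

lemma eig_of_surjective [FiniteDimensional K V] (p : V →ₗ[K] V') (hp : Function.Surjective p)
    (φ : Module.End K V) (φ' : Module.End K V') (hc : ∀ v, p (φ v) = φ' (p v)) {μ : K}
    (h : φ'.HasEigenvalue μ) : φ.HasEigenvalue μ := by
  haveI : FiniteDimensional K V' := Module.Finite.of_surjective p hp
  by_contra hne
  have hinj : Function.Injective (φ - μ • (1 : Module.End K V)) := by
    rw [← LinearMap.ker_eq_bot, ← Module.End.eigenspace_def]
    by_contra hb
    exact hne (Module.End.hasEigenvalue_iff.2 hb)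
  have hsurj : Function.Surjective (φ - μ • (1 : Module.End K V)) :=
    LinearMap.injective_iff_surjective.1 hinj
  have hsurj' : Function.Surjective (φ' - μ • (1 : Module.End K V')) := by
    intro w
    obtain ⟨v, rfl⟩ := hp w
    obtain ⟨x, hx⟩ := hsurj v
    refine ⟨p x, ?_⟩
    rw [← hx]
    simp only [LinearMap.sub_apply, LinearMap.smul_apply, Module.End.one_apply, map_sub, map_smul,
      hc]
  have hinj' : Function.Injective (φ' - μ • (1 : Module.End K V')) :=
    LinearMap.injective_iff_surjective.2 hsurj'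
  have h0 : φ'.eigenspace μ = ⊥ := by
    rw [Module.End.eigenspace_def, LinearMap.ker_eq_bot]
    exact hinj'
  exact Module.End.hasEigenvalue_iff.1 h h0

lemma finrank_le_of_surjective [FiniteDimensional K V] (p : V →ₗ[K] V')
    (hp : Function.Surjective p) : Module.finrank K V' ≤ Module.finrank K V := by
  have h1 := LinearMap.finrank_range_le p
  rw [LinearMap.range_eq_top.2 hp, finrank_top] at h1
  exact h1

end LA

section Mod

variable {M M' M'' : ModuleCat.{u} (Polynomial ℂ)}

lemma tr_eq_of_iso (e : M ≅ M') : tr M = tr M' := by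
  let ε : F.obj M ≃ₗ[ℂ] F.obj M' := (F.mapIso e).toLinearEquiv
  have h : Φ M' = ε.conj (Φ M) := by
    apply LinearMap.ext
    intro w
    obtain ⟨v, rfl⟩ := ε.surjective w
    rw [LinearEquiv.conj_apply_apply, LinearEquiv.symm_apply_apply]
    exact (Φ_comm e.hom v).symm
  rw [tr, tr, h, LinearMap.trace_conj']

lemma tr_eq_zero_of_isZero (h : IsZero M) : tr M = 0 := by
  haveI : Subsingleton (F.obj M) := (ModuleCat.subsingleton_of_isZero h : Subsingleton M)
  have : Φ M = 0 := Subsingleton.elim _ _
  rw [tr, this, map_zero]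

lemma tr_congr_submodule {B B' : Submodule (Polynomial ℂ) M} (h : B = B') :
    tr (ModuleCat.of (Polynomial ℂ) B) = tr (ModuleCat.of (Polynomial ℂ) B') := by
  subst h
  rfl

/-- `M'` is dominated by `M`. -/
def Dom (M' M : ModuleCat.{u} (Polynomial ℂ)) : Prop :=
  (IsZero M → IsZero M') ∧ (Module.Finite ℂ (F.obj M) → Module.Finite ℂ (F.obj M') ∧
    Module.finrank ℂ (F.obj M') ≤ Module.finrank ℂ (F.obj M) ∧
    ∀ μ : ℂ, Module.End.HasEigenvalue (Φ M') μ → Module.End.HasEigenvalue (Φ M) μ)

lemma Dom.trans {M₁ M₂ M₃ : ModuleCat.{u} (Polynomial ℂ)} (h12 : Dom M₁ M₂) (h23 : Dom M₂ M₃) :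
    Dom M₁ M₃ := by
  refine ⟨fun h => h12.1 (h23.1 h), fun hf => ?_⟩
  obtain ⟨f2, r2, e2⟩ := h23.2 hf
  obtain ⟨f1, r1, e1⟩ := h12.2 f2
  exact ⟨f1, r1.trans r2, fun μ h => e2 μ (e1 μ h)⟩

lemma dom_of_injective (g : M' ⟶ M) (hg : Function.Injective g.hom) : Dom M' M := by
  have hg' : Function.Injective (F.map g).hom := hg
  refine ⟨fun h => ?_, fun hf => ?_⟩
  · haveI : Subsingleton M := ModuleCat.subsingleton_of_isZero h
    haveI : Subsingleton M' := hg.subsingleton
    exact ModuleCat.isZero_of_subsingleton M'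
  · haveI := hf
    haveI : Module.Finite ℂ (F.obj M') := Module.Finite.of_injective (F.map g).hom hg'
    exact ⟨inferInstance, LinearMap.finrank_le_finrank_of_injective hg',
      fun μ h => eig_of_injective (F.map g).hom hg' (Φ M') (Φ M) (Φ_comm g) h⟩

lemma dom_of_surjective (g : M ⟶ M') (hg : Function.Surjective g.hom) : Dom M' M := by
  have hg' : Function.Surjective (F.map g).hom := hg
  refine ⟨fun h => ?_, fun hf => ?_⟩
  · haveI : Subsingleton M := ModuleCat.subsingleton_of_isZero h
    haveI : Subsingleton M' := hg.subsingleton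
    exact ModuleCat.isZero_of_subsingleton M'
  · haveI := hf
    exact ⟨Module.Finite.of_surjective (F.map g).hom hg', finrank_le_of_surjective _ hg',
      fun μ h => eig_of_surjective (F.map g).hom hg' (Φ M) (Φ M') (Φ_comm g) h⟩

lemma dom_of_iso (e : M' ≅ M) : Dom M' M :=
  dom_of_injective e.hom ((ModuleCat.mono_iff_injective e.hom).1 inferInstance)

lemma dom_range_left (g : M ⟶ M') :
    Dom (ModuleCat.of (Polynomial ℂ) (LinearMap.range g.hom)) M' :=
  dom_of_injective (ModuleCat.ofHom (LinearMap.range g.hom).subtype) Subtype.val_injective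

lemma dom_range_right (g : M ⟶ M') :
    Dom (ModuleCat.of (Polynomial ℂ) (LinearMap.range g.hom)) M :=
  dom_of_surjective (ModuleCat.ofHom g.hom.rangeRestrict) g.hom.surjective_rangeRestrict

lemma tr_of_exact (i : M' ⟶ M) (p : M ⟶ M'') (hi : Function.Injective i.hom)
    (hp : Function.Surjective p.hom) (hex : Function.Exact i.hom p.hom)
    [Module.Finite ℂ (F.obj M)] : tr M = tr M' + tr M'' := by
  have hi' : Function.Injective (F.map i).hom := hi
  have hp' : Function.Surjective (F.map p).hom := hp
  have hex' : Function.Exact (F.map i).hom (F.map p).hom := hex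
  haveI : Module.Finite ℂ (F.obj M') := Module.Finite.of_injective (F.map i).hom hi'
  exact Groth.Agent.Lib.H5bTrace.trace_of_exact (F.map i).hom (F.map p).hom hi' hp' hex'
    (Φ M') (Φ M) (Φ M'') (Φ_comm i) (Φ_comm p)

end Mod

section SC

variable (S : ShortComplex (ModuleCat.{u} (Polynomial ℂ)))

lemma dom_homology : Dom S.homology S.X₂ :=
  (dom_of_iso S.moduleCatHomologyIso).trans
    ((dom_of_surjective (ModuleCat.ofHom (LinearMap.range S.moduleCatToCycles).mkQ)
      (Submodule.mkQ_surjective _)).trans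
      (dom_of_injective (ModuleCat.ofHom (LinearMap.ker S.g.hom).subtype) Subtype.val_injective))

theorem tr_shortComplex [Module.Finite ℂ (F.obj S.X₂)] :
    tr S.X₂ = tr S.homology + tr (ModuleCat.of (Polynomial ℂ) (LinearMap.range S.f.hom)) +
      tr (ModuleCat.of (Polynomial ℂ) (LinearMap.range S.g.hom)) := by
  have h1 : tr S.X₂ = tr (ModuleCat.of (Polynomial ℂ) (LinearMap.ker S.g.hom)) +
      tr (ModuleCat.of (Polynomial ℂ) (LinearMap.range S.g.hom)) := by
    refine tr_of_exact (ModuleCat.ofHom (LinearMap.ker S.g.hom).subtype)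
      (ModuleCat.ofHom S.g.hom.rangeRestrict) Subtype.val_injective
      S.g.hom.surjective_rangeRestrict ?_
    rw [LinearMap.exact_iff]
    change LinearMap.ker S.g.hom.rangeRestrict = LinearMap.range (LinearMap.ker S.g.hom).subtype
    rw [LinearMap.ker_rangeRestrict, Submodule.range_subtype]
  haveI : Module.Finite ℂ (F.obj (ModuleCat.of (Polynomial ℂ) (LinearMap.ker S.g.hom))) :=
    ((dom_of_injective (ModuleCat.ofHom (LinearMap.ker S.g.hom).subtype)
      Subtype.val_injective).2 inferInstance).1
  have h2 : tr (ModuleCat.of (Polynomial ℂ) (LinearMap.ker S.g.hom)) =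
      tr (ModuleCat.of (Polynomial ℂ) (LinearMap.range S.moduleCatToCycles)) +
      tr (ModuleCat.of (Polynomial ℂ)
        (LinearMap.ker S.g.hom ⧸ LinearMap.range S.moduleCatToCycles)) :=
    tr_of_exact (ModuleCat.ofHom (LinearMap.range S.moduleCatToCycles).subtype)
      (ModuleCat.ofHom (LinearMap.range S.moduleCatToCycles).mkQ) Subtype.val_injective
      (Submodule.mkQ_surjective _) (LinearMap.exact_subtype_mkQ _)
  have h3 : tr (ModuleCat.of (Polynomial ℂ) (LinearMap.range S.moduleCatToCycles)) =
      tr (ModuleCat.of (Polynomial ℂ) (LinearMap.range S.f.hom)) := by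
    have hmap : (LinearMap.range S.moduleCatToCycles).map (LinearMap.ker S.g.hom).subtype =
        LinearMap.range S.f.hom := by
      rw [← LinearMap.range_comp]
      congr 1
    rw [← tr_congr_submodule hmap]
    exact tr_eq_of_iso (Submodule.equivMapOfInjective (LinearMap.ker S.g.hom).subtype
      Subtype.val_injective (LinearMap.range S.moduleCatToCycles)).toModuleIso
  have h4 : tr S.homology = tr (ModuleCat.of (Polynomial ℂ)
      (LinearMap.ker S.g.hom ⧸ LinearMap.range S.moduleCatToCycles)) :=
    tr_eq_of_iso S.moduleCatHomologyIso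
  rw [h1, h2, h3, h4]
  ring

end SC

end Groth.Agent.Lib.R2H7.TrSS
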