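import Groth.Agent.Lib.R2H7TrSSA
import Groth.Agent.S14280

/-!
# Alternating sums of traces on the pages of a spectral sequence of `ℂ[X]`-modules
(helper7, round 2)
-/

set_option autoImplicit false
set_option linter.style.haveILetI false
universe u
open CategoryTheory CategoryTheory.Limits Polynomial

namespace Groth.Agent.Lib.R2H7.TrSS

/-- the five-part boundedness condition on a family of `ℂ[X]`-modules indexed by `ℤ × ℤ`. -/
structure Bdd (N : ℕ) (a c : ℕ → ℝ) (b d : ℕ → ℕ)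
    (M : ℤ × ℤ → ModuleCat.{u} (Polynomial ℂ)) : Prop where
  quad : ∀ pq : ℤ × ℤ, pq.1 < 0 ∨ pq.2 < 0 → IsZero (M pq)
  fin : ∀ pq : ℤ × ℤ, Module.Finite ℂ (F.obj (M pq))
  van : ∀ p q : ℕ, N < q → IsZero (M ((p : ℤ), (q : ℤ)))
  eig : ∀ (p q : ℕ) (μ : ℂ), Module.End.HasEigenvalue (Φ (M ((p : ℤ), (q : ℤ)))) μ →
    ‖μ‖ ≤ a q * c p
  rk : ∀ p q : ℕ, Module.finrank ℂ (F.obj (M ((p : ℤ), (q : ℤ)))) ≤ b q * d p

section

variable {N : ℕ} {a c : ℕ → ℝ} {b d : ℕ → ℕ} {M M' : ℤ × ℤ → ModuleCat.{u} (Polynomial ℂ)}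

lemma Bdd.of_dom (h : Bdd N a c b d M) (hd : ∀ pq, Dom (M' pq) (M pq)) : Bdd N a c b d M' :=
  ⟨fun pq hpq => (hd pq).1 (h.quad pq hpq), fun pq => ((hd pq).2 (h.fin pq)).1,
    fun p q hq => (hd _).1 (h.van p q hq),
    fun p q μ hμ => h.eig p q μ (((hd _).2 (h.fin _)).2.2 μ hμ),
    fun p q => (((hd _).2 (h.fin _)).2.1).trans (h.rk p q)⟩

lemma Bdd.summable (h : Bdd N a c b d M) (ha : ∀ q, 0 ≤ a q) (hc : ∀ p, 0 ≤ c p)
    (hsum : Summable fun p : ℕ => c p * (d p : ℝ)) :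
    Summable fun pq : ℕ × ℕ => ‖tr (M ((pq.1 : ℤ), (pq.2 : ℤ)))‖ := by
  haveI : ∀ p q : ℕ, FiniteDimensional ℂ (F.obj (M ((p : ℤ), (q : ℤ)))) := fun p q => h.fin _
  exact Groth.Agent.S14280.result (fun p q => F.obj (M ((p : ℤ), (q : ℤ))))
    (fun p q => Φ (M ((p : ℤ), (q : ℤ)))) N a c b d ha hc
    (fun p q hq => (ModuleCat.subsingleton_of_isZero (h.van p q hq) :
      Subsingleton (M ((p : ℤ), (q : ℤ)))))
    (fun p q μ => h.eig p q μ) (fun p q => h.rk p q) hsum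

end

/-! ### sums over `ℕ × ℕ` and `ℤ × ℤ` -/

/-- the inclusion of the first quadrant -/
def ι : ℕ × ℕ → ℤ × ℤ := fun pq => ((pq.1 : ℤ), (pq.2 : ℤ))

lemma ι_injective : Function.Injective ι := by
  rintro ⟨p, q⟩ ⟨p', q'⟩ h
  simp only [ι, Prod.mk.injEq, Nat.cast_inj] at h
  exact Prod.ext h.1 h.2

lemma neg_of_not_mem_range_ι {x : ℤ × ℤ} (hx : x ∉ Set.range ι) : x.1 < 0 ∨ x.2 < 0 := by
  by_contra h
  push Not at h
  refine hx ⟨(x.1.toNat, x.2.toNat), ?_⟩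
  ext
  · simp [ι, Int.toNat_of_nonneg h.1]
  · simp [ι, Int.toNat_of_nonneg h.2]

/-- the sign `(-1)^(p+q)` on `ℤ × ℤ` -/
noncomputable def sgn (x : ℤ × ℤ) : ℂ := if Even (x.1 + x.2) then 1 else -1

lemma sgn_ι (pq : ℕ × ℕ) : sgn (ι pq) = (-1 : ℂ) ^ (pq.1 + pq.2) := by
  unfold sgn ι
  have h : Even ((pq.1 : ℤ) + (pq.2 : ℤ)) ↔ Even (pq.1 + pq.2) := by
    rw [← Nat.cast_add, Int.even_coe_nat]
  by_cases he : Even (pq.1 + pq.2)
  · rw [if_pos (h.2 he), he.neg_one_pow]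
  · rw [if_neg (fun h' => he (h.1 h')), (Nat.not_even_iff_odd.1 he).neg_one_pow]

lemma sgn_add (x a : ℤ × ℤ) (ha : a.1 + a.2 = 1) : sgn (x + a) = - sgn x := by
  unfold sgn
  have h : (x + a).1 + (x + a).2 = (x.1 + x.2) + 1 := by
    simp only [Prod.fst_add, Prod.snd_add]
    linarith
  rw [h]
  by_cases he : Even (x.1 + x.2)
  · have h1 : ¬ Even (x.1 + x.2 + 1) := by
      rw [Int.even_add_one]
      exact not_not.2 he
    rw [if_neg h1, if_pos he]
  · have h1 : Even (x.1 + x.2 + 1) := by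
      rw [Int.even_add_one]
      exact he
    rw [if_pos h1, if_neg he, neg_neg]

lemma norm_sgn (x : ℤ × ℤ) : ‖sgn x‖ = 1 := by
  unfold sgn
  split_ifs <;> simp

/-- functions supported on the first quadrant and absolutely summable there -/
structure Good (f : ℤ × ℤ → ℂ) : Prop where
  supp : ∀ x : ℤ × ℤ, x.1 < 0 ∨ x.2 < 0 → f x = 0
  summ : Summable fun pq : ℕ × ℕ => ‖f (ι pq)‖

lemma Good.summable {f : ℤ × ℤ → ℂ} (hf : Good f) : Summable (fun x => sgn x * f x) := by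
  apply Summable.of_norm
  have h1 : Summable (fun x : ℤ × ℤ => ‖f x‖) := by
    refine (ι_injective.summable_iff (f := fun x : ℤ × ℤ => ‖f x‖) ?_).1 hf.summ
    intro x hx
    simp [hf.supp x (neg_of_not_mem_range_ι hx)]
  refine h1.congr ?_
  intro x
  rw [norm_mul, norm_sgn, one_mul]

lemma Good.tsum_nat {f : ℤ × ℤ → ℂ} (hf : Good f) :
    ∑' pq : ℕ × ℕ, (-1 : ℂ) ^ (pq.1 + pq.2) * f (ι pq) = ∑' x : ℤ × ℤ, sgn x * f x := by
  have h := ι_injective.tsum_eq (f := fun x : ℤ × ℤ => sgn x * f x) (by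
    intro x hx
    by_contra hx'
    exact hx (by simp [hf.supp x (neg_of_not_mem_range_ι hx')]))
  rw [← h]
  exact tsum_congr (fun pq => by rw [sgn_ι])

theorem tsum_eq_of_telescope {TV TH β : ℤ × ℤ → ℂ} (a : ℤ × ℤ) (ha : a.1 + a.2 = 1)
    (hV : Good TV) (hH : Good TH) (hβ : Good β) (hrel : ∀ x, TV x = TH x + β x + β (x + a)) :
    ∑' pq : ℕ × ℕ, (-1 : ℂ) ^ (pq.1 + pq.2) * TH (ι pq) =
      ∑' pq : ℕ × ℕ, (-1 : ℂ) ^ (pq.1 + pq.2) * TV (ι pq) := by
  rw [hV.tsum_nat, hH.tsum_nat]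
  have s1 := hH.summable
  have s2 := hβ.summable
  have hfun : (fun x => sgn x * β (x + a)) =
      fun x => -((fun y => sgn y * β y) ((Equiv.addRight a) x)) := by
    funext x
    simp only [Equiv.coe_addRight, sgn_add x a ha]
    ring
  have s3 : Summable (fun x => sgn x * β (x + a)) := by
    rw [hfun]
    exact ((Equiv.addRight a).summable_iff.2 s2).neg
  have e3 : ∑' x, sgn x * β (x + a) = - ∑' x, sgn x * β x := by
    rw [hfun, tsum_neg, (Equiv.addRight a).tsum_eq (fun y => sgn y * β y)]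
  have e4 : ∑' x, sgn x * TV x = ∑' x, (sgn x * TH x + sgn x * β x + sgn x * β (x + a)) := by
    refine tsum_congr (fun x => ?_)
    rw [hrel]
    ring
  rw [e4, Summable.tsum_add (s1.add s2) s3, Summable.tsum_add s1 s2, e3]
  ring

/-! ### complexes with differential of bidegree `a` -/

section Cx

variable (a : ℤ × ℤ) (C : HomologicalComplex (ModuleCat.{u} (Polynomial ℂ)) (ComplexShape.up' a))

/-- the image of the differential arriving at `x`, as a `ℂ[X]`-module -/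
noncomputable def Bm (x : ℤ × ℤ) : ModuleCat.{u} (Polynomial ℂ) :=
  ModuleCat.of (Polynomial ℂ) (LinearMap.range (C.dTo x).hom)

lemma next_eq (x : ℤ × ℤ) : (ComplexShape.up' a).next x = x + a :=
  (ComplexShape.up' a).next_eq' rfl

lemma range_dFrom (x : ℤ × ℤ) :
    LinearMap.range (C.dFrom x).hom =
      LinearMap.range (C.dTo ((ComplexShape.up' a).next x)).hom := by
  have hrel : (ComplexShape.up' a).Rel x ((ComplexShape.up' a).next x) := by
    rw [next_eq]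
    rfl
  rw [C.dTo_eq hrel, ModuleCat.hom_comp, LinearMap.range_comp_of_range_eq_top _
    (LinearMap.range_eq_top.2 ((ModuleCat.epi_iff_surjective _).1 inferInstance))]

theorem tr_X_eq (x : ℤ × ℤ) [Module.Finite ℂ (F.obj (C.X x))] :
    tr (C.X x) = tr (C.homology x) + tr (Bm a C x) + tr (Bm a C (x + a)) := by
  haveI : Module.Finite ℂ (F.obj (C.sc x).X₂) := ‹_›
  have h := tr_shortComplex (C.sc x)
  rw [← next_eq a x]
  unfold Bm
  rw [← tr_congr_submodule (range_dFrom a C x)]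
  exact h

lemma dom_homology_X (x : ℤ × ℤ) : Dom (C.homology x) (C.X x) := dom_homology (C.sc x)

lemma dom_Bm (x : ℤ × ℤ) : Dom (Bm a C x) (C.X x) := dom_range_left (C.dTo x)

variable {N : ℕ} {α γ : ℕ → ℝ} {b d : ℕ → ℕ}

lemma good_of_bdd {M : ℤ × ℤ → ModuleCat.{u} (Polynomial ℂ)} (h : Bdd N α γ b d M)
    (ha : ∀ q, 0 ≤ α q) (hc : ∀ p, 0 ≤ γ p) (hsum : Summable fun p : ℕ => γ p * (d p : ℝ)) :
    Good (fun x => tr (M x)) :=
  ⟨fun x hx => tr_eq_zero_of_isZero (h.quad x hx), h.summable ha hc hsum⟩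

theorem tsum_homology_eq (ha1 : a.1 + a.2 = 1) (h : Bdd N α γ b d (fun x => C.X x))
    (ha : ∀ q, 0 ≤ α q) (hc : ∀ p, 0 ≤ γ p) (hsum : Summable fun p : ℕ => γ p * (d p : ℝ)) :
    ∑' pq : ℕ × ℕ, (-1 : ℂ) ^ (pq.1 + pq.2) * tr (C.homology ((pq.1 : ℤ), (pq.2 : ℤ))) =
      ∑' pq : ℕ × ℕ, (-1 : ℂ) ^ (pq.1 + pq.2) * tr (C.X ((pq.1 : ℤ), (pq.2 : ℤ))) := by
  have hH : Bdd N α γ b d (fun x => C.homology x) := h.of_dom (fun x => dom_homology_X a C x)
  have hB : Bdd N α γ b d (fun x => Bm a C x) := h.of_dom (fun x => dom_Bm a C x)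
  exact tsum_eq_of_telescope (TV := fun x => tr (C.X x)) (TH := fun x => tr (C.homology x))
    (β := fun x => tr (Bm a C x)) a ha1 (good_of_bdd h ha hc hsum) (good_of_bdd hH ha hc hsum)
    (good_of_bdd hB ha hc hsum)
    (fun x => by
      haveI : Module.Finite ℂ (F.obj (C.X x)) := h.fin x
      exact tr_X_eq a C x)

end Cx

end Groth.Agent.Lib.R2H7.TrSS
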