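import Groth.Agent.Lib.R2H7TrSSB
import Groth.Prelude.Def_SpSeq

/-!
# Alternating trace of the abutment of a first quadrant spectral sequence of `ℂ[X]`-modules
with bounded rows (helper7, round 2)
-/

set_option autoImplicit false
set_option linter.style.haveILetI false
universe u
open CategoryTheory CategoryTheory.Limits Polynomial

namespace Groth.Agent.Lib.R2H7.TrSS

/-! ### Part 1: resummation along antidiagonals -/

/-- the sign of an integer -/
noncomputable def sg (n : ℤ) : ℂ := if Even n then 1 else -1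

lemma sg_natCast (n : ℕ) : sg (n : ℤ) = (-1 : ℂ) ^ n := by
  unfold sg
  by_cases he : Even n
  · rw [if_pos ((Int.even_coe_nat n).2 he), he.neg_one_pow]
  · rw [if_neg (fun h => he ((Int.even_coe_nat n).1 h)), (Nat.not_even_iff_odd.1 he).neg_one_pow]

lemma norm_sg (n : ℤ) : ‖sg n‖ = 1 := by
  unfold sg
  split_ifs <;> simp

/-- the reindexing `(n, p) ↦ (p, n - p)` -/
def eNP : ℤ × ℤ ≃ ℤ × ℤ where
  toFun y := (y.2, y.1 - y.2)
  invFun x := (x.1 + x.2, x.1)
  left_inv y := by ext <;> simp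
  right_inv x := by ext <;> simp

lemma sgn_eNP (y : ℤ × ℤ) : sgn (eNP y) = sg y.1 := by
  unfold sgn sg eNP
  simp

theorem resum {f : ℤ × ℤ → ℂ} (hf : Good f) (t : ℤ → ℂ)
    (ht : ∀ n, t n = ∑' p : ℤ, f (p, n - p)) :
    Summable (fun n : ℕ => ‖t (n : ℤ)‖) ∧
      ∑' n : ℕ, (-1 : ℂ) ^ n * t (n : ℤ) =
        ∑' pq : ℕ × ℕ, (-1 : ℂ) ^ (pq.1 + pq.2) * f (ι pq) := by
  have hn : Summable (fun x : ℤ × ℤ => ‖f x‖) := by
    refine (ι_injective.summable_iff (f := fun x : ℤ × ℤ => ‖f x‖) ?_).1 hf.summ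
    intro x hx
    simp [hf.supp x (neg_of_not_mem_range_ι hx)]
  have hn' : Summable (fun y : ℤ × ℤ => ‖f (eNP y)‖) :=
    (eNP.summable_iff (f := fun x => ‖f x‖)).2 hn
  have hg : Summable (fun y : ℤ × ℤ => sg y.1 * f (eNP y)) := by
    apply Summable.of_norm
    refine hn'.congr (fun y => ?_)
    rw [norm_mul, norm_sg, one_mul]
  have ht' : ∀ n : ℤ, t n = ∑' p : ℤ, f (eNP (n, p)) := fun n => ht n
  have ht0 : ∀ n : ℤ, n < 0 → t n = 0 := by
    intro n hn0
    rw [ht n]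
    refine (tsum_congr (fun p => ?_)).trans tsum_zero
    apply hf.supp
    by_cases hp : p < 0
    · exact Or.inl hp
    · right
      change n - p < 0
      omega
  constructor
  · have h1 : Summable (fun n : ℤ => ∑' p : ℤ, ‖f (eNP (n, p))‖) := hn'.prod
    have h2 : Summable (fun n : ℕ => ∑' p : ℤ, ‖f (eNP ((n : ℤ), p))‖) :=
      h1.comp_injective Nat.cast_injective
    refine Summable.of_nonneg_of_le (fun n => norm_nonneg _) (fun n => ?_) h2
    rw [ht']
    exact norm_tsum_le_tsum_norm (hn'.prod_factor (n : ℤ))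
  · have e1 : ∑' n : ℕ, (-1 : ℂ) ^ n * t (n : ℤ) = ∑' n : ℤ, sg n * t n := by
      have h := (Nat.cast_injective (R := ℤ)).tsum_eq (f := fun n : ℤ => sg n * t n) (by
        intro n hn0
        by_contra hr
        apply hn0
        have hneg : n < 0 := by
          by_contra h'
          push Not at h'
          exact hr ⟨n.toNat, Int.toNat_of_nonneg h'⟩
        simp [ht0 n hneg])
      rw [← h]
      exact tsum_congr (fun n => by rw [sg_natCast])
    have e2 : ∀ n : ℤ, sg n * t n = ∑' p : ℤ, sg n * f (eNP (n, p)) := fun n => by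
      rw [ht', tsum_mul_left]
    have e3 : ∑' y : ℤ × ℤ, sg y.1 * f (eNP y) = ∑' x : ℤ × ℤ, sgn x * f x := by
      rw [← eNP.tsum_eq (fun x => sgn x * f x)]
      exact tsum_congr (fun y => by rw [sgn_eNP])
    have e4 : ∑' n : ℤ, ∑' p : ℤ, sg n * f (eNP (n, p)) = ∑' y : ℤ × ℤ, sg y.1 * f (eNP y) :=
      (hg.tsum_prod).symm
    rw [e1, tsum_congr e2, e4, e3, hf.tsum_nat]

/-! ### Part 2: traces along a finite filtration -/

section Chain

variable {X : ModuleCat.{u} (Polynomial ℂ)} (fil : ℤ → Subobject X) (anti : Antitone fil)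

lemma isZero_of_eq_bot (S : Subobject X) (h : S = ⊥) : IsZero (S : ModuleCat.{u} (Polynomial ℂ)) := by
  subst h
  exact IsZero.of_iso (isZero_zero _) Subobject.botCoeIsoZero

include anti in
lemma fil_eq_top_of_le {A p : ℤ} (hA : fil A = ⊤) (h : p ≤ A) : fil p = ⊤ :=
  top_le_iff.1 (hA ▸ anti h)

include anti in
lemma fil_eq_bot_of_le {B p : ℤ} (hB : fil B = ⊥) (h : B ≤ p) : fil p = ⊥ :=
  le_bot_iff.1 (hB ▸ anti h)

lemma isZero_grPiece_of_eq (p : ℤ) (h : fil (p + 1) = fil p) :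
    IsZero (SpSeq.grPiece fil anti p) := by
  unfold SpSeq.grPiece SpSeq.subquot
  have : IsIso ((fil (p + 1)).ofLE (fil p) (anti (Int.le_add_one le_rfl))) := by
    have : (fil (p + 1)).ofLE (fil p) (anti (Int.le_add_one le_rfl)) =
        (Subobject.isoOfEq _ _ h).hom := rfl
    rw [this]
    infer_instance
  exact isZero_cokernel_of_epi _

lemma chain_step (p : ℤ)
    (h1 : Module.Finite ℂ (F.obj ((fil (p + 1) : Subobject X) : ModuleCat.{u} (Polynomial ℂ))))
    (h2 : Module.Finite ℂ (F.obj (SpSeq.grPiece fil anti p))) :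
    Module.Finite ℂ (F.obj ((fil p : Subobject X) : ModuleCat.{u} (Polynomial ℂ))) ∧
      tr ((fil p : Subobject X) : ModuleCat.{u} (Polynomial ℂ)) =
        tr ((fil (p + 1) : Subobject X) : ModuleCat.{u} (Polynomial ℂ)) +
          tr (SpSeq.grPiece fil anti p) := by
  obtain ⟨i, hi⟩ : ∃ i : ((fil (p + 1) : Subobject X) : ModuleCat.{u} (Polynomial ℂ)) ⟶
      ((fil p : Subobject X) : ModuleCat.{u} (Polynomial ℂ)),
      i = (fil (p + 1)).ofLE (fil p) (anti (Int.le_add_one le_rfl)) := ⟨_, rfl⟩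
  have hgr : SpSeq.grPiece fil anti p = cokernel i := by
    rw [hi]
    rfl
  rw [hgr] at h2 ⊢
  haveI : Mono i := by
    rw [hi]
    infer_instance
  have hS : (ShortComplex.mk i (cokernel.π i) (cokernel.condition i)).Exact :=
    ShortComplex.exact_of_g_is_cokernel _ (cokernelIsCokernel i)
  have hrk : LinearMap.range i.hom = LinearMap.ker (cokernel.π i).hom := hS.moduleCat_range_eq_ker
  have hinj : Function.Injective i.hom := (ModuleCat.mono_iff_injective i).1 inferInstance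
  have hsurj : Function.Surjective (cokernel.π i).hom :=
    (ModuleCat.epi_iff_surjective _).1 inferInstance
  have hfin : Module.Finite ℂ (F.obj ((fil p : Subobject X) : ModuleCat.{u} (Polynomial ℂ))) := by
    haveI := h1
    haveI := h2
    have hrk' : LinearMap.range (F.map i).hom = LinearMap.ker (F.map (cokernel.π i)).hom := by
      ext v
      exact SetLike.ext_iff.1 hrk v
    haveI := isNoetherian_of_range_eq_ker (F.map i).hom (F.map (cokernel.π i)).hom hrk'
    infer_instance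
  haveI := hfin
  exact ⟨hfin, tr_of_exact i (cokernel.π i) hinj hsurj (LinearMap.exact_iff.2 hrk.symm)⟩

theorem tr_eq_tsum_gr (hfin : ∀ p, Module.Finite ℂ (F.obj (SpSeq.grPiece fil anti p)))
    (A B : ℤ) (hA : fil A = ⊤) (hB : fil B = ⊥) :
    tr X = ∑' p : ℤ, tr (SpSeq.grPiece fil anti p) := by
  have key : ∀ k : ℕ, ∀ p : ℤ, p = B - k →
      Module.Finite ℂ (F.obj ((fil p : Subobject X) : ModuleCat.{u} (Polynomial ℂ))) ∧
      tr ((fil p : Subobject X) : ModuleCat.{u} (Polynomial ℂ)) =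
        ∑ j ∈ Finset.range k, tr (SpSeq.grPiece fil anti (B - 1 - (j : ℤ))) := by
    intro k
    induction k with
    | zero =>
      intro p hp
      have hpb : fil p = ⊥ := by
        rw [hp]
        simpa using hB
      have hz : IsZero ((fil p : Subobject X) : ModuleCat.{u} (Polynomial ℂ)) :=
        isZero_of_eq_bot _ hpb
      refine ⟨?_, by rw [tr_eq_zero_of_isZero hz]; simp⟩
      haveI : Subsingleton (F.obj ((fil p : Subobject X) : ModuleCat.{u} (Polynomial ℂ))) :=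
        (ModuleCat.subsingleton_of_isZero hz :
          Subsingleton ((fil p : Subobject X) : ModuleCat.{u} (Polynomial ℂ)))
      infer_instance
    | succ k ih =>
      intro p hp
      obtain ⟨f1, t1⟩ := ih (p + 1) (by rw [hp]; push_cast; ring)
      obtain ⟨f2, t2⟩ := chain_step fil anti p f1 (hfin p)
      refine ⟨f2, ?_⟩
      rw [t2, t1, Finset.sum_range_succ]
      have hidx : B - 1 - (k : ℤ) = p := by rw [hp]; push_cast; ring
      rw [hidx]
  obtain ⟨K, hK⟩ : ∃ K : ℕ, B - (K : ℤ) ≤ A := ⟨(B - A).toNat, by omega⟩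
  obtain ⟨-, t0⟩ := key K (B - K) rfl
  have htop : fil (B - (K : ℤ)) = ⊤ := fil_eq_top_of_le fil anti hA hK
  haveI : IsIso (fil (B - (K : ℤ))).arrow := (Subobject.isIso_arrow_iff_eq_top _).2 htop
  have e0 : tr X = tr ((fil (B - (K : ℤ)) : Subobject X) : ModuleCat.{u} (Polynomial ℂ)) :=
    (tr_eq_of_iso (asIso (fil (B - (K : ℤ))).arrow)).symm
  rw [e0, t0]
  have hinj : Set.InjOn (fun j : ℕ => B - 1 - (j : ℤ)) (Finset.range K : Set ℕ) := by
    intro i _ j _ hij
    simp only at hij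
    omega
  rw [tsum_eq_sum (s := (Finset.range K).image (fun j : ℕ => B - 1 - (j : ℤ))) ?_,
    Finset.sum_image hinj]
  intro p hp
  apply tr_eq_zero_of_isZero
  apply isZero_grPiece_of_eq
  by_cases hpB : B ≤ p
  · rw [fil_eq_bot_of_le fil anti hB hpB, fil_eq_bot_of_le fil anti hB (by omega : B ≤ p + 1)]
  · have hlt : p + 1 ≤ B - (K : ℤ) := by
      by_contra hcon
      apply hp
      rw [Finset.mem_image]
      refine ⟨(B - 1 - p).toNat, ?_, ?_⟩
      · rw [Finset.mem_range]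
        omega
      · omega
    rw [fil_eq_top_of_le fil anti htop (by omega : p ≤ B - (K : ℤ)),
      fil_eq_top_of_le fil anti htop hlt]

end Chain

/-! ### Part 3: pages -/

section Pages

variable (E : E₂CohomologicalSpectralSequence (ModuleCat.{u} (Polynomial ℂ)))
  {N : ℕ} {a c : ℕ → ℝ} {b d : ℕ → ℕ}

lemma dom_page_succ (r : ℤ) (hr : 2 ≤ r) (hr' : 2 ≤ r + 1) (x : ℤ × ℤ) :
    Dom ((E.page (r + 1) hr').X x) ((E.page r hr).X x) :=
  (dom_of_iso (E.iso r (r + 1) x rfl hr).symm).trans (dom_homology_X _ (E.page r hr) x)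

theorem bdd_page (h2 : Bdd N a c b d (fun x => (E.page 2 le_rfl).X x)) :
    ∀ (r : ℤ) (hr : 2 ≤ r), Bdd N a c b d (fun x => (E.page r hr).X x) := by
  refine Int.leInduction (motive := fun r hr => Bdd N a c b d (fun x => (E.page r hr).X x)) h2 ?_
  intro r hr ih
  exact ih.of_dom (fun x => dom_page_succ E r hr _ x)

theorem tsum_page_eq (h2 : Bdd N a c b d (fun x => (E.page 2 le_rfl).X x))
    (ha : ∀ q, 0 ≤ a q) (hc : ∀ p, 0 ≤ c p) (hsum : Summable fun p : ℕ => c p * (d p : ℝ)) :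
    ∀ (r : ℤ) (hr : 2 ≤ r),
      ∑' pq : ℕ × ℕ, (-1 : ℂ) ^ (pq.1 + pq.2) * tr ((E.page r hr).X ((pq.1 : ℤ), (pq.2 : ℤ))) =
      ∑' pq : ℕ × ℕ, (-1 : ℂ) ^ (pq.1 + pq.2) *
        tr ((E.page 2 le_rfl).X ((pq.1 : ℤ), (pq.2 : ℤ))) := by
  refine Int.leInduction (motive := fun r hr =>
    ∑' pq : ℕ × ℕ, (-1 : ℂ) ^ (pq.1 + pq.2) * tr ((E.page r hr).X ((pq.1 : ℤ), (pq.2 : ℤ))) =
      ∑' pq : ℕ × ℕ, (-1 : ℂ) ^ (pq.1 + pq.2) *
        tr ((E.page 2 le_rfl).X ((pq.1 : ℤ), (pq.2 : ℤ)))) rfl ?_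
  intro r hr ih
  rw [← ih]
  have key := tsum_homology_eq (r, 1 - r) (E.page r hr) (by simp) (bdd_page E h2 r hr) ha hc hsum
  rw [← key]
  refine tsum_congr (fun pq => ?_)
  congr 1
  exact (tr_eq_of_iso (E.iso r (r + 1) ((pq.1 : ℤ), (pq.2 : ℤ)) rfl hr)).symm

lemma tr_range_eq_zero {M M' : ModuleCat.{u} (Polynomial ℂ)} (g : M ⟶ M') (hg : g = 0) :
    tr (ModuleCat.of (Polynomial ℂ) (LinearMap.range g.hom)) = 0 := by
  subst hg
  apply tr_eq_zero_of_isZero
  haveI : Subsingleton (LinearMap.range (0 : M ⟶ M').hom) := by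
    rw [ModuleCat.hom_zero, LinearMap.range_zero]
    infer_instance
  exact ModuleCat.isZero_of_subsingleton _

lemma tr_page_succ_of_d_zero (r : ℤ) (hr : 2 ≤ r) (hr' : 2 ≤ r + 1) (x : ℤ × ℤ)
    (hfin : Module.Finite ℂ (F.obj ((E.page r hr).X x)))
    (h1 : (E.page r hr).dTo x = 0) (h2 : (E.page r hr).dFrom x = 0) :
    tr ((E.page (r + 1) hr').X x) = tr ((E.page r hr).X x) := by
  haveI : Module.Finite ℂ (F.obj ((E.page r hr).sc x).X₂) := hfin
  have h := tr_shortComplex ((E.page r hr).sc x)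
  have z1 : tr (ModuleCat.of (Polynomial ℂ) (LinearMap.range ((E.page r hr).sc x).f.hom)) = 0 :=
    tr_range_eq_zero _ h1
  have z2 : tr (ModuleCat.of (Polynomial ℂ) (LinearMap.range ((E.page r hr).sc x).g.hom)) = 0 :=
    tr_range_eq_zero _ h2
  rw [z1, z2, add_zero, add_zero] at h
  rw [tr_eq_of_iso (E.iso r (r + 1) x rfl hr).symm]
  exact h.symm

lemma dTo_eq_zero_of_d {α : ℤ × ℤ}
    (C : HomologicalComplex (ModuleCat.{u} (Polynomial ℂ)) (ComplexShape.up' α)) (x : ℤ × ℤ)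
    (h : C.d (x - α) x = 0) : C.dTo x = 0 := by
  rw [C.dTo_eq (show (ComplexShape.up' α).Rel (x - α) x from sub_add_cancel x α), h, Limits.comp_zero]

lemma dFrom_eq_zero_of_d {α : ℤ × ℤ}
    (C : HomologicalComplex (ModuleCat.{u} (Polynomial ℂ)) (ComplexShape.up' α)) (x : ℤ × ℤ)
    (h : C.d x (x + α) = 0) : C.dFrom x = 0 := by
  rw [C.dFrom_eq (show (ComplexShape.up' α).Rel x (x + α) from rfl), h, Limits.zero_comp]

lemma d_eq_zero_of_large (r : ℤ) (hr : 2 ≤ r)
    (hB : Bdd N a c b d (fun x => (E.page r hr).X x)) (hN : (N : ℤ) + 2 ≤ r) (x : ℤ × ℤ) :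
    (E.page r hr).d x (x + (r, 1 - r)) = 0 := by
  by_cases hx : x.1 < 0 ∨ x.2 < 0
  · exact (hB.quad x hx).eq_of_src _ _
  · push Not at hx
    by_cases hq : (N : ℤ) < x.2
    · have hx' : x = ((x.1.toNat : ℤ), (x.2.toNat : ℤ)) := by
        ext
        · simp [Int.toNat_of_nonneg hx.1]
        · simp [Int.toNat_of_nonneg hx.2]
      have hz : IsZero ((E.page r hr).X x) := by
        rw [hx']
        exact hB.van _ _ (by omega)
      exact hz.eq_of_src _ _
    · have hz : IsZero ((E.page r hr).X (x + (r, 1 - r))) :=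
        hB.quad _ (Or.inr (by simp only [Prod.snd_add]; omega))
      exact hz.eq_of_tgt _ _

/-- the trace of the term at `x` on page `r` (zero for `r < 2`) -/
noncomputable def T (r : ℤ) (x : ℤ × ℤ) : ℂ :=
  if h : 2 ≤ r then tr ((E.page r h).X x) else 0

lemma T_eq (r : ℤ) (h : 2 ≤ r) (x : ℤ × ℤ) : T E r x = tr ((E.page r h).X x) := dif_pos h

lemma T_const_of_le (h2 : Bdd N a c b d (fun x => (E.page 2 le_rfl).X x)) (r₀ : ℤ) (hr₀ : 2 ≤ r₀)
    (x : ℤ × ℤ)
    (hd : ∀ (r' : ℤ) (h : 2 ≤ r'), r₀ ≤ r' →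
      (E.page r' h).dTo x = 0 ∧ (E.page r' h).dFrom x = 0) :
    ∀ r', r₀ ≤ r' → T E r' x = T E r₀ x := by
  refine Int.leInduction (motive := fun r' _ => T E r' x = T E r₀ x) rfl ?_
  intro r' hr' ih
  rw [← ih, T_eq E (r' + 1) (by omega), T_eq E r' (hr₀.trans hr')]
  exact tr_page_succ_of_d_zero E r' (hr₀.trans hr') _ x ((bdd_page E h2 r' _).fin x)
    (hd r' _ hr').1 (hd r' _ hr').2

variable {H : ℤ → ModuleCat.{u} (Polynomial ℂ)}

theorem main (abut : SpSeq.Abutment E H) (hfin : ∀ n, abut.IsFinite n)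
    (h2 : Bdd N a c b d (fun x => (E.page 2 le_rfl).X x))
    (ha : ∀ q, 0 ≤ a q) (hc : ∀ p, 0 ≤ c p) (hsum : Summable fun p : ℕ => c p * (d p : ℝ)) :
    Summable (fun n : ℕ => ‖tr (H (n : ℤ))‖) ∧
      ∑' n : ℕ, (-1 : ℂ) ^ n * tr (H (n : ℤ)) =
        ∑' pq : ℕ × ℕ, (-1 : ℂ) ^ (pq.1 + pq.2) *
          tr ((E.page 2 le_rfl).X ((pq.1 : ℤ), (pq.2 : ℤ))) := by
  have hR : (2 : ℤ) ≤ (N : ℤ) + 2 := by omega
  -- the limit term equals the term on page `N + 2`
  have hlim : ∀ x : ℤ × ℤ, tr ((E.page (abut.rk x) (abut.stat x).1).X x) = T E ((N : ℤ) + 2) x := by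
    intro x
    have hA := T_const_of_le E h2 (abut.rk x) (abut.stat x).1 x (fun r' h hr' =>
      ⟨dTo_eq_zero_of_d _ x ((abut.stat x).2 r' h hr').1,
        dFrom_eq_zero_of_d _ x ((abut.stat x).2 r' h hr').2⟩)
      (max (abut.rk x) ((N : ℤ) + 2)) (le_max_left _ _)
    have hB := T_const_of_le E h2 ((N : ℤ) + 2) hR x (fun r' h hr' =>
      ⟨dTo_eq_zero_of_d _ x (by
          have := d_eq_zero_of_large E r' h (bdd_page E h2 r' h) hr' (x - (r', 1 - r'))
          rwa [sub_add_cancel] at this),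
        dFrom_eq_zero_of_d _ x (d_eq_zero_of_large E r' h (bdd_page E h2 r' h) hr' x)⟩)
      (max (abut.rk x) ((N : ℤ) + 2)) (le_max_right _ _)
    rw [← T_eq E (abut.rk x) (abut.stat x).1 x, ← hA, hB]
  have hgood : Good (T E ((N : ℤ) + 2)) := by
    have := good_of_bdd (bdd_page E h2 _ hR) ha hc hsum
    have hfun : (fun x => tr ((E.page ((N : ℤ) + 2) hR).X x)) = T E ((N : ℤ) + 2) :=
      funext (fun x => (T_eq E _ hR x).symm)
    rwa [hfun] at this
  -- graded pieces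
  have hgr : ∀ x : ℤ × ℤ, tr (SpSeq.grPiece (abut.fil (x.1 + x.2)) (abut.anti (x.1 + x.2)) x.1) =
      T E ((N : ℤ) + 2) x := fun x => by
    rw [← hlim x]
    exact (tr_eq_of_iso (abut.β x)).symm
  have hgrfin : ∀ x : ℤ × ℤ, Module.Finite ℂ
      (F.obj (SpSeq.grPiece (abut.fil (x.1 + x.2)) (abut.anti (x.1 + x.2)) x.1)) := fun x =>
    ((dom_of_iso (abut.β x).symm).2 ((bdd_page E h2 _ (abut.stat x).1).fin x)).1
  have hgr' : ∀ (n m p : ℤ), m = n →
      tr (SpSeq.grPiece (abut.fil m) (abut.anti m) p) =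
        tr (SpSeq.grPiece (abut.fil n) (abut.anti n) p) := by
    rintro n _ p rfl
    rfl
  have hgrfin' : ∀ (n m p : ℤ), m = n →
      Module.Finite ℂ (F.obj (SpSeq.grPiece (abut.fil m) (abut.anti m) p)) →
        Module.Finite ℂ (F.obj (SpSeq.grPiece (abut.fil n) (abut.anti n) p)) := by
    rintro n _ p rfl h
    exact h
  have ht : ∀ n : ℤ, tr (H n) = ∑' p : ℤ, T E ((N : ℤ) + 2) (p, n - p) := by
    intro n
    obtain ⟨⟨A, hA⟩, ⟨B, hB⟩⟩ := hfin n
    have hfg : ∀ p, Module.Finite ℂ (F.obj (SpSeq.grPiece (abut.fil n) (abut.anti n) p)) :=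
      fun p => hgrfin' n (p + (n - p)) p (by ring) (hgrfin (p, n - p))
    rw [tr_eq_tsum_gr (abut.fil n) (abut.anti n) hfg A B hA hB]
    refine tsum_congr (fun p => ?_)
    rw [← hgr (p, n - p)]
    exact (hgr' n (p + (n - p)) p (by ring)).symm
  obtain ⟨s1, s2⟩ := resum hgood (fun n => tr (H n)) ht
  refine ⟨s1, ?_⟩
  rw [s2, ← tsum_page_eq E h2 ha hc hsum ((N : ℤ) + 2) hR]
  exact tsum_congr (fun pq => by rw [T_eq E _ hR]; rfl)

end Pages

end Groth.Agent.Lib.R2H7.TrSS
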