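import Mathlib
import Groth.Agent.Lib.H5bTrace

set_option autoImplicit false
set_option linter.style.haveILetI false

/-!
# Trace residue formula for Dedekind extensions

`main`: for `A ⊆ B` Dedekind, `B` finite torsion-free over `A`, `p` a nonzero maximal ideal of `A`,
`(Tr_{B/A} y mod p) = ∑_{Q | p} e(Q|p) • Tr_{(B/Q)/(A/p)} (y mod Q)`.

Auxiliary general lemmas over a field `k`:
* `trace_pi`, `algebra_trace_pi` : trace on a finite product is the sum of the traces;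
* `trace_eq_sum_quotient` : CRT form, `F ≃ Π F/J_i`;
* `trace_succ`, `trace_pow` : `Tr(F/𝔮^n) = n • Tr(F/𝔮)` when `𝔮^m/𝔮^(m+1)` is cyclic generated
  by a "regular" element for `m < n`.
-/

namespace Groth.Agent.Lib.R2H7.TraceRes

open Module

section Pi

variable {k : Type*} [CommRing k] {ι : Type*} [Fintype ι] [DecidableEq ι]

theorem trace_pi (M : ι → Type*) [∀ i, AddCommGroup (M i)] [∀ i, Module k (M i)]
    [∀ i, Module.Free k (M i)] [∀ i, Module.Finite k (M i)] (f : ∀ i, M i →ₗ[k] M i) :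
    LinearMap.trace k (∀ i, M i) (LinearMap.pi fun i => f i ∘ₗ LinearMap.proj i) =
      ∑ i, LinearMap.trace k (M i) (f i) := by
  classical
  let b : ∀ i, Basis (Free.ChooseBasisIndex k (M i)) k (M i) := fun i => Free.chooseBasis k (M i)
  rw [LinearMap.trace_eq_matrix_trace k (Pi.basis b)]
  simp only [Matrix.trace, Matrix.diag_apply, LinearMap.toMatrix_apply]
  rw [Fintype.sum_sigma]
  refine Finset.sum_congr rfl fun i _ => ?_
  rw [LinearMap.trace_eq_matrix_trace k (b i)]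
  simp only [Matrix.trace, Matrix.diag_apply, LinearMap.toMatrix_apply]
  refine Finset.sum_congr rfl fun j _ => ?_
  rw [Pi.basis_repr, Pi.basis_apply]
  simp

theorem algebra_trace_pi (S : ι → Type*) [∀ i, CommRing (S i)] [∀ i, Algebra k (S i)]
    [∀ i, Module.Free k (S i)] [∀ i, Module.Finite k (S i)] (x : ∀ i, S i) :
    Algebra.trace k (∀ i, S i) x = ∑ i, Algebra.trace k (S i) (x i) := by
  simp only [Algebra.trace_apply]
  rw [← trace_pi]
  refine congrArg _ (LinearMap.ext fun v => funext fun j => ?_)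
  simp

end Pi

section Field

variable {k F : Type*} [Field k] [CommRing F] [Algebra k F] [FiniteDimensional k F]

theorem finite_quot (J : Ideal F) : Module.Finite k (F ⧸ J) :=
  Module.Finite.of_surjective (Ideal.Quotient.mkₐ k J).toLinearMap
    (Ideal.Quotient.mkₐ_surjective k J)

attribute [local instance] finite_quot

theorem trace_eq_sum_quotient {ι : Type*} [Fintype ι] (J : ι → Ideal F)
    (hcop : Pairwise (Function.onFun IsCoprime J)) (hbot : ⨅ i, J i = ⊥) (a : F) :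
    Algebra.trace k F a = ∑ i, Algebra.trace k (F ⧸ J i) (Ideal.Quotient.mk (J i) a) := by
  classical
  let φ : F →ₐ[k] (∀ i, F ⧸ J i) := Pi.algHom k _ (fun i => Ideal.Quotient.mkₐ k (J i))
  have hinj : Function.Injective φ := by
    rw [injective_iff_map_eq_zero]
    intro x hx
    have hx' : x ∈ ⨅ i, J i := by
      rw [Ideal.mem_iInf]
      intro i
      have := congrFun hx i
      exact Ideal.Quotient.eq_zero_iff_mem.1 this
    rw [hbot] at hx'
    exact (Submodule.mem_bot _).1 hx'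
  have hsurj : Function.Surjective φ := by
    intro z
    choose x hx using fun i => Ideal.Quotient.mk_surjective (z i)
    obtain ⟨r, hr⟩ := Ideal.exists_forall_sub_mem_ideal hcop x
    refine ⟨r, funext fun i => ?_⟩
    rw [← hx i]
    exact Ideal.Quotient.eq.2 (hr i)
  let e : F ≃ₐ[k] (∀ i, F ⧸ J i) := AlgEquiv.ofBijective φ ⟨hinj, hsurj⟩
  rw [← Algebra.trace_eq_of_algEquiv e a, algebra_trace_pi]
  rfl

theorem lmul_mk_apply (J : Ideal F) (a : F) (v : F ⧸ J) :
    Algebra.lmul k (F ⧸ J) (Ideal.Quotient.mk J a) v = a • v := by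
  rw [Algebra.smul_def]; rfl

theorem trace_succ (𝔮 : Ideal F) (n : ℕ) (π : F) (hπ : π ∈ 𝔮 ^ n)
    (h1 : ∀ x, π * x ∈ 𝔮 ^ (n + 1) → x ∈ 𝔮)
    (h2 : ∀ z ∈ 𝔮 ^ n, ∃ x, z - π * x ∈ 𝔮 ^ (n + 1)) (a : F) :
    Algebra.trace k (F ⧸ 𝔮 ^ (n + 1)) (Ideal.Quotient.mk _ a) =
      Algebra.trace k (F ⧸ 𝔮) (Ideal.Quotient.mk _ a) +
        Algebra.trace k (F ⧸ 𝔮 ^ n) (Ideal.Quotient.mk _ a) := by
  let g : F →ₗ[F] F ⧸ 𝔮 ^ (n + 1) := (Submodule.mkQ (𝔮 ^ (n + 1))) ∘ₗ (LinearMap.mulLeft F π)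
  have hg : 𝔮 ≤ LinearMap.ker g := fun x hx => by
    rw [LinearMap.mem_ker]
    show Submodule.Quotient.mk (π * x) = 0
    rw [Submodule.Quotient.mk_eq_zero, pow_succ]
    exact Ideal.mul_mem_mul hπ hx
  let iF : F ⧸ 𝔮 →ₗ[F] F ⧸ 𝔮 ^ (n + 1) := Submodule.liftQ 𝔮 g hg
  let pF : F ⧸ 𝔮 ^ (n + 1) →ₗ[F] F ⧸ 𝔮 ^ n :=
    Submodule.mapQ _ _ LinearMap.id
      (by rw [Submodule.comap_id]; exact Ideal.pow_le_pow_right (Nat.le_succ n))
  let i : F ⧸ 𝔮 →ₗ[k] F ⧸ 𝔮 ^ (n + 1) := iF.restrictScalars k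
  let p : F ⧸ 𝔮 ^ (n + 1) →ₗ[k] F ⧸ 𝔮 ^ n := pF.restrictScalars k
  have hi_mk : ∀ x : F, i (Ideal.Quotient.mk 𝔮 x) = Ideal.Quotient.mk (𝔮 ^ (n + 1)) (π * x) :=
    fun x => rfl
  have hp_mk : ∀ x : F, p (Ideal.Quotient.mk (𝔮 ^ (n + 1)) x) = Ideal.Quotient.mk (𝔮 ^ n) x :=
    fun x => rfl
  have hi : Function.Injective i := by
    rw [injective_iff_map_eq_zero]
    intro v hv
    obtain ⟨x, rfl⟩ := Ideal.Quotient.mk_surjective v
    rw [hi_mk, Ideal.Quotient.eq_zero_iff_mem] at hv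
    rw [Ideal.Quotient.eq_zero_iff_mem]
    exact h1 x hv
  have hp : Function.Surjective p := by
    intro v
    obtain ⟨x, rfl⟩ := Ideal.Quotient.mk_surjective v
    exact ⟨Ideal.Quotient.mk _ x, hp_mk x⟩
  have hex : Function.Exact i p := by
    intro v
    obtain ⟨z, rfl⟩ := Ideal.Quotient.mk_surjective v
    rw [hp_mk, Ideal.Quotient.eq_zero_iff_mem]
    constructor
    · intro hz
      obtain ⟨x, hx⟩ := h2 z hz
      refine ⟨Ideal.Quotient.mk 𝔮 x, ?_⟩
      rw [hi_mk]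
      exact (Ideal.Quotient.eq.2 hx).symm
    · rintro ⟨w, hw⟩
      obtain ⟨x, rfl⟩ := Ideal.Quotient.mk_surjective w
      rw [hi_mk] at hw
      have h3 : z - π * x ∈ 𝔮 ^ (n + 1) := Ideal.Quotient.eq.1 hw.symm
      have h4 : z - π * x ∈ 𝔮 ^ n := Ideal.pow_le_pow_right (Nat.le_succ n) h3
      have h5 : π * x ∈ 𝔮 ^ n := Ideal.mul_mem_right _ _ hπ
      have : z = (z - π * x) + π * x := by ring
      rw [this]
      exact add_mem h4 h5
  rw [Algebra.trace_apply, Algebra.trace_apply, Algebra.trace_apply]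
  refine H5bTrace.trace_of_exact i p hi hp hex _ _ _ ?_ ?_
  · intro v
    rw [lmul_mk_apply, lmul_mk_apply]
    exact map_smul iF a v
  · intro v
    rw [lmul_mk_apply, lmul_mk_apply]
    exact map_smul pF a v

theorem trace_pow (𝔮 : Ideal F) (e : ℕ)
    (H : ∀ n < e, ∃ π ∈ 𝔮 ^ n, (∀ x, π * x ∈ 𝔮 ^ (n + 1) → x ∈ 𝔮) ∧
      ∀ z ∈ 𝔮 ^ n, ∃ x, z - π * x ∈ 𝔮 ^ (n + 1)) (a : F) :
    ∀ n ≤ e, Algebra.trace k (F ⧸ 𝔮 ^ n) (Ideal.Quotient.mk _ a) =
      n • Algebra.trace k (F ⧸ 𝔮) (Ideal.Quotient.mk _ a) := by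
  intro n
  induction n with
  | zero =>
    intro _
    haveI : Subsingleton (F ⧸ 𝔮 ^ 0) := Ideal.Quotient.subsingleton_iff.2 (by simp)
    rw [zero_smul, Algebra.trace_apply]
    have h0 : Algebra.lmul k (F ⧸ 𝔮 ^ 0) (Ideal.Quotient.mk _ a) = 0 :=
      LinearMap.ext fun v => Subsingleton.elim _ _
    rw [h0, map_zero]
  | succ n ih =>
    intro hn
    obtain ⟨π, hπ, h1, h2⟩ := H n (Nat.lt_of_succ_le hn)
    rw [trace_succ 𝔮 n π hπ h1 h2 a, ih (Nat.le_of_succ_le hn), succ_nsmul, add_comm]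

end Field

section Main

universe u

variable (A B : Type u) [CommRing A] [CommRing B] [IsDedekindDomain A] [IsDedekindDomain B]
  [Algebra A B] [Module.Finite A B] [Module.IsTorsionFree A B]
  (p : Ideal A) [p.IsMaximal]

attribute [local instance] Ideal.Quotient.field

open UniqueFactorizationMonoid in
theorem main (hp : p ≠ ⊥) (y : B) :
    Ideal.Quotient.mk p (Algebra.intTrace A B y) =
      ∑ᶠ Q : p.primesOver B,
        Q.1.ramificationIdx A •
          Algebra.trace (A ⧸ p) (B ⧸ Q.1) (Ideal.Quotient.mk Q.1 y) := by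
  classical
  haveI : Algebra.IsIntegral A B := inferInstance
  have hpB0 : p.map (algebraMap A B) ≠ ⊥ := Ideal.map_ne_bot_of_ne_bot hp
  haveI : IsScalarTower A (A ⧸ p) (B ⧸ p.map (algebraMap A B)) :=
    Ideal.Quotient.tower_quotient_map_quotient
  haveI : Module.Finite (A ⧸ p) (B ⧸ p.map (algebraMap A B)) :=
    Module.Finite.of_restrictScalars_finite A _ _
  rw [← Algebra.trace_quotient_eq_of_isDedekindDomain B p y, finsum_eq_sum_of_fintype]
  -- the product formula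
  have hprod : p.map (algebraMap A B) =
      ∏ Q : p.primesOver B, Q.1 ^ (Q.1.ramificationIdx A) := by
    have h1 : (factors (p.map (algebraMap A B))).prod = p.map (algebraMap A B) :=
      associated_iff_eq.1 (factors_prod hpB0)
    calc p.map (algebraMap A B) = (factors (p.map (algebraMap A B))).prod := h1.symm
      _ = ∏ Q ∈ (factors (p.map (algebraMap A B))).toFinset,
            Q ^ (factors (p.map (algebraMap A B))).count Q := Finset.prod_multiset_count _
      _ = ∏ Q : p.primesOver B, Q.1 ^ (factors (p.map (algebraMap A B))).count Q.1 :=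
          Finset.prod_subtype _ (fun Q => IsDedekindDomain.mem_primesOverFinset_iff hp B) _
      _ = _ := Finset.prod_congr rfl fun Q _ => by
          rw [Ideal.IsDedekindDomain.ramificationIdx_eq_factors_count p Q.1 hpB0]
  have hle : ∀ Q : p.primesOver B, p.map (algebraMap A B) ≤ Q.1 ^ (Q.1.ramificationIdx A) := by
    intro Q
    conv_lhs => rw [hprod]
    exact Ideal.le_of_dvd (Finset.dvd_prod_of_mem _ (Finset.mem_univ Q))
  have hcopB : ∀ Q Q' : p.primesOver B, Q ≠ Q' → IsCoprime Q.1 Q'.1 := fun Q Q' hne =>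
    Ideal.isCoprime_of_isMaximal (fun h => hne (Subtype.ext h))
  set mkF := Ideal.Quotient.mk (p.map (algebraMap A B)) with hmkF
  let J : p.primesOver B → Ideal (B ⧸ p.map (algebraMap A B)) :=
    fun Q => (Q.1.map mkF) ^ (Q.1.ramificationIdx A)
  have hcop : Pairwise (Function.onFun IsCoprime J) := by
    intro Q Q' hne
    have h0 := hcopB Q Q' hne
    have h1 : IsCoprime (Q.1.map mkF) (Q'.1.map mkF) := by
      rw [Ideal.isCoprime_iff_sup_eq] at h0 ⊢
      rw [← Ideal.map_sup, h0, Ideal.map_top]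
    exact h1.pow
  have hbot : ⨅ Q, J Q = ⊥ := by
    rw [eq_bot_iff]
    intro x hx
    obtain ⟨b, rfl⟩ := Ideal.Quotient.mk_surjective x
    rw [Ideal.mem_bot, Ideal.Quotient.eq_zero_iff_mem]
    have hb : ∀ Q : p.primesOver B, b ∈ Q.1 ^ (Q.1.ramificationIdx A) := fun Q => by
      have h1 := (Ideal.mem_iInf.1 hx) Q
      rw [show J Q = (Q.1 ^ (Q.1.ramificationIdx A)).map mkF from (Ideal.map_pow _ _ _).symm] at h1
      exact (Ideal.mem_quotient_iff_mem (hle Q)).1 h1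
    rw [hprod, Ideal.prod_eq_iInf_of_pairwise_isCoprime ?_]
    · simp only [Ideal.mem_iInf]
      intro Q _
      exact hb Q
    · intro Q _ Q' _ hne
      exact (hcopB Q Q' hne).pow
  have H : ∀ Q : p.primesOver B, ∀ n < Q.1.ramificationIdx A, ∃ π ∈ (Q.1.map mkF) ^ n,
      (∀ x, π * x ∈ (Q.1.map mkF) ^ (n + 1) → x ∈ Q.1.map mkF) ∧
      ∀ z ∈ (Q.1.map mkF) ^ n, ∃ x, z - π * x ∈ (Q.1.map mkF) ^ (n + 1) := by
    intro Q n hn
    have hQ0 : Q.1 ≠ ⊥ := Ideal.ne_bot_of_mem_primesOver hp Q.2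
    have hlen : ∀ m ≤ Q.1.ramificationIdx A, p.map (algebraMap A B) ≤ Q.1 ^ m := fun m hm =>
      (hle Q).trans (Ideal.pow_le_pow_right hm)
    have hmem : ∀ m ≤ Q.1.ramificationIdx A, ∀ b : B,
        mkF b ∈ (Q.1.map mkF) ^ m ↔ b ∈ Q.1 ^ m := fun m hm b => by
      rw [← Ideal.map_pow]
      exact Ideal.mem_quotient_iff_mem (hlen m hm)
    have hQle : p.map (algebraMap A B) ≤ Q.1 := by
      have := hlen 1 (by omega)
      rwa [pow_one] at this
    obtain ⟨π₀, hπ₀, hπ₀'⟩ := SetLike.exists_of_lt (Ideal.pow_succ_lt_pow hQ0 n)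
    refine ⟨mkF π₀, (hmem n hn.le π₀).2 hπ₀, ?_, ?_⟩
    · intro x hx
      obtain ⟨b, rfl⟩ := Ideal.Quotient.mk_surjective x
      rw [← map_mul, hmem (n + 1) hn] at hx
      exact (Ideal.mem_quotient_iff_mem hQle).2 (Ideal.mem_prime_of_mul_mem_pow hQ0 hπ₀' hx)
    · intro z hz
      obtain ⟨c, rfl⟩ := Ideal.Quotient.mk_surjective z
      rw [hmem n hn.le] at hz
      obtain ⟨d, e', he', hde⟩ := Ideal.exists_mul_add_mem_pow_succ hQ0 π₀ c hπ₀ hπ₀' hz
      refine ⟨mkF d, ?_⟩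
      rw [← map_mul, ← map_sub, hmem (n + 1) hn]
      have : c - π₀ * d = e' := by rw [← hde]; ring
      rw [this]
      exact he'
  rw [trace_eq_sum_quotient J hcop hbot]
  refine Finset.sum_congr rfl fun Q _ => ?_
  rw [trace_pow (Q.1.map mkF) (Q.1.ramificationIdx A) (H Q) (mkF y) _ le_rfl]
  congr 1
  have hQle : p.map (algebraMap A B) ≤ Q.1 := by
    have := (hle Q).trans (Ideal.pow_le_pow_right
      (Nat.one_le_iff_ne_zero.2 (Ideal.ramificationIdx_pos Q.1 A).ne'))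
    rwa [pow_one] at this
  have key := Algebra.trace_eq_of_equiv_equiv (RingEquiv.refl (A ⧸ p))
    (DoubleQuot.quotQuotEquivQuotOfLE hQle)
    (Ideal.Quotient.ringHom_ext (RingHom.ext fun a => rfl))
    (Ideal.Quotient.mk (Q.1.map mkF) (mkF y))
  rw [key]
  rfl

end Main

end Groth.Agent.Lib.R2H7.TraceRes
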