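/-
Subalgebras of `k[t]/(t^n)` over which it is flat are curvilinear.
-/
import Mathlib

set_option autoImplicit false
universe u

namespace Groth.Agent.Lib.R2H7.TruncSub

open Polynomial

section

variable (k : Type u) [Field k] (n : ℕ)

/-- Every ideal of `k[t]/(t^n)` is generated by a power of `t`. -/
theorem exists_ideal_eq_span_pow
    (J : Ideal (Polynomial k ⧸ Ideal.span {(X : Polynomial k) ^ n})) :
    ∃ e : ℕ, J = Ideal.span {(Ideal.Quotient.mk (Ideal.span {(X : Polynomial k) ^ n}) X) ^ e} := by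
  set mk := Ideal.Quotient.mk (Ideal.span {(X : Polynomial k) ^ n}) with hmk
  obtain ⟨g, hg⟩ := (IsPrincipalIdealRing.principal (J.comap mk)).principal
  have hg' : J.comap mk = Ideal.span {g} := hg
  have hXn : (X : Polynomial k) ^ n ∈ J.comap mk := by
    rw [Ideal.mem_comap]
    have : mk (X ^ n) = 0 :=
      Ideal.Quotient.eq_zero_iff_mem.mpr (Ideal.mem_span_singleton_self _)
    rw [this]
    exact J.zero_mem
  rw [hg', Ideal.mem_span_singleton] at hXn
  obtain ⟨e, -, he⟩ := (dvd_prime_pow Polynomial.prime_X n).mp hXn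
  refine ⟨e, ?_⟩
  have h1 : J = (J.comap mk).map mk :=
    (Ideal.map_comap_of_surjective mk Ideal.Quotient.mk_surjective J).symm
  rw [h1, hg', Ideal.span_singleton_eq_span_singleton.mpr he, Ideal.map_span, Set.image_singleton,
    map_pow]

theorem exists_sub_isNilpotent
    (b : Polynomial k ⧸ Ideal.span {(X : Polynomial k) ^ n}) :
    ∃ c : k, (b - algebraMap k _ c) ^ n = 0 := by
  obtain ⟨q, rfl⟩ := Ideal.Quotient.mk_surjective b
  refine ⟨q.coeff 0, ?_⟩
  have h1 : Ideal.Quotient.mk (Ideal.span {(X : Polynomial k) ^ n}) q - algebraMap k _ (q.coeff 0)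
      = Ideal.Quotient.mk (Ideal.span {(X : Polynomial k) ^ n}) (q.divX * X) := by
    have h2 : algebraMap k (Polynomial k ⧸ Ideal.span {(X : Polynomial k) ^ n}) (q.coeff 0) =
        Ideal.Quotient.mk (Ideal.span {(X : Polynomial k) ^ n}) (C (q.coeff 0)) := rfl
    rw [h2, ← map_sub]
    congr 1
    have h3 := Polynomial.divX_mul_X_add q
    rw [sub_eq_iff_eq_add]
    exact h3.symm
  rw [h1, ← map_pow, Ideal.Quotient.eq_zero_iff_mem, Ideal.mem_span_singleton, mul_pow]
  exact Dvd.intro_left _ rfl

theorem nontrivial_quot (hn : 0 < n) :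
    Nontrivial (Polynomial k ⧸ Ideal.span {(X : Polynomial k) ^ n}) := by
  apply Ideal.Quotient.nontrivial_iff.mpr
  intro h
  rw [Ideal.span_singleton_eq_top, isUnit_pow_iff hn.ne'] at h
  exact Polynomial.not_isUnit_X h

end

section main

variable (k : Type u) [Field k] (n : ℕ)
  (A : Subalgebra k (Polynomial k ⧸ Ideal.span {(X : Polynomial k) ^ n}))

theorem isLocalRing_sub (hn : 0 < n) : IsLocalRing A := by
  have := nontrivial_quot k n hn
  apply IsLocalRing.of_isUnit_or_isUnit_one_sub_self
  intro a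
  obtain ⟨c, hc⟩ := exists_sub_isNilpotent k n (a : Polynomial k ⧸ Ideal.span {(X : Polynomial k) ^ n})
  have hν : IsNilpotent (a - algebraMap k A c) := by
    refine ⟨n, ?_⟩
    apply Subtype.ext
    simpa using hc
  by_cases hc0 : c = 0
  · right
    rw [hc0, map_zero, sub_zero] at hν
    exact hν.isUnit_one_sub
  · left
    have hu : IsUnit (algebraMap k A c) := (IsUnit.mk0 c hc0).map _
    have := hν.isUnit_add_left_of_commute hu (Commute.all _ _)
    rwa [add_sub_cancel] at this

theorem maximalIdeal_isPrincipal (hn : 0 < n) [IsLocalRing A]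
    [Module.Flat A (Polynomial k ⧸ Ideal.span {(X : Polynomial k) ^ n})] :
    (IsLocalRing.maximalIdeal A).IsPrincipal := by
  have hnt := nontrivial_quot k n hn
  have hfk : Module.Finite k (Polynomial k ⧸ Ideal.span {(X : Polynomial k) ^ n}) :=
    (Polynomial.monic_X_pow n).finite_quotient
  have hfA : Module.Finite A (Polynomial k ⧸ Ideal.span {(X : Polynomial k) ^ n}) :=
    Module.Finite.of_restrictScalars_finite k A _
  have hfree : Module.Free A (Polynomial k ⧸ Ideal.span {(X : Polynomial k) ^ n}) :=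
    Module.free_of_flat_of_isLocalRing
  have hff : Module.FaithfullyFlat A (Polynomial k ⧸ Ideal.span {(X : Polynomial k) ^ n}) :=
    inferInstance
  choose e he using (fun b : Polynomial k ⧸ Ideal.span {(X : Polynomial k) ^ n} =>
    exists_ideal_eq_span_pow k n (Ideal.span {b}))
  have hS : ((IsLocalRing.maximalIdeal A : Ideal A) : Set A).Nonempty := ⟨0, zero_mem _⟩
  set a₀ := Function.argminOn
    (fun a : A => e (a : Polynomial k ⧸ Ideal.span {(X : Polynomial k) ^ n}))
    ((IsLocalRing.maximalIdeal A : Ideal A) : Set A) hS with ha₀def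
  have ha₀ : a₀ ∈ IsLocalRing.maximalIdeal A := Function.argminOn_mem _ _ hS
  have hmin : ∀ a ∈ IsLocalRing.maximalIdeal A,
      e (a₀ : Polynomial k ⧸ Ideal.span {(X : Polynomial k) ^ n}) ≤
      e (a : Polynomial k ⧸ Ideal.span {(X : Polynomial k) ^ n}) :=
    fun a ha => Function.argminOn_le
      (fun a : A => e (a : Polynomial k ⧸ Ideal.span {(X : Polynomial k) ^ n})) _ ha
  have hmap : (IsLocalRing.maximalIdeal A).map
      (algebraMap A (Polynomial k ⧸ Ideal.span {(X : Polynomial k) ^ n})) =
      (Ideal.span {a₀}).map (algebraMap A (Polynomial k ⧸ Ideal.span {(X : Polynomial k) ^ n})) := by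
    rw [Ideal.map_span, Set.image_singleton]
    apply le_antisymm
    · rw [Ideal.map_le_iff_le_comap]
      intro a ha
      rw [Ideal.mem_comap]
      have h1 : (a : Polynomial k ⧸ Ideal.span {(X : Polynomial k) ^ n}) ∈
          Ideal.span {(a : Polynomial k ⧸ Ideal.span {(X : Polynomial k) ^ n})} :=
        Ideal.mem_span_singleton_self _
      rw [he] at h1
      change (a : Polynomial k ⧸ Ideal.span {(X : Polynomial k) ^ n}) ∈
        Ideal.span {(a₀ : Polynomial k ⧸ Ideal.span {(X : Polynomial k) ^ n})}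
      rw [he (a₀ : Polynomial k ⧸ Ideal.span {(X : Polynomial k) ^ n})]
      have hle : Ideal.span {(Ideal.Quotient.mk (Ideal.span {(X : Polynomial k) ^ n}) X) ^
          e (a : Polynomial k ⧸ Ideal.span {(X : Polynomial k) ^ n})} ≤
          Ideal.span {(Ideal.Quotient.mk (Ideal.span {(X : Polynomial k) ^ n}) X) ^
          e (a₀ : Polynomial k ⧸ Ideal.span {(X : Polynomial k) ^ n})} := by
        rw [Ideal.span_singleton_le_iff_mem, Ideal.mem_span_singleton]
        exact pow_dvd_pow _ (hmin a ha)
      exact hle h1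
    · rw [Ideal.span_singleton_le_iff_mem]
      exact Ideal.mem_map_of_mem _ ha₀
  have h2 := congrArg (Ideal.comap
    (algebraMap A (Polynomial k ⧸ Ideal.span {(X : Polynomial k) ^ n}))) hmap
  rw [Ideal.comap_map_eq_self_of_faithfullyFlat, Ideal.comap_map_eq_self_of_faithfullyFlat] at h2
  exact ⟨⟨a₀, h2⟩⟩

end main

end Groth.Agent.Lib.R2H7.TruncSub
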