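import Mathlib
import Groth.Prelude
import Groth.Agent.Lib.Helper23RestrTensor
import Groth.Agent.Lib.R2H1ProjLF
import Groth.Agent.Lib.R2H4TensorPows
import Groth.Agent.Lib.R2LeadKRR

/-!
# Tensor products of isotypical modules on forms of projective space

Namespace `Groth.Agent.Lib.R2H7.TwPowTensor`.

* `nonempty_tensor_pow_right/left` : `M ⊗ A^{⊕r} ≅ (M ⊗ A)^{⊕r}`, `A^{⊕r} ⊗ N ≅ (A ⊗ N)^{⊕r}`.
* `nonempty_pow_pow_iso` : `(C^{⊕s})^{⊕r} ≅ C^{⊕(r s)}`.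
* `main` : `BrSev.IsTwPow e j r W → BrSev.IsTwPow e l s W' → BrSev.IsTwPow e (j+l) (r s) (W ⊗ W')`.
-/

set_option autoImplicit false
set_option linter.style.haveILetI false
universe u
open CategoryTheory CategoryTheory.Limits AlgebraicGeometry

namespace Groth.Agent.Lib.R2H7.TwPowTensor

variable {Y : Scheme.{u}}

theorem nonempty_tensor_pow_right (M A : Y.Modules) (r : ℕ) :
    Nonempty (CohB1.tensorMod M (BrSev.pow A r) ≅ BrSev.pow (CohB1.tensorMod M A) r) := by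
  haveI := Groth.Agent.Lib.R2H1.ProjLF.preservesFiniteColimits_tensorBi_obj M
  exact ⟨PreservesCoproduct.iso (DCoh.tensorBi.obj M) (fun _ : Fin r => A)⟩

theorem nonempty_tensor_pow_left (A N : Y.Modules) (r : ℕ) :
    Nonempty (CohB1.tensorMod (BrSev.pow A r) N ≅ BrSev.pow (CohB1.tensorMod A N) r) := by
  obtain ⟨e⟩ := nonempty_tensor_pow_right N A r
  exact ⟨Groth.Agent.Lib.R2H4TensorPows.tComm _ _ ≪≫ e ≪≫
    Sigma.mapIso (fun _ => Groth.Agent.Lib.R2H4TensorPows.tComm N A)⟩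

theorem nonempty_pow_pow_iso (C : Y.Modules) (r s : ℕ) :
    Nonempty (BrSev.pow (BrSev.pow C s) r ≅ BrSev.pow C (r * s)) :=
  ⟨sigmaSigmaIso (fun _ : Fin r => Fin s) (fun _ _ => C) ≪≫
    Sigma.whiskerEquiv (f := fun _ : (Σ _ : Fin r, Fin s) => C) (g := fun _ : Fin (r * s) => C)
      ((Equiv.sigmaEquivProd (Fin r) (Fin s)).trans finProdFinEquiv)
      (fun _ => Iso.refl _)⟩

theorem main (k : Type u) [Field k] {X : Scheme.{u}}
    (f : X ⟶ Spec (CommRingCat.of k)) (n : ℕ)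
    (K : Type u) [Field K] [Algebra k K] (e : BrSev.Splitting f K n) (j l : ℤ) (r s : ℕ)
    (W W' : X.Modules) (hWt : BrSev.IsTwPow e j r W) (hW't : BrSev.IsTwPow e l s W') :
    BrSev.IsTwPow e (j + l) (r * s) (CohB1.tensorMod W W') := by
  obtain ⟨φ⟩ := hWt
  obtain ⟨ψ⟩ := hW't
  obtain ⟨τ⟩ := Groth.Agent.Lib.R2Lead.KRR.nonempty_twistProjSpace_tensor_iso n K j l
  have eAB : CohB1.tensorMod (e.twist j) (e.twist l) ≅ e.twist (j + l) :=
    (Groth.Agent.Lib.Helper23.RestrTensor.pullbackTensorIso _ _ e.iso.hom).symm ≪≫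
      (Scheme.Modules.pullback e.iso.hom).mapIso τ
  obtain ⟨e3⟩ := nonempty_tensor_pow_left (e.twist j) (BrSev.pow (e.twist l) s) r
  obtain ⟨e4⟩ := nonempty_tensor_pow_right (e.twist j) (e.twist l) s
  obtain ⟨e5⟩ := nonempty_pow_pow_iso (e.twist (j + l)) r s
  exact ⟨Groth.Agent.Lib.Helper23.RestrTensor.pullbackTensorIso W W' (BrSev.proj f K) ≪≫
    PicGrp.tensorModIso φ ψ ≪≫ e3 ≪≫
    Sigma.mapIso (fun _ => e4 ≪≫ Sigma.mapIso (fun _ => eAB)) ≪≫ e5⟩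

end Groth.Agent.Lib.R2H7.TwPowTensor
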