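/-
R2H7TwoVarDvr: the ring hom k[[t1,t2]] -> K[[t1]] for a field K receiving k[[t2]], and the
complete DVR with algebraically closed residue field dominating k[[t1,t2]]_(t1) (S15366).
-/
import Mathlib
import Groth.Agent.Lib.Helper19PowerSeries

set_option autoImplicit false
set_option linter.unusedVariables false
set_option linter.style.haveILetI false

namespace Groth.Agent.Lib.R2H7.TwoVarDvr

open MvPowerSeries Finset

section Rows

variable {k : Type*} [Field k]

/-- the exponent vector `(i, j)` -/
noncomputable def idx (i j : ℕ) : Fin 2 →₀ ℕ := Finsupp.single 0 i + Finsupp.single 1 j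

@[simp] lemma idx_zero (i j : ℕ) : idx i j 0 = i := by simp [idx]
@[simp] lemma idx_one (i j : ℕ) : idx i j 1 = j := by simp [idx]

lemma idx_eta (n : Fin 2 →₀ ℕ) : idx (n 0) (n 1) = n := by
  ext a
  fin_cases a
  · exact idx_zero _ _
  · exact idx_one _ _

lemma idx_add (a b c d : ℕ) : idx a c + idx b d = idx (a + b) (c + d) := by
  ext x
  fin_cases x
  · show (idx a c + idx b d) 0 = idx (a + b) (c + d) 0
    rw [Finsupp.add_apply, idx_zero, idx_zero, idx_zero]
  · show (idx a c + idx b d) 1 = idx (a + b) (c + d) 1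
    rw [Finsupp.add_apply, idx_one, idx_one, idx_one]

lemma idx_eq_zero_iff (i j : ℕ) : idx i j = 0 ↔ i = 0 ∧ j = 0 := by
  constructor
  · intro h
    exact ⟨by rw [← idx_zero i j, h]; rfl, by rw [← idx_one i j, h]; rfl⟩
  · rintro ⟨rfl, rfl⟩
    rw [← idx_eta 0]; rfl

lemma idx_eq_single_iff (i j : ℕ) : idx i j = Finsupp.single 0 1 ↔ i = 1 ∧ j = 0 := by
  constructor
  · intro h
    refine ⟨by rw [← idx_zero i j, h]; simp, by rw [← idx_one i j, h]; simp⟩
  · rintro ⟨rfl, rfl⟩
    rw [← idx_eta (Finsupp.single 0 1)]; simp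

/-- the `i`-th row of a two-variable power series, a power series in the second variable -/
noncomputable def row (f : MvPowerSeries (Fin 2) k) (i : ℕ) : PowerSeries k :=
  PowerSeries.mk fun j => coeff (idx i j) f

lemma coeff_row (f : MvPowerSeries (Fin 2) k) (i j : ℕ) :
    PowerSeries.coeff j (row f i) = coeff (idx i j) f := PowerSeries.coeff_mk _ _

lemma row_zero (i : ℕ) : row (0 : MvPowerSeries (Fin 2) k) i = 0 := by
  ext j; rw [coeff_row, map_zero, map_zero]

lemma row_add (f g : MvPowerSeries (Fin 2) k) (i : ℕ) : row (f + g) i = row f i + row g i := by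
  ext j; rw [coeff_row, map_add, map_add, coeff_row, coeff_row]

lemma row_one (i : ℕ) : row (1 : MvPowerSeries (Fin 2) k) i = if i = 0 then 1 else 0 := by
  classical
  ext j
  rw [coeff_row, MvPowerSeries.coeff_one]
  by_cases hi : i = 0
  · rw [if_pos hi, PowerSeries.coeff_one]
    by_cases hj : j = 0
    · rw [if_pos hj, if_pos ((idx_eq_zero_iff i j).mpr ⟨hi, hj⟩)]
    · rw [if_neg hj, if_neg (fun h => hj ((idx_eq_zero_iff i j).mp h).2)]
  · rw [if_neg hi, map_zero, if_neg (fun h => hi ((idx_eq_zero_iff i j).mp h).1)]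

lemma row_X0 (i : ℕ) : row (X 0 : MvPowerSeries (Fin 2) k) i = if i = 1 then 1 else 0 := by
  classical
  ext j
  rw [coeff_row, MvPowerSeries.coeff_X]
  by_cases hi : i = 1
  · rw [if_pos hi, PowerSeries.coeff_one]
    by_cases hj : j = 0
    · rw [if_pos hj, if_pos ((idx_eq_single_iff i j).mpr ⟨hi, hj⟩)]
    · rw [if_neg hj, if_neg (fun h => hj ((idx_eq_single_iff i j).mp h).2)]
  · rw [if_neg hi, map_zero, if_neg (fun h => hi ((idx_eq_single_iff i j).mp h).1)]

lemma row_mul (f g : MvPowerSeries (Fin 2) k) (i : ℕ) :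
    row (f * g) i = ∑ p ∈ antidiagonal i, row f p.1 * row g p.2 := by
  classical
  ext j
  rw [coeff_row]
  calc coeff (idx i j) (f * g)
      = ∑ p ∈ antidiagonal (idx i j), coeff p.1 f * coeff p.2 g := MvPowerSeries.coeff_mul _ _ _
    _ = ∑ q ∈ antidiagonal i ×ˢ antidiagonal j,
          coeff (idx q.1.1 q.2.1) f * coeff (idx q.1.2 q.2.2) g := by
        refine Finset.sum_nbij' (fun p => ((p.1 0, p.2 0), (p.1 1, p.2 1)))
          (fun q => (idx q.1.1 q.2.1, idx q.1.2 q.2.2)) ?_ ?_ ?_ ?_ ?_
        · intro p hp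
          rw [Finset.HasAntidiagonal.mem_antidiagonal] at hp
          rw [Finset.mem_product, Finset.HasAntidiagonal.mem_antidiagonal, Finset.HasAntidiagonal.mem_antidiagonal]
          constructor
          · show p.1 0 + p.2 0 = i
            rw [← Finsupp.add_apply, hp, idx_zero]
          · show p.1 1 + p.2 1 = j
            rw [← Finsupp.add_apply, hp, idx_one]
        · intro q hq
          rw [Finset.mem_product, Finset.HasAntidiagonal.mem_antidiagonal, Finset.HasAntidiagonal.mem_antidiagonal] at hq
          rw [Finset.HasAntidiagonal.mem_antidiagonal]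
          show idx q.1.1 q.2.1 + idx q.1.2 q.2.2 = idx i j
          rw [idx_add, hq.1, hq.2]
        · intro p hp
          show (idx (p.1 0) (p.1 1), idx (p.2 0) (p.2 1)) = p
          rw [idx_eta, idx_eta]
        · intro q hq
          show ((idx q.1.1 q.2.1 0, idx q.1.2 q.2.2 0), (idx q.1.1 q.2.1 1, idx q.1.2 q.2.2 1)) = q
          rw [idx_zero, idx_zero, idx_one, idx_one]
        · intro p hp
          show coeff p.1 f * coeff p.2 g =
            coeff (idx (p.1 0) (p.1 1)) f * coeff (idx (p.2 0) (p.2 1)) g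
          rw [idx_eta, idx_eta]
    _ = ∑ x ∈ antidiagonal i, ∑ y ∈ antidiagonal j,
          coeff (idx x.1 y.1) f * coeff (idx x.2 y.2) g := by
        rw [Finset.sum_product]
    _ = PowerSeries.coeff j (∑ p ∈ antidiagonal i, row f p.1 * row g p.2) := by
        rw [map_sum]
        refine Finset.sum_congr rfl (fun x _ => ?_)
        rw [PowerSeries.coeff_mul]
        refine Finset.sum_congr rfl (fun y _ => ?_)
        rw [coeff_row, coeff_row]

variable (K : Type*) [Field K] (ι : PowerSeries k →+* K)

/-- underlying function of `psi` -/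
noncomputable def psiFun (f : MvPowerSeries (Fin 2) k) : PowerSeries K :=
  PowerSeries.mk fun i => ι (row f i)

lemma coeff_psiFun (f : MvPowerSeries (Fin 2) k) (i : ℕ) :
    PowerSeries.coeff i (psiFun K ι f) = ι (row f i) := PowerSeries.coeff_mk _ _

lemma psiFun_one : psiFun K ι 1 = 1 := by
  ext i
  rw [coeff_psiFun, row_one, PowerSeries.coeff_one]
  split_ifs
  · exact map_one ι
  · exact map_zero ι

lemma psiFun_mul (f g : MvPowerSeries (Fin 2) k) :
    psiFun K ι (f * g) = psiFun K ι f * psiFun K ι g := by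
  ext i
  rw [coeff_psiFun, row_mul, map_sum, PowerSeries.coeff_mul]
  refine Finset.sum_congr rfl (fun p _ => ?_)
  rw [map_mul, coeff_psiFun, coeff_psiFun]

lemma psiFun_zero : psiFun K ι 0 = 0 := by
  ext i
  rw [coeff_psiFun, row_zero, map_zero, map_zero]

lemma psiFun_add (f g : MvPowerSeries (Fin 2) k) :
    psiFun K ι (f + g) = psiFun K ι f + psiFun K ι g := by
  ext i
  rw [coeff_psiFun, row_add, map_add, map_add, coeff_psiFun, coeff_psiFun]

/-- the ring hom `k[[t1,t2]] → K[[t1]]` induced by `ι : k[[t2]] → K` -/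
noncomputable def psi : MvPowerSeries (Fin 2) k →+* PowerSeries K where
  toFun := psiFun K ι
  map_one' := psiFun_one K ι
  map_mul' := psiFun_mul K ι
  map_zero' := psiFun_zero K ι
  map_add' := psiFun_add K ι

lemma coeff_psi (f : MvPowerSeries (Fin 2) k) (i : ℕ) :
    PowerSeries.coeff i (psi K ι f) = ι (row f i) := coeff_psiFun K ι f i

lemma psi_X0 : psi K ι (X 0) = PowerSeries.X := by
  ext i
  rw [coeff_psi, row_X0, PowerSeries.coeff_X]
  split_ifs
  · exact map_one ι
  · exact map_zero ι

variable {K ι}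

lemma psi_injective (hι : Function.Injective ι) : Function.Injective (psi K ι) := by
  intro f g h
  ext n
  have h1 := congrArg (PowerSeries.coeff (n 0)) h
  rw [coeff_psi, coeff_psi] at h1
  have h2 := congrArg (PowerSeries.coeff (n 1)) (hι h1)
  rwa [coeff_row, coeff_row, idx_eta] at h2

lemma mem_span_X0_iff (f : MvPowerSeries (Fin 2) k) :
    f ∈ Ideal.span {(X 0 : MvPowerSeries (Fin 2) k)} ↔ row f 0 = 0 := by
  rw [Ideal.mem_span_singleton, MvPowerSeries.X_dvd_iff]
  constructor
  · intro h
    ext j
    rw [coeff_row, map_zero]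
    exact h _ (idx_zero 0 j)
  · intro h m hm
    have := congrArg (PowerSeries.coeff (m 1)) h
    rw [coeff_row, map_zero, ← hm, idx_eta] at this
    exact this

lemma isUnit_psi_iff (hι : Function.Injective ι) (f : MvPowerSeries (Fin 2) k) :
    IsUnit (psi K ι f) ↔ f ∉ Ideal.span {(X 0 : MvPowerSeries (Fin 2) k)} := by
  rw [PowerSeries.isUnit_iff_constantCoeff, isUnit_iff_ne_zero,
    ← PowerSeries.coeff_zero_eq_constantCoeff_apply, coeff_psi, mem_span_X0_iff, Ne,
    map_eq_zero_iff ι hι]

end Rows

section Main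

universe u

theorem main (k : Type u) [Field k] [IsAlgClosed k]
    (P : Ideal (MvPowerSeries (Fin 2) k))
    (hP : P = Ideal.span {(MvPowerSeries.X 0 : MvPowerSeries (Fin 2) k)}) [P.IsPrime] :
    ∃ (A : Type u) (_ : CommRing A) (_ : IsDomain A) (_ : IsDiscreteValuationRing A) (_ : Algebra k A)
      (φ : Localization.AtPrime P →ₐ[k] A),
      IsAdicComplete (IsLocalRing.maximalIdeal A) A ∧ IsAlgClosed (IsLocalRing.ResidueField A) ∧
        Function.Injective φ ∧ IsLocalHom φ.toRingHom ∧
          Irreducible (φ (algebraMap (MvPowerSeries (Fin 2) k) (Localization.AtPrime P)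
            (MvPowerSeries.X 0))) := by
  classical
  let Kbar := AlgebraicClosure (LaurentSeries k)
  let ι : PowerSeries k →+* Kbar :=
    (algebraMap (LaurentSeries k) Kbar).comp (HahnSeries.ofPowerSeries ℤ k)
  have hι : Function.Injective ι :=
    (algebraMap (LaurentSeries k) Kbar).injective.comp HahnSeries.ofPowerSeries_injective
  let ψ : MvPowerSeries (Fin 2) k →+* PowerSeries Kbar := psi Kbar ι
  have hψinj : Function.Injective ψ := psi_injective hι
  have hunit : ∀ y : P.primeCompl, IsUnit (ψ y) := fun y =>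
    (isUnit_psi_iff hι _).mpr (by rw [← hP]; exact y.2)
  let ψ' : Localization.AtPrime P →+* PowerSeries Kbar := IsLocalization.lift hunit
  have hψ' : ∀ f, ψ' (algebraMap _ _ f) = ψ f := fun f => IsLocalization.lift_eq hunit f
  letI alg : Algebra k (PowerSeries Kbar) :=
    (ψ'.comp (algebraMap k (Localization.AtPrime P))).toAlgebra
  have hlocal : IsLocalHom ψ' := by
    constructor
    intro a ha
    obtain ⟨f, s, rfl⟩ := IsLocalization.exists_mk'_eq P.primeCompl a
    have h1 : ψ' (IsLocalization.mk' (Localization.AtPrime P) f s) * ψ s = ψ f := by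
      rw [← hψ', ← map_mul, IsLocalization.mk'_spec, hψ']
    have h2 : IsUnit (ψ f) := by rw [← h1]; exact ha.mul (hunit s)
    have h3 : f ∈ P.primeCompl := by
      show f ∉ P
      rw [hP]
      exact (isUnit_psi_iff hι f).mp h2
    have h4 : IsUnit (algebraMap (MvPowerSeries (Fin 2) k) (Localization.AtPrime P) f) :=
      IsLocalization.map_units (Localization.AtPrime P) (⟨f, h3⟩ : P.primeCompl)
    rw [← IsLocalization.mk'_spec (Localization.AtPrime P) f s] at h4
    exact isUnit_of_mul_isUnit_left h4
  refine ⟨PowerSeries Kbar, inferInstance, inferInstance, inferInstance, alg,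
    { ψ' with commutes' := fun c => rfl }, ?_, ?_, ?_, ?_, ?_⟩
  · haveI : IsAdicComplete (IsLocalRing.maximalIdeal Kbar) Kbar := by
      rw [IsLocalRing.maximalIdeal_eq_bot]; infer_instance
    exact Groth.Agent.Lib.Helper19.isAdicComplete_mvPowerSeries (σ := Unit) (Λ := Kbar)
  · exact IsAlgClosed.of_ringEquiv (k := Kbar) _ (PowerSeries.residueFieldOfPowerSeries).symm
  · show Function.Injective ψ'
    rw [IsLocalization.lift_injective_iff]
    intro x y
    constructor
    · intro h
      have := congrArg ψ' h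
      rwa [hψ', hψ'] at this
    · intro h
      rw [hψinj h]
  · exact ⟨fun a ha => hlocal.map_nonunit a ha⟩
  · show Irreducible (ψ' (algebraMap _ _ (MvPowerSeries.X 0)))
    rw [hψ']
    show Irreducible (psi Kbar ι (X 0))
    rw [psi_X0]
    exact PowerSeries.X_irreducible

end Main

end Groth.Agent.Lib.R2H7.TwoVarDvr
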