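import Mathlib
import Groth.Agent.Lib.R2H1NonSpecial
import Groth.Agent.Lib.R2H1EulerTensor
import Groth.Agent.Lib.Helper23TensorQCoh

/-!
# `H¹` vanishing for coherent subsheaves of invertible modules on integral curves (helper7, round 2)

`X` an integral proper curve over an algebraically closed field `k`, of genus `g`.

* `tensorEquiv` : `L ⊗ -` is an equivalence when `L ⊗ L' ≅ O` (copy of helper4's `R2H4GorRR.tensorAdj` with light imports).
* `subsingleton_H1_of_sub` : a coherent subsheaf `F ⊆ L` of an invertible module with `χ(F) ≥ g` has `H¹(F) = 0`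
  (no duality; uses helper1's invertible `N` with `h⁰ = h¹ = 0`).
-/

set_option autoImplicit false
set_option linter.style.haveILetI false
set_option linter.unusedSectionVars false
universe u
open CategoryTheory CategoryTheory.Limits AlgebraicGeometry TopologicalSpace Opposite

namespace Groth.Agent.Lib.R2H7.VACurveA

open Groth.Agent.Lib.R2H1.NonSpecial Groth.Agent.Lib.R2H1.EulerTensor Groth.Agent.Lib.R2H1.CurveEuler
  Groth.Agent.Lib.R2H1.CurveDegSec Groth.Agent.Lib.R2H1.EulerAdd Groth.Agent.Lib.R2H1.InvExists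
  Groth.Agent.Lib.R2H1.GenusZero Groth.Agent.Lib.R2H1.CurveAmple Groth.Agent.Lib.R2H1.FinrankChain
  Groth.Agent.Lib.R2H1.DegCartier Groth.Agent.Lib.R2H1.RegPoint Groth.Agent.Lib.R2H1.ZeroDimCoh

section Adj

variable {X : Scheme.{u}}

/-- `L ⊗ -` is an equivalence with inverse `L' ⊗ -` when `L ⊗ L' ≅ O ≅ L' ⊗ L` -/
noncomputable def tensorEquiv (L L' : X.Modules)
    (e : (DCoh.tensorBi.obj L).obj L' ≅ Coh.structureModule X)
    (e' : (DCoh.tensorBi.obj L').obj L ≅ Coh.structureModule X) :
    X.Modules ≌ X.Modules :=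
  let η : DCoh.tensorBi.obj L ⋙ DCoh.tensorBi.obj L' ≅ 𝟭 X.Modules :=
    (Groth.Agent.Lib.Helper21.ModTensor6.tLTensorIso X.sheaf L' L).symm ≪≫
      DCoh.tensorBi.mapIso e' ≪≫ Groth.Agent.Lib.Helper21.ModTensor7.tLUnitIso X.sheaf
  let ε : DCoh.tensorBi.obj L' ⋙ DCoh.tensorBi.obj L ≅ 𝟭 X.Modules :=
    (Groth.Agent.Lib.Helper21.ModTensor6.tLTensorIso X.sheaf L L').symm ≪≫
      DCoh.tensorBi.mapIso e ≪≫ Groth.Agent.Lib.Helper21.ModTensor7.tLUnitIso X.sheaf
  CategoryTheory.Equivalence.mk (DCoh.tensorBi.obj L) (DCoh.tensorBi.obj L') η.symm ε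

theorem tensorEquiv_functor (L L' : X.Modules)
    (e : (DCoh.tensorBi.obj L).obj L' ≅ Coh.structureModule X)
    (e' : (DCoh.tensorBi.obj L').obj L ≅ Coh.structureModule X) :
    (tensorEquiv L L' e e').functor = DCoh.tensorBi.obj L := rfl

end Adj

variable (k : Type u) [Field k] [IsAlgClosed k] (X : Scheme.{u}) [X.Over (Spec (CommRingCat.of k))]
    [IsIntegral X] [IsProper (X ↘ (Spec (CommRingCat.of k)))]

include k in
/-- a coherent module with vanishing generic stalk on an integral curve has `H¹ = 0` -/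
theorem subsingleton_H1_of_grk_eq_zero (hdim : topologicalKrullDim X = 1) (C : X.Modules)
    (cC : Coh.IsCoh C) (h0 : grk C = 0) : Subsingleton (Coh.HH X C 1) := by
  haveI := isNoetherian_of_proper k X
  haveI := Groth.Agent.Lib.R2H2.DevA.finite_stalk C cC (genericPoint X)
  have hsub : Subsingleton (C.presheaf.stalk (genericPoint X)) :=
    Module.finrank_zero_iff.mp h0
  have hcl : IsClosed (CohB1.support C) := Groth.Agent.S0020.result X C cC.2
  have hne : CohB1.support C ≠ Set.univ := by
    intro h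
    have : genericPoint X ∈ CohB1.support C := h ▸ Set.mem_univ _
    exact this hsub
  have hsupp : topologicalKrullDim (CohB1.support C) ≤ 0 :=
    dim_le_zero_of_ne_univ hdim.le _ hcl hne
  exact s1526 k X C cC hsupp 1 le_rfl


/-- **`H¹` vanishing for subsheaves of invertible modules**: if `F ⊆ L` is coherent with `χ(F) ≥ g` then
`H¹(F) = 0`. -/
theorem subsingleton_H1_of_sub (hdim : topologicalKrullDim X = 1) (L : X.Modules)
    (hL : PicF.IsInvertible L) (F : X.Modules) (cF : Coh.IsCoh F) (i : F ⟶ L) [Mono i]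
    (hχ : (Curv2.genus k X : ℤ) ≤ Curv2.euler k X F) : Subsingleton (Coh.HH X F 1) := by
  haveI := isNoetherian_of_proper k X
  have cL := isCoh_of_isInvertible L hL
  -- generic rank of `F`
  have cQ : Coh.IsCoh (cokernel i) := Groth.Agent.Lib.R2H2.NilFilt.isCoh_cokernel cF cL i
  let S0 : ShortComplex X.Modules := ShortComplex.mk i (cokernel.π i) (cokernel.condition i)
  have hS0 : S0.ShortExact :=
    { exact := ShortComplex.exact_cokernel i
      mono_f := inferInstanceAs (Mono i)
      epi_g := inferInstanceAs (Epi (cokernel.π i)) }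
  have hrk := grk_add S0 hS0 cF cQ
  have hrkL : grk L = 1 := grk_of_isInvertible X L hL
  have hrk' : grk F + grk (cokernel i) = 1 := by rw [← hrkL]; exact hrk.symm
  by_cases hF0 : grk F = 0
  · exact subsingleton_H1_of_grk_eq_zero k X hdim F cF hF0
  have hF1 : grk F = 1 := by omega
  -- the module `N`
  obtain ⟨-, N, hN, hN0, hN1⟩ := s1523 k X hdim
  have cN := isCoh_of_isInvertible N hN
  obtain ⟨P, hP, ⟨e⟩⟩ := exists_inverse N hN
  have hO := Groth.Agent.Lib.Helper23.TensorUnit.isInvertible_structureModule X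
  have cO := isCoh_of_isInvertible _ hO
  have χO : Curv2.euler k X (Coh.structureModule X) = 1 - (Curv2.genus k X : ℤ) := by
    rw [euler_eq_h0_sub_h1 k X hdim.le _ cO.1, finrank_H0_structure_eq_one k X]
    rfl
  have χN : Curv2.euler k X N = 0 := by
    rw [euler_eq_h0_sub_h1 k X hdim.le _ cN.1]
    haveI := hN0
    haveI := hN1
    rw [Module.finrank_zero_of_subsingleton, Module.finrank_zero_of_subsingleton]
    simp
  have hNP : Curv2.deg k X N 1 + Curv2.deg k X P 1 = 0 := by
    rw [← deg_tensorMod k X hdim N P hN hP]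
    unfold Curv2.deg
    rw [euler_congr k e]
    push_cast
    ring
  have hP1 : FlatMod.IsFinLocFreeOfRank 1 P :=
    Groth.Agent.Lib.Helper23.SecTw.isFinLocFreeOfRank_one_of_isInvertible P hP
  have hχPF := s1557 k X hdim 1 P hP1 F cF
  have cPF : Coh.IsCoh (CohB1.tensorMod P F) :=
    haveI : P.IsQuasicoherent := (isCoh_of_isInvertible P hP).1
    haveI : SheafOfModules.IsFiniteType (R := X.ringCatSheaf) P := (isCoh_of_isInvertible P hP).2
    haveI : F.IsQuasicoherent := cF.1
    haveI : SheafOfModules.IsFiniteType (R := X.ringCatSheaf) F := cF.2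
    ⟨Groth.Agent.Lib.Helper23.TensorQCoh.isQuasicoherent_tensorMod P F,
      Groth.Agent.Lib.Helper23.TensorQCoh.isFiniteType_tensorMod P F⟩
  have hpos : 0 < Module.finrank k (Coh.HH X (CohB1.tensorMod P F) 0) := by
    have e1 := euler_eq_h0_sub_h1 k X hdim.le _ cPF.1
    have hgr : (Module.finrank (X.presheaf.stalk (genericPoint X))
        (F.presheaf.stalk (genericPoint X)) : ℤ) = 1 := by
      have : grk F = 1 := hF1
      unfold grk at this
      exact_mod_cast this
    rw [hgr] at hχPF
    unfold Curv2.deg at hNP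
    rw [χN, χO] at hNP
    unfold Curv2.deg at hχPF
    push_cast at hNP hχPF
    have h1 : (0 : ℤ) ≤ (Module.finrank k (Coh.HH X (CohB1.tensorMod P F) 1) : ℤ) :=
      Int.natCast_nonneg _
    have : (0 : ℤ) < (Module.finrank k (Coh.HH X (CohB1.tensorMod P F) 0) : ℤ) := by
      linarith
    exact_mod_cast this
  obtain ⟨t, ht⟩ := exists_section_of_pos k X _ cPF hpos
  -- the nonzero map `N ⟶ F`
  have e' : CohB1.tensorMod P N ≅ Coh.structureModule X :=
    Groth.Agent.Lib.Helper21.ModTensor5.brdApp X.sheaf P N ≪≫ e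
  let E := tensorEquiv N P e e'
  let φ' : CohB1.tensorMod N (Coh.structureModule X) ⟶ F :=
    (E.toAdjunction.homEquiv (Coh.structureModule X) F).symm t
  have hφ' : φ' ≠ 0 := by
    intro h0
    apply ht
    have h1 : t = E.toAdjunction.homEquiv (Coh.structureModule X) F φ' :=
      ((E.toAdjunction.homEquiv _ _).apply_symm_apply t).symm
    rw [h1, h0]
    change E.toAdjunction.homEquiv (Coh.structureModule X) F
      (0 : E.functor.obj (Coh.structureModule X) ⟶ F) = 0
    rw [Adjunction.homEquiv_unit, Functor.map_zero, comp_zero]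
  obtain ⟨φ, hφ⟩ : ∃ φ : N ⟶ F, φ ≠ 0 := by
    refine ⟨(SecTwist.unitorR N).inv ≫ φ', fun h0 => hφ' ?_⟩
    have h1 : (SecTwist.unitorR N).hom ≫
        ((SecTwist.unitorR N).inv ≫ φ') = 0 := by
      rw [h0, comp_zero]
    rwa [Iso.hom_inv_id_assoc] at h1
  have hφi : φ ≫ i ≠ 0 := fun h0 => hφ ((cancel_mono i).1 (h0.trans zero_comp.symm))
  haveI : Mono (φ ≫ i) := Groth.Agent.Lib.R2H1.InvHom.mono_of_ne_zero hN hL (φ ≫ i) hφi
  haveI : Mono φ := mono_of_mono φ i
  have cC : Coh.IsCoh (cokernel φ) := Groth.Agent.Lib.R2H2.NilFilt.isCoh_cokernel cN cF φ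
  let S : ShortComplex X.Modules := ShortComplex.mk φ (cokernel.π φ) (cokernel.condition φ)
  have hS : S.ShortExact :=
    { exact := ShortComplex.exact_cokernel φ
      mono_f := inferInstanceAs (Mono φ)
      epi_g := inferInstanceAs (Epi (cokernel.π φ)) }
  have hrkS := grk_add S hS cN cC
  have hrkN : grk N = 1 := grk_of_isInvertible X N hN
  have hC0 : grk (cokernel φ) = 0 := by
    have h1 : grk F = grk N + grk (cokernel φ) := hrkS
    omega
  haveI := subsingleton_H1_of_grk_eq_zero k X hdim (cokernel φ) cC hC0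
  have hle : hh k X F 1 ≤ hh k X N 1 + hh k X (cokernel φ) 1 := hh_mid_le k S hS cN cF cC 1
  have hN1' : hh k X N 1 = 0 := by
    haveI := hN1
    exact Module.finrank_zero_of_subsingleton
  have hC1' : hh k X (cokernel φ) 1 = 0 := Module.finrank_zero_of_subsingleton
  have h10 : Module.finrank k (Coh.HH X F 1) = 0 := by
    have : hh k X F 1 = 0 := by omega
    exact this
  haveI := finite_HH k X F cF 1
  exact Module.finrank_zero_iff.mp h10

end Groth.Agent.Lib.R2H7.VACurveA
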