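import Mathlib
import Groth.Agent.Lib.Helper1Sky3
import Groth.Agent.Lib.Helper1KBC2
import Groth.Agent.Lib.Helper20PullbackAff
import Groth.Agent.Lib.R2H2DevA

/-!
# Maps from a coherent module to the skyscraper at a point of its support (helper7, round 2)

* `subsingleton_of_tensor_local` : local homomorphism `A → B`, `M` finite over `A` with `B ⊗ M = 0` ⇒ `M = 0`.
* `kk y` : the module `ι_* O` for `ι : Spec κ(y) ⟶ X`.
* `exists_hom_kk_ne_zero` : a quasi-coherent module with finite nonzero stalk at `y` has a nonzero map to `kk y`.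
-/

set_option autoImplicit false
set_option linter.style.haveILetI false
set_option linter.unusedSectionVars false
universe u
open CategoryTheory CategoryTheory.Limits AlgebraicGeometry TopologicalSpace Opposite TensorProduct

namespace Groth.Agent.Lib.R2H7.VACurveB

section Alg

/-- Nakayama for a local homomorphism: a finite module which dies after base change is zero -/
theorem subsingleton_of_tensor_local {A B : Type u} [CommRing A] [CommRing B] [IsLocalRing A]
    [IsLocalRing B] [Algebra A B] [IsLocalHom (algebraMap A B)] (M : Type u) [AddCommGroup M]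
    [Module A M] [Module.Finite A M] (h : Subsingleton (B ⊗[A] M)) : Subsingleton M := by
  rw [← IsLocalRing.subsingleton_tensorProduct (R := A)]
  by_contra hV
  rw [not_subsingleton_iff_nontrivial] at hV
  obtain ⟨v, hv⟩ := exists_ne (0 : IsLocalRing.ResidueField A ⊗[A] M)
  obtain ⟨f, hf⟩ : ∃ f : Module.Dual (IsLocalRing.ResidueField A) (IsLocalRing.ResidueField A ⊗[A] M),
      f v ≠ 0 := by
    by_contra hcon
    push Not at hcon
    exact hv ((Module.forall_dual_apply_eq_zero_iff (IsLocalRing.ResidueField A) v).1 hcon)
  obtain ⟨m₀, rfl⟩ := TensorProduct.mk_surjective A M (IsLocalRing.ResidueField A)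
    IsLocalRing.residue_surjective v
  -- the `A`-linear map `M → k_A`
  let g : M →ₗ[A] IsLocalRing.ResidueField A :=
    (f.restrictScalars A).comp (TensorProduct.mk A (IsLocalRing.ResidueField A) M 1)
  have hg : g m₀ ≠ 0 := hf
  have h0 : (LinearMap.lTensor B g) ((1 : B) ⊗ₜ[A] m₀) = 0 := by
    rw [Subsingleton.elim ((1 : B) ⊗ₜ[A] m₀) 0, map_zero]
  rw [LinearMap.lTensor_tmul] at h0
  -- the map `B ⊗ k_A → k_B`
  let ρ : IsLocalRing.ResidueField A →+* IsLocalRing.ResidueField B :=
    IsLocalRing.ResidueField.map (algebraMap A B)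
  let β : B →+ IsLocalRing.ResidueField A →+ IsLocalRing.ResidueField B :=
    { toFun := fun b =>
        { toFun := fun c => IsLocalRing.residue B b * ρ c
          map_zero' := by simp
          map_add' := fun c c' => by rw [map_add, mul_add] }
      map_zero' := by ext c; simp
      map_add' := fun b b' => by ext c; simp [add_mul] }
  have hβ : ∀ (a : A) (b : B) (c : IsLocalRing.ResidueField A), β (a • b) c = β b (a • c) := by
    intro a b c
    change IsLocalRing.residue B (a • b) * ρ c = IsLocalRing.residue B b * ρ (a • c)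
    rw [Algebra.smul_def, Algebra.smul_def, map_mul, map_mul]
    have : ρ (algebraMap A (IsLocalRing.ResidueField A) a) =
        IsLocalRing.residue B (algebraMap A B a) :=
      IsLocalRing.ResidueField.map_residue (algebraMap A B) a
    rw [this]
    ring
  have h1 := congrArg (TensorProduct.liftAddHom β hβ) h0
  rw [map_zero, TensorProduct.liftAddHom_tmul] at h1
  change IsLocalRing.residue B 1 * ρ (g m₀) = 0 at h1
  rw [map_one, one_mul] at h1
  exact hg ((map_eq_zero ρ).1 h1)

end Alg


section Tilde

theorem exists_functional_ne_zero {R : Type u} [CommRing R] (hR : IsField R) (V : Type u)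
    [AddCommGroup V] [Module R V] [Nontrivial V] : ∃ f : V →ₗ[R] R, f ≠ 0 := by
  letI := hR.toField
  obtain ⟨v, hv⟩ := exists_ne (0 : V)
  obtain ⟨f, hf⟩ : ∃ f : Module.Dual R V, f v ≠ 0 := by
    by_contra hcon
    push Not at hcon
    exact hv ((Module.forall_dual_apply_eq_zero_iff R v).1 hcon)
  exact ⟨f, fun h0 => hf (by rw [h0]; rfl)⟩

/-- a nonzero quasi-coherent module on the spectrum of a field has a nonzero map to the structure sheaf -/
theorem exists_hom_unit_ne_zero (R : CommRingCat.{u}) (hR : IsField R) (M' : (Spec R).Modules)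
    [M'.IsQuasicoherent] (h : ¬ IsZero M') :
    ∃ ψ' : M' ⟶ Coh.structureModule (Spec R), ψ' ≠ 0 := by
  haveI : IsIso M'.fromTildeΓ := inferInstance
  have hV : ¬ Subsingleton (moduleSpecΓFunctor.obj M') := by
    intro hsub
    apply h
    have h1 : IsZero (moduleSpecΓFunctor.obj M') := ModuleCat.isZero_of_subsingleton _
    have h2 : IsZero ((tilde.functor R).obj (moduleSpecΓFunctor.obj M')) :=
      (tilde.functor R).map_isZero h1
    exact h2.of_iso (asIso M'.fromTildeΓ).symm
  rw [not_subsingleton_iff_nontrivial] at hV
  obtain ⟨f, hf⟩ := exists_functional_ne_zero hR (moduleSpecΓFunctor.obj M')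
  let g : moduleSpecΓFunctor.obj M' ⟶ ModuleCat.of R R :=
    ConcreteCategory.ofHom (C := ModuleCat R) (X := moduleSpecΓFunctor.obj M')
      (Y := ModuleCat.of R R) f
  have hg : g ≠ 0 := by
    intro h0
    apply hf
    have h3 := congrArg ModuleCat.Hom.hom h0
    rw [ModuleCat.hom_zero] at h3
    exact h3
  let ψ₀ : (tilde.functor R).obj (moduleSpecΓFunctor.obj M') ⟶
      (tilde.functor R).obj (ModuleCat.of R R) := (tilde.functor R).map g
  have hψ₀ : ψ₀ ≠ 0 := by
    intro h0
    have h1 : (tilde.functor R).map g = (tilde.functor R).map 0 := by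
      rw [Functor.map_zero]; exact h0
    exact hg ((tilde.functor R).map_injective h1)
  let τ : (tilde.functor R).obj (ModuleCat.of R R) ≅ Coh.structureModule (Spec R) := tildeSelf
  refine ⟨inv M'.fromTildeΓ ≫ ψ₀ ≫ τ.hom, fun h0 => hψ₀ ?_⟩
  have h1 : ψ₀ ≫ τ.hom = 0 :=
    (cancel_epi (inv M'.fromTildeΓ)).1 (h0.trans comp_zero.symm)
  exact (cancel_mono τ.hom).1 (h1.trans zero_comp.symm)

end Tilde

section Sky

open Groth.Agent.Lib.Helper1.Sky Groth.Agent.Lib.Helper1.StalkTensor

variable {X : Scheme.{u}} (y : X)

/-- the skyscraper module `ι_* O` for `ι : Spec κ(y) ⟶ X` -/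
noncomputable def kk : X.Modules :=
  (Scheme.Modules.pushforward (X.fromSpecResidueField y)).obj
    (Coh.structureModule (Spec (X.residueField y)))

/-- the pullback of a quasi-coherent module with finite nonzero stalk at `y` to `Spec κ(y)` is not zero -/
theorem not_isZero_pullback (C : X.Modules) (z : Spec (X.residueField y))
    [Module.Finite (X.presheaf.stalk (X.fromSpecResidueField y z))
      (C.presheaf.stalk (X.fromSpecResidueField y z))]
    (hy : ¬ Subsingleton (C.presheaf.stalk (X.fromSpecResidueField y z))) :
    ¬ IsZero ((Scheme.Modules.pullback (X.fromSpecResidueField y)).obj C) := by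
  intro hz
  haveI : (stalkFun z).IsLeftAdjoint := (stalkSkyAdj z).isLeftAdjoint
  have h1 : IsZero ((stalkFun z).obj ((Scheme.Modules.pullback (X.fromSpecResidueField y)).obj C)) :=
    (stalkFun z).map_isZero hz
  have e1 := (stalkPullbackIso (X.fromSpecResidueField y) z).app C
  have h2 : IsZero ((ModuleCat.extendScalars.{u, u, u}
      ((X.fromSpecResidueField y).stalkMap z).hom).obj
        ((stalkFun ((X.fromSpecResidueField y) z)).obj C)) := h1.of_iso e1.symm
  have h3 := ModuleCat.subsingleton_of_isZero h2
  letI : Algebra (Ox ((X.fromSpecResidueField y) z)) (Ox z) :=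
    ((X.fromSpecResidueField y).stalkMap z).hom.toAlgebra
  haveI : IsLocalHom (algebraMap (Ox ((X.fromSpecResidueField y) z)) (Ox z)) :=
    inferInstanceAs (IsLocalHom ((X.fromSpecResidueField y).stalkMap z).hom)
  apply hy
  exact subsingleton_of_tensor_local (A := Ox ((X.fromSpecResidueField y) z)) (B := Ox z)
    (C.presheaf.stalk (X.fromSpecResidueField y z)) h3

/-- **a nonzero map to the skyscraper**: a quasi-coherent module with finite nonzero stalk at `y` maps nontrivially
to `kk y`. -/
theorem exists_hom_kk_ne_zero (C : X.Modules) [C.IsQuasicoherent]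
    [Module.Finite (X.presheaf.stalk y) (C.presheaf.stalk y)]
    (hy : ¬ Subsingleton (C.presheaf.stalk y)) : ∃ ψ : C ⟶ kk y, ψ ≠ 0 := by
  let z : Spec (X.residueField y) := IsLocalRing.closedPoint (X.residueField y)
  have hz : X.fromSpecResidueField y z = y := X.fromSpecResidueField_apply y z
  haveI : Module.Finite (X.presheaf.stalk (X.fromSpecResidueField y z))
      (C.presheaf.stalk (X.fromSpecResidueField y z)) := by
    rw [hz]; infer_instance
  have hy' : ¬ Subsingleton (C.presheaf.stalk (X.fromSpecResidueField y z)) := by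
    rw [hz]; exact hy
  have hM := not_isZero_pullback y C z hy'
  have hfield : IsField (X.residueField y) := Field.toIsField _
  obtain ⟨ψ', hψ'⟩ := exists_hom_unit_ne_zero (X.residueField y) hfield _ hM
  refine ⟨(Scheme.Modules.pullbackPushforwardAdjunction (X.fromSpecResidueField y)).homEquiv C _ ψ',
    fun h0 => hψ' ?_⟩
  have h1 := congrArg
    ((Scheme.Modules.pullbackPushforwardAdjunction (X.fromSpecResidueField y)).homEquiv C _).symm h0
  rw [Equiv.symm_apply_apply] at h1
  rw [h1]
  change ((Scheme.Modules.pullbackPushforwardAdjunction (X.fromSpecResidueField y)).homEquiv C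
    (Coh.structureModule (Spec (X.residueField y)))).symm
      (0 : C ⟶ (Scheme.Modules.pushforward (X.fromSpecResidueField y)).obj
        (Coh.structureModule (Spec (X.residueField y)))) = 0
  rw [Adjunction.homEquiv_counit, Functor.map_zero, zero_comp]

end Sky

end Groth.Agent.Lib.R2H7.VACurveB
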