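import Mathlib
import Groth.Agent.Lib.R2H7VACurveB
import Groth.Agent.Lib.R2H1RegPoint
import Groth.Agent.Lib.R2H2DevI
import Groth.Agent.S0019

/-!
# The skyscraper `kk y` at a closed point (helper7, round 2)

For a closed point `y` of `X`, `kk y = ι_* O` for `ι : Spec κ(y) ⟶ X`:
* `isCoh_kk` : coherent (`X` locally Noetherian).
* `support_kk_subset` : the support is contained in `{y}`.
* `smul_stalk_kk` : the maximal ideal kills the stalk at `y`.
* `finrank_H0_kk` : `h⁰ = 1` over an algebraically closed field.
-/

set_option autoImplicit false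
set_option linter.style.haveILetI false
set_option linter.unusedSectionVars false
universe u
open CategoryTheory CategoryTheory.Limits AlgebraicGeometry TopologicalSpace Opposite

namespace Groth.Agent.Lib.R2H7.VACurveC

open Groth.Agent.Lib.R2H7.VACurveB

variable {X : Scheme.{u}} (y : X) (hy : IsClosed ({y} : Set X))

include hy in
theorem isClosedImmersion_ι : IsClosedImmersion (X.fromSpecResidueField y) :=
  isClosed_singleton_iff_isClosedImmersion.1 hy

include hy in
theorem isCoh_kk [IsLocallyNoetherian X] : Coh.IsCoh (kk y) := by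
  haveI := isClosedImmersion_ι y hy
  exact Groth.Agent.S0019.result (X.fromSpecResidueField y) _
    (Groth.Agent.Lib.R2H1.GenusLe.isCoh_structureModule _)

include hy in
theorem support_kk_subset : CohB1.support (kk y) ⊆ {y} := by
  haveI := isClosedImmersion_ι y hy
  have h := Groth.Agent.Lib.R2H2.DevE.support_push_subset (X.fromSpecResidueField y)
    (Coh.structureModule (Spec (X.residueField y)))
  rw [Scheme.range_fromSpecResidueField] at h
  exact h

include hy in
theorem subsingleton_stalk_kk (x : X) (hx : x ≠ y) : Subsingleton ((kk y).presheaf.stalk x) := by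
  by_contra h
  exact hx (support_kk_subset y hy h)

theorem ι_genericPoint : X.fromSpecResidueField y (genericPoint (Spec (X.residueField y))) = y :=
  X.fromSpecResidueField_apply y _

include hy in
theorem smul_stalk_kk (a : X.presheaf.stalk y) (ha : a ∈ IsLocalRing.maximalIdeal (X.presheaf.stalk y))
    (g : (kk y).presheaf.stalk y) : a • g = 0 := by
  haveI := isClosedImmersion_ι y hy
  have key : ∀ (y' : X) (hy' : X.fromSpecResidueField y (genericPoint (Spec (X.residueField y))) = y')
      (a : X.presheaf.stalk y') (_ : a ∈ IsLocalRing.maximalIdeal (X.presheaf.stalk y'))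
      (g : (kk y).presheaf.stalk y'), a • g = 0 := by
    rintro y' rfl a ha g
    exact Groth.Agent.Lib.R2H2.DevI.stalk_push_smul_eq_zero (X.fromSpecResidueField y)
      (Coh.structureModule (Spec (X.residueField y))) a ha g
  exact key y (ι_genericPoint y) a ha g

section Field

variable (k : Type u) [Field k] [IsAlgClosed k] [X.Over (Spec (CommRingCat.of k))]
  [IsProper (X ↘ (Spec (CommRingCat.of k)))]

include hy in
theorem finrank_H0_kk : Module.finrank k (Coh.HH X (kk y) 0) = 1 := by
  haveI := isClosedImmersion_ι y hy
  haveI : CompactSpace X :=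
    QuasiCompact.compactSpace_of_compactSpace (X ↘ Spec (CommRingCat.of k))
  letI : (Spec (X.residueField y)).Over (Spec (CommRingCat.of k)) :=
    ⟨X.fromSpecResidueField y ≫ (X ↘ Spec (CommRingCat.of k))⟩
  haveI : IsProper ((Spec (X.residueField y)) ↘ Spec (CommRingCat.of k)) :=
    inferInstanceAs (IsProper (X.fromSpecResidueField y ≫ (X ↘ Spec (CommRingCat.of k))))
  obtain ⟨ι, hfin, V, hcov, hVa, hV⟩ :=
    Groth.Agent.Lib.R2H2.ProperFin.exists_affine_cover_of_isSeparated
      (X ↘ Spec (CommRingCat.of k))
  obtain ⟨e⟩ := Groth.Agent.Lib.R2H2.AffPushLin.exists_push_linear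
    (X.fromSpecResidueField y) V k rfl hcov hV
    (Coh.structureModule (Spec (X.residueField y)))
    (Groth.Agent.Lib.R2H1.GenusLe.isCoh_structureModule _).1 0
  change Module.finrank k (Coh.HH X ((Scheme.Modules.pushforward (X.fromSpecResidueField y)).obj
    (Coh.structureModule (Spec (X.residueField y)))) 0) = 1
  rw [← e.finrank_eq]
  exact Groth.Agent.Lib.R2H1.RegPoint.finrank_H0_structure_eq_one k _

end Field

end Groth.Agent.Lib.R2H7.VACurveC
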