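import Mathlib
import Groth.Agent.Lib.Helper23StalkLin
import Groth.Agent.Lib.Helper23Restr
import Groth.Agent.Lib.R2H2PnHilbPoly

/-!
# Stalks of maps out of finite free modules (helper7, round 2)

* `stalkLin_comp`, `stalkLin_add`, `stalkLin_zero`, `stalkLin_sum`.
* `oneStalk y`, `stalkLin_oneStalk`, `exists_eq_smul_oneStalk`.
* `range_stalkLin_desc` : the image of the stalk map of `biproduct.desc σ : O^m ⟶ F` is the span of the germs of the
  sections `σ j`.
* `eq_zero_of_germ_eq_zero` : a map `O ⟶ T` to a module supported at `y` is zero if its section has zero germ at `y`.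
-/

set_option autoImplicit false
set_option linter.style.haveILetI false
set_option linter.unusedSectionVars false
universe u
open CategoryTheory CategoryTheory.Limits AlgebraicGeometry TopologicalSpace Opposite

namespace Groth.Agent.Lib.R2H7.VACurveD

open Groth.Agent.Lib.Helper4.NormDelta Groth.Agent.Lib.Helper23.StalkLin Groth.Agent.Lib.Helper23.SecTw
  Groth.Agent.Lib.Helper23.GenLocus Groth.Agent.Lib.Helper6

attribute [local instance] Abelian.hasFiniteBiproducts

variable {X : Scheme.{u}}

theorem stalkLin_comp {F G H : X.Modules} (φ : F ⟶ G) (ψ : G ⟶ H) (x : X) :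
    stalkLin (φ ≫ ψ) x = (stalkLin ψ x).comp (stalkLin φ x) := by
  ext v
  obtain ⟨V, hxV, t, rfl⟩ := F.presheaf.exists_germ_eq v
  rw [LinearMap.comp_apply, stalkLin_germ, stalkLin_germ, stalkLin_germ]
  rfl

theorem stalkLin_add {F G : X.Modules} (φ ψ : F ⟶ G) (x : X) :
    stalkLin (φ + ψ) x = stalkLin φ x + stalkLin ψ x := by
  ext v
  obtain ⟨V, hxV, t, rfl⟩ := F.presheaf.exists_germ_eq v
  rw [LinearMap.add_apply, stalkLin_germ, stalkLin_germ, stalkLin_germ, ← map_add]
  rfl

theorem stalkLin_zero {F G : X.Modules} (x : X) :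
    stalkLin (0 : F ⟶ G) x = 0 := by
  ext v
  obtain ⟨V, hxV, t, rfl⟩ := F.presheaf.exists_germ_eq v
  rw [LinearMap.zero_apply, stalkLin_germ]
  exact map_zero _

theorem stalkLin_sum {F G : X.Modules} {ι : Type*} (s : Finset ι) (φ : ι → (F ⟶ G)) (x : X) :
    stalkLin (∑ j ∈ s, φ j) x = ∑ j ∈ s, stalkLin (φ j) x := by
  classical
  induction s using Finset.induction_on with
  | empty => simp [stalkLin_zero]
  | insert a s ha ih => rw [Finset.sum_insert ha, Finset.sum_insert ha, stalkLin_add, ih]

/-- the germ of `1` in the stalk of the structure module -/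
noncomputable def oneStalk (y : X) : (Coh.structureModule X).presheaf.stalk y :=
  (Coh.structureModule X).presheaf.germ ⊤ y trivial (toS ⊤ 1)

theorem stalkLin_oneStalk {F : X.Modules} (σ : Coh.structureModule X ⟶ F) (y : X) :
    stalkLin σ y (oneStalk y) = F.presheaf.germ ⊤ y trivial (sv σ ⊤) := by
  unfold oneStalk
  refine (stalkLin_germ σ y ⊤ trivial (toS ⊤ 1)).trans ?_
  have h := app_toS σ ⊤ 1
  rw [one_smul] at h
  rw [← h]

theorem exists_eq_smul_oneStalk (y : X) (a : (Coh.structureModule X).presheaf.stalk y) :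
    ∃ r : X.presheaf.stalk y, a = r • oneStalk y := by
  obtain ⟨V, hyV, t, rfl⟩ := (Coh.structureModule X).presheaf.exists_germ_eq a
  refine ⟨X.presheaf.germ V y hyV (ofS V t), ?_⟩
  have h1 : t = ofS V t • toS V 1 := by
    rw [smul_toS, mul_one, toS_ofS]
  have h2 : (Coh.structureModule X).presheaf.germ V y hyV (toS V 1) = oneStalk y := by
    unfold oneStalk
    rw [← TopCat.Presheaf.germ_res_apply (Coh.structureModule X).presheaf (homOfLE (le_top : V ≤ ⊤)) y hyV
      (toS ⊤ 1)]
    congr 1
    exact ((map_toS (homOfLE (le_top : V ≤ ⊤)) 1).trans (by rw [map_one])).symm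
  conv_lhs => rw [h1]
  rw [Groth.Agent.Lib.Helper2.QCoh.germ_smul, h2]

theorem stalkLin_apply_eq_smul {F : X.Modules} (σ : Coh.structureModule X ⟶ F) (y : X)
    (a : (Coh.structureModule X).presheaf.stalk y) :
    ∃ r : X.presheaf.stalk y, stalkLin σ y a = r • F.presheaf.germ ⊤ y trivial (sv σ ⊤) := by
  obtain ⟨r, rfl⟩ := exists_eq_smul_oneStalk y a
  exact ⟨r, by rw [map_smul, stalkLin_oneStalk]⟩

/-- the image of the stalk map of `biproduct.desc σ` -/
theorem range_stalkLin_desc {F : X.Modules} (m : ℕ) (σ : Fin m → (Coh.structureModule X ⟶ F)) (y : X) :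
    LinearMap.range (stalkLin (biproduct.desc σ : (⨁ fun _ : Fin m => Coh.structureModule X) ⟶ F) y) =
      Submodule.span (X.presheaf.stalk y)
        (Set.range fun j => F.presheaf.germ ⊤ y trivial (sv (σ j) ⊤)) := by
  apply le_antisymm
  · rintro _ ⟨w, rfl⟩
    have htot : (biproduct.desc σ : (⨁ fun _ : Fin m => Coh.structureModule X) ⟶ F) =
        ∑ j : Fin m, biproduct.π (fun _ : Fin m => Coh.structureModule X) j ≫ σ j := by
      have h1 : (biproduct.desc σ : (⨁ fun _ : Fin m => Coh.structureModule X) ⟶ F) =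
          (∑ j : Fin m, biproduct.π (fun _ : Fin m => Coh.structureModule X) j ≫
            biproduct.ι (fun _ : Fin m => Coh.structureModule X) j) ≫ biproduct.desc σ := by
        rw [biproduct.total, Category.id_comp]
      rw [h1, Preadditive.sum_comp]
      refine Finset.sum_congr rfl fun j _ => ?_
      rw [Category.assoc, biproduct.ι_desc]
    rw [htot, stalkLin_sum, LinearMap.sum_apply]
    refine Submodule.sum_mem _ fun j _ => ?_
    rw [stalkLin_comp, LinearMap.comp_apply]
    obtain ⟨r, hr⟩ := stalkLin_apply_eq_smul (σ j) y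
      (stalkLin (biproduct.π (fun _ : Fin m => Coh.structureModule X) j) y w)
    rw [hr]
    exact Submodule.smul_mem _ _ (Submodule.subset_span ⟨j, rfl⟩)
  · rw [Submodule.span_le]
    rintro _ ⟨j, rfl⟩
    refine ⟨stalkLin (biproduct.ι (fun _ : Fin m => Coh.structureModule X) j) y (oneStalk y), ?_⟩
    rw [← LinearMap.comp_apply, ← stalkLin_comp, biproduct.ι_desc, stalkLin_oneStalk]

/-- a map `O ⟶ T` whose section has vanishing germ at `y` is zero when the other stalks of `T` vanish -/
theorem eq_zero_of_germ_eq_zero {T : X.Modules} (y : X)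
    (hT : ∀ x : X, x ≠ y → Subsingleton (T.presheaf.stalk x)) (τ : Coh.structureModule X ⟶ T)
    (h : T.presheaf.germ ⊤ y trivial (sv τ ⊤) = 0) : τ = 0 := by
  apply hom_ext_of_sv
  rw [sv_zero]
  refine TopCat.Presheaf.section_ext (⟨T.presheaf, T.isSheaf⟩ : TopCat.Sheaf _ _) ⊤ _ _ fun x hx => ?_
  rw [map_zero]
  by_cases hxy : x = y
  · subst hxy
    exact h
  · haveI := hT x hxy
    exact Subsingleton.elim _ _

end Groth.Agent.Lib.R2H7.VACurveD
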