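import Mathlib
import Groth.Agent.Lib.R2H7VACurveA
import Groth.Agent.Lib.R2H7VACurveC
import Groth.Agent.Lib.R2H7VACurveD
import Groth.Agent.Lib.R2H1CurveAmple
import Groth.Agent.Lib.R2H1FinrankChain

/-!
# Global generation of coherent subsheaves of invertible modules on integral curves (helper7, round 2)

`X` an integral proper curve over an algebraically closed field `k`, of genus `g`; `F ⊆ L` a coherent subsheaf of an
invertible module with `χ(F) ≥ g + 1`.

* `eq_zero_of_kills_sections` : a map `F ⟶ kk y` (`y` closed) killing all global sections of `F` is zero.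
* `span_germ_eq_top` : `F` is generated by its global sections at every closed point.
-/

set_option autoImplicit false
set_option linter.style.haveILetI false
set_option linter.unusedSectionVars false
universe u
open CategoryTheory CategoryTheory.Limits AlgebraicGeometry TopologicalSpace Opposite

namespace Groth.Agent.Lib.R2H7.VACurveE

open Groth.Agent.Lib.R2H7.VACurveA Groth.Agent.Lib.R2H7.VACurveB Groth.Agent.Lib.R2H7.VACurveC
  Groth.Agent.Lib.R2H7.VACurveD
open Groth.Agent.Lib.Helper4.NormDelta Groth.Agent.Lib.Helper23.StalkLin Groth.Agent.Lib.Helper23.SecTw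
  Groth.Agent.Lib.Helper23.GenLocus Groth.Agent.Lib.Helper6
open Groth.Agent.Lib.R2H2.HHLin Groth.Agent.Lib.R2H1.EulerAdd Groth.Agent.Lib.R2H2.PnLinRes
  Groth.Agent.Lib.R2H2.PnBeilinson Groth.Agent.Lib.R2H1.CurveEuler Groth.Agent.Lib.R2H1.CurveDegSec
  Groth.Agent.Lib.R2H1.FinrankChain

attribute [local instance] Abelian.hasFiniteBiproducts

section Top

theorem dim_le_zero_of_subset_singleton {T : Type*} [TopologicalSpace T] (Z : Set T) (y : T)
    (h : Z ⊆ {y}) : topologicalKrullDim Z ≤ 0 := by
  haveI : Subsingleton Z := ⟨fun a b => Subtype.ext ((h a.2).trans (h b.2).symm)⟩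
  refine Order.krullDim_nonpos_iff_forall_isMax.mpr fun a b hab => ?_
  intro x hx
  obtain ⟨x', hx'⟩ := a.isIrreducible.nonempty
  rw [Subsingleton.elim x x']
  exact hx'

end Top

section Lift

variable (k : Type u) [Field k] (X : Scheme.{u}) [X.Over (Spec (CommRingCat.of k))]
    [IsProper (X ↘ (Spec (CommRingCat.of k)))]

include k in
/-- if `H¹(X₁) = 0`, every global section of `X₃` lifts to `X₂` -/
theorem exists_lift_of_H1 (S : ShortComplex X.Modules) (hS : S.ShortExact)
    (h1 : Subsingleton (Coh.HH X S.X₁ 1))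
    (c : Coh.structureModule X ⟶ S.X₃) : ∃ t : Coh.structureModule X ⟶ S.X₂, t ≫ S.g = c := by
  have hδ : deltaA k S hS 0 (cls c) = 0 := Subsingleton.elim _ _
  obtain ⟨y, hy⟩ := (exact_gd k S hS 0 (cls c)).mp hδ
  obtain ⟨t, rfl⟩ := cls_surjective S.X₂ y
  refine ⟨t, ?_⟩
  have h1 : cls (t ≫ S.g) = cls c := by
    rw [← cls_comp]
    exact hy
  exact clsL_injective (k := k) S.X₃ h1

end Lift

section Supp

variable {X : Scheme.{u}}

theorem support_subset_of_mono {E T : X.Modules} (j : E ⟶ T) [Mono j] :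
    CohB1.support E ⊆ CohB1.support T := by
  intro x hx hT
  apply hx
  exact (stalkLin_injective j x).subsingleton

end Supp

variable (k : Type u) [Field k] [IsAlgClosed k] (X : Scheme.{u}) [X.Over (Spec (CommRingCat.of k))]
    [IsIntegral X] [IsProper (X ↘ (Spec (CommRingCat.of k)))]

/-- **the cohomological core**: a map `F ⟶ kk y` killing all global sections is zero, for `F ⊆ L` with `χ(F) ≥ g + 1`. -/
theorem eq_zero_of_kills_sections (hdim : topologicalKrullDim X = 1) (L : X.Modules)
    (hL : PicF.IsInvertible L) (F : X.Modules) (cF : Coh.IsCoh F) (i : F ⟶ L) [Mono i]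
    (hχ : (Curv2.genus k X : ℤ) + 1 ≤ Curv2.euler k X F) (y : X) (hy : IsClosed ({y} : Set X))
    (ψ : F ⟶ kk y) (hψ : ∀ σ : Coh.structureModule X ⟶ F, σ ≫ ψ = 0) : ψ = 0 := by
  haveI := isNoetherian_of_proper k X
  have cT : Coh.IsCoh (kk y) := isCoh_kk y hy
  have cQ : Coh.IsCoh (cokernel ψ) := Groth.Agent.Lib.R2H2.NilFilt.isCoh_cokernel cF cT ψ
  have cE : Coh.IsCoh (Abelian.image ψ) :=
    Groth.Agent.Lib.R2H2.PdSheaf.isCoh_kernel cT cQ (cokernel.π ψ)
  have cK : Coh.IsCoh (kernel (Abelian.factorThruImage ψ)) :=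
    Groth.Agent.Lib.R2H2.PdSheaf.isCoh_kernel cF cE (Abelian.factorThruImage ψ)
  let S : ShortComplex X.Modules := ShortComplex.mk (kernel.ι (Abelian.factorThruImage ψ))
    (Abelian.factorThruImage ψ) (kernel.condition _)
  have hS : S.ShortExact :=
    { exact := ShortComplex.exact_kernel _
      mono_f := inferInstanceAs (Mono (kernel.ι (Abelian.factorThruImage ψ)))
      epi_g := inferInstanceAs (Epi (Abelian.factorThruImage ψ)) }
  let S' : ShortComplex X.Modules := ShortComplex.mk (Abelian.image.ι ψ)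
    (cokernel.π (Abelian.image.ι ψ)) (cokernel.condition _)
  have hS' : S'.ShortExact :=
    { exact := ShortComplex.exact_cokernel _
      mono_f := inferInstanceAs (Mono (Abelian.image.ι ψ))
      epi_g := inferInstanceAs (Epi (cokernel.π (Abelian.image.ι ψ))) }
  have h0E : hh k X (Abelian.image ψ) 0 ≤ hh k X (kk y) 0 := hh_left_zero_le k S' hS' cE cT
  have h0T : hh k X (kk y) 0 = 1 := finrank_H0_kk y hy k
  have χE : Curv2.euler k X (Abelian.image ψ) ≤ 1 := by
    rw [euler_eq_h0_sub_h1 k X hdim.le _ cE.1]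
    have h1 : (0 : ℤ) ≤ (Module.finrank k (Coh.HH X (Abelian.image ψ) 1) : ℤ) := Int.natCast_nonneg _
    have h2 : (Module.finrank k (Coh.HH X (Abelian.image ψ) 0) : ℤ) ≤ 1 := by
      have : hh k X (Abelian.image ψ) 0 ≤ 1 := h0T ▸ h0E
      exact_mod_cast this
    linarith
  have χadd : Curv2.euler k X F = Curv2.euler k X (kernel (Abelian.factorThruImage ψ)) +
      Curv2.euler k X (Abelian.image ψ) := s1524 k X S hS cK cF cE
  have χK : (Curv2.genus k X : ℤ) ≤ Curv2.euler k X (kernel (Abelian.factorThruImage ψ)) := by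
    linarith
  haveI : Mono (kernel.ι (Abelian.factorThruImage ψ) ≫ i) := mono_comp _ _
  have H1K : Subsingleton (Coh.HH X (kernel (Abelian.factorThruImage ψ)) 1) :=
    subsingleton_H1_of_sub k X hdim L hL _ cK (kernel.ι (Abelian.factorThruImage ψ) ≫ i) χK
  -- every section of the image vanishes
  have hc : ∀ c : Coh.structureModule X ⟶ Abelian.image ψ, c = 0 := by
    intro c
    obtain ⟨t, ht⟩ := exists_lift_of_H1 k X S hS H1K c
    have h1 : t ≫ Abelian.factorThruImage ψ = c := ht
    rw [← h1, ← cancel_mono (Abelian.image.ι ψ), Category.assoc, Abelian.image.fac, zero_comp]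
    exact hψ t
  have h0 : Module.finrank k (Coh.HH X (Abelian.image ψ) 0) = 0 := by
    haveI : Subsingleton (Coh.HH X (Abelian.image ψ) 0) := by
      refine ⟨fun a b => ?_⟩
      obtain ⟨ca, rfl⟩ := cls_surjective (Abelian.image ψ) a
      obtain ⟨cb, rfl⟩ := cls_surjective (Abelian.image ψ) b
      rw [hc ca, hc cb]
    exact Module.finrank_zero_of_subsingleton
  have hsupp : topologicalKrullDim (CohB1.support (Abelian.image ψ)) ≤ 0 :=
    dim_le_zero_of_subset_singleton _ y
      ((support_subset_of_mono (Abelian.image.ι ψ)).trans (support_kk_subset y hy))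
  have hzero : Abelian.factorThruImage ψ = 0 := by
    refine Scheme.Modules.hom_ext _ _ fun U => ?_
    ext l
    haveI := subsingleton_sections_of_h0 k X (Abelian.image ψ) cE hsupp h0 U
    exact Subsingleton.elim _ _
  rw [← Abelian.image.fac ψ, hzero, zero_comp]

/-- **global generation**: a coherent subsheaf `F ⊆ L` of an invertible module with `χ(F) ≥ g + 1` is generated by its
global sections at every closed point. -/
theorem span_germ_eq_top (hdim : topologicalKrullDim X = 1) (L : X.Modules)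
    (hL : PicF.IsInvertible L) (F : X.Modules) (cF : Coh.IsCoh F) (i : F ⟶ L) [Mono i]
    (hχ : (Curv2.genus k X : ℤ) + 1 ≤ Curv2.euler k X F) (y : X) (hy : IsClosed ({y} : Set X)) :
    Submodule.span (X.presheaf.stalk y)
      (Set.range fun σ : Coh.structureModule X ⟶ F => F.presheaf.germ ⊤ y trivial (sv σ ⊤)) = ⊤ := by
  haveI := isNoetherian_of_proper k X
  haveI hfin := Groth.Agent.Lib.R2H2.DevA.finite_stalk F cF y
  by_contra hN
  -- finitely many sections suffice
  have hFG : (Submodule.span (X.presheaf.stalk y)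
      (Set.range fun σ : Coh.structureModule X ⟶ F => F.presheaf.germ ⊤ y trivial (sv σ ⊤))).FG :=
    IsNoetherian.noetherian _
  obtain ⟨s', hs', hspan⟩ := (Submodule.fg_span_iff_fg_span_finset_subset _).1 hFG
  have hch : ∀ j : Fin s'.card, ∃ σ : Coh.structureModule X ⟶ F,
      F.presheaf.germ ⊤ y trivial (sv σ ⊤) = (s'.equivFin.symm j).1 :=
    fun j => hs' (s'.equivFin.symm j).2
  choose σ hσ using hch
  have hrange : (Set.range fun j => F.presheaf.germ ⊤ y trivial (sv (σ j) ⊤)) = (s' : Set _) := by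
    ext v
    constructor
    · rintro ⟨j, rfl⟩
      change (ConcreteCategory.hom (F.presheaf.germ ⊤ y trivial)) (sv (σ j) ⊤) ∈ (s' : Set _)
      rw [hσ j]
      exact (s'.equivFin.symm j).2
    · intro hv
      refine ⟨s'.equivFin ⟨v, hv⟩, ?_⟩
      change (ConcreteCategory.hom (F.presheaf.germ ⊤ y trivial)) (sv (σ _) ⊤) = v
      rw [hσ, Equiv.symm_apply_apply]
  let P : X.Modules := ⨁ fun _ : Fin s'.card => Coh.structureModule X
  let Φ : P ⟶ F := biproduct.desc σ
  have hΦ : LinearMap.range (stalkLin Φ y) = Submodule.span (X.presheaf.stalk y)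
      (Set.range fun σ : Coh.structureModule X ⟶ F => F.presheaf.germ ⊤ y trivial (sv σ ⊤)) := by
    rw [hspan, ← hrange]
    exact range_stalkLin_desc s'.card σ y
  have cO : Coh.IsCoh (Coh.structureModule X) := Groth.Agent.Lib.R2H1.GenusLe.isCoh_structureModule X
  have cP : Coh.IsCoh P := Groth.Agent.Lib.R2H2.PnHilbPoly.isCoh_biproduct_const _ cO _
  have cC : Coh.IsCoh (cokernel Φ) := Groth.Agent.Lib.R2H2.NilFilt.isCoh_cokernel cP cF Φ
  haveI : (cokernel Φ).IsQuasicoherent := cC.1
  haveI := Groth.Agent.Lib.R2H2.DevA.finite_stalk (cokernel Φ) cC y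
  -- the stalk of the cokernel is not zero
  have hCy : ¬ Subsingleton ((cokernel Φ).presheaf.stalk y) := by
    intro hsub
    apply hN
    rw [← hΦ, eq_top_iff]
    intro v _
    let S : ShortComplex X.Modules := ShortComplex.mk (Abelian.image.ι Φ) (cokernel.π Φ)
      (kernel.condition _)
    have hS : S.ShortExact :=
      { exact := ShortComplex.exact_kernel _
        mono_f := inferInstanceAs (Mono (Abelian.image.ι Φ))
        epi_g := inferInstanceAs (Epi (cokernel.π Φ)) }
    have hv : stalkLin S.g y v = 0 := Subsingleton.elim _ _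
    obtain ⟨w, hw⟩ := (stalkLin_exact S hS y v).1 hv
    obtain ⟨w', rfl⟩ := stalkLin_surjective (Abelian.factorThruImage Φ) y w
    refine ⟨w', ?_⟩
    rw [← hw]
    change stalkLin Φ y w' = (stalkLin (Abelian.image.ι Φ) y) (stalkLin (Abelian.factorThruImage Φ) y w')
    rw [← LinearMap.comp_apply, ← stalkLin_comp, Abelian.image.fac]
  obtain ⟨ψ, hψ⟩ := exists_hom_kk_ne_zero y (cokernel Φ) hCy
  apply hψ
  rw [← cancel_epi (cokernel.π Φ), comp_zero]
  refine eq_zero_of_kills_sections k X hdim L hL F cF i hχ y hy _ fun τ => ?_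
  refine eq_zero_of_germ_eq_zero y (fun x hx => subsingleton_stalk_kk y hy x hx) _ ?_
  rw [sv_comp]
  have hmem : F.presheaf.germ ⊤ y trivial (sv τ ⊤) ∈ LinearMap.range (stalkLin Φ y) := by
    rw [hΦ]
    exact Submodule.subset_span ⟨τ, rfl⟩
  obtain ⟨w, hw⟩ := hmem
  have h1 : (kk y).presheaf.germ ⊤ y trivial ((cokernel.π Φ ≫ ψ).app ⊤ (sv τ ⊤)) =
      stalkLin (cokernel.π Φ ≫ ψ) y (F.presheaf.germ ⊤ y trivial (sv τ ⊤)) :=
    (stalkLin_germ _ y ⊤ trivial _).symm
  refine h1.trans ?_
  rw [← hw, stalkLin_comp, LinearMap.comp_apply, ← LinearMap.comp_apply (stalkLin (cokernel.π Φ) y),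
    ← stalkLin_comp, cokernel.condition, stalkLin_zero, LinearMap.zero_apply, map_zero]

end Groth.Agent.Lib.R2H7.VACurveE
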