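import Mathlib
import Groth.Agent.Lib.R2H7VACurveE
import Groth.Agent.Lib.R2H1C1Tensor
import Groth.Agent.Lib.R2H7ClImmChart

/-!
# Separation of points and tangent vectors by sections of an invertible module of large degree (helper7, round 2)

`X` an integral proper curve over an algebraically closed field `k`, of genus `g`; `L` invertible with `χ(L) ≥ g + 2`
(i.e. `deg L ≥ 2g + 1`).

* `exists_sub` : the kernel of a map `F ⟶ kk y`.
* `ker_stalkLin_eq` : the kernel of the stalk at `P` of a nonzero map `L ⟶ kk P` is `m_P L_P`.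
* `exists_sep` : sections separate closed points.
* `le_span_van` : sections vanishing at `P` generate `m_P L_P`.
* `span_germ_eq_top_inv` : `L` is generated by global sections at closed points.
-/

set_option autoImplicit false
set_option linter.style.haveILetI false
set_option linter.unusedSectionVars false
universe u
open CategoryTheory CategoryTheory.Limits AlgebraicGeometry TopologicalSpace Opposite

namespace Groth.Agent.Lib.R2H7.VACurveF

open Groth.Agent.Lib.R2H7.VACurveA Groth.Agent.Lib.R2H7.VACurveB Groth.Agent.Lib.R2H7.VACurveC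
  Groth.Agent.Lib.R2H7.VACurveD Groth.Agent.Lib.R2H7.VACurveE
open Groth.Agent.Lib.Helper4.NormDelta Groth.Agent.Lib.Helper23.StalkLin Groth.Agent.Lib.Helper23.SecTw
  Groth.Agent.Lib.Helper23.GenLocus Groth.Agent.Lib.Helper6
open Groth.Agent.Lib.R2H2.HHLin Groth.Agent.Lib.R2H1.EulerAdd Groth.Agent.Lib.R2H2.PnLinRes
  Groth.Agent.Lib.R2H2.PnBeilinson Groth.Agent.Lib.R2H1.CurveEuler Groth.Agent.Lib.R2H1.CurveDegSec
  Groth.Agent.Lib.R2H1.FinrankChain

section Gen

variable {X : Scheme.{u}}

/-- a map to a module supported at `y` is zero if its stalk at `y` is -/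
theorem eq_zero_of_stalkLin_eq_zero {F T : X.Modules} (y : X)
    (hT : ∀ x : X, x ≠ y → Subsingleton (T.presheaf.stalk x)) (ψ : F ⟶ T)
    (h : stalkLin ψ y = 0) : ψ = 0 := by
  refine Scheme.Modules.hom_ext _ _ fun U => ?_
  ext t
  refine TopCat.Presheaf.section_ext (⟨T.presheaf, T.isSheaf⟩ : TopCat.Sheaf _ _) U _ _ fun x hx => ?_
  by_cases hxy : x = y
  · subst hxy
    have h1 : T.presheaf.germ U x hx (ψ.app U t) = stalkLin ψ x (F.presheaf.germ U x hx t) :=
      (stalkLin_germ ψ x U hx t).symm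
    refine h1.trans ?_
    rw [h, LinearMap.zero_apply]
    exact (map_zero _).symm
  · haveI := hT x hxy
    exact Subsingleton.elim _ _

/-- in a module freely generated by one element over a local ring, a proper submodule lies in `m M` -/
theorem le_smul_top_of_ne_top {R M : Type*} [CommRing R] [IsLocalRing R] [AddCommGroup M] [Module R M]
    (ε : M) (hε : Function.Bijective (fun c : R => c • ε)) (N : Submodule R M) (hN : N ≠ ⊤) :
    N ≤ IsLocalRing.maximalIdeal R • (⊤ : Submodule R M) := by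
  intro v hv
  obtain ⟨c, rfl⟩ := hε.2 v
  change c • ε ∈ _
  refine Submodule.smul_mem_smul ?_ Submodule.mem_top
  rw [IsLocalRing.mem_maximalIdeal, mem_nonunits_iff]
  intro hc
  apply hN
  rw [eq_top_iff]
  intro w _
  obtain ⟨d, rfl⟩ := hε.2 w
  obtain ⟨u, rfl⟩ := hc
  have h1 : ε = (↑u⁻¹ : R) • ((u : R) • ε) := by
    rw [smul_smul, Units.inv_mul, one_smul]
  change d • ε ∈ N
  rw [h1]
  exact N.smul_mem _ (N.smul_mem _ hv)

/-- in a module freely generated by one element over a local ring, `m M ≠ ⊤` -/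
theorem smul_top_ne_top {R M : Type*} [CommRing R] [IsLocalRing R] [AddCommGroup M] [Module R M]
    (ε : M) (hε : Function.Bijective (fun c : R => c • ε)) :
    IsLocalRing.maximalIdeal R • (⊤ : Submodule R M) ≠ ⊤ := by
  intro h
  have h1 : (1 : R) • ε ∈ IsLocalRing.maximalIdeal R • (⊤ : Submodule R M) := by
    rw [h]; exact Submodule.mem_top
  rw [Groth.Agent.Lib.R2H7.ClImmChart.smul_mem_smul_top_iff ε hε] at h1
  exact (IsLocalRing.maximalIdeal.isMaximal R).ne_top ((Ideal.eq_top_iff_one _).2 h1)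

/-- the stalk of an invertible module is freely generated by one element -/
theorem exists_bijective_smul (L : X.Modules) (hL : PicF.IsInvertible L) (y : X) :
    ∃ ε : L.presheaf.stalk y, Function.Bijective (fun c : X.presheaf.stalk y => c • ε) := by
  obtain ⟨W, e, hyW, he⟩ := exists_gen L hL y
  exact ⟨_, Groth.Agent.Lib.R2H1.C1Tensor.bijective_germ_of_isGen L W e he y hyW⟩

end Gen

variable (k : Type u) [Field k] [IsAlgClosed k] (X : Scheme.{u}) [X.Over (Spec (CommRingCat.of k))]
    [IsIntegral X] [IsProper (X ↘ (Spec (CommRingCat.of k)))]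

/-- the kernel of a map to `kk y`: coherent, Euler characteristic drops at most by one, exact on stalks -/
theorem exists_sub (hdim : topologicalKrullDim X = 1) (F : X.Modules) (cF : Coh.IsCoh F) (y : X)
    (hy : IsClosed ({y} : Set X)) (ψ : F ⟶ kk y) :
    ∃ (K : X.Modules) (_ : Coh.IsCoh K) (j : K ⟶ F) (_ : Mono j),
      Curv2.euler k X F ≤ Curv2.euler k X K + 1 ∧
      ∀ x : X, LinearMap.range (stalkLin j x) = LinearMap.ker (stalkLin ψ x) := by
  haveI := isNoetherian_of_proper k X
  have cT : Coh.IsCoh (kk y) := isCoh_kk y hy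
  have cQ : Coh.IsCoh (cokernel ψ) := Groth.Agent.Lib.R2H2.NilFilt.isCoh_cokernel cF cT ψ
  have cE : Coh.IsCoh (Abelian.image ψ) :=
    Groth.Agent.Lib.R2H2.PdSheaf.isCoh_kernel cT cQ (cokernel.π ψ)
  have cK : Coh.IsCoh (kernel (Abelian.factorThruImage ψ)) :=
    Groth.Agent.Lib.R2H2.PdSheaf.isCoh_kernel cF cE (Abelian.factorThruImage ψ)
  let S : ShortComplex X.Modules := ShortComplex.mk (kernel.ι (Abelian.factorThruImage ψ))
    (Abelian.factorThruImage ψ) (kernel.condition _)
  have hS : S.ShortExact :=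
    { exact := ShortComplex.exact_kernel _
      mono_f := inferInstanceAs (Mono (kernel.ι (Abelian.factorThruImage ψ)))
      epi_g := inferInstanceAs (Epi (Abelian.factorThruImage ψ)) }
  let S' : ShortComplex X.Modules := ShortComplex.mk (Abelian.image.ι ψ)
    (cokernel.π (Abelian.image.ι ψ)) (cokernel.condition _)
  have hS' : S'.ShortExact :=
    { exact := ShortComplex.exact_cokernel _
      mono_f := inferInstanceAs (Mono (Abelian.image.ι ψ))
      epi_g := inferInstanceAs (Epi (cokernel.π (Abelian.image.ι ψ))) }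
  have h0E : hh k X (Abelian.image ψ) 0 ≤ hh k X (kk y) 0 := hh_left_zero_le k S' hS' cE cT
  have h0T : hh k X (kk y) 0 = 1 := finrank_H0_kk y hy k
  have χE : Curv2.euler k X (Abelian.image ψ) ≤ 1 := by
    rw [euler_eq_h0_sub_h1 k X hdim.le _ cE.1]
    have h1 : (0 : ℤ) ≤ (Module.finrank k (Coh.HH X (Abelian.image ψ) 1) : ℤ) := Int.natCast_nonneg _
    have h2 : (Module.finrank k (Coh.HH X (Abelian.image ψ) 0) : ℤ) ≤ 1 := by
      have : hh k X (Abelian.image ψ) 0 ≤ 1 := h0T ▸ h0E
      exact_mod_cast this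
    linarith
  have χadd : Curv2.euler k X F = Curv2.euler k X (kernel (Abelian.factorThruImage ψ)) +
      Curv2.euler k X (Abelian.image ψ) := s1524 k X S hS cK cF cE
  refine ⟨_, cK, kernel.ι (Abelian.factorThruImage ψ), inferInstance, by linarith, fun x => ?_⟩
  have hex := stalkLin_exact S hS x
  ext v
  rw [LinearMap.mem_ker]
  have hfac : stalkLin ψ x v = stalkLin (Abelian.image.ι ψ) x (stalkLin (Abelian.factorThruImage ψ) x v) := by
    rw [← LinearMap.comp_apply, ← stalkLin_comp, Abelian.image.fac]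
  constructor
  · rintro ⟨w, rfl⟩
    rw [hfac]
    have : stalkLin S.g x (stalkLin S.f x w) = 0 := (hex _).2 ⟨w, rfl⟩
    change stalkLin (Abelian.image.ι ψ) x (stalkLin S.g x (stalkLin S.f x w)) = 0
    rw [this, map_zero]
  · intro hv
    rw [hfac] at hv
    have h1 : stalkLin (Abelian.factorThruImage ψ) x v = 0 :=
      stalkLin_injective (Abelian.image.ι ψ) x (hv.trans (map_zero _).symm)
    exact (hex v).1 h1

/-- the kernel of the stalk at `P` of a nonzero map `L ⟶ kk P` is `m_P L_P` -/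
theorem ker_stalkLin_eq (L : X.Modules) (hL : PicF.IsInvertible L) (P : X)
    (hP : IsClosed ({P} : Set X)) (ψ : L ⟶ kk P) (hψ : ψ ≠ 0) :
    LinearMap.ker (stalkLin ψ P) =
      IsLocalRing.maximalIdeal (X.presheaf.stalk P) • (⊤ : Submodule (X.presheaf.stalk P) (L.presheaf.stalk P)) := by
  obtain ⟨ε, hε⟩ := exists_bijective_smul L hL P
  apply le_antisymm
  · refine le_smul_top_of_ne_top ε hε _ fun htop => hψ ?_
    refine eq_zero_of_stalkLin_eq_zero P (fun x hx => subsingleton_stalk_kk P hP x hx) ψ ?_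
    exact LinearMap.ker_eq_top.1 htop
  · rw [Submodule.smul_le]
    intro a ha v _
    rw [LinearMap.mem_ker, map_smul]
    exact smul_stalk_kk P hP a ha _

variable (hdim : topologicalKrullDim X = 1) (L : X.Modules) (hL : PicF.IsInvertible L)
  (hχ : (Curv2.genus k X : ℤ) + 2 ≤ Curv2.euler k X L)

include hdim hL hχ in
/-- the subsheaf `L(-P)`: coherent, `χ ≥ g + 1`, with stalk `m_P L_P` at `P` and `L_Q` elsewhere -/
theorem exists_twist_down (P : X) (hP : IsClosed ({P} : Set X)) :
    ∃ (K : X.Modules) (_ : Coh.IsCoh K) (j : K ⟶ L) (_ : Mono j),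
      (Curv2.genus k X : ℤ) + 1 ≤ Curv2.euler k X K ∧
      LinearMap.range (stalkLin j P) = IsLocalRing.maximalIdeal (X.presheaf.stalk P) •
        (⊤ : Submodule (X.presheaf.stalk P) (L.presheaf.stalk P)) ∧
      ∀ Q : X, Q ≠ P → LinearMap.range (stalkLin j Q) = ⊤ := by
  haveI := isNoetherian_of_proper k X
  have cL := isCoh_of_isInvertible L hL
  haveI : L.IsQuasicoherent := cL.1
  haveI := Groth.Agent.Lib.R2H2.DevA.finite_stalk L cL P
  obtain ⟨ε, hε⟩ := exists_bijective_smul L hL P
  have hne : ¬ Subsingleton (L.presheaf.stalk P) := by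
    intro hsub
    have h1 : (1 : X.presheaf.stalk P) = 0 := hε.1 (Subsingleton.elim _ _)
    exact one_ne_zero h1
  obtain ⟨ψ, hψ⟩ := exists_hom_kk_ne_zero P L hne
  obtain ⟨K, cK, j, hj, hχK, hst⟩ := exists_sub k X hdim L cL P hP ψ
  refine ⟨K, cK, j, hj, by linarith, ?_, fun Q hQ => ?_⟩
  · rw [hst P, ker_stalkLin_eq X L hL P hP ψ hψ]
  · rw [hst Q, LinearMap.ker_eq_top]
    haveI := subsingleton_stalk_kk P hP Q hQ
    exact Subsingleton.elim _ _

include hdim hL hχ in
/-- `L` is generated by global sections at closed points -/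
theorem span_germ_eq_top_inv (y : X) (hy : IsClosed ({y} : Set X)) :
    Submodule.span (X.presheaf.stalk y)
      (Set.range fun σ : Coh.structureModule X ⟶ L => L.presheaf.germ ⊤ y trivial (sv σ ⊤)) = ⊤ :=
  span_germ_eq_top k X hdim L hL L (isCoh_of_isInvertible L hL) (𝟙 L) (by linarith) y hy

include hdim hL hχ in
/-- **sections separate closed points** -/
theorem exists_sep (P Q : X) (hP : IsClosed ({P} : Set X)) (hQ : IsClosed ({Q} : Set X)) (hPQ : P ≠ Q) :
    ∃ σ : Coh.structureModule X ⟶ L,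
      L.presheaf.germ ⊤ P trivial (sv σ ⊤) ∈ IsLocalRing.maximalIdeal (X.presheaf.stalk P) •
        (⊤ : Submodule (X.presheaf.stalk P) (L.presheaf.stalk P)) ∧
      L.presheaf.germ ⊤ Q trivial (sv σ ⊤) ∉ IsLocalRing.maximalIdeal (X.presheaf.stalk Q) •
        (⊤ : Submodule (X.presheaf.stalk Q) (L.presheaf.stalk Q)) := by
  obtain ⟨K, cK, j, hj, hχK, hKP, hKQ⟩ := exists_twist_down k X hdim L hL hχ P hP
  have hgen := span_germ_eq_top k X hdim L hL K cK j hχK Q hQ
  obtain ⟨ε, hε⟩ := exists_bijective_smul L hL Q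
  by_contra hcon
  push Not at hcon
  have hall : ∀ τ : Coh.structureModule X ⟶ K,
      L.presheaf.germ ⊤ Q trivial (sv (τ ≫ j) ⊤) ∈ IsLocalRing.maximalIdeal (X.presheaf.stalk Q) •
        (⊤ : Submodule (X.presheaf.stalk Q) (L.presheaf.stalk Q)) := by
    intro τ
    apply hcon
    rw [sv_comp]
    have h1 : L.presheaf.germ ⊤ P trivial (j.app ⊤ (sv τ ⊤)) =
        stalkLin j P (K.presheaf.germ ⊤ P trivial (sv τ ⊤)) := (stalkLin_germ j P ⊤ trivial _).symm
    rw [h1, ← hKP]
    exact ⟨_, rfl⟩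
  apply smul_top_ne_top ε hε
  rw [eq_top_iff]
  have h2 : LinearMap.range (stalkLin j Q) ≤ IsLocalRing.maximalIdeal (X.presheaf.stalk Q) •
      (⊤ : Submodule (X.presheaf.stalk Q) (L.presheaf.stalk Q)) := by
    rw [LinearMap.range_eq_map, ← hgen, Submodule.map_span, Submodule.span_le]
    rintro _ ⟨_, ⟨τ, rfl⟩, rfl⟩
    have h1 : stalkLin j Q (K.presheaf.germ ⊤ Q trivial (sv τ ⊤)) =
        L.presheaf.germ ⊤ Q trivial (sv (τ ≫ j) ⊤) := stalkLin_germ j Q ⊤ trivial _
    change stalkLin j Q (K.presheaf.germ ⊤ Q trivial (sv τ ⊤)) ∈ _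
    rw [h1]
    exact hall τ
  rwa [hKQ Q hPQ.symm] at h2

include hdim hL hχ in
/-- **sections vanishing at `P` generate `m_P L_P`** -/
theorem le_span_van (P : X) (hP : IsClosed ({P} : Set X)) :
    IsLocalRing.maximalIdeal (X.presheaf.stalk P) •
        (⊤ : Submodule (X.presheaf.stalk P) (L.presheaf.stalk P)) ≤
      Submodule.span (X.presheaf.stalk P)
        {v | ∃ σ : Coh.structureModule X ⟶ L, v = L.presheaf.germ ⊤ P trivial (sv σ ⊤) ∧
          v ∈ IsLocalRing.maximalIdeal (X.presheaf.stalk P) •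
            (⊤ : Submodule (X.presheaf.stalk P) (L.presheaf.stalk P))} := by
  obtain ⟨K, cK, j, hj, hχK, hKP, hKQ⟩ := exists_twist_down k X hdim L hL hχ P hP
  have hgen := span_germ_eq_top k X hdim L hL K cK j hχK P hP
  have h2 : LinearMap.range (stalkLin j P) ≤ Submodule.span (X.presheaf.stalk P)
        {v | ∃ σ : Coh.structureModule X ⟶ L, v = L.presheaf.germ ⊤ P trivial (sv σ ⊤) ∧
          v ∈ IsLocalRing.maximalIdeal (X.presheaf.stalk P) •
            (⊤ : Submodule (X.presheaf.stalk P) (L.presheaf.stalk P))} := by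
    rw [LinearMap.range_eq_map, ← hgen, Submodule.map_span, Submodule.span_le]
    rintro _ ⟨_, ⟨τ, rfl⟩, rfl⟩
    have h1 : stalkLin j P (K.presheaf.germ ⊤ P trivial (sv τ ⊤)) =
        L.presheaf.germ ⊤ P trivial (sv (τ ≫ j) ⊤) := stalkLin_germ j P ⊤ trivial _
    refine Submodule.subset_span ⟨τ ≫ j, h1, ?_⟩
    rw [← hKP]
    exact ⟨_, rfl⟩
  rwa [hKP] at h2

end Groth.Agent.Lib.R2H7.VACurveF
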