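import Mathlib
import Groth.Agent.Lib.R2H7VACurveF
import Groth.Agent.Lib.R2H7ClImmMain

/-!
# Very ampleness on integral curves over an algebraically closed field (helper7, round 2)

`X` an integral proper curve over an algebraically closed field `k`, of genus `g`; `L` invertible with `χ(L) ≥ g + 2`;
`s : Fin (n+1) → Γ(X, L)` a family spanning the global sections over `k`.

* `mem_genLocus_of_germ_notMem` : a section whose germ at `z` is not in `m_z L_z` generates at `z`.
* `generatedBy_of_span` : `s` generates `L`.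
* `isClosedImmersion_of_data` : every morphism `r : X ⟶ P^n_k` over `k` with `r^* O(1) ≅ L`, `r^* T_j ↦ s_j`, is a closed
  immersion.
-/

set_option autoImplicit false
set_option linter.style.haveILetI false
set_option linter.unusedSectionVars false
universe u
open CategoryTheory CategoryTheory.Limits AlgebraicGeometry TopologicalSpace Opposite

namespace Groth.Agent.Lib.R2H7.VACurveG

open Groth.Agent.Lib.R2H7.VACurveA Groth.Agent.Lib.R2H7.VACurveB Groth.Agent.Lib.R2H7.VACurveC
  Groth.Agent.Lib.R2H7.VACurveD Groth.Agent.Lib.R2H7.VACurveE Groth.Agent.Lib.R2H7.VACurveF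
open Groth.Agent.Lib.Helper4.NormDelta Groth.Agent.Lib.Helper23.StalkLin Groth.Agent.Lib.Helper23.SecTw
  Groth.Agent.Lib.Helper23.GenLocus Groth.Agent.Lib.Helper6
open Groth.Agent.Lib.R2H1.CurveEuler Groth.Agent.Lib.R2H1.CurveDegSec
open Groth.Agent.Lib.Helper27GrTildeSect Groth.Agent.Lib.R2H3.VAmpleMain Groth.Agent.Lib.R2H3.VAmpleMor
  Groth.Agent.Lib.R2H7.ClImmChart Groth.Agent.Lib.R2H7.ClImmMain

section Gen

variable {X : Scheme.{u}}

/-- membership in the generating locus through the coefficient in a local frame (copy of helper1's lemma) -/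
theorem mem_genLocus_iff_isUnit {N : X.Modules} (t : Coh.structureModule X ⟶ N) {W : X.Opens}
    {e : Γ(N, W)} (he : IsGen N W e) (z : X) (hz : z ∈ W) :
    z ∈ CohB1.genLocus N t ↔ IsUnit (X.presheaf.germ W z hz (coef he le_rfl (sv t W))) := by
  rw [← Scheme.mem_basicOpen _ _ z hz, ← genLocus_inf_eq_coef t he]
  exact ⟨fun h => ⟨h, hz⟩, fun h => h.1⟩

theorem germ_sv_eq {N : X.Modules} (t : Coh.structureModule X ⟶ N) {W : X.Opens}
    {e : Γ(N, W)} (he : IsGen N W e) (z : X) (hz : z ∈ W) :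
    N.presheaf.germ ⊤ z trivial (sv t ⊤) =
      X.presheaf.germ W z hz (coef he le_rfl (sv t W)) • N.presheaf.germ W z hz e := by
  have h1 : N.presheaf.germ W z hz (res N (le_top : W ≤ ⊤) (sv t ⊤)) = N.presheaf.germ ⊤ z trivial (sv t ⊤) :=
    TopCat.Presheaf.germ_res_apply N.presheaf (homOfLE (le_top : W ≤ ⊤)) z hz _
  rw [← h1, res_sv, ← Groth.Agent.Lib.Helper2.QCoh.germ_smul, ← sv_eq_coef_smul t he]

/-- a section generates at `z` iff its germ is not in `m_z N_z` -/
theorem mem_genLocus_iff_germ_notMem (N : X.Modules) (hN : PicF.IsInvertible N)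
    (t : Coh.structureModule X ⟶ N) (z : X) :
    z ∈ CohB1.genLocus N t ↔ N.presheaf.germ ⊤ z trivial (sv t ⊤) ∉
      IsLocalRing.maximalIdeal (X.presheaf.stalk z) •
        (⊤ : Submodule (X.presheaf.stalk z) (N.presheaf.stalk z)) := by
  obtain ⟨W, e, hzW, he⟩ := exists_gen N hN z
  have hε := Groth.Agent.Lib.R2H1.C1Tensor.bijective_germ_of_isGen N W e he z hzW
  rw [mem_genLocus_iff_isUnit t he z hzW, germ_sv_eq t he z hzW, smul_mem_smul_top_iff _ hε,
    IsLocalRing.mem_maximalIdeal, mem_nonunits_iff, not_not]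

theorem stalkLin_id (M : X.Modules) (x : X) : stalkLin (𝟙 M) x = LinearMap.id := by
  ext v
  obtain ⟨V, hxV, t, rfl⟩ := M.presheaf.exists_germ_eq v
  rw [stalkLin_germ]
  rfl

/-- an isomorphism of modules preserves `m_P M_P` -/
theorem stalkLin_mem_smul_top_iff {M L : X.Modules} (τ : M ≅ L) (P : X) (v : M.presheaf.stalk P) :
    stalkLin τ.hom P v ∈ IsLocalRing.maximalIdeal (X.presheaf.stalk P) •
        (⊤ : Submodule (X.presheaf.stalk P) (L.presheaf.stalk P)) ↔
      v ∈ IsLocalRing.maximalIdeal (X.presheaf.stalk P) •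
        (⊤ : Submodule (X.presheaf.stalk P) (M.presheaf.stalk P)) := by
  have key : ∀ {M L : X.Modules} (φ : M ⟶ L) (v : M.presheaf.stalk P),
      v ∈ IsLocalRing.maximalIdeal (X.presheaf.stalk P) •
        (⊤ : Submodule (X.presheaf.stalk P) (M.presheaf.stalk P)) →
      stalkLin φ P v ∈ IsLocalRing.maximalIdeal (X.presheaf.stalk P) •
        (⊤ : Submodule (X.presheaf.stalk P) (L.presheaf.stalk P)) := by
    intro M L φ v hv
    have h1 : stalkLin φ P v ∈ (IsLocalRing.maximalIdeal (X.presheaf.stalk P) •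
        (⊤ : Submodule (X.presheaf.stalk P) (M.presheaf.stalk P))).map (stalkLin φ P) :=
      Submodule.mem_map_of_mem hv
    rw [Submodule.map_smul''] at h1
    exact Submodule.smul_mono le_rfl le_top h1
  constructor
  · intro h
    have h1 := key τ.inv _ h
    rwa [← LinearMap.comp_apply, ← stalkLin_comp, τ.hom_inv_id, stalkLin_id] at h1
  · exact key τ.hom v

theorem stalkLin_injective_of_iso {M L : X.Modules} (τ : M ≅ L) (P : X) :
    Function.Injective (stalkLin τ.hom P) := by
  intro a b hab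
  have h1 := congrArg (stalkLin τ.inv P) hab
  rwa [← LinearMap.comp_apply, ← LinearMap.comp_apply, ← stalkLin_comp, τ.hom_inv_id, stalkLin_id] at h1

end Gen

variable (k : Type u) [Field k] [IsAlgClosed k] (X : Scheme.{u}) [X.Over (Spec (CommRingCat.of k))]
    [IsIntegral X] [IsProper (X ↘ (Spec (CommRingCat.of k)))]
variable (hdim : topologicalKrullDim X = 1) (L : X.Modules) (hL : PicF.IsInvertible L)
  (hχ : (Curv2.genus k X : ℤ) + 2 ≤ Curv2.euler k X L)
variable {n : ℕ} (s : Fin (n + 1) → ProjUP.Γm L)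
  (hspan : ∀ σ : Coh.structureModule X ⟶ L, ∃ c : Fin (n + 1) → k,
    sv σ ⊤ = ∑ j, ProjUP.toGlobal (X ↘ Spec (CommRingCat.of k)) (c j) • s j)

include hdim hL hχ hspan in
/-- a spanning family of sections generates `L` -/
theorem generatedBy_of_span : ProjUP.GeneratedBy L s := by
  haveI : CompactSpace X :=
    QuasiCompact.compactSpace_of_compactSpace (X ↘ Spec (CommRingCat.of k))
  refine generatedBy_of_cover L s fun x => ?_
  obtain ⟨z, hzx, hz⟩ := IsClosed.exists_closed_singleton (isClosed_closure (s := ({x} : Set X)))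
    ⟨x, subset_closure rfl⟩
  have hspec : x ⤳ z := specializes_iff_mem_closure.2 hzx
  obtain ⟨j, hj⟩ : ∃ j, z ∈ CohB1.genLocus L (secHom L (s j)) := by
    by_contra hcon
    push Not at hcon
    obtain ⟨ε, hε⟩ := exists_bijective_smul L hL z
    apply smul_top_ne_top ε hε
    rw [eq_top_iff]
    have hle : Submodule.span (X.presheaf.stalk z)
        (Set.range fun σ : Coh.structureModule X ⟶ L => L.presheaf.germ ⊤ z trivial (sv σ ⊤)) ≤
        IsLocalRing.maximalIdeal (X.presheaf.stalk z) •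
          (⊤ : Submodule (X.presheaf.stalk z) (L.presheaf.stalk z)) := ?_
    · rwa [span_germ_eq_top_inv k X hdim L hL hχ z hz] at hle
    rw [Submodule.span_le]
    rintro _ ⟨σ, rfl⟩
    obtain ⟨c, hc⟩ := hspan σ
    change L.presheaf.germ ⊤ z trivial (sv σ ⊤) ∈ _
    rw [hc, map_sum]
    refine Submodule.sum_mem _ fun j _ => ?_
    have h5 : L.presheaf.germ ⊤ z trivial (ProjUP.toGlobal (X ↘ Spec (CommRingCat.of k)) (c j) • s j) =
        X.presheaf.germ ⊤ z trivial (ProjUP.toGlobal (X ↘ Spec (CommRingCat.of k)) (c j)) •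
          L.presheaf.germ ⊤ z trivial (s j) :=
      Groth.Agent.Lib.Helper2.QCoh.germ_smul L z ⊤ trivial _ _
    rw [h5]
    refine Submodule.smul_mem _ _ ?_
    have h1 := hcon j
    rw [mem_genLocus_iff_germ_notMem L hL, not_not, sv_secHom, res_self] at h1
    exact h1
  exact ⟨j, hspec.mem_open (CohB1.genLocus L (secHom L (s j))).isOpen hj⟩

variable (r : X ⟶ Proj (CohB1.polyGrading n k))
  (hr : r ≫ Groth.Agent.Helper13ProjUP.toBase (CohB1.polyGrading n k) = X ↘ Spec (CommRingCat.of k))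
  (τ : (Scheme.Modules.pullback r).obj
    (GrTilde.tilde (CohB1.polyGrading n k) (CohB1.polyGrading n k) ((1 : ℕ) : ℤ)) ≅ L)
  (hτ : ∀ i, τ.hom.app ⊤ (ProjUP.pullSec r
    (GrTilde.tilde (CohB1.polyGrading n k) (CohB1.polyGrading n k) ((1 : ℕ) : ℤ))
      (gsec (CohB1.polyGrading n k) 1 ⊤ (hX n i))) = s i)

include hτ in
theorem germ_vsec_eq (c : Fin (n + 1) → k) (P : X) :
    stalkLin τ.hom P ((LL r).presheaf.germ ⊤ P trivial (vsec (X ↘ Spec (CommRingCat.of k)) r c)) =
      L.presheaf.germ ⊤ P trivial (∑ j, ProjUP.toGlobal (X ↘ Spec (CommRingCat.of k)) (c j) • s j) := by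
  refine (stalkLin_germ τ.hom P ⊤ trivial _).trans ?_
  congr 1
  unfold vsec
  rw [map_sum]
  refine Finset.sum_congr rfl fun j _ => ?_
  rw [Groth.Agent.Lib.Helper2.ModExact.app_smul]
  congr 1
  exact hτ j

include hτ in
theorem van_iff_germ (c : Fin (n + 1) → k) (P : X) :
    Van (X ↘ Spec (CommRingCat.of k)) r c P ↔
      L.presheaf.germ ⊤ P trivial (∑ j, ProjUP.toGlobal (X ↘ Spec (CommRingCat.of k)) (c j) • s j) ∈
        IsLocalRing.maximalIdeal (X.presheaf.stalk P) •
          (⊤ : Submodule (X.presheaf.stalk P) (L.presheaf.stalk P)) := by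
  rw [← germ_vsec_eq k X L s r τ hτ c P, stalkLin_mem_smul_top_iff τ P]
  rfl

include hdim hL hχ hspan hr hτ in
/-- **very ampleness over an algebraically closed field** -/
theorem isClosedImmersion_of_data : IsClosedImmersion r := by
  refine isClosedImmersion_of (X ↘ Spec (CommRingCat.of k)) r hr ?_ ?_
  · intro P Q hP hQ hPQ
    obtain ⟨σ, h1, h2⟩ := exists_sep k X hdim L hL hχ P Q hP hQ hPQ
    obtain ⟨c, hc⟩ := hspan σ
    rw [hc] at h1 h2
    exact ⟨c, Or.inl ⟨(van_iff_germ k X L s r τ hτ c P).2 h1,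
      fun h => h2 ((van_iff_germ k X L s r τ hτ c Q).1 h)⟩⟩
  · intro P hP
    refine le_trans ?_ le_sup_left
    intro w hw
    have h1 : stalkLin τ.hom P w ∈ IsLocalRing.maximalIdeal (X.presheaf.stalk P) •
        (⊤ : Submodule (X.presheaf.stalk P) (L.presheaf.stalk P)) :=
      (stalkLin_mem_smul_top_iff τ P w).2 hw
    have h2 := le_span_van k X hdim L hL hχ P hP h1
    have h3 : Submodule.span (X.presheaf.stalk P)
        {v | ∃ σ : Coh.structureModule X ⟶ L, v = L.presheaf.germ ⊤ P trivial (sv σ ⊤) ∧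
          v ∈ IsLocalRing.maximalIdeal (X.presheaf.stalk P) •
            (⊤ : Submodule (X.presheaf.stalk P) (L.presheaf.stalk P))} ≤
        (Submodule.span (X.presheaf.stalk P)
          {v | ∃ c : Fin (n + 1) → k, v = (LL r).presheaf.germ ⊤ P trivial
            (vsec (X ↘ Spec (CommRingCat.of k)) r c) ∧ v ∈ mL r P}).map (stalkLin τ.hom P) := by
      rw [Submodule.span_le]
      rintro _ ⟨σ, rfl, hσ⟩
      obtain ⟨c, hc⟩ := hspan σ
      rw [hc] at hσ ⊢
      refine ⟨(LL r).presheaf.germ ⊤ P trivial (vsec (X ↘ Spec (CommRingCat.of k)) r c),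
        Submodule.subset_span ⟨c, rfl, (van_iff_germ k X L s r τ hτ c P).2 hσ⟩,
        germ_vsec_eq k X L s r τ hτ c P⟩
    obtain ⟨w', hw', hww'⟩ := h3 h2
    rw [← stalkLin_injective_of_iso τ P hww']
    exact hw'

end Groth.Agent.Lib.R2H7.VACurveG
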