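import Mathlib
import Groth.Agent.Lib.R2H2SheafBC
import Groth.Agent.Lib.R2H2PnLinRes
import Groth.Agent.Lib.Helper27PnSections
import Groth.Prelude.Def_ProjUP

/-!
# Base change of global sections along a flat extension of affine bases (helper7, round 2)

* `hh0Equiv_eH` : compatibility of helper2's `eH` in degree zero with `hh0Equiv`.
* `hh0Equiv_flatBaseChange` : `flatBaseChangeEquiv` sends `1 ⊗ v` to the pulled back section.
* `exists_span_pullSec` : pulled back sections of a spanning family span.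
-/

set_option autoImplicit false
set_option linter.style.haveILetI false
set_option linter.unusedSectionVars false
universe u
open CategoryTheory CategoryTheory.Limits AlgebraicGeometry TopologicalSpace Opposite Abelian TensorProduct

namespace Groth.Agent.Lib.R2H7.VACurveH

open Groth.Agent.Lib.Helper23.AffVanish Groth.Agent.Lib.R2H2.ExtBC Groth.Agent.Lib.R2H2.SheafBC
  Groth.Agent.Lib.Helper27PnSections Groth.Agent.Lib.Helper16.ClosedEmb

section Compat

variable (A : Type u) [CommRing A] (X : Scheme.{u}) [X.Over (Spec (CommRingCat.of A))] (M : X.Modules)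

theorem hh0Equiv_eH (x : EM (rho (X ↘ Spec (CommRingCat.of A)) M) (ZU (⊤ : X.Opens)) 0) :
    hh0Equiv X M (eH A X M 0 x) = h0 (X ↘ Spec (CommRingCat.of A)) M ⊤ x := by
  obtain ⟨φ, rfl⟩ := (Ext.mk₀_bijective _ _).2 (show Ext.{u} (ZU (⊤ : X.Opens)) (Coh.toAb M) 0 from x)
  erw [h0_mk₀]
  change Sheaf.H.equiv₀ (Coh.toAb M) Limits.isTerminalTop
    ((Ext.mk₀ (wTop X)).comp (Ext.mk₀ φ) (zero_add 0)) = _
  rw [Ext.mk₀_comp_mk₀]
  change AddCommGrpCat.uliftZMultiplesAddEquiv _
    ((adjC X).homAddEquiv _ _ (Ext.addEquiv₀ (Ext.mk₀ (wTop X ≫ φ)))) = _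
  rw [addEquiv₀_mk₀]
  exact homEquiv_wTop_comp X φ

end Compat

section BC

variable (A B : Type u) [CommRing A] [CommRing B] [Algebra A B] [Module.Flat A B]
  (X X' : Scheme.{u}) [X.Over (Spec (CommRingCat.of A))] [X'.Over (Spec (CommRingCat.of B))]
  [CompactSpace X] [QuasiSeparatedSpace X] (g' : X' ⟶ X)
  (h : IsPullback g' (X' ↘ Spec (CommRingCat.of B)) (X ↘ Spec (CommRingCat.of A))
    (Spec.map (CommRingCat.ofHom (algebraMap A B))))
  (M : X.Modules) [M.IsQuasicoherent]

/-- the flat base change isomorphism sends `1 ⊗ v` to the pulled back section -/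
theorem hh0Equiv_flatBaseChange (v : Coh.HH X M 0) :
    hh0Equiv X' ((Scheme.Modules.pullback g').obj M)
        (flatBaseChangeEquiv A B X X' g' h M 0 ((1 : B) ⊗ₜ[A] v)) =
      ProjUP.pullSec g' M (hh0Equiv X M v) := by
  obtain ⟨x, rfl⟩ := (eH A X M 0).surjective v
  have h1 : flatBaseChangeEquiv A B X X' g' h M 0 ((1 : B) ⊗ₜ[A] (eH A X M 0 x)) =
      eH B X' ((Scheme.Modules.pullback g').obj M) 0
        (TT (X ↘ Spec (CommRingCat.of A)) (X' ↘ Spec (CommRingCat.of B)) g' h M ⊤ 0 ((1 : B) ⊗ₜ[A] x)) := by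
    have h2 : (TensorProduct.AlgebraTensorModule.congr (LinearEquiv.refl B B) (eH A X M 0)).symm
        ((1 : B) ⊗ₜ[A] (eH A X M 0 x)) = (1 : B) ⊗ₜ[A] x := by
      rw [LinearEquiv.symm_apply_eq, TensorProduct.AlgebraTensorModule.congr_tmul]
      rfl
    change eH B X' ((Scheme.Modules.pullback g').obj M) 0
      (TT (X ↘ Spec (CommRingCat.of A)) (X' ↘ Spec (CommRingCat.of B)) g' h M ⊤ 0
        ((TensorProduct.AlgebraTensorModule.congr (LinearEquiv.refl B B) (eH A X M 0)).symm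
          ((1 : B) ⊗ₜ[A] (eH A X M 0 x)))) = _
    rw [h2]
  rw [h1, hh0Equiv_eH A X M x]
  refine (hh0Equiv_eH B X' _ _).trans ?_
  exact h0_TT_one_tmul (X ↘ Spec (CommRingCat.of A)) (X' ↘ Spec (CommRingCat.of B)) g' h M ⊤ x

end BC

section PullSec

variable {X X' : Scheme.{u}} (g : X' ⟶ X) (M : X.Modules)

theorem pullSec_add (s t : ProjUP.Γm M) :
    ProjUP.pullSec g M (s + t) = ProjUP.pullSec g M s + ProjUP.pullSec g M t :=
  map_add _ s t

theorem pullSec_zero : ProjUP.pullSec g M 0 = 0 := map_zero _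

theorem pullSec_sum {ι : Type*} (S : Finset ι) (t : ι → ProjUP.Γm M) :
    ProjUP.pullSec g M (∑ j ∈ S, t j) = ∑ j ∈ S, ProjUP.pullSec g M (t j) :=
  map_sum _ t S

theorem pullSec_smul (r : Γ(X, ⊤)) (s : ProjUP.Γm M) :
    ProjUP.pullSec g M (r • s) = g.appTop.hom r • ProjUP.pullSec g M s := by
  have h1 : ProjUP.pullSec g M (r • s) =
      ((Scheme.Modules.pullbackPushforwardAdjunction g).unit.app M).app ⊤ (r • s) := rfl
  rw [h1, Groth.Agent.Lib.Helper2.ModExact.app_smul]
  rfl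

end PullSec

section Span

open Groth.Agent.Lib.Helper23.SecTw Groth.Agent.Lib.R2H2.PnLinRes

variable (k K : Type u) [Field k] [Field K] [Algebra k K]
  (X X' : Scheme.{u}) [X.Over (Spec (CommRingCat.of k))] [X'.Over (Spec (CommRingCat.of K))]
  [CompactSpace X] [QuasiSeparatedSpace X] (g : X' ⟶ X)
  (hpb : IsPullback g (X' ↘ Spec (CommRingCat.of K)) (X ↘ Spec (CommRingCat.of k))
    (Spec.map (CommRingCat.ofHom (algebraMap k K))))
  (L : X.Modules) [L.IsQuasicoherent]

/-- a section of the underlying abelian sheaf as a global section of the module -/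
def asΓ {Y : Scheme.{u}} (M : Y.Modules) (s : (Coh.toAb M).obj.obj (op (⊤ : Opens Y))) : ProjUP.Γm M := s

theorem asΓ_add {Y : Scheme.{u}} (M : Y.Modules) (s t : (Coh.toAb M).obj.obj (op (⊤ : Opens Y))) :
    asΓ M (s + t) = asΓ M s + asΓ M t := rfl

theorem asΓ_zero {Y : Scheme.{u}} (M : Y.Modules) : asΓ M 0 = 0 := rfl

theorem hh0Equiv_smul_field (b : K) (y : Coh.HH X' ((Scheme.Modules.pullback g).obj L) 0) :
    asΓ _ (hh0Equiv X' ((Scheme.Modules.pullback g).obj L) (b • y)) =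
      ProjUP.toGlobal (X' ↘ Spec (CommRingCat.of K)) b •
        asΓ _ (hh0Equiv X' ((Scheme.Modules.pullback g).obj L) y) := by
  change asΓ _ (hh0Equiv X' _ (Coh.toGlobal (X' ↘ Spec (CommRingCat.of K)) b • y)) = _
  rw [hh0Equiv_smul, Coh.smulAb_app, resTop_top]
  rfl

include hpb in
/-- **pulled back sections of a spanning family span** -/
theorem exists_span_pullSec {n : ℕ} (w : Fin (n + 1) → ProjUP.Γm L)
    (hspan : ∀ σ : Coh.structureModule X ⟶ L, ∃ c : Fin (n + 1) → k,
      sv σ ⊤ = ∑ j, ProjUP.toGlobal (X ↘ Spec (CommRingCat.of k)) (c j) • w j)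
    (σ' : Coh.structureModule X' ⟶ (Scheme.Modules.pullback g).obj L) :
    ∃ c : Fin (n + 1) → K,
      sv σ' ⊤ = ∑ j, ProjUP.toGlobal (X' ↘ Spec (CommRingCat.of K)) (c j) • ProjUP.pullSec g L (w j) := by
  haveI : Module.Flat k K := inferInstance
  let Φ := flatBaseChangeEquiv k K X X' g hpb L 0
  have key : ∀ t : K ⊗[k] Coh.HH X L 0, ∃ c : Fin (n + 1) → K,
      asΓ _ (hh0Equiv X' ((Scheme.Modules.pullback g).obj L) (Φ t)) =
        ∑ j, ProjUP.toGlobal (X' ↘ Spec (CommRingCat.of K)) (c j) • ProjUP.pullSec g L (w j) := by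
    intro t
    induction t using TensorProduct.induction_on with
    | zero =>
      refine ⟨fun _ => 0, ?_⟩
      rw [map_zero, map_zero, asΓ_zero]
      symm
      refine Finset.sum_eq_zero fun j _ => ?_
      rw [map_zero, zero_smul]
    | tmul b v =>
      obtain ⟨σ, rfl⟩ := cls_surjective L v
      obtain ⟨c, hc⟩ := hspan σ
      refine ⟨fun j => b * algebraMap k K (c j), ?_⟩
      have h1 : (b ⊗ₜ[k] cls σ : K ⊗[k] Coh.HH X L 0) = b • ((1 : K) ⊗ₜ[k] cls σ) := by
        rw [TensorProduct.smul_tmul', smul_eq_mul, mul_one]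
      rw [h1, map_smul, hh0Equiv_smul_field, hh0Equiv_flatBaseChange]
      have h2 : hh0Equiv X L (cls σ) = sv σ ⊤ := AddEquiv.apply_symm_apply _ _
      rw [h2]
      change ProjUP.toGlobal (X' ↘ Spec (CommRingCat.of K)) b • ProjUP.pullSec g L (sv σ ⊤) = _
      rw [hc, pullSec_sum, Finset.smul_sum]
      refine Finset.sum_congr rfl fun j _ => ?_
      rw [pullSec_smul, ← mul_smul, map_mul]
      congr 2
      exact (toGlobal_algebraMap (X ↘ Spec (CommRingCat.of k)) (X' ↘ Spec (CommRingCat.of K)) g hpb.w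
        (c j)).symm
    | add t₁ t₂ h₁ h₂ =>
      obtain ⟨c₁, hc₁⟩ := h₁
      obtain ⟨c₂, hc₂⟩ := h₂
      refine ⟨fun j => c₁ j + c₂ j, ?_⟩
      rw [map_add, map_add, asΓ_add, hc₁, hc₂, ← Finset.sum_add_distrib]
      refine Finset.sum_congr rfl fun j _ => ?_
      rw [map_add, add_smul]
  obtain ⟨c, hc⟩ := key (Φ.symm (cls σ'))
  refine ⟨c, ?_⟩
  rw [← hc, LinearEquiv.apply_symm_apply]
  exact (AddEquiv.apply_symm_apply _ _).symm

end Span

end Groth.Agent.Lib.R2H7.VACurveH
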