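import Mathlib
import Groth.Agent.Lib.R2H7ClImmMain
import Groth.Agent.Lib.Helper27GenLocusPull
import Groth.Agent.Lib.R2H2SheafBC
import Groth.Agent.Lib.Helper12Descent

/-!
# Descent of the chart criterion for closed immersions into `P^n` along a field extension (helper7, round 2)

* `genLocus_pullSec_eq` : `X'_{g^* σ} = g⁻¹ X_σ`.
* `res_pullSec_smul` : ratios of sections pull back to ratios.
* `chart_of_isClosedImmersion` : for a closed immersion into `P^n_k` the charts are affine with ring generated by the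
  ratios.
* `subalgebra_eq_top_of_isPushout` : faithfully flat descent of `T' = ⊤` for subalgebras.
* `isAffineOpen_of_preimage` : affineness of an open descends along a field extension.
* `subring_eq_top_of_baseChange` : generation of the ring of an affine open descends.
-/

set_option autoImplicit false
set_option linter.style.haveILetI false
set_option linter.unusedSectionVars false
universe u
open CategoryTheory CategoryTheory.Limits AlgebraicGeometry TopologicalSpace Opposite TensorProduct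

namespace Groth.Agent.Lib.R2H7.VACurveI

open Groth.Agent.Lib.Helper23.SecTw Groth.Agent.Lib.Helper23.GenLocus Groth.Agent.Lib.Helper6
open Groth.Agent.Lib.Helper27GrTildeSect Groth.Agent.Lib.R2H3.VAmpleMain Groth.Agent.Lib.R2H3.VAmpleMor
  Groth.Agent.Lib.R2H7.ClImmChart Groth.Agent.Lib.R2H7.ClImmMain Groth.Agent.Helper13PullbackUnit
  Groth.Agent.Lib.Helper27PullGen

section Alg

/-- faithfully flat descent: a subalgebra which generates after base change is everything -/
theorem subalgebra_eq_top_of_isPushout {k K A A' : Type u} [Field k] [Field K] [CommRing A] [CommRing A']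
    [Algebra k K] [Algebra k A] [Algebra K A'] [Algebra A A'] [Algebra k A'] [IsScalarTower k K A']
    [IsScalarTower k A A'] [Algebra.IsPushout k K A A'] (T' : Subalgebra k A)
    (h : Algebra.adjoin K ((algebraMap A A') '' (T' : Set A)) = ⊤) : T' = ⊤ := by
  have : Module.FaithfullyFlat k K := inferInstance
  let e := Algebra.IsPushout.equiv k K A A'
  let N : Submodule k A := Subalgebra.toSubmodule T'
  have hspan : Submodule.span K ((algebraMap A A') '' (T' : Set A)) = ⊤ := by
    have h1 := Algebra.adjoin_eq_span K ((algebraMap A A') '' (T' : Set A))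
    rw [h, Algebra.top_toSubmodule] at h1
    have h2 : (Submonoid.closure ((algebraMap A A') '' (T' : Set A)) : Set A') =
        (algebraMap A A') '' (T' : Set A) := by
      have : (algebraMap A A') '' (T' : Set A) =
          ((T'.toSubsemiring.toSubmonoid.map (algebraMap A A' : A →* A') : Submonoid A') : Set A') := rfl
      rw [this, Submonoid.closure_eq]
    rw [h2] at h1
    exact h1.symm
  have hlin : ∀ (b : K) (s : K ⊗[k] N), N.subtype.lTensor K (b • s) = b • N.subtype.lTensor K s := by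
    intro b s
    exact (N.subtype.baseChange K).map_smul b s
  have hsurj : Function.Surjective (N.subtype.lTensor K) := by
    intro t
    have ht : e t ∈ Submodule.span K ((algebraMap A A') '' (T' : Set A)) := by rw [hspan]; trivial
    have key : ∀ v ∈ Submodule.span K ((algebraMap A A') '' (T' : Set A)),
        ∃ s : K ⊗[k] N, e (N.subtype.lTensor K s) = v := by
      intro v hv
      induction hv using Submodule.span_induction with
      | mem x hx =>
        obtain ⟨a, ha, rfl⟩ := hx
        refine ⟨(1 : K) ⊗ₜ[k] (⟨a, ha⟩ : N), ?_⟩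
        rw [LinearMap.lTensor_tmul, Algebra.IsPushout.equiv_tmul, map_one, one_mul]
        rfl
      | zero => exact ⟨0, by simp⟩
      | add x y _ _ hx hy =>
        obtain ⟨s₁, h₁⟩ := hx
        obtain ⟨s₂, h₂⟩ := hy
        exact ⟨s₁ + s₂, by rw [map_add, map_add, h₁, h₂]⟩
      | smul b x _ hx =>
        obtain ⟨s₁, h₁⟩ := hx
        refine ⟨b • s₁, ?_⟩
        rw [← h₁, ← map_smul, hlin]
    obtain ⟨s, hs⟩ := key _ ht
    exact ⟨s, e.injective hs⟩
  have hsub : Function.Surjective N.subtype :=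
    (Module.FaithfullyFlat.lTensor_surjective_iff_surjective k K N.subtype).1 hsurj
  rw [eq_top_iff]
  intro a _
  obtain ⟨⟨a', ha'⟩, rfl⟩ := hsub a
  exact ha'

end Alg

section Pull

variable {X X' : Scheme.{u}} (g : X' ⟶ X) (L : X.Modules)

/-- the generating locus of a pulled back section -/
theorem genLocus_pullSec_eq (hL : PicF.IsInvertible L) (σ : ProjUP.Γm L) :
    CohB1.genLocus ((Scheme.Modules.pullback g).obj L)
        (secHom ((Scheme.Modules.pullback g).obj L) (ProjUP.pullSec g L σ)) =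
      g ⁻¹ᵁ CohB1.genLocus L (secHom L σ) := by
  haveI : L.IsQuasicoherent := isQuasicoherent_of_isInvertible L hL
  refine opens_eq_of_cover _ _ fun x' => ?_
  obtain ⟨W, e, hxW, he⟩ := exists_gen L hL (g x')
  refine ⟨g ⁻¹ᵁ W, hxW, ?_⟩
  rw [Groth.Agent.Lib.Helper27GenLocusPull.genLocus_pullSec_inf g L σ W e he]
  rfl

/-- ratios of sections pull back to ratios -/
theorem res_pullSec_smul [L.IsQuasicoherent] (U : X.Opens) (a b : ProjUP.Γm L) (c : Γ(X, U))
    (hc : res L (le_top : U ≤ ⊤) a = c • res L (le_top : U ≤ ⊤) b) :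
    res ((Scheme.Modules.pullback g).obj L) (le_top : g ⁻¹ᵁ U ≤ ⊤) (ProjUP.pullSec g L a) =
      g.appLE U (g ⁻¹ᵁ U) le_rfl c •
        res ((Scheme.Modules.pullback g).obj L) (le_top : g ⁻¹ᵁ U ≤ ⊤) (ProjUP.pullSec g L b) := by
  rw [Groth.Agent.Lib.Helper27GenLocusPull.res_pullSec, Groth.Agent.Lib.Helper27GenLocusPull.res_pullSec,
    hc, unitSec_smul]

/-- the restriction of a pulled back generating section generates -/
theorem isGen_res_pullSec [L.IsQuasicoherent] (U : X.Opens) (b : ProjUP.Γm L)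
    (hb : IsGen L U (res L (le_top : U ≤ ⊤) b)) :
    IsGen ((Scheme.Modules.pullback g).obj L) (g ⁻¹ᵁ U)
      (res ((Scheme.Modules.pullback g).obj L) (le_top : g ⁻¹ᵁ U ≤ ⊤) (ProjUP.pullSec g L b)) := by
  rw [Groth.Agent.Lib.Helper27GenLocusPull.res_pullSec]
  exact isGen_pullback g L U _ hb

end Pull

section Chart

variable {k : Type u} [Field k] {n : ℕ} {X : Scheme.{u}} (pX : X ⟶ Spec (CommRingCat.of k))
variable (f : X ⟶ Proj (CohB1.polyGrading n k))

local notation "Pg" => CohB1.polyGrading n k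

/-- for a closed immersion into `P^n_k` given by sections `w`, the charts are affine and their rings are generated by the
constants and the ratios -/
theorem chart_of_isClosedImmersion (hf : f ≫ Groth.Agent.Helper13ProjUP.toBase Pg = pX) [IsClosedImmersion f]
    (M : X.Modules) (τ : LL f ≅ M) (w : Fin (n + 1) → ProjUP.Γm M)
    (hτ : ∀ i, τ.hom.app ⊤ (ProjUP.pullSec f (GrTilde.tilde Pg Pg ((1 : ℕ) : ℤ))
      (gsec Pg 1 ⊤ (hX n i))) = w i) (j : Fin (n + 1)) (V : X.Opens) (hV : UU f j = V) :
    IsAffineOpen V ∧ ∀ T' : Subring Γ(X, V),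
      (∀ a : k, resf (le_top : V ≤ ⊤) (ProjUP.toGlobal pX a) ∈ T') →
      (∀ (i : Fin (n + 1)) (c : Γ(X, V)),
        res M (le_top : V ≤ ⊤) (w i) = c • res M (le_top : V ≤ ⊤) (w j) → c ∈ T') → T' = ⊤ := by
  subst hV
  refine ⟨(isAffineOpen_VV j).preimage f, fun T' hk hr => ?_⟩
  have hsurj : Function.Surjective (φφ f j) := by
    have e : f.appLE (VV (k := k) j) (UU f j) le_rfl = f.app (VV (k := k) j) := Scheme.Hom.appLE_eq_app f
    change Function.Surjective (f.appLE (VV (k := k) j) (UU f j) le_rfl).hom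
    rw [e]
    exact f.app_surjective (VV (k := k) j) (isAffineOpen_VV j)
  have hT : T'.comap (φφ f j) = ⊤ := by
    apply subring_eq_top_chart j
    · intro a
      change φφ f j (κκ j a) ∈ T'
      rw [φφ_κκ pX f j hf]
      exact hk a
    · intro i
      change φφ f j (rat j i) ∈ T'
      exact hr i _ (res_eq Pg TT (hX n) f M τ w hτ i j)
  rw [eq_top_iff]
  intro z _
  obtain ⟨y, rfl⟩ := hsurj z
  have : y ∈ T'.comap (φφ f j) := by rw [hT]; trivial
  exact this

end Chart

section Descent

variable {k K : Type u} [Field k] [Field K] [Algebra k K] {X X' : Scheme.{u}}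
  (f : X ⟶ Spec (CommRingCat.of k)) (f' : X' ⟶ Spec (CommRingCat.of K)) (g : X' ⟶ X)
  (hpb : IsPullback g f' f (Spec.map (CommRingCat.ofHom (algebraMap k K))))

include hpb in
/-- affineness of an open descends along a field extension -/
theorem isAffineOpen_of_preimage (U : X.Opens) (h : IsAffineOpen (g ⁻¹ᵁ U)) : IsAffineOpen U := by
  have hsq : IsPullback (g ∣_ U) (g ⁻¹ᵁ U).ι U.ι g := isPullback_morphismRestrict g U
  have hbig := (hsq.paste_vert hpb).flip
  have hsurj0 : Surjective (Spec.map (CommRingCat.ofHom (algebraMap k K))) := by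
    constructor
    intro a
    exact ⟨IsLocalRing.closedPoint K, @Subsingleton.elim (PrimeSpectrum k) inferInstance _ _⟩
  have hflat0 : Flat (Spec.map (CommRingCat.ofHom (algebraMap k K))) := by
    rw [HasRingHomProperty.Spec_iff (P := @Flat)]
    exact RingHom.flat_algebraMap_iff.mpr inferInstance
  haveI : IsAffine ((g ⁻¹ᵁ U : X'.Opens) : Scheme.{u}) := h
  have hP : IsAffineHom ((g ⁻¹ᵁ U).ι ≫ f') := inferInstance
  have hdesc := (Groth.Agent.Lib.Helper12.descendsAlong_isAffineHom).of_isPullback hbig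
    ⟨⟨hsurj0, hflat0⟩, inferInstance⟩ hP
  haveI : IsAffineHom (U.ι ≫ f) := hdesc
  exact isAffine_of_isAffineHom (U.ι ≫ f)

include hpb in
/-- generation of the ring of an affine open by a subring descends along a field extension -/
theorem subring_eq_top_of_baseChange (U : X.Opens) (hU : IsAffineOpen U) (T' : Subring Γ(X, U))
    (hk : ∀ a : k, resf (le_top : U ≤ ⊤) (ProjUP.toGlobal f a) ∈ T')
    (h : ∀ T'' : Subring Γ(X', g ⁻¹ᵁ U),
      (∀ b : K, resf (le_top : g ⁻¹ᵁ U ≤ ⊤) (ProjUP.toGlobal f' b) ∈ T'') →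
      (∀ t ∈ T', (g.appLE U (g ⁻¹ᵁ U) le_rfl).hom t ∈ T'') → T'' = ⊤) : T' = ⊤ := by
  have hpo := Groth.Agent.Lib.R2H2.SheafBC.isPushout_sections f f' g hpb hU
  letI a1 : Algebra k Γ(X, U) := (Groth.Agent.Lib.R2H2.SheafBC.bW f U).toAlgebra
  letI a2 : Algebra K Γ(X', g ⁻¹ᵁ U) := (Groth.Agent.Lib.R2H2.SheafBC.bW f' (g ⁻¹ᵁ U)).toAlgebra
  letI a3 : Algebra Γ(X, U) Γ(X', g ⁻¹ᵁ U) := (g.appLE U (g ⁻¹ᵁ U) le_rfl).hom.toAlgebra
  letI a4 : Algebra k Γ(X', g ⁻¹ᵁ U) :=
    ((Groth.Agent.Lib.R2H2.SheafBC.bW f' (g ⁻¹ᵁ U)).comp (algebraMap k K)).toAlgebra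
  haveI t1 : IsScalarTower k K Γ(X', g ⁻¹ᵁ U) := IsScalarTower.of_algebraMap_eq (fun _ => rfl)
  haveI t2 : IsScalarTower k Γ(X, U) Γ(X', g ⁻¹ᵁ U) := IsScalarTower.of_algebraMap_eq (fun a => by
    have := congrArg (fun φ => φ.hom a) hpo.w
    exact this)
  have hP : Algebra.IsPushout k K Γ(X, U) Γ(X', g ⁻¹ᵁ U) :=
    (CommRingCat.isPushout_iff_isPushout (R := k) (S := Γ(X, U)) (R' := K) (S' := Γ(X', g ⁻¹ᵁ U))).1 hpo
  let T'alg : Subalgebra k Γ(X, U) :=
    { T'.toSubsemiring with
      algebraMap_mem' := fun a => hk a }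
  have hadj : Algebra.adjoin K ((algebraMap Γ(X, U) Γ(X', g ⁻¹ᵁ U)) '' (T'alg : Set Γ(X, U))) = ⊤ := by
    have h1 := h (Algebra.adjoin K ((algebraMap Γ(X, U) Γ(X', g ⁻¹ᵁ U)) '' (T'alg : Set Γ(X, U)))).toSubring
      (fun b => Subalgebra.algebraMap_mem _ b)
      (fun t ht => Algebra.subset_adjoin ⟨t, ht, rfl⟩)
    rw [eq_top_iff]
    intro x _
    have : x ∈ (Algebra.adjoin K ((algebraMap Γ(X, U) Γ(X', g ⁻¹ᵁ U)) ''
        (T'alg : Set Γ(X, U)))).toSubring := by rw [h1]; trivial
    exact this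
  have hT := subalgebra_eq_top_of_isPushout (k := k) (K := K) T'alg hadj
  rw [eq_top_iff]
  intro a _
  have : a ∈ T'alg := by rw [hT]; trivial
  exact this

end Descent

end Groth.Agent.Lib.R2H7.VACurveI
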