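import Mathlib
import Groth.Agent.Lib.R2H7VACurveG
import Groth.Agent.Lib.R2H7VACurveH
import Groth.Agent.Lib.R2H7VACurveI
import Groth.Agent.Lib.Helper8CLS1
import Groth.Agent.Lib.Helper6EquiDim2
import Groth.Agent.Lib.R2H4FieldBC
import Groth.Agent.Lib.R2H4BCGlue

/-!
# Very ampleness of invertible modules of degree `≥ 2g + 1` on geometrically integral curves (helper7, round 2)

Assembly: base change to the algebraic closure, very ampleness there (`R2H7VACurveG`), descent of the chart criterion
(`R2H7VACurveI`), helper8's chart criterion over `k`.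
-/

set_option autoImplicit false
set_option linter.style.haveILetI false
set_option linter.unusedSectionVars false
universe u
open CategoryTheory CategoryTheory.Limits AlgebraicGeometry TopologicalSpace Opposite TensorProduct

namespace Groth.Agent.Lib.R2H7.VACurveJ

open Groth.Agent.Lib.Helper23.SecTw Groth.Agent.Lib.Helper23.GenLocus Groth.Agent.Lib.Helper6
open Groth.Agent.Lib.Helper27GrTildeSect Groth.Agent.Lib.R2H3.VAmpleMain Groth.Agent.Lib.R2H3.VAmpleMor
  Groth.Agent.Lib.R2H7.ClImmChart Groth.Agent.Lib.R2H7.ClImmMain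
open Groth.Agent.Lib.R2H2.PnBeilinson Groth.Agent.Lib.R2H2.PnLinRes Groth.Agent.Lib.R2H1.EulerAdd
  Groth.Agent.Lib.R2H1.CurveEuler Groth.Agent.Lib.R2H1.CurveDegSec

section Span

variable (k : Type u) [Field k] (X : Scheme.{u}) [X.Over (Spec (CommRingCat.of k))]

theorem sv_smul_top {L : X.Modules} (c : k) (t : Coh.structureModule X ⟶ L) :
    sv (c • t) ⊤ = ProjUP.toGlobal (X ↘ Spec (CommRingCat.of k)) c • sv t ⊤ := by
  have h1 : sv (c • t) ⊤ = X.presheaf.map (homOfLE (le_top : (⊤ : X.Opens) ≤ ⊤)).op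
      (Coh.toGlobal (X ↘ Spec (CommRingCat.of k)) c) • sv t ⊤ := KLin.smul_app_apply c t ⊤ _
  rw [h1]
  congr 1
  change (X.presheaf.map (𝟙 _)) _ = _
  rw [X.presheaf.map_id]
  rfl

theorem sv_sum_top {L : X.Modules} {ι : Type*} (S : Finset ι) (t : ι → (Coh.structureModule X ⟶ L)) :
    sv (∑ j ∈ S, t j) ⊤ = ∑ j ∈ S, sv (t j) ⊤ := by
  classical
  induction S using Finset.induction_on with
  | empty => simp only [Finset.sum_empty]; exact sv_zero ⊤
  | insert a S ha ih => rw [Finset.sum_insert ha, Finset.sum_insert ha, sv_add, ih]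

variable [IsProper (X ↘ (Spec (CommRingCat.of k)))]

/-- a finite spanning family of global sections -/
theorem exists_spanning (L : X.Modules) (cL : Coh.IsCoh L) :
    ∃ (n : ℕ) (w : Fin (n + 1) → ProjUP.Γm L), ∀ σ : Coh.structureModule X ⟶ L,
      ∃ c : Fin (n + 1) → k, sv σ ⊤ = ∑ j, ProjUP.toGlobal (X ↘ Spec (CommRingCat.of k)) (c j) • w j := by
  haveI := finite_HH k X L cL 0
  haveI : Module.Finite k (Coh.structureModule X ⟶ L) := Module.Finite.equiv (clsEquiv (k := k) L).symm
  obtain ⟨m, s, hs⟩ := Module.Finite.exists_fin (R := k) (M := Coh.structureModule X ⟶ L)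
  let t : Fin (m + 1) → (Coh.structureModule X ⟶ L) := Fin.cons 0 s
  have ht : Submodule.span k (Set.range t) = ⊤ := by
    rw [eq_top_iff, ← hs]
    apply Submodule.span_mono
    rintro _ ⟨j, rfl⟩
    exact ⟨j.succ, by simp [t]⟩
  refine ⟨m, fun j => sv (t j) ⊤, fun σ => ?_⟩
  have hσ : σ ∈ Submodule.span k (Set.range t) := by rw [ht]; trivial
  obtain ⟨c, hc⟩ := (Submodule.mem_span_range_iff_exists_fun k).1 hσ
  refine ⟨c, ?_⟩
  rw [← hc, sv_sum_top]
  refine Finset.sum_congr rfl fun j _ => ?_
  exact sv_smul_top k X (c j) (t j)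

end Span

section BC

open Groth.Agent.Lib.Helper6.EquiDim

variable (k : Type u) [Field k] (X : Scheme.{u}) [X.Over (Spec (CommRingCat.of k))]
  [IsProper (X ↘ (Spec (CommRingCat.of k)))] [GeometricallyIntegral (X ↘ (Spec (CommRingCat.of k)))]
  (K : Type u) [Field K] [Algebra k K]

theorem isPullback_bc :
    letI : (Curv2.bc k X K).Over (Spec (CommRingCat.of K)) := ⟨Curv2.bcSnd k X K⟩
    IsPullback (Curv2.bcFst k X K) ((Curv2.bc k X K) ↘ Spec (CommRingCat.of K))
      (X ↘ Spec (CommRingCat.of k)) (Spec.map (CommRingCat.ofHom (algebraMap k K))) :=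
  IsPullback.of_hasPullback _ _

include k in
theorem isIntegral_base : IsIntegral X :=
  GeometricallyIntegral.isIntegral_of_subsingleton (X ↘ (Spec (CommRingCat.of k)))

theorem isIntegral_bc : IsIntegral (Curv2.bc k X K) :=
  GeometricallyIntegral.geometrically_isIntegral (f := X ↘ (Spec (CommRingCat.of k)))
    (Spec.map (CommRingCat.ofHom (algebraMap k K))) (Curv2.bcFst k X K) (Curv2.bcSnd k X K)
    (IsPullback.of_hasPullback _ _)

theorem isProper_bc : IsProper (Curv2.bcSnd k X K) :=
  MorphismProperty.of_isPullback (P := @IsProper)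
    (IsPullback.of_hasPullback (X ↘ Spec (CommRingCat.of k))
      (Spec.map (CommRingCat.ofHom (algebraMap k K)))) inferInstance

theorem dim_bc : topologicalKrullDim (Curv2.bc k X K) = topologicalKrullDim X := by
  haveI := isIntegral_base k X
  haveI := isIntegral_bc k X K
  have h1 : (Set.univ : Set (Curv2.bc k X K)) ∈ irreducibleComponents (Curv2.bc k X K) := by
    rw [irreducibleComponents_eq_singleton]; rfl
  obtain ⟨hcomp, hdim⟩ := topologicalKrullDim_component k X K Set.univ h1
  rw [irreducibleComponents_eq_singleton] at hcomp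
  have h2 : (Curv2.bcFst k X K) '' Set.univ = Set.univ := hcomp
  rw [h2] at hdim
  have e1 : topologicalKrullDim (Set.univ : Set (Curv2.bc k X K)) =
      topologicalKrullDim (Curv2.bc k X K) :=
    IsHomeomorph.topologicalKrullDim_eq _ (Homeomorph.Set.univ _).isHomeomorph
  have e2 : topologicalKrullDim (Set.univ : Set X) = topologicalKrullDim X :=
    IsHomeomorph.topologicalKrullDim_eq _ (Homeomorph.Set.univ _).isHomeomorph
  rw [← e1, hdim, e2]

set_option backward.isDefEq.respectTransparency.types false in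
theorem surjective_bcFst : Function.Surjective (Curv2.bcFst k X K) := by
  have hsurj0 : AlgebraicGeometry.Surjective (Spec.map (CommRingCat.ofHom (algebraMap k K))) := by
    constructor
    intro a
    exact ⟨IsLocalRing.closedPoint K, @Subsingleton.elim (PrimeSpectrum k) inferInstance _ _⟩
  have hsurj : AlgebraicGeometry.Surjective (Curv2.bcFst k X K) :=
    MorphismProperty.pullback_fst (P := @AlgebraicGeometry.Surjective) _ _ hsurj0
  exact hsurj.surj

end BC

section Main

open Groth.Agent.Lib.R2H7.VACurveG Groth.Agent.Lib.R2H7.VACurveH Groth.Agent.Lib.R2H7.VACurveI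

variable (k : Type u) [Field k] (X : Scheme.{u}) [X.Over (Spec (CommRingCat.of k))]
  [IsProper (X ↘ (Spec (CommRingCat.of k)))] [GeometricallyIntegral (X ↘ (Spec (CommRingCat.of k)))]

/-- very ampleness, with an auxiliary algebraically closed extension `K` of `k` -/
theorem main_aux (K : Type u) [Field K] [Algebra k K] [IsAlgClosed K]
    (hdim : topologicalKrullDim X = 1)
    (h0 : Module.finrank k (Coh.HH X (Coh.structureModule X) 0) = 1) (L : X.Modules)
    (hL : PicF.IsInvertible L)
    (hdeg : 2 * (Curv2.genus k X : ℤ) + 1 ≤ Curv2.deg k X L 1) :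
    ∃ (n : ℕ) (i : X ⟶ CohB1.ProjSpace n k), IsClosedImmersion i ∧
      i ≫ CohB1.ProjSpace.toSpec n k = X ↘ (Spec (CommRingCat.of k)) ∧
      Nonempty ((Scheme.Modules.pullback i).obj (Twist.twistProjSpace n k 1) ≅ L) := by
  letI : (Curv2.bc k X K).Over (Spec (CommRingCat.of K)) := ⟨Curv2.bcSnd k X K⟩
  have hpb : IsPullback (Curv2.bcFst k X K) ((Curv2.bc k X K) ↘ Spec (CommRingCat.of K))
      (X ↘ Spec (CommRingCat.of k)) (Spec.map (CommRingCat.ofHom (algebraMap k K))) :=
    IsPullback.of_hasPullback _ _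
  haveI : IsIntegral (Curv2.bc k X K) := isIntegral_bc k X K
  haveI : IsProper ((Curv2.bc k X K) ↘ Spec (CommRingCat.of K)) := isProper_bc k X K
  have hdim' : topologicalKrullDim (Curv2.bc k X K) = 1 := (dim_bc k X K).trans hdim
  haveI := isNoetherian_of_proper k X
  haveI : CompactSpace X :=
    QuasiCompact.compactSpace_of_compactSpace (X ↘ Spec (CommRingCat.of k))
  haveI : QuasiSeparatedSpace X :=
    (quasiSeparated_iff_quasiSeparatedSpace (X ↘ Spec (CommRingCat.of k))).mp inferInstance
  have cL := isCoh_of_isInvertible L hL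
  haveI : L.IsQuasicoherent := cL.1
  have cO := Groth.Agent.Lib.R2H1.GenusLe.isCoh_structureModule X
  -- numerics
  have hχ : (Curv2.genus k X : ℤ) + 2 ≤ Curv2.euler k X L := by
    unfold Curv2.deg at hdeg
    have e1 := euler_eq_h0_sub_h1 k X hdim.le (Coh.structureModule X) cO.1
    rw [h0] at e1
    have e2 : (Curv2.genus k X : ℤ) = (Module.finrank k (Coh.HH X (Coh.structureModule X) 1) : ℤ) := rfl
    push_cast at hdeg e1
    linarith
  have hχ' : (Curv2.genus K (Curv2.bc k X K) : ℤ) + 2 ≤
      Curv2.euler K (Curv2.bc k X K) ((Scheme.Modules.pullback (Curv2.bcFst k X K)).obj L) := by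
    rw [Groth.Agent.Lib.R2H4BCGlue.euler_eq (Curv2.bcFst k X K) L
      (fun i => Groth.Agent.Lib.R2H4FieldBC.fieldBC k K X (Curv2.bc k X K) (Curv2.bcFst k X K) hpb L cL i)]
    have h1 := (Groth.Agent.Lib.R2H4BCGlue.s0223 Groth.Agent.Lib.R2H4FieldBC.fieldBC k X h0 K
      (Curv2.bc k X K) (Curv2.bcFst k X K) hpb).2
    have e2 : (Curv2.genus K (Curv2.bc k X K) : ℤ) = (Curv2.genus k X : ℤ) := by
      unfold Curv2.genus
      rw [h1]
    rw [e2]
    exact hχ
  -- sections
  obtain ⟨n, w, hspan⟩ := exists_spanning k X L cL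
  have hL' : PicF.IsInvertible ((Scheme.Modules.pullback (Curv2.bcFst k X K)).obj L) :=
    Groth.Agent.Lib.Helper23.PB.isInvertible_pullback (Curv2.bcFst k X K) L hL
  have hspan' := exists_span_pullSec k K X (Curv2.bc k X K) (Curv2.bcFst k X K) hpb L w hspan
  have hgen' := generatedBy_of_span K (Curv2.bc k X K) hdim' _ hL' hχ'
    (fun j => ProjUP.pullSec (Curv2.bcFst k X K) L (w j)) hspan'
  obtain ⟨r, hr, τ, hτ⟩ := exists_mor_data (R := K) n ((Curv2.bc k X K) ↘ Spec (CommRingCat.of K)) _ hL'
    (fun j => ProjUP.pullSec (Curv2.bcFst k X K) L (w j)) hgen'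
  haveI hcl : IsClosedImmersion r := isClosedImmersion_of_data K (Curv2.bc k X K) hdim' _ hL' hχ'
    (fun j => ProjUP.pullSec (Curv2.bcFst k X K) L (w j)) hspan' r hr τ hτ
  -- the charts
  have hU' : ∀ j, UU r j = (Curv2.bcFst k X K) ⁻¹ᵁ CohB1.genLocus L (secHom L (w j)) := fun j =>
    (preimage_eq (CohB1.polyGrading n K) TT (hX n) (hcovX n) r _ τ
      (fun j => ProjUP.pullSec (Curv2.bcFst k X K) L (w j)) hτ j).trans
      (genLocus_pullSec_eq (Curv2.bcFst k X K) L hL (w j))
  have hchart := fun j => chart_of_isClosedImmersion ((Curv2.bc k X K) ↘ Spec (CommRingCat.of K)) r hr _ τ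
    (fun j => ProjUP.pullSec (Curv2.bcFst k X K) L (w j)) hτ j _ (hU' j)
  have haff : ∀ j, IsAffineOpen (CohB1.genLocus L (secHom L (w j))) := fun j =>
    isAffineOpen_of_preimage (X ↘ Spec (CommRingCat.of k)) ((Curv2.bc k X K) ↘ Spec (CommRingCat.of K))
      (Curv2.bcFst k X K) hpb _ (hchart j).1
  refine ⟨n, ?_⟩
  refine Groth.Agent.Lib.Helper8CLS1.exists_closedImmersion_of_sections (X ↘ Spec (CommRingCat.of k)) L hL n w
    (fun j => CohB1.genLocus L (secHom L (w j))) (fun j => rfl) ?_ haff ?_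
  · intro y
    obtain ⟨y', rfl⟩ := surjective_bcFst k X K y
    obtain ⟨j, hj⟩ := exists_mem_UU r y'
    rw [hU' j] at hj
    exact ⟨j, hj⟩
  · intro j T' hk hr'
    have hgenj : IsGen L (CohB1.genLocus L (secHom L (w j)))
        (res L (le_top : CohB1.genLocus L (secHom L (w j)) ≤ ⊤) (w j)) := by
      have h1 := isGen_sv_genLocus L (secHom L (w j))
      rwa [sv_secHom] at h1
    refine subring_eq_top_of_baseChange (X ↘ Spec (CommRingCat.of k))
      ((Curv2.bc k X K) ↘ Spec (CommRingCat.of K)) (Curv2.bcFst k X K) hpb _ (haff j) T' ?_ ?_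
    · intro a
      exact hk _
    · intro T'' hK hT'
      refine (hchart j).2 T'' hK ?_
      intro i c' hc'
      have hc : res L (le_top : CohB1.genLocus L (secHom L (w j)) ≤ ⊤) (w i) =
          coef hgenj le_rfl (res L le_top (w i)) •
            res L (le_top : CohB1.genLocus L (secHom L (w j)) ≤ ⊤) (w j) := by
        have := coef_spec hgenj le_rfl (res L le_top (w i))
        rw [res_self] at this
        exact this.symm
      have hcT : coef hgenj le_rfl (res L le_top (w i)) ∈ T' := hr' i _ hc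
      have h2 := res_pullSec_smul (Curv2.bcFst k X K) L _ (w i) (w j) _ hc
      have hgen'j := isGen_res_pullSec (Curv2.bcFst k X K) L _ (w j) hgenj
      have heq : c' = (Curv2.bcFst k X K).appLE _ _ le_rfl (coef hgenj le_rfl (res L le_top (w i))) := by
        apply (hgen'j _ le_rfl).1
        simp only [res_self]
        rw [← hc', ← h2]
      rw [heq]
      exact hT' _ hcT

/-- **very ampleness of invertible modules of degree `≥ 2g + 1`** -/
theorem main (hdim : topologicalKrullDim X = 1)
    (h0 : Module.finrank k (Coh.HH X (Coh.structureModule X) 0) = 1) (L : X.Modules)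
    (hL : PicF.IsInvertible L)
    (hdeg : 2 * (Curv2.genus k X : ℤ) + 1 ≤ Curv2.deg k X L 1) :
    ∃ (n : ℕ) (i : X ⟶ CohB1.ProjSpace n k), IsClosedImmersion i ∧
      i ≫ CohB1.ProjSpace.toSpec n k = X ↘ (Spec (CommRingCat.of k)) ∧
      Nonempty ((Scheme.Modules.pullback i).obj (Twist.twistProjSpace n k 1) ≅ L) :=
  main_aux k X (AlgebraicClosure k) hdim h0 L hL hdeg

end Main

end Groth.Agent.Lib.R2H7.VACurveJ
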