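/-
R2H7ValueSetMult: multipliers between rank-one modules over a unibranch curve singularity
A ⊆ k[[t]] and their value sets (S15034).
-/
import Mathlib

set_option autoImplicit false
set_option linter.unusedVariables false
set_option linter.style.haveILetI false
set_option linter.unusedSectionVars false

namespace Groth.Agent.Lib.R2H7.ValueSetMult

open PowerSeries

universe u

variable {k : Type u} [Field k]

/-- `c ≤ order f` iff `X^c ∣ f`. -/
theorem le_order_iff_dvd (c : ℕ) (f : PowerSeries k) : (c : ℕ∞) ≤ order f ↔ X ^ c ∣ f := by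
  rw [PowerSeries.X_pow_dvd_iff]
  constructor
  · intro h m hm
    exact coeff_of_lt_order m (lt_of_lt_of_le (by exact_mod_cast hm) h)
  · intro h
    exact nat_le_order f c h

/-- a power series of order `e` is `X^e` times a unit -/
theorem exists_unit_of_order (s : PowerSeries k) (e : ℕ) (hs : order s = e) :
    ∃ u : PowerSeries k, IsUnit u ∧ s = X ^ e * u := by
  obtain ⟨hc, hlt⟩ := order_eq_nat.mp hs
  obtain ⟨u, hu⟩ := (PowerSeries.X_pow_dvd_iff).mpr hlt
  refine ⟨u, ?_, hu⟩
  rw [PowerSeries.isUnit_iff_constantCoeff, isUnit_iff_ne_zero]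
  intro h0
  apply hc
  rw [hu, PowerSeries.coeff_X_pow_mul', if_pos le_rfl, Nat.sub_self,
    PowerSeries.coeff_zero_eq_constantCoeff_apply, h0]

variable (A : Subalgebra k (PowerSeries k))

/-- units of `k[[t]]` lying in `A` are units of `A` when `k[[t]]` is integral over `A`. -/
theorem isUnit_of_isUnit_coe [Algebra.IsIntegral ↥A (PowerSeries k)] (a : ↥A)
    (ha : IsUnit (a : PowerSeries k)) : IsUnit a := by
  by_contra hna
  obtain ⟨P, hP, haP⟩ := exists_max_ideal_of_mem_nonunits (mem_nonunits_iff.mpr hna)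
  haveI := hP
  have hker : RingHom.ker (algebraMap ↥A (PowerSeries k)) ≤ P := by
    intro x hx
    rw [RingHom.mem_ker] at hx
    have : x = 0 := Subtype.ext hx
    rw [this]; exact P.zero_mem
  obtain ⟨Q, hQ, hQP⟩ := Ideal.exists_ideal_over_maximal_of_isIntegral (S := PowerSeries k) P hker
  have hmem : (a : PowerSeries k) ∈ Q := by
    have : a ∈ Q.comap (algebraMap ↥A (PowerSeries k)) := by rw [hQP]; exact haP
    exact this
  exact hQ.ne_top (Ideal.eq_top_of_isUnit_mem Q hmem ha)

theorem linearIndependent_X_pow (r : ℕ) :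
    LinearIndependent k (fun i : Fin r => (X : PowerSeries k) ^ (i : ℕ)) := by
  classical
  rw [Fintype.linearIndependent_iff]
  intro g hg j
  have := congrArg (PowerSeries.coeff (j : ℕ)) hg
  rw [map_sum, map_zero] at this
  have h2 : ∀ i : Fin r, PowerSeries.coeff (j : ℕ) (g i • (X : PowerSeries k) ^ (i : ℕ)) =
      if i = j then g j else 0 := by
    intro i
    rw [map_smul, PowerSeries.coeff_X_pow, smul_eq_mul]
    by_cases hij : i = j
    · rw [if_pos hij, if_pos (by rw [hij]), mul_one, hij]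
    · rw [if_neg hij, if_neg (fun h => hij (Fin.ext h.symm)), mul_zero]
  simp_rw [h2] at this
  rw [Finset.sum_ite_eq' Finset.univ j (fun _ => g j), if_pos (Finset.mem_univ j)] at this
  exact this

/-- `A` contains a nonzero element with zero constant term. -/
theorem exists_nonconstant (hA : Module.Finite ↥A (PowerSeries k)) :
    ∃ s : ↥A, (s : PowerSeries k) ≠ 0 ∧ constantCoeff (s : PowerSeries k) = 0 := by
  classical
  by_contra hcon
  push Not at hcon
  have hconst : ∀ a : ↥A, (a : PowerSeries k) = algebraMap k (PowerSeries k)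
      (constantCoeff (a : PowerSeries k)) := by
    intro a
    by_contra hne
    let s : ↥A := a - algebraMap k ↥A (constantCoeff (a : PowerSeries k))
    have hs : (s : PowerSeries k) = (a : PowerSeries k) -
        algebraMap k (PowerSeries k) (constantCoeff (a : PowerSeries k)) := rfl
    have h1 : (s : PowerSeries k) ≠ 0 := by
      rw [hs]; exact sub_ne_zero.mpr hne
    apply hcon s h1
    rw [hs, map_sub, PowerSeries.algebraMap_apply, PowerSeries.constantCoeff_C]
    simp
  obtain ⟨G, hG⟩ := Module.finite_def.mp hA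
  have hspan : Submodule.span k (G : Set (PowerSeries k)) = ⊤ := by
    rw [eq_top_iff]
    rintro x -
    have hx : x ∈ Submodule.span ↥A (G : Set (PowerSeries k)) := by rw [hG]; trivial
    induction hx using Submodule.span_induction with
    | mem y hy => exact Submodule.subset_span hy
    | zero => exact Submodule.zero_mem _
    | add y z _ _ hy hz => exact Submodule.add_mem _ hy hz
    | smul a y _ hy =>
      have : a • y = (constantCoeff (a : PowerSeries k)) • y := by
        show (a : PowerSeries k) * y = _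
        rw [hconst a, ← Algebra.smul_def, ← hconst a]
      rw [this]
      exact Submodule.smul_mem _ _ hy
  haveI : Module.Finite k (PowerSeries k) := ⟨⟨G, hspan⟩⟩
  have := (linearIndependent_X_pow (k := k) (Module.finrank k (PowerSeries k) + 1)).fintype_card_le_finrank
  rw [Fintype.card_fin] at this
  omega

variable {A}

/-- successive approximation by elements of `N` -/
theorem approx (N : Submodule ↥A (PowerSeries k)) (c' : ℕ)
    (hN : ∀ n : ℕ, c' ≤ n → ∃ h ∈ N, order h = n) (f : PowerSeries k)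
    (hf : (c' : ℕ∞) ≤ order f) (j : ℕ) :
    ∃ g ∈ N, ((c' + j : ℕ) : ℕ∞) ≤ order (f - g) := by
  induction j with
  | zero => exact ⟨0, N.zero_mem, by rwa [sub_zero, Nat.add_zero]⟩
  | succ j ih =>
    obtain ⟨g, hgN, hg⟩ := ih
    obtain ⟨h, hhN, hh⟩ := hN (c' + j) (Nat.le_add_right _ _)
    obtain ⟨hc, hlt⟩ := order_eq_nat.mp hh
    obtain ⟨l, hl⟩ : ∃ l : k, l = coeff (c' + j) (f - g) / coeff (c' + j) h := ⟨_, rfl⟩
    have hlh : l • h ∈ N := by
      rw [← algebraMap_smul ↥A l h]
      exact N.smul_mem _ hhN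
    refine ⟨g + l • h, N.add_mem hgN hlh, ?_⟩
    apply nat_le_order
    intro i hi
    have hsub : f - (g + l • h) = (f - g) - l • h := by abel
    rw [hsub, map_sub, map_smul, smul_eq_mul]
    rcases Nat.lt_succ_iff_lt_or_eq.mp hi with hi' | hi'
    · rw [coeff_of_lt_order i (lt_of_lt_of_le (by exact_mod_cast hi') hg), hlt i hi', mul_zero,
        sub_zero]
    · have hi'' : i = c' + j := hi'
      have key : coeff (c' + j) (f - g) - l * coeff (c' + j) h = 0 := by
        rw [hl, div_mul_cancel₀ _ hc, sub_self]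
      rw [hi'']
      exact key

theorem main (A : Subalgebra k (PowerSeries k)) (hA : Module.Finite ↥A (PowerSeries k))
    (M N : Submodule ↥A (PowerSeries k)) (hM1 : (1 : PowerSeries k) ∈ M)
    (ΓM ΓN : Set ℕ) (hΓM : ∀ n : ℕ, n ∈ ΓM ↔ ∃ f ∈ M, PowerSeries.order f = n)
    (hΓN : ∀ n : ℕ, n ∈ ΓN ↔ ∃ f ∈ N, PowerSeries.order f = n) :
    (∀ n : ℕ, (∃ u : PowerSeries k, PowerSeries.order u = n ∧ ∀ m ∈ M, u * m ∈ N) →
        ∀ a ∈ ΓM, n + a ∈ ΓN) ∧
      ∀ c' : ℕ, (∀ n : ℕ, c' ≤ n → ∃ u : PowerSeries k, PowerSeries.order u = n ∧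
          ∀ m ∈ M, u * m ∈ N) ↔ (∀ n : ℕ, c' ≤ n → ∀ a ∈ ΓM, n + a ∈ ΓN) := by
  have part1 : ∀ n : ℕ, (∃ u : PowerSeries k, PowerSeries.order u = n ∧ ∀ m ∈ M, u * m ∈ N) →
      ∀ a ∈ ΓM, n + a ∈ ΓN := by
    rintro n ⟨u, hu, huM⟩ a ha
    obtain ⟨f, hfM, hf⟩ := (hΓM a).mp ha
    rw [hΓN]
    refine ⟨u * f, huM f hfM, ?_⟩
    rw [PowerSeries.order_mul, hu, hf]
    norm_cast
  refine ⟨part1, fun c' => ⟨fun h n hn => part1 n (h n hn), fun h => ?_⟩⟩
  -- N has elements of all orders ≥ c'
  have h0M : (0 : ℕ) ∈ ΓM := (hΓM 0).mpr ⟨1, hM1, by simp⟩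
  have hN : ∀ n : ℕ, c' ≤ n → ∃ g ∈ N, order g = n := by
    intro n hn
    have := h n hn 0 h0M
    rw [Nat.add_zero] at this
    exact (hΓN n).mp this
  haveI := hA
  haveI : Algebra.IsIntegral ↥A (PowerSeries k) := Algebra.IsIntegral.of_finite _ _
  obtain ⟨s, hs0, hsc⟩ := exists_nonconstant A hA
  obtain ⟨e, he⟩ : ∃ e : ℕ, order (s : PowerSeries k) = e := by
    have hfin : order (s : PowerSeries k) < ⊤ := (PowerSeries.order_finite_iff_ne_zero).mpr hs0
    exact ⟨(order (s : PowerSeries k)).toNat, (ENat.coe_toNat hfin.ne).symm⟩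
  obtain ⟨u, hu, hsu⟩ := exists_unit_of_order (s : PowerSeries k) e he
  -- s lies in the Jacobson radical of A
  have hjac : Ideal.span {s} ≤ Ideal.jacobson (⊥ : Ideal ↥A) := by
    rw [Ideal.span_le, Set.singleton_subset_iff, SetLike.mem_coe, Ideal.mem_jacobson_bot]
    intro y
    apply isUnit_of_isUnit_coe
    rw [PowerSeries.isUnit_iff_constantCoeff]
    have : constantCoeff ((s * y + 1 : ↥A) : PowerSeries k) = 1 := by
      show constantCoeff ((s : PowerSeries k) * (y : PowerSeries k) + 1) = 1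
      rw [map_add, map_mul, hsc, zero_mul, zero_add, map_one]
    rw [this]
    exact isUnit_one
  -- W = X^c' k[[t]]
  let W : Submodule ↥A (PowerSeries k) :=
    (⊤ : Submodule ↥A (PowerSeries k)).map (LinearMap.mulLeft ↥A ((X : PowerSeries k) ^ c'))
  have hWmem : ∀ f : PowerSeries k, f ∈ W ↔ (c' : ℕ∞) ≤ order f := by
    intro f
    rw [le_order_iff_dvd]
    constructor
    · rintro ⟨g, -, rfl⟩
      exact ⟨g, rfl⟩
    · rintro ⟨g, rfl⟩
      exact ⟨g, trivial, rfl⟩
  have hWfg : W.FG := Submodule.FG.map _ (Module.finite_def.mp hA)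
  have hWN : W ≤ N := by
    apply Submodule.le_of_le_smul_of_le_jacobson_bot hWfg hjac
    intro f hf
    obtain ⟨g, hgN, hg⟩ := approx N c' hN f ((hWmem f).mp hf) e
    obtain ⟨d1, hd1⟩ := (le_order_iff_dvd (c' + e) (f - g)).mp hg
    obtain ⟨v, hv⟩ := hu.exists_left_inv
    -- f - g = s * w with w ∈ W
    let w : PowerSeries k := v * (X ^ c' * d1)
    have hwW : w ∈ W := by
      rw [hWmem, le_order_iff_dvd]
      exact Dvd.dvd.mul_left (Dvd.intro _ rfl) v
    have hsw : f - g = (s : PowerSeries k) * w := by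
      have hvu : u * v = 1 := by rw [mul_comm]; exact hv
      calc f - g = X ^ (c' + e) * d1 := hd1
        _ = (X ^ e * (u * v)) * (X ^ c' * d1) := by rw [hvu, pow_add]; ring
        _ = (s : PowerSeries k) * w := by rw [hsu]; ring
    have hmem : (s : PowerSeries k) * w ∈ Ideal.span {s} • W :=
      Submodule.smul_mem_smul (Ideal.mem_span_singleton_self s) hwW
    have hf' : f = g + (s : PowerSeries k) * w := by rw [← hsw]; abel
    rw [hf']
    exact Submodule.add_mem_sup hgN hmem
  intro n hn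
  refine ⟨X ^ n, PowerSeries.order_X_pow n, fun m _ => hWN ?_⟩
  rw [hWmem, le_order_iff_dvd]
  exact Dvd.dvd.mul_right (pow_dvd_pow X hn) m

end Groth.Agent.Lib.R2H7.ValueSetMult
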