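import Mathlib
import Groth.Prelude.Def_SpSeq
import Groth.Agent.Lib.Helper10SpSeq
import Groth.Agent.Lib.R2H3SpSeqConv
import Groth.Agent.Lib.Helper27SubobjAb

/-!
# Weak Serre classes and subquotients of subobjects (helper7, round 2)

* closure properties of a class `P` of objects satisfying the "five term" weak Serre condition;
* the short exact sequence `0 → M/B → Z/B → Z/M → 0` for subobjects `B ≤ M ≤ Z`;
* an isomorphism criterion `S/N ≅ T/T'` induced by a map, and a Zassenhaus-type isomorphism;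
* `H^n(K) ≅ Ker d / Im d` with `Ker d`, `Im d` as subobjects.
-/

set_option autoImplicit false
universe v u
open CategoryTheory CategoryTheory.Limits ZeroObject

namespace Groth.Agent.Lib.R2H7.WSerre

variable {A : Type u} [Category.{v} A] [Abelian A]

open Groth.Agent.Lib.R2H3.SpSeqConv (image_factors_iff le_of_refinement)
open Groth.Agent.Lib.Helper27.SubobjAb (exists_of_sup_factors exists_lift_ofLE nonempty_second_iso)

/-- The "five term" weak Serre condition. -/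
def Five (P : ObjectProperty A) : Prop :=
  ∀ S : ComposableArrows A 4, S.Exact → P (S.obj 0) → P (S.obj 1) → P (S.obj 3) → P (S.obj 4) →
    P (S.obj 2)

section WS

variable (P : ObjectProperty A) [P.IsClosedUnderIsomorphisms]

lemma prop_of_isZero (h0 : ∃ Z : A, IsZero Z ∧ P Z) {X : A} (hX : IsZero X) : P X := by
  obtain ⟨Z, hZ, hPZ⟩ := h0
  exact P.prop_of_iso (hZ.iso hX) hPZ

omit [P.IsClosedUnderIsomorphisms] in
lemma prop_mid (hP : Five P) {X0 X1 X2 X3 X4 : A} (f0 : X0 ⟶ X1) (f1 : X1 ⟶ X2) (f2 : X2 ⟶ X3)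
    (f3 : X3 ⟶ X4) (w1 : f0 ≫ f1 = 0) (w2 : f1 ≫ f2 = 0) (w3 : f2 ≫ f3 = 0)
    (e1 : (ShortComplex.mk f0 f1 w1).Exact) (e2 : (ShortComplex.mk f1 f2 w2).Exact)
    (e3 : (ShortComplex.mk f2 f3 w3).Exact) (h0 : P X0) (h1 : P X1) (h3 : P X3) (h4 : P X4) :
    P X2 := by
  have hS : (ComposableArrows.mk₄ f0 f1 f2 f3).Exact :=
    ComposableArrows.exact_of_δ₀ e1.exact_toComposableArrows
      (ComposableArrows.exact_of_δ₀ e2.exact_toComposableArrows e3.exact_toComposableArrows)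
  exact hP _ hS h0 h1 h3 h4

variable (hP : Five P) (h0 : ∃ Z : A, IsZero Z ∧ P Z)

include hP h0 in
lemma prop_of_mono_exact {K X Y : A} (i : K ⟶ X) (f : X ⟶ Y) [Mono i] (w : i ≫ f = 0)
    (e : (ShortComplex.mk i f w).Exact) (hX : P X) (hY : P Y) : P K := by
  have hz : IsZero (0 : A) := isZero_zero A
  refine prop_mid P hP (0 : (0 : A) ⟶ 0) (0 : (0 : A) ⟶ K) i f (by simp) (by simp) w ?_ ?_ e
    (prop_of_isZero P h0 hz) (prop_of_isZero P h0 hz) hX hY
  · exact ShortComplex.exact_of_isZero_X₂ _ hz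
  · exact (ShortComplex.exact_iff_mono _ rfl).2 ‹_›

include hP h0 in
lemma prop_of_epi_exact {X Y C : A} (f : X ⟶ Y) (π : Y ⟶ C) [Epi π] (w : f ≫ π = 0)
    (e : (ShortComplex.mk f π w).Exact) (hX : P X) (hY : P Y) : P C := by
  have hz : IsZero (0 : A) := isZero_zero A
  refine prop_mid P hP f π (0 : C ⟶ (0 : A)) (0 : (0 : A) ⟶ 0) w (by simp) (by simp) e ?_ ?_
    hX hY (prop_of_isZero P h0 hz) (prop_of_isZero P h0 hz)
  · exact (ShortComplex.exact_iff_epi _ rfl).2 ‹_›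
  · exact ShortComplex.exact_of_isZero_X₂ _ hz

include hP h0 in
lemma prop_of_shortExact {S : ShortComplex A} (hS : S.ShortExact) (h1 : P S.X₁) (h3 : P S.X₃) :
    P S.X₂ := by
  have hz : IsZero (0 : A) := isZero_zero A
  haveI := hS.mono_f
  haveI := hS.epi_g
  refine prop_mid P hP (0 : (0 : A) ⟶ S.X₁) S.f S.g (0 : S.X₃ ⟶ (0 : A)) (by simp) S.zero (by simp)
    ?_ hS.exact ?_ (prop_of_isZero P h0 hz) h1 h3 (prop_of_isZero P h0 hz)
  · exact (ShortComplex.exact_iff_mono _ rfl).2 ‹_›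
  · exact (ShortComplex.exact_iff_epi _ rfl).2 ‹_›

include hP h0 in
lemma prop_of_epi_mono {X Q Y : A} (e : X ⟶ Q) (m : Q ⟶ Y) [Epi e] [Mono m] (hX : P X)
    (hY : P Y) : P Q := by
  have ex1 : (ShortComplex.mk m (cokernel.π m) (cokernel.condition m)).Exact :=
    ShortComplex.exact_of_g_is_cokernel _ (cokernelIsCokernel m)
  have w2 : (e ≫ m) ≫ cokernel.π m = 0 := by simp
  have ex2 : (ShortComplex.mk (e ≫ m) (cokernel.π m) w2).Exact := by
    rw [ShortComplex.exact_iff_exact_up_to_refinements]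
    intro W x₂ hx₂
    obtain ⟨W₁, π₁, hπ₁, x₁, hx₁⟩ := ex1.exact_up_to_refinements x₂ hx₂
    obtain ⟨W₂, π₂, hπ₂, x₀, hx₀⟩ := surjective_up_to_refinements_of_epi e x₁
    refine ⟨W₂, π₂ ≫ π₁, epi_comp _ _, x₀, ?_⟩
    dsimp at hx₁ ⊢
    rw [Category.assoc, hx₁, ← Category.assoc, hx₀, Category.assoc]
  have hC : P (cokernel m) := prop_of_epi_exact P hP h0 (e ≫ m) (cokernel.π m) w2 ex2 hX hY
  exact prop_of_mono_exact P hP h0 m (cokernel.π m) _ ex1 hY hC

end WS

/-! ### chains of subobjects -/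

section Chain

variable {X : A} {B M Z : Subobject X} (hBM : B ≤ M) (hMZ : M ≤ Z)

/-- `M/B ⟶ Z/B` -/
noncomputable def chainI : cokernel (B.ofLE M hBM) ⟶ cokernel (B.ofLE Z (hBM.trans hMZ)) :=
  cokernel.desc _ (M.ofLE Z hMZ ≫ cokernel.π _)
    (by rw [← Category.assoc, Subobject.ofLE_comp_ofLE, cokernel.condition])

/-- `Z/B ⟶ Z/M` -/
noncomputable def chainQ : cokernel (B.ofLE Z (hBM.trans hMZ)) ⟶ cokernel (M.ofLE Z hMZ) :=
  cokernel.desc _ (cokernel.π _)
    (by rw [← Subobject.ofLE_comp_ofLE B M Z hBM hMZ, Category.assoc, cokernel.condition,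
      comp_zero])

@[reassoc (attr := simp)]
lemma π_chainI : cokernel.π _ ≫ chainI hBM hMZ = M.ofLE Z hMZ ≫ cokernel.π _ :=
  cokernel.π_desc _ _ _

@[reassoc (attr := simp)]
lemma π_chainQ : cokernel.π _ ≫ chainQ hBM hMZ = cokernel.π _ :=
  cokernel.π_desc _ _ _

lemma chainI_chainQ : chainI hBM hMZ ≫ chainQ hBM hMZ = 0 := by
  apply coequalizer.hom_ext
  rw [π_chainI_assoc, π_chainQ, cokernel.condition, comp_zero]

instance : Epi (chainQ hBM hMZ) := epi_of_epi_fac (π_chainQ hBM hMZ)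

instance : Mono (chainI hBM hMZ) := by
  apply Preadditive.mono_of_cancel_zero
  intro W z hz
  obtain ⟨W₁, π₁, hπ₁, m, hm⟩ :=
    surjective_up_to_refinements_of_epi (cokernel.π (B.ofLE M hBM)) z
  have h1 : (m ≫ M.ofLE Z hMZ) ≫ cokernel.π (B.ofLE Z (hBM.trans hMZ)) = 0 := by
    rw [Category.assoc, ← π_chainI hBM hMZ, ← Category.assoc, ← hm, Category.assoc, hz, comp_zero]
  obtain ⟨t, ht⟩ := exists_lift_ofLE (hBM.trans hMZ) (m ≫ M.ofLE Z hMZ) h1
  have h2 : m = t ≫ B.ofLE M hBM := by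
    rw [← cancel_mono (M.ofLE Z hMZ), Category.assoc, Subobject.ofLE_comp_ofLE, ht]
  have h3 : π₁ ≫ z = 0 := by rw [hm, h2, Category.assoc, cokernel.condition, comp_zero]
  exact (cancel_epi π₁).1 (by rw [h3, comp_zero])

lemma chain_exact :
    (ShortComplex.mk (chainI hBM hMZ) (chainQ hBM hMZ) (chainI_chainQ hBM hMZ)).Exact := by
  rw [ShortComplex.exact_iff_exact_up_to_refinements]
  intro W x₂ hx₂
  dsimp at x₂ hx₂ ⊢
  obtain ⟨W₁, π₁, hπ₁, z, hz⟩ :=
    surjective_up_to_refinements_of_epi (cokernel.π (B.ofLE Z (hBM.trans hMZ))) x₂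
  have h1 : z ≫ cokernel.π (M.ofLE Z hMZ) = 0 := by
    rw [← π_chainQ hBM hMZ, ← Category.assoc, ← hz, Category.assoc, hx₂, comp_zero]
  obtain ⟨m, hm⟩ := exists_lift_ofLE hMZ z h1
  refine ⟨W₁, π₁, hπ₁, m ≫ cokernel.π _, ?_⟩
  rw [Category.assoc, π_chainI, ← Category.assoc, hm, hz]

lemma chain_shortExact :
    (ShortComplex.mk (chainI hBM hMZ) (chainQ hBM hMZ) (chainI_chainQ hBM hMZ)).ShortExact :=
  ShortComplex.ShortExact.mk' (chain_exact hBM hMZ) (by dsimp; infer_instance)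
    (by dsimp; infer_instance)

variable (P : ObjectProperty A) [P.IsClosedUnderIsomorphisms]
  (hP : Five P) (h0 : ∃ Z : A, IsZero Z ∧ P Z)

include hP h0 in
lemma prop_chain_ext (h1 : P (cokernel (B.ofLE M hBM))) (h3 : P (cokernel (M.ofLE Z hMZ))) :
    P (cokernel (B.ofLE Z (hBM.trans hMZ))) :=
  prop_of_shortExact P hP h0 (chain_shortExact hBM hMZ) h1 h3

include hP h0 in
lemma prop_chain_ker (h2 : P (cokernel (B.ofLE Z (hBM.trans hMZ))))
    (h3 : P (cokernel (M.ofLE Z hMZ))) : P (cokernel (B.ofLE M hBM)) :=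
  prop_of_mono_exact P hP h0 (chainI hBM hMZ) (chainQ hBM hMZ) (chainI_chainQ hBM hMZ)
    (chain_exact hBM hMZ) h2 h3

include hP h0 in
lemma prop_chain_coker (h1 : P (cokernel (B.ofLE M hBM)))
    (h2 : P (cokernel (B.ofLE Z (hBM.trans hMZ)))) : P (cokernel (M.ofLE Z hMZ)) :=
  prop_of_epi_exact P hP h0 (chainI hBM hMZ) (chainQ hBM hMZ) (chainI_chainQ hBM hMZ)
    (chain_exact hBM hMZ) h1 h2

omit [P.IsClosedUnderIsomorphisms] in
lemma prop_subquot_of_eq {Z' B' : Subobject X} (hZ : Z = Z') (hB : B = B') (h : B ≤ Z)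
    (h' : B' ≤ Z') : P (cokernel (B.ofLE Z h)) → P (cokernel (B'.ofLE Z' h')) := by
  subst hZ hB
  exact id

end Chain

/-! ### isomorphisms of subquotients -/

lemma nonempty_iso_second {X : A} {S N S₀ N₀ : Subobject X} (h : N ≤ S) (h₀ : N₀ ≤ S₀)
    (hS : S = N ⊔ S₀) (hN : N₀ = N ⊓ S₀) :
    Nonempty (cokernel (N.ofLE S h) ≅ cokernel (N₀.ofLE S₀ h₀)) := by
  subst hS hN
  exact nonempty_second_iso N S₀

lemma factors_neg {X W : A} {S : Subobject X} (x : W ⟶ X) (hx : S.Factors x) : S.Factors (-x) := by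
  have : -x = (-(S.factorThru x hx)) ≫ S.arrow := by
    rw [Preadditive.neg_comp, Subobject.factorThru_arrow]
  rw [this]
  exact Subobject.factors_comp_arrow _

lemma factors_sub {X W : A} {S : Subobject X} (x y : W ⟶ X) (hx : S.Factors x)
    (hy : S.Factors y) : S.Factors (x - y) := by
  rw [sub_eq_add_neg]
  exact Subobject.factors_add _ _ hx (factors_neg y hy)

/-- isomorphism of subquotients induced by a morphism -/
theorem nonempty_iso_of_map {X Y : A} (f : X ⟶ Y) {S N : Subobject X} {T T' : Subobject Y}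
    (hNS : N ≤ S) (hT : T' ≤ T)
    (h1 : T.Factors (S.arrow ≫ f)) (h2 : T'.Factors (N.arrow ≫ f))
    (h3 : ∀ {W : A} (y : W ⟶ Y), T.Factors y → ∃ (W' : A) (π : W' ⟶ W) (_ : Epi π) (x : W' ⟶ X),
      S.Factors x ∧ T'.Factors (π ≫ y - x ≫ f))
    (h4 : ∀ {W : A} (x : W ⟶ X), S.Factors x → T'.Factors (x ≫ f) → N.Factors x) :
    Nonempty (cokernel (N.ofLE S hNS) ≅ cokernel (T'.ofLE T hT)) := by
  obtain ⟨g, hg⟩ : ∃ g : (S : A) ⟶ (T : A), g ≫ T.arrow = S.arrow ≫ f :=
    ⟨_, T.factorThru_arrow _ h1⟩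
  obtain ⟨t, ht⟩ : ∃ t : (N : A) ⟶ (T' : A), t ≫ T'.arrow = N.arrow ≫ f :=
    ⟨_, T'.factorThru_arrow _ h2⟩
  have hcomm : N.ofLE S hNS ≫ g = t ≫ T'.ofLE T hT := by
    apply (cancel_mono T.arrow).1
    rw [Category.assoc, Category.assoc, hg, Subobject.ofLE_arrow, ht, ← Category.assoc,
      Subobject.ofLE_arrow]
  have hw : N.ofLE S hNS ≫ g ≫ cokernel.π (T'.ofLE T hT) = 0 := by
    rw [← Category.assoc, hcomm, Category.assoc, cokernel.condition, comp_zero]
  obtain ⟨φ, hφ⟩ : ∃ φ : cokernel (N.ofLE S hNS) ⟶ cokernel (T'.ofLE T hT),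
      cokernel.π _ ≫ φ = g ≫ cokernel.π _ := ⟨cokernel.desc _ _ hw, cokernel.π_desc _ _ _⟩
  haveI : Epi φ := by
    haveI : Epi (g ≫ cokernel.π (T'.ofLE T hT)) := by
      rw [epi_iff_surjective_up_to_refinements]
      intro W y
      obtain ⟨W₁, π₁, hπ₁, y₁, hy₁⟩ :=
        surjective_up_to_refinements_of_epi (cokernel.π (T'.ofLE T hT)) y
      obtain ⟨W₂, π₂, hπ₂, x, hxS, hxT⟩ := h3 (y₁ ≫ T.arrow) (Subobject.factors_comp_arrow _)
      obtain ⟨s, hs⟩ : ∃ s : W₂ ⟶ (S : A), s ≫ S.arrow = x := ⟨_, S.factorThru_arrow _ hxS⟩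
      obtain ⟨t', ht'⟩ : ∃ t' : W₂ ⟶ (T' : A), t' ≫ T'.ofLE T hT = π₂ ≫ y₁ - s ≫ g := by
        refine ⟨T'.factorThru _ hxT, ?_⟩
        apply (cancel_mono T.arrow).1
        rw [Category.assoc, Subobject.ofLE_arrow, Subobject.factorThru_arrow, Preadditive.sub_comp,
          Category.assoc, Category.assoc, hg, ← Category.assoc s, hs]
      refine ⟨W₂, π₂ ≫ π₁, epi_comp _ _, s, ?_⟩
      have h5 : (π₂ ≫ y₁ - s ≫ g) ≫ cokernel.π (T'.ofLE T hT) = 0 := by
        rw [← ht', Category.assoc, cokernel.condition, comp_zero]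
      rw [Preadditive.sub_comp, sub_eq_zero] at h5
      rw [Category.assoc, hy₁, ← Category.assoc, h5, Category.assoc]
    exact epi_of_epi_fac hφ
  haveI : Mono φ := by
    apply Preadditive.mono_of_cancel_zero
    intro W z hz
    obtain ⟨W₁, π₁, hπ₁, s, hs⟩ :=
      surjective_up_to_refinements_of_epi (cokernel.π (N.ofLE S hNS)) z
    have h5 : (s ≫ g) ≫ cokernel.π (T'.ofLE T hT) = 0 := by
      rw [Category.assoc, ← hφ, ← Category.assoc, ← hs, Category.assoc, hz, comp_zero]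
    obtain ⟨t', ht'⟩ := exists_lift_ofLE hT (s ≫ g) h5
    have h6 : T'.Factors ((s ≫ S.arrow) ≫ f) := by
      have : (s ≫ S.arrow) ≫ f = t' ≫ T'.arrow := by
        rw [Category.assoc, ← hg, ← Category.assoc, ← ht', Category.assoc, Subobject.ofLE_arrow]
      rw [this]
      exact Subobject.factors_comp_arrow _
    have h7 : N.Factors (s ≫ S.arrow) := h4 _ (Subobject.factors_comp_arrow _) h6
    have h8 : s = N.factorThru _ h7 ≫ N.ofLE S hNS := by
      apply (cancel_mono S.arrow).1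
      rw [Category.assoc, Subobject.ofLE_arrow, Subobject.factorThru_arrow]
    have h9 : π₁ ≫ z = 0 := by rw [hs, h8, Category.assoc, cokernel.condition, comp_zero]
    exact (cancel_epi π₁).1 (by rw [h9, comp_zero])
  haveI : IsIso φ := isIso_of_mono_of_epi φ
  exact ⟨asIso φ⟩

lemma image_factors_of_factors {X Y W : A} (f : X ⟶ Y) (F : Subobject X) (x : W ⟶ X)
    (hx : F.Factors x) : (imageSubobject (F.arrow ≫ f)).Factors (x ≫ f) := by
  rw [image_factors_iff]
  refine ⟨W, 𝟙 _, inferInstance, F.factorThru x hx, ?_⟩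
  rw [Category.id_comp, ← Category.assoc, Subobject.factorThru_arrow]

lemma exists_of_image_factors {X Y W : A} (f : X ⟶ Y) (F : Subobject X) (y : W ⟶ Y)
    (hy : (imageSubobject (F.arrow ≫ f)).Factors y) :
    ∃ (W' : A) (π : W' ⟶ W) (_ : Epi π) (x : W' ⟶ X), F.Factors x ∧ π ≫ y = x ≫ f := by
  rw [image_factors_iff] at hy
  obtain ⟨W', π, hπ, u, hu⟩ := hy
  exact ⟨W', π, hπ, u ≫ F.arrow, Subobject.factors_comp_arrow _, by rw [hu, Category.assoc]⟩

lemma image_le_image {X Y : A} (f : X ⟶ Y) {F1 F0 : Subobject X} (hF : F1 ≤ F0) :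
    imageSubobject (F1.arrow ≫ f) ≤ imageSubobject (F0.arrow ≫ f) :=
  SpSeq.FilCx.imageSubobject_le_of_fac (F1.ofLE F0 hF)
    (by rw [← Category.assoc, Subobject.ofLE_arrow])

/-- Zassenhaus-type isomorphism: `f` induces
`(F0 ∩ f⁻¹G0)/((F0 ∩ f⁻¹G1) + (F1 ∩ f⁻¹G0)) ≅ (G0 ∩ fF0)/((G0 ∩ fF1) + (G1 ∩ fF0))`. -/
theorem nonempty_iso_zass {X Y : A} (f : X ⟶ Y) (F0 F1 : Subobject X) (G0 G1 : Subobject Y)
    (hF : F1 ≤ F0)
    (hN : (F0 ⊓ (Subobject.pullback f).obj G1) ⊔ (F1 ⊓ (Subobject.pullback f).obj G0) ≤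
      F0 ⊓ (Subobject.pullback f).obj G0)
    (hT : (G0 ⊓ imageSubobject (F1.arrow ≫ f)) ⊔ (G1 ⊓ imageSubobject (F0.arrow ≫ f)) ≤
      G0 ⊓ imageSubobject (F0.arrow ≫ f)) :
    Nonempty (cokernel (Subobject.ofLE _ _ hN) ≅ cokernel (Subobject.ofLE _ _ hT)) := by
  refine nonempty_iso_of_map f hN hT ?_ ?_ ?_ ?_
  · -- h1
    rw [Subobject.inf_factors]
    refine ⟨(Limits.pullback_factors_iff f G0 _).1 (Subobject.inf_arrow_factors_right _ _), ?_⟩
    exact image_factors_of_factors f F0 _ (Subobject.inf_arrow_factors_left _ _)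
  · -- h2
    obtain ⟨W₁, π₁, hπ₁, b, c, hb, hc, hbc⟩ := exists_of_sup_factors _ _ _
      (Subobject.factors_self ((F0 ⊓ (Subobject.pullback f).obj G1) ⊔
        (F1 ⊓ (Subobject.pullback f).obj G0)))
    rw [Subobject.inf_factors] at hb hc
    apply Groth.Agent.Lib.R2H3.SpSeqConv.factors_of_epi_comp _ _ π₁
    rw [← Category.assoc, hbc, Preadditive.add_comp, add_comm]
    apply Subobject.factors_add
    · apply Subobject.sup_factors_of_factors_left
      rw [Subobject.inf_factors]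
      exact ⟨(Limits.pullback_factors_iff f G0 _).1 hc.2, image_factors_of_factors f F1 _ hc.1⟩
    · apply Subobject.sup_factors_of_factors_right
      rw [Subobject.inf_factors]
      exact ⟨(Limits.pullback_factors_iff f G1 _).1 hb.2, image_factors_of_factors f F0 _ hb.1⟩
  · -- h3
    intro W y hy
    rw [Subobject.inf_factors] at hy
    obtain ⟨W', π, hπ, x, hx, hxy⟩ := exists_of_image_factors f F0 y hy.2
    refine ⟨W', π, hπ, x, ?_, ?_⟩
    · rw [Subobject.inf_factors]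
      refine ⟨hx, (Limits.pullback_factors_iff f G0 _).2 ?_⟩
      rw [← hxy]
      exact Subobject.factors_of_factors_right _ hy.1
    · rw [hxy, sub_self]
      exact Subobject.factors_zero
  · -- h4
    intro W x hx hfx
    rw [Subobject.inf_factors] at hx
    obtain ⟨W₁, π₁, hπ₁, b, c, hb, hc, hbc⟩ := exists_of_sup_factors _ _ _ hfx
    rw [Subobject.inf_factors] at hb hc
    obtain ⟨W₂, π₂, hπ₂, x₁, hx₁, hxb⟩ := exists_of_image_factors f F1 b hb.2
    apply Groth.Agent.Lib.R2H3.SpSeqConv.factors_of_epi_comp _ _ (π₂ ≫ π₁)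
    have hdec : (π₂ ≫ π₁) ≫ x = ((π₂ ≫ π₁) ≫ x - x₁) + x₁ := by abel
    rw [hdec]
    apply Subobject.factors_add
    · apply Subobject.sup_factors_of_factors_left
      rw [Subobject.inf_factors]
      refine ⟨factors_sub _ _ (Subobject.factors_of_factors_right _ hx.1)
        (Subobject.factors_of_le _ hF hx₁), (Limits.pullback_factors_iff f G1 _).2 ?_⟩
      have : ((π₂ ≫ π₁) ≫ x - x₁) ≫ f = π₂ ≫ c := by
        rw [Preadditive.sub_comp, Category.assoc, Category.assoc, hbc, ← hxb,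
          Preadditive.comp_add, add_sub_cancel_left]
      rw [this]
      exact Subobject.factors_of_factors_right _ hc.1
    · apply Subobject.sup_factors_of_factors_right
      rw [Subobject.inf_factors]
      refine ⟨hx₁, (Limits.pullback_factors_iff f G0 _).2 ?_⟩
      rw [← hxb]
      exact Subobject.factors_of_factors_right _ hb.1

/-! ### homology as a subquotient -/

lemma nonempty_cokernel_lift_iso {X Y Z : A} (f : X ⟶ Y) (g : Y ⟶ Z) (w : f ≫ g = 0) :
    Nonempty (cokernel (kernel.lift g f w) ≅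
      cokernel ((imageSubobject f).ofLE (kernelSubobject g) (image_le_kernel f g w))) := by
  have h1 : kernel.lift g f w =
      (factorThruImageSubobject f ≫ imageToKernel f g w) ≫ (kernelSubobjectIso g).hom := by
    rw [factorThruImageSubobject_comp_imageToKernel,
      factorThruKernelSubobject_comp_kernelSubobjectIso]
  rw [subobject_ofLE_as_imageToKernel f g w]
  exact ⟨cokernelIsoOfEq h1 ≪≫ cokernelCompIsIso _ _ ≪≫ cokernelEpiComp _ _⟩

lemma nonempty_homology_iso (K : CochainComplex A ℤ) (n : ℤ) :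
    Nonempty (K.homology n ≅
      cokernel ((imageSubobject (K.d (n - 1) n)).ofLE (kernelSubobject (K.d n (n + 1)))
        (image_le_kernel _ _ (K.d_comp_d _ _ _)))) := by
  obtain ⟨e3⟩ := nonempty_cokernel_lift_iso (K.d (n - 1) n) (K.d n (n + 1)) (K.d_comp_d _ _ _)
  exact ⟨K.homologyIsoSc' (n - 1) n (n + 1) (by simp) (by simp) ≪≫
    (K.sc' (n - 1) n (n + 1)).homologyIsoCokernelLift ≪≫ e3⟩

end Groth.Agent.Lib.R2H7.WSerre
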