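import Groth.Agent.Lib.R2H7WSerreA

/-!
# Weak Serre classes and the spectral sequence of a filtered complex (helper7, round 2)

If all terms of page `r` of the spectral sequence of a filtered complex (degreewise finite
filtration) lie in a weak Serre class `P`, then so do the cohomology objects.
-/

set_option autoImplicit false
universe v u
open CategoryTheory CategoryTheory.Limits SpSeq

namespace Groth.Agent.Lib.R2H7.WSerre

variable {A : Type u} [Category.{v} A] [Abelian A]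

open Groth.Agent.Lib.Helper10.SpSeqLib (filX_eq_top_of_le filX_eq_bot_of_le pullback_bot
  isZero_subquot_of_eq)

section Abstract

lemma lat_sup {α : Type*} [Lattice α] (a a' c : α) (h : a' ≤ a) : a ⊔ c = (a' ⊔ c) ⊔ a := by
  apply le_antisymm
  · exact sup_le le_sup_right (le_sup_right.trans le_sup_left)
  · exact sup_le (sup_le (h.trans le_sup_left) le_sup_right) le_sup_left

lemma lat_inf {α : Type*} [Lattice α] [IsModularLattice α] (x c y z : α) (hxz : x ≤ z)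
    (hcy : c ⊓ z = y) : x ⊔ y = (x ⊔ c) ⊓ z := by
  rw [sup_inf_assoc_of_le c hxz, hcy]

lemma lat_W {α : Type*} [Lattice α] [IsModularLattice α] (Fp Fp1 Z B : α) (hF : Fp1 ≤ Fp)
    (hBZ : B ≤ Z) : ((Fp1 ⊓ Z) ⊔ B) ⊓ (Fp ⊓ Z) = ((Fp ⊓ B) ⊔ Fp1) ⊓ (Fp ⊓ Z) := by
  rw [sup_inf_assoc_of_le B (inf_le_inf_right Z hF),
    sup_inf_assoc_of_le Fp1 (inf_le_inf_left Fp hBZ)]
  have e1 : B ⊓ (Fp ⊓ Z) = Fp ⊓ B := by
    rw [inf_comm B (Fp ⊓ Z), inf_assoc, inf_eq_right.2 hBZ]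
  have e2 : Fp1 ⊓ (Fp ⊓ Z) = Fp1 ⊓ Z := by rw [← inf_assoc, inf_eq_left.2 hF]
  rw [e1, e2, sup_comm]

lemma nonempty_iso_congr {X Y : A} {S N S' N' : Subobject X} {T T' T₁ T₁' : Subobject Y}
    (hS : S = S') (hN : N = N') (hT : T = T₁) (hT' : T' = T₁') (h : N ≤ S) (k : T' ≤ T)
    (H : ∀ (h' : N' ≤ S') (k' : T₁' ≤ T₁),
      Nonempty (cokernel (N'.ofLE S' h') ≅ cokernel (T₁'.ofLE T₁ k'))) :
    Nonempty (cokernel (N.ofLE S h) ≅ cokernel (T'.ofLE T k)) := by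
  subst hS hN hT hT'
  exact H h k

variable {X Y : A} (f : X ⟶ Y) (F0 F1 : Subobject X) (G0 G1 : Subobject Y)

theorem nonempty_iso_ZB (hF : F1 ≤ F0) (hG : G1 ≤ G0)
    (hZ : (F0 ⊓ (Subobject.pullback f).obj G1) ⊔ F1 ≤ (F0 ⊓ (Subobject.pullback f).obj G0) ⊔ F1)
    (hB : (G0 ⊓ imageSubobject (F1.arrow ≫ f)) ⊔ G1 ≤
      (G0 ⊓ imageSubobject (F0.arrow ≫ f)) ⊔ G1) :
    Nonempty (cokernel (Subobject.ofLE _ _ hZ) ≅ cokernel (Subobject.ofLE _ _ hB)) := by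
  have hpb : (Subobject.pullback f).obj G1 ≤ (Subobject.pullback f).obj G0 :=
    (Subobject.pullback f).monotone hG
  have him : imageSubobject (F1.arrow ≫ f) ≤ imageSubobject (F0.arrow ≫ f) :=
    image_le_image f hF
  have hN₀ : (F0 ⊓ (Subobject.pullback f).obj G1) ⊔ (F1 ⊓ (Subobject.pullback f).obj G0) ≤
      F0 ⊓ (Subobject.pullback f).obj G0 :=
    sup_le (inf_le_inf_left _ hpb) (inf_le_inf_right _ hF)
  have hT₀ : (G0 ⊓ imageSubobject (F1.arrow ≫ f)) ⊔ (G1 ⊓ imageSubobject (F0.arrow ≫ f)) ≤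
      G0 ⊓ imageSubobject (F0.arrow ≫ f) :=
    sup_le (inf_le_inf_left _ him) (inf_le_inf_right _ hG)
  have hS1 : (F0 ⊓ (Subobject.pullback f).obj G0) ⊔ F1 =
      ((F0 ⊓ (Subobject.pullback f).obj G1) ⊔ F1) ⊔ (F0 ⊓ (Subobject.pullback f).obj G0) :=
    lat_sup _ _ _ (inf_le_inf_left _ hpb)
  have hN1 : (F0 ⊓ (Subobject.pullback f).obj G1) ⊔ (F1 ⊓ (Subobject.pullback f).obj G0) =
      ((F0 ⊓ (Subobject.pullback f).obj G1) ⊔ F1) ⊓ (F0 ⊓ (Subobject.pullback f).obj G0) :=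
    lat_inf _ _ _ _ (inf_le_inf_left _ hpb) (by rw [← inf_assoc, inf_eq_left.2 hF])
  have hS3 : (G0 ⊓ imageSubobject (F0.arrow ≫ f)) ⊔ G1 =
      ((G0 ⊓ imageSubobject (F1.arrow ≫ f)) ⊔ G1) ⊔ (G0 ⊓ imageSubobject (F0.arrow ≫ f)) :=
    lat_sup _ _ _ (inf_le_inf_left _ him)
  have hN3 : (G0 ⊓ imageSubobject (F1.arrow ≫ f)) ⊔ (G1 ⊓ imageSubobject (F0.arrow ≫ f)) =
      ((G0 ⊓ imageSubobject (F1.arrow ≫ f)) ⊔ G1) ⊓ (G0 ⊓ imageSubobject (F0.arrow ≫ f)) :=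
    lat_inf _ _ _ _ (inf_le_inf_left _ him) (by rw [← inf_assoc, inf_eq_left.2 hG])
  obtain ⟨e1⟩ := nonempty_iso_second hZ hN₀ hS1 hN1
  obtain ⟨e2⟩ := nonempty_iso_zass f F0 F1 G0 G1 hF hN₀ hT₀
  obtain ⟨e3⟩ := nonempty_iso_second hB hT₀ hS3 hN3
  exact ⟨e1 ≪≫ e2 ≪≫ e3.symm⟩

end Abstract

variable (K : FilCx A)

lemma ZSub_eq (r : ℕ) (p n q : ℤ) (hq : q = p + r) :
    K.ZSub r p n = (K.filX p n ⊓ (Subobject.pullback (K.obj.d n (n + 1))).obj (K.filX q (n + 1))) ⊔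
      K.filX (p + 1) n := by
  subst hq
  rfl

lemma BSub_eq (r : ℕ) (q n p' : ℤ) (hp' : p' = q - r + 1) :
    K.BSub r q (n + 1) = (K.filX q (n + 1) ⊓
      imageSubobject ((K.filX p' n).arrow ≫ K.obj.d n (n + 1))) ⊔ K.filX (q + 1) (n + 1) := by
  subst hp'
  have key : ∀ (n' : ℤ), n' = n →
      imageSubobject ((K.filX (q - r + 1) n').arrow ≫ K.obj.d n' (n + 1)) =
        imageSubobject ((K.filX (q - r + 1) n).arrow ≫ K.obj.d n (n + 1)) := by
    rintro _ rfl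
    rfl
  unfold FilCx.BSub
  rw [key (n + 1 - 1) (by ring)]

lemma ZSub_succ_le (r : ℕ) (p n : ℤ) : K.ZSub (r + 1) p n ≤ K.ZSub r p n :=
  sup_le_sup_right (inf_le_inf_left _ ((Subobject.pullback _).monotone
    (K.filX_anti (n + 1) (by push_cast; omega)))) _

lemma BSub_le_succ (r : ℕ) (p n : ℤ) : K.BSub r p n ≤ K.BSub (r + 1) p n :=
  sup_le_sup_right (inf_le_inf_left _ (image_le_image _
    (K.filX_anti (n - 1) (by push_cast; omega)))) _

lemma BBot_le_ZTop (p n : ℤ) : K.BBot p n ≤ K.ZTop p n :=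
  sup_le_sup_right (inf_le_inf_left _ (image_le_kernel _ _ (K.obj.d_comp_d _ _ _))) _

theorem nonempty_iso_Z_B (r : ℕ) (p n : ℤ) :
    Nonempty (cokernel ((K.ZSub (r + 1) p n).ofLE (K.ZSub r p n) (ZSub_succ_le K r p n)) ≅
      cokernel ((K.BSub r (p + r) (n + 1)).ofLE (K.BSub (r + 1) (p + r) (n + 1))
        (BSub_le_succ K r (p + r) (n + 1)))) := by
  have hF : K.filX (p + 1) n ≤ K.filX p n := K.filX_anti n (by omega)
  have hG : K.filX (p + r + 1) (n + 1) ≤ K.filX (p + r) (n + 1) :=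
    K.filX_anti (n + 1) (by omega)
  exact nonempty_iso_congr (ZSub_eq K r p n (p + r) rfl)
    (ZSub_eq K (r + 1) p n (p + r + 1) (by push_cast; ring))
    (BSub_eq K (r + 1) (p + r) n p (by push_cast; ring))
    (BSub_eq K r (p + r) n (p + 1) (by ring)) _ _
    (fun h' k' => nonempty_iso_ZB (K.obj.d n (n + 1)) (K.filX p n) (K.filX (p + 1) n)
      (K.filX (p + r) (n + 1)) (K.filX (p + r + 1) (n + 1)) hF hG h' k')

lemma exists_stable (hK : ∀ n : ℤ, (K.XFil n).IsFinite) (r : ℕ) (p n : ℤ) :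
    ∃ s, r ≤ s ∧ K.ZSub s p n = K.ZTop p n ∧ K.BSub s p n = K.BBot p n := by
  obtain ⟨-, ⟨b, hb⟩⟩ := hK (n + 1)
  change K.filX b (n + 1) = ⊥ at hb
  obtain ⟨⟨a, ha⟩, -⟩ := hK (n - 1)
  change K.filX a (n - 1) = ⊤ at ha
  obtain ⟨s, hs, h1, h2⟩ : ∃ s : ℕ, r ≤ s ∧ (b - p).toNat ≤ s ∧ (p + 1 - a).toNat ≤ s :=
    ⟨max r (max (b - p).toNat (p + 1 - a).toNat), le_max_left _ _,
      (le_max_left _ _).trans (le_max_right _ _), (le_max_right _ _).trans (le_max_right _ _)⟩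
  refine ⟨s, hs, ?_, ?_⟩
  · unfold FilCx.ZSub FilCx.ZTop
    rw [filX_eq_bot_of_le K hb (show b ≤ p + (s : ℤ) by omega), pullback_bot]
  · have htop : K.filX (p - (s : ℤ) + 1) (n - 1) = ⊤ := filX_eq_top_of_le K ha (by omega)
    have : IsIso (K.filX (p - (s : ℤ) + 1) (n - 1)).arrow :=
      (Subobject.isIso_arrow_iff_eq_top _).mpr htop
    unfold FilCx.BSub FilCx.BBot
    rw [imageSubobject_iso_comp]

/-- the chain `W p = (F^p ∩ Ker d) + Im d` between `Im d` and `Ker d`. -/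
noncomputable def W (p n : ℤ) : Subobject (K.obj.X n) :=
  (K.filX p n ⊓ kernelSubobject (K.obj.d n (n + 1))) ⊔ imageSubobject (K.obj.d (n - 1) n)

lemma W_succ_le (p n : ℤ) : W K (p + 1) n ≤ W K p n :=
  sup_le_sup_right (inf_le_inf_right _ (K.filX_anti n (by omega))) _

section PropSec

variable (P : ObjectProperty A) [P.IsClosedUnderIsomorphisms] (hP : Five P)
  (h0 : ∃ Z : A, IsZero Z ∧ P Z)

include hP h0 in
lemma prop_Q (r : ℕ) (hr : ∀ p n : ℤ, P (K.E r p n)) (p n : ℤ) :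
    P (cokernel ((K.ZSub (r + 1) p n).ofLE (K.ZSub r p n) (ZSub_succ_le K r p n))) := by
  obtain ⟨φ⟩ := nonempty_iso_Z_B K r p n
  have hb1 : K.BSub r p n ≤ K.ZSub (r + 1) p n :=
    (BSub_le_succ K r p n).trans (K.BSub_le_ZSub (r + 1) p n)
  have hb2 : K.BSub (r + 1) (p + r) (n + 1) ≤ K.ZSub r (p + r) (n + 1) :=
    (K.BSub_le_ZSub (r + 1) (p + r) (n + 1)).trans (ZSub_succ_le K r (p + r) (n + 1))
  exact prop_of_epi_mono P hP h0 (chainQ hb1 (ZSub_succ_le K r p n))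
    (φ.hom ≫ chainI (BSub_le_succ K r (p + r) (n + 1)) hb2) (hr p n) (hr (p + r) (n + 1))

include hP h0 in
lemma prop_B (r : ℕ) (hr : ∀ p n : ℤ, P (K.E r p n)) (p n : ℤ) :
    P (cokernel ((K.BSub r p n).ofLE (K.BSub (r + 1) p n) (BSub_le_succ K r p n))) := by
  obtain ⟨φ⟩ := nonempty_iso_Z_B K r (p - r) (n - 1)
  have h := P.prop_of_iso φ (prop_Q K P hP h0 r hr (p - r) (n - 1))
  have aux : ∀ (p' n' : ℤ), p' = p → n' = n →
      ∀ (h' : K.BSub r p' n' ≤ K.BSub (r + 1) p' n'),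
      P (cokernel ((K.BSub r p' n').ofLE (K.BSub (r + 1) p' n') h')) →
      P (cokernel ((K.BSub r p n).ofLE (K.BSub (r + 1) p n) (BSub_le_succ K r p n))) := by
    rintro _ _ rfl rfl _ h
    exact h
  exact aux (p - r + r) (n - 1 + 1) (by ring) (by ring) _ h

include hP h0 in
lemma prop_E_succ (r : ℕ) (hr : ∀ p n : ℤ, P (K.E r p n)) (p n : ℤ) : P (K.E (r + 1) p n) := by
  have hb1 : K.BSub r p n ≤ K.ZSub (r + 1) p n :=
    (BSub_le_succ K r p n).trans (K.BSub_le_ZSub (r + 1) p n)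
  have h1 : P (cokernel ((K.BSub r p n).ofLE (K.ZSub (r + 1) p n) hb1)) :=
    prop_chain_ker hb1 (ZSub_succ_le K r p n) P hP h0 (hr p n) (prop_Q K P hP h0 r hr p n)
  exact prop_chain_coker (BSub_le_succ K r p n) (K.BSub_le_ZSub (r + 1) p n) P hP h0
    (prop_B K P hP h0 r hr p n) h1

include hP h0 in
lemma prop_E_of_le (r : ℕ) (hr : ∀ p n : ℤ, P (K.E r p n)) :
    ∀ s, r ≤ s → ∀ p n : ℤ, P (K.E s p n) := by
  intro s hs
  induction s, hs using Nat.le_induction with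
  | base => exact hr
  | succ s _ ih => exact fun p n => prop_E_succ K P hP h0 s ih p n

include hP h0 in
lemma prop_W_step (p n : ℤ)
    (hgr : P (cokernel ((K.BBot p n).ofLE (K.ZTop p n) (BBot_le_ZTop K p n)))) :
    P (cokernel ((W K (p + 1) n).ofLE (W K p n) (W_succ_le K p n))) := by
  have hBZ : imageSubobject (K.obj.d (n - 1) n) ≤ kernelSubobject (K.obj.d n (n + 1)) :=
    image_le_kernel _ _ (K.obj.d_comp_d _ _ _)
  have hF : K.filX (p + 1) n ≤ K.filX p n := K.filX_anti n (by omega)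
  have hS1 : K.ZTop p n =
      K.BBot p n ⊔ (K.filX p n ⊓ kernelSubobject (K.obj.d n (n + 1))) :=
    lat_sup _ _ _ (inf_le_inf_left _ hBZ)
  have hS2 : W K p n =
      W K (p + 1) n ⊔ (K.filX p n ⊓ kernelSubobject (K.obj.d n (n + 1))) :=
    lat_sup _ _ _ (inf_le_inf_right _ hF)
  have hN : W K (p + 1) n ⊓ (K.filX p n ⊓ kernelSubobject (K.obj.d n (n + 1))) =
      K.BBot p n ⊓ (K.filX p n ⊓ kernelSubobject (K.obj.d n (n + 1))) :=
    lat_W _ _ _ _ hF hBZ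
  obtain ⟨e1⟩ := nonempty_iso_second (BBot_le_ZTop K p n)
    (inf_le_right : K.BBot p n ⊓ (K.filX p n ⊓ kernelSubobject (K.obj.d n (n + 1))) ≤ _) hS1 rfl
  obtain ⟨e2⟩ := nonempty_iso_second (W_succ_le K p n)
    (inf_le_right : W K (p + 1) n ⊓ (K.filX p n ⊓ kernelSubobject (K.obj.d n (n + 1))) ≤ _) hS2 rfl
  have h2 := P.prop_of_iso e1 hgr
  have h3 := prop_subquot_of_eq P rfl hN.symm _ inf_le_right h2
  exact P.prop_of_iso e2.symm h3

include hP h0 in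
theorem prop_homology (hK : ∀ n : ℤ, (K.XFil n).IsFinite) (r : ℕ)
    (hr : ∀ p n : ℤ, P (K.E r p n)) (n : ℤ) : P (K.obj.homology n) := by
  have hgr : ∀ p : ℤ, P (cokernel ((K.BBot p n).ofLE (K.ZTop p n) (BBot_le_ZTop K p n))) := by
    intro p
    obtain ⟨s, hs, hZ, hB⟩ := exists_stable K hK r p n
    exact prop_subquot_of_eq P hZ hB (K.BSub_le_ZSub s p n) _
      (prop_E_of_le K P hP h0 r hr s hs p n)
  obtain ⟨⟨a, ha⟩, ⟨b, hb⟩⟩ := hK n
  change K.filX a n = ⊤ at ha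
  change K.filX b n = ⊥ at hb
  have hBZ : imageSubobject (K.obj.d (n - 1) n) ≤ kernelSubobject (K.obj.d n (n + 1)) :=
    image_le_kernel _ _ (K.obj.d_comp_d _ _ _)
  have hBW : ∀ p, imageSubobject (K.obj.d (n - 1) n) ≤ W K p n := fun p => le_sup_right
  have key : ∀ (k : ℕ) (p : ℤ), p = b - k →
      P (cokernel ((imageSubobject (K.obj.d (n - 1) n)).ofLE (W K p n) (hBW p))) := by
    intro k
    induction k with
    | zero =>
      intro p hp
      have hW : imageSubobject (K.obj.d (n - 1) n) = W K p n := by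
        have : K.filX p n = ⊥ := by rw [hp]; simpa using hb
        unfold W
        rw [this, bot_inf_eq, bot_sup_eq]
      exact prop_of_isZero P h0 (isZero_subquot_of_eq _ _ _ hW)
    | succ k ih =>
      intro p hp
      have h1 := ih (p + 1) (by rw [hp]; push_cast; ring)
      exact prop_chain_ext (hBW (p + 1)) (W_succ_le K p n) P hP h0 h1
        (prop_W_step K P hP h0 p n (hgr p))
  have hfin := key (b - a).toNat (b - ((b - a).toNat : ℤ)) rfl
  have htop : K.filX (b - ((b - a).toNat : ℤ)) n = ⊤ := filX_eq_top_of_le K ha (by omega)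
  have hWZ : W K (b - ((b - a).toNat : ℤ)) n = kernelSubobject (K.obj.d n (n + 1)) := by
    unfold W
    rw [htop, top_inf_eq, sup_eq_left.2 hBZ]
  obtain ⟨e⟩ := nonempty_homology_iso K.obj n
  exact P.prop_of_iso e.symm (prop_subquot_of_eq P hWZ rfl _ _ hfin)

end PropSec

end Groth.Agent.Lib.R2H7.WSerre
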