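/-
Weak subintegral closure: `b` lies in the largest universally homeomorphic subalgebra iff
`b ⊗ 1 - 1 ⊗ b` is nilpotent.
-/
import Mathlib
import Groth.Agent.Lib.Helper20AWN

set_option autoImplicit false
universe u

namespace Groth.Agent.Lib.R2H7.WeakSub

open AlgebraicGeometry CategoryTheory TensorProduct
open Groth.Agent.Lib.Helper20.AWN Groth.Agent.Lib.Helper20.WeakNorm

variable {A B : Type u} [CommRing A] [CommRing B] [Algebra A B]

/-- If `A → C ⊆ B` is `UH`, then `c ⊗ 1 - 1 ⊗ c` is nilpotent in `B ⊗[A] B` for `c ∈ C`. -/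
theorem isNilpotent_of_mem (C : Subalgebra A B) (hC : UH (algebraMap A C)) {b : B} (hb : b ∈ C) :
    IsNilpotent (b ⊗ₜ[A] (1 : B) - (1 : B) ⊗ₜ[A] b) := by
  rw [nilpotent_iff_mem_prime]
  intro Q hQ
  let K := Q.ResidueField
  let χ : B ⊗[A] B →+* K := algebraMap (B ⊗[A] B) K
  let χ₁ : C →+* K := (χ.comp (Algebra.TensorProduct.includeLeftRingHom : B →+* B ⊗[A] B)).comp
    C.val.toRingHom
  let χ₂ : C →+* K := (χ.comp (Algebra.TensorProduct.includeRight : B →ₐ[A] B ⊗[A] B).toRingHom).comp
    C.val.toRingHom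
  have h12 : χ₁.comp (algebraMap A C) = χ₂.comp (algebraMap A C) := by
    ext a
    change χ ((algebraMap A B a) ⊗ₜ[A] (1 : B)) = χ ((1 : B) ⊗ₜ[A] (algebraMap A B a))
    congr 1
    rw [Algebra.algebraMap_eq_smul_one, TensorProduct.smul_tmul]
  have h := hC.2.2 K χ₁ χ₂ h12
  have hb' := RingHom.congr_fun h ⟨b, hb⟩
  change χ (b ⊗ₜ[A] (1 : B)) = χ ((1 : B) ⊗ₜ[A] b) at hb'
  rw [← Ideal.algebraMap_residueField_eq_zero, map_sub, sub_eq_zero]
  exact hb'

variable [Algebra.IsIntegral A B]

/-- A subalgebra of an integral extension `A ⊆ B` is integral with surjective `Spec`. -/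
theorem subalgebra_integral_surjective (hinj : Function.Injective (algebraMap A B))
    (D : Subalgebra A B) :
    (algebraMap A D).IsIntegral ∧ Function.Surjective (PrimeSpectrum.comap (algebraMap A D)) := by
  have hint : (algebraMap A D).IsIntegral := by
    intro d
    have h1 : IsIntegral A (d : B) := Algebra.IsIntegral.isIntegral _
    exact (isIntegral_algHom_iff D.val Subtype.val_injective).mp h1
  refine ⟨hint, hint.comap_surjective ?_⟩
  intro a a' h
  apply hinj
  exact congrArg Subtype.val h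

theorem val_integral_surjective (D : Subalgebra A B) :
    (D.val.toRingHom).IsIntegral ∧ Function.Surjective (PrimeSpectrum.comap D.val.toRingHom) := by
  have hint : (D.val.toRingHom).IsIntegral := by
    intro x
    have h1 : IsIntegral A x := Algebra.IsIntegral.isIntegral _
    exact IsIntegral.tower_top (A := D) h1
  exact ⟨hint, hint.comap_surjective Subtype.val_injective⟩

/-- Adjoining to a `UH` subalgebra `C` an element `b` with `b ⊗ 1 - 1 ⊗ b` nilpotent gives a `UH`
subalgebra. -/
theorem UH_adjoin (hinj : Function.Injective (algebraMap A B)) (C : Subalgebra A B)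
    (hC : UH (algebraMap A C)) (b : B)
    (hb : IsNilpotent (b ⊗ₜ[A] (1 : B) - (1 : B) ⊗ₜ[A] b)) :
    UH (algebraMap A (Algebra.adjoin A ((C : Set B) ∪ {b}))) := by
  set D := Algebra.adjoin A ((C : Set B) ∪ {b}) with hD
  obtain ⟨hint, hsurj⟩ := subalgebra_integral_surjective hinj D
  refine ⟨hint, hsurj, ?_⟩
  intro K _ χ₁ χ₂ h12
  let L := AlgebraicClosure K
  let ι : K →+* L := algebraMap K L
  obtain ⟨hvi, hvs⟩ := val_integral_surjective D
  obtain ⟨g₁, hg₁⟩ := exists_extend_algClosed D.val.toRingHom hvi hvs L (ι.comp χ₁)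
  obtain ⟨g₂, hg₂⟩ := exists_extend_algClosed D.val.toRingHom hvi hvs L (ι.comp χ₂)
  have hgA : g₁.comp (algebraMap A B) = g₂.comp (algebraMap A B) := by
    ext a
    have e1 := RingHom.congr_fun hg₁ (algebraMap A D a)
    have e2 := RingHom.congr_fun hg₂ (algebraMap A D a)
    have e3 := RingHom.congr_fun h12 a
    simp only [RingHom.comp_apply] at e1 e2 e3 ⊢
    have e4 : D.val.toRingHom (algebraMap A D a) = algebraMap A B a := rfl
    rw [e4] at e1 e2
    rw [e1, e2, e3]
  have hgC : ∀ c : B, c ∈ C → g₁ c = g₂ c := by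
    intro c hc
    have h := hC.2.2 L (g₁.comp C.val.toRingHom) (g₂.comp C.val.toRingHom) (by
      ext a
      exact RingHom.congr_fun hgA a)
    exact RingHom.congr_fun h ⟨c, hc⟩
  have hgb : g₁ b = g₂ b := eq_of_isNilpotent_tmul_sub g₁ g₂ hgA b hb
  have hgD : ∀ d : B, d ∈ D → g₁ d = g₂ d := by
    intro d hd
    induction hd using Algebra.adjoin_induction with
    | mem x hx =>
      rcases hx with hx | hx
      · exact hgC x hx
      · rw [Set.mem_singleton_iff] at hx
        rw [hx]; exact hgb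
    | algebraMap r => exact RingHom.congr_fun hgA r
    | add x y _ _ hx hy => rw [map_add, map_add, hx, hy]
    | mul x y _ _ hx hy => rw [map_mul, map_mul, hx, hy]
  ext d
  have e1 := RingHom.congr_fun hg₁ d
  have e2 := RingHom.congr_fun hg₂ d
  simp only [RingHom.comp_apply] at e1 e2
  have e3 : g₁ (D.val.toRingHom d) = g₂ (D.val.toRingHom d) := hgD _ d.2
  rw [e1, e2] at e3
  exact (algebraMap K L).injective e3

theorem main (hinj : Function.Injective (algebraMap A B))
    (C : Subalgebra A B) (hC : FlatMor.IsUnivHomeo (Spec.map (CommRingCat.ofHom (algebraMap A C))))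
    (hmax : ∀ D : Subalgebra A B,
      FlatMor.IsUnivHomeo (Spec.map (CommRingCat.ofHom (algebraMap A D))) → D ≤ C) (b : B) :
    b ∈ C ↔ IsNilpotent (b ⊗ₜ[A] (1 : B) - (1 : B) ⊗ₜ[A] b) := by
  rw [isUnivHomeo_iff_UH] at hC
  constructor
  · intro hb
    exact isNilpotent_of_mem C hC hb
  · intro hb
    have hD := UH_adjoin hinj C hC b hb
    rw [← isUnivHomeo_iff_UH] at hD
    have hle := hmax _ hD
    apply hle
    apply Algebra.subset_adjoin
    exact Or.inr rfl

end Groth.Agent.Lib.R2H7.WeakSub
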