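import Groth.Agent.Lib.Helper10WeilCorr

/-!
# Weil cohomology: the trace of a composite of correspondences

`Tr_P(φ ∪ σ^* ψ) = Σ (-1)^i tr(ψ ∘ φ | H^i(X))` for `φ ∈ H^{2 dim X + r}(X × Y)`,
`ψ ∈ H^{2 dim Y - r}(Y × X)` and `σ` the swap.
-/

set_option autoImplicit false
set_option linter.style.haveILetI false

universe u v

open AlgebraicGeometry CategoryTheory CategoryTheory.Limits

namespace Groth.Agent.Lib.R2H7.WeilCorrTrace

open Groth.Agent.Lib.Helper10.WeilPt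

section Prod

variable {k : Type u} [Field k]

lemma exists_lift {X Y P Q : WeilCoh.Var k} (p : P ⟶ X) (q : P ⟶ Y) (hP : WeilCoh.IsProd p q)
    (a : Q ⟶ X) (b : Q ⟶ Y) : ∃ l : Q ⟶ P, l ≫ p = a ∧ l ≫ q = b := by
  have hw : WeilCoh.sm a ≫ X.obj.hom = WeilCoh.sm b ≫ Y.obj.hom := by
    rw [Over.w a.hom, Over.w b.hom]
  set l := hP.lift (WeilCoh.sm a) (WeilCoh.sm b) hw with hl
  have h1 : l ≫ WeilCoh.sm p = WeilCoh.sm a := hP.lift_fst _ _ _
  have h2 : l ≫ WeilCoh.sm q = WeilCoh.sm b := hP.lift_snd _ _ _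
  have h3 : l ≫ P.obj.hom = Q.obj.hom := by
    have : P.obj.hom = WeilCoh.sm p ≫ X.obj.hom := (Over.w p.hom).symm
    rw [this, ← Category.assoc, h1]
    exact Over.w a.hom
  refine ⟨ObjectProperty.homMk (Over.homMk l h3), ?_, ?_⟩
  · apply ObjectProperty.hom_ext
    apply Over.OverMorphism.ext
    exact h1
  · apply ObjectProperty.hom_ext
    apply Over.OverMorphism.ext
    exact h2

lemma hom_ext_prod {X Y P Q : WeilCoh.Var k} (p : P ⟶ X) (q : P ⟶ Y) (hP : WeilCoh.IsProd p q)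
    (l l' : Q ⟶ P) (h1 : l ≫ p = l' ≫ p) (h2 : l ≫ q = l' ≫ q) : l = l' := by
  apply ObjectProperty.hom_ext
  apply Over.OverMorphism.ext
  apply hP.hom_ext
  · exact congrArg (fun ψ => WeilCoh.sm ψ) h1
  · exact congrArg (fun ψ => WeilCoh.sm ψ) h2

end Prod

section Main

variable {k : Type u} [Field k] [IsAlgClosed k] {K : Type v} [Field K] [CharZero K]
  (T : WeilCoh.Theory k K)

lemma sm_genericPoint_of_iso {P P' : WeilCoh.Var k} (σ : P ⟶ P') (σ' : P' ⟶ P)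
    (h2 : σ' ≫ σ = 𝟙 P') :
    WeilCoh.sm σ (genericPoint P.obj.left) = genericPoint P'.obj.left := by
  have e : WeilCoh.sm σ (WeilCoh.sm σ' (genericPoint P'.obj.left)) = genericPoint P'.obj.left := by
    have h := sm_comp_eq_id σ' σ h2
    have := congrArg (fun ψ : P'.obj.left ⟶ P'.obj.left => ψ (genericPoint P'.obj.left)) h
    simpa using this
  have s1 : genericPoint P.obj.left ⤳ WeilCoh.sm σ' (genericPoint P'.obj.left) :=
    genericPoint_specializes _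
  have s2 := s1.map (WeilCoh.sm σ).continuous
  rw [e] at s2
  exact (s2.antisymm (genericPoint_specializes _)).eq

lemma tr_pull_of_iso {P P' : WeilCoh.Var k} (σ : P ⟶ P') (σ' : P' ⟶ P) (h1 : σ ≫ σ' = 𝟙 P)
    (h2 : σ' ≫ σ = 𝟙 P') (u : T.H P') : T.tr P (T.pull σ u) = T.tr P' u := by
  have := tr_cl_section_mul' T σ σ' h1 (genericPoint P.obj.left) u
  rw [sm_genericPoint_of_iso σ σ' h2, cl_generic, cl_generic, one_mul, one_mul] at this
  exact this.symm

/-- the action of a homogeneous class on a product as a correspondence -/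
noncomputable def act {X Y P : WeilCoh.Var k} (p : P ⟶ X) (q : P ⟶ Y) (d : ℤ) (φ : T.gr P d)
    (i : ℤ) : T.gr X i →ₗ[K]
      T.gr Y (i + d + 2 * (WeilCoh.dim Y.obj.left : ℤ) - 2 * (WeilCoh.dim P.obj.left : ℤ)) :=
  (T.push q (i + d)) ∘ₗ
    ((LinearMap.mulRight K (φ : T.H P)).restrict (p := T.gr P i) (q := T.gr P (i + d))
      (fun x hx => SetLike.mul_mem_graded hx φ.2)) ∘ₗ (T.pullDeg p i)

lemma tr_act {X Y P : WeilCoh.Var k} (p : P ⟶ X) (q : P ⟶ Y) (d : ℤ) (φ : T.gr P d) (i : ℤ)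
    (x : T.gr X i) (b : T.H Y)
    (hb : b ∈ T.gr Y (2 * (WeilCoh.dim P.obj.left : ℤ) - (i + d))) :
    T.tr Y ((act T p q d φ i x : T.H Y) * b) =
      T.tr P (T.pull p (x : T.H X) * (φ : T.H P) * T.pull q b) :=
  tr_action T p q d i (φ : T.H P) φ.2 x b hb

lemma sign_eq (a b : ℤ) (s N : ℕ) (hs : s ≤ 2 * N) (ha : a = 2 * (N : ℤ) - s)
    (hb : ∃ c : ℤ, b = s + 2 * c) : (-1 : K) ^ (a.natAbs * b.natAbs) = (-1 : K) ^ s := by
  obtain ⟨c, rfl⟩ := hb
  subst ha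
  have e1 : (2 * (N : ℤ) - (s : ℤ)).natAbs = 2 * N - s := by omega
  rw [e1]
  rcases Nat.even_or_odd s with h | h
  · have h2 : Even ((s : ℤ) + 2 * c).natAbs := by
      rw [Int.natAbs_even]
      exact (Int.even_coe_nat s |>.mpr h).add (even_two_mul c)
    rw [Even.neg_one_pow (h2.mul_left _), Even.neg_one_pow h]
  · have h2 : Odd ((s : ℤ) + 2 * c).natAbs := by
      rw [Int.natAbs_odd]
      exact (Int.odd_coe_nat s |>.mpr h).add_even (even_two_mul c)
    have h3 : Odd (2 * N - s) := by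
      obtain ⟨t, rfl⟩ := h
      exact ⟨N - t - 1, by omega⟩
    rw [Odd.neg_one_pow (h3.mul h2), Odd.neg_one_pow h]

/-- S15748 -/
theorem main15748 (X Y P P' : WeilCoh.Var k)
    (p : P ⟶ X) (q : P ⟶ Y) (hP : WeilCoh.IsProd p q)
    (p' : P' ⟶ Y) (q' : P' ⟶ X) (hP' : WeilCoh.IsProd p' q')
    (σ : P ⟶ P') (hσ₁ : σ ≫ p' = q) (hσ₂ : σ ≫ q' = p) (r : ℤ)
    (hdim : ∀ i : ℤ, ((i + (2 * (WeilCoh.dim X.obj.left : ℤ) + r) +
      2 * (WeilCoh.dim Y.obj.left : ℤ) - 2 * (WeilCoh.dim P.obj.left : ℤ)) +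
      (2 * (WeilCoh.dim Y.obj.left : ℤ) - r) + 2 * (WeilCoh.dim X.obj.left : ℤ) -
      2 * (WeilCoh.dim P'.obj.left : ℤ)) = i)
    (φ : ↥(T.gr P (2 * (WeilCoh.dim X.obj.left : ℤ) + r)))
    (ψ : ↥(T.gr P' (2 * (WeilCoh.dim Y.obj.left : ℤ) - r))) :
    T.tr P ((φ : T.H P) * T.pull σ (ψ : T.H P')) =
      ∑ i ∈ Finset.range (2 * WeilCoh.dim X.obj.left + 1),
        (-1 : K) ^ i * LinearMap.trace K ↥(T.gr X (i : ℤ))
          ((LinearEquiv.ofEq _ (T.gr X (i : ℤ)) (congrArg (T.gr X) (hdim (i : ℤ)))).toLinearMap ∘ₗ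
            (act T p' q' _ ψ ((i : ℤ) + (2 * (WeilCoh.dim X.obj.left : ℤ) + r) +
              2 * (WeilCoh.dim Y.obj.left : ℤ) - 2 * (WeilCoh.dim P.obj.left : ℤ))) ∘ₗ
            (act T p q _ φ (i : ℤ))) := by
  classical
  obtain ⟨ι, _, _, e, f, hef⟩ := exists_dual_family T X
  have hdP : WeilCoh.dim P.obj.left = WeilCoh.dim X.obj.left + WeilCoh.dim Y.obj.left :=
    dim_prod p q hP
  have hdP' : WeilCoh.dim P'.obj.left = WeilCoh.dim Y.obj.left + WeilCoh.dim X.obj.left :=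
    dim_prod p' q' hP'
  -- the inverse of the swap
  obtain ⟨σ', hσ'₁, hσ'₂⟩ := exists_lift p q hP q' p'
  have hσσ' : σ ≫ σ' = 𝟙 P := by
    apply hom_ext_prod p q hP
    · rw [Category.assoc, hσ'₁, hσ₂, Category.id_comp]
    · rw [Category.assoc, hσ'₂, hσ₁, Category.id_comp]
  have hσ'σ : σ' ≫ σ = 𝟙 P' := by
    apply hom_ext_prod p' q' hP'
    · rw [Category.assoc, hσ₁, hσ'₂, Category.id_comp]
    · rw [Category.assoc, hσ₂, hσ'₁, Category.id_comp]
  have hswap : ∀ u : T.H P', T.tr P (T.pull σ u) = T.tr P' u :=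
    tr_pull_of_iso T σ σ' hσσ' hσ'σ
  -- the values of the action of `φ` on the basis
  set y : (s : ℕ) → ι s → T.H Y := fun s l =>
    ((act T p q _ φ (s : ℤ) (e s l) : T.gr Y _) : T.H Y) with hy
  have hymem : ∀ (s : ℕ) (l : ι s), y s l ∈ T.gr Y ((s : ℤ) +
      (2 * (WeilCoh.dim X.obj.left : ℤ) + r) + 2 * (WeilCoh.dim Y.obj.left : ℤ) -
      2 * (WeilCoh.dim P.obj.left : ℤ)) := fun s l => Subtype.property _
  have hcm : corrClass T p q ι f y ∈ T.gr P (2 * (WeilCoh.dim X.obj.left : ℤ) + r) := by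
    apply corrClass_mem
    intro s l
    have h1 := hymem s l
    have e1 : (s : ℤ) + (2 * (WeilCoh.dim X.obj.left : ℤ) + r) +
        2 * (WeilCoh.dim Y.obj.left : ℤ) - 2 * (WeilCoh.dim P.obj.left : ℤ) =
        2 * (WeilCoh.dim X.obj.left : ℤ) + r - (2 * (WeilCoh.dim X.obj.left : ℤ) - s) := by
      rw [hdP]; push_cast; ring
    rw [← e1]
    exact h1
  -- Claim A: `φ` is the class attached to its action
  have hA : (φ : T.H P) = corrClass T p q ι f y := by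
    apply eq_of_forall_tr_pull_mul T p q hP (2 * (WeilCoh.dim X.obj.left : ℤ) + r) _ _ φ.2 hcm
    intro s x hx t b hb
    by_cases hi : ∃ s' : ℕ, s = (s' : ℤ) ∧ s' ≤ 2 * WeilCoh.dim X.obj.left
    · obtain ⟨s', rfl, hs'⟩ := hi
      rw [tr_corrClass T p q hP ι e f hef y s' hs' x hx b]
      by_cases ht : t = 2 * (WeilCoh.dim P.obj.left : ℤ) -
          ((s' : ℤ) + (2 * (WeilCoh.dim X.obj.left : ℤ) + r))
      · subst ht
        rw [← tr_act T p q _ φ (s' : ℤ) ⟨x, hx⟩ b hb]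
        conv_lhs => rw [← (e s').sum_repr ⟨x, hx⟩]
        rw [map_sum, Submodule.coe_sum, Finset.sum_mul, map_sum]
        refine Finset.sum_congr rfl fun l _ => ?_
        rw [map_smul, Submodule.coe_smul, smul_mul_assoc, map_smul, smul_eq_mul]
      · have hm := SetLike.mul_mem_graded (SetLike.mul_mem_graded (T.pull_mem p _ _ hx) φ.2)
          (T.pull_mem q _ _ hb)
        rw [T.tr_vanish P _ _ hm (by omega)]
        symm
        refine Finset.sum_eq_zero fun l _ => ?_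
        have hm' := SetLike.mul_mem_graded (hymem s' l) hb
        rw [T.tr_vanish Y _ _ hm' (by omega), mul_zero]
    · have hx0 : x = 0 := by
        apply eq_zero_of_mem_of_lt T _ s hx
        by_contra hcon
        push Not at hcon
        exact hi ⟨s.toNat, by omega, by omega⟩
      subst hx0
      simp
  rw [hA]
  unfold corrClass
  rw [Finset.sum_mul, map_sum]
  refine Finset.sum_congr rfl fun s hs => ?_
  have hs' : s ≤ 2 * WeilCoh.dim X.obj.left := by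
    have := Finset.mem_range.mp hs; omega
  rw [Finset.sum_mul, map_sum, LinearMap.trace_eq_matrix_trace K (e s), Matrix.trace,
    Finset.mul_sum]
  refine Finset.sum_congr rfl fun l _ => ?_
  rw [Matrix.diag_apply, LinearMap.toMatrix_apply]
  -- notation
  set z := act T p q _ φ (s : ℤ) (e s l) with hz
  set w := act T p' q' _ ψ _ z with hw
  have hAe : (((LinearEquiv.ofEq _ (T.gr X (s : ℤ)) (congrArg (T.gr X) (hdim (s : ℤ)))).toLinearMap ∘ₗ
      (act T p' q' _ ψ ((s : ℤ) + (2 * (WeilCoh.dim X.obj.left : ℤ) + r) +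
        2 * (WeilCoh.dim Y.obj.left : ℤ) - 2 * (WeilCoh.dim P.obj.left : ℤ))) ∘ₗ
      (act T p q _ φ (s : ℤ))) (e s l) : T.H X) = (w : T.H X) := rfl
  have hwmem : (w : T.H X) ∈ T.gr X (s : ℤ) :=
    Eq.mp (congrArg (fun t => (w : T.H X) ∈ T.gr X t) (hdim (s : ℤ))) w.2
  rw [← tr_dual_mul T ι e f hef s hs' l _ (Subtype.property _), hAe]
  -- the monomial
  have hfmem : (f s l : T.H X) ∈ T.gr X (2 * (WeilCoh.dim P'.obj.left : ℤ) -
      ((s : ℤ) + (2 * (WeilCoh.dim X.obj.left : ℤ) + r) + 2 * (WeilCoh.dim Y.obj.left : ℤ) -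
        2 * (WeilCoh.dim P.obj.left : ℤ) + (2 * (WeilCoh.dim Y.obj.left : ℤ) - r))) := by
    have e1 : 2 * (WeilCoh.dim P'.obj.left : ℤ) -
      ((s : ℤ) + (2 * (WeilCoh.dim X.obj.left : ℤ) + r) + 2 * (WeilCoh.dim Y.obj.left : ℤ) -
        2 * (WeilCoh.dim P.obj.left : ℤ) + (2 * (WeilCoh.dim Y.obj.left : ℤ) - r)) =
        2 * (WeilCoh.dim X.obj.left : ℤ) - s := by
      have := hdim (s : ℤ)
      omega
    rw [e1]
    exact (f s l).2
  have hM : T.tr X ((w : T.H X) * (f s l : T.H X)) =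
      T.tr P (T.pull q (z : T.H Y) * T.pull σ (ψ : T.H P') * T.pull p (f s l : T.H X)) := by
    rw [hw, tr_act T p' q' _ ψ _ z (f s l : T.H X) hfmem, ← hswap, map_mul (T.pull σ),
      map_mul (T.pull σ), pull_pull T σ p', pull_pull T σ q', hσ₁, hσ₂]
  rw [T.gradedComm X (2 * (WeilCoh.dim X.obj.left : ℤ) - s) s _ _ (f s l).2 hwmem, map_smul,
    smul_eq_mul, hM,
    sign_eq (K := K) _ _ s (WeilCoh.dim X.obj.left) hs' rfl ⟨0, by ring⟩]
  -- left hand side
  have hzσ : T.pull q (z : T.H Y) * T.pull σ (ψ : T.H P') ∈ T.gr P ((s : ℤ) +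
      (2 * (WeilCoh.dim X.obj.left : ℤ) + r) + 2 * (WeilCoh.dim Y.obj.left : ℤ) -
      2 * (WeilCoh.dim P.obj.left : ℤ) + (2 * (WeilCoh.dim Y.obj.left : ℤ) - r)) :=
    SetLike.mul_mem_graded (T.pull_mem q _ _ z.2) (T.pull_mem σ _ _ ψ.2)
  have hL : (-1 : K) ^ s • (T.pull p (f s l : T.H X) * T.pull q (y s l)) *
      T.pull σ (ψ : T.H P') =
      (-1 : K) ^ s • ((-1 : K) ^ s •
        (T.pull q (z : T.H Y) * T.pull σ (ψ : T.H P') * T.pull p (f s l : T.H X))) := by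
    rw [smul_mul_assoc, mul_assoc]
    congr 1
    rw [T.gradedComm P (2 * (WeilCoh.dim X.obj.left : ℤ) - s) _ _ _
      (T.pull_mem p _ _ (f s l).2) hzσ,
      sign_eq (K := K) _ _ s (WeilCoh.dim X.obj.left) hs' rfl
        ⟨(WeilCoh.dim X.obj.left : ℤ) + 2 * (WeilCoh.dim Y.obj.left : ℤ) -
          (WeilCoh.dim P.obj.left : ℤ), by ring⟩]
  rw [hL, map_smul, map_smul, smul_eq_mul, smul_eq_mul]

end Main

end Groth.Agent.Lib.R2H7.WeilCorrTrace
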