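import Groth.Agent.Lib.R2H7WeilCorrTrace

/-!
# Weil cohomology: trace of a composite of correspondences of arbitrary degrees, and numerical
triviality of algebraic correspondences in the Jacobson radical
-/

set_option autoImplicit false
set_option linter.style.haveILetI false

universe u v

open AlgebraicGeometry CategoryTheory CategoryTheory.Limits

namespace Groth.Agent.Lib.R2H7.WeilCorrTrace

open Groth.Agent.Lib.Helper10.WeilPt

section Main

variable {k : Type u} [Field k] [IsAlgClosed k] {K : Type v} [Field K] [CharZero K]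
  (T : WeilCoh.Theory k K)

/-- trace of a composite of correspondences, degrees `dφ`, `dψ` arbitrary -/
theorem trace_comp_gen (X Y P P' : WeilCoh.Var k)
    (p : P ⟶ X) (q : P ⟶ Y) (hP : WeilCoh.IsProd p q)
    (p' : P' ⟶ Y) (q' : P' ⟶ X) (hP' : WeilCoh.IsProd p' q')
    (σ : P ⟶ P') (hσ₁ : σ ≫ p' = q) (hσ₂ : σ ≫ q' = p) (dφ dψ : ℤ)
    (hdim : ∀ i : ℤ, ((i + dφ + 2 * (WeilCoh.dim Y.obj.left : ℤ) -
      2 * (WeilCoh.dim P.obj.left : ℤ)) + dψ + 2 * (WeilCoh.dim X.obj.left : ℤ) -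
      2 * (WeilCoh.dim P'.obj.left : ℤ)) = i)
    (φ : ↥(T.gr P dφ)) (ψ : ↥(T.gr P' dψ)) :
    T.tr P ((φ : T.H P) * T.pull σ (ψ : T.H P')) =
      ∑ i ∈ Finset.range (2 * WeilCoh.dim X.obj.left + 1),
        (-1 : K) ^ i * LinearMap.trace K ↥(T.gr X (i : ℤ))
          ((LinearEquiv.ofEq _ (T.gr X (i : ℤ)) (congrArg (T.gr X) (hdim (i : ℤ)))).toLinearMap ∘ₗ
            (act T p' q' dψ ψ ((i : ℤ) + dφ + 2 * (WeilCoh.dim Y.obj.left : ℤ) -
              2 * (WeilCoh.dim P.obj.left : ℤ))) ∘ₗ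
            (act T p q dφ φ (i : ℤ))) := by
  classical
  obtain ⟨ι, _, _, e, f, hef⟩ := exists_dual_family T X
  have hdP : WeilCoh.dim P.obj.left = WeilCoh.dim X.obj.left + WeilCoh.dim Y.obj.left :=
    dim_prod p q hP
  have hdP' : WeilCoh.dim P'.obj.left = WeilCoh.dim Y.obj.left + WeilCoh.dim X.obj.left :=
    dim_prod p' q' hP'
  obtain ⟨σ', hσ'₁, hσ'₂⟩ := exists_lift p q hP q' p'
  have hσσ' : σ ≫ σ' = 𝟙 P := by
    apply hom_ext_prod p q hP
    · rw [Category.assoc, hσ'₁, hσ₂, Category.id_comp]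
    · rw [Category.assoc, hσ'₂, hσ₁, Category.id_comp]
  have hσ'σ : σ' ≫ σ = 𝟙 P' := by
    apply hom_ext_prod p' q' hP'
    · rw [Category.assoc, hσ₁, hσ'₂, Category.id_comp]
    · rw [Category.assoc, hσ₂, hσ'₁, Category.id_comp]
  have hswap : ∀ u : T.H P', T.tr P (T.pull σ u) = T.tr P' u :=
    tr_pull_of_iso T σ σ' hσσ' hσ'σ
  set y : (s : ℕ) → ι s → T.H Y := fun s l =>
    ((act T p q dφ φ (s : ℤ) (e s l) : T.gr Y _) : T.H Y) with hy
  have hymem : ∀ (s : ℕ) (l : ι s), y s l ∈ T.gr Y ((s : ℤ) + dφ +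
      2 * (WeilCoh.dim Y.obj.left : ℤ) - 2 * (WeilCoh.dim P.obj.left : ℤ)) :=
    fun s l => Subtype.property _
  have hcm : corrClass T p q ι f y ∈ T.gr P dφ := by
    apply corrClass_mem
    intro s l
    have h1 := hymem s l
    have e1 : (s : ℤ) + dφ + 2 * (WeilCoh.dim Y.obj.left : ℤ) -
        2 * (WeilCoh.dim P.obj.left : ℤ) =
        dφ - (2 * (WeilCoh.dim X.obj.left : ℤ) - s) := by
      rw [hdP]; push_cast; ring
    rw [← e1]
    exact h1
  have hA : (φ : T.H P) = corrClass T p q ι f y := by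
    apply eq_of_forall_tr_pull_mul T p q hP dφ _ _ φ.2 hcm
    intro s x hx t b hb
    by_cases hi : ∃ s' : ℕ, s = (s' : ℤ) ∧ s' ≤ 2 * WeilCoh.dim X.obj.left
    · obtain ⟨s', rfl, hs'⟩ := hi
      rw [tr_corrClass T p q hP ι e f hef y s' hs' x hx b]
      by_cases ht : t = 2 * (WeilCoh.dim P.obj.left : ℤ) - ((s' : ℤ) + dφ)
      · subst ht
        rw [← tr_act T p q dφ φ (s' : ℤ) ⟨x, hx⟩ b hb]
        conv_lhs => rw [← (e s').sum_repr ⟨x, hx⟩]
        rw [map_sum, Submodule.coe_sum, Finset.sum_mul, map_sum]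
        refine Finset.sum_congr rfl fun l _ => ?_
        rw [map_smul, Submodule.coe_smul, smul_mul_assoc, map_smul, smul_eq_mul]
      · have hm := SetLike.mul_mem_graded (SetLike.mul_mem_graded (T.pull_mem p _ _ hx) φ.2)
          (T.pull_mem q _ _ hb)
        rw [T.tr_vanish P _ _ hm (by omega)]
        symm
        refine Finset.sum_eq_zero fun l _ => ?_
        have hm' := SetLike.mul_mem_graded (hymem s' l) hb
        rw [T.tr_vanish Y _ _ hm' (by omega), mul_zero]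
    · have hx0 : x = 0 := by
        apply eq_zero_of_mem_of_lt T _ s hx
        by_contra hcon
        push Not at hcon
        exact hi ⟨s.toNat, by omega, by omega⟩
      subst hx0
      simp
  rw [hA]
  unfold corrClass
  rw [Finset.sum_mul, map_sum]
  refine Finset.sum_congr rfl fun s hs => ?_
  have hs' : s ≤ 2 * WeilCoh.dim X.obj.left := by
    have := Finset.mem_range.mp hs; omega
  rw [Finset.sum_mul, map_sum, LinearMap.trace_eq_matrix_trace K (e s), Matrix.trace,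
    Finset.mul_sum]
  refine Finset.sum_congr rfl fun l _ => ?_
  rw [Matrix.diag_apply, LinearMap.toMatrix_apply]
  set z := act T p q dφ φ (s : ℤ) (e s l) with hz
  set w := act T p' q' dψ ψ _ z with hw
  have hAe : (((LinearEquiv.ofEq _ (T.gr X (s : ℤ)) (congrArg (T.gr X) (hdim (s : ℤ)))).toLinearMap ∘ₗ
      (act T p' q' dψ ψ ((s : ℤ) + dφ + 2 * (WeilCoh.dim Y.obj.left : ℤ) -
        2 * (WeilCoh.dim P.obj.left : ℤ))) ∘ₗ
      (act T p q dφ φ (s : ℤ))) (e s l) : T.H X) = (w : T.H X) := rfl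
  have hwmem : (w : T.H X) ∈ T.gr X (s : ℤ) :=
    Eq.mp (congrArg (fun t => (w : T.H X) ∈ T.gr X t) (hdim (s : ℤ))) w.2
  rw [← tr_dual_mul T ι e f hef s hs' l _ (Subtype.property _), hAe]
  have hfmem : (f s l : T.H X) ∈ T.gr X (2 * (WeilCoh.dim P'.obj.left : ℤ) -
      ((s : ℤ) + dφ + 2 * (WeilCoh.dim Y.obj.left : ℤ) -
        2 * (WeilCoh.dim P.obj.left : ℤ) + dψ)) := by
    have e1 : 2 * (WeilCoh.dim P'.obj.left : ℤ) -
      ((s : ℤ) + dφ + 2 * (WeilCoh.dim Y.obj.left : ℤ) -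
        2 * (WeilCoh.dim P.obj.left : ℤ) + dψ) =
        2 * (WeilCoh.dim X.obj.left : ℤ) - s := by
      have := hdim (s : ℤ)
      omega
    rw [e1]
    exact (f s l).2
  have hM : T.tr X ((w : T.H X) * (f s l : T.H X)) =
      T.tr P (T.pull q (z : T.H Y) * T.pull σ (ψ : T.H P') * T.pull p (f s l : T.H X)) := by
    rw [hw, tr_act T p' q' dψ ψ _ z (f s l : T.H X) hfmem, ← hswap, map_mul (T.pull σ),
      map_mul (T.pull σ), pull_pull T σ p', pull_pull T σ q', hσ₁, hσ₂]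
  rw [T.gradedComm X (2 * (WeilCoh.dim X.obj.left : ℤ) - s) s _ _ (f s l).2 hwmem, map_smul,
    smul_eq_mul, hM,
    sign_eq (K := K) _ _ s (WeilCoh.dim X.obj.left) hs' rfl ⟨0, by ring⟩]
  have hzσ : T.pull q (z : T.H Y) * T.pull σ (ψ : T.H P') ∈ T.gr P ((s : ℤ) + dφ +
      2 * (WeilCoh.dim Y.obj.left : ℤ) - 2 * (WeilCoh.dim P.obj.left : ℤ) + dψ) :=
    SetLike.mul_mem_graded (T.pull_mem q _ _ z.2) (T.pull_mem σ _ _ ψ.2)
  have hL : (-1 : K) ^ s • (T.pull p (f s l : T.H X) * T.pull q (y s l)) *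
      T.pull σ (ψ : T.H P') =
      (-1 : K) ^ s • ((-1 : K) ^ s •
        (T.pull q (z : T.H Y) * T.pull σ (ψ : T.H P') * T.pull p (f s l : T.H X))) := by
    rw [smul_mul_assoc, mul_assoc]
    congr 1
    rw [T.gradedComm P (2 * (WeilCoh.dim X.obj.left : ℤ) - s) _ _ _
      (T.pull_mem p _ _ (f s l).2) hzσ,
      sign_eq (K := K) _ _ s (WeilCoh.dim X.obj.left) hs' rfl
        ⟨(WeilCoh.dim P'.obj.left : ℤ) - (WeilCoh.dim X.obj.left : ℤ), by
          have := hdim (s : ℤ)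
          omega⟩]
  rw [hL, map_smul, map_smul, smul_eq_mul, smul_eq_mul]

/-- pull-back of a class along an isomorphism -/
lemma pull_cl_of_iso {P P' : WeilCoh.Var k} (σ : P ⟶ P') (σ' : P' ⟶ P) (h1 : σ ≫ σ' = 𝟙 P)
    (h2 : σ' ≫ σ = 𝟙 P') (ξ : P'.obj.left) :
    T.pull σ (T.cl P' ξ) = T.cl P (WeilCoh.sm σ' ξ) := by
  apply eq_of_forall_tr_mul T P
  intro b
  have hb : b = T.pull σ (T.pull σ' b) := by
    rw [pull_pull T σ σ', pull_of_eq_id T _ h1]
  have hpt : WeilCoh.sm σ (WeilCoh.sm σ' ξ) = ξ := by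
    have h := sm_comp_eq_id σ' σ h2
    have := congrArg (fun ψ : P'.obj.left ⟶ P'.obj.left => ψ ξ) h
    simpa using this
  rw [hb, ← map_mul, tr_pull_of_iso T σ σ' h1 h2, tr_cl_mul_pull T σ (WeilCoh.sm σ' ξ),
    residueDegree_eq_one_of_section (WeilCoh.sm σ) (WeilCoh.sm σ') (sm_comp_eq_id σ σ' h1),
    Nat.cast_one, one_mul, hpt]

lemma pull_mem_span_cl_of_iso {P P' : WeilCoh.Var k} (σ : P ⟶ P') (σ' : P' ⟶ P)
    (h1 : σ ≫ σ' = 𝟙 P) (h2 : σ' ≫ σ = 𝟙 P') (v : T.H P')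
    (hv : v ∈ Submodule.span K (Set.range (T.cl P'))) :
    T.pull σ v ∈ Submodule.span K (Set.range (T.cl P)) := by
  induction hv using Submodule.span_induction with
  | mem x hx =>
    obtain ⟨ξ, rfl⟩ := hx
    rw [pull_cl_of_iso T σ σ' h1 h2]
    exact Submodule.subset_span ⟨_, rfl⟩
  | zero => rw [map_zero]; exact Submodule.zero_mem _
  | add x y _ _ hx hy => rw [map_add]; exact Submodule.add_mem _ hx hy
  | smul a x _ hx => rw [map_smul]; exact Submodule.smul_mem _ a hx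

lemma act_congr {X Y P : WeilCoh.Var k} (p : P ⟶ X) (q : P ⟶ Y) (d : ℤ) (ψ : T.gr P d)
    (a b : ℤ) (h : a = b) (x : T.gr X a) :
    ((act T p q d ψ a x : T.gr Y _) : T.H Y) =
      (act T p q d ψ b (LinearEquiv.ofEq _ _ (congrArg (T.gr X) h) x) : T.H Y) := by
  subst h
  rfl

/-- S19418 -/
theorem main19418 (X P : WeilCoh.Var k)
    (p q : P ⟶ X) (hP : WeilCoh.IsProd p q) (σ : P ⟶ P) (hσp : σ ≫ p = q) (hσq : σ ≫ q = p)
    (hdim : ∀ j : ℤ, j + 2 * (WeilCoh.dim X.obj.left : ℤ) + 2 * (WeilCoh.dim X.obj.left : ℤ) -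
      2 * (WeilCoh.dim P.obj.left : ℤ) = j)
    (u : ↥(T.gr P (2 * (WeilCoh.dim X.obj.left : ℤ))))
    (hJ : ∀ ψ ∈ Algebra.adjoin K
          (Set.range (fun w : {w : ↥(T.gr P (2 * (WeilCoh.dim X.obj.left : ℤ))) //
              (w : T.H P) ∈ Submodule.span K (Set.range (T.cl P))} =>
            fun j : Fin (2 * WeilCoh.dim X.obj.left + 1) =>
              ((LinearEquiv.ofEq _ (T.gr X ((j : ℕ) : ℤ))
                (congrArg (T.gr X) (hdim ((j : ℕ) : ℤ)))).toLinearMap ∘ₗ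
              act T p q _ w.1 ((j : ℕ) : ℤ)))),
        IsNilpotent (ψ * fun j : Fin (2 * WeilCoh.dim X.obj.left + 1) =>
          ((LinearEquiv.ofEq _ (T.gr X ((j : ℕ) : ℤ))
            (congrArg (T.gr X) (hdim ((j : ℕ) : ℤ)))).toLinearMap ∘ₗ
              act T p q _ u ((j : ℕ) : ℤ))))
    (v : ↥(T.gr P (2 * (WeilCoh.dim X.obj.left : ℤ))))
    (hv : (v : T.H P) ∈ Submodule.span K (Set.range (T.cl P))) :
    T.tr P ((u : T.H P) * (v : T.H P)) = 0 := by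
  have hσσ : σ ≫ σ = 𝟙 P := by
    apply hom_ext_prod p q hP
    · rw [Category.assoc, hσp, hσq, Category.id_comp]
    · rw [Category.assoc, hσq, hσp, Category.id_comp]
  set v' : ↥(T.gr P (2 * (WeilCoh.dim X.obj.left : ℤ))) :=
    ⟨T.pull σ (v : T.H P), T.pull_mem σ _ _ v.2⟩ with hv'
  have hv'alg : (v' : T.H P) ∈ Submodule.span K (Set.range (T.cl P)) :=
    pull_mem_span_cl_of_iso T σ σ hσσ hσσ _ hv
  have hvv' : (v : T.H P) = T.pull σ (v' : T.H P) := by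
    change (v : T.H P) = T.pull σ (T.pull σ (v : T.H P))
    rw [pull_pull T σ σ, pull_of_eq_id T _ hσσ]
  have hdim' : ∀ i : ℤ, ((i + 2 * (WeilCoh.dim X.obj.left : ℤ) +
      2 * (WeilCoh.dim X.obj.left : ℤ) - 2 * (WeilCoh.dim P.obj.left : ℤ)) +
      2 * (WeilCoh.dim X.obj.left : ℤ) + 2 * (WeilCoh.dim X.obj.left : ℤ) -
      2 * (WeilCoh.dim P.obj.left : ℤ)) = i := by
    intro i
    have := hdim i
    omega
  rw [hvv', trace_comp_gen T X X P P p q hP p q hP σ hσp hσq _ _ hdim' u v']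
  refine Finset.sum_eq_zero fun i hi => ?_
  have hi' : i < 2 * WeilCoh.dim X.obj.left + 1 := Finset.mem_range.mp hi
  -- the element of the algebra attached to `v'`
  set Ψ : (j : Fin (2 * WeilCoh.dim X.obj.left + 1)) → Module.End K ↥(T.gr X ((j : ℕ) : ℤ)) :=
    fun j => ((LinearEquiv.ofEq _ (T.gr X ((j : ℕ) : ℤ))
      (congrArg (T.gr X) (hdim ((j : ℕ) : ℤ)))).toLinearMap ∘ₗ act T p q _ v' ((j : ℕ) : ℤ))
    with hΨ
  set U : (j : Fin (2 * WeilCoh.dim X.obj.left + 1)) → Module.End K ↥(T.gr X ((j : ℕ) : ℤ)) :=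
    fun j => ((LinearEquiv.ofEq _ (T.gr X ((j : ℕ) : ℤ))
      (congrArg (T.gr X) (hdim ((j : ℕ) : ℤ)))).toLinearMap ∘ₗ act T p q _ u ((j : ℕ) : ℤ))
    with hU
  have hΨmem : Ψ ∈ Algebra.adjoin K
      (Set.range (fun w : {w : ↥(T.gr P (2 * (WeilCoh.dim X.obj.left : ℤ))) //
          (w : T.H P) ∈ Submodule.span K (Set.range (T.cl P))} =>
        fun j : Fin (2 * WeilCoh.dim X.obj.left + 1) =>
          ((LinearEquiv.ofEq _ (T.gr X ((j : ℕ) : ℤ))
            (congrArg (T.gr X) (hdim ((j : ℕ) : ℤ)))).toLinearMap ∘ₗ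
          act T p q _ w.1 ((j : ℕ) : ℤ)))) :=
    Algebra.subset_adjoin ⟨⟨v', hv'alg⟩, rfl⟩
  obtain ⟨N, hN⟩ := hJ Ψ hΨmem
  have hnil : IsNilpotent (Ψ ⟨i, hi'⟩ * U ⟨i, hi'⟩) := by
    refine ⟨N, ?_⟩
    have := congrFun hN ⟨i, hi'⟩
    simpa only [Pi.pow_apply, Pi.mul_apply, Pi.zero_apply] using this
  have htr0 : LinearMap.trace K ↥(T.gr X (i : ℤ)) (Ψ ⟨i, hi'⟩ * U ⟨i, hi'⟩) = 0 :=
    (LinearMap.isNilpotent_trace_of_isNilpotent hnil).eq_zero
  have heq : ((LinearEquiv.ofEq _ (T.gr X (i : ℤ)) (congrArg (T.gr X) (hdim' (i : ℤ)))).toLinearMap ∘ₗ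
      (act T p q _ v' ((i : ℤ) + 2 * (WeilCoh.dim X.obj.left : ℤ) +
        2 * (WeilCoh.dim X.obj.left : ℤ) - 2 * (WeilCoh.dim P.obj.left : ℤ))) ∘ₗ
      (act T p q _ u (i : ℤ))) = Ψ ⟨i, hi'⟩ * U ⟨i, hi'⟩ := by
    apply LinearMap.ext
    intro x
    apply Subtype.ext
    exact act_congr T p q _ v' _ _ (hdim (i : ℤ)) _
  rw [heq, htr0, mul_zero]

end Main

end Groth.Agent.Lib.R2H7.WeilCorrTrace
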