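import Mathlib

/-!
# Points of schemes with values in fields: a small toolkit

* `ptMap`: the ring map `Γ(X, U) ⟶ K` of a `K`-point landing in `U`;
* sections of a `k`-scheme are determined by their image point, and exist at points whose residue
  field is `k`;
* descent of a point fixed by a Frobenius-like endomorphism to the fixed field.
-/

set_option autoImplicit false
set_option linter.style.haveILetI false

namespace Groth.Agent.Lib.R2H7.WeilKPts

open AlgebraicGeometry CategoryTheory CategoryTheory.Limits IsLocalRing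

universe u

section PtMap

variable {K : Type u} [Field K] {X : Scheme.{u}}

/-- the ring map attached to a `K`-point landing in an open -/
noncomputable def ptMap (g : Spec (CommRingCat.of K) ⟶ X) (U : X.Opens) (h : ⊤ ≤ g ⁻¹ᵁ U) :
    Γ(X, U) ⟶ CommRingCat.of K :=
  g.appLE U ⊤ h ≫ (Scheme.ΓSpecIso (CommRingCat.of K)).hom

theorem eq_SpecMap_ptMap (g : Spec (CommRingCat.of K) ⟶ X) (U : X.Opens) (hU : IsAffineOpen U)
    (h : ⊤ ≤ g ⁻¹ᵁ U) : g = Spec.map (ptMap g U h) ≫ hU.fromSpec := by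
  have h1 := IsAffineOpen.SpecMap_appLE_fromSpec g hU (isAffineOpen_top _) h
  rw [IsAffineOpen.fromSpec_top, Scheme.isoSpec_Spec_inv] at h1
  unfold ptMap
  rw [Spec.map_comp, Category.assoc, h1, ← Category.assoc, ← Spec.map_comp, Iso.inv_hom_id,
    Spec.map_id, Category.id_comp]

theorem top_le_preimage (g : Spec (CommRingCat.of K) ⟶ X) (U : X.Opens)
    (hU : g (closedPoint K) ∈ U) : (⊤ : (Spec (CommRingCat.of K)).Opens) ≤ g ⁻¹ᵁ U := by
  intro y _
  have : y = closedPoint K := @Subsingleton.elim (PrimeSpectrum K) _ y (closedPoint K)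
  change g y ∈ U
  rw [this]
  exact hU

theorem ext_of_ptMap (g g' : Spec (CommRingCat.of K) ⟶ X) (U : X.Opens) (hU : IsAffineOpen U)
    (h : ⊤ ≤ g ⁻¹ᵁ U) (h' : ⊤ ≤ g' ⁻¹ᵁ U) (e : ptMap g U h = ptMap g' U h') : g = g' := by
  rw [eq_SpecMap_ptMap g U hU h, eq_SpecMap_ptMap g' U hU h', e]

theorem ptMap_comp {X' : Scheme.{u}} (g : Spec (CommRingCat.of K) ⟶ X) (G : X ⟶ X')
    (U : X.Opens) (U' : X'.Opens) (h : ⊤ ≤ g ⁻¹ᵁ U) (hG : U ≤ G ⁻¹ᵁ U')
    (h' : ⊤ ≤ (g ≫ G) ⁻¹ᵁ U') :
    ptMap (g ≫ G) U' h' = G.appLE U' U hG ≫ ptMap g U h := by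
  unfold ptMap
  rw [← Category.assoc, Scheme.Hom.appLE_comp_appLE]

theorem ptMap_SpecMap_comp {K' : Type u} [Field K'] (ι : CommRingCat.of K' ⟶ CommRingCat.of K)
    (g : Spec (CommRingCat.of K') ⟶ X) (U : X.Opens) (h : ⊤ ≤ g ⁻¹ᵁ U)
    (h' : ⊤ ≤ (Spec.map ι ≫ g) ⁻¹ᵁ U) :
    ptMap (Spec.map ι ≫ g) U h' = ptMap g U h ≫ ι := by
  unfold ptMap
  have h1 : (Spec.map ι ≫ g).appLE U ⊤ h' =
      g.appLE U ⊤ h ≫ (Spec.map ι).appLE ⊤ ⊤ (fun _ _ => trivial) :=
    (Scheme.Hom.appLE_comp_appLE (Spec.map ι) g U ⊤ ⊤ h (fun _ _ => trivial)).symm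
  have h2 : (Spec.map ι).appLE ⊤ ⊤ (fun _ _ => trivial) = (Spec.map ι).appTop := by
    rw [Scheme.Hom.appTop, Scheme.Hom.app_eq_appLE]
    rfl
  rw [h1, h2, Category.assoc, Category.assoc, Scheme.ΓSpecIso_naturality]

end PtMap

section Sections

variable {k : Type u} [Field k] {Y : Scheme.{u}} (s : Y ⟶ Spec (CommRingCat.of k))

/-- the structure map `k → κ(y)` -/
noncomputable def strMap (y : Y) : CommRingCat.of k ⟶ Y.residueField y :=
  Spec.preimage (Y.fromSpecResidueField y ≫ s)

lemma SpecMap_strMap (y : Y) : Spec.map (strMap s y) = Y.fromSpecResidueField y ≫ s :=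
  Spec.map_preimage _

lemma strMap_congr {y y' : Y} (e : y = y') :
    strMap s y ≫ (Y.residueFieldCongr e).hom = strMap s y' := by
  subst e
  simp

/-- a retraction of the structure map is unique -/
lemma retraction_unique (y : Y) (a a' : Y.residueField y ⟶ CommRingCat.of k)
    (ha : strMap s y ≫ a = 𝟙 _) (ha' : strMap s y ≫ a' = 𝟙 _) : a = a' := by
  have h1 : ∀ c : k, a.hom ((strMap s y).hom c) = c := fun c => congrArg (fun φ => φ.hom c) ha
  have h1' : ∀ c : k, a'.hom ((strMap s y).hom c) = c := fun c => congrArg (fun φ => φ.hom c) ha'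
  apply CommRingCat.hom_ext
  ext z
  have h2 : (strMap s y).hom (a.hom z) = z := by
    apply a.hom.injective
    rw [h1]
  rw [← h2, h1, h1']

/-- sections of a `k`-scheme with the same image point are equal -/
theorem section_ext (σ σ' : Spec (CommRingCat.of k) ⟶ Y) (hσ : σ ≫ s = 𝟙 _) (hσ' : σ' ≫ s = 𝟙 _)
    (e : σ (closedPoint k) = σ' (closedPoint k)) : σ = σ' := by
  have h1 := Scheme.descResidueField_stalkClosedPointTo_fromSpecResidueField k Y σ
  have h1' := Scheme.descResidueField_stalkClosedPointTo_fromSpecResidueField k Y σ'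
  set a := Y.descResidueField (Scheme.stalkClosedPointTo σ) with ha
  set a' := Y.descResidueField (Scheme.stalkClosedPointTo σ') with ha'
  have h2 : Spec.map ((Y.residueFieldCongr e).hom ≫ a') ≫
      Y.fromSpecResidueField (σ (closedPoint k)) = σ' := by
    rw [Spec.map_comp, Category.assoc, Scheme.residueFieldCongr_fromSpecResidueField, h1']
  have k1 : strMap s _ ≫ a = 𝟙 _ := by
    apply Spec.map_injective
    rw [Spec.map_comp, SpecMap_strMap, ← Category.assoc, h1, hσ, Spec.map_id]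
  have k2 : strMap s _ ≫ ((Y.residueFieldCongr e).hom ≫ a') = 𝟙 _ := by
    apply Spec.map_injective
    rw [Spec.map_comp, SpecMap_strMap, ← Category.assoc, h2, hσ', Spec.map_id]
  rw [← h1, ← h2, retraction_unique s _ _ _ k1 k2]

/-- a point at which the structure map is bijective is the image of a section -/
theorem exists_section (y : Y) (hy : Function.Bijective (strMap s y).hom) :
    ∃ σ : Spec (CommRingCat.of k) ⟶ Y, σ ≫ s = 𝟙 _ ∧ σ (closedPoint k) = y := by
  let e : k ≃+* Y.residueField y := RingEquiv.ofBijective (strMap s y).hom hy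
  let a : Y.residueField y ⟶ CommRingCat.of k := CommRingCat.ofHom e.symm.toRingHom
  refine ⟨Spec.map a ≫ Y.fromSpecResidueField y, ?_, ?_⟩
  · rw [Category.assoc, ← SpecMap_strMap, ← Spec.map_comp]
    have : strMap s y ≫ a = 𝟙 _ := by
      apply CommRingCat.hom_ext
      ext c
      exact e.symm_apply_apply c
    rw [this, Spec.map_id]
  · exact Scheme.fromSpecResidueField_apply y _

end Sections

end Groth.Agent.Lib.R2H7.WeilKPts
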