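import Mathlib
import Groth.Agent.Lib.R2H7WeilKPts
import Groth.Agent.Lib.H6xZetaPts2

/-!
# Counting fixed points of a Frobenius-like endomorphism of a base change

`X` of finite type over the finite field `k₀` with `q` elements, `Y = X ×_{k₀} k` with `k`
algebraically closed, `G : X ⟶ X` the identity on points and `a ↦ a ^ (q ^ m)` on sections, `Φ` a
`k`-endomorphism of `Y` over `G`.  The sections of `Y ⟶ Spec k` fixed by `Φ` are in bijection with
the points of `X` with values in the extension of degree `m`; there are `Zeta.nPts f m` of them.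
-/

set_option autoImplicit false
set_option linter.style.haveILetI false

namespace Groth.Agent.Lib.R2H7.WeilKPts

open AlgebraicGeometry CategoryTheory CategoryTheory.Limits IsLocalRing

universe u

section FrobPts

variable {X : Scheme.{u}} (G : X ⟶ X) (Q : ℕ) (hGb : ∀ x : X, G x = x)
  (hGapp : ∀ (U : X.Opens) (h : U ≤ G ⁻¹ᵁ U) (a : Γ(X, U)), (G.appLE U U h).hom a = a ^ Q)

include hGb in
lemma le_preimage_G (U : X.Opens) : U ≤ G ⁻¹ᵁ U := by
  intro x hx
  change G x ∈ U
  rwa [hGb]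

include hGb hGapp in
/-- a point with values in a field all of whose elements are `Q`-th power fixed is fixed -/
theorem comp_eq_of_pow_eq {K' : Type u} [Field K'] (hK' : ∀ c : K', c ^ Q = c)
    (g : Spec (CommRingCat.of K') ⟶ X) : g ≫ G = g := by
  obtain ⟨U, hU, hxU, -⟩ := exists_isAffineOpen_mem_and_subset (U := ⊤)
    (x := g (closedPoint K')) trivial
  have h := top_le_preimage g U hxU
  have h' : ⊤ ≤ (g ≫ G) ⁻¹ᵁ U := by
    refine top_le_preimage (g ≫ G) U ?_
    change G (g (closedPoint K')) ∈ U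
    rwa [hGb]
  refine ext_of_ptMap _ _ U hU h' h ?_
  rw [ptMap_comp g G U U h (le_preimage_G G hGb U) h']
  apply CommRingCat.hom_ext
  ext a
  rw [CommRingCat.hom_comp, RingHom.comp_apply, hGapp, map_pow]
  exact hK' _

include hGb hGapp in
/-- the values of a fixed point are `Q`-th power fixed -/
theorem ptMap_pow_of_comp_eq {K : Type u} [Field K] (x : Spec (CommRingCat.of K) ⟶ X)
    (hx : x ≫ G = x) (U : X.Opens) (h : ⊤ ≤ x ⁻¹ᵁ U) (a : Γ(X, U)) :
    (ptMap x U h).hom a ^ Q = (ptMap x U h).hom a := by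
  have h' : ⊤ ≤ (x ≫ G) ⁻¹ᵁ U := by rw [hx]; exact h
  have h1 := ptMap_comp x G U U h (le_preimage_G G hGb U) h'
  have h2 : ptMap (x ≫ G) U h' = ptMap x U h := by
    congr 1
  rw [h2] at h1
  have h3 := congrArg (fun φ => φ.hom a) h1
  simp only [CommRingCat.hom_comp, RingHom.comp_apply] at h3
  rw [hGapp, map_pow] at h3
  exact h3.symm

include hGb hGapp in
/-- descent of a fixed point to the fixed field -/
theorem exists_descent {K' K : Type u} [Field K'] [Field K]
    (ι : CommRingCat.of K' ⟶ CommRingCat.of K)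
    (hι : ∀ c : K, c ^ Q = c → ∃ c' : K', ι.hom c' = c)
    (x : Spec (CommRingCat.of K) ⟶ X) (hx : x ≫ G = x) :
    ∃ g : Spec (CommRingCat.of K') ⟶ X, Spec.map ι ≫ g = x := by
  obtain ⟨U, hU, hxU, -⟩ := exists_isAffineOpen_mem_and_subset (U := ⊤)
    (x := x (closedPoint K)) trivial
  have h := top_le_preimage x U hxU
  set ψ := ptMap x U h with hψ
  have hmem : ∀ a, ψ.hom a ∈ ι.hom.range := by
    intro a
    obtain ⟨c', hc'⟩ := hι (ψ.hom a) (ptMap_pow_of_comp_eq G Q hGb hGapp x hx U h a)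
    exact ⟨c', hc'⟩
  let e : K' ≃+* ι.hom.range := RingEquiv.ofBijective ι.hom.rangeRestrict
    ⟨RingHom.injective_codRestrict.mpr ι.hom.injective, ι.hom.rangeRestrict_surjective⟩
  let ψ' : Γ(X, U) →+* K' := e.symm.toRingHom.comp (ψ.hom.codRestrict ι.hom.range hmem)
  have hψ' : CommRingCat.ofHom ψ' ≫ ι = ψ := by
    apply CommRingCat.hom_ext
    ext a
    change ι.hom (e.symm ⟨ψ.hom a, hmem a⟩) = ψ.hom a
    have := e.apply_symm_apply ⟨ψ.hom a, hmem a⟩
    exact congrArg Subtype.val this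
  refine ⟨Spec.map (CommRingCat.ofHom ψ') ≫ hU.fromSpec, ?_⟩
  rw [← Category.assoc, ← Spec.map_comp, hψ', hψ, ← eq_SpecMap_ptMap]

end FrobPts

section Cancel

/-- cancellation of a field extension on the left for maps to an affine scheme -/
theorem SpecMap_cancel {K' K : Type u} [Field K'] [Field K]
    (ι : CommRingCat.of K' ⟶ CommRingCat.of K) {R : CommRingCat.{u}}
    (a b : Spec (CommRingCat.of K') ⟶ Spec R) (h : Spec.map ι ≫ a = Spec.map ι ≫ b) : a = b := by
  rw [← Spec.map_preimage a, ← Spec.map_preimage b] at h ⊢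
  rw [← Spec.map_comp, ← Spec.map_comp] at h
  have h1 := Spec.map_injective h
  congr 1
  apply CommRingCat.hom_ext
  ext r
  apply ι.hom.injective
  exact congrArg (fun φ => φ.hom r) h1

/-- cancellation of a field extension on the left for points of any scheme -/
theorem SpecMap_cancel' {K' K : Type u} [Field K'] [Field K]
    (ι : CommRingCat.of K' ⟶ CommRingCat.of K) {X : Scheme.{u}}
    (a b : Spec (CommRingCat.of K') ⟶ X) (h : Spec.map ι ≫ a = Spec.map ι ≫ b) : a = b := by
  obtain ⟨U, hU, hxU, -⟩ := exists_isAffineOpen_mem_and_subset (U := ⊤)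
    (x := a (closedPoint K')) trivial
  have hpt : (Spec.map ι) (closedPoint K) = closedPoint K' :=
    @Subsingleton.elim (PrimeSpectrum K') _ _ _
  have hb : b (closedPoint K') ∈ U := by
    have h1 : (Spec.map ι ≫ a) (closedPoint K) = (Spec.map ι ≫ b) (closedPoint K) := by rw [h]
    change a ((Spec.map ι) (closedPoint K)) = b ((Spec.map ι) (closedPoint K)) at h1
    rw [hpt] at h1
    rwa [← h1]
  have ha' := top_le_preimage a U hxU
  have hb' := top_le_preimage b U hb
  refine ext_of_ptMap a b U hU ha' hb' ?_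
  have hιa : ⊤ ≤ (Spec.map ι ≫ a) ⁻¹ᵁ U := by
    refine top_le_preimage _ U ?_
    change a ((Spec.map ι) (closedPoint K)) ∈ U
    rwa [hpt]
  have hιb : ⊤ ≤ (Spec.map ι ≫ b) ⁻¹ᵁ U := by rw [← h]; exact hιa
  have h1 := ptMap_SpecMap_comp ι a U ha' hιa
  have h2 := ptMap_SpecMap_comp ι b U hb' hιb
  have h3 : ptMap (Spec.map ι ≫ a) U hιa = ptMap (Spec.map ι ≫ b) U hιb := by
    congr 1
  rw [h1, h2] at h3
  apply CommRingCat.hom_ext
  ext r
  apply ι.hom.injective
  exact congrArg (fun φ => φ.hom r) h3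

end Cancel

section Count

variable {k₀ : Type u} [Field k₀] [Finite k₀] {k : Type u} [Field k] [IsAlgClosed k] [Algebra k₀ k]
  {X Y : Scheme.{u}} (f : X ⟶ Spec (CommRingCat.of k₀)) [LocallyOfFiniteType f] [QuasiCompact f]
  {s : Y ⟶ Spec (CommRingCat.of k)} {π : Y ⟶ X}
  (hπ : IsPullback π s f (Spec.map (CommRingCat.ofHom (algebraMap k₀ k))))
  (G : X ⟶ X) (m : ℕ) (hm : 0 < m) (hGb : ∀ x : X, G x = x)
  (hGapp : ∀ (U : X.Opens) (h : U ≤ G ⁻¹ᵁ U) (a : Γ(X, U)),
    (G.appLE U U h).hom a = a ^ (Nat.card k₀ ^ m))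
  (Φ : Y ⟶ Y) (hΦs : Φ ≫ s = s) (hΦπ : Φ ≫ π = π ≫ G)

include hπ hm hGb hGapp hΦs hΦπ in
/-- the number of sections fixed by `Φ` is `N_m` -/
theorem card_fixed_sections :
    Nat.card {σ : Spec (CommRingCat.of k) ⟶ Y // σ ≫ s = 𝟙 _ ∧ σ ≫ Φ = σ} = Zeta.nPts f m := by
  classical
  obtain ⟨k', _, _, _, hfin⟩ := Groth.Agent.Lib.H6xZetaPts.exists_ext k₀ m hm
  haveI : Module.Finite k₀ k' := Module.Finite.of_finite
  haveI : Algebra.IsAlgebraic k₀ k' := Algebra.IsAlgebraic.of_finite k₀ k'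
  let ι₀ : k' →ₐ[k₀] k := IsAlgClosed.lift
  let ι : CommRingCat.of k' ⟶ CommRingCat.of k := CommRingCat.ofHom ι₀.toRingHom
  have hcomp : CommRingCat.ofHom (algebraMap k₀ k') ≫ ι = CommRingCat.ofHom (algebraMap k₀ k) := by
    apply CommRingCat.hom_ext
    ext c
    exact ι₀.commutes c
  set Q := Nat.card k₀ ^ m with hQ
  haveI : Fintype k₀ := Fintype.ofFinite k₀
  haveI : Fintype k' := Fintype.ofFinite k'
  have hcard : Fintype.card k' = Q := by
    rw [Module.card_eq_pow_finrank (K := k₀) (V := k'), hfin, hQ, Nat.card_eq_fintype_card]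
  have hK' : ∀ c : k', c ^ Q = c := by
    intro c
    rw [← hcard]
    exact FiniteField.pow_card c
  have hQ1 : 1 < Q := by
    rw [hQ]
    exact Nat.one_lt_pow hm.ne' (by rw [Nat.card_eq_fintype_card]; exact Fintype.one_lt_card)
  have hι : ∀ c : k, c ^ Q = c → ∃ c' : k', ι.hom c' = c := by
    intro c hc
    have hP : (Polynomial.X ^ Q - Polynomial.X : Polynomial k) ≠ 0 :=
      FiniteField.X_pow_card_sub_X_ne_zero k hQ1
    have hsub : (Finset.univ.image ι₀ : Finset k) ⊆
        (Polynomial.X ^ Q - Polynomial.X : Polynomial k).roots.toFinset := by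
      intro y hy
      obtain ⟨c', -, rfl⟩ := Finset.mem_image.mp hy
      rw [Multiset.mem_toFinset, Polynomial.mem_roots hP, Polynomial.IsRoot, Polynomial.eval_sub,
        Polynomial.eval_pow, Polynomial.eval_X, ← map_pow, hK', sub_self]
    have hle : (Polynomial.X ^ Q - Polynomial.X : Polynomial k).roots.toFinset.card ≤
        (Finset.univ.image ι₀ : Finset k).card := by
      rw [Finset.card_image_of_injective _ (show Function.Injective (⇑ι₀) from ι₀.toRingHom.injective),
        Finset.card_univ, hcard]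
      refine (Multiset.toFinset_card_le _).trans ?_
      refine (Polynomial.card_roots' _).trans ?_
      rw [FiniteField.X_pow_card_sub_X_natDegree_eq k hQ1]
    have heq := Finset.eq_of_subset_of_card_le hsub hle
    have hc' : c ∈ (Polynomial.X ^ Q - Polynomial.X : Polynomial k).roots.toFinset := by
      rw [Multiset.mem_toFinset, Polynomial.mem_roots hP, Polynomial.IsRoot, Polynomial.eval_sub,
        Polynomial.eval_pow, Polynomial.eval_X, hc, sub_self]
    rw [← heq] at hc'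
    obtain ⟨c', -, h⟩ := Finset.mem_image.mp hc'
    exact ⟨c', h⟩
  rw [← hfin, ← Groth.Agent.Lib.H6xZetaPts.pointCount_eq_nPts f k']
  unfold SgaExt.pointCount
  -- the map
  have hw : ∀ g : Spec (CommRingCat.of k') ⟶ X,
      g ≫ f = Spec.map (CommRingCat.ofHom (algebraMap k₀ k')) →
      (Spec.map ι ≫ g) ≫ f = 𝟙 _ ≫ Spec.map (CommRingCat.ofHom (algebraMap k₀ k)) := by
    intro g hg
    rw [Category.assoc, hg, ← Spec.map_comp, hcomp, Category.id_comp]
  let Θ : {g : Spec (CommRingCat.of k') ⟶ X //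
      g ≫ f = Spec.map (CommRingCat.ofHom (algebraMap k₀ k'))} →
      {σ : Spec (CommRingCat.of k) ⟶ Y // σ ≫ s = 𝟙 _ ∧ σ ≫ Φ = σ} := fun g =>
    ⟨hπ.lift (Spec.map ι ≫ g.1) (𝟙 _) (hw g.1 g.2), hπ.lift_snd _ _ _, by
      apply hπ.hom_ext
      · rw [Category.assoc, hΦπ, ← Category.assoc, hπ.lift_fst, Category.assoc,
          comp_eq_of_pow_eq G Q hGb hGapp hK' g.1]
      · rw [Category.assoc, hΦs]⟩
  have hΘ : ∀ g, (Θ g).1 ≫ π = Spec.map ι ≫ g.1 := fun g => hπ.lift_fst _ _ _
  refine (Nat.card_congr (Equiv.ofBijective Θ ⟨?_, ?_⟩)).symm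
  · intro g g' hgg
    apply Subtype.ext
    apply SpecMap_cancel' ι
    rw [← hΘ g, ← hΘ g', hgg]
  · rintro ⟨σ, hσs, hσΦ⟩
    have hx : (σ ≫ π) ≫ G = σ ≫ π := by
      rw [Category.assoc, ← hΦπ, ← Category.assoc, hσΦ]
    obtain ⟨g, hg⟩ := exists_descent G Q hGb hGapp ι hι (σ ≫ π) hx
    have hgf : g ≫ f = Spec.map (CommRingCat.ofHom (algebraMap k₀ k')) := by
      apply SpecMap_cancel ι
      rw [← Category.assoc, hg, Category.assoc, hπ.w, ← Category.assoc, hσs, Category.id_comp,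
        ← Spec.map_comp, hcomp]
    refine ⟨⟨g, hgf⟩, ?_⟩
    apply Subtype.ext
    apply hπ.hom_ext
    · rw [hΘ, hg]
    · change hπ.lift _ _ _ ≫ s = σ ≫ s
      rw [hπ.lift_snd, hσs]

end Count

end Groth.Agent.Lib.R2H7.WeilKPts
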