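import Mathlib

/-!
# Endomorphisms adjoint up to a scalar for a perfect pairing

`B : V × W → K` a perfect pairing, `φ`, `ψ` endomorphisms of `V`, `W` with
`B (φ a) (ψ b) = c * B a b`.  Then `det ψ * det φ = c ^ dim V` and
`det φ • (charpoly ψ).reverse = (-1) ^ dim V * (charpoly φ).comp (C c * X)`.
-/

set_option autoImplicit false
set_option linter.style.haveILetI false

namespace Groth.Agent.Lib.R2H7.WeilDualLin

open Polynomial Module

section Matrix

variable {K : Type*} [Field K] {n : Type*} [Fintype n] [DecidableEq n]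

/-- the characteristic polynomial composed with a polynomial -/
lemma charpoly_comp (M : Matrix n n K) (r : K[X]) :
    M.charpoly.comp r = (Matrix.scalar n r - M.map C).det := by
  unfold Matrix.charpoly
  have h := RingHom.map_det (Polynomial.compRingHom r) (Matrix.charmatrix M)
  rw [Polynomial.coe_compRingHom_apply] at h
  rw [h]
  congr 1
  ext i j
  rw [RingHom.mapMatrix_apply, Matrix.map_apply, Polynomial.coe_compRingHom_apply,
    Matrix.charmatrix_apply, Matrix.sub_apply, Matrix.scalar_apply, Matrix.map_apply,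
    Polynomial.sub_comp, Polynomial.C_comp, Matrix.diagonal_apply, Matrix.diagonal_apply]
  split_ifs
  · rw [Polynomial.X_comp]
  · rw [Polynomial.zero_comp]

lemma charpoly_relation (M N : Matrix n n K) (c : K) (h : N * M = c • (1 : Matrix n n K)) :
    M.det • N.charpoly.reverse =
      (-1 : K[X]) ^ Fintype.card n * M.charpoly.comp (C c * X) := by
  rw [Matrix.reverse_charpoly, Matrix.charpolyRev, charpoly_comp, Polynomial.smul_eq_C_mul]
  have h1 : C M.det = (M.map C).det := by
    rw [← RingHom.mapMatrix_apply, ← RingHom.map_det]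
  rw [h1, mul_comm, ← Matrix.det_mul]
  have h2 : (1 - (X : K[X]) • N.map C) * M.map C = -(Matrix.scalar n (C c * X) - M.map C) := by
    rw [sub_mul, one_mul, Matrix.smul_mul, ← Matrix.map_mul, h, neg_sub]
    congr 1
    ext i j
    simp only [Matrix.smul_apply, Matrix.map_apply, Matrix.scalar_apply, Matrix.diagonal_apply,
      Matrix.one_apply, smul_eq_mul]
    by_cases hij : i = j
    · subst hij
      simp only [if_true, mul_one]
      rw [mul_comm]
    · simp only [hij, if_false, mul_zero, map_zero]
  rw [h2, Matrix.det_neg]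

end Matrix

section Lin

variable {K : Type*} [Field K] {V W : Type*} [AddCommGroup V] [Module K V] [AddCommGroup W]
  [Module K W] [FiniteDimensional K V] [FiniteDimensional K W]
  (B : V →ₗ[K] W →ₗ[K] K) [B.IsPerfPair] (φ : V →ₗ[K] V) (ψ : W →ₗ[K] W) (c : K)
  (h : ∀ a b, B (φ a) (ψ b) = c * B a b)

omit [FiniteDimensional K V] [FiniteDimensional K W] in
include h in
lemma dualMap_comp_conj :
    ψ.dualMap ∘ₗ (B.toPerfPair.conj φ) = c • (LinearMap.id : Dual K W →ₗ[K] Dual K W) := by
  apply LinearMap.ext
  intro g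
  obtain ⟨a, rfl⟩ := B.toPerfPair.surjective g
  apply LinearMap.ext
  intro b
  rw [LinearMap.comp_apply, LinearEquiv.conj_apply, LinearMap.comp_apply, LinearMap.comp_apply,
    LinearEquiv.coe_coe, LinearEquiv.coe_coe, LinearEquiv.symm_apply_apply,
    LinearMap.dualMap_apply, LinearMap.toPerfPair_apply, h, LinearMap.smul_apply,
    LinearMap.id_apply, LinearMap.smul_apply, LinearMap.toPerfPair_apply, smul_eq_mul]

lemma charpoly_dualMap : ψ.dualMap.charpoly = ψ.charpoly := by
  classical
  set b := Module.Free.chooseBasis K W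
  haveI : Fintype (Module.Free.ChooseBasisIndex K W) := Module.Free.ChooseBasisIndex.fintype K W
  rw [← LinearMap.charpoly_toMatrix ψ b, ← LinearMap.charpoly_toMatrix ψ.dualMap b.dualBasis,
    LinearMap.dualMap_def, LinearMap.toMatrix_transpose, Matrix.charpoly_transpose]

include h in
/-- `det ψ * det φ = c ^ dim V` -/
theorem det_mul_det : LinearMap.det ψ * LinearMap.det φ = c ^ finrank K V := by
  have h1 := congrArg LinearMap.det (dualMap_comp_conj B φ ψ c h)
  rw [LinearMap.det_comp, LinearMap.det_dualMap, LinearMap.det_smul, LinearMap.det_id, mul_one,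
    LinearEquiv.conj_apply] at h1
  have h2 : LinearMap.det ((B.toPerfPair : V →ₗ[K] Dual K W) ∘ₗ φ ∘ₗ
      (B.toPerfPair.symm : Dual K W →ₗ[K] V)) = LinearMap.det φ := LinearMap.det_conj φ _
  rw [LinearMap.comp_assoc] at h1
  rw [h2, ← B.toPerfPair.finrank_eq] at h1
  exact h1

include h in
/-- `det φ • (charpoly ψ).reverse = (-1) ^ dim V * (charpoly φ).comp (C c * X)` -/
theorem charpoly_relation_lin :
    LinearMap.det φ • ψ.charpoly.reverse =
      (-1 : K[X]) ^ finrank K V * φ.charpoly.comp (C c * X) := by
  classical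
  set b := Module.Free.chooseBasis K (Dual K W)
  haveI : Fintype (Module.Free.ChooseBasisIndex K (Dual K W)) :=
    Module.Free.ChooseBasisIndex.fintype K (Dual K W)
  have h1 := congrArg (LinearMap.toMatrix b b) (dualMap_comp_conj B φ ψ c h)
  rw [LinearMap.toMatrix_comp b b b, map_smul, LinearMap.toMatrix_id] at h1
  have h2 := charpoly_relation _ _ c h1
  rw [LinearMap.charpoly_toMatrix, LinearMap.charpoly_toMatrix, LinearMap.det_toMatrix,
    charpoly_dualMap, LinearEquiv.charpoly_conj, ← Module.finrank_eq_card_basis b,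
    ← B.toPerfPair.finrank_eq] at h2
  have h3 : LinearMap.det (B.toPerfPair.conj φ) = LinearMap.det φ := by
    rw [LinearEquiv.conj_apply, LinearMap.comp_assoc]
    exact LinearMap.det_conj φ _
  rw [h3] at h2
  exact h2

end Lin

end Groth.Agent.Lib.R2H7.WeilDualLin
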