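import Groth.Agent.Lib.R2H7WeilFrobDeg
import Groth.Agent.Lib.R2H7WeilDualLin

/-!
# Frobenius on a Weil cohomology: trace scaling, determinants and characteristic polynomials
-/

set_option autoImplicit false
set_option linter.style.haveILetI false

namespace Groth.Agent.Lib.R2H7.WeilFrob

open AlgebraicGeometry CategoryTheory CategoryTheory.Limits
open Groth.Agent.Lib.Helper10.WeilPt

universe u v

section Main

variable (k₀ : Type u) [Field k₀] [Finite k₀] (k : Type u) [Field k] [IsAlgClosed k] [Algebra k₀ k]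
  (K : Type v) [Field K] [CharZero K] (T : WeilCoh.Theory k K)
  {X : Scheme.{u}} (f : X ⟶ Spec (CommRingCat.of k₀))
  (FX : X ⟶ X) (hFb : FX.base = 𝟙 _) (hle : ∀ U : X.Opens, U ≤ FX ⁻¹ᵁ U)
  (hFapp : ∀ (U : X.Opens) (s : Γ(X, U)), (FX.appLE U U (hle U)).hom s = s ^ Nat.card k₀)
  (Xb : WeilCoh.Var k) (π : Xb.obj.left ⟶ X)
  (hπ : IsPullback π Xb.obj.hom f (Spec.map (CommRingCat.ofHom (algebraMap k₀ k))))
  (F : Xb ⟶ Xb) (hF : WeilCoh.sm F ≫ π = π ≫ FX)

include hFb in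
lemma base_apply (x : X) : FX x = x := by
  change FX.base x = x
  rw [hFb]
  rfl

include hFb hFapp hπ hF in
/-- the Frobenius multiplies the trace by `q ^ dim` -/
theorem tr_pull_card (c : T.H Xb) :
    T.tr Xb (T.pull F c) = (Nat.card k₀ : K) ^ WeilCoh.dim Xb.obj.left * T.tr Xb c := by
  obtain ⟨p, hp⟩ := CharP.exists k₀
  haveI := hp
  haveI : Fintype k₀ := Fintype.ofFinite k₀
  haveI : Fact p.Prime := ⟨CharP.char_is_prime k₀ p⟩
  obtain ⟨e, he⟩ := FiniteField.card k₀ p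
  haveI : CharP k p := charP_of_injective_algebraMap (algebraMap k₀ k).injective p
  have hq : Nat.card k₀ = p ^ (e : ℕ) := by rw [Nat.card_eq_fintype_card, he.2]
  have hGapp : ∀ (U : X.Opens) (h : U ≤ FX ⁻¹ᵁ U) (a : Γ(X, U)),
      (FX.appLE U U h).hom a = a ^ p ^ (e : ℕ) := by
    intro U h a
    rw [← hq]
    exact hFapp U a
  rw [tr_pull Xb hπ FX p e (base_apply FX hFb) hGapp F hF T c, hq]
  push_cast
  rw [← pow_mul, ← pow_mul, mul_comm (e : ℕ)]

include hFb hFapp hπ hF in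
theorem pairing_pull (i j : ℤ) (a : T.gr Xb i) (b : T.gr Xb j) :
    WeilCoh.pairing K (T.gr Xb i) (T.gr Xb j) (T.tr Xb) (T.pullDeg F i a) (T.pullDeg F j b) =
      (Nat.card k₀ : K) ^ WeilCoh.dim Xb.obj.left *
        WeilCoh.pairing K (T.gr Xb i) (T.gr Xb j) (T.tr Xb) a b := by
  change T.tr Xb (T.pull F (a : T.H Xb) * T.pull F (b : T.H Xb)) = _ * T.tr Xb ((a : T.H Xb) * b)
  rw [← map_mul]
  exact tr_pull_card k₀ k K T f FX hFb hle hFapp Xb π hπ F hF _

include hFb hFapp hπ hF in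
theorem main15454 (i : ℤ) :
    LinearMap.det (T.pullDeg F (2 * (WeilCoh.dim Xb.obj.left : ℤ) - i)) *
        LinearMap.det (T.pullDeg F i) =
      (Nat.card k₀ : K) ^ (WeilCoh.dim Xb.obj.left * Module.finrank K ↥(T.gr Xb i)) := by
  haveI := T.duality Xb i (2 * (WeilCoh.dim Xb.obj.left : ℤ) - i) (by ring)
  rw [pow_mul]
  exact Groth.Agent.Lib.R2H7.WeilDualLin.det_mul_det
    (WeilCoh.pairing K (T.gr Xb i) (T.gr Xb (2 * (WeilCoh.dim Xb.obj.left : ℤ) - i)) (T.tr Xb))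
    (T.pullDeg F i) (T.pullDeg F (2 * (WeilCoh.dim Xb.obj.left : ℤ) - i)) _
    (pairing_pull k₀ k K T f FX hFb hle hFapp Xb π hπ F hF i _)

include hFb hFapp hπ hF in
theorem main15455 (i : ℤ) :
    LinearMap.det (T.pullDeg F i) •
        (LinearMap.charpoly (T.pullDeg F (2 * (WeilCoh.dim Xb.obj.left : ℤ) - i))).reverse =
      (-1 : Polynomial K) ^ Module.finrank K ↥(T.gr Xb i) *
        (LinearMap.charpoly (T.pullDeg F i)).comp
          (Polynomial.C ((Nat.card k₀ : K) ^ WeilCoh.dim Xb.obj.left) * Polynomial.X) := by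
  haveI := T.duality Xb i (2 * (WeilCoh.dim Xb.obj.left : ℤ) - i) (by ring)
  exact Groth.Agent.Lib.R2H7.WeilDualLin.charpoly_relation_lin
    (WeilCoh.pairing K (T.gr Xb i) (T.gr Xb (2 * (WeilCoh.dim Xb.obj.left : ℤ) - i)) (T.tr Xb))
    (T.pullDeg F i) (T.pullDeg F (2 * (WeilCoh.dim Xb.obj.left : ℤ) - i)) _
    (pairing_pull k₀ k K T f FX hFb hle hFapp Xb π hπ F hF i _)

end Main

end Groth.Agent.Lib.R2H7.WeilFrob
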