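import Groth.Agent.Lib.R2H7WeilCount
import Groth.Agent.Lib.R2H7WeilFrobMain
import Groth.Agent.Lib.Helper10WeilProj

/-!
# Fixed points of a Frobenius-like endomorphism of a variety: residue fields

General lemmas on points with values in fields, iterates of scheme endomorphisms, and the fact
that a point whose inclusion is fixed by a Frobenius-like endomorphism is `k`-rational.
-/

set_option autoImplicit false
set_option linter.style.haveILetI false

namespace Groth.Agent.Lib.R2H7.WeilFix

open AlgebraicGeometry CategoryTheory CategoryTheory.Limits IsLocalRing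
open Groth.Agent.Lib.R2H7.WeilKPts Groth.Agent.Lib.R2H7.WeilFrob

universe u v

section General

variable {X P : Scheme.{u}}

theorem ptMap_congr {K : Type u} [Field K] {g g' : Spec (CommRingCat.of K) ⟶ X} (e : g = g')
    (U : X.Opens) (h : ⊤ ≤ g ⁻¹ᵁ U) (h' : ⊤ ≤ g' ⁻¹ᵁ U) : ptMap g U h = ptMap g' U h' := by
  subst e; rfl

theorem fromSpecResidueField_closedPoint_mem (w : X) (V : X.Opens) (hw : w ∈ V) :
    (X.fromSpecResidueField w) (closedPoint (X.residueField w)) ∈ V :=
  (congrArg (fun y => y ∈ V) (Scheme.fromSpecResidueField_apply w _)).mpr hw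

theorem ptMap_SpecMap {R : CommRingCat.{u}} {K : Type u} [Field K] (α : R ⟶ CommRingCat.of K)
    (h : ⊤ ≤ (Spec.map α) ⁻¹ᵁ ⊤) :
    ptMap (Spec.map α) ⊤ h = (Scheme.ΓSpecIso R).hom ≫ α := by
  unfold ptMap
  have h2 : (Spec.map α).appLE ⊤ ⊤ h = (Spec.map α).appTop := by
    rw [Scheme.Hom.appTop, Scheme.Hom.app_eq_appLE]
    rfl
  rw [h2, Scheme.ΓSpecIso_naturality]

theorem ptMap_fromSpecResidueField (w : X) (V : X.Opens) (hV : IsAffineOpen V) (hw : w ∈ V)
    (h : ⊤ ≤ (X.fromSpecResidueField w) ⁻¹ᵁ V) :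
    ptMap (K := X.residueField w) (X.fromSpecResidueField w) V h =
      X.presheaf.germ V w hw ≫ X.residue w := by
  apply Spec.map_injective
  apply (cancel_mono hV.fromSpec).mp
  rw [← eq_SpecMap_ptMap (K := X.residueField w) _ V hV h]
  unfold Scheme.fromSpecResidueField
  rw [← hV.fromSpecStalk_eq_fromSpecStalk hw]
  unfold IsAffineOpen.fromSpecStalk
  rw [Spec.map_comp, Category.assoc]

theorem bijective_residueFieldMap_of_section (j : X ⟶ P) (p : P ⟶ X) (h : j ≫ p = 𝟙 X) (x : X) :
    Function.Bijective (p.residueFieldMap (j x)).hom := by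
  have h1 := Scheme.Hom.residueFieldMap_congr h x
  rw [Scheme.residueFieldMap_comp, Scheme.residueFieldMap_id] at h1
  have hj : Function.Injective (j.residueFieldMap x).hom := (j.residueFieldMap x).hom.injective
  have hsurj : Function.Surjective (j.residueFieldMap x).hom := by
    intro y
    set e := X.residueFieldCongr (show (j ≫ p) x = (𝟙 X : X ⟶ X) x by rw [h]) with he
    refine ⟨(p.residueFieldMap (j x)).hom (e.inv.hom y), ?_⟩
    have := congrArg (fun φ => φ.hom (e.inv.hom y)) h1
    refine this.trans ?_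
    have h2 : e.inv ≫ e.hom = 𝟙 _ := e.inv_hom_id
    have h3 := congrArg (fun φ => φ.hom y) h2
    exact h3
  refine ⟨(p.residueFieldMap (j x)).hom.injective, fun y => ?_⟩
  obtain ⟨z, hz⟩ : ∃ z, (j.residueFieldMap x).hom ((p.residueFieldMap (j x)).hom z) =
      (j.residueFieldMap x).hom y := by
    set e := X.residueFieldCongr (show (j ≫ p) x = (𝟙 X : X ⟶ X) x by rw [h]) with he
    refine ⟨e.inv.hom ((j.residueFieldMap x).hom y), ?_⟩
    have := congrArg (fun φ => φ.hom (e.inv.hom ((j.residueFieldMap x).hom y))) h1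
    refine this.trans ?_
    have h2 : e.inv ≫ e.hom = 𝟙 _ := e.inv_hom_id
    have h3 := congrArg (fun φ => φ.hom ((j.residueFieldMap x).hom y)) h2
    exact h3
  exact ⟨z, hj hz⟩

/-- two field-valued points with the same image point and the same composite with a morphism
inducing a surjection on residue fields are equal -/
theorem eq_of_comp_eq {L : Type u} [Field L] (g g' : Spec (CommRingCat.of L) ⟶ P) (r : P ⟶ X)
    (hr : g ≫ r = g' ≫ r) (e : g (closedPoint L) = g' (closedPoint L))
    (hs : Function.Surjective (r.residueFieldMap (g (closedPoint L))).hom) : g = g' := by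
  have h1 := Scheme.descResidueField_stalkClosedPointTo_fromSpecResidueField L P g
  have h1' := Scheme.descResidueField_stalkClosedPointTo_fromSpecResidueField L P g'
  set a := P.descResidueField (Scheme.stalkClosedPointTo g) with ha
  set a' := P.descResidueField (Scheme.stalkClosedPointTo g') with ha'
  have h2 : Spec.map ((P.residueFieldCongr e).hom ≫ a') ≫
      P.fromSpecResidueField (g (closedPoint L)) = g' := by
    rw [Spec.map_comp, Category.assoc, Scheme.residueFieldCongr_fromSpecResidueField, h1']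
  have h3 : ∀ b : P.residueField (g (closedPoint L)) ⟶ CommRingCat.of L,
      (Spec.map b ≫ P.fromSpecResidueField (g (closedPoint L))) ≫ r =
        Spec.map (r.residueFieldMap (g (closedPoint L)) ≫ b) ≫
          X.fromSpecResidueField (r (g (closedPoint L))) := by
    intro b
    rw [Category.assoc, ← Scheme.Hom.SpecMap_residueFieldMap_fromSpecResidueField,
      ← Category.assoc, ← Spec.map_comp]
  have h4 : r.residueFieldMap (g (closedPoint L)) ≫ a =
      r.residueFieldMap (g (closedPoint L)) ≫ ((P.residueFieldCongr e).hom ≫ a') := by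
    apply Spec.map_injective
    apply (cancel_mono (X.fromSpecResidueField (r (g (closedPoint L))))).mp
    rw [← h3, ← h3, h1, h2, hr]
  have h5 : a = (P.residueFieldCongr e).hom ≫ a' := by
    apply CommRingCat.hom_ext
    apply RingHom.ext
    intro y
    obtain ⟨y', rfl⟩ := hs y
    exact congrArg (fun φ => φ.hom y') h4
  rw [← h1, ← h2, h5]

end General

section FiniteField

/-- an element of an extension of an algebraically closed field `k ⊇ k₀` fixed by the
`|k₀| ^ m`-th power map lies in `k` -/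
theorem exists_of_pow_card_eq (k₀ : Type u) [Field k₀] [Finite k₀] (k : Type u) [Field k]
    [IsAlgClosed k] [Algebra k₀ k] (m : ℕ) (hm : 0 < m) {L : Type*} [Field L] (ρ : k →+* L)
    (ξ : L) (hξ : ξ ^ (Nat.card k₀ ^ m) = ξ) : ∃ c : k, ρ c = ξ := by
  classical
  obtain ⟨k', _, _, _, hfin⟩ := Groth.Agent.Lib.H6xZetaPts.exists_ext k₀ m hm
  haveI : Module.Finite k₀ k' := Module.Finite.of_finite
  haveI : Algebra.IsAlgebraic k₀ k' := Algebra.IsAlgebraic.of_finite k₀ k'
  let ι₀ : k' →ₐ[k₀] k := IsAlgClosed.lift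
  set Q := Nat.card k₀ ^ m with hQ
  haveI : Fintype k₀ := Fintype.ofFinite k₀
  haveI : Fintype k' := Fintype.ofFinite k'
  have hcard : Fintype.card k' = Q := by
    rw [Module.card_eq_pow_finrank (K := k₀) (V := k'), hfin, hQ, Nat.card_eq_fintype_card]
  have hK' : ∀ c : k', c ^ Q = c := by
    intro c
    rw [← hcard]
    exact FiniteField.pow_card c
  have hQ1 : 1 < Q := by
    rw [hQ]
    exact Nat.one_lt_pow hm.ne' (by rw [Nat.card_eq_fintype_card]; exact Fintype.one_lt_card)
  let τ : k' →+* L := ρ.comp ι₀.toRingHom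
  have hP : (Polynomial.X ^ Q - Polynomial.X : Polynomial L) ≠ 0 :=
    FiniteField.X_pow_card_sub_X_ne_zero L hQ1
  have hsub : (Finset.univ.image τ : Finset L) ⊆
      (Polynomial.X ^ Q - Polynomial.X : Polynomial L).roots.toFinset := by
    intro y hy
    obtain ⟨c', -, rfl⟩ := Finset.mem_image.mp hy
    rw [Multiset.mem_toFinset, Polynomial.mem_roots hP, Polynomial.IsRoot, Polynomial.eval_sub,
      Polynomial.eval_pow, Polynomial.eval_X, ← map_pow, hK', sub_self]
  have hle : (Polynomial.X ^ Q - Polynomial.X : Polynomial L).roots.toFinset.card ≤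
      (Finset.univ.image τ : Finset L).card := by
    rw [Finset.card_image_of_injective _ (show Function.Injective (⇑τ) from τ.injective),
      Finset.card_univ, hcard]
    refine (Multiset.toFinset_card_le _).trans ?_
    refine (Polynomial.card_roots' _).trans ?_
    rw [FiniteField.X_pow_card_sub_X_natDegree_eq L hQ1]
  have heq := Finset.eq_of_subset_of_card_le hsub hle
  have hc' : ξ ∈ (Polynomial.X ^ Q - Polynomial.X : Polynomial L).roots.toFinset := by
    rw [Multiset.mem_toFinset, Polynomial.mem_roots hP, Polynomial.IsRoot, Polynomial.eval_sub,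
      Polynomial.eval_pow, Polynomial.eval_X, hξ, sub_self]
  rw [← heq] at hc'
  obtain ⟨c', -, h⟩ := Finset.mem_image.mp hc'
  exact ⟨ι₀ c', h⟩

/-- `|k₀| ^ m` vanishes in any ring receiving `k₀` -/
theorem cast_card_pow_eq_zero (k₀ : Type u) [Field k₀] [Finite k₀] (m : ℕ) (hm : 0 < m)
    {L : Type*} [Ring L] (ρ : k₀ →+* L) : ((Nat.card k₀ ^ m : ℕ) : L) = 0 := by
  haveI : Fintype k₀ := Fintype.ofFinite k₀
  have h1 : ((Nat.card k₀ : ℕ) : k₀) = 0 := by
    rw [Nat.card_eq_fintype_card]
    exact FiniteField.cast_card_eq_zero k₀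
  have h2 : ((Nat.card k₀ ^ m : ℕ) : k₀) = 0 := by
    rw [Nat.cast_pow, h1, zero_pow hm.ne']
  rw [← map_natCast ρ, h2, map_zero]

end FiniteField

section IterS

variable {X : Scheme.{u}}

/-- iterates of a scheme endomorphism -/
noncomputable def iterS (G : X ⟶ X) : ℕ → (X ⟶ X)
  | 0 => 𝟙 X
  | (m + 1) => G ≫ iterS G m

lemma iterS_apply (G : X ⟶ X) (hGb : ∀ x : X, G x = x) (m : ℕ) (x : X) : iterS G m x = x := by
  induction m with
  | zero => rfl
  | succ m ih =>
    change (G ≫ iterS G m) x = x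
    rw [Scheme.Hom.comp_apply, hGb, ih]

lemma iterS_appLE (G : X ⟶ X) (q : ℕ) (hGb : ∀ x : X, G x = x)
    (hGapp : ∀ (U : X.Opens) (h : U ≤ G ⁻¹ᵁ U) (a : Γ(X, U)), (G.appLE U U h).hom a = a ^ q)
    (m : ℕ) (U : X.Opens) (h : U ≤ (iterS G m) ⁻¹ᵁ U) (a : Γ(X, U)) :
    ((iterS G m).appLE U U h).hom a = a ^ (q ^ m) := by
  induction m with
  | zero =>
    rw [pow_zero, pow_one]
    have : (𝟙 X : X ⟶ X).appLE U U h = 𝟙 _ := by
      simp only [Scheme.Hom.appLE, Scheme.Hom.id_app, Category.id_comp]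
      exact (congrArg X.presheaf.map (Subsingleton.elim (homOfLE h).op (𝟙 _))).trans
        (X.presheaf.map_id _)
    change ((𝟙 X : X ⟶ X).appLE U U h).hom a = a
    rw [this]
    rfl
  | succ m ih =>
    have hU1 : U ≤ G ⁻¹ᵁ U := le_preimage_G G hGb U
    have hU2 : U ≤ (iterS G m) ⁻¹ᵁ U := fun x hx => by
      change iterS G m x ∈ U
      rwa [iterS_apply G hGb]
    have h1 := Scheme.Hom.appLE_comp_appLE G (iterS G m) U U U hU2 hU1
    change ((G ≫ iterS G m).appLE U U h).hom a = _
    have h2 : ((G ≫ iterS G m).appLE U U h).hom a =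
        (G.appLE U U hU1).hom (((iterS G m).appLE U U hU2).hom a) := by
      rw [← h1]
      rfl
    rw [h2, ih hU2, hGapp, ← pow_mul, pow_succ]

end IterS

section IterVar

variable {k : Type u} [Field k] {P : ObjectProperty (Over (Spec (CommRingCat.of k)))}

open Groth.Agent.Lib.Helper10.WeilPt

lemma sm_iter {Xb : P.FullSubcategory} {X : Scheme.{u}} (F : Xb ⟶ Xb) (π : Xb.obj.left ⟶ X)
    (FX : X ⟶ X) (hF : WeilCoh.sm F ≫ π = π ≫ FX) (m : ℕ) :
    WeilCoh.sm (iter F m) ≫ π = π ≫ iterS FX m := by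
  induction m with
  | zero =>
    change 𝟙 _ ≫ π = π ≫ 𝟙 _
    rw [Category.id_comp, Category.comp_id]
  | succ m ih =>
    change (WeilCoh.sm F ≫ WeilCoh.sm (iter F m)) ≫ π = π ≫ (FX ≫ iterS FX m)
    rw [Category.assoc, ih, ← Category.assoc, hF, Category.assoc]

lemma pullDeg_iter {K : Type v} [Field K] (T : WeilCoh.TheoryOn.{u, v, max u v} k P K)
    {Xb : P.FullSubcategory} (F : Xb ⟶ Xb) (i : ℤ) (m : ℕ) :
    T.pullDeg (iter F m) i = (T.pullDeg F i) ^ m := by
  apply LinearMap.ext
  intro b
  apply Subtype.ext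
  exact pull_iter T F i m b

end IterVar

section FixedPts

open Groth.Agent.Lib.Helper4.VarDim

variable {X Y : Scheme.{u}} {k₀ k : Type u} [Field k₀] [Finite k₀] [Field k] [IsAlgClosed k]
  [Algebra k₀ k]
  {f : X ⟶ Spec (CommRingCat.of k₀)} {s : Y ⟶ Spec (CommRingCat.of k)} {π : Y ⟶ X}

omit [Finite k₀] [IsAlgClosed k] [Field k₀] [Algebra k₀ k] in
/-- evaluation of a constant -/
lemma eval_const (w : Y) (V : Y.Opens) (hV : IsAffineOpen V) (hw : w ∈ V)
    (c : Γ(Spec (CommRingCat.of k), ⊤)) :
    (Y.presheaf.germ V w hw ≫ Y.residue w).hom ((s.appLE ⊤ V (fun _ _ => trivial)).hom c) =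
      (strMap s w).hom ((Scheme.ΓSpecIso (CommRingCat.of k)).hom.hom c) := by
  have h0 : (⊤ : (Spec (Y.residueField w)).Opens) ≤ (Y.fromSpecResidueField w) ⁻¹ᵁ V :=
    top_le_preimage (K := Y.residueField w) _ V (fromSpecResidueField_closedPoint_mem w V hw)
  have h1 := ptMap_fromSpecResidueField w V hV hw h0
  have h2 := ptMap_comp (K := Y.residueField w) (Y.fromSpecResidueField w) s V ⊤ h0
    (fun _ _ => trivial) (fun _ _ => trivial)
  have h3 : Y.fromSpecResidueField w ≫ s = Spec.map (strMap s w) := (SpecMap_strMap s w).symm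
  have h4 := ptMap_congr (K := Y.residueField w) h3.symm ⊤ (fun _ _ => trivial)
    (fun _ _ => trivial)
  have h5 := ptMap_SpecMap (K := Y.residueField w) (strMap s w) (fun _ _ => trivial)
  have h6 : (Scheme.ΓSpecIso (CommRingCat.of k)).hom ≫ strMap s w =
      s.appLE ⊤ V (fun _ _ => trivial) ≫ (Y.presheaf.germ V w hw ≫ Y.residue w) :=
    h5.symm.trans (h4.trans (h2.trans
      (congrArg (fun t => s.appLE ⊤ V (fun _ _ => trivial) ≫ t) h1)))
  exact (congrArg (fun φ => φ.hom c) h6).symm

variable (hπ : IsPullback π s f (Spec.map (CommRingCat.ofHom (algebraMap k₀ k))))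
  (G : X ⟶ X) (m : ℕ) (hm : 0 < m) (hGb : ∀ x : X, G x = x)
  (hGapp : ∀ (U : X.Opens) (h : U ≤ G ⁻¹ᵁ U) (a : Γ(X, U)),
    (G.appLE U U h).hom a = a ^ (Nat.card k₀ ^ m))
  (Φ : Y ⟶ Y) (hΦπ : Φ ≫ π = π ≫ G)

include hπ hm hGb hGapp hΦπ in
/-- a point whose inclusion is fixed by a Frobenius-like endomorphism is `k`-rational -/
theorem bijective_strMap_of_fixed (w : Y)
    (hw : Y.fromSpecResidueField w ≫ Φ = Y.fromSpecResidueField w) :
    Function.Bijective (strMap s w).hom := by
  refine ⟨(strMap s w).hom.injective, ?_⟩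
  obtain ⟨U, hU, hxU, -⟩ := exists_isAffineOpen_mem_and_subset (U := ⊤) (x := π w) trivial
  have hwV : w ∈ chart s π U := (mem_chart_iff s π U w).mpr hxU
  have hV := isAffineOpen_chart hπ hU
  letI : Y.Over (Spec (CommRingCat.of k)) := ⟨s⟩
  have h0 : (⊤ : (Spec (Y.residueField w)).Opens) ≤
      (Y.fromSpecResidueField w) ⁻¹ᵁ (chart s π U) :=
    top_le_preimage (K := Y.residueField w) _ _ (fromSpecResidueField_closedPoint_mem w _ hwV)
  have h0' : (⊤ : (Spec (Y.residueField w)).Opens) ≤
      (Y.fromSpecResidueField w ≫ π) ⁻¹ᵁ U :=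
    top_le_preimage (K := Y.residueField w) _ _
      ((congrArg (fun y => π y ∈ U) (Scheme.fromSpecResidueField_apply w _)).mpr hxU)
  have hx : (Y.fromSpecResidueField w ≫ π) ≫ G = Y.fromSpecResidueField w ≫ π := by
    rw [Category.assoc, ← hΦπ, ← Category.assoc, hw]
  let P' : Subring Γ(Y, chart s π U) :=
    (strMap s w).hom.fieldRange.toSubring.comap
      (Y.presheaf.germ (chart s π U) w hwV ≫ Y.residue w).hom
  have hall : ∀ b, b ∈ P' := by
    intro b
    refine chart_induction hπ hU P' ?_ ?_ b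
    · intro a
      change (Y.presheaf.germ (chart s π U) w hwV ≫ Y.residue w).hom _ ∈
        (strMap s w).hom.fieldRange
      have h1 := ptMap_fromSpecResidueField w _ hV hwV h0
      have h2 := ptMap_comp (K := Y.residueField w) (Y.fromSpecResidueField w) π (chart s π U) U
        h0 inf_le_left h0'
      have h3 := ptMap_pow_of_comp_eq (K := Y.residueField w) G (Nat.card k₀ ^ m) hGb hGapp _ hx
        U h0' a
      have h21 : ptMap (K := Y.residueField w) (Y.fromSpecResidueField w ≫ π) U h0' =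
          π.appLE U (chart s π U) inf_le_left ≫
            (Y.presheaf.germ (chart s π U) w hwV ≫ Y.residue w) :=
        h2.trans (congrArg (fun t => π.appLE U (chart s π U) inf_le_left ≫ t) h1)
      rw [h21] at h3
      obtain ⟨c, hc⟩ := exists_of_pow_card_eq k₀ k m hm (strMap s w).hom _ h3
      exact ⟨c, hc⟩
    · intro c
      change (Y.presheaf.germ (chart s π U) w hwV ≫ Y.residue w).hom _ ∈
        (strMap s w).hom.fieldRange
      rw [eval_const w _ hV hwV c]
      exact ⟨_, rfl⟩
  intro z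
  obtain ⟨a, t, hz⟩ := evₐ_frac k Y hV w hwV z
  have ha : (Y.presheaf.germ (chart s π U) w hwV ≫ Y.residue w).hom a ∈
      (strMap s w).hom.fieldRange := hall a
  have ht : (Y.presheaf.germ (chart s π U) w hwV ≫ Y.residue w).hom t ∈
      (strMap s w).hom.fieldRange := hall t
  have hdiv := div_mem ha ht
  rw [evₐ_apply, evₐ_apply] at hz
  rw [← hz] at hdiv
  exact RingHom.mem_fieldRange.mp hdiv

end FixedPts

end Groth.Agent.Lib.R2H7.WeilFix
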