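import Groth.Agent.Lib.R2H7WeilFixA

/-!
# Fixed points of a Frobenius-like endomorphism: multiplicity one

The graph of a Frobenius-like endomorphism meets the diagonal transversally: the ideal generated
in the local ring of a fixed point `w` by the pull-back of the ideal of the graph is the maximal
ideal.
-/

set_option autoImplicit false
set_option linter.style.haveILetI false

namespace Groth.Agent.Lib.R2H7.WeilFix

open AlgebraicGeometry CategoryTheory CategoryTheory.Limits IsLocalRing
open Groth.Agent.Lib.R2H7.WeilKPts Groth.Agent.Lib.R2H7.WeilFrob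

universe u v

section Mult

variable {X P : Scheme.{u}}

/-- `appLE` version of the naturality of evaluation -/
lemma residueFieldMap_eval' (j : X ⟶ P) (W : P.Opens) (V : X.Opens) (e : V ≤ j ⁻¹ᵁ W) (x : X)
    (hx : x ∈ V) (g : Γ(P, W)) :
    (j.residueFieldMap x).hom
        ((P.presheaf.germ W (j x) (show x ∈ j ⁻¹ᵁ W from e hx) ≫ P.residue (j x)).hom g) =
      (X.presheaf.germ V x hx ≫ X.residue x).hom ((j.appLE W V e).hom g) := by
  have h1 := Scheme.evaluation_naturality_apply j x (show x ∈ j ⁻¹ᵁ W from e hx) g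
  have h2 : (j.appLE W V e).hom g = (X.presheaf.map (homOfLE e).op).hom ((j.app W).hom g) := rfl
  rw [h2]
  have h3 := X.presheaf.germ_res_apply (homOfLE e) x hx ((j.app W).hom g)
  change _ = (X.residue x).hom ((X.presheaf.germ V x hx).hom _)
  erw [h3]
  exact h1

/-- a section near `d w` whose pull-back along `j` vanishes lies, after pull-back along `d`, in the
ideal of the inverse image of the closure of `j η` -/
theorem germ_mem_map_ker (j d : X ⟶ P) (η w : X) (hspec : d w ∈ closure ({j η} : Set P))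
    (W : P.Opens) (V : X.Opens) (hj : V ≤ j ⁻¹ᵁ W) (hd : V ≤ d ⁻¹ᵁ W) (hηV : η ∈ V) (hwV : w ∈ V)
    (g : Γ(P, W)) (hg : (j.appLE W V hj).hom g = 0) :
    (X.presheaf.germ V w hwV).hom ((d.appLE W V hd).hom g) ∈
      Ideal.map (d.stalkMap w).hom
        (RingHom.ker (Cyc.specMap (d w) (j η) (specializes_iff_mem_closure.mpr hspec))) := by
  have hz : d w ∈ W := (show w ∈ d ⁻¹ᵁ W from hd hwV)
  have hζ : j η ∈ W := (show η ∈ j ⁻¹ᵁ W from hj hηV)
  have hker : (P.presheaf.germ W (d w) hz).hom g ∈
      RingHom.ker (Cyc.specMap (d w) (j η) (specializes_iff_mem_closure.mpr hspec)) := by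
    rw [RingHom.mem_ker]
    unfold Cyc.specMap
    have h1 := TopCat.Presheaf.germ_stalkSpecializes P.presheaf hz
      (specializes_iff_mem_closure.mpr hspec)
    have h2 : (P.presheaf.stalkSpecializes (specializes_iff_mem_closure.mpr hspec) ≫
          P.residue (j η)).hom ((P.presheaf.germ W (d w) hz).hom g) =
        (P.presheaf.germ W (j η) hζ ≫ P.residue (j η)).hom g := by
      rw [← h1]
      rfl
    rw [h2]
    apply (j.residueFieldMap η).hom.injective
    rw [residueFieldMap_eval' j W V hj η hηV g, hg, map_zero, map_zero]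
  have h3 := Ideal.mem_map_of_mem (d.stalkMap w).hom hker
  have h4 : (d.stalkMap w).hom ((P.presheaf.germ W (d w) hz).hom g) =
      (X.presheaf.germ V w hwV).hom ((d.appLE W V hd).hom g) := by
    have h5 := Scheme.Hom.germ_stalkMap_apply d W w hz g
    have h6 : (d.appLE W V hd).hom g = (X.presheaf.map (homOfLE hd).op).hom ((d.app W).hom g) :=
      rfl
    rw [h6]
    have h7 := X.presheaf.germ_res_apply (homOfLE hd) w hwV ((d.app W).hom g)
    exact h5.trans h7.symm
  rwa [h4] at h3

lemma length_quot_eq_one_of_eq_maximalIdeal {R : Type*} [CommRing R] [IsLocalRing R]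
    (I : Ideal R) (h : I = maximalIdeal R) : Module.length R (R ⧸ I) = 1 := by
  rw [Module.length_eq_one_iff, isSimpleModule_iff_isCoatom]
  subst h
  exact Ideal.isMaximal_def.mp (maximalIdeal.isMaximal R)

end Mult

section Frob

variable {X Y : Scheme.{u}} {k₀ k : Type u} [Field k₀] [Finite k₀] [Field k] [IsAlgClosed k]
  [Algebra k₀ k]
  {f : X ⟶ Spec (CommRingCat.of k₀)} {s : Y ⟶ Spec (CommRingCat.of k)} {π : Y ⟶ X}
  (hπ : IsPullback π s f (Spec.map (CommRingCat.ofHom (algebraMap k₀ k))))
  (G : X ⟶ X) (m : ℕ) (hm : 0 < m) (hGb : ∀ x : X, G x = x)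
  (hGapp : ∀ (U : X.Opens) (h : U ≤ G ⁻¹ᵁ U) (a : Γ(X, U)),
    (G.appLE U U h).hom a = a ^ (Nat.card k₀ ^ m))
  (Φ : Y ⟶ Y) (hΦs : Φ ≫ s = s) (hΦπ : Φ ≫ π = π ≫ G)

include hπ hm hGb hGapp hΦs hΦπ in
/-- an ideal of the local ring at a rational point containing all `b - Φ^* b` contains the
maximal ideal -/
theorem maximalIdeal_le_of_frob (w : Y) (hbij : Function.Bijective (strMap s w).hom)
    {U : X.Opens} (hU : IsAffineOpen U) (hwV : w ∈ chart s π U)
    (I : Ideal (Y.presheaf.stalk w)) (hI1 : I ≠ ⊤)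
    (hI : ∀ b : Γ(Y, chart s π U),
      (Y.presheaf.germ _ w hwV).hom b -
        (Y.presheaf.germ _ w hwV).hom
          ((Φ.appLE _ _ (chart_le G hGb Φ hΦπ U)).hom b) ∈ I) :
    maximalIdeal (Y.presheaf.stalk w) ≤ I := by
  classical
  have hV := isAffineOpen_chart hπ hU
  set gm : Γ(Y, (chart s π U)) →+* Y.presheaf.stalk w := (Y.presheaf.germ (chart s π U) w hwV).hom with hgm
  set res : Y.presheaf.stalk w →+* Y.residueField w := (Y.residue w).hom with hres
  set sc : Γ(Spec (CommRingCat.of k), ⊤) →+* Γ(Y, (chart s π U)) :=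
    (s.appLE ⊤ (chart s π U) (fun _ _ => trivial)).hom with hsc
  set Q := Nat.card k₀ ^ m with hQ
  have hIm : I ≤ maximalIdeal (Y.presheaf.stalk w) := le_maximalIdeal hI1
  have hres0 : ∀ x : Y.presheaf.stalk w, res x = 0 ↔ x ∈ maximalIdeal (Y.presheaf.stalk w) :=
    fun x => IsLocalRing.residue_eq_zero_iff x
  -- evaluation of constants
  have hconst : ∀ c, res (gm (sc c)) =
      (strMap s w).hom ((Scheme.ΓSpecIso (CommRingCat.of k)).hom.hom c) := fun c =>
    eval_const w (chart s π U) hV hwV c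
  have hΓbij : Function.Bijective (Scheme.ΓSpecIso (CommRingCat.of k)).hom.hom :=
    ConcreteCategory.bijective_of_isIso (Scheme.ΓSpecIso (CommRingCat.of k)).hom
  have hinj : ∀ c c', res (gm (sc c)) = res (gm (sc c')) → c = c' := by
    intro c c' h
    rw [hconst, hconst] at h
    exact hΓbij.1 (hbij.1 h)
  have hQ0 : ((Q : ℕ) : Y.residueField w) = 0 :=
    cast_card_pow_eq_zero k₀ m hm ((strMap s w).hom.comp (algebraMap k₀ k))
  set J : Ideal Γ(Y, (chart s π U)) := I.comap gm with hJ
  let P' : Subring Γ(Y, (chart s π U)) :=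
    (RingHom.range ((Ideal.Quotient.mk J).comp sc)).comap (Ideal.Quotient.mk J)
  have hmemP : ∀ b, b ∈ P' ↔ ∃ c, b - sc c ∈ J := by
    intro b
    constructor
    · rintro ⟨c, hc⟩
      refine ⟨c, ?_⟩
      rw [← Ideal.Quotient.eq]
      exact hc.symm
    · rintro ⟨c, hc⟩
      refine ⟨c, ?_⟩
      rw [← Ideal.Quotient.eq] at hc
      exact hc.symm
  have hall : ∀ b, b ∈ P' := by
    intro b
    refine chart_induction hπ hU P' ?_ ?_ b
    · intro a
      set t : Γ(Y, (chart s π U)) := (π.appLE U (chart s π U) inf_le_left).hom a with ht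
      rw [hmemP]
      -- the constant
      obtain ⟨c₁, hc₁⟩ := hbij.2 (res (gm t))
      obtain ⟨c₀, hc₀⟩ := hΓbij.2 c₁
      have hev : res (gm (sc c₀)) = res (gm t) := by rw [hconst, hc₀, hc₁]
      -- `t - t ^ Q ∈ J`
      have htQ : t - t ^ Q ∈ J := by
        have := hI t
        rw [phi_pi G (Nat.card k₀ ^ m) hGb hGapp Φ hΦπ U a] at this
        change gm (t - t ^ Q) ∈ I
        rw [map_sub]
        exact this
      have hevQ : res (gm t) ^ Q = res (gm t) := by
        have h1 : res (gm (t - t ^ Q)) = 0 := (hres0 _).mpr (hIm htQ)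
        rw [map_sub, map_sub, map_pow, map_pow, sub_eq_zero] at h1
        exact h1.symm
      have hc₀Q : c₀ ^ Q = c₀ := by
        apply hinj
        rw [map_pow, map_pow, map_pow, hev, hevQ]
      refine ⟨c₀, ?_⟩
      set u : Γ(Y, (chart s π U)) := t - sc c₀ with hu
      set Γ' : Γ(Y, (chart s π U)) := ∑ i ∈ Finset.range Q, t ^ i * (sc c₀) ^ (Q - 1 - i) with hΓ'
      have hgeom : Γ' * u = t ^ Q - sc c₀ := by
        rw [hΓ', hu, geom_sum₂_mul]
        congr 1
        rw [← map_pow, hc₀Q]
      have hfact : t - t ^ Q = (1 - Γ') * u := by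
        rw [sub_mul, one_mul, hgeom, hu]
        ring
      have hevΓ : res (gm Γ') = 0 := by
        rw [hΓ', map_sum, map_sum]
        have : ∀ i ∈ Finset.range Q, res (gm (t ^ i * (sc c₀) ^ (Q - 1 - i))) =
            res (gm t) ^ (Q - 1) := by
          intro i hi
          rw [map_mul, map_mul, map_pow, map_pow, map_pow, map_pow, hev, ← pow_add]
          congr 1
          have := Finset.mem_range.mp hi
          omega
        rw [Finset.sum_congr rfl this, Finset.sum_const, Finset.card_range, nsmul_eq_mul, hQ0,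
          zero_mul]
      have hunit : IsUnit (gm (1 - Γ')) := by
        rw [← IsLocalRing.notMem_maximalIdeal, ← hres0, map_sub, map_sub, hevΓ, map_one, map_one,
          sub_zero]
        exact one_ne_zero
      have h2 : gm (1 - Γ') * gm u ∈ I := by
        rw [← map_mul, ← hfact]
        exact htQ
      exact (Ideal.unit_mul_mem_iff_mem I hunit).mp h2
    · intro c
      rw [hmemP]
      exact ⟨c, by rw [sub_self]; exact J.zero_mem⟩
  -- conclusion
  intro x hx
  letI := TopCat.Presheaf.algebra_section_stalk Y.presheaf ⟨w, hwV⟩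
  haveI := hV.isLocalization_stalk ⟨w, hwV⟩
  obtain ⟨b, t, hmk⟩ :=
    IsLocalization.exists_mk'_eq (hV.primeIdealOf ⟨w, hwV⟩).asIdeal.primeCompl x
  have h1 : x * gm t.1 = gm b := by
    rw [← hmk]
    exact IsLocalization.mk'_spec _ b t
  have htu : IsUnit (gm t.1) := by
    rw [← IsLocalRing.notMem_maximalIdeal, ← hres0]
    intro h
    exact t.2 ((Groth.Agent.Lib.Helper4.VarDim.mem_primeIdealOf_iff hV w hwV t.1).mpr h)
  obtain ⟨c, hc⟩ := (hmemP b).mp (hall b)
  have hc' : gm b - gm (sc c) ∈ I := by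
    have : gm (b - sc c) ∈ I := hc
    rwa [map_sub] at this
  have hbm : gm b ∈ maximalIdeal (Y.presheaf.stalk w) := by
    rw [← h1]
    exact Ideal.mul_mem_right _ _ hx
  have hscm : gm (sc c) ∈ maximalIdeal (Y.presheaf.stalk w) := by
    have := (maximalIdeal (Y.presheaf.stalk w)).sub_mem hbm (hIm hc')
    rwa [sub_sub_cancel] at this
  have hc0 : c = 0 := by
    apply hinj
    rw [map_zero, map_zero, map_zero]
    exact (hres0 _).mpr hscm
  rw [hc0, map_zero, map_zero, sub_zero, ← h1] at hc'
  exact (Ideal.mul_unit_mem_iff_mem I htu).mp hc'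

end Frob

end Groth.Agent.Lib.R2H7.WeilFix
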