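import Mathlib
import Groth.Agent.Lib.Helper24LogDeriv
import Groth.Agent.Lib.H6xZetaPts3

/-!
# From the trace formula to the cohomological formula for the zeta function (power series part)

If `N m = ∑ (-1)^i tr(φ_i ^ m)` for all `m ≥ 1`, then
`exp(∑ N_m t^m / m) * ∏ det(1 - t φ_{2l}) = ∏ det(1 - t φ_{2l+1})`.
-/

set_option autoImplicit false
set_option linter.style.haveILetI false

namespace Groth.Agent.Lib.R2H7.WeilZetaPS

open PowerSeries Groth.Agent.Lib.Helper27LogDeriv Finset

universe w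

section Alt

lemma sum_alt_split {A : Type*} [AddCommGroup A] (g : ℕ → A) (n : ℕ) :
    ∑ i ∈ range (2 * n + 1), (-1 : ℤ) ^ i • g i =
      ∑ l ∈ range (n + 1), g (2 * l) - ∑ l ∈ range n, g (2 * l + 1) := by
  induction n with
  | zero => simp
  | succ n ih =>
    have e1 : ∑ l ∈ range (n + 1), g (2 * l + 1) =
        ∑ l ∈ range n, g (2 * l + 1) + g (2 * n + 1) := sum_range_succ _ _
    have e2 : ∑ l ∈ range (n + 1 + 1), g (2 * l) =
        ∑ l ∈ range (n + 1), g (2 * l) + g (2 * (n + 1)) := sum_range_succ _ _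
    have e3 : ∑ i ∈ range (2 * (n + 1) + 1), (-1 : ℤ) ^ i • g i =
        ∑ i ∈ range (2 * n + 1), (-1 : ℤ) ^ i • g i + (-1 : ℤ) ^ (2 * n + 1) • g (2 * n + 1) +
          (-1 : ℤ) ^ (2 * (n + 1)) • g (2 * (n + 1)) := by
      rw [show 2 * (n + 1) + 1 = 2 * n + 1 + 1 + 1 by ring, sum_range_succ, sum_range_succ,
        show 2 * n + 1 + 1 = 2 * (n + 1) by ring]
    rw [e1, e2, e3, ih, pow_succ, pow_mul, pow_mul]
    simp only [neg_one_sq, one_pow, one_mul, one_smul, neg_smul]
    abel

end Alt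

variable {K : Type*} [Field K] [CharZero K]

section LinearMap

variable {V : Type*} [AddCommGroup V] [Module K V] [FiniteDimensional K V] (φ : V →ₗ[K] V)

/-- logarithmic derivative of `det(1 - t φ)` -/
theorem ld_charpoly_reverse :
    LD ((φ.charpoly.reverse : Polynomial K) : K⟦X⟧)
      (-(PowerSeries.mk fun m => LinearMap.trace K V (φ ^ (m + 1)))) := by
  classical
  set b := Module.Free.chooseBasis K V
  set A := LinearMap.toMatrix b b φ with hA
  have h1 : φ.charpoly.reverse = A.charpolyRev := by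
    rw [← Matrix.reverse_charpoly]
    rfl
  have h2 : ∀ m : ℕ, LinearMap.trace K V (φ ^ (m + 1)) = (A ^ (m + 1)).trace := by
    intro m
    rw [LinearMap.trace_eq_matrix_trace K b, LinearMap.toMatrix_pow]
  have hcoe : ∀ p : Polynomial K, (p : PowerSeries K) =
      Polynomial.aeval (PowerSeries.X : PowerSeries K) p := by
    intro p
    rw [Polynomial.aeval_def]
    exact Polynomial.eval₂_C_X_eq_coe.symm
  unfold LD
  rw [h1, derivative_coe, hcoe (Polynomial.derivative _), hcoe A.charpolyRev,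
    Groth.Agent.Lib.Helper24LogDeriv.aeval_derivative_charpolyRev, mul_neg]
  congr 2
  ext m
  rw [coeff_mk, coeff_mk, h2]

theorem coeff_zero_charpoly_reverse :
    coeff 0 ((φ.charpoly.reverse : Polynomial K) : K⟦X⟧) = 1 := by
  rw [Polynomial.coeff_coe, Polynomial.coeff_zero_reverse, (LinearMap.charpoly_monic φ).leadingCoeff]

end LinearMap

section Main

variable [Algebra ℚ K]

omit [CharZero K] in
lemma coeff_zero_prod_eq_one {ι : Type*} (s : Finset ι) (P : ι → K⟦X⟧)
    (h : ∀ i ∈ s, coeff 0 (P i) = 1) : coeff 0 (∏ i ∈ s, P i) = 1 := by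
  classical
  induction s using Finset.induction_on with
  | empty => simp
  | insert a s ha ih =>
    rw [prod_insert ha, coeff_mul]
    simp only [Finset.Nat.antidiagonal_zero, Finset.sum_singleton]
    rw [h a (mem_insert_self a s), ih (fun i hi => h i (mem_insert_of_mem hi)), mul_one]

theorem zeta_identity (n : ℕ) (V : ℕ → Type w) [∀ i, AddCommGroup (V i)] [∀ i, Module K (V i)]
    [∀ i, FiniteDimensional K (V i)] (φ : ∀ i, V i →ₗ[K] V i) (N : ℕ → ℕ)
    (hN : ∀ m, 1 ≤ m → (N m : K) =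
      ∑ i ∈ range (2 * n + 1), (-1 : K) ^ i * LinearMap.trace K (V i) (φ i ^ m)) :
    PowerSeries.map (algebraMap ℚ K)
        (PowerSeries.subst (PowerSeries.mk fun m => (N m : ℚ) / m) (PowerSeries.exp ℚ)) *
        (∏ l ∈ range (n + 1), (((φ (2 * l)).charpoly.reverse : Polynomial K) : K⟦X⟧)) =
      ∏ l ∈ range n, (((φ (2 * l + 1)).charpoly.reverse : Polynomial K) : K⟦X⟧) := by
  set L : ℚ⟦X⟧ := PowerSeries.mk fun m => (N m : ℚ) / m with hL
  have hL0 : constantCoeff L = 0 := by
    rw [← coeff_zero_eq_constantCoeff_apply, hL, coeff_mk]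
    simp
  set LK : K⟦X⟧ := PowerSeries.map (algebraMap ℚ K) L with hLK
  have hLK0 : constantCoeff LK = 0 := by
    rw [hLK, ← coeff_zero_eq_constantCoeff_apply, coeff_map, coeff_zero_eq_constantCoeff_apply, hL0,
      map_zero]
  have hZ : PowerSeries.map (algebraMap ℚ K) (PowerSeries.subst L (PowerSeries.exp ℚ)) =
      (PowerSeries.exp K).subst LK := Groth.Agent.Lib.H6xZetaPts.map_exp_subst L hL0
  rw [hZ]
  -- the trace series
  set S : ℕ → K⟦X⟧ := fun i => PowerSeries.mk fun m => LinearMap.trace K (V i) (φ i ^ (m + 1))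
    with hS
  have hdL : d⁄dX K LK = ∑ l ∈ range (n + 1), S (2 * l) - ∑ l ∈ range n, S (2 * l + 1) := by
    ext m
    rw [coeff_derivative, hLK, coeff_map, hL, coeff_mk, map_sub, map_sum, map_sum]
    simp only [hS, coeff_mk]
    have h1 := hN (m + 1) (Nat.le_add_left 1 m)
    have h2 := sum_alt_split (fun i => LinearMap.trace K (V i) (φ i ^ (m + 1))) n
    have h3 : ∑ i ∈ range (2 * n + 1), (-1 : K) ^ i * LinearMap.trace K (V i) (φ i ^ (m + 1)) =
        ∑ i ∈ range (2 * n + 1), (-1 : ℤ) ^ i • LinearMap.trace K (V i) (φ i ^ (m + 1)) := by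
      refine sum_congr rfl (fun i _ => ?_)
      rw [zsmul_eq_mul]
      push_cast
      rfl
    rw [← h2, ← h3, ← h1]
    have hm : ((m + 1 : ℕ) : K) ≠ 0 := by exact_mod_cast Nat.succ_ne_zero m
    rw [map_div₀, map_natCast, map_natCast]
    push_cast at hm ⊢
    field_simp
  have hA := (Groth.Agent.Lib.H6xZetaPts.LD.exp_subst' LK hLK0).mul
    (LD.prod (range (n + 1)) (fun l => (((φ (2 * l)).charpoly.reverse : Polynomial K) : K⟦X⟧))
      (fun l => -S (2 * l)) (fun l _ => ld_charpoly_reverse (φ (2 * l))))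
  have hB := LD.prod (range n)
    (fun l => (((φ (2 * l + 1)).charpoly.reverse : Polynomial K) : K⟦X⟧))
    (fun l => -S (2 * l + 1)) (fun l _ => ld_charpoly_reverse (φ (2 * l + 1)))
  have hSS : d⁄dX K LK + ∑ l ∈ range (n + 1), -S (2 * l) = ∑ l ∈ range n, -S (2 * l + 1) := by
    rw [hdL, sum_neg_distrib, sum_neg_distrib]
    abel
  refine Groth.Agent.Lib.H6xZetaPts.LD.unique' (hA.congr hSS) hB ?_
  rw [coeff_mul]
  simp only [Finset.Nat.antidiagonal_zero, Finset.sum_singleton]
  rw [Groth.Agent.Lib.H6xZetaPts.coeff_zero_exp_subst' LK hLK0,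
    coeff_zero_prod_eq_one _ _ (fun l _ => coeff_zero_charpoly_reverse (φ (2 * l))),
    coeff_zero_prod_eq_one _ _ (fun l _ => coeff_zero_charpoly_reverse (φ (2 * l + 1))), mul_one]

end Main

end Groth.Agent.Lib.R2H7.WeilZetaPS
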