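import Groth.Agent.Lib.R2H7WeilFixB
import Groth.Agent.Lib.R2H7WeilZetaPS

/-!
# The Lefschetz fixed point count for the Frobenius and the zeta function

* `tr_graph_mul_diag`: if the graph of `φ` meets the diagonal in closed points with multiplicity
  one, `tr (cl Γ_φ · cl Δ)` is the number of these points;
* for a Frobenius-like `φ` this number is `N_m`;
* `main15452`: the zeta function of `X` as an alternating product of characteristic polynomials.
-/

set_option autoImplicit false
set_option linter.style.haveILetI false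

namespace Groth.Agent.Lib.R2H7.WeilFix

open AlgebraicGeometry CategoryTheory CategoryTheory.Limits IsLocalRing
open Groth.Agent.Lib.R2H7.WeilKPts Groth.Agent.Lib.R2H7.WeilFrob Groth.Agent.Lib.Helper10.WeilPt

universe u v

section Aux

lemma id_appLE {X : Scheme.{u}} (U : X.Opens) (h : U ≤ (𝟙 X : X ⟶ X) ⁻¹ᵁ U) :
    (𝟙 X : X ⟶ X).appLE U U h = 𝟙 _ := by
  simp only [Scheme.Hom.appLE, Scheme.Hom.id_app, Category.id_comp]
  exact (congrArg X.presheaf.map (Subsingleton.elim (homOfLE h).op (𝟙 _))).trans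
    (X.presheaf.map_id _)

lemma appLE_appLE_apply {X Y Z : Scheme.{u}} (f : X ⟶ Y) (g : Y ⟶ Z) (h : X ⟶ Z)
    (e : f ≫ g = h) (U : Z.Opens) (V : Y.Opens) (W : X.Opens) (e₁ : V ≤ g ⁻¹ᵁ U)
    (e₂ : W ≤ f ⁻¹ᵁ V) (e₃ : W ≤ h ⁻¹ᵁ U) (x : Γ(Z, U)) :
    (f.appLE V W e₂).hom ((g.appLE U V e₁).hom x) = (h.appLE U W e₃).hom x := by
  subst e
  have := Scheme.Hom.appLE_comp_appLE f g U V W e₁ e₂
  exact congrArg (fun ψ => ψ.hom x) this

lemma comp_apply_of_eq_id {X Y : Scheme.{u}} (f : X ⟶ Y) (g : Y ⟶ X) (e : f ≫ g = 𝟙 X) (x : X) :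
    g (f x) = x := by
  have := congrArg (fun ψ : X ⟶ X => ψ x) e
  simpa using this

end Aux

section Count

variable {k : Type u} [Field k] [IsAlgClosed k] {K : Type v} [Field K] [CharZero K]
  (T : WeilCoh.Theory k K)
  {X P : WeilCoh.Var k} (φ : X ⟶ X) (p q : P ⟶ X) (hP : WeilCoh.IsProd p q) (j d : X ⟶ P)
  (hjp : j ≫ p = 𝟙 X) (hjq : j ≫ q = φ) (hdp : d ≫ p = 𝟙 X) (hdq : d ≫ q = 𝟙 X)

include hjp hdp in
lemma mem_preimage_closure_iff (w : X.obj.left) :
    w ∈ (WeilCoh.sm d) ⁻¹' closure ({WeilCoh.sm j (genericPoint X.obj.left)} : Set P.obj.left) ↔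
      WeilCoh.sm j w = WeilCoh.sm d w := by
  have h1 : WeilCoh.sm j ≫ WeilCoh.sm p = 𝟙 _ := sm_comp_eq_id j p hjp
  have h1' : WeilCoh.sm d ≫ WeilCoh.sm p = 𝟙 _ := sm_comp_eq_id d p hdp
  haveI : IsSeparated (WeilCoh.sm p ≫ X.obj.hom) := by rw [sm_w p]; infer_instance
  haveI : IsSeparated (WeilCoh.sm p) := IsSeparated.of_comp (WeilCoh.sm p) X.obj.hom
  haveI : IsClosedImmersion (WeilCoh.sm j ≫ WeilCoh.sm p) := by rw [h1]; infer_instance
  haveI : IsClosedImmersion (WeilCoh.sm j) :=
    IsClosedImmersion.of_comp (WeilCoh.sm j) (WeilCoh.sm p)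
  have hcl : closure ({WeilCoh.sm j (genericPoint X.obj.left)} : Set P.obj.left) =
      Set.range (WeilCoh.sm j) := by
    have := (WeilCoh.sm j).isClosedEmbedding.closure_image_eq {genericPoint X.obj.left}
    rw [Set.image_singleton, (genericPoint_spec X.obj.left).def, Set.image_univ] at this
    exact this
  rw [Set.mem_preimage, hcl]
  constructor
  · rintro ⟨x, hx⟩
    have hxw : x = w := by
      have h2 := congrArg (fun y => (WeilCoh.sm p) y) hx
      simp only at h2
      rwa [comp_apply_of_eq_id _ _ h1, comp_apply_of_eq_id _ _ h1'] at h2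
    subst hxw
    exact hx
  · intro h
    exact ⟨w, h⟩

include hP hjp hdp in
/-- the Lefschetz number as a number of fixed points, under transversality -/
theorem tr_graph_mul_diag
    (hclosed : ∀ w : X.obj.left, WeilCoh.sm j w = WeilCoh.sm d w → IsClosed ({w} : Set X.obj.left))
    (hmult : ∀ (w : X.obj.left)
      (h : WeilCoh.sm d w ∈ closure ({WeilCoh.sm j (genericPoint X.obj.left)} : Set P.obj.left)),
      WeilCoh.preimMult (WeilCoh.sm d) (WeilCoh.sm j (genericPoint X.obj.left)) w h = 1) :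
    T.tr P (T.cl P (WeilCoh.sm j (genericPoint X.obj.left)) *
        T.cl P (WeilCoh.sm d (genericPoint X.obj.left))) =
      (Nat.card {w : X.obj.left // WeilCoh.sm j w = WeilCoh.sm d w} : K) := by
  classical
  set η := genericPoint X.obj.left with hη
  set ζ := WeilCoh.sm j η with hζ
  set S : Set X.obj.left := (WeilCoh.sm d) ⁻¹' closure ({ζ} : Set P.obj.left) with hS
  have hSiff : ∀ w, w ∈ S ↔ WeilCoh.sm j w = WeilCoh.sm d w :=
    mem_preimage_closure_iff p j d hjp hdp
  have hcomp : ∀ w, WeilCoh.IsCompPt S w ↔ WeilCoh.sm j w = WeilCoh.sm d w := by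
    intro w
    constructor
    · intro h
      exact (hSiff w).1 h.1
    · intro h
      refine ⟨(hSiff w).2 h, fun w' hw' hspec => ?_⟩
      have hc := hclosed w' ((hSiff w').1 hw')
      have : w ∈ closure ({w'} : Set X.obj.left) := specializes_iff_mem_closure.mp hspec
      rw [hc.closure_eq] at this
      exact (Set.mem_singleton_iff.mp this).symm
  have hc : WeilCoh.codim P.obj.left ζ = WeilCoh.dim X.obj.left := by
    unfold WeilCoh.codim
    rw [hζ, hη, pdim_section j p hjp, dim_prod p q hP]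
    omega
  have hmem : T.cl P ζ ∈ T.gr P (2 * (WeilCoh.dim X.obj.left : ℤ)) := hc ▸ T.cl_mem P ζ
  have key := T.cl_pull d ζ (by
      intro w hw
      rw [pdim_eq_zero_of_isClosed w (hclosed w ((hcomp w).1 hw)), hζ, hη, pdim_section j p hjp,
        dim_prod p q hP]
      push_cast
      ring) (Or.inr (fun w hw => hmult w hw.1))
  have hterm : (fun w : {w : X.obj.left // WeilCoh.IsCompPt S w} =>
      (WeilCoh.preimMult (WeilCoh.sm d) ζ w.1 w.2.1 : K) • T.cl X w.1) =
      fun w => T.cl X w.1 := by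
    funext w
    rw [hmult w.1 w.2.1, Nat.cast_one, one_smul]
  rw [hterm] at key
  rw [mul_comm_of_even T P _ _ (T.cl_mem P ζ), tr_cl_section_mul T d p hdp _ hmem, key]
  have htr : ∀ w : {w : X.obj.left // WeilCoh.IsCompPt S w}, T.tr X (T.cl X w.1) = 1 :=
    fun w => tr_cl_closedPoint T X w.1 (hclosed w.1 ((hcomp w.1).1 w.2))
  rw [← Nat.card_congr (Equiv.subtypeEquivRight hcomp)]
  by_cases hfin : Finite {w : X.obj.left // WeilCoh.IsCompPt S w}
  · haveI := Fintype.ofFinite {w : X.obj.left // WeilCoh.IsCompPt S w}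
    rw [finsum_eq_sum_of_fintype, map_sum, Finset.sum_congr rfl (fun w _ => htr w),
      Finset.sum_const, Finset.card_univ, nsmul_eq_mul, mul_one, Nat.card_eq_fintype_card]
  · rw [not_finite_iff_infinite] at hfin
    have hsupp : (Function.support fun w : {w : X.obj.left // WeilCoh.IsCompPt S w} =>
        T.cl X w.1) = Set.univ := by
      ext w
      simp only [Function.mem_support, Set.mem_univ, iff_true]
      intro h0
      have := htr w
      rw [h0, map_zero] at this
      exact zero_ne_one this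
    rw [finsum_of_infinite_support (by rw [hsupp]; exact Set.infinite_univ), map_zero,
      Nat.card_eq_zero_of_infinite, Nat.cast_zero]

include hP hjp hjq hdp hdq in
/-- the fixed points are the sections fixed by `φ`, when they are rational -/
theorem card_fix_eq_card_sections
    (hbij : ∀ w : X.obj.left, WeilCoh.sm j w = WeilCoh.sm d w →
      Function.Bijective (strMap X.obj.hom w).hom) :
    Nat.card {w : X.obj.left // WeilCoh.sm j w = WeilCoh.sm d w} =
      Nat.card {σ : Spec (CommRingCat.of k) ⟶ X.obj.left //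
        σ ≫ X.obj.hom = 𝟙 _ ∧ σ ≫ WeilCoh.sm φ = σ} := by
  have h_jp : WeilCoh.sm j ≫ WeilCoh.sm p = 𝟙 _ := sm_comp_eq_id j p hjp
  have h_dp : WeilCoh.sm d ≫ WeilCoh.sm p = 𝟙 _ := sm_comp_eq_id d p hdp
  have h_dq : WeilCoh.sm d ≫ WeilCoh.sm q = 𝟙 _ := sm_comp_eq_id d q hdq
  have h_jq : WeilCoh.sm j ≫ WeilCoh.sm q = WeilCoh.sm φ :=
    congrArg (fun ψ => WeilCoh.sm ψ) hjq
  have hpt : ∀ σ : Spec (CommRingCat.of k) ⟶ X.obj.left, σ ≫ WeilCoh.sm φ = σ →
      WeilCoh.sm j (σ (closedPoint k)) = WeilCoh.sm d (σ (closedPoint k)) := by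
    intro σ hσ
    have e : σ ≫ WeilCoh.sm j = σ ≫ WeilCoh.sm d := by
      apply hP.hom_ext
      · rw [Category.assoc, Category.assoc, h_jp, h_dp]
      · rw [Category.assoc, Category.assoc, h_jq, h_dq, hσ, Category.comp_id]
    have h := congrArg (fun ψ : Spec (CommRingCat.of k) ⟶ P.obj.left => ψ (closedPoint k)) e
    exact (Scheme.Hom.comp_apply σ (WeilCoh.sm j) (closedPoint k)).symm.trans
      (h.trans (Scheme.Hom.comp_apply σ (WeilCoh.sm d) (closedPoint k)))
  let Θ : {σ : Spec (CommRingCat.of k) ⟶ X.obj.left //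
        σ ≫ X.obj.hom = 𝟙 _ ∧ σ ≫ WeilCoh.sm φ = σ} →
      {w : X.obj.left // WeilCoh.sm j w = WeilCoh.sm d w} := fun σ =>
    ⟨σ.1 (closedPoint k), hpt σ.1 σ.2.2⟩
  refine (Nat.card_congr (Equiv.ofBijective Θ ⟨?_, ?_⟩)).symm
  · intro σ σ' h
    apply Subtype.ext
    exact section_ext X.obj.hom σ.1 σ'.1 σ.2.1 σ'.2.1 (congrArg Subtype.val h)
  · rintro ⟨w, hw⟩
    obtain ⟨σ, hσs, hσw⟩ := exists_section X.obj.hom w (hbij w hw)
    have hφw : WeilCoh.sm φ w = w := by
      have h2 : WeilCoh.sm φ w = WeilCoh.sm q (WeilCoh.sm j w) := by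
        have := Scheme.Hom.comp_apply (WeilCoh.sm j) (WeilCoh.sm q) w
        rw [h_jq] at this
        exact this
      rw [h2, hw, comp_apply_of_eq_id _ _ h_dq]
    have hσφ : σ ≫ WeilCoh.sm φ = σ := by
      apply section_ext X.obj.hom _ _ (by rw [Category.assoc, sm_w φ, hσs]) hσs
      have h3 : (σ ≫ WeilCoh.sm φ) (closedPoint k) = WeilCoh.sm φ (σ (closedPoint k)) :=
        Scheme.Hom.comp_apply σ (WeilCoh.sm φ) (closedPoint k)
      rw [h3, hσw, hφw]
    exact ⟨⟨σ, hσs, hσφ⟩, Subtype.ext hσw⟩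

omit [IsAlgClosed k] in
/-- a rational point of a variety is closed -/
theorem isClosed_of_bijective_strMap (w : X.obj.left)
    (hbij : Function.Bijective (strMap X.obj.hom w).hom) : IsClosed ({w} : Set X.obj.left) := by
  obtain ⟨σ, hσs, hσw⟩ := exists_section X.obj.hom w hbij
  haveI : LocallyOfFiniteType X.obj.hom := by
    haveI : Smooth X.obj.hom := X.property.1
    infer_instance
  have := Groth.Agent.Lib.Helper10.GaloisOrbit.isClosed_of_point k k X.obj.hom σ (by
    rw [hσs]
    exact (Spec.map_id _).symm)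
  rwa [hσw] at this

end Count

end Groth.Agent.Lib.R2H7.WeilFix
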