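import Groth.Agent.Lib.R2H7WeilFixC

/-!
# The zeta function of a variety over a finite field from a Weil cohomology theory

* `trace_formula`: `N_m = Σ (-1)^i tr(φ^* | H^i)` for a Frobenius-like `φ` of exponent `q ^ m`;
* `main15452`: `Z(X, t) · ∏ P_{2i}(t) = ∏ P_{2i+1}(t)`;
* `main15453`: rationality of `Z(X, t)` over `ℚ`.
-/

set_option autoImplicit false
set_option linter.style.haveILetI false

namespace Groth.Agent.Lib.R2H7.WeilFix

open AlgebraicGeometry CategoryTheory CategoryTheory.Limits IsLocalRing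
open Groth.Agent.Lib.R2H7.WeilKPts Groth.Agent.Lib.R2H7.WeilFrob Groth.Agent.Lib.Helper10.WeilPt

universe u v

section SchemeLevel

variable {Y Pb : Scheme.{u}}

/-- for a graph `j` and a diagonal `d`, the differences `b - Φ^* b` lie in the ideal of the
inverse image of the graph under the diagonal -/
theorem germ_sub_mem (Φ : Y ⟶ Y) (p q : Pb ⟶ Y) (j d : Y ⟶ Pb) (h_jp : j ≫ p = 𝟙 Y)
    (h_jq : j ≫ q = Φ) (h_dp : d ≫ p = 𝟙 Y) (h_dq : d ≫ q = 𝟙 Y) (η w : Y)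
    (hspec : d w ∈ closure ({j η} : Set Pb)) (V : Y.Opens) (hVΦ : V ≤ Φ ⁻¹ᵁ V) (hηV : η ∈ V)
    (hwV : w ∈ V) (b : Γ(Y, V)) :
    (Y.presheaf.germ V w hwV).hom b -
        (Y.presheaf.germ V w hwV).hom ((Φ.appLE V V hVΦ).hom b) ∈
      Ideal.map (d.stalkMap w).hom
        (RingHom.ker (Cyc.specMap (d w) (j η) (specializes_iff_mem_closure.mpr hspec))) := by
  have hle_id : V ≤ (𝟙 Y : Y ⟶ Y) ⁻¹ᵁ V := fun x hx => hx
  have hj : V ≤ j ⁻¹ᵁ (q ⁻¹ᵁ V ⊓ p ⁻¹ᵁ V) := by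
    intro x hx
    refine ⟨?_, ?_⟩
    · change q (j x) ∈ V
      have e : q (j x) = Φ x := by
        have := Scheme.Hom.comp_apply j q x
        rw [h_jq] at this
        exact this.symm
      rw [e]
      exact (show x ∈ Φ ⁻¹ᵁ V from hVΦ hx)
    · change p (j x) ∈ V
      rw [comp_apply_of_eq_id _ _ h_jp]
      exact hx
  have hd : V ≤ d ⁻¹ᵁ (q ⁻¹ᵁ V ⊓ p ⁻¹ᵁ V) := by
    intro x hx
    refine ⟨?_, ?_⟩
    · change q (d x) ∈ V
      rw [comp_apply_of_eq_id _ _ h_dq]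
      exact hx
    · change p (d x) ∈ V
      rw [comp_apply_of_eq_id _ _ h_dp]
      exact hx
  set g : Γ(Pb, q ⁻¹ᵁ V ⊓ p ⁻¹ᵁ V) :=
    (q.appLE V (q ⁻¹ᵁ V ⊓ p ⁻¹ᵁ V) inf_le_left).hom b -
      (p.appLE V (q ⁻¹ᵁ V ⊓ p ⁻¹ᵁ V) inf_le_right).hom ((Φ.appLE V V hVΦ).hom b) with hgdef
  have hid : ∀ x : Γ(Y, V), ((𝟙 Y : Y ⟶ Y).appLE V V hle_id).hom x = x := by
    intro x
    rw [id_appLE]
    rfl
  have hg : (j.appLE (q ⁻¹ᵁ V ⊓ p ⁻¹ᵁ V) V hj).hom g = 0 := by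
    rw [hgdef, map_sub,
      appLE_appLE_apply j q Φ h_jq V (q ⁻¹ᵁ V ⊓ p ⁻¹ᵁ V) V inf_le_left hj hVΦ b,
      appLE_appLE_apply j p (𝟙 Y) h_jp V (q ⁻¹ᵁ V ⊓ p ⁻¹ᵁ V) V inf_le_right hj hle_id, hid,
      sub_self]
  have hdg : (d.appLE (q ⁻¹ᵁ V ⊓ p ⁻¹ᵁ V) V hd).hom g = b - (Φ.appLE V V hVΦ).hom b := by
    rw [hgdef, map_sub,
      appLE_appLE_apply d q (𝟙 Y) h_dq V (q ⁻¹ᵁ V ⊓ p ⁻¹ᵁ V) V inf_le_left hd hle_id b,
      appLE_appLE_apply d p (𝟙 Y) h_dp V (q ⁻¹ᵁ V ⊓ p ⁻¹ᵁ V) V inf_le_right hd hle_id, hid, hid]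
  have key := germ_mem_map_ker j d η w hspec (q ⁻¹ᵁ V ⊓ p ⁻¹ᵁ V) V hj hd hηV hwV g hg
  rw [hdg, map_sub] at key
  exact key

end SchemeLevel

section VarFrob

variable {k₀ : Type u} [Field k₀] [Finite k₀] {k : Type u} [Field k] [IsAlgClosed k]
  [Algebra k₀ k]
  {X : Scheme.{u}} {f : X ⟶ Spec (CommRingCat.of k₀)}
  {Xb Pb : WeilCoh.Var k} {π : Xb.obj.left ⟶ X}
  (hπ : IsPullback π Xb.obj.hom f (Spec.map (CommRingCat.ofHom (algebraMap k₀ k))))
  (G : X ⟶ X) (m : ℕ) (hm : 0 < m) (hGb : ∀ x : X, G x = x)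
  (hGapp : ∀ (U : X.Opens) (h : U ≤ G ⁻¹ᵁ U) (a : Γ(X, U)),
    (G.appLE U U h).hom a = a ^ (Nat.card k₀ ^ m))
  (φ : Xb ⟶ Xb) (hφ : WeilCoh.sm φ ≫ π = π ≫ G)
  (p q : Pb ⟶ Xb) (j d : Xb ⟶ Pb)
  (hjp : j ≫ p = 𝟙 Xb) (hjq : j ≫ q = φ) (hdp : d ≫ p = 𝟙 Xb) (hdq : d ≫ q = 𝟙 Xb)

include hπ hm hGb hGapp hφ hjp hjq hdp hdq in
/-- the points where the graph of a Frobenius-like endomorphism meets the diagonal are rational -/
theorem bijective_strMap_of_eq (w : Xb.obj.left) (hw : WeilCoh.sm j w = WeilCoh.sm d w) :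
    Function.Bijective (strMap Xb.obj.hom w).hom := by
  have h_jp : WeilCoh.sm j ≫ WeilCoh.sm p = 𝟙 _ := sm_comp_eq_id j p hjp
  have h_dp : WeilCoh.sm d ≫ WeilCoh.sm p = 𝟙 _ := sm_comp_eq_id d p hdp
  have h_dq : WeilCoh.sm d ≫ WeilCoh.sm q = 𝟙 _ := sm_comp_eq_id d q hdq
  have h_jq : WeilCoh.sm j ≫ WeilCoh.sm q = WeilCoh.sm φ :=
    congrArg (fun ψ => WeilCoh.sm ψ) hjq
  have e1 : Xb.obj.left.fromSpecResidueField w ≫ WeilCoh.sm j =
      Xb.obj.left.fromSpecResidueField w ≫ WeilCoh.sm d :=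
    eq_of_comp_eq (L := Xb.obj.left.residueField w)
      (Xb.obj.left.fromSpecResidueField w ≫ WeilCoh.sm j)
      (Xb.obj.left.fromSpecResidueField w ≫ WeilCoh.sm d) (WeilCoh.sm p)
      (by rw [Category.assoc, Category.assoc, h_jp, h_dp])
      ((congrArg (fun y => WeilCoh.sm j y = WeilCoh.sm d y)
        (Scheme.fromSpecResidueField_apply w _)).mpr hw)
      (bijective_residueFieldMap_of_section (WeilCoh.sm j) (WeilCoh.sm p) h_jp _).2
  have hfix : Xb.obj.left.fromSpecResidueField w ≫ WeilCoh.sm φ =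
      Xb.obj.left.fromSpecResidueField w := by
    rw [← h_jq, ← Category.assoc, e1, Category.assoc, h_dq, Category.comp_id]
  exact bijective_strMap_of_fixed hπ G m hm hGb hGapp (WeilCoh.sm φ) hφ w hfix

include hπ hm hGb hGapp hφ hjp hjq hdp hdq in
/-- the graph of a Frobenius-like endomorphism meets the diagonal with multiplicity one -/
theorem preimMult_eq_one (w : Xb.obj.left)
    (h : WeilCoh.sm d w ∈
      closure ({WeilCoh.sm j (genericPoint Xb.obj.left)} : Set Pb.obj.left)) :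
    WeilCoh.preimMult (WeilCoh.sm d) (WeilCoh.sm j (genericPoint Xb.obj.left)) w h = 1 := by
  have hw : WeilCoh.sm j w = WeilCoh.sm d w := (mem_preimage_closure_iff p j d hjp hdp w).1 h
  have hbij := bijective_strMap_of_eq hπ G m hm hGb hGapp φ hφ p q j d hjp hjq hdp hdq w hw
  have h_jp : WeilCoh.sm j ≫ WeilCoh.sm p = 𝟙 _ := sm_comp_eq_id j p hjp
  have h_dp : WeilCoh.sm d ≫ WeilCoh.sm p = 𝟙 _ := sm_comp_eq_id d p hdp
  have h_dq : WeilCoh.sm d ≫ WeilCoh.sm q = 𝟙 _ := sm_comp_eq_id d q hdq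
  have h_jq : WeilCoh.sm j ≫ WeilCoh.sm q = WeilCoh.sm φ :=
    congrArg (fun ψ => WeilCoh.sm ψ) hjq
  obtain ⟨U, hU, hxU, -⟩ := exists_isAffineOpen_mem_and_subset (U := ⊤) (x := π w) trivial
  have hwV : w ∈ chart Xb.obj.hom π U := (mem_chart_iff _ π U w).mpr hxU
  have hηV : genericPoint Xb.obj.left ∈ chart Xb.obj.hom π U :=
    (genericPoint_specializes w).mem_open (chart Xb.obj.hom π U).isOpen hwV
  unfold WeilCoh.preimMult
  set I := Ideal.map ((WeilCoh.sm d).stalkMap w).hom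
    (RingHom.ker (Cyc.specMap (WeilCoh.sm d w) (WeilCoh.sm j (genericPoint Xb.obj.left))
      (specializes_iff_mem_closure.mpr h))) with hI
  have hne : I ≠ ⊤ := by
    intro htop
    set ψ := ((WeilCoh.sm d).stalkMap w).hom with hψ
    set J := RingHom.ker (Cyc.specMap (WeilCoh.sm d w) (WeilCoh.sm j (genericPoint Xb.obj.left))
      (specializes_iff_mem_closure.mpr h)) with hJ
    have hJ' : J ≤ IsLocalRing.maximalIdeal _ := IsLocalRing.le_maximalIdeal (RingHom.ker_ne_top _)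
    have hloc : IsLocalHom ψ := by rw [hψ]; infer_instance
    have h2 : Ideal.map ψ (IsLocalRing.maximalIdeal _) ≤ IsLocalRing.maximalIdeal _ :=
      ((IsLocalRing.local_hom_TFAE ψ).out 0 2).mp hloc
    have h1 : Ideal.map ψ J ≤ IsLocalRing.maximalIdeal _ := (Ideal.map_mono hJ').trans h2
    rw [← hI, htop] at h1
    exact (IsLocalRing.maximalIdeal.isMaximal _).ne_top (top_le_iff.mp h1)
  have heq : I = maximalIdeal (Xb.obj.left.presheaf.stalk w) := by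
    apply le_antisymm (le_maximalIdeal hne)
    refine maximalIdeal_le_of_frob hπ G m hm hGb hGapp (WeilCoh.sm φ) (sm_w φ) hφ w hbij hU hwV
      I hne (fun b => ?_)
    exact germ_sub_mem (WeilCoh.sm φ) (WeilCoh.sm p) (WeilCoh.sm q) (WeilCoh.sm j) (WeilCoh.sm d)
      h_jp h_jq h_dp h_dq (genericPoint Xb.obj.left) w h (chart Xb.obj.hom π U)
      (chart_le G hGb (WeilCoh.sm φ) hφ U) hηV hwV b
  rw [length_quot_eq_one_of_eq_maximalIdeal I heq]
  rfl

variable {K : Type v} [Field K] [CharZero K] (T : WeilCoh.Theory k K)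
  (f) [LocallyOfFiniteType f] [QuasiCompact f]

include hπ hm hGb hGapp hφ in
/-- the Lefschetz trace formula for a Frobenius-like endomorphism -/
theorem trace_formula (hP : WeilCoh.IsProd p q) :
    (Zeta.nPts f m : K) =
      ∑ i ∈ Finset.range (2 * WeilCoh.dim Xb.obj.left + 1),
        (-1 : K) ^ i * LinearMap.trace K ↥(T.gr Xb (i : ℤ)) (T.pullDeg φ (i : ℤ)) := by
  obtain ⟨j, hjq, hjp⟩ := exists_graph' q p hP.flip φ
  obtain ⟨d, hdq, hdp⟩ := exists_graph' q p hP.flip (𝟙 Xb)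
  have hbij := bijective_strMap_of_eq hπ G m hm hGb hGapp φ hφ p q j d hjp hjq hdp hdq
  rw [← lefschetz T φ p q hP j d hjp hjq hdp hdq,
    tr_graph_mul_diag T p q hP j d hjp hdp
      (fun w hw => isClosed_of_bijective_strMap w (hbij w hw))
      (preimMult_eq_one hπ G m hm hGb hGapp φ hφ p q j d hjp hjq hdp hdq),
    card_fix_eq_card_sections φ p q hP j d hjp hjq hdp hdq hbij,
    card_fixed_sections f hπ G m hm hGb hGapp (WeilCoh.sm φ) (sm_w φ) hφ]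

end VarFrob

section Main

/-- S15452 -/
theorem main15452 (k₀ : Type u) [Field k₀] [Finite k₀] (k : Type u) [Field k] [IsAlgClosed k]
    [Algebra k₀ k] (K : Type v) [Field K] [CharZero K] (T : WeilCoh.Theory k K)
    {X : Scheme.{u}} (f : X ⟶ Spec (CommRingCat.of k₀)) [LocallyOfFiniteType f] [QuasiCompact f]
    (FX : X ⟶ X) (hFb : FX.base = 𝟙 _) (hle : ∀ U : X.Opens, U ≤ FX ⁻¹ᵁ U)
    (hFapp : ∀ (U : X.Opens) (s : Γ(X, U)), (FX.appLE U U (hle U)).hom s = s ^ Nat.card k₀)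
    (Xb : WeilCoh.Var k) (π : Xb.obj.left ⟶ X)
    (hπ : IsPullback π Xb.obj.hom f (Spec.map (CommRingCat.ofHom (algebraMap k₀ k))))
    (F : Xb ⟶ Xb) (hF : WeilCoh.sm F ≫ π = π ≫ FX)
    (Pb : WeilCoh.Var k) (p q : Pb ⟶ Xb) (hP : WeilCoh.IsProd p q) :
    PowerSeries.map (algebraMap ℚ K) (Zeta.zetaFun f) *
        (∏ i ∈ Finset.range (WeilCoh.dim Xb.obj.left + 1),
          ((LinearMap.charpoly (T.pullDeg F ((2 * i : ℕ) : ℤ))).reverse : PowerSeries K)) =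
      ∏ i ∈ Finset.range (WeilCoh.dim Xb.obj.left),
        ((LinearMap.charpoly (T.pullDeg F ((2 * i + 1 : ℕ) : ℤ))).reverse : PowerSeries K) := by
  have hGb0 : ∀ x : X, FX x = x := base_apply FX hFb
  have hGapp0 : ∀ (U : X.Opens) (h : U ≤ FX ⁻¹ᵁ U) (a : Γ(X, U)),
      (FX.appLE U U h).hom a = a ^ Nat.card k₀ := fun U h a => hFapp U a
  have hN : ∀ m, 1 ≤ m → (Zeta.nPts f m : K) =
      ∑ i ∈ Finset.range (2 * WeilCoh.dim Xb.obj.left + 1),
        (-1 : K) ^ i * LinearMap.trace K ↥(T.gr Xb (i : ℤ)) ((T.pullDeg F (i : ℤ)) ^ m) := by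
    intro m hm
    have := trace_formula f hπ (iterS FX m) m hm (iterS_apply FX hGb0 m)
      (iterS_appLE FX _ hGb0 hGapp0 m) (iter F m) (sm_iter F π FX hF m) p q T hP
    rw [this]
    refine Finset.sum_congr rfl fun i _ => ?_
    rw [pullDeg_iter]
  exact Groth.Agent.Lib.R2H7.WeilZetaPS.zeta_identity (WeilCoh.dim Xb.obj.left)
    (fun i => ↥(T.gr Xb (i : ℤ))) (fun i => T.pullDeg F (i : ℤ)) (Zeta.nPts f) hN

/-- descent of rationality of a power series from a field of characteristic zero to `ℚ` -/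
theorem rational_descent {K : Type*} [Field K] [CharZero K] (Z : PowerSeries ℚ)
    (Pp Qp : Polynomial K) (hQ : Qp ≠ 0)
    (h : PowerSeries.map (algebraMap ℚ K) Z * (Qp : PowerSeries K) = (Pp : PowerSeries K)) :
    ∃ P Q : Polynomial ℚ, Q ≠ 0 ∧ Z * (Q : PowerSeries ℚ) = (P : PowerSeries ℚ) := by
  classical
  obtain ⟨j₀, hj₀⟩ : ∃ j, Qp.coeff j ≠ 0 := by
    by_contra hall
    push Not at hall
    exact hQ (Polynomial.ext (by simpa using hall))
  obtain ⟨lam, hlam⟩ : ∃ lam : K →ₗ[ℚ] ℚ, lam (Qp.coeff j₀) ≠ 0 := by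
    by_contra hall
    push Not at hall
    exact hj₀ ((Module.forall_dual_apply_eq_zero_iff ℚ (Qp.coeff j₀)).mp hall)
  let L : Polynomial K → Polynomial ℚ := fun A =>
    ∑ i ∈ Finset.range (A.natDegree + 1), Polynomial.monomial i (lam (A.coeff i))
  have hL : ∀ A n, (L A).coeff n = lam (A.coeff n) := by
    intro A n
    simp only [L, Polynomial.finsetSum_coeff, Polynomial.coeff_monomial]
    rw [Finset.sum_ite_eq']
    split_ifs with hn
    · rfl
    · have : A.coeff n = 0 :=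
        Polynomial.coeff_eq_zero_of_natDegree_lt (by simpa using hn)
      rw [this, map_zero]
  refine ⟨L Pp, L Qp, ?_, ?_⟩
  · intro h0
    have := hL Qp j₀
    rw [h0, Polynomial.coeff_zero] at this
    exact hlam this.symm
  · ext n
    rw [PowerSeries.coeff_mul, Polynomial.coeff_coe, hL]
    have h1 := congrArg (PowerSeries.coeff n) h
    rw [PowerSeries.coeff_mul, Polynomial.coeff_coe] at h1
    rw [← h1, map_sum]
    refine Finset.sum_congr rfl fun ab _ => ?_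
    rw [Polynomial.coeff_coe, hL, Polynomial.coeff_coe, PowerSeries.coeff_map,
      ← Algebra.smul_def, map_smul, smul_eq_mul]

/-- S15453 -/
theorem main15453 (k₀ : Type u) [Field k₀] [Finite k₀] (k : Type u) [Field k] [IsAlgClosed k]
    [Algebra k₀ k] (K : Type v) [Field K] [CharZero K] (T : WeilCoh.Theory k K)
    {X : Scheme.{u}} (f : X ⟶ Spec (CommRingCat.of k₀)) [LocallyOfFiniteType f] [QuasiCompact f]
    (FX : X ⟶ X) (hFb : FX.base = 𝟙 _) (hle : ∀ U : X.Opens, U ≤ FX ⁻¹ᵁ U)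
    (hFapp : ∀ (U : X.Opens) (s : Γ(X, U)), (FX.appLE U U (hle U)).hom s = s ^ Nat.card k₀)
    (Xb : WeilCoh.Var k) (π : Xb.obj.left ⟶ X)
    (hπ : IsPullback π Xb.obj.hom f (Spec.map (CommRingCat.ofHom (algebraMap k₀ k))))
    (F : Xb ⟶ Xb) (hF : WeilCoh.sm F ≫ π = π ≫ FX)
    (Pb : WeilCoh.Var k) (p q : Pb ⟶ Xb) (hP : WeilCoh.IsProd p q) :
    ∃ P Q : Polynomial ℚ, Q ≠ 0 ∧ Zeta.zetaFun f * (Q : PowerSeries ℚ) = (P : PowerSeries ℚ) := by
  have h := main15452 k₀ k K T f FX hFb hle hFapp Xb π hπ F hF Pb p q hP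
  have e1 : ∀ (s : Finset ℕ) (A : ℕ → Polynomial K),
      ((∏ i ∈ s, A i : Polynomial K) : PowerSeries K) = ∏ i ∈ s, (A i : PowerSeries K) := by
    intro s A
    have := map_prod (Polynomial.coeToPowerSeries.ringHom (R := K)) A s
    simpa only [Polynomial.coeToPowerSeries.ringHom_apply] using this
  rw [← e1, ← e1] at h
  refine rational_descent (Zeta.zetaFun f) _ _ ?_ h
  rw [Finset.prod_ne_zero_iff]
  intro i _ h0
  have h1 : (LinearMap.charpoly (T.pullDeg F ((2 * i : ℕ) : ℤ))).reverse.coeff 0 = 1 := by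
    rw [Polynomial.coeff_zero_reverse]
    exact (LinearMap.charpoly_monic _).leadingCoeff
  rw [h0, Polynomial.coeff_zero] at h1
  exact zero_ne_one h1

end Main

end Groth.Agent.Lib.R2H7.WeilFix
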