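import Mathlib
import Groth.Agent.Lib.R2H3ProdChart
import Groth.Agent.Lib.Helper4VarDim6
import Groth.Agent.Lib.R2H7FrobDegField

/-!
# Frobenius-like endomorphisms of a base change to an algebraically closed field

`X` over a field `k₀`, `Y = X ×_{k₀} k`, `G : X ⟶ X` the identity on points and `a ↦ a ^ Q` on
sections, `Φ : Y ⟶ Y` a `k`-morphism over `G`.  On the affine charts `π⁻¹ U` of `Y` the map `Φ`
acts as the `Q`-th power on sections coming from `X` and as the identity on constants; hence the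
residue field map of `Φ` at any point has image the field of `Q`-th powers.
-/

set_option autoImplicit false
set_option linter.style.haveILetI false

namespace Groth.Agent.Lib.R2H7.WeilFrob

open AlgebraicGeometry CategoryTheory CategoryTheory.Limits

universe u v

section Pushout

theorem mem_of_isPushout {R S T P : CommRingCat.{u}} {f : R ⟶ S} {g : R ⟶ T} {inl : S ⟶ P}
    {inr : T ⟶ P} (h : IsPushout f g inl inr) (P' : Subring P) (h1 : ∀ s, inl.hom s ∈ P')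
    (h2 : ∀ t, inr.hom t ∈ P') (x : P) : x ∈ P' := by
  let _ : Algebra R S := f.hom.toAlgebra
  let _ : Algebra R T := g.hom.toAlgebra
  let _ : Algebra S P := inl.hom.toAlgebra
  let _ : Algebra T P := inr.hom.toAlgebra
  let _ : Algebra R P := (f ≫ inl).hom.toAlgebra
  have : IsScalarTower R S P := .of_algebraMap_eq' rfl
  have : IsScalarTower R T P := .of_algebraMap_eq' (congrArg CommRingCat.Hom.hom h.w)
  have hp : Algebra.IsPushout R S T P := CommRingCat.isPushout_iff_isPushout.mp h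
  refine hp.out.inductionOn x (fun x => x ∈ P') P'.zero_mem (fun t => h2 t) (fun s n hn => ?_)
    (fun a b ha hb => P'.add_mem ha hb)
  rw [Algebra.smul_def]
  exact P'.mul_mem (h1 s) hn

lemma appLE_of_eq {X Y : Scheme.{u}} {f g : X ⟶ Y} (h : f = g) (U : Y.Opens) (V : X.Opens)
    (e : V ≤ f ⁻¹ᵁ U) : f.appLE U V e = g.appLE U V (h ▸ e) := by
  subst h
  rfl

end Pushout

section Chart

variable {X Y : Scheme.{u}} {k₀ k : Type u} [Field k₀] [Field k] [Algebra k₀ k]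
  {f : X ⟶ Spec (CommRingCat.of k₀)} (s : Y ⟶ Spec (CommRingCat.of k)) (π : Y ⟶ X)

/-- the chart of the base change over an open of `X` -/
noncomputable def chart (U : X.Opens) : Y.Opens := π ⁻¹ᵁ U ⊓ s ⁻¹ᵁ ⊤

lemma mem_chart_iff (U : X.Opens) (y : Y) : y ∈ chart s π U ↔ π y ∈ U := by
  constructor
  · intro h
    exact h.1
  · intro h
    exact ⟨h, trivial⟩

variable {s π}
variable (hπ : IsPullback π s f (Spec.map (CommRingCat.ofHom (algebraMap k₀ k))))

include hπ in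
theorem isAffineOpen_chart {U : X.Opens} (hU : IsAffineOpen U) : IsAffineOpen (chart s π U) :=
  Groth.Agent.Lib.R2H3.ProdChart.isAffineOpen_inf hπ (W := ⊤) (isAffineOpen_top _) hU
    (isAffineOpen_top _) (fun _ _ => trivial) (fun _ _ => trivial)

include hπ in
theorem chart_induction {U : X.Opens} (hU : IsAffineOpen U) (P' : Subring Γ(Y, chart s π U))
    (h1 : ∀ a, (π.appLE U (chart s π U) inf_le_left).hom a ∈ P')
    (h2 : ∀ c, (s.appLE ⊤ (chart s π U) inf_le_right).hom c ∈ P')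
    (x : Γ(Y, chart s π U)) : x ∈ P' :=
  mem_of_isPushout
    (Groth.Agent.Lib.R2H3.ProdChart.isPushout_appLE hπ (W := ⊤) (isAffineOpen_top _) hU
      (isAffineOpen_top _) (hUW := fun _ _ => trivial) (hVW := fun _ _ => trivial)) P' h1 h2 x

end Chart

section Frob

variable {X Y : Scheme.{u}} {k₀ k : Type u} [Field k₀] [Field k] [Algebra k₀ k]
  {f : X ⟶ Spec (CommRingCat.of k₀)} {s : Y ⟶ Spec (CommRingCat.of k)} {π : Y ⟶ X}
  (hπ : IsPullback π s f (Spec.map (CommRingCat.ofHom (algebraMap k₀ k))))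
  (G : X ⟶ X) (Q : ℕ) (hGb : ∀ x : X, G x = x)
  (hGapp : ∀ (U : X.Opens) (h : U ≤ G ⁻¹ᵁ U) (a : Γ(X, U)), (G.appLE U U h).hom a = a ^ Q)
  (Φ : Y ⟶ Y) (hΦs : Φ ≫ s = s) (hΦπ : Φ ≫ π = π ≫ G)

include hGb hΦπ in
lemma pi_Phi (y : Y) : π (Φ y) = π y := by
  have h1 : (Φ ≫ π) y = (π ≫ G) y := by rw [hΦπ]
  rw [Scheme.Hom.comp_apply, Scheme.Hom.comp_apply, hGb] at h1
  exact h1

include hGb hΦπ in
lemma chart_le (U : X.Opens) : chart s π U ≤ Φ ⁻¹ᵁ chart s π U := by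
  intro y hy
  change Φ y ∈ chart s π U
  rw [mem_chart_iff] at hy ⊢
  rwa [pi_Phi G hGb Φ hΦπ]

include hGb in
lemma le_G (U : X.Opens) : U ≤ G ⁻¹ᵁ U := by
  intro x hx
  change G x ∈ U
  rwa [hGb]

include hGb hGapp hΦπ in
lemma phi_pi (U : X.Opens) (a : Γ(X, U)) :
    (Φ.appLE (chart s π U) (chart s π U) (chart_le G hGb Φ hΦπ U)).hom
        ((π.appLE U (chart s π U) inf_le_left).hom a) =
      ((π.appLE U (chart s π U) inf_le_left).hom a) ^ Q := by
  have h1 := Scheme.Hom.appLE_comp_appLE Φ π U (chart s π U) (chart s π U) inf_le_left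
    (chart_le G hGb Φ hΦπ U)
  have h2 := Scheme.Hom.appLE_comp_appLE π G U U (chart s π U) (le_G G hGb U) inf_le_left
  rw [appLE_of_eq hΦπ] at h1
  have h3 := h1.trans h2.symm
  have h4 := congrArg (fun φ => φ.hom a) h3
  simp only [CommRingCat.hom_comp, RingHom.comp_apply] at h4
  rw [h4, hGapp, map_pow]

include hΦs in
lemma phi_s (V : Y.Opens) (e : V ≤ Φ ⁻¹ᵁ V) (c : Γ(Spec (CommRingCat.of k), ⊤)) :
    (Φ.appLE V V e).hom ((s.appLE ⊤ V (fun _ _ => trivial)).hom c) =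
      (s.appLE ⊤ V (fun _ _ => trivial)).hom c := by
  have h1 := Scheme.Hom.appLE_comp_appLE Φ s ⊤ V V (fun _ _ => trivial) e
  rw [appLE_of_eq hΦs] at h1
  have h4 := congrArg (fun φ => φ.hom c) h1
  simp only [CommRingCat.hom_comp, RingHom.comp_apply] at h4
  exact h4

end Frob

section Claims

open Groth.Agent.Lib.Helper4.VarDim

variable {X Y : Scheme.{u}} {k₀ k : Type u} [Field k₀] [Field k] [Algebra k₀ k]
  {f : X ⟶ Spec (CommRingCat.of k₀)} {s : Y ⟶ Spec (CommRingCat.of k)} {π : Y ⟶ X}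
  (hπ : IsPullback π s f (Spec.map (CommRingCat.ofHom (algebraMap k₀ k))))
  (G : X ⟶ X) (p e : ℕ) [Fact p.Prime] [CharP k p] (hGb : ∀ x : X, G x = x)
  (hGapp : ∀ (U : X.Opens) (h : U ≤ G ⁻¹ᵁ U) (a : Γ(X, U)),
    (G.appLE U U h).hom a = a ^ p ^ e)
  (hroot : ∀ c : k, ∃ d : k, d ^ p ^ e = c)
  (Φ : Y ⟶ Y) (hΦs : Φ ≫ s = s) (hΦπ : Φ ≫ π = π ≫ G)

omit [Fact p.Prime] in
/-- sections over a nonempty open of a `k`-scheme form a ring of characteristic `p` -/
lemma charP_sections (s : Y ⟶ Spec (CommRingCat.of k)) (V : Y.Opens) [Nonempty V] :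
    CharP Γ(Y, V) p := by
  let φ : k →+* Γ(Y, V) := ((Scheme.ΓSpecIso (CommRingCat.of k)).inv ≫
    s.appLE ⊤ V (fun _ _ => trivial)).hom
  exact charP_of_injective_ringHom φ.injective p

omit [Fact p.Prime] [CharP k p] in
lemma exists_root_sections (hroot : ∀ c : k, ∃ d : k, d ^ p ^ e = c)
    (c : Γ(Spec (CommRingCat.of k), ⊤)) : ∃ d : Γ(Spec (CommRingCat.of k), ⊤), d ^ p ^ e = c := by
  obtain ⟨d, hd⟩ := hroot ((Scheme.ΓSpecIso (CommRingCat.of k)).hom.hom c)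
  refine ⟨(Scheme.ΓSpecIso (CommRingCat.of k)).inv.hom d, ?_⟩
  rw [← map_pow, hd]
  exact congrArg (fun φ => φ.hom c) (Scheme.ΓSpecIso (CommRingCat.of k)).hom_inv_id

include hπ hGb hGapp hroot hΦs hΦπ in
/-- every `Φ^* b` is a `p ^ e`-th power -/
theorem exists_pow_eq_phi {U : X.Opens} (hU : IsAffineOpen U) [Nonempty (chart s π U)]
    (b : Γ(Y, chart s π U)) :
    ∃ t : Γ(Y, chart s π U),
      (Φ.appLE (chart s π U) (chart s π U) (chart_le G hGb Φ hΦπ U)).hom b = t ^ p ^ e := by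
  haveI := charP_sections p s (chart s π U)
  set φ := (Φ.appLE (chart s π U) (chart s π U) (chart_le G hGb Φ hΦπ U)).hom with hφ
  let P' : Subring Γ(Y, chart s π U) :=
    { carrier := {b | ∃ t, φ b = t ^ p ^ e}
      mul_mem' := by
        rintro a b ⟨t, ht⟩ ⟨t', ht'⟩
        exact ⟨t * t', by rw [map_mul, ht, ht', mul_pow]⟩
      one_mem' := ⟨1, by rw [map_one, one_pow]⟩
      add_mem' := by
        rintro a b ⟨t, ht⟩ ⟨t', ht'⟩
        exact ⟨t + t', by rw [map_add, ht, ht', add_pow_char_pow]⟩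
      zero_mem' := ⟨0, by rw [map_zero, zero_pow (pow_ne_zero _ (Fact.out : p.Prime).ne_zero)]⟩
      neg_mem' := by
        rintro a ⟨t, ht⟩
        exact ⟨-t, by rw [map_neg, ht, neg_pow, neg_one_pow_char_pow, neg_one_mul]⟩ }
  refine chart_induction hπ hU P' (fun a => ⟨_, phi_pi G (p ^ e) hGb hGapp Φ hΦπ U a⟩)
    (fun c => ?_) b
  obtain ⟨d, hd⟩ := exists_root_sections p e hroot c
  refine ⟨(s.appLE ⊤ (chart s π U) inf_le_right).hom d, ?_⟩
  rw [← map_pow, hd]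
  exact phi_s Φ hΦs (chart s π U) _ c

include hπ hGb hGapp hΦs hΦπ in
/-- every `p ^ e`-th power is of the form `Φ^* t` -/
theorem exists_phi_eq_pow {U : X.Opens} (hU : IsAffineOpen U) [Nonempty (chart s π U)]
    (b : Γ(Y, chart s π U)) :
    ∃ t : Γ(Y, chart s π U),
      (Φ.appLE (chart s π U) (chart s π U) (chart_le G hGb Φ hΦπ U)).hom t = b ^ p ^ e := by
  haveI := charP_sections p s (chart s π U)
  set φ := (Φ.appLE (chart s π U) (chart s π U) (chart_le G hGb Φ hΦπ U)).hom with hφ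
  let P' : Subring Γ(Y, chart s π U) :=
    { carrier := {b | ∃ t, φ t = b ^ p ^ e}
      mul_mem' := by
        rintro a b ⟨t, ht⟩ ⟨t', ht'⟩
        exact ⟨t * t', by rw [map_mul, ht, ht', mul_pow]⟩
      one_mem' := ⟨1, by rw [map_one, one_pow]⟩
      add_mem' := by
        rintro a b ⟨t, ht⟩ ⟨t', ht'⟩
        exact ⟨t + t', by rw [map_add, ht, ht', add_pow_char_pow]⟩
      zero_mem' := ⟨0, by rw [map_zero, zero_pow (pow_ne_zero _ (Fact.out : p.Prime).ne_zero)]⟩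
      neg_mem' := by
        rintro a ⟨t, ht⟩
        exact ⟨-t, by rw [map_neg, ht, neg_pow a, neg_one_pow_char_pow, neg_one_mul]⟩ }
  refine chart_induction hπ hU P' (fun a => ⟨_, phi_pi G (p ^ e) hGb hGapp Φ hΦπ U a⟩)
    (fun c => ?_) b
  refine ⟨(s.appLE ⊤ (chart s π U) inf_le_right).hom (c ^ p ^ e), ?_⟩
  rw [← map_pow]
  exact phi_s Φ hΦs (chart s π U) _ (c ^ p ^ e)

end Claims

section Residue

variable {Y : Scheme.{u}} (Φ : Y ⟶ Y)

/-- naturality of evaluation for `appLE` -/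
lemma residueFieldMap_eval (V : Y.Opens) (e : V ≤ Φ ⁻¹ᵁ V) (x : Y) (hx : x ∈ V)
    (b : Γ(Y, V)) :
    (Φ.residueFieldMap x).hom
        ((Y.presheaf.germ V (Φ x) (show x ∈ Φ ⁻¹ᵁ V from e hx) ≫ Y.residue (Φ x)).hom b) =
      (Y.presheaf.germ V x hx ≫ Y.residue x).hom ((Φ.appLE V V e).hom b) := by
  have h1 := Scheme.evaluation_naturality_apply Φ x (show x ∈ Φ ⁻¹ᵁ V from e hx) b
  have h2 : (Φ.appLE V V e).hom b = (Y.presheaf.map (homOfLE e).op).hom ((Φ.app V).hom b) := rfl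
  rw [h2]
  have h3 := Y.presheaf.germ_res_apply (homOfLE e) x hx ((Φ.app V).hom b)
  change _ = (Y.residue x).hom ((Y.presheaf.germ V x hx).hom _)
  erw [h3]
  exact h1

end Residue

section Range

open Groth.Agent.Lib.Helper4.VarDim

variable {X Y : Scheme.{u}} {k₀ k : Type u} [Field k₀] [Field k] [Algebra k₀ k]
  {f : X ⟶ Spec (CommRingCat.of k₀)} {s : Y ⟶ Spec (CommRingCat.of k)} {π : Y ⟶ X}
  (hπ : IsPullback π s f (Spec.map (CommRingCat.ofHom (algebraMap k₀ k))))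
  (G : X ⟶ X) (p e : ℕ) [Fact p.Prime] [CharP k p] (hGb : ∀ x : X, G x = x)
  (hGapp : ∀ (U : X.Opens) (h : U ≤ G ⁻¹ᵁ U) (a : Γ(X, U)),
    (G.appLE U U h).hom a = a ^ p ^ e)
  (hroot : ∀ c : k, ∃ d : k, d ^ p ^ e = c)
  (Φ : Y ⟶ Y) (hΦs : Φ ≫ s = s) (hΦπ : Φ ≫ π = π ≫ G)

include hπ hGb hGapp hroot hΦs hΦπ in
/-- the image of the residue field map of `Φ` at any point is the field of `p ^ e`-th powers -/
theorem range_residueFieldMap (x : Y) :
    (∀ z, ∃ y, (Φ.residueFieldMap x).hom z = y ^ p ^ e) ∧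
      (∀ y, ∃ z, (Φ.residueFieldMap x).hom z = y ^ p ^ e) := by
  obtain ⟨U, hU, hxU, -⟩ := exists_isAffineOpen_mem_and_subset (U := ⊤) (x := π x) trivial
  have hx : x ∈ chart s π U := (mem_chart_iff s π U x).mpr hxU
  haveI : Nonempty (chart s π U) := ⟨⟨x, hx⟩⟩
  have hV := isAffineOpen_chart hπ hU
  have hle := chart_le G hGb Φ hΦπ U (s := s)
  letI : Y.Over (Spec (CommRingCat.of k)) := ⟨s⟩
  have hx' : Φ x ∈ chart s π U := hle hx
  constructor
  · intro z
    obtain ⟨a, t, hz⟩ := evₐ_frac k Y hV (Φ x) hx' z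
    obtain ⟨a', ha'⟩ := exists_pow_eq_phi hπ G p e hGb hGapp hroot Φ hΦs hΦπ hU a
    obtain ⟨t', ht'⟩ := exists_pow_eq_phi hπ G p e hGb hGapp hroot Φ hΦs hΦπ hU t
    refine ⟨(Y.presheaf.germ _ x hx ≫ Y.residue x).hom a' /
      (Y.presheaf.germ _ x hx ≫ Y.residue x).hom t', ?_⟩
    rw [hz, map_div₀, evₐ_apply, evₐ_apply, residueFieldMap_eval Φ _ hle x hx,
      residueFieldMap_eval Φ _ hle x hx, ha', ht', map_pow, map_pow, div_pow]
  · intro y
    obtain ⟨a, t, hy⟩ := evₐ_frac k Y hV x hx y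
    obtain ⟨a', ha'⟩ := exists_phi_eq_pow hπ G p e hGb hGapp Φ hΦs hΦπ hU a
    obtain ⟨t', ht'⟩ := exists_phi_eq_pow hπ G p e hGb hGapp Φ hΦs hΦπ hU t
    refine ⟨(Y.presheaf.germ _ (Φ x) hx' ≫ Y.residue (Φ x)).hom a' /
      (Y.presheaf.germ _ (Φ x) hx' ≫ Y.residue (Φ x)).hom t', ?_⟩
    rw [hy, map_div₀, residueFieldMap_eval Φ _ hle x hx, residueFieldMap_eval Φ _ hle x hx, ha',
      ht', map_pow, map_pow, div_pow, evₐ_apply, evₐ_apply]

end Range

end Groth.Agent.Lib.R2H7.WeilFrob
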