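import Groth.Agent.Lib.Helper10WeilLef
import Groth.Agent.Lib.R2H7WeilFrobChart

/-!
# The degree of the Frobenius endomorphism of a variety, and its action on the trace
-/

set_option autoImplicit false
set_option linter.style.haveILetI false

namespace Groth.Agent.Lib.R2H7.WeilFrob

open AlgebraicGeometry CategoryTheory CategoryTheory.Limits
open Groth.Agent.Lib.Helper4.VarDim Groth.Agent.Lib.Helper10.WeilPt Groth.Agent.Lib.R2H7.FrobDeg

universe u v

section Ess

variable (k : Type u) [Field k] (Y : Scheme.{u}) [Y.Over (Spec (CommRingCat.of k))]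
  [LocallyOfFiniteType (Y ↘ Spec (CommRingCat.of k))]

attribute [local instance] sectionsAlgebra Curv2.resAlgebra

/-- residue fields of a scheme locally of finite type over a field are essentially of finite
type -/
theorem essFiniteType_residueField (x : Y) : Algebra.EssFiniteType k (Y.residueField x) := by
  obtain ⟨U, hU, hx, -⟩ := exists_isAffineOpen_mem_and_subset (U := ⊤) (x := x) trivial
  haveI := finiteType_sections k Y hU
  let φ := evₐ k Y x hx
  haveI : Algebra.FiniteType k φ.range :=
    Algebra.FiniteType.of_surjective φ.rangeRestrict φ.rangeRestrict_surjective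
  haveI : FaithfulSMul φ.range (Y.residueField x) :=
    (faithfulSMul_iff_algebraMap_injective φ.range _).mpr Subtype.val_injective
  haveI : IsFractionRing φ.range (Y.residueField x) := IsFractionRing.of_field φ.range (Y.residueField x) (fun z => by
    obtain ⟨a, t, hz⟩ := evₐ_frac k Y hU x hx z
    exact ⟨⟨φ a, a, rfl⟩, ⟨φ t, t, rfl⟩, hz⟩)
  haveI : Algebra.EssFiniteType φ.range (Y.residueField x) :=
    Algebra.EssFiniteType.of_isLocalization _ (nonZeroDivisors φ.range)
  exact Algebra.EssFiniteType.comp k φ.range (Y.residueField x)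

end Ess

section Deg

variable {k₀ : Type u} [Field k₀] {k : Type u} [Field k] [IsAlgClosed k] [Algebra k₀ k]
  {X : Scheme.{u}} {f : X ⟶ Spec (CommRingCat.of k₀)}
  (Xb : WeilCoh.Var k) {π : Xb.obj.left ⟶ X}
  (hπ : IsPullback π Xb.obj.hom f (Spec.map (CommRingCat.ofHom (algebraMap k₀ k))))
  (G : X ⟶ X) (p e : ℕ) [Fact p.Prime] [CharP k p] (hGb : ∀ x : X, G x = x)
  (hGapp : ∀ (U : X.Opens) (h : U ≤ G ⁻¹ᵁ U) (a : Γ(X, U)),
    (G.appLE U U h).hom a = a ^ p ^ e)
  (F : Xb ⟶ Xb) (hF : WeilCoh.sm F ≫ π = π ≫ G)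

attribute [local instance] overVar Curv2.resAlgebra

include hπ hGb hGapp hF in
theorem residueDegree_eq (x : Xb.obj.left) :
    (WeilCoh.sm F).residueDegree x = (p ^ WeilCoh.pdim Xb.obj.left x) ^ e := by
  have hΦs : WeilCoh.sm F ≫ Xb.obj.hom = Xb.obj.hom := sm_w F
  have hroot : ∀ c : k, ∃ d : k, d ^ p ^ e = c := fun c =>
    IsAlgClosed.exists_pow_nat_eq c (pow_pos (Fact.out : p.Prime).pos e)
  obtain ⟨h₁, h₂⟩ := range_residueFieldMap hπ G p e hGb hGapp hroot (WeilCoh.sm F) hΦs hF x
  haveI : CharP (Xb.obj.left.residueField x) p :=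
    charP_of_injective_algebraMap (algebraMap k (Xb.obj.left.residueField x)).injective p
  haveI := essFiniteType_residueField k Xb.obj.left x
  have hn : Algebra.trdeg k (Xb.obj.left.residueField x) =
      ((WeilCoh.pdim Xb.obj.left x : ℕ) : Cardinal.{u}) := by
    rw [pdim_eq_trdegNat]
    exact trdeg_eq_trdegNat k _ x
  exact deg_eq_of_range k (Xb.obj.left.residueField x) p _ hn e _ h₁ h₂

include hπ hGb hGapp hF in
theorem sm_genericPoint :
    WeilCoh.sm F (genericPoint Xb.obj.left) = genericPoint Xb.obj.left := by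
  by_contra hne
  have hdeg := residueDegree_eq Xb hπ G p e hGb hGapp F hF (genericPoint Xb.obj.left)
  have hne0 : (WeilCoh.sm F).residueDegree (genericPoint Xb.obj.left) ≠ 0 := by
    rw [hdeg]
    exact pow_ne_zero _ (pow_ne_zero _ (Fact.out : p.Prime).ne_zero)
  have h1 := pdim_eq_of_residueDegree_ne_zero F _ hne0
  rw [pdim_eq_trdegNat, pdim_eq_trdegNat] at h1
  have h2 := trdegNat_lt_of_specializes k Xb.obj.left (genericPoint Xb.obj.left)
    (WeilCoh.sm F (genericPoint Xb.obj.left)) (genericPoint_specializes _) (Ne.symm hne)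
  omega

variable {K : Type v} [Field K] [CharZero K] (T : WeilCoh.Theory k K)

include hπ hGb hGapp hF in
/-- the Frobenius multiplies the trace by `q ^ dim` -/
theorem tr_pull (c : T.H Xb) :
    T.tr Xb (T.pull F c) = (((p ^ WeilCoh.dim Xb.obj.left) ^ e : ℕ) : K) * T.tr Xb c := by
  have h := tr_cl_mul_pull T F (genericPoint Xb.obj.left) c
  rw [sm_genericPoint Xb hπ G p e hGb hGapp F hF, cl_generic, one_mul, one_mul,
    residueDegree_eq Xb hπ G p e hGb hGapp F hF, pdim_genericPoint] at h
  exact h

end Deg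

end Groth.Agent.Lib.R2H7.WeilFrob
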