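import Mathlib

/-!
# Algebra for the functional equation of the zeta function

Alternating products `∏ g i ^ w i` with `w i = -(-1)^i`, their behaviour under the reflection
`i ↦ 2n - i`, and the parity of the dimension of a space with a perfect skew pairing.
-/

set_option autoImplicit false
set_option linter.style.haveILetI false

namespace Groth.Agent.Lib.R2H7.WeilFunEq

open Finset Module

/-- weight exponent: `+1` for odd `i`, `-1` for even `i` -/
def w (i : ℕ) : ℤ := -(-1 : ℤ) ^ i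

lemma neg_one_pow_reflect (n i : ℕ) (hi : i ≤ 2 * n) : (-1 : ℤ) ^ (2 * n - i) = (-1 : ℤ) ^ i := by
  have h1 : (-1 : ℤ) ^ (2 * n - i) * (-1 : ℤ) ^ i = 1 := by
    rw [← pow_add, Nat.sub_add_cancel hi, pow_mul]
    simp
  have h2 : (-1 : ℤ) ^ i * (-1 : ℤ) ^ i = 1 := by
    rw [← pow_add, ← two_mul, pow_mul]
    simp
  calc (-1 : ℤ) ^ (2 * n - i) = (-1 : ℤ) ^ (2 * n - i) * ((-1 : ℤ) ^ i * (-1 : ℤ) ^ i) := by
        rw [h2, mul_one]
    _ = (-1 : ℤ) ^ i := by rw [← mul_assoc, h1, one_mul]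

lemma w_reflect (n i : ℕ) (hi : i ≤ 2 * n) : w (2 * n - i) = w i := by
  unfold w
  rw [neg_one_pow_reflect n i hi]

lemma w_even (l : ℕ) : w (2 * l) = -1 := by
  unfold w
  rw [pow_mul]
  simp

lemma w_odd (l : ℕ) : w (2 * l + 1) = 1 := by
  unfold w
  rw [pow_succ, pow_mul]
  simp

section Field

variable {L : Type*} [Field L]

lemma alt_eq (g : ℕ → L) (n : ℕ) :
    (∏ l ∈ range n, g (2 * l + 1)) / (∏ l ∈ range (n + 1), g (2 * l)) =
      ∏ i ∈ range (2 * n + 1), g i ^ w i := by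
  induction n with
  | zero =>
    simp only [range_zero, prod_empty, zero_add, range_one, prod_singleton, mul_zero]
    rw [show w 0 = -1 from w_even 0, zpow_neg_one, one_div]
  | succ n ih =>
    have e1 : ∏ l ∈ range (n + 1), g (2 * l + 1) =
        (∏ l ∈ range n, g (2 * l + 1)) * g (2 * n + 1) := prod_range_succ _ _
    have e2 : ∏ l ∈ range (n + 1 + 1), g (2 * l) =
        (∏ l ∈ range (n + 1), g (2 * l)) * g (2 * (n + 1)) := prod_range_succ _ _
    have e3 : ∏ i ∈ range (2 * (n + 1) + 1), g i ^ w i =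
        (∏ i ∈ range (2 * n + 1), g i ^ w i) * g (2 * n + 1) ^ w (2 * n + 1) *
          g (2 * (n + 1)) ^ w (2 * (n + 1)) := by
      rw [show 2 * (n + 1) + 1 = 2 * n + 1 + 1 + 1 by ring, prod_range_succ, prod_range_succ,
        show 2 * n + 1 + 1 = 2 * (n + 1) by ring]
    rw [e1, e2, e3, ← ih, w_odd, w_even, zpow_one, zpow_neg_one, div_eq_mul_inv, div_eq_mul_inv,
      mul_inv]
    ring

lemma prod_zpow_eq (y : L) (hy : y ≠ 0) (m : ℕ → ℤ) (N : ℕ) :
    ∏ i ∈ range N, y ^ m i = y ^ ∑ i ∈ range N, m i := by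
  induction N with
  | zero => simp
  | succ N ih => rw [prod_range_succ, sum_range_succ, ih, zpow_add₀ hy]

lemma prod_reflect (n : ℕ) (b : ℕ → L) :
    ∏ i ∈ range (2 * n + 1), b (2 * n - i) ^ w i = ∏ i ∈ range (2 * n + 1), b i ^ w i := by
  rw [← prod_range_reflect (fun j => b j ^ w j) (2 * n + 1)]
  refine prod_congr rfl (fun i hi => ?_)
  have hi' : i ≤ 2 * n := Nat.lt_succ_iff.mp (mem_range.mp hi)
  simp only [Nat.add_sub_cancel]
  rw [w_reflect n i hi']

theorem alt_prod_eq (n : ℕ) (a b s : ℕ → L) (Bd : ℕ → ℕ) (y : L) (hy : y ≠ 0)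
    (h : ∀ i, i ≤ 2 * n → a i * y ^ Bd i = s i * b (2 * n - i)) :
    ∏ i ∈ range (2 * n + 1), a i ^ w i =
      (∏ i ∈ range (2 * n + 1), s i ^ w i) *
        y ^ (∑ i ∈ range (2 * n + 1), (-1 : ℤ) ^ i * (Bd i : ℤ)) *
        ∏ i ∈ range (2 * n + 1), b i ^ w i := by
  have ha : ∀ i ∈ range (2 * n + 1),
      a i ^ w i = s i ^ w i * b (2 * n - i) ^ w i * y ^ ((-1 : ℤ) ^ i * (Bd i : ℤ)) := by
    intro i hi
    have hi' : i ≤ 2 * n := Nat.lt_succ_iff.mp (mem_range.mp hi)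
    have h1 : a i = s i * b (2 * n - i) * (y ^ Bd i)⁻¹ := by
      rw [← h i hi', mul_assoc, mul_inv_cancel₀ (pow_ne_zero _ hy), mul_one]
    rw [h1, mul_zpow, mul_zpow]
    congr 1
    rw [← zpow_natCast, ← zpow_neg, ← zpow_mul]
    congr 1
    unfold w
    ring
  rw [prod_congr rfl ha, prod_mul_distrib, prod_mul_distrib, prod_zpow_eq y hy, prod_reflect]
  ring

theorem delta_sq (n : ℕ) (D : ℕ → L) (Bd : ℕ → ℕ) (c : L) (hc : c ≠ 0)
    (h : ∀ i, i ≤ 2 * n → D (2 * n - i) * D i = c ^ Bd i) :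
    (∏ i ∈ range (2 * n + 1), ((-1 : L) ^ Bd i * D i) ^ w i) ^ 2 =
      c ^ (-∑ i ∈ range (2 * n + 1), (-1 : ℤ) ^ i * (Bd i : ℤ)) := by
  have h1 : ∀ i ∈ range (2 * n + 1),
      (((-1 : L) ^ Bd i * D i) ^ w i) ^ 2 = D i ^ w i * D i ^ w i := by
    intro i _
    rw [← mul_zpow, ← zpow_natCast, ← zpow_mul, mul_comm (w i), zpow_mul, zpow_natCast]
    congr 1
    rw [mul_pow, ← pow_mul, mul_comm (Bd i), pow_mul, neg_one_sq, one_pow, one_mul, sq]
  rw [← prod_pow, prod_congr rfl h1, prod_mul_distrib]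
  nth_rewrite 1 [← prod_reflect n D]
  rw [← prod_mul_distrib]
  have h2 : ∀ i ∈ range (2 * n + 1),
      D (2 * n - i) ^ w i * D i ^ w i = c ^ (-((-1 : ℤ) ^ i * (Bd i : ℤ))) := by
    intro i hi
    have hi' : i ≤ 2 * n := Nat.lt_succ_iff.mp (mem_range.mp hi)
    rw [← mul_zpow, h i hi', ← zpow_natCast, ← zpow_mul]
    congr 1
    unfold w
    ring
  rw [prod_congr rfl h2, prod_zpow_eq c hc, sum_neg_distrib]

theorem exists_sign (δ q : L) (hq : q ≠ 0) (m : ℤ) (h : (δ * q ^ m) ^ 2 = 1) :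
    ∃ ε : L, (ε = 1 ∨ ε = -1) ∧ δ * q ^ (2 * m) = ε * q ^ m := by
  refine ⟨δ * q ^ m, ?_, ?_⟩
  · rw [sq] at h
    exact mul_self_eq_one_iff.mp h
  · rw [two_mul, zpow_add₀ hq, mul_assoc]

end Field

section Parity

lemma sum_alt_eq (n : ℕ) (Bd : ℕ → ℕ) (hsym : ∀ i, i ≤ 2 * n → Bd (2 * n - i) = Bd i) :
    ∑ i ∈ range (2 * n + 1), (-1 : ℤ) ^ i * (Bd i : ℤ) =
      2 * ∑ i ∈ range n, (-1 : ℤ) ^ i * (Bd i : ℤ) + (-1 : ℤ) ^ n * (Bd n : ℤ) := by
  rw [show 2 * n + 1 = n + (n + 1) by ring, sum_range_add, sum_range_succ']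
  simp only [add_zero]
  have h1 : ∑ j ∈ range n, (-1 : ℤ) ^ (n + (j + 1)) * (Bd (n + (j + 1)) : ℤ) =
      ∑ j ∈ range n, (-1 : ℤ) ^ j * (Bd j : ℤ) := by
    rw [← sum_range_reflect (fun j => (-1 : ℤ) ^ j * (Bd j : ℤ)) n]
    refine sum_congr rfl (fun j hj => ?_)
    have hj' : j < n := mem_range.mp hj
    have e1 : n + (j + 1) ≤ 2 * n := by omega
    have e2 : 2 * n - (n + (j + 1)) = n - 1 - j := by omega
    rw [← hsym (n + (j + 1)) e1, ← neg_one_pow_reflect n (n + (j + 1)) e1, e2]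
  rw [h1]
  ring

lemma even_mul_sum (n : ℕ) (Bd : ℕ → ℕ) (hsym : ∀ i, i ≤ 2 * n → Bd (2 * n - i) = Bd i)
    (hmid : Odd n → Even (Bd n)) :
    Even ((n : ℤ) * ∑ i ∈ range (2 * n + 1), (-1 : ℤ) ^ i * (Bd i : ℤ)) := by
  rcases Nat.even_or_odd n with hn | hn
  · exact Even.mul_right (by exact_mod_cast hn) _
  · apply Even.mul_left
    rw [sum_alt_eq n Bd hsym]
    apply Even.add
    · exact even_two_mul _
    · apply Even.mul_left
      exact_mod_cast hmid hn

/-- a space with a perfect skew pairing has even dimension -/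
lemma even_finrank_of_skew {K V : Type*} [Field K] [CharZero K] [AddCommGroup V] [Module K V]
    [FiniteDimensional K V] (B : V →ₗ[K] V →ₗ[K] K) [B.IsPerfPair]
    (hskew : ∀ a b, B a b = -B b a) : Even (finrank K V) := by
  classical
  by_contra hodd
  rw [Nat.not_even_iff_odd] at hodd
  let b := Module.finBasis K V
  set M := LinearMap.toMatrix b b.dualBasis (B.toPerfPair : V →ₗ[K] Dual K V) with hM
  have hunit : IsUnit M.det := LinearEquiv.isUnit_det B.toPerfPair b b.dualBasis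
  have hentry : ∀ i j, M i j = B (b j) (b i) := by
    intro i j
    rw [hM, LinearMap.toMatrix_apply, Basis.dualBasis_repr]
    rfl
  have hT : M.transpose = -M := by
    ext i j
    rw [Matrix.transpose_apply, Matrix.neg_apply, hentry, hentry, hskew]
  have h1 : M.det = -M.det := by
    conv_lhs => rw [← Matrix.det_transpose, hT, Matrix.det_neg, Fintype.card_fin,
      hodd.neg_one_pow, neg_one_mul]
  have h2 : M.det = 0 := by
    have : (2 : K) * M.det = 0 := by linear_combination h1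
    rcases mul_eq_zero.mp this with h | h
    · exact absurd h two_ne_zero
    · exact h
  rw [h2] at hunit
  exact not_isUnit_zero hunit

end Parity

end Groth.Agent.Lib.R2H7.WeilFunEq
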