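import Groth.Agent.Lib.R2H7WeilFrobMain
import Groth.Agent.Lib.R2H7WeilFunEqAlg

/-!
# The functional equation of the cohomological zeta function (S15456)
-/

set_option autoImplicit false
set_option linter.style.haveILetI false

namespace Groth.Agent.Lib.R2H7.WeilFrob

open AlgebraicGeometry CategoryTheory CategoryTheory.Limits Finset
open Groth.Agent.Lib.Helper10.WeilPt Groth.Agent.Lib.R2H7.WeilFunEq

universe u v

section FunEq

variable (k₀ : Type u) [Field k₀] [Finite k₀] (k : Type u) [Field k] [IsAlgClosed k] [Algebra k₀ k]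
  (K : Type v) [Field K] [CharZero K] (T : WeilCoh.Theory k K)
  {X : Scheme.{u}} (f : X ⟶ Spec (CommRingCat.of k₀))
  (FX : X ⟶ X) (hFb : FX.base = 𝟙 _) (hle : ∀ U : X.Opens, U ≤ FX ⁻¹ᵁ U)
  (hFapp : ∀ (U : X.Opens) (s : Γ(X, U)), (FX.appLE U U (hle U)).hom s = s ^ Nat.card k₀)
  (Xb : WeilCoh.Var k) (π : Xb.obj.left ⟶ X)
  (hπ : IsPullback π Xb.obj.hom f (Spec.map (CommRingCat.ofHom (algebraMap k₀ k))))
  (F : Xb ⟶ Xb) (hF : WeilCoh.sm F ≫ π = π ≫ FX)

omit [IsAlgClosed k] [CharZero K] in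
lemma cast_sub_index (n i : ℕ) (hi : i ≤ 2 * n) :
    2 * (n : ℤ) - (i : ℤ) = ((2 * n - i : ℕ) : ℤ) := by
  rw [Nat.cast_sub hi]
  push_cast
  ring

/-- Betti numbers are symmetric -/
lemma finrank_reflect (i : ℕ) (hi : i ≤ 2 * WeilCoh.dim Xb.obj.left) :
    Module.finrank K ↥(T.gr Xb ((2 * WeilCoh.dim Xb.obj.left - i : ℕ) : ℤ)) =
      Module.finrank K ↥(T.gr Xb (i : ℤ)) := by
  haveI := T.duality Xb (i : ℤ) ((2 * WeilCoh.dim Xb.obj.left - i : ℕ) : ℤ)
    (by rw [← cast_sub_index _ _ hi]; ring)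
  exact (Module.finrank_of_isPerfPair
    (WeilCoh.pairing K (T.gr Xb (i : ℤ)) (T.gr Xb ((2 * WeilCoh.dim Xb.obj.left - i : ℕ) : ℤ))
      (T.tr Xb))).symm

/-- the middle Betti number of an odd dimensional variety is even -/
lemma even_finrank_middle (hn : Odd (WeilCoh.dim Xb.obj.left)) :
    Even (Module.finrank K ↥(T.gr Xb ((WeilCoh.dim Xb.obj.left : ℕ) : ℤ))) := by
  set n := WeilCoh.dim Xb.obj.left with hn'
  haveI := T.duality Xb (n : ℤ) (n : ℤ) (by ring)
  refine even_finrank_of_skew (WeilCoh.pairing K (T.gr Xb (n : ℤ)) (T.gr Xb (n : ℤ)) (T.tr Xb)) ?_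
  intro a b
  change T.tr Xb ((a : T.H Xb) * b) = -T.tr Xb ((b : T.H Xb) * a)
  rw [T.gradedComm Xb (n : ℤ) (n : ℤ) a b a.2 b.2, Int.natAbs_natCast,
    (hn.mul hn).neg_one_pow, neg_one_smul, map_neg]

include hFb hFapp hπ hF in
theorem main15456 :
    ∃ ε : K, (ε = 1 ∨ ε = -1) ∧
      Polynomial.aeval ((RatFunc.X : RatFunc K)⁻¹ *
            RatFunc.C ((Nat.card k₀ : K) ^ WeilCoh.dim Xb.obj.left)⁻¹)
          (∏ i ∈ Finset.range (WeilCoh.dim Xb.obj.left),
            (LinearMap.charpoly (T.pullDeg F ((2 * i + 1 : ℕ) : ℤ))).reverse) /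
        Polynomial.aeval ((RatFunc.X : RatFunc K)⁻¹ *
            RatFunc.C ((Nat.card k₀ : K) ^ WeilCoh.dim Xb.obj.left)⁻¹)
          (∏ i ∈ Finset.range (WeilCoh.dim Xb.obj.left + 1),
            (LinearMap.charpoly (T.pullDeg F ((2 * i : ℕ) : ℤ))).reverse) =
      RatFunc.C ε * RatFunc.C (Nat.card k₀ : K) ^ ((WeilCoh.dim Xb.obj.left : ℤ) *
          (∑ i ∈ Finset.range (2 * WeilCoh.dim Xb.obj.left + 1),
            (-1 : ℤ) ^ i * (Module.finrank K ↥(T.gr Xb (i : ℤ)) : ℤ)) / 2) *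
        (RatFunc.X : RatFunc K) ^ (∑ i ∈ Finset.range (2 * WeilCoh.dim Xb.obj.left + 1),
          (-1 : ℤ) ^ i * (Module.finrank K ↥(T.gr Xb (i : ℤ)) : ℤ)) *
        (algebraMap (Polynomial K) (RatFunc K)
          (∏ i ∈ Finset.range (WeilCoh.dim Xb.obj.left),
            (LinearMap.charpoly (T.pullDeg F ((2 * i + 1 : ℕ) : ℤ))).reverse) /
         algebraMap (Polynomial K) (RatFunc K)
          (∏ i ∈ Finset.range (WeilCoh.dim Xb.obj.left + 1),
            (LinearMap.charpoly (T.pullDeg F ((2 * i : ℕ) : ℤ))).reverse)) := by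
  classical
  set n := WeilCoh.dim Xb.obj.left with hn
  set q : K := (Nat.card k₀ : K) with hq
  have hq0 : q ≠ 0 := by
    rw [hq]
    exact_mod_cast (Nat.card_pos (α := k₀)).ne'
  set c : K := q ^ n with hc
  have hc0 : c ≠ 0 := pow_ne_zero _ hq0
  -- the data
  let Bd : ℕ → ℕ := fun i => Module.finrank K ↥(T.gr Xb (i : ℤ))
  let Dt : ℕ → K := fun i => LinearMap.det (T.pullDeg F (i : ℤ))
  let Pr : ℕ → Polynomial K := fun i => (LinearMap.charpoly (T.pullDeg F (i : ℤ))).reverse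
  set E : ℤ := ∑ i ∈ Finset.range (2 * n + 1), (-1 : ℤ) ^ i * (Bd i : ℤ) with hE
  set y : RatFunc K := RatFunc.C c * RatFunc.X with hy
  have hy0 : y ≠ 0 := mul_ne_zero (by rw [Ne, map_eq_zero]; exact hc0) RatFunc.X_ne_zero
  set uu : RatFunc K := (RatFunc.X : RatFunc K)⁻¹ * RatFunc.C c⁻¹ with huu
  have huy : uu = y⁻¹ := by rw [huu, hy, mul_inv_rev, map_inv₀]
  -- facts (F1), (F2)
  have F1 : ∀ i, i ≤ 2 * n → Dt (2 * n - i) * Dt i = c ^ Bd i := by
    intro i hi
    have h := main15454 k₀ k K T f FX hFb hle hFapp Xb π hπ F hF (i : ℤ)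
    rw [cast_sub_index n i hi, pow_mul] at h
    exact h
  have F2 : ∀ i, i ≤ 2 * n → Dt i • Pr (2 * n - i) =
      (-1 : Polynomial K) ^ Bd i * (LinearMap.charpoly (T.pullDeg F (i : ℤ))).comp
        (Polynomial.C c * Polynomial.X) := by
    intro i hi
    have h := main15455 k₀ k K T f FX hFb hle hFapp Xb π hπ F hF (i : ℤ)
    rw [cast_sub_index n i hi] at h
    exact h
  -- the key relation
  have key : ∀ i, i ≤ 2 * n →
      Polynomial.aeval uu (Pr i) * y ^ Bd i =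
        RatFunc.C ((-1 : K) ^ Bd i * Dt i) *
          algebraMap (Polynomial K) (RatFunc K) (Pr (2 * n - i)) := by
    intro i hi
    haveI : Invertible y := invertibleOfNonzero hy0
    have h1 := Polynomial.eval₂_reverse_mul_pow (algebraMap K (RatFunc K)) y
      (LinearMap.charpoly (T.pullDeg F (i : ℤ)))
    rw [invOf_eq_inv, ← huy, LinearMap.charpoly_natDegree] at h1
    rw [Polynomial.aeval_def]
    refine h1.trans ?_
    have h2 : y = algebraMap (Polynomial K) (RatFunc K) (Polynomial.C c * Polynomial.X) := by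
      rw [map_mul, RatFunc.algebraMap_C, RatFunc.algebraMap_X]
    have h3 : (LinearMap.charpoly (T.pullDeg F (i : ℤ))).comp (Polynomial.C c * Polynomial.X) =
        (-1 : Polynomial K) ^ Bd i * (Dt i • Pr (2 * n - i)) := by
      rw [F2 i hi, ← mul_assoc, ← mul_pow, neg_one_mul, neg_neg, one_pow, one_mul]
    rw [← Polynomial.aeval_def, h2, Polynomial.aeval_algebraMap_apply, ← Polynomial.comp_eq_aeval,
      h3, Polynomial.smul_eq_C_mul, ← mul_assoc, map_mul, map_mul, RatFunc.algebraMap_C, map_pow,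
      map_neg, map_one, map_mul, map_pow, map_neg, map_one]
  -- apply the abstract identity
  have main := alt_prod_eq n (fun i => Polynomial.aeval uu (Pr i))
    (fun i => algebraMap (Polynomial K) (RatFunc K) (Pr i))
    (fun i => RatFunc.C ((-1 : K) ^ Bd i * Dt i)) Bd y hy0 key
  rw [← alt_eq, ← alt_eq (fun i => algebraMap (Polynomial K) (RatFunc K) (Pr i))] at main
  -- the constant
  set δ : K := ∏ i ∈ range (2 * n + 1), ((-1 : K) ^ Bd i * Dt i) ^ w i with hδ
  have hconst : ∏ i ∈ range (2 * n + 1), (RatFunc.C ((-1 : K) ^ Bd i * Dt i) : RatFunc K) ^ w i =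
      RatFunc.C δ := by
    rw [hδ, map_prod]
    refine prod_congr rfl (fun i _ => ?_)
    rw [map_zpow₀]
  have hδ2 := delta_sq n Dt Bd c hc0 F1
  -- parity
  have heven : Even ((n : ℤ) * E) :=
    even_mul_sum n Bd (fun i hi => finrank_reflect k K T Xb i hi)
      (fun hodd => even_finrank_middle k K T Xb hodd)
  obtain ⟨m, hm⟩ := heven
  have hm2 : (n : ℤ) * E = 2 * m := by rw [hm, two_mul]
  have hsq : (δ * q ^ m) ^ 2 = 1 := by
    rw [mul_pow, hδ2, ← zpow_natCast (q ^ m), ← zpow_mul, hc, ← zpow_natCast q n, ← zpow_mul,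
      ← zpow_add₀ hq0]
    have : (n : ℤ) * -E + m * ((2 : ℕ) : ℤ) = 0 := by
      push_cast
      linarith
    rw [this, zpow_zero]
  obtain ⟨ε, hε, hεq⟩ := exists_sign δ q hq0 m hsq
  refine ⟨ε, hε, ?_⟩
  have hdiv : (n : ℤ) * E / 2 = m := by
    rw [hm2]
    exact Int.mul_ediv_cancel_left m two_ne_zero
  rw [hdiv]
  -- rewrite the two sides
  have hL : Polynomial.aeval uu (∏ i ∈ range n, Pr (2 * i + 1)) /
      Polynomial.aeval uu (∏ i ∈ range (n + 1), Pr (2 * i)) =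
      (∏ l ∈ range n, Polynomial.aeval uu (Pr (2 * l + 1))) /
        ∏ l ∈ range (n + 1), Polynomial.aeval uu (Pr (2 * l)) := by
    rw [map_prod, map_prod]
  have hR : algebraMap (Polynomial K) (RatFunc K) (∏ i ∈ range n, Pr (2 * i + 1)) /
      algebraMap (Polynomial K) (RatFunc K) (∏ i ∈ range (n + 1), Pr (2 * i)) =
      (∏ l ∈ range n, algebraMap (Polynomial K) (RatFunc K) (Pr (2 * l + 1))) /
        ∏ l ∈ range (n + 1), algebraMap (Polynomial K) (RatFunc K) (Pr (2 * l)) := by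
    rw [map_prod, map_prod]
  have hyE : y ^ E = RatFunc.C q ^ (2 * m) * (RatFunc.X : RatFunc K) ^ E := by
    rw [hy, mul_zpow, hc, map_pow, ← zpow_natCast (RatFunc.C q) n, ← zpow_mul, hm2]
  change Polynomial.aeval uu (∏ i ∈ range n, Pr (2 * i + 1)) /
      Polynomial.aeval uu (∏ i ∈ range (n + 1), Pr (2 * i)) =
    RatFunc.C ε * RatFunc.C q ^ m * (RatFunc.X : RatFunc K) ^ E *
      (algebraMap (Polynomial K) (RatFunc K) (∏ i ∈ range n, Pr (2 * i + 1)) /
        algebraMap (Polynomial K) (RatFunc K) (∏ i ∈ range (n + 1), Pr (2 * i)))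
  rw [hL, hR, main, hconst, hyE]
  have h5 : RatFunc.C δ * RatFunc.C q ^ (2 * m) = RatFunc.C ε * (RatFunc.C q : RatFunc K) ^ m := by
    rw [← map_zpow₀, ← map_zpow₀, ← map_mul, ← map_mul, hεq]
  rw [← mul_assoc (RatFunc.C δ), h5]

end FunEq

end Groth.Agent.Lib.R2H7.WeilFrob
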