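import Mathlib
import Groth.Agent.S2082
import Groth.Agent.Lib.Helper5RLR3
import Groth.Agent.Lib.Helper5IntDim
import Groth.Agent.Lib.Helper28RegLoc

/-!
# Coproduct decompositions of a regular local ring finite over a regular local ring (helper7, r2)

`free_and_regular_of_coproduct`: let `R → A` be a finite injective map of regular local rings and
`B, E ⊆ A` two `R`-subalgebras such that `A` is the coproduct `B ⊗_R E`.  Then `B` is a free
`R`-module and a regular local ring.
-/

set_option autoImplicit false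

universe u v w

namespace Groth.Agent.Lib.R2H7.WildCoprod

open IsLocalRing TensorProduct

section local_integral

theorem isLocalRing_of_isIntegral {B A : Type*} [CommRing B] [CommRing A] [IsLocalRing A]
    [Algebra B A] [Algebra.IsIntegral B A] (hinj : Function.Injective (algebraMap B A)) :
    ∃ _ : IsLocalRing B, IsLocalHom (algebraMap B A) := by
  haveI : Nontrivial B := (algebraMap B A).domain_nontrivial
  haveI hmax : (Ideal.comap (algebraMap B A) (maximalIdeal A)).IsMaximal :=
    Ideal.isMaximal_comap_of_isIntegral_of_isMaximal (maximalIdeal A)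
  have huniq : ∀ 𝔫 : Ideal B, 𝔫.IsMaximal → 𝔫 = Ideal.comap (algebraMap B A) (maximalIdeal A) := by
    intro 𝔫 h𝔫
    haveI := h𝔫
    obtain ⟨Q, hQ, hQ𝔫⟩ := Ideal.exists_ideal_over_maximal_of_isIntegral (S := A) 𝔫 (by
      rw [(RingHom.injective_iff_ker_eq_bot _).mp hinj]
      exact bot_le)
    rw [← hQ𝔫, IsLocalRing.eq_maximalIdeal hQ]
  have hloc : IsLocalRing B :=
    IsLocalRing.of_unique_max_ideal ⟨_, hmax, fun 𝔫 h𝔫 => huniq 𝔫 h𝔫⟩
  refine ⟨hloc, ?_⟩
  refine ((IsLocalRing.local_hom_TFAE (algebraMap B A)).out 4 0).mp ?_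
  exact (huniq _ (maximalIdeal.isMaximal B)).symm

end local_integral

section free

theorem free_of_finite_injective {R : Type u} [CommRing R] [IsRegularLocalRing R] {A : Type v}
    [CommRing A] [IsRegularLocalRing A] [Algebra R A] [Module.Finite R A]
    (hinj : Function.Injective (algebraMap R A)) : Module.Free R A := by
  let R' : Subring A := (algebraMap R A).range
  let e : R ≃+* R' := RingEquiv.ofBijective (algebraMap R A).rangeRestrict
    ⟨fun x y h => hinj (congrArg Subtype.val h), (algebraMap R A).rangeRestrict_surjective⟩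
  haveI : IsRegularLocalRing R' := IsRegularLocalRing.of_ringEquiv e
  letI : Algebra R R' := (algebraMap R A).rangeRestrict.toAlgebra
  haveI : IsScalarTower R R' A := IsScalarTower.of_algebraMap_eq (fun _ => rfl)
  haveI : Module.Finite R' A := Module.Finite.of_restrictScalars_finite R R' A
  haveI : Algebra.IsIntegral R' A := Algebra.IsIntegral.of_finite R' A
  have hinj' : Function.Injective (algebraMap R' A) := Subtype.val_injective
  obtain ⟨_, hlh⟩ := isLocalRing_of_isIntegral (B := R') (A := A) hinj'
  haveI := hlh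
  haveI : LocCoh.IsCohenMacaulayLocalRing A :=
    Groth.Agent.Lib.Helper5.isCohenMacaulayLocalRing_of_isRegularLocalRing A
  have hdimeq : ringKrullDim A = ringKrullDim R' :=
    Groth.Agent.Lib.Helper5.ringKrullDim_eq_of_isIntegral_of_injective R' A hinj'
  set J : Ideal A := (maximalIdeal R').map (algebraMap R' A) with hJ
  have hJle : J ≤ maximalIdeal A := IsLocalRing.map_maximalIdeal_le (algebraMap R' A)
  have hmin : maximalIdeal A ∈ J.minimalPrimes := by
    refine ⟨⟨inferInstance, hJle⟩, ?_⟩
    rintro q ⟨hq, hJq⟩ -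
    haveI := hq
    have h1 : maximalIdeal R' ≤ q.comap (algebraMap R' A) := Ideal.map_le_iff_le_comap.mp hJq
    have h2 : q.comap (algebraMap R' A) = maximalIdeal R' :=
      ((maximalIdeal.isMaximal R').eq_of_le (Ideal.comap_ne_top _ hq.ne_top) h1).symm
    haveI : q.IsMaximal := Ideal.isMaximal_of_isIntegral_of_isMaximal_comap q
      (h2 ▸ maximalIdeal.isMaximal R')
    exact (IsLocalRing.eq_maximalIdeal ‹q.IsMaximal›).ge
  haveI hart : IsArtinianRing (A ⧸ J) :=
    IsLocalRing.quotient_artinian_of_mem_minimalPrimes_of_isLocalRing J hmin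
  haveI : Nontrivial (A ⧸ J) := Ideal.Quotient.nontrivial_iff.mpr
    (fun h => (maximalIdeal.isMaximal A).ne_top (top_le_iff.mp (h ▸ hJle)))
  have hdim0 : ringKrullDim (A ⧸ J) = 0 :=
    ringKrullDimZero_iff_ringKrullDim_eq_zero.mp inferInstance
  haveI hflat' : Module.Flat R' A := by
    apply Groth.Agent.S2082.result
    rw [hdim0, add_zero, hdimeq]
  haveI : Module.Flat R R' := by
    let l : R ≃ₗ[R] R' := LinearEquiv.ofBijective (Algebra.linearMap R R') e.bijective
    exact Module.Flat.of_linearEquiv l.symm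
  haveI : Module.Flat R A := Module.Flat.trans R R' A
  exact Module.free_of_flat_of_isLocalRing

theorem exists_linearMap_one {R A : Type*} [CommRing R] [IsLocalRing R] [CommRing A]
    [IsLocalRing A] [Algebra R A] [IsLocalHom (algebraMap R A)] [Module.Free R A]
    [Module.Finite R A] : ∃ ρ : A →ₗ[R] R, ρ 1 = 1 := by
  classical
  let b := Module.Free.chooseBasis R A
  have hex : ∃ i, IsUnit (b.repr 1 i) := by
    by_contra hcon
    push_neg at hcon
    have h1 : (1 : A) ∈ maximalIdeal A := by
      rw [← b.sum_repr 1]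
      apply Ideal.sum_mem
      intro i _
      rw [Algebra.smul_def]
      apply Ideal.mul_mem_right
      exact map_nonunit (algebraMap R A) _ (hcon i)
    exact (Ideal.ne_top_iff_one _).mp (maximalIdeal.isMaximal A).ne_top h1
  obtain ⟨i, hi⟩ := hex
  obtain ⟨c, hc⟩ := hi
  refine ⟨(↑c⁻¹ : R) • b.coord i, ?_⟩
  rw [LinearMap.smul_apply, Module.Basis.coord_apply, ← hc, smul_eq_mul, Units.inv_mul]

end free

section coprod

variable {R : Type u} [CommRing R] [IsRegularLocalRing R] {A : Type v} [CommRing A]
  [IsRegularLocalRing A] [Algebra R A] [Module.Finite R A]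

theorem free_and_regular_of_coproduct (hinj : Function.Injective (algebraMap R A))
    (B E : Subalgebra R A)
    (hcop : ∀ (C : Type (max u v)) [CommRing C] [Algebra R C] (f : B →ₐ[R] C) (g : E →ₐ[R] C),
      ∃ ψ : A →ₐ[R] C, (∀ x : B, ψ x = f x) ∧ (∀ x : E, ψ x = g x))
    (huniq : ∀ (C : Type (max u v)) [CommRing C] [Algebra R C] (ψ₁ ψ₂ : A →ₐ[R] C),
      (∀ x : B, ψ₁ x = ψ₂ x) → (∀ x : E, ψ₁ x = ψ₂ x) → ψ₁ = ψ₂) :
    Module.Free R B ∧ IsRegularLocalRing B := by
  haveI hfreeA : Module.Free R A := free_of_finite_injective hinj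
  haveI : Algebra.IsIntegral R A := Algebra.IsIntegral.of_finite R A
  obtain ⟨_, hlhR⟩ := isLocalRing_of_isIntegral (B := R) (A := A) hinj
  haveI := hlhR
  obtain ⟨ρ, hρ⟩ := exists_linearMap_one (R := R) (A := A)
  haveI : IsNoetherian R A := isNoetherian_of_isNoetherianRing_of_finite R A
  haveI : Module.Finite R B := Module.Finite.of_injective B.val.toLinearMap Subtype.val_injective
  haveI : Module.Finite R E := Module.Finite.of_injective E.val.toLinearMap Subtype.val_injective
  -- the comparison maps
  let χ : B ⊗[R] E →ₐ[R] A := Algebra.TensorProduct.productMap B.val E.val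
  obtain ⟨ψ, hψB, hψE⟩ := hcop (ULift.{u} (B ⊗[R] E))
    ((ULift.algEquiv (R := R)).symm.toAlgHom.comp Algebra.TensorProduct.includeLeft)
    ((ULift.algEquiv (R := R)).symm.toAlgHom.comp Algebra.TensorProduct.includeRight)
  let ψ' : A →ₐ[R] B ⊗[R] E := (ULift.algEquiv (R := R)).toAlgHom.comp ψ
  have hψ'B : ∀ x : B, ψ' x = x ⊗ₜ[R] 1 := by
    intro x
    change (ψ (x : A)).down = _
    rw [hψB]
    rfl
  have hψ'E : ∀ x : E, ψ' x = 1 ⊗ₜ[R] x := by
    intro x
    change (ψ (x : A)).down = _
    rw [hψE]
    rfl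
  have h1 : ψ'.comp χ = AlgHom.id R (B ⊗[R] E) := by
    apply Algebra.TensorProduct.ext
    · ext x
      change ψ' (χ (x ⊗ₜ 1)) = x ⊗ₜ 1
      rw [Algebra.TensorProduct.productMap_apply_tmul, map_one, mul_one]
      exact hψ'B x
    · ext x
      change ψ' (χ (1 ⊗ₜ x)) = 1 ⊗ₜ x
      rw [Algebra.TensorProduct.productMap_apply_tmul, map_one, one_mul]
      exact hψ'E x
  have h2 : χ.comp ψ' = AlgHom.id R A := by
    have := huniq (ULift.{u} A)
      ((ULift.algEquiv (R := R)).symm.toAlgHom.comp (χ.comp ψ'))
      ((ULift.algEquiv (R := R)).symm.toAlgHom)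
      (fun x => by
        apply ULift.ext
        change χ (ψ' x) = x
        rw [hψ'B, Algebra.TensorProduct.productMap_apply_tmul, map_one, mul_one]
        rfl)
      (fun x => by
        apply ULift.ext
        change χ (ψ' x) = x
        rw [hψ'E, Algebra.TensorProduct.productMap_apply_tmul, map_one, one_mul]
        rfl)
    ext a
    have h3 := congrArg (fun F : A →ₐ[R] ULift.{u} A => (F a).down) this
    exact h3
  let eA : (B ⊗[R] E) ≃ₐ[R] A := AlgEquiv.ofAlgHom χ ψ' h2 h1
  -- retractions
  let πB : A →ₗ[R] B := (TensorProduct.rid R B).toLinearMap.comp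
    ((LinearMap.lTensor B (ρ.comp E.val.toLinearMap)).comp eA.symm.toLinearMap)
  have hπB : πB.comp B.val.toLinearMap = LinearMap.id := by
    refine LinearMap.ext fun x => ?_
    change TensorProduct.rid R B (LinearMap.lTensor B (ρ.comp E.val.toLinearMap) (ψ' x)) = x
    rw [hψ'B, LinearMap.lTensor_tmul, LinearMap.comp_apply]
    change TensorProduct.rid R B (x ⊗ₜ ρ 1) = x
    rw [hρ, TensorProduct.rid_tmul, one_smul]
  let πE : A →ₗ[R] E := (TensorProduct.lid R E).toLinearMap.comp
    ((LinearMap.rTensor E (ρ.comp B.val.toLinearMap)).comp eA.symm.toLinearMap)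
  have hπE : πE.comp E.val.toLinearMap = LinearMap.id := by
    refine LinearMap.ext fun x => ?_
    change TensorProduct.lid R E (LinearMap.rTensor E (ρ.comp B.val.toLinearMap) (ψ' x)) = x
    rw [hψ'E, LinearMap.rTensor_tmul, LinearMap.comp_apply]
    change TensorProduct.lid R E (ρ 1 ⊗ₜ x) = x
    rw [hρ, TensorProduct.lid_tmul, one_smul]
  haveI : Module.Projective R B := Module.Projective.of_split B.val.toLinearMap πB hπB
  haveI : Module.Projective R E := Module.Projective.of_split E.val.toLinearMap πE hπE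
  haveI hfreeB : Module.Free R B := Module.free_of_flat_of_isLocalRing
  haveI hfreeE : Module.Free R E := Module.free_of_flat_of_isLocalRing
  refine ⟨hfreeB, ?_⟩
  -- `A` is free over `B`
  let χB : B ⊗[R] E →ₐ[B] A :=
    Algebra.TensorProduct.productLeftAlgHom (Algebra.ofId B A) E.val
  have hχB : ∀ x, χB x = χ x := fun x => rfl
  let lB : (B ⊗[R] E) ≃ₗ[B] A := LinearEquiv.ofBijective χB.toLinearMap (by
    have : Function.Bijective χ := eA.bijective
    exact this)
  haveI : Module.Flat B A := Module.Flat.of_linearEquiv lB.symm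
  haveI : IsNoetherianRing B := IsNoetherianRing.of_finite R B
  haveI : Module.Finite B A := Module.Finite.of_restrictScalars_finite R B A
  haveI : Algebra.IsIntegral B A := Algebra.IsIntegral.of_finite B A
  obtain ⟨hlocB, hlhB⟩ := isLocalRing_of_isIntegral (B := B) (A := A) Subtype.val_injective
  haveI := hlocB
  haveI := hlhB
  exact Groth.Agent.Lib.Helper28.isRegularLocalRing_of_flat_of_isLocalHom B A

end coprod

end Groth.Agent.Lib.R2H7.WildCoprod
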