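/-
Purity in dimension two for group actions: a finite group acting faithfully on a Cohen–Macaulay
local domain `A`, finite over a regular local ring `R = A^H` with the same residue field, and with
trivial inertia at all non-maximal primes, is trivial.  Plus a general Dedekind-independence
determinant lemma and some group theory for groups of order `p ^ 2`.
-/
import Mathlib
import Groth.Agent.Lib.R2H7WildCoprod
import Groth.Agent.Lib.Helper28Normal
import Groth.Agent.Lib.Helper5CM

set_option autoImplicit false
universe u v w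

namespace Groth.Agent.Lib.R2H7.WildDim2

open IsLocalRing

section det

/-- Dedekind independence, determinant form: distinct ring homomorphisms `χ i : B → K` into a field
which agree on the base ring `R`, evaluated at an `R`-basis of `B` of the same size, give an
invertible matrix. -/
theorem det_ne_zero_of_injective {R : Type*} {B : Type*} {K : Type*} {ι : Type*} {κ : Type*}
    [CommRing R] [CommRing B]
    [Algebra R B] [Field K] [Fintype ι] [DecidableEq ι] [Fintype κ]
    (b : Module.Basis κ R B) (ρ : R →+* K) (χ : ι → (B →+* K)) (hχ : Function.Injective χ)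
    (hρ : ∀ i r, χ i (algebraMap R B r) = ρ r) (v : ι → K)
    (hvN : ∀ k, ∑ i, v i * χ i (b k) = 0) : v = 0 := by
  let χ' : ι → (B →* K) := fun i => (χ i : B →* K)
  have hχ' : Function.Injective χ' := by
    intro i j h
    apply hχ
    ext x
    exact DFunLike.congr_fun h x
  have hli : LinearIndependent K (fun i : ι => (χ' i : B → K)) :=
    (linearIndependent_monoidHom B K).comp χ' hχ'
  have hrel : ∑ i, v i • (χ' i : B → K) = 0 := by
    funext a
    simp only [Finset.sum_apply, Pi.smul_apply, smul_eq_mul, Pi.zero_apply]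
    have ha : a = ∑ k, algebraMap R B (b.repr a k) * b k := by
      conv_lhs => rw [← b.sum_repr a]
      exact Finset.sum_congr rfl (fun k _ => by rw [Algebra.smul_def])
    have hia : ∀ i : ι, χ i a = ∑ k, ρ (b.repr a k) * χ i (b k) := by
      intro i
      conv_lhs => rw [ha]
      rw [map_sum]
      apply Finset.sum_congr rfl
      intro k _
      rw [map_mul, hρ]
    change ∑ i, v i * χ i a = 0
    simp_rw [hia, Finset.mul_sum]
    rw [Finset.sum_comm]
    apply Finset.sum_eq_zero
    intro k _
    calc ∑ i, v i * (ρ (b.repr a k) * χ i (b k))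
        = ρ (b.repr a k) * ∑ i, v i * χ i (b k) := by
          rw [Finset.mul_sum]
          apply Finset.sum_congr rfl
          intro i _
          ring
      _ = 0 := by rw [hvN k, mul_zero]
  have h0 := Fintype.linearIndependent_iff.mp hli v hrel
  exact funext h0

theorem det_ne_zero_of_injective' {R : Type*} {B : Type*} {K : Type*} {ι : Type*}
    [CommRing R] [CommRing B]
    [Algebra R B] [Field K] [Fintype ι] [DecidableEq ι]
    (b : Module.Basis ι R B) (ρ : R →+* K) (χ : ι → (B →+* K)) (hχ : Function.Injective χ)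
    (hρ : ∀ i r, χ i (algebraMap R B r) = ρ r) :
    (Matrix.of fun i k => χ i (b k)).det ≠ 0 := by
  intro hdet
  obtain ⟨v, hv, hvN⟩ := Matrix.exists_vecMul_eq_zero_iff.mpr hdet
  apply hv
  apply det_ne_zero_of_injective b ρ χ hχ hρ v
  intro k
  have h1 := congrFun hvN k
  simpa only [Matrix.vecMul, dotProduct, Matrix.of_apply, Pi.zero_apply] using h1

/-- If the inertia group of the prime `P` is trivial, then the determinant of the matrix
`(σ • b τ)` of a basis indexed by the group is not in `P`. -/
theorem det_notMem {R : Type u} [CommRing R] {A : Type v} [CommRing A] [Algebra R A]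
    {G : Type w} [Group G] [Fintype G] [DecidableEq G] [MulSemiringAction G A]
    [SMulCommClass G R A] (b : Module.Basis G R A) (P : Ideal A) [P.IsPrime]
    (hP : P.inertia G = ⊥) :
    (Matrix.of fun σ τ : G => σ • b τ).det ∉ P := by
  intro hdet
  let K := FractionRing (A ⧸ P)
  let π : A →+* K := (algebraMap (A ⧸ P) K).comp (Ideal.Quotient.mk P)
  have hπ : ∀ a, π a = 0 ↔ a ∈ P := fun a => by
    change algebraMap (A ⧸ P) K (Ideal.Quotient.mk P a) = 0 ↔ _
    rw [IsFractionRing.to_map_eq_zero_iff, Ideal.Quotient.eq_zero_iff_mem]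
  set N : Matrix G G A := Matrix.of fun σ τ => σ • b τ with hNdef
  let χ : G → (A →+* K) := fun σ => π.comp (MulSemiringAction.toRingHom G A σ)
  have hχ : ∀ σ a, χ σ a = π (σ • a) := fun σ a => rfl
  have hχinj : Function.Injective χ := by
    intro σ τ h
    have hmem : τ * σ⁻¹ ∈ P.inertia G := by
      intro x
      have h1 := DFunLike.congr_fun h (σ⁻¹ • x)
      rw [hχ, hχ, smul_inv_smul] at h1
      have h2 : τ • σ⁻¹ • x - x ∈ P := by
        rw [← hπ, map_sub, sub_eq_zero]
        exact h1.symm
      rw [mul_smul]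
      exact h2
    rw [hP, Subgroup.mem_bot] at hmem
    exact (mul_inv_eq_one.mp hmem).symm
  have hne := det_ne_zero_of_injective' b (π.comp (algebraMap R A)) χ hχinj
    (fun σ r => by rw [hχ, smul_algebraMap]; rfl)
  apply hne
  have hmap : (Matrix.of fun i k => χ i (b k)) = N.map π := by
    ext i k
    rfl
  rw [hmap, ← RingHom.mapMatrix_apply, ← RingHom.map_det, (hπ _).mpr hdet]

end det

section cm

/-- A normal Noetherian local domain of dimension two is Cohen–Macaulay. -/
theorem isCohenMacaulayLocalRing_of_normal_dim_two (A : Type v) [CommRing A] [IsDomain A]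
    [IsIntegrallyClosed A] [IsLocalRing A] [IsNoetherianRing A] (hdim : ringKrullDim A = 2) :
    LocCoh.IsCohenMacaulayLocalRing A := by
  have hNoeth : IsNoetherianRing A := inferInstance
  refine ⟨le_antisymm ?_ Groth.Agent.Lib.Helper5.depth_le_supportDim⟩
  rw [Module.supportDim_self_eq_ringKrullDim, hdim]
  have h2 := Groth.Agent.Lib.Helper28.two_le_depth_of_isIntegrallyClosed_of_two_le_dim (A := A)
    (by rw [hdim])
  change ((2 : ℕ∞) : WithBot ℕ∞) ≤ ((LocCoh.depth A A : ℕ∞) : WithBot ℕ∞)
  exact_mod_cast h2

/-- A Cohen–Macaulay local ring finite and injective over a regular local ring is free. -/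
theorem free_of_finite_injective_cm {R : Type u} [CommRing R] [IsRegularLocalRing R] {A : Type v}
    [CommRing A] [LocCoh.IsCohenMacaulayLocalRing A] [Algebra R A] [Module.Finite R A]
    (hinj : Function.Injective (algebraMap R A)) : Module.Free R A := by
  let R' : Subring A := (algebraMap R A).range
  let e : R ≃+* R' := RingEquiv.ofBijective (algebraMap R A).rangeRestrict
    ⟨fun x y h => hinj (congrArg Subtype.val h), (algebraMap R A).rangeRestrict_surjective⟩
  haveI : IsRegularLocalRing R' := IsRegularLocalRing.of_ringEquiv e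
  letI : Algebra R R' := (algebraMap R A).rangeRestrict.toAlgebra
  haveI : IsScalarTower R R' A := IsScalarTower.of_algebraMap_eq (fun _ => rfl)
  haveI : Module.Finite R' A := Module.Finite.of_restrictScalars_finite R R' A
  haveI : Algebra.IsIntegral R' A := Algebra.IsIntegral.of_finite R' A
  have hinj' : Function.Injective (algebraMap R' A) := Subtype.val_injective
  obtain ⟨_, hlh⟩ := Groth.Agent.Lib.R2H7.WildCoprod.isLocalRing_of_isIntegral
    (B := R') (A := A) hinj'
  haveI := hlh
  have hdimeq : ringKrullDim A = ringKrullDim R' :=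
    Groth.Agent.Lib.Helper5.ringKrullDim_eq_of_isIntegral_of_injective R' A hinj'
  set J : Ideal A := (maximalIdeal R').map (algebraMap R' A) with hJ
  have hJle : J ≤ maximalIdeal A := IsLocalRing.map_maximalIdeal_le (algebraMap R' A)
  have hmin : maximalIdeal A ∈ J.minimalPrimes := by
    refine ⟨⟨inferInstance, hJle⟩, ?_⟩
    rintro q ⟨hq, hJq⟩ -
    haveI := hq
    have h1 : maximalIdeal R' ≤ q.comap (algebraMap R' A) := Ideal.map_le_iff_le_comap.mp hJq
    have h2 : q.comap (algebraMap R' A) = maximalIdeal R' :=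
      ((maximalIdeal.isMaximal R').eq_of_le (Ideal.comap_ne_top _ hq.ne_top) h1).symm
    haveI : q.IsMaximal := Ideal.isMaximal_of_isIntegral_of_isMaximal_comap q
      (h2 ▸ maximalIdeal.isMaximal R')
    exact (IsLocalRing.eq_maximalIdeal ‹q.IsMaximal›).ge
  haveI hart : IsArtinianRing (A ⧸ J) :=
    IsLocalRing.quotient_artinian_of_mem_minimalPrimes_of_isLocalRing J hmin
  haveI : Nontrivial (A ⧸ J) := Ideal.Quotient.nontrivial_iff.mpr
    (fun h => (maximalIdeal.isMaximal A).ne_top (top_le_iff.mp (h ▸ hJle)))
  have hdim0 : ringKrullDim (A ⧸ J) = 0 :=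
    ringKrullDimZero_iff_ringKrullDim_eq_zero.mp inferInstance
  haveI hflat' : Module.Flat R' A := by
    apply Groth.Agent.S2082.result
    rw [hdim0, add_zero, hdimeq]
  haveI : Module.Flat R R' := by
    let l : R ≃ₗ[R] R' := LinearEquiv.ofBijective (Algebra.linearMap R R') e.bijective
    exact Module.Flat.of_linearEquiv l.symm
  haveI : Module.Flat R A := Module.Flat.trans R R' A
  exact Module.free_of_flat_of_isLocalRing

end cm

section purity

variable {R : Type u} [CommRing R] {A : Type v} [CommRing A] [IsLocalRing A] [Algebra R A]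
  {H : Type w} [Group H] [MulSemiringAction H A] [SMulCommClass H R A]

theorem smul_mem_maximalIdeal (σ : H) {r : A} (hr : r ∈ maximalIdeal A) :
    σ • r ∈ maximalIdeal A := by
  rw [mem_maximalIdeal, mem_nonunits_iff] at hr ⊢
  intro hu
  apply hr
  have := hu.map (MulSemiringAction.toRingHom H A σ⁻¹)
  simpa using this

theorem smul_sub_mem (hres : Function.Surjective (residue A ∘ algebraMap R A)) (σ : H) (a : A) :
    σ • a - a ∈ maximalIdeal A := by
  obtain ⟨c, hc⟩ := hres (residue A a)
  rw [Function.comp_apply] at hc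
  have h1 : a - algebraMap R A c ∈ maximalIdeal A := by
    rw [← residue_eq_zero_iff, map_sub, sub_eq_zero]
    exact hc.symm
  have h2 : σ • a - a = σ • (a - algebraMap R A c) - (a - algebraMap R A c) := by
    rw [smul_sub, smul_algebraMap]; ring
  rw [h2]
  exact Ideal.sub_mem _ (smul_mem_maximalIdeal σ h1) h1

theorem ne_maximalIdeal_of_height_le_one [IsNoetherianRing A] (hdim : 2 ≤ ringKrullDim A)
    (Q : Ideal A) (hQ : Q.height ≤ 1) : Q ≠ maximalIdeal A := by
  rintro rfl
  have h3 : ((maximalIdeal A).height : WithBot ℕ∞) = ringKrullDim A :=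
    IsLocalRing.maximalIdeal_height_eq_ringKrullDim
  rw [← h3] at hdim
  have h2 : (2 : ℕ∞) ≤ (maximalIdeal A).height := by
    rw [← WithBot.coe_le_coe]
    exact hdim
  have h4 : ((2 : ℕ) : ℕ∞) ≤ ((1 : ℕ) : ℕ∞) := by exact_mod_cast h2.trans hQ
  have h5 : (2 : ℕ) ≤ 1 := by exact_mod_cast h4
  omega

/-- Purity in the Cohen–Macaulay case: a faithful action with invariants `R` regular, same residue
field, and trivial inertia at all non-maximal primes, is trivial when `dim A ≥ 2`. -/
theorem eq_one_of_unramified [IsRegularLocalRing R] [IsDomain A]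
    (hCM : LocCoh.IsCohenMacaulayLocalRing A) [Module.Finite R A]
    (hinj : Function.Injective (algebraMap R A))
    (hres : Function.Surjective (residue A ∘ algebraMap R A))
    [Finite H] [FaithfulSMul H A]
    (hfix : ∀ a : A, (∀ h : H, h • a = a) → a ∈ Set.range (algebraMap R A))
    (hdim : 2 ≤ ringKrullDim A)
    (hram : ∀ P : Ideal A, P.IsPrime → P ≠ maximalIdeal A → P.inertia H = ⊥) (g : H) :
    g = 1 := by
  classical
  by_contra hg
  letI : Fintype H := Fintype.ofFinite H
  haveI : IsNoetherianRing A := by haveI := hCM; infer_instance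
  haveI : Module.Free R A := @free_of_finite_injective_cm R _ _ A _ hCM _ _ hinj
  haveI : FaithfulSMul R A := (faithfulSMul_iff_algebraMap_injective R A).mpr hinj
  haveI : IsGaloisGroup H R A :=
    ⟨inferInstance, inferInstance, ⟨fun a ha => hfix a ha⟩⟩
  have hrank : Nat.card H = Module.finrank R A := IsGaloisGroup.card_eq_finrank' H R A
  let b0 := Module.finBasis R A
  have e : Fin (Module.finrank R A) ≃ H :=
    Fintype.equivOfCardEq (by rw [Fintype.card_fin, ← hrank, Nat.card_eq_fintype_card])
  let b : Module.Basis H R A := b0.reindex e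
  set N : Matrix H H A := Matrix.of fun σ τ => σ • b τ with hNdef
  have hdetP : ∀ P : Ideal A, P.IsPrime → P ≠ maximalIdeal A → N.det ∉ P :=
    fun P hP hne => @det_notMem R _ A _ _ H _ _ _ _ _ b P hP (hram P hP hne)
  have hunit : IsUnit N.det := by
    by_contra hnu
    obtain ⟨Q, hQ⟩ := Ideal.nonempty_minimalPrimes (I := Ideal.span {N.det})
      (by rw [Ne, Ideal.span_singleton_eq_top]; exact hnu)
    have hQprime := hQ.1.1
    have hht : Q.height ≤ 1 := Ideal.height_le_one_of_isPrincipal_of_mem_minimalPrimes _ Q hQ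
    have hQne : Q ≠ maximalIdeal A := ne_maximalIdeal_of_height_le_one hdim Q hht
    exact hdetP Q hQprime hQne (hQ.1.2 (Ideal.mem_span_singleton_self _))
  have hNinv : N * N⁻¹ = 1 := Matrix.mul_nonsing_inv N hunit
  let c : H → A := fun τ => N⁻¹ τ 1
  have hc : ∀ σ : H, ∑ τ, (σ • b τ) * c τ = if σ = 1 then 1 else 0 := by
    intro σ
    have h := congrFun (congrFun hNinv σ) 1
    rw [Matrix.mul_apply, Matrix.one_apply] at h
    exact h
  have h1 := hc 1
  have hgg := hc g
  rw [if_pos rfl] at h1
  rw [if_neg hg] at hgg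
  simp only [one_smul] at h1
  have hmem : (1 : A) ∈ maximalIdeal A := by
    have h2 : (1 : A) = - ∑ τ, (g • b τ - b τ) * c τ := by
      simp only [sub_mul, Finset.sum_sub_distrib, hgg, h1]
      ring
    rw [h2]
    apply neg_mem
    apply Ideal.sum_mem
    intro τ _
    apply Ideal.mul_mem_right
    exact smul_sub_mem hres g (b τ)
  exact (Ideal.ne_top_iff_one _).mp (maximalIdeal.isMaximal A).ne_top hmem

end purity

section group

/-- In a commutative group of order `p ^ 2`, if a nontrivial subgroup meets a subgroup of order `p`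
trivially, then every element has order dividing `p`. -/
theorem pow_eq_one_of_disjoint {H : Type*} [Group H] [Finite H] (p : ℕ) [Fact p.Prime]
    (hcomm : ∀ g h : H, g * h = h * g) (hcard : Nat.card H = p ^ 2) (Γ K : Subgroup H)
    (hΓ : Nat.card Γ = p) (hK : K ≠ ⊥) (hdisj : K ⊓ Γ = ⊥) (h : H) : h ^ p = 1 := by
  have hp : p.Prime := Fact.out
  have hKdvd : Nat.card K ∣ p ^ 2 := hcard ▸ Subgroup.card_subgroup_dvd_card K
  obtain ⟨j, -, hj⟩ := (Nat.dvd_prime_pow hp).mp hKdvd
  have hj0 : j ≠ 0 := by
    intro h0
    rw [h0, pow_zero, Subgroup.card_eq_one] at hj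
    exact hK hj
  have hpK : p ≤ Nat.card K := by
    rw [hj]
    calc p = p ^ 1 := (pow_one p).symm
      _ ≤ p ^ j := Nat.pow_le_pow_right hp.pos (Nat.one_le_iff_ne_zero.mpr hj0)
  have hinj : Function.Injective (fun g : K × Γ => (g.1 : H) * (g.2 : H)) :=
    Subgroup.mul_injective_of_disjoint (disjoint_iff.mpr hdisj)
  have hle : Nat.card (K × Γ) ≤ Nat.card H := Nat.card_le_card_of_injective _ hinj
  rw [Nat.card_prod, hΓ, hcard, pow_two] at hle
  have hKle : Nat.card K ≤ p := Nat.le_of_mul_le_mul_right hle hp.pos
  have hKp : Nat.card K = p := le_antisymm hKle hpK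
  have hbij : Function.Bijective (fun g : K × Γ => (g.1 : H) * (g.2 : H)) := by
    apply hinj.bijective_of_nat_card_le
    rw [Nat.card_prod, hΓ, hKp, hcard, pow_two]
  obtain ⟨⟨k, γ⟩, rfl⟩ := hbij.2 h
  have hk : (k : H) ^ p = 1 := by
    have := pow_card_eq_one' (G := K) (x := k)
    rw [hKp] at this
    exact_mod_cast congrArg Subtype.val this
  have hγ : (γ : H) ^ p = 1 := by
    have := pow_card_eq_one' (G := Γ) (x := γ)
    rw [hΓ] at this
    exact_mod_cast congrArg Subtype.val this
  change ((k : H) * (γ : H)) ^ p = 1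
  rw [(show Commute (k : H) (γ : H) from hcomm _ _).mul_pow, hk, hγ, one_mul]

end group

end Groth.Agent.Lib.R2H7.WildDim2
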