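import Mathlib
import Groth.Agent.Lib.Helper5RLR
import Groth.Agent.Lib.R2H7CotangentRep

/-!
# Actions ramified only at the closed point have no invariant regular parameter

If an automorphism `σ` of a regular local ring `A` (with a coefficient field fixed by `σ`) fixes
an element `v ∈ 𝔪 \ 𝔪²`, then the ideal generated by all `σ a - a` is generated by `dim A - 1`
elements, hence is contained in a non-maximal prime by Krull's height theorem.
-/

set_option autoImplicit false
universe u v w

namespace Groth.Agent.Lib.R2H7.WildFixed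

open IsLocalRing

section

variable {A : Type u} [CommRing A] {G : Type w} [Group G] [MulSemiringAction G A]

/-- The subring of elements `a` with `σ a - a ∈ J`. -/
def movedInto (σ : G) (J : Ideal A) : Subring A where
  carrier := {a | σ • a - a ∈ J}
  mul_mem' := by
    intro a b ha hb
    show σ • (a * b) - a * b ∈ J
    have : σ • (a * b) - a * b = σ • a * (σ • b - b) + (σ • a - a) * b := by
      rw [smul_mul']; ring
    rw [this]
    exact J.add_mem (J.mul_mem_left _ hb) (J.mul_mem_right _ ha)
  one_mem' := by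
    show σ • (1 : A) - 1 ∈ J
    simp
  add_mem' := by
    intro a b ha hb
    show σ • (a + b) - (a + b) ∈ J
    have : σ • (a + b) - (a + b) = (σ • a - a) + (σ • b - b) := by
      rw [smul_add]; ring
    rw [this]
    exact J.add_mem ha hb
  zero_mem' := by
    show σ • (0 : A) - 0 ∈ J
    simp
  neg_mem' := by
    intro a ha
    show σ • (-a) - (-a) ∈ J
    have : σ • (-a) - (-a) = -(σ • a - a) := by
      rw [smul_neg]; ring
    rw [this]
    exact J.neg_mem ha

theorem mem_movedInto {σ : G} {J : Ideal A} {a : A} : a ∈ movedInto σ J ↔ σ • a - a ∈ J :=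
  Iff.rfl

variable [IsLocalRing A]

theorem smul_mem_pow (σ : G) (N : ℕ) {r : A} (hr : r ∈ maximalIdeal A ^ N) :
    σ • r ∈ maximalIdeal A ^ N := by
  have h1 : maximalIdeal A ≤ (maximalIdeal A).comap (MulSemiringAction.toRingHom G A σ) :=
    fun x hx => CotangentRep.smul_mem_maximalIdeal σ hx
  have h2 := Ideal.pow_right_mono h1 N
  exact Ideal.le_comap_pow _ N (h2 hr)

/-- A subring containing a coefficient field and generators of `𝔪` is dense. -/
theorem exists_approx {k : Type v} [Field k] [Algebra k A]
    (hk : Function.Surjective (IsLocalRing.residue A ∘ algebraMap k A))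
    (S : Subring A) (hSk : ∀ c : k, algebraMap k A c ∈ S)
    (T : Set A) (hTS : T ⊆ S) (hT : Ideal.span T = maximalIdeal A) (N : ℕ) :
    ∀ a : A, ∃ s ∈ S, a - s ∈ maximalIdeal A ^ N := by
  induction N with
  | zero =>
    intro a
    exact ⟨0, S.zero_mem, by simp⟩
  | succ N ih =>
    have key : ∀ m ∈ Ideal.span T, ∃ s ∈ S, m - s ∈ maximalIdeal A ^ (N + 1) := by
      intro m hm
      induction hm using Submodule.span_induction with
      | mem x hx => exact ⟨x, hTS hx, by simp⟩
      | zero => exact ⟨0, S.zero_mem, by simp⟩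
      | add x y hx hy ihx ihy =>
        obtain ⟨s, hs, hs'⟩ := ihx
        obtain ⟨t, ht, ht'⟩ := ihy
        refine ⟨s + t, S.add_mem hs ht, ?_⟩
        have : x + y - (s + t) = (x - s) + (y - t) := by ring
        rw [this]
        exact Ideal.add_mem _ hs' ht'
      | smul a x hx ihx =>
        obtain ⟨s, hs, hs'⟩ := ihx
        obtain ⟨t, ht, ht'⟩ := ih a
        refine ⟨t * s, S.mul_mem ht hs, ?_⟩
        have : a • x - t * s = (a - t) * x + t * (x - s) := by
          rw [smul_eq_mul]; ring
        rw [this]
        refine Ideal.add_mem _ ?_ (Ideal.mul_mem_left _ _ hs')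
        rw [pow_succ]
        have hx' : x ∈ maximalIdeal A := hT ▸ hx
        exact Ideal.mul_mem_mul ht' hx'
    intro a
    obtain ⟨c, hc⟩ := hk (IsLocalRing.residue A a)
    have hm : a - algebraMap k A c ∈ maximalIdeal A := by
      rw [← IsLocalRing.residue_eq_zero_iff, map_sub, sub_eq_zero]
      exact hc.symm
    obtain ⟨s, hs, hs'⟩ := key _ (hT.symm ▸ hm)
    refine ⟨algebraMap k A c + s, S.add_mem (hSk c) hs, ?_⟩
    have : a - (algebraMap k A c + s) = (a - algebraMap k A c) - s := by ring
    rw [this]
    exact hs'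

end

theorem exists_smul_ne
    (A : Type u) [CommRing A] [IsRegularLocalRing A]
    (k : Type v) [Field k] [Algebra k A]
    (hk : Function.Surjective (IsLocalRing.residue A ∘ algebraMap k A))
    (G : Type w) [Group G] [Nontrivial G] [MulSemiringAction G A]
    (hGk : ∀ (σ : G) (c : k), σ • algebraMap k A c = algebraMap k A c)
    (hram : ∀ P : Ideal A, P.IsPrime → P ≠ maximalIdeal A → P.inertia G = ⊥)
    (v : A) (hv : v ∈ maximalIdeal A) (hv2 : v ∉ maximalIdeal A ^ 2) :
    ∃ σ : G, σ • v ≠ v := by
  classical
  by_contra hcon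
  have hfix : ∀ σ : G, σ • v = v := by
    intro σ
    by_contra h
    exact hcon ⟨σ, h⟩
  obtain ⟨σ, hσ⟩ := exists_ne (1 : G)
  let y : Fin 1 → maximalIdeal A := fun _ => ⟨v, hv⟩
  have hli : LinearIndependent (ResidueField A)
      (fun i => (maximalIdeal A).toCotangent (y i)) := by
    rw [linearIndependent_unique_iff]
    simp only [y, ne_eq, Ideal.toCotangent_eq_zero]
    exact hv2
  obtain ⟨s, z, hrs, hsup⟩ := Helper5.exists_extension_span_eq_maximalIdeal y hli
  have hreg : ((maximalIdeal A).spanFinrank : WithBot ℕ∞) = ringKrullDim A :=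
    IsRegularLocalRing.spanFinrank_maximalIdeal
  let J : Ideal A := Ideal.span (Set.range fun i => σ • (z i : A) - z i)
  have hJm : J ≤ maximalIdeal A := by
    rw [Ideal.span_le]
    rintro _ ⟨i, rfl⟩
    exact Ideal.sub_mem _ (CotangentRep.smul_mem_maximalIdeal σ (z i).2) (z i).2
  let S := movedInto σ J
  let T : Set A := insert v (Set.range fun i => (z i : A))
  have hT : Ideal.span T = maximalIdeal A := by
    have h1 : (Set.range fun i => ((y i : maximalIdeal A) : A)) = {v} := by
      ext a
      simp [y]
    rw [h1] at hsup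
    rw [Ideal.span_insert, sup_comm]
    exact hsup
  have hTS : T ⊆ S := by
    rintro a (rfl | ⟨i, rfl⟩)
    · show σ • a - a ∈ J
      rw [hfix σ, sub_self]
      exact J.zero_mem
    · exact Ideal.subset_span ⟨i, rfl⟩
  have hSk : ∀ c : k, algebraMap k A c ∈ S := by
    intro c
    show σ • algebraMap k A c - algebraMap k A c ∈ J
    rw [hGk σ c, sub_self]
    exact J.zero_mem
  have hall : ∀ a : A, σ • a - a ∈ J := by
    intro a
    have hmem : ∀ N, σ • a - a ∈ J ⊔ maximalIdeal A ^ N := by
      intro N
      obtain ⟨t, ht, htr⟩ := exists_approx hk S hSk T hTS hT N a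
      have : σ • a - a = (σ • t - t) + (σ • (a - t) - (a - t)) := by
        rw [smul_sub]; ring
      rw [this]
      refine Ideal.add_mem _ (Ideal.mem_sup_left ht) (Ideal.mem_sup_right ?_)
      exact Ideal.sub_mem _ (smul_mem_pow σ N htr) htr
    have hbot := Ideal.iInf_pow_smul_eq_bot_of_isLocalRing (R := A) (M := A ⧸ J)
      (maximalIdeal A) (maximalIdeal.isMaximal A).ne_top
    have hin : (Ideal.Quotient.mk J (σ • a - a)) ∈
        (⨅ i : ℕ, maximalIdeal A ^ i • ⊤ : Submodule A (A ⧸ J)) := by
      rw [Submodule.mem_iInf]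
      intro N
      obtain ⟨j, hj, r, hr, hjr⟩ := Submodule.mem_sup.mp (hmem N)
      rw [← hjr, map_add, Ideal.Quotient.eq_zero_iff_mem.mpr hj, zero_add]
      have : Ideal.Quotient.mk J r = r • (1 : A ⧸ J) := by
        rw [Algebra.smul_def, mul_one]
        rfl
      rw [this]
      exact Submodule.smul_mem_smul hr Submodule.mem_top
    rw [hbot, Submodule.mem_bot] at hin
    exact Ideal.Quotient.eq_zero_iff_mem.mp hin
  have hJtop : J ≠ ⊤ := fun h => (maximalIdeal.isMaximal A).ne_top (top_le_iff.mp (h ▸ hJm))
  obtain ⟨Q, hQ⟩ := Ideal.nonempty_minimalPrimes hJtop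
  have hQprime : Q.IsPrime := hQ.1.1
  have hht : Q.height ≤ s := by
    have h1 := Ideal.height_le_card_of_mem_minimalPrimes_span (Set.finite_range _) hQ
    refine h1.trans ?_
    have h2 : (Set.range fun i => σ • (z i : A) - z i).ncard ≤ s := by
      have := Set.ncard_image_le (f := fun i => σ • (z i : A) - z i) (Set.finite_univ (α := Fin s))
      rw [Set.image_univ, Set.ncard_univ, Nat.card_fin] at this
      exact this
    exact_mod_cast h2
  have hQne : Q ≠ maximalIdeal A := by
    intro h
    have h3 : ((maximalIdeal A).height : WithBot ℕ∞) = ringKrullDim A :=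
      IsLocalRing.maximalIdeal_height_eq_ringKrullDim
    rw [← hreg, ← hrs] at h3
    rw [← h] at h3
    have h4 : Q.height = ((1 + s : ℕ) : ℕ∞) := by exact_mod_cast h3
    rw [h4] at hht
    have : (1 + s : ℕ) ≤ s := by exact_mod_cast hht
    omega
  have hin := hram Q hQprime hQne
  have hσin : σ ∈ Q.inertia G := fun a => hQ.1.2 (hall a)
  rw [hin] at hσin
  exact hσ (Subgroup.mem_bot.mp hσin)

end Groth.Agent.Lib.R2H7.WildFixed
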