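/-
Invariant rings of wild `ℤ/p`-actions on complete regular local rings, ramified precisely at the
origin: the ring of invariants is a Noetherian local normal domain over which the ring is finite,
but not flat.
-/
import Mathlib
import Groth.Agent.Lib.R2H7ParamFree
import Groth.Agent.Lib.R2H7WildFixed
import Groth.Agent.Lib.Helper19PsLiftComplete
import Groth.Agent.Lib.Helper5IntDim
import Groth.Agent.S15790
import Groth.Agent.S15792
import Groth.Agent.Lib.Helper28Catenary

set_option autoImplicit false
universe u v w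

namespace Groth.Agent.Lib.R2H7.WildInv

open IsLocalRing

section basic

variable {A : Type u} [CommRing A] [IsLocalRing A]
  {k : Type v} [Field k] [Algebra k A]
  {G : Type w} [Group G] [MulSemiringAction G A]

theorem smul_mem_maximalIdeal (σ : G) {r : A} (hr : r ∈ maximalIdeal A) :
    σ • r ∈ maximalIdeal A := by
  have h := Groth.Agent.Lib.R2H7.WildFixed.smul_mem_pow σ 1 (r := r) (by simpa using hr)
  simpa using h

theorem smul_sub_mem (hk : Function.Surjective (residue A ∘ algebraMap k A))
    (hGk : ∀ (σ : G) (c : k), σ • algebraMap k A c = algebraMap k A c) (σ : G) (a : A) :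
    σ • a - a ∈ maximalIdeal A := by
  obtain ⟨c, hc⟩ := hk (residue A a)
  rw [Function.comp_apply] at hc
  have h1 : a - algebraMap k A c ∈ maximalIdeal A := by
    rw [← residue_eq_zero_iff, map_sub, sub_eq_zero]
    exact hc.symm
  have h2 : σ • a - a = σ • (a - algebraMap k A c) - (a - algebraMap k A c) := by
    rw [smul_sub, hGk]; ring
  rw [h2]
  exact Ideal.sub_mem _ (smul_mem_maximalIdeal σ h1) h1

theorem faithful [IsDomain A] (hne : (⊥ : Ideal A) ≠ maximalIdeal A)
    (hram : ∀ P : Ideal A, P.IsPrime → P ≠ maximalIdeal A → P.inertia G = ⊥) :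
    FaithfulSMul G A := by
  refine ⟨fun {σ τ} h => ?_⟩
  have hmem : τ⁻¹ * σ ∈ (⊥ : Ideal A).inertia G := by
    intro x
    rw [mul_smul, h x, inv_smul_smul, sub_self]
    exact zero_mem _
  rw [hram ⊥ Ideal.bot_prime hne, Subgroup.mem_bot] at hmem
  exact (inv_mul_eq_one.mp hmem).symm

/-- the ring of invariants of a local ring is local -/
theorem isLocalRing_fixedPoints : IsLocalRing (FixedPoints.subring A G) := by
  have hunit : ∀ b : FixedPoints.subring A G, IsUnit (b : A) → IsUnit b := by
    intro b hb
    obtain ⟨a, ha⟩ := hb.exists_right_inv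
    have hafix : a ∈ FixedPoints.subring A G := by
      intro σ
      have h1 : (b : A) * σ • a = 1 := by
        have := congrArg (fun z => σ • z) ha
        simp only [smul_mul', smul_one] at this
        rwa [b.2 σ] at this
      calc σ • a = (a * (b : A)) * σ • a := by rw [mul_comm a, ha, one_mul]
        _ = a * ((b : A) * σ • a) := by ring
        _ = a := by rw [h1, mul_one]
    exact IsUnit.of_mul_eq_one (⟨a, hafix⟩ : FixedPoints.subring A G) (Subtype.ext ha)
  apply IsLocalRing.of_nonunits_add
  intro a b ha hb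
  have ha' : (a : A) ∈ nonunits A := fun h => ha (hunit a h)
  have hb' : (b : A) ∈ nonunits A := fun h => hb (hunit b h)
  intro hab
  exact IsLocalRing.nonunits_add ha' hb' (hab.map (FixedPoints.subring A G).subtype)

end basic

section main

variable (p : ℕ) [Fact p.Prime] {A : Type u} [CommRing A] [IsRegularLocalRing A] [CharP A p]
  [IsAdicComplete (maximalIdeal A) A]
  {k : Type v} [Field k] [Algebra k A]
  {G : Type w} [Group G] [Finite G] [MulSemiringAction G A]

omit [IsAdicComplete (maximalIdeal A) A] in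
/-- parameters which are norms -/
theorem exists_norm_params (hcard : Nat.card G = p)
    (hres : ∀ (σ : G) (a : A), σ • a - a ∈ maximalIdeal A) (n : ℕ) (hn : ringKrullDim A = n) :
    ∃ x : Fin n → A, (∀ i (σ : G), σ • x i = x i) ∧
      (Ideal.span (Set.range x)).radical = maximalIdeal A := by
  classical
  letI : Fintype G := Fintype.ofFinite G
  have hG : IsPGroup p G := IsPGroup.of_card (n := 1) (by rw [hcard, pow_one])
  obtain ⟨u, hu⟩ := Groth.Agent.S15792.result p A G hG hres n hn
  have h1 : Ideal.span (Set.range u) = maximalIdeal A := by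
    have := hu (fun _ => 1)
    simpa using this
  refine ⟨fun i => ∏ σ : G, σ • u i, ?_, ?_⟩
  · intro i σ
    rw [Finset.smul_prod']
    simp only [smul_smul]
    exact Fintype.prod_equiv (Equiv.mulLeft σ) _ _ (fun τ => rfl)
  · apply le_antisymm
    · have hle : Ideal.span (Set.range fun i => ∏ σ : G, σ • u i) ≤ maximalIdeal A := by
        rw [Ideal.span_le]
        rintro _ ⟨i, rfl⟩
        have hu1 : u i ∈ maximalIdeal A := by
          rw [← h1]
          exact Ideal.subset_span ⟨i, rfl⟩
        have hd : (1 : G) • u i ∣ ∏ σ : G, σ • u i :=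
          Finset.dvd_prod_of_mem _ (Finset.mem_univ _)
        rw [one_smul] at hd
        exact Ideal.mem_of_dvd _ hd hu1
      exact (Ideal.IsPrime.radical_le_iff inferInstance).mpr hle
    · refine (Groth.Agent.S15790.result A G n u h1).mpr (fun τ => ?_)
      rw [hu τ]
      exact Ideal.le_radical

/-- an algebra map from a power series ring with invariant values on the variables has invariant
values -/
theorem algHom_fixed (hGk : ∀ (σ : G) (c : k), σ • algebraMap k A c = algebraMap k A c) (n : ℕ)
    (φ : MvPowerSeries (Fin n) k →ₐ[k] A) (hφm : ∀ i, φ (MvPowerSeries.X i) ∈ maximalIdeal A)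
    (hφfix : ∀ i (σ : G), σ • φ (MvPowerSeries.X i) = φ (MvPowerSeries.X i)) (σ : G)
    (r : MvPowerSeries (Fin n) k) : σ • φ r = φ r := by
  let ψ : MvPowerSeries (Fin n) k →ₐ[k] A :=
    { toRingHom := (MulSemiringAction.toRingHom G A σ).comp φ.toRingHom
      commutes' := fun c => by
        change σ • φ (algebraMap k _ c) = algebraMap k A c
        rw [φ.commutes, hGk] }
  have h := Groth.Agent.Lib.Helper19.algHom_ext_of_X_of_isHausdorff (maximalIdeal A) φ ψ hφm
    (fun s => (hφfix s σ).symm)
  exact (AlgHom.congr_fun h r).symm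

/-- the ring of invariants is Noetherian and `A` is finite over it -/
theorem noeth_finite (hk : Function.Surjective (residue A ∘ algebraMap k A))
    (hcard : Nat.card G = p)
    (hGk : ∀ (σ : G) (c : k), σ • algebraMap k A c = algebraMap k A c) :
    IsNoetherianRing (FixedPoints.subring A G) ∧ Module.Finite (FixedPoints.subring A G) A := by
  classical
  obtain ⟨n, hn⟩ := Groth.Agent.Lib.Helper5.exists_nat_ringKrullDim_eq A
  obtain ⟨x, hxfix, hxrad⟩ := exists_norm_params p hcard (smul_sub_mem hk hGk) n hn
  have hxm : ∀ i, x i ∈ maximalIdeal A := fun i => by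
    rw [← hxrad]
    exact Ideal.le_radical (Ideal.subset_span ⟨i, rfl⟩)
  obtain ⟨φ, hφ⟩ := Groth.Agent.Lib.Helper19.exists_algHom_X_eq_of_isAdicComplete (Λ := k)
    (maximalIdeal A) x hxm
  obtain ⟨d, b, -, hbij⟩ := Groth.Agent.Lib.R2H7.ParamFree.main n hn hk x hxrad φ hφ
  have hfix : ∀ (σ : G) r, σ • φ r = φ r :=
    algHom_fixed hGk n φ (fun i => by rw [hφ]; exact hxm i) (fun i σ => by rw [hφ]; exact hxfix i σ)
  let ψ : MvPowerSeries (Fin n) k →+* FixedPoints.subring A G :=
    φ.toRingHom.codRestrict (FixedPoints.subring A G) (fun r σ => hfix σ r)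
  letI algRB : Algebra (MvPowerSeries (Fin n) k) (FixedPoints.subring A G) := ψ.toAlgebra
  letI algRA : Algebra (MvPowerSeries (Fin n) k) A := φ.toRingHom.toAlgebra
  haveI : IsScalarTower (MvPowerSeries (Fin n) k) (FixedPoints.subring A G) A :=
    IsScalarTower.of_algebraMap_eq (fun r => rfl)
  haveI hfinA : Module.Finite (MvPowerSeries (Fin n) k) A := by
    apply Module.Finite.of_surjective (Fintype.linearCombination (MvPowerSeries (Fin n) k) b)
    intro a
    obtain ⟨r, hr⟩ := hbij.2 a
    refine ⟨r, ?_⟩
    rw [Fintype.linearCombination_apply, ← hr]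
    exact Finset.sum_congr rfl (fun i _ => by rw [Algebra.smul_def]; rfl)
  haveI : IsNoetherianRing (MvPowerSeries (Fin n) k) := inferInstance
  haveI : IsNoetherian (MvPowerSeries (Fin n) k) A := isNoetherian_of_isNoetherianRing_of_finite _ _
  haveI : IsNoetherian (MvPowerSeries (Fin n) k) (FixedPoints.subring A G) :=
    isNoetherian_of_injective
      (IsScalarTower.toAlgHom (MvPowerSeries (Fin n) k) (FixedPoints.subring A G) A).toLinearMap
      Subtype.val_injective
  haveI : Module.Finite (MvPowerSeries (Fin n) k) (FixedPoints.subring A G) := inferInstance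
  exact ⟨IsNoetherianRing.of_finite (MvPowerSeries (Fin n) k) _,
    Module.Finite.of_restrictScalars_finite (MvPowerSeries (Fin n) k) _ _⟩

end main

section notflat

variable (p : ℕ) [Fact p.Prime] {A : Type u} [CommRing A] [IsRegularLocalRing A] [CharP A p]
  [IsAdicComplete (maximalIdeal A) A]
  {k : Type v} [Field k] [Algebra k A]
  {G : Type w} [Group G] [Finite G] [MulSemiringAction G A]

omit [IsAdicComplete (maximalIdeal A) A] in
theorem ne_maximalIdeal_of_height_le_one (hdim : 2 ≤ ringKrullDim A) (Q : Ideal A)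
    (hQ : Q.height ≤ 1) : Q ≠ maximalIdeal A := by
  rintro rfl
  have h3 : ((maximalIdeal A).height : WithBot ℕ∞) = ringKrullDim A :=
    IsLocalRing.maximalIdeal_height_eq_ringKrullDim
  rw [← h3] at hdim
  have h2 : (2 : ℕ∞) ≤ (maximalIdeal A).height := by
    rw [← WithBot.coe_le_coe]
    exact hdim
  have h4 : ((2 : ℕ) : ℕ∞) ≤ ((1 : ℕ) : ℕ∞) := by exact_mod_cast h2.trans hQ
  have h5 : (2 : ℕ) ≤ 1 := by exact_mod_cast h4
  omega

omit [IsAdicComplete (maximalIdeal A) A] in
theorem bot_ne_maximalIdeal (hdim : 2 ≤ ringKrullDim A) : (⊥ : Ideal A) ≠ maximalIdeal A := by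
  have h := ne_maximalIdeal_of_height_le_one hdim (⊥ : Ideal A) (by rw [Ideal.height_bot]; exact bot_le)
  exact h

omit [IsAdicComplete (maximalIdeal A) A] [Finite G] in
/-- Dedekind independence of characters modulo a prime with trivial inertia -/
theorem det_notMem [Fintype G] [DecidableEq G]
    (hram : ∀ P : Ideal A, P.IsPrime → P ≠ maximalIdeal A → P.inertia G = ⊥)
    (b : Module.Basis G (FixedPoints.subring A G) A) (P : Ideal A) [P.IsPrime]
    (hP : P ≠ maximalIdeal A) :
    (Matrix.of fun σ τ : G => σ • b τ).det ∉ P := by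
  intro hdet
  let K := FractionRing (A ⧸ P)
  let π : A →+* K := (algebraMap (A ⧸ P) K).comp (Ideal.Quotient.mk P)
  have hπ : ∀ a, π a = 0 ↔ a ∈ P := fun a => by
    change algebraMap (A ⧸ P) K (Ideal.Quotient.mk P a) = 0 ↔ _
    rw [IsFractionRing.to_map_eq_zero_iff, Ideal.Quotient.eq_zero_iff_mem]
  set N : Matrix G G A := Matrix.of fun σ τ => σ • b τ with hNdef
  have hdet' : (N.map π).det = 0 := by
    rw [← RingHom.mapMatrix_apply, ← RingHom.map_det, (hπ _).mpr hdet]
  obtain ⟨v, hv, hvN⟩ := Matrix.exists_vecMul_eq_zero_iff.mpr hdet'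
  let χ : G → (A →* K) := fun σ =>
    (π : A →* K).comp ((MulSemiringAction.toRingHom G A σ : A →+* A) : A →* A)
  have hχ : ∀ σ a, χ σ a = π (σ • a) := fun σ a => rfl
  have hχinj : Function.Injective χ := by
    intro σ τ h
    have hmem : τ * σ⁻¹ ∈ P.inertia G := by
      intro x
      have h1 := DFunLike.congr_fun h (σ⁻¹ • x)
      rw [hχ, hχ, smul_inv_smul] at h1
      have h2 : τ • σ⁻¹ • x - x ∈ P := by
        rw [← hπ, map_sub, sub_eq_zero]
        exact h1.symm
      rw [mul_smul]
      exact h2
    rw [hram P inferInstance hP, Subgroup.mem_bot] at hmem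
    exact (mul_inv_eq_one.mp hmem).symm
  have hli : LinearIndependent K (fun σ : G => (χ σ : A → K)) :=
    (linearIndependent_monoidHom A K).comp χ hχinj
  have hrel : ∑ σ, v σ • (χ σ : A → K) = 0 := by
    funext a
    simp only [Finset.sum_apply, Pi.smul_apply, smul_eq_mul, Pi.zero_apply]
    have ha : a = ∑ τ, (b.repr a τ : A) * b τ := by
      conv_lhs => rw [← b.sum_repr a]
      exact Finset.sum_congr rfl (fun τ _ => by rw [Subring.smul_def, smul_eq_mul])
    have hσa : ∀ σ : G, π (σ • a) = ∑ τ, π (b.repr a τ : A) * π (σ • b τ) := by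
      intro σ
      conv_lhs => rw [ha]
      rw [Finset.smul_sum, map_sum]
      apply Finset.sum_congr rfl
      intro τ _
      rw [smul_mul', (b.repr a τ).2 σ, map_mul]
    simp_rw [hχ, hσa, Finset.mul_sum]
    rw [Finset.sum_comm]
    apply Finset.sum_eq_zero
    intro τ _
    have h1 := congrFun hvN τ
    simp only [Matrix.vecMul, dotProduct, Matrix.map_apply, hNdef, Matrix.of_apply,
      Pi.zero_apply] at h1
    calc ∑ σ, v σ * (π ↑(b.repr a τ) * π (σ • b τ))
        = π ↑(b.repr a τ) * ∑ σ, v σ * π (σ • b τ) := by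
          rw [Finset.mul_sum]
          apply Finset.sum_congr rfl
          intro σ _
          ring
      _ = 0 := by rw [h1, mul_zero]
  have h0 := Fintype.linearIndependent_iff.mp hli v hrel
  exact hv (funext h0)

/-- `A` is not flat over the ring of invariants -/
theorem not_flat (hdim : 2 ≤ ringKrullDim A)
    (hk : Function.Surjective (residue A ∘ algebraMap k A)) (hcard : Nat.card G = p)
    (hGk : ∀ (σ : G) (c : k), σ • algebraMap k A c = algebraMap k A c)
    (hram : ∀ P : Ideal A, P.IsPrime → P ≠ maximalIdeal A → P.inertia G = ⊥) :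
    ¬ Module.Flat (FixedPoints.subring A G) A := by
  classical
  intro hflat
  letI : Fintype G := Fintype.ofFinite G
  obtain ⟨hN, hF⟩ := noeth_finite p hk hcard hGk
  haveI : IsLocalRing (FixedPoints.subring A G) := isLocalRing_fixedPoints
  haveI : IsDomain A := Groth.Agent.Lib.Helper5.isDomain_of_isRegularLocalRing A
  have hbot := bot_ne_maximalIdeal hdim
  haveI : FaithfulSMul G A := faithful hbot hram
  haveI : IsGaloisGroup G (FixedPoints.subring A G) A :=
    ⟨inferInstance, inferInstance, ⟨fun a ha => ⟨⟨a, ha⟩, rfl⟩⟩⟩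
  haveI : Module.Free (FixedPoints.subring A G) A := Module.free_of_flat_of_isLocalRing
  have hrank : Nat.card G = Module.finrank (FixedPoints.subring A G) A :=
    IsGaloisGroup.card_eq_finrank' G (FixedPoints.subring A G) A
  let b0 := Module.finBasis (FixedPoints.subring A G) A
  have e : Fin (Module.finrank (FixedPoints.subring A G) A) ≃ G :=
    Fintype.equivOfCardEq (by rw [Fintype.card_fin, ← hrank, Nat.card_eq_fintype_card])
  let b : Module.Basis G (FixedPoints.subring A G) A := b0.reindex e
  set N : Matrix G G A := Matrix.of fun σ τ => σ • b τ with hNdef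
  have hdetP : ∀ P : Ideal A, P.IsPrime → P ≠ maximalIdeal A → N.det ∉ P :=
    fun P hP hne => @det_notMem A _ _ G _ _ _ _ hram b P hP hne
  have hunit : IsUnit N.det := by
    by_contra hnu
    obtain ⟨Q, hQ⟩ := Ideal.nonempty_minimalPrimes (I := Ideal.span {N.det})
      (by rw [Ne, Ideal.span_singleton_eq_top]; exact hnu)
    have hQprime := hQ.1.1
    have hht : Q.height ≤ 1 := Ideal.height_le_one_of_isPrincipal_of_mem_minimalPrimes _ Q hQ
    have hQne := ne_maximalIdeal_of_height_le_one hdim Q hht
    exact hdetP Q hQprime hQne (hQ.1.2 (Ideal.mem_span_singleton_self _))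
  obtain ⟨g, hg⟩ : ∃ g : G, g ≠ 1 := by
    have : Nontrivial G := by
      rw [← Finite.one_lt_card_iff_nontrivial, hcard]
      exact (Fact.out : p.Prime).one_lt
    exact exists_ne 1
  have hNinv : N * N⁻¹ = 1 := Matrix.mul_nonsing_inv N hunit
  let c : G → A := fun τ => N⁻¹ τ 1
  have hc : ∀ σ : G, ∑ τ, (σ • b τ) * c τ = if σ = 1 then 1 else 0 := by
    intro σ
    have h := congrFun (congrFun hNinv σ) 1
    rw [Matrix.mul_apply, Matrix.one_apply] at h
    exact h
  have h1 := hc 1
  have hgg := hc g
  rw [if_pos rfl] at h1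
  rw [if_neg hg] at hgg
  simp only [one_smul] at h1
  have hmem : (1 : A) ∈ maximalIdeal A := by
    have h2 : (1 : A) = - ∑ τ, (g • b τ - b τ) * c τ := by
      simp only [sub_mul, Finset.sum_sub_distrib, hgg, h1]
      ring
    rw [h2]
    apply neg_mem
    apply Ideal.sum_mem
    intro τ _
    apply Ideal.mul_mem_right
    exact smul_sub_mem hk hGk g (b τ)
  exact (Ideal.ne_top_iff_one _).mp (maximalIdeal.isMaximal A).ne_top hmem

end notflat

section normal

variable {A : Type u} [CommRing A] {G : Type w} [Group G] [MulSemiringAction G A]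

/-- the ring of invariants of an integrally closed domain is integrally closed -/
theorem isIntegrallyClosed_fixedPoints [IsDomain A] [IsIntegrallyClosed A] :
    IsIntegrallyClosed (FixedPoints.subring A G) := by
  set B := FixedPoints.subring A G with hB
  let KB := FractionRing B
  let KA := FractionRing A
  let f : B →+* KA := (algebraMap A KA).comp B.subtype
  have hf : Function.Injective f :=
    (IsFractionRing.injective A KA).comp Subtype.val_injective
  let ι : KB →+* KA := IsFractionRing.lift hf
  have hι : ∀ b : B, ι (algebraMap B KB b) = algebraMap A KA (b : A) := fun b =>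
    IsFractionRing.lift_algebraMap hf b
  rw [isIntegrallyClosed_iff KB]
  intro x hx
  obtain ⟨q, hqm, hq⟩ := hx
  have hιx : IsIntegral A (ι x) := by
    refine ⟨q.map B.subtype, hqm.map _, ?_⟩
    have h1 := congrArg ι hq
    rw [Polynomial.hom_eval₂, map_zero] at h1
    rw [Polynomial.eval₂_map]
    have h2 : ι.comp (algebraMap B KB) = (algebraMap A KA).comp B.subtype := by
      ext b
      exact hι b
    rw [h2] at h1
    exact h1
  obtain ⟨a, ha⟩ := IsIntegrallyClosed.isIntegral_iff.mp hιx
  obtain ⟨⟨b1, b2⟩, hx12⟩ := IsLocalization.mk'_surjective (nonZeroDivisors B) x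
  have hspec : x * algebraMap B KB (b2 : B) = algebraMap B KB b1 := by
    rw [← hx12]
    exact IsLocalization.mk'_spec _ _ _
  have hb2 : ((b2 : B) : A) ≠ 0 := by
    intro h
    have : (b2 : B) = 0 := Subtype.ext h
    exact nonZeroDivisors.coe_ne_zero b2 this
  have hab : a * ((b2 : B) : A) = (b1 : A) := by
    have h1 := congrArg ι hspec
    rw [map_mul, hι, hι, ← ha, ← map_mul] at h1
    exact IsFractionRing.injective A KA h1
  have hafix : a ∈ B := by
    intro σ
    have h1 : σ • a * ((b2 : B) : A) = a * ((b2 : B) : A) := by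
      have h2 := congrArg (fun z => σ • z) hab
      simp only [smul_mul'] at h2
      rw [(b2 : B).2 σ, b1.2 σ] at h2
      rw [h2, hab]
    exact mul_right_cancel₀ hb2 h1
  refine ⟨⟨a, hafix⟩, ?_⟩
  have hb2' : algebraMap B KB (b2 : B) ≠ 0 := by
    intro h
    exact nonZeroDivisors.coe_ne_zero b2 (IsFractionRing.injective B KB (by rw [h, map_zero]))
  apply mul_right_cancel₀ hb2'
  rw [hspec, ← map_mul]
  congr 1
  exact Subtype.ext hab

end normal

section topology

/-- the topology comparison (Artin–Rees): for a finite injective extension `B ⊆ A` of Noetherian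
rings, an ideal `𝔫` of `B` and an ideal `m` of `A` with `m ^ J ≤ 𝔫 A`, high powers of `m` meet `B`
inside a given power of `𝔫` -/
theorem exists_pow_comap_le {B A : Type*} [CommRing B] [CommRing A] [Algebra B A]
    [IsNoetherianRing B] [Module.Finite B A] (hinj : Function.Injective (algebraMap B A))
    (𝔫 : Ideal B) (m : Ideal A) (J : ℕ) (hJ : m ^ J ≤ 𝔫.map (algebraMap B A)) (j : ℕ) :
    ∃ J' : ℕ, ∀ b : B, algebraMap B A b ∈ m ^ J' → b ∈ 𝔫 ^ j := by
  set N : Submodule B A := LinearMap.range (Algebra.linearMap B A) with hN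
  obtain ⟨c, hc⟩ := Ideal.exists_pow_inf_eq_pow_smul 𝔫 N
  refine ⟨J * (j + c), fun b hb => ?_⟩
  have h1 : algebraMap B A b ∈ (𝔫 ^ (j + c) • ⊤ : Submodule B A) := by
    rw [Ideal.smul_top_eq_map, Submodule.restrictScalars_mem, Ideal.map_pow]
    rw [pow_mul] at hb
    exact Ideal.pow_right_mono hJ (j + c) hb
  have h2 : algebraMap B A b ∈ N := ⟨b, rfl⟩
  have h3 : algebraMap B A b ∈ (𝔫 ^ (j + c) • ⊤ ⊓ N : Submodule B A) := ⟨h1, h2⟩
  rw [hc (j + c) (Nat.le_add_left c j), Nat.add_sub_cancel] at h3
  have h4 : algebraMap B A b ∈ (𝔫 ^ j • N : Submodule B A) :=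
    Submodule.smul_mono le_rfl inf_le_right h3
  rw [hN, LinearMap.range_eq_map, ← Submodule.map_smul''] at h4
  obtain ⟨b', hb', hbb'⟩ := h4
  have h5 : b' ∈ 𝔫 ^ j := by
    have : (𝔫 ^ j • (⊤ : Submodule B B) : Submodule B B) = 𝔫 ^ j := by
      rw [smul_eq_mul, Ideal.mul_top]
    rw [← this]
    exact hb'
  have h6 : b' = b := hinj hbb'
  rw [← h6]
  exact h5

end topology

section complete

variable (p : ℕ) [Fact p.Prime] {A : Type u} [CommRing A] [IsRegularLocalRing A] [CharP A p]
  [IsAdicComplete (maximalIdeal A) A]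
  {k : Type v} [Field k] [Algebra k A]
  {G : Type w} [Group G] [Finite G] [MulSemiringAction G A]

omit [IsAdicComplete (maximalIdeal A) A] in
/-- a power of the maximal ideal lies in the extension of `m ∩ A^G` -/
theorem exists_pow_le_map (hk : Function.Surjective (residue A ∘ algebraMap k A))
    (hcard : Nat.card G = p)
    (hGk : ∀ (σ : G) (c : k), σ • algebraMap k A c = algebraMap k A c) :
    ∃ J : ℕ, maximalIdeal A ^ J ≤
      (Ideal.comap (FixedPoints.subring A G).subtype (maximalIdeal A)).map
        (algebraMap (FixedPoints.subring A G) A) := by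
  obtain ⟨n, hn⟩ := Groth.Agent.Lib.Helper5.exists_nat_ringKrullDim_eq A
  obtain ⟨x, hxfix, hxrad⟩ := exists_norm_params p hcard (smul_sub_mem hk hGk) n hn
  have hxm : ∀ i, x i ∈ maximalIdeal A := fun i => by
    rw [← hxrad]
    exact Ideal.le_radical (Ideal.subset_span ⟨i, rfl⟩)
  have hle : Ideal.span (Set.range x) ≤
      (Ideal.comap (FixedPoints.subring A G).subtype (maximalIdeal A)).map
        (algebraMap (FixedPoints.subring A G) A) := by
    rw [Ideal.span_le]
    rintro _ ⟨i, rfl⟩
    have h1 : (⟨x i, fun σ => hxfix i σ⟩ : FixedPoints.subring A G) ∈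
        Ideal.comap (FixedPoints.subring A G).subtype (maximalIdeal A) := hxm i
    exact Ideal.mem_map_of_mem (algebraMap (FixedPoints.subring A G) A) h1
  apply Ideal.exists_pow_le_of_le_radical_of_fg_radical
  · conv_lhs => rw [← hxrad]
    exact Ideal.radical_mono hle
  · exact IsNoetherian.noetherian _

/-- the ring of invariants is complete for the contracted maximal ideal -/
theorem isAdicComplete_fixedPoints (hk : Function.Surjective (residue A ∘ algebraMap k A))
    (hcard : Nat.card G = p)
    (hGk : ∀ (σ : G) (c : k), σ • algebraMap k A c = algebraMap k A c) :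
    IsAdicComplete (Ideal.comap (FixedPoints.subring A G).subtype (maximalIdeal A))
      (FixedPoints.subring A G) := by
  obtain ⟨hN, hF⟩ := noeth_finite p hk hcard hGk
  obtain ⟨J, hJ⟩ := exists_pow_le_map p hk hcard hGk
  set B := FixedPoints.subring A G with hB
  set 𝔫 : Ideal B := Ideal.comap B.subtype (maximalIdeal A) with h𝔫
  have hinj : Function.Injective (algebraMap B A) := Subtype.val_injective
  have hTC := exists_pow_comap_le hinj 𝔫 (maximalIdeal A) J hJ
  have hsm : ∀ (n : ℕ) (b : B), b ∈ (𝔫 ^ n • ⊤ : Submodule B B) ↔ b ∈ 𝔫 ^ n := by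
    intro n b
    rw [smul_eq_mul, Ideal.mul_top]
  have hsmA : ∀ (n : ℕ) (a : A), a ∈ (maximalIdeal A ^ n • ⊤ : Submodule A A) ↔
      a ∈ maximalIdeal A ^ n := by
    intro n a
    rw [smul_eq_mul, Ideal.mul_top]
  have hpow : ∀ (n : ℕ) (b : B), b ∈ 𝔫 ^ n → (b : A) ∈ maximalIdeal A ^ n := by
    intro n b hb
    have h1 : B.subtype b ∈ (𝔫 ^ n).map B.subtype := Ideal.mem_map_of_mem _ hb
    rw [Ideal.map_pow] at h1
    exact Ideal.pow_right_mono Ideal.map_comap_le n h1
  have hHA : IsHausdorff (maximalIdeal A) A := inferInstance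
  have hPA : IsPrecomplete (maximalIdeal A) A := inferInstance
  refine { haus' := ?_, prec' := ?_ }
  · intro b hb
    apply Subtype.ext
    apply hHA.haus'
    intro n
    rw [SModEq.zero, hsmA]
    apply hpow
    have := hb n
    rwa [SModEq.zero, hsm] at this
  · intro f hf
    have hfA : ∀ {i j : ℕ}, i ≤ j →
        (f i : A) ≡ (f j : A) [SMOD (maximalIdeal A ^ i • ⊤ : Submodule A A)] := by
      intro i j hij
      rw [SModEq.sub_mem, hsmA]
      have h1 := hf hij
      rw [SModEq.sub_mem, hsm] at h1
      exact hpow i _ h1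
    obtain ⟨L, hL⟩ := hPA.prec' (fun i => (f i : A)) hfA
    have hLn : ∀ n, (f n : A) - L ∈ maximalIdeal A ^ n := by
      intro n
      have := hL n
      rwa [SModEq.sub_mem, hsmA] at this
    have hLfix : L ∈ B := by
      intro σ
      rw [← sub_eq_zero]
      apply hHA.haus'
      intro n
      rw [SModEq.zero, hsmA]
      have h1 : σ • L - L = (f n : A) - L - σ • ((f n : A) - L) := by
        rw [smul_sub, (f n).2 σ]
        ring
      rw [h1]
      exact Ideal.sub_mem _ (hLn n)
        (Groth.Agent.Lib.R2H7.WildFixed.smul_mem_pow σ n (hLn n))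
    refine ⟨⟨L, hLfix⟩, fun n => ?_⟩
    rw [SModEq.sub_mem, hsm]
    obtain ⟨J', hJ'⟩ := hTC n
    have h1 : f n - f (max J' n) ∈ 𝔫 ^ n := by
      have := hf (le_max_right J' n)
      rwa [SModEq.sub_mem, hsm] at this
    have h2 : f (max J' n) - ⟨L, hLfix⟩ ∈ 𝔫 ^ n := by
      apply hJ'
      change (f (max J' n) : A) - L ∈ maximalIdeal A ^ J'
      exact Ideal.pow_le_pow_right (le_max_left J' n) (hLn _)
    have h3 : f n - ⟨L, hLfix⟩ = (f n - f (max J' n)) + (f (max J' n) - ⟨L, hLfix⟩) := by ring
    rw [h3]
    exact Ideal.add_mem _ h1 h2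

end complete

section notregular

theorem isUnit_of_isUnit_coe {A : Type u} [CommRing A] {G : Type w} [Group G]
    [MulSemiringAction G A] (b : FixedPoints.subring A G) (hb : IsUnit (b : A)) : IsUnit b := by
  obtain ⟨a, ha⟩ := hb.exists_right_inv
  have hafix : a ∈ FixedPoints.subring A G := by
    intro σ
    have h1 : (b : A) * σ • a = 1 := by
      have := congrArg (fun z => σ • z) ha
      simp only [smul_mul', smul_one] at this
      rwa [b.2 σ] at this
    calc σ • a = (a * (b : A)) * σ • a := by rw [mul_comm a, ha, one_mul]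
      _ = a * ((b : A) * σ • a) := by ring
      _ = a := by rw [h1, mul_one]
  exact IsUnit.of_mul_eq_one (⟨a, hafix⟩ : FixedPoints.subring A G) (Subtype.ext ha)

theorem maximalIdeal_fixedPoints_eq {A : Type u} [CommRing A] [IsLocalRing A] {G : Type w} [Group G]
    [MulSemiringAction G A] [IsLocalRing (FixedPoints.subring A G)] :
    maximalIdeal (FixedPoints.subring A G) =
      Ideal.comap (FixedPoints.subring A G).subtype (maximalIdeal A) := by
  ext b
  rw [Ideal.mem_comap, mem_maximalIdeal, mem_maximalIdeal, mem_nonunits_iff, mem_nonunits_iff]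
  constructor
  · intro h h'
    exact h (isUnit_of_isUnit_coe b h')
  · intro h h'
    exact h (h'.map (FixedPoints.subring A G).subtype)

variable (p : ℕ) [Fact p.Prime] {A : Type u} [CommRing A] [IsRegularLocalRing A] [CharP A p]
  [IsAdicComplete (maximalIdeal A) A]
  {k : Type v} [Field k] [Algebra k A]
  {G : Type w} [Group G] [Finite G] [MulSemiringAction G A]

theorem ringKrullDim_fixedPoints (hk : Function.Surjective (residue A ∘ algebraMap k A))
    (hcard : Nat.card G = p)
    (hGk : ∀ (σ : G) (c : k), σ • algebraMap k A c = algebraMap k A c) :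
    ringKrullDim (FixedPoints.subring A G) = ringKrullDim A := by
  obtain ⟨hN, hF⟩ := noeth_finite p hk hcard hGk
  haveI : Algebra.IsIntegral (FixedPoints.subring A G) A := Algebra.IsIntegral.of_finite _ A
  exact (Groth.Agent.Lib.Helper5.ringKrullDim_eq_of_isIntegral_of_injective
    (FixedPoints.subring A G) A Subtype.val_injective).symm

/-- the ring of invariants is not regular -/
theorem not_isRegularLocalRing_fixedPoints (hdim : 2 ≤ ringKrullDim A)
    (hk : Function.Surjective (residue A ∘ algebraMap k A)) (hcard : Nat.card G = p)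
    (hGk : ∀ (σ : G) (c : k), σ • algebraMap k A c = algebraMap k A c)
    (hram : ∀ P : Ideal A, P.IsPrime → P ≠ maximalIdeal A → P.inertia G = ⊥) :
    ¬ IsRegularLocalRing (FixedPoints.subring A G) := by
  intro hreg
  obtain ⟨hN, hF⟩ := noeth_finite p hk hcard hGk
  obtain ⟨J, hJ⟩ := exists_pow_le_map p hk hcard hGk
  haveI : IsLocalHom (algebraMap (FixedPoints.subring A G) A) :=
    ⟨fun b hb => isUnit_of_isUnit_coe b hb⟩
  haveI : LocCoh.IsCohenMacaulayLocalRing A :=
    Groth.Agent.Lib.Helper5.isCohenMacaulayLocalRing_of_isRegularLocalRing A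
  have hmax := maximalIdeal_fixedPoints_eq (A := A) (G := G)
  set I := (maximalIdeal (FixedPoints.subring A G)).map
    (algebraMap (FixedPoints.subring A G) A) with hI
  have hIm : I ≤ maximalIdeal A := by
    rw [hI, Ideal.map_le_iff_le_comap, hmax]
    exact le_rfl
  have hmin : maximalIdeal A ∈ I.minimalPrimes := by
    refine ⟨⟨inferInstance, hIm⟩, ?_⟩
    rintro q ⟨hq, hIq⟩ -
    have h1 : maximalIdeal A ^ J ≤ I := by
      rw [hI, hmax]
      exact hJ
    exact hq.le_of_pow_le (h1.trans hIq)
  have hart : IsArtinianRing (A ⧸ I) :=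
    IsLocalRing.quotient_artinian_of_mem_minimalPrimes_of_isLocalRing I hmin
  have hItop : I ≠ ⊤ := fun h => (maximalIdeal.isMaximal A).ne_top (top_le_iff.mp (h ▸ hIm))
  haveI : Nontrivial (A ⧸ I) := Ideal.Quotient.nontrivial_iff.mpr hItop
  have hdim0 : ringKrullDim (A ⧸ I) = 0 :=
    ringKrullDimZero_iff_ringKrullDim_eq_zero.mp inferInstance
  have hdimeq := ringKrullDim_fixedPoints p hk hcard hGk
  have hflat : Module.Flat (FixedPoints.subring A G) A := by
    apply Groth.Agent.S2082.result
    rw [hdim0, add_zero, hdimeq]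
  exact not_flat p hdim hk hcard hGk hram hflat

/-- S15798 -/
theorem main_invariants (hdim : 2 ≤ ringKrullDim A)
    (hk : Function.Surjective (residue A ∘ algebraMap k A)) (hcard : Nat.card G = p)
    (hGk : ∀ (σ : G) (c : k), σ • algebraMap k A c = algebraMap k A c)
    (hram : ∀ P : Ideal A, P.IsPrime → P ≠ maximalIdeal A → P.inertia G = ⊥) :
    IsNoetherianRing (FixedPoints.subring A G) ∧ Module.Finite (FixedPoints.subring A G) A ∧
      IsIntegrallyClosed (FixedPoints.subring A G) ∧
      ringKrullDim (FixedPoints.subring A G) = ringKrullDim A ∧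
      IsAdicComplete (Ideal.comap (FixedPoints.subring A G).subtype (maximalIdeal A))
        (FixedPoints.subring A G) ∧
      ¬ IsRegularLocalRing (FixedPoints.subring A G) := by
  obtain ⟨hN, hF⟩ := noeth_finite p hk hcard hGk
  haveI : IsDomain A := Groth.Agent.Lib.Helper5.isDomain_of_isRegularLocalRing A
  haveI : IsIntegrallyClosed A :=
    Groth.Agent.Lib.Helper28.isIntegrallyClosed_of_isRegularLocalRing A
  exact ⟨hN, hF, isIntegrallyClosed_fixedPoints, ringKrullDim_fixedPoints p hk hcard hGk,
    isAdicComplete_fixedPoints p hk hcard hGk,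
    not_isRegularLocalRing_fixedPoints p hdim hk hcard hGk hram⟩

end notregular

end Groth.Agent.Lib.R2H7.WildInv
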