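/-
Regularity of the ring of invariants away from the closed point, for a finite group action with
trivial inertia at the primes above a given prime of the invariants (a Chase–Harrison–Rosenberg style
argument: the extension is projective after inverting a suitable invariant).
-/
import Mathlib
import Groth.Agent.Lib.R2H7WildInv
import Groth.Agent.Lib.Helper28RegLoc

set_option autoImplicit false
universe u v w

namespace Groth.Agent.Lib.R2H7.WildReg

open IsLocalRing

section chr

variable {A : Type u} [CommRing A] {G : Type w} [Group G] [MulSemiringAction G A]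

/-- the characters `a ↦ (τ ↦ τ • a)` -/
def F : A →* (G → A) where
  toFun a τ := τ • a
  map_one' := funext fun τ => smul_one τ
  map_mul' a a' := funext fun τ => smul_mul' τ a a'

theorem F_apply (a : A) (τ : G) : F a τ = τ • a := rfl

/-- the algebra of functions `τ ↦ Σ x_i τ(y_i)` -/
def W : Subalgebra A (G → A) := Algebra.adjoin A (Set.range (F (A := A) (G := G)))

theorem F_mem_W (a : A) : F a ∈ W (A := A) (G := G) := Algebra.subset_adjoin ⟨a, rfl⟩

theorem exists_finsupp_of_mem_W {w : G → A} (hw : w ∈ W (A := A) (G := G)) :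
    ∃ c : A →₀ A, ∀ τ : G, c.sum (fun a r => r * τ • a) = w τ := by
  have h1 : w ∈ Subalgebra.toSubmodule (W (A := A) (G := G)) := hw
  unfold W at h1
  rw [Algebra.adjoin_eq_span] at h1
  have hcl : Submonoid.closure (Set.range (F (A := A) (G := G))) = MonoidHom.mrange F := by
    rw [← MonoidHom.coe_mrange, Submonoid.closure_eq]
  rw [hcl, MonoidHom.coe_mrange] at h1
  obtain ⟨c, hc⟩ := Finsupp.mem_span_range_iff_exists_finsupp.mp h1
  refine ⟨c, fun τ => ?_⟩
  rw [← hc]
  simp only [Finsupp.sum, Finset.sum_apply, Pi.smul_apply, F_apply, smul_eq_mul]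

theorem exists_W_of_mem_span (σ : G) {z : A}
    (hz : z ∈ Ideal.span (Set.range fun a : A => σ • a - a)) :
    ∃ w ∈ W (A := A) (G := G), w 1 = 0 ∧ w σ = z := by
  induction hz using Submodule.span_induction with
  | mem x hx =>
    obtain ⟨a, rfl⟩ := hx
    refine ⟨F a - algebraMap A (G → A) a, Subalgebra.sub_mem _ (F_mem_W a)
      (Subalgebra.algebraMap_mem _ a), ?_, ?_⟩
    · simp [F_apply]
    · simp [F_apply]
  | zero => exact ⟨0, Subalgebra.zero_mem _, rfl, rfl⟩
  | add x y hx hy ihx ihy =>
    obtain ⟨w, hw, h1, h2⟩ := ihx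
    obtain ⟨w', hw', h1', h2'⟩ := ihy
    exact ⟨w + w', Subalgebra.add_mem _ hw hw', by simp [h1, h1'], by simp [h2, h2']⟩
  | smul c x hx ih =>
    obtain ⟨w, hw, h1, h2⟩ := ih
    exact ⟨c • w, Subalgebra.smul_mem _ hw c, by simp [h1], by simp [h2]⟩

/-- the Chase–Harrison–Rosenberg identity away from a prime of the invariants above which all
inertia groups are trivial -/
theorem exists_chr [Finite G] [DecidableEq G] (P : Ideal (FixedPoints.subring A G)) [P.IsPrime]
    [Algebra.IsIntegral (FixedPoints.subring A G) A]
    (hin : ∀ Q : Ideal A, Q.IsPrime →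
      Q.comap (algebraMap (FixedPoints.subring A G) A) = P → Q.inertia G = ⊥) :
    ∃ (s : FixedPoints.subring A G) (c : A →₀ A), s ∉ P ∧
      ∀ τ : G, c.sum (fun a r => r * τ • a) = if τ = 1 then (s : A) else 0 := by
  letI : Fintype G := Fintype.ofFinite G
  have key : ∀ σ : G, ∃ (s : FixedPoints.subring A G) (w : G → A), s ∉ P ∧
      w ∈ W (A := A) (G := G) ∧ w 1 = (s : A) ∧ (σ ≠ 1 → w σ = 0) := by
    intro σ
    by_cases hσ : σ = 1
    · exact ⟨1, 1, fun h => (Ideal.IsPrime.ne_top inferInstance) ((Ideal.eq_top_iff_one _).mpr h),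
        Subalgebra.one_mem _, rfl, fun h => absurd hσ h⟩
    · have hnot : ¬ (Ideal.span (Set.range fun a : A => σ • a - a)).comap
          (algebraMap (FixedPoints.subring A G) A) ≤ P := by
        intro hle
        obtain ⟨Q, hJQ, hQp, hQP⟩ := Ideal.exists_ideal_over_prime_of_isIntegral P _ hle
        have hmem : σ ∈ Q.inertia G := fun a => hJQ (Ideal.subset_span ⟨a, rfl⟩)
        rw [hin Q hQp hQP, Subgroup.mem_bot] at hmem
        exact hσ hmem
      obtain ⟨s, hsJ, hsP⟩ := SetLike.not_le_iff_exists.mp hnot
      obtain ⟨w, hw, hw1, hwσ⟩ := exists_W_of_mem_span σ (Ideal.mem_comap.mp hsJ)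
      refine ⟨s, algebraMap A (G → A) (s : A) - w, hsP,
        Subalgebra.sub_mem _ (Subalgebra.algebraMap_mem _ _) hw, ?_, fun _ => ?_⟩
      · simp [hw1]
      · rw [Pi.sub_apply, hwσ]
        exact sub_self _
  choose s w hsP hwW hw1 hwσ using key
  have hprodW : (∏ σ ∈ Finset.univ.erase (1 : G), w σ) ∈ W (A := A) (G := G) :=
    Subalgebra.prod_mem _ (fun σ _ => hwW σ)
  have hS : (∏ σ ∈ Finset.univ.erase (1 : G), s σ) ∉ P := by
    intro h
    obtain ⟨σ, _, hσ⟩ := Ideal.IsPrime.prod_mem_iff.mp h
    exact hsP σ hσ
  obtain ⟨c, hc⟩ := exists_finsupp_of_mem_W hprodW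
  refine ⟨∏ σ ∈ Finset.univ.erase (1 : G), s σ, c, hS, fun τ => ?_⟩
  rw [hc τ, Finset.prod_apply]
  by_cases hτ : τ = 1
  · rw [if_pos hτ, hτ]
    simp only [hw1]
    exact (map_prod (FixedPoints.subring A G).subtype _ _).symm
  · rw [if_neg hτ]
    exact Finset.prod_eq_zero (Finset.mem_erase.mpr ⟨hτ, Finset.mem_univ _⟩) (hwσ τ hτ)

/-- the trace to the invariants -/
def tr [Fintype G] : A →ₗ[FixedPoints.subring A G] FixedPoints.subring A G where
  toFun z := ⟨∑ σ : G, σ • z, fun τ => by
    rw [Finset.smul_sum]
    simp only [smul_smul]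
    exact Fintype.sum_equiv (Equiv.mulLeft τ) _ _ (fun σ => rfl)⟩
  map_add' z z' := Subtype.ext (by
    change ∑ σ : G, σ • (z + z') = ∑ σ : G, σ • z + ∑ σ : G, σ • z'
    simp only [smul_add, Finset.sum_add_distrib])
  map_smul' b z := Subtype.ext (by
    change ∑ σ : G, σ • ((b : A) * z) = (b : A) * ∑ σ : G, σ • z
    rw [Finset.mul_sum]
    exact Finset.sum_congr rfl (fun σ _ => by rw [smul_mul', b.2 σ]))

theorem coe_tr [Fintype G] (z : A) : ((tr (G := G) z : FixedPoints.subring A G) : A) =
    ∑ σ : G, σ • z := rfl

theorem dual_basis [Fintype G] [DecidableEq G] (s : FixedPoints.subring A G) (c : A →₀ A)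
    (hc : ∀ τ : G, c.sum (fun a r => r * τ • a) = if τ = 1 then (s : A) else 0) (a' : A) :
    ∑ i : c.support, (tr (G := G) ((i : A) * a')) • c (i : A) = s • a' := by
  have h1 : ∀ i : c.support, (tr (G := G) ((i : A) * a')) • c (i : A) =
      ∑ σ : G, (σ • a') * (c i * σ • (i : A)) := by
    intro i
    rw [Subring.smul_def, smul_eq_mul, coe_tr, Finset.sum_mul]
    apply Finset.sum_congr rfl
    intro σ _
    rw [smul_mul']
    ring
  simp_rw [h1]
  rw [Finset.sum_comm]
  have h2 : ∀ σ : G, ∑ i : c.support, (σ • a') * (c i * σ • (i : A)) =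
      (σ • a') * (if σ = 1 then (s : A) else 0) := by
    intro σ
    rw [← hc σ, Finsupp.sum, Finset.mul_sum]
    exact Finset.sum_coe_sort c.support (fun a => σ • a' * (c a * σ • a))
  simp_rw [h2]
  rw [Finset.sum_eq_single (1 : G)]
  · rw [if_pos rfl, one_smul, Subring.smul_def, smul_eq_mul, mul_comm]
  · intro σ _ hσ
    rw [if_neg hσ, mul_zero]
  · intro h
    exact absurd (Finset.mem_univ _) h

end chr

section flatloc

/-- a dual-basis identity up to an element `s` becomes a genuine retraction of a free module after
inverting `s`, so the localized algebra is flat (indeed projective) -/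
theorem flat_of_dualBasis_localized
    {B A : Type*} [CommRing B] [CommRing A] [Algebra B A] (T : Submonoid B)
    (B' A' : Type*) [CommRing B'] [CommRing A'] [Algebra B B'] [IsLocalization T B']
    [Algebra A A'] [Algebra B A'] [IsScalarTower B A A'] [Algebra B' A'] [IsScalarTower B B' A']
    [IsLocalization (Algebra.algebraMapSubmonoid A T) A']
    {ι : Type*} [Fintype ι] (x : ι → A) (ℓ : ι → (A →ₗ[B] B)) (s : B) (hs : s ∈ T)
    (h : ∀ a, ∑ i, ℓ i a • x i = s • a) : Module.Flat B' A' := by
  classical
  let fA : A →ₗ[B] A' := (IsScalarTower.toAlgHom B A A').toLinearMap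
  let fB : B →ₗ[B] B' := Algebra.linearMap B B'
  have hfA : ∀ a, fA a = algebraMap A A' a := fun a => rfl
  let ℓ' : ι → (A' →ₗ[B'] B') := fun i => IsLocalizedModule.mapExtendScalars T fA fB B' (ℓ i)
  have hℓ' : ∀ i a, ℓ' i (fA a) = algebraMap B B' (ℓ i a) := fun i a => by
    change IsLocalizedModule.mapExtendScalars T fA fB B' (ℓ i) (fA a) = _
    rw [IsLocalizedModule.mapExtendScalars_apply_apply, IsLocalizedModule.map_apply]
    rfl
  have hsu : IsUnit (algebraMap B B' s) := IsLocalization.map_units B' ⟨s, hs⟩
  obtain ⟨u, hu⟩ := hsu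
  let ι' : A' →ₗ[B'] (ι → B') := LinearMap.pi ℓ'
  let ρ : (ι → B') →ₗ[B'] A' :=
    Fintype.linearCombination B' (fun i => ((u⁻¹ : B'ˣ) : B') • fA (x i))
  have hρι : ρ ∘ₗ ι' = LinearMap.id := by
    apply LinearMap.restrictScalars_injective B
    apply IsLocalizedModule.linearMap_ext T fA fA
    ext a
    simp only [LinearMap.coe_comp, LinearMap.coe_restrictScalars, Function.comp_apply,
      LinearMap.id_coe, id_eq]
    change ρ (ι' (fA a)) = fA a
    rw [Fintype.linearCombination_apply]
    have h1 : ∀ i, (ι' (fA a)) i • (((u⁻¹ : B'ˣ) : B') • fA (x i)) =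
        ((u⁻¹ : B'ˣ) : B') • fA (ℓ i a • x i) := by
      intro i
      change ℓ' i (fA a) • _ = _
      rw [hℓ', map_smul, smul_comm, algebraMap_smul]
    simp_rw [h1]
    rw [← Finset.smul_sum, ← map_sum, h a, map_smul, ← algebraMap_smul B' s (fA a), ← hu,
      smul_smul, Units.inv_mul, one_smul]
  exact Module.Flat.of_retract ι' ρ hρι

end flatloc

section descent

variable {B A : Type u} [CommRing B] [CommRing A] [Algebra B A]

/-- regularity of `B_P` from regularity of `A_Q`, `Q` over `P`, when `A` localized at `P` is flat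
over `B_P` -/
theorem isRegularLocalRing_localization_of_flat_localized
    [IsNoetherianRing B] (P : Ideal B) [P.IsPrime] (Q : Ideal A) [Q.IsPrime]
    (hPQ : P = Q.comap (algebraMap B A))
    [IsRegularLocalRing (Localization.AtPrime Q)]
    (hflat : Module.Flat (Localization.AtPrime P)
      (Localization (Algebra.algebraMapSubmonoid A P.primeCompl))) :
    IsRegularLocalRing (Localization.AtPrime P) := by
  have hle : Algebra.algebraMapSubmonoid A P.primeCompl ≤ Q.primeCompl := by
    rintro _ ⟨b, hb, rfl⟩
    intro hbQ
    apply hb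
    change b ∈ P
    rw [hPQ]
    exact hbQ
  letI algTQ : Algebra (Localization (Algebra.algebraMapSubmonoid A P.primeCompl))
      (Localization.AtPrime Q) :=
    IsLocalization.localizationAlgebraOfSubmonoidLe _ _ _ _ hle
  haveI : IsScalarTower A (Localization (Algebra.algebraMapSubmonoid A P.primeCompl))
      (Localization.AtPrime Q) :=
    IsLocalization.localization_isScalarTower_of_submonoid_le _ _ _ _ hle
  haveI : IsLocalization (Q.primeCompl.map (algebraMap A
      (Localization (Algebra.algebraMapSubmonoid A P.primeCompl)))) (Localization.AtPrime Q) :=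
    IsLocalization.isLocalization_of_submonoid_le _ _ _ _ hle
  haveI : Module.Flat (Localization (Algebra.algebraMapSubmonoid A P.primeCompl))
      (Localization.AtPrime Q) :=
    IsLocalization.flat _ (Q.primeCompl.map (algebraMap A
      (Localization (Algebra.algebraMapSubmonoid A P.primeCompl))))
  letI algPQ : Algebra (Localization.AtPrime P) (Localization.AtPrime Q) :=
    ((algebraMap (Localization (Algebra.algebraMapSubmonoid A P.primeCompl))
      (Localization.AtPrime Q)).comp
      (algebraMap (Localization.AtPrime P)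
        (Localization (Algebra.algebraMapSubmonoid A P.primeCompl)))).toAlgebra
  haveI : IsScalarTower (Localization.AtPrime P)
      (Localization (Algebra.algebraMapSubmonoid A P.primeCompl)) (Localization.AtPrime Q) :=
    IsScalarTower.of_algebraMap_eq (fun _ => rfl)
  haveI : Module.Flat (Localization.AtPrime P) (Localization.AtPrime Q) :=
    Module.Flat.trans (Localization.AtPrime P)
      (Localization (Algebra.algebraMapSubmonoid A P.primeCompl)) (Localization.AtPrime Q)
  have hmap : algebraMap (Localization.AtPrime P) (Localization.AtPrime Q) =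
      Localization.localRingHom P Q (algebraMap B A) hPQ := by
    apply IsLocalization.ringHom_ext P.primeCompl
    ext b
    rw [RingHom.comp_apply, RingHom.comp_apply, Localization.localRingHom_to_map]
    change algebraMap (Localization (Algebra.algebraMapSubmonoid A P.primeCompl))
      (Localization.AtPrime Q) (algebraMap (Localization.AtPrime P)
        (Localization (Algebra.algebraMapSubmonoid A P.primeCompl))
          (algebraMap B (Localization.AtPrime P) b)) = _
    rw [← IsScalarTower.algebraMap_apply B (Localization.AtPrime P)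
        (Localization (Algebra.algebraMapSubmonoid A P.primeCompl)),
      IsScalarTower.algebraMap_apply B A
        (Localization (Algebra.algebraMapSubmonoid A P.primeCompl)),
      ← IsScalarTower.algebraMap_apply A
        (Localization (Algebra.algebraMapSubmonoid A P.primeCompl)) (Localization.AtPrime Q)]
  haveI : IsLocalHom (algebraMap (Localization.AtPrime P) (Localization.AtPrime Q)) := by
    rw [hmap]
    exact Localization.isLocalHom_localRingHom P Q (algebraMap B A) hPQ
  haveI : IsNoetherianRing (Localization.AtPrime P) :=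
    IsLocalization.isNoetherianRing P.primeCompl _ inferInstance
  exact Groth.Agent.Lib.Helper28.isRegularLocalRing_of_flat_of_isLocalHom
    (Localization.AtPrime P) (Localization.AtPrime Q)

end descent

section main

variable (p : ℕ) [Fact p.Prime] {A : Type u} [CommRing A] [IsRegularLocalRing A] [CharP A p]
  [IsAdicComplete (maximalIdeal A) A]
  {k : Type v} [Field k] [Algebra k A]
  {G : Type w} [Group G] [Finite G] [MulSemiringAction G A]

/-- S19994: the ring of invariants is regular away from the closed point -/
theorem isRegularLocalRing_localization_fixedPoints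
    (hk : Function.Surjective (residue A ∘ algebraMap k A)) (hcard : Nat.card G = p)
    (hGk : ∀ (σ : G) (c : k), σ • algebraMap k A c = algebraMap k A c)
    (hram : ∀ P : Ideal A, P.IsPrime → P ≠ maximalIdeal A → P.inertia G = ⊥)
    (P : Ideal (FixedPoints.subring A G)) [P.IsPrime] (hP : ¬ P.IsMaximal) :
    IsRegularLocalRing (Localization.AtPrime P) := by
  classical
  letI : Fintype G := Fintype.ofFinite G
  obtain ⟨hN, hF⟩ := Groth.Agent.Lib.R2H7.WildInv.noeth_finite p hk hcard hGk
  haveI : IsLocalRing (FixedPoints.subring A G) :=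
    Groth.Agent.Lib.R2H7.WildInv.isLocalRing_fixedPoints
  haveI : Algebra.IsIntegral (FixedPoints.subring A G) A := Algebra.IsIntegral.of_finite _ A
  have hmax := Groth.Agent.Lib.R2H7.WildInv.maximalIdeal_fixedPoints_eq (A := A) (G := G)
  have hover : ∀ Q : Ideal A, Q.IsPrime →
      Q.comap (algebraMap (FixedPoints.subring A G) A) = P → Q.inertia G = ⊥ := by
    intro Q hQ hQP
    apply hram Q hQ
    rintro rfl
    apply hP
    rw [← hQP]
    have : Ideal.comap (algebraMap (FixedPoints.subring A G) A) (maximalIdeal A) =
        maximalIdeal (FixedPoints.subring A G) := hmax.symm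
    rw [this]
    exact maximalIdeal.isMaximal _
  obtain ⟨s, c, hsP, hc⟩ := exists_chr P hover
  obtain ⟨Q, -, hQp, hQP⟩ := Ideal.exists_ideal_over_prime_of_isIntegral P (⊥ : Ideal A) (by
    rw [← RingHom.ker_eq_comap_bot, (RingHom.injective_iff_ker_eq_bot _).mp
      (Subtype.val_injective : Function.Injective (algebraMap (FixedPoints.subring A G) A))]
    exact bot_le)
  haveI := hQp
  haveI : IsRegularLocalRing (Localization.AtPrime Q) :=
    Groth.Agent.Lib.Helper28.isRegularLocalRing_localization_of_isRegularLocalRing A Q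
  have hflat : Module.Flat (Localization.AtPrime P)
      (Localization (Algebra.algebraMapSubmonoid A P.primeCompl)) :=
    flat_of_dualBasis_localized P.primeCompl (Localization.AtPrime P)
      (Localization (Algebra.algebraMapSubmonoid A P.primeCompl))
      (fun i : c.support => c (i : A))
      (fun i : c.support => (tr (G := G)).comp (LinearMap.mulLeft (FixedPoints.subring A G) (i : A)))
      s hsP (fun a => dual_basis s c hc a)
  exact isRegularLocalRing_localization_of_flat_localized P Q hQP.symm hflat

end main

end Groth.Agent.Lib.R2H7.WildReg
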