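/-
The invariant ring of a wild `ℤ/p`-action ramified precisely at the origin is not purely
inseparable over a norm subring (Frobenius + trace argument).
-/
import Mathlib
import Groth.Agent.Lib.R2H7WildInv
import Groth.Agent.Lib.R2H7WildReg

set_option autoImplicit false
universe u v w

namespace Groth.Agent.Lib.R2H7.WildInsep

open IsLocalRing

section powerseries

/-- in a power series ring, `X_i ^ a ∣ X_j ^ b * g` with `i ≠ j` implies `X_i ^ a ∣ g` -/
theorem X_pow_dvd_of_dvd_X_pow_mul {ι : Type*} {k : Type*} [CommRing k] (i j : ι) (hij : i ≠ j)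
    (a b : ℕ) (g : MvPowerSeries ι k)
    (h : (MvPowerSeries.X i : MvPowerSeries ι k) ^ a ∣ (MvPowerSeries.X j) ^ b * g) :
    (MvPowerSeries.X i : MvPowerSeries ι k) ^ a ∣ g := by
  classical
  rw [MvPowerSeries.X_pow_dvd_iff] at h ⊢
  intro m hm
  have h1 := h (Finsupp.single j b + m) (by
    rw [Finsupp.add_apply, Finsupp.single_apply, if_neg hij.symm, zero_add]
    exact hm)
  rw [MvPowerSeries.X_pow_eq, MvPowerSeries.coeff_add_monomial_mul, one_mul] at h1
  exact h1

end powerseries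

section hilbert90

variable {A : Type u} [CommRing A] {G : Type w} [Group G] [Fintype G] [MulSemiringAction G A]

/-- additive Hilbert 90 for a group of prime order `p` in characteristic `p`: traces are of the
form `σ t - t` -/
theorem exists_smul_sub_eq_trace (p : ℕ) [Fact p.Prime] [CharP A p] (hcard : Nat.card G = p)
    (σ : G) (hσ : σ ≠ 1) (z : A) : ∃ t : A, σ • t - t = ∑ τ : G, τ • z := by
  classical
  have hmem : ∀ τ : G, τ ∈ Subgroup.zpowers σ := fun τ => mem_zpowers_of_prime_card hcard hσ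
  have himg := IsCyclic.image_range_card hmem
  rw [hcard] at himg
  have hord : orderOf σ = p := by
    rw [← hcard]
    exact orderOf_eq_card_of_forall_mem_zpowers hmem
  have hinj : ∀ i ∈ Finset.range p, ∀ j ∈ Finset.range p, σ ^ i = σ ^ j → i = j := by
    intro i hi j hj hij
    rw [Finset.mem_range] at hi hj
    exact pow_injOn_Iio_orderOf (by rw [hord]; exact hi) (by rw [hord]; exact hj) hij
  have htr : ∑ τ : G, τ • z = ∑ l ∈ Finset.range p, σ ^ l • z := by
    rw [← himg, Finset.sum_image hinj]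
  have hσp : σ ^ p = 1 := by
    rw [← hcard]
    exact pow_card_eq_one'
  have hnat : ∀ l : ℕ, σ • (l : A) = (l : A) := fun l =>
    map_natCast (MulSemiringAction.toRingHom G A σ) l
  let f : ℕ → A := fun l => ((l : A) - 1) * σ ^ l • z
  have h1 : ∑ l ∈ Finset.range p, f (l + 1) = ∑ l ∈ Finset.range p, f l := by
    have e1 := Finset.sum_range_succ' f p
    have e2 := Finset.sum_range_succ f p
    have hfp : f p = f 0 := by
      simp only [f, hσp, pow_zero, CharP.cast_eq_zero, Nat.cast_zero]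
    rw [e2, hfp] at e1
    exact (add_right_cancel e1).symm
  refine ⟨-∑ l ∈ Finset.range p, (l : A) * σ ^ l • z, ?_⟩
  rw [htr, smul_neg, Finset.smul_sum]
  have h2 : ∀ l ∈ Finset.range p, σ • ((l : A) * σ ^ l • z) = f (l + 1) := by
    intro l _
    simp only [f]
    rw [smul_mul', hnat, Nat.cast_succ, add_sub_cancel_right, pow_succ', mul_smul]
  rw [Finset.sum_congr rfl h2, h1]
  simp only [f, sub_mul, one_mul, Finset.sum_sub_distrib]
  ring

end hilbert90

section main

variable (p : ℕ) [Fact p.Prime] {A : Type u} [CommRing A] [IsRegularLocalRing A] [CharP A p]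
  [IsAdicComplete (maximalIdeal A) A]
  {k : Type v} [Field k] [Algebra k A]
  {G : Type w} [Group G] [Fintype G] [MulSemiringAction G A]

/-- the trace ideal of the invariants is primary to the contracted maximal ideal -/
theorem mem_radical_range_tr (hk : Function.Surjective (residue A ∘ algebraMap k A))
    (hcard : Nat.card G = p)
    (hGk : ∀ (σ : G) (c : k), σ • algebraMap k A c = algebraMap k A c)
    (hram : ∀ P : Ideal A, P.IsPrime → P ≠ maximalIdeal A → P.inertia G = ⊥)
    (b : FixedPoints.subring A G) (hb : (b : A) ∈ maximalIdeal A) :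
    b ∈ Ideal.radical (LinearMap.range (Groth.Agent.Lib.R2H7.WildReg.tr (A := A) (G := G))) := by
  classical
  obtain ⟨hN, hF⟩ := Groth.Agent.Lib.R2H7.WildInv.noeth_finite p hk hcard hGk
  haveI : Algebra.IsIntegral (FixedPoints.subring A G) A := Algebra.IsIntegral.of_finite _ A
  rw [Ideal.radical_eq_sInf, Submodule.mem_sInf]
  rintro P ⟨hle, hP⟩
  haveI := hP
  by_cases hPm : P = Ideal.comap (FixedPoints.subring A G).subtype (maximalIdeal A)
  · rw [hPm]
    exact hb
  · exfalso
    have hover : ∀ Q : Ideal A, Q.IsPrime →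
        Q.comap (algebraMap (FixedPoints.subring A G) A) = P → Q.inertia G = ⊥ := by
      intro Q hQ hQP
      apply hram Q hQ
      rintro rfl
      exact hPm hQP.symm
    obtain ⟨s, c, hsP, hc⟩ := Groth.Agent.Lib.R2H7.WildReg.exists_chr P hover
    obtain ⟨Q, -, hQp, hQP⟩ := Ideal.exists_ideal_over_prime_of_isIntegral P (⊥ : Ideal A) (by
      rw [← RingHom.ker_eq_comap_bot, (RingHom.injective_iff_ker_eq_bot _).mp
        (Subtype.val_injective : Function.Injective (algebraMap (FixedPoints.subring A G) A))]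
      exact bot_le)
    have hs : (s : A) = ∑ a ∈ c.support,
        c a * ((Groth.Agent.Lib.R2H7.WildReg.tr (G := G) a : FixedPoints.subring A G) : A) := by
      have h1 : ∑ τ : G, c.sum (fun a r => r * τ • a) =
          ∑ τ : G, (if τ = 1 then (s : A) else 0) := Finset.sum_congr rfl (fun τ _ => hc τ)
      rw [Finset.sum_ite_eq' Finset.univ (1 : G) (fun _ => (s : A)), if_pos (Finset.mem_univ _)] at h1
      simp only [Finsupp.sum] at h1
      rw [Finset.sum_comm] at h1
      rw [← h1]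
      apply Finset.sum_congr rfl
      intro a _
      rw [Groth.Agent.Lib.R2H7.WildReg.coe_tr, Finset.mul_sum]
    have hsQ : (s : A) ∈ Q := by
      rw [hs]
      apply Ideal.sum_mem
      intro a _
      apply Ideal.mul_mem_left
      have h1 : Groth.Agent.Lib.R2H7.WildReg.tr (G := G) a ∈ P := hle ⟨a, rfl⟩
      rw [← hQP] at h1
      exact h1
    apply hsP
    rw [← hQP]
    exact hsQ

/-- S15799 -/
theorem exists_fixed_pow_notMem (n : ℕ) (hn : ringKrullDim A = n) (h2 : 2 ≤ n)
    (hk : Function.Surjective (residue A ∘ algebraMap k A)) (hcard : Nat.card G = p)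
    (hGk : ∀ (σ : G) (c : k), σ • algebraMap k A c = algebraMap k A c)
    (hram : ∀ P : Ideal A, P.IsPrime → P ≠ maximalIdeal A → P.inertia G = ⊥)
    (u : Fin n → A)
    (hu : ∀ τ : Fin n → G, Ideal.span (Set.range fun i => τ i • u i) = maximalIdeal A)
    (φ : MvPowerSeries (Fin n) k →ₐ[k] A)
    (hφ : ∀ i, φ (MvPowerSeries.X i) = ∏ σ : G, σ • u i) :
    ∃ y : A, (∀ σ : G, σ • y = y) ∧ ∀ e : ℕ, y ^ p ^ e ∉ Set.range φ := by
  classical
  by_contra hcon
  push_neg at hcon
  haveI : IsDomain A := Groth.Agent.Lib.Helper5.isDomain_of_isRegularLocalRing A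
  -- the norm parameters
  have h1u : Ideal.span (Set.range u) = maximalIdeal A := by
    have := hu (fun _ => 1)
    simpa using this
  have hxfix : ∀ i (σ : G), σ • (∏ τ : G, τ • u i) = ∏ τ : G, τ • u i := by
    intro i σ
    rw [Finset.smul_prod']
    simp only [smul_smul]
    exact Fintype.prod_equiv (Equiv.mulLeft σ) _ _ (fun τ => rfl)
  have hxm : ∀ i, (∏ τ : G, τ • u i) ∈ maximalIdeal A := by
    intro i
    have hu1 : u i ∈ maximalIdeal A := by
      rw [← h1u]
      exact Ideal.subset_span ⟨i, rfl⟩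
    have hd : (1 : G) • u i ∣ ∏ σ : G, σ • u i := Finset.dvd_prod_of_mem _ (Finset.mem_univ _)
    rw [one_smul] at hd
    exact Ideal.mem_of_dvd _ hd hu1
  have hxrad : (Ideal.span (Set.range fun i => ∏ τ : G, τ • u i)).radical = maximalIdeal A := by
    apply le_antisymm
    · have hle : Ideal.span (Set.range fun i => ∏ σ : G, σ • u i) ≤ maximalIdeal A := by
        rw [Ideal.span_le]
        rintro _ ⟨i, rfl⟩
        exact hxm i
      exact (Ideal.IsPrime.radical_le_iff inferInstance).mpr hle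
    · refine (Groth.Agent.S15790.result A G n u h1u).mpr (fun τ => ?_)
      rw [hu τ]
      exact Ideal.le_radical
  obtain ⟨d, b, -, hbij⟩ := Groth.Agent.Lib.R2H7.ParamFree.main n hn hk
    (fun i => ∏ τ : G, τ • u i) hxrad φ hφ
  have hfixφ : ∀ (σ : G) r, σ • φ r = φ r :=
    Groth.Agent.Lib.R2H7.WildInv.algHom_fixed hGk n φ (fun i => by rw [hφ]; exact hxm i)
      (fun i σ => by rw [hφ]; exact hxfix i σ)
  -- the module structure
  letI algRA : Algebra (MvPowerSeries (Fin n) k) A := φ.toRingHom.toAlgebra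
  have hsmul : ∀ (r : MvPowerSeries (Fin n) k) (a : A), r • a = φ r * a := fun r a => rfl
  have hbij' : Function.Bijective (Fintype.linearCombination (MvPowerSeries (Fin n) k) b) := by
    have : (Fintype.linearCombination (MvPowerSeries (Fin n) k) b :
        (Fin d → MvPowerSeries (Fin n) k) → A) =
        fun r : Fin d → MvPowerSeries (Fin n) k => ∑ i, φ (r i) * b i := by
      funext r
      rw [Fintype.linearCombination_apply]
      rfl
    rw [this]
    exact hbij
  let ε : (Fin d → MvPowerSeries (Fin n) k) ≃ₗ[MvPowerSeries (Fin n) k] A :=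
    LinearEquiv.ofBijective (Fintype.linearCombination (MvPowerSeries (Fin n) k) b) hbij'
  haveI : Module.Free (MvPowerSeries (Fin n) k) A := Module.Free.of_equiv ε
  haveI : Module.FaithfullyFlat (MvPowerSeries (Fin n) k) A := inferInstance
  have hφinj : Function.Injective φ := FaithfulSMul.algebraMap_injective (MvPowerSeries (Fin n) k) A
  -- a generator
  obtain ⟨σ, hσ⟩ : ∃ σ : G, σ ≠ 1 := by
    have : Nontrivial G := by
      rw [← Finite.one_lt_card_iff_nontrivial, hcard]
      exact (Fact.out : p.Prime).one_lt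
    exact exists_ne 1
  have hi12 : (⟨0, by omega⟩ : Fin n) ≠ ⟨1, by omega⟩ := by
    intro h
    have := congrArg Fin.val h
    simp at this
  -- traces
  obtain ⟨N1, hN1⟩ := mem_radical_range_tr p hk hcard hGk hram
    (⟨∏ τ : G, τ • u ⟨0, by omega⟩, fun σ => hxfix _ σ⟩ : FixedPoints.subring A G) (hxm _)
  obtain ⟨N2, hN2⟩ := mem_radical_range_tr p hk hcard hGk hram
    (⟨∏ τ : G, τ • u ⟨1, by omega⟩, fun σ => hxfix _ σ⟩ : FixedPoints.subring A G) (hxm _)
  obtain ⟨z1, hz1⟩ := hN1
  obtain ⟨z2, hz2⟩ := hN2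
  have hz1' : ∑ τ : G, τ • z1 = φ (MvPowerSeries.X ⟨0, by omega⟩ ^ N1) := by
    have := congrArg (fun y : FixedPoints.subring A G => (y : A)) hz1
    simp only [Groth.Agent.Lib.R2H7.WildReg.coe_tr] at this
    rw [this, map_pow, hφ]
    rfl
  have hz2' : ∑ τ : G, τ • z2 = φ (MvPowerSeries.X ⟨1, by omega⟩ ^ N2) := by
    have := congrArg (fun y : FixedPoints.subring A G => (y : A)) hz2
    simp only [Groth.Agent.Lib.R2H7.WildReg.coe_tr] at this
    rw [this, map_pow, hφ]
    rfl
  obtain ⟨c1, hc1⟩ := exists_smul_sub_eq_trace p hcard σ hσ z1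
  obtain ⟨c2, hc2⟩ := exists_smul_sub_eq_trace p hcard σ hσ z2
  rw [hz1'] at hc1
  rw [hz2'] at hc2
  set P1 : MvPowerSeries (Fin n) k := MvPowerSeries.X ⟨0, by omega⟩ ^ N1 with hP1
  set P2 : MvPowerSeries (Fin n) k := MvPowerSeries.X ⟨1, by omega⟩ ^ N2 with hP2
  -- the invariant element
  have hrσ : σ • (φ P2 * c1 - φ P1 * c2) = φ P2 * c1 - φ P1 * c2 := by
    have e1 : σ • c1 = c1 + φ P1 := by rw [← hc1]; ring
    have e2 : σ • c2 = c2 + φ P2 := by rw [← hc2]; ring
    rw [smul_sub, smul_mul', smul_mul', hfixφ, hfixφ, e1, e2]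
    ring
  have hrfix : ∀ τ : G, τ • (φ P2 * c1 - φ P1 * c2) = φ P2 * c1 - φ P1 * c2 := by
    intro τ
    have h1 : σ ∈ MulAction.stabilizer G (φ P2 * c1 - φ P1 * c2) := hrσ
    have h2 : τ ∈ MulAction.stabilizer G (φ P2 * c1 - φ P1 * c2) :=
      (Subgroup.zpowers_le.mpr h1) (mem_zpowers_of_prime_card hcard hσ)
    exact h2
  obtain ⟨e, ρ, hρ⟩ := hcon _ hrfix
  have hfrob : φ ρ = φ (P2 ^ p ^ e) * c1 ^ p ^ e - φ (P1 ^ p ^ e) * c2 ^ p ^ e := by
    rw [hρ, sub_pow_char_pow, mul_pow, mul_pow, map_pow φ P2, map_pow φ P1]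
  have hρI : ρ ∈ Ideal.span {P1 ^ p ^ e, P2 ^ p ^ e} := by
    rw [← Ideal.comap_map_eq_self_of_faithfullyFlat (B := A) (Ideal.span {P1 ^ p ^ e, P2 ^ p ^ e}),
      Ideal.mem_comap, Ideal.map_span, Set.image_pair]
    change φ ρ ∈ Ideal.span {φ (P1 ^ p ^ e), φ (P2 ^ p ^ e)}
    rw [hfrob]
    apply Ideal.sub_mem
    · exact Ideal.mul_mem_right _ _ (Ideal.subset_span (Or.inr rfl))
    · exact Ideal.mul_mem_right _ _ (Ideal.subset_span (Or.inl rfl))
  obtain ⟨α, β, hαβ⟩ := Ideal.mem_span_pair.mp hρI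
  have hrel : P2 ^ p ^ e • (c1 ^ p ^ e - φ β) = P1 ^ p ^ e • (c2 ^ p ^ e + φ α) := by
    rw [hsmul, hsmul]
    have h3 := hfrob
    rw [← hαβ, map_add, map_mul, map_mul] at h3
    linear_combination (-1 : A) * h3
  -- divisibility through coordinates
  obtain ⟨e', he'⟩ : ∃ e' : A, c1 ^ p ^ e - φ β = φ (P1 ^ p ^ e) * e' := by
    have h4 := congrArg ε.symm hrel
    rw [map_smul, map_smul] at h4
    have h5 : ∀ j, P1 ^ p ^ e ∣ ε.symm (c1 ^ p ^ e - φ β) j := by
      intro j
      have h6 := congrFun h4 j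
      rw [Pi.smul_apply, Pi.smul_apply, smul_eq_mul, smul_eq_mul] at h6
      have h7 : P1 ^ p ^ e ∣ P2 ^ p ^ e * ε.symm (c1 ^ p ^ e - φ β) j := ⟨_, h6⟩
      rw [hP1, hP2, ← pow_mul, ← pow_mul] at h7
      rw [hP1, ← pow_mul]
      exact X_pow_dvd_of_dvd_X_pow_mul _ _ hi12 _ _ _ h7
    choose w hw using h5
    refine ⟨ε w, ?_⟩
    rw [← hsmul, ← map_smul]
    have h8 : P1 ^ p ^ e • w = ε.symm (c1 ^ p ^ e - φ β) := by
      funext j
      rw [Pi.smul_apply, smul_eq_mul, hw j]
    rw [h8, LinearEquiv.apply_symm_apply]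
  have hne : φ (P1 ^ p ^ e) ≠ 0 := by
    rw [Ne, map_eq_zero_iff φ hφinj]
    refine pow_ne_zero _ (pow_ne_zero _ (fun h => ?_))
    have h9 := congrArg (MvPowerSeries.coeff (Finsupp.single (⟨0, by omega⟩ : Fin n) 1)) h
    rw [MvPowerSeries.coeff_index_single_self_X, map_zero] at h9
    exact one_ne_zero h9
  have hδ : σ • e' - e' = 1 := by
    have h1 : σ • (c1 ^ p ^ e - φ β) - (c1 ^ p ^ e - φ β) = φ (P1 ^ p ^ e) := by
      rw [smul_sub, smul_pow', hfixφ σ β, map_pow, ← hc1, sub_pow_char_pow]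
      ring
    rw [he', smul_mul', hfixφ, ← mul_sub] at h1
    exact mul_left_cancel₀ hne (h1.trans (mul_one _).symm)
  have hmem := Groth.Agent.Lib.R2H7.WildInv.smul_sub_mem hk hGk σ e'
  rw [hδ] at hmem
  exact (Ideal.ne_top_iff_one _).mp (maximalIdeal.isMaximal A).ne_top hmem

end main

end Groth.Agent.Lib.R2H7.WildInsep
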