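import Mathlib
import Groth.Agent.Lib.Helper5RLR
import Groth.Agent.Lib.Helper18HenselMap
import Groth.Agent.Lib.Helper5HilbertRLR

/-!
# Artin–Schreier tools for wild `ℤ/p`-quotients (helper7, round 2)

* `colon_left`, `colon_right`, `frob_inj`, `frob_fixed`: elementary two-variable "Frobenius acts
  injectively / without fixed points on `H²_{(u,v)}(A)`" statements, phrased with ideals
  `(u^a, v^b)` for two non-associated prime elements `u`, `v` with `(u, v)` prime.
* `exists_natCast_of_pow_eq`, `irreducible_of_no_root`, `isGalois_adjoinRoot`,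
  `exists_root_of_no_galois`: the Artin–Schreier dichotomy.
* `exists_pow_sub_eq`: Hensel for `X^p - X - a`.
* `exists_prime_pair`: two regular parameters in a regular local ring of dimension `≥ 2`.
-/

set_option autoImplicit false

universe u v w

namespace Groth.Agent.Lib.R2H7.WildPur1

open Polynomial IsLocalRing

section frob

variable {A : Type*} [CommRing A] [IsDomain A]

theorem colon_left {u v : A} (hv : Prime v) (hvu : ¬ v ∣ u) {a b c : ℕ} {z : A}
    (h : u ^ c * z ∈ Ideal.span ({u ^ (c + a), v ^ b} : Set A)) :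
    z ∈ Ideal.span ({u ^ a, v ^ b} : Set A) := by
  rw [Ideal.mem_span_pair] at h ⊢
  obtain ⟨f, g, hfg⟩ := h
  have hdvd : v ^ b ∣ u ^ c * (z - f * u ^ a) := by
    refine ⟨g, ?_⟩
    rw [mul_sub, ← hfg, pow_add]
    ring
  have hvuc : ¬ v ∣ u ^ c := fun h => hvu (hv.dvd_of_dvd_pow h)
  obtain ⟨g', hg'⟩ := hv.pow_dvd_of_dvd_mul_left b hvuc hdvd
  refine ⟨f, g', ?_⟩
  rw [mul_comm g', ← hg']
  ring

theorem colon_right {u v : A} (hu : Prime u) (huv : ¬ u ∣ v) {a b c : ℕ} {z : A}
    (h : v ^ c * z ∈ Ideal.span ({u ^ a, v ^ (c + b)} : Set A)) :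
    z ∈ Ideal.span ({u ^ a, v ^ b} : Set A) := by
  rw [Set.pair_comm] at h ⊢
  exact colon_left hu huv h

variable (p : ℕ) [Fact p.Prime] [CharP A p]

theorem frob_inj_aux {u v : A} (hv : Prime v) (hvu : ¬ v ∣ u)
    (hP : (Ideal.span ({u, v} : Set A)).IsPrime) :
    ∀ (m : ℕ) (z : A), z ^ p ∈ Ideal.span ({u ^ (p * m), v} : Set A) →
      z ∈ Ideal.span ({u ^ m, v} : Set A) := by
  have hp1 : 1 ≤ p := (Fact.out : p.Prime).one_lt.le
  intro m
  induction m with
  | zero =>
    intro z _
    exact Ideal.mem_span_pair.mpr ⟨z, 0, by simp⟩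
  | succ m ih =>
    intro z hz
    have hzI : z ∈ Ideal.span ({u, v} : Set A) := by
      apply hP.mem_of_pow_mem p
      obtain ⟨f, g, hfg⟩ := Ideal.mem_span_pair.mp hz
      refine Ideal.mem_span_pair.mpr ⟨f * u ^ (p * (m + 1) - 1), g, ?_⟩
      rw [← hfg]
      have : u ^ (p * (m + 1)) = u ^ (p * (m + 1) - 1) * u := by
        rw [← pow_succ, Nat.sub_add_cancel]
        exact Nat.mul_pos (by omega) (by omega) 
      rw [this]
      ring
    obtain ⟨w, w', hw⟩ := Ideal.mem_span_pair.mp hzI
    have hzp : z ^ p = w ^ p * u ^ p + w' ^ p * v ^ p := by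
      rw [← hw, add_pow_char, mul_pow, mul_pow]
    have h1 : u ^ p * w ^ p ∈ Ideal.span ({u ^ (p + p * m), v ^ 1} : Set A) := by
      have e : u ^ p * w ^ p = z ^ p - w' ^ p * v ^ p := by rw [hzp]; ring
      rw [e, pow_one, show p + p * m = p * (m + 1) by ring]
      refine sub_mem hz ?_
      refine Ideal.mem_span_pair.mpr ⟨0, w' ^ p * v ^ (p - 1), ?_⟩
      have : v ^ p = v ^ (p - 1) * v := by rw [← pow_succ, Nat.sub_add_cancel hp1]
      rw [this]
      ring
    have h2 := colon_left hv hvu h1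
    rw [pow_one] at h2
    obtain ⟨f, g, hfg⟩ := Ideal.mem_span_pair.mp (ih w h2)
    refine Ideal.mem_span_pair.mpr ⟨f, g * u + w', ?_⟩
    rw [← hw, ← hfg]
    ring

theorem frob_inj {u v : A} (hu : Prime u) (hv : Prime v) (huv : ¬ u ∣ v) (hvu : ¬ v ∣ u)
    (hP : (Ideal.span ({u, v} : Set A)).IsPrime) (m : ℕ) :
    ∀ (l : ℕ) (z : A), z ^ p ∈ Ideal.span ({u ^ (p * m), v ^ (p * l)} : Set A) →
      z ∈ Ideal.span ({u ^ m, v ^ l} : Set A) := by
  have hp1 : 1 ≤ p := (Fact.out : p.Prime).one_lt.le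
  intro l
  induction l with
  | zero =>
    intro z _
    exact Ideal.mem_span_pair.mpr ⟨0, z, by simp⟩
  | succ l ih =>
    intro z hz
    have hz1 : z ^ p ∈ Ideal.span ({u ^ (p * m), v} : Set A) := by
      obtain ⟨f, g, hfg⟩ := Ideal.mem_span_pair.mp hz
      refine Ideal.mem_span_pair.mpr ⟨f, g * v ^ (p * (l + 1) - 1), ?_⟩
      rw [← hfg]
      have : v ^ (p * (l + 1)) = v ^ (p * (l + 1) - 1) * v := by
        rw [← pow_succ, Nat.sub_add_cancel]
        exact Nat.mul_pos (by omega) (by omega)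
      rw [this]
      ring
    obtain ⟨z₁, z₂, hz12⟩ := Ideal.mem_span_pair.mp (frob_inj_aux p hv hvu hP m z hz1)
    have hzp : z ^ p = z₁ ^ p * u ^ (p * m) + z₂ ^ p * v ^ p := by
      rw [← hz12, add_pow_char, mul_pow, mul_pow, ← pow_mul, mul_comm m p]
    have h1 : v ^ p * z₂ ^ p ∈ Ideal.span ({u ^ (p * m), v ^ (p + p * l)} : Set A) := by
      have e : v ^ p * z₂ ^ p = z ^ p - z₁ ^ p * u ^ (p * m) := by rw [hzp]; ring
      rw [e, show p + p * l = p * (l + 1) by ring]
      refine sub_mem hz ?_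
      exact Ideal.mul_mem_left _ _ (Ideal.subset_span (by simp))
    have h2 := colon_right hu huv h1
    obtain ⟨f, g, hfg⟩ := Ideal.mem_span_pair.mp (ih z₂ h2)
    refine Ideal.mem_span_pair.mpr ⟨z₁ + f * v, g, ?_⟩
    rw [← hz12, ← hfg, pow_succ]
    ring

/-- Frobenius has no nonzero fixed vector in `H²_{(u,v)}(A)`: the class of `r / (uv)^(n+1)` is
fixed by Frobenius only if it vanishes. -/
theorem frob_fixed {u v : A} (hu : Prime u) (hv : Prime v) (huv : ¬ u ∣ v) (hvu : ¬ v ∣ u)
    (hP : (Ideal.span ({u, v} : Set A)).IsPrime) (q : ℕ) (hq : q + 1 = p) (n : ℕ) (r : A)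
    (h : r ^ p - r * (u * v) ^ ((n + 1) * q) ∈
      Ideal.span ({u ^ (p * (n + 1)), v ^ (p * (n + 1))} : Set A)) :
    r ∈ Ideal.span ({u ^ (n + 1), v ^ (n + 1)} : Set A) := by
  have hp1 : 1 ≤ p := (Fact.out : p.Prime).one_lt.le
  have hp2 : 2 ≤ p := (Fact.out : p.Prime).two_le
  set I : Ideal A := Ideal.span ({u, v} : Set A) with hI
  set Jn : Ideal A := Ideal.span ({u ^ (n + 1), v ^ (n + 1)} : Set A) with hJn
  set Jpn : Ideal A := Ideal.span ({u ^ (p * (n + 1)), v ^ (p * (n + 1))} : Set A) with hJpn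
  have hexp : n + 1 + (n + 1) * q = p * (n + 1) := by rw [← hq]; ring
  -- multiplication by `(uv)^((n+1)q)` maps `Jn` into `Jpn`
  have key0 : ∀ z ∈ Jn, z * (u * v) ^ ((n + 1) * q) ∈ Jpn := by
    intro z hz
    obtain ⟨f, g, hfg⟩ := Ideal.mem_span_pair.mp hz
    refine Ideal.mem_span_pair.mpr ⟨f * v ^ ((n + 1) * q), g * u ^ ((n + 1) * q), ?_⟩
    rw [← hfg, mul_pow, ← hexp, pow_add, pow_add]
    ring
  -- p-th powers of `Jn` lie in `Jpn`
  have key1 : ∀ z ∈ Jn, z ^ p ∈ Jpn := by
    intro z hz
    obtain ⟨f, g, hfg⟩ := Ideal.mem_span_pair.mp hz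
    refine Ideal.mem_span_pair.mpr ⟨f ^ p, g ^ p, ?_⟩
    rw [← hfg, add_pow_char, mul_pow, mul_pow, ← pow_mul, ← pow_mul, mul_comm (n + 1) p]
  have hbase : ∀ w ∈ I ^ (n + 1 + (n + 1)), w * r ∈ Jn := by
    intro w hw
    have h1 : I ^ (n + 1 + (n + 1)) ≤ Jn := by
      have hIsup : I = Ideal.span {u} ⊔ Ideal.span {v} := by
        rw [hI, ← Ideal.span_union]; rfl
      rw [hIsup]
      refine Ideal.sup_pow_add_le_pow_sup_pow.trans ?_
      rw [Ideal.span_singleton_pow, Ideal.span_singleton_pow, ← Ideal.span_union]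
      exact le_of_eq rfl
    exact Ideal.mul_mem_right _ _ (h1 hw)
  have hstep : ∀ j : ℕ, 1 ≤ j → (∀ w ∈ I ^ (j + 1), w * r ∈ Jn) → ∀ w ∈ I ^ j, w * r ∈ Jn := by
    intro j hj hnext w hw
    apply frob_inj p hu hv huv hvu hP (n + 1) (n + 1)
    have hwp : w ^ p ∈ I ^ (j + 1) := by
      have h1 : w ^ p ∈ (I ^ j) ^ p := Ideal.pow_mem_pow hw p
      rw [← pow_mul] at h1
      refine Ideal.pow_le_pow_right ?_ h1
      nlinarith
    have e : (w * r) ^ p = w ^ p * (r ^ p - r * (u * v) ^ ((n + 1) * q)) +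
        (w ^ p * r) * (u * v) ^ ((n + 1) * q) := by ring
    rw [e]
    exact add_mem (Ideal.mul_mem_left _ _ h) (key0 _ (hnext _ hwp))
  have hall : ∀ d j : ℕ, j + d = n + 1 + (n + 1) → 1 ≤ j → ∀ w ∈ I ^ j, w * r ∈ Jn := by
    intro d
    induction d with
    | zero =>
      intro j hj _
      rw [add_zero] at hj
      rw [hj]
      exact hbase
    | succ d ih =>
      intro j hj hj1
      exact hstep j hj1 (ih (j + 1) (by omega) (by omega))
  have h1 := hall (n + (n + 1)) 1 (by omega) le_rfl
  have hu1 : u * r ∈ Jn := h1 u (by rw [pow_one]; exact Ideal.subset_span (by simp))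
  have hv1 : v * r ∈ Jn := h1 v (by rw [pow_one]; exact Ideal.subset_span (by simp))
  -- `r ∈ (u^n, v^(n+1))`
  have hr1 : r ∈ Ideal.span ({u ^ n, v ^ (n + 1)} : Set A) := by
    apply colon_left (c := 1) hv hvu
    rw [pow_one, add_comm 1 n]
    exact hu1
  obtain ⟨f, g, hfg⟩ := Ideal.mem_span_pair.mp hr1
  have hvf : v * f ∈ Ideal.span ({u ^ 1, v ^ (n + 1)} : Set A) := by
    apply colon_left (c := n) hv hvu
    have e : u ^ n * (v * f) = v * r - (g * v) * v ^ (n + 1) := by rw [← hfg]; ring
    rw [e]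
    refine sub_mem hv1 ?_
    exact Ideal.mul_mem_left _ _ (Ideal.subset_span (by simp))
  have hf : f ∈ Ideal.span ({u ^ 1, v ^ n} : Set A) := by
    apply colon_right (c := 1) hu huv
    rw [pow_one, add_comm 1 n]
    rw [pow_one] at hvf ⊢
    exact hvf
  obtain ⟨f₃, a, hf34⟩ := Ideal.mem_span_pair.mp hf
  obtain ⟨e, he⟩ : ∃ e : A, e = f₃ * u ^ (n + 1) + g * v ^ (n + 1) := ⟨_, rfl⟩
  have heJ : e ∈ Jn := Ideal.mem_span_pair.mpr ⟨f₃, g, he.symm⟩
  have hr : r = a * (u * v) ^ n + e := by
    rw [← hfg, ← hf34, he]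
    ring
  -- the Frobenius-fixed equation for `a`
  have hX : (u * v) ^ (p * n) * (a ^ p - a * (u * v) ^ q) ∈ Jpn := by
    have e1 : (u * v) ^ (p * n) * (a ^ p - a * (u * v) ^ q) =
        (r ^ p - r * (u * v) ^ ((n + 1) * q)) - e ^ p + e * (u * v) ^ ((n + 1) * q) := by
      have e2 : r ^ p = a ^ p * (u * v) ^ (p * n) + e ^ p := by
        rw [hr, add_pow_char, mul_pow, ← pow_mul, mul_comm n p]
      have e3 : (u * v) ^ n * (u * v) ^ ((n + 1) * q) = (u * v) ^ (p * n) * (u * v) ^ q := by
        rw [← pow_add, ← pow_add]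
        congr 1
        rw [← hq]; ring
      rw [e2]
      conv_rhs => rw [hr]
      linear_combination a * e3
    rw [e1]
    exact add_mem (sub_mem h (key1 e heJ)) (key0 e heJ)
  have hX2 : a ^ p - a * (u * v) ^ q ∈ Ideal.span ({u ^ p, v ^ p} : Set A) := by
    apply colon_right (c := p * n) hu huv
    apply colon_left (c := p * n) hv hvu
    have e1 : u ^ (p * n) * (v ^ (p * n) * (a ^ p - a * (u * v) ^ q)) =
        (u * v) ^ (p * n) * (a ^ p - a * (u * v) ^ q) := by rw [mul_pow]; ring
    rw [e1, show p * n + p = p * (n + 1) by ring]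
    exact hX
  have haI : a ∈ I := by
    apply hP.mem_of_pow_mem p
    have h2 : a ^ p - a * (u * v) ^ q ∈ I := by
      obtain ⟨f', g', hfg'⟩ := Ideal.mem_span_pair.mp hX2
      refine Ideal.mem_span_pair.mpr ⟨f' * u ^ q, g' * v ^ q, ?_⟩
      rw [← hfg', ← hq, pow_succ, pow_succ]
      ring
    have h3 : a * (u * v) ^ q ∈ I := by
      have hq1 : 1 ≤ q := by omega
      refine Ideal.mem_span_pair.mpr ⟨a * (u * v) ^ (q - 1) * v, 0, ?_⟩
      have : (u * v) ^ q = (u * v) ^ (q - 1) * (u * v) := by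
        rw [← pow_succ, Nat.sub_add_cancel hq1]
      rw [this]
      ring
    have := add_mem h2 h3
    rwa [sub_add_cancel] at this
  obtain ⟨a₁, a₂, ha12⟩ := Ideal.mem_span_pair.mp haI
  rw [hr]
  refine add_mem ?_ heJ
  refine Ideal.mem_span_pair.mpr ⟨a₁ * v ^ n, a₂ * u ^ n, ?_⟩
  rw [← ha12, mul_pow, pow_succ, pow_succ]
  ring

end frob

section artinschreier

variable (p : ℕ) [Fact p.Prime]

/-- In a field of characteristic `p`, the solutions of `c ^ p = c` are the natural numbers. -/
theorem exists_natCast_of_pow_eq {Om : Type*} [Field Om] [CharP Om p] (c : Om) (hc : c ^ p = c) :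
    ∃ n : ℕ, c = n := by
  classical
  by_contra hne
  push_neg at hne
  have hp1 : 1 < p := (Fact.out : p.Prime).one_lt
  have hQ : (X ^ p - X : Om[X]) ≠ 0 := FiniteField.X_pow_card_sub_X_ne_zero Om hp1
  have hdeg : (X ^ p - X : Om[X]).natDegree = p := FiniteField.X_pow_card_sub_X_natDegree_eq Om hp1
  set S : Finset Om := (Finset.range p).image (fun n : ℕ => (n : Om)) with hS
  have hScard : S.card = p := by
    rw [hS, Finset.card_image_of_injOn, Finset.card_range]
    intro a ha b hb hab
    exact CharP.natCast_injOn_Iio Om p (by simpa using ha) (by simpa using hb) hab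
  have hcS : c ∉ S := by
    intro h
    obtain ⟨n, _, hn⟩ := Finset.mem_image.mp h
    exact hne n hn.symm
  have hsub : insert c S ⊆ (X ^ p - X : Om[X]).roots.toFinset := by
    intro x hx
    rw [Multiset.mem_toFinset, mem_roots hQ, IsRoot.def, eval_sub, eval_pow, eval_X, sub_eq_zero]
    rcases Finset.mem_insert.mp hx with rfl | hx
    · exact hc
    · obtain ⟨n, _, rfl⟩ := Finset.mem_image.mp hx
      have := map_natCast (frobenius Om p) n
      rwa [frobenius_def] at this
  have h1 := Finset.card_le_card hsub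
  rw [Finset.card_insert_of_notMem hcS, hScard] at h1
  have h2 := (Multiset.toFinset_card_le _).trans (card_roots' (X ^ p - X : Om[X]))
  rw [hdeg] at h2
  omega

variable {F : Type*} [Field F] [CharP F p]

theorem monic_AS (a : F) : (X ^ p - X - C a : F[X]).Monic := by
  have hp1 : 1 < p := (Fact.out : p.Prime).one_lt
  rw [sub_sub]
  apply (monic_X_pow p).sub_of_left
  rw [degree_X_pow, degree_X_add_C]
  exact_mod_cast hp1

theorem natDegree_AS (a : F) : (X ^ p - X - C a : F[X]).natDegree = p := by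
  have hp1 : 1 < p := (Fact.out : p.Prime).one_lt
  rw [natDegree_sub_C, FiniteField.X_pow_card_sub_X_natDegree_eq F hp1]

theorem separable_AS (a : F) : (X ^ p - X - C a : F[X]).Separable := by
  rw [separable_def]
  have hd : derivative (X ^ p - X - C a : F[X]) = -1 := by
    rw [derivative_sub, derivative_sub, derivative_X_pow, derivative_X, derivative_C,
      CharP.cast_eq_zero F p, C_0, zero_mul]
    ring
  rw [hd]
  exact isCoprime_one_right.neg_right

theorem aeval_AS {Om : Type*} [Field Om] [Algebra F Om] (a : F) (θ : Om) :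
    aeval θ (X ^ p - X - C a : F[X]) = θ ^ p - θ - algebraMap F Om a := by
  simp [aeval_C]

/-- Artin–Schreier: `X^p - X - a` is irreducible as soon as it has no root. -/
theorem irreducible_of_no_root (a : F) (h : ∀ c : F, c ^ p - c ≠ a) :
    Irreducible (X ^ p - X - C a : F[X]) := by
  classical
  have hp1 : 1 < p := (Fact.out : p.Prime).one_lt
  set g : F[X] := X ^ p - X - C a with hg
  have hmonic : g.Monic := monic_AS p a
  have hnat : g.natDegree = p := natDegree_AS p a
  have hsep : g.Separable := separable_AS p a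
  let Om := AlgebraicClosure F
  haveI : CharP Om p := charP_of_injective_algebraMap (algebraMap F Om).injective p
  obtain ⟨θ, hθ⟩ := IsAlgClosed.exists_aeval_eq_zero Om g (by
    rw [degree_eq_natDegree hmonic.ne_zero, hnat]
    exact_mod_cast (by omega : p ≠ 0))
  have hθ' : θ ^ p - θ = algebraMap F Om a := by
    rw [hg, aeval_AS] at hθ
    exact sub_eq_zero.mp hθ
  have hint : IsIntegral F θ := ⟨g, hmonic, hθ⟩
  have hdvd : minpoly F θ ∣ g := minpoly.dvd F θ hθ
  have hnotin : θ ∉ (algebraMap F Om).range := by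
    rintro ⟨c, rfl⟩
    apply h c
    apply (algebraMap F Om).injective
    rw [map_sub, map_pow]
    exact hθ'
  have h2 : 2 ≤ (minpoly F θ).natDegree := (minpoly.two_le_natDegree_iff hint).mpr hnotin
  -- a second root
  have hsepm : (minpoly F θ).Separable := hsep.of_dvd hdvd
  have hsplit : ((minpoly F θ).map (algebraMap F Om)).Splits := IsAlgClosed.splits _
  have hcard : ((minpoly F θ).map (algebraMap F Om)).roots.card = (minpoly F θ).natDegree := by
    rw [splits_iff_card_roots.mp hsplit, natDegree_map]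
  have hnodup : ((minpoly F θ).map (algebraMap F Om)).roots.Nodup := nodup_roots hsepm.map
  have hcard' : ((minpoly F θ).map (algebraMap F Om)).roots.toFinset.card =
      (minpoly F θ).natDegree := by
    rw [Multiset.toFinset_card_of_nodup hnodup, hcard]
  obtain ⟨θ', hθ'mem, hne⟩ := Finset.exists_mem_ne (by rw [hcard']; omega) θ
  have hmap0 : (minpoly F θ).map (algebraMap F Om) ≠ 0 :=
    (Polynomial.map_ne_zero_iff (algebraMap F Om).injective).mpr (minpoly.ne_zero hint)
  have hθ'root : aeval θ' (minpoly F θ) = 0 := by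
    rw [Multiset.mem_toFinset, mem_roots hmap0, IsRoot.def, eval_map, ← aeval_def] at hθ'mem
    exact hθ'mem
  have hθ'g : θ' ^ p - θ' = algebraMap F Om a := by
    obtain ⟨q, hq⟩ := hdvd
    have : aeval θ' g = 0 := by rw [hq, map_mul, hθ'root, zero_mul]
    rw [hg, aeval_AS] at this
    exact sub_eq_zero.mp this
  obtain ⟨n₀, hn₀⟩ := exists_natCast_of_pow_eq p (θ' - θ) (by
    rw [sub_pow_char]
    linear_combination hθ'g - hθ')
  have hn₀ne : (n₀ : Om) ≠ 0 := by rw [← hn₀]; exact sub_ne_zero.mpr hne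
  have hθ'eq : θ' = θ + n₀ := by rw [← hn₀]; ring
  -- the shifted polynomial
  set hm : F[X] := minpoly F θ with hhm
  set h₁ : F[X] := hm.comp (X + C (n₀ : F)) with hh₁
  have hh₁monic : h₁.Monic := (minpoly.monic hint).comp_X_add_C _
  have hh₁deg : h₁.natDegree = hm.natDegree := by
    rw [hh₁, natDegree_comp, natDegree_X_add_C, mul_one]
  have haev : ∀ x : Om, aeval x h₁ = aeval (x + n₀) hm := by
    intro x
    rw [hh₁, aeval_comp]
    simp
  have hh₁eq : h₁ = hm := by
    have hd : hm ∣ h₁ := minpoly.dvd F θ (by rw [haev, ← hθ'eq]; exact hθ'root)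
    exact eq_of_monic_of_dvd_of_natDegree_le (minpoly.monic hint) hh₁monic hd hh₁deg.le
  have hroots : ∀ j : ℕ, aeval (θ + ((j * n₀ : ℕ) : Om)) hm = 0 := by
    intro j
    induction j with
    | zero =>
      rw [Nat.zero_mul, Nat.cast_zero, add_zero]
      exact minpoly.aeval F θ
    | succ j ih =>
      have e : θ + (((j + 1) * n₀ : ℕ) : Om) = (θ + ((j * n₀ : ℕ) : Om)) + n₀ := by
        rw [add_mul, one_mul, Nat.cast_add, add_assoc]
      rw [e, ← haev, hh₁eq]
      exact ih
  -- `p` distinct roots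
  have hn₀cop : Nat.Coprime n₀ p := by
    rw [Nat.coprime_comm, (Fact.out : p.Prime).coprime_iff_not_dvd]
    intro hd
    exact hn₀ne ((CharP.cast_eq_zero_iff Om p n₀).mpr hd)
  set T : Finset Om := (Finset.range p).image (fun j : ℕ => θ + ((j * n₀ : ℕ) : Om)) with hT
  have hTcard : T.card = p := by
    rw [hT, Finset.card_image_of_injOn, Finset.card_range]
    intro i hi j hj hij
    simp only [Finset.coe_range, Set.mem_Iio] at hi hj
    have h1 : ((i * n₀ : ℕ) : Om) = ((j * n₀ : ℕ) : Om) := add_left_cancel hij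
    rw [CharP.natCast_eq_natCast Om p] at h1
    have h2 : i ≡ j [MOD p] := Nat.ModEq.cancel_right_of_coprime
      (by rw [Nat.coprime_comm] at hn₀cop; exact hn₀cop.symm.symm) h1
    exact Nat.ModEq.eq_of_lt_of_lt h2 hi hj
  have hTsub : T ⊆ (hm.map (algebraMap F Om)).roots.toFinset := by
    intro x hx
    obtain ⟨j, _, rfl⟩ := Finset.mem_image.mp hx
    rw [Multiset.mem_toFinset, mem_roots hmap0, IsRoot.def, eval_map, ← aeval_def]
    exact hroots j
  have hple : p ≤ hm.natDegree := by
    have := Finset.card_le_card hTsub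
    rwa [hTcard, hcard'] at this
  have hgm : g = hm :=
    eq_of_monic_of_dvd_of_natDegree_le (minpoly.monic hint) hmonic hdvd (by rw [hnat]; exact hple)
  rw [hgm]
  exact minpoly.irreducible hint

/-- Artin–Schreier extensions are Galois of degree `p`. -/
theorem isGalois_adjoinRoot (a : F) [Fact (Irreducible (X ^ p - X - C a : F[X]))] :
    IsGalois F (AdjoinRoot (X ^ p - X - C a : F[X])) ∧
      Module.finrank F (AdjoinRoot (X ^ p - X - C a : F[X])) = p := by
  classical
  have hp1 : 1 < p := (Fact.out : p.Prime).one_lt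
  set g : F[X] := X ^ p - X - C a with hg
  have hmonic : g.Monic := monic_AS p a
  have hnat : g.natDegree = p := natDegree_AS p a
  have hsep : g.Separable := separable_AS p a
  let E := AdjoinRoot g
  haveI : CharP E p := charP_of_injective_algebraMap (algebraMap F E).injective p
  set θ : E := AdjoinRoot.root g with hθdef
  have hθ : θ ^ p - θ = algebraMap F E a := by
    have h0 : aeval θ g = 0 := by
      rw [aeval_def]
      exact AdjoinRoot.eval₂_root g
    have h1 : aeval θ (X ^ p - X - C a : F[X]) = 0 := h0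
    rw [aeval_AS] at h1
    exact sub_eq_zero.mp h1
  have hmap0 : g.map (algebraMap F E) ≠ 0 :=
    (Polynomial.map_ne_zero_iff (algebraMap F E).injective).mpr hmonic.ne_zero
  set T : Finset E := (Finset.range p).image (fun j : ℕ => θ + (j : E)) with hT
  have hTcard : T.card = p := by
    rw [hT, Finset.card_image_of_injOn, Finset.card_range]
    intro i hi j hj hij
    exact CharP.natCast_injOn_Iio E p (by simpa using hi) (by simpa using hj) (add_left_cancel hij)
  have hTsub : T ⊆ (g.map (algebraMap F E)).roots.toFinset := by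
    intro x hx
    obtain ⟨j, _, rfl⟩ := Finset.mem_image.mp hx
    rw [Multiset.mem_toFinset, mem_roots hmap0, IsRoot.def, eval_map, ← aeval_def]
    have h1 : aeval (θ + (j : E)) g = aeval (θ + (j : E)) (X ^ p - X - C a : F[X]) := rfl
    rw [h1, aeval_AS, add_pow_char]
    have := map_natCast (frobenius E p) j
    rw [frobenius_def] at this
    rw [this]
    linear_combination hθ
  have hsplit : (g.map (algebraMap F E)).Splits := by
    rw [splits_iff_card_roots, natDegree_map, hnat]
    apply le_antisymm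
    · have := card_roots' (g.map (algebraMap F E))
      rwa [natDegree_map, hnat] at this
    · have := (Finset.card_le_card hTsub).trans (Multiset.toFinset_card_le _)
      rwa [hTcard] at this
  haveI : g.IsSplittingField F E := by
    refine ⟨hsplit, ?_⟩
    rw [eq_top_iff, ← AdjoinRoot.adjoinRoot_eq_top (f := g)]
    apply Algebra.adjoin_mono
    intro x hx
    rw [Set.mem_singleton_iff] at hx
    rw [hx, mem_rootSet]
    refine ⟨hmonic.ne_zero, ?_⟩
    rw [aeval_def]
    exact AdjoinRoot.eval₂_root g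
  refine ⟨IsGalois.of_separable_splitting_field hsep, ?_⟩
  rw [(AdjoinRoot.powerBasis hmonic.ne_zero).finrank, AdjoinRoot.powerBasis_dim, hnat]

/-- If `k` has no Galois extension of degree `p` then `℘ : k → k` is surjective. -/
theorem exists_root_of_no_galois {k : Type v} [Field k] [CharP k p]
    (hkp : ∀ (L : Type v) [Field L] [Algebra k L], IsGalois k L → Module.finrank k L ≠ p)
    (a : k) : ∃ c : k, c ^ p - c = a := by
  by_contra hno
  push_neg at hno
  haveI : Fact (Irreducible (X ^ p - X - C a : k[X])) := ⟨irreducible_of_no_root p a hno⟩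
  obtain ⟨h1, h2⟩ := isGalois_adjoinRoot p a
  exact hkp (AdjoinRoot (X ^ p - X - C a : k[X])) h1 h2

end artinschreier

section hensel

variable (p : ℕ) [Fact p.Prime] {A : Type*} [CommRing A] [IsLocalRing A] [CharP A p]
  [IsAdicComplete (maximalIdeal A) A]

/-- Hensel for the Artin–Schreier polynomial over a complete local ring. -/
theorem exists_pow_sub_eq (a h₀ : A) (h : h₀ ^ p - h₀ - a ∈ maximalIdeal A) :
    ∃ x : A, x ^ p - x = a := by
  haveI : HenselianLocalRing A :=
    Groth.Agent.Lib.Helper18HenselMap.henselianLocalRing_of_henselianRing A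
  have hp1 : 1 < p := (Fact.out : p.Prime).one_lt
  set g : A[X] := X ^ p - X - C a with hg
  have hmonic : g.Monic := by
    rw [hg, sub_sub]
    apply (monic_X_pow p).sub_of_left
    rw [degree_X_pow, degree_X_add_C]
    exact_mod_cast hp1
  have hev : g.eval h₀ ∈ maximalIdeal A := by
    simpa [hg] using h
  have hder : IsUnit (g.derivative.eval h₀) := by
    have hd : derivative g = -1 := by
      rw [hg, derivative_sub, derivative_sub, derivative_X_pow, derivative_X, derivative_C,
        CharP.cast_eq_zero A p, C_0, zero_mul]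
      ring
    rw [hd]
    simp
  obtain ⟨x, hx, _⟩ := HenselianLocalRing.is_henselian g hmonic h₀ hev hder
  refine ⟨x, ?_⟩
  rw [IsRoot.def, hg] at hx
  simp only [eval_sub, eval_pow, eval_X, eval_C] at hx
  exact sub_eq_zero.mp hx

end hensel

section params

open Groth.Agent.Lib

/-- Two regular parameters in a regular local ring of dimension at least two. -/
theorem exists_prime_pair (A : Type u) [CommRing A] [IsRegularLocalRing A]
    (hdim : 2 ≤ ringKrullDim A) :
    ∃ u v : A, u ∈ maximalIdeal A ∧ v ∈ maximalIdeal A ∧ Prime u ∧ Prime v ∧ ¬ u ∣ v ∧ ¬ v ∣ u ∧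
      (Ideal.span ({u, v} : Set A)).IsPrime := by
  obtain ⟨d, hd⟩ := Helper5.exists_nat_ringKrullDim_eq A
  have hd2 : 2 ≤ d := by rw [hd] at hdim; exact_mod_cast hdim
  obtain ⟨z, hz⟩ := Helper5.HilbertRLR.exists_regular_system hd
  have hli := Helper5.linearIndependent_toCotangent_of_span_eq hd z hz
  have hr2 : ∀ i j : Fin d, Set.range (fun l : Fin 2 => ((z (![i, j] l) : maximalIdeal A) : A)) =
      {(z i : A), (z j : A)} := by
    intro i j
    ext x
    simp [Fin.exists_fin_two, eq_comm]
  have hr1 : ∀ i : Fin d, Set.range (fun _ : Fin 1 => ((z i : maximalIdeal A) : A)) =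
      {(z i : A)} := by
    intro i
    simp
  have hli2 : ∀ i j : Fin d, i ≠ j → LinearIndependent (ResidueField A)
      (fun l : Fin 2 => (maximalIdeal A).toCotangent (z (![i, j] l))) := by
    intro i j hij
    refine hli.comp ![i, j] ?_
    intro a b hab
    fin_cases a <;> fin_cases b <;> simp_all
  have hli1 : ∀ i : Fin d, LinearIndependent (ResidueField A)
      (fun _ : Fin 1 => (maximalIdeal A).toCotangent (z i)) := by
    intro i
    exact hli.comp (fun _ => i) (Function.injective_of_subsingleton _)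
  have hP2 : ∀ i j : Fin d, i ≠ j → (Ideal.span ({(z i : A), (z j : A)} : Set A)).IsPrime := by
    intro i j hij
    have := Helper5.isPrime_span_range_of_linearIndependent
      (fun l : Fin 2 => z (![i, j] l)) (hli2 i j hij)
    rwa [hr2] at this
  have hP1 : ∀ i : Fin d, (Ideal.span ({(z i : A)} : Set A)).IsPrime := by
    intro i
    have := Helper5.isPrime_span_range_of_linearIndependent (fun _ : Fin 1 => z i) (hli1 i)
    rwa [hr1] at this
  have hne0 : ∀ i : Fin d, (z i : A) ≠ 0 := by
    intro i h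
    apply hli.ne_zero i
    rw [Ideal.toCotangent_eq_zero, h]
    exact zero_mem _
  have hprime : ∀ i : Fin d, Prime (z i : A) := fun i =>
    (Ideal.span_singleton_prime (hne0 i)).mp (hP1 i)
  have hndvd : ∀ i j : Fin d, i ≠ j → ¬ (z i : A) ∣ (z j : A) := by
    rintro i j hij ⟨w, hw⟩
    have hJ : Ideal.span ({(z i : A), (z j : A)} : Set A) = Ideal.span {(z i : A)} := by
      apply le_antisymm
      · rw [Ideal.span_le]
        intro x hx
        rcases hx with rfl | hx
        · exact Ideal.subset_span rfl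
        · rw [Set.mem_singleton_iff] at hx
          rw [hx, hw]
          exact Ideal.mul_mem_right _ _ (Ideal.subset_span rfl)
      · exact Ideal.span_mono (by simp)
    haveI : IsLocalRing (A ⧸ Ideal.span {(z i : A)}) :=
      Helper5.isLocalRing_quotient (hP1 i).ne_top
    obtain ⟨_, h1⟩ := Helper5.isRegularLocalRing_quotient_of_linearIndependent'
      (fun _ : Fin 1 => z i) (hli1 i) (Ideal.span {(z i : A)}) (by rw [hr1])
    obtain ⟨_, h2⟩ := Helper5.isRegularLocalRing_quotient_of_linearIndependent'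
      (fun l : Fin 2 => z (![i, j] l)) (hli2 i j hij) (Ideal.span {(z i : A)}) (by rw [hr2, hJ])
    obtain ⟨d', hd'⟩ := Helper5.exists_nat_ringKrullDim_eq (A ⧸ Ideal.span {(z i : A)})
    rw [hd', hd] at h1 h2
    have e1 : d' + 1 = d := by exact_mod_cast h1
    have e2 : d' + 2 = d := by exact_mod_cast h2
    omega
  let i₀ : Fin d := ⟨0, by omega⟩
  let i₁ : Fin d := ⟨1, by omega⟩
  have hne : i₀ ≠ i₁ := by simp [i₀, i₁, Fin.ext_iff]
  exact ⟨z i₀, z i₁, (z i₀).2, (z i₁).2, hprime i₀, hprime i₁, hndvd i₀ i₁ hne,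
    hndvd i₁ i₀ hne.symm, hP2 i₀ i₁ hne⟩

end params

end Groth.Agent.Lib.R2H7.WildPur1
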