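import Mathlib
import Groth.Agent.Lib.R2H7WildPur1
import Groth.Agent.Lib.Helper28Catenary

/-!
# Purity for Artin–Schreier classes over a complete regular local ring (helper7, round 2)

`core`: let `A` be a complete regular local ring of dimension `≥ 2` and characteristic `p` with
coefficient field `k` having no Galois extension of degree `p`, `L = Frac A`, and `f' ∈ L`.
Suppose that for all `x` in a set `S` generating an `𝔪`-primary ideal there is `μ ∈ L` with
`μ^p - x^(p-1) μ + x^p f' ∈ A` (i.e. the Artin–Schreier cover defined by `f'` is unramified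
over `D(x)` in a strong sense).  Then `f' = l^p - l` for some `l ∈ L`.
-/

set_option autoImplicit false

universe u v w

namespace Groth.Agent.Lib.R2H7.WildPur2

open Polynomial IsLocalRing

section inner

variable {A : Type u} [CommRing A]
  {L : Type*} [Field L] [Algebra A L]
  {Om : Type*} [Field Om] [Algebra L Om] [Algebra A Om] [IsScalarTower A L Om]

/-- The ideal of `x ∈ A` such that `x θ + μ` is integral over `A` for some `μ ∈ L`. -/
def Jideal (θ : Om) : Ideal A where
  carrier := {x | ∃ μ : L, IsIntegral A (algebraMap A Om x * θ + algebraMap L Om μ)}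
  add_mem' := by
    rintro x y ⟨μ, hμ⟩ ⟨ν, hν⟩
    refine ⟨μ + ν, ?_⟩
    have := hμ.add hν
    have e : algebraMap A Om (x + y) * θ + algebraMap L Om (μ + ν) =
        algebraMap A Om x * θ + algebraMap L Om μ + (algebraMap A Om y * θ + algebraMap L Om ν) := by
      rw [map_add, map_add]
      ring
    rw [e]
    exact this
  zero_mem' := ⟨0, by simp [isIntegral_zero]⟩
  smul_mem' := by
    rintro a x ⟨μ, hμ⟩
    refine ⟨algebraMap A L a * μ, ?_⟩
    have := (isIntegral_algebraMap (R := A) (A := Om) (x := a)).mul hμ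
    have e : algebraMap A Om (a • x) * θ + algebraMap L Om (algebraMap A L a * μ) =
        algebraMap A Om a * (algebraMap A Om x * θ + algebraMap L Om μ) := by
      rw [smul_eq_mul, map_mul, map_mul, ← IsScalarTower.algebraMap_apply A L Om]
      ring
    rw [e]
    exact this

theorem mem_Jideal {θ : Om} {x : A} :
    x ∈ Jideal (L := L) θ ↔
      ∃ μ : L, IsIntegral A (algebraMap A Om x * θ + algebraMap L Om μ) := Iff.rfl

variable (p : ℕ) [Fact p.Prime] [IsDomain A] [IsIntegrallyClosed A] [CharP A p]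
  [IsFractionRing A L]

theorem inner {u v : A} (hu : Prime u) (hv : Prime v) (huv : ¬ u ∣ v) (hvu : ¬ v ∣ u)
    (hP : (Ideal.span ({u, v} : Set A)).IsPrime) (q : ℕ) (hq : q + 1 = p) (N : ℕ)
    (f' : L) (θ : Om) (hθ : θ ^ p - θ = algebraMap L Om f')
    (hx : u ^ (N + 1) ∈ Jideal (L := L) θ) (hy : v ^ (N + 1) ∈ Jideal (L := L) θ) :
    ∃ (lam : L) (a : A), f' + (lam ^ p - lam) = algebraMap A L a := by
  have hinjL : Function.Injective (algebraMap A L) := IsFractionRing.injective A L
  have hinjO : Function.Injective (algebraMap L Om) := (algebraMap L Om).injective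
  haveI : CharP L p := charP_of_injective_algebraMap hinjL p
  haveI : CharP Om p := charP_of_injective_algebraMap hinjO p
  obtain ⟨μx, hμx⟩ := hx
  obtain ⟨μy, hμy⟩ := hy
  obtain ⟨x, hxdef⟩ : ∃ x : A, x = u ^ (N + 1) := ⟨_, rfl⟩
  obtain ⟨y, hydef⟩ : ∃ y : A, y = v ^ (N + 1) := ⟨_, rfl⟩
  rw [← hxdef] at hμx
  rw [← hydef] at hμy
  obtain ⟨xL, hxL⟩ : ∃ xL : L, xL = algebraMap A L x := ⟨_, rfl⟩
  obtain ⟨yL, hyL⟩ : ∃ yL : L, yL = algebraMap A L y := ⟨_, rfl⟩
  have hAO : ∀ a : A, algebraMap A Om a = algebraMap L Om (algebraMap A L a) :=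
    fun a => IsScalarTower.algebraMap_apply A L Om a
  have hdesc : ∀ z : L, IsIntegral A (algebraMap L Om z) → ∃ a : A, algebraMap A L a = z := by
    intro z hz
    rw [isIntegral_algebraMap_iff hinjO] at hz
    exact IsIntegrallyClosed.isIntegral_iff.mp hz
  have hintA : ∀ a : A, IsIntegral A (algebraMap A Om a) := fun a => isIntegral_algebraMap
  -- the element `r`
  obtain ⟨r, hr⟩ := hdesc (yL * μx - xL * μy) (by
    have h1 : IsIntegral A (algebraMap A Om y * (algebraMap A Om x * θ + algebraMap L Om μx) -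
        algebraMap A Om x * (algebraMap A Om y * θ + algebraMap L Om μy)) :=
      ((hintA y).mul hμx).sub ((hintA x).mul hμy)
    convert h1 using 1
    rw [map_sub, map_mul, map_mul, hAO x, hAO y, hxL, hyL]
    ring)
  have hYp : ∀ (xx : A) (μ : L),
      (algebraMap A Om xx * θ + algebraMap L Om μ) ^ p -
        (algebraMap A Om xx) ^ q * (algebraMap A Om xx * θ + algebraMap L Om μ) =
      algebraMap L Om ((algebraMap A L xx) ^ p * f' + μ ^ p - (algebraMap A L xx) ^ q * μ) := by
    intro xx μ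
    rw [add_pow_char, mul_pow, map_sub, map_add, map_mul, map_mul, map_pow, map_pow, map_pow,
      ← hθ, ← hAO]
    have : (algebraMap A Om xx) ^ p = (algebraMap A Om xx) ^ q * algebraMap A Om xx := by
      rw [← hq, pow_succ]
    rw [this]
    ring
  obtain ⟨ax, hax⟩ := hdesc (xL ^ p * f' + μx ^ p - xL ^ q * μx) (by
    rw [hxL, ← hYp]
    exact (hμx.pow p).sub (((hintA x).pow q).mul hμx))
  obtain ⟨ay, hay⟩ := hdesc (yL ^ p * f' + μy ^ p - yL ^ q * μy) (by
    rw [hyL, ← hYp]
    exact (hμy.pow p).sub (((hintA y).pow q).mul hμy))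
  have hxp : xL ^ p = xL ^ q * xL := by rw [← hq, pow_succ]
  have hyp : yL ^ p = yL ^ q * yL := by rw [← hq, pow_succ]
  have hid : algebraMap A L (r ^ p - r * (x * y) ^ q) =
      algebraMap A L (ax * y ^ p - ay * x ^ p) := by
    simp only [map_sub, map_mul, map_pow]
    rw [hr, hax, hay, ← hxL, ← hyL]
    have e1 : (yL * μx - xL * μy) ^ p = yL ^ p * μx ^ p - xL ^ p * μy ^ p := by
      rw [sub_pow_char, mul_pow, mul_pow]
    rw [e1, hxp, hyp]
    ring
  have hidA : r ^ p - r * (x * y) ^ q = ax * y ^ p - ay * x ^ p := hinjL hid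
  have hmem : r ^ p - r * (u * v) ^ ((N + 1) * q) ∈
      Ideal.span ({u ^ (p * (N + 1)), v ^ (p * (N + 1))} : Set A) := by
    refine Ideal.mem_span_pair.mpr ⟨-ay, ax, ?_⟩
    have e1 : (u * v) ^ ((N + 1) * q) = (x * y) ^ q := by
      rw [hxdef, hydef, ← mul_pow, ← pow_mul]
    have e2 : u ^ (p * (N + 1)) = x ^ p := by rw [hxdef, ← pow_mul, mul_comm]
    have e3 : v ^ (p * (N + 1)) = y ^ p := by rw [hydef, ← pow_mul, mul_comm]
    rw [e1, e2, e3, hidA]
    ring
  have hrmem := WildPur1.frob_fixed p hu hv huv hvu hP q hq N r hmem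
  rw [← hxdef, ← hydef] at hrmem
  obtain ⟨β, α, hαβ⟩ := Ideal.mem_span_pair.mp hrmem
  have hrel : algebraMap A L β * xL + algebraMap A L α * yL = yL * μx - xL * μy := by
    rw [← hr, ← hαβ, map_add, map_mul, map_mul, hxL, hyL]
  have hx0 : xL ≠ 0 := by
    rw [hxL, hxdef]
    exact (map_ne_zero_iff _ hinjL).mpr (pow_ne_zero _ hu.ne_zero)
  have hy0 : yL ≠ 0 := by
    rw [hyL, hydef]
    exact (map_ne_zero_iff _ hinjL).mpr (pow_ne_zero _ hv.ne_zero)
  obtain ⟨lam, hlamdef⟩ : ∃ lam : L, lam = (μx - algebraMap A L α) / xL := ⟨_, rfl⟩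
  have hlamx : xL * lam = μx - algebraMap A L α := by
    rw [hlamdef]
    field_simp
  have hlamy : yL * lam = μy + algebraMap A L β := by
    apply mul_left_cancel₀ hx0
    have h1 : yL * (xL * lam) = xL * (μy + algebraMap A L β) := by
      rw [hlamx]
      linear_combination (-1 : L) * hrel
    linear_combination h1
  have hA1 : xL ^ p * (f' + (lam ^ p - lam)) = algebraMap A L (ax - α ^ p + x ^ q * α) := by
    have e : xL ^ p * (f' + (lam ^ p - lam)) =
        xL ^ p * f' + (xL * lam) ^ p - xL ^ q * (xL * lam) := by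
      rw [mul_pow, ← mul_assoc (xL ^ q), ← hxp]
      ring
    rw [e, hlamx, sub_pow_char, map_add, map_sub, map_mul, map_pow, map_pow, hax, ← hxL]
    ring
  have hA2 : yL ^ p * (f' + (lam ^ p - lam)) = algebraMap A L (ay + β ^ p - y ^ q * β) := by
    have e : yL ^ p * (f' + (lam ^ p - lam)) =
        yL ^ p * f' + (yL * lam) ^ p - yL ^ q * (yL * lam) := by
      rw [mul_pow, ← mul_assoc (yL ^ q), ← hyp]
      ring
    rw [e, hlamy, add_pow_char, map_sub, map_add, map_mul, map_pow, map_pow, hay, ← hyL]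
    ring
  have hcross : y ^ p * (ax - α ^ p + x ^ q * α) = x ^ p * (ay + β ^ p - y ^ q * β) := by
    apply hinjL
    rw [map_mul, map_mul, ← hA1, ← hA2, map_pow, map_pow, ← hxL, ← hyL]
    ring
  have hndvd : ¬ u ∣ y ^ p := by
    intro h
    rw [hydef] at h
    exact huv (hu.dvd_of_dvd_pow (hu.dvd_of_dvd_pow h))
  have hdiv : u ^ ((N + 1) * p) ∣ ax - α ^ p + x ^ q * α := by
    apply hu.pow_dvd_of_dvd_mul_left _ hndvd
    rw [hcross, hxdef, ← pow_mul]
    exact dvd_mul_right _ _
  obtain ⟨a, ha⟩ := hdiv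
  refine ⟨lam, a, ?_⟩
  have hxLp : xL ^ p ≠ 0 := pow_ne_zero _ hx0
  apply mul_left_cancel₀ hxLp
  have e : u ^ ((N + 1) * p) = x ^ p := by rw [hxdef, pow_mul]
  rw [hA1, ha, e, map_mul, map_pow, ← hxL]

end inner

section core

variable (p : ℕ) [Fact p.Prime] (A : Type u) [CommRing A] [IsRegularLocalRing A] [CharP A p]
  [IsAdicComplete (maximalIdeal A) A]

/-- Purity for Artin–Schreier classes. -/
theorem core (hdim : 2 ≤ ringKrullDim A) (k : Type v) [Field k] [Algebra k A]
    (hk : Function.Surjective (residue A ∘ algebraMap k A))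
    (hkp : ∀ (L : Type v) [Field L] [Algebra k L], IsGalois k L → Module.finrank k L ≠ p)
    (L : Type w) [Field L] [Algebra A L] [IsFractionRing A L] (q : ℕ) (hq : q + 1 = p)
    (f' : L) (S : Set A)
    (hS : ∀ x ∈ S, ∃ (μ : L) (a : A),
      μ ^ p - (algebraMap A L x) ^ q * μ + (algebraMap A L x) ^ p * f' = algebraMap A L a)
    (hN : ∃ N : ℕ, maximalIdeal A ^ N ≤ Ideal.span S) : ∃ l : L, l ^ p - l = f' := by
  haveI : IsDomain A := Groth.Agent.Lib.Helper5.isDomain_of_isRegularLocalRing A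
  haveI : IsIntegrallyClosed A := Groth.Agent.Lib.Helper28.isIntegrallyClosed_of_isRegularLocalRing A
  have hinjL : Function.Injective (algebraMap A L) := IsFractionRing.injective A L
  haveI : CharP L p := charP_of_injective_algebraMap hinjL p
  haveI : CharP k p := RingHom.charP (algebraMap k A) (algebraMap k A).injective p
  have hp1 : 1 < p := (Fact.out : p.Prime).one_lt
  let Om := AlgebraicClosure L
  have hinjO : Function.Injective (algebraMap L Om) := (algebraMap L Om).injective
  haveI : CharP Om p := charP_of_injective_algebraMap hinjO p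
  obtain ⟨θ, hθ0⟩ := IsAlgClosed.exists_aeval_eq_zero Om (X ^ p - X - C f' : L[X]) (by
    rw [degree_eq_natDegree (WildPur1.monic_AS p f').ne_zero, WildPur1.natDegree_AS p f']
    exact_mod_cast (by omega : p ≠ 0))
  have hθ : θ ^ p - θ = algebraMap L Om f' := by
    rw [WildPur1.aeval_AS] at hθ0
    exact sub_eq_zero.mp hθ0
  have hAO : ∀ a : A, algebraMap A Om a = algebraMap L Om (algebraMap A L a) :=
    fun a => IsScalarTower.algebraMap_apply A L Om a
  -- `S ⊆ J`
  have hSJ : Ideal.span S ≤ Jideal (A := A) (L := L) θ := by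
    rw [Ideal.span_le]
    intro x hx
    obtain ⟨μ, a, hμa⟩ := hS x hx
    refine ⟨μ, ?_⟩
    set Y : Om := algebraMap A Om x * θ + algebraMap L Om μ with hY
    have hYeq : Y ^ p - (algebraMap A Om x) ^ q * Y = algebraMap A Om a := by
      rw [hY, add_pow_char, mul_pow, hAO a, ← hμa, map_add, map_sub, map_mul, map_mul, map_pow,
        map_pow, map_pow, ← hθ, ← hAO]
      have : (algebraMap A Om x) ^ p = (algebraMap A Om x) ^ q * algebraMap A Om x := by
        rw [← hq, pow_succ]
      rw [this]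
      ring
    refine ⟨X ^ p - (C (x ^ q) * X + C a), ?_, ?_⟩
    · apply (monic_X_pow p).sub_of_left
      rw [degree_X_pow]
      refine (degree_linear_le).trans_lt ?_
      exact_mod_cast hp1
    · rw [eval₂_sub, eval₂_add, eval₂_mul, eval₂_pow, eval₂_X, eval₂_C, eval₂_C, map_pow]
      linear_combination hYeq
  obtain ⟨N, hN⟩ := hN
  obtain ⟨u, v, hum, hvm, hu, hv, huv, hvu, hP⟩ := WildPur1.exists_prime_pair A hdim
  have hpowmem : ∀ w ∈ maximalIdeal A, w ^ (N + 1) ∈ Jideal (A := A) (L := L) θ := by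
    intro w hw
    apply hSJ
    apply hN
    exact Ideal.pow_le_pow_right (Nat.le_succ N) (Ideal.pow_mem_pow hw (N + 1))
  obtain ⟨lam, a, hlam⟩ := inner (L := L) (Om := Om) p hu hv huv hvu hP q hq N f' θ hθ
    (hpowmem u hum) (hpowmem v hvm)
  -- Hensel
  obtain ⟨a₀, ha₀⟩ := hk (residue A a)
  obtain ⟨c₀, hc₀⟩ := WildPur1.exists_root_of_no_galois p hkp a₀
  obtain ⟨h, hh⟩ := WildPur1.exists_pow_sub_eq p a (algebraMap k A c₀) (by
    have e : (algebraMap k A c₀) ^ p - algebraMap k A c₀ - a = algebraMap k A a₀ - a := by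
      rw [← hc₀, map_sub, map_pow]
    rw [e, ← Ideal.Quotient.eq]
    exact ha₀)
  refine ⟨algebraMap A L h - lam, ?_⟩
  rw [sub_pow_char]
  have e : (algebraMap A L h) ^ p - algebraMap A L h = algebraMap A L a := by
    rw [← hh, map_sub, map_pow]
  linear_combination e - hlam

end core

end Groth.Agent.Lib.R2H7.WildPur2
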