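import Mathlib
import Groth.Agent.Lib.R2H7WildPur2
import Groth.Agent.Lib.R2H7WildInv
import Groth.Agent.Lib.R2H7WildReg
import Groth.Agent.Lib.R2H7WildInsep
import Groth.Agent.Lib.Helper28Catenary

/-!
# Automorphisms of wild `ℤ/p`-invariants extend (helper7, round 2)

`exists_ringEquiv_extends`: with `A` complete regular local of dimension `≥ 2` and characteristic
`p`, coefficient field `k` without Galois extensions of degree `p`, `G` of order `p` acting
`k`-linearly and freely off the closed point, every ring automorphism of `A^G` extends to `A`.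
-/

set_option autoImplicit false

universe u v w

namespace Groth.Agent.Lib.R2H7.WildExt

open IsLocalRing

section semilinear

theorem lift_semilinear {K L Om : Type*} [Field K] [Field L] [Algebra K L]
    [Algebra.IsAlgebraic K L] [Field Om] [IsAlgClosed Om] (j : K →+* Om) :
    ∃ ψ : L →+* Om, ∀ κ, ψ (algebraMap K L κ) = j κ := by
  letI : Algebra K Om := j.toAlgebra
  let ψ : L →ₐ[K] Om := IsAlgClosed.lift
  exact ⟨ψ.toRingHom, fun κ => ψ.commutes κ⟩

end semilinear

section E1

variable (p : ℕ) [Fact p.Prime] {G : Type*} [Group G] [Finite G] {K L : Type*} [Field K] [Field L]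
  [Algebra K L] [MulSemiringAction G L] [IsGaloisGroup G K L] [CharP L p]

theorem fixed_of_smul_eq (hcard : Nat.card G = p) (σ : G) (hσ : σ ≠ 1) (z : L)
    (hz : σ • z = z) : ∃ κ : K, algebraMap K L κ = z := by
  apply Algebra.IsInvariant.isInvariant (A := K) (B := L) (G := G)
  intro g
  have hg : g ∈ Subgroup.zpowers σ := mem_zpowers_of_prime_card hcard hσ
  have hle : Subgroup.zpowers σ ≤ MulAction.stabilizer G z := by
    rw [Subgroup.zpowers_le]
    exact hz
  exact hle hg

theorem notMem_range_of_smul_eq_add_one (σ : G) (t : L) (ht : σ • t = t + 1) :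
    t ∉ Set.range (algebraMap K L) := by
  rintro ⟨κ, rfl⟩
  rw [smul_algebraMap] at ht
  exact one_ne_zero (by linear_combination (-1 : L) * ht)

theorem adjoin_eq_top (hcard : Nat.card G = p) (σ : G) (t : L) (ht : σ • t = t + 1) :
    IntermediateField.adjoin K {t} = ⊤ := by
  have hfin : Module.finrank K L = p := by
    rw [← hcard]
    exact (IsGaloisGroup.card_eq_finrank G K L).symm
  haveI := IntermediateField.isSimpleOrder_of_finrank_prime K L (by rw [hfin]; exact Fact.out)
  rcases eq_bot_or_eq_top (IntermediateField.adjoin K {t}) with h | h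
  · exfalso
    rw [IntermediateField.adjoin_simple_eq_bot_iff, IntermediateField.mem_bot] at h
    exact notMem_range_of_smul_eq_add_one σ t ht h
  · exact h

theorem exists_AS_param (hcard : Nat.card G = p) (σ : G) (hσ : σ ≠ 1) (t : L)
    (ht : σ • t = t + 1) : ∃ f : K, algebraMap K L f = t ^ p - t := by
  apply fixed_of_smul_eq p hcard σ hσ
  rw [smul_sub, smul_pow', ht, add_pow_char, one_pow]
  ring

theorem exists_ringEquiv_semilinear (hcard : Nat.card G = p) (σ : G) (t : L)
    (ht : σ • t = t + 1) (f : K) (hf : algebraMap K L f = t ^ p - t)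
    (φK : K ≃+* K) (l : L) (hl : l ^ p - l = algebraMap K L (φK f)) :
    ∃ ψ : L ≃+* L, ∀ κ, ψ (algebraMap K L κ) = algebraMap K L (φK κ) := by
  have hfinr : Module.finrank K L = p := by
    rw [← hcard]
    exact (IsGaloisGroup.card_eq_finrank G K L).symm
  haveI : FiniteDimensional K L := IsGaloisGroup.finiteDimensional G K L
  haveI : Algebra.IsAlgebraic K L := Algebra.IsAlgebraic.of_finite K L
  let Om := AlgebraicClosure L
  let ι : L →+* Om := algebraMap L Om
  haveI : CharP Om p := charP_of_injective_algebraMap ι.injective p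
  obtain ⟨ψt, hψt⟩ := lift_semilinear (L := L)
    (ι.comp ((algebraMap K L).comp φK.toRingHom))
  have hψt' : ∀ κ, ψt (algebraMap K L κ) = ι (algebraMap K L (φK κ)) := hψt
  have hθ : (ψt t) ^ p - ψt t = ι (l ^ p - l) := by
    rw [← map_pow, ← map_sub, ← hf, hψt', hl]
  obtain ⟨n, hn⟩ := WildPur1.exists_natCast_of_pow_eq p (ψt t - ι l) (by
    rw [sub_pow_char]
    rw [map_sub, map_pow] at hθ
    linear_combination hθ)
  have ht_mem : ψt t ∈ ι.fieldRange := by
    refine ⟨l + n, ?_⟩
    rw [map_add, map_natCast]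
    linear_combination -hn
  let F : IntermediateField K L := (ι.fieldRange.comap ψt).toIntermediateField (fun κ => by
    rw [Subfield.mem_comap, hψt']
    exact ⟨_, rfl⟩)
  have hFtop : F = ⊤ := by
    apply top_unique
    rw [← adjoin_eq_top p hcard σ t ht, IntermediateField.adjoin_simple_le_iff]
    exact ht_mem
  have hall : ∀ z : L, ∃ z' : L, ι z' = ψt z := by
    intro z
    have : z ∈ F := by rw [hFtop]; trivial
    exact this
  choose g hg using hall
  let ψL : L →+* L :=
    { toFun := g
      map_one' := ι.injective (by rw [hg, map_one, map_one])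
      map_mul' := fun a b => ι.injective (by rw [hg, map_mul, map_mul, hg, hg])
      map_zero' := ι.injective (by rw [hg, map_zero, map_zero])
      map_add' := fun a b => ι.injective (by rw [hg, map_add, map_add, hg, hg]) }
  have hψL : ∀ κ, ψL (algebraMap K L κ) = algebraMap K L (φK κ) := fun κ =>
    ι.injective (by
      change ι (g _) = _
      rw [hg, hψt'])
  let F' : IntermediateField K L := ψL.fieldRange.toIntermediateField (fun κ =>
    ⟨algebraMap K L (φK.symm κ), by rw [hψL, RingEquiv.apply_symm_apply]⟩)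
  have hF'top : F' = ⊤ := by
    haveI := IntermediateField.isSimpleOrder_of_finrank_prime K L (by rw [hfinr]; exact Fact.out)
    rcases eq_bot_or_eq_top F' with h | h
    · exfalso
      have h1 : ψL t ∈ F' := ⟨t, rfl⟩
      rw [h, IntermediateField.mem_bot] at h1
      obtain ⟨κ, hκ⟩ := h1
      have : t = algebraMap K L (φK.symm κ) :=
        ψL.injective (by rw [hψL, RingEquiv.apply_symm_apply, hκ])
      exact notMem_range_of_smul_eq_add_one (K := K) σ t ht ⟨_, this.symm⟩
    · exact h
  have hsurj : Function.Surjective ψL := fun z => by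
    have : z ∈ F' := by rw [hF'top]; trivial
    exact this
  exact ⟨RingEquiv.ofBijective ψL ⟨ψL.injective, hsurj⟩, hψL⟩

end E1

section E3

theorem exists_ringEquiv_restrict {B A K L : Type*} [CommRing B] [CommRing A] [IsDomain A]
    [IsIntegrallyClosed A] [Algebra B A] [Algebra.IsIntegral B A] [Field K] [Field L]
    [Algebra B K] [Algebra A L] [IsFractionRing A L] [Algebra K L] [Algebra B L]
    [IsScalarTower B K L] [IsScalarTower B A L]
    (φ : B ≃+* B) (φK : K ≃+* K) (hφK : ∀ b, φK (algebraMap B K b) = algebraMap B K (φ b))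
    (ψ : L ≃+* L) (hψ : ∀ κ, ψ (algebraMap K L κ) = algebraMap K L (φK κ)) :
    ∃ ψA : A ≃+* A, (∀ a, algebraMap A L (ψA a) = ψ (algebraMap A L a)) ∧
      ∀ b, ψA (algebraMap B A b) = algebraMap B A (φ b) := by
  have hinj : Function.Injective (algebraMap A L) := IsFractionRing.injective A L
  have hBL : ∀ b, ψ (algebraMap B L b) = algebraMap B L (φ b) := by
    intro b
    rw [IsScalarTower.algebraMap_apply B K L, hψ, hφK, ← IsScalarTower.algebraMap_apply]
  have hBL' : ∀ b, ψ.symm (algebraMap B L b) = algebraMap B L (φ.symm b) := by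
    intro b
    rw [RingEquiv.symm_apply_eq, hBL, RingEquiv.apply_symm_apply]
  have key : ∀ (φ' : B ≃+* B) (ψ' : L ≃+* L),
      (∀ b, ψ' (algebraMap B L b) = algebraMap B L (φ' b)) →
      ∀ a : A, ∃ a', algebraMap A L a' = ψ' (algebraMap A L a) := by
    intro φ' ψ' h a
    have h1 : IsIntegral B (algebraMap A L a) := (Algebra.IsIntegral.isIntegral a).algebraMap
    have h2 : IsIntegral B (ψ'.toRingHom (algebraMap A L a)) :=
      IsIntegral.map_of_comp_eq φ'.toRingHom ψ'.toRingHom (by
        ext b
        exact (h b).symm) h1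
    have h3 : IsIntegral A (ψ' (algebraMap A L a)) := h2.tower_top
    exact IsIntegrallyClosed.isIntegral_iff.mp h3
  choose g hg using key φ ψ hBL
  let ψA : A →+* A :=
    { toFun := g
      map_one' := hinj (by rw [hg, map_one, map_one])
      map_mul' := fun a b => hinj (by rw [hg, map_mul, map_mul, map_mul, hg, hg])
      map_zero' := hinj (by rw [hg, map_zero, map_zero])
      map_add' := fun a b => hinj (by rw [hg, map_add, map_add, map_add, hg, hg]) }
  have hψA : ∀ a, algebraMap A L (ψA a) = ψ (algebraMap A L a) := hg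
  have hψAinj : Function.Injective ψA := by
    intro a a' h
    apply hinj
    apply ψ.injective
    rw [← hψA, ← hψA, h]
  have hψAsurj : Function.Surjective ψA := by
    intro a
    obtain ⟨a₀, ha₀⟩ := key φ.symm ψ.symm hBL' a
    refine ⟨a₀, hinj ?_⟩
    rw [hψA, ha₀, RingEquiv.apply_symm_apply]
  refine ⟨RingEquiv.ofBijective ψA ⟨hψAinj, hψAsurj⟩, hψA, ?_⟩
  intro b
  apply hinj
  change algebraMap A L (ψA _) = _
  rw [hψA, ← IsScalarTower.algebraMap_apply B A L, hBL, IsScalarTower.algebraMap_apply B A L]

end E3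

section main

variable (p : ℕ) [Fact p.Prime] {A : Type u} [CommRing A] [IsRegularLocalRing A] [CharP A p]
  [IsAdicComplete (maximalIdeal A) A]
  {k : Type v} [Field k] [Algebra k A]
  {G : Type w} [Group G] [Finite G] [MulSemiringAction G A]

theorem main_aux (K L : Type*) [Field K] [Field L] [Algebra (FixedPoints.subring A G) K]
    [IsFractionRing (FixedPoints.subring A G) K] [Algebra A L] [IsFractionRing A L] [Algebra K L]
    [MulSemiringAction G L] [SMulDistribClass G A L]
    (htower : ∀ b : FixedPoints.subring A G,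
      algebraMap K L (algebraMap (FixedPoints.subring A G) K b) = algebraMap A L (b : A))
    (hdim : 2 ≤ ringKrullDim A)
    (hk : Function.Surjective (residue A ∘ algebraMap k A))
    (hkp : ∀ (L : Type v) [Field L] [Algebra k L], IsGalois k L → Module.finrank k L ≠ p)
    (hcard : Nat.card G = p)
    (hGk : ∀ (σ : G) (c : k), σ • algebraMap k A c = algebraMap k A c)
    (hram : ∀ P : Ideal A, P.IsPrime → P ≠ maximalIdeal A → P.inertia G = ⊥)
    (φ : FixedPoints.subring A G ≃+* FixedPoints.subring A G) :
    ∃ ψ : A ≃+* A, ∀ b : FixedPoints.subring A G, ψ (b : A) = (φ b : A) := by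
  classical
  letI : Fintype G := Fintype.ofFinite G
  haveI : IsDomain A := Groth.Agent.Lib.Helper5.isDomain_of_isRegularLocalRing A
  haveI : IsIntegrallyClosed A :=
    Groth.Agent.Lib.Helper28.isIntegrallyClosed_of_isRegularLocalRing A
  obtain ⟨hNoeth, hFin⟩ := WildInv.noeth_finite p hk hcard hGk
  haveI := hNoeth
  haveI := hFin
  haveI : IsLocalRing (FixedPoints.subring A G) := WildInv.isLocalRing_fixedPoints
  have hbot := WildInv.bot_ne_maximalIdeal hdim
  haveI : FaithfulSMul G A := WildInv.faithful hbot hram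
  haveI : IsGaloisGroup G (FixedPoints.subring A G) A :=
    ⟨inferInstance, inferInstance, ⟨fun a ha => ⟨⟨a, ha⟩, rfl⟩⟩⟩
  haveI : Algebra.IsIntegral (FixedPoints.subring A G) A := Algebra.IsIntegral.of_finite _ A
  obtain ⟨q, hq⟩ : ∃ q, q + 1 = p := ⟨p - 1, Nat.sub_add_cancel (Fact.out : p.Prime).one_lt.le⟩
  haveI : IsScalarTower (FixedPoints.subring A G) A L := IsScalarTower.of_algebraMap_eq (fun _ => rfl)
  haveI : IsScalarTower (FixedPoints.subring A G) K L :=
    IsScalarTower.of_algebraMap_eq (fun b => (htower b).symm)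
  haveI : IsGaloisGroup G K L := IsGaloisGroup.to_isFractionRing G (FixedPoints.subring A G) A K L
  have hinjL : Function.Injective (algebraMap A L) := IsFractionRing.injective A L
  have hinjKL : Function.Injective (algebraMap K L) := (algebraMap K L).injective
  haveI : CharP L p := charP_of_injective_algebraMap hinjL p
  let φK : K ≃+* K := IsFractionRing.ringEquivOfRingEquiv φ
  have hφK : ∀ b, φK (algebraMap (FixedPoints.subring A G) K b) =
      algebraMap (FixedPoints.subring A G) K (φ b) :=
    fun b => IsFractionRing.ringEquivOfRingEquiv_algebraMap φ b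
  have hBAL : ∀ b : FixedPoints.subring A G, algebraMap A L (b : A) =
      algebraMap K L (algebraMap (FixedPoints.subring A G) K b) := by
    intro b
    rw [← IsScalarTower.algebraMap_apply (FixedPoints.subring A G) K L]
    rfl
  have hsmulA : ∀ (g : G) (a : A), g • algebraMap A L a = algebraMap A L (g • a) :=
    fun g a => (algebraMap.smul' g a L).symm
  have hKA : ∀ (β : K) (a : A), algebraMap K L β = algebraMap A L a →
      ∃ b : FixedPoints.subring A G, (b : A) = a ∧
        algebraMap (FixedPoints.subring A G) K b = β := by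
    intro β a h
    have hfix : ∀ g : G, g • a = a := by
      intro g
      apply hinjL
      rw [← hsmulA, ← h, smul_algebraMap]
    refine ⟨⟨a, hfix⟩, rfl, hinjKL ?_⟩
    rw [← hBAL, h]
  obtain ⟨σ, hσ⟩ : ∃ g : G, g ≠ 1 := by
    have : Nontrivial G := by
      rw [← Finite.one_lt_card_iff_nontrivial, hcard]
      exact (Fact.out : p.Prime).one_lt
    exact exists_ne 1
  -- the trace ideal
  obtain ⟨T, hT⟩ : ∃ T : Ideal (FixedPoints.subring A G),
      T = LinearMap.range (WildReg.tr (A := A) (G := G)) := ⟨_, rfl⟩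
  have hmB : maximalIdeal (FixedPoints.subring A G) =
      Ideal.comap (FixedPoints.subring A G).subtype (maximalIdeal A) :=
    WildInv.maximalIdeal_fixedPoints_eq
  have hrad : maximalIdeal (FixedPoints.subring A G) ≤ T.radical := by
    intro b hb
    rw [hmB] at hb
    rw [hT]
    exact WildInsep.mem_radical_range_tr p hk hcard hGk hram b hb
  obtain ⟨E, hE⟩ := Ideal.exists_pow_le_of_le_radical_of_fg hrad (IsNoetherian.noetherian _)
  obtain ⟨J, hJ⟩ := WildInv.exists_pow_le_map (G := G) p hk hcard hGk
  have hH90 : ∀ s ∈ T, ∃ c : A, σ • c - c = (s : A) := by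
    intro s hs
    rw [hT] at hs
    obtain ⟨w, rfl⟩ := hs
    obtain ⟨c, hc⟩ := WildInsep.exists_smul_sub_eq_trace p hcard σ hσ w
    exact ⟨c, hc⟩
  obtain ⟨s₀, hs₀T, hs₀ne⟩ : ∃ s ∈ T, s ≠ 0 := by
    by_contra hcon
    push_neg at hcon
    apply hbot
    symm
    rw [eq_bot_iff]
    intro a ha
    have hmB0 : ∀ b ∈ maximalIdeal (FixedPoints.subring A G), b = 0 := by
      intro b hb
      have : b ^ E = 0 := hcon _ (hE (Ideal.pow_mem_pow hb E))
      exact eq_zero_of_pow_eq_zero this
    have hmap : (Ideal.comap (FixedPoints.subring A G).subtype (maximalIdeal A)).map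
        (algebraMap (FixedPoints.subring A G) A) = ⊥ := by
      rw [← hmB, Ideal.map_eq_bot_iff_le_ker]
      intro b hb
      rw [hmB0 b hb]
      exact zero_mem _
    have h1 : a ^ J ∈ (⊥ : Ideal A) := by
      rw [← hmap]
      exact hJ (Ideal.pow_mem_pow ha J)
    rw [Ideal.mem_bot] at h1 ⊢
    exact eq_zero_of_pow_eq_zero h1
  obtain ⟨c₀, hc₀⟩ := hH90 s₀ hs₀T
  have hs₀A : algebraMap A L (s₀ : A) ≠ 0 :=
    (map_ne_zero_iff _ hinjL).mpr (fun h => hs₀ne (Subtype.ext h))
  obtain ⟨t, ht⟩ : ∃ t : L, t = algebraMap A L c₀ / algebraMap A L (s₀ : A) := ⟨_, rfl⟩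
  have hσt : σ • t = t + 1 := by
    have h1 : σ • c₀ = c₀ + (s₀ : A) := by rw [← hc₀]; ring
    rw [ht, smul_div₀', hsmulA, hsmulA, s₀.2 σ, h1, map_add]
    field_simp
  obtain ⟨f, hf⟩ := exists_AS_param (K := K) p hcard σ hσ t hσt
  have hdata : ∀ s ∈ T, ∃ (κ' : K) (b : FixedPoints.subring A G),
      algebraMap (FixedPoints.subring A G) K b =
        (algebraMap (FixedPoints.subring A G) K s) ^ p * f + κ' ^ p -
          (algebraMap (FixedPoints.subring A G) K s) ^ q * κ' := by
    intro s hs
    obtain ⟨c, hc⟩ := hH90 s hs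
    have hσc : σ • c = c + (s : A) := by rw [← hc]; ring
    obtain ⟨κ', hκ'⟩ := fixed_of_smul_eq (K := K) p hcard σ hσ
      (algebraMap A L c - algebraMap A L (s : A) * t) (by
        rw [smul_sub, smul_mul', hsmulA, hsmulA, hσt, s.2 σ, hσc, map_add]
        ring)
    have hc' : algebraMap A L c = algebraMap A L (s : A) * t + algebraMap K L κ' := by
      rw [hκ']
      ring
    obtain ⟨b, _, hb2⟩ := hKA
      ((algebraMap (FixedPoints.subring A G) K s) ^ p * f + κ' ^ p -
        (algebraMap (FixedPoints.subring A G) K s) ^ q * κ')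
      (c ^ p - (s : A) ^ q * c) (by
        rw [map_sub, map_add, map_mul, map_mul, map_pow, map_pow, map_pow, hf, ← hBAL, map_sub,
          map_mul, map_pow, map_pow, hc', add_pow_char, mul_pow]
        have : (algebraMap A L (s : A)) ^ p =
            (algebraMap A L (s : A)) ^ q * algebraMap A L (s : A) := by
          rw [← hq, pow_succ]
        rw [this]
        ring)
    exact ⟨κ', b, hb2⟩
  obtain ⟨S, hSdef⟩ : ∃ S : Set A, S = {x | ∃ s ∈ T, x = ((φ s : FixedPoints.subring A G) : A)} :=
    ⟨_, rfl⟩
  have hS : ∀ x ∈ S, ∃ (μ : L) (a : A),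
      μ ^ p - (algebraMap A L x) ^ q * μ + (algebraMap A L x) ^ p * (algebraMap K L (φK f)) =
        algebraMap A L a := by
    intro x hx
    rw [hSdef] at hx
    obtain ⟨s, hs, rfl⟩ := hx
    obtain ⟨κ', b, hb⟩ := hdata s hs
    refine ⟨algebraMap K L (φK κ'), ((φ b : FixedPoints.subring A G) : A), ?_⟩
    rw [hBAL, hBAL, ← hφK, ← hφK, hb]
    simp only [map_sub, map_add, map_mul, map_pow]
    ring
  have hN : ∃ N, maximalIdeal A ^ N ≤ Ideal.span S := by
    refine ⟨J * E, ?_⟩
    rw [pow_mul]
    refine (Ideal.pow_right_mono hJ E).trans ?_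
    rw [← Ideal.map_pow, Ideal.map_le_iff_le_comap]
    intro b hb
    rw [← hmB] at hb
    have h1 : φ.symm b ∈ maximalIdeal (FixedPoints.subring A G) ^ E := by
      have h2 : Ideal.map (φ.symm : FixedPoints.subring A G →+* FixedPoints.subring A G)
          (maximalIdeal (FixedPoints.subring A G)) ≤ maximalIdeal (FixedPoints.subring A G) := by
        rw [Ideal.map_le_iff_le_comap]
        intro x hx
        rw [Ideal.mem_comap, mem_maximalIdeal, mem_nonunits_iff]
        rw [mem_maximalIdeal, mem_nonunits_iff] at hx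
        intro h
        apply hx
        have := h.map φ
        simpa using this
      have h3 : (φ.symm : FixedPoints.subring A G →+* FixedPoints.subring A G) b ∈
          Ideal.map (φ.symm : FixedPoints.subring A G →+* FixedPoints.subring A G)
            (maximalIdeal (FixedPoints.subring A G) ^ E) := Ideal.mem_map_of_mem _ hb
      rw [Ideal.map_pow] at h3
      exact Ideal.pow_right_mono h2 E h3
    rw [Ideal.mem_comap]
    apply Ideal.subset_span
    rw [hSdef]
    exact ⟨φ.symm b, hE h1, by rw [RingEquiv.apply_symm_apply]; rfl⟩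
  obtain ⟨l, hl⟩ := WildPur2.core p A hdim k hk hkp L q hq (algebraMap K L (φK f)) S hS hN
  obtain ⟨ψ, hψ⟩ := exists_ringEquiv_semilinear p hcard σ t hσt f hf φK l hl
  obtain ⟨ψA, _, hψA⟩ := exists_ringEquiv_restrict (B := FixedPoints.subring A G) (A := A)
    (K := K) (L := L) φ φK hφK ψ hψ
  exact ⟨ψA, hψA⟩

/-- Every ring automorphism of the invariant ring extends to `A`. -/
theorem exists_ringEquiv_extends (hdim : 2 ≤ ringKrullDim A)
    (hk : Function.Surjective (residue A ∘ algebraMap k A))
    (hkp : ∀ (L : Type v) [Field L] [Algebra k L], IsGalois k L → Module.finrank k L ≠ p)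
    (hcard : Nat.card G = p)
    (hGk : ∀ (σ : G) (c : k), σ • algebraMap k A c = algebraMap k A c)
    (hram : ∀ P : Ideal A, P.IsPrime → P ≠ maximalIdeal A → P.inertia G = ⊥)
    (φ : FixedPoints.subring A G ≃+* FixedPoints.subring A G) :
    ∃ ψ : A ≃+* A, ∀ b : FixedPoints.subring A G, ψ (b : A) = (φ b : A) := by
  haveI : IsDomain A := Groth.Agent.Lib.Helper5.isDomain_of_isRegularLocalRing A
  haveI : FaithfulSMul (FixedPoints.subring A G) (FractionRing A) :=
    (faithfulSMul_iff_algebraMap_injective _ _).mpr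
      ((IsFractionRing.injective A (FractionRing A)).comp Subtype.val_injective)
  letI : Algebra (FractionRing (FixedPoints.subring A G)) (FractionRing A) :=
    FractionRing.liftAlgebra (FixedPoints.subring A G) (FractionRing A)
  haveI : IsScalarTower (FixedPoints.subring A G) (FractionRing (FixedPoints.subring A G))
      (FractionRing A) :=
    FractionRing.isScalarTower_liftAlgebra (FixedPoints.subring A G) (FractionRing A)
  letI : MulSemiringAction G (FractionRing A) :=
    IsFractionRing.mulSemiringAction G A (FractionRing A)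
  refine main_aux p (FractionRing (FixedPoints.subring A G)) (FractionRing A) (fun b => ?_)
    hdim hk hkp hcard hGk hram φ
  rw [← IsScalarTower.algebraMap_apply (FixedPoints.subring A G)
    (FractionRing (FixedPoints.subring A G)) (FractionRing A)]
  rfl

end main

end Groth.Agent.Lib.R2H7.WildExt
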