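/-
Peeling lemmas for a finite subgroup `G` of a commutative group `H` acting on a domain `A`:
for a family `e : G → A` with `det (g • e k) ≠ 0`, every `a : A` satisfies
`det² • a = ∑ k, c k * e k` with `G`-invariant coefficients `c k` (which are moreover fixed by every
element of `H` fixing `a` and the `e k`).
-/
import Mathlib

set_option autoImplicit false
universe u v w

namespace Groth.Agent.Lib.R2H7.WildGen1

open Matrix

section peel

variable {A : Type v} [CommRing A] {H : Type w} [Group H] [MulSemiringAction H A]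
  (G : Subgroup H) [Fintype G] [DecidableEq G] (e : G → A)

/-- the matrix `(g • e k)` -/
def Nmat : Matrix G G A := Matrix.of fun g k => (g : H) • e k

theorem Nmat_apply (g k : G) : Nmat G e g k = (g : H) • e k := rfl

theorem smul_det_sq (h : H) (hh : h ∈ G) :
    h • ((Nmat G e).det * (Nmat G e).det) = (Nmat G e).det * (Nmat G e).det := by
  have h1 : (Nmat G e).det * (Nmat G e).det = ((Nmat G e)ᵀ * Nmat G e).det := by
    rw [Matrix.det_mul, Matrix.det_transpose]
  rw [h1]
  have h2 : h • ((Nmat G e)ᵀ * Nmat G e).det =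
      (((Nmat G e)ᵀ * Nmat G e).map (MulSemiringAction.toRingHom H A h)).det := by
    rw [← RingHom.mapMatrix_apply, ← RingHom.map_det]
    rfl
  rw [h2]
  congr 1
  ext k l
  simp only [Matrix.map_apply, Matrix.mul_apply, Matrix.transpose_apply, Nmat_apply,
    MulSemiringAction.toRingHom_apply, Finset.smul_sum, smul_mul', ← mul_smul]
  exact Fintype.sum_equiv (Equiv.mulLeft (⟨h, hh⟩ : G)) _ _ (fun g => rfl)

theorem eq_zero_of_sum_eq_zero [IsDomain A] (hd : (Nmat G e).det ≠ 0) (c : G → A)
    (hc : ∀ g : G, ∑ k, (g : H) • e k * c k = 0) : c = 0 := by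
  apply Matrix.eq_zero_of_mulVec_eq_zero hd
  ext g
  simpa [Matrix.mulVec, dotProduct, Nmat_apply] using hc g

/-- peeling coefficients -/
noncomputable def coef (a : A) : G → A := fun k =>
  (Nmat G e).det * ((Nmat G e).adjugate.mulVec (fun g : G => (g : H) • a)) k

theorem sum_coef (a : A) (g : G) :
    ∑ k, (g : H) • e k * coef G e a k = ((Nmat G e).det * (Nmat G e).det) * (g : H) • a := by
  have h1 : (Nmat G e).mulVec (coef G e a) =
      ((Nmat G e).det * (Nmat G e).det) • (fun g : G => (g : H) • a) := by
    have : coef G e a =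
        (Nmat G e).det • ((Nmat G e).adjugate.mulVec (fun g : G => (g : H) • a)) := by
      ext k; rfl
    rw [this, Matrix.mulVec_smul, Matrix.mulVec_mulVec, Matrix.mul_adjugate,
      Matrix.smul_mulVec, Matrix.one_mulVec, smul_smul]
  have h2 := congrFun h1 g
  simpa [Matrix.mulVec, dotProduct, Nmat_apply] using h2

theorem smul_coef_of_fixed (hcomm : ∀ g h : H, g * h = h * g) (a : A) (h : H) (ha : h • a = a)
    (he : ∀ k, h • e k = e k) (k : G) : h • coef G e a k = coef G e a k := by
  let f : A →+* A := MulSemiringAction.toRingHom H A h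
  have hN : (Nmat G e).map f = Nmat G e := by
    ext g k'
    simp only [Matrix.map_apply, Nmat_apply]
    change h • ((g : H) • e k') = _
    rw [← mul_smul, hcomm, mul_smul, he]
  have hv : (f ∘ fun g : G => (g : H) • a) = fun g : G => (g : H) • a := by
    funext g
    change h • ((g : H) • a) = _
    rw [← mul_smul, hcomm, mul_smul, ha]
  change f (coef G e a k) = _
  unfold coef
  rw [map_mul, RingHom.map_det, RingHom.mapMatrix_apply, hN, RingHom.map_mulVec,
    ← RingHom.mapMatrix_apply, RingHom.map_adjugate, RingHom.mapMatrix_apply, hN, hv]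

theorem smul_coef_of_mem [IsDomain A] (hd : (Nmat G e).det ≠ 0) (a : A) (h : H) (hh : h ∈ G)
    (k : G) : h • coef G e a k = coef G e a k := by
  have key : (fun k => h • coef G e a k - coef G e a k) = 0 := by
    apply eq_zero_of_sum_eq_zero G e hd
    intro g
    have h1 : ∑ k, (g : H) • e k * (h • coef G e a k) =
        ((Nmat G e).det * (Nmat G e).det) * (g : H) • a := by
      have h2 := sum_coef G e a ((⟨h, hh⟩ : G)⁻¹ * g)
      have h3 := congrArg (fun x => h • x) h2
      simp only [Finset.smul_sum, smul_mul', smul_det_sq G e h hh] at h3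
      have h4 : ∀ x : A, h • ((((⟨h, hh⟩ : G)⁻¹ * g : G) : H) • x) = (g : H) • x := by
        intro x
        rw [← mul_smul]
        congr 1
        simp
      simp only [h4] at h3
      exact h3
    simp only [mul_sub, Finset.sum_sub_distrib, h1, sum_coef G e a g, sub_self]
  exact sub_eq_zero.mp (congrFun key k)

end peel

section fixed

variable {A : Type v} [CommRing A] {H : Type w} [Group H] [MulSemiringAction H A]

theorem smul_eq_of_mem_sup {x : A} {T K : Subgroup H} (hT : ∀ h ∈ T, h • x = x)
    (hK : ∀ h ∈ K, h • x = x) : ∀ h ∈ T ⊔ K, h • x = x := by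
  intro h hh
  have hle : T ⊔ K ≤ MulAction.stabilizer H x :=
    sup_le (fun g hg => MulAction.mem_stabilizer_iff.mpr (hT g hg))
      (fun g hg => MulAction.mem_stabilizer_iff.mpr (hK g hg))
  exact MulAction.mem_stabilizer_iff.mp (hle hh)

theorem smul_eq_of_mem_iSup {ι : Sort*} {x : A} {T : ι → Subgroup H}
    (hT : ∀ i, ∀ h ∈ T i, h • x = x) : ∀ h ∈ ⨆ i, T i, h • x = x := by
  intro h hh
  have hle : (⨆ i, T i) ≤ MulAction.stabilizer H x :=
    iSup_le (fun i g hg => MulAction.mem_stabilizer_iff.mpr (hT i g hg))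
  exact MulAction.mem_stabilizer_iff.mp (hle hh)

end fixed

end Groth.Agent.Lib.R2H7.WildGen1
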