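/-
Galois-theoretic input for the generation theorem: inertia of a ring of invariants, the determinant
criterion modulo a prime, and the rank of a ring of invariants.
-/
import Mathlib
import Groth.Agent.Lib.R2H7WildDim2
import Groth.Agent.Lib.R2H7WildGen1

set_option autoImplicit false
universe u v w

namespace Groth.Agent.Lib.R2H7.WildGen2

open Pointwise

section inertia

variable {R : Type u} [CommRing R] {A : Type v} [CommRing A] [Algebra R A]
  {H : Type w} [Group H] [Finite H] [MulSemiringAction H A] [SMulCommClass H R A]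

/-- If `h` acts trivially modulo `P` on the ring of invariants `A^N`, then `h ∈ N · I(P)`. -/
theorem mem_sup_inertia (hcomm : ∀ g h : H, g * h = h * g) (N : Subgroup H) (P : Ideal A)
    [P.IsPrime] (h : H) (hh : ∀ b : A, (∀ n ∈ N, n • b = b) → h • b - b ∈ P) :
    h ∈ N ⊔ P.inertia H := by
  classical
  let B := FixedPoints.subalgebra ℤ A N
  haveI : Algebra.IsInvariant B A N := ⟨fun x hx => ⟨⟨x, hx⟩, rfl⟩⟩
  haveI : SMulCommClass N B A := ⟨fun n b a => by
    change n • ((b : A) * a) = (b : A) * (n • a)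
    rw [smul_mul', b.2 n]⟩
  let Q : Ideal A := h • P
  have hunder : Q.under B = P.under B := by
    ext b
    simp only [Ideal.under_def, Ideal.mem_comap]
    change (b : A) ∈ h • P ↔ (b : A) ∈ P
    rw [Ideal.mem_pointwise_smul_iff_inv_smul_mem]
    have hb' : ∀ n ∈ N, n • (h⁻¹ • (b : A)) = h⁻¹ • (b : A) := by
      intro n hn
      rw [← mul_smul, hcomm, mul_smul]
      congr 1
      exact b.2 ⟨n, hn⟩
    have h1 := hh (h⁻¹ • (b : A)) hb'
    rw [smul_inv_smul] at h1
    constructor
    · intro h2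
      have := P.add_mem h1 h2
      simpa using this
    · intro h2
      have := P.sub_mem h2 h1
      simpa using this
  obtain ⟨σ, hσ⟩ := Algebra.IsInvariant.exists_smul_of_under_eq B A N Q P hunder
  let τ : H := (σ : H) * h
  have hτP : τ • P = P := by
    rw [mul_smul]
    exact hσ.symm
  have hτb : ∀ b : B, τ • (b : A) - (b : A) ∈ P := by
    intro b
    have h1 : τ • (b : A) = h • (b : A) := by
      change ((σ : H) * h) • (b : A) = _
      rw [hcomm, mul_smul]
      congr 1
      exact b.2 σ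
    rw [h1]
    exact hh b (fun n hn => b.2 ⟨n, hn⟩)
  let 𝔭 : Ideal B := P.under B
  have hPmap : P = P.map (MulSemiringAction.toRingEquiv H A τ : A →+* A) := by
    conv_lhs => rw [← hτP]
    rfl
  let φ : (A ⧸ P) ≃ₐ[B ⧸ 𝔭] (A ⧸ P) :=
    { Ideal.quotientEquiv P P (MulSemiringAction.toRingEquiv H A τ) hPmap with
      commutes' := by
        rintro ⟨x⟩
        change Ideal.Quotient.mk P (τ • (x : A)) = Ideal.Quotient.mk P (x : A)
        exact Ideal.Quotient.eq.mpr (hτb x) }
  obtain ⟨ν, hν⟩ := Ideal.Quotient.stabilizerHom_surjective N 𝔭 P φ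
  have hνa : ∀ a : A, ((ν : N) : H) • a - τ • a ∈ P := by
    intro a
    have h1 := DFunLike.congr_fun hν (Ideal.Quotient.mk P a)
    have h2 : Ideal.Quotient.mk P (((ν : N) : H) • a) = Ideal.Quotient.mk P (τ • a) := h1
    exact Ideal.Quotient.eq.mp h2
  have hi : τ⁻¹ * ((ν : N) : H) ∈ P.inertia H := by
    intro a
    have h1 : (τ⁻¹ * ((ν : N) : H)) • a - a = τ⁻¹ • (((ν : N) : H) • a - τ • a) := by
      rw [smul_sub, inv_smul_smul, mul_smul]
    rw [h1]
    have h2 : τ⁻¹ • P = P := by rw [inv_smul_eq_iff, hτP]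
    have h3 := Ideal.smul_mem_pointwise_smul τ⁻¹ _ P (hνa a)
    rwa [h2] at h3
  have hdecomp : h = ((σ : H)⁻¹ * ((ν : N) : H)) * (τ⁻¹ * ((ν : N) : H))⁻¹ := by
    change h = ((σ : H)⁻¹ * ((ν : N) : H)) * (((σ : H) * h)⁻¹ * ((ν : N) : H))⁻¹
    group
  rw [hdecomp]
  exact Subgroup.mul_mem_sup (N.mul_mem (N.inv_mem σ.2) (ν : N).2) ((P.inertia H).inv_mem hi)

/-- Determinant criterion: if `G ∩ (N · I(P)) = 1`, the determinant of `(g • b k)` for a basis
`b` of `A^N` indexed by `G` is not in `P`. -/
theorem det_notMem_of_inf_eq_bot (hcomm : ∀ g h : H, g * h = h * g) (G N : Subgroup H)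
    [Fintype G] [DecidableEq G] (b : Module.Basis G R (FixedPoints.subalgebra R A N))
    (P : Ideal A) [P.IsPrime] (hcond : G ⊓ (N ⊔ P.inertia H) = ⊥) :
    (WildGen1.Nmat G (fun k => ((b k : FixedPoints.subalgebra R A N) : A))).det ∉ P := by
  intro hdet
  let B := FixedPoints.subalgebra R A N
  let K := FractionRing (A ⧸ P)
  let π : A →+* K := (algebraMap (A ⧸ P) K).comp (Ideal.Quotient.mk P)
  have hπ : ∀ a, π a = 0 ↔ a ∈ P := fun a => by
    change algebraMap (A ⧸ P) K (Ideal.Quotient.mk P a) = 0 ↔ _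
    rw [IsFractionRing.to_map_eq_zero_iff, Ideal.Quotient.eq_zero_iff_mem]
  let χ : G → (B →+* K) := fun g =>
    π.comp ((MulSemiringAction.toRingHom H A (g : H)).comp B.val.toRingHom)
  have hχ : ∀ (g : G) (x : B), χ g x = π ((g : H) • (x : A)) := fun g x => rfl
  have hχinj : Function.Injective χ := by
    intro g g' hgg
    have hmem : (g' : H)⁻¹ * (g : H) ∈ N ⊔ P.inertia H := by
      apply mem_sup_inertia hcomm N P
      intro y hy
      have hy' : ∀ n : N, n • ((g' : H)⁻¹ • y) = (g' : H)⁻¹ • y := by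
        intro n
        change (n : H) • ((g' : H)⁻¹ • y) = _
        rw [← mul_smul, hcomm, mul_smul, hy n n.2]
      have h1 := DFunLike.congr_fun hgg (⟨(g' : H)⁻¹ • y, hy'⟩ : B)
      rw [hχ, hχ] at h1
      change π ((g : H) • ((g' : H)⁻¹ • y)) = π ((g' : H) • ((g' : H)⁻¹ • y)) at h1
      rw [smul_inv_smul, ← mul_smul, hcomm] at h1
      rw [← hπ, map_sub, sub_eq_zero]
      exact h1
    have hG : (g' : H)⁻¹ * (g : H) ∈ G := G.mul_mem (G.inv_mem g'.2) g.2
    have hbot : (g' : H)⁻¹ * (g : H) ∈ G ⊓ (N ⊔ P.inertia H) := ⟨hG, hmem⟩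
    rw [hcond, Subgroup.mem_bot] at hbot
    apply Subtype.ext
    exact (inv_mul_eq_one.mp hbot).symm
  have hne := WildDim2.det_ne_zero_of_injective' b (π.comp (algebraMap R A)) χ hχinj
    (fun g r => by
      rw [hχ]
      change π ((g : H) • algebraMap R A r) = π (algebraMap R A r)
      rw [smul_algebraMap])
  apply hne
  have hmap : (Matrix.of fun i k => χ i (b k)) =
      (WildGen1.Nmat G (fun k => ((b k : B) : A))).map π := by
    ext i k
    rfl
  rw [hmap, ← RingHom.mapMatrix_apply, ← RingHom.map_det, (hπ _).mpr hdet]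

end inertia

section rank

variable {R : Type u} [CommRing R] {A : Type v} [CommRing A] [IsDomain A] [Algebra R A]
  {H : Type w} [Group H] [Finite H] [MulSemiringAction H A] [SMulCommClass H R A]
  [FaithfulSMul H A]

theorem finrank_fixedPoints_mul_card (hinj : Function.Injective (algebraMap R A))
    (hfix : ∀ a : A, (∀ h : H, h • a = a) → a ∈ Set.range (algebraMap R A))
    (N : Subgroup H) [N.Normal] :
    Module.finrank R (FixedPoints.subalgebra R A N) * Nat.card N = Nat.card H := by
  haveI : FaithfulSMul R A := (faithfulSMul_iff_algebraMap_injective R A).mpr hinj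
  haveI : IsGaloisGroup H R A := ⟨inferInstance, inferInstance, ⟨fun a ha => hfix a ha⟩⟩
  let B := FixedPoints.subalgebra R A N
  haveI : FaithfulSMul R B := (faithfulSMul_iff_algebraMap_injective R B).mpr
    (fun x y hxy => hinj (congrArg Subtype.val hxy))
  haveI : FaithfulSMul B A := (faithfulSMul_iff_algebraMap_injective B A).mpr
    Subtype.val_injective
  letI := IsGaloisGroup.mulSemiringActionOfNormal H B A N
  letI := IsGaloisGroup.mulSemiringActionQuotient H B A N
  haveI := IsGaloisGroup.smulCommClassQuotient H R B A N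
  haveI := IsGaloisGroup.quotient H R B A N
  have h1 : Nat.card (H ⧸ N) = Module.finrank R B :=
    IsGaloisGroup.card_eq_finrank' (H ⧸ N) R B
  rw [← h1, ← Subgroup.card_eq_card_quotient_mul_card_subgroup]

theorem finrank_fixedPoints_eq_card (hinj : Function.Injective (algebraMap R A))
    (hfix : ∀ a : A, (∀ h : H, h • a = a) → a ∈ Set.range (algebraMap R A))
    (G N : Subgroup H) [N.Normal] (hdisj : G ⊓ N = ⊥) (hsup : G ⊔ N = ⊤) :
    Module.finrank R (FixedPoints.subalgebra R A N) = Nat.card G := by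
  have h1 := finrank_fixedPoints_mul_card hinj hfix N
  have hc : Subgroup.IsComplement' G N :=
    Subgroup.isComplement'_of_disjoint_and_mul_eq_univ (disjoint_iff.mpr hdisj)
      (by rw [← Subgroup.mul_normal, hsup]; rfl)
  have h2 := hc.card_mul_card
  have hpos : 0 < Nat.card N := Nat.card_pos
  exact Nat.eq_of_mul_eq_mul_right hpos (h1.trans h2.symm)

end rank

end Groth.Agent.Lib.R2H7.WildGen2
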