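/-
Generation of a normal domain `A` with an elementary abelian `p`-group action by the rings of
invariants `A^{G_i^⊥}` (the coproduct decomposition of a wild quotient singularity), assuming
these rings of invariants are free over the regular base.
-/
import Mathlib
import Groth.Agent.Lib.R2H7WildGen2
import Groth.Agent.Lib.R2H7WildCoprod
import Groth.Agent.Lib.Helper8AB

set_option autoImplicit false
universe u v w

namespace Groth.Agent.Lib.R2H7.WildGen3

open Groth.Agent.Lib.R2H7.WildGen1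

section iter

variable {R : Type u} [CommRing R] {A : Type v} [CommRing A] [IsDomain A] [Algebra R A]
  {H : Type w} [Group H] [MulSemiringAction H A] [SMulCommClass H R A]
  {n : ℕ} (G : Fin n → Subgroup H) [∀ j, Fintype (G j)] [∀ j, DecidableEq (G j)]
  (e : ∀ j, G j → A) (Bs : Fin n → Subalgebra R A)

theorem mem_fixed_iff {K : Subgroup H} {a : A} :
    a ∈ FixedPoints.subalgebra R A ↥K ↔ ∀ h ∈ K, h • a = a :=
  ⟨fun ha h hh => ha ⟨h, hh⟩, fun ha g => ha g g.2⟩

/-- the subalgebra generated by the `Bs j`, `j ∈ S` -/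
def CS (S : Finset (Fin n)) : Subalgebra R A := ⨆ j ∈ S, Bs j

theorem CS_insert (l : Fin n) (S : Finset (Fin n)) : CS Bs (insert l S) = Bs l ⊔ CS Bs S :=
  Finset.iSup_insert l S Bs

theorem le_CS {S : Finset (Fin n)} {j : Fin n} (hj : j ∈ S) : Bs j ≤ CS Bs S :=
  le_iSup₂ (f := fun j (_ : j ∈ S) => Bs j) j hj

theorem CS_le_insert (l : Fin n) (S : Finset (Fin n)) : CS Bs S ≤ CS Bs (insert l S) := by
  rw [CS_insert]
  exact le_sup_right

theorem CS_le_iSup (S : Finset (Fin n)) : CS Bs S ≤ ⨆ i, Bs i :=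
  iSup₂_le (fun j _ => le_iSup Bs j)

theorem CS_univ : CS Bs Finset.univ = ⨆ i, Bs i := by
  simp [CS]

theorem CS_empty : CS Bs ∅ = ⊥ := by
  simp [CS]

/-- `D j = det²` -/
def Dd (j : Fin n) : A := (Nmat (G j) (e j)).det * (Nmat (G j) (e j)).det

theorem peel_iter (hcomm : ∀ g h : H, g * h = h * g)
    (he_mem : ∀ j k, e j k ∈ Bs j)
    (hBs_fix : ∀ j l, l ≠ j → ∀ x ∈ Bs j, ∀ g ∈ G l, g • x = x)
    (hd : ∀ j, (Nmat (G j) (e j)).det ≠ 0) (S : Finset (Fin n)) :
    ∀ (T : Subgroup H), (∀ j ∈ S, ∀ k, ∀ h ∈ T, h • e j k = e j k) → ∀ a : A,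
      (∀ h ∈ T, h • a = a) →
      (∏ j ∈ S, Dd G e j) * a ∈
        Subalgebra.toSubmodule (FixedPoints.subalgebra R A ↥(T ⊔ ⨆ j ∈ S, G j)) *
          Subalgebra.toSubmodule (CS Bs S) := by
  classical
  induction S using Finset.induction_on with
  | empty =>
    intro T _ a ha
    rw [Finset.prod_empty, one_mul]
    have h1 : a ∈ FixedPoints.subalgebra R A ↥(T ⊔ ⨆ j ∈ (∅ : Finset (Fin n)), G j) := by
      rw [mem_fixed_iff]
      intro h hh
      apply ha
      simpa using hh
    have h2 : (1 : A) ∈ Subalgebra.toSubmodule (CS Bs ∅) := one_mem (CS Bs ∅)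
    have h1' : a ∈ Subalgebra.toSubmodule
        (FixedPoints.subalgebra R A ↥(T ⊔ ⨆ j ∈ (∅ : Finset (Fin n)), G j)) := h1
    have := Submodule.mul_mem_mul h1' h2
    rwa [mul_one] at this
  | insert l S hl ih =>
    intro T hT a ha
    set c := coef (G l) (e l) a with hc
    have hc_fix : ∀ k, ∀ h ∈ T ⊔ G l, h • c k = c k := by
      intro k
      apply smul_eq_of_mem_sup
      · intro h hh
        exact smul_coef_of_fixed (G l) (e l) hcomm a h (ha h hh)
          (fun k' => hT l (Finset.mem_insert_self l S) k' h hh) k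
      · intro h hh
        exact smul_coef_of_mem (G l) (e l) (hd l) a h hh k
    have hT' : ∀ j ∈ S, ∀ k, ∀ h ∈ T ⊔ G l, h • e j k = e j k := by
      intro j hj k
      apply smul_eq_of_mem_sup
      · intro h hh
        exact hT j (Finset.mem_insert_of_mem hj) k h hh
      · intro h hh
        have hne : l ≠ j := fun h' => hl (h' ▸ hj)
        exact hBs_fix j l hne (e j k) (he_mem j k) h hh
    have hsum : Dd G e l * a = ∑ k, c k * e l k := by
      have := sum_coef (G l) (e l) a 1
      simp only [OneMemClass.coe_one, one_smul] at this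
      rw [Dd, ← this]
      exact Finset.sum_congr rfl (fun k _ => mul_comm _ _)
    have hgrp : (T ⊔ G l) ⊔ ⨆ j ∈ S, G j = T ⊔ ⨆ j ∈ insert l S, G j := by
      rw [Finset.iSup_insert, sup_assoc]
    rw [Finset.prod_insert hl]
    have hrew : (Dd G e l * ∏ j ∈ S, Dd G e j) * a =
        ∑ k, ((∏ j ∈ S, Dd G e j) * c k) * e l k := by
      calc (Dd G e l * ∏ j ∈ S, Dd G e j) * a = (∏ j ∈ S, Dd G e j) * (Dd G e l * a) := by ring
        _ = ∑ k, ((∏ j ∈ S, Dd G e j) * c k) * e l k := by
          rw [hsum, Finset.mul_sum]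
          exact Finset.sum_congr rfl (fun k _ => by ring)
    rw [hrew]
    apply Submodule.sum_mem
    intro k _
    have hk := ih (T ⊔ G l) hT' (c k) (hc_fix k)
    rw [hgrp] at hk
    refine Submodule.mul_induction_on hk ?_ ?_
    · intro f hf z hz
      rw [mul_assoc]
      apply Submodule.mul_mem_mul hf
      exact (CS Bs (insert l S)).mul_mem (CS_le_insert Bs l S hz)
        (le_CS Bs (Finset.mem_insert_self l S) (he_mem l k))
    · intro x y hx hy
      rw [add_mul]
      exact Submodule.add_mem _ hx hy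

theorem exists_sum_of_mem_CS_insert
    (hBs_span : ∀ j, Subalgebra.toSubmodule (Bs j) ≤ Submodule.span R (Set.range (e j)))
    (l : Fin n) (S : Finset (Fin n)) (u : A) (hu : u ∈ CS Bs (insert l S)) :
    ∃ f : G l → A, (∀ k, f k ∈ CS Bs S) ∧ u = ∑ k, f k * e l k := by
  have hu' : u ∈ Subalgebra.toSubmodule (Bs l) * Subalgebra.toSubmodule (CS Bs S) := by
    rw [Subalgebra.mul_toSubmodule, ← CS_insert]
    exact hu
  refine Submodule.mul_induction_on hu' ?_ ?_
  · intro m hm z hz
    obtain ⟨r, hr⟩ := (Submodule.mem_span_range_iff_exists_fun R).mp (hBs_span l hm)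
    refine ⟨fun k => r k • z, fun k => (CS Bs S).smul_mem hz (r k), ?_⟩
    rw [← hr, Finset.sum_mul]
    exact Finset.sum_congr rfl (fun k _ => by rw [smul_mul_assoc, smul_mul_assoc, mul_comm])
  · rintro x y ⟨f, hf, rfl⟩ ⟨f', hf', rfl⟩
    refine ⟨fun k => f k + f' k, fun k => (CS Bs S).add_mem (hf k) (hf' k), ?_⟩
    rw [← Finset.sum_add_distrib]
    exact Finset.sum_congr rfl (fun k _ => by ring)

theorem divides_iter (hinj : Function.Injective (algebraMap R A))
    (he_mem : ∀ j k, e j k ∈ Bs j)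
    (hBs_span : ∀ j, Subalgebra.toSubmodule (Bs j) ≤ Submodule.span R (Set.range (e j)))
    (hBs_fix : ∀ j l, l ≠ j → ∀ x ∈ Bs j, ∀ g ∈ G l, g • x = x)
    (hd : ∀ j, (Nmat (G j) (e j)).det ≠ 0)
    (π r : R) (hπ : Prime π) (hr : ¬ π ∣ r) (S : Finset (Fin n)) :
    ∀ u ∈ CS Bs S, ∀ w ∈ CS Bs S, algebraMap R A r * u = algebraMap R A π * w →
      ∃ z ∈ CS Bs S, u = algebraMap R A π * z := by
  classical
  induction S using Finset.induction_on with
  | empty =>
    intro u hu w hw huw
    rw [CS_empty, Algebra.mem_bot] at hu hw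
    obtain ⟨u₀, rfl⟩ := hu
    obtain ⟨w₀, rfl⟩ := hw
    rw [← map_mul, ← map_mul] at huw
    have h1 : π ∣ r * u₀ := ⟨w₀, hinj huw⟩
    rcases hπ.dvd_or_dvd h1 with h2 | h2
    · exact absurd h2 hr
    · obtain ⟨z₀, rfl⟩ := h2
      exact ⟨algebraMap R A z₀, algebraMap_mem _ z₀, map_mul _ _ _⟩
  | insert l S hl ih =>
    intro u hu w hw huw
    obtain ⟨f, hf, rfl⟩ := exists_sum_of_mem_CS_insert G e Bs hBs_span l S u hu
    obtain ⟨f', hf', rfl⟩ := exists_sum_of_mem_CS_insert G e Bs hBs_span l S w hw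
    have hfixCS : ∀ x ∈ CS Bs S, ∀ g ∈ G l, g • x = x := by
      have hle : CS Bs S ≤ FixedPoints.subalgebra R A ↥(G l) := by
        apply iSup₂_le
        intro j hj x hx
        have hne : l ≠ j := fun h' => hl (h' ▸ hj)
        exact mem_fixed_iff.mpr (hBs_fix j l hne x hx)
      intro x hx
      exact mem_fixed_iff.mp (hle hx)
    let c : G l → A := fun k => algebraMap R A r * f k - algebraMap R A π * f' k
    have hc0 : ∑ k, c k * e l k = 0 := by
      simp only [c, sub_mul, Finset.sum_sub_distrib]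
      rw [sub_eq_zero]
      calc ∑ k, algebraMap R A r * f k * e l k = algebraMap R A r * ∑ k, f k * e l k := by
            rw [Finset.mul_sum]
            exact Finset.sum_congr rfl (fun k _ => by ring)
        _ = algebraMap R A π * ∑ k, f' k * e l k := huw
        _ = ∑ k, algebraMap R A π * f' k * e l k := by
            rw [Finset.mul_sum]
            exact Finset.sum_congr rfl (fun k _ => by ring)
    have hcfix : ∀ k, ∀ g ∈ G l, g • c k = c k := by
      intro k g hg
      simp only [c, smul_sub, smul_mul', smul_algebraMap, hfixCS _ (hf k) g hg,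
        hfixCS _ (hf' k) g hg]
    have hczero : c = 0 := by
      apply eq_zero_of_sum_eq_zero (G l) (e l) (hd l)
      intro g
      have h1 := congrArg (fun x => (g : H) • x) hc0
      simp only [Finset.smul_sum, smul_mul', smul_zero] at h1
      rw [← h1]
      exact Finset.sum_congr rfl (fun k _ => by rw [hcfix k g g.2, mul_comm])
    have hck : ∀ k, algebraMap R A r * f k = algebraMap R A π * f' k := fun k =>
      sub_eq_zero.mp (congrFun hczero k)
    choose z hz hfz using fun k => ih (f k) (hf k) (f' k) (hf' k) (hck k)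
    refine ⟨∑ k, z k * e l k, ?_, ?_⟩
    · apply Subalgebra.sum_mem
      intro k _
      exact (CS Bs (insert l S)).mul_mem (CS_le_insert Bs l S (hz k))
        (le_CS Bs (Finset.mem_insert_self l S) (he_mem l k))
    · rw [Finset.mul_sum]
      exact Finset.sum_congr rfl (fun k _ => by rw [hfz k, mul_assoc])

end iter

section group

theorem inf_iSup_erase_eq_bot {H : Type*} [Group H] [Finite H]
    (hcomm : ∀ g h : H, g * h = h * g) {n : ℕ} (p : ℕ) (hcard : Nat.card H = p ^ n)
    (Gi : Fin n → Subgroup H) (hGi : ∀ i, Nat.card (Gi i) = p) (hsup : (⨆ i, Gi i) = ⊤)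
    (i : Fin n) :
    Gi i ⊓ (⨆ j ∈ (Finset.univ.erase i : Finset (Fin n)), Gi j) = ⊥ := by
  classical
  have hc : Pairwise fun i j : Fin n => ∀ x y : H, x ∈ Gi i → y ∈ Gi j → Commute x y :=
    fun _ _ _ x y _ _ => hcomm x y
  let φ : (∀ i, Gi i) →* H := Subgroup.noncommPiCoprod hc
  have hrange : φ.range = ⊤ := by rw [Subgroup.noncommPiCoprod_range, hsup]
  have hsurj : Function.Surjective φ := MonoidHom.range_eq_top.mp hrange
  have hcardPi : Nat.card (∀ i, Gi i) = Nat.card H := by
    rw [Nat.card_pi, hcard]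
    simp [hGi]
  have hbij : Function.Bijective φ := hsurj.bijective_of_nat_card_le (by rw [hcardPi])
  rw [eq_bot_iff]
  rintro x ⟨hx1, hx2⟩
  have hle : (⨆ j ∈ (Finset.univ.erase i : Finset (Fin n)), Gi j) ≤
      Subgroup.map φ (Pi.evalMonoidHom (fun i => Gi i) i).ker := by
    apply iSup₂_le
    intro j hj y hy
    refine ⟨Pi.mulSingle j ⟨y, hy⟩, ?_, ?_⟩
    · rw [SetLike.mem_coe, MonoidHom.mem_ker]
      exact Pi.mulSingle_eq_of_ne (Finset.ne_of_mem_erase hj).symm _
    · exact Subgroup.noncommPiCoprod_mulSingle _ _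
  obtain ⟨u, hu, hux⟩ := hle hx2
  have h1 : φ (Pi.mulSingle i ⟨x, hx1⟩) = x := Subgroup.noncommPiCoprod_mulSingle _ _
  have h2 : u = Pi.mulSingle i ⟨x, hx1⟩ := hbij.1 (hux.trans h1.symm)
  have h3 : u i = 1 := MonoidHom.mem_ker.mp hu
  rw [h2, Pi.mulSingle_eq_same] at h3
  exact Subgroup.mem_bot.mpr (congrArg Subtype.val h3)

end group

end Groth.Agent.Lib.R2H7.WildGen3
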