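/-
Main generation theorem: `A` is generated over `R` by the rings of invariants `A^{G_i^⊥}`.
-/
import Mathlib
import Groth.Agent.Lib.R2H7WildGen3

set_option autoImplicit false
universe u v w

namespace Groth.Agent.Lib.R2H7.WildGen4

open Groth.Agent.Lib.R2H7.WildGen1 Groth.Agent.Lib.R2H7.WildGen3

theorem main
    (p : ℕ) [Fact p.Prime] (R : Type u) [CommRing R] [IsRegularLocalRing R]
    (A : Type v) [CommRing A] [IsDomain A] [IsLocalRing A]
    [Algebra R A] [Module.Finite R A] (hinj : Function.Injective (algebraMap R A))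
    (H : Type w) [Group H] [Finite H] [MulSemiringAction H A] [SMulCommClass H R A] [FaithfulSMul H A]
    (hfix : ∀ a : A, (∀ h : H, h • a = a) → a ∈ Set.range (algebraMap R A))
    (hcomm : ∀ g h : H, g * h = h * g)
    (n : ℕ) (hcard : Nat.card H = p ^ n) (Gi : Fin n → Subgroup H)
    (hGi : ∀ i, Nat.card (Gi i) = p) (hsup : (⨆ i, Gi i) = ⊤)
    (hMR3 : ∀ P : Ideal A, P.IsPrime → P.height = 1 → P.inertia H ≠ ⊥ → ∃ i, P.inertia H = Gi i)
    (hMR4 : ∀ i, Module.Free R
      (FixedPoints.subalgebra R A ↥(⨆ j ∈ (Finset.univ.erase i : Finset (Fin n)), Gi j : Subgroup H))) :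
    (⨆ i, FixedPoints.subalgebra R A ↥(⨆ j ∈ (Finset.univ.erase i : Finset (Fin n)), Gi j : Subgroup H)) = ⊤ := by
  classical
  haveI : IsDomain R := Groth.Agent.Lib.Helper5.isDomain_of_isRegularLocalRing R
  haveI : UniqueFactorizationMonoid R := Groth.Agent.Lib.Helper8.AB.ufd_of_isRegularLocalRing R
  haveI : IsNoetherianRing A := IsNoetherianRing.of_finite R A
  haveI : Algebra.IsIntegral R A := Algebra.IsIntegral.of_finite R A
  obtain ⟨_, hloc⟩ := Groth.Agent.Lib.R2H7.WildCoprod.isLocalRing_of_isIntegral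
    (B := R) (A := A) hinj
  haveI := hloc
  letI : ∀ j, Fintype (Gi j) := fun j => Fintype.ofFinite _
  let Gp : Fin n → Subgroup H := fun i => ⨆ j ∈ (Finset.univ.erase i : Finset (Fin n)), Gi j
  let Bs : Fin n → Subalgebra R A := fun i => FixedPoints.subalgebra R A ↥(Gp i)
  change (⨆ i, Bs i) = ⊤
  -- group theory
  have hdisj : ∀ i, Gi i ⊓ Gp i = ⊥ := fun i =>
    inf_iSup_erase_eq_bot hcomm p hcard Gi hGi hsup i
  have hle : ∀ j l, l ≠ j → Gi l ≤ Gp j := fun j l hlj =>
    le_iSup₂ (f := fun l (_ : l ∈ (Finset.univ.erase j : Finset (Fin n))) => Gi l) l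
      (Finset.mem_erase.mpr ⟨hlj, Finset.mem_univ l⟩)
  have hsupp : ∀ i, Gi i ⊔ Gp i = ⊤ := by
    intro i
    rw [eq_top_iff, ← hsup]
    apply iSup_le
    intro j
    by_cases hji : j = i
    · subst hji
      exact le_sup_left
    · exact (hle i j hji).trans le_sup_right
  haveI hnormal : ∀ i, (Gp i).Normal := fun i => ⟨fun x hx g => by
    rw [hcomm g x, mul_inv_cancel_right]
    exact hx⟩
  have hrank : ∀ j, Module.finrank R (Bs j) = Nat.card (Gi j) := fun j =>
    Groth.Agent.Lib.R2H7.WildGen2.finrank_fixedPoints_eq_card hinj hfix (Gi j) (Gp j)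
      (hdisj j) (hsupp j)
  haveI : ∀ j, Module.Free R (Bs j) := hMR4
  haveI : ∀ j, Module.Finite R (Bs j) := fun j =>
    Module.Finite.of_injective (Bs j).val.toLinearMap Subtype.val_injective
  have hex : ∀ j, Nonempty (Module.Basis (Gi j) R (Bs j)) := by
    intro j
    have e : Fin (Module.finrank R (Bs j)) ≃ Gi j :=
      Fintype.equivOfCardEq (by rw [Fintype.card_fin, hrank j, Nat.card_eq_fintype_card])
    exact ⟨(Module.finBasis R (Bs j)).reindex e⟩
  let bj : ∀ j, Module.Basis (Gi j) R (Bs j) := fun j => (hex j).some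
  let e : ∀ j, Gi j → A := fun j k => ((bj j k : Bs j) : A)
  have he_mem : ∀ j k, e j k ∈ Bs j := fun j k => (bj j k).2
  have hBs_span : ∀ j, Subalgebra.toSubmodule (Bs j) ≤ Submodule.span R (Set.range (e j)) := by
    intro j x hx
    have h1 := (bj j).sum_repr ⟨x, hx⟩
    have h2 : x = ∑ k, (bj j).repr ⟨x, hx⟩ k • e j k := by
      have h3 := congrArg (Bs j).val h1
      rw [map_sum] at h3
      simp only [map_smul] at h3
      exact h3.symm
    rw [h2]
    exact Submodule.sum_mem _ (fun k _ => Submodule.smul_mem _ _ (Submodule.subset_span ⟨k, rfl⟩))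
  have hBs_fix : ∀ j l, l ≠ j → ∀ x ∈ Bs j, ∀ g ∈ Gi l, g • x = x :=
    fun j l hlj x hx g hg => hx ⟨g, hle j l hlj hg⟩
  have hbotI : (⊥ : Ideal A).inertia H = ⊥ := by
    rw [eq_bot_iff]
    intro g hg
    rw [Subgroup.mem_bot]
    apply FaithfulSMul.eq_of_smul_eq_smul (α := A)
    intro a
    have h1 : g • a - a ∈ (⊥ : Ideal A) := hg a
    rw [Ideal.mem_bot, sub_eq_zero] at h1
    rw [h1, one_smul]
  have hd : ∀ j, (Nmat (Gi j) (e j)).det ≠ 0 := by
    intro j h0
    haveI : (⊥ : Ideal A).IsPrime := Ideal.bot_prime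
    have h1 := Groth.Agent.Lib.R2H7.WildGen2.det_notMem_of_inf_eq_bot hcomm (Gi j) (Gp j) (bj j)
      (⊥ : Ideal A) (by rw [hbotI, sup_bot_eq, hdisj j])
    exact h1 (by rw [Ideal.mem_bot]; exact h0)
  have hDfix : ∀ j, ∀ h : H, h • Dd Gi e j = Dd Gi e j := by
    intro j h
    have hmem : h ∈ (⨆ l, Gi l) := hsup ▸ Subgroup.mem_top h
    refine smul_eq_of_mem_iSup (T := Gi) ?_ h hmem
    intro l g hg
    by_cases hlj : l = j
    · subst hlj
      exact smul_det_sq (Gi l) (e l) g hg
    · have hN : (Nmat (Gi j) (e j)).map (MulSemiringAction.toRingHom H A g) =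
          Nmat (Gi j) (e j) := by
        ext x k
        simp only [Matrix.map_apply, Nmat_apply]
        change g • ((x : H) • e j k) = _
        rw [← mul_smul, hcomm, mul_smul, hBs_fix j l hlj (e j k) (he_mem j k) g hg]
      have hdet : g • (Nmat (Gi j) (e j)).det = (Nmat (Gi j) (e j)).det := by
        change MulSemiringAction.toRingHom H A g _ = _
        rw [RingHom.map_det, RingHom.mapMatrix_apply, hN]
      rw [Dd, smul_mul', hdet]
  choose D' hD' using fun j => hfix (Dd Gi e j) (hDfix j)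
  have hD'0 : ∀ j, D' j ≠ 0 := by
    intro j h0
    have h1 := hD' j
    rw [h0, map_zero] at h1
    exact mul_ne_zero (hd j) (hd j) h1.symm
  have hbotfix : ∀ (x : A), ∀ h ∈ (⊥ : Subgroup H), h • x = x := fun x h hh => by
    rw [Subgroup.mem_bot.mp hh, one_smul]
  have hpeel_all : ∀ a : A, algebraMap R A (∏ j, D' j) * a ∈ (⨆ i, Bs i) := by
    intro a
    have h1 := peel_iter Gi e Bs hcomm he_mem hBs_fix hd Finset.univ ⊥
      (fun j _ k => hbotfix (e j k)) a (hbotfix a)
    rw [map_prod]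
    simp_rw [hD']
    refine Submodule.mul_induction_on h1 ?_ ?_
    · intro f hf z hz
      have hf' : f ∈ Set.range (algebraMap R A) := by
        apply hfix
        intro h
        have hmem : h ∈ (⊥ : Subgroup H) ⊔ ⨆ j ∈ (Finset.univ : Finset (Fin n)), Gi j := by
          have h2 : (⨆ j ∈ (Finset.univ : Finset (Fin n)), Gi j) = ⊤ := by
            rw [← hsup]; simp
          rw [h2, bot_sup_eq]
          exact Subgroup.mem_top h
        exact ((mem_fixed_iff (R := R)).mp hf) h hmem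
      obtain ⟨r, rfl⟩ := hf'
      exact (⨆ i, Bs i).mul_mem (algebraMap_mem _ r) (CS_le_iSup Bs _ hz)
    · intro x y hx hy
      exact add_mem hx hy
  have hpeel_erase : ∀ i₀, ∀ a : A,
      algebraMap R A (∏ j ∈ (Finset.univ.erase i₀ : Finset (Fin n)), D' j) * a ∈ (⨆ i, Bs i) := by
    intro i₀ a
    have h1 := peel_iter Gi e Bs hcomm he_mem hBs_fix hd (Finset.univ.erase i₀) ⊥
      (fun j _ k => hbotfix (e j k)) a (hbotfix a)
    rw [map_prod]
    simp_rw [hD']
    refine Submodule.mul_induction_on h1 ?_ ?_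
    · intro f hf z hz
      have hf' : f ∈ Bs i₀ := by
        apply (mem_fixed_iff (R := R)).mpr
        intro h hh
        have hmem : h ∈ (⊥ : Subgroup H) ⊔
            ⨆ j ∈ (Finset.univ.erase i₀ : Finset (Fin n)), Gi j := by
          rw [bot_sup_eq]
          exact hh
        exact ((mem_fixed_iff (R := R)).mp hf) h hmem
      exact (⨆ i, Bs i).mul_mem (le_iSup Bs i₀ hf') (CS_le_iSup Bs _ hz)
    · intro x y hx hy
      exact add_mem hx hy
  have hexr : ∀ π : R, Prime π →
      ∃ r : R, ¬ π ∣ r ∧ ∀ a : A, algebraMap R A r * a ∈ (⨆ i, Bs i) := by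
    intro π hπ
    have hπnu : ¬ IsUnit (algebraMap R A π) := fun hu =>
      hπ.not_unit (isUnit_of_map_unit (algebraMap R A) π hu)
    obtain ⟨P, hPmin⟩ := Ideal.nonempty_minimalPrimes (I := Ideal.span {algebraMap R A π})
      (by rw [Ne, Ideal.span_singleton_eq_top]; exact hπnu)
    haveI hPprime : P.IsPrime := hPmin.1.1
    have hπP : algebraMap R A π ∈ P := hPmin.1.2 (Ideal.mem_span_singleton_self _)
    have hπ0 : algebraMap R A π ≠ 0 := fun h =>
      hπ.ne_zero (hinj (h.trans (map_zero _).symm))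
    have hht : P.height = 1 := by
      apply le_antisymm (Ideal.height_le_one_of_isPrincipal_of_mem_minimalPrimes _ P hPmin)
      rw [Order.one_le_iff_pos, pos_iff_ne_zero, Ne, Ideal.height_eq_zero_iff_eq_bot]
      intro hP
      rw [hP, Ideal.mem_bot] at hπP
      exact hπ0 hπP
    have hkey : ∀ j, Gi j ⊓ (Gp j ⊔ P.inertia H) = ⊥ → Dd Gi e j ∉ P := by
      intro j hj hmem
      have h1 := Groth.Agent.Lib.R2H7.WildGen2.det_notMem_of_inf_eq_bot hcomm (Gi j) (Gp j)
        (bj j) P hj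
      rcases hPprime.mem_or_mem hmem with h2 | h2 <;> exact h1 h2
    by_cases hI : P.inertia H = ⊥
    · refine ⟨∏ j, D' j, ?_, hpeel_all⟩
      intro hdvd
      have h1 : algebraMap R A (∏ j, D' j) ∈ P := by
        obtain ⟨s, hs⟩ := hdvd
        rw [hs, map_mul]
        exact P.mul_mem_right _ hπP
      rw [map_prod] at h1
      obtain ⟨j, -, hj⟩ := (Ideal.IsPrime.prod_mem_iff).mp h1
      rw [hD'] at hj
      exact hkey j (by rw [hI, sup_bot_eq, hdisj j]) hj
    · obtain ⟨i₀, hi₀⟩ := hMR3 P hPprime hht hI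
      refine ⟨∏ j ∈ (Finset.univ.erase i₀ : Finset (Fin n)), D' j, ?_, hpeel_erase i₀⟩
      intro hdvd
      have h1 : algebraMap R A (∏ j ∈ (Finset.univ.erase i₀ : Finset (Fin n)), D' j) ∈ P := by
        obtain ⟨s, hs⟩ := hdvd
        rw [hs, map_mul]
        exact P.mul_mem_right _ hπP
      rw [map_prod] at h1
      obtain ⟨j, hjmem, hj⟩ := (Ideal.IsPrime.prod_mem_iff).mp h1
      rw [hD'] at hj
      have hji : j ≠ i₀ := Finset.ne_of_mem_erase hjmem
      exact hkey j (by rw [hi₀, sup_eq_left.mpr (hle j i₀ hji.symm), hdisj j]) hj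
  have hQ : ∀ s : R, s ≠ 0 → ∀ a : A, algebraMap R A s * a ∈ (⨆ i, Bs i) →
      a ∈ (⨆ i, Bs i) := by
    intro s
    refine UniqueFactorizationMonoid.induction_on_prime s ?_ ?_ ?_
    · intro h
      exact absurd rfl h
    · intro x hx _ a ha
      obtain ⟨y, hy⟩ := hx.exists_left_inv
      have h1 : a = algebraMap R A y * (algebraMap R A x * a) := by
        rw [← mul_assoc, ← map_mul, hy, map_one, one_mul]
      rw [h1]
      exact (⨆ i, Bs i).mul_mem (algebraMap_mem _ y) ha
    · intro s' π hs' hπ ih _ a ha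
      apply ih hs'
      obtain ⟨r, hr, hrC⟩ := hexr π hπ
      have hu : algebraMap R A π * (algebraMap R A s' * a) ∈ (⨆ i, Bs i) := by
        rw [← mul_assoc, ← map_mul]
        exact ha
      have hw : algebraMap R A r * (algebraMap R A s' * a) ∈ (⨆ i, Bs i) := hrC _
      rw [← CS_univ] at hu hw
      obtain ⟨z, hz, hzu⟩ := divides_iter Gi e Bs hinj he_mem hBs_span hBs_fix hd π r hπ hr
        Finset.univ _ hu _ hw (by ring)
      have hπ0 : algebraMap R A π ≠ 0 := fun h =>
        hπ.ne_zero (hinj (h.trans (map_zero _).symm))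
      have h2 : algebraMap R A s' * a = z := mul_left_cancel₀ hπ0 hzu
      rw [h2, ← CS_univ]
      exact hz
  rw [eq_top_iff]
  intro a _
  exact hQ (∏ j, D' j) (Finset.prod_ne_zero_iff.mpr (fun j _ => hD'0 j)) a (hpeel_all a)

end Groth.Agent.Lib.R2H7.WildGen4
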