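import Mathlib

/-!
# Witt vectors over a `p`-torsion-free, `p`-adically complete ring: `p^u W` is closed

Ghost-component estimates relating the components of a Witt vector and of its multiple by `p^u`
modulo powers of `p`, and the resulting closedness statements.
-/

set_option autoImplicit false
universe u

namespace Groth.Agent.Lib.R2H7.WittClosed

open WittVector

variable {p : ℕ} [hp : Fact p.Prime] {R : Type u} [CommRing R]

/-- The ghost component as an explicit sum. -/
theorem ghostComponent_eq_sum (n : ℕ) (x : WittVector p R) :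
    ghostComponent n x = ∑ i ∈ Finset.range (n + 1), (p : R) ^ i * x.coeff i ^ p ^ (n - i) := by
  rw [ghostComponent_apply, wittPolynomial_eq_sum_C_mul_X_pow, map_sum]
  refine Finset.sum_congr rfl (fun i _ => ?_)
  simp

/-- If the components up to `n` lie in `I`, so does the `n`-th ghost component. -/
theorem ghostComponent_mem (I : Ideal R) (n : ℕ) (x : WittVector p R)
    (hx : ∀ i ≤ n, x.coeff i ∈ I) : ghostComponent n x ∈ I := by
  rw [ghostComponent_eq_sum]
  refine Ideal.sum_mem _ (fun i hi => ?_)
  have hi' : i ≤ n := Nat.lt_succ_iff.mp (Finset.mem_range.mp hi)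
  exact Ideal.mul_mem_left _ _ (Ideal.pow_mem_of_mem _ (hx i hi') _ (pow_pos hp.out.pos _))

/-- Cancelling a power of `p` in a `p`-torsion-free ring. -/
theorem mem_span_pow_of_pow_mul_mem (hR : ∀ y : R, (p : R) * y = 0 → y = 0) (j s : ℕ) (y : R)
    (h : (p : R) ^ j * y ∈ Ideal.span {(p : R) ^ s}) : y ∈ Ideal.span {(p : R) ^ (s - j)} := by
  induction j generalizing s with
  | zero => simpa using h
  | succ j ih =>
    rcases Nat.eq_zero_or_pos s with hs | hs
    · subst hs
      simp
    · obtain ⟨s', rfl⟩ : ∃ s', s = s' + 1 := ⟨s - 1, by omega⟩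
      rw [Ideal.mem_span_singleton'] at h
      obtain ⟨c, hc⟩ := h
      have h1 : (p : R) * ((p : R) ^ j * y - c * (p : R) ^ s') = 0 := by
        have : (p : R) ^ (j + 1) * y = c * (p : R) ^ (s' + 1) := hc.symm
        rw [pow_succ, pow_succ] at this
        linear_combination this
      have h2 := hR _ h1
      have h3 : (p : R) ^ j * y ∈ Ideal.span {(p : R) ^ s'} := by
        rw [Ideal.mem_span_singleton']
        exact ⟨c, (sub_eq_zero.mp h2).symm⟩
      have := ih s' h3
      rwa [Nat.add_sub_add_right]

/-- From ghost components to components, in a `p`-torsion-free ring. -/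
theorem coeff_mem_of_ghostComponent_mem (hR : ∀ y : R, (p : R) * y = 0 → y = 0) (s : ℕ)
    (y : WittVector p R) (n : ℕ)
    (h : ∀ j ≤ n, ghostComponent j y ∈ Ideal.span {(p : R) ^ s}) :
    ∀ j ≤ n, y.coeff j ∈ Ideal.span {(p : R) ^ (s - j)} := by
  intro j
  induction j using Nat.strong_induction_on with
  | _ j ih =>
    intro hj
    have h1 := h j hj
    rw [ghostComponent_eq_sum, Finset.sum_range_succ, Nat.sub_self, pow_zero, pow_one] at h1
    have h2 : ∑ i ∈ Finset.range j, (p : R) ^ i * y.coeff i ^ p ^ (j - i) ∈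
        Ideal.span {(p : R) ^ s} := by
      refine Ideal.sum_mem _ (fun i hi => ?_)
      have hij : i < j := Finset.mem_range.mp hi
      have h3 := ih i hij (hij.le.trans hj)
      rw [Ideal.mem_span_singleton'] at h3
      obtain ⟨c, hc⟩ := h3
      have he : 1 ≤ p ^ (j - i) := Nat.one_le_pow _ _ hp.out.pos
      have hle : s ≤ i + (s - i) * p ^ (j - i) := by
        have : s - i ≤ (s - i) * p ^ (j - i) := Nat.le_mul_of_pos_right _ he
        omega
      rw [Ideal.mem_span_singleton']
      refine ⟨c ^ p ^ (j - i) * (p : R) ^ (i + (s - i) * p ^ (j - i) - s), ?_⟩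
      rw [← hc, mul_pow, ← pow_mul, mul_assoc, ← pow_add, Nat.sub_add_cancel hle, pow_add]
      ring
    have h4 : (p : R) ^ j * y.coeff j ∈ Ideal.span {(p : R) ^ s} := by
      have := Ideal.sub_mem _ h1 h2
      rwa [add_sub_cancel_left] at this
    exact mem_span_pow_of_pow_mul_mem hR j s _ h4

/-- Reduction mod `I` followed by truncation to length `m`. -/
noncomputable def tau (I : Ideal R) (m : ℕ) : WittVector p R →+* TruncatedWittVector p m (R ⧸ I) :=
  (WittVector.truncate m).comp (WittVector.map (Ideal.Quotient.mk I))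

theorem tau_eq_iff (I : Ideal R) (m : ℕ) (x x' : WittVector p R) :
    tau I m x = tau I m x' ↔ ∀ i < m, x.coeff i - x'.coeff i ∈ I := by
  unfold tau
  rw [TruncatedWittVector.ext_iff]
  constructor
  · intro h i hi
    have := h ⟨i, hi⟩
    rw [RingHom.comp_apply, RingHom.comp_apply, WittVector.coeff_truncate,
      WittVector.coeff_truncate, WittVector.map_coeff, WittVector.map_coeff] at this
    exact Ideal.Quotient.eq.mp this
  · intro h i
    rw [RingHom.comp_apply, RingHom.comp_apply, WittVector.coeff_truncate,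
      WittVector.coeff_truncate, WittVector.map_coeff, WittVector.map_coeff]
    exact Ideal.Quotient.eq.mpr (h i i.2)

theorem tau_eq_zero_iff (I : Ideal R) (m : ℕ) (x : WittVector p R) :
    tau I m x = 0 ↔ ∀ i < m, x.coeff i ∈ I := by
  rw [← map_zero (tau I m), tau_eq_iff]
  simp only [WittVector.zero_coeff, sub_zero]

theorem span_pow_le_span_pow (a b : ℕ) (h : b ≤ a) :
    Ideal.span {(p : R) ^ a} ≤ Ideal.span {(p : R) ^ b} :=
  Ideal.span_singleton_le_span_singleton.mpr (pow_dvd_pow _ h)

/-- Division estimate: if `p^u y` is small then `y` is small. -/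
theorem tau_eq_zero_of_pow_mul (hR : ∀ y : R, (p : R) * y = 0 → y = 0) (s u m : ℕ)
    (y : WittVector p R) (h : tau (Ideal.span {(p : R) ^ s}) m ((p : WittVector p R) ^ u * y) = 0) :
    tau (Ideal.span {(p : R) ^ (s - u - m)}) m y = 0 := by
  rw [tau_eq_zero_iff] at h ⊢
  intro i hi
  have h1 : ∀ j ≤ i, ghostComponent j y ∈ Ideal.span {(p : R) ^ (s - u)} := by
    intro j hj
    have h2 : ghostComponent j ((p : WittVector p R) ^ u * y) ∈ Ideal.span {(p : R) ^ s} :=
      ghostComponent_mem _ j _ (fun i' hi' => h i' (lt_of_le_of_lt (hi'.trans hj) hi))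
    rw [map_mul, map_pow, map_natCast] at h2
    exact mem_span_pow_of_pow_mul_mem hR u s _ h2
  have h3 := coeff_mem_of_ghostComponent_mem hR (s - u) y i h1 i le_rfl
  exact span_pow_le_span_pow _ _ (by omega) h3

theorem tau_eq_zero_mono (a b m : ℕ) (hab : b ≤ a) (x : WittVector p R)
    (h : tau (Ideal.span {(p : R) ^ a}) m x = 0) : tau (Ideal.span {(p : R) ^ b}) m x = 0 := by
  rw [tau_eq_zero_iff] at h ⊢
  exact fun i hi => span_pow_le_span_pow a b hab (h i hi)

theorem pow_smul_top_eq (t : ℕ) :
    ((Ideal.span {(p : R)}) ^ t • ⊤ : Submodule R R) = Ideal.span {(p : R) ^ t} := by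
  rw [Ideal.span_singleton_pow, smul_eq_mul, Ideal.mul_top]

/-- If `p^u x = a` is solvable in `W_m(R/p^s)` for all `s`, it is solvable in `W_m(R)`. -/
theorem exists_solution (hR : ∀ y : R, (p : R) * y = 0 → y = 0)
    [IsAdicComplete (Ideal.span {(p : R)}) R] (a : WittVector p R) (m u : ℕ)
    (h : ∀ s : ℕ, ∃ z : WittVector p R, ∀ i < m,
      ((p : WittVector p R) ^ u * z - a).coeff i ∈ Ideal.span {(p : R) ^ s}) :
    ∃ x : WittVector p R, ∀ i < m, ((p : WittVector p R) ^ u * x - a).coeff i = 0 := by
  choose z hz using h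
  have hz' : ∀ s, tau (Ideal.span {(p : R) ^ s}) m ((p : WittVector p R) ^ u * z s - a) = 0 :=
    fun s => (tau_eq_zero_iff _ _ _).mpr (hz s)
  set ζ : ℕ → WittVector p R := fun t => z (t + u + m) with hζ
  have hA : ∀ t, tau (Ideal.span {(p : R) ^ t}) m (ζ (t + 1)) =
      tau (Ideal.span {(p : R) ^ t}) m (ζ t) := by
    intro t
    have h1 : tau (Ideal.span {(p : R) ^ (t + u + m)}) m
        ((p : WittVector p R) ^ u * (ζ (t + 1) - ζ t)) = 0 := by
      have e : (p : WittVector p R) ^ u * (ζ (t + 1) - ζ t) =
          ((p : WittVector p R) ^ u * ζ (t + 1) - a) - ((p : WittVector p R) ^ u * ζ t - a) := by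
        ring
      rw [e, map_sub, hz' (t + u + m),
        tau_eq_zero_mono (t + 1 + u + m) (t + u + m) m (by omega) _ (hz' (t + 1 + u + m)), sub_zero]
    have h2 := tau_eq_zero_of_pow_mul hR (t + u + m) u m _ h1
    have e2 : t + u + m - u - m = t := by omega
    rw [e2, map_sub, sub_eq_zero] at h2
    exact h2
  have hB : ∀ t t', t ≤ t' → tau (Ideal.span {(p : R) ^ t}) m (ζ t') =
      tau (Ideal.span {(p : R) ^ t}) m (ζ t) := by
    intro t t' htt'
    induction t', htt' using Nat.le_induction with
    | base => rfl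
    | succ t' htt' ih =>
      rw [← ih]
      have h3 := hA t'
      rw [← sub_eq_zero, ← map_sub] at h3 ⊢
      exact tau_eq_zero_mono t' t m htt' _ h3
  have hC : ∀ i < m, ∃ L : R, ∀ t, (ζ t).coeff i - L ∈ Ideal.span {(p : R) ^ t} := by
    intro i hi
    have hcauchy : ∀ {t t' : ℕ}, t ≤ t' → (fun t => (ζ t).coeff i) t ≡ (fun t => (ζ t).coeff i) t'
        [SMOD ((Ideal.span {(p : R)}) ^ t • ⊤ : Submodule R R)] := by
      intro t t' htt'
      rw [SModEq.sub_mem, pow_smul_top_eq]
      have := (tau_eq_iff _ m _ _).mp (hB t t' htt') i hi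
      have h4 := neg_mem this
      rwa [neg_sub] at h4
    obtain ⟨L, hL⟩ := IsPrecomplete.prec (I := Ideal.span {(p : R)}) (M := R) inferInstance hcauchy
    refine ⟨L, fun t => ?_⟩
    have := hL t
    rwa [SModEq.sub_mem, pow_smul_top_eq] at this
  classical
  let L : ℕ → R := fun i => if hi : i < m then (hC i hi).choose else 0
  have hL : ∀ i (hi : i < m) t, (ζ t).coeff i - L i ∈ Ideal.span {(p : R) ^ t} := by
    intro i hi t
    have := (hC i hi).choose_spec t
    simpa only [L, dif_pos hi] using this
  refine ⟨WittVector.mk p L, fun i hi => ?_⟩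
  have hx : ∀ t, tau (Ideal.span {(p : R) ^ t}) m (ζ t) =
      tau (Ideal.span {(p : R) ^ t}) m (WittVector.mk p L) := by
    intro t
    rw [tau_eq_iff]
    intro j hj
    rw [WittVector.coeff_mk]
    exact hL j hj t
  have hfin : ∀ t, ((p : WittVector p R) ^ u * WittVector.mk p L - a).coeff i ∈
      Ideal.span {(p : R) ^ t} := by
    intro t
    have h5 : tau (Ideal.span {(p : R) ^ t}) m ((p : WittVector p R) ^ u * WittVector.mk p L - a) =
        0 := by
      rw [map_sub, map_mul, ← hx t, ← map_mul, ← map_sub]
      exact tau_eq_zero_mono (t + u + m) t m (by omega) _ (hz' (t + u + m))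
    exact (tau_eq_zero_iff _ _ _).mp h5 i hi
  apply IsHausdorff.haus (I := Ideal.span {(p : R)}) (M := R) inferInstance
  intro t
  rw [SModEq.sub_mem, pow_smul_top_eq, sub_zero]
  exact hfin t

/-- `W_m(R)` has no `p`-torsion when `R` is `p`-torsion-free and `p`-adically separated. -/
theorem coeff_eq_zero_of_pow_mul (hR : ∀ y : R, (p : R) * y = 0 → y = 0)
    [IsHausdorff (Ideal.span {(p : R)}) R] (u m : ℕ) (y : WittVector p R)
    (h : ∀ i < m, ((p : WittVector p R) ^ u * y).coeff i = 0) : ∀ i < m, y.coeff i = 0 := by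
  intro i hi
  apply IsHausdorff.haus (I := Ideal.span {(p : R)}) (M := R) inferInstance
  intro t
  rw [SModEq.sub_mem, pow_smul_top_eq, sub_zero]
  have h1 : tau (Ideal.span {(p : R) ^ (t + u + m)}) m ((p : WittVector p R) ^ u * y) = 0 := by
    rw [tau_eq_zero_iff]
    intro j hj
    rw [h j hj]
    exact Ideal.zero_mem _
  have h2 := tau_eq_zero_of_pow_mul hR (t + u + m) u m y h1
  have e2 : t + u + m - u - m = t := by omega
  rw [e2, tau_eq_zero_iff] at h2
  exact h2 i hi

/-- `p^u W` is closed for the topology defined by the ideals `I_r + W(p^s S)`. -/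
theorem iInf_eq (hR : ∀ y : R, (p : R) * y = 0 → y = 0)
    [IsAdicComplete (Ideal.span {(p : R)}) R] (u : ℕ) :
    (⨅ r : ℕ, ⨅ s : ℕ,
        Ideal.span {(p : WittVector p R) ^ u} ⊔
          RingHom.ker (WittVector.truncate (p := p) (R := R) r) ⊔
          RingHom.ker (WittVector.map (p := p) (Ideal.Quotient.mk (Ideal.span {(p : R) ^ s})))) =
      Ideal.span {(p : WittVector p R) ^ u} := by
  apply le_antisymm
  · intro a ha
    rw [Ideal.mem_iInf] at ha
    have hsol : ∀ r : ℕ, ∃ x : WittVector p R,
        ∀ i < r, ((p : WittVector p R) ^ u * x - a).coeff i = 0 := by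
      intro r
      apply exists_solution hR a r u
      intro s
      have h1 := ha r
      rw [Ideal.mem_iInf] at h1
      have h2 := h1 s
      obtain ⟨y, hy, c, hc, hyc⟩ := Submodule.mem_sup.mp h2
      obtain ⟨d, hd, b, hb, hdb⟩ := Submodule.mem_sup.mp hy
      obtain ⟨z, hz⟩ := Ideal.mem_span_singleton'.mp hd
      refine ⟨z, ?_⟩
      rw [← tau_eq_zero_iff]
      have e : (p : WittVector p R) ^ u * z - a = -(b + c) := by
        rw [← hyc, ← hdb, ← hz]
        ring
      rw [e, map_neg, map_add]
      have hb' : tau (Ideal.span {(p : R) ^ s}) r b = 0 := by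
        rw [tau_eq_zero_iff]
        intro i hi
        rw [(WittVector.mem_ker_truncate r b).mp hb i hi]
        exact Ideal.zero_mem _
      have hc' : tau (Ideal.span {(p : R) ^ s}) r c = 0 := by
        rw [tau_eq_zero_iff]
        intro i _
        have h3 := congrArg (fun w => WittVector.coeff w i) (RingHom.mem_ker.mp hc)
        simp only [WittVector.map_coeff, WittVector.zero_coeff] at h3
        exact Ideal.Quotient.eq_zero_iff_mem.mp h3
      rw [hb', hc', add_zero, neg_zero]
    choose x hx using hsol
    have hcompat : ∀ r r', r ≤ r' → ∀ i < r, (x r').coeff i = (x r).coeff i := by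
      intro r r' hrr' i hi
      have h1 : ∀ j < r, ((p : WittVector p R) ^ u * (x r' - x r)).coeff j = 0 := by
        have h2 : (p : WittVector p R) ^ u * (x r' - x r) ∈
            RingHom.ker (WittVector.truncate (p := p) (R := R) r) := by
          have e : (p : WittVector p R) ^ u * (x r' - x r) =
              ((p : WittVector p R) ^ u * x r' - a) - ((p : WittVector p R) ^ u * x r - a) := by
            ring
          rw [e]
          refine Ideal.sub_mem _ ?_ ?_
          · rw [WittVector.mem_ker_truncate]
            exact fun j hj => hx r' j (lt_of_lt_of_le hj hrr')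
          · rw [WittVector.mem_ker_truncate]
            exact fun j hj => hx r j hj
        exact (WittVector.mem_ker_truncate r _).mp h2
      have h3 := coeff_eq_zero_of_pow_mul hR u r (x r' - x r) h1
      have h4 : x r' - x r ∈ RingHom.ker (WittVector.truncate (p := p) (R := R) r) :=
        (WittVector.mem_ker_truncate r _).mpr h3
      rw [RingHom.mem_ker, map_sub, sub_eq_zero] at h4
      have h5 := congrArg (fun w => TruncatedWittVector.coeff ⟨i, hi⟩ w) h4
      simpa only [WittVector.coeff_truncate] using h5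
    let X : WittVector p R := WittVector.mk p (fun i => (x (i + 1)).coeff i)
    have hX : ∀ r, WittVector.truncate r X = WittVector.truncate r (x r) := by
      intro r
      apply TruncatedWittVector.ext
      intro i
      rw [WittVector.coeff_truncate, WittVector.coeff_truncate, WittVector.coeff_mk]
      exact (hcompat (i + 1) r i.2 i (Nat.lt_succ_self _)).symm
    have hfinal : (p : WittVector p R) ^ u * X = a := by
      rw [← sub_eq_zero]
      apply WittVector.ext
      intro i
      have h1 : WittVector.truncate (i + 1) ((p : WittVector p R) ^ u * X - a) = 0 := by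
        rw [map_sub, map_mul, hX (i + 1), ← map_mul, ← map_sub, ← RingHom.mem_ker,
          WittVector.mem_ker_truncate]
        exact hx (i + 1)
      have h2 := (WittVector.mem_ker_truncate (i + 1) _).mp (RingHom.mem_ker.mpr h1) i
        (Nat.lt_succ_self _)
      rw [h2, WittVector.zero_coeff]
    rw [Ideal.mem_span_singleton']
    exact ⟨X, by rw [mul_comm]; exact hfinal⟩
  · exact le_iInf fun r => le_iInf fun s => le_sup_of_le_left le_sup_left

end Groth.Agent.Lib.R2H7.WittClosed
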