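import Mathlib
import Groth.Prelude
import Groth.Agent.Lib.Helper26StalkLim
import Groth.Agent.Lib.R2H2StalkBC
import Groth.Agent.Lib.R2H2FibreVanish
import Groth.Agent.S9186
set_option backward.isDefEq.respectTransparency.types false

/-!
# Affineness spreads from `X ×_Y Spec O_{Y,y}` to a neighbourhood of `y` (lead, round 2)

`exists_isAffineOpen_inf_preimage`: `f : X → Y` quasi-compact quasi-separated, `V₀ ∋ y` affine, `U` a quasi-compact open of `f⁻¹V₀`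
whose preimage in `X ×_Y Spec O_{Y,y}` is affine. Then `U ∩ f⁻¹V` is affine for some affine open neighbourhood `V ⊆ V₀` of `y`.
-/

set_option autoImplicit false
set_option linter.unusedSectionVars false
set_option linter.style.haveILetI false
universe u
open CategoryTheory CategoryTheory.Limits AlgebraicGeometry TopologicalSpace Opposite

noncomputable section

namespace Groth.Agent.Lib.R2Lead.AffSpread

open Groth.Agent.Lib.Helper26.StalkLim Groth.Agent.Lib.R2H2.FibreVanish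

variable {X Y : Scheme.{u}} (f : X ⟶ Y) (y : Y) {V₀ : Y.Opens} (hV₀ : IsAffineOpen V₀) (hy₀ : y ∈ V₀)

/-- the lift `X ×_Y Spec O_{Y,y} → f⁻¹V₀` -/
abbrev φ₀ : X₁ f y ⟶ (f ⁻¹ᵁ V₀).toScheme :=
  Groth.Agent.Lib.R2H2.StalkBC.g₁ f hV₀ hy₀ (g₁ f y) (f₁ f y) (isPullback₁ f y)

theorem φ₀_ι : φ₀ f y hV₀ hy₀ ≫ (f ⁻¹ᵁ V₀).ι = g₁ f y :=
  Groth.Agent.Lib.R2H2.StalkBC.g₁_ι f hV₀ hy₀ _ _ _

theorem isPullback_φ₀ :
    IsPullback (φ₀ f y hV₀ hy₀) (f₁ f y) (Groth.Agent.Lib.R2H2.StalkBC.sV f V₀)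
      (Spec.map (Y.presheaf.germ V₀ y hy₀)) :=
  Groth.Agent.Lib.R2H2.StalkBC.isPullback_g₁ f hV₀ hy₀ _ _ _

/-- the index of `V₀` -/
abbrev i₀ : (AffNhd y)ᵒᵖ := op ⟨V₀, hV₀, hy₀⟩

local notation "sV" => Groth.Agent.Lib.R2H2.StalkBC.sV f V₀

theorem exists_isAffineOpen_inf_preimage [QuasiCompact f] [QuasiSeparated f]
    (U : (f ⁻¹ᵁ V₀).toScheme.Opens) (hUc : IsCompact (U : Set (f ⁻¹ᵁ V₀).toScheme))
    (haff : IsAffineOpen (φ₀ f y hV₀ hy₀ ⁻¹ᵁ U)) :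
    ∃ V : Y.Opens, y ∈ V ∧ V ≤ V₀ ∧ IsAffineOpen V ∧
      IsAffineOpen ((f ⁻¹ᵁ V₀).ι ''ᵁ U ⊓ f ⁻¹ᵁ V) := by
  haveI : IsFiltered (AffNhd y) := isFiltered_of_directed_le_nonempty _
  -- quasi-compactness and quasi-separatedness of `U`
  haveI : CompactSpace U.toScheme := isCompact_iff_compactSpace.mp hUc
  haveI : QuasiSeparated sV :=
    MorphismProperty.of_isPullback (P := @QuasiSeparated)
      (Groth.Agent.Lib.R2H2.StalkBC.isPullback_sV f hV₀) inferInstance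
  haveI : QuasiSeparatedSpace U.toScheme :=
    quasiSeparatedSpace_of_quasiSeparated (U.ι ≫ sV)
  haveI : IsAffine (φ₀ f y hV₀ hy₀ ⁻¹ᵁ U).toScheme := haff
  haveI : IsAffine (specCone y).pt := by
    show IsAffine (Spec _)
    infer_instance
  have hX : IsPullback (φ₀ f y hV₀ hy₀ ∣_ U) ((φ₀ f y hV₀ hy₀ ⁻¹ᵁ U).ι ≫ f₁ f y) (U.ι ≫ sV)
      ((specCone y).π.app (i₀ y hV₀ hy₀)) :=
    (isPullback_morphismRestrict (φ₀ f y hV₀ hy₀) U).paste_vert (isPullback_φ₀ f y hV₀ hy₀)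
  obtain ⟨i, φi, Xi, Yi, fi, gi, pY, pX, h1, h2, h3⟩ :=
    Groth.Agent.S9186.result (specDiagram y) (specCone y) (specIsLimit y) (i₀ y hV₀ hy₀) (U.ι ≫ sV) (𝟙 ((specDiagram y).obj (i₀ y hV₀ hy₀)))
      ((φ₀ f y hV₀ hy₀ ⁻¹ᵁ U).ι ≫ f₁ f y) (𝟙 (specCone y).pt) ((specCone y).π.app (i₀ y hV₀ hy₀)) (φ₀ f y hV₀ hy₀ ∣_ U)
      (IsPullback.id_vert _) hX
  haveI := h3
  haveI : IsIso gi := h1.isIso_snd_of_isIso (inst := IsIso.id _)
  haveI : IsAffine Yi := .of_isIso gi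
  haveI : IsAffine Xi := isAffine_of_isAffineHom fi
  have hpY : pY = gi ≫ (specDiagram y).map φi := (Category.comp_id pY).symm.trans h1.w
  have hoi : IsOpenImmersion ((specDiagram y).map φi) := by
    have : IsOpenImmersion ((specDiagram y).map φi ≫ toX y (i₀ y hV₀ hy₀)) := by
      rw [map_toX]; infer_instance
    exact IsOpenImmersion.of_comp _ (toX y (i₀ y hV₀ hy₀))
  have hoi' : IsOpenImmersion gi := inferInstance
  haveI : IsOpenImmersion pY := by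
    rw [hpY]
    exact @IsOpenImmersion.comp _ _ _ gi ((specDiagram y).map φi) hoi' hoi
  haveI : IsOpenImmersion pX :=
    MorphismProperty.of_isPullback (P := @IsOpenImmersion) h2.flip inferInstance
  have hA : IsAffineOpen ((f ⁻¹ᵁ V₀).ι ''ᵁ (U.ι ''ᵁ pX.opensRange)) :=
    ((isAffineOpen_opensRange pX).image_of_isOpenImmersion U.ι).image_of_isOpenImmersion _
  -- the key commutation `ι ≫ f = sV ≫ fromSpec`
  have hw : (f ⁻¹ᵁ V₀).ι ≫ f = sV ≫ toX y (i₀ y hV₀ hy₀) :=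
    (Groth.Agent.Lib.R2H2.StalkBC.isPullback_sV f hV₀).w
  refine ⟨i.unop.U, i.unop.mem, AffNhd.le_def.mp (leOfHom φi.unop), i.unop.isAffine, ?_⟩
  convert hA using 1
  ext z
  simp only [Opens.coe_inf, Set.mem_inter_iff, SetLike.mem_coe, Scheme.Hom.coe_preimage,
    Set.mem_preimage, Scheme.Hom.coe_image, Set.mem_image, Scheme.Hom.coe_opensRange, Set.mem_range]
  constructor
  · rintro ⟨⟨u, huU, rfl⟩, hz⟩
    -- `u : f⁻¹V₀`, `u ∈ U`, `f (ι u) ∈ V_i`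
    have h4 : f ((f ⁻¹ᵁ V₀).ι u) = toX y (i₀ y hV₀ hy₀) (sV u) := by
      change ((f ⁻¹ᵁ V₀).ι ≫ f) u = (sV ≫ toX y (i₀ y hV₀ hy₀)) u
      rw [hw]
    rw [h4, ← SetLike.mem_coe, ← range_toX y i] at hz
    obtain ⟨w, hw'⟩ := hz
    have h5 : (specDiagram y).map φi w = sV u := by
      apply (toX y (i₀ y hV₀ hy₀)).isOpenEmbedding.injective
      rw [← Scheme.Hom.comp_apply, map_toX, hw']
    obtain ⟨a, ha1, -⟩ := Scheme.exists_preimage_of_isPullback h2 (⟨u, huU⟩ : U.toScheme) (inv gi w) (by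
      rw [hpY]
      change sV u = (specDiagram y).map φi ((inv gi ≫ gi) w)
      rw [IsIso.inv_hom_id]
      exact h5.symm)
    exact ⟨u, ⟨⟨u, huU⟩, ⟨a, ha1⟩, rfl⟩, rfl⟩
  · rintro ⟨u, ⟨u', ⟨a, rfl⟩, rfl⟩, rfl⟩
    refine ⟨⟨U.ι (pX a), (pX a).2, rfl⟩, ?_⟩
    have h4 : f ((f ⁻¹ᵁ V₀).ι (U.ι (pX a))) = toX y i (gi (fi a)) := by
      change ((f ⁻¹ᵁ V₀).ι ≫ f) (U.ι (pX a)) = _
      rw [hw]
      change toX y (i₀ y hV₀ hy₀) ((pX ≫ U.ι ≫ sV) a) = _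
      rw [h2.w, hpY, ← map_toX y φi]
      rfl
    rw [h4, ← SetLike.mem_coe, ← range_toX y i]
    exact ⟨_, rfl⟩

end Groth.Agent.Lib.R2Lead.AffSpread
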