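import Mathlib
import Groth.Prelude
import Groth.Agent.Lib.Helper13QcqsBC
import Groth.Agent.Lib.Helper23PB
set_option backward.isDefEq.respectTransparency.types false

/-!
# Spreading out sections along a localization-like flat base change (lead, round 2)

`exists_spread`: in a cartesian square with affine bases `S' → S` such that every function on `S'` is a fraction of functions on `S`
with invertible denominator (e.g. `Spec O_{Y,y} → Spec Γ(Y, V)`), every global section of `g'^* F` becomes, after multiplication by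
a unit, the pullback of a global section of `F` (`F` quasi-coherent, `f` quasi-compact quasi-separated, `g` flat).
-/

set_option autoImplicit false
set_option linter.unusedSectionVars false
set_option linter.style.haveILetI false
universe u
open CategoryTheory CategoryTheory.Limits AlgebraicGeometry TopologicalSpace Opposite TensorProduct

noncomputable section

namespace Groth.Agent.Lib.R2Lead.Spread

open Scheme.Modules Groth.Agent.Helper13QcqsBC Groth.Agent.Helper13PullbackUnit Groth.Agent.Helper13AffBC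
  Groth.Agent.Helper13FlatMV Groth.Agent.Lib.Helper6

variable {X S X' S' : Scheme.{u}} (f : X ⟶ S) (g : S' ⟶ S) (g' : X' ⟶ X) (f' : X' ⟶ S')
  (h : IsPullback g' f' f g) (F : X.Modules)

theorem top_le_preimage_top {A B : Scheme.{u}} (k : A ⟶ B) : (⊤ : A.Opens) ≤ k ⁻¹ᵁ ⊤ := fun _ _ => trivial

/-- algebraic core: elements of a base change along a localization-like map are fractions -/
theorem exists_smul_eq_one_tmul {R R' : Type u} [CommRing R] [CommRing R'] [Algebra R R']
    {N : Type u} [AddCommGroup N] [Module R N]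
    (hloc : ∀ r' : R', ∃ β a : R, IsUnit (algebraMap R R' β) ∧ algebraMap R R' β * r' = algebraMap R R' a)
    (x : R' ⊗[R] N) :
    ∃ (β : R) (n : N), IsUnit (algebraMap R R' β) ∧ algebraMap R R' β • x = (1 : R') ⊗ₜ[R] n := by
  induction x using TensorProduct.induction_on with
  | zero => exact ⟨1, 0, by rw [map_one]; exact isUnit_one, by rw [smul_zero, tmul_zero]⟩
  | tmul r' m =>
    obtain ⟨β, a, hβ, hβa⟩ := hloc r'
    refine ⟨β, a • m, hβ, ?_⟩
    rw [TensorProduct.smul_tmul', smul_eq_mul, hβa, Algebra.algebraMap_eq_smul_one, TensorProduct.smul_tmul]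
  | add x x' hx hx' =>
    obtain ⟨β, n, hβ, hx⟩ := hx
    obtain ⟨β', n', hβ', hx'⟩ := hx'
    refine ⟨β * β', β' • n + β • n', ?_, ?_⟩
    · rw [map_mul]; exact hβ.mul hβ'
    · have e1 : algebraMap R R' β' • ((1 : R') ⊗ₜ[R] n) = (1 : R') ⊗ₜ[R] (β' • n) := by
        rw [TensorProduct.smul_tmul', smul_eq_mul, mul_one, Algebra.algebraMap_eq_smul_one,
          TensorProduct.smul_tmul]
      have e2 : algebraMap R R' β • ((1 : R') ⊗ₜ[R] n') = (1 : R') ⊗ₜ[R] (β • n') := by
        rw [TensorProduct.smul_tmul', smul_eq_mul, mul_one, Algebra.algebraMap_eq_smul_one,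
          TensorProduct.smul_tmul]
      rw [smul_add, map_mul, mul_smul, smul_comm, hx, mul_smul, hx', tmul_add, e1, e2]

include h in
/-- **spreading out sections**: every global section of `g'^* F` is, up to a unit, pulled back from `X` -/
theorem exists_spread [F.IsQuasicoherent] [IsAffine S] [IsAffine S'] [QuasiCompact f]
    [QuasiSeparated f] [Flat g]
    (hloc : ∀ r' : Γ(S', ⊤), ∃ β a : Γ(S, ⊤),
      IsUnit ((g.appLE ⊤ ⊤ (top_le_preimage_top g)).hom β) ∧
        (g.appLE ⊤ ⊤ (top_le_preimage_top g)).hom β * r' =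
          (g.appLE ⊤ ⊤ (top_le_preimage_top g)).hom a)
    (σ : Γ((Scheme.Modules.pullback g').obj F, ⊤)) :
    ∃ (α' : Γ(X', ⊤)) (τ : Γ(F, ⊤)), IsUnit α' ∧
      α' • σ = unitSec g' F (top_le_preimage_top g') τ := by
  have hle := top_le_preimage_top g
  have hflat : (g.appLE ⊤ ⊤ hle).hom.Flat :=
    g.flat_appLE (isAffineOpen_top S) (isAffineOpen_top S') hle
  have hW : (⊤ : X.Opens) ≤ f ⁻¹ᵁ ⊤ := top_le_preimage_top f
  have hc : IsCompact ((⊤ : X.Opens) : Set X) := f.isCompact_preimage (isAffineOpen_top S).isCompact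
  have hK := KBij_of_qcqs f g g' f' h F hle (isAffineOpen_top S) (isAffineOpen_top S') hflat
    (f.isQuasiSeparated_preimage (isAffineOpen_top S).isQuasiSeparated) ⊤ hc hW
  letI : Algebra Γ(S, ⊤) Γ(S', ⊤) := (g.appLE ⊤ ⊤ hle).hom.toAlgebra
  have hVp : (⊤ : X'.Opens) ≤ Vp g' f' ⊤ ⊤ := fun x _ => ⟨trivial, trivial⟩
  obtain ⟨x, hx⟩ := hK.2 (res ((Scheme.Modules.pullback g').obj F) (le_top : Vp g' f' ⊤ ⊤ ≤ ⊤) σ)
  obtain ⟨β, τ, hβ, hβx⟩ := exists_smul_eq_one_tmul (R := Γ(S, ⊤)) (R' := Γ(S', ⊤)) hloc x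
  refine ⟨(f'.appLE ⊤ ⊤ (top_le_preimage_top f')).hom ((g.appLE ⊤ ⊤ hle).hom β), τ, hβ.map _, ?_⟩
  have h1 := congrArg (kap (R := Γ(S, ⊤)) (R' := Γ(S', ⊤))
    (uW f g' f' F hW (inf_le_left : Vp g' f' ⊤ ⊤ ≤ g' ⁻¹ᵁ ⊤) inf_le_right)
    (uW_smul f g g' f' h F hle hW inf_le_left inf_le_right)) hβx
  rw [LinearMap.map_smul, hx, kap_tmul, one_smul] at h1
  have h2 := congrArg (res ((Scheme.Modules.pullback g').obj F) hVp) h1
  rw [SecR.smul_def] at h2
  have e1 : res ((Scheme.Modules.pullback g').obj F) hVp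
      ((uW f g' f' F hW (inf_le_left : Vp g' f' ⊤ ⊤ ≤ g' ⁻¹ᵁ ⊤) inf_le_right) τ) =
      unitSec g' F (top_le_preimage_top g') τ := by
    change res ((Scheme.Modules.pullback g').obj F) hVp (unitSec g' F inf_le_left τ) = _
    rw [unitSec_res g' F inf_le_left (top_le_preimage_top g') (le_refl (⊤ : X.Opens)) hVp τ, res_self]
  have e2 : res ((Scheme.Modules.pullback g').obj F) hVp
      (res ((Scheme.Modules.pullback g').obj F) (le_top : Vp g' f' ⊤ ⊤ ≤ ⊤) σ) = σ := by
    rw [res_res, res_self]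
  rw [e1] at h2
  rw [← h2, res_smul]
  congr 1
  · change _ = (f'.appLE ⊤ (Vp g' f' ⊤ ⊤) inf_le_right ≫ X'.presheaf.map (homOfLE hVp).op).hom
      ((g.appLE ⊤ ⊤ hle).hom β)
    rw [Scheme.Hom.appLE_map]
  · exact e2.symm

end Groth.Agent.Lib.R2Lead.Spread
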