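import Mathlib
import Groth.Prelude
import Groth.Agent.Lib.R2LeadSpread
import Groth.Agent.Lib.R2LeadAffSpread
import Groth.Agent.Lib.Helper12AffineDescent
import Groth.Agent.Lib.H9ZarLocal
set_option backward.isDefEq.respectTransparency.types false

/-!
# Spreading out sections from `X ×_Y Spec O_{Y,y}` (lead, round 2)
-/

set_option autoImplicit false
set_option linter.unusedSectionVars false
set_option linter.style.haveILetI false
universe u
open CategoryTheory CategoryTheory.Limits AlgebraicGeometry TopologicalSpace Opposite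

noncomputable section

namespace Groth.Agent.Lib.R2Lead.AffSpread

open Groth.Agent.Lib.Helper26.StalkLim Groth.Agent.Lib.R2H2.FibreVanish Groth.Agent.Helper13PullbackUnit
  Groth.Agent.Lib.R2Lead.Spread

variable {X Y : Scheme.{u}} (f : X ⟶ Y) (y : Y) {V₀ : Y.Opens} (hV₀ : IsAffineOpen V₀) (hy₀ : y ∈ V₀)

include hV₀ in
theorem flat_specMap_germ : Flat (Spec.map (Y.presheaf.germ V₀ y hy₀)) := by
  rw [Flat.SpecMap_iff]
  let _ := TopCat.Presheaf.algebra_section_stalk Y.presheaf (⟨y, hy₀⟩ : V₀)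
  have := hV₀.isLocalization_stalk ⟨y, hy₀⟩
  exact IsLocalization.flat (Y.presheaf.stalk y) (hV₀.primeIdealOf ⟨y, hy₀⟩).asIdeal.primeCompl

include hV₀ in
/-- functions on `Spec O_{Y,y}` are fractions of functions on `Spec Γ(Y, V₀)` -/
theorem hloc_germ (r' : Γ(Spec (Y.presheaf.stalk y), ⊤)) :
    ∃ β a : Γ(Spec (CommRingCat.of Γ(Y, V₀)), ⊤),
      IsUnit (((Spec.map (Y.presheaf.germ V₀ y hy₀)).appLE ⊤ ⊤ (top_le_preimage_top _)).hom β) ∧
        ((Spec.map (Y.presheaf.germ V₀ y hy₀)).appLE ⊤ ⊤ (top_le_preimage_top _)).hom β * r' =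
          ((Spec.map (Y.presheaf.germ V₀ y hy₀)).appLE ⊤ ⊤ (top_le_preimage_top _)).hom a := by
  rw [Groth.Agent.Lib.Helper12.appLE_top_top]
  let _ := TopCat.Presheaf.algebra_section_stalk Y.presheaf (⟨y, hy₀⟩ : V₀)
  have hloc := hV₀.isLocalization_stalk ⟨y, hy₀⟩
  obtain ⟨⟨a, b⟩, hab⟩ := IsLocalization.surj (hV₀.primeIdealOf ⟨y, hy₀⟩).asIdeal.primeCompl
    ((Scheme.ΓSpecIso (Y.presheaf.stalk y)).hom.hom r')
  have hbu : IsUnit (Y.presheaf.germ V₀ y hy₀ b.1) :=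
    IsLocalization.map_units (Y.presheaf.stalk y) b
  have hnat : ∀ t : Γ(Y, V₀),
      (Spec.map (Y.presheaf.germ V₀ y hy₀)).appTop.hom ((Scheme.ΓSpecIso (CommRingCat.of Γ(Y, V₀))).inv.hom t) =
        (Scheme.ΓSpecIso (Y.presheaf.stalk y)).inv.hom (Y.presheaf.germ V₀ y hy₀ t) := by
    intro t
    have := congrArg (fun k => k.hom t) (Scheme.ΓSpecIso_inv_naturality (Y.presheaf.germ V₀ y hy₀))
    exact this.symm
  refine ⟨(Scheme.ΓSpecIso (CommRingCat.of Γ(Y, V₀))).inv.hom b.1,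
    (Scheme.ΓSpecIso (CommRingCat.of Γ(Y, V₀))).inv.hom a, ?_, ?_⟩
  · rw [hnat]
    exact hbu.map _
  · rw [hnat, hnat]
    apply (ConcreteCategory.bijective_of_isIso (Scheme.ΓSpecIso (Y.presheaf.stalk y)).hom).1
    rw [map_mul]
    have e : ∀ t : Y.presheaf.stalk y, (Scheme.ΓSpecIso (Y.presheaf.stalk y)).hom.hom
        ((Scheme.ΓSpecIso (Y.presheaf.stalk y)).inv.hom t) = t := fun t => by
      have := congrArg (fun k => k.hom t) (Scheme.ΓSpecIso (Y.presheaf.stalk y)).inv_hom_id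
      exact this
    erw [e, e]
    rw [mul_comm]
    exact hab

/-- **spreading out sections**: a global section of `φ₀^* F` on `X ×_Y Spec O_{Y,y}` is, up to a unit, the pullback of a global
section of `F` on `f⁻¹V₀` -/
theorem exists_spread_stalk [QuasiCompact f] [QuasiSeparated f] (F : (f ⁻¹ᵁ V₀).toScheme.Modules)
    [F.IsQuasicoherent] (σ : Γ((Scheme.Modules.pullback (φ₀ f y hV₀ hy₀)).obj F, ⊤)) :
    ∃ (α' : Γ(X₁ f y, ⊤)) (τ : Γ(F, ⊤)), IsUnit α' ∧
      α' • σ = unitSec (φ₀ f y hV₀ hy₀) F (top_le_preimage_top _) τ := by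
  haveI := flat_specMap_germ y hV₀ hy₀
  haveI : QuasiCompact (Groth.Agent.Lib.R2H2.StalkBC.sV f V₀) :=
    MorphismProperty.of_isPullback (P := @QuasiCompact)
      (Groth.Agent.Lib.R2H2.StalkBC.isPullback_sV f hV₀) inferInstance
  haveI : QuasiSeparated (Groth.Agent.Lib.R2H2.StalkBC.sV f V₀) :=
    MorphismProperty.of_isPullback (P := @QuasiSeparated)
      (Groth.Agent.Lib.R2H2.StalkBC.isPullback_sV f hV₀) inferInstance
  exact exists_spread (Groth.Agent.Lib.R2H2.StalkBC.sV f V₀) (Spec.map (Y.presheaf.germ V₀ y hy₀))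
    (φ₀ f y hV₀ hy₀) (f₁ f y) (isPullback_φ₀ f y hV₀ hy₀) F (hloc_germ y hV₀ hy₀) σ

end Groth.Agent.Lib.R2Lead.AffSpread
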