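import Groth.Prelude.Def_Algz
import Groth.Agent.S0835
import Groth.Agent.S9552
import Groth.Agent.Lib.R2LeadCohFormalA
import Groth.Agent.Lib.R2H2PdSheaf
import Groth.Agent.Lib.Helper23QCohLocal

set_option autoImplicit false
set_option linter.style.haveILetI false
universe v u
open CategoryTheory CategoryTheory.Limits AlgebraicGeometry Opposite

namespace Groth.Agent.Lib.R2LeadAlgzA

/-! ### pro-isomorphisms -/

section Pro

variable {C : Type*} [Category C] {D : Type*} [Category D]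

theorem isProIsomorphic_of_iso_left {X X' Y : ARSys.PS C} (e : X ≅ X')
    (h : Algz.IsProIsomorphic X Y) : Algz.IsProIsomorphic X' Y := by
  obtain ⟨m, hm, hle, a, ha⟩ := h
  refine ⟨m, hm, hle, Functor.whiskerLeft (Monotone.functor hm).op e.inv ≫ a, ?_⟩
  intro n
  obtain ⟨M, hnM, b, hb1, hb2⟩ := ha n
  let bX : Y.obj (op M) ⟶ X.obj (op (m n)) := b
  let aM : X.obj (op (m M)) ⟶ Y.obj (op M) := a.app (op M)
  let an : X.obj (op (m n)) ⟶ Y.obj (op n) := a.app (op n)
  have hb1' : aM ≫ bX = X.map (homOfLE (hm hnM)).op := hb1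
  have hb2' : bX ≫ an = Y.map (homOfLE hnM).op := hb2
  refine ⟨M, hnM, bX ≫ e.hom.app (op (m n)), ?_, ?_⟩
  · change (e.inv.app (op (m M)) ≫ aM) ≫ bX ≫ e.hom.app (op (m n)) =
      X'.map (homOfLE (hm hnM)).op
    calc (e.inv.app (op (m M)) ≫ aM) ≫ bX ≫ e.hom.app (op (m n))
        = e.inv.app (op (m M)) ≫ (aM ≫ bX) ≫ e.hom.app (op (m n)) := by
          simp only [Category.assoc]
      _ = e.inv.app (op (m M)) ≫ X.map (homOfLE (hm hnM)).op ≫ e.hom.app (op (m n)) := by
          rw [hb1']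
      _ = e.inv.app (op (m M)) ≫ e.hom.app (op (m M)) ≫ X'.map (homOfLE (hm hnM)).op := by
          rw [e.hom.naturality]
      _ = X'.map (homOfLE (hm hnM)).op := Iso.inv_hom_id_app_assoc e _ _
  · change (bX ≫ e.hom.app (op (m n))) ≫ (e.inv.app (op (m n)) ≫ an) = Y.map (homOfLE hnM).op
    calc (bX ≫ e.hom.app (op (m n))) ≫ (e.inv.app (op (m n)) ≫ an)
        = bX ≫ (e.hom.app (op (m n)) ≫ e.inv.app (op (m n))) ≫ an := by
          simp only [Category.assoc]
      _ = bX ≫ an := by rw [Iso.hom_inv_id_app, Category.id_comp]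
      _ = Y.map (homOfLE hnM).op := hb2'

theorem isProIsomorphic_map (Φ : C ⥤ D) {X Y : ARSys.PS C}
    (h : Algz.IsProIsomorphic X Y) : Algz.IsProIsomorphic (X ⋙ Φ) (Y ⋙ Φ) := by
  obtain ⟨m, hm, hle, a, ha⟩ := h
  refine ⟨m, hm, hle, Functor.whiskerRight a Φ, ?_⟩
  intro n
  obtain ⟨M, hnM, b, hb1, hb2⟩ := ha n
  refine ⟨M, hnM, Φ.map b, ?_, ?_⟩
  · change Φ.map (a.app (op M)) ≫ Φ.map b = Φ.map _
    rw [← Φ.map_comp]
    exact congrArg Φ.map hb1
  · change Φ.map b ≫ Φ.map (a.app (op n)) = Φ.map _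
    rw [← Φ.map_comp]
    exact congrArg Φ.map hb2

end Pro

/-! ### iso-invariance of coherent formal modules -/

section Coh

open Groth.Agent.Lib.R2Lead.CohFormalA Groth.Agent.Lib.R2H2.FlatDev

variable {A : Type u} [CommRing A] {X : Scheme.{u}} [X.Over (Spec (CommRingCat.of A))]

theorem isCohFormal_of_iso (I : Ideal A) {G G' : ℕᵒᵖ ⥤ X.Modules} (e : G ≅ G')
    (hG : Formal.IsCohFormal I G) : Formal.IsCohFormal I G' := by
  have hk' : ∀ n, Formal.KilledBy (I ^ (n + 1)) (G'.obj (op n)) := fun n =>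
    killedBy_of_epi (e.hom.app (op n)) (hG.2.1 n)
  refine ⟨fun n => Groth.Agent.Lib.R2H2.PdSheaf.isCoh_of_iso (e.app (op n)) (hG.1 n), hk', ?_⟩
  intro n
  obtain ⟨h, hiso⟩ := hG.2.2 n
  refine ⟨smulFamily_comp_eq_zero_of_killedBy _ (hk' n), ?_⟩
  change IsIso (descJ (I ^ (n + 1)) (G'.map (homOfLE (Nat.le_succ n)).op) (hk' n))
  have hnat : G'.map (homOfLE (Nat.le_succ n)).op =
      e.inv.app (op (n + 1)) ≫ G.map (homOfLE (Nat.le_succ n)).op ≫ e.hom.app (op n) := by
    rw [e.hom.naturality, Iso.inv_hom_id_app_assoc]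
  haveI : Epi (G.map (homOfLE (Nat.le_succ n)).op) := by
    have : G.map (homOfLE (Nat.le_succ n)).op = cokernel.π _ ≫ cokernel.desc _ _ h :=
      (cokernel.π_desc _ _ h).symm
    rw [this]
    haveI : Epi (cokernel.desc _ _ h) := @IsIso.epi_of_iso _ _ _ _ _ hiso
    exact epi_comp _ _
  haveI : Epi (G'.map (homOfLE (Nat.le_succ n)).op) := by
    rw [hnat]
    infer_instance
  apply isIso_descJ
  obtain ⟨d, hd⟩ : ∃ d : modJ (I ^ (n + 1)) (G.obj (op (n + 1))) ⟶ G.obj (op n),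
      d = cokernel.desc _ _ h := ⟨_, rfl⟩
  haveI : IsIso d := hd ▸ hiso
  refine ⟨e.inv.app (op n) ≫ inv d ≫
    modJMap (I ^ (n + 1)) (e.hom.app (op (n + 1))), ?_⟩
  obtain ⟨tG, htG⟩ : ∃ tG : G.obj (op (n + 1)) ⟶ G.obj (op n),
      tG = G.map (homOfLE (Nat.le_succ n)).op := ⟨_, rfl⟩
  have h1 : tG ≫ inv d = πJ (I ^ (n + 1)) (G.obj (op (n + 1))) := by
    rw [IsIso.comp_inv_eq, hd, htG]
    exact (cokernel.π_desc _ _ h).symm
  have h2 : πJ (I ^ (n + 1)) (G.obj (op (n + 1))) ≫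
      modJMap (I ^ (n + 1)) (e.hom.app (op (n + 1))) =
      e.hom.app (op (n + 1)) ≫ πJ (I ^ (n + 1)) (G'.obj (op (n + 1))) := πJ_modJMap _ _
  rw [hnat, ← htG]
  change (e.inv.app (op (n + 1)) ≫ tG ≫ e.hom.app (op n)) ≫ e.inv.app (op n) ≫ inv d ≫
    modJMap (I ^ (n + 1)) (e.hom.app (op (n + 1))) = πJ (I ^ (n + 1)) (G'.obj (op (n + 1)))
  calc (e.inv.app (op (n + 1)) ≫ tG ≫ e.hom.app (op n)) ≫ e.inv.app (op n) ≫ inv d ≫
        modJMap (I ^ (n + 1)) (e.hom.app (op (n + 1)))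
      = e.inv.app (op (n + 1)) ≫ tG ≫ (e.hom.app (op n) ≫ e.inv.app (op n)) ≫ inv d ≫
        modJMap (I ^ (n + 1)) (e.hom.app (op (n + 1))) := by simp only [Category.assoc]
    _ = e.inv.app (op (n + 1)) ≫ (tG ≫ inv d) ≫
        modJMap (I ^ (n + 1)) (e.hom.app (op (n + 1))) := by
          rw [Iso.hom_inv_id_app, Category.id_comp, Category.assoc]
    _ = e.inv.app (op (n + 1)) ≫ e.hom.app (op (n + 1)) ≫
        πJ (I ^ (n + 1)) (G'.obj (op (n + 1))) := by rw [h1, h2]
    _ = πJ (I ^ (n + 1)) (G'.obj (op (n + 1))) := Iso.inv_hom_id_app_assoc e _ _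

end Coh

/-! ### restriction to an open, and the system of sections -/

section Restr

variable {A : Type u} [CommRing A]

theorem isCohFormal_restrict (I : Ideal A) {X Y : Scheme.{u}}
    [X.Over (Spec (CommRingCat.of A))] [Y.Over (Spec (CommRingCat.of A))]
    [AlgebraicGeometry.IsNoetherian X] [AlgebraicGeometry.IsNoetherian Y]
    (f : X ⟶ Y) [IsOpenImmersion f]
    (hf : f ≫ (Y ↘ Spec (CommRingCat.of A)) = X ↘ Spec (CommRingCat.of A))
    (G : ℕᵒᵖ ⥤ Y.Modules) (hG : Formal.IsCohFormal I G) :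
    Formal.IsCohFormal I (G ⋙ Scheme.Modules.restrictFunctor f) :=
  isCohFormal_of_iso I
    (Functor.isoWhiskerLeft G (Scheme.Modules.restrictFunctorIsoPullback f)).symm
    (Groth.Agent.S0835.result A I X Y f hf G hG)

theorem isIso_fromTildeΓNatTrans_app (M : (Spec (CommRingCat.of A)).Modules)
    [M.IsQuasicoherent] :
    IsIso ((Scheme.Modules.fromTildeΓNatTrans (R := CommRingCat.of A)).app M) :=
  Scheme.Modules.isIso_fromTildeΓ_of_isQuasicoherent M

/-- the system of sections, restricted back to `U`, is the original system (quasi-coherent terms). -/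
noncomputable def sectSysRestrictIso [IsNoetherianRing A] (U : (Spec (CommRingCat.of A)).Opens)
    (G : ℕᵒᵖ ⥤ (U : Scheme.{u}).Modules) (hG : ∀ n, (G.obj n).IsQuasicoherent) :
    Algz.sectSys A U G ⋙ Scheme.Modules.restrictFunctor U.ι ≅ G := by
  have key : ∀ n, IsIso ((Functor.whiskerLeft (G ⋙ Scheme.Modules.pushforward U.ι)
      (Scheme.Modules.fromTildeΓNatTrans (R := CommRingCat.of A))).app n) := by
    intro n
    haveI := hG n
    have hq : ((Scheme.Modules.pushforward U.ι).obj (G.obj n)).IsQuasicoherent :=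
      Groth.Agent.Lib.Helper23.QCohLocal.isQuasicoherent_pushforward U.ι (G.obj n)
    rw [Functor.whiskerLeft_app]
    exact @isIso_fromTildeΓNatTrans_app _ _ ((Scheme.Modules.pushforward U.ι).obj (G.obj n)) hq
  haveI : IsIso (Functor.whiskerLeft (G ⋙ Scheme.Modules.pushforward U.ι)
      (Scheme.Modules.fromTildeΓNatTrans (R := CommRingCat.of A))) :=
    @NatIso.isIso_of_isIso_app _ _ _ _ _ _ _ key
  exact Functor.isoWhiskerRight (asIso (Functor.whiskerLeft (G ⋙ Scheme.Modules.pushforward U.ι)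
      (Scheme.Modules.fromTildeΓNatTrans (R := CommRingCat.of A)))) _ ≪≫
    Functor.isoWhiskerLeft G (Scheme.Modules.restrictFunctorAdjCounitIso U.ι) ≪≫
    Functor.rightUnitor G

/-- canonical extension implies extension (EGA-style (5) ⇒ (6)). -/
theorem extends_of_canonicallyExtends [IsNoetherianRing A] (I : Ideal A)
    (U : (Spec (CommRingCat.of A)).Opens) (G : ℕᵒᵖ ⥤ (U : Scheme.{u}).Modules)
    (hG : Formal.IsCohFormal I G) (h : Algz.CanonicallyExtends A I U G) :
    @Algz.Extends A _ (Spec (CommRingCat.of A)) ⟨𝟙 (Spec (CommRingCat.of A))⟩ I U G := by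
  letI : (Spec (CommRingCat.of A)).Over (Spec (CommRingCat.of A)) := ⟨𝟙 _⟩
  haveI : CompactSpace ↥(U : Scheme.{u}) :=
    isCompact_iff_compactSpace.mp
      (TopologicalSpace.NoetherianSpace.isCompact (U : Set (Spec (CommRingCat.of A))))
  haveI : AlgebraicGeometry.IsNoetherian (U : Scheme.{u}) := { }
  obtain ⟨G', hG', hpro⟩ := h
  refine ⟨G', hG', ?_⟩
  have hres : Formal.IsCohFormal I (Algz.restrictSys U G') :=
    isCohFormal_restrict I U.ι (Category.comp_id _) G' hG'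
  have h1 : Algz.IsProIsomorphic (Algz.sectSys A U G ⋙ Scheme.Modules.restrictFunctor U.ι)
      (Algz.restrictSys U G') := isProIsomorphic_map _ hpro
  have h2 : Algz.IsProIsomorphic G (Algz.restrictSys U G') :=
    isProIsomorphic_of_iso_left (sectSysRestrictIso U G (fun n => (hG.1 n.unop).1)) h1
  obtain ⟨e⟩ := Groth.Agent.S9552.result A I U G (Algz.restrictSys U G') hG hres h2
  exact ⟨e.symm⟩

end Restr

end Groth.Agent.Lib.R2LeadAlgzA
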