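import Groth.Prelude.Def_Algz
import Groth.Agent.Lib.Helper17ARSys3

set_option autoImplicit false
set_option linter.style.haveILetI false
universe v u
open CategoryTheory CategoryTheory.Limits Opposite

namespace Groth.Agent.Lib.R2LeadAlgzB

section Pro

variable {C : Type*} [Category C]

lemma map_le_comp (X : ARSys.PS C) {i j k : ℕ} (h1 : i ≤ j) (h2 : j ≤ k) :
    X.map (homOfLE h2).op ≫ X.map (homOfLE h1).op = X.map (homOfLE (h1.trans h2)).op := by
  rw [← X.map_comp]; rfl

lemma map_le_comp_assoc (X : ARSys.PS C) {i j k : ℕ} (h1 : i ≤ j) (h2 : j ≤ k) {Z : C}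
    (f : X.obj (op i) ⟶ Z) :
    X.map (homOfLE h2).op ≫ X.map (homOfLE h1).op ≫ f = X.map (homOfLE (h1.trans h2)).op ≫ f := by
  rw [← Category.assoc, map_le_comp]

/-- explicit data of a pro-isomorphism -/
structure PD (S T : ARSys.PS C) where
  m : ℕ → ℕ
  hm : Monotone m
  hle : ∀ n, n ≤ m n
  a : ∀ n, S.obj (op (m n)) ⟶ T.obj (op n)
  nat : ∀ {i j : ℕ} (h : i ≤ j), S.map (homOfLE (hm h)).op ≫ a i = a j ≫ T.map (homOfLE h).op
  p : ℕ → ℕ
  hp : ∀ n, n ≤ p n
  b : ∀ n, T.obj (op (p n)) ⟶ S.obj (op (m n))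
  hb1 : ∀ n, a (p n) ≫ b n = S.map (homOfLE (hm (hp n))).op
  hb2 : ∀ n, b n ≫ a n = T.map (homOfLE (hp n)).op

theorem exists_pd {S T : ARSys.PS C} (h : Algz.IsProIsomorphic S T) : Nonempty (PD S T) := by
  obtain ⟨m, hm, hle, a, ha⟩ := h
  choose p hp b hb1 hb2 using ha
  exact ⟨{ m := m, hm := hm, hle := hle, a := fun n => a.app (op n),
           nat := fun {i j} h => (a.naturality (homOfLE h).op),
           p := p, hp := hp, b := b, hb1 := hb1, hb2 := hb2 }⟩

namespace PD

variable {S T : ARSys.PS C} (d : PD S T)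

/-- the key compatibility of the `b`'s -/
lemma key (n P : ℕ) (h : d.p n ≤ P) :
    T.map (homOfLE (h.trans (d.hp P))).op ≫ d.b n =
      d.b P ≫ S.map (homOfLE (d.hm ((d.hp n).trans h))).op := by
  calc T.map (homOfLE (h.trans (d.hp P))).op ≫ d.b n
      = (T.map (homOfLE (d.hp P)).op ≫ T.map (homOfLE h).op) ≫ d.b n := by rw [map_le_comp]
    _ = ((d.b P ≫ d.a P) ≫ T.map (homOfLE h).op) ≫ d.b n := by rw [d.hb2]
    _ = d.b P ≫ (d.a P ≫ T.map (homOfLE h).op) ≫ d.b n := by simp only [Category.assoc]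
    _ = d.b P ≫ (S.map (homOfLE (d.hm h)).op ≫ d.a (d.p n)) ≫ d.b n := by rw [d.nat h]
    _ = d.b P ≫ S.map (homOfLE (d.hm h)).op ≫ (d.a (d.p n) ≫ d.b n) := by
        simp only [Category.assoc]
    _ = d.b P ≫ S.map (homOfLE (d.hm h)).op ≫ S.map (homOfLE (d.hm (d.hp n))).op := by
        rw [d.hb1]
    _ = d.b P ≫ S.map (homOfLE (d.hm ((d.hp n).trans h))).op := by rw [map_le_comp]

/-- the map `T_{p n} ⟶ S_n` -/
def c (n : ℕ) : T.obj (op (d.p n)) ⟶ S.obj (op n) := d.b n ≫ S.map (homOfLE (d.hle n)).op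

lemma key_c (n P : ℕ) (h : d.p n ≤ P) :
    T.map (homOfLE (h.trans (d.hp P))).op ≫ d.c n =
      d.b P ≫ S.map (homOfLE ((d.hle n).trans (d.hm ((d.hp n).trans h)))).op := by
  unfold c
  rw [← Category.assoc, d.key n P h, Category.assoc, map_le_comp]

end PD

end Pro

section ML

variable {C : Type u} [Category.{v} C] [Abelian C]

open Groth.Agent.Lib.Helper17.ARSys3

theorem isML_of_pd_strict {S T : ARSys.PS C} (d : PD S T) (hT : ARSys.IsStrict T) :
    ARSys.IsML S := by
  intro n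
  have main : ∀ s : ℕ, d.m (d.p n) ≤ s →
      imageSubobject (ARSys.shiftMap S s n) = imageSubobject (d.c n) := by
    intro s hs
    have hs' : d.m (d.p n) ≤ n + s := hs.trans (Nat.le_add_left s n)
    have e0 : ARSys.shiftMap S s n = S.map (homOfLE (Nat.le_add_right n s)).op := rfl
    apply le_antisymm
    · have e : ARSys.shiftMap S s n =
          (S.map (homOfLE hs').op ≫ d.a (d.p n)) ≫ d.c n := by
        unfold PD.c
        calc ARSys.shiftMap S s n
            = S.map (homOfLE hs').op ≫ S.map (homOfLE (d.hm (d.hp n))).op ≫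
                S.map (homOfLE (d.hle n)).op := by
              rw [map_le_comp, map_le_comp, e0]
          _ = S.map (homOfLE hs').op ≫ (d.a (d.p n) ≫ d.b n) ≫ S.map (homOfLE (d.hle n)).op := by
              rw [d.hb1]
          _ = _ := by simp only [Category.assoc]
      rw [e]
      exact imageSubobject_comp_le _ _
    · -- P = n + s
      have hP : d.p n ≤ n + s := (d.hle (d.p n)).trans hs'
      haveI : Epi (T.map (homOfLE (hP.trans (d.hp (n + s)))).op) := hT _ _ _
      have e : T.map (homOfLE (hP.trans (d.hp (n + s)))).op ≫ d.c n =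
          (d.b (n + s) ≫ S.map (homOfLE (d.hle (n + s))).op) ≫ ARSys.shiftMap S s n := by
        rw [d.key_c n (n + s) hP, e0, Category.assoc, map_le_comp]
      rw [← imageSubobject_epi_comp (T.map (homOfLE (hP.trans (d.hp (n + s)))).op) (d.c n), e]
      exact imageSubobject_comp_le _ _
  refine ⟨d.m (d.p n), fun s hs => ?_⟩
  rw [main s hs, main _ le_rfl]

theorem isML_of_isProIsomorphic_strict {S T : ARSys.PS C} (h : Algz.IsProIsomorphic S T)
    (hT : ARSys.IsStrict T) : ARSys.IsML S := by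
  obtain ⟨d⟩ := exists_pd h
  exact isML_of_pd_strict d hT

end ML

section Lim

variable {C : Type*} [Category C] {S T : ARSys.PS C} (d : PD S T)

lemma cone_w' {X : ARSys.PS C} (c : Cone X) {i j : ℕ} (h : i ≤ j) :
    c.π.app (op j) ≫ X.map (homOfLE h).op = c.π.app (op i) := c.w _

lemma cone_w'_assoc {X : ARSys.PS C} (c : Cone X) {i j : ℕ} (h : i ≤ j) {Z : C}
    (f : X.obj (op i) ⟶ Z) :
    c.π.app (op j) ≫ X.map (homOfLE h).op ≫ f = c.π.app (op i) ≫ f := by
  rw [← Category.assoc, cone_w']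

lemma map_eq_homOfLE (X : ARSys.PS C) {i j : ℕᵒᵖ} (f : i ⟶ j) :
    X.map f = X.map (homOfLE (leOfHom f.unop)).op := by
  congr 1

/-- the cone over `T` with point `cS.pt` -/
def PD.fwdCone (cS : Cone S) : Cone T where
  pt := cS.pt
  π :=
    { app := fun j => cS.π.app (op (d.m j.unop)) ≫ d.a j.unop
      naturality := by
        intro i j f
        have h : j.unop ≤ i.unop := leOfHom f.unop
        rw [map_eq_homOfLE T f]
        change 𝟙 _ ≫ cS.π.app (op (d.m j.unop)) ≫ d.a j.unop =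
          (cS.π.app (op (d.m i.unop)) ≫ d.a i.unop) ≫ T.map (homOfLE h).op
        rw [Category.id_comp, Category.assoc, ← d.nat h, cone_w'_assoc] }

lemma PD.back_eq (cT : Cone T) (n P : ℕ) (h : d.p n ≤ P) :
    cT.π.app (op (d.p n)) ≫ d.c n =
      cT.π.app (op (d.p P)) ≫ d.b P ≫
        S.map (homOfLE ((d.hle n).trans (d.hm ((d.hp n).trans h)))).op := by
  rw [← d.key_c n P h, cone_w'_assoc]

/-- the cone over `S` with point `cT.pt` -/
def PD.backCone (cT : Cone T) : Cone S where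
  pt := cT.pt
  π :=
    { app := fun n => cT.π.app (op (d.p n.unop)) ≫ d.c n.unop
      naturality := by
        intro i j f
        have h : j.unop ≤ i.unop := leOfHom f.unop
        rw [map_eq_homOfLE S f]
        change 𝟙 _ ≫ cT.π.app (op (d.p j.unop)) ≫ d.c j.unop =
          (cT.π.app (op (d.p i.unop)) ≫ d.c i.unop) ≫ S.map (homOfLE h).op
        rw [Category.id_comp, d.back_eq cT j.unop (max (d.p j.unop) (d.p i.unop)) (le_max_left _ _),
          d.back_eq cT i.unop (max (d.p j.unop) (d.p i.unop)) (le_max_right _ _)]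
        simp only [Category.assoc]
        rw [map_le_comp] }

theorem PD.exists_iso (cS : Cone S) (hS : IsLimit cS) (cT : Cone T) (hT : IsLimit cT) :
    ∃ φ : cS.pt ≅ cT.pt, ∀ j : ℕ,
      φ.hom ≫ cT.π.app (op j) = cS.π.app (op (d.m j)) ≫ d.a j := by
  let φ : cS.pt ⟶ cT.pt := hT.lift (d.fwdCone cS)
  let ψ : cT.pt ⟶ cS.pt := hS.lift (d.backCone cT)
  have hφ : ∀ j : ℕ, φ ≫ cT.π.app (op j) = cS.π.app (op (d.m j)) ≫ d.a j :=
    fun j => hT.fac (d.fwdCone cS) (op j)
  have hψ : ∀ n : ℕ, ψ ≫ cS.π.app (op n) = cT.π.app (op (d.p n)) ≫ d.c n :=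
    fun n => hS.fac (d.backCone cT) (op n)
  refine ⟨⟨φ, ψ, ?_, ?_⟩, hφ⟩
  · apply hS.hom_ext
    rintro ⟨n⟩
    rw [Category.assoc, hψ, ← Category.assoc, hφ, Category.id_comp]
    unfold PD.c
    rw [Category.assoc, ← Category.assoc (d.a (d.p n)), d.hb1, map_le_comp, cone_w']
  · apply hT.hom_ext
    rintro ⟨j⟩
    rw [Category.assoc, hφ, ← Category.assoc, hψ, Category.id_comp]
    unfold PD.c
    rw [Category.assoc, Category.assoc, d.nat (d.hle j), ← Category.assoc (d.b (d.m j)), d.hb2,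
      map_le_comp, cone_w']

end Lim

end Groth.Agent.Lib.R2LeadAlgzB
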