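import Groth.Prelude.Def_Formal2
import Groth.Agent.Lib.H6xQcTruncB

set_option autoImplicit false
set_option linter.style.haveILetI false
universe u
open CategoryTheory CategoryTheory.Limits AlgebraicGeometry Opposite

namespace Groth.Agent.Lib.R2LeadFormSys1

variable {X : Scheme.{u}}

/-- transition maps of a tower. -/
noncomputable abbrev tr (G : ℕᵒᵖ ⥤ X.Modules) (n : ℕ) : G.obj (op (n + 1)) ⟶ G.obj (op n) :=
  G.map (homOfLE (Nat.le_succ n)).op

/-- the tower rebuilt from its transition maps. -/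
noncomputable abbrev reb (G : ℕᵒᵖ ⥤ X.Modules) : ℕᵒᵖ ⥤ X.Modules :=
  Functor.ofOpSequence (X := fun n => G.obj (op n)) (tr G)

/-- every tower is the `ofOpSequence` of its transition maps. -/
noncomputable def towerIso (G : ℕᵒᵖ ⥤ X.Modules) : G ≅ reb G :=
  NatIso.ofComponents (fun n => Iso.refl _) (by
    intro i j f
    have := (NatTrans.ofOpSequence (F := G) (G := reb G)
      (fun n => 𝟙 _) (fun n => by
        rw [Functor.ofOpSequence_map_homOfLE_succ]
        exact (Category.comp_id _).trans (Category.id_comp _).symm)).naturality f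
    simpa using this)

theorem epi_tr {A : Type u} [CommRing A] (I : Ideal A)
    [X.Over (Spec (CommRingCat.of A))] (G : ℕᵒᵖ ⥤ X.Modules) (hG : Formal2.IsQCohFormal I G)
    (n : ℕ) : Epi (tr G n) := by
  obtain ⟨h, hiso⟩ := hG.2.2 n
  have : tr G n = cokernel.π _ ≫ cokernel.desc _ _ h := (cokernel.π_desc _ _ h).symm
  rw [this]
  haveI : Epi (cokernel.desc _ _ h) := @IsIso.epi_of_iso _ _ _ _ _ hiso
  exact epi_comp _ _

open Abelian in
lemma subsingleton_H_of_iso {C : Type u} [Category.{u} C] {J : GrothendieckTopology C}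
    [HasSheafify J AddCommGrpCat.{u}] [HasExt.{u} (Sheaf J AddCommGrpCat.{u})]
    {F F' : Sheaf J AddCommGrpCat.{u}} (e : F ≅ F') (a : ℕ)
    (h : Subsingleton (Sheaf.H F a)) : Subsingleton (Sheaf.H F' a) := by
  refine subsingleton_of_forall_eq 0 fun x => ?_
  have h1 : Sheaf.H.map e.hom a (Sheaf.H.map e.inv a x) = x := by
    rw [Sheaf.H.map_apply, Sheaf.H.map_apply, Ext.comp_assoc_of_third_deg_zero, Ext.mk₀_comp_mk₀,
      e.inv_hom_id, Ext.comp_mk₀_id]
  rw [← h1, h.elim (Sheaf.H.map e.inv a x) 0, map_zero]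

lemma subsingleton_HHon_of_iso {N N' : X.Modules} (e : N ≅ N') (V : X.Opens) (a : ℕ)
    (h : Subsingleton (Coh.HHon X N V a)) : Subsingleton (Coh.HHon X N' V a) :=
  subsingleton_H_of_iso
    (((Scheme.Modules.restrictFunctor V.ι) ⋙ SheafOfModules.toSheaf _).mapIso e) a h

theorem affine_acyclic {A : Type u} [CommRing A] (I : Ideal A)
    [X.Over (Spec (CommRingCat.of A))] (G : ℕᵒᵖ ⥤ X.Modules) (hG : Formal2.IsQCohFormal I G)
    (U : X.Opens) (hU : IsAffineOpen U) (p : ℕ) (hp : 0 < p) :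
    Subsingleton (Coh.HHon X (limit G) U p) := by
  letI := HasDerivedCategory.standard X.Modules
  haveI := Groth.Agent.Lib.H6xQcTrunc.hasProduct_nat_derived
    (fun n => (DerivedCategory.singleFunctor X.Modules 0).obj (G.obj (op n)))
  have h := (Groth.Agent.Lib.H6xQcTrunc.main (fun n => G.obj (op n)) hG.1 (tr G)
    (fun n _ => epi_tr I G hG n)).2 U hU p hp
  let e : limit G ≅ limit (reb G) :=
    HasLimit.isoOfNatIso (towerIso G)
  exact subsingleton_HHon_of_iso e.symm U p h

end Groth.Agent.Lib.R2LeadFormSys1
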