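import Groth.Agent.Lib.R2LeadFormSys3a
import Groth.Agent.Lib.R2LeadFormSys1
import Groth.Agent.Lib.R2H2ModPowAff
import Groth.Agent.Lib.R2H7MilnorCx
import Groth.Agent.Lib.R2H3PnChart
import Groth.Agent.Lib.R2H2DevF
import Groth.Agent.Lib.Helper23Extend
import Groth.Agent.Lib.R2LeadCohFormalA

set_option autoImplicit false
set_option linter.style.haveILetI false
universe u
open CategoryTheory CategoryTheory.Limits AlgebraicGeometry Opposite

namespace Groth.Agent.Lib.R2LeadFormSys3b

open Groth.Agent.Lib.R2LeadFormSys1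

variable {X : Scheme.{u}}

/-- sections over `U`, as a functor to abelian groups. -/
noncomputable abbrev Ev (U : X.Opens) : X.Modules ⥤ Ab.{u} :=
  Scheme.Modules.toPresheaf X ⋙ (evaluation _ _).obj (op U)

instance (U : X.Opens) : PreservesLimitsOfSize.{0, 0} (Ev U) := by
  haveI : PreservesLimitsOfSize.{0, 0} (Scheme.Modules.toPresheaf X) :=
    preservesLimitsOfSize_shrink.{0, u, 0, u} _
  haveI : PreservesLimitsOfSize.{0, 0} ((evaluation (X.Opens)ᵒᵖ Ab.{u}).obj (op U)) := by
    infer_instance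
  infer_instance

section Lim

variable (G : ℕᵒᵖ ⥤ X.Modules) (U : X.Opens)

theorem sec_ext (x y : Γ(limit G, U))
    (h : ∀ m, (limit.π G (op m)).app U x = (limit.π G (op m)).app U y) : x = y := by
  have hc : IsLimit ((Ev U).mapCone (limit.cone G)) := isLimitOfPreserves _ (limit.isLimit G)
  exact Groth.Agent.Lib.R2H7.MilnorCx.cone_ext (G := G ⋙ Ev U) _ hc x y h

theorem sec_exists (y : ∀ m, Γ(G.obj (op m), U))
    (hy : ∀ m, (tr G m).app U (y (m + 1)) = y m) :
    ∃ x : Γ(limit G, U), ∀ m, (limit.π G (op m)).app U x = y m := by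
  have hc : IsLimit ((Ev U).mapCone (limit.cone G)) := isLimitOfPreserves _ (limit.isLimit G)
  exact Groth.Agent.Lib.R2H7.MilnorCx.cone_exists (G := G ⋙ Ev U) _ hc y hy

theorem tr_π (m : ℕ) (x : Γ(limit G, U)) :
    (tr G m).app U ((limit.π G (op (m + 1))).app U x) = (limit.π G (op m)).app U x := by
  have := limit.w G (homOfLE (Nat.le_succ m)).op
  rw [← this]
  rfl

end Lim

section Abs

variable {C : Type*} [Category C] [Abelian C]

/-- `g` is a cokernel of `f` as soon as `g` is epi and `f` surjects onto the kernel of `g`. -/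
theorem isIso_cokernel_desc {P Q R : C} (f : P ⟶ Q) (g : Q ⟶ R) (h : f ≫ g = 0) [Epi g]
    (hk : Epi (kernel.lift g f h)) : IsIso (cokernel.desc f g h) := by
  have hS : (ShortComplex.mk f g h).Exact := by
    rw [ShortComplex.exact_iff_epi_kernel_lift]
    exact hk
  have hc : IsColimit (CokernelCofork.ofπ g h) := hS.gIsCokernel
  let e := (cokernelIsCokernel f).coconePointUniqueUpToIso hc
  have he : e.hom = cokernel.desc f g h := by
    apply coequalizer.hom_ext
    have := (cokernelIsCokernel f).comp_coconePointUniqueUpToIso_hom hc WalkingParallelPair.one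
    simpa using this
  rw [← he]
  infer_instance

end Abs

section Formal

open Groth.Agent.Lib.R2H2.ModPowAff

variable {A : Type u} [CommRing A] (I : Ideal A) [X.Over (Spec (CommRingCat.of A))]
  (G : ℕᵒᵖ ⥤ X.Modules)

/-- the linear map on sections -/
noncomputable def appL {M N : X.Modules} (φ : M ⟶ N) (U : X.Opens) :
    Γ(M, U) →ₗ[Γ(X, U)] Γ(N, U) where
  toFun := φ.app U
  map_add' := (φ.app U).hom.map_add
  map_smul' := fun r x => Scheme.Modules.Hom.app_smul φ r x

@[simp] lemma appL_apply {M N : X.Modules} (φ : M ⟶ N) (U : X.Opens) (x : Γ(M, U)) :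
    appL φ U x = φ.app U x := rfl

lemma map_app_eq {i j : ℕ} (f g : (op j : ℕᵒᵖ) ⟶ op i) : G.map f = G.map g :=
  congrArg _ (Subsingleton.elim _ _)

variable {I G} in
theorem surj_tr (hG : Formal2.IsQCohFormal I G) {U : X.Opens} (hU : IsAffineOpen U) (m : ℕ) :
    Function.Surjective ((tr G m).app U) := by
  haveI : (G.obj (op (m + 1))).IsQuasicoherent := hG.1 (m + 1)
  haveI : (G.obj (op m)).IsQuasicoherent := hG.1 m
  haveI := epi_tr I G hG m
  exact Groth.Agent.Lib.Helper23.FinType.surjective_app_of_epi (tr G m) hU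

variable {I G} in
theorem surj_pr (hG : Formal2.IsQCohFormal I G) {U : X.Opens} (hU : IsAffineOpen U) (m : ℕ) :
    Function.Surjective ((limit.π G (op m)).app U) := by
  classical
  intro y
  let z : (j : ℕ) → Γ(G.obj (op j), U) := fun j =>
    Nat.rec (motive := fun j => Γ(G.obj (op j), U))
      ((G.map (homOfLE (Nat.zero_le m)).op).app U y)
      (fun j zj => if h : j + 1 ≤ m then (G.map (homOfLE h).op).app U y
        else Classical.choose (surj_tr hG hU j zj)) j
  have hz0 : z 0 = (G.map (homOfLE (Nat.zero_le m)).op).app U y := rfl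
  have hzs : ∀ j, z (j + 1) = if h : j + 1 ≤ m then (G.map (homOfLE h).op).app U y
        else Classical.choose (surj_tr hG hU j (z j)) := fun j => rfl
  have hza : ∀ j (h : j ≤ m), z j = (G.map (homOfLE h).op).app U y := by
    intro j h
    cases j with
    | zero => exact hz0
    | succ j => rw [hzs, dif_pos h]
  have hzc : ∀ j, (tr G j).app U (z (j + 1)) = z j := by
    intro j
    by_cases h : j + 1 ≤ m
    · rw [hza (j + 1) h, hza j (by omega)]
      change ((G.map (homOfLE h).op ≫ tr G j).app U) y = _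
      rw [← Functor.map_comp]
      exact congrArg (fun φ => (Scheme.Modules.Hom.app φ U) y) (map_app_eq G _ _)
    · rw [hzs, dif_neg h]
      exact Classical.choose_spec (surj_tr hG hU j (z j))
  obtain ⟨x, hx⟩ := sec_exists G U z hzc
  refine ⟨x, ?_⟩
  rw [hx m, hza m le_rfl]
  have : G.map (homOfLE (le_refl m)).op = 𝟙 _ := by
    rw [← G.map_id]
    exact map_app_eq G _ _
  rw [this]
  rfl

variable {I G} in
theorem ker_tr (hG : Formal2.IsQCohFormal I G) {U : X.Opens} (hU : IsAffineOpen U) (m : ℕ)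
    (s : Γ(G.obj (op (m + 1)), U)) (hs : (tr G m).app U s = 0) :
    s ∈ (I ^ (m + 1)).map (ρ U) • (⊤ : Submodule Γ(X, U) Γ(G.obj (op (m + 1)), U)) := by
  obtain ⟨h, hiso⟩ := hG.2.2 m
  haveI : (G.obj (op (m + 1))).IsQuasicoherent := hG.1 (m + 1)
  have e : tr G m = Formal.modPowπ I (m + 1) (G.obj (op (m + 1))) ≫ cokernel.desc _ _ h :=
    (cokernel.π_desc _ _ h).symm
  rw [e] at hs
  have hs' : (cokernel.desc _ _ h).app U
      ((Formal.modPowπ I (m + 1) (G.obj (op (m + 1)))).app U s) = 0 := hs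
  haveI : Mono (cokernel.desc _ (G.map (homOfLE (Nat.le_succ m)).op) h) :=
    @IsIso.mono_of_iso _ _ _ _ _ hiso
  have h0 := Groth.Agent.Lib.Helper23.Extend.injective_app_of_mono
    (cokernel.desc _ (G.map (homOfLE (Nat.le_succ m)).op) h) U (hs'.trans (map_zero _).symm)
  exact mem_of_modPowπ_app_eq_zero I (G.obj (op (m + 1))) (m + 1) hU s h0

variable {I G} in
theorem kill_sec (hG : Formal2.IsQCohFormal I G) (U : X.Opens) (m : ℕ)
    (b : Γ(X, U)) (hb : b ∈ (I ^ (m + 1)).map (ρ U)) (y : Γ(G.obj (op m), U)) : b • y = 0 := by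
  have hb' : b ∈ Ideal.span ((ρ U) '' ((I ^ (m + 1) : Ideal A) : Set A)) := hb
  refine Submodule.span_induction (p := fun r _ => ∀ y : Γ(G.obj (op m), U), r • y = 0)
    ?_ ?_ ?_ ?_ hb' y
  · rintro _ ⟨a, ha, rfl⟩ y
    rw [← smulMod_app' (G.obj (op m)) a U y, hG.2.1 m a ha]
    rfl
  · intro y
    exact zero_smul _ _
  · intro r r' _ _ hr hr' y
    rw [add_smul, hr, hr', add_zero]
  · intro c r _ hr y
    rw [smul_eq_mul, mul_smul, hr, smul_zero]

variable {I G} in
theorem ker_pr (hI : I.FG) (hG : Formal2.IsQCohFormal I G) {U : X.Opens} (hU : IsAffineOpen U)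
    (n : ℕ) (x : Γ(limit G, U)) (hx : (limit.π G (op n)).app U x = 0) :
    x ∈ (I ^ (n + 1)).map (ρ U) • (⊤ : Submodule Γ(X, U) Γ(limit G, U)) := by
  have key : LinearMap.ker (appL (limit.π G (op n)) U) ≤
      (I.map (ρ U)) ^ (n + 1) • (⊤ : Submodule Γ(X, U) Γ(limit G, U)) :=
    Groth.Agent.Lib.R2LeadFormSys3a.ker_le_pow_smul_top (I.map (ρ U)) (hI.map _)
    (fun m => appL (limit.π G (op m)) U) (fun m => appL (tr G m) U)
    (fun m x => tr_π G U m x)
    (fun x hx => sec_ext G U x 0 (fun m => (hx m).trans (map_zero _).symm))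
    (fun y hy => sec_exists G U y hy)
    (fun m => surj_pr hG hU m)
    (fun m s hs => by
      rw [← Ideal.map_pow]
      exact ker_tr hG hU m s (show (tr G m).app U s = 0 from hs))
    (fun m b hb y => by
      rw [← Ideal.map_pow] at hb
      exact kill_sec hG U m b hb y) n
  rw [Ideal.map_pow]
  exact key (show appL (limit.π G (op n)) U x = 0 from hx)

theorem mem_range_smulFamily (F : X.Modules) (J : Ideal A) (U : X.Opens) (x : Γ(F, U))
    (hx : x ∈ J.map (ρ U) • (⊤ : Submodule Γ(X, U) Γ(F, U))) :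
    ∃ w : Γ(∐ fun _ : J => F, U), (Formal.smulFamily J F).app U w = x := by
  have key : J.map (ρ U) • (⊤ : Submodule Γ(X, U) Γ(F, U)) ≤
      LinearMap.range (appL (Formal.smulFamily J F) U) := by
    rw [Submodule.smul_le]
    intro r hr y _
    have hr' : r ∈ Ideal.span ((ρ U) '' (J : Set A)) := hr
    refine Submodule.span_induction (p := fun r _ => ∀ y : Γ(F, U),
      r • y ∈ LinearMap.range (appL (Formal.smulFamily J F) U)) ?_ ?_ ?_ ?_ hr' y
    · rintro _ ⟨a, ha, rfl⟩ y
      refine ⟨(Sigma.ι (fun _ : J => F) ⟨a, ha⟩).app U y, ?_⟩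
      have h := congrArg (fun φ => Scheme.Modules.Hom.app φ U y)
        (Sigma.ι_desc (fun a : J => Formal.smulMod A F (a : A)) ⟨a, ha⟩)
      exact h
    · intro y
      rw [zero_smul]
      exact Submodule.zero_mem _
    · intro r r' _ _ hr hr' y
      rw [add_smul]
      exact Submodule.add_mem _ (hr y) (hr' y)
    · intro c r _ hr y
      rw [smul_eq_mul, mul_smul]
      exact Submodule.smul_mem _ c (hr y)
  obtain ⟨w, hw⟩ := key hx
  exact ⟨w, hw⟩

variable {I G} in
theorem truncation (hI : I.FG) (hG : Formal2.IsQCohFormal I G) (n : ℕ) :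
    ∃ h : Formal.smulFamily (I ^ (n + 1)) (limit G) ≫ limit.π G (op n) = 0,
      IsIso (cokernel.desc _ _ h) := by
  have h : Formal.smulFamily (I ^ (n + 1)) (limit G) ≫ limit.π G (op n) = 0 :=
    Groth.Agent.Lib.R2Lead.CohFormalA.smulFamily_comp_eq_zero_of_killedBy _ (hG.2.1 n)
  refine ⟨h, ?_⟩
  haveI : Epi (limit.π G (op n)) := by
    apply Groth.Agent.Lib.R2H3.PnChart.epi_of_locally_surjective
    intro V t x hx
    obtain ⟨V', hV', hxV', hle⟩ := exists_isAffineOpen_mem_and_subset (x := x) (U := V) hx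
    obtain ⟨s, hs⟩ := surj_pr hG hV' n ((G.obj (op n)).presheaf.map (homOfLE hle).op t)
    exact ⟨V', hle, hxV', s, hs⟩
  apply isIso_cokernel_desc
  apply Groth.Agent.Lib.R2H3.PnChart.epi_of_locally_surjective
  intro V t x hx
  obtain ⟨V', hV', hxV', hle⟩ := exists_isAffineOpen_mem_and_subset (x := x) (U := V) hx
  obtain ⟨t', ht'⟩ : ∃ t' : Γ(kernel (limit.π G (op n)), V'),
      t' = (kernel (limit.π G (op n))).presheaf.map (homOfLE hle).op t := ⟨_, rfl⟩
  obtain ⟨s, hs'⟩ : ∃ s : Γ(limit G, V'), s = (kernel.ι (limit.π G (op n))).app V' t' := ⟨_, rfl⟩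
  have hs : (limit.π G (op n)).app V' s = 0 := by
    rw [hs']
    have := congrArg (fun φ => Scheme.Modules.Hom.app φ V' t')
      (kernel.condition (limit.π G (op n)))
    exact this
  obtain ⟨w, hw⟩ := mem_range_smulFamily (limit G) (I ^ (n + 1)) V' s (ker_pr hI hG hV' n s hs)
  have goal : (kernel.lift (limit.π G (op n))
      (Formal.smulFamily (I ^ (n + 1)) (limit G)) h).app V' w = t' := by
    apply Groth.Agent.Lib.Helper23.Extend.injective_app_of_mono (kernel.ι (limit.π G (op n))) V'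
    have := congrArg (fun φ => Scheme.Modules.Hom.app φ V' w)
      (kernel.lift_ι (limit.π G (op n)) (Formal.smulFamily (I ^ (n + 1)) (limit G)) h)
    exact (this.trans hw).trans hs'
  exact ⟨V', hle, hxV', w, goal.trans ht'⟩

end Formal

end Groth.Agent.Lib.R2LeadFormSys3b
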