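import Groth.Agent.Lib.R2LeadAlgzB
import Groth.Agent.Lib.R2LeadAlgzA
import Groth.Agent.Lib.R2LeadFormSys3b

set_option autoImplicit false
set_option linter.style.haveILetI false
universe u
open CategoryTheory CategoryTheory.Limits AlgebraicGeometry Opposite

namespace Groth.Agent.Lib.R2LeadAlgzC

open Groth.Agent.Lib.R2LeadAlgzB Groth.Agent.Lib.R2LeadAlgzA

variable (A : Type u) [CommRing A]

/-- global sections as an `A`-module -/
noncomputable abbrev Φ : (Spec (CommRingCat.of A)).Modules ⥤ ModuleCat.{u} A :=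
  moduleSpecΓFunctor (R := CommRingCat.of A)

noncomputable def sectSysΓIso (U : (Spec (CommRingCat.of A)).Opens)
    (G : ℕᵒᵖ ⥤ (U : Scheme.{u}).Modules) : Algz.sectSys A U G ⋙ Φ A ≅ Algz.sectMod A U G :=
  Functor.associator _ _ _ ≪≫
    Functor.isoWhiskerLeft (Algz.sectMod A U G)
      (tilde.toTildeΓNatIso (R := CommRingCat.of A)).symm ≪≫
    Functor.rightUnitor _

variable {A}

lemma Φ_map_apply {F F' : (Spec (CommRingCat.of A)).Modules} (f : F ⟶ F') (x : (Φ A).obj F) :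
    ((Φ A).map f).hom x = f.app ⊤ x := rfl

theorem isStrict_of_succ {C : Type*} [Category C] (X : ARSys.PS C)
    (h : ∀ n, Epi (X.map (homOfLE (Nat.le_succ n)).op)) : ARSys.IsStrict X := by
  intro n m hnm
  obtain ⟨k, rfl⟩ := Nat.exists_eq_add_of_le hnm
  induction k with
  | zero =>
    have : ARSys.tr X hnm = 𝟙 _ := by
      rw [← X.map_id]; rfl
    rw [this]; infer_instance
  | succ k ih =>
    have : ARSys.tr X hnm = X.map (homOfLE (Nat.le_succ (n + k))).op ≫
        ARSys.tr X (Nat.le_add_right n k) := by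
      rw [map_le_comp]
    rw [this]
    haveI := h (n + k)
    haveI := ih (Nat.le_add_right n k)
    exact epi_comp _ _

open Groth.Agent.Lib.R2LeadFormSys1 Groth.Agent.Lib.R2LeadFormSys3b in
theorem strict_Γ (I : Ideal A) (G' : ℕᵒᵖ ⥤ (Spec (CommRingCat.of A)).Modules)
    (hG' : @Formal2.IsQCohFormal A _ (Spec (CommRingCat.of A)) ⟨𝟙 _⟩ I G') :
    ARSys.IsStrict (G' ⋙ Φ A) := by
  letI : (Spec (CommRingCat.of A)).Over (Spec (CommRingCat.of A)) := ⟨𝟙 _⟩
  apply isStrict_of_succ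
  intro n
  rw [ModuleCat.epi_iff_surjective]
  intro y
  obtain ⟨x, hx⟩ := surj_tr hG' (isAffineOpen_top _) n y
  exact ⟨x, hx⟩

theorem isQCohFormal_of_isCohFormal {X : Scheme.{u}} [X.Over (Spec (CommRingCat.of A))]
    (I : Ideal A) (G : ℕᵒᵖ ⥤ X.Modules) (hG : Formal.IsCohFormal I G) :
    Formal2.IsQCohFormal I G :=
  ⟨fun n => (hG.1 n).1, hG.2.1, hG.2.2⟩

/-- the pro-isomorphism data between `H⁰(U, G_n)` and `Γ(G'_n)`. -/
theorem exists_pd_sectMod (I : Ideal A) (U : (Spec (CommRingCat.of A)).Opens)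
    (G : ℕᵒᵖ ⥤ (U : Scheme.{u}).Modules)
    (G' : ℕᵒᵖ ⥤ (Spec (CommRingCat.of A)).Modules)
    (hpro : Algz.IsProIsomorphic (Algz.sectSys A U G) G') :
    Nonempty (PD (Algz.sectMod A U G) (G' ⋙ Φ A)) :=
  exists_pd (isProIsomorphic_of_iso_left (sectSysΓIso A U G) (isProIsomorphic_map (Φ A) hpro))

theorem isML_sectMod (I : Ideal A) (U : (Spec (CommRingCat.of A)).Opens)
    (G : ℕᵒᵖ ⥤ (U : Scheme.{u}).Modules) (h : Algz.CanonicallyExtends A I U G) :
    ARSys.IsML (Algz.sectMod A U G) := by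
  obtain ⟨G', hG', hpro⟩ := h
  obtain ⟨d⟩ := exists_pd_sectMod I U G G' hpro
  exact isML_of_pd_strict d (strict_Γ I G'
    (@isQCohFormal_of_isCohFormal A _ _ ⟨𝟙 _⟩ I G' hG'))

section Conv

open Groth.Agent.Lib.R2H2.ModPowAff

/-- on `Spec A` over itself, `ρ ⊤` is the canonical identification. -/
lemma ρ_top_apply (a : A) :
    (@ρ A _ (Spec (CommRingCat.of A)) ⟨𝟙 _⟩ ⊤) a =
      (Scheme.ΓSpecIso (CommRingCat.of A)).inv.hom a := by
  letI : (Spec (CommRingCat.of A)).Over (Spec (CommRingCat.of A)) := ⟨𝟙 _⟩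
  change ((Spec (CommRingCat.of A)).presheaf.map (homOfLE (le_top : (⊤ : (Spec (CommRingCat.of A)).Opens) ≤ ⊤)).op).hom
    ((Scheme.Hom.appTop (𝟙 (Spec (CommRingCat.of A)))).hom
      ((Scheme.ΓSpecIso (CommRingCat.of A)).inv.hom a)) = _
  have h1 : (homOfLE (le_top : (⊤ : (Spec (CommRingCat.of A)).Opens) ≤ ⊤)).op = 𝟙 _ :=
    Subsingleton.elim _ _
  rw [h1, CategoryTheory.Functor.map_id]
  simp

lemma smul_eq_ρ_smul (F : (Spec (CommRingCat.of A)).Modules) (a : A) (x : (Φ A).obj F) :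
    a • x = ((@ρ A _ (Spec (CommRingCat.of A)) ⟨𝟙 _⟩ ⊤) a • (show Γ(F, ⊤) from x) : Γ(F, ⊤)) := by
  rw [ρ_top_apply]
  rfl

end Conv

section Main

open Groth.Agent.Lib.R2H2.ModPowAff Groth.Agent.Lib.R2LeadFormSys3b

lemma mem_smul_top_of_mem (F : (Spec (CommRingCat.of A)).Modules) (J : Ideal A) (x : Γ(F, ⊤))
    (hx : x ∈ J.map (@ρ A _ (Spec (CommRingCat.of A)) ⟨𝟙 _⟩ ⊤) •
      (⊤ : Submodule Γ(Spec (CommRingCat.of A), ⊤) Γ(F, ⊤))) :
    (show (Φ A).obj F from x) ∈ J • (⊤ : Submodule A ((Φ A).obj F)) := by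
  letI : (Spec (CommRingCat.of A)).Over (Spec (CommRingCat.of A)) := ⟨𝟙 _⟩
  have key : ∀ r ∈ J.map (ρ (X := Spec (CommRingCat.of A)) ⊤), ∀ y : Γ(F, ⊤),
      (show (Φ A).obj F from (r • y : Γ(F, ⊤))) ∈ J • (⊤ : Submodule A ((Φ A).obj F)) := by
    intro r hr
    have hr' : r ∈ Ideal.span ((ρ (X := Spec (CommRingCat.of A)) ⊤) '' (J : Set A)) := hr
    refine Submodule.span_induction (p := fun r _ => ∀ y : Γ(F, ⊤),
      (show (Φ A).obj F from (r • y : Γ(F, ⊤))) ∈ J • (⊤ : Submodule A ((Φ A).obj F)))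
      ?_ ?_ ?_ ?_ hr'
    · rintro _ ⟨a, ha, rfl⟩ y
      have := smul_eq_ρ_smul F a (show (Φ A).obj F from y)
      rw [← this]
      exact Submodule.smul_mem_smul ha Submodule.mem_top
    · intro y
      rw [zero_smul]
      exact Submodule.zero_mem _
    · intro r r' _ _ h1 h2 y
      rw [add_smul]
      exact Submodule.add_mem _ (h1 y) (h2 y)
    · intro c r _ h1 y
      rw [smul_eq_mul, mul_comm, mul_smul]
      exact h1 (c • y)
  refine Submodule.smul_induction_on hx (fun r hr y _ => key r hr y) ?_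
  intro y z hy hz
  exact Submodule.add_mem _ hy hz

theorem ker_limit_le [IsNoetherianRing A] (I : Ideal A) (U : (Spec (CommRingCat.of A)).Opens)
    (G : ℕᵒᵖ ⥤ (U : Scheme.{u}).Modules) (h : Algz.CanonicallyExtends A I U G) (k : ℕ) :
    ∃ n : ℕ, LinearMap.ker (limit.π (Algz.sectMod A U G) (op n)).hom ≤
      I ^ k • (⊤ : Submodule A ↑(limit (Algz.sectMod A U G))) := by
  cases k with
  | zero =>
    refine ⟨0, ?_⟩
    rw [pow_zero, Ideal.one_eq_top, Submodule.top_smul]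
    exact le_top
  | succ k =>
    obtain ⟨G', hG', hpro⟩ := h
    letI : (Spec (CommRingCat.of A)).Over (Spec (CommRingCat.of A)) := ⟨𝟙 _⟩
    have hQ : Formal2.IsQCohFormal I G' := isQCohFormal_of_isCohFormal I G' hG'
    obtain ⟨d⟩ := exists_pd_sectMod I U G G' hpro
    haveI : PreservesLimitsOfSize.{0, 0} (Φ A) :=
      (tilde.adjunction (R := CommRingCat.of A)).rightAdjoint_preservesLimits
    have hT : IsLimit ((Φ A).mapCone (limit.cone G')) :=
      isLimitOfPreserves (Φ A) (limit.isLimit G')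
    obtain ⟨φ, hφ⟩ := d.exists_iso (limit.cone (Algz.sectMod A U G)) (limit.isLimit _) _ hT
    refine ⟨d.m k, ?_⟩
    intro x hx
    have hx' : (limit.π (Algz.sectMod A U G) (op (d.m k))).hom x = 0 := hx
    have h1 : ((Φ A).map (limit.π G' (op k))).hom (φ.hom.hom x) = 0 := by
      have := congrArg (fun f => f.hom x) (hφ k)
      change ((Φ A).map (limit.π G' (op k))).hom (φ.hom.hom x) =
        (d.a k).hom ((limit.π (Algz.sectMod A U G) (op (d.m k))).hom x) at this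
      rw [this, hx', map_zero]
    have h2 : (limit.π G' (op k)).app ⊤ (show Γ(limit G', ⊤) from φ.hom.hom x) = 0 := h1
    have h3 := ker_pr (IsNoetherian.noetherian I) hQ (isAffineOpen_top _) k _ h2
    have h4 := mem_smul_top_of_mem (limit G') (I ^ (k + 1)) _ h3
    have h5 : x = φ.inv.hom (φ.hom.hom x) := by
      change x = (φ.hom ≫ φ.inv).hom x
      rw [φ.hom_inv_id]
      rfl
    rw [h5]
    have h6 : φ.inv.hom (φ.hom.hom x) ∈ Submodule.map φ.inv.hom
        (I ^ (k + 1) • (⊤ : Submodule A ((Φ A).obj (limit G')))) :=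
      Submodule.mem_map_of_mem h4
    rw [Submodule.map_smul''] at h6
    exact Submodule.smul_mono le_rfl le_top h6

end Main

end Groth.Agent.Lib.R2LeadAlgzC
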