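import Groth.Prelude.Def_Algz
import Groth.Agent.Lib.Helper17ARSys3

set_option autoImplicit false
set_option linter.style.haveILetI false
universe u
open CategoryTheory CategoryTheory.Limits Opposite

namespace Groth.Agent.Lib.R2LeadAlgzD

section Img

variable {A : Type u} [CommRing A]

/-- in `ModuleCat`, an inequality of image subobjects gives an inequality of ranges. -/
theorem range_le_of_imageSubobject_le {X Y Z : ModuleCat.{u} A} (f : X ⟶ Z) (g : Y ⟶ Z)
    (h : imageSubobject f ≤ imageSubobject g) : LinearMap.range f.hom ≤ LinearMap.range g.hom := by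
  rintro _ ⟨x, rfl⟩
  have hf : (imageSubobject f).Factors f := by
    have := imageSubobject_factors_comp_self f (𝟙 X)
    rwa [Category.id_comp] at this
  have hg : (imageSubobject g).Factors f := Subobject.factors_of_le f h hf
  have e : (imageSubobject g).factorThru f hg ≫ (imageSubobject g).arrow = f :=
    Subobject.factorThru_arrow _ _ _
  haveI : Epi (factorThruImageSubobject g) := inferInstance
  obtain ⟨y, hy⟩ := (ModuleCat.epi_iff_surjective _).1 ‹Epi (factorThruImageSubobject g)›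
    (((imageSubobject g).factorThru f hg).hom x)
  refine ⟨y, ?_⟩
  have e2 : factorThruImageSubobject g ≫ (imageSubobject g).arrow = g :=
    imageSubobject_arrow_comp g
  calc g.hom y = (factorThruImageSubobject g ≫ (imageSubobject g).arrow).hom y := by rw [e2]
    _ = (imageSubobject g).arrow.hom ((factorThruImageSubobject g).hom y) := rfl
    _ = (imageSubobject g).arrow.hom (((imageSubobject g).factorThru f hg).hom x) := by rw [hy]
    _ = ((imageSubobject g).factorThru f hg ≫ (imageSubobject g).arrow).hom x := rfl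
    _ = f.hom x := by rw [e]

theorem range_eq_of_imageSubobject_eq {X Y Z : ModuleCat.{u} A} (f : X ⟶ Z) (g : Y ⟶ Z)
    (h : imageSubobject f = imageSubobject g) : LinearMap.range f.hom = LinearMap.range g.hom :=
  le_antisymm (range_le_of_imageSubobject_le f g h.le) (range_le_of_imageSubobject_le g f h.ge)

end Img

section ML

variable {A : Type u} [CommRing A] (S : ℕᵒᵖ ⥤ ModuleCat.{u} A)

/-- transition maps as linear maps -/
noncomputable def T {i j : ℕ} (h : i ≤ j) : S.obj (op j) →ₗ[A] S.obj (op i) :=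
  (S.map (homOfLE h).op).hom

lemma T_comp {i j k : ℕ} (h1 : i ≤ j) (h2 : j ≤ k) (x : S.obj (op k)) :
    T S h1 (T S h2 x) = T S (h1.trans h2) x := by
  unfold T
  have : S.map (homOfLE h2).op ≫ S.map (homOfLE h1).op = S.map (homOfLE (h1.trans h2)).op := by
    rw [← S.map_comp]; rfl
  rw [← this]
  rfl

lemma T_refl {i : ℕ} (x : S.obj (op i)) : T S (le_refl i) x = x := by
  unfold T
  have : S.map (homOfLE (le_refl i)).op = 𝟙 _ := by
    rw [← S.map_id]; rfl
  rw [this]
  rfl

lemma range_T_anti {i j k : ℕ} (h1 : i ≤ j) (h2 : j ≤ k) :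
    LinearMap.range (T S (h1.trans h2)) ≤ LinearMap.range (T S h1) := by
  rintro _ ⟨x, rfl⟩
  exact ⟨T S h2 x, T_comp S h1 h2 x⟩

theorem stab (h : ARSys.IsML S) (n : ℕ) :
    ∃ (N : ℕ) (hN : n ≤ N), ∀ (j : ℕ) (hj : N ≤ j),
      LinearMap.range (T S (hN.trans hj)) = LinearMap.range (T S hN) := by
  obtain ⟨r, hr⟩ := h n
  refine ⟨n + r, Nat.le_add_right n r, ?_⟩
  intro j hj
  obtain ⟨s, rfl⟩ := Nat.exists_eq_add_of_le ((Nat.le_add_right n r).trans hj)
  have hs : r ≤ s := by omega
  exact range_eq_of_imageSubobject_eq _ _ (hr s hs)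

end ML

section Lift

variable {A : Type u} [CommRing A] (S : ℕᵒᵖ ⥤ ModuleCat.{u} A)

lemma T_of_succ (x : ∀ n, S.obj (op n)) (hx : ∀ n, T S (Nat.le_succ n) (x (n + 1)) = x n)
    {i j : ℕ} (h : i ≤ j) : T S h (x j) = x i := by
  obtain ⟨k, rfl⟩ := Nat.exists_eq_add_of_le h
  induction k with
  | zero => exact T_refl S (x i)
  | succ k ih =>
    have := T_comp S (Nat.le_add_right i k) (Nat.le_succ (i + k)) (x (i + k + 1))
    rw [hx (i + k)] at this
    rw [← ih (Nat.le_add_right i k)]
    exact this.symm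

theorem exists_limit_of_compat (x : ∀ n, S.obj (op n))
    (hx : ∀ n, T S (Nat.le_succ n) (x (n + 1)) = x n) :
    ∃ y : ↑(limit S), ∀ n, (limit.π S (op n)).hom y = x n := by
  let s : (S ⋙ forget (ModuleCat.{u} A)).sections := ⟨fun j => x j.unop, by
    intro j j' f
    have hle : j'.unop ≤ j.unop := leOfHom f.unop
    have hf : f = (homOfLE hle).op := Subsingleton.elim _ _
    rw [hf]
    exact T_of_succ S x hx hle⟩
  let e := Types.isLimitEquivSections
    (isLimitOfPreserves (forget (ModuleCat.{u} A)) (limit.isLimit S))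
  refine ⟨e.symm s, fun n => ?_⟩
  exact Types.isLimitEquivSections_symm_apply
    (isLimitOfPreserves (forget (ModuleCat.{u} A)) (limit.isLimit S)) s (op n)

variable (h : ARSys.IsML S)

noncomputable def Nn (n : ℕ) : ℕ := Classical.choose (stab S h n)

lemma le_Nn (n : ℕ) : n ≤ Nn S h n := Classical.choose (Classical.choose_spec (stab S h n))

lemma Nn_spec (n j : ℕ) (hj : Nn S h n ≤ j) :
    LinearMap.range (T S ((le_Nn S h n).trans hj)) = LinearMap.range (T S (le_Nn S h n)) :=
  Classical.choose_spec (Classical.choose_spec (stab S h n)) j hj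

/-- the stable image -/
noncomputable def St (n : ℕ) : Submodule A (S.obj (op n)) := LinearMap.range (T S (le_Nn S h n))

lemma St_eq (n j : ℕ) (hj : Nn S h n ≤ j) :
    St S h n = LinearMap.range (T S ((le_Nn S h n).trans hj)) := (Nn_spec S h n j hj).symm

lemma exists_lift_succ (k : ℕ) (z : S.obj (op k)) (hz : z ∈ St S h k) :
    ∃ z' ∈ St S h (k + 1), T S (Nat.le_succ k) z' = z := by
  have hj1 : Nn S h k ≤ max (Nn S h k) (Nn S h (k + 1)) := le_max_left _ _
  have hj2 : Nn S h (k + 1) ≤ max (Nn S h k) (Nn S h (k + 1)) := le_max_right _ _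
  rw [St_eq S h k _ hj1] at hz
  obtain ⟨w, rfl⟩ := hz
  refine ⟨T S ((le_Nn S h (k + 1)).trans hj2) w, ?_, ?_⟩
  · rw [St_eq S h (k + 1) _ hj2]; exact ⟨w, rfl⟩
  · rw [T_comp]

/-- the compatible sequence of lifts in the stable images -/
noncomputable def seq (n : ℕ) (z0 : S.obj (op n)) (hz0 : z0 ∈ St S h n) :
    (k : ℕ) → {z : S.obj (op (n + k)) // z ∈ St S h (n + k)}
  | 0 => ⟨z0, hz0⟩
  | k + 1 => ⟨Classical.choose (exists_lift_succ S h (n + k) (seq n z0 hz0 k).1 (seq n z0 hz0 k).2),
      (Classical.choose_spec (exists_lift_succ S h (n + k) (seq n z0 hz0 k).1 (seq n z0 hz0 k).2)).1⟩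

lemma seq_succ (n : ℕ) (z0 : S.obj (op n)) (hz0 : z0 ∈ St S h n) (k : ℕ) :
    T S (Nat.le_succ (n + k)) (seq S h n z0 hz0 (k + 1)).1 = (seq S h n z0 hz0 k).1 :=
  (Classical.choose_spec (exists_lift_succ S h (n + k) (seq S h n z0 hz0 k).1
    (seq S h n z0 hz0 k).2)).2

lemma seq_zero (n : ℕ) (z0 : S.obj (op n)) (hz0 : z0 ∈ St S h n) (k : ℕ) :
    T S (Nat.le_add_right n k) (seq S h n z0 hz0 k).1 = z0 := by
  induction k with
  | zero => exact T_refl S z0
  | succ k ih =>
    have := T_comp S (Nat.le_add_right n k) (Nat.le_succ (n + k)) (seq S h n z0 hz0 (k + 1)).1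
    rw [seq_succ] at this
    exact this.symm.trans ih

/-- Mittag-Leffler: everything in the stable image lifts to the limit. -/
theorem exists_lift_of_mem_St (n : ℕ) (z0 : S.obj (op n)) (hz0 : z0 ∈ St S h n) :
    ∃ y : ↑(limit S), (limit.π S (op n)).hom y = z0 := by
  let x : ∀ i, S.obj (op i) := fun i => T S (Nat.le_add_left i n) (seq S h n z0 hz0 i).1
  have hx : ∀ i, T S (Nat.le_succ i) (x (i + 1)) = x i := by
    intro i
    change T S (Nat.le_succ i) (T S (Nat.le_add_left (i + 1) n) (seq S h n z0 hz0 (i + 1)).1) =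
      T S (Nat.le_add_left i n) (seq S h n z0 hz0 i).1
    rw [T_comp, ← seq_succ S h n z0 hz0 i, T_comp]
  obtain ⟨y, hy⟩ := exists_limit_of_compat S x hx
  refine ⟨y, ?_⟩
  rw [hy n]
  exact seq_zero S h n z0 hz0 n

include h in
theorem exists_lift_of_isML (n : ℕ) :
    ∃ (N : ℕ) (hN : n ≤ N), ∀ x : S.obj (op N),
      ∃ y : ↑(limit S), (limit.π S (op n)).hom y = T S hN x :=
  ⟨Nn S h n, le_Nn S h n, fun x => exists_lift_of_mem_St S h n _ ⟨x, rfl⟩⟩

end Lift

end Groth.Agent.Lib.R2LeadAlgzD
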