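import Groth.Agent.Lib.R2LeadAlgzD
import Groth.Agent.Lib.R2LeadAlgzC

set_option autoImplicit false
set_option linter.style.haveILetI false
universe u
open CategoryTheory CategoryTheory.Limits AlgebraicGeometry Opposite

namespace Groth.Agent.Lib.R2LeadAlgzE

open Groth.Agent.Lib.R2LeadAlgzD Groth.Agent.Lib.R2LeadAlgzA Groth.Agent.Lib.R2LeadAlgzC

variable {A : Type u} [CommRing A]

/-- `N ↦ Ñ|_U` -/
noncomputable abbrev Rf (U : (Spec (CommRingCat.of A)).Opens) :
    ModuleCat.{u} A ⥤ (U : Scheme.{u}).Modules :=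
  tilde.functor (CommRingCat.of A) ⋙ Scheme.Modules.restrictFunctor U.ι

instance (U : (Spec (CommRingCat.of A)).Opens) : (Rf U).PreservesEpimorphisms := by
  haveI : (tilde.functor (CommRingCat.of A)).PreservesEpimorphisms :=
    Functor.preservesEpimorphisms_of_adjunction (tilde.adjunction (R := CommRingCat.of A))
  haveI : (Scheme.Modules.restrictFunctor U.ι).PreservesEpimorphisms :=
    Functor.preservesEpimorphisms_of_adjunction (Scheme.Modules.restrictAdjunction U.ι)
  infer_instance

/-- if `f : Y ⟶ Z` has `Rf f` epi and every `f x` lies in the range of `g : X ⟶ Z`,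
then `Rf g` is epi. -/
theorem epi_Rf_of_range (U : (Spec (CommRingCat.of A)).Opens) {X Y Z : ModuleCat.{u} A}
    (f : Y ⟶ Z) (g : X ⟶ Z) (hf : Epi ((Rf U).map f))
    (h : ∀ y, ∃ x, g.hom x = f.hom y) : Epi ((Rf U).map g) := by
  let I : ModuleCat.{u} A := ModuleCat.of A (LinearMap.range g.hom)
  let e : X ⟶ I := ModuleCat.ofHom g.hom.rangeRestrict
  let ι : I ⟶ Z := ModuleCat.ofHom (LinearMap.range g.hom).subtype
  let f' : Y ⟶ I := ModuleCat.ofHom (f.hom.codRestrict (LinearMap.range g.hom)
    (fun y => by obtain ⟨x, hx⟩ := h y; exact ⟨x, hx⟩))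
  have hg : g = e ≫ ι := by
    ext x; rfl
  have hf' : f = f' ≫ ι := by
    ext y; rfl
  haveI : Epi e := by
    rw [ModuleCat.epi_iff_surjective]
    exact LinearMap.surjective_rangeRestrict g.hom
  haveI : Epi ((Rf U).map ι) := by
    rw [hf', Functor.map_comp] at hf
    exact epi_of_epi ((Rf U).map f') ((Rf U).map ι)
  rw [hg, Functor.map_comp]
  exact epi_comp _ _

open Groth.Agent.Lib.R2LeadFormSys1 in
theorem epi_fromLimitSections [IsNoetherianRing A] (I : Ideal A)
    (U : (Spec (CommRingCat.of A)).Opens) (G : ℕᵒᵖ ⥤ (U : Scheme.{u}).Modules)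
    (hG : Formal.IsCohFormal I G) (ha : ARSys.IsML (Algz.sectMod A U G)) (n : ℕ) :
    Epi (((Scheme.Modules.restrictAdjunction U.ι).homEquiv _ (G.obj (op n))).symm
      (((tilde.adjunction (R := CommRingCat.of A)).homEquiv (limit (Algz.sectMod A U G))
        ((Scheme.Modules.pushforward U.ι).obj (G.obj (op n)))).symm
          (limit.π (Algz.sectMod A U G) (op n)))) := by
  have hstrict : ARSys.IsStrict G :=
    isStrict_of_succ G (fun k => epi_tr I G (isQCohFormal_of_isCohFormal I G hG) k)
  obtain ⟨N, hN, hlift⟩ := exists_lift_of_isML (Algz.sectMod A U G) ha n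
  have hRf : Epi ((Rf U).map ((Algz.sectMod A U G).map (homOfLE hN).op)) := by
    let iso := sectSysRestrictIso U G (fun k => (hG.1 k.unop).1)
    have nat := iso.hom.naturality (homOfLE hN).op
    have e : (Rf U).map ((Algz.sectMod A U G).map (homOfLE hN).op) =
        iso.hom.app (op N) ≫ G.map (homOfLE hN).op ≫ iso.inv.app (op n) := by
      rw [← Category.assoc, ← nat, Category.assoc, Iso.hom_inv_id_app, Category.comp_id]
      rfl
    rw [e]
    haveI h1 : Epi (G.map (homOfLE hN).op) := hstrict n N hN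
    haveI i1 : IsIso (iso.inv.app (op n)) := (iso.symm.app (op n)).isIso_hom
    haveI i2 : IsIso (iso.hom.app (op N)) := (iso.app (op N)).isIso_hom
    haveI e1 : Epi (iso.inv.app (op n)) := IsIso.epi_of_iso _
    haveI e2 : Epi (iso.hom.app (op N)) := IsIso.epi_of_iso _
    haveI h2 : Epi (G.map (homOfLE hN).op ≫ iso.inv.app (op n)) :=
      @epi_comp _ _ _ _ _ _ h1 _ e1
    exact @epi_comp _ _ _ _ _ _ e2 _ h2
  have hπ : Epi ((Rf U).map (limit.π (Algz.sectMod A U G) (op n))) :=
    epi_Rf_of_range U _ _ hRf (fun y => hlift y)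
  rw [Adjunction.homEquiv_counit, Adjunction.homEquiv_counit, Functor.map_comp]
  haveI hq : ((Scheme.Modules.pushforward U.ι).obj (G.obj (op n))).IsQuasicoherent := by
    haveI : (G.obj (op n)).IsQuasicoherent := (hG.1 n).1
    exact Groth.Agent.Lib.Helper23.QCohLocal.isQuasicoherent_pushforward U.ι (G.obj (op n))
  haveI : IsIso ((tilde.adjunction (R := CommRingCat.of A)).counit.app
      ((Scheme.Modules.pushforward U.ι).obj (G.obj (op n)))) :=
    isIso_fromTildeΓNatTrans_app _
  haveI h3 : Epi ((Scheme.Modules.restrictFunctor U.ι).map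
      ((tilde.functor (CommRingCat.of A)).map (limit.π (Algz.sectMod A U G) (op n)))) := hπ
  haveI h4 : IsIso ((Scheme.Modules.restrictFunctor U.ι).map
      ((tilde.adjunction (R := CommRingCat.of A)).counit.app
        ((Scheme.Modules.pushforward U.ι).obj (G.obj (op n))))) := Functor.map_isIso _ _
  haveI h4' : Epi ((Scheme.Modules.restrictFunctor U.ι).map
      ((tilde.adjunction (R := CommRingCat.of A)).counit.app
        ((Scheme.Modules.pushforward U.ι).obj (G.obj (op n))))) := IsIso.epi_of_iso _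
  haveI h6 : Epi ((Scheme.Modules.restrictAdjunction U.ι).counit.app (G.obj (op n))) :=
    IsIso.epi_of_iso _
  haveI h5 : Epi ((Scheme.Modules.restrictFunctor U.ι).map
      ((tilde.functor (CommRingCat.of A)).map (limit.π (Algz.sectMod A U G) (op n))) ≫
      (Scheme.Modules.restrictFunctor U.ι).map
      ((tilde.adjunction (R := CommRingCat.of A)).counit.app
        ((Scheme.Modules.pushforward U.ι).obj (G.obj (op n))))) := @epi_comp _ _ _ _ _ _ h3 _ h4'
  exact @epi_comp _ _ _ _ _ _ h5 _ h6

end Groth.Agent.Lib.R2LeadAlgzE
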