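import Groth.Agent.Lib.R2LeadAlgzD

set_option autoImplicit false
set_option linter.style.haveILetI false
universe u
open CategoryTheory CategoryTheory.Limits Opposite

namespace Groth.Agent.Lib.R2LeadAlgzF

open Groth.Agent.Lib.R2LeadAlgzD

section Mono

theorem exists_mono_ge (f : ℕ → ℕ) : ∃ F : ℕ → ℕ, Monotone F ∧ (∀ k, f k ≤ F k) ∧ ∀ k, k ≤ F k := by
  refine ⟨fun k => k + ∑ j ∈ Finset.range (k + 1), f j, ?_, ?_, ?_⟩
  · intro a b hab
    have : ∑ j ∈ Finset.range (a + 1), f j ≤ ∑ j ∈ Finset.range (b + 1), f j :=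
      Finset.sum_le_sum_of_subset (Finset.range_subset_range.2 (by omega))
    show a + _ ≤ b + _
    omega
  · intro k
    have : f k ≤ ∑ j ∈ Finset.range (k + 1), f j :=
      Finset.single_le_sum (f := f) (fun _ _ => Nat.zero_le _) (Finset.self_mem_range_succ k)
    show f k ≤ k + _
    omega
  · intro k
    exact Nat.le_add_right _ _

end Mono

section QSys

variable {A : Type u} [CommRing A] (I : Ideal A) (M : Type u) [AddCommGroup M] [Module A M]

/-- `I^(n+1) M` -/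
abbrev P (n : ℕ) : Submodule A M := I ^ (n + 1) • (⊤ : Submodule A M)

lemma P_anti {i j : ℕ} (h : i ≤ j) : P I M j ≤ P I M i :=
  Submodule.smul_mono_left (Ideal.pow_le_pow_right (Nat.succ_le_succ h))

/-- the transition map `M/I^(j+1) → M/I^(i+1)` -/
def qtr {i j : ℕ} (h : i ≤ j) : (M ⧸ P I M j) →ₗ[A] (M ⧸ P I M i) :=
  Submodule.mapQ _ _ LinearMap.id (by rw [Submodule.comap_id]; exact P_anti I M h)

@[simp] lemma qtr_mk {i j : ℕ} (h : i ≤ j) (x : M) :
    qtr I M h (Submodule.Quotient.mk x) = Submodule.Quotient.mk x := rfl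

lemma qtr_refl (i : ℕ) : qtr I M (le_refl i) = LinearMap.id := by
  apply Submodule.linearMap_qext
  apply LinearMap.ext
  intro x
  simp only [LinearMap.comp_apply, Submodule.mkQ_apply, qtr_mk, LinearMap.id_apply]

lemma qtr_comp {i j k : ℕ} (h1 : i ≤ j) (h2 : j ≤ k) :
    (qtr I M h1).comp (qtr I M h2) = qtr I M (h1.trans h2) := by
  apply Submodule.linearMap_qext
  apply LinearMap.ext
  intro x
  simp only [LinearMap.comp_apply, Submodule.mkQ_apply, qtr_mk]

/-- the system `(M / I^(n+1) M)_n` -/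
def Q : ℕᵒᵖ ⥤ ModuleCat.{u} A where
  obj n := ModuleCat.of A (M ⧸ P I M n.unop)
  map {i j} f := ModuleCat.ofHom (qtr I M (leOfHom f.unop))
  map_id i := by
    apply ModuleCat.hom_ext
    rw [ModuleCat.hom_ofHom, ModuleCat.hom_id]
    exact qtr_refl I M i.unop
  map_comp {i j k} f g := by
    apply ModuleCat.hom_ext
    rw [ModuleCat.hom_ofHom, ModuleCat.hom_comp, ModuleCat.hom_ofHom, ModuleCat.hom_ofHom]
    exact (qtr_comp I M (leOfHom g.unop) (leOfHom f.unop)).symm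

lemma Q_map_apply {i j : ℕ} (h : i ≤ j) (x : M) :
    ((Q I M).map (homOfLE h).op).hom (Submodule.Quotient.mk x : M ⧸ P I M j) =
      (Submodule.Quotient.mk x : M ⧸ P I M i) := rfl

end QSys

section Main

variable {A : Type u} [CommRing A] (I : Ideal A) (S : ℕᵒᵖ ⥤ ModuleCat.{u} A)

/-- the projections of the limit, as linear maps -/
noncomputable abbrev pr (n : ℕ) : ↑(limit S) →ₗ[A] S.obj (op n) := (limit.π S (op n)).hom

lemma T_pr {i j : ℕ} (h : i ≤ j) (y : ↑(limit S)) : T S h (pr S j y) = pr S i y := by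
  have := limit.w S (homOfLE h).op
  change (limit.π S (op j) ≫ S.map (homOfLE h).op).hom y = (limit.π S (op i)).hom y
  rw [this]

lemma ker_pr_anti {i j : ℕ} (h : i ≤ j) : LinearMap.ker (pr S j) ≤ LinearMap.ker (pr S i) := by
  intro y hy
  rw [LinearMap.mem_ker] at hy ⊢
  rw [← T_pr S h, hy, map_zero]

theorem exists_ν (hb : ∀ k : ℕ, ∃ n : ℕ, LinearMap.ker (pr S n) ≤
      I ^ k • (⊤ : Submodule A ↑(limit S))) :
    ∃ ν : ℕ → ℕ, Monotone ν ∧ (∀ k, k ≤ ν k) ∧
      ∀ k, LinearMap.ker (pr S (ν k)) ≤ P I ↑(limit S) k := by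
  choose f hf using fun k => hb (k + 1)
  obtain ⟨F, hF, hge, hid⟩ := exists_mono_ge f
  exact ⟨F, hF, hid, fun k => (ker_pr_anti S (hge k)).trans (hf k)⟩

theorem exists_N (hML : ARSys.IsML S) :
    ∃ N : ℕ → ℕ, Monotone N ∧ (∀ n, n ≤ N n) ∧
      ∀ n (h : n ≤ N n) (x : S.obj (op (N n))), ∃ y, pr S n y = T S h x := by
  choose N0 hN0 hl using exists_lift_of_isML S hML
  obtain ⟨F, hF, hge, hid⟩ := exists_mono_ge N0
  refine ⟨F, hF, hid, fun n h x => ?_⟩
  obtain ⟨y, hy⟩ := hl n (T S (hge n) x)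
  refine ⟨y, ?_⟩
  rw [hy, T_comp]

variable (ν N : ℕ → ℕ) (hν : ∀ k, LinearMap.ker (pr S (ν k)) ≤ P I ↑(limit S) k)
  (hNle : ∀ n, n ≤ N n)
  (hN : ∀ n (h : n ≤ N n) (x : S.obj (op (N n))), ∃ y, pr S n y = T S h x)

/-- the comparison map `S_{N (ν k)} → M / I^(k+1) M` -/
noncomputable def aMap (k : ℕ) : S.obj (op (N (ν k))) →ₗ[A] (↑(limit S) ⧸ P I ↑(limit S) k) :=
  (Submodule.liftQ (LinearMap.ker (pr S (ν k))) (Submodule.mkQ (P I ↑(limit S) k))
      (by rw [Submodule.ker_mkQ]; exact hν k)).comp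
    ((LinearMap.quotKerEquivRange (pr S (ν k))).symm.toLinearMap.comp
      (LinearMap.codRestrict (LinearMap.range (pr S (ν k))) (T S (hNle (ν k)))
        (fun x => by obtain ⟨y, hy⟩ := hN (ν k) (hNle (ν k)) x; exact ⟨y, hy⟩)))

lemma aMap_spec (k : ℕ) (x : S.obj (op (N (ν k)))) (y : ↑(limit S))
    (hy : pr S (ν k) y = T S (hNle (ν k)) x) :
    aMap I S ν N hν hNle hN k x = Submodule.Quotient.mk y := by
  unfold aMap
  rw [LinearMap.comp_apply, LinearMap.comp_apply]
  have e1 : LinearMap.codRestrict (LinearMap.range (pr S (ν k))) (T S (hNle (ν k)))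
      (fun x => by obtain ⟨y, hy⟩ := hN (ν k) (hNle (ν k)) x; exact ⟨y, hy⟩) x =
      ⟨pr S (ν k) y, ⟨y, rfl⟩⟩ := Subtype.ext hy.symm
  rw [e1]
  have e2 := LinearMap.quotKerEquivRange_symm_apply_image (pr S (ν k)) y ⟨y, rfl⟩
  rw [LinearEquiv.coe_coe, e2]
  rfl

omit hν hNle hN in
theorem isProIsomorphic_Q (hML : ARSys.IsML S)
    (hb : ∀ k : ℕ, ∃ n : ℕ, LinearMap.ker (pr S n) ≤ I ^ k • (⊤ : Submodule A ↑(limit S)))
    (hkill : ∀ n, ∀ a ∈ I ^ (n + 1), ∀ s : S.obj (op n), a • s = 0) :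
    Algz.IsProIsomorphic S (Q I ↑(limit S)) := by
  obtain ⟨ν, hνm, hνle, hν⟩ := exists_ν I S hb
  obtain ⟨N, hNm, hNle, hN⟩ := exists_N S hML
  have hm : Monotone (fun k => N (ν k)) := hNm.comp hνm
  have hle : ∀ k, k ≤ N (ν k) := fun k => (hνle k).trans (hNle _)
  let a : DerCA.reindex S hm ⟶ Q I ↑(limit S) :=
    { app := fun k => ModuleCat.ofHom (aMap I S ν N hν hNle hN k.unop)
      naturality := by
        rintro ⟨k'⟩ ⟨k⟩ f
        have h : k ≤ k' := leOfHom f.unop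
        have hf : f = (homOfLE h).op := Subsingleton.elim _ _
        subst hf
        apply ModuleCat.hom_ext
        apply LinearMap.ext
        intro x
        change aMap I S ν N hν hNle hN k (T S (hm h) x) =
          qtr I ↑(limit S) h (aMap I S ν N hν hNle hN k' x)
        obtain ⟨y, hy⟩ := hN (ν k') (hNle _) x
        rw [aMap_spec I S ν N hν hNle hN k' x y hy, qtr_mk]
        apply aMap_spec
        rw [← T_pr S (hνm h), hy]
        exact (T_comp S _ _ x).trans (T_comp S _ _ x).symm }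
  refine ⟨_, hm, hle, a, ?_⟩
  intro k
  have hPk : P I ↑(limit S) (N (ν k)) ≤ LinearMap.ker (pr S (N (ν k))) := by
    apply Submodule.smul_le.2
    intro r hr y _
    rw [LinearMap.mem_ker, map_smul]
    exact hkill _ r hr _
  refine ⟨N (ν k), hle k,
    ModuleCat.ofHom (Submodule.liftQ _ (pr S (N (ν k))) hPk), ?_, ?_⟩
  · apply ModuleCat.hom_ext
    apply LinearMap.ext
    intro x
    change Submodule.liftQ _ (pr S (N (ν k))) hPk
      (aMap I S ν N hν hNle hN (N (ν k)) x) = T S (hm (hle k)) x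
    obtain ⟨y, hy⟩ := hN (ν (N (ν k))) (hNle _) x
    rw [aMap_spec I S ν N hν hNle hN _ x y hy]
    change pr S (N (ν k)) y = _
    rw [← T_pr S (hνle (N (ν k))), hy]
    exact T_comp S _ _ x
  · apply ModuleCat.hom_ext
    apply Submodule.linearMap_qext
    apply LinearMap.ext
    intro y
    change aMap I S ν N hν hNle hN k (pr S (N (ν k)) y) =
      qtr I ↑(limit S) (hle k) (Submodule.Quotient.mk y)
    rw [qtr_mk]
    apply aMap_spec
    rw [T_pr]

omit hν hNle hN in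
theorem finite_Q
    (hb : ∀ k : ℕ, ∃ n : ℕ, LinearMap.ker (pr S n) ≤ I ^ k • (⊤ : Submodule A ↑(limit S)))
    (hc : ∀ n, Module.Finite A (LinearMap.range (pr S n))) (k : ℕ) :
    Module.Finite A (↑(limit S) ⧸ P I ↑(limit S) k) := by
  obtain ⟨n, hn⟩ := hb (k + 1)
  haveI := hc n
  have hle : LinearMap.ker (pr S n) ≤ LinearMap.ker (Submodule.mkQ (P I ↑(limit S) k)) := by
    rw [Submodule.ker_mkQ]; exact hn
  let g : LinearMap.range (pr S n) →ₗ[A] (↑(limit S) ⧸ P I ↑(limit S) k) :=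
    (Submodule.liftQ (LinearMap.ker (pr S n)) (Submodule.mkQ (P I ↑(limit S) k)) hle).comp
      (LinearMap.quotKerEquivRange (pr S n)).symm.toLinearMap
  apply Module.Finite.of_surjective g
  intro z
  obtain ⟨y, rfl⟩ := Submodule.Quotient.mk_surjective _ z
  refine ⟨⟨pr S n y, LinearMap.mem_range_self _ y⟩, ?_⟩
  have e2 := LinearMap.quotKerEquivRange_symm_apply_image (pr S n) y
    (LinearMap.mem_range_self _ y)
  change Submodule.liftQ _ (Submodule.mkQ (P I ↑(limit S) k)) hle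
    ((LinearMap.quotKerEquivRange (pr S n)).symm
      ⟨pr S n y, LinearMap.mem_range_self _ y⟩) = _
  rw [e2]
  rfl

end Main

end Groth.Agent.Lib.R2LeadAlgzF
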