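import Groth.Agent.Lib.R2LeadAlgzF
import Groth.Agent.Lib.R2LeadAlgzC
import Groth.Agent.Lib.Helper23FinType2
import Groth.Agent.Lib.R2H3TowerA

set_option autoImplicit false
set_option linter.style.haveILetI false
universe u
open CategoryTheory CategoryTheory.Limits AlgebraicGeometry Opposite

namespace Groth.Agent.Lib.R2LeadAlgzG

open Groth.Agent.Lib.R2LeadAlgzF Groth.Agent.Lib.R2LeadAlgzA Groth.Agent.Lib.R2LeadAlgzC
  Groth.Agent.Lib.R2H2.ModPowAff Groth.Agent.Lib.R2Lead.CohFormalA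

variable {A : Type u} [CommRing A]

/-- sections over `⊤` of a module killed by `J` are killed by `J` (as an `A`-module). -/
theorem smul_eq_zero_of_killedBy (J : Ideal A) (F : (Spec (CommRingCat.of A)).Modules)
    (hF : @Formal.KilledBy A _ (Spec (CommRingCat.of A)) ⟨𝟙 _⟩ J F) (a : A) (ha : a ∈ J)
    (s : (Φ A).obj F) : a • s = 0 := by
  letI : (Spec (CommRingCat.of A)).Over (Spec (CommRingCat.of A)) := ⟨𝟙 _⟩
  rw [smul_eq_ρ_smul, ← smulMod_app' F a ⊤, hF a ha]
  rfl

lemma Φ_map_smulMod (F : (Spec (CommRingCat.of A)).Modules) (a : A) (s : (Φ A).obj F) :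
    ((Φ A).map (@Formal.smulMod A _ (Spec (CommRingCat.of A)) ⟨𝟙 _⟩ F a)).hom s = a • s := by
  rw [smul_eq_ρ_smul]
  rfl

theorem killedBy_tilde (J : Ideal A) (N : ModuleCat.{u} A) (hN : ∀ a ∈ J, ∀ x : N, a • x = 0) :
    @Formal.KilledBy A _ (Spec (CommRingCat.of A)) ⟨𝟙 _⟩ J
      ((tilde.functor (CommRingCat.of A)).obj N) := by
  letI : (Spec (CommRingCat.of A)).Over (Spec (CommRingCat.of A)) := ⟨𝟙 _⟩
  intro a ha
  apply ((tilde.adjunction (R := CommRingCat.of A)).homEquiv N _).injective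
  rw [Adjunction.homEquiv_unit, Adjunction.homEquiv_unit]
  apply ModuleCat.hom_ext
  apply LinearMap.ext
  intro x
  change ((Φ A).map (Formal.smulMod A ((tilde.functor (CommRingCat.of A)).obj N) a)).hom
      (((tilde.adjunction (R := CommRingCat.of A)).unit.app N).hom x) =
    ((Φ A).map (0 : (tilde.functor (CommRingCat.of A)).obj N ⟶ _)).hom
      (((tilde.adjunction (R := CommRingCat.of A)).unit.app N).hom x)
  rw [Φ_map_smulMod, ← map_smul, hN a ha x, map_zero]
  rfl

section QT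

open Groth.Agent.Lib.R2H2.FlatDev

variable (I : Ideal A) (M : Type u) [AddCommGroup M] [Module A M]

/-- the system `((M / I^(n+1) M)~)_n` on `Spec A` -/
noncomputable abbrev QT : ℕᵒᵖ ⥤ (Spec (CommRingCat.of A)).Modules :=
  Q I M ⋙ tilde.functor (CommRingCat.of A)

lemma Q_killed (k : ℕ) (a : A) (ha : a ∈ I ^ (k + 1)) (x : M ⧸ P I M k) : a • x = 0 := by
  obtain ⟨y, rfl⟩ := Submodule.Quotient.mk_surjective _ x
  rw [← Submodule.Quotient.mk_smul, Submodule.Quotient.mk_eq_zero]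
  exact Submodule.smul_mem_smul ha Submodule.mem_top

lemma killedBy_QT (k : ℕ) :
    @Formal.KilledBy A _ (Spec (CommRingCat.of A)) ⟨𝟙 _⟩ (I ^ (k + 1)) ((QT I M).obj (op k)) :=
  killedBy_tilde (I ^ (k + 1)) ((Q I M).obj (op k)) (fun a ha x => Q_killed I M k a ha x)

lemma epi_QT_map (n : ℕ) : Epi ((QT I M).map (homOfLE (Nat.le_succ n)).op) := by
  haveI : (tilde.functor (CommRingCat.of A)).PreservesEpimorphisms :=
    Functor.preservesEpimorphisms_of_adjunction (tilde.adjunction (R := CommRingCat.of A))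
  haveI : Epi ((Q I M).map (homOfLE (Nat.le_succ n)).op) := by
    rw [ModuleCat.epi_iff_surjective]
    intro x
    obtain ⟨y, rfl⟩ := Submodule.Quotient.mk_surjective _ x
    exact ⟨Submodule.Quotient.mk y, rfl⟩
  exact (tilde.functor (CommRingCat.of A)).map_epi
    ((Q I M).map (homOfLE (Nat.le_succ n)).op)

theorem exists_factor_mod (n : ℕ) {W : ModuleCat.{u} A} (v : (Q I M).obj (op (n + 1)) ⟶ W)
    (hW : ∀ a ∈ I ^ (n + 1), ∀ w : W, a • w = 0) :
    ∃ k0 : (Q I M).obj (op n) ⟶ W, (Q I M).map (homOfLE (Nat.le_succ n)).op ≫ k0 = v := by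
  have hv : P I M n ≤ LinearMap.ker (v.hom.comp (Submodule.mkQ (P I M (n + 1)))) := by
    apply Submodule.smul_le.2
    intro r hr y _
    have e := (v.hom.comp (Submodule.mkQ (P I M (n + 1)))).map_smul r y
    rw [LinearMap.mem_ker, e]
    exact hW r hr _
  refine ⟨ModuleCat.ofHom
    (Submodule.liftQ (P I M n) (v.hom.comp (Submodule.mkQ (P I M (n + 1)))) hv), ?_⟩
  apply ModuleCat.hom_ext
  apply Submodule.linearMap_qext
  apply LinearMap.ext
  intro y
  rfl

theorem exists_factor (n : ℕ) :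
    letI : (Spec (CommRingCat.of A)).Over (Spec (CommRingCat.of A)) := ⟨𝟙 _⟩
    ∃ k : (QT I M).obj (op n) ⟶ modJ (I ^ (n + 1)) ((QT I M).obj (op (n + 1))),
      (QT I M).map (homOfLE (Nat.le_succ n)).op ≫ k =
        πJ (I ^ (n + 1)) ((QT I M).obj (op (n + 1))) := by
  letI : (Spec (CommRingCat.of A)).Over (Spec (CommRingCat.of A)) := ⟨𝟙 _⟩
  let F := (QT I M).obj (op (n + 1))
  let adj := tilde.adjunction (R := CommRingCat.of A)
  -- the adjoint of the projection
  let v : (Q I M).obj (op (n + 1)) ⟶ (Φ A).obj (modJ (I ^ (n + 1)) F) :=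
    adj.homEquiv _ _ (πJ (I ^ (n + 1)) F)
  obtain ⟨k0, hk0⟩ := exists_factor_mod I M n v
    (fun r hr w => smul_eq_zero_of_killedBy (I ^ (n + 1)) _
      (killedBy_modJ (I ^ (n + 1)) F) r hr w)
  refine ⟨(adj.homEquiv _ _).symm k0, ?_⟩
  apply (adj.homEquiv _ _).injective
  change adj.homEquiv _ _ ((tilde.functor (CommRingCat.of A)).map
    ((Q I M).map (homOfLE (Nat.le_succ n)).op) ≫ (adj.homEquiv _ _).symm k0) = v
  rw [Adjunction.homEquiv_naturality_left, Equiv.apply_symm_apply, hk0]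

theorem isCohFormal_QT (hfin : ∀ k, Module.Finite A (M ⧸ P I M k)) :
    @Formal.IsCohFormal A _ (Spec (CommRingCat.of A)) ⟨𝟙 _⟩ I (QT I M) := by
  letI : (Spec (CommRingCat.of A)).Over (Spec (CommRingCat.of A)) := ⟨𝟙 _⟩
  refine ⟨fun k => ⟨inferInstanceAs
      (tilde (R := CommRingCat.of A) ((Q I M).obj (op k))).IsQuasicoherent, ?_⟩,
    fun k => killedBy_QT I M k, fun n => ?_⟩
  · exact (Groth.Agent.Lib.Helper23.FinType.isFiniteType_tilde_iff (CommRingCat.of A)
      ((Q I M).obj (op k))).2 (hfin k)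
  · refine ⟨smulFamily_comp_eq_zero_of_killedBy _ (killedBy_QT I M n), ?_⟩
    change IsIso (descJ (I ^ (n + 1)) ((QT I M).map (homOfLE (Nat.le_succ n)).op)
      (killedBy_QT I M n))
    haveI := epi_QT_map I M n
    exact isIso_descJ _ _ _ (exists_factor I M n)

end QT

section Final

theorem sectMod_killed (I : Ideal A) (U : (Spec (CommRingCat.of A)).Opens)
    (G : ℕᵒᵖ ⥤ (U : Scheme.{u}).Modules) (hG : Formal.IsCohFormal I G) (n : ℕ) (a : A)
    (ha : a ∈ I ^ (n + 1)) (s : (Algz.sectMod A U G).obj (op n)) : a • s = 0 := by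
  letI : (Spec (CommRingCat.of A)).Over (Spec (CommRingCat.of A)) := ⟨𝟙 _⟩
  have hk : Formal.KilledBy (I ^ (n + 1)) ((Scheme.Modules.pushforward U.ι).obj (G.obj (op n))) := by
    intro b hb
    rw [← Groth.Agent.Lib.R2H3.TowerA.pushforward_map_smulMod U.ι (Category.comp_id _)
      (G.obj (op n)) b, hG.2.1 n b hb]
    exact Functor.map_zero _ _ _
  exact smul_eq_zero_of_killedBy (I ^ (n + 1)) _ hk a ha s

theorem canonicallyExtends_of_isML (I : Ideal A) (U : (Spec (CommRingCat.of A)).Opens)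
    (G : ℕᵒᵖ ⥤ (U : Scheme.{u}).Modules) (hG : Formal.IsCohFormal I G)
    (ha : ARSys.IsML (Algz.sectMod A U G))
    (hb : ∀ k : ℕ, ∃ n : ℕ, LinearMap.ker (limit.π (Algz.sectMod A U G) (op n)).hom ≤
      I ^ k • (⊤ : Submodule A ↑(limit (Algz.sectMod A U G))))
    (hc : ∀ n : ℕ, Module.Finite A
      ↥(LinearMap.range (limit.π (Algz.sectMod A U G) (op n)).hom)) :
    Algz.CanonicallyExtends A I U G := by
  have hpro := isProIsomorphic_Q I (Algz.sectMod A U G) ha hb
    (fun n a ha s => sectMod_killed I U G hG n a ha s)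
  have hfin := finite_Q I (Algz.sectMod A U G) hb hc
  refine ⟨QT I ↑(limit (Algz.sectMod A U G)), isCohFormal_QT I _ hfin, ?_⟩
  exact isProIsomorphic_map (tilde.functor (CommRingCat.of A)) hpro

end Final

end Groth.Agent.Lib.R2LeadAlgzG
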