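import Groth.Prelude.Def_Formal2
import Groth.Agent.Lib.R2LeadAlgzG
import Groth.Agent.Lib.R2LeadAlgzE
import Groth.Agent.Lib.H6xEssD
import Groth.Agent.S9498
import Groth.Agent.Lib.R2H2DevF
import Groth.Agent.Lib.Helper23FinType

set_option autoImplicit false
set_option linter.style.haveILetI false
universe u
open CategoryTheory CategoryTheory.Limits AlgebraicGeometry Opposite

namespace Groth.Agent.Lib.R2LeadAlgzH

open Groth.Agent.Lib.R2LeadAlgzF Groth.Agent.Lib.R2LeadAlgzG Groth.Agent.Lib.R2LeadAlgzA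
  Groth.Agent.Lib.R2LeadAlgzC Groth.Agent.Lib.R2LeadAlgzE Groth.Agent.Lib.R2LeadAlgzD

variable {A : Type u} [CommRing A]

section PartI

variable [IsNoetherianRing A]

instance (U : (Spec (CommRingCat.of A)).Opens) : (Rf U).PreservesMonomorphisms := by
  haveI : PreservesFiniteLimits (tilde.functor (CommRingCat.of A)) :=
    (Groth.Agent.S9498.aux (CommRingCat.of A)).1
  haveI : (tilde.functor (CommRingCat.of A)).PreservesMonomorphisms := inferInstance
  haveI : (Scheme.Modules.restrictFunctor U.ι).PreservesMonomorphisms := inferInstance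
  infer_instance

lemma isQuasicoherent_Rf (U : (Spec (CommRingCat.of A)).Opens) (N : ModuleCat.{u} A) :
    ((Rf U).obj N).IsQuasicoherent :=
  inferInstanceAs ((Scheme.Modules.restrictFunctor U.ι).obj
    (tilde (R := CommRingCat.of A) N)).IsQuasicoherent

/-- if `ker π ⊆ ker q` with `q` onto, and `W~|_U` is coherent, then `N~|_U` is of finite type. -/
theorem isFiniteType_Rf_of_ker_le (U : (Spec (CommRingCat.of A)).Opens)
    {M W N : ModuleCat.{u} A} (π : M ⟶ W) (q : M ⟶ N) (hq : Function.Surjective q.hom)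
    (hker : LinearMap.ker π.hom ≤ LinearMap.ker q.hom)
    (hW : SheafOfModules.IsFiniteType (R := (U : Scheme.{u}).ringCatSheaf) ((Rf U).obj W)) :
    SheafOfModules.IsFiniteType (R := (U : Scheme.{u}).ringCatSheaf) ((Rf U).obj N) := by
  haveI : CompactSpace ↥(U : Scheme.{u}) :=
    isCompact_iff_compactSpace.mp
      (TopologicalSpace.NoetherianSpace.isCompact (U : Set (Spec (CommRingCat.of A))))
  haveI : AlgebraicGeometry.IsNoetherian (U : Scheme.{u}) := { }
  let R : ModuleCat.{u} A := ModuleCat.of A (LinearMap.range π.hom)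
  let ι : R ⟶ W := ModuleCat.ofHom (LinearMap.range π.hom).subtype
  let g : R ⟶ N := ModuleCat.ofHom ((Submodule.liftQ (LinearMap.ker π.hom) q.hom hker).comp
    (LinearMap.quotKerEquivRange π.hom).symm.toLinearMap)
  haveI : Mono ι := by
    rw [ModuleCat.mono_iff_injective]
    intro a b hab
    exact Subtype.ext hab
  haveI : Epi g := by
    rw [ModuleCat.epi_iff_surjective]
    intro z
    obtain ⟨y, rfl⟩ := hq z
    refine ⟨⟨π.hom y, LinearMap.mem_range_self _ y⟩, ?_⟩
    have e2 := LinearMap.quotKerEquivRange_symm_apply_image π.hom y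
      (LinearMap.mem_range_self _ y)
    change (Submodule.liftQ (LinearMap.ker π.hom) q.hom hker)
      ((LinearMap.quotKerEquivRange π.hom).symm ⟨π.hom y, LinearMap.mem_range_self _ y⟩) = _
    rw [e2]
    rfl
  haveI := hW
  haveI := isQuasicoherent_Rf U W
  haveI := isQuasicoherent_Rf U R
  haveI := isQuasicoherent_Rf U N
  haveI : Mono ((Rf U).map ι) := Functor.map_mono _ _
  haveI f1 : SheafOfModules.IsFiniteType (R := (U : Scheme.{u}).ringCatSheaf) ((Rf U).obj R) :=
    Groth.Agent.Lib.Helper23.FinType.isFiniteType_of_mono ((Rf U).map ι)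
  haveI : Epi ((Rf U).map g) := Functor.map_epi _ _
  exact Groth.Agent.Lib.Helper23.FinType.isFiniteType_of_epi ((Rf U).map g)

theorem isCoh_restrict_quot (I : Ideal A) (U : (Spec (CommRingCat.of A)).Opens)
    (G : ℕᵒᵖ ⥤ (U : Scheme.{u}).Modules) (hG : Formal.IsCohFormal I G)
    (hb : ∀ k : ℕ, ∃ n : ℕ, LinearMap.ker (limit.π (Algz.sectMod A U G) (op n)).hom ≤
      I ^ k • (⊤ : Submodule A ↑(limit (Algz.sectMod A U G)))) (n : ℕ) :
    Coh.IsCoh ((Scheme.Modules.restrictFunctor U.ι).obj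
      (Formal2.tmod A (Formal2.quotPow A I ↑(limit (Algz.sectMod A U G)) n))) := by
  obtain ⟨m, hm⟩ := hb (n + 1)
  let e : (Rf U).obj ((Algz.sectMod A U G).obj (op m)) ≅ G.obj (op m) :=
    (sectSysRestrictIso U G (fun k => (hG.1 k.unop).1)).app (op m)
  have hW : SheafOfModules.IsFiniteType (R := (U : Scheme.{u}).ringCatSheaf)
      ((Rf U).obj ((Algz.sectMod A U G).obj (op m))) := by
    haveI : (G.obj (op m)).IsQuasicoherent := (hG.1 m).1
    haveI : SheafOfModules.IsFiniteType (R := (U : Scheme.{u}).ringCatSheaf) (G.obj (op m)) :=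
      (hG.1 m).2
    haveI := isQuasicoherent_Rf U ((Algz.sectMod A U G).obj (op m))
    haveI : Epi e.inv := inferInstance
    exact Groth.Agent.Lib.Helper23.FinType.isFiniteType_of_epi e.inv
  refine ⟨isQuasicoherent_Rf U (ModuleCat.of A
    (Formal2.quotPow A I ↑(limit (Algz.sectMod A U G)) n)), ?_⟩
  refine isFiniteType_Rf_of_ker_le U (limit.π (Algz.sectMod A U G) (op m))
    (ModuleCat.ofHom (Formal2.quotPowπ A I ↑(limit (Algz.sectMod A U G)) n))
    (Submodule.mkQ_surjective _) ?_ hW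
  intro y hy
  rw [LinearMap.mem_ker]
  exact (Submodule.Quotient.mk_eq_zero _).2 (hm hy)

end PartI

section PartII

variable (I : Ideal A) (M : Type u) [AddCommGroup M] [Module A M]

lemma quotPowTrans_eq (n : ℕ) : Formal2.quotPowTrans A I M n = qtr I M (Nat.le_succ n) := rfl

/-- iterated compatibility of a family of sections of the `(M / I^(n+1) M)~` -/
lemma compat_iter (V : (Spec (CommRingCat.of A)).Opens)
    (x : ∀ n : ℕ, Γ((QT I M).obj (op n), V))
    (hx : ∀ n : ℕ, Scheme.Modules.Hom.app ((QT I M).map (homOfLE (Nat.le_succ n)).op) V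
      (x (n + 1)) = x n) {n m : ℕ} (h : n ≤ m) :
    Scheme.Modules.Hom.app ((QT I M).map (homOfLE h).op) V (x m) = x n := by
  obtain ⟨k, rfl⟩ := Nat.exists_eq_add_of_le h
  induction k with
  | zero =>
    have e : (QT I M).map (homOfLE h).op = 𝟙 _ := by
      rw [← (QT I M).map_id]; rfl
    rw [e]
    rfl
  | succ k ih =>
    have e : (QT I M).map (homOfLE h).op =
        (QT I M).map (homOfLE (Nat.le_succ (n + k))).op ≫
          (QT I M).map (homOfLE (Nat.le_add_right n k)).op := by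
      rw [← (QT I M).map_comp]; rfl
    rw [e]
    change Scheme.Modules.Hom.app ((QT I M).map (homOfLE (Nat.le_add_right n k)).op) V
      (Scheme.Modules.Hom.app ((QT I M).map (homOfLE (Nat.le_succ (n + k))).op) V
        (x (n + k + 1))) = x n
    rw [hx (n + k)]
    exact ih (Nat.le_add_right n k)

/-- the transition `Q_m → Q_n` kills the kernel of any `ℓ : Q_m → W` lifting a map `π : M → W`
whose kernel lies in `I^(n+1) M`. -/
lemma kernel_ι_comp_eq_zero {n m : ℕ} (h : n ≤ m) {W : ModuleCat.{u} A}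
    (ℓ : (Q I M).obj (op m) ⟶ W) (π : M →ₗ[A] W)
    (hℓ : ∀ y : M, ℓ.hom (Submodule.Quotient.mk y) = π y)
    (hker : LinearMap.ker π ≤ P I M n) :
    kernel.ι ℓ ≫ (Q I M).map (homOfLE h).op = 0 := by
  apply ModuleCat.hom_ext
  apply LinearMap.ext
  intro z
  have hz : ℓ.hom ((kernel.ι ℓ).hom z) = 0 := by
    have := kernel.condition ℓ
    change (kernel.ι ℓ ≫ ℓ).hom z = 0
    rw [this]
    rfl
  obtain ⟨y, hy⟩ := Submodule.Quotient.mk_surjective _ ((kernel.ι ℓ).hom z)
  change ((Q I M).map (homOfLE h).op).hom ((kernel.ι ℓ).hom z) = 0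
  rw [← hy] at hz ⊢
  rw [hℓ y] at hz
  rw [Q_map_apply]
  exact (Submodule.Quotient.mk_eq_zero _).2 (hker hz)

theorem sections_eq_zero (V : (Spec (CommRingCat.of A)).Opens)
    (S : ℕᵒᵖ ⥤ ModuleCat.{u} A) (π : ∀ n, M →ₗ[A] S.obj (op n))
    (hπ : ∀ {i j : ℕ} (h : i ≤ j), LinearMap.ker (π j) ≤ LinearMap.ker (π i))
    (hb : ∀ k : ℕ, ∃ n : ℕ, LinearMap.ker (π n) ≤ P I M k)
    (ℓ : ∀ n, (Q I M).obj (op n) ⟶ S.obj (op n))
    (hℓ : ∀ n (y : M), (ℓ n).hom (Submodule.Quotient.mk y) = π n y)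
    (x : ∀ n : ℕ, Γ((QT I M).obj (op n), V))
    (hx : ∀ n : ℕ, Scheme.Modules.Hom.app ((QT I M).map (homOfLE (Nat.le_succ n)).op) V
      (x (n + 1)) = x n)
    (hz : ∀ n : ℕ, Scheme.Modules.Hom.app ((tilde.functor (CommRingCat.of A)).map (ℓ n)) V
      (x n) = 0) (n : ℕ) : x n = 0 := by
  obtain ⟨m0, hm0⟩ := hb n
  have hnm : n ≤ max m0 n := le_max_right _ _
  have hm : LinearMap.ker (π (max m0 n)) ≤ P I M n := (hπ (le_max_left m0 n)).trans hm0
  haveI : PreservesFiniteLimits (tilde.functor (CommRingCat.of A)) :=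
    (Groth.Agent.S9498.aux (CommRingCat.of A)).1
  have h0 := kernel_ι_comp_eq_zero I M hnm (ℓ (max m0 n)) (π (max m0 n)) (hℓ _) hm
  obtain ⟨r, hr⟩ := Groth.Agent.Lib.R2H2.DevF.exists_kernel_app_eq
    ((tilde.functor (CommRingCat.of A)).map (ℓ (max m0 n))) V (x (max m0 n)) (hz _)
  have key : kernel.ι ((tilde.functor (CommRingCat.of A)).map (ℓ (max m0 n))) ≫
      (QT I M).map (homOfLE hnm).op = 0 := by
    have hc := kernelComparison_comp_ι (ℓ (max m0 n)) (tilde.functor (CommRingCat.of A))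
    rw [← cancel_epi (kernelComparison (ℓ (max m0 n)) (tilde.functor (CommRingCat.of A))),
      ← Category.assoc, hc, comp_zero]
    change (tilde.functor (CommRingCat.of A)).map (kernel.ι (ℓ (max m0 n))) ≫
      (tilde.functor (CommRingCat.of A)).map ((Q I M).map (homOfLE hnm).op) = 0
    rw [← Functor.map_comp, h0, Functor.map_zero]
  rw [← compat_iter I M V x hx hnm, ← hr]
  change Scheme.Modules.Hom.app (kernel.ι ((tilde.functor (CommRingCat.of A)).map
    (ℓ (max m0 n))) ≫ (QT I M).map (homOfLE hnm).op) V r = 0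
  rw [key]
  rfl

end PartII

section Final

variable [IsNoetherianRing A]

theorem injective_of_limit_topology (I : Ideal A) (U : (Spec (CommRingCat.of A)).Opens)
    (G : ℕᵒᵖ ⥤ (U : Scheme.{u}).Modules) (hG : Formal.IsCohFormal I G)
    (hb : ∀ k : ℕ, ∃ n : ℕ, LinearMap.ker (limit.π (Algz.sectMod A U G) (op n)).hom ≤
      I ^ k • (⊤ : Submodule A ↑(limit (Algz.sectMod A U G))))
    (ℓ : ∀ n : ℕ, ModuleCat.of A (Formal2.quotPow A I ↑(limit (Algz.sectMod A U G)) n) ⟶
      (Algz.sectMod A U G).obj (op n))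
    (hℓ : ∀ n : ℕ, ModuleCat.ofHom (Formal2.quotPowπ A I ↑(limit (Algz.sectMod A U G)) n) ≫ ℓ n =
      limit.π (Algz.sectMod A U G) (op n))
    (V : (Spec (CommRingCat.of A)).Opens)
    (x : ∀ n : ℕ, (Scheme.Modules.presheaf (Formal2.tmod A
      (Formal2.quotPow A I ↑(limit (Algz.sectMod A U G)) n))).obj (op V))
    (hx : ∀ n : ℕ, Scheme.Modules.Hom.app (Formal2.tmodMap A
      (Formal2.quotPowTrans A I ↑(limit (Algz.sectMod A U G)) n)) V (x (n + 1)) = x n)
    (hz : ∀ n : ℕ, Scheme.Modules.Hom.app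
      (((tilde.adjunction (R := CommRingCat.of A)).homEquiv
        (ModuleCat.of A (Formal2.quotPow A I ↑(limit (Algz.sectMod A U G)) n))
        ((Scheme.Modules.pushforward U.ι).obj (G.obj (op n)))).symm (ℓ n)) V (x n) = 0)
    (n : ℕ) : x n = 0 := by
  refine sections_eq_zero I ↑(limit (Algz.sectMod A U G)) V (Algz.sectMod A U G)
    (fun n => pr (Algz.sectMod A U G) n) (fun h => ker_pr_anti _ h) (fun k => hb (k + 1))
    ℓ ?_ x hx ?_ n
  · intro k y
    have := congrArg (fun φ => φ.hom y) (hℓ k)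
    exact this
  · intro k
    have h1 : Scheme.Modules.Hom.app ((tilde.functor (CommRingCat.of A)).map (ℓ k) ≫
        (tilde.adjunction (R := CommRingCat.of A)).counit.app
          ((Scheme.Modules.pushforward U.ι).obj (G.obj (op k)))) V (x k) = 0 := hz k
    haveI hq : ((Scheme.Modules.pushforward U.ι).obj (G.obj (op k))).IsQuasicoherent := by
      haveI : (G.obj (op k)).IsQuasicoherent := (hG.1 k).1
      exact Groth.Agent.Lib.Helper23.QCohLocal.isQuasicoherent_pushforward U.ι (G.obj (op k))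
    haveI : IsIso ((tilde.adjunction (R := CommRingCat.of A)).counit.app
        ((Scheme.Modules.pushforward U.ι).obj (G.obj (op k)))) :=
      isIso_fromTildeΓNatTrans_app _
    haveI : Mono ((tilde.adjunction (R := CommRingCat.of A)).counit.app
        ((Scheme.Modules.pushforward U.ι).obj (G.obj (op k)))) := IsIso.mono_of_iso _
    apply Groth.Agent.Lib.Helper23.Extend.injective_app_of_mono
      ((tilde.adjunction (R := CommRingCat.of A)).counit.app
        ((Scheme.Modules.pushforward U.ι).obj (G.obj (op k)))) V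
    exact h1.trans (map_zero _).symm

end Final

end Groth.Agent.Lib.R2LeadAlgzH
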