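import Mathlib
import Groth.Agent.Lib.R2H4RegSpreadSch

/-!
# Fibrewise regular sequences are regular on the stalk (lead)

`isWeaklyRegular_stalk`: `f : X ⟶ S` locally of finite presentation and flat at `x`, `hs` a list in
`O_{X,x}` whose image in `O_{X,x} / m_s O_{X,x}` is a regular sequence: then `hs` is a weakly
regular sequence on `O_{X,x}`.  (Stalk-level extraction from the proof of `R2H4.RegSpreadSch.main`.)
-/

set_option autoImplicit false
set_option linter.style.haveILetI false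
universe u

open AlgebraicGeometry CategoryTheory Limits RingTheory.Sequence IsLocalRing

namespace Groth.Agent.Lib.R2LeadFibReg

open Groth.Agent.Lib.R2H4.RegSpreadSch Groth.Agent.Lib.H9Slice

variable {X S : Scheme.{u}}

set_option maxHeartbeats 3200000 in
theorem isWeaklyRegular_stalk (f : X ⟶ S) [LocallyOfFinitePresentation f] (x : X)
    (hflat : (f.stalkMap x).hom.Flat) (hs : List ↑(X.presheaf.stalk x))
    (hreg : RingTheory.Sequence.IsRegular (↑(X.presheaf.stalk x) ⧸ Ideal.map (f.stalkMap x).hom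
        (IsLocalRing.maximalIdeal ↑(S.presheaf.stalk (f x))))
      (hs.map (Ideal.Quotient.mk (Ideal.map (f.stalkMap x).hom
        (IsLocalRing.maximalIdeal ↑(S.presheaf.stalk (f x))))))) :
    IsWeaklyRegular (X.presheaf.stalk x) hs := by
  obtain ⟨V, hxV, l₀, hl₀⟩ := exists_sections_of_germs x hs
  obtain ⟨_, ⟨S₀, hS₀, rfl⟩, hsS₀, -⟩ :=
    S.isBasis_affineOpens.exists_subset_of_mem_open (Set.mem_univ (f x)) isOpen_univ
  obtain ⟨_, ⟨X₀, hX₀, rfl⟩, hxX₀, hX₀'⟩ :=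
    X.isBasis_affineOpens.exists_subset_of_mem_open
      (show x ∈ V ⊓ f ⁻¹ᵁ S₀ from ⟨hxV, hsS₀⟩) (V ⊓ f ⁻¹ᵁ S₀).2
  have hX₀le : X₀ ≤ V ⊓ f ⁻¹ᵁ S₀ := hX₀'
  have hXV : X₀ ≤ V := hX₀le.trans inf_le_left
  have hXS : X₀ ≤ f ⁻¹ᵁ S₀ := hX₀le.trans inf_le_right
  set l : List Γ(X, X₀) := l₀.map (X.presheaf.map (homOfLE hXV).op).hom with hl
  have hgerm₀ : l.map (X.presheaf.germ X₀ x hxX₀).hom = hs := by
    rw [hl, List.map_map, ← hl₀]
    apply List.map_congr_left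
    intro a _
    simp only [Function.comp_apply]
    erw [X.presheaf.germ_res_apply (homOfLE hXV) x hxX₀ a]
  letI algAC : Algebra Γ(S, S₀) Γ(X, X₀) := (f.appLE S₀ X₀ hXS).hom.toAlgebra
  have hfp : (f.appLE S₀ X₀ hXS).hom.FinitePresentation :=
    HasRingHomProperty.appLE (P := @LocallyOfFinitePresentation) f inferInstance ⟨S₀, hS₀⟩
      ⟨X₀, hX₀⟩ hXS
  haveI : Algebra.FinitePresentation Γ(S, S₀) Γ(X, X₀) := hfp
  let P : Ideal Γ(X, X₀) := (hX₀.primeIdealOf ⟨x, hxX₀⟩).asIdeal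
  let p : Ideal Γ(S, S₀) := (hS₀.primeIdealOf ⟨f x, hsS₀⟩).asIdeal
  have hP : P.under Γ(S, S₀) = p :=
    congr($(IsAffineOpen.comap_primeIdealOf_appLE S₀ hS₀ X₀ hX₀ hXS hxX₀).1)
  have hflat' : Module.Flat Γ(S, S₀) (LocalizedModule P.primeCompl Γ(X, X₀)) :=
    (Groth.Agent.S0386.flat_stalkMap_iff_localizedModule S₀ hS₀ X₀ hX₀ hXS hxX₀).mp hflat
  have hreg' : IsRegular (EGA4.FibLocRing Γ(S, S₀) Γ(X, X₀) P)
      (l.map (algebraMap Γ(X, X₀) (EGA4.FibLocRing Γ(S, S₀) Γ(X, X₀) P))) := by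
    letI : Algebra Γ(S, S₀) (S.presheaf.stalk (f x)) :=
      (S.presheaf.germ S₀ (f x) hsS₀).hom.toAlgebra
    letI : Algebra (S.presheaf.stalk (f x)) (X.presheaf.stalk x) := (f.stalkMap x).hom.toAlgebra
    letI : Algebra Γ(X, X₀) (X.presheaf.stalk x) := (X.presheaf.germ X₀ x hxX₀).hom.toAlgebra
    letI : Algebra Γ(S, S₀) (X.presheaf.stalk x) :=
      ((X.presheaf.germ X₀ x hxX₀).hom.comp (f.appLE S₀ X₀ hXS).hom).toAlgebra
    haveI : IsScalarTower Γ(S, S₀) Γ(X, X₀) (X.presheaf.stalk x) :=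
      IsScalarTower.of_algebraMap_eq (fun _ => rfl)
    haveI : IsScalarTower Γ(S, S₀) (S.presheaf.stalk (f x)) (X.presheaf.stalk x) := by
      refine IsScalarTower.of_algebraMap_eq (fun a => ?_)
      change (X.presheaf.germ X₀ x hxX₀).hom ((f.appLE S₀ X₀ hXS).hom a) =
        (f.stalkMap x).hom ((S.presheaf.germ S₀ (f x) hsS₀).hom a)
      erw [Scheme.Hom.germ_stalkMap_apply f S₀ x hsS₀ a]
      simp only [Scheme.Hom.appLE, CommRingCat.hom_comp, RingHom.comp_apply]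
      exact (X.presheaf.germ_res_apply (homOfLE hXS) x hxX₀ _)
    haveI : IsLocalization.AtPrime (X.presheaf.stalk x) P := hX₀.isLocalization_stalk ⟨x, hxX₀⟩
    haveI : IsLocalization.AtPrime (S.presheaf.stalk (f x)) p :=
      hS₀.isLocalization_stalk ⟨f x, hsS₀⟩
    refine isRegular_transport' Γ(S, S₀) Γ(X, X₀) (S.presheaf.stalk (f x)) (X.presheaf.stalk x)
      P p hP l ?_
    change IsRegular _ ((l.map (X.presheaf.germ X₀ x hxX₀).hom).map
      (Ideal.Quotient.mk (Ideal.map (f.stalkMap x).hom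
        (IsLocalRing.maximalIdeal (S.presheaf.stalk (f x))))))
    rw [hgerm₀]
    exact hreg
  obtain ⟨c, hcP, hmain⟩ := Groth.Agent.Lib.R2H4.RegSpreadFlat.main_flat (A := Γ(S, S₀)) P l
    hflat' hreg'
  have hxc : x ∈ X.basicOpen c := (notMem_primeIdealOf_iff hX₀ x hxX₀ c).mp hcP
  set U : X.Opens := X.basicOpen c with hUdef
  have hUX₀ : U ≤ X₀ := X.basicOpen_le c
  have hUS₀ : U ≤ f ⁻¹ᵁ S₀ := hUX₀.trans hXS
  have hU : IsAffineOpen U := hX₀.basicOpen c
  set ψ : Γ(X, X₀) →+* Γ(X, U) := (X.presheaf.map (homOfLE hUX₀).op).hom with hψ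
  have hloc : (letI := ψ.toAlgebra; IsLocalization.Away c Γ(X, U)) :=
    hX₀.isLocalization_of_eq_basicOpen c (homOfLE hUX₀) rfl
  have h3 : f.appLE S₀ U hUS₀ = f.appLE S₀ X₀ hXS ≫ X.presheaf.map (homOfLE hUX₀).op :=
    (Scheme.Hom.appLE_map f hXS (homOfLE hUX₀).op).symm
  letI algCL : Algebra Γ(X, X₀) Γ(X, U) := ψ.toAlgebra
  letI algAL : Algebra Γ(S, S₀) Γ(X, U) := (f.appLE S₀ U hUS₀).hom.toAlgebra
  haveI : IsScalarTower Γ(S, S₀) Γ(X, X₀) Γ(X, U) := by
    refine IsScalarTower.of_algebraMap_eq (fun a => ?_)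
    change (f.appLE S₀ U hUS₀).hom a = ψ ((f.appLE S₀ X₀ hXS).hom a)
    rw [h3]
    rfl
  haveI : IsLocalization.Away (c * 1) Γ(X, U) := by
    rw [mul_one]
    exact hloc
  obtain ⟨hW, -⟩ := hmain 1 Γ(X, U)
  have hgermU : (l.map ψ).map (X.presheaf.germ U x hxc).hom = hs := by
    rw [List.map_map, ← hgerm₀]
    apply List.map_congr_left
    intro a _
    simp only [Function.comp_apply]
    rw [hψ]
    erw [X.presheaf.germ_res_apply (homOfLE hUX₀) x hxc a]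
  -- pass to the stalk, a localization of `Γ(X, U)`
  letI : Algebra Γ(X, U) (X.presheaf.stalk x) := (X.presheaf.germ U x hxc).hom.toAlgebra
  haveI : IsLocalization.AtPrime (X.presheaf.stalk x) (hU.primeIdealOf ⟨x, hxc⟩).asIdeal :=
    hU.isLocalization_stalk ⟨x, hxc⟩
  have hW' : IsWeaklyRegular Γ(X, U) (l.map ψ) := hW
  have := IsWeaklyRegular.of_isLocalization (X.presheaf.stalk x)
    (hU.primeIdealOf ⟨x, hxc⟩).asIdeal.primeCompl hW'
  rw [← hgermU]
  exact this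

end Groth.Agent.Lib.R2LeadFibReg
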