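import Mathlib
import Groth.Prelude.Def_CInt
import Groth.Agent.Lib.R2LeadFibReg
import Groth.Agent.Lib.Helper5FiberStalk
import Groth.Agent.Lib.Helper5RLR3
import Groth.Agent.Lib.Helper6SmRegSch
import Groth.Agent.Lib.Helper28Depth

/-!
# Depth of the local rings of a smooth family at points of fibre codimension ≥ 2 (lead)

`exists_weaklyRegular_pair`: `f : P ⟶ S` smooth, `x ∈ P` with fibre local ring of dimension `≥ 2`:
there is a weakly regular sequence of length two in the maximal ideal of `O_{P,x}`.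
`two_le_depth`: hence `depth O_{P,x} ≥ 2`.  No hypothesis on `S`.
-/

set_option autoImplicit false
set_option linter.style.haveILetI false
universe u

open AlgebraicGeometry CategoryTheory Limits RingTheory.Sequence IsLocalRing

namespace Groth.Agent.Lib.R2LeadRhoDepth

variable {P S : Scheme.{u}}

theorem exists_weaklyRegular_pair (f : P ⟶ S) [Smooth f] (x : P)
    (hx : (2 : WithBot ℕ∞) ≤ ringKrullDim ↑(CInt.fiberStalk f x)) :
    ∃ hs : List (P.presheaf.stalk x), hs.length = 2 ∧
      (∀ h ∈ hs, h ∈ maximalIdeal (P.presheaf.stalk x)) ∧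
      IsWeaklyRegular (P.presheaf.stalk x) hs := by
  haveI : Smooth (f.fiberToSpecResidueField (f x)) :=
    MorphismProperty.pullback_snd (P := @Smooth) _ _ inferInstance
  haveI hregF : IsRegularLocalRing ↑(CInt.fiberStalk f x) :=
    Groth.Agent.Lib.Helper6.SmRegSch.isRegularLocalRing_stalk_of_smooth_over_field
      (S.residueField (f x)) (f.fiber (f x)) (f.fiberToSpecResidueField (f x)) (f.asFiber x)
  have hCM := Groth.Agent.Lib.Helper5.isCohenMacaulayLocalRing_of_isRegularLocalRing
    (R := ↑(CInt.fiberStalk f x))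
  have hdep : ((2 : ℕ) : ℕ∞) ≤ LocCoh.idealDepth (maximalIdeal ↑(CInt.fiberStalk f x))
      ↑(CInt.fiberStalk f x) := by
    have h1 := hCM.supportDim_eq_depth
    rw [Module.supportDim_self_eq_ringKrullDim] at h1
    rw [h1] at hx
    have h2 : ((2 : ℕ∞) : WithBot ℕ∞) ≤ ((LocCoh.depth ↑(CInt.fiberStalk f x)
        ↑(CInt.fiberStalk f x) : ℕ∞) : WithBot ℕ∞) := hx
    exact_mod_cast h2
  have hne : maximalIdeal ↑(CInt.fiberStalk f x) • (⊤ : Submodule ↑(CInt.fiberStalk f x)
      ↑(CInt.fiberStalk f x)) ≠ ⊤ := by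
    rw [smul_eq_mul, Ideal.mul_top]
    exact (maximalIdeal.isMaximal _).ne_top
  obtain ⟨rs, hlen, hmem, hreg⟩ :=
    (Groth.Agent.Lib.Helper28.natCast_le_idealDepth_iff hne 2).mp hdep
  obtain ⟨e⟩ := Groth.Agent.Lib.Helper5.FiberStalk.nonempty_stalk_asFiber_equiv f x
  have hJne : (maximalIdeal (S.presheaf.stalk (f x))).map (f.stalkMap x).hom ≠ ⊤ :=
    (IsLocalRing.map_maximalIdeal_lt_top _).ne
  haveI : IsLocalRing (P.presheaf.stalk x ⧸
      (maximalIdeal (S.presheaf.stalk (f x))).map (f.stalkMap x).hom) :=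
    Groth.Agent.Lib.Helper5.isLocalRing_quotient hJne
  -- transport to the quotient of the stalk
  have hW : IsWeaklyRegular (P.presheaf.stalk x ⧸
      (maximalIdeal (S.presheaf.stalk (f x))).map (f.stalkMap x).hom) (rs.map e) :=
    Groth.Agent.Lib.R2H4.RegSpreadSch.isWeaklyRegular_map_ringEquiv e rs hreg.toIsWeaklyRegular
  have hmemQ : ∀ r ∈ rs.map e, r ∈ maximalIdeal (P.presheaf.stalk x ⧸
      (maximalIdeal (S.presheaf.stalk (f x))).map (f.stalkMap x).hom) := by
    intro r hr
    obtain ⟨r₀, hr₀, rfl⟩ := List.mem_map.mp hr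
    have h1 := hmem r₀ hr₀
    rw [mem_maximalIdeal, mem_nonunits_iff] at h1 ⊢
    intro hu
    apply h1
    have := hu.map e.symm
    rwa [RingEquiv.symm_apply_apply] at this
  have hneQ : maximalIdeal (P.presheaf.stalk x ⧸
      (maximalIdeal (S.presheaf.stalk (f x))).map (f.stalkMap x).hom) •
      (⊤ : Submodule (P.presheaf.stalk x ⧸
      (maximalIdeal (S.presheaf.stalk (f x))).map (f.stalkMap x).hom) (P.presheaf.stalk x ⧸
      (maximalIdeal (S.presheaf.stalk (f x))).map (f.stalkMap x).hom)) ≠ ⊤ := by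
    rw [smul_eq_mul, Ideal.mul_top]
    exact (maximalIdeal.isMaximal _).ne_top
  have hR : IsRegular (P.presheaf.stalk x ⧸
      (maximalIdeal (S.presheaf.stalk (f x))).map (f.stalkMap x).hom) (rs.map e) :=
    Groth.Agent.Lib.Helper28.isRegular_of_isWeaklyRegular_of_mem hW hmemQ hneQ
  -- lift to the stalk
  have hsurj : Function.Surjective (Ideal.Quotient.mk
      ((maximalIdeal (S.presheaf.stalk (f x))).map (f.stalkMap x).hom)) :=
    Ideal.Quotient.mk_surjective
  let hs : List (P.presheaf.stalk x) := (rs.map e).map (Function.surjInv hsurj)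
  have hhs : hs.map (Ideal.Quotient.mk
      ((maximalIdeal (S.presheaf.stalk (f x))).map (f.stalkMap x).hom)) = rs.map e := by
    change ((rs.map e).map (Function.surjInv hsurj)).map _ = _
    rw [List.map_map]
    conv_rhs => rw [← List.map_id (rs.map e)]
    apply List.map_congr_left
    intro a _
    exact Function.surjInv_eq hsurj a
  have hreg' : IsRegular (P.presheaf.stalk x ⧸
      (maximalIdeal (S.presheaf.stalk (f x))).map (f.stalkMap x).hom)
      (hs.map (Ideal.Quotient.mk
        ((maximalIdeal (S.presheaf.stalk (f x))).map (f.stalkMap x).hom))) := by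
    rw [hhs]; exact hR
  refine ⟨hs, ?_, ?_, ?_⟩
  · change ((rs.map e).map (Function.surjInv hsurj)).length = 2
    rw [List.length_map, List.length_map, hlen]
  · exact Groth.Agent.Lib.R2H4.RegSpreadSch.mem_maximalIdeal_of_isRegular _ hs hreg'
  · exact Groth.Agent.Lib.R2LeadFibReg.isWeaklyRegular_stalk f x (Flat.stalkMap f x) hs hreg'

theorem two_le_depth (f : P ⟶ S) [Smooth f] (x : P)
    (hx : (2 : WithBot ℕ∞) ≤ ringKrullDim ↑(CInt.fiberStalk f x)) :
    (2 : ℕ∞) ≤ LocCoh.depth ↑(P.presheaf.stalk x) ↑(P.presheaf.stalk x) := by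
  obtain ⟨hs, hlen, hmem, hW⟩ := exists_weaklyRegular_pair f x hx
  have := Groth.Agent.Lib.Helper28.length_le_idealDepth hW hmem
  rw [hlen] at this
  exact this

end Groth.Agent.Lib.R2LeadRhoDepth
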