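import Groth.Prelude.Def_Lef
import Groth.Prelude.Def_CInt
import Groth.Agent.Lib.R2H1IdealProd
import Groth.Agent.Lib.R2H3GenLocAffine
import Groth.Agent.Lib.R2H3NegTwist
import Groth.Agent.Lib.R2LeadRhoDepth
set_option backward.isDefEq.respectTransparency.types false

set_option autoImplicit false
set_option linter.style.haveILetI false
set_option linter.unusedSectionVars false
universe u

open CategoryTheory CategoryTheory.Limits AlgebraicGeometry TopologicalSpace Opposite

namespace Groth.Agent.Lib.R2LeadAmpleDisj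

section Canon

open Groth.Agent.Lib.Helper23.SecTw Groth.Agent.Lib.Helper23.GenLocus
open Groth.Agent.Lib.R2H1.DegCartier Groth.Agent.Lib.R2H1.CurveEuler Groth.Agent.Lib.R2H1.CurveDegSec
  Groth.Agent.Lib.R2H1.EulerAdd Groth.Agent.Lib.R2H2.HHLin Groth.Agent.Lib.R2H2.PnLinRes
  Groth.Agent.Lib.R2H1.PointTwist Groth.Agent.Lib.R2H1.GenusLe Groth.Agent.Lib.R2H2.DevA

variable {X : Scheme.{u}}

/-- the canonical section of `O(D)` generates away from `D` (uniform version) -/
theorem exists_section_genLocus (D : X.IdealSheafData) (L : X.Modules)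
    (hL : PicF.IsInvertible L) (e : CohB1.tensorMod L (ClSub.idealMod D) ≅ Coh.structureModule X) :
    ∃ s : Coh.structureModule X ⟶ L, ∀ y : X, y ∉ D.support → y ∈ CohB1.genLocus L s := by
  have hL1 : FlatMod.IsFinLocFreeOfRank 1 L :=
    Groth.Agent.Lib.Helper23.SecTw.isFinLocFreeOfRank_one_of_isInvertible L hL
  have hLf : FlatMod.IsFinLocFree L := fun y => by
    obtain ⟨V, hy, e⟩ := hL1 y
    exact ⟨V, 1, hy, e⟩
  have hfl := Groth.Agent.Lib.R2H2.PullLF.isFlat_of_isFinLocFree L hLf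
  have hS : ((idealSeq D).map (DCoh.tensorBi.obj L)).ShortExact :=
    Groth.Agent.Lib.R2Lead.TensorExact.shortExact_map_tensorBi L (fun y => hfl y)
      (idealSeq D) (idealSeq_shortExact D)
  have hX₂ : PicF.IsInvertible ((idealSeq D).map (DCoh.tensorBi.obj L)).X₂ :=
    Groth.Agent.Lib.Helper23.AmpleIso.isInvertible_of_iso
      (Groth.Agent.Lib.Helper21.Dual.rU X.sheaf L).symm hL
  haveI := hS.mono_f
  haveI := hS.epi_g
  obtain ⟨e', he'⟩ : ∃ e' : Coh.structureModule X ≅
      ((idealSeq D).map (DCoh.tensorBi.obj L)).X₁, e' = e.symm := ⟨_, rfl⟩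
  obtain ⟨τ, hτ⟩ : ∃ τ : Coh.structureModule X ⟶ ((idealSeq D).map (DCoh.tensorBi.obj L)).X₂,
      τ = e'.hom ≫ ((idealSeq D).map (DCoh.tensorBi.obj L)).f := ⟨_, rfl⟩
  haveI : Mono τ := by rw [hτ]; infer_instance
  have i1 : cokernel τ ≅ cokernel ((idealSeq D).map (DCoh.tensorBi.obj L)).f := by
    rw [hτ]; exact cokernelEpiComp e'.hom _
  have i2 : cokernel ((idealSeq D).map (DCoh.tensorBi.obj L)).f ≅
      ((idealSeq D).map (DCoh.tensorBi.obj L)).X₃ :=
    (colimit.isColimit _).coconePointUniqueUpToIso hS.exact.gIsCokernel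
  refine ⟨τ ≫ (SecTwist.unitorR L).hom, fun y hy => ?_⟩
  have h3 : Subsingleton (((idealSeq D).map (DCoh.tensorBi.obj L)).X₃.presheaf.stalk y) :=
    Groth.Agent.Lib.R2H1.LiftZero.stalk_X₃_subsingleton D L y hy
  have hsub : Subsingleton ((cokernel τ).presheaf.stalk y) := by
    by_contra hns
    have hy1 : y ∈ CohB1.support (cokernel τ) := hns
    exact support_subset_of_mono (i1 ≪≫ i2).hom hy1 h3
  have hmem := Groth.Agent.Lib.R2H1.IsoP1B.mem_genLocus_of_subsingleton_stalk _ hX₂ τ y hsub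
  have h5 := Groth.Agent.Lib.Helper23.AmpleIso.genLocus_comp_iso (SecTwist.unitorR L) τ
  exact (congrArg (fun U : X.Opens => y ∈ U) h5).mpr hmem

end Canon

section Fin

variable {X T : Scheme.{u}}

/-- a closed subset of a proper `T`-scheme (`T` affine) contained in an affine open consists of points
closed in their fibres -/
theorem isClosed_singleton_asFiber (f : X ⟶ T) [IsProper f] [IsAffine T] (W : X.Opens)
    (hW : IsAffineOpen W) (Z : Set X) (hZ : IsClosed Z) (hZW : Z ⊆ (W : Set X)) (z : X)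
    (hz : z ∈ Z) : IsClosed ({f.asFiber z} : Set ↥(f.fiber (f z))) := by
  let 𝓩 : X.IdealSheafData := Scheme.IdealSheafData.vanishingIdeal ⟨Z, hZ⟩
  have hrange : Set.range 𝓩.subschemeι = Z := by
    rw [Scheme.IdealSheafData.range_subschemeι, Scheme.IdealSheafData.coe_support_vanishingIdeal]
    rfl
  let j : 𝓩.subscheme ⟶ (W : Scheme.{u}) := IsOpenImmersion.lift W.ι 𝓩.subschemeι
    (by rw [Scheme.Opens.range_ι, hrange]; exact hZW)
  have hj : j ≫ W.ι = 𝓩.subschemeι := IsOpenImmersion.lift_fac _ _ _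
  haveI : IsClosedImmersion j := by
    haveI : IsClosedImmersion (j ≫ W.ι) := by rw [hj]; infer_instance
    exact IsClosedImmersion.of_comp j W.ι
  haveI : IsAffine (W : Scheme.{u}) := hW
  haveI : IsAffine 𝓩.subscheme := isAffine_of_isAffineHom j
  let g : 𝓩.subscheme ⟶ T := 𝓩.subschemeι ≫ f
  haveI : IsFinite g := IsFinite.iff_isProper_and_isAffineHom.mpr ⟨inferInstance, inferInstance⟩
  have hdisc := g.isDiscrete_preimage_singleton (f z)
  rw [← closure_subset_iff_isClosed]
  intro w hw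
  have hsp : f.asFiber z ⤳ w := specializes_iff_mem_closure.mpr hw
  have hsp' : z ⤳ f.fiberι (f z) w := by
    have := hsp.map (f.fiberι (f z)).continuous
    rwa [Scheme.Hom.fiberι_asFiber] at this
  have hz'Z : f.fiberι (f z) w ∈ Z := hsp'.mem_closed hZ hz
  have hfz' : f (f.fiberι (f z) w) = f z := by
    have : f.fiberι (f z) w ∈ Set.range (f.fiberι (f z)) := ⟨w, rfl⟩
    rw [Scheme.Hom.range_fiberι] at this
    exact this
  obtain ⟨z₀, hz₀⟩ : z ∈ Set.range 𝓩.subschemeι := by rw [hrange]; exact hz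
  obtain ⟨z₁, hz₁⟩ : f.fiberι (f z) w ∈ Set.range 𝓩.subschemeι := by rw [hrange]; exact hz'Z
  have hsp₀ : z₀ ⤳ z₁ := by
    rw [← 𝓩.subschemeι.isEmbedding.toIsInducing.specializes_iff, hz₀, hz₁]
    exact hsp'
  have hm₀ : z₀ ∈ g ⁻¹' {f z} := by
    change f (𝓩.subschemeι z₀) = f z
    rw [hz₀]
  have hm₁ : z₁ ∈ g ⁻¹' {f z} := by
    change f (𝓩.subschemeι z₁) = f z
    rw [hz₁, hfz']
  haveI : DiscreteTopology ↥(g ⁻¹' {f z}) := isDiscrete_iff_discreteTopology.mp hdisc
  have hsub : (⟨z₀, hm₀⟩ : ↥(g ⁻¹' {f z})) ⤳ ⟨z₁, hm₁⟩ :=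
    Topology.IsInducing.subtypeVal.specializes_iff.mp hsp₀
  have heq : (⟨z₀, hm₀⟩ : ↥(g ⁻¹' {f z})) = ⟨z₁, hm₁⟩ := hsub.eq
  have heq' : z₀ = z₁ := congrArg Subtype.val heq
  have : f.fiberι (f z) w = f.fiberι (f z) (f.asFiber z) := by
    rw [Scheme.Hom.fiberι_asFiber, ← hz₁, ← heq', hz₀]
  exact (f.fiberι (f z)).isEmbedding.injective this

end Fin

section Depth

open RingTheory.Sequence IsLocalRing

variable {P S : Scheme.{u}}

set_option maxHeartbeats 1600000 in
/-- depth of the fibre local ring bounds the depth of the local ring from below (flat case) -/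
theorem le_depth_of_flat (f : P ⟶ S) [LocallyOfFinitePresentation f] (x : P)
    (hflat : (f.stalkMap x).hom.Flat) (n : ℕ)
    (hn : (n : ℕ∞) ≤ LocCoh.depth ↑(CInt.fiberStalk f x) ↑(CInt.fiberStalk f x)) :
    (n : ℕ∞) ≤ LocCoh.depth ↑(P.presheaf.stalk x) ↑(P.presheaf.stalk x) := by
  have hdep : ((n : ℕ) : ℕ∞) ≤ LocCoh.idealDepth (maximalIdeal ↑(CInt.fiberStalk f x))
      ↑(CInt.fiberStalk f x) := hn
  have hne : maximalIdeal ↑(CInt.fiberStalk f x) • (⊤ : Submodule ↑(CInt.fiberStalk f x)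
      ↑(CInt.fiberStalk f x)) ≠ ⊤ := by
    rw [smul_eq_mul, Ideal.mul_top]
    exact (maximalIdeal.isMaximal _).ne_top
  obtain ⟨rs, hlen, hmem, hreg⟩ :=
    (Groth.Agent.Lib.Helper28.natCast_le_idealDepth_iff hne n).mp hdep
  obtain ⟨e⟩ := Groth.Agent.Lib.Helper5.FiberStalk.nonempty_stalk_asFiber_equiv f x
  have hJne : (maximalIdeal (S.presheaf.stalk (f x))).map (f.stalkMap x).hom ≠ ⊤ :=
    (IsLocalRing.map_maximalIdeal_lt_top _).ne
  haveI : IsLocalRing (P.presheaf.stalk x ⧸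
      (maximalIdeal (S.presheaf.stalk (f x))).map (f.stalkMap x).hom) :=
    Groth.Agent.Lib.Helper5.isLocalRing_quotient hJne
  have hW : IsWeaklyRegular (P.presheaf.stalk x ⧸
      (maximalIdeal (S.presheaf.stalk (f x))).map (f.stalkMap x).hom) (rs.map e) :=
    Groth.Agent.Lib.R2H4.RegSpreadSch.isWeaklyRegular_map_ringEquiv e rs hreg.toIsWeaklyRegular
  have hmemQ : ∀ r ∈ rs.map e, r ∈ maximalIdeal (P.presheaf.stalk x ⧸
      (maximalIdeal (S.presheaf.stalk (f x))).map (f.stalkMap x).hom) := by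
    intro r hr
    obtain ⟨r₀, hr₀, rfl⟩ := List.mem_map.mp hr
    have h1 := hmem r₀ hr₀
    rw [mem_maximalIdeal, mem_nonunits_iff] at h1 ⊢
    intro hu
    apply h1
    have := hu.map e.symm
    rwa [RingEquiv.symm_apply_apply] at this
  have hneQ : maximalIdeal (P.presheaf.stalk x ⧸
      (maximalIdeal (S.presheaf.stalk (f x))).map (f.stalkMap x).hom) •
      (⊤ : Submodule (P.presheaf.stalk x ⧸
      (maximalIdeal (S.presheaf.stalk (f x))).map (f.stalkMap x).hom) (P.presheaf.stalk x ⧸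
      (maximalIdeal (S.presheaf.stalk (f x))).map (f.stalkMap x).hom)) ≠ ⊤ := by
    rw [smul_eq_mul, Ideal.mul_top]
    exact (maximalIdeal.isMaximal _).ne_top
  have hR : IsRegular (P.presheaf.stalk x ⧸
      (maximalIdeal (S.presheaf.stalk (f x))).map (f.stalkMap x).hom) (rs.map e) :=
    Groth.Agent.Lib.Helper28.isRegular_of_isWeaklyRegular_of_mem hW hmemQ hneQ
  have hsurj : Function.Surjective (Ideal.Quotient.mk
      ((maximalIdeal (S.presheaf.stalk (f x))).map (f.stalkMap x).hom)) :=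
    Ideal.Quotient.mk_surjective
  let hs : List (P.presheaf.stalk x) := (rs.map e).map (Function.surjInv hsurj)
  have hhs : hs.map (Ideal.Quotient.mk
      ((maximalIdeal (S.presheaf.stalk (f x))).map (f.stalkMap x).hom)) = rs.map e := by
    change ((rs.map e).map (Function.surjInv hsurj)).map _ = _
    rw [List.map_map]
    conv_rhs => rw [← List.map_id (rs.map e)]
    apply List.map_congr_left
    intro a _
    exact Function.surjInv_eq hsurj a
  have hreg' : IsRegular (P.presheaf.stalk x ⧸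
      (maximalIdeal (S.presheaf.stalk (f x))).map (f.stalkMap x).hom)
      (hs.map (Ideal.Quotient.mk
        ((maximalIdeal (S.presheaf.stalk (f x))).map (f.stalkMap x).hom))) := by
    rw [hhs]; exact hR
  have hlen' : hs.length = n := by
    change ((rs.map e).map (Function.surjInv hsurj)).length = n
    rw [List.length_map, List.length_map, hlen]
  have hmem' := Groth.Agent.Lib.R2H4.RegSpreadSch.mem_maximalIdeal_of_isRegular _ hs hreg'
  have hW' := Groth.Agent.Lib.R2LeadFibReg.isWeaklyRegular_stalk f x hflat hs hreg'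
  have := Groth.Agent.Lib.Helper28.length_le_idealDepth hW' hmem'
  rw [hlen'] at this
  exact this

end Depth

section Main

theorem main (A : Type u) [CommRing A] [IsNoetherianRing A] (X : Scheme.{u})
    [X.Over (Spec (CommRingCat.of A))] [IsProper (X ↘ Spec (CommRingCat.of A))]
    (𝓘 : X.IdealSheafData) (L : X.Modules) (hL : ClSub.IsInverseOf L (ClSub.idealMod 𝓘))
    (hamp : CohB1.IsAmple L) (Z : Set X) (hZ : IsClosed Z)
    (hZY : Disjoint Z (𝓘.support : Set X)) (n : ℕ) :
    (∀ z : X, z ∈ Z → IsClosed ({((X ↘ Spec (CommRingCat.of A))).asFiber z} :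
      Set ↥(((X ↘ Spec (CommRingCat.of A))).fiber (((X ↘ Spec (CommRingCat.of A))).base z)))) ∧
    (Flat (X ↘ Spec (CommRingCat.of A)) →
      (∀ x : X, IsClosed ({((X ↘ Spec (CommRingCat.of A))).asFiber x} :
        Set ↥(((X ↘ Spec (CommRingCat.of A))).fiber (((X ↘ Spec (CommRingCat.of A))).base x))) →
        (n : ℕ∞) ≤ LocCoh.depth ↑(CInt.fiberStalk (X ↘ Spec (CommRingCat.of A)) x)
          ↑(CInt.fiberStalk (X ↘ Spec (CommRingCat.of A)) x)) →
      ∀ z : X, z ∈ Z → (n : ℕ∞) ≤ LocCoh.depth (X.presheaf.stalk z) (X.presheaf.stalk z)) := by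
  obtain ⟨e⟩ := hL
  obtain ⟨s, hs⟩ := exists_section_genLocus 𝓘 L hamp.1 e
  have hW : IsAffineOpen (CohB1.genLocus L s) :=
    Groth.Agent.Lib.R2H3.GenLocAffine.isAffine_genLocus_of_universallyClosed
      (X ↘ Spec (CommRingCat.of A)) L hamp s
  have hZW : Z ⊆ (CohB1.genLocus L s : Set X) := fun z hz =>
    hs z (fun hmem => Set.disjoint_left.mp hZY hz hmem)
  have h1 : ∀ z : X, z ∈ Z → IsClosed ({((X ↘ Spec (CommRingCat.of A))).asFiber z} :
      Set ↥(((X ↘ Spec (CommRingCat.of A))).fiber (((X ↘ Spec (CommRingCat.of A))).base z))) :=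
    fun z hz => isClosed_singleton_asFiber (X ↘ Spec (CommRingCat.of A)) _ hW Z hZ hZW z hz
  refine ⟨h1, fun hflat hfib z hz => ?_⟩
  haveI : LocallyOfFinitePresentation (X ↘ Spec (CommRingCat.of A)) :=
    LocallyOfFinitePresentation.iff_locallyOfFiniteType.mpr inferInstance
  exact le_depth_of_flat (X ↘ Spec (CommRingCat.of A)) z
    (Flat.stalkMap (X ↘ Spec (CommRingCat.of A)) z) n (hfib z (h1 z hz))

end Main

end Groth.Agent.Lib.R2LeadAmpleDisj
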