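import Mathlib
import Groth.Prelude
import Groth.Agent.Lib.Helper23PB
set_option backward.isDefEq.respectTransparency.types false

/-!
# Generating loci of sections that are pulled back up to a unit (lead, round 2)

`genLocus_secHom_of_smul_eq_unitSec`: if `α • σ' = f^* τ` for a unit `α`, then `X_{σ'} = f⁻¹(Y_τ)`.
-/

set_option autoImplicit false
set_option linter.unusedSectionVars false
set_option linter.style.haveILetI false
universe u
open CategoryTheory CategoryTheory.Limits AlgebraicGeometry TopologicalSpace Opposite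

noncomputable section

namespace Groth.Agent.Lib.R2Lead.GenLocusPB

open Scheme.Modules Groth.Agent.Lib.Helper23.GenLocus Groth.Agent.Lib.Helper6 Groth.Agent.Lib.Helper23.AmpleIso
  Groth.Agent.Lib.Helper23.Extend Groth.Agent.Lib.Helper23.SecTw Groth.Agent.Helper13PullbackUnit
  Groth.Agent.Lib.Helper23.PB

variable {X Y : Scheme.{u}} (f : X ⟶ Y)

theorem top_le_preimage_top : (⊤ : X.Opens) ≤ f ⁻¹ᵁ ⊤ := fun _ _ => trivial

/-- the generating locus of a section which is a pullback up to a unit -/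
theorem genLocus_of_smul_eq_unitSec (M : Y.Modules) (hM : PicF.IsInvertible M) (τ : Γ(M, ⊤))
    (s' : Coh.structureModule X ⟶ (Scheme.Modules.pullback f).obj M) (α : Γ(X, ⊤)) (hα : IsUnit α)
    (h : α • sv s' ⊤ = unitSec f M (top_le_preimage_top f) τ) :
    CohB1.genLocus ((Scheme.Modules.pullback f).obj M) s' =
      f ⁻¹ᵁ CohB1.genLocus M (secHom M τ) := by
  haveI : M.IsQuasicoherent := isQuasicoherent_of_isInvertible M hM
  refine opens_eq_of_cover _ _ (fun x => ?_)
  obtain ⟨W, ε, hyW, hW, hε⟩ := exists_affine_gen M hM (f x)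
  refine ⟨f ⁻¹ᵁ W, hyW, ?_⟩
  have hσ := isGen_unitSec f M hW ε hε
  obtain ⟨c, hc⟩ : ∃ c : Γ(Y, W), c = coef hε le_rfl (sv (secHom M τ) W) := ⟨_, rfl⟩
  have hcs : sv (secHom M τ) W = c • ε := by rw [hc]; exact sv_eq_coef_smul _ hε
  have hτ : res M le_top τ = c • ε := by rw [← sv_secHom]; exact hcs
  -- the unit
  obtain ⟨u, hu⟩ := hα.map (X.presheaf.map (homOfLE (le_top : f ⁻¹ᵁ W ≤ ⊤)).op).hom
  have hu' : resf (le_top : f ⁻¹ᵁ W ≤ ⊤) α = ↑u := hu.symm
  have h1 : (↑u : Γ(X, f ⁻¹ᵁ W)) • res ((Scheme.Modules.pullback f).obj M) le_top (sv s' ⊤) =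
      f.app W c • unitSec f M le_rfl ε := by
    rw [← hu', ← res_smul, h, res_unitSec f M (top_le_preimage_top f) le_rfl le_top le_top, hτ,
      unitSec_smul, Scheme.Hom.appLE_eq_app]
  have hsv : sv s' (f ⁻¹ᵁ W) = (↑u⁻¹ * f.app W c) • unitSec f M le_rfl ε := by
    rw [← res_sv s' (le_top : f ⁻¹ᵁ W ≤ ⊤), mul_smul, ← h1, ← mul_smul, Units.inv_mul, one_smul]
  rw [genLocus_inf_eq_of_isGen _ _ (f ⁻¹ᵁ W) _ _ hσ hsv, Scheme.basicOpen_mul,
    Scheme.basicOpen_of_isUnit _ u⁻¹.isUnit, ← Scheme.preimage_basicOpen,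
    ← genLocus_inf_eq_of_isGen M (secHom M τ) W ε c hε hcs]
  ext z
  simp only [Opens.coe_inf, Set.mem_inter_iff, SetLike.mem_coe, Scheme.Hom.coe_preimage, Set.mem_preimage]
  tauto

end Groth.Agent.Lib.R2Lead.GenLocusPB
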