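import Mathlib
import Groth.Prelude
import Groth.Agent.Lib.R2LeadGenLocusPB
import Groth.Agent.Lib.R2LeadAffSpreadB
import Groth.Agent.Lib.Helper23PB
import Groth.Agent.Lib.Helper23AmpleIso
set_option backward.isDefEq.respectTransparency.types false

/-!
# Ampleness spreads from `X ×_Y Spec O_{Y,y}` to a neighbourhood of `y` (lead, round 2; EGA IV 8.10.5.2 in a special case)
-/

set_option autoImplicit false
set_option linter.unusedSectionVars false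
set_option linter.style.haveILetI false
universe u
open CategoryTheory CategoryTheory.Limits AlgebraicGeometry TopologicalSpace Opposite

noncomputable section

namespace Groth.Agent.Lib.R2Lead.AmpleSpread

open Scheme.Modules Groth.Agent.Lib.Helper23.GenLocus Groth.Agent.Lib.Helper6 Groth.Agent.Lib.Helper23.AmpleIso
  Groth.Agent.Lib.Helper23.Extend Groth.Agent.Lib.Helper23.SecTw Groth.Agent.Helper13PullbackUnit
  Groth.Agent.Lib.Helper23.PB Groth.Agent.Lib.R2H2.FibreVanish Groth.Agent.Lib.R2Lead.AffSpread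
  Groth.Agent.Lib.R2Lead.GenLocusPB

/-- the generating locus of a section of an invertible module on a quasi-compact scheme is quasi-compact -/
theorem isCompact_genLocus {Z : Scheme.{u}} [CompactSpace Z] (M : Z.Modules) (hM : PicF.IsInvertible M)
    (s : Coh.structureModule Z ⟶ M) : IsCompact (CohB1.genLocus M s : Set Z) := by
  choose W ε hzW hW hε using fun z => exists_affine_gen M hM z
  obtain ⟨T, hT⟩ := CompactSpace.elim_nhds_subcover (fun z => (W z : Set Z))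
    (fun z => (W z).2.mem_nhds (hzW z))
  have hcov : (CohB1.genLocus M s : Set Z) =
      ⋃ z ∈ T, ((Z.basicOpen (coef (hε z) le_rfl (sv s (W z))) : Z.Opens) : Set Z) := by
    ext p
    constructor
    · intro hp
      have hp' : p ∈ ⋃ z ∈ T, (W z : Set Z) := hT ▸ Set.mem_univ p
      obtain ⟨z, hzT, hpz⟩ := Set.mem_iUnion₂.1 hp'
      refine Set.mem_iUnion₂.2 ⟨z, hzT, ?_⟩
      rw [← genLocus_inf_eq_of_isGen M s (W z) (ε z) _ (hε z) (sv_eq_coef_smul s (hε z))]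
      exact ⟨hp, hpz⟩
    · intro hp
      obtain ⟨z, hzT, hpz⟩ := Set.mem_iUnion₂.1 hp
      rw [← genLocus_inf_eq_of_isGen M s (W z) (ε z) _ (hε z) (sv_eq_coef_smul s (hε z))] at hpz
      exact hpz.1
  rw [hcov]
  exact T.isCompact_biUnion (fun z _ => ((hW z).basicOpen _).isCompact)

/-- the part of an affine open lying over a smaller affine open of the base is affine -/
theorem isAffineOpen_inf_preimage {A B : Scheme.{u}} (k : A ⟶ B) {A₀ : A.Opens} (hA₀ : IsAffineOpen A₀)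
    {B₀ : B.Opens} (hB₀ : IsAffineOpen B₀) (hle : A₀ ≤ k ⁻¹ᵁ B₀) {W : B.Opens} (hW : IsAffineOpen W)
    (hWB : W ≤ B₀) : IsAffineOpen (A₀ ⊓ k ⁻¹ᵁ W) := by
  haveI : IsAffine A₀.toScheme := hA₀
  haveI : IsAffine B₀.toScheme := hB₀
  have hW' : IsAffineOpen (B₀.ι ⁻¹ᵁ W) :=
    hW.preimage_of_isOpenImmersion B₀.ι (by rw [Scheme.Opens.opensRange_ι]; exact hWB)
  have h1 : IsAffineOpen (k.resLE B₀ A₀ hle ⁻¹ᵁ (B₀.ι ⁻¹ᵁ W)) := hW'.preimage _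
  have h2 := h1.image_of_isOpenImmersion A₀.ι
  convert h2 using 1
  rw [Scheme.Hom.resLE_preimage, Scheme.Hom.image_preimage_eq_opensRange_inf,
    Scheme.Opens.opensRange_ι, Scheme.Hom.image_preimage_eq_opensRange_inf, Scheme.Opens.opensRange_ι,
    inf_eq_right.mpr hWB]

/-- a family of opens of `X` covering `X ×_Y Spec O_{Y,y}` covers `f⁻¹V` for some neighbourhood `V` of `y` (`f` closed) -/
theorem exists_nhd_preimage_le {X Y : Scheme.{u}} (f : X ⟶ Y) [UniversallyClosed f] (y : Y) (U : X.Opens)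
    (hU : ∀ x₁ : X₁ f y, (g₁ f y) x₁ ∈ U) : ∃ V : Y.Opens, y ∈ V ∧ f ⁻¹ᵁ V ≤ U := by
  have hcl : IsClosed (f '' ((U : Set X)ᶜ)) := f.isClosedMap _ U.2.isClosed_compl
  refine ⟨⟨(f '' ((U : Set X)ᶜ))ᶜ, hcl.isOpen_compl⟩, ?_, ?_⟩
  · rintro ⟨x, hx, hxy⟩
    obtain ⟨x₁, hx₁, -⟩ := Scheme.exists_preimage_of_isPullback (isPullback₁ f y) x
      (IsLocalRing.closedPoint (Y.presheaf.stalk y)) (by
        rw [hxy]; exact (Scheme.fromSpecStalk_closedPoint (X := Y) (x := y)).symm)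
    exact hx (hx₁ ▸ hU x₁)
  · intro x hx
    by_contra hxU
    exact hx ⟨x, hxU, rfl⟩

section Main

variable {X Y : Scheme.{u}} (f : X ⟶ Y) (y : Y) {V₀ : Y.Opens} (hV₀ : IsAffineOpen V₀) (hy₀ : y ∈ V₀)

/-- a section of a power of `φ₀^* L₀` has the same generating locus as the pullback of a section over `f⁻¹V₀` -/
theorem exists_section_spread [QuasiCompact f] [QuasiSeparated f] (L₀ : (f ⁻¹ᵁ V₀).toScheme.Modules)
    (hL₀ : PicF.IsInvertible L₀) (n : ℕ)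
    (s : Coh.structureModule (X₁ f y) ⟶
      CohB1.tensorPow ((Scheme.Modules.pullback (φ₀ f y hV₀ hy₀)).obj L₀) n) :
    ∃ t : Coh.structureModule (f ⁻¹ᵁ V₀).toScheme ⟶ CohB1.tensorPow L₀ n,
      φ₀ f y hV₀ hy₀ ⁻¹ᵁ CohB1.genLocus _ t = CohB1.genLocus _ s := by
  obtain ⟨Φ⟩ := nonempty_pullback_tensorPow_iso (φ₀ f y hV₀ hy₀) L₀ hL₀ n
  have hinv := isInvertible_tensorPow hL₀ n
  haveI : (CohB1.tensorPow L₀ n).IsQuasicoherent := isQuasicoherent_of_isInvertible _ hinv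
  obtain ⟨α', τ, hα, h⟩ := exists_spread_stalk f y hV₀ hy₀ (CohB1.tensorPow L₀ n) (sv (s ≫ Φ.inv) ⊤)
  refine ⟨secHom _ τ, ?_⟩
  rw [← genLocus_of_smul_eq_unitSec (φ₀ f y hV₀ hy₀) _ hinv τ (s ≫ Φ.inv) α' hα h]
  exact genLocus_comp_iso Φ.symm s

/-- **ampleness spreads out**: if the pullback of `L` to `X ×_Y Spec O_{Y,y}` is ample (`f` proper), then `L` is ample over every
affine open of a neighbourhood of `y` -/
theorem exists_nhd_isAmple_restrict [IsProper f] (L : X.Modules) (hL : PicF.IsInvertible L)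
    (hamp : CohB1.IsAmple ((Scheme.Modules.pullback (g₁ f y)).obj L)) :
    ∃ V : Y.Opens, y ∈ V ∧ ∀ W : Y.Opens, W ≤ V → IsAffineOpen W →
      CohB1.IsAmple (L.restrict (f ⁻¹ᵁ W).ι) := by
  obtain ⟨_, ⟨V₀, hV₀, rfl⟩, hy₀, -⟩ :=
    Y.isBasis_affineOpens.exists_subset_of_mem_open (Set.mem_univ y) isOpen_univ
  have hL₀ : PicF.IsInvertible ((Scheme.Modules.pullback (f ⁻¹ᵁ V₀).ι).obj L) :=
    isInvertible_pullback _ L hL
  have e₁ : (Scheme.Modules.pullback (φ₀ f y hV₀ hy₀)).obj ((Scheme.Modules.pullback (f ⁻¹ᵁ V₀).ι).obj L) ≅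
      (Scheme.Modules.pullback (g₁ f y)).obj L :=
    (pullbackComp (φ₀ f y hV₀ hy₀) (f ⁻¹ᵁ V₀).ι).app L ≪≫ (pullbackCongr (φ₀_ι f y hV₀ hy₀)).app L
  have hamp₀ := isAmple_of_iso e₁.symm hamp
  haveI : CompactSpace (X₁ f y) := hamp.2.1
  haveI : CompactSpace (f ⁻¹ᵁ V₀).toScheme :=
    isCompact_iff_compactSpace.mp (f.isCompact_preimage hV₀.isCompact)
  choose n s hxs haff using hamp₀.2.2
  choose t ht using fun x₁ => exists_section_spread f y hV₀ hy₀ _ hL₀ (n x₁ + 1) (s x₁)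
  have hGc : ∀ x₁, IsCompact (CohB1.genLocus _ (t x₁) : Set (f ⁻¹ᵁ V₀).toScheme) := fun x₁ =>
    isCompact_genLocus _ (isInvertible_tensorPow hL₀ _) _
  have hGaff : ∀ x₁, IsAffineOpen (φ₀ f y hV₀ hy₀ ⁻¹ᵁ CohB1.genLocus _ (t x₁)) := fun x₁ => by
    rw [ht]; exact haff x₁
  choose Vx hyVx hVx₀ hVxaff hAaff using fun x₁ =>
    exists_isAffineOpen_inf_preimage f y hV₀ hy₀ _ (hGc x₁) (hGaff x₁)
  obtain ⟨T, hT⟩ := CompactSpace.elim_nhds_subcover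
    (fun x₁ => ((φ₀ f y hV₀ hy₀ ⁻¹ᵁ CohB1.genLocus _ (t x₁) : (X₁ f y).Opens) : Set (X₁ f y)))
    (fun x₁ => (Opens.isOpen _).mem_nhds (by rw [ht]; exact hxs x₁))
  let UU : X.Opens := ⨆ j : T, (f ⁻¹ᵁ V₀).ι ''ᵁ CohB1.genLocus _ (t j.1)
  have hUU : ∀ x₁ : X₁ f y, (g₁ f y) x₁ ∈ UU := by
    intro x₁
    have hx₁ : x₁ ∈ ⋃ j ∈ T, ((φ₀ f y hV₀ hy₀ ⁻¹ᵁ CohB1.genLocus _ (t j) : (X₁ f y).Opens) :
        Set (X₁ f y)) := hT ▸ Set.mem_univ x₁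
    obtain ⟨j, hjT, hj⟩ := Set.mem_iUnion₂.1 hx₁
    refine Opens.mem_iSup.2 ⟨⟨j, hjT⟩, ?_⟩
    refine ⟨φ₀ f y hV₀ hy₀ x₁, hj, ?_⟩
    change (φ₀ f y hV₀ hy₀ ≫ (f ⁻¹ᵁ V₀).ι) x₁ = _
    rw [φ₀_ι]
  obtain ⟨VD, hyVD, hVD⟩ := exists_nhd_preimage_le f y UU hUU
  let VT : Y.Opens := ⟨⋂ j ∈ T, (Vx j : Set Y), isOpen_biInter_finset (fun j _ => (Vx j).2)⟩
  refine ⟨VD ⊓ VT ⊓ V₀, ⟨⟨hyVD, Set.mem_iInter₂.2 (fun j _ => hyVx j)⟩, hy₀⟩, fun W hWV hW => ?_⟩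
  have hWV₀ : W ≤ V₀ := hWV.trans inf_le_right
  have hWVD : W ≤ VD := hWV.trans (inf_le_left.trans inf_le_left)
  have hWVx : ∀ j ∈ T, W ≤ Vx j := fun j hj =>
    (hWV.trans (inf_le_left.trans inf_le_right)).trans (fun z hz => Set.mem_iInter₂.1 hz j hj)
  haveI : CompactSpace (f ⁻¹ᵁ W).toScheme :=
    isCompact_iff_compactSpace.mp (f.isCompact_preimage hW.isCompact)
  have e₂ : (Scheme.Modules.pullback (X.homOfLE (f.preimage_mono hWV₀))).obj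
      ((Scheme.Modules.pullback (f ⁻¹ᵁ V₀).ι).obj L) ≅ L.restrict (f ⁻¹ᵁ W).ι :=
    (pullbackComp (X.homOfLE (f.preimage_mono hWV₀)) (f ⁻¹ᵁ V₀).ι).app L ≪≫
      (pullbackCongr (X.homOfLE_ι _)).app L ≪≫
      ((restrictFunctorIsoPullback (f ⁻¹ᵁ W).ι).app L).symm
  refine isAmple_of_iso e₂ (isAmple_pullback_of (X.homOfLE (f.preimage_mono hWV₀)) _ hL₀ (fun x => ?_))
  have hx : (f ⁻¹ᵁ W).ι x ∈ UU := hVD (hWVD x.2)
  obtain ⟨⟨j, hjT⟩, p, hp, hpx⟩ := Opens.mem_iSup.1 hx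
  have hpj : X.homOfLE (f.preimage_mono hWV₀) x = p := by
    apply (f ⁻¹ᵁ V₀).ι.isOpenEmbedding.injective
    refine Eq.trans ?_ hpx.symm
    change (X.homOfLE (f.preimage_mono hWV₀) ≫ (f ⁻¹ᵁ V₀).ι) x = _
    rw [X.homOfLE_ι]
  refine ⟨n j, t j, hpj ▸ hp, ?_⟩
  rw [← (f ⁻¹ᵁ W).ι.isAffineOpen_iff_of_isOpenImmersion]
  have hP := isAffineOpen_inf_preimage f (hAaff j) (hVxaff j) inf_le_right hW (hWVx j hjT)
  convert hP using 1
  ext z
  simp only [Opens.coe_inf, Set.mem_inter_iff, SetLike.mem_coe, Scheme.Hom.coe_preimage,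
    Set.mem_preimage, Scheme.Hom.coe_image, Set.mem_image]
  constructor
  · rintro ⟨x', hxG, rfl⟩
    have hxW : f ((f ⁻¹ᵁ W).ι x') ∈ W := x'.2
    refine ⟨⟨⟨X.homOfLE (f.preimage_mono hWV₀) x', hxG, ?_⟩, hWVx j hjT hxW⟩, hxW⟩
    change (X.homOfLE (f.preimage_mono hWV₀) ≫ (f ⁻¹ᵁ V₀).ι) x' = _
    rw [X.homOfLE_ι]
  · rintro ⟨⟨⟨p', hpG, rfl⟩, -⟩, hzW⟩
    refine ⟨⟨(f ⁻¹ᵁ V₀).ι p', hzW⟩, ?_, rfl⟩
    have : X.homOfLE (f.preimage_mono hWV₀) ⟨(f ⁻¹ᵁ V₀).ι p', hzW⟩ = p' := by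
      apply (f ⁻¹ᵁ V₀).ι.isOpenEmbedding.injective
      change (X.homOfLE (f.preimage_mono hWV₀) ≫ (f ⁻¹ᵁ V₀).ι) _ = _
      rw [X.homOfLE_ι]
      rfl
    rw [this]
    exact hpG

end Main

end Groth.Agent.Lib.R2Lead.AmpleSpread
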