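import Mathlib
import Groth.Prelude.Def_CAlg
import Groth.Agent.Lib.Helper5RLR3
import Groth.Agent.Lib.Helper28Unmixed
import Groth.Agent.Lib.H6xLinkF
import Groth.Agent.Lib.Helper29HLVT
import Groth.Agent.Lib.Helper5GorRing
import Groth.Agent.S5774
import Groth.Agent.Lib.Helper19FlatResExtB
import Groth.Agent.S2053

/-!
# Cutting a flat local algebra with regular closed fibre down to an Artinian one with Gorenstein
closed fibre (lead)
-/

set_option autoImplicit false
set_option linter.style.haveILetI false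
universe u

namespace Groth.Agent.Lib.R2LeadArtFact
open IsLocalRing RingTheory.Sequence
open scoped Pointwise

section LemmaA

variable {A' T S : Type u} [CommRing A'] [CommRing T] [CommRing S] [IsLocalRing A']
  [IsArtinianRing A'] [IsLocalRing T] [IsNoetherianRing T] [Algebra A' T]
  [IsLocalHom (algebraMap A' T)] [Module.Flat A' T] [IsLocalRing S] [IsArtinianRing S]

theorem lemmaA (hreg : IsRegularRing (T ⧸ (maximalIdeal A').map (algebraMap A' T)))
    (π : T →+* S) (hπ : Function.Surjective π) :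
    ∃ Y : Ideal T, Y ≤ RingHom.ker π ∧ IsArtinianRing (T ⧸ Y) ∧ Module.Flat A' (T ⧸ Y) ∧
      LocCoh.IsGorensteinLocalRing
        ((T ⧸ Y) ⧸ (maximalIdeal A').map (algebraMap A' (T ⧸ Y))) := by
  classical
  set I₀ : Ideal T := (maximalIdeal A').map (algebraMap A' T) with hI₀
  have hI₀le : I₀ ≤ maximalIdeal T := IsLocalRing.map_maximalIdeal_le (algebraMap A' T)
  have hI₀ne : I₀ ≠ ⊤ := fun h => (maximalIdeal.isMaximal T).ne_top (top_le_iff.mp (h ▸ hI₀le))
  haveI : Nontrivial (T ⧸ I₀) := Ideal.Quotient.nontrivial_iff.mpr hI₀ne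
  haveI : IsLocalRing (T ⧸ I₀) :=
    .of_surjective' (Ideal.Quotient.mk I₀) Ideal.Quotient.mk_surjective
  haveI := hreg
  haveI : IsRegularLocalRing (T ⧸ I₀) := IsRegularLocalRing.of_isRegularRing_of_isLocalRing _
  obtain ⟨gs, hlen, hgs, -⟩ := Groth.Agent.Lib.Helper5.exists_isRegular_ofList_eq_maximalIdeal (T ⧸ I₀)
  obtain ⟨N, hN⟩ := (isArtinianRing_iff_isNilpotent_maximalIdeal S).mp inferInstance
  set gN : List (T ⧸ I₀) := gs.map (· ^ (N + 1)) with hgN
  have hgsmem : ∀ g ∈ gs, g ∈ maximalIdeal (T ⧸ I₀) := fun g hg => hgs ▸ Ideal.subset_span hg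
  have hmem : ∀ y ∈ gN, y ∈ maximalIdeal (T ⧸ I₀) := by
    intro y hy
    obtain ⟨g, hg, rfl⟩ := List.mem_map.mp hy
    exact Ideal.pow_mem_of_mem _ (hgsmem g hg) _ (Nat.succ_pos N)
  have hht : (gN.length : ℕ∞) ≤ (Ideal.ofList gN).height := by
    rw [Ideal.height_eq_inf_minimalPrimes]
    refine le_iInf₂ fun J hJ => ?_
    haveI : J.IsPrime := hJ.1.1
    have hle : maximalIdeal (T ⧸ I₀) ≤ J := by
      rw [← hgs]
      refine Ideal.span_le.mpr fun g hg => ?_
      have : g ^ (N + 1) ∈ J := hJ.1.2 (Ideal.subset_span (List.mem_map.mpr ⟨g, hg, rfl⟩))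
      exact Ideal.IsPrime.mem_of_pow_mem inferInstance _ this
    have hJeq : J = maximalIdeal (T ⧸ I₀) :=
      ((maximalIdeal.isMaximal _).eq_of_le (Ideal.IsPrime.ne_top inferInstance) hle).symm
    rw [hJeq, hgN, List.length_map]
    have h1 := IsLocalRing.maximalIdeal_height_eq_ringKrullDim (R := T ⧸ I₀)
    rw [hlen] at h1
    have h2 : (maximalIdeal (T ⧸ I₀)).height = (gs.length : ℕ∞) := by exact_mod_cast h1
    rw [h2]
  haveI : LocCoh.IsCohenMacaulayLocalRing (T ⧸ I₀) :=
    Groth.Agent.Lib.Helper5.isCohenMacaulayLocalRing_of_isRegularLocalRing _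
  obtain ⟨hwr, -, -⟩ := Groth.Agent.Lib.Helper28.isWeaklyRegular_of_length_le_height gN hmem hht
  -- lifts
  obtain ⟨ts, hts⟩ : ∃ ts : List T, ts.map (Ideal.Quotient.mk I₀) = gs :=
    List.map_surjective_iff.mpr Ideal.Quotient.mk_surjective gs
  set fs : List T := ts.map (· ^ (N + 1)) with hfs
  have hfsg : fs.map (Ideal.Quotient.mk I₀) = gN := by
    rw [hfs, hgN, ← hts, List.map_map, List.map_map]
    apply List.map_congr_left
    intro t _
    simp only [Function.comp_apply, map_pow]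
  have htsmem : ∀ t ∈ ts, t ∈ maximalIdeal T := by
    intro t ht
    have h1 : Ideal.Quotient.mk I₀ t ∈ maximalIdeal (T ⧸ I₀) :=
      hgsmem _ (hts ▸ List.mem_map.mpr ⟨t, ht, rfl⟩)
    by_contra hcon
    have hu : IsUnit t := by
      by_contra hnu
      exact hcon ((mem_maximalIdeal t).mpr hnu)
    exact (mem_maximalIdeal _).mp h1 (hu.map _)
  refine ⟨Ideal.ofList fs, ?_, ?_, ?_, ?_⟩
  · -- kernel
    refine Ideal.span_le.mpr fun f hf => ?_
    obtain ⟨t, ht, rfl⟩ := List.mem_map.mp hf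
    haveI : IsLocalHom π := IsLocalHom.of_surjective π hπ
    have h1 : π t ∈ maximalIdeal S := by
      rw [mem_maximalIdeal]
      intro hu
      exact (mem_maximalIdeal t).mp (htsmem t ht) ((isUnit_map_iff π t).mp hu)
    show π (t ^ (N + 1)) = 0
    have h2 : π t ^ (N + 1) ∈ maximalIdeal S ^ N :=
      Ideal.pow_le_pow_right (Nat.le_succ N) (Ideal.pow_mem_pow h1 _)
    rw [hN] at h2
    rw [map_pow]
    exact h2
  · -- Artinian
    have hfsle : Ideal.ofList fs ≤ maximalIdeal T := Ideal.span_le.mpr (fun f hf => by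
      obtain ⟨t, ht, rfl⟩ := List.mem_map.mp hf
      exact Ideal.pow_mem_of_mem _ (htsmem t ht) _ (Nat.succ_pos N))
    have hne : Ideal.ofList fs ≠ ⊤ :=
      fun h => (maximalIdeal.isMaximal T).ne_top (top_le_iff.mp (h ▸ hfsle))
    haveI : Nontrivial (T ⧸ Ideal.ofList fs) := Ideal.Quotient.nontrivial_iff.mpr hne
    haveI : IsLocalRing (T ⧸ Ideal.ofList fs) :=
      .of_surjective' (Ideal.Quotient.mk _) Ideal.Quotient.mk_surjective
    have hY' : (Ideal.ofList fs).map (Ideal.Quotient.mk I₀) = Ideal.ofList gN := by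
      rw [Ideal.map_ofList, hfsg]
    obtain ⟨a, ha⟩ := (isArtinianRing_iff_isNilpotent_maximalIdeal A').mp inferInstance
    have hI₀nil : I₀ ^ a = ⊥ := by
      rw [hI₀, ← Ideal.map_pow, ha, Ideal.zero_eq_bot, Ideal.map_bot]
    have hrad : maximalIdeal (T ⧸ I₀) ≤ (Ideal.ofList gN).radical := by
      rw [← hgs]
      exact Ideal.span_le.mpr fun g hg =>
        ⟨N + 1, Ideal.subset_span (List.mem_map.mpr ⟨g, hg, rfl⟩)⟩
    have hnil : ∀ x ∈ maximalIdeal (T ⧸ Ideal.ofList fs), IsNilpotent x := by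
      intro x hx
      obtain ⟨t, rfl⟩ := Ideal.Quotient.mk_surjective x
      have ht : t ∈ maximalIdeal T := by
        rw [mem_maximalIdeal] at hx ⊢
        intro hu
        exact hx (hu.map _)
      have h0 : Ideal.Quotient.mk I₀ t ∈ maximalIdeal (T ⧸ I₀) := by
        rw [mem_maximalIdeal]
        intro hu
        haveI : IsLocalHom (Ideal.Quotient.mk I₀) :=
          IsLocalHom.of_surjective _ Ideal.Quotient.mk_surjective
        exact (mem_maximalIdeal t).mp ht ((isUnit_map_iff (Ideal.Quotient.mk I₀) t).mp hu)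
      obtain ⟨k, hk⟩ := hrad h0
      have h2 : t ^ k ∈ Ideal.ofList fs ⊔ I₀ := by
        rw [← map_pow, ← hY', Ideal.mem_map_iff_of_surjective _ Ideal.Quotient.mk_surjective] at hk
        obtain ⟨y, hy, hyk⟩ := hk
        have h3 : t ^ k - y ∈ I₀ := (Ideal.Quotient.eq.mp hyk.symm)
        have h4 : t ^ k = y + (t ^ k - y) := by ring
        rw [h4]
        exact Ideal.add_mem _ (Ideal.mem_sup_left hy) (Ideal.mem_sup_right h3)
      obtain ⟨u, hu, v, hv, huv⟩ := Submodule.mem_sup.mp h2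
      refine ⟨k * a, ?_⟩
      rw [pow_mul, ← map_pow, ← huv, map_add, Ideal.Quotient.eq_zero_iff_mem.mpr hu, zero_add,
        ← map_pow]
      have h5 : v ^ a ∈ I₀ ^ a := Ideal.pow_mem_pow hv a
      rw [hI₀nil] at h5
      rw [(Submodule.mem_bot _).mp h5, map_zero]
    haveI : Ring.KrullDimLE 0 (T ⧸ Ideal.ofList fs) := by
      rw [Ring.krullDimLE_zero_iff]
      intro J hJ
      have hle : maximalIdeal (T ⧸ Ideal.ofList fs) ≤ J := fun x hx => by
        obtain ⟨k, hk⟩ := hnil x hx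
        exact hJ.mem_of_pow_mem k (hk ▸ J.zero_mem)
      have := (maximalIdeal.isMaximal (T ⧸ Ideal.ofList fs)).eq_of_le hJ.ne_top hle
      rw [← this]
      exact maximalIdeal.isMaximal _
    exact isArtinianRing_iff_krullDimLE_zero.mpr inferInstance
  · -- flat
    have hreg' : IsWeaklyRegular (T ⧸ (I₀ • (⊤ : Submodule T T))) fs := by
      have h1 : IsWeaklyRegular (T ⧸ I₀) (fs.map (algebraMap T (T ⧸ I₀))) := by
        rw [Ideal.Quotient.algebraMap_eq, hfsg]
        exact hwr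
      have h2 : IsWeaklyRegular (T ⧸ I₀) fs :=
        (isWeaklyRegular_map_algebraMap_iff (T ⧸ I₀) (T ⧸ I₀) fs).mp h1
      have e : (T ⧸ I₀) ≃ₗ[T] (T ⧸ (I₀ • (⊤ : Submodule T T))) :=
        Submodule.quotEquivOfEq _ _ (by rw [smul_eq_mul, Ideal.mul_top])
      exact (e.isWeaklyRegular_congr fs).mp h2
    have h := (Groth.Agent.S5774.result A' T T fs hreg').2 fs.length le_rfl
    rw [List.take_length] at h
    have e2 : (T ⧸ (Ideal.ofList fs • (⊤ : Submodule T T))) ≃ₗ[T] (T ⧸ Ideal.ofList fs) :=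
      Submodule.quotEquivOfEq _ _ (by rw [smul_eq_mul, Ideal.mul_top])
    exact Module.Flat.of_linearEquiv (e2.restrictScalars A').symm
  · -- Gorenstein fibre
    haveI : LocCoh.IsGorensteinRing (T ⧸ I₀) :=
      Groth.Agent.Lib.Helper5.GorRing.gorRing_of_isRegularRing _
    haveI hG := Groth.Agent.Lib.H6xLink.gorRing_quotient_of_length_le_height (T ⧸ I₀) gN hht
    have hYle : Ideal.ofList gN ≤ maximalIdeal (T ⧸ I₀) := Ideal.span_le.mpr hmem
    have hYne : Ideal.ofList gN ≠ ⊤ :=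
      fun h => (maximalIdeal.isMaximal (T ⧸ I₀)).ne_top (top_le_iff.mp (h ▸ hYle))
    haveI : Nontrivial ((T ⧸ I₀) ⧸ Ideal.ofList gN) := Ideal.Quotient.nontrivial_iff.mpr hYne
    haveI : IsLocalRing ((T ⧸ I₀) ⧸ Ideal.ofList gN) :=
      .of_surjective' (Ideal.Quotient.mk _) Ideal.Quotient.mk_surjective
    haveI hGL : LocCoh.IsGorensteinLocalRing ((T ⧸ I₀) ⧸ Ideal.ofList gN) :=
      Groth.Agent.Lib.Helper29.HLVT.gorLocal_of_gorRing _
    have hI₁ : (maximalIdeal A').map (algebraMap A' (T ⧸ Ideal.ofList fs)) =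
        I₀.map (Ideal.Quotient.mk (Ideal.ofList fs)) := by
      rw [hI₀, Ideal.map_map]
      rfl
    have hY' : (Ideal.ofList fs).map (Ideal.Quotient.mk I₀) = Ideal.ofList gN := by
      rw [Ideal.map_ofList, hfsg]
    let e1 := DoubleQuot.quotQuotEquivComm (Ideal.ofList fs) I₀
    let e2 := Ideal.quotEquivOfEq hY'
    let e3 := Ideal.quotEquivOfEq hI₁
    exact Groth.Agent.Lib.Helper5.GorRing.gorLocal_of_ringEquiv ((e3.trans (e1.trans e2)).symm)

end LemmaA

section Core

variable {R S P Q : Type u} [CommRing R] [CommRing S] [CommRing P] [CommRing Q]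
  [IsArtinianRing R] [IsLocalRing R] [IsArtinianRing S] [IsLocalRing S] [Algebra R S]
  [IsLocalHom (algebraMap R S)] [IsLocalRing P] [IsNoetherianRing P] [IsLocalRing Q]
  [IsNoetherianRing Q]

theorem core (ρ : P →+* R) (σ : Q →+* S) (τ : P →+* Q) (hρ : Function.Surjective ρ)
    (hσ : Function.Surjective σ) (hcomm : σ.comp τ = (algebraMap R S).comp ρ) (hflat : τ.Flat)
    (hreg : IsRegularRing (Q ⧸ (maximalIdeal P).map τ)) :
    ∃ (R' : Type u) (_ : CommRing R') (_ : Algebra R R'), IsArtinianRing R' ∧ IsLocalRing R' ∧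
      Module.Flat R R' ∧ IsLocalHom (algebraMap R R') ∧
      LocCoh.IsGorensteinLocalRing (R' ⧸ (maximalIdeal R).map (algebraMap R R')) ∧
      ∃ g : R' →ₐ[R] S, Function.Surjective g := by
  classical
  letI : Algebra P Q := τ.toAlgebra
  have hτalg : algebraMap P Q = τ := rfl
  haveI : Module.Flat P Q := hflat
  set K : Ideal P := RingHom.ker ρ with hK
  let e : (P ⧸ K) ≃+* R := RingHom.quotientKerEquivOfSurjective hρ
  haveI : Nontrivial (P ⧸ K) := e.toEquiv.nontrivial
  haveI : IsLocalRing (P ⧸ K) :=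
    .of_surjective' (Ideal.Quotient.mk K) Ideal.Quotient.mk_surjective
  haveI : IsArtinianRing (P ⧸ K) :=
    Function.Surjective.isArtinianRing (f := e.symm.toRingHom) e.symm.surjective
  have hσK : K.map (algebraMap P Q) ≤ RingHom.ker σ := by
    refine Ideal.map_le_iff_le_comap.mpr fun k hk => ?_
    rw [Ideal.mem_comap, RingHom.mem_ker, hτalg]
    have := RingHom.congr_fun hcomm k
    rw [RingHom.comp_apply, RingHom.comp_apply, (RingHom.mem_ker).mp hk, map_zero] at this
    exact this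
  let π : (Q ⧸ K.map (algebraMap P Q)) →+* S := Ideal.Quotient.lift _ σ (fun x hx => hσK hx)
  have hπ : Function.Surjective π := Ideal.Quotient.lift_surjective_of_surjective _ _ hσ
  haveI : Nontrivial (Q ⧸ K.map (algebraMap P Q)) := hπ.nontrivial
  haveI : IsLocalRing (Q ⧸ K.map (algebraMap P Q)) :=
    .of_surjective' (Ideal.Quotient.mk _) Ideal.Quotient.mk_surjective
  haveI : Module.Flat (P ⧸ K) (Q ⧸ K.map (algebraMap P Q)) :=
    Groth.Agent.Lib.Helper19.FlatResExt.flat_quotient_map K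
  haveI hτloc : IsLocalHom τ := by
    haveI : IsLocalHom ρ := IsLocalHom.of_surjective ρ hρ
    haveI : IsLocalHom (σ.comp τ) := by
      rw [hcomm]
      exact RingHom.isLocalHom_comp _ _
    exact isLocalHom_of_comp τ σ
  haveI hmkloc : IsLocalHom (Ideal.Quotient.mk (K.map (algebraMap P Q))) :=
    IsLocalHom.of_surjective _ Ideal.Quotient.mk_surjective
  haveI : IsLocalHom (algebraMap (P ⧸ K) (Q ⧸ K.map (algebraMap P Q))) := ⟨fun a ha => by
    obtain ⟨p, rfl⟩ := Ideal.Quotient.mk_surjective a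
    have h1 : IsUnit (Ideal.Quotient.mk (K.map (algebraMap P Q)) (τ p)) := ha
    have h2 := (isUnit_map_iff (Ideal.Quotient.mk (K.map (algebraMap P Q))) (τ p)).mp h1
    have h3 := (isUnit_map_iff τ p).mp h2
    exact h3.map _⟩
  have hKle : K ≤ maximalIdeal P :=
    IsLocalRing.le_maximalIdeal (RingHom.ker_ne_top ρ)
  have hfib : IsRegularRing ((Q ⧸ K.map (algebraMap P Q)) ⧸
      (maximalIdeal (P ⧸ K)).map (algebraMap (P ⧸ K) (Q ⧸ K.map (algebraMap P Q)))) := by
    have h1 : maximalIdeal (P ⧸ K) = (maximalIdeal P).map (Ideal.Quotient.mk K) :=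
      (Groth.Agent.Lib.Helper19.FlatResExt.map_maximalIdeal_of_surjective
        (Ideal.Quotient.mk K) Ideal.Quotient.mk_surjective).symm
    have h2 : (maximalIdeal (P ⧸ K)).map (algebraMap (P ⧸ K) (Q ⧸ K.map (algebraMap P Q))) =
        ((maximalIdeal P).map τ).map (Ideal.Quotient.mk (K.map (algebraMap P Q))) := by
      rw [h1, Ideal.map_map, Ideal.map_map]
      rfl
    have hle : K.map (algebraMap P Q) ≤ (maximalIdeal P).map τ := Ideal.map_mono hKle
    rw [h2]
    haveI := hreg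
    exact IsRegularRing.of_ringEquiv (DoubleQuot.quotQuotEquivQuotOfLE hle).symm
  obtain ⟨Y, hYker, hArt, hFlat, hGor⟩ := lemmaA hfib π hπ
  have hYne : Y ≠ ⊤ := fun h => RingHom.ker_ne_top π (top_le_iff.mp (h ▸ hYker))
  haveI : Nontrivial ((Q ⧸ K.map (algebraMap P Q)) ⧸ Y) := Ideal.Quotient.nontrivial_iff.mpr hYne
  haveI hR'loc : IsLocalRing ((Q ⧸ K.map (algebraMap P Q)) ⧸ Y) :=
    .of_surjective' (Ideal.Quotient.mk Y) Ideal.Quotient.mk_surjective
  letI algRA' : Algebra R (P ⧸ K) := e.symm.toRingHom.toAlgebra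
  letI algRR' : Algebra R ((Q ⧸ K.map (algebraMap P Q)) ⧸ Y) :=
    ((algebraMap (P ⧸ K) ((Q ⧸ K.map (algebraMap P Q)) ⧸ Y)).comp e.symm.toRingHom).toAlgebra
  haveI : IsScalarTower R (P ⧸ K) ((Q ⧸ K.map (algebraMap P Q)) ⧸ Y) :=
    IsScalarTower.of_algebraMap_eq (fun _ => rfl)
  have halg : ∀ p : P, algebraMap R ((Q ⧸ K.map (algebraMap P Q)) ⧸ Y) (ρ p) =
      Ideal.Quotient.mk Y (Ideal.Quotient.mk _ (τ p)) := by
    intro p
    show algebraMap (P ⧸ K) _ (e.symm (ρ p)) = _
    rw [RingHom.quotientKerEquivOfSurjective_symm_apply]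
    rfl
  refine ⟨(Q ⧸ K.map (algebraMap P Q)) ⧸ Y, inferInstance, algRR', hArt, hR'loc, ?_, ?_, ?_, ?_⟩
  · -- flat
    let e' : (P ⧸ K) ≃ₗ[R] R :=
      { e.toAddEquiv with
        map_smul' := fun r x => by
          show e (algebraMap R (P ⧸ K) r * x) = r * e x
          rw [map_mul]
          congr 1
          exact e.apply_symm_apply r }
    haveI : Module.Flat R (P ⧸ K) := Module.Flat.of_linearEquiv e'
    exact Module.Flat.trans R (P ⧸ K) _
  · -- local hom
    haveI h1 : IsLocalHom (Ideal.Quotient.mk Y) :=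
      IsLocalHom.of_surjective _ Ideal.Quotient.mk_surjective
    refine ⟨fun r hr => ?_⟩
    obtain ⟨p, rfl⟩ := hρ r
    rw [halg] at hr
    have h2 := (isUnit_map_iff (Ideal.Quotient.mk Y) _).mp hr
    have h3 := (isUnit_map_iff (Ideal.Quotient.mk (K.map (algebraMap P Q))) (τ p)).mp h2
    have h4 := (isUnit_map_iff τ p).mp h3
    exact h4.map ρ
  · -- Gorenstein fibre
    have h1 : (maximalIdeal R).map e.symm.toRingHom = maximalIdeal (P ⧸ K) :=
      Groth.Agent.Lib.Helper19.FlatResExt.map_maximalIdeal_of_surjective e.symm.toRingHom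
        e.symm.surjective
    have h2 : (maximalIdeal R).map (algebraMap R ((Q ⧸ K.map (algebraMap P Q)) ⧸ Y)) =
        (maximalIdeal (P ⧸ K)).map (algebraMap (P ⧸ K) ((Q ⧸ K.map (algebraMap P Q)) ⧸ Y)) := by
      rw [← h1, Ideal.map_map]
      rfl
    haveI := hGor
    exact Groth.Agent.Lib.Helper5.GorRing.gorLocal_of_ringEquiv (Ideal.quotEquivOfEq h2.symm)
  · -- the surjection
    let g0 : ((Q ⧸ K.map (algebraMap P Q)) ⧸ Y) →+* S :=
      Ideal.Quotient.lift Y π (fun x hx => hYker hx)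
    have hg0 : Function.Surjective g0 := Ideal.Quotient.lift_surjective_of_surjective _ _ hπ
    refine ⟨{ g0 with
      commutes' := fun r => ?_ }, hg0⟩
    obtain ⟨p, rfl⟩ := hρ r
    show g0 (algebraMap R _ (ρ p)) = algebraMap R S (ρ p)
    rw [halg]
    have := RingHom.congr_fun hcomm p
    rw [RingHom.comp_apply, RingHom.comp_apply] at this
    rw [← this]
    rfl

end Core

section Main

theorem main (R S : Type u) [CommRing R] [CommRing S] [IsArtinianRing R] [IsLocalRing R]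
    [IsArtinianRing S] [IsLocalRing S] [Algebra R S] [IsLocalHom (algebraMap R S)] :
    ∃ (R' : Type u) (_ : CommRing R') (_ : Algebra R R'), IsArtinianRing R' ∧ IsLocalRing R' ∧
      Module.Flat R R' ∧ IsLocalHom (algebraMap R R') ∧
      LocCoh.IsGorensteinLocalRing (R' ⧸ (maximalIdeal R).map (algebraMap R R')) ∧
      ∃ g : R' →ₐ[R] S, Function.Surjective g := by
  obtain ⟨Λ, Λ', iΛ, iΛ', iloc, n, m, ρ, σ, τ, hcoef, hρ, hσ, hcomm, hflat, hreg⟩ :=
    Groth.Agent.S2053.result (A := R) (B := S)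
  have hinst : IsNoetherianRing Λ ∧ IsNoetherianRing Λ' ∧ IsLocalRing Λ' := by
    rcases hcoef with ⟨-, hf, hf'⟩ | ⟨-, hc, hc'⟩
    · refine ⟨?_, ?_, ?_⟩
      · letI := hf.toField
        infer_instance
      · letI := hf'.toField
        infer_instance
      · letI := hf'.toField
        infer_instance
    · obtain ⟨hdom, hdvr, -, -⟩ := id hc
      obtain ⟨hdom', hdvr', -, -⟩ := id hc'
      exact ⟨inferInstance, inferInstance, inferInstance⟩
  obtain ⟨h1, h2, h3⟩ := hinst
  exact core ρ σ τ hρ hσ hcomm hflat hreg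

end Main

end Groth.Agent.Lib.R2LeadArtFact
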