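import Mathlib
import Groth.Agent.Lib.Helper20FPD

universe u

namespace Groth.Agent.Lib.R2Lead.ArtinApprox

open CategoryTheory CategoryTheory.Limits MvPolynomial
open Groth.Agent.Lib.Helper20.FPD

variable {A : Type u} [CommRing A]

/-- trivial goodness -/
abbrev GoodT : ∀ (C : Type u) [CommRing C], (A →+* C) → Prop := fun _ _ _ => True

theorem hkeyT (B : Type u) [CommRing B] [Algebra A B] : ∀ d : D A B, Rel d →
      ∃ d' : D A B, le d d' ∧ Rel d' ∧ GoodT (A := A) (Q d') (algebraMap A (Q d')) :=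
  fun d hd => ⟨d, le_refl' d, hd, trivial⟩

/-- Two morphisms in `Under A` out of a quotient of a polynomial algebra agree if they agree on the
variables. -/
theorem under_hom_ext_Q {B : Type u} [CommRing B] [Algebra A B] (d : D A B)
    (Y : Under (CommRingCat.of A))
    (g₁ g₂ : Under.mk (CommRingCat.ofHom (algebraMap A (Q d))) ⟶ Y)
    (h : ∀ s : d.1, g₁.right.hom (Ideal.Quotient.mk _ (X s)) = g₂.right.hom (Ideal.Quotient.mk _ (X s))) :
    g₁ = g₂ := by
  apply Under.UnderMorphism.ext
  apply CommRingCat.hom_ext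
  apply Ideal.Quotient.ringHom_ext
  apply MvPolynomial.ringHom_ext
  · intro a
    have h1 := congrArg (fun f => f.hom a) (Under.w g₁)
    have h2 := congrArg (fun f => f.hom a) (Under.w g₂)
    simp only [Under.mk_hom, CommRingCat.hom_comp, CommRingCat.hom_ofHom,
      RingHom.coe_comp, Function.comp_apply] at h1 h2
    show g₁.right.hom (Ideal.Quotient.mk _ (C a)) = g₂.right.hom (Ideal.Quotient.mk _ (C a))
    have : (Ideal.Quotient.mk (Ideal.span (d.2 : Set (MvPolynomial d.1 A))) (C a)) =
      algebraMap A (Q d) a := rfl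
    rw [this, h1, h2]
  · intro s
    exact h s


theorem main (m : Ideal A)
    (hAP : ∀ (k l c : ℕ) (f : Fin l → MvPolynomial (Fin k) A) (â : Fin k → AdicCompletion m A),
      (∀ i, MvPolynomial.aeval â (f i) = 0) →
      ∃ a : Fin k → A, (∀ i, MvPolynomial.eval a (f i) = 0) ∧
        ∀ j, Ideal.Quotient.mk (m ^ c) (a j) = AdicCompletion.evalₐ m c (â j))
    (F : Under (CommRingCat.of A) ⥤ Type u)
    (hF : ∀ (J : Type u) [SmallCategory J] [IsFiltered J], PreservesColimitsOfShape J F)
    (c : ℕ)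
    (π : Under.mk (CommRingCat.ofHom (algebraMap A (AdicCompletion m A))) ⟶
      Under.mk (CommRingCat.ofHom (algebraMap A (A ⧸ m ^ c))))
    (hπ : π.right = CommRingCat.ofHom
      (AdicCompletion.evalₐ m c : AdicCompletion m A →ₐ[A] A ⧸ m ^ c).toRingHom)
    (ρ : Under.mk (𝟙 (CommRingCat.of A)) ⟶ Under.mk (CommRingCat.ofHom (algebraMap A (A ⧸ m ^ c))))
    (ξ : F.obj (Under.mk (CommRingCat.ofHom (algebraMap A (AdicCompletion m A))))) :
    ∃ η : F.obj (Under.mk (𝟙 (CommRingCat.of A))), F.map ρ η = F.map π ξ := by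
  classical
  let B := AdicCompletion m A
  haveI : IsFiltered (J A B GoodT) := isFiltered_J (hkeyT B)
  haveI := hF (J A B GoodT)
  have hc : IsColimit (F.mapCocone (cocone (A := A) (B := B) (Good := GoodT))) :=
    isColimitOfPreserves F (isColimitCocone (hkeyT B))
  obtain ⟨j, ξj, hξj⟩ := Types.jointly_surjective_of_isColimit hc ξ
  -- enumerate variables and relations
  let S := j.1.1
  let T := j.1.2
  let e : S ≃ Fin S.card := S.equivFin
  let eT : T ≃ Fin T.card := T.equivFin
  let f : Fin T.card → MvPolynomial (Fin S.card) A := fun i => rename e (eT.symm i : MvPolynomial S A)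
  let â : Fin S.card → B := fun i => ((e.symm i : S) : B)
  have hâ : ∀ i, aeval â (f i) = 0 := by
    intro i
    show aeval â (rename e (eT.symm i : MvPolynomial S A)) = 0
    rw [aeval_rename]
    have : (â ∘ e) = fun s : S => (s : B) := by
      funext s; simp [â]
    rw [this]
    exact j.2.1 _ (eT.symm i).2
  obtain ⟨a, ha0, hac⟩ := hAP S.card T.card c f â hâ
  -- the retraction
  let φ₀ : MvPolynomial S A →ₐ[A] A := aeval (fun s => a (e s))
  have hφ₀ : ∀ t ∈ Ideal.span (T : Set (MvPolynomial S A)), φ₀ t = 0 := by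
    intro t ht
    have hle : Ideal.span (T : Set (MvPolynomial S A)) ≤ RingHom.ker φ₀.toRingHom := by
      rw [Ideal.span_le]
      intro t ht
      have := ha0 (eT ⟨t, ht⟩)
      simp only [f, Equiv.symm_apply_apply] at this
      rw [eval_rename] at this
      show φ₀ t = 0
      rw [← this]
      rfl
    exact hle ht
  let φ : Q j.1 →ₐ[A] A := Ideal.Quotient.liftₐ _ φ₀ hφ₀
  let φ' : (Groth.Agent.Lib.Helper20.FPD.F (A := A) (B := B) (Good := GoodT)).obj j ⟶
      Under.mk (𝟙 (CommRingCat.of A)) :=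
    Under.homMk (CommRingCat.ofHom φ.toRingHom) (by
      ext x
      exact φ.commutes x)
  let ιj : (Groth.Agent.Lib.Helper20.FPD.F (A := A) (B := B) (Good := GoodT)).obj j ⟶
      Under.mk (CommRingCat.ofHom (algebraMap A (AdicCompletion m A))) :=
    (cocone (A := A) (B := B) (Good := GoodT)).ι.app j
  have key : φ' ≫ ρ = ιj ≫ π := by
    apply under_hom_ext_Q
    intro s
    have hρ : ∀ x : A, ρ.right.hom x = Ideal.Quotient.mk (m ^ c) x := by
      intro x
      have h1 := congrArg (fun f => f.hom x) (Under.w ρ)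
      simpa using h1
    have h2 := hac (e s)
    simp only [â, Equiv.symm_apply_apply] at h2
    show ρ.right.hom (φ (Ideal.Quotient.mk _ (X s))) =
      π.right.hom (iota j.1 j.2.1 (Ideal.Quotient.mk _ (X s)))
    rw [hπ, iota_mk, piS_X, hρ]
    show Ideal.Quotient.mk (m ^ c) (φ₀ (X s)) = _
    simp only [φ₀, aeval_X]
    exact h2
  refine ⟨F.map φ' ξj, ?_⟩
  rw [← hξj]
  show F.map ρ (F.map φ' ξj) = F.map π (F.map ιj ξj)
  rw [← Functor.map_comp_apply, ← Functor.map_comp_apply, key]

end Groth.Agent.Lib.R2Lead.ArtinApprox
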