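import Mathlib
import Groth.Prelude.Def_W4c4lgringredgrpLG
import Groth.Agent.S16597
import Groth.Agent.Lib.LeadAzumayaLocal

/-! # Projective modules over Azumaya algebras over LG-rings (lead, round 2)

Main result `exists_surjective_section`: over an LG-ring `R`, for an Azumaya `R`-algebra `A` and
finitely generated projective `A`-modules `M`, `N` with `rank_R N ≤ rank_R M` at every maximal
ideal, `N` is a direct summand of `M`.
-/

set_option autoImplicit false
set_option linter.style.haveILetI false
universe u v w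

namespace Groth.Agent.Lib.R2Lead.LGAzumaya
open TensorProduct MvPolynomial

section PartA
variable {B : Type*} [Ring B]

/-- restriction of tuples -/
def resTuple (S : Type*) [AddCommGroup S] [Module B S] {a b : ℕ} (h : a ≤ b) :
    (Fin b → S) →ₗ[B] (Fin a → S) := LinearMap.funLeft B S (Fin.castLE h)

/-- extension by zero of tuples -/
def extTuple (S : Type*) [AddCommGroup S] [Module B S] (a b : ℕ) :
    (Fin a → S) →ₗ[B] (Fin b → S) :=
  LinearMap.pi fun i => if hi : (i : ℕ) < a then LinearMap.proj ⟨i, hi⟩ else 0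

lemma extTuple_apply (S : Type*) [AddCommGroup S] [Module B S] (a b : ℕ) (v : Fin a → S)
    (i : Fin b) : extTuple (B := B) S a b v i = if hi : (i : ℕ) < a then v ⟨i, hi⟩ else 0 := by
  unfold extTuple
  rw [LinearMap.pi_apply]
  split_ifs <;> rfl

lemma resTuple_extTuple (S : Type*) [AddCommGroup S] [Module B S] {a b : ℕ} (h : a ≤ b)
    (v : Fin a → S) : resTuple (B := B) S h (extTuple (B := B) S a b v) = v := by
  funext i
  unfold resTuple
  rw [LinearMap.funLeft_apply, extTuple_apply]
  have hi : ((Fin.castLE h i : Fin b) : ℕ) < a := by simp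
  rw [dif_pos hi]
  congr 1

lemma extTuple_injective (S : Type*) [AddCommGroup S] [Module B S] {a b : ℕ} (h : a ≤ b) :
    Function.Injective (extTuple (B := B) S a b) := by
  intro v w hvw
  rw [← resTuple_extTuple (B := B) S h v, ← resTuple_extTuple (B := B) S h w, hvw]

lemma extTuple_not_surjective (S : Type*) [AddCommGroup S] [Module B S] [Nontrivial S] {a b : ℕ}
    (h : a < b) : ¬ Function.Surjective (extTuple (B := B) S a b) := by
  intro hs
  obtain ⟨s, hs0⟩ := exists_ne (0 : S)
  obtain ⟨v, hv⟩ := hs (fun _ => s)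
  have := congrFun hv ⟨a, h⟩
  rw [extTuple_apply, dif_neg (by simp)] at this
  exact hs0 this.symm

theorem simpleArtinian_dichotomy [IsSimpleRing B] [IsArtinianRing B]
    (V W : Type*) [AddCommGroup V] [Module B V] [Module.Finite B V]
    [AddCommGroup W] [Module B W] [Module.Finite B W] :
    (∃ (f : V →ₗ[B] W) (g : W →ₗ[B] V), ∀ z, f (g z) = z) ∨
      (∃ j : V →ₗ[B] W, Function.Injective j ∧ ¬ Function.Surjective j) := by
  by_cases hW : Subsingleton W
  · left
    exact ⟨0, 0, fun z => Subsingleton.elim _ _⟩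
  rw [not_subsingleton_iff_nontrivial] at hW
  have hiso := IsSimpleRing.isIsotypic B (V × W)
  obtain ⟨S, hS⟩ := IsSemisimpleModule.exists_simple_submodule B (V × W)
  have hT : IsIsotypicOfType B (V × W) S := fun m _ => hiso S m
  have hV : IsIsotypicOfType B V S :=
    hT.of_injective (LinearMap.inl B V W) LinearMap.inl_injective
  have hW' : IsIsotypicOfType B W S :=
    hT.of_injective (LinearMap.inr B V W) LinearMap.inr_injective
  obtain ⟨a, ⟨eV⟩⟩ := hV.linearEquiv_fun
  obtain ⟨b, ⟨eW⟩⟩ := hW'.linearEquiv_fun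
  have : Nontrivial S := IsSimpleModule.nontrivial B S
  rcases le_or_gt b a with hba | hab
  · left
    refine ⟨eW.symm.toLinearMap ∘ₗ resTuple S hba ∘ₗ eV.toLinearMap,
      eV.symm.toLinearMap ∘ₗ extTuple S b a ∘ₗ eW.toLinearMap, fun z => ?_⟩
    simp only [LinearMap.comp_apply, LinearEquiv.coe_coe, LinearEquiv.apply_symm_apply]
    rw [resTuple_extTuple, LinearEquiv.symm_apply_apply]
  · right
    refine ⟨eW.symm.toLinearMap ∘ₗ extTuple S a b ∘ₗ eV.toLinearMap, ?_, ?_⟩
    · simp only [LinearMap.coe_comp, LinearEquiv.coe_coe]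
      exact eW.symm.injective.comp ((extTuple_injective S hab.le).comp eV.injective)
    · intro hs
      apply extTuple_not_surjective (B := B) S hab
      intro y
      obtain ⟨x, hx⟩ := hs (eW.symm y)
      refine ⟨eV x, ?_⟩
      simp only [LinearMap.comp_apply, LinearEquiv.coe_coe] at hx
      exact eW.symm.injective hx

end PartA

section PartB
variable {R : Type u} [CommRing R] (m : Ideal R) (A : Type v) [Ring A] [Algebra R A]

/-- the ring hom `A → (R/m) ⊗ A` -/
noncomputable def resHom : A →+* (R ⧸ m) ⊗[R] A :=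
  (Algebra.TensorProduct.includeRight : A →ₐ[R] (R ⧸ m) ⊗[R] A).toRingHom

lemma resHom_apply (a : A) : resHom m A a = (1 : R ⧸ m) ⊗ₜ[R] a := rfl

lemma resHom_surjective : Function.Surjective (resHom m A) := by
  intro z
  induction z using TensorProduct.induction_on with
  | zero => exact ⟨0, map_zero _⟩
  | tmul c a =>
    obtain ⟨r, rfl⟩ := Ideal.Quotient.mk_surjective c
    refine ⟨r • a, ?_⟩
    rw [resHom_apply, TensorProduct.tmul_smul, TensorProduct.smul_tmul']
    congr 1
    rw [Algebra.smul_def, mul_one]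
    rfl
  | add x y hx hy =>
    obtain ⟨a, rfl⟩ := hx
    obtain ⟨b, rfl⟩ := hy
    exact ⟨a + b, map_add _ _ _⟩

/-- the kernel of `A → (R/m) ⊗ A` -/
noncomputable def resKer : Ideal A := RingHom.ker (resHom m A)

instance : (resKer m A).IsTwoSided := by
  unfold resKer
  infer_instance

lemma algebraMap_mem_resKer {r : R} (hr : r ∈ m) : algebraMap R A r ∈ resKer m A := by
  unfold resKer
  rw [RingHom.mem_ker, resHom_apply, Algebra.algebraMap_eq_smul_one, TensorProduct.tmul_smul,
    TensorProduct.smul_tmul']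
  have : r • (1 : R ⧸ m) = 0 := by
    rw [Algebra.smul_def, mul_one]
    exact Ideal.Quotient.eq_zero_iff_mem.mpr hr
  rw [this, TensorProduct.zero_tmul]

lemma mem_smul_top_of_mem_resKer {x : A} (hx : x ∈ resKer m A) :
    x ∈ m • (⊤ : Submodule R A) := by
  unfold resKer at hx
  rw [RingHom.mem_ker, resHom_apply] at hx
  have h1 := congrArg (TensorProduct.quotTensorEquivQuotSMul A m) hx
  rw [← map_one (Ideal.Quotient.mk m), TensorProduct.quotTensorEquivQuotSMul_mk_tmul, map_zero,
    one_smul] at h1
  exact (Submodule.Quotient.mk_eq_zero _).mp h1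

/-- elements of the kernel act into `m • ⊤` -/
lemma smul_mem_of_mem_resKer {M : Type w} [AddCommGroup M] [Module R M] [Module A M]
    [IsScalarTower R A M] {x : A} (hx : x ∈ resKer m A) (z : M) :
    x • z ∈ m • (⊤ : Submodule R M) := by
  have h := mem_smul_top_of_mem_resKer m A hx
  refine Submodule.smul_induction_on h ?_ ?_
  · intro r hr a _
    rw [smul_assoc]
    exact Submodule.smul_mem_smul hr Submodule.mem_top
  · intro a b ha hb
    rw [add_smul]
    exact Submodule.add_mem _ ha hb

variable [m.IsMaximal] [IsAzumaya R A]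

theorem isSimpleRing_quot : IsSimpleRing (A ⧸ resKer m A) := by
  letI := Ideal.Quotient.field m
  haveI : IsAzumaya (R ⧸ m) ((R ⧸ m) ⊗[R] A) :=
    Groth.Agent.Lib.LeadAzumaya.isAzumaya_baseChange (R ⧸ m) A
  haveI : IsSimpleRing ((R ⧸ m) ⊗[R] A) :=
    Groth.Agent.Lib.LeadAzumaya.isSimpleRing_of_isAzumaya_field (k := R ⧸ m)
  let e : (A ⧸ resKer m A) ≃+* (R ⧸ m) ⊗[R] A :=
    RingHom.quotientKerEquivOfSurjective (resHom_surjective m A)
  haveI : Nontrivial (A ⧸ resKer m A) := e.symm.injective.nontrivial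
  rw [IsSimpleRing.iff_injective_ringHom]
  intro S _ _ f
  have h1 : Function.Injective (f.comp e.symm.toRingHom) := RingHom.injective _
  intro x y hxy
  apply e.injective
  apply h1
  simp only [RingHom.comp_apply, RingEquiv.toRingHom_eq_coe, RingHom.coe_coe,
    RingEquiv.symm_apply_apply]
  exact hxy

theorem isArtinianRing_quot : IsArtinianRing (A ⧸ resKer m A) := by
  letI := Ideal.Quotient.field m
  haveI : IsAzumaya (R ⧸ m) ((R ⧸ m) ⊗[R] A) :=
    Groth.Agent.Lib.LeadAzumaya.isAzumaya_baseChange (R ⧸ m) A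
  haveI : Module.Finite (R ⧸ m) ((R ⧸ m) ⊗[R] A) := inferInstance
  haveI : IsArtinianRing ((R ⧸ m) ⊗[R] A) := IsArtinianRing.of_finite (R ⧸ m) _
  let e : (A ⧸ resKer m A) ≃+* (R ⧸ m) ⊗[R] A :=
    RingHom.quotientKerEquivOfSurjective (resHom_surjective m A)
  exact e.symm.isArtinianRing

end PartB

section PartC
variable {R : Type u} [CommRing R] (m : Ideal R) (A : Type v) [Ring A] [Algebra R A]
variable (M : Type w) [AddCommGroup M] [Module A M] [Module R M] [IsScalarTower R A M]

/-- reduction of an `A`-module modulo `m` -/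
abbrev RedMod := M ⧸ (resKer m A • ⊤ : Submodule A M)

instance redMod_tower : IsScalarTower A (A ⧸ resKer m A) (RedMod m A M) :=
  (Module.isTorsionBySet_quotient_ideal_smul M (resKer m A)).isScalarTower

instance redMod_finite [Module.Finite A M] : Module.Finite (A ⧸ resKer m A) (RedMod m A M) :=
  Module.Finite.of_restrictScalars_finite A _ _

lemma resKer_smul_top_eq :
    ((resKer m A • ⊤ : Submodule A M).restrictScalars R) = (m • ⊤ : Submodule R M) := by
  apply le_antisymm
  · intro z hz
    rw [Submodule.restrictScalars_mem] at hz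
    refine Submodule.smul_induction_on hz ?_ ?_
    · intro x hx z _
      exact smul_mem_of_mem_resKer m A hx z
    · intro a b ha hb
      exact Submodule.add_mem _ ha hb
  · intro z hz
    rw [Submodule.restrictScalars_mem]
    refine Submodule.smul_induction_on hz ?_ ?_
    · intro r hr z _
      rw [← algebraMap_smul A r z]
      exact Submodule.smul_mem_smul (algebraMap_mem_resKer m A hr) Submodule.mem_top
    · intro a b ha hb
      exact Submodule.add_mem _ ha hb

/-- `R`-linear identification with `(R/m) ⊗ M` -/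
noncomputable def redModEquiv : RedMod m A M ≃ₗ[R] (R ⧸ m) ⊗[R] M :=
  ((Submodule.Quotient.restrictScalarsEquiv R (resKer m A • ⊤ : Submodule A M)).symm.trans
    (Submodule.quotEquivOfEq _ _ (resKer_smul_top_eq m A M))).trans
    (TensorProduct.quotTensorEquivQuotSMul M m).symm

lemma length_redMod [hm : m.IsMaximal] [Module.Finite R M] [Module.Projective R M] :
    Module.length R (RedMod m A M) = (Module.rankAtStalk M ⟨m, hm.isPrime⟩ : ℕ∞) := by
  letI := Ideal.Quotient.field m
  rw [(redModEquiv m A M).length_eq,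
    Module.length_eq_of_surjective (S := R) (R := R ⧸ m) Ideal.Quotient.mk_surjective,
    Module.length_eq_finrank]
  congr 1
  have h1 := Module.rankAtStalk_baseChange (R := R) (M := M) (S := R ⧸ m)
    (⊥ : PrimeSpectrum (R ⧸ m))
  have h2 := congrFun (Module.rankAtStalk_eq_finrank_of_free (R := R ⧸ m)
    (M := (R ⧸ m) ⊗[R] M)) (⊥ : PrimeSpectrum (R ⧸ m))
  rw [h1] at h2
  rw [Pi.natCast_apply, Nat.cast_id] at h2
  rw [← h2]
  congr 1
  apply PrimeSpectrum.ext
  show Ideal.comap (algebraMap R (R ⧸ m)) ⊥ = m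
  rw [← RingHom.ker_eq_comap_bot]
  exact Ideal.mk_ker

end PartC

section PartD

lemma projective_trans (R : Type u) [CommRing R] (A : Type v) [Ring A] [Algebra R A]
    [Module.Projective R A] (M : Type w) [AddCommGroup M] [Module A M] [Module R M]
    [IsScalarTower R A M] [Module.Finite A M] [Module.Projective A M] :
    Module.Projective R M := by
  obtain ⟨n, p, i, hp, hi, hpi⟩ := Module.Finite.exists_comp_eq_id_of_projective A M
  haveI : Module.Projective R (Fin n → A) :=
    Module.Projective.of_equiv (DFinsupp.linearEquivFunOnFintype (R := R) (ι := Fin n)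
      (M := fun _ => A))
  exact Module.Projective.of_split (i.restrictScalars R) (p.restrictScalars R)
    (by ext x; exact LinearMap.congr_fun hpi x)

variable {R : Type u} [CommRing R] (m : Ideal R) [hm : m.IsMaximal] (A : Type v) [Ring A]
  [Algebra R A] [IsAzumaya R A]

theorem local_split
    (M N : Type w) [AddCommGroup M] [Module A M] [Module R M] [IsScalarTower R A M]
    [Module.Finite A M] [Module.Projective A M]
    [AddCommGroup N] [Module A N] [Module R N] [IsScalarTower R A N]
    [Module.Finite A N] [Module.Projective A N]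
    (h : Module.rankAtStalk N ⟨m, hm.isPrime⟩ ≤ Module.rankAtStalk M ⟨m, hm.isPrime⟩) :
    ∃ (f : M →ₗ[A] N) (g : N →ₗ[A] M), ∀ z : N, f (g z) - z ∈ m • (⊤ : Submodule R N) := by
  haveI : Module.Finite R M := Module.Finite.trans A M
  haveI : Module.Finite R N := Module.Finite.trans A N
  haveI : Module.Projective R M := projective_trans R A M
  haveI : Module.Projective R N := projective_trans R A N
  haveI := isSimpleRing_quot m A
  haveI := isArtinianRing_quot m A
  rcases simpleArtinian_dichotomy (B := A ⧸ resKer m A) (RedMod m A M) (RedMod m A N) with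
    ⟨fb, gb, hfg⟩ | ⟨j, hj, hnj⟩
  · -- lift
    let qM : M →ₗ[A] RedMod m A M := (resKer m A • ⊤ : Submodule A M).mkQ
    let qN : N →ₗ[A] RedMod m A N := (resKer m A • ⊤ : Submodule A N).mkQ
    have hqM : Function.Surjective qM := Submodule.mkQ_surjective _
    have hqN : Function.Surjective qN := Submodule.mkQ_surjective _
    obtain ⟨F, hF⟩ := Module.projective_lifting_property qN
      ((fb.restrictScalars A) ∘ₗ qM) hqN
    obtain ⟨G, hG⟩ := Module.projective_lifting_property qM
      ((gb.restrictScalars A) ∘ₗ qN) hqM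
    refine ⟨F, G, fun z => ?_⟩
    have h1 : qN (F (G z)) = qN z := by
      have e1 := LinearMap.congr_fun hF (G z)
      have e2 := LinearMap.congr_fun hG z
      simp only [LinearMap.comp_apply, LinearMap.restrictScalars_apply] at e1 e2
      rw [e1, e2, hfg]
    have h2 : F (G z) - z ∈ (resKer m A • ⊤ : Submodule A N) := by
      rw [← Submodule.Quotient.mk_eq_zero, Submodule.Quotient.mk_sub, sub_eq_zero]
      exact h1
    rw [← resKer_smul_top_eq m A N, Submodule.restrictScalars_mem]
    exact h2
  · exfalso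
    apply hnj
    let j' : RedMod m A M →ₗ[R] RedMod m A N := (j.restrictScalars A).restrictScalars R
    have hj' : Function.Injective j' := hj
    have hlen := Module.length_eq_add_of_exact j' (LinearMap.range j').mkQ hj'
      (Submodule.mkQ_surjective _) (LinearMap.exact_map_mkQ_range j')
    rw [length_redMod m A M, length_redMod m A N] at hlen
    have hc : Module.length R (RedMod m A N ⧸ LinearMap.range j') = 0 := by
      generalize Module.length R (RedMod m A N ⧸ LinearMap.range j') = c at hlen
      cases c with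
      | top => simp at hlen
      | coe c =>
        have : Module.rankAtStalk N ⟨m, hm.isPrime⟩ = Module.rankAtStalk M ⟨m, hm.isPrime⟩ + c := by
          exact_mod_cast hlen
        have : c = 0 := by omega
        rw [this]; rfl
    rw [Module.length_eq_zero_iff, Submodule.Quotient.subsingleton_iff,
      LinearMap.range_eq_top] at hc
    exact hc

end PartD

section PartE
variable {R : Type u} [CommRing R] {N : Type w} [AddCommGroup N] [Module R N] {n : ℕ}
  (p : (Fin n → R) →ₗ[R] N) (i : N →ₗ[R] (Fin n → R))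

/-- test matrix of an endomorphism of a direct summand of `R^n` -/
noncomputable def testMat (φ : N →ₗ[R] N) : Matrix (Fin n) (Fin n) R :=
  LinearMap.toMatrix' (i ∘ₗ φ ∘ₗ p) + 1 - LinearMap.toMatrix' (i ∘ₗ p)

lemma testMat_apply (φ : N →ₗ[R] N) (j l : Fin n) :
    testMat p i φ j l = i (φ (p (Pi.single l 1))) j + ((1 : Matrix (Fin n) (Fin n) R) j l
      - i (p (Pi.single l 1)) j) := by
  unfold testMat
  rw [Matrix.sub_apply, Matrix.add_apply, LinearMap.toMatrix'_apply, LinearMap.toMatrix'_apply,
    add_sub_assoc]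
  rfl

lemma testMat_mulVec (φ : N →ₗ[R] N) (v : Fin n → R) :
    (testMat p i φ).mulVec v = i (φ (p v)) + (v - i (p v)) := by
  have h1 : Matrix.toLin' (testMat p i φ) = i ∘ₗ φ ∘ₗ p + (LinearMap.id - i ∘ₗ p) := by
    unfold testMat
    rw [add_sub_assoc, map_add, map_sub, Matrix.toLin'_toMatrix', Matrix.toLin'_toMatrix',
      Matrix.toLin'_one]
  have := congrArg (fun f => f v) h1
  simpa using this

variable {p i}

theorem bijective_of_isUnit_det_testMat (hpi : ∀ x, p (i x) = x) (φ : N →ₗ[R] N)
    (hdet : IsUnit (testMat p i φ).det) : Function.Bijective φ := by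
  set T := testMat p i φ with hT
  have hTinj : ∀ v, T.mulVec v = 0 → v = 0 := by
    intro v hv
    have := congrArg (fun w => (T⁻¹).mulVec w) hv
    simp only [Matrix.mulVec_mulVec, Matrix.nonsing_inv_mul T hdet, Matrix.one_mulVec,
      Matrix.mulVec_zero] at this
    exact this
  constructor
  · rw [injective_iff_map_eq_zero]
    intro x hx
    have h1 : T.mulVec (i x) = 0 := by
      rw [hT, testMat_mulVec, hpi, hx, map_zero, sub_self, add_zero]
    have h2 := hTinj _ h1
    rw [← hpi x, h2, map_zero]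
  · intro y
    refine ⟨p ((T⁻¹).mulVec (i y)), ?_⟩
    have h1 : T.mulVec ((T⁻¹).mulVec (i y)) = i y := by
      rw [Matrix.mulVec_mulVec, Matrix.mul_nonsing_inv T hdet, Matrix.one_mulVec]
    rw [hT, testMat_mulVec] at h1
    have h2 := congrArg p h1
    rw [map_add, map_sub, hpi, hpi, sub_self, add_zero, hpi] at h2
    exact h2

theorem det_testMat_sub_one_mem (m : Ideal R) (φ : N →ₗ[R] N)
    (hφ : ∀ z, φ z - z ∈ m • (⊤ : Submodule R N)) : (testMat p i φ).det - 1 ∈ m := by
  have hi : ∀ w ∈ m • (⊤ : Submodule R N), ∀ j, i w j ∈ m := by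
    intro w hw j
    refine Submodule.smul_induction_on hw ?_ ?_
    · intro r hr z _
      rw [map_smul, Pi.smul_apply, smul_eq_mul]
      exact Ideal.mul_mem_right _ _ hr
    · intro a b ha hb
      rw [map_add, Pi.add_apply]
      exact Ideal.add_mem _ ha hb
  have hmap : (Ideal.Quotient.mk m).mapMatrix (testMat p i φ) = 1 := by
    ext j l
    rw [RingHom.mapMatrix_apply, Matrix.map_apply, testMat_apply]
    have h1 : i (φ (p (Pi.single l 1))) j + ((1 : Matrix (Fin n) (Fin n) R) j l
        - i (p (Pi.single l 1)) j) = (1 : Matrix (Fin n) (Fin n) R) j l +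
          i (φ (p (Pi.single l 1)) - p (Pi.single l 1)) j := by
      rw [map_sub, Pi.sub_apply]; ring
    rw [h1, map_add, Ideal.Quotient.eq_zero_iff_mem.mpr (hi _ (hφ _) j), add_zero]
    by_cases hjl : j = l
    · subst hjl; simp
    · simp [Matrix.one_apply_ne hjl]
  rw [← Ideal.Quotient.eq_zero_iff_mem, map_sub, map_one, RingHom.map_det, hmap, Matrix.det_one,
    sub_self]

end PartE

section PartE2
variable {R : Type u} [CommRing R] {M : Type v} [AddCommGroup M] [Module R M]
  {N : Type w} [AddCommGroup N] [Module R N]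
  {ι κ : Type} [Fintype ι] [Fintype κ]
  (U : ι → (M →ₗ[R] N)) (V : κ → (N →ₗ[R] M))

/-- the endomorphism of `N` attached to a parameter -/
def paramEnd (x : ι ⊕ κ → R) : N →ₗ[R] N :=
  (∑ a, x (Sum.inl a) • U a) ∘ₗ (∑ b, x (Sum.inr b) • V b)

lemma paramEnd_apply (x : ι ⊕ κ → R) (z : N) :
    paramEnd U V x z = ∑ a, ∑ b, (x (Sum.inl a) * x (Sum.inr b)) • U a (V b z) := by
  unfold paramEnd
  simp only [LinearMap.comp_apply, LinearMap.sum_apply, LinearMap.smul_apply, map_sum, map_smul,
    Finset.smul_sum, smul_smul]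
  rw [Finset.sum_comm]
  refine Finset.sum_congr rfl fun a _ => Finset.sum_congr rfl fun b _ => ?_
  rw [mul_comm]

variable {n : ℕ} (p : (Fin n → R) →ₗ[R] N) (i : N →ₗ[R] (Fin n → R))

/-- the test polynomial -/
noncomputable def testPoly : MvPolynomial (ι ⊕ κ) R :=
  Matrix.det (Matrix.of fun j l => ∑ a, ∑ b, X (Sum.inl a) * X (Sum.inr b) *
    C (i (U a (V b (p (Pi.single l 1)))) j) +
    C ((1 : Matrix (Fin n) (Fin n) R) j l - i (p (Pi.single l 1)) j))

lemma aeval_testPoly (x : ι ⊕ κ → R) :
    aeval x (testPoly U V p i) = (testMat p i (paramEnd U V x)).det := by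
  unfold testPoly
  rw [AlgHom.map_det]
  congr 1
  ext j l
  rw [testMat_apply, paramEnd_apply]
  simp [AlgHom.mapMatrix_apply, Matrix.map_apply, Matrix.of_apply, map_sum, map_mul,
    Finset.sum_apply]

theorem exists_bijective_paramEnd (hR : LGRing.IsLGRing R) [Module.Finite R N]
    [Module.Projective R N]
    (hloc : ∀ (m : Ideal R) [m.IsMaximal], ∃ x : ι ⊕ κ → R,
      ∀ z : N, paramEnd U V x z - z ∈ m • (⊤ : Submodule R N)) :
    ∃ x : ι ⊕ κ → R, Function.Bijective (paramEnd U V x) := by
  classical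
  obtain ⟨n, p, i, hp, hi, hpi⟩ := Module.Finite.exists_comp_eq_id_of_projective R N
  have hpi' : ∀ x, p (i x) = x := fun x => LinearMap.congr_fun hpi x
  have hres : ∀ (m : Ideal R) [m.IsMaximal], LGRing.RepresentsUnit (testPoly U V p i) (R ⧸ m) := by
    intro m hm
    obtain ⟨x, hx⟩ := hloc m
    refine ⟨algebraMap R (R ⧸ m) ∘ x, ?_⟩
    rw [MvPolynomial.aeval_algebraMap_apply, aeval_testPoly]
    have h1 := det_testMat_sub_one_mem (p := p) (i := i) m (paramEnd U V x) hx
    rw [← Ideal.Quotient.eq_zero_iff_mem, map_sub, map_one, sub_eq_zero] at h1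
    rw [Ideal.Quotient.algebraMap_eq, h1]
    exact isUnit_one
  obtain ⟨s, hs⟩ := Groth.Agent.S16597.of_fintype hR _ hres
  rw [aeval_testPoly] at hs
  exact ⟨s, bijective_of_isUnit_det_testMat hpi' _ hs⟩

end PartE2

section PartF
variable {R : Type u} [CommRing R] {A : Type v} [Ring A] [Algebra R A]

/-- finite generating family of `Hom_A(M, N)` over `R` -/
theorem exists_hom_generators (R : Type u) [CommRing R] {A : Type v} [Ring A] [Algebra R A]
    (M : Type w) [AddCommGroup M] [Module A M] [Module R M] [IsScalarTower R A M]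
    (N : Type w) [AddCommGroup N] [Module A N] [Module R N] [IsScalarTower R A N]
    [Module.Finite A M] [Module.Projective A M] [Module.Finite R N] :
    ∃ (ι : Type) (_ : Fintype ι) (u : ι → (M →ₗ[A] N)),
      ∀ f : M →ₗ[A] N, ∃ r : ι → R, ∀ z, f z = ∑ k, r k • u k z := by
  classical
  obtain ⟨a, pM, iM, _, _, hpi⟩ := Module.Finite.exists_comp_eq_id_of_projective A M
  have hpi' : ∀ x, pM (iM x) = x := fun x => LinearMap.congr_fun hpi x
  obtain ⟨c, nn, hnn⟩ := Module.Finite.exists_fin (R := R) (M := N)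
  refine ⟨Fin a × Fin c, inferInstance,
    fun lc => (LinearMap.toSpanSingleton A N (nn lc.2)) ∘ₗ (LinearMap.proj lc.1) ∘ₗ iM, ?_⟩
  intro f
  have hex : ∀ l : Fin a, ∃ r : Fin c → R, ∑ k, r k • nn k = f (pM (Pi.single l 1)) := by
    intro l
    have : f (pM (Pi.single l 1)) ∈ Submodule.span R (Set.range nn) := by
      rw [hnn]; exact Submodule.mem_top
    exact (Submodule.mem_span_range_iff_exists_fun R).mp this
  choose r hr using hex
  refine ⟨fun lc => r lc.1 lc.2, fun z => ?_⟩
  have h1 : iM z = ∑ l, (iM z) l • (Pi.single l 1 : Fin a → A) := by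
    funext k
    simp [Finset.sum_apply, Pi.single_apply]
  conv_lhs => rw [← hpi' z, h1]
  rw [map_sum, map_sum, Fintype.sum_prod_type]
  refine Finset.sum_congr rfl fun l _ => ?_
  rw [map_smul, map_smul, ← hr l, Finset.smul_sum]
  refine Finset.sum_congr rfl fun k _ => ?_
  simp only [LinearMap.comp_apply, LinearMap.proj_apply, LinearMap.toSpanSingleton_apply]
  rw [smul_comm]

variable [IsAzumaya R A]
  {M : Type w} [AddCommGroup M] [Module A M] [Module R M] [IsScalarTower R A M]
  [Module.Finite A M] [Module.Projective A M]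
  {N : Type w} [AddCommGroup N] [Module A N] [Module R N] [IsScalarTower R A N]
  [Module.Finite A N] [Module.Projective A N]

lemma sum_restrict_apply {ι : Type} [Fintype ι] (u : ι → (M →ₗ[A] N)) (r : ι → R) (z : M) :
    (∑ a, r a • (u a).restrictScalars R) z = ∑ a, r a • u a z := by
  simp [LinearMap.sum_apply]

lemma sum_apply' {ι : Type} [Fintype ι] (u : ι → (M →ₗ[A] N)) (r : ι → R) (z : M) :
    (∑ a, r a • u a) z = ∑ a, r a • u a z := by
  simp [LinearMap.sum_apply]

/-- over an LG ring, rank inequality gives a split surjection of projective modules over an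
Azumaya algebra -/
theorem exists_comp_bijective (hR : LGRing.IsLGRing R)
    (h : ∀ (m : Ideal R) [hm : m.IsMaximal],
      Module.rankAtStalk N ⟨m, hm.isPrime⟩ ≤ Module.rankAtStalk M ⟨m, hm.isPrime⟩) :
    ∃ (f : M →ₗ[A] N) (g : N →ₗ[A] M), Function.Bijective (f ∘ₗ g) := by
  haveI : Module.Finite R M := Module.Finite.trans A M
  haveI : Module.Finite R N := Module.Finite.trans A N
  haveI : Module.Projective R N := projective_trans R A N
  obtain ⟨ι, _, u, hu⟩ := exists_hom_generators R (A := A) M N
  obtain ⟨κ, _, v, hv⟩ := exists_hom_generators R (A := A) N M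
  let U : ι → (M →ₗ[R] N) := fun a => (u a).restrictScalars R
  let V : κ → (N →ₗ[R] M) := fun b => (v b).restrictScalars R
  have key : ∀ (x : ι ⊕ κ → R) (z : N), paramEnd U V x z =
      (∑ a, x (Sum.inl a) • u a) ((∑ b, x (Sum.inr b) • v b) z) := by
    intro x z
    unfold paramEnd
    rw [LinearMap.comp_apply, sum_restrict_apply, sum_restrict_apply, sum_apply', sum_apply']
  have hloc : ∀ (m : Ideal R) [m.IsMaximal], ∃ x : ι ⊕ κ → R,
      ∀ z : N, paramEnd U V x z - z ∈ m • (⊤ : Submodule R N) := by
    intro m hm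
    obtain ⟨f, g, hfg⟩ := local_split m A M N (h m)
    obtain ⟨r, hr⟩ := hu f
    obtain ⟨s, hs⟩ := hv g
    refine ⟨Sum.elim r s, fun z => ?_⟩
    rw [key]
    simp only [Sum.elim_inl, Sum.elim_inr]
    rw [sum_apply', sum_apply', ← hs z, ← hr]
    exact hfg z
  obtain ⟨x, hx⟩ := exists_bijective_paramEnd U V hR hloc
  refine ⟨∑ a, x (Sum.inl a) • u a, ∑ b, x (Sum.inr b) • v b, ?_⟩
  have : (⇑((∑ a, x (Sum.inl a) • u a) ∘ₗ (∑ b, x (Sum.inr b) • v b)) : N → N) =
      ⇑(paramEnd U V x) := by
    funext z
    rw [key]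
    rfl
  rw [this]
  exact hx

/-- the surjection version, with a section -/
theorem exists_surjective_section (hR : LGRing.IsLGRing R)
    (h : ∀ (m : Ideal R) [hm : m.IsMaximal],
      Module.rankAtStalk N ⟨m, hm.isPrime⟩ ≤ Module.rankAtStalk M ⟨m, hm.isPrime⟩) :
    ∃ (f : M →ₗ[A] N) (g : N →ₗ[A] M), ∀ z, f (g z) = z := by
  obtain ⟨f, g, hfg⟩ := exists_comp_bijective (A := A) (M := M) (N := N) hR h
  let e : N ≃ₗ[A] N := LinearEquiv.ofBijective (f ∘ₗ g) hfg
  refine ⟨f, g ∘ₗ e.symm.toLinearMap, fun z => ?_⟩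
  have : f (g (e.symm z)) = e (e.symm z) := rfl
  rw [LinearMap.comp_apply, LinearEquiv.coe_coe, this, LinearEquiv.apply_symm_apply]

end PartF

end Groth.Agent.Lib.R2Lead.LGAzumaya
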