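import Mathlib
import Groth.Agent.Lib.R2LeadLGAzumaya
import Groth.Agent.Lib.Helper22LGProj
import Groth.Agent.S16598
import Groth.Agent.S19587
import Groth.Agent.S19589

/-! # Cancellation for Azumaya algebras over LG-rings (lead, round 2)

* `nonempty_linearEquiv_of_rank_eq`: projective modules over an Azumaya algebra over an LG ring with
  equal `R`-rank functions are isomorphic.
* `exists_unit_conj_of_rank`: idempotents `e, e'` of an Azumaya algebra `S` with
  `rank (S e) = rank (S e')` are conjugate.
* `corner_algEquiv`: the corner algebras are then isomorphic.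
* `algEquiv_of_tensor_end`: `A ⊗ End P ≅ B ⊗ End Q`, `deg A = deg B` imply `A ≅ B`.
-/

set_option autoImplicit false
set_option linter.style.haveILetI false
set_option linter.unusedSectionVars false
universe u v w

namespace Groth.Agent.Lib.R2Lead.LGCorner
open TensorProduct

section Iso
variable {R : Type u} [CommRing R] {A : Type v} [Ring A] [Algebra R A] [IsAzumaya R A]
  {M : Type w} [AddCommGroup M] [Module A M] [Module R M] [IsScalarTower R A M]
  [Module.Finite A M] [Module.Projective A M]
  {N : Type w} [AddCommGroup N] [Module A N] [Module R N] [IsScalarTower R A N]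
  [Module.Finite A N] [Module.Projective A N]

/-- over an LG ring, projective modules over an Azumaya algebra with the same `R`-rank function
are isomorphic -/
theorem nonempty_linearEquiv_of_rank_eq (hR : LGRing.IsLGRing R)
    (h : ∀ q : PrimeSpectrum R, Module.rankAtStalk N q = Module.rankAtStalk M q) :
    Nonempty (N ≃ₗ[A] M) := by
  haveI : Module.Finite R M := Module.Finite.trans A M
  haveI : Module.Finite R N := Module.Finite.trans A N
  haveI : Module.Projective R M := LGAzumaya.projective_trans R A M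
  haveI : Module.Projective R N := LGAzumaya.projective_trans R A N
  obtain ⟨f, g, hfg⟩ := LGAzumaya.exists_surjective_section (A := A) (M := M) (N := N) hR
    (fun m hm => (h ⟨m, hm.isPrime⟩).le)
  have hb := Groth.Agent.Lib.Helper22.LGProj.bijective_of_split_of_rank
    (g.restrictScalars R) (f.restrictScalars R) hfg h
  exact ⟨LinearEquiv.ofBijective g hb⟩

end Iso

section LeftIdeal
variable {S : Type v} [Ring S]

/-- the left ideal `S e` -/
def L (e : S) : Submodule S S := LinearMap.range (LinearMap.toSpanSingleton S S e)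

lemma mem_L_iff {e : S} (he : IsIdempotentElem e) {x : S} : x ∈ L e ↔ x * e = x := by
  constructor
  · rintro ⟨y, rfl⟩
    simp only [LinearMap.toSpanSingleton_apply, smul_eq_mul]
    rw [mul_assoc, he.eq]
  · intro h
    exact ⟨x, by simpa using h⟩

lemma mul_mem_L (e x : S) : x * e ∈ L e := ⟨x, by simp⟩

lemma mul_compl_eq_zero {e : S} (he : IsIdempotentElem e) {x : S} (hx : x ∈ L (1 - e)) :
    x * e = 0 := by
  have h := (mem_L_iff he.one_sub).mp hx
  rw [mul_sub, mul_one, sub_eq_self] at h
  exact h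

/-- retraction `S → S e` -/
def retr (e : S) : S →ₗ[S] L e :=
  (LinearMap.toSpanSingleton S S e).codRestrict (L e) (fun x => ⟨x, rfl⟩)

lemma retr_apply (e x : S) : ((retr e x : L e) : S) = x * e := rfl

instance (e : S) : Module.Finite S (L e) := by
  unfold L; infer_instance

lemma projective_L {e : S} (he : IsIdempotentElem e) : Module.Projective S (L e) := by
  refine Module.Projective.of_split (L e).subtype (retr e) ?_
  ext x
  rw [LinearMap.comp_apply, retr_apply, Submodule.subtype_apply, (mem_L_iff he).mp x.2]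
  rfl

/-- conjugacy of idempotents from isomorphisms of the left ideals -/
theorem exists_unit_conj {e e' : S} (he : IsIdempotentElem e) (he' : IsIdempotentElem e')
    (α : L e ≃ₗ[S] L e') (β : L (1 - e) ≃ₗ[S] L (1 - e')) :
    ∃ w : Sˣ, e * (w : S) = (w : S) * e' := by
  let W : S →ₗ[S] S := (L e').subtype ∘ₗ α.toLinearMap ∘ₗ retr e +
    (L (1 - e')).subtype ∘ₗ β.toLinearMap ∘ₗ retr (1 - e)
  let W' : S →ₗ[S] S := (L e).subtype ∘ₗ α.symm.toLinearMap ∘ₗ retr e' +
    (L (1 - e)).subtype ∘ₗ β.symm.toLinearMap ∘ₗ retr (1 - e')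
  have hW : ∀ x, W x = (α (retr e x) : S) + (β (retr (1 - e) x) : S) := fun x => rfl
  have hW' : ∀ x, W' x = (α.symm (retr e' x) : S) + (β.symm (retr (1 - e') x) : S) := fun x => rfl
  -- general computation
  have key : ∀ {e e' : S} (he : IsIdempotentElem e) (he' : IsIdempotentElem e')
      (α : L e ≃ₗ[S] L e') (β : L (1 - e) ≃ₗ[S] L (1 - e')) (x : S),
      (α.symm (retr e' ((α (retr e x) : S) + (β (retr (1 - e) x) : S))) : S) = x * e := by
    intro e e' he he' α β x
    have h1 : retr e' ((α (retr e x) : S) + (β (retr (1 - e) x) : S)) = α (retr e x) := by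
      apply Subtype.ext
      rw [retr_apply, add_mul, (mem_L_iff he').mp (α (retr e x)).2,
        mul_compl_eq_zero he' (β (retr (1 - e) x)).2, add_zero]
    rw [h1, LinearEquiv.symm_apply_apply, retr_apply]
  have key2 : ∀ {e e' : S} (he : IsIdempotentElem e) (he' : IsIdempotentElem e')
      (α : L e ≃ₗ[S] L e') (β : L (1 - e) ≃ₗ[S] L (1 - e')) (x : S),
      (β.symm (retr (1 - e') ((α (retr e x) : S) + (β (retr (1 - e) x) : S))) : S)
        = x * (1 - e) := by
    intro e e' he he' α β x
    have h1 : retr (1 - e') ((α (retr e x) : S) + (β (retr (1 - e) x) : S)) =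
        β (retr (1 - e) x) := by
      apply Subtype.ext
      rw [retr_apply, add_mul, (mem_L_iff he'.one_sub).mp (β (retr (1 - e) x)).2]
      have : (α (retr e x) : S) * (1 - e') = 0 := by
        rw [mul_sub, mul_one, (mem_L_iff he').mp (α (retr e x)).2, sub_self]
      rw [this, zero_add]
    rw [h1, LinearEquiv.symm_apply_apply, retr_apply]
  have hW'W : ∀ x, W' (W x) = x := by
    intro x
    rw [hW', hW, key he he' α β x, key2 he he' α β x, ← mul_add, add_sub_cancel, mul_one]
  have hWW' : ∀ x, W (W' x) = x := by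
    intro x
    rw [hW, hW']
    have k1 := key he' he α.symm β.symm x
    have k2 := key2 he' he α.symm β.symm x
    simp only [LinearEquiv.symm_symm] at k1 k2
    rw [k1, k2, ← mul_add, add_sub_cancel, mul_one]
  have hlin : ∀ x, W x = x * W 1 := fun x => by
    rw [← smul_eq_mul, ← map_smul, smul_eq_mul, mul_one]
  have hlin' : ∀ x, W' x = x * W' 1 := fun x => by
    rw [← smul_eq_mul, ← map_smul, smul_eq_mul, mul_one]
  have h1 : W 1 * W' 1 = 1 := by rw [← hlin', hW'W]
  have h2 : W' 1 * W 1 = 1 := by rw [← hlin, hWW']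
  refine ⟨⟨W 1, W' 1, h1, h2⟩, ?_⟩
  show e * W 1 = W 1 * e'
  rw [← hlin e, hW 1, hW e, add_mul]
  have h3 : retr (1 - e) e = 0 := by
    apply Subtype.ext
    rw [retr_apply, mul_sub, mul_one, he.eq, sub_self]
    rfl
  have h4 : retr e e = retr e 1 := by
    apply Subtype.ext
    rw [retr_apply, retr_apply, he.eq, one_mul]
  rw [h3, map_zero, Submodule.coe_zero, add_zero, h4, (mem_L_iff he').mp (α (retr e 1)).2,
    mul_compl_eq_zero he' (β (retr (1 - e) 1)).2, add_zero]

end LeftIdeal

section Corner
variable {R : Type u} [CommRing R] {S : Type v} [Ring S] [Algebra R S]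

/-- `S ≃ S e × S (1 - e)` -/
def splitEquiv {e : S} (he : IsIdempotentElem e) : S ≃ₗ[S] (L e × L (1 - e)) :=
  LinearEquiv.ofLinear ((retr e).prod (retr (1 - e)))
    ((L e).subtype.coprod (L (1 - e)).subtype)
    (by
      apply LinearMap.ext
      rintro ⟨a, b⟩
      apply Prod.ext
      · apply Subtype.ext
        show ((retr e ((a : S) + (b : S)) : L e) : S) = a
        rw [retr_apply, add_mul, (mem_L_iff he).mp a.2, mul_compl_eq_zero he b.2, add_zero]
      · apply Subtype.ext
        show ((retr (1 - e) ((a : S) + (b : S)) : L (1 - e)) : S) = b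
        rw [retr_apply, add_mul, (mem_L_iff he.one_sub).mp b.2]
        have : (a : S) * (1 - e) = 0 := by
          rw [mul_sub, mul_one, (mem_L_iff he).mp a.2, sub_self]
        rw [this, zero_add])
    (by
      apply LinearMap.ext
      intro x
      show ((retr e x : L e) : S) + ((retr (1 - e) x : L (1 - e)) : S) = x
      rw [retr_apply, retr_apply, ← mul_add, add_sub_cancel, mul_one])

variable [IsAzumaya R S]

lemma finite_L (e : S) : Module.Finite R (L e) := Module.Finite.trans S (L e)

lemma projectiveR_L {e : S} (he : IsIdempotentElem e) : Module.Projective R (L e) := by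
  haveI := projective_L he
  exact LGAzumaya.projective_trans R S (L e)

lemma rank_L_add {e : S} (he : IsIdempotentElem e) (q : PrimeSpectrum R) :
    Module.rankAtStalk (R := R) (L e) q + Module.rankAtStalk (R := R) (L (1 - e)) q =
      Module.rankAtStalk (R := R) S q := by
  haveI := finite_L (R := R) e
  haveI := finite_L (R := R) (1 - e)
  haveI := projectiveR_L (R := R) he
  haveI := projectiveR_L (R := R) he.one_sub
  have h1 := congrFun (Module.rankAtStalk_eq_of_equiv ((splitEquiv he).restrictScalars R)) q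
  rw [Module.rankAtStalk_prod, Pi.add_apply] at h1
  exact h1.symm

theorem exists_unit_conj_of_rank (hR : LGRing.IsLGRing R) {e e' : S} (he : IsIdempotentElem e)
    (he' : IsIdempotentElem e')
    (hrk : ∀ q : PrimeSpectrum R, Module.rankAtStalk (R := R) (L e) q =
      Module.rankAtStalk (R := R) (L e') q) :
    ∃ w : Sˣ, e * (w : S) = (w : S) * e' := by
  haveI := projective_L he
  haveI := projective_L he'
  haveI := projective_L he.one_sub
  haveI := projective_L he'.one_sub
  obtain ⟨α⟩ := nonempty_linearEquiv_of_rank_eq (A := S) (M := L e') (N := L e) hR hrk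
  have hrk' : ∀ q : PrimeSpectrum R, Module.rankAtStalk (R := R) (L (1 - e)) q =
      Module.rankAtStalk (R := R) (L (1 - e')) q := by
    intro q
    have h1 := rank_L_add (R := R) he q
    have h2 := rank_L_add (R := R) he' q
    have h3 := hrk q
    omega
  obtain ⟨β⟩ := nonempty_linearEquiv_of_rank_eq (A := S) (M := L (1 - e')) (N := L (1 - e)) hR hrk'
  exact exists_unit_conj he he' α β

/-- two algebras embedded as corners `e S e`, `e' S e'` of an Azumaya algebra over an LG ring
with `rank (S e) = rank (S e')` are isomorphic -/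
theorem corner_algEquiv (hR : LGRing.IsLGRing R) {A : Type*} [Ring A] [Algebra R A]
    {B : Type*} [Ring B] [Algebra R B] (ιA : A →ₗ[R] S) (ιB : B →ₗ[R] S)
    (hmA : ∀ a a', ιA (a * a') = ιA a * ιA a') (hmB : ∀ b b', ιB (b * b') = ιB b * ιB b')
    (hiA : Function.Injective ιA) (hiB : Function.Injective ιB)
    (hcA : ∀ x, ιA 1 * x * ιA 1 ∈ LinearMap.range ιA)
    (hcB : ∀ x, ιB 1 * x * ιB 1 ∈ LinearMap.range ιB)
    (hrk : ∀ q : PrimeSpectrum R, Module.rankAtStalk (R := R) (L (ιA 1)) q =
      Module.rankAtStalk (R := R) (L (ιB 1)) q) :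
    Nonempty (A ≃ₐ[R] B) := by
  have he : IsIdempotentElem (ιA 1) := by
    show ιA 1 * ιA 1 = ιA 1
    rw [← hmA, mul_one]
  have he' : IsIdempotentElem (ιB 1) := by
    show ιB 1 * ιB 1 = ιB 1
    rw [← hmB, mul_one]
  obtain ⟨w, hw⟩ := exists_unit_conj_of_rank hR he he' hrk
  set e := ιA 1 with he_def
  set e' := ιB 1 with he'_def
  have hw' : (↑w⁻¹ : S) * e = e' * (↑w⁻¹ : S) := by
    have : (↑w⁻¹ : S) * (e * w) * (↑w⁻¹ : S) = (↑w⁻¹ : S) * (w * e') * (↑w⁻¹ : S) := by rw [hw]
    simpa [mul_assoc] using this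
  have heA : ∀ a, e * ιA a = ιA a := fun a => by rw [he_def, ← hmA, one_mul]
  have hAe : ∀ a, ιA a * e = ιA a := fun a => by rw [he_def, ← hmA, mul_one]
  have heB : ∀ b, e' * ιB b = ιB b := fun b => by rw [he'_def, ← hmB, one_mul]
  have hBe : ∀ b, ιB b * e' = ιB b := fun b => by rw [he'_def, ← hmB, mul_one]
  have hex : ∀ a : A, ∃ b : B, ιB b = (↑w⁻¹ : S) * ιA a * w := by
    intro a
    obtain ⟨b, hb⟩ := hcB ((↑w⁻¹ : S) * ιA a * w)
    refine ⟨b, ?_⟩
    rw [hb]
    calc e' * ((↑w⁻¹ : S) * ιA a * w) * e' = (e' * (↑w⁻¹ : S)) * ιA a * (w * e') := by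
          simp only [mul_assoc]
      _ = (↑w⁻¹ : S) * (e * ιA a * e) * w := by rw [← hw', ← hw]; simp only [mul_assoc]
      _ = (↑w⁻¹ : S) * ιA a * w := by rw [heA, hAe]
  choose ψ hψ using hex
  have hex' : ∀ b : B, ∃ a : A, ιA a = (w : S) * ιB b * (↑w⁻¹ : S) := by
    intro b
    obtain ⟨a, ha⟩ := hcA ((w : S) * ιB b * (↑w⁻¹ : S))
    refine ⟨a, ?_⟩
    rw [ha]
    calc e * ((w : S) * ιB b * (↑w⁻¹ : S)) * e = (e * w) * ιB b * ((↑w⁻¹ : S) * e) := by
          simp only [mul_assoc]
      _ = (w : S) * (e' * ιB b * e') * (↑w⁻¹ : S) := by rw [hw, hw']; simp only [mul_assoc]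
      _ = (w : S) * ιB b * (↑w⁻¹ : S) := by rw [heB, hBe]
  have hψ1 : ψ 1 = 1 := by
    apply hiB
    rw [hψ, ← he_def, ← he'_def, hw', mul_assoc, Units.inv_mul, mul_one]
  have hψmul : ∀ a a', ψ (a * a') = ψ a * ψ a' := by
    intro a a'
    apply hiB
    rw [hmB, hψ, hψ, hψ, hmA]
    simp only [mul_assoc, Units.mul_inv_cancel_left]
  have hψadd : ∀ a a', ψ (a + a') = ψ a + ψ a' := by
    intro a a'
    apply hiB
    rw [map_add, hψ, hψ, hψ, map_add, mul_add, add_mul]
  have hψsmul : ∀ (r : R) a, ψ (r • a) = r • ψ a := by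
    intro r a
    apply hiB
    rw [map_smul, hψ, hψ, map_smul, mul_smul_comm, smul_mul_assoc]
  let ψl : A →ₗ[R] B := { toFun := ψ, map_add' := hψadd, map_smul' := hψsmul }
  let ψa : A →ₐ[R] B := AlgHom.ofLinearMap ψl hψ1 hψmul
  refine ⟨AlgEquiv.ofBijective ψa ⟨?_, ?_⟩⟩
  · intro a a' h
    have h' : ψ a = ψ a' := h
    apply hiA
    have h1 : (↑w⁻¹ : S) * ιA a * w = (↑w⁻¹ : S) * ιA a' * w := by rw [← hψ, ← hψ, h']
    have h2 := congrArg (fun x => (w : S) * x * (↑w⁻¹ : S)) h1
    simpa [mul_assoc] using h2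
  · intro b
    obtain ⟨a, ha⟩ := hex' b
    refine ⟨a, ?_⟩
    show ψ a = b
    apply hiB
    rw [hψ, ha]
    simp [mul_assoc]

end Corner

section RankEnd
variable {R : Type u} [CommRing R] (P : Type w) [AddCommGroup P] [Module R P] [Module.Finite R P]
  [Module.Projective R P] [FaithfulSMul R P]

lemma rank_end (q : PrimeSpectrum R) :
    Module.rankAtStalk (R := R) (Module.End R P) q =
      Module.rankAtStalk (R := R) P q * Module.rankAtStalk (R := R) P q := by
  haveI : IsAzumaya R (Module.End R P) := Groth.Agent.S19589.result R P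
  rw [Module.rankAtStalk_eq, Module.rankAtStalk_eq]
  let e := LinearEquiv.ofBijective (LinearMap.tensorProductEnd R q.asIdeal.ResidueField P).toLinearMap
    (Groth.Agent.Lib.LeadAzumaya.tensorProductEnd_bijective (R := R) q.asIdeal.ResidueField P)
  rw [e.finrank_eq, Module.finrank_linearMap]

end RankEnd

section RankOne
variable {R : Type u} [CommRing R] (B : Type v) [Ring B] [Algebra R B]
  {Q : Type w} [AddCommGroup Q] [Module R Q] (q : Q) (f : Module.Dual R Q)

/-- the rank one idempotent -/
def eps : Module.End R Q := f.smulRight q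

lemma eps_apply (x : Q) : eps q f x = f x • q := rfl

/-- `b ↦ b ⊗ ε` -/
noncomputable def iota : B →ₗ[R] B ⊗[R] Module.End R Q :=
  (TensorProduct.mk R B (Module.End R Q)).flip (eps q f)

lemma iota_apply (b : B) : iota B q f b = b ⊗ₜ[R] eps q f := rfl

/-- the retraction `b ⊗ φ ↦ f (φ q) • b` -/
noncomputable def rho : B ⊗[R] Module.End R Q →ₗ[R] B :=
  (TensorProduct.rid R B).toLinearMap ∘ₗ
    LinearMap.lTensor B (f ∘ₗ (LinearMap.applyₗ q : Module.End R Q →ₗ[R] Q))

lemma rho_tmul (b : B) (φ : Module.End R Q) : rho B q f (b ⊗ₜ[R] φ) = f (φ q) • b := by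
  unfold rho
  rw [LinearMap.comp_apply, LinearMap.lTensor_tmul, LinearEquiv.coe_coe, TensorProduct.rid_tmul]
  rfl

variable {q f} (hfq : f q = 1)
include hfq

lemma eps_mul_eps : eps q f * eps q f = eps q f := by
  ext x
  rw [Module.End.mul_apply, eps_apply, eps_apply, map_smul, smul_eq_mul, hfq, mul_one]

lemma iota_mul (b b' : B) : iota B q f (b * b') = iota B q f b * iota B q f b' := by
  rw [iota_apply, iota_apply, iota_apply, Algebra.TensorProduct.tmul_mul_tmul, eps_mul_eps hfq]

lemma rho_iota (b : B) : rho B q f (iota B q f b) = b := by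
  rw [iota_apply, rho_tmul, eps_apply, map_smul, smul_eq_mul, hfq, mul_one, one_smul]

lemma iota_injective : Function.Injective (iota B q f) := fun b b' h => by
  rw [← rho_iota B hfq b, ← rho_iota B hfq b', h]

lemma eps_mul_mul_eps (φ : Module.End R Q) : eps q f * φ * eps q f = f (φ q) • eps q f := by
  ext x
  simp only [Module.End.mul_apply, eps_apply, LinearMap.smul_apply, map_smul, smul_eq_mul, smul_smul]
  rw [mul_comm]

lemma corner_iota (x : B ⊗[R] Module.End R Q) :
    iota B q f 1 * x * iota B q f 1 = iota B q f (rho B q f x) := by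
  induction x using TensorProduct.induction_on with
  | zero => simp
  | tmul b φ =>
    rw [iota_apply, Algebra.TensorProduct.tmul_mul_tmul, Algebra.TensorProduct.tmul_mul_tmul,
      one_mul, mul_one, eps_mul_mul_eps hfq, rho_tmul, iota_apply, TensorProduct.tmul_smul,
      TensorProduct.smul_tmul']
  | add x y hx hy =>
    rw [mul_add, add_mul, hx, hy, map_add, map_add]

/-- `S (1 ⊗ ε) ≃ B ⊗ Q` -/
noncomputable def leftIdealEquiv :
    (B ⊗[R] Q) ≃ₗ[R] L (iota B q f 1) := by
  let I : B ⊗[R] Q →ₗ[R] B ⊗[R] Module.End R Q :=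
    LinearMap.lTensor B (LinearMap.smulRightₗ f : Q →ₗ[R] Module.End R Q)
  let J : B ⊗[R] Module.End R Q →ₗ[R] B ⊗[R] Q :=
    LinearMap.lTensor B (LinearMap.applyₗ q : Module.End R Q →ₗ[R] Q)
  have hJI : ∀ y, J (I y) = y := by
    intro y
    induction y using TensorProduct.induction_on with
    | zero => simp
    | tmul b y =>
      simp only [I, J, LinearMap.lTensor_tmul, LinearMap.smulRightₗ_apply, LinearMap.applyₗ_apply_apply,
        LinearMap.smulRight_apply, hfq, one_smul]
    | add x y hx hy => rw [map_add, map_add, hx, hy]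
  have hIJ : ∀ x, I (J x) = x * iota B q f 1 := by
    intro x
    induction x using TensorProduct.induction_on with
    | zero => simp
    | tmul b φ =>
      simp only [I, J, LinearMap.lTensor_tmul, LinearMap.smulRightₗ_apply, LinearMap.applyₗ_apply_apply]
      rw [iota_apply, Algebra.TensorProduct.tmul_mul_tmul, mul_one]
      congr 1
      ext x
      rw [LinearMap.smulRight_apply, Module.End.mul_apply, eps_apply, map_smul]
    | add x y hx hy => rw [map_add, map_add, hx, hy, add_mul]
  have hid : IsIdempotentElem (iota B q f 1) := by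
    show iota B q f 1 * iota B q f 1 = iota B q f 1
    rw [← iota_mul B hfq, mul_one]
  exact
    { toFun := fun y => ⟨I y, (mem_L_iff hid).mpr (by rw [← hIJ, hJI])⟩
      map_add' := fun y y' => by apply Subtype.ext; simp
      map_smul' := fun r y => by apply Subtype.ext; simp
      invFun := fun x => J x.1
      left_inv := fun y => hJI y
      right_inv := fun x => by
        apply Subtype.ext
        show I (J x.1) = x.1
        rw [hIJ, (mem_L_iff hid).mp x.2] }

end RankOne

section Transport
variable {R : Type u} [CommRing R] {S₀ : Type v} [Ring S₀] [Algebra R S₀]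
  {S' : Type w} [Ring S'] [Algebra R S']

lemma mem_L {S : Type*} [Ring S] {e x : S} : x ∈ L e ↔ ∃ y, y * e = x := by
  unfold L
  rw [LinearMap.mem_range]
  simp only [LinearMap.toSpanSingleton_apply, smul_eq_mul]

/-- transport of left ideals along an algebra isomorphism -/
noncomputable def transportL (θ : S₀ ≃ₐ[R] S') (e : S₀) : L e ≃ₗ[R] L (θ e) where
  toFun x := ⟨θ x.1, by
    obtain ⟨y, hy⟩ := mem_L.mp x.2
    exact mem_L.mpr ⟨θ y, by rw [← map_mul, hy]⟩⟩
  map_add' x y := by apply Subtype.ext; simp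
  map_smul' r x := by apply Subtype.ext; simp
  invFun x := ⟨θ.symm x.1, by
    obtain ⟨y, hy⟩ := mem_L.mp x.2
    refine mem_L.mpr ⟨θ.symm y, ?_⟩
    apply θ.injective
    rw [map_mul, AlgEquiv.apply_symm_apply, AlgEquiv.apply_symm_apply, hy]⟩
  left_inv x := by apply Subtype.ext; simp
  right_inv x := by apply Subtype.ext; simp

end Transport

section Main
variable {R : Type u} [CommRing R]

lemma rank_pos_of_faithful (M : Type*) [AddCommGroup M] [Module R M] [Module.Finite R M]
    [Module.Projective R M] [FaithfulSMul R M] (q : PrimeSpectrum R) :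
    0 < Module.rankAtStalk (R := R) M q := by
  rw [Module.rankAtStalk_pos_iff_mem_support, Module.support_eq_zeroLocus,
    Module.annihilator_eq_bot.mpr inferInstance]
  simp

/-- cancellation: `A ⊗ End P ≅ B ⊗ End Q` and `deg A = deg B` imply `A ≅ B` over an LG ring -/
theorem algEquiv_of_tensor_end (hR : LGRing.IsLGRing R)
    (A : Type v) [Ring A] [Algebra R A] [IsAzumaya R A]
    (B : Type v) [Ring B] [Algebra R B] [IsAzumaya R B]
    (hdeg : ∀ p : PrimeSpectrum R, Module.rankAtStalk (R := R) A p = Module.rankAtStalk (R := R) B p)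
    (P Q : Type w) [AddCommGroup P] [Module R P] [Module.Finite R P] [Module.Projective R P]
    [FaithfulSMul R P] [AddCommGroup Q] [Module R Q] [Module.Finite R Q] [Module.Projective R Q]
    [FaithfulSMul R Q]
    (θ : A ⊗[R] Module.End R P ≃ₐ[R] B ⊗[R] Module.End R Q) : Nonempty (A ≃ₐ[R] B) := by
  obtain ⟨p, fP, hP⟩ := Groth.Agent.S16598.result hR P
  obtain ⟨q, fQ, hQ⟩ := Groth.Agent.S16598.result hR Q
  haveI : IsAzumaya R (Module.End R Q) := Groth.Agent.S19589.result R Q
  haveI : IsAzumaya R (Module.End R P) := Groth.Agent.S19589.result R P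
  haveI : IsAzumaya R (B ⊗[R] Module.End R Q) := Groth.Agent.S19587.result R B (Module.End R Q)
  -- ranks
  have hrkPQ : ∀ x : PrimeSpectrum R, Module.rankAtStalk (R := R) P x =
      Module.rankAtStalk (R := R) Q x := by
    intro x
    have h1 := congrFun (Module.rankAtStalk_eq_of_equiv θ.toLinearEquiv) x
    rw [Module.rankAtStalk_tensorProduct, Module.rankAtStalk_tensorProduct, Pi.mul_apply,
      Pi.mul_apply, rank_end, rank_end, hdeg x] at h1
    have hpos : 0 < Module.rankAtStalk (R := R) B x := rank_pos_of_faithful B x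
    exact Nat.mul_self_inj.mp (Nat.eq_of_mul_eq_mul_left hpos h1)
  let ιA : A →ₗ[R] B ⊗[R] Module.End R Q := θ.toLinearMap ∘ₗ iota A p fP
  let ιB : B →ₗ[R] B ⊗[R] Module.End R Q := iota B q fQ
  have hιA : ∀ a, ιA a = θ (iota A p fP a) := fun a => rfl
  apply corner_algEquiv hR ιA ιB
  · intro a a'
    rw [hιA, hιA, hιA, iota_mul A hP, map_mul]
  · exact iota_mul B hQ
  · exact θ.injective.comp (iota_injective A hP)
  · exact iota_injective B hQ
  · intro x
    refine ⟨rho A p fP (θ.symm x), ?_⟩
    rw [hιA, hιA, ← corner_iota A hP, map_mul, map_mul, AlgEquiv.apply_symm_apply]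
  · intro x
    exact ⟨rho B q fQ x, (corner_iota B hQ x).symm⟩
  · intro x
    have e1 : L (ιA 1) ≃ₗ[R] A ⊗[R] P :=
      ((transportL θ (iota A p fP 1)).symm).trans (leftIdealEquiv A hP).symm
    have e2 : L (ιB 1) ≃ₗ[R] B ⊗[R] Q := (leftIdealEquiv B hQ).symm
    rw [congrFun (Module.rankAtStalk_eq_of_equiv e1) x, congrFun (Module.rankAtStalk_eq_of_equiv e2) x,
      Module.rankAtStalk_tensorProduct, Module.rankAtStalk_tensorProduct, Pi.mul_apply,
      Pi.mul_apply, hdeg x, hrkPQ x]

end Main

end Groth.Agent.Lib.R2Lead.LGCorner
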