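import Mathlib
import Groth.Agent.Lib.R2LeadLGCorner

/-! # Corner algebras `eAe` of Azumaya algebras (lead, round 2)

* `instAlgebraCorner`: `R`-algebra structure on `IsIdempotentElem.Corner`.
* `isAzumaya_corner`: `eAe` is Azumaya when `A` is and `e` is faithful over `R`.
* `PsiEquiv`: `A ⊗ (eAe)ᵒᵖ ≃ₐ End_R(Ae)`.
* `exists_corner_trivial_idempotents`: over a connected base there is an idempotent `e` with `eAe`
  having only trivial idempotents.
-/

set_option autoImplicit false
set_option linter.style.haveILetI false
set_option linter.unusedSectionVars false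
universe u v w

namespace Groth.Agent.Lib.R2Lead.AzCorner
open TensorProduct MulOpposite
open Groth.Agent.Lib.R2Lead.LGCorner (L mem_L_iff retr retr_apply finite_L projectiveR_L)

section CornerAlg
variable {R : Type u} [CommRing R] {A : Type v} [Ring A] [Algebra R A] {e : A}
  (he : IsIdempotentElem e)

lemma corner_left (x : he.Corner) : e * x.1 = x.1 := ((Subsemigroup.mem_corner_iff he).mp x.2).1

lemma corner_right (x : he.Corner) : x.1 * e = x.1 := ((Subsemigroup.mem_corner_iff he).mp x.2).2

@[simp] lemma val_mul (x y : he.Corner) : (x * y).1 = x.1 * y.1 := rfl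
@[simp] lemma val_add (x y : he.Corner) : (x + y).1 = x.1 + y.1 := rfl
@[simp] lemma val_zero : (0 : he.Corner).1 = 0 := rfl
@[simp] lemma val_one : (1 : he.Corner).1 = e := rfl
@[simp] lemma val_neg (x : he.Corner) : (-x).1 = -x.1 := rfl
@[simp] lemma val_sub (x y : he.Corner) : (x - y).1 = x.1 - y.1 := rfl

/-- the compression map `x ↦ e x e` -/
def compr (x : A) : he.Corner := ⟨e * x * e, ⟨x, rfl⟩⟩

@[simp] lemma compr_val (x : A) : (compr he x).1 = e * x * e := rfl

lemma compr_of_corner (x : he.Corner) : compr he x.1 = x := by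
  apply Subtype.ext
  rw [compr_val, corner_left, corner_right]

instance instSMulCorner : SMul R he.Corner :=
  ⟨fun r x => ⟨r • x.1, (Subsemigroup.mem_corner_iff he).mpr
    ⟨by rw [mul_smul_comm, corner_left], by rw [smul_mul_assoc, corner_right]⟩⟩⟩

@[simp] lemma val_smul (r : R) (x : he.Corner) : (r • x).1 = r • x.1 := rfl

/-- the additive inclusion -/
def valHom : he.Corner →+ A where
  toFun x := x.1
  map_zero' := rfl
  map_add' _ _ := rfl

lemma valHom_injective : Function.Injective (valHom he) := fun _ _ h => Subtype.ext h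

instance instModuleCorner : Module R he.Corner :=
  Function.Injective.module R (valHom he) (valHom_injective he) (fun _ _ => rfl)

instance instAlgebraCorner : Algebra R he.Corner :=
  Algebra.ofModule
    (fun r x y => Subtype.ext (by simp))
    (fun r x y => Subtype.ext (by simp))

lemma algebraMap_val (r : R) : (algebraMap R he.Corner r).1 = r • e := by
  rw [Algebra.algebraMap_eq_smul_one, val_smul, val_one]

/-- inclusion as a linear map -/
def incl : he.Corner →ₗ[R] A where
  toFun x := x.1
  map_add' _ _ := rfl
  map_smul' _ _ := rfl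

@[simp] lemma incl_apply (x : he.Corner) : incl (R := R) he x = x.1 := rfl

/-- compression as a linear map -/
def comprL : A →ₗ[R] he.Corner where
  toFun x := compr he x
  map_add' x y := Subtype.ext (by simp [mul_add, add_mul])
  map_smul' r x := Subtype.ext (by simp)

@[simp] lemma comprL_apply (x : A) : comprL (R := R) he x = compr he x := rfl

lemma comprL_incl (x : he.Corner) : comprL (R := R) he (incl (R := R) he x) = x :=
  compr_of_corner he x

end CornerAlg

section CornerAzumaya
variable {R : Type u} [CommRing R] {A : Type v} [Ring A] [Algebra R A] {e : A}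
  (he : IsIdempotentElem e)

/-- inclusion on opposites -/
def inclOp : (he.Corner)ᵐᵒᵖ →ₗ[R] Aᵐᵒᵖ :=
  (opLinearEquiv R).toLinearMap ∘ₗ incl (R := R) he ∘ₗ (opLinearEquiv R).symm.toLinearMap

@[simp] lemma inclOp_apply (x : (he.Corner)ᵐᵒᵖ) : inclOp (R := R) he x = op (unop x).1 := rfl

/-- compression on opposites -/
def comprOp : Aᵐᵒᵖ →ₗ[R] (he.Corner)ᵐᵒᵖ :=
  (opLinearEquiv R).toLinearMap ∘ₗ comprL (R := R) he ∘ₗ (opLinearEquiv R).symm.toLinearMap

@[simp] lemma comprOp_apply (x : Aᵐᵒᵖ) : comprOp (R := R) he x = op (compr he (unop x)) := rfl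

lemma comprOp_inclOp (x : (he.Corner)ᵐᵒᵖ) : comprOp (R := R) he (inclOp (R := R) he x) = x := by
  rw [inclOp_apply, comprOp_apply, unop_op, compr_of_corner, op_unop]

lemma finite_corner [Module.Finite R A] : Module.Finite R he.Corner :=
  Module.Finite.of_surjective (comprL (R := R) he) (fun x => ⟨x.1, comprL_incl he x⟩)

lemma projective_corner [Module.Projective R A] : Module.Projective R he.Corner :=
  Module.Projective.of_split (incl (R := R) he) (comprL (R := R) he)
    (LinearMap.ext fun x => comprL_incl he x)

lemma formula1 (z : he.Corner ⊗[R] (he.Corner)ᵐᵒᵖ) (x : A) :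
    AlgHom.mulLeftRight R A (TensorProduct.map (incl (R := R) he) (inclOp (R := R) he) z) x =
      (AlgHom.mulLeftRight R he.Corner z (compr he x)).1 := by
  induction z using TensorProduct.induction_on with
  | zero => simp
  | tmul b c =>
    rw [TensorProduct.map_tmul, AlgHom.mulLeftRight_apply, AlgHom.mulLeftRight_apply]
    simp only [incl_apply, inclOp_apply, unop_op, val_mul, compr_val]
    rw [← mul_assoc, ← mul_assoc, corner_right, mul_assoc _ e, corner_left]
  | add z w hz hw =>
    rw [map_add, map_add, LinearMap.add_apply, hz, hw, map_add, LinearMap.add_apply, val_add]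

lemma formula2 (w : A ⊗[R] Aᵐᵒᵖ) (x : he.Corner) :
    (AlgHom.mulLeftRight R he.Corner
      (TensorProduct.map (comprL (R := R) he) (comprOp (R := R) he) w) x).1 =
      e * (AlgHom.mulLeftRight R A w x.1) * e := by
  induction w using TensorProduct.induction_on with
  | zero => simp
  | tmul a c =>
    rw [TensorProduct.map_tmul, AlgHom.mulLeftRight_apply, AlgHom.mulLeftRight_apply]
    simp only [comprL_apply, comprOp_apply, unop_op, val_mul, compr_val]
    have h1 : e * a * e * x.1 * (e * unop c * e) = e * a * (e * x.1) * e * unop c * e := by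
      simp only [mul_assoc]
    rw [h1, corner_left]
    have h2 : e * a * x.1 * e * unop c * e = e * a * (x.1 * e) * unop c * e := by
      simp only [mul_assoc]
    rw [h2, corner_right]
    simp only [mul_assoc]
  | add z w hz hw =>
    rw [map_add, map_add, LinearMap.add_apply, val_add, hz, hw, map_add, LinearMap.add_apply,
      mul_add, add_mul]

theorem isAzumaya_corner [IsAzumaya R A] (hfaith : ∀ r : R, r • e = 0 → r = 0) :
    IsAzumaya R he.Corner := by
  haveI := finite_corner (R := R) he
  haveI := projective_corner (R := R) he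
  haveI : FaithfulSMul R he.Corner := ⟨fun {r r'} h => by
    have h1 := congrArg Subtype.val (h 1)
    rw [val_smul, val_smul, val_one] at h1
    have h2 : (r - r') • e = 0 := by rw [sub_smul, h1, sub_self]
    exact sub_eq_zero.mp (hfaith _ h2)⟩
  refine { bij := ⟨?_, ?_⟩ }
  · rw [injective_iff_map_eq_zero]
    intro z hz
    have h1 : AlgHom.mulLeftRight R A
        (TensorProduct.map (incl (R := R) he) (inclOp (R := R) he) z) = 0 := by
      ext x
      rw [formula1, hz]
      rfl
    have h2 : TensorProduct.map (incl (R := R) he) (inclOp (R := R) he) z = 0 :=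
      (injective_iff_map_eq_zero _).mp (IsAzumaya.bij (R := R) (A := A)).1 _ h1
    have h3 := congrArg (TensorProduct.map (comprL (R := R) he) (comprOp (R := R) he)) h2
    rw [map_zero, ← LinearMap.comp_apply, ← TensorProduct.map_comp] at h3
    have h4 : TensorProduct.map (comprL (R := R) he ∘ₗ incl (R := R) he)
        (comprOp (R := R) he ∘ₗ inclOp (R := R) he) = LinearMap.id := by
      apply TensorProduct.ext'
      intro b c
      rw [TensorProduct.map_tmul, LinearMap.comp_apply, LinearMap.comp_apply, comprL_incl,
        comprOp_inclOp]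
      rfl
    rw [h4] at h3
    exact h3
  · intro ψ
    obtain ⟨w, hw⟩ := (IsAzumaya.bij (R := R) (A := A)).2
      (incl (R := R) he ∘ₗ ψ ∘ₗ comprL (R := R) he)
    refine ⟨TensorProduct.map (comprL (R := R) he) (comprOp (R := R) he) w, ?_⟩
    ext x
    apply Subtype.ext
    rw [formula2, hw]
    simp only [LinearMap.comp_apply, incl_apply, comprL_apply]
    rw [compr_of_corner, corner_left, corner_right]

end CornerAzumaya

section Psi
variable {R : Type u} [CommRing R] {A : Type v} [Ring A] [Algebra R A] {e : A}
  (he : IsIdempotentElem e)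

/-- right multiplication by a corner element on the left ideal `A e` -/
def rmul (b : he.Corner) : L e →ₗ[R] L e where
  toFun x := ⟨x.1 * b.1, (mem_L_iff he).mpr (by rw [mul_assoc, corner_right])⟩
  map_add' x y := Subtype.ext (by simp [add_mul])
  map_smul' r x := Subtype.ext (by simp)

@[simp] lemma rmul_apply_val (b : he.Corner) (x : L e) : (rmul (R := R) he b x).1 = x.1 * b.1 := rfl

/-- right multiplication as an algebra map from the opposite of the corner -/
def rmulAlg : (he.Corner)ᵐᵒᵖ →ₐ[R] Module.End R (L e) :=
  AlgHom.ofLinearMap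
    { toFun := fun c => rmul (R := R) he (unop c)
      map_add' := fun c c' => by
        ext x
        simp [mul_add]
      map_smul' := fun r c => by
        ext x
        simp }
    (by
      ext x
      simp only [LinearMap.coe_mk, AddHom.coe_mk, unop_one, rmul_apply_val, val_one,
        Module.End.one_apply]
      exact (mem_L_iff he).mp x.2)
    (by
      intro c c'
      ext x
      simp only [LinearMap.coe_mk, AddHom.coe_mk, unop_mul, rmul_apply_val, val_mul,
        Module.End.mul_apply, mul_assoc])

@[simp] lemma rmulAlg_apply_val (c : (he.Corner)ᵐᵒᵖ) (x : L e) :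
    (rmulAlg (R := R) he c x).1 = x.1 * (unop c).1 := rfl

/-- the comparison map `A ⊗ (eAe)ᵒᵖ → End_R(Ae)` -/
noncomputable def Psi : A ⊗[R] (he.Corner)ᵐᵒᵖ →ₐ[R] Module.End R (L e) :=
  Algebra.TensorProduct.lift (Algebra.lsmul R R (L e)) (rmulAlg (R := R) he) (by
    intro a c
    ext x
    simp only [Module.End.mul_apply, Algebra.lsmul_coe, Submodule.coe_smul, smul_eq_mul,
      rmulAlg_apply_val, mul_assoc])

lemma Psi_tmul_val (a : A) (c : (he.Corner)ᵐᵒᵖ) (x : L e) :
    (Psi (R := R) he (a ⊗ₜ[R] c) x).1 = a * (x.1 * (unop c).1) := by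
  unfold Psi
  rw [Algebra.TensorProduct.lift_tmul, Module.End.mul_apply, Algebra.lsmul_coe,
    Submodule.coe_smul, smul_eq_mul, rmulAlg_apply_val]

/-- `x ↦ x e` as an `R`-linear map -/
def retrR : A →ₗ[R] L e := (retr e).restrictScalars R

@[simp] lemma retrR_val (x : A) : (retrR (R := R) (e := e) x).1 = x * e := rfl

lemma formula1' (z : A ⊗[R] (he.Corner)ᵐᵒᵖ) (x : A) :
    AlgHom.mulLeftRight R A (LinearMap.lTensor A (inclOp (R := R) he) z) x =
      (Psi (R := R) he z (retrR (R := R) x)).1 := by
  induction z using TensorProduct.induction_on with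
  | zero => simp
  | tmul a c =>
    rw [LinearMap.lTensor_tmul, AlgHom.mulLeftRight_apply, Psi_tmul_val, inclOp_apply, unop_op,
      retrR_val, mul_assoc x, corner_left, mul_assoc]
  | add z w hz hw =>
    rw [map_add, map_add, LinearMap.add_apply, hz, hw, map_add, LinearMap.add_apply,
      Submodule.coe_add]

lemma formula2' (w : A ⊗[R] Aᵐᵒᵖ) (x : L e) :
    (Psi (R := R) he (LinearMap.lTensor A (comprOp (R := R) he) w) x).1 =
      (AlgHom.mulLeftRight R A w x.1) * e := by
  induction w using TensorProduct.induction_on with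
  | zero => simp
  | tmul a c =>
    rw [LinearMap.lTensor_tmul, AlgHom.mulLeftRight_apply, Psi_tmul_val, comprOp_apply, unop_op,
      compr_val]
    have h1 : a * (x.1 * (e * unop c * e)) = a * ((x.1 * e) * unop c) * e := by
      simp only [mul_assoc]
    rw [h1, (mem_L_iff he).mp x.2]
    simp only [mul_assoc]
  | add z w hz hw =>
    rw [map_add, map_add, LinearMap.add_apply, Submodule.coe_add, hz, hw, map_add,
      LinearMap.add_apply, add_mul]

theorem Psi_bijective [IsAzumaya R A] : Function.Bijective (Psi (R := R) he) := by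
  constructor
  · rw [injective_iff_map_eq_zero]
    intro z hz
    have h1 : AlgHom.mulLeftRight R A (LinearMap.lTensor A (inclOp (R := R) he) z) = 0 := by
      ext x
      rw [formula1', hz]
      rfl
    have h2 : LinearMap.lTensor A (inclOp (R := R) he) z = 0 :=
      (injective_iff_map_eq_zero _).mp (IsAzumaya.bij (R := R) (A := A)).1 _ h1
    have h3 := congrArg (LinearMap.lTensor A (comprOp (R := R) he)) h2
    rw [map_zero, ← LinearMap.comp_apply, ← LinearMap.lTensor_comp] at h3
    have h4 : (comprOp (R := R) he ∘ₗ inclOp (R := R) he) = LinearMap.id :=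
      LinearMap.ext fun c => comprOp_inclOp he c
    rw [h4, LinearMap.lTensor_id] at h3
    exact h3
  · intro ψ
    obtain ⟨w, hw⟩ := (IsAzumaya.bij (R := R) (A := A)).2
      (((L e).subtype.restrictScalars R) ∘ₗ ψ ∘ₗ retrR (R := R))
    refine ⟨LinearMap.lTensor A (comprOp (R := R) he) w, ?_⟩
    ext x
    rw [formula2', hw]
    simp only [LinearMap.comp_apply, LinearMap.restrictScalars_apply, Submodule.subtype_apply]
    have h5 : retrR (R := R) (e := e) x.1 = x := Subtype.ext (by
      rw [retrR_val]; exact (mem_L_iff he).mp x.2)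
    rw [h5]
    exact (mem_L_iff he).mp (ψ x).2

/-- `A ⊗ (eAe)ᵒᵖ ≃ End_R(Ae)` -/
noncomputable def PsiEquiv [IsAzumaya R A] :
    A ⊗[R] (he.Corner)ᵐᵒᵖ ≃ₐ[R] Module.End R (L e) :=
  AlgEquiv.ofBijective (Psi (R := R) he) (Psi_bijective he)

end Psi

section Faithful
variable {R : Type u} [CommRing R] {M : Type v} [AddCommGroup M] [Module R M] [Module.Finite R M]
  [Module.Projective R M]

attribute [local instance] Module.free_of_flat_of_isLocalRing in
lemma eq_zero_of_smul_eq_zero_of_rank_pos (hpos : ∀ q : PrimeSpectrum R, 0 < Module.rankAtStalk M q)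
    (r : R) (hr : ∀ x : M, r • x = 0) : r = 0 := by
  by_contra hne
  let J : Ideal R := LinearMap.ker (LinearMap.toSpanSingleton R R r)
  have hJ : J ≠ ⊤ := by
    intro h
    have h1 : (1 : R) ∈ J := h ▸ Submodule.mem_top
    rw [LinearMap.mem_ker, LinearMap.toSpanSingleton_apply, one_smul] at h1
    exact hne h1
  obtain ⟨m, hm, hJm⟩ := Ideal.exists_le_maximal J hJ
  haveI := hm.isPrime
  let q : PrimeSpectrum R := ⟨m, hm.isPrime⟩
  have hq := hpos q
  unfold Module.rankAtStalk at hq
  have hnt : Nontrivial (LocalizedModule q.asIdeal.primeCompl M) :=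
    Module.nontrivial_of_finrank_pos (R := Localization.AtPrime q.asIdeal) hq
  let b := Module.Free.chooseBasis (Localization.AtPrime q.asIdeal)
    (LocalizedModule q.asIdeal.primeCompl M)
  haveI : Nonempty (Module.Free.ChooseBasisIndex (Localization.AtPrime q.asIdeal)
      (LocalizedModule q.asIdeal.primeCompl M)) := by
    by_contra hemp
    rw [not_nonempty_iff] at hemp
    have := b.repr.toEquiv.subsingleton
    exact not_subsingleton _ this
  obtain ⟨i₀⟩ := this
  have hkill : ∀ y : LocalizedModule q.asIdeal.primeCompl M, r • y = 0 := by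
    intro y
    induction y using LocalizedModule.induction_on with
    | h x s =>
      rw [LocalizedModule.smul'_mk, hr, LocalizedModule.zero_mk]
  have h0 : algebraMap R (Localization.AtPrime q.asIdeal) r = 0 := by
    have h1 : (algebraMap R (Localization.AtPrime q.asIdeal) r) • b i₀ = 0 := by
      rw [algebraMap_smul]; exact hkill _
    have h2 := congrArg (fun v => b.repr v i₀) h1
    simp only [map_smul, Module.Basis.repr_self, Finsupp.smul_apply, Finsupp.single_eq_same,
      smul_eq_mul, mul_one, map_zero, Finsupp.coe_zero, Pi.zero_apply] at h2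
    exact h2
  rw [IsLocalization.map_eq_zero_iff q.asIdeal.primeCompl] at h0
  obtain ⟨s, hs⟩ := h0
  have hsJ : (s : R) ∈ J := by
    rw [LinearMap.mem_ker, LinearMap.toSpanSingleton_apply, smul_eq_mul]
    exact hs
  exact s.2 (hJm hsJ)

end Faithful

section Orth
variable {A : Type v} [Ring A]

/-- `A (f + g) ≃ A f × A g` for orthogonal idempotents -/
def orthEquiv {f g : A} (hf : IsIdempotentElem f) (hg : IsIdempotentElem g) (hfg : f * g = 0)
    (hgf : g * f = 0) : L (f + g) ≃ₗ[A] (L f × L g) :=
  have hfg' : IsIdempotentElem (f + g) := by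
    show (f + g) * (f + g) = f + g
    rw [mul_add, add_mul, add_mul, hf.eq, hg.eq, hfg, hgf, add_zero, zero_add]
  LinearEquiv.ofLinearMap
    (((retr f).prod (retr g)) ∘ₗ (L (f + g)).subtype)
    (LinearMap.codRestrict (L (f + g)) ((L f).subtype.coprod (L g).subtype) (by
      rintro ⟨a, b⟩
      rw [mem_L_iff hfg']
      show ((a : A) + (b : A)) * (f + g) = (a : A) + (b : A)
      have ha := (mem_L_iff hf).mp a.2
      have hb := (mem_L_iff hg).mp b.2
      have ha' : (a : A) * g = 0 := by rw [← ha, mul_assoc, hfg, mul_zero]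
      have hb' : (b : A) * f = 0 := by rw [← hb, mul_assoc, hgf, mul_zero]
      rw [add_mul, mul_add, mul_add, ha, hb, ha', hb', add_zero, zero_add]))
    (by
      apply LinearMap.ext
      rintro ⟨a, b⟩
      have ha := (mem_L_iff hf).mp a.2
      have hb := (mem_L_iff hg).mp b.2
      have ha' : (a : A) * g = 0 := by rw [← ha, mul_assoc, hfg, mul_zero]
      have hb' : (b : A) * f = 0 := by rw [← hb, mul_assoc, hgf, mul_zero]
      apply Prod.ext
      · apply Subtype.ext
        show ((a : A) + (b : A)) * f = a
        rw [add_mul, ha, hb', add_zero]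
      · apply Subtype.ext
        show ((a : A) + (b : A)) * g = b
        rw [add_mul, ha', hb, zero_add])
    (by
      apply LinearMap.ext
      intro x
      apply Subtype.ext
      show (x : A) * f + (x : A) * g = x
      rw [← mul_add, (mem_L_iff hfg').mp x.2])

end Orth

section Minimal
variable {R : Type u} [CommRing R] [ConnectedSpace (PrimeSpectrum R)]
  (A : Type v) [Ring A] [Algebra R A] [IsAzumaya R A]

lemma rank_L_const {f : A} (hf : IsIdempotentElem f) (p q : PrimeSpectrum R) :
    Module.rankAtStalk (R := R) (L f) p = Module.rankAtStalk (R := R) (L f) q := by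
  haveI := finite_L (R := R) f
  haveI := projectiveR_L (R := R) hf
  haveI : Module.FinitePresentation R (L f) := Module.finitePresentation_of_projective R _
  exact (Module.isLocallyConstant_rankAtStalk (R := R) (M := L f)).apply_eq_of_preconnectedSpace p q

lemma rank_L_pos {f : A} (hf : IsIdempotentElem f) (hf0 : f ≠ 0) (q : PrimeSpectrum R) :
    0 < Module.rankAtStalk (R := R) (L f) q := by
  haveI := finite_L (R := R) f
  haveI := projectiveR_L (R := R) hf
  by_contra hcon
  have h0 : Module.rankAtStalk (R := R) (L f) = 0 := by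
    funext p
    rw [rank_L_const A hf p q]
    simpa using hcon
  have hsub : Subsingleton (L f) := Module.rankAtStalk_eq_zero_iff_subsingleton.mp h0
  apply hf0
  have hmem : f ∈ L f := (mem_L_iff hf).mpr hf.eq
  have := congrArg Subtype.val (Subsingleton.elim (⟨f, hmem⟩ : L f) 0)
  simpa using this

theorem exists_corner_trivial_idempotents :
    ∃ (e : A) (he : IsIdempotentElem e), (∀ r : R, r • e = 0 → r = 0) ∧
      (∀ b : he.Corner, IsIdempotentElem b → b = 0 ∨ b = 1) ∧
      (∀ q : PrimeSpectrum R, 0 < Module.rankAtStalk (R := R) (L e) q) := by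
  classical
  obtain ⟨p₀⟩ : Nonempty (PrimeSpectrum R) := inferInstance
  haveI : Nontrivial R := p₀.nontrivial
  haveI : Nontrivial A := (FaithfulSMul.algebraMap_injective R A).nontrivial
  let T : ℕ → Prop := fun n => ∃ f : A, IsIdempotentElem f ∧ f ≠ 0 ∧
    Module.rankAtStalk (R := R) (L f) p₀ = n
  have hT : ∃ n, T n := ⟨_, 1, IsIdempotentElem.one, one_ne_zero, rfl⟩
  obtain ⟨e, he, he0, hrk⟩ := Nat.find_spec hT
  have hmin : ∀ f : A, IsIdempotentElem f → f ≠ 0 →
      Nat.find hT ≤ Module.rankAtStalk (R := R) (L f) p₀ :=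
    fun f hf hf0 => Nat.find_min' hT ⟨f, hf, hf0, rfl⟩
  refine ⟨e, he, ?_, ?_, rank_L_pos A he he0⟩
  · intro r hr
    haveI := finite_L (R := R) e
    haveI := projectiveR_L (R := R) he
    apply eq_zero_of_smul_eq_zero_of_rank_pos (M := L e) (rank_L_pos A he he0) r
    intro x
    apply Subtype.ext
    have hx := (mem_L_iff he).mp x.2
    show r • (x : A) = 0
    rw [← hx, ← mul_smul_comm, hr, mul_zero]
  · intro b hb
    have hf : IsIdempotentElem b.1 := by
      have := congrArg Subtype.val hb.eq
      rwa [val_mul] at this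
    by_cases hb0 : b.1 = 0
    · left
      exact Subtype.ext hb0
    right
    have hl := corner_left he b
    have hr := corner_right he b
    have hg : IsIdempotentElem (e - b.1) := by
      show (e - b.1) * (e - b.1) = e - b.1
      rw [mul_sub, sub_mul, sub_mul, he.eq, hl, hr, hf.eq, sub_self, sub_zero]
    have hfg : b.1 * (e - b.1) = 0 := by rw [mul_sub, hr, hf.eq, sub_self]
    have hgf : (e - b.1) * b.1 = 0 := by rw [sub_mul, hl, hf.eq, sub_self]
    have hsum : b.1 + (e - b.1) = e := by abel
    haveI := finite_L (R := R) b.1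
    haveI := projectiveR_L (R := R) hf
    haveI := finite_L (R := R) (e - b.1)
    haveI := projectiveR_L (R := R) hg
    have h1 := congrFun (Module.rankAtStalk_eq_of_equiv
      ((orthEquiv hf hg hfg hgf).restrictScalars R)) p₀
    rw [Module.rankAtStalk_prod, Pi.add_apply, hsum, hrk] at h1
    have h2 := hmin b.1 hf hb0
    have h3 : Module.rankAtStalk (R := R) (L (e - b.1)) p₀ = 0 := by omega
    have h4 : e - b.1 = 0 := by
      by_contra hne
      have := rank_L_pos A hg hne p₀
      omega
    apply Subtype.ext
    rw [val_one]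
    exact (sub_eq_zero.mp h4).symm

end Minimal

end Groth.Agent.Lib.R2Lead.AzCorner
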