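import Mathlib
import Groth.Agent.Lib.LeadAzumaya
import Groth.Agent.Lib.LeadAzumayaLocal

/-!
# Regular sections of Azumaya algebras over a local ring
-/

set_option autoImplicit false

namespace Groth.Agent.Lib.R2LeadAzReg

open TensorProduct Polynomial

universe u

section adL

variable (R : Type*) [CommRing R] {A : Type*} [Ring A] [Algebra R A]

/-- `ad x` as a linear map -/
noncomputable def adL (x : A) : A →ₗ[R] A := LinearMap.mulLeft R x - LinearMap.mulRight R x

@[simp] theorem adL_apply (x y : A) : adL R x y = x * y - y * x := by simp [adL]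

theorem mem_ker_adL {x y : A} : y ∈ LinearMap.ker (adL R x) ↔ x * y = y * x := by
  rw [LinearMap.mem_ker, adL_apply, sub_eq_zero]

end adL

section PartI

variable {K : Type*} [Field K] [IsAlgClosed K] {W : Type*} [AddCommGroup W] [Module K W]
  [FiniteDimensional K W]

theorem finrank_ker_adL_le (X : Module.End K W) (hsep : (minpoly K X).Separable)
    (hdeg : Module.finrank K W ≤ (minpoly K X).natDegree) :
    Module.finrank K (LinearMap.ker (adL K X)) ≤ Module.finrank K W := by
  classical
  let ι := (minpoly K X).rootSet K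
  have hcard : Fintype.card ι = (minpoly K X).natDegree :=
    Polynomial.card_rootSet_eq_natDegree hsep (IsAlgClosed.splits _)
  have hev : ∀ i : ι, X.HasEigenvalue (i : K) := by
    intro i
    apply Module.End.hasEigenvalue_of_isRoot
    have := i.2
    rw [Polynomial.mem_rootSet] at this
    simpa [Polynomial.IsRoot, Polynomial.coe_aeval_eq_eval] using this.2
  choose v hv using fun i => (hev i).exists_hasEigenvector
  have hli : LinearIndependent K v :=
    Module.End.eigenvectors_linearIndependent' X (fun i : ι => (i : K)) Subtype.val_injective v hv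
  have hle := hli.fintype_card_le_finrank
  have hcardW : Fintype.card ι = Module.finrank K W := le_antisymm hle (hcard ▸ hdeg)
  let b : Module.Basis ι K W := basisOfLinearIndependentOfCardEqFinrank' v hli hcardW
  have hb : ∀ i, b i = v i := fun i => by
    simp only [b, coe_basisOfLinearIndependentOfCardEqFinrank']
  have hXb : ∀ i, X (b i) = (i : K) • b i := fun i => by
    rw [hb]; exact (hv i).apply_eq_smul
  let Φ : Module.End K W →ₗ[K] (ι → K) :=
    LinearMap.pi (fun i => (b.coord i).comp (LinearMap.applyₗ (b i)))
  have hΦ : ∀ φ i, Φ φ i = b.repr (φ (b i)) i := fun φ i => rfl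
  have hinj : Function.Injective (Φ.comp (LinearMap.ker (adL K X)).subtype) := by
    rw [← LinearMap.ker_eq_bot, LinearMap.ker_eq_bot']
    rintro ⟨φ, hφ⟩ h0
    rw [mem_ker_adL] at hφ
    have h0' : ∀ i, b.repr (φ (b i)) i = 0 := fun i => by
      have := congrFun h0 i
      simpa [hΦ] using this
    apply Subtype.ext
    show φ = 0
    apply b.ext
    intro i
    have hw : X (φ (b i)) = (i : K) • φ (b i) := by
      have := LinearMap.congr_fun hφ (b i)
      simp only [Module.End.mul_apply] at this
      rw [this, hXb, map_smul]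
    have h1 : X (φ (b i)) = ∑ j, (b.repr (φ (b i)) j * (j : K)) • b j := by
      conv_lhs => rw [← b.sum_repr (φ (b i))]
      simp only [map_sum, map_smul, hXb, smul_smul]
    have h2 : (i : K) • φ (b i) = ∑ j, (b.repr (φ (b i)) j * (i : K)) • b j := by
      conv_lhs => rw [← b.sum_repr (φ (b i))]
      simp only [Finset.smul_sum, smul_smul, mul_comm]
    have h3 : ∑ j, (b.repr (φ (b i)) j * ((j : K) - (i : K))) • b j = 0 := by
      simp only [mul_sub, sub_smul, Finset.sum_sub_distrib, ← h1, ← h2, hw, sub_self]
    have h4 := Fintype.linearIndependent_iff.1 b.linearIndependent _ h3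
    have h5 : b.repr (φ (b i)) = 0 := by
      ext j
      by_cases hji : j = i
      · subst hji; simpa using h0' j
      · have := h4 j
        rcases mul_eq_zero.1 this with h | h
        · simpa using h
        · exact absurd (Subtype.ext (sub_eq_zero.1 h)) hji
    simpa using congrArg b.repr.symm h5
  calc Module.finrank K (LinearMap.ker (adL K X)) ≤ Module.finrank K (ι → K) :=
        LinearMap.finrank_le_finrank_of_injective hinj
    _ = Fintype.card ι := Module.finrank_fintype_fun_eq_card K
    _ = Module.finrank K W := hcardW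

end PartI

section Indep

theorem li_one_tmul {k K M : Type*} [Field k] [CommRing K] [Algebra k K] [AddCommGroup M]
    [Module k M] {J : Type*} [Fintype J] (v : J → M) (hv : LinearIndependent k v) :
    LinearIndependent K (fun j => (1 : K) ⊗ₜ[k] v j) := by
  classical
  obtain ⟨g, hg⟩ := LinearMap.exists_leftInverse_of_injective (Fintype.linearCombination k v)
    (LinearMap.ker_eq_bot.2 hv.fintypeLinearCombination_injective)
  have hgv : ∀ i, g (v i) = Pi.single i 1 := fun i => by
    have := LinearMap.congr_fun hg (Pi.single i 1)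
    simpa [Fintype.linearCombination_apply_single] using this
  rw [Fintype.linearIndependent_iff]
  intro c hc j
  have := congrArg (fun z => TensorProduct.rid k K
    (LinearMap.lTensor K ((LinearMap.proj j : (J → k) →ₗ[k] k) ∘ₗ g) z)) hc
  simp only [map_sum, map_zero, TensorProduct.smul_tmul', LinearMap.lTensor_tmul,
    TensorProduct.rid_tmul, LinearMap.comp_apply, hgv, LinearMap.proj_apply, smul_eq_mul,
    mul_one, Pi.single_apply] at this
  simpa using this

end Indep

section PartII

variable {k : Type u} [Field k] {B : Type u} [Ring B] [Algebra k B]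

theorem toSubmodule_adjoin_eq_span (x : B) (hx : IsIntegral k x) :
    Subalgebra.toSubmodule (Algebra.adjoin k {x}) =
      Submodule.span k (Set.range fun i : Fin (minpoly k x).natDegree => x ^ (i : ℕ)) := by
  apply le_antisymm
  · intro y hy
    rw [Subalgebra.mem_toSubmodule, Algebra.adjoin_singleton_eq_range_aeval] at hy
    obtain ⟨f, rfl⟩ := hy
    exact hx.mem_span_pow ⟨f, rfl⟩
  · rw [Submodule.span_le]
    rintro _ ⟨i, rfl⟩
    exact pow_mem (Algebra.self_mem_adjoin_singleton k x) _

theorem finrank_adjoin_eq_natDegree (x : B) (hx : IsIntegral k x) :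
    Module.finrank k (Algebra.adjoin k {x}) = (minpoly k x).natDegree := by
  have h1 : Module.finrank k (Algebra.adjoin k {x}) =
      Module.finrank k (Subalgebra.toSubmodule (Algebra.adjoin k {x})) := rfl
  rw [h1, toSubmodule_adjoin_eq_span x hx,
    finrank_span_eq_card (linearIndependent_pow (K := k) x), Fintype.card_fin]

theorem separable_minpoly_of_adjoin (x : B)
    (hsep : Algebra.IsSeparable k (Algebra.adjoin k {x})) : (minpoly k x).Separable := by
  have h := hsep.isSeparable' (⟨x, Algebra.subset_adjoin rfl⟩ : Algebra.adjoin k {x})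
  have h2 := minpoly.algHom_eq (Algebra.adjoin k {x}).val Subtype.val_injective
    (⟨x, Algebra.subset_adjoin rfl⟩ : Algebra.adjoin k {x})
  simp only [Subalgebra.coe_val] at h2
  rw [h2]
  exact h

theorem finrank_ker_adL_le_of_csa (r : ℕ) [IsAzumaya k B] (hB : Module.finrank k B = r ^ 2)
    (x : B) (hsep : Algebra.IsSeparable k (Algebra.adjoin k {x}))
    (hrk : Module.finrank k (Algebra.adjoin k {x}) = r) :
    Module.finrank k (LinearMap.ker (adL k x)) ≤ r := by
  classical
  haveI : Module.Finite k B := inferInstance
  have hx : IsIntegral k x := IsIntegral.of_finite k x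
  have hpsep := separable_minpoly_of_adjoin x hsep
  have hdeg : (minpoly k x).natDegree = r := by rw [← finrank_adjoin_eq_natDegree x hx, hrk]
  -- base change to the algebraic closure
  let K := AlgebraicClosure k
  haveI : IsAzumaya K (K ⊗[k] B) := Groth.Agent.Lib.LeadAzumaya.isAzumaya_baseChange K B
  haveI : IsSimpleRing (K ⊗[k] B) :=
    Groth.Agent.Lib.LeadAzumaya.isSimpleRing_of_isAzumaya_field (k := K) (A := K ⊗[k] B)
  obtain ⟨n, _, ⟨e⟩⟩ := IsSimpleRing.exists_algEquiv_matrix_of_isAlgClosed K (K ⊗[k] B)
  have hfr : Module.finrank K (K ⊗[k] B) = r ^ 2 := by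
    rw [Module.finrank_baseChange, hB]
  have hn : n = r := by
    have h1 : Module.finrank K (K ⊗[k] B) = n * n := by
      rw [LinearEquiv.finrank_eq e.toLinearEquiv, Module.finrank_matrix]
      simp
    rw [hfr, sq] at h1
    exact (Nat.mul_self_inj.1 h1).symm
  subst hn
  let e' : (K ⊗[k] B) ≃ₐ[K] Module.End K (Fin n → K) := e.trans Matrix.toLinAlgEquiv'
  let y : K ⊗[k] B := (1 : K) ⊗ₜ[k] x
  have hypow : ∀ i : ℕ, y ^ i = (1 : K) ⊗ₜ[k] (x ^ i) := fun i => by
    simp only [y, Algebra.TensorProduct.tmul_pow, one_pow]
  -- minpoly of y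
  have hy : IsIntegral K y := IsIntegral.of_finite K y
  have hdvd : minpoly K y ∣ (minpoly k x).map (algebraMap k K) := by
    apply minpoly.dvd
    rw [Polynomial.aeval_map_algebraMap]
    have : y = (Algebra.TensorProduct.includeRight : B →ₐ[k] K ⊗[k] B) x := rfl
    rw [this, Polynomial.aeval_algHom_apply, minpoly.aeval, map_zero]
  have hqsep : (minpoly K y).Separable := (hpsep.map).of_dvd hdvd
  have hqdeg : n ≤ (minpoly K y).natDegree := by
    have hli : LinearIndependent K (fun i : Fin n => y ^ (i : ℕ)) := by
      have := li_one_tmul (K := K) (fun i : Fin n => x ^ (i : ℕ))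
        (hdeg ▸ linearIndependent_pow (K := k) x)
      simpa only [hypow] using this
    have hspan : Submodule.span K (Set.range fun i : Fin n => y ^ (i : ℕ)) ≤
        Submodule.span K (Set.range fun i : Fin (minpoly K y).natDegree => y ^ (i : ℕ)) := by
      rw [Submodule.span_le]
      rintro _ ⟨i, rfl⟩
      exact hy.mem_span_pow ⟨Polynomial.X ^ (i : ℕ), by simp⟩
    have h1 := Submodule.finrank_mono hspan
    rw [finrank_span_eq_card hli, finrank_span_eq_card (linearIndependent_pow (K := K) y)] at h1
    simpa using h1
  -- the endomorphism Y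
  let Y : Module.End K (Fin n → K) := e' y
  have hYmin : minpoly K Y = minpoly K y :=
    minpoly.algHom_eq e'.toAlgHom e'.injective y
  have hI := finrank_ker_adL_le Y (hYmin ▸ hqsep) (by
    rw [hYmin, Module.finrank_fintype_fun_eq_card, Fintype.card_fin]; exact hqdeg)
  rw [Module.finrank_fintype_fun_eq_card, Fintype.card_fin] at hI
  -- a basis of the centralizer of x
  set m := Module.finrank k (LinearMap.ker (adL k x)) with hm
  let c := Module.finBasis k (LinearMap.ker (adL k x))
  have hc : LinearIndependent k (fun j => (c j : B)) :=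
    c.linearIndependent.map' (LinearMap.ker (adL k x)).subtype (Submodule.ker_subtype _)
  have hcK := li_one_tmul (K := K) _ hc
  have hcK' : LinearIndependent K (fun j => e' ((1 : K) ⊗ₜ[k] (c j : B))) :=
    hcK.map' e'.toLinearMap (LinearMap.ker_eq_bot.2 e'.injective)
  have hmem : ∀ j, e' ((1 : K) ⊗ₜ[k] (c j : B)) ∈ LinearMap.ker (adL K Y) := by
    intro j
    rw [mem_ker_adL]
    have hcj : x * (c j : B) = (c j : B) * x := (mem_ker_adL k).1 (c j).2
    show e' y * e' _ = e' _ * e' y
    rw [← map_mul, ← map_mul]
    congr 1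
    simp only [y, Algebra.TensorProduct.tmul_mul_tmul, one_mul, hcj]
  have hli2 : LinearIndependent K
      (fun j => (⟨e' ((1 : K) ⊗ₜ[k] (c j : B)), hmem j⟩ : LinearMap.ker (adL K Y))) :=
    LinearIndependent.of_comp (LinearMap.ker (adL K Y)).subtype hcK'
  have := hli2.fintype_card_le_finrank
  rw [Fintype.card_fin] at this
  exact this.trans hI

end PartII

section PartIII

open IsLocalRing

variable {R : Type u} [CommRing R] [IsLocalRing R] {A : Type u} [Ring A] [Algebra R A]
  [IsAzumaya R A]

theorem lTensor_adL (ξ : A) (z : ResidueField R ⊗[R] A) :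
    (adL R ξ).lTensor (ResidueField R) z =
      adL (ResidueField R) ((1 : ResidueField R) ⊗ₜ[R] ξ) z := by
  induction z using TensorProduct.induction_on with
  | zero => simp
  | add a b ha hb => simp only [map_add, ha, hb]
  | tmul c a =>
    simp only [LinearMap.lTensor_tmul, adL_apply, Algebra.TensorProduct.tmul_mul_tmul, one_mul,
      mul_one, TensorProduct.tmul_sub]

theorem main (r : ℕ) (hA : Module.finrank R A = r ^ 2) (ξ : A)
    (hsep : Algebra.IsSeparable (ResidueField R) (Algebra.adjoin (ResidueField R)
      ({(1 : ResidueField R) ⊗ₜ[R] ξ} : Set (ResidueField R ⊗[R] A))))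
    (hrk : Module.finrank (ResidueField R) (Algebra.adjoin (ResidueField R)
      ({(1 : ResidueField R) ⊗ₜ[R] ξ} : Set (ResidueField R ⊗[R] A))) = r) :
    LinearIndependent R (fun i : Fin r => ξ ^ (i : ℕ)) ∧
      ξ ^ r ∈ Submodule.span R (Set.range (fun i : Fin r => ξ ^ (i : ℕ))) := by
  classical
  haveI : Module.Finite R A := inferInstance
  haveI : Module.Projective R A := inferInstance
  haveI : Module.Free R A := Module.free_of_flat_of_isLocalRing
  haveI : IsAzumaya (ResidueField R) (ResidueField R ⊗[R] A) :=
    Groth.Agent.Lib.LeadAzumaya.isAzumaya_baseChange (ResidueField R) A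
  have hB : Module.finrank (ResidueField R) (ResidueField R ⊗[R] A) = r ^ 2 := by
    rw [Module.finrank_baseChange, hA]
  let x : ResidueField R ⊗[R] A := (1 : ResidueField R) ⊗ₜ[R] ξ
  have hx : IsIntegral (ResidueField R) x := IsIntegral.of_finite _ x
  have hdeg : (minpoly (ResidueField R) x).natDegree = r := by
    rw [← finrank_adjoin_eq_natDegree x hx]; exact hrk
  have hcen : Module.finrank (ResidueField R) (LinearMap.ker (adL (ResidueField R) x)) ≤ r :=
    finrank_ker_adL_le_of_csa r hB x hsep hrk
  have hxpow : ∀ i : ℕ, x ^ i = (1 : ResidueField R) ⊗ₜ[R] (ξ ^ i) := fun i => by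
    simp only [x, Algebra.TensorProduct.tmul_pow, one_pow]
  let v : Fin r → A := fun i => ξ ^ (i : ℕ)
  have hvκ : LinearIndependent (ResidueField R) (fun i : Fin r => x ^ (i : ℕ)) :=
    hdeg ▸ linearIndependent_pow (K := ResidueField R) x
  have hvκ' : LinearIndependent (ResidueField R)
      (TensorProduct.mk R (ResidueField R) A 1 ∘ v) := by
    convert hvκ using 1
    ext i
    simp only [Function.comp_apply, TensorProduct.mk_apply, v, hxpow]
  have hvR : LinearIndependent R v := Module.IsLocalRing.linearIndependent_of_flat v hvκ'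
  refine ⟨hvR, ?_⟩
  let l : (Fin r → R) →ₗ[R] A := Fintype.linearCombination R v
  have hl_single : ∀ i, l (Pi.single i 1) = v i := fun i => by
    simp only [l, Fintype.linearCombination_apply_single, one_smul]
  have hrange : LinearMap.range l = Submodule.span R (Set.range v) :=
    Fintype.range_linearCombination R v
  -- `κ ⊗ l` is injective
  have hlinj : Function.Injective (l.lTensor (ResidueField R)) := by
    let E := TensorProduct.piScalarRight R (ResidueField R) (ResidueField R) (Fin r)
    have hcomp : ∀ z, l.lTensor (ResidueField R) z =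
        Fintype.linearCombination (ResidueField R) (fun i : Fin r => x ^ (i : ℕ)) (E z) := by
      intro z
      induction z using TensorProduct.induction_on with
      | zero => simp
      | add a b ha hb => simp only [map_add, ha, hb]
      | tmul c f =>
        simp only [LinearMap.lTensor_tmul, E, TensorProduct.piScalarRight_apply,
          TensorProduct.piScalarRightHom_tmul, Fintype.linearCombination_apply, l, v, hxpow,
          TensorProduct.tmul_sum, TensorProduct.tmul_smul, TensorProduct.smul_tmul',
          smul_eq_mul, mul_one]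
    intro z z' h
    rw [hcomp, hcomp] at h
    exact E.injective (hvκ.fintypeLinearCombination_injective h)
  obtain ⟨l', hl'⟩ := (IsLocalRing.split_injective_iff_lTensor_residueField_injective l).2 hlinj
  -- the combined map
  let g : A →ₗ[R] A × (Fin r → R) := (adL R ξ).prod l'
  have hker : Submodule.span R (Set.range v) ≤ LinearMap.ker (adL R ξ) := by
    rw [Submodule.span_le]
    rintro _ ⟨i, rfl⟩
    rw [SetLike.mem_coe, mem_ker_adL]
    exact (pow_succ' ξ i).symm.trans (pow_succ ξ i)
  have hkerκ : LinearMap.ker (adL (ResidueField R) x) =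
      Submodule.span (ResidueField R) (Set.range fun i : Fin r => x ^ (i : ℕ)) := by
    symm
    apply Submodule.eq_of_le_of_finrank_le
    · rw [Submodule.span_le]
      rintro _ ⟨i, rfl⟩
      rw [SetLike.mem_coe, mem_ker_adL]
      exact (pow_succ' x i).symm.trans (pow_succ x i)
    · rw [finrank_span_eq_card hvκ, Fintype.card_fin]
      exact hcen
  have hspanκ : Submodule.span (ResidueField R) (Set.range fun i : Fin r => x ^ (i : ℕ)) ≤
      LinearMap.range (l.baseChange (ResidueField R)) := by
    rw [Submodule.span_le]
    rintro _ ⟨i, rfl⟩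
    refine ⟨(1 : ResidueField R) ⊗ₜ[R] Pi.single i 1, ?_⟩
    rw [LinearMap.baseChange_tmul, hl_single]
    exact (hxpow i).symm
  have hginj : Function.Injective (g.lTensor (ResidueField R)) := by
    rw [injective_iff_map_eq_zero]
    intro z hz
    have h1 : (adL R ξ).lTensor (ResidueField R) z = 0 := by
      have : ((LinearMap.fst R A (Fin r → R)) ∘ₗ g).lTensor (ResidueField R) z = 0 := by
        rw [LinearMap.lTensor_comp_apply, hz, map_zero]
      rwa [LinearMap.fst_prod] at this
    have h2 : l'.lTensor (ResidueField R) z = 0 := by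
      have : ((LinearMap.snd R A (Fin r → R)) ∘ₗ g).lTensor (ResidueField R) z = 0 := by
        rw [LinearMap.lTensor_comp_apply, hz, map_zero]
      rwa [LinearMap.snd_prod] at this
    rw [lTensor_adL] at h1
    have h3 : z ∈ LinearMap.ker (adL (ResidueField R) x) := h1
    rw [hkerκ] at h3
    obtain ⟨y, hy⟩ := hspanκ h3
    have hy' : l.lTensor (ResidueField R) y = z := hy
    rw [← hy', ← LinearMap.lTensor_comp_apply, hl', LinearMap.lTensor_id, LinearMap.id_apply] at h2
    rw [← hy', h2, map_zero]
  obtain ⟨g', hg'⟩ := (IsLocalRing.split_injective_iff_lTensor_residueField_injective g).2 hginj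
  have hgi : Function.Injective g :=
    Function.LeftInverse.injective (g := g') (fun a => LinearMap.congr_fun hg' a)
  have hl'l : ∀ y, l' (l y) = y := fun y => LinearMap.congr_fun hl' y
  have hc : g (ξ ^ r - l (l' (ξ ^ r))) = 0 := by
    apply Prod.ext
    · show adL R ξ (ξ ^ r - l (l' (ξ ^ r))) = 0
      rw [map_sub]
      have h1 : adL R ξ (ξ ^ r) = 0 := by
        rw [adL_apply, sub_eq_zero]
        exact (pow_succ' ξ r).symm.trans (pow_succ ξ r)
      have h2 : l (l' (ξ ^ r)) ∈ LinearMap.ker (adL R ξ) :=
        hker (hrange ▸ LinearMap.mem_range_self l _)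
      rw [h1, LinearMap.mem_ker.1 h2, sub_zero]
    · show l' (ξ ^ r - l (l' (ξ ^ r))) = 0
      rw [map_sub, hl'l, sub_self]
  have hc0 : ξ ^ r - l (l' (ξ ^ r)) = 0 := hgi (hc.trans (map_zero g).symm)
  rw [sub_eq_zero] at hc0
  rw [hc0, ← hrange]
  exact LinearMap.mem_range_self l _

end PartIII

end Groth.Agent.Lib.R2LeadAzReg
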