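import Mathlib
import Groth.Agent.Lib.R2LeadAzReg
import Groth.Agent.Lib.LeadCSA

/-!
# Existence of regular elements in central simple algebras
-/

set_option autoImplicit false

namespace Groth.Agent.Lib.R2LeadAzRegEx

open TensorProduct Polynomial
open Groth.Agent.Lib.R2LeadAzReg

section MinpolyBaseChange

theorem le_natDegree_minpoly_of_li {K B : Type*} [Field K] [Ring B] [Algebra K B] (y : B)
    (hy : IsIntegral K y) (d : ℕ) (hli : LinearIndependent K (fun i : Fin d => y ^ (i : ℕ))) :
    d ≤ (minpoly K y).natDegree := by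
  by_contra hlt
  push_neg at hlt
  -- `y ^ natDegree` is in the span of lower powers
  set m := (minpoly K y).natDegree with hm
  have h1 : y ^ m ∈ Submodule.span K (Set.range fun i : Fin m => y ^ (i : ℕ)) :=
    hy.mem_span_pow ⟨Polynomial.X ^ m, by simp⟩
  rw [Submodule.mem_span_range_iff_exists_fun] at h1
  obtain ⟨c, hc⟩ := h1
  -- build a relation among the `y ^ i`, `i < d`
  let g : Fin d → K := fun i =>
    if h : (i : ℕ) < m then c ⟨i, h⟩ else if (i : ℕ) = m then -1 else 0
  have hg : ∑ i, g i • y ^ (i : ℕ) = 0 := by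
    have e1 : ∑ i : Fin d, g i • y ^ (i : ℕ) =
        ∑ i ∈ Finset.range d, (if h : i < m then c ⟨i, h⟩ else if i = m then (-1 : K) else 0) •
          y ^ i := by
      rw [← Fin.sum_univ_eq_sum_range (fun i => (if h : i < m then c ⟨i, h⟩
        else if i = m then (-1 : K) else 0) • y ^ i) d]
    rw [e1, ← Finset.sum_subset (Finset.range_subset_range.2 (Nat.succ_le_of_lt hlt))]
    · rw [Finset.sum_range_succ]
      simp only [lt_irrefl, dite_false, if_true, neg_smul, one_smul]
      rw [← hc, ← Fin.sum_univ_eq_sum_range (fun i => (if h : i < m then c ⟨i, h⟩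
        else if i = m then (-1 : K) else 0) • y ^ i) m]
      have : ∀ i : Fin m, (if h : (i : ℕ) < m then c ⟨i, h⟩
          else if (i : ℕ) = m then (-1 : K) else 0) = c i := fun i => by
        rw [dif_pos i.2]
      simp only [this, add_neg_cancel]
    · intro i _ hi
      rw [Finset.mem_range, Nat.lt_succ_iff, not_le] at hi
      rw [dif_neg (Nat.lt_asymm hi), if_neg (Nat.ne_of_gt hi), zero_smul]
  have h2 := Fintype.linearIndependent_iff.1 hli g hg ⟨m, hlt⟩
  simp only [g, lt_irrefl, dite_false, if_true] at h2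
  exact absurd h2 (by simp)

variable {k : Type*} [Field k] {K : Type*} [Field K] [Algebra k K] {B : Type*} [Ring B]
  [Algebra k B]

theorem aeval_one_tmul (x : B) (f : k[X]) :
    aeval ((1 : K) ⊗ₜ[k] x) (f.map (algebraMap k K)) = (1 : K) ⊗ₜ[k] (aeval x f) := by
  rw [Polynomial.aeval_map_algebraMap]
  have : (1 : K) ⊗ₜ[k] x = (Algebra.TensorProduct.includeRight : B →ₐ[k] K ⊗[k] B) x := rfl
  rw [this, Polynomial.aeval_algHom_apply]
  rfl

theorem minpoly_one_tmul (x : B) (hx : IsIntegral k x) :
    minpoly K ((1 : K) ⊗ₜ[k] x) = (minpoly k x).map (algebraMap k K) := by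
  have hmonic : ((minpoly k x).map (algebraMap k K)).Monic := (minpoly.monic hx).map _
  have h0 : aeval ((1 : K) ⊗ₜ[k] x) ((minpoly k x).map (algebraMap k K)) = 0 := by
    rw [aeval_one_tmul, minpoly.aeval, TensorProduct.tmul_zero]
  have hy : IsIntegral K ((1 : K) ⊗ₜ[k] x) := ⟨_, hmonic, h0⟩
  have hdvd := minpoly.dvd K _ h0
  have hdeg : ((minpoly k x).map (algebraMap k K)).natDegree ≤
      (minpoly K ((1 : K) ⊗ₜ[k] x)).natDegree := by
    rw [natDegree_map]
    apply le_natDegree_minpoly_of_li _ hy
    have := li_one_tmul (K := K) (fun i : Fin (minpoly k x).natDegree => x ^ (i : ℕ))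
      (linearIndependent_pow (K := k) x)
    have hpow : ∀ i : ℕ, ((1 : K) ⊗ₜ[k] x) ^ i = (1 : K) ⊗ₜ[k] (x ^ i) := fun i => by
      simp only [Algebra.TensorProduct.tmul_pow, one_pow]
    simpa only [hpow] using this
  exact (Polynomial.eq_of_monic_of_dvd_of_natDegree_le (minpoly.monic hy) hmonic hdvd hdeg).symm

end MinpolyBaseChange

section Eigen

variable {K : Type*} [Field K] [IsAlgClosed K] {W : Type*} [AddCommGroup W] [Module K W]
  [FiniteDimensional K W]

theorem exists_eigenbasis (X : Module.End K W) (hsep : (minpoly K X).Separable)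
    (hdeg : Module.finrank K W ≤ (minpoly K X).natDegree) :
    ∃ (ι : Type) (_ : Fintype ι) (b : Module.Basis ι K W) (μ : ι → K),
      ∀ i, X.HasEigenvector (μ i) (b i) := by
  classical
  let ι := (minpoly K X).rootSet K
  have hcard : Fintype.card ι = (minpoly K X).natDegree :=
    Polynomial.card_rootSet_eq_natDegree hsep (IsAlgClosed.splits _)
  have hev : ∀ i : ι, X.HasEigenvalue (i : K) := by
    intro i
    apply Module.End.hasEigenvalue_of_isRoot
    have := i.2
    rw [Polynomial.mem_rootSet] at this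
    simpa [Polynomial.IsRoot, Polynomial.coe_aeval_eq_eval] using this.2
  choose v hv using fun i => (hev i).exists_hasEigenvector
  have hli : LinearIndependent K v :=
    Module.End.eigenvectors_linearIndependent' X (fun i : ι => (i : K)) Subtype.val_injective v hv
  have hle := hli.fintype_card_le_finrank
  have hcardW : Fintype.card ι = Module.finrank K W := le_antisymm hle (hcard ▸ hdeg)
  let b : Module.Basis ι K W := basisOfLinearIndependentOfCardEqFinrank' v hli hcardW
  have hb : ∀ i, b i = v i := fun i => by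
    simp only [b, coe_basisOfLinearIndependentOfCardEqFinrank']
  let e := Fintype.equivFin ι
  refine ⟨ULift.{0} (Fin (Fintype.card ι)), inferInstance,
    b.reindex (e.trans Equiv.ulift.symm), fun i => ((e.symm i.down : ι) : K), fun i => ?_⟩
  rw [Module.Basis.reindex_apply, hb]
  exact hv _

theorem separable_minpoly_aeval (X : Module.End K W) (hsep : (minpoly K X).Separable)
    (hdeg : Module.finrank K W ≤ (minpoly K X).natDegree) (f : K[X]) :
    (minpoly K (aeval X f)).Separable := by
  classical
  obtain ⟨ι, _, b, μ, hb⟩ := exists_eigenbasis X hsep hdeg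
  let s : Finset K := Finset.univ.image (fun i => f.eval (μ i))
  let g : K[X] := ∏ ν ∈ s, (Polynomial.X - Polynomial.C ν)
  have hgsep : g.Separable := by
    rw [Polynomial.separable_prod_X_sub_C_iff']
    intro x _ y _ h
    exact h
  have hZb : ∀ i, (aeval X f) (b i) = f.eval (μ i) • b i := fun i =>
    Module.End.aeval_apply_of_hasEigenvector (hb i)
  have hg0 : aeval (aeval X f) g = 0 := by
    apply b.ext
    intro i
    have hne : b i ≠ 0 := b.ne_zero i
    have hvec : (aeval X f).HasEigenvector (f.eval (μ i)) (b i) :=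
      ⟨Module.End.mem_eigenspace_iff.2 (hZb i), hne⟩
    rw [Module.End.aeval_apply_of_hasEigenvector hvec, LinearMap.zero_apply]
    have : g.eval (f.eval (μ i)) = 0 := by
      simp only [g, Polynomial.eval_prod, Polynomial.eval_sub, Polynomial.eval_X,
        Polynomial.eval_C]
      apply Finset.prod_eq_zero (i := f.eval (μ i))
      · exact Finset.mem_image.2 ⟨i, Finset.mem_univ _, rfl⟩
      · exact sub_self _
    rw [this, zero_smul]
  exact hgsep.of_dvd (minpoly.dvd K _ hg0)

end Eigen

section Del

variable {S : Type*} [CommRing S] {r : ℕ}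

/-- the matrix of traces of powers -/
def trMat (M : Matrix (Fin r) (Fin r) S) : Matrix (Fin r) (Fin r) S :=
  Matrix.of fun i j => Matrix.trace (M ^ ((i : ℕ) + (j : ℕ)))

/-- the discriminant-like quantity `det (tr (M^(i+j)))` -/
def Del (M : Matrix (Fin r) (Fin r) S) : S := (trMat M).det

theorem trMat_map {S' : Type*} [CommRing S'] (φ : S →+* S') (M : Matrix (Fin r) (Fin r) S) :
    φ.mapMatrix (trMat M) = trMat (φ.mapMatrix M) := by
  ext i j
  simp only [trMat, RingHom.mapMatrix_apply, Matrix.map_apply, Matrix.of_apply]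
  rw [← RingHom.mapMatrix_apply, ← map_pow]
  exact AddMonoidHom.map_trace φ.toAddMonoidHom _

theorem Del_map {S' : Type*} [CommRing S'] (φ : S →+* S') (M : Matrix (Fin r) (Fin r) S) :
    φ (Del M) = Del (φ.mapMatrix M) := by
  rw [Del, RingHom.map_det, trMat_map, Del]

theorem vecMul_trMat (Y : Matrix (Fin r) (Fin r) S) (c : Fin r → S) (j : Fin r) :
    (Matrix.vecMul c (trMat Y)) j =
      Matrix.trace ((∑ i, c i • Y ^ (i : ℕ)) * Y ^ (j : ℕ)) := by
  simp only [Matrix.vecMul, dotProduct, trMat, Matrix.of_apply, Finset.sum_mul,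
    Matrix.trace_sum, smul_mul_assoc, Matrix.trace_smul, smul_eq_mul, pow_add]

end Del

section DelField

variable {K : Type*} [Field K] {r : ℕ}

theorem li_pow_of_Del_ne_zero (Y : Matrix (Fin r) (Fin r) K) (h : Del Y ≠ 0) :
    LinearIndependent K (fun i : Fin r => Y ^ (i : ℕ)) := by
  rw [Fintype.linearIndependent_iff]
  intro c hc
  have h0 : Matrix.vecMul c (trMat Y) = 0 := by
    ext j
    rw [vecMul_trMat, hc, zero_mul, Matrix.trace_zero]
    rfl
  have := Matrix.eq_zero_of_vecMul_eq_zero h h0
  intro i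
  exact congrFun this i

theorem separable_of_Del_ne_zero [IsAlgClosed K] (Y : Matrix (Fin r) (Fin r) K) (h : Del Y ≠ 0) :
    (minpoly K Y).Separable ∧ (minpoly K Y).natDegree = r := by
  classical
  have hy : IsIntegral K Y := IsIntegral.of_finite K Y
  have hge : r ≤ (minpoly K Y).natDegree :=
    le_natDegree_minpoly_of_li Y hy r (li_pow_of_Del_ne_zero Y h)
  have hle : (minpoly K Y).natDegree ≤ r := by
    have := natDegree_le_of_dvd (Matrix.minpoly_dvd_charpoly Y) (Matrix.charpoly_monic Y).ne_zero
    rwa [Matrix.charpoly_natDegree_eq_dim, Fintype.card_fin] at this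
  have hdeg : (minpoly K Y).natDegree = r := le_antisymm hle hge
  refine ⟨?_, hdeg⟩
  by_contra hns
  have hq0 : minpoly K Y ≠ 0 := minpoly.ne_zero hy
  rw [← Polynomial.nodup_roots_iff_of_splits hq0 (IsAlgClosed.splits _),
    Multiset.nodup_iff_count_le_one] at hns
  push_neg at hns
  obtain ⟨a, ha⟩ := hns
  rw [Polynomial.count_roots] at ha
  have hdvd : (X - C a) ^ 2 ∣ minpoly K Y :=
    (Polynomial.le_rootMultiplicity_iff hq0).1 ha
  obtain ⟨q₁, hq₁⟩ := hdvd
  obtain ⟨f, hf⟩ : ∃ f : K[X], f = (X - C a) * q₁ := ⟨_, rfl⟩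
  have hqf : minpoly K Y = (X - C a) * f := by rw [hq₁, hf]; ring
  have hff : f * f = minpoly K Y * q₁ := by rw [hq₁, hf]; ring
  have hf0 : f ≠ 0 := by
    intro h0
    rw [h0, mul_zero] at hqf
    exact hq0 hqf
  have hfdeg : f.natDegree + 1 = (minpoly K Y).natDegree := by
    rw [hqf, natDegree_mul (X_sub_C_ne_zero a) hf0, natDegree_X_sub_C, add_comm]
  have hN0 : aeval Y f ≠ 0 := by
    intro h0
    have := minpoly.degree_le_of_ne_zero K Y hf0 h0
    rw [degree_eq_natDegree hq0, degree_eq_natDegree hf0] at this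
    have := Nat.cast_le.1 this
    omega
  have hNsum : aeval Y f = ∑ i : Fin r, f.coeff (i : ℕ) • Y ^ (i : ℕ) := by
    rw [Polynomial.aeval_eq_sum_range' (n := r) (by omega),
      Fin.sum_univ_eq_sum_range (fun i => f.coeff i • Y ^ i) r]
  have h0 : Matrix.vecMul (fun i : Fin r => f.coeff (i : ℕ)) (trMat Y) = 0 := by
    ext j
    rw [vecMul_trMat, ← hNsum]
    have hnil : IsNilpotent (aeval Y f * Y ^ (j : ℕ)) := by
      refine ⟨2, ?_⟩
      have e1 : aeval Y f * Y ^ (j : ℕ) = aeval Y (f * X ^ (j : ℕ)) := by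
        rw [map_mul, map_pow, aeval_X]
      rw [e1, ← map_pow]
      have e2 : (f * X ^ (j : ℕ)) ^ 2 = minpoly K Y * (q₁ * X ^ (2 * (j : ℕ))) := by
        rw [mul_pow, sq f, hff]; ring
      rw [e2, map_mul, minpoly.aeval, zero_mul]
    exact (Matrix.isNilpotent_trace_of_isNilpotent hnil).eq_zero
  have hc := Matrix.eq_zero_of_vecMul_eq_zero h h0
  apply hN0
  rw [hNsum]
  apply Finset.sum_eq_zero
  intro i _
  have := congrFun hc i
  simp only [Pi.zero_apply] at this
  rw [this, zero_smul]

theorem Del_diagonal_ne_zero (μ : Fin r → K) (hμ : Function.Injective μ) :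
    Del (Matrix.diagonal μ) ≠ 0 := by
  have h1 : trMat (Matrix.diagonal μ) = (Matrix.vandermonde μ).transpose * Matrix.vandermonde μ := by
    ext i j
    simp only [trMat, Matrix.of_apply, Matrix.diagonal_pow, Matrix.trace_diagonal, Pi.pow_apply]
    simp only [Matrix.mul_apply, Matrix.transpose_apply, Matrix.vandermonde_apply, pow_add]
  rw [Del, h1, Matrix.det_mul, Matrix.det_transpose]
  have := Matrix.det_vandermonde_ne_zero_iff.2 hμ
  exact mul_ne_zero this this

end DelField

section Adjoin

variable {k : Type*} [Field k] {B : Type*} [Ring B] [Algebra k B]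

theorem toSubmodule_adjoin_eq_span' (x : B) (hx : IsIntegral k x) :
    Subalgebra.toSubmodule (Algebra.adjoin k {x}) =
      Submodule.span k (Set.range fun i : Fin (minpoly k x).natDegree => x ^ (i : ℕ)) := by
  apply le_antisymm
  · intro y hy
    rw [Subalgebra.mem_toSubmodule, Algebra.adjoin_singleton_eq_range_aeval] at hy
    obtain ⟨f, rfl⟩ := hy
    exact hx.mem_span_pow ⟨f, rfl⟩
  · rw [Submodule.span_le]
    rintro _ ⟨i, rfl⟩
    exact pow_mem (Algebra.self_mem_adjoin_singleton k x) _

theorem finrank_adjoin_eq_natDegree' (x : B) (hx : IsIntegral k x) :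
    Module.finrank k (Algebra.adjoin k {x}) = (minpoly k x).natDegree := by
  have h1 : Module.finrank k (Algebra.adjoin k {x}) =
      Module.finrank k (Subalgebra.toSubmodule (Algebra.adjoin k {x})) := rfl
  rw [h1, toSubmodule_adjoin_eq_span' x hx,
    finrank_span_eq_card (linearIndependent_pow (K := k) x), Fintype.card_fin]

end Adjoin

section Split

variable {k : Type*} [Field k] {B : Type*} [Ring B] [Algebra k B]

theorem exists_algEquiv_matrix_baseChange [IsAzumaya k B] (r : ℕ)
    (hB : Module.finrank k B = r ^ 2) :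
    Nonempty ((AlgebraicClosure k ⊗[k] B) ≃ₐ[AlgebraicClosure k]
      Matrix (Fin r) (Fin r) (AlgebraicClosure k)) := by
  classical
  let K := AlgebraicClosure k
  haveI : IsAzumaya K (K ⊗[k] B) := Groth.Agent.Lib.LeadAzumaya.isAzumaya_baseChange K B
  haveI : IsSimpleRing (K ⊗[k] B) :=
    Groth.Agent.Lib.LeadAzumaya.isSimpleRing_of_isAzumaya_field (k := K) (A := K ⊗[k] B)
  obtain ⟨n, _, ⟨e⟩⟩ := IsSimpleRing.exists_algEquiv_matrix_of_isAlgClosed K (K ⊗[k] B)
  have hfr : Module.finrank K (K ⊗[k] B) = r ^ 2 := by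
    rw [Module.finrank_baseChange, hB]
  have hn : n = r := by
    have h1 : Module.finrank K (K ⊗[k] B) = n * n := by
      rw [LinearEquiv.finrank_eq e.toLinearEquiv, Module.finrank_matrix]
      simp
    rw [hfr, sq] at h1
    exact (Nat.mul_self_inj.1 h1).symm
  subst hn
  exact ⟨e⟩

theorem isSeparable_adjoin_of_separable [IsAzumaya k B] (r : ℕ)
    (hB : Module.finrank k B = r ^ 2) (x : B) (hsep : (minpoly k x).Separable)
    (hdeg : (minpoly k x).natDegree = r) : Algebra.IsSeparable k (Algebra.adjoin k {x}) := by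
  classical
  obtain ⟨e⟩ := exists_algEquiv_matrix_baseChange r hB
  let K := AlgebraicClosure k
  let e' : (K ⊗[k] B) ≃ₐ[K] Module.End K (Fin r → K) := e.trans Matrix.toLinAlgEquiv'
  haveI : Module.Finite k B := inferInstance
  have hx : IsIntegral k x := IsIntegral.of_finite k x
  let Y : Module.End K (Fin r → K) := e' ((1 : K) ⊗ₜ[k] x)
  have hYmin : minpoly K Y = (minpoly k x).map (algebraMap k K) := by
    rw [← minpoly_one_tmul x hx]
    exact minpoly.algHom_eq e'.toAlgHom e'.injective _
  have hYsep : (minpoly K Y).Separable := hYmin ▸ hsep.map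
  have hYdeg : Module.finrank K (Fin r → K) ≤ (minpoly K Y).natDegree := by
    rw [hYmin, natDegree_map, hdeg, Module.finrank_fintype_fun_eq_card, Fintype.card_fin]
  constructor
  intro z
  obtain ⟨f, hf⟩ : ∃ f : k[X], aeval x f = (z : B) := by
    have : (z : B) ∈ (aeval x : k[X] →ₐ[k] B).range := by
      rw [← Algebra.adjoin_singleton_eq_range_aeval]
      exact z.2
    exact this
  have h1 : minpoly k z = minpoly k (z : B) :=
    (minpoly.algHom_eq (Algebra.adjoin k {x}).val Subtype.val_injective z).symm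
  show (minpoly k z).Separable
  rw [h1, ← hf]
  have hz : IsIntegral k (aeval x f) := IsIntegral.of_finite k _
  rw [← Polynomial.separable_map (algebraMap k K), ← minpoly_one_tmul _ hz, ← aeval_one_tmul,
    ← minpoly.algHom_eq e'.toAlgHom e'.injective]
  have h2 : e'.toAlgHom (aeval ((1 : K) ⊗ₜ[k] x) (f.map (algebraMap k K))) =
      aeval Y (f.map (algebraMap k K)) :=
    (Polynomial.aeval_algHom_apply e'.toAlgHom _ _).symm
  rw [h2]
  exact separable_minpoly_aeval Y hYsep hYdeg _

end Split

section Generic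

variable {k : Type*} [Field k] {B : Type*} [Ring B] [Algebra k B]

theorem exists_Del_ne_zero [Infinite k] [Module.Finite k B] (K : Type*) [Field K] [Algebra k K]
    (r : ℕ) (e : (K ⊗[k] B) ≃ₐ[K] Matrix (Fin r) (Fin r) K) :
    ∃ x : B, Del (e ((1 : K) ⊗ₜ[k] x)) ≠ 0 := by
  classical
  haveI : Infinite K := Infinite.of_injective (algebraMap k K) (algebraMap k K).injective
  let ι := Module.Free.ChooseBasisIndex k B
  let a : Module.Basis ι k B := Module.Free.chooseBasis k B
  let Mi : ι → Matrix (Fin r) (Fin r) K := fun i => e ((1 : K) ⊗ₜ[k] a i)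
  let MM : Matrix (Fin r) (Fin r) (MvPolynomial ι K) :=
    ∑ i, (MvPolynomial.X i : MvPolynomial ι K) •
      (Mi i).map (MvPolynomial.C : K →+* MvPolynomial ι K)
  have heval : ∀ c : ι → K, (MvPolynomial.eval c).mapMatrix MM = ∑ i, c i • Mi i := by
    intro c
    ext p q
    simp only [MM, RingHom.mapMatrix_apply, Matrix.map_apply, Matrix.sum_apply, Matrix.smul_apply,
      map_sum, smul_eq_mul, map_mul, MvPolynomial.eval_X, MvPolynomial.eval_C]
  let μ : Fin r → K := fun i => Infinite.natEmbedding K (i : ℕ)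
  have hμ : Function.Injective μ := fun i j h =>
    Fin.val_injective ((Infinite.natEmbedding K).injective h)
  let bK : Module.Basis ι K (K ⊗[k] B) := a.baseChange K
  let c₀ : ι → K := fun i => bK.repr (e.symm (Matrix.diagonal μ)) i
  have hc₀ : ∑ i, c₀ i • Mi i = Matrix.diagonal μ := by
    have := bK.sum_repr (e.symm (Matrix.diagonal μ))
    have h2 := congrArg e this
    rw [map_sum, AlgEquiv.apply_symm_apply] at h2
    rw [← h2]
    apply Finset.sum_congr rfl
    intro i _
    rw [map_smul]
    simp only [bK, Module.Basis.baseChange_apply, c₀, Mi]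
  have hF : Del MM ≠ 0 := by
    intro h0
    have := Del_map (MvPolynomial.eval c₀) MM
    rw [h0, map_zero, heval, hc₀] at this
    exact Del_diagonal_ne_zero μ hμ this.symm
  by_contra hcon
  push_neg at hcon
  apply hF
  apply MvPolynomial.funext_set (fun _ : ι => Set.range (algebraMap k K))
    (fun _ => Set.infinite_range_of_injective (algebraMap k K).injective)
  intro c hc
  rw [map_zero]
  choose κ hκ using fun i => hc i (Set.mem_univ i)
  have h3 := hcon (∑ i, κ i • a i)
  rw [Del_map, heval]
  have h4 : ∑ i, c i • Mi i = e ((1 : K) ⊗ₜ[k] ∑ i, κ i • a i) := by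
    rw [TensorProduct.tmul_sum, map_sum]
    apply Finset.sum_congr rfl
    intro i _
    rw [← hκ i, TensorProduct.tmul_smul, ← algebraMap_smul K (κ i) ((1 : K) ⊗ₜ[k] a i), map_smul]
  rw [h4]
  exact h3

end Generic

section FiniteField

variable {k : Type*} [Field k]

theorem exists_algEquiv_matrix_of_finite [Finite k] {A : Type*} [Ring A] [Algebra k A]
    [Algebra.IsCentral k A] [IsSimpleRing A] [FiniteDimensional k A] :
    ∃ n : ℕ, n ≠ 0 ∧ Nonempty (A ≃ₐ[k] Matrix (Fin n) (Fin n) k) := by
  have : IsArtinianRing A := IsArtinianRing.of_finite k A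
  obtain ⟨n, hn, D, _, _, _, ⟨φ⟩⟩ := IsSimpleRing.exists_algEquiv_matrix_divisionRing_finite k A
  have : Algebra.IsCentral k (Matrix (Fin n) (Fin n) D) := Algebra.IsCentral.of_algEquiv k _ _ φ
  have : Algebra.IsCentral k D := Groth.Agent.Lib.LeadCSA.isCentral_of_matrix (n := n)
  haveI : Finite D := Module.finite_of_finite k
  have hcomm : ∀ a b : D, a * b = b * a := by
    letI : Field D := littleWedderburn D
    intro a b
    exact mul_comm a b
  have hbij : Function.Bijective (Algebra.ofId k D) := by
    refine ⟨(algebraMap k D).injective, fun d => ?_⟩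
    have h1 : d ∈ Subalgebra.center k D := by
      rw [Subalgebra.mem_center_iff]
      intro b
      exact hcomm b d
    rw [Algebra.IsCentral.center_eq_bot] at h1
    exact Algebra.mem_bot.mp h1
  let g : k ≃ₐ[k] D := AlgEquiv.ofBijective (Algebra.ofId k D) hbij
  exact ⟨n, hn.ne, ⟨φ.trans (g.symm.mapMatrix (m := Fin n))⟩⟩

theorem exists_separable_monic (n : ℕ) (hn : n ≠ 0) :
    ∃ P : k[X], P.Monic ∧ P.natDegree = n ∧ P.Separable := by
  by_cases h : (n : k) = 0
  · have hn2 : 2 ≤ n := by
      by_contra hlt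
      push_neg at hlt
      have h1 : n = 1 := by omega
      subst h1
      simp at h
    have hd1 : (X + 1 : k[X]).natDegree = 1 := by
      have := natDegree_X_add_C (1 : k)
      rwa [map_one] at this
    have hd : (X + 1 : k[X]).degree < (n : WithBot ℕ) := by
      have h1 : (X + 1 : k[X]).degree = 1 := by
        have := degree_X_add_C (1 : k)
        rwa [map_one] at this
      rw [h1]
      exact_mod_cast hn2
    refine ⟨X ^ n - (X + 1), monic_X_pow_sub hd, ?_, ?_⟩
    · rw [natDegree_sub_eq_left_of_natDegree_lt, natDegree_X_pow]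
      rw [natDegree_X_pow, hd1]
      omega
    · rw [separable_def]
      have hder : derivative (X ^ n - (X + 1) : k[X]) = -1 := by
        simp only [derivative_sub, derivative_X_pow, derivative_add, derivative_X, derivative_one,
          add_zero, h, map_zero, zero_mul, zero_sub]
      rw [hder]
      exact ⟨0, -1, by ring⟩
  · refine ⟨X ^ n - C 1, monic_X_pow_sub_C 1 hn, natDegree_X_pow_sub_C, ?_⟩
    exact separable_X_pow_sub_C (1 : k) h one_ne_zero

theorem exists_matrix_minpoly (n : ℕ) (P : k[X]) (hP : P.Monic) (hdeg : P.natDegree = n) :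
    ∃ M : Matrix (Fin n) (Fin n) k, minpoly k M = P := by
  classical
  have hP0 : P ≠ 0 := hP.ne_zero
  let pb := AdjoinRoot.powerBasis hP0
  have hdim : pb.dim = n := hdeg
  let b : Module.Basis (Fin n) k (AdjoinRoot P) := pb.basis.reindex (finCongr hdim)
  let T : Module.End k (AdjoinRoot P) ≃ₐ[k] Matrix (Fin n) (Fin n) k := LinearMap.toMatrixAlgEquiv b
  let L : AdjoinRoot P →ₐ[k] Module.End k (AdjoinRoot P) := Algebra.lmul k (AdjoinRoot P)
  refine ⟨T (L (AdjoinRoot.root P)), ?_⟩
  have h1 : minpoly k (T (L (AdjoinRoot.root P))) = minpoly k (AdjoinRoot.root P) :=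
    minpoly.algHom_eq (T.toAlgHom.comp L) (T.injective.comp Algebra.lmul_injective) _
  rw [h1, AdjoinRoot.minpoly_root hP0, hP.leadingCoeff, inv_one, map_one, mul_one]

end FiniteField

section Main

universe u v

theorem main (k : Type u) [Field k] (A : Type v) [Ring A] [Algebra k A] [Algebra.IsCentral k A]
    [IsSimpleRing A] [FiniteDimensional k A] (r : ℕ) (hA : Module.finrank k A = r ^ 2) :
    ∃ x : A, Algebra.IsSeparable k (Algebra.adjoin k ({x} : Set A)) ∧
      Module.finrank k (Algebra.adjoin k ({x} : Set A)) = r := by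
  classical
  haveI : Nontrivial A := inferInstance
  haveI : IsAzumaya k A := { bij := Groth.Agent.Lib.LeadCSA.mulLeftRight_bijective }
  suffices ∃ x : A, (minpoly k x).Separable ∧ (minpoly k x).natDegree = r by
    obtain ⟨x, hs, hd⟩ := this
    exact ⟨x, isSeparable_adjoin_of_separable r hA x hs hd, by
      rw [finrank_adjoin_eq_natDegree' x (IsIntegral.of_finite k x), hd]⟩
  rcases finite_or_infinite k with hfin | hinf
  · obtain ⟨n, hn, ⟨φ⟩⟩ := exists_algEquiv_matrix_of_finite (k := k) (A := A)
    have hnr : n = r := by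
      have h1 : Module.finrank k A = n * n := by
        rw [LinearEquiv.finrank_eq φ.toLinearEquiv, Module.finrank_matrix]
        simp
      rw [hA, sq] at h1
      exact (Nat.mul_self_inj.1 h1).symm
    subst hnr
    obtain ⟨P, hPm, hPd, hPs⟩ := exists_separable_monic (k := k) n hn
    obtain ⟨M, hM⟩ := exists_matrix_minpoly n P hPm hPd
    refine ⟨φ.symm M, ?_, ?_⟩
    · rw [show minpoly k (φ.symm M) = minpoly k M from
        minpoly.algHom_eq φ.symm.toAlgHom φ.symm.injective M, hM]
      exact hPs
    · rw [show minpoly k (φ.symm M) = minpoly k M from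
        minpoly.algHom_eq φ.symm.toAlgHom φ.symm.injective M, hM]
      exact hPd
  · obtain ⟨e⟩ := exists_algEquiv_matrix_baseChange r hA
    obtain ⟨x, hx⟩ := exists_Del_ne_zero (AlgebraicClosure k) r e
    obtain ⟨hs, hd⟩ := separable_of_Del_ne_zero _ hx
    have hxi : IsIntegral k x := IsIntegral.of_finite k x
    have h1 : minpoly (AlgebraicClosure k) (e ((1 : AlgebraicClosure k) ⊗ₜ[k] x)) =
        (minpoly k x).map (algebraMap k (AlgebraicClosure k)) := by
      rw [← minpoly_one_tmul x hxi]
      exact minpoly.algHom_eq e.toAlgHom e.injective _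
    rw [h1] at hs hd
    refine ⟨x, (Polynomial.separable_map _).1 hs, ?_⟩
    rwa [natDegree_map] at hd

end Main

end Groth.Agent.Lib.R2LeadAzRegEx
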