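import Mathlib
import Groth.Agent.Lib.R2LeadAzReg
import Groth.Agent.Lib.R2LeadAzRegEx
import Groth.Agent.Lib.Helper3HenselM

/-!
# Maximal étale subalgebras of Azumaya algebras over local rings
-/

set_option autoImplicit false

namespace Groth.Agent.Lib.R2LeadAzMaxEt

open TensorProduct Polynomial IsLocalRing
open Groth.Agent.Lib.R2LeadAzReg Groth.Agent.Lib.R2LeadAzRegEx

universe u

section General

variable {R : Type*} [CommRing R] {S : Type*} [CommRing S] [Algebra R S] {A : Type*} [Ring A]
  [Algebra R A]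

theorem aeval_one_tmul' (x : A) (f : R[X]) :
    aeval ((1 : S) ⊗ₜ[R] x) (f.map (algebraMap R S)) = (1 : S) ⊗ₜ[R] (aeval x f) := by
  rw [Polynomial.aeval_map_algebraMap]
  have : (1 : S) ⊗ₜ[R] x = (Algebra.TensorProduct.includeRight : A →ₐ[R] S ⊗[R] A) x := rfl
  rw [this, Polynomial.aeval_algHom_apply]
  rfl

/-- the algebra map `R[X]/(P) → A`, `root ↦ ξ`, for a possibly noncommutative `A` -/
noncomputable def liftNC (P : R[X]) (ξ : A) (h : aeval ξ P = 0) : AdjoinRoot P →ₐ[R] A :=
  Ideal.Quotient.liftₐ (Ideal.span {P}) (aeval ξ) (by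
    intro a ha
    rw [Ideal.mem_span_singleton] at ha
    obtain ⟨q, rfl⟩ := ha
    rw [map_mul, h, zero_mul])

theorem liftNC_mk (P : R[X]) (ξ : A) (h : aeval ξ P = 0) (f : R[X]) :
    liftNC P ξ h (AdjoinRoot.mk P f) = aeval ξ f := rfl

theorem liftNC_root_pow (P : R[X]) (ξ : A) (h : aeval ξ P = 0) (i : ℕ) :
    liftNC P ξ h (AdjoinRoot.root P ^ i) = ξ ^ i := by
  rw [map_pow]
  congr 1
  have : AdjoinRoot.root P = AdjoinRoot.mk P X := rfl
  rw [this, liftNC_mk, aeval_X]

end General

section Inj

theorem injective_of_basis_li {K V V' ι : Type*} [Field K] [AddCommGroup V] [Module K V]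
    [AddCommGroup V'] [Module K V'] [Fintype ι] (b : Module.Basis ι K V) (f : V →ₗ[K] V')
    (h : LinearIndependent K (fun i => f (b i))) : Function.Injective f := by
  rw [injective_iff_map_eq_zero]
  intro v hv
  rw [← b.sum_repr v, map_sum] at hv
  simp only [map_smul] at hv
  have := Fintype.linearIndependent_iff.1 h _ hv
  rw [← b.sum_repr v]
  apply Finset.sum_eq_zero
  intro i _
  rw [this i, zero_smul]

end Inj

section Main

variable (R : Type u) [CommRing R] [IsLocalRing R] (A : Type u) [Ring A] [Algebra R A]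
  [IsAzumaya R A]

theorem main (r : ℕ) (hA : Module.finrank R A = r ^ 2) :
    ∃ (E : Type u) (_ : CommRing E) (_ : Algebra R E), Algebra.Etale R E ∧ Module.Finite R E ∧
      Module.Free R E ∧ Module.finrank R E = r ∧ ∃ u : E →ₐ[R] A,
        Function.Injective (u.toLinearMap.lTensor (ResidueField R)) := by
  classical
  haveI : Module.Finite R A := inferInstance
  haveI : Module.Projective R A := inferInstance
  haveI : Module.Free R A := Module.free_of_flat_of_isLocalRing
  haveI : IsAzumaya (ResidueField R) (ResidueField R ⊗[R] A) :=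
    Groth.Agent.Lib.LeadAzumaya.isAzumaya_baseChange (ResidueField R) A
  haveI : IsSimpleRing (ResidueField R ⊗[R] A) :=
    Groth.Agent.Lib.LeadAzumaya.isSimpleRing_of_isAzumaya_field (k := ResidueField R)
      (A := ResidueField R ⊗[R] A)
  have hB : Module.finrank (ResidueField R) (ResidueField R ⊗[R] A) = r ^ 2 := by
    rw [Module.finrank_baseChange, hA]
  obtain ⟨x, hsep, hrk⟩ := Groth.Agent.Lib.R2LeadAzRegEx.main (ResidueField R)
    (ResidueField R ⊗[R] A) r hB
  obtain ⟨ξ, hξ⟩ := TensorProduct.mk_surjective R A (ResidueField R)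
    Ideal.Quotient.mk_surjective x
  have hξ' : (1 : ResidueField R) ⊗ₜ[R] ξ = x := hξ
  subst hξ'
  obtain ⟨hli, hmem⟩ := Groth.Agent.Lib.R2LeadAzReg.main r hA ξ hsep hrk
  rw [Submodule.mem_span_range_iff_exists_fun] at hmem
  obtain ⟨c, hc⟩ := hmem
  -- the polynomial
  let Q : R[X] := ∑ i : Fin r, C (c i) * X ^ (i : ℕ)
  have hQdeg : Q.degree < (r : WithBot ℕ) := degree_sum_fin_lt c
  let P : R[X] := X ^ r - Q
  have hPm : P.Monic := monic_X_pow_sub hQdeg
  have hPdeg : P.natDegree = r := by
    apply natDegree_eq_of_degree_eq_some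
    rw [degree_sub_eq_left_of_degree_lt (by rwa [degree_X_pow]), degree_X_pow]
  have hPξ : aeval ξ P = 0 := by
    simp only [P, Q, map_sub, map_pow, aeval_X, map_sum, map_mul, aeval_C]
    rw [sub_eq_zero, ← hc]
    apply Finset.sum_congr rfl
    intro i _
    rw [Algebra.smul_def]
  -- residue polynomial is the minimal polynomial
  let x : ResidueField R ⊗[R] A := (1 : ResidueField R) ⊗ₜ[R] ξ
  have hx : IsIntegral (ResidueField R) x := IsIntegral.of_finite _ x
  have hmdeg : (minpoly (ResidueField R) x).natDegree = r := by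
    rw [← finrank_adjoin_eq_natDegree x hx]; exact hrk
  have hmsep : (minpoly (ResidueField R) x).Separable := separable_minpoly_of_adjoin x hsep
  have hPmap : P.map (algebraMap R (ResidueField R)) = minpoly (ResidueField R) x := by
    have h0 : aeval x (P.map (algebraMap R (ResidueField R))) = 0 := by
      rw [aeval_one_tmul', hPξ, TensorProduct.tmul_zero]
    refine Polynomial.eq_of_monic_of_dvd_of_natDegree_le (minpoly.monic hx) (hPm.map _)
      (minpoly.dvd _ _ h0) ?_
    rw [hmdeg, hPm.natDegree_map, hPdeg]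
  have hPsep : (P.map (residue R)).Separable := by
    have : residue R = algebraMap R (ResidueField R) := rfl
    rw [this, hPmap]
    exact hmsep
  refine ⟨AdjoinRoot P, inferInstance, inferInstance,
    Groth.Agent.Lib.Helper3.Hensel.etale_adjoinRoot P hPm
      (Groth.Agent.Lib.Helper3.Hensel.isUnit_mk_derivative P hPm hPsep),
    hPm.finite_adjoinRoot, hPm.free_adjoinRoot, ?_, liftNC P ξ hPξ, ?_⟩
  · rw [(AdjoinRoot.powerBasis' hPm).finrank, AdjoinRoot.powerBasis'_dim, hPdeg]
  · -- injectivity on the special fibre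
    let b : Module.Basis (Fin P.natDegree) R (AdjoinRoot P) := (AdjoinRoot.powerBasis' hPm).basis
    let bκ : Module.Basis (Fin P.natDegree) (ResidueField R) (ResidueField R ⊗[R] AdjoinRoot P) :=
      b.baseChange (ResidueField R)
    have hb : ∀ i, b i = AdjoinRoot.root P ^ (i : ℕ) := fun i => by
      show (AdjoinRoot.powerBasis' hPm).basis i = _
      rw [PowerBasis.basis_eq_pow]
      rfl
    have hcoe : ⇑((liftNC P ξ hPξ).toLinearMap.lTensor (ResidueField R)) =
        ⇑((liftNC P ξ hPξ).toLinearMap.baseChange (ResidueField R)) := rfl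
    rw [hcoe]
    apply injective_of_basis_li bκ
    have hxpow : ∀ i : ℕ, x ^ i = (1 : ResidueField R) ⊗ₜ[R] (ξ ^ i) := fun i => by
      simp only [x, Algebra.TensorProduct.tmul_pow, one_pow]
    have : (fun i : Fin P.natDegree => ((liftNC P ξ hPξ).toLinearMap.baseChange (ResidueField R))
        (bκ i)) = fun i : Fin P.natDegree => x ^ (i : ℕ) := by
      funext i
      simp only [bκ, Module.Basis.baseChange_apply, LinearMap.baseChange_tmul, hb,
        AlgHom.toLinearMap_apply, liftNC_root_pow, hxpow]
    rw [this, hPdeg, ← hmdeg]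
    exact linearIndependent_pow (K := ResidueField R) x

end Main

end Groth.Agent.Lib.R2LeadAzMaxEt
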