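import Mathlib
import Groth.Agent.Lib.LeadAzumaya
import Groth.Agent.Lib.LeadAzumayaLocal

/-!
# Splitting an Azumaya algebra over a local ring by a maximal étale subalgebra
-/

set_option autoImplicit false

namespace Groth.Agent.Lib.R2LeadAzSplit

open TensorProduct

universe u

section Nakayama

variable {E : Type*} [CommRing E] {N M : Type*} [AddCommGroup N] [Module E N] [AddCommGroup M]
  [Module E M]

/-- a linear map into a finite module which is surjective modulo every maximal ideal is
surjective -/
theorem surjective_of_forall_maximal [Module.Finite E M] (f : N →ₗ[E] M)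
    (h : ∀ P : Ideal E, P.IsMaximal → Function.Surjective (f.lTensor (E ⧸ P))) :
    Function.Surjective f := by
  rw [← LinearMap.range_eq_top]
  set Q := M ⧸ LinearMap.range f with hQ
  -- `⊤ ≤ P • ⊤` in `Q` for every maximal `P`
  have hP : ∀ P : Ideal E, P.IsMaximal → (⊤ : Submodule E Q) ≤ P • (⊤ : Submodule E Q) := by
    intro P hPm q _
    obtain ⟨m, rfl⟩ := Submodule.Quotient.mk_surjective _ q
    obtain ⟨z, hz⟩ := h P hPm ((1 : E ⧸ P) ⊗ₜ[E] m)
    obtain ⟨n, rfl⟩ := TensorProduct.mk_surjective E N (E ⧸ P) Ideal.Quotient.mk_surjective z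
    have h1 : (1 : E ⧸ P) ⊗ₜ[E] (f n - m) = 0 := by
      rw [TensorProduct.tmul_sub, sub_eq_zero, ← hz]
      simp
    have h2 : f n - m ∈ P • (⊤ : Submodule E M) := by
      have := congrArg (TensorProduct.quotTensorEquivQuotSMul M P) h1
      rw [map_zero, ← map_one (Ideal.Quotient.mk P),
        TensorProduct.quotTensorEquivQuotSMul_mk_tmul, one_smul] at this
      exact (Submodule.Quotient.mk_eq_zero _).1 this
    have h3 : (LinearMap.range f).mkQ (f n - m) ∈ P • (⊤ : Submodule E Q) := by
      have := Submodule.mem_map_of_mem (f := (LinearMap.range f).mkQ) h2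
      rw [Submodule.map_smul''] at this
      exact Submodule.smul_mono le_rfl le_top this
    have h4 : (LinearMap.range f).mkQ (f n - m) = - Submodule.Quotient.mk m := by
      rw [map_sub, Submodule.mkQ_apply, Submodule.mkQ_apply,
        (Submodule.Quotient.mk_eq_zero _).2 (LinearMap.mem_range_self f n), zero_sub]
    rw [h4] at h3
    have h5 := (P • (⊤ : Submodule E Q)).neg_mem h3
    rwa [neg_neg] at h5
  -- the annihilator of `Q` is not contained in any maximal ideal
  have hann : (Module.annihilator E Q) = ⊤ := by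
    by_contra hne
    obtain ⟨P, hPm, hle⟩ := Ideal.exists_le_maximal _ hne
    obtain ⟨r, hr, hr0⟩ := Submodule.exists_sub_one_mem_and_smul_eq_zero_of_fg_of_le_smul P
      (⊤ : Submodule E Q) Module.Finite.fg_top (hP P hPm)
    have h1 : r ∈ Module.annihilator E Q := by
      rw [Module.mem_annihilator]
      intro q
      exact hr0 q Submodule.mem_top
    have h2 : r ∈ P := hle h1
    have h3 : (1 : E) ∈ P := by
      have := P.sub_mem h2 hr
      simpa using this
    exact hPm.ne_top ((Ideal.eq_top_iff_one P).2 h3)
  have h1 : (1 : E) ∈ Module.annihilator E Q := by rw [hann]; trivial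
  rw [Module.mem_annihilator] at h1
  rw [eq_top_iff]
  intro m _
  have := h1 (Submodule.Quotient.mk m)
  rw [one_smul] at this
  exact (Submodule.Quotient.mk_eq_zero _).1 this

end Nakayama

section Setup

variable {R : Type*} [CommRing R] {E : Type*} [CommRing E] [Algebra R E] {A : Type*} [Ring A]
  [Algebra R A] (u : E →ₐ[R] A) [Module E A] [IsScalarTower R E A]
  (hmod : ∀ (e : E) (a : A), e • a = a * u e)

include hmod in
/-- left multiplication by `a` as an `E`-linear map -/
theorem lmul_smul (a : A) (e : E) (y : A) : a * (e • y) = e • (a * y) := by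
  rw [hmod, hmod, mul_assoc]

/-- left multiplication by `a` as an `E`-linear map -/
noncomputable def lmulE (a : A) : A →ₗ[E] A where
  toFun y := a * y
  map_add' y z := mul_add a y z
  map_smul' e y := lmul_smul u hmod a e y

@[simp] theorem lmulE_apply (a y : A) : lmulE u hmod a y = a * y := rfl

/-- left multiplication as an algebra map `A → End_E(A)` -/
noncomputable def lmulHom : A →ₐ[R] Module.End E A where
  toFun a := lmulE u hmod a
  map_one' := by ext y; simp
  map_mul' a b := by ext y; simp [mul_assoc]
  map_zero' := by ext y; simp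
  map_add' a b := by ext y; simp [add_mul]
  commutes' r := by
    ext y
    simp [Algebra.smul_def]

@[simp] theorem lmulHom_apply (a y : A) : lmulHom u hmod a y = a * y := rfl

/-- the canonical map `E ⊗ A → End_E(A)`, `e ⊗ a ↦ (y ↦ e • (a y))` -/
noncomputable def phi : (E ⊗[R] A) →ₐ[E] Module.End E A :=
  Algebra.TensorProduct.lift (Algebra.ofId E (Module.End E A)) (lmulHom u hmod) (by
    intro e a
    ext y
    simp [Algebra.ofId_apply, Module.algebraMap_end_apply])

@[simp] theorem phi_tmul (e : E) (a y : A) : phi u hmod (e ⊗ₜ[R] a) y = e • (a * y) := by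
  simp [phi, Algebra.ofId_apply, Module.algebraMap_end_apply]

variable (L : Type*) [CommRing L] [Algebra E L]

/-- the map `L ⊗ (E ⊗ A) → End_L(L ⊗_E A)` -/
noncomputable def psi : (L ⊗[E] (E ⊗[R] A)) →ₐ[L] Module.End L (L ⊗[E] A) :=
  (LinearMap.tensorProductEnd E L A).comp
    (Algebra.TensorProduct.map (AlgHom.id L L) (phi u hmod))

theorem psi_apply (z : L ⊗[E] (E ⊗[R] A)) :
    psi u hmod L z = LinearMap.tensorProductEnd E L A ((phi u hmod).toLinearMap.lTensor L z) := by
  induction z using TensorProduct.induction_on with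
  | zero => simp
  | add a b ha hb => simp only [map_add, ha, hb]
  | tmul l b => simp [psi]

end Setup

section PsiInj

variable {R : Type*} [CommRing R] {E : Type*} [CommRing E] [Algebra R E] {A : Type*} [Ring A]
  [Algebra R A] [IsAzumaya R A] (u : E →ₐ[R] A) [Module E A] [IsScalarTower R E A]
  (hmod : ∀ (e : E) (a : A), e • a = a * u e) (L : Type*) [Field L] [Algebra E L]

theorem psi_injective [Nontrivial (L ⊗[E] A)] : Function.Injective (psi u hmod L) := by
  haveI : IsAzumaya E (E ⊗[R] A) := Groth.Agent.Lib.LeadAzumaya.isAzumaya_baseChange E A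
  haveI : IsAzumaya L (L ⊗[E] (E ⊗[R] A)) :=
    Groth.Agent.Lib.LeadAzumaya.isAzumaya_baseChange L (E ⊗[R] A)
  haveI : IsSimpleRing (L ⊗[E] (E ⊗[R] A)) :=
    Groth.Agent.Lib.LeadAzumaya.isSimpleRing_of_isAzumaya_field (k := L)
      (A := L ⊗[E] (E ⊗[R] A))
  exact RingHom.injective (psi u hmod L).toRingHom

theorem finrank_source [Module.Free R A] (r : ℕ) (hA : Module.finrank R A = r ^ 2) :
    Module.finrank L (L ⊗[E] (E ⊗[R] A)) = r ^ 2 := by
  haveI : Module.Finite R A := inferInstance
  haveI : Nontrivial E := (algebraMap E L).domain_nontrivial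
  haveI : Nontrivial R := (algebraMap R E).domain_nontrivial
  rw [Module.finrank_baseChange, Module.finrank_baseChange, hA]

include hmod in
theorem le_finrank [Module.Free R A] [Module.Finite E A] [Nontrivial (L ⊗[E] A)] (r : ℕ)
    (hA : Module.finrank R A = r ^ 2) : r ≤ Module.finrank L (L ⊗[E] A) := by
  have h1 := LinearMap.finrank_le_finrank_of_injective (f := (psi u hmod L).toLinearMap)
    (psi_injective u hmod L)
  rw [finrank_source L r hA, Module.finrank_linearMap, ← sq] at h1
  exact (Nat.pow_le_pow_iff_left (by norm_num)).1 h1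

end PsiInj

section FieldLevel

variable {κ : Type*} [Field κ] {E : Type*} [CommRing E] [Algebra κ E] [Module.Finite κ E]
  [IsReduced E] {A : Type*} [Ring A] [Algebra κ A] [IsAzumaya κ A] (u : E →ₐ[κ] A) [Module E A]
  [IsScalarTower κ E A] (hmod : ∀ (e : E) (a : A), e • a = a * u e)

include hmod in
theorem exists_basis_field (r : ℕ) (hA : Module.finrank κ A = r ^ 2)
    (hE : Module.finrank κ E = r) (hu : Function.Injective u) :
    Nonempty (Module.Basis (Fin r) E A) := by
  classical
  haveI : IsArtinianRing E := IsArtinianRing.of_finite κ E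
  haveI : IsSemisimpleRing E := IsArtinianRing.isSemisimpleRing_of_isReduced E
  haveI : Module.Projective E A := Module.projective_of_isSemisimpleRing E A
  haveI : Module.Finite κ A := inferInstance
  haveI : Module.Finite E A := Module.Finite.of_restrictScalars_finite κ E A
  haveI : FaithfulSMul E A := ⟨fun {e e'} h => hu (by
    have := h 1
    rwa [hmod, hmod, one_mul, one_mul] at this)⟩
  haveI : Module.FaithfullyFlat E A :=
    Groth.Agent.Lib.LeadAzumaya.faithfullyFlat_of_finite_of_faithful
  haveI : Fintype (MaximalSpectrum E) := Fintype.ofFinite _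
  letI : ∀ P : MaximalSpectrum E, Field (E ⧸ P.asIdeal) := fun P =>
    @Ideal.Quotient.field _ _ P.asIdeal P.isMaximal
  let d : MaximalSpectrum E → ℕ := fun P =>
    Module.finrank (E ⧸ P.asIdeal) ((E ⧸ P.asIdeal) ⊗[E] A)
  let w : MaximalSpectrum E → ℕ := fun P => Module.finrank κ (E ⧸ P.asIdeal)
  have hd : ∀ P, r ≤ d P := fun P => le_finrank u hmod (E ⧸ P.asIdeal) r hA
  have hw : ∀ P, 0 < w P := fun P => Module.finrank_pos
  have hsum1 : ∑ P, w P = r := by
    rw [← hE, ← Module.finrank_pi_fintype κ]
    exact (LinearEquiv.finrank_eq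
      ((IsArtinianRing.equivPi E).toLinearEquiv.restrictScalars κ)).symm
  have hsum2 : ∑ P, w P * d P = r ^ 2 := by
    let e : A ≃ₗ[E] ∀ P : MaximalSpectrum E, (E ⧸ P.asIdeal) ⊗[E] A :=
      (TensorProduct.lid E A).symm ≪≫ₗ
      TensorProduct.congr (IsArtinianRing.equivPi E).toLinearEquiv (LinearEquiv.refl E A) ≪≫ₗ
      TensorProduct.comm E _ _ ≪≫ₗ
      TensorProduct.piRight E E A (fun P : MaximalSpectrum E => E ⧸ P.asIdeal) ≪≫ₗ
      LinearEquiv.piCongrRight (fun P => TensorProduct.comm E A (E ⧸ P.asIdeal))
    haveI : ∀ P : MaximalSpectrum E, Module.Finite κ ((E ⧸ P.asIdeal) ⊗[E] A) := fun P =>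
      Module.Finite.trans (E ⧸ P.asIdeal) _
    rw [← hA, LinearEquiv.finrank_eq (e.restrictScalars κ), Module.finrank_pi_fintype κ]
    apply Finset.sum_congr rfl
    intro P _
    exact Module.finrank_mul_finrank κ (E ⧸ P.asIdeal) ((E ⧸ P.asIdeal) ⊗[E] A)
  apply Module.nonempty_basis_of_flat_of_finrank_eq E A r
  intro P
  have h1 : ∑ P, w P * r = ∑ P, w P * d P := by rw [← Finset.sum_mul, hsum1, hsum2, sq]
  have h2 : ∀ P ∈ Finset.univ, w P * r ≤ w P * d P := fun P _ => Nat.mul_le_mul_left _ (hd P)
  have h3 := (Finset.sum_eq_sum_iff_of_le h2).1 h1 P (Finset.mem_univ P)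
  exact (Nat.eq_of_mul_eq_mul_left (hw P) h3).symm

end FieldLevel

section LocalLevel

open IsLocalRing

variable {R : Type u} [CommRing R] [IsLocalRing R] {A : Type u} [Ring A] [Algebra R A]
  [IsAzumaya R A] {E : Type u} [CommRing E] [Algebra R E] [Algebra.Etale R E] [Module.Finite R E]
  [Module.Free R E] (u : E →ₐ[R] A) [Module E A] [IsScalarTower R E A]
  (hmod : ∀ (e : E) (a : A), e • a = a * u e)

/-- the special fibre of `u` -/
noncomputable def ubar : (ResidueField R ⊗[R] E) →ₐ[ResidueField R] (ResidueField R ⊗[R] A) :=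
  Algebra.TensorProduct.map (AlgHom.id (ResidueField R) (ResidueField R)) u

theorem ubar_tmul (c : ResidueField R) (e : E) : ubar u (c ⊗ₜ[R] e) = c ⊗ₜ[R] u e := by
  simp [ubar]

theorem ubar_eq (z : ResidueField R ⊗[R] E) :
    ubar u z = u.toLinearMap.lTensor (ResidueField R) z := by
  induction z using TensorProduct.induction_on with
  | zero => simp
  | add a b ha hb => simp only [map_add, ha, hb]
  | tmul c e => simp [ubar_tmul]

/-- the module structure of the special fibre of `A` over the special fibre of `E` -/
noncomputable def modBar : Module (ResidueField R ⊗[R] E) (ResidueField R ⊗[R] A) :=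
  Module.compHom _ ((ubar u).toRingHom.toOpposite (fun x y => by
    show ubar u x * ubar u y = ubar u y * ubar u x
    rw [← map_mul, ← map_mul, mul_comm]))

include hmod in
theorem exists_basis_local (r : ℕ) (hA : Module.finrank R A = r ^ 2)
    (hE : Module.finrank R E = r)
    (hu : Function.Injective (u.toLinearMap.lTensor (ResidueField R))) :
    Nonempty (Module.Basis (Fin r) E A) := by
  classical
  haveI : Module.Finite R A := inferInstance
  haveI : Module.Projective R A := inferInstance
  haveI : Module.Free R A := Module.free_of_flat_of_isLocalRing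
  letI := modBar u
  have hmodbar : ∀ (e : ResidueField R ⊗[R] E) (a : ResidueField R ⊗[R] A),
      e • a = a * ubar u e := fun e a => rfl
  haveI : IsScalarTower (ResidueField R) (ResidueField R ⊗[R] E) (ResidueField R ⊗[R] A) :=
    IsScalarTower.of_algebraMap_smul (fun c a => by
      rw [hmodbar, AlgHom.commutes, ← Algebra.commutes, ← Algebra.smul_def])
  haveI : IsReduced (ResidueField R ⊗[R] E) :=
    Algebra.FormallyUnramified.isReduced_of_field (ResidueField R) (ResidueField R ⊗[R] E)
  haveI : IsAzumaya (ResidueField R) (ResidueField R ⊗[R] A) :=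
    Groth.Agent.Lib.LeadAzumaya.isAzumaya_baseChange (ResidueField R) A
  have hinjbar : Function.Injective (ubar u) := by
    intro x y hxy
    rw [ubar_eq, ubar_eq] at hxy
    exact hu hxy
  obtain ⟨bb⟩ := exists_basis_field (ubar u) hmodbar r
    (by rw [Module.finrank_baseChange, hA]) (by rw [Module.finrank_baseChange, hE]) hinjbar
  choose b hb using fun j => TensorProduct.mk_surjective R A (ResidueField R)
    Ideal.Quotient.mk_surjective (bb j)
  have hb' : ∀ j, (1 : ResidueField R) ⊗ₜ[R] b j = bb j := hb
  let F : (Fin r → E) →ₗ[E] A := Fintype.linearCombination E b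
  have hFsingle : ∀ j e, F (Pi.single j e) = b j * u e := fun j e => by
    simp only [F, Fintype.linearCombination_apply_single, hmod]
  have hFsurj : Function.Surjective (F.restrictScalars R) := by
    apply Groth.Agent.Lib.LeadAzumaya.surjective_of_lTensor_residueField_surjective
    have key : ∀ (j : Fin r) (e : ResidueField R ⊗[R] E), bb j * ubar u e ∈
        LinearMap.range ((F.restrictScalars R).lTensor (ResidueField R)) := by
      intro j e
      induction e using TensorProduct.induction_on with
      | zero => rw [map_zero, mul_zero]; exact Submodule.zero_mem _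
      | add x y hx hy => rw [map_add, mul_add]; exact Submodule.add_mem _ hx hy
      | tmul c e =>
        refine ⟨c ⊗ₜ[R] Pi.single j e, ?_⟩
        rw [LinearMap.lTensor_tmul, LinearMap.restrictScalars_apply, hFsingle, ubar_tmul, ← hb',
          Algebra.TensorProduct.tmul_mul_tmul, one_mul]
    intro z
    rw [← LinearMap.mem_range, ← bb.sum_repr z]
    apply Submodule.sum_mem
    intro j _
    rw [hmodbar]
    exact key j _
  have hfr : Module.finrank R (Fin r → E) = Module.finrank R A := by
    rw [Module.finrank_pi_fintype R, hA]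
    simp [hE, sq]
  let i := LinearEquiv.ofFinrankEq (Fin r → E) A hfr
  have hFinj : Function.Injective F := by
    have h1 := OrzechProperty.injective_of_surjective_endomorphism
      ((F.restrictScalars R) ∘ₗ i.symm.toLinearMap) (hFsurj.comp i.symm.surjective)
    intro x y hxy
    have h2 := @h1 (i x) (i y) (by simp [hxy])
    exact i.injective h2
  exact ⟨Module.Basis.ofEquivFun (LinearEquiv.ofBijective F ⟨hFinj, hFsurj⟩).symm⟩

omit [Algebra.Etale R E] [Module.Finite R E] [Module.Free R E]
  [IsScalarTower R E A] in
theorem nontrivial_of_finrank (r : ℕ) (hr : 0 < r) (hA : Module.finrank R A = r ^ 2) :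
    Nontrivial E := by
  by_contra hne
  rw [not_nontrivial_iff_subsingleton] at hne
  have : Subsingleton A := Module.subsingleton E A
  have h0 : Module.finrank R A = 0 := Module.finrank_zero_of_subsingleton
  rw [hA] at h0
  have := pow_eq_zero_iff (n := 2) (by norm_num) |>.1 h0
  omega

include hmod in
theorem phi_bijective (r : ℕ) (hr : 0 < r) (hA : Module.finrank R A = r ^ 2)
    (bE : Module.Basis (Fin r) E A) : Function.Bijective (phi u hmod) := by
  classical
  haveI : Module.Finite R A := inferInstance
  haveI : Module.Projective R A := inferInstance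
  haveI : Module.Free R A := Module.free_of_flat_of_isLocalRing
  haveI : Module.Free E A := Module.Free.of_basis bE
  haveI : Module.Finite E A := Module.Finite.of_basis bE
  haveI : Nontrivial E := nontrivial_of_finrank (R := R) (A := A) (E := E) r hr hA
  have hrankA : Module.finrank E A = r := by
    rw [Module.finrank_eq_card_basis bE, Fintype.card_fin]
  have hsurj : Function.Surjective (phi u hmod) := by
    apply surjective_of_forall_maximal (phi u hmod).toLinearMap
    intro P hP
    letI : Field (E ⧸ P) := Ideal.Quotient.field P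
    let bL : Module.Basis (Fin r) (E ⧸ P) ((E ⧸ P) ⊗[E] A) := bE.baseChange (E ⧸ P)
    haveI : Nontrivial ((E ⧸ P) ⊗[E] A) := nontrivial_of_ne (bL ⟨0, hr⟩) 0 (bL.ne_zero _)
    have hinj := psi_injective u hmod (E ⧸ P)
    have hfr : Module.finrank (E ⧸ P) ((E ⧸ P) ⊗[E] (E ⊗[R] A)) =
        Module.finrank (E ⧸ P) (Module.End (E ⧸ P) ((E ⧸ P) ⊗[E] A)) := by
      rw [finrank_source (E ⧸ P) r hA, Module.finrank_linearMap,
        Module.finrank_eq_card_basis bL, Fintype.card_fin, sq]
    have hiff := LinearMap.injective_iff_surjective_of_finrank_eq_finrank (K := E ⧸ P)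
      (V := (E ⧸ P) ⊗[E] (E ⊗[R] A)) (V₂ := Module.End (E ⧸ P) ((E ⧸ P) ⊗[E] A)) hfr
      (f := (psi u hmod (E ⧸ P)).toLinearMap)
    have hpsisurj : Function.Surjective (psi u hmod (E ⧸ P)).toLinearMap := hiff.1 hinj
    intro y
    obtain ⟨z, hz⟩ := hpsisurj (LinearMap.tensorProductEnd E (E ⧸ P) A y)
    rw [AlgHom.toLinearMap_apply, psi_apply] at hz
    exact ⟨z, (Groth.Agent.Lib.LeadAzumaya.tensorProductEnd_bijective (E ⧸ P) A).1 hz⟩
  refine ⟨?_, hsurj⟩
  have hfr : Module.finrank E (E ⊗[R] A) = Module.finrank E (Module.End E A) := by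
    rw [Module.finrank_baseChange, hA, Module.finrank_linearMap, hrankA, sq]
  let i := LinearEquiv.ofFinrankEq (E ⊗[R] A) (Module.End E A) hfr
  have h1 := OrzechProperty.injective_of_surjective_endomorphism
    ((phi u hmod).toLinearMap ∘ₗ i.symm.toLinearMap) (hsurj.comp i.symm.surjective)
  intro x y hxy
  have h2 := @h1 (i x) (i y) (by simp [hxy])
  exact i.injective h2

end LocalLevel

section Main

open IsLocalRing

theorem main (R : Type u) [CommRing R] [IsLocalRing R] (A : Type u) [Ring A] [Algebra R A]
    [IsAzumaya R A] (r : ℕ) (hA : Module.finrank R A = r ^ 2) (E : Type u) [CommRing E]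
    [Algebra R E] [Algebra.Etale R E] [Module.Finite R E] [Module.Free R E]
    (hE : Module.finrank R E = r) (u : E →ₐ[R] A)
    (hu : Function.Injective (u.toLinearMap.lTensor (IsLocalRing.ResidueField R))) [Module E A]
    (hmod : ∀ (e : E) (a : A), e • a = a * u e) :
    Module.Free E A ∧ Module.finrank E A = r ∧
      Nonempty ((E ⊗[R] A) ≃ₐ[E] Module.End E A) := by
  haveI : IsScalarTower R E A := IsScalarTower.of_algebraMap_smul (fun c a => by
    rw [hmod, AlgHom.commutes, ← Algebra.commutes, ← Algebra.smul_def])
  haveI : Module.Finite R A := inferInstance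
  haveI : Module.Projective R A := inferInstance
  haveI : Module.Free R A := Module.free_of_flat_of_isLocalRing
  have hr : 0 < r := by
    haveI : Nontrivial A := by
      have hinj : Function.Injective (algebraMap R A) := FaithfulSMul.algebraMap_injective R A
      exact hinj.nontrivial
    have h1 : 0 < Module.finrank R A := Module.finrank_pos_iff_of_free (R := R) (M := A) |>.2
      inferInstance
    rw [hA] at h1
    exact Nat.pos_of_ne_zero (fun h0 => by simp [h0] at h1)
  obtain ⟨bE⟩ := exists_basis_local u hmod r hA hE hu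
  haveI : Nontrivial E := nontrivial_of_finrank (R := R) (A := A) (E := E) r hr hA
  refine ⟨Module.Free.of_basis bE, by rw [Module.finrank_eq_card_basis bE, Fintype.card_fin],
    ⟨AlgEquiv.ofBijective (phi u hmod) (phi_bijective u hmod r hr hA bE)⟩⟩

end Main

end Groth.Agent.Lib.R2LeadAzSplit
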