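import Mathlib
import Groth.Agent.Lib.R2LeadAzReg
import Groth.Agent.Lib.R2LeadAzRegEx
import Groth.Agent.Lib.R2LeadAzMaxEt
import Groth.Agent.Lib.R2LeadAzSplit
import Groth.Agent.Lib.Helper3HenselM
import Groth.Agent.Lib.LeadCSA

/-!
# Splitting an Azumaya algebra by a finite étale cover near a prime
-/

set_option autoImplicit false

namespace Groth.Agent.Lib.R2LeadAzSpread

open TensorProduct Polynomial
open Groth.Agent.Lib.R2LeadAzReg Groth.Agent.Lib.R2LeadAzRegEx Groth.Agent.Lib.R2LeadAzMaxEt
  Groth.Agent.Lib.R2LeadAzSplit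

universe u

section Transfer

variable {R : Type*} [CommRing R] (S : Submonoid R) {M N : Type*} [AddCommGroup M] [Module R M]
  [AddCommGroup N] [Module R N]

theorem baseChange_bijective_of_localizedModule_map (l : M →ₗ[R] N)
    (h : Function.Bijective (LocalizedModule.map S l)) :
    Function.Bijective (l.baseChange (Localization S)) := by
  let eM := LocalizedModule.equivTensorProduct S M
  let eN := LocalizedModule.equivTensorProduct S N
  have key : ∀ x, eN (LocalizedModule.map S l x) = (l.baseChange (Localization S)) (eM x) := by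
    intro x
    induction x using LocalizedModule.induction_on with
    | h m s =>
      simp only [eM, eN, LocalizedModule.map_mk, LocalizedModule.equivTensorProduct_apply_mk,
        LinearMap.baseChange_tmul]
  have : ⇑(l.baseChange (Localization S)) = ⇑eN ∘ ⇑(LocalizedModule.map S l) ∘ ⇑eM.symm := by
    funext z
    simp only [Function.comp_apply, key, LinearEquiv.apply_symm_apply]
  rw [this]
  exact eN.bijective.comp (h.comp eM.symm.bijective)

/-- the localized map of `l` w.r.t. the tensor product localizations is the base change -/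
theorem isLocalizedModule_map_eq (T : Type*) [CommRing T] [Algebra R T] [IsLocalization S T]
    (l : M →ₗ[R] N) (z : T ⊗[R] M) :
    IsLocalizedModule.map S (TensorProduct.mk R T M 1) (TensorProduct.mk R T N 1) l z =
      l.baseChange T z := by
  have := IsLocalizedModule.linearMap_ext S (TensorProduct.mk R T M 1) (TensorProduct.mk R T N 1)
    (g := IsLocalizedModule.map S (TensorProduct.mk R T M 1) (TensorProduct.mk R T N 1) l)
    (g' := (l.baseChange T).restrictScalars R) (by
      ext m
      have h1 := IsLocalizedModule.map_apply S (TensorProduct.mk R T M 1)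
        (TensorProduct.mk R T N 1) l m
      simpa using h1)
  exact LinearMap.congr_fun this z

end Transfer

section PhiBij

variable {R : Type*} [CommRing R] [Nontrivial R] {A : Type*} [Ring A] [Algebra R A]
  [IsAzumaya R A] [Module.Free R A] {E : Type*} [CommRing E] [Algebra R E]
  (u : E →ₐ[R] A) [Module E A] [IsScalarTower R E A]
  (hmod : ∀ (e : E) (a : A), e • a = a * u e)

omit [IsScalarTower R E A] in
theorem nontrivial_of_finrank' (r : ℕ) (hr : 0 < r) (hA : Module.finrank R A = r ^ 2) :
    Nontrivial E := by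
  by_contra hne
  rw [not_nontrivial_iff_subsingleton] at hne
  have : Subsingleton A := Module.subsingleton E A
  have h0 : Module.finrank R A = 0 := Module.finrank_zero_of_subsingleton
  rw [hA] at h0
  have := pow_eq_zero_iff (n := 2) (by norm_num) |>.1 h0
  omega

include hmod in
theorem phi_bijective' (r : ℕ) (hr : 0 < r) (hA : Module.finrank R A = r ^ 2)
    (bE : Module.Basis (Fin r) E A) : Function.Bijective (phi u hmod) := by
  classical
  haveI : Module.Finite R A := inferInstance
  haveI : Module.Free E A := Module.Free.of_basis bE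
  haveI : Module.Finite E A := Module.Finite.of_basis bE
  haveI : Nontrivial E := nontrivial_of_finrank' (R := R) (A := A) (E := E) r hr hA
  have hrankA : Module.finrank E A = r := by
    rw [Module.finrank_eq_card_basis bE, Fintype.card_fin]
  have hsurj : Function.Surjective (phi u hmod) := by
    apply surjective_of_forall_maximal (phi u hmod).toLinearMap
    intro P hP
    letI : Field (E ⧸ P) := Ideal.Quotient.field P
    let bL : Module.Basis (Fin r) (E ⧸ P) ((E ⧸ P) ⊗[E] A) := bE.baseChange (E ⧸ P)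
    haveI : Nontrivial ((E ⧸ P) ⊗[E] A) := nontrivial_of_ne (bL ⟨0, hr⟩) 0 (bL.ne_zero _)
    have hinj := psi_injective u hmod (E ⧸ P)
    have hfr : Module.finrank (E ⧸ P) ((E ⧸ P) ⊗[E] (E ⊗[R] A)) =
        Module.finrank (E ⧸ P) (Module.End (E ⧸ P) ((E ⧸ P) ⊗[E] A)) := by
      rw [finrank_source (E ⧸ P) r hA, Module.finrank_linearMap,
        Module.finrank_eq_card_basis bL, Fintype.card_fin, sq]
    have hiff := LinearMap.injective_iff_surjective_of_finrank_eq_finrank (K := E ⧸ P)
      (V := (E ⧸ P) ⊗[E] (E ⊗[R] A)) (V₂ := Module.End (E ⧸ P) ((E ⧸ P) ⊗[E] A)) hfr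
      (f := (psi u hmod (E ⧸ P)).toLinearMap)
    have hpsisurj : Function.Surjective (psi u hmod (E ⧸ P)).toLinearMap := hiff.1 hinj
    intro y
    obtain ⟨z, hz⟩ := hpsisurj (LinearMap.tensorProductEnd E (E ⧸ P) A y)
    rw [AlgHom.toLinearMap_apply, psi_apply] at hz
    exact ⟨z, (Groth.Agent.Lib.LeadAzumaya.tensorProductEnd_bijective (E ⧸ P) A).1 hz⟩
  refine ⟨?_, hsurj⟩
  have hfr : Module.finrank E (E ⊗[R] A) = Module.finrank E (Module.End E A) := by
    rw [Module.finrank_baseChange, hA, Module.finrank_linearMap, hrankA, sq]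
  let i := LinearEquiv.ofFinrankEq (E ⊗[R] A) (Module.End E A) hfr
  have h1 := OrzechProperty.injective_of_surjective_endomorphism
    ((phi u hmod).toLinearMap ∘ₗ i.symm.toLinearMap) (hsurj.comp i.symm.surjective)
  intro x y hxy
  have h2 := @h1 (i x) (i y) (by simp [hxy])
  exact i.injective h2

end PhiBij

section Tower

variable {R : Type*} [CommRing R] {E : Type*} [CommRing E] [Algebra R E] {A : Type*}
  [AddCommGroup A] [Module R A] [Module E A] [IsScalarTower R E A]

theorem linearCombination_baseChange {ι : Type*} [Fintype ι] [DecidableEq ι] (T : Type*)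
    [CommRing T] [Algebra R T] (v : ι → A) (z : T ⊗[R] (ι → R)) :
    (Fintype.linearCombination R v).baseChange T z =
      Fintype.linearCombination T (fun k => (1 : T) ⊗ₜ[R] v k)
        (TensorProduct.piScalarRight R T T ι z) := by
  induction z using TensorProduct.induction_on with
  | zero => simp
  | add a b ha hb => simp only [map_add, ha, hb]
  | tmul c f =>
    simp only [LinearMap.baseChange_tmul, TensorProduct.piScalarRight_apply,
      TensorProduct.piScalarRightHom_tmul, Fintype.linearCombination_apply,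
      TensorProduct.tmul_sum, TensorProduct.tmul_smul, TensorProduct.smul_tmul',
      smul_eq_mul, mul_one]

theorem baseChange_bijective_iff {ι : Type*} [Fintype ι] [DecidableEq ι] (T : Type*)
    [CommRing T] [Algebra R T] (v : ι → A) :
    Function.Bijective ((Fintype.linearCombination R v).baseChange T) ↔
      Function.Bijective (Fintype.linearCombination T (fun k => (1 : T) ⊗ₜ[R] v k)) := by
  have : ⇑((Fintype.linearCombination R v).baseChange T) =
      ⇑(Fintype.linearCombination T (fun k => (1 : T) ⊗ₜ[R] v k)) ∘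
        ⇑(TensorProduct.piScalarRight R T T ι) := funext (linearCombination_baseChange T v)
  rw [this]
  exact Function.Bijective.of_comp_iff _ (TensorProduct.piScalarRight R T T ι).bijective

theorem bijective_of_tower {r r' : ℕ} (pb : Module.Basis (Fin r) R E) (γ : Fin r' → A)
    (h : Function.Bijective
      (Fintype.linearCombination R (fun k : Fin r' × Fin r => pb k.2 • γ k.1))) :
    Function.Bijective (Fintype.linearCombination E γ) := by
  let Θ : (Fin r' × Fin r → R) ≃ₗ[R] (Fin r' → E) :=
    (LinearEquiv.curry R R (Fin r') (Fin r)).trans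
      (LinearEquiv.piCongrRight fun _ => pb.equivFun.symm)
  have hΘ : ∀ c j, Θ c j = ∑ i, c (j, i) • pb i := by
    intro c j
    simp [Θ, Module.Basis.equivFun_symm_apply]
  have key : ∀ c, Fintype.linearCombination E γ (Θ c) =
      Fintype.linearCombination R (fun k : Fin r' × Fin r => pb k.2 • γ k.1) c := by
    intro c
    simp only [Fintype.linearCombination_apply, hΘ, Finset.sum_smul, Fintype.sum_prod_type,
      smul_assoc]
  have : ⇑(Fintype.linearCombination E γ) ∘ ⇑Θ =
      ⇑(Fintype.linearCombination R (fun k : Fin r' × Fin r => pb k.2 • γ k.1)) := funext key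
  rw [← this] at h
  exact (Function.Bijective.of_comp_iff _ Θ.bijective).1 h

end Tower

section LocalData

open IsLocalRing

variable {R : Type u} [CommRing R] [IsLocalRing R] {A : Type u} [Ring A] [Algebra R A]
  [IsAzumaya R A]

theorem exists_poly_data (r : ℕ) (hA : Module.finrank R A = r ^ 2) (ξ : A)
    (hsep : Algebra.IsSeparable (ResidueField R) (Algebra.adjoin (ResidueField R)
      ({(1 : ResidueField R) ⊗ₜ[R] ξ} : Set (ResidueField R ⊗[R] A))))
    (hrk : Module.finrank (ResidueField R) (Algebra.adjoin (ResidueField R)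
      ({(1 : ResidueField R) ⊗ₜ[R] ξ} : Set (ResidueField R ⊗[R] A))) = r) :
    ∃ P : R[X], P.Monic ∧ P.natDegree = r ∧ (P.map (residue R)).Separable ∧
      ∃ h : aeval ξ P = 0,
        Function.Injective ((liftNC P ξ h).toLinearMap.lTensor (ResidueField R)) := by
  classical
  haveI : Module.Finite R A := inferInstance
  haveI : Module.Projective R A := inferInstance
  haveI : Module.Free R A := Module.free_of_flat_of_isLocalRing
  haveI : IsAzumaya (ResidueField R) (ResidueField R ⊗[R] A) :=
    Groth.Agent.Lib.LeadAzumaya.isAzumaya_baseChange (ResidueField R) A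
  obtain ⟨hli, hmem⟩ := Groth.Agent.Lib.R2LeadAzReg.main r hA ξ hsep hrk
  rw [Submodule.mem_span_range_iff_exists_fun] at hmem
  obtain ⟨c, hc⟩ := hmem
  let Q : R[X] := ∑ i : Fin r, C (c i) * X ^ (i : ℕ)
  have hQdeg : Q.degree < (r : WithBot ℕ) := degree_sum_fin_lt c
  let P : R[X] := X ^ r - Q
  have hPm : P.Monic := monic_X_pow_sub hQdeg
  have hPdeg : P.natDegree = r := by
    apply natDegree_eq_of_degree_eq_some
    rw [degree_sub_eq_left_of_degree_lt (by rwa [degree_X_pow]), degree_X_pow]
  have hPξ : aeval ξ P = 0 := by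
    simp only [P, Q, map_sub, map_pow, aeval_X, map_sum, map_mul, aeval_C]
    rw [sub_eq_zero, ← hc]
    apply Finset.sum_congr rfl
    intro i _
    rw [Algebra.smul_def]
  let x : ResidueField R ⊗[R] A := (1 : ResidueField R) ⊗ₜ[R] ξ
  have hx : IsIntegral (ResidueField R) x := IsIntegral.of_finite _ x
  have hmdeg : (minpoly (ResidueField R) x).natDegree = r := by
    rw [← finrank_adjoin_eq_natDegree x hx]; exact hrk
  have hmsep : (minpoly (ResidueField R) x).Separable := separable_minpoly_of_adjoin x hsep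
  have hPmap : P.map (algebraMap R (ResidueField R)) = minpoly (ResidueField R) x := by
    have h0 : aeval x (P.map (algebraMap R (ResidueField R))) = 0 := by
      rw [aeval_one_tmul', hPξ, TensorProduct.tmul_zero]
    refine Polynomial.eq_of_monic_of_dvd_of_natDegree_le (minpoly.monic hx) (hPm.map _)
      (minpoly.dvd _ _ h0) ?_
    rw [hmdeg, hPm.natDegree_map, hPdeg]
  have hPsep : (P.map (residue R)).Separable := by
    have : residue R = algebraMap R (ResidueField R) := rfl
    rw [this, hPmap]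
    exact hmsep
  refine ⟨P, hPm, hPdeg, hPsep, hPξ, ?_⟩
  let b : Module.Basis (Fin P.natDegree) R (AdjoinRoot P) := (AdjoinRoot.powerBasis' hPm).basis
  let bκ : Module.Basis (Fin P.natDegree) (ResidueField R) (ResidueField R ⊗[R] AdjoinRoot P) :=
    b.baseChange (ResidueField R)
  have hb : ∀ i, b i = AdjoinRoot.root P ^ (i : ℕ) := fun i => by
    show (AdjoinRoot.powerBasis' hPm).basis i = _
    rw [PowerBasis.basis_eq_pow]
    rfl
  have hcoe : ⇑((liftNC P ξ hPξ).toLinearMap.lTensor (ResidueField R)) =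
      ⇑((liftNC P ξ hPξ).toLinearMap.baseChange (ResidueField R)) := rfl
  rw [hcoe]
  apply injective_of_basis_li bκ
  have hxpow : ∀ i : ℕ, x ^ i = (1 : ResidueField R) ⊗ₜ[R] (ξ ^ i) := fun i => by
    simp only [x, Algebra.TensorProduct.tmul_pow, one_pow]
  have : (fun i : Fin P.natDegree => ((liftNC P ξ hPξ).toLinearMap.baseChange (ResidueField R))
      (bκ i)) = fun i : Fin P.natDegree => x ^ (i : ℕ) := by
    funext i
    simp only [bκ, Module.Basis.baseChange_apply, LinearMap.baseChange_tmul, hb,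
      AlgHom.toLinearMap_apply, liftNC_root_pow, hxpow]
  rw [this, hPdeg, ← hmdeg]
  exact linearIndependent_pow (K := ResidueField R) x

theorem exists_tower_basis (r : ℕ) (hA : Module.finrank R A = r ^ 2) (ξ : A)
    (hsep : Algebra.IsSeparable (ResidueField R) (Algebra.adjoin (ResidueField R)
      ({(1 : ResidueField R) ⊗ₜ[R] ξ} : Set (ResidueField R ⊗[R] A))))
    (hrk : Module.finrank (ResidueField R) (Algebra.adjoin (ResidueField R)
      ({(1 : ResidueField R) ⊗ₜ[R] ξ} : Set (ResidueField R ⊗[R] A))) = r) :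
    ∃ P : R[X], P.Monic ∧ P.natDegree = r ∧ (P.map (residue R)).Separable ∧ aeval ξ P = 0 ∧
      ∃ b : Fin r → A, Function.Bijective
        (Fintype.linearCombination R (fun k : Fin r × Fin r => b k.1 * ξ ^ (k.2 : ℕ))) := by
  classical
  obtain ⟨P, hPm, hPdeg, hPsep, hPξ, hinj⟩ := exists_poly_data r hA ξ hsep hrk
  refine ⟨P, hPm, hPdeg, hPsep, hPξ, ?_⟩
  haveI : Algebra.Etale R (AdjoinRoot P) :=
    Groth.Agent.Lib.Helper3.Hensel.etale_adjoinRoot P hPm
      (Groth.Agent.Lib.Helper3.Hensel.isUnit_mk_derivative P hPm hPsep)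
  haveI : Module.Finite R (AdjoinRoot P) := hPm.finite_adjoinRoot
  haveI : Module.Free R (AdjoinRoot P) := hPm.free_adjoinRoot
  have hE : Module.finrank R (AdjoinRoot P) = r := by
    rw [(AdjoinRoot.powerBasis' hPm).finrank, AdjoinRoot.powerBasis'_dim, hPdeg]
  let uu : AdjoinRoot P →ₐ[R] A := liftNC P ξ hPξ
  letI : Module (AdjoinRoot P) A := Module.compHom A (uu.toRingHom.toOpposite (fun x y => by
    show uu x * uu y = uu y * uu x
    rw [← map_mul, ← map_mul, mul_comm]))
  have hmod : ∀ (e : AdjoinRoot P) (a : A), e • a = a * uu e := fun e a => rfl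
  haveI : IsScalarTower R (AdjoinRoot P) A := IsScalarTower.of_algebraMap_smul (fun c a => by
    rw [hmod, AlgHom.commutes, ← Algebra.commutes, ← Algebra.smul_def])
  obtain ⟨bE⟩ := exists_basis_local uu hmod r hA hE hinj
  let pb : Module.Basis (Fin r) R (AdjoinRoot P) :=
    (AdjoinRoot.powerBasis' hPm).basis.reindex (finCongr hPdeg)
  have hpb : ∀ i : Fin r, pb i = AdjoinRoot.root P ^ (i : ℕ) := fun i => by
    simp only [pb, Module.Basis.reindex_apply]
    rw [PowerBasis.basis_eq_pow]
    rfl
  let B : Module.Basis (Fin r × Fin r) R A := (pb.smulTower bE).reindex (Equiv.prodComm _ _)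
  have hB : ∀ k : Fin r × Fin r, B k = bE k.1 * ξ ^ (k.2 : ℕ) := fun k => by
    simp only [B, Module.Basis.reindex_apply, Module.Basis.smulTower_apply, Equiv.prodComm_symm,
      Equiv.prodComm_apply, Prod.fst_swap, Prod.snd_swap, hpb, hmod]
    congr 1
    exact liftNC_root_pow P ξ hPξ _
  refine ⟨fun j => bE j, ?_⟩
  have : ⇑(Fintype.linearCombination R (fun k : Fin r × Fin r => bE k.1 * ξ ^ (k.2 : ℕ))) =
      ⇑B.equivFun.symm := by
    funext c
    rw [Module.Basis.equivFun_symm_apply, Fintype.linearCombination_apply]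
    apply Finset.sum_congr rfl
    intro k _
    rw [hB]
  rw [this]
  exact B.equivFun.symm.bijective

end LocalData

section AdjoinSmul

theorem adjoin_smul_eq {κ B : Type*} [Field κ] [Ring B] [Algebra κ B] (c : κ) (hc : c ≠ 0)
    (x : B) : Algebra.adjoin κ {c • x} = Algebra.adjoin κ {x} := by
  apply le_antisymm
  · apply Algebra.adjoin_le
    rintro _ rfl
    exact Subalgebra.smul_mem _ (Algebra.self_mem_adjoin_singleton κ x) c
  · apply Algebra.adjoin_le
    intro y hy
    rw [Set.mem_singleton_iff] at hy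
    have : y = c⁻¹ • (c • x) := by rw [smul_smul, inv_mul_cancel₀ hc, one_smul, hy]
    rw [this]
    exact Subalgebra.smul_mem _ (Algebra.self_mem_adjoin_singleton κ (c • x)) c⁻¹

theorem isSeparable_of_subalgebra_eq {κ B : Type*} [Field κ] [Ring B] [Algebra κ B]
    (S₁ S₂ : Subalgebra κ B) (h : S₁ = S₂) (hs : Algebra.IsSeparable κ S₂) :
    Algebra.IsSeparable κ S₁ := by
  subst h; exact hs

theorem isSeparable_adjoin_smul {κ B : Type*} [Field κ] [Ring B] [Algebra κ B] (c : κ)
    (hc : c ≠ 0) (x y : B) (hy : y = c • x)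
    (hs : Algebra.IsSeparable κ (Algebra.adjoin κ ({x} : Set B))) :
    Algebra.IsSeparable κ (Algebra.adjoin κ ({y} : Set B)) := by
  have h := adjoin_smul_eq c hc x
  rw [← hy] at h
  exact isSeparable_of_subalgebra_eq _ _ h hs

theorem finrank_adjoin_smul {κ B : Type*} [Field κ] [Ring B] [Algebra κ B] (c : κ)
    (hc : c ≠ 0) (x y : B) (hy : y = c • x) :
    Module.finrank κ (Algebra.adjoin κ ({y} : Set B)) =
      Module.finrank κ (Algebra.adjoin κ ({x} : Set B)) := by
  have h := adjoin_smul_eq c hc x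
  rw [← hy] at h
  rw [h]

theorem finrank_of_subalgebra_eq {κ B : Type*} [Field κ] [Ring B] [Algebra κ B]
    (S₁ S₂ : Subalgebra κ B) (h : S₁ = S₂) : Module.finrank κ S₁ = Module.finrank κ S₂ := by
  subst h; rfl

end AdjoinSmul

section PrimeData

open IsLocalRing

variable (R : Type u) [CommRing R] (A : Type u) [Ring A] [Algebra R A] [IsAzumaya R A]
  (p : Ideal R) [p.IsPrime]

theorem exists_local_data :
    ∃ (r : ℕ) (_ : 0 < r) (ξ₀ : A) (β : Fin r → A) (s : R) (_ : s ∉ p) (Q₀ : R[X])
      (_ : Q₀.degree < (r : WithBot ℕ)),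
      Function.Bijective (Fintype.linearCombination (Localization.AtPrime p)
        (fun k : Fin r × Fin r =>
          (1 : Localization.AtPrime p) ⊗ₜ[R] (β k.1 * ξ₀ ^ (k.2 : ℕ)))) ∧
      (1 : Localization.AtPrime p) ⊗ₜ[R] (aeval ξ₀ (C s * X ^ r + Q₀)) = 0 ∧
      IsUnit ((1 : Localization.AtPrime p) ⊗ₜ[R] (aeval ξ₀ (derivative (C s * X ^ r + Q₀)))) := by
  classical
  haveI : IsAzumaya (Localization.AtPrime p) (Localization.AtPrime p ⊗[R] A) :=
    Groth.Agent.Lib.LeadAzumaya.isAzumaya_baseChange (Localization.AtPrime p) A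
  haveI : Module.Finite (Localization.AtPrime p) (Localization.AtPrime p ⊗[R] A) := inferInstance
  haveI : Module.Projective (Localization.AtPrime p) (Localization.AtPrime p ⊗[R] A) :=
    inferInstance
  haveI : Module.Free (Localization.AtPrime p) (Localization.AtPrime p ⊗[R] A) :=
    Module.free_of_flat_of_isLocalRing
  haveI : IsAzumaya (ResidueField (Localization.AtPrime p))
      (ResidueField (Localization.AtPrime p) ⊗[Localization.AtPrime p]
        (Localization.AtPrime p ⊗[R] A)) :=
    Groth.Agent.Lib.LeadAzumaya.isAzumaya_baseChange _ _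
  haveI : IsSimpleRing (ResidueField (Localization.AtPrime p) ⊗[Localization.AtPrime p]
      (Localization.AtPrime p ⊗[R] A)) :=
    Groth.Agent.Lib.LeadAzumaya.isSimpleRing_of_isAzumaya_field
      (k := ResidueField (Localization.AtPrime p))
      (A := ResidueField (Localization.AtPrime p) ⊗[Localization.AtPrime p]
        (Localization.AtPrime p ⊗[R] A))
  obtain ⟨r, hr0, hBr⟩ := Groth.Agent.Lib.LeadCSA.exists_finrank_eq_sq
    (k := ResidueField (Localization.AtPrime p))
    (A := ResidueField (Localization.AtPrime p) ⊗[Localization.AtPrime p]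
      (Localization.AtPrime p ⊗[R] A))
  have hA : Module.finrank (Localization.AtPrime p) (Localization.AtPrime p ⊗[R] A) = r ^ 2 :=
    (Module.finrank_baseChange (R := ResidueField (Localization.AtPrime p))
      (S := Localization.AtPrime p) (M' := Localization.AtPrime p ⊗[R] A)).symm.trans hBr
  obtain ⟨x, hsep, hrk⟩ := Groth.Agent.Lib.R2LeadAzRegEx.main
    (ResidueField (Localization.AtPrime p))
    (ResidueField (Localization.AtPrime p) ⊗[Localization.AtPrime p]
      (Localization.AtPrime p ⊗[R] A)) r hBr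
  obtain ⟨ξp, hξp⟩ := TensorProduct.mk_surjective (Localization.AtPrime p)
    (Localization.AtPrime p ⊗[R] A) (ResidueField (Localization.AtPrime p))
    Ideal.Quotient.mk_surjective x
  have hξp' : (1 : ResidueField (Localization.AtPrime p)) ⊗ₜ[Localization.AtPrime p] ξp = x := hξp
  obtain ⟨⟨a, t⟩, hat⟩ := IsLocalizedModule.surj p.primeCompl
    (TensorProduct.mk R (Localization.AtPrime p) A 1) ξp
  have hat' : (t : R) • ξp = (1 : Localization.AtPrime p) ⊗ₜ[R] a := hat
  -- the scaled regular element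
  let tt : Localization.AtPrime p := algebraMap R (Localization.AtPrime p) (t : R)
  have htt : IsUnit tt := IsLocalization.map_units (Localization.AtPrime p) t
  let cc : ResidueField (Localization.AtPrime p) := residue (Localization.AtPrime p) tt
  have hcc : cc ≠ 0 := by
    intro h0
    have : tt ∈ maximalIdeal (Localization.AtPrime p) := (residue_eq_zero_iff _).1 h0
    exact this htt
  have hξ : (1 : ResidueField (Localization.AtPrime p)) ⊗ₜ[Localization.AtPrime p]
      ((1 : Localization.AtPrime p) ⊗ₜ[R] a) = cc • x := by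
    have e1 : (t : R) • ξp = tt • ξp := (algebraMap_smul (Localization.AtPrime p) (t : R) ξp).symm
    rw [← hat', ← hξp', e1, TensorProduct.tmul_smul, TensorProduct.smul_tmul']
    congr 1
  obtain ⟨P, hPm, hPdeg, hPsep, hPξ, b, hbij⟩ := exists_tower_basis r hA
    ((1 : Localization.AtPrime p) ⊗ₜ[R] a) (isSeparable_adjoin_smul cc hcc x _ hξ hsep)
    ((finrank_adjoin_smul cc hcc x _ hξ).trans hrk)
  -- numerators of the basis
  choose βt hβt using fun j => IsLocalizedModule.surj p.primeCompl
    (TensorProduct.mk R (Localization.AtPrime p) A 1) (b j)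
  have hβ : ∀ j, ((βt j).2 : R) • b j = (1 : Localization.AtPrime p) ⊗ₜ[R] (βt j).1 := hβt
  -- common denominator of the coefficients
  obtain ⟨s, hs⟩ := IsLocalization.exist_integer_multiples_of_finite p.primeCompl
    (fun i : Fin r => P.coeff (i : ℕ))
  choose c hc using hs
  have hc' : ∀ i : Fin r, algebraMap R (Localization.AtPrime p) (c i) =
      algebraMap R (Localization.AtPrime p) (s : R) * P.coeff (i : ℕ) := fun i => by
    rw [hc i, Algebra.smul_def]
  let Q₀ : R[X] := ∑ i : Fin r, C (c i) * X ^ (i : ℕ)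
  have hQ₀ : Q₀.degree < (r : WithBot ℕ) := degree_sum_fin_lt c
  have hmap : (C (s : R) * X ^ r + Q₀).map (algebraMap R (Localization.AtPrime p)) =
      C (algebraMap R (Localization.AtPrime p) (s : R)) * P := by
    conv_rhs => rw [hPm.as_sum, hPdeg]
    simp only [Q₀, Polynomial.map_add, Polynomial.map_mul, Polynomial.map_C, Polynomial.map_pow,
      Polynomial.map_X, Polynomial.map_sum, hc', mul_add, Finset.mul_sum]
    congr 1
    rw [← Fin.sum_univ_eq_sum_range (fun i => C (algebraMap R (Localization.AtPrime p) (s : R)) *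
      (C (P.coeff i) * X ^ i)) r]
    apply Finset.sum_congr rfl
    intro i _
    rw [C_mul, mul_assoc]
  have hsu : IsUnit (algebraMap R (Localization.AtPrime p) (s : R)) :=
    IsLocalization.map_units (Localization.AtPrime p) s
  refine ⟨r, Nat.pos_of_ne_zero hr0, a, fun j => (βt j).1, s, s.2, Q₀, hQ₀, ?_, ?_, ?_⟩
  · -- the basis
    let D : (Fin r × Fin r → Localization.AtPrime p) ≃ₗ[Localization.AtPrime p]
        (Fin r × Fin r → Localization.AtPrime p) :=
      LinearEquiv.piCongrRight (fun k => LinearEquiv.smulOfUnit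
        (IsLocalization.map_units (Localization.AtPrime p) (βt k.1).2).unit)
    have hD : ∀ c' k, D c' k =
        algebraMap R (Localization.AtPrime p) ((βt k.1).2 : R) * c' k := fun c' k => rfl
    have key : ∀ c', Fintype.linearCombination (Localization.AtPrime p)
        (fun k : Fin r × Fin r =>
          (1 : Localization.AtPrime p) ⊗ₜ[R] ((βt k.1).1 * a ^ (k.2 : ℕ))) c' =
        Fintype.linearCombination (Localization.AtPrime p)
          (fun k : Fin r × Fin r => b k.1 * ((1 : Localization.AtPrime p) ⊗ₜ[R] a) ^ (k.2 : ℕ))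
          (D c') := by
      intro c'
      simp only [Fintype.linearCombination_apply, hD]
      apply Finset.sum_congr rfl
      intro k _
      have h1 : (1 : Localization.AtPrime p) ⊗ₜ[R] ((βt k.1).1 * a ^ (k.2 : ℕ)) =
          ((1 : Localization.AtPrime p) ⊗ₜ[R] (βt k.1).1) *
            ((1 : Localization.AtPrime p) ⊗ₜ[R] a) ^ (k.2 : ℕ) := by
        rw [Algebra.TensorProduct.tmul_pow, one_pow, Algebra.TensorProduct.tmul_mul_tmul, one_mul]
      rw [h1, ← hβ, mul_smul, ← algebraMap_smul (Localization.AtPrime p) ((βt k.1).2 : R) (b k.1),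
        smul_mul_assoc, smul_comm]
    have : ⇑(Fintype.linearCombination (Localization.AtPrime p)
        (fun k : Fin r × Fin r =>
          (1 : Localization.AtPrime p) ⊗ₜ[R] ((βt k.1).1 * a ^ (k.2 : ℕ)))) =
        ⇑(Fintype.linearCombination (Localization.AtPrime p)
          (fun k : Fin r × Fin r => b k.1 * ((1 : Localization.AtPrime p) ⊗ₜ[R] a) ^ (k.2 : ℕ)))
          ∘ ⇑D := funext key
    rw [this]
    exact hbij.comp D.bijective
  · rw [← aeval_one_tmul' (S := Localization.AtPrime p), hmap, map_mul, hPξ, mul_zero]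
  · rw [← aeval_one_tmul' (S := Localization.AtPrime p), ← derivative_map, hmap, derivative_C_mul,
      map_mul, aeval_C]
    refine IsUnit.mul (hsu.map (algebraMap (Localization.AtPrime p) _)) ?_
    have hder : aeval ((1 : Localization.AtPrime p) ⊗ₜ[R] a) (derivative P) =
        liftNC P _ hPξ (AdjoinRoot.mk P (derivative P)) := (liftNC_mk P _ hPξ _).symm
    rw [hder]
    exact (Groth.Agent.Lib.Helper3.Hensel.isUnit_mk_derivative P hPm hPsep).map _

theorem mulLeft_baseChange_apply (T : Type*) [CommRing T] [Algebra R T] (η : A) (z : T ⊗[R] A) :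
    (LinearMap.mulLeft R η).baseChange T z = ((1 : T) ⊗ₜ[R] η) * z := by
  induction z using TensorProduct.induction_on with
  | zero => simp
  | add a b ha hb => simp only [map_add, ha, hb, mul_add]
  | tmul c a =>
    simp only [LinearMap.baseChange_tmul, LinearMap.mulLeft_apply,
      Algebra.TensorProduct.tmul_mul_tmul, one_mul]

theorem exists_spread_data :
    ∃ (r : ℕ) (_ : 0 < r) (ξ₀ : A) (β : Fin r → A) (s : R) (Q₀ : R[X])
      (_ : Q₀.degree < (r : WithBot ℕ)) (f : R) (_ : f ∉ p) (_ : s ∣ f),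
      Function.Bijective ((Fintype.linearCombination R
        (fun k : Fin r × Fin r => β k.1 * ξ₀ ^ (k.2 : ℕ))).baseChange (Localization.Away f)) ∧
      (1 : Localization.Away f) ⊗ₜ[R] (aeval ξ₀ (C s * X ^ r + Q₀)) = 0 ∧
      Function.Bijective ((LinearMap.mulLeft R
        (aeval ξ₀ (derivative (C s * X ^ r + Q₀)))).baseChange (Localization.Away f)) := by
  classical
  obtain ⟨r, hr, ξ₀, β, s, hs, Q₀, hQ₀, hL1, hL2, hL3⟩ := exists_local_data R A p
  haveI : Module.Finite R A := inferInstance
  haveI : Module.Projective R A := inferInstance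
  haveI : Module.FinitePresentation R A := Module.finitePresentation_of_projective R A
  -- (1) the basis
  obtain ⟨ℓ, hℓ⟩ : ∃ ℓ : (Fin r × Fin r → R) →ₗ[R] A, ℓ = Fintype.linearCombination R
    (fun k : Fin r × Fin r => β k.1 * ξ₀ ^ (k.2 : ℕ)) := ⟨_, rfl⟩
  have hb1 : Function.Bijective (IsLocalizedModule.map p.primeCompl
      (TensorProduct.mk R (Localization.AtPrime p) (Fin r × Fin r → R) 1)
      (TensorProduct.mk R (Localization.AtPrime p) A 1) ℓ) := by
    have : ⇑(IsLocalizedModule.map p.primeCompl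
        (TensorProduct.mk R (Localization.AtPrime p) (Fin r × Fin r → R) 1)
        (TensorProduct.mk R (Localization.AtPrime p) A 1) ℓ) =
        ⇑(ℓ.baseChange (Localization.AtPrime p)) :=
      funext (isLocalizedModule_map_eq p.primeCompl (Localization.AtPrime p) ℓ)
    rw [this, hℓ]
    exact (baseChange_bijective_iff _ _).2 hL1
  obtain ⟨g₁, hg₁, H₁⟩ := exists_bijective_map_powers p.primeCompl _ _ ℓ hb1
  -- (3) the unit
  obtain ⟨η, hη⟩ : ∃ η : A, η = aeval ξ₀ (derivative (C s * X ^ r + Q₀)) := ⟨_, rfl⟩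
  rw [← hη] at hL3
  have hb3 : Function.Bijective (IsLocalizedModule.map p.primeCompl
      (TensorProduct.mk R (Localization.AtPrime p) A 1)
      (TensorProduct.mk R (Localization.AtPrime p) A 1) (LinearMap.mulLeft R η)) := by
    have : ⇑(IsLocalizedModule.map p.primeCompl
        (TensorProduct.mk R (Localization.AtPrime p) A 1)
        (TensorProduct.mk R (Localization.AtPrime p) A 1) (LinearMap.mulLeft R η)) =
        fun z => ((1 : Localization.AtPrime p) ⊗ₜ[R] η) * z := by
      funext z
      rw [isLocalizedModule_map_eq p.primeCompl (Localization.AtPrime p), mulLeft_baseChange_apply]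
    rw [this]
    exact IsUnit.isUnit_iff_mulLeft_bijective.1 hL3
  obtain ⟨g₃, hg₃, H₃⟩ := exists_bijective_map_powers p.primeCompl _ _ (LinearMap.mulLeft R η) hb3
  -- (2) the equation
  obtain ⟨g₂, hg₂⟩ := (IsLocalizedModule.eq_zero_iff p.primeCompl
    (TensorProduct.mk R (Localization.AtPrime p) A 1)).1 hL2
  refine ⟨r, hr, ξ₀, β, s, Q₀, hQ₀, s * g₁ * (g₂ : R) * g₃, ?_, ⟨g₁ * (g₂ : R) * g₃, by ring⟩,
    ?_, ?_, ?_⟩
  · intro hmem
    have h1 := (Ideal.IsPrime.mem_or_mem inferInstance hmem)
    rcases h1 with h1 | h1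
    · rcases (Ideal.IsPrime.mem_or_mem inferInstance h1) with h2 | h2
      · rcases (Ideal.IsPrime.mem_or_mem inferInstance h2) with h3 | h3
        · exact hs h3
        · exact hg₁ h3
      · exact g₂.2 h2
    · exact hg₃ h1
  · rw [← hℓ]
    exact baseChange_bijective_of_localizedModule_map _ ℓ
      (H₁ _ ⟨s * (g₂ : R) * g₃, by ring⟩)
  · have hu : IsUnit (algebraMap R (Localization.Away (s * g₁ * (g₂ : R) * g₃)) (g₂ : R)) :=
      IsLocalization.Away.isUnit_of_dvd (s * g₁ * (g₂ : R) * g₃)
        ⟨s * g₁ * g₃, by ring⟩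
    have h0 : algebraMap R (Localization.Away (s * g₁ * (g₂ : R) * g₃)) (g₂ : R) •
        ((1 : Localization.Away (s * g₁ * (g₂ : R) * g₃)) ⊗ₜ[R]
          (aeval ξ₀ (C s * X ^ r + Q₀))) = 0 := by
      rw [algebraMap_smul, ← TensorProduct.tmul_smul]
      have : (g₂ : R) • (aeval ξ₀ (C s * X ^ r + Q₀)) = 0 := hg₂
      rw [this, TensorProduct.tmul_zero]
    exact hu.smul_eq_zero.1 h0
  · rw [← hη]
    exact baseChange_bijective_of_localizedModule_map _ (LinearMap.mulLeft R η)
      (H₃ _ ⟨s * g₁ * (g₂ : R), by ring⟩)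

end PrimeData

section Core

variable {R₁ : Type u} [CommRing R₁] [Nontrivial R₁] {A₁ : Type u} [Ring A₁] [Algebra R₁ A₁]
  [IsAzumaya R₁ A₁]

theorem split_of_data (r : ℕ) (hr : 0 < r) (ξ₁ : A₁) (γ : Fin r → A₁) (P₁ : R₁[X])
    (hPm : P₁.Monic) (hPdeg : P₁.natDegree = r) (hPξ : aeval ξ₁ P₁ = 0)
    (hder : IsUnit (aeval ξ₁ (derivative P₁)))
    (hbij : Function.Bijective (Fintype.linearCombination R₁
      (fun k : Fin r × Fin r => γ k.1 * ξ₁ ^ (k.2 : ℕ)))) :
    Algebra.Etale R₁ (AdjoinRoot P₁) ∧ Nontrivial (AdjoinRoot P₁) ∧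
      Nonempty ((AdjoinRoot P₁ ⊗[R₁] A₁) ≃ₐ[AdjoinRoot P₁]
        Matrix (Fin r) (Fin r) (AdjoinRoot P₁)) := by
  classical
  let uu : AdjoinRoot P₁ →ₐ[R₁] A₁ := liftNC P₁ ξ₁ hPξ
  letI : Module (AdjoinRoot P₁) A₁ := Module.compHom A₁ (uu.toRingHom.toOpposite (fun x y => by
    show uu x * uu y = uu y * uu x
    rw [← map_mul, ← map_mul, mul_comm]))
  have hmod : ∀ (e : AdjoinRoot P₁) (a : A₁), e • a = a * uu e := fun e a => rfl
  haveI : IsScalarTower R₁ (AdjoinRoot P₁) A₁ := IsScalarTower.of_algebraMap_smul (fun c a => by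
    rw [hmod, AlgHom.commutes, ← Algebra.commutes, ← Algebra.smul_def])
  let pb : Module.Basis (Fin r) R₁ (AdjoinRoot P₁) :=
    (AdjoinRoot.powerBasis' hPm).basis.reindex (finCongr hPdeg)
  have hpb : ∀ i : Fin r, pb i = AdjoinRoot.root P₁ ^ (i : ℕ) := fun i => by
    simp only [pb, Module.Basis.reindex_apply]
    rw [PowerBasis.basis_eq_pow]
    rfl
  have hfun : (fun k : Fin r × Fin r => pb k.2 • γ k.1) =
      fun k : Fin r × Fin r => γ k.1 * ξ₁ ^ (k.2 : ℕ) := by
    funext k
    rw [hmod, hpb]
    congr 1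
    exact liftNC_root_pow P₁ ξ₁ hPξ _
  have hbijE : Function.Bijective (Fintype.linearCombination (AdjoinRoot P₁) γ) :=
    bijective_of_tower pb γ (by rw [hfun]; exact hbij)
  let bE : Module.Basis (Fin r) (AdjoinRoot P₁) A₁ :=
    Module.Basis.ofEquivFun (LinearEquiv.ofBijective _ hbijE).symm
  let bR : Module.Basis (Fin r × Fin r) R₁ A₁ :=
    Module.Basis.ofEquivFun (LinearEquiv.ofBijective _ hbij).symm
  haveI : Module.Free R₁ A₁ := Module.Free.of_basis bR
  have hA : Module.finrank R₁ A₁ = r ^ 2 := by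
    rw [Module.finrank_eq_card_basis bR, Fintype.card_prod, Fintype.card_fin, sq]
  have hphi := phi_bijective' uu hmod r hr hA bE
  refine ⟨?_, nontrivial_of_finrank' (R := R₁) (A := A₁) (E := AdjoinRoot P₁) r hr hA,
    ⟨(AlgEquiv.ofBijective (phi uu hmod) hphi).trans (LinearMap.toMatrixAlgEquiv bE)⟩⟩
  -- étale
  apply Groth.Agent.Lib.Helper3.Hensel.etale_adjoinRoot P₁ hPm
  obtain ⟨y, hy⟩ : ∃ y, y = AdjoinRoot.mk P₁ (derivative P₁) := ⟨_, rfl⟩
  rw [← hy]
  have huy : IsUnit (uu y) := by
    rw [hy]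
    show IsUnit (liftNC P₁ ξ₁ hPξ (AdjoinRoot.mk P₁ (derivative P₁)))
    rw [liftNC_mk]
    exact hder
  obtain ⟨a, ha⟩ := (IsUnit.isUnit_iff_mulRight_bijective.1 huy).2 (bE ⟨0, hr⟩)
  have h1 : y • a = bE ⟨0, hr⟩ := by rw [hmod]; exact ha
  have h2 := congrArg (fun z => bE.repr z ⟨0, hr⟩) h1
  simp only [map_smul, Finsupp.smul_apply, Module.Basis.repr_self, Finsupp.single_eq_same,
    smul_eq_mul] at h2
  exact IsUnit.of_mul_eq_one _ h2

end Core

section Cancel

noncomputable def cancelAlgEquiv (R R₁ E : Type*) [CommRing R] [CommRing R₁] [Algebra R R₁]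
    [CommRing E] [Algebra R E] [Algebra R₁ E] [IsScalarTower R R₁ E] (A : Type*) [Ring A]
    [Algebra R A] : (E ⊗[R] A) ≃ₐ[E] (E ⊗[R₁] (R₁ ⊗[R] A)) :=
  Algebra.TensorProduct.algEquivOfLinearEquivTensorProduct
    (TensorProduct.AlgebraTensorModule.cancelBaseChange R R₁ E E A).symm
    (fun a₁ a₂ b₁ b₂ => by
      simp only [TensorProduct.AlgebraTensorModule.cancelBaseChange_symm_tmul,
        Algebra.TensorProduct.tmul_mul_tmul, one_mul])
    (by
      simp only [TensorProduct.AlgebraTensorModule.cancelBaseChange_symm_tmul]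
      rfl)

end Cancel

section Main

theorem main (R : Type u) [CommRing R] (A : Type u) [Ring A] [Algebra R A] [IsAzumaya R A]
    (p : Ideal R) [p.IsPrime] :
    ∃ f : R, f ∉ p ∧ ∃ (R' : Type u) (_ : CommRing R') (_ : Algebra R R')
      (_ : Algebra (Localization.Away f) R') (_ : IsScalarTower R (Localization.Away f) R'),
      Module.Finite (Localization.Away f) R' ∧ Algebra.Etale (Localization.Away f) R' ∧
      Module.FaithfullyFlat (Localization.Away f) R' ∧
      ∃ r : ℕ, 1 ≤ r ∧ Nonempty ((R' ⊗[R] A) ≃ₐ[R'] Matrix (Fin r) (Fin r) R') := by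
  classical
  obtain ⟨r, hr, ξ₀, β, s, Q₀, hQ₀, f, hf, hsf, hB, hZ, hU⟩ := exists_spread_data R A p
  refine ⟨f, hf, ?_⟩
  -- the localized ring is nontrivial
  have hfu : IsUnit (algebraMap R (Localization.AtPrime p) f) :=
    IsLocalization.map_units (Localization.AtPrime p) (⟨f, hf⟩ : p.primeCompl)
  haveI : Nontrivial (Localization.Away f) :=
    (IsLocalization.Away.lift (S := Localization.Away f) f hfu).domain_nontrivial
  haveI : IsAzumaya (Localization.Away f) (Localization.Away f ⊗[R] A) :=
    Groth.Agent.Lib.LeadAzumaya.isAzumaya_baseChange (Localization.Away f) A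
  have hsu : IsUnit (algebraMap R (Localization.Away f) s) :=
    IsLocalization.Away.isUnit_of_dvd f hsf
  obtain ⟨σ, hσ⟩ : ∃ σ : Localization.Away f, σ * algebraMap R (Localization.Away f) s = 1 :=
    by obtain ⟨u, hu⟩ := hsu; exact ⟨↑u⁻¹, by rw [← hu]; exact Units.inv_mul u⟩
  have hσu : IsUnit σ := IsUnit.of_mul_eq_one _ hσ
  obtain ⟨P₀m, hP₀m⟩ : ∃ P₀m : (Localization.Away f)[X],
    P₀m = (C s * X ^ r + Q₀).map (algebraMap R (Localization.Away f)) := ⟨_, rfl⟩
  obtain ⟨Q₁, hQ₁⟩ : ∃ Q₁ : (Localization.Away f)[X],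
    Q₁ = σ • Q₀.map (algebraMap R (Localization.Away f)) := ⟨_, rfl⟩
  have hQ₁deg : Q₁.degree < (r : WithBot ℕ) := by
    rw [hQ₁]
    exact (degree_smul_le _ _).trans_lt ((degree_map_le).trans_lt hQ₀)
  have hP₁eq : X ^ r + Q₁ = σ • P₀m := by
    rw [hP₀m, hQ₁, Polynomial.map_add, Polynomial.map_mul, Polynomial.map_pow, Polynomial.map_X,
      Polynomial.map_C, smul_add]
    congr 1
    rw [← smul_mul_assoc, smul_C, smul_eq_mul, hσ, C_1, one_mul]
  have hPm : (X ^ r + Q₁).Monic := monic_X_pow_add hQ₁deg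
  have hPdeg : (X ^ r + Q₁).natDegree = r := by
    rw [natDegree_add_eq_left_of_degree_lt (by rwa [degree_X_pow]), natDegree_X_pow]
  -- the root
  have hPξ : aeval ((1 : Localization.Away f) ⊗ₜ[R] ξ₀) (X ^ r + Q₁) = 0 := by
    rw [hP₁eq, map_smul, hP₀m, aeval_one_tmul' (S := Localization.Away f), hZ, smul_zero]
  have hηu : IsUnit ((1 : Localization.Away f) ⊗ₜ[R]
      (aeval ξ₀ (derivative (C s * X ^ r + Q₀)))) := by
    apply IsUnit.isUnit_iff_mulLeft_bijective.2
    have : (fun z => ((1 : Localization.Away f) ⊗ₜ[R]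
        (aeval ξ₀ (derivative (C s * X ^ r + Q₀)))) * z) =
        ⇑((LinearMap.mulLeft R (aeval ξ₀ (derivative (C s * X ^ r + Q₀)))).baseChange
          (Localization.Away f)) := by
      funext z
      rw [mulLeft_baseChange_apply]
    rw [this]
    exact hU
  have hder : IsUnit (aeval ((1 : Localization.Away f) ⊗ₜ[R] ξ₀) (derivative (X ^ r + Q₁))) := by
    rw [hP₁eq, derivative_smul, map_smul, hP₀m, derivative_map,
      aeval_one_tmul' (S := Localization.Away f)]
    have h3 : σ • ((1 : Localization.Away f) ⊗ₜ[R]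
        (aeval ξ₀ (derivative (C s * X ^ r + Q₀)))) =
        (σ ⊗ₜ[R] (1 : A)) * ((1 : Localization.Away f) ⊗ₜ[R]
          (aeval ξ₀ (derivative (C s * X ^ r + Q₀)))) := by
      rw [Algebra.TensorProduct.tmul_mul_tmul, mul_one, one_mul, TensorProduct.smul_tmul',
        smul_eq_mul, mul_one]
    rw [h3]
    exact (hσu.map (Algebra.TensorProduct.includeLeft :
      Localization.Away f →ₐ[Localization.Away f] Localization.Away f ⊗[R] A)).mul hηu
  have hbij : Function.Bijective (Fintype.linearCombination (Localization.Away f)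
      (fun k : Fin r × Fin r => ((1 : Localization.Away f) ⊗ₜ[R] β k.1) *
        ((1 : Localization.Away f) ⊗ₜ[R] ξ₀) ^ (k.2 : ℕ))) := by
    have h1 := (baseChange_bijective_iff (Localization.Away f)
      (fun k : Fin r × Fin r => β k.1 * ξ₀ ^ (k.2 : ℕ))).1 hB
    have h2 : (fun k : Fin r × Fin r => ((1 : Localization.Away f) ⊗ₜ[R] β k.1) *
        ((1 : Localization.Away f) ⊗ₜ[R] ξ₀) ^ (k.2 : ℕ)) =
        fun k : Fin r × Fin r => (1 : Localization.Away f) ⊗ₜ[R] (β k.1 * ξ₀ ^ (k.2 : ℕ)) := by
      funext k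
      rw [Algebra.TensorProduct.tmul_pow, one_pow, Algebra.TensorProduct.tmul_mul_tmul, one_mul]
    rw [h2]
    exact h1
  obtain ⟨hEt, hNt, ⟨iso⟩⟩ := split_of_data r hr ((1 : Localization.Away f) ⊗ₜ[R] ξ₀)
    (fun j => (1 : Localization.Away f) ⊗ₜ[R] β j) (X ^ r + Q₁) hPm hPdeg hPξ hder hbij
  haveI : Module.Finite (Localization.Away f) (AdjoinRoot (X ^ r + Q₁)) := hPm.finite_adjoinRoot
  haveI : Module.Free (Localization.Away f) (AdjoinRoot (X ^ r + Q₁)) := hPm.free_adjoinRoot
  refine ⟨AdjoinRoot (X ^ r + Q₁), inferInstance, inferInstance, inferInstance, inferInstance,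
    inferInstance, hEt, inferInstance, r, hr, ⟨?_⟩⟩
  exact (cancelAlgEquiv R (Localization.Away f) (AdjoinRoot (X ^ r + Q₁)) A).trans iso

end Main

end Groth.Agent.Lib.R2LeadAzSpread
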