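import Mathlib
import Groth.Prelude.Def_AzInv
import Groth.Prelude.Def_W4c2azumayainvolQEt
import Groth.Agent.S15586
import Groth.Agent.Lib.LeadAzumaya
import Groth.Agent.Lib.R2LeadAzCharpoly
import Groth.Agent.Lib.R2LeadAzSpread
import Groth.Agent.Lib.R2H7InvolHensel

/-!
# Azumaya algebras over a ring with involution: base change along the fixed ring (lead)
-/

set_option autoImplicit false
set_option linter.style.haveILetI false
set_option linter.unusedSectionVars false

namespace Groth.Agent.Lib.R2LeadAzFixBase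

open TensorProduct
open Groth.Agent.Lib.R2LeadAzCharpoly (splitBC splitBC_one_tmul)

attribute [local instance] Algebra.TensorProduct.rightAlgebra

universe u v w

section Splits

variable (R : Type*) [CommRing R] (A : Type*) [Ring A] [Algebra R A] (n : ℕ)

/-- the `R`-algebra `Ω` splits `A` -/
def SplitsOver (Ω : Type*) [CommRing Ω] [Algebra R Ω] : Prop :=
  Nonempty ((Ω ⊗[R] A) ≃ₐ[Ω] Matrix (Fin n) (Fin n) Ω)

variable {R A n}

theorem SplitsOver.map {Ω Ω' : Type*} [CommRing Ω] [Algebra R Ω] [CommRing Ω'] [Algebra R Ω']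
    (h : SplitsOver R A n Ω) (g : Ω →ₐ[R] Ω') : SplitsOver R A n Ω' := by
  obtain ⟨σ⟩ := h
  exact ⟨splitBC σ g⟩

/-- splitting of a base change is splitting of the original algebra -/
theorem SplitsOver.of_baseChange {R₁ : Type*} [CommRing R₁] [Algebra R R₁] {Ω : Type*} [CommRing Ω]
    [Algebra R Ω] [Algebra R₁ Ω] [IsScalarTower R R₁ Ω] (h : SplitsOver R₁ (R₁ ⊗[R] A) n Ω) :
    SplitsOver R A n Ω := by
  obtain ⟨σ⟩ := h
  exact ⟨(Groth.Agent.Lib.R2LeadAzSpread.cancelAlgEquiv R R₁ Ω A).trans σ⟩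

theorem SplitsOver.to_baseChange {R₁ : Type*} [CommRing R₁] [Algebra R R₁] {Ω : Type*} [CommRing Ω]
    [Algebra R Ω] [Algebra R₁ Ω] [IsScalarTower R R₁ Ω] (h : SplitsOver R A n Ω) :
    SplitsOver R₁ (R₁ ⊗[R] A) n Ω := by
  obtain ⟨σ⟩ := h
  exact ⟨(Groth.Agent.Lib.R2LeadAzSpread.cancelAlgEquiv R R₁ Ω A).symm.trans σ⟩

end Splits

section Setup

/-- the standing hypotheses -/
structure Setup (S : Type u) (R : Type v) [CommRing S] [CommRing R] [Algebra S R]
    (A : Type w) [Ring A] [Algebra R A] (n : ℕ) where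
  lam : R ≃ₐ[S] R
  hlam : ∀ r, lam (lam r) = r
  hfix : RInv.IsFixedRing S R lam.toRingEquiv
  az : IsAzumaya R A
  rk : ∀ p : PrimeSpectrum R, Module.rankAtStalk (R := R) A p = n ^ 2
  hn : 0 < n

variable {S : Type u} {R : Type v} [CommRing S] [CommRing R] [Algebra S R]
  {A : Type w} [Ring A] [Algebra R A] {n : ℕ}

/-- base change of the setup along a flat `S`-algebra -/
noncomputable def Setup.bc (h : Setup S R A n) (S' : Type u) [CommRing S'] [Algebra S S']
    [Module.Flat S S'] : Setup S' (S' ⊗[S] R) ((S' ⊗[S] R) ⊗[R] A) n where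
  lam := Algebra.TensorProduct.congr (AlgEquiv.refl : S' ≃ₐ[S'] S') h.lam
  hlam := by
    intro x
    induction x using TensorProduct.induction_on with
    | zero => simp
    | add x y hx hy => rw [map_add, map_add, hx, hy]
    | tmul a b => simp [h.hlam]
  hfix := by
    have := Groth.Agent.S15586.result S R S' h.lam h.hlam h.hfix (Or.inl inferInstance)
    have h3 : ∀ r : S' ⊗[S] R,
        (Algebra.TensorProduct.congr (AlgEquiv.refl : S' ≃ₐ[S] S') h.lam).toRingEquiv r =
        (Algebra.TensorProduct.congr (AlgEquiv.refl : S' ≃ₐ[S'] S') h.lam).toRingEquiv r := by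
      intro r
      induction r using TensorProduct.induction_on with
      | zero => simp
      | add x y hx hy =>
        rw [map_add, map_add, hx, hy]
      | tmul a b => rfl
    refine ⟨this.1, fun r => ?_⟩
    rw [← h3]
    exact this.2 r
  az := by
    haveI := h.az
    exact Groth.Agent.Lib.LeadAzumaya.isAzumaya_baseChange (S' ⊗[S] R) A
  rk := by
    intro p
    haveI := h.az
    rw [Module.rankAtStalk_baseChange]
    exact h.rk _
  hn := h.hn

end Setup



section Conj

variable {S : Type u} {R : Type v} [CommRing S] [CommRing R] [Algebra S R]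
  {A : Type w} [Ring A] [Algebra R A] {n : ℕ} (h : Setup S R A n)

/-- the conjugate of an ideal -/
def Setup.conj (I : Ideal R) : Ideal R := I.comap (h.lam : R →+* R)

theorem Setup.mem_conj {I : Ideal R} {x : R} : x ∈ h.conj I ↔ h.lam x ∈ I := Iff.rfl

instance Setup.conj_isPrime (p : Ideal R) [p.IsPrime] : (h.conj p).IsPrime :=
  Ideal.comap_isPrime _ p

theorem Setup.conj_conj (I : Ideal R) : h.conj (h.conj I) = I := by
  ext x
  rw [Setup.mem_conj, Setup.mem_conj, h.hlam]

theorem Setup.conj_mono {I J : Ideal R} (hIJ : I ≤ J) : h.conj I ≤ h.conj J :=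
  Ideal.comap_mono hIJ

theorem Setup.lam_algebraMap (s : S) : h.lam (algebraMap S R s) = algebraMap S R s :=
  h.lam.commutes s

theorem Setup.comap_conj (I : Ideal R) :
    (h.conj I).comap (algebraMap S R) = I.comap (algebraMap S R) := by
  ext s
  rw [Ideal.mem_comap, Ideal.mem_comap, Setup.mem_conj, h.lam_algebraMap]

theorem Setup.exists_norm (r : R) : ∃ s : S, algebraMap S R s = r * h.lam r :=
  Groth.Agent.Lib.R2H7.InvolHensel.exists_norm h.lam.toRingEquiv (fun r => h.hlam r) h.hfix r

include h in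
theorem Setup.isIntegral : Algebra.IsIntegral S R :=
  Groth.Agent.Lib.R2H7.InvolHensel.isIntegral h.lam.toRingEquiv (fun r => h.hlam r) h.hfix

include h in
theorem Setup.exists_prime_over (q : Ideal S) [q.IsPrime] :
    ∃ p : Ideal R, p.IsPrime ∧ p.comap (algebraMap S R) = q := by
  haveI := h.isIntegral
  have hker : (⊥ : Ideal R).comap (algebraMap S R) ≤ q := by
    intro x hx
    rw [Ideal.mem_comap, Ideal.mem_bot] at hx
    have : x = 0 := h.hfix.1 (by rw [hx, map_zero])
    rw [this]
    exact q.zero_mem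
  obtain ⟨Q, -, hQ, hQ'⟩ := Ideal.exists_ideal_over_prime_of_isIntegral q (⊥ : Ideal R) hker
  exact ⟨Q, hQ, hQ'⟩

/-- Key lemma: an ideal of `R` not contained in `p` nor in its conjugate meets `S ∖ q`. -/
theorem Setup.exists_mem_of_not_le (q : Ideal S) [q.IsPrime] (I : Ideal R) (p : Ideal R)
    [p.IsPrime] (hp : p.comap (algebraMap S R) = q) (h1 : ¬ I ≤ p) (h2 : ¬ I ≤ h.conj p) :
    ∃ s : S, s ∉ q ∧ algebraMap S R s ∈ I := by
  obtain ⟨x, hxI, hxp⟩ := SetLike.not_le_iff_exists.mp h1
  obtain ⟨y, hyI, hyp⟩ := SetLike.not_le_iff_exists.mp h2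
  obtain ⟨z, hzI, hz1, hz2⟩ : ∃ z ∈ I, z ∉ p ∧ z ∉ h.conj p := by
    by_cases hx2 : x ∈ h.conj p
    · by_cases hy1 : y ∈ p
      · refine ⟨x + y, I.add_mem hxI hyI, ?_, ?_⟩
        · intro hxy
          exact hxp ((Ideal.add_mem_iff_left p hy1).mp hxy)
        · intro hxy
          exact hyp ((Ideal.add_mem_iff_right _ hx2).mp hxy)
      · exact ⟨y, hyI, hy1, hyp⟩
    · exact ⟨x, hxI, hxp, hx2⟩
  obtain ⟨s, hs⟩ := h.exists_norm z
  refine ⟨s, ?_, ?_⟩
  · intro hsq
    have : algebraMap S R s ∈ p := by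
      rw [← hp] at hsq
      exact hsq
    rw [hs] at this
    rcases (Ideal.IsPrime.mem_or_mem inferInstance this) with h3 | h3
    · exact hz1 h3
    · exact hz2 h3
  · rw [hs]
    exact I.mul_mem_right _ hzI

/-- the primes over `q` are `p` and its conjugate -/
theorem Setup.eq_or_eq_conj (q : Ideal S) (p p' : Ideal R) [p.IsPrime] [p'.IsPrime]
    (hp : p.comap (algebraMap S R) = q) (hp' : p'.comap (algebraMap S R) = q) :
    p' = p ∨ p' = h.conj p := by
  have key : ∀ (p₁ p₂ : Ideal R) [p₁.IsPrime] [p₂.IsPrime],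
      p₁.comap (algebraMap S R) = p₂.comap (algebraMap S R) → p₁ ≤ p₂ ∨ p₁ ≤ h.conj p₂ := by
    intro p₁ p₂ _ _ h12
    rw [← Ideal.subset_union]
    intro x hx
    obtain ⟨s, hs⟩ := h.exists_norm x
    have h1 : s ∈ p₁.comap (algebraMap S R) := by
      rw [Ideal.mem_comap, hs]
      exact p₁.mul_mem_right _ hx
    rw [h12, Ideal.mem_comap, hs] at h1
    rcases (Ideal.IsPrime.mem_or_mem inferInstance h1) with h3 | h3
    · exact Or.inl h3
    · exact Or.inr h3
  have e1 := key p' p (hp'.trans hp.symm)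
  have e2 := key p p' (hp.trans hp'.symm)
  rcases e1 with e1 | e1
  · rcases e2 with e2 | e2
    · exact Or.inl (le_antisymm e1 e2)
    · have h3 : p' ≤ h.conj p' := e1.trans e2
      have h4 : h.conj p' ≤ p' := by
        have := h.conj_mono h3
        rwa [h.conj_conj] at this
      exact Or.inl (le_antisymm e1 (e2.trans h4))
  · rcases e2 with e2 | e2
    · have h3 : p ≤ h.conj p := e2.trans e1
      have h4 : h.conj p ≤ p := by
        have := h.conj_mono h3
        rwa [h.conj_conj] at this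
      exact Or.inl (le_antisymm (e1.trans h4) e2)
    · have h4 : h.conj p ≤ p' := by
        have := h.conj_mono e2
        rwa [h.conj_conj] at this
      exact Or.inr (le_antisymm e1 h4)

end Conj

section LocSplit

variable (S : Type u) (R : Type v) [CommRing S] [CommRing R] [Algebra S R]
  (A : Type w) [Ring A] [Algebra R A] (n : ℕ)

/-- `A` is split by `S' ⊗ R` for an étale neighbourhood `S'` of `q` -/
def LocSplit (q : Ideal S) : Prop :=
  ∃ (S' : Type u) (_ : CommRing S') (_ : Algebra S S') (_ : Algebra.Etale S S') (q' : Ideal S')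
    (_ : q'.IsPrime), q'.comap (algebraMap S S') = q ∧ SplitsOver R A n (S' ⊗[S] R)

variable {S R A n}

theorem LocSplit.of_splitsOver {q : Ideal S} [q.IsPrime] (h : SplitsOver R A n R) :
    LocSplit S R A n q := by
  refine ⟨S, inferInstance, inferInstance, inferInstance, q, inferInstance, ?_, ?_⟩
  · ext x
    simp
  · refine h.map ?_
    exact
      { toRingHom := (Algebra.TensorProduct.includeRight : R →ₐ[S] S ⊗[S] R).toRingHom
        commutes' := fun r => rfl }

theorem LocSplit.trans {q : Ideal S} (S' : Type u) [CommRing S'] [Algebra S S']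
    [Algebra.Etale S S'] (q' : Ideal S') [q'.IsPrime] (hq' : q'.comap (algebraMap S S') = q)
    (h : LocSplit S' (S' ⊗[S] R) ((S' ⊗[S] R) ⊗[R] A) n q') : LocSplit S R A n q := by
  obtain ⟨S'', _, _, _, q'', _, hq'', hs⟩ := h
  letI : Algebra S S'' := ((algebraMap S' S'').comp (algebraMap S S')).toAlgebra
  haveI : IsScalarTower S S' S'' := IsScalarTower.of_algebraMap_eq (fun _ => rfl)
  haveI : Algebra.Etale S S'' := Algebra.Etale.comp S S' S''
  refine ⟨S'', inferInstance, inferInstance, inferInstance, q'', inferInstance, ?_, ?_⟩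
  · rw [← hq', ← hq'', Ideal.comap_comap]
    rfl
  · letI : Algebra R (S'' ⊗[S'] (S' ⊗[S] R)) :=
      ((algebraMap (S' ⊗[S] R) (S'' ⊗[S'] (S' ⊗[S] R))).comp
        (algebraMap R (S' ⊗[S] R))).toAlgebra
    haveI : IsScalarTower R (S' ⊗[S] R) (S'' ⊗[S'] (S' ⊗[S] R)) :=
      IsScalarTower.of_algebraMap_eq (fun _ => rfl)
    have h1 : SplitsOver R A n (S'' ⊗[S'] (S' ⊗[S] R)) := hs.of_baseChange
    refine h1.map ?_
    exact
      { toRingHom := (Algebra.TensorProduct.cancelBaseChange S S' S'' S'' R).toAlgHom.toRingHom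
        commutes' := fun r => by
          show (Algebra.TensorProduct.cancelBaseChange S S' S'' S'' R)
            ((1 : S'') ⊗ₜ[S'] ((1 : S') ⊗ₜ[S] r)) = (1 : S'') ⊗ₜ[S] r
          rw [Algebra.TensorProduct.cancelBaseChange_tmul, one_smul] }

end LocSplit

end Groth.Agent.Lib.R2LeadAzFixBase
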