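import Mathlib
import Groth.Agent.Lib.R2LeadAzFixBase
import Groth.Agent.Lib.R2LeadAzCorner
import Groth.Agent.Lib.R2LeadAzSplit

/-!
# Azumaya algebras over a ring with involution: from an idempotent of rank `n` to a splitting (lead)
-/

set_option autoImplicit false
set_option linter.style.haveILetI false
set_option linter.unusedSectionVars false

namespace Groth.Agent.Lib.R2LeadAzFixFree

open TensorProduct
open Groth.Agent.Lib.R2Lead.LGCorner (L mem_L_iff finite_L projectiveR_L)
open Groth.Agent.Lib.R2Lead.AzCorner (retrR retrR_val)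
open Groth.Agent.Lib.R2LeadAzFixBase

attribute [local instance] Algebra.TensorProduct.rightAlgebra

universe u v w

section TensorL

variable {R : Type*} [CommRing R] {A : Type*} [Ring A] [Algebra R A]
  (T : Type*) [CommRing T] [Algebra R T] {e : A}

/-- the inclusion of the left ideal `A e` -/
def inclL (e : A) : L e →ₗ[R] A := (L e).subtype.restrictScalars R

@[simp] theorem inclL_apply (x : L e) : inclL (R := R) e x = x.1 := rfl

theorem retrR_comp_inclL (he : IsIdempotentElem e) :
    (retrR (R := R) (e := e)).comp (inclL (R := R) e) = LinearMap.id := by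
  ext x
  simp only [LinearMap.comp_apply, inclL_apply, retrR_val, LinearMap.id_apply]
  exact (mem_L_iff he).mp x.2

theorem one_tmul_idem (he : IsIdempotentElem e) : IsIdempotentElem ((1 : T) ⊗ₜ[R] e) := by
  show _ * _ = _
  rw [Algebra.TensorProduct.tmul_mul_tmul, one_mul, he.eq]

theorem inclL_retrR_baseChange (z : T ⊗[R] A) :
    (inclL (R := R) e).baseChange T ((retrR (R := R) (e := e)).baseChange T z) =
      z * ((1 : T) ⊗ₜ[R] e) := by
  induction z using TensorProduct.induction_on with
  | zero => simp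
  | tmul t a =>
    rw [LinearMap.baseChange_tmul, LinearMap.baseChange_tmul, inclL_apply, retrR_val,
      Algebra.TensorProduct.tmul_mul_tmul, mul_one]
  | add x y hx hy => rw [map_add, map_add, hx, hy, add_mul]

theorem retrR_inclL_baseChange (he : IsIdempotentElem e) (z : T ⊗[R] L e) :
    (retrR (R := R) (e := e)).baseChange T ((inclL (R := R) e).baseChange T z) = z := by
  rw [← LinearMap.comp_apply, ← LinearMap.baseChange_comp, retrR_comp_inclL he,
    LinearMap.baseChange_id, LinearMap.id_apply]

/-- base change of the left ideal `A e` -/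
noncomputable def tensorL (he : IsIdempotentElem e) :
    T ⊗[R] L e ≃ₗ[T] L ((1 : T) ⊗ₜ[R] e) where
  toFun z := ⟨(inclL (R := R) e).baseChange T z, by
    rw [mem_L_iff (one_tmul_idem T he)]
    have h1 := inclL_retrR_baseChange (R := R) T (e := e) ((inclL (R := R) e).baseChange T z)
    rw [retrR_inclL_baseChange T he z] at h1
    exact h1.symm⟩
  map_add' x y := by
    apply Subtype.ext
    simp
  map_smul' t x := by
    apply Subtype.ext
    simp
  invFun x := (retrR (R := R) (e := e)).baseChange T x.1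
  left_inv z := retrR_inclL_baseChange T he z
  right_inv x := by
    apply Subtype.ext
    show (inclL (R := R) e).baseChange T ((retrR (R := R) (e := e)).baseChange T x.1) = x.1
    rw [inclL_retrR_baseChange]
    exact (mem_L_iff (one_tmul_idem T he)).mp x.2

theorem rankAtStalk_L_one_tmul [IsAzumaya R A] (he : IsIdempotentElem e) (p : PrimeSpectrum T) :
    Module.rankAtStalk (R := T) (L ((1 : T) ⊗ₜ[R] e)) p =
      Module.rankAtStalk (R := R) (L e) (PrimeSpectrum.comap (algebraMap R T) p) := by
  haveI := finite_L (R := R) e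
  haveI := projectiveR_L (R := R) he
  rw [← Module.rankAtStalk_baseChange]
  exact congrFun (Module.rankAtStalk_eq_of_equiv (tensorL T he).symm) p

end TensorL

section EndIso

variable {R : Type u} [CommRing R] {A : Type v} [Ring A] [Algebra R A] {n : ℕ}

theorem finrank_field_tensor (κ : Type*) [Field κ] [Algebra R κ] (M : Type*) [AddCommGroup M]
    [Module R M] [Module.Finite R M] [Module.Projective R M] :
    Module.finrank κ (κ ⊗[R] M) = Module.rankAtStalk (R := R) M
      (PrimeSpectrum.comap (algebraMap R κ) ⟨⊥, Ideal.isPrime_bot⟩) := by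
  rw [← Module.rankAtStalk_baseChange, Module.rankAtStalk_eq_finrank_of_free]
  rfl

theorem faithful_of_rank_pos (M : Type*) [AddCommGroup M] [Module R M] [Module.Finite R M]
    [Module.Projective R M] (hpos : ∀ q : PrimeSpectrum R, 0 < Module.rankAtStalk M q) :
    FaithfulSMul R M := by
  refine ⟨fun {r r'} hrr => ?_⟩
  have := Groth.Agent.Lib.R2Lead.AzCorner.eq_zero_of_smul_eq_zero_of_rank_pos hpos (r - r')
    (fun x => by rw [sub_smul, hrr x, sub_self])
  exact sub_eq_zero.mp this

theorem lsmul_bijective [IsAzumaya R A] (hn : 0 < n)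
    (hrk : ∀ p : PrimeSpectrum R, Module.rankAtStalk (R := R) A p = n ^ 2) {e : A}
    (he : IsIdempotentElem e)
    (hre : ∀ p : PrimeSpectrum R, Module.rankAtStalk (R := R) (L e) p = n) :
    Function.Bijective (Algebra.lsmul R R (L e) : A →ₐ[R] Module.End R (L e)) := by
  haveI := finite_L (R := R) e
  haveI := projectiveR_L (R := R) he
  haveI : FaithfulSMul R (L e) := faithful_of_rank_pos (L e) (fun q => by rw [hre]; exact hn)
  haveI : IsAzumaya R (Module.End R (L e)) := Groth.Agent.S19589.result R (L e)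
  have hrE : ∀ p : PrimeSpectrum R, Module.rankAtStalk (R := R) (Module.End R (L e)) p = n ^ 2 := by
    intro p
    rw [Groth.Agent.Lib.R2Lead.LGCorner.rank_end, hre, pow_two]
  have hsurj : Function.Surjective (Algebra.lsmul R R (L e) : A →ₐ[R] Module.End R (L e)) := by
    have := Groth.Agent.Lib.R2LeadAzSplit.surjective_of_forall_maximal
      (Algebra.lsmul R R (L e) : A →ₐ[R] Module.End R (L e)).toLinearMap ?_
    · exact this
    intro P hP
    letI : Field (R ⧸ P) := Ideal.Quotient.field P
    let lb : (R ⧸ P) ⊗[R] A →ₐ[R ⧸ P] (R ⧸ P) ⊗[R] Module.End R (L e) :=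
      Algebra.TensorProduct.map (AlgHom.id (R ⧸ P) (R ⧸ P))
        (Algebra.lsmul R R (L e) : A →ₐ[R] Module.End R (L e))
    haveI : IsAzumaya (R ⧸ P) ((R ⧸ P) ⊗[R] A) :=
      Groth.Agent.Lib.LeadAzumaya.isAzumaya_baseChange (R ⧸ P) A
    haveI : IsSimpleRing ((R ⧸ P) ⊗[R] A) :=
      Groth.Agent.Lib.LeadAzumaya.isSimpleRing_of_isAzumaya_field (k := R ⧸ P)
    have hfrC : Module.finrank (R ⧸ P) ((R ⧸ P) ⊗[R] A) = n ^ 2 := by
      rw [finrank_field_tensor, hrk]
    have hfrE : Module.finrank (R ⧸ P) ((R ⧸ P) ⊗[R] Module.End R (L e)) = n ^ 2 := by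
      rw [finrank_field_tensor, hrE]
    haveI : Nontrivial ((R ⧸ P) ⊗[R] Module.End R (L e)) :=
      Module.nontrivial_of_finrank_pos (R := R ⧸ P) (by rw [hfrE]; positivity)
    have hinj : Function.Injective lb := RingHom.injective lb.toRingHom
    have hs : Function.Surjective lb :=
      (LinearMap.injective_iff_surjective_of_finrank_eq_finrank (f := lb.toLinearMap)
        (hfrC.trans hfrE.symm)).mp hinj
    have hlt : ∀ z, LinearMap.lTensor (R ⧸ P)
        (Algebra.lsmul R R (L e) : A →ₐ[R] Module.End R (L e)).toLinearMap z = lb z := by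
      intro z
      induction z using TensorProduct.induction_on with
      | zero => simp
      | tmul k c => simp [lb]
      | add x y hx hy => rw [map_add, map_add, hx, hy]
    intro z
    obtain ⟨w, hw⟩ := hs z
    exact ⟨w, (hlt w).trans hw⟩
  exact Module.bijective_of_surjective_of_rankAtStalk_eq
    (φ := (Algebra.lsmul R R (L e) : A →ₐ[R] Module.End R (L e)).toLinearMap) hsurj
    (fun m _ => by rw [hrk, hrE])

end EndIso

section Fibre

variable {R : Type v} [CommRing R]

/-- clearing denominators in the fibre at a prime -/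
theorem exists_clear_denominator {M : Type*} [AddCommGroup M] [Module R M] (p : Ideal R)
    [p.IsPrime] (z : p.ResidueField ⊗[R] M) :
    ∃ t : R, t ∉ p ∧ ∃ y : M, (algebraMap R p.ResidueField t) • z = (1 : p.ResidueField) ⊗ₜ[R] y := by
  induction z using TensorProduct.induction_on with
  | zero => exact ⟨1, p.primeCompl.one_mem, 0, by simp⟩
  | tmul a m =>
    obtain ⟨x, rfl⟩ := IsLocalRing.residue_surjective a
    obtain ⟨⟨r, s⟩, rfl⟩ := IsLocalization.mk'_surjective p.primeCompl x
    refine ⟨s.1, s.2, r • m, ?_⟩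
    rw [TensorProduct.smul_tmul', smul_eq_mul]
    have h1 : algebraMap R p.ResidueField s.1 *
        IsLocalRing.residue (Localization.AtPrime p) (IsLocalization.mk' _ r s) =
        algebraMap R p.ResidueField r := by
      rw [IsScalarTower.algebraMap_apply R (Localization.AtPrime p) p.ResidueField,
        IsScalarTower.algebraMap_apply R (Localization.AtPrime p) p.ResidueField,
        IsLocalRing.ResidueField.algebraMap_eq, ← map_mul, IsLocalization.mk'_spec'_mk]
    rw [h1, TensorProduct.tmul_smul, TensorProduct.smul_tmul', Algebra.smul_def, mul_one]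
  | add z₁ z₂ h₁ h₂ =>
    obtain ⟨t₁, ht₁, y₁, e₁⟩ := h₁
    obtain ⟨t₂, ht₂, y₂, e₂⟩ := h₂
    refine ⟨t₁ * t₂, p.primeCompl.mul_mem ht₁ ht₂, t₂ • y₁ + t₁ • y₂, ?_⟩
    have h3 : ∀ (t : R) (y : M), (algebraMap R p.ResidueField t) •
        ((1 : p.ResidueField) ⊗ₜ[R] y) = 1 ⊗ₜ (t • y) := by
      intro t y
      rw [TensorProduct.tmul_smul, TensorProduct.smul_tmul', TensorProduct.smul_tmul',
        smul_eq_mul, Algebra.smul_def]
    calc (algebraMap R p.ResidueField (t₁ * t₂)) • (z₁ + z₂)
        = (algebraMap R p.ResidueField t₂) • ((algebraMap R p.ResidueField t₁) • z₁) +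
          (algebraMap R p.ResidueField t₁) • ((algebraMap R p.ResidueField t₂) • z₂) := by
          rw [smul_add, map_mul, mul_smul, mul_smul]
          congr 1
          rw [smul_comm]
      _ = (1 : p.ResidueField) ⊗ₜ[R] (t₂ • y₁) + 1 ⊗ₜ (t₁ • y₂) := by rw [e₁, e₂, h3, h3]
      _ = _ := (TensorProduct.tmul_add _ _ _).symm

theorem algebraMap_smul_one_tmul {M : Type*} [AddCommGroup M] [Module R M] (p : Ideal R)
    [p.IsPrime] (t : R) (y : M) :
    (algebraMap R p.ResidueField t) • ((1 : p.ResidueField) ⊗ₜ[R] y) = 1 ⊗ₜ (t • y) := by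
  rw [TensorProduct.tmul_smul, TensorProduct.smul_tmul', TensorProduct.smul_tmul',
    smul_eq_mul, Algebra.smul_def]

end Fibre

section Free

variable {R : Type v} [CommRing R] {P : Type*} [AddCommGroup P] [Module R P] [Module.Finite R P]
  [Module.Projective R P] {n : ℕ}

theorem span_one_tmul_eq_top (p : Ideal R) [p.IsPrime] :
    Submodule.span p.ResidueField (Set.range fun y : P => (1 : p.ResidueField) ⊗ₜ[R] y) = ⊤ := by
  rw [eq_top_iff]
  rintro z -
  induction z using TensorProduct.induction_on with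
  | zero => exact Submodule.zero_mem _
  | tmul a y =>
    have : a ⊗ₜ[R] y = a • ((1 : p.ResidueField) ⊗ₜ[R] y) := by
      rw [TensorProduct.smul_tmul', smul_eq_mul, mul_one]
    rw [this]
    exact Submodule.smul_mem _ _ (Submodule.subset_span ⟨y, rfl⟩)
  | add x y hx hy => exact Submodule.add_mem _ hx hy

theorem exists_fin_span_fibre (p : Ideal R) [p.IsPrime]
    (hr : Module.rankAtStalk (R := R) P ⟨p, inferInstance⟩ = n) :
    ∃ y : Fin n → P, Submodule.span p.ResidueField
      (Set.range fun i => (1 : p.ResidueField) ⊗ₜ[R] y i) = ⊤ := by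
  classical
  obtain ⟨s, hs⟩ : ∃ s : Set (p.ResidueField ⊗[R] P),
    s = Set.range fun y : P => (1 : p.ResidueField) ⊗ₜ[R] y := ⟨_, rfl⟩
  have hspan : Submodule.span p.ResidueField s = ⊤ := by rw [hs]; exact span_one_tmul_eq_top p
  have hfin : Module.finrank p.ResidueField (Submodule.span p.ResidueField s) = n := by
    rw [hspan, finrank_top, ← hr, Module.rankAtStalk_eq]
  obtain ⟨f, hfs, hfspan, -⟩ := Submodule.exists_fun_fin_finrank_span_eq p.ResidueField s
  have hfs' : ∀ i, ∃ y : P, (1 : p.ResidueField) ⊗ₜ[R] y = f i := by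
    intro i
    have := hfs i
    rw [hs] at this
    exact this
  choose y hy using hfs'
  refine ⟨fun i => y (Fin.cast hfin.symm i), ?_⟩
  have : (Set.range fun i : Fin n => (1 : p.ResidueField) ⊗ₜ[R] y (Fin.cast hfin.symm i)) =
      Set.range f := by
    ext z
    constructor
    · rintro ⟨i, rfl⟩
      exact ⟨Fin.cast hfin.symm i, (hy _).symm⟩
    · rintro ⟨j, rfl⟩
      exact ⟨Fin.cast hfin j, by simp [hy]⟩
  rw [this, hfspan, hspan]

theorem span_combo (p : Ideal R) [p.IsPrime] (c c' : R) (hc : c ∉ p) (hc' : c' ∈ p)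
    (y z : Fin n → P)
    (hy : Submodule.span p.ResidueField
      (Set.range fun i => (1 : p.ResidueField) ⊗ₜ[R] y i) = ⊤) :
    Submodule.span p.ResidueField
      (Set.range fun i => (1 : p.ResidueField) ⊗ₜ[R] (c • y i + c' • z i)) = ⊤ := by
  rw [eq_top_iff, ← hy, Submodule.span_le]
  rintro _ ⟨i, rfl⟩
  have hc0 : algebraMap R p.ResidueField c ≠ 0 :=
    fun h0 => hc (Ideal.algebraMap_residueField_eq_zero.mp h0)
  have hc'0 : algebraMap R p.ResidueField c' = 0 := Ideal.algebraMap_residueField_eq_zero.mpr hc'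
  have h1 : (1 : p.ResidueField) ⊗ₜ[R] (c • y i + c' • z i) =
      (algebraMap R p.ResidueField c) • ((1 : p.ResidueField) ⊗ₜ[R] y i) := by
    rw [TensorProduct.tmul_add, ← algebraMap_smul_one_tmul, ← algebraMap_smul_one_tmul, hc'0,
      zero_smul, add_zero]
  have h2 : (1 : p.ResidueField) ⊗ₜ[R] y i = (algebraMap R p.ResidueField c)⁻¹ •
      ((1 : p.ResidueField) ⊗ₜ[R] (c • y i + c' • z i)) := by
    rw [h1, smul_smul, inv_mul_cancel₀ hc0, one_smul]
  show (1 : p.ResidueField) ⊗ₜ[R] y i ∈ _
  rw [h2]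
  exact Submodule.smul_mem _ _ (Submodule.subset_span ⟨i, rfl⟩)

theorem exists_fin_span_two (p₁ p₂ : Ideal R) [p₁.IsPrime] [p₂.IsPrime]
    (h12 : p₁ = p₂ ∨ (¬ p₁ ≤ p₂ ∧ ¬ p₂ ≤ p₁))
    (hr1 : Module.rankAtStalk (R := R) P ⟨p₁, inferInstance⟩ = n)
    (hr2 : Module.rankAtStalk (R := R) P ⟨p₂, inferInstance⟩ = n) :
    ∃ x : Fin n → P,
      Submodule.span p₁.ResidueField
        (Set.range fun i => (1 : p₁.ResidueField) ⊗ₜ[R] x i) = ⊤ ∧
      Submodule.span p₂.ResidueField
        (Set.range fun i => (1 : p₂.ResidueField) ⊗ₜ[R] x i) = ⊤ := by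
  rcases h12 with h12 | ⟨h1, h2⟩
  · subst h12
    obtain ⟨y, hy⟩ := exists_fin_span_fibre p₁ hr1
    exact ⟨y, hy, hy⟩
  · obtain ⟨c₂, hc₂1, hc₂2⟩ := SetLike.not_le_iff_exists.mp h1
    obtain ⟨c₁, hc₁2, hc₁1⟩ := SetLike.not_le_iff_exists.mp h2
    obtain ⟨y, hy⟩ := exists_fin_span_fibre p₁ hr1
    obtain ⟨z, hz⟩ := exists_fin_span_fibre p₂ hr2
    refine ⟨fun i => c₁ • y i + c₂ • z i, span_combo p₁ c₁ c₂ hc₁1 hc₂1 y z hy, ?_⟩
    have := span_combo p₂ c₂ c₁ hc₂2 hc₁2 z y hz
    simp only [add_comm (c₂ • z _)] at this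
    exact this

theorem not_annihilator_le (p : Ideal R) [p.IsPrime] (x : Fin n → P)
    (hx : Submodule.span p.ResidueField
      (Set.range fun i => (1 : p.ResidueField) ⊗ₜ[R] x i) = ⊤) :
    ¬ Module.annihilator R (P ⧸ Submodule.span R (Set.range x)) ≤ p := by
  obtain ⟨N, hN⟩ : ∃ N : Submodule R P, N = Submodule.span R (Set.range x) := ⟨_, rfl⟩
  rw [← hN]
  intro hle
  have hsupp : (⟨p, inferInstance⟩ : PrimeSpectrum R) ∈ Module.support R (P ⧸ N) := by
    rw [Module.support_eq_zeroLocus, PrimeSpectrum.mem_zeroLocus]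
    exact hle
  rw [Module.mem_support_iff_nontrivial_residueField_tensorProduct] at hsupp
  have hmap : ∀ w ∈ Submodule.span p.ResidueField
      (Set.range fun i => (1 : p.ResidueField) ⊗ₜ[R] x i),
      (N.mkQ.baseChange p.ResidueField) w = 0 := by
    intro w hw
    induction hw using Submodule.span_induction with
    | mem w hw =>
      obtain ⟨i, rfl⟩ := hw
      rw [LinearMap.baseChange_tmul, Submodule.mkQ_apply,
        (Submodule.Quotient.mk_eq_zero N).mpr (hN ▸ Submodule.subset_span ⟨i, rfl⟩),
        TensorProduct.tmul_zero]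
    | zero => simp
    | add _ _ _ _ h1 h2 => rw [map_add, h1, h2, add_zero]
    | smul c _ _ h1 => rw [map_smul, h1, smul_zero]
  have hall : ∀ z : p.ResidueField ⊗[R] (P ⧸ N), z = 0 := by
    intro z
    induction z using TensorProduct.induction_on with
    | zero => rfl
    | tmul a m =>
      obtain ⟨y, rfl⟩ := N.mkQ_surjective m
      have hy : (1 : p.ResidueField) ⊗ₜ[R] y ∈ Submodule.span p.ResidueField
          (Set.range fun i => (1 : p.ResidueField) ⊗ₜ[R] x i) := by
        rw [hx]; trivial
      have h1 := hmap _ hy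
      rw [LinearMap.baseChange_tmul] at h1
      have : a ⊗ₜ[R] (N.mkQ y) = a • ((1 : p.ResidueField) ⊗ₜ[R] (N.mkQ y)) := by
        rw [TensorProduct.smul_tmul', smul_eq_mul, mul_one]
      rw [this, h1, smul_zero]
    | add z w hz hw => rw [hz, hw, add_zero]
  obtain ⟨a, b, hab⟩ := hsupp
  exact hab ((hall a).trans (hall b).symm)

end Free

section FreeAway

variable {S : Type u} {R : Type v} [CommRing S] [CommRing R] [Algebra S R]
  {A : Type w} [Ring A] [Algebra R A] {n : ℕ} (h : Setup S R A n)

theorem _root_.Groth.Agent.Lib.R2LeadAzFixBase.Setup.conj_cases (p : Ideal R) [p.IsPrime] :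
    p = h.conj p ∨ (¬ p ≤ h.conj p ∧ ¬ h.conj p ≤ p) := by
  by_cases h1 : p ≤ h.conj p
  · left
    refine le_antisymm h1 ?_
    have := h.conj_mono h1
    rwa [h.conj_conj] at this
  · right
    refine ⟨h1, fun h2 => h1 ?_⟩
    have := h.conj_mono h2
    rwa [h.conj_conj] at this

theorem away_tmul_eq (s : S) :
    (algebraMap S (Localization.Away s) s) ⊗ₜ[S] (1 : R) =
      (1 : Localization.Away s) ⊗ₜ[S] (algebraMap S R s) := by
  rw [Algebra.algebraMap_eq_smul_one, Algebra.algebraMap_eq_smul_one, TensorProduct.smul_tmul]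

theorem isUnit_away_tmul (s : S) :
    IsUnit ((1 : Localization.Away s) ⊗ₜ[S] (algebraMap S R s)) := by
  rw [← away_tmul_eq]
  exact (IsLocalization.Away.algebraMap_isUnit (S := Localization.Away s) s).map
    (Algebra.TensorProduct.includeLeft : Localization.Away s →ₐ[S] Localization.Away s ⊗[S] R)

include h in
theorem exists_free_away (q : Ideal S) [q.IsPrime]
    (P : Type*) [AddCommGroup P] [Module R P] [Module.Finite R P] [Module.Projective R P]
    (hP : ∀ p : PrimeSpectrum R, Module.rankAtStalk (R := R) P p = n) :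
    ∃ s : S, s ∉ q ∧ Nonempty (((Localization.Away s ⊗[S] R) ⊗[R] P) ≃ₗ[Localization.Away s ⊗[S] R]
      (Fin n → (Localization.Away s ⊗[S] R))) := by
  classical
  obtain ⟨p, hpp, hpq⟩ := h.exists_prime_over q
  obtain ⟨x, hx1, hx2⟩ := exists_fin_span_two (P := P) p (h.conj p) (h.conj_cases p) (hP _) (hP _)
  obtain ⟨N, hN⟩ : ∃ N : Submodule R P, N = Submodule.span R (Set.range x) := ⟨_, rfl⟩
  have h1 : ¬ Module.annihilator R (P ⧸ N) ≤ p := hN ▸ not_annihilator_le p x hx1
  have h2 : ¬ Module.annihilator R (P ⧸ N) ≤ h.conj p := hN ▸ not_annihilator_le (h.conj p) x hx2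
  obtain ⟨s, hsq, hsI⟩ := h.exists_mem_of_not_le q _ p hpq h1 h2
  have hsN : ∀ y : P, (algebraMap S R s) • y ∈ N := by
    intro y
    have := Module.mem_annihilator.mp hsI (N.mkQ y)
    rw [← map_smul, Submodule.mkQ_apply, Submodule.Quotient.mk_eq_zero] at this
    exact this
  refine ⟨s, hsq, ?_⟩
  obtain ⟨R', hR'⟩ : ∃ R' : Type (max u v), R' = (Localization.Away s ⊗[S] R) := ⟨_, rfl⟩
  let v : Fin n → (Localization.Away s ⊗[S] R) ⊗[R] P :=
    fun i => (1 : Localization.Away s ⊗[S] R) ⊗ₜ[R] x i
  let φ := Fintype.linearCombination (Localization.Away s ⊗[S] R) v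
  have hsurj : Function.Surjective φ := by
    rw [← LinearMap.range_eq_top, Fintype.range_linearCombination, eq_top_iff]
    rintro z -
    -- `1 ⊗ y` lies in the span for `y ∈ N`
    have hNspan : ∀ y ∈ N, (1 : Localization.Away s ⊗[S] R) ⊗ₜ[R] y ∈
        Submodule.span (Localization.Away s ⊗[S] R) (Set.range v) := by
      intro y hy
      rw [hN] at hy
      induction hy using Submodule.span_induction with
      | mem y hy =>
        obtain ⟨i, rfl⟩ := hy
        exact Submodule.subset_span ⟨i, rfl⟩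
      | zero => rw [TensorProduct.tmul_zero]; exact Submodule.zero_mem _
      | add _ _ _ _ h1 h2 => rw [TensorProduct.tmul_add]; exact Submodule.add_mem _ h1 h2
      | smul c y _ h1 =>
        have : (1 : Localization.Away s ⊗[S] R) ⊗ₜ[R] (c • y) =
            (algebraMap R (Localization.Away s ⊗[S] R) c) •
              ((1 : Localization.Away s ⊗[S] R) ⊗ₜ[R] y) := by
          rw [TensorProduct.tmul_smul, algebraMap_smul]
        rw [this]
        exact Submodule.smul_mem _ _ h1
    obtain ⟨u, hu⟩ := isUnit_away_tmul (R := R) s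
    have hone : ∀ y : P, (1 : Localization.Away s ⊗[S] R) ⊗ₜ[R] y ∈
        Submodule.span (Localization.Away s ⊗[S] R) (Set.range v) := by
      intro y
      have h3 : (u : Localization.Away s ⊗[S] R) • ((1 : Localization.Away s ⊗[S] R) ⊗ₜ[R] y) =
          (1 : Localization.Away s ⊗[S] R) ⊗ₜ[R] ((algebraMap S R s) • y) := by
        rw [hu, TensorProduct.tmul_smul, ← algebraMap_smul (Localization.Away s ⊗[S] R)
          (algebraMap S R s)]
        rfl
      have h4 := hNspan _ (hsN y)
      rw [← h3] at h4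
      exact (Submodule.smul_mem_iff_of_isUnit _ u.isUnit).mp h4
    induction z using TensorProduct.induction_on with
    | zero => exact Submodule.zero_mem _
    | tmul c y =>
      have : c ⊗ₜ[R] y = c • ((1 : Localization.Away s ⊗[S] R) ⊗ₜ[R] y) := by
        rw [TensorProduct.smul_tmul', smul_eq_mul, mul_one]
      rw [this]
      exact Submodule.smul_mem _ _ (hone y)
    | add z w hz hw => exact Submodule.add_mem _ hz hw
  have hbij : Function.Bijective φ := by
    haveI : Module.Flat (Localization.Away s ⊗[S] R) ((Localization.Away s ⊗[S] R) ⊗[R] P) := inferInstance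
    haveI : Module.Finite (Localization.Away s ⊗[S] R) ((Localization.Away s ⊗[S] R) ⊗[R] P) := inferInstance
    haveI : Module.Flat (Localization.Away s ⊗[S] R) (Fin n → (Localization.Away s ⊗[S] R)) := inferInstance
    haveI : Module.Finite (Localization.Away s ⊗[S] R) (Fin n → (Localization.Away s ⊗[S] R)) := inferInstance
    refine @Module.bijective_of_surjective_of_rankAtStalk_eq (Localization.Away s ⊗[S] R) _
      (Fin n → Localization.Away s ⊗[S] R) ((Localization.Away s ⊗[S] R) ⊗[R] P)
      _ _ _ _ _ _ _ _ φ hsurj (fun m hm => ?_)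
    haveI : Nontrivial (Localization.Away s ⊗[S] R) := by
      by_contra hnt
      rw [not_nontrivial_iff_subsingleton] at hnt
      exact hm.ne_top (Subsingleton.elim _ _)
    rw [Module.rankAtStalk_baseChange, hP, Module.rankAtStalk_eq_finrank_of_free]
    simp
  exact ⟨(LinearEquiv.ofBijective φ hbij).symm⟩

end FreeAway

section LocSplitFromIdem

variable {S : Type u} {R : Type v} [CommRing S] [CommRing R] [Algebra S R]
  {A : Type w} [Ring A] [Algebra R A] {n : ℕ} (h : Setup S R A n)

theorem disjoint_powers {q : Ideal S} [q.IsPrime] {s : S} (hsq : s ∉ q) :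
    Disjoint (Submonoid.powers s : Set S) (q : Set S) := by
  rw [Set.disjoint_left]
  rintro x ⟨k, rfl⟩ hx
  exact hsq (Ideal.IsPrime.mem_of_pow_mem inferInstance k hx)

include h in
theorem locSplit_of_rank_eq (q : Ideal S) [q.IsPrime] {e : A} (he : IsIdempotentElem e)
    (hre : ∀ p : PrimeSpectrum R, Module.rankAtStalk (R := R) (L e) p = n) :
    LocSplit S R A n q := by
  haveI := h.az
  haveI := finite_L (R := R) e
  haveI := projectiveR_L (R := R) he
  let Λ : A ≃ₐ[R] Module.End R (L e) :=
    AlgEquiv.ofBijective _ (lsmul_bijective h.hn h.rk he hre)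
  obtain ⟨s, hsq, ⟨ψ⟩⟩ := exists_free_away h q (L e) hre
  have hdisj := disjoint_powers hsq
  haveI : (Ideal.map (algebraMap S (Localization.Away s)) q).IsPrime :=
    IsLocalization.isPrime_of_isPrime_disjoint (Submonoid.powers s) _ q inferInstance hdisj
  refine ⟨Localization.Away s, inferInstance, inferInstance, inferInstance,
    Ideal.map (algebraMap S (Localization.Away s)) q, inferInstance, ?_, ⟨?_⟩⟩
  · exact IsLocalization.under_map_of_isPrime_disjoint (Submonoid.powers s) _ inferInstance hdisj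
  · exact (Algebra.TensorProduct.congr
      (AlgEquiv.refl : (Localization.Away s ⊗[S] R) ≃ₐ[Localization.Away s ⊗[S] R] _) Λ).trans
      ((AlgEquiv.ofBijective (LinearMap.tensorProductEnd R (Localization.Away s ⊗[S] R) (L e))
        (Groth.Agent.Lib.LeadAzumaya.tensorProductEnd_bijective _ _)).trans
        ((ψ.conjAlgEquiv (Localization.Away s ⊗[S] R)).trans LinearMap.toMatrixAlgEquiv'))

include h in
theorem locSplit_of_rank_eq_over (q : Ideal S) [q.IsPrime] {e : A} (he : IsIdempotentElem e)
    (hre : ∀ (p : Ideal R) [p.IsPrime], p.comap (algebraMap S R) = q →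
      Module.rankAtStalk (R := R) (L e) ⟨p, inferInstance⟩ = n) :
    LocSplit S R A n q := by
  haveI := h.az
  haveI := finite_L (R := R) e
  haveI := projectiveR_L (R := R) he
  haveI : Module.FinitePresentation R (L e) := Module.finitePresentation_of_projective R (L e)
  have hopen : IsOpen {p : PrimeSpectrum R | Module.rankAtStalk (R := R) (L e) p = n} :=
    (Module.isLocallyConstant_rankAtStalk (R := R) (M := L e)).isOpen_fiber n
  obtain ⟨I, hI⟩ := (PrimeSpectrum.isClosed_iff_zeroLocus_ideal _).mp hopen.isClosed_compl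
  obtain ⟨p, hpp, hpq⟩ := h.exists_prime_over q
  have hnot : ∀ (p' : Ideal R) [p'.IsPrime], p'.comap (algebraMap S R) = q → ¬ I ≤ p' := by
    intro p' _ hp' hle
    have hmem : (⟨p', inferInstance⟩ : PrimeSpectrum R) ∈ PrimeSpectrum.zeroLocus (I : Set R) := by
      rw [PrimeSpectrum.mem_zeroLocus]
      exact hle
    rw [← hI] at hmem
    exact hmem (hre p' hp')
  obtain ⟨s, hsq, hsI⟩ := h.exists_mem_of_not_le q I p hpq (hnot p hpq)
    (hnot (h.conj p) ((h.comap_conj p).trans hpq))
  have hdisj := disjoint_powers hsq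
  haveI : (Ideal.map (algebraMap S (Localization.Away s)) q).IsPrime :=
    IsLocalization.isPrime_of_isPrime_disjoint (Submonoid.powers s) _ q inferInstance hdisj
  refine LocSplit.trans (Localization.Away s) (Ideal.map (algebraMap S (Localization.Away s)) q)
    (IsLocalization.under_map_of_isPrime_disjoint (Submonoid.powers s) _ inferInstance hdisj) ?_
  refine locSplit_of_rank_eq (h.bc (Localization.Away s)) _
    (e := (1 : Localization.Away s ⊗[S] R) ⊗ₜ[R] e) (one_tmul_idem _ he) ?_
  intro p'
  rw [rankAtStalk_L_one_tmul _ he]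
  by_contra hne
  have hmem : PrimeSpectrum.comap (algebraMap R (Localization.Away s ⊗[S] R)) p' ∈
      ({p : PrimeSpectrum R | Module.rankAtStalk (R := R) (L e) p = n})ᶜ := hne
  rw [hI, PrimeSpectrum.mem_zeroLocus] at hmem
  have h1 : algebraMap R (Localization.Away s ⊗[S] R) (algebraMap S R s) ∈ p'.asIdeal :=
    hmem hsI
  exact p'.isPrime.ne_top (Ideal.eq_top_of_isUnit_mem _ h1 (isUnit_away_tmul (R := R) s))

end LocSplitFromIdem

end Groth.Agent.Lib.R2LeadAzFixFree
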