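import Mathlib
import Groth.Agent.Lib.R2LeadAzFixFree
import Groth.Agent.Lib.R2LeadAzMaxEt

/-!
# Azumaya algebras over a ring with involution: lifting a rank one idempotent from the fibres (lead)
-/

set_option autoImplicit false
set_option linter.style.haveILetI false
set_option linter.unusedSectionVars false

namespace Groth.Agent.Lib.R2LeadAzFixIdem

open TensorProduct Polynomial
open Groth.Agent.Lib.R2Lead.LGCorner (L mem_L_iff finite_L projectiveR_L transportL)
open Groth.Agent.Lib.R2LeadAzCharpoly (splitBC splitBC_one_tmul)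
open Groth.Agent.Lib.R2LeadAzSpread (cancelAlgEquiv)
open Groth.Agent.Lib.R2LeadAzMaxEt (aeval_one_tmul')
open Groth.Agent.Lib.R2LeadAzFixBase Groth.Agent.Lib.R2LeadAzFixFree

attribute [local instance] Algebra.TensorProduct.rightAlgebra

universe u v w

section Matrix

variable {K : Type*} [Field K] {n : ℕ} (i₀ : Fin n)

/-- the left ideal generated by a diagonal matrix unit is the space of one column -/
noncomputable def colEquiv :
    L (Matrix.single i₀ i₀ (1 : K)) ≃ₗ[K] (Fin n → K) where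
  toFun M := fun i => M.1 i i₀
  map_add' M N := by ext i; simp
  map_smul' c M := by ext i; simp
  invFun v := ⟨Matrix.of fun i j => if j = i₀ then v i else 0, by
    rw [mem_L_iff (by
      show _ * _ = _
      rw [Matrix.single_mul_single_same, one_mul])]
    ext i j
    by_cases hj : j = i₀
    · subst hj
      rw [Matrix.mul_single_apply_same]
      simp
    · rw [Matrix.mul_single_apply_of_ne (c := (1 : K)) i₀ i₀ i j hj]
      simp [hj]⟩
  left_inv M := by
    apply Subtype.ext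
    ext i j
    have hM : M.1 * Matrix.single i₀ i₀ (1 : K) = M.1 := (mem_L_iff (by
      show _ * _ = _
      rw [Matrix.single_mul_single_same, one_mul])).mp M.2
    by_cases hj : j = i₀
    · subst hj
      simp
    · simp only [Matrix.of_apply, hj, if_false]
      rw [← hM, Matrix.mul_single_apply_of_ne (c := (1 : K)) i₀ i₀ i j hj]
  right_inv v := by
    ext i
    simp

theorem finrank_L_single :
    Module.finrank K (L (Matrix.single i₀ i₀ (1 : K))) = n := by
  rw [(colEquiv i₀).finrank_eq, Module.finrank_fin_fun]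

end Matrix

section AevalIdem

variable {K : Type*} [CommRing K] {B : Type*} [Ring B] [Algebra K B]

theorem aeval_smul_idem {ε : B} (hε : IsIdempotentElem ε) (d : K) (Φ : K[X]) :
    aeval (d • ε) Φ = (Φ.eval 0) • (1 - ε) + (Φ.eval d) • ε := by
  induction Φ using Polynomial.induction_on' with
  | add p q hp hq =>
    rw [map_add, hp, hq, eval_add, eval_add, add_smul, add_smul]
    abel
  | monomial k a =>
    rw [aeval_monomial, eval_monomial, eval_monomial]
    cases k with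
    | zero =>
      rw [pow_zero, pow_zero, pow_zero, mul_one, mul_one, ← smul_add, sub_add_cancel,
        Algebra.algebraMap_eq_smul_one]
    | succ k =>
      rw [_root_.smul_pow, hε.pow_succ_eq, zero_pow (Nat.succ_ne_zero k), mul_zero, zero_smul, zero_add,
        Algebra.algebraMap_eq_smul_one, smul_mul_assoc, one_mul, smul_smul]

end AevalIdem

section PolyIdem

variable {K : Type*} [Field K] {n : ℕ} (i₀ : Fin n)

theorem single_idem : IsIdempotentElem (Matrix.single i₀ i₀ (1 : K)) := by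
  show _ * _ = _
  rw [Matrix.single_mul_single_same, one_mul]

theorem aeval_single_eq (d' : K) (hd' : d' ≠ 0) (m : ℕ) (F bK cK dK : K[X])
    (hF : F = X ^ (m + 1) * bK) (hcd : cK * X ^ (m + 1) + dK * bK = 1)
    (hFz : aeval (d' • Matrix.single i₀ i₀ (1 : K)) F = 0) :
    aeval (d' • Matrix.single i₀ i₀ (1 : K)) (cK * X ^ (m + 1)) = Matrix.single i₀ i₀ (1 : K) := by
  have h0 := aeval_smul_idem (single_idem (K := K) i₀) d' F
  rw [hFz] at h0
  have h1 : F.eval d' = 0 := by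
    have := congrFun (congrFun h0 i₀) i₀
    simp only [Matrix.zero_apply, Matrix.add_apply, Matrix.smul_apply, Matrix.sub_apply,
      Matrix.one_apply_eq, Matrix.single_apply_same, sub_self, smul_eq_mul, mul_zero, zero_add,
      mul_one] at this
    exact this.symm
  have h2 : bK.eval d' = 0 := by
    rw [hF, eval_mul, eval_pow, eval_X] at h1
    exact (mul_eq_zero.mp h1).resolve_left (pow_ne_zero _ hd')
  have h3 : (cK * X ^ (m + 1)).eval d' = 1 := by
    have := congrArg (Polynomial.eval d') hcd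
    rw [eval_add, eval_mul (p := dK), h2, mul_zero, add_zero, eval_one] at this
    exact this
  have h4 : (cK * X ^ (m + 1)).eval 0 = 0 := by
    rw [eval_mul, eval_pow, eval_X, zero_pow (Nat.succ_ne_zero m), mul_zero]
  rw [aeval_smul_idem (single_idem (K := K) i₀), h3, h4, zero_smul, zero_add, one_smul]

end PolyIdem

section RankFibre

variable {R' : Type*} [CommRing R'] {A' : Type*} [Ring A'] [Algebra R' A'] [IsAzumaya R' A']

theorem rank_eq_of_fibre (p' : Ideal R') [p'.IsPrime] {n : ℕ} (i₀ : Fin n)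
    (τ : p'.ResidueField ⊗[R'] A' ≃ₐ[p'.ResidueField] Matrix (Fin n) (Fin n) p'.ResidueField)
    {e' : A'} (he' : IsIdempotentElem e')
    (hτ : τ ((1 : p'.ResidueField) ⊗ₜ[R'] e') = Matrix.single i₀ i₀ 1) :
    Module.rankAtStalk (R := R') (L e') ⟨p', inferInstance⟩ = n := by
  haveI := finite_L (R := R') e'
  haveI := projectiveR_L (R := R') he'
  rw [Module.rankAtStalk_eq]
  have e1 : (p'.ResidueField ⊗[R'] L e') ≃ₗ[p'.ResidueField]
      L ((1 : p'.ResidueField) ⊗ₜ[R'] e') := tensorL p'.ResidueField he'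
  have e2 : L ((1 : p'.ResidueField) ⊗ₜ[R'] e') ≃ₗ[p'.ResidueField]
      L (τ ((1 : p'.ResidueField) ⊗ₜ[R'] e')) := transportL τ _
  rw [hτ] at e2
  rw [(e1.trans e2).finrank_eq, finrank_L_single]

end RankFibre

section Good

variable {R : Type v} [CommRing R] {A : Type w} [Ring A] [Algebra R A] {n : ℕ}

/-- `ξ` is a nonzero multiple of a rank one idempotent in the fibre at `p` -/
def Good (i₀ : Fin n) (p : Ideal R) [p.IsPrime] (ξ : A) : Prop :=
  ∃ (σ : p.ResidueField ⊗[R] A ≃ₐ[p.ResidueField] Matrix (Fin n) (Fin n) p.ResidueField)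
    (d : p.ResidueField), d ≠ 0 ∧
    σ ((1 : p.ResidueField) ⊗ₜ[R] ξ) = d • Matrix.single i₀ i₀ (1 : p.ResidueField)

theorem exists_good_one (i₀ : Fin n) (p : Ideal R) [p.IsPrime]
    (hs : SplitsOver R A n p.ResidueField) :
    ∃ (σ : p.ResidueField ⊗[R] A ≃ₐ[p.ResidueField] Matrix (Fin n) (Fin n) p.ResidueField)
      (t : R) (a : A), t ∉ p ∧ σ ((1 : p.ResidueField) ⊗ₜ[R] a) =
        (algebraMap R p.ResidueField t) • Matrix.single i₀ i₀ (1 : p.ResidueField) := by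
  obtain ⟨σ⟩ := hs
  obtain ⟨t, ht, a, hta⟩ := exists_clear_denominator p
    (σ.symm (Matrix.single i₀ i₀ (1 : p.ResidueField)))
  refine ⟨σ, t, a, ht, ?_⟩
  rw [← hta, map_smul, AlgEquiv.apply_symm_apply]

theorem good_combo (i₀ : Fin n) (p : Ideal R) [p.IsPrime]
    (σ : p.ResidueField ⊗[R] A ≃ₐ[p.ResidueField] Matrix (Fin n) (Fin n) p.ResidueField)
    (t c c' : R) (a a' : A) (ht : t ∉ p) (hc : c ∉ p) (hc' : c' ∈ p)
    (hσ : σ ((1 : p.ResidueField) ⊗ₜ[R] a) =
      (algebraMap R p.ResidueField t) • Matrix.single i₀ i₀ (1 : p.ResidueField)) :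
    Good i₀ p (c • a + c' • a') := by
  have hc0 : algebraMap R p.ResidueField c ≠ 0 :=
    fun h0 => hc (Ideal.algebraMap_residueField_eq_zero.mp h0)
  have ht0 : algebraMap R p.ResidueField t ≠ 0 :=
    fun h0 => ht (Ideal.algebraMap_residueField_eq_zero.mp h0)
  have hc'0 : algebraMap R p.ResidueField c' = 0 := Ideal.algebraMap_residueField_eq_zero.mpr hc'
  refine ⟨σ, algebraMap R p.ResidueField c * algebraMap R p.ResidueField t,
    mul_ne_zero hc0 ht0, ?_⟩
  rw [TensorProduct.tmul_add, ← algebraMap_smul_one_tmul, ← algebraMap_smul_one_tmul, hc'0,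
    zero_smul, add_zero, map_smul, hσ, smul_smul]

theorem exists_xi_aux (i₀ : Fin n) (p₁ p₂ : Ideal R) [p₁.IsPrime] [p₂.IsPrime]
    (h12 : p₁ = p₂ ∨ (¬ p₁ ≤ p₂ ∧ ¬ p₂ ≤ p₁))
    (hs1 : SplitsOver R A n p₁.ResidueField) (hs2 : SplitsOver R A n p₂.ResidueField) :
    ∃ ξ : A, Good i₀ p₁ ξ ∧ Good i₀ p₂ ξ := by
  rcases h12 with h12 | ⟨h1, h2⟩
  · subst h12
    obtain ⟨σ, t, a, ht, hσ⟩ := exists_good_one i₀ p₁ hs1
    have hg : Good i₀ p₁ a :=
      ⟨σ, algebraMap R p₁.ResidueField t,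
        fun h0 => ht (Ideal.algebraMap_residueField_eq_zero.mp h0), hσ⟩
    exact ⟨a, hg, hg⟩
  · obtain ⟨c₂, hc₂1, hc₂2⟩ := SetLike.not_le_iff_exists.mp h1
    obtain ⟨c₁, hc₁2, hc₁1⟩ := SetLike.not_le_iff_exists.mp h2
    obtain ⟨σ₁, t₁, a₁, ht₁, hσ₁⟩ := exists_good_one i₀ p₁ hs1
    obtain ⟨σ₂, t₂, a₂, ht₂, hσ₂⟩ := exists_good_one i₀ p₂ hs2
    refine ⟨c₁ • a₁ + c₂ • a₂, good_combo i₀ p₁ σ₁ t₁ c₁ c₂ a₁ a₂ ht₁ hc₁1 hc₂1 hσ₁, ?_⟩
    rw [add_comm]
    exact good_combo i₀ p₂ σ₂ t₂ c₂ c₁ a₂ a₁ ht₂ hc₂2 hc₁2 hσ₂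

end Good

section Main

variable {S : Type u} {R : Type v} [CommRing S] [CommRing R] [Algebra S R]
  {A : Type w} [Ring A] [Algebra R A] {n : ℕ} (h : Setup S R A n)

include h in
theorem exists_xi (q : Ideal S) [q.IsPrime] (i₀ : Fin n)
    (hP1 : ∀ (p : Ideal R) [p.IsPrime], p.comap (algebraMap S R) = q →
      SplitsOver R A n p.ResidueField) :
    ∃ ξ : A, ∀ (p : Ideal R) [p.IsPrime], p.comap (algebraMap S R) = q → Good i₀ p ξ := by
  obtain ⟨p, hpp, hpq⟩ := h.exists_prime_over q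
  have hpq2 : (h.conj p).comap (algebraMap S R) = q := (h.comap_conj p).trans hpq
  obtain ⟨ξ, g1, g2⟩ := exists_xi_aux i₀ p (h.conj p) (h.conj_cases p) (hP1 p hpq)
    (hP1 (h.conj p) hpq2)
  refine ⟨ξ, ?_⟩
  intro p' _ hp'
  rcases h.eq_or_eq_conj q p p' hpq hp' with h1 | h1
  · subst h1
    exact g1
  · subst h1
    exact g2

include h in
theorem exists_monic_S (ξ : A) :
    ∃ F : S[X], F.Monic ∧ aeval ξ (F.map (algebraMap S R)) = 0 := by
  haveI := h.az
  obtain ⟨G, hGm, hG⟩ := IsIntegral.of_finite R ξ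
  have hG' : aeval ξ G = 0 := hG
  obtain ⟨H, hH⟩ : ∃ H : R[X], H = G * G.map (h.lam : R →+* R) := ⟨_, rfl⟩
  have hHm : H.Monic := hH ▸ hGm.mul (hGm.map _)
  have hHlam : H.map (h.lam : R →+* R) = H := by
    rw [hH, Polynomial.map_mul, Polynomial.map_map]
    have : (h.lam : R →+* R).comp (h.lam : R →+* R) = RingHom.id R := by
      ext r
      exact h.hlam r
    rw [this, Polynomial.map_id, mul_comm]
  have hlift : H ∈ Polynomial.lifts (algebraMap S R) := by
    rw [Polynomial.lifts_iff_coeff_lifts]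
    intro k
    have h1 : h.lam (H.coeff k) = H.coeff k := by
      conv_rhs => rw [← hHlam]
      rw [Polynomial.coeff_map]
      rfl
    exact (h.hfix.2 _).mp h1
  obtain ⟨F, hF, -, hFm⟩ := Polynomial.lifts_and_natDegree_eq_and_monic hlift hHm
  refine ⟨F, hFm, ?_⟩
  rw [hF, hH, map_mul, hG', zero_mul]

theorem algebraMap_tmul_eq (S' : Type*) [CommRing S'] [Algebra S S'] (s : S) :
    (algebraMap S S' s) ⊗ₜ[S] (1 : R) = (1 : S') ⊗ₜ[S] (algebraMap S R s) := by
  rw [Algebra.algebraMap_eq_smul_one, Algebra.algebraMap_eq_smul_one, TensorProduct.smul_tmul]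

theorem algebraMap_comp_eq (S' : Type*) [CommRing S'] [Algebra S S'] :
    (algebraMap S' (S' ⊗[S] R)).comp (algebraMap S S') =
      (algebraMap R (S' ⊗[S] R)).comp (algebraMap S R) := by
  ext s
  exact algebraMap_tmul_eq S' s

include h in
theorem locSplit_of_fibreSplit (q : Ideal S) [q.IsPrime]
    (hP1 : ∀ (p : Ideal R) [p.IsPrime], p.comap (algebraMap S R) = q →
      SplitsOver R A n p.ResidueField) :
    LocSplit S R A n q := by
  classical
  haveI := h.az
  obtain ⟨i₀, hi₀⟩ : ∃ i₀ : Fin n, i₀ = ⟨0, h.hn⟩ := ⟨_, rfl⟩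
  obtain ⟨ξ, hξ⟩ := exists_xi h q i₀ hP1
  obtain ⟨F₁, hF₁m, hF₁ξ⟩ := exists_monic_S h ξ
  -- factorization over the residue field
  obtain ⟨m, b, hbm, hcop, hfac⟩ : ∃ (m : ℕ) (b : q.ResidueField[X]), b.Monic ∧
      IsCoprime (X ^ (m + 1)) b ∧
      (X * F₁).map (algebraMap S q.ResidueField) = X ^ (m + 1) * b := by
    obtain ⟨b, hb, hb'⟩ := exists_eq_pow_rootMultiplicity_mul_and_not_dvd
      (F₁.map (algebraMap S q.ResidueField)) (hF₁m.map _).ne_zero 0
    have hbm : b.Monic := by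
      simpa [(hF₁m.map _).leadingCoeff] using! congr(leadingCoeff $hb).symm
    refine ⟨rootMultiplicity 0 (F₁.map (algebraMap S q.ResidueField)), b, hbm, ?_, ?_⟩
    · simpa [IsCoprime.pow_left_iff,
        (prime_X (R := q.ResidueField)).irreducible.coprime_iff_not_dvd] using! hb'
    · rw [Polynomial.map_mul, Polynomial.map_X]
      nth_rw 1 [hb]
      simp [pow_succ', mul_assoc]
  obtain ⟨S', _, _, _, q', _, _, f', g', -, hf'm, hg'm, hfg, ⟨c, d, hcd⟩, hf', hg'⟩ :=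
    Algebra.exists_etale_bijective_residueFieldMap_and_map_eq_mul_and_isCoprime q (X * F₁)
      (X ^ (m + 1)) b (monic_X.mul hF₁m) (monic_X.pow _) hbm hfac hcop
  have hq' : q'.comap (algebraMap S S') = q := (Ideal.over_def q' q).symm
  refine LocSplit.trans S' q' hq' ?_
  -- polynomials over `R' = S' ⊗ R`
  obtain ⟨ξ', hξ'⟩ : ∃ ξ' : (S' ⊗[S] R) ⊗[R] A, ξ' = (1 : S' ⊗[S] R) ⊗ₜ[R] ξ := ⟨_, rfl⟩
  obtain ⟨Cm, hCm⟩ : ∃ Cm : (S' ⊗[S] R)[X], Cm = c.map (algebraMap S' (S' ⊗[S] R)) := ⟨_, rfl⟩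
  obtain ⟨Dm, hDm⟩ : ∃ Dm : (S' ⊗[S] R)[X], Dm = d.map (algebraMap S' (S' ⊗[S] R)) := ⟨_, rfl⟩
  obtain ⟨Fm, hFm⟩ : ∃ Fm : (S' ⊗[S] R)[X], Fm = f'.map (algebraMap S' (S' ⊗[S] R)) := ⟨_, rfl⟩
  obtain ⟨Gm, hGm⟩ : ∃ Gm : (S' ⊗[S] R)[X], Gm = g'.map (algebraMap S' (S' ⊗[S] R)) := ⟨_, rfl⟩
  have hsum : Cm * Fm + Dm * Gm = 1 := by
    rw [hCm, hDm, hFm, hGm, ← Polynomial.map_mul, ← Polynomial.map_mul, ← Polynomial.map_add,
      hcd, Polynomial.map_one]
  have hFG : Fm * Gm = ((X * F₁).map (algebraMap S R)).map (algebraMap R (S' ⊗[S] R)) := by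
    rw [hFm, hGm, ← Polynomial.map_mul, ← hfg, Polynomial.map_map, Polynomial.map_map,
      algebraMap_comp_eq]
  have hzero : aeval ξ' (Fm * Gm) = 0 := by
    rw [hFG, hξ', aeval_one_tmul', Polynomial.map_mul, Polynomial.map_X, map_mul, hF₁ξ, mul_zero,
      TensorProduct.tmul_zero]
  obtain ⟨e', he'def⟩ : ∃ e' : (S' ⊗[S] R) ⊗[R] A, e' = aeval ξ' (Cm * Fm) := ⟨_, rfl⟩
  have he' : IsIdempotentElem e' := by
    show e' * e' = e'
    have h1 : (Cm * Fm) * (Cm * Fm) = Cm * Fm - (Cm * Dm) * (Fm * Gm) := by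
      linear_combination (Cm * Fm) * hsum
    rw [he'def, ← map_mul, h1, map_sub, map_mul _ (Cm * Dm), hzero, mul_zero, sub_zero]
  refine locSplit_of_rank_eq_over (h.bc S') q' he' ?_
  intro p' _ hp'
  -- the prime of `R` below `p'`
  obtain ⟨p, hp⟩ : ∃ p : Ideal R, p = p'.comap (algebraMap R (S' ⊗[S] R)) := ⟨_, rfl⟩
  haveI : p.IsPrime := hp ▸ Ideal.comap_isPrime _ _
  have hpq : p.comap (algebraMap S R) = q := by
    rw [hp, Ideal.comap_comap, ← algebraMap_comp_eq, ← Ideal.comap_comap, hp', hq']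
  obtain ⟨σ, d₀, hd₀, hσ⟩ := hξ p hpq
  haveI : IsAzumaya (S' ⊗[S] R) ((S' ⊗[S] R) ⊗[R] A) := (h.bc S').az
  -- residue fields
  let g : p.ResidueField →ₐ[R] p'.ResidueField :=
    Ideal.ResidueField.mapₐ p p' (Algebra.ofId R (S' ⊗[S] R)) hp
  let τ₀ := splitBC σ g
  let τ := (cancelAlgEquiv R (S' ⊗[S] R) p'.ResidueField A).symm.trans τ₀
  have hτ : ∀ a : A, τ ((1 : p'.ResidueField) ⊗ₜ[S' ⊗[S] R] ((1 : S' ⊗[S] R) ⊗ₜ[R] a)) =
      (σ ((1 : p.ResidueField) ⊗ₜ[R] a)).map g := by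
    intro a
    have h1 : (cancelAlgEquiv R (S' ⊗[S] R) p'.ResidueField A)
        ((1 : p'.ResidueField) ⊗ₜ[R] a) =
        (1 : p'.ResidueField) ⊗ₜ[S' ⊗[S] R] ((1 : S' ⊗[S] R) ⊗ₜ[R] a) := rfl
    have h2 : ∀ x, τ x = τ₀ ((cancelAlgEquiv R (S' ⊗[S] R) p'.ResidueField A).symm x) :=
      fun x => rfl
    rw [h2, ← h1, AlgEquiv.symm_apply_apply, splitBC_one_tmul]
  have hτξ : τ ((1 : p'.ResidueField) ⊗ₜ[S' ⊗[S] R] ξ') =
      (g d₀) • Matrix.single i₀ i₀ (1 : p'.ResidueField) := by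
    rw [hξ', hτ, hσ]
    ext i j
    rw [Matrix.map_apply, Matrix.smul_apply, Matrix.smul_apply, smul_eq_mul, smul_eq_mul,
      map_mul, Matrix.single_apply, Matrix.single_apply]
    split_ifs
    · rw [map_one]
    · rw [map_zero]
  have haev : ∀ P : (S' ⊗[S] R)[X], τ ((1 : p'.ResidueField) ⊗ₜ[S' ⊗[S] R] (aeval ξ' P)) =
      aeval ((g d₀) • Matrix.single i₀ i₀ (1 : p'.ResidueField))
        (P.map (algebraMap (S' ⊗[S] R) p'.ResidueField)) := by
    intro P
    rw [← aeval_one_tmul' (S := p'.ResidueField), ← hτξ]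
    exact (Polynomial.aeval_algHom_apply τ.toAlgHom _ _).symm
  -- the polynomials over the residue field of `p'`
  let φ : S' →+* p'.ResidueField :=
    (algebraMap (S' ⊗[S] R) p'.ResidueField).comp (algebraMap S' (S' ⊗[S] R))
  let j : q'.ResidueField →+* p'.ResidueField :=
    Ideal.ResidueField.map q' p' (algebraMap S' (S' ⊗[S] R)) hp'.symm
  have hjφ : j.comp (algebraMap S' q'.ResidueField) = φ := by
    ext x
    exact Ideal.ResidueField.map_algebraMap q' p' (algebraMap S' (S' ⊗[S] R)) hp'.symm x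
  have hfK : Fm.map (algebraMap (S' ⊗[S] R) p'.ResidueField) = X ^ (m + 1) := by
    rw [hFm, Polynomial.map_map]
    show f'.map φ = _
    rw [← hjφ, ← Polynomial.map_map, ← hf', Polynomial.map_map, Polynomial.map_pow,
      Polynomial.map_X]
  obtain ⟨bK, hbK⟩ : ∃ bK : p'.ResidueField[X], bK = Gm.map
    (algebraMap (S' ⊗[S] R) p'.ResidueField) := ⟨_, rfl⟩
  have hsumK : Cm.map (algebraMap (S' ⊗[S] R) p'.ResidueField) * X ^ (m + 1) +
      Dm.map (algebraMap (S' ⊗[S] R) p'.ResidueField) * bK = 1 := by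
    have := congrArg (Polynomial.map (algebraMap (S' ⊗[S] R) p'.ResidueField)) hsum
    rw [Polynomial.map_add, Polynomial.map_mul, Polynomial.map_mul, hfK, ← hbK,
      Polynomial.map_one] at this
    exact this
  have hFK : (Fm * Gm).map (algebraMap (S' ⊗[S] R) p'.ResidueField) = X ^ (m + 1) * bK := by
    rw [Polynomial.map_mul, hfK, hbK]
  have hFz : aeval ((g d₀) • Matrix.single i₀ i₀ (1 : p'.ResidueField))
      ((Fm * Gm).map (algebraMap (S' ⊗[S] R) p'.ResidueField)) = 0 := by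
    rw [← haev, hzero, TensorProduct.tmul_zero, map_zero]
  have hgd : g d₀ ≠ 0 := (map_ne_zero g).mpr hd₀
  have key := aeval_single_eq i₀ (g d₀) hgd m _ bK _ _ hFK hsumK hFz
  have hτe : τ ((1 : p'.ResidueField) ⊗ₜ[S' ⊗[S] R] e') =
      Matrix.single i₀ i₀ (1 : p'.ResidueField) := by
    rw [he'def, haev, Polynomial.map_mul, hfK]
    exact key
  exact rank_eq_of_fibre p' i₀ τ he' hτe

end Main

end Groth.Agent.Lib.R2LeadAzFixIdem
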