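import Mathlib
import Groth.Agent.Lib.R2LeadAzFixIdem
import Groth.Agent.Lib.LeadCSASplits
import Groth.Agent.Lib.Helper20EtResExt

/-!
# Azumaya algebras over a ring with involution: splitting the fibres after an étale extension of
the fixed ring (lead)
-/

set_option autoImplicit false
set_option linter.style.haveILetI false
set_option linter.unusedSectionVars false

namespace Groth.Agent.Lib.R2LeadAzFixFibre

open TensorProduct Polynomial IntermediateField
open Groth.Agent.Lib.R2LeadAzCharpoly (splitBC splitBC_one_tmul)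
open Groth.Agent.Lib.R2LeadAzFixBase Groth.Agent.Lib.R2LeadAzFixFree Groth.Agent.Lib.R2LeadAzFixIdem

attribute [local instance] Algebra.TensorProduct.rightAlgebra

universe u v w x

section Fields

theorem exists_sep_ext (k : Type u) (K : Type v) [Field k] [Field K] [Algebra k K]
    [Algebra.IsAlgebraic k K] (B : Type w) [Ring B] [Algebra K B] [IsAzumaya K B] (n : ℕ)
    (hB : Module.finrank K B = n ^ 2) :
    ∃ k' : IntermediateField k (AlgebraicClosure k), FiniteDimensional k k' ∧
      Algebra.IsSeparable k k' ∧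
      ∀ (F : Type x) [Field F] [Algebra k F] [Algebra K F] [IsScalarTower k K F]
        (_ : k' →ₐ[k] F), Nonempty (F ⊗[K] B ≃ₐ[F] Matrix (Fin n) (Fin n) F) := by
  classical
  haveI : IsSimpleRing B := Groth.Agent.Lib.LeadAzumaya.isSimpleRing_of_isAzumaya_field (k := K)
  haveI : Algebra.IsCentral K B := inferInstance
  haveI : FiniteDimensional K B := inferInstance
  obtain ⟨M, hMfin, r, hr, ⟨σM⟩⟩ :=
    Groth.Agent.Lib.LeadCSA.exists_separable_splitting (k := K) (A := B)
  have hrn : r = n := by
    have h1 : Module.finrank M (M ⊗[K] B) = n ^ 2 := by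
      rw [Module.finrank_baseChange, hB]
    rw [σM.toLinearEquiv.finrank_eq, Module.finrank_matrix, Fintype.card_fin,
      Module.finrank_self, mul_one, ← pow_two] at h1
    exact Nat.pow_left_injective (by norm_num : 2 ≠ 0) h1
  subst hrn
  haveI : Algebra.IsSeparable K M :=
    Algebra.isSeparable_tower_bot_of_isSeparable K M (SeparableClosure K)
  letI : Algebra k M := ((algebraMap K M).comp (algebraMap k K)).toAlgebra
  haveI : IsScalarTower k K M := IsScalarTower.of_algebraMap_eq (fun _ => rfl)
  have hadj : adjoin K (separableClosure k M : Set M) = ⊤ :=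
    separableClosure.adjoin_eq_of_isAlgebraic_of_isSeparable (F := k) (E := K) M
  obtain ⟨α, hα⟩ := Field.exists_primitive_element K M
  obtain ⟨T, hTsub, hαT⟩ := exists_finset_of_mem_adjoin
    (show α ∈ adjoin K (separableClosure k M : Set M) by rw [hadj]; trivial)
  have hTtop : adjoin K (T : Set M) = ⊤ := by
    rw [eq_top_iff, ← hα, adjoin_simple_le_iff]
    exact hαT
  -- the roots
  obtain ⟨Sr, hSr⟩ : ∃ Sr : Set (AlgebraicClosure k),
    Sr = ⋃ t ∈ T, (minpoly k t).rootSet (AlgebraicClosure k) := ⟨_, rfl⟩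
  have hSrfin : Sr.Finite := by
    rw [hSr]
    exact Set.Finite.biUnion T.finite_toSet (fun t _ => Polynomial.rootSet_finite _ _)
  haveI : Finite Sr := hSrfin
  have hTsep : ∀ t ∈ T, IsSeparable k t := fun t ht => mem_separableClosure_iff.mp (hTsub ht)
  refine ⟨adjoin k Sr, ?_, ?_, ?_⟩
  · exact finiteDimensional_adjoin (fun x _ => Algebra.IsIntegral.isIntegral x)
  · rw [isSeparable_adjoin_iff_isSeparable]
    intro x hx
    rw [hSr] at hx
    simp only [Set.mem_iUnion] at hx
    obtain ⟨t, ht, hxt⟩ := hx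
    exact (hTsep t ht).of_dvd (minpoly.dvd k x (aeval_eq_zero_of_mem_rootSet hxt))
  · intro F _ _ _ _ j
    have hsplit : ∀ t ∈ (T : Set M), IsIntegral K t ∧
        ((minpoly K t).map (algebraMap K F)).Splits := by
      intro t ht
      have hint : IsIntegral K t := Algebra.IsIntegral.isIntegral t
      refine ⟨hint, ?_⟩
      have h1 : ((minpoly k t).map (algebraMap k (adjoin k Sr))).Splits := by
        refine IntermediateField.splits_of_splits (IsAlgClosed.splits _) ?_
        intro x hx
        refine subset_adjoin k Sr ?_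
        rw [hSr]
        simp only [Set.mem_iUnion]
        exact ⟨t, ht, hx⟩
      have h2 : ((minpoly k t).map (algebraMap k F)).Splits := by
        have := h1.map (j : adjoin k Sr →+* F)
        rw [Polynomial.map_map] at this
        have hj : (j : adjoin k Sr →+* F).comp (algebraMap k (adjoin k Sr)) = algebraMap k F := by
          ext y
          exact j.commutes y
        rwa [hj] at this
      have h3 : (minpoly K t).map (algebraMap K F) ∣ (minpoly k t).map (algebraMap k F) := by
        have := Polynomial.map_dvd (algebraMap K F) (minpoly.dvd_map_of_isScalarTower k K t)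
        rwa [Polynomial.map_map, ← IsScalarTower.algebraMap_eq] at this
      refine h2.of_dvd ?_ h3
      exact Polynomial.map_ne_zero (minpoly.ne_zero (hTsep t ht).isIntegral)
    obtain ⟨g⟩ := nonempty_algHom_of_adjoin_splits hsplit hTtop
    exact ⟨splitBC σM g⟩

end Fields

section StepA

variable {S : Type u} {R : Type v} [CommRing S] [CommRing R] [Algebra S R]
  {A : Type w} [Ring A] [Algebra R A] {n : ℕ} (h : Setup S R A n)

include h in
/-- the residue field of `p` is algebraic over that of `q` -/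
theorem isAlgebraic_residue (q : Ideal S) [q.IsPrime] (p : Ideal R) [p.IsPrime]
    (hpq : q = p.comap (algebraMap S R)) :
    letI := (Ideal.ResidueField.map q p (algebraMap S R) hpq).toAlgebra
    Algebra.IsAlgebraic q.ResidueField p.ResidueField := by
  letI := (Ideal.ResidueField.map q p (algebraMap S R) hpq).toAlgebra
  haveI := h.isIntegral
  haveI : IsScalarTower S q.ResidueField p.ResidueField :=
    IsScalarTower.of_algebraMap_eq (fun s => by
      rw [IsScalarTower.algebraMap_apply S R p.ResidueField]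
      exact (Ideal.ResidueField.map_algebraMap q p (algebraMap S R) hpq s).symm)
  have hR : ∀ r : R, IsAlgebraic q.ResidueField (algebraMap R p.ResidueField r) := by
    intro r
    have h1 : IsIntegral S r := Algebra.IsIntegral.isIntegral r
    have h2 : IsIntegral S (algebraMap R p.ResidueField r) := h1.algebraMap
    exact (h2.tower_top (A := q.ResidueField)).isAlgebraic
  refine ⟨fun x => ?_⟩
  obtain ⟨a, s, -, rfl⟩ := IsFractionRing.div_surjective (A := R ⧸ p) x
  obtain ⟨a, rfl⟩ := Ideal.Quotient.mk_surjective a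
  obtain ⟨s, rfl⟩ := Ideal.Quotient.mk_surjective s
  rw [div_eq_mul_inv]
  refine IsAlgebraic.mul ?_ (IsAlgebraic.inv ?_)
  · have := hR a
    rwa [IsScalarTower.algebraMap_apply R (R ⧸ p) p.ResidueField] at this
  · have := hR s
    rwa [IsScalarTower.algebraMap_apply R (R ⧸ p) p.ResidueField] at this

/-- splitting of the fibre persists along ring extensions -/
theorem fibSplit_bc {R' : Type*} [CommRing R'] [Algebra R R'] (p : Ideal R) [p.IsPrime]
    (hs : SplitsOver R A n p.ResidueField) (p' : Ideal R') [p'.IsPrime]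
    (hp' : p'.comap (algebraMap R R') = p) :
    SplitsOver R' (R' ⊗[R] A) n p'.ResidueField := by
  let g : p.ResidueField →ₐ[R] p'.ResidueField :=
    Ideal.ResidueField.mapₐ p p' (Algebra.ofId R R') hp'.symm
  exact (hs.map g).to_baseChange

include h in
theorem exists_etale_fibSplit_one (q : Ideal S) [q.IsPrime] (p : Ideal R) [p.IsPrime]
    (hpq : p.comap (algebraMap S R) = q) :
    ∃ (S' : Type u) (_ : CommRing S') (_ : Algebra S S') (_ : Algebra.Etale S S')
      (q' : Ideal S') (_ : q'.IsPrime), q'.comap (algebraMap S S') = q ∧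
      ∀ (p' : Ideal (S' ⊗[S] R)) [p'.IsPrime], p'.comap (algebraMap S' (S' ⊗[S] R)) = q' →
        p'.comap (algebraMap R (S' ⊗[S] R)) = p →
        SplitsOver (S' ⊗[S] R) ((S' ⊗[S] R) ⊗[R] A) n p'.ResidueField := by
  haveI := h.az
  letI : Algebra q.ResidueField p.ResidueField :=
    (Ideal.ResidueField.map q p (algebraMap S R) hpq.symm).toAlgebra
  haveI : Algebra.IsAlgebraic q.ResidueField p.ResidueField := isAlgebraic_residue h q p hpq.symm
  haveI : IsAzumaya p.ResidueField (p.ResidueField ⊗[R] A) :=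
    Groth.Agent.Lib.LeadAzumaya.isAzumaya_baseChange p.ResidueField A
  have hB : Module.finrank p.ResidueField (p.ResidueField ⊗[R] A) = n ^ 2 := by
    rw [finrank_field_tensor, h.rk]
  obtain ⟨k', hfin, hsep, hk'⟩ := exists_sep_ext.{u, v, max v w, max u v} q.ResidueField
    p.ResidueField (p.ResidueField ⊗[R] A) n hB
  obtain ⟨S', _, _, _, q', _, hq', e, he⟩ :=
    Groth.Agent.Lib.Helper20.EtResExt.exists_etale_residueField_equiv q k'
  refine ⟨S', inferInstance, inferInstance, inferInstance, q', inferInstance, hq'.symm, ?_⟩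
  intro p' _ hp'1 hp'2
  let g : p.ResidueField →+* p'.ResidueField :=
    Ideal.ResidueField.map p p' (algebraMap R (S' ⊗[S] R)) hp'2.symm
  letI : Algebra p.ResidueField p'.ResidueField := g.toAlgebra
  letI : Algebra q.ResidueField p'.ResidueField :=
    (g.comp (algebraMap q.ResidueField p.ResidueField)).toAlgebra
  haveI : IsScalarTower q.ResidueField p.ResidueField p'.ResidueField :=
    IsScalarTower.of_algebraMap_eq (fun _ => rfl)
  haveI : IsScalarTower R p.ResidueField p'.ResidueField :=
    IsScalarTower.of_algebraMap_eq (fun r => by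
      rw [IsScalarTower.algebraMap_apply R (S' ⊗[S] R) p'.ResidueField]
      exact (Ideal.ResidueField.map_algebraMap p p' (algebraMap R (S' ⊗[S] R)) hp'2.symm r).symm)
  let j₁ : q'.ResidueField →+* p'.ResidueField :=
    Ideal.ResidueField.map q' p' (algebraMap S' (S' ⊗[S] R)) hp'1.symm
  let j : k' →ₐ[q.ResidueField] p'.ResidueField :=
    { toRingHom := j₁.comp (e.symm : k' →+* q'.ResidueField)
      commutes' := fun y => by
        have h1 : algebraMap q.ResidueField k' y =
            e (Ideal.ResidueField.map q q' (algebraMap S S') hq' y) := by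
          rw [← he]
          rfl
        show j₁ (e.symm (algebraMap q.ResidueField k' y)) = _
        rw [h1, RingEquiv.symm_apply_apply]
        have h2 : j₁.comp (Ideal.ResidueField.map q q' (algebraMap S S') hq') =
            g.comp (Ideal.ResidueField.map q p (algebraMap S R) hpq.symm) := by
          apply Ideal.ResidueField.ringHom_ext
          ext s
          simp only [RingHom.comp_apply, j₁, g, Ideal.ResidueField.map_algebraMap]
          congr 1
          exact algebraMap_tmul_eq S' s
        exact congrFun (congrArg DFunLike.coe h2) y }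
  obtain ⟨σ⟩ := hk' p'.ResidueField j
  exact ⟨(Groth.Agent.Lib.R2LeadAzSpread.cancelAlgEquiv R (S' ⊗[S] R) p'.ResidueField A).symm.trans
    ((Groth.Agent.Lib.R2LeadAzSpread.cancelAlgEquiv R p.ResidueField p'.ResidueField A).trans σ)⟩

theorem bc_lam_tmul (S' : Type u) [CommRing S'] [Algebra S S'] [Module.Flat S S'] (r : R) :
    (h.bc S').lam ((1 : S') ⊗ₜ[S] r) = (1 : S') ⊗ₜ[S] h.lam r := rfl

theorem bc_conj_comap (S' : Type u) [CommRing S'] [Algebra S S'] [Module.Flat S S']
    (P : Ideal (S' ⊗[S] R)) :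
    ((h.bc S').conj P).comap (algebraMap R (S' ⊗[S] R)) =
      h.conj (P.comap (algebraMap R (S' ⊗[S] R))) := by
  ext x
  rw [Ideal.mem_comap, Setup.mem_conj, Setup.mem_conj, Ideal.mem_comap]
  rfl

theorem comap_comap_bc (S' : Type u) [CommRing S'] [Algebra S S'] (P : Ideal (S' ⊗[S] R)) :
    (P.comap (algebraMap R (S' ⊗[S] R))).comap (algebraMap S R) =
      (P.comap (algebraMap S' (S' ⊗[S] R))).comap (algebraMap S S') := by
  rw [Ideal.comap_comap, Ideal.comap_comap, algebraMap_comp_eq]

include h in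
theorem locSplit (q : Ideal S) [q.IsPrime] : LocSplit S R A n q := by
  obtain ⟨p, hpp, hpq⟩ := h.exists_prime_over q
  -- first extension: split the fibre at (a prime over) `p`
  obtain ⟨S₁, _, _, _, q₁, _, hq₁, H₁⟩ := exists_etale_fibSplit_one h q p hpq
  refine LocSplit.trans S₁ q₁ hq₁ ?_
  obtain ⟨p₁, hp₁p, hp₁q₁⟩ := (h.bc S₁).exists_prime_over q₁
  obtain ⟨P₁, hP₁p, hP₁q, hP₁⟩ : ∃ P₁ : Ideal (S₁ ⊗[S] R), P₁.IsPrime ∧
      P₁.comap (algebraMap S₁ (S₁ ⊗[S] R)) = q₁ ∧ P₁.comap (algebraMap R (S₁ ⊗[S] R)) = p := by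
    haveI : (p₁.comap (algebraMap R (S₁ ⊗[S] R))).IsPrime := Ideal.comap_isPrime _ _
    have h1 : (p₁.comap (algebraMap R (S₁ ⊗[S] R))).comap (algebraMap S R) = q := by
      rw [comap_comap_bc, hp₁q₁, hq₁]
    rcases h.eq_or_eq_conj q p _ hpq h1 with h2 | h2
    · exact ⟨p₁, hp₁p, hp₁q₁, h2⟩
    · refine ⟨(h.bc S₁).conj p₁, inferInstance, ?_, ?_⟩
      · rw [(h.bc S₁).comap_conj, hp₁q₁]
      · rw [bc_conj_comap, h2, h.conj_conj]
  have hs₁ : SplitsOver (S₁ ⊗[S] R) ((S₁ ⊗[S] R) ⊗[R] A) n P₁.ResidueField := H₁ P₁ hP₁q hP₁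
  -- second extension: split the fibre at the conjugate prime
  have hcq : ((h.bc S₁).conj P₁).comap (algebraMap S₁ (S₁ ⊗[S] R)) = q₁ := by
    rw [(h.bc S₁).comap_conj, hP₁q]
  obtain ⟨S₂, _, _, _, q₂, _, hq₂, H₂⟩ :=
    exists_etale_fibSplit_one (h.bc S₁) q₁ ((h.bc S₁).conj P₁) hcq
  refine LocSplit.trans S₂ q₂ hq₂ ?_
  refine locSplit_of_fibreSplit ((h.bc S₁).bc S₂) q₂ ?_
  intro p₂ _ hp₂
  haveI : (p₂.comap (algebraMap (S₁ ⊗[S] R) (S₂ ⊗[S₁] (S₁ ⊗[S] R)))).IsPrime :=
    Ideal.comap_isPrime _ _
  have h3 : (p₂.comap (algebraMap (S₁ ⊗[S] R) (S₂ ⊗[S₁] (S₁ ⊗[S] R)))).comap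
      (algebraMap S₁ (S₁ ⊗[S] R)) = q₁ := by
    rw [comap_comap_bc, hp₂, hq₂]
  rcases (h.bc S₁).eq_or_eq_conj q₁ P₁ _ hP₁q h3 with h4 | h4
  · exact fibSplit_bc P₁ hs₁ p₂ h4
  · exact H₂ p₂ hp₂ h4

end StepA

end Groth.Agent.Lib.R2LeadAzFixFibre
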