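import Mathlib
import Groth.Agent.Lib.R2LeadAzSpread

/-!
# A global faithfully flat splitting of an Azumaya algebra of constant rank
-/

set_option autoImplicit false

namespace Groth.Agent.Lib.R2LeadAzGlobalSplit

open TensorProduct

universe u

section PiMatrix

variable {ι : Type*} [Fintype ι] (S : ι → Type*) [∀ i, CommRing (S i)] (n : ℕ)

/-- `Π M_n(S i) ≃ M_n(Π S i)` -/
def matPi : (∀ i, Matrix (Fin n) (Fin n) (S i)) ≃+* Matrix (Fin n) (Fin n) (∀ i, S i) where
  toFun F := Matrix.of fun x y i => F i x y
  invFun M := fun i => Matrix.of fun x y => M x y i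
  left_inv F := rfl
  right_inv M := rfl
  map_mul' F G := by
    ext x y i
    simp [Matrix.mul_apply, Finset.sum_apply]
  map_add' F G := by
    ext x y i
    simp

theorem matPi_apply (F : ∀ i, Matrix (Fin n) (Fin n) (S i)) (x y : Fin n) (i : ι) :
    matPi S n F x y i = F i x y := rfl

end PiMatrix

section PiSplit

variable {R : Type*} [CommRing R] {A : Type*} [Ring A] [Algebra R A]
  {ι : Type*} [Fintype ι] [DecidableEq ι] (S : ι → Type*) [∀ i, CommRing (S i)]
  [∀ i, Algebra R (S i)] {n : ℕ}
  (σ : ∀ i, (S i ⊗[R] A) ≃ₐ[S i] Matrix (Fin n) (Fin n) (S i))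

/-- the map `A → M_n(Π S i)` -/
noncomputable def psi : A →ₐ[R] Matrix (Fin n) (Fin n) (∀ i, S i) where
  toFun a := matPi S n (fun i => σ i ((1 : S i) ⊗ₜ[R] a))
  map_one' := by
    rw [← map_one (matPi S n)]
    congr 1
    funext i
    exact map_one (σ i)
  map_mul' a b := by
    rw [← map_mul (matPi S n)]
    congr 1
    funext i
    rw [Pi.mul_apply, ← map_mul, Algebra.TensorProduct.tmul_mul_tmul, one_mul]
  map_zero' := by
    rw [← map_zero (matPi S n)]
    congr 1
    funext i
    rw [TensorProduct.tmul_zero, map_zero]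
    rfl
  map_add' a b := by
    rw [← map_add (matPi S n)]
    congr 1
    funext i
    rw [TensorProduct.tmul_add, map_add]
    rfl
  commutes' c := by
    ext x y i
    have h : ((1 : S i) ⊗ₜ[R] (algebraMap R A c) : S i ⊗[R] A) =
        algebraMap (S i) (S i ⊗[R] A) (algebraMap R (S i) c) := by
      rw [Algebra.TensorProduct.algebraMap_apply, Algebra.algebraMap_self, RingHom.id_apply,
        Algebra.algebraMap_eq_smul_one, Algebra.algebraMap_eq_smul_one, TensorProduct.tmul_smul,
        TensorProduct.smul_tmul']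
    show σ i ((1 : S i) ⊗ₜ[R] (algebraMap R A c)) x y = _
    rw [h, AlgEquiv.commutes, Matrix.algebraMap_matrix_apply, Matrix.algebraMap_matrix_apply]
    split_ifs
    · rfl
    · rfl

theorem psi_apply (a : A) (x y : Fin n) (i : ι) :
    psi S σ a x y i = σ i ((1 : S i) ⊗ₜ[R] a) x y := rfl

/-- the splitting over the product -/
noncomputable def piSplitHom : ((∀ i, S i) ⊗[R] A) →ₐ[∀ i, S i] Matrix (Fin n) (Fin n) (∀ i, S i) :=
  Algebra.TensorProduct.lift (Algebra.ofId (∀ i, S i) _) (psi S σ)
    (fun s a => Algebra.commute_algebraMap_left s _)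

theorem piSplitHom_eq (z : (∀ i, S i) ⊗[R] A) :
    piSplitHom S σ z = matPi S n (fun i => σ i (TensorProduct.piLeft R A S z i)) := by
  induction z using TensorProduct.induction_on with
  | zero =>
    rw [map_zero, map_zero]
    symm
    rw [← map_zero (matPi S n)]
    congr 1
    funext i
    rw [Pi.zero_apply, map_zero]
    rfl
  | add a b ha hb =>
    rw [map_add, ha, hb]
    ext x y i
    simp only [Matrix.add_apply, Pi.add_apply, matPi_apply, map_add]
  | tmul f a =>
    ext x y i
    rw [piSplitHom, Algebra.TensorProduct.lift_tmul, matPi_apply, Algebra.ofId_apply,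
      Matrix.algebraMap_eq_diagonal, Matrix.diagonal_mul, Pi.mul_apply, psi_apply]
    have h1 : TensorProduct.piLeft R A S (f ⊗ₜ[R] a) i = f i ⊗ₜ[R] a := by
      simp [TensorProduct.piLeft]
    rw [h1]
    have h2 : (f i ⊗ₜ[R] a : S i ⊗[R] A) = f i • ((1 : S i) ⊗ₜ[R] a) := by
      rw [TensorProduct.smul_tmul', smul_eq_mul, mul_one]
    rw [h2, map_smul, Matrix.smul_apply, smul_eq_mul]
    rfl

theorem piSplitHom_bijective : Function.Bijective (piSplitHom S σ) := by
  have : ⇑(piSplitHom S σ) = ⇑(matPi S n) ∘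
      (fun (w : ∀ i, S i ⊗[R] A) (i : ι) => σ i (w i)) ∘ ⇑(TensorProduct.piLeft R A S) := by
    funext z
    exact piSplitHom_eq S σ z
  rw [this]
  refine (matPi S n).bijective.comp (Function.Bijective.comp ?_ (TensorProduct.piLeft R A S).bijective)
  constructor
  · intro w w' h
    funext i
    exact (σ i).injective (congrFun h i)
  · intro F
    exact ⟨fun i => (σ i).symm (F i), by funext i; simp⟩

/-- the splitting over the product -/
noncomputable def piSplit : ((∀ i, S i) ⊗[R] A) ≃ₐ[∀ i, S i] Matrix (Fin n) (Fin n) (∀ i, S i) :=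
  AlgEquiv.ofBijective (piSplitHom S σ) (piSplitHom_bijective S σ)

end PiSplit

section PiFF

variable {R : Type*} [CommRing R] {ι : Type*} [Fintype ι] [DecidableEq ι] (S : ι → Type*)
  [∀ i, CommRing (S i)] [∀ i, Algebra R (S i)]

theorem pi_flat [∀ i, Module.Flat R (S i)] : Module.Flat R (∀ i, S i) :=
  Module.Flat.of_linearEquiv (DFinsupp.linearEquivFunOnFintype (R := R) (M := S)).symm

theorem pi_faithfullyFlat [∀ i, Module.Flat R (S i)]
    (h : ∀ m : Ideal R, m.IsMaximal → ∃ i, m • (⊤ : Submodule R (S i)) ≠ ⊤) :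
    Module.FaithfullyFlat R (∀ i, S i) := by
  haveI := pi_flat (R := R) S
  refine ⟨fun m hm htop => ?_⟩
  obtain ⟨i, hi⟩ := h m hm
  apply hi
  have h1 := congrArg (Submodule.map (LinearMap.proj (R := R) (φ := S) i)) htop
  rw [Submodule.map_smul'', Submodule.map_top, LinearMap.range_eq_top.2
    (LinearMap.proj_surjective i)] at h1
  exact h1

end PiFF

section LocalData

variable (R : Type u) [CommRing R] (A : Type u) [Ring A] [Algebra R A] [IsAzumaya R A]

theorem smul_top_ne_top {f : R} {R' : Type*} [CommRing R'] [Algebra R R']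
    [Algebra (Localization.Away f) R'] [IsScalarTower R (Localization.Away f) R']
    [Module.FaithfullyFlat (Localization.Away f) R'] (m : Ideal R) (hm : m.IsMaximal)
    (hf : f ∉ m) : m • (⊤ : Submodule R R') ≠ ⊤ := by
  intro htop
  have hM : m.map (algebraMap R (Localization.Away f)) ≠ ⊤ := by
    rw [IsLocalization.map_algebraMap_ne_top_iff_disjoint (Submonoid.powers f)]
    rw [Set.disjoint_left]
    rintro x ⟨k, rfl⟩ hx
    exact hf (hm.isPrime.mem_of_pow_mem k hx)
  have h2 := ((Module.FaithfullyFlat.iff_flat_and_proper_ideal (Localization.Away f) R').1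
    inferInstance).2 _ hM
  apply h2
  have hle : m • (⊤ : Submodule R R') ≤
      ((m.map (algebraMap R (Localization.Away f))) •
        (⊤ : Submodule (Localization.Away f) R')).restrictScalars R := by
    rw [Submodule.smul_le]
    intro r hr x _
    rw [Submodule.restrictScalars_mem, ← algebraMap_smul (Localization.Away f) r x]
    exact Submodule.smul_mem_smul (Ideal.mem_map_of_mem _ hr) Submodule.mem_top
  rw [htop, top_le_iff, Submodule.restrictScalars_eq_top_iff] at hle
  exact hle

theorem local_data (n : ℕ)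
    (hrk : ∀ p : PrimeSpectrum R, Module.rankAtStalk (R := R) A p = n ^ 2)
    (p : PrimeSpectrum R) :
    ∃ f : R, f ∉ p.asIdeal ∧ ∃ (R' : Type u) (_ : CommRing R') (_ : Algebra R R'),
      Module.Flat R R' ∧
      (∀ m : Ideal R, m.IsMaximal → f ∉ m → m • (⊤ : Submodule R R') ≠ ⊤) ∧
      Nonempty ((R' ⊗[R] A) ≃ₐ[R'] Matrix (Fin n) (Fin n) R') := by
  obtain ⟨f, hf, R', i1, i2, i3, i4, hfin, het, hff, r, hr, ⟨iso⟩⟩ :=
    Groth.Agent.Lib.R2LeadAzSpread.main R A p.asIdeal
  refine ⟨f, hf, R', i1, i2, ?_, ?_, ?_⟩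
  · haveI : Module.Flat R (Localization.Away f) := IsLocalization.flat _ (Submonoid.powers f)
    exact Module.Flat.trans R (Localization.Away f) R'
  · intro m hm hfm
    exact smul_top_ne_top R m hm hfm
  · rcases subsingleton_or_nontrivial R' with hsub | hnt
    · haveI : Subsingleton (R' ⊗[R] A) := Module.subsingleton R' _
      haveI : Subsingleton (Matrix (Fin n) (Fin n) R') := Module.subsingleton R' _
      exact ⟨{ toFun := fun _ => 0
               invFun := fun _ => 0
               left_inv := fun _ => Subsingleton.elim _ _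
               right_inv := fun _ => Subsingleton.elim _ _
               map_mul' := fun _ _ => Subsingleton.elim _ _
               map_add' := fun _ _ => Subsingleton.elim _ _
               commutes' := fun _ => Subsingleton.elim _ _ }⟩
    · -- compare ranks
      obtain ⟨q, hq⟩ := Ideal.exists_maximal R'
      let Q : PrimeSpectrum R' := ⟨q, hq.isPrime⟩
      haveI : Module.Finite R A := inferInstance
      haveI : Module.Projective R A := inferInstance
      have h1 := Module.rankAtStalk_baseChange (R := R) (M := A) (S := R') Q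
      rw [hrk] at h1
      haveI : Module.Free R' (R' ⊗[R] A) := Module.Free.of_equiv iso.toLinearEquiv.symm
      rw [Module.rankAtStalk_eq_finrank_of_free, Pi.natCast_apply, Nat.cast_id,
        iso.toLinearEquiv.finrank_eq, Module.finrank_matrix, Module.finrank_self, mul_one,
        Fintype.card_fin, ← sq] at h1
      have hrn : r = n := Nat.pow_left_injective (n := 2) (by norm_num) h1
      subst hrn
      exact ⟨iso⟩

end LocalData

section Global

variable (R : Type u) [CommRing R] (A : Type u) [Ring A] [Algebra R A] [IsAzumaya R A]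

theorem exists_global_splitting (n : ℕ)
    (hrk : ∀ p : PrimeSpectrum R, Module.rankAtStalk (R := R) A p = n ^ 2) :
    ∃ (S : Type u) (_ : CommRing S) (_ : Algebra R S), Module.FaithfullyFlat R S ∧
      Nonempty ((S ⊗[R] A) ≃ₐ[S] Matrix (Fin n) (Fin n) S) := by
  classical
  choose f hf R' i1 i2 hflat hmax hiso using local_data R A n hrk
  -- the elements `f p` generate the unit ideal
  have hspan : Ideal.span (Set.range f) = ⊤ := by
    by_contra hne
    obtain ⟨m, hm, hle⟩ := Ideal.exists_le_maximal _ hne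
    exact hf ⟨m, hm.isPrime⟩ (hle (Ideal.subset_span ⟨⟨m, hm.isPrime⟩, rfl⟩))
  obtain ⟨s', hs', hs'top⟩ := (Ideal.span_eq_top_iff_finite _).1 hspan
  choose P hP using fun g : (s' : Set R) => hs' g.2
  letI : ∀ i : (s' : Set R), CommRing (R' (P i)) := fun i => i1 (P i)
  letI : ∀ i : (s' : Set R), Algebra R (R' (P i)) := fun i => i2 (P i)
  haveI : ∀ i : (s' : Set R), Module.Flat R (R' (P i)) := fun i => hflat (P i)
  refine ⟨∀ i : (s' : Set R), R' (P i), inferInstance, inferInstance, ?_, ?_⟩
  · apply pi_faithfullyFlat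
    intro m hm
    have hex : ∃ g ∈ s', g ∉ m := by
      by_contra hcon
      push_neg at hcon
      have hle : Ideal.span (s' : Set R) ≤ m := Ideal.span_le.2 (fun g hg => hcon g hg)
      rw [hs'top, top_le_iff] at hle
      exact hm.ne_top hle
    obtain ⟨g, hg, hgm⟩ := hex
    refine ⟨⟨g, hg⟩, hmax (P ⟨g, hg⟩) m hm ?_⟩
    rw [hP ⟨g, hg⟩]
    exact hgm
  · exact ⟨piSplit (fun i : (s' : Set R) => R' (P i)) (fun i => (hiso (P i)).some)⟩

end Global

end Groth.Agent.Lib.R2LeadAzGlobalSplit
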