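import Mathlib
import Groth.Agent.Lib.Helper3HenselM
import Groth.Agent.Lib.R2H7HermDiag
import Groth.Agent.Lib.R2H7HermSkew

/-!
# Normal forms of symmetric and alternating unimodular matrices, étale locally (lead)
-/

set_option autoImplicit false

namespace Groth.Agent.Lib.R2LeadInvForms

open TensorProduct Matrix Polynomial

universe u

section Sqrt

/-- units of étale algebras have square roots étale locally -/
def HasSqrtCovers (S : Type u) [CommRing S] : Prop :=
  ∀ (S₁ : Type u) [CommRing S₁] [Algebra S S₁] [Algebra.Etale S S₁] (x : S₁ˣ),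
    ∃ (S₂ : Type u) (_ : CommRing S₂) (_ : Algebra S₁ S₂) (_ : Algebra.Etale S₁ S₂)
      (_ : Module.FaithfullyFlat S₁ S₂) (y : S₂), y * y = algebraMap S₁ S₂ ↑x

theorem hasSqrtCovers_of_isUnit_two (S : Type u) [CommRing S] (h2 : IsUnit (2 : S)) :
    HasSqrtCovers S := by
  intro S₁ _ _ _ x
  rcases subsingleton_or_nontrivial S₁ with hsub | hnt
  · exact ⟨S₁, inferInstance, inferInstance, inferInstance, inferInstance, 0,
      Subsingleton.elim _ _⟩
  let p : S₁[X] := X ^ 2 - C (x : S₁)
  have hp : p.Monic := monic_X_pow_sub_C _ (by norm_num)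
  have hdeg : p.natDegree = 2 := natDegree_X_pow_sub_C
  have h2' : IsUnit (2 : S₁) := by
    have := h2.map (algebraMap S S₁)
    rwa [map_ofNat] at this
  have hroot : AdjoinRoot.root p * AdjoinRoot.root p = AdjoinRoot.of p (x : S₁) := by
    have h := AdjoinRoot.eval₂_root p
    simp only [p, eval₂_sub, eval₂_pow, eval₂_X, eval₂_C, sub_eq_zero] at h
    rw [← sq]
    exact h
  refine ⟨AdjoinRoot p, inferInstance, inferInstance, ?_, ?_, AdjoinRoot.root p, hroot⟩
  · apply Groth.Agent.Lib.Helper3.Hensel.etale_adjoinRoot p hp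
    have hd : derivative p = C 2 * X := by
      simp only [p, derivative_sub, derivative_X_pow, derivative_C, sub_zero]
      norm_num
    rw [hd, map_mul, AdjoinRoot.mk_C, AdjoinRoot.mk_X]
    have hx : IsUnit (AdjoinRoot.of p (x : S₁)) := x.isUnit.map _
    have hr : IsUnit (AdjoinRoot.root p) := isUnit_of_mul_isUnit_left (hroot ▸ hx)
    have h2'' : IsUnit (AdjoinRoot.of p (2 : S₁)) := h2'.map _
    exact h2''.mul hr
  · haveI : Module.Free S₁ (AdjoinRoot p) := Module.Free.of_basis (AdjoinRoot.powerBasis' hp).basis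
    haveI : Nontrivial (AdjoinRoot p) := by
      have hdim : 0 < (AdjoinRoot.powerBasis' hp).dim := by
        rw [AdjoinRoot.powerBasis'_dim, hdeg]; norm_num
      exact ⟨⟨(AdjoinRoot.powerBasis' hp).basis ⟨0, hdim⟩, 0,
        (AdjoinRoot.powerBasis' hp).basis.ne_zero _⟩⟩
    infer_instance

theorem exists_sqrt_cover {S : Type u} [CommRing S] (hsq : HasSqrtCovers S) :
    ∀ (n : ℕ) (T : Type u) [CommRing T] [Algebra S T] [Algebra.Etale S T] (d : Fin n → Tˣ),
      ∃ (T' : Type u) (_ : CommRing T') (_ : Algebra S T') (_ : Algebra T T')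
        (_ : IsScalarTower S T T'),
        Algebra.Etale S T' ∧ Algebra.Etale T T' ∧ Module.FaithfullyFlat T T' ∧
        ∃ y : Fin n → T', ∀ i, y i * y i = algebraMap T T' (d i) := by
  intro n
  induction n with
  | zero =>
    intro T _ _ _ d
    exact ⟨T, inferInstance, inferInstance, inferInstance, inferInstance, inferInstance,
      inferInstance, inferInstance, Fin.elim0, fun i => Fin.elim0 i⟩
  | succ n ih =>
    intro T _ _ _ d
    obtain ⟨T₁, _, _, _, _, y₀, hy₀⟩ := hsq T (d 0)
    letI : Algebra S T₁ := ((algebraMap T T₁).comp (algebraMap S T)).toAlgebra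
    haveI : IsScalarTower S T T₁ := IsScalarTower.of_algebraMap_eq (fun _ => rfl)
    haveI : Algebra.Etale S T₁ := Algebra.Etale.comp S T T₁
    obtain ⟨T', _, _, _, _, h1, h2, h3, y', hy'⟩ :=
      ih T₁ (fun i => Units.map (algebraMap T T₁ : T →* T₁) (d i.succ))
    letI : Algebra T T' := ((algebraMap T₁ T').comp (algebraMap T T₁)).toAlgebra
    haveI : IsScalarTower T T₁ T' := IsScalarTower.of_algebraMap_eq (fun _ => rfl)
    haveI : IsScalarTower S T T' := IsScalarTower.of_algebraMap_eq (fun s => by
      show algebraMap S T' s = algebraMap T₁ T' (algebraMap T T₁ (algebraMap S T s))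
      rw [IsScalarTower.algebraMap_apply S T₁ T', IsScalarTower.algebraMap_apply S T T₁])
    refine ⟨T', inferInstance, inferInstance, inferInstance, inferInstance, h1,
      Algebra.Etale.comp T T₁ T', Module.FaithfullyFlat.trans T T₁ T',
      Fin.cons (algebraMap T₁ T' y₀) y', ?_⟩
    intro i
    refine Fin.cases ?_ (fun j => ?_) i
    · rw [Fin.cons_zero, ← map_mul, hy₀]
      rfl
    · rw [Fin.cons_succ, hy' j]
      rfl

end Sqrt

section Clear

variable {T : Type*} [CommRing T] (P : Ideal T) [P.IsPrime]

theorem fixedRing_refl (L : Type*) [CommRing L] : RInv.IsFixedRing L L (RingEquiv.refl L) :=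
  ⟨fun _ _ h => h, fun r => ⟨fun _ => ⟨r, rfl⟩, fun _ => rfl⟩⟩

/-- clearing the denominators of a matrix over the localisation at a prime -/
theorem exists_integer_matrix {n : ℕ} (v : Matrix (Fin n) (Fin n) (Localization.AtPrime P)) :
    ∃ (b : P.primeCompl) (v₀ : Matrix (Fin n) (Fin n) T),
      v₀.map (algebraMap T (Localization.AtPrime P)) =
        algebraMap T (Localization.AtPrime P) (b : T) • v := by
  obtain ⟨b, hb⟩ := IsLocalization.exist_integer_multiples P.primeCompl
    (Finset.univ : Finset (Fin n × Fin n)) (fun p => v p.1 p.2)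
  choose x hx using fun p => hb p (Finset.mem_univ p)
  refine ⟨b, Matrix.of fun i j => x (i, j), ?_⟩
  ext i j
  simp only [Matrix.map_apply, Matrix.of_apply, Matrix.smul_apply]
  rw [hx (i, j), Algebra.smul_def, smul_eq_mul]

theorem exists_kill (x : T) (hx : algebraMap T (Localization.AtPrime P) x = 0) :
    ∃ c : T, c ∉ P ∧ c * x = 0 := by
  obtain ⟨m, hm⟩ := (IsLocalization.map_eq_zero_iff P.primeCompl _ x).1 hx
  exact ⟨m, m.2, hm⟩

end Clear

section Symm

variable {T : Type*} [CommRing T] (P : Ideal T) [P.IsPrime]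

theorem exists_diag_away (h2 : (2 : T) ∉ P) {n : ℕ} (u : Matrix (Fin n) (Fin n) T)
    (hu : IsUnit u.det) (hsym : uᵀ = u) :
    ∃ g : T, g ∉ P ∧ ∃ v : Matrix (Fin n) (Fin n) (Localization.Away g), IsUnit v.det ∧
      ∃ d : Fin n → (Localization.Away g)ˣ,
        vᵀ * u.map (algebraMap T (Localization.Away g)) * v =
          Matrix.diagonal (fun i => (d i : Localization.Away g)) := by
  classical
  let L := Localization.AtPrime P
  let uL : Matrix (Fin n) (Fin n) L := u.map (algebraMap T L)
  have huL : IsUnit uL := by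
    rw [Matrix.isUnit_iff_isUnit_det]
    have : uL.det = algebraMap T L u.det := (RingHom.map_det (algebraMap T L) u).symm
    rw [this]
    exact hu.map _
  have hsymL : uLᵀ = uL := by
    show (u.map (algebraMap T L))ᵀ = u.map (algebraMap T L)
    rw [← Matrix.transpose_map, hsym]
  have h2L : IsUnit (algebraMap T L 2) := IsLocalization.map_units L (⟨2, h2⟩ : P.primeCompl)
  obtain ⟨v, hv, d, hd⟩ := Groth.Agent.Lib.R2H7.HermDiag.exists_diagonal (B := L) (A := L)
    (RingEquiv.refl L) (fun _ => rfl) (fixedRing_refl L) n 1 (Or.inl rfl) uL huL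
    (by
      rw [one_smul]
      have : uL.map (RingEquiv.refl L) = uL := by ext i j; rfl
      rw [this, hsymL])
    (Or.inr (Or.inl (by
      intro hmem
      rw [← Ideal.jacobson_bot, IsLocalRing.jacobson_eq_maximalIdeal ⊥ bot_ne_top] at hmem
      have h2L' : IsUnit ((1 : L) + 1) := by
        have : (1 : L) + 1 = algebraMap T L 2 := by rw [map_ofNat]; norm_num
        rw [this]; exact h2L
      exact (IsLocalRing.mem_maximalIdeal _).1 hmem h2L')))
  have hvmap : v.map (RingEquiv.refl L) = v := by ext i j; rfl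
  rw [hvmap] at hd
  obtain ⟨b, v₀, hv₀⟩ := exists_integer_matrix P v
  let G : Matrix (Fin n) (Fin n) T := v₀ᵀ * u * v₀
  have hG : G.map (algebraMap T L) =
      (algebraMap T L (b : T) * algebraMap T L (b : T)) • Matrix.diagonal d := by
    show (v₀ᵀ * u * v₀).map (algebraMap T L) = _
    rw [Matrix.map_mul, Matrix.map_mul, Matrix.transpose_map, hv₀, Matrix.transpose_smul,
      Matrix.smul_mul, Matrix.smul_mul, Matrix.mul_smul, hd, smul_smul]
  have hoff : ∀ p : Fin n × Fin n, ∃ c : T, c ∉ P ∧ (p.1 ≠ p.2 → c * G p.1 p.2 = 0) := by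
    intro p
    by_cases hp : p.1 = p.2
    · exact ⟨1, P.primeCompl.one_mem, fun h => absurd hp h⟩
    · have h0 : algebraMap T L (G p.1 p.2) = 0 := by
        have := congrFun (congrFun hG p.1) p.2
        rw [Matrix.map_apply, Matrix.smul_apply, Matrix.diagonal_apply_ne _ hp, smul_zero] at this
        exact this
      obtain ⟨c, hc, hc0⟩ := exists_kill P _ h0
      exact ⟨c, hc, fun _ => hc0⟩
  choose c hcP hc0 using hoff
  have hdetv₀ : v₀.det ∉ P := by
    have h1 : algebraMap T L v₀.det = (v₀.map (algebraMap T L)).det :=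
      RingHom.map_det (algebraMap T L) v₀
    rw [hv₀, Matrix.det_smul, Fintype.card_fin] at h1
    have h3 : IsUnit (algebraMap T L v₀.det) := by
      rw [h1]
      refine IsUnit.mul ?_ ((Matrix.isUnit_iff_isUnit_det _).1 hv)
      exact (IsLocalization.map_units L b).pow n
    exact (IsLocalization.AtPrime.isUnit_to_map_iff L P _).1 h3
  let g : T := v₀.det * ∏ p, c p
  have hgP : g ∉ P := by
    have h1 : (∏ p, c p) ∈ P.primeCompl := prod_mem (fun p _ => hcP p)
    exact P.primeCompl.mul_mem hdetv₀ h1
  refine ⟨g, hgP, ?_⟩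
  let T₁ := Localization.Away g
  have hdvd1 : v₀.det ∣ g := Dvd.intro _ rfl
  have hdvd2 : ∀ p, c p ∣ g :=
    fun p => Dvd.dvd.mul_left (Finset.dvd_prod_of_mem _ (Finset.mem_univ p)) _
  let v₁ : Matrix (Fin n) (Fin n) T₁ := v₀.map (algebraMap T T₁)
  have hv₁ : IsUnit v₁.det := by
    have : v₁.det = algebraMap T T₁ v₀.det := (RingHom.map_det (algebraMap T T₁) v₀).symm
    rw [this]
    exact IsLocalization.Away.isUnit_of_dvd g hdvd1
  have hG₁ : v₁ᵀ * u.map (algebraMap T T₁) * v₁ = G.map (algebraMap T T₁) := by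
    show _ = (v₀ᵀ * u * v₀).map (algebraMap T T₁)
    rw [Matrix.map_mul, Matrix.map_mul, Matrix.transpose_map]
  have hoff₁ : ∀ i j, i ≠ j → (G.map (algebraMap T T₁)) i j = 0 := by
    intro i j hij
    rw [Matrix.map_apply]
    have h1 := hc0 (i, j) hij
    have h2 : IsUnit (algebraMap T T₁ (c (i, j))) :=
      IsLocalization.Away.isUnit_of_dvd g (hdvd2 (i, j))
    have h3 := congrArg (algebraMap T T₁) h1
    rw [map_mul, map_zero] at h3
    exact (h2.mul_right_eq_zero).1 h3
  have hdiag : G.map (algebraMap T T₁) =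
      Matrix.diagonal (fun i => (G.map (algebraMap T T₁)) i i) := by
    ext i j
    by_cases hij : i = j
    · subst hij; rw [Matrix.diagonal_apply_eq]
    · rw [Matrix.diagonal_apply_ne _ hij, hoff₁ i j hij]
  have hdetG : IsUnit (G.map (algebraMap T T₁)).det := by
    rw [← hG₁, Matrix.det_mul, Matrix.det_mul, Matrix.det_transpose]
    refine (hv₁.mul ?_).mul hv₁
    have : (u.map (algebraMap T T₁)).det = algebraMap T T₁ u.det :=
      (RingHom.map_det (algebraMap T T₁) u).symm
    rw [this]
    exact hu.map _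
  have hunits : ∀ i, IsUnit ((G.map (algebraMap T T₁)) i i) := by
    intro i
    rw [hdiag, Matrix.det_diagonal] at hdetG
    exact isUnit_of_dvd_unit (Finset.dvd_prod_of_mem
      (fun k => (G.map (algebraMap T T₁)) k k) (Finset.mem_univ i)) hdetG
  refine ⟨v₁, hv₁, fun i => (hunits i).unit, ?_⟩
  rw [hG₁]
  conv_lhs => rw [hdiag]
  rfl

end Symm

section Alt

/-- the standard alternating matrix on `Fin n` (blocks on the pairs `{2a, 2a+1}`) -/
def stdAlt (n : ℕ) (T : Type*) [CommRing T] : Matrix (Fin n) (Fin n) T :=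
  Matrix.of fun i j =>
    if i.val / 2 = j.val / 2 then
      (if Even i.val ∧ ¬ Even j.val then 1 else if ¬ Even i.val ∧ Even j.val then -1 else 0)
    else 0

section StdAlt

variable (n : ℕ) (T : Type*) [CommRing T]

/-- the partner index `2a ↔ 2a+1` -/
def partner (i : Fin n) : Fin n :=
  if Even i.val then (if h : i.val + 1 < n then ⟨i.val + 1, h⟩ else i) else ⟨i.val - 1, by omega⟩

/-- the sign of the nonzero entry in row `i` -/
def rowSign (i : Fin n) : T := if Even i.val then 1 else -1

variable {n}

theorem partner_val_of_even (hn : Even n) (i : Fin n) (hi : Even i.val) :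
    (partner n i).val = i.val + 1 := by
  have h : i.val + 1 < n := by
    rw [Nat.even_iff] at hn hi
    have := i.2
    omega
  simp [partner, hi, h]

theorem partner_val_of_odd (i : Fin n) (hi : ¬ Even i.val) :
    (partner n i).val = i.val - 1 := by
  simp [partner, hi]

theorem partner_partner (hn : Even n) (i : Fin n) : partner n (partner n i) = i := by
  apply Fin.ext
  by_cases hi : Even i.val
  · have h1 := partner_val_of_even hn i hi
    have h2 : ¬ Even (partner n i).val := by
      rw [h1, Nat.even_add_one]; exact not_not.2 hi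
    rw [partner_val_of_odd _ h2, h1]
    omega
  · have h1 := partner_val_of_odd i hi
    have hodd := Nat.odd_iff.1 (Nat.not_even_iff_odd.1 hi)
    have h2 : Even (partner n i).val := by
      rw [h1, Nat.even_iff]; omega
    rw [partner_val_of_even hn _ h2, h1]
    omega

theorem even_partner (hn : Even n) (i : Fin n) : Even (partner n i).val ↔ ¬ Even i.val := by
  by_cases hi : Even i.val
  · rw [partner_val_of_even hn i hi, Nat.even_add_one]
  · rw [partner_val_of_odd i hi]
    have hodd := Nat.odd_iff.1 (Nat.not_even_iff_odd.1 hi)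
    simp only [hi, not_false_eq_true, iff_true]
    rw [Nat.even_iff]; omega

theorem rowSign_partner (hn : Even n) (i : Fin n) :
    rowSign n T (partner n i) = -rowSign n T i := by
  by_cases hi : Even i.val
  · have := (even_partner hn i).not.2 (not_not.2 hi)
    simp [rowSign, hi, this]
  · have := (even_partner hn i).2 hi
    simp [rowSign, hi, this]

theorem stdAlt_apply (hn : Even n) (i j : Fin n) :
    stdAlt n T i j = if j = partner n i then rowSign n T i else 0 := by
  simp only [stdAlt, Matrix.of_apply, rowSign]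
  by_cases hi : Even i.val
  · have h1 := partner_val_of_even hn i hi
    have hi' := Nat.even_iff.1 hi
    by_cases hj : j = partner n i
    · have hjv : j.val = i.val + 1 := by rw [hj, h1]
      have hje : ¬ Even j.val := by rw [hjv, Nat.even_add_one]; exact not_not.2 hi
      have hd : i.val / 2 = j.val / 2 := by omega
      rw [if_pos hj]
      simp [hi, hd, hje]
    · have hjv : j.val ≠ i.val + 1 := fun h => hj (Fin.ext (by rw [h, h1]))
      rw [if_neg hj]
      by_cases hd : i.val / 2 = j.val / 2
      · have : j.val = i.val := by omega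
        have hje : Even j.val := by rw [this]; exact hi
        simp [hd, hi, hje]
      · simp [hd]
  · have h1 := partner_val_of_odd i hi
    have hodd := Nat.odd_iff.1 (Nat.not_even_iff_odd.1 hi)
    by_cases hj : j = partner n i
    · have hjv : j.val = i.val - 1 := by rw [hj, h1]
      have hje : Even j.val := by rw [hjv, Nat.even_iff]; omega
      have hd : i.val / 2 = j.val / 2 := by omega
      rw [if_pos hj]
      simp [hi, hd, hje]
    · have hjv : j.val ≠ i.val - 1 := fun h => hj (Fin.ext (by rw [h, h1]))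
      rw [if_neg hj]
      by_cases hd : i.val / 2 = j.val / 2
      · have : j.val = i.val := by omega
        have hje : ¬ Even j.val := by rw [this]; exact hi
        simp [hd, hi, hje]
      · simp [hd]

theorem stdAlt_map {T' : Type*} [CommRing T'] (g : T →+* T') :
    (stdAlt n T).map g = stdAlt n T' := by
  ext i j
  simp only [stdAlt, Matrix.map_apply, Matrix.of_apply]
  split_ifs <;> simp

theorem stdAlt_mul_self (hn : Even n) : stdAlt n T * stdAlt n T = -1 := by
  classical
  ext i k
  rw [Matrix.mul_apply, Finset.sum_eq_single (partner n i)]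
  · rw [stdAlt_apply T hn i, if_pos rfl, stdAlt_apply T hn (partner n i), partner_partner hn,
      rowSign_partner T hn, Matrix.neg_apply, Matrix.one_apply]
    by_cases hik : i = k
    · subst hik
      simp only [if_true]
      by_cases hi : Even i.val <;> simp [rowSign, hi]
    · rw [if_neg (fun h => hik h.symm), if_neg hik]; simp
  · intro j _ hj
    rw [stdAlt_apply T hn i, if_neg hj, zero_mul]
  · intro h; exact absurd (Finset.mem_univ _) h

end StdAlt

variable {T : Type*} [CommRing T] (P : Ideal T) [P.IsPrime]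

theorem exists_alt_away (h2 : (2 : T) ∉ P) {n : ℕ} (u : Matrix (Fin n) (Fin n) T)
    (hu : IsUnit u.det) (halt : uᵀ = -u) :
    Even n ∧ ∃ g : T, g ∉ P ∧ ∃ v : Matrix (Fin n) (Fin n) (Localization.Away g), IsUnit v.det ∧
      vᵀ * u.map (algebraMap T (Localization.Away g)) * v = stdAlt n (Localization.Away g) := by
  classical
  let L := Localization.AtPrime P
  let uL : Matrix (Fin n) (Fin n) L := u.map (algebraMap T L)
  have huL : IsUnit uL := by
    rw [Matrix.isUnit_iff_isUnit_det]
    have : uL.det = algebraMap T L u.det := (RingHom.map_det (algebraMap T L) u).symm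
    rw [this]
    exact hu.map _
  have haltL : uLᵀ = -uL := by
    show (u.map (algebraMap T L))ᵀ = -(u.map (algebraMap T L))
    rw [← Matrix.transpose_map, halt]
    ext i j
    simp
  have h2L : IsUnit (2 : L) := by
    have := IsLocalization.map_units L (⟨2, h2⟩ : P.primeCompl)
    rwa [map_ofNat] at this
  obtain ⟨hEven, v, hv, hbl⟩ := Groth.Agent.Lib.R2H7.HermSkew.exists_blocks (B := L) (A := L)
    (RingEquiv.refl L) (fun _ => rfl) (fixedRing_refl L) n
    (fun a => by
      have : (RingEquiv.refl L) a - a = 0 := sub_self a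
      rw [this]; exact zero_mem _) h2L uL huL
    (by
      have : uL.map (RingEquiv.refl L) = uL := by ext i j; rfl
      rw [this, haltL, neg_neg])
  refine ⟨hEven, ?_⟩
  have hvmap : v.map (RingEquiv.refl L) = v := by ext i j; rfl
  rw [hvmap] at hbl
  have hjac : Ring.jacobson L = IsLocalRing.maximalIdeal L := by
    rw [← Ideal.jacobson_bot, IsLocalRing.jacobson_eq_maximalIdeal ⊥ bot_ne_top]
  obtain ⟨b, v₀, hv₀⟩ := exists_integer_matrix P v
  let G : Matrix (Fin n) (Fin n) T := v₀ᵀ * u * v₀
  have hGalt : Gᵀ = -G := by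
    show (v₀ᵀ * u * v₀)ᵀ = -(v₀ᵀ * u * v₀)
    rw [Matrix.transpose_mul, Matrix.transpose_mul, Matrix.transpose_transpose, halt,
      ← mul_assoc, Matrix.mul_neg, Matrix.neg_mul]
  have hG : G.map (algebraMap T L) =
      (algebraMap T L (b : T) * algebraMap T L (b : T)) • (vᵀ * uL * v) := by
    show (v₀ᵀ * u * v₀).map (algebraMap T L) = _
    rw [Matrix.map_mul, Matrix.map_mul, Matrix.transpose_map, hv₀, Matrix.transpose_smul,
      Matrix.smul_mul, Matrix.smul_mul, Matrix.mul_smul, smul_smul]
  have hbunit : IsUnit (algebraMap T L (b : T) * algebraMap T L (b : T)) :=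
    (IsLocalization.map_units L b).mul (IsLocalization.map_units L b)
  -- off-block entries are killed
  have hoff : ∀ p : Fin n × Fin n, ∃ c : T, c ∉ P ∧
      (p.1.val / 2 ≠ p.2.val / 2 → c * G p.1 p.2 = 0) := by
    intro p
    by_cases hp : p.1.val / 2 = p.2.val / 2
    · exact ⟨1, P.primeCompl.one_mem, fun h => absurd hp h⟩
    · have h0 : algebraMap T L (G p.1 p.2) = 0 := by
        have := congrFun (congrFun hG p.1) p.2
        rw [Matrix.map_apply, Matrix.smul_apply, (hbl p.1 p.2).1 hp, smul_zero] at this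
        exact this
      obtain ⟨c, hc, hc0⟩ := exists_kill P _ h0
      exact ⟨c, hc, fun _ => hc0⟩
  choose c hcP hc0 using hoff
  -- the block entries are units at `P`
  let pr : Fin n → Fin n := fun j => ⟨j.val - 1, by omega⟩
  have hblock : ∀ j : Fin n, ¬ Even j.val → G (pr j) j ∉ P := by
    intro j hj
    have hodd : j.val % 2 = 1 := Nat.odd_iff.1 (Nat.not_even_iff_odd.1 hj)
    have h1 : (pr j).val / 2 = j.val / 2 := by show (j.val - 1) / 2 = j.val / 2; omega
    have h2' : Even (pr j).val := by
      rw [Nat.even_iff]; show (j.val - 1) % 2 = 0; omega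
    have h3 := (hbl (pr j) j).2.2.1 h1 h2' hj
    rw [hjac] at h3
    have h4 : IsUnit ((vᵀ * uL * v) (pr j) j) := by
      by_contra hnu
      have h5 : (vᵀ * uL * v) (pr j) j ∈ IsLocalRing.maximalIdeal L :=
        (IsLocalRing.mem_maximalIdeal _).2 hnu
      have h6 := (IsLocalRing.maximalIdeal L).sub_mem h5 h3
      rw [sub_sub_cancel] at h6
      exact (IsLocalRing.maximalIdeal.isMaximal L).ne_top
        ((Ideal.eq_top_iff_one _).2 h6)
    have h7 : IsUnit (algebraMap T L (G (pr j) j)) := by
      have := congrFun (congrFun hG (pr j)) j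
      rw [Matrix.map_apply, Matrix.smul_apply, smul_eq_mul] at this
      rw [this]
      exact hbunit.mul h4
    exact (IsLocalization.AtPrime.isUnit_to_map_iff L P _).1 h7
  have hdetv₀ : v₀.det ∉ P := by
    have h1 : algebraMap T L v₀.det = (v₀.map (algebraMap T L)).det :=
      RingHom.map_det (algebraMap T L) v₀
    rw [hv₀, Matrix.det_smul, Fintype.card_fin] at h1
    have h3 : IsUnit (algebraMap T L v₀.det) := by
      rw [h1]
      refine IsUnit.mul ?_ ((Matrix.isUnit_iff_isUnit_det _).1 hv)
      exact (IsLocalization.map_units L b).pow n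
    exact (IsLocalization.AtPrime.isUnit_to_map_iff L P _).1 h3
  let β : Fin n → T := fun j => if Even j.val then 1 else G (pr j) j
  have hβP : ∀ j, β j ∉ P := by
    intro j
    by_cases hj : Even j.val
    · simp only [β, hj, if_true]; exact P.primeCompl.one_mem
    · simp only [β, hj, if_false]; exact hblock j hj
  let g : T := 2 * v₀.det * (∏ p, c p) * ∏ j, β j
  have hgP : g ∉ P := by
    have h1 : (∏ p, c p) ∈ P.primeCompl := prod_mem (fun p _ => hcP p)
    have h3 : (∏ j, β j) ∈ P.primeCompl := prod_mem (fun j _ => hβP j)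
    exact P.primeCompl.mul_mem (P.primeCompl.mul_mem (P.primeCompl.mul_mem h2 hdetv₀) h1) h3
  refine ⟨g, hgP, ?_⟩
  let T₁ := Localization.Away g
  have hd2 : (2 : T) ∣ g := ⟨v₀.det * (∏ p, c p) * ∏ j, β j, by simp only [g]; ring⟩
  have hd1 : v₀.det ∣ g := ⟨2 * (∏ p, c p) * ∏ j, β j, by simp only [g]; ring⟩
  have hdc : ∀ p, c p ∣ g := fun p => by
    obtain ⟨d, hd⟩ := Finset.dvd_prod_of_mem c (Finset.mem_univ p)
    exact ⟨2 * v₀.det * d * ∏ j, β j, by simp only [g, hd]; ring⟩
  have hdβ : ∀ j, β j ∣ g := fun j => by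
    obtain ⟨d, hd⟩ := Finset.dvd_prod_of_mem β (Finset.mem_univ j)
    exact ⟨2 * v₀.det * (∏ p, c p) * d, by simp only [g, hd]; ring⟩
  let v₁ : Matrix (Fin n) (Fin n) T₁ := v₀.map (algebraMap T T₁)
  have hv₁ : IsUnit v₁.det := by
    have : v₁.det = algebraMap T T₁ v₀.det := (RingHom.map_det (algebraMap T T₁) v₀).symm
    rw [this]
    exact IsLocalization.Away.isUnit_of_dvd g hd1
  let G₁ : Matrix (Fin n) (Fin n) T₁ := G.map (algebraMap T T₁)
  have hG₁ : v₁ᵀ * u.map (algebraMap T T₁) * v₁ = G₁ := by
    show _ = (v₀ᵀ * u * v₀).map (algebraMap T T₁)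
    rw [Matrix.map_mul, Matrix.map_mul, Matrix.transpose_map]
  have h2T₁ : IsUnit (algebraMap T T₁ 2) := IsLocalization.Away.isUnit_of_dvd g hd2
  have hG₁alt : ∀ i j, G₁ j i = -G₁ i j := by
    intro i j
    have := congrFun (congrFun hGalt i) j
    rw [Matrix.transpose_apply, Matrix.neg_apply] at this
    show algebraMap T T₁ (G j i) = -algebraMap T T₁ (G i j)
    rw [this, map_neg]
  have hG₁diag : ∀ i, G₁ i i = 0 := by
    intro i
    have h := hG₁alt i i
    have h' : algebraMap T T₁ 2 * G₁ i i = 0 := by
      rw [map_ofNat, two_mul]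
      nth_rewrite 1 [h]
      exact neg_add_cancel _
    exact (h2T₁.mul_right_eq_zero).1 h'
  have hG₁off : ∀ i j : Fin n, i.val / 2 ≠ j.val / 2 → G₁ i j = 0 := by
    intro i j hij
    have h1 := hc0 (i, j) hij
    have h2' : IsUnit (algebraMap T T₁ (c (i, j))) :=
      IsLocalization.Away.isUnit_of_dvd g (hdc (i, j))
    have h3 := congrArg (algebraMap T T₁) h1
    rw [map_mul, map_zero] at h3
    exact (h2'.mul_right_eq_zero).1 h3
  have hβ₁ : ∀ j, IsUnit (algebraMap T T₁ (β j)) :=
    fun j => IsLocalization.Away.isUnit_of_dvd g (hdβ j)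
  let D : Fin n → T₁ := fun j => ((hβ₁ j).unit⁻¹ : T₁ˣ)
  have hD : ∀ j, D j * algebraMap T T₁ (β j) = 1 := fun j => by
    show ((hβ₁ j).unit⁻¹ : T₁ˣ) * algebraMap T T₁ (β j) = 1
    exact IsUnit.val_inv_mul (hβ₁ j)
  have hDeven : ∀ j : Fin n, Even j.val → D j = 1 := by
    intro j hj
    have h := hD j
    simp only [β, hj, if_true, map_one, mul_one] at h
    exact h
  have hDodd : ∀ j : Fin n, ¬ Even j.val → D j * G₁ (pr j) j = 1 := by
    intro j hj
    have h := hD j
    simp only [β, hj, if_false] at h
    exact h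
  refine ⟨v₁ * Matrix.diagonal D, ?_, ?_⟩
  · rw [Matrix.det_mul, Matrix.det_diagonal]
    refine hv₁.mul ?_
    rw [IsUnit.prod_univ_iff]
    exact fun j => ⟨⟨D j, algebraMap T T₁ (β j), hD j, by rw [mul_comm]; exact hD j⟩, rfl⟩
  · rw [Matrix.transpose_mul, Matrix.diagonal_transpose]
    have : Matrix.diagonal D * v₁ᵀ * u.map (algebraMap T T₁) * (v₁ * Matrix.diagonal D) =
        Matrix.diagonal D * (v₁ᵀ * u.map (algebraMap T T₁) * v₁) * Matrix.diagonal D := by
      simp only [mul_assoc]
    rw [this, hG₁]
    ext i j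
    rw [Matrix.mul_diagonal, Matrix.diagonal_mul]
    simp only [stdAlt, Matrix.of_apply]
    by_cases hij : i.val / 2 = j.val / 2
    · rw [if_pos hij]
      by_cases hi : Even i.val
      · by_cases hj : Even j.val
        · -- i = j
          have : i = j := by
            apply Fin.ext
            rw [Nat.even_iff] at hi hj
            omega
          subst this
          simp [hG₁diag, hi]
        · have hpr : pr j = i := by
            apply Fin.ext
            show j.val - 1 = i.val
            rw [Nat.even_iff] at hi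
            have := Nat.odd_iff.1 (Nat.not_even_iff_odd.1 hj)
            omega
          rw [if_pos ⟨hi, hj⟩, hDeven i hi, one_mul, mul_comm, ← hpr]
          exact hDodd j hj
      · by_cases hj : Even j.val
        · have hpr : pr i = j := by
            apply Fin.ext
            show i.val - 1 = j.val
            rw [Nat.even_iff] at hj
            have := Nat.odd_iff.1 (Nat.not_even_iff_odd.1 hi)
            omega
          rw [if_neg (fun h => hi h.1), if_pos ⟨hi, hj⟩, hDeven j hj, mul_one, hG₁alt j i, mul_neg,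
            ← hpr]
          rw [hDodd i hi]
        · have : i = j := by
            apply Fin.ext
            have h1 := Nat.odd_iff.1 (Nat.not_even_iff_odd.1 hi)
            have h2' := Nat.odd_iff.1 (Nat.not_even_iff_odd.1 hj)
            omega
          subst this
          simp [hG₁diag, hi]
    · rw [if_neg hij, hG₁off i j hij, mul_zero, zero_mul]

end Alt

end Groth.Agent.Lib.R2LeadInvForms
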