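import Mathlib
import Groth.Agent.Lib.R2LeadAzCharpoly
import Groth.Agent.Lib.R2LeadAzSpread
import Groth.Agent.Lib.LeadAzumaya
import Groth.Agent.Lib.LeadLocalInner

/-!
# Local structure of involutions of the first kind on Azumaya algebras (lead)
-/

set_option autoImplicit false

namespace Groth.Agent.Lib.R2LeadInvLocal

open TensorProduct Matrix
open Groth.Agent.Lib.R2LeadAzCharpoly (splitBC splitBC_one_tmul)

universe u

section Anti

variable {R : Type*} [CommRing R] {A : Type*} [Ring A] [Algebra R A] (t : A →ₗ[R] A)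

/-- an `R`-linear anti-automorphism of order two -/
structure IsInvol : Prop where
  anti : ∀ a b : A, t (a * b) = t b * t a
  invol : ∀ a : A, t (t a) = a

variable {t}

theorem IsInvol.map_one (ht : IsInvol t) : t 1 = 1 := by
  have h : ∀ a : A, t 1 * a = a := fun a => by
    have := ht.anti (t a) 1
    rw [mul_one, ht.invol] at this
    exact this.symm
  simpa using h 1

theorem IsInvol.baseChange (ht : IsInvol t) (T : Type*) [CommRing T] [Algebra R T] :
    IsInvol (t.baseChange T) where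
  anti := by
    intro x y
    induction x using TensorProduct.induction_on with
    | zero => simp
    | add x₁ x₂ h₁ h₂ => rw [add_mul, map_add, map_add, h₁, h₂, mul_add]
    | tmul s a =>
      induction y using TensorProduct.induction_on with
      | zero => simp
      | add y₁ y₂ h₁ h₂ => rw [mul_add, map_add, map_add, h₁, h₂, add_mul]
      | tmul s' a' =>
        simp only [Algebra.TensorProduct.tmul_mul_tmul, LinearMap.baseChange_tmul, ht.anti,
          mul_comm s s']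
  invol := by
    intro x
    induction x using TensorProduct.induction_on with
    | zero => simp
    | add x₁ x₂ h₁ h₂ => rw [map_add, map_add, h₁, h₂]
    | tmul s a => simp only [LinearMap.baseChange_tmul, ht.invol]

end Anti

section Piece

variable {R : Type*} [CommRing R] {A : Type*} [Ring A] [Algebra R A] (t : A →ₗ[R] A) (n : ℕ)

/-- a splitting in which the involution is a conjugate of the transpose -/
structure Piece (T : Type*) [CommRing T] [Algebra R T] where
  σ : (T ⊗[R] A) ≃ₐ[T] Matrix (Fin n) (Fin n) T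
  u : Matrix (Fin n) (Fin n) T
  hu : IsUnit u.det
  conj : ∀ a : A, σ (1 ⊗ₜ[R] t a) * u = u * (σ (1 ⊗ₜ[R] a))ᵀ

variable {t n}

/-- base change of a piece -/
noncomputable def Piece.map {T T' : Type*} [CommRing T] [Algebra R T] [CommRing T'] [Algebra R T']
    (P : Piece t n T) (g : T →ₐ[R] T') : Piece t n T' where
  σ := splitBC P.σ g
  u := P.u.map g
  hu := by
    have : (P.u.map g).det = g P.u.det := (AlgHom.map_det g P.u).symm
    rw [this]
    exact P.hu.map g
  conj := by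
    intro a
    rw [splitBC_one_tmul, splitBC_one_tmul, ← Matrix.map_mul, P.conj a, Matrix.map_mul,
      Matrix.transpose_map]

end Piece

section SkolemNoether

variable {R : Type*} [CommRing R] {A : Type*} [Ring A] [Algebra R A] {t : A →ₗ[R] A} {n : ℕ}
  {R' : Type*} [CommRing R'] [Algebra R R']
  (σ₀ : (R' ⊗[R] A) ≃ₐ[R'] Matrix (Fin n) (Fin n) R')

/-- the transported involution on matrices -/
noncomputable def tau (t : A →ₗ[R] A) :
    Matrix (Fin n) (Fin n) R' →ₗ[R'] Matrix (Fin n) (Fin n) R' :=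
  σ₀.toLinearMap ∘ₗ (t.baseChange R') ∘ₗ σ₀.symm.toLinearMap

theorem tau_apply (X : Matrix (Fin n) (Fin n) R') :
    tau σ₀ t X = σ₀ (t.baseChange R' (σ₀.symm X)) := rfl

theorem tau_sigma (a : A) : tau σ₀ t (σ₀ (1 ⊗ₜ[R] a)) = σ₀ (1 ⊗ₜ[R] t a) := by
  rw [tau_apply, AlgEquiv.symm_apply_apply, LinearMap.baseChange_tmul]

theorem tau_isInvol (ht : IsInvol t) : IsInvol (tau σ₀ t) where
  anti := by
    intro X Y
    rw [tau_apply, tau_apply, tau_apply, map_mul, (ht.baseChange R').anti, map_mul]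
  invol := by
    intro X
    rw [tau_apply, tau_apply, AlgEquiv.symm_apply_apply, (ht.baseChange R').invol,
      AlgEquiv.apply_symm_apply]

/-- the automorphism `X ↦ τ(Xᵀ)` -/
noncomputable def psi (ht : IsInvol t) :
    Matrix (Fin n) (Fin n) R' ≃ₐ[R'] Matrix (Fin n) (Fin n) R' where
  toFun X := tau σ₀ t Xᵀ
  invFun X := (tau σ₀ t X)ᵀ
  left_inv X := by
    show (tau σ₀ t (tau σ₀ t Xᵀ))ᵀ = X
    rw [(tau_isInvol σ₀ ht).invol, Matrix.transpose_transpose]
  right_inv X := by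
    show tau σ₀ t ((tau σ₀ t X)ᵀ)ᵀ = X
    rw [Matrix.transpose_transpose, (tau_isInvol σ₀ ht).invol]
  map_mul' X Y := by
    show tau σ₀ t (X * Y)ᵀ = tau σ₀ t Xᵀ * tau σ₀ t Yᵀ
    rw [Matrix.transpose_mul, (tau_isInvol σ₀ ht).anti]
  map_add' X Y := by
    show tau σ₀ t (X + Y)ᵀ = tau σ₀ t Xᵀ + tau σ₀ t Yᵀ
    rw [Matrix.transpose_add, map_add]
  commutes' c := by
    show tau σ₀ t (algebraMap R' (Matrix (Fin n) (Fin n) R') c)ᵀ = algebraMap R' _ c
    rw [Algebra.algebraMap_eq_smul_one, Matrix.transpose_smul, Matrix.transpose_one, map_smul,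
      (tau_isInvol σ₀ ht).map_one]

theorem psi_apply (ht : IsInvol t) (X : Matrix (Fin n) (Fin n) R') :
    psi σ₀ ht X = tau σ₀ t Xᵀ := rfl

theorem exists_conj_matrix (hn : 0 < n) (ht : IsInvol t) (P' : Ideal R') [P'.IsPrime] :
    ∃ u₀ : Matrix (Fin n) (Fin n) R', u₀.det ∉ P' ∧
      ∀ a : A, σ₀ (1 ⊗ₜ[R] t a) * u₀ = u₀ * (σ₀ (1 ⊗ₜ[R] a))ᵀ := by
  classical
  haveI : Nonempty (Fin n) := ⟨⟨0, hn⟩⟩
  let L := Localization.AtPrime P'
  let M := Matrix (Fin n) (Fin n) R'
  haveI : IsAzumaya R' M := IsAzumaya.matrix R' (Fin n)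
  haveI : IsAzumaya L (L ⊗[R'] M) := Groth.Agent.Lib.LeadAzumaya.isAzumaya_baseChange L M
  let ψL : (L ⊗[R'] M) ≃ₐ[L] (L ⊗[R'] M) :=
    Algebra.TensorProduct.congr (AlgEquiv.refl : L ≃ₐ[L] L) (psi σ₀ ht)
  obtain ⟨a, ha⟩ := Groth.Agent.Lib.LeadLocalInner.exists_unit_conj ψL
  obtain ⟨⟨u', s⟩, hs⟩ := IsLocalizedModule.surj P'.primeCompl (TensorProduct.mk R' L M 1)
    (a : L ⊗[R'] M)
  have hs' : (s : R') • (a : L ⊗[R'] M) = (1 : L) ⊗ₜ[R'] u' := hs
  -- the key identity in the localisation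
  have key : ∀ X : M, (1 : L) ⊗ₜ[R'] (psi σ₀ ht X * u' - u' * X) = 0 := by
    intro X
    have h1 : ψL ((1 : L) ⊗ₜ[R'] X) = (1 : L) ⊗ₜ[R'] psi σ₀ ht X := by
      simp [ψL]
    have h2 := ha ((1 : L) ⊗ₜ[R'] X)
    rw [h1] at h2
    have h3 : ((1 : L) ⊗ₜ[R'] psi σ₀ ht X) * (a : L ⊗[R'] M) =
        (a : L ⊗[R'] M) * ((1 : L) ⊗ₜ[R'] X) := by
      rw [h2, mul_assoc, Units.inv_mul, mul_one]
    rw [TensorProduct.tmul_sub, sub_eq_zero]
    calc (1 : L) ⊗ₜ[R'] (psi σ₀ ht X * u')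
        = ((1 : L) ⊗ₜ[R'] psi σ₀ ht X) * ((1 : L) ⊗ₜ[R'] u') := by
          rw [Algebra.TensorProduct.tmul_mul_tmul, one_mul]
      _ = (s : R') • (((1 : L) ⊗ₜ[R'] psi σ₀ ht X) * (a : L ⊗[R'] M)) := by
          rw [← hs', mul_smul_comm]
      _ = (s : R') • ((a : L ⊗[R'] M) * ((1 : L) ⊗ₜ[R'] X)) := by rw [h3]
      _ = ((1 : L) ⊗ₜ[R'] u') * ((1 : L) ⊗ₜ[R'] X) := by
          rw [← smul_mul_assoc, hs']
      _ = (1 : L) ⊗ₜ[R'] (u' * X) := by
          rw [Algebra.TensorProduct.tmul_mul_tmul, one_mul]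
  have key2 : ∀ p : Fin n × Fin n, ∃ c : P'.primeCompl,
      c • (psi σ₀ ht (Matrix.single p.1 p.2 (1 : R')) * u' - u' * Matrix.single p.1 p.2 1) = 0 := by
    intro p
    have := key (Matrix.single p.1 p.2 (1 : R'))
    exact (IsLocalizedModule.eq_zero_iff P'.primeCompl (TensorProduct.mk R' L M 1)).1 this
  choose c hc using key2
  let c₀ : P'.primeCompl := ∏ p, c p
  have hc₀ : ∀ p : Fin n × Fin n,
      (c₀ : R') • (psi σ₀ ht (Matrix.single p.1 p.2 (1 : R')) * u' - u' * Matrix.single p.1 p.2 1)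
        = 0 := by
    intro p
    have hdvd : (c p : R') ∣ (c₀ : R') := by
      have : (c₀ : R') = ∏ q, (c q : R') := by
        simp [c₀]
      rw [this]
      exact Finset.dvd_prod_of_mem _ (Finset.mem_univ p)
    obtain ⟨d, hd⟩ := hdvd
    have h := hc p
    rw [Submonoid.smul_def] at h
    rw [hd, mul_comm, mul_smul, h, smul_zero]
  obtain ⟨u₀, hu₀def⟩ : ∃ u₀ : M, u₀ = (c₀ : R') • u' := ⟨_, rfl⟩
  have hu₀ : ∀ X : M, psi σ₀ ht X * u₀ = u₀ * X := by
    intro X
    induction X using Matrix.induction_on' with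
    | h_zero => simp
    | h_add p q hp hq => rw [map_add, add_mul, mul_add, hp, hq]
    | h_std_basis i j x =>
      have hx : Matrix.single i j x = x • Matrix.single i j (1 : R') := by
        rw [Matrix.smul_single, smul_eq_mul, mul_one]
      have h := hc₀ (i, j)
      rw [smul_sub, sub_eq_zero] at h
      have h' : psi σ₀ ht (Matrix.single i j 1) * u₀ = u₀ * Matrix.single i j 1 := by
        rw [hu₀def, mul_smul_comm, smul_mul_assoc]
        exact h
      rw [hx, map_smul, smul_mul_assoc, mul_smul_comm, h']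
  refine ⟨u₀, ?_, ?_⟩
  · -- the determinant is a unit at `P'`
    have hunit : IsUnit ((1 : L) ⊗ₜ[R'] u₀ : L ⊗[R'] M) := by
      have h1 : ((1 : L) ⊗ₜ[R'] u₀ : L ⊗[R'] M) =
          algebraMap L (L ⊗[R'] M) (algebraMap R' L ((c₀ : R') * (s : R'))) * (a : L ⊗[R'] M) := by
        rw [← Algebra.smul_def, algebraMap_smul, mul_smul, hs', ← TensorProduct.tmul_smul, hu₀def]
      rw [h1]
      refine IsUnit.mul (IsUnit.map _ ?_) a.isUnit
      exact IsLocalization.map_units L (⟨(c₀ : R') * (s : R'), P'.primeCompl.mul_mem c₀.2 s.2⟩ :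
        P'.primeCompl)
    have h2 : IsUnit ((matrixEquivTensor (Fin n) R' L).symm ((1 : L) ⊗ₜ[R'] u₀)) :=
      hunit.map (matrixEquivTensor (Fin n) R' L).symm
    rw [matrixEquivTensor_apply_symm, one_smul] at h2
    have h3 := (Matrix.isUnit_iff_isUnit_det _).1 h2
    have h4 : (u₀.map (algebraMap R' L)).det = algebraMap R' L u₀.det :=
      (RingHom.map_det (algebraMap R' L) u₀).symm
    rw [h4, IsLocalization.AtPrime.isUnit_to_map_iff L P'] at h3
    exact h3
  · intro a'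
    have h := hu₀ ((σ₀ (1 ⊗ₜ[R] a'))ᵀ)
    rw [psi_apply, Matrix.transpose_transpose, tau_sigma] at h
    exact h

end SkolemNoether

section Sign

variable {R : Type*} [CommRing R] {A : Type*} [Ring A] [Algebra R A] {t : A →ₗ[R] A} {n : ℕ}
  {T : Type*} [CommRing T] [Algebra R T]

theorem Piece.exists_eps (P : Piece t n T) (ht : IsInvol t) (hn : 0 < n) :
    ∃ ε : T, P.u = ε • P.uᵀ ∧ ε * ε = 1 := by
  classical
  have hdet : IsUnit P.u.det := P.hu
  have hu1 : P.u * P.u⁻¹ = 1 := Matrix.mul_nonsing_inv _ hdet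
  have hu2 : P.u⁻¹ * P.u = 1 := Matrix.nonsing_inv_mul _ hdet
  set u := P.u with hu
  let X : A → Matrix (Fin n) (Fin n) T := fun a => P.σ (1 ⊗ₜ[R] a)
  have h1 : ∀ a, X (t a) * u = u * (X a)ᵀ := P.conj
  have h2 : ∀ a, X a * u = u * (X (t a))ᵀ := by
    intro a
    have := h1 (t a)
    rwa [ht.invol] at this
  have h3 : ∀ a, (X (t a))ᵀ = u⁻¹ * X a * u := by
    intro a
    rw [mul_assoc, h2 a, ← mul_assoc, hu2, one_mul]
  have h4 : ∀ a, uᵀ * (X (t a))ᵀ = X a * uᵀ := by
    intro a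
    have := congrArg Matrix.transpose (h1 a)
    rwa [Matrix.transpose_mul, Matrix.transpose_mul, Matrix.transpose_transpose] at this
  let z := uᵀ * u⁻¹
  have h5 : ∀ a, z * X a = X a * z := by
    intro a
    have := h4 a
    rw [h3 a] at this
    calc z * X a = uᵀ * (u⁻¹ * X a * u) * u⁻¹ := by
          simp only [z, mul_assoc, hu1, mul_one]
      _ = X a * uᵀ * u⁻¹ := by rw [this]
      _ = X a * z := by rw [mul_assoc]
  have h6 : ∀ Y : Matrix (Fin n) (Fin n) T, z * Y = Y * z := by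
    intro Y
    obtain ⟨w, rfl⟩ := P.σ.surjective Y
    induction w using TensorProduct.induction_on with
    | zero => simp
    | add x y hx hy => rw [map_add, mul_add, add_mul, hx, hy]
    | tmul s a =>
      have : s ⊗ₜ[R] a = s • ((1 : T) ⊗ₜ[R] a) := by
        rw [TensorProduct.smul_tmul', smul_eq_mul, mul_one]
      rw [this, map_smul, mul_smul_comm, smul_mul_assoc]
      congr 1
      exact h5 a
  have h7 : z ∈ Set.range (Matrix.scalar (Fin n)) :=
    Matrix.mem_range_scalar_of_commute_single (fun i j _ => (h6 _).symm)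
  obtain ⟨ε, hε⟩ := h7
  have h8 : uᵀ = ε • u := by
    have : uᵀ = z * u := by simp only [z, mul_assoc, hu2, mul_one]
    rw [this, ← hε, Matrix.scalar_apply, ← Matrix.smul_eq_diagonal_mul]
  have h9 : u = ε • uᵀ := by
    have := congrArg Matrix.transpose h8
    rwa [Matrix.transpose_transpose, Matrix.transpose_smul] at this
  refine ⟨ε, h9, ?_⟩
  have h10 : u = (ε * ε) • u := by
    conv_lhs => rw [h9, h8, smul_smul]
  have h11 : (1 : Matrix (Fin n) (Fin n) T) = (ε * ε) • 1 := by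
    have := congrArg (fun Y => Y * u⁻¹) h10
    simp only [smul_mul_assoc, hu1] at this
    exact this
  have h12 := congrFun (congrFun h11 ⟨0, hn⟩) ⟨0, hn⟩
  simpa using h12.symm

end Sign

section Normalize

variable {R : Type*} [CommRing R] {A : Type*} [Ring A] [Algebra R A] {t : A →ₗ[R] A} {n : ℕ}
  {T : Type*} [CommRing T] [Algebra R T]

/-- conjugation by an invertible matrix, `X ↦ w⁻¹ X w` -/
noncomputable def conjEquiv (w : Matrix (Fin n) (Fin n) T) (hw : IsUnit w.det) :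
    Matrix (Fin n) (Fin n) T ≃ₐ[T] Matrix (Fin n) (Fin n) T where
  toFun X := w⁻¹ * X * w
  invFun X := w * X * w⁻¹
  left_inv X := by
    simp only [mul_assoc, Matrix.mul_nonsing_inv _ hw, mul_one]
    rw [← mul_assoc, Matrix.mul_nonsing_inv _ hw, one_mul]
  right_inv X := by
    simp only [mul_assoc, Matrix.nonsing_inv_mul _ hw, mul_one]
    rw [← mul_assoc, Matrix.nonsing_inv_mul _ hw, one_mul]
  map_mul' X Y := by
    have : w⁻¹ * X * w * (w⁻¹ * Y * w) = w⁻¹ * X * (w * w⁻¹) * Y * w := by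
      simp only [mul_assoc]
    rw [this, Matrix.mul_nonsing_inv _ hw, mul_one]
    simp only [mul_assoc]
  map_add' X Y := by rw [mul_add, add_mul]
  commutes' c := by
    rw [Algebra.algebraMap_eq_smul_one, mul_smul_comm, mul_one, smul_mul_assoc,
      Matrix.nonsing_inv_mul _ hw]

theorem conjEquiv_apply (w : Matrix (Fin n) (Fin n) T) (hw : IsUnit w.det)
    (X : Matrix (Fin n) (Fin n) T) : conjEquiv w hw X = w⁻¹ * X * w := rfl

/-- change of basis in a piece -/
noncomputable def Piece.normalize (P : Piece t n T) (w : Matrix (Fin n) (Fin n) T)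
    (hw : IsUnit w.det) (J : Matrix (Fin n) (Fin n) T) (h : P.u = w * J * wᵀ) : Piece t n T where
  σ := P.σ.trans (conjEquiv w hw)
  u := J
  hu := by
    have h1 := P.hu
    rw [h, Matrix.det_mul, Matrix.det_mul, Matrix.det_transpose] at h1
    exact isUnit_of_mul_isUnit_right (isUnit_of_mul_isUnit_left h1)
  conj := by
    intro a
    have hw1 : w * w⁻¹ = 1 := Matrix.mul_nonsing_inv _ hw
    have hw2 : w⁻¹ * w = 1 := Matrix.nonsing_inv_mul _ hw
    have hwt1 : wᵀ * (w⁻¹)ᵀ = 1 := by rw [← Matrix.transpose_mul, hw2, Matrix.transpose_one]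
    have hc := P.conj a
    rw [h] at hc
    rw [AlgEquiv.trans_apply, AlgEquiv.trans_apply, conjEquiv_apply, conjEquiv_apply]
    rw [Matrix.transpose_mul, Matrix.transpose_mul]
    -- w⁻¹ X_{ta} w J = J wᵀ X_aᵀ w⁻ᵀ
    have h1 : P.σ (1 ⊗ₜ[R] t a) * w * J = w * J * wᵀ * (P.σ (1 ⊗ₜ[R] a))ᵀ * (w⁻¹)ᵀ := by
      have h0 : P.σ (1 ⊗ₜ[R] t a) * (w * J * wᵀ) * (w⁻¹)ᵀ =
          w * J * wᵀ * (P.σ (1 ⊗ₜ[R] a))ᵀ * (w⁻¹)ᵀ := by rw [hc]
      rw [← h0]
      simp only [mul_assoc, hwt1, mul_one]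
    calc w⁻¹ * P.σ (1 ⊗ₜ[R] t a) * w * J = w⁻¹ * (P.σ (1 ⊗ₜ[R] t a) * w * J) := by
          simp only [mul_assoc]
      _ = w⁻¹ * (w * J * wᵀ * (P.σ (1 ⊗ₜ[R] a))ᵀ * (w⁻¹)ᵀ) := by rw [h1]
      _ = (w⁻¹ * w) * J * wᵀ * (P.σ (1 ⊗ₜ[R] a))ᵀ * (w⁻¹)ᵀ := by simp only [mul_assoc]
      _ = J * (wᵀ * ((P.σ (1 ⊗ₜ[R] a))ᵀ * (w⁻¹)ᵀ)) := by rw [hw2, one_mul]; simp only [mul_assoc]

theorem Piece.normalize_u (P : Piece t n T) (w : Matrix (Fin n) (Fin n) T)
    (hw : IsUnit w.det) (J : Matrix (Fin n) (Fin n) T) (h : P.u = w * J * wᵀ) :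
    (P.normalize w hw J h).u = J := rfl

end Normalize

section Away

variable {R : Type*} [CommRing R] {T : Type*} [CommRing T] [Algebra R T]

theorem away_prime (Q : Ideal T) [Q.IsPrime] (x : T) (hx : x ∉ Q) :
    ∃ Q' : Ideal (Localization.Away x), Q'.IsPrime ∧
      Q'.comap (algebraMap T (Localization.Away x)) = Q := by
  have hdisj : Disjoint (Submonoid.powers x : Set T) (Q : Set T) := by
    rw [Set.disjoint_left]
    rintro y ⟨k, rfl⟩ hy
    exact hx (Ideal.IsPrime.mem_of_pow_mem inferInstance k hy)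
  refine ⟨Q.map (algebraMap T (Localization.Away x)),
    IsLocalization.isPrime_of_isPrime_disjoint (Submonoid.powers x) _ Q inferInstance hdisj,
    IsLocalization.under_map_of_isPrime_disjoint (Submonoid.powers x) _ inferInstance hdisj⟩

theorem comap_tower {T' : Type*} [CommRing T'] [Algebra R T'] [Algebra T T'] [IsScalarTower R T T']
    (Q' : Ideal T') : Q'.comap (algebraMap R T') =
      (Q'.comap (algebraMap T T')).comap (algebraMap R T) := by
  rw [Ideal.comap_comap, ← IsScalarTower.algebraMap_eq]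

end Away

end Groth.Agent.Lib.R2LeadInvLocal
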