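import Mathlib
import Groth.Agent.Lib.R2LeadInvLocal
import Groth.Agent.Lib.R2LeadInvForms

/-!
# Local normal form of an involution of the first kind (lead)
-/

set_option autoImplicit false

namespace Groth.Agent.Lib.R2LeadInvLocalMain

open TensorProduct Matrix
open Groth.Agent.Lib.R2LeadInvLocal Groth.Agent.Lib.R2LeadInvForms

universe u

variable {R : Type u} [CommRing R] {A : Type u} [Ring A] [Algebra R A] {t : A →ₗ[R] A} {n : ℕ}

/-- the possible conclusions -/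
def Concl (t : A →ₗ[R] A) (n : ℕ) (p : Ideal R) : Prop :=
  ∃ (T : Type u) (_ : CommRing T) (_ : Algebra R T), Algebra.Etale R T ∧
    (∃ Q : Ideal T, Q.IsPrime ∧ Q.comap (algebraMap R T) = p) ∧
    ((∃ P : Piece t n T, P.u = 1) ∨ (Even n ∧ ∃ P : Piece t n T, P.u = stdAlt n T))

theorem isUnit_two_of (h2 : IsUnit (2 : R)) (T : Type*) [CommRing T] [Algebra R T] :
    IsUnit (2 : T) := by
  have := h2.map (algebraMap R T)
  rwa [map_ofNat] at this

theorem two_notMem (h2 : IsUnit (2 : R)) {T : Type*} [CommRing T] [Algebra R T] (Q : Ideal T)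
    [hQ : Q.IsPrime] : (2 : T) ∉ Q := fun h =>
  hQ.ne_top (Ideal.eq_top_of_isUnit_mem _ h (isUnit_two_of h2 T))

theorem map_smul_matrix {T T' : Type*} [CommRing T] [CommRing T'] (g : T →+* T') (c : T)
    {m : Type*} (M : Matrix m m T) : (c • M).map g = g c • M.map g := by
  ext i j
  simp

theorem finish_symm (h2 : IsUnit (2 : R)) (p : Ideal R) (T₂ : Type u) [CommRing T₂]
    [Algebra R T₂] [Algebra.Etale R T₂] (Q₂ : Ideal T₂) [Q₂.IsPrime]
    (hQ₂ : Q₂.comap (algebraMap R T₂) = p) (P₂ : Piece t n T₂) (hsym : P₂.uᵀ = P₂.u) :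
    Concl t n p := by
  classical
  obtain ⟨g, hg, v, hv, d, hd⟩ := exists_diag_away Q₂ (two_notMem h2 Q₂) P₂.u P₂.hu hsym
  let T₃ := Localization.Away g
  obtain ⟨Q₃, hQ₃p, hQ₃⟩ := away_prime Q₂ g hg
  obtain ⟨T₄, _, _, _, _, het4, _, hff, y, hy⟩ :=
    exists_sqrt_cover (hasSqrtCovers_of_isUnit_two R h2) n T₃ d
  obtain ⟨Q₄, hQ₄⟩ := PrimeSpectrum.comap_surjective_of_faithfullyFlat (A := T₃) (B := T₄)
    ⟨Q₃, hQ₃p⟩
  let g₃ : T₂ →ₐ[R] T₃ := IsScalarTower.toAlgHom R T₂ T₃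
  let g₄ : T₃ →ₐ[R] T₄ := IsScalarTower.toAlgHom R T₃ T₄
  let P₄ : Piece t n T₄ := (P₂.map g₃).map g₄
  have hv1 : v * v⁻¹ = 1 := Matrix.mul_nonsing_inv _ hv
  have hv2 : v⁻¹ * v = 1 := Matrix.nonsing_inv_mul _ hv
  have hvt : (v⁻¹)ᵀ * vᵀ = 1 := by rw [← Matrix.transpose_mul, hv1, Matrix.transpose_one]
  -- u₃ = v⁻ᵀ diag(d) v⁻¹
  have hu₃ : P₂.u.map (algebraMap T₂ T₃) =
      (v⁻¹)ᵀ * Matrix.diagonal (fun i => (d i : T₃)) * v⁻¹ := by
    rw [← hd]
    simp only [mul_assoc, hv1, mul_one]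
    rw [← mul_assoc, hvt, one_mul]
  let w : Matrix (Fin n) (Fin n) T₄ := ((v⁻¹)ᵀ).map g₄ * Matrix.diagonal y
  have hwdet : IsUnit w.det := by
    rw [Matrix.det_mul, Matrix.det_diagonal]
    refine IsUnit.mul ?_ ?_
    · have : (((v⁻¹)ᵀ).map g₄).det = g₄ ((v⁻¹)ᵀ).det := (AlgHom.map_det g₄ _).symm
      rw [this, Matrix.det_transpose, Matrix.det_nonsing_inv]
      exact (IsUnit.ringInverse hv).map g₄
    · rw [IsUnit.prod_univ_iff]
      intro i
      have h1 : IsUnit (y i * y i) := by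
        rw [hy i]; exact (d i).isUnit.map _
      exact isUnit_of_mul_isUnit_left h1
  have hP₄ : P₄.u = w * 1 * wᵀ := by
    show (P₂.u.map g₃).map g₄ = _
    have h1 : P₂.u.map g₃ = P₂.u.map (algebraMap T₂ T₃) := rfl
    rw [h1, hu₃, Matrix.map_mul, Matrix.map_mul, mul_one]
    have h3 : (Matrix.diagonal fun i => (d i : T₃)).map g₄ =
        Matrix.diagonal y * Matrix.diagonal y := by
      rw [Matrix.diagonal_mul_diagonal]
      ext i j
      by_cases hij : i = j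
      · subst hij
        rw [Matrix.map_apply, Matrix.diagonal_apply_eq, Matrix.diagonal_apply_eq, hy i]
        rfl
      · rw [Matrix.map_apply, Matrix.diagonal_apply_ne _ hij, Matrix.diagonal_apply_ne _ hij,
          map_zero]
    have h4 : wᵀ = Matrix.diagonal y * (v⁻¹).map g₄ := by
      show (((v⁻¹)ᵀ).map g₄ * Matrix.diagonal y)ᵀ = _
      rw [Matrix.transpose_mul, Matrix.diagonal_transpose, Matrix.transpose_map,
        Matrix.transpose_transpose]
    rw [h3, h4]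
    simp only [w, mul_assoc]
  refine ⟨T₄, inferInstance, inferInstance, het4, ⟨Q₄.asIdeal, Q₄.isPrime, ?_⟩,
    Or.inl ⟨P₄.normalize w hwdet 1 hP₄, rfl⟩⟩
  rw [comap_tower (R := R) (T := T₃) Q₄.asIdeal]
  have h5 : Q₄.asIdeal.comap (algebraMap T₃ T₄) = Q₃ := congrArg PrimeSpectrum.asIdeal hQ₄
  rw [h5, comap_tower (R := R) (T := T₂) Q₃, hQ₃, hQ₂]

theorem finish_alt (h2 : IsUnit (2 : R)) (p : Ideal R) (T₂ : Type u) [CommRing T₂]
    [Algebra R T₂] [Algebra.Etale R T₂] (Q₂ : Ideal T₂) [Q₂.IsPrime]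
    (hQ₂ : Q₂.comap (algebraMap R T₂) = p) (P₂ : Piece t n T₂) (halt : P₂.uᵀ = -P₂.u) :
    Concl t n p := by
  classical
  obtain ⟨hEven, g, hg, v, hv, hd⟩ :=
    exists_alt_away Q₂ (two_notMem h2 Q₂) P₂.u P₂.hu halt
  let T₃ := Localization.Away g
  obtain ⟨Q₃, hQ₃p, hQ₃⟩ := away_prime Q₂ g hg
  let g₃ : T₂ →ₐ[R] T₃ := IsScalarTower.toAlgHom R T₂ T₃
  let P₃ : Piece t n T₃ := P₂.map g₃
  have hv1 : v * v⁻¹ = 1 := Matrix.mul_nonsing_inv _ hv
  have hvt : (v⁻¹)ᵀ * vᵀ = 1 := by rw [← Matrix.transpose_mul, hv1, Matrix.transpose_one]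
  have hu₃ : P₂.u.map (algebraMap T₂ T₃) = (v⁻¹)ᵀ * stdAlt n T₃ * v⁻¹ := by
    rw [← hd]
    simp only [mul_assoc, hv1, mul_one]
    rw [← mul_assoc, hvt, one_mul]
  let w : Matrix (Fin n) (Fin n) T₃ := (v⁻¹)ᵀ
  have hwdet : IsUnit w.det := by
    show IsUnit ((v⁻¹)ᵀ).det
    rw [Matrix.det_transpose, Matrix.det_nonsing_inv]
    exact IsUnit.ringInverse hv
  have hP₃ : P₃.u = w * stdAlt n T₃ * wᵀ := by
    show P₂.u.map g₃ = _
    have h1 : P₂.u.map g₃ = P₂.u.map (algebraMap T₂ T₃) := rfl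
    rw [h1, hu₃]
    show _ = (v⁻¹)ᵀ * stdAlt n T₃ * ((v⁻¹)ᵀ)ᵀ
    rw [Matrix.transpose_transpose]
  refine ⟨T₃, inferInstance, inferInstance, inferInstance, ⟨Q₃, hQ₃p, ?_⟩,
    Or.inr ⟨hEven, P₃.normalize w hwdet _ hP₃, rfl⟩⟩
  rw [comap_tower (R := R) (T := T₂) Q₃, hQ₃, hQ₂]

theorem exists_local_piece [IsAzumaya R A] (ht : IsInvol t) (h2 : IsUnit (2 : R)) (hn : 0 < n)
    (hrk : ∀ p : PrimeSpectrum R, Module.rankAtStalk (R := R) A p = n ^ 2)
    (p : Ideal R) [p.IsPrime] : Concl t n p := by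
  classical
  obtain ⟨f, hf, R', _, _, _, _, hfin, het, hff, r, hr, ⟨σ₀⟩⟩ :=
    Groth.Agent.Lib.R2LeadAzSpread.main R A p
  obtain ⟨pf, hpfp, hpf⟩ := away_prime p f hf
  obtain ⟨Q₀, hQ₀⟩ := PrimeSpectrum.comap_surjective_of_faithfullyFlat
    (A := Localization.Away f) (B := R') ⟨pf, hpfp⟩
  haveI : Algebra.Etale R R' := Algebra.Etale.comp R (Localization.Away f) R'
  have hQ₀p : Q₀.asIdeal.comap (algebraMap R R') = p := by
    rw [comap_tower (R := R) (T := Localization.Away f) Q₀.asIdeal]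
    have h5 : Q₀.asIdeal.comap (algebraMap (Localization.Away f) R') = pf :=
      congrArg PrimeSpectrum.asIdeal hQ₀
    rw [h5, hpf]
  haveI : Nontrivial R' := Q₀.nontrivial
  -- compare ranks
  have hrn : r = n := by
    have h1 := Module.rankAtStalk_baseChange (R := R) (M := A) (S := R') Q₀
    rw [hrk] at h1
    haveI : Module.Free R' (R' ⊗[R] A) := Module.Free.of_equiv σ₀.toLinearEquiv.symm
    rw [Module.rankAtStalk_eq_finrank_of_free, Pi.natCast_apply, Nat.cast_id,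
      σ₀.toLinearEquiv.finrank_eq, Module.finrank_matrix, Module.finrank_self, mul_one,
      Fintype.card_fin, ← sq] at h1
    exact Nat.pow_left_injective (n := 2) (by norm_num) h1
  subst hrn
  -- Skolem–Noether
  obtain ⟨u₀, hu₀, hconj⟩ := exists_conj_matrix σ₀ hn ht Q₀.asIdeal
  let T₁ := Localization.Away u₀.det
  obtain ⟨Q₁, hQ₁p, hQ₁⟩ := away_prime Q₀.asIdeal u₀.det hu₀
  let g₁ : R' →ₐ[R] T₁ := IsScalarTower.toAlgHom R R' T₁
  let P₁ : Piece t r T₁ :=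
    { σ := Groth.Agent.Lib.R2LeadAzCharpoly.splitBC σ₀ g₁
      u := u₀.map g₁
      hu := by
        have : (u₀.map g₁).det = g₁ u₀.det := (AlgHom.map_det g₁ u₀).symm
        rw [this]
        exact IsLocalization.Away.algebraMap_isUnit u₀.det
      conj := by
        intro a
        rw [Groth.Agent.Lib.R2LeadAzCharpoly.splitBC_one_tmul,
          Groth.Agent.Lib.R2LeadAzCharpoly.splitBC_one_tmul, ← Matrix.map_mul, hconj a,
          Matrix.map_mul, Matrix.transpose_map] }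
  have hQ₁' : Q₁.comap (algebraMap R T₁) = p := by
    rw [comap_tower (R := R) (T := R') Q₁, hQ₁, hQ₀p]
  obtain ⟨ε, hε, hεε⟩ := P₁.exists_eps ht hn
  haveI := hQ₁p
  have hcase : ε + 1 ∉ Q₁ ∨ ε - 1 ∉ Q₁ := by
    by_contra hcon
    push_neg at hcon
    have : (2 : T₁) ∈ Q₁ := by
      have := Q₁.sub_mem hcon.1 hcon.2
      have h3 : ε + 1 - (ε - 1) = 2 := by ring
      rwa [h3] at this
    exact two_notMem h2 Q₁ this
  rcases hcase with hc | hc
  · -- orthogonal case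
    let T₂ := Localization.Away (ε + 1)
    obtain ⟨Q₂, hQ₂p, hQ₂⟩ := away_prime Q₁ (ε + 1) hc
    haveI := hQ₂p
    let g₂ : T₁ →ₐ[R] T₂ := IsScalarTower.toAlgHom R T₁ T₂
    have hε₂ : g₂ ε = 1 := by
      have h3 : (ε - 1) * (ε + 1) = 0 := by
        have : (ε - 1) * (ε + 1) = ε * ε - 1 := by ring
        rw [this, hεε, sub_self]
      have h4 := congrArg g₂ h3
      rw [map_mul, map_zero] at h4
      have h5 : IsUnit (g₂ (ε + 1)) := IsLocalization.Away.algebraMap_isUnit (ε + 1)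
      have h6 := (h5.mul_left_eq_zero).1 h4
      rw [map_sub, map_one, sub_eq_zero] at h6
      exact h6
    have hsym : (P₁.map g₂).uᵀ = (P₁.map g₂).u := by
      show (P₁.u.map g₂)ᵀ = P₁.u.map g₂
      conv_rhs => rw [hε]
      have := map_smul_matrix (g₂ : T₁ →+* T₂) ε P₁.uᵀ
      rw [RingHom.coe_coe] at this
      rw [this, hε₂, one_smul, Matrix.transpose_map]
    exact finish_symm h2 p T₂ Q₂ (by rw [comap_tower (R := R) (T := T₁) Q₂, hQ₂, hQ₁'])
      (P₁.map g₂) hsym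
  · -- symplectic case
    let T₂ := Localization.Away (ε - 1)
    obtain ⟨Q₂, hQ₂p, hQ₂⟩ := away_prime Q₁ (ε - 1) hc
    haveI := hQ₂p
    let g₂ : T₁ →ₐ[R] T₂ := IsScalarTower.toAlgHom R T₁ T₂
    have hε₂ : g₂ ε = -1 := by
      have h3 : (ε + 1) * (ε - 1) = 0 := by
        have : (ε + 1) * (ε - 1) = ε * ε - 1 := by ring
        rw [this, hεε, sub_self]
      have h4 := congrArg g₂ h3
      rw [map_mul, map_zero] at h4
      have h5 : IsUnit (g₂ (ε - 1)) := IsLocalization.Away.algebraMap_isUnit (ε - 1)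
      have h6 := (h5.mul_left_eq_zero).1 h4
      rw [map_add, map_one] at h6
      exact eq_neg_of_add_eq_zero_left h6
    have halt : (P₁.map g₂).uᵀ = -(P₁.map g₂).u := by
      show (P₁.u.map g₂)ᵀ = -(P₁.u.map g₂)
      conv_rhs => rw [hε]
      have := map_smul_matrix (g₂ : T₁ →+* T₂) ε P₁.uᵀ
      rw [RingHom.coe_coe] at this
      have hneg : ∀ M : Matrix (Fin r) (Fin r) T₂, (-1 : T₂) • M = -M := fun M => by
        ext i j
        rw [Matrix.smul_apply, Matrix.neg_apply, smul_eq_mul]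
        ring
      rw [this, hε₂, hneg, neg_neg, Matrix.transpose_map]
    exact finish_alt h2 p T₂ Q₂ (by rw [comap_tower (R := R) (T := T₁) Q₂, hQ₂, hQ₁'])
      (P₁.map g₂) halt

end Groth.Agent.Lib.R2LeadInvLocalMain
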