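import Mathlib
import Groth.Agent.Lib.R2LeadInvLocalMain
import Groth.Agent.Lib.R2LeadAzGlobalSplit
import Groth.Agent.S17360

/-!
# Global normal form of an involution of the first kind over a connected base (lead)
-/

set_option autoImplicit false

namespace Groth.Agent.Lib.R2LeadInvGlobal

open TensorProduct Matrix
open Groth.Agent.Lib.R2LeadInvLocal Groth.Agent.Lib.R2LeadInvForms Groth.Agent.Lib.R2LeadInvLocalMain

universe u

section ConjAll

variable {R : Type*} [CommRing R] {A : Type*} [Ring A] [Algebra R A] {t : A →ₗ[R] A} {n : ℕ}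
  {T : Type*} [CommRing T] [Algebra R T]

theorem conj_all (P : Piece t n T) (z : T ⊗[R] A) :
    P.σ (t.baseChange T z) * P.u = P.u * (P.σ z)ᵀ := by
  induction z using TensorProduct.induction_on with
  | zero => simp
  | add x y hx hy => rw [map_add, map_add, add_mul, hx, hy, map_add, Matrix.transpose_add, mul_add]
  | tmul s a =>
    have h1 : s ⊗ₜ[R] a = s • ((1 : T) ⊗ₜ[R] a) := by
      rw [TensorProduct.smul_tmul', smul_eq_mul, mul_one]
    have h2 : s ⊗ₜ[R] t a = s • ((1 : T) ⊗ₜ[R] t a) := by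
      rw [TensorProduct.smul_tmul', smul_eq_mul, mul_one]
    rw [LinearMap.baseChange_tmul, h1, h2, map_smul, map_smul, smul_mul_assoc, P.conj a,
      Matrix.transpose_smul, mul_smul_comm]

end ConjAll

section NoMixed

variable {R : Type*} [CommRing R] {A : Type*} [Ring A] [Algebra R A] {t : A →ₗ[R] A} {n : ℕ}
  {Ω : Type*} [CommRing Ω] [Algebra R Ω]

theorem no_mixed [Nontrivial Ω] (h2 : IsUnit (2 : Ω)) (ht : IsInvol t) (hn : 0 < n)
    (hEven : Even n) (P₁ : Piece t n Ω) (h₁ : P₁.u = 1) (P₂ : Piece t n Ω)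
    (h₂ : P₂.u = stdAlt n Ω) : False := by
  classical
  let M := Ω ⊗[R] A
  let τ : M →ₗ[Ω] M := t.baseChange Ω
  have hτ2 : ∀ x, τ (τ x) = x := (ht.baseChange Ω).invol
  have hne : (1 : Ω) ≠ -1 := by
    intro h
    have h0 : (2 : Ω) = 0 := by
      have : (1 : Ω) + 1 = 0 := by nth_rewrite 2 [h]; simp
      rw [← this]; norm_num
    rw [h0] at h2
    exact not_isUnit_zero h2
  -- first basis
  let b₁ : Module.Basis (Fin n × Fin n) Ω M :=
    (Matrix.stdBasis Ω (Fin n) (Fin n)).map P₁.σ.symm.toLinearEquiv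
  have hb₁ : ∀ p : Fin n × Fin n, P₁.σ (b₁ p) = Matrix.single p.1 p.2 (1 : Ω) := by
    intro p
    simp only [b₁, Module.Basis.map_apply, AlgEquiv.toLinearEquiv_apply,
      AlgEquiv.apply_symm_apply]
    rcases p with ⟨i, j⟩
    exact Matrix.stdBasis_eq_single Ω i j
  have hτ₁ : ∀ p, τ (b₁ p) = (1 : Ω) • b₁ (Prod.swap p) := by
    intro p
    apply P₁.σ.injective
    have := conj_all P₁ (b₁ p)
    rw [h₁, mul_one, one_mul, hb₁] at this
    rw [one_smul, hb₁]
    rw [this]
    ext a c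
    simp [Matrix.single_apply, and_comm]
  -- second basis
  let b₂ : Module.Basis (Fin n × Fin n) Ω M :=
    (Matrix.stdBasis Ω (Fin n) (Fin n)).map P₂.σ.symm.toLinearEquiv
  have hb₂ : ∀ p : Fin n × Fin n, P₂.σ (b₂ p) = Matrix.single p.1 p.2 (1 : Ω) := by
    intro p
    simp only [b₂, Module.Basis.map_apply, AlgEquiv.toLinearEquiv_apply,
      AlgEquiv.apply_symm_apply]
    rcases p with ⟨i, j⟩
    exact Matrix.stdBasis_eq_single Ω i j
  let J := stdAlt n Ω
  have hJJ : J * J = -1 := stdAlt_mul_self Ω hEven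
  let σ₂ : Fin n × Fin n → Fin n × Fin n := fun p => (partner n p.2, partner n p.1)
  let ε₂ : Fin n × Fin n → Ω := fun p => rowSign n Ω p.1 * rowSign n Ω p.2
  have hτ₂ : ∀ p, τ (b₂ p) = ε₂ p • b₂ (σ₂ p) := by
    intro p
    apply P₂.σ.injective
    have h := conj_all P₂ (b₂ p)
    rw [h₂, hb₂] at h
    -- σ(τ b) = - J E_ji J
    have h3 : P₂.σ (τ (b₂ p)) = -(J * (Matrix.single p.1 p.2 (1 : Ω))ᵀ * J) := by
      have h4 : P₂.σ (τ (b₂ p)) * J * J = J * (Matrix.single p.1 p.2 (1 : Ω))ᵀ * J := by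
        rw [h]
      rw [mul_assoc, hJJ, mul_neg, mul_one] at h4
      rw [← h4, neg_neg]
    rw [h3, map_smul, hb₂]
    ext a c
    rw [Matrix.neg_apply, Matrix.smul_apply, Matrix.transpose_single, Matrix.mul_apply,
      Finset.sum_eq_single p.1]
    · rw [Matrix.mul_single_apply_same, mul_one]
      show -(stdAlt n Ω a p.2 * stdAlt n Ω p.1 c) = _
      have hs : (Matrix.single (σ₂ p).1 (σ₂ p).2 (1 : Ω)) a c =
          if a = partner n p.2 ∧ c = partner n p.1 then 1 else 0 := by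
        rw [Matrix.single_apply]
        simp only [σ₂]
        congr 1
        exact propext ⟨fun h => ⟨h.1.symm, h.2.symm⟩, fun h => ⟨h.1.symm, h.2.symm⟩⟩
      rw [stdAlt_apply Ω hEven a, stdAlt_apply Ω hEven p.1, hs, smul_eq_mul]
      by_cases ha : a = partner n p.2
      · have ha' : p.2 = partner n a := by rw [ha, partner_partner hEven]
        rw [if_pos ha']
        by_cases hc : c = partner n p.1
        · rw [if_pos hc, if_pos ⟨ha, hc⟩, ha, rowSign_partner Ω hEven]
          simp only [ε₂]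
          ring
        · rw [if_neg hc, if_neg (fun h : a = partner n p.2 ∧ c = partner n p.1 => hc h.2)]
          simp
      · have ha' : ¬ p.2 = partner n a := fun h => ha (by rw [h, partner_partner hEven])
        rw [if_neg ha', if_neg (fun h : a = partner n p.2 ∧ c = partner n p.1 => ha h.1)]
        simp
    · intro x _ hx
      rw [Matrix.mul_single_apply_of_ne _ _ _ _ _ hx, zero_mul]
    · intro h; exact absurd (Finset.mem_univ _) h
  have key := Groth.Agent.S17360.sig_le h2 τ hτ2 b₁ Prod.swap (fun _ => 1)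
    (fun p => Prod.swap_swap p) (fun _ => Or.inl rfl) hτ₁ b₂ σ₂ ε₂ ?_ ?_ hτ₂
  · have e1 : 0 < Nat.card {i : Fin n × Fin n // Prod.swap i = i ∧ (fun _ => (1 : Ω)) i = 1} := by
      haveI : Nonempty {i : Fin n × Fin n // Prod.swap i = i ∧ (fun _ => (1 : Ω)) i = 1} :=
        ⟨⟨(⟨0, hn⟩, ⟨0, hn⟩), rfl, rfl⟩⟩
      exact Nat.card_pos
    have e3 : Nat.card {i : Fin n × Fin n // Prod.swap i = i ∧ (fun _ => (1 : Ω)) i = -1} = 0 := by
      haveI : IsEmpty {i : Fin n × Fin n // Prod.swap i = i ∧ (fun _ => (1 : Ω)) i = -1} :=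
        ⟨fun x => hne x.2.2⟩
      exact Nat.card_of_isEmpty
    have e4 : Nat.card {j : Fin n × Fin n // σ₂ j = j ∧ ε₂ j = 1} = 0 := by
      haveI : IsEmpty {j : Fin n × Fin n // σ₂ j = j ∧ ε₂ j = 1} := by
        refine ⟨fun x => ?_⟩
        obtain ⟨⟨i, j⟩, hx1, hx2⟩ := x
        simp only [σ₂, Prod.mk.injEq] at hx1
        simp only [ε₂] at hx2
        rw [← hx1.1, rowSign_partner Ω hEven] at hx2
        have h5 : rowSign n Ω j * rowSign n Ω j = 1 := by
          by_cases hj : Even j.val <;> simp [rowSign, hj]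
        rw [neg_mul, h5] at hx2
        exact hne hx2.symm
      exact Nat.card_of_isEmpty
    rw [e3, e4] at key
    beta_reduce at e1 key
    omega
  · intro p
    simp only [σ₂, partner_partner hEven]
  · intro p
    simp only [ε₂, rowSign]
    split_ifs <;> simp

end NoMixed

section NontrivialTensor

variable {R : Type*} [CommRing R] {T₁ T₂ : Type*} [CommRing T₁] [CommRing T₂] [Algebra R T₁]
  [Algebra R T₂]

theorem nontrivial_tensor [Module.Flat R T₁] (Q₁ : Ideal T₁) [Q₁.IsPrime] (Q₂ : Ideal T₂)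
    [Q₂.IsPrime] (h : Q₁.comap (algebraMap R T₁) = Q₂.comap (algebraMap R T₂)) :
    Nontrivial (T₁ ⊗[R] T₂) := by
  let q : Ideal R := Q₂.comap (algebraMap R T₂)
  let ψ : (R ⧸ q) →ₐ[R] (T₂ ⧸ Q₂) := Ideal.Quotient.liftₐ q (Algebra.ofId R (T₂ ⧸ Q₂)) (by
    intro a ha
    rw [Algebra.ofId_apply, IsScalarTower.algebraMap_apply R T₂ (T₂ ⧸ Q₂),
      Ideal.Quotient.algebraMap_eq, Ideal.Quotient.eq_zero_iff_mem]
    exact ha)
  have hψ : Function.Injective ψ.toLinearMap := by
    rw [← LinearMap.ker_eq_bot, LinearMap.ker_eq_bot']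
    intro x hx
    obtain ⟨r, rfl⟩ := Ideal.Quotient.mk_surjective x
    have h1 : ψ (Ideal.Quotient.mk q r) = algebraMap R (T₂ ⧸ Q₂) r := by
      simp [ψ, Algebra.ofId_apply]
    have h2 : algebraMap R (T₂ ⧸ Q₂) r = 0 := by rw [← h1]; exact hx
    rw [IsScalarTower.algebraMap_apply R T₂ (T₂ ⧸ Q₂), Ideal.Quotient.algebraMap_eq,
      Ideal.Quotient.eq_zero_iff_mem] at h2
    exact Ideal.Quotient.eq_zero_iff_mem.2 h2
  have hinj := Module.Flat.lTensor_preserves_injective_linearMap (M := T₁) ψ.toLinearMap hψ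
  haveI : Nontrivial (T₁ ⊗[R] (R ⧸ q)) := by
    have hlt : q • (⊤ : Submodule R T₁) < ⊤ := by
      rw [lt_top_iff_ne_top]
      intro htop
      have hle : q • (⊤ : Submodule R T₁) ≤ Q₁.restrictScalars R := by
        rw [Submodule.smul_le]
        intro r hr m _
        show r • m ∈ Q₁
        rw [Algebra.smul_def]
        refine Q₁.mul_mem_right _ ?_
        have : r ∈ Q₁.comap (algebraMap R T₁) := by rw [h]; exact hr
        exact this
      rw [htop] at hle
      have : (1 : T₁) ∈ Q₁ := hle Submodule.mem_top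
      exact (Ideal.IsPrime.ne_top inferInstance) ((Ideal.eq_top_iff_one _).2 this)
    haveI : Nontrivial (T₁ ⧸ (q • (⊤ : Submodule R T₁))) :=
      Submodule.Quotient.nontrivial_iff.2 hlt.ne
    exact (TensorProduct.tensorQuotEquivQuotSMul T₁ q).toEquiv.nontrivial
  haveI : Nontrivial (T₁ ⊗[R] (T₂ ⧸ Q₂)) := hinj.nontrivial
  have hsurj : Function.Surjective ((Ideal.Quotient.mkₐ R Q₂).toLinearMap.lTensor T₁) :=
    LinearMap.lTensor_surjective T₁ (Ideal.Quotient.mkₐ_surjective R Q₂)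
  exact hsurj.nontrivial

end NontrivialTensor

section PiPiece

open Groth.Agent.Lib.R2LeadAzGlobalSplit

variable {R : Type*} [CommRing R] {A : Type*} [Ring A] [Algebra R A] {t : A →ₗ[R] A} {n : ℕ}
  {ι : Type*} [Fintype ι] [DecidableEq ι] (S : ι → Type*) [∀ i, CommRing (S i)]
  [∀ i, Algebra R (S i)]

theorem matrix_pi_ext {M N : Matrix (Fin n) (Fin n) (∀ i, S i)}
    (h : ∀ i, M.map (Pi.evalRingHom S i) = N.map (Pi.evalRingHom S i)) : M = N := by
  ext x y i
  have := congrFun (congrFun (h i) x) y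
  simpa using this

theorem piSplit_one_tmul_map (σ : ∀ i, (S i ⊗[R] A) ≃ₐ[S i] Matrix (Fin n) (Fin n) (S i))
    (a : A) (i : ι) :
    (piSplit S σ ((1 : ∀ i, S i) ⊗ₜ[R] a)).map (Pi.evalRingHom S i) = σ i ((1 : S i) ⊗ₜ[R] a) := by
  ext x y
  show piSplitHom S σ ((1 : ∀ i, S i) ⊗ₜ[R] a) x y i = _
  rw [piSplitHom_eq, matPi_apply]
  have h1 : TensorProduct.piLeft R A S ((1 : ∀ i, S i) ⊗ₜ[R] a) i = (1 : S i) ⊗ₜ[R] a := by
    simp [TensorProduct.piLeft]
  rw [h1]

/-- the product of pieces -/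
noncomputable def piPiece (P : ∀ i, Piece t n (S i)) : Piece t n (∀ i, S i) where
  σ := piSplit S (fun i => (P i).σ)
  u := matPi S n (fun i => (P i).u)
  hu := by
    rw [Pi.isUnit_iff]
    intro i
    have h1 : (matPi S n (fun i => (P i).u)).det i =
        ((matPi S n (fun i => (P i).u)).map (Pi.evalRingHom S i)).det :=
      RingHom.map_det (Pi.evalRingHom S i) _
    have h2 : (matPi S n (fun i => (P i).u)).map (Pi.evalRingHom S i) = (P i).u := by
      ext x y; rfl
    rw [h1, h2]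
    exact (P i).hu
  conj := by
    intro a
    apply matrix_pi_ext
    intro i
    rw [Matrix.map_mul, Matrix.map_mul, Matrix.transpose_map, piSplit_one_tmul_map,
      piSplit_one_tmul_map]
    have h2 : (matPi S n (fun i => (P i).u)).map (Pi.evalRingHom S i) = (P i).u := by
      ext x y; rfl
    rw [h2]
    exact (P i).conj a

theorem piPiece_u (P : ∀ i, Piece t n (S i)) :
    (piPiece S P).u = matPi S n (fun i => (P i).u) := rfl

end PiPiece

section Global

open Groth.Agent.Lib.R2LeadAzGlobalSplit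

variable {R : Type u} [CommRing R] {A : Type u} [Ring A] [Algebra R A] {t : A →ₗ[R] A} {n : ℕ}

theorem smul_top_ne_top_of_prime {T : Type*} [CommRing T] [Algebra R T] (Q : Ideal T) [Q.IsPrime]
    (m : Ideal R) (h : Q.comap (algebraMap R T) = m) : m • (⊤ : Submodule R T) ≠ ⊤ := by
  intro htop
  have hle : m • (⊤ : Submodule R T) ≤ Q.restrictScalars R := by
    rw [Submodule.smul_le]
    intro r hr x _
    show r • x ∈ Q
    rw [Algebra.smul_def]
    refine Q.mul_mem_right _ ?_
    have : r ∈ Q.comap (algebraMap R T) := by rw [h]; exact hr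
    exact this
  rw [htop] at hle
  have : (1 : T) ∈ Q := hle Submodule.mem_top
  exact (Ideal.IsPrime.ne_top inferInstance) ((Ideal.eq_top_iff_one _).2 this)

theorem exists_global_piece [ConnectedSpace (PrimeSpectrum R)] [IsAzumaya R A]
    (ht : IsInvol t) (h2 : IsUnit (2 : R)) (hn : 0 < n)
    (hrk : ∀ p : PrimeSpectrum R, Module.rankAtStalk (R := R) A p = n ^ 2) :
    ∃ (T : Type u) (_ : CommRing T) (_ : Algebra R T), Algebra.Etale R T ∧
      Module.FaithfullyFlat R T ∧
      ((∃ P : Piece t n T, P.u = 1) ∨ (Even n ∧ ∃ P : Piece t n T, P.u = stdAlt n T)) := by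
  classical
  have hloc : ∀ p : PrimeSpectrum R, Concl t n p.asIdeal :=
    fun p => exists_local_piece ht h2 hn hrk p.asIdeal
  simp only [Concl] at hloc
  choose T i1 i2 het hQ hsign using hloc
  choose Q hQp hQc using hQ
  let V : PrimeSpectrum R → Set (PrimeSpectrum R) :=
    fun p => Set.range (PrimeSpectrum.comap (algebraMap R (T p)))
  have hVopen : ∀ p, IsOpen (V p) := fun p =>
    (PrimeSpectrum.isOpenMap_comap_of_hasGoingDown_of_finitePresentation
      (R := R) (S := T p)).isOpen_range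
  have hpV : ∀ p, p ∈ V p := fun p => ⟨⟨Q p, hQp p⟩, PrimeSpectrum.ext (hQc p)⟩
  let plus : PrimeSpectrum R → Prop := fun p => ∃ P : Piece t n (T p), P.u = 1
  let minus : PrimeSpectrum R → Prop :=
    fun p => Even n ∧ ∃ P : Piece t n (T p), P.u = stdAlt n (T p)
  have hpm : ∀ p, plus p ∨ minus p := hsign
  -- a plus piece and a minus piece cannot meet
  have hC : ∀ p p', plus p → minus p' → Disjoint (V p) (V p') := by
    intro p p' ⟨P₁, h₁⟩ ⟨hEven, P₂, h₂⟩
    rw [Set.disjoint_left]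
    rintro q ⟨Q₁, hQ₁⟩ ⟨Q₂, hQ₂⟩
    have hcomap : Q₁.asIdeal.comap (algebraMap R (T p)) =
        Q₂.asIdeal.comap (algebraMap R (T p')) := by
      have e1 := congrArg PrimeSpectrum.asIdeal hQ₁
      have e2 := congrArg PrimeSpectrum.asIdeal hQ₂
      exact e1.trans e2.symm
    haveI := nontrivial_tensor Q₁.asIdeal Q₂.asIdeal hcomap
    let Ω := T p ⊗[R] T p'
    have h2Ω : IsUnit (2 : Ω) := isUnit_two_of h2 Ω
    let g₁ : T p →ₐ[R] Ω := Algebra.TensorProduct.includeLeft
    let g₂ : T p' →ₐ[R] Ω := Algebra.TensorProduct.includeRight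
    refine no_mixed h2Ω ht hn hEven (P₁.map g₁) ?_ (P₂.map g₂) ?_
    · show P₁.u.map g₁ = 1
      rw [h₁, Matrix.map_one _ (map_zero g₁) (map_one g₁)]
    · show P₂.u.map g₂ = stdAlt n Ω
      rw [h₂]
      exact stdAlt_map (T p') (g₂ : T p' →+* Ω)
  -- by connectedness the sign is constant
  have hconst : (∀ p, plus p) ∨ (∀ p, minus p) := by
    by_contra hcon
    push_neg at hcon
    obtain ⟨⟨p₁, hp₁⟩, ⟨p₂, hp₂⟩⟩ := hcon
    have hm₁ : minus p₁ := (hpm p₁).resolve_left hp₁
    have hp₂' : plus p₂ := (hpm p₂).resolve_right hp₂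
    let Up : Set (PrimeSpectrum R) := ⋃ p ∈ {p | plus p}, V p
    let Um : Set (PrimeSpectrum R) := ⋃ p ∈ {p | minus p}, V p
    have hUp : IsOpen Up := isOpen_biUnion (fun p _ => hVopen p)
    have hUm : IsOpen Um := isOpen_biUnion (fun p _ => hVopen p)
    have hcover : (Set.univ : Set (PrimeSpectrum R)) ⊆ Up ∪ Um := by
      intro p _
      rcases hpm p with h | h
      · exact Or.inl (Set.mem_biUnion (show p ∈ {p | plus p} from h) (hpV p))
      · exact Or.inr (Set.mem_biUnion (show p ∈ {p | minus p} from h) (hpV p))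
    have h1 : (Set.univ ∩ Up).Nonempty :=
      ⟨p₂, Set.mem_univ _, Set.mem_biUnion (show p₂ ∈ {p | plus p} from hp₂') (hpV p₂)⟩
    have h3 : (Set.univ ∩ Um).Nonempty :=
      ⟨p₁, Set.mem_univ _, Set.mem_biUnion (show p₁ ∈ {p | minus p} from hm₁) (hpV p₁)⟩
    obtain ⟨q, -, hq1, hq2⟩ := isPreconnected_univ Up Um hUp hUm hcover h1 h3
    simp only [Up, Um, Set.mem_iUnion, Set.mem_setOf_eq] at hq1 hq2
    obtain ⟨p, hp, hqp⟩ := hq1
    obtain ⟨p', hp', hqp'⟩ := hq2
    exact Set.disjoint_left.1 (hC p p' hp hp') hqp hqp'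
  -- a finite subcover
  obtain ⟨s, hs⟩ := isCompact_univ.elim_finite_subcover V hVopen (fun p _ =>
    Set.mem_iUnion.2 ⟨p, hpV p⟩)
  let ι := {p : PrimeSpectrum R // p ∈ s}
  let S : ι → Type u := fun i => T i.1
  haveI : ∀ i : ι, Algebra.Etale R (S i) := fun i => het i.1
  haveI : ∀ i : ι, Module.Flat R (S i) := fun i => inferInstance
  have hff : Module.FaithfullyFlat R (∀ i, S i) := by
    apply pi_faithfullyFlat
    intro m hm
    have hmem : (⟨m, hm.isPrime⟩ : PrimeSpectrum R) ∈ ⋃ p ∈ s, V p := hs (Set.mem_univ _)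
    simp only [Set.mem_iUnion] at hmem
    obtain ⟨p, hps, Q', hQ'⟩ := hmem
    refine ⟨⟨p, hps⟩, ?_⟩
    haveI := Q'.isPrime
    exact smul_top_ne_top_of_prime Q'.asIdeal m (congrArg PrimeSpectrum.asIdeal hQ')
  refine ⟨∀ i, S i, inferInstance, inferInstance, inferInstance, hff, ?_⟩
  rcases hconst with hall | hall
  · left
    choose P hP using hall
    refine ⟨piPiece S (fun i => P i.1), ?_⟩
    rw [piPiece_u]
    ext x y i
    rw [matPi_apply, hP i.1]
    simp [Matrix.one_apply]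
    split_ifs <;> rfl
  · right
    have hEven : Even n := by
      obtain ⟨p⟩ : Nonempty (PrimeSpectrum R) := inferInstance
      exact (hall p).1
    refine ⟨hEven, ?_⟩
    choose P hP using fun p => (hall p).2
    refine ⟨piPiece S (fun i => P i.1), ?_⟩
    rw [piPiece_u]
    ext x y i
    rw [matPi_apply, hP i.1]
    simp only [stdAlt, Matrix.of_apply]
    split_ifs <;> simp

end Global

end Groth.Agent.Lib.R2LeadInvGlobal
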