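import Mathlib
import Groth.Agent.Lib.R2LeadAzFixFibre
import Groth.Agent.Lib.R2LeadAzGlobalSplit
import Groth.Agent.Lib.R2LeadInvGlobal

/-!
# Azumaya algebras over a ring with involution are split étale locally on the fixed ring (lead)
-/

set_option autoImplicit false
set_option linter.style.haveILetI false
set_option linter.unusedSectionVars false

namespace Groth.Agent.Lib.R2LeadAzFixMain

open TensorProduct
open Groth.Agent.Lib.R2LeadAzFixBase Groth.Agent.Lib.R2LeadAzFixFibre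
open Groth.Agent.Lib.R2LeadAzGlobalSplit (piSplit pi_faithfullyFlat)

universe u v w

section WithInst

attribute [local instance] Algebra.TensorProduct.rightAlgebra

section PiTensor

variable (S : Type u) (R : Type v) [CommRing S] [CommRing R] [Algebra S R]
  {ι : Type*} [Fintype ι] [DecidableEq ι] (T : ι → Type*) [∀ i, CommRing (T i)]
  [∀ i, Algebra S (T i)]

/-- the components of the canonical map `(Π T i) ⊗ R → Π (T i ⊗ R)`, as `R`-algebra maps -/
noncomputable def chiComp (i : ι) : ((∀ i, T i) ⊗[S] R) →ₐ[R] (T i ⊗[S] R) :=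
  { toRingHom := (Algebra.TensorProduct.map (Pi.evalAlgHom S T i) (AlgHom.id S R)).toRingHom
    commutes' := fun r => by
      show Algebra.TensorProduct.map (Pi.evalAlgHom S T i) (AlgHom.id S R)
        ((1 : ∀ i, T i) ⊗ₜ[S] r) = (1 : T i) ⊗ₜ[S] r
      rw [Algebra.TensorProduct.map_tmul, map_one]
      rfl }

/-- the canonical map `(Π T i) ⊗ R → Π (T i ⊗ R)` -/
noncomputable def chi : ((∀ i, T i) ⊗[S] R) →ₐ[R] (∀ i, T i ⊗[S] R) :=
  AlgHom.pi (fun i => chiComp S R T i)

theorem chi_eq (z : (∀ i, T i) ⊗[S] R) : chi S R T z = TensorProduct.piLeft S R T z := by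
  induction z using TensorProduct.induction_on with
  | zero => simp
  | add x y hx hy => rw [map_add, map_add, hx, hy]
  | tmul f r =>
    funext i
    have h1 : TensorProduct.piLeft S R T (f ⊗ₜ[S] r) i = f i ⊗ₜ[S] r := by
      simp [TensorProduct.piLeft]
    rw [h1]
    rfl

theorem chi_bijective : Function.Bijective (chi S R T) := by
  have : (chi S R T : ((∀ i, T i) ⊗[S] R) → (∀ i, T i ⊗[S] R)) =
      (TensorProduct.piLeft S R T : ((∀ i, T i) ⊗[S] R) → (∀ i, T i ⊗[S] R)) :=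
    funext (chi_eq S R T)
  rw [this]
  exact (TensorProduct.piLeft S R T).bijective

end PiTensor

section Global

variable {S : Type u} {R : Type v} [CommRing S] [CommRing R] [Algebra S R]
  {A : Type w} [Ring A] [Algebra R A] {n : ℕ} (h : Setup S R A n)

include h in
theorem exists_global :
    ∃ (S' : Type u) (_ : CommRing S') (_ : Algebra S S') (_ : Algebra.Etale S S')
      (_ : Module.FaithfullyFlat S S'), SplitsOver R A n (S' ⊗[S] R) := by
  classical
  have hloc : ∀ q : PrimeSpectrum S, LocSplit S R A n q.asIdeal := fun q => locSplit h q.asIdeal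
  simp only [LocSplit] at hloc
  choose T i1 i2 het Q hQp hQc hsplit using hloc
  let V : PrimeSpectrum S → Set (PrimeSpectrum S) :=
    fun q => Set.range (PrimeSpectrum.comap (algebraMap S (T q)))
  have hVopen : ∀ q, IsOpen (V q) := fun q =>
    (PrimeSpectrum.isOpenMap_comap_of_hasGoingDown_of_finitePresentation
      (R := S) (S := T q)).isOpen_range
  have hqV : ∀ q, q ∈ V q := fun q => ⟨⟨Q q, hQp q⟩, PrimeSpectrum.ext (hQc q)⟩
  obtain ⟨s, hs⟩ := isCompact_univ.elim_finite_subcover V hVopen (fun q _ =>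
    Set.mem_iUnion.2 ⟨q, hqV q⟩)
  let ι := {q : PrimeSpectrum S // q ∈ s}
  let T' : ι → Type u := fun i => T i.1
  haveI : ∀ i : ι, Algebra.Etale S (T' i) := fun i => het i.1
  haveI : ∀ i : ι, Module.Flat S (T' i) := fun i => inferInstance
  have hff : Module.FaithfullyFlat S (∀ i, T' i) := by
    apply pi_faithfullyFlat
    intro m hm
    have hmem : (⟨m, hm.isPrime⟩ : PrimeSpectrum S) ∈ ⋃ q ∈ s, V q := hs (Set.mem_univ _)
    simp only [Set.mem_iUnion] at hmem
    obtain ⟨q, hqs, Q', hQ'⟩ := hmem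
    refine ⟨⟨q, hqs⟩, ?_⟩
    haveI := Q'.isPrime
    exact Groth.Agent.Lib.R2LeadInvGlobal.smul_top_ne_top_of_prime Q'.asIdeal m
      (congrArg PrimeSpectrum.asIdeal hQ')
  refine ⟨∀ i, T' i, inferInstance, inferInstance, inferInstance, hff, ?_⟩
  have hσ : ∀ i : ι, Nonempty (((T' i ⊗[S] R) ⊗[R] A) ≃ₐ[T' i ⊗[S] R]
      Matrix (Fin n) (Fin n) (T' i ⊗[S] R)) := fun i => hsplit i.1
  let σ : ∀ i : ι, ((T' i ⊗[S] R) ⊗[R] A) ≃ₐ[T' i ⊗[S] R]
      Matrix (Fin n) (Fin n) (T' i ⊗[S] R) := fun i => (hσ i).some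
  have h1 : SplitsOver R A n (∀ i, T' i ⊗[S] R) := ⟨piSplit (fun i => T' i ⊗[S] R) σ⟩
  exact h1.map (AlgEquiv.ofBijective (chi S R T') (chi_bijective S R T')).symm.toAlgHom

end Global

section Can

variable (S : Type u) (R : Type v) [CommRing S] [CommRing R] [Algebra S R]
  (A : Type w) [Ring A] [Algebra S A] [Algebra R A] [IsScalarTower S R A]
  (S' : Type u) [CommRing S'] [Algebra S S']

/-- `S' ⊗_S A ≃ (S' ⊗_S R) ⊗_R A` -/
noncomputable def can : S' ⊗[S] A ≃ₐ[S'] (S' ⊗[S] R) ⊗[R] A :=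
  Algebra.TensorProduct.algEquivOfLinearEquivTensorProduct
    (Algebra.IsPushout.cancelBaseChange S S' R (S' ⊗[S] R) A).symm
    (fun a₁ a₂ b₁ b₂ => by
      simp only [Algebra.IsPushout.cancelBaseChange_symm_tmul,
        Algebra.TensorProduct.tmul_mul_tmul, map_mul])
    (by
      simp only [Algebra.IsPushout.cancelBaseChange_symm_tmul, map_one]
      rfl)

theorem can_tmul (s' : S') (a : A) :
    can S R A S' (s' ⊗ₜ[S] a) = (s' ⊗ₜ[S] (1 : R)) ⊗ₜ[R] a := by
  show (Algebra.IsPushout.cancelBaseChange S S' R (S' ⊗[S] R) A).symm (s' ⊗ₜ[S] a) = _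
  rw [Algebra.IsPushout.cancelBaseChange_symm_tmul]
  rfl

end Can

section Final

theorem main (S : Type u) (R : Type v) [CommRing S] [CommRing R] [Algebra S R]
    (lam : R ≃ₐ[S] R) (hlam : ∀ r, lam (lam r) = r) (hfix : RInv.IsFixedRing S R lam.toRingEquiv)
    (A : Type w) [Ring A] [Algebra S A] [Algebra R A] [IsScalarTower S R A]
    (n : ℕ) (hn : 0 < n) (hA : AzInv.IsAzumayaDeg R A n) :
    ∃ (S' : Type u) (_ : CommRing S') (_ : Algebra S S') (_ : Algebra.Etale S S')
      (_ : Module.FaithfullyFlat S S') (f : S' ⊗[S] A ≃ₐ[S'] Matrix (Fin n) (Fin n) (S' ⊗[S] R)),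
      ∀ (r : R) (x : S' ⊗[S] A),
        f (((1 : S') ⊗ₜ[S] algebraMap R A r) * x) =
          Matrix.scalar (Fin n) ((1 : S') ⊗ₜ[S] r) * f x := by
  let h : Setup S R A n := ⟨lam, hlam, hfix, hA.1, hA.2, hn⟩
  obtain ⟨S', _, _, _, hff, ⟨σ⟩⟩ := exists_global h
  refine ⟨S', inferInstance, inferInstance, inferInstance, hff,
    (can S R A S').trans (σ.restrictScalars S'), ?_⟩
  intro r x
  rw [map_mul]
  congr 1
  show σ (can S R A S' ((1 : S') ⊗ₜ[S] algebraMap R A r)) = _
  rw [can_tmul]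
  have h1 : ((1 : S') ⊗ₜ[S] (1 : R)) ⊗ₜ[R] (algebraMap R A r) =
      algebraMap (S' ⊗[S] R) ((S' ⊗[S] R) ⊗[R] A) ((1 : S') ⊗ₜ[S] r) := by
    rw [Algebra.algebraMap_eq_smul_one r, TensorProduct.tmul_smul, TensorProduct.smul_tmul',
      Algebra.TensorProduct.algebraMap_apply, Algebra.smul_def]
    congr 1
    show ((1 : S') ⊗ₜ[S] r) * ((1 : S') ⊗ₜ[S] (1 : R)) = _
    rw [Algebra.TensorProduct.tmul_mul_tmul, one_mul, mul_one]
    rfl
  rw [h1, σ.commutes, Matrix.algebraMap_eq_diagonal, Matrix.scalar_apply]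
  rfl

end Final

end WithInst

end Groth.Agent.Lib.R2LeadAzFixMain
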