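import Mathlib
import Groth.Prelude.Def_AzInv
import Groth.Prelude.Def_W4c2azumayainvolQEt
import Groth.Agent.Lib.R2H7InvolHensel
import Groth.Agent.Lib.R2LeadAzGlobalSplit

/-!
# Automorphisms of Azumaya algebras: the module `I_ψ` and local innerness (lead)

For an Azumaya `R`-algebra `A` and `ψ ∈ Aut_R(A)` we produce, for every prime `𝔭` of `R`,
elements `c ∈ A` with `ψ a * c = c * a` together with data making `c` invertible near `𝔭`.
-/

set_option autoImplicit false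

namespace Groth.Agent.Lib.R2LeadAzInner

open TensorProduct MulOpposite Module LinearMap

section Dual

variable {R : Type*} [CommRing R] {V : Type*} [AddCommGroup V] [Module R V] [Module.Finite R V]
  [Module.Projective R V]

theorem mem_smul_top_of_forall_dual (I : Ideal R) (x : V) (h : ∀ d : V →ₗ[R] R, d x ∈ I) :
    x ∈ I • (⊤ : Submodule R V) := by
  obtain ⟨n, f, g, _, _, hfg⟩ := Module.Finite.exists_comp_eq_id_of_projective R V
  have hx : x = ∑ i, (g x i) • f (Pi.single i 1) := by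
    have h1 : x = f (g x) := by
      have := LinearMap.congr_fun hfg x
      simpa using this.symm
    have h2 : g x = ∑ i, (g x i) • (Pi.single i (1 : R) : Fin n → R) := by
      ext j
      simp [Finset.sum_apply, Pi.single_apply]
    conv_lhs => rw [h1, h2]
    simp only [map_sum, map_smul]
  rw [hx]
  refine Submodule.sum_mem _ fun i _ => Submodule.smul_mem_smul ?_ trivial
  exact h ((LinearMap.proj i).comp g)

theorem exists_dual_eq_one (x : V)
    (h : ∀ m : Ideal R, m.IsMaximal → x ∉ m • (⊤ : Submodule R V)) :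
    ∃ d : V →ₗ[R] R, d x = 1 := by
  let I : Ideal R := LinearMap.range (LinearMap.applyₗ (R := R) (M := V) (M₂ := R) x)
  have hI : I = ⊤ := by
    by_contra hne
    obtain ⟨m, hm, hIm⟩ := Ideal.exists_le_maximal I hne
    apply h m hm
    apply mem_smul_top_of_forall_dual
    intro d
    apply hIm
    exact ⟨d, rfl⟩
  have h1 : (1 : R) ∈ I := hI ▸ Submodule.mem_top
  obtain ⟨d, hd⟩ := h1
  exact ⟨d, hd⟩

end Dual

section Core

variable {R : Type*} [CommRing R] {A : Type*} [Ring A] [Algebra R A] [IsAzumaya R A]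

theorem mulLeftRight_tmul_apply (a : A) (b : Aᵐᵒᵖ) (x : A) :
    AlgHom.mulLeftRight R A (a ⊗ₜ[R] b) x = a * x * b.unop := by
  simp [AlgHom.mulLeftRight_apply]

theorem one_notMem_smul_top (m : Ideal R) (hm : m.IsMaximal) :
    (1 : A) ∉ m • (⊤ : Submodule R A) := by
  intro h1
  have htop : (⊤ : Submodule R A) ≤ m • (⊤ : Submodule R A) := by
    intro x _
    have : x = LinearMap.mulLeft R x 1 := by simp
    rw [this]
    have h2 := Submodule.mem_map_of_mem (f := LinearMap.mulLeft R x) h1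
    rw [Submodule.map_smul''] at h2
    exact Submodule.smul_mono le_rfl le_top h2
  obtain ⟨r, hr, hr0⟩ := Submodule.exists_sub_one_mem_and_smul_eq_zero_of_fg_of_le_smul m
    (⊤ : Submodule R A) Module.Finite.fg_top htop
  have h3 : r • (1 : A) = 0 := hr0 1 trivial
  have h4 : r = 0 := by
    have hinj := FaithfulSMul.algebraMap_injective R A
    apply hinj
    rw [map_zero, Algebra.algebraMap_eq_smul_one, h3]
  rw [h4, zero_sub, neg_mem_iff] at hr
  exact hm.ne_top ((Ideal.eq_top_iff_one m).2 hr)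

theorem exists_v : ∃ v : A →ₗ[R] R, v 1 = 1 :=
  exists_dual_eq_one (1 : A) (fun m hm => one_notMem_smul_top m hm)

/-- central elements are scalars -/
theorem central_eq (v : A →ₗ[R] R) (hv : v 1 = 1) (z : A) (hz : ∀ x : A, z * x = x * z) :
    z = v z • (1 : A) := by
  have hinj := (IsAzumaya.bij (R := R) (A := A)).1
  have heq : (z ⊗ₜ[R] (1 : Aᵐᵒᵖ)) = ((1 : A) ⊗ₜ[R] (op z)) := by
    apply hinj
    ext x
    simp [mulLeftRight_tmul_apply, hz x]
  let χ : A ⊗[R] Aᵐᵒᵖ →ₗ[R] A :=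
    TensorProduct.lift ((LinearMap.lsmul R A).flip.compr₂ (LinearMap.id) |>.compl₂
      (v ∘ₗ (MulOpposite.opLinearEquiv R).symm.toLinearMap)).flip.flip
  have h1 : ∀ (a : A) (b : Aᵐᵒᵖ), χ (a ⊗ₜ b) = v b.unop • a := by
    intro a b; simp [χ]
  have := congrArg χ heq
  rw [h1, h1] at this
  simpa [hv] using this

variable (ψ : A ≃ₐ[R] A)

/-- `A ⊗ Aᵒᵖ ≃ End_R(A)` -/
noncomputable def Phi : A ⊗[R] Aᵐᵒᵖ ≃ₐ[R] Module.End R A :=
  AlgEquiv.ofBijective (AlgHom.mulLeftRight R A) IsAzumaya.bij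

/-- the automorphism of `End_R(A)` induced by `ψ ⊗ id` -/
noncomputable def theta : Module.End R A ≃ₐ[R] Module.End R A :=
  (Phi (R := R) (A := A)).symm.trans
    ((Algebra.TensorProduct.congr ψ (AlgEquiv.refl : Aᵐᵒᵖ ≃ₐ[R] Aᵐᵒᵖ)).trans Phi)

theorem theta_mulLeftRight (a : A) (b : Aᵐᵒᵖ) :
    theta ψ (AlgHom.mulLeftRight R A (a ⊗ₜ b)) = AlgHom.mulLeftRight R A (ψ a ⊗ₜ b) := by
  have : (Phi (R := R) (A := A)).symm (AlgHom.mulLeftRight R A (a ⊗ₜ b)) = a ⊗ₜ b :=
    (Phi (R := R) (A := A)).symm_apply_apply _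
  simp [theta, this, Phi]

variable (v : A →ₗ[R] R)

/-- `c_z = θ(p) z` for the projector `p = v ⊗ 1` -/
noncomputable def cOf : A →ₗ[R] A := theta ψ (smulRight v (1 : A))

theorem cOf_apply (z : A) : cOf ψ v z = theta ψ (smulRight v (1 : A)) z := rfl

theorem key (a b x z : A) :
    ψ a * theta ψ (smulRight v x) z * b = theta ψ (smulRight v (a * x * b)) z := by
  have h1 : smulRight v (a * x * b) =
      AlgHom.mulLeftRight R A (a ⊗ₜ op b) * smulRight v x := by
    ext y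
    simp [mulLeftRight_tmul_apply, mul_assoc]
  rw [h1, map_mul, theta_mulLeftRight, Module.End.mul_apply, mulLeftRight_tmul_apply]
  rfl

variable (hv : v 1 = 1)

theorem T_eq (x z : A) : theta ψ (smulRight v x) z = cOf ψ v z * x := by
  have := key ψ v 1 x 1 z
  simp only [map_one, one_mul] at this
  rw [cOf_apply, this]

theorem T_eq' (a z : A) : theta ψ (smulRight v a) z = ψ a * cOf ψ v z := by
  have := key ψ v a 1 1 z
  simp only [mul_one] at this
  rw [cOf_apply, this]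

theorem conj_cOf (a z : A) : ψ a * cOf ψ v z = cOf ψ v z * a := by
  rw [← T_eq' ψ v, T_eq ψ v]

theorem cOf_mul (z : A) (d : A →ₗ[R] R) :
    cOf ψ v z * ((theta ψ).symm (smulRight d (1 : A)) 1) = d (cOf ψ v z) • (1 : A) := by
  set B : Module.End R A := (theta ψ).symm (smulRight d (1 : A)) with hB
  have h1 : smulRight v (B 1) = B * smulRight v (1 : A) := by
    ext y
    simp
  rw [← T_eq ψ v, h1, map_mul, hB, AlgEquiv.apply_symm_apply, Module.End.mul_apply,
    ← cOf_apply]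
  simp

include hv in
theorem exists_notMem (p : Ideal R) [p.IsPrime] :
    ∃ (z : A) (d : A →ₗ[R] R), d (cOf ψ v z) ∉ p := by
  by_contra hcon
  push Not at hcon
  set q : Module.End R A := theta ψ (smulRight v (1 : A)) with hq
  have hpp : smulRight v (1 : A) * smulRight v (1 : A) = smulRight v (1 : A) := by
    ext y
    simp [hv]
  have hqq : q * q = q := by rw [hq, ← map_mul, hpp]
  have hrange : LinearMap.range q ≤ p • (⊤ : Submodule R A) := by
    rintro _ ⟨z, rfl⟩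
    exact mem_smul_top_of_forall_dual p _ (fun d => hcon z d)
  have hQ : LinearMap.range q ≤ p • LinearMap.range q := by
    rintro _ ⟨y, rfl⟩
    have h1 : q y = q (q y) := by rw [← Module.End.mul_apply, hqq]
    rw [h1, LinearMap.range_eq_map, ← Submodule.map_smul'']
    exact Submodule.mem_map_of_mem (hrange ⟨y, rfl⟩)
  obtain ⟨r, hr, hr0⟩ := Submodule.exists_sub_one_mem_and_smul_eq_zero_of_fg_of_le_smul p
    (LinearMap.range q) (by rw [LinearMap.range_eq_map]; exact Module.Finite.fg_top.map _) hQ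
  have h2 : r • q = 0 := by
    ext y
    exact hr0 (q y) ⟨y, rfl⟩
  have h3 : r • smulRight v (1 : A) = 0 := by
    apply (theta ψ).injective
    rw [map_smul, map_zero, ← hq, h2]
  have h4 : r • (1 : A) = 0 := by
    have := LinearMap.congr_fun h3 1
    simpa [hv] using this
  have h5 : r = 0 := by
    have hinj := FaithfulSMul.algebraMap_injective R A
    apply hinj
    rw [map_zero, Algebra.algebraMap_eq_smul_one, h4]
  rw [h5, zero_sub, neg_mem_iff] at hr
  exact (Ideal.IsPrime.ne_top inferInstance) ((Ideal.eq_top_iff_one p).2 hr)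

end Core

section Combine

variable {R : Type*} [CommRing R] {A : Type*} [Ring A] [Algebra R A] [IsAzumaya R A]
  (ψ : A ≃ₐ[R] A) (v : A →ₗ[R] R) (hv : v 1 = 1)

include hv in
theorem exists_notMem_two (p₁ p₂ : Ideal R) [p₁.IsPrime] [p₂.IsPrime] :
    ∃ (z : A) (d : A →ₗ[R] R), d (cOf ψ v z) ∉ p₁ ∧ d (cOf ψ v z) ∉ p₂ := by
  obtain ⟨z₁, d₁, h₁⟩ := exists_notMem ψ v hv p₁
  obtain ⟨z₂, d₂, h₂⟩ := exists_notMem ψ v hv p₂
  by_cases h12 : d₁ (cOf ψ v z₁) ∈ p₂
  swap
  · exact ⟨z₁, d₁, h₁, h12⟩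
  by_cases h21 : d₂ (cOf ψ v z₂) ∈ p₁
  swap
  · exact ⟨z₂, d₂, h21, h₂⟩
  obtain ⟨β₁, hβ₁⟩ : ∃ β₁, β₁ = d₁ (cOf ψ v z₁) := ⟨_, rfl⟩
  obtain ⟨β₂, hβ₂⟩ : ∃ β₂, β₂ = d₂ (cOf ψ v z₂) := ⟨_, rfl⟩
  rw [← hβ₁] at h₁ h12
  rw [← hβ₂] at h₂ h21
  have hval : (β₁ • d₁ + β₂ • d₂) (cOf ψ v (β₁ • z₁ + β₂ • z₂)) =
      β₁ ^ 3 + β₁ * β₂ * (d₁ (cOf ψ v z₂) + d₂ (cOf ψ v z₁)) + β₂ ^ 3 := by
    simp only [map_add, map_smul, LinearMap.add_apply, LinearMap.smul_apply, smul_eq_mul,
      ← hβ₁, ← hβ₂]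
    ring
  refine ⟨β₁ • z₁ + β₂ • z₂, β₁ • d₁ + β₂ • d₂, ?_, ?_⟩
  · rw [hval]
    intro hmem
    have h3 : β₁ ^ 3 ∈ p₁ := by
      have h4 : β₁ * β₂ * (d₁ (cOf ψ v z₂) + d₂ (cOf ψ v z₁)) + β₂ ^ 3 ∈ p₁ :=
        p₁.add_mem (p₁.mul_mem_right _ (p₁.mul_mem_left _ h21)) (p₁.pow_mem_of_mem h21 3 (by norm_num))
      have := p₁.sub_mem hmem h4
      convert this using 1
      ring
    exact h₁ (Ideal.IsPrime.mem_of_pow_mem inferInstance 3 h3)
  · rw [hval]
    intro hmem
    have h3 : β₂ ^ 3 ∈ p₂ := by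
      have h4 : β₁ ^ 3 + β₁ * β₂ * (d₁ (cOf ψ v z₂) + d₂ (cOf ψ v z₁)) ∈ p₂ :=
        p₂.add_mem (p₂.pow_mem_of_mem h12 3 (by norm_num))
          (p₂.mul_mem_right _ (p₂.mul_mem_right _ h12))
      have := p₂.sub_mem hmem h4
      convert this using 1
      ring
    exact h₂ (Ideal.IsPrime.mem_of_pow_mem inferInstance 3 h3)

include hv in
/-- a two-sided "inverse up to a scalar avoiding two given primes" for an element of `I_ψ` -/
theorem exists_two_sided (p₁ p₂ : Ideal R) [p₁.IsPrime] [p₂.IsPrime] :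
    ∃ (c c' : A) (G : R), (∀ a, ψ a * c = c * a) ∧ c * c' = G • (1 : A) ∧
      c' * c = G • (1 : A) ∧ G ∉ p₁ ∧ G ∉ p₂ := by
  obtain ⟨z, d, hg₁, hg₂⟩ := exists_notMem_two ψ v hv p₁ p₂
  obtain ⟨z', d', hg₁', hg₂'⟩ := exists_notMem_two ψ.symm v hv p₁ p₂
  obtain ⟨c, hc⟩ : ∃ c, c = cOf ψ v z := ⟨_, rfl⟩
  obtain ⟨c₁, hc₁⟩ : ∃ c₁, c₁ = cOf ψ.symm v z' := ⟨_, rfl⟩
  obtain ⟨y, hy⟩ : ∃ y, y = (theta ψ).symm (smulRight d (1 : A)) 1 := ⟨_, rfl⟩
  obtain ⟨y₁, hy₁⟩ : ∃ y₁, y₁ = (theta ψ.symm).symm (smulRight d' (1 : A)) 1 := ⟨_, rfl⟩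
  obtain ⟨g, hg⟩ : ∃ g, g = d c := ⟨_, rfl⟩
  obtain ⟨g₁, hg'⟩ : ∃ g₁, g₁ = d' c₁ := ⟨_, rfl⟩
  have hconj : ∀ a, ψ a * c = c * a := fun a => by rw [hc]; exact conj_cOf ψ v a z
  have hconj₁ : ∀ a, ψ.symm a * c₁ = c₁ * a := fun a => by
    rw [hc₁]; exact conj_cOf ψ.symm v a z'
  have hcy : c * y = g • (1 : A) := by rw [hc, hy, hg, hc]; exact cOf_mul ψ v z d
  have hcy₁ : c₁ * y₁ = g₁ • (1 : A) := by
    rw [hc₁, hy₁, hg', hc₁]; exact cOf_mul ψ.symm v z' d'
  rw [← hc, ← hg] at hg₁ hg₂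
  rw [← hc₁, ← hg'] at hg₁' hg₂'
  -- centrality
  have hcen : ∀ a, (c₁ * c) * a = a * (c₁ * c) := by
    intro a
    have h1 : a * c₁ = c₁ * ψ a := by
      have := hconj₁ (ψ a)
      rwa [AlgEquiv.symm_apply_apply] at this
    rw [mul_assoc, ← hconj a, ← mul_assoc, ← h1, mul_assoc]
  have hcen' : ∀ a, (c * c₁) * a = a * (c * c₁) := by
    intro a
    have h1 : a * c = c * ψ.symm a := by
      have := hconj (ψ.symm a)
      rwa [AlgEquiv.apply_symm_apply] at this
    rw [mul_assoc, ← hconj₁ a, ← mul_assoc, ← h1, mul_assoc]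
  obtain ⟨r, hr⟩ : ∃ r : R, c₁ * c = r • (1 : A) := ⟨_, central_eq v hv _ hcen⟩
  obtain ⟨r', hr'⟩ : ∃ r' : R, c * c₁ = r' • (1 : A) := ⟨_, central_eq v hv _ hcen'⟩
  obtain ⟨w, hw⟩ : ∃ w, w = v (y₁ * y) := ⟨_, rfl⟩
  have h1 : r' • y₁ = g₁ • c := by
    have : (c * c₁) * y₁ = c * (c₁ * y₁) := mul_assoc _ _ _
    rw [hr', hcy₁, smul_mul_assoc, one_mul, mul_smul_comm, mul_one] at this
    exact this
  have h2 : r' * w = g₁ * g := by
    have h3 : r' • (y₁ * y) = (g₁ * g) • (1 : A) := by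
      rw [← smul_mul_assoc, h1, smul_mul_assoc, hcy, smul_smul]
    have := congrArg v h3
    rwa [map_smul, map_smul, hv, smul_eq_mul, smul_eq_mul, mul_one, ← hw] at this
  have h4 : r * g = r' * g := by
    have h5 : r • c = r' • c := by
      have : c * (c₁ * c) = (c * c₁) * c := (mul_assoc _ _ _).symm
      rw [hr, hr', mul_smul_comm, mul_one, smul_mul_assoc, one_mul] at this
      exact this
    have h6 : (r * g) • (1 : A) = (r' * g) • (1 : A) := by
      calc (r * g) • (1 : A) = r • (c * y) := by rw [mul_smul, hcy]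
        _ = (r • c) * y := (smul_mul_assoc _ _ _).symm
        _ = (r' • c) * y := by rw [h5]
        _ = r' • (c * y) := smul_mul_assoc _ _ _
        _ = (r' * g) • (1 : A) := by rw [mul_smul, hcy]
    have := congrArg v h6
    rwa [map_smul, map_smul, hv, smul_eq_mul, smul_eq_mul, mul_one, mul_one] at this
  refine ⟨c, ((g₁ * g) * w) • c₁, (g₁ * g) ^ 2, hconj, ?_, ?_, ?_, ?_⟩
  · rw [mul_smul_comm, hr', smul_smul]
    congr 1
    rw [mul_assoc, mul_comm w r', h2]
    ring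
  · rw [smul_mul_assoc, hr, smul_smul]
    congr 1
    calc g₁ * g * w * r = g₁ * w * (r * g) := by ring
      _ = g₁ * w * (r' * g) := by rw [h4]
      _ = (g₁ * g) * (r' * w) := by ring
      _ = (g₁ * g) ^ 2 := by rw [h2]; ring
  · intro h
    have := Ideal.IsPrime.mem_of_pow_mem inferInstance 2 h
    rcases Ideal.IsPrime.mem_or_mem inferInstance this with h | h
    · exact hg₁' h
    · exact hg₁ h
  · intro h
    have := Ideal.IsPrime.mem_of_pow_mem inferInstance 2 h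
    rcases Ideal.IsPrime.mem_or_mem inferInstance this with h | h
    · exact hg₂' h
    · exact hg₂ h

end Combine

section Fixed

universe u v w

open Groth.Agent.Lib.R2LeadAzGlobalSplit (pi_faithfullyFlat smul_top_ne_top)

variable {S : Type u} {R : Type v} [CommRing S] [CommRing R] [Algebra S R]
  (lam : R ≃ₐ[S] R) (hlam : ∀ r, lam (lam r) = r) (hfix : RInv.IsFixedRing S R lam.toRingEquiv)
  {A : Type w} [Ring A] [Algebra S A] [Algebra R A] [IsScalarTower S R A] [IsAzumaya R A]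
  (ψ : A ≃ₐ[R] A)

include hlam hfix in
theorem exists_local (q : Ideal S) [q.IsPrime] :
    ∃ (c c' : A) (s : S), s ∉ q ∧ (∀ a, ψ a * c = c * a) ∧ c * c' = s • (1 : A) ∧
      c' * c = s • (1 : A) := by
  have hinv : Function.Involutive lam.toRingEquiv := hlam
  haveI : Algebra.IsIntegral S R :=
    Groth.Agent.Lib.R2H7.InvolHensel.isIntegral lam.toRingEquiv hinv hfix
  obtain ⟨p₁, -, hp₁, hp₁q⟩ := Ideal.exists_ideal_over_prime_of_isIntegral q (⊥ : Ideal R) (by
    intro x hx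
    rw [Ideal.mem_comap, Ideal.mem_bot] at hx
    have : x = 0 := hfix.1 (hx.trans (map_zero _).symm)
    rw [this]
    exact zero_mem _)
  haveI := hp₁
  let p₂ : Ideal R := p₁.comap (lam : R →+* R)
  haveI : p₂.IsPrime := Ideal.comap_isPrime _ _
  obtain ⟨v, hv⟩ := exists_v (R := R) (A := A)
  obtain ⟨c, c₀, G, hconj, h1, h2, hG₁, hG₂⟩ := exists_two_sided ψ v hv p₁ p₂
  obtain ⟨s, hs⟩ := Groth.Agent.Lib.R2H7.InvolHensel.exists_norm lam.toRingEquiv hinv hfix G
  have hs' : algebraMap S R s = G * lam G := hs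
  have hsA : s • (1 : A) = (G * lam G) • (1 : A) := by
    rw [← hs', algebraMap_smul]
  refine ⟨c, lam G • c₀, s, ?_, hconj, ?_, ?_⟩
  · intro hsq
    have hmem : algebraMap S R s ∈ p₁ := by
      rw [← hp₁q] at hsq
      exact hsq
    rw [hs'] at hmem
    rcases hp₁.mem_or_mem hmem with h | h
    · exact hG₁ h
    · exact hG₂ h
  · rw [mul_smul_comm, h1, smul_smul, hsA, mul_comm]
  · rw [smul_mul_assoc, h2, smul_smul, hsA, mul_comm]

theorem main (S : Type u) (R : Type v) [CommRing S] [CommRing R] [Algebra S R]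
    (lam : R ≃ₐ[S] R) (hlam : ∀ r, lam (lam r) = r) (hfix : RInv.IsFixedRing S R lam.toRingEquiv)
    (A : Type w) [Ring A] [Algebra S A] [Algebra R A] [IsScalarTower S R A]
    (n : ℕ) (hn : 0 < n) (hA : AzInv.IsAzumayaDeg R A n) (ψ : A ≃ₐ[R] A) :
    ∃ (S' : Type u) (_ : CommRing S') (_ : Algebra S S') (_ : Algebra.Etale S S')
      (_ : Module.FaithfullyFlat S S') (u : (S' ⊗[S] A)ˣ),
      ∀ x : S' ⊗[S] A,
        Algebra.TensorProduct.congr (AlgEquiv.refl : S' ≃ₐ[S'] S') (ψ.restrictScalars S) x =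
          ↑u * x * ↑u⁻¹ := by
  classical
  haveI := hA.1
  choose c c' s hs hconj h1 h2 using
    fun q : PrimeSpectrum S => exists_local lam hlam hfix ψ q.asIdeal
  let V : PrimeSpectrum S → Set (PrimeSpectrum S) := fun q => PrimeSpectrum.basicOpen (s q)
  have hVopen : ∀ q, IsOpen (V q) := fun q => (PrimeSpectrum.basicOpen (s q)).isOpen
  obtain ⟨t, ht⟩ := isCompact_univ.elim_finite_subcover V hVopen (fun q _ =>
    Set.mem_iUnion.2 ⟨q, hs q⟩)
  let ι := {q : PrimeSpectrum S // q ∈ t}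
  let T : ι → Type u := fun i => Localization.Away (s i.1)
  have hff : Module.FaithfullyFlat S (∀ i, T i) := by
    apply pi_faithfullyFlat
    intro m hm
    have hmem : (⟨m, hm.isPrime⟩ : PrimeSpectrum S) ∈ ⋃ q ∈ t, V q := ht (Set.mem_univ _)
    simp only [Set.mem_iUnion] at hmem
    obtain ⟨q, hqt, hq⟩ := hmem
    exact ⟨⟨q, hqt⟩, smul_top_ne_top S (R' := Localization.Away (s q)) m hm hq⟩
  let e : ι → (∀ i, T i) := fun i => Pi.single i 1
  let τ : ι → (∀ i, T i) := fun i => Pi.single i (IsLocalization.Away.invSelf (s i.1))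
  have heτ : ∀ i j, i ≠ j → e i * τ j = 0 := by
    intro i j hij
    show Pi.single i 1 * τ j = 0
    rw [← Pi.single_mul_left]
    show Pi.single i (1 * (Pi.single j (IsLocalization.Away.invSelf (s j.1)) : ∀ i, T i) i) = 0
    rw [Pi.single_eq_of_ne hij, mul_zero, Pi.single_zero]
  have hτe : ∀ i j, i ≠ j → τ i * e j = 0 := by
    intro i j hij
    rw [mul_comm]
    show Pi.single j 1 * τ i = 0
    rw [← Pi.single_mul_left]
    show Pi.single j (1 * (Pi.single i (IsLocalization.Away.invSelf (s i.1)) : ∀ i, T i) j) = 0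
    rw [Pi.single_eq_of_ne (Ne.symm hij), mul_zero, Pi.single_zero]
  have heτ' : ∀ i, e i * τ i = τ i := by
    intro i
    show Pi.single i 1 * τ i = τ i
    rw [← Pi.single_mul_left]
    show Pi.single i (1 * (Pi.single i (IsLocalization.Away.invSelf (s i.1)) : ∀ i, T i) i) = _
    rw [Pi.single_eq_same, one_mul]
  have hsτ : ∀ i : ι, s i.1 • τ i = e i := by
    intro i
    show s i.1 • Pi.single i (IsLocalization.Away.invSelf (s i.1)) = Pi.single i 1
    rw [← Pi.single_smul]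
    congr 1
    rw [Algebra.smul_def]
    exact IsLocalization.Away.mul_invSelf (s i.1)
  have hsum : ∑ i, e i = 1 := by
    show ∑ i, Pi.single i ((1 : ∀ i, T i) i) = 1
    exact Finset.univ_sum_single (1 : ∀ i, T i)
  obtain ⟨U, hU⟩ : ∃ U : (∀ i, T i) ⊗[S] A, U = ∑ i, e i ⊗ₜ[S] c i.1 := ⟨_, rfl⟩
  obtain ⟨U', hU'⟩ : ∃ U' : (∀ i, T i) ⊗[S] A, U' = ∑ i, τ i ⊗ₜ[S] c' i.1 := ⟨_, rfl⟩
  have hUU' : U * U' = 1 := by
    rw [hU, hU', Finset.sum_mul_sum]
    have : ∀ i : ι, ∑ j, (e i ⊗ₜ[S] c i.1) * (τ j ⊗ₜ[S] c' j.1) = e i ⊗ₜ[S] (1 : A) := by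
      intro i
      rw [Finset.sum_eq_single i]
      · rw [Algebra.TensorProduct.tmul_mul_tmul, heτ', h1, TensorProduct.tmul_smul,
          TensorProduct.smul_tmul', hsτ]
      · intro j _ hji
        rw [Algebra.TensorProduct.tmul_mul_tmul, heτ i j (Ne.symm hji), TensorProduct.zero_tmul]
      · intro h; exact absurd (Finset.mem_univ _) h
    rw [Finset.sum_congr rfl (fun i _ => this i), ← TensorProduct.sum_tmul, hsum]
    rfl
  have hU'U : U' * U = 1 := by
    rw [hU, hU', Finset.sum_mul_sum]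
    have : ∀ i : ι, ∑ j, (τ i ⊗ₜ[S] c' i.1) * (e j ⊗ₜ[S] c j.1) = e i ⊗ₜ[S] (1 : A) := by
      intro i
      rw [Finset.sum_eq_single i]
      · rw [Algebra.TensorProduct.tmul_mul_tmul, mul_comm, heτ', h2, TensorProduct.tmul_smul,
          TensorProduct.smul_tmul', hsτ]
      · intro j _ hji
        rw [Algebra.TensorProduct.tmul_mul_tmul, hτe i j (Ne.symm hji), TensorProduct.zero_tmul]
      · intro h; exact absurd (Finset.mem_univ _) h
    rw [Finset.sum_congr rfl (fun i _ => this i), ← TensorProduct.sum_tmul, hsum]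
    rfl
  refine ⟨∀ i, T i, inferInstance, inferInstance, inferInstance, hff, ⟨U, U', hUU', hU'U⟩, ?_⟩
  intro x
  have key : Algebra.TensorProduct.congr (AlgEquiv.refl : (∀ i, T i) ≃ₐ[∀ i, T i] (∀ i, T i))
      (ψ.restrictScalars S) x * U = U * x := by
    induction x using TensorProduct.induction_on with
    | zero => simp
    | add x y hx hy => rw [map_add, add_mul, hx, hy, mul_add]
    | tmul a b =>
      rw [Algebra.TensorProduct.congr_apply, Algebra.TensorProduct.map_tmul, hU, Finset.mul_sum,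
        Finset.sum_mul]
      refine Finset.sum_congr rfl fun i _ => ?_
      rw [Algebra.TensorProduct.tmul_mul_tmul, Algebra.TensorProduct.tmul_mul_tmul]
      have : (ψ.restrictScalars S : A →ₐ[S] A) b = ψ b := rfl
      rw [this, hconj, mul_comm]
      rfl
  show _ = U * x * U'
  rw [← key, mul_assoc, hUU', mul_one]

end Fixed

end Groth.Agent.Lib.R2LeadAzInner
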