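import Mathlib
import Groth.Agent.Lib.Helper26HenselIdem
import Groth.Agent.Lib.LeadAzumayaLocal
import Groth.Agent.Lib.LeadLocalInner
import Groth.Agent.Lib.R2LeadLGCorner
import Groth.Agent.S19587

/-!
# Lifting idempotents and isomorphisms of Azumaya algebras over a henselian local ring
-/

set_option autoImplicit false

namespace Groth.Agent.Lib.R2LeadAzLift

open IsLocalRing TensorProduct

universe u

section SmulTop

variable {R : Type*} [CommRing R] {C : Type*} [Ring C] [Algebra R C] (I : Ideal R)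

lemma mul_mem_smul_top_left (c : C) {a : C} (ha : a ∈ I • (⊤ : Submodule R C)) :
    c * a ∈ I • (⊤ : Submodule R C) := by
  refine Submodule.smul_induction_on ha (fun r hr n _ => ?_) (fun x y hx hy => ?_)
  · rw [mul_smul_comm]
    exact Submodule.smul_mem_smul hr trivial
  · rw [mul_add]
    exact Submodule.add_mem _ hx hy

lemma mul_mem_smul_top_right (c : C) {a : C} (ha : a ∈ I • (⊤ : Submodule R C)) :
    a * c ∈ I • (⊤ : Submodule R C) := by
  refine Submodule.smul_induction_on ha (fun r hr n _ => ?_) (fun x y hx hy => ?_)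
  · rw [smul_mul_assoc]
    exact Submodule.smul_mem_smul hr trivial
  · rw [add_mul]
    exact Submodule.add_mem _ hx hy

end SmulTop

section IdemLift

open scoped IsMulCommutative
open Polynomial

variable {R : Type u} [CommRing R] [HenselianLocalRing R] {C : Type u} [Ring C] [Algebra R C]
  [Module.Finite R C]

/-- an element of a commutative subalgebra lying in `𝔪 C` is nilpotent modulo `𝔪 S` -/
lemma exists_pow_mem_map (S : Subalgebra R C) [IsMulCommutative S] (s : S)
    (hs : (s : C) ∈ (maximalIdeal R) • (⊤ : Submodule R C)) :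
    ∃ N : ℕ, s ^ N ∈ Ideal.map (algebraMap R S) (maximalIdeal R) := by
  set 𝔪 := maximalIdeal R
  have hrange : LinearMap.range (LinearMap.mulLeft R (s : C)) ≤ 𝔪 • (⊤ : Submodule R C) := by
    rintro _ ⟨c, rfl⟩
    exact mul_mem_smul_top_right 𝔪 c hs
  obtain ⟨p, hmonic, -, hcoeff, hp⟩ :=
    LinearMap.exists_monic_and_natDegree_eq_and_coeff_mem_pow_and_aeval_eq_zero R
      (LinearMap.mulLeft R (s : C)) 𝔪 hrange
  have h1 : aeval (s : C) p = 0 := by
    have h2 : aeval (Algebra.lmul R C (s : C)) p = Algebra.lmul R C (aeval (s : C) p) :=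
      Polynomial.aeval_algHom_apply _ _ _
    have h3 : Algebra.lmul R C (s : C) = LinearMap.mulLeft R (s : C) := rfl
    rw [h3, hp] at h2
    have := LinearMap.congr_fun h2.symm 1
    simpa using this
  have h4 : aeval s p = 0 := by
    apply Subtype.ext
    rw [Polynomial.aeval_subalgebra_coe, h1]
    rfl
  refine ⟨p.natDegree, ?_⟩
  rw [Polynomial.aeval_eq_sum_range, Finset.sum_range_succ, hmonic.coeff_natDegree, one_smul] at h4
  have h5 : s ^ p.natDegree = - ∑ k ∈ Finset.range p.natDegree, p.coeff k • s ^ k :=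
    eq_neg_of_add_eq_zero_right h4
  rw [h5]
  refine Ideal.neg_mem_iff _ |>.mpr (Ideal.sum_mem _ fun k hk => ?_)
  rw [Algebra.smul_def]
  refine Ideal.mul_mem_right _ _ (Ideal.mem_map_of_mem _ ?_)
  have hk' : p.natDegree - k ≠ 0 := by
    have := Finset.mem_range.mp hk
    omega
  exact Ideal.pow_le_self hk' (hcoeff k)

/-- Idempotents lift from `C / 𝔪 C` to `C` for a (noncommutative) finite algebra `C` over a henselian
local ring. -/
theorem exists_idempotent_lift (x : C)
    (hx : x * x - x ∈ (maximalIdeal R) • (⊤ : Submodule R C)) :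
    ∃ e : C, IsIdempotentElem e ∧ e - x ∈ (maximalIdeal R) • (⊤ : Submodule R C) := by
  classical
  set 𝔪 := maximalIdeal R with h𝔪
  let S : Subalgebra R C := Algebra.adjoin R ({x} : Set C)
  have : Algebra.IsIntegral R S := by
    refine ⟨fun s => ?_⟩
    have h1 : IsIntegral R (s : C) := Algebra.IsIntegral.isIntegral _
    exact (isIntegral_algHom_iff S.val Subtype.val_injective).mp h1
  let IS : Ideal S :=
    { carrier := {s | (s : C) ∈ 𝔪 • (⊤ : Submodule R C)}
      add_mem' := fun {a b} ha hb => by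
        show ((a + b : S) : C) ∈ 𝔪 • (⊤ : Submodule R C)
        rw [Subalgebra.coe_add]
        exact Submodule.add_mem _ ha hb
      zero_mem' := by
        show ((0 : S) : C) ∈ 𝔪 • (⊤ : Submodule R C)
        rw [Subalgebra.coe_zero]
        exact Submodule.zero_mem _
      smul_mem' := fun c s hs => by
        show ((c • s : S) : C) ∈ 𝔪 • (⊤ : Submodule R C)
        rw [smul_eq_mul, Subalgebra.coe_mul]
        exact mul_mem_smul_top_left 𝔪 _ hs }
  have hIS : ∀ s : S, s ∈ IS ↔ (s : C) ∈ 𝔪 • (⊤ : Submodule R C) := fun s => Iff.rfl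
  let J : Ideal S := Ideal.map (algebraMap R S) 𝔪
  have hJ : J ≤ IS := by
    rw [Ideal.map_le_iff_le_comap]
    intro r hr
    rw [Ideal.mem_comap, hIS]
    have : ((algebraMap R S r : S) : C) = r • (1 : C) := by
      rw [Subalgebra.coe_algebraMap, Algebra.algebraMap_eq_smul_one]
    rw [this]
    exact Submodule.smul_mem_smul hr trivial
  let f : S ⧸ J →+* S ⧸ IS := Ideal.Quotient.factor hJ
  have hker : ∀ z ∈ RingHom.ker f, IsNilpotent z := by
    intro z hz
    obtain ⟨s, rfl⟩ := Ideal.Quotient.mk_surjective z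
    rw [RingHom.mem_ker, Ideal.Quotient.factor_mk, Ideal.Quotient.eq_zero_iff_mem, hIS] at hz
    obtain ⟨N, hN⟩ := exists_pow_mem_map S s hz
    refine ⟨N, ?_⟩
    rw [← map_pow, Ideal.Quotient.eq_zero_iff_mem]
    exact hN
  let xS : S := ⟨x, Algebra.subset_adjoin (Set.mem_singleton x)⟩
  have hxid : IsIdempotentElem (Ideal.Quotient.mk IS xS) := by
    show Ideal.Quotient.mk IS xS * Ideal.Quotient.mk IS xS = Ideal.Quotient.mk IS xS
    rw [← map_mul, Ideal.Quotient.mk_eq_mk_iff_sub_mem, hIS]
    exact hx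
  obtain ⟨e', he', hfe'⟩ := exists_isIdempotentElem_eq_of_ker_isNilpotent f hker
    (Ideal.Quotient.mk IS xS) ⟨Ideal.Quotient.mk J xS, Ideal.Quotient.factor_mk hJ xS⟩ hxid
  obtain ⟨e, he, hee'⟩ := Groth.Agent.Lib.Helper26.HenselIdem.idem_surjOn R 𝔪 S he'
  refine ⟨(e : C), ?_, ?_⟩
  · have : (e : C) * (e : C) = ((e * e : S) : C) := (Subalgebra.coe_mul _ _ _).symm
    show (e : C) * (e : C) = (e : C)
    rw [this, he.eq]
  · have h1 : Ideal.Quotient.mk IS e = Ideal.Quotient.mk IS xS := by
      rw [← hfe', ← hee', Ideal.Quotient.factor_mk]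
    rw [Ideal.Quotient.mk_eq_mk_iff_sub_mem, hIS] at h1
    exact h1

end IdemLift

section Split

variable {R : Type u} [CommRing R] [IsLocalRing R] {C : Type u} [Ring C] [Algebra R C]

/-- the left ideal `C e` as an `R`-submodule -/
def P (e : C) : Submodule R C := LinearMap.range (LinearMap.mulRight R e)

lemma mem_P {e x : C} : x ∈ P (R := R) e ↔ ∃ y, y * e = x := by
  simp [P, LinearMap.mem_range]

lemma mul_mem_P (c : C) {e x : C} (hx : x ∈ P (R := R) e) : c * x ∈ P (R := R) e := by
  obtain ⟨y, rfl⟩ := mem_P.mp hx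
  exact mem_P.mpr ⟨c * y, by rw [mul_assoc]⟩

lemma mul_idem_of_mem_P {e x : C} (he : IsIdempotentElem e) (hx : x ∈ P (R := R) e) :
    x * e = x := by
  obtain ⟨y, rfl⟩ := mem_P.mp hx
  rw [mul_assoc, he.eq]

/-- left multiplication `C → End_R(Ce)` -/
def lam (e : C) : C →ₐ[R] Module.End R (P (R := R) e) where
  toFun c := (LinearMap.mulLeft R c).restrict (fun x hx => mul_mem_P c hx)
  map_one' := by ext x; simp
  map_mul' a b := by ext x; simp [mul_assoc]
  map_zero' := by ext x; simp
  map_add' a b := by ext x; simp [add_mul]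
  commutes' r := by ext x; simp [Algebra.smul_def]

@[simp] lemma lam_apply_coe (e c : C) (x : P (R := R) e) :
    ((lam (R := R) e c x : P (R := R) e) : C) = c * (x : C) := rfl

/-- retraction `C → C e` -/
def retr (e : C) : C →ₗ[R] P (R := R) e := (LinearMap.mulRight R e).rangeRestrict

@[simp] lemma retr_apply_coe (e c : C) : ((retr (R := R) e c : P (R := R) e) : C) = c * e := rfl

lemma retr_comp_subtype {e : C} (he : IsIdempotentElem e) :
    (retr (R := R) e).comp (P (R := R) e).subtype = LinearMap.id := by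
  ext x
  simp [mul_idem_of_mem_P he x.2]

lemma subtype_comp_retr (e : C) :
    (P (R := R) e).subtype.comp (retr (R := R) e) = LinearMap.mulRight R e := by
  ext x
  simp

instance finite_P [Module.Finite R C] (e : C) : Module.Finite R (P (R := R) e) :=
  Module.Finite.range _

lemma projective_P [Module.Projective R C] {e : C} (he : IsIdempotentElem e) :
    Module.Projective R (P (R := R) e) :=
  Module.Projective.of_split _ _ (retr_comp_subtype he)


lemma free_P [Module.Finite R C] [Module.Projective R C] {e : C} (he : IsIdempotentElem e) :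
    Module.Free R (P (R := R) e) := by
  haveI := projective_P (R := R) he
  exact Module.free_of_flat_of_isLocalRing

variable {V : Type*} [AddCommGroup V] [Module (ResidueField R) V]

/-- the special fibre of `C e` is `V` when `e` reduces to a rank one projector of `End V` -/
theorem finrank_P [Module.Finite R C] [Module.Projective R C]
    (Ψ : (ResidueField R) ⊗[R] C ≃ₐ[(ResidueField R)] Module.End (ResidueField R) V) (v : V) (f : V →ₗ[(ResidueField R)] (ResidueField R))
    (hfv : f v = 1) {e : C} (he : IsIdempotentElem e)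
    (hΨ : Ψ ((1 : (ResidueField R)) ⊗ₜ[R] e) = f.smulRight v) :
    Module.finrank R (P (R := R) e) = Module.finrank (ResidueField R) V := by
  haveI := projective_P (R := R) he
  haveI : Module.Free R (P (R := R) e) := Module.free_of_flat_of_isLocalRing
  rw [← Module.finrank_baseChange (R := (ResidueField R)) (S := R) (M' := P (R := R) e)]
  let ιb : (ResidueField R) ⊗[R] P (R := R) e →ₗ[(ResidueField R)] (ResidueField R) ⊗[R] C := (P (R := R) e).subtype.baseChange (ResidueField R)
  let rb : (ResidueField R) ⊗[R] C →ₗ[(ResidueField R)] (ResidueField R) ⊗[R] P (R := R) e := (retr (R := R) e).baseChange (ResidueField R)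
  have h1 : rb.comp ιb = LinearMap.id := by
    rw [← LinearMap.baseChange_comp, retr_comp_subtype he, LinearMap.baseChange_id]
  have h2 : ιb.comp rb = LinearMap.mulRight (ResidueField R) ((1 : (ResidueField R)) ⊗ₜ[R] e) := by
    rw [← LinearMap.baseChange_comp, subtype_comp_retr]
    apply TensorProduct.AlgebraTensorModule.ext
    intro k c
    simp [Algebra.TensorProduct.tmul_mul_tmul]
  have h3 : ∀ z, ιb z * ((1 : (ResidueField R)) ⊗ₜ[R] e) = ιb z := by
    intro z
    have : ιb z = ιb (rb (ιb z)) := by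
      have := LinearMap.congr_fun h1 z
      simp only [LinearMap.comp_apply, LinearMap.id_apply] at this
      rw [this]
    conv_rhs => rw [this]
    have h4 := LinearMap.congr_fun h2 (ιb z)
    simp only [LinearMap.comp_apply, LinearMap.mulRight_apply] at h4
    exact h4.symm
  let g : (ResidueField R) ⊗[R] P (R := R) e →ₗ[(ResidueField R)] V :=
    (LinearMap.applyₗ v).comp (Ψ.toLinearMap.comp ιb)
  have hg : ∀ z, g z = Ψ (ιb z) v := fun z => rfl
  have hginj : Function.Injective g := by
    rw [← LinearMap.ker_eq_bot, LinearMap.ker_eq_bot']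
    intro z hz
    rw [hg] at hz
    have h5 : Ψ (ιb z) = 0 := by
      have h6 : Ψ (ιb z) = Ψ (ιb z) * f.smulRight v := by
        rw [← hΨ, ← map_mul, h3]
      rw [h6]
      ext y
      simp [hz]
    have h7 : ιb z = 0 := by
      have := Ψ.injective (h5.trans (map_zero Ψ).symm)
      exact this
    have := LinearMap.congr_fun h1 z
    simp only [LinearMap.comp_apply, LinearMap.id_apply] at this
    rw [← this, h7, map_zero]
  have hgsurj : Function.Surjective g := by
    intro w
    refine ⟨rb (Ψ.symm (f.smulRight w)), ?_⟩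
    rw [hg]
    have h4 := LinearMap.congr_fun h2 (Ψ.symm (f.smulRight w))
    simp only [LinearMap.comp_apply, LinearMap.mulRight_apply] at h4
    rw [h4, map_mul, hΨ, AlgEquiv.apply_symm_apply]
    simp [hfv]
  exact (LinearEquiv.ofBijective g ⟨hginj, hgsurj⟩).finrank_eq

end Split

section Split2

variable {R : Type u} [CommRing R] [IsLocalRing R] {C : Type u} [Ring C] [Algebra R C]
  [IsAzumaya R C]
variable {V : Type*} [AddCommGroup V] [Module (ResidueField R) V]
  [FiniteDimensional (ResidueField R) V]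

theorem lam_bijective
    (Ψ : (ResidueField R) ⊗[R] C ≃ₐ[ResidueField R] Module.End (ResidueField R) V) (v : V)
    (f : V →ₗ[ResidueField R] ResidueField R)
    (hfv : f v = 1) {e : C} (he : IsIdempotentElem e)
    (hΨ : Ψ ((1 : ResidueField R) ⊗ₜ[R] e) = f.smulRight v) :
    Function.Bijective (lam (R := R) e) ∧ 0 < Module.finrank R (P (R := R) e) := by
  haveI := projective_P (R := R) he
  haveI : Module.Free R (P (R := R) e) := Module.free_of_flat_of_isLocalRing
  haveI : Module.Free R C := Module.free_of_flat_of_isLocalRing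
  set n := Module.finrank (ResidueField R) V with hn
  have hv : v ≠ 0 := by
    rintro rfl
    rw [map_zero] at hfv
    exact zero_ne_one hfv
  have hnpos : 0 < n := Module.finrank_pos_iff_exists_ne_zero.mpr ⟨v, hv⟩
  have hP : Module.finrank R (P (R := R) e) = n := finrank_P Ψ v f hfv he hΨ
  have hC : Module.finrank R C = n * n := by
    rw [← Module.finrank_baseChange (R := ResidueField R) (S := R) (M' := C),
      Ψ.toLinearEquiv.finrank_eq, Module.finrank_linearMap]
  have hE : Module.finrank R (Module.End R (P (R := R) e)) = n * n := by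
    rw [Module.finrank_linearMap, hP]
  refine ⟨?_, hP ▸ hnpos⟩
  let lb : (ResidueField R) ⊗[R] C →ₐ[ResidueField R]
      (ResidueField R) ⊗[R] Module.End R (P (R := R) e) :=
    Algebra.TensorProduct.map (AlgHom.id (ResidueField R) (ResidueField R)) (lam (R := R) e)
  haveI : IsAzumaya (ResidueField R) ((ResidueField R) ⊗[R] C) :=
    Groth.Agent.Lib.LeadAzumaya.isAzumaya_baseChange (ResidueField R) C
  haveI : IsSimpleRing ((ResidueField R) ⊗[R] C) :=
    Groth.Agent.Lib.LeadAzumaya.isSimpleRing_of_isAzumaya_field (k := ResidueField R)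
  have hfrE : Module.finrank (ResidueField R)
      ((ResidueField R) ⊗[R] Module.End R (P (R := R) e)) = n * n := by
    rw [Module.finrank_baseChange, hE]
  have hfrC : Module.finrank (ResidueField R) ((ResidueField R) ⊗[R] C) = n * n := by
    rw [Module.finrank_baseChange, hC]
  haveI : Nontrivial ((ResidueField R) ⊗[R] Module.End R (P (R := R) e)) :=
    Module.nontrivial_of_finrank_pos (R := ResidueField R) (by rw [hfrE]; positivity)
  have hinj : Function.Injective lb := RingHom.injective lb.toRingHom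
  have hsurj : Function.Surjective lb :=
    (LinearMap.injective_iff_surjective_of_finrank_eq_finrank (f := lb.toLinearMap)
      (hfrC.trans hfrE.symm)).mp hinj
  have hlt : ∀ z, LinearMap.lTensor (ResidueField R) (lam (R := R) e).toLinearMap z = lb z := by
    intro z
    induction z using TensorProduct.induction_on with
    | zero => simp
    | tmul k c => simp [lb]
    | add x y hx hy => rw [map_add, map_add, hx, hy]
  have hs : Function.Surjective (lam (R := R) e).toLinearMap := by
    refine Groth.Agent.Lib.LeadAzumaya.surjective_of_lTensor_residueField_surjective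
      (M := C) (N := Module.End R (P (R := R) e)) (lam (R := R) e).toLinearMap ?_
    intro z
    obtain ⟨w, hw⟩ := hsurj z
    exact ⟨w, (hlt w).trans hw⟩
  exact OrzechProperty.bijective_of_surjective_of_injective
    (LinearEquiv.ofFinrankEq C (Module.End R (P (R := R) e)) (hC.trans hE.symm)).toLinearMap
    (lam (R := R) e).toLinearMap (LinearEquiv.injective _) hs

end Split2

section Packaged

variable {R : Type u} [CommRing R] [HenselianLocalRing R] {C : Type u} [Ring C] [Algebra R C]
  [IsAzumaya R C]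
variable {V : Type*} [AddCommGroup V] [Module (ResidueField R) V]
  [FiniteDimensional (ResidueField R) V] [Nontrivial V]

omit [HenselianLocalRing R] [IsAzumaya R C] in
lemma tmul_eq_zero_iff [IsLocalRing R] (c : C) :
    (1 : ResidueField R) ⊗ₜ[R] c = 0 ↔ c ∈ (maximalIdeal R) • (⊤ : Submodule R C) := by
  constructor
  · intro h
    letI : Module (ResidueField R) (C ⧸ ((maximalIdeal R) • ⊤ : Submodule R C)) :=
      inferInstanceAs (Module (R ⧸ maximalIdeal R) (C ⧸ (maximalIdeal R) • (⊤ : Submodule R C)))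
    letI : IsScalarTower R (ResidueField R) (C ⧸ ((maximalIdeal R) • ⊤ : Submodule R C)) :=
      inferInstanceAs (IsScalarTower R (R ⧸ maximalIdeal R)
        (C ⧸ (maximalIdeal R) • (⊤ : Submodule R C)))
    let f := TensorProduct.AlgebraTensorModule.lift
      (((LinearMap.ringLmapEquivSelf (ResidueField R) (ResidueField R) _).symm
      (Submodule.mkQ ((maximalIdeal R) • ⊤ : Submodule R C))).restrictScalars R)
    have hf : f.comp (TensorProduct.mk R (ResidueField R) C 1) =
        Submodule.mkQ ((maximalIdeal R) • ⊤) := by ext; simp [f]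
    have h2 := LinearMap.congr_fun hf c
    rw [LinearMap.comp_apply, TensorProduct.mk_apply, h, map_zero] at h2
    exact (Submodule.Quotient.mk_eq_zero _).mp h2.symm
  · intro h
    refine Submodule.smul_induction_on h (fun r hr n _ => ?_) (fun x y hx hy => ?_)
    · rw [← TensorProduct.smul_tmul, ← Algebra.algebraMap_eq_smul_one]
      have : algebraMap R (ResidueField R) r = 0 := (IsLocalRing.residue_eq_zero_iff r).mpr hr
      rw [this, TensorProduct.zero_tmul]
    · rw [TensorProduct.tmul_add, hx, hy, add_zero]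

/-- An Azumaya algebra over a henselian local ring with split special fibre is split. -/
theorem exists_split
    (Ψ : (ResidueField R) ⊗[R] C ≃ₐ[ResidueField R] Module.End (ResidueField R) V) :
    ∃ e : C, IsIdempotentElem e ∧ Function.Bijective (lam (R := R) e) ∧
      0 < Module.finrank R (P (R := R) e) := by
  obtain ⟨v, hv⟩ := exists_ne (0 : V)
  obtain ⟨f, hfv⟩ := Module.Projective.exists_dual_eq_one (ResidueField R) hv
  let ebar : Module.End (ResidueField R) V := f.smulRight v
  have hebar : ebar * ebar = ebar := by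
    ext y
    simp [ebar, hfv]
  obtain ⟨x, hx⟩ := TensorProduct.mk_surjective R C (ResidueField R)
    Ideal.Quotient.mk_surjective (Ψ.symm ebar)
  have hx' : (1 : ResidueField R) ⊗ₜ[R] x = Ψ.symm ebar := hx
  have hx2 : x * x - x ∈ (maximalIdeal R) • (⊤ : Submodule R C) := by
    rw [← tmul_eq_zero_iff, TensorProduct.tmul_sub, sub_eq_zero]
    have : (1 : ResidueField R) ⊗ₜ[R] (x * x) =
        ((1 : ResidueField R) ⊗ₜ[R] x) * ((1 : ResidueField R) ⊗ₜ[R] x) := by
      rw [Algebra.TensorProduct.tmul_mul_tmul, mul_one]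
    rw [this, hx', ← map_mul, hebar]
  obtain ⟨e, he, hex⟩ := exists_idempotent_lift x hx2
  have hex' : (1 : ResidueField R) ⊗ₜ[R] e = (1 : ResidueField R) ⊗ₜ[R] x := by
    rw [← sub_eq_zero, ← TensorProduct.tmul_sub, tmul_eq_zero_iff]
    exact hex
  have hΨ : Ψ ((1 : ResidueField R) ⊗ₜ[R] e) = f.smulRight v := by
    rw [hex', hx', AlgEquiv.apply_symm_apply]
  obtain ⟨h1, h2⟩ := lam_bijective Ψ v f hfv he hΨ
  exact ⟨e, he, h1, h2⟩

end Packaged

section OpAzumaya

open MulOpposite

variable {R : Type*} [CommRing R] {A : Type*} [Ring A] [Algebra R A]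

theorem isAzumaya_op [IsAzumaya R A] : IsAzumaya R Aᵐᵒᵖ := by
  have : Module.Projective R Aᵐᵒᵖ := Module.Projective.of_equiv (MulOpposite.opLinearEquiv R)
  have : Module.Finite R Aᵐᵒᵖ := Module.Finite.equiv (MulOpposite.opLinearEquiv R)
  have : FaithfulSMul R Aᵐᵒᵖ := by
    rw [faithfulSMul_iff_algebraMap_injective]
    intro r s h
    have h2 : algebraMap R A r = algebraMap R A s := by
      have := congrArg MulOpposite.unop h
      simpa using this
    exact FaithfulSMul.algebraMap_injective R A h2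
  refine { bij := ?_ }
  let σ : Aᵐᵒᵖ ⊗[R] (Aᵐᵒᵖ)ᵐᵒᵖ ≃ₗ[R] A ⊗[R] Aᵐᵒᵖ :=
    (TensorProduct.comm R Aᵐᵒᵖ (Aᵐᵒᵖ)ᵐᵒᵖ).trans
      (TensorProduct.congr ((MulOpposite.opLinearEquiv R).symm.trans
        (MulOpposite.opLinearEquiv R).symm) (LinearEquiv.refl R Aᵐᵒᵖ))
  let T : Module.End R A ≃ₗ[R] Module.End R Aᵐᵒᵖ :=
    LinearEquiv.conj (MulOpposite.opLinearEquiv R : A ≃ₗ[R] Aᵐᵒᵖ)
  have hcomp : (AlgHom.mulLeftRight R Aᵐᵒᵖ).toLinearMap =
      T.toLinearMap ∘ₗ (AlgHom.mulLeftRight R A).toLinearMap ∘ₗ σ.toLinearMap := by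
    apply TensorProduct.ext'
    intro a b
    ext x
    simp [σ, T, AlgHom.mulLeftRight_apply, LinearEquiv.conj_apply, mul_assoc]
  have hb : Function.Bijective (T.toLinearMap ∘ₗ (AlgHom.mulLeftRight R A).toLinearMap ∘ₗ
      σ.toLinearMap) := by
    rw [LinearMap.coe_comp, LinearMap.coe_comp]
    exact T.bijective.comp ((IsAzumaya.bij (R := R) (A := A)).comp σ.bijective)
  have : (⇑(AlgHom.mulLeftRight R Aᵐᵒᵖ) : _ → _) =
      ⇑(T.toLinearMap ∘ₗ (AlgHom.mulLeftRight R A).toLinearMap ∘ₗ σ.toLinearMap) := by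
    rw [← hcomp]; rfl
  rw [this]
  exact hb

end OpAzumaya

section Aux

open MulOpposite

/-- right multiplication as an algebra map from the opposite algebra -/
def rmulOp (K M : Type*) [CommRing K] [Ring M] [Algebra K M] : Mᵐᵒᵖ →ₐ[K] Module.End K M where
  toFun x := LinearMap.mulRight K x.unop
  map_one' := by ext; simp
  map_mul' x y := by ext z; simp [mul_assoc]
  map_zero' := by ext; simp
  map_add' x y := by ext z; simp [mul_add]
  commutes' r := by ext z; simp [Algebra.commutes, Algebra.smul_def]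

@[simp] lemma rmulOp_apply (K M : Type*) [CommRing K] [Ring M] [Algebra K M] (x : Mᵐᵒᵖ) (z : M) :
    rmulOp K M x z = z * x.unop := rfl

/-- conjugation by a unit as an algebra automorphism -/
def conjUnit {R A : Type*} [CommRing R] [Ring A] [Algebra R A] (u : Aˣ) : A ≃ₐ[R] A where
  toFun a := (u : A) * a * ((u⁻¹ : Aˣ) : A)
  invFun a := ((u⁻¹ : Aˣ) : A) * a * (u : A)
  left_inv a := by simp [mul_assoc]
  right_inv a := by simp [mul_assoc]
  map_mul' a b := by simp [mul_assoc]
  map_add' a b := by simp [mul_add, add_mul]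
  commutes' r := by
    rw [← Algebra.commutes, mul_assoc, Units.mul_inv, mul_one]

@[simp] lemma conjUnit_apply {R A : Type*} [CommRing R] [Ring A] [Algebra R A] (u : Aˣ) (a : A) :
    conjUnit (R := R) u a = (u : A) * a * ((u⁻¹ : Aˣ) : A) := rfl

theorem isLGRing_of_isLocalRing (R : Type u) [CommRing R] [IsLocalRing R] : LGRing.IsLGRing R := by
  intro n f hf
  obtain ⟨s, hs⟩ := hf (maximalIdeal R)
  choose t ht using fun i => Ideal.Quotient.mk_surjective (s i)
  refine ⟨t, ?_⟩
  have key : algebraMap R (R ⧸ maximalIdeal R) (MvPolynomial.aeval t f) =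
      MvPolynomial.aeval s f := by
    rw [← MvPolynomial.aeval_algebraMap_apply]
    have : (⇑(algebraMap R (R ⧸ maximalIdeal R)) ∘ t) = s := funext ht
    rw [this]
  by_contra hnu
  have hmem : MvPolynomial.aeval t f ∈ maximalIdeal R := (mem_maximalIdeal _).mpr hnu
  have h0 : algebraMap R (R ⧸ maximalIdeal R) (MvPolynomial.aeval t f) = 0 :=
    Ideal.Quotient.eq_zero_iff_mem.mpr hmem
  rw [key] at h0
  rw [h0] at hs
  exact not_isUnit_zero hs

variable {R : Type*} [CommRing R] [IsLocalRing R] {A : Type*} [Ring A] [Algebra R A]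
  [Module.Finite R A]

theorem exists_unit_lift (ub : ((ResidueField R) ⊗[R] A)ˣ) :
    ∃ u : Aˣ, (1 : ResidueField R) ⊗ₜ[R] (u : A) = (ub : (ResidueField R) ⊗[R] A) := by
  obtain ⟨u₀, hu₀⟩ := TensorProduct.mk_surjective R A (ResidueField R)
    Ideal.Quotient.mk_surjective (ub : (ResidueField R) ⊗[R] A)
  have hu₀' : (1 : ResidueField R) ⊗ₜ[R] u₀ = (ub : (ResidueField R) ⊗[R] A) := hu₀
  have hL : Function.Surjective (LinearMap.mulLeft R u₀) := by
    refine Groth.Agent.Lib.LeadAzumaya.surjective_of_lTensor_residueField_surjective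
      (M := A) (N := A) (LinearMap.mulLeft R u₀) ?_
    intro z
    refine ⟨((ub⁻¹ : ((ResidueField R) ⊗[R] A)ˣ) : (ResidueField R) ⊗[R] A) * z, ?_⟩
    have h1 : ∀ w, LinearMap.lTensor (ResidueField R) (LinearMap.mulLeft R u₀) w =
        ((1 : ResidueField R) ⊗ₜ[R] u₀) * w := by
      intro w
      induction w using TensorProduct.induction_on with
      | zero => simp
      | tmul k a => simp [Algebra.TensorProduct.tmul_mul_tmul]
      | add x y hx hy => rw [map_add, hx, hy, mul_add]
    rw [h1, hu₀', ← mul_assoc, Units.mul_inv, one_mul]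
  have hR : Function.Surjective (LinearMap.mulRight R u₀) := by
    refine Groth.Agent.Lib.LeadAzumaya.surjective_of_lTensor_residueField_surjective
      (M := A) (N := A) (LinearMap.mulRight R u₀) ?_
    intro z
    refine ⟨z * ((ub⁻¹ : ((ResidueField R) ⊗[R] A)ˣ) : (ResidueField R) ⊗[R] A), ?_⟩
    have h1 : ∀ w, LinearMap.lTensor (ResidueField R) (LinearMap.mulRight R u₀) w =
        w * ((1 : ResidueField R) ⊗ₜ[R] u₀) := by
      intro w
      induction w using TensorProduct.induction_on with
      | zero => simp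
      | tmul k a => simp [Algebra.TensorProduct.tmul_mul_tmul]
      | add x y hx hy => rw [map_add, hx, hy, add_mul]
    rw [h1, hu₀', mul_assoc, Units.inv_mul, mul_one]
  obtain ⟨v, hv⟩ := hL 1
  obtain ⟨v', hv'⟩ := hR 1
  have hv1 : u₀ * v = 1 := hv
  have hv2 : v' * u₀ = 1 := hv'
  have hvv : v = v' := by
    calc v = (v' * u₀) * v := by rw [hv2, one_mul]
      _ = v' := by rw [mul_assoc, hv1, mul_one]
  exact ⟨⟨u₀, v, hv1, by rw [hvv]; exact hv2⟩, hu₀'⟩

end Aux

section Main

open MulOpposite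

variable {R : Type u} [CommRing R] [HenselianLocalRing R]
  {A : Type u} [Ring A] [Algebra R A] [IsAzumaya R A]
  {B : Type u} [Ring B] [Algebra R B] [IsAzumaya R B]
  (e₀ : ((ResidueField R) ⊗[R] A) ≃ₐ[ResidueField R] ((ResidueField R) ⊗[R] B))

/-- `B ⊗ Aᵐᵒᵖ → End_κ(κ ⊗ B)`, `b ⊗ a ↦ (z ↦ (1 ⊗ b) z e₀(1 ⊗ a))` -/
noncomputable def psi :
    B ⊗[R] Aᵐᵒᵖ →ₐ[R] Module.End (ResidueField R) ((ResidueField R) ⊗[R] B) :=
  Algebra.TensorProduct.lift
    (((Algebra.lmul (ResidueField R) ((ResidueField R) ⊗[R] B)).restrictScalars R).comp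
      Algebra.TensorProduct.includeRight)
    (((rmulOp (ResidueField R) ((ResidueField R) ⊗[R] B)).restrictScalars R).comp
      (AlgHom.op ((e₀.toAlgHom.restrictScalars R).comp Algebra.TensorProduct.includeRight)))
    (fun b a => by
      show _ * _ = _ * _
      ext z
      simp only [AlgHom.coe_comp, AlgHom.coe_restrictScalars', Function.comp_apply,
        Algebra.TensorProduct.includeRight_apply, AlgHom.op_apply_apply, Module.End.mul_apply,
        rmulOp_apply, unop_op,
        TensorProduct.AlgebraTensorModule.curry_apply,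
        TensorProduct.curry_apply, LinearMap.coe_restrictScalars]
      exact (mul_assoc _ _ _).symm)

lemma psi_tmul (b : B) (a : Aᵐᵒᵖ) (z : (ResidueField R) ⊗[R] B) :
    psi e₀ (b ⊗ₜ[R] a) z =
      ((1 : ResidueField R) ⊗ₜ[R] b) * z * e₀ ((1 : ResidueField R) ⊗ₜ[R] a.unop) := by
  simp only [psi, Algebra.TensorProduct.lift_tmul, AlgHom.coe_comp, AlgHom.coe_restrictScalars',
    Function.comp_apply, Algebra.TensorProduct.includeRight_apply, AlgHom.op_apply_apply,
    Module.End.mul_apply, rmulOp_apply, unop_op]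
  exact (mul_assoc _ _ _).symm

/-- the special fibre of `B ⊗ Aᵐᵒᵖ` is split -/
noncomputable def Psi0 : (ResidueField R) ⊗[R] (B ⊗[R] Aᵐᵒᵖ) →ₐ[ResidueField R]
    Module.End (ResidueField R) ((ResidueField R) ⊗[R] B) :=
  AlgHom.liftEquiv R (ResidueField R) (B ⊗[R] Aᵐᵒᵖ) _ (psi e₀)

include e₀ in
theorem finrank_eq_of_e₀ : Module.finrank R A = Module.finrank R B := by
  haveI : Module.Free R A := Module.free_of_flat_of_isLocalRing
  haveI : Module.Free R B := Module.free_of_flat_of_isLocalRing
  rw [← Module.finrank_baseChange (R := ResidueField R) (S := R) (M' := A),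
    ← Module.finrank_baseChange (R := ResidueField R) (S := R) (M' := B)]
  exact e₀.toLinearEquiv.finrank_eq

omit [IsAzumaya R A] in
theorem nontrivial_fibre : Nontrivial ((ResidueField R) ⊗[R] B) := by
  haveI : Module.Free R B := Module.free_of_flat_of_isLocalRing
  haveI : Nontrivial B := (FaithfulSMul.algebraMap_injective R B).nontrivial
  have hBpos : 0 < Module.finrank R B :=
    (Module.finrank_pos_iff_of_free (R := R) (M := B)).mpr inferInstance
  have hW : Module.finrank (ResidueField R) ((ResidueField R) ⊗[R] B) = Module.finrank R B :=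
    Module.finrank_baseChange
  exact Module.nontrivial_of_finrank_pos (R := ResidueField R) (by rw [hW]; exact hBpos)

theorem Psi0_bijective : Function.Bijective (Psi0 e₀) := by
  haveI : Module.Free R A := Module.free_of_flat_of_isLocalRing
  haveI : Module.Free R B := Module.free_of_flat_of_isLocalRing
  haveI : IsAzumaya R Aᵐᵒᵖ := isAzumaya_op
  haveI : Module.Free R Aᵐᵒᵖ := Module.free_of_flat_of_isLocalRing
  haveI : IsAzumaya R (B ⊗[R] Aᵐᵒᵖ) := Groth.Agent.S19587.result R B Aᵐᵒᵖ
  haveI : IsAzumaya (ResidueField R) ((ResidueField R) ⊗[R] (B ⊗[R] Aᵐᵒᵖ)) :=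
    Groth.Agent.Lib.LeadAzumaya.isAzumaya_baseChange (ResidueField R) (B ⊗[R] Aᵐᵒᵖ)
  haveI : IsSimpleRing ((ResidueField R) ⊗[R] (B ⊗[R] Aᵐᵒᵖ)) :=
    Groth.Agent.Lib.LeadAzumaya.isSimpleRing_of_isAzumaya_field (k := ResidueField R)
      (A := (ResidueField R) ⊗[R] (B ⊗[R] Aᵐᵒᵖ))
  haveI : Nontrivial ((ResidueField R) ⊗[R] B) := nontrivial_fibre
  have hW : Module.finrank (ResidueField R) ((ResidueField R) ⊗[R] B) = Module.finrank R B :=
    Module.finrank_baseChange
  haveI : Nontrivial (Module.End (ResidueField R) ((ResidueField R) ⊗[R] B)) := inferInstance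
  have hinj0 := RingHom.injective (R := (ResidueField R) ⊗[R] (B ⊗[R] Aᵐᵒᵖ))
    (S := Module.End (ResidueField R) ((ResidueField R) ⊗[R] B)) (Psi0 e₀).toRingHom
  have hinj : Function.Injective (Psi0 e₀) := hinj0
  have hfr : Module.finrank (ResidueField R) ((ResidueField R) ⊗[R] (B ⊗[R] Aᵐᵒᵖ)) =
      Module.finrank (ResidueField R)
        (Module.End (ResidueField R) ((ResidueField R) ⊗[R] B)) := by
    rw [Module.finrank_baseChange, Module.finrank_tensorProduct, Module.finrank_linearMap, hW,
      ← (MulOpposite.opLinearEquiv R : A ≃ₗ[R] Aᵐᵒᵖ).finrank_eq, finrank_eq_of_e₀ e₀]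
  exact ⟨hinj, (LinearMap.injective_iff_surjective_of_finrank_eq_finrank
    (f := (Psi0 e₀).toLinearMap) hfr).mp hinj⟩

include e₀ in
theorem exists_algEquiv : Nonempty (A ≃ₐ[R] B) := by
  haveI : IsAzumaya R Aᵐᵒᵖ := isAzumaya_op
  haveI : IsAzumaya R (B ⊗[R] Aᵐᵒᵖ) := Groth.Agent.S19587.result R B Aᵐᵒᵖ
  haveI : Nontrivial ((ResidueField R) ⊗[R] B) := nontrivial_fibre
  haveI : Module.Free R A := Module.free_of_flat_of_isLocalRing
  haveI : Module.Free R B := Module.free_of_flat_of_isLocalRing
  let Ψ := AlgEquiv.ofBijective (Psi0 e₀) (Psi0_bijective e₀)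
  obtain ⟨e, he, hbij, hpos⟩ := exists_split (C := B ⊗[R] Aᵐᵒᵖ) Ψ
  haveI := projective_P (R := R) he
  haveI : Module.Free R (P (R := R) e) := free_P he
  haveI : Nontrivial (P (R := R) e) :=
    (Module.finrank_pos_iff_of_free (R := R) (M := P (R := R) e)).mp hpos
  haveI : FaithfulSMul R (P (R := R) e) := inferInstance
  let lamE : (B ⊗[R] Aᵐᵒᵖ) ≃ₐ[R] Module.End R (P (R := R) e) :=
    AlgEquiv.ofBijective (lam (R := R) e) hbij
  let ΦA : A ⊗[R] Aᵐᵒᵖ ≃ₐ[R] Module.End R A :=
    AlgEquiv.ofBijective (AlgHom.mulLeftRight R A) IsAzumaya.bij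
  let θ : A ⊗[R] Module.End R (P (R := R) e) ≃ₐ[R] B ⊗[R] Module.End R A :=
    (Algebra.TensorProduct.congr AlgEquiv.refl lamE.symm).trans
      ((Algebra.TensorProduct.leftComm R A B Aᵐᵒᵖ).trans
        (Algebra.TensorProduct.congr AlgEquiv.refl ΦA))
  refine Groth.Agent.Lib.R2Lead.LGCorner.algEquiv_of_tensor_end (isLGRing_of_isLocalRing R) A B ?_
    (P (R := R) e) A θ
  intro p
  have h1 := congrFun (Module.rankAtStalk_eq_finrank_of_free (R := R) (M := A)) p
  have h2 := congrFun (Module.rankAtStalk_eq_finrank_of_free (R := R) (M := B)) p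
  rw [h1, h2]
  simp [finrank_eq_of_e₀ e₀]

/-- **Lifting isomorphisms of Azumaya algebras over a henselian local ring.** -/
theorem main : ∃ e : A ≃ₐ[R] B, ∀ a : A,
    e₀ ((1 : ResidueField R) ⊗ₜ[R] a) = (1 : ResidueField R) ⊗ₜ[R] (e a) := by
  obtain ⟨e₁⟩ := exists_algEquiv e₀
  let eb₁ : ((ResidueField R) ⊗[R] A) ≃ₐ[ResidueField R] ((ResidueField R) ⊗[R] B) :=
    Algebra.TensorProduct.congr AlgEquiv.refl e₁
  let α : ((ResidueField R) ⊗[R] A) ≃ₐ[ResidueField R] ((ResidueField R) ⊗[R] A) :=
    e₀.trans eb₁.symm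
  haveI : IsAzumaya (ResidueField R) ((ResidueField R) ⊗[R] A) :=
    Groth.Agent.Lib.LeadAzumaya.isAzumaya_baseChange (ResidueField R) A
  obtain ⟨ub, hub⟩ := Groth.Agent.Lib.LeadLocalInner.exists_unit_conj α
  obtain ⟨u, hu⟩ := exists_unit_lift ub
  have hu' : (1 : ResidueField R) ⊗ₜ[R] ((u⁻¹ : Aˣ) : A) =
      ((ub⁻¹ : ((ResidueField R) ⊗[R] A)ˣ) : (ResidueField R) ⊗[R] A) := by
    have h1 : ((1 : ResidueField R) ⊗ₜ[R] (u : A)) *
        ((1 : ResidueField R) ⊗ₜ[R] ((u⁻¹ : Aˣ) : A)) = 1 := by
      rw [Algebra.TensorProduct.tmul_mul_tmul, mul_one, Units.mul_inv]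
      rfl
    rw [hu] at h1
    exact Units.eq_inv_of_mul_eq_one_left h1
  refine ⟨(conjUnit (R := R) u).trans e₁, fun a => ?_⟩
  have h2 : e₀ ((1 : ResidueField R) ⊗ₜ[R] a) = eb₁ (α ((1 : ResidueField R) ⊗ₜ[R] a)) := by
    simp [α]
  rw [h2, hub, ← hu, ← hu', Algebra.TensorProduct.tmul_mul_tmul,
    Algebra.TensorProduct.tmul_mul_tmul, mul_one, mul_one]
  simp [eb₁]

end Main

end Groth.Agent.Lib.R2LeadAzLift
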