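import Mathlib
import Groth.Prelude.Def_AzInv
import Groth.Prelude.Def_W4c2azumayainvolQEt

/-!
# Quadratic étale algebras with involution split after an étale cover (lead)
-/

set_option autoImplicit false
set_option linter.style.haveILetI false
set_option linter.unusedSectionVars false

namespace Groth.Agent.Lib.R2LeadAzTQuad

open TensorProduct

universe u v

section Split

variable {S : Type u} {R : Type v} [CommRing S] [CommRing R] [Algebra S R]
  (lam : R ≃ₐ[S] R)

/-- `id ⊗ lam` on `S' ⊗ R` -/
noncomputable def lamB (S' : Type*) [CommRing S'] [Algebra S S'] :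
    (S' ⊗[S] R) ≃ₐ[S'] (S' ⊗[S] R) :=
  Algebra.TensorProduct.congr (AlgEquiv.refl : S' ≃ₐ[S'] S') lam

theorem lamB_tmul (S' : Type*) [CommRing S'] [Algebra S S'] (s : S') (r : R) :
    lamB lam S' (s ⊗ₜ[S] r) = s ⊗ₜ[S] lam r := rfl

theorem lamB_lamB (hlam : ∀ r, lam (lam r) = r) (S' : Type*) [CommRing S'] [Algebra S S']
    (x : S' ⊗[S] R) : lamB lam S' (lamB lam S' x) = x := by
  induction x using TensorProduct.induction_on with
  | zero => simp
  | add x y hx hy => rw [map_add, map_add, hx, hy]
  | tmul a b => rw [lamB_tmul, lamB_tmul, hlam]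

variable (hlam : ∀ r, lam (lam r) = r) (hfix : RInv.IsFixedRing S R lam.toRingEquiv)
  (hq : RInv.IsQuadEtale S R)

include hlam hfix hq in
theorem exists_idem_self :
    ∃ ε : R ⊗[S] R, ε * ε = ε ∧ lamB lam R ε = 1 - ε := by
  obtain ⟨hfin, hproj, hunr, hrk⟩ := hq
  haveI := hfin
  haveI := hproj
  haveI := hunr
  obtain ⟨tt, h1, h2⟩ := (Algebra.FormallyUnramified.iff_exists_tensorProduct (R := S) (S := R)).1
    inferInstance
  -- multiplication by `tt` factors through `lmul'`
  have key1 : ∀ x : R ⊗[S] R, tt * x = tt * (Algebra.TensorProduct.lmul' S x ⊗ₜ[S] (1 : R)) := by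
    intro x
    induction x using TensorProduct.induction_on with
    | zero => simp
    | add x y hx hy => rw [mul_add, hx, hy, map_add, TensorProduct.add_tmul, mul_add]
    | tmul a b =>
      have hb : ((1 : R) ⊗ₜ[S] b) * tt = (b ⊗ₜ[S] (1 : R)) * tt := by
        have := h1 b
        rw [sub_mul, sub_eq_zero] at this
        exact this
      rw [Algebra.TensorProduct.lmul'_apply_tmul]
      calc tt * (a ⊗ₜ[S] b) = (a ⊗ₜ[S] (1 : R)) * (((1 : R) ⊗ₜ[S] b) * tt) := by
            rw [mul_comm tt, ← mul_assoc, Algebra.TensorProduct.tmul_mul_tmul, mul_one, one_mul]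
        _ = (a ⊗ₜ[S] (1 : R)) * ((b ⊗ₜ[S] (1 : R)) * tt) := by rw [hb]
        _ = tt * ((a * b) ⊗ₜ[S] (1 : R)) := by
            rw [← mul_assoc, Algebra.TensorProduct.tmul_mul_tmul, mul_one, mul_comm]
  have hidem : tt * tt = tt := by
    rw [key1 tt, h2]
    exact mul_one tt
  obtain ⟨t', ht'⟩ : ∃ t', t' = lamB lam R tt := ⟨_, rfl⟩
  have hidem' : t' * t' = t' := by rw [ht', ← map_mul, hidem]
  obtain ⟨e₀, he₀⟩ : ∃ e₀, e₀ = Algebra.TensorProduct.lmul' S t' := ⟨_, rfl⟩
  have he₀idem : e₀ * e₀ = e₀ := by rw [he₀, ← map_mul, hidem']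
  have hkill : ∀ s : R, (lam s - s) * e₀ = 0 := by
    intro s
    have h3 := congrArg (lamB lam R) (h1 s)
    rw [map_mul, map_sub, lamB_tmul, lamB_tmul, map_zero, map_one, ← ht'] at h3
    have h4 := congrArg (Algebra.TensorProduct.lmul' S) h3
    rw [map_mul, map_sub, Algebra.TensorProduct.lmul'_apply_tmul,
      Algebra.TensorProduct.lmul'_apply_tmul, map_zero, ← he₀, one_mul, mul_one] at h4
    exact h4
  have hlam_mul : ∀ s : R, lam s * e₀ = s * e₀ := by
    intro s
    have := hkill s
    rw [sub_mul, sub_eq_zero] at this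
    exact this
  have hlame₀ : lam e₀ = e₀ := by
    have h3 : lam e₀ * e₀ = e₀ := by rw [hlam_mul e₀, he₀idem]
    have h4 := congrArg lam h3
    rw [map_mul, hlam, mul_comm] at h4
    rw [← h4, h3]
  obtain ⟨c, hc⟩ := (hfix.2 e₀).1 hlame₀
  have hcidem : c * c = c := by
    apply hfix.1
    rw [map_mul, hc, he₀idem]
  have hrange : ∀ r : R, ∃ s : S, algebraMap S R s = e₀ * r := by
    intro r
    apply (hfix.2 (e₀ * r)).1
    show lam (e₀ * r) = e₀ * r
    rw [map_mul, hlame₀, mul_comm, hlam_mul r, mul_comm]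
  -- `c` lies in every prime
  have hcprime : ∀ p : Ideal S, p.IsPrime → c ∈ p := by
    intro p hp
    by_contra hcp
    have h2' := hrk ⟨p, hp⟩
    rw [Module.rankAtStalk_eq] at h2'
    have hle : Module.finrank p.ResidueField (p.Fiber R) ≤ 1 := by
      apply finrank_le_one ((1 : p.ResidueField) ⊗ₜ[S] (1 : R) : p.ResidueField ⊗[S] R)
      intro w
      induction w using TensorProduct.induction_on with
      | zero => exact ⟨0, zero_smul _ _⟩
      | add x y hx hy =>
        obtain ⟨a, ha⟩ := hx
        obtain ⟨b, hb⟩ := hy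
        exact ⟨a + b, by rw [add_smul, ha, hb]⟩
      | tmul k r =>
        obtain ⟨s, hs⟩ := hrange r
        have hcne : algebraMap S p.ResidueField c ≠ 0 := by
          intro h0
          exact hcp ((Ideal.algebraMap_residueField_eq_zero).1 h0)
        refine ⟨k * (algebraMap S p.ResidueField c)⁻¹ * algebraMap S p.ResidueField s, ?_⟩
        rw [TensorProduct.smul_tmul', smul_eq_mul, mul_one]
        have h5 : (algebraMap S p.ResidueField s) ⊗ₜ[S] (1 : R) =
            (algebraMap S p.ResidueField c) ⊗ₜ[S] r := by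
          rw [Algebra.algebraMap_eq_smul_one, Algebra.algebraMap_eq_smul_one,
            TensorProduct.smul_tmul, TensorProduct.smul_tmul, Algebra.smul_def, mul_one, hs,
            Algebra.smul_def, hc]
        calc (k * (algebraMap S p.ResidueField c)⁻¹ * algebraMap S p.ResidueField s) ⊗ₜ[S] (1 : R)
            = (k * (algebraMap S p.ResidueField c)⁻¹) •
                ((algebraMap S p.ResidueField s) ⊗ₜ[S] (1 : R)) := by
              rw [TensorProduct.smul_tmul', smul_eq_mul]
          _ = (k * (algebraMap S p.ResidueField c)⁻¹) •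
                ((algebraMap S p.ResidueField c) ⊗ₜ[S] r) := by rw [h5]
          _ = k ⊗ₜ[S] r := by
              rw [TensorProduct.smul_tmul', smul_eq_mul, mul_assoc, inv_mul_cancel₀ hcne, mul_one]
    change Module.finrank p.ResidueField (p.Fiber R) = 2 at h2'
    omega
  have hc0 : c = 0 := by
    have hunit : IsUnit (1 - c) := by
      by_contra hnu
      obtain ⟨m, hm, hmem⟩ := exists_max_ideal_of_mem_nonunits (mem_nonunits_iff.2 hnu)
      have hcm := hcprime m hm.isPrime
      have : (1 : S) ∈ m := by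
        have := m.add_mem hmem hcm
        simpa using this
      exact hm.ne_top ((Ideal.eq_top_iff_one m).2 this)
    have h5 : (1 - c) * c = 0 := by rw [sub_mul, one_mul, hcidem, sub_self]
    exact (hunit.mul_right_eq_zero).1 h5
  have he₀0 : e₀ = 0 := by rw [← hc, hc0, map_zero]
  have hlm : Algebra.TensorProduct.lmul' S (lamB lam R t') = 1 := by
    rw [ht', lamB_lamB lam hlam, h2]
  -- the map `(μ, μ')`
  let φ : R ⊗[S] R →ₗ[R] R × R :=
    LinearMap.prod (Algebra.TensorProduct.lmul'' S (S := R)).toLinearMap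
      ((Algebra.TensorProduct.lmul'' S (S := R)).toLinearMap ∘ₗ (lamB lam R).toLinearMap)
  have hφ : ∀ x, φ x = (Algebra.TensorProduct.lmul' S x,
      Algebra.TensorProduct.lmul' S (lamB lam R x)) := fun x => rfl
  have hsurj : Function.Surjective φ := by
    rintro ⟨a, b⟩
    refine ⟨(a ⊗ₜ[S] (1 : R)) * tt + (b ⊗ₜ[S] (1 : R)) * t', ?_⟩
    rw [hφ]
    simp only [map_add, map_mul, lamB_tmul, map_one, Algebra.TensorProduct.lmul'_apply_tmul,
      mul_one, h2, ← ht', ← he₀, he₀0, mul_zero, add_zero, zero_add, hlm]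
  have hbij : Function.Bijective φ := by
    refine Module.bijective_of_surjective_of_rankAtStalk_eq (φ := φ) hsurj ?_
    intro m hm
    haveI : Nontrivial R := ⟨⟨0, 1, fun h01 => hm.ne_top ((Ideal.eq_top_iff_one m).2
      (h01 ▸ m.zero_mem))⟩⟩
    rw [Module.rankAtStalk_baseChange, hrk, Module.rankAtStalk_eq_finrank_of_free]
    simp
  refine ⟨tt, hidem, ?_⟩
  rw [← ht']
  have htt' : tt * t' = 0 := by
    rw [key1 t', ← he₀, he₀0, TensorProduct.zero_tmul, mul_zero]
  apply hbij.1
  rw [hφ, hφ, hlm, ← he₀, he₀0]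
  simp only [map_sub, map_one, h2, ← ht', ← he₀, he₀0, sub_zero, sub_self]

include hfix hq in
theorem etale_faithfullyFlat : Algebra.Etale S R ∧ Module.FaithfullyFlat S R := by
  obtain ⟨hfin, hproj, hunr, hrk⟩ := hq
  haveI := hfin
  haveI := hproj
  haveI := hunr
  haveI : Module.FinitePresentation S R := Module.finitePresentation_of_projective S R
  haveI : Algebra.FinitePresentation S R := Algebra.FinitePresentation.of_finitePresentation S R
  haveI : Module.Flat S R := inferInstance
  refine ⟨Algebra.Etale.of_formallyUnramified_of_flat, ?_⟩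
  haveI : FaithfulSMul S R := (faithfulSMul_iff_algebraMap_injective S R).2 hfix.1
  haveI : Algebra.IsIntegral S R := Algebra.IsIntegral.of_finite S R
  exact Module.FaithfullyFlat.of_comap_surjective (Algebra.IsIntegral.comap_surjective S R)

include hlam hfix hq in
/-- a quadratic étale algebra with involution acquires, after an étale cover of the base,
an idempotent which is swapped with its complement -/
theorem exists_cover :
    ∃ (S₁ : Type u) (_ : CommRing S₁) (_ : Algebra S S₁) (_ : Algebra.Etale S S₁)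
      (_ : Module.FaithfullyFlat S S₁) (ε : S₁ ⊗[S] R), ε * ε = ε ∧ lamB lam S₁ ε = 1 - ε := by
  obtain ⟨het, hff⟩ := etale_faithfullyFlat lam hfix hq
  obtain ⟨ε, hε, hlε⟩ := exists_idem_self lam hlam hfix hq
  haveI : Algebra.FiniteType S R := inferInstance
  obtain ⟨k, f, hf⟩ := Algebra.FiniteType.iff_quotient_mvPolynomial''.1
    (inferInstance : Algebra.FiniteType S R)
  let e : (MvPolynomial (Fin k) S ⧸ RingHom.ker f.toRingHom) ≃ₐ[S] R :=
    Ideal.quotientKerAlgEquivOfSurjective hf
  haveI : Algebra.Etale S (MvPolynomial (Fin k) S ⧸ RingHom.ker f.toRingHom) :=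
    Algebra.Etale.of_equiv e.symm
  haveI : Module.FaithfullyFlat S (MvPolynomial (Fin k) S ⧸ RingHom.ker f.toRingHom) :=
    Module.FaithfullyFlat.of_linearEquiv S R e.toLinearEquiv
  let g : R ⊗[S] R ≃ₐ[S] (MvPolynomial (Fin k) S ⧸ RingHom.ker f.toRingHom) ⊗[S] R :=
    Algebra.TensorProduct.congr e.symm (AlgEquiv.refl : R ≃ₐ[S] R)
  have hg : ∀ x, lamB lam (MvPolynomial (Fin k) S ⧸ RingHom.ker f.toRingHom) (g x) =
      g (lamB lam R x) := by
    intro x
    induction x using TensorProduct.induction_on with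
    | zero => simp only [map_zero]
    | add x y hx hy => rw [map_add, map_add, map_add, map_add, hx, hy]
    | tmul a b => rfl
  refine ⟨MvPolynomial (Fin k) S ⧸ RingHom.ker f.toRingHom, inferInstance, inferInstance,
    inferInstance, inferInstance, g ε, ?_, ?_⟩
  · rw [← map_mul, hε]
  · rw [hg, hlε, map_sub, map_one]

end Split

end Groth.Agent.Lib.R2LeadAzTQuad
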