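import Mathlib
import Groth.Agent.Lib.R2LeadAzFixMain
import Groth.Agent.Lib.R2LeadAzInner
import Groth.Agent.Lib.R2LeadAzTQuad

/-!
# Involutions of Azumaya algebras over a ring with involution: normal-form pieces (lead)
-/

set_option autoImplicit false
set_option linter.style.haveILetI false
set_option linter.unusedSectionVars false

namespace Groth.Agent.Lib.R2LeadAzTBase

open TensorProduct AzInv
open Groth.Agent.Lib.R2LeadAzTQuad (lamB lamB_tmul lamB_lamB)
open Groth.Agent.Lib.R2LeadAzCharpoly (splitBC splitBC_one_tmul)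
open Groth.Agent.Lib.R2LeadAzFixMain (can can_tmul)

attribute [local instance] Algebra.TensorProduct.rightAlgebra

universe u v w w'

section LamTr

variable {Ω : Type*} [CommRing Ω] {n : ℕ}

theorem lamTr_smul {F : Type*} [FunLike F Ω Ω] [RingHomClass F Ω Ω] (L : F) (ω : Ω)
    (Y : Matrix (Fin n) (Fin n) Ω) : lamTr L (ω • Y) = L ω • lamTr L Y := by
  ext i j
  simp [lamTr_apply, Matrix.smul_apply]

theorem lamTr_mul {F : Type*} [FunLike F Ω Ω] [RingHomClass F Ω Ω] (L : F)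
    (X Y : Matrix (Fin n) (Fin n) Ω) : lamTr L (X * Y) = lamTr L Y * lamTr L X := by
  ext i j
  simp only [lamTr_apply, Matrix.mul_apply, map_sum]
  exact Finset.sum_congr rfl fun k _ => (map_mul L _ _).trans (mul_comm _ _)

theorem lamTr_one {F : Type*} [FunLike F Ω Ω] [RingHomClass F Ω Ω] (L : F) :
    lamTr L (1 : Matrix (Fin n) (Fin n) Ω) = 1 := by
  ext i j
  simp only [lamTr_apply, Matrix.one_apply]
  by_cases h : i = j
  · subst h; simp
  · rw [if_neg h, if_neg (Ne.symm h), map_zero]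

theorem lamTr_lamTr {F : Type*} [FunLike F Ω Ω] [RingHomClass F Ω Ω] (L : F)
    (hL : ∀ x, L (L x) = x) (X : Matrix (Fin n) (Fin n) Ω) : lamTr L (lamTr L X) = X := by
  ext i j
  simp [lamTr_apply, hL]

theorem lamTr_add {F : Type*} [FunLike F Ω Ω] [RingHomClass F Ω Ω] (L : F)
    (X Y : Matrix (Fin n) (Fin n) Ω) : lamTr L (X + Y) = lamTr L X + lamTr L Y := by
  ext i j
  simp [lamTr_apply]

end LamTr

section GOm

variable {S : Type u} {R : Type v} [CommRing S] [CommRing R] [Algebra S R] (lam : R ≃ₐ[S] R)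
  {S' S'' : Type u} [CommRing S'] [Algebra S S'] [CommRing S''] [Algebra S S'']

/-- the map `S' ⊗ R → S'' ⊗ R` induced by `g : S' → S''`, as a map of `R`-algebras -/
noncomputable def gOm (g : S' →ₐ[S] S'') : (S' ⊗[S] R) →ₐ[R] (S'' ⊗[S] R) :=
  { toRingHom := (Algebra.TensorProduct.map g (AlgHom.id S R)).toRingHom
    commutes' := fun r => by
      show Algebra.TensorProduct.map g (AlgHom.id S R) ((1 : S') ⊗ₜ[S] r) = (1 : S'') ⊗ₜ[S] r
      rw [Algebra.TensorProduct.map_tmul, map_one]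
      rfl }

theorem gOm_tmul (g : S' →ₐ[S] S'') (s : S') (r : R) :
    gOm (R := R) g (s ⊗ₜ[S] r) = g s ⊗ₜ[S] r := rfl

theorem gOm_lamB (g : S' →ₐ[S] S'') (x : S' ⊗[S] R) :
    gOm g (lamB lam S' x) = lamB lam S'' (gOm g x) := by
  induction x using TensorProduct.induction_on with
  | zero => simp only [map_zero]
  | add x y hx hy => simp only [map_add, hx, hy]
  | tmul a b => rfl

theorem lamTr_map {n : ℕ} (g : S' →ₐ[S] S'') (X : Matrix (Fin n) (Fin n) (S' ⊗[S] R)) :
    (lamTr (lamB lam S') X).map (gOm g) = lamTr (lamB lam S'') (X.map (gOm g)) := by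
  ext i j
  simp only [Matrix.map_apply, lamTr_apply, gOm_lamB]

theorem lamB_algebraMap (r : R) :
    lamB lam S' (algebraMap R (S' ⊗[S] R) r) = algebraMap R (S' ⊗[S] R) (lam r) := rfl

theorem lamTr_map_algebraMap {n : ℕ} (X : Matrix (Fin n) (Fin n) R) :
    (lamTr lam X).map (algebraMap R (S' ⊗[S] R)) =
      lamTr (lamB lam S') (X.map (algebraMap R (S' ⊗[S] R))) := by
  ext i j
  rfl

end GOm

section TT

variable {S : Type u} {R : Type v} [CommRing S] [CommRing R] [Algebra S R] (lam : R ≃ₐ[S] R)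
  {A : Type w} [Ring A] [Algebra S A] [Algebra R A] [IsScalarTower S R A] (t : LamInv R A lam)
  (S' : Type u) [CommRing S'] [Algebra S S']

theorem bc_mul (x y : S' ⊗[S] A) :
    t.bc S lam S' (x * y) = t.bc S lam S' y * t.bc S lam S' x := by
  induction x using TensorProduct.induction_on with
  | zero => simp
  | add x₁ x₂ h₁ h₂ => rw [add_mul, map_add, h₁, h₂, map_add, mul_add]
  | tmul a b =>
    induction y using TensorProduct.induction_on with
    | zero => simp
    | add y₁ y₂ h₁ h₂ => rw [mul_add, map_add, h₁, h₂, map_add, add_mul]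
    | tmul c d =>
      rw [Algebra.TensorProduct.tmul_mul_tmul, LamInv.bc_tmul, LamInv.bc_tmul, LamInv.bc_tmul,
        Algebra.TensorProduct.tmul_mul_tmul, t.map_mul, mul_comm a c]

theorem bc_bc (x : S' ⊗[S] A) : t.bc S lam S' (t.bc S lam S' x) = x := by
  induction x using TensorProduct.induction_on with
  | zero => simp
  | add x₁ x₂ h₁ h₂ => rw [map_add, map_add, h₁, h₂]
  | tmul a b => rw [LamInv.bc_tmul, LamInv.bc_tmul, t.invol]

theorem tmul_one_tmul_smul (s : S') (r : R) (a : A) :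
    (s ⊗ₜ[S] (1 : R)) ⊗ₜ[R] (r • a) = (s ⊗ₜ[S] r) ⊗ₜ[R] a := by
  rw [TensorProduct.tmul_smul, TensorProduct.smul_tmul']
  congr 1
  rw [Algebra.smul_def]
  show ((1 : S') ⊗ₜ[S] r) * (s ⊗ₜ[S] (1 : R)) = _
  rw [Algebra.TensorProduct.tmul_mul_tmul, one_mul, mul_one]

theorem can_symm_tmul (s : S') (r : R) (a : A) :
    (can S R A S').symm ((s ⊗ₜ[S] r) ⊗ₜ[R] a) = s ⊗ₜ[S] (r • a) := by
  rw [AlgEquiv.symm_apply_eq, can_tmul, tmul_one_tmul_smul]

theorem can_one_tmul_algebraMap (r : R) :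
    can S R A S' ((1 : S') ⊗ₜ[S] algebraMap R A r) =
      algebraMap (S' ⊗[S] R) ((S' ⊗[S] R) ⊗[R] A) ((1 : S') ⊗ₜ[S] r) := by
  rw [can_tmul, Algebra.algebraMap_eq_smul_one r, tmul_one_tmul_smul,
    Algebra.TensorProduct.algebraMap_apply]
  rfl

/-- the semilinear involution `lam ⊗ t` on `(S' ⊗ R) ⊗_R A` -/
noncomputable def TT : ((S' ⊗[S] R) ⊗[R] A) →ₗ[S'] ((S' ⊗[S] R) ⊗[R] A) :=
  (can S R A S').toLinearMap ∘ₗ (t.bc S lam S') ∘ₗ (can S R A S').symm.toLinearMap

theorem TT_apply (z : (S' ⊗[S] R) ⊗[R] A) :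
    TT lam t S' z = can S R A S' (t.bc S lam S' ((can S R A S').symm z)) := rfl

theorem TT_can (x : S' ⊗[S] A) :
    TT lam t S' (can S R A S' x) = can S R A S' (t.bc S lam S' x) := by
  rw [TT_apply, AlgEquiv.symm_apply_apply]

theorem TT_tmul (ω : S' ⊗[S] R) (a : A) :
    TT lam t S' (ω ⊗ₜ[R] a) = lamB lam S' ω ⊗ₜ[R] t a := by
  induction ω using TensorProduct.induction_on with
  | zero => simp
  | add x y hx hy => rw [TensorProduct.add_tmul, map_add, hx, hy, map_add, TensorProduct.add_tmul]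
  | tmul s r =>
    rw [TT_apply, can_symm_tmul, LamInv.bc_tmul, t.map_smul, can_tmul, tmul_one_tmul_smul,
      lamB_tmul]

theorem TT_mul (z z' : (S' ⊗[S] R) ⊗[R] A) :
    TT lam t S' (z * z') = TT lam t S' z' * TT lam t S' z := by
  rw [TT_apply, map_mul, bc_mul, map_mul]
  rfl

theorem TT_TT (z : (S' ⊗[S] R) ⊗[R] A) : TT lam t S' (TT lam t S' z) = z := by
  rw [TT_apply, TT_apply, AlgEquiv.symm_apply_apply, bc_bc, AlgEquiv.apply_symm_apply]

theorem TT_smul (ω : S' ⊗[S] R) (z : (S' ⊗[S] R) ⊗[R] A) :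
    TT lam t S' (ω • z) = lamB lam S' ω • TT lam t S' z := by
  induction z using TensorProduct.induction_on with
  | zero => simp
  | add x y hx hy => rw [smul_add, map_add, hx, hy, map_add, smul_add]
  | tmul ω' a =>
    rw [TensorProduct.smul_tmul', smul_eq_mul, TT_tmul, TT_tmul, map_mul,
      TensorProduct.smul_tmul', smul_eq_mul]

variable {n : ℕ}

/-- the transported involution on matrices -/
noncomputable def tau
    (σ : ((S' ⊗[S] R) ⊗[R] A) ≃ₐ[S' ⊗[S] R] Matrix (Fin n) (Fin n) (S' ⊗[S] R)) :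
    LamInv (S' ⊗[S] R) (Matrix (Fin n) (Fin n) (S' ⊗[S] R)) (lamB lam S') where
  toFun X := σ (TT lam t S' (σ.symm X))
  map_add' X Y := by rw [map_add, map_add, map_add]
  map_mul' X Y := by rw [map_mul, TT_mul, map_mul]
  map_smul' ω X := by rw [map_smul, TT_smul, map_smul]
  invol' X := by rw [AlgEquiv.symm_apply_apply, TT_TT, AlgEquiv.apply_symm_apply]

theorem tau_sigma
    (σ : ((S' ⊗[S] R) ⊗[R] A) ≃ₐ[S' ⊗[S] R] Matrix (Fin n) (Fin n) (S' ⊗[S] R))
    (z : (S' ⊗[S] R) ⊗[R] A) : tau lam t S' σ (σ z) = σ (TT lam t S' z) := by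
  show σ (TT lam t S' (σ.symm (σ z))) = _
  rw [AlgEquiv.symm_apply_apply]

end TT

section Piece

variable {S : Type u} {R : Type v} [CommRing S] [CommRing R] [Algebra S R] (lam : R ≃ₐ[S] R)
  {A : Type w} [Ring A] [Algebra R A] (t : LamInv R A lam)

/-- a splitting over `S' ⊗ R` in which the involution is `X ↦ u * lamTr X * u⁻¹` -/
structure Piece (n : ℕ) (S' : Type u) [CommRing S'] [Algebra S S'] where
  σ : ((S' ⊗[S] R) ⊗[R] A) ≃ₐ[S' ⊗[S] R] Matrix (Fin n) (Fin n) (S' ⊗[S] R)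
  u : Matrix (Fin n) (Fin n) (S' ⊗[S] R)
  hu : IsUnit u
  conj : ∀ a : A, σ (1 ⊗ₜ[R] t a) * u = u * lamTr (lamB lam S') (σ (1 ⊗ₜ[R] a))

variable {lam t} {n : ℕ} {S' S'' : Type u} [CommRing S'] [Algebra S S'] [CommRing S'']
  [Algebra S S'']

/-- base change of a piece -/
noncomputable def Piece.map (P : Piece lam t n S') (g : S' →ₐ[S] S'') : Piece lam t n S'' where
  σ := splitBC P.σ (gOm g)
  u := P.u.map (gOm g)
  hu := P.hu.map (gOm (R := R) g).mapMatrix
  conj := by
    intro a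
    rw [splitBC_one_tmul, splitBC_one_tmul, ← Matrix.map_mul, P.conj a, Matrix.map_mul,
      lamTr_map]

theorem Piece.map_u (P : Piece lam t n S') (g : S' →ₐ[S] S'') :
    (P.map g).u = P.u.map (gOm g) := rfl

end Piece

section PieceS

variable {S : Type u} {R : Type v} [CommRing S] [CommRing R] [Algebra S R] {lam : R ≃ₐ[S] R}
  {A : Type w} [Ring A] [Algebra S A] [Algebra R A] [IsScalarTower S R A] {t : LamInv R A lam}
  {A' : Type w'} [Ring A'] [Algebra S A'] [Algebra R A'] [IsScalarTower S R A']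
  {t' : LamInv R A' lam}
  {n : ℕ} {S' : Type u} [CommRing S'] [Algebra S S']

theorem Piece.conj_all (P : Piece lam t n S') (z : (S' ⊗[S] R) ⊗[R] A) :
    P.σ (TT lam t S' z) * P.u = P.u * lamTr (lamB lam S') (P.σ z) := by
  induction z using TensorProduct.induction_on with
  | zero => simp [lamTr]
  | add x y hx hy => rw [map_add, map_add, add_mul, hx, hy, map_add, lamTr_add, mul_add]
  | tmul ω a =>
    have h1 : ω ⊗ₜ[R] a = ω • ((1 : S' ⊗[S] R) ⊗ₜ[R] a) := by
      rw [TensorProduct.smul_tmul', smul_eq_mul, mul_one]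
    rw [h1, TT_smul, map_smul, map_smul, TT_tmul, map_one, smul_mul_assoc, P.conj a, lamTr_smul,
      mul_smul_comm]

/-- two pieces with the same hermitian matrix give an isomorphism of algebras with involution -/
theorem exists_iso_of_pieces (P : Piece lam t n S') (P' : Piece lam t' n S') (h : P.u = P'.u) :
    ∃ f : S' ⊗[S] A ≃ₐ[S'] S' ⊗[S] A',
      (∀ (r : R) (x : S' ⊗[S] A),
        f (((1 : S') ⊗ₜ[S] algebraMap R A r) * x) = ((1 : S') ⊗ₜ[S] algebraMap R A' r) * f x) ∧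
      ∀ x : S' ⊗[S] A, f (t.bc S lam S' x) = t'.bc S lam S' (f x) := by
  refine ⟨(can S R A S').trans (((P.σ.trans P'.σ.symm).restrictScalars S').trans
    (can S R A' S').symm), ?_, ?_⟩
  · intro r x
    rw [map_mul]
    congr 1
    show (can S R A' S').symm (P'.σ.symm (P.σ (can S R A S' ((1 : S') ⊗ₜ[S] algebraMap R A r)))) = _
    rw [can_one_tmul_algebraMap, AlgEquiv.commutes, AlgEquiv.commutes, AlgEquiv.symm_apply_eq,
      can_one_tmul_algebraMap]
  · intro x
    show (can S R A' S').symm (P'.σ.symm (P.σ (can S R A S' (t.bc S lam S' x)))) =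
      t'.bc S lam S' ((can S R A' S').symm (P'.σ.symm (P.σ (can S R A S' x))))
    rw [AlgEquiv.symm_apply_eq, ← TT_can, ← TT_can, AlgEquiv.apply_symm_apply,
      AlgEquiv.symm_apply_eq]
    apply P'.hu.mul_left_injective
    show P.σ (TT lam t S' (can S R A S' x)) * P'.u =
      P'.σ (TT lam t' S' (P'.σ.symm (P.σ (can S R A S' x)))) * P'.u
    rw [P'.conj_all, AlgEquiv.apply_symm_apply, ← h, P.conj_all]

end PieceS

section Std

variable {S : Type u} {R : Type v} [CommRing S] [CommRing R] [Algebra S R] (lam : R ≃ₐ[S] R)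
  (n : ℕ)

/-- `Ω ⊗_R M_n(R) ≃ M_n(Ω)`, as `Ω`-algebras -/
noncomputable def matOm (Ω : Type*) [CommRing Ω] [Algebra R Ω] :
    (Ω ⊗[R] Matrix (Fin n) (Fin n) R) ≃ₐ[Ω] Matrix (Fin n) (Fin n) Ω :=
  AlgEquiv.ofRingEquiv (f := (matrixEquivTensor (Fin n) R Ω).symm.toRingEquiv) (fun ω => by
    show (matrixEquivTensor (Fin n) R Ω).symm (ω ⊗ₜ[R] (1 : Matrix (Fin n) (Fin n) R)) = _
    rw [matrixEquivTensor_apply_symm, Matrix.map_one _ (map_zero _) (map_one _),
      Algebra.algebraMap_eq_smul_one])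

theorem matOm_one_tmul (Ω : Type*) [CommRing Ω] [Algebra R Ω] (X : Matrix (Fin n) (Fin n) R) :
    matOm n Ω ((1 : Ω) ⊗ₜ[R] X) = X.map (algebraMap R Ω) := by
  show (matrixEquivTensor (Fin n) R Ω).symm ((1 : Ω) ⊗ₜ[R] X) = _
  rw [matrixEquivTensor_apply_symm, one_smul]

/-- the standard piece of an involution `X ↦ w * lamTr X * w⁻¹` on `M_n(R)` -/
noncomputable def stdPiece (t₀ : LamInv R (Matrix (Fin n) (Fin n) R) lam)
    (w : Matrix (Fin n) (Fin n) R) (hw : IsUnit w) (h : ∀ X, t₀ X * w = w * lamTr lam X)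
    (S' : Type u) [CommRing S'] [Algebra S S'] : Piece lam t₀ n S' where
  σ := matOm n (S' ⊗[S] R)
  u := w.map (algebraMap R (S' ⊗[S] R))
  hu := hw.map (algebraMap R (S' ⊗[S] R)).mapMatrix
  conj := by
    intro X
    rw [matOm_one_tmul, matOm_one_tmul, ← Matrix.map_mul, h X, Matrix.map_mul,
      lamTr_map_algebraMap]

theorem stdPiece_u (t₀ : LamInv R (Matrix (Fin n) (Fin n) R) lam)
    (w : Matrix (Fin n) (Fin n) R) (hw : IsUnit w) (h : ∀ X, t₀ X * w = w * lamTr lam X)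
    (S' : Type u) [CommRing S'] [Algebra S S'] :
    (stdPiece lam n t₀ w hw h S').u = w.map (algebraMap R (S' ⊗[S] R)) := rfl

end Std

section Idem

variable {Ω : Type*} [CommRing Ω] {n : ℕ} {F : Type*} [FunLike F Ω Ω] [RingHomClass F Ω Ω] (L : F)
  (hL : ∀ x, L (L x) = x) (ε : Ω) (hε : ε * ε = ε) (hLε : L ε = 1 - ε)
  (τ : LamInv Ω (Matrix (Fin n) (Fin n) Ω) L)

include hL hε hLε in
/-- if the centre has an idempotent swapped with its complement, every involution of the matrix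
algebra is isomorphic to the standard one -/
theorem exists_auto_of_idem :
    ∃ f : Matrix (Fin n) (Fin n) Ω ≃ₐ[Ω] Matrix (Fin n) (Fin n) Ω,
      ∀ X, f (τ X) = lamTr L (f X) := by
  have h0 : ε * (1 - ε) = 0 := by rw [mul_sub, mul_one, hε, sub_self]
  have h0' : (1 - ε) * ε = 0 := by rw [mul_comm, h0]
  have h1 : (1 - ε) * (1 - ε) = 1 - ε := by
    rw [sub_mul, one_mul, h0, sub_zero]
  have hL1 : L (1 - ε) = ε := by rw [map_sub, map_one, hLε, sub_sub_cancel]
  let fwd : Matrix (Fin n) (Fin n) Ω → Matrix (Fin n) (Fin n) Ω :=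
    fun X => ε • X + (1 - ε) • lamTr L (τ X)
  let bwd : Matrix (Fin n) (Fin n) Ω → Matrix (Fin n) (Fin n) Ω :=
    fun Y => ε • Y + (1 - ε) • τ (lamTr L Y)
  have hfwd : ∀ X, fwd X = ε • X + (1 - ε) • lamTr L (τ X) := fun X => rfl
  have hbwd : ∀ Y, bwd Y = ε • Y + (1 - ε) • τ (lamTr L Y) := fun Y => rfl
  have hfb : ∀ Y, fwd (bwd Y) = Y := by
    intro Y
    rw [hfwd, hbwd, τ.map_add, τ.map_smul, τ.map_smul, τ.invol, hLε, hL1, lamTr_add, lamTr_smul,
      lamTr_smul, hLε, hL1, lamTr_lamTr L hL, smul_add, smul_add, smul_smul, smul_smul, smul_smul,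
      smul_smul, hε, h0, h0', h1, zero_smul, zero_smul, add_zero, zero_add, ← add_smul]
    simp
  have hbf : ∀ X, bwd (fwd X) = X := by
    intro X
    rw [hbwd, hfwd, lamTr_add, lamTr_smul, lamTr_smul, lamTr_lamTr L hL, hLε, hL1, τ.map_add,
      τ.map_smul, τ.map_smul, τ.invol, hLε, hL1, smul_add, smul_add, smul_smul, smul_smul,
      smul_smul, smul_smul, hε, h0, h0', h1, zero_smul, zero_smul, add_zero, zero_add,
      ← add_smul]
    simp
  let f : Matrix (Fin n) (Fin n) Ω ≃ₐ[Ω] Matrix (Fin n) (Fin n) Ω :=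
    { toFun := fwd
      invFun := bwd
      left_inv := hbf
      right_inv := hfb
      map_mul' := by
        intro X Y
        rw [hfwd, hfwd, hfwd, τ.map_mul, lamTr_mul, add_mul, mul_add, mul_add,
          smul_mul_smul_comm, smul_mul_smul_comm, smul_mul_smul_comm, smul_mul_smul_comm, hε, h0,
          h0', h1, zero_smul, zero_smul, add_zero, zero_add]
      map_add' := by
        intro X Y
        rw [hfwd, hfwd, hfwd, τ.map_add, lamTr_add, smul_add, smul_add]
        abel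
      commutes' := by
        intro ω
        rw [hfwd, τ.map_algebraMap, Algebra.algebraMap_eq_smul_one, Algebra.algebraMap_eq_smul_one,
          lamTr_smul, hL, lamTr_one, ← add_smul]
        simp }
  refine ⟨f, fun X => ?_⟩
  show fwd (τ X) = lamTr L (fwd X)
  rw [hfwd, hfwd, τ.invol, lamTr_add, lamTr_smul, lamTr_smul, lamTr_lamTr L hL, hLε, hL1, add_comm]

end Idem

end Groth.Agent.Lib.R2LeadAzTBase
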