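import Mathlib
import Groth.Agent.Lib.R2LeadAzTBase

/-!
# Normal form of a skew-hermitian `2 × 2` block (lead)
-/

set_option autoImplicit false
set_option linter.style.haveILetI false
set_option linter.unusedSectionVars false

namespace Groth.Agent.Lib.R2LeadAzTBlock

open AzInv Matrix
open Groth.Agent.Lib.R2LeadAzTBase (lamTr_mul lamTr_one)

section Two

variable {Ω : Type*} [CommRing Ω] {F : Type*} [FunLike F Ω Ω] [RingHomClass F Ω Ω] (L : F)

theorem lamTr_fin_two (a b c d : Ω) :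
    lamTr L !![a, b; c, d] = !![L a, L c; L b, L d] := by
  ext i j
  fin_cases i <;> fin_cases j <;> rfl

/-- the standard alternating `2 × 2` matrix -/
def J₀ : Matrix (Fin 2) (Fin 2) Ω := !![0, 1; -1, 0]

/-- normal form of a skew-hermitian `2 × 2` matrix with invertible off-diagonal entry, given a
suitable square root -/
theorem exists_congr_J₀ (hL : ∀ x, L (L x) = x) (h : Matrix (Fin 2) (Fin 2) Ω)
    (hskew : lamTr L h = -h) (β' : Ω) (hβ : h 0 1 * β' = 1) (τ : Ω) (hτ : 2 * τ = 1)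
    (ρ κ ρ' : Ω) (hLρ : L ρ = ρ) (hκ : (1 + ρ) * κ = 1) (hρ' : ρ * ρ' = 1)
    (hρ : ρ * ρ = 1 + h 0 0 * h 1 1 * β' * L β') :
    ∃ g g' : Matrix (Fin 2) (Fin 2) Ω, g * g' = 1 ∧ g' * g = 1 ∧ g * h * lamTr L g = J₀ := by
  obtain ⟨α, hα⟩ : ∃ α, α = h 0 0 := ⟨_, rfl⟩
  obtain ⟨β, hβ0⟩ : ∃ β, β = h 0 1 := ⟨_, rfl⟩
  obtain ⟨γ, hγ⟩ : ∃ γ, γ = h 1 0 := ⟨_, rfl⟩
  obtain ⟨δ, hδ⟩ : ∃ δ, δ = h 1 1 := ⟨_, rfl⟩
  have hh : h = !![α, β; γ, δ] := by
    rw [hα, hβ0, hγ, hδ]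
    exact Matrix.eta_fin_two h
  rw [← hα, ← hδ] at hρ
  rw [← hβ0] at hβ
  -- the relations
  have h00 := congrFun (congrFun hskew 0) 0
  have h01 := congrFun (congrFun hskew 0) 1
  have h11 := congrFun (congrFun hskew 1) 1
  rw [lamTr_apply, Matrix.neg_apply, ← hα] at h00
  rw [lamTr_apply, Matrix.neg_apply, ← hγ, ← hβ0] at h01
  rw [lamTr_apply, Matrix.neg_apply, ← hδ] at h11
  have hγ' : γ = -L β := by
    have := congrArg L h01
    rw [hL, map_neg] at this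
    exact this
  have hLβ : L β * L β' = 1 := by rw [← map_mul, hβ, map_one]
  have hLκ : L κ = κ := by
    have h1 : (1 + ρ) * L κ = 1 := by
      have := congrArg L hκ
      rwa [map_mul, map_add, map_one, hLρ] at this
    calc L κ = ((1 + ρ) * κ) * L κ := by rw [hκ, one_mul]
      _ = κ * ((1 + ρ) * L κ) := by ring
      _ = κ := by rw [h1, mul_one]
  have hLτ : L τ = τ := by
    have h1 : 2 * L τ = 1 := by
      have := congrArg L hτ
      rwa [map_mul, map_ofNat, map_one] at this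
    calc L τ = (2 * τ) * L τ := by rw [hτ, one_mul]
      _ = τ * (2 * L τ) := by ring
      _ = τ := by rw [h1, mul_one]
  -- step 1
  obtain ⟨x, hx⟩ : ∃ x, x = -(α * κ * β') := ⟨_, rfl⟩
  have hLx : L x = α * κ * L β' := by
    rw [hx, map_neg, map_mul, map_mul, h00, hLκ]; ring
  obtain ⟨b₁, hb₁⟩ : ∃ b₁, b₁ = β + L x * δ := ⟨_, rfl⟩
  have hLb₁ : L b₁ = L β - x * δ := by
    rw [hb₁, map_add, map_mul, hL, h11]; ring
  have e1 : !![1, L x; 0, 1] * h * lamTr L !![1, L x; 0, 1] = !![0, b₁; -L b₁, δ] := by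
    rw [lamTr_fin_two, hh, hL, map_one, map_zero]
    ext i j
    fin_cases i <;> fin_cases j <;> simp [Matrix.mul_apply, Fin.sum_univ_two]
    · rw [hLx, hx, hγ']
      linear_combination (-α * (1 + κ * (ρ - 1))) * hκ + α * κ ^ 2 * hρ - α * κ * hLβ
        - α * κ * hβ
    · rw [hb₁]
    · rw [hLb₁, hγ']; ring
  -- `b₁ = β ρ` is a unit
  have hb₁ρ : b₁ = β * ρ := by
    rw [hb₁, hLx]
    linear_combination (β * (ρ - 1)) * hκ - β * κ * hρ - α * κ * L β' * δ * hβ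
  obtain ⟨b₁', hb₁'⟩ : ∃ b₁', b₁' = β' * ρ' := ⟨_, rfl⟩
  have hbb : b₁ * b₁' = 1 := by
    rw [hb₁ρ, hb₁']
    linear_combination ρ * ρ' * hβ + hρ'
  have hLbb : L b₁ * L b₁' = 1 := by rw [← map_mul, hbb, map_one]
  -- step 2
  obtain ⟨z, hz⟩ : ∃ z, z = δ * τ * L b₁' := ⟨_, rfl⟩
  have hLz : L z = -(δ * τ * b₁') := by
    rw [hz, map_mul, map_mul, hL, h11, hLτ]; ring
  have e2 : !![1, 0; L z, 1] * !![0, b₁; -L b₁, δ] * lamTr L !![1, 0; L z, 1] =
      !![0, b₁; -L b₁, 0] := by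
    rw [lamTr_fin_two, hL, map_one, map_zero]
    ext i j
    fin_cases i <;> fin_cases j <;> simp [Matrix.mul_apply, Fin.sum_univ_two]
    rw [hLz, hz]
    linear_combination (-δ * τ) * hbb - δ * τ * hLbb - δ * hτ
  -- step 3
  have e3 : !![1, 0; 0, L b₁'] * !![0, b₁; -L b₁, 0] * lamTr L !![1, 0; 0, L b₁'] = J₀ := by
    rw [lamTr_fin_two, hL, map_one, map_zero, J₀]
    ext i j
    fin_cases i <;> fin_cases j <;> simp [Matrix.mul_apply, Fin.sum_univ_two]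
    · exact hbb
    · rw [mul_comm]; exact hLbb
  refine ⟨!![1, 0; 0, L b₁'] * (!![1, 0; L z, 1] * !![1, L x; 0, 1]),
    !![1, -L x; 0, 1] * (!![1, 0; -L z, 1] * !![1, 0; 0, L b₁]), ?_, ?_, ?_⟩
  · have i1 : !![1, L x; 0, 1] * !![1, -L x; 0, 1] = (1 : Matrix (Fin 2) (Fin 2) Ω) := by
      ext i j
      fin_cases i <;> fin_cases j <;> simp [Matrix.mul_apply, Fin.sum_univ_two]
    have i2 : !![1, 0; L z, 1] * !![1, 0; -L z, 1] = (1 : Matrix (Fin 2) (Fin 2) Ω) := by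
      ext i j
      fin_cases i <;> fin_cases j <;> simp [Matrix.mul_apply, Fin.sum_univ_two]
    have i3 : !![1, 0; 0, L b₁'] * !![1, 0; 0, L b₁] = (1 : Matrix (Fin 2) (Fin 2) Ω) := by
      ext i j
      fin_cases i <;> fin_cases j <;> simp [Matrix.mul_apply, Fin.sum_univ_two]
      rw [mul_comm]; exact hLbb
    calc !![1, 0; 0, L b₁'] * (!![1, 0; L z, 1] * !![1, L x; 0, 1]) *
          (!![1, -L x; 0, 1] * (!![1, 0; -L z, 1] * !![1, 0; 0, L b₁]))
        = !![1, 0; 0, L b₁'] * (!![1, 0; L z, 1] * ((!![1, L x; 0, 1] * !![1, -L x; 0, 1]) *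
            !![1, 0; -L z, 1])) * !![1, 0; 0, L b₁] := by simp only [mul_assoc]
      _ = 1 := by rw [i1, one_mul, i2, mul_one, i3]
  · have i1 : !![1, -L x; 0, 1] * !![1, L x; 0, 1] = (1 : Matrix (Fin 2) (Fin 2) Ω) := by
      ext i j
      fin_cases i <;> fin_cases j <;> simp [Matrix.mul_apply, Fin.sum_univ_two]
    have i2 : !![1, 0; -L z, 1] * !![1, 0; L z, 1] = (1 : Matrix (Fin 2) (Fin 2) Ω) := by
      ext i j
      fin_cases i <;> fin_cases j <;> simp [Matrix.mul_apply, Fin.sum_univ_two]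
    have i3 : !![1, 0; 0, L b₁] * !![1, 0; 0, L b₁'] = (1 : Matrix (Fin 2) (Fin 2) Ω) := by
      ext i j
      fin_cases i <;> fin_cases j <;> simp [Matrix.mul_apply, Fin.sum_univ_two]
      exact hLbb
    calc !![1, -L x; 0, 1] * (!![1, 0; -L z, 1] * !![1, 0; 0, L b₁]) *
          (!![1, 0; 0, L b₁'] * (!![1, 0; L z, 1] * !![1, L x; 0, 1]))
        = !![1, -L x; 0, 1] * (!![1, 0; -L z, 1] * ((!![1, 0; 0, L b₁] * !![1, 0; 0, L b₁']) *
            !![1, 0; L z, 1])) * !![1, L x; 0, 1] := by simp only [mul_assoc]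
      _ = 1 := by rw [i3, one_mul, i2, mul_one, i1]
  · rw [lamTr_mul, lamTr_mul]
    calc !![1, 0; 0, L b₁'] * (!![1, 0; L z, 1] * !![1, L x; 0, 1]) * h *
          (lamTr L !![1, L x; 0, 1] * lamTr L !![1, 0; L z, 1] * lamTr L !![1, 0; 0, L b₁'])
        = !![1, 0; 0, L b₁'] * (!![1, 0; L z, 1] *
            (!![1, L x; 0, 1] * h * lamTr L !![1, L x; 0, 1]) * lamTr L !![1, 0; L z, 1]) *
            lamTr L !![1, 0; 0, L b₁'] := by simp only [mul_assoc]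
      _ = J₀ := by rw [e1, e2, e3]

end Two

end Groth.Agent.Lib.R2LeadAzTBlock
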