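import Mathlib
import Groth.Agent.Lib.R2LeadAzTBase

/-!
# Local isomorphisms of algebras with involution glue (lead)
-/

set_option autoImplicit false
set_option linter.style.haveILetI false
set_option linter.unusedSectionVars false

namespace Groth.Agent.Lib.R2LeadAzTGlue

open TensorProduct AzInv
open Groth.Agent.Lib.R2LeadAzGlobalSplit (pi_faithfullyFlat)

universe u v w w'

section PiTensor

variable (S : Type u) [CommRing S] (A : Type w) [Ring A] [Algebra S A]
  {ι : Type*} [Fintype ι] [DecidableEq ι] (T : ι → Type u) [∀ i, CommRing (T i)]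
  [∀ i, Algebra S (T i)]

/-- the canonical map `(Π T i) ⊗ A → Π (T i ⊗ A)` -/
noncomputable def chiA : ((∀ i, T i) ⊗[S] A) →ₐ[S] (∀ i, T i ⊗[S] A) :=
  AlgHom.pi (fun i => Algebra.TensorProduct.map (Pi.evalAlgHom S T i) (AlgHom.id S A))

theorem chiA_tmul (c : ∀ i, T i) (a : A) (i : ι) : chiA S A T (c ⊗ₜ[S] a) i = c i ⊗ₜ[S] a := rfl

theorem chiA_eq (z : (∀ i, T i) ⊗[S] A) : chiA S A T z = TensorProduct.piLeft S A T z := by
  induction z using TensorProduct.induction_on with
  | zero => simp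
  | add x y hx hy => rw [map_add, map_add, hx, hy]
  | tmul f r =>
    funext i
    have h1 : TensorProduct.piLeft S A T (f ⊗ₜ[S] r) i = f i ⊗ₜ[S] r := by
      simp [TensorProduct.piLeft]
    rw [h1]
    rfl

theorem chiA_bijective : Function.Bijective (chiA S A T) := by
  have : (chiA S A T : ((∀ i, T i) ⊗[S] A) → (∀ i, T i ⊗[S] A)) =
      (TensorProduct.piLeft S A T : ((∀ i, T i) ⊗[S] A) → (∀ i, T i ⊗[S] A)) :=
    funext (chiA_eq S A T)
  rw [this]
  exact (TensorProduct.piLeft S A T).bijective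

/-- the canonical isomorphism `(Π T i) ⊗ A ≃ Π (T i ⊗ A)` -/
noncomputable def chiE : ((∀ i, T i) ⊗[S] A) ≃+* (∀ i, T i ⊗[S] A) :=
  RingEquiv.ofBijective (chiA S A T).toRingHom (chiA_bijective S A T)

theorem chiE_apply (z : (∀ i, T i) ⊗[S] A) : chiE S A T z = chiA S A T z := rfl

end PiTensor

section Glue

variable {S : Type u} {R : Type v} [CommRing S] [CommRing R] [Algebra S R] (lam : R ≃ₐ[S] R)
  {A : Type w} [Ring A] [Algebra S A] [Algebra R A] [IsScalarTower S R A] (t : LamInv R A lam)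
  {A' : Type w'} [Ring A'] [Algebra S A'] [Algebra R A'] [IsScalarTower S R A']
  (t' : LamInv R A' lam)

/-- an isomorphism of algebras with involution over `S'` -/
def IsoOver (S' : Type u) [CommRing S'] [Algebra S S'] : Prop :=
  ∃ f : S' ⊗[S] A ≃ₐ[S'] S' ⊗[S] A',
    (∀ (r : R) (x : S' ⊗[S] A),
      f (((1 : S') ⊗ₜ[S] algebraMap R A r) * x) = ((1 : S') ⊗ₜ[S] algebraMap R A' r) * f x) ∧
    ∀ x : S' ⊗[S] A, f (t.bc S lam S' x) = t'.bc S lam S' (f x)

variable {ι : Type u} [Fintype ι] [DecidableEq ι] (T : ι → Type u) [∀ i, CommRing (T i)]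
  [∀ i, Algebra S (T i)]

theorem chiA_bc (x : (∀ i, T i) ⊗[S] A) (i : ι) :
    chiA S A T (t.bc S lam (∀ i, T i) x) i = t.bc S lam (T i) (chiA S A T x i) := by
  induction x using TensorProduct.induction_on with
  | zero => simp
  | add x y hx hy => rw [map_add, map_add, Pi.add_apply, hx, hy, map_add, Pi.add_apply, map_add]
  | tmul c a => rw [LamInv.bc_tmul, chiA_tmul, chiA_tmul, LamInv.bc_tmul]

theorem isoOver_pi (h : ∀ i, IsoOver lam t t' (T i)) : IsoOver lam t t' (∀ i, T i) := by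
  choose f hf1 hf2 using h
  let Pf : (∀ i, T i ⊗[S] A) ≃+* (∀ i, T i ⊗[S] A') :=
    RingEquiv.piCongrRight (fun i => (f i).toRingEquiv)
  have hPf : ∀ (z : ∀ i, T i ⊗[S] A) (i : ι), Pf z i = f i (z i) := fun z i => rfl
  let F₀ : ((∀ i, T i) ⊗[S] A) ≃+* ((∀ i, T i) ⊗[S] A') :=
    (chiE S A T).trans (Pf.trans (chiE S A' T).symm)
  have hF₀ : ∀ (x : (∀ i, T i) ⊗[S] A) (i : ι), chiA S A' T (F₀ x) i = f i (chiA S A T x i) := by
    intro x i
    have : chiE S A' T (F₀ x) = Pf (chiE S A T x) := by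
      show chiE S A' T ((chiE S A' T).symm (Pf (chiE S A T x))) = _
      rw [RingEquiv.apply_symm_apply]
    rw [← chiE_apply, this, hPf]
    rfl
  have hinj : Function.Injective (chiA S A' T) := (chiA_bijective S A' T).1
  have hf1' : ∀ (i : ι) (r : R), f i ((1 : T i) ⊗ₜ[S] algebraMap R A r) =
      (1 : T i) ⊗ₜ[S] algebraMap R A' r := by
    intro i r
    have := hf1 i r 1
    rwa [mul_one, map_one, mul_one] at this
  let F : ((∀ i, T i) ⊗[S] A) ≃ₐ[∀ i, T i] ((∀ i, T i) ⊗[S] A') :=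
    AlgEquiv.ofRingEquiv (f := F₀) (fun c => by
      apply hinj
      funext i
      rw [hF₀, Algebra.TensorProduct.algebraMap_apply, Algebra.TensorProduct.algebraMap_apply,
        Algebra.algebraMap_self, RingHom.id_apply, chiA_tmul, chiA_tmul]
      have := (f i).commutes (c i)
      rw [Algebra.TensorProduct.algebraMap_apply, Algebra.TensorProduct.algebraMap_apply,
        Algebra.algebraMap_self, RingHom.id_apply] at this
      exact this)
  have hF : ∀ x, F x = F₀ x := fun x => rfl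
  refine ⟨F, ?_, ?_⟩
  · intro r x
    rw [map_mul]
    congr 1
    apply hinj
    funext i
    rw [hF, hF₀, chiA_tmul, chiA_tmul, Pi.one_apply, hf1']
  · intro x
    apply hinj
    funext i
    rw [hF, hF₀, chiA_bc, hf2, chiA_bc, hF, hF₀]

end Glue

section Local

variable {S : Type u} {R : Type v} [CommRing S] [CommRing R] [Algebra S R] (lam : R ≃ₐ[S] R)
  {A : Type w} [Ring A] [Algebra S A] [Algebra R A] [IsScalarTower S R A] (t : LamInv R A lam)
  {A' : Type w'} [Ring A'] [Algebra S A'] [Algebra R A'] [IsScalarTower S R A']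
  (t' : LamInv R A' lam)

/-- the algebras with involution are isomorphic over an étale neighbourhood of `q` -/
def LocIsoAt (q : Ideal S) : Prop :=
  ∃ (S' : Type u) (_ : CommRing S') (_ : Algebra S S') (_ : Algebra.Etale S S') (q' : Ideal S')
    (_ : q'.IsPrime), q'.comap (algebraMap S S') = q ∧ IsoOver lam t t' S'

theorem locIsoEt_of_forall_locIsoAt (h : ∀ q : PrimeSpectrum S, LocIsoAt lam t t' q.asIdeal) :
    LocIsoEt S lam t t' := by
  classical
  simp only [LocIsoAt] at h
  choose T i1 i2 het Q hQp hQc hiso using h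
  let V : PrimeSpectrum S → Set (PrimeSpectrum S) :=
    fun q => Set.range (PrimeSpectrum.comap (algebraMap S (T q)))
  have hVopen : ∀ q, IsOpen (V q) := fun q =>
    (PrimeSpectrum.isOpenMap_comap_of_hasGoingDown_of_finitePresentation
      (R := S) (S := T q)).isOpen_range
  have hqV : ∀ q, q ∈ V q := fun q => ⟨⟨Q q, hQp q⟩, PrimeSpectrum.ext (hQc q)⟩
  obtain ⟨s, hs⟩ := isCompact_univ.elim_finite_subcover V hVopen (fun q _ =>
    Set.mem_iUnion.2 ⟨q, hqV q⟩)
  let ι := {q : PrimeSpectrum S // q ∈ s}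
  let T' : ι → Type u := fun i => T i.1
  haveI : ∀ i : ι, Algebra.Etale S (T' i) := fun i => het i.1
  haveI : ∀ i : ι, Module.Flat S (T' i) := fun i => inferInstance
  have hff : Module.FaithfullyFlat S (∀ i, T' i) := by
    apply pi_faithfullyFlat
    intro m hm
    have hmem : (⟨m, hm.isPrime⟩ : PrimeSpectrum S) ∈ ⋃ q ∈ s, V q := hs (Set.mem_univ _)
    simp only [Set.mem_iUnion] at hmem
    obtain ⟨q, hqs, Q', hQ'⟩ := hmem
    refine ⟨⟨q, hqs⟩, ?_⟩
    haveI := Q'.isPrime
    exact Groth.Agent.Lib.R2LeadInvGlobal.smul_top_ne_top_of_prime Q'.asIdeal m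
      (congrArg PrimeSpectrum.asIdeal hQ')
  obtain ⟨F, hF1, hF2⟩ := isoOver_pi lam t t' T' (fun i => hiso i.1)
  exact ⟨∀ i, T' i, inferInstance, inferInstance, inferInstance, hff, F, hF1, hF2⟩

end Local

end Groth.Agent.Lib.R2LeadAzTGlue
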