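import Mathlib
import Groth.Agent.Lib.R2LeadAzTBase
import Groth.Agent.Lib.R2LeadAzFixFibre

/-!
# Local normal forms of involutions of Azumaya algebras: first steps (lead)
-/

set_option autoImplicit false
set_option linter.style.haveILetI false
set_option linter.unusedSectionVars false

namespace Groth.Agent.Lib.R2LeadAzTLocal

open TensorProduct AzInv
open Groth.Agent.Lib.R2LeadAzTQuad (lamB lamB_tmul lamB_lamB)
open Groth.Agent.Lib.R2LeadAzTBase
open Groth.Agent.Lib.R2LeadAzFixBase (Setup LocSplit)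
open Groth.Agent.Lib.R2LeadAzCharpoly (splitBC splitBC_one_tmul)

attribute [local instance] Algebra.TensorProduct.rightAlgebra

universe u v w w'

section Ops

variable {S : Type u} {R : Type v} [CommRing S] [CommRing R] [Algebra S R] {lam : R ≃ₐ[S] R}
  {A : Type w} [Ring A] [Algebra R A] {t : LamInv R A lam}
  {n : ℕ} {S' S'' : Type u} [CommRing S'] [Algebra S S'] [CommRing S''] [Algebra S S'']

/-- a piece from a pre-piece whose matrix becomes invertible after base change -/
noncomputable def pieceOfMap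
    (σ : ((S' ⊗[S] R) ⊗[R] A) ≃ₐ[S' ⊗[S] R] Matrix (Fin n) (Fin n) (S' ⊗[S] R))
    (u : Matrix (Fin n) (Fin n) (S' ⊗[S] R))
    (conj : ∀ a : A, σ (1 ⊗ₜ[R] t a) * u = u * lamTr (lamB lam S') (σ (1 ⊗ₜ[R] a)))
    (g : S' →ₐ[S] S'') (hu : IsUnit (u.map (gOm (R := R) g))) : Piece lam t n S'' where
  σ := splitBC σ (gOm g)
  u := u.map (gOm g)
  hu := hu
  conj := by
    intro a
    rw [splitBC_one_tmul, splitBC_one_tmul, ← Matrix.map_mul, conj a, Matrix.map_mul, lamTr_map]

/-- scaling the hermitian matrix of a piece by a unit -/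
noncomputable def _root_.Groth.Agent.Lib.R2LeadAzTBase.Piece.scale (P : Piece lam t n S') (c : S' ⊗[S] R) (hc : IsUnit c) :
    Piece lam t n S' where
  σ := P.σ
  u := c • P.u
  hu := by
    rw [Matrix.isUnit_iff_isUnit_det, Matrix.det_smul]
    exact (hc.pow _).mul ((Matrix.isUnit_iff_isUnit_det _).1 P.hu)
  conj := by
    intro a
    rw [Matrix.mul_smul, P.conj a, Matrix.smul_mul]

/-- conjugation by an invertible matrix, as an algebra automorphism -/
noncomputable def conjEquiv {Ω : Type*} [CommRing Ω] (g g' : Matrix (Fin n) (Fin n) Ω)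
    (h1 : g * g' = 1) (h2 : g' * g = 1) :
    Matrix (Fin n) (Fin n) Ω ≃ₐ[Ω] Matrix (Fin n) (Fin n) Ω where
  toFun X := g * X * g'
  invFun Y := g' * Y * g
  left_inv X := by
    show g' * (g * X * g') * g = X
    rw [← mul_assoc, ← mul_assoc, h2, one_mul, mul_assoc, h2, mul_one]
  right_inv Y := by
    show g * (g' * Y * g) * g' = Y
    rw [← mul_assoc, ← mul_assoc, h1, one_mul, mul_assoc, h1, mul_one]
  map_mul' X Y := by
    show g * (X * Y) * g' = (g * X * g') * (g * Y * g')
    calc g * (X * Y) * g' = g * X * (1 * (Y * g')) := by rw [one_mul]; simp only [mul_assoc]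
      _ = g * X * ((g' * g) * (Y * g')) := by rw [h2]
      _ = (g * X * g') * (g * Y * g') := by simp only [mul_assoc]
  map_add' X Y := by
    show g * (X + Y) * g' = g * X * g' + g * Y * g'
    rw [mul_add, add_mul]
  commutes' ω := by
    show g * (algebraMap Ω _ ω) * g' = algebraMap Ω _ ω
    rw [← Algebra.commutes, mul_assoc, h1, mul_one]

theorem conjEquiv_apply {Ω : Type*} [CommRing Ω] (g g' : Matrix (Fin n) (Fin n) Ω)
    (h1 : g * g' = 1) (h2 : g' * g = 1) (X : Matrix (Fin n) (Fin n) Ω) :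
    conjEquiv g g' h1 h2 X = g * X * g' := rfl

/-- changing the basis of a piece -/
noncomputable def _root_.Groth.Agent.Lib.R2LeadAzTBase.Piece.congr (P : Piece lam t n S') (g g' : Matrix (Fin n) (Fin n) (S' ⊗[S] R))
    (h1 : g * g' = 1) (h2 : g' * g = 1) : Piece lam t n S' where
  σ := P.σ.trans (conjEquiv g g' h1 h2)
  u := g * P.u * lamTr (lamB lam S') g
  hu := by
    have hg : IsUnit g := ⟨⟨g, g', h1, h2⟩, rfl⟩
    have hg' : IsUnit (lamTr (lamB lam S') g) := by
      refine ⟨⟨lamTr (lamB lam S') g, lamTr (lamB lam S') g', ?_, ?_⟩, rfl⟩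
      · rw [← lamTr_mul, h2, lamTr_one]
      · rw [← lamTr_mul, h1, lamTr_one]
    exact (hg.mul P.hu).mul hg'
  conj := by
    intro a
    rw [AlgEquiv.trans_apply, AlgEquiv.trans_apply, conjEquiv_apply, conjEquiv_apply]
    have h3 : lamTr (lamB lam S') g * lamTr (lamB lam S') g' = 1 := by
      rw [← lamTr_mul, h2, lamTr_one]
    calc g * P.σ (1 ⊗ₜ[R] t a) * g' * (g * P.u * lamTr (lamB lam S') g)
        = g * (P.σ (1 ⊗ₜ[R] t a) * ((g' * g) * P.u)) * lamTr (lamB lam S') g := by
          simp only [mul_assoc]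
      _ = g * (P.u * lamTr (lamB lam S') (P.σ (1 ⊗ₜ[R] a))) * lamTr (lamB lam S') g := by
          rw [h2, one_mul, P.conj a]
      _ = g * P.u * (1 * (lamTr (lamB lam S') (P.σ (1 ⊗ₜ[R] a)) * lamTr (lamB lam S') g)) := by
          rw [one_mul]; simp only [mul_assoc]
      _ = g * P.u * lamTr (lamB lam S') g *
            lamTr (lamB lam S') (g * P.σ (1 ⊗ₜ[R] a) * g') := by
          rw [← h3, lamTr_mul, lamTr_mul]
          simp only [mul_assoc]

theorem _root_.Groth.Agent.Lib.R2LeadAzTBase.Piece.congr_u (P : Piece lam t n S') (g g' : Matrix (Fin n) (Fin n) (S' ⊗[S] R))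
    (h1 : g * g' = 1) (h2 : g' * g = 1) :
    (P.congr g g' h1 h2).u = g * P.u * lamTr (lamB lam S') g := rfl

theorem _root_.Groth.Agent.Lib.R2LeadAzTBase.Piece.scale_u (P : Piece lam t n S') (c : S' ⊗[S] R) (hc : IsUnit c) :
    (P.scale c hc).u = c • P.u := rfl

end Ops

section Scalar

variable {S : Type u} {R : Type v} [CommRing S] [CommRing R] [Algebra S R] {lam : R ≃ₐ[S] R}
  (hlam : ∀ r, lam (lam r) = r)
  {A : Type w} [Ring A] [Algebra S A] [Algebra R A] [IsScalarTower S R A] {t : LamInv R A lam}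
  {n : ℕ} {S' : Type u} [CommRing S'] [Algebra S S']

include hlam in
/-- the matrix of a piece is hermitian up to a unit scalar of norm one -/
theorem _root_.Groth.Agent.Lib.R2LeadAzTBase.Piece.exists_scalar (hn : 0 < n) (P : Piece lam t n S') :
    ∃ e : S' ⊗[S] R, IsUnit e ∧ lamB lam S' e * e = 1 ∧
      lamTr (lamB lam S') P.u = e • P.u := by
  obtain ⟨⟨u, v, huv, hvu⟩, hu⟩ := P.hu
  change u = P.u at hu
  have hL := lamB_lamB lam hlam S'
  obtain ⟨τ, hτ⟩ : ∃ τ : Matrix (Fin n) (Fin n) (S' ⊗[S] R) → Matrix (Fin n) (Fin n) (S' ⊗[S] R),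
      τ = fun X => P.σ (TT lam t S' (P.σ.symm X)) := ⟨_, rfl⟩
  have h1 : ∀ X, τ X * u = u * lamTr (lamB lam S') X := by
    intro X
    have := P.conj_all (P.σ.symm X)
    rw [AlgEquiv.apply_symm_apply, ← hu] at this
    rw [hτ]
    exact this
  have hττ : ∀ X, τ (τ X) = X := by
    intro X
    rw [hτ]
    show P.σ (TT lam t S' (P.σ.symm (P.σ (TT lam t S' (P.σ.symm X))))) = X
    rw [AlgEquiv.symm_apply_apply, TT_TT, AlgEquiv.apply_symm_apply]
  have h2 : ∀ X, lamTr (lamB lam S') u * lamTr (lamB lam S') (τ X) =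
      X * lamTr (lamB lam S') u := by
    intro X
    have := congrArg (lamTr (lamB lam S')) (h1 X)
    rw [lamTr_mul, lamTr_mul, lamTr_lamTr _ hL] at this
    exact this
  have h3 : ∀ X, X * u = u * lamTr (lamB lam S') (τ X) := by
    intro X
    have := h1 (τ X)
    rw [hττ] at this
    exact this
  have hvL : lamTr (lamB lam S') v * lamTr (lamB lam S') u = 1 := by
    rw [← lamTr_mul, huv, lamTr_one]
  have hLv : lamTr (lamB lam S') u * lamTr (lamB lam S') v = 1 := by
    rw [← lamTr_mul, hvu, lamTr_one]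
  obtain ⟨z, hz⟩ : ∃ z, z = u * lamTr (lamB lam S') v := ⟨_, rfl⟩
  have hcomm : ∀ X, X * z = z * X := by
    intro X
    have h4 : lamTr (lamB lam S') (τ X) * lamTr (lamB lam S') v =
        lamTr (lamB lam S') v * X := by
      calc lamTr (lamB lam S') (τ X) * lamTr (lamB lam S') v
          = (lamTr (lamB lam S') v * lamTr (lamB lam S') u) *
              lamTr (lamB lam S') (τ X) * lamTr (lamB lam S') v := by rw [hvL, one_mul]
        _ = lamTr (lamB lam S') v * (lamTr (lamB lam S') u * lamTr (lamB lam S') (τ X)) *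
              lamTr (lamB lam S') v := by simp only [mul_assoc]
        _ = lamTr (lamB lam S') v * X * (lamTr (lamB lam S') u * lamTr (lamB lam S') v) := by
            rw [h2]; simp only [mul_assoc]
        _ = lamTr (lamB lam S') v * X := by rw [hLv, mul_one]
    rw [hz, ← mul_assoc, h3, mul_assoc, h4, mul_assoc]
  have hscal : z ∈ Set.range (Matrix.scalar (Fin n)) := by
    rw [Matrix.mem_range_scalar_iff_commute_single']
    intro i j
    exact hcomm _
  obtain ⟨e', he'⟩ := hscal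
  have hz' : z = e' • (1 : Matrix (Fin n) (Fin n) (S' ⊗[S] R)) := by
    rw [← he', Matrix.scalar_apply, Matrix.smul_one_eq_diagonal]
  have hu' : u = e' • lamTr (lamB lam S') u := by
    have : z * lamTr (lamB lam S') u = u := by rw [hz, mul_assoc, hvL, mul_one]
    calc u = z * lamTr (lamB lam S') u := this.symm
      _ = e' • lamTr (lamB lam S') u := by rw [hz', smul_mul_assoc, one_mul]
  obtain ⟨e, he⟩ : ∃ e, e = lamB lam S' e' := ⟨_, rfl⟩
  have hLu : lamTr (lamB lam S') u = e • u := by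
    conv_lhs => rw [hu']
    rw [lamTr_smul, lamTr_lamTr _ hL, he]
  have hee' : e' * e = 1 := by
    have h5 : u = (e' * e) • u := by
      conv_lhs => rw [hu', hLu, smul_smul]
    have h6 : (1 : Matrix (Fin n) (Fin n) (S' ⊗[S] R)) = (e' * e) • 1 := by
      calc (1 : Matrix (Fin n) (Fin n) (S' ⊗[S] R)) = u * v := huv.symm
        _ = ((e' * e) • u) * v := by rw [← h5]
        _ = (e' * e) • 1 := by rw [smul_mul_assoc, huv]
    have h7 := congrFun (congrFun h6 ⟨0, hn⟩) ⟨0, hn⟩
    rw [Matrix.smul_apply, Matrix.one_apply_eq, smul_eq_mul, mul_one] at h7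
    exact h7.symm
  refine ⟨e, IsUnit.of_mul_eq_one _ (by rw [mul_comm]; exact hee'), ?_, ?_⟩
  · rw [he, hL, ← he]
    exact hee'
  · rw [← hu]
    exact hLu

end Scalar

section StepA

variable {S : Type u} {R : Type v} [CommRing S] [CommRing R] [Algebra S R] (lam : R ≃ₐ[S] R)
  (hlam : ∀ r, lam (lam r) = r) (hfix : RInv.IsFixedRing S R lam.toRingEquiv)
  {A : Type w} [Ring A] [Algebra S A] [Algebra R A] [IsScalarTower S R A] (t : LamInv R A lam)
  {n : ℕ}

/-- `τ ∘ lamTr`, an algebra automorphism -/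
noncomputable def psiOf {Ω : Type*} [CommRing Ω] {F : Type*} [FunLike F Ω Ω] [RingHomClass F Ω Ω]
    (L : F) (hL : ∀ x, L (L x) = x) (τ : LamInv Ω (Matrix (Fin n) (Fin n) Ω) L) :
    Matrix (Fin n) (Fin n) Ω ≃ₐ[Ω] Matrix (Fin n) (Fin n) Ω where
  toFun X := τ (lamTr L X)
  invFun Y := lamTr L (τ Y)
  left_inv X := by
    show lamTr L (τ (τ (lamTr L X))) = X
    rw [τ.invol, lamTr_lamTr L hL]
  right_inv Y := by
    show τ (lamTr L (lamTr L (τ Y))) = Y
    rw [lamTr_lamTr L hL, τ.invol]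
  map_mul' X Y := by
    show τ (lamTr L (X * Y)) = τ (lamTr L X) * τ (lamTr L Y)
    rw [lamTr_mul, τ.map_mul]
  map_add' X Y := by
    show τ (lamTr L (X + Y)) = τ (lamTr L X) + τ (lamTr L Y)
    rw [lamTr_add, τ.map_add]
  commutes' ω := by
    show τ (lamTr L (algebraMap Ω _ ω)) = algebraMap Ω _ ω
    rw [Algebra.algebraMap_eq_smul_one, lamTr_smul, lamTr_one, τ.map_smul, τ.map_one, hL]

theorem exists_prime_away {T : Type*} [CommRing T] (q : Ideal T) [q.IsPrime] {s : T}
    (hs : s ∉ q) : ∃ q' : Ideal (Localization.Away s), q'.IsPrime ∧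
      q'.comap (algebraMap T (Localization.Away s)) = q := by
  have hdisj := Groth.Agent.Lib.R2LeadAzFixFree.disjoint_powers hs
  exact ⟨Ideal.map (algebraMap T (Localization.Away s)) q,
    IsLocalization.isPrime_of_isPrime_disjoint (Submonoid.powers s) _ q inferInstance hdisj,
    IsLocalization.under_map_of_isPrime_disjoint (Submonoid.powers s) _ inferInstance hdisj⟩

include hlam hfix in
/-- every involution is, étale locally on `S`, a twisted `lam`-transpose -/
theorem exists_piece_at (hn : 0 < n) (hA : IsAzumayaDeg R A n) (q : Ideal S) [q.IsPrime] :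
    ∃ (S' : Type u) (_ : CommRing S') (_ : Algebra S S') (_ : Algebra.Etale S S') (q' : Ideal S')
      (_ : q'.IsPrime), q'.comap (algebraMap S S') = q ∧ Nonempty (Piece lam t n S') := by
  let h : Setup S R A n := ⟨lam, hlam, hfix, hA.1, hA.2, hn⟩
  obtain ⟨S₁, _, _, het₁, q₁, hq₁p, hq₁, ⟨σ⟩⟩ := Groth.Agent.Lib.R2LeadAzFixFibre.locSplit h q
  haveI : Module.Flat S S₁ := inferInstance
  have hfix₁ : RInv.IsFixedRing S₁ (S₁ ⊗[S] R) (lamB lam S₁).toRingEquiv := (h.bc S₁).hfix
  have hL := lamB_lamB lam hlam S₁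
  haveI : Nonempty (Fin n) := ⟨⟨0, hn⟩⟩
  haveI : IsAzumaya (S₁ ⊗[S] R) (Matrix (Fin n) (Fin n) (S₁ ⊗[S] R)) := IsAzumaya.matrix _ _
  obtain ⟨c, c', s, hs, hc, hcc', hc'c⟩ :=
    Groth.Agent.Lib.R2LeadAzInner.exists_local (lamB lam S₁) hL hfix₁
      (psiOf (lamB lam S₁) hL (tau lam t S₁ σ)) q₁
  haveI : IsScalarTower S S₁ (Localization.Away s) := inferInstance
  haveI : Algebra.Etale S (Localization.Away s) := Algebra.Etale.comp S S₁ (Localization.Away s)
  obtain ⟨q₂, hq₂p, hq₂⟩ := exists_prime_away q₁ hs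
  let g : S₁ →ₐ[S] Localization.Away s := IsScalarTower.toAlgHom S S₁ (Localization.Away s)
  have hconj : ∀ a : A, σ (1 ⊗ₜ[R] t a) * c = c * lamTr (lamB lam S₁) (σ (1 ⊗ₜ[R] a)) := by
    intro a
    have := hc (lamTr (lamB lam S₁) (σ (1 ⊗ₜ[R] a)))
    have h1 : psiOf (lamB lam S₁) hL (tau lam t S₁ σ) (lamTr (lamB lam S₁) (σ (1 ⊗ₜ[R] a))) =
        σ (1 ⊗ₜ[R] t a) := by
      show tau lam t S₁ σ (lamTr (lamB lam S₁) (lamTr (lamB lam S₁) (σ (1 ⊗ₜ[R] a)))) = _
      rw [lamTr_lamTr _ hL, tau_sigma, TT_tmul, map_one]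
    rw [h1] at this
    exact this
  have hunit : IsUnit (c.map (gOm (R := R) g)) := by
    have hsu : IsUnit (gOm (R := R) g (algebraMap S₁ (S₁ ⊗[S] R) s)) := by
      have : gOm (R := R) g (algebraMap S₁ (S₁ ⊗[S] R) s) =
          algebraMap (Localization.Away s) (Localization.Away s ⊗[S] R)
            (algebraMap S₁ (Localization.Away s) s) := rfl
      rw [this]
      exact (IsLocalization.Away.algebraMap_isUnit s).map _
    have hm : ∀ X : Matrix (Fin n) (Fin n) (S₁ ⊗[S] R),
        (s • X).map (gOm (R := R) g) =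
          gOm (R := R) g (algebraMap S₁ (S₁ ⊗[S] R) s) • X.map (gOm (R := R) g) := by
      intro X
      ext i j
      rw [Matrix.map_apply, Matrix.smul_apply, Matrix.smul_apply, Matrix.map_apply,
        Algebra.smul_def, map_mul, smul_eq_mul]
    have e1 : c.map (gOm (R := R) g) * c'.map (gOm (R := R) g) =
        gOm (R := R) g (algebraMap S₁ (S₁ ⊗[S] R) s) • 1 := by
      rw [← Matrix.map_mul, hcc', hm, Matrix.map_one _ (map_zero _) (map_one _)]
    have e2 : c'.map (gOm (R := R) g) * c.map (gOm (R := R) g) =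
        gOm (R := R) g (algebraMap S₁ (S₁ ⊗[S] R) s) • 1 := by
      rw [← Matrix.map_mul, hc'c, hm, Matrix.map_one _ (map_zero _) (map_one _)]
    obtain ⟨w, hw⟩ := hsu.exists_right_inv
    refine ⟨⟨c.map (gOm (R := R) g), w • c'.map (gOm (R := R) g), ?_, ?_⟩, rfl⟩
    · rw [Matrix.mul_smul, e1, smul_smul, mul_comm, hw, one_smul]
    · rw [Matrix.smul_mul, e2, smul_smul, mul_comm, hw, one_smul]
  exact ⟨Localization.Away s, inferInstance, inferInstance, inferInstance, q₂, hq₂p,
    by rw [← hq₁, ← hq₂, Ideal.comap_comap]; rfl, ⟨pieceOfMap σ c hconj g hunit⟩⟩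

end StepA

end Groth.Agent.Lib.R2LeadAzTLocal
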