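import Mathlib
import Groth.Agent.Lib.R2LeadAzTLocal
import Groth.Agent.Lib.R2LeadAzTGlue
import Groth.Agent.Lib.R2H7HermDiag
import Groth.Agent.Lib.Helper15QuadEtale
import Groth.Agent.Lib.R2LeadInvForms

/-!
# Local normal forms of involutions of Azumaya algebras: diagonalisation (lead)
-/

set_option autoImplicit false
set_option linter.style.haveILetI false
set_option linter.unusedSectionVars false

namespace Groth.Agent.Lib.R2LeadAzTDiag

open TensorProduct AzInv
open Groth.Agent.Lib.R2LeadAzTQuad (lamB lamB_tmul lamB_lamB)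
open Groth.Agent.Lib.R2LeadAzTBase Groth.Agent.Lib.R2LeadAzTLocal
open Groth.Agent.Lib.R2LeadAzFixBase (Setup)
open Groth.Agent.Lib.R2LeadInvForms (HasSqrtCovers exists_sqrt_cover)

attribute [local instance] Algebra.TensorProduct.rightAlgebra

universe u v w w'

section Spread

variable {T : Type*} [CommRing T] (M : Submonoid T) {L : Type*} [CommRing L] [Algebra T L]
  [IsLocalization M L]

theorem exists_integer_matrix' {n : ℕ} (v : Matrix (Fin n) (Fin n) L) :
    ∃ (b : M) (v₀ : Matrix (Fin n) (Fin n) T),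
      v₀.map (algebraMap T L) = algebraMap T L (b : T) • v := by
  obtain ⟨b, hb⟩ := IsLocalization.exist_integer_multiples M
    (Finset.univ : Finset (Fin n × Fin n)) (fun p => v p.1 p.2)
  choose x hx using fun p => hb p (Finset.mem_univ p)
  refine ⟨b, Matrix.of fun i j => x (i, j), ?_⟩
  ext i j
  simp only [Matrix.map_apply, Matrix.of_apply, Matrix.smul_apply]
  rw [hx (i, j), Algebra.smul_def, smul_eq_mul]

theorem exists_kill_matrix {n : ℕ} (X : Matrix (Fin n) (Fin n) T)
    (P : Fin n → Fin n → Prop) (hX : ∀ i j, P i j → algebraMap T L (X i j) = 0) :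
    ∃ c : M, ∀ i j, P i j → (c : T) * X i j = 0 := by
  classical
  have h1 : ∀ p : Fin n × Fin n, ∃ c : M, P p.1 p.2 → (c : T) * X p.1 p.2 = 0 := by
    intro p
    by_cases hp : P p.1 p.2
    · obtain ⟨c, hc⟩ := (IsLocalization.map_eq_zero_iff M L _).1 (hX p.1 p.2 hp)
      exact ⟨c, fun _ => hc⟩
    · exact ⟨1, fun h => absurd h hp⟩
  choose c hc using h1
  refine ⟨∏ p, c p, fun i j hij => ?_⟩
  have hdvd : ((c (i, j) : M) : T) ∣ ((∏ p, c p : M) : T) := by
    rw [Submonoid.coe_finset_prod]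
    exact Finset.dvd_prod_of_mem (fun p => ((c p : M) : T)) (Finset.mem_univ (i, j))
  obtain ⟨k, hk⟩ := hdvd
  rw [hk, mul_comm ((c (i, j) : M) : T) k, mul_assoc, hc (i, j) hij, mul_zero]

theorem lamTr_map_of_comp {n : ℕ} (lamT : T →+* T) (lamL : L →+* L)
    (hcomp : ∀ x, lamL (algebraMap T L x) = algebraMap T L (lamT x))
    (X : Matrix (Fin n) (Fin n) T) :
    (lamTr lamT X).map (algebraMap T L) = lamTr lamL (X.map (algebraMap T L)) := by
  ext i j
  simp only [Matrix.map_apply, lamTr_apply, hcomp]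

/-- spreading out a diagonalisation from a localisation -/
theorem spread (lamT : T →+* T) (lamL : L →+* L)
    (hcomp : ∀ x, lamL (algebraMap T L x) = algebraMap T L (lamT x))
    (hM : ∀ m ∈ M, lamT m = m) {n : ℕ}
    (u : Matrix (Fin n) (Fin n) T)
    (v v' : Matrix (Fin n) (Fin n) L) (hvv' : v * v' = 1) (hv'v : v' * v = 1)
    (hoff : ∀ i j, i ≠ j → (lamTr lamL v * u.map (algebraMap T L) * v) i j = 0) :
    ∃ m ∈ M, ∃ v₀ w₀ : Matrix (Fin n) (Fin n) T, v₀ * w₀ = m • 1 ∧ w₀ * v₀ = m • 1 ∧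
      ∀ i j, i ≠ j → m * (lamTr lamT v₀ * u * v₀) i j = 0 := by
  obtain ⟨b, v₁, hv₁⟩ := exists_integer_matrix' M v
  obtain ⟨b', w₁, hw₁⟩ := exists_integer_matrix' M v'
  have e1 : (v₁ * w₁ - ((b : T) * (b' : T)) • 1).map (algebraMap T L) = 0 := by
    rw [Matrix.map_sub (f := algebraMap T L) (fun _ _ => map_sub _ _ _), Matrix.map_mul, hv₁, hw₁,
      Matrix.smul_mul, Matrix.mul_smul, hvv', smul_smul]
    have : (((b : T) * (b' : T)) • (1 : Matrix (Fin n) (Fin n) T)).map (algebraMap T L) =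
        (algebraMap T L b * algebraMap T L b') • 1 := by
      ext i j
      simp only [Matrix.map_apply, Matrix.smul_apply, smul_eq_mul, map_mul, Matrix.one_apply]
      split_ifs <;> simp
    rw [this, sub_self]
  have e2 : (w₁ * v₁ - ((b : T) * (b' : T)) • 1).map (algebraMap T L) = 0 := by
    rw [Matrix.map_sub (f := algebraMap T L) (fun _ _ => map_sub _ _ _), Matrix.map_mul, hv₁, hw₁,
      Matrix.smul_mul, Matrix.mul_smul, hv'v, smul_smul]
    have : (((b : T) * (b' : T)) • (1 : Matrix (Fin n) (Fin n) T)).map (algebraMap T L) =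
        (algebraMap T L b' * algebraMap T L b) • 1 := by
      ext i j
      simp only [Matrix.map_apply, Matrix.smul_apply, smul_eq_mul, map_mul, Matrix.one_apply]
      split_ifs <;> simp [mul_comm]
    rw [this, sub_self]
  obtain ⟨c₁, hc₁⟩ := exists_kill_matrix M (L := L) (v₁ * w₁ - ((b : T) * (b' : T)) • 1)
    (fun _ _ => True) (fun i j _ => by
      have := congrFun (congrFun e1 i) j
      rwa [Matrix.map_apply] at this)
  obtain ⟨c₂, hc₂⟩ := exists_kill_matrix M (L := L) (w₁ * v₁ - ((b : T) * (b' : T)) • 1)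
    (fun _ _ => True) (fun i j _ => by
      have := congrFun (congrFun e2 i) j
      rwa [Matrix.map_apply] at this)
  have hbL : lamL (algebraMap T L b) = algebraMap T L b := by rw [hcomp, hM b b.2]
  obtain ⟨c₃, hc₃⟩ := exists_kill_matrix M (L := L) (lamTr lamT v₁ * u * v₁)
    (fun i j => i ≠ j) (fun i j hij => by
      have h3 : (lamTr lamT v₁ * u * v₁).map (algebraMap T L) =
          (algebraMap T L b * algebraMap T L b) •
            (lamTr lamL v * u.map (algebraMap T L) * v) := by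
        rw [Matrix.map_mul, Matrix.map_mul, lamTr_map_of_comp lamT lamL hcomp, hv₁,
          lamTr_smul, hbL, Matrix.smul_mul, Matrix.smul_mul, Matrix.mul_smul, smul_smul]
      have := congrFun (congrFun h3 i) j
      rw [Matrix.map_apply, Matrix.smul_apply, hoff i j hij, smul_zero] at this
      exact this)
  obtain ⟨k, hk⟩ : ∃ k : T, k = (c₁ : T) * (c₂ : T) * (c₃ : T) := ⟨_, rfl⟩
  have hkM : k ∈ M := by
    rw [hk]
    exact M.mul_mem (M.mul_mem c₁.2 c₂.2) c₃.2
  refine ⟨k * ((b : T) * (b' : T)), M.mul_mem hkM (M.mul_mem b.2 b'.2), v₁, k • w₁, ?_, ?_, ?_⟩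
  · ext i j
    have := hc₁ i j trivial
    rw [Matrix.sub_apply, mul_sub, sub_eq_zero] at this
    rw [Matrix.mul_smul, Matrix.smul_apply, smul_eq_mul, hk, mul_assoc (c₁ : T), mul_comm (c₁ : T),
      mul_assoc, this, Matrix.smul_apply, Matrix.smul_apply, smul_eq_mul, smul_eq_mul]
    ring
  · ext i j
    have := hc₂ i j trivial
    rw [Matrix.sub_apply, mul_sub, sub_eq_zero] at this
    rw [Matrix.smul_mul, Matrix.smul_apply, smul_eq_mul, hk, mul_comm (c₁ : T) (c₂ : T),
      mul_assoc (c₂ : T), mul_comm (c₂ : T), mul_assoc, this, Matrix.smul_apply,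
      Matrix.smul_apply, smul_eq_mul, smul_eq_mul]
    ring
  · intro i j hij
    have := hc₃ i j hij
    rw [hk]
    calc (c₁ : T) * (c₂ : T) * (c₃ : T) * ((b : T) * (b' : T)) * (lamTr lamT v₁ * u * v₁) i j
        = (c₁ : T) * (c₂ : T) * ((b : T) * (b' : T)) * ((c₃ : T) * (lamTr lamT v₁ * u * v₁) i j) := by
          ring
      _ = 0 := by rw [this, mul_zero]

end Spread

section OddScale

variable {Ω : Type*} [CommRing Ω] {n : ℕ} {F : Type*} [FunLike F Ω Ω] [RingHomClass F Ω Ω] (L : F)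
  (hL : ∀ x, L (L x) = x)

theorem det_lamTr (X : Matrix (Fin n) (Fin n) Ω) : (lamTr L X).det = L X.det := by
  show (Matrix.transpose (X.map L)).det = L X.det
  rw [Matrix.det_transpose]
  exact (RingHom.map_det (L : Ω →+* Ω) X).symm

include hL in
/-- in odd degree an `e`-hermitian matrix can be rescaled to a hermitian one -/
theorem exists_scale_of_odd (hn : Odd n) (u : Matrix (Fin n) (Fin n) Ω) (hu : IsUnit u) (e : Ω)
    (he : IsUnit e) (hee : L e * e = 1) (hue : lamTr L u = e • u) :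
    ∃ c : Ω, IsUnit c ∧ lamTr L (c • u) = c • u := by
  obtain ⟨⟨u, v, huv, hvu⟩, rfl⟩ := hu
  change lamTr L u = e • u at hue
  have hve : lamTr L v = L e • v := by
    have h1 : lamTr L v * lamTr L u = 1 := by rw [← lamTr_mul, huv, lamTr_one]
    calc lamTr L v = lamTr L v * ((e • u) * (L e • v)) := by
          rw [smul_mul_smul_comm, huv, mul_comm e, hee, one_smul, mul_one]
      _ = (lamTr L v * lamTr L u) * (L e • v) := by rw [hue, mul_assoc]
      _ = L e • v := by rw [h1, one_mul]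
  have hdet : L v.det = (L e) ^ n * v.det := by
    rw [← det_lamTr, hve, Matrix.det_smul, Fintype.card_fin]
  obtain ⟨k, hk⟩ := hn
  refine ⟨v.det * (L e) ^ k, ?_, ?_⟩
  · have hvdet : IsUnit v.det := by
      have : IsUnit v := ⟨⟨v, u, hvu, huv⟩, rfl⟩
      exact (Matrix.isUnit_iff_isUnit_det _).1 this
    have hLe : IsUnit (L e) := IsUnit.of_mul_eq_one _ hee
    exact hvdet.mul (hLe.pow k)
  · show lamTr L ((v.det * (L e) ^ k) • u) = (v.det * (L e) ^ k) • u
    rw [lamTr_smul, hue, smul_smul]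
    congr 1
    rw [map_mul, map_pow, hL, hdet]
    have hpow : (L e) ^ n = (L e) ^ (2 * k + 1) := by rw [hk]
    rw [hpow]
    calc (L e) ^ (2 * k + 1) * v.det * e ^ k * e
        = v.det * (L e) ^ k * ((L e * e) ^ (k + 1)) := by ring
      _ = v.det * (L e) ^ k := by rw [hee, one_pow, mul_one]

end OddScale

section StepE

variable {S : Type u} {R : Type v} [CommRing S] [CommRing R] [Algebra S R] (lam : R ≃ₐ[S] R)
  (hlam : ∀ r, lam (lam r) = r) (hfix : RInv.IsFixedRing S R lam.toRingEquiv)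
  {A : Type w} [Ring A] [Algebra S A] [Algebra R A] [IsScalarTower S R A] (t : LamInv R A lam)
  {n : ℕ}

theorem map_smul_one {Ω Ω' : Type*} [CommRing Ω] [CommRing Ω'] {G : Type*} [FunLike G Ω Ω']
    [RingHomClass G Ω Ω'] (f : G) (m : Ω) :
    (m • (1 : Matrix (Fin n) (Fin n) Ω)).map f = f m • (1 : Matrix (Fin n) (Fin n) Ω') := by
  ext i j
  simp only [Matrix.map_apply, Matrix.smul_apply, smul_eq_mul, map_mul, Matrix.one_apply]
  split_ifs <;> simp

theorem isUnit_gOm_algebraMap {S' : Type u} [CommRing S'] [Algebra S S'] (s : S') :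
    IsUnit (gOm (R := R) (IsScalarTower.toAlgHom S S' (Localization.Away s))
      (algebraMap S' (S' ⊗[S] R) s)) := by
  have : gOm (R := R) (IsScalarTower.toAlgHom S S' (Localization.Away s))
      (algebraMap S' (S' ⊗[S] R) s) =
      algebraMap (Localization.Away s) (Localization.Away s ⊗[S] R)
        (algebraMap S' (Localization.Away s) s) := rfl
  rw [this]
  exact (IsLocalization.Away.algebraMap_isUnit s).map _

include hlam hfix in
/-- a hermitian piece can be diagonalised near a prime, with diagonal entries from the base -/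
theorem exists_diag_piece (hn : 0 < n) (hA : IsAzumayaDeg R A n)
    {S' : Type u} [CommRing S'] [Algebra S S'] [Algebra.Etale S S'] (q' : Ideal S') [q'.IsPrime]
    (P : Piece lam t n S') (hherm : lamTr (lamB lam S') P.u = P.u)
    (hcase : (∃ a : Localization.AtPrime q' ⊗[S] R,
        lamB lam (Localization.AtPrime q') a - a ∉
          Ring.jacobson (Localization.AtPrime q' ⊗[S] R)) ∨
      (1 : Localization.AtPrime q' ⊗[S] R) + 1 ∉
        Ring.jacobson (Localization.AtPrime q' ⊗[S] R) ∨ Odd n) :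
    ∃ s : S', s ∉ q' ∧ ∃ P' : Piece lam t n (Localization.Away s),
      ∃ δ : Fin n → (Localization.Away s)ˣ,
        P'.u = Matrix.diagonal
          (fun i => algebraMap (Localization.Away s) (Localization.Away s ⊗[S] R) (δ i)) := by
  let h : Setup S R A n := ⟨lam, hlam, hfix, hA.1, hA.2, hn⟩
  haveI : Module.Flat S S' := inferInstance
  haveI : Module.Flat S (Localization.AtPrime q') := Module.Flat.trans S S' _
  have hB : RInv.IsFixedRing (Localization.AtPrime q') (Localization.AtPrime q' ⊗[S] R)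
      (lamB lam (Localization.AtPrime q')).toRingEquiv := (h.bc (Localization.AtPrime q')).hfix
  obtain ⟨gB, hgB⟩ : ∃ gB : S' →ₐ[S] Localization.AtPrime q',
      gB = IsScalarTower.toAlgHom S S' (Localization.AtPrime q') := ⟨_, rfl⟩
  have hLB : Function.Involutive (lamB lam (Localization.AtPrime q')).toRingEquiv :=
    lamB_lamB lam hlam (Localization.AtPrime q')
  have hermB : (1 : Localization.AtPrime q' ⊗[S] R) •
      ((P.u.map (gOm (R := R) gB)).map
        (lamB lam (Localization.AtPrime q')).toRingEquiv).transpose = P.u.map (gOm (R := R) gB) := by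
    rw [one_smul]
    show lamTr (lamB lam (Localization.AtPrime q')) (P.u.map (gOm (R := R) gB)) = _
    rw [← lamTr_map, hherm]
  obtain ⟨v, hv, d, hd⟩ := Groth.Agent.Lib.R2H7.HermDiag.exists_diagonal
    (B := Localization.AtPrime q') (A := Localization.AtPrime q' ⊗[S] R)
    (lamB lam (Localization.AtPrime q')).toRingEquiv hLB hB n 1 (Or.inl rfl)
    (P.u.map (gOm (R := R) gB)) (P.hu.map (gOm (R := R) gB).mapMatrix) hermB hcase
  obtain ⟨⟨v, v', hvv', hv'v⟩, rfl⟩ := hv
  letI : Algebra (S' ⊗[S] R) (Localization.AtPrime q' ⊗[S] R) :=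
    (gOm (R := R) gB).toRingHom.toAlgebra
  haveI : IsScalarTower S' (S' ⊗[S] R) (Localization.AtPrime q' ⊗[S] R) :=
    IsScalarTower.of_algebraMap_eq (fun s => by
      show algebraMap S' (Localization.AtPrime q' ⊗[S] R) s =
        gOm (R := R) gB (algebraMap S' (S' ⊗[S] R) s)
      rw [hgB]
      rfl)
  haveI : IsLocalization (Algebra.algebraMapSubmonoid (S' ⊗[S] R) q'.primeCompl)
      (Localization.AtPrime q' ⊗[S] R) :=
    IsLocalization.tensorProduct_tensorProduct S R q'.primeCompl (Localization.AtPrime q')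
      (by
        ext r
        show gOm (R := R) gB ((1 : S') ⊗ₜ[S] r) = (1 : Localization.AtPrime q') ⊗ₜ[S] r
        rw [gOm_tmul, map_one])
  have hoff : ∀ i j, i ≠ j → (lamTr (lamB lam (Localization.AtPrime q') :
      (Localization.AtPrime q' ⊗[S] R) →+* (Localization.AtPrime q' ⊗[S] R)) v *
      P.u.map (algebraMap (S' ⊗[S] R) (Localization.AtPrime q' ⊗[S] R)) * v) i j = 0 := by
    intro i j hij
    have := congrFun (congrFun hd i) j
    rw [Matrix.diagonal_apply_ne _ hij] at this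
    exact this
  obtain ⟨m, hmM, v₀, w₀, h1, h2, h3⟩ := spread
    (Algebra.algebraMapSubmonoid (S' ⊗[S] R) q'.primeCompl) (L := Localization.AtPrime q' ⊗[S] R)
    (lamB lam S' : (S' ⊗[S] R) →+* (S' ⊗[S] R))
    (lamB lam (Localization.AtPrime q') :
      (Localization.AtPrime q' ⊗[S] R) →+* (Localization.AtPrime q' ⊗[S] R))
    (fun x => (gOm_lamB lam gB x).symm)
    (by
      rintro m ⟨s, -, rfl⟩
      exact (lamB lam S').commutes s)
    P.u v v' hvv' hv'v hoff
  obtain ⟨s₀, hs₀, rfl⟩ := hmM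
  refine ⟨s₀, hs₀, ?_⟩
  haveI : IsScalarTower S S' (Localization.Away s₀) := inferInstance
  haveI : Algebra.Etale S (Localization.Away s₀) := Algebra.Etale.comp S S' (Localization.Away s₀)
  haveI : Module.Flat S (Localization.Away s₀) := inferInstance
  obtain ⟨g, hg⟩ : ∃ g : S' →ₐ[S] Localization.Away s₀,
      g = IsScalarTower.toAlgHom S S' (Localization.Away s₀) := ⟨_, rfl⟩
  have hμ : IsUnit (gOm (R := R) g (algebraMap S' (S' ⊗[S] R) s₀)) := by
    rw [hg]
    exact isUnit_gOm_algebraMap s₀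
  obtain ⟨ι, hι⟩ := hμ.exists_right_inv
  have hL := lamB_lamB lam hlam (Localization.Away s₀)
  obtain ⟨v₁, hv₁⟩ : ∃ v₁, v₁ = v₀.map (gOm (R := R) g) := ⟨_, rfl⟩
  obtain ⟨w₁, hw₁⟩ : ∃ w₁, w₁ = w₀.map (gOm (R := R) g) := ⟨_, rfl⟩
  have e1 : v₁ * (ι • w₁) = 1 := by
    rw [hv₁, hw₁, Matrix.mul_smul, ← Matrix.map_mul, h1, map_smul_one (gOm (R := R) g),
      smul_smul]
    show (ι * gOm (R := R) g (algebraMap S' (S' ⊗[S] R) s₀)) • (1 : Matrix _ _ _) = 1
    rw [mul_comm, hι, one_smul]
  have e2 : (ι • w₁) * v₁ = 1 := by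
    rw [hv₁, hw₁, Matrix.smul_mul, ← Matrix.map_mul, h2, map_smul_one (gOm (R := R) g),
      smul_smul]
    show (ι * gOm (R := R) g (algebraMap S' (S' ⊗[S] R) s₀)) • (1 : Matrix _ _ _) = 1
    rw [mul_comm, hι, one_smul]
  have hg1 : lamTr (lamB lam (Localization.Away s₀)) v₁ *
      lamTr (lamB lam (Localization.Away s₀)) (ι • w₁) = 1 := by
    rw [← lamTr_mul, e2, lamTr_one]
  have hg2 : lamTr (lamB lam (Localization.Away s₀)) (ι • w₁) *
      lamTr (lamB lam (Localization.Away s₀)) v₁ = 1 := by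
    rw [← lamTr_mul, e1, lamTr_one]
  obtain ⟨P', hP'⟩ : ∃ P' : Piece lam t n (Localization.Away s₀), P' = (P.map g).congr _ _ hg1 hg2 :=
    ⟨_, rfl⟩
  have hu' : P'.u = (lamTr (lamB lam S') v₀ * P.u * v₀).map (gOm (R := R) g) := by
    rw [hP', Piece.congr_u, Piece.map_u, lamTr_lamTr _ hL, Matrix.map_mul, Matrix.map_mul,
      lamTr_map, hv₁]
  have hoff' : ∀ i j, i ≠ j → P'.u i j = 0 := by
    intro i j hij
    have h4 := congrArg (gOm (R := R) g) (h3 i j hij)
    rw [map_mul, map_zero] at h4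
    rw [hu', Matrix.map_apply]
    exact (hμ.mul_right_eq_zero).1 h4
  have hherm' : lamTr (lamB lam (Localization.Away s₀)) P'.u = P'.u := by
    rw [hP', Piece.congr_u, Piece.map_u, lamTr_mul, lamTr_mul, lamTr_lamTr _ hL, ← lamTr_map,
      hherm, mul_assoc]
  have hfix' : RInv.IsFixedRing (Localization.Away s₀) (Localization.Away s₀ ⊗[S] R)
      (lamB lam (Localization.Away s₀)).toRingEquiv := (h.bc (Localization.Away s₀)).hfix
  have hdiagfix : ∀ i, ∃ δ₀ : Localization.Away s₀,
      algebraMap (Localization.Away s₀) (Localization.Away s₀ ⊗[S] R) δ₀ = P'.u i i := by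
    intro i
    have h5 := congrFun (congrFun hherm' i) i
    rw [lamTr_apply] at h5
    exact (hfix'.2 (P'.u i i)).1 h5
  choose δ₀ hδ₀ using hdiagfix
  have hdiag : P'.u = Matrix.diagonal (fun i => P'.u i i) := by
    ext i j
    by_cases hij : i = j
    · subst hij; rw [Matrix.diagonal_apply_eq]
    · rw [Matrix.diagonal_apply_ne _ hij, hoff' i j hij]
  have hunits : ∀ i, IsUnit (δ₀ i) := by
    intro i
    apply Groth.Agent.Lib.Helper15.QuadEtale.isUnit_of_isUnit_algebraMap
      (lamB lam (Localization.Away s₀)).toRingEquiv hfix'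
    rw [hδ₀]
    have hdet := (Matrix.isUnit_iff_isUnit_det _).1 P'.hu
    rw [hdiag, Matrix.det_diagonal] at hdet
    exact isUnit_of_dvd_unit (Finset.dvd_prod_of_mem (fun k => P'.u k k) (Finset.mem_univ i)) hdet
  refine ⟨P', fun i => (hunits i).unit, ?_⟩
  conv_lhs => rw [hdiag]
  congr 1
  funext i
  rw [IsUnit.unit_spec, hδ₀]

end StepE

section StepF

variable {S : Type u} {R : Type v} [CommRing S] [CommRing R] [Algebra S R] (lam : R ≃ₐ[S] R)
  (hlam : ∀ r, lam (lam r) = r) (hfix : RInv.IsFixedRing S R lam.toRingEquiv)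
  (hsq : HasSqrtCovers S)
  {A : Type w} [Ring A] [Algebra S A] [Algebra R A] [IsScalarTower S R A] (t : LamInv R A lam)
  {n : ℕ}

theorem lamTr_diagonal_algebraMap {T : Type u} [CommRing T] [Algebra S T] (x : Fin n → T) :
    lamTr (lamB lam T) (Matrix.diagonal (fun i => algebraMap T (T ⊗[S] R) (x i))) =
      Matrix.diagonal (fun i => algebraMap T (T ⊗[S] R) (x i)) := by
  ext i j
  rw [lamTr_apply]
  by_cases hij : i = j
  · subst hij
    rw [Matrix.diagonal_apply_eq]
    exact (lamB lam T).commutes (x i)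
  · rw [Matrix.diagonal_apply_ne _ hij, Matrix.diagonal_apply_ne _ (Ne.symm hij), map_zero]

include hsq in
/-- a diagonal piece with entries from the base becomes the identity after adjoining square roots -/
theorem exists_one_piece_of_diag {S' : Type u} [CommRing S'] [Algebra S S'] [Algebra.Etale S S']
    (q' : Ideal S') [q'.IsPrime] (P : Piece lam t n S') (δ : Fin n → S'ˣ)
    (hP : P.u = Matrix.diagonal (fun i => algebraMap S' (S' ⊗[S] R) (δ i))) :
    ∃ (T : Type u) (_ : CommRing T) (_ : Algebra S T) (_ : Algebra.Etale S T) (Q : Ideal T)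
      (_ : Q.IsPrime), Q.comap (algebraMap S T) = q'.comap (algebraMap S S') ∧
        ∃ P' : Piece lam t n T, P'.u = 1 := by
  obtain ⟨T, _, _, _, htower, hetST, hetS'T, hff, y, hy⟩ := exists_sqrt_cover hsq n S' δ
  obtain ⟨Q, hQ⟩ := PrimeSpectrum.comap_surjective_of_faithfullyFlat (A := S') (B := T)
    ⟨q', inferInstance⟩
  obtain ⟨g, hg⟩ : ∃ g : S' →ₐ[S] T, g = IsScalarTower.toAlgHom S S' T := ⟨_, rfl⟩
  have hyu : ∀ i, IsUnit (y i) := by
    intro i
    have h1 : IsUnit (y i * y i) := by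
      rw [hy i]
      exact (δ i).isUnit.map _
    exact isUnit_of_mul_isUnit_left h1
  choose yi hyi using fun i => (hyu i).exists_right_inv
  obtain ⟨D, hD⟩ : ∃ D : Matrix (Fin n) (Fin n) (T ⊗[S] R),
      D = Matrix.diagonal (fun i => algebraMap T (T ⊗[S] R) (yi i)) := ⟨_, rfl⟩
  obtain ⟨D', hD'⟩ : ∃ D' : Matrix (Fin n) (Fin n) (T ⊗[S] R),
      D' = Matrix.diagonal (fun i => algebraMap T (T ⊗[S] R) (y i)) := ⟨_, rfl⟩
  have h1 : D * D' = 1 := by
    rw [hD, hD', Matrix.diagonal_mul_diagonal, ← Matrix.diagonal_one]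
    congr 1
    funext i
    rw [← map_mul, mul_comm, hyi, map_one]
  have h2 : D' * D = 1 := by
    rw [hD, hD', Matrix.diagonal_mul_diagonal, ← Matrix.diagonal_one]
    congr 1
    funext i
    rw [← map_mul, hyi, map_one]
  refine ⟨T, inferInstance, inferInstance, hetST, Q.asIdeal, Q.isPrime, ?_,
    (P.map g).congr D D' h1 h2, ?_⟩
  · have : q' = Q.asIdeal.comap (algebraMap S' T) := by
      have := congrArg PrimeSpectrum.asIdeal hQ
      exact this.symm
    rw [this, Ideal.comap_comap, ← IsScalarTower.algebraMap_eq]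
  · rw [Piece.congr_u, Piece.map_u, hP, hD, lamTr_diagonal_algebraMap,
      Matrix.diagonal_map (map_zero _), Matrix.diagonal_mul_diagonal,
      Matrix.diagonal_mul_diagonal, ← Matrix.diagonal_one]
    congr 1
    funext i
    have h3 : gOm (R := R) g (algebraMap S' (S' ⊗[S] R) (δ i)) =
        algebraMap T (T ⊗[S] R) (y i * y i) := by
      rw [hy i, hg]
      rfl
    rw [h3, ← map_mul, ← map_mul]
    have h4 : yi i * (y i * y i) * yi i = 1 := by
      calc yi i * (y i * y i) * yi i = (y i * yi i) * (y i * yi i) := by ring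
        _ = 1 := by rw [hyi, mul_one]
    rw [h4, map_one]

include hlam hfix hsq in
/-- in odd degree, every involution is étale locally the `lam`-transpose -/
theorem exists_one_piece_of_odd (hn : Odd n) (hA : IsAzumayaDeg R A n) (q : Ideal S)
    [q.IsPrime] :
    ∃ (T : Type u) (_ : CommRing T) (_ : Algebra S T) (_ : Algebra.Etale S T) (Q : Ideal T)
      (_ : Q.IsPrime), Q.comap (algebraMap S T) = q ∧ ∃ P' : Piece lam t n T, P'.u = 1 := by
  have hn' : 0 < n := hn.pos
  obtain ⟨S₁, _, _, het₁, q₁, hq₁p, hq₁, ⟨P₁⟩⟩ := exists_piece_at lam hlam hfix t hn' hA q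
  obtain ⟨e, he, hee, hue⟩ := P₁.exists_scalar hlam hn'
  obtain ⟨c, hc, hcu⟩ := exists_scale_of_odd (lamB lam S₁) (lamB_lamB lam hlam S₁) hn P₁.u P₁.hu e
    he hee hue
  obtain ⟨s, hs, P₃, δ, hP₃⟩ := exists_diag_piece lam hlam hfix t hn' hA q₁ (P₁.scale c hc) hcu
    (Or.inr (Or.inr hn))
  haveI : IsScalarTower S S₁ (Localization.Away s) := inferInstance
  haveI : Algebra.Etale S (Localization.Away s) := Algebra.Etale.comp S S₁ (Localization.Away s)
  obtain ⟨q₃, hq₃p, hq₃⟩ := exists_prime_away q₁ hs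
  obtain ⟨T, _, _, hetT, Q, hQp, hQ, P₄, hP₄⟩ := exists_one_piece_of_diag lam hsq t q₃ P₃ δ hP₃
  refine ⟨T, inferInstance, inferInstance, hetT, Q, hQp, ?_, P₄, hP₄⟩
  rw [hQ, ← hq₁, ← hq₃, Ideal.comap_comap, ← IsScalarTower.algebraMap_eq]

end StepF

end Groth.Agent.Lib.R2LeadAzTDiag
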