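import Mathlib
import Groth.Agent.Lib.R2LeadAzTDiag
import Groth.Agent.S15573
import Groth.Agent.S15574
import Groth.Agent.S15576
import Groth.Agent.S15577
import Groth.Agent.S15580

/-!
# Local classification of involutions when `2` is invertible: hermitian or skew-hermitian (lead)
-/

set_option autoImplicit false
set_option linter.style.haveILetI false
set_option linter.unusedSectionVars false

namespace Groth.Agent.Lib.R2LeadAzTClass

open TensorProduct AzInv
open Groth.Agent.Lib.R2LeadAzTQuad (lamB lamB_tmul lamB_lamB)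
open Groth.Agent.Lib.R2LeadAzTBase Groth.Agent.Lib.R2LeadAzTLocal Groth.Agent.Lib.R2LeadAzTDiag
open Groth.Agent.Lib.R2LeadInvForms (HasSqrtCovers exists_sqrt_cover)

attribute [local instance] Algebra.TensorProduct.rightAlgebra

universe u v w w'

section Fix

variable {S : Type u} {R : Type v} [CommRing S] [CommRing R] [Algebra S R] (lam : R ≃ₐ[S] R)
  (hlam : ∀ r, lam (lam r) = r) (hfix : RInv.IsFixedRing S R lam.toRingEquiv)

include hlam hfix in
/-- the fixed ring of a flat base change -/
theorem fixedRing_bc (T : Type u) [CommRing T] [Algebra S T] [Module.Flat S T] :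
    RInv.IsFixedRing T (T ⊗[S] R) (lamB lam T).toRingEquiv := by
  have := Groth.Agent.S15586.result S R T lam hlam hfix (Or.inl inferInstance)
  have h3 : ∀ r : T ⊗[S] R,
      (Algebra.TensorProduct.congr (AlgEquiv.refl : T ≃ₐ[S] T) lam).toRingEquiv r =
      (lamB lam T).toRingEquiv r := by
    intro r
    induction r using TensorProduct.induction_on with
    | zero => simp
    | add x y hx hy => rw [map_add, map_add, hx, hy]
    | tmul a b => rfl
  refine ⟨this.1, fun r => ?_⟩
  rw [← h3]
  exact this.2 r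

include hlam hfix in
theorem isIntegral_bc (T : Type u) [CommRing T] [Algebra S T] [Module.Flat S T] :
    Algebra.IsIntegral T (T ⊗[S] R) :=
  Groth.Agent.Lib.R2H7.InvolHensel.isIntegral (lamB lam T).toRingEquiv
    (fun r => lamB_lamB lam hlam T r) (fixedRing_bc lam hlam hfix T)

/-- `lam` is the identity modulo the Jacobson radical of `T ⊗ R` -/
def RamOver (T : Type u) [CommRing T] [Algebra S T] : Prop :=
  ∀ a : T ⊗[S] R, lamB lam T a - a ∈ Ring.jacobson (T ⊗[S] R)

include hlam hfix in
theorem map_jacobson_le {T T' : Type u} [CommRing T] [CommRing T'] [Algebra S T] [Algebra S T']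
    [Module.Flat S T] [Module.Flat S T'] [IsLocalRing T] [IsLocalRing T'] (f : T →ₐ[S] T')
    [IsLocalHom f] (x : T ⊗[S] R) (hx : x ∈ Ring.jacobson (T ⊗[S] R)) :
    gOm (R := R) f x ∈ Ring.jacobson (T' ⊗[S] R) := by
  haveI := isIntegral_bc lam hlam hfix T
  haveI := isIntegral_bc lam hlam hfix T'
  rw [Ring.jacobson_eq_sInf_isMaximal, Submodule.mem_sInf] at hx ⊢
  intro (N : Ideal (T' ⊗[S] R)) hN
  haveI : Ideal.IsMaximal N := hN
  have h1 : (N.comap (gOm (R := R) f).toRingHom).comap (algebraMap T (T ⊗[S] R)) =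
      (N.comap (algebraMap T' (T' ⊗[S] R))).comap f.toRingHom := by
    rw [Ideal.comap_comap, Ideal.comap_comap]
    congr 1
  have h2 : (N.comap (algebraMap T' (T' ⊗[S] R))).IsMaximal :=
    Ideal.isMaximal_comap_of_isIntegral_of_isMaximal N
  have h3 : N.comap (algebraMap T' (T' ⊗[S] R)) = IsLocalRing.maximalIdeal T' :=
    IsLocalRing.eq_maximalIdeal h2
  have h4 : ((N.comap (gOm (R := R) f).toRingHom).comap (algebraMap T (T ⊗[S] R))).IsMaximal := by
    rw [h1, h3]
    have : (IsLocalRing.maximalIdeal T').comap f.toRingHom = IsLocalRing.maximalIdeal T := by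
      haveI : IsLocalHom f.toRingHom := ⟨fun a ha => IsLocalHom.map_nonunit (f := f) a ha⟩
      exact IsLocalRing.maximalIdeal_comap f.toRingHom
    rw [this]
    infer_instance
  haveI : (N.comap (gOm (R := R) f).toRingHom).IsPrime := Ideal.comap_isPrime _ N
  have h5 : (N.comap (gOm (R := R) f).toRingHom).IsMaximal :=
    Ideal.isMaximal_of_isIntegral_of_isMaximal_comap _ h4
  exact hx _ h5

include hlam hfix in
theorem RamOver.of_hom {T T' : Type u} [CommRing T] [CommRing T'] [Algebra S T] [Algebra S T']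
    [Module.Flat S T] [Module.Flat S T'] [IsLocalRing T] [IsLocalRing T'] (f : T →ₐ[S] T')
    [IsLocalHom f] (h : RamOver lam T) : RamOver lam T' := by
  intro a
  induction a using TensorProduct.induction_on with
  | zero => simp
  | add x y hx hy =>
    have : lamB lam T' (x + y) - (x + y) = (lamB lam T' x - x) + (lamB lam T' y - y) := by
      rw [map_add]; ring
    rw [this]
    exact Ideal.add_mem _ hx hy
  | tmul b r =>
    have h1 : lamB lam T' (b ⊗ₜ[S] r) - b ⊗ₜ[S] r =
        (b ⊗ₜ[S] (1 : R)) * gOm (R := R) f (lamB lam T ((1 : T) ⊗ₜ[S] r) - (1 : T) ⊗ₜ[S] r) := by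
      rw [lamB_tmul, lamB_tmul, map_sub, gOm_tmul, gOm_tmul, map_one, mul_sub,
        Algebra.TensorProduct.tmul_mul_tmul, Algebra.TensorProduct.tmul_mul_tmul, mul_one, one_mul,
        one_mul]
    rw [h1]
    exact Ideal.mul_mem_left _ _ (map_jacobson_le lam hlam hfix f _ (h _))

/-- the map of local rings induced by an étale neighbourhood -/
noncomputable def locHom (q : Ideal S) [q.IsPrime] {S' : Type u} [CommRing S'] [Algebra S S']
    (q' : Ideal S') [q'.IsPrime] (hq' : q'.comap (algebraMap S S') = q) :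
    Localization.AtPrime q →ₐ[S] Localization.AtPrime q' :=
  { toRingHom := Localization.localRingHom q q' (algebraMap S S') hq'.symm
    commutes' := fun s => by
      show Localization.localRingHom q q' (algebraMap S S') hq'.symm
        (algebraMap S (Localization.AtPrime q) s) = algebraMap S (Localization.AtPrime q') s
      rw [Localization.localRingHom_to_map, ← IsScalarTower.algebraMap_apply] }

instance (q : Ideal S) [q.IsPrime] {S' : Type u} [CommRing S'] [Algebra S S']
    (q' : Ideal S') [q'.IsPrime] (hq' : q'.comap (algebraMap S S') = q) :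
    IsLocalHom (locHom q q' hq') :=
  ⟨fun a ha => (Localization.isLocalHom_localRingHom q q' (algebraMap S S') hq'.symm).map_nonunit
    a ha⟩

end Fix

section Loc

variable {S : Type u} {R : Type v} [CommRing S] [CommRing R] [Algebra S R] (lam : R ≃ₐ[S] R)
  {S' : Type u} [CommRing S'] [Algebra S S'] (q' : Ideal S') [q'.IsPrime]

/-- an element of `S' ⊗ R` which becomes a unit at `q'` is a unit on a neighbourhood -/
theorem exists_unit_away (x : S' ⊗[S] R)
    (hx : IsUnit (gOm (R := R) (IsScalarTower.toAlgHom S S' (Localization.AtPrime q')) x)) :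
    ∃ s : S', s ∉ q' ∧
      IsUnit (gOm (R := R) (IsScalarTower.toAlgHom S S' (Localization.Away s)) x) := by
  obtain ⟨gB, hgB⟩ : ∃ gB : S' →ₐ[S] Localization.AtPrime q',
      gB = IsScalarTower.toAlgHom S S' (Localization.AtPrime q') := ⟨_, rfl⟩
  rw [← hgB] at hx
  letI : Algebra (S' ⊗[S] R) (Localization.AtPrime q' ⊗[S] R) :=
    (gOm (R := R) gB).toRingHom.toAlgebra
  haveI : IsScalarTower S' (S' ⊗[S] R) (Localization.AtPrime q' ⊗[S] R) :=
    IsScalarTower.of_algebraMap_eq (fun s => by
      show algebraMap S' (Localization.AtPrime q' ⊗[S] R) s =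
        gOm (R := R) gB (algebraMap S' (S' ⊗[S] R) s)
      rw [hgB]
      rfl)
  haveI : IsLocalization (Algebra.algebraMapSubmonoid (S' ⊗[S] R) q'.primeCompl)
      (Localization.AtPrime q' ⊗[S] R) :=
    IsLocalization.tensorProduct_tensorProduct S R q'.primeCompl (Localization.AtPrime q')
      (by
        ext r
        show gOm (R := R) gB ((1 : S') ⊗ₜ[S] r) = (1 : Localization.AtPrime q') ⊗ₜ[S] r
        rw [gOm_tmul, map_one])
  have hx' : IsUnit (algebraMap (S' ⊗[S] R) (Localization.AtPrime q' ⊗[S] R) x) := hx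
  obtain ⟨y, hy⟩ := hx'.exists_right_inv
  obtain ⟨⟨y₀, m₀⟩, hym⟩ := IsLocalization.surj
    (Algebra.algebraMapSubmonoid (S' ⊗[S] R) q'.primeCompl) y
  have h1 : algebraMap (S' ⊗[S] R) (Localization.AtPrime q' ⊗[S] R) (x * y₀) =
      algebraMap (S' ⊗[S] R) (Localization.AtPrime q' ⊗[S] R) (m₀ : S' ⊗[S] R) := by
    rw [map_mul, ← hym, ← mul_assoc, hy, one_mul]
  obtain ⟨m₁, hm₁⟩ := (IsLocalization.eq_iff_exists
    (Algebra.algebraMapSubmonoid (S' ⊗[S] R) q'.primeCompl) (Localization.AtPrime q' ⊗[S] R)).1 h1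
  obtain ⟨s, hs, hsm⟩ := (m₁ * m₀).2
  refine ⟨s, hs, ?_⟩
  have h2 : gOm (R := R) (IsScalarTower.toAlgHom S S' (Localization.Away s)) x *
      gOm (R := R) (IsScalarTower.toAlgHom S S' (Localization.Away s)) ((m₁ : S' ⊗[S] R) * y₀) =
      gOm (R := R) (IsScalarTower.toAlgHom S S' (Localization.Away s))
        (algebraMap S' (S' ⊗[S] R) s) := by
    rw [← map_mul, hsm]
    congr 1
    rw [Submonoid.coe_mul, ← hm₁]
    ring
  have h3 := isUnit_gOm_algebraMap (S := S) (R := R) s
  rw [← h2] at h3
  exact isUnit_of_mul_isUnit_left h3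

/-- numerators for elements of the local base change -/
theorem exists_numerator (y : Localization.AtPrime q' ⊗[S] R) :
    ∃ (a₀ : S' ⊗[S] R) (s : S'), s ∉ q' ∧
      y * gOm (R := R) (IsScalarTower.toAlgHom S S' (Localization.AtPrime q'))
        (algebraMap S' (S' ⊗[S] R) s) =
      gOm (R := R) (IsScalarTower.toAlgHom S S' (Localization.AtPrime q')) a₀ := by
  obtain ⟨gB, hgB⟩ : ∃ gB : S' →ₐ[S] Localization.AtPrime q',
      gB = IsScalarTower.toAlgHom S S' (Localization.AtPrime q') := ⟨_, rfl⟩
  rw [← hgB]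
  letI : Algebra (S' ⊗[S] R) (Localization.AtPrime q' ⊗[S] R) :=
    (gOm (R := R) gB).toRingHom.toAlgebra
  haveI : IsScalarTower S' (S' ⊗[S] R) (Localization.AtPrime q' ⊗[S] R) :=
    IsScalarTower.of_algebraMap_eq (fun s => by
      show algebraMap S' (Localization.AtPrime q' ⊗[S] R) s =
        gOm (R := R) gB (algebraMap S' (S' ⊗[S] R) s)
      rw [hgB]
      rfl)
  haveI : IsLocalization (Algebra.algebraMapSubmonoid (S' ⊗[S] R) q'.primeCompl)
      (Localization.AtPrime q' ⊗[S] R) :=
    IsLocalization.tensorProduct_tensorProduct S R q'.primeCompl (Localization.AtPrime q')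
      (by
        ext r
        show gOm (R := R) gB ((1 : S') ⊗ₜ[S] r) = (1 : Localization.AtPrime q') ⊗ₜ[S] r
        rw [gOm_tmul, map_one])
  obtain ⟨⟨y₀, m₀⟩, hym⟩ := IsLocalization.surj
    (Algebra.algebraMapSubmonoid (S' ⊗[S] R) q'.primeCompl) y
  obtain ⟨s, hs, hsm⟩ := m₀.2
  refine ⟨y₀, s, hs, ?_⟩
  rw [hsm]
  exact hym

variable {A : Type w} [Ring A] [Algebra R A] {t : LamInv R A lam} {n : ℕ}

/-- rescaling a piece by an element which is a unit at `q'` -/
theorem exists_scaled_piece (P : Piece lam t n S') (e η c : S' ⊗[S] R)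
    (hue : lamTr (lamB lam S') P.u = e • P.u) (hc : lamB lam S' c * e = η * c)
    (hcu : IsUnit (gOm (R := R) (IsScalarTower.toAlgHom S S' (Localization.AtPrime q')) c)) :
    ∃ s : S', s ∉ q' ∧ ∃ P' : Piece lam t n (Localization.Away s),
      lamTr (lamB lam (Localization.Away s)) P'.u =
        gOm (R := R) (IsScalarTower.toAlgHom S S' (Localization.Away s)) η • P'.u := by
  obtain ⟨s, hs, hunit⟩ := exists_unit_away q' c hcu
  refine ⟨s, hs, (P.map (IsScalarTower.toAlgHom S S' (Localization.Away s))).scale _ hunit, ?_⟩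
  rw [Piece.scale_u, Piece.map_u, lamTr_smul, ← lamTr_map, hue, ← gOm_lamB, smul_smul]
  have : (e • P.u).map (gOm (R := R) (IsScalarTower.toAlgHom S S' (Localization.Away s))) =
      gOm (R := R) (IsScalarTower.toAlgHom S S' (Localization.Away s)) e •
        P.u.map (gOm (R := R) (IsScalarTower.toAlgHom S S' (Localization.Away s))) := by
    ext i j
    simp only [Matrix.map_apply, Matrix.smul_apply, smul_eq_mul, map_mul]
  rw [this, smul_smul, ← map_mul, hc, map_mul]

end Loc

section HermSkew

variable {S : Type u} {R : Type v} [CommRing S] [CommRing R] [Algebra S R] (lam : R ≃ₐ[S] R)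
  (hlam : ∀ r, lam (lam r) = r) (hfix : RInv.IsFixedRing S R lam.toRingEquiv)
  {A : Type w} [Ring A] [Algebra S A] [Algebra R A] [IsScalarTower S R A] (t : LamInv R A lam)
  {n : ℕ}

/-- there is a piece over an étale neighbourhood of `q` whose matrix satisfies `Pred` -/
def PieceAt (n : ℕ) (q : Ideal S)
    (Pred : ∀ (T : Type u) [CommRing T] [Algebra S T], Matrix (Fin n) (Fin n) (T ⊗[S] R) → Prop) :
    Prop :=
  ∃ (T : Type u) (_ : CommRing T) (_ : Algebra S T) (_ : Algebra.Etale S T) (Q : Ideal T)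
    (_ : Q.IsPrime), Q.comap (algebraMap S T) = q ∧ ∃ P : Piece lam t n T, Pred T P.u

theorem isUnit_add_of_mem_maximalIdeal {L : Type*} [CommRing L] [IsLocalRing L] {a x : L}
    (ha : IsUnit a) (hx : x ∈ IsLocalRing.maximalIdeal L) : IsUnit (a + x) := by
  by_contra hnu
  have h1 : a + x ∈ IsLocalRing.maximalIdeal L := (IsLocalRing.mem_maximalIdeal _).2 hnu
  have h2 : a ∈ IsLocalRing.maximalIdeal L := by
    have := Ideal.sub_mem _ h1 hx
    rwa [add_sub_cancel_right] at this
  exact (IsLocalRing.mem_maximalIdeal _).1 h2 ha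

include hlam hfix in
/-- with `2` invertible, every involution is near `q` hermitian, or `q` is ramified and it is
skew-hermitian -/
theorem exists_herm_or_skew (h2 : IsUnit (2 : S)) (hn : 0 < n) (hA : IsAzumayaDeg R A n)
    (q : Ideal S) [q.IsPrime] :
    PieceAt lam t n q (fun T _ _ u => lamTr (lamB lam T) u = u) ∨
    (RamOver lam (Localization.AtPrime q) ∧
      PieceAt lam t n q (fun T _ _ u => lamTr (lamB lam T) u = -u)) := by
  obtain ⟨S₁, _, _, het₁, q₁, hq₁p, hq₁, ⟨P₁⟩⟩ := exists_piece_at lam hlam hfix t hn hA q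
  obtain ⟨e, he, hee, hue⟩ := P₁.exists_scalar hlam hn
  haveI : Module.Flat S S₁ := inferInstance
  haveI : Module.Flat S (Localization.AtPrime q₁) := Module.Flat.trans S S₁ _
  have hfixB₁ := fixedRing_bc lam hlam hfix (Localization.AtPrime q₁)
  have hLinv₁ : Function.Involutive (lamB lam (Localization.AtPrime q₁)).toRingEquiv :=
    lamB_lamB lam hlam (Localization.AtPrime q₁)
  obtain ⟨gB, hgB⟩ : ∃ gB : S₁ →ₐ[S] Localization.AtPrime q₁,
      gB = IsScalarTower.toAlgHom S S₁ (Localization.AtPrime q₁) := ⟨_, rfl⟩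
  obtain ⟨eb, heb⟩ : ∃ eb, eb = gOm (R := R) gB e := ⟨_, rfl⟩
  have hLeb : lamB lam (Localization.AtPrime q₁) eb * eb = 1 := by
    rw [heb, ← gOm_lamB, ← map_mul, hee, map_one]
  have h2B : IsUnit (2 : Localization.AtPrime q₁ ⊗[S] R) := by
    have := h2.map (algebraMap S (Localization.AtPrime q₁ ⊗[S] R))
    rwa [map_ofNat] at this
  -- assembling a neighbourhood from a localisation of `S₁`
  have hasm : ∀ (η : S₁ ⊗[S] R) (c : S₁ ⊗[S] R), lamB lam S₁ c * e = η * c →
      IsUnit (gOm (R := R) gB c) →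
      ∃ (T : Type u) (_ : CommRing T) (_ : Algebra S T) (_ : Algebra.Etale S T) (Q : Ideal T)
        (_ : Q.IsPrime), Q.comap (algebraMap S T) = q ∧ ∃ (g : S₁ →ₐ[S] T) (P : Piece lam t n T),
          lamTr (lamB lam T) P.u = gOm (R := R) g η • P.u := by
    intro η c hc hcu
    rw [hgB] at hcu
    obtain ⟨s, hs, P', hP'⟩ := exists_scaled_piece lam q₁ P₁ e η c hue hc hcu
    haveI : IsScalarTower S S₁ (Localization.Away s) := inferInstance
    haveI : Algebra.Etale S (Localization.Away s) := Algebra.Etale.comp S S₁ (Localization.Away s)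
    obtain ⟨q₃, hq₃p, hq₃⟩ := exists_prime_away q₁ hs
    refine ⟨Localization.Away s, inferInstance, inferInstance, inferInstance, q₃, hq₃p, ?_,
      IsScalarTower.toAlgHom S S₁ (Localization.Away s), P', hP'⟩
    rw [← hq₁, ← hq₃, Ideal.comap_comap, ← IsScalarTower.algebraMap_eq]
  by_cases hram : RamOver lam (Localization.AtPrime q)
  · have hram₁ : RamOver lam (Localization.AtPrime q₁) :=
      hram.of_hom lam hlam hfix (locHom q q₁ hq₁)
    obtain ⟨hloc, -⟩ := Groth.Agent.S15577.result (Localization.AtPrime q₁)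
      (Localization.AtPrime q₁ ⊗[S] R) (lamB lam (Localization.AtPrime q₁)).toRingEquiv hLinv₁
      hfixB₁ hram₁
    haveI := hloc
    have hjac : Ring.jacobson (Localization.AtPrime q₁ ⊗[S] R) =
        IsLocalRing.maximalIdeal (Localization.AtPrime q₁ ⊗[S] R) := by
      rw [← Ideal.jacobson_bot, IsLocalRing.jacobson_eq_maximalIdeal ⊥ bot_ne_top]
    have hprod : (eb - 1) * (eb + 1) ∈
        IsLocalRing.maximalIdeal (Localization.AtPrime q₁ ⊗[S] R) := by
      have h1 : (eb - 1) * (eb + 1) =
          -((lamB lam (Localization.AtPrime q₁) eb - eb) * eb) := by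
        linear_combination hLeb
      rw [h1, ← hjac]
      exact Ideal.neg_mem_iff _ |>.2 (Ideal.mul_mem_right _ _ (hram₁ eb))
    rcases (IsLocalRing.maximalIdeal.isMaximal _).isPrime.mem_or_mem hprod with hm | hp
    · left
      have hc : lamB lam S₁ (1 + e) * e = 1 * (1 + e) := by
        rw [map_add, map_one, add_mul, one_mul, hee, one_mul, add_comm]
      have hcu : IsUnit (gOm (R := R) gB (1 + e)) := by
        rw [map_add, map_one, ← heb]
        have : (1 : Localization.AtPrime q₁ ⊗[S] R) + eb = 2 + (eb - 1) := by ring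
        rw [this]
        exact isUnit_add_of_mem_maximalIdeal h2B hm
      obtain ⟨T, _, _, hetT, Q, hQp, hQ, g, P, hP⟩ := hasm 1 (1 + e) hc hcu
      refine ⟨T, inferInstance, inferInstance, hetT, Q, hQp, hQ, P, ?_⟩
      show lamTr (lamB lam T) P.u = P.u
      rw [hP, map_one, one_smul]
    · right
      refine ⟨hram, ?_⟩
      have hc : lamB lam S₁ (1 - e) * e = (-1) * (1 - e) := by
        rw [map_sub, map_one, sub_mul, one_mul, hee]; ring
      have hcu : IsUnit (gOm (R := R) gB (1 - e)) := by
        rw [map_sub, map_one, ← heb]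
        have : (1 : Localization.AtPrime q₁ ⊗[S] R) - eb = 2 + (-(eb + 1)) := by ring
        rw [this]
        exact isUnit_add_of_mem_maximalIdeal h2B (Ideal.neg_mem_iff _ |>.2 hp)
      obtain ⟨T, _, _, hetT, Q, hQp, hQ, g, P, hP⟩ := hasm (-1) (1 - e) hc hcu
      refine ⟨T, inferInstance, inferInstance, hetT, Q, hQp, hQ, P, ?_⟩
      show lamTr (lamB lam T) P.u = -P.u
      rw [hP, map_neg, map_one, neg_smul, one_smul]
  · left
    haveI : Module.Flat S (Localization.AtPrime q) := inferInstance
    have hfixB := fixedRing_bc lam hlam hfix (Localization.AtPrime q)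
    have hLinv : Function.Involutive (lamB lam (Localization.AtPrime q)).toRingEquiv :=
      lamB_lamB lam hlam (Localization.AtPrime q)
    have hex : ∃ a : Localization.AtPrime q ⊗[S] R,
        (lamB lam (Localization.AtPrime q)).toRingEquiv a - a ∉
          Ring.jacobson (Localization.AtPrime q ⊗[S] R) := by
      by_contra hcon
      push Not at hcon
      exact hram hcon
    have hqe := Groth.Agent.S15576.result (Localization.AtPrime q)
      (Localization.AtPrime q ⊗[S] R) (lamB lam (Localization.AtPrime q)).toRingEquiv hLinv hfixB hex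
    obtain ⟨r, hr⟩ := Groth.Agent.S15574.result (Localization.AtPrime q)
      (Localization.AtPrime q ⊗[S] R) (lamB lam (Localization.AtPrime q)).toRingEquiv hLinv hfixB hqe
    have hr₁ : IsUnit (gOm (R := R) (locHom q q₁ hq₁) r -
        (lamB lam (Localization.AtPrime q₁)).toRingEquiv (gOm (R := R) (locHom q q₁ hq₁) r)) := by
      have : gOm (R := R) (locHom q q₁ hq₁) r -
          (lamB lam (Localization.AtPrime q₁)).toRingEquiv (gOm (R := R) (locHom q q₁ hq₁) r) =
          gOm (R := R) (locHom q q₁ hq₁)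
            (r - (lamB lam (Localization.AtPrime q)).toRingEquiv r) := by
        rw [map_sub]
        congr 1
        exact (gOm_lamB lam (locHom q q₁ hq₁) r).symm
      rw [this]
      exact hr.map _
    have hqe₁ := Groth.Agent.S15573.result (Localization.AtPrime q₁)
      (Localization.AtPrime q₁ ⊗[S] R) (lamB lam (Localization.AtPrime q₁)).toRingEquiv hLinv₁
      hfixB₁ ⟨_, hr₁⟩
    have hebu : IsUnit eb := by rw [heb]; exact he.map _
    obtain ⟨a, ha⟩ := Groth.Agent.S15580.result (Localization.AtPrime q₁)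
      (Localization.AtPrime q₁ ⊗[S] R) (lamB lam (Localization.AtPrime q₁)).toRingEquiv hLinv₁
      hfixB₁ hqe₁ hebu.unit (by rw [IsUnit.unit_spec]; exact hLeb)
    rw [IsUnit.unit_spec] at ha
    obtain ⟨cb, hcb⟩ : ∃ cb : Localization.AtPrime q₁ ⊗[S] R, cb = ((a⁻¹ : _ˣ) : _) := ⟨_, rfl⟩
    have hcbu : IsUnit cb := by rw [hcb]; exact Units.isUnit _
    have hLcb : lamB lam (Localization.AtPrime q₁) cb * eb = cb := by
      have h1 : lamB lam (Localization.AtPrime q₁) cb *
          lamB lam (Localization.AtPrime q₁) (a : _) = 1 := by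
        rw [hcb, ← map_mul, Units.inv_mul, map_one]
      rw [ha, ← hcb]
      have : (lamB lam (Localization.AtPrime q₁)).toRingEquiv (a : _) =
        lamB lam (Localization.AtPrime q₁) (a : _) := rfl
      rw [this]
      calc lamB lam (Localization.AtPrime q₁) cb * (cb * lamB lam (Localization.AtPrime q₁) (a : _))
          = cb * (lamB lam (Localization.AtPrime q₁) cb *
              lamB lam (Localization.AtPrime q₁) (a : _)) := by ring
        _ = cb := by rw [h1, mul_one]
    obtain ⟨a₀, s, hs, hnum⟩ := exists_numerator (S := S) (R := R) q₁ cb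
    rw [← hgB] at hnum
    obtain ⟨mb, hmb⟩ : ∃ mb, mb = gOm (R := R) gB (algebraMap S₁ (S₁ ⊗[S] R) s) := ⟨_, rfl⟩
    rw [← hmb] at hnum
    have hmbu : IsUnit mb := by
      have : mb = algebraMap (Localization.AtPrime q₁) (Localization.AtPrime q₁ ⊗[S] R)
          (algebraMap S₁ (Localization.AtPrime q₁) s) := by
        rw [hmb, hgB]; rfl
      rw [this]
      exact (IsLocalization.map_units (Localization.AtPrime q₁) (⟨s, hs⟩ : q₁.primeCompl)).map _
    have hLmb : lamB lam (Localization.AtPrime q₁) mb = mb := by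
      rw [hmb, ← gOm_lamB]
      congr 1
      exact (lamB lam S₁).commutes s
    have hc : lamB lam S₁ (a₀ + e * lamB lam S₁ a₀) * e = 1 * (a₀ + e * lamB lam S₁ a₀) := by
      rw [map_add, map_mul, lamB_lamB lam hlam, one_mul, add_mul, mul_assoc, mul_comm a₀ e,
        ← mul_assoc, hee, one_mul, add_comm, mul_comm]
    have hcu : IsUnit (gOm (R := R) gB (a₀ + e * lamB lam S₁ a₀)) := by
      rw [map_add, map_mul, gOm_lamB, ← heb, ← hnum, map_mul, hLmb]
      have : cb * mb + eb * (lamB lam (Localization.AtPrime q₁) cb * mb) = 2 * cb * mb := by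
        calc cb * mb + eb * (lamB lam (Localization.AtPrime q₁) cb * mb)
            = cb * mb + (lamB lam (Localization.AtPrime q₁) cb * eb) * mb := by ring
          _ = 2 * cb * mb := by rw [hLcb]; ring
      rw [this]
      exact (h2B.mul hcbu).mul hmbu
    obtain ⟨T, _, _, hetT, Q, hQp, hQ, g, P, hP⟩ := hasm 1 _ hc hcu
    refine ⟨T, inferInstance, inferInstance, hetT, Q, hQp, hQ, P, ?_⟩
    show lamTr (lamB lam T) P.u = P.u
    rw [hP, map_one, one_smul]

end HermSkew

end Groth.Agent.Lib.R2LeadAzTClass
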