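import Mathlib
import Groth.Agent.Lib.R2LeadInvGlobal
import Groth.Prelude.Def_AzInv

/-!
# From normal-form pieces to `AzInv.SameType` (lead)
-/

set_option autoImplicit false

namespace Groth.Agent.Lib.R2LeadInvConv

open TensorProduct Matrix
open Groth.Agent.Lib.R2LeadInvLocal Groth.Agent.Lib.R2LeadInvForms Groth.Agent.Lib.R2LeadInvLocalMain
  Groth.Agent.Lib.R2LeadInvGlobal

universe u w w'

section Basic

variable {R : Type u} [CommRing R]

/-- the `R`-linear map underlying an involution of the first kind -/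
abbrev lin {A : Type w} [Ring A] [Algebra R A]
    (t : AzInv.LamInv R A (AlgEquiv.refl : R ≃ₐ[R] R)) : A →ₗ[R] A :=
  t.linS R (AlgEquiv.refl : R ≃ₐ[R] R)

theorem isInvol_lin {A : Type w} [Ring A] [Algebra R A]
    (t : AzInv.LamInv R A (AlgEquiv.refl : R ≃ₐ[R] R)) : IsInvol (lin t) :=
  ⟨fun a b => t.map_mul a b, fun a => t.invol a⟩

variable {A : Type w} [Ring A] [Algebra R A] {B : Type w'} [Ring B] [Algebra R B]
  (t : AzInv.LamInv R A (AlgEquiv.refl : R ≃ₐ[R] R))
  (t' : AzInv.LamInv R B (AlgEquiv.refl : R ≃ₐ[R] R))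
  {n : ℕ} {T : Type*} [CommRing T] [Algebra R T]

/-- transport of a piece along an isomorphism of algebras with involution -/
noncomputable def pieceOfEquiv (g : B ≃ₐ[R] A) (hg : AzInv.IsInvHom t' t g)
    (P : Piece (lin t) n T) : Piece (lin t') n T where
  σ := (Algebra.TensorProduct.congr (AlgEquiv.refl : T ≃ₐ[T] T) g).trans P.σ
  u := P.u
  hu := P.hu
  conj := by
    intro b
    have h1 : ∀ b : B, ((Algebra.TensorProduct.congr (AlgEquiv.refl : T ≃ₐ[T] T) g).trans P.σ)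
        ((1 : T) ⊗ₜ[R] b) = P.σ ((1 : T) ⊗ₜ[R] g b) := by
      intro b
      rw [AlgEquiv.trans_apply, Algebra.TensorProduct.congr_apply, Algebra.TensorProduct.map_tmul]
      rfl
    rw [h1, h1]
    have : g (lin t' b) = lin t (g b) := hg b
    rw [this]
    exact P.conj (g b)

theorem pieceOfEquiv_u (g : B ≃ₐ[R] A) (hg : AzInv.IsInvHom t' t g) (P : Piece (lin t) n T) :
    (pieceOfEquiv t t' g hg P).u = P.u := rfl

end Basic

section Loc

variable {R : Type u} [CommRing R]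
  {A : Type w} [Ring A] [Algebra R A] {B : Type w'} [Ring B] [Algebra R B]
  (t : AzInv.LamInv R A (AlgEquiv.refl : R ≃ₐ[R] R))
  (t' : AzInv.LamInv R B (AlgEquiv.refl : R ≃ₐ[R] R))
  {n : ℕ} {T : Type u} [CommRing T] [Algebra R T]

theorem one_tmul_algebraMap (r : R) :
    (1 : T) ⊗ₜ[R] algebraMap R A r = algebraMap T (T ⊗[R] A) (algebraMap R T r) := by
  rw [Algebra.TensorProduct.algebraMap_apply, Algebra.algebraMap_eq_smul_one (A := A),
    TensorProduct.tmul_smul, TensorProduct.smul_tmul']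
  simp [Algebra.algebraMap_eq_smul_one]

theorem locIsoEt_of_pieces [Algebra.Etale R T] [Module.FaithfullyFlat R T]
    (P : Piece (lin t) n T) (P' : Piece (lin t') n T) (h : P.u = P'.u) :
    AzInv.LocIsoEt R (AlgEquiv.refl : R ≃ₐ[R] R) t t' := by
  refine ⟨T, inferInstance, inferInstance, inferInstance, inferInstance,
    P.σ.trans P'.σ.symm, ?_, ?_⟩
  · intro r x
    rw [map_mul, one_tmul_algebraMap, one_tmul_algebraMap, AlgEquiv.commutes]
  · intro x
    have hbc : t.bc R (AlgEquiv.refl : R ≃ₐ[R] R) T x = (lin t).baseChange T x := rfl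
    have hbc' : ∀ y, t'.bc R (AlgEquiv.refl : R ≃ₐ[R] R) T y = (lin t').baseChange T y :=
      fun y => rfl
    rw [hbc, hbc']
    apply P'.σ.injective
    have hu : IsUnit P'.u := (Matrix.isUnit_iff_isUnit_det _).2 P'.hu
    apply hu.mul_left_injective
    show P'.σ ((P.σ.trans P'.σ.symm) ((lin t).baseChange T x)) * P'.u =
      P'.σ ((lin t').baseChange T ((P.σ.trans P'.σ.symm) x)) * P'.u
    rw [conj_all P', AlgEquiv.trans_apply, AlgEquiv.apply_symm_apply, AlgEquiv.trans_apply,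
      AlgEquiv.apply_symm_apply, ← h, conj_all P]

end Loc

section Trivial

variable {R : Type u} [CommRing R]
  (hlam : ∀ r : R, (AlgEquiv.refl : R ≃ₐ[R] R) ((AlgEquiv.refl : R ≃ₐ[R] R) r) = r)

/-- the orthogonal model: transpose on `M_n(R)` -/
noncomputable def orthPiece (n : ℕ) :
    Piece (lin ((AzInv.LamInv.self (AlgEquiv.refl : R ≃ₐ[R] R) hlam).matrix (Fin n))) n R where
  σ := Algebra.TensorProduct.lid R (Matrix (Fin n) (Fin n) R)
  u := 1
  hu := by simp
  conj := by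
    intro X
    rw [mul_one, one_mul, Algebra.TensorProduct.lid_tmul, Algebra.TensorProduct.lid_tmul,
      one_smul, one_smul]
    ext i j
    rfl

theorem orthPiece_u (n : ℕ) : (orthPiece hlam n).u = 1 := rfl

/-- block matrices as big matrices -/
noncomputable def Phi (k : ℕ) : Matrix (Fin k) (Fin k) (Matrix (Fin 2) (Fin 2) R) ≃ₐ[R]
    Matrix (Fin (k * 2)) (Fin (k * 2)) R :=
  (Matrix.compAlgEquiv (Fin k) (Fin 2) R R).trans (Matrix.reindexAlgEquiv R R finProdFinEquiv)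

theorem Phi_apply (k : ℕ) (N : Matrix (Fin k) (Fin k) (Matrix (Fin 2) (Fin 2) R))
    (i j : Fin (k * 2)) : Phi k N i j = N i.divNat j.divNat i.modNat j.modNat := rfl

theorem even_iff_modNat {k : ℕ} (i : Fin (k * 2)) : Even i.val ↔ i.modNat = 0 := by
  rw [Nat.even_iff, Fin.ext_iff, Fin.coe_modNat]
  rfl

theorem div_eq_iff_divNat {k : ℕ} (i j : Fin (k * 2)) :
    i.val / 2 = j.val / 2 ↔ i.divNat = j.divNat := by
  rw [Fin.ext_iff, Fin.coe_divNat, Fin.coe_divNat]

variable (J : (Matrix (Fin 2) (Fin 2) R)ˣ)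
  (hJ : (↑J : Matrix (Fin 2) (Fin 2) R) = Matrix.of ![![0, -1], ![1, 0]])

include hJ in
theorem stdAlt_eq_Phi (k : ℕ) :
    stdAlt (k * 2) R = Phi k (Matrix.diagonal fun _ => -(J : Matrix (Fin 2) (Fin 2) R)) := by
  ext i j
  rw [Phi_apply, hJ]
  simp only [stdAlt, Matrix.of_apply, even_iff_modNat, div_eq_iff_divNat]
  by_cases hd : i.divNat = j.divNat
  · rw [if_pos hd, hd, Matrix.diagonal_apply_eq]
    generalize i.modNat = c
    generalize j.modNat = d
    fin_cases c <;> fin_cases d <;> simp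
  · rw [if_neg hd, Matrix.diagonal_apply_ne _ hd]
    rfl

theorem Phi_transpose (k : ℕ) (N : Matrix (Fin k) (Fin k) (Matrix (Fin 2) (Fin 2) R)) :
    (Phi k N)ᵀ = Phi k (Matrix.of fun a b => (N b a)ᵀ) := by
  ext i j
  rfl

variable
  (hJt : AzInv.LamInv.transpose (AlgEquiv.refl : R ≃ₐ[R] R) (Fin 2) hlam
    (↑J : Matrix (Fin 2) (Fin 2) R) = (-1 : R) • (↑J : Matrix (Fin 2) (Fin 2) R))
  (hneg : (AlgEquiv.refl : R ≃ₐ[R] R) (-1) * (-1) = 1)

/-- the symplectic model -/
noncomputable def sympPiece (k : ℕ) :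
    Piece (lin (((AzInv.LamInv.transpose (AlgEquiv.refl : R ≃ₐ[R] R) (Fin 2) hlam).conj J (-1)
      hJt hneg).matrix (Fin k))) (k * 2) R where
  σ := (Algebra.TensorProduct.lid R _).trans (Phi k)
  u := stdAlt (k * 2) R
  hu := by
    apply Matrix.isUnit_det_of_right_inverse (B := -stdAlt (k * 2) R)
    rw [mul_neg, stdAlt_mul_self R (even_two.mul_left k), neg_neg]
  conj := by
    intro N
    rw [AlgEquiv.trans_apply, AlgEquiv.trans_apply, Algebra.TensorProduct.lid_tmul,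
      Algebra.TensorProduct.lid_tmul, one_smul, one_smul, Phi_transpose, stdAlt_eq_Phi J hJ,
      ← map_mul, ← map_mul]
    congr 1
    ext a b : 1
    rw [Matrix.mul_diagonal, Matrix.diagonal_mul]
    show ((J : Matrix (Fin 2) (Fin 2) R) *
      AzInv.LamInv.transpose (AlgEquiv.refl : R ≃ₐ[R] R) (Fin 2) hlam (N b a) *
      ((J⁻¹ : (Matrix (Fin 2) (Fin 2) R)ˣ) : Matrix (Fin 2) (Fin 2) R)) *
      (-(J : Matrix (Fin 2) (Fin 2) R)) = (-(J : Matrix (Fin 2) (Fin 2) R)) * (N b a)ᵀ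
    have : AzInv.LamInv.transpose (AlgEquiv.refl : R ≃ₐ[R] R) (Fin 2) hlam (N b a) = (N b a)ᵀ := by
      ext i j
      rfl
    rw [this, mul_neg, mul_assoc, Units.inv_mul, mul_one, neg_mul]

theorem sympPiece_u (k : ℕ) : (sympPiece hlam J hJ hJt hneg k).u = stdAlt (k * 2) R := rfl

end Trivial

section Main

/-- transport of an involution along an algebra isomorphism -/
def transportInv {R : Type u} [CommRing R] {A : Type w} [Ring A] [Algebra R A] {B : Type w'}
    [Ring B] [Algebra R B] (e : B ≃ₐ[R] A)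
    (t : AzInv.LamInv R A (AlgEquiv.refl : R ≃ₐ[R] R)) :
    AzInv.LamInv R B (AlgEquiv.refl : R ≃ₐ[R] R) where
  toFun b := e.symm (t (e b))
  map_add' a b := by rw [map_add, t.map_add, map_add]
  map_mul' a b := by rw [map_mul, t.map_mul, map_mul]
  map_smul' r a := by rw [map_smul, t.map_smul, map_smul]
  invol' a := by
    show e.symm (t (e (e.symm (t (e a))))) = a
    rw [AlgEquiv.apply_symm_apply, t.invol, AlgEquiv.symm_apply_apply]

theorem transportInv_isInvHom {R : Type u} [CommRing R] {A : Type w} [Ring A] [Algebra R A]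
    {B : Type w'} [Ring B] [Algebra R B] (e : B ≃ₐ[R] A)
    (t : AzInv.LamInv R A (AlgEquiv.refl : R ≃ₐ[R] R)) :
    AzInv.IsInvHom t (transportInv e t) e.symm := fun a => by
  show e.symm (t a) = e.symm (t (e (e.symm a)))
  rw [AlgEquiv.apply_symm_apply]

/-- `1 × 1` matrices -/
def mat1Equiv (R : Type u) [CommRing R] (A : Type w) [Ring A] [Algebra R A] :
    Matrix (Fin 1) (Fin 1) A ≃ₐ[R] A where
  toFun M := M 0 0
  invFun a := Matrix.of fun _ _ => a
  left_inv M := by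
    ext i j
    fin_cases i; fin_cases j
    rfl
  right_inv a := rfl
  map_mul' M N := by simp [Matrix.mul_apply]
  map_add' M N := rfl
  commutes' r := by simp [Matrix.algebraMap_matrix_apply]

theorem main (R : Type u) [CommRing R]
    (hlam : ∀ r : R, (AlgEquiv.refl : R ≃ₐ[R] R) ((AlgEquiv.refl : R ≃ₐ[R] R) r) = r)
    [Nontrivial R] [ConnectedSpace (PrimeSpectrum R)] (h2 : IsUnit (2 : R))
    (J : (Matrix (Fin 2) (Fin 2) R)ˣ)
    (hJ : (↑J : Matrix (Fin 2) (Fin 2) R) = Matrix.of ![![0, -1], ![1, 0]])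
    (hJt : AzInv.LamInv.transpose (AlgEquiv.refl : R ≃ₐ[R] R) (Fin 2) hlam
      (↑J : Matrix (Fin 2) (Fin 2) R) = (-1 : R) • (↑J : Matrix (Fin 2) (Fin 2) R))
    (hneg : (AlgEquiv.refl : R ≃ₐ[R] R) (-1) * (-1) = 1)
    (A : Type w) [Ring A] [Algebra R A]
    (n : ℕ) (hn : 0 < n) (hA : AzInv.IsAzumayaDeg R A n)
    (t : AzInv.LamInv R A (AlgEquiv.refl : R ≃ₐ[R] R)) :
    AzInv.SameType R (AlgEquiv.refl : R ≃ₐ[R] R) t
        (AzInv.LamInv.self (AlgEquiv.refl : R ≃ₐ[R] R) hlam) ∨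
      AzInv.SameType R (AlgEquiv.refl : R ≃ₐ[R] R) t
        ((AzInv.LamInv.transpose (AlgEquiv.refl : R ≃ₐ[R] R) (Fin 2) hlam).conj J (-1)
          hJt hneg) := by
  obtain ⟨hAz, hrk⟩ := hA
  haveI := hAz
  haveI : Small.{u} A := Module.Finite.small R A
  let e : Shrink.{u} A ≃ₐ[R] A := Shrink.algEquiv R A
  let t₀ := transportInv e t
  haveI : IsAzumaya R (Shrink.{u} A) := IsAzumaya.of_AlgEquiv R A _ e.symm
  have hrk₀ : ∀ p : PrimeSpectrum R, Module.rankAtStalk (R := R) (Shrink.{u} A) p = n ^ 2 := by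
    intro p
    rw [Module.rankAtStalk_eq_of_equiv e.toLinearEquiv]
    exact hrk p
  obtain ⟨T, _, _, het, hff, hcase⟩ :=
    exists_global_piece (t := lin t₀) (isInvol_lin t₀) h2 hn hrk₀
  let g : Matrix (Fin 1) (Fin 1) A ≃ₐ[R] A := mat1Equiv R A
  have hg : AzInv.IsInvHom (t.matrix (Fin 1)) t g := fun M => rfl
  have key : ∀ P₀ : Piece (lin t₀) n T, ∃ P : Piece (lin (t.matrix (Fin 1))) n T, P.u = P₀.u :=
    fun P₀ => ⟨pieceOfEquiv t (t.matrix (Fin 1)) g hg
      (pieceOfEquiv t₀ t e.symm (transportInv_isInvHom e t) P₀), rfl⟩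
  rcases hcase with ⟨P₀, hP₀⟩ | ⟨hev, P₀, hP₀⟩
  · left
    obtain ⟨P, hP⟩ := key P₀
    refine ⟨1, n, one_pos, hn, ?_⟩
    refine locIsoEt_of_pieces _ _ P ((orthPiece hlam n).map (Algebra.ofId R T)) ?_
    rw [hP, hP₀]
    show (1 : Matrix (Fin n) (Fin n) T) = (1 : Matrix (Fin n) (Fin n) R).map (Algebra.ofId R T)
    rw [Matrix.map_one _ (map_zero _) (map_one _)]
  · right
    obtain ⟨k, hk⟩ := hev
    have hk2 : n = k * 2 := by omega
    subst hk2
    obtain ⟨P, hP⟩ := key P₀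
    refine ⟨1, k, one_pos, by omega, ?_⟩
    refine locIsoEt_of_pieces _ _ P ((sympPiece hlam J hJ hJt hneg k).map (Algebra.ofId R T)) ?_
    rw [hP, hP₀]
    show stdAlt (k * 2) T = (stdAlt (k * 2) R).map (Algebra.ofId R T)
    exact (stdAlt_map R (Algebra.ofId R T : R →+* T)).symm

end Main

end Groth.Agent.Lib.R2LeadInvConv
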