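import Mathlib
import Groth.Agent.Lib.R2LeadAzTBase
import Groth.Agent.Lib.R2LeadInvConv

/-!
# The quadratic étale case: there is a single type (lead)
-/

set_option autoImplicit false
set_option linter.style.haveILetI false
set_option linter.unusedSectionVars false

namespace Groth.Agent.Lib.R2LeadAzTQuadMain

open TensorProduct AzInv
open Groth.Agent.Lib.R2LeadAzTQuad Groth.Agent.Lib.R2LeadAzTBase
open Groth.Agent.Lib.R2LeadAzFixBase (Setup)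
open Groth.Agent.Lib.R2LeadAzCharpoly (splitBC splitBC_one_tmul)

attribute [local instance] Algebra.TensorProduct.rightAlgebra

universe u v w w'

theorem isAzumayaDeg_of_algEquiv {R : Type v} [CommRing R] {A : Type w} [Ring A] [Algebra R A]
    {B : Type w'} [Ring B] [Algebra R B] (e : A ≃ₐ[R] B) {n : ℕ} (hA : IsAzumayaDeg R A n) :
    IsAzumayaDeg R B n := by
  obtain ⟨hAz, hrk⟩ := hA
  haveI := hAz
  refine ⟨IsAzumaya.of_AlgEquiv R A B e, fun p => ?_⟩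
  rw [← hrk p]
  exact congrFun (Module.rankAtStalk_eq_of_equiv e.symm.toLinearEquiv) p

theorem locIsoEt_of_quad (S : Type u) (R : Type v) [CommRing S] [CommRing R] [Algebra S R]
    (lam : R ≃ₐ[S] R) (hlam : ∀ r, lam (lam r) = r) (hfix : RInv.IsFixedRing S R lam.toRingEquiv)
    (hq : RInv.IsQuadEtale S R)
    (A : Type w) [Ring A] [Algebra S A] [Algebra R A] [IsScalarTower S R A]
    (n : ℕ) (hn : 0 < n) (hA : IsAzumayaDeg R A n) (t : LamInv R A lam)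
    (t₀ : LamInv R (Matrix (Fin n) (Fin n) R) lam) (ht₀ : ∀ X, t₀ X = lamTr lam X) :
    LocIsoEt S lam t t₀ := by
  obtain ⟨S₁, _, _, het₁, hff₁, ε, hε, hlε⟩ := exists_cover lam hlam hfix hq
  let h : Setup S R A n := ⟨lam, hlam, hfix, hA.1, hA.2, hn⟩
  obtain ⟨S₂, _, _, het₂, hff₂, ⟨σ₂⟩⟩ := Groth.Agent.Lib.R2LeadAzFixMain.exists_global h
  let g₁ : S₁ →ₐ[S] S₁ ⊗[S] S₂ := Algebra.TensorProduct.includeLeft
  let g₂ : S₂ →ₐ[S] S₁ ⊗[S] S₂ := Algebra.TensorProduct.includeRight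
  haveI : Algebra.Etale S (S₁ ⊗[S] S₂) := Algebra.Etale.comp S S₁ (S₁ ⊗[S] S₂)
  haveI : Module.FaithfullyFlat S (S₁ ⊗[S] S₂) := Module.FaithfullyFlat.trans S S₁ (S₁ ⊗[S] S₂)
  obtain ⟨σ, hσ⟩ : ∃ σ, σ = splitBC σ₂ (gOm (R := R) g₂) := ⟨_, rfl⟩
  obtain ⟨ε', hε'⟩ : ∃ ε', ε' = gOm (R := R) g₁ ε := ⟨_, rfl⟩
  have h1 : ε' * ε' = ε' := by rw [hε', ← map_mul, hε]
  have h2 : lamB lam (S₁ ⊗[S] S₂) ε' = 1 - ε' := by
    rw [hε', ← gOm_lamB, hlε, map_sub, map_one]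
  obtain ⟨f, hf⟩ := exists_auto_of_idem (lamB lam (S₁ ⊗[S] S₂)) (lamB_lamB lam hlam (S₁ ⊗[S] S₂))
    ε' h1 h2 (tau lam t (S₁ ⊗[S] S₂) σ)
  let P : Piece lam t n (S₁ ⊗[S] S₂) :=
    { σ := σ.trans f
      u := 1
      hu := isUnit_one
      conj := by
        intro a
        rw [mul_one, one_mul, AlgEquiv.trans_apply, AlgEquiv.trans_apply]
        have h3 : (1 : (S₁ ⊗[S] S₂) ⊗[S] R) ⊗ₜ[R] t a =
            TT lam t (S₁ ⊗[S] S₂) ((1 : (S₁ ⊗[S] S₂) ⊗[S] R) ⊗ₜ[R] a) := by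
          rw [TT_tmul, map_one]
        rw [h3, ← tau_sigma, hf] }
  let P' : Piece lam t₀ n (S₁ ⊗[S] S₂) :=
    stdPiece lam n t₀ 1 isUnit_one (fun X => by rw [mul_one, one_mul, ht₀]) (S₁ ⊗[S] S₂)
  have hu : P.u = P'.u := by
    show (1 : Matrix (Fin n) (Fin n) ((S₁ ⊗[S] S₂) ⊗[S] R)) =
      (1 : Matrix (Fin n) (Fin n) R).map (algebraMap R ((S₁ ⊗[S] S₂) ⊗[S] R))
    rw [Matrix.map_one _ (map_zero _) (map_one _)]
  obtain ⟨F, hF1, hF2⟩ := exists_iso_of_pieces P P' hu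
  exact ⟨S₁ ⊗[S] S₂, inferInstance, inferInstance, inferInstance, inferInstance, F, hF1, hF2⟩

theorem main (S : Type u) (R : Type v) [CommRing S] [CommRing R] [Algebra S R]
    (lam : R ≃ₐ[S] R) (hlam : ∀ r, lam (lam r) = r) (hfix : RInv.IsFixedRing S R lam.toRingEquiv)
    (hq : RInv.IsQuadEtale S R)
    (A : Type w) [Ring A] [Algebra S A] [Algebra R A] [IsScalarTower S R A]
    (n : ℕ) (hn : 0 < n) (hA : AzInv.IsAzumayaDeg R A n) (t : AzInv.LamInv R A lam) :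
    AzInv.SameType S lam t (AzInv.LamInv.self lam hlam) := by
  refine ⟨1, n, one_pos, hn, ?_⟩
  have hA₁ : IsAzumayaDeg R (Matrix (Fin 1) (Fin 1) A) n :=
    isAzumayaDeg_of_algEquiv (Groth.Agent.Lib.R2LeadInvConv.mat1Equiv R A).symm hA
  exact locIsoEt_of_quad S R lam hlam hfix hq (Matrix (Fin 1) (Fin 1) A) n hn hA₁
    (t.matrix (Fin 1)) ((AzInv.LamInv.self lam hlam).matrix (Fin n)) (fun X => rfl)

end Groth.Agent.Lib.R2LeadAzTQuadMain
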