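import Mathlib
import Groth.Agent.Lib.R2LeadAzTClass
import Groth.Agent.Lib.R2LeadAzTBlock
import Groth.Agent.Lib.R2LeadInvConv
import Groth.Agent.S15584

/-!
# Local classification of involutions when `2` is invertible: the skew-hermitian case (lead)
-/

set_option autoImplicit false
set_option linter.style.haveILetI false
set_option linter.unusedSectionVars false

namespace Groth.Agent.Lib.R2LeadAzTSkew

open TensorProduct AzInv
open Groth.Agent.Lib.R2LeadAzTQuad (lamB lamB_tmul lamB_lamB)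
open Groth.Agent.Lib.R2LeadAzTBase Groth.Agent.Lib.R2LeadAzTLocal Groth.Agent.Lib.R2LeadAzTDiag
  Groth.Agent.Lib.R2LeadAzTClass Groth.Agent.Lib.R2LeadAzTBlock
open Groth.Agent.Lib.R2LeadInvForms (HasSqrtCovers exists_sqrt_cover stdAlt)
open Groth.Agent.Lib.R2LeadInvConv (Phi Phi_apply even_iff_modNat div_eq_iff_divNat)

attribute [local instance] Algebra.TensorProduct.rightAlgebra

universe u v w w'

section PhiFacts

variable {Ω : Type*} [CommRing Ω] {k : ℕ}

/-- the diagonal `2 × 2` blocks of a matrix -/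
def blk (G : Matrix (Fin (k * 2)) (Fin (k * 2)) Ω) (a : Fin k) : Matrix (Fin 2) (Fin 2) Ω :=
  Matrix.of fun c d => G (finProdFinEquiv (a, c)) (finProdFinEquiv (a, d))

theorem blk_apply (G : Matrix (Fin (k * 2)) (Fin (k * 2)) Ω) (a : Fin k) (c d : Fin 2) :
    blk G a c d = G (finProdFinEquiv (a, c)) (finProdFinEquiv (a, d)) := rfl

theorem finProd_div_mod (i : Fin (k * 2)) : finProdFinEquiv (i.divNat, i.modNat) = i :=
  finProdFinEquiv.apply_symm_apply i

theorem eq_Phi_diagonal (G : Matrix (Fin (k * 2)) (Fin (k * 2)) Ω)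
    (hoff : ∀ i j : Fin (k * 2), i.val / 2 ≠ j.val / 2 → G i j = 0) :
    G = Phi k (Matrix.diagonal (fun a => blk G a)) := by
  ext i j
  rw [Phi_apply]
  by_cases hd : i.divNat = j.divNat
  · rw [hd, Matrix.diagonal_apply_eq, blk_apply, ← hd, finProd_div_mod, hd, finProd_div_mod]
  · rw [Matrix.diagonal_apply_ne _ hd]
    rw [hoff i j (fun h => hd ((div_eq_iff_divNat i j).1 h))]
    rfl

theorem lamTr_Phi_diagonal {F : Type*} [FunLike F Ω Ω] [RingHomClass F Ω Ω] (L : F)
    (h : Fin k → Matrix (Fin 2) (Fin 2) Ω) :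
    lamTr L (Phi k (Matrix.diagonal h)) = Phi k (Matrix.diagonal (fun a => lamTr L (h a))) := by
  ext i j
  rw [lamTr_apply, Phi_apply, Phi_apply]
  by_cases hd : i.divNat = j.divNat
  · rw [hd, Matrix.diagonal_apply_eq, Matrix.diagonal_apply_eq, lamTr_apply]
  · rw [Matrix.diagonal_apply_ne _ hd, Matrix.diagonal_apply_ne _ (Ne.symm hd)]
    show L 0 = 0
    exact map_zero L

theorem Phi_diagonal_map {Ω' : Type*} [CommRing Ω'] (f : Ω →+* Ω')
    (h : Fin k → Matrix (Fin 2) (Fin 2) Ω) :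
    (Phi k (Matrix.diagonal h)).map f = Phi k (Matrix.diagonal (fun a => (h a).map f)) := by
  ext i j
  rw [Matrix.map_apply, Phi_apply, Phi_apply]
  by_cases hd : i.divNat = j.divNat
  · rw [hd, Matrix.diagonal_apply_eq, Matrix.diagonal_apply_eq, Matrix.map_apply]
  · rw [Matrix.diagonal_apply_ne _ hd, Matrix.diagonal_apply_ne _ hd]
    show f 0 = 0
    exact map_zero f

theorem stdAlt_eq_Phi' : stdAlt (k * 2) Ω = Phi k (Matrix.diagonal fun _ => (J₀ : Matrix _ _ Ω)) := by
  ext i j
  rw [Phi_apply]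
  simp only [stdAlt, Matrix.of_apply, even_iff_modNat, div_eq_iff_divNat]
  by_cases hd : i.divNat = j.divNat
  · rw [if_pos hd, hd, Matrix.diagonal_apply_eq]
    generalize i.modNat = c
    generalize j.modNat = d
    fin_cases c <;> fin_cases d <;> simp [J₀]
  · rw [if_neg hd, Matrix.diagonal_apply_ne _ hd]
    rfl

end PhiFacts

section Spread

variable {T : Type*} [CommRing T] (M : Submonoid T) {L : Type*} [CommRing L] [Algebra T L]
  [IsLocalization M L]

/-- spreading out a congruence from a localisation, with a prescribed pattern of zeros -/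
theorem spread' (lamT : T →+* T) (lamL : L →+* L)
    (hcomp : ∀ x, lamL (algebraMap T L x) = algebraMap T L (lamT x))
    (hM : ∀ m ∈ M, lamT m = m) {n : ℕ} (Pz : Fin n → Fin n → Prop)
    (u : Matrix (Fin n) (Fin n) T)
    (v v' : Matrix (Fin n) (Fin n) L) (hvv' : v * v' = 1) (hv'v : v' * v = 1)
    (hoff : ∀ i j, Pz i j → (lamTr lamL v * u.map (algebraMap T L) * v) i j = 0) :
    ∃ m ∈ M, ∃ b ∈ M, ∃ v₀ w₀ : Matrix (Fin n) (Fin n) T, v₀ * w₀ = m • 1 ∧ w₀ * v₀ = m • 1 ∧
      (∀ i j, Pz i j → m * (lamTr lamT v₀ * u * v₀) i j = 0) ∧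
      (lamTr lamT v₀ * u * v₀).map (algebraMap T L) =
        (algebraMap T L b * algebraMap T L b) • (lamTr lamL v * u.map (algebraMap T L) * v) := by
  obtain ⟨b, v₁, hv₁⟩ := exists_integer_matrix' M v
  obtain ⟨b', w₁, hw₁⟩ := exists_integer_matrix' M v'
  have e1 : (v₁ * w₁ - ((b : T) * (b' : T)) • 1).map (algebraMap T L) = 0 := by
    rw [Matrix.map_sub (f := algebraMap T L) (fun _ _ => map_sub _ _ _), Matrix.map_mul, hv₁, hw₁,
      Matrix.smul_mul, Matrix.mul_smul, hvv', smul_smul]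
    have : (((b : T) * (b' : T)) • (1 : Matrix (Fin n) (Fin n) T)).map (algebraMap T L) =
        (algebraMap T L b * algebraMap T L b') • 1 := by
      ext i j
      simp only [Matrix.map_apply, Matrix.smul_apply, smul_eq_mul, map_mul, Matrix.one_apply]
      split_ifs <;> simp
    rw [this, sub_self]
  have e2 : (w₁ * v₁ - ((b : T) * (b' : T)) • 1).map (algebraMap T L) = 0 := by
    rw [Matrix.map_sub (f := algebraMap T L) (fun _ _ => map_sub _ _ _), Matrix.map_mul, hv₁, hw₁,
      Matrix.smul_mul, Matrix.mul_smul, hv'v, smul_smul]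
    have : (((b : T) * (b' : T)) • (1 : Matrix (Fin n) (Fin n) T)).map (algebraMap T L) =
        (algebraMap T L b' * algebraMap T L b) • 1 := by
      ext i j
      simp only [Matrix.map_apply, Matrix.smul_apply, smul_eq_mul, map_mul, Matrix.one_apply]
      split_ifs <;> simp [mul_comm]
    rw [this, sub_self]
  obtain ⟨c₁, hc₁⟩ := exists_kill_matrix M (L := L) (v₁ * w₁ - ((b : T) * (b' : T)) • 1)
    (fun _ _ => True) (fun i j _ => by
      have := congrFun (congrFun e1 i) j
      rwa [Matrix.map_apply] at this)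
  obtain ⟨c₂, hc₂⟩ := exists_kill_matrix M (L := L) (w₁ * v₁ - ((b : T) * (b' : T)) • 1)
    (fun _ _ => True) (fun i j _ => by
      have := congrFun (congrFun e2 i) j
      rwa [Matrix.map_apply] at this)
  have hbL : lamL (algebraMap T L b) = algebraMap T L b := by rw [hcomp, hM b b.2]
  have h3 : (lamTr lamT v₁ * u * v₁).map (algebraMap T L) =
      (algebraMap T L b * algebraMap T L b) •
        (lamTr lamL v * u.map (algebraMap T L) * v) := by
    rw [Matrix.map_mul, Matrix.map_mul, lamTr_map_of_comp lamT lamL hcomp, hv₁,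
      lamTr_smul, hbL, Matrix.smul_mul, Matrix.smul_mul, Matrix.mul_smul, smul_smul]
  obtain ⟨c₃, hc₃⟩ := exists_kill_matrix M (L := L) (lamTr lamT v₁ * u * v₁)
    Pz (fun i j hij => by
      have := congrFun (congrFun h3 i) j
      rw [Matrix.map_apply, Matrix.smul_apply, hoff i j hij, smul_zero] at this
      exact this)
  obtain ⟨k, hk⟩ : ∃ k : T, k = (c₁ : T) * (c₂ : T) * (c₃ : T) := ⟨_, rfl⟩
  have hkM : k ∈ M := by
    rw [hk]
    exact M.mul_mem (M.mul_mem c₁.2 c₂.2) c₃.2
  refine ⟨k * ((b : T) * (b' : T)), M.mul_mem hkM (M.mul_mem b.2 b'.2), b, b.2, v₁, k • w₁,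
    ?_, ?_, ?_, h3⟩
  · ext i j
    have := hc₁ i j trivial
    rw [Matrix.sub_apply, mul_sub, sub_eq_zero] at this
    rw [Matrix.mul_smul, Matrix.smul_apply, smul_eq_mul, hk, mul_assoc (c₁ : T), mul_comm (c₁ : T),
      mul_assoc, this, Matrix.smul_apply, Matrix.smul_apply, smul_eq_mul, smul_eq_mul]
    ring
  · ext i j
    have := hc₂ i j trivial
    rw [Matrix.sub_apply, mul_sub, sub_eq_zero] at this
    rw [Matrix.smul_mul, Matrix.smul_apply, smul_eq_mul, hk, mul_comm (c₁ : T) (c₂ : T),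
      mul_assoc (c₂ : T), mul_comm (c₂ : T), mul_assoc, this, Matrix.smul_apply,
      Matrix.smul_apply, smul_eq_mul, smul_eq_mul]
    ring
  · intro i j hij
    have := hc₃ i j hij
    rw [hk]
    calc (c₁ : T) * (c₂ : T) * (c₃ : T) * ((b : T) * (b' : T)) * (lamTr lamT v₁ * u * v₁) i j
        = (c₁ : T) * (c₂ : T) * ((b : T) * (b' : T)) * ((c₃ : T) * (lamTr lamT v₁ * u * v₁) i j) := by
          ring
      _ = 0 := by rw [this, mul_zero]

end Spread

end Groth.Agent.Lib.R2LeadAzTSkew
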