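import Mathlib
import Groth.Agent.Lib.R2LeadAzTSkew

/-!
# Spreading out a congruence of hermitian matrices from a local ring (lead)
-/

set_option autoImplicit false
set_option linter.style.haveILetI false
set_option linter.unusedSectionVars false

namespace Groth.Agent.Lib.R2LeadAzTSpreadEq

open TensorProduct AzInv
open Groth.Agent.Lib.R2LeadAzTQuad (lamB lamB_tmul lamB_lamB)
open Groth.Agent.Lib.R2LeadAzTBase Groth.Agent.Lib.R2LeadAzTLocal Groth.Agent.Lib.R2LeadAzTDiag
  Groth.Agent.Lib.R2LeadAzTClass Groth.Agent.Lib.R2LeadAzTBlock Groth.Agent.Lib.R2LeadAzTSkew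

attribute [local instance] Algebra.TensorProduct.rightAlgebra

universe u v w w'

section LocHom2

variable {S : Type u} [CommRing S] {T T' : Type u} [CommRing T] [CommRing T'] [Algebra S T]
  [Algebra S T']

/-- the map of local rings induced by a map of algebras -/
noncomputable def locHom₂ (g : T →ₐ[S] T') (Q : Ideal T) [Q.IsPrime] (Q' : Ideal T') [Q'.IsPrime]
    (hQ : Q'.comap g.toRingHom = Q) : Localization.AtPrime Q →ₐ[S] Localization.AtPrime Q' :=
  { toRingHom := Localization.localRingHom Q Q' g.toRingHom hQ.symm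
    commutes' := fun s => by
      show Localization.localRingHom Q Q' g.toRingHom hQ.symm
        (algebraMap S (Localization.AtPrime Q) s) = algebraMap S (Localization.AtPrime Q') s
      rw [IsScalarTower.algebraMap_apply S T (Localization.AtPrime Q),
        Localization.localRingHom_to_map, IsScalarTower.algebraMap_apply S T' (Localization.AtPrime Q')]
      congr 1
      exact g.commutes s }

theorem locHom₂_algebraMap (g : T →ₐ[S] T') (Q : Ideal T) [Q.IsPrime] (Q' : Ideal T') [Q'.IsPrime]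
    (hQ : Q'.comap g.toRingHom = Q) (x : T) :
    locHom₂ g Q Q' hQ (algebraMap T (Localization.AtPrime Q) x) =
      algebraMap T' (Localization.AtPrime Q') (g x) :=
  Localization.localRingHom_to_map Q Q' g.toRingHom hQ.symm x

instance (g : T →ₐ[S] T') (Q : Ideal T) [Q.IsPrime] (Q' : Ideal T') [Q'.IsPrime]
    (hQ : Q'.comap g.toRingHom = Q) : IsLocalHom (locHom₂ g Q Q' hQ) :=
  ⟨fun a ha => (Localization.isLocalHom_localRingHom Q Q' g.toRingHom hQ.symm).map_nonunit a ha⟩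

end LocHom2

section GOm

variable {S : Type u} {R : Type v} [CommRing S] [CommRing R] [Algebra S R]
  {T₁ T₂ T₃ T₄ : Type u} [CommRing T₁] [CommRing T₂] [CommRing T₃] [CommRing T₄]
  [Algebra S T₁] [Algebra S T₂] [Algebra S T₃] [Algebra S T₄]

theorem gOm_square (f₁ : T₁ →ₐ[S] T₂) (φ : T₂ →ₐ[S] T₄) (g : T₁ →ₐ[S] T₃) (f₃ : T₃ →ₐ[S] T₄)
    (h : ∀ x, φ (f₁ x) = f₃ (g x)) (x : T₁ ⊗[S] R) :
    gOm (R := R) φ (gOm (R := R) f₁ x) = gOm (R := R) f₃ (gOm (R := R) g x) := by
  induction x using TensorProduct.induction_on with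
  | zero => simp
  | add x y hx hy => rw [map_add, map_add, hx, hy, map_add, map_add]
  | tmul a r => rw [gOm_tmul, gOm_tmul, gOm_tmul, gOm_tmul, h]

theorem gOm_algebraMap (f : T₁ →ₐ[S] T₂) (x : T₁) :
    gOm (R := R) f (algebraMap T₁ (T₁ ⊗[S] R) x) = algebraMap T₂ (T₂ ⊗[S] R) (f x) := rfl

end GOm

section SpreadEq

variable {S : Type u} {R : Type v} [CommRing S] [CommRing R] [Algebra S R] (lam : R ≃ₐ[S] R)
  (hlam : ∀ r, lam (lam r) = r)
  {A : Type w} [Ring A] [Algebra R A] {t : LamInv R A lam} {n : ℕ}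
  {S' : Type u} [CommRing S'] [Algebra S S']

include hlam in
/-- the algebraic step: integral data for a congruence give a piece once the denominators are
inverted -/
theorem piece_of_spread {T₂ : Type u} [CommRing T₂] [Algebra S T₂] (g : S' →ₐ[S] T₂)
    (P : Piece lam t n S') (W v₀ w₀ : Matrix (Fin n) (Fin n) (S' ⊗[S] R)) (sm sb sc : S')
    (e1 : v₀ * w₀ = algebraMap S' (S' ⊗[S] R) sm • 1)
    (e2 : w₀ * v₀ = algebraMap S' (S' ⊗[S] R) sm • 1)
    (hc : ∀ i j, algebraMap S' (S' ⊗[S] R) sc *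
      (lamTr (lamB lam S') v₀ * P.u * v₀ -
        (algebraMap S' (S' ⊗[S] R) sb * algebraMap S' (S' ⊗[S] R) sb) • W) i j = 0)
    (hum : IsUnit (g sm)) (hub : IsUnit (g sb)) (huc : IsUnit (g sc)) :
    ∃ P' : Piece lam t n T₂, P'.u = W.map (gOm (R := R) g) := by
  obtain ⟨jm, hjm⟩ := hum.exists_right_inv
  obtain ⟨jb, hjb⟩ := hub.exists_right_inv
  have hL := lamB_lamB lam hlam T₂
  obtain ⟨v₁, hv₁⟩ : ∃ v₁, v₁ = v₀.map (gOm (R := R) g) := ⟨_, rfl⟩
  obtain ⟨w₁, hw₁⟩ : ∃ w₁, w₁ = w₀.map (gOm (R := R) g) := ⟨_, rfl⟩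
  obtain ⟨ι, hι⟩ : ∃ ι, ι = algebraMap T₂ (T₂ ⊗[S] R) jm := ⟨_, rfl⟩
  obtain ⟨ιb, hιb⟩ : ∃ ιb, ιb = algebraMap T₂ (T₂ ⊗[S] R) jb := ⟨_, rfl⟩
  obtain ⟨βb, hβb⟩ : ∃ βb, βb = algebraMap T₂ (T₂ ⊗[S] R) (g sb) := ⟨_, rfl⟩
  have hιm : gOm (R := R) g (algebraMap S' (S' ⊗[S] R) sm) * ι = 1 := by
    rw [gOm_algebraMap, hι, ← map_mul, hjm, map_one]
  have hββ : βb * ιb = 1 := by rw [hβb, hιb, ← map_mul, hjb, map_one]
  have hLι : lamB lam T₂ ιb = ιb := by
    rw [hιb]; exact (lamB lam T₂).commutes jb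
  have hLβ : lamB lam T₂ βb = βb := by
    rw [hβb]; exact (lamB lam T₂).commutes _
  have i1 : v₁ * (ι • w₁) = 1 := by
    rw [hv₁, hw₁, Matrix.mul_smul, ← Matrix.map_mul, e1, map_smul_one (gOm (R := R) g),
      smul_smul, mul_comm, hιm, one_smul]
  have i2 : (ι • w₁) * v₁ = 1 := by
    rw [hv₁, hw₁, Matrix.smul_mul, ← Matrix.map_mul, e2, map_smul_one (gOm (R := R) g),
      smul_smul, mul_comm, hιm, one_smul]
  have hg1 : (ιb • lamTr (lamB lam T₂) v₁) * (βb • lamTr (lamB lam T₂) (ι • w₁)) = 1 := by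
    rw [Matrix.smul_mul, Matrix.mul_smul, smul_smul, ← lamTr_mul, i2, lamTr_one, mul_comm, hββ,
      one_smul]
  have hg2 : (βb • lamTr (lamB lam T₂) (ι • w₁)) * (ιb • lamTr (lamB lam T₂) v₁) = 1 := by
    rw [Matrix.smul_mul, Matrix.mul_smul, smul_smul, ← lamTr_mul, i1, lamTr_one, hββ,
      one_smul]
  refine ⟨(P.map g).congr _ _ hg1 hg2, ?_⟩
  rw [Piece.congr_u, Piece.map_u, lamTr_smul, lamTr_lamTr _ hL, hLι, Matrix.smul_mul,
    Matrix.smul_mul, Matrix.mul_smul, smul_smul]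
  have e9 : lamTr (lamB lam T₂) v₁ * P.u.map (gOm (R := R) g) * v₁ =
      (lamTr (lamB lam S') v₀ * P.u * v₀).map (gOm (R := R) g) := by
    rw [Matrix.map_mul, Matrix.map_mul, lamTr_map, hv₁]
  rw [e9]
  have e10 : (lamTr (lamB lam S') v₀ * P.u * v₀).map (gOm (R := R) g) =
      (βb * βb) • W.map (gOm (R := R) g) := by
    ext i j
    have h3 := congrArg (gOm (R := R) g) (hc i j)
    rw [map_mul, map_zero, gOm_algebraMap] at h3
    have h4 : IsUnit (algebraMap T₂ (T₂ ⊗[S] R) (g sc)) := huc.map _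
    have h5 := (h4.mul_right_eq_zero).1 h3
    rw [Matrix.sub_apply, map_sub, sub_eq_zero] at h5
    rw [Matrix.map_apply, h5, Matrix.smul_apply, Matrix.smul_apply, Matrix.map_apply, smul_eq_mul,
      smul_eq_mul, map_mul, map_mul, gOm_algebraMap, hβb]
  rw [e10, smul_smul]
  have : ιb * ιb * (βb * βb) = 1 := by
    calc ιb * ιb * (βb * βb) = (βb * ιb) * (βb * ιb) := by ring
      _ = 1 := by rw [hββ, one_mul]
  rw [this, one_smul]

variable (q' : Ideal S') [q'.IsPrime]

include hlam in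
/-- a congruence over the local ring spreads out to a neighbourhood -/
theorem exists_piece_of_local_congr (P : Piece lam t n S')
    (W : Matrix (Fin n) (Fin n) (S' ⊗[S] R))
    (V V' : Matrix (Fin n) (Fin n) (Localization.AtPrime q' ⊗[S] R)) (h1 : V * V' = 1)
    (h2 : V' * V = 1)
    (hW : V * P.u.map (gOm (R := R) (IsScalarTower.toAlgHom S S' (Localization.AtPrime q'))) *
      lamTr (lamB lam (Localization.AtPrime q')) V =
      W.map (gOm (R := R) (IsScalarTower.toAlgHom S S' (Localization.AtPrime q')))) :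
    ∃ s : S', s ∉ q' ∧ ∃ P' : Piece lam t n (Localization.Away s),
      P'.u = W.map (gOm (R := R) (IsScalarTower.toAlgHom S S' (Localization.Away s))) := by
  obtain ⟨gB, hgB⟩ : ∃ gB : S' →ₐ[S] Localization.AtPrime q',
      gB = IsScalarTower.toAlgHom S S' (Localization.AtPrime q') := ⟨_, rfl⟩
  rw [← hgB] at hW
  have hLB := lamB_lamB lam hlam (Localization.AtPrime q')
  letI : Algebra (S' ⊗[S] R) (Localization.AtPrime q' ⊗[S] R) :=
    (gOm (R := R) gB).toRingHom.toAlgebra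
  haveI : IsScalarTower S' (S' ⊗[S] R) (Localization.AtPrime q' ⊗[S] R) :=
    IsScalarTower.of_algebraMap_eq (fun s => by
      show algebraMap S' (Localization.AtPrime q' ⊗[S] R) s =
        gOm (R := R) gB (algebraMap S' (S' ⊗[S] R) s)
      rw [hgB]
      rfl)
  haveI : IsLocalization (Algebra.algebraMapSubmonoid (S' ⊗[S] R) q'.primeCompl)
      (Localization.AtPrime q' ⊗[S] R) :=
    IsLocalization.tensorProduct_tensorProduct S R q'.primeCompl (Localization.AtPrime q')
      (by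
        ext r
        show gOm (R := R) gB ((1 : S') ⊗ₜ[S] r) = (1 : Localization.AtPrime q') ⊗ₜ[S] r
        rw [gOm_tmul, map_one])
  have hVV : lamTr (lamB lam (Localization.AtPrime q')) V *
      lamTr (lamB lam (Localization.AtPrime q')) V' = 1 := by
    rw [← lamTr_mul, h2, lamTr_one]
  have hVV' : lamTr (lamB lam (Localization.AtPrime q')) V' *
      lamTr (lamB lam (Localization.AtPrime q')) V = 1 := by
    rw [← lamTr_mul, h1, lamTr_one]
  obtain ⟨m, hmM, b, hbM, v₀, w₀, e1, e2, -, e4⟩ := spread'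
    (Algebra.algebraMapSubmonoid (S' ⊗[S] R) q'.primeCompl) (L := Localization.AtPrime q' ⊗[S] R)
    (lamB lam S' : (S' ⊗[S] R) →+* (S' ⊗[S] R))
    (lamB lam (Localization.AtPrime q') :
      (Localization.AtPrime q' ⊗[S] R) →+* (Localization.AtPrime q' ⊗[S] R))
    (fun x => (gOm_lamB lam gB x).symm)
    (by
      rintro m ⟨s, -, rfl⟩
      exact (lamB lam S').commutes s)
    (fun _ _ => False) P.u
    (lamTr (lamB lam (Localization.AtPrime q')) V) (lamTr (lamB lam (Localization.AtPrime q')) V')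
    hVV hVV' (fun i j hf => hf.elim)
  have e6 : lamTr (lamB lam (Localization.AtPrime q'))
      (lamTr (lamB lam (Localization.AtPrime q')) V) = V := lamTr_lamTr _ hLB V
  have e4' : (lamTr (lamB lam S') v₀ * P.u * v₀).map (gOm (R := R) gB) =
      (gOm (R := R) gB b * gOm (R := R) gB b) •
        (lamTr (lamB lam (Localization.AtPrime q'))
          (lamTr (lamB lam (Localization.AtPrime q')) V) * P.u.map (gOm (R := R) gB) *
          lamTr (lamB lam (Localization.AtPrime q')) V) := e4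
  rw [e6, hW] at e4'
  have e5 : ∀ i j, gOm (R := R) gB ((lamTr (lamB lam S') v₀ * P.u * v₀ - (b * b) • W) i j) = 0 := by
    intro i j
    have := congrFun (congrFun e4' i) j
    rw [Matrix.map_apply, Matrix.smul_apply, Matrix.map_apply, smul_eq_mul] at this
    rw [Matrix.sub_apply, map_sub, this, Matrix.smul_apply, smul_eq_mul, map_mul, map_mul,
      sub_self]
  obtain ⟨c, hc⟩ := exists_kill_matrix (Algebra.algebraMapSubmonoid (S' ⊗[S] R) q'.primeCompl)
    (L := Localization.AtPrime q' ⊗[S] R) (lamTr (lamB lam S') v₀ * P.u * v₀ - (b * b) • W)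
    (fun _ _ => True) (fun i j _ => e5 i j)
  obtain ⟨sm, hsm, rfl⟩ := hmM
  obtain ⟨sb, hsb, rfl⟩ := hbM
  obtain ⟨sc, hsc, hscc⟩ := c.2
  obtain ⟨s, hs⟩ : ∃ s : S', s = sm * sb * sc := ⟨_, rfl⟩
  have hsq' : s ∉ q' := by
    rw [hs]
    exact (q'.primeCompl.mul_mem (q'.primeCompl.mul_mem hsm hsb) hsc)
  refine ⟨s, hsq', ?_⟩
  obtain ⟨g, hg⟩ : ∃ g : S' →ₐ[S] Localization.Away s,
      g = IsScalarTower.toAlgHom S S' (Localization.Away s) := ⟨_, rfl⟩
  have hunit : ∀ x : S', x ∣ s → IsUnit (g x) := by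
    intro x hx
    have h3 : IsUnit (g s) := by
      rw [hg]
      exact IsLocalization.Away.algebraMap_isUnit s
    exact isUnit_of_dvd_unit (map_dvd g hx) h3
  have hum : IsUnit (g sm) := hunit sm ⟨sb * sc, by rw [hs]; ring⟩
  have hub : IsUnit (g sb) := hunit sb ⟨sm * sc, by rw [hs]; ring⟩
  have huc : IsUnit (g sc) := hunit sc ⟨sm * sb, by rw [hs]; ring⟩
  rw [← hg]
  exact piece_of_spread lam hlam g P W v₀ w₀ sm sb sc e1 e2
    (fun i j => by rw [hscc]; exact hc i j trivial) hum hub huc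

end SpreadEq

end Groth.Agent.Lib.R2LeadAzTSpreadEq
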