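import Mathlib
import Groth.Agent.Lib.R2LeadAzTSpreadEq

/-!
# Local classification of involutions when `2` is invertible: the skew-hermitian case, main step
(lead)
-/

set_option autoImplicit false
set_option linter.style.haveILetI false
set_option linter.unusedSectionVars false

namespace Groth.Agent.Lib.R2LeadAzTSkewMain

open TensorProduct AzInv
open Groth.Agent.Lib.R2LeadAzTQuad (lamB lamB_tmul lamB_lamB)
open Groth.Agent.Lib.R2LeadAzTBase Groth.Agent.Lib.R2LeadAzTLocal Groth.Agent.Lib.R2LeadAzTDiag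
  Groth.Agent.Lib.R2LeadAzTClass Groth.Agent.Lib.R2LeadAzTBlock Groth.Agent.Lib.R2LeadAzTSkew
  Groth.Agent.Lib.R2LeadAzTSpreadEq
open Groth.Agent.Lib.R2LeadInvForms (HasSqrtCovers exists_sqrt_cover stdAlt stdAlt_map)
open Groth.Agent.Lib.R2LeadInvConv (Phi Phi_apply even_iff_modNat div_eq_iff_divNat)

attribute [local instance] Algebra.TensorProduct.rightAlgebra

universe u v w w'

section Local

variable {S : Type u} {R : Type v} [CommRing S] [CommRing R] [Algebra S R] (lam : R ≃ₐ[S] R)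
  (hlam : ∀ r, lam (lam r) = r) (hfix : RInv.IsFixedRing S R lam.toRingEquiv)

include hlam hfix in
theorem even_of_skew {B : Type u} [CommRing B] [Algebra S B] [Module.Flat S B] [IsLocalRing B]
    (hram : RamOver lam B) (h2 : IsUnit (2 : S)) (n : ℕ)
    (u : Matrix (Fin n) (Fin n) (B ⊗[S] R)) (hu : IsUnit u)
    (hskew : lamTr (lamB lam B) u = -u) : Even n := by
  have hfixB := fixedRing_bc lam hlam hfix B
  have hLinv : Function.Involutive (lamB lam B).toRingEquiv := lamB_lamB lam hlam B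
  have h2B : IsUnit (2 : B ⊗[S] R) := by
    have := h2.map (algebraMap S (B ⊗[S] R))
    rwa [map_ofNat] at this
  exact (Groth.Agent.S15584.result B (B ⊗[S] R) (lamB lam B).toRingEquiv hLinv hfixB n hram h2B u hu
    (by
      show -(lamTr (lamB lam B) u) = u
      rw [hskew, neg_neg])).1

include hlam hfix in
/-- the block decomposition of a skew-hermitian matrix over a ramified local ring -/
theorem exists_blocks {B : Type u} [CommRing B] [Algebra S B] [Module.Flat S B] [IsLocalRing B]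
    (hram : RamOver lam B) (h2 : IsUnit (2 : S)) (k : ℕ)
    (u : Matrix (Fin (k * 2)) (Fin (k * 2)) (B ⊗[S] R)) (hu : IsUnit u)
    (hskew : lamTr (lamB lam B) u = -u) :
    ∃ (v v' : Matrix (Fin (k * 2)) (Fin (k * 2)) (B ⊗[S] R))
      (h : Fin k → Matrix (Fin 2) (Fin 2) (B ⊗[S] R)) (β' : Fin k → B ⊗[S] R) (ϑ : Fin k → B),
      v * v' = 1 ∧ v' * v = 1 ∧ lamTr (lamB lam B) v * u * v = Phi k (Matrix.diagonal h) ∧
      (∀ a, lamTr (lamB lam B) (h a) = -(h a)) ∧ (∀ a, h a 0 1 * β' a = 1) ∧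
      (∀ a, algebraMap B (B ⊗[S] R) (ϑ a) =
        1 + h a 0 0 * h a 1 1 * β' a * lamB lam B (β' a)) ∧
      (∀ a, ϑ a - 1 ∈ IsLocalRing.maximalIdeal B) := by
  have hfixB := fixedRing_bc lam hlam hfix B
  have hLinv : Function.Involutive (lamB lam B).toRingEquiv := lamB_lamB lam hlam B
  have hLL := lamB_lamB lam hlam B
  obtain ⟨hloc, -⟩ := Groth.Agent.S15577.result B (B ⊗[S] R) (lamB lam B).toRingEquiv hLinv hfixB
    hram
  haveI := hloc
  have hjac : Ring.jacobson (B ⊗[S] R) = IsLocalRing.maximalIdeal (B ⊗[S] R) := by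
    rw [← Ideal.jacobson_bot, IsLocalRing.jacobson_eq_maximalIdeal ⊥ bot_ne_top]
  have h2B : IsUnit (2 : B ⊗[S] R) := by
    have := h2.map (algebraMap S (B ⊗[S] R))
    rwa [map_ofNat] at this
  obtain ⟨-, v, hv, hcond⟩ := Groth.Agent.S15584.result B (B ⊗[S] R) (lamB lam B).toRingEquiv hLinv
    hfixB (k * 2) hram h2B u hu
    (by
      show -(lamTr (lamB lam B) u) = u
      rw [hskew, neg_neg])
  obtain ⟨⟨v, v', hvv', hv'v⟩, rfl⟩ := hv
  obtain ⟨G, hG⟩ : ∃ G, G = lamTr (lamB lam B) v * u * v := ⟨_, rfl⟩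
  have hcond' : ∀ i j : Fin (k * 2),
      (i.val / 2 ≠ j.val / 2 → G i j = 0) ∧
      (i.val / 2 = j.val / 2 → (Even i.val ↔ Even j.val) → G i j ∈ Ring.jacobson (B ⊗[S] R)) ∧
      (i.val / 2 = j.val / 2 → Even i.val → ¬ Even j.val →
        G i j - 1 ∈ Ring.jacobson (B ⊗[S] R)) ∧
      (i.val / 2 = j.val / 2 → ¬ Even i.val → Even j.val →
        G i j + 1 ∈ Ring.jacobson (B ⊗[S] R)) := by
    rw [hG]
    exact hcond
  have hGskew : lamTr (lamB lam B) G = -G := by
    rw [hG, lamTr_mul, lamTr_mul, lamTr_lamTr _ hLL, hskew, Matrix.neg_mul, Matrix.mul_neg,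
      mul_assoc]
  have hGeq : G = Phi k (Matrix.diagonal (fun a => blk G a)) :=
    eq_Phi_diagonal G (fun i j hij => (hcond' i j).1 hij)
  have hval : ∀ (a : Fin k) (c : Fin 2),
      (finProdFinEquiv (a, c) : Fin (k * 2)).val = c.val + 2 * a.val := fun a c => rfl
  have hdiagJ : ∀ (a : Fin k) (c : Fin 2), blk G a c c ∈ IsLocalRing.maximalIdeal (B ⊗[S] R) := by
    intro a c
    rw [← hjac, blk_apply]
    exact (hcond' _ _).2.1 rfl Iff.rfl
  have h01 : ∀ a : Fin k, blk G a 0 1 - 1 ∈ IsLocalRing.maximalIdeal (B ⊗[S] R) := by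
    intro a
    rw [← hjac, blk_apply]
    refine (hcond' _ _).2.2.1 ?_ ?_ ?_
    · rw [hval, hval]
      have : ((0 : Fin 2) : ℕ) = 0 := rfl
      have : ((1 : Fin 2) : ℕ) = 1 := rfl
      omega
    · rw [hval]
      have : ((0 : Fin 2) : ℕ) = 0 := rfl
      rw [this]
      exact ⟨a.val, by ring⟩
    · rw [hval]
      have : ((1 : Fin 2) : ℕ) = 1 := rfl
      rw [this, Nat.not_even_iff_odd]
      exact ⟨a.val, by ring⟩
  have hbu : ∀ a : Fin k, IsUnit (blk G a 0 1) := by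
    intro a
    have : blk G a 0 1 = 1 + (blk G a 0 1 - 1) := by ring
    rw [this]
    exact isUnit_add_of_mem_maximalIdeal isUnit_one (h01 a)
  choose β' hβ' using fun a => (hbu a).exists_right_inv
  have hbskew : ∀ a, lamTr (lamB lam B) (blk G a) = -(blk G a) := by
    intro a
    ext c d
    have := congrFun (congrFun hGskew (finProdFinEquiv (a, c))) (finProdFinEquiv (a, d))
    rw [lamTr_apply, Matrix.neg_apply] at this
    rw [lamTr_apply, Matrix.neg_apply, blk_apply, blk_apply]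
    exact this
  have hθfix : ∀ a, (lamB lam B).toRingEquiv
      (1 + blk G a 0 0 * blk G a 1 1 * β' a * lamB lam B (β' a)) =
      1 + blk G a 0 0 * blk G a 1 1 * β' a * lamB lam B (β' a) := by
    intro a
    have e00 := congrFun (congrFun (hbskew a) 0) 0
    have e11 := congrFun (congrFun (hbskew a) 1) 1
    rw [lamTr_apply, Matrix.neg_apply] at e00 e11
    show lamB lam B (1 + blk G a 0 0 * blk G a 1 1 * β' a * lamB lam B (β' a)) = _
    rw [map_add, map_one, map_mul, map_mul, map_mul, hLL, e00, e11]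
    ring
  choose ϑ hϑ using fun a => (hfixB.2 _).1 (hθfix a)
  refine ⟨v, v', fun a => blk G a, β', ϑ, hvv', hv'v, hG ▸ hGeq, hbskew, hβ', hϑ, ?_⟩
  intro a
  by_contra hcon
  have hu1 : IsUnit (ϑ a - 1) := by
    by_contra hnu
    exact hcon ((IsLocalRing.mem_maximalIdeal _).2 hnu)
  have hu2 : IsUnit (algebraMap B (B ⊗[S] R) (ϑ a - 1)) := hu1.map _
  have hmem : algebraMap B (B ⊗[S] R) (ϑ a - 1) ∈ IsLocalRing.maximalIdeal (B ⊗[S] R) := by
    rw [map_sub, map_one, hϑ a, add_sub_cancel_left, mul_assoc, mul_assoc]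
    exact Ideal.mul_mem_right _ _ (hdiagJ a 0)
  exact (IsLocalRing.mem_maximalIdeal _).1 hmem hu2

include hlam in
/-- the normal form of a block after extracting a square root -/
theorem exists_congr_J₀_of_sqrt {B B₃ : Type u} [CommRing B] [CommRing B₃] [Algebra S B]
    [Algebra S B₃] [IsLocalRing B] [IsLocalRing B₃] (φ : B →ₐ[S] B₃) [IsLocalHom φ]
    (h2 : IsUnit (2 : S))
    (h : Matrix (Fin 2) (Fin 2) (B ⊗[S] R)) (hskew : lamTr (lamB lam B) h = -h) (β' : B ⊗[S] R)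
    (hβ : h 0 1 * β' = 1) (ϑ : B)
    (hϑ : algebraMap B (B ⊗[S] R) ϑ = 1 + h 0 0 * h 1 1 * β' * lamB lam B β')
    (hϑ1 : ϑ - 1 ∈ IsLocalRing.maximalIdeal B) (r : B₃) (hr : r * r = φ ϑ) :
    ∃ g g' : Matrix (Fin 2) (Fin 2) (B₃ ⊗[S] R), g * g' = 1 ∧ g' * g = 1 ∧
      g * h.map (gOm (R := R) φ) * lamTr (lamB lam B₃) g = J₀ := by
  have hφ1 : φ ϑ - 1 ∈ IsLocalRing.maximalIdeal B₃ := by
    rw [IsLocalRing.mem_maximalIdeal]
    intro hu
    have : φ (ϑ - 1) = φ ϑ - 1 := by rw [map_sub, map_one]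
    rw [← this] at hu
    exact (IsLocalRing.mem_maximalIdeal _).1 hϑ1 (IsLocalHom.map_nonunit (f := φ) _ hu)
  have hprod : (r - 1) * (r + 1) ∈ IsLocalRing.maximalIdeal B₃ := by
    have : (r - 1) * (r + 1) = φ ϑ - 1 := by rw [← hr]; ring
    rw [this]
    exact hφ1
  obtain ⟨ρ₀, hρ₀1, hρ₀⟩ : ∃ ρ₀ : B₃, ρ₀ - 1 ∈ IsLocalRing.maximalIdeal B₃ ∧ ρ₀ * ρ₀ = φ ϑ := by
    rcases (IsLocalRing.maximalIdeal.isMaximal B₃).isPrime.mem_or_mem hprod with hm | hp
    · exact ⟨r, hm, hr⟩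
    · refine ⟨-r, ?_, by rw [neg_mul_neg, hr]⟩
      have : -r - 1 = -(r + 1) := by ring
      rw [this]
      exact (Ideal.neg_mem_iff _).2 hp
  have h2B : IsUnit (2 : B₃) := by
    have := h2.map (algebraMap S B₃)
    rwa [map_ofNat] at this
  have hu1 : IsUnit (1 + ρ₀) := by
    have : 1 + ρ₀ = 2 + (ρ₀ - 1) := by ring
    rw [this]
    exact isUnit_add_of_mem_maximalIdeal h2B hρ₀1
  have hu2 : IsUnit ρ₀ := by
    have : ρ₀ = 1 + (ρ₀ - 1) := by ring
    rw [this]
    exact isUnit_add_of_mem_maximalIdeal isUnit_one hρ₀1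
  obtain ⟨κ₀, hκ₀⟩ := hu1.exists_right_inv
  obtain ⟨ρ₀', hρ₀'⟩ := hu2.exists_right_inv
  obtain ⟨j, hj⟩ := h2.exists_right_inv
  have hskew' : lamTr (lamB lam B₃) (h.map (gOm (R := R) φ)) = -(h.map (gOm (R := R) φ)) := by
    rw [← lamTr_map, hskew]
    ext c d
    simp only [Matrix.map_apply, Matrix.neg_apply, map_neg]
  refine exists_congr_J₀ (lamB lam B₃) (lamB_lamB lam hlam B₃) (h.map (gOm (R := R) φ)) hskew'
    (gOm (R := R) φ β') ?_ (algebraMap S (B₃ ⊗[S] R) j) ?_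
    (algebraMap B₃ (B₃ ⊗[S] R) ρ₀) (algebraMap B₃ (B₃ ⊗[S] R) κ₀) (algebraMap B₃ (B₃ ⊗[S] R) ρ₀')
    ((lamB lam B₃).commutes ρ₀) ?_ ?_ ?_
  · rw [Matrix.map_apply, ← map_mul, hβ, map_one]
  · have := congrArg (algebraMap S (B₃ ⊗[S] R)) hj
    rwa [map_mul, map_ofNat, map_one] at this
  · rw [← map_one (algebraMap B₃ (B₃ ⊗[S] R)), ← map_add, ← map_mul, hκ₀]
  · rw [← map_mul, hρ₀', map_one]
  · rw [← map_mul, hρ₀, ← gOm_algebraMap, hϑ, Matrix.map_apply, Matrix.map_apply, map_add, map_one,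
      map_mul, map_mul, map_mul, gOm_lamB]

end Local

section Main

variable {S : Type u} {R : Type v} [CommRing S] [CommRing R] [Algebra S R] (lam : R ≃ₐ[S] R)
  (hlam : ∀ r, lam (lam r) = r) (hfix : RInv.IsFixedRing S R lam.toRingEquiv)
  {A : Type w} [Ring A] [Algebra S A] [Algebra R A] [IsScalarTower S R A] (t : LamInv R A lam)
  {n : ℕ}

include hlam hfix in
/-- a hermitian piece becomes the identity after an étale extension -/
theorem pieceAt_one_of_herm (h2 : IsUnit (2 : S)) (hsq : HasSqrtCovers S) (hn : 0 < n)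
    (hA : IsAzumayaDeg R A n) (q : Ideal S) [q.IsPrime]
    (hherm : PieceAt lam t n q (fun T _ _ u => lamTr (lamB lam T) u = u)) :
    PieceAt lam t n q (fun T _ _ u => u = 1) := by
  obtain ⟨T, _, _, hetT, Q, hQp, hQ, P, hP⟩ := hherm
  change lamTr (lamB lam T) P.u = P.u at hP
  haveI := hQp
  haveI := hetT
  haveI : Module.Flat S T := inferInstance
  haveI : Module.Flat S (Localization.AtPrime Q) := Module.Flat.trans S T _
  have hfixB := fixedRing_bc lam hlam hfix (Localization.AtPrime Q)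
  haveI : Nontrivial (Localization.AtPrime Q ⊗[S] R) := hfixB.1.nontrivial
  have hcase : (1 : Localization.AtPrime Q ⊗[S] R) + 1 ∉
      Ring.jacobson (Localization.AtPrime Q ⊗[S] R) := by
    intro hmem
    have h2B : IsUnit ((1 : Localization.AtPrime Q ⊗[S] R) + 1) := by
      have := h2.map (algebraMap S (Localization.AtPrime Q ⊗[S] R))
      rwa [map_ofNat, ← one_add_one_eq_two] at this
    have h3 : Ring.jacobson (Localization.AtPrime Q ⊗[S] R) = ⊤ :=
      Ideal.eq_top_of_isUnit_mem _ hmem h2B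
    rw [← Ideal.jacobson_bot, Ideal.jacobson_eq_top_iff] at h3
    exact bot_ne_top h3
  obtain ⟨s, hs, P', δ, hP'⟩ := exists_diag_piece lam hlam hfix t hn hA Q P hP
    (Or.inr (Or.inl hcase))
  haveI : IsScalarTower S T (Localization.Away s) := inferInstance
  haveI : Algebra.Etale S (Localization.Away s) := Algebra.Etale.comp S T (Localization.Away s)
  obtain ⟨q₃, hq₃p, hq₃⟩ := exists_prime_away Q hs
  obtain ⟨T', _, _, hetT', Q', hQ'p, hQ', P₄, hP₄⟩ :=
    exists_one_piece_of_diag lam hsq t q₃ P' δ hP'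
  refine ⟨T', inferInstance, inferInstance, hetT', Q', hQ'p, ?_, P₄, hP₄⟩
  rw [hQ', ← hQ, ← hq₃, Ideal.comap_comap, ← IsScalarTower.algebraMap_eq]

include hlam hfix in
/-- a skew-hermitian piece at a ramified prime becomes the standard alternating matrix after an
étale extension -/
theorem exists_alt_piece_of_skew (h2 : IsUnit (2 : S)) (hsq : HasSqrtCovers S)
    (q : Ideal S) [q.IsPrime] (hram : RamOver lam (Localization.AtPrime q))
    (hskew : PieceAt lam t n q (fun T _ _ u => lamTr (lamB lam T) u = -u)) :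
    Even n ∧ PieceAt lam t n q (fun T _ _ u => u = stdAlt n (T ⊗[S] R)) := by
  obtain ⟨T, _, _, hetT, Q, hQp, hQ, P, hP⟩ := hskew
  change lamTr (lamB lam T) P.u = -P.u at hP
  haveI := hQp
  haveI := hetT
  haveI : Module.Flat S T := inferInstance
  haveI : Module.Flat S (Localization.AtPrime Q) := Module.Flat.trans S T _
  have hramB : RamOver lam (Localization.AtPrime Q) := hram.of_hom lam hlam hfix (locHom q Q hQ)
  obtain ⟨gB, hgB⟩ : ∃ gB : T →ₐ[S] Localization.AtPrime Q,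
      gB = IsScalarTower.toAlgHom S T (Localization.AtPrime Q) := ⟨_, rfl⟩
  have huB : IsUnit (P.u.map (gOm (R := R) gB)) := P.hu.map (gOm (R := R) gB).mapMatrix
  have hskewB : lamTr (lamB lam (Localization.AtPrime Q)) (P.u.map (gOm (R := R) gB)) =
      -(P.u.map (gOm (R := R) gB)) := by
    rw [← lamTr_map, hP]
    ext i j
    simp only [Matrix.map_apply, Matrix.neg_apply, map_neg]
  have hev : Even n := even_of_skew lam hlam hfix hramB h2 n _ huB hskewB
  refine ⟨hev, ?_⟩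
  obtain ⟨k, hk⟩ : ∃ k, n = k * 2 := by
    obtain ⟨r, hr⟩ := hev
    exact ⟨r, by omega⟩
  subst hk
  obtain ⟨v, v', h, β', ϑ, hvv', hv'v, hG, hhskew, hβ, hϑ, hϑ1⟩ :=
    exists_blocks lam hlam hfix hramB h2 k _ huB hskewB
  -- numerators
  have hnum : ∀ a, ∃ (x s : T), s ∉ Q ∧ x ∉ Q ∧
      ϑ a * algebraMap T (Localization.AtPrime Q) s = algebraMap T (Localization.AtPrime Q) x := by
    intro a
    obtain ⟨⟨x, s⟩, hxs⟩ := IsLocalization.surj Q.primeCompl (ϑ a)
    refine ⟨x, s, s.2, ?_, hxs⟩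
    have hu1 : IsUnit (ϑ a) := by
      have : ϑ a = 1 + (ϑ a - 1) := by ring
      rw [this]
      exact isUnit_add_of_mem_maximalIdeal isUnit_one (hϑ1 a)
    have hu2 : IsUnit (algebraMap T (Localization.AtPrime Q) x) := by
      rw [← hxs]
      exact hu1.mul (IsLocalization.map_units _ s)
    exact (IsLocalization.AtPrime.isUnit_to_map_iff (Localization.AtPrime Q) Q x).1 hu2
  choose x s hs hx hxs using hnum
  obtain ⟨d, hd⟩ : ∃ d : T, d = ∏ a, (x a * s a) := ⟨_, rfl⟩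
  have hdQ : d ∉ Q := by
    rw [hd]
    exact Submonoid.prod_mem Q.primeCompl (fun a _ => Q.primeCompl.mul_mem (hx a) (hs a))
  haveI : IsScalarTower S T (Localization.Away d) := inferInstance
  haveI : Algebra.Etale S (Localization.Away d) := Algebra.Etale.comp S T (Localization.Away d)
  obtain ⟨Q₂, hQ₂p, hQ₂⟩ := exists_prime_away Q hdQ
  have hunit₂ : ∀ a, IsUnit (algebraMap T (Localization.Away d) (x a * s a)) := by
    intro a
    have h3 : x a * s a ∣ d := by
      rw [hd]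
      exact Finset.dvd_prod_of_mem (fun a => x a * s a) (Finset.mem_univ a)
    exact isUnit_of_dvd_unit (map_dvd _ h3) (IsLocalization.Away.algebraMap_isUnit d)
  obtain ⟨T₃, _, _, _, htower, hetST₃, hetT₂T₃, hff, y, hy⟩ :=
    exists_sqrt_cover hsq k (Localization.Away d) (fun a => (hunit₂ a).unit)
  obtain ⟨Q₃, hQ₃⟩ := PrimeSpectrum.comap_surjective_of_faithfullyFlat
    (A := Localization.Away d) (B := T₃) ⟨Q₂, hQ₂p⟩
  have hQ₃' : Q₃.asIdeal.comap (algebraMap (Localization.Away d) T₃) = Q₂ :=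
    congrArg PrimeSpectrum.asIdeal hQ₃
  obtain ⟨g, hg⟩ : ∃ g : T →ₐ[S] T₃, g = (IsScalarTower.toAlgHom S (Localization.Away d) T₃).comp
      (IsScalarTower.toAlgHom S T (Localization.Away d)) := ⟨_, rfl⟩
  have hgapp : ∀ z, g z = algebraMap (Localization.Away d) T₃ (algebraMap T (Localization.Away d) z) := by
    intro z; rw [hg]; rfl
  have hQg : Q₃.asIdeal.comap g.toRingHom = Q := by
    rw [← hQ₂, ← hQ₃', Ideal.comap_comap]
    congr 1
    rw [hg]
    rfl
  have hq₃ : Q₃.asIdeal.comap (algebraMap S T₃) = q := by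
    rw [← hQ, ← hQg, Ideal.comap_comap]
    congr 1
    ext z
    exact (g.commutes z).symm
  haveI : Module.Flat S T₃ := inferInstance
  haveI : Module.Flat S (Localization.AtPrime Q₃.asIdeal) := Module.Flat.trans S T₃ _
  have hramB₃ : RamOver lam (Localization.AtPrime Q₃.asIdeal) :=
    hram.of_hom lam hlam hfix (locHom q Q₃.asIdeal hq₃)
  obtain ⟨φ, hφ⟩ : ∃ φ : Localization.AtPrime Q →ₐ[S] Localization.AtPrime Q₃.asIdeal,
      φ = locHom₂ g Q Q₃.asIdeal hQg := ⟨_, rfl⟩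
  haveI : IsLocalHom φ := by rw [hφ]; infer_instance
  obtain ⟨f₃, hf₃⟩ : ∃ f₃ : T₃ →ₐ[S] Localization.AtPrime Q₃.asIdeal,
      f₃ = IsScalarTower.toAlgHom S T₃ (Localization.AtPrime Q₃.asIdeal) := ⟨_, rfl⟩
  have hsquare : ∀ z, φ (gB z) = f₃ (g z) := by
    intro z
    rw [hφ, hgB, hf₃]
    exact locHom₂_algebraMap g Q Q₃.asIdeal hQg z
  -- the square roots
  have hroot : ∀ a, ∃ r : Localization.AtPrime Q₃.asIdeal, r * r = φ (ϑ a) := by
    intro a
    have hsu : IsUnit (f₃ (g (s a))) := by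
      rw [← hsquare, hgB]
      exact (IsLocalization.map_units (Localization.AtPrime Q) (⟨s a, hs a⟩ : Q.primeCompl)).map φ
    obtain ⟨j, hj⟩ := hsu.exists_right_inv
    refine ⟨f₃ (y a) * j, ?_⟩
    have e1 : f₃ (y a) * f₃ (y a) = f₃ (g (x a)) * f₃ (g (s a)) := by
      rw [← map_mul, hy a, IsUnit.unit_spec, ← hgapp, map_mul, map_mul]
    have e2 : φ (ϑ a) * f₃ (g (s a)) = f₃ (g (x a)) := by
      rw [← hsquare, ← hsquare, ← map_mul, hgB]
      exact congrArg φ (hxs a)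
    calc f₃ (y a) * j * (f₃ (y a) * j) = (f₃ (y a) * f₃ (y a)) * j * j := by ring
      _ = φ (ϑ a) * (f₃ (g (s a)) * j) * (f₃ (g (s a)) * j) := by rw [e1, ← e2]; ring
      _ = φ (ϑ a) := by rw [hj, mul_one, mul_one]
  choose r hr using hroot
  have hblocks : ∀ a, ∃ ga ga' : Matrix (Fin 2) (Fin 2) (Localization.AtPrime Q₃.asIdeal ⊗[S] R),
      ga * ga' = 1 ∧ ga' * ga = 1 ∧ ga * (h a).map (gOm (R := R) φ) *
        lamTr (lamB lam (Localization.AtPrime Q₃.asIdeal)) ga = J₀ := fun a =>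
    exists_congr_J₀_of_sqrt lam hlam φ h2 (h a) (hhskew a) (β' a) (hβ a) (ϑ a) (hϑ a) (hϑ1 a)
      (r a) (hr a)
  choose ga ga' hg1 hg2 hg3 using hblocks
  have hLB₃ := lamB_lamB lam hlam (Localization.AtPrime Q₃.asIdeal)
  obtain ⟨v₃, hv₃⟩ : ∃ v₃, v₃ = v.map (gOm (R := R) φ) := ⟨_, rfl⟩
  obtain ⟨v₃', hv₃'⟩ : ∃ v₃', v₃' = v'.map (gOm (R := R) φ) := ⟨_, rfl⟩
  have hvv₃ : v₃ * v₃' = 1 := by
    rw [hv₃, hv₃', ← Matrix.map_mul, hvv', Matrix.map_one _ (map_zero _) (map_one _)]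
  have hvv₃' : v₃' * v₃ = 1 := by
    rw [hv₃, hv₃', ← Matrix.map_mul, hv'v, Matrix.map_one _ (map_zero _) (map_one _)]
  obtain ⟨Dg, hDg⟩ : ∃ Dg, Dg = Phi (R := Localization.AtPrime Q₃.asIdeal ⊗[S] R) k
    (Matrix.diagonal ga) := ⟨_, rfl⟩
  obtain ⟨Dg', hDg'⟩ : ∃ Dg', Dg' = Phi (R := Localization.AtPrime Q₃.asIdeal ⊗[S] R) k
    (Matrix.diagonal ga') := ⟨_, rfl⟩
  have hDD : Dg * Dg' = 1 := by
    rw [hDg, hDg', ← map_mul, Matrix.diagonal_mul_diagonal]
    have : (fun a => ga a * ga' a) = fun _ => 1 := funext hg1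
    rw [this, Matrix.diagonal_one, map_one]
  have hDD' : Dg' * Dg = 1 := by
    rw [hDg, hDg', ← map_mul, Matrix.diagonal_mul_diagonal]
    have : (fun a => ga' a * ga a) = fun _ => 1 := funext hg2
    rw [this, Matrix.diagonal_one, map_one]
  have hV1 : (Dg * lamTr (lamB lam (Localization.AtPrime Q₃.asIdeal)) v₃) *
      (lamTr (lamB lam (Localization.AtPrime Q₃.asIdeal)) v₃' * Dg') = 1 := by
    calc (Dg * lamTr (lamB lam (Localization.AtPrime Q₃.asIdeal)) v₃) *
          (lamTr (lamB lam (Localization.AtPrime Q₃.asIdeal)) v₃' * Dg')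
        = Dg * (lamTr (lamB lam (Localization.AtPrime Q₃.asIdeal)) v₃ *
            lamTr (lamB lam (Localization.AtPrime Q₃.asIdeal)) v₃') * Dg' := by
          simp only [mul_assoc]
      _ = 1 := by rw [← lamTr_mul, hvv₃', lamTr_one, mul_one, hDD]
  have hV2 : (lamTr (lamB lam (Localization.AtPrime Q₃.asIdeal)) v₃' * Dg') *
      (Dg * lamTr (lamB lam (Localization.AtPrime Q₃.asIdeal)) v₃) = 1 := by
    calc (lamTr (lamB lam (Localization.AtPrime Q₃.asIdeal)) v₃' * Dg') *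
          (Dg * lamTr (lamB lam (Localization.AtPrime Q₃.asIdeal)) v₃)
        = lamTr (lamB lam (Localization.AtPrime Q₃.asIdeal)) v₃' * (Dg' * Dg) *
            lamTr (lamB lam (Localization.AtPrime Q₃.asIdeal)) v₃ := by
          simp only [mul_assoc]
      _ = 1 := by rw [hDD', mul_one, ← lamTr_mul, hvv₃, lamTr_one]
  have humap : ((P.map g).u).map (gOm (R := R) f₃) =
      (P.u.map (gOm (R := R) gB)).map (gOm (R := R) φ) := by
    rw [Piece.map_u, Matrix.map_map, Matrix.map_map]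
    congr 1
    funext z
    exact (gOm_square gB φ g f₃ hsquare z).symm
  have hW : (Dg * lamTr (lamB lam (Localization.AtPrime Q₃.asIdeal)) v₃) *
      ((P.map g).u).map (gOm (R := R) f₃) *
      lamTr (lamB lam (Localization.AtPrime Q₃.asIdeal))
        (Dg * lamTr (lamB lam (Localization.AtPrime Q₃.asIdeal)) v₃) =
      (stdAlt (k * 2) (T₃ ⊗[S] R)).map (gOm (R := R) f₃) := by
    rw [humap, lamTr_mul, lamTr_lamTr _ hLB₃]
    have e1 : lamTr (lamB lam (Localization.AtPrime Q₃.asIdeal)) v₃ *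
        (P.u.map (gOm (R := R) gB)).map (gOm (R := R) φ) * v₃ =
        Phi k (Matrix.diagonal (fun a => (h a).map (gOm (R := R) φ))) := by
      rw [hv₃, ← lamTr_map, ← Matrix.map_mul, ← Matrix.map_mul, hG]
      exact Phi_diagonal_map (gOm (R := R) φ).toRingHom h
    have e2 : lamTr (lamB lam (Localization.AtPrime Q₃.asIdeal)) Dg =
        Phi k (Matrix.diagonal (fun a =>
          lamTr (lamB lam (Localization.AtPrime Q₃.asIdeal)) (ga a))) := by
      rw [hDg]
      exact lamTr_Phi_diagonal _ ga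
    calc Dg * lamTr (lamB lam (Localization.AtPrime Q₃.asIdeal)) v₃ *
          (P.u.map (gOm (R := R) gB)).map (gOm (R := R) φ) *
          (v₃ * lamTr (lamB lam (Localization.AtPrime Q₃.asIdeal)) Dg)
        = Dg * (lamTr (lamB lam (Localization.AtPrime Q₃.asIdeal)) v₃ *
          (P.u.map (gOm (R := R) gB)).map (gOm (R := R) φ) * v₃) *
          lamTr (lamB lam (Localization.AtPrime Q₃.asIdeal)) Dg := by simp only [mul_assoc]
      _ = Phi k (Matrix.diagonal (fun _ => (J₀ : Matrix (Fin 2) (Fin 2) _))) := by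
          rw [e1, e2, hDg, ← map_mul, ← map_mul, Matrix.diagonal_mul_diagonal,
            Matrix.diagonal_mul_diagonal]
          congr 2
          funext a
          exact hg3 a
      _ = (stdAlt (k * 2) (T₃ ⊗[S] R)).map (gOm (R := R) f₃) := by
          rw [← stdAlt_eq_Phi']
          exact (stdAlt_map (n := k * 2) (T₃ ⊗[S] R) (gOm (R := R) f₃).toRingHom).symm
  rw [hf₃] at hW
  haveI := hetST₃
  obtain ⟨s₃, hs₃, P', hP'⟩ := exists_piece_of_local_congr lam hlam Q₃.asIdeal (P.map g)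
    (stdAlt (k * 2) (T₃ ⊗[S] R)) _ _ hV1 hV2 hW
  haveI : IsScalarTower S T₃ (Localization.Away s₃) := inferInstance
  haveI : Algebra.Etale S (Localization.Away s₃) := Algebra.Etale.comp S T₃ (Localization.Away s₃)
  obtain ⟨Q₄, hQ₄p, hQ₄⟩ := exists_prime_away Q₃.asIdeal hs₃
  refine ⟨Localization.Away s₃, inferInstance, inferInstance, inferInstance, Q₄, hQ₄p, ?_, P', ?_⟩
  · rw [← hq₃, ← hQ₄, Ideal.comap_comap, ← IsScalarTower.algebraMap_eq]
  · show P'.u = stdAlt (k * 2) _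
    rw [hP']
    exact stdAlt_map (n := k * 2) (T₃ ⊗[S] R)
      (gOm (R := R) (IsScalarTower.toAlgHom S T₃ (Localization.Away s₃))).toRingHom

end Main

end Groth.Agent.Lib.R2LeadAzTSkewMain
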