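import Mathlib
import Groth.Agent.Lib.R2LeadAzTSkewMain
import Groth.Agent.Lib.R2LeadAzInner

/-!
# Comparing two splittings of an involution over a local ring; common refinements (lead)
-/

set_option autoImplicit false
set_option linter.style.haveILetI false
set_option linter.unusedSectionVars false

namespace Groth.Agent.Lib.R2LeadAzTUniq

open TensorProduct AzInv
open Groth.Agent.Lib.R2LeadAzTQuad (lamB lamB_tmul lamB_lamB)
open Groth.Agent.Lib.R2LeadAzTBase Groth.Agent.Lib.R2LeadAzTLocal Groth.Agent.Lib.R2LeadAzTDiag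
  Groth.Agent.Lib.R2LeadAzTClass Groth.Agent.Lib.R2LeadAzTSpreadEq
  Groth.Agent.Lib.R2LeadAzTSkewMain
open Groth.Agent.Lib.R2LeadInvForms (HasSqrtCovers stdAlt stdAlt_map)

attribute [local instance] Algebra.TensorProduct.rightAlgebra

universe u v w w'

section Refine

variable {S : Type u} [CommRing S]

/-- a prime of the tensor product of two algebras over a prime in both images -/
theorem exists_prime_tensor {T₁ T₂ : Type u} [CommRing T₁] [CommRing T₂] [Algebra S T₁]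
    [Algebra S T₂] (q : Ideal S) [q.IsPrime] (Q₁ : Ideal T₁) [Q₁.IsPrime]
    (h₁ : Q₁.comap (algebraMap S T₁) = q) (Q₂ : Ideal T₂) [Q₂.IsPrime]
    (h₂ : Q₂.comap (algebraMap S T₂) = q) :
    ∃ Q : Ideal (T₁ ⊗[S] T₂), Q.IsPrime ∧ Q.comap (algebraMap S (T₁ ⊗[S] T₂)) = q := by
  obtain ⟨p, hp⟩ : ∃ p : PrimeSpectrum S, p = ⟨q, inferInstance⟩ := ⟨_, rfl⟩
  have hpq : p.asIdeal = q := by rw [hp]
  haveI n₁ : Nontrivial (p.asIdeal.ResidueField ⊗[S] T₁) :=
    (p.nontrivial_iff_mem_rangeComap).2 ⟨⟨Q₁, inferInstance⟩, PrimeSpectrum.ext (by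
      rw [hpq]; exact h₁)⟩
  haveI n₂ : Nontrivial (p.asIdeal.ResidueField ⊗[S] T₂) :=
    (p.nontrivial_iff_mem_rangeComap).2 ⟨⟨Q₂, inferInstance⟩, PrimeSpectrum.ext (by
      rw [hpq]; exact h₂)⟩
  have n : Nontrivial (p.asIdeal.ResidueField ⊗[S] (T₁ ⊗[S] T₂)) := by
    have e := TensorProduct.AlgebraTensorModule.distribBaseChange S p.asIdeal.ResidueField T₁ T₂
    haveI : Nontrivial ((p.asIdeal.ResidueField ⊗[S] T₁) ⊗[p.asIdeal.ResidueField]
        (p.asIdeal.ResidueField ⊗[S] T₂)) := inferInstance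
    exact e.toEquiv.nontrivial
  obtain ⟨Q, hQ⟩ := (p.nontrivial_iff_mem_rangeComap).1 n
  refine ⟨Q.asIdeal, Q.isPrime, ?_⟩
  rw [← hpq, ← hQ]
  rfl

end Refine

section Compare

variable {S : Type u} {R : Type v} [CommRing S] [CommRing R] [Algebra S R] (lam : R ≃ₐ[S] R)
  (hlam : ∀ r, lam (lam r) = r) (hfix : RInv.IsFixedRing S R lam.toRingEquiv)
  {A : Type w} [Ring A] [Algebra S A] [Algebra R A] [IsScalarTower S R A] {t : LamInv R A lam}
  {n : ℕ}

include hlam hfix in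
/-- two splittings of the same involution over a local ring differ by a congruence and a unit -/
theorem exists_compare {B : Type u} [CommRing B] [Algebra S B] [Module.Flat S B] [IsLocalRing B]
    (hn : 0 < n) (P₁ P₂ : Piece lam t n B) :
    ∃ (g g' : Matrix (Fin n) (Fin n) (B ⊗[S] R)) (z : B ⊗[S] R), g * g' = 1 ∧ g' * g = 1 ∧
      IsUnit z ∧ P₂.u = z • (g * P₁.u * lamTr (lamB lam B) g) := by
  haveI : Nonempty (Fin n) := ⟨⟨0, hn⟩⟩
  have hfixB := fixedRing_bc lam hlam hfix B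
  have hL := lamB_lamB lam hlam B
  haveI : IsAzumaya (B ⊗[S] R) (Matrix (Fin n) (Fin n) (B ⊗[S] R)) := IsAzumaya.matrix _ _
  obtain ⟨ψ, hψ⟩ : ∃ ψ : Matrix (Fin n) (Fin n) (B ⊗[S] R) ≃ₐ[B ⊗[S] R]
      Matrix (Fin n) (Fin n) (B ⊗[S] R), ψ = P₁.σ.symm.trans P₂.σ := ⟨_, rfl⟩
  obtain ⟨c, c', s, hs, hconj, hcc', hc'c⟩ := Groth.Agent.Lib.R2LeadAzInner.exists_local
    (S := B) (R := B ⊗[S] R) (lamB lam B) hL hfixB ψ (IsLocalRing.maximalIdeal B)
  have hsu : IsUnit s := by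
    by_contra hnu
    exact hs ((IsLocalRing.mem_maximalIdeal _).2 hnu)
  obtain ⟨j, hj⟩ := hsu.exists_right_inv
  obtain ⟨g', hg'⟩ : ∃ g' : Matrix (Fin n) (Fin n) (B ⊗[S] R), g' = j • c' := ⟨_, rfl⟩
  have h1 : c * g' = 1 := by
    rw [hg', mul_smul_comm, hcc', smul_smul, mul_comm, hj, one_smul]
  have h2 : g' * c = 1 := by
    rw [hg', smul_mul_assoc, hc'c, smul_smul, mul_comm, hj, one_smul]
  have hT1 : lamTr (lamB lam B) g' * lamTr (lamB lam B) c = 1 := by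
    rw [← lamTr_mul, h1, lamTr_one]
  have hT2 : lamTr (lamB lam B) c * lamTr (lamB lam B) g' = 1 := by
    rw [← lamTr_mul, h2, lamTr_one]
  obtain ⟨⟨u₁, v₁, huv₁, hvu₁⟩, hu₁⟩ := P₁.hu
  change u₁ = P₁.u at hu₁
  obtain ⟨⟨u₂, v₂, huv₂, hvu₂⟩, hu₂⟩ := P₂.hu
  change u₂ = P₂.u at hu₂
  obtain ⟨N, hN⟩ : ∃ N, N = g' * u₂ * lamTr (lamB lam B) g' := ⟨_, rfl⟩
  have hψc : ∀ X, ψ X = c * X * g' := by
    intro X
    calc ψ X = ψ X * (c * g') := by rw [h1, mul_one]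
      _ = c * X * g' := by rw [← mul_assoc, hconj]
  -- the key relation
  have hkey : ∀ Y, Y * N = N * (v₁ * Y * u₁) := by
    intro Y
    obtain ⟨z, hz⟩ : ∃ z, z = TT lam t B (P₁.σ.symm Y) := ⟨_, rfl⟩
    have hTz : P₁.σ (TT lam t B z) = Y := by
      rw [hz, TT_TT, AlgEquiv.apply_symm_apply]
    have ha := P₁.conj_all z
    have hb := P₂.conj_all z
    rw [hTz, ← hu₁] at ha
    have e1 : P₂.σ (TT lam t B z) = ψ Y := by
      rw [hψ, ← hTz]
      show _ = P₂.σ (P₁.σ.symm (P₁.σ (TT lam t B z)))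
      rw [AlgEquiv.symm_apply_apply]
    have e2 : P₂.σ z = ψ (P₁.σ z) := by
      rw [hψ]
      show _ = P₂.σ (P₁.σ.symm (P₁.σ z))
      rw [AlgEquiv.symm_apply_apply]
    rw [e1, e2, hψc, hψc, ← hu₂, lamTr_mul, lamTr_mul] at hb
    -- `hb : c * Y * g' * u₂ = u₂ * (lamTr g' * (lamTr X * lamTr c))`
    have e3 : v₁ * Y * u₁ = lamTr (lamB lam B) (P₁.σ z) := by
      rw [mul_assoc, ha, ← mul_assoc, hvu₁, one_mul]
    rw [e3, hN]
    calc Y * (g' * u₂ * lamTr (lamB lam B) g')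
        = (g' * c) * Y * (g' * u₂ * lamTr (lamB lam B) g') := by rw [h2, one_mul]
      _ = g' * (c * Y * g' * u₂) * lamTr (lamB lam B) g' := by simp only [mul_assoc]
      _ = g' * (u₂ * (lamTr (lamB lam B) g' * (lamTr (lamB lam B) (P₁.σ z) *
            lamTr (lamB lam B) c))) * lamTr (lamB lam B) g' := by rw [hb]
      _ = g' * u₂ * lamTr (lamB lam B) g' * lamTr (lamB lam B) (P₁.σ z) *
            (lamTr (lamB lam B) c * lamTr (lamB lam B) g') := by simp only [mul_assoc]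
      _ = g' * u₂ * lamTr (lamB lam B) g' * lamTr (lamB lam B) (P₁.σ z) := by
          rw [hT2, mul_one]
  obtain ⟨Z, hZ⟩ : ∃ Z, Z = N * v₁ := ⟨_, rfl⟩
  have hcomm : ∀ Y, Y * Z = Z * Y := by
    intro Y
    rw [hZ, ← mul_assoc, hkey Y]
    calc N * (v₁ * Y * u₁) * v₁ = N * v₁ * Y * (u₁ * v₁) := by simp only [mul_assoc]
      _ = N * v₁ * Y := by rw [huv₁, mul_one]
  have hscal : Z ∈ Set.range (Matrix.scalar (Fin n)) := by
    rw [Matrix.mem_range_scalar_iff_commute_single']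
    intro i j
    exact hcomm _
  obtain ⟨z₀, hz₀⟩ := hscal
  have hZ' : Z = z₀ • (1 : Matrix (Fin n) (Fin n) (B ⊗[S] R)) := by
    rw [← hz₀, Matrix.scalar_apply, Matrix.smul_one_eq_diagonal]
  have hNz : N = z₀ • u₁ := by
    calc N = N * (v₁ * u₁) := by rw [hvu₁, mul_one]
      _ = Z * u₁ := by rw [hZ, mul_assoc]
      _ = z₀ • u₁ := by rw [hZ', smul_mul_assoc, one_mul]
  have hu₂eq : u₂ = z₀ • (c * u₁ * lamTr (lamB lam B) c) := by
    calc u₂ = (c * g') * u₂ * (lamTr (lamB lam B) g' * lamTr (lamB lam B) c) := by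
          rw [h1, hT1, one_mul, mul_one]
      _ = c * (g' * u₂ * lamTr (lamB lam B) g') * lamTr (lamB lam B) c := by
          simp only [mul_assoc]
      _ = z₀ • (c * u₁ * lamTr (lamB lam B) c) := by
          rw [← hN, hNz, mul_smul_comm, smul_mul_assoc]
  have hZunit : IsUnit Z := by
    have hNu : IsUnit N := by
      rw [hN]
      exact ((IsUnit.of_mul_eq_one _ h2).mul ⟨⟨u₂, v₂, huv₂, hvu₂⟩, rfl⟩).mul
        (IsUnit.of_mul_eq_one _ hT1)
    rw [hZ]
    exact hNu.mul (IsUnit.of_mul_eq_one _ hvu₁)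
  have hz₀u : IsUnit z₀ := by
    have hdet := (Matrix.isUnit_iff_isUnit_det _).1 hZunit
    rw [hZ', Matrix.det_smul, Matrix.det_one, mul_one, Fintype.card_fin] at hdet
    exact (isUnit_pow_iff hn.ne').1 hdet
  refine ⟨c, g', z₀, h1, h2, hz₀u, ?_⟩
  rw [← hu₁, ← hu₂]
  exact hu₂eq

include hlam hfix in
/-- over a ramified local ring with `2` invertible, an involution cannot be both hermitian and
skew-hermitian -/
theorem not_herm_and_skew {B : Type u} [CommRing B] [Algebra S B] [Module.Flat S B]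
    [IsLocalRing B] (hram : RamOver lam B) (h2 : IsUnit (2 : S)) (hn : 0 < n)
    (P₁ P₂ : Piece lam t n B) (h₁ : lamTr (lamB lam B) P₁.u = P₁.u)
    (h₂ : lamTr (lamB lam B) P₂.u = -P₂.u) : False := by
  have hfixB := fixedRing_bc lam hlam hfix B
  have hL := lamB_lamB lam hlam B
  haveI : Nontrivial (B ⊗[S] R) := hfixB.1.nontrivial
  obtain ⟨g, g', z, hgg', hg'g, hz, hu⟩ := exists_compare lam hlam hfix hn P₁ P₂
  obtain ⟨M, hM⟩ : ∃ M, M = g * P₁.u * lamTr (lamB lam B) g := ⟨_, rfl⟩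
  have hMherm : lamTr (lamB lam B) M = M := by
    rw [hM, lamTr_mul, lamTr_mul, lamTr_lamTr _ hL, h₁, mul_assoc]
  have hMu : IsUnit M := by
    rw [hM]
    exact ((IsUnit.of_mul_eq_one _ hgg').mul P₁.hu).mul
      (IsUnit.of_mul_eq_one (lamTr (lamB lam B) g') (by rw [← lamTr_mul, hg'g, lamTr_one]))
  rw [← hM] at hu
  have h3 : (lamB lam B z + z) • M = 0 := by
    have h4 := h₂
    rw [hu, lamTr_smul, hMherm] at h4
    rw [add_smul, h4, neg_add_cancel]
  have h5 : lamB lam B z + z = 0 := by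
    obtain ⟨⟨M₀, M', hMM', hM'M⟩, hM₀⟩ := hMu
    change M₀ = M at hM₀
    have h6 : (lamB lam B z + z) • (1 : Matrix (Fin n) (Fin n) (B ⊗[S] R)) = 0 := by
      rw [← hMM', hM₀, ← smul_mul_assoc, h3, zero_mul]
    have h7 := congrFun (congrFun h6 ⟨0, hn⟩) ⟨0, hn⟩
    rwa [Matrix.smul_apply, Matrix.one_apply_eq, smul_eq_mul, mul_one, Matrix.zero_apply] at h7
  have h8 : (2 : B ⊗[S] R) * z ∈ Ring.jacobson (B ⊗[S] R) := by
    have h9 : (2 : B ⊗[S] R) * z = -(lamB lam B z - z) := by linear_combination h5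
    rw [h9]
    exact (Ideal.neg_mem_iff _).2 (hram z)
  have h2B : IsUnit (2 : B ⊗[S] R) := by
    have := h2.map (algebraMap S (B ⊗[S] R))
    rwa [map_ofNat] at this
  have h10 : Ring.jacobson (B ⊗[S] R) = ⊤ := Ideal.eq_top_of_isUnit_mem _ h8 (h2B.mul hz)
  rw [← Ideal.jacobson_bot, Ideal.jacobson_eq_top_iff] at h10
  exact bot_ne_top h10

end Compare

end Groth.Agent.Lib.R2LeadAzTUniq
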