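import Mathlib
import Groth.Agent.Lib.R2LeadAzTUniq
import Groth.Agent.Lib.R2LeadAzTQuadMain

/-!
# Every involution is ordinary (ramified with `2` invertible, or quadratic étale) (lead)
-/

set_option autoImplicit false
set_option linter.style.haveILetI false
set_option linter.unusedSectionVars false

namespace Groth.Agent.Lib.R2LeadAzTGlobal

open TensorProduct AzInv
open Groth.Agent.Lib.R2LeadAzTQuad (lamB lamB_tmul lamB_lamB)
open Groth.Agent.Lib.R2LeadAzTBase Groth.Agent.Lib.R2LeadAzTLocal Groth.Agent.Lib.R2LeadAzTDiag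
  Groth.Agent.Lib.R2LeadAzTClass Groth.Agent.Lib.R2LeadAzTSpreadEq
  Groth.Agent.Lib.R2LeadAzTSkewMain Groth.Agent.Lib.R2LeadAzTUniq Groth.Agent.Lib.R2LeadAzTGlue
open Groth.Agent.Lib.R2LeadInvForms (HasSqrtCovers stdAlt stdAlt_map stdAlt_mul_self)

attribute [local instance] Algebra.TensorProduct.rightAlgebra

universe u v w w'

section StdAlt

theorem lamTr_stdAlt {Ω : Type*} [CommRing Ω] {F : Type*} [FunLike F Ω Ω] [RingHomClass F Ω Ω]
    (L : F) (n : ℕ) : lamTr L (stdAlt n Ω) = -(stdAlt n Ω) := by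
  ext i j
  rw [lamTr_apply, Matrix.neg_apply]
  simp only [stdAlt, Matrix.of_apply]
  by_cases hd : i.val / 2 = j.val / 2
  · rw [if_pos hd, if_pos hd.symm]
    by_cases hi : Even i.val <;> by_cases hj : Even j.val <;> simp [hi, hj]
  · rw [if_neg hd, if_neg (Ne.symm hd), map_zero, neg_zero]

end StdAlt

section Common

variable {S : Type u} {R : Type v} [CommRing S] [CommRing R] [Algebra S R] (lam : R ≃ₐ[S] R)
  (hlam : ∀ r, lam (lam r) = r) (hfix : RInv.IsFixedRing S R lam.toRingEquiv)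
  {A : Type w} [Ring A] [Algebra S A] [Algebra R A] [IsScalarTower S R A] (t : LamInv R A lam)
  {A' : Type w'} [Ring A'] [Algebra S A'] [Algebra R A'] [IsScalarTower S R A']
  (t' : LamInv R A' lam) {n n' : ℕ}

/-- a predicate on hermitian matrices which is stable under base change -/
def PredStable (n : ℕ)
    (Pred : ∀ (T : Type u) [CommRing T] [Algebra S T], Matrix (Fin n) (Fin n) (T ⊗[S] R) → Prop) :
    Prop :=
  ∀ (T T' : Type u) [CommRing T] [CommRing T'] [Algebra S T] [Algebra S T'] (g : T →ₐ[S] T')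
    (u : Matrix (Fin n) (Fin n) (T ⊗[S] R)), Pred T u → Pred T' (u.map (gOm (R := R) g))

theorem predStable_one : PredStable (S := S) (R := R) n (fun T _ _ u => u = 1) := by
  intro T T' _ _ _ _ g u hu
  show u.map (gOm (R := R) g) = 1
  rw [hu, Matrix.map_one _ (map_zero _) (map_one _)]

theorem predStable_alt :
    PredStable (S := S) (R := R) n (fun T _ _ u => u = stdAlt n (T ⊗[S] R)) := by
  intro T T' _ _ _ _ g u hu
  show u.map (gOm (R := R) g) = stdAlt n (T' ⊗[S] R)
  rw [hu]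
  exact stdAlt_map (n := n) (T ⊗[S] R) (gOm (R := R) g).toRingHom

theorem predStable_herm :
    PredStable (S := S) (R := R) n (fun T _ _ u => lamTr (lamB lam T) u = u) := by
  intro T T' _ _ _ _ g u hu
  show lamTr (lamB lam T') (u.map (gOm (R := R) g)) = u.map (gOm (R := R) g)
  rw [← lamTr_map, hu]

theorem predStable_skew :
    PredStable (S := S) (R := R) n (fun T _ _ u => lamTr (lamB lam T) u = -u) := by
  intro T T' _ _ _ _ g u hu
  show lamTr (lamB lam T') (u.map (gOm (R := R) g)) = -(u.map (gOm (R := R) g))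
  rw [← lamTr_map, hu]
  ext i j
  simp only [Matrix.map_apply, Matrix.neg_apply, map_neg]

/-- a common étale neighbourhood for two pieces -/
theorem exists_common (q : Ideal S) [q.IsPrime]
    {Pred₁ : ∀ (T : Type u) [CommRing T] [Algebra S T], Matrix (Fin n) (Fin n) (T ⊗[S] R) → Prop}
    {Pred₂ : ∀ (T : Type u) [CommRing T] [Algebra S T], Matrix (Fin n') (Fin n') (T ⊗[S] R) → Prop}
    (hs₁ : PredStable n Pred₁) (hs₂ : PredStable n' Pred₂)
    (h₁ : PieceAt lam t n q Pred₁) (h₂ : PieceAt lam t' n' q Pred₂) :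
    ∃ (T : Type u) (_ : CommRing T) (_ : Algebra S T) (_ : Algebra.Etale S T) (Q : Ideal T)
      (_ : Q.IsPrime), Q.comap (algebraMap S T) = q ∧
      ∃ (P₁ : Piece lam t n T) (P₂ : Piece lam t' n' T), Pred₁ T P₁.u ∧ Pred₂ T P₂.u := by
  obtain ⟨T₁, _, _, het₁, Q₁, hQ₁p, hQ₁, P₁, hP₁⟩ := h₁
  obtain ⟨T₂, _, _, het₂, Q₂, hQ₂p, hQ₂, P₂, hP₂⟩ := h₂
  haveI := hQ₁p
  haveI := hQ₂p
  haveI := het₁
  haveI := het₂
  obtain ⟨Q, hQp, hQ⟩ := exists_prime_tensor q Q₁ hQ₁ Q₂ hQ₂
  haveI : Algebra.Etale S (T₁ ⊗[S] T₂) := Algebra.Etale.comp S T₁ (T₁ ⊗[S] T₂)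
  refine ⟨T₁ ⊗[S] T₂, inferInstance, inferInstance, inferInstance, Q, hQp, hQ,
    P₁.map Algebra.TensorProduct.includeLeft, P₂.map Algebra.TensorProduct.includeRight, ?_, ?_⟩
  · exact hs₁ _ _ _ _ hP₁
  · exact hs₂ _ _ _ _ hP₂

include hlam hfix in
/-- at a ramified prime, with `2` invertible, an involution cannot be both hermitian and
skew-hermitian -/
theorem not_pieceAt_herm_and_skew (q : Ideal S) [q.IsPrime]
    (hram : RamOver lam (Localization.AtPrime q)) (h2 : IsUnit (2 : S)) (hn : 0 < n)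
    (h₁ : PieceAt lam t n q (fun T _ _ u => lamTr (lamB lam T) u = u))
    (h₂ : PieceAt lam t n q (fun T _ _ u => lamTr (lamB lam T) u = -u)) : False := by
  obtain ⟨T, _, _, hetT, Q, hQp, hQ, P₁, P₂, hP₁, hP₂⟩ := exists_common lam t t q
    (predStable_herm lam) (predStable_skew lam) h₁ h₂
  change lamTr (lamB lam T) P₁.u = P₁.u at hP₁
  change lamTr (lamB lam T) P₂.u = -P₂.u at hP₂
  haveI := hQp
  haveI := hetT
  haveI : Module.Flat S T := inferInstance
  haveI : Module.Flat S (Localization.AtPrime Q) := Module.Flat.trans S T _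
  have hramB : RamOver lam (Localization.AtPrime Q) := hram.of_hom lam hlam hfix (locHom q Q hQ)
  refine not_herm_and_skew lam hlam hfix hramB h2 hn
    (P₁.map (IsScalarTower.toAlgHom S T (Localization.AtPrime Q)))
    (P₂.map (IsScalarTower.toAlgHom S T (Localization.AtPrime Q))) ?_ ?_
  · rw [Piece.map_u, ← lamTr_map, hP₁]
  · rw [Piece.map_u, ← lamTr_map, hP₂]
    ext i j
    simp only [Matrix.map_apply, Matrix.neg_apply, map_neg]

include hlam hfix in
/-- the local classification with `2` invertible -/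
theorem classify (h2 : IsUnit (2 : S)) (hsq : HasSqrtCovers S) (hn : 0 < n)
    (hA : IsAzumayaDeg R A n) (q : Ideal S) [q.IsPrime] :
    PieceAt lam t n q (fun T _ _ u => u = 1) ∨
    (RamOver lam (Localization.AtPrime q) ∧ Even n ∧
      PieceAt lam t n q (fun T _ _ u => u = stdAlt n (T ⊗[S] R))) := by
  rcases exists_herm_or_skew lam hlam hfix t h2 hn hA q with h | ⟨hram, h⟩
  · exact Or.inl (pieceAt_one_of_herm lam hlam hfix t h2 hsq hn hA q h)
  · obtain ⟨hev, hK⟩ := exists_alt_piece_of_skew lam hlam hfix t h2 hsq q hram h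
    exact Or.inr ⟨hram, hev, hK⟩

theorem pieceAt_mono (q : Ideal S) [q.IsPrime]
    {Pred₁ Pred₂ : ∀ (T : Type u) [CommRing T] [Algebra S T],
      Matrix (Fin n) (Fin n) (T ⊗[S] R) → Prop}
    (h : ∀ (T : Type u) [CommRing T] [Algebra S T] (u : Matrix (Fin n) (Fin n) (T ⊗[S] R)),
      Pred₁ T u → Pred₂ T u) (h₁ : PieceAt lam t n q Pred₁) : PieceAt lam t n q Pred₂ := by
  obtain ⟨T, _, _, het, Q, hQp, hQ, P, hP⟩ := h₁
  exact ⟨T, inferInstance, inferInstance, het, Q, hQp, hQ, P, h T P.u hP⟩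

include hlam hfix in
/-- at a ramified prime the two normal forms exclude each other -/
theorem not_one_and_alt (q : Ideal S) [q.IsPrime]
    (hram : RamOver lam (Localization.AtPrime q)) (h2 : IsUnit (2 : S)) (hn : 0 < n)
    (h₁ : PieceAt lam t n q (fun T _ _ u => u = 1))
    (h₂ : PieceAt lam t n q (fun T _ _ u => u = stdAlt n (T ⊗[S] R))) : False := by
  refine not_pieceAt_herm_and_skew lam hlam hfix t q hram h2 hn
    (pieceAt_mono lam t q ?_ h₁) (pieceAt_mono lam t q ?_ h₂)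
  · intro T _ _ u hu
    show lamTr (lamB lam T) u = u
    rw [hu, lamTr_one]
  · intro T _ _ u hu
    show lamTr (lamB lam T) u = -u
    rw [hu, lamTr_stdAlt]

/-- the set of primes having a piece is open -/
theorem isOpen_pieceAt
    (Pred : ∀ (T : Type u) [CommRing T] [Algebra S T], Matrix (Fin n) (Fin n) (T ⊗[S] R) → Prop) :
    IsOpen {p : PrimeSpectrum S | PieceAt lam t n p.asIdeal Pred} := by
  rw [isOpen_iff_forall_mem_open]
  rintro p ⟨T, _, _, het, Q, hQp, hQ, P, hP⟩
  haveI := het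
  refine ⟨Set.range (PrimeSpectrum.comap (algebraMap S T)), ?_,
    (PrimeSpectrum.isOpenMap_comap_of_hasGoingDown_of_finitePresentation
      (R := S) (S := T)).isOpen_range, ⟨⟨Q, hQp⟩, PrimeSpectrum.ext hQ⟩⟩
  rintro p' ⟨Q', rfl⟩
  exact ⟨T, inferInstance, inferInstance, het, Q'.asIdeal, Q'.isPrime, rfl, P, hP⟩

end Common

end Groth.Agent.Lib.R2LeadAzTGlobal
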