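import Mathlib
import Groth.Agent.Lib.R2LeadAzTGlobal

/-!
# Base change of isomorphisms of algebras with involution; transport of pieces (lead)
-/

set_option autoImplicit false
set_option linter.style.haveILetI false
set_option linter.unusedSectionVars false

namespace Groth.Agent.Lib.R2LeadAzTTransport

open TensorProduct AzInv
open Groth.Agent.Lib.R2LeadAzTQuad (lamB lamB_tmul lamB_lamB)
open Groth.Agent.Lib.R2LeadAzTBase Groth.Agent.Lib.R2LeadAzTGlue
open Groth.Agent.Lib.R2LeadAzFixMain (can can_tmul)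

universe u v w w'

section IsoHom

variable {S : Type u} [CommRing S] {A : Type w} [Ring A] [Algebra S A]
  {A' : Type w'} [Ring A'] [Algebra S A']
  {C T : Type u} [CommRing C] [CommRing T] [Algebra S C] [Algebra S T]

/-- base change of an isomorphism `C ⊗ A ≃ C ⊗ A'` along `C → T`, as an algebra map -/
noncomputable def isoHom (f : C ⊗[S] A →ₐ[C] C ⊗[S] A') (g : C →ₐ[S] T) :
    T ⊗[S] A →ₐ[T] T ⊗[S] A' :=
  Algebra.TensorProduct.lift (Algebra.ofId T (T ⊗[S] A'))
    (((Algebra.TensorProduct.map g (AlgHom.id S A')).comp (f.restrictScalars S)).comp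
      Algebra.TensorProduct.includeRight)
    (fun t a => Algebra.commute_algebraMap_left t _)

theorem isoHom_tmul (f : C ⊗[S] A →ₐ[C] C ⊗[S] A') (g : C →ₐ[S] T) (t : T) (a : A) :
    isoHom f g (t ⊗ₜ[S] a) =
      t • Algebra.TensorProduct.map g (AlgHom.id S A') (f ((1 : C) ⊗ₜ[S] a)) := by
  simp [isoHom, Algebra.ofId_apply, Algebra.smul_def]

theorem map_smul_left (g : C →ₐ[S] T) (c : C) (y : C ⊗[S] A') :
    Algebra.TensorProduct.map g (AlgHom.id S A') (c • y) =
      g c • Algebra.TensorProduct.map g (AlgHom.id S A') y := by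
  induction y using TensorProduct.induction_on with
  | zero => simp
  | add x y hx hy => rw [smul_add, map_add, hx, hy, map_add, smul_add]
  | tmul c' a' =>
    rw [TensorProduct.smul_tmul', Algebra.TensorProduct.map_tmul, Algebra.TensorProduct.map_tmul,
      TensorProduct.smul_tmul', smul_eq_mul, smul_eq_mul, map_mul]

theorem isoHom_comp (f : C ⊗[S] A →ₐ[C] C ⊗[S] A') (g : C →ₐ[S] T) (y : C ⊗[S] A) :
    isoHom f g (Algebra.TensorProduct.map g (AlgHom.id S A) y) =
      Algebra.TensorProduct.map g (AlgHom.id S A') (f y) := by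
  induction y using TensorProduct.induction_on with
  | zero => simp
  | add x y hx hy => rw [map_add, map_add, hx, hy, map_add, map_add]
  | tmul c a =>
    rw [Algebra.TensorProduct.map_tmul, AlgHom.id_apply, isoHom_tmul, ← map_smul_left,
      ← map_smul, TensorProduct.smul_tmul', smul_eq_mul, mul_one]

/-- base change of an isomorphism `C ⊗ A ≃ C ⊗ A'` along `C → T` -/
noncomputable def isoBC (f : C ⊗[S] A ≃ₐ[C] C ⊗[S] A') (g : C →ₐ[S] T) :
    T ⊗[S] A ≃ₐ[T] T ⊗[S] A' :=
  AlgEquiv.ofAlgHom (isoHom (f : C ⊗[S] A →ₐ[C] C ⊗[S] A') g)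
    (isoHom (f.symm : C ⊗[S] A' →ₐ[C] C ⊗[S] A) g)
    (by
      apply Algebra.TensorProduct.ext'
      intro t a'
      rw [AlgHom.comp_apply, isoHom_tmul, map_smul, isoHom_comp, AlgHom.id_apply]
      have : (f : C ⊗[S] A →ₐ[C] C ⊗[S] A') ((f.symm : C ⊗[S] A' →ₐ[C] C ⊗[S] A)
          ((1 : C) ⊗ₜ[S] a')) = (1 : C) ⊗ₜ[S] a' := f.apply_symm_apply _
      rw [this, Algebra.TensorProduct.map_tmul, map_one, AlgHom.id_apply,
        TensorProduct.smul_tmul', smul_eq_mul, mul_one])
    (by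
      apply Algebra.TensorProduct.ext'
      intro t a
      rw [AlgHom.comp_apply, isoHom_tmul, map_smul, isoHom_comp, AlgHom.id_apply]
      have : (f.symm : C ⊗[S] A' →ₐ[C] C ⊗[S] A) ((f : C ⊗[S] A →ₐ[C] C ⊗[S] A')
          ((1 : C) ⊗ₜ[S] a)) = (1 : C) ⊗ₜ[S] a := f.symm_apply_apply _
      rw [this, Algebra.TensorProduct.map_tmul, map_one, AlgHom.id_apply,
        TensorProduct.smul_tmul', smul_eq_mul, mul_one])

theorem isoBC_tmul (f : C ⊗[S] A ≃ₐ[C] C ⊗[S] A') (g : C →ₐ[S] T) (t : T) (a : A) :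
    isoBC f g (t ⊗ₜ[S] a) =
      t • Algebra.TensorProduct.map g (AlgHom.id S A') (f ((1 : C) ⊗ₜ[S] a)) :=
  isoHom_tmul _ g t a

end IsoHom

section IsoOverMap

variable {S : Type u} {R : Type v} [CommRing S] [CommRing R] [Algebra S R] (lam : R ≃ₐ[S] R)
  {A : Type w} [Ring A] [Algebra S A] [Algebra R A] [IsScalarTower S R A] (t : LamInv R A lam)
  {A' : Type w'} [Ring A'] [Algebra S A'] [Algebra R A'] [IsScalarTower S R A']
  (t' : LamInv R A' lam)
  {C T : Type u} [CommRing C] [CommRing T] [Algebra S C] [Algebra S T]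

theorem map_bc (g : C →ₐ[S] T) (y : C ⊗[S] A) :
    Algebra.TensorProduct.map g (AlgHom.id S A) (t.bc S lam C y) =
      t.bc S lam T (Algebra.TensorProduct.map g (AlgHom.id S A) y) := by
  induction y using TensorProduct.induction_on with
  | zero => simp
  | add x y hx hy => rw [map_add, map_add, hx, hy, map_add, map_add]
  | tmul c a =>
    rw [LamInv.bc_tmul, Algebra.TensorProduct.map_tmul, Algebra.TensorProduct.map_tmul,
      LamInv.bc_tmul, AlgHom.id_apply, AlgHom.id_apply]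

/-- isomorphisms of algebras with involution can be base changed -/
theorem IsoOver.map (h : IsoOver lam t t' C) (g : C →ₐ[S] T) : IsoOver lam t t' T := by
  obtain ⟨f, hf1, hf2⟩ := h
  refine ⟨isoBC f g, ?_, ?_⟩
  · intro r x
    rw [map_mul]
    congr 1
    rw [isoBC_tmul, one_smul]
    have h1 := hf1 r 1
    rw [mul_one, map_one, mul_one] at h1
    rw [h1, Algebra.TensorProduct.map_tmul, map_one, AlgHom.id_apply]
  · intro x
    induction x using TensorProduct.induction_on with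
    | zero => simp
    | add x y hx hy => rw [map_add, map_add, hx, hy, map_add, map_add]
    | tmul c a =>
      rw [LamInv.bc_tmul, isoBC_tmul, isoBC_tmul, map_smul]
      congr 1
      have h2 := hf2 ((1 : C) ⊗ₜ[S] a)
      rw [LamInv.bc_tmul] at h2
      rw [h2, map_bc]

end IsoOverMap

section OfIso

attribute [local instance] Algebra.TensorProduct.rightAlgebra

variable {S : Type u} {R : Type v} [CommRing S] [CommRing R] [Algebra S R] {lam : R ≃ₐ[S] R}
  {A : Type w} [Ring A] [Algebra S A] [Algebra R A] [IsScalarTower S R A] {t : LamInv R A lam}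
  {A' : Type w'} [Ring A'] [Algebra S A'] [Algebra R A'] [IsScalarTower S R A']
  {t' : LamInv R A' lam} {n : ℕ} {T : Type u} [CommRing T] [Algebra S T]

/-- an isomorphism over `T` compatible with `R`, in its `(T ⊗ R)`-linear form -/
noncomputable def isoTilde (f : T ⊗[S] A ≃ₐ[T] T ⊗[S] A')
    (hf1 : ∀ (r : R) (x : T ⊗[S] A),
      f (((1 : T) ⊗ₜ[S] algebraMap R A r) * x) = ((1 : T) ⊗ₜ[S] algebraMap R A' r) * f x) :
    ((T ⊗[S] R) ⊗[R] A) ≃ₐ[T ⊗[S] R] ((T ⊗[S] R) ⊗[R] A') :=
  AlgEquiv.ofRingEquiv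
    (f := (((can S R A T).symm.trans f).trans (can S R A' T)).toRingEquiv) (fun ω => by
      show can S R A' T (f ((can S R A T).symm (ω ⊗ₜ[R] (1 : A)))) = ω ⊗ₜ[R] (1 : A')
      induction ω using TensorProduct.induction_on with
      | zero => simp
      | add x y hx hy =>
        rw [TensorProduct.add_tmul, map_add, map_add, map_add, hx, hy, TensorProduct.add_tmul]
      | tmul s r =>
        rw [can_symm_tmul]
        have h1 : s ⊗ₜ[S] (r • (1 : A)) =
            ((1 : T) ⊗ₜ[S] algebraMap R A r) * (s • (1 : T ⊗[S] A)) := by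
          rw [Algebra.TensorProduct.one_def, TensorProduct.smul_tmul',
            Algebra.TensorProduct.tmul_mul_tmul, one_mul, smul_eq_mul, mul_one, mul_one,
            Algebra.algebraMap_eq_smul_one]
        rw [h1, hf1, map_smul, map_one, Algebra.TensorProduct.one_def, TensorProduct.smul_tmul',
          Algebra.TensorProduct.tmul_mul_tmul, one_mul, smul_eq_mul, mul_one, mul_one, can_tmul,
          Algebra.algebraMap_eq_smul_one, tmul_one_tmul_smul])

theorem isoTilde_apply (f : T ⊗[S] A ≃ₐ[T] T ⊗[S] A')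
    (hf1 : ∀ (r : R) (x : T ⊗[S] A),
      f (((1 : T) ⊗ₜ[S] algebraMap R A r) * x) = ((1 : T) ⊗ₜ[S] algebraMap R A' r) * f x)
    (z : (T ⊗[S] R) ⊗[R] A) :
    isoTilde f hf1 z = can S R A' T (f ((can S R A T).symm z)) := rfl

theorem isoTilde_TT (f : T ⊗[S] A ≃ₐ[T] T ⊗[S] A')
    (hf1 : ∀ (r : R) (x : T ⊗[S] A),
      f (((1 : T) ⊗ₜ[S] algebraMap R A r) * x) = ((1 : T) ⊗ₜ[S] algebraMap R A' r) * f x)
    (hf2 : ∀ x : T ⊗[S] A, f (t.bc S lam T x) = t'.bc S lam T (f x))
    (z : (T ⊗[S] R) ⊗[R] A) :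
    isoTilde f hf1 (TT lam t T z) = TT lam t' T (isoTilde f hf1 z) := by
  rw [isoTilde_apply, isoTilde_apply, TT_apply, AlgEquiv.symm_apply_apply, hf2, TT_can]

/-- transport of a piece along an isomorphism of algebras with involution -/
noncomputable def pieceOfIso (f : T ⊗[S] A ≃ₐ[T] T ⊗[S] A')
    (hf1 : ∀ (r : R) (x : T ⊗[S] A),
      f (((1 : T) ⊗ₜ[S] algebraMap R A r) * x) = ((1 : T) ⊗ₜ[S] algebraMap R A' r) * f x)
    (hf2 : ∀ x : T ⊗[S] A, f (t.bc S lam T x) = t'.bc S lam T (f x))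
    (P' : Piece lam t' n T) : Piece lam t n T where
  σ := (isoTilde f hf1).trans P'.σ
  u := P'.u
  hu := P'.hu
  conj := by
    intro a
    have h1 : (1 : T ⊗[S] R) ⊗ₜ[R] t a = TT lam t T ((1 : T ⊗[S] R) ⊗ₜ[R] a) := by
      rw [TT_tmul, map_one]
    rw [AlgEquiv.trans_apply, AlgEquiv.trans_apply, h1, isoTilde_TT f hf1 hf2]
    exact P'.conj_all _

theorem pieceOfIso_u (f : T ⊗[S] A ≃ₐ[T] T ⊗[S] A')
    (hf1 : ∀ (r : R) (x : T ⊗[S] A),
      f (((1 : T) ⊗ₜ[S] algebraMap R A r) * x) = ((1 : T) ⊗ₜ[S] algebraMap R A' r) * f x)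
    (hf2 : ∀ x : T ⊗[S] A, f (t.bc S lam T x) = t'.bc S lam T (f x))
    (P' : Piece lam t' n T) : (pieceOfIso f hf1 hf2 P').u = P'.u := rfl

/-- two pieces of the same algebra over a nontrivial ring have the same degree -/
theorem degree_eq {n₁ n₂ : ℕ} [Nontrivial (T ⊗[S] R)] (P₁ : Piece lam t n₁ T)
    (P₂ : Piece lam t n₂ T) : n₁ = n₂ := by
  have e := (P₁.σ.symm.trans P₂.σ).toLinearEquiv
  have h := e.finrank_eq
  rw [Module.finrank_matrix, Module.finrank_matrix, Fintype.card_fin, Fintype.card_fin,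
    Module.finrank_self, mul_one, mul_one] at h
  exact Nat.mul_self_inj.1 h

end OfIso

end Groth.Agent.Lib.R2LeadAzTTransport
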