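import Mathlib
import Groth.Agent.Lib.R2LeadAzTTransport

/-!
# Pieces for matrix algebras over an algebra with involution (lead)
-/

set_option autoImplicit false
set_option linter.style.haveILetI false
set_option linter.unusedSectionVars false

namespace Groth.Agent.Lib.R2LeadAzTMat

open TensorProduct AzInv
open Groth.Agent.Lib.R2LeadAzTQuad (lamB lamB_tmul lamB_lamB)
open Groth.Agent.Lib.R2LeadAzTBase

universe u v w w'

section PhiG

variable {Ω : Type*} [CommRing Ω] (m n : ℕ)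

/-- block matrices as big matrices -/
noncomputable def PhiG : Matrix (Fin m) (Fin m) (Matrix (Fin n) (Fin n) Ω) ≃ₐ[Ω]
    Matrix (Fin (m * n)) (Fin (m * n)) Ω :=
  (Matrix.compAlgEquiv (Fin m) (Fin n) Ω Ω).trans (Matrix.reindexAlgEquiv Ω Ω finProdFinEquiv)

theorem PhiG_apply (N : Matrix (Fin m) (Fin m) (Matrix (Fin n) (Fin n) Ω))
    (i j : Fin (m * n)) : PhiG m n N i j = N i.divNat j.divNat i.modNat j.modNat := rfl

theorem lamTr_PhiG {F : Type*} [FunLike F Ω Ω] [RingHomClass F Ω Ω] (L : F)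
    (N : Matrix (Fin m) (Fin m) (Matrix (Fin n) (Fin n) Ω)) :
    lamTr L (PhiG m n N) = PhiG m n (Matrix.of fun a b => lamTr L (N b a)) := by
  ext i j
  rfl

theorem lamTr_PhiG_diagonal {F : Type*} [FunLike F Ω Ω] [RingHomClass F Ω Ω] (L : F)
    (u : Matrix (Fin n) (Fin n) Ω) :
    lamTr L (PhiG m n (Matrix.diagonal fun _ => u)) =
      PhiG m n (Matrix.diagonal fun _ => lamTr L u) := by
  rw [lamTr_PhiG]
  congr 1
  ext a b : 1
  rw [Matrix.of_apply]
  by_cases h : a = b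
  · subst h
    rw [Matrix.diagonal_apply_eq, Matrix.diagonal_apply_eq]
  · rw [Matrix.diagonal_apply_ne _ h, Matrix.diagonal_apply_ne _ (Ne.symm h)]
    ext c d
    show L 0 = 0
    exact map_zero L

end PhiG

section TensMat

variable {R : Type v} [CommRing R] {A : Type w} [Ring A] [Algebra R A]
  (Ω : Type*) [CommRing Ω] [Algebra R Ω] (m : ℕ)

/-- `Ω ⊗ M_m(A) ≃ M_m(Ω ⊗ A)` -/
noncomputable def tensMat :
    (Ω ⊗[R] Matrix (Fin m) (Fin m) A) ≃ₐ[Ω] Matrix (Fin m) (Fin m) (Ω ⊗[R] A) :=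
  ((Algebra.TensorProduct.congr (Matrix.uniqueAlgEquiv (m := Unit) (R := Ω) (A := Ω)).symm
      (AlgEquiv.refl : Matrix (Fin m) (Fin m) A ≃ₐ[R] Matrix (Fin m) (Fin m) A)).trans
    (Matrix.kroneckerTMulAlgEquiv Unit (Fin m) R Ω Ω A)).trans
    (Matrix.reindexAlgEquiv Ω _ (Equiv.uniqueProd (Fin m) Unit))

theorem tensMat_one_tmul (M : Matrix (Fin m) (Fin m) A) (i j : Fin m) :
    tensMat (R := R) Ω m ((1 : Ω) ⊗ₜ[R] M) i j = (1 : Ω) ⊗ₜ[R] M i j := by
  simp [tensMat, kroneckerTMulLinearEquiv_tmul]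

end TensMat

section MatSigma

variable {R : Type v} [CommRing R] {A : Type w} [Ring A] [Algebra R A]
  {Ω : Type*} [CommRing Ω] [Algebra R Ω] {n : ℕ}

/-- the splitting of `M_m(A)` induced by a splitting of `A` -/
noncomputable def matSigma (σ : (Ω ⊗[R] A) ≃ₐ[Ω] Matrix (Fin n) (Fin n) Ω) (m : ℕ) :
    (Ω ⊗[R] Matrix (Fin m) (Fin m) A) ≃ₐ[Ω] Matrix (Fin (m * n)) (Fin (m * n)) Ω :=
  ((tensMat (R := R) Ω m).trans σ.mapMatrix).trans (PhiG m n)

theorem matSigma_one_tmul (σ : (Ω ⊗[R] A) ≃ₐ[Ω] Matrix (Fin n) (Fin n) Ω) (m : ℕ)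
    (M : Matrix (Fin m) (Fin m) A) :
    matSigma σ m ((1 : Ω) ⊗ₜ[R] M) =
      PhiG m n (Matrix.of fun i j => σ ((1 : Ω) ⊗ₜ[R] M i j)) := by
  show PhiG m n (σ.mapMatrix (tensMat (R := R) Ω m ((1 : Ω) ⊗ₜ[R] M))) = _
  congr 1

end MatSigma

section MatPiece

attribute [local instance] Algebra.TensorProduct.rightAlgebra

variable {S : Type u} {R : Type v} [CommRing S] [CommRing R] [Algebra S R] {lam : R ≃ₐ[S] R}
  {A : Type w} [Ring A] [Algebra R A] {t : LamInv R A lam} {n : ℕ}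
  {T : Type u} [CommRing T] [Algebra S T]

/-- the piece of `M_m(A)` induced by a piece of `A` -/
noncomputable def matPiece (P : Piece lam t n T) (m : ℕ) :
    Piece lam (t.matrix (Fin m)) (m * n) T where
  σ := matSigma P.σ m
  u := PhiG m n (Matrix.diagonal fun _ => P.u)
  hu := by
    obtain ⟨⟨u, v, huv, hvu⟩, hu⟩ := P.hu
    change u = P.u at hu
    rw [← hu]
    refine ⟨⟨PhiG m n (Matrix.diagonal fun _ => u), PhiG m n (Matrix.diagonal fun _ => v), ?_, ?_⟩,
      rfl⟩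
    · rw [← map_mul, Matrix.diagonal_mul_diagonal, huv, Matrix.diagonal_one, map_one]
    · rw [← map_mul, Matrix.diagonal_mul_diagonal, hvu, Matrix.diagonal_one, map_one]
  conj := by
    intro M
    rw [matSigma_one_tmul, matSigma_one_tmul, lamTr_PhiG, ← map_mul, ← map_mul]
    congr 1
    ext i j : 1
    rw [Matrix.mul_diagonal, Matrix.diagonal_mul, Matrix.of_apply, Matrix.of_apply,
      Matrix.of_apply, LamInv.matrix_apply]
    exact P.conj (M j i)

theorem matPiece_u (P : Piece lam t n T) (m : ℕ) :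
    (matPiece P m).u = PhiG m n (Matrix.diagonal fun _ => P.u) := rfl

theorem matPiece_herm (P : Piece lam t n T) (m : ℕ) (h : lamTr (lamB lam T) P.u = P.u) :
    lamTr (lamB lam T) (matPiece P m).u = (matPiece P m).u := by
  rw [matPiece_u, lamTr_PhiG_diagonal, h]

theorem matPiece_skew (P : Piece lam t n T) (m : ℕ) (h : lamTr (lamB lam T) P.u = -P.u) :
    lamTr (lamB lam T) (matPiece P m).u = -(matPiece P m).u := by
  rw [matPiece_u, lamTr_PhiG_diagonal, h, ← map_neg]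
  congr 1
  rw [← Matrix.diagonal_neg]

end MatPiece

end Groth.Agent.Lib.R2LeadAzTMat
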