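import Mathlib
import Groth.Agent.Lib.R2LeadAzTDiag
import Groth.Agent.Lib.R2LeadAzTQuadMain

/-!
# Odd degree: there is a single type (lead)
-/

set_option autoImplicit false
set_option linter.style.haveILetI false
set_option linter.unusedSectionVars false

namespace Groth.Agent.Lib.R2LeadAzTOddMain

open TensorProduct AzInv
open Groth.Agent.Lib.R2LeadAzTQuad Groth.Agent.Lib.R2LeadAzTBase Groth.Agent.Lib.R2LeadAzTGlue
  Groth.Agent.Lib.R2LeadAzTDiag
open Groth.Agent.Lib.R2LeadInvForms (HasSqrtCovers)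

attribute [local instance] Algebra.TensorProduct.rightAlgebra

universe u v w w'

theorem locIsoEt_of_odd (S : Type u) (R : Type v) [CommRing S] [CommRing R] [Algebra S R]
    (lam : R ≃ₐ[S] R) (hlam : ∀ r, lam (lam r) = r) (hfix : RInv.IsFixedRing S R lam.toRingEquiv)
    (hsq : HasSqrtCovers S)
    (A : Type w) [Ring A] [Algebra S A] [Algebra R A] [IsScalarTower S R A]
    (n : ℕ) (hn : Odd n) (hA : IsAzumayaDeg R A n) (t : LamInv R A lam)
    (t₀ : LamInv R (Matrix (Fin n) (Fin n) R) lam) (ht₀ : ∀ X, t₀ X = lamTr lam X) :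
    LocIsoEt S lam t t₀ := by
  apply locIsoEt_of_forall_locIsoAt
  intro q
  obtain ⟨T, _, _, hetT, Q, hQp, hQ, P, hP⟩ :=
    exists_one_piece_of_odd lam hlam hfix hsq t hn hA q.asIdeal
  refine ⟨T, inferInstance, inferInstance, hetT, Q, hQp, hQ, ?_⟩
  exact exists_iso_of_pieces P
    (stdPiece lam n t₀ 1 isUnit_one (fun X => by rw [mul_one, one_mul, ht₀]) T)
    (by rw [hP, stdPiece_u, Matrix.map_one _ (map_zero _) (map_one _)])

theorem main (S : Type u) (R : Type v) [CommRing S] [CommRing R] [Algebra S R]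
    (lam : R ≃ₐ[S] R) (hlam : ∀ r, lam (lam r) = r) (hfix : RInv.IsFixedRing S R lam.toRingEquiv)
    (hsq : ∀ (S₁ : Type u) [CommRing S₁] [Algebra S S₁] [Algebra.Etale S S₁] (x : S₁ˣ),
      ∃ (S₂ : Type u) (_ : CommRing S₂) (_ : Algebra S₁ S₂) (_ : Algebra.Etale S₁ S₂)
        (_ : Module.FaithfullyFlat S₁ S₂) (y : S₂), y * y = algebraMap S₁ S₂ ↑x)
    (A : Type w) [Ring A] [Algebra S A] [Algebra R A] [IsScalarTower S R A]
    (n : ℕ) (hn : Odd n) (hA : AzInv.IsAzumayaDeg R A n) (t : AzInv.LamInv R A lam) :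
    AzInv.SameType S lam t (AzInv.LamInv.self lam hlam) := by
  refine ⟨1, n, one_pos, hn.pos, ?_⟩
  have hA₁ : IsAzumayaDeg R (Matrix (Fin 1) (Fin 1) A) n :=
    Groth.Agent.Lib.R2LeadAzTQuadMain.isAzumayaDeg_of_algEquiv
      (Groth.Agent.Lib.R2LeadInvConv.mat1Equiv R A).symm hA
  exact locIsoEt_of_odd S R lam hlam hfix hsq (Matrix (Fin 1) (Fin 1) A) n hn hA₁
    (t.matrix (Fin 1)) ((AzInv.LamInv.self lam hlam).matrix (Fin n)) (fun X => rfl)

end Groth.Agent.Lib.R2LeadAzTOddMain
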