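import Mathlib
import Groth.Agent.Lib.R2LeadAzTGlobal

/-!
# Every involution is ordinary (ramified with `2` invertible, or quadratic étale): main theorem
(lead)
-/

set_option autoImplicit false
set_option linter.style.haveILetI false
set_option linter.unusedSectionVars false

namespace Groth.Agent.Lib.R2LeadAzTOrdMain

open TensorProduct AzInv
open Groth.Agent.Lib.R2LeadAzTQuad (lamB lamB_tmul lamB_lamB)
open Groth.Agent.Lib.R2LeadAzTBase Groth.Agent.Lib.R2LeadAzTLocal Groth.Agent.Lib.R2LeadAzTDiag
  Groth.Agent.Lib.R2LeadAzTClass Groth.Agent.Lib.R2LeadAzTSpreadEq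
  Groth.Agent.Lib.R2LeadAzTSkewMain Groth.Agent.Lib.R2LeadAzTUniq Groth.Agent.Lib.R2LeadAzTGlue
  Groth.Agent.Lib.R2LeadAzTGlobal
open Groth.Agent.Lib.R2LeadInvForms (HasSqrtCovers stdAlt stdAlt_map stdAlt_mul_self)

attribute [local instance] Algebra.TensorProduct.rightAlgebra

universe u v w w'

section Aux

theorem isUnit_idem_eq_one {T : Type*} [CommRing T] {x : T} (hx : x * x = x) (hu : IsUnit x) :
    x = 1 := by
  obtain ⟨y, hy⟩ := hu.exists_right_inv
  calc x = x * (x * y) := by rw [hy, mul_one]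
    _ = (x * x) * y := by ring
    _ = 1 := by rw [hx, hy]

theorem map_W {Ω Ω' : Type*} [CommRing Ω] [CommRing Ω'] (f : Ω →+* Ω') (ε : Ω) (n : ℕ) :
    (ε • (1 : Matrix (Fin n) (Fin n) Ω) + (1 - ε) • stdAlt n Ω).map f =
      f ε • (1 : Matrix (Fin n) (Fin n) Ω') + (1 - f ε) • stdAlt n Ω' := by
  ext i j
  rw [Matrix.map_apply, Matrix.add_apply, Matrix.smul_apply, Matrix.smul_apply, map_add,
    smul_eq_mul, smul_eq_mul, map_mul, map_mul, map_sub, map_one, Matrix.add_apply,
    Matrix.smul_apply, Matrix.smul_apply, smul_eq_mul, smul_eq_mul, ← stdAlt_map (n := n) Ω f,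
    Matrix.map_apply]
  congr 2
  by_cases h : i = j
  · subst h; rw [Matrix.one_apply_eq, Matrix.one_apply_eq, map_one]
  · rw [Matrix.one_apply_ne h, Matrix.one_apply_ne h, map_zero]

end Aux

section Global

variable {S : Type u} {R : Type v} [CommRing S] [CommRing R] [Algebra S R] (lam : R ≃ₐ[S] R)
  (hlam : ∀ r, lam (lam r) = r) (hfix : RInv.IsFixedRing S R lam.toRingEquiv)
  {A : Type w} [Ring A] [Algebra S A] [Algebra R A] [IsScalarTower S R A] (t : LamInv R A lam)
  {n : ℕ}

theorem algebraMap_tower (T' : Type u) [CommRing T'] [Algebra S T'] (x : S) :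
    algebraMap R (T' ⊗[S] R) (algebraMap S R x) =
      algebraMap T' (T' ⊗[S] R) (algebraMap S T' x) := by
  show (1 : T') ⊗ₜ[S] (algebraMap S R x) = (algebraMap S T' x) ⊗ₜ[S] (1 : R)
  rw [Algebra.algebraMap_eq_smul_one, Algebra.algebraMap_eq_smul_one, TensorProduct.tmul_smul,
    TensorProduct.smul_tmul']

/-- from an idempotent of the base separating the hermitian and the alternating loci, a global
ordinary model -/
theorem exists_of_idem (ep : S) (hep : ep * ep = ep)
    (hinv : (1 - algebraMap S R ep) • (stdAlt n R * stdAlt n R) =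
      -((1 - algebraMap S R ep) • (1 : Matrix (Fin n) (Fin n) R)))
    (hH : ∀ p : PrimeSpectrum S, ep ∉ p.asIdeal →
      PieceAt lam t n p.asIdeal (fun T _ _ u => u = 1))
    (hK : ∀ p : PrimeSpectrum S, ep ∈ p.asIdeal →
      PieceAt lam t n p.asIdeal (fun T _ _ u => u = stdAlt n (T ⊗[S] R))) :
    ∃ (w : (Matrix (Fin n) (Fin n) R)ˣ) (e : R)
      (hw : LamInv.transpose lam (Fin n) hlam (↑w : Matrix (Fin n) (Fin n) R) =
        e • (↑w : Matrix (Fin n) (Fin n) R))
      (he : lam e * e = 1),
      LocIsoEt S lam t ((LamInv.transpose lam (Fin n) hlam).conj w e hw he) := by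
  obtain ⟨ε, hε⟩ : ∃ ε : R, ε = algebraMap S R ep := ⟨_, rfl⟩
  rw [← hε] at hinv
  have hεε : ε * ε = ε := by rw [hε, ← map_mul, hep]
  have hlε : lam ε = ε := by rw [hε]; exact lam.commutes ep
  have h0 : ε * (1 - ε) = 0 := by rw [mul_sub, mul_one, hεε, sub_self]
  have h1 : (1 - ε) * (1 - ε) = 1 - ε := by linear_combination hεε
  obtain ⟨W, hW⟩ : ∃ W : Matrix (Fin n) (Fin n) R, W = ε • 1 + (1 - ε) • stdAlt n R := ⟨_, rfl⟩
  obtain ⟨W', hW'⟩ : ∃ W' : Matrix (Fin n) (Fin n) R, W' = ε • 1 - (1 - ε) • stdAlt n R :=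
    ⟨_, rfl⟩
  have hWW' : W * W' = 1 := by
    have key : W * W' = (ε * ε) • (1 : Matrix (Fin n) (Fin n) R) +
        ((1 - ε) * ε - ε * (1 - ε)) • stdAlt n R -
        ((1 - ε) * (1 - ε)) • (stdAlt n R * stdAlt n R) := by
      rw [hW, hW']
      simp only [add_mul, mul_sub, smul_mul_assoc, mul_smul_comm, one_mul, mul_one, smul_smul]
      module
    rw [key, h1, hinv, hεε, mul_comm (1 - ε) ε, sub_self, zero_smul, add_zero, sub_neg_eq_add,
      ← add_smul, add_sub_cancel, one_smul]
  have hW'W : W' * W = 1 := by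
    have key : W' * W = (ε * ε) • (1 : Matrix (Fin n) (Fin n) R) +
        (ε * (1 - ε) - (1 - ε) * ε) • stdAlt n R -
        ((1 - ε) * (1 - ε)) • (stdAlt n R * stdAlt n R) := by
      rw [hW, hW']
      simp only [sub_mul, mul_add, smul_mul_assoc, mul_smul_comm, one_mul, mul_one, smul_smul]
      module
    rw [key, h1, hinv, hεε, mul_comm (1 - ε) ε, sub_self, zero_smul, add_zero, sub_neg_eq_add,
      ← add_smul, add_sub_cancel, one_smul]
  obtain ⟨w, hw⟩ : ∃ w : (Matrix (Fin n) (Fin n) R)ˣ, (w : Matrix (Fin n) (Fin n) R) = W :=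
    ⟨⟨W, W', hWW', hW'W⟩, rfl⟩
  obtain ⟨e, he⟩ : ∃ e : R, e = ε - (1 - ε) := ⟨_, rfl⟩
  have hle : lam e = e := by rw [he, map_sub, map_sub, map_one, hlε]
  have hee : lam e * e = 1 := by
    rw [hle, he]
    linear_combination 4 * hεε
  have hwT : LamInv.transpose lam (Fin n) hlam (↑w : Matrix (Fin n) (Fin n) R) =
      e • (↑w : Matrix (Fin n) (Fin n) R) := by
    show lamTr lam (w : Matrix (Fin n) (Fin n) R) = _
    rw [hw, hW, lamTr_add, lamTr_smul, lamTr_smul, lamTr_one, lamTr_stdAlt, hlε, map_sub, map_one,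
      hlε, he, smul_add, smul_smul, smul_smul]
    have e1 : (ε - (1 - ε)) * ε = ε := by linear_combination 2 * hεε
    have e2 : (ε - (1 - ε)) * (1 - ε) = -(1 - ε) := by linear_combination -2 * hεε
    rw [e1, e2, neg_smul, smul_neg]
  refine ⟨w, e, hwT, hee, ?_⟩
  obtain ⟨t₀, ht₀⟩ : ∃ t₀ : LamInv R (Matrix (Fin n) (Fin n) R) lam,
      t₀ = (LamInv.transpose lam (Fin n) hlam).conj w e hwT hee := ⟨_, rfl⟩
  rw [← ht₀]
  have hstd : ∀ X, t₀ X * W = W * lamTr lam X := by
    intro X
    rw [ht₀]
    show (w : Matrix (Fin n) (Fin n) R) * lamTr lam X * ((w⁻¹ : (Matrix (Fin n) (Fin n) R)ˣ) :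
      Matrix (Fin n) (Fin n) R) * W = _
    rw [← hw, mul_assoc, Units.inv_mul, mul_one]
  have hWu : IsUnit W := ⟨w, hw⟩
  -- the local isomorphisms
  have key : ∀ (p : PrimeSpectrum S) (s : S), s * s = s → s ∉ p.asIdeal →
      ∀ (T : Type u) [CommRing T] [Algebra S T] [Algebra.Etale S T] (Q : Ideal T) [Q.IsPrime],
      Q.comap (algebraMap S T) = p.asIdeal → ∀ P : Piece lam t n T,
      (∀ (T' : Type u) [CommRing T'] [Algebra S T'] (g : T →ₐ[S] T'), algebraMap S T' s = 1 →
        (P.map g).u = W.map (algebraMap R (T' ⊗[S] R))) → LocIsoAt lam t t₀ p.asIdeal := by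
    intro p s hss hsp T _ _ _ Q _ hQ P hP
    have hsQ : algebraMap S T s ∉ Q := by
      intro hmem
      apply hsp
      rw [← hQ]
      exact hmem
    haveI : IsScalarTower S T (Localization.Away (algebraMap S T s)) := inferInstance
    haveI : Algebra.Etale S (Localization.Away (algebraMap S T s)) :=
      Algebra.Etale.comp S T (Localization.Away (algebraMap S T s))
    obtain ⟨Q', hQ'p, hQ'⟩ := exists_prime_away Q hsQ
    have hs1 : algebraMap S (Localization.Away (algebraMap S T s)) s = 1 := by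
      apply isUnit_idem_eq_one
      · rw [← map_mul, hss]
      · rw [IsScalarTower.algebraMap_apply S T (Localization.Away (algebraMap S T s))]
        exact IsLocalization.Away.algebraMap_isUnit _
    have hu := hP (Localization.Away (algebraMap S T s))
      (IsScalarTower.toAlgHom S T (Localization.Away (algebraMap S T s))) hs1
    obtain ⟨f, hf1, hf2⟩ := exists_iso_of_pieces
      (P.map (IsScalarTower.toAlgHom S T (Localization.Away (algebraMap S T s))))
      (stdPiece lam n t₀ W hWu hstd (Localization.Away (algebraMap S T s))) (by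
        rw [stdPiece_u]
        exact hu)
    refine ⟨Localization.Away (algebraMap S T s), inferInstance, inferInstance, inferInstance,
      Q', hQ'p, ?_, f, hf1, hf2⟩
    rw [← hQ, ← hQ', Ideal.comap_comap, ← IsScalarTower.algebraMap_eq]
  refine locIsoEt_of_forall_locIsoAt lam t t₀ (fun p => ?_)
  by_cases hp : ep ∈ p.asIdeal
  · obtain ⟨T, _, _, hetT, Q, hQp, hQ, P, hP⟩ := hK p hp
    change P.u = stdAlt n (T ⊗[S] R) at hP
    haveI := hetT
    haveI := hQp
    refine key p (1 - ep) (by linear_combination hep) ?_ T Q hQ P ?_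
    · intro hmem
      have : (1 : S) ∈ p.asIdeal := by
        have := Ideal.add_mem _ hmem hp
        rwa [sub_add_cancel] at this
      exact p.isPrime.one_notMem this
    · intro T' _ _ g hg
      rw [Piece.map_u, hP, hW, map_W, hε, algebraMap_tower]
      have h3 : algebraMap S T' ep = 0 := by
        rw [map_sub, map_one] at hg
        linear_combination -hg
      rw [h3, map_zero, zero_smul, zero_add, sub_zero, one_smul]
      exact stdAlt_map (n := n) (T ⊗[S] R) (gOm (R := R) g).toRingHom
  · obtain ⟨T, _, _, hetT, Q, hQp, hQ, P, hP⟩ := hH p hp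
    change P.u = 1 at hP
    haveI := hetT
    haveI := hQp
    refine key p ep hep hp T Q hQ P ?_
    intro T' _ _ g hg
    rw [Piece.map_u, hP, hW, map_W, hε, algebraMap_tower, hg, map_one, one_smul, sub_self,
      zero_smul, add_zero, Matrix.map_one _ (map_zero _) (map_one _)]

end Global

section Main

/-- every involution is ordinary: S17358 -/
theorem main (S : Type u) (R : Type v) [CommRing S] [CommRing R] [Algebra S R]
    (lam : R ≃ₐ[S] R) (hlam : ∀ r, lam (lam r) = r) (hfix : RInv.IsFixedRing S R lam.toRingEquiv)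
    (hsq : HasSqrtCovers S)
    (hram : (IsUnit (2 : S) ∧ ∀ p : PrimeSpectrum S,
        ¬ RInv.IsQuadEtale (Localization.AtPrime p.asIdeal) (Localization.AtPrime p.asIdeal ⊗[S] R)) ∨
      RInv.IsQuadEtale S R)
    (A : Type w) [Ring A] [Algebra S A] [Algebra R A] [IsScalarTower S R A]
    (n : ℕ) (hn : 0 < n) (hA : AzInv.IsAzumayaDeg R A n) (t : AzInv.LamInv R A lam) :
    ∃ (w : (Matrix (Fin n) (Fin n) R)ˣ) (e : R)
      (hw : AzInv.LamInv.transpose lam (Fin n) hlam (↑w : Matrix (Fin n) (Fin n) R) =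
        e • (↑w : Matrix (Fin n) (Fin n) R))
      (he : lam e * e = 1),
      AzInv.LocIsoEt S lam t ((AzInv.LamInv.transpose lam (Fin n) hlam).conj w e hw he) := by
  rcases hram with ⟨h2, hr⟩ | hq
  · have hRam : ∀ p : PrimeSpectrum S, RamOver lam (Localization.AtPrime p.asIdeal) := by
      intro p
      by_contra hcon
      apply hr p
      have hfixB := fixedRing_bc lam hlam hfix (Localization.AtPrime p.asIdeal)
      have hLinv : Function.Involutive (lamB lam (Localization.AtPrime p.asIdeal)).toRingEquiv :=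
        lamB_lamB lam hlam (Localization.AtPrime p.asIdeal)
      have hex : ∃ a : Localization.AtPrime p.asIdeal ⊗[S] R,
          (lamB lam (Localization.AtPrime p.asIdeal)).toRingEquiv a - a ∉
            Ring.jacobson (Localization.AtPrime p.asIdeal ⊗[S] R) := by
        by_contra hcon'
        push Not at hcon'
        exact hcon hcon'
      exact Groth.Agent.S15576.result (Localization.AtPrime p.asIdeal)
        (Localization.AtPrime p.asIdeal ⊗[S] R)
        (lamB lam (Localization.AtPrime p.asIdeal)).toRingEquiv hLinv hfixB hex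
    have hcl := fun p : PrimeSpectrum S => classify lam hlam hfix t h2 hsq hn hA p.asIdeal
    by_cases hev : Even n
    · have hopenP := isOpen_pieceAt lam t (n := n) (fun T _ _ u => u = 1)
      have hopenM := isOpen_pieceAt lam t (n := n) (fun T _ _ u => u = stdAlt n (T ⊗[S] R))
      have hcompl : {p : PrimeSpectrum S | PieceAt lam t n p.asIdeal (fun T _ _ u => u = 1)} =
          {p : PrimeSpectrum S | PieceAt lam t n p.asIdeal
            (fun T _ _ u => u = stdAlt n (T ⊗[S] R))}ᶜ := by
        ext p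
        simp only [Set.mem_setOf_eq, Set.mem_compl_iff]
        constructor
        · intro h₁ h₂
          exact not_one_and_alt lam hlam hfix t p.asIdeal (hRam p) h2 hn h₁ h₂
        · intro h₂
          exact (hcl p).resolve_right (fun h => h₂ h.2.2)
      have hclopen : IsClopen {p : PrimeSpectrum S |
          PieceAt lam t n p.asIdeal (fun T _ _ u => u = 1)} := by
        refine ⟨?_, hopenP⟩
        rw [hcompl]
        exact isClosed_compl_iff.2 hopenM
      obtain ⟨ep, hep, hZ⟩ := PrimeSpectrum.isClopen_iff.1 hclopen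
      refine exists_of_idem lam hlam t ep hep ?_ ?_ ?_
      · rw [stdAlt_mul_self R hev, smul_neg]
      · intro p hp
        have : p ∈ (PrimeSpectrum.basicOpen ep : Set (PrimeSpectrum S)) := hp
        rw [← hZ] at this
        exact this
      · intro p hp
        have h3 : p ∉ {p : PrimeSpectrum S | PieceAt lam t n p.asIdeal (fun T _ _ u => u = 1)} := by
          rw [hZ]
          exact fun h => h hp
        rw [hcompl] at h3
        exact not_not.1 h3
    · refine exists_of_idem lam hlam t 1 (one_mul 1) ?_ ?_ ?_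
      · rw [map_one, sub_self, zero_smul, zero_smul, neg_zero]
      · intro p _
        exact (hcl p).resolve_right (fun h => hev h.2.1)
      · intro p hp
        exact absurd hp p.isPrime.one_notMem
  · refine ⟨1, 1, ?_, ?_, ?_⟩
    · show lamTr lam ((1 : (Matrix (Fin n) (Fin n) R)ˣ) : Matrix (Fin n) (Fin n) R) = _
      rw [Units.val_one, one_smul]
      exact lamTr_one lam
    · rw [map_one, mul_one]
    · refine Groth.Agent.Lib.R2LeadAzTQuadMain.locIsoEt_of_quad S R lam hlam hfix hq A n hn hA t _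
        (fun X => ?_)
      show ((1 : (Matrix (Fin n) (Fin n) R)ˣ) : Matrix (Fin n) (Fin n) R) *
        lamTr lam X * ((1⁻¹ : (Matrix (Fin n) (Fin n) R)ˣ) : Matrix (Fin n) (Fin n) R) = _
      rw [inv_one, Units.val_one, one_mul, mul_one]

end Main

end Groth.Agent.Lib.R2LeadAzTOrdMain
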