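import Mathlib
import Groth.Agent.Lib.R2LeadAzTMat

/-!
# Involutions of the same type are locally isomorphic (lead)
-/

set_option autoImplicit false
set_option linter.style.haveILetI false
set_option linter.unusedSectionVars false

namespace Groth.Agent.Lib.R2LeadAzTSameMain

open TensorProduct AzInv
open Groth.Agent.Lib.R2LeadAzTQuad Groth.Agent.Lib.R2LeadAzTBase Groth.Agent.Lib.R2LeadAzTLocal
  Groth.Agent.Lib.R2LeadAzTDiag Groth.Agent.Lib.R2LeadAzTClass Groth.Agent.Lib.R2LeadAzTSpreadEq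
  Groth.Agent.Lib.R2LeadAzTSkewMain Groth.Agent.Lib.R2LeadAzTUniq Groth.Agent.Lib.R2LeadAzTGlue
  Groth.Agent.Lib.R2LeadAzTGlobal Groth.Agent.Lib.R2LeadAzTTransport Groth.Agent.Lib.R2LeadAzTMat
open Groth.Agent.Lib.R2LeadInvForms (HasSqrtCovers stdAlt stdAlt_map stdAlt_mul_self)
open Groth.Agent.Lib.R2LeadAzFixBase (Setup)
open Groth.Agent.Lib.R2LeadAzCharpoly (splitBC splitBC_one_tmul)

attribute [local instance] Algebra.TensorProduct.rightAlgebra

universe u v w w'

section Symm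

variable {S : Type u} {R : Type v} [CommRing S] [CommRing R] [Algebra S R] (lam : R ≃ₐ[S] R)
  {A : Type w} [Ring A] [Algebra S A] [Algebra R A] [IsScalarTower S R A] (t : LamInv R A lam)
  {A' : Type w'} [Ring A'] [Algebra S A'] [Algebra R A'] [IsScalarTower S R A']
  (t' : LamInv R A' lam)

theorem locIsoEt_symm (h : LocIsoEt S lam t t') : LocIsoEt S lam t' t := by
  obtain ⟨S', _, _, het, hff, f, hf1, hf2⟩ := h
  refine ⟨S', inferInstance, inferInstance, het, hff, f.symm, ?_, ?_⟩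
  · intro r y
    apply f.injective
    rw [hf1, AlgEquiv.apply_symm_apply, AlgEquiv.apply_symm_apply]
  · intro y
    apply f.injective
    rw [hf2, AlgEquiv.apply_symm_apply, AlgEquiv.apply_symm_apply]

theorem sameType_symm (h : SameType S lam t t') : SameType S lam t' t := by
  obtain ⟨m, m', hm, hm', h⟩ := h
  exact ⟨m', m, hm', hm, locIsoEt_symm lam _ _ h⟩

end Symm

section Mixed

variable {S : Type u} {R : Type v} [CommRing S] [CommRing R] [Algebra S R] (lam : R ≃ₐ[S] R)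
  (hlam : ∀ r, lam (lam r) = r) (hfix : RInv.IsFixedRing S R lam.toRingEquiv)
  {A : Type w} [Ring A] [Algebra S A] [Algebra R A] [IsScalarTower S R A] (t : LamInv R A lam)
  {A' : Type w'} [Ring A'] [Algebra S A'] [Algebra R A'] [IsScalarTower S R A']
  (t' : LamInv R A' lam) {n n' : ℕ}

include hlam hfix in
theorem not_herm_and_skew' {B : Type u} [CommRing B] [Algebra S B] [Module.Flat S B]
    [IsLocalRing B] (hram : RamOver lam B) (h2 : IsUnit (2 : S)) {n₁ n₂ : ℕ} (hn : 0 < n₁)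
    (P₁ : Piece lam t n₁ B) (P₂ : Piece lam t n₂ B) (h₁ : lamTr (lamB lam B) P₁.u = P₁.u)
    (h₂ : lamTr (lamB lam B) P₂.u = -P₂.u) : False := by
  have hfixB := fixedRing_bc lam hlam hfix B
  haveI : Nontrivial (B ⊗[S] R) := hfixB.1.nontrivial
  have := degree_eq P₁ P₂
  subst this
  exact not_herm_and_skew lam hlam hfix hram h2 hn P₁ P₂ h₁ h₂

include hlam hfix in
/-- at a ramified prime, a hermitian and a skew-hermitian involution are not of the same type -/
theorem mixed_false (h2 : IsUnit (2 : S)) (hn : 0 < n) (p : Ideal S) [p.IsPrime]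
    (hram : RamOver lam (Localization.AtPrime p))
    (hH : PieceAt lam t n p (fun T _ _ u => lamTr (lamB lam T) u = u))
    (hK : PieceAt lam t' n' p (fun T _ _ u => lamTr (lamB lam T) u = -u))
    (hsame : SameType S lam t t') : False := by
  obtain ⟨m, m', hm, hm', C, _, _, hetC, hffC, F, hF1, hF2⟩ := hsame
  haveI := hetC
  haveI := hffC
  obtain ⟨QC, hQC⟩ := PrimeSpectrum.comap_surjective_of_faithfullyFlat (A := S) (B := C)
    ⟨p, inferInstance⟩
  have hQC' : QC.asIdeal.comap (algebraMap S C) = p := congrArg PrimeSpectrum.asIdeal hQC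
  obtain ⟨T₁, _, _, hetT₁, Q₁, hQ₁p, hQ₁, P₁, P₂, hP₁, hP₂⟩ := exists_common lam t t' p
    (predStable_herm lam) (predStable_skew lam) hH hK
  change lamTr (lamB lam T₁) P₁.u = P₁.u at hP₁
  change lamTr (lamB lam T₁) P₂.u = -P₂.u at hP₂
  haveI := hQ₁p
  haveI := hetT₁
  obtain ⟨Q, hQp, hQ⟩ := exists_prime_tensor p Q₁ hQ₁ QC.asIdeal hQC'
  haveI := hQp
  haveI : Algebra.Etale S (T₁ ⊗[S] C) := Algebra.Etale.comp S T₁ (T₁ ⊗[S] C)
  haveI : Module.Flat S (T₁ ⊗[S] C) := inferInstance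
  haveI : Module.Flat S (Localization.AtPrime Q) := Module.Flat.trans S (T₁ ⊗[S] C) _
  have hramB : RamOver lam (Localization.AtPrime Q) := hram.of_hom lam hlam hfix (locHom p Q hQ)
  obtain ⟨g₁, hg₁⟩ : ∃ g₁ : T₁ →ₐ[S] Localization.AtPrime Q,
      g₁ = (IsScalarTower.toAlgHom S (T₁ ⊗[S] C) (Localization.AtPrime Q)).comp
        Algebra.TensorProduct.includeLeft := ⟨_, rfl⟩
  obtain ⟨gC, hgC⟩ : ∃ gC : C →ₐ[S] Localization.AtPrime Q,
      gC = (IsScalarTower.toAlgHom S (T₁ ⊗[S] C) (Localization.AtPrime Q)).comp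
        Algebra.TensorProduct.includeRight := ⟨_, rfl⟩
  obtain ⟨f, hf1, hf2⟩ := IsoOver.map lam (t.matrix (Fin m)) (t'.matrix (Fin m'))
    ⟨F, hF1, hF2⟩ gC
  have hmn : 0 < m * n := Nat.mul_pos hm hn
  refine not_herm_and_skew' lam hlam hfix (t.matrix (Fin m)) hramB h2 hmn
    (matPiece (P₁.map g₁) m) (pieceOfIso f hf1 hf2 (matPiece (P₂.map g₁) m')) ?_ ?_
  · apply matPiece_herm
    rw [Piece.map_u, ← lamTr_map, hP₁]
  · rw [pieceOfIso_u]
    apply matPiece_skew
    rw [Piece.map_u, ← lamTr_map, hP₂]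
    ext i j
    simp only [Matrix.map_apply, Matrix.neg_apply, map_neg]

end Mixed

section Quad

variable {S : Type u} {R : Type v} [CommRing S] [CommRing R] [Algebra S R] (lam : R ≃ₐ[S] R)
  (hlam : ∀ r, lam (lam r) = r) (hfix : RInv.IsFixedRing S R lam.toRingEquiv)
  {A : Type w} [Ring A] [Algebra S A] [Algebra R A] [IsScalarTower S R A] (t : LamInv R A lam)
  {n : ℕ}

include hlam hfix in
/-- over a quadratic étale extension every involution has a global piece with `u = 1` -/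
theorem exists_one_piece_of_quad (hq : RInv.IsQuadEtale S R) (hn : 0 < n)
    (hA : IsAzumayaDeg R A n) :
    ∃ (S' : Type u) (_ : CommRing S') (_ : Algebra S S') (_ : Algebra.Etale S S')
      (_ : Module.FaithfullyFlat S S') (P : Piece lam t n S'), P.u = 1 := by
  obtain ⟨S₁, _, _, het₁, hff₁, ε, hε, hlε⟩ := exists_cover lam hlam hfix hq
  let h : Setup S R A n := ⟨lam, hlam, hfix, hA.1, hA.2, hn⟩
  obtain ⟨S₂, _, _, het₂, hff₂, ⟨σ₂⟩⟩ := Groth.Agent.Lib.R2LeadAzFixMain.exists_global h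
  let g₁ : S₁ →ₐ[S] S₁ ⊗[S] S₂ := Algebra.TensorProduct.includeLeft
  let g₂ : S₂ →ₐ[S] S₁ ⊗[S] S₂ := Algebra.TensorProduct.includeRight
  haveI : Algebra.Etale S (S₁ ⊗[S] S₂) := Algebra.Etale.comp S S₁ (S₁ ⊗[S] S₂)
  haveI : Module.FaithfullyFlat S (S₁ ⊗[S] S₂) := Module.FaithfullyFlat.trans S S₁ (S₁ ⊗[S] S₂)
  obtain ⟨σ, hσ⟩ : ∃ σ, σ = splitBC σ₂ (gOm (R := R) g₂) := ⟨_, rfl⟩
  obtain ⟨ε', hε'⟩ : ∃ ε', ε' = gOm (R := R) g₁ ε := ⟨_, rfl⟩
  have h1 : ε' * ε' = ε' := by rw [hε', ← map_mul, hε]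
  have h2 : lamB lam (S₁ ⊗[S] S₂) ε' = 1 - ε' := by
    rw [hε', ← gOm_lamB, hlε, map_sub, map_one]
  obtain ⟨f, hf⟩ := exists_auto_of_idem (lamB lam (S₁ ⊗[S] S₂)) (lamB_lamB lam hlam (S₁ ⊗[S] S₂))
    ε' h1 h2 (tau lam t (S₁ ⊗[S] S₂) σ)
  refine ⟨S₁ ⊗[S] S₂, inferInstance, inferInstance, inferInstance, inferInstance,
    { σ := σ.trans f
      u := 1
      hu := isUnit_one
      conj := by
        intro a
        rw [mul_one, one_mul, AlgEquiv.trans_apply, AlgEquiv.trans_apply]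
        have h3 : (1 : (S₁ ⊗[S] S₂) ⊗[S] R) ⊗ₜ[R] t a =
            TT lam t (S₁ ⊗[S] S₂) ((1 : (S₁ ⊗[S] S₂) ⊗[S] R) ⊗ₜ[R] a) := by
          rw [TT_tmul, map_one]
        rw [h3, ← tau_sigma, hf] }, rfl⟩

include hlam hfix in
theorem pieceAt_one_of_quad (hq : RInv.IsQuadEtale S R) (hn : 0 < n)
    (hA : IsAzumayaDeg R A n) (p : Ideal S) [p.IsPrime] :
    PieceAt lam t n p (fun T _ _ u => u = 1) := by
  obtain ⟨S', _, _, het, hff, P, hP⟩ := exists_one_piece_of_quad lam hlam hfix t hq hn hA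
  haveI := hff
  obtain ⟨Q, hQ⟩ := PrimeSpectrum.comap_surjective_of_faithfullyFlat (A := S) (B := S')
    ⟨p, inferInstance⟩
  exact ⟨S', inferInstance, inferInstance, het, Q.asIdeal, Q.isPrime,
    congrArg PrimeSpectrum.asIdeal hQ, P, hP⟩

end Quad

section Main

variable {S : Type u} {R : Type v} [CommRing S] [CommRing R] [Algebra S R] (lam : R ≃ₐ[S] R)
  {A : Type w} [Ring A] [Algebra S A] [Algebra R A] [IsScalarTower S R A] (t : LamInv R A lam)
  {A' : Type w'} [Ring A'] [Algebra S A'] [Algebra R A'] [IsScalarTower S R A']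
  (t' : LamInv R A' lam) {n : ℕ}

/-- two involutions with pieces having the same stable normal form near `p` are isomorphic
near `p` -/
theorem locIsoAt_of_pieceAt (p : Ideal S) [p.IsPrime]
    (W : ∀ (T : Type u) [CommRing T] [Algebra S T], Matrix (Fin n) (Fin n) (T ⊗[S] R))
    (hW : PredStable (S := S) (R := R) n (fun T _ _ u => u = W T))
    (h₁ : PieceAt lam t n p (fun T _ _ u => u = W T))
    (h₂ : PieceAt lam t' n p (fun T _ _ u => u = W T)) : LocIsoAt lam t t' p := by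
  obtain ⟨T, _, _, hetT, Q, hQp, hQ, P₁, P₂, hP₁, hP₂⟩ := exists_common lam t t' p hW hW h₁ h₂
  change P₁.u = W T at hP₁
  change P₂.u = W T at hP₂
  obtain ⟨f, hf1, hf2⟩ := exists_iso_of_pieces P₁ P₂ (hP₁.trans hP₂.symm)
  exact ⟨T, inferInstance, inferInstance, hetT, Q, hQp, hQ, f, hf1, hf2⟩

/-- S17352 -/
theorem main (S : Type u) (R : Type v) [CommRing S] [CommRing R] [Algebra S R]
    (lam : R ≃ₐ[S] R) (hlam : ∀ r, lam (lam r) = r) (hfix : RInv.IsFixedRing S R lam.toRingEquiv)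
    (hsq : HasSqrtCovers S)
    (n : ℕ) (hn : 0 < n) (hcond : IsUnit (2 : S) ∨ RInv.IsQuadEtale S R ∨ Odd n)
    (A : Type w) [Ring A] [Algebra S A] [Algebra R A] [IsScalarTower S R A]
    (A' : Type w') [Ring A'] [Algebra S A'] [Algebra R A'] [IsScalarTower S R A']
    (hA : AzInv.IsAzumayaDeg R A n) (hA' : AzInv.IsAzumayaDeg R A' n)
    (t : AzInv.LamInv R A lam) (t' : AzInv.LamInv R A' lam) (h : AzInv.SameType S lam t t') :
    AzInv.LocIsoEt S lam t t' := by
  refine locIsoEt_of_forall_locIsoAt lam t t' (fun p => ?_)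
  have hone : PieceAt lam t n p.asIdeal (fun T _ _ u => u = 1) →
      PieceAt lam t' n p.asIdeal (fun T _ _ u => u = 1) → LocIsoAt lam t t' p.asIdeal :=
    fun h₁ h₂ => locIsoAt_of_pieceAt lam t t' p.asIdeal (fun T _ _ => 1) predStable_one h₁ h₂
  have halt : PieceAt lam t n p.asIdeal (fun T _ _ u => u = stdAlt n (T ⊗[S] R)) →
      PieceAt lam t' n p.asIdeal (fun T _ _ u => u = stdAlt n (T ⊗[S] R)) →
      LocIsoAt lam t t' p.asIdeal :=
    fun h₁ h₂ => locIsoAt_of_pieceAt lam t t' p.asIdeal (fun T _ _ => stdAlt n (T ⊗[S] R))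
      predStable_alt h₁ h₂
  rcases hcond with h2 | hq | hodd
  · rcases classify lam hlam hfix t h2 hsq hn hA p.asIdeal with h₁ | ⟨hram, -, h₁⟩
    · rcases classify lam hlam hfix t' h2 hsq hn hA' p.asIdeal with h₂ | ⟨hram, -, h₂⟩
      · exact hone h₁ h₂
      · exfalso
        refine mixed_false lam hlam hfix t t' h2 hn p.asIdeal hram
          (pieceAt_mono lam t p.asIdeal ?_ h₁) (pieceAt_mono lam t' p.asIdeal ?_ h₂) h
        · intro T _ _ u hu
          show lamTr (lamB lam T) u = u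
          rw [hu, lamTr_one]
        · intro T _ _ u hu
          show lamTr (lamB lam T) u = -u
          rw [hu, lamTr_stdAlt]
    · rcases classify lam hlam hfix t' h2 hsq hn hA' p.asIdeal with h₂ | ⟨-, -, h₂⟩
      · exfalso
        refine mixed_false lam hlam hfix t' t h2 hn p.asIdeal hram
          (pieceAt_mono lam t' p.asIdeal ?_ h₂) (pieceAt_mono lam t p.asIdeal ?_ h₁)
          (sameType_symm lam t t' h)
        · intro T _ _ u hu
          show lamTr (lamB lam T) u = u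
          rw [hu, lamTr_one]
        · intro T _ _ u hu
          show lamTr (lamB lam T) u = -u
          rw [hu, lamTr_stdAlt]
      · exact halt h₁ h₂
  · exact hone (pieceAt_one_of_quad lam hlam hfix t hq hn hA p.asIdeal)
      (pieceAt_one_of_quad lam hlam hfix t' hq hn hA' p.asIdeal)
  · exact hone (exists_one_piece_of_odd lam hlam hfix hsq t hodd hA p.asIdeal)
      (exists_one_piece_of_odd lam hlam hfix hsq t' hodd hA' p.asIdeal)

end Main

end Groth.Agent.Lib.R2LeadAzTSameMain
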