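import Mathlib
import Groth.Agent.Lib.Helper10AzSign

/-!
# Dimensions of spaces of symmetric and alternating matrices; field extensions (lead)
-/

set_option autoImplicit false
set_option linter.style.haveILetI false
set_option linter.unusedSectionVars false

namespace Groth.Agent.Lib.R2LeadAzTSignDim

open TensorProduct Module

universe u v w

section Count

variable (n : ℕ)

theorem card_le_pairs : Fintype.card {p : Fin n × Fin n // p.1 ≤ p.2} = Nat.choose (n + 1) 2 := by
  rw [← Fintype.card_congr (Sym2.sortEquiv (α := Fin n)), Sym2.card, Fintype.card_fin]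

theorem card_le_add_card_lt :
    Fintype.card {p : Fin n × Fin n // p.1 ≤ p.2} + Fintype.card {p : Fin n × Fin n // p.1 < p.2} =
      n * n := by
  have h1 : Fintype.card {p : Fin n × Fin n // p.1 < p.2} =
      Fintype.card {p : Fin n × Fin n // ¬ p.1 ≤ p.2} := by
    apply Fintype.card_congr
    exact
      { toFun := fun p => ⟨(p.1.2, p.1.1), not_le.2 p.2⟩
        invFun := fun p => ⟨(p.1.2, p.1.1), not_le.1 p.2⟩
        left_inv := fun p => rfl
        right_inv := fun p => rfl }
  rw [h1, Fintype.card_subtype_compl, ← Nat.add_sub_assoc (Fintype.card_subtype_le _),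
    Nat.add_sub_cancel_left, Fintype.card_prod, Fintype.card_fin]

theorem two_mul_choose : 2 * Nat.choose (n + 1) 2 = (n + 1) * n := by
  rw [Nat.choose_two_right, Nat.add_sub_cancel]
  exact Nat.two_mul_div_two_of_even (Nat.even_mul_pred_self (n + 1))

end Count

section Dim

variable {L : Type*} [Field L] {n : ℕ}

theorem finrank_le_of_symm (W : Submodule L (Matrix (Fin n) (Fin n) L))
    (hW : ∀ X ∈ W, X.transpose = X) : finrank L W ≤ Nat.choose (n + 1) 2 := by
  let ev : Matrix (Fin n) (Fin n) L →ₗ[L] ({p : Fin n × Fin n // p.1 ≤ p.2} → L) :=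
    { toFun := fun X p => X p.1.1 p.1.2
      map_add' := fun X Y => rfl
      map_smul' := fun c X => rfl }
  have hinj : Function.Injective (ev.comp W.subtype) := by
    rw [← LinearMap.ker_eq_bot, LinearMap.ker_eq_bot']
    intro X hX
    have h0 : ∀ i j : Fin n, i ≤ j → (X : Matrix (Fin n) (Fin n) L) i j = 0 := fun i j hij =>
      congrFun hX ⟨(i, j), hij⟩
    apply Subtype.ext
    ext i j
    rcases le_total i j with hij | hij
    · exact h0 i j hij
    · have := hW X X.2
      have h1 : (X : Matrix (Fin n) (Fin n) L) i j = (X : Matrix (Fin n) (Fin n) L).transpose j i :=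
        rfl
      rw [h1, this]
      exact h0 j i hij
  have := LinearMap.finrank_le_finrank_of_injective hinj
  rw [Module.finrank_fintype_fun_eq_card, card_le_pairs] at this
  exact this

theorem finrank_le_of_skew (h2 : (2 : L) ≠ 0) (W : Submodule L (Matrix (Fin n) (Fin n) L))
    (hW : ∀ X ∈ W, X.transpose = -X) :
    finrank L W ≤ Fintype.card {p : Fin n × Fin n // p.1 < p.2} := by
  let ev : Matrix (Fin n) (Fin n) L →ₗ[L] ({p : Fin n × Fin n // p.1 < p.2} → L) :=
    { toFun := fun X p => X p.1.1 p.1.2
      map_add' := fun X Y => rfl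
      map_smul' := fun c X => rfl }
  have hinj : Function.Injective (ev.comp W.subtype) := by
    rw [← LinearMap.ker_eq_bot, LinearMap.ker_eq_bot']
    intro X hX
    have h0 : ∀ i j : Fin n, i < j → (X : Matrix (Fin n) (Fin n) L) i j = 0 := fun i j hij =>
      congrFun hX ⟨(i, j), hij⟩
    have hT := hW X X.2
    have h1 : ∀ i j : Fin n, (X : Matrix (Fin n) (Fin n) L) j i =
        -(X : Matrix (Fin n) (Fin n) L) i j := fun i j => by
      have := congrFun (congrFun hT i) j
      rwa [Matrix.transpose_apply, Matrix.neg_apply] at this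
    apply Subtype.ext
    ext i j
    rcases lt_trichotomy i j with hij | hij | hij
    · exact h0 i j hij
    · subst hij
      have h3 := h1 i i
      have h4 : (2 : L) * (X : Matrix (Fin n) (Fin n) L) i i = 0 := by linear_combination h3
      rcases mul_eq_zero.1 h4 with h5 | h5
      · exact absurd h5 h2
      · exact h5
    · rw [h1 j i, h0 j i hij, neg_zero]
      rfl
  have := LinearMap.finrank_le_finrank_of_injective hinj
  rw [Module.finrank_fintype_fun_eq_card] at this
  exact this

end Dim

section FieldExt

open Groth.Agent.Lib.Helper10.AzSign Groth.Agent.Lib.Helper10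

variable {R : Type v} {A : Type w} [CommRing R] [Ring A] [Algebra R A] [Module.Finite R A]
  {lam : R → R} (t : AzInv.LamInv R A lam)
  (κ L : Type*) [Field κ] [Field L] [Algebra R κ] [Algebra R L] [Algebra κ L]
  [IsScalarTower R κ L]

theorem finrank_tensor_ext (M : Type*) [AddCommGroup M] [Module R M] :
    finrank L (L ⊗[R] M) = finrank κ (κ ⊗[R] M) := by
  have e := TensorProduct.AlgebraTensorModule.cancelBaseChange R κ L L M
  rw [← e.finrank_eq, Module.finrank_baseChange]

theorem finrank_range_ext {K K' : Type*} [AddCommGroup K] [Module R K] [AddCommGroup K']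
    [Module R K'] [Module.Finite R K'] (φ : K →ₗ[R] K') :
    finrank L (LinearMap.range (φ.baseChange L)) =
      finrank κ (LinearMap.range (φ.baseChange κ)) := by
  have h1 := FibreRank.finrank_range_baseChange_add φ L
  have h2 := FibreRank.finrank_range_baseChange_add φ κ
  rw [finrank_tensor_ext κ L, finrank_tensor_ext κ L] at h1
  omega

theorem finrank_symSpan_ext : finrank L (symSpan t L) = finrank κ (symSpan t κ) := by
  rw [symSpan_eq_range, symSpan_eq_range]
  exact finrank_range_ext κ L _

theorem finrank_skewSpan_ext : finrank L (skewSpan t L) = finrank κ (skewSpan t κ) := by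
  rw [skewSpan_eq_range, skewSpan_eq_range]
  exact finrank_range_ext κ L _

end FieldExt

end Groth.Agent.Lib.R2LeadAzTSignDim
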