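import Mathlib
import Groth.Agent.Lib.R2LeadAzTSignDim
import Groth.Agent.Lib.R2LeadAzTSameMain

/-!
# The sign of an involution at a ramified prime, computed from a piece (lead)
-/

set_option autoImplicit false
set_option linter.style.haveILetI false
set_option linter.unusedSectionVars false

namespace Groth.Agent.Lib.R2LeadAzTSign

open TensorProduct AzInv Module
open Groth.Agent.Lib.R2LeadAzTQuad (lamB lamB_tmul lamB_lamB)
open Groth.Agent.Lib.R2LeadAzTBase Groth.Agent.Lib.R2LeadAzTSignDim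
open Groth.Agent.Lib.R2LeadAzCharpoly (splitBC splitBC_one_tmul)
open Groth.Agent.Lib.Helper10.AzSign

universe u v w w'

section FieldPoint

variable {S : Type u} {R : Type v} {T : Type u} [CommRing S] [CommRing R] [CommRing T]
  [Algebra S R] [Algebra S T]

/-- a field receiving the residue field of `𝔮` and the ring `T`, compatibly over `S` -/
theorem exists_field_point (p : Ideal S) [p.IsPrime] (𝔮 : Ideal R) [𝔮.IsPrime]
    (h𝔮 : 𝔮.comap (algebraMap S R) = p) (Q : Ideal T) [Q.IsPrime]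
    (hQ : Q.comap (algebraMap S T) = p) :
    ∃ (L : Type (max u v)) (_ : Field L) (ι : 𝔮.ResidueField →+* L) (b : T →+* L),
      ∀ s : S, ι (algebraMap R 𝔮.ResidueField (algebraMap S R s)) = b (algebraMap S T s) := by
  obtain ⟨f₁, hf₁⟩ : ∃ f₁ : p.ResidueField →+* 𝔮.ResidueField,
      f₁ = Ideal.ResidueField.map p 𝔮 (algebraMap S R) h𝔮.symm := ⟨_, rfl⟩
  obtain ⟨f₂, hf₂⟩ : ∃ f₂ : p.ResidueField →+* Q.ResidueField,
      f₂ = Ideal.ResidueField.map p Q (algebraMap S T) hQ.symm := ⟨_, rfl⟩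
  letI : Algebra p.ResidueField 𝔮.ResidueField := f₁.toAlgebra
  letI : Algebra p.ResidueField Q.ResidueField := f₂.toAlgebra
  haveI : Nontrivial (𝔮.ResidueField ⊗[p.ResidueField] Q.ResidueField) := inferInstance
  obtain ⟨𝔐, h𝔐⟩ := Ideal.exists_maximal (𝔮.ResidueField ⊗[p.ResidueField] Q.ResidueField)
  letI : Field ((𝔮.ResidueField ⊗[p.ResidueField] Q.ResidueField) ⧸ 𝔐) := Ideal.Quotient.field 𝔐
  refine ⟨(𝔮.ResidueField ⊗[p.ResidueField] Q.ResidueField) ⧸ 𝔐, inferInstance,
    (Ideal.Quotient.mk 𝔐).comp Algebra.TensorProduct.includeLeftRingHom,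
    (Ideal.Quotient.mk 𝔐).comp ((Algebra.TensorProduct.includeRight
      (R := p.ResidueField) (A := 𝔮.ResidueField) (B := Q.ResidueField)).toRingHom.comp
      (algebraMap T Q.ResidueField)), ?_⟩
  intro s
  show Ideal.Quotient.mk 𝔐 ((algebraMap R 𝔮.ResidueField (algebraMap S R s)) ⊗ₜ[p.ResidueField]
    (1 : Q.ResidueField)) = Ideal.Quotient.mk 𝔐 ((1 : 𝔮.ResidueField) ⊗ₜ[p.ResidueField]
    (algebraMap T Q.ResidueField (algebraMap S T s)))
  congr 1
  have e1 : algebraMap R 𝔮.ResidueField (algebraMap S R s) =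
      algebraMap p.ResidueField 𝔮.ResidueField (algebraMap S p.ResidueField s) := by
    show _ = f₁ _
    rw [hf₁, Ideal.ResidueField.map_algebraMap]
  have e2 : algebraMap T Q.ResidueField (algebraMap S T s) =
      algebraMap p.ResidueField Q.ResidueField (algebraMap S p.ResidueField s) := by
    show _ = f₂ _
    rw [hf₂, Ideal.ResidueField.map_algebraMap]
  rw [e1, e2, Algebra.algebraMap_eq_smul_one, Algebra.algebraMap_eq_smul_one
    (algebraMap S p.ResidueField s), TensorProduct.smul_tmul]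

end FieldPoint

section EigT

variable {L : Type*} [Field L] {n : ℕ}

/-- matrices with `Xᵀ = c X` -/
def eigT (c : L) : Submodule L (Matrix (Fin n) (Fin n) L) where
  carrier := {X | X.transpose = c • X}
  add_mem' := by
    intro X Y hX hY
    show (X + Y).transpose = c • (X + Y)
    rw [Matrix.transpose_add, hX, hY, smul_add]
  zero_mem' := by
    show (0 : Matrix (Fin n) (Fin n) L).transpose = c • 0
    rw [Matrix.transpose_zero, smul_zero]
  smul_mem' := by
    intro d X hX
    show (d • X).transpose = c • (d • X)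
    rw [Matrix.transpose_smul, hX, smul_comm]

theorem mem_eigT (c : L) (X : Matrix (Fin n) (Fin n) L) : X ∈ eigT c ↔ X.transpose = c • X :=
  Iff.rfl

theorem finrank_eigT_one : finrank L (eigT (n := n) (1 : L)) ≤ Nat.choose (n + 1) 2 :=
  finrank_le_of_symm _ (fun X hX => by
    rw [mem_eigT, one_smul] at hX
    exact hX)

theorem finrank_eigT_neg_one (h2 : (2 : L) ≠ 0) :
    finrank L (eigT (n := n) (-1 : L)) ≤ Fintype.card {p : Fin n × Fin n // p.1 < p.2} :=
  finrank_le_of_skew h2 _ (fun X hX => by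
    rw [mem_eigT, neg_smul, one_smul] at hX
    exact hX)

end EigT

section Bridge

attribute [local instance] Algebra.TensorProduct.rightAlgebra

variable {S : Type u} {R : Type v} [CommRing S] [CommRing R] [Algebra S R] (lam : R ≃ₐ[S] R)
  {A : Type w} [Ring A] [Algebra S A] [Algebra R A] [IsScalarTower S R A] [Module.Finite R A]
  (t : LamInv R A lam) {n : ℕ} {T : Type u} [CommRing T] [Algebra S T]

/-- the dimension of the span of the symmetric elements at a ramified prime, from a piece -/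
theorem finrank_symSpan_of_piece (h2 : IsUnit (2 : S)) (hn : 0 < n) (𝔮 : Ideal R) [𝔮.IsPrime]
    (hram : ∀ r, lam r - r ∈ 𝔮) (Q : Ideal T) [Q.IsPrime]
    (hQ : Q.comap (algebraMap S T) = 𝔮.comap (algebraMap S R))
    (P : Piece lam t n T) (e : T ⊗[S] R) (hu : lamTr (lamB lam T) P.u = e • P.u) :
    (e = 1 → finrank 𝔮.ResidueField (symSpan t 𝔮.ResidueField) = Nat.choose (n + 1) 2) ∧
    (e = -1 → finrank 𝔮.ResidueField (symSpan t 𝔮.ResidueField) ≠ Nat.choose (n + 1) 2) := by
  haveI : (𝔮.comap (algebraMap S R)).IsPrime := Ideal.comap_isPrime _ _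
  obtain ⟨L, _, ι, b, hιb⟩ := exists_field_point (𝔮.comap (algebraMap S R)) 𝔮 rfl Q hQ
  letI : Algebra 𝔮.ResidueField L := ι.toAlgebra
  letI : Algebra R L := (ι.comp (algebraMap R 𝔮.ResidueField)).toAlgebra
  haveI : IsScalarTower R 𝔮.ResidueField L := IsScalarTower.of_algebraMap_eq (fun r => rfl)
  letI : Algebra S L := ((algebraMap R L).comp (algebraMap S R)).toAlgebra
  haveI : IsScalarTower S R L := IsScalarTower.of_algebraMap_eq (fun s => rfl)
  let bS : T →ₐ[S] L := { b with commutes' := fun s => (hιb s).symm }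
  let g₀ : T ⊗[S] R →ₐ[S] L :=
    Algebra.TensorProduct.lift bS (IsScalarTower.toAlgHom S R L) (fun _ _ => Commute.all _ _)
  have hg₀ : ∀ (s : T) (r : R), g₀ (s ⊗ₜ[S] r) = b s * algebraMap R L r := fun s r =>
    Algebra.TensorProduct.lift_tmul _ _ _ s r
  let g : (T ⊗[S] R) →ₐ[R] L :=
    { g₀.toRingHom with
      commutes' := fun r => by
        show g₀ ((1 : T) ⊗ₜ[S] r) = _
        rw [hg₀, map_one, one_mul] }
  have hgg₀ : ∀ x, g x = g₀ x := fun x => rfl
  have hramL : ∀ r : R, algebraMap R L (lam r) = algebraMap R L r := by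
    intro r
    rw [← sub_eq_zero, ← map_sub]
    show ι (algebraMap R 𝔮.ResidueField (lam r - r)) = 0
    rw [Ideal.algebraMap_residueField_eq_zero.2 (hram r), map_zero]
  have hgL : ∀ x, g (lamB lam T x) = g x := by
    intro x
    induction x using TensorProduct.induction_on with
    | zero => simp
    | add x y hx hy => rw [map_add, map_add, hx, hy, map_add]
    | tmul s r => rw [lamB_tmul, hgg₀, hgg₀, hg₀, hg₀, hramL]
  obtain ⟨Sg, hSg⟩ : ∃ Sg : (L ⊗[R] A) ≃ₐ[L] Matrix (Fin n) (Fin n) L, Sg = splitBC P.σ g :=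
    ⟨_, rfl⟩
  obtain ⟨U, hU⟩ : ∃ U : Matrix (Fin n) (Fin n) L, U = P.u.map g := ⟨_, rfl⟩
  have hUunit : IsUnit U := by
    rw [hU]
    exact P.hu.map g.mapMatrix
  obtain ⟨⟨U₀, V, hUV, hVU⟩, hU₀⟩ := hUunit
  change U₀ = U at hU₀
  subst hU₀
  have hSg1 : ∀ a : A, Sg ((1 : L) ⊗ₜ[R] a) = (P.σ ((1 : T ⊗[S] R) ⊗ₜ[R] a)).map g := by
    intro a
    rw [hSg, splitBC_one_tmul]
  have hconj : ∀ a : A, Sg ((1 : L) ⊗ₜ[R] t a) * U₀ =
      U₀ * (Sg ((1 : L) ⊗ₜ[R] a)).transpose := by
    intro a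
    rw [hSg1, hSg1, hU, ← Matrix.map_mul, P.conj a, Matrix.map_mul]
    congr 1
    ext i j
    rw [Matrix.map_apply, lamTr_apply, Matrix.transpose_apply, Matrix.map_apply, hgL]
  obtain ⟨sgn, hsgn⟩ : ∃ sgn : L, sgn = g e := ⟨_, rfl⟩
  have hUT : U₀.transpose = sgn • U₀ := by
    ext i j
    rw [hU, Matrix.transpose_apply, Matrix.smul_apply, Matrix.map_apply, Matrix.map_apply]
    have h := congrFun (congrFun hu i) j
    rw [lamTr_apply, Matrix.smul_apply] at h
    have h' := congrArg g h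
    rw [hgL, smul_eq_mul, map_mul] at h'
    rw [h', hsgn, smul_eq_mul]
  obtain ⟨Θ, hΘ⟩ : ∃ Θ : (L ⊗[R] A) →ₗ[L] Matrix (Fin n) (Fin n) L,
      Θ = (LinearMap.mulRight L U₀).comp Sg.toLinearMap := ⟨_, rfl⟩
  have hΘapp : ∀ z, Θ z = Sg z * U₀ := fun z => by rw [hΘ]; rfl
  have hΘinj : Function.Injective Θ := by
    intro z z' hzz
    rw [hΘapp, hΘapp] at hzz
    apply Sg.injective
    calc Sg z = Sg z * U₀ * V := by rw [mul_assoc, hUV, mul_one]
      _ = Sg z' * U₀ * V := by rw [hzz]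
      _ = Sg z' := by rw [mul_assoc, hUV, mul_one]
  have hsymT : ∀ a : A, (Θ ((1 : L) ⊗ₜ[R] a)).transpose = sgn • Θ ((1 : L) ⊗ₜ[R] t a) := by
    intro a
    rw [hΘapp, hΘapp, Matrix.transpose_mul, hUT, hconj, Matrix.smul_mul]
  have hle₁ : (symSpan t L).map Θ ≤ eigT sgn := by
    rw [symSpan, Submodule.map_span, Submodule.span_le]
    rintro _ ⟨_, ⟨a, rfl⟩, rfl⟩
    show (Θ ((1 : L) ⊗ₜ[R] (a : A))).transpose = sgn • Θ ((1 : L) ⊗ₜ[R] (a : A))
    rw [hsymT, a.2]
  have hle₂ : (skewSpan t L).map Θ ≤ eigT (-sgn) := by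
    rw [skewSpan, Submodule.map_span, Submodule.span_le]
    rintro _ ⟨_, ⟨a, rfl⟩, rfl⟩
    show (Θ ((1 : L) ⊗ₜ[R] (a : A))).transpose = (-sgn) • Θ ((1 : L) ⊗ₜ[R] (a : A))
    rw [hsymT, a.2, TensorProduct.tmul_neg, map_neg, smul_neg, neg_smul]
  have hf₁ : finrank L (symSpan t L) ≤ finrank L (eigT (n := n) sgn) := by
    rw [(Submodule.equivMapOfInjective Θ hΘinj (symSpan t L)).finrank_eq]
    exact Submodule.finrank_mono hle₁
  have hf₂ : finrank L (skewSpan t L) ≤ finrank L (eigT (n := n) (-sgn)) := by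
    rw [(Submodule.equivMapOfInjective Θ hΘinj (skewSpan t L)).finrank_eq]
    exact Submodule.finrank_mono hle₂
  have h2L : (2 : L) ≠ 0 := by
    have := h2.map (algebraMap S L)
    rw [map_ofNat] at this
    exact this.ne_zero
  obtain ⟨j, hj⟩ := h2.exists_right_inv
  have hsum := finrank_symSpan_add_finrank_skewSpan t L hramL h2L (algebraMap S R j)
    (by
      have := congrArg (algebraMap S R) hj
      rwa [map_mul, map_ofNat, map_one] at this)
    (lam.commutes j)
  have htot : finrank L (L ⊗[R] A) = n * n := by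
    rw [Sg.toLinearEquiv.finrank_eq, Module.finrank_matrix, Fintype.card_fin, Module.finrank_self,
      mul_one]
  rw [htot] at hsum
  have hext := finrank_symSpan_ext t 𝔮.ResidueField L
  have hcount := card_le_add_card_lt n
  rw [card_le_pairs] at hcount
  constructor
  · intro he
    have hs1 : sgn = 1 := by rw [hsgn, he, map_one]
    rw [hs1] at hf₁ hf₂
    have b1 := finrank_eigT_one (L := L) (n := n)
    have b2 := finrank_eigT_neg_one (L := L) (n := n) h2L
    rw [← hext]
    omega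
  · intro he
    have hs1 : sgn = -1 := by rw [hsgn, he, map_neg, map_one]
    rw [hs1, neg_neg] at hf₂
    rw [hs1] at hf₁
    have b1 := finrank_eigT_one (L := L) (n := n)
    have b2 := finrank_eigT_neg_one (L := L) (n := n) h2L
    have h3 := two_mul_choose n
    rw [← hext]
    intro hcon
    have h4 : n * n = (n + 1) * n := by
      have : finrank L (symSpan t L) =
          Fintype.card {p : Fin n × Fin n // p.1 < p.2} := by omega
      rw [← h3]
      omega
    have h5 : (n + 1) * n = n * n + n := by ring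
    omega

end Bridge

end Groth.Agent.Lib.R2LeadAzTSign
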