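import Mathlib
import Groth.Agent.Lib.R2LeadAzTSign
import Groth.Agent.Lib.R2LeadAzTOrdMain

/-!
# Same type iff same signs on the ramification locus (lead)
-/

set_option autoImplicit false
set_option linter.style.haveILetI false
set_option linter.unusedSectionVars false

namespace Groth.Agent.Lib.R2LeadAzTSignMain

open TensorProduct AzInv Module
open Groth.Agent.Lib.R2LeadAzTQuad (lamB lamB_tmul lamB_lamB)
open Groth.Agent.Lib.R2LeadAzTBase Groth.Agent.Lib.R2LeadAzTLocal
  Groth.Agent.Lib.R2LeadAzTDiag Groth.Agent.Lib.R2LeadAzTClass Groth.Agent.Lib.R2LeadAzTSpreadEq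
  Groth.Agent.Lib.R2LeadAzTSkewMain Groth.Agent.Lib.R2LeadAzTUniq Groth.Agent.Lib.R2LeadAzTGlue
  Groth.Agent.Lib.R2LeadAzTGlobal Groth.Agent.Lib.R2LeadAzTTransport Groth.Agent.Lib.R2LeadAzTMat
  Groth.Agent.Lib.R2LeadAzTSameMain Groth.Agent.Lib.R2LeadAzTSign
open Groth.Agent.Lib.R2LeadInvForms (HasSqrtCovers stdAlt stdAlt_map hasSqrtCovers_of_isUnit_two)
open Groth.Agent.Lib.Helper10.AzSign

attribute [local instance] Algebra.TensorProduct.rightAlgebra

universe u v w w'

section RamPrime

variable {S : Type u} {R : Type v} [CommRing S] [CommRing R] [Algebra S R] (lam : R ≃ₐ[S] R)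
  (hlam : ∀ r, lam (lam r) = r) (hfix : RInv.IsFixedRing S R lam.toRingEquiv)

include hlam hfix in
/-- a ramified prime of `S` lies under a ramified prime of `R` -/
theorem exists_ramified_prime (p : Ideal S) [p.IsPrime]
    (hram : RamOver lam (Localization.AtPrime p)) :
    ∃ 𝔮 : Ideal R, 𝔮.IsPrime ∧ (∀ r, lam r - r ∈ 𝔮) ∧ 𝔮.comap (algebraMap S R) = p := by
  have hfixB := fixedRing_bc lam hlam hfix (Localization.AtPrime p)
  have hLinv : Function.Involutive (lamB lam (Localization.AtPrime p)).toRingEquiv :=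
    lamB_lamB lam hlam (Localization.AtPrime p)
  obtain ⟨hloc, -⟩ := Groth.Agent.S15577.result (Localization.AtPrime p)
    (Localization.AtPrime p ⊗[S] R) (lamB lam (Localization.AtPrime p)).toRingEquiv hLinv hfixB
    hram
  haveI := hloc
  haveI := isIntegral_bc lam hlam hfix (Localization.AtPrime p)
  have hjac : Ring.jacobson (Localization.AtPrime p ⊗[S] R) =
      IsLocalRing.maximalIdeal (Localization.AtPrime p ⊗[S] R) := by
    rw [← Ideal.jacobson_bot, IsLocalRing.jacobson_eq_maximalIdeal ⊥ bot_ne_top]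
  refine ⟨(IsLocalRing.maximalIdeal (Localization.AtPrime p ⊗[S] R)).comap
    (algebraMap R (Localization.AtPrime p ⊗[S] R)), Ideal.comap_isPrime _ _, ?_, ?_⟩
  · intro r
    rw [Ideal.mem_comap, ← hjac]
    have := hram ((1 : Localization.AtPrime p) ⊗ₜ[S] r)
    rw [lamB_tmul, ← TensorProduct.tmul_sub] at this
    exact this
  · have h1 : ((IsLocalRing.maximalIdeal (Localization.AtPrime p ⊗[S] R)).comap
        (algebraMap R (Localization.AtPrime p ⊗[S] R))).comap (algebraMap S R) =
        ((IsLocalRing.maximalIdeal (Localization.AtPrime p ⊗[S] R)).comap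
          (algebraMap (Localization.AtPrime p) (Localization.AtPrime p ⊗[S] R))).comap
          (algebraMap S (Localization.AtPrime p)) := by
      rw [Ideal.comap_comap, Ideal.comap_comap]
      congr 1
      ext s
      exact Groth.Agent.Lib.R2LeadAzTOrdMain.algebraMap_tower (R := R) (Localization.AtPrime p) s
    have h2 : ((IsLocalRing.maximalIdeal (Localization.AtPrime p ⊗[S] R)).comap
        (algebraMap (Localization.AtPrime p) (Localization.AtPrime p ⊗[S] R))).IsMaximal :=
      Ideal.isMaximal_comap_of_isIntegral_of_isMaximal _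
    rw [h1, IsLocalRing.eq_maximalIdeal h2]
    exact IsLocalization.AtPrime.comap_maximalIdeal (Localization.AtPrime p) p

end RamPrime

section Casts

variable {S : Type u} {R : Type v} [CommRing S] [CommRing R] [Algebra S R] (lam : R ≃ₐ[S] R)
  {A : Type w} [Ring A] [Algebra S A] [Algebra R A] [IsScalarTower S R A] (t : LamInv R A lam)

theorem pieceAt_one_cast {k k' : ℕ} (h : k = k') (p : Ideal S) [p.IsPrime]
    (hP : PieceAt lam t k p (fun T _ _ u => u = 1)) :
    PieceAt lam t k' p (fun T _ _ u => u = 1) := by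
  subst h
  exact hP

theorem pieceAt_alt_cast {k k' : ℕ} (h : k = k') (p : Ideal S) [p.IsPrime]
    (hP : PieceAt lam t k p (fun T _ _ u => u = stdAlt k (T ⊗[S] R))) :
    PieceAt lam t k' p (fun T _ _ u => u = stdAlt k' (T ⊗[S] R)) := by
  subst h
  exact hP

/-- pieces of `A` give pieces of `M_m(A)` -/
theorem matPieceAt {n : ℕ} (m : ℕ) (p : Ideal S) [p.IsPrime]
    {Pred : ∀ (T : Type u) [CommRing T] [Algebra S T], Matrix (Fin n) (Fin n) (T ⊗[S] R) → Prop}
    {Pred' : ∀ (T : Type u) [CommRing T] [Algebra S T],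
      Matrix (Fin (m * n)) (Fin (m * n)) (T ⊗[S] R) → Prop}
    (h : ∀ (T : Type u) [CommRing T] [Algebra S T] (P : Piece lam t n T), Pred T P.u →
      Pred' T (matPiece P m).u)
    (hP : PieceAt lam t n p Pred) : PieceAt lam (t.matrix (Fin m)) (m * n) p Pred' := by
  obtain ⟨T, _, _, het, Q, hQp, hQ, P, hPu⟩ := hP
  exact ⟨T, inferInstance, inferInstance, het, Q, hQp, hQ, matPiece P m, h T P hPu⟩

theorem pieceAt_herm_of_one {k : ℕ} (p : Ideal S) [p.IsPrime]
    (h : PieceAt lam t k p (fun T _ _ u => u = 1)) :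
    PieceAt lam t k p (fun T _ _ u => lamTr (lamB lam T) u = u) := by
  refine pieceAt_mono lam t p ?_ h
  intro T _ _ u hu
  show lamTr (lamB lam T) u = u
  rw [hu, lamTr_one]

theorem pieceAt_skew_of_alt {k : ℕ} (p : Ideal S) [p.IsPrime]
    (h : PieceAt lam t k p (fun T _ _ u => u = stdAlt k (T ⊗[S] R))) :
    PieceAt lam t k p (fun T _ _ u => lamTr (lamB lam T) u = -u) := by
  refine pieceAt_mono lam t p ?_ h
  intro T _ _ u hu
  show lamTr (lamB lam T) u = -u
  rw [hu, lamTr_stdAlt]

end Casts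

section Main

theorem PhiG_diagonal_one {Ω : Type*} [CommRing Ω] (m n : ℕ) :
    PhiG (Ω := Ω) m n (Matrix.diagonal fun _ => (1 : Matrix (Fin n) (Fin n) Ω)) = 1 := by
  rw [Matrix.diagonal_one, map_one]

/-- S17361 -/
theorem main (S : Type u) (R : Type v) [CommRing S] [CommRing R] [Algebra S R]
    (lam : R ≃ₐ[S] R) (hlam : ∀ r, lam (lam r) = r) (hfix : RInv.IsFixedRing S R lam.toRingEquiv)
    (h2 : IsUnit (2 : S))
    (A : Type w) [Ring A] [Algebra S A] [Algebra R A] [IsScalarTower S R A]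
    (A' : Type w') [Ring A'] [Algebra S A'] [Algebra R A'] [IsScalarTower S R A']
    (n n' : ℕ) (hn : 0 < n) (hn' : 0 < n') (hA : AzInv.IsAzumayaDeg R A n)
    (hA' : AzInv.IsAzumayaDeg R A' n')
    (t : AzInv.LamInv R A lam) (t' : AzInv.LamInv R A' lam) :
    AzInv.SameType S lam t t' ↔
      ∀ q : PrimeSpectrum R, (∀ r : R, lam r - r ∈ q.asIdeal) →
        (Module.finrank q.asIdeal.ResidueField
            (Submodule.span q.asIdeal.ResidueField
              (Set.range fun a : {a : A // t a = a} =>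
                (1 : q.asIdeal.ResidueField) ⊗ₜ[R] (a : A))) = Nat.choose (n + 1) 2 ↔
          Module.finrank q.asIdeal.ResidueField
            (Submodule.span q.asIdeal.ResidueField
              (Set.range fun a : {a : A' // t' a = a} =>
                (1 : q.asIdeal.ResidueField) ⊗ₜ[R] (a : A'))) = Nat.choose (n' + 1) 2) := by
  haveI := hA.1
  haveI := hA'.1
  haveI : Module.Finite R A := inferInstance
  haveI : Module.Finite R A' := inferInstance
  have hsq : HasSqrtCovers S := hasSqrtCovers_of_isUnit_two S h2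
  -- signs from pieces
  have hB₁ : ∀ (q : PrimeSpectrum R), (∀ r : R, lam r - r ∈ q.asIdeal) →
      PieceAt lam t n (q.asIdeal.comap (algebraMap S R))
        (fun T _ _ u => lamTr (lamB lam T) u = u) →
      finrank q.asIdeal.ResidueField (symSpan t q.asIdeal.ResidueField) = Nat.choose (n + 1) 2 := by
    rintro q hq ⟨T, _, _, het, Q, hQp, hQ, P, hP⟩
    change lamTr (lamB lam T) P.u = P.u at hP
    haveI := hQp
    exact (finrank_symSpan_of_piece lam t h2 hn q.asIdeal hq Q hQ P 1
      (by rw [hP, one_smul])).1 rfl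
  have hB₂ : ∀ (q : PrimeSpectrum R), (∀ r : R, lam r - r ∈ q.asIdeal) →
      PieceAt lam t n (q.asIdeal.comap (algebraMap S R))
        (fun T _ _ u => lamTr (lamB lam T) u = -u) →
      finrank q.asIdeal.ResidueField (symSpan t q.asIdeal.ResidueField) ≠ Nat.choose (n + 1) 2 := by
    rintro q hq ⟨T, _, _, het, Q, hQp, hQ, P, hP⟩
    change lamTr (lamB lam T) P.u = -P.u at hP
    haveI := hQp
    exact (finrank_symSpan_of_piece lam t h2 hn q.asIdeal hq Q hQ P (-1)
      (by rw [hP, neg_smul, one_smul])).2 rfl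
  have hB₁' : ∀ (q : PrimeSpectrum R), (∀ r : R, lam r - r ∈ q.asIdeal) →
      PieceAt lam t' n' (q.asIdeal.comap (algebraMap S R))
        (fun T _ _ u => lamTr (lamB lam T) u = u) →
      finrank q.asIdeal.ResidueField (symSpan t' q.asIdeal.ResidueField) =
        Nat.choose (n' + 1) 2 := by
    rintro q hq ⟨T, _, _, het, Q, hQp, hQ, P, hP⟩
    change lamTr (lamB lam T) P.u = P.u at hP
    haveI := hQp
    exact (finrank_symSpan_of_piece lam t' h2 hn' q.asIdeal hq Q hQ P 1
      (by rw [hP, one_smul])).1 rfl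
  have hB₂' : ∀ (q : PrimeSpectrum R), (∀ r : R, lam r - r ∈ q.asIdeal) →
      PieceAt lam t' n' (q.asIdeal.comap (algebraMap S R))
        (fun T _ _ u => lamTr (lamB lam T) u = -u) →
      finrank q.asIdeal.ResidueField (symSpan t' q.asIdeal.ResidueField) ≠
        Nat.choose (n' + 1) 2 := by
    rintro q hq ⟨T, _, _, het, Q, hQp, hQ, P, hP⟩
    change lamTr (lamB lam T) P.u = -P.u at hP
    haveI := hQp
    exact (finrank_symSpan_of_piece lam t' h2 hn' q.asIdeal hq Q hQ P (-1)
      (by rw [hP, neg_smul, one_smul])).2 rfl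
  constructor
  · intro hsame q hq
    haveI : (q.asIdeal.comap (algebraMap S R)).IsPrime := Ideal.comap_isPrime _ _
    show finrank q.asIdeal.ResidueField (symSpan t q.asIdeal.ResidueField) = Nat.choose (n + 1) 2 ↔
      finrank q.asIdeal.ResidueField (symSpan t' q.asIdeal.ResidueField) = Nat.choose (n' + 1) 2
    rcases exists_herm_or_skew lam hlam hfix t h2 hn hA (q.asIdeal.comap (algebraMap S R)) with
      h₁ | ⟨hram, h₁⟩
    · rcases exists_herm_or_skew lam hlam hfix t' h2 hn' hA' (q.asIdeal.comap (algebraMap S R))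
        with h₂ | ⟨hram, h₂⟩
      · exact ⟨fun _ => hB₁' q hq h₂, fun _ => hB₁ q hq h₁⟩
      · exact (mixed_false lam hlam hfix t t' h2 hn _ hram h₁ h₂ hsame).elim
    · rcases exists_herm_or_skew lam hlam hfix t' h2 hn' hA' (q.asIdeal.comap (algebraMap S R))
        with h₂ | ⟨-, h₂⟩
      · exact (mixed_false lam hlam hfix t' t h2 hn' _ hram h₂ h₁
          (sameType_symm lam t t' hsame)).elim
      · exact ⟨fun h => absurd h (hB₂ q hq h₁), fun h => absurd h (hB₂' q hq h₂)⟩
  · intro hsign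
    refine ⟨n', n, hn', hn, ?_⟩
    refine locIsoEt_of_forall_locIsoAt lam (t.matrix (Fin n')) (t'.matrix (Fin n)) (fun p => ?_)
    have hone : PieceAt lam t n p.asIdeal (fun T _ _ u => u = 1) →
        PieceAt lam t' n' p.asIdeal (fun T _ _ u => u = 1) →
        LocIsoAt lam (t.matrix (Fin n')) (t'.matrix (Fin n)) p.asIdeal := by
      intro h₁ h₂
      have k₁ : PieceAt lam (t.matrix (Fin n')) (n' * n) p.asIdeal (fun T _ _ u => u = 1) :=
        matPieceAt lam t n' p.asIdeal (fun T _ _ P hP => by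
          show (matPiece P n').u = 1
          rw [matPiece_u, hP, PhiG_diagonal_one]) h₁
      have k₂ : PieceAt lam (t'.matrix (Fin n)) (n * n') p.asIdeal (fun T _ _ u => u = 1) :=
        matPieceAt lam t' n p.asIdeal (fun T _ _ P hP => by
          show (matPiece P n).u = 1
          rw [matPiece_u, hP, PhiG_diagonal_one]) h₂
      exact locIsoAt_of_pieceAt lam _ _ p.asIdeal (fun T _ _ => 1) predStable_one k₁
        (pieceAt_one_cast lam _ (mul_comm n n') p.asIdeal k₂)
    have halt : RamOver lam (Localization.AtPrime p.asIdeal) →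
        PieceAt lam t n p.asIdeal (fun T _ _ u => u = stdAlt n (T ⊗[S] R)) →
        PieceAt lam t' n' p.asIdeal (fun T _ _ u => u = stdAlt n' (T ⊗[S] R)) →
        LocIsoAt lam (t.matrix (Fin n')) (t'.matrix (Fin n)) p.asIdeal := by
      intro hram h₁ h₂
      have k₁ : PieceAt lam (t.matrix (Fin n')) (n' * n) p.asIdeal
          (fun T _ _ u => lamTr (lamB lam T) u = -u) :=
        matPieceAt lam t n' p.asIdeal (fun T _ _ P hP => by
          show lamTr (lamB lam T) (matPiece P n').u = -(matPiece P n').u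
          apply matPiece_skew
          rw [hP, lamTr_stdAlt]) h₁
      have k₂ : PieceAt lam (t'.matrix (Fin n)) (n * n') p.asIdeal
          (fun T _ _ u => lamTr (lamB lam T) u = -u) :=
        matPieceAt lam t' n p.asIdeal (fun T _ _ P hP => by
          show lamTr (lamB lam T) (matPiece P n).u = -(matPiece P n).u
          apply matPiece_skew
          rw [hP, lamTr_stdAlt]) h₂
      obtain ⟨-, j₁⟩ := exists_alt_piece_of_skew lam hlam hfix (t.matrix (Fin n')) h2 hsq
        p.asIdeal hram k₁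
      obtain ⟨-, j₂⟩ := exists_alt_piece_of_skew lam hlam hfix (t'.matrix (Fin n)) h2 hsq
        p.asIdeal hram k₂
      exact locIsoAt_of_pieceAt lam _ _ p.asIdeal (fun T _ _ => stdAlt (n' * n) (T ⊗[S] R))
        predStable_alt j₁ (pieceAt_alt_cast lam _ (mul_comm n n') p.asIdeal j₂)
    rcases classify lam hlam hfix t h2 hsq hn hA p.asIdeal with h₁ | ⟨hram, -, h₁⟩
    · rcases classify lam hlam hfix t' h2 hsq hn' hA' p.asIdeal with h₂ | ⟨hram, -, h₂⟩
      · exact hone h₁ h₂
      · exfalso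
        obtain ⟨𝔮, h𝔮p, h𝔮ram, h𝔮⟩ := exists_ramified_prime lam hlam hfix p.asIdeal hram
        have hs := hsign ⟨𝔮, h𝔮p⟩ h𝔮ram
        have e1 := hB₁ ⟨𝔮, h𝔮p⟩ h𝔮ram (by
          show PieceAt lam t n (𝔮.comap (algebraMap S R)) _
          rw [h𝔮]
          exact pieceAt_herm_of_one lam t p.asIdeal h₁)
        have e2 := hB₂' ⟨𝔮, h𝔮p⟩ h𝔮ram (by
          show PieceAt lam t' n' (𝔮.comap (algebraMap S R)) _
          rw [h𝔮]
          exact pieceAt_skew_of_alt lam t' p.asIdeal h₂)
        exact e2 (hs.1 e1)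
    · rcases classify lam hlam hfix t' h2 hsq hn' hA' p.asIdeal with h₂ | ⟨-, -, h₂⟩
      · exfalso
        obtain ⟨𝔮, h𝔮p, h𝔮ram, h𝔮⟩ := exists_ramified_prime lam hlam hfix p.asIdeal hram
        have hs := hsign ⟨𝔮, h𝔮p⟩ h𝔮ram
        have e1 := hB₂ ⟨𝔮, h𝔮p⟩ h𝔮ram (by
          show PieceAt lam t n (𝔮.comap (algebraMap S R)) _
          rw [h𝔮]
          exact pieceAt_skew_of_alt lam t p.asIdeal h₁)
        have e2 := hB₁' ⟨𝔮, h𝔮p⟩ h𝔮ram (by
          show PieceAt lam t' n' (𝔮.comap (algebraMap S R)) _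
          rw [h𝔮]
          exact pieceAt_herm_of_one lam t' p.asIdeal h₂)
        exact e1 (hs.2 e2)
      · exact halt hram h₁ h₂

end Main

end Groth.Agent.Lib.R2LeadAzTSignMain
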