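import Mathlib
import Groth.Agent.Lib.R2LeadAzInner
import Groth.Agent.Lib.R2LeadInvForms

/-!
# Automorphisms of Azumaya algebras with involution are locally unitary conjugations (lead)
-/

set_option autoImplicit false

namespace Groth.Agent.Lib.R2LeadAzUnitary

open TensorProduct MulOpposite Module LinearMap
open Groth.Agent.Lib.R2LeadAzInner
open Groth.Agent.Lib.R2LeadAzGlobalSplit (pi_faithfullyFlat smul_top_ne_top)
open Groth.Agent.Lib.R2LeadInvForms (HasSqrtCovers exists_sqrt_cover)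

universe u v w

section Local

variable {S : Type u} {R : Type v} [CommRing S] [CommRing R] [Algebra S R]
  (lam : R ≃ₐ[S] R) (hlam : ∀ r, lam (lam r) = r) (hfix : RInv.IsFixedRing S R lam.toRingEquiv)
  {A : Type w} [Ring A] [Algebra S A] [Algebra R A] [IsScalarTower S R A] [IsAzumaya R A]
  (t : AzInv.LamInv R A lam) (ψ : A ≃ₐ[R] A) (hψ : AzInv.IsInvHom t t ψ)

include hlam hfix hψ in
theorem exists_local_unitary (q : Ideal S) [q.IsPrime] :
    ∃ (c c' : A) (s s₀ nw : S), s ∉ q ∧ (∀ a, ψ a * c = c * a) ∧ c * c' = s • (1 : A) ∧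
      c' * c = s • (1 : A) ∧ t c * c = s₀ • (1 : A) ∧ s₀ * s₀ * nw = (s * s) * (s * s) := by
  have hinv : Function.Involutive lam.toRingEquiv := hlam
  obtain ⟨c, c', s, hs, hconj, h1, h2⟩ := exists_local lam hlam hfix ψ q
  obtain ⟨v, hv⟩ := exists_v (R := R) (A := A)
  -- `z = t c * c` is central
  have hcen : ∀ a, (t c * c) * a = a * (t c * c) := by
    intro a
    have h3 : t c * ψ a = a * t c := by
      have h4 : t (ψ a) * c = c * t a := by
        rw [← hψ a]; exact hconj (t a)
      have h5 := congrArg t h4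
      rwa [t.map_mul, t.map_mul, t.invol, t.invol] at h5
    rw [mul_assoc, ← hconj a, ← mul_assoc, h3, mul_assoc]
  obtain ⟨r, hr⟩ : ∃ r : R, t c * c = r • (1 : A) := ⟨_, central_eq v hv _ hcen⟩
  have hsmul1 : ∀ x : R, v (x • (1 : A)) = x := fun x => by
    rw [map_smul, hv, smul_eq_mul, mul_one]
  have htz : t (t c * c) = t c * c := by rw [t.map_mul, t.invol]
  have hrfix : lam r = r := by
    rw [hr, t.map_smul, t.map_one] at htz
    have := congrArg v htz
    rwa [hsmul1, hsmul1] at this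
  obtain ⟨s₀, hs₀⟩ := (hfix.2 r).mp hrfix
  have hs₀' : algebraMap S R s₀ = r := hs₀
  obtain ⟨w, hw⟩ : ∃ w, w = v (c' * t c') := ⟨_, rfl⟩
  have hts : ∀ x : S, t (x • (1 : A)) = x • (1 : A) := by
    intro x
    rw [← algebraMap_smul R x (1 : A), t.map_smul, t.map_one, AlgEquiv.commutes]
  have h6 : r • (c' * t c') = (algebraMap S R (s * s)) • (1 : A) := by
    calc r • (c' * t c') = (t c * c) * (c' * t c') := by rw [hr, smul_mul_assoc, one_mul]
      _ = t c * (c * c') * t c' := by simp only [mul_assoc]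
      _ = s • (t c * t c') := by rw [h1, mul_smul_comm, mul_one, smul_mul_assoc]
      _ = s • t (c' * c) := by rw [t.map_mul]
      _ = s • (s • (1 : A)) := by rw [h2, hts]
      _ = (algebraMap S R (s * s)) • (1 : A) := by rw [algebraMap_smul, mul_smul]
  have h7 : r * w = algebraMap S R (s * s) := by
    have := congrArg v h6
    rwa [map_smul, ← hw, smul_eq_mul, hsmul1] at this
  obtain ⟨nw, hnw⟩ := Groth.Agent.Lib.R2H7.InvolHensel.exists_norm lam.toRingEquiv hinv hfix w
  have hnw' : algebraMap S R nw = w * lam w := hnw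
  refine ⟨c, c', s, s₀, nw, hs, hconj, h1, h2, ?_, ?_⟩
  · rw [hr, ← hs₀', algebraMap_smul]
  · apply hfix.1
    rw [map_mul, map_mul, hs₀', hnw', map_mul (algebraMap S R) (s * s) (s * s)]
    have h8 : lam (r * w) = algebraMap S R (s * s) := by rw [h7, AlgEquiv.commutes]
    rw [map_mul, hrfix] at h8
    calc r * r * (w * lam w) = (r * w) * (r * lam w) := by ring
      _ = _ := by rw [h7, h8]

end Local

section PiSum

variable (S : Type*) [CommRing S] {ι : Type*} [Fintype ι] [DecidableEq ι] (T : ι → Type*)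
  [∀ i, CommRing (T i)] [∀ i, Algebra S (T i)] {A : Type*} [Ring A] [Algebra S A]

/-- block-diagonal elements of `(Π T i) ⊗ A` -/
noncomputable def W (f : ∀ i, T i) (x : ι → A) : (∀ i, T i) ⊗[S] A :=
  ∑ i, Pi.single i (f i) ⊗ₜ[S] x i

theorem single_mul_single_of_ne {i j : ι} (hij : i ≠ j) (a : T i) (b : T j) :
    (Pi.single i a : ∀ i, T i) * Pi.single j b = 0 := by
  rw [← Pi.single_mul_left, Pi.single_eq_of_ne hij, mul_zero, Pi.single_zero]

theorem W_mul (f g : ∀ i, T i) (x x' : ι → A) :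
    W S T f x * W S T g x' = W S T (fun i => f i * g i) (fun i => x i * x' i) := by
  unfold W
  rw [Finset.sum_mul_sum]
  refine Finset.sum_congr rfl fun i _ => ?_
  rw [Finset.sum_eq_single i]
  · rw [Algebra.TensorProduct.tmul_mul_tmul, ← Pi.single_mul]
  · intro j _ hji
    rw [Algebra.TensorProduct.tmul_mul_tmul, single_mul_single_of_ne T (Ne.symm hji),
      TensorProduct.zero_tmul]
  · intro h; exact absurd (Finset.mem_univ _) h

theorem W_smul_one (f : ∀ i, T i) (σ : ι → S) :
    W S T f (fun i => σ i • (1 : A)) =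
      W S T (fun i => algebraMap S (T i) (σ i) * f i) (fun _ => (1 : A)) := by
  unfold W
  refine Finset.sum_congr rfl fun i _ => ?_
  rw [TensorProduct.tmul_smul, TensorProduct.smul_tmul', ← Pi.single_smul, Algebra.smul_def]

theorem W_one : W S T (fun _ => 1) (fun _ => (1 : A)) = 1 := by
  unfold W
  rw [← TensorProduct.sum_tmul]
  have : ∑ i, (Pi.single i (1 : T i) : ∀ i, T i) = 1 :=
    Finset.univ_sum_single (1 : ∀ i, T i)
  rw [this]
  rfl

end PiSum

section Main

variable {S : Type u} {R : Type v} [CommRing S] [CommRing R] [Algebra S R]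
  (lam : R ≃ₐ[S] R) (hlam : ∀ r, lam (lam r) = r) (hfix : RInv.IsFixedRing S R lam.toRingEquiv)
  (hsq : HasSqrtCovers S)
  {A : Type w} [Ring A] [Algebra S A] [Algebra R A] [IsScalarTower S R A] [IsAzumaya R A]
  (t : AzInv.LamInv R A lam) (ψ : A ≃ₐ[R] A) (hψ : AzInv.IsInvHom t t ψ)

include hlam hfix hsq hψ in
theorem per_q (q : PrimeSpectrum S) :
    ∃ (c c' : A) (s s₀ : S) (T : Type u) (_ : CommRing T) (_ : Algebra S T)
      (_ : Algebra.Etale S T) (_ : Module.Flat S T) (y yi si : T),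
      (∀ m : Ideal S, m.IsMaximal → s ∉ m → m • (⊤ : Submodule S T) ≠ ⊤) ∧
      s ∉ q.asIdeal ∧ (∀ a, ψ a * c = c * a) ∧ c * c' = s • (1 : A) ∧ c' * c = s • (1 : A) ∧
      t c * c = s₀ • (1 : A) ∧ y * y = algebraMap S T s₀ ∧ y * yi = 1 ∧
      algebraMap S T s * si = 1 := by
  obtain ⟨c, c', s, s₀, nw, hs, hconj, h1, h2, h3, h4⟩ :=
    exists_local_unitary lam hlam hfix t ψ hψ q.asIdeal
  have hsu : IsUnit (algebraMap S (Localization.Away s) s) :=
    IsLocalization.Away.algebraMap_isUnit s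
  have hs₀u : IsUnit (algebraMap S (Localization.Away s) s₀) := by
    have h5 := congrArg (algebraMap S (Localization.Away s)) h4
    simp only [map_mul] at h5
    have h6 : IsUnit (algebraMap S (Localization.Away s) s₀ *
        (algebraMap S (Localization.Away s) s₀ * algebraMap S (Localization.Away s) nw)) := by
      rw [← mul_assoc, h5]
      exact (hsu.mul hsu).mul (hsu.mul hsu)
    exact isUnit_of_mul_isUnit_left h6
  obtain ⟨T, _, _, _, _, hEt, -, hff, y, hy⟩ :=
    exists_sqrt_cover hsq 1 (Localization.Away s) (fun _ => hs₀u.unit)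
  have hy0 : y 0 * y 0 = algebraMap S T s₀ := by
    rw [hy 0, IsUnit.unit_spec, ← IsScalarTower.algebraMap_apply]
  have hyu : IsUnit (y 0) := by
    have : IsUnit (algebraMap S T s₀) := by
      rw [IsScalarTower.algebraMap_apply S (Localization.Away s) T]
      exact hs₀u.map _
    rw [← hy0] at this
    exact isUnit_of_mul_isUnit_left this
  have hsT : IsUnit (algebraMap S T s) := by
    rw [IsScalarTower.algebraMap_apply S (Localization.Away s) T]
    exact hsu.map _
  obtain ⟨yi, hyi⟩ := hyu.exists_right_inv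
  obtain ⟨si, hsi⟩ := hsT.exists_right_inv
  haveI : Module.Flat S T := Module.Flat.trans S (Localization.Away s) T
  refine ⟨c, c', s, s₀, T, inferInstance, inferInstance, hEt, inferInstance, y 0, yi, si,
    ?_, hs, hconj, h1, h2, h3, hy0, hyi, hsi⟩
  intro m hm hsm
  exact smul_top_ne_top S (R' := T) m hm hsm

include hlam hfix hsq hψ in
theorem main' :
    ∃ (S' : Type u) (_ : CommRing S') (_ : Algebra S S') (_ : Algebra.Etale S S')
      (_ : Module.FaithfullyFlat S S') (u : (S' ⊗[S] A)ˣ),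
      t.bc S lam S' (↑u : S' ⊗[S] A) * ↑u = 1 ∧
        ∀ x : S' ⊗[S] A,
          Algebra.TensorProduct.congr (AlgEquiv.refl : S' ≃ₐ[S'] S') (ψ.restrictScalars S) x =
            ↑u * x * ↑u⁻¹ := by
  classical
  choose c c' s s₀ T i1 i2 hEt hFlat y yi si hmax hs hconj h1 h2 h3 hy hyi hsi using
    per_q lam hlam hfix hsq t ψ hψ
  let V : PrimeSpectrum S → Set (PrimeSpectrum S) := fun q => PrimeSpectrum.basicOpen (s q)
  have hVopen : ∀ q, IsOpen (V q) := fun q => (PrimeSpectrum.basicOpen (s q)).isOpen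
  obtain ⟨F, hF⟩ := isCompact_univ.elim_finite_subcover V hVopen (fun q _ =>
    Set.mem_iUnion.2 ⟨q, hs q⟩)
  let ι := {q : PrimeSpectrum S // q ∈ F}
  let TT : ι → Type u := fun i => T i.1
  haveI : ∀ i : ι, Algebra.Etale S (TT i) := fun i => hEt i.1
  haveI : ∀ i : ι, Module.Flat S (TT i) := fun i => hFlat i.1
  have hff : Module.FaithfullyFlat S (∀ i, TT i) := by
    apply pi_faithfullyFlat
    intro m hm
    have hmem : (⟨m, hm.isPrime⟩ : PrimeSpectrum S) ∈ ⋃ q ∈ F, V q := hF (Set.mem_univ _)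
    simp only [Set.mem_iUnion] at hmem
    obtain ⟨q, hqF, hq⟩ := hmem
    exact ⟨⟨q, hqF⟩, hmax q m hm hq⟩
  obtain ⟨U, hU⟩ : ∃ U : (∀ i, TT i) ⊗[S] A, U = W S TT (fun i => yi i.1) (fun i => c i.1) :=
    ⟨_, rfl⟩
  obtain ⟨U', hU'⟩ : ∃ U' : (∀ i, TT i) ⊗[S] A,
      U' = W S TT (fun i => y i.1 * si i.1) (fun i => c' i.1) := ⟨_, rfl⟩
  have hUU' : U * U' = 1 := by
    rw [hU, hU', W_mul S TT]
    have : (fun i : ι => c i.1 * c' i.1) = fun i : ι => s i.1 • (1 : A) := funext fun i => h1 i.1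
    rw [this, W_smul_one S TT, ← W_one S TT (A := A)]
    congr 1
    funext i
    show algebraMap S (T i.1) (s i.1) * (yi i.1 * (y i.1 * si i.1)) = 1
    calc algebraMap S (T i.1) (s i.1) * (yi i.1 * (y i.1 * si i.1))
        = (y i.1 * yi i.1) * (algebraMap S (T i.1) (s i.1) * si i.1) := by ring
      _ = 1 := by rw [hyi, hsi, one_mul]
  have hU'U : U' * U = 1 := by
    rw [hU, hU', W_mul S TT]
    have : (fun i : ι => c' i.1 * c i.1) = fun i : ι => s i.1 • (1 : A) := funext fun i => h2 i.1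
    rw [this, W_smul_one S TT, ← W_one S TT (A := A)]
    congr 1
    funext i
    show algebraMap S (T i.1) (s i.1) * (y i.1 * si i.1 * yi i.1) = 1
    calc algebraMap S (T i.1) (s i.1) * (y i.1 * si i.1 * yi i.1)
        = (y i.1 * yi i.1) * (algebraMap S (T i.1) (s i.1) * si i.1) := by ring
      _ = 1 := by rw [hyi, hsi, one_mul]
  refine ⟨∀ i, TT i, inferInstance, inferInstance, inferInstance, hff, ⟨U, U', hUU', hU'U⟩,
    ?_, ?_⟩
  · show t.bc S lam (∀ i, TT i) U * U = 1
    have htU : t.bc S lam (∀ i, TT i) U = W S TT (fun i => yi i.1) (fun i => t (c i.1)) := by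
      rw [hU]
      unfold W
      rw [map_sum]
      refine Finset.sum_congr rfl fun i _ => ?_
      rw [AzInv.LamInv.bc_tmul]
    rw [htU, hU, W_mul S TT]
    have : (fun i : ι => t (c i.1) * c i.1) = fun i : ι => s₀ i.1 • (1 : A) :=
      funext fun i => h3 i.1
    rw [this, W_smul_one S TT, ← W_one S TT (A := A)]
    congr 1
    funext i
    show algebraMap S (T i.1) (s₀ i.1) * (yi i.1 * yi i.1) = 1
    rw [← hy i.1]
    calc y i.1 * y i.1 * (yi i.1 * yi i.1) = (y i.1 * yi i.1) * (y i.1 * yi i.1) := by ring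
      _ = 1 := by rw [hyi, one_mul]
  · intro x
    have key : Algebra.TensorProduct.congr
        (AlgEquiv.refl : (∀ i, TT i) ≃ₐ[∀ i, TT i] (∀ i, TT i))
        (ψ.restrictScalars S) x * U = U * x := by
      induction x using TensorProduct.induction_on with
      | zero => simp
      | add x y hx hy => rw [map_add, add_mul, hx, hy, mul_add]
      | tmul a b =>
        rw [Algebra.TensorProduct.congr_apply, Algebra.TensorProduct.map_tmul, hU]
        unfold W
        rw [Finset.mul_sum, Finset.sum_mul]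
        refine Finset.sum_congr rfl fun i _ => ?_
        rw [Algebra.TensorProduct.tmul_mul_tmul, Algebra.TensorProduct.tmul_mul_tmul]
        have : (ψ.restrictScalars S : A →ₐ[S] A) b = ψ b := rfl
        rw [this, hconj, mul_comm]
        rfl
    show _ = U * x * U'
    rw [← key, mul_assoc, hUU', mul_one]

end Main

theorem main (S : Type u) (R : Type v) [CommRing S] [CommRing R] [Algebra S R]
    (lam : R ≃ₐ[S] R) (hlam : ∀ r, lam (lam r) = r) (hfix : RInv.IsFixedRing S R lam.toRingEquiv)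
    (hsq : ∀ (S₁ : Type u) [CommRing S₁] [Algebra S S₁] [Algebra.Etale S S₁] (x : S₁ˣ),
      ∃ (S₂ : Type u) (_ : CommRing S₂) (_ : Algebra S₁ S₂) (_ : Algebra.Etale S₁ S₂)
        (_ : Module.FaithfullyFlat S₁ S₂) (y : S₂), y * y = algebraMap S₁ S₂ ↑x)
    (A : Type w) [Ring A] [Algebra S A] [Algebra R A] [IsScalarTower S R A]
    (n : ℕ) (hn : 0 < n) (hA : AzInv.IsAzumayaDeg R A n) (t : AzInv.LamInv R A lam)
    (ψ : A ≃ₐ[R] A) (hψ : AzInv.IsInvHom t t ψ) :
    ∃ (S' : Type u) (_ : CommRing S') (_ : Algebra S S') (_ : Algebra.Etale S S')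
      (_ : Module.FaithfullyFlat S S') (u : (S' ⊗[S] A)ˣ),
      t.bc S lam S' (↑u : S' ⊗[S] A) * ↑u = 1 ∧
        ∀ x : S' ⊗[S] A,
          Algebra.TensorProduct.congr (AlgEquiv.refl : S' ≃ₐ[S'] S') (ψ.restrictScalars S) x =
            ↑u * x * ↑u⁻¹ := by
  haveI := hA.1
  exact main' lam hlam hfix hsq t ψ hψ

end Groth.Agent.Lib.R2LeadAzUnitary
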