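import Groth.Agent.Lib.Helper13QcqsBC

set_option autoImplicit false
set_option linter.style.haveILetI false
universe u
open CategoryTheory CategoryTheory.Limits AlgebraicGeometry Opposite

namespace Groth.Agent.Lib.R2LeadBCSysA

open Scheme.Modules Groth.Agent.Helper13AffBC Groth.Agent.Helper13QcqsBC

section
variable {X S X' S' : Scheme.{u}} (f : X ⟶ S) (g : S' ⟶ S) (g' : X' ⟶ X) (f' : X' ⟶ S')
  (h : IsPullback g' f' f g)

theorem vMap_naturality {F F' : X.Modules} (φ : F ⟶ F') :
    (pushforward f).map φ ≫ vMap f g g' f' h F' =
      vMap f g g' f' h F ≫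
        (pushforward g).map ((pushforward f').map ((Scheme.Modules.pullback g').map φ)) := by
  unfold vMap
  have h1 := (pullbackPushforwardAdjunction g').unit.naturality φ
  have h2 := (pushforwardComp g' f).hom.naturality ((Scheme.Modules.pullback g').map φ)
  have h3 := (pushforwardCongr h.w).hom.naturality ((Scheme.Modules.pullback g').map φ)
  have h4 := (pushforwardComp f' g).inv.naturality ((Scheme.Modules.pullback g').map φ)
  simp only [Functor.id_obj, Functor.id_map, Functor.comp_obj, Functor.comp_map] at h1 h2 h3 h4
  simp only [Category.assoc]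
  rw [← Functor.map_comp_assoc, h1, Functor.map_comp_assoc, reassoc_of% h2, reassoc_of% h3, h4]

theorem bcMap_naturality {F F' : X.Modules} (φ : F ⟶ F') :
    (Scheme.Modules.pullback g).map ((pushforward f).map φ) ≫ bcMap f g g' f' h F' =
      bcMap f g g' f' h F ≫ (pushforward f').map ((Scheme.Modules.pullback g').map φ) := by
  unfold bcMap
  rw [← Adjunction.homEquiv_naturality_left_symm, ← Adjunction.homEquiv_naturality_right_symm,
    vMap_naturality]

/-- flat base change for a system of quasi-coherent modules. -/
noncomputable def bcIso [QuasiCompact f] [QuasiSeparated f] [Flat g] {J : Type*} [Category J]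
    (G : J ⥤ X.Modules) (hG : ∀ n, (G.obj n).IsQuasicoherent) :
    (G ⋙ pushforward f) ⋙ Scheme.Modules.pullback g ≅
      (G ⋙ Scheme.Modules.pullback g') ⋙ pushforward f' :=
  NatIso.ofComponents (fun n =>
    haveI := hG n
    haveI := isIso_bcMap_of_flat f g g' f' h (G.obj n)
    asIso (bcMap f g g' f' h (G.obj n)))
    (fun a => bcMap_naturality f g g' f' h (G.map a))

end

end Groth.Agent.Lib.R2LeadBCSysA
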