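import Groth.Agent.Lib.R2LeadBCSysA
import Groth.Agent.Lib.R2LeadAlgzA
import Groth.Agent.Lib.Helper20FormalPull
import Groth.Agent.Lib.Helper23TensorQCoh

set_option autoImplicit false
set_option linter.style.haveILetI false
universe u
open CategoryTheory CategoryTheory.Limits AlgebraicGeometry Opposite

namespace Groth.Agent.Lib.R2LeadBCSysB

open Groth.Agent.Lib.R2LeadBCSysA Groth.Agent.Lib.R2LeadAlgzA

section tilde
variable {R : Type u} [CommRing R]

/-- on systems of quasi-coherent modules over an affine scheme, "sections, then tilde" is the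
identity. -/
noncomputable def tildeΓIso {J : Type*} [Category J] (H : J ⥤ (Spec (CommRingCat.of R)).Modules)
    (hH : ∀ n, (H.obj n).IsQuasicoherent) :
    H ⋙ moduleSpecΓFunctor (R := CommRingCat.of R) ⋙ tilde.functor (CommRingCat.of R) ≅ H := by
  have key : ∀ n, IsIso ((Functor.whiskerLeft H
      (Scheme.Modules.fromTildeΓNatTrans (R := CommRingCat.of R))).app n) := by
    intro n
    haveI := hH n
    rw [Functor.whiskerLeft_app]
    exact isIso_fromTildeΓNatTrans_app _
  haveI : IsIso (Functor.whiskerLeft H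
      (Scheme.Modules.fromTildeΓNatTrans (R := CommRingCat.of R))) :=
    @NatIso.isIso_of_isIso_app _ _ _ _ _ _ _ key
  exact asIso (Functor.whiskerLeft H
      (Scheme.Modules.fromTildeΓNatTrans (R := CommRingCat.of R))) ≪≫ Functor.rightUnitor H

end tilde

section bc
variable (A : Type u) [CommRing A] (A' : Type u) [CommRing A'] [Algebra A A']

/-- `Spec A' ⟶ Spec A` -/
noncomputable abbrev gmap : Spec (CommRingCat.of A') ⟶ Spec (CommRingCat.of A) :=
  Spec.map (CommRingCat.ofHom (algebraMap A A'))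

instance flat_gmap [Module.Flat A A'] : Flat (gmap A A') := by
  rw [Flat.SpecMap_iff]
  exact (RingHom.flat_algebraMap_iff).2 inferInstance

variable {A} [Module.Flat A A'] (U : (Spec (CommRingCat.of A)).Opens) [QuasiCompact U.ι]

/-- flat base change for the system of sections over an open of `Spec A`. -/
noncomputable def sectSysPullbackIso (G : ℕᵒᵖ ⥤ (U : Scheme.{u}).Modules)
    (hG : ∀ n, (G.obj n).IsQuasicoherent) :
    Algz.sectSys A U G ⋙ Scheme.Modules.pullback (gmap A A') ≅
      Algz.sectSys A' (gmap A A' ⁻¹ᵁ U)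
        (G ⋙ Scheme.Modules.pullback (gmap A A' ∣_ U)) := by
  have hq1 : ∀ n, ((G ⋙ Scheme.Modules.pushforward U.ι).obj n).IsQuasicoherent := fun n => by
    haveI := hG n
    exact Groth.Agent.Lib.Helper23.QCohLocal.isQuasicoherent_pushforward U.ι (G.obj n)
  let bc := bcIso U.ι (gmap A A') (gmap A A' ∣_ U) (gmap A A' ⁻¹ᵁ U).ι
    (isPullback_morphismRestrict (gmap A A') U) G hG
  have hq2 : ∀ n, (((G ⋙ Scheme.Modules.pullback (gmap A A' ∣_ U)) ⋙
      Scheme.Modules.pushforward (gmap A A' ⁻¹ᵁ U).ι).obj n).IsQuasicoherent := fun n => by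
    haveI := hq1 n
    haveI : ((Scheme.Modules.pullback (gmap A A')).obj
        ((G ⋙ Scheme.Modules.pushforward U.ι).obj n)).IsQuasicoherent :=
      Groth.Agent.Lib.Helper20.PullbackAff.isQuasicoherent_pullback (gmap A A') _
    exact Groth.Agent.Lib.Helper23.TensorQCoh.isQuasicoherent_of_iso
      (M := (Scheme.Modules.pullback (gmap A A')).obj
        ((G ⋙ Scheme.Modules.pushforward U.ι).obj n)) (bc.app n)
  exact Functor.isoWhiskerRight (tildeΓIso (G ⋙ Scheme.Modules.pushforward U.ι) hq1)
      (Scheme.Modules.pullback (gmap A A')) ≪≫ bc ≪≫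
    (tildeΓIso ((G ⋙ Scheme.Modules.pullback (gmap A A' ∣_ U)) ⋙
      Scheme.Modules.pushforward (gmap A A' ⁻¹ᵁ U).ι) hq2).symm

end bc

end Groth.Agent.Lib.R2LeadBCSysB
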