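import Groth.Agent.Lib.R2LeadBCSysB
import Groth.Agent.Lib.R2H2IdealMul
import Groth.Agent.Lib.R2H2FibreCoh

set_option autoImplicit false
set_option linter.style.haveILetI false
universe u
open CategoryTheory CategoryTheory.Limits AlgebraicGeometry Opposite

namespace Groth.Agent.Lib.R2LeadBCSysC

open Groth.Agent.Lib.R2LeadBCSysA Groth.Agent.Lib.R2LeadBCSysB Groth.Agent.Lib.R2LeadAlgzA

/-- two maps into `M` with the same annihilating maps have the same cokernels. -/
theorem isIso_cokernelDesc_of_same_annihilators {C : Type*} [Category C] [HasZeroMorphisms C]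
    {S0 S' M N : C} (s0 : S0 ⟶ M) (s' : S' ⟶ M) [HasCokernel s0] [HasCokernel s']
    (hiff : ∀ {T : C} (q : M ⟶ T), s0 ≫ q = 0 ↔ s' ≫ q = 0)
    (t : M ⟶ N) (h0 : s0 ≫ t = 0) (hiso : IsIso (cokernel.desc s0 t h0)) :
    IsIso (cokernel.desc s' t ((hiff t).1 h0)) := by
  let a : cokernel s' ⟶ cokernel s0 :=
    cokernel.desc s' (cokernel.π s0) ((hiff _).1 (cokernel.condition s0))
  let b : cokernel s0 ⟶ cokernel s' :=
    cokernel.desc s0 (cokernel.π s') ((hiff _).2 (cokernel.condition s'))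
  have hab : a ≫ b = 𝟙 _ := by
    apply coequalizer.hom_ext
    simp [a, b]
  have hba : b ≫ a = 𝟙 _ := by
    apply coequalizer.hom_ext
    simp [a, b]
  haveI : IsIso a := ⟨⟨b, hab, hba⟩⟩
  have hfac : cokernel.desc s' t ((hiff t).1 h0) = a ≫ cokernel.desc s0 t h0 := by
    apply coequalizer.hom_ext
    simp [a]
  rw [hfac]
  infer_instance

section ringchange
variable {A A' : Type u} [CommRing A] [CommRing A'] [Algebra A A'] {X : Scheme.{u}}
  [X.Over (Spec (CommRingCat.of A))] [X.Over (Spec (CommRingCat.of A'))]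
  (hov : (X ↘ Spec (CommRingCat.of A)) = (X ↘ Spec (CommRingCat.of A')) ≫ gmap A A')

include hov in
theorem toGlobal_algebraMap (a : A) :
    Coh.toGlobal (X ↘ Spec (CommRingCat.of A')) (algebraMap A A' a) =
      Coh.toGlobal (X ↘ Spec (CommRingCat.of A)) a := by
  rw [hov]
  unfold Coh.toGlobal
  have h1 := Scheme.ΓSpecIso_inv_naturality (CommRingCat.ofHom (algebraMap A A'))
  have h2 := congrArg (fun φ => φ.hom a) h1
  simp only [Scheme.Hom.comp_appTop, CommRingCat.hom_comp]
  exact congrArg _ h2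

include hov in
theorem smulMod_algebraMap (M : X.Modules) (a : A) :
    Formal.smulMod A' M (algebraMap A A' a) = Formal.smulMod A M a := by
  unfold Formal.smulMod
  rw [toGlobal_algebraMap hov]

include hov in
theorem smulMod_comp_eq_zero_of_mem_map {J : Ideal A} {M T : X.Modules} (q : M ⟶ T)
    (h : ∀ a ∈ J, Formal.smulMod A M a ≫ q = 0) :
    ∀ b ∈ J.map (algebraMap A A'), Formal.smulMod A' M b ≫ q = 0 := by
  intro b hb
  refine Submodule.span_induction (p := fun b _ => Formal.smulMod A' M b ≫ q = 0)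
    ?_ ?_ ?_ ?_ hb
  · rintro _ ⟨a, ha, rfl⟩
    rw [smulMod_algebraMap hov]
    exact h a ha
  · unfold Formal.smulMod
    rw [map_zero, Groth.Agent.Lib.R2H2.FibreCoh.smulModΓ_zero, zero_comp]
  · intro x y _ _ hx hy
    rw [Groth.Agent.Lib.R2H2.IdealMul.smulMod_add, Preadditive.add_comp, hx, hy, add_zero]
  · intro c x _ hx
    rw [smul_eq_mul, mul_comm, CohIII.smulMod_mul, Category.assoc, hx, comp_zero]

include hov in
theorem smulFamily_comp_eq_zero_iff_map (J : Ideal A) {M T : X.Modules} (q : M ⟶ T) :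
    Formal.smulFamily J M ≫ q = 0 ↔ Formal.smulFamily (J.map (algebraMap A A')) M ≫ q = 0 := by
  rw [Groth.Agent.S9530.smulFamily_comp_eq_zero_iff, Groth.Agent.S9530.smulFamily_comp_eq_zero_iff]
  constructor
  · exact smulMod_comp_eq_zero_of_mem_map hov q
  · intro h a ha
    rw [← smulMod_algebraMap hov]
    exact h _ (Ideal.mem_map_of_mem _ ha)

include hov in
/-- a coherent formal module for `I` is one for the extended ideal `I A'`. -/
theorem isCohFormal_map (I : Ideal A) (G : ℕᵒᵖ ⥤ X.Modules) (hG : Formal.IsCohFormal I G) :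
    Formal.IsCohFormal (I.map (algebraMap A A')) G := by
  obtain ⟨h1, h2, h3⟩ := hG
  refine ⟨h1, fun n => ?_, fun n => ?_⟩
  · intro b hb
    rw [← Ideal.map_pow] at hb
    have := smulMod_comp_eq_zero_of_mem_map hov (J := I ^ (n + 1)) (𝟙 (G.obj (op n)))
      (fun a ha => by rw [Category.comp_id]; exact h2 n a ha) b hb
    rwa [Category.comp_id] at this
  · obtain ⟨h, hiso⟩ := h3 n
    have key := isIso_cokernelDesc_of_same_annihilators
      (Formal.smulFamily (I ^ (n + 1)) (G.obj (op (n + 1))))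
      (Formal.smulFamily ((I ^ (n + 1)).map (algebraMap A A')) (G.obj (op (n + 1))))
      (fun q => smulFamily_comp_eq_zero_iff_map hov (I ^ (n + 1)) q) _ h hiso
    have aux : ∀ J' : Ideal A', J' = (I ^ (n + 1)).map (algebraMap A A') →
        ∃ h : Formal.smulFamily J' (G.obj (op (n + 1))) ≫
            G.map (homOfLE (Nat.le_succ n)).op = 0,
          IsIso (cokernel.desc _ _ h) := by
      rintro _ rfl
      exact ⟨_, key⟩
    exact aux _ (Ideal.map_pow _ _ _).symm

end ringchange

section pullback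
variable {A : Type u} [CommRing A]

/-- componentwise pullback of a coherent formal module (no Noetherian hypotheses). -/
theorem isCohFormal_pullback (I : Ideal A) {X Y : Scheme.{u}}
    [X.Over (Spec (CommRingCat.of A))] [Y.Over (Spec (CommRingCat.of A))]
    (f : X ⟶ Y) (hf : f ≫ (Y ↘ Spec (CommRingCat.of A)) = X ↘ Spec (CommRingCat.of A))
    (G : ℕᵒᵖ ⥤ Y.Modules) (hG : Formal.IsCohFormal I G) :
    Formal.IsCohFormal I (G ⋙ Scheme.Modules.pullback f) := by
  obtain ⟨h1, h2, h3⟩ := hG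
  refine ⟨fun n => ?_, fun n => ?_, fun n => ?_⟩
  · obtain ⟨hq, hft⟩ := h1 n
    haveI : (G.obj (Opposite.op n)).IsQuasicoherent := hq
    haveI : SheafOfModules.IsFiniteType (R := Y.ringCatSheaf) (G.obj (Opposite.op n)) := hft
    exact ⟨Groth.Agent.Lib.Helper20.PullbackAff.isQuasicoherent_pullback f _,
      Groth.Agent.Lib.Helper20.FormalPull.isFiniteType_pullback f _⟩
  · exact Groth.Agent.Lib.Helper20.FormalPull.killedBy_pullback f hf _ _ (h2 n)
  · obtain ⟨h, hiso⟩ := h3 n
    exact Groth.Agent.Lib.Helper20.FormalPull.isIso_cokernelDesc_pullback f hf _ _ h hiso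

end pullback

theorem main (A : Type u) [CommRing A] [IsNoetherianRing A] (I 𝔞 : Ideal A) (_hI𝔞 : I ≤ 𝔞)
    (G : ℕᵒᵖ ⥤ (↑(LocCoh.puncturedOpen A 𝔞) : Scheme.{u}).Modules) (hG : Formal.IsCohFormal I G)
    (A' : Type u) [CommRing A'] [Algebra A A'] [Module.Flat A A']
    (h : Algz.CanonicallyExtends A I (LocCoh.puncturedOpen A 𝔞) G) :
    Algz.CanonicallyExtends A' (I.map (algebraMap A A')) (Spec.map (CommRingCat.ofHom (algebraMap A A')) ⁻¹ᵁ (LocCoh.puncturedOpen A 𝔞))
      (G ⋙ Scheme.Modules.pullback (morphismRestrict (Spec.map (CommRingCat.ofHom (algebraMap A A'))) (LocCoh.puncturedOpen A 𝔞))) := by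
  obtain ⟨G', hG', hpro⟩ := h
  refine ⟨G' ⋙ Scheme.Modules.pullback (gmap A A'), ?_, ?_⟩
  · letI iA : (Spec (CommRingCat.of A)).Over (Spec (CommRingCat.of A)) := ⟨𝟙 _⟩
    letI iA' : (Spec (CommRingCat.of A')).Over (Spec (CommRingCat.of A')) := ⟨𝟙 _⟩
    letI iAA' : (Spec (CommRingCat.of A')).Over (Spec (CommRingCat.of A)) := ⟨gmap A A'⟩
    have h1 : Formal.IsCohFormal I (G' ⋙ Scheme.Modules.pullback (gmap A A')) :=
      isCohFormal_pullback I (gmap A A') (Category.comp_id _) G' hG'
    exact isCohFormal_map (Category.id_comp _).symm I _ h1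
  · exact isProIsomorphic_of_iso_left
      (sectSysPullbackIso A' (LocCoh.puncturedOpen A 𝔞) G (fun n => (hG.1 n.unop).1))
      (isProIsomorphic_map (Scheme.Modules.pullback (gmap A A')) hpro)

end Groth.Agent.Lib.R2LeadBCSysC
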