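import Mathlib
import Groth.Prelude.Def_CAlgX
import Groth.Agent.Lib.Helper13McCoy
import Groth.Agent.Lib.Helper25Minors

/-! # Buchsbaum–Eisenbud sufficiency: minor ideal basics -/

set_option autoImplicit false
universe u

namespace Groth.Agent.Lib.R2Lead.BE

open Matrix

variable {R : Type u} [CommRing R]

theorem minorIdeal_map {T : Type u} [CommRing T] (f : R →+* T) {a b : ℕ}
    (A : Matrix (Fin a) (Fin b) R) (r : ℕ) :
    CAlgX.minorIdeal (A.map f) r = (CAlgX.minorIdeal A r).map f := by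
  unfold CAlgX.minorIdeal
  rw [Ideal.map_span]
  congr 1
  ext x
  constructor
  · rintro ⟨fg, rfl⟩
    refine ⟨_, ⟨fg, rfl⟩, ?_⟩
    show f (det (A.submatrix fg.1 fg.2)) = det ((A.map f).submatrix fg.1 fg.2)
    rw [RingHom.map_det]
    rfl
  · rintro ⟨_, ⟨fg, rfl⟩, rfl⟩
    refine ⟨fg, ?_⟩
    show det ((A.map f).submatrix fg.1 fg.2) = f (det (A.submatrix fg.1 fg.2))
    rw [RingHom.map_det]
    rfl

theorem minorIdeal_succ_eq_bot_of_matrixRank {a b : ℕ} (A : Matrix (Fin a) (Fin b) R) :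
    CAlgX.minorIdeal A (CAlgX.matrixRank A + 1) = ⊥ := by
  by_contra h
  have hbdd : BddAbove {r : ℕ | CAlgX.minorIdeal A r ≠ ⊥} := by
    refine ⟨b, ?_⟩
    intro r hr
    by_contra hlt
    rw [not_le] at hlt
    exact hr (Groth.Agent.Helper13McCoy.minorIdeal_eq_bot_of_lt A r hlt)
  have : CAlgX.matrixRank A + 1 ≤ CAlgX.matrixRank A := le_csSup hbdd h
  omega

/-- In a local ring, a unit minor ideal has a unit generator. -/
theorem exists_isUnit_det_of_minorIdeal_eq_top [IsLocalRing R] {a b : ℕ}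
    (A : Matrix (Fin a) (Fin b) R) (r : ℕ) (h : CAlgX.minorIdeal A r = ⊤) :
    ∃ (f : Fin r → Fin a) (g : Fin r → Fin b), IsUnit (det (A.submatrix f g)) := by
  by_contra hno
  push_neg at hno
  have hle : CAlgX.minorIdeal A r ≤ IsLocalRing.maximalIdeal R := by
    unfold CAlgX.minorIdeal
    rw [Ideal.span_le]
    rintro _ ⟨fg, rfl⟩
    exact (IsLocalRing.mem_maximalIdeal _).mpr (hno fg.1 fg.2)
  rw [h] at hle
  exact (IsLocalRing.maximalIdeal.isMaximal R).ne_top (top_le_iff.mp hle)

/-- Bridge to helper25's minor ideals of the column space: lower bound. -/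
theorem minorIdeal_le_h25 {a b : ℕ} (A : Matrix (Fin a) (Fin b) R) (p : ℕ) :
    CAlgX.minorIdeal A p ≤
      Groth.Agent.Lib.Helper25.minorIdeal (LinearMap.range A.mulVecLin) p := by
  classical
  unfold CAlgX.minorIdeal
  rw [Ideal.span_le]
  rintro _ ⟨⟨f, g⟩, rfl⟩
  apply Ideal.subset_span
  refine ⟨fun s => A.mulVecLin (Pi.single (g s) 1), f, fun s => ⟨_, rfl⟩, ?_⟩
  unfold Groth.Agent.Lib.Helper25.rowMinor
  have hM : (Matrix.of (fun s t => (A.mulVecLin (Pi.single (g s) 1)) (f t)) :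
      Matrix (Fin p) (Fin p) R) = (A.submatrix f g)ᵀ := by
    ext s t
    simp [Matrix.mulVecLin_apply, Matrix.submatrix_apply]
  show det (A.submatrix f g) = det (Matrix.of (fun s t => (A.mulVecLin (Pi.single (g s) 1)) (f t)))
  rw [hM, Matrix.det_transpose]

/-- Bridge to helper25's minor ideals of the column space: upper bound. -/
theorem h25_le_minorIdeal {a b : ℕ} (A : Matrix (Fin a) (Fin b) R) (p : ℕ) :
    Groth.Agent.Lib.Helper25.minorIdeal (LinearMap.range A.mulVecLin) p ≤
      CAlgX.minorIdeal A p := by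
  classical
  unfold Groth.Agent.Lib.Helper25.minorIdeal
  rw [Ideal.span_le]
  rintro _ ⟨c, σ, hc, rfl⟩
  -- the multilinear map `c ↦ rowMinor c σ`
  let Φ : MultilinearMap R (fun _ : Fin p => (Fin a → R)) R :=
    (Matrix.detRowAlternating (R := R) (n := Fin p)).toMultilinearMap.compLinearMap
      (fun _ => LinearMap.funLeft R R σ)
  have hΦ : ∀ c : Fin p → (Fin a → R), Φ c = Groth.Agent.Lib.Helper25.rowMinor c σ := by
    intro c
    rfl
  rw [SetLike.mem_coe, ← hΦ]
  let G : Set (Fin a → R) := Set.range (fun j : Fin b => A.mulVecLin (Pi.single j 1))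
  have hspan : LinearMap.range A.mulVecLin = Submodule.span R G := by
    apply le_antisymm
    · rintro _ ⟨w, rfl⟩
      have : w = ∑ j, w j • (Pi.single j 1 : Fin b → R) := by
        funext k
        simp [Finset.sum_apply, Pi.single_apply]
      rw [this, map_sum]
      refine Submodule.sum_mem _ (fun j _ => ?_)
      rw [map_smul]
      exact Submodule.smul_mem _ _ (Submodule.subset_span ⟨j, rfl⟩)
    · rw [Submodule.span_le]
      rintro _ ⟨j, rfl⟩
      exact ⟨_, rfl⟩
  refine Groth.Agent.Lib.Helper25.MultilinearMap.map_mem_of_span Φ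
    ((CAlgX.minorIdeal A p).restrictScalars R) G ?_ c (fun i => hspan ▸ hc i)
  intro g hg
  choose τ hτ using hg
  rw [hΦ]
  show Groth.Agent.Lib.Helper25.rowMinor g σ ∈ CAlgX.minorIdeal A p
  apply Ideal.subset_span
  refine ⟨(σ, τ), ?_⟩
  unfold Groth.Agent.Lib.Helper25.rowMinor
  have hM : (Matrix.of (fun s t => g s (σ t)) : Matrix (Fin p) (Fin p) R) =
      (A.submatrix σ τ)ᵀ := by
    ext s t
    have h1 : g s (σ t) = (A.mulVecLin (Pi.single (τ s) 1)) (σ t) := by
      rw [← hτ s]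
    rw [Matrix.of_apply, h1]
    simp [Matrix.mulVecLin_apply, Matrix.submatrix_apply]
  show det (A.submatrix σ τ) = det (Matrix.of (fun s t => g s (σ t)))
  rw [hM, Matrix.det_transpose]

end Groth.Agent.Lib.R2Lead.BE
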