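import Mathlib
import Groth.Agent.Lib.R2LeadBE1

/-! # Buchsbaum–Eisenbud sufficiency: module lemmas -/

set_option autoImplicit false
universe u

namespace Groth.Agent.Lib.R2Lead.BE

open Matrix RingTheory.Sequence

variable {R : Type u} [CommRing R]

/-- A quotient of a finite free module by a retract is projective, so weakly regular sequences
stay weakly regular on it. -/
theorem isWeaklyRegular_quot_of_retraction {a : ℕ} (N : Submodule R (Fin a → R))
    (ρ : (Fin a → R) →ₗ[R] (Fin a → R)) (hρ1 : ∀ v, ρ v ∈ N) (hρ2 : ∀ x ∈ N, ρ x = x)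
    (rs : List R) (hrs : IsWeaklyRegular R rs) :
    IsWeaklyRegular ((Fin a → R) ⧸ N) rs := by
  have hle : N ≤ LinearMap.ker (LinearMap.id - ρ) := by
    intro x hx
    rw [LinearMap.mem_ker, LinearMap.sub_apply, LinearMap.id_apply, hρ2 x hx, sub_self]
  let i : ((Fin a → R) ⧸ N) →ₗ[R] (Fin a → R) := N.liftQ (LinearMap.id - ρ) hle
  have hsi : N.mkQ.comp i = LinearMap.id := by
    apply Submodule.linearMap_qext
    ext1 j
    apply LinearMap.ext
    intro x
    show N.mkQ (i (N.mkQ (LinearMap.single R (fun _ => R) j x))) = N.mkQ _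
    simp only [i, Submodule.mkQ_apply, Submodule.liftQ_apply, LinearMap.sub_apply,
      LinearMap.id_apply]
    rw [Submodule.Quotient.mk_sub, sub_eq_self, Submodule.Quotient.mk_eq_zero]
    exact hρ1 _
  haveI : Module.Projective R ((Fin a → R) ⧸ N) := Module.Projective.of_split i N.mkQ hsi
  have h1 : IsWeaklyRegular (TensorProduct R R ((Fin a → R) ⧸ N)) rs :=
    IsWeaklyRegular.isWeaklyRegular_rTensor (M₂ := (Fin a → R) ⧸ N) hrs
  exact ((TensorProduct.lid R ((Fin a → R) ⧸ N)).isWeaklyRegular_congr rs).mp h1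

theorem isWeaklyRegular_quot_range {a b : ℕ} (Q : Matrix (Fin a) (Fin b) R) (s : ℕ)
    (h1 : CAlgX.minorIdeal Q s = ⊤) (h2 : CAlgX.minorIdeal Q (s + 1) = ⊥)
    (rs : List R) (hrs : IsWeaklyRegular R rs) :
    IsWeaklyRegular ((Fin a → R) ⧸ LinearMap.range Q.mulVecLin) rs := by
  obtain ⟨ρ, hρ1, hρ2⟩ := Groth.Agent.Lib.Helper25.exists_retraction_of_minorIdeal (p := s)
    (LinearMap.range Q.mulVecLin)
    (top_le_iff.mp (h1 ▸ minorIdeal_le_h25 Q s))
    (le_bot_iff.mp (h2 ▸ h25_le_minorIdeal Q (s + 1)))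
  exact isWeaklyRegular_quot_of_retraction _ ρ hρ1 hρ2 rs hrs

theorem isWeaklyRegular_quot_bot {a : ℕ} (rs : List R) (hrs : IsWeaklyRegular R rs) :
    IsWeaklyRegular ((Fin a → R) ⧸ (⊥ : Submodule R (Fin a → R))) rs :=
  isWeaklyRegular_quot_of_retraction ⊥ 0 (fun _ => Submodule.zero_mem _)
    (fun x hx => by rw [(Submodule.mem_bot R).mp hx]; rfl) rs hrs

/-- Local exactness at a prime gives a multiplier outside the prime. -/
theorem exists_smul_mem_range_of_loc {a b c : ℕ} (P : Matrix (Fin a) (Fin b) R)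
    (Q : Matrix (Fin b) (Fin c) R) (K : Ideal R) [K.IsPrime]
    (hloc : LinearMap.ker ((P.map (algebraMap R (Localization.AtPrime K))).mulVecLin) ≤
        LinearMap.range ((Q.map (algebraMap R (Localization.AtPrime K))).mulVecLin))
    (z : Fin b → R) (hz : z ∈ LinearMap.ker P.mulVecLin) :
    ∃ s : R, s ∉ K ∧ s • z ∈ LinearMap.range Q.mulVecLin := by
  classical
  set alg := algebraMap R (Localization.AtPrime K) with halg
  have hzp : (fun i => alg (z i)) ∈
      LinearMap.ker ((P.map alg).mulVecLin) := by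
    rw [LinearMap.mem_ker, Matrix.mulVecLin_apply]
    funext i
    have := RingHom.map_mulVec alg P z i
    rw [Function.comp_def] at this
    rw [← this]
    have hz' : P *ᵥ z = 0 := by
      rw [LinearMap.mem_ker, Matrix.mulVecLin_apply] at hz
      exact hz
    rw [hz']
    simp
  obtain ⟨wp, hwp⟩ := hloc hzp
  rw [Matrix.mulVecLin_apply] at hwp
  obtain ⟨t, ht⟩ := IsLocalization.exist_integer_multiples_of_finite K.primeCompl wp
  choose w hw using ht
  have h1 : ∀ i, alg ((Q *ᵥ w) i - (t : R) * z i) = 0 := by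
    intro i
    rw [map_sub, map_mul, RingHom.map_mulVec alg Q w i]
    have h2 : (alg ∘ w) = (t : R) • wp := by
      funext l
      exact hw l
    rw [h2, Matrix.mulVec_smul, hwp, Pi.smul_apply, Algebra.smul_def, sub_self]
  have h3 : ∀ i, ∃ s : K.primeCompl, (s : R) * ((Q *ᵥ w) i - (t : R) * z i) = 0 :=
    fun i => (IsLocalization.map_eq_zero_iff K.primeCompl _ _).mp (h1 i)
  choose s hs using h3
  let s0 : K.primeCompl := ∏ i, s i
  have hs0 : ∀ i, (s0 : R) * ((Q *ᵥ w) i - (t : R) * z i) = 0 := by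
    intro i
    have hdvd : ((s i : K.primeCompl) : R) ∣ (s0 : R) := by
      show ((s i : K.primeCompl) : R) ∣ ((∏ i, s i : K.primeCompl) : R)
      rw [Submonoid.coe_finsetProd]
      exact Finset.dvd_prod_of_mem (fun i => ((s i : K.primeCompl) : R)) (Finset.mem_univ i)
    obtain ⟨c', hc'⟩ := hdvd
    rw [hc', mul_comm _ c', mul_assoc, hs i, mul_zero]
  refine ⟨(s0 : R) * (t : R), (s0 * t).2, (s0 : R) • w, ?_⟩
  rw [Matrix.mulVecLin_apply, Matrix.mulVec_smul]
  funext i
  have := hs0 i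
  rw [mul_sub, sub_eq_zero] at this
  rw [Pi.smul_apply, Pi.smul_apply, smul_eq_mul, smul_eq_mul, this, mul_assoc]

/-- Exactness can be checked at maximal ideals. -/
theorem ker_le_range_of_loc {a b c : ℕ} (P : Matrix (Fin a) (Fin b) R)
    (Q : Matrix (Fin b) (Fin c) R)
    (hloc : ∀ (K : Ideal R) [K.IsMaximal],
      LinearMap.ker ((P.map (algebraMap R (Localization.AtPrime K))).mulVecLin) ≤
        LinearMap.range ((Q.map (algebraMap R (Localization.AtPrime K))).mulVecLin)) :
    LinearMap.ker P.mulVecLin ≤ LinearMap.range Q.mulVecLin := by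
  intro z hz
  let J : Ideal R := (LinearMap.range Q.mulVecLin).comap (LinearMap.toSpanSingleton R _ z)
  have hJ : ∀ r : R, r ∈ J ↔ r • z ∈ LinearMap.range Q.mulVecLin := by
    intro r
    show r ∈ Submodule.comap (LinearMap.toSpanSingleton R (Fin b → R) z)
      (LinearMap.range Q.mulVecLin) ↔ _
    rw [Submodule.mem_comap, LinearMap.toSpanSingleton_apply]
  by_cases hJt : J = ⊤
  · have : (1 : R) ∈ J := hJt ▸ Submodule.mem_top
    rw [hJ, one_smul] at this
    exact this
  · exfalso
    obtain ⟨K, hK, hJK⟩ := Ideal.exists_le_maximal J hJt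
    haveI := hK
    obtain ⟨s, hsK, hs⟩ := exists_smul_mem_range_of_loc P Q K (hloc K) z hz
    exact hsK (hJK ((hJ s).mpr hs))

end Groth.Agent.Lib.R2Lead.BE
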