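import Mathlib
import Groth.Agent.Lib.R2LeadBE2

/-! # Buchsbaum–Eisenbud sufficiency: exactness from unit minors over a local ring -/

set_option autoImplicit false
universe u v

namespace Groth.Agent.Lib.R2Lead.BE

open Matrix

section Aux

variable {T : Type v} [CommRing T] {a b c r s : ℕ}

/-- the inclusion of the coordinates `g` -/
def inc (g : Fin r → Fin b) (x : Fin r → T) : Fin b → T :=
  fun i => ∑ t, if i = g t then x t else 0

theorem mulVec_inc (P : Matrix (Fin a) (Fin b) T) (g : Fin r → Fin b) (x : Fin r → T) :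
    P *ᵥ inc g x = (P.submatrix id g) *ᵥ x := by
  funext i
  simp only [Matrix.mulVec, dotProduct, inc, Matrix.submatrix_apply, id_eq]
  simp_rw [Finset.mul_sum]
  rw [Finset.sum_comm]
  refine Finset.sum_congr rfl (fun t _ => ?_)
  simp

theorem submatrix_mulVec_rows {a' : ℕ} (M : Matrix (Fin a) (Fin r) T) (f : Fin a' → Fin a)
    (x : Fin r → T) : (M.submatrix f id) *ᵥ x = (M *ᵥ x) ∘ f := by
  funext i
  simp [Matrix.mulVec, dotProduct]

theorem eq_zero_of_unit_det (M : Matrix (Fin r) (Fin r) T) (hu : IsUnit M.det) (x : Fin r → T)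
    (h : M *ᵥ x = 0) : x = 0 := by
  have hM : IsUnit M := (Matrix.isUnit_iff_isUnit_det M).mpr hu
  exact Matrix.mulVec_injective_of_isUnit hM (by rw [h, Matrix.mulVec_zero])

theorem inj_aux (P : Matrix (Fin a) (Fin b) T) (Q : Matrix (Fin b) (Fin c) T) (hPQ : P * Q = 0)
    (f : Fin r → Fin a) (g : Fin r → Fin b) (hu : IsUnit (P.submatrix f g).det)
    (g' : Fin s → Fin c) (x : Fin r → T) (y : Fin s → T)
    (hPz : P *ᵥ (inc g x + (Q.submatrix id g') *ᵥ y) = 0) : x = 0 := by
  rw [Matrix.mulVec_add, mulVec_inc, Matrix.mulVec_mulVec] at hPz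
  have h1 : P * Q.submatrix id g' = (P * Q).submatrix id g' := by
    ext i j
    simp [Matrix.mul_apply]
  rw [h1, hPQ] at hPz
  have h2 : ((0 : Matrix (Fin a) (Fin c) T).submatrix id g') *ᵥ y = 0 := by
    funext i
    simp [Matrix.mulVec, dotProduct]
  rw [h2, add_zero] at hPz
  apply eq_zero_of_unit_det _ hu
  have h3 : P.submatrix f g = (P.submatrix id g).submatrix f id := by
    ext i j
    rfl
  rw [h3, submatrix_mulVec_rows, hPz]
  rfl

/-- the square matrix `[ι_g | Q_{g'}]` -/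
def Mx (e : Fin r ⊕ Fin s ≃ Fin b) (g : Fin r → Fin b) (g' : Fin s → Fin c)
    (Q : Matrix (Fin b) (Fin c) T) : Matrix (Fin b) (Fin b) T :=
  Matrix.of fun i j => Sum.elim (fun t => if i = g t then (1 : T) else 0)
    (fun t => Q i (g' t)) (e.symm j)

theorem Mx_map {T' : Type v} [CommRing T'] (φ : T →+* T') (e : Fin r ⊕ Fin s ≃ Fin b)
    (g : Fin r → Fin b) (g' : Fin s → Fin c) (Q : Matrix (Fin b) (Fin c) T) :
    (Mx e g g' Q).map φ = Mx e g g' (Q.map φ) := by
  ext i j
  simp only [Mx, Matrix.map_apply, Matrix.of_apply]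
  rcases e.symm j with t | t
  · simp [apply_ite φ]
  · simp

theorem Mx_mulVec (e : Fin r ⊕ Fin s ≃ Fin b) (g : Fin r → Fin b) (g' : Fin s → Fin c)
    (Q : Matrix (Fin b) (Fin c) T) (v : Fin b → T) :
    Mx e g g' Q *ᵥ v = inc g (fun t => v (e (Sum.inl t))) +
      (Q.submatrix id g') *ᵥ (fun t => v (e (Sum.inr t))) := by
  funext i
  simp only [Matrix.mulVec, dotProduct, Mx, Matrix.of_apply, inc, Pi.add_apply,
    Matrix.submatrix_apply, id_eq]
  rw [← Equiv.sum_comp e, Fintype.sum_sum_type]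
  simp only [Equiv.symm_apply_apply, Sum.elim_inl, Sum.elim_inr]
  congr 1
  refine Finset.sum_congr rfl (fun t _ => ?_)
  split_ifs <;> simp

theorem Mx_inj (P : Matrix (Fin a) (Fin b) T) (Q : Matrix (Fin b) (Fin c) T) (hPQ : P * Q = 0)
    (e : Fin r ⊕ Fin s ≃ Fin b)
    (f : Fin r → Fin a) (g : Fin r → Fin b) (hu : IsUnit (P.submatrix f g).det)
    (f' : Fin s → Fin b) (g' : Fin s → Fin c) (hu' : IsUnit (Q.submatrix f' g').det)
    (v : Fin b → T) (hv : Mx e g g' Q *ᵥ v = 0) : v = 0 := by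
  rw [Mx_mulVec] at hv
  have hx : (fun t => v (e (Sum.inl t))) = 0 :=
    inj_aux P Q hPQ f g hu g' _ _ (by rw [hv, Matrix.mulVec_zero])
  rw [hx] at hv
  have hinc0 : inc g (0 : Fin r → T) = 0 := by
    funext i
    simp [inc]
  rw [hinc0, zero_add] at hv
  have hy : (fun t => v (e (Sum.inr t))) = 0 := by
    apply eq_zero_of_unit_det _ hu'
    have h3 : Q.submatrix f' g' = (Q.submatrix id g').submatrix f' id := by
      ext i j
      rfl
    rw [h3, submatrix_mulVec_rows, hv]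
    rfl
  funext j
  obtain ⟨k, rfl⟩ := e.surjective j
  rcases k with t | t
  · exact congrFun hx t
  · exact congrFun hy t

end Aux

variable {S : Type u} [CommRing S] [IsLocalRing S]

theorem isUnit_det_Mx {a b c r s : ℕ} (P : Matrix (Fin a) (Fin b) S)
    (Q : Matrix (Fin b) (Fin c) S) (hPQ : P * Q = 0)
    (e : Fin r ⊕ Fin s ≃ Fin b)
    (f : Fin r → Fin a) (g : Fin r → Fin b) (hu : IsUnit (P.submatrix f g).det)
    (f' : Fin s → Fin b) (g' : Fin s → Fin c) (hu' : IsUnit (Q.submatrix f' g').det) :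
    IsUnit (Mx e g g' Q).det := by
  by_contra hno
  let φ : S →+* IsLocalRing.ResidueField S := IsLocalRing.residue S
  have h0 : φ (Mx e g g' Q).det = 0 := by
    rw [IsLocalRing.residue_eq_zero_iff]
    exact hno
  rw [RingHom.map_det, RingHom.mapMatrix_apply, Mx_map] at h0
  obtain ⟨v, hv0, hv⟩ := Matrix.exists_mulVec_eq_zero_iff.mpr h0
  apply hv0
  refine Mx_inj (P.map φ) (Q.map φ) ?_ e f g ?_ f' g' ?_ v hv
  · rw [← Matrix.map_mul, hPQ]
    ext i j
    simp
  · have : (P.map φ).submatrix f g = (P.submatrix f g).map φ := rfl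
    rw [this, ← RingHom.mapMatrix_apply, ← RingHom.map_det]
    exact hu.map φ
  · have : (Q.map φ).submatrix f' g' = (Q.submatrix f' g').map φ := rfl
    rw [this, ← RingHom.mapMatrix_apply, ← RingHom.map_det]
    exact hu'.map φ

/-- Over a local ring, two consecutive maps with unit minors of complementary sizes are exact. -/
theorem ker_le_range_of_unit_minors {a b c r s : ℕ} (P : Matrix (Fin a) (Fin b) S)
    (Q : Matrix (Fin b) (Fin c) S) (hPQ : P * Q = 0) (hrs : r + s = b)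
    (f : Fin r → Fin a) (g : Fin r → Fin b) (hu : IsUnit (P.submatrix f g).det)
    (f' : Fin s → Fin b) (g' : Fin s → Fin c) (hu' : IsUnit (Q.submatrix f' g').det) :
    LinearMap.ker P.mulVecLin ≤ LinearMap.range Q.mulVecLin := by
  classical
  let e : Fin r ⊕ Fin s ≃ Fin b := finSumFinEquiv.trans (finCongr hrs)
  have hdet := isUnit_det_Mx P Q hPQ e f g hu f' g' hu'
  have hM : IsUnit (Mx e g g' Q) := (Matrix.isUnit_iff_isUnit_det _).mpr hdet
  intro z hz
  rw [LinearMap.mem_ker, Matrix.mulVecLin_apply] at hz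
  obtain ⟨v, hv⟩ : ∃ v, Mx e g g' Q *ᵥ v = z := by
    obtain ⟨u, hu⟩ := hM
    refine ⟨(↑u⁻¹ : Matrix (Fin b) (Fin b) S) *ᵥ z, ?_⟩
    rw [Matrix.mulVec_mulVec, ← hu, Units.mul_inv, Matrix.one_mulVec]
  rw [Mx_mulVec] at hv
  have hx : (fun t => v (e (Sum.inl t))) = 0 :=
    inj_aux P Q hPQ f g hu g' _ _ (by rw [hv, hz])
  rw [hx] at hv
  have hinc0 : inc g (0 : Fin r → S) = 0 := by
    funext i
    simp [inc]
  rw [hinc0, zero_add] at hv
  refine ⟨inc g' (fun t => v (e (Sum.inr t))), ?_⟩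
  rw [Matrix.mulVecLin_apply, mulVec_inc, hv]

end Groth.Agent.Lib.R2Lead.BE
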