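import Mathlib
import Groth.Agent.Lib.R2LeadBE3
import Groth.Agent.Lib.H9Acyclic

/-! # Buchsbaum–Eisenbud sufficiency: the local theorem -/

set_option autoImplicit false
universe u

namespace Groth.Agent.Lib.R2Lead.BE

open Matrix RingTheory.Sequence

/-- the hypotheses, in a form stable under flat base change -/
structure Hyp (S : Type u) [CommRing S] (e : ℕ) (n : ℕ → ℕ)
    (B : (i : ℕ) → Matrix (Fin (n i)) (Fin (n (i + 1))) S) (r : ℕ → ℕ) : Prop where
  zero : ∀ i, e ≤ i → B i = 0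
  cx : ∀ i, B i * B (i + 1) = 0
  r0 : ∀ i, e ≤ i → r i = 0
  rk : ∀ i, i < e → r i + r (i + 1) = n (i + 1)
  bot : ∀ i, i < e → CAlgX.minorIdeal (B i) (r i + 1) = ⊥
  det : ∀ i, i < e → CAlgX.minorIdeal (B i) (r i) = ⊤ ∨
    ∃ rs : List S, rs.length = i + 1 ∧ (∀ x ∈ rs, x ∈ CAlgX.minorIdeal (B i) (r i)) ∧
      IsWeaklyRegular S rs

theorem minorIdeal_size_zero {R : Type u} [CommRing R] {a b : ℕ} (A : Matrix (Fin a) (Fin b) R) :
    CAlgX.minorIdeal A 0 = ⊤ := by
  rw [Ideal.eq_top_iff_one]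
  apply Ideal.subset_span
  refine ⟨(Fin.elim0, Fin.elim0), ?_⟩
  simp

theorem minorIdeal_zero_matrix {R : Type u} [CommRing R] {a b : ℕ} (r : ℕ) :
    CAlgX.minorIdeal (0 : Matrix (Fin a) (Fin b) R) (r + 1) = ⊥ := by
  rw [eq_bot_iff]
  unfold CAlgX.minorIdeal
  rw [Ideal.span_le]
  rintro _ ⟨fg, rfl⟩
  have : ((0 : Matrix (Fin a) (Fin b) R).submatrix fg.1 fg.2) = 0 := by
    ext i j
    rfl
  show ((0 : Matrix (Fin a) (Fin b) R).submatrix fg.1 fg.2).det ∈ (⊥ : Ideal R)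
  rw [this, Matrix.det_zero]
  exact Submodule.zero_mem _

namespace Hyp

variable {S : Type u} [CommRing S] {e : ℕ} {n : ℕ → ℕ}
  {B : (i : ℕ) → Matrix (Fin (n i)) (Fin (n (i + 1))) S} {r : ℕ → ℕ}

theorem bot' (H : Hyp S e n B r) (i : ℕ) : CAlgX.minorIdeal (B i) (r i + 1) = ⊥ := by
  by_cases hi : i < e
  · exact H.bot i hi
  · rw [H.zero i (not_lt.mp hi)]
    exact minorIdeal_zero_matrix _

theorem top_of_ge (H : Hyp S e n B r) (i : ℕ) (hi : e ≤ i) :
    CAlgX.minorIdeal (B i) (r i) = ⊤ := by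
  rw [H.r0 i hi]
  exact minorIdeal_size_zero _

theorem map (H : Hyp S e n B r) (T : Type u) [CommRing T] [Algebra S T] [Module.Flat S T] :
    Hyp T e n (fun i => (B i).map (algebraMap S T)) r where
  zero i hi := by
    show (B i).map (algebraMap S T) = 0
    rw [H.zero i hi]
    ext a b
    simp
  cx i := by
    show (B i).map (algebraMap S T) * (B (i + 1)).map (algebraMap S T) = 0
    rw [← Matrix.map_mul, H.cx i]
    ext a b
    simp
  r0 := H.r0
  rk := H.rk
  bot i hi := by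
    show CAlgX.minorIdeal ((B i).map (algebraMap S T)) (r i + 1) = ⊥
    rw [minorIdeal_map, H.bot i hi, Ideal.map_bot]
  det i hi := by
    show CAlgX.minorIdeal ((B i).map (algebraMap S T)) (r i) = ⊤ ∨ _
    rcases H.det i hi with h | ⟨rs, hlen, hmem, hreg⟩
    · left
      rw [minorIdeal_map, h, Ideal.map_top]
    · right
      refine ⟨rs.map (algebraMap S T), by simpa using hlen, ?_, IsWeaklyRegular.of_flat hreg⟩
      intro x hx
      obtain ⟨y, hy, rfl⟩ := List.mem_map.mp hx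
      show algebraMap S T y ∈ CAlgX.minorIdeal ((B i).map (algebraMap S T)) (r i)
      rw [minorIdeal_map]
      exact Ideal.mem_map_of_mem _ (hmem y hy)

end Hyp

end Groth.Agent.Lib.R2Lead.BE
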