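import Mathlib
import Groth.Agent.Lib.R2LeadBE4

/-! # Buchsbaum–Eisenbud sufficiency: the local theorem -/

set_option autoImplicit false
universe u

namespace Groth.Agent.Lib.R2Lead.BE

open Matrix RingTheory.Sequence Groth.Agent.Lib.H9Acyclic

/-- weak regularity on the quotients used below -/
theorem isWeaklyRegular_quot_cases {R : Type u} [CommRing R] {a b : ℕ}
    (Q : Matrix (Fin a) (Fin b) R) (s : ℕ)
    (h1 : CAlgX.minorIdeal Q s = ⊤) (h2 : CAlgX.minorIdeal Q (s + 1) = ⊥)
    (N : Submodule R (Fin a → R)) (hN : N = ⊥ ∨ N = LinearMap.range Q.mulVecLin)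
    (rs : List R) (hrs : IsWeaklyRegular R rs) :
    IsWeaklyRegular ((Fin a → R) ⧸ N) rs := by
  rcases hN with rfl | rfl
  · exact isWeaklyRegular_quot_bot rs hrs
  · exact isWeaklyRegular_quot_range Q s h1 h2 rs hrs

theorem ringKrullDim_atPrime_lt {S : Type u} [CommRing S] [IsLocalRing S] [IsNoetherianRing S]
    (p : Ideal S) [p.IsPrime] (hp : p ≠ IsLocalRing.maximalIdeal S) :
    ringKrullDim (Localization.AtPrime p) < ringKrullDim S := by
  rw [IsLocalization.AtPrime.ringKrullDim_eq_height p (Localization.AtPrime p),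
    ← IsLocalRing.maximalIdeal_height_eq_ringKrullDim]
  exact WithBot.coe_lt_coe.mpr (Ideal.height_strict_mono_of_isPrime
    (lt_of_le_of_ne (IsLocalRing.le_maximalIdeal (Ideal.IsPrime.ne_top ‹_›)) hp))

/-- the tail: exactness where both maps have unit determinantal ideals -/
theorem tail_exact {S : Type u} [CommRing S] [IsLocalRing S] {e : ℕ} {n : ℕ → ℕ}
    {B : (i : ℕ) → Matrix (Fin (n i)) (Fin (n (i + 1))) S} {r : ℕ → ℕ} (H : Hyp S e n B r)
    (i : ℕ) (hi : i < e) (h1 : CAlgX.minorIdeal (B i) (r i) = ⊤)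
    (h2 : CAlgX.minorIdeal (B (i + 1)) (r (i + 1)) = ⊤) :
    LinearMap.ker (B i).mulVecLin ≤ LinearMap.range (B (i + 1)).mulVecLin := by
  obtain ⟨f, g, hu⟩ := exists_isUnit_det_of_minorIdeal_eq_top (B i) (r i) h1
  obtain ⟨f', g', hu'⟩ := exists_isUnit_det_of_minorIdeal_eq_top (B (i + 1)) (r (i + 1)) h2
  exact ker_le_range_of_unit_minors (B i) (B (i + 1)) (H.cx i) (H.rk i hi) f g hu f' g' hu'


/-- the head: exactness below the last index with a proper determinantal ideal -/
theorem head_exact {S : Type u} [CommRing S] [IsLocalRing S] [IsNoetherianRing S] {e : ℕ}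
    {n : ℕ → ℕ} {B : (i : ℕ) → Matrix (Fin (n i)) (Fin (n (i + 1))) S} {r : ℕ → ℕ}
    (H : Hyp S e n B r)
    (hloc : ∀ (p : Ideal S) [p.IsPrime], p ≠ IsLocalRing.maximalIdeal S → ∀ i, i < e →
      LinearMap.ker ((B i).map (algebraMap S (Localization.AtPrime p))).mulVecLin ≤
        LinearMap.range ((B (i + 1)).map (algebraMap S (Localization.AtPrime p))).mulVecLin)
    (i₀ : ℕ) (hi₀ : i₀ < e) (hbad : CAlgX.minorIdeal (B i₀) (r i₀) ≠ ⊤)
    (hgood : CAlgX.minorIdeal (B (i₀ + 1)) (r (i₀ + 1)) = ⊤) :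
    ∀ i, i ≤ i₀ → LinearMap.ker (B i).mulVecLin ≤ LinearMap.range (B (i + 1)).mulVecLin := by
  classical
  obtain ⟨rs, hlen, hmemI, hreg⟩ := (H.det i₀ hi₀).resolve_left hbad
  have hmem : ∀ x ∈ rs, x ∈ (IsLocalRing.maximalIdeal S : Set S) := fun x hx =>
    IsLocalRing.le_maximalIdeal hbad (hmemI x hx)
  set k := i₀ + 1 with hk
  let N : (j : ℕ) → Submodule S (Fin (n j) → S) :=
    fun j => if j = k then LinearMap.range (B j).mulVecLin else ⊥
  have hNk : ∀ j, j = k → N j = LinearMap.range (B j).mulVecLin := fun j h => if_pos h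
  have hNne : ∀ j, j ≠ k → N j = ⊥ := fun j h => if_neg h
  have hN : ∀ j, N (j + 1) ≤ (N j).comap (B j).mulVecLin := by
    intro j
    by_cases hj : j + 1 = k
    · rw [hNk _ hj]
      rintro _ ⟨w, rfl⟩
      rw [Submodule.mem_comap, ← LinearMap.comp_apply, ← Matrix.mulVecLin_mul, H.cx j,
        Matrix.mulVecLin_zero, LinearMap.zero_apply]
      exact Submodule.zero_mem _
    · rw [hNne _ hj]
      exact bot_le
  let d : ∀ j, ((Fin (n (j + 1)) → S) ⧸ N (j + 1)) →ₗ[S] ((Fin (n j) → S) ⧸ N j) :=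
    fun j => if j < k then (N (j + 1)).mapQ (N j) (B j).mulVecLin (hN j) else 0
  have hdpos : ∀ j, j < k → d j = (N (j + 1)).mapQ (N j) (B j).mulVecLin (hN j) :=
    fun j h => if_pos h
  have hdneg : ∀ j, ¬ j < k → d j = 0 := fun j h => if_neg h
  have key := ACY.acyclic (R := S) (S := (IsLocalRing.maximalIdeal S : Set S)) k rs hlen hmem
    (fun j => (Fin (n j) → S) ⧸ N j) d (hdneg k (lt_irrefl k))
    (by
      intro j hj
      by_cases hj1 : j + 1 < k
      · rw [hdpos j hj, hdpos (j + 1) hj1]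
        apply Submodule.linearMap_qext
        apply LinearMap.ext
        intro w
        show (N (j + 1)).mapQ (N j) (B j).mulVecLin (hN j)
          ((N (j + 1 + 1)).mapQ (N (j + 1)) (B (j + 1)).mulVecLin (hN (j + 1))
            ((N (j + 1 + 1)).mkQ w)) = 0
        rw [Submodule.mkQ_apply, Submodule.mapQ_apply, Submodule.mapQ_apply,
          ← LinearMap.comp_apply, ← Matrix.mulVecLin_mul, H.cx j, Matrix.mulVecLin_zero,
          LinearMap.zero_apply, Submodule.Quotient.mk_zero]
      · rw [hdneg (j + 1) hj1, LinearMap.comp_zero])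
    (by
      intro j
      by_cases hj : j = k
      · refine isWeaklyRegular_quot_cases (B j) (r j) ?_ (H.bot' j) (N j) (Or.inr (hNk j hj))
          rs hreg
        rw [hj]
        exact hgood
      · refine isWeaklyRegular_quot_of_retraction (N j) 0 (fun _ => Submodule.zero_mem _) ?_
          rs hreg
        intro x hx
        rw [hNne j hj, Submodule.mem_bot] at hx
        rw [hx]
        rfl)
    (by
      intro j hj zb hzb y hy
      obtain ⟨z, rfl⟩ := Submodule.Quotient.mk_surjective _ zb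
      have hjk : j ≠ k := Nat.ne_of_lt hj
      have hz : z ∈ LinearMap.ker (B j).mulVecLin := by
        rw [LinearMap.mem_ker, hdpos j hj, Submodule.mapQ_apply,
          Submodule.Quotient.mk_eq_zero, hNne j hjk, Submodule.mem_bot] at hzb
        exact hzb
      obtain ⟨M, w, hw⟩ := ACY.torsion_of_loc (B j) (B (j + 1))
        (fun p _ hp => hloc p hp j (by omega)) z hz y hy
      refine ⟨M, ?_⟩
      by_cases hj1 : j + 1 < k
      · refine ⟨Submodule.Quotient.mk w, ?_⟩
        rw [hdpos (j + 1) hj1, Submodule.mapQ_apply, hw, Submodule.Quotient.mk_smul]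
      · have hj1k : j + 1 = k := by omega
        rw [hdneg (j + 1) hj1, LinearMap.range_zero, Submodule.mem_bot,
          ← Submodule.Quotient.mk_smul, Submodule.Quotient.mk_eq_zero, hNk _ hj1k]
        exact ⟨w, hw⟩)
  intro i hi z hz
  have hik : i < k := by omega
  have hzk : (Submodule.Quotient.mk z : (Fin (n (i + 1)) → S) ⧸ N (i + 1)) ∈
      LinearMap.ker (d i) := by
    rw [LinearMap.mem_ker, hdpos i hik, Submodule.mapQ_apply]
    rw [LinearMap.mem_ker] at hz
    rw [hz, Submodule.Quotient.mk_zero]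
  have h2 := key i hik hzk
  by_cases hi1 : i + 1 < k
  · rw [hdpos (i + 1) hi1] at h2
    obtain ⟨wb, hwb⟩ := h2
    obtain ⟨w, rfl⟩ := Submodule.Quotient.mk_surjective _ wb
    rw [Submodule.mapQ_apply, ← sub_eq_zero, ← Submodule.Quotient.mk_sub,
      Submodule.Quotient.mk_eq_zero, hNne (i + 1) (Nat.ne_of_lt hi1), Submodule.mem_bot,
      sub_eq_zero] at hwb
    exact ⟨w, hwb⟩
  · have hi1k : i + 1 = k := by omega
    rw [hdneg (i + 1) hi1, LinearMap.range_zero, Submodule.mem_bot,
      Submodule.Quotient.mk_eq_zero, hNk _ hi1k] at h2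
    exact h2

end Groth.Agent.Lib.R2Lead.BE
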