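import Mathlib
import Groth.Agent.Lib.R2LeadBE5

/-! # Buchsbaum–Eisenbud sufficiency: local theorem and globalization -/

set_option autoImplicit false
universe u

namespace Groth.Agent.Lib.R2Lead.BE

open Matrix RingTheory.Sequence

theorem local_main : ∀ (x : WithBot ℕ∞) (S : Type u) [CommRing S] [IsLocalRing S]
    [IsNoetherianRing S], ringKrullDim S = x → ∀ (e : ℕ) (n : ℕ → ℕ)
    (B : (i : ℕ) → Matrix (Fin (n i)) (Fin (n (i + 1))) S) (r : ℕ → ℕ), Hyp S e n B r →
    ∀ i, i < e → LinearMap.ker (B i).mulVecLin ≤ LinearMap.range (B (i + 1)).mulVecLin := by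
  intro x
  induction x using WellFoundedLT.induction with
  | ind x ih =>
  intro S _ _ _ hx e n B r H
  classical
  have hloc : ∀ (p : Ideal S) [p.IsPrime], p ≠ IsLocalRing.maximalIdeal S → ∀ i, i < e →
      LinearMap.ker ((B i).map (algebraMap S (Localization.AtPrime p))).mulVecLin ≤
        LinearMap.range ((B (i + 1)).map (algebraMap S (Localization.AtPrime p))).mulVecLin := by
    intro p _ hp
    have hlt : ringKrullDim (Localization.AtPrime p) < x := hx ▸ ringKrullDim_atPrime_lt p hp
    haveI : IsNoetherianRing (Localization.AtPrime p) :=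
      IsLocalization.isNoetherianRing p.primeCompl _ inferInstance
    exact ih _ hlt (Localization.AtPrime p) rfl e n _ r (H.map (Localization.AtPrime p))
  -- the bad indices
  let bad : ℕ → Prop := fun i => i < e ∧ CAlgX.minorIdeal (B i) (r i) ≠ ⊤
  have hgoodtop : ∀ i, ¬ bad i → CAlgX.minorIdeal (B i) (r i) = ⊤ := by
    intro i hi
    by_cases hie : i < e
    · by_contra h
      exact hi ⟨hie, h⟩
    · exact H.top_of_ge i (not_lt.mp hie)
  by_cases hex : ∃ i, bad i
  · obtain ⟨i₁, hi₁⟩ := hex
    let i₀ := Nat.findGreatest bad e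
    have hi₀ : bad i₀ := Nat.findGreatest_spec (P := bad) (le_of_lt hi₁.1) hi₁
    have hgt : ∀ j, i₀ < j → ¬ bad j := by
      intro j hj
      by_cases hje : j ≤ e
      · exact Nat.findGreatest_is_greatest hj hje
      · intro hb
        exact hje (le_of_lt hb.1)
    intro i hi
    by_cases hii : i ≤ i₀
    · exact head_exact H hloc i₀ hi₀.1 hi₀.2 (hgoodtop _ (hgt _ (Nat.lt_succ_self i₀))) i hii
    · exact tail_exact H i hi (hgoodtop _ (hgt _ (by omega))) (hgoodtop _ (hgt _ (by omega)))
  · push_neg at hex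
    intro i hi
    exact tail_exact H i hi (hgoodtop _ (hex i)) (hgoodtop _ (hex (i + 1)))

end Groth.Agent.Lib.R2Lead.BE
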