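import Mathlib
import Groth.Agent.Lib.R2LeadBE6

/-! # Buchsbaum–Eisenbud sufficiency: the global statement -/

set_option autoImplicit false
universe u

namespace Groth.Agent.Lib.R2Lead.BE

open Matrix RingTheory.Sequence

theorem alt_sum_add (n : ℕ → ℕ) (e i : ℕ) (hi : i + 1 < e) :
    (∑ t ∈ Finset.Icc (i + 1) e, (-1 : ℤ) ^ (t - (i + 1)) * (n t : ℤ)) +
      (∑ t ∈ Finset.Icc (i + 2) e, (-1 : ℤ) ^ (t - (i + 2)) * (n t : ℤ)) = (n (i + 1) : ℤ) := by
  have h1 : Finset.Icc (i + 1) e = insert (i + 1) (Finset.Icc (i + 2) e) := by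
    ext t
    simp only [Finset.mem_Icc, Finset.mem_insert]
    omega
  rw [h1, Finset.sum_insert (by simp)]
  have h2 : ∀ t ∈ Finset.Icc (i + 2) e, (-1 : ℤ) ^ (t - (i + 1)) * (n t : ℤ) =
      -((-1 : ℤ) ^ (t - (i + 2)) * (n t : ℤ)) := by
    intro t ht
    rw [Finset.mem_Icc] at ht
    have : t - (i + 1) = (t - (i + 2)) + 1 := by omega
    rw [this, pow_succ]
    ring
  rw [Finset.sum_congr rfl h2, Finset.sum_neg_distrib]
  simp

theorem global_main {R : Type u} [CommRing R] [IsNoetherianRing R]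
    (e : ℕ) (he : 1 ≤ e) (n : ℕ → ℕ) (A : (i : ℕ) → Matrix (Fin (n i)) (Fin (n (i + 1))) R)
    (hA : ∀ i, i + 2 ≤ e → A i * A (i + 1) = 0)
    (hrank : ∀ j, 1 ≤ j → j ≤ e →
      (CAlgX.matrixRank (A (j - 1)) : ℤ) = ∑ t ∈ Finset.Icc j e, (-1 : ℤ) ^ (t - j) * (n t : ℤ))
    (hdet : ∀ j, 1 ≤ j → j ≤ e →
      CAlgX.detIdeal (A (j - 1)) = ⊤ ∨
        ∃ rs : List R, rs.length = j ∧ (∀ r ∈ rs, r ∈ CAlgX.detIdeal (A (j - 1))) ∧
          RingTheory.Sequence.IsRegular R rs) :
    LinearMap.ker (A (e - 1)).mulVecLin = ⊥ ∧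
      ∀ i, i + 2 ≤ e → LinearMap.ker (A i).mulVecLin = LinearMap.range (A (i + 1)).mulVecLin := by
  classical
  let B : (i : ℕ) → Matrix (Fin (n i)) (Fin (n (i + 1))) R := fun i => if i < e then A i else 0
  let r : ℕ → ℕ := fun i => if i < e then CAlgX.matrixRank (A i) else 0
  have hBpos : ∀ i, i < e → B i = A i := fun i hi => if_pos hi
  have hBneg : ∀ i, ¬ i < e → B i = 0 := fun i hi => if_neg hi
  have hrpos : ∀ i, i < e → r i = CAlgX.matrixRank (A i) := fun i hi => if_pos hi
  have hrneg : ∀ i, ¬ i < e → r i = 0 := fun i hi => if_neg hi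
  have H : Hyp R e n B r := by
    refine ⟨fun i hi => hBneg i (not_lt.mpr hi), ?_, fun i hi => hrneg i (not_lt.mpr hi), ?_, ?_, ?_⟩
    · intro i
      by_cases hi : i + 1 < e
      · rw [hBpos i (by omega), hBpos (i + 1) hi]
        exact hA i (by omega)
      · rw [hBneg (i + 1) hi, Matrix.mul_zero]
    · intro i hi
      by_cases hi1 : i + 1 < e
      · rw [hrpos i hi, hrpos (i + 1) hi1]
        have h1 : (CAlgX.matrixRank (A i) : ℤ) =
            ∑ t ∈ Finset.Icc (i + 1) e, (-1 : ℤ) ^ (t - (i + 1)) * (n t : ℤ) :=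
          hrank (i + 1) (by omega) (by omega)
        have h2 := hrank (i + 2) (by omega) (by omega)
        have h2' : (CAlgX.matrixRank (A (i + 1)) : ℤ) =
            ∑ t ∈ Finset.Icc (i + 2) e, (-1 : ℤ) ^ (t - (i + 2)) * (n t : ℤ) := h2
        have := alt_sum_add n e i hi1
        rw [← h1, ← h2'] at this
        exact_mod_cast this
      · rw [hrpos i hi, hrneg (i + 1) hi1, add_zero]
        have hie : i + 1 = e := by omega
        have h1 : (CAlgX.matrixRank (A i) : ℤ) =
            ∑ t ∈ Finset.Icc (i + 1) e, (-1 : ℤ) ^ (t - (i + 1)) * (n t : ℤ) :=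
          hrank (i + 1) (by omega) (by omega)
        have hIcc : Finset.Icc (i + 1) e = {i + 1} := by
          ext t
          simp only [Finset.mem_Icc, Finset.mem_singleton]
          omega
        rw [hIcc] at h1
        simp only [Finset.sum_singleton, Nat.sub_self, pow_zero, one_mul] at h1
        exact_mod_cast h1
    · intro i hi
      rw [hBpos i hi, hrpos i hi]
      exact minorIdeal_succ_eq_bot_of_matrixRank (A i)
    · intro i hi
      rw [hBpos i hi, hrpos i hi]
      rcases hdet (i + 1) (by omega) (by omega) with h | ⟨rs, hlen, hmem, hreg⟩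
      · left
        simpa [CAlgX.detIdeal] using h
      · right
        refine ⟨rs, hlen, ?_, hreg.toIsWeaklyRegular⟩
        intro x hx
        have := hmem x hx
        simpa [CAlgX.detIdeal] using this
  have hex : ∀ i, i < e →
      LinearMap.ker (B i).mulVecLin ≤ LinearMap.range (B (i + 1)).mulVecLin := by
    intro i hi
    apply ker_le_range_of_loc
    intro K hK
    have : IsNoetherianRing (Localization.AtPrime K) :=
      IsLocalization.isNoetherianRing K.primeCompl _ inferInstance
    exact local_main _ (Localization.AtPrime K) rfl e n _ r (H.map (Localization.AtPrime K)) i hi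
  constructor
  · have h1 := hex (e - 1) (by omega)
    rw [hBpos (e - 1) (by omega), hBneg (e - 1 + 1) (by omega), Matrix.mulVecLin_zero,
      LinearMap.range_zero] at h1
    exact le_bot_iff.mp h1
  · intro i hi
    apply le_antisymm
    · have h1 := hex i (by omega)
      rw [hBpos i (by omega), hBpos (i + 1) (by omega)] at h1
      exact h1
    · rintro _ ⟨w, rfl⟩
      rw [LinearMap.mem_ker, ← LinearMap.comp_apply, ← Matrix.mulVecLin_mul, hA i hi,
        Matrix.mulVecLin_zero, LinearMap.zero_apply]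

end Groth.Agent.Lib.R2Lead.BE
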