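import Mathlib
import Groth.Agent.Lib.R2LeadBE7
import Groth.Agent.S10890

/-! # Buchsbaum–Eisenbud necessity: splitting over depth-zero local rings -/

set_option autoImplicit false
universe u

namespace Groth.Agent.Lib.R2Lead.BEc

open Matrix Groth.Agent.Lib.R2Lead.BE

section General

variable {R : Type u} [CommRing R]

theorem minorIdeal_eq_h25 {a b : ℕ} (A : Matrix (Fin a) (Fin b) R) (p : ℕ) :
    CAlgX.minorIdeal A p =
      Groth.Agent.Lib.Helper25.minorIdeal (LinearMap.range A.mulVecLin) p :=
  le_antisymm (minorIdeal_le_h25 A p) (h25_le_minorIdeal A p)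

/-- The minor ideals only depend on the column space. -/
theorem minorIdeal_congr_range {a b c : ℕ} (A : Matrix (Fin a) (Fin b) R)
    (A' : Matrix (Fin a) (Fin c) R)
    (h : LinearMap.range A.mulVecLin = LinearMap.range A'.mulVecLin) (p : ℕ) :
    CAlgX.minorIdeal A p = CAlgX.minorIdeal A' p := by
  rw [minorIdeal_eq_h25, minorIdeal_eq_h25, h]

end General

section DepthZero

variable {T : Type u} [CommRing T] [IsLocalRing T] [IsNoetherianRing T]

/-- In a local ring of depth zero every proper ideal has a nonzero annihilator. -/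
theorem annihilator_ne_bot_of_depth_zero
    (hAss : IsLocalRing.maximalIdeal T ∈ associatedPrimes T T) (I : Ideal T) (hI : I ≠ ⊤) :
    I.annihilator ≠ ⊥ := by
  rw [AssociatedPrimes.mem_iff, isAssociatedPrime_iff] at hAss
  obtain ⟨_, y, hy⟩ := hAss
  have hy0 : y ≠ 0 := by
    intro h0
    have : (1 : T) ∈ IsLocalRing.maximalIdeal T := by
      rw [hy, h0, Submodule.mem_colon_singleton, smul_zero]
      exact Submodule.zero_mem _
    exact (IsLocalRing.maximalIdeal.isMaximal T).ne_top ((Ideal.eq_top_iff_one _).mpr this)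
  intro hbot
  apply hy0
  have hmem : y ∈ I.annihilator := by
    rw [Submodule.mem_annihilator]
    intro z hz
    have hz' : z ∈ IsLocalRing.maximalIdeal T := IsLocalRing.le_maximalIdeal hI hz
    rw [hy, Submodule.mem_colon_singleton, Submodule.mem_bot] at hz'
    rw [smul_eq_mul, mul_comm]
    exact hz'
  rw [hbot, Submodule.mem_bot] at hmem
  exact hmem

/-- Over a depth-zero local ring an injective map of finite free modules splits. -/
theorem exists_isCompl_of_injective
    (hAss : IsLocalRing.maximalIdeal T ∈ associatedPrimes T T) {a r : ℕ}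
    (φ : Matrix (Fin a) (Fin r) T) (hinj : Function.Injective φ.mulVecLin) :
    ∃ N' : Submodule T (Fin a → T), IsCompl (LinearMap.range φ.mulVecLin) N' ∧
      Module.finrank T (LinearMap.range φ.mulVecLin) = r := by
  have h1 : CAlgX.minorIdeal φ r = ⊤ := by
    by_contra hne
    exact annihilator_ne_bot_of_depth_zero hAss _ hne
      (Groth.Agent.Helper13McCoy.annihilator_minorIdeal_eq_bot φ hinj)
  have h0 : CAlgX.minorIdeal φ (r + 1) = ⊥ :=
    Groth.Agent.Helper13McCoy.minorIdeal_eq_bot_of_lt φ (r + 1) (Nat.lt_succ_self r)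
  exact Groth.Agent.S10890.Aux.LocRank.backward a r r φ h0 h1

end DepthZero

end Groth.Agent.Lib.R2Lead.BEc
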