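import Mathlib
import Groth.Agent.Lib.R2LeadBEc1

/-! # Buchsbaum–Eisenbud necessity: splitting over depth-zero local rings, II -/

set_option autoImplicit false
universe u

namespace Groth.Agent.Lib.R2Lead.BEc

open Matrix Groth.Agent.Lib.R2Lead.BE

variable {T : Type u} [CommRing T] [IsLocalRing T] [IsNoetherianRing T]

theorem free_of_isCompl {b : ℕ} (K N' : Submodule T (Fin b → T)) (hc : IsCompl K N') :
    Module.Free T K := by
  haveI : Module.Projective T K :=
    Module.Projective.of_split K.subtype (Submodule.linearProjOfIsCompl K N' hc)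
      (Submodule.linearProjOfIsCompl_comp_subtype hc)
  exact Module.free_of_flat_of_isLocalRing

theorem finrank_add_of_isCompl {b : ℕ} (K N' : Submodule T (Fin b → T)) (hc : IsCompl K N') :
    Module.finrank T K + Module.finrank T N' = b := by
  haveI := free_of_isCompl K N' hc
  haveI := free_of_isCompl N' K hc.symm
  have h1 := (Submodule.prodEquivOfIsCompl K N' hc).finrank_eq
  rw [Module.finrank_prod, Module.finrank_fin_fun] at h1
  exact h1

/-- One step of the downward induction. -/
theorem step (hAss : IsLocalRing.maximalIdeal T ∈ associatedPrimes T T) {a b c : ℕ}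
    (P : Matrix (Fin a) (Fin b) T) (Q : Matrix (Fin b) (Fin c) T)
    (hex : LinearMap.ker P.mulVecLin = LinearMap.range Q.mulVecLin)
    (N' : Submodule T (Fin b → T)) (hc : IsCompl (LinearMap.range Q.mulVecLin) N') :
    (∃ N'' : Submodule T (Fin a → T), IsCompl (LinearMap.range P.mulVecLin) N'') ∧
      Module.finrank T (LinearMap.range P.mulVecLin) +
        Module.finrank T (LinearMap.range Q.mulVecLin) = b := by
  classical
  set K := LinearMap.range Q.mulVecLin with hK
  haveI := free_of_isCompl N' K hc.symm
  let eq1 : (LinearMap.range P.mulVecLin) ≃ₗ[T] N' :=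
    (LinearMap.quotKerEquivRange P.mulVecLin).symm.trans
      ((Submodule.quotEquivOfEq _ _ hex).trans (Submodule.quotientEquivOfIsCompl K N' hc))
  haveI : Module.Free T (LinearMap.range P.mulVecLin) := Module.Free.of_equiv eq1.symm
  have hfr : Module.finrank T (LinearMap.range P.mulVecLin) = Module.finrank T N' :=
    eq1.finrank_eq
  have hsum := finrank_add_of_isCompl K N' hc
  refine ⟨?_, by rw [hfr]; omega⟩
  -- a basis of the range of `P`
  let bs := Module.finBasis T (LinearMap.range P.mulVecLin)
  let φ : Matrix (Fin a) (Fin (Module.finrank T (LinearMap.range P.mulVecLin))) T :=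
    Matrix.of (fun i j => ((bs j : LinearMap.range P.mulVecLin) : Fin a → T) i)
  have hcol : φ.col = fun j => (LinearMap.range P.mulVecLin).subtype (bs j) := by
    funext j i
    rfl
  have hrange : LinearMap.range φ.mulVecLin = LinearMap.range P.mulVecLin := by
    rw [Matrix.range_mulVecLin, hcol]
    have : (Set.range fun j => (LinearMap.range P.mulVecLin).subtype (bs j)) =
        (LinearMap.range P.mulVecLin).subtype '' (Set.range bs) := by
      rw [← Set.range_comp]
      rfl
    rw [this, ← Submodule.map_span, bs.span_eq, Submodule.map_top, Submodule.range_subtype]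
  have hinj : Function.Injective φ.mulVecLin := by
    show Function.Injective φ.mulVec
    rw [Matrix.mulVec_injective_iff, hcol]
    exact bs.linearIndependent.map' _ (Submodule.ker_subtype _)
  obtain ⟨N'', hN'', -⟩ := exists_isCompl_of_injective hAss φ hinj
  rw [hrange] at hN''
  exact ⟨N'', hN''⟩

/-- Over a depth-zero Noetherian local ring an exact complex of finite free modules splits:
every map has a complemented range and the ranks add up. -/
theorem depth0_split (hAss : IsLocalRing.maximalIdeal T ∈ associatedPrimes T T)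
    (e : ℕ) (n : ℕ → ℕ) (B : (i : ℕ) → Matrix (Fin (n i)) (Fin (n (i + 1))) T)
    (hzero : B e = 0)
    (hex : ∀ i, i < e → LinearMap.ker (B i).mulVecLin = LinearMap.range (B (i + 1)).mulVecLin) :
    (∀ i, i ≤ e → ∃ N' : Submodule T (Fin (n i) → T),
      IsCompl (LinearMap.range (B i).mulVecLin) N') ∧
    (∀ i, i < e → Module.finrank T (LinearMap.range (B i).mulVecLin) +
        Module.finrank T (LinearMap.range (B (i + 1)).mulVecLin) = n (i + 1)) := by
  have key : ∀ d i, i + d = e → ∃ N' : Submodule T (Fin (n i) → T),
      IsCompl (LinearMap.range (B i).mulVecLin) N' := by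
    intro d
    induction d with
    | zero =>
      intro i hi
      have : i = e := by omega
      subst this
      refine ⟨⊤, ?_⟩
      rw [hzero, Matrix.mulVecLin_zero, LinearMap.range_zero]
      exact isCompl_bot_top
    | succ d ih =>
      intro i hi
      obtain ⟨N', hN'⟩ := ih (i + 1) (by omega)
      exact (step hAss (B i) (B (i + 1)) (hex i (by omega)) N' hN').1
  refine ⟨fun i hi => key (e - i) i (by omega), ?_⟩
  intro i hi
  obtain ⟨N', hN'⟩ := key (e - (i + 1)) (i + 1) (by omega)
  exact (step hAss (B i) (B (i + 1)) (hex i hi) N' hN').2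

/-- Minor ideals of the maps of a split exact complex over a depth-zero local ring. -/
theorem depth0_minors (hAss : IsLocalRing.maximalIdeal T ∈ associatedPrimes T T)
    (e : ℕ) (n : ℕ → ℕ) (B : (i : ℕ) → Matrix (Fin (n i)) (Fin (n (i + 1))) T)
    (hzero : B e = 0)
    (hex : ∀ i, i < e → LinearMap.ker (B i).mulVecLin = LinearMap.range (B (i + 1)).mulVecLin) :
    ∃ ρ : ℕ → ℕ, ρ e = 0 ∧ (∀ i, i < e → ρ i + ρ (i + 1) = n (i + 1)) ∧
      ∀ i, i ≤ e → CAlgX.minorIdeal (B i) (ρ i + 1) = ⊥ ∧ CAlgX.minorIdeal (B i) (ρ i) = ⊤ := by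
  obtain ⟨h1, h2⟩ := depth0_split hAss e n B hzero hex
  refine ⟨fun i => Module.finrank T (LinearMap.range (B i).mulVecLin), ?_, h2, ?_⟩
  · show Module.finrank T (LinearMap.range (B e).mulVecLin) = 0
    rw [hzero, Matrix.mulVecLin_zero, LinearMap.range_zero]
    exact finrank_bot T _
  · intro i hi
    obtain ⟨N', hN'⟩ := h1 i hi
    exact Groth.Agent.S10890.Aux.LocRank.forward _ _ _ (B i) N' hN' rfl

end Groth.Agent.Lib.R2Lead.BEc
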