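import Mathlib
import Groth.Agent.Lib.R2LeadBEc2
import Groth.Agent.Lib.Helper13Vasc1

/-! # Buchsbaum–Eisenbud necessity: passage to the associated primes -/

set_option autoImplicit false
universe u

namespace Groth.Agent.Lib.R2Lead.BEc

open Matrix Groth.Agent.Lib.R2Lead.BE

variable {R : Type u} [CommRing R]

/-- exactness of matrices localizes -/
theorem ker_le_range_map_loc {a b c : ℕ} (P : Matrix (Fin a) (Fin b) R)
    (Q : Matrix (Fin b) (Fin c) R)
    (hex : LinearMap.ker P.mulVecLin ≤ LinearMap.range Q.mulVecLin) (K : Ideal R) [K.IsPrime] :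
    LinearMap.ker ((P.map (algebraMap R (Localization.AtPrime K))).mulVecLin) ≤
      LinearMap.range ((Q.map (algebraMap R (Localization.AtPrime K))).mulVecLin) := by
  classical
  set alg := algebraMap R (Localization.AtPrime K) with halg
  intro z' hz'
  rw [LinearMap.mem_ker, Matrix.mulVecLin_apply] at hz'
  obtain ⟨t, ht⟩ := IsLocalization.exist_integer_multiples_of_finite K.primeCompl z'
  choose z hz using ht
  have hz2 : (alg ∘ z) = (t : R) • z' := by
    funext l
    exact hz l
  -- `P z` maps to zero
  have h1 : ∀ i, alg ((P *ᵥ z) i) = 0 := by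
    intro i
    rw [RingHom.map_mulVec alg P z i, hz2, Matrix.mulVec_smul, hz']
    simp
  have h3 : ∀ i, ∃ s : K.primeCompl, (s : R) * (P *ᵥ z) i = 0 :=
    fun i => (IsLocalization.map_eq_zero_iff K.primeCompl _ _).mp (h1 i)
  choose s hs using h3
  let s0 : K.primeCompl := ∏ i, s i
  have hs0 : ∀ i, (s0 : R) * (P *ᵥ z) i = 0 := by
    intro i
    have hdvd : ((s i : K.primeCompl) : R) ∣ (s0 : R) := by
      show ((s i : K.primeCompl) : R) ∣ ((∏ i, s i : K.primeCompl) : R)
      rw [Submonoid.coe_finsetProd]
      exact Finset.dvd_prod_of_mem (fun i => ((s i : K.primeCompl) : R)) (Finset.mem_univ i)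
    obtain ⟨c', hc'⟩ := hdvd
    rw [hc', mul_comm _ c', mul_assoc, hs i, mul_zero]
  have hker : (s0 : R) • z ∈ LinearMap.ker P.mulVecLin := by
    rw [LinearMap.mem_ker, Matrix.mulVecLin_apply, Matrix.mulVec_smul]
    funext i
    rw [Pi.smul_apply, smul_eq_mul, hs0 i]
    rfl
  obtain ⟨w, hw⟩ := hex hker
  rw [Matrix.mulVecLin_apply] at hw
  -- the unit `alg (s0 * t)`
  have hu : IsUnit (alg ((s0 : R) * (t : R))) :=
    IsLocalization.map_units (Localization.AtPrime K) (s0 * t)
  obtain ⟨u, hu⟩ := hu
  refine ⟨(↑u⁻¹ : Localization.AtPrime K) • (alg ∘ w), ?_⟩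
  rw [Matrix.mulVecLin_apply, Matrix.mulVec_smul]
  have h4 : (Q.map alg) *ᵥ (alg ∘ w) = alg ∘ (Q *ᵥ w) := by
    funext i
    exact (RingHom.map_mulVec alg Q w i).symm
  rw [h4, hw]
  funext i
  simp only [Pi.smul_apply, Function.comp_apply, smul_eq_mul, map_mul]
  have h5 : alg (z i) = alg (t : R) * z' i := by
    have := congrFun hz2 i
    simpa [Algebra.smul_def] using this
  rw [h5]
  have h6 : alg (s0 : R) * alg (t : R) = (u : Localization.AtPrime K) := by
    rw [hu, map_mul]
  calc (↑u⁻¹ : Localization.AtPrime K) * (alg (s0 : R) * (alg (t : R) * z' i))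
      = (↑u⁻¹ : Localization.AtPrime K) * (alg (s0 : R) * alg (t : R)) * z' i := by ring
    _ = z' i := by rw [h6, Units.inv_mul, one_mul]

section Ass

variable [IsNoetherianRing R]

/-- an ideal that dies at every associated prime is zero -/
theorem eq_bot_of_forall_ass (I : Ideal R)
    (h : ∀ (p : Ideal R) [p.IsPrime], p ∈ associatedPrimes R R →
      I.map (algebraMap R (Localization.AtPrime p)) = ⊥) : I = ⊥ := by
  rw [eq_bot_iff]
  intro x hx
  rw [Ideal.mem_bot]
  by_contra hx0
  obtain ⟨p, hp, hle⟩ := exists_le_isAssociatedPrime_of_isNoetherianRing R x hx0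
  haveI : p.IsPrime := hp.isPrime
  have h1 : algebraMap R (Localization.AtPrime p) x = 0 := by
    have : algebraMap R (Localization.AtPrime p) x ∈
        I.map (algebraMap R (Localization.AtPrime p)) := Ideal.mem_map_of_mem _ hx
    rw [h p hp] at this
    exact this
  obtain ⟨u, hu⟩ := (IsLocalization.map_eq_zero_iff p.primeCompl _ _).mp h1
  apply u.2
  apply hle
  rw [Submodule.mem_colon_singleton, Submodule.mem_bot, smul_eq_mul]
  exact hu

/-- an ideal that is the unit ideal at every associated prime contains a regular element -/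
theorem exists_regular_of_forall_ass (I : Ideal R)
    (h : ∀ (p : Ideal R) [p.IsPrime], p ∈ associatedPrimes R R →
      I.map (algebraMap R (Localization.AtPrime p)) = ⊤) :
    ∃ x ∈ I, IsSMulRegular R x := by
  classical
  by_contra hcon
  push Not at hcon
  have hsub : ((I : Ideal R) : Set R) ⊆ ⋃ p ∈ associatedPrimes R R, (p : Set R) := by
    rw [biUnion_associatedPrimes_eq_compl_regular]
    intro z hz
    exact hcon z hz
  obtain ⟨P, hP, hle⟩ := (Ideal.subset_union_prime_finite (associatedPrimes.finite R R)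
    (f := id) 0 0 (fun _ h _ _ => h.1)).1 hsub
  haveI : P.IsPrime := (AssociatedPrimes.mem_iff.mp hP).isPrime
  have h1 := h P hP
  have h2 : I.map (algebraMap R (Localization.AtPrime P)) ≤
      IsLocalRing.maximalIdeal (Localization.AtPrime P) := by
    rw [Ideal.map_le_iff_le_comap]
    have h3 : Ideal.comap (algebraMap R (Localization.AtPrime P))
        (IsLocalRing.maximalIdeal (Localization.AtPrime P)) = P :=
      Localization.AtPrime.under_maximalIdeal
    rw [h3]
    exact hle
  rw [h1] at h2
  exact (IsLocalRing.maximalIdeal.isMaximal _).ne_top (top_le_iff.mp h2)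

end Ass

end Groth.Agent.Lib.R2Lead.BEc
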