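import Mathlib
import Groth.Agent.Lib.R2LeadBEc3

/-! # Buchsbaum–Eisenbud necessity: the rank part -/

set_option autoImplicit false
universe u

namespace Groth.Agent.Lib.R2Lead.BEc

open Matrix Groth.Agent.Lib.R2Lead.BE

variable {R : Type u} [CommRing R]

theorem mul_eq_zero_of_range_le_ker {a b c : ℕ} (P : Matrix (Fin a) (Fin b) R)
    (Q : Matrix (Fin b) (Fin c) R)
    (h : LinearMap.range Q.mulVecLin ≤ LinearMap.ker P.mulVecLin) : P * Q = 0 := by
  classical
  ext i j
  have h1 : Q.mulVecLin (Pi.single j 1) ∈ LinearMap.ker P.mulVecLin := h ⟨_, rfl⟩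
  rw [LinearMap.mem_ker, Matrix.mulVecLin_apply, Matrix.mulVecLin_apply,
    Matrix.mulVec_mulVec] at h1
  have h2 := congrFun h1 i
  simpa using h2

theorem rho_unique (e : ℕ) (n : ℕ → ℕ) (ρ ρ' : ℕ → ℕ) (h0 : ρ e = 0) (h0' : ρ' e = 0)
    (h : ∀ i, i < e → ρ i + ρ (i + 1) = n (i + 1))
    (h' : ∀ i, i < e → ρ' i + ρ' (i + 1) = n (i + 1)) : ∀ i, i ≤ e → ρ i = ρ' i := by
  have key : ∀ d i, i + d = e → ρ i = ρ' i := by
    intro d
    induction d with
    | zero =>
      intro i hi
      have : i = e := by omega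
      rw [this, h0, h0']
    | succ d ih =>
      intro i hi
      have h1 := ih (i + 1) (by omega)
      have h2 := h i (by omega)
      have h3 := h' i (by omega)
      omega
  intro i hi
  exact key (e - i) i (by omega)

theorem rank_part [IsNoetherianRing R] [Nontrivial R]
    (e : ℕ) (n : ℕ → ℕ) (B : (i : ℕ) → Matrix (Fin (n i)) (Fin (n (i + 1))) R)
    (hzero : B e = 0)
    (hex : ∀ i, i < e → LinearMap.ker (B i).mulVecLin = LinearMap.range (B (i + 1)).mulVecLin) :
    ∃ ρ : ℕ → ℕ, ρ e = 0 ∧ (∀ i, i < e → ρ i + ρ (i + 1) = n (i + 1)) ∧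
      ∀ i, i ≤ e → CAlgX.minorIdeal (B i) (ρ i + 1) = ⊥ ∧
        ∃ x ∈ CAlgX.minorIdeal (B i) (ρ i), IsSMulRegular R x := by
  classical
  have hloc : ∀ (p : Ideal R) [p.IsPrime], p ∈ associatedPrimes R R →
      ∃ ρ : ℕ → ℕ, ρ e = 0 ∧ (∀ i, i < e → ρ i + ρ (i + 1) = n (i + 1)) ∧
        ∀ i, i ≤ e →
          (CAlgX.minorIdeal (B i) (ρ i + 1)).map (algebraMap R (Localization.AtPrime p)) = ⊥ ∧
          (CAlgX.minorIdeal (B i) (ρ i)).map (algebraMap R (Localization.AtPrime p)) = ⊤ := by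
    intro p _ hp
    haveI : IsNoetherianRing (Localization.AtPrime p) :=
      IsLocalization.isNoetherianRing p.primeCompl _ inferInstance
    have hAss := Groth.Agent.Helper13Vasc.maximalIdeal_mem_associatedPrimes_atPrime p hp
    obtain ⟨ρ, h0, h1, h2⟩ := depth0_minors hAss e n
      (fun i => (B i).map (algebraMap R (Localization.AtPrime p)))
      (by
        show (B e).map (algebraMap R (Localization.AtPrime p)) = 0
        rw [hzero]
        ext a b
        simp)
      (by
        intro i hi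
        apply le_antisymm
        · exact ker_le_range_map_loc (B i) (B (i + 1)) (hex i hi).le p
        · rintro _ ⟨w, rfl⟩
          rw [LinearMap.mem_ker, ← LinearMap.comp_apply, ← Matrix.mulVecLin_mul,
            ← Matrix.map_mul, mul_eq_zero_of_range_le_ker (B i) (B (i + 1)) (hex i hi).ge]
          have : ((0 : Matrix (Fin (n i)) (Fin (n (i + 1 + 1))) R).map
              (algebraMap R (Localization.AtPrime p))) = 0 := by
            ext a b
            simp
          rw [this, Matrix.mulVecLin_zero, LinearMap.zero_apply])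
    refine ⟨ρ, h0, h1, ?_⟩
    intro i hi
    obtain ⟨h3, h4⟩ := h2 i hi
    rw [minorIdeal_map] at h3 h4
    exact ⟨h3, h4⟩
  obtain ⟨p₀, hp₀⟩ := associatedPrimes.nonempty R R
  haveI : p₀.IsPrime := (AssociatedPrimes.mem_iff.mp hp₀).isPrime
  obtain ⟨ρ, h0, h1, -⟩ := hloc p₀ hp₀
  refine ⟨ρ, h0, h1, ?_⟩
  intro i hi
  constructor
  · apply eq_bot_of_forall_ass
    intro p _ hp
    obtain ⟨ρ', h0', h1', h2'⟩ := hloc p hp
    rw [rho_unique e n ρ ρ' h0 h0' h1 h1' i hi]
    exact (h2' i hi).1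
  · apply exists_regular_of_forall_ass
    intro p _ hp
    obtain ⟨ρ', h0', h1', h2'⟩ := hloc p hp
    rw [rho_unique e n ρ ρ' h0 h0' h1 h1' i hi]
    exact (h2' i hi).2

end Groth.Agent.Lib.R2Lead.BEc
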