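import Mathlib
import Groth.Agent.Lib.R2LeadBEc4

/-! # Buchsbaum–Eisenbud necessity: reduction modulo a regular element -/

set_option autoImplicit false
universe u

namespace Groth.Agent.Lib.R2Lead.BEc

open Matrix RingTheory.Sequence Groth.Agent.Lib.R2Lead.BE Pointwise

variable {R : Type u} [CommRing R]

/-- exactness one step to the left survives reduction modulo a regular element -/
theorem modx_exact (x : R) (hx : IsSMulRegular R x) {a b c d : ℕ}
    (P : Matrix (Fin a) (Fin b) R) (Q : Matrix (Fin b) (Fin c) R) (S : Matrix (Fin c) (Fin d) R)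
    (hPQ : LinearMap.ker P.mulVecLin ≤ LinearMap.range Q.mulVecLin) (h0 : P * Q = 0)
    (hQS : LinearMap.ker Q.mulVecLin ≤ LinearMap.range S.mulVecLin) :
    LinearMap.ker (Q.map (Ideal.Quotient.mk (Ideal.span {x}))).mulVecLin ≤
      LinearMap.range (S.map (Ideal.Quotient.mk (Ideal.span {x}))).mulVecLin := by
  classical
  set mk := Ideal.Quotient.mk (Ideal.span {x}) with hmk
  intro zb hzb
  rw [LinearMap.mem_ker, Matrix.mulVecLin_apply] at hzb
  have hsurj : ∀ i, ∃ r : R, mk r = zb i := fun i => Ideal.Quotient.mk_surjective (zb i)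
  choose z hz using hsurj
  have hzb' : zb = mk ∘ z := by
    funext i
    exact (hz i).symm
  -- `Q z` is divisible by `x`
  have h1 : ∀ i, ∃ w : R, (Q *ᵥ z) i = x * w := by
    intro i
    have h2 : mk ((Q *ᵥ z) i) = 0 := by
      rw [RingHom.map_mulVec mk Q z i, ← hzb', hzb]
      rfl
    rw [Ideal.Quotient.eq_zero_iff_mem, Ideal.mem_span_singleton'] at h2
    obtain ⟨w, hw⟩ := h2
    exact ⟨w, by rw [← hw, mul_comm]⟩
  choose w hw using h1
  have hQz : Q *ᵥ z = x • w := by
    funext i
    rw [hw i]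
    rfl
  -- `P w = 0`
  have hPw : P *ᵥ w = 0 := by
    have h3 : x • (P *ᵥ w) = 0 := by
      rw [← Matrix.mulVec_smul, ← hQz, Matrix.mulVec_mulVec, h0, Matrix.zero_mulVec]
    funext i
    have h4 := congrFun h3 i
    rw [Pi.smul_apply, Pi.zero_apply] at h4
    apply hx
    show x • (P *ᵥ w) i = x • (0 : Fin a → R) i
    rw [h4, Pi.zero_apply, smul_zero]
  obtain ⟨z', hz'⟩ := hPQ (show w ∈ LinearMap.ker P.mulVecLin by
    rw [LinearMap.mem_ker, Matrix.mulVecLin_apply, hPw])
  rw [Matrix.mulVecLin_apply] at hz'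
  have hker : z - x • z' ∈ LinearMap.ker Q.mulVecLin := by
    rw [LinearMap.mem_ker, Matrix.mulVecLin_apply, Matrix.mulVec_sub, Matrix.mulVec_smul, hz', hQz,
      sub_self]
  obtain ⟨u, hu⟩ := hQS hker
  rw [Matrix.mulVecLin_apply] at hu
  refine ⟨mk ∘ u, ?_⟩
  rw [Matrix.mulVecLin_apply, hzb']
  funext i
  rw [← RingHom.map_mulVec mk S u i, hu]
  simp only [Pi.sub_apply, Pi.smul_apply, smul_eq_mul, map_sub, map_mul, Function.comp_apply]
  have : mk x = 0 := by
    rw [Ideal.Quotient.eq_zero_iff_mem]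
    exact Ideal.mem_span_singleton_self x
  rw [this, zero_mul, sub_zero]

/-- lifting a list along a surjection, inside an ideal -/
theorem exists_lift_list {S : Type u} [CommRing S] (I : Ideal R) (f : R →+* S)
    (hf : Function.Surjective f) (l : List S) (hl : ∀ y ∈ l, y ∈ I.map f) :
    ∃ l' : List R, l'.map f = l ∧ ∀ y ∈ l', y ∈ I := by
  induction l with
  | nil => exact ⟨[], rfl, by simp⟩
  | cons y l ih =>
    obtain ⟨l', hl', hmem⟩ := ih (fun y hy => hl y (List.mem_cons_of_mem _ hy))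
    obtain ⟨y', hy', hyy'⟩ := (Ideal.mem_map_iff_of_surjective f hf).mp
      (hl y (List.mem_cons_self ..))
    refine ⟨y' :: l', by simp [hl', hyy'], ?_⟩
    intro t ht
    rcases List.mem_cons.mp ht with rfl | ht
    · exact hy'
    · exact hmem t ht

/-- a regular sequence modulo a regular element lifts to a weakly regular sequence -/
theorem isWeaklyRegular_cons_of_quot (x : R) (hx : IsSMulRegular R x) (ys : List R)
    (h : IsWeaklyRegular (R ⧸ Ideal.span {x})
      (ys.map (Ideal.Quotient.mk (Ideal.span {x})))) :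
    IsWeaklyRegular R (x :: ys) := by
  rw [isWeaklyRegular_cons_iff]
  refine ⟨hx, ?_⟩
  have h1 : IsWeaklyRegular (R ⧸ Ideal.span {x}) ys :=
    (isWeaklyRegular_map_algebraMap_iff (S := R ⧸ Ideal.span {x}) (M := R ⧸ Ideal.span {x})
      ys).mp h
  have heq : (x • (⊤ : Submodule R R)) = Ideal.span {x} := by
    ext y
    rw [Submodule.mem_smul_pointwise_iff_exists, Ideal.mem_span_singleton']
    constructor
    · rintro ⟨z, -, hz⟩
      exact ⟨z, by rw [← hz, smul_eq_mul, mul_comm]⟩
    · rintro ⟨z, hz⟩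
      exact ⟨z, trivial, by rw [← hz, smul_eq_mul, mul_comm]⟩
  exact ((Submodule.quotEquivOfEq _ _ heq).isWeaklyRegular_congr ys).mpr h1

end Groth.Agent.Lib.R2Lead.BEc
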