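import Mathlib
import Groth.Agent.Lib.R2LeadBEc5

/-! # Buchsbaum–Eisenbud necessity: the depth part -/

set_option autoImplicit false
universe u

namespace Groth.Agent.Lib.R2Lead.BEc

open Matrix RingTheory.Sequence Groth.Agent.Lib.R2Lead.BE

theorem depth_part : ∀ (e : ℕ) (R : Type u) [CommRing R] [IsLocalRing R] [IsNoetherianRing R]
    (n : ℕ → ℕ) (B : (i : ℕ) → Matrix (Fin (n i)) (Fin (n (i + 1))) R), B e = 0 →
    (∀ i, i < e → LinearMap.ker (B i).mulVecLin = LinearMap.range (B (i + 1)).mulVecLin) →
    ∀ ρ : ℕ → ℕ, ρ e = 0 → (∀ i, i < e → ρ i + ρ (i + 1) = n (i + 1)) →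
    ∀ i, i < e → CAlgX.minorIdeal (B i) (ρ i) = ⊤ ∨
      ∃ rs : List R, rs.length = i + 1 ∧ (∀ x ∈ rs, x ∈ CAlgX.minorIdeal (B i) (ρ i)) ∧
        IsRegular R rs := by
  intro e
  induction e with
  | zero =>
    intro R _ _ _ n B _ _ ρ _ _ i hi
    omega
  | succ e ih =>
    intro R _ _ _ n B hzero hex ρ h0 h1 i hi
    classical
    obtain ⟨ρ', h0', h1', h2'⟩ := rank_part (e + 1) n B hzero hex
    have hρ : ∀ k, k ≤ e + 1 → ρ' k = ρ k := rho_unique (e + 1) n ρ' ρ h0' h0 h1' h1
    have hreg : ∀ k, k ≤ e + 1 → ∃ x ∈ CAlgX.minorIdeal (B k) (ρ k), IsSMulRegular R x := by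
      intro k hk
      rw [← hρ k hk]
      exact (h2' k hk).2
    let a : ℕ → R := fun k => if hk : k ≤ e + 1 then (hreg k hk).choose else 1
    have ha_mem : ∀ k, k ≤ e + 1 → a k ∈ CAlgX.minorIdeal (B k) (ρ k) := by
      intro k hk
      simp only [a, dif_pos hk]
      exact (hreg k hk).choose_spec.1
    have ha_reg : ∀ k, IsSMulRegular R (a k) := by
      intro k
      by_cases hk : k ≤ e + 1
      · simp only [a, dif_pos hk]
        exact (hreg k hk).choose_spec.2
      · simp only [a, dif_neg hk]
        exact IsSMulRegular.one R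
    set x : R := ∏ k ∈ Finset.range (e + 1), a k with hx
    have hx_reg : IsSMulRegular R x :=
      Finset.prod_induction a (fun r => IsSMulRegular R r) (fun r s hr hs => hr.mul hs)
        (IsSMulRegular.one R) (fun k _ => ha_reg k)
    have hx_mem : ∀ k, k ≤ e → x ∈ CAlgX.minorIdeal (B k) (ρ k) := by
      intro k hk
      exact Ideal.prod_mem _ (Finset.mem_range.mpr (by omega)) (ha_mem k (by omega))
    by_cases htop : CAlgX.minorIdeal (B i) (ρ i) = ⊤
    · exact Or.inl htop
    right
    have hIm : CAlgX.minorIdeal (B i) (ρ i) ≤ IsLocalRing.maximalIdeal R :=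
      IsLocalRing.le_maximalIdeal htop
    have hxm : x ∈ IsLocalRing.maximalIdeal R := hIm (hx_mem i (by omega))
    rcases Nat.eq_zero_or_pos i with hi0 | hipos
    · subst hi0
      refine ⟨[x], rfl, ?_, ?_⟩
      · intro y hy
        rw [List.mem_singleton] at hy
        rw [hy]
        exact hx_mem 0 (by omega)
      · apply IsRegular.of_isWeaklyRegular_of_mem_maximalIdeal
        · intro y hy
          rw [List.mem_singleton] at hy
          rw [hy]
          exact hxm
        · exact (isWeaklyRegular_singleton_iff R x).mpr hx_reg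
    · obtain ⟨j, rfl⟩ : ∃ j, i = j + 1 := ⟨i - 1, by omega⟩
      have hj : j < e := by omega
      -- the quotient ring
      have hne : Ideal.span {x} ≠ (⊤ : Ideal R) := by
        intro h
        have : Ideal.span {x} ≤ IsLocalRing.maximalIdeal R :=
          (Ideal.span_singleton_le_iff_mem _).mpr hxm
        rw [h] at this
        exact (IsLocalRing.maximalIdeal.isMaximal R).ne_top (top_le_iff.mp this)
      haveI : Nontrivial (R ⧸ Ideal.span {x}) := Ideal.Quotient.nontrivial_iff.mpr hne
      haveI : IsLocalRing (R ⧸ Ideal.span {x}) :=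
        IsLocalRing.of_surjective' (Ideal.Quotient.mk (Ideal.span {x}))
          Ideal.Quotient.mk_surjective
      set mk := Ideal.Quotient.mk (Ideal.span {x}) with hmk
      have hmap0 : ∀ {p q : ℕ}, ((0 : Matrix (Fin p) (Fin q) R).map mk) = 0 := by
        intro p q
        ext s t
        simp
      have IH := ih (R ⧸ Ideal.span {x}) (fun k => n (k + 1)) (fun k => (B (k + 1)).map mk)
        (by
          show (B (e + 1)).map mk = 0
          rw [hzero]
          exact hmap0)
        (by
          intro k hk
          apply le_antisymm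
          · exact modx_exact x hx_reg (B k) (B (k + 1)) (B (k + 1 + 1)) (hex k (by omega)).le
              (mul_eq_zero_of_range_le_ker (B k) (B (k + 1)) (hex k (by omega)).ge)
              (hex (k + 1) (by omega)).le
          · rintro _ ⟨w, rfl⟩
            rw [LinearMap.mem_ker, ← LinearMap.comp_apply, ← Matrix.mulVecLin_mul,
              ← Matrix.map_mul,
              mul_eq_zero_of_range_le_ker (B (k + 1)) (B (k + 1 + 1)) (hex (k + 1) (by omega)).ge,
              hmap0, Matrix.mulVecLin_zero, LinearMap.zero_apply])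
        (fun k => ρ (k + 1)) h0 (fun k hk => h1 (k + 1) (by omega)) j hj
      have hmapI : CAlgX.minorIdeal ((B (j + 1)).map mk) (ρ (j + 1)) =
          (CAlgX.minorIdeal (B (j + 1)) (ρ (j + 1))).map mk := minorIdeal_map mk _ _
      rcases IH with h | ⟨rsb, hlen, hmem, hreg'⟩
      · exfalso
        apply htop
        rw [hmapI] at h
        have h1mem : (1 : R ⧸ Ideal.span {x}) ∈
            (CAlgX.minorIdeal (B (j + 1)) (ρ (j + 1))).map mk := h ▸ Submodule.mem_top
        obtain ⟨y, hy, hy1⟩ := (Ideal.mem_map_iff_of_surjective mk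
          Ideal.Quotient.mk_surjective).mp h1mem
        have h3 : y - 1 ∈ Ideal.span {x} := by
          rw [← Ideal.Quotient.eq_zero_iff_mem, map_sub, hy1, map_one, sub_self]
        have h4 : y - 1 ∈ CAlgX.minorIdeal (B (j + 1)) (ρ (j + 1)) :=
          (Ideal.span_singleton_le_iff_mem _).mpr (hx_mem (j + 1) (by omega)) h3
        rw [Ideal.eq_top_iff_one]
        have : (1 : R) = y - (y - 1) := by ring
        rw [this]
        exact Ideal.sub_mem _ hy h4
      · obtain ⟨ys, hys, hysmem⟩ := exists_lift_list
          (CAlgX.minorIdeal (B (j + 1)) (ρ (j + 1))) mk Ideal.Quotient.mk_surjective rsb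
          (fun y hy => hmapI ▸ hmem y hy)
        refine ⟨x :: ys, ?_, ?_, ?_⟩
        · rw [List.length_cons, ← hlen, ← hys, List.length_map]
        · intro y hy
          rcases List.mem_cons.mp hy with rfl | hy
          · exact hx_mem (j + 1) (by omega)
          · exact hysmem y hy
        · apply IsRegular.of_isWeaklyRegular_of_mem_maximalIdeal
          · intro y hy
            rcases List.mem_cons.mp hy with rfl | hy
            · exact hxm
            · exact hIm (hysmem y hy)
          · apply isWeaklyRegular_cons_of_quot x hx_reg ys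
            rw [hys]
            exact hreg'.toIsWeaklyRegular

end Groth.Agent.Lib.R2Lead.BEc
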