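import Mathlib
import Groth.Agent.Lib.R2LeadBEc6

/-! # Buchsbaum–Eisenbud: the criterion over a Noetherian local ring -/

set_option autoImplicit false
universe u

namespace Groth.Agent.Lib.R2Lead.BEc

open Matrix RingTheory.Sequence Groth.Agent.Lib.R2Lead.BE

variable {R : Type u} [CommRing R]

theorem minorIdeal_succ_le {a b : ℕ} (A : Matrix (Fin a) (Fin b) R) (t : ℕ) :
    CAlgX.minorIdeal A (t + 1) ≤ CAlgX.minorIdeal A t := by
  unfold CAlgX.minorIdeal
  rw [Ideal.span_le]
  rintro _ ⟨⟨f, g⟩, rfl⟩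
  show det (A.submatrix f g) ∈ Ideal.span _
  rw [Matrix.det_succ_row_zero]
  refine Ideal.sum_mem _ (fun j _ => Ideal.mul_mem_left _ _ ?_)
  apply Ideal.subset_span
  refine ⟨(f ∘ Fin.succ, g ∘ j.succAbove), ?_⟩
  rfl

theorem minorIdeal_eq_bot_of_le {a b : ℕ} (A : Matrix (Fin a) (Fin b) R) (t : ℕ)
    (h : CAlgX.minorIdeal A t = ⊥) : ∀ s, t ≤ s → CAlgX.minorIdeal A s = ⊥ := by
  intro s hs
  induction s, hs using Nat.le_induction with
  | base => exact h
  | succ s _ ih => exact le_bot_iff.mp (ih ▸ minorIdeal_succ_le A s)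

theorem matrixRank_eq_of {a b : ℕ} (A : Matrix (Fin a) (Fin b) R) (r : ℕ)
    (h1 : CAlgX.minorIdeal A r ≠ ⊥) (h2 : CAlgX.minorIdeal A (r + 1) = ⊥) :
    CAlgX.matrixRank A = r := by
  unfold CAlgX.matrixRank
  apply IsGreatest.csSup_eq
  refine ⟨h1, ?_⟩
  intro s hs
  by_contra hlt
  rw [not_le] at hlt
  exact hs (minorIdeal_eq_bot_of_le A (r + 1) h2 s hlt)

/-- the alternating sums satisfy the rank recursion -/
theorem alt_sum_rec (n : ℕ → ℕ) (e : ℕ) (ρ : ℕ → ℕ) (h0 : ρ e = 0)
    (h1 : ∀ i, i < e → ρ i + ρ (i + 1) = n (i + 1)) :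
    ∀ i, i ≤ e → (ρ i : ℤ) = ∑ t ∈ Finset.Icc (i + 1) e, (-1 : ℤ) ^ (t - (i + 1)) * (n t : ℤ) := by
  have key : ∀ d i, i + d = e →
      (ρ i : ℤ) = ∑ t ∈ Finset.Icc (i + 1) e, (-1 : ℤ) ^ (t - (i + 1)) * (n t : ℤ) := by
    intro d
    induction d with
    | zero =>
      intro i hi
      have : i = e := by omega
      subst this
      rw [h0]
      have : Finset.Icc (i + 1) i = ∅ := Finset.Icc_eq_empty (by omega)
      rw [this]
      simp
    | succ d ih =>
      intro i hi
      have h2 := ih (i + 1) (by omega)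
      have h3 := h1 i (by omega)
      have h3' : (ρ i : ℤ) = (n (i + 1) : ℤ) - (ρ (i + 1) : ℤ) := by
        have : (ρ i : ℤ) + (ρ (i + 1) : ℤ) = (n (i + 1) : ℤ) := by exact_mod_cast h3
        linarith
      rw [h3', h2]
      by_cases hi1 : i + 1 < e
      · have := alt_sum_add n e i hi1
        linarith
      · have hie : i + 1 = e := by omega
        have hIcc : Finset.Icc (i + 1) e = {i + 1} := by
          ext t
          simp only [Finset.mem_Icc, Finset.mem_singleton]
          omega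
        have hIcc2 : Finset.Icc (i + 1 + 1) e = ∅ := Finset.Icc_eq_empty (by omega)
        rw [hIcc, hIcc2]
        simp
  intro i hi
  exact key (e - i) i (by omega)

theorem criterion [IsLocalRing R] [IsNoetherianRing R]
    (e : ℕ) (he : 1 ≤ e) (n : ℕ → ℕ) (A : (i : ℕ) → Matrix (Fin (n i)) (Fin (n (i + 1))) R)
    (hA : ∀ i, i + 2 ≤ e → A i * A (i + 1) = 0) :
    (LinearMap.ker (A (e - 1)).mulVecLin = ⊥ ∧
        ∀ i, i + 2 ≤ e → LinearMap.ker (A i).mulVecLin = LinearMap.range (A (i + 1)).mulVecLin) ↔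
      ∀ j, 1 ≤ j → j ≤ e →
        (CAlgX.matrixRank (A (j - 1)) : ℤ) = ∑ t ∈ Finset.Icc j e, (-1 : ℤ) ^ (t - j) * (n t : ℤ) ∧
          (CAlgX.detIdeal (A (j - 1)) = ⊤ ∨
            ∃ rs : List R, rs.length = j ∧ (∀ r ∈ rs, r ∈ CAlgX.detIdeal (A (j - 1))) ∧
              RingTheory.Sequence.IsRegular R rs) := by
  classical
  constructor
  · rintro ⟨hinj, hexA⟩
    let B : (i : ℕ) → Matrix (Fin (n i)) (Fin (n (i + 1))) R := fun i => if i < e then A i else 0
    have hBpos : ∀ i, i < e → B i = A i := fun i hi => if_pos hi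
    have hBneg : ∀ i, ¬ i < e → B i = 0 := fun i hi => if_neg hi
    have hzero : B e = 0 := hBneg e (lt_irrefl e)
    have hex : ∀ i, i < e →
        LinearMap.ker (B i).mulVecLin = LinearMap.range (B (i + 1)).mulVecLin := by
      intro i hi
      by_cases hi1 : i + 1 < e
      · rw [hBpos i hi, hBpos (i + 1) hi1]
        exact hexA i (by omega)
      · have hie : i = e - 1 := by omega
        rw [hBpos i hi, hBneg (i + 1) hi1, Matrix.mulVecLin_zero, LinearMap.range_zero, hie]
        exact hinj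
    obtain ⟨ρ, h0, h1, h2⟩ := rank_part e n B hzero hex
    have h3 := depth_part e R n B hzero hex ρ h0 h1
    have hsum := alt_sum_rec n e ρ h0 h1
    have key : ∀ i j', j' = i + 1 → i < e →
        (CAlgX.matrixRank (A i) : ℤ) =
          ∑ t ∈ Finset.Icc j' e, (-1 : ℤ) ^ (t - j') * (n t : ℤ) ∧
        (CAlgX.detIdeal (A i) = ⊤ ∨
          ∃ rs : List R, rs.length = j' ∧ (∀ r ∈ rs, r ∈ CAlgX.detIdeal (A i)) ∧
            RingTheory.Sequence.IsRegular R rs) := by
      intro i j' hj' hi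
      subst hj'
      have hBi := hBpos i hi
      obtain ⟨hbot, x, hxmem, hxreg⟩ := h2 i (by omega)
      rw [hBi] at hbot hxmem
      have hne : CAlgX.minorIdeal (A i) (ρ i) ≠ ⊥ := by
        intro hb
        rw [hb, Ideal.mem_bot] at hxmem
        rw [hxmem] at hxreg
        exact (IsSMulRegular.not_zero_iff.mpr inferInstance) hxreg
      have hrank : CAlgX.matrixRank (A i) = ρ i := matrixRank_eq_of (A i) (ρ i) hne hbot
      refine ⟨by rw [hrank]; exact hsum i (by omega), ?_⟩
      have hdet : CAlgX.detIdeal (A i) = CAlgX.minorIdeal (A i) (ρ i) := by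
        unfold CAlgX.detIdeal
        rw [hrank]
      rw [hdet]
      have h4 := h3 i hi
      rw [hBi] at h4
      exact h4
    intro j hj1 hje
    exact key (j - 1) j (by omega) (by omega)
  · intro H
    exact global_main e he n A hA (fun j h1 h2 => (H j h1 h2).1) (fun j h1 h2 => (H j h1 h2).2)

end Groth.Agent.Lib.R2Lead.BEc
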