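import Mathlib
import Groth.Agent.S7163
import Groth.Agent.S7113
import Groth.Agent.S19544

/-!
# Bass cancellation via Serre's general position argument

Lead seat, round 2.  Builds on the auxiliary lemmas of `Groth.Agent.S7163` (Serre's splitting
proposition).  Main results:
* `rclaim`: general position for sections of the form `p + r • p₀`.
* `bass_lemma`: if `(p, r)` is unimodular in `M ⊕ R` and `V(x)` has dimension `> dim Max R`
  everywhere, then `p + r • p₀` is unimodular in `M` for some `p₀`.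
* `cancel_one`: `P ⊕ R ≅ P' ⊕ R` implies `P ≅ P'` under the rank hypothesis.
* `cancel_many`: cancellation of `R^m` for finite projective modules of constant rank `> dim R`.
-/

set_option autoImplicit false
universe u

namespace Groth.Agent.Lib.R2Lead.BassCancel

open Groth.Agent.S7163.Aux

section general

theorem add_smul_ne_zero_of_li {K V : Type*} [Field K] [AddCommGroup V] [Module K V] (p q : V)
    (c : K) (hli : LinearIndependent K (Fin.snoc (fun _ : Fin 1 => p) q : Fin (1 + 1) → V)) :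
    p + c • q ≠ 0 := by
  rw [linearIndependent_finSnoc] at hli
  obtain ⟨h1, hq⟩ := hli
  have hp : p ≠ 0 := h1.ne_zero 0
  intro h0
  by_cases hc : c = 0
  · rw [hc, zero_smul, add_zero] at h0
    exact hp h0
  · apply hq
    have h1 : c • q = -p := eq_neg_of_add_eq_zero_right h0
    have h2 : q = c⁻¹ • (-p) := by
      rw [← h1, smul_smul, inv_mul_cancel₀ hc, one_smul]
    rw [h2]
    exact Submodule.smul_mem _ _ (Submodule.neg_mem _ (Submodule.subset_span ⟨0, rfl⟩))

end general

section serre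

variable (R : Type u) [CommRing R] (M : Type u) [AddCommGroup M] [Module R M]

theorem isClosed_zero (t : M) : IsClosed {x : MaximalSpectrum R | img R M x t = 0} := by
  have hset : {x : MaximalSpectrum R | img R M x t = 0} =
      MaximalSpectrum.toPrimeSpectrum ⁻¹' PrimeSpectrum.zeroLocus
        {a : R | ∃ φ : M →ₗ[R] R, a = φ t} := by
    ext x
    rw [Set.mem_setOf_eq, img_eq_zero_iff, Set.mem_preimage, PrimeSpectrum.mem_zeroLocus]
    constructor
    · rintro h a ⟨φ, rfl⟩
      exact h φ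
    · intro h φ
      exact h ⟨φ, rfl⟩
  rw [hset]
  exact (PrimeSpectrum.isClosed_zeroLocus _).preimage MaximalSpectrum.toPrimeSpectrum_continuous

/-- a closed set all of whose irreducible closed subsets have codimension `> dim` is empty -/
theorem empty_of_coheight (d : ℕ) (hdim : topologicalKrullDim (MaximalSpectrum R) ≤ d)
    (F' : Set (MaximalSpectrum R))
    (hc : ∀ Z : TopologicalSpace.IrreducibleCloseds (MaximalSpectrum R),
      (Z : Set (MaximalSpectrum R)) ⊆ F' → ((d + 1 : ℕ) : ℕ∞) ≤ Order.coheight Z) :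
    ∀ x, x ∉ F' := by
  intro x hx
  let Zx : TopologicalSpace.IrreducibleCloseds (MaximalSpectrum R) :=
    ⟨{x}, isIrreducible_singleton, isClosed_singleton⟩
  have h1 := hc Zx (by
    intro y hy
    rw [Set.mem_singleton_iff.mp hy]
    exact hx)
  have h2 : (Order.coheight Zx : WithBot ℕ∞) ≤ topologicalKrullDim (MaximalSpectrum R) :=
    Order.coheight_le_krullDim Zx
  have h3 : (Order.coheight Zx : WithBot ℕ∞) ≤ ((d : ℕ∞) : WithBot ℕ∞) := by
    simpa using h2.trans hdim
  have h4 : ((d + 1 : ℕ) : ℕ∞) ≤ (d : ℕ∞) := h1.trans (WithBot.coe_le_coe.mp h3)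
  have h5 : (d + 1 : ℕ) ≤ d := by exact_mod_cast h4
  omega

/-- an element nonzero in every `V(x)` is unimodular -/
theorem exists_functional_eq_one (t : M) (h : ∀ x : MaximalSpectrum R, img R M x t ≠ 0) :
    ∃ χ : M →ₗ[R] R, χ t = 1 := by
  let I : Ideal R := LinearMap.range (LinearMap.applyₗ t : (M →ₗ[R] R) →ₗ[R] R)
  have hI : I = ⊤ := by
    by_contra hIne
    obtain ⟨mx, hmx, hImx⟩ := Ideal.exists_le_maximal I hIne
    apply h ⟨mx, hmx⟩
    rw [img_eq_zero_iff]
    intro φ
    exact hImx ⟨φ, rfl⟩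
  have h1 : (1 : R) ∈ I := by
    rw [hI]
    exact Submodule.mem_top
  obtain ⟨φ, hφ⟩ := h1
  exact ⟨φ, hφ⟩

theorem rclaim [TopologicalSpace.NoetherianSpace (MaximalSpectrum R)] (p : M) (r : R)
    (hpr : ∀ x : MaximalSpectrum R, r ∈ x.asIdeal → img R M x p ≠ 0) (k : ℕ)
    (hrank : ∀ x : MaximalSpectrum R, k ≤ Module.finrank (R ⧸ x.asIdeal)
      ((M ⧸ (x.asIdeal • ⊤ : Submodule R M)) ⧸ Bq R M x)) :
    ∃ (p₀ : M) (F' : Set (MaximalSpectrum R)), IsClosed F' ∧
      (∀ x : MaximalSpectrum R, img R M x (p + r • p₀) = 0 → x ∈ F') ∧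
      ∀ Z : TopologicalSpace.IrreducibleCloseds (MaximalSpectrum R),
        (Z : Set (MaximalSpectrum R)) ⊆ F' → (k : ℕ∞) ≤ Order.coheight Z := by
  induction k with
  | zero => exact ⟨0, Set.univ, isClosed_univ, fun _ _ => trivial, fun Z _ => by simp⟩
  | succ k ih =>
    classical
    obtain ⟨p₀', F'', hF''c, hb', hc'⟩ := ih (fun x => by have := hrank x; omega)
    obtain ⟨𝒮, h𝒮fin, h𝒮cl, h𝒮irr, h𝒮U⟩ :=
      TopologicalSpace.NoetherianSpace.exists_finite_set_isClosed_irreducible hF''c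
    obtain ⟨Ty, hTy1, hTy2⟩ :=
      exists_finset_points 𝒮 h𝒮fin {x : MaximalSpectrum R | r ∈ x.asIdeal}
    have hTyF'' : ∀ y ∈ Ty, y ∈ F'' := by
      intro y hy
      obtain ⟨_, C, hC, hyC⟩ := hTy1 y hy
      rw [h𝒮U]
      exact ⟨C, hC, hyC⟩
    have hu : ∀ y : MaximalSpectrum R, ∃ (u : M) (ri : R), r ∉ y.asIdeal →
        (img R M y u ≠ 0 ∧ Ideal.Quotient.mk y.asIdeal r * Ideal.Quotient.mk y.asIdeal ri = 1) := by
      intro y
      by_cases hry : r ∈ y.asIdeal
      · exact ⟨0, 0, fun hn => absurd hry hn⟩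
      · have hli0 : LinearIndependent (R ⧸ y.asIdeal)
            (fun i : Fin 0 => img R M y ((Fin.elim0 : Fin 0 → M) i)) := linearIndependent_empty_type
        obtain ⟨u, hu⟩ := exists_snoc R M y (Fin.elim0 : Fin 0 → M) hli0
          (by have := hrank y; omega)
        obtain ⟨ri, i, hi, hri⟩ := y.isMaximal.exists_inv hry
        refine ⟨u, ri, fun _ => ⟨?_, ?_⟩⟩
        · letI := Ideal.Quotient.field y.asIdeal
          have h0 := hu.ne_zero (Fin.last 0)
          rwa [Fin.snoc_last] at h0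
        · have h1 : Ideal.Quotient.mk y.asIdeal (ri * r + i) = 1 := by rw [hri, map_one]
          rw [map_add, map_mul, Ideal.Quotient.eq_zero_iff_mem.mpr hi, add_zero, mul_comm] at h1
          exact h1
    choose u ri hu using hu
    let v2 : MaximalSpectrum R → M := fun y => ri y • (u y - (p + r • p₀'))
    obtain ⟨w, G, hGc, ha2, hb2, hc2⟩ :=
      main R M k 1 (fun _ => p + r • p₀') F'' hF''c Ty hTyF'' v2
        (fun x => by have := hrank x; omega)
        (by
          intro x hx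
          apply hb' x
          by_contra hne
          apply hx
          letI := Ideal.Quotient.field x.asIdeal
          exact linearIndependent_unique_iff.mpr hne)
    obtain ⟨𝒢, h𝒢fin, h𝒢cl, h𝒢irr, h𝒢U⟩ :=
      TopologicalSpace.NoetherianSpace.exists_finite_set_isClosed_irreducible hGc
    obtain ⟨Tz, hTz1, hTz2⟩ := exists_finset_points 𝒢 h𝒢fin F''
    obtain ⟨c, hc⟩ := crt_ring R (Ty ∪ Tz) (fun x => if x ∈ F'' then 1 else 0)
    have hcY : ∀ y ∈ Ty, Ideal.Quotient.mk y.asIdeal c = 1 := by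
      intro y hy
      have hmem := hc y (Finset.mem_union_left _ hy)
      rw [if_pos (hTyF'' y hy)] at hmem
      rw [← map_one (Ideal.Quotient.mk y.asIdeal)]
      exact Ideal.Quotient.eq.mpr hmem
    have hcZ : ∀ z ∈ Tz, Ideal.Quotient.mk z.asIdeal c = 0 := by
      intro z hz
      have hmem := hc z (Finset.mem_union_right _ hz)
      rw [if_neg (hTz1 z hz).1, sub_zero] at hmem
      exact Ideal.Quotient.eq_zero_iff_mem.mpr hmem
    have himg : ∀ x : MaximalSpectrum R, img R M x (p + r • (p₀' + c • w)) =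
        img R M x (p + r • p₀') +
          (Ideal.Quotient.mk x.asIdeal r * Ideal.Quotient.mk x.asIdeal c) • img R M x w := by
      intro x
      rw [smul_add, ← add_assoc, smul_smul, img_add, img_smul, map_mul]
    have himg0 : ∀ x : MaximalSpectrum R, img R M x (p + r • (p₀' + c • w)) =
        img R M x p + Ideal.Quotient.mk x.asIdeal r • img R M x (p₀' + c • w) := by
      intro x
      rw [img_add, img_smul]
    have hZbc := isClosed_zero R M (p + r • (p₀' + c • w))
    set Zb : Set (MaximalSpectrum R) :=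
      {x : MaximalSpectrum R | img R M x (p + r • (p₀' + c • w)) = 0} with hZb
    have hZbsub : Zb ⊆ F'' ∪ G := by
      intro x hx
      by_contra hnot
      have hli2 : LinearIndependent (R ⧸ x.asIdeal)
          (Fin.snoc (fun _ : Fin 1 => img R M x (p + r • p₀')) (img R M x w) :
            Fin (1 + 1) → _) := by
        by_contra hn
        exact hnot (hb2 x hn)
      letI := Ideal.Quotient.field x.asIdeal
      have hne := add_smul_ne_zero_of_li _ _
        (Ideal.Quotient.mk x.asIdeal r * Ideal.Quotient.mk x.asIdeal c) hli2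
      apply hne
      rw [← himg]
      exact hx
    have hAgood : ∀ x : MaximalSpectrum R, r ∈ x.asIdeal → x ∉ Zb := by
      intro x hrx hxZ
      have h0 : img R M x (p + r • (p₀' + c • w)) = 0 := hxZ
      rw [himg0, Ideal.Quotient.eq_zero_iff_mem.mpr hrx, zero_smul, add_zero] at h0
      exact hpr x hrx h0
    have hYgood : ∀ y ∈ Ty, y ∉ Zb := by
      intro y hy hyZ
      have hry : r ∉ y.asIdeal := (hTy1 y hy).1
      obtain ⟨hune, hinv⟩ := hu y hry
      have h0 : img R M y (p + r • (p₀' + c • w)) = 0 := hyZ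
      have h1 : img R M y w = Ideal.Quotient.mk y.asIdeal (ri y) •
          (img R M y (u y) - img R M y (p + r • p₀')) := by
        rw [ha2 y hy]
        show img R M y (ri y • (u y - (p + r • p₀'))) = _
        rw [img_smul, img_sub]
      rw [himg, hcY y hy, mul_one, h1, smul_smul, hinv, one_smul, add_sub_cancel] at h0
      exact hune h0
    have hZgood : ∀ z ∈ Tz, z ∉ Zb := by
      intro z hz hzZ
      have h0 : img R M z (p + r • (p₀' + c • w)) = 0 := hzZ
      rw [himg, hcZ z hz, mul_zero, zero_smul, add_zero] at h0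
      exact (hTz1 z hz).1 (hb' z h0)
    refine ⟨p₀' + c • w, Zb, hZbc, fun x hx => hx, ?_⟩
    intro Zi hZi
    have h𝒢'fin : {D | D ∈ 𝒢 ∧ ¬ D ⊆ F''}.Finite := h𝒢fin.subset (fun D hD => hD.1)
    have hcov : (Zi : Set (MaximalSpectrum R)) ⊆ ⋃₀ (𝒮 ∪ {D | D ∈ 𝒢 ∧ ¬ D ⊆ F''}) := by
      intro x hxZi
      have hcaseS : x ∈ F'' → x ∈ ⋃₀ (𝒮 ∪ {D | D ∈ 𝒢 ∧ ¬ D ⊆ F''}) := by
        intro hxF''
        rw [h𝒮U] at hxF''
        obtain ⟨C, hC, hxC⟩ := hxF''
        exact ⟨C, Or.inl hC, hxC⟩
      rcases hZbsub (hZi hxZi) with hxF'' | hxG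
      · exact hcaseS hxF''
      · rw [h𝒢U] at hxG
        obtain ⟨D, hD, hxD⟩ := hxG
        by_cases hDs : D ⊆ F''
        · exact hcaseS (hDs hxD)
        · exact ⟨D, Or.inr ⟨hD, hDs⟩, hxD⟩
    obtain ⟨W, hW, hZiW⟩ := irr_subset_of_finite_cover Zi.isIrreducible' _
      (h𝒮fin.union h𝒢'fin)
      (by
        rintro C (hC | hC)
        · exact h𝒮cl C hC
        · exact h𝒢cl C hC.1) hcov
    have key : ∃ Wi : TopologicalSpace.IrreducibleCloseds (MaximalSpectrum R),
        (k : ℕ∞) ≤ Order.coheight Wi ∧ Zi < Wi := by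
      rcases hW with hWS | ⟨hWG, hWn⟩
      · obtain ⟨e, he⟩ := Zi.isIrreducible'.nonempty
        have heZb : e ∈ Zb := hZi he
        have hre : r ∉ e.asIdeal := fun hre => hAgood e hre heZb
        have hWnA : ¬ W ⊆ {x : MaximalSpectrum R | r ∈ x.asIdeal} :=
          fun hWA => hre (hWA (hZiW he))
        obtain ⟨y, hyT, hyW⟩ := hTy2 W hWS hWnA
        refine ⟨⟨W, h𝒮irr W hWS, h𝒮cl W hWS⟩, hc' _ ?_, ?_⟩
        · show W ⊆ F''
          rw [h𝒮U]
          exact Set.subset_sUnion_of_mem hWS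
        · rw [SetLike.lt_iff_le_and_exists]
          exact ⟨fun q hq => hZiW hq, y, hyW, fun hyZ => hYgood y hyT (hZi hyZ)⟩
      · obtain ⟨z, hzT, hzW⟩ := hTz2 W hWG hWn
        refine ⟨⟨W, h𝒢irr W hWG, h𝒢cl W hWG⟩, hc2 _ ?_, ?_⟩
        · show W ⊆ G
          rw [h𝒢U]
          exact Set.subset_sUnion_of_mem hWG
        · rw [SetLike.lt_iff_le_and_exists]
          exact ⟨fun q hq => hZiW hq, z, hzW, fun hzZ => hZgood z hzT (hZi hzZ)⟩
    obtain ⟨Wi, hWk, hlt⟩ := key
    calc ((k + 1 : ℕ) : ℕ∞) = (k : ℕ∞) + 1 := by push_cast; rfl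
      _ ≤ Order.coheight Wi + 1 := by gcongr
      _ ≤ Order.coheight Zi := Order.coheight_add_one_le hlt

theorem bass_lemma [TopologicalSpace.NoetherianSpace (MaximalSpectrum R)] (d : ℕ)
    (hdim : topologicalKrullDim (MaximalSpectrum R) ≤ d)
    (hrank : ∀ x : MaximalSpectrum R, d + 1 ≤ Module.finrank (R ⧸ x.asIdeal)
      ((M ⧸ (x.asIdeal • ⊤ : Submodule R M)) ⧸ Bq R M x))
    (p : M) (r : R) (ψ : M →ₗ[R] R) (b : R) (hun : ψ p + b * r = 1) :
    ∃ (p₀ : M) (χ : M →ₗ[R] R), χ (p + r • p₀) = 1 := by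
  have hpr : ∀ x : MaximalSpectrum R, r ∈ x.asIdeal → img R M x p ≠ 0 := by
    intro x hrx h0
    rw [img_eq_zero_iff] at h0
    have h1 : (1 : R) ∈ x.asIdeal := by
      rw [← hun]
      exact x.asIdeal.add_mem (h0 ψ) (x.asIdeal.mul_mem_left b hrx)
    exact (Ideal.ne_top_iff_one _).mp x.isMaximal.ne_top h1
  obtain ⟨p₀, F', _, hb, hc⟩ := rclaim R M p r hpr (d + 1) hrank
  have hF'e := empty_of_coheight R d hdim F' hc
  obtain ⟨χ, hχ⟩ := exists_functional_eq_one R M (p + r • p₀)
    (fun x h0 => hF'e x (hb x h0))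
  exact ⟨p₀, χ, hχ⟩

end serre

section cancel

variable (R : Type u) [CommRing R]

/-- `(x, a) ↦ (x + a • v, a)` -/
noncomputable def shearV {P : Type u} [AddCommGroup P] [Module R P] (v : P) :
    (P × R) ≃ₗ[R] (P × R) :=
  (LinearEquiv.prodComm R P R).trans
    (((LinearEquiv.refl R R).skewProd (LinearEquiv.refl R P)
      (LinearMap.toSpanSingleton R P v)).trans (LinearEquiv.prodComm R R P))

theorem shearV_apply {P : Type u} [AddCommGroup P] [Module R P] (v : P) (x : P) (a : R) :
    shearV R v (x, a) = (x + a • v, a) := by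
  simp [shearV]

/-- `(x, a) ↦ (x, a + l x)` -/
noncomputable def shearF {P : Type u} [AddCommGroup P] [Module R P] (l : P →ₗ[R] R) :
    (P × R) ≃ₗ[R] (P × R) :=
  (LinearEquiv.refl R P).skewProd (LinearEquiv.refl R R) l

theorem shearF_apply {P : Type u} [AddCommGroup P] [Module R P] (l : P →ₗ[R] R) (x : P) (a : R) :
    shearF R l (x, a) = (x, a + l x) := by
  simp [shearF]

theorem fst_symm_fst {A B : Type u} [AddCommGroup A] [Module R A] [AddCommGroup B] [Module R B]
    (δ : (A × R) ≃ₗ[R] (B × R)) (hδ' : δ.symm (0, 1) = (0, 1)) (x : A) :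
    (δ.symm ((δ (x, 0)).1, 0)).1 = x := by
  have h1 : ((δ (x, 0)).1, (0 : R)) = δ (x, 0) - (δ (x, 0)).2 • ((0 : B), (1 : R)) := by
    ext <;> simp
  rw [h1, map_sub, map_smul, δ.symm_apply_apply, hδ']
  simp

theorem equiv_of_fix {P P' : Type u} [AddCommGroup P] [Module R P] [AddCommGroup P'] [Module R P']
    (ε : (P × R) ≃ₗ[R] (P' × R)) (hε : ε (0, 1) = (0, 1)) : Nonempty (P ≃ₗ[R] P') := by
  have hε' : ε.symm (0, 1) = (0, 1) := ε.symm_apply_eq.mpr hε.symm
  refine ⟨LinearEquiv.ofLinear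
    ((LinearMap.fst R P' R).comp (ε.toLinearMap.comp (LinearMap.inl R P R)))
    ((LinearMap.fst R P R).comp (ε.symm.toLinearMap.comp (LinearMap.inl R P' R))) ?_ ?_⟩
  · apply LinearMap.ext
    intro x
    have := fst_symm_fst R ε.symm (by rw [LinearEquiv.symm_symm]; exact hε) x
    rw [LinearEquiv.symm_symm] at this
    exact this
  · apply LinearMap.ext
    intro x
    exact fst_symm_fst R ε hε' x

theorem cancel_one [TopologicalSpace.NoetherianSpace (MaximalSpectrum R)] (d : ℕ)
    (hdim : topologicalKrullDim (MaximalSpectrum R) ≤ d)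
    (P P' : Type u) [AddCommGroup P] [Module R P] [AddCommGroup P'] [Module R P']
    (hrank : ∀ x : MaximalSpectrum R, d + 1 ≤ Module.finrank (R ⧸ x.asIdeal)
      ((P ⧸ (x.asIdeal • ⊤ : Submodule R P)) ⧸ Bq R P x))
    (e : (P × R) ≃ₗ[R] (P' × R)) : Nonempty (P ≃ₗ[R] P') := by
  obtain ⟨p, r, hpr⟩ : ∃ (p : P) (r : R), e.symm (0, 1) = (p, r) := ⟨_, _, rfl⟩
  have hepr : e (p, r) = (0, 1) := by rw [← hpr, e.apply_symm_apply]
  let ψ : P →ₗ[R] R := (LinearMap.snd R P' R).comp (e.toLinearMap.comp (LinearMap.inl R P R))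
  have hun : ψ p + (e (0, 1)).2 * r = 1 := by
    have h1 : (p, r) = ((p, 0) : P × R) + r • ((0 : P), (1 : R)) := by ext <;> simp
    have h2 := congrArg Prod.snd hepr
    rw [h1, map_add, map_smul] at h2
    simp only [Prod.snd_add, Prod.smul_snd, smul_eq_mul] at h2
    rw [mul_comm]
    exact h2
  obtain ⟨p₀, χ, hχ⟩ := bass_lemma R P d hdim hrank p r ψ _ hun
  let τ : (P × R) ≃ₗ[R] (P × R) :=
    (shearV R (p + r • p₀)).trans ((shearF R (-((1 - r) • χ))).trans (shearV R (-p₀)))
  have hτ : τ (0, 1) = (p, r) := by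
    have h1 : shearV R (p + r • p₀) (0, 1) = (p + r • p₀, 1) := by
      rw [shearV_apply, zero_add, one_smul]
    have h2 : shearF R (-((1 - r) • χ)) (p + r • p₀, 1) = (p + r • p₀, r) := by
      rw [shearF_apply]
      refine Prod.ext rfl ?_
      show 1 + (-((1 - r) • χ)) (p + r • p₀) = r
      rw [LinearMap.neg_apply, LinearMap.smul_apply, hχ, smul_eq_mul, mul_one]
      ring
    have h3 : shearV R (-p₀) (p + r • p₀, r) = (p, r) := by
      rw [shearV_apply, smul_neg, add_neg_cancel_right]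
    show shearV R (-p₀) (shearF R (-((1 - r) • χ)) (shearV R (p + r • p₀) (0, 1))) = (p, r)
    rw [h1, h2, h3]
  exact equiv_of_fix R (τ.trans e) (by rw [LinearEquiv.trans_apply, hτ, hepr])

theorem cancel_many [Nontrivial R] [TopologicalSpace.NoetherianSpace (MaximalSpectrum R)] (d : ℕ)
    (hdim : topologicalKrullDim (MaximalSpectrum R) ≤ d) (m : ℕ) :
    ∀ (P P' : Type u) [AddCommGroup P] [Module R P] [Module.Finite R P] [Module.Projective R P]
      [AddCommGroup P'] [Module R P'] (n : ℕ),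
      (∀ p : PrimeSpectrum R, Module.rankAtStalk (R := R) P p = n) → d < n →
      ((P × (Fin m → R)) ≃ₗ[R] (P' × (Fin m → R))) → Nonempty (P ≃ₗ[R] P') := by
  induction m with
  | zero =>
    intro P P' _ _ _ _ _ _ n _ _ e
    exact ⟨(LinearEquiv.prodUnique.symm.trans e).trans LinearEquiv.prodUnique⟩
  | succ m ih =>
    intro P P' _ _ _ _ _ _ n hrk hnd e
    have g : ∀ (Q : Type u) [AddCommGroup Q] [Module R Q],
        (Q × (Fin (m + 1) → R)) ≃ₗ[R] ((Q × (Fin m → R)) × R) := fun Q _ _ =>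
      (LinearEquiv.prodCongr (LinearEquiv.refl R Q)
        ((Fin.consLinearEquiv R (fun _ : Fin (m + 1) => R)).symm.trans
          (LinearEquiv.prodComm R R (Fin m → R)))).trans
        (LinearEquiv.prodAssoc R Q (Fin m → R) R).symm
    have e' : ((P × (Fin m → R)) × R) ≃ₗ[R] ((P' × (Fin m → R)) × R) :=
      (g P).symm.trans (e.trans (g P'))
    have hrk1 : ∀ p : PrimeSpectrum R,
        Module.rankAtStalk (R := R) (P × (Fin m → R)) p = n + m := by
      intro p
      rw [Module.rankAtStalk_prod]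
      simp [hrk p]
    haveI : Module.FinitePresentation R (P × (Fin m → R)) :=
      Module.finitePresentation_of_projective R _
    have hrank : ∀ x : MaximalSpectrum R, d + 1 ≤ Module.finrank (R ⧸ x.asIdeal)
        (((P × (Fin m → R)) ⧸ (x.asIdeal • ⊤ : Submodule R (P × (Fin m → R)))) ⧸
          Bq R (P × (Fin m → R)) x) := by
      intro x
      obtain ⟨f, gg, hgf⟩ := Groth.Agent.S19544.Aux.local_split R (P × (Fin m → R)) (n + m) d
        hrk1 (by omega) x.asIdeal
      exact Groth.Agent.S7113.Aux.rank_bound R (P × (Fin m → R)) x (d + 1) f gg hgf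
    obtain ⟨e1⟩ := cancel_one R d hdim (P × (Fin m → R)) (P' × (Fin m → R)) hrank e'
    exact ih P P' n hrk hnd e1

end cancel

end Groth.Agent.Lib.R2Lead.BassCancel
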