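import Mathlib
import Groth.Agent.Lib.Helper14LocalFree2

/-!
# Big projective modules (Bass): auxiliary lemmas

Lead seat, round 2.
* `ordI`: the order ideal `{φ t}` of an element.
* `dual_basis`: finite dual basis expansion of an element of a projective module.
* `exists_not_mem_of_cofinite`: if `P` is projective and `P_y` is not finite over `R_y`, then a
  submodule `L` with `P / L` finitely generated is not contained in `y P` (uses Kaplansky).
* `exists_cofinite`: cutting by finitely many conditions `φ p ∈ Jac` keeps cofiniteness when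
  `R / Jac` is Noetherian.
-/

set_option autoImplicit false
universe u

namespace Groth.Agent.Lib.R2Lead.BigProj

variable (R : Type u) [CommRing R] (P : Type u) [AddCommGroup P] [Module R P]

/-- the order ideal of `t` -/
def ordI (t : P) : Ideal R := LinearMap.range (LinearMap.applyₗ t : (P →ₗ[R] R) →ₗ[R] R)

theorem mem_ordI (t : P) (φ : P →ₗ[R] R) : φ t ∈ ordI R P t := ⟨φ, rfl⟩

theorem exists_of_mem_ordI {t : P} {a : R} (h : a ∈ ordI R P t) : ∃ φ : P →ₗ[R] R, φ t = a := h

theorem dual_basis [Module.Projective R P] (t : P) :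
    ∃ (A : Finset P) (φ : P → (P →ₗ[R] R)), t = ∑ q ∈ A, φ q t • q := by
  obtain ⟨sm, hsm⟩ := Module.projective_def'.mp (inferInstance : Module.Projective R P)
  refine ⟨(sm t).support, fun q => (Finsupp.lapply q).comp sm, ?_⟩
  have h := LinearMap.congr_fun hsm t
  rw [LinearMap.comp_apply, Finsupp.linearCombination_apply, Finsupp.sum] at h
  simpa using h.symm

theorem mem_smul_top_of_forall [Module.Projective R P] (y : Ideal R) (p : P)
    (h : ∀ φ : P →ₗ[R] R, φ p ∈ y) : p ∈ (y • ⊤ : Submodule R P) := by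
  obtain ⟨A, φ, hp⟩ := dual_basis R P p
  rw [hp]
  exact Submodule.sum_mem _ fun q _ => Submodule.smul_mem_smul (h (φ q)) Submodule.mem_top

theorem map_mem_of_mem_smul_top (Jac : Ideal R) (q : P) (hq : q ∈ (Jac • ⊤ : Submodule R P))
    (χ : P →ₗ[R] R) : χ q ∈ Jac := by
  refine Submodule.smul_induction_on hq ?_ ?_
  · intro a ha x _
    rw [map_smul, smul_eq_mul]
    exact Jac.mul_mem_right _ ha
  · intro x z hx hz
    rw [map_add]
    exact Jac.add_mem hx hz

theorem exists_not_mem_of_cofinite [Module.Projective R P] (y : Ideal R) [y.IsMaximal]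
    (hP : ¬ Module.Finite (Localization.AtPrime y) (LocalizedModule y.primeCompl P))
    (L : Submodule R P) (G : Finset P) (hGL : Submodule.span R (G : Set P) ⊔ L = ⊤) :
    ∃ w ∈ L, ∃ φ : P →ₗ[R] R, φ w ∉ y := by
  classical
  by_contra hcon
  push Not at hcon
  apply hP
  have hLy : L ≤ (y • ⊤ : Submodule R P) :=
    fun w hw => mem_smul_top_of_forall R P y w (hcon w hw)
  haveI : Module.Free (Localization.AtPrime y) (LocalizedModule y.primeCompl P) :=
    Groth.Agent.Lib.Helper14.LocalFree.free_of_projective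
  let b := Module.Free.chooseBasis (Localization.AtPrime y) (LocalizedModule y.primeCompl P)
  have hsmul : ∀ (α : Module.Free.ChooseBasisIndex (Localization.AtPrime y)
      (LocalizedModule y.primeCompl P)) (a : R) (v : LocalizedModule y.primeCompl P),
      b.coord α (a • v) = algebraMap R (Localization.AtPrime y) a * b.coord α v := by
    intro α a v
    rw [LinearMap.map_smul_of_tower, Algebra.smul_def]
  have key : ∀ α, ∃ g ∈ G, b.repr (LocalizedModule.mkLinearMap y.primeCompl P g) α ≠ 0 := by
    intro α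
    by_contra hα
    push Not at hα
    have hc : ∀ p : P, b.coord α (LocalizedModule.mkLinearMap y.primeCompl P p) ∈
        IsLocalRing.maximalIdeal (Localization.AtPrime y) := by
      intro p
      have hp : p ∈ Submodule.span R (G : Set P) ⊔ L := by
        rw [hGL]
        exact Submodule.mem_top
      obtain ⟨g', hg', l, hl, rfl⟩ := Submodule.mem_sup.mp hp
      rw [map_add, map_add]
      refine Ideal.add_mem _ ?_ ?_
      · have h0 : b.coord α (LocalizedModule.mkLinearMap y.primeCompl P g') = 0 := by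
          refine Submodule.span_induction
            (p := fun x _ => b.coord α (LocalizedModule.mkLinearMap y.primeCompl P x) = 0)
            ?_ ?_ ?_ ?_ hg'
          · intro x hx
            exact hα x hx
          · simp
          · intro x z _ _ hx hz
            rw [map_add, map_add, hx, hz, add_zero]
          · intro a x _ hx
            rw [map_smul, hsmul, hx, mul_zero]
        rw [h0]
        exact Ideal.zero_mem _
      · refine Submodule.smul_induction_on (hLy hl) ?_ ?_
        · intro a ha q _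
          rw [map_smul, hsmul]
          refine Ideal.mul_mem_right _ _ ?_
          exact (IsLocalization.AtPrime.to_map_mem_maximal_iff (Localization.AtPrime y) y a).mpr ha
        · intro x z hx hz
          rw [map_add, map_add]
          exact Ideal.add_mem _ hx hz
    obtain ⟨⟨p, u⟩, hpu⟩ := IsLocalizedModule.surj y.primeCompl
      (LocalizedModule.mkLinearMap y.primeCompl P) (b α)
    have h1 : b.coord α ((u : R) • b α) ∈
        IsLocalRing.maximalIdeal (Localization.AtPrime y) := by
      have h2 := hc p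
      rw [← hpu] at h2
      exact h2
    rw [hsmul, Module.Basis.coord_apply, Module.Basis.repr_self, Finsupp.single_eq_same, mul_one] at h1
    exact u.2 ((IsLocalization.AtPrime.to_map_mem_maximal_iff (Localization.AtPrime y) y
      (u : R)).mp h1)
  haveI hfin : Finite (Module.Free.ChooseBasisIndex (Localization.AtPrime y)
      (LocalizedModule y.primeCompl P)) := by
    have hsub : (Set.univ : Set (Module.Free.ChooseBasisIndex (Localization.AtPrime y)
        (LocalizedModule y.primeCompl P))) ⊆
        ⋃ g ∈ (G : Set P),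
          ((b.repr (LocalizedModule.mkLinearMap y.primeCompl P g)).support : Set _) := by
      intro α _
      obtain ⟨g, hg, hne⟩ := key α
      exact Set.mem_biUnion (Finset.mem_coe.mpr hg) (Finsupp.mem_support_iff.mpr hne)
    exact Set.finite_univ_iff.mp
      ((Set.Finite.biUnion G.finite_toSet (fun g _ => Finset.finite_toSet _)).subset hsub)
  exact Module.Finite.of_basis b

theorem exists_cofinite_step (Jac : Ideal R) [IsNoetherianRing (R ⧸ Jac)] (L₀ : Submodule R P)
    (G₀ : Finset P) (hG₀ : Submodule.span R (G₀ : Set P) ⊔ L₀ = ⊤) (φ₀ : P →ₗ[R] R) :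
    ∃ G : Finset P, Submodule.span R (G : Set P) ⊔
      (L₀ ⊓ Submodule.comap φ₀ (Jac : Submodule R R)) = ⊤ := by
  classical
  -- the ideal of values
  let 𝔟 : Ideal R := Submodule.map φ₀ L₀
  have hfg : (𝔟.map (Ideal.Quotient.mk Jac)).FG :=
    (isNoetherianRing_iff_ideal_fg (R ⧸ Jac)).mp inferInstance _
  obtain ⟨T, hT⟩ := hfg
  have hTmem : ∀ τ ∈ T, ∃ l ∈ L₀, Ideal.Quotient.mk Jac (φ₀ l) = τ := by
    intro τ hτ
    have h1 : τ ∈ 𝔟.map (Ideal.Quotient.mk Jac) := by
      rw [← hT]
      exact Submodule.subset_span hτ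
    obtain ⟨a, ha, rfl⟩ := (Ideal.mem_map_iff_of_surjective _ Ideal.Quotient.mk_surjective).mp h1
    obtain ⟨l, hl, rfl⟩ := ha
    exact ⟨l, hl, rfl⟩
  choose! lf hlfL hlfτ using hTmem
  refine ⟨G₀ ∪ T.image lf, ?_⟩
  rw [eq_top_iff, ← hG₀]
  refine sup_le ?_ ?_
  · exact le_sup_of_le_left (Submodule.span_mono (by
      intro x hx
      exact Finset.mem_coe.mpr (Finset.mem_union_left _ (Finset.mem_coe.mp hx))))
  · intro p hp
    have h1 : Ideal.Quotient.mk Jac (φ₀ p) ∈ Submodule.span (R ⧸ Jac) (T : Set (R ⧸ Jac)) := by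
      have h0 : Ideal.Quotient.mk Jac (φ₀ p) ∈ Ideal.span (T : Set (R ⧸ Jac)) := by
        rw [hT]
        exact Ideal.mem_map_of_mem _ ⟨p, hp, rfl⟩
      exact h0
    obtain ⟨c, hc⟩ := (Submodule.mem_span_finset).mp h1
    obtain ⟨_, hcsum⟩ := hc
    choose r hr using fun τ => Ideal.Quotient.mk_surjective (c τ)
    have hp' : p - ∑ τ ∈ T, r τ • lf τ ∈ L₀ ⊓ Submodule.comap φ₀ (Jac : Submodule R R) := by
      refine ⟨L₀.sub_mem hp (L₀.sum_mem fun τ hτ => L₀.smul_mem _ (hlfL τ hτ)), ?_⟩
      show φ₀ (p - ∑ τ ∈ T, r τ • lf τ) ∈ Jac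
      have e1 : Ideal.Quotient.mk Jac (φ₀ (∑ τ ∈ T, r τ • lf τ)) =
          Ideal.Quotient.mk Jac (φ₀ p) := by
        rw [← hcsum, map_sum, map_sum]
        refine Finset.sum_congr rfl fun τ hτ => ?_
        simp only [map_smul, smul_eq_mul, map_mul, hr τ, hlfτ τ hτ]
      rw [← Ideal.Quotient.eq_zero_iff_mem, map_sub, map_sub, e1, sub_self]
    have hsum : ∑ τ ∈ T, r τ • lf τ ∈ Submodule.span R ((G₀ ∪ T.image lf : Finset P) : Set P) :=
      Submodule.sum_mem _ fun τ hτ => Submodule.smul_mem _ _ (Submodule.subset_span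
        (Finset.mem_coe.mpr (Finset.mem_union_right _ (Finset.mem_image_of_mem lf hτ))))
    have hdec : p = ∑ τ ∈ T, r τ • lf τ + (p - ∑ τ ∈ T, r τ • lf τ) := by abel
    rw [hdec]
    exact Submodule.add_mem_sup hsum hp'

theorem exists_cofinite (Jac : Ideal R) [IsNoetherianRing (R ⧸ Jac)] (M' : Submodule R P)
    (s : P) (hM' : Submodule.span R {s} ⊔ M' = ⊤) (φ : P → (P →ₗ[R] R)) (A : Finset P) :
    ∃ G : Finset P, Submodule.span R (G : Set P) ⊔
      (M' ⊓ ⨅ q ∈ A, Submodule.comap (φ q) (Jac : Submodule R R)) = ⊤ := by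
  classical
  induction A using Finset.induction_on with
  | empty =>
    refine ⟨{s}, ?_⟩
    simp only [Finset.notMem_empty, iInf_false, iInf_top, inf_top_eq, Finset.coe_singleton]
    exact hM'
  | insert q₀ A' hq₀ ih =>
    obtain ⟨G₀, hG₀⟩ := ih
    obtain ⟨G, hG⟩ := exists_cofinite_step R P Jac _ G₀ hG₀ (φ q₀)
    refine ⟨G, ?_⟩
    rw [Finset.iInf_insert, inf_comm (Submodule.comap (φ q₀) (Jac : Submodule R R)), ← inf_assoc]
    exact hG

end Groth.Agent.Lib.R2Lead.BigProj
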