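import Mathlib
import Groth.Agent.S7109
import Groth.Agent.S7110
import Groth.Agent.Lib.Helper14Kaplansky

/-! R2Lead: Bass' "big projective modules": modules of infinite rank at every maximal ideal,
cancellation of free summands, and freeness of countably generated big projectives. -/

set_option autoImplicit false

namespace Groth.Agent.Lib.R2Lead.BigProj2

universe u

section Big

variable (R : Type u) [CommRing R]

/-- `Q` is not finitely generated at any maximal ideal. -/
def Big (Q : Type u) [AddCommGroup Q] [Module R Q] : Prop :=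
  ∀ (m : Ideal R) [m.IsMaximal],
    ¬ Module.Finite (Localization.AtPrime m) (LocalizedModule m.primeCompl Q)

variable {R}
variable {Q Q' : Type u} [AddCommGroup Q] [Module R Q] [AddCommGroup Q'] [Module R Q']

theorem Big.of_surjective (f : Q →ₗ[R] Q') (hf : Function.Surjective f) (h : Big R Q') :
    Big R Q := by
  intro m _ hfin
  exact h m (Module.Finite.of_surjective (LocalizedModule.map m.primeCompl f)
    (LocalizedModule.map_surjective m.primeCompl f hf))

theorem Big.of_equiv (e : Q ≃ₗ[R] Q') (h : Big R Q) : Big R Q' :=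
  Big.of_surjective e.symm.toLinearMap e.symm.surjective h

theorem Big.prod_right (N : Type u) [AddCommGroup N] [Module R N] (h : Big R Q) :
    Big R (N × Q) :=
  Big.of_surjective (LinearMap.snd R N Q) LinearMap.snd_surjective h

theorem Big.snd_of_finite {A B : Type u} [AddCommGroup A] [Module R A] [AddCommGroup B]
    [Module R B] [Module.Finite R A] (h : Big R (A × B)) : Big R B := by
  intro m _ hfin
  apply h m
  let e : LocalizedModule m.primeCompl (A × B) ≃ₗ[Localization.AtPrime m]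
      LocalizedModule m.primeCompl A × LocalizedModule m.primeCompl B :=
    IsLocalizedModule.linearEquiv m.primeCompl (LocalizedModule.mkLinearMap _ _)
      (.prodMap (LocalizedModule.mkLinearMap _ A) (LocalizedModule.mkLinearMap _ B))
      |>.extendScalarsOfIsLocalization m.primeCompl _
  exact Module.Finite.equiv e.symm

end Big

section Dec

variable (R : Type u) [CommRing R]

/-- `x : Q` lies in a finite free direct summand of `Q` (in equivalence form). -/
def Dec (Q : Type u) [AddCommGroup Q] [Module R Q] (x : Q) : Prop :=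
  ∃ (A B : Type u) (_ : AddCommGroup A) (_ : Module R A) (_ : AddCommGroup B) (_ : Module R B)
    (e : Q ≃ₗ[R] A × B), Module.Free R A ∧ Module.Finite R A ∧ (e x).2 = 0

variable {R}
variable {Q Q' : Type u} [AddCommGroup Q] [Module R Q] [AddCommGroup Q'] [Module R Q']

theorem Dec.of_equiv (g : Q ≃ₗ[R] Q') {x : Q} (h : Dec R Q x) : Dec R Q' (g x) := by
  obtain ⟨A, B, _, _, _, _, e, hfree, hfin, hx⟩ := h
  refine ⟨A, B, _, _, _, _, g.symm.trans e, hfree, hfin, ?_⟩
  rw [LinearEquiv.trans_apply, LinearEquiv.symm_apply_apply]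
  exact hx

theorem Dec.of_isCompl {x : Q} (K K' : Submodule R Q) (h : IsCompl K K') [Module.Free R K]
    [Module.Finite R K] (hx : x ∈ K) : Dec R Q x := by
  refine ⟨K, K', inferInstance, inferInstance, inferInstance, inferInstance,
    (Submodule.prodEquivOfIsCompl K K' h).symm, inferInstance, inferInstance, ?_⟩
  have h1 := Submodule.prodEquivOfIsCompl_symm_apply_left K K' h ⟨x, hx⟩
  have h2 : (Submodule.prodEquivOfIsCompl K K' h).symm x = (⟨x, hx⟩, 0) := h1
  rw [h2]

theorem Dec.exists_isCompl {x : Q} (h : Dec R Q x) :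
    ∃ K K' : Submodule R Q, IsCompl K K' ∧ Module.Free R K ∧ Module.Finite R K ∧ x ∈ K := by
  obtain ⟨A, B, _, _, _, _, e, hfree, hfin, hx⟩ := h
  have hinj : Function.Injective (e.symm.toLinearMap ∘ₗ LinearMap.inl R A B) :=
    e.symm.injective.comp LinearMap.inl_injective
  let eK := LinearEquiv.ofInjective _ hinj
  refine ⟨LinearMap.range (e.symm.toLinearMap ∘ₗ LinearMap.inl R A B),
    LinearMap.range (e.symm.toLinearMap ∘ₗ LinearMap.inr R A B), ⟨?_, ?_⟩,
    Module.Free.of_equiv eK, Module.Finite.equiv eK, ⟨(e x).1, ?_⟩⟩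
  · rw [Submodule.disjoint_def]
    rintro p ⟨a, rfl⟩ ⟨b, hb⟩
    simp only [LinearMap.comp_apply, LinearEquiv.coe_coe, LinearMap.inl_apply,
      LinearMap.inr_apply] at hb ⊢
    have h2 := e.symm.injective hb
    have ha : a = 0 := (congrArg Prod.fst h2).symm
    rw [ha]
    simp
  · rw [codisjoint_iff, eq_top_iff]
    intro p _
    rw [Submodule.mem_sup]
    refine ⟨e.symm ((e p).1, 0), ⟨(e p).1, rfl⟩, e.symm (0, (e p).2), ⟨(e p).2, rfl⟩, ?_⟩
    rw [← map_add]
    simp
  · have h1 : ((e x).1, (0 : B)) = e x := Prod.ext rfl hx.symm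
    show e.symm ((e x).1, 0) = x
    rw [h1, e.symm_apply_apply]

/-- Cancellation step: a finite free summand of `R × P` containing `(0, x)` gives one of `P`
containing `x`, if `P` is big projective. -/
theorem Dec.step [IsNoetherianRing (R ⧸ (⊥ : Ideal R).jacobson)]
    {P : Type u} [AddCommGroup P] [Module R P] [Module.Projective R P] (hP : Big R P) {x : P}
    (h : Dec R (R × P) (0, x)) : Dec R P x := by
  classical
  obtain ⟨A, B, _, _, _, _, e, hfree, hfin, hx⟩ := h
  haveI := hfree
  haveI := hfin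
  haveI : Module.Projective R B :=
    Module.Projective.of_split (e.symm.toLinearMap ∘ₗ LinearMap.inr R A B)
      (LinearMap.snd R A B ∘ₗ e.toLinearMap) (by ext b; simp)
  have hB : Big R B := Big.snd_of_finite (Big.of_equiv e (Big.prod_right R hP))
  obtain ⟨s', hs'⟩ : ∃ s' : B, s' = (e (1, 0)).2 := ⟨_, rfl⟩
  let ψ : P →ₗ[R] B := LinearMap.snd R A B ∘ₗ e.toLinearMap ∘ₗ LinearMap.inr R R P
  have hM : Submodule.span R {s'} ⊔ LinearMap.range ψ = ⊤ := by
    rw [eq_top_iff]
    intro b _
    rw [Submodule.mem_sup]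
    obtain ⟨⟨r, p⟩, hrp⟩ : ∃ q, e q = (0, b) := ⟨e.symm (0, b), e.apply_symm_apply _⟩
    have h1 : ((r, p) : R × P) = r • ((1 : R), (0 : P)) + ((0 : R), p) := by
      ext <;> simp
    rw [h1, map_add, map_smul] at hrp
    have h3 := congrArg Prod.snd hrp
    simp only [Prod.snd_add, Prod.smul_snd] at h3
    refine ⟨r • s', Submodule.smul_mem _ _ (Submodule.subset_span rfl), ψ p, ⟨p, rfl⟩, ?_⟩
    rw [hs']
    exact h3
  obtain ⟨m, ⟨p₀, rfl⟩, φ, hφ⟩ := Groth.Agent.S7110.result R B hB s' (LinearMap.range ψ) hM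
  let f : R × P := (1, p₀)
  let Λ : R × P →ₗ[R] R := φ ∘ₗ LinearMap.snd R A B ∘ₗ e.toLinearMap
  have hef : (e f).2 = s' + ψ p₀ := by
    have h1 : f = ((1 : R), (0 : P)) + ((0 : R), p₀) := by ext <;> simp [f]
    rw [h1, map_add, hs']
    rfl
  have hΛf : Λ f = 1 := by
    show φ (e f).2 = 1
    rw [hef]
    exact hφ
  have hΛx : Λ (0, x) = 0 := by
    show φ (e (0, x)).2 = 0
    rw [hx, map_zero]
  let g : P →ₗ[R] R × P := LinearMap.inr R R P - (Λ ∘ₗ LinearMap.inr R R P).smulRight f
  have hgdef : ∀ p, g p = (0, p) - Λ (0, p) • f := fun p => rfl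
  have hΛg : ∀ p, Λ (g p) = 0 := by
    intro p
    rw [hgdef, map_sub, map_smul, hΛf, smul_eq_mul, mul_one, sub_self]
  have hφg : ∀ p, (LinearMap.snd R A B ∘ₗ e.toLinearMap ∘ₗ g) p ∈ LinearMap.ker φ := fun p => by
    rw [LinearMap.mem_ker]
    exact hΛg p
  let α : P →ₗ[R] A × LinearMap.ker φ :=
    LinearMap.prod (LinearMap.fst R A B ∘ₗ e.toLinearMap ∘ₗ g)
      (LinearMap.codRestrict (LinearMap.ker φ) (LinearMap.snd R A B ∘ₗ e.toLinearMap ∘ₗ g) hφg)
  let β : A × LinearMap.ker φ →ₗ[R] P :=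
    (LinearMap.snd R R P - (LinearMap.fst R R P).smulRight p₀) ∘ₗ e.symm.toLinearMap ∘ₗ
      (LinearMap.prodMap LinearMap.id (LinearMap.ker φ).subtype)
  have hβα : ∀ p, β (α p) = p := by
    intro p
    have h1 : β (α p) = (e.symm (e (g p))).2 - (e.symm (e (g p))).1 • p₀ := rfl
    rw [h1, e.symm_apply_apply, hgdef]
    generalize Λ (0, p) = c
    simp [f]
  have hαβ : ∀ z, α (β z) = z := by
    rintro ⟨a, ⟨k, hk⟩⟩
    obtain ⟨q, hq⟩ : ∃ q, q = e.symm (a, k) := ⟨_, rfl⟩
    have heq : e q = (a, k) := by rw [hq, e.apply_symm_apply]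
    have hΛq : Λ q = 0 := by
      show φ (e q).2 = 0
      rw [heq]
      exact LinearMap.mem_ker.mp hk
    have hβ : β (a, ⟨k, hk⟩) = q.2 - q.1 • p₀ := by rw [hq]; rfl
    have hg : g (q.2 - q.1 • p₀) = q := by
      have h3 : ((0 : R), q.2 - q.1 • p₀) = q - q.1 • f := by ext <;> simp [f]
      rw [hgdef, h3, map_sub, map_smul, hΛq, hΛf]
      simp
    rw [hβ]
    refine Prod.ext ?_ (Subtype.ext ?_)
    · show (e (g (q.2 - q.1 • p₀))).1 = a
      rw [hg, heq]
    · show (e (g (q.2 - q.1 • p₀))).2 = k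
      rw [hg, heq]
  refine ⟨A, LinearMap.ker φ, inferInstance, inferInstance, inferInstance, inferInstance,
    LinearEquiv.ofLinear α β (LinearMap.ext hαβ) (LinearMap.ext hβα), hfree, hfin, ?_⟩
  have hgx : g x = (0, x) := by
    rw [hgdef, hΛx, zero_smul, sub_zero]
  refine Subtype.ext ?_
  show (e (g x)).2 = 0
  rw [hgx, hx]

theorem Dec.of_fin [IsNoetherianRing (R ⧸ (⊥ : Ideal R).jacobson)] (n : ℕ) :
    ∀ (P : Type u) [AddCommGroup P] [Module R P] [Module.Projective R P] (_ : Big R P) (x : P),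
      Dec R ((Fin n → R) × P) (0, x) → Dec R P x := by
  induction n with
  | zero =>
    intro P _ _ _ hP x h
    have h1 := Dec.of_equiv (LinearEquiv.uniqueProd (R := R) (M := P) (M₂ := Fin 0 → R)) h
    simpa using h1
  | succ n ih =>
    intro P _ _ _ hP x h
    apply ih P hP x
    apply Dec.step (Big.prod_right (Fin n → R) hP)
    let g : ((Fin (n + 1) → R) × P) ≃ₗ[R] R × ((Fin n → R) × P) :=
      (LinearEquiv.prodCongr (Fin.consLinearEquiv R (fun _ : Fin (n + 1) => R)).symm
        (LinearEquiv.refl R P)).trans (LinearEquiv.prodAssoc R R (Fin n → R) P)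
    have h1 := Dec.of_equiv g h
    have hg : g (0, x) = (0, (0, x)) := by
      show LinearEquiv.prodAssoc R R (Fin n → R) P
        ((Fin.consLinearEquiv R (fun _ : Fin (n + 1) => R)).symm 0, x) = _
      rw [map_zero]
      rfl
    rwa [hg] at h1

/-- Bass: over a ring with Noetherian `R / rad R`, every element of a big projective module lies
in a finite free direct summand. -/
theorem exists_free_summand (R : Type u) [CommRing R]
    [IsNoetherianRing (R ⧸ (⊥ : Ideal R).jacobson)]
    (P : Type u) [AddCommGroup P] [Module R P] [Module.Projective R P] (hP : Big R P) (s : P) :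
    ∃ K K' : Submodule R P, IsCompl K K' ∧ Module.Free R K ∧ Module.Finite R K ∧ s ∈ K := by
  obtain ⟨n, K, K', hc, hfree, hfin, hs⟩ := Groth.Agent.S7109.result R P s
  haveI := hfree
  haveI := hfin
  have h0 : Dec R ((Fin n → R) × P) (0, s) := Dec.of_isCompl K K' hc hs
  exact (Dec.of_fin n P hP s h0).exists_isCompl

end Dec

section Countable

open Groth.Agent.Lib.Helper14.Kaplansky

variable {R : Type u} [CommRing R] {P : Type u} [AddCommGroup P] [Module R P]

/-- A module which is the internal direct sum of free submodules is free. -/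
theorem free_of_sSupIndep (𝒞 : Set (Submodule R P)) (hind : sSupIndep 𝒞)
    (hfree : ∀ C ∈ 𝒞, Module.Free R C) (htop : sSup 𝒞 = ⊤) : Module.Free R P := by
  classical
  have key := (DirectSum.isInternal_submodule_iff_iSupIndep_and_iSup_eq_top
    (fun C : 𝒞 => C.1)).mpr ⟨(sSupIndep_iff 𝒞).mp hind, by rw [← sSup_eq_iSup']; exact htop⟩
  have : ∀ C : 𝒞, Module.Free R C.1 := fun C => hfree C.1 C.2
  have hfr : Module.Free R (DirectSum 𝒞 fun C => C.1) :=
    inferInstanceAs (Module.Free R (Π₀ C : 𝒞, C.1))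
  exact Module.Free.of_equiv (LinearEquiv.ofBijective (DirectSum.coeLinearMap _) key)

/-- One step: enlarge an independent family of free submodules (with finitely generated sum,
which is a direct summand) so that it contains a given element. -/
theorem exists_step [IsNoetherianRing (R ⧸ (⊥ : Ideal R).jacobson)] [Module.Projective R P]
    (hP : Big R P) (𝒞 : Set (Submodule R P)) (Q : Submodule R P)
    (hind : sSupIndep 𝒞) (hfree : ∀ C ∈ 𝒞, Module.Free R C) (hfg : (sSup 𝒞).FG)
    (hc : IsCompl (sSup 𝒞) Q) (x : P) :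
    ∃ (𝒞' : Set (Submodule R P)) (Q' : Submodule R P), 𝒞 ⊆ 𝒞' ∧ sSupIndep 𝒞' ∧
      (∀ C ∈ 𝒞', Module.Free R C) ∧ (sSup 𝒞').FG ∧ IsCompl (sSup 𝒞') Q' ∧ x ∈ sSup 𝒞' := by
  classical
  have hQproj : Module.Projective R Q :=
    Module.Projective.of_split Q.subtype (Q.projectionOnto _ hc.symm)
      (Submodule.projectionOnto_comp_subtype hc.symm)
  haveI : Module.Finite R (sSup 𝒞 : Submodule R P) := Module.Finite.iff_fg.mpr hfg
  have hQbig : Big R Q :=
    Big.snd_of_finite (Big.of_equiv (Submodule.prodEquivOfIsCompl _ _ hc).symm hP)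
  obtain ⟨a, ha, q, hq, rfl⟩ : ∃ a ∈ sSup 𝒞, ∃ q ∈ Q, a + q = x := by
    have : x ∈ sSup 𝒞 ⊔ Q := by rw [hc.sup_eq_top]; trivial
    exact Submodule.mem_sup.mp this
  obtain ⟨K, K', hK, hKfree, hKfin, hqK⟩ := exists_free_summand R Q hQbig ⟨q, hq⟩
  let P' : Submodule R P := K.map Q.subtype
  let Q' : Submodule R P := K'.map Q.subtype
  have hP'Q : P' ≤ Q := Submodule.map_subtype_le Q K
  have hQ'Q : Q' ≤ Q := Submodule.map_subtype_le Q K'
  have hP'free : Module.Free R P' := Module.Free.of_equiv (Submodule.equivSubtypeMap Q K)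
  have hP'fg : P'.FG := Submodule.FG.map _ (Module.Finite.iff_fg.mp hKfin)
  have hdisj1 : Disjoint P' Q' := by
    rw [disjoint_iff]
    show K.map Q.subtype ⊓ K'.map Q.subtype = ⊥
    rw [← Submodule.map_inf _ Q.injective_subtype, hK.inf_eq_bot, Submodule.map_bot]
  have hsup1 : P' ⊔ Q' = Q := by
    show K.map Q.subtype ⊔ K'.map Q.subtype = Q
    rw [← Submodule.map_sup, hK.sup_eq_top, Submodule.map_subtype_top]
  have hdisjA : Disjoint P' (sSup 𝒞) := (hc.disjoint.mono_right hP'Q).symm
  refine ⟨insert P' 𝒞, Q', Set.subset_insert _ _, sSupIndep_insert hind hdisjA, ?_, ?_, ?_, ?_⟩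
  · intro C hC
    rcases hC with rfl | hC
    · exact hP'free
    · exact hfree C hC
  · rw [sSup_insert]
    exact hP'fg.sup hfg
  · rw [sSup_insert, sup_comm]
    constructor
    · apply Disjoint.disjoint_sup_left_of_disjoint_sup_right hdisj1
      rw [hsup1]
      exact hc.disjoint
    · rw [codisjoint_iff, sup_assoc, hsup1]
      exact hc.sup_eq_top
  · rw [sSup_insert]
    apply Submodule.add_mem
    · exact Submodule.mem_sup_right ha
    · apply Submodule.mem_sup_left
      exact ⟨⟨q, hq⟩, hqK, rfl⟩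

/-- Bass: a countably generated big projective module is free. -/
theorem free_of_countablyGenerated [IsNoetherianRing (R ⧸ (⊥ : Ideal R).jacobson)]
    [Module.Projective R P] (hP : Big R P)
    (hcg : CAlg.IsCountablyGenerated R P) : Module.Free R P := by
  classical
  obtain ⟨s, hs, hspan⟩ := hcg
  have hs' : (s ∪ {0}).Countable := hs.union (Set.countable_singleton 0)
  obtain ⟨x, hx⟩ := hs'.exists_eq_range ⟨0, Or.inr rfl⟩
  have hxspan : Submodule.span R (Set.range x) = ⊤ := by
    rw [← hx, eq_top_iff, ← hspan]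
    exact Submodule.span_mono Set.subset_union_left
  -- stages
  let St : Type u := {p : Set (Submodule R P) × Submodule R P //
    sSupIndep p.1 ∧ (∀ C ∈ p.1, Module.Free R C) ∧ (sSup p.1).FG ∧ IsCompl (sSup p.1) p.2}
  have hstep : ∀ (p : St) (y : P), ∃ p' : St, p.1.1 ⊆ p'.1.1 ∧ y ∈ sSup p'.1.1 := by
    intro p y
    obtain ⟨𝒞', Q', h1, h2, h3, h4, h5, h6⟩ :=
      exists_step hP p.1.1 p.1.2 p.2.1 p.2.2.1 p.2.2.2.1 p.2.2.2.2 y
    exact ⟨⟨(𝒞', Q'), h2, h3, h4, h5⟩, h1, h6⟩
  choose next hnext1 hnext2 using hstep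
  let p₀ : St := ⟨(∅, ⊤), by
    refine ⟨?_, ?_, ?_, ?_⟩
    · intro a ha; exact absurd ha (Set.notMem_empty a)
    · intro C hC; exact absurd hC (Set.notMem_empty C)
    · rw [sSup_empty]; exact Submodule.fg_bot
    · rw [sSup_empty]; exact isCompl_bot_top⟩
  let st : ℕ → St := fun n => Nat.rec (motive := fun _ => St) p₀ (fun n p => next p (x n)) n
  have hst1 : ∀ n : ℕ, (st n).1.1 ⊆ (st (n + 1)).1.1 := fun n => hnext1 _ _
  have hst2 : ∀ n : ℕ, x n ∈ sSup (st (n + 1)).1.1 := fun n => hnext2 _ _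
  have hmono : Monotone fun n : ℕ => (st n).1.1 := monotone_nat_of_le_succ hst1
  apply free_of_sSupIndep (⋃ n, (st n).1.1)
  · apply sSupIndep_iUnion_of_directed hmono.directed_le
    exact fun n => (st n).2.1
  · intro C hC
    obtain ⟨n, hn⟩ := Set.mem_iUnion.mp hC
    exact (st n).2.2.1 C hn
  · rw [eq_top_iff, ← hxspan, Submodule.span_le]
    rintro _ ⟨n, rfl⟩
    exact sSup_le_sSup (Set.subset_iUnion (fun n => (st n).1.1) (n + 1)) (hst2 n)

end Countable

end Groth.Agent.Lib.R2Lead.BigProj2
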