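import Mathlib
import Groth.Agent.Lib.Helper28Normal
import Groth.Agent.Lib.Helper28DepthAss
import Groth.Agent.Lib.Helper28DepthFlat2
import Groth.Agent.Lib.Helper5IntDim

namespace Groth.Agent.Lib.R2LeadC2FlatA

universe u

open TensorProduct IsLocalRing

attribute [local instance] Algebra.TensorProduct.rightAlgebra

/-- abstract normalisation step. -/
theorem domain_case_aux (C D C' : Type u) [CommRing C] [CommRing D] [CommRing C']
    [IsNoetherianRing C] [IsNoetherianRing D] [IsLocalRing C] [IsLocalRing D]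
    [Algebra C D] [IsLocalHom (algebraMap C D)] [Module.Flat C D]
    [IsDomain C'] [IsIntegrallyClosed C'] [IsLocalRing C'] [Algebra C C'] [Module.Finite C C']
    (hinj : Function.Injective (algebraMap C C'))
    (hC : (2 : WithBot ℕ∞) ≤ ringKrullDim C) (Q : Ideal D) (hQ : Q ∈ minimalPrimes D) :
    (2 : WithBot ℕ∞) ≤ ringKrullDim (D ⧸ Q) := by
  classical
  haveI : IsNoetherianRing C' := IsNoetherianRing.of_finite C C'
  haveI : Algebra.IsIntegral C C' := Algebra.IsIntegral.of_finite C C'
  have hdimC' : (2 : WithBot ℕ∞) ≤ ringKrullDim C' := by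
    rw [Groth.Agent.Lib.Helper5.ringKrullDim_eq_of_isIntegral_of_injective C C' hinj]; exact hC
  have hdepthC' : (2 : ℕ∞) ≤ LocCoh.depth C' C' :=
    Groth.Agent.Lib.Helper28.two_le_depth_of_isIntegrallyClosed_of_two_le_dim hdimC'
  haveI : Module.Flat C' (D ⊗[C] C') :=
    Module.Flat.of_linearEquiv (Algebra.TensorProduct.commRight C C' D).symm.toLinearEquiv
  haveI : IsNoetherianRing (D ⊗[C] C') := IsNoetherianRing.of_finite D (D ⊗[C] C')
  haveI : Algebra.IsIntegral D (D ⊗[C] C') := Algebra.IsIntegral.of_finite D (D ⊗[C] C')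
  have hinjD : Function.Injective (algebraMap D (D ⊗[C] C')) :=
    Algebra.TensorProduct.includeLeft_injective (S := D) hinj
  have hQprime : Q.IsPrime := hQ.1.1
  -- a minimal prime `Q''` of `D'` over `Q`
  obtain ⟨Q', hQ'prime, hQ'comap⟩ : ∃ Q' : Ideal (D ⊗[C] C'), Q'.IsPrime ∧
      Q'.comap (algebraMap D (D ⊗[C] C')) = Q := by
    obtain ⟨Q', -, h1, h2⟩ := Ideal.exists_ideal_over_prime_of_isIntegral Q
      (⊥ : Ideal (D ⊗[C] C')) (by
        rw [← RingHom.ker_eq_comap_bot, (RingHom.injective_iff_ker_eq_bot _).mp hinjD]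
        exact bot_le)
    exact ⟨Q', h1, h2⟩
  obtain ⟨Q'', hQ''min, hQ''le⟩ := Ideal.exists_minimalPrimes_le (bot_le : ⊥ ≤ Q')
  have hQ''prime : Q''.IsPrime := hQ''min.1.1
  have hQ''comap : Q''.comap (algebraMap D (D ⊗[C] C')) = Q := by
    have h1 : Q''.comap (algebraMap D (D ⊗[C] C')) ≤ Q := by
      rw [← hQ'comap]; exact Ideal.comap_mono hQ''le
    have h2 : (Q''.comap (algebraMap D (D ⊗[C] C'))).IsPrime := Ideal.IsPrime.comap _
    exact le_antisymm h1 (hQ.2 ⟨h2, bot_le⟩ h1)
  -- `dim D'/Q'' = dim D/Q`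
  have hdim_eq : ringKrullDim ((D ⊗[C] C') ⧸ Q'') = ringKrullDim (D ⧸ Q) := by
    have hint : ((Ideal.Quotient.mk Q'').comp (algebraMap D (D ⊗[C] C'))).IsIntegral :=
      RingHom.IsIntegral.trans _ _ (algebraMap_isIntegral_iff.mpr inferInstance)
        (RingHom.isIntegral_of_surjective _ Ideal.Quotient.mk_surjective)
    have h := Groth.Agent.Lib.Helper5.ringKrullDim_eq_ringKrullDim_quotient_ker_of_isIntegral _ hint
    have hker : RingHom.ker ((Ideal.Quotient.mk Q'').comp (algebraMap D (D ⊗[C] C'))) = Q := by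
      rw [← RingHom.comap_ker, Ideal.mk_ker, hQ''comap]
    rw [h, hker]
  rw [← hdim_eq]
  -- localize at a maximal ideal above `Q''`
  obtain ⟨n', hn'max, hn'le⟩ := Ideal.exists_le_maximal Q'' hQ''prime.ne_top
  haveI : n'.IsPrime := hn'max.isPrime
  haveI : IsScalarTower C' (D ⊗[C] C') (Localization.AtPrime n') := inferInstance
  haveI : Module.Flat C' (Localization.AtPrime n') :=
    Module.Flat.trans C' (D ⊗[C] C') (Localization.AtPrime n')
  -- the contraction of `n'` to `C'` is the maximal ideal
  have hcomapC' : n'.comap (algebraMap C' (D ⊗[C] C')) = maximalIdeal C' := by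
    haveI hp : (n'.comap (algebraMap C' (D ⊗[C] C'))).IsPrime := Ideal.IsPrime.comap _
    have hmaxD : (n'.comap (algebraMap D (D ⊗[C] C'))).IsMaximal :=
      Ideal.isMaximal_comap_of_isIntegral_of_isMaximal n'
    have h1 : n'.comap (algebraMap D (D ⊗[C] C')) = maximalIdeal D :=
      IsLocalRing.eq_maximalIdeal hmaxD
    have h2 : ((n'.comap (algebraMap C' (D ⊗[C] C'))).comap (algebraMap C C')) =
        maximalIdeal C := by
      rw [Ideal.comap_comap]
      have : (algebraMap C' (D ⊗[C] C')).comp (algebraMap C C') =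
          (algebraMap D (D ⊗[C] C')).comp (algebraMap C D) := by
        ext c
        change (1 : D) ⊗ₜ[C] (algebraMap C C' c) = (algebraMap C D c) ⊗ₜ[C] (1 : C')
        rw [Algebra.algebraMap_eq_smul_one, Algebra.algebraMap_eq_smul_one, TensorProduct.smul_tmul]
      rw [this, ← Ideal.comap_comap, h1]
      exact ((IsLocalRing.local_hom_TFAE (algebraMap C D)).out 0 4).mp ‹_›
    haveI : ((n'.comap (algebraMap C' (D ⊗[C] C'))).comap (algebraMap C C')).IsMaximal := by
      rw [h2]; infer_instance
    exact IsLocalRing.eq_maximalIdeal (Ideal.isMaximal_of_isIntegral_of_isMaximal_comap _ ‹_›)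
  haveI : IsLocalHom (algebraMap C' (Localization.AtPrime n')) := by
    constructor
    intro c hc
    by_contra hnu
    have hcm : c ∈ maximalIdeal C' := hnu
    rw [← hcomapC', Ideal.mem_comap] at hcm
    have h3 : algebraMap (D ⊗[C] C') (Localization.AtPrime n') (algebraMap C' _ c) ∈
        maximalIdeal (Localization.AtPrime n') :=
      (IsLocalization.AtPrime.to_map_mem_maximal_iff _ n' _).mpr hcm
    rw [← IsScalarTower.algebraMap_apply] at h3
    exact h3 hc
  have hdepthE : (2 : ℕ∞) ≤
      LocCoh.depth (Localization.AtPrime n') (Localization.AtPrime n') := by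
    rw [Groth.Agent.Lib.Helper28.depth_eq_depth_add_depth_fibre (R := C')
      (S := Localization.AtPrime n')]
    exact le_add_right hdepthC'
  have hdisj : Disjoint (n'.primeCompl : Set (D ⊗[C] C')) Q'' := by
    rw [Set.disjoint_left]
    intro x hx hxQ
    exact hx (hn'le hxQ)
  have hPmin : Q''.map (algebraMap _ (Localization.AtPrime n')) ∈
      minimalPrimes (Localization.AtPrime n') := by
    have := IsLocalization.minimalPrimes_map n'.primeCompl (Localization.AtPrime n')
      (⊥ : Ideal (D ⊗[C] C'))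
    rw [Ideal.map_bot] at this
    change _ ∈ (⊥ : Ideal _).minimalPrimes
    rw [this]
    rw [Set.mem_preimage]
    rw [IsLocalization.under_map_of_isPrime_disjoint n'.primeCompl _ hQ''prime hdisj]
    exact hQ''min
  have hPass : Q''.map (algebraMap _ (Localization.AtPrime n')) ∈
      associatedPrimes (Localization.AtPrime n') (Localization.AtPrime n') := by
    apply Module.associatedPrimes.minimalPrimes_annihilator_subset_associatedPrimes
    rw [Module.annihilator_eq_bot.mpr inferInstance]
    exact hPmin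
  have h2 : (2 : WithBot ℕ∞) ≤
      ringKrullDim (Localization.AtPrime n' ⧸ Q''.map (algebraMap _ (Localization.AtPrime n'))) :=
    Groth.Agent.Lib.Helper28.natCast_le_ringKrullDim_quotient_of_le_depth 2
      (Localization.AtPrime n') (by exact_mod_cast hdepthE) _ hPass
  refine h2.trans ?_
  rw [ringKrullDim_quotient, ringKrullDim_quotient]
  refine Order.krullDim_le_of_strictMono (fun x => ⟨PrimeSpectrum.comap
    (algebraMap (D ⊗[C] C') (Localization.AtPrime n')) x.1, ?_⟩) ?_
  · have hx := x.2
    rw [PrimeSpectrum.mem_zeroLocus] at hx ⊢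
    intro z hz
    exact hx (Ideal.mem_map_of_mem _ hz)
  · intro x y hxy
    have hmono : (PrimeSpectrum.comap (algebraMap (D ⊗[C] C') (Localization.AtPrime n')) x.1) ≤
        (PrimeSpectrum.comap (algebraMap (D ⊗[C] C') (Localization.AtPrime n')) y.1) :=
      Ideal.comap_mono (le_of_lt hxy)
    refine lt_of_le_of_ne hmono (fun heq => ?_)
    have := PrimeSpectrum.localization_comap_injective (Localization.AtPrime n') n'.primeCompl (congrArg Subtype.val heq)
    exact (ne_of_lt hxy) (Subtype.ext this)

end Groth.Agent.Lib.R2LeadC2FlatA
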