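import Mathlib
import Groth.Agent.Lib.R2LeadC2FlatA
import Groth.Agent.Lib.Helper28ComplNagata
import Groth.Agent.Lib.Helper28GeomRed1
import Groth.Agent.Lib.Helper28FlatEquidim
import Groth.Agent.Lib.H9HensSub1
import Groth.Agent.Lib.Helper4Japanese3

namespace Groth.Agent.Lib.R2LeadC2FlatB

universe u

open TensorProduct IsLocalRing

/-- a complete Noetherian local domain is N-2. -/
theorem isN2_of_complete_domain (C : Type u) [CommRing C] [IsDomain C] [IsNoetherianRing C]
    [IsLocalRing C] [IsAdicComplete (maximalIdeal C) C] : CAlg.IsN2 C := by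
  have h := (Groth.Agent.Lib.Helper28.isNagata_of_isAdicComplete_local C).2 (⊥ : Ideal C)
  letI : Algebra (C ⧸ (⊥ : Ideal C)) C := (RingEquiv.quotientBot C).toRingHom.toAlgebra
  haveI : Module.Finite (C ⧸ (⊥ : Ideal C)) C :=
    Module.Finite.of_surjective (Algebra.linearMap (C ⧸ (⊥ : Ideal C)) C)
      (RingEquiv.quotientBot C).surjective
  exact Groth.Agent.Lib.Helper4.Japanese.isN2_of_finite_injective (C ⧸ (⊥ : Ideal C)) C
    (RingEquiv.quotientBot C).injective h

theorem domain_case (C D : Type u) [CommRing C] [CommRing D] [IsDomain C]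
    [IsNoetherianRing C] [IsNoetherianRing D] [IsLocalRing C] [IsLocalRing D]
    [Algebra C D] [IsLocalHom (algebraMap C D)] [Module.Flat C D]
    [IsAdicComplete (maximalIdeal C) C]
    (hC : (2 : WithBot ℕ∞) ≤ ringKrullDim C) (Q : Ideal D) (hQ : Q ∈ minimalPrimes D) :
    (2 : WithBot ℕ∞) ≤ ringKrullDim (D ⧸ Q) := by
  haveI : Module.Finite C (integralClosure C (FractionRing C)) :=
    isN2_of_complete_domain C (FractionRing C) inferInstance
  haveI : HenselianLocalRing C := Groth.Agent.Lib.H9HensSub1.henselianLocalRing_of_henselianRing C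
  haveI : IsLocalRing (integralClosure C (FractionRing C)) :=
    Groth.Agent.Lib.Helper28.GeomRed.isLocalRing_of_finite_of_isDomain C _
  haveI : IsIntegrallyClosed (integralClosure C (FractionRing C)) :=
    integralClosure.isIntegrallyClosedOfFiniteExtension (FractionRing C)
  have hinj : Function.Injective (algebraMap C (integralClosure C (FractionRing C))) := by
    have h : Function.Injective (algebraMap C (FractionRing C)) := IsFractionRing.injective C _
    intro a b hab
    apply h
    have := congrArg (fun x : integralClosure C (FractionRing C) => (x : FractionRing C)) hab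
    exact this
  exact Groth.Agent.Lib.R2LeadC2FlatA.domain_case_aux C D (integralClosure C (FractionRing C)) hinj
    hC Q hQ

theorem core (R S : Type u) [CommRing R] [CommRing S] [IsNoetherianRing R] [IsNoetherianRing S]
    [IsLocalRing R] [IsLocalRing S] [Algebra R S] [IsLocalHom (algebraMap R S)] [Module.Flat R S]
    [IsAdicComplete (maximalIdeal R) R]
    (hR : ∀ p ∈ minimalPrimes R, (2 : WithBot ℕ∞) ≤ ringKrullDim (R ⧸ p)) :
    ∀ q ∈ minimalPrimes S, (2 : WithBot ℕ∞) ≤ ringKrullDim (S ⧸ q) := by
  intro q hq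
  have hq' : q ∈ ((⊥ : Ideal R).map (algebraMap R S)).minimalPrimes := by
    rw [Ideal.map_bot]; exact hq
  obtain ⟨hp, hqp⟩ :=
    Groth.Agent.Lib.Helper28.under_mem_minimalPrimes_of_mem_minimalPrimes_map (⊥ : Ideal R) q hq'
  have hpprime : (q.under R).IsPrime := hp.1.1
  have hpS : (q.under R).map (algebraMap R S) ≠ ⊤ :=
    Groth.Agent.Lib.Helper28.map_ne_top_of_isLocalHom _ hpprime.ne_top
  haveI : IsLocalRing (R ⧸ q.under R) := Groth.Agent.Lib.Helper5.isLocalRing_quotient hpprime.ne_top
  haveI : IsLocalRing (S ⧸ (q.under R).map (algebraMap R S)) :=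
    Groth.Agent.Lib.Helper5.isLocalRing_quotient hpS
  haveI : IsLocalHom (algebraMap (R ⧸ q.under R) (S ⧸ (q.under R).map (algebraMap R S))) :=
    Groth.Agent.Lib.Helper28.isLocalHom_quotient_map _
  haveI : Module.Flat (R ⧸ q.under R) (S ⧸ (q.under R).map (algebraMap R S)) :=
    Groth.Agent.Lib.Helper28.flat_quotient_map' _
  haveI : IsAdicComplete (maximalIdeal (R ⧸ q.under R)) (R ⧸ q.under R) :=
    Groth.Agent.Lib.Helper28.isAdicComplete_quotient_local _
  haveI : IsDomain (R ⧸ q.under R) := Ideal.Quotient.isDomain _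
  -- `q` comes from a minimal prime of the quotient
  have hsurj : Function.Surjective (Ideal.Quotient.mk ((q.under R).map (algebraMap R S))) :=
    Ideal.Quotient.mk_surjective
  have h1 := Ideal.comap_minimalPrimes_eq_of_surjective hsurj
    (⊥ : Ideal (S ⧸ (q.under R).map (algebraMap R S)))
  rw [← RingHom.ker_eq_comap_bot, Ideal.mk_ker] at h1
  rw [h1] at hqp
  obtain ⟨Q, hQ, hQq⟩ := hqp
  have h2 := Groth.Agent.Lib.Helper28.ringKrullDim_quotient_quotient
    ((q.under R).map (algebraMap R S)) Q
  rw [hQq] at h2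
  rw [← h2]
  exact domain_case (R ⧸ q.under R) _ (hR _ hp) Q hQ

end Groth.Agent.Lib.R2LeadC2FlatB
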