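import Mathlib
import Groth.Agent.Lib.R2LeadC2FlatB
import Groth.Agent.Lib.R2H1Multicross
import Groth.Agent.Lib.Helper19ComplFlatLocal

namespace Groth.Agent.Lib.R2LeadC2FlatC

universe u

open TensorProduct IsLocalRing

theorem main (A B : Type u) [CommRing A] [CommRing B] [IsNoetherianRing A] [IsNoetherianRing B]
    [IsLocalRing A] [IsLocalRing B] (f : A →+* B) [IsLocalHom f] (hf : f.Flat)
    (hA : ∀ q ∈ minimalPrimes (AdicCompletion (IsLocalRing.maximalIdeal A) A), (2 : WithBot ℕ∞) ≤ ringKrullDim (AdicCompletion (IsLocalRing.maximalIdeal A) A ⧸ q)) :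
    ∀ q ∈ minimalPrimes (AdicCompletion (IsLocalRing.maximalIdeal B) B), (2 : WithBot ℕ∞) ≤ ringKrullDim (AdicCompletion (IsLocalRing.maximalIdeal B) B ⧸ q) := by
  classical
  letI : Algebra A B := f.toAlgebra
  haveI : IsLocalHom (algebraMap A B) := ‹IsLocalHom f›
  have hle : (maximalIdeal A).map f ≤ maximalIdeal B :=
    ((IsLocalRing.local_hom_TFAE f).out 0 2).mp ‹_›
  let ψ := Groth.Agent.Lib.R2H1.Multicross.complMap f (maximalIdeal A) (maximalIdeal B) hle
  have hψ : ψ.comp (algebraMap A (AdicCompletion (maximalIdeal A) A)) =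
      (algebraMap B (AdicCompletion (maximalIdeal B) B)).comp (algebraMap A B) := by
    refine RingHom.ext fun a => ?_
    exact Groth.Agent.Lib.R2H1.Multicross.complMap_of f (maximalIdeal A) (maximalIdeal B) hle a
  have hflat : ψ.Flat :=
    (Groth.Agent.Lib.Helper19.completion_map_flat_iff_flat A B ψ hψ).mpr hf
  haveI : IsNoetherianRing (AdicCompletion (maximalIdeal A) A) :=
    Groth.Agent.Lib.Helper19.isNoetherianRing_adicCompletion _
  haveI : IsNoetherianRing (AdicCompletion (maximalIdeal B) B) :=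
    Groth.Agent.Lib.Helper19.isNoetherianRing_adicCompletion _
  letI : Algebra (AdicCompletion (maximalIdeal A) A) (AdicCompletion (maximalIdeal B) B) :=
    ψ.toAlgebra
  haveI : Module.Flat (AdicCompletion (maximalIdeal A) A) (AdicCompletion (maximalIdeal B) B) :=
    hflat
  haveI : IsLocalHom (algebraMap (AdicCompletion (maximalIdeal A) A)
      (AdicCompletion (maximalIdeal B) B)) := by
    apply ((IsLocalRing.local_hom_TFAE ψ).out 0 2).mpr
    rw [AdicCompletion.maximalIdeal_eq_map, Ideal.map_map, hψ, ← Ideal.map_map,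
      AdicCompletion.maximalIdeal_eq_map]
    exact Ideal.map_mono hle
  exact Groth.Agent.Lib.R2LeadC2FlatB.core (AdicCompletion (maximalIdeal A) A)
    (AdicCompletion (maximalIdeal B) B) hA

end Groth.Agent.Lib.R2LeadC2FlatC
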