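import Mathlib
import Groth.Agent.Lib.R2H3ChowMain

/-!
# Chow's lemma with the extra conclusions (density of the preimage of the open, reducedness,
irreducibility) — a strengthening of helper3's `chow_core` / `chow_qcqs` (lead)
-/

set_option autoImplicit false
set_option linter.unusedSectionVars false
universe u
open CategoryTheory CategoryTheory.Limits AlgebraicGeometry TopologicalSpace Opposite

namespace Groth.Agent.Lib.R2LeadChow1

open Groth.Agent.Lib.R2H3.ChowDense Groth.Agent.Lib.R2H3.ChowAffine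
  Groth.Agent.Lib.R2H3.ChowProd Groth.Agent.Lib.R2H3.ChowTop Groth.Agent.Lib.R2H3.ZMTFin

/-- the scheme-theoretic image of a quasi-compact morphism from a reduced scheme is reduced -/
theorem isReduced_image {A B : Scheme.{u}} (f : A ⟶ B) [QuasiCompact f] [IsReduced A] :
    IsReduced f.image := by
  constructor
  intro W
  exact isReduced_of_injective (f.toImage.app W).hom (schDense_toImage f W)

/-- a scheme with a dominant morphism from an irreducible scheme is irreducible -/
theorem irreducibleSpace_of_isDominant {A B : Scheme.{u}} (f : A ⟶ B) [IsDominant f]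
    [IrreducibleSpace A] : IrreducibleSpace B := by
  have h1 : IsIrreducible (Set.range f) := by
    rw [← Set.image_univ]
    exact (IrreducibleSpace.isIrreducible_univ A).image _ f.continuous.continuousOn
  have h2 := h1.closure
  rw [f.denseRange.closure_eq] at h2
  exact (irreducibleSpace_def B).mpr h2

/-- a dense open subscheme of an irreducible scheme is irreducible -/
theorem irreducibleSpace_opens {X : Scheme.{u}} [IrreducibleSpace X] (U : X.Opens)
    (hU : Dense (U : Set X)) : IrreducibleSpace U.toScheme := by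
  have hne : (U : Set X).Nonempty := hU.nonempty
  have h1 : IsIrreducible (U : Set X) :=
    ⟨hne, (IrreducibleSpace.isIrreducible_univ X).isPreirreducible.open_subset U.2
      (Set.subset_univ _)⟩
  exact isIrreducible_iff_irreducibleSpace.mp h1

/-- the core of Chow's lemma (helper3's `chow_core`), with the extra conclusions: the preimage of `U` is dense,
and the new scheme is reduced / irreducible as soon as `U` is. -/
theorem chow_core' {S X Q : Scheme.{u}} (f : X ⟶ S) [IsSeparated f] (t : Q ⟶ S) [IsProper t]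
    {K : Type*} (Uk : K → X.Opens) (hcov : ⨆ k, Uk k = ⊤) (U : X.Opens) (hU : ∀ k, U ≤ Uk k)
    (hdense : Dense (U : Set X)) [QuasiCompact U.ι]
    (P : K → Scheme.{u}) (p : ∀ k, P k ⟶ S) [∀ k, IsSeparated (p k)]
    (j : ∀ k, (Uk k).toScheme ⟶ P k) [∀ k, IsImmersion (j k)]
    (hj : ∀ k, j k ≫ p k = (Uk k).ι ≫ f)
    (q : ∀ k, Q ⟶ P k) (hq : ∀ k, q k ≫ p k = t)
    (g : U.toScheme ⟶ Q) (hgt : g ≫ t = U.ι ≫ f)
    (hg : ∀ k, g ≫ q k = X.homOfLE (hU k) ≫ j k) :
    ∃ (X' : Scheme.{u}) (π : X' ⟶ X) (h : X' ⟶ Q), IsProper π ∧ Surjective π ∧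
      IsIso (π ∣_ U) ∧ IsImmersion h ∧ h ≫ t = π ≫ f ∧
      Dense ((π ⁻¹ᵁ U : X'.Opens) : Set X') ∧
      (IsReduced U.toScheme → IsReduced X') ∧
      (IrreducibleSpace U.toScheme → IrreducibleSpace X') := by
  let γ : U.toScheme ⟶ pullback f t := pullback.lift U.ι g hgt.symm
  have hγ1 : γ ≫ pullback.fst f t = U.ι := pullback.lift_fst _ _ _
  have hγ2 : γ ≫ pullback.snd f t = g := pullback.lift_snd _ _ _
  have : IsImmersion γ := by
    have : IsImmersion (γ ≫ pullback.fst f t) := by rw [hγ1]; infer_instance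
    exact IsImmersion.of_comp γ (pullback.fst f t)
  have : QuasiCompact γ := by
    have : QuasiCompact (γ ≫ pullback.fst f t) := by rw [hγ1]; infer_instance
    exact QuasiCompact.of_comp γ (pullback.fst f t)
  have hι'ε : γ.toImage ≫ γ.imageι = γ := γ.toImage_imageι
  have hι'π : γ.toImage ≫ γ.imageι ≫ pullback.fst f t = U.ι := by
    rw [← Category.assoc, hι'ε, hγ1]
  have hι'h : γ.toImage ≫ γ.imageι ≫ pullback.snd f t = g := by
    rw [← Category.assoc, hι'ε, hγ2]
  have hd : SchDense γ.toImage := schDense_toImage γ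
  have hπh : (γ.imageι ≫ pullback.fst f t) ≫ f = (γ.imageι ≫ pullback.snd f t) ≫ t := by
    rw [Category.assoc, Category.assoc, pullback.condition]
  have hstep1 := fun k => step1 f t (γ.imageι ≫ pullback.fst f t) (γ.imageι ≫ pullback.snd f t)
    hπh U γ.toImage hd hι'π g hι'h (Uk k) (hU k) (p k) (j k) (hj k) (q k) (hq k) (hg k)
  have hstep3 := fun k => step3 f t (γ.imageι ≫ pullback.fst f t) (γ.imageι ≫ pullback.snd f t)
    hπh U γ.toImage hd hι'π g hι'h (Uk k) (hU k) (p k) (j k) (hj k) (q k) (hq k) (hg k)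
    γ.imageι rfl rfl
  have hr : Set.range γ.toImage ⊆
      (((γ.imageι ≫ pullback.fst f t) ⁻¹ᵁ U : γ.image.Opens) : Set γ.image) := by
    rintro _ ⟨u, rfl⟩
    show (γ.imageι ≫ pullback.fst f t) (γ.toImage u) ∈ U
    rw [← Scheme.Hom.comp_apply, hι'π]
    exact u.2
  refine ⟨γ.image, γ.imageι ≫ pullback.fst f t, γ.imageι ≫ pullback.snd f t, inferInstance,
    ?_, ?_, ?_, hπh.symm, ?_, ?_, ?_⟩
  · -- surjective
    have : IsDominant (γ.toImage ≫ γ.imageι ≫ pullback.fst f t) := by
      rw [hι'π]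
      constructor
      rw [DenseRange, Scheme.Opens.range_ι]
      exact hdense
    have : IsDominant (γ.imageι ≫ pullback.fst f t) := IsDominant.of_comp γ.toImage _
    exact surjective_of_isDominant_of_isClosed_range _
      (Scheme.Hom.isClosedMap (γ.imageι ≫ pullback.fst f t)).isClosed_range
  · -- iso over U
    let σ : U.toScheme ⟶ ((γ.imageι ≫ pullback.fst f t) ⁻¹ᵁ U).toScheme :=
      IsOpenImmersion.lift ((γ.imageι ≫ pullback.fst f t) ⁻¹ᵁ U).ι γ.toImage
        (by rw [Scheme.Opens.range_ι]; exact hr)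
    have hσ : σ ≫ ((γ.imageι ≫ pullback.fst f t) ⁻¹ᵁ U).ι = γ.toImage :=
      IsOpenImmersion.lift_fac _ _ _
    have hσd : SchDense σ := hd.of_comp σ _ hσ
    have hσπ : σ ≫ ((γ.imageι ≫ pullback.fst f t) ∣_ U) = 𝟙 _ := by
      rw [← cancel_mono U.ι, Category.assoc, morphismRestrict_ι, ← Category.assoc, hσ, hι'π,
        Category.id_comp]
    have hπσ : ((γ.imageι ≫ pullback.fst f t) ∣_ U) ≫ σ = 𝟙 _ := by
      rw [← cancel_mono ((γ.imageι ≫ pullback.fst f t) ⁻¹ᵁ U).ι, Category.assoc, hσ,
        Category.id_comp]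
      apply hσd.ext ((γ.imageι ≫ pullback.fst f t) ≫ f)
      · rw [Category.assoc, ← Category.assoc γ.toImage, hι'π, ← Category.assoc,
          morphismRestrict_ι, Category.assoc]
      · rw [← Category.assoc, hσπ, Category.id_comp, hσ]
    exact ⟨σ, hπσ, hσπ⟩
  · -- immersion
    apply IsZariskiLocalAtTarget.of_range_subset_iSup (P := @IsImmersion)
      (fun k => q k ⁻¹ᵁ (j k).coborderRange)
    · rintro _ ⟨x, rfl⟩
      have hx : (γ.imageι ≫ pullback.fst f t) x ∈ (⊤ : X.Opens) := trivial
      rw [← hcov] at hx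
      obtain ⟨k, hk⟩ := Opens.mem_iSup.mp hx
      exact Opens.mem_iSup.mpr ⟨k, hstep1 k hk⟩
    · intro k
      have := hstep3 k
      infer_instance
  · -- density
    exact (γ.toImage.denseRange).mono hr
  · intro hred
    exact isReduced_image γ
  · intro hirr
    exact irreducibleSpace_of_isDominant γ.toImage

/-- Chow's lemma over a quasi-compact quasi-separated base, for `X` with finitely many irreducible
components (helper3's `chow_qcqs`), with the extra conclusions. -/
theorem chow_qcqs' {X S : Scheme.{u}} (f : X ⟶ S) [CompactSpace S] [QuasiSeparatedSpace S]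
    [IsSeparated f] [LocallyOfFiniteType f] [QuasiCompact f]
    (hirr : (irreducibleComponents (X : Type u)).Finite) :
    ∃ (n : ℕ) (X' : Scheme.{u}) (π : X' ⟶ X) (j : X' ⟶ CohB1.ProjSpaceOver n S),
      IsImmersion j ∧ j ≫ CohB1.ProjSpaceOver.toBase n S = π ≫ f ∧ IsProper π ∧ Surjective π ∧
      ∃ U : X.Opens, Dense (U : Set X) ∧ IsIso (π ∣_ U) ∧
        Dense ((π ⁻¹ᵁ U : X'.Opens) : Set X') ∧
        (IsReduced X → IsReduced X') ∧ (IrreducibleSpace X → IrreducibleSpace X') := by
  have hXc : CompactSpace X := QuasiCompact.compactSpace_of_compactSpace f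
  have hXq : QuasiSeparatedSpace X := quasiSeparatedSpace_of_quasiSeparated f
  rcases isEmpty_or_nonempty X with hX | hX
  · refine ⟨0, X, 𝟙 X, (isInitialOfIsEmpty (X := X)).to _, inferInstance,
      (isInitialOfIsEmpty (X := X)).hom_ext _ _, inferInstance, inferInstance, ⊤, ?_, inferInstance,
      ?_, fun h => h, fun h => h⟩
    · intro x
      exact (hX.false x).elim
    · intro x
      exact (hX.false x).elim
  obtain ⟨t, W, U, hW, hcov, hU, hdense, hUc⟩ := exists_affine_cover X hirr
  have : CompactSpace U.toScheme := isCompact_iff_compactSpace.mp hUc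
  have : QuasiCompact U.ι := inferInstance
  obtain ⟨x₀⟩ := hX
  obtain ⟨k₀, hk₀, -⟩ := hcov x₀
  -- the index type
  let K : Type u := {x // x ∈ t}
  let Uk : K → X.Opens := fun k => W k.1
  have hcov' : ⨆ k, Uk k = ⊤ := by
    rw [eq_top_iff]
    intro y _
    obtain ⟨x, hx, hy⟩ := hcov y
    exact Opens.mem_iSup.mpr ⟨⟨x, hx⟩, hy⟩
  have hU' : ∀ k, U ≤ Uk k := fun k => hU k.1 k.2
  have haff : ∀ k, IsAffine (Uk k).toScheme := fun k => hW k.1
  have key : ∀ k : K, ∃ (n : ℕ) (j : (Uk k).toScheme ⟶ CohB1.ProjSpaceOver n S), IsImmersion j ∧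
      j ≫ CohB1.ProjSpaceOver.toBase n S = (Uk k).ι ≫ f := fun k =>
    exists_immersion_projSpace ((Uk k).ι ≫ f)
  choose n j hjimm hj using key
  obtain ⟨Q, t', N, c, g, hc, hct, hgt, hq⟩ := exists_product (U.ι ≫ f) (Finset.univ : Finset K)
    ⟨⟨k₀, hk₀⟩, Finset.mem_univ _⟩ n (fun k => X.homOfLE (hU' k) ≫ j k) (fun k => by
      rw [Category.assoc, hj k, ← Category.assoc, X.homOfLE_ι])
  have key2 : ∀ k : K, ∃ q : Q ⟶ CohB1.ProjSpaceOver (n k) S,
      q ≫ CohB1.ProjSpaceOver.toBase (n k) S = t' ∧ g ≫ q = X.homOfLE (hU' k) ≫ j k :=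
    fun k => hq k (Finset.mem_univ _)
  choose q hq1 hq2 using key2
  have hprop : ∀ m, IsProper (CohB1.ProjSpaceOver.toBase m S) :=
    fun m => Groth.Agent.S9705.isProper_toBase m S
  have : IsProper t' := by
    rw [← hct]
    infer_instance
  obtain ⟨X', π, h, hπ, hπs, hiso, himm, hht, hd, hred, hir⟩ :=
    chow_core' f t' Uk hcov' U hU' hdense
    (fun k => CohB1.ProjSpaceOver (n k) S) (fun k => CohB1.ProjSpaceOver.toBase (n k) S)
    j hj q hq1 g hgt hq2
  refine ⟨N, X', π, h ≫ c, inferInstance, ?_, hπ, hπs, U, hdense, hiso, hd, ?_, ?_⟩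
  · rw [Category.assoc, hct, hht]
  · intro hX
    exact hred inferInstance
  · intro hX
    exact hir (irreducibleSpace_opens U hdense)

end Groth.Agent.Lib.R2LeadChow1
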