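import Groth.Agent.Lib.R2LeadHProjC
import Groth.Agent.Lib.Helper13RelProjA
import Groth.Agent.Lib.Helper13ProjExist
set_option backward.isDefEq.respectTransparency.types false

/-!
# H-projective morphisms are projective (lead)
-/

set_option autoImplicit false
universe u

open CategoryTheory CategoryTheory.Limits AlgebraicGeometry TopologicalSpace Opposite
open HomogeneousLocalization
open scoped HomogeneousIdeal
open Scheme.AffineZariskiSite Groth.Agent.Lib.R2LeadHProj0 Groth.Agent.Helper13ProjQuotIdeal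
  Groth.Agent.Helper13Dehom Groth.Agent.Helper13GradedQuot Groth.Agent.Lib.R2LeadHProjB
  Groth.Agent.Lib.R2LeadHProjC Groth.Agent.Helper13ProjBC Groth.Agent.Helper13RelProj

namespace Groth.Agent.Lib.R2LeadHProjD

noncomputable section

section General

variable {A B σ τ : Type u} [CommRing A] [SetLike σ A] [AddSubgroupClass σ A]
  [CommRing B] [SetLike τ B] [AddSubgroupClass τ B]
  {𝒜 : ℕ → σ} {ℬ : ℕ → τ} [GradedRing 𝒜] [GradedRing ℬ]
  (f : 𝒜 →+*ᵍ ℬ)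

theorem irrelevant_le_map_of_surjective (hsurj : Function.Surjective f) : ℬ₊ ≤ 𝒜₊.map f := by
  rw [HomogeneousIdeal.irrelevant_le]
  intro i hi b hb
  obtain ⟨a, ha, rfl⟩ := exists_mem_of_surjective f hsurj hb
  change f a ∈ Ideal.map f (𝒜₊.toIdeal)
  exact Ideal.mem_map_of_mem _ (HomogeneousIdeal.mem_irrelevant_of_mem _ hi ha)

end General

section Ker

variable {R A : Type u} [CommRing R] [CommRing A] [Algebra R A] {𝒜 : ℕ → Submodule R A}
  [GradedAlgebra 𝒜] {ι : Type u} {f : ι → A} (hf : ∀ i, f i ∈ 𝒜 1)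
  (I : (Proj 𝒜).IdealSheafData)

/-- the kernel of `Proj (A ⧸ J) ⟶ Proj A` for the homogeneous ideal `J` of an ideal sheaf `I` is `I` -/
theorem ker_map_quotHom [Finite ι] (hcov : ⨆ i, Proj.basicOpen 𝒜 (f i) = ⊤) :
    letI : GradedAlgebra (qgr 𝒜 (J hf I).toIdeal) :=
      gradedAlgebraQuot 𝒜 (J hf I).toIdeal (J hf I).isHomogeneous
    (Proj.map (quotHom 𝒜 (J hf I).toIdeal)
      (Groth.Agent.Helper13ProjQuotIdeal.irrelevant_le_map (quotHom 𝒜 (J hf I).toIdeal)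
        (quotHom_surjective 𝒜 (J hf I).toIdeal))).ker = I := by
  letI : GradedAlgebra (qgr 𝒜 (J hf I).toIdeal) :=
    gradedAlgebraQuot 𝒜 (J hf I).toIdeal (J hf I).isHomogeneous
  have hsurj := quotHom_surjective 𝒜 (J hf I).toIdeal
  have hφ := Groth.Agent.Helper13ProjQuotIdeal.irrelevant_le_map (quotHom 𝒜 (J hf I).toIdeal) hsurj
  haveI : IsClosedImmersion (Proj.map (quotHom 𝒜 (J hf I).toIdeal) hφ) :=
    Groth.Agent.Lib.Helper27ProjClosed.isClosedImmersion_map _ hsurj hφ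
  refine Scheme.IdealSheafData.ext_of_iSup_eq_top (Uaff hf) hcov (fun j => ?_)
  rw [Scheme.Hom.ker_apply]
  ext x
  obtain ⟨k, a, ha, rfl⟩ := exists_dehom_eq hf j x
  rw [RingHom.mem_ker]
  refine (map_app_dehom_eq_zero_iff _ hφ (hf j) ha).trans ?_
  refine Iff.trans ?_ (dehom_mem_iff hf I j ha).symm
  simp only [quotHom_eq_zero_iff]

end Ker

section Main

variable (n : ℕ) {S : Scheme.{u}} (𝓘 : (CohB1.ProjSpaceOver n S).IdealSheafData)

/-- the inverse of `γ` as a graded ring hom -/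
def ψU (U : S.AffineZariskiSite) : gr n 𝓘 U →+*ᵍ (grAlg n 𝓘).deg U.1 U.2 where
  toRingHom := (γ n 𝓘 U.1 U.2).symm.toRingHom
  map_mem := fun {i x} hx => by
    change γ n 𝓘 U.1 U.2 ((γ n 𝓘 U.1 U.2).symm x) ∈ gr n 𝓘 ⟨U.1, U.2⟩ i
    rw [RingEquiv.apply_symm_apply]
    exact hx

theorem ψU_apply (U : S.AffineZariskiSite) (x : BU n 𝓘 U) :
    ψU n 𝓘 U x = (γ n 𝓘 U.1 U.2).symm x := rfl

theorem ψU_bijective (U : S.AffineZariskiSite) : Function.Bijective (ψU n 𝓘 U) :=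
  (γ n 𝓘 U.1 U.2).symm.bijective

/-- the quotient map, as a graded ring hom -/
abbrev qH (U : S.AffineZariskiSite) : CohB1.polyGrading n Γ(S, U.1) →+*ᵍ gr n 𝓘 U :=
  quotHom (CohB1.polyGrading n Γ(S, U.1)) (JU n 𝓘 U).toIdeal

theorem hirrQ (U : S.AffineZariskiSite) :
    (gr n 𝓘 U)₊ ≤ ((CohB1.polyGrading n Γ(S, U.1))₊).map (qH n 𝓘 U) :=
  Groth.Agent.Helper13ProjQuotIdeal.irrelevant_le_map (qH n 𝓘 U) (quotHom_surjective _ _)

theorem hirrψ (U : S.AffineZariskiSite) :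
    ((grAlg n 𝓘).deg U.1 U.2)₊ ≤ ((gr n 𝓘 U)₊).map (ψU n 𝓘 U) :=
  irrelevant_le_map_of_surjective (ψU n 𝓘 U) (ψU_bijective n 𝓘 U).2

/-- the graded surjection `O(U)[T] → 𝒮(U)` -/
def qU (U : S.AffineZariskiSite) : CohB1.polyGrading n Γ(S, U.1) →+*ᵍ (grAlg n 𝓘).deg U.1 U.2 :=
  (ψU n 𝓘 U).comp (qH n 𝓘 U)

theorem qU_apply (U : S.AffineZariskiSite) (x : MvPolynomial (Fin (n + 1)) Γ(S, U.1)) :
    qU n 𝓘 U x = cls n 𝓘 U.1 U.2 x := rfl

theorem qU_surjective (U : S.AffineZariskiSite) : Function.Surjective (qU n 𝓘 U) :=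
  fun x => cls_surjective n 𝓘 U.1 U.2 x

theorem hirr (U : S.AffineZariskiSite) :
    ((grAlg n 𝓘).deg U.1 U.2)₊ ≤ ((CohB1.polyGrading n Γ(S, U.1))₊).map (qU n 𝓘 U) :=
  HomogeneousIdeal.irrelevant_le_map_comp (hirrQ n 𝓘 U) (hirrψ n 𝓘 U)

theorem map_qU (U : S.AffineZariskiSite) :
    Proj.map (qU n 𝓘 U) (hirr n 𝓘 U) =
      Proj.map (ψU n 𝓘 U) (hirrψ n 𝓘 U) ≫ Proj.map (qH n 𝓘 U) (hirrQ n 𝓘 U) :=
  Proj.map_comp _ _ _ _

instance isIso_map_ψU (U : S.AffineZariskiSite) :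
    IsIso (Proj.map (ψU n 𝓘 U) (hirrψ n 𝓘 U)) := by
  apply isIso_map_of_bijOn_pos
  intro d _
  refine ⟨fun x hx => Graded.map_mem (ψU n 𝓘 U) hx, (ψU_bijective n 𝓘 U).1.injOn, ?_⟩
  intro y hy
  refine ⟨γ n 𝓘 U.1 U.2 y, hy, ?_⟩
  rw [ψU_apply, RingEquiv.symm_apply_apply]

instance isClosedImmersion_map_qU (U : S.AffineZariskiSite) :
    IsClosedImmersion (Proj.map (qU n 𝓘 U) (hirr n 𝓘 U)) :=
  isClosedImmersion_map_of_surjective _ _ (qU_surjective n 𝓘 U)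

theorem iSup_basicOpen_fX (R : Type u) [CommRing R] :
    ⨆ j, Proj.basicOpen (CohB1.polyGrading n R) (fX n R j) = ⊤ := by
  apply Proj.iSup_basicOpen_eq_top'
  · intro j
    exact ⟨1, hfX n R j⟩
  · rw [eq_top_iff]
    intro p hp0
    clear hp0
    induction p using MvPolynomial.induction_on with
    | C a =>
      have : (MvPolynomial.C a : MvPolynomial (Fin (n + 1)) R) =
          algebraMap (CohB1.polyGrading n R 0) _ ⟨MvPolynomial.C a, C_mem_zero n a⟩ := rfl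
      rw [this]
      exact Subalgebra.algebraMap_mem _ _
    | add p q hp hq => exact add_mem hp hq
    | mul_X p j hp =>
      exact mul_mem hp (Algebra.subset_adjoin ⟨⟨j⟩, rfl⟩)

/-- the kernel of `Proj 𝒮(U) ⟶ P^n_{O(U)}` -/
theorem ker_map_qU (U : S.AffineZariskiSite) :
    (Proj.map (qU n 𝓘 U) (hirr n 𝓘 U)).ker = IU n 𝓘 U := by
  rw [map_qU, Scheme.Hom.ker_comp_of_isIso]
  exact ker_map_quotHom (hfX n Γ(S, U.1)) (IU n 𝓘 U) (iSup_basicOpen_fX n Γ(S, U.1))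

end Main

section Glue

variable (n : ℕ) {S : Scheme.{u}} (𝓘 : (CohB1.ProjSpaceOver n S).IdealSheafData)

/-- the chart maps to `P^n_S` -/
def gU (U : S.AffineZariskiSite) :
    Proj ((grAlg n 𝓘).deg U.1 U.2) ⟶ CohB1.ProjSpaceOver n S :=
  Proj.map (qU n 𝓘 U) (hirr n 𝓘 U) ≫ aU n U

theorem res_comp_qU {U V : S.AffineZariskiSite} (i : V ⟶ U) :
    ((grAlg n 𝓘).res U.2 V.2 (toOpens_mono i.le)).comp (qU n 𝓘 U) =
      (qU n 𝓘 V).comp (phiρ n (resρ i)) := by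
  ext x : 1
  change ((Alg n 𝓘).presheaf.map (homOfLE (toOpens_mono i.le)).op).hom (cls n 𝓘 U.1 U.2 x) =
    cls n 𝓘 V.1 V.2 (MvPolynomial.map (resρ i) x)
  apply (γ n 𝓘 V.1 V.2).injective
  refine (γ_res n 𝓘 i (cls n 𝓘 U.1 U.2 x)).trans ?_
  rw [γ_cls, γ_cls]
  exact Bmap_mk n 𝓘 i x

theorem gU_res {U V : S.AffineZariskiSite} (i : V ⟶ U) :
    Proj.map ((grAlg n 𝓘).res U.2 V.2 (toOpens_mono i.le)) (hirr_res (grAlg n 𝓘) i) ≫
      gU n 𝓘 U = gU n 𝓘 V := by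
  unfold gU
  rw [← aU_res n i, ← Category.assoc, ← Category.assoc, ← Proj.map_comp, ← Proj.map_comp]
  congr 1
  exact projMap_congr (res_comp_qU n 𝓘 i) _ _

/-- the morphism `Proj(𝒮) ⟶ P^n_S` -/
def jP : relProj (grAlg n 𝓘) ⟶ CohB1.ProjSpaceOver n S :=
  colimit.desc (projGluingData (grAlg n 𝓘)).functor
    { pt := CohB1.ProjSpaceOver n S
      ι :=
        { app := fun U => gU n 𝓘 U
          naturality := fun V U i => (gU_res n 𝓘 i).trans (Category.comp_id _).symm } }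

theorem ι_jP (U : S.AffineZariskiSite) :
    relProjι (grAlg n 𝓘) U ≫ jP n 𝓘 = gU n 𝓘 U :=
  colimit.ι_desc _ _

theorem strZero_eq (U : S.AffineZariskiSite) :
    CommRingCat.ofHom (algebraMap Γ(S, U.1) (CohB1.polyGrading n Γ(S, U.1) 0)) ≫
      CommRingCat.ofHom (qU n 𝓘 U).gradedZeroRingHom = (grAlg n 𝓘).strZero U.1 U.2 := by
  refine CommRingCat.hom_ext (RingHom.ext fun r => ?_)
  apply Subtype.ext
  change cls n 𝓘 U.1 U.2 (MvPolynomial.C r) = ((Alg n 𝓘).str.app (op U.1)).hom r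
  exact cls_C n 𝓘 U.1 U.2 r

theorem toSpecP_eq (R : Type u) [CommRing R] :
    toSpecP n R = Proj.toSpecZero (CohB1.polyGrading n R) ≫
      Spec.map (CommRingCat.ofHom (algebraMap R (CohB1.polyGrading n R 0))) := rfl

theorem map_qU_toSpecP (U : S.AffineZariskiSite) :
    Proj.map (qU n 𝓘 U) (hirr n 𝓘 U) ≫ toSpecP n Γ(S, U.1) =
      Proj.toSpecZero ((grAlg n 𝓘).deg U.1 U.2) ≫ Spec.map ((grAlg n 𝓘).strZero U.1 U.2) := by
  rw [toSpecP_eq, map_toSpecZero_assoc, ← Spec.map_comp, strZero_eq]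

theorem ι_jP_toBase (U : S.AffineZariskiSite) :
    relProjι (grAlg n 𝓘) U ≫ jP n 𝓘 ≫ CohB1.ProjSpaceOver.toBase n S =
      relProjι (grAlg n 𝓘) U ≫ relProjπ (grAlg n 𝓘) := by
  rw [← Category.assoc, ι_jP, ← (isPullback_relProjι (grAlg n 𝓘) U).w, toBaseU_ι]
  unfold gU
  rw [Category.assoc, aU_toBase, ← Category.assoc, map_qU_toSpecP, Category.assoc]

theorem jP_toBase : jP n 𝓘 ≫ CohB1.ProjSpaceOver.toBase n S = relProjπ (grAlg n 𝓘) := by
  apply colimit.hom_ext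
  intro U
  exact ι_jP_toBase n 𝓘 U

end Glue

section Final

variable (n : ℕ) {S : Scheme.{u}} (𝓘 : (CohB1.ProjSpaceOver n S).IdealSheafData)

theorem opensRange_relProjι (U : S.AffineZariskiSite) :
    (relProjι (grAlg n 𝓘) U).opensRange = relProjπ (grAlg n 𝓘) ⁻¹ᵁ U.1 := by
  have h := (projGluingData (grAlg n 𝓘)).toBase_preimage_eq_opensRange_ι U
  simpa using! h.symm

theorem isPullback_jP (U : S.AffineZariskiSite) :
    IsPullback (Proj.map (qU n 𝓘 U) (hirr n 𝓘 U)) (relProjι (grAlg n 𝓘) U) (aU n U) (jP n 𝓘) := by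
  refine IsOpenImmersion.isPullback _ _ _ _ (ι_jP n 𝓘 U) ?_
  rw [opensRange_aU, ← Scheme.Hom.comp_preimage, jP_toBase, opensRange_relProjι]

theorem exists_aU_eq (x : CohB1.ProjSpaceOver n S) :
    ∃ (U : S.AffineZariskiSite) (y : Proj (CohB1.polyGrading n Γ(S, U.1))), aU n U y = x := by
  obtain ⟨_, ⟨W, hW, rfl⟩, hxW, -⟩ := S.isBasis_affineOpens.exists_subset_of_mem_open
    (Set.mem_univ ((CohB1.ProjSpaceOver.toBase n S) x)) isOpen_univ
  have hx : x ∈ (aU n (⟨W, hW⟩ : S.AffineZariskiSite)).opensRange := by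
    rw [opensRange_aU]
    exact hxW
  obtain ⟨y, hy⟩ := hx
  exact ⟨⟨W, hW⟩, y, hy⟩

/-- the open cover of `P^n_S` by the `P^n_{O(U)}` -/
def coverQ (S : Scheme.{u}) : (CohB1.ProjSpaceOver n S).OpenCover :=
  Scheme.Cover.mkOfCovers S.AffineZariskiSite (fun U => Proj (CohB1.polyGrading n Γ(S, U.1)))
    (fun U => aU n U) (exists_aU_eq n) (fun U => by infer_instance)

instance isClosedImmersion_jP : IsClosedImmersion (jP n 𝓘) := by
  refine IsZariskiLocalAtTarget.of_openCover (P := @IsClosedImmersion) (coverQ n S) fun U => ?_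
  have hpb := (isPullback_jP n 𝓘 U).flip
  have h1 : hpb.isoPullback.inv ≫ Proj.map (qU n 𝓘 U) (hirr n 𝓘 U) =
      pullback.snd (jP n 𝓘) (aU n U) := hpb.isoPullback_inv_snd
  change IsClosedImmersion (pullback.snd (jP n 𝓘) (aU n U))
  rw [← h1]
  infer_instance

theorem ker_jP : (jP n 𝓘).ker = 𝓘 := by
  refine Groth.Agent.Lib.R2LeadHProjA.ext_of_comap_eq (fun U : S.AffineZariskiSite => aU n U)
    (fun x => by obtain ⟨U, y, hy⟩ := exists_aU_eq n x; exact ⟨U, y, hy⟩) fun U => ?_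
  rw [← Scheme.IdealSheafData.ker_fst_of_isClosedImmersion]
  have hpb := isPullback_jP n 𝓘 U
  have h1 : hpb.isoPullback.inv ≫ Proj.map (qU n 𝓘 U) (hirr n 𝓘 U) =
      pullback.fst (aU n U) (jP n 𝓘) := hpb.isoPullback_inv_fst
  rw [← h1, Scheme.Hom.ker_comp_of_isIso, ker_map_qU]
  rfl

end Final

/-- **H-projective morphisms are projective.** -/
theorem isProjective_of_isHProjective {X S : Scheme.{u}} (f : X ⟶ S)
    (hf : RelProj.IsHProjective f) : RelProj.IsProjective f := by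
  obtain ⟨n, i, hi, hif⟩ := hf
  have hker : (jP n i.ker).ker = i.ker := ker_jP n i.ker
  haveI := IsClosedImmersion.isIso_lift (jP n i.ker) i hker
  refine ⟨grAlg n i.ker, relProj (grAlg n i.ker), relProjπ (grAlg n i.ker),
    relProjChart (grAlg n i.ker), asIso (IsClosedImmersion.lift (jP n i.ker) i hker.le),
    isGenDegOne_grAlg n i.ker, isFTDeg_one_grAlg n i.ker, isRelProj_relProj (grAlg n i.ker), ?_⟩
  rw [asIso_hom, ← jP_toBase, ← Category.assoc, IsClosedImmersion.lift_fac, hif]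

end

end Groth.Agent.Lib.R2LeadHProjD
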