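import Mathlib
import Groth.Agent.Lib.R2LeadChow1
import Groth.Agent.Lib.R2H3QProj
import Groth.Agent.S9717

/-!
# Chow's lemma in the projective form (lead)
-/

set_option autoImplicit false
set_option linter.unusedSectionVars false
universe u
open CategoryTheory CategoryTheory.Limits AlgebraicGeometry TopologicalSpace Opposite

namespace Groth.Agent.Lib.R2LeadChow2

open Groth.Agent.Lib.R2LeadChow1 Groth.Agent.Lib.R2LeadHProjB

/-- an `S`-immersion `X' ⟶ P^n_S` of a scheme proper over `X` (over `S`) gives a closed immersion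
`X' ⟶ P^n_X` over `X`: proper morphisms that are quasi-projective are H-projective. -/
theorem isHProjective_of_immersion {X' X S : Scheme.{u}} (r : X ⟶ S) (π : X' ⟶ X) [IsProper π]
    (n : ℕ) (j : X' ⟶ CohB1.ProjSpaceOver n S) [IsImmersion j]
    (hj : j ≫ CohB1.ProjSpaceOver.toBase n S = π ≫ r) : RelProj.IsHProjective π := by
  have h1 : (j ≫ fstZ n S) ≫ CohB1.ProjSpace.toSpec n (ULift.{u} ℤ) =
      π ≫ specULiftZIsTerminal.from X := by
    rw [Category.assoc, fstZ_toSpec, ← Category.assoc, hj, Category.assoc]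
    congr 1
    exact specULiftZIsTerminal.hom_ext _ _
  let i : X' ⟶ CohB1.ProjSpaceOver n X := liftOver n (j ≫ fstZ n S) π h1
  have hi1 : i ≫ fstZ n X = j ≫ fstZ n S := liftOver_fstZ n _ _ h1
  have hi2 : i ≫ CohB1.ProjSpaceOver.toBase n X = π := liftOver_toBase n _ _ h1
  have h2 : fstZ n X ≫ CohB1.ProjSpace.toSpec n (ULift.{u} ℤ) =
      (CohB1.ProjSpaceOver.toBase n X ≫ r) ≫ specULiftZIsTerminal.from S := by
    rw [fstZ_toSpec, Category.assoc]
    congr 1
    exact specULiftZIsTerminal.hom_ext _ _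
  let b : CohB1.ProjSpaceOver n X ⟶ CohB1.ProjSpaceOver n S :=
    liftOver n (fstZ n X) (CohB1.ProjSpaceOver.toBase n X ≫ r) h2
  have hb1 : b ≫ fstZ n S = fstZ n X := liftOver_fstZ n _ _ h2
  have hb2 : b ≫ CohB1.ProjSpaceOver.toBase n S = CohB1.ProjSpaceOver.toBase n X ≫ r :=
    liftOver_toBase n _ _ h2
  have hib : i ≫ b = j := by
    apply hom_ext_over
    · rw [Category.assoc, hb1, hi1]
    · rw [Category.assoc, hb2, ← Category.assoc, hi2, hj]
  haveI : IsImmersion (i ≫ b) := by rw [hib]; infer_instance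
  haveI : IsImmersion i := IsImmersion.of_comp i b
  have hcl : IsClosedImmersion i :=
    Groth.Agent.Lib.R2H3.QProj.isClosedImmersion_of_isProper π n i hi2
  exact ⟨n, i, hcl, hi2⟩

/-- **Chow's lemma** in the projective form. -/
theorem chow_projective {X S : Scheme.{u}} (r : X ⟶ S) [IsSeparated r] [LocallyOfFiniteType r]
    [QuasiCompact r] [CompactSpace S] [QuasiSeparatedSpace S]
    (hirr : (irreducibleComponents (X : Type u)).Finite) :
    ∃ (n : ℕ) (X' : Scheme.{u}) (f : X' ⟶ X) (j : X' ⟶ CohB1.ProjSpaceOver n S),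
      IsImmersion j ∧ j ≫ CohB1.ProjSpaceOver.toBase n S = f ≫ r ∧ IsProper f ∧
      RelProj.IsQuasiProjective (f ≫ r) ∧ RelProj.IsProjective f ∧ Surjective f ∧
      (∃ U : X.Opens, Dense (U : Set X) ∧ Dense ((f ⁻¹ᵁ U : X'.Opens) : Set X') ∧
        IsIso (f ∣_ U)) ∧
      (IsReduced X → IsReduced X') ∧ (IrreducibleSpace X → IrreducibleSpace X') ∧
      (IsIntegral X → IsIntegral X') := by
  obtain ⟨n, X', π, j, hj, hjπ, hπ, hπs, U, hU, hiso, hd, hred, hir⟩ := chow_qcqs' r hirr
  refine ⟨n, X', π, j, hj, hjπ, hπ, ⟨inferInstance, inferInstance, ?_⟩, ?_, hπs,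
    ⟨U, hU, hd, hiso⟩, hred, hir, ?_⟩
  · exact ⟨_, Groth.Agent.Lib.R2H3.QProj.isRelAmple_pullback_twistOver (π ≫ r) n j hjπ⟩
  · exact Groth.Agent.S9717.result π (isHProjective_of_immersion r π n j hjπ)
  · intro hX
    haveI := hred inferInstance
    haveI := hir inferInstance
    exact isIntegral_of_irreducibleSpace_of_isReduced X'

end Groth.Agent.Lib.R2LeadChow2
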