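import Mathlib
import Groth.Agent.Lib.R2LeadChow2

/-!
# Chow's lemma without irreducibility hypotheses, birational over a nonempty open (lead)
-/

set_option autoImplicit false
set_option linter.unusedSectionVars false
universe u
open CategoryTheory CategoryTheory.Limits AlgebraicGeometry TopologicalSpace Opposite

namespace Groth.Agent.Lib.R2LeadChow3

open Groth.Agent.Lib.R2LeadChow1 Groth.Agent.Lib.R2LeadChow2
  Groth.Agent.Lib.R2H3.ChowDense Groth.Agent.Lib.R2H3.ChowAffine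
  Groth.Agent.Lib.R2H3.ChowProd Groth.Agent.Lib.R2H3.ChowTop Groth.Agent.Lib.R2H3.ZMTFin

/-- Chow's lemma for a given finite affine cover with a dense quasi-compact open inside all members. -/
theorem chow_of_cover {X S : Scheme.{u}} (f : X ⟶ S) [CompactSpace S] [QuasiSeparatedSpace S]
    [IsSeparated f] [LocallyOfFiniteType f] [QuasiCompact f]
    {K : Type u} [Fintype K] [Nonempty K] (Uk : K → X.Opens) (haff : ∀ k, IsAffineOpen (Uk k))
    (hcov' : ⨆ k, Uk k = ⊤) (U : X.Opens) (hU' : ∀ k, U ≤ Uk k) (hdense : Dense (U : Set X))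
    (hUc : IsCompact (U : Set X)) :
    ∃ (n : ℕ) (X' : Scheme.{u}) (π : X' ⟶ X) (j : X' ⟶ CohB1.ProjSpaceOver n S),
      IsImmersion j ∧ j ≫ CohB1.ProjSpaceOver.toBase n S = π ≫ f ∧ IsProper π ∧ Surjective π ∧
      IsIso (π ∣_ U) ∧ Dense ((π ⁻¹ᵁ U : X'.Opens) : Set X') := by
  classical
  have hXc : CompactSpace X := QuasiCompact.compactSpace_of_compactSpace f
  have hXq : QuasiSeparatedSpace X := quasiSeparatedSpace_of_quasiSeparated f
  have : CompactSpace U.toScheme := isCompact_iff_compactSpace.mp hUc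
  have : QuasiCompact U.ι := inferInstance
  have haff' : ∀ k, IsAffine (Uk k).toScheme := fun k => haff k
  have key : ∀ k : K, ∃ (n : ℕ) (j : (Uk k).toScheme ⟶ CohB1.ProjSpaceOver n S), IsImmersion j ∧
      j ≫ CohB1.ProjSpaceOver.toBase n S = (Uk k).ι ≫ f := fun k =>
    exists_immersion_projSpace ((Uk k).ι ≫ f)
  choose n j hjimm hj using key
  obtain ⟨Q, t', N, c, g, hc, hct, hgt, hq⟩ := exists_product (U.ι ≫ f) (Finset.univ : Finset K)
    Finset.univ_nonempty n (fun k => X.homOfLE (hU' k) ≫ j k) (fun k => by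
      rw [Category.assoc, hj k, ← Category.assoc, X.homOfLE_ι])
  have key2 : ∀ k : K, ∃ q : Q ⟶ CohB1.ProjSpaceOver (n k) S,
      q ≫ CohB1.ProjSpaceOver.toBase (n k) S = t' ∧ g ≫ q = X.homOfLE (hU' k) ≫ j k :=
    fun k => hq k (Finset.mem_univ _)
  choose q hq1 hq2 using key2
  have hprop : ∀ m, IsProper (CohB1.ProjSpaceOver.toBase m S) :=
    fun m => Groth.Agent.S9705.isProper_toBase m S
  have : IsProper t' := by
    rw [← hct]
    infer_instance
  obtain ⟨X', π, h, hπ, hπs, hiso, himm, hht, hd, -, -⟩ :=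
    chow_core' f t' Uk hcov' U hU' hdense
    (fun k => CohB1.ProjSpaceOver (n k) S) (fun k => CohB1.ProjSpaceOver.toBase (n k) S)
    j hj q hq1 g hgt hq2
  refine ⟨N, X', π, h ≫ c, inferInstance, ?_, hπ, hπs, hiso, hd⟩
  rw [Category.assoc, hct, hht]

theorem mem_finset_inf {X : Scheme.{u}} {ι : Type*} (J : Finset ι) (W : ι → X.Opens) (x : X) :
    x ∈ J.inf W ↔ ∀ k ∈ J, x ∈ W k := by
  classical
  induction J using Finset.induction_on with
  | empty => simp
  | insert a s ha ih =>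
    rw [Finset.inf_insert, Opens.mem_inf, ih]
    simp

theorem isCompact_finset_inf {X : Scheme.{u}} [CompactSpace X] [QuasiSeparatedSpace X]
    {ι : Type*} (J : Finset ι) (W : ι → X.Opens) (hW : ∀ k, IsAffineOpen (W k)) :
    IsCompact ((J.inf W : X.Opens) : Set X) := by
  classical
  induction J using Finset.induction_on with
  | empty => simpa using isCompact_univ
  | insert a s ha ih =>
    rw [Finset.inf_insert, Opens.coe_inf]
    exact QuasiSeparatedSpace.inter_isCompact _ _ (W a).isOpen (hW a).isCompact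
      (s.inf W).isOpen ih

/-- a maximal subfamily with nonempty intersection. -/
theorem exists_maximal_family {X : Scheme.{u}} [Nonempty X] (t : Finset X) (W : X → X.Opens)
    (hcov : ∀ y : X, ∃ x ∈ t, y ∈ W x) :
    ∃ J : Finset X, J ⊆ t ∧ J.Nonempty ∧ (∃ x, ∀ k ∈ J, x ∈ W k) ∧
      ∀ k ∈ t, k ∉ J → ∀ x, (∀ k' ∈ J, x ∈ W k') → x ∉ W k := by
  classical
  let P : Finset X → Prop := fun J => ∃ x, ∀ k ∈ J, x ∈ W k
  let 𝒥 := t.powerset.filter P
  obtain ⟨x₀⟩ := ‹Nonempty X›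
  have h𝒥 : 𝒥.Nonempty := ⟨∅, by
    simp only [𝒥, Finset.mem_filter, Finset.mem_powerset, Finset.empty_subset, true_and]
    exact ⟨x₀, by simp⟩⟩
  obtain ⟨J, hJ, hmax⟩ := Finset.exists_max_image 𝒥 Finset.card h𝒥
  simp only [𝒥, Finset.mem_filter, Finset.mem_powerset] at hJ
  obtain ⟨hJt, x₁, hx₁⟩ := hJ
  have hmax' : ∀ k ∈ t, k ∉ J → ∀ x, (∀ k' ∈ J, x ∈ W k') → x ∉ W k := by
    intro k hk hkJ x hx hxk
    have hmem : insert k J ∈ 𝒥 := by
      simp only [𝒥, Finset.mem_filter, Finset.mem_powerset]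
      refine ⟨Finset.insert_subset hk hJt, x, ?_⟩
      intro k' hk'
      rcases Finset.mem_insert.mp hk' with rfl | h
      · exact hxk
      · exact hx k' h
    have := hmax _ hmem
    rw [Finset.card_insert_of_notMem hkJ] at this
    omega
  refine ⟨J, hJt, ?_, ⟨x₁, hx₁⟩, hmax'⟩
  by_contra hne
  rw [Finset.not_nonempty_iff_eq_empty] at hne
  subst hne
  obtain ⟨k, hk, hxk⟩ := hcov x₀
  exact hmax' k hk (by simp) x₀ (by simp) hxk

/-- the scheme-theoretic image of a quasi-compact open immersion restricts to an isomorphism over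
the open. -/
theorem isIso_imageι_restrict {X : Scheme.{u}} (U₀ : X.Opens) [QuasiCompact U₀.ι] :
    IsIso (U₀.ι.imageι ∣_ U₀) := by
  have hinj : Function.Injective U₀.ι.imageι := U₀.ι.imageι.isClosedEmbedding.injective
  have hr : Set.range U₀.ι.toImage = Set.range (U₀.ι.imageι ⁻¹ᵁ U₀).ι := by
    rw [Scheme.Opens.range_ι]
    ext z
    constructor
    · rintro ⟨u, rfl⟩
      show U₀.ι.imageι (U₀.ι.toImage u) ∈ U₀
      rw [← Scheme.Hom.comp_apply, U₀.ι.toImage_imageι]
      exact u.2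
    · intro hz
      have hz' : U₀.ι.imageι z ∈ U₀ := hz
      refine ⟨⟨U₀.ι.imageι z, hz'⟩, hinj ?_⟩
      rw [← Scheme.Hom.comp_apply, U₀.ι.toImage_imageι]
      rfl
  let φ := IsOpenImmersion.isoOfRangeEq U₀.ι.toImage (U₀.ι.imageι ⁻¹ᵁ U₀).ι hr
  have hφ : φ.hom ≫ (U₀.ι.imageι ⁻¹ᵁ U₀).ι = U₀.ι.toImage :=
    IsOpenImmersion.isoOfRangeEq_hom_fac _ _ hr
  have h1 : φ.hom ≫ (U₀.ι.imageι ∣_ U₀) = 𝟙 _ := by
    rw [← cancel_mono U₀.ι, Category.assoc, morphismRestrict_ι, ← Category.assoc, hφ,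
      U₀.ι.toImage_imageι, Category.id_comp]
  have h2 : U₀.ι.imageι ∣_ U₀ = φ.inv := by
    rw [← Category.id_comp (U₀.ι.imageι ∣_ U₀), ← φ.inv_hom_id, Category.assoc, h1,
      Category.comp_id]
  rw [h2]
  infer_instance

/-- Chow's lemma without irreducibility hypotheses: birational over a nonempty open. -/
theorem chow_nonempty {X S : Scheme.{u}} (f : X ⟶ S) [CompactSpace S] [QuasiSeparatedSpace S]
    [IsSeparated f] [LocallyOfFiniteType f] [QuasiCompact f] [Nonempty X] :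
    ∃ (n : ℕ) (X' : Scheme.{u}) (π : X' ⟶ X) (j : X' ⟶ CohB1.ProjSpaceOver n S),
      IsImmersion j ∧ j ≫ CohB1.ProjSpaceOver.toBase n S = π ≫ f ∧ IsProper π ∧
      ∃ U : X.Opens, (U : Set X).Nonempty ∧ IsIso (π ∣_ U) := by
  classical
  have hXc : CompactSpace X := QuasiCompact.compactSpace_of_compactSpace f
  have hXq : QuasiSeparatedSpace X := quasiSeparatedSpace_of_quasiSeparated f
  -- a finite affine cover
  have key : ∀ x : X, ∃ W : X.Opens, IsAffineOpen W ∧ x ∈ W := by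
    intro x
    obtain ⟨V, hV, hxV, -⟩ := exists_isAffineOpen_mem_and_subset (X := X) (x := x) (U := ⊤) trivial
    exact ⟨V, hV, hxV⟩
  choose W hW hxW using key
  obtain ⟨t, ht⟩ := isCompact_univ.elim_finite_subcover (fun x => ((W x : X.Opens) : Set X))
    (fun x => (W x).isOpen) (fun x _ => Set.mem_iUnion.mpr ⟨x, hxW x⟩)
  have hcov : ∀ y : X, ∃ x ∈ t, y ∈ W x := by
    intro y
    have := ht (Set.mem_univ y)
    simp only [Set.mem_iUnion] at this
    obtain ⟨x, hx, hy⟩ := this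
    exact ⟨x, hx, hy⟩
  obtain ⟨J, hJt, hJne, ⟨x₁, hx₁⟩, hmax⟩ := exists_maximal_family t W hcov
  let U₀ : X.Opens := J.inf W
  have hU₀mem : ∀ x, x ∈ U₀ ↔ ∀ k ∈ J, x ∈ W k := fun x => mem_finset_inf J W x
  have hU₀c : IsCompact (U₀ : Set X) := isCompact_finset_inf J W hW
  have hU₀ne : (U₀ : Set X).Nonempty := ⟨x₁, (hU₀mem x₁).mpr hx₁⟩
  haveI : CompactSpace U₀.toScheme := isCompact_iff_compactSpace.mp hU₀c
  haveI : QuasiCompact U₀.ι := inferInstance
  -- the closure of `U₀`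
  let i := U₀.ι.imageι
  let e := U₀.ι.toImage
  have hei : e ≫ i = U₀.ι := U₀.ι.toImage_imageι
  have hinj : Function.Injective i := i.isClosedEmbedding.injective
  let K : Type u := {x // x ∈ J}
  haveI : Nonempty K := ⟨⟨hJne.choose, hJne.choose_spec⟩⟩
  let Uk : K → U₀.ι.image.Opens := fun k => i ⁻¹ᵁ (W k.1)
  have haff : ∀ k, IsAffineOpen (Uk k) := fun k => (hW k.1).preimage i
  have hie : ∀ u : U₀.toScheme, i (e u) = u.1 := by
    intro u
    rw [← Scheme.Hom.comp_apply, hei]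
    rfl
  have hcov' : ⨆ k, Uk k = ⊤ := by
    rw [eq_top_iff]
    intro z _
    obtain ⟨k, hk, hzk⟩ := hcov (i z)
    by_cases hkJ : k ∈ J
    · exact Opens.mem_iSup.mpr ⟨⟨k, hkJ⟩, hzk⟩
    · exfalso
      have hd : DenseRange e := e.denseRange
      have hopen : IsOpen ((i ⁻¹ᵁ (W k) : U₀.ι.image.Opens) : Set U₀.ι.image) :=
        (i ⁻¹ᵁ (W k)).isOpen
      obtain ⟨_, hz', ⟨u, rfl⟩⟩ := hd.inter_open_nonempty _ hopen ⟨z, hzk⟩
      have h1 : i (e u) ∈ W k := hz'
      rw [hie u] at h1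
      exact hmax k hk hkJ u.1 ((hU₀mem u.1).mp u.2) h1
  let U' : U₀.ι.image.Opens := i ⁻¹ᵁ U₀
  have hU' : ∀ k, U' ≤ Uk k := by
    intro k z hz
    exact (hU₀mem (i z)).mp hz k.1 k.2
  have hrange : Set.range e = (U' : Set U₀.ι.image) := by
    ext z
    constructor
    · rintro ⟨u, rfl⟩
      show i (e u) ∈ U₀
      rw [hie u]
      exact u.2
    · intro hz
      have hz' : i z ∈ U₀ := hz
      refine ⟨⟨i z, hz'⟩, hinj ?_⟩
      rw [hie]
  have hdense : Dense (U' : Set U₀.ι.image) := by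
    rw [← hrange]
    exact e.denseRange
  have hU'c : IsCompact (U' : Set U₀.ι.image) := by
    rw [← hrange]
    exact isCompact_range e.continuous
  obtain ⟨n, X', π', j, hj, hjπ, hπ', -, hiso, -⟩ :=
    chow_of_cover (i ≫ f) Uk haff hcov' U' hU' hdense hU'c
  refine ⟨n, X', π' ≫ i, j, hj, ?_, inferInstance, U₀, hU₀ne, ?_⟩
  · rw [hjπ, Category.assoc]
  · rw [morphismRestrict_comp]
    exact IsIso.comp_isIso' hiso (isIso_imageι_restrict U₀)

end Groth.Agent.Lib.R2LeadChow3
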