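import Mathlib
import Groth.Agent.Lib.R2LeadCohFormalA
import Groth.Agent.Lib.R2H3FormalKer
import Groth.Agent.Lib.R2H2FinGen
import Groth.Agent.Lib.R2H4InvExists
import Groth.Agent.Lib.R2H1VBTwistB
import Groth.Agent.Lib.R2H2PnSerre
import Groth.Agent.Lib.R2H2HHLin
import Groth.Agent.Lib.R2H2PnLinRes
import Groth.Agent.Lib.Helper23SecTw6
import Groth.Agent.Lib.R2H3AmpleSV
import Groth.Agent.Lib.R2H4TensorPows
import Groth.Agent.Lib.R2H2PnHilbPoly

/-!
# Coherent formal modules are quotients of completions (lead, round 2)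

`exists_epi_completion`: `X` Noetherian over `Spec A`, `L` invertible such that uniform vanishing for the kernels
of coherent formal modules (`hUV`) and global generation of high twists (`hGG`) hold.  Then every coherent
formal module `G` admits a levelwise epimorphism `completion I E ⟶ G` with `E` coherent.
-/

set_option autoImplicit false
set_option linter.style.haveILetI false
universe u
open CategoryTheory CategoryTheory.Limits AlgebraicGeometry TopologicalSpace Opposite

namespace Groth.Agent.Lib.R2Lead.CohFormalB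

open Groth.Agent.Lib.R2H2.FlatDev Groth.Agent.Lib.R2Lead.CohFormalA Groth.Agent.Lib.R2H3.FormalKer
  Groth.Agent.Lib.R2H2.HHLin Groth.Agent.Lib.R2H2.PnSerre Groth.Agent.Lib.R2H2.PnLinRes
  Groth.Agent.Lib.Helper23.SecTw Groth.Agent.Lib.Helper27PnSections

variable {A : Type u} [CommRing A] {X : Scheme.{u}} [X.Over (Spec (CommRingCat.of A))]

/-- sections lift along an epimorphism whose kernel has no `H¹` -/
theorem exists_lift_section (S : ShortComplex X.Modules) (hS : S.ShortExact)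
    (h1 : Subsingleton (Coh.HH X S.X₁ 1)) (σ : Coh.structureModule X ⟶ S.X₃) :
    ∃ τ : Coh.structureModule X ⟶ S.X₂, τ ≫ S.g = σ := by
  obtain ⟨x₂, hx₂⟩ := exact₃ S hS 0 (cls σ) (Subsingleton.elim _ _)
  obtain ⟨τ, rfl⟩ := cls_surjective S.X₂ x₂
  refine ⟨τ, ?_⟩
  rw [cls_comp] at hx₂
  apply hom_ext_of_sv
  have h := congrArg (hh0Equiv X S.X₃) hx₂
  unfold cls at h
  rwa [AddEquiv.apply_symm_apply, AddEquiv.apply_symm_apply] at h

/-- the short exact sequence `0 → Ker → G_{n+1} → G_n → 0` -/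
noncomputable def sesTr (G : ℕᵒᵖ ⥤ X.Modules) (n : ℕ) : ShortComplex X.Modules :=
  ShortComplex.mk (kernel.ι (tr G n)) (tr G n) (kernel.condition _)

theorem sesTr_shortExact {I : Ideal A} {G : ℕᵒᵖ ⥤ X.Modules} (hG : Formal.IsCohFormal I G) (n : ℕ) :
    (sesTr G n).ShortExact :=
  { exact := ShortComplex.exact_kernel _
    mono_f := inferInstanceAs (Mono (kernel.ι (tr G n)))
    epi_g := epi_tr hG n }

theorem isCoh_structureModule (X : Scheme.{u}) : Coh.IsCoh (Coh.structureModule X) :=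
  ⟨Groth.Agent.Lib.Helper23.Serre.isQuasicoherent_structureModule' X,
    Groth.Agent.Lib.R2H2.PnFinite.isFiniteType_structureModule X⟩

/-- all `s n` are epimorphisms if `s 0` is -/
theorem epi_family {I : Ideal A} {G : ℕᵒᵖ ⥤ X.Modules} (hG : Formal.IsCohFormal I G) {P : X.Modules}
    (s : ∀ n, P ⟶ G.obj (op n)) (hs : ∀ n, s (n + 1) ≫ tr G n = s n) (h0 : Epi (s 0)) :
    ∀ n, Epi (s n) := by
  intro n
  induction n with
  | zero => exact h0
  | succ n ih =>
    -- the cokernel `C` of `s (n+1)`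
    let C := cokernel (s (n + 1))
    let π : G.obj (op (n + 1)) ⟶ C := cokernel.π (s (n + 1))
    obtain ⟨h, hI⟩ := hG.2.2 n
    have hCk : Formal.KilledBy (I ^ (n + 1 + 1)) C := killedBy_of_epi π (hG.2.1 (n + 1))
    -- `G_{n+1} → C → C/I^{n+1}C` factors through `G_n`
    have hfac : ∃ g : G.obj (op n) ⟶ modJ (I ^ (n + 1)) C, tr G n ≫ g = π ≫ πJ (I ^ (n + 1)) C := by
      have h0' : Formal.smulFamily (I ^ (n + 1)) (G.obj (op (n + 1))) ≫ π ≫ πJ (I ^ (n + 1)) C = 0 :=
        smulFamily_comp_eq_zero_of_killedBy _ (killedBy_modJ _ _)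
      refine ⟨inv (cokernel.desc _ _ h) ≫ cokernel.desc _ _ h0', ?_⟩
      have h2 : tr G n = cokernel.π (Formal.smulFamily (I ^ (n + 1)) (G.obj (op (n + 1)))) ≫
          cokernel.desc _ _ h := (cokernel.π_desc _ _ h).symm
      rw [h2, Category.assoc, IsIso.hom_inv_id_assoc, cokernel.π_desc]
    obtain ⟨g, hg⟩ := hfac
    have hg0 : g = 0 := by
      rw [← cancel_epi (s n), comp_zero, ← hs n, Category.assoc, hg, ← Category.assoc]
      have : s (n + 1) ≫ π = 0 := cokernel.condition _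
      rw [this, zero_comp]
    have hπ0 : π ≫ πJ (I ^ (n + 1)) C = 0 := by rw [← hg, hg0, comp_zero]
    have hπJ0 : πJ (I ^ (n + 1)) C = 0 := by
      rw [← cancel_epi π, hπ0, comp_zero]
    have hepi : Epi (Formal.smulFamily (I ^ (n + 1)) C) := by
      have hz : IsZero (modJ (I ^ (n + 1)) C) := by
        rw [IsZero.iff_id_eq_zero, ← cancel_epi (πJ (I ^ (n + 1)) C), hπJ0, zero_comp, zero_comp]
      exact Preadditive.epi_of_isZero_cokernel _ hz
    have hz : IsZero C := by
      refine isZero_of_epi_smulFamily C hepi (killedBy_of_le ?_ hCk)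
      rw [← pow_add]
      exact Ideal.pow_le_pow_right (by omega)
    exact Preadditive.epi_of_isZero_cokernel _ hz

section main

variable [IsNoetherian X]

theorem exists_epi_completion (I : Ideal A) (L : X.Modules) (hL : PicF.IsInvertible L)
    (hUV : ∀ G : ℕᵒᵖ ⥤ X.Modules, Formal.IsCohFormal I G → ∃ d₀ : ℕ, ∀ n d : ℕ, d₀ ≤ d →
      Subsingleton (Coh.HH X (CohB1.tensorMod (kernel (tr G n)) (CohB1.tensorPow L d)) 1))
    (hGG : ∀ F : X.Modules, Coh.IsCoh F → ∃ n₀ : ℕ, ∀ n, n₀ ≤ n →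
      Curv2.IsGloballyGenerated (CohB1.tensorMod F (CohB1.tensorPow L n)))
    (G : ℕᵒᵖ ⥤ X.Modules) (hG : Formal.IsCohFormal I G) :
    ∃ (E : X.Modules) (φ : Formal.completion I E ⟶ G), Coh.IsCoh E ∧ ∀ n, Epi (φ.app (op n)) := by
  classical
  obtain ⟨d₀, hd₀⟩ := hUV G hG
  obtain ⟨n₀, hn₀⟩ := hGG (G.obj (op 0)) (hG.1 0)
  let d := max d₀ n₀
  let T := CohB1.tensorPow L d
  have hT : PicF.IsInvertible T := isInvertible_tensorPow hL d
  obtain ⟨T', hT', ⟨e⟩⟩ := Groth.Agent.Lib.R2H4InvExists.exists_inverse T hT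
  let W : X.Modules ⥤ X.Modules := twR T
  haveI hWe0 : (DCoh.tensorBi.obj T : X.Modules ⥤ X.Modules).IsEquivalence :=
    Groth.Agent.Lib.R2H1.VBTwistB.isEquivalence_tL_of_inverse X.sheaf T T' e
  haveI hWe : W.IsEquivalence := Functor.isEquivalence_of_iso (twIso T)
  -- the twisted short exact sequences
  have hses : ∀ n, ((sesTr G n).map W).ShortExact := fun n =>
    shortExact_map_twR T hT _ (sesTr_shortExact hG n)
  have hvan : ∀ n, Subsingleton (Coh.HH X ((sesTr G n).map W).X₁ 1) := fun n =>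
    hd₀ n d (le_max_left _ _)
  -- global generation of the first term
  have hgg : Curv2.IsGloballyGenerated (W.obj (G.obj (op 0))) := hn₀ d (le_max_right _ _)
  have hc0 : Coh.IsCoh (W.obj (G.obj (op 0))) :=
    Groth.Agent.Lib.R2H3.AmpleSV.isCoh_tensorMod_invertible _ _ (hG.1 0) hT
  haveI : (W.obj (G.obj (op 0))).IsQuasicoherent := hc0.1
  haveI : SheafOfModules.IsFiniteType (R := X.ringCatSheaf) (W.obj (G.obj (op 0))) := hc0.2
  obtain ⟨k, q0, hq0⟩ := Groth.Agent.Lib.R2H2.FinGen.exists_finite_epi (W.obj (G.obj (op 0))) hgg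
  -- lift the sections
  have step : ∀ n (σ : Fin k → (Coh.structureModule X ⟶ W.obj (G.obj (op n)))),
      ∃ σ' : Fin k → (Coh.structureModule X ⟶ W.obj (G.obj (op (n + 1)))),
        ∀ j, σ' j ≫ W.map (tr G n) = σ j := by
    intro n σ
    choose τ hτ using fun j => exists_lift_section _ (hses n) (hvan n) (σ j)
    exact ⟨τ, hτ⟩
  choose next hnext using step
  let σ0 : Fin k → (Coh.structureModule X ⟶ W.obj (G.obj (op 0))) := fun j =>
    Sigma.ι (fun _ : Fin k => Coh.structureModule X) j ≫ q0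
  let σ : ∀ n, Fin k → (Coh.structureModule X ⟶ W.obj (G.obj (op n))) := fun n =>
    Nat.rec (motive := fun n => Fin k → (Coh.structureModule X ⟶ W.obj (G.obj (op n)))) σ0
      (fun n σn => next n σn) n
  have hσ : ∀ n j, σ (n + 1) j ≫ W.map (tr G n) = σ n j := fun n j => hnext n (σ n) j
  let q : ∀ n, FlatMod.freeMod X k ⟶ W.obj (G.obj (op n)) := fun n => Sigma.desc (σ n)
  have hq : ∀ n, q (n + 1) ≫ W.map (tr G n) = q n := by
    intro n
    apply Sigma.hom_ext
    intro j
    change Sigma.ι _ j ≫ Sigma.desc (σ (n + 1)) ≫ _ = Sigma.ι _ j ≫ Sigma.desc (σ n)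
    rw [Sigma.ι_desc_assoc, Sigma.ι_desc]
    exact hσ n j
  have hq00 : q 0 = q0 := by
    apply Sigma.hom_ext
    intro j
    change Sigma.ι _ j ≫ Sigma.desc (σ 0) = _
    rw [Sigma.ι_desc]
    rfl
  -- untwist
  let P : X.Modules := W.objPreimage (FlatMod.freeMod X k)
  let eP : W.obj P ≅ FlatMod.freeMod X k := W.objObjPreimageIso (FlatMod.freeMod X k)
  let s : ∀ n, P ⟶ G.obj (op n) := fun n => W.preimage (eP.hom ≫ q n)
  have hs : ∀ n, s (n + 1) ≫ tr G n = s n := by
    intro n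
    apply W.map_injective
    rw [W.map_comp, W.map_preimage, W.map_preimage, Category.assoc, hq]
  have hs0 : Epi (s 0) := by
    have h1 : Epi (W.map (s 0)) := by
      rw [W.map_preimage, hq00]
      infer_instance
    exact W.epi_of_epi_map h1
  have hsepi := epi_family hG s hs hs0
  -- coherence of `P`
  have hPc : Coh.IsCoh P := by
    have e1 : CohB1.tensorMod (CohB1.tensorMod P T) T' ≅ P :=
      Groth.Agent.Lib.R2H4TensorPows.tAssoc P T T' ≪≫
        Groth.Agent.Lib.R2H4TensorPows.tIso (Iso.refl P) e ≪≫ Groth.Agent.Lib.R2H4TensorPows.rUnit P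
    have e2 : CohB1.tensorMod (CohB1.tensorMod P T) T' ≅ CohB1.tensorMod (FlatMod.freeMod X k) T' :=
      Groth.Agent.Lib.R2H4TensorPows.tIso eP (Iso.refl T')
    have hfree : Coh.IsCoh (FlatMod.freeMod X k) :=
      Groth.Agent.Lib.R2H2.PnHilbPoly.isCoh_coprod_const _ (isCoh_structureModule X) k
    exact Groth.Agent.Lib.R2H2.PnHilbPoly.isCoh_of_iso (e2.symm ≪≫ e1)
      (Groth.Agent.Lib.R2H3.AmpleSV.isCoh_tensorMod_invertible _ _ hfree hT')
  refine ⟨P, ofFamily hG.2.1 s hs, hPc, fun n => ?_⟩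
  haveI := hsepi n
  exact epi_ofFamily_app hG.2.1 s hs n

end main

end Groth.Agent.Lib.R2Lead.CohFormalB
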