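import Mathlib
import Groth.Agent.Lib.R2LeadCohFormalA
import Groth.Agent.Lib.Helper23QCohAbelian
import Groth.Agent.Lib.Helper23FinTypeLocal

/-!
# Algebraising a presentation of a coherent formal module (lead, round 2)

`φ : Ê ⟶ G` a levelwise epimorphism from the completion of a coherent module, `j : K' ⟶ Ê` with levelwise image the
kernels of `φ`, `φ' : Ê' ⟶ K'` a levelwise epimorphism and `a : E' ⟶ E` inducing `φ' ≫ j`.  Then `G` is isomorphic
to the completion of `Coker a` (`exists_iso_completion_of_presentation`).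
-/

set_option autoImplicit false
set_option linter.style.haveILetI false
universe u
open CategoryTheory CategoryTheory.Limits AlgebraicGeometry TopologicalSpace Opposite

namespace Groth.Agent.Lib.R2Lead.CohFormalD

open Groth.Agent.Lib.R2H2.FlatDev Groth.Agent.Lib.R2Lead.CohFormalA

variable {A : Type u} [CommRing A] {X : Scheme.{u}} [X.Over (Spec (CommRingCat.of A))]

theorem isCoh_cokernel {M N : X.Modules} (hM : Coh.IsCoh M) (hN : Coh.IsCoh N) (f : M ⟶ N) :
    Coh.IsCoh (cokernel f) := by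
  haveI : M.IsQuasicoherent := hM.1
  haveI : N.IsQuasicoherent := hN.1
  haveI : SheafOfModules.IsFiniteType (R := X.ringCatSheaf) N := hN.2
  haveI : (cokernel f).IsQuasicoherent :=
    Groth.Agent.Lib.Helper23.QCohLocal.isQuasicoherent_cokernel f
  exact ⟨inferInstance, Groth.Agent.Lib.Helper23.FinType.isFiniteType_of_epi (cokernel.π f)⟩

/-- `M ↦ M/JM` is right exact: maps out of `E/JE` killing `E'/JE'` factor through `Coker(a)/J` -/
theorem exists_desc_modJ_cokernel (J : Ideal A) {E' E : X.Modules} (a : E' ⟶ E) {Z : X.Modules}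
    (g : modJ J E ⟶ Z) (hg : modJMap J a ≫ g = 0) :
    ∃ h : modJ J (cokernel a) ⟶ Z, modJMap J (cokernel.π a) ≫ h = g := by
  have h1 : a ≫ (πJ J E ≫ g) = 0 := by
    rw [← Category.assoc, ← πJ_modJMap, Category.assoc, hg, comp_zero]
  have h2 : Formal.smulFamily J (cokernel a) ≫ cokernel.desc a (πJ J E ≫ g) h1 = 0 := by
    rw [Groth.Agent.S9530.smulFamily_comp_eq_zero_iff]
    intro r hr
    rw [← cancel_epi (cokernel.π a), ← Category.assoc, ← Groth.Agent.S9530.smulMod_comp, Category.assoc,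
      cokernel.π_desc, comp_zero, ← Category.assoc]
    have h3 : Formal.smulMod A E r ≫ πJ J E = 0 := by
      rw [Groth.Agent.S9530.smulMod_comp]
      rw [killedBy_modJ J E r hr, comp_zero]
    rw [h3, zero_comp]
  refine ⟨cokernel.desc _ _ h2, ?_⟩
  rw [← cancel_epi (πJ J E), πJ_modJMap_assoc]
  change cokernel.π a ≫ cokernel.π _ ≫ cokernel.desc _ _ h2 = _
  rw [cokernel.π_desc, cokernel.π_desc]

theorem modJMap_cokernel_zero (J : Ideal A) {E' E : X.Modules} (a : E' ⟶ E) :
    modJMap J a ≫ modJMap J (cokernel.π a) = 0 := by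
  rw [← modJMap_comp, cokernel.condition, ← cancel_epi (πJ J E'), πJ_modJMap, zero_comp, comp_zero]

section level

variable (J : Ideal A) {E E' Gn Kn : X.Modules} (a : E' ⟶ E)
  (p : modJ J E ⟶ Gn) (hp : Epi p) (jn : Kn ⟶ modJ J E) (p' : modJ J E' ⟶ Kn) (hp' : Epi p')
  (h0 : jn ≫ p = 0) (hj : ∀ (Z : X.Modules) (g : modJ J E ⟶ Z), jn ≫ g = 0 → kernel.ι p ≫ g = 0)
  (hcomp : p' ≫ jn = modJMap J a)

include h0 hcomp in
theorem modJMap_p : modJMap J a ≫ p = 0 := by
  rw [← hcomp, Category.assoc, h0, comp_zero]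

include hj hcomp hp hp' in
/-- `p` is a cokernel of `E'/J ⟶ E/J` -/
theorem exists_desc_p {Z : X.Modules} (g : modJ J E ⟶ Z) (hg : modJMap J a ≫ g = 0) :
    ∃ h : Gn ⟶ Z, p ≫ h = g := by
  have h1 : jn ≫ g = 0 := by
    rw [← cancel_epi p', ← Category.assoc, hcomp, hg, comp_zero]
  have h2 := hj Z g h1
  have hexact : (ShortComplex.mk (kernel.ι p) p (kernel.condition _)).Exact :=
    ShortComplex.exact_kernel _
  haveI : Epi (ShortComplex.mk (kernel.ι p) p (kernel.condition _)).g := hp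
  exact ⟨hexact.desc g h2, hexact.g_desc g h2⟩

/-- the levelwise comparison map -/
noncomputable def θ : modJ J (cokernel a) ⟶ Gn :=
  (exists_desc_modJ_cokernel J a p (modJMap_p J a p jn p' h0 hcomp)).choose

theorem π_θ : modJMap J (cokernel.π a) ≫ θ J a p jn p' h0 hcomp = p :=
  (exists_desc_modJ_cokernel J a p (modJMap_p J a p jn p' h0 hcomp)).choose_spec

include hj hp hp' in
theorem isIso_θ : IsIso (θ J a p jn p' h0 hcomp) := by
  obtain ⟨k, hk⟩ := exists_desc_p J a p hp jn p' hp' hj hcomp (modJMap J (cokernel.π a))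
    (modJMap_cokernel_zero _ a)
  refine ⟨k, ?_, ?_⟩
  · rw [← cancel_epi (modJMap J (cokernel.π a)), ← Category.assoc, π_θ, hk, Category.comp_id]
  · rw [← cancel_epi p, ← Category.assoc, hk, π_θ, Category.comp_id]

end level

section main

variable [IsLocallyNoetherian X] (I : Ideal A) {E E' : X.Modules} {G K' : ℕᵒᵖ ⥤ X.Modules}
  (φ : Formal.completion I E ⟶ G) (hφ : ∀ n, Epi (φ.app (op n)))
  (j : K' ⟶ Formal.completion I E) (hj0 : ∀ n, j.app (op n) ≫ φ.app (op n) = 0)
  (hj : ∀ (n : ℕ) (Z : X.Modules) (g : (Formal.completion I E).obj (op n) ⟶ Z),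
    j.app (op n) ≫ g = 0 → kernel.ι (φ.app (op n)) ≫ g = 0)
  (φ' : Formal.completion I E' ⟶ K') (hφ' : ∀ n, Epi (φ'.app (op n)))
  (a : E' ⟶ E) (ha : ∀ n, Formal.modPowπ I (n + 1) E' ≫ (φ' ≫ j).app (op n) =
    a ≫ Formal.modPowπ I (n + 1) E)

include ha in
theorem comp_app_eq (n : ℕ) : φ'.app (op n) ≫ j.app (op n) = modJMap (I ^ (n + 1)) a :=
  (cancel_epi (πJ (I ^ (n + 1)) E')).1 ((ha n).trans (πJ_modJMap (I ^ (n + 1)) a).symm)

include hφ hj0 hj hφ' ha in
theorem exists_iso_completion_of_presentation (hE : Coh.IsCoh E) (hE' : Coh.IsCoh E') :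
    ∃ M : X.Modules, Coh.IsCoh M ∧ Nonempty (Formal.completion I M ≅ G) := by
  refine ⟨cokernel a, isCoh_cokernel hE' hE a, ?_⟩
  let ϑ : ∀ n : ℕ, modJ (I ^ (n + 1)) (cokernel a) ⟶ G.obj (op n) := fun n =>
    θ (I ^ (n + 1)) a (φ.app (op n)) (j.app (op n)) (φ'.app (op n)) (hj0 n) (comp_app_eq I j φ' a ha n)
  have hπϑ : ∀ n, modJMap (I ^ (n + 1)) (cokernel.π a) ≫ ϑ n = φ.app (op n) := fun n =>
    π_θ (I ^ (n + 1)) a (φ.app (op n)) (j.app (op n)) (φ'.app (op n)) (hj0 n) (comp_app_eq I j φ' a ha n)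
  have h3 : ∀ n : ℕ, modLE (Ideal.pow_le_pow_right (Nat.le_succ (n + 1))) E ≫ φ.app (op n) =
        φ.app (op (n + 1)) ≫ G.map (homOfLE (Nat.le_add_right n 1)).op := by
    intro n
    have h2 : (Formal.completion I E).map (homOfLE (Nat.le_add_right n 1)).op =
        modLE (Ideal.pow_le_pow_right (Nat.le_succ (n + 1))) E :=
      completion_map_succ I E n
    rw [← h2]
    exact φ.naturality _
  have hnat' : ∀ n : ℕ, modLE (Ideal.pow_le_pow_right (Nat.le_succ (n + 1))) (cokernel a) ≫ ϑ n =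
      ϑ (n + 1) ≫ G.map (homOfLE (Nat.le_add_right n 1)).op := by
    intro n
    rw [← cancel_epi (modJMap (I ^ (n + 1 + 1)) (cokernel.π a)), ← Category.assoc, modJMap_modLE,
      Category.assoc, hπϑ]
    refine (h3 n).trans ?_
    rw [← Category.assoc, hπϑ]
    rfl
  have hnat : ∀ n : ℕ,
      (Formal.completion I (cokernel a)).map (homOfLE (Nat.le_add_right n 1)).op ≫ ϑ n =
        ϑ (n + 1) ≫ G.map (homOfLE (Nat.le_add_right n 1)).op := by
    intro n
    have h1 : (Formal.completion I (cokernel a)).map (homOfLE (Nat.le_add_right n 1)).op =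
        modLE (Ideal.pow_le_pow_right (Nat.le_succ (n + 1))) (cokernel a) :=
      completion_map_succ I (cokernel a) n
    exact (congrArg (fun k => k ≫ ϑ n) h1).trans (hnat' n)
  let τ : Formal.completion I (cokernel a) ⟶ G := NatTrans.ofOpSequence (fun n => ϑ n) hnat
  haveI : ∀ n : ℕᵒᵖ, IsIso (τ.app n) := fun n =>
    isIso_θ (I ^ (n.unop + 1)) a (φ.app (op n.unop)) (hφ n.unop) (j.app (op n.unop)) (φ'.app (op n.unop))
      (hφ' n.unop) (hj0 n.unop) (hj n.unop) (comp_app_eq I j φ' a ha n.unop)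
  haveI : IsIso τ := NatIso.isIso_of_isIso_app τ
  exact ⟨asIso τ⟩

end main

end Groth.Agent.Lib.R2Lead.CohFormalD
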