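import Mathlib
import Groth.Agent.Lib.R2LeadCohFormalA
import Groth.Agent.Lib.R2LeadCohFormalB
import Groth.Agent.Lib.R2LeadCohFormalC
import Groth.Agent.Lib.R2LeadCohFormalD
import Groth.Agent.S0060
import Groth.Agent.S0848
import Groth.Agent.S2325
import Groth.Agent.S9705
import Groth.Agent.Lib.R2H3VAmpleConv
import Groth.Agent.Lib.Helper23PB
import Groth.Agent.Lib.R2H2ProperSupp

/-!
# Grothendieck's existence theorem, projective case: assembly (lead, round 2)
-/

set_option autoImplicit false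
set_option linter.style.haveILetI false
universe u
open CategoryTheory CategoryTheory.Limits AlgebraicGeometry TopologicalSpace Opposite

namespace Groth.Agent.Lib.R2Lead.CohFormalE

open Groth.Agent.Lib.R2Lead.CohFormalA Groth.Agent.Lib.R2Lead.CohFormalB Groth.Agent.Lib.R2Lead.CohFormalC

theorem main (A : Type u) [CommRing A] [IsNoetherianRing A]
    (I : Ideal A) [IsAdicComplete I A] (X : Scheme.{u}) [X.Over (Spec (CommRingCat.of A))]
    [IsProper (X ↘ Spec (CommRingCat.of A))] (L : X.Modules) (hL : CohB1.IsAmple L)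
    (G : ℕᵒᵖ ⥤ X.Modules) (hG : Formal.IsCohFormal I G) :
    ∃ M : X.Modules, Coh.IsCoh M ∧ Nonempty (Formal.completion I M ≅ G) := by
  haveI : IsNoetherian X := Groth.Agent.Lib.R2H2.ProperSupp.isNoetherian_of_finiteType (A := A) X
  haveI : CompactSpace X := hL.2.1
  haveI : X.IsSeparated := by
    have h1 : IsSeparated (X ↘ Spec (CommRingCat.of A)) := inferInstance
    have h2 : IsSeparated (terminal.from (Spec (CommRingCat.of A))) := inferInstance
    have h3 : IsSeparated (terminal.from X) := by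
      have : terminal.from X = (X ↘ Spec (CommRingCat.of A)) ≫ terminal.from _ := Subsingleton.elim _ _
      rw [this]
      infer_instance
    exact ⟨h3⟩
  have hUV : ∀ G : ℕᵒᵖ ⥤ X.Modules, Formal.IsCohFormal I G → ∃ d₀ : ℕ, ∀ n d : ℕ, d₀ ≤ d →
      Subsingleton (Coh.HH X (CohB1.tensorMod (kernel (Groth.Agent.Lib.R2H3.FormalKer.tr G n))
        (CohB1.tensorPow L d)) 1) :=
    fun G hG => Groth.Agent.S0848.result A I X L hL G hG
  have hGG : ∀ F : X.Modules, Coh.IsCoh F → ∃ n₀ : ℕ, ∀ n, n₀ ≤ n →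
      Curv2.IsGloballyGenerated (CohB1.tensorMod F (CohB1.tensorPow L n)) :=
    fun F hF => Groth.Agent.S2325.result X L hL F hF
  obtain ⟨E, φ, hE, hφ⟩ := exists_epi_completion I L hL.1 hUV hGG G hG
  obtain ⟨K₁, j₁, hK₁, hj0, hj⟩ := exists_kernel_system (IsNoetherian.noetherian I) hE hG φ hφ
  obtain ⟨E', φ', hE', hφ'⟩ := exists_epi_completion I L hL.1 hUV hGG K₁ hK₁
  obtain ⟨a, ha, -⟩ := Groth.Agent.S0060.result A I X E' E hE' hE (φ' ≫ j₁)
  exact Groth.Agent.Lib.R2Lead.CohFormalD.exists_iso_completion_of_presentation I φ hφ j₁ hj0 hj φ' hφ' a ha hE hE'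

end Groth.Agent.Lib.R2Lead.CohFormalE
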