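import Mathlib
import Groth.Agent.Lib.R2LeadCohFormalA
import Groth.Agent.Lib.Helper20FormalPull

/-!
# Completion commutes with pullback and with restriction to opens (lead, round 2)

* `completionMap I f : completion I M ⟶ completion I N` and `completionMapIso`.
* `pullbackCompletionIso f hf I M : completion I M ⋙ pullback f ≅ completion I (f^* M)`.
* `restrictCompletionIso j hj I M : completion I M ⋙ restrictFunctor j ≅ completion I (M.restrict j)`.
-/

set_option autoImplicit false
set_option linter.style.haveILetI false
universe u
open CategoryTheory CategoryTheory.Limits AlgebraicGeometry TopologicalSpace Opposite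

namespace Groth.Agent.Lib.R2Lead.CohFormalF

open Groth.Agent.Lib.R2H2.FlatDev Groth.Agent.Lib.R2Lead.CohFormalA

section functoriality

variable {A : Type u} [CommRing A] {X : Scheme.{u}} [X.Over (Spec (CommRingCat.of A))]

/-- functoriality of the completion -/
noncomputable def completionMap (I : Ideal A) {M N : X.Modules} (f : M ⟶ N) :
    Formal.completion I M ⟶ Formal.completion I N :=
  NatTrans.ofOpSequence (fun n => (modJMap (I ^ (n + 1)) f :
      (Formal.completion I M).obj (op n) ⟶ (Formal.completion I N).obj (op n))) (fun n => by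
    have h1 : (Formal.completion I M).map (homOfLE (Nat.le_add_right n 1)).op =
        modLE (Ideal.pow_le_pow_right (Nat.le_succ (n + 1))) M := completion_map_succ I M n
    have h2 : (Formal.completion I N).map (homOfLE (Nat.le_add_right n 1)).op =
        modLE (Ideal.pow_le_pow_right (Nat.le_succ (n + 1))) N := completion_map_succ I N n
    have h3 := modJMap_modLE (Ideal.pow_le_pow_right (Nat.le_succ (n + 1)) : I ^ (n + 1 + 1) ≤ I ^ (n + 1)) f
    exact ((congrArg (fun k => k ≫ modJMap (I ^ (n + 1)) f) h1).trans h3.symm).trans
      (congrArg (fun k => modJMap (I ^ (n + 1 + 1)) f ≫ k) h2.symm))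

theorem completionMap_app (I : Ideal A) {M N : X.Modules} (f : M ⟶ N) (n : ℕ) :
    (completionMap I f).app (op n) = modJMap (I ^ (n + 1)) f := rfl

theorem completionMap_id (I : Ideal A) (M : X.Modules) :
    completionMap I (𝟙 M) = 𝟙 (Formal.completion I M) := by
  apply NatTrans.ext
  funext n
  obtain ⟨n⟩ := n
  exact modJMap_id (I ^ (n + 1)) M

theorem completionMap_comp (I : Ideal A) {M N P : X.Modules} (f : M ⟶ N) (g : N ⟶ P) :
    completionMap I (f ≫ g) = completionMap I f ≫ completionMap I g := by
  apply NatTrans.ext
  funext n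
  obtain ⟨n⟩ := n
  exact modJMap_comp (I ^ (n + 1)) f g

/-- the completion of an isomorphism -/
noncomputable def completionMapIso (I : Ideal A) {M N : X.Modules} (e : M ≅ N) :
    Formal.completion I M ≅ Formal.completion I N where
  hom := completionMap I e.hom
  inv := completionMap I e.inv
  hom_inv_id := by rw [← completionMap_comp, e.hom_inv_id, completionMap_id]
  inv_hom_id := by rw [← completionMap_comp, e.inv_hom_id, completionMap_id]

end functoriality

section pullback

variable {A : Type u} [CommRing A] {X Y : Scheme.{u}}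
  [X.Over (Spec (CommRingCat.of A))] [Y.Over (Spec (CommRingCat.of A))]
  (f : X ⟶ Y) (hf : f ≫ (Y ↘ Spec (CommRingCat.of A)) = X ↘ Spec (CommRingCat.of A))

theorem cokernel_desc_π_eq_id {C : Type*} [Category C] [HasZeroMorphisms C] {P Q : C} (s : P ⟶ Q)
    [HasCokernel s] : cokernel.desc s (cokernel.π s) (cokernel.condition s) = 𝟙 _ := by
  apply coequalizer.hom_ext
  rw [cokernel.π_desc]
  exact (Category.comp_id _).symm

include hf in
/-- `(f^*M)/J ≅ f^*(M/J)` -/
theorem exists_isIso_desc_pullback (J : Ideal A) (M : Y.Modules) :
    ∃ h' : Formal.smulFamily J ((Scheme.Modules.pullback f).obj M) ≫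
        (Scheme.Modules.pullback f).map (πJ J M) = 0, IsIso (cokernel.desc _ _ h') := by
  have hiso : IsIso (cokernel.desc _ (πJ J M) (cokernel.condition (Formal.smulFamily J M))) := by
    have h : cokernel.desc _ (πJ J M) (cokernel.condition (Formal.smulFamily J M)) = 𝟙 (modJ J M) :=
      cokernel_desc_π_eq_id (Formal.smulFamily J M)
    rw [h]
    exact IsIso.id _
  exact Groth.Agent.Lib.Helper20.FormalPull.isIso_cokernelDesc_pullback f hf J (πJ J M)
    (cokernel.condition _) hiso

/-- `(f^*M)/J ⟶ f^*(M/J)` -/
noncomputable def pbComp (J : Ideal A) (M : Y.Modules) :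
    modJ J ((Scheme.Modules.pullback f).obj M) ⟶ (Scheme.Modules.pullback f).obj (modJ J M) :=
  cokernel.desc _ _ (exists_isIso_desc_pullback f hf J M).choose

instance (J : Ideal A) (M : Y.Modules) : IsIso (pbComp f hf J M) :=
  (exists_isIso_desc_pullback f hf J M).choose_spec

@[reassoc]
theorem π_pbComp (J : Ideal A) (M : Y.Modules) :
    πJ J ((Scheme.Modules.pullback f).obj M) ≫ pbComp f hf J M = (Scheme.Modules.pullback f).map (πJ J M) :=
  cokernel.π_desc _ _ _

theorem pbComp_modLE {J J' : Ideal A} (h : J ≤ J') (M : Y.Modules) :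
    pbComp f hf J M ≫ (Scheme.Modules.pullback f).map (modLE h M) =
      modLE h ((Scheme.Modules.pullback f).obj M) ≫ pbComp f hf J' M := by
  rw [← cancel_epi (πJ J ((Scheme.Modules.pullback f).obj M)), π_pbComp_assoc, ← Functor.map_comp, πJ_modLE,
    πJ_modLE_assoc, π_pbComp]

/-- the completion commutes with pullback -/
noncomputable def pullbackCompletionHom (I : Ideal A) (M : Y.Modules) :
    Formal.completion I ((Scheme.Modules.pullback f).obj M) ⟶
      Formal.completion I M ⋙ Scheme.Modules.pullback f :=
  NatTrans.ofOpSequence (fun n => (pbComp f hf (I ^ (n + 1)) M :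
      (Formal.completion I ((Scheme.Modules.pullback f).obj M)).obj (op n) ⟶
        (Formal.completion I M ⋙ Scheme.Modules.pullback f).obj (op n))) (fun n => by
    have h1 : (Formal.completion I ((Scheme.Modules.pullback f).obj M)).map
        (homOfLE (Nat.le_add_right n 1)).op =
        modLE (Ideal.pow_le_pow_right (Nat.le_succ (n + 1))) _ := completion_map_succ I _ n
    have h2 : (Formal.completion I M).map (homOfLE (Nat.le_add_right n 1)).op =
        modLE (Ideal.pow_le_pow_right (Nat.le_succ (n + 1))) M := completion_map_succ I M n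
    have h3 := pbComp_modLE f hf
      (Ideal.pow_le_pow_right (Nat.le_succ (n + 1)) : I ^ (n + 1 + 1) ≤ I ^ (n + 1)) M
    have h4 : (Formal.completion I M ⋙ Scheme.Modules.pullback f).map (homOfLE (Nat.le_add_right n 1)).op =
        (Scheme.Modules.pullback f).map (modLE (Ideal.pow_le_pow_right (Nat.le_succ (n + 1))) M) :=
      congrArg (Scheme.Modules.pullback f).map h2
    exact ((congrArg (fun k => k ≫ pbComp f hf (I ^ (n + 1)) M) h1).trans h3.symm).trans
      (congrArg (fun k => pbComp f hf (I ^ (n + 1 + 1)) M ≫ k) h4.symm))

instance (I : Ideal A) (M : Y.Modules) : IsIso (pullbackCompletionHom f hf I M) := by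
  haveI : ∀ n : ℕᵒᵖ, IsIso ((pullbackCompletionHom f hf I M).app n) := fun n =>
    inferInstanceAs (IsIso (pbComp f hf (I ^ (n.unop + 1)) M))
  exact NatIso.isIso_of_isIso_app _

/-- the completion commutes with pullback -/
noncomputable def pullbackCompletionIso (I : Ideal A) (M : Y.Modules) :
    Formal.completion I M ⋙ Scheme.Modules.pullback f ≅
      Formal.completion I ((Scheme.Modules.pullback f).obj M) :=
  (asIso (pullbackCompletionHom f hf I M)).symm

/-- the completion commutes with restriction to opens -/
noncomputable def restrictCompletionIso [IsOpenImmersion f] (I : Ideal A) (M : Y.Modules) :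
    Formal.completion I M ⋙ Scheme.Modules.restrictFunctor f ≅
      Formal.completion I ((Scheme.Modules.restrictFunctor f).obj M) :=
  Functor.isoWhiskerLeft (Formal.completion I M) (Scheme.Modules.restrictFunctorIsoPullback f) ≪≫
    pullbackCompletionIso f hf I M ≪≫
    completionMapIso I ((Scheme.Modules.restrictFunctorIsoPullback f).app M).symm

end pullback

end Groth.Agent.Lib.R2Lead.CohFormalF
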