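import Mathlib
import Groth.Prelude.Def_FSch3
import Groth.Agent.Lib.Helper19ComplFlatMap
import Groth.Agent.Lib.Helper19Normalization

/-! # Completion of a local homomorphism with finite closed fibre -/

set_option autoImplicit false
universe u

namespace Groth.Agent.Lib.R2LeadComplFin

open IsLocalRing

section Cofinal

variable {S : Type u} [CommRing S] (I K : Ideal S)

theorem mem_pow_of_cauchy (a : AdicCompletion.AdicCauchySequence I S) {m n : ℕ} (hmn : m ≤ n) :
    a m - a n ∈ I ^ m := by
  have h := a.2 hmn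
  rw [SModEq.sub_mem, smul_eq_mul, Ideal.mul_top] at h
  exact h

/-- cofinal ideals give the same completion. -/
theorem complMap_id_bijective (hIK : I ≤ K) (k : ℕ) (hk : K ^ k ≤ I)
    (h' : I.map (RingHom.id S) ≤ K) :
    Function.Bijective (FSch.complMap I K (RingHom.id S) h') := by
  have hk1 : K ^ (k + 1) ≤ I := (Ideal.pow_le_pow_right (Nat.le_succ k)).trans hk
  have hpow : ∀ j : ℕ, K ^ ((k + 1) * j) ≤ I ^ j := by
    intro j
    rw [pow_mul]
    exact Ideal.pow_right_mono hk1 j
  have hev : ∀ (j : ℕ) (a : AdicCompletion.AdicCauchySequence I S),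
      AdicCompletion.evalₐ K j (FSch.complMap I K (RingHom.id S) h' (AdicCompletion.mk I S a)) =
        Ideal.Quotient.mk (K ^ j) (a j) := by
    intro j a
    rw [Groth.Agent.Lib.Helper19.evalₐ_complMap, AdicCompletion.evalₐ_mk]
    rfl
  constructor
  · rw [injective_iff_map_eq_zero]
    intro x hx
    obtain ⟨a, rfl⟩ := AdicCompletion.mk_surjective I S x
    apply AdicCompletion.ext_evalₐ
    intro j
    rw [map_zero, AdicCompletion.evalₐ_mk, Ideal.Quotient.eq_zero_iff_mem]
    have h1 : a ((k + 1) * j) ∈ K ^ ((k + 1) * j) := by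
      have := hev ((k + 1) * j) a
      rw [hx, map_zero] at this
      exact Ideal.Quotient.eq_zero_iff_mem.mp this.symm
    have h2 : a j - a ((k + 1) * j) ∈ I ^ j :=
      mem_pow_of_cauchy I a (Nat.le_mul_of_pos_left j (Nat.succ_pos k))
    have := Ideal.add_mem _ h2 (hpow j h1)
    simpa using this
  · intro y
    obtain ⟨b, rfl⟩ := AdicCompletion.mk_surjective K S y
    let a : AdicCompletion.AdicCauchySequence I S :=
      AdicCompletion.AdicCauchySequence.mk I S (fun j => b ((k + 1) * j)) (by
        intro j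
        rw [SModEq.sub_mem, smul_eq_mul, Ideal.mul_top]
        have h1 : b ((k + 1) * j) - b ((k + 1) * (j + 1)) ∈ K ^ ((k + 1) * j) :=
          mem_pow_of_cauchy K b (Nat.mul_le_mul_left _ (Nat.le_succ j))
        exact hpow j h1)
    refine ⟨AdicCompletion.mk I S a, ?_⟩
    apply AdicCompletion.ext_evalₐ
    intro j
    rw [hev, AdicCompletion.evalₐ_mk, Ideal.Quotient.eq]
    have h1 : b j - b ((k + 1) * j) ∈ K ^ j :=
      mem_pow_of_cauchy K b (Nat.le_mul_of_pos_left j (Nat.succ_pos k))
    have := Ideal.neg_mem_iff _ |>.mpr h1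
    simpa [a, AdicCompletion.AdicCauchySequence.mk] using this

end Cofinal

section Fibre

open TensorProduct

variable (R S : Type u) [CommRing R] [CommRing S] [IsLocalRing R] [IsLocalRing S] [Algebra R S]

/-- the closed fibre as a quotient -/
noncomputable def fibreEquiv :
    (S ⧸ (maximalIdeal R).map (algebraMap R S)) ≃ₐ[R] (maximalIdeal R).Fiber S :=
  let e₀ : (R ⧸ maximalIdeal R) ≃ₐ[R] (maximalIdeal R).ResidueField :=
    AlgEquiv.ofBijective (IsScalarTower.toAlgHom R (R ⧸ maximalIdeal R) (maximalIdeal R).ResidueField)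
      (Ideal.bijective_algebraMap_quotient_residueField (maximalIdeal R))
  ((Algebra.TensorProduct.quotIdealMapEquivTensorQuot S (maximalIdeal R)).restrictScalars R).trans
    ((Algebra.TensorProduct.congr (AlgEquiv.refl (R := R) (A₁ := S)) e₀).trans
      (Algebra.TensorProduct.comm R S (maximalIdeal R).ResidueField))

variable {R S}

theorem isArtinianRing_fibre
    (hfib : Module.Finite (maximalIdeal R).ResidueField ((maximalIdeal R).Fiber S)) :
    IsArtinianRing (S ⧸ (maximalIdeal R).map (algebraMap R S)) := by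
  haveI : IsArtinianRing ((maximalIdeal R).Fiber S) :=
    IsArtinianRing.of_finite (maximalIdeal R).ResidueField _
  exact (fibreEquiv R S).toRingEquiv.symm.isArtinianRing

theorem finite_fibre
    (hfib : Module.Finite (maximalIdeal R).ResidueField ((maximalIdeal R).Fiber S)) :
    Module.Finite R (S ⧸ (maximalIdeal R).map (algebraMap R S)) := by
  haveI : Module.Finite R (maximalIdeal R).ResidueField :=
    Module.Finite.of_surjective (Algebra.linearMap R (maximalIdeal R).ResidueField)
      (Ideal.algebraMap_residueField_surjective (maximalIdeal R))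
  haveI : Module.Finite R ((maximalIdeal R).Fiber S) :=
    Module.Finite.trans (maximalIdeal R).ResidueField _
  exact Module.Finite.equiv (fibreEquiv R S).symm.toLinearEquiv

theorem exists_pow_le [IsLocalHom (algebraMap R S)]
    (hfib : Module.Finite (maximalIdeal R).ResidueField ((maximalIdeal R).Fiber S)) :
    ∃ k : ℕ, (maximalIdeal S) ^ k ≤ (maximalIdeal R).map (algebraMap R S) := by
  set J := (maximalIdeal R).map (algebraMap R S) with hJ
  have hJle : J ≤ maximalIdeal S :=
    ((local_hom_TFAE (algebraMap R S)).out 0 2 rfl rfl).mp inferInstance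
  have hJtop : J ≠ ⊤ := fun h => (maximalIdeal.isMaximal S).ne_top (top_le_iff.mp (h ▸ hJle))
  haveI := isArtinianRing_fibre hfib
  haveI : Nontrivial (S ⧸ J) := Ideal.Quotient.nontrivial_iff.mpr hJtop
  haveI : IsLocalRing (S ⧸ J) :=
    IsLocalRing.of_surjective' (Ideal.Quotient.mk J) Ideal.Quotient.mk_surjective
  obtain ⟨k, hk⟩ : ∃ k : ℕ, (maximalIdeal (S ⧸ J)) ^ k = ⊥ := by
    have h := IsArtinianRing.isNilpotent_jacobson_bot (R := S ⧸ J)
    rw [IsLocalRing.jacobson_eq_maximalIdeal ⊥ bot_ne_top] at h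
    exact h
  refine ⟨k, ?_⟩
  have h1 : (maximalIdeal S).map (Ideal.Quotient.mk J) ≤ maximalIdeal (S ⧸ J) := by
    apply IsLocalRing.le_maximalIdeal
    intro htop
    have := Ideal.comap_map_of_surjective (Ideal.Quotient.mk J)
      Ideal.Quotient.mk_surjective (maximalIdeal S)
    rw [htop, Ideal.comap_top, ← RingHom.ker_eq_comap_bot, Ideal.mk_ker,
      sup_eq_left.mpr hJle] at this
    exact (maximalIdeal.isMaximal S).ne_top this.symm
  have h2 : ((maximalIdeal S) ^ k).map (Ideal.Quotient.mk J) = ⊥ := by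
    rw [Ideal.map_pow, eq_bot_iff, ← hk]
    exact Ideal.pow_right_mono h1 k
  rw [Ideal.map_eq_bot_iff_le_ker, Ideal.mk_ker] at h2
  exact h2

end Fibre

section Finite

variable {R S : Type u} [CommRing R] [CommRing S] [IsLocalRing R] [IsLocalRing S] [Algebra R S]
  [IsLocalHom (algebraMap R S)]

theorem complMap_finite (hm : (maximalIdeal R).FG) (hn : (maximalIdeal S).FG)
    (hfib : Module.Finite (maximalIdeal R).ResidueField ((maximalIdeal R).Fiber S))
    (h : (maximalIdeal R).map (algebraMap R S) ≤ maximalIdeal S) :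
    (FSch.complMap (maximalIdeal R) (maximalIdeal S) (algebraMap R S) h).Finite := by
  classical
  set 𝔪 := maximalIdeal R with h𝔪
  set 𝔫 := maximalIdeal S with h𝔫
  set φ := FSch.complMap 𝔪 𝔫 (algebraMap R S) h with hφ
  letI alg : Algebra (AdicCompletion 𝔪 R) (AdicCompletion 𝔫 S) := φ.toAlgebra
  change Module.Finite (AdicCompletion 𝔪 R) (AdicCompletion 𝔫 S)
  have hcompat : ∀ r : R, φ (algebraMap R (AdicCompletion 𝔪 R) r) =
      algebraMap S (AdicCompletion 𝔫 S) (algebraMap R S r) := by
    intro r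
    apply AdicCompletion.ext_evalₐ
    intro j
    rw [hφ, Groth.Agent.Lib.Helper19.evalₐ_complMap, AdicCompletion.algebraMap_apply,
      AdicCompletion.evalₐ_of, AdicCompletion.algebraMap_apply, AdicCompletion.evalₐ_of,
      Ideal.quotientMap_mk]
    rfl
  set I : Ideal (AdicCompletion 𝔪 R) := 𝔪.map (algebraMap R (AdicCompletion 𝔪 R)) with hI
  haveI : IsAdicComplete I (AdicCompletion 𝔪 R) := AdicCompletion.isAdicComplete_self 𝔪 hm
  -- Hausdorff
  have hzero : ∀ (j : ℕ) (x : AdicCompletion 𝔫 S),
      x ∈ (I ^ j • ⊤ : Submodule (AdicCompletion 𝔪 R) (AdicCompletion 𝔫 S)) →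
      AdicCompletion.evalₐ 𝔫 j x = 0 := by
    intro j x hx
    refine Submodule.smul_induction_on hx (fun p hp y _ => ?_) (fun a b ha hb => ?_)
    · change AdicCompletion.evalₐ 𝔫 j (φ p * y) = 0
      rw [map_mul, hφ, Groth.Agent.Lib.Helper19.evalₐ_complMap,
        Groth.Agent.Lib.Helper19.evalₐ_eq_zero_of_mem_map_pow 𝔪 j p hp, map_zero, zero_mul]
    · rw [map_add, ha, hb, add_zero]
  haveI : IsHausdorff I (AdicCompletion 𝔫 S) := by
    constructor
    intro x hx
    apply AdicCompletion.ext_evalₐ
    intro j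
    rw [map_zero]
    apply hzero j x
    have := hx j
    rw [SModEq.zero] at this
    exact this
  apply Groth.Agent.Lib.Helper19.Normalization.finite_of_finite_quotient_of_isAdicComplete I
  -- generators
  obtain ⟨k, hk⟩ := exists_pow_le hfib
  haveI := finite_fibre hfib
  obtain ⟨r, sb, hsb⟩ := Module.Finite.exists_fin (R := R)
    (M := S ⧸ 𝔪.map (algebraMap R S))
  choose s hs using fun i => Ideal.Quotient.mk_surjective (sb i)
  let ι := algebraMap S (AdicCompletion 𝔫 S)
  -- `ι` of `𝔪 S` lands in `I • ⊤`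
  have hmem : ∀ z ∈ 𝔪.map (algebraMap R S),
      ι z ∈ (I • ⊤ : Submodule (AdicCompletion 𝔪 R) (AdicCompletion 𝔫 S)) := by
    intro z hz
    rw [Ideal.smul_top_eq_map]
    change ι z ∈ I.map (algebraMap (AdicCompletion 𝔪 R) (AdicCompletion 𝔫 S))
    have h1 : ι z ∈ (𝔪.map (algebraMap R S)).map ι := Ideal.mem_map_of_mem _ hz
    have h2 : (𝔪.map (algebraMap R S)).map ι =
        I.map (algebraMap (AdicCompletion 𝔪 R) (AdicCompletion 𝔫 S)) := by
      rw [hI, Ideal.map_map, Ideal.map_map]
      congr 1
    rw [← h2]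
    exact h1
  refine Module.Finite.of_fg_top ?_
  have hspan : (⊤ : Submodule (AdicCompletion 𝔪 R)
      (AdicCompletion 𝔫 S ⧸ (I • ⊤ : Submodule (AdicCompletion 𝔪 R) (AdicCompletion 𝔫 S)))) =
      Submodule.span (AdicCompletion 𝔪 R)
        (Set.range fun i : Fin r => Submodule.Quotient.mk (ι (s i))) := by
    symm
    rw [eq_top_iff]
    rintro x -
    obtain ⟨x, rfl⟩ := Submodule.Quotient.mk_surjective _ x
    obtain ⟨t, ht⟩ := Groth.Agent.Lib.Helper19.exists_sub_of_mem_map_pow 𝔫 hn k x
    -- `x - ι t ∈ I • ⊤`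
    have h1 : x - ι t ∈ (I • ⊤ : Submodule (AdicCompletion 𝔪 R) (AdicCompletion 𝔫 S)) := by
      rw [← Ideal.map_pow] at ht
      have h2 : (𝔫 ^ k).map ι ≤ (𝔪.map (algebraMap R S)).map ι := Ideal.map_mono hk
      have h3 := h2 ht
      refine Submodule.span_induction (p := fun y _ => y ∈ (I • ⊤ :
        Submodule (AdicCompletion 𝔪 R) (AdicCompletion 𝔫 S))) ?_ ?_ ?_ ?_ h3
      · rintro _ ⟨z, hz, rfl⟩
        exact hmem z hz
      · exact Submodule.zero_mem _
      · intro a b _ _ ha hb
        exact Submodule.add_mem _ ha hb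
      · intro a b _ hb
        rw [Ideal.smul_top_eq_map] at hb ⊢
        exact Ideal.mul_mem_left _ a hb
    -- decompose `t`
    have h4 : Ideal.Quotient.mk (𝔪.map (algebraMap R S)) t ∈
        Submodule.span R (Set.range sb) := by rw [hsb]; trivial
    obtain ⟨c, hc⟩ := (Submodule.mem_span_range_iff_exists_fun R).mp h4
    have h5 : t - ∑ i, c i • s i ∈ 𝔪.map (algebraMap R S) := by
      rw [← Ideal.Quotient.eq_zero_iff_mem, map_sub, map_sum, ← hc]
      simp only [sub_eq_zero]
      refine Finset.sum_congr rfl fun i _ => ?_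
      rw [← hs i, Algebra.smul_def, Algebra.smul_def, map_mul]
      rfl
    have h6 : x - ∑ i, (algebraMap R (AdicCompletion 𝔪 R) (c i)) • ι (s i) ∈
        (I • ⊤ : Submodule (AdicCompletion 𝔪 R) (AdicCompletion 𝔫 S)) := by
      have h7 := hmem _ h5
      have h8 : ι (t - ∑ i, c i • s i) =
          ι t - ∑ i, (algebraMap R (AdicCompletion 𝔪 R) (c i)) • ι (s i) := by
        rw [map_sub, map_sum]
        congr 1
        refine Finset.sum_congr rfl fun i _ => ?_
        rw [Algebra.smul_def, map_mul]
        change _ = φ _ * _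
        rw [hcompat]
      rw [h8] at h7
      have := Submodule.add_mem _ h1 h7
      simpa using this
    rw [← Submodule.Quotient.eq] at h6
    rw [h6, ← Submodule.mkQ_apply, map_sum]
    refine Submodule.sum_mem _ fun i _ => ?_
    rw [map_smul]
    exact Submodule.smul_mem _ _ (Submodule.subset_span ⟨i, rfl⟩)
  rw [hspan]
  exact Submodule.fg_span (Set.finite_range _)

theorem main (R S : Type u) [CommRing R] [CommRing S]
    [IsLocalRing R] [IsLocalRing S] [Algebra R S] [IsLocalHom (algebraMap R S)]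
    (hm : (IsLocalRing.maximalIdeal R).FG) (hn : (IsLocalRing.maximalIdeal S).FG)
    (hfib : Module.Finite (IsLocalRing.maximalIdeal R).ResidueField ((IsLocalRing.maximalIdeal R).Fiber S))
    (h : (IsLocalRing.maximalIdeal R).map (algebraMap R S) ≤ IsLocalRing.maximalIdeal S)
    (h' : ((IsLocalRing.maximalIdeal R).map (algebraMap R S)).map (RingHom.id S) ≤ IsLocalRing.maximalIdeal S) :
    Function.Bijective (FSch.complMap ((IsLocalRing.maximalIdeal R).map (algebraMap R S))
        (IsLocalRing.maximalIdeal S) (RingHom.id S) h') ∧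
      (FSch.complMap (IsLocalRing.maximalIdeal R) (IsLocalRing.maximalIdeal S) (algebraMap R S) h).Finite := by
  obtain ⟨k, hk⟩ := exists_pow_le (R := R) (S := S) hfib
  exact ⟨complMap_id_bijective _ _ h k hk h', complMap_finite hm hn hfib h⟩

end Finite

end Groth.Agent.Lib.R2LeadComplFin
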