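import Mathlib
import Groth.Agent.Lib.R2H2FibreFinite
import Groth.Agent.Lib.R2H3ChowApprox
import Groth.Agent.S9705
import Groth.Agent.S5880

/-!
# "The map of fibres is proper" is a constructible property of morphisms (lead)

EGA IV 9.6.1 (vi).  Pattern of helper2's `R2H2FibreFinite`: reduce generically to `f` separated, then
use Chow's lemma `π : X' → X` proper surjective, `j : X' → P^n_Y` an immersion: `f_s` is proper iff
`j_s` has closed range.
-/

set_option autoImplicit false
set_option linter.style.haveILetI false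
universe u

open CategoryTheory CategoryTheory.Limits AlgebraicGeometry Topology TopologicalSpace

namespace Groth.Agent.Lib.R2LeadConsProper

open Groth.Agent.Lib.R2H2.FibreClosure Groth.Agent.Lib.R2H2.FibreLoci
  Groth.Agent.Lib.R2H2.FibreSets Groth.Agent.Lib.Helper3.LocusBC
  Groth.Agent.Lib.Helper5.FibMorLoci Groth.Agent.Lib.Helper3.DiagBC
  Groth.Agent.Lib.Helper5.LocusGeneric Groth.Agent.Lib.R2H2.FibreFinite

/-- For `j ≫ p = π ≫ f` with `j` an immersion, `p` proper, `π` proper surjective and `f` separated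
of finite type: the map of fibres of `f` is proper iff the trace of the range of `j` on the fibre
is closed. -/
theorem isProper_fibre_iff {X X' T Y S : Scheme.{u}} (f : X ⟶ Y) (g : Y ⟶ S) (π : X' ⟶ X)
    (j : X' ⟶ T) (p : T ⟶ Y) [IsSeparated f] [LocallyOfFiniteType f] [IsProper π] [Surjective π]
    [IsImmersion j] [IsProper p] (hcomm : j ≫ p = π ≫ f) (s : S) :
    IsProper (MoreMor.fiberMap f g s) ↔ IsClosed (((p ≫ g).fiberι s) ⁻¹' Set.range j) := by
  have hX := isPullback_fiberMap f g s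
  have hYs : IsPullback (g.fiberι s) (g.fiberToSpecResidueField s) g
      (S.fromSpecResidueField s) := IsPullback.of_hasPullback _ _
  have hT := IsPullback.of_hasPullback p (g.fiberι s)
  have hX' := IsPullback.of_hasPullback π ((f ≫ g).fiberι s)
  have hw : (pullback.fst π ((f ≫ g).fiberι s) ≫ j) ≫ p =
      (pullback.snd π ((f ≫ g).fiberι s) ≫ MoreMor.fiberMap f g s) ≫ g.fiberι s := by
    rw [Category.assoc, hcomm, ← Category.assoc, pullback.condition, Category.assoc, hX.w,
      Category.assoc]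
  have e1 : hT.lift _ _ hw ≫ pullback.fst p (g.fiberι s) =
      pullback.fst π ((f ≫ g).fiberι s) ≫ j := hT.lift_fst _ _ hw
  have e2 : hT.lift _ _ hw ≫ pullback.snd p (g.fiberι s) =
      pullback.snd π ((f ≫ g).fiberι s) ≫ MoreMor.fiberMap f g s := hT.lift_snd _ _ hw
  have hj' : IsPullback (pullback.fst π ((f ≫ g).fiberι s)) (hT.lift _ _ hw) j
      (pullback.fst p (g.fiberι s)) := by
    refine IsPullback.of_bot ?_ e1.symm hT
    rw [e2, hcomm]
    exact hX'.paste_vert hX
  haveI : IsImmersion (hT.lift _ _ hw) :=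
    MorphismProperty.of_isPullback (P := @IsImmersion) hj' inferInstance
  haveI : IsProper (pullback.snd p (g.fiberι s)) := inferInstance
  haveI : IsSeparated (MoreMor.fiberMap f g s) :=
    MorphismProperty.of_isPullback (P := @IsSeparated) hX inferInstance
  haveI : LocallyOfFiniteType (MoreMor.fiberMap f g s) :=
    MorphismProperty.of_isPullback (P := @LocallyOfFiniteType) hX inferInstance
  have key : IsClosed (Set.range (hT.lift _ _ hw)) ↔
      closure (Set.range j ∩ (p ≫ g) ⁻¹' {s}) ∩ (p ≫ g) ⁻¹' {s} ⊆ Set.range j :=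
    isClosed_range_fibre_iff (hT.paste_vert hYs) hj'
  rw [isClosed_preimage_fiberι_iff, ← key]
  constructor
  · intro hf'
    haveI : IsProper (hT.lift _ _ hw ≫ pullback.snd p (g.fiberι s)) := by
      rw [e2]; infer_instance
    haveI : IsProper (hT.lift _ _ hw) := IsProper.of_comp _ (pullback.snd p (g.fiberι s))
    exact (hT.lift _ _ hw).isClosedMap.isClosed_range
  · intro hcl
    haveI : IsClosedImmersion (hT.lift _ _ hw) := IsClosedImmersion.of_isPreimmersion _ hcl
    haveI : IsProper (pullback.snd π ((f ≫ g).fiberι s) ≫ MoreMor.fiberMap f g s) := by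
      rw [← e2]; infer_instance
    haveI : UniversallyClosed (MoreMor.fiberMap f g s) :=
      UniversallyClosed.of_comp_surjective (pullback.snd π ((f ≫ g).fiberι s)) _
    exact { }

theorem dich_isProper_of_sep {X Y S : Scheme.{u}} (f : X ⟶ Y) (g : Y ⟶ S) [IsIntegral S]
    [IsNoetherian S] [LocallyOfFiniteType g] [QuasiCompact g] [LocallyOfFiniteType (f ≫ g)]
    [QuasiCompact (f ≫ g)] [IsSeparated f] :
    Dich (ConsProp.locusMor (fun _ _ _ f _ => IsProper f) f g) := by
  haveI : IsLocallyNoetherian Y := LocallyOfFiniteType.isLocallyNoetherian g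
  haveI : CompactSpace Y := QuasiCompact.compactSpace_of_compactSpace g
  haveI : IsNoetherian Y := { }
  obtain ⟨_, _⟩ := Groth.Agent.Lib.Helper3.ForallFiber.ft_of_comp f g
  obtain ⟨n, X', π, j, hj, hcomm, hπ, hπs⟩ := Groth.Agent.Lib.R2H3.ChowApprox.chow_noeth f
  haveI := Groth.Agent.S9705.isProper_toBase n Y
  haveI : NoetherianSpace ↥(CohB1.ProjSpaceOver n Y) :=
    noetherianSpace_of_finiteType (CohB1.ProjSpaceOver.toBase n Y ≫ g)
  have hZ : IsConstructible (Set.range j) := by
    obtain ⟨O, C, hO, hC, hOC⟩ := j.isLocallyClosed_range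
    rw [hOC]
    exact (IsOpen.isConstructible_of_noetherianSpace hO).inter
      (isConstructible_of_isClosed_of_noetherianSpace hC)
  have H := dichotomy_closed (CohB1.ProjSpaceOver.toBase n Y ≫ g) (Set.range j) Set.univ hZ
  have heq : ConsProp.locusMor (fun _ _ _ f _ => IsProper f) f g =
      locus PhiClosed (CohB1.ProjSpaceOver.toBase n Y ≫ g) (Set.range j) Set.univ := by
    ext s
    exact isProper_fibre_iff f g π j (CohB1.ProjSpaceOver.toBase n Y) hcomm s
  rw [heq]
  exact H

/-- **EGA IV 9.6.1 (vi)**: "The map of fibres is proper" is a constructible property of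
morphisms. -/
theorem isConsMor_isProper : ConsProp.IsConsMor.{u} (fun _ _ _ f _ => IsProper f) := by
  haveI := Groth.Agent.Lib.Helper12.descendsAlong_isProper.{u}
  have hstab : ConsProp.IsFieldStableMor.{u} (fun _ _ _ f _ => IsProper f) :=
    Groth.Agent.Lib.Helper3.ConsOfLocus.isFieldStableMor_of @IsProper
  refine ⟨hstab, ?_⟩
  intro X Y S f g _ _ _ _ _ _
  have hsep := isConsMor_isSeparated.{u}
  refine dich_of_subset (E' := ConsProp.locusMor (fun _ _ _ f _ => IsSeparated f) f g)
    (fun s (hs : IsProper _) => (inferInstance : IsSeparated _)) (hsep.2 f g) fun h1 => ?_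
  obtain ⟨U₀, hU₀⟩ : ∃ U₀ : S.Opens, (U₀ : Set S) =
      interior (ConsProp.locusMor (fun _ _ _ f _ => IsSeparated f) f g) :=
    ⟨⟨_, isOpen_interior⟩, rfl⟩
  have hU₀ne : (U₀ : Set S).Nonempty := by rw [hU₀]; exact h1
  haveI : Nonempty ↥(U₀ : Scheme.{u}) := hU₀ne.to_subtype
  refine dich_of_restrict hstab f g U₀ ?_
  intro X₀ Y₀ f₀ g₀ pX₀ pY₀ _ _ _ _ hY₀ hX₀
  have hs₀ : ∀ s, IsSeparated (MoreMor.fiberMap f₀ g₀ s) := by
    intro s
    have e := locusMor_eq_preimage hsep.1 hY₀ hX₀
    have hs : s ∈ ConsProp.locusMor (fun _ _ _ f _ => IsSeparated f) f₀ g₀ := by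
      rw [e]
      have h3 : (U₀.ι s : S) ∈ (U₀ : Set S) := s.2
      rw [hU₀] at h3
      exact (interior_subset h3 : U₀.ι s ∈ _)
    exact hs
  obtain ⟨U₁, hU₁o, hU₁ne, hU₁⟩ := exists_open_isSeparated_of_fibres f₀ g₀ hs₀
  haveI : Nonempty ↥((⟨U₁, hU₁o⟩ : (U₀ : Scheme.{u}).Opens) : Scheme.{u}) := hU₁ne.to_subtype
  refine dich_of_restrict hstab f₀ g₀ ⟨U₁, hU₁o⟩ ?_
  intro X₁ Y₁ f₁ g₁ pX₁ pY₁ _ _ _ _ hY₁ hX₁
  haveI : IsSeparated f₁ := hU₁ hY₁ hX₁ (by
    rintro _ ⟨t, rfl⟩
    exact t.2)
  exact dich_isProper_of_sep f₁ g₁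

end Groth.Agent.Lib.R2LeadConsProper
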