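import Mathlib
import Groth.Agent.Lib.Helper5RLR

set_option autoImplicit false
universe u

namespace Groth.Agent.Lib.R2LeadCotSmA

open IsLocalRing Module Groth.Agent.Lib.Helper5

/-- a regular system of parameters. -/
theorem exists_gens (A : Type u) [CommRing A] [IsRegularLocalRing A] :
    ∃ (d : ℕ) (t : Fin d → maximalIdeal A), ringKrullDim A = d ∧
      Ideal.span (Set.range fun i => (t i : A)) = maximalIdeal A ∧
      LinearIndependent (ResidueField A) (fun i => (maximalIdeal A).toCotangent (t i)) := by
  obtain ⟨d, hd⟩ := exists_nat_ringKrullDim_eq A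
  have hreg : ((maximalIdeal A).spanFinrank : WithBot ℕ∞) = ringKrullDim A :=
    IsRegularLocalRing.spanFinrank_maximalIdeal
  rw [hd] at hreg
  have hreg' : (maximalIdeal A).spanFinrank = d := by exact_mod_cast hreg
  have hfg : (maximalIdeal A).FG := IsNoetherian.noetherian _
  have hfin : (Submodule.generators (maximalIdeal A)).Finite := Submodule.FG.finite_generators hfg
  have hcard : (Submodule.generators (maximalIdeal A)).ncard = d := by
    rw [Submodule.FG.generators_ncard hfg, hreg']
  haveI := hfin.fintype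
  have hcard' : Fintype.card (Submodule.generators (maximalIdeal A)) = d := by
    rw [← hcard, Set.ncard_eq_toFinset_card', Set.toFinset_card]
  let e : Fin d ≃ Submodule.generators (maximalIdeal A) := (Fintype.equivFinOfCardEq hcard').symm
  have hmem : ∀ g : Submodule.generators (maximalIdeal A), (g : A) ∈ maximalIdeal A := fun g =>
    Submodule.FG.generators_mem (maximalIdeal A) g.2
  let t : Fin d → maximalIdeal A := fun i => ⟨(e i : A), hmem (e i)⟩
  have hspan : Ideal.span (Set.range fun i => (t i : A)) = maximalIdeal A := by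
    have h1 : (Set.range fun i => (t i : A)) = Submodule.generators (maximalIdeal A) := by
      ext a
      constructor
      · rintro ⟨i, rfl⟩
        exact (e i).2
      · intro ha
        exact ⟨e.symm ⟨a, ha⟩, by simp [t]⟩
    rw [h1]
    exact Submodule.span_generators (maximalIdeal A)
  refine ⟨d, t, hd, hspan, ?_⟩
  letI : Field (A ⧸ maximalIdeal A) := Ideal.Quotient.field (maximalIdeal A)
  haveI : IsRegularLocalRing (A ⧸ maximalIdeal A) := inferInstance
  have hdim : ringKrullDim (A ⧸ maximalIdeal A) + d = ringKrullDim A := by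
    rw [hd, ringKrullDim_eq_zero_of_field, zero_add]
  exact (isRegularLocalRing_of_quotient_span_range' t (maximalIdeal A) hspan.symm hdim).2

section

variable {A B : Type u} [CommRing A] [CommRing B] [IsLocalRing A] [IsLocalRing B] (φ : A →+* B)
  (hφ : maximalIdeal A ≤ (maximalIdeal B).comap φ)

include hφ in
theorem mem_of_map_mem (a : A) (h : φ a ∈ maximalIdeal B) : a ∈ maximalIdeal A := by
  by_contra hn
  have hu : IsUnit a := by
    rwa [mem_maximalIdeal, mem_nonunits_iff, not_not] at hn
  exact (mem_maximalIdeal _).mp h (hu.map φ)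

/-- the cotangent map. -/
noncomputable def cot : CotangentSpace A →ₗ[ℤ] CotangentSpace B :=
  Ideal.mapCotangent _ _ φ.toIntAlgHom hφ

theorem cot_toCotangent (m : maximalIdeal A) :
    cot φ hφ ((maximalIdeal A).toCotangent m) = (maximalIdeal B).toCotangent ⟨φ m, hφ m.2⟩ :=
  Ideal.mapCotangent_toCotangent _ _ _ _ _

variable {d : ℕ} (t : Fin d → maximalIdeal A)

theorem cot_sum (a : Fin d → A) (m : maximalIdeal A) (hm : (m : A) = ∑ i, a i * (t i : A)) :
    cot φ hφ ((maximalIdeal A).toCotangent m) =
      ∑ i, residue B (φ (a i)) • (maximalIdeal B).toCotangent ⟨φ (t i), hφ (t i).2⟩ := by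
  rw [cot_toCotangent]
  have h1 : (⟨φ m, hφ m.2⟩ : maximalIdeal B) =
      ∑ i, φ (a i) • (⟨φ (t i), hφ (t i).2⟩ : maximalIdeal B) := by
    apply Subtype.ext
    rw [Submodule.coe_sum]
    simp only [hm, map_sum, map_mul, Submodule.coe_smul, smul_eq_mul]
  rw [h1, map_sum]
  refine Finset.sum_congr rfl fun i _ => ?_
  rw [map_smul]
  rfl

theorem toCotangent_sum (a : Fin d → A) (m : maximalIdeal A) (hm : (m : A) = ∑ i, a i * (t i : A)) :
    (maximalIdeal A).toCotangent m =
      ∑ i, residue A (a i) • (maximalIdeal A).toCotangent (t i) := by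
  have h1 : m = ∑ i, a i • t i := by
    apply Subtype.ext
    rw [Submodule.coe_sum]
    simp only [hm, Submodule.coe_smul, smul_eq_mul]
  rw [h1, map_sum]
  refine Finset.sum_congr rfl fun i _ => ?_
  rw [map_smul]
  rfl

include hφ in
theorem injective_cot_of_li (hspan : Ideal.span (Set.range fun i => (t i : A)) = maximalIdeal A)
    (hli : LinearIndependent (ResidueField B)
      (fun i => (maximalIdeal B).toCotangent ⟨φ (t i), hφ (t i).2⟩)) :
    Function.Injective (cot φ hφ) := by
  rw [injective_iff_map_eq_zero]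
  intro v hv
  obtain ⟨m, rfl⟩ := Ideal.toCotangent_surjective _ v
  have hm : (m : A) ∈ Ideal.span (Set.range fun i => (t i : A)) := by rw [hspan]; exact m.2
  obtain ⟨a, ha⟩ := (Ideal.mem_span_range_iff_exists_fun).mp hm
  rw [cot_sum φ hφ t a m ha.symm] at hv
  have h0 := Fintype.linearIndependent_iff.mp hli _ hv
  rw [Ideal.toCotangent_eq_zero, ← ha, pow_two]
  refine Ideal.sum_mem _ fun i _ => Ideal.mul_mem_mul ?_ (t i).2
  apply mem_of_map_mem φ hφ
  exact (residue_eq_zero_iff _).mp (h0 i)

include hφ in
theorem li_of_injective_cot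
    (hli : LinearIndependent (ResidueField A) (fun i => (maximalIdeal A).toCotangent (t i)))
    (hres : ∀ b : B, ∃ a : A, b - φ a ∈ maximalIdeal B)
    (hinj : Function.Injective (cot φ hφ)) :
    LinearIndependent (ResidueField B)
      (fun i => (maximalIdeal B).toCotangent ⟨φ (t i), hφ (t i).2⟩) := by
  rw [Fintype.linearIndependent_iff]
  intro c hc
  have hex : ∀ i, ∃ a : A, residue B (φ a) = c i := by
    intro i
    obtain ⟨b, hb⟩ := residue_surjective (c i)
    obtain ⟨a, ha⟩ := hres b
    refine ⟨a, ?_⟩
    rw [← hb]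
    symm
    rw [← sub_eq_zero, ← map_sub, residue_eq_zero_iff]
    exact ha
  choose a ha using hex
  let m : maximalIdeal A := ⟨∑ i, a i * (t i : A),
    Ideal.sum_mem _ fun i _ => Ideal.mul_mem_left _ _ (t i).2⟩
  have h1 := cot_sum φ hφ t a m rfl
  simp only [ha] at h1
  rw [hc] at h1
  have h2 : (maximalIdeal A).toCotangent m = 0 := hinj (by rw [h1, map_zero])
  rw [toCotangent_sum t a m rfl] at h2
  have h3 := Fintype.linearIndependent_iff.mp hli _ h2
  intro i
  rw [← ha i, residue_eq_zero_iff]
  exact hφ ((residue_eq_zero_iff _).mp (h3 i))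

end

section main

variable {A B : Type u} [CommRing A] [CommRing B] [IsRegularLocalRing A] [IsLocalRing B]
  [IsNoetherianRing B] (φ : A →+* B) (hφ : maximalIdeal A ≤ (maximalIdeal B).comap φ)

theorem map_eq_span {d : ℕ} (t : Fin d → maximalIdeal A)
    (hspan : Ideal.span (Set.range fun i => (t i : A)) = maximalIdeal A) :
    (maximalIdeal A).map φ =
      Ideal.span (Set.range fun i => ((⟨φ (t i), hφ (t i).2⟩ : maximalIdeal B) : B)) := by
  have h1 : (maximalIdeal A).map φ = (Ideal.span (Set.range fun i => (t i : A))).map φ := by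
    rw [hspan]
  rw [h1, Ideal.map_span]
  congr 1
  ext b
  constructor
  · rintro ⟨_, ⟨i, rfl⟩, rfl⟩
    exact ⟨i, rfl⟩
  · rintro ⟨i, rfl⟩
    exact ⟨_, ⟨i, rfl⟩, rfl⟩

/-- if the fibre ring is regular of the expected dimension then the cotangent map is injective. -/
theorem injective_cot_of_regular_fibre
    [IsRegularLocalRing (B ⧸ (maximalIdeal A).map φ)]
    (hdim : ringKrullDim (B ⧸ (maximalIdeal A).map φ) + ringKrullDim A = ringKrullDim B) :
    Function.Injective (cot φ hφ) := by
  obtain ⟨d, t, hd, hspan, -⟩ := exists_gens A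
  rw [hd] at hdim
  have h1 := isRegularLocalRing_of_quotient_span_range'
    (fun i => (⟨φ (t i), hφ (t i).2⟩ : maximalIdeal B)) ((maximalIdeal A).map φ)
    (map_eq_span φ hφ t hspan) hdim
  exact injective_cot_of_li φ hφ t hspan h1.2

end main

section main2

variable {A B : Type u} [CommRing A] [CommRing B] [IsRegularLocalRing A] [IsRegularLocalRing B]
  (φ : A →+* B) (hφ : maximalIdeal A ≤ (maximalIdeal B).comap φ)

/-- if the cotangent map is injective (and the residue field extension is trivial) then the fibre ring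
is regular of the expected dimension. -/
theorem regular_fibre_of_injective_cot
    [IsLocalRing (B ⧸ (maximalIdeal A).map φ)]
    (hres : ∀ b : B, ∃ a : A, b - φ a ∈ maximalIdeal B)
    (hinj : Function.Injective (cot φ hφ)) :
    IsRegularLocalRing (B ⧸ (maximalIdeal A).map φ) ∧
      ringKrullDim (B ⧸ (maximalIdeal A).map φ) + ringKrullDim A = ringKrullDim B := by
  obtain ⟨d, t, hd, hspan, hli⟩ := exists_gens A
  rw [hd]
  exact isRegularLocalRing_quotient_of_linearIndependent'
    (fun i => (⟨φ (t i), hφ (t i).2⟩ : maximalIdeal B))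
    (li_of_injective_cot φ hφ t hli hres hinj) ((maximalIdeal A).map φ)
    (map_eq_span φ hφ t hspan)

end main2

end Groth.Agent.Lib.R2LeadCotSmA
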