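import Mathlib
import Groth.Agent.Lib.R2LeadCotSmA

set_option autoImplicit false
universe u

namespace Groth.Agent.Lib.R2LeadCotOmA

open IsLocalRing Module Groth.Agent.Lib.Helper5 Groth.Agent.Lib.R2LeadCotSmA

section der

variable (A B : Type u) [CommRing A] [CommRing B] [IsLocalRing A] [IsLocalRing B] [Algebra A B]

/-- the quotient of the cotangent space of `B` by the image of the fibre ideal. -/
abbrev N : Type u := CotangentSpace B ⧸ cotV ((maximalIdeal A).map (algebraMap A B))

noncomputable instance instModA : Module A (N A B) := Module.compHom (N A B) (algebraMap A B)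
instance : IsScalarTower A B (N A B) := IsScalarTower.of_algebraMap_smul fun _ _ => rfl
instance : IsScalarTower B (ResidueField B) (N A B) := inferInstance

variable {A B}
variable (hφ : maximalIdeal A ≤ (maximalIdeal B).comap (algebraMap A B))
  (hres : ∀ b : B, ∃ a : A, b - algebraMap A B a ∈ maximalIdeal B)

/-- the class of `m ∈ m_B` in `N`. -/
noncomputable def cls (m : maximalIdeal B) : N A B :=
  Submodule.Quotient.mk ((maximalIdeal B).toCotangent m)

theorem cls_add (m m' : maximalIdeal B) : cls (A := A) (m + m') = cls m + cls m' := by
  unfold cls; rw [map_add]; rfl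

theorem cls_smul (b : B) (m : maximalIdeal B) : cls (A := A) (b • m) = b • cls m := by
  unfold cls; rw [map_smul]; rfl

theorem cls_eq_zero (m : maximalIdeal B) (h : (m : B) ∈ (maximalIdeal A).map (algebraMap A B)) :
    cls (A := A) m = 0 := by
  unfold cls
  rw [Submodule.Quotient.mk_eq_zero]
  exact toCotangent_mem_cotV m h

theorem cls_surjective : Function.Surjective (cls (A := A) (B := B)) := by
  intro y
  obtain ⟨v, rfl⟩ := Submodule.Quotient.mk_surjective _ y
  obtain ⟨m, rfl⟩ := Ideal.toCotangent_surjective _ v
  exact ⟨m, rfl⟩

theorem smul_N_eq_zero (m : B) (hm : m ∈ maximalIdeal B) (y : N A B) : m • y = 0 := by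
  obtain ⟨z, rfl⟩ := cls_surjective y
  rw [← cls_smul]
  unfold cls
  have : (maximalIdeal B).toCotangent (m • z) = 0 := by
    rw [Ideal.toCotangent_eq_zero, pow_two]
    exact Ideal.mul_mem_mul hm z.2
  rw [this]; rfl

/-- the derivation `b ↦ class of (b - φ a)`. -/
noncomputable def Dfun (b : B) : N A B :=
  cls ⟨b - algebraMap A B (hres b).choose, (hres b).choose_spec⟩

include hφ in
theorem Dfun_eq (b : B) (a : A) (h : b - algebraMap A B a ∈ maximalIdeal B) :
    Dfun hres b = cls ⟨b - algebraMap A B a, h⟩ := by
  unfold Dfun
  have h1 : (⟨b - algebraMap A B (hres b).choose, (hres b).choose_spec⟩ : maximalIdeal B) =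
      ⟨b - algebraMap A B a, h⟩ + ⟨algebraMap A B (a - (hres b).choose), by
        have : algebraMap A B (a - (hres b).choose) =
            (b - algebraMap A B (hres b).choose) - (b - algebraMap A B a) := by
          rw [map_sub]; ring
        rw [this]; exact sub_mem (hres b).choose_spec h⟩ := by
    apply Subtype.ext
    simp only [Submodule.coe_add, map_sub]
    ring
  rw [h1, cls_add, cls_eq_zero (A := A) ⟨algebraMap A B (a - (hres b).choose), _⟩, add_zero]
  apply Ideal.mem_map_of_mem
  apply mem_of_map_mem (algebraMap A B) hφ
  have : algebraMap A B (a - (hres b).choose) =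
      (b - algebraMap A B (hres b).choose) - (b - algebraMap A B a) := by
    rw [map_sub]; ring
  rw [this]; exact sub_mem (hres b).choose_spec h

include hφ in
theorem Dfun_add (b b' : B) : Dfun hres (b + b') = Dfun hres b + Dfun hres b' := by
  have h : b + b' - algebraMap A B ((hres b).choose + (hres b').choose) ∈ maximalIdeal B := by
    have : b + b' - algebraMap A B ((hres b).choose + (hres b').choose) =
        (b - algebraMap A B (hres b).choose) + (b' - algebraMap A B (hres b').choose) := by
      rw [map_add]; ring
    rw [this]; exact add_mem (hres b).choose_spec (hres b').choose_spec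
  rw [Dfun_eq hφ hres (b + b') _ h]
  unfold Dfun
  rw [← cls_add]
  congr 1
  apply Subtype.ext
  simp only [Submodule.coe_add, map_add]
  ring

include hφ in
theorem Dfun_mul (b b' : B) : Dfun hres (b * b') = b • Dfun hres b' + b' • Dfun hres b := by
  have h : b * b' - algebraMap A B ((hres b).choose * (hres b').choose) ∈ maximalIdeal B := by
    have : b * b' - algebraMap A B ((hres b).choose * (hres b').choose) =
        b * (b' - algebraMap A B (hres b').choose) +
          algebraMap A B (hres b').choose * (b - algebraMap A B (hres b).choose) := by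
      rw [map_mul]; ring
    rw [this]
    exact add_mem (Ideal.mul_mem_left _ _ (hres b').choose_spec)
      (Ideal.mul_mem_left _ _ (hres b).choose_spec)
  rw [Dfun_eq hφ hres (b * b') _ h]
  have h2 : b' • Dfun hres b = algebraMap A B (hres b').choose • Dfun hres b := by
    rw [← sub_eq_zero, ← sub_smul]
    exact smul_N_eq_zero _ (hres b').choose_spec _
  rw [h2]
  unfold Dfun
  rw [← cls_smul, ← cls_smul, ← cls_add]
  congr 1
  apply Subtype.ext
  simp only [Submodule.coe_add, Submodule.coe_smul, smul_eq_mul, map_mul]
  ring

include hφ in
theorem Dfun_algebraMap_mul (a : A) (b : B) :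
    Dfun hres (algebraMap A B a * b) = algebraMap A B a • Dfun hres b := by
  have h : algebraMap A B a * b - algebraMap A B (a * (hres b).choose) ∈ maximalIdeal B := by
    have : algebraMap A B a * b - algebraMap A B (a * (hres b).choose) =
        algebraMap A B a * (b - algebraMap A B (hres b).choose) := by
      rw [map_mul]; ring
    rw [this]
    exact Ideal.mul_mem_left _ _ (hres b).choose_spec
  rw [Dfun_eq hφ hres _ _ h]
  unfold Dfun
  rw [← cls_smul]
  congr 1
  apply Subtype.ext
  simp only [Submodule.coe_smul, smul_eq_mul, map_mul]
  ring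

include hφ in
theorem Dfun_mem (m : maximalIdeal B) : Dfun hres (m : B) = cls m := by
  have h : (m : B) - algebraMap A B 0 ∈ maximalIdeal B := by
    rw [map_zero, sub_zero]; exact m.2
  rw [Dfun_eq hφ hres _ 0 h]
  congr 1
  apply Subtype.ext
  simp

/-- the derivation. -/
noncomputable def Der : Derivation A B (N A B) :=
  Derivation.mk'
    { toFun := Dfun hres
      map_add' := Dfun_add hφ hres
      map_smul' := fun a b => by
        rw [Algebra.smul_def, Dfun_algebraMap_mul hφ hres]
        rfl }
    (fun b b' => Dfun_mul hφ hres b b')

theorem lift_surjective : Function.Surjective (Der hφ hres).liftKaehlerDifferential := by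
  intro y
  obtain ⟨m, rfl⟩ := cls_surjective y
  refine ⟨KaehlerDifferential.D A B (m : B), ?_⟩
  rw [Derivation.liftKaehlerDifferential_comp_D]
  exact Dfun_mem hφ hres m

include hφ hres in
theorem finrank_N_le [IsNoetherianRing B] {n : ℕ} (v : Fin n → Ω[B⁄A])
    (hv : Submodule.span B (Set.range v) = ⊤) : finrank (ResidueField B) (N A B) ≤ n := by
  let L := (Der hφ hres).liftKaehlerDifferential
  have h1 : Submodule.span B (Set.range fun i => L (v i)) = ⊤ := by
    have : (Set.range fun i => L (v i)) = L '' Set.range v := by
      rw [← Set.range_comp]; rfl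
    rw [this, ← Submodule.map_span, hv, Submodule.map_top, LinearMap.range_eq_top]
    exact lift_surjective hφ hres
  have h2 : Submodule.span (ResidueField B) (Set.range fun i => L (v i)) = ⊤ := by
    rw [eq_top_iff]
    intro y _
    have h3 : y ∈ Submodule.span B (Set.range fun i => L (v i)) := by rw [h1]; trivial
    exact Submodule.span_le_restrictScalars B (ResidueField B) _ h3
  have h4 := finrank_range_le_card (R := ResidueField B) (fun i => L (v i))
  rw [Set.finrank, h2, finrank_top, Fintype.card_fin] at h4
  exact h4

end der

section main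

variable {A B : Type u} [CommRing A] [CommRing B] [IsRegularLocalRing A] [IsRegularLocalRing B]
  [Algebra A B] (hφ : maximalIdeal A ≤ (maximalIdeal B).comap (algebraMap A B))
  (hres : ∀ b : B, ∃ a : A, b - algebraMap A B a ∈ maximalIdeal B)

include hres in
/-- if `Ω[B⁄A]` is spanned by `n = dim B - dim A` elements then the cotangent map is injective. -/
theorem injective_cot_of_span {n : ℕ} (v : Fin n → Ω[B⁄A])
    (hv : Submodule.span B (Set.range v) = ⊤)
    (hdim : ringKrullDim B = ringKrullDim A + (n : WithBot ℕ∞)) :
    Function.Injective (cot (algebraMap A B) hφ) := by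
  obtain ⟨d, t, hd, hspan, -⟩ := exists_gens A
  apply injective_cot_of_li (algebraMap A B) hφ t hspan
  rw [linearIndependent_iff_card_eq_finrank_span, Fintype.card_fin]
  have hJ := map_eq_span (algebraMap A B) hφ t hspan
  have h1 : finrank (ResidueField B) (N A B) ≤ n := finrank_N_le hφ hres v hv
  have h2 := Submodule.finrank_quotient_add_finrank
    (cotV ((maximalIdeal A).map (algebraMap A B)))
  have h3 : finrank (ResidueField B) (CotangentSpace B) = d + n := by
    rw [← spanFinrank_maximalIdeal_eq_finrank_cotangentSpace]
    have hreg : ((maximalIdeal B).spanFinrank : WithBot ℕ∞) = ringKrullDim B :=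
      IsRegularLocalRing.spanFinrank_maximalIdeal
    rw [hdim, hd] at hreg
    exact_mod_cast hreg
  have h4 := finrank_cotV_span_range_le
    (fun i => (⟨algebraMap A B (t i), hφ (t i).2⟩ : maximalIdeal B))
  have h5 := cotV_span_range (fun i => (⟨algebraMap A B (t i), hφ (t i).2⟩ : maximalIdeal B))
  rw [← hJ] at h4 h5
  rw [Set.finrank, ← h5]
  have h6 : finrank (ResidueField B) (N A B) +
      finrank (ResidueField B) (cotV ((maximalIdeal A).map (algebraMap A B))) = d + n := by
    rw [← h3]; exact h2
  have h7 : finrank (ResidueField B) (cotV ((maximalIdeal A).map (algebraMap A B))) ≤ d := h4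
  clear h2 h3 h4 h5 hJ
  generalize finrank (ResidueField B) (N A B) = a at h1 h6
  generalize finrank (ResidueField B) (cotV ((maximalIdeal A).map (algebraMap A B))) = c at h6 h7 ⊢
  omega

end main

section loc

variable {R S A B : Type u} [CommRing R] [CommRing S] [CommRing A] [CommRing B]
  [Algebra R S] [Algebra R A] [Algebra A B] [Algebra S B] [Algebra R B]
  [IsScalarTower R S B] [IsScalarTower R A B]

/-- differentials of a localisation (and over a bigger base) are spanned by the image of a basis. -/
theorem exists_span_of_basis (M : Submonoid S) [IsLocalization M B] {n : ℕ}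
    (b : Module.Basis (Fin n) S Ω[S⁄R]) :
    ∃ v : Fin n → Ω[B⁄A], Submodule.span B (Set.range v) = ⊤ := by
  refine ⟨fun i => KaehlerDifferential.map R A B B (KaehlerDifferential.map R R S B (b i)), ?_⟩
  have h1 : Submodule.span B (KaehlerDifferential.map R R S B '' Set.range b) = ⊤ :=
    span_eq_top_of_isLocalizedModule B M (KaehlerDifferential.map R R S B) b.span_eq
  have h2 : (Set.range fun i => KaehlerDifferential.map R A B B
      (KaehlerDifferential.map R R S B (b i))) =
      KaehlerDifferential.map R A B B '' (KaehlerDifferential.map R R S B '' Set.range b) := by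
    rw [← Set.range_comp, ← Set.range_comp]; rfl
  rw [h2, ← Submodule.map_span, h1, Submodule.map_top, LinearMap.range_eq_top]
  exact KaehlerDifferential.map_surjective R A B

end loc

end Groth.Agent.Lib.R2LeadCotOmA
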