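import Mathlib
import Groth.Prelude.Def_FixPt
import Groth.Agent.Lib.Helper5TfaeCMReg
import Groth.Agent.Lib.Helper5RLR3
import Groth.Agent.Lib.Helper5FibSmConstr
import Groth.Agent.Lib.Helper6SmRegSch3
import Groth.Agent.Lib.Helper8ClImm
import Groth.Agent.Lib.Helper3SmDim
import Groth.Agent.Lib.R2LeadDiagRegB
import Groth.Agent.Lib.R2LeadCotSmA

set_option autoImplicit false
universe u
open CategoryTheory CategoryTheory.Limits AlgebraicGeometry IsLocalRing

namespace Groth.Agent.Lib.R2LeadCotSmB

open Groth.Agent.Lib.R2LeadCotSmA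

section cot

variable {X Y : Scheme.{u}} (f : X ⟶ Y) (x : X)

theorem hloc : maximalIdeal (Y.presheaf.stalk (f x)) ≤
    (maximalIdeal (X.presheaf.stalk x)).comap (f.stalkMap x).hom :=
  (IsLocalRing.maximalIdeal_comap (f.stalkMap x).hom).ge

theorem stalkMapAt_rfl : FixPt.stalkMapAt f x (f x) rfl = (f.stalkMap x).hom := by
  unfold FixPt.stalkMapAt
  have h : (Y.presheaf.stalkCongr (Inseparable.of_eq (rfl : f x = f x))).inv = 𝟙 _ := by
    rw [TopCat.Presheaf.stalkCongr_inv]
    exact TopCat.Presheaf.stalkSpecializes_refl _ _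
  rw [h, Category.id_comp]

theorem cot_congr {A B : Type u} [CommRing A] [CommRing B] [IsLocalRing A] [IsLocalRing B]
    {φ ψ : A →+* B} (h : φ = ψ) (hφ : maximalIdeal A ≤ (maximalIdeal B).comap φ)
    (hψ : maximalIdeal A ≤ (maximalIdeal B).comap ψ) : cot φ hφ = cot ψ hψ := by
  subst h; rfl

theorem cotangentMapAt_eq :
    FixPt.cotangentMapAt f x (f x) rfl = cot (f.stalkMap x).hom (hloc f x) :=
  cot_congr (stalkMapAt_rfl f x) _ _

end cot

section geom

variable (k : Type u) [Field k] [IsAlgClosed k] {X Y : Scheme.{u}}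
  (qX : X ⟶ Spec (CommRingCat.of k)) (qY : Y ⟶ Spec (CommRingCat.of k))
  [LocallyOfFiniteType qX] [LocallyOfFiniteType qY]

include qY in
theorem perfectField_residueField (y : Y) (hy : IsClosed ({y} : Set Y)) :
    PerfectField (Y.residueField y) := by
  have hfin : IsFinite (Y.fromSpecResidueField y ≫ qY) := by
    rw [isClosed_singleton_iff_isClosedImmersion] at hy
    rw [isFinite_iff_locallyOfFiniteType_of_jacobsonSpace]
    infer_instance
  obtain ⟨φ, hφ⟩ : ∃ φ : CommRingCat.of k ⟶ Y.residueField y,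
      Spec.map φ = Y.fromSpecResidueField y ≫ qY := ⟨Spec.preimage _, Spec.map_preimage _⟩
  have hint : φ.hom.IsIntegral := by
    rw [← IsIntegralHom.SpecMap_iff, hφ]; infer_instance
  have hbij : Function.Bijective φ.hom := IsAlgClosed.ringHom_bijective_of_isIntegral φ.hom hint
  let e : k ≃+* Y.residueField y := RingEquiv.ofBijective φ.hom hbij
  haveI : IsAlgClosed (Y.residueField y) := IsAlgClosed.of_ringEquiv k _ e
  infer_instance


theorem isRegular_stalk [Smooth qX] (x : X) : IsRegularLocalRing (X.presheaf.stalk x) := by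
  rw [← Groth.Agent.Lib.Helper6.SmRegSch3.mem_smoothLocus_iff_isRegularLocalRing k X qX x,
    qX.smoothLocus_eq_top]
  trivial

variable [Smooth qX] [Smooth qY] [IrreducibleSpace X] [IrreducibleSpace Y]
  (f : X ⟶ Y) (hf : f ≫ qY = qX)

include hf in
theorem lft_f : LocallyOfFiniteType f := by
  haveI : LocallyOfFiniteType (f ≫ qY) := by rw [hf]; infer_instance
  exact locallyOfFiniteType_of_comp f qY

include hf in
theorem isClosed_map (x : X) (hx : IsClosed ({x} : Set X)) : IsClosed ({f x} : Set Y) := by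
  haveI := lft_f k qX qY f hf
  haveI : JacobsonSpace Y := LocallyOfFiniteType.jacobsonSpace qY
  exact f.closePoints_subset_preimage_closedPoints hx

include hf in
theorem residue_surj (x : X) (hx : IsClosed ({x} : Set X)) (b : X.presheaf.stalk x) :
    ∃ a : Y.presheaf.stalk (f x), b - (f.stalkMap x).hom a ∈ maximalIdeal (X.presheaf.stalk x) := by
  haveI : LocallyOfFiniteType (f ≫ qY) := by rw [hf]; infer_instance
  have hbij := Groth.Agent.Lib.Helper8ClImm.residueFieldMap_bijective k f qY x hx
    (isClosed_map k qX qY f hf x hx)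
  obtain ⟨c, hc⟩ := hbij.2 (X.residue x b)
  obtain ⟨a, rfl⟩ := IsLocalRing.residue_surjective c
  refine ⟨a, ?_⟩
  have h1 := congr(($(Scheme.residue_residueFieldMap f x)).hom a)
  rw [CommRingCat.comp_apply, CommRingCat.comp_apply] at h1
  rw [← IsLocalRing.residue_eq_zero_iff, map_sub, sub_eq_zero]
  exact hc.symm.trans h1

/-- the local ring of the fibre at a point. -/
noncomputable abbrev fibStalk (x : X) : CommRingCat := (f.fiber (f x)).presheaf.stalk (f.asFiber x)

include hf in
/-- at a closed point: injectivity of the cotangent map iff the fibre is regular of dimension `n`. -/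
theorem injective_cot_iff (n dY : ℕ) (hY : topologicalKrullDim Y = dY)
    (hX : topologicalKrullDim X = ((dY + n : ℕ) : WithBot ℕ∞)) (x : X)
    (hx : IsClosed ({x} : Set X)) :
    Function.Injective (cot (f.stalkMap x).hom (hloc f x)) ↔
      (IsRegularLocalRing (fibStalk f x) ∧ ringKrullDim (fibStalk f x) = n) := by
  have hy := isClosed_map k qX qY f hf x hx
  haveI := isRegular_stalk k qX x
  haveI := isRegular_stalk k qY (f x)
  have hdX := Groth.Agent.Lib.R2LeadDiagRegB.dim_stalk_closed k qX (dY + n) hX x hx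
  have hdY := Groth.Agent.Lib.R2LeadDiagRegB.dim_stalk_closed k qY dY hY (f x) hy
  obtain ⟨e⟩ := Groth.Agent.Lib.Helper5.FiberStalk.nonempty_stalk_asFiber_equiv f x
  haveI : IsLocalRing (X.presheaf.stalk x ⧸
      (maximalIdeal (Y.presheaf.stalk (f x))).map (f.stalkMap x).hom) :=
    Groth.Agent.Lib.Helper5.isLocalRing_quotient
      (Groth.Agent.Lib.Helper5.FiberStalk.fibIdeal_ne_top f x)
  constructor
  · intro hinj
    obtain ⟨h1, h2⟩ := regular_fibre_of_injective_cot (f.stalkMap x).hom (hloc f x)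
      (residue_surj k qX qY f hf x hx) hinj
    refine ⟨IsRegularLocalRing.of_ringEquiv e.symm, ?_⟩
    rw [ringKrullDim_eq_of_ringEquiv e]
    rw [hdX, hdY] at h2
    have h3 : ringKrullDim (X.presheaf.stalk x ⧸
        (maximalIdeal (Y.presheaf.stalk (f x))).map (f.stalkMap x).hom) + (dY : WithBot ℕ∞) =
        (n : WithBot ℕ∞) + (dY : WithBot ℕ∞) := by
      rw [h2]; push_cast; ring
    exact Groth.Agent.Lib.Helper4.DimFormula.withBot_enat_add_nat_cancel dY h3
  · rintro ⟨h1, h2⟩
    haveI : IsRegularLocalRing (X.presheaf.stalk x ⧸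
        (maximalIdeal (Y.presheaf.stalk (f x))).map (f.stalkMap x).hom) :=
      IsRegularLocalRing.of_ringEquiv e
    refine injective_cot_of_regular_fibre (f.stalkMap x).hom (hloc f x) ?_
    rw [← ringKrullDim_eq_of_ringEquiv e, h2, hdX, hdY]
    push_cast; ring


include hf in
/-- at a closed point with injective cotangent map, `f` is smooth. -/
theorem formallySmooth_of_injective (n dY : ℕ) (hY : topologicalKrullDim Y = dY)
    (hX : topologicalKrullDim X = ((dY + n : ℕ) : WithBot ℕ∞)) (x : X)
    (hx : IsClosed ({x} : Set X))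
    (hinj : Function.Injective (cot (f.stalkMap x).hom (hloc f x))) :
    (f.stalkMap x).hom.FormallySmooth := by
  obtain ⟨hreg, hdim⟩ := (injective_cot_iff k qX qY f hf n dY hY hX x hx).mp hinj
  have hy := isClosed_map k qX qY f hf x hx
  haveI := lft_f k qX qY f hf
  haveI : IsLocallyNoetherian Y := LocallyOfFiniteType.isLocallyNoetherian qY
  haveI : LocallyOfFinitePresentation f :=
    LocallyOfFinitePresentation.iff_locallyOfFiniteType.mpr inferInstance
  have hregY := isRegular_stalk k qY (f x)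
  haveI hregX := isRegular_stalk k qX x
  have hdX := Groth.Agent.Lib.R2LeadDiagRegB.dim_stalk_closed k qX (dY + n) hX x hx
  have hdY := Groth.Agent.Lib.R2LeadDiagRegB.dim_stalk_closed k qY dY hY (f x) hy
  have hCM : LocCoh.IsCohenMacaulayLocalRing (X.presheaf.stalk x) :=
    Groth.Agent.Lib.Helper5.isCohenMacaulayLocalRing_of_isRegularLocalRing _
  have hflat : (f.stalkMap x).hom.Flat :=
    ((Groth.Agent.Lib.Helper5.TfaeCMReg.tfae f x hregY hCM).out 4 1).mp (by
      rw [hdX, hdY, hdim]; push_cast; rfl)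
  haveI := perfectField_residueField k qY (f x) hy
  have hsm : f.asFiber x ∈ (f.fiberToSpecResidueField (f x)).smoothLocus :=
    (Groth.Agent.Lib.Helper6.SmRegSch3.mem_smoothLocus_iff_isRegularLocalRing
      (Y.residueField (f x)) (f.fiber (f x)) (f.fiberToSpecResidueField (f x))
      (f.asFiber x)).mpr hreg
  exact (Groth.Agent.Lib.Helper5.FibSmConstr.mem_lsm_iff_of_flat f x hflat).mp hsm


include hf in
theorem smooth_of_injective (n dY : ℕ) (hY : topologicalKrullDim Y = dY)
    (hX : topologicalKrullDim X = ((dY + n : ℕ) : WithBot ℕ∞))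
    (hT : ∀ x : X, IsClosed ({x} : Set X) →
      Function.Injective (cot (f.stalkMap x).hom (hloc f x))) :
    SmoothOfRelativeDimension n f := by
  haveI := lft_f k qX qY f hf
  haveI : IsLocallyNoetherian Y := LocallyOfFiniteType.isLocallyNoetherian qY
  haveI : LocallyOfFinitePresentation f :=
    LocallyOfFinitePresentation.iff_locallyOfFiniteType.mpr inferInstance
  haveI : JacobsonSpace X := LocallyOfFiniteType.jacobsonSpace qX
  haveI hsm : Smooth f := by
    rw [← Scheme.Hom.smoothLocus_eq_top_iff]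
    by_contra hne
    have hne' : ((f.smoothLocus : Set X)ᶜ).Nonempty := by
      rw [Set.nonempty_compl]
      intro h
      apply hne
      ext1
      exact h
    obtain ⟨x, hx1, hx2⟩ := nonempty_inter_closedPoints hne'
      f.smoothLocus.2.isClosed_compl.isLocallyClosed
    exact hx1 (formallySmooth_of_injective k qX qY f hf n dY hY hX x hx2 (hT x hx2))
  refine ⟨fun x0 => ?_⟩
  obtain ⟨U, hU, V, hV, hx0, e, hstd⟩ := Smooth.exists_isStandardSmooth f x0
  obtain ⟨m, hm⟩ := Groth.Agent.Lib.Helper3.SmDim.exists_relDim_of_isStandardSmooth _ hstd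
  obtain ⟨x, hxV, hxc⟩ := nonempty_inter_closedPoints (Z := (V : Set X)) ⟨x0, hx0⟩
    V.2.isLocallyClosed
  have h1 := Groth.Agent.Lib.Helper3.SmDim.fibreDimAt_eq_of_chart f m x hU hV hxV e hm
  have h2 := Groth.Agent.Lib.Helper4.DimFormula.fibreDimAt_eq_stalk_add_ptTrdeg f x
  rw [Groth.Agent.Lib.Helper4.DimFormula.ptTrdeg_eq_zero_of_isClosed f x hxc] at h2
  obtain ⟨-, hdim⟩ := (injective_cot_iff k qX qY f hf n dY hY hX x hxc).mp (hT x hxc)
  have h3 : (m : WithBot ℕ∞) = n := by
    rw [← h1, h2]
    change ringKrullDim (fibStalk f x) + _ = _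
    rw [hdim]
    simp
  have hmn : m = n := by exact_mod_cast h3
  subst hmn
  exact ⟨U, hU, V, hV, hx0, e, hm⟩

include hf in
theorem injective_of_smooth (n dY : ℕ) (hY : topologicalKrullDim Y = dY)
    (hX : topologicalKrullDim X = ((dY + n : ℕ) : WithBot ℕ∞))
    [SmoothOfRelativeDimension n f] (x : X) (hx : IsClosed ({x} : Set X)) :
    Function.Injective (cot (f.stalkMap x).hom (hloc f x)) := by
  rw [injective_cot_iff k qX qY f hf n dY hY hX x hx]
  haveI : Smooth f := SmoothOfRelativeDimension.smooth n f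
  have hy := isClosed_map k qX qY f hf x hx
  haveI := lft_f k qX qY f hf
  have hflat : (f.stalkMap x).hom.Flat := Flat.stalkMap f x
  have hfs : (f.stalkMap x).hom.FormallySmooth := by
    have : x ∈ f.smoothLocus := by rw [f.smoothLocus_eq_top]; trivial
    exact this
  have hsm : f.asFiber x ∈ (f.fiberToSpecResidueField (f x)).smoothLocus :=
    (Groth.Agent.Lib.Helper5.FibSmConstr.mem_lsm_iff_of_flat f x hflat).mpr hfs
  haveI := perfectField_residueField k qY (f x) hy
  have hreg := (Groth.Agent.Lib.Helper6.SmRegSch3.mem_smoothLocus_iff_isRegularLocalRing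
      (Y.residueField (f x)) (f.fiber (f x)) (f.fiberToSpecResidueField (f x))
      (f.asFiber x)).mp hsm
  refine ⟨hreg, ?_⟩
  have h1 := Groth.Agent.Lib.Helper3.SmDim.fibreDimAt_eq_of_smoothOfRelativeDimension n f x
  have h2 := Groth.Agent.Lib.Helper4.DimFormula.fibreDimAt_eq_stalk_add_ptTrdeg f x
  rw [Groth.Agent.Lib.Helper4.DimFormula.ptTrdeg_eq_zero_of_isClosed f x hx, h1] at h2
  change _ = ringKrullDim (fibStalk f x) + _ at h2
  simpa using h2.symm

end geom

end Groth.Agent.Lib.R2LeadCotSmB
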