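import Mathlib
import Groth.Prelude.Def_FixPt
import Groth.Agent.Lib.R2H3SmPure
import Groth.Agent.Lib.R2LeadCotSmB

set_option autoImplicit false
universe u
open CategoryTheory CategoryTheory.Limits AlgebraicGeometry IsLocalRing

namespace Groth.Agent.Lib.R2LeadCotSmC

open Groth.Agent.Lib.R2LeadCotSmA Groth.Agent.Lib.R2LeadCotSmB

variable (k : Type u) [Field k] [IsAlgClosed k] {X Y : Scheme.{u}}
  (qX : X ⟶ Spec (CommRingCat.of k)) (qY : Y ⟶ Spec (CommRingCat.of k))
  [LocallyOfFiniteType qX] [LocallyOfFiniteType qY] [Smooth qX] [Smooth qY]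
  [IrreducibleSpace X] [IrreducibleSpace Y] (f : X ⟶ Y) (hf : f ≫ qY = qX)

include hf in
theorem le_of_injective (dX dY : ℕ) (hX : topologicalKrullDim X = dX)
    (hY : topologicalKrullDim Y = dY) (x : X) (hx : IsClosed ({x} : Set X))
    (hinj : Function.Injective (cot (f.stalkMap x).hom (hloc f x))) : dY ≤ dX := by
  have hy := isClosed_map k qX qY f hf x hx
  haveI := isRegular_stalk k qX x
  haveI := isRegular_stalk k qY (f x)
  have hdX := Groth.Agent.Lib.R2LeadDiagRegB.dim_stalk_closed k qX dX hX x hx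
  have hdY := Groth.Agent.Lib.R2LeadDiagRegB.dim_stalk_closed k qY dY hY (f x) hy
  haveI : IsLocalRing (X.presheaf.stalk x ⧸
      (maximalIdeal (Y.presheaf.stalk (f x))).map (f.stalkMap x).hom) :=
    Groth.Agent.Lib.Helper5.isLocalRing_quotient
      (Groth.Agent.Lib.Helper5.FiberStalk.fibIdeal_ne_top f x)
  obtain ⟨-, h2⟩ := regular_fibre_of_injective_cot (f.stalkMap x).hom (hloc f x)
    (residue_surj k qX qY f hf x hx) hinj
  rw [hdX, hdY] at h2
  have h3 : (0 : WithBot ℕ∞) ≤ ringKrullDim (X.presheaf.stalk x ⧸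
      (maximalIdeal (Y.presheaf.stalk (f x))).map (f.stalkMap x).hom) :=
    ringKrullDim_nonneg_of_nontrivial
  have h4 : ((dY : ℕ) : WithBot ℕ∞) ≤ dX := by
    calc ((dY : ℕ) : WithBot ℕ∞) = 0 + dY := (zero_add _).symm
      _ ≤ _ + dY := add_le_add_left h3 _
      _ = dX := h2
  exact_mod_cast h4

include hf in
theorem main10936 (n dY : ℕ) (hY : topologicalKrullDim ↥Y = dY)
    (hX : topologicalKrullDim ↥X = ((dY + n : ℕ) : WithBot ℕ∞)) :
    SmoothOfRelativeDimension n f ↔
      ∀ x : X, IsClosed ({x} : Set ↥X) →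
        Function.Injective (FixPt.cotangentMapAt f x (f.base x) rfl) := by
  constructor
  · intro h x hx
    rw [show FixPt.cotangentMapAt f x (f.base x) rfl = _ from cotangentMapAt_eq f x]
    exact injective_of_smooth k qX qY f hf n dY hY hX x hx
  · intro hT
    refine smooth_of_injective k qX qY f hf n dY hY hX fun x hx => ?_
    rw [← cotangentMapAt_eq f x]
    exact hT x hx

include hf in
theorem main19460 [Nonempty X] (dX dY : ℕ) (hX : topologicalKrullDim ↥X = dX)
    (hY : topologicalKrullDim ↥Y = dY)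
    (hT : ∀ x : X, IsClosed ({x} : Set ↥X) →
      Function.Injective (FixPt.cotangentMapAt f x (f.base x) rfl)) :
    DenseRange f.base ∧ dY ≤ dX ∧
      ∀ y : Y, IsClosed ({y} : Set ↥Y) → y ∈ Set.range f.base →
        Smooth (f.fiberToSpecResidueField y) ∧
          ∀ Z ∈ irreducibleComponents ↥(f.fiber y),
            topologicalKrullDim ↥Z = ((dX - dY : ℕ) : WithBot ℕ∞) := by
  have hT' : ∀ x : X, IsClosed ({x} : Set ↥X) →
      Function.Injective (cot (f.stalkMap x).hom (hloc f x)) := fun x hx => by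
    rw [← cotangentMapAt_eq f x]
    exact hT x hx
  haveI : JacobsonSpace X := LocallyOfFiniteType.jacobsonSpace qX
  obtain ⟨x₀, -, hx₀⟩ := nonempty_inter_closedPoints (X := X) (Z := Set.univ) Set.univ_nonempty
    isOpen_univ.isLocallyClosed
  have hle : dY ≤ dX := le_of_injective k qX qY f hf dX dY hX hY x₀ hx₀ (hT' x₀ hx₀)
  have hX' : topologicalKrullDim ↥X = ((dY + (dX - dY) : ℕ) : WithBot ℕ∞) := by
    rw [hX, Nat.add_sub_cancel' hle]
  haveI hsm : SmoothOfRelativeDimension (dX - dY) f :=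
    smooth_of_injective k qX qY f hf (dX - dY) dY hY hX' hT'
  haveI : Smooth f := SmoothOfRelativeDimension.smooth (dX - dY) f
  refine ⟨?_, hle, fun y _ _ => ⟨?_, ?_⟩⟩
  · have hopen : IsOpen (Set.range f.base) := f.isOpenMap.isOpen_range
    exact hopen.dense (Set.range_nonempty _)
  · exact inferInstanceAs (Smooth (pullback.snd f (Y.fromSpecResidueField y)))
  · letI : (f.fiber y).Over (Spec (CommRingCat.of (Y.residueField y))) :=
      ⟨f.fiberToSpecResidueField y⟩
    haveI : SmoothOfRelativeDimension (dX - dY)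
        ((f.fiber y) ↘ Spec (CommRingCat.of (Y.residueField y))) :=
      haveI := smoothOfRelativeDimension_isStableUnderBaseChange (dX - dY)
      MorphismProperty.pullback_snd (P := @SmoothOfRelativeDimension (dX - dY)) _ _ hsm
    exact Groth.Agent.Lib.R2H3.SmPure.pure_of_smoothOfRelativeDimension (Y.residueField y)
      (dX - dY) (f.fiber y)

end Groth.Agent.Lib.R2LeadCotSmC
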