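import Mathlib
import Groth.Agent.Lib.R2LeadCotSmC
import Groth.Agent.Lib.Helper18Dbl2
import Groth.Agent.Lib.Helper8CanonFib2
import Groth.Agent.Lib.R2LeadCotOmA

set_option autoImplicit false
set_option linter.style.haveILetI false
universe u
open CategoryTheory CategoryTheory.Limits AlgebraicGeometry IsLocalRing TopologicalSpace

namespace Groth.Agent.Lib.R2LeadCotOmB

open Groth.Agent.Lib.R2LeadCotSmA Groth.Agent.Lib.R2LeadCotSmB Groth.Agent.Lib.R2LeadCotOmA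
open Groth.Agent.Lib.Helper20.Thickening Groth.Agent.Lib.Helper20.PullbackAff
  Groth.Agent.Lib.Helper20.OmegaQCoh

section chart

variable {X Y : Scheme.{u}} (f : X ⟶ Y)

/-- sections of `Ω_f` over an affine chart. -/
noncomputable def omegaΓIso [QuasiSeparated f] {U : X.Opens} (hU : IsAffineOpen U)
    {V : Y.Opens} (hV : IsAffineOpen V) (h : U ≤ f ⁻¹ᵁ V) :
    letI := (f.appLE V U h).hom.toAlgebra
    (ΓUF hU).obj (Omega.sheaf f) ≅ ModuleCat.of Γ(X, U) (Ω[Γ(X, U)⁄Γ(Y, V)]) :=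
  letI := (f.appLE V U h).hom.toAlgebra
  moduleSpecΓFunctor.mapIso (omegaRestrictIso' f hU hV h) ≪≫
    ((tilde.toTildeΓNatIso (R := Γ(X, U))).app _).symm

theorem exists_chart_basis [QuasiSeparated f] (n : ℕ)
    (hΩ : FlatMod.IsFinLocFreeOfRank n (Omega.sheaf f)) (x : X) :
    ∃ (V : Y.Opens) (_ : IsAffineOpen V) (U : X.Opens) (hU : IsAffineOpen U) (_ : x ∈ U)
      (e : U ≤ f ⁻¹ᵁ V),
      letI := (f.appLE V U e).hom.toAlgebra
      Nonempty (Module.Basis (Fin n) Γ(X, U) Ω[Γ(X, U)⁄Γ(Y, V)]) := by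
  obtain ⟨U₀, hxU₀, ⟨e₀⟩⟩ := hΩ x
  obtain ⟨V, hV, hfxV, -⟩ := exists_isAffineOpen_mem_and_subset (x := f x) (U := ⊤) trivial
  obtain ⟨W, hW, hxW, hWle, ⟨b⟩⟩ := Groth.Agent.Helper18Dbl.exists_affine_basis_le
    (Omega.sheaf f) U₀.ι e₀ ⟨x, hxU₀⟩ (f ⁻¹ᵁ V) hfxV
  refine ⟨V, hV, W, hW, hxW, hWle, ?_⟩
  letI := (f.appLE V W hWle).hom.toAlgebra
  exact ⟨(b.map (ΓUEquiv hW (Omega.sheaf f))).map (omegaΓIso f hW hV hWle).toLinearEquiv⟩

end chart

section geom

variable (k : Type u) [Field k] [IsAlgClosed k] {X Y : Scheme.{u}}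
  (qX : X ⟶ Spec (CommRingCat.of k)) (qY : Y ⟶ Spec (CommRingCat.of k))
  [LocallyOfFiniteType qX] [LocallyOfFiniteType qY]
  [Smooth qX] [Smooth qY] [IrreducibleSpace X] [IrreducibleSpace Y]
  (f : X ⟶ Y) (hf : f ≫ qY = qX)

include hf in
theorem injective_cot_of_chart_basis (n dY : ℕ) (hY : topologicalKrullDim Y = dY)
    (hX : topologicalKrullDim X = ((dY + n : ℕ) : WithBot ℕ∞)) (x : X)
    (hx : IsClosed ({x} : Set X))
    {V : Y.Opens} (hV : IsAffineOpen V) {U : X.Opens} (hU : IsAffineOpen U) (hxU : x ∈ U)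
    (e : U ≤ f ⁻¹ᵁ V)
    (b : letI := (f.appLE V U e).hom.toAlgebra
      Module.Basis (Fin n) Γ(X, U) Ω[Γ(X, U)⁄Γ(Y, V)]) :
    Function.Injective (cot (f.stalkMap x).hom (hloc f x)) := by
  letI algRS : Algebra Γ(Y, V) Γ(X, U) := (f.appLE V U e).hom.toAlgebra
  letI algSB : Algebra Γ(X, U) (X.presheaf.stalk x) := (X.presheaf.germ U x hxU).hom.toAlgebra
  letI algRA : Algebra Γ(Y, V) (Y.presheaf.stalk (f x)) :=
    (Y.presheaf.germ V (f x) (e hxU)).hom.toAlgebra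
  letI algAB : Algebra (Y.presheaf.stalk (f x)) (X.presheaf.stalk x) :=
    (f.stalkMap x).hom.toAlgebra
  letI algRB : Algebra Γ(Y, V) (X.presheaf.stalk x) :=
    ((algebraMap Γ(X, U) (X.presheaf.stalk x)).comp (algebraMap Γ(Y, V) Γ(X, U))).toAlgebra
  haveI : IsScalarTower Γ(Y, V) Γ(X, U) (X.presheaf.stalk x) :=
    IsScalarTower.of_algebraMap_eq (fun _ => rfl)
  haveI : IsScalarTower Γ(Y, V) (Y.presheaf.stalk (f x)) (X.presheaf.stalk x) := by
    refine IsScalarTower.of_algebraMap_eq (fun r => ?_)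
    change (X.presheaf.germ U x hxU).hom ((f.appLE V U e).hom r) =
      (f.stalkMap x).hom ((Y.presheaf.germ V (f x) (e hxU)).hom r)
    have h1 := Scheme.Hom.germ_stalkMap_apply f V x (e hxU) r
    rw [Scheme.Hom.appLE]
    erw [h1]
    rw [CommRingCat.comp_apply]
    exact (TopCat.Presheaf.germ_res_apply X.presheaf (homOfLE e) x hxU _)
  haveI : IsLocalization.AtPrime (X.presheaf.stalk x) (hU.primeIdealOf ⟨x, hxU⟩).asIdeal :=
    hU.isLocalization_stalk ⟨x, hxU⟩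
  obtain ⟨v, hv⟩ := exists_span_of_basis (A := Y.presheaf.stalk (f x)) (B := X.presheaf.stalk x)
    (hU.primeIdealOf ⟨x, hxU⟩).asIdeal.primeCompl b
  haveI := isRegular_stalk k qX x
  haveI := isRegular_stalk k qY (f x)
  have hy := isClosed_map k qX qY f hf x hx
  have hdX := Groth.Agent.Lib.R2LeadDiagRegB.dim_stalk_closed k qX (dY + n) hX x hx
  have hdY := Groth.Agent.Lib.R2LeadDiagRegB.dim_stalk_closed k qY dY hY (f x) hy
  refine injective_cot_of_span (A := Y.presheaf.stalk (f x)) (B := X.presheaf.stalk x)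
    (hloc f x) (residue_surj k qX qY f hf x hx) v hv ?_
  rw [hdX, hdY]
  push_cast
  rfl

include hf in
theorem main10937 [IsSeparated qX] (n dY : ℕ) (hY : topologicalKrullDim ↥Y = dY)
    (hX : topologicalKrullDim ↥X = ((dY + n : ℕ) : WithBot ℕ∞)) :
    SmoothOfRelativeDimension n f ↔ FlatMod.IsFinLocFreeOfRank n (Omega.sheaf f) := by
  haveI : IsSeparated f := by
    haveI : IsSeparated (f ≫ qY) := by rw [hf]; infer_instance
    exact IsSeparated.of_comp f qY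
  constructor
  · intro h
    exact Groth.Agent.Lib.Helper8CanonFib2.isFinLocFreeOfRank_omega f n
  · intro hΩ
    refine Groth.Agent.Lib.R2LeadCotSmB.smooth_of_injective k qX qY f hf n dY hY hX fun x hx => ?_
    obtain ⟨V, hV, U, hU, hxU, e, ⟨b⟩⟩ := exists_chart_basis f n hΩ x
    exact injective_cot_of_chart_basis k qX qY f hf n dY hY hX x hx hV hU hxU e b

end geom

end Groth.Agent.Lib.R2LeadCotOmB
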