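import Mathlib
import Groth.Agent.Lib.Helper28Hull2

/-! # Lifting determinantal presentations along small extensions: flatness lemmas -/

set_option autoImplicit false
universe u

namespace Groth.Agent.Lib.R2Lead.DefT

open Matrix

variable {C' A' : Type u} [CommRing C'] [CommRing A'] [Algebra C' A'] (J : Ideal C')

/-- `I' ∩ JA' = J I'` when `A'/I'` is flat over `C'`. -/
theorem mem_mul_of_flat_quot (I' : Ideal A') [Module.Flat C' (A' ⧸ I')] (y : A') (hy : y ∈ I')
    (hyJ : y ∈ J.map (algebraMap C' A')) : y ∈ J.map (algebraMap C' A') * I' := by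
  have h1 : (⟨y, hy⟩ : I') ∈ J • (⊤ : Submodule C' I') := by
    refine Groth.Agent.Lib.Helper28.mem_smul_top_of_exact_of_flat
      (I'.subtype.restrictScalars C') ((Submodule.mkQ I').restrictScalars C')
      (Submodule.injective_subtype I') (Submodule.mkQ_surjective I') ?_ J ⟨y, hy⟩ ?_
    · intro z
      show (Submodule.mkQ I') z = 0 ↔ z ∈ Set.range (I'.subtype)
      rw [Submodule.mkQ_apply, Submodule.Quotient.mk_eq_zero]
      constructor
      · intro hz
        exact ⟨⟨z, hz⟩, rfl⟩
      · rintro ⟨w, rfl⟩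
        exact w.2
    · show y ∈ J • (⊤ : Submodule C' A')
      rw [Ideal.smul_top_eq_map]
      exact hyJ
  have h2 : y ∈ (J • (⊤ : Submodule C' I')).map (I'.subtype.restrictScalars C') :=
    ⟨⟨y, hy⟩, h1, rfl⟩
  rw [Submodule.map_smul'', Submodule.map_top] at h2
  have h3 : LinearMap.range (I'.subtype.restrictScalars C') = I'.restrictScalars C' := by
    ext z
    constructor
    · rintro ⟨w, rfl⟩
      exact w.2
    · intro hz
      exact ⟨⟨z, hz⟩, rfl⟩
  rw [h3, ← Ideal.smul_restrictScalars] at h2
  exact h2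

end Groth.Agent.Lib.R2Lead.DefT
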