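import Mathlib
import Groth.Agent.Lib.R2LeadDefT1
import Groth.Agent.Lib.Helper1Tor

/-! # Lifting determinantal presentations along small extensions: kernels -/

set_option autoImplicit false
universe u

namespace Groth.Agent.Lib.R2Lead.DefT

open Matrix

variable {C' A' : Type u} [CommRing C'] [CommRing A'] [Algebra C' A'] (J : Ideal C')

theorem mem_smul_top_pi {n : ℕ} (x : Fin n → A')
    (hxJ : ∀ i, x i ∈ J.map (algebraMap C' A')) :
    x ∈ J • (⊤ : Submodule C' (Fin n → A')) := by
  classical
  have hx : x = ∑ i, (LinearMap.single C' (fun _ : Fin n => A') i) (x i) := by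
    funext k
    simp [Finset.sum_apply, Pi.single_apply]
  rw [hx]
  refine Submodule.sum_mem _ (fun i _ => ?_)
  have h1 : x i ∈ J • (⊤ : Submodule C' A') := by
    rw [Ideal.smul_top_eq_map]
    exact hxJ i
  have h2 : (LinearMap.single C' (fun _ : Fin n => A') i) (x i) ∈
      (J • (⊤ : Submodule C' A')).map (LinearMap.single C' (fun _ : Fin n => A') i) :=
    ⟨_, h1, rfl⟩
  rw [Submodule.map_smul''] at h2
  exact Submodule.smul_mono le_rfl le_top h2

/-- `ker p ∩ J E = J ker p` when the target of the surjection `p` is flat over `C'`. -/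
theorem mem_smul_ker {n : ℕ} {G : Type u} [AddCommGroup G] [Module A' G] [Module C' G]
    [IsScalarTower C' A' G] [Module.Flat C' G]
    (p : (Fin n → A') →ₗ[A'] G) (hp : Function.Surjective p) (x : Fin n → A') (hx : p x = 0)
    (hxJ : ∀ i, x i ∈ J.map (algebraMap C' A')) :
    x ∈ J.map (algebraMap C' A') • LinearMap.ker p := by
  set K : Submodule A' (Fin n → A') := LinearMap.ker p with hK
  have h1 : (⟨x, hx⟩ : K.restrictScalars C') ∈ J • (⊤ : Submodule C' (K.restrictScalars C')) := by
    refine Groth.Agent.Lib.Helper28.mem_smul_top_of_exact_of_flat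
      ((K.restrictScalars C').subtype) (p.restrictScalars C')
      (Submodule.injective_subtype _) hp ?_ J ⟨x, hx⟩ ?_
    · intro z
      show p z = 0 ↔ z ∈ Set.range ((K.restrictScalars C').subtype)
      constructor
      · intro hz
        exact ⟨⟨z, hz⟩, rfl⟩
      · rintro ⟨w, rfl⟩
        exact w.2
    · exact mem_smul_top_pi J x hxJ
  have h2 : x ∈ (J • (⊤ : Submodule C' (K.restrictScalars C'))).map
      ((K.restrictScalars C').subtype) := ⟨⟨x, hx⟩, h1, rfl⟩
  rw [Submodule.map_smul'', Submodule.map_top, Submodule.range_subtype,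
    ← Ideal.smul_restrictScalars] at h2
  exact h2

/-- `I'` is flat over `C'` when `A'` and `A'/I'` are. -/
theorem flat_ideal [Module.Flat C' A'] (I' : Ideal A') [Module.Flat C' (A' ⧸ I')] :
    Module.Flat C' I' := by
  refine Groth.Agent.Lib.Helper1.Tor.flat_ker (R := C')
    (I'.subtype.restrictScalars C') ((Submodule.mkQ I').restrictScalars C')
    (Submodule.injective_subtype I') (Submodule.mkQ_surjective I') ?_
  intro z
  show (Submodule.mkQ I') z = 0 ↔ z ∈ Set.range (I'.subtype)
  rw [Submodule.mkQ_apply, Submodule.Quotient.mk_eq_zero]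
  constructor
  · intro hz
    exact ⟨⟨z, hz⟩, rfl⟩
  · rintro ⟨w, rfl⟩
    exact w.2

/-- kernel of a surjection from a free module onto a flat module is flat -/
theorem flat_ker_pi [Module.Flat C' A'] {n : ℕ} {G : Type u} [AddCommGroup G] [Module A' G]
    [Module C' G] [IsScalarTower C' A' G] [Module.Flat C' G]
    (p : (Fin n → A') →ₗ[A'] G) (hp : Function.Surjective p) :
    Module.Flat C' (LinearMap.ker p) := by
  haveI : Module.Flat C' (Fin n → A') := Module.Flat.trans C' A' (Fin n → A')
  refine Groth.Agent.Lib.Helper1.Tor.flat_ker (R := C')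
    ((LinearMap.ker p).subtype.restrictScalars C') (p.restrictScalars C')
    (Submodule.injective_subtype _) hp ?_
  intro z
  show p z = 0 ↔ z ∈ Set.range ((LinearMap.ker p).subtype)
  constructor
  · intro hz
    exact ⟨⟨z, hz⟩, rfl⟩
  · rintro ⟨w, rfl⟩
    exact w.2

end Groth.Agent.Lib.R2Lead.DefT
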