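import Mathlib
import Groth.Agent.Lib.R2LeadDefT2
import Groth.Agent.Lib.Helper13HBurch
import Groth.Agent.Lib.Helper13McCoy
import Groth.Agent.Lib.R2LeadBE1
import Groth.Agent.S12907

/-! # Lifting determinantal presentations along small extensions: main -/

set_option autoImplicit false
universe u

namespace Groth.Agent.Lib.R2Lead.DefT

open Matrix

/-- signed maximal minors -/
noncomputable def sm {R : Type u} [CommRing R] {r : ℕ} (φ : Matrix (Fin (r + 1)) (Fin r) R)
    (i : Fin (r + 1)) : R :=
  (-1 : R) ^ (i : ℕ) * (φ.submatrix i.succAbove id).det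

theorem span_sm {R : Type u} [CommRing R] {r : ℕ} (φ : Matrix (Fin (r + 1)) (Fin r) R) :
    Ideal.span (Set.range (sm φ)) = CAlgX.minorIdeal φ r := by
  have h := Groth.Agent.Helper13HBurch.range_δ φ (1 : R) (one_mem _)
  rw [Fintype.range_linearCombination, Ideal.span_singleton_one, Ideal.top_mul] at h
  rw [← h]
  congr 2
  funext i
  simp [sm]

theorem sm_map {R T : Type u} [CommRing R] [CommRing T] (g : R →+* T) {r : ℕ}
    (φ : Matrix (Fin (r + 1)) (Fin r) R) (i : Fin (r + 1)) :
    sm (φ.map g) i = g (sm φ i) := by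
  unfold sm
  rw [map_mul, map_pow, map_neg, map_one, RingHom.map_det]
  rfl

end Groth.Agent.Lib.R2Lead.DefT
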