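import Mathlib
import Groth.Agent.Lib.R2LeadDefT3

/-! # Lifting determinantal presentations along small extensions: main -/

set_option autoImplicit false
universe u

namespace Groth.Agent.Lib.R2Lead.DefT

open Matrix

variable {C' A' : Type u} [CommRing C'] [CommRing A'] [Algebra C' A'] (J : Ideal C')

/-- Step 1–3: lifts of the generators and of the relations. -/
theorem exists_lift_rel (hJ2 : J * J = ⊥) (r : ℕ)
    (φ : Matrix (Fin (r + 1)) (Fin r) (A' ⧸ J.map (algebraMap C' A')))
    (hφ : LinearMap.range φ.mulVecLin ≤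
      LinearMap.ker (Fintype.linearCombination (A' ⧸ J.map (algebraMap C' A')) (sm φ)))
    (I' : Ideal A') [Module.Flat C' (A' ⧸ I')]
    (hI' : I'.map (Ideal.Quotient.mk (J.map (algebraMap C' A'))) = Ideal.span (Set.range (sm φ))) :
    ∃ (f' : Fin (r + 1) → A') (φ' : Matrix (Fin (r + 1)) (Fin r) A'),
      (∀ i, Ideal.Quotient.mk (J.map (algebraMap C' A')) (f' i) = sm φ i) ∧
      I' = Ideal.span (Set.range f') ∧
      φ'.map (Ideal.Quotient.mk (J.map (algebraMap C' A'))) = φ ∧
      ∀ j, ∑ i, f' i * φ' i j = 0 := by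
  classical
  set mk := Ideal.Quotient.mk (J.map (algebraMap C' A')) with hmk
  have hmks : Function.Surjective mk := Ideal.Quotient.mk_surjective
  have h𝔍2 : ∀ a b : A', a ∈ J.map (algebraMap C' A') → b ∈ J.map (algebraMap C' A') →
      a * b = 0 := by
    intro a b ha hb
    have : a * b ∈ J.map (algebraMap C' A') * J.map (algebraMap C' A') := Ideal.mul_mem_mul ha hb
    rw [← Ideal.map_mul, hJ2, Ideal.map_bot] at this
    exact this
  -- (1)
  have h1 : ∀ i, ∃ y ∈ I', mk y = sm φ i := by
    intro i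
    have : sm φ i ∈ I'.map mk := by
      rw [hI']
      exact Ideal.subset_span ⟨i, rfl⟩
    exact (Ideal.mem_map_iff_of_surjective mk hmks).1 this
  choose f' hf'I hf' using h1
  -- (2)
  have hSle : Ideal.span (Set.range f') ≤ I' := by
    rw [Ideal.span_le]
    rintro _ ⟨i, rfl⟩
    exact hf'I i
  have hdec : ∀ y ∈ I', ∃ s ∈ Ideal.span (Set.range f'), y - s ∈ J.map (algebraMap C' A') := by
    intro y hy
    have : mk y ∈ Ideal.span (Set.range (sm φ)) := by
      rw [← hI']
      exact Ideal.mem_map_of_mem _ hy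
    rw [Ideal.mem_span_range_iff_exists_fun] at this
    obtain ⟨c, hc⟩ := this
    choose c' hc' using fun i => hmks (c i)
    refine ⟨∑ i, c' i * f' i, ?_, ?_⟩
    · exact Ideal.sum_mem _ (fun i _ => Ideal.mul_mem_left _ _ (Ideal.subset_span ⟨i, rfl⟩))
    · rw [← Ideal.Quotient.eq_zero_iff_mem, ← hmk, map_sub, map_sum, ← hc, sub_eq_zero]
      refine Finset.sum_congr rfl (fun i _ => ?_)
      rw [map_mul, hc', hf']
  have hmul : J.map (algebraMap C' A') * I' ≤ Ideal.span (Set.range f') := by
    rw [Ideal.mul_le]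
    intro a ha b hb
    obtain ⟨s, hs, hz⟩ := hdec b hb
    have : a * b = a * s := by
      have := h𝔍2 a (b - s) ha hz
      linear_combination this
    rw [this]
    exact Ideal.mul_mem_left _ _ hs
  have h2 : I' = Ideal.span (Set.range f') := by
    apply le_antisymm _ hSle
    intro y hy
    obtain ⟨s, hs, hz⟩ := hdec y hy
    have hzI : y - s ∈ I' := I'.sub_mem hy (hSle hs)
    have := hmul (mem_mul_of_flat_quot J I' (y - s) hzI hz)
    have h3 := Ideal.add_mem _ this hs
    rwa [sub_add_cancel] at h3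
  -- (3)
  choose ψ hψ using fun i j => hmks (φ i j)
  have hg : ∀ j, ∑ i, f' i * ψ i j ∈ J.map (algebraMap C' A') * Ideal.span (Set.range f') := by
    intro j
    rw [← h2]
    apply mem_mul_of_flat_quot J I'
    · exact Ideal.sum_mem _ (fun i _ => Ideal.mul_mem_right _ _ (hf'I i))
    · rw [← Ideal.Quotient.eq_zero_iff_mem, ← hmk, map_sum]
      have hcol : φ.mulVecLin (Pi.single j 1) ∈
          LinearMap.ker (Fintype.linearCombination (A' ⧸ J.map (algebraMap C' A')) (sm φ)) :=
        hφ ⟨_, rfl⟩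
      rw [LinearMap.mem_ker, Fintype.linearCombination_apply] at hcol
      rw [← hcol]
      refine Finset.sum_congr rfl (fun i _ => ?_)
      rw [map_mul, hf', hψ, Matrix.mulVecLin_apply, Matrix.mulVec_single_one, smul_eq_mul, mul_comm]
      rfl
  have hg' : ∀ j, ∃ c : Fin (r + 1) → A', (∀ i, c i ∈ J.map (algebraMap C' A')) ∧
      ∑ i, c i * f' i = ∑ i, f' i * ψ i j := by
    intro j
    have := hg j
    rw [← smul_eq_mul, Ideal.span, Submodule.mem_ideal_smul_span_iff_exists_sum] at this
    obtain ⟨a, ha, hsum⟩ := this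
    refine ⟨fun i => a i, ha, ?_⟩
    rw [← hsum, Finsupp.sum_fintype a (fun i c => c • f' i) (fun i => zero_smul _ _)]
    rfl
  choose c hcJ hc using hg'
  refine ⟨f', Matrix.of (fun i j => ψ i j - c j i), hf', h2, ?_, ?_⟩
  · ext i j
    rw [Matrix.map_apply, Matrix.of_apply, map_sub, hψ,
      Ideal.Quotient.eq_zero_iff_mem.2 (hcJ j i), sub_zero]
  · intro j
    simp only [Matrix.of_apply, mul_sub, Finset.sum_sub_distrib]
    rw [← hc j, sub_eq_zero]
    exact Finset.sum_congr rfl (fun i _ => mul_comm _ _)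

end Groth.Agent.Lib.R2Lead.DefT
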