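import Mathlib
import Groth.Agent.Lib.R2LeadDefT4

/-! # Lifting determinantal presentations along small extensions: exactness of the lift -/

set_option autoImplicit false
universe u

namespace Groth.Agent.Lib.R2Lead.DefT

open Matrix

variable {C' A' : Type u} [CommRing C'] [CommRing A'] [Algebra C' A'] (J : Ideal C')

/-- Step 4: exactness of the lifted complex. -/
theorem lift_exact (hJ2 : J * J = ⊥) [Module.Flat C' A'] (r : ℕ)
    (φ : Matrix (Fin (r + 1)) (Fin r) (A' ⧸ J.map (algebraMap C' A')))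
    (hφi : Function.Injective φ.mulVecLin)
    (hφ : LinearMap.range φ.mulVecLin =
      LinearMap.ker (Fintype.linearCombination (A' ⧸ J.map (algebraMap C' A')) (sm φ)))
    (I' : Ideal A') [Module.Flat C' (A' ⧸ I')]
    (f' : Fin (r + 1) → A') (φ' : Matrix (Fin (r + 1)) (Fin r) A')
    (hf' : ∀ i, Ideal.Quotient.mk (J.map (algebraMap C' A')) (f' i) = sm φ i)
    (h2 : I' = Ideal.span (Set.range f'))
    (hφ' : φ'.map (Ideal.Quotient.mk (J.map (algebraMap C' A'))) = φ)
    (hrel : ∀ j, ∑ i, f' i * φ' i j = 0) :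
    LinearMap.ker φ'.mulVecLin = ⊥ ∧
      LinearMap.ker (Fintype.linearCombination A' f') = LinearMap.range φ'.mulVecLin := by
  classical
  set mk := Ideal.Quotient.mk (J.map (algebraMap C' A')) with hmk
  have hmks : Function.Surjective mk := Ideal.Quotient.mk_surjective
  have h𝔍2 : ∀ a b : A', a ∈ J.map (algebraMap C' A') → b ∈ J.map (algebraMap C' A') →
      a * b = 0 := by
    intro a b ha hb
    have : a * b ∈ J.map (algebraMap C' A') * J.map (algebraMap C' A') := Ideal.mul_mem_mul ha hb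
    rw [← Ideal.map_mul, hJ2, Ideal.map_bot] at this
    exact this
  set π' := Fintype.linearCombination A' f' with hπ'
  have hrange : LinearMap.range φ'.mulVecLin ≤ LinearMap.ker π' := by
    rintro _ ⟨u, rfl⟩
    rw [LinearMap.mem_ker, hπ', Fintype.linearCombination_apply]
    simp only [Matrix.mulVecLin_apply, Matrix.mulVec, dotProduct, smul_eq_mul, Finset.sum_mul]
    rw [Finset.sum_comm]
    have : ∀ j, ∑ i, φ' i j * u j * f' i = u j * ∑ i, f' i * φ' i j := by
      intro j
      rw [Finset.mul_sum]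
      exact Finset.sum_congr rfl (fun i _ => by ring)
    simp only [this, hrel, mul_zero, Finset.sum_const_zero]
  -- reduction mod 𝔍
  have hmkφ : ∀ (u : Fin r → A') (i : Fin (r + 1)),
      mk (φ'.mulVec u i) = φ.mulVec (mk ∘ u) i := by
    intro u i
    rw [RingHom.map_mulVec, hφ']
  have hred : ∀ v ∈ LinearMap.ker π', ∃ u : Fin r → A',
      ∀ i, (v - φ'.mulVec u) i ∈ J.map (algebraMap C' A') := by
    intro v hv
    have h1 : (mk ∘ v) ∈
        LinearMap.ker (Fintype.linearCombination (A' ⧸ J.map (algebraMap C' A')) (sm φ)) := by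
      rw [LinearMap.mem_ker, Fintype.linearCombination_apply]
      rw [LinearMap.mem_ker, hπ', Fintype.linearCombination_apply] at hv
      have := congrArg mk hv
      rw [map_sum, map_zero] at this
      rw [← this]
      refine Finset.sum_congr rfl (fun i _ => ?_)
      rw [smul_eq_mul, smul_eq_mul, map_mul, hf']
      rfl
    rw [← hφ] at h1
    obtain ⟨ū, hū⟩ := h1
    choose u hu using fun j => hmks (ū j)
    refine ⟨u, fun i => ?_⟩
    rw [← Ideal.Quotient.eq_zero_iff_mem, ← hmk, Pi.sub_apply, map_sub, hmkφ]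
    have : mk ∘ u = ū := funext hu
    rw [this]
    have := congrFun hū i
    rw [Matrix.mulVecLin_apply] at this
    rw [this]
    simp
  have hredφ : ∀ u ∈ LinearMap.ker φ'.mulVecLin, ∀ j, u j ∈ J.map (algebraMap C' A') := by
    intro u hu j
    rw [LinearMap.mem_ker, Matrix.mulVecLin_apply] at hu
    have h1 : φ.mulVecLin (mk ∘ u) = 0 := by
      funext i
      rw [Matrix.mulVecLin_apply, ← hmkφ, hu]
      simp
    have h2 := hφi (h1.trans (map_zero _).symm)
    rw [← Ideal.Quotient.eq_zero_iff_mem]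
    exact congrFun h2 j
  -- the surjection onto `I'`
  haveI : Module.Flat C' I' := flat_ideal I'
  have hmem : ∀ v, π' v ∈ I' := by
    intro v
    rw [h2, hπ', Ideal.span, ← Fintype.range_linearCombination]
    exact ⟨v, rfl⟩
  set p₁ : (Fin (r + 1) → A') →ₗ[A'] I' := π'.codRestrict I' hmem with hp₁
  have hp₁s : Function.Surjective p₁ := by
    rintro ⟨y, hy⟩
    have : y ∈ LinearMap.range π' := by
      rw [hπ', Fintype.range_linearCombination]
      rw [h2] at hy
      exact hy
    obtain ⟨v, rfl⟩ := this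
    exact ⟨v, rfl⟩
  have hkp₁ : LinearMap.ker p₁ = LinearMap.ker π' := LinearMap.ker_codRestrict _ _ _
  have hker : LinearMap.ker π' ≤ LinearMap.range φ'.mulVecLin := by
    intro v hv
    obtain ⟨u, hu⟩ := hred v hv
    have hw : v - φ'.mulVec u ∈ LinearMap.ker π' :=
      (LinearMap.ker π').sub_mem hv (hrange ⟨u, rfl⟩)
    have hw1 : p₁ (v - φ'.mulVec u) = 0 := by
      rw [← LinearMap.mem_ker, hkp₁]
      exact hw
    have h3 := mem_smul_ker J p₁ hp₁s _ hw1 hu
    have h4 : v - φ'.mulVec u ∈ LinearMap.range φ'.mulVecLin := by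
      refine Submodule.smul_induction_on h3 ?_ (fun x y hx hy => Submodule.add_mem _ hx hy)
      intro a ha k hk
      rw [hkp₁] at hk
      obtain ⟨uk, huk⟩ := hred k hk
      refine ⟨a • uk, ?_⟩
      rw [map_smul, Matrix.mulVecLin_apply]
      funext i
      have := h𝔍2 a _ ha (huk i)
      simp only [Pi.smul_apply, Pi.sub_apply, smul_eq_mul] at this ⊢
      linear_combination -this
    have h5 := Submodule.add_mem _ h4 (⟨u, rfl⟩ : φ'.mulVec u ∈ LinearMap.range φ'.mulVecLin)
    rwa [sub_add_cancel] at h5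
  refine ⟨?_, le_antisymm hker hrange⟩
  -- injectivity
  haveI : Module.Flat C' (LinearMap.ker p₁) := flat_ker_pi p₁ hp₁s
  have hmem2 : ∀ u, φ'.mulVecLin u ∈ LinearMap.ker p₁ := by
    intro u
    rw [hkp₁]
    exact hrange ⟨u, rfl⟩
  set p₂ : (Fin r → A') →ₗ[A'] LinearMap.ker p₁ := φ'.mulVecLin.codRestrict _ hmem2 with hp₂
  have hp₂s : Function.Surjective p₂ := by
    rintro ⟨y, hy⟩
    rw [hkp₁] at hy
    obtain ⟨u, rfl⟩ := hker hy
    exact ⟨u, rfl⟩
  have hkp₂ : LinearMap.ker p₂ = LinearMap.ker φ'.mulVecLin := LinearMap.ker_codRestrict _ _ _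
  rw [eq_bot_iff]
  intro u hu
  have hu1 : p₂ u = 0 := by
    rw [← LinearMap.mem_ker, hkp₂]
    exact hu
  have h3 := mem_smul_ker J p₂ hp₂s u hu1 (hredφ u hu)
  rw [Submodule.mem_bot]
  refine Submodule.smul_induction_on h3 ?_ (fun x y hx hy => by rw [hx, hy, add_zero])
  intro a ha k hk
  rw [hkp₂] at hk
  funext j
  simp only [Pi.smul_apply, smul_eq_mul, Pi.zero_apply]
  exact h𝔍2 a _ ha (hredφ k hk j)

end Groth.Agent.Lib.R2Lead.DefT
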