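import Mathlib
import Groth.Agent.Lib.R2LeadDefT5

/-! # Lifting determinantal presentations along small extensions: conclusion -/

set_option autoImplicit false
universe u

namespace Groth.Agent.Lib.R2Lead.DefT

open Matrix

variable {C' A' : Type u} [CommRing C'] [CommRing A'] [Algebra C' A'] (J : Ideal C')

theorem main (hJ2 : J * J = ⊥) [Module.Flat C' A'] [IsNoetherianRing A'] (r : ℕ)
    (φ : Matrix (Fin (r + 1)) (Fin r) (A' ⧸ J.map (algebraMap C' A')))
    (hφi : Function.Injective φ.mulVecLin)
    (hφ : LinearMap.range φ.mulVecLin =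
      LinearMap.ker (Fintype.linearCombination (A' ⧸ J.map (algebraMap C' A')) (sm φ)))
    (I' : Ideal A') [Module.Flat C' (A' ⧸ I')]
    (hI' : I'.map (Ideal.Quotient.mk (J.map (algebraMap C' A'))) = Ideal.span (Set.range (sm φ))) :
    ∃ φ' : Matrix (Fin (r + 1)) (Fin r) A',
      φ'.map (Ideal.Quotient.mk (J.map (algebraMap C' A'))) = φ ∧
      I' = Ideal.span (Set.range (sm φ')) := by
  classical
  obtain ⟨f', φ', hf', h2, hφ', hrel⟩ := exists_lift_rel J hJ2 r φ hφ.le I' hI'
  obtain ⟨hinj, hex⟩ := lift_exact J hJ2 r φ hφi hφ I' f' φ' hf' h2 hφ' hrel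
  refine ⟨φ', hφ', ?_⟩
  set mk := Ideal.Quotient.mk (J.map (algebraMap C' A')) with hmk
  set π' := Fintype.linearCombination A' f' with hπ'
  have hrπ : LinearMap.range π' = I' := by
    rw [h2, hπ', Fintype.range_linearCombination]
  by_cases hI0 : LinearMap.range π' = ⊥
  · -- degenerate case: `A'` is trivial
    have hf0 : ∀ i, sm φ i = 0 := by
      intro i
      have : f' i ∈ I' := by
        rw [h2]
        exact Ideal.subset_span ⟨i, rfl⟩
      rw [← hrπ, hI0, Submodule.mem_bot] at this
      rw [← hf', this, map_zero]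
    have hlc : Fintype.linearCombination (A' ⧸ J.map (algebraMap C' A')) (sm φ) = 0 := by
      apply LinearMap.ext
      intro v
      rw [Fintype.linearCombination_apply]
      simp [hf0]
    have hsurj : Function.Surjective φ.mulVecLin := by
      rw [← LinearMap.range_eq_top, hφ, hlc, LinearMap.ker_zero]
    have hsubA : Subsingleton (A' ⧸ J.map (algebraMap C' A')) := by
      by_contra hns
      rw [not_subsingleton_iff_nontrivial] at hns
      have e := LinearEquiv.ofBijective φ.mulVecLin ⟨hφi, hsurj⟩
      have := e.finrank_eq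
      rw [Module.finrank_fin_fun, Module.finrank_fin_fun] at this
      omega
    have h1 : (1 : A') ∈ J.map (algebraMap C' A') := by
      rw [← Ideal.Quotient.eq_zero_iff_mem]
      exact Subsingleton.elim _ _
    have h10 : (1 : A') = 0 := by
      have : (1 : A') * 1 ∈ J.map (algebraMap C' A') * J.map (algebraMap C' A') :=
        Ideal.mul_mem_mul h1 h1
      rw [← Ideal.map_mul, hJ2, Ideal.map_bot, Ideal.mem_bot, mul_one] at this
      exact this
    have hsub : Subsingleton A' := subsingleton_of_zero_eq_one h10.symm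
    ext x
    rw [Subsingleton.elim x 0]
    simp
  · obtain ⟨-, ⟨a, -, hrange⟩, -⟩ :=
      Groth.Agent.S12907.result r (r + 1) φ' π' hinj hex hI0
    rw [hrπ] at hrange
    -- reduce modulo `𝔍`
    have hD : Ideal.span (Set.range (sm φ)) = Ideal.span {mk a} * Ideal.span (Set.range (sm φ)) := by
      conv_lhs => rw [← hI', hrange, Ideal.map_mul, Ideal.map_span, Set.image_singleton,
        ← Groth.Agent.Lib.R2Lead.BE.minorIdeal_map, hφ', ← span_sm]
    have hfg : (Ideal.span (Set.range (sm φ)) : Submodule _ (A' ⧸ J.map (algebraMap C' A'))).FG :=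
      Submodule.fg_span (Set.finite_range _)
    obtain ⟨x, hx1, hx0⟩ := Submodule.exists_sub_one_mem_and_smul_eq_zero_of_fg_of_le_smul
      (Ideal.span {mk a}) (Ideal.span (Set.range (sm φ))) hfg (by
        rw [smul_eq_mul]
        exact hD.le)
    have hxann : x ∈ (CAlgX.minorIdeal φ r).annihilator := by
      rw [Submodule.mem_annihilator]
      intro n hn
      rw [← span_sm] at hn
      exact hx0 n hn
    rw [Groth.Agent.Helper13McCoy.annihilator_minorIdeal_eq_bot φ hφi, Ideal.mem_bot] at hxann
    rw [hxann, zero_sub] at hx1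
    have hu : IsUnit (mk a) := by
      rw [← Ideal.span_singleton_eq_top, Ideal.eq_top_iff_one]
      have := Ideal.neg_mem_iff _ |>.1 hx1
      exact this
    have hnil : IsNilpotent (J.map (algebraMap C' A')) := by
      refine ⟨2, ?_⟩
      rw [pow_two, ← Ideal.map_mul, hJ2, Ideal.map_bot]
      rfl
    have hua : IsUnit a := (IsNilpotent.isUnit_quotient_mk_iff hnil).1 hu
    rw [Ideal.span_singleton_eq_top.2 hua, Ideal.top_mul, ← span_sm] at hrange
    exact hrange

end Groth.Agent.Lib.R2Lead.DefT
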