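import Mathlib
import Groth.Agent.Lib.R2LeadDefT6

/-! # Lifting determinantal presentations along nilpotent extensions: lifts of relations -/

set_option autoImplicit false
universe u

namespace Groth.Agent.Lib.R2Lead.DefT

open Matrix

/-- nilpotent Nakayama without finiteness -/
theorem nak {R M : Type u} [CommRing R] [AddCommGroup M] [Module R M] (𝔍 : Ideal R) (n : ℕ)
    (h𝔍 : 𝔍 ^ n = ⊥) (N N' : Submodule R M) (h : N ≤ N' ⊔ 𝔍 • N) : N ≤ N' := by
  have key : ∀ k : ℕ, N ≤ N' ⊔ 𝔍 ^ k • N := by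
    intro k
    induction k with
    | zero =>
      rw [pow_zero, Ideal.one_eq_top, Submodule.top_smul]
      exact le_sup_right
    | succ k ih =>
      refine h.trans (sup_le le_sup_left ?_)
      calc 𝔍 • N ≤ 𝔍 • (N' ⊔ 𝔍 ^ k • N) := Submodule.smul_mono le_rfl ih
        _ = 𝔍 • N' ⊔ 𝔍 • (𝔍 ^ k • N) := Submodule.smul_sup _ _ _
        _ ≤ N' ⊔ 𝔍 ^ (k + 1) • N := by
          refine sup_le_sup Submodule.smul_le_right ?_
          rw [← mul_smul, ← pow_succ']
  have := key n
  rwa [h𝔍, Submodule.bot_smul, sup_bot_eq] at this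

variable {C' A' : Type u} [CommRing C'] [CommRing A'] [Algebra C' A'] (J : Ideal C')

theorem map_pow_eq_bot (n : ℕ) (hJn : J ^ n = ⊥) : (J.map (algebraMap C' A')) ^ n = ⊥ := by
  rw [← Ideal.map_pow, hJn, Ideal.map_bot]

/-- Step 1–3 (nilpotent version): lifts of the generators and of the relations. -/
theorem exists_lift_rel' (n : ℕ) (hJn : J ^ n = ⊥) (r : ℕ)
    (φ : Matrix (Fin (r + 1)) (Fin r) (A' ⧸ J.map (algebraMap C' A')))
    (hφ : LinearMap.range φ.mulVecLin ≤
      LinearMap.ker (Fintype.linearCombination (A' ⧸ J.map (algebraMap C' A')) (sm φ)))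
    (I' : Ideal A') [Module.Flat C' (A' ⧸ I')]
    (hI' : I'.map (Ideal.Quotient.mk (J.map (algebraMap C' A'))) = Ideal.span (Set.range (sm φ))) :
    ∃ (f' : Fin (r + 1) → A') (φ' : Matrix (Fin (r + 1)) (Fin r) A'),
      (∀ i, Ideal.Quotient.mk (J.map (algebraMap C' A')) (f' i) = sm φ i) ∧
      I' = Ideal.span (Set.range f') ∧
      φ'.map (Ideal.Quotient.mk (J.map (algebraMap C' A'))) = φ ∧
      ∀ j, ∑ i, f' i * φ' i j = 0 := by
  classical
  set mk := Ideal.Quotient.mk (J.map (algebraMap C' A')) with hmk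
  have hmks : Function.Surjective mk := Ideal.Quotient.mk_surjective
  -- (1)
  have h1 : ∀ i, ∃ y ∈ I', mk y = sm φ i := by
    intro i
    have : sm φ i ∈ I'.map mk := by
      rw [hI']
      exact Ideal.subset_span ⟨i, rfl⟩
    exact (Ideal.mem_map_iff_of_surjective mk hmks).1 this
  choose f' hf'I hf' using h1
  -- (2)
  have hSle : Ideal.span (Set.range f') ≤ I' := by
    rw [Ideal.span_le]
    rintro _ ⟨i, rfl⟩
    exact hf'I i
  have hdec : ∀ y ∈ I', ∃ s ∈ Ideal.span (Set.range f'), y - s ∈ J.map (algebraMap C' A') := by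
    intro y hy
    have : mk y ∈ Ideal.span (Set.range (sm φ)) := by
      rw [← hI']
      exact Ideal.mem_map_of_mem _ hy
    rw [Ideal.mem_span_range_iff_exists_fun] at this
    obtain ⟨c, hc⟩ := this
    choose c' hc' using fun i => hmks (c i)
    refine ⟨∑ i, c' i * f' i, ?_, ?_⟩
    · exact Ideal.sum_mem _ (fun i _ => Ideal.mul_mem_left _ _ (Ideal.subset_span ⟨i, rfl⟩))
    · rw [← Ideal.Quotient.eq_zero_iff_mem, ← hmk, map_sub, map_sum, ← hc, sub_eq_zero]
      refine Finset.sum_congr rfl (fun i _ => ?_)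
      rw [map_mul, hc', hf']
  have h2 : I' = Ideal.span (Set.range f') := by
    apply le_antisymm _ hSle
    apply nak (J.map (algebraMap C' A')) n (map_pow_eq_bot J n hJn)
    intro y hy
    obtain ⟨s, hs, hz⟩ := hdec y hy
    have hzI : y - s ∈ I' := I'.sub_mem hy (hSle hs)
    have h3 := mem_mul_of_flat_quot J I' (y - s) hzI hz
    have h4 : y = s + (y - s) := by ring
    rw [h4]
    exact Submodule.add_mem_sup hs h3
  -- (3)
  choose ψ hψ using fun i j => hmks (φ i j)
  have hg : ∀ j, ∑ i, f' i * ψ i j ∈ J.map (algebraMap C' A') * Ideal.span (Set.range f') := by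
    intro j
    rw [← h2]
    apply mem_mul_of_flat_quot J I'
    · exact Ideal.sum_mem _ (fun i _ => Ideal.mul_mem_right _ _ (hf'I i))
    · rw [← Ideal.Quotient.eq_zero_iff_mem, ← hmk, map_sum]
      have hcol : φ.mulVecLin (Pi.single j 1) ∈
          LinearMap.ker (Fintype.linearCombination (A' ⧸ J.map (algebraMap C' A')) (sm φ)) :=
        hφ ⟨_, rfl⟩
      rw [LinearMap.mem_ker, Fintype.linearCombination_apply] at hcol
      rw [← hcol]
      refine Finset.sum_congr rfl (fun i _ => ?_)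
      rw [map_mul, hf', hψ, Matrix.mulVecLin_apply, Matrix.mulVec_single_one, smul_eq_mul, mul_comm]
      rfl
  have hg' : ∀ j, ∃ c : Fin (r + 1) → A', (∀ i, c i ∈ J.map (algebraMap C' A')) ∧
      ∑ i, c i * f' i = ∑ i, f' i * ψ i j := by
    intro j
    have := hg j
    rw [← smul_eq_mul, Ideal.span, Submodule.mem_ideal_smul_span_iff_exists_sum] at this
    obtain ⟨a, ha, hsum⟩ := this
    refine ⟨fun i => a i, ha, ?_⟩
    rw [← hsum, Finsupp.sum_fintype a (fun i c => c • f' i) (fun i => zero_smul _ _)]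
    rfl
  choose c hcJ hc using hg'
  refine ⟨f', Matrix.of (fun i j => ψ i j - c j i), hf', h2, ?_, ?_⟩
  · ext i j
    rw [Matrix.map_apply, Matrix.of_apply, map_sub, hψ,
      Ideal.Quotient.eq_zero_iff_mem.2 (hcJ j i), sub_zero]
  · intro j
    simp only [Matrix.of_apply, mul_sub, Finset.sum_sub_distrib]
    rw [← hc j, sub_eq_zero]
    exact Finset.sum_congr rfl (fun i _ => mul_comm _ _)

end Groth.Agent.Lib.R2Lead.DefT
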