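import Groth.Agent.Lib.R2LeadDescB1
universe u
open CategoryTheory ModuleCat ChangeOfRings TensorProduct

set_option backward.isDefEq.respectTransparency false
set_option backward.isDefEq.respectTransparency.types false
set_option linter.style.haveILetI false

namespace Groth.Agent.Lib.R2LeadDescB

section main2
variable {R : Type u} {S : Type u} [CommRing R] [CommRing S] [Algebra R S] {N : ModuleCat.{u} S}

set_option maxHeartbeats 400000 in
lemma delta_k1 (e : Ex N (i2 (R := R))) :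
    (dlt (R := R) N) ((k1 (R := R) (N := N)).lift e) =
      (k3 (R := R) (N := N)).lift (pushf N (g13 (R := R)) (i2 (R := R)) (j3 (R := R)) g13_i2 e) := by
  induction e using ex_induction₂ with
  | zero => rw [map_zero, map_zero, map_zero, map_zero]
  | tmul x y n =>
    rw [BFam.lift_tmul, k1_k, delta_gt, pushf_tmul, BFam.lift_tmul, g13_tmul, k3_k]
  | add e e' he he' => rw [map_add, map_add, map_add, map_add, he, he']


variable (σ : Sys R N)

lemma Gbeta_k1 (e : Ex N (i2 (R := R))) :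
    (Gm (R := R) (beta σ)) ((k1 (R := R) (N := N)).lift e) =
      (k3 (R := R) (N := N)).lift (σ.Θ (j2 (R := R)) (j3 (R := R)) j2_j3 (pushf N (g12 (R := R)) (i2 (R := R)) (j2 (R := R)) g12_i2 e)) := by
  induction e using ex_induction₂ with
  | zero => rw [map_zero, map_zero, map_zero, map_zero, map_zero]
  | tmul x y n =>
    rw [BFam.lift_tmul, k1_k, Gmap_gt, pushf_tmul, g12_tmul]
    have h1 : ((x ⊗ₜ[R] (y ⊗ₜ[R] (1 : S))) ⊗ₜ[S,(j2 (R := R))] n : Ex N (j2 (R := R))) =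
        (x ⊗ₜ[R] (y ⊗ₜ[R] (1 : S))) •
          ((1 : S ⊗[R] (S ⊗[R] S)) ⊗ₜ[S,(j2 (R := R))] n : Ex N (j2 (R := R))) := by
      rw [ex_smul, mul_one]
    rw [h1, (σ.Θ (j2 (R := R)) (j3 (R := R)) j2_j3).hom.map_smul,
      σ.nat (g23 (R := R)) (i1 (R := R)) (i2 (R := R)) (j2 (R := R)) (j3 (R := R)) i1_i2 j2_j3 rfl rfl n, k3_smul_pushf,
      ← beta_apply, (beta σ).hom.map_smul]
  | add e e' he he' => rw [map_add, map_add, map_add, map_add, map_add, he, he']

lemma beta_coassoc' : beta σ ≫ dlt (R := R) N = beta σ ≫ Gm (R := R) (beta σ) := by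
  ext n
  show (dlt (R := R) N) (beta σ n) = (Gm (R := R) (beta σ)) (beta σ n)
  rw [beta_apply, delta_k1, Gbeta_k1,
    ← σ.nat (g13 (R := R)) (i1 (R := R)) (i2 (R := R)) (j1 (R := R)) (j3 (R := R)) i1_i2 j1_j3 g13_i1 g13_i2 n,
    ← σ.nat (g12 (R := R)) (i1 (R := R)) (i2 (R := R)) (j1 (R := R)) (j2 (R := R)) i1_i2 j1_j2 g12_i1 g12_i2 n, σ.comp (j1 (R := R)) (j2 (R := R)) (j3 (R := R)) j1_j2 j2_j3 j1_j3]

/-- the coalgebra attached to a descent system -/
noncomputable def coalg : (adj (S := S) R).toComonad.Coalgebra where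
  A := N
  a := beta σ
  counit := beta_counit σ
  coassoc := beta_coassoc' σ


lemma comparison_isEquivalence (hff : Module.FaithfullyFlat R S) :
    (Comonad.comparison (adj (S := S) R)).IsEquivalence := by
  have hf : (algebraMap R S).FaithfullyFlat := (RingHom.faithfullyFlat_algebraMap_iff).mpr hff
  have := ModuleCat.preservesFiniteLimits_extendScalars_of_flat hf.flat
  have := ModuleCat.reflectsIsomorphisms_extendScalars_of_faithfullyFlat hf
  have : Comonad.HasEqualizerOfIsCosplitPair (extendScalars.{_, _, u} (algebraMap R S)) :=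
    ⟨inferInstance⟩
  have : Comonad.PreservesLimitOfIsCosplitPair (extendScalars.{_, _, u} (algebraMap R S)) :=
    ⟨inferInstance⟩
  exact (Comonad.comonadicOfHasPreservesFSplitEqualizersOfReflectsIsomorphisms (adj R)).eqv

theorem exists_descent (hff : Module.FaithfullyFlat R S) :
    ∃ (M : ModuleCat.{u} R) (l : (extendScalars (algebraMap R S)).obj M ≅ N), ∀ m : M,
      σ.Θ (i1 (R := R)) (i2 (R := R)) i1_i2
        ((1 : S ⊗[R] S) ⊗ₜ[S,(i1 (R := R))] (l.hom ((1 : S) ⊗ₜ[R,algebraMap R S] m))) =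
      ((1 : S ⊗[R] S) ⊗ₜ[S,(i2 (R := R))] (l.hom ((1 : S) ⊗ₜ[R,algebraMap R S] m)) :
        Ex N (i2 (R := R))) := by
  have := comparison_isEquivalence (R := R) (S := S) hff
  let X := coalg σ
  let M := (Comonad.comparison (adj (S := S) R)).objPreimage X
  let e : (Comonad.comparison (adj (S := S) R)).obj M ≅ X :=
    (Comonad.comparison (adj (S := S) R)).objObjPreimageIso X
  refine ⟨M, (Comonad.forget _).mapIso e, fun m => ?_⟩
  have h := e.hom.h
  have h2 : (beta σ) (e.hom.f ((1 : S) ⊗ₜ[R,algebraMap R S] m)) =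
      gt R (1 : S) (e.hom.f ((1 : S) ⊗ₜ[R,algebraMap R S] m)) := by
    have := congrArg (fun φ => φ.hom ((1 : S) ⊗ₜ[R,algebraMap R S] m)) h
    exact this.symm
  show σ.Θ (i1 (R := R)) (i2 (R := R)) i1_i2
        ((1 : S ⊗[R] S) ⊗ₜ[S,(i1 (R := R))] (e.hom.f ((1 : S) ⊗ₜ[R,algebraMap R S] m))) =
      ((1 : S ⊗[R] S) ⊗ₜ[S,(i2 (R := R))] (e.hom.f ((1 : S) ⊗ₜ[R,algebraMap R S] m)) :
        Ex N (i2 (R := R)))
  generalize e.hom.f ((1 : S) ⊗ₜ[R,algebraMap R S] m) = n at h2 ⊢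
  rw [beta_apply] at h2
  have h3 := congrArg iota h2
  rw [iota_k1, iota_gt] at h3
  rw [h3]
  rfl

omit σ in
lemma exists_lift {T' : Type u} [CommRing T'] (a₁ a₂ : S →+* T')
    (h : a₁.comp (algebraMap R S) = a₂.comp (algebraMap R S)) :
    ∃ g : S ⊗[R] S →+* T', g.comp (i1 (R := R)) = a₁ ∧ g.comp (i2 (R := R)) = a₂ := by
  letI : Algebra R T' := (a₁.comp (algebraMap R S)).toAlgebra
  let a₁' : S →ₐ[R] T' := { a₁ with commutes' := fun r => rfl }
  let a₂' : S →ₐ[R] T' := { a₂ with commutes' := fun r => (RingHom.congr_fun h r).symm }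
  refine ⟨(Algebra.TensorProduct.productMap a₁' a₂').toRingHom, ?_, ?_⟩
  · ext x
    exact Algebra.TensorProduct.productMap_left_apply a₁' a₂' x
  · ext x
    exact Algebra.TensorProduct.productMap_right_apply a₁' a₂' x

lemma Sys.invariant_of {T' : Type u} [CommRing T'] (a₁ a₂ : S →+* T')
    (h : a₁.comp (algebraMap R S) = a₂.comp (algebraMap R S)) (n : N)
    (hn : σ.Θ (i1 (R := R)) (i2 (R := R)) i1_i2 ((1 : S ⊗[R] S) ⊗ₜ[S,(i1 (R := R))] n) =
      ((1 : S ⊗[R] S) ⊗ₜ[S,(i2 (R := R))] n : Ex N (i2 (R := R)))) :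
    σ.Θ a₁ a₂ h ((1 : T') ⊗ₜ[S,a₁] n) = ((1 : T') ⊗ₜ[S,a₂] n : Ex N a₂) := by
  obtain ⟨g, hg1, hg2⟩ := exists_lift (R := R) a₁ a₂ h
  rw [σ.nat g (i1 (R := R)) (i2 (R := R)) a₁ a₂ i1_i2 h hg1 hg2 n, hn, pushf_tmul, map_one]

end main2

end Groth.Agent.Lib.R2LeadDescB
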