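import Groth.Prelude.Def_Desc
import Groth.Agent.Lib.R2LeadDescB2
universe u
open CategoryTheory Opposite Desc
open ModuleCat ChangeOfRings TensorProduct

set_option backward.isDefEq.respectTransparency false
set_option backward.isDefEq.respectTransparency.types false

namespace Groth.Agent.Lib.R2LeadDescA
open Groth.Agent.Lib.R2LeadDescB

noncomputable abbrev E {A B : CommRingCat.{u}} (a : A ⟶ B) (N : ModuleCat.{u} A) : ModuleCat.{u} B :=
  (ModuleCat.extendScalars a.hom).obj N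

abbrev asHom {B : Type u} [CommRing B] (P Q : ModuleCat.{u} B) (φ : P ⟶ Q) : P ⟶ Q := φ

lemma mapComp_hom_one_tmul {X Y Y' : CommRingCat.{u}ᵒᵖ} (f₁ : Y ⟶ X) (g : Y' ⟶ Y)
    (N : ModuleCat.{u} X.unop) (n : N) :
    (asHom (E (g ≫ f₁).unop N) (E g.unop (E f₁.unop N))
      ((Desc.ringModPF.{u}.mapComp f₁.op.toLoc g.op.toLoc).hom.toNatTrans.app N))
      ((1 : Y'.unop) ⊗ₜ[X.unop, (g ≫ f₁).unop.hom] n) =
      (1 : Y'.unop) ⊗ₜ[Y.unop, g.unop.hom] ((1 : Y.unop) ⊗ₜ[X.unop, f₁.unop.hom] n) := by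
  simp [ringModPF]
  exact ModuleCat.extendScalarsComp_hom_app_one_tmul f₁.unop.hom g.unop.hom N n

lemma mapComp'_hom_one_tmul {X Y Y' : CommRingCat.{u}ᵒᵖ} (f₁ : Y ⟶ X) (g : Y' ⟶ Y) (gf₁ : Y' ⟶ X)
    (h : g ≫ f₁ = gf₁)
    (N : ModuleCat.{u} X.unop) (n : N) :
    (asHom (E gf₁.unop N) (E g.unop (E f₁.unop N))
      ((Desc.ringModPF.{u}.mapComp' f₁.op.toLoc g.op.toLoc gf₁.op.toLoc
        (by subst h; rfl)).hom.toNatTrans.app N))
      ((1 : Y'.unop) ⊗ₜ[X.unop, gf₁.unop.hom] n) =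
      (1 : Y'.unop) ⊗ₜ[Y.unop, g.unop.hom] ((1 : Y.unop) ⊗ₜ[X.unop, f₁.unop.hom] n) := by
  subst h
  have := Desc.ringModPF.{u}.mapComp'_eq_mapComp f₁.op.toLoc g.op.toLoc
  have h2 := mapComp_hom_one_tmul f₁ g N n
  exact (congrArg (fun z => asHom (E (g ≫ f₁).unop N) (E g.unop (E f₁.unop N))
    (z.hom.toNatTrans.app N) ((1 : Y'.unop) ⊗ₜ[X.unop, (g ≫ f₁).unop.hom] n)) this).trans h2

section concrete
variable {S T' T'' : Type u} [CommRing S] [CommRing T'] [CommRing T'']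
  (a : S →+* T') (g : T' →+* T'') (b : S →+* T'') (hb : g.comp a = b) (N : ModuleCat.{u} S)

include hb in
lemma op_comp_eq : (CommRingCat.ofHom g).op ≫ (CommRingCat.ofHom a).op = (CommRingCat.ofHom b).op := by
  subst hb; rfl

/-- the composition isomorphism of `ringModPF` for concrete rings, as a morphism of modules. -/
noncomputable def mcHom : Ex N b ⟶ Ex (Ex N a) g :=
  (Desc.ringModPF.{u}.mapComp' (CommRingCat.ofHom a).op.op.toLoc (CommRingCat.ofHom g).op.op.toLoc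
    (CommRingCat.ofHom b).op.op.toLoc (by subst hb; rfl)).hom.toNatTrans.app N

/-- the inverse -/
noncomputable def mcInv : Ex (Ex N a) g ⟶ Ex N b :=
  (Desc.ringModPF.{u}.mapComp' (CommRingCat.ofHom a).op.op.toLoc (CommRingCat.ofHom g).op.op.toLoc
    (CommRingCat.ofHom b).op.op.toLoc (by subst hb; rfl)).inv.toNatTrans.app N

lemma mcHom_one_tmul (n : N) :
    mcHom a g b hb N ((1 : T'') ⊗ₜ[S,b] n) = (1 : T'') ⊗ₜ[T',g] ((1 : T') ⊗ₜ[S,a] n) :=
  mapComp'_hom_one_tmul (X := op (CommRingCat.of S)) (Y := op (CommRingCat.of T'))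
    (Y' := op (CommRingCat.of T'')) (CommRingCat.ofHom a).op (CommRingCat.ofHom g).op
    (CommRingCat.ofHom b).op (op_comp_eq a g b hb) N n

lemma mcInv_mcHom (e : Ex N b) : mcInv a g b hb N (mcHom a g b hb N e) = e := by
  have := (Desc.ringModPF.{u}.mapComp' (CommRingCat.ofHom a).op.op.toLoc
    (CommRingCat.ofHom g).op.op.toLoc
    (CommRingCat.ofHom b).op.op.toLoc (by subst hb; rfl)).hom_inv_id
  have h2 := congrArg (fun z => asHom (Ex N b) (Ex N b) (z.toNatTrans.app N) e) this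
  exact h2

lemma mcInv_one_tmul (e : Ex N a) :
    mcInv a g b hb N ((1 : T'') ⊗ₜ[T',g] e) = pushf N g a b hb e := by
  induction e using ex_induction with
  | zero =>
    rw [ex_tmul_zero (Ex N a) g (1 : T''), map_zero, map_zero]
  | tmul t n =>
    have h1 : (t ⊗ₜ[S,a] n : Ex N a) = t • ((1 : T') ⊗ₜ[S,a] n : Ex N a) := by
      rw [ex_smul, mul_one]
    have h2 : ((1 : T'') ⊗ₜ[T',g] (t • ((1 : T') ⊗ₜ[S,a] n : Ex N a)) : Ex (Ex N a) g) =
        g t • ((1 : T'') ⊗ₜ[T',g] ((1 : T') ⊗ₜ[S,a] n : Ex N a) : Ex (Ex N a) g) := by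
      exact (ex_smul_tmul (Ex N a) g t (1 : T'') _).symm
    rw [h1, h2, ← mcHom_one_tmul a g b hb N n, (mcInv a g b hb N).hom.map_smul, mcInv_mcHom,
      ← h1, pushf_tmul, ex_smul, mul_one]
  | add x y hx hy =>
    rw [ex_tmul_add (Ex N a) g (1 : T''), map_add, map_add, hx, hy]

end concrete

section fromD
variable (R S : Type u) [CommRing R] [CommRing S] [Algebra R S]
  (D : Desc.ringModPF.{u}.DescentData
    (fun _ : PUnit.{u + 1} => (CommRingCat.ofHom (algebraMap R S)).op))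

/-- the underlying `S`-module of a descent datum -/
noncomputable abbrev Nobj : ModuleCat.{u} S := D.obj PUnit.unit

/-- the transition maps, with a free choice of the structure map `q` -/
noncomputable def thetaQ {T' : Type u} [CommRing T']
    (q : op (CommRingCat.of T') ⟶ op (CommRingCat.of R)) (a₁ a₂ : S →+* T')
    (h₁ : (CommRingCat.ofHom a₁).op ≫ (CommRingCat.ofHom (algebraMap R S)).op = q)
    (h₂ : (CommRingCat.ofHom a₂).op ≫ (CommRingCat.ofHom (algebraMap R S)).op = q) :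
    Ex (Nobj R S D) a₁ ⟶ Ex (Nobj R S D) a₂ :=
  D.hom q (CommRingCat.ofHom a₁).op (CommRingCat.ofHom a₂).op h₁ h₂

lemma op_eq_of_comp_eq {T' : Type u} [CommRing T'] (a₁ a₂ : S →+* T')
    (h : a₁.comp (algebraMap R S) = a₂.comp (algebraMap R S)) :
    (CommRingCat.ofHom a₂).op ≫ (CommRingCat.ofHom (algebraMap R S)).op =
      (CommRingCat.ofHom a₁).op ≫ (CommRingCat.ofHom (algebraMap R S)).op :=
  congrArg (fun r => (CommRingCat.ofHom r).op) h.symm

/-- the transition maps -/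
noncomputable def theta {T' : Type u} [CommRing T'] (a₁ a₂ : S →+* T')
    (h : a₁.comp (algebraMap R S) = a₂.comp (algebraMap R S)) :
    Ex (Nobj R S D) a₁ ⟶ Ex (Nobj R S D) a₂ :=
  thetaQ R S D ((CommRingCat.ofHom a₁).op ≫ (CommRingCat.ofHom (algebraMap R S)).op) a₁ a₂ rfl
    (op_eq_of_comp_eq R S a₁ a₂ h)

lemma theta_eq_thetaQ {T' : Type u} [CommRing T']
    (q : op (CommRingCat.of T') ⟶ op (CommRingCat.of R)) (a₁ a₂ : S →+* T')
    (h : a₁.comp (algebraMap R S) = a₂.comp (algebraMap R S))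
    (h₁ : (CommRingCat.ofHom a₁).op ≫ (CommRingCat.ofHom (algebraMap R S)).op = q)
    (h₂ : (CommRingCat.ofHom a₂).op ≫ (CommRingCat.ofHom (algebraMap R S)).op = q) :
    theta R S D a₁ a₂ h = thetaQ R S D q a₁ a₂ h₁ h₂ := by
  subst h₁
  rfl

/-- the abstract descent system of a descent datum -/
noncomputable def sysOf : Sys R (Nobj R S D) where
  Θ := fun a₁ a₂ h => theta R S D a₁ a₂ h
  nat := fun {T' T''} _ _ g a₁ a₂ b₁ b₂ h h' hb₁ hb₂ n => by
    have hq : (CommRingCat.ofHom g).op ≫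
        ((CommRingCat.ofHom a₁).op ≫ (CommRingCat.ofHom (algebraMap R S)).op) =
        ((CommRingCat.ofHom b₁).op ≫ (CommRingCat.ofHom (algebraMap R S)).op) := by
      rw [← Category.assoc, op_comp_eq a₁ g b₁ hb₁]
    have key : theta R S D b₁ b₂ h' =
        mcHom a₁ g b₁ hb₁ (Nobj R S D) ≫ (extendScalars g).map (theta R S D a₁ a₂ h) ≫
          mcInv a₂ g b₂ hb₂ (Nobj R S D) :=
      (D.pullHom_hom (CommRingCat.ofHom g).op _ _ hq (CommRingCat.ofHom a₁).op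
        (CommRingCat.ofHom a₂).op rfl (op_eq_of_comp_eq R S a₁ a₂ h) (CommRingCat.ofHom b₁).op
        (CommRingCat.ofHom b₂).op (op_comp_eq a₁ g b₁ hb₁) (op_comp_eq a₂ g b₂ hb₂)).symm
    rw [key]
    show mcInv a₂ g b₂ hb₂ (Nobj R S D) ((extendScalars g).map (theta R S D a₁ a₂ h)
      (mcHom a₁ g b₁ hb₁ (Nobj R S D) ((1 : T'') ⊗ₜ[S,b₁] n))) = _
    rw [mcHom_one_tmul, ExtendScalars.map_tmul, mcInv_one_tmul]
  self := fun a e => by
    have : theta R S D a a rfl = 𝟙 _ := D.hom_self _ _ rfl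
    rw [this]
    rfl
  comp := fun a₁ a₂ a₃ h₁₂ h₂₃ h₁₃ e => by
    have h2 : theta R S D a₂ a₃ h₂₃ =
        thetaQ R S D ((CommRingCat.ofHom a₁).op ≫ (CommRingCat.ofHom (algebraMap R S)).op) a₂ a₃
          (op_eq_of_comp_eq R S a₁ a₂ h₁₂) (op_eq_of_comp_eq R S a₁ a₃ h₁₃) :=
      theta_eq_thetaQ R S D _ a₂ a₃ h₂₃ _ _
    have h3 := D.hom_comp (i₁ := PUnit.unit) (i₂ := PUnit.unit) (i₃ := PUnit.unit)
      ((CommRingCat.ofHom a₁).op ≫ (CommRingCat.ofHom (algebraMap R S)).op)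
      (CommRingCat.ofHom a₁).op (CommRingCat.ofHom a₂).op (CommRingCat.ofHom a₃).op rfl
      (op_eq_of_comp_eq R S a₁ a₂ h₁₂) (op_eq_of_comp_eq R S a₁ a₃ h₁₃)
    have h4 : theta R S D a₁ a₂ h₁₂ ≫ theta R S D a₂ a₃ h₂₃ = theta R S D a₁ a₃ h₁₃ := by
      rw [h2]
      exact h3
    rw [← h4]
    rfl

end fromD

end Groth.Agent.Lib.R2LeadDescA
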