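import Groth.Agent.Lib.R2LeadDescA1
universe u
open CategoryTheory Opposite Desc
open ModuleCat ChangeOfRings TensorProduct

set_option backward.isDefEq.respectTransparency false
set_option backward.isDefEq.respectTransparency.types false

namespace Groth.Agent.Lib.R2LeadDescA
open Groth.Agent.Lib.R2LeadDescB

section concrete
variable {S T' T'' : Type u} [CommRing S] [CommRing T'] [CommRing T'']
  (a : S →+* T') (g : T' →+* T'') (b : S →+* T'') (hb : g.comp a = b) (N : ModuleCat.{u} S)

lemma mcHom_mcInv (e : Ex (Ex N a) g) : mcHom a g b hb N (mcInv a g b hb N e) = e := by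
  have := (Desc.ringModPF.{u}.mapComp' (CommRingCat.ofHom a).op.op.toLoc
    (CommRingCat.ofHom g).op.op.toLoc
    (CommRingCat.ofHom b).op.op.toLoc (by subst hb; rfl)).inv_hom_id
  have h2 := congrArg (fun z => asHom (Ex (Ex N a) g) (Ex (Ex N a) g) (z.toNatTrans.app N) e) this
  exact h2

/-- `mcHom` as an isomorphism -/
noncomputable def mcIso : Ex N b ≅ Ex (Ex N a) g where
  hom := mcHom a g b hb N
  inv := mcInv a g b hb N
  hom_inv_id := ModuleCat.hom_ext (LinearMap.ext fun e => mcInv_mcHom a g b hb N e)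
  inv_hom_id := ModuleCat.hom_ext (LinearMap.ext fun e => mcHom_mcInv a g b hb N e)

end concrete

section fromD
variable (R S : Type u) [CommRing R] [CommRing S] [Algebra R S]
  (D : Desc.ringModPF.{u}.DescentData
    (fun _ : PUnit.{u + 1} => (CommRingCat.ofHom (algebraMap R S)).op))

lemma comm_aux {T' : Type u} [CommRing T'] (a₁ a₂ : S →+* T')
    (h : a₁.comp (algebraMap R S) = a₂.comp (algebraMap R S))
    (M : ModuleCat.{u} R) (l : (extendScalars (algebraMap R S)).obj M ≅ Nobj R S D)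
    (hl : ∀ m : M, theta R S D (i1 (R := R)) (i2 (R := R)) i1_i2
        ((1 : S ⊗[R] S) ⊗ₜ[S,(i1 (R := R))] (l.hom ((1 : S) ⊗ₜ[R,algebraMap R S] m))) =
      ((1 : S ⊗[R] S) ⊗ₜ[S,(i2 (R := R))] (l.hom ((1 : S) ⊗ₜ[R,algebraMap R S] m)) :
        Ex (Nobj R S D) (i2 (R := R)))) :
    (extendScalars a₁).map l.hom ≫ theta R S D a₁ a₂ h =
      mcInv (algebraMap R S) a₁ (a₁.comp (algebraMap R S)) rfl M ≫
        mcHom (algebraMap R S) a₂ (a₁.comp (algebraMap R S)) h.symm M ≫
          (extendScalars a₂).map l.hom := by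
  rw [← cancel_epi (mcIso (algebraMap R S) a₁ (a₁.comp (algebraMap R S)) rfl M).hom]
  apply ExtendScalars.hom_ext
  intro m
  show theta R S D a₁ a₂ h ((extendScalars a₁).map l.hom
      (mcHom (algebraMap R S) a₁ (a₁.comp (algebraMap R S)) rfl M
        ((1 : T') ⊗ₜ[R,a₁.comp (algebraMap R S)] m))) =
    (extendScalars a₂).map l.hom (mcHom (algebraMap R S) a₂ (a₁.comp (algebraMap R S)) h.symm M
      (mcInv (algebraMap R S) a₁ (a₁.comp (algebraMap R S)) rfl M
        (mcHom (algebraMap R S) a₁ (a₁.comp (algebraMap R S)) rfl M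
          ((1 : T') ⊗ₜ[R,a₁.comp (algebraMap R S)] m))))
  rw [mcInv_mcHom, mcHom_one_tmul, mcHom_one_tmul, ExtendScalars.map_tmul, ExtendScalars.map_tmul]
  exact (sysOf R S D).invariant_of a₁ a₂ h _ (hl m)

end fromD

end Groth.Agent.Lib.R2LeadDescA
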