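import Groth.Agent.Lib.R2LeadDescA2
universe u
open CategoryTheory Opposite Desc
open ModuleCat ChangeOfRings TensorProduct

set_option backward.isDefEq.respectTransparency false
set_option backward.isDefEq.respectTransparency.types false

namespace Groth.Agent.Lib.R2LeadDescA
open Groth.Agent.Lib.R2LeadDescB

theorem main (R S : Type u) [CommRing R] [CommRing S] [Algebra R S]
    [Module.FaithfullyFlat R S]
    (D : Desc.ringModPF.{u}.DescentData
      (fun _ : PUnit.{u + 1} => (CommRingCat.ofHom (algebraMap R S)).op)) :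
    ∃ M : ModuleCat.{u} R, Nonempty ((Desc.ringModPF.{u}.toDescentData
      (fun _ : PUnit.{u + 1} => (CommRingCat.ofHom (algebraMap R S)).op)).obj M ≅ D) := by
  obtain ⟨M, l, hl⟩ := exists_descent (sysOf R S D) inferInstance
  refine ⟨M, ⟨Pseudofunctor.DescentData.isoMk (fun _ => l) ?_⟩⟩
  intro Y q i₁ i₂ f₁ f₂ hf₁ hf₂
  subst hf₁
  have h : f₁.unop.hom.comp (algebraMap R S) = f₂.unop.hom.comp (algebraMap R S) := by
    have := congrArg (fun z => z.unop.hom) hf₂
    exact this.symm
  exact comm_aux R S D f₁.unop.hom f₂.unop.hom h M l hl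

end Groth.Agent.Lib.R2LeadDescA
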