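import Mathlib
universe u
open CategoryTheory ModuleCat ChangeOfRings TensorProduct

set_option backward.isDefEq.respectTransparency false
set_option backward.isDefEq.respectTransparency.types false
set_option linter.style.haveILetI false

namespace Groth.Agent.Lib.R2LeadDescB

section basics
variable {S : Type u} [CommRing S] (N : ModuleCat.{u} S)

/-- `T' ⊗_{S,a} N`. -/
noncomputable abbrev Ex {T' : Type u} [CommRing T'] (a : S →+* T') : ModuleCat.{u} T' :=
  (extendScalars a).obj N

lemma ex_smul_tmul {T' : Type u} [CommRing T'] (a : S →+* T') (s : S) (t : T') (n : N) :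
    ((a s * t) ⊗ₜ[S,a] n : Ex N a) = t ⊗ₜ[S,a] (s • n) := by
  letI : Module S T' := Module.compHom T' a
  exact TensorProduct.smul_tmul s t n

@[elab_as_elim]
lemma ex_induction {T' : Type u} [CommRing T'] (a : S →+* T') {motive : Ex N a → Prop}
    (zero : motive 0) (tmul : ∀ (t : T') (n : N), motive (t ⊗ₜ[S,a] n))
    (add : ∀ x y, motive x → motive y → motive (x + y)) (e : Ex N a) : motive e := by
  letI : Module S T' := Module.compHom T' a
  exact TensorProduct.induction_on (R := S) (M := T') (N := N) e zero tmul add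

lemma ex_add_tmul {T' : Type u} [CommRing T'] (a : S →+* T') (t t' : T') (n : N) :
    ((t + t') ⊗ₜ[S,a] n : Ex N a) = t ⊗ₜ[S,a] n + t' ⊗ₜ[S,a] n := by
  letI : Module S T' := Module.compHom T' a
  exact TensorProduct.add_tmul t t' n

lemma ex_tmul_add {T' : Type u} [CommRing T'] (a : S →+* T') (t : T') (n n' : N) :
    (t ⊗ₜ[S,a] (n + n') : Ex N a) = t ⊗ₜ[S,a] n + t ⊗ₜ[S,a] n' := by
  letI : Module S T' := Module.compHom T' a
  exact TensorProduct.tmul_add t n n'

lemma ex_zero_tmul {T' : Type u} [CommRing T'] (a : S →+* T') (n : N) :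
    ((0 : T') ⊗ₜ[S,a] n : Ex N a) = 0 := by
  letI : Module S T' := Module.compHom T' a
  exact TensorProduct.zero_tmul _ n

lemma ex_tmul_zero {T' : Type u} [CommRing T'] (a : S →+* T') (t : T') :
    (t ⊗ₜ[S,a] (0 : N) : Ex N a) = 0 := by
  letI : Module S T' := Module.compHom T' a
  exact TensorProduct.tmul_zero _ t

lemma ex_smul {T' : Type u} [CommRing T'] (a : S →+* T') (t t' : T') (n : N) :
    t • (t' ⊗ₜ[S,a] n : Ex N a) = (t * t') ⊗ₜ[S,a] n := rfl

/-- additive maps out of `Ex`. -/
noncomputable def exLift {T' : Type u} [CommRing T'] (a : S →+* T') {P : Type*} [AddCommGroup P]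
    (k : T' →+ N →+ P) (hk : ∀ (s : S) (t : T') (n : N), k (a s * t) n = k t (s • n)) :
    Ex N a →+ P :=
  @TensorProduct.liftAddHom S _ T' N P _ _ _ (Module.compHom T' a) _ k hk

@[simp] lemma exLift_tmul {T' : Type u} [CommRing T'] (a : S →+* T') {P : Type*} [AddCommGroup P]
    (k : T' →+ N →+ P) (hk : ∀ (s : S) (t : T') (n : N), k (a s * t) n = k t (s • n))
    (t : T') (n : N) : exLift N a k hk (t ⊗ₜ[S,a] n) = k t n := rfl

/-- `t ⊗ n ↦ g t ⊗ n`. -/
noncomputable def pushf {T' T'' : Type u} [CommRing T'] [CommRing T''] (g : T' →+* T'')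
    (a : S →+* T') (b : S →+* T'') (hb : g.comp a = b) : Ex N a →+ Ex N b :=
  exLift N a
    { toFun := fun t =>
        { toFun := fun n => (g t ⊗ₜ[S,b] n : Ex N b)
          map_zero' := ex_tmul_zero N b _
          map_add' := fun n n' => ex_tmul_add N b _ n n' }
      map_zero' := by ext n; simp [ex_zero_tmul]
      map_add' := fun t t' => by ext n; simp [ex_add_tmul] }
    (fun s t n => by
      subst hb
      show (g (a s * t)) ⊗ₜ[S,g.comp a] n = g t ⊗ₜ[S,g.comp a] (s • n)
      rw [map_mul]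
      exact ex_smul_tmul N (g.comp a) s (g t) n)

@[simp] lemma pushf_tmul {T' T'' : Type u} [CommRing T'] [CommRing T''] (g : T' →+* T'')
    (a : S →+* T') (b : S →+* T'') (hb : g.comp a = b) (t : T') (n : N) :
    pushf N g a b hb (t ⊗ₜ[S,a] n) = g t ⊗ₜ[S,b] n := rfl

lemma pushf_smul {T' T'' : Type u} [CommRing T'] [CommRing T''] (g : T' →+* T'')
    (a : S →+* T') (b : S →+* T'') (hb : g.comp a = b) (t : T') (e : Ex N a) :
    pushf N g a b hb (t • e) = g t • pushf N g a b hb e := by
  induction e using ex_induction with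
  | zero => simp
  | tmul t' n => rw [ex_smul, pushf_tmul, pushf_tmul, ex_smul, map_mul]
  | add x y hx hy => rw [smul_add, map_add, map_add, hx, hy, smul_add]

end basics

section gfun
variable (R : Type u) {S : Type u} [CommRing R] [CommRing S] [Algebra R S]

/-- `S ⊗_R X` as an `S`-module (the comonad of the adjunction). -/
noncomputable abbrev GG (X : ModuleCat.{u} S) : ModuleCat.{u} S :=
  (extendScalars (algebraMap R S)).obj ((restrictScalars (algebraMap R S)).obj X)

/-- pure tensors in `GG` -/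
noncomputable abbrev gt {X : ModuleCat.{u} S} (x : S) (n : X) : GG R X :=
  x ⊗ₜ[R,algebraMap R S] (show ((restrictScalars (algebraMap R S)).obj X) from n)

variable {R}
variable (X : ModuleCat.{u} S)

lemma gt_smul_left (r : R) (x : S) (n : X) :
    gt R (algebraMap R S r * x) n = gt R x (algebraMap R S r • n) := by
  letI : Module R S := Module.compHom S (algebraMap R S)
  exact TensorProduct.smul_tmul (R := R) (M := S)
    (N := ((restrictScalars (algebraMap R S)).obj X)) r x n

lemma gt_add_left (x x' : S) (n : X) : gt R (x + x') n = gt R x n + gt R x' n := by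
  letI : Module R S := Module.compHom S (algebraMap R S)
  exact TensorProduct.add_tmul (R := R) (M := S)
    (N := ((restrictScalars (algebraMap R S)).obj X)) x x' n

lemma gt_add_right (x : S) (n n' : X) : gt R x (n + n') = gt R x n + gt R x n' := by
  letI : Module R S := Module.compHom S (algebraMap R S)
  exact TensorProduct.tmul_add (R := R) (M := S)
    (N := ((restrictScalars (algebraMap R S)).obj X)) x n n'

lemma gt_zero_left (n : X) : gt R (0 : S) n = 0 := by
  letI : Module R S := Module.compHom S (algebraMap R S)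
  exact TensorProduct.zero_tmul (R := R) S
    (show ((restrictScalars (algebraMap R S)).obj X) from n)

lemma gt_zero_right (x : S) : gt R x (0 : X) = 0 := by
  letI : Module R S := Module.compHom S (algebraMap R S)
  exact TensorProduct.tmul_zero (R := R) ((restrictScalars (algebraMap R S)).obj X) x

lemma gt_smul (s x : S) (n : X) : s • gt R x n = gt R (s * x) n := rfl

@[elab_as_elim]
lemma gg_induction {motive : GG R X → Prop}
    (zero : motive 0) (tmul : ∀ (x : S) (n : X), motive (gt R x n))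
    (add : ∀ x y, motive x → motive y → motive (x + y)) (e : GG R X) : motive e := by
  letI : Module R S := Module.compHom S (algebraMap R S)
  exact TensorProduct.induction_on (R := R) (M := S)
    (N := ((restrictScalars (algebraMap R S)).obj X)) e zero tmul add

/-- additive maps out of `GG`. -/
noncomputable def ggLift {P : Type*} [AddCommGroup P] (k : S →+ X →+ P)
    (hk : ∀ (r : R) (x : S) (n : X), k (algebraMap R S r * x) n = k x (algebraMap R S r • n)) :
    GG R X →+ P :=
  @TensorProduct.liftAddHom R _ S ((restrictScalars (algebraMap R S)).obj X) P _ _ _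
    (Module.compHom S (algebraMap R S)) _ k hk

@[simp] lemma ggLift_gt {P : Type*} [AddCommGroup P] (k : S →+ X →+ P)
    (hk : ∀ (r : R) (x : S) (n : X), k (algebraMap R S r * x) n = k x (algebraMap R S r • n))
    (x : S) (n : X) : ggLift X k hk (gt R x n) = k x n := rfl

end gfun

section fam
variable {R S : Type u} [CommRing R] [CommRing S] [Algebra R S] (N : ModuleCat.{u} S)

/-- A biadditive map `T' × N → P`, balanced over `S` (through `a`) and `R`-linear in `T'`. -/
structure BFam (T' : Type u) [CommRing T'] [Algebra R T'] (a : S →+* T') (P : ModuleCat.{u} S) where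
  k : T' →+ N →+ P
  bal : ∀ (s : S) (t : T') (n : N), k (a s * t) n = k t (s • n)
  lin : ∀ (r : R) (t : T') (n : N), k (r • t) n = algebraMap R S r • k t n

variable {N}

/-- the induced additive map `T' ⊗_{S,a} N → P` -/
noncomputable def BFam.lift {T' : Type u} [CommRing T'] [Algebra R T'] {a : S →+* T'}
    {P : ModuleCat.{u} S} (φ : BFam (R := R) N T' a P) : Ex N a →+ P :=
  exLift N a φ.k φ.bal

@[simp] lemma BFam.lift_tmul {T' : Type u} [CommRing T'] [Algebra R T'] {a : S →+* T'}
    {P : ModuleCat.{u} S} (φ : BFam (R := R) N T' a P) (t : T') (n : N) :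
    φ.lift (t ⊗ₜ[S,a] n) = φ.k t n := rfl

variable (R N) in
/-- the base family `S × N → N`. -/
noncomputable def k0 : BFam (R := R) N S (RingHom.id S) N where
  k :=
    { toFun := fun y =>
        { toFun := fun n => y • n
          map_zero' := smul_zero y
          map_add' := smul_add y }
      map_zero' := by ext n; simp
      map_add' := fun y y' => by ext n; simp [add_smul] }
  bal := fun s t n => by
    show (s * t) • n = t • s • n
    rw [mul_comm, mul_smul]
  lin := fun r t n => by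
    show (r • t) • n = algebraMap R S r • t • n
    rw [Algebra.smul_def, mul_smul]

@[simp] lemma k0_k (y : S) (n : N) : (k0 R N).k y n = y • n := rfl

/-- inner map for `plus`. -/
noncomputable def plusInner {T' : Type u} [CommRing T'] [Algebra R T'] {a : S →+* T'}
    {P : ModuleCat.{u} S} (φ : BFam (R := R) N T' a P) (n : N) : S ⊗[R] T' →+ GG R P :=
  TensorProduct.liftAddHom (R := R) (M := S) (N := T')
    { toFun := fun x =>
        { toFun := fun t => gt R x (φ.k t n)
          map_zero' := by simp [gt_zero_right]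
          map_add' := fun t t' => by simp [gt_add_right] }
      map_zero' := by ext t; simp [gt_zero_left]
      map_add' := fun x x' => by ext t; simp [gt_add_left] }
    (fun r x t => by
      show gt R (r • x) (φ.k t n) = gt R x (φ.k (r • t) n)
      rw [Algebra.smul_def, gt_smul_left, φ.lin])

@[simp] lemma plusInner_tmul {T' : Type u} [CommRing T'] [Algebra R T'] {a : S →+* T'}
    {P : ModuleCat.{u} S} (φ : BFam (R := R) N T' a P) (n : N) (x : S) (t : T') :
    plusInner φ n (x ⊗ₜ[R] t) = gt R x (φ.k t n) := rfl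

/-- `S ⊗_R -` applied to a family. -/
noncomputable def plus {T' : Type u} [CommRing T'] [Algebra R T'] {a : S →+* T'}
    {P : ModuleCat.{u} S} (φ : BFam (R := R) N T' a P) (a' : S →+* S ⊗[R] T')
    (ha' : ∀ s, a' s = 1 ⊗ₜ[R] a s) : BFam (R := R) N (S ⊗[R] T') a' (GG R P) where
  k :=
    { toFun := fun u =>
        { toFun := fun n => plusInner φ n u
          map_zero' := by
            induction u using TensorProduct.induction_on with
            | zero => simp
            | tmul x t => simp [gt_zero_right]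
            | add u v hu hv => rw [map_add, hu, hv, add_zero]
          map_add' := fun n n' => by
            induction u using TensorProduct.induction_on with
            | zero => simp
            | tmul x t => simp [gt_add_right]
            | add u v hu hv => rw [map_add, hu, hv, map_add, map_add]; abel }
      map_zero' := by ext n; simp
      map_add' := fun u v => by ext n; simp }
  bal := fun s u n => by
    show plusInner φ n (a' s * u) = plusInner φ (s • n) u
    induction u using TensorProduct.induction_on with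
    | zero => simp
    | tmul x t =>
      rw [ha', Algebra.TensorProduct.tmul_mul_tmul, one_mul, plusInner_tmul, plusInner_tmul, φ.bal]
    | add u v hu hv => rw [mul_add, map_add, hu, hv, map_add]
  lin := fun r u n => by
    show plusInner φ n (r • u) = algebraMap R S r • plusInner φ n u
    induction u using TensorProduct.induction_on with
    | zero => simp
    | tmul x t =>
      rw [TensorProduct.smul_tmul', plusInner_tmul, plusInner_tmul, gt_smul, Algebra.smul_def]
    | add u v hu hv => rw [smul_add, map_add, hu, hv, map_add, smul_add]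

@[simp] lemma plus_k_tmul {T' : Type u} [CommRing T'] [Algebra R T'] {a : S →+* T'}
    {P : ModuleCat.{u} S} (φ : BFam (R := R) N T' a P) (a' : S →+* S ⊗[R] T')
    (ha' : ∀ s, a' s = 1 ⊗ₜ[R] a s) (x : S) (t : T') (n : N) :
    (plus φ a' ha').k (x ⊗ₜ[R] t) n = gt R x (φ.k t n) := rfl

lemma plus_lift_smul {T' : Type u} [CommRing T'] [Algebra R T'] {a : S →+* T'}
    {P : ModuleCat.{u} S} (φ : BFam (R := R) N T' a P) (a' : S →+* S ⊗[R] T')
    (ha' : ∀ s, a' s = 1 ⊗ₜ[R] a s) (x : S) (e : Ex N a') :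
    (plus φ a' ha').lift ((x ⊗ₜ[R] (1 : T')) • e) = x • (plus φ a' ha').lift e := by
  induction e using ex_induction with
  | zero => simp
  | tmul u n =>
    rw [ex_smul, BFam.lift_tmul, BFam.lift_tmul]
    induction u using TensorProduct.induction_on with
    | zero => simp
    | tmul x' t =>
      rw [Algebra.TensorProduct.tmul_mul_tmul, one_mul, plus_k_tmul, plus_k_tmul, gt_smul]
    | add u v hu hv =>
      rw [mul_add, map_add, AddMonoidHom.add_apply, hu, hv, map_add, AddMonoidHom.add_apply,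
        smul_add]
  | add e e' he he' => rw [smul_add, map_add, he, he', map_add, smul_add]

end fam

section main
variable (R : Type u) {S : Type u} [CommRing R] [CommRing S] [Algebra R S] (N : ModuleCat.{u} S)

/-- An abstract descent datum for `N` along `R → S`, in functor-of-points form. -/
structure Sys where
  Θ : ∀ {T' : Type u} [CommRing T'] (a₁ a₂ : S →+* T'),
    a₁.comp (algebraMap R S) = a₂.comp (algebraMap R S) → (Ex N a₁ ⟶ Ex N a₂)
  nat : ∀ {T' T'' : Type u} [CommRing T'] [CommRing T''] (g : T' →+* T'') (a₁ a₂ : S →+* T')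
    (b₁ b₂ : S →+* T'') (h : a₁.comp (algebraMap R S) = a₂.comp (algebraMap R S))
    (h' : b₁.comp (algebraMap R S) = b₂.comp (algebraMap R S))
    (_hb₁ : g.comp a₁ = b₁) (hb₂ : g.comp a₂ = b₂) (n : N),
    Θ b₁ b₂ h' ((1 : T'') ⊗ₜ[S,b₁] n) = pushf N g a₂ b₂ hb₂ (Θ a₁ a₂ h ((1 : T') ⊗ₜ[S,a₁] n))
  self : ∀ {T' : Type u} [CommRing T'] (a : S →+* T') (e : Ex N a), Θ a a rfl e = e
  comp : ∀ {T' : Type u} [CommRing T'] (a₁ a₂ a₃ : S →+* T')
    (h₁₂ : a₁.comp (algebraMap R S) = a₂.comp (algebraMap R S))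
    (h₂₃ : a₂.comp (algebraMap R S) = a₃.comp (algebraMap R S))
    (h₁₃ : a₁.comp (algebraMap R S) = a₃.comp (algebraMap R S)) (e : Ex N a₁),
    Θ a₂ a₃ h₂₃ (Θ a₁ a₂ h₁₂ e) = Θ a₁ a₃ h₁₃ e

variable {R N}

/-- first inclusion `S → S ⊗ S` -/
noncomputable abbrev i1 : S →+* S ⊗[R] S := Algebra.TensorProduct.includeLeftRingHom
/-- second inclusion `S → S ⊗ S` -/
noncomputable abbrev i2 : S →+* S ⊗[R] S :=
  (Algebra.TensorProduct.includeRight : S →ₐ[R] S ⊗[R] S).toRingHom

lemma i1_i2 : (i1 (R := R) (S := S)).comp (algebraMap R S) = (i2 (R := R)).comp (algebraMap R S) := by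
  ext r
  show algebraMap R S r ⊗ₜ[R] (1 : S) = (1 : S) ⊗ₜ[R] algebraMap R S r
  rw [Algebra.algebraMap_eq_smul_one, TensorProduct.smul_tmul]

lemma ex_ext_tensor {A B : Type u} [CommRing A] [CommRing B] [Algebra R A] [Algebra R B]
    (a : S →+* A ⊗[R] B) {P : Type*} [AddCommGroup P] (F G : Ex N a →+ P)
    (h : ∀ (x : A) (y : B) (n : N), F ((x ⊗ₜ[R] y) ⊗ₜ[S,a] n) = G ((x ⊗ₜ[R] y) ⊗ₜ[S,a] n)) :
    F = G := by
  ext e
  induction e using ex_induction with
  | zero => simp
  | tmul u n =>
    induction u using TensorProduct.induction_on with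
    | zero => rw [ex_zero_tmul, map_zero, map_zero]
    | tmul x y => exact h x y n
    | add u v hu hv => rw [ex_add_tmul, map_add, map_add, hu, hv]
  | add e e' he he' => rw [map_add, map_add, he, he']

/-- the family for `T = S ⊗ S`. -/
noncomputable def k1 : BFam (R := R) N (S ⊗[R] S) i2 (GG R N) :=
  plus (k0 R N) i2 (fun _ => rfl)

lemma k1_k (x y : S) (n : N) : (k1 (R := R) (N := N)).k (x ⊗ₜ[R] y) n = gt R x (y • n) := rfl

/-- `ι : S ⊗_R N → T ⊗_{S,i₂} N`. -/
noncomputable def iota : GG R N →+ Ex N (i2 (R := R)) :=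
  ggLift N
    { toFun := fun x =>
        { toFun := fun n => ((x ⊗ₜ[R] (1 : S)) ⊗ₜ[S,i2] n : Ex N i2)
          map_zero' := ex_tmul_zero N i2 _
          map_add' := fun n n' => ex_tmul_add N i2 _ _ _ }
      map_zero' := by
        ext n
        show (((0 : S) ⊗ₜ[R] (1 : S)) ⊗ₜ[S,i2] n : Ex N i2) = 0
        rw [TensorProduct.zero_tmul, ex_zero_tmul]
      map_add' := fun x x' => by
        ext n
        show (((x + x') ⊗ₜ[R] (1 : S)) ⊗ₜ[S,i2] n : Ex N i2) =
          ((x ⊗ₜ[R] (1 : S)) ⊗ₜ[S,i2] n : Ex N i2) + ((x' ⊗ₜ[R] (1 : S)) ⊗ₜ[S,i2] n : Ex N i2)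
        rw [TensorProduct.add_tmul, ex_add_tmul] }
    (fun r x n => by
      show ((((algebraMap R S r * x) ⊗ₜ[R] (1 : S)) ⊗ₜ[S,i2] n) : Ex N i2) =
        ((x ⊗ₜ[R] (1 : S)) ⊗ₜ[S,i2] (algebraMap R S r • n))
      rw [← ex_smul_tmul]
      congr 1
      show (algebraMap R S r * x) ⊗ₜ[R] (1 : S) =
        ((1 : S) ⊗ₜ[R] algebraMap R S r) * (x ⊗ₜ[R] (1 : S))
      rw [Algebra.TensorProduct.tmul_mul_tmul, one_mul, mul_one, ← Algebra.smul_def,
        TensorProduct.smul_tmul, Algebra.algebraMap_eq_smul_one])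

lemma iota_gt (x : S) (n : N) :
    iota (gt R x n) = ((x ⊗ₜ[R] (1 : S)) ⊗ₜ[S,i2] n : Ex N i2) := rfl

lemma iota_k1 (e : Ex N (i2 (R := R))) : iota ((k1 (R := R) (N := N)).lift e) = e := by
  have := ex_ext_tensor (R := R) (N := N) i2 (iota.comp (k1 (R := R) (N := N)).lift)
    (AddMonoidHom.id _) (fun x y n => by
      show iota ((k1 (R := R) (N := N)).lift ((x ⊗ₜ[R] y) ⊗ₜ[S,i2] n)) =
        ((x ⊗ₜ[R] y) ⊗ₜ[S,i2] n : Ex N i2)
      rw [BFam.lift_tmul, k1_k, iota_gt]
      refine (ex_smul_tmul N i2 y (x ⊗ₜ[R] (1 : S)) n).symm.trans ?_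
      congr 1
      show ((1 : S) ⊗ₜ[R] y) * (x ⊗ₜ[R] (1 : S)) = x ⊗ₜ[R] y
      rw [Algebra.TensorProduct.tmul_mul_tmul, one_mul, mul_one])
  exact DFunLike.congr_fun this e

/-- multiplication `S ⊗ S → S` -/
noncomputable abbrev mult : S ⊗[R] S →+* S :=
  (Algebra.TensorProduct.lmul' R : S ⊗[R] S →ₐ[R] S).toRingHom

lemma mult_tmul (x y : S) : mult (R := R) (x ⊗ₜ[R] y) = x * y :=
  Algebra.TensorProduct.lmul'_apply_tmul x y

lemma mult_i1 : (mult (R := R) (S := S)).comp i1 = RingHom.id S := by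
  ext x
  show mult (R := R) (x ⊗ₜ[R] (1 : S)) = x
  rw [mult_tmul, mul_one]

lemma mult_i2 : (mult (R := R) (S := S)).comp i2 = RingHom.id S := by
  ext x
  show mult (R := R) ((1 : S) ⊗ₜ[R] x) = x
  rw [mult_tmul, one_mul]

variable (R) in
/-- the adjunction -/
noncomputable abbrev adj :
    extendScalars.{u, u, u} (algebraMap R S) ⊣ restrictScalars.{u, u, u} (algebraMap R S) :=
  extendRestrictScalarsAdj.{u, u, u} (algebraMap R S)

lemma eps_gt (x : S) (n : N) : ((adj R).counit.app N) (gt R x n) = x • n := by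
  have h : gt R x n = x • gt R 1 n := by rw [gt_smul, mul_one]
  rw [h]
  refine (((adj R).counit.app N).hom.map_smul x _).trans ?_
  congr 1
  exact extendRestrictScalarsAdj_counit_app_apply_one_tmul _ N n

lemma counit_k1 (e : Ex N (i2 (R := R))) :
    ((adj R).counit.app N) ((k1 (R := R) (N := N)).lift e) =
      (k0 R N).lift (pushf N mult i2 (RingHom.id S) mult_i2 e) := by
  have := ex_ext_tensor (R := R) (N := N) i2
    (((adj R).counit.app N).hom.toAddMonoidHom.comp (k1 (R := R) (N := N)).lift)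
    ((k0 R N).lift.comp (pushf N mult i2 (RingHom.id S) mult_i2)) (fun x y n => by
      show ((adj R).counit.app N) ((k1 (R := R) (N := N)).lift ((x ⊗ₜ[R] y) ⊗ₜ[S,i2] n)) =
        (k0 R N).lift (pushf N mult i2 (RingHom.id S) mult_i2 ((x ⊗ₜ[R] y) ⊗ₜ[S,i2] n))
      rw [BFam.lift_tmul, k1_k, eps_gt, pushf_tmul, BFam.lift_tmul, k0_k, mult_tmul, mul_smul])
  exact DFunLike.congr_fun this e

variable (σ : Sys R N)

/-- the coalgebra structure map -/
noncomputable def beta : N ⟶ GG R N :=
  ModuleCat.ofHom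
    { toFun := fun n =>
        (k1 (R := R) (N := N)).lift (σ.Θ i1 i2 i1_i2 ((1 : S ⊗[R] S) ⊗ₜ[S,i1] n))
      map_add' := fun n n' => by
        rw [ex_tmul_add]
        rw [(σ.Θ i1 i2 i1_i2).hom.map_add, map_add]
      map_smul' := fun s n => by
        have h : ((1 : S ⊗[R] S) ⊗ₜ[S,i1] (s • n) : Ex N (i1 (R := R))) =
            (i1 (R := R) s) • ((1 : S ⊗[R] S) ⊗ₜ[S,i1] n : Ex N (i1 (R := R))) := by
          rw [ex_smul]
          exact (ex_smul_tmul N (i1 (R := R)) s 1 n).symm
        rw [h, (σ.Θ i1 i2 i1_i2).hom.map_smul, RingHom.id_apply]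
        exact plus_lift_smul (k0 R N) i2 _ s _ }

lemma beta_apply (n : N) : beta σ n =
    (k1 (R := R) (N := N)).lift (σ.Θ i1 i2 i1_i2 ((1 : S ⊗[R] S) ⊗ₜ[S,i1] n)) := rfl

lemma beta_counit : beta σ ≫ (adj R).counit.app N = 𝟙 N := by
  ext n
  show ((adj R).counit.app N) (beta σ n) = n
  rw [beta_apply, counit_k1,
    ← σ.nat mult i1 i2 (RingHom.id S) (RingHom.id S) i1_i2 rfl mult_i1 mult_i2 n, σ.self,
    BFam.lift_tmul, k0_k, one_smul]

/-- `T₃ = S ⊗ (S ⊗ S)` and its structure maps. -/
noncomputable abbrev g23 : S ⊗[R] S →+* S ⊗[R] (S ⊗[R] S) :=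
  (Algebra.TensorProduct.includeRight : S ⊗[R] S →ₐ[R] S ⊗[R] (S ⊗[R] S)).toRingHom
noncomputable abbrev g12 : S ⊗[R] S →+* S ⊗[R] (S ⊗[R] S) :=
  (Algebra.TensorProduct.map (AlgHom.id R S)
    (Algebra.TensorProduct.includeLeft : S →ₐ[R] S ⊗[R] S)).toRingHom
noncomputable abbrev g13 : S ⊗[R] S →+* S ⊗[R] (S ⊗[R] S) :=
  (Algebra.TensorProduct.map (AlgHom.id R S)
    (Algebra.TensorProduct.includeRight : S →ₐ[R] S ⊗[R] S)).toRingHom
noncomputable abbrev j1 : S →+* S ⊗[R] (S ⊗[R] S) := Algebra.TensorProduct.includeLeftRingHom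
noncomputable abbrev j2 : S →+* S ⊗[R] (S ⊗[R] S) := (g23 (R := R)).comp i1
noncomputable abbrev j3 : S →+* S ⊗[R] (S ⊗[R] S) := (g23 (R := R)).comp i2

lemma g12_tmul (x y : S) : g12 (R := R) (x ⊗ₜ[R] y) = x ⊗ₜ[R] (y ⊗ₜ[R] (1 : S)) := rfl
lemma g13_tmul (x y : S) : g13 (R := R) (x ⊗ₜ[R] y) = x ⊗ₜ[R] ((1 : S) ⊗ₜ[R] y) := rfl
lemma g23_apply (t : S ⊗[R] S) : g23 (R := R) t = (1 : S) ⊗ₜ[R] t := rfl

lemma g12_i1 : (g12 (R := R) (S := S)).comp i1 = j1 := by
  ext x
  show g12 (R := R) (x ⊗ₜ[R] (1 : S)) = x ⊗ₜ[R] (1 : S ⊗[R] S)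
  rw [g12_tmul, Algebra.TensorProduct.one_def]
lemma g12_i2 : (g12 (R := R) (S := S)).comp i2 = j2 := by
  ext y
  show g12 (R := R) ((1 : S) ⊗ₜ[R] y) = (1 : S) ⊗ₜ[R] (y ⊗ₜ[R] (1 : S))
  rw [g12_tmul]
lemma g13_i1 : (g13 (R := R) (S := S)).comp i1 = j1 := by
  ext x
  show g13 (R := R) (x ⊗ₜ[R] (1 : S)) = x ⊗ₜ[R] (1 : S ⊗[R] S)
  rw [g13_tmul, Algebra.TensorProduct.one_def]
lemma g13_i2 : (g13 (R := R) (S := S)).comp i2 = j3 := by
  ext y
  show g13 (R := R) ((1 : S) ⊗ₜ[R] y) = (1 : S) ⊗ₜ[R] ((1 : S) ⊗ₜ[R] y)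
  rw [g13_tmul]

lemma j1_j2 : (j1 (R := R) (S := S)).comp (algebraMap R S) = (j2 (R := R)).comp (algebraMap R S) := by
  rw [← g12_i1, ← g12_i2, RingHom.comp_assoc, RingHom.comp_assoc, i1_i2]
lemma j2_j3 : (j2 (R := R) (S := S)).comp (algebraMap R S) = (j3 (R := R)).comp (algebraMap R S) := by
  rw [j2, j3, RingHom.comp_assoc, RingHom.comp_assoc, i1_i2]
lemma j1_j3 : (j1 (R := R) (S := S)).comp (algebraMap R S) = (j3 (R := R)).comp (algebraMap R S) :=
  j1_j2.trans j2_j3

/-- the family for `T₃`. -/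
noncomputable def k3 : BFam (R := R) N (S ⊗[R] (S ⊗[R] S)) j3 (GG R (GG R N)) :=
  plus k1 j3 (fun _ => rfl)

lemma k3_k (x y z : S) (n : N) :
    (k3 (R := R) (N := N)).k (x ⊗ₜ[R] (y ⊗ₜ[R] z)) n = gt R x (gt R y (z • n)) := rfl

/-- `gt x` as an additive map. -/
noncomputable def gtHom (X : ModuleCat.{u} S) (x : S) : X →+ GG R X where
  toFun := gt R x
  map_zero' := gt_zero_right X x
  map_add' := gt_add_right X x

/-- comultiplication, with a convenient type -/
noncomputable abbrev dlt (X : ModuleCat.{u} S) : GG R X ⟶ GG R (GG R X) :=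
  (extendScalars (algebraMap R S)).map
    ((adj R).unit.app ((restrictScalars (algebraMap R S)).obj X))

/-- the functor `GG` on maps -/
noncomputable abbrev Gm {X Y : ModuleCat.{u} S} (φ : X ⟶ Y) : GG R X ⟶ GG R Y :=
  (extendScalars (algebraMap R S)).map ((restrictScalars (algebraMap R S)).map φ)

lemma delta_gt (x : S) (n : N) :
    (dlt (R := R) N) (gt R x n) = gt R x (gt R (1 : S) n) := rfl

lemma Gmap_gt {X Y : ModuleCat.{u} S} (φ : X ⟶ Y) (x : S) (n : X) :
    (Gm (R := R) φ) (gt R x n) = gt R x (φ n) := rfl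

@[elab_as_elim]
lemma ex_induction₂ {A B : Type u} [CommRing A] [CommRing B] [Algebra R A] [Algebra R B]
    (a : S →+* A ⊗[R] B) {motive : Ex N a → Prop}
    (zero : motive 0) (tmul : ∀ (x : A) (y : B) (n : N), motive ((x ⊗ₜ[R] y) ⊗ₜ[S,a] n))
    (add : ∀ e e', motive e → motive e' → motive (e + e')) (e : Ex N a) : motive e := by
  induction e using ex_induction with
  | zero => exact zero
  | tmul u n =>
    induction u using TensorProduct.induction_on with
    | zero => rw [ex_zero_tmul]; exact zero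
    | tmul x y => exact tmul x y n
    | add u v hu hv => rw [ex_add_tmul]; exact add _ _ hu hv
  | add e e' he he' => exact add _ _ he he'

lemma k3_smul_pushf (x y : S) (e' : Ex N (i2 (R := R))) :
    (k3 (R := R) (N := N)).lift
        ((x ⊗ₜ[R] (y ⊗ₜ[R] (1 : S))) • pushf N g23 i2 j3 rfl e') =
      gt R x (y • (k1 (R := R) (N := N)).lift e') := by
  induction e' using ex_induction₂ with
  | zero => rw [map_zero, smul_zero, map_zero, map_zero, smul_zero, gt_zero_right]
  | tmul x' y' n =>
    rw [pushf_tmul, ex_smul, BFam.lift_tmul, BFam.lift_tmul, k1_k, g23_apply,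
      Algebra.TensorProduct.tmul_mul_tmul, Algebra.TensorProduct.tmul_mul_tmul, mul_one, one_mul,
      k3_k, gt_smul]
  | add e e' he he' =>
    rw [map_add, smul_add, map_add, he, he', map_add, smul_add, gt_add_right]

end main

end Groth.Agent.Lib.R2LeadDescB
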