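import Groth.Agent.Lib.R2LeadExtSum5
universe u
open TensorProduct

namespace Groth.Agent.Lib.R2LeadExtSum

section cot
variable {P B : Type u} [CommRing P] [CommRing B] [Algebra P B]
  {r : ℕ} (F : Fin r → P) (I₀ : Ideal P)

/-- the class of `F a` in the cotangent module -/
noncomputable def cgen (hI : I₀ = Ideal.span (Set.range F)) (a : Fin r) : I₀.Cotangent :=
  I₀.toCotangent ⟨F a, hI ▸ Ideal.subset_span ⟨a, rfl⟩⟩

theorem exists_cotEquiv (hsurj : Function.Surjective (algebraMap P B))
    (hker : RingHom.ker (algebraMap P B) = I₀)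
    (hI : I₀ = Ideal.span (Set.range F))
    (hind : ∀ p : Fin r → P, ∑ a, p a * F a ∈ I₀ ^ 2 → ∀ a, p a ∈ I₀) :
    ∃ χ : I₀.Cotangent →ₗ[P] (Fin r → B), Function.Bijective χ ∧
      ∀ a, χ (cgen F I₀ hI a) = Pi.single a 1 := by
  classical
  have hFmem : ∀ a, F a ∈ I₀ := fun a => hI ▸ Ideal.subset_span ⟨a, rfl⟩
  let g : (Fin r → P) →ₗ[P] I₀.Cotangent := Fintype.linearCombination P (cgen F I₀ hI)
  let q : (Fin r → P) →ₗ[P] (Fin r → B) := (Algebra.linearMap P B).compLeft (Fin r)
  have hg_apply : ∀ p : Fin r → P, g p = I₀.toCotangent ⟨∑ a, p a * F a,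
      I₀.sum_mem fun a _ => I₀.mul_mem_left _ (hFmem a)⟩ := by
    intro p
    have h1 : (⟨∑ a, p a * F a, I₀.sum_mem fun a _ => I₀.mul_mem_left _ (hFmem a)⟩ : I₀) =
        ∑ a, p a • (⟨F a, hFmem a⟩ : I₀) := by
      apply Subtype.ext
      simp [Submodule.coe_sum]
    rw [h1, map_sum]
    simp only [g, Fintype.linearCombination_apply, cgen, map_smul]
  have hq_apply : ∀ (p : Fin r → P) a, q p a = algebraMap P B (p a) := fun p a => rfl
  have hg_surj : Function.Surjective g := by
    intro x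
    obtain ⟨⟨y, hy⟩, rfl⟩ := I₀.toCotangent_surjective x
    have hy' : y ∈ Submodule.span P (Set.range F) := by
      have := hy
      rw [hI] at this
      exact this
    obtain ⟨c, hc⟩ := (Submodule.mem_span_range_iff_exists_fun P).1 hy'
    refine ⟨c, ?_⟩
    rw [hg_apply]
    congr 1
    apply Subtype.ext
    simpa using hc
  have hq_surj : Function.Surjective q := by
    intro y
    choose p hp using fun a => hsurj (y a)
    exact ⟨p, funext fun a => (hq_apply p a).trans (hp a)⟩
  have hgq : LinearMap.ker g ≤ LinearMap.ker q := by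
    intro p hp
    rw [LinearMap.mem_ker, hg_apply, Ideal.toCotangent_eq_zero] at hp
    have := hind p hp
    rw [LinearMap.mem_ker]
    funext a
    rw [hq_apply, Pi.zero_apply, ← RingHom.mem_ker, hker]
    exact this a
  have hqg : LinearMap.ker q ≤ LinearMap.ker g := by
    intro p hp
    rw [LinearMap.mem_ker] at hp
    rw [LinearMap.mem_ker, hg_apply, Ideal.toCotangent_eq_zero, pow_two]
    show ∑ a, p a * F a ∈ I₀ * I₀
    refine Ideal.sum_mem _ fun a _ => Ideal.mul_mem_mul ?_ (hFmem a)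
    rw [← hker, RingHom.mem_ker, ← hq_apply, hp, Pi.zero_apply]
  obtain ⟨χ, hχ⟩ := exists_factor g hg_surj q hgq
  have hχ' : ∀ p, χ (g p) = q p := fun p => DFunLike.congr_fun hχ p
  refine ⟨χ, ⟨?_, ?_⟩, ?_⟩
  · rw [injective_iff_map_eq_zero]
    intro x hx
    obtain ⟨p, rfl⟩ := hg_surj x
    rw [hχ'] at hx
    exact hqg hx
  · intro y
    obtain ⟨p, rfl⟩ := hq_surj y
    exact ⟨g p, hχ' p⟩
  · intro a
    have h1 : g (Pi.single a 1) = cgen F I₀ hI a := by
      simp [g, Fintype.linearCombination_apply_single]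
    rw [← h1, hχ']
    funext b
    rw [hq_apply]
    by_cases hab : b = a
    · subst hab
      simp
    · simp [Pi.single_apply, hab]

end cot

end Groth.Agent.Lib.R2LeadExtSum
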