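import Groth.Agent.Lib.R2LeadDetSm1
universe u
open TensorProduct KaehlerDifferential

namespace Groth.Agent.Lib.R2LeadExtSum

section main
variable (A P B : Type u) [CommRing A] [CommRing P] [CommRing B] [Algebra A P] [Algebra P B]
  [Algebra A B] [IsScalarTower A P B]

theorem nonempty_equiv_general (hsurj : Function.Surjective (algebraMap P B))
    [Algebra.FormallySmooth A P] [Algebra.FormallySmooth A B]
    (n r : ℕ) (hrn : r ≤ n) (bΩ : Module.Basis (Fin n) P Ω[P⁄A]) (F : Fin r → P)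
    (hI : RingHom.ker (algebraMap P B) = Ideal.span (Set.range F))
    (hind : ∀ p : Fin r → P, ∑ a, p a * F a ∈ (RingHom.ker (algebraMap P B)) ^ 2 →
      ∀ a, p a ∈ RingHom.ker (algebraMap P B)) :
    Nonempty (⋀[B]^(n - r) Ω[B⁄A] ≃ₗ[B] ⋀[B]^n (B ⊗[P] Ω[P⁄A])) := by
  classical
  obtain ⟨ρ, hρ⟩ := (Algebra.FormallySmooth.iff_split_injection (R := A) (P := P) (A := B) hsurj).1
    inferInstance
  obtain ⟨χ, ⟨hχinj, hχsurj⟩, hχ⟩ := exists_cotEquiv (B := B) F (RingHom.ker (algebraMap P B)) hsurj rfl hI hind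
  have hρ' : ∀ x, ρ (kerCotangentToTensor A P B x) = x := fun x => DFunLike.congr_fun hρ x
  let π : B ⊗[P] Ω[P⁄A] →ₗ[B] Ω[B⁄A] := KaehlerDifferential.mapBaseChange A P B
  have hπsurj : Function.Surjective π := KaehlerDifferential.mapBaseChange_surjective A P B hsurj
  have hex := KaehlerDifferential.exact_kerCotangentToTensor_mapBaseChange A P B hsurj
  let l : Fin r → Module.Dual B (B ⊗[P] Ω[P⁄A]) := fun a =>
    (((LinearMap.proj a : (Fin r → B) →ₗ[P] B) ∘ₗ χ) ∘ₗ ρ).extendScalarsOfSurjective hsurj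
  have hl : ∀ a v, l a v = χ (ρ v) a := fun a v => rfl
  let J : Fin r → B ⊗[P] Ω[P⁄A] := fun a => kerCotangentToTensor A P B (cgen F _ hI a)
  let e : B ⊗[P] Ω[P⁄A] →ₗ[B] B ⊗[P] Ω[P⁄A] :=
    (LinearMap.id - (kerCotangentToTensor A P B) ∘ₗ ρ).extendScalarsOfSurjective hsurj
  have he : ∀ v, e v = v - kerCotangentToTensor A P B (ρ v) := fun v => rfl
  have hker : LinearMap.ker π ≤ LinearMap.ker e := by
    intro v hv
    rw [LinearMap.mem_ker] at hv
    obtain ⟨x, rfl⟩ := (hex v).1 hv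
    rw [LinearMap.mem_ker, he, hρ', sub_self]
  obtain ⟨s, hs⟩ := exists_factor π hπsurj e hker
  have hs' : ∀ v, s (π v) = v - kerCotangentToTensor A P B (ρ v) := fun v =>
    (DFunLike.congr_fun hs v).trans (he v)
  have hπj : ∀ x, π (kerCotangentToTensor A P B x) = 0 := fun x => (hex _).2 ⟨x, rfl⟩
  have hπs : π ∘ₗ s = LinearMap.id := by
    refine LinearMap.ext fun q => ?_
    obtain ⟨v, rfl⟩ := hπsurj q
    simp only [LinearMap.comp_apply, LinearMap.id_apply]
    rw [hs', map_sub, hπj, sub_zero]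
  have hlJ : ∀ a b, l a (J b) = if a = b then 1 else 0 := by
    intro a b
    rw [hl, hρ', hχ, Pi.single_apply]
  have hls : ∀ a q, l a (s q) = 0 := by
    intro a q
    obtain ⟨v, rfl⟩ := hπsurj q
    rw [hs', hl, map_sub, hρ', sub_self, map_zero, Pi.zero_apply]
  have hdec : ∀ v, v = ∑ a, l a v • J a + s (π v) := by
    intro v
    rw [hs']
    suffices h : kerCotangentToTensor A P B (ρ v) = ∑ a, l a v • J a by
      rw [← h]; abel
    choose p hp using fun a => hsurj (χ (ρ v) a)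
    have h1 : ρ v = ∑ a, p a • cgen F _ hI a := by
      apply hχinj
      rw [map_sum]
      funext b
      simp only [map_smul, hχ, Finset.sum_apply, Pi.smul_apply, Pi.single_apply]
      rw [Finset.sum_eq_single b]
      · simp [hp, Algebra.smul_def]
      · intro c _ hcb
        simp [hcb.symm]
      · simp
    rw [h1, map_sum]
    refine Finset.sum_congr rfl fun a _ => ?_
    rw [map_smul, hl, ← hp a, algebraMap_smul]
  have hF : ∀ m, n < m → VF (B := B) (B ⊗[P] Ω[P⁄A]) ^ m = ⊥ :=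
    fun m hm => extPow_eq_bot (bΩ.baseChange B) m hm
  exact top_equiv s π J l n hF hrn hπs hlJ hls hdec

end main

end Groth.Agent.Lib.R2LeadExtSum
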