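import Groth.Agent.Lib.R2LeadDetSm2
import Groth.Agent.Lib.H6xCIH
import Groth.Agent.Lib.R2H3KzCotProj
universe u
open TensorProduct KaehlerDifferential

namespace Groth.Agent.Lib.R2LeadExtSum

theorem main (A : Type u) [CommRing A] [IsNoetherianRing A]
    (n r : ℕ) (hrn : r ≤ n) (F : Fin r → MvPolynomial (Fin n) A)
    (hreg : RingTheory.Sequence.IsWeaklyRegular (MvPolynomial (Fin n) A) (List.ofFn F))
    (I : Ideal (MvPolynomial (Fin n) A)) (hI : I = Ideal.span (Set.range F))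
    [Algebra.Smooth A (MvPolynomial (Fin n) A ⧸ I)] :
    Nonempty ((Module.Dual (MvPolynomial (Fin n) A ⧸ I) (⋀[MvPolynomial (Fin n) A ⧸ I]^r I.Cotangent)) ⊗[MvPolynomial (Fin n) A ⧸ I]
        ((MvPolynomial (Fin n) A ⧸ I) ⊗[MvPolynomial (Fin n) A] (⋀[MvPolynomial (Fin n) A]^n (Ω[MvPolynomial (Fin n) A⁄A])))
      ≃ₗ[MvPolynomial (Fin n) A ⧸ I] (⋀[MvPolynomial (Fin n) A ⧸ I]^(n - r) (Ω[(MvPolynomial (Fin n) A ⧸ I)⁄A]))) := by
  classical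
  have hsurj : Function.Surjective (algebraMap (MvPolynomial (Fin n) A) (MvPolynomial (Fin n) A ⧸ I)) :=
    Ideal.Quotient.mk_surjective
  have hker : RingHom.ker (algebraMap (MvPolynomial (Fin n) A) (MvPolynomial (Fin n) A ⧸ I)) = I :=
    Ideal.mk_ker
  have hH1 := Groth.Agent.Lib.H6xCI.isH1Regular_of_isWeaklyRegular_ofFn F hreg
  have hind : ∀ p : Fin r → MvPolynomial (Fin n) A, ∑ a, p a * F a ∈ I ^ 2 → ∀ a, p a ∈ I := by
    intro p hp a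
    rw [hI] at hp ⊢
    exact Groth.Agent.Lib.R2H3.KzCotProj.mem_of_sum_mem_sq F hH1 p hp a
  let bΩ : Module.Basis (Fin n) (MvPolynomial (Fin n) A) Ω[MvPolynomial (Fin n) A⁄A] :=
    KaehlerDifferential.mvPolynomialBasis A (Fin n)
  -- right-hand side
  obtain ⟨e1⟩ := nonempty_equiv_general A (MvPolynomial (Fin n) A) (MvPolynomial (Fin n) A ⧸ I) hsurj n r hrn bΩ F
    (hker.trans hI) (by rw [hker]; exact hind)
  let e2 : ⋀[MvPolynomial (Fin n) A ⧸ I]^n ((MvPolynomial (Fin n) A ⧸ I) ⊗[MvPolynomial (Fin n) A] Ω[MvPolynomial (Fin n) A⁄A])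
      ≃ₗ[MvPolynomial (Fin n) A ⧸ I] (MvPolynomial (Fin n) A ⧸ I) :=
    extTopEquiv (bΩ.baseChange (MvPolynomial (Fin n) A ⧸ I))
  -- left-hand side
  obtain ⟨χ, hχbij, -⟩ := exists_cotEquiv (B := MvPolynomial (Fin n) A ⧸ I) F I hsurj hker hI hind
  let χB : I.Cotangent ≃ₗ[MvPolynomial (Fin n) A ⧸ I] (Fin r → (MvPolynomial (Fin n) A ⧸ I)) :=
    LinearEquiv.ofBijective (χ.extendScalarsOfSurjective hsurj) hχbij
  let bK : Module.Basis (Fin r) (MvPolynomial (Fin n) A ⧸ I) I.Cotangent := Module.Basis.ofEquivFun χB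
  let e3 : ⋀[MvPolynomial (Fin n) A ⧸ I]^r I.Cotangent ≃ₗ[MvPolynomial (Fin n) A ⧸ I] (MvPolynomial (Fin n) A ⧸ I) :=
    extTopEquiv bK
  let e4 : Module.Dual (MvPolynomial (Fin n) A ⧸ I) (⋀[MvPolynomial (Fin n) A ⧸ I]^r I.Cotangent)
      ≃ₗ[MvPolynomial (Fin n) A ⧸ I] (MvPolynomial (Fin n) A ⧸ I) :=
    e3.symm.dualMap ≪≫ₗ LinearMap.ringLmapEquivSelf _ _ _
  let e5 : ⋀[MvPolynomial (Fin n) A]^n (Ω[MvPolynomial (Fin n) A⁄A]) ≃ₗ[MvPolynomial (Fin n) A] MvPolynomial (Fin n) A :=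
    extTopEquiv bΩ
  let e6 : (MvPolynomial (Fin n) A ⧸ I) ⊗[MvPolynomial (Fin n) A] (⋀[MvPolynomial (Fin n) A]^n (Ω[MvPolynomial (Fin n) A⁄A]))
      ≃ₗ[MvPolynomial (Fin n) A ⧸ I] (MvPolynomial (Fin n) A ⧸ I) :=
    (LinearEquiv.baseChange _ (MvPolynomial (Fin n) A ⧸ I) _ _ e5) ≪≫ₗ TensorProduct.AlgebraTensorModule.rid _ _ _
  exact ⟨(TensorProduct.congr e4 e6) ≪≫ₗ TensorProduct.lid _ _ ≪≫ₗ e2.symm ≪≫ₗ e1.symm⟩

end Groth.Agent.Lib.R2LeadExtSum
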