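import Groth.Agent.Lib.R2LeadExtSum3
universe u
open ExteriorAlgebra

namespace Groth.Agent.Lib.R2LeadExtSum

section top
variable {B : Type u} [CommRing B] {F Q : Type u} [AddCommGroup F] [Module B F]
  [AddCommGroup Q] [Module B Q] (s : Q →ₗ[B] F) (π : F →ₗ[B] Q) {r : ℕ} (J : Fin r → F)
  (l : Fin r → Module.Dual B F)

lemma Csub_eq : Csub s = Submodule.map (ExteriorAlgebra.map s).toLinearMap (VF (B := B) Q) := by
  have h1 : (ι B : F →ₗ[B] ExteriorAlgebra B F) ∘ₗ s = (ExteriorAlgebra.map s).toLinearMap ∘ₗ (ι B) := by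
    ext q
    simp [ExteriorAlgebra.map_apply_ι]
  have h2 : (Set.range fun q => ι B (s q)) = ((LinearMap.range ((ι B : F →ₗ[B] ExteriorAlgebra B F) ∘ₗ s) : Submodule B _) : Set _) := by
    ext x
    simp
  rw [Csub, h2, Submodule.span_eq, h1, LinearMap.range_comp]

lemma Csub_pow_eq (j : ℕ) :
    Csub s ^ j = Submodule.map (ExteriorAlgebra.map s).toLinearMap (VF (B := B) Q ^ j) := by
  rw [Csub_eq, Submodule.map_pow]

/-- the list of pairs -/
noncomputable def LL : List (Module.Dual B F × F) := List.ofFn fun a => (l a, J a)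

lemma kap_LL : kap (LL J l) = ExteriorAlgebra.ιMulti B r J := by
  rw [kap, LL, List.map_ofFn, ExteriorAlgebra.ιMulti_apply]
  rfl

lemma kap_mem : kap (LL J l) ∈ VF (B := B) F ^ r := by
  rw [kap_LL]
  exact (exteriorPower.ιMulti B r J).2

lemma phi_mem (j : ℕ) (ω : ExteriorAlgebra B Q) (hω : ω ∈ VF (B := B) Q ^ j) :
    phi s (LL J l) ω ∈ VF (B := B) F ^ (r + j) := by
  rw [phi_apply, pow_add]
  refine Submodule.mul_mem_mul (kap_mem J l) ?_
  have h1 : ExteriorAlgebra.map s ω ∈ Csub s ^ j := by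
    rw [Csub_pow_eq]
    exact ⟨ω, hω, rfl⟩
  exact pow_le_pow_left' (Csub_le s) j h1

include π in
theorem top_equiv (n : ℕ) (hF : ∀ m, n < m → VF (B := B) F ^ m = ⊥) (hrn : r ≤ n)
    (hπs : π ∘ₗ s = LinearMap.id)
    (hlJ : ∀ a b, l a (J b) = if a = b then 1 else 0) (hls : ∀ a q, l a (s q) = 0)
    (hdec : ∀ v, v = ∑ a, l a v • J a + s (π v)) :
    Nonempty (⋀[B]^(n - r) Q ≃ₗ[B] ⋀[B]^n F) := by
  have h1 : ∀ p ∈ LL J l, p.1 p.2 = 1 := by
    intro p hp
    obtain ⟨a, rfl⟩ := (List.mem_ofFn' _ _).1 hp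
    simp [hlJ]
  have h2 : (LL J l).Pairwise fun p q => p.1 q.2 = 0 := by
    rw [LL, List.pairwise_ofFn]
    intro a b hab
    simp [hlJ, hab.ne]
  have h3 : ∀ p ∈ LL J l, ∀ q, p.1 (s q) = 0 := by
    intro p hp q
    obtain ⟨a, rfl⟩ := (List.mem_ofFn' _ _).1 hp
    exact hls a q
  have hinj := phi_injective s π hπs (LL J l) h1 h2 h3
  have hQ : ∀ j, n - r < j → VF (B := B) Q ^ j = ⊥ := by
    intro j hj
    rw [eq_bot_iff]
    intro ω hω
    have := phi_mem s J l j ω hω
    rw [hF (r + j) (by omega), Submodule.mem_bot] at this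
    rw [Submodule.mem_bot]
    exact hinj (this.trans (map_zero _).symm)
  have hsurj : VF (B := B) F ^ n ≤ Submodule.map (phi s (LL J l)) (VF (B := B) Q ^ (n - r)) := by
    refine (VF_pow_le s π J l hdec n).trans ?_
    refine iSup_le fun i => iSup_le fun j => iSup_le fun h => ?_
    rcases lt_trichotomy i r with hi | hi | hi
    · rw [Csub_pow_eq, hQ j (by omega), Submodule.map_bot, Submodule.mul_bot]
      exact bot_le
    · subst hi
      have hj : j = n - i := by omega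
      subst hj
      refine (mul_le_mul' (Asub_pow_le J) le_rfl).trans ?_
      rw [Submodule.mul_le]
      intro m hm x hx
      rw [Submodule.mem_span_singleton] at hm
      obtain ⟨c, rfl⟩ := hm
      rw [Csub_pow_eq] at hx
      obtain ⟨ω, hω, rfl⟩ := hx
      refine ⟨c • ω, Submodule.smul_mem _ _ hω, ?_⟩
      rw [map_smul, phi_apply, kap_LL]
      simp
    · rw [Asub_pow_eq_bot J i hi, Submodule.bot_mul]
      exact bot_le
  have hmem : ∀ ω ∈ (⋀[B]^(n - r) Q), phi s (LL J l) ω ∈ (⋀[B]^n F) := by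
    intro ω hω
    have := phi_mem s J l (n - r) ω hω
    rwa [Nat.add_sub_cancel' hrn] at this
  refine ⟨LinearEquiv.ofBijective ((phi s (LL J l)).restrict hmem) ⟨?_, ?_⟩⟩
  · intro x y hxy
    apply Subtype.ext
    apply hinj
    exact congrArg Subtype.val hxy
  · rintro ⟨y, hy⟩
    obtain ⟨ω, hω, rfl⟩ := hsurj hy
    exact ⟨⟨ω, hω⟩, rfl⟩

end top

end Groth.Agent.Lib.R2LeadExtSum
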