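import Groth.Agent.Lib.R2LeadDiagRegA
import Groth.Agent.Lib.R2LeadDiagRegB

/-!
# The diagonal of a smooth variety is a regular immersion of codimension `dim X` (lead)
-/

set_option autoImplicit false
set_option linter.style.haveILetI false
universe u

open CategoryTheory CategoryTheory.Limits AlgebraicGeometry TopologicalSpace RingTheory.Sequence

namespace Groth.Agent.Lib.R2LeadDiagRegC

open Groth.Agent.Lib.R2LeadDiagRegA Groth.Agent.Lib.R2LeadDiagRegB

theorem main (K : Type u) [Field K] [IsAlgClosed K] (X : Scheme.{u})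
    (f : X ⟶ Spec (CommRingCat.of K)) [Smooth f] [IsSeparated f] [QuasiCompact f] [IsIntegral X]
    (n : ℕ) (hn : topologicalKrullDim X = n) :
    RegImm.IsRegularImmersionOfCodim RegImm.Kind.regular n (pullback.diagonal f) := by
  have hΔ : pullback.diagonal f ≫ pullback.fst f f = 𝟙 X := pullback.diagonal_fst f
  have hreg := Groth.Agent.Lib.R2H3.KzSection.isRegularImmersion_section_regular
    (pullback.fst f f) (pullback.diagonal f) hΔ
  refine ⟨hreg.1, fun y => ?_⟩
  haveI : CompactSpace ↥X := QuasiCompact.compactSpace_of_compactSpace f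
  obtain ⟨y₀, hy₀mem, hy₀cl⟩ :=
    (isClosed_closure : IsClosed (closure ({y} : Set X))).exists_closed_singleton
      ⟨y, subset_closure rfl⟩
  have hspec : y ⤳ y₀ := specializes_iff_mem_closure.mpr hy₀mem
  obtain ⟨U, hz, hcl, rs, hregs, hker⟩ := hreg.2 y₀
  refine ⟨U, ?_, hcl, rs, ?_, hregs, hker⟩
  · exact (hspec.map (pullback.diagonal f).continuous).mem_open U.1.isOpen hz
  · haveI := hcl
    haveI : IsLocallyNoetherian (pullback f f) :=
      LocallyOfFiniteType.isLocallyNoetherian (pullback.fst f f ≫ f)
    haveI : IsPreimmersion (pullback.diagonal f) := inferInstance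
    have h1 := dim_add_length (pullback.diagonal f) y₀ U hz rs hregs.1 hker
    have hπ : (pullback.fst f f) ((pullback.diagonal f) y₀) = y₀ := by
      rw [← Scheme.Hom.comp_apply, hΔ]
      rfl
    have hzcl : IsClosed ({(pullback.diagonal f) y₀} : Set ↥(pullback f f)) := by
      have := (pullback.diagonal f).isClosedEmbedding.isClosedMap _ hy₀cl
      rwa [Set.image_singleton] at this
    have h2 := dim_stalk_pullback K f n hn ((pullback.diagonal f) y₀) hzcl (by rw [hπ]; exact hy₀cl)
    rw [hπ] at h2
    have h3 := dim_stalk_closed K f n hn y₀ hy₀cl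
    rw [h2, h3] at h1
    have h4 : ((n + rs.length : ℕ) : WithBot ℕ∞) = ((n + n : ℕ) : WithBot ℕ∞) := by
      push_cast
      exact h1
    have h5 : n + rs.length = n + n := by exact_mod_cast h4
    omega

end Groth.Agent.Lib.R2LeadDiagRegC
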