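import Mathlib

set_option autoImplicit false
universe u v
open TensorProduct

namespace Groth.Agent.Lib.R2LeadDiagSym3

variable (k : Type u) [Field k] [CharZero k] (A : Type v) [CommRing A] [Algebra k A]

/-- swap of the first two factors -/
noncomputable def s₁ : A ⊗[k] (A ⊗[k] A) →ₗ[k] A ⊗[k] (A ⊗[k] A) :=
  (TensorProduct.leftComm k A A A).toLinearMap

/-- swap of the last two factors -/
noncomputable def s₂ : A ⊗[k] (A ⊗[k] A) →ₗ[k] A ⊗[k] (A ⊗[k] A) :=
  LinearMap.lTensor A (TensorProduct.comm k A A).toLinearMap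

@[simp] lemma s₁_tmul (a b c : A) : s₁ k A (a ⊗ₜ[k] (b ⊗ₜ[k] c)) = b ⊗ₜ[k] (a ⊗ₜ[k] c) := rfl
@[simp] lemma s₂_tmul (a b c : A) : s₂ k A (a ⊗ₜ[k] (b ⊗ₜ[k] c)) = a ⊗ₜ[k] (c ⊗ₜ[k] b) := rfl

/-- the symmetrizer -/
noncomputable def N : A ⊗[k] (A ⊗[k] A) →ₗ[k] A ⊗[k] (A ⊗[k] A) :=
  LinearMap.id + s₁ k A + s₂ k A + s₁ k A ∘ₗ s₂ k A + s₂ k A ∘ₗ s₁ k A + s₁ k A ∘ₗ s₂ k A ∘ₗ s₁ k A

lemma N_tmul (a b c : A) : N k A (a ⊗ₜ[k] (b ⊗ₜ[k] c)) =
    a ⊗ₜ[k] (b ⊗ₜ[k] c) + b ⊗ₜ[k] (a ⊗ₜ[k] c) + a ⊗ₜ[k] (c ⊗ₜ[k] b) + c ⊗ₜ[k] (a ⊗ₜ[k] b)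
      + b ⊗ₜ[k] (c ⊗ₜ[k] a) + c ⊗ₜ[k] (b ⊗ₜ[k] a) := by
  simp [N]

lemma s₁_N : s₁ k A ∘ₗ N k A = N k A := by
  apply TensorProduct.ext_threefold'
  intro a b c
  simp only [LinearMap.comp_apply, N_tmul, map_add, s₁_tmul]
  abel

lemma s₂_N : s₂ k A ∘ₗ N k A = N k A := by
  apply TensorProduct.ext_threefold'
  intro a b c
  simp only [LinearMap.comp_apply, N_tmul, map_add, s₂_tmul]
  abel

lemma N_of_inv (x : A ⊗[k] (A ⊗[k] A)) (h1 : s₁ k A x = x) (h2 : s₂ k A x = x) :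
    N k A x = (6 : k) • x := by
  simp only [N, LinearMap.add_apply, LinearMap.comp_apply, LinearMap.id_apply, h1, h2]
  rw [show (6 : k) = 1 + 1 + 1 + 1 + 1 + 1 by norm_num]
  simp only [add_smul, one_smul]

end Groth.Agent.Lib.R2LeadDiagSym3

namespace Groth.Agent.Lib.R2LeadDiagSym3

variable {k : Type u} [Field k] [CharZero k] {A : Type v} [CommRing A] [Algebra k A]
variable (r : A ⊗[k] (A ⊗[k] A) →ₗ[k] A ⊗[k] A)
    (hr : ∀ a b c : A, r (a ⊗ₜ[k] (b ⊗ₜ[k] c)) = (a * b) ⊗ₜ[k] c)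
    (D : A ⊗[k] A →ₗ[k] Ω[A⁄k])
    (hD : ∀ a b : A, D (a ⊗ₜ[k] b) =
      (2 : A) • (a • KaehlerDifferential.D k A b) - b • KaehlerDifferential.D k A a)

include hr hD in
lemma D_r_N : D ∘ₗ r ∘ₗ N k A = 0 := by
  apply TensorProduct.ext_threefold'
  intro a b c
  simp only [LinearMap.comp_apply, N_tmul, map_add, hr, hD, Derivation.leibniz,
    LinearMap.zero_apply]
  module

include hr hD in
lemma D_r_of_inv (x : A ⊗[k] (A ⊗[k] A)) (h1 : s₁ k A x = x) (h2 : s₂ k A x = x) :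
    D (r x) = 0 := by
  have h := LinearMap.congr_fun (D_r_N r hr D hD) x
  simp only [LinearMap.comp_apply, N_of_inv k A x h1 h2, map_smul, LinearMap.zero_apply] at h
  exact (smul_eq_zero.mp h).resolve_left (by norm_num)

/-- the basic relations -/
noncomputable def T (a b c : A) : A ⊗[k] A :=
  (a * b) ⊗ₜ[k] c + (a * c) ⊗ₜ[k] b + (b * c) ⊗ₜ[k] a

include hr in
lemma T_mem (a b c : A) : T (k := k) a b c ∈ LinearMap.range (r ∘ₗ N k A) := by
  refine ⟨(2⁻¹ : k) • (a ⊗ₜ[k] (b ⊗ₜ[k] c)), ?_⟩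
  rw [map_smul, LinearMap.comp_apply, N_tmul]
  simp only [map_add, hr]
  rw [inv_smul_eq_iff₀ (by norm_num : (2 : k) ≠ 0), T, two_smul, mul_comm b a, mul_comm c a,
    mul_comm c b]
  abel

/-- the lift of the inverse map to the free module -/
noncomputable def ψ₁ : (A →₀ A) →ₗ[k] A ⊗[k] A :=
  Finsupp.lsum k (fun b => (2 : k) • (TensorProduct.mk k A A).flip b + TensorProduct.mk k A A b)

@[simp] lemma ψ₁_single (a b : A) : ψ₁ (k := k) (Finsupp.single b a) =
    (2 : k) • a ⊗ₜ[k] b + b ⊗ₜ[k] a := by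
  simp [ψ₁]

include hr in
lemma ψ₁_kerTotal (f : A →₀ A) (hf : f ∈ KaehlerDifferential.kerTotal k A) :
    ψ₁ (k := k) f ∈ LinearMap.range (r ∘ₗ N k A) := by
  unfold KaehlerDifferential.kerTotal at hf
  induction hf using Submodule.closure_induction with
  | zero => simp
  | add x y hx hy h1 h2 => rw [map_add]; exact Submodule.add_mem _ h1 h2
  | smul_mem a g hg =>
    rcases hg with (⟨⟨x, y⟩, rfl⟩ | ⟨⟨x, y⟩, rfl⟩) | ⟨c, rfl⟩
    · simp only [smul_sub, smul_add, Finsupp.smul_single, smul_eq_mul, mul_one, map_sub, map_add,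
        ψ₁_single, TensorProduct.tmul_add, TensorProduct.add_tmul, smul_add]
      convert Submodule.zero_mem _ using 1
      abel
    · simp only [smul_sub, smul_add, Finsupp.smul_single, smul_eq_mul, mul_one, map_sub, map_add,
        ψ₁_single]
      have : (2 : k) • (a * x) ⊗ₜ[k] y + y ⊗ₜ[k] (a * x) + ((2 : k) • (a * y) ⊗ₜ[k] x + x ⊗ₜ[k] (a * y))
          - ((2 : k) • a ⊗ₜ[k] (x * y) + (x * y) ⊗ₜ[k] a) =
          T (k := k) a x y + T (k := k) 1 y (a * x) + T (k := k) 1 x (a * y)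
            - (2 : k) • T (k := k) 1 a (x * y) := by
        simp only [T, one_mul, two_smul, mul_comm y (a * x), mul_comm x (a * y), mul_assoc, mul_comm y x]
        abel
      rw [this]
      exact Submodule.sub_mem _ (Submodule.add_mem _ (Submodule.add_mem _ (T_mem r hr _ _ _)
        (T_mem r hr _ _ _)) (T_mem r hr _ _ _)) (Submodule.smul_mem _ _ (T_mem r hr _ _ _))
    · simp only [Finsupp.smul_single, smul_eq_mul, mul_one, ψ₁_single]
      have : (2 : k) • a ⊗ₜ[k] (algebraMap k A c) + (algebraMap k A c) ⊗ₜ[k] a =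
          c • T (k := k) 1 1 a := by
        simp only [T, one_mul, mul_one, Algebra.algebraMap_eq_smul_one, TensorProduct.tmul_smul,
          TensorProduct.smul_tmul', two_smul, smul_add]
        abel
      rw [this]
      exact Submodule.smul_mem _ _ (T_mem r hr _ _ _)

include hD in
lemma exists_lift (y : A ⊗[k] A) : ∃ f : A →₀ A,
    Finsupp.linearCombination A (KaehlerDifferential.D k A) f = D y ∧
      ψ₁ (k := k) f = (3 : k) • y := by
  induction y using TensorProduct.induction_on with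
  | zero => exact ⟨0, by simp, by simp⟩
  | tmul a b =>
    refine ⟨(2 : A) • Finsupp.single b a - Finsupp.single a b, ?_, ?_⟩
    · simp only [map_sub, map_smul, Finsupp.linearCombination_single, hD]
    · rw [show (2 : A) • Finsupp.single b a = Finsupp.single b a + Finsupp.single b a from
        two_smul _ _]
      simp only [map_sub, map_add, ψ₁_single]
      rw [show (3 : k) = 2 + 1 by norm_num, add_smul, one_smul, two_smul, two_smul]
      abel
  | add x y hx hy =>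
    obtain ⟨f, hf1, hf2⟩ := hx
    obtain ⟨g, hg1, hg2⟩ := hy
    exact ⟨f + g, by rw [map_add, map_add, hf1, hg1], by rw [map_add, hf2, hg2, smul_add]⟩

include hr hD in
theorem main :
    (∀ y : A ⊗[k] A, D y = 0 ↔ ∃ x : A ⊗[k] (A ⊗[k] A),
        TensorProduct.leftComm k A A A x = x ∧
        LinearMap.lTensor A (TensorProduct.comm k A A).toLinearMap x = x ∧ r x = y) ∧
    Function.Surjective D := by
  refine ⟨fun y => ⟨fun hy => ?_, ?_⟩, ?_⟩
  · obtain ⟨f, hf1, hf2⟩ := exists_lift D hD y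
    rw [hy] at hf1
    have hf : f ∈ KaehlerDifferential.kerTotal k A := by
      rw [← KaehlerDifferential.kerTotal_eq]; exact hf1
    have h3 := ψ₁_kerTotal r hr f hf
    rw [hf2] at h3
    have hy' : y ∈ LinearMap.range (r ∘ₗ N k A) := by
      have := Submodule.smul_mem _ (3⁻¹ : k) h3
      rwa [smul_smul, inv_mul_cancel₀ (by norm_num : (3 : k) ≠ 0), one_smul] at this
    obtain ⟨z, hz⟩ := hy'
    exact ⟨N k A z, LinearMap.congr_fun (s₁_N k A) z, LinearMap.congr_fun (s₂_N k A) z, hz⟩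
  · rintro ⟨x, h1, h2, rfl⟩
    exact D_r_of_inv r hr D hD x h1 h2
  · intro v
    obtain ⟨f, rfl⟩ := KaehlerDifferential.linearCombination_surjective k A v
    change _ ∈ LinearMap.range D
    induction f using Finsupp.induction_linear with
    | zero => simp
    | add f g hf hg => rw [map_add]; exact Submodule.add_mem _ hf hg
    | single b a =>
      refine ⟨(3⁻¹ : k) • ((2 : k) • a ⊗ₜ[k] b + b ⊗ₜ[k] a), ?_⟩
      rw [map_smul, inv_smul_eq_iff₀ (by norm_num : (3 : k) ≠ 0), map_add, map_smul, hD, hD,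
        Finsupp.linearCombination_single]
      rw [show (3 : k) = 2 + 1 by norm_num, add_smul, one_smul, two_smul, two_smul, two_smul,
        two_smul]
      abel

end Groth.Agent.Lib.R2LeadDiagSym3
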