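import Mathlib
import Groth.Agent.Lib.R2LeadDiagSym3

set_option autoImplicit false
universe u v
open TensorProduct

namespace Groth.Agent.Lib.R2LeadDiagSym3b

open Groth.Agent.Lib.R2LeadDiagSym3

variable {k : Type u} [Field k] [CharZero k] {A : Type v} [CommRing A] [Algebra k A]

variable (k A) in
/-- the symmetrizer for the swap of the last two factors -/
noncomputable def N₂ : A ⊗[k] (A ⊗[k] A) →ₗ[k] A ⊗[k] (A ⊗[k] A) :=
  LinearMap.id + s₂ k A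

lemma N₂_tmul (a b c : A) : N₂ k A (a ⊗ₜ[k] (b ⊗ₜ[k] c)) =
    a ⊗ₜ[k] (b ⊗ₜ[k] c) + a ⊗ₜ[k] (c ⊗ₜ[k] b) := by
  simp [N₂]

lemma s₂_N₂ : s₂ k A ∘ₗ N₂ k A = N₂ k A := by
  apply TensorProduct.ext_threefold'
  intro a b c
  simp only [LinearMap.comp_apply, N₂_tmul, map_add, s₂_tmul]
  abel

lemma N₂_of_inv (x : A ⊗[k] (A ⊗[k] A)) (h2 : s₂ k A x = x) :
    N₂ k A x = (2 : k) • x := by
  simp only [N₂, LinearMap.add_apply, LinearMap.id_apply, h2, two_smul]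

variable (r₁₂ r₂₃ : A ⊗[k] (A ⊗[k] A) →ₗ[k] A ⊗[k] A)
    (h₁₂ : ∀ a u v : A, r₁₂ (a ⊗ₜ[k] (u ⊗ₜ[k] v)) = (a * u) ⊗ₜ[k] v)
    (h₂₃ : ∀ a u v : A, r₂₃ (a ⊗ₜ[k] (u ⊗ₜ[k] v)) = (u * v) ⊗ₜ[k] a)
    (ψ : (A ⊗[k] A) × (A ⊗[k] A) →ₗ[k] Ω[A⁄k])
    (hψ : ∀ a u b v : A, ψ (a ⊗ₜ[k] u, b ⊗ₜ[k] v) =
      (2 : A) • (a • KaehlerDifferential.D k A u) - v • KaehlerDifferential.D k A b)

/-- the map whose range is the set of pairs `(r₁₂ x, r₂₃ x)` with `x` invariant -/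
noncomputable def Gmap : A ⊗[k] (A ⊗[k] A) →ₗ[k] (A ⊗[k] A) × (A ⊗[k] A) :=
  (r₁₂ ∘ₗ N₂ k A).prod (r₂₃ ∘ₗ N₂ k A)

/-- the basic elements -/
noncomputable def G (a u v : A) : (A ⊗[k] A) × (A ⊗[k] A) :=
  ((a * u) ⊗ₜ[k] v + (a * v) ⊗ₜ[k] u, (2 : k) • (u * v) ⊗ₜ[k] a)

include h₁₂ h₂₃ in
lemma Gmap_tmul (a u v : A) : Gmap r₁₂ r₂₃ (a ⊗ₜ[k] (u ⊗ₜ[k] v)) =
    ((a * u) ⊗ₜ[k] v + (a * v) ⊗ₜ[k] u, (u * v) ⊗ₜ[k] a + (v * u) ⊗ₜ[k] a) := by
  refine Prod.ext ?_ ?_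
  · change r₁₂ (N₂ k A _) = _
    rw [N₂_tmul, map_add, h₁₂, h₁₂]
  · change r₂₃ (N₂ k A _) = _
    rw [N₂_tmul, map_add, h₂₃, h₂₃]

include h₁₂ h₂₃ in
lemma G_mem (a u v : A) : G (k := k) a u v ∈ LinearMap.range (Gmap r₁₂ r₂₃) := by
  refine ⟨a ⊗ₜ[k] (u ⊗ₜ[k] v), ?_⟩
  rw [Gmap_tmul r₁₂ r₂₃ h₁₂ h₂₃, G, two_smul, mul_comm v u]

include hψ in
lemma ψ_inl (a u : A) : ψ (a ⊗ₜ[k] u, 0) = (2 : A) • (a • KaehlerDifferential.D k A u) := by
  have := hψ a u 0 0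
  simpa using this

include hψ in
lemma ψ_inr (b v : A) : ψ (0, b ⊗ₜ[k] v) = - (v • KaehlerDifferential.D k A b) := by
  have := hψ 0 1 b v
  simpa using this

lemma ψ_split (p q : A ⊗[k] A) : ψ (p, q) = ψ (p, 0) + ψ (0, q) := by
  rw [← map_add]; simp

include h₁₂ h₂₃ hψ in
lemma ψ_Gmap : ψ ∘ₗ Gmap r₁₂ r₂₃ = 0 := by
  apply TensorProduct.ext_threefold'
  intro a b c
  rw [LinearMap.comp_apply, Gmap_tmul r₁₂ r₂₃ h₁₂ h₂₃, LinearMap.zero_apply, ψ_split]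
  have e1 : ∀ x y : A ⊗[k] A, ((x + y, (0 : A ⊗[k] A)) : (A ⊗[k] A) × (A ⊗[k] A)) =
      (x, 0) + (y, 0) := by intro x y; simp
  have e2 : ∀ x y : A ⊗[k] A, (((0 : A ⊗[k] A), x + y) : (A ⊗[k] A) × (A ⊗[k] A)) =
      (0, x) + (0, y) := by intro x y; simp
  rw [e1, e2, map_add, map_add, ψ_inl ψ hψ, ψ_inl ψ hψ, ψ_inr ψ hψ, ψ_inr ψ hψ]
  simp only [Derivation.leibniz]
  module

/-- lift of the inverse map -/
noncomputable def ψ₁' : (A →₀ A) →ₗ[k] (A ⊗[k] A) × (A ⊗[k] A) :=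
  Finsupp.lsum k (fun u => ((TensorProduct.mk k A A).flip u).prod
    ((TensorProduct.mk k A A 1) ∘ₗ (LinearMap.mul k A).flip u))

@[simp] lemma ψ₁'_single (a u : A) : ψ₁' (k := k) (Finsupp.single u a) =
    (a ⊗ₜ[k] u, (1 : A) ⊗ₜ[k] (a * u)) := by
  simp [ψ₁', mul_comm]


include h₁₂ h₂₃ in
lemma ψ₁'_kerTotal (f : A →₀ A) (hf : f ∈ KaehlerDifferential.kerTotal k A) :
    ψ₁' (k := k) f ∈ LinearMap.range (Gmap r₁₂ r₂₃) := by
  unfold KaehlerDifferential.kerTotal at hf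
  induction hf using Submodule.closure_induction with
  | zero => simp
  | add x y hx hy h1 h2 => rw [map_add]; exact Submodule.add_mem _ h1 h2
  | smul_mem a g hg =>
    rcases hg with (⟨⟨x, y⟩, rfl⟩ | ⟨⟨x, y⟩, rfl⟩) | ⟨c, rfl⟩
    · simp only [smul_sub, smul_add, Finsupp.smul_single, smul_eq_mul, mul_one, map_sub, map_add,
        ψ₁'_single]
      convert Submodule.zero_mem _ using 1
      refine Prod.ext ?_ ?_
      · simp only [Prod.fst_sub, Prod.fst_add, Prod.fst_zero, TensorProduct.tmul_add]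
        abel
      · simp only [Prod.snd_sub, Prod.snd_add, Prod.snd_zero, mul_add, TensorProduct.tmul_add]
        abel
    · simp only [smul_sub, smul_add, Finsupp.smul_single, smul_eq_mul, mul_one, map_sub, map_add,
        ψ₁'_single]
      have : ((a * x) ⊗ₜ[k] y, (1 : A) ⊗ₜ[k] (a * x * y)) + ((a * y) ⊗ₜ[k] x, (1 : A) ⊗ₜ[k] (a * y * x))
          - (a ⊗ₜ[k] (x * y), (1 : A) ⊗ₜ[k] (a * (x * y))) =
          G (k := k) a x y - G (k := k) a 1 (x * y) + (2⁻¹ : k) • G (k := k) (a * x * y) 1 1 := by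
        refine Prod.ext ?_ ?_
        · simp only [G, Prod.fst_sub, Prod.fst_add, Prod.smul_fst, mul_one, one_mul, ← two_smul k,
            smul_smul, inv_mul_cancel₀ (by norm_num : (2 : k) ≠ 0), one_smul, mul_assoc]
          abel
        · simp only [G, Prod.snd_sub, Prod.snd_add, Prod.smul_snd, mul_one, one_mul,
            smul_smul, inv_mul_cancel₀ (by norm_num : (2 : k) ≠ 0), one_smul, mul_assoc,
            mul_comm y x]
          abel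
      rw [this]
      exact Submodule.add_mem _ (Submodule.sub_mem _ (G_mem r₁₂ r₂₃ h₁₂ h₂₃ _ _ _)
        (G_mem r₁₂ r₂₃ h₁₂ h₂₃ _ _ _)) (Submodule.smul_mem _ _ (G_mem r₁₂ r₂₃ h₁₂ h₂₃ _ _ _))
    · simp only [Finsupp.smul_single, smul_eq_mul, mul_one, ψ₁'_single]
      have : (a ⊗ₜ[k] (algebraMap k A c), (1 : A) ⊗ₜ[k] (a * algebraMap k A c)) =
          (c * 2⁻¹ : k) • G (k := k) a 1 1 := by
        refine Prod.ext ?_ ?_
        · simp only [G, Prod.smul_fst, mul_one, ← two_smul k, smul_smul, mul_assoc,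
            inv_mul_cancel₀ (by norm_num : (2 : k) ≠ 0), Algebra.algebraMap_eq_smul_one,
            TensorProduct.tmul_smul]
        · simp only [G, Prod.smul_snd, mul_one, smul_smul, mul_assoc,
            inv_mul_cancel₀ (by norm_num : (2 : k) ≠ 0), Algebra.algebraMap_eq_smul_one,
            TensorProduct.tmul_smul, mul_smul_comm]
      rw [this]
      exact Submodule.smul_mem _ _ (G_mem r₁₂ r₂₃ h₁₂ h₂₃ _ _ _)

variable (k A) in
/-- `p ↦ (p, 1 ⊗ m p)` -/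
noncomputable def ι : A ⊗[k] A →ₗ[k] (A ⊗[k] A) × (A ⊗[k] A) :=
  LinearMap.id.prod (TensorProduct.mk k A A 1 ∘ₗ LinearMap.mul' k A)

variable (k A) in
/-- `z ↦ (0, z - 1 ⊗ m z)` -/
noncomputable def π : A ⊗[k] A →ₗ[k] (A ⊗[k] A) × (A ⊗[k] A) :=
  LinearMap.inr k _ _ ∘ₗ (LinearMap.id - TensorProduct.mk k A A 1 ∘ₗ LinearMap.mul' k A)

lemma ι_tmul (a u : A) : ι k A (a ⊗ₜ[k] u) = (a ⊗ₜ[k] u, (1 : A) ⊗ₜ[k] (a * u)) := by
  refine Prod.ext ?_ ?_ <;> simp [ι]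

lemma π_tmul (b v : A) : π k A (b ⊗ₜ[k] v) = (0, b ⊗ₜ[k] v - (1 : A) ⊗ₜ[k] (b * v)) := by
  refine Prod.ext ?_ ?_ <;> simp [π]

lemma ι_add_π (p q : A ⊗[k] A) (h : LinearMap.mul' k A p = LinearMap.mul' k A q) :
    ι k A p + π k A q = (p, q) := by
  refine Prod.ext ?_ ?_
  · simp [ι, π]
  · simp [ι, π, h]

include hψ in
lemma exists_lift_ι (p : A ⊗[k] A) : ∃ f : A →₀ A,
    Finsupp.linearCombination A (KaehlerDifferential.D k A) f = ψ (ι k A p) ∧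
      ψ₁' (k := k) f = (2 : k) • ι k A p := by
  induction p using TensorProduct.induction_on with
  | zero => exact ⟨0, by simp, by simp⟩
  | tmul a u =>
    refine ⟨Finsupp.single u a + Finsupp.single u a, ?_, ?_⟩
    · rw [ι_tmul, hψ]
      simp [two_smul]
    · rw [map_add, ψ₁'_single, ι_tmul, two_smul]
  | add x y hx hy =>
    obtain ⟨f, hf1, hf2⟩ := hx
    obtain ⟨g, hg1, hg2⟩ := hy
    exact ⟨f + g, by rw [map_add, map_add, map_add, hf1, hg1],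
      by rw [map_add, map_add, hf2, hg2, smul_add]⟩

include h₁₂ h₂₃ hψ in
lemma exists_lift_π (z : A ⊗[k] A) : ∃ f : A →₀ A,
    Finsupp.linearCombination A (KaehlerDifferential.D k A) f = ψ (π k A z) ∧
      ψ₁' (k := k) f - (2 : k) • π k A z ∈ LinearMap.range (Gmap r₁₂ r₂₃) := by
  induction z using TensorProduct.induction_on with
  | zero => exact ⟨0, by simp, by simp⟩
  | tmul b v =>
    refine ⟨- Finsupp.single b v, ?_, ?_⟩
    · have e : ((0 : A ⊗[k] A), b ⊗ₜ[k] v - (1 : A) ⊗ₜ[k] (b * v)) =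
          ((0 : A ⊗[k] A), b ⊗ₜ[k] v) - ((0 : A ⊗[k] A), (1 : A) ⊗ₜ[k] (b * v)) := by simp
      rw [π_tmul, e, map_sub, ψ_inr ψ hψ, ψ_inr ψ hψ]
      simp
    · have : ψ₁' (k := k) (- Finsupp.single b v) - (2 : k) • π k A (b ⊗ₜ[k] v) =
          - G (k := k) v 1 b + (2⁻¹ : k) • G (k := k) (v * b) 1 1 := by
        rw [map_neg, ψ₁'_single, π_tmul]
        refine Prod.ext ?_ ?_
        · simp only [G, Prod.fst_sub, Prod.fst_add, Prod.fst_neg, Prod.smul_fst, mul_one, smul_zero,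
            ← two_smul k, smul_smul, inv_mul_cancel₀ (by norm_num : (2 : k) ≠ 0), one_smul]
          abel
        · simp only [G, Prod.snd_sub, Prod.snd_add, Prod.snd_neg, Prod.smul_snd, mul_one, one_mul,
            smul_smul, inv_mul_cancel₀ (by norm_num : (2 : k) ≠ 0), one_smul, mul_comm v b]
          simp only [two_smul]
          abel
      rw [this]
      exact Submodule.add_mem _ (Submodule.neg_mem _ (G_mem r₁₂ r₂₃ h₁₂ h₂₃ _ _ _))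
        (Submodule.smul_mem _ _ (G_mem r₁₂ r₂₃ h₁₂ h₂₃ _ _ _))
  | add x y hx hy =>
    obtain ⟨f, hf1, hf2⟩ := hx
    obtain ⟨g, hg1, hg2⟩ := hy
    refine ⟨f + g, by rw [map_add, map_add, map_add, hf1, hg1], ?_⟩
    have : ψ₁' (k := k) (f + g) - (2 : k) • π k A (x + y) =
        (ψ₁' (k := k) f - (2 : k) • π k A x) + (ψ₁' (k := k) g - (2 : k) • π k A y) := by
      rw [map_add, map_add, smul_add]; abel
    rw [this]
    exact Submodule.add_mem _ hf2 hg2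

include h₁₂ h₂₃ hψ in
theorem main :
    (∀ p q : A ⊗[k] A, LinearMap.mul' k A p = LinearMap.mul' k A q →
      (ψ (p, q) = 0 ↔ ∃ x : A ⊗[k] (A ⊗[k] A),
        LinearMap.lTensor A (TensorProduct.comm k A A).toLinearMap x = x ∧ r₁₂ x = p ∧ r₂₃ x = q)) ∧
    (∀ ω : Ω[A⁄k], ∃ p q : A ⊗[k] A, LinearMap.mul' k A p = LinearMap.mul' k A q ∧ ψ (p, q) = ω) := by
  refine ⟨fun p q hpq => ⟨fun h0 => ?_, ?_⟩, ?_⟩
  · obtain ⟨f, hf1, hf2⟩ := exists_lift_ι ψ hψ p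
    obtain ⟨g, hg1, hg2⟩ := exists_lift_π r₁₂ r₂₃ h₁₂ h₂₃ ψ hψ q
    have hfg : f + g ∈ KaehlerDifferential.kerTotal k A := by
      rw [← KaehlerDifferential.kerTotal_eq, LinearMap.mem_ker, map_add, hf1, hg1, ← map_add,
        ι_add_π p q hpq, h0]
    have h3 := ψ₁'_kerTotal r₁₂ r₂₃ h₁₂ h₂₃ _ hfg
    have h4 : (2 : k) • ((p, q) : (A ⊗[k] A) × (A ⊗[k] A)) ∈ LinearMap.range (Gmap r₁₂ r₂₃) := by
      have e : (2 : k) • ((p, q) : (A ⊗[k] A) × (A ⊗[k] A)) =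
          ψ₁' (k := k) (f + g) - (ψ₁' (k := k) g - (2 : k) • π k A q) := by
        rw [← ι_add_π p q hpq, map_add, hf2, smul_add]; abel
      rw [e]
      exact Submodule.sub_mem _ h3 hg2
    have h5 : ((p, q) : (A ⊗[k] A) × (A ⊗[k] A)) ∈ LinearMap.range (Gmap r₁₂ r₂₃) := by
      have := Submodule.smul_mem _ (2⁻¹ : k) h4
      rwa [smul_smul, inv_mul_cancel₀ (by norm_num : (2 : k) ≠ 0), one_smul] at this
    obtain ⟨z, hz⟩ := h5
    refine ⟨N₂ k A z, LinearMap.congr_fun (s₂_N₂ (k := k) (A := A)) z, ?_, ?_⟩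
    · exact congrArg Prod.fst hz
    · exact congrArg Prod.snd hz
  · rintro ⟨x, h2, rfl, rfl⟩
    have h := LinearMap.congr_fun (ψ_Gmap r₁₂ r₂₃ h₁₂ h₂₃ ψ hψ) x
    have hx : Gmap r₁₂ r₂₃ x = (2 : k) • (r₁₂ x, r₂₃ x) := by
      refine Prod.ext ?_ ?_
      · change r₁₂ (N₂ k A x) = _
        rw [N₂_of_inv x h2, map_smul]; rfl
      · change r₂₃ (N₂ k A x) = _
        rw [N₂_of_inv x h2, map_smul]; rfl
    rw [LinearMap.comp_apply, hx, map_smul, LinearMap.zero_apply] at h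
    exact (smul_eq_zero.mp h).resolve_left (by norm_num)
  · intro ω
    obtain ⟨f, rfl⟩ := KaehlerDifferential.linearCombination_surjective k A ω
    induction f using Finsupp.induction_linear with
    | zero => exact ⟨0, 0, rfl, by rw [map_zero]; exact map_zero ψ⟩
    | add f g hf hg =>
      obtain ⟨p, q, h1, h2⟩ := hf
      obtain ⟨p', q', h1', h2'⟩ := hg
      refine ⟨p + p', q + q', by rw [map_add, map_add, h1, h1'], ?_⟩
      rw [map_add, ← h2, ← h2', ← map_add]; rfl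
    | single u a =>
      refine ⟨(2⁻¹ : k) • a ⊗ₜ[k] u, (2⁻¹ : k) • (1 : A) ⊗ₜ[k] (a * u), by simp, ?_⟩
      have e : (((2⁻¹ : k) • a ⊗ₜ[k] u, (2⁻¹ : k) • (1 : A) ⊗ₜ[k] (a * u)) :
          (A ⊗[k] A) × (A ⊗[k] A)) = (2⁻¹ : k) • (a ⊗ₜ[k] u, (1 : A) ⊗ₜ[k] (a * u)) := rfl
      rw [e, map_smul, hψ, inv_smul_eq_iff₀ (by norm_num : (2 : k) ≠ 0),
        Finsupp.linearCombination_single]
      simp [two_smul]

end Groth.Agent.Lib.R2LeadDiagSym3b
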