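import Mathlib
import Groth.Agent.Lib.Helper4VarDim10
import Groth.Agent.Lib.Helper6BcRed
import Groth.Agent.Lib.R2H4SepField

/-!
# Geometrically reduced fibre at a point with field local ring ⇒ residue field extension formally smooth
-/

set_option autoImplicit false
set_option linter.style.haveILetI false
universe u

namespace Groth.Agent.Lib.R2LeadDiffGenA

open CategoryTheory AlgebraicGeometry Limits

/-- transfer of geometric reducedness along equality of the corresponding `Spec L ⟶ S`. -/
theorem isGeomRed_of_SpecMap_comp_eq {S : Scheme.{u}} {L : Type u} [Field L] (s s' : S)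
    (φ : S.residueField s ⟶ CommRingCat.of L) (φ' : S.residueField s' ⟶ CommRingCat.of L)
    (h : Spec.map φ ≫ S.fromSpecResidueField s = Spec.map φ' ≫ S.fromSpecResidueField s')
    (H : @Algebra.IsGeometricallyReduced (S.residueField s') L _ _ φ'.hom.toAlgebra) :
    @Algebra.IsGeometricallyReduced (S.residueField s) L _ _ φ.hom.toAlgebra := by
  have h2 : (⟨s, φ⟩ : Σ x, S.residueField x ⟶ CommRingCat.of L) = ⟨s', φ'⟩ :=
    (Scheme.SpecToEquivOfField L S).symm.injective h
  obtain ⟨rfl, h3⟩ := Sigma.mk.inj_iff.mp h2
  obtain rfl := eq_of_heq h3
  exact H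

attribute [local instance] Curv2.stalkAlgebra Curv2.resAlgebra

/-- the residue field at a point of a geometrically reduced fibre whose local ring is a field is a
geometrically reduced extension of the residue field of the base point. -/
theorem isGeometricallyReduced_residueField_fiber {X S : Scheme.{u}} (f : X ⟶ S) (s : S)
    (z : f.fiber s) (hfield : IsField ((f.fiber s).presheaf.stalk z))
    (h : GeometricallyReduced (f.fiberToSpecResidueField s)) :
    letI : (f.fiber s).Over (Spec (CommRingCat.of (S.residueField s))) :=
      ⟨f.fiberToSpecResidueField s⟩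
    Algebra.IsGeometricallyReduced (S.residueField s) ((f.fiber s).residueField z) := by
  letI : (f.fiber s).Over (Spec (CommRingCat.of (S.residueField s))) :=
    ⟨f.fiberToSpecResidueField s⟩
  have hred : ∀ (K : Type u) [Field K] [Algebra (S.residueField s) K],
      AlgebraicGeometry.IsReduced (Curv2.bc (S.residueField s) (f.fiber s) K) := by
    rw [geometricallyReduced_iff] at h
    exact (geometrically_iff_of_commRing_of_isClosedUnderIsomorphisms
      (R := S.residueField s) (X := f.fiber s)
      (f := ((f.fiber s) ↘ Spec (CommRingCat.of (S.residueField s))))).mp h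
  have h1 : Curv2.IsGeomReducedAt (S.residueField s) (f.fiber s) z := fun k' _ _ x' _ => by
    have := hred k'
    infer_instance
  haveI h2 : Algebra.IsGeometricallyReduced (S.residueField s) ((f.fiber s).presheaf.stalk z) :=
    (Groth.Agent.Lib.Helper6.BcRed.isGeomReducedAt_iff _ _ _).mp h1
  have hbij : Function.Bijective ((f.fiber s).residue z).hom := by
    refine ⟨?_, IsLocalRing.residue_surjective⟩
    rw [injective_iff_map_eq_zero]
    intro a ha
    have h3 : a ∈ IsLocalRing.maximalIdeal ((f.fiber s).presheaf.stalk z) :=
      (IsLocalRing.residue_eq_zero_iff a).mp ha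
    rw [IsLocalRing.isField_iff_maximalIdeal_eq.mp hfield] at h3
    exact h3
  let e : (f.fiber s).presheaf.stalk z ≃ₐ[S.residueField s] (f.fiber s).residueField z :=
    { RingEquiv.ofBijective ((f.fiber s).residue z).hom hbij with commutes' := fun r => rfl }
  exact Algebra.IsGeometricallyReduced.of_injective e.symm.toAlgHom e.symm.injective

/-- **Bridging lemma**: for `f` locally of finite type, if the fibre of `f` through `z` is
geometrically reduced and its local ring at `z` is a field, then the residue field extension at
the image of `z` is formally smooth. -/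
theorem formallySmooth_residueFieldMap_fiber {X S : Scheme.{u}} (f : X ⟶ S)
    [LocallyOfFiniteType f] (s : S) (z : f.fiber s)
    (hfield : IsField ((f.fiber s).presheaf.stalk z))
    (h : GeometricallyReduced (f.fiberToSpecResidueField s)) :
    (f.residueFieldMap (f.fiberι s z)).hom.FormallySmooth := by
  letI : (f.fiber s).Over (Spec (CommRingCat.of (S.residueField s))) :=
    ⟨f.fiberToSpecResidueField s⟩
  have hGR0 := isGeometricallyReduced_residueField_fiber f s z hfield h
  -- transfer to the composite residue field map
  have h2 := Groth.Agent.Lib.Helper4.VarDim.SpecMap_resMap (S.residueField s) (f.fiber s) z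
  have h3 : Spec.map ((f.fiberι s ≫ f).residueFieldMap z) ≫
      S.fromSpecResidueField ((f.fiberι s ≫ f) z) =
      Spec.map (CommRingCat.ofHom (Curv2.resMap (S.residueField s) (f.fiber s) z)) ≫
        S.fromSpecResidueField s := by
    rw [Scheme.Hom.SpecMap_residueFieldMap_fromSpecResidueField, f.fiber_fac s]
    erw [h2]
    rw [Category.assoc]
    rfl
  have hGR1 : @Algebra.IsGeometricallyReduced (S.residueField ((f.fiberι s ≫ f) z))
      ((f.fiber s).residueField z) _ _ ((f.fiberι s ≫ f).residueFieldMap z).hom.toAlgebra :=
    isGeomRed_of_SpecMap_comp_eq (L := (f.fiber s).residueField z) _ _ _ _ h3 hGR0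
  have h1 : ((f.fiberι s).residueFieldMap z).hom.comp (f.residueFieldMap (f.fiberι s z)).hom =
      ((f.fiberι s ≫ f).residueFieldMap z).hom := by
    rw [Scheme.residueFieldMap_comp]
    rfl
  letI alg1 : Algebra (S.residueField (f (f.fiberι s z))) (X.residueField (f.fiberι s z)) :=
    (f.residueFieldMap (f.fiberι s z)).hom.toAlgebra
  letI alg2 : Algebra (S.residueField (f (f.fiberι s z))) ((f.fiber s).residueField z) :=
    (((f.fiberι s).residueFieldMap z).hom.comp (f.residueFieldMap (f.fiberι s z)).hom).toAlgebra
  haveI hGR2 : Algebra.IsGeometricallyReduced (S.residueField (f (f.fiberι s z)))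
      ((f.fiber s).residueField z) := by
    change @Algebra.IsGeometricallyReduced _ _ _ _
      (((f.fiberι s).residueFieldMap z).hom.comp (f.residueFieldMap (f.fiberι s z)).hom).toAlgebra
    rw [h1]
    exact hGR1
  let g : X.residueField (f.fiberι s z) →ₐ[S.residueField (f (f.fiberι s z))]
      (f.fiber s).residueField z :=
    { ((f.fiberι s).residueFieldMap z).hom with commutes' := fun r => rfl }
  haveI hGR : Algebra.IsGeometricallyReduced (S.residueField (f (f.fiberι s z)))
      (X.residueField (f.fiberι s z)) :=
    Algebra.IsGeometricallyReduced.of_injective g ((f.fiberι s).residueFieldMap z).hom.injective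
  have hEFT : (f.residueFieldMap (f.fiberι s z)).hom.EssFiniteType :=
    RingHom.EssFiniteType.residueFieldMap (LocallyOfFiniteType.stalkMap f _)
  haveI : Algebra.EssFiniteType (S.residueField (f (f.fiberι s z)))
      (X.residueField (f.fiberι s z)) := hEFT
  exact Groth.Agent.Lib.R2H4.SepField.formallySmooth_of_geomReduced

end Groth.Agent.Lib.R2LeadDiffGenA
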