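import Mathlib
import Groth.Agent.Lib.H6xDiffMono
import Groth.Agent.Lib.R2LeadDiffGenA

/-!
# The map of differentials of a dominant morphism with separable function field extension is mono
-/

set_option autoImplicit false
set_option linter.style.haveILetI false
universe u

namespace Groth.Agent.Lib.R2LeadDiffGenB

open CategoryTheory AlgebraicGeometry Limits TensorProduct KaehlerDifferential TopologicalSpace

/-- the local ring of a fibre at a point over a point with field local ring is a field. -/
theorem isField_stalk_fiber {X S : Scheme.{u}} (f : X ⟶ S) (s : S) (z : f.fiber s)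
    (hx : IsField (X.presheaf.stalk (f.fiberι s z))) :
    IsField ((f.fiber s).presheaf.stalk z) := by
  letI := hx.toField
  have hsurj : Function.Surjective ((f.fiberι s).stalkMap z).hom := (f.fiberι s).stalkMap_surjective z
  have hinj : Function.Injective ((f.fiberι s).stalkMap z).hom := RingHom.injective _
  exact (RingEquiv.ofBijective _ ⟨hinj, hsurj⟩).symm.toMulEquiv.isField hx

/-- generic formal smoothness from geometric reducedness of the fibre through the generic point. -/
theorem formallySmooth_residueFieldMap_generic {X S : Scheme.{u}} (f : X ⟶ S)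
    [LocallyOfFiniteType f] [IsIntegral X]
    (h : GeometricallyReduced (f.fiberToSpecResidueField (f (genericPoint X)))) :
    (f.residueFieldMap (genericPoint X)).hom.FormallySmooth := by
  have hz : f.fiberι (f (genericPoint X)) (f.asFiber (genericPoint X)) = genericPoint X :=
    f.fiberι_asFiber _
  have key : ∀ x : X, f.fiberι (f (genericPoint X)) (f.asFiber (genericPoint X)) = x →
      IsField (X.presheaf.stalk x) → (f.residueFieldMap x).hom.FormallySmooth := by
    rintro x rfl hx
    exact Groth.Agent.Lib.R2LeadDiffGenA.formallySmooth_residueFieldMap_fiber f _ _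
      (isField_stalk_fiber f _ _ hx) h
  exact key _ hz (Field.toIsField X.functionField)

section Main

set_option linter.style.haveILetI false in
/-- variant of `H6xDiffMono.main` with a formally smooth (not necessarily algebraic) function field
extension. -/
theorem main (k : Type u) [Field k] {X Y : Scheme.{u}}
    (pY : Y ⟶ Spec (CommRingCat.of k)) (φ : X ⟶ Y)
    [IsIntegral X] [IsIntegral Y] [Smooth pY]
    (hdom : DenseRange φ.base)
    (hsep : (φ.residueFieldMap (genericPoint X)).hom.FormallySmooth)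
    (ΩY : Y.Modules) (dY : OmegaSh.Der pY ΩY) (hY : OmegaSh.IsUniversal dY)
    (ΩX : X.Modules) (dX : OmegaSh.Der (φ ≫ pY) ΩX) (hX : OmegaSh.IsUniversal dX)
    (c : (Scheme.Modules.pullback φ).obj ΩY ⟶ ΩX) (hc : OmegaSh.IsDiffCompat φ dY dX c) :
    Mono c := by
  set η := genericPoint X with hη
  have hηY : φ.base η = genericPoint Y := by
    have h1 : IsGenericPoint (φ.base η) (closure (φ.base '' Set.univ)) :=
      (genericPoint_spec X).image φ.continuous
    rw [Set.image_univ, hdom.closure_range] at h1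
    exact h1.eq (genericPoint_spec Y)
  let S := Spec (CommRingCat.of k)
  let ι : Type u := {T : S.Opens × Y.Opens × X.Opens // IsAffineOpen T.1 ∧ IsAffineOpen T.2.1 ∧
    IsAffineOpen T.2.2 ∧ T.2.1 ≤ pY ⁻¹ᵁ T.1 ∧ T.2.2 ≤ φ ⁻¹ᵁ T.2.1 ∧ η ∈ T.2.2}
  refine Groth.Agent.Helper18OmLS.mono_of_injective_app_basis c {U | ∃ T : ι, T.1.2.2 = U} ?_ ?_
  · refine TopologicalSpace.Opens.isBasis_iff_nbhd.mpr ?_
    intro O x hx
    obtain ⟨W, hW, hxW, -⟩ := exists_isAffineOpen_mem_and_subset (x := pY (φ x)) (U := ⊤) trivial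
    obtain ⟨V, hV, hxV, hVW⟩ := exists_isAffineOpen_mem_and_subset (x := φ x) (U := pY ⁻¹ᵁ W) hxW
    obtain ⟨U, hU, hxU, hUV⟩ := exists_isAffineOpen_mem_and_subset (x := x) (U := φ ⁻¹ᵁ V ⊓ O)
      ⟨hxV, hx⟩
    have hηU : η ∈ U := ((genericPoint_spec X).mem_open_set_iff U.isOpen).mpr
      ⟨x, trivial, hxU⟩
    exact ⟨U, ⟨⟨⟨W, V, U⟩, hW, hV, hU, hVW, hUV.trans inf_le_left, hηU⟩, rfl⟩, hxU,
      hUV.trans inf_le_right⟩
  · rintro _ ⟨⟨⟨W, V, U⟩, hW, hV, hU, hVW, hUV, hηU⟩, rfl⟩
    change Function.Injective (c.app U)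
    have hUW : U ≤ (φ ≫ pY) ⁻¹ᵁ W := fun y hy => hVW (hUV hy)
    letI algCA : Algebra Γ(S, W) Γ(Y, V) := (pY.appLE W V hVW).hom.toAlgebra
    letI algCB : Algebra Γ(S, W) Γ(X, U) := ((φ ≫ pY).appLE W U hUW).hom.toAlgebra
    letI algAB : Algebra Γ(Y, V) Γ(X, U) := (φ.appLE V U hUV).hom.toAlgebra
    haveI : IsScalarTower Γ(S, W) Γ(Y, V) Γ(X, U) := by
      refine IsScalarTower.of_algebraMap_eq fun r => ?_
      have h1 : pY.appLE W V hVW ≫ φ.appLE V U hUV = (φ ≫ pY).appLE W U hUW :=
        Scheme.Hom.appLE_comp_appLE _ _ _ _ _ _ _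
      exact congr($h1.symm r)
    have hφηV : φ.base η ∈ V := hUV hηU
    letI algBL : Algebra Γ(X, U) (X.residueField η) := (X.evaluation U η hηU).hom.toAlgebra
    letI algAL : Algebra Γ(Y, V) (X.residueField η) :=
      ((algebraMap Γ(X, U) (X.residueField η)).comp (algebraMap Γ(Y, V) Γ(X, U))).toAlgebra
    letI algRL : Algebra Γ(S, W) (X.residueField η) :=
      ((algebraMap Γ(X, U) (X.residueField η)).comp (algebraMap Γ(S, W) Γ(X, U))).toAlgebra
    haveI : IsScalarTower Γ(Y, V) Γ(X, U) (X.residueField η) :=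
      IsScalarTower.of_algebraMap_eq fun _ => rfl
    haveI : IsScalarTower Γ(S, W) Γ(X, U) (X.residueField η) :=
      IsScalarTower.of_algebraMap_eq fun _ => rfl
    haveI : IsScalarTower Γ(S, W) Γ(Y, V) (X.residueField η) := by
      refine IsScalarTower.of_algebraMap_eq fun r => ?_
      change algebraMap Γ(X, U) (X.residueField η) (algebraMap Γ(S, W) Γ(X, U) r) =
        algebraMap Γ(X, U) (X.residueField η) (algebraMap Γ(Y, V) Γ(X, U) (algebraMap Γ(S, W) Γ(Y, V) r))
      rw [← IsScalarTower.algebraMap_apply Γ(S, W) Γ(Y, V) Γ(X, U)]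
    haveI hsm : Algebra.Smooth Γ(S, W) Γ(Y, V) :=
      HasRingHomProperty.appLE (P := @Smooth) pY inferInstance ⟨W, hW⟩ ⟨V, hV⟩ hVW
    haveI : Module.Flat Γ(Y, V) Ω[Γ(Y, V)⁄Γ(S, W)] := inferInstance
    letI algAK : Algebra Γ(Y, V) (Y.residueField (φ.base η)) :=
      (Y.evaluation V (φ.base η) hφηV).hom.toAlgebra
    letI algKL : Algebra (Y.residueField (φ.base η)) (X.residueField η) :=
      (φ.residueFieldMap η).hom.toAlgebra
    haveI : IsScalarTower Γ(Y, V) (Y.residueField (φ.base η)) (X.residueField η) := by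
      refine IsScalarTower.of_algebraMap_eq fun a => ?_
      change X.evaluation U η hηU (φ.appLE V U hUV a) =
        φ.residueFieldMap η (Y.evaluation V (φ.base η) hφηV a)
      rw [Scheme.evaluation_naturality_apply, Scheme.Hom.appLE]
      simp only [CommRingCat.comp_apply]
      change X.residue η (X.presheaf.germ U η hηU (X.presheaf.map (homOfLE hUV).op (φ.app V a))) =
        X.residue η (X.presheaf.germ (φ ⁻¹ᵁ V) η hφηV (φ.app V a))
      rw [TopCat.Presheaf.germ_res_apply]
    haveI : Algebra.FormallyEtale Γ(Y, V) (Y.residueField (φ.base η)) :=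
      Groth.Agent.Lib.H6xDiffMono.formallyEtale_evaluation_of_eq_genericPoint (φ.base η) hηY hV hφηV
    haveI : Algebra.FormallySmooth (Y.residueField (φ.base η)) (X.residueField η) := hsep
    haveI : Algebra.FormallySmooth Γ(Y, V) (X.residueField η) :=
      Algebra.FormallySmooth.comp Γ(Y, V) (Y.residueField (φ.base η)) (X.residueField η)
    obtain ⟨e₁, e₂, κ, hκ1, hκ2⟩ := Groth.Agent.Helper18OmLS.exists_chart_model φ pY (φ ≫ pY) dY dX c hc hUV
      hY hX hU hV hW hVW hW hUW rfl rfl rfl
    have h1 : κ = KaehlerDifferential.mapBaseChange Γ(S, W) Γ(Y, V) Γ(X, U) := by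
      apply Groth.Agent.Helper18OmLS.tensor_kaehler_ext
      intro a
      rw [hκ2, KaehlerDifferential.mapBaseChange_tmul, KaehlerDifferential.map_D]
    have hinj : Function.Injective κ := by
      rw [h1]
      exact Groth.Agent.Lib.H6xDiffMono.mapBaseChange_injective_of_generic _ _ _ (X.residueField η)
        (Groth.Agent.Lib.H6xDiffMono.evaluation_genericPoint_injective hηU)
    intro s t hst
    have h2 : κ (e₁.symm s) = κ (e₁.symm t) := by
      rw [hκ1, hκ1, e₁.apply_symm_apply, e₁.apply_symm_apply, hst]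
    exact e₁.symm.injective (hinj h2)

/-- `S14833` with the structure morphism of `X` as a variable. -/
theorem main14833 (k : Type u) [Field k] {X Z : Scheme.{u}}
    (pX : X ⟶ Spec (CommRingCat.of k)) (pZ : Z ⟶ Spec (CommRingCat.of k))
    [LocallyOfFiniteType pX] [IsIntegral X] [IsIntegral Z] [Smooth pZ]
    (f : X ⟶ Z) [Surjective f] (hf : f ≫ pZ = pX)
    (hsep : GeometricallyReduced (pullback.snd f (Z.fromSpecResidueField (genericPoint ↥Z))))
    (ΩZ : Z.Modules) (dZ : OmegaSh.Der pZ ΩZ) (hdZ : OmegaSh.IsUniversal dZ)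
    (ΩX : X.Modules) (dX : OmegaSh.Der pX ΩX) (hdX : OmegaSh.IsUniversal dX)
    (c : (Scheme.Modules.pullback f).obj ΩZ ⟶ ΩX) (hc : OmegaSh.IsDiffCompat f dZ dX c) :
    Mono c := by
  subst hf
  haveI : LocallyOfFiniteType f := locallyOfFiniteType_of_comp f pZ
  have hdom : DenseRange f.base := f.surjective.denseRange
  have hηY : f (genericPoint X) = genericPoint Z := by
    have h1 : IsGenericPoint (f.base (genericPoint X)) (closure (f.base '' Set.univ)) :=
      (genericPoint_spec X).image f.continuous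
    rw [Set.image_univ, hdom.closure_range] at h1
    exact h1.eq (genericPoint_spec Z)
  have hsep' : GeometricallyReduced (f.fiberToSpecResidueField (f (genericPoint X))) := by
    rw [hηY]
    exact hsep
  exact main k pZ f hdom (formallySmooth_residueFieldMap_generic f hsep') ΩZ dZ hdZ ΩX dX hdX c hc

end Main

end Groth.Agent.Lib.R2LeadDiffGenB
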