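import Mathlib
import Groth.Agent.Lib.R2H3FSmChart
import Groth.Agent.Lib.H6xDiffMono

/-!
# Generic rank of the map of differentials (algebra)
-/

set_option autoImplicit false
set_option linter.style.haveILetI false
universe u

namespace Groth.Agent.Lib.R2LeadDiffGenC

open TensorProduct KaehlerDifferential

section Pick

variable {K V : Type u} [Field K] [AddCommGroup V] [Module K V]

/-- from a family spanning a subspace of rank at least `m`, pick `m` linearly independent members -/
theorem exists_fin_linearIndependent {ι : Type*} (v : ι → V) (m : ℕ)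
    (hm : (m : Cardinal.{u}) ≤ Module.rank K (Submodule.span K (Set.range v))) :
    ∃ σ : Fin m → ι, LinearIndependent K (fun j => v (σ j)) := by
  obtain ⟨κ, a, ha, hsp, hli⟩ := exists_linearIndependent' K v
  have h1 : Module.rank K (Submodule.span K (Set.range (v ∘ a))) =
      Cardinal.mk (Set.range (v ∘ a)) := rank_span hli
  rw [← hsp, h1] at hm
  have h2 : Cardinal.lift.{u} (Cardinal.mk (Fin m)) ≤
      Cardinal.lift.{0} (Cardinal.mk (Set.range (v ∘ a))) := by
    simpa using hm
  obtain ⟨e⟩ := Cardinal.lift_mk_le'.mp h2
  refine ⟨fun j => a (Set.rangeSplitting (v ∘ a) (e j)), ?_⟩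
  exact hli.comp (fun j => Set.rangeSplitting (v ∘ a) (e j))
    ((Set.rangeSplitting_injective (v ∘ a)).comp e.injective)

end Pick

section Main

variable (R A B κ L : Type u) [CommRing R] [CommRing A] [CommRing B] [Field κ] [Field L]
  [Algebra R A] [Algebra R B] [Algebra A B] [IsScalarTower R A B]
  [Algebra R κ] [Algebra A κ] [IsScalarTower R A κ]
  [Algebra R L] [Algebra A L] [Algebra B L] [Algebra κ L]
  [IsScalarTower R A L] [IsScalarTower A B L] [IsScalarTower R B L]
  [IsScalarTower A κ L] [IsScalarTower R κ L]

/-- the composite `B ⊗[A] Ω[A/R] → Ω[B/R] → Ω[L/R]` -/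
noncomputable def T : B ⊗[A] Ω[A⁄R] →ₗ[B] Ω[L⁄R] :=
  (KaehlerDifferential.map R R B L) ∘ₗ (KaehlerDifferential.mapBaseChange R A B)

theorem T_one_tmul_D (a : A) :
    T R A B L ((1 : B) ⊗ₜ[A] D R A a) = D R L (algebraMap A L a) := by
  simp only [T, LinearMap.coe_comp, Function.comp_apply, KaehlerDifferential.mapBaseChange_tmul,
    one_smul, KaehlerDifferential.map_D]
  rw [← IsScalarTower.algebraMap_apply]

variable [Algebra.FormallyUnramified A κ] [Algebra.FormallySmooth κ L]

theorem range_le_span {ι : Type*} (g : ι → B ⊗[A] Ω[A⁄R])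
    (hg : Submodule.span B (Set.range g) = ⊤) :
    LinearMap.range (KaehlerDifferential.mapBaseChange R κ L) ≤
      Submodule.span L (Set.range fun i => T R A B L (g i)) := by
  set N := Submodule.span L (Set.range fun i => T R A B L (g i)) with hN
  -- `T` maps everything into `N`
  have hT : ∀ t : B ⊗[A] Ω[A⁄R], T R A B L t ∈ N := by
    intro t
    have ht : t ∈ Submodule.span B (Set.range g) := by rw [hg]; trivial
    induction ht using Submodule.span_induction with
    | mem x hx =>
      obtain ⟨i, rfl⟩ := hx
      exact Submodule.subset_span ⟨i, rfl⟩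
    | zero => rw [map_zero]; exact N.zero_mem
    | add x y _ _ hx hy => rw [map_add]; exact N.add_mem hx hy
    | smul b x _ hx =>
      rw [map_smul, ← algebraMap_smul L b (T R A B L x)]
      exact N.smul_mem _ hx
  have hD : ∀ a : A, D R L (algebraMap A L a) ∈ N := fun a => by
    rw [← T_one_tmul_D R A B L a]; exact hT _
  -- `Ω[κ/R]` is generated by the images of `d a`
  have hsurj : Function.Surjective (KaehlerDifferential.mapBaseChange R A κ) := by
    intro w
    have : KaehlerDifferential.map R A κ κ w = 0 := Subsingleton.elim _ _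
    exact (KaehlerDifferential.exact_mapBaseChange_map R A κ w).mp this
  have hA : ∀ ω' : Ω[A⁄R], KaehlerDifferential.map R R A L ω' ∈ N := by
    intro ω'
    have hω' : ω' ∈ Submodule.span A (Set.range (D R A)) := by
      rw [KaehlerDifferential.span_range_derivation]; trivial
    induction hω' using Submodule.span_induction with
    | mem y hy =>
      obtain ⟨a, rfl⟩ := hy
      rw [KaehlerDifferential.map_D]
      exact hD a
    | zero => rw [map_zero]; exact N.zero_mem
    | add y z _ _ hy hz => rw [map_add]; exact N.add_mem hy hz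
    | smul a y _ hy =>
      rw [map_smul, ← algebraMap_smul L a]
      exact N.smul_mem _ hy
  have hκ : ∀ ω : Ω[κ⁄R], KaehlerDifferential.map R R κ L ω ∈ N := by
    intro ω
    obtain ⟨t, rfl⟩ := hsurj ω
    induction t using TensorProduct.induction_on with
    | zero => simp only [map_zero]; exact N.zero_mem
    | tmul x ω' =>
      rw [KaehlerDifferential.mapBaseChange_tmul, map_smul,
        Groth.Agent.Lib.H6xDiffMono.map_map, ← algebraMap_smul L x]
      exact N.smul_mem _ (hA ω')
    | add s t hs ht => rw [map_add, map_add]; exact N.add_mem hs ht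
  rintro _ ⟨t, rfl⟩
  induction t using TensorProduct.induction_on with
  | zero => rw [map_zero]; exact N.zero_mem
  | tmul l ω =>
    rw [KaehlerDifferential.mapBaseChange_tmul]
    exact N.smul_mem _ (hκ ω)
  | add s t hs ht => rw [map_add]; exact N.add_mem hs ht

/-- **generic rank**: among a generating family of `B ⊗[A] Ω[A/R]` one can pick `m` members with
`L`-linearly independent images in `Ω[L/R]`, as soon as `m ≤ rank_κ Ω[κ/R]`. -/
theorem exists_linearIndependent_image (m : ℕ)
    (hm : (m : Cardinal.{u}) ≤ Module.rank κ Ω[κ⁄R])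
    {ι : Type*} (g : ι → B ⊗[A] Ω[A⁄R]) (hg : Submodule.span B (Set.range g) = ⊤) :
    ∃ σ : Fin m → ι, LinearIndependent L (fun j => T R A B L (g (σ j))) := by
  apply exists_fin_linearIndependent (fun i => T R A B L (g i)) m
  have h1 := range_le_span R A B κ L g hg
  have h2 : Module.rank L (LinearMap.range (KaehlerDifferential.mapBaseChange R κ L)) =
      Module.rank κ Ω[κ⁄R] := by
    rw [rank_range_of_injective _
      (Groth.Agent.Lib.R2H3.FSmChart.mapBaseChange_injective_of_formallySmooth R κ L),
      Module.rank_baseChange, Cardinal.lift_id]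
  calc (m : Cardinal.{u}) ≤ Module.rank κ Ω[κ⁄R] := hm
    _ = Module.rank L (LinearMap.range (KaehlerDifferential.mapBaseChange R κ L)) := h2.symm
    _ ≤ _ := Submodule.rank_mono h1

end Main

end Groth.Agent.Lib.R2LeadDiffGenC
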