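import Groth.Agent.Lib.H9RegImmStalk
import Groth.Agent.Lib.H9RectDepthSch
import Groth.Agent.Lib.Helper5MiracleSch

/-!
# Tools for dimension counts of preimages under regular immersions (lead)
-/

set_option autoImplicit false
set_option linter.style.haveILetI false
universe u

open CategoryTheory CategoryTheory.Limits AlgebraicGeometry TopologicalSpace RingTheory.Sequence

namespace Groth.Agent.Lib.R2LeadDimCompA

open Groth.Agent.Lib.Helper4.DimFormula

/-- stalkwise generators of the ideal of an immersion which is closed over an affine open -/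
theorem ker_stalkMap_eq_ofList {Z X : Scheme.{u}} (i : Z ⟶ X)
    (z : Z) (U : X.Opens) (hU : IsAffineOpen U) (hz : i z ∈ U) [hcl : IsClosedImmersion (i ∣_ U)]
    (rs : List Γ(X, U)) (hker : RingHom.ker (i.app U).hom = Ideal.ofList rs) :
    RingHom.ker (i.stalkMap z).hom = Ideal.ofList (rs.map (X.presheaf.germ U (i z) hz).hom) := by
  haveI : IsAffine U.toScheme := hU
  have hU' : IsAffineOpen (i ⁻¹ᵁ U) := isAffine_of_isAffineHom (i ∣_ U)
  have hsurj := Groth.Agent.Lib.H9RegImmStalk.app_surjective_of_restrict i U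
  have hsq : ∀ a, (Z.presheaf.germ (i ⁻¹ᵁ U) z hz).hom ((i.app U).hom a)
      = (i.stalkMap z).hom ((X.presheaf.germ U (i z) hz).hom a) := fun a =>
    (i.germ_stalkMap_apply U z hz a).symm
  have hk0 := Groth.Agent.Lib.Helper5.StalkSpec.ker_eq_map_of_isLocalization
    (X.presheaf.germ U (i z) hz).hom (Z.presheaf.germ (i ⁻¹ᵁ U) z hz).hom (i.app U).hom
    (i.stalkMap z).hom hsq hsurj _ (hU.isLocalization_stalk ⟨i z, hz⟩) _
    (hU'.isLocalization_stalk ⟨z, hz⟩)
  rw [hk0, hker, Ideal.map_ofList]

/-- Krull's height theorem in the form used here -/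
theorem ringKrullDim_le_length {R : Type u} [CommRing R] [IsLocalRing R] [IsNoetherianRing R]
    (L : List R) (hne : Ideal.ofList L ≠ ⊤) (h0 : ringKrullDim (R ⧸ Ideal.ofList L) = 0) :
    ringKrullDim R ≤ (L.length : ℕ) := by
  classical
  have h1 := ringKrullDim_le_ringKrullDim_quotient_add_spanFinrank (R := R) (Ideal.ofList L) (by
    rw [IsLocalRing.ringJacobson_eq_maximalIdeal]
    exact IsLocalRing.le_maximalIdeal hne)
  rw [h0, zero_add] at h1
  refine h1.trans ?_
  have h2 : (Ideal.ofList L).spanFinrank ≤ L.length := by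
    have hfin : ({a | a ∈ L} : Set R).Finite := L.finite_toSet
    refine (Submodule.spanFinrank_span_le_ncard_of_finite hfin).trans ?_
    have : ({a | a ∈ L} : Set R) = ↑L.toFinset := by ext a; simp
    rw [this, Set.ncard_coe_finset]
    exact L.toFinset_card_le
  exact_mod_cast h2

/-- dimension of the closure of a point of a scheme locally of finite type over a field -/
theorem dim_closure_eq_ptTrdeg (k : Type u) [Field k] {W : Scheme.{u}}
    (g : W ⟶ Spec (CommRingCat.of k)) [LocallyOfFiniteType g] (ξ : W) :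
    topologicalKrullDim ↥(closure ({ξ} : Set W)) = ((ptTrdeg g ξ : ℕ) : WithBot ℕ∞) := by
  haveI : Subsingleton ↥(Spec (CommRingCat.of k)) :=
    (inferInstance : Subsingleton (PrimeSpectrum k))
  have hpre : g ⁻¹' {g ξ} = Set.univ := by
    ext z
    simp only [Set.mem_preimage, Set.mem_singleton_iff, Set.mem_univ, iff_true]
    exact Subsingleton.elim _ _
  let φ : ↥(g.fiber (g ξ)) ≃ₜ W :=
    (g.fiberHomeo (g ξ)).trans ((Homeomorph.setCongr hpre).trans (Homeomorph.Set.univ W))
  have hφ : φ (g.asFiber ξ) = ξ := g.fiberι_asFiber ξ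
  have h1 := Groth.Agent.Lib.H9RectDepthSch.topologicalKrullDim_closure_asFiber_eq_ptTrdeg g ξ
  rw [← h1]
  have himg : φ '' closure ({g.asFiber ξ} : Set ↥(g.fiber (g ξ))) = closure ({ξ} : Set W) := by
    rw [φ.image_closure, Set.image_singleton, hφ]
  have e1 : ↥(closure ({g.asFiber ξ} : Set ↥(g.fiber (g ξ)))) ≃ₜ
      ↥(φ '' closure ({g.asFiber ξ} : Set ↥(g.fiber (g ξ)))) := φ.image _
  have e2 := e1.trans (Homeomorph.setCongr himg)
  exact (IsHomeomorph.topologicalKrullDim_eq _ e2.isHomeomorph).symm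

end Groth.Agent.Lib.R2LeadDimCompA
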