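import Mathlib
import Groth.Agent.Lib.Helper4DimFormulaT
import Groth.Agent.Lib.R2H4CartierSq
import Groth.Agent.Lib.R2LeadDimCompA

/-!
# Lower bound for the rank of the differentials of a residue field of a scheme lft over a field
-/

set_option autoImplicit false
set_option linter.style.haveILetI false
universe u

namespace Groth.Agent.Lib.R2LeadDiffGenD

open CategoryTheory AlgebraicGeometry Limits TensorProduct KaehlerDifferential TopologicalSpace
open Groth.Agent.Lib.Helper4.DimFormula

/-- for a field extension of finite type, `trdeg ≤ rank Ω`. -/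
theorem trdeg_le_rank_kaehler (K L : Type u) [Field K] [Field L] [Algebra K L]
    [Algebra.EssFiniteType K L] (n : ℕ) (hn : Algebra.trdeg K L = (n : Cardinal.{u})) :
    (n : Cardinal.{u}) ≤ Module.rank L Ω[L⁄K] := by
  obtain ⟨h1, -, h3⟩ := Groth.Agent.Lib.R2H4.CartierSq.cartier_h1 K L
  haveI := h1
  rw [hn, Cardinal.toNat_natCast] at h3
  rw [← Module.finrank_eq_rank]
  exact_mod_cast (Nat.le_add_left _ _).trans h3.le

set_option linter.style.haveILetI false in
/-- **rank bound**: the differentials of the residue field at `η` over the sections of the base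
have rank at least `trdeg κ(η)`. -/
theorem ptTrdeg_le_rank {S Z : Scheme.{u}} (pZ : Z ⟶ S) [LocallyOfFiniteType pZ] (η : Z)
    {V : Z.Opens} (hηV : η ∈ V) {W : S.Opens} (hVW : V ≤ pZ ⁻¹ᵁ W) :
    letI algRκ : Algebra Γ(S, W) (Z.residueField η) :=
      ((Z.evaluation V η hηV).hom.comp (pZ.appLE W V hVW).hom).toAlgebra
    (ptTrdeg pZ η : Cardinal.{u}) ≤ Module.rank (Z.residueField η) Ω[Z.residueField η⁄Γ(S, W)] := by
  letI algRκ : Algebra Γ(S, W) (Z.residueField η) :=
    ((Z.evaluation V η hηV).hom.comp (pZ.appLE W V hVW).hom).toAlgebra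
  have hW : pZ η ∈ W := hVW hηV
  letI algRK : Algebra Γ(S, W) (S.residueField (pZ η)) := (S.evaluation W (pZ η) hW).hom.toAlgebra
  letI algKκ : Algebra (S.residueField (pZ η)) (Z.residueField η) :=
    (pZ.residueFieldMap η).hom.toAlgebra
  haveI : IsScalarTower Γ(S, W) (S.residueField (pZ η)) (Z.residueField η) := by
    refine IsScalarTower.of_algebraMap_eq fun a => ?_
    change Z.evaluation V η hηV (pZ.appLE W V hVW a) =
      pZ.residueFieldMap η (S.evaluation W (pZ η) hW a)
    rw [Scheme.evaluation_naturality_apply, Scheme.Hom.appLE]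
    simp only [CommRingCat.comp_apply]
    change Z.residue η (Z.presheaf.germ V η hηV (Z.presheaf.map (homOfLE hVW).op (pZ.app W a))) =
      Z.residue η (Z.presheaf.germ (pZ ⁻¹ᵁ W) η hW (pZ.app W a))
    rw [TopCat.Presheaf.germ_res_apply]
  haveI : Algebra.EssFiniteType (S.residueField (pZ η)) (Z.residueField η) :=
    RingHom.EssFiniteType.residueFieldMap (LocallyOfFiniteType.stalkMap pZ η)
  have h1 := trdeg_le_rank_kaehler (S.residueField (pZ η)) (Z.residueField η) (ptTrdeg pZ η)
    (trdeg_eq_ptTrdeg pZ η)
  refine h1.trans ?_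
  exact LinearMap.rank_le_of_surjective
    (KaehlerDifferential.map Γ(S, W) (S.residueField (pZ η)) (Z.residueField η) (Z.residueField η))
    (KaehlerDifferential.map_surjective Γ(S, W) (S.residueField (pZ η)) (Z.residueField η))

end Groth.Agent.Lib.R2LeadDiffGenD
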