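import Mathlib
import Groth.Agent.Lib.R2LeadDiffGenB
import Groth.Agent.Lib.R2LeadDiffGenC
import Groth.Agent.Lib.R2LeadDiffGenD
import Groth.Agent.Lib.R2H2KoszLCI

/-!
# Generic rank of `c : f^*Ω_Z → Ω_X` on a chart, when `f^*Ω_Z` is free
-/

set_option autoImplicit false
set_option linter.style.haveILetI false
universe u

namespace Groth.Agent.Lib.R2LeadDiffGenE

open CategoryTheory AlgebraicGeometry Limits TensorProduct KaehlerDifferential TopologicalSpace
open Groth.Agent.Lib.R2H2.KoszLCI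

/-- pulling back linear independence along an injective ring hom and a semilinear map -/
theorem linearIndependent_of_semilinear {R₁ R₂ M₁ M₂ : Type*} [CommRing R₁] [Field R₂]
    [AddCommGroup M₁] [AddCommGroup M₂] [Module R₁ M₁] [Module R₂ M₂]
    (φ : R₁ →+* R₂) (hφ : Function.Injective φ) (ψ : M₁ →+ M₂)
    (hψ : ∀ (r : R₁) (x : M₁), ψ (r • x) = φ r • ψ x)
    {n : ℕ} (v : Fin n → M₁) (hv : LinearIndependent R₂ (fun j => ψ (v j))) :
    LinearIndependent R₁ v := by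
  rw [Fintype.linearIndependent_iff] at hv ⊢
  intro a ha j
  have h1 : ∑ i, φ (a i) • ψ (v i) = 0 := by
    rw [← map_zero ψ, ← ha, map_sum]
    exact Finset.sum_congr rfl fun i _ => (hψ _ _).symm
  have h2 := hv (fun i => φ (a i)) h1 j
  exact hφ (by rw [h2, map_zero])

set_option linter.style.haveILetI false in
/-- **core**: on an affine chart `U₀ ⊆ f⁻¹ V` through the generic point, `m` of the standard
sections of the free module `f^*Ω_Z` have linearly independent images in the differentials of the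
function field, `m` the dimension of the closure of the image of the generic point. -/
theorem core (k : Type u) [Field k] {X Z : Scheme.{u}} (pZ : Z ⟶ Spec (CommRingCat.of k))
    (f : X ⟶ Z) [LocallyOfFiniteType pZ] [LocallyOfFiniteType f] [IsIntegral X]
    (m : ℕ) (hm : topologicalKrullDim (closure ({f (genericPoint X)} : Set Z)) = m)
    (hsep : GeometricallyReduced (f.fiberToSpecResidueField (f (genericPoint X))))
    (ΩZ : Z.Modules) (dZ : OmegaSh.Der pZ ΩZ) (hdZ : OmegaSh.IsUniversal dZ)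
    (ΩX : X.Modules) (dX : OmegaSh.Der (f ≫ pZ) ΩX) (hdX : OmegaSh.IsUniversal dX)
    (c : (Scheme.Modules.pullback f).obj ΩZ ⟶ ΩX) (hc : OmegaSh.IsDiffCompat f dZ dX c)
    (d : ℕ) (Φ : (Scheme.Modules.pullback f).obj ΩZ ≅ FlatMod.freeMod X d)
    {U₀ : X.Opens} (hU₀ : IsAffineOpen U₀) (hξ : genericPoint X ∈ U₀)
    {V : Z.Opens} (hV : IsAffineOpen V) (hUV : U₀ ≤ f ⁻¹ᵁ V) :
    ∃ (L : Type u) (_ : Field L) (ρ : Γ(X, U₀) →+* L) (_ : Function.Injective ρ)
      (N : Type u) (_ : AddCommGroup N) (_ : Module L N) (ψ : Γ(ΩX, U₀) →+ N),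
      (∀ (b : Γ(X, U₀)) (x : Γ(ΩX, U₀)), ψ (b • x) = ρ b • ψ x) ∧
      ∃ σ : Fin m → Fin d, LinearIndependent L
        (fun j => ψ (c.app U₀ (Φ.inv.app U₀ (stdSec d U₀ (σ j))))) := by
  set ξ := genericPoint X with hξdef
  let S := Spec (CommRingCat.of k)
  let W : S.Opens := ⊤
  have hW : IsAffineOpen W := isAffineOpen_top S
  have hVW : V ≤ pZ ⁻¹ᵁ W := fun _ _ => trivial
  have hUW : U₀ ≤ (f ≫ pZ) ⁻¹ᵁ W := fun _ _ => trivial
  have hηV : f ξ ∈ V := hUV hξ
  letI algRA : Algebra Γ(S, W) Γ(Z, V) := (pZ.appLE W V hVW).hom.toAlgebra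
  letI algRB : Algebra Γ(S, W) Γ(X, U₀) := ((f ≫ pZ).appLE W U₀ hUW).hom.toAlgebra
  letI algAB : Algebra Γ(Z, V) Γ(X, U₀) := (f.appLE V U₀ hUV).hom.toAlgebra
  haveI : IsScalarTower Γ(S, W) Γ(Z, V) Γ(X, U₀) := by
    refine IsScalarTower.of_algebraMap_eq fun r => ?_
    have h1 : pZ.appLE W V hVW ≫ f.appLE V U₀ hUV = (f ≫ pZ).appLE W U₀ hUW :=
      Scheme.Hom.appLE_comp_appLE _ _ _ _ _ _ _
    exact congr($h1.symm r)
  letI algBL : Algebra Γ(X, U₀) (X.residueField ξ) := (X.evaluation U₀ ξ hξ).hom.toAlgebra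
  letI algAL : Algebra Γ(Z, V) (X.residueField ξ) :=
    ((algebraMap Γ(X, U₀) (X.residueField ξ)).comp (algebraMap Γ(Z, V) Γ(X, U₀))).toAlgebra
  letI algRL : Algebra Γ(S, W) (X.residueField ξ) :=
    ((algebraMap Γ(X, U₀) (X.residueField ξ)).comp (algebraMap Γ(S, W) Γ(X, U₀))).toAlgebra
  haveI : IsScalarTower Γ(Z, V) Γ(X, U₀) (X.residueField ξ) :=
    IsScalarTower.of_algebraMap_eq fun _ => rfl
  haveI : IsScalarTower Γ(S, W) Γ(X, U₀) (X.residueField ξ) :=
    IsScalarTower.of_algebraMap_eq fun _ => rfl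
  haveI : IsScalarTower Γ(S, W) Γ(Z, V) (X.residueField ξ) := by
    refine IsScalarTower.of_algebraMap_eq fun r => ?_
    change algebraMap Γ(X, U₀) (X.residueField ξ) (algebraMap Γ(S, W) Γ(X, U₀) r) =
      algebraMap Γ(X, U₀) (X.residueField ξ)
        (algebraMap Γ(Z, V) Γ(X, U₀) (algebraMap Γ(S, W) Γ(Z, V) r))
    rw [← IsScalarTower.algebraMap_apply Γ(S, W) Γ(Z, V) Γ(X, U₀)]
  letI algAκ : Algebra Γ(Z, V) (Z.residueField (f ξ)) :=
    (Z.evaluation V (f ξ) hηV).hom.toAlgebra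
  letI algRκ : Algebra Γ(S, W) (Z.residueField (f ξ)) :=
    ((Z.evaluation V (f ξ) hηV).hom.comp (pZ.appLE W V hVW).hom).toAlgebra
  haveI : IsScalarTower Γ(S, W) Γ(Z, V) (Z.residueField (f ξ)) :=
    IsScalarTower.of_algebraMap_eq fun _ => rfl
  letI algκL : Algebra (Z.residueField (f ξ)) (X.residueField ξ) :=
    (f.residueFieldMap ξ).hom.toAlgebra
  haveI towAκL : IsScalarTower Γ(Z, V) (Z.residueField (f ξ)) (X.residueField ξ) := by
    refine IsScalarTower.of_algebraMap_eq fun a => ?_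
    change X.evaluation U₀ ξ hξ (f.appLE V U₀ hUV a) =
      f.residueFieldMap ξ (Z.evaluation V (f ξ) hηV a)
    rw [Scheme.evaluation_naturality_apply, Scheme.Hom.appLE]
    simp only [CommRingCat.comp_apply]
    change X.residue ξ (X.presheaf.germ U₀ ξ hξ (X.presheaf.map (homOfLE hUV).op (f.app V a))) =
      X.residue ξ (X.presheaf.germ (f ⁻¹ᵁ V) ξ hηV (f.app V a))
    rw [TopCat.Presheaf.germ_res_apply]
  haveI : IsScalarTower Γ(S, W) (Z.residueField (f ξ)) (X.residueField ξ) := by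
    refine IsScalarTower.of_algebraMap_eq fun r => ?_
    change algebraMap Γ(S, W) (X.residueField ξ) r =
      algebraMap (Z.residueField (f ξ)) (X.residueField ξ)
        (algebraMap Γ(Z, V) (Z.residueField (f ξ)) (algebraMap Γ(S, W) Γ(Z, V) r))
    rw [← IsScalarTower.algebraMap_apply Γ(Z, V) (Z.residueField (f ξ)) (X.residueField ξ),
      ← IsScalarTower.algebraMap_apply Γ(S, W) Γ(Z, V) (X.residueField ξ)]
  -- `A → κ` is formally unramified
  haveI : Algebra.FormallyUnramified Γ(Z, V) (Z.residueField (f ξ)) := by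
    letI : Algebra Γ(Z, V) (Z.presheaf.stalk (f ξ)) :=
      TopCat.Presheaf.algebra_section_stalk Z.presheaf ⟨f ξ, hηV⟩
    haveI hloc := hV.isLocalization_stalk ⟨f ξ, hηV⟩
    haveI : Algebra.FormallyUnramified Γ(Z, V) (Z.presheaf.stalk (f ξ)) :=
      Algebra.FormallyUnramified.of_isLocalization (hV.primeIdealOf ⟨f ξ, hηV⟩).asIdeal.primeCompl
    let g : Z.presheaf.stalk (f ξ) →ₐ[Γ(Z, V)] Z.residueField (f ξ) :=
      { (Z.residue (f ξ)).hom with commutes' := fun r => rfl }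
    exact Algebra.FormallyUnramified.of_surjective g (Z.residue_surjective _)
  -- `κ → L` is formally smooth
  haveI : Algebra.FormallySmooth (Z.residueField (f ξ)) (X.residueField ξ) :=
    Groth.Agent.Lib.R2LeadDiffGenB.formallySmooth_residueFieldMap_generic f hsep
  -- the rank bound
  have hrank : (m : Cardinal.{u}) ≤
      Module.rank (Z.residueField (f ξ)) Ω[Z.residueField (f ξ)⁄Γ(S, W)] := by
    have h1 := Groth.Agent.Lib.R2LeadDiffGenD.ptTrdeg_le_rank pZ (f ξ) hηV hVW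
    have h2 := Groth.Agent.Lib.R2LeadDimCompA.dim_closure_eq_ptTrdeg k pZ (f ξ)
    rw [hm] at h2
    have h3 : m = Groth.Agent.Lib.Helper4.DimFormula.ptTrdeg pZ (f ξ) := by exact_mod_cast h2
    rw [h3]
    exact h1
  -- the chart model
  obtain ⟨e₁, e₂, κ', hκ1, hκ2⟩ := Groth.Agent.Helper18OmLS.exists_chart_model f pZ (f ≫ pZ) dZ dX c
    hc hUV hdZ hdX hU₀ hV hW hVW hW hUW rfl rfl rfl
  have hκ' : κ' = KaehlerDifferential.mapBaseChange Γ(S, W) Γ(Z, V) Γ(X, U₀) := by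
    apply Groth.Agent.Helper18OmLS.tensor_kaehler_ext
    intro a
    rw [hκ2, KaehlerDifferential.mapBaseChange_tmul, KaehlerDifferential.map_D]
  -- the generating family
  let ΦU : Γ(FlatMod.freeMod X d, U₀) →ₗ[Γ(X, U₀)] Γ((Scheme.Modules.pullback f).obj ΩZ, U₀) :=
    { toFun := fun x => Φ.inv.app U₀ x
      map_add' := fun x y => map_add _ x y
      map_smul' := fun r x => Scheme.Modules.Hom.app_smul Φ.inv r x }
  have hΦsurj : Function.Surjective ΦU := by
    intro y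
    refine ⟨Φ.hom.app U₀ y, ?_⟩
    change Φ.inv.app U₀ (Φ.hom.app U₀ y) = y
    change (Φ.hom ≫ Φ.inv).app U₀ y = y
    rw [Iso.hom_inv_id]
    rfl
  let g : Fin d → Γ(X, U₀) ⊗[Γ(Z, V)] Ω[Γ(Z, V)⁄Γ(S, W)] :=
    fun i => e₁.symm (ΦU (stdSec d U₀ i))
  have hg : Submodule.span Γ(X, U₀) (Set.range g) = ⊤ := by
    have h1 : Submodule.span Γ(X, U₀) (Set.range (stdSec d U₀)) = ⊤ := by
      have := (stdBasis d U₀).span_eq
      rwa [show (⇑(stdBasis d U₀) : Fin d → _) = stdSec d U₀ from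
        funext fun i => stdBasis_apply d U₀ i] at this
    have h2 : Set.range g = (e₁.symm.toLinearMap ∘ₗ ΦU) '' (Set.range (stdSec d U₀)) := by
      rw [← Set.range_comp]
      rfl
    rw [h2, ← Submodule.map_span, h1, Submodule.map_top, LinearMap.range_eq_top]
    exact e₁.symm.surjective.comp hΦsurj
  obtain ⟨σ, hσ⟩ := Groth.Agent.Lib.R2LeadDiffGenC.exists_linearIndependent_image Γ(S, W) Γ(Z, V)
    Γ(X, U₀) (Z.residueField (f ξ)) (X.residueField ξ) m hrank g hg
  refine ⟨X.residueField ξ, inferInstance, algebraMap Γ(X, U₀) (X.residueField ξ),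
    Groth.Agent.Lib.H6xDiffMono.evaluation_genericPoint_injective hξ,
    Ω[X.residueField ξ⁄Γ(S, W)], inferInstance, inferInstance,
    ((KaehlerDifferential.map Γ(S, W) Γ(S, W) Γ(X, U₀) (X.residueField ξ)).toAddMonoidHom.comp
      e₂.toLinearMap.toAddMonoidHom), ?_, σ, ?_⟩
  · intro b x
    change KaehlerDifferential.map Γ(S, W) Γ(S, W) Γ(X, U₀) (X.residueField ξ) (e₂ (b • x)) =
      algebraMap Γ(X, U₀) (X.residueField ξ) b •
        KaehlerDifferential.map Γ(S, W) Γ(S, W) Γ(X, U₀) (X.residueField ξ) (e₂ x)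
    rw [map_smul, map_smul, algebraMap_smul]
  · convert hσ using 2 with j
    change KaehlerDifferential.map Γ(S, W) Γ(S, W) Γ(X, U₀) (X.residueField ξ)
      (e₂ (c.app U₀ (Φ.inv.app U₀ (stdSec d U₀ (σ j))))) = _
    have h1 : e₂ (c.app U₀ (Φ.inv.app U₀ (stdSec d U₀ (σ j)))) = κ' (g (σ j)) := by
      rw [hκ1]
      change _ = e₂ (c.app U₀ (e₁ (e₁.symm (ΦU (stdSec d U₀ (σ j))))))
      rw [e₁.apply_symm_apply]
      rfl
    rw [h1, hκ']
    rfl

end Groth.Agent.Lib.R2LeadDiffGenE
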