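import Mathlib
import Groth.Agent.Lib.R2LeadDiffGenE
import Groth.Agent.Lib.Helper23Extend

/-!
# S19520: linearly independent sections of `Ω_X` from a free `f^*Ω_Z`
-/

set_option autoImplicit false
set_option linter.style.haveILetI false
universe u

namespace Groth.Agent.Lib.R2LeadDiffGenF

open CategoryTheory AlgebraicGeometry Limits TensorProduct TopologicalSpace Opposite
open Groth.Agent.Lib.R2H2.KoszLCI

/-- the standard sections of `O^d` restrict to the standard sections -/
theorem map_stdSec {X : Scheme.{u}} (d : ℕ) {U U' : X.Opens} (i : U' ⟶ U) (j : Fin d) :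
    (FlatMod.freeMod X d).presheaf.map i.op (stdSec d U j) = stdSec d U' j := by
  unfold stdSec
  rw [← Groth.Agent.Lib.Helper23.Extend.app_map]
  congr 1
  change OmegaSh.strSect X U' (X.presheaf.map i.op 1) = _
  rw [map_one]

/-- the generic point of `X` maps to the given generic point of the closure of the image -/
theorem map_genericPoint_eq {X Z : Scheme.{u}} [IsIntegral X] (f : X ⟶ Z) (η : Z)
    (hη : closure {η} = closure (Set.range f.base)) : f (genericPoint X) = η := by
  have h1 : IsGenericPoint (f.base (genericPoint X)) (closure (f.base '' Set.univ)) :=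
    (genericPoint_spec X).image f.continuous
  rw [Set.image_univ, ← hη] at h1
  have h2 : IsGenericPoint η (closure {η}) := rfl
  exact h1.eq h2

/-- a chart through the generic point inside a nonempty open -/
theorem exists_chart {X Z : Scheme.{u}} [IsIntegral X] (f : X ⟶ Z) (U : X.Opens)
    (hU : (U : Set X).Nonempty) :
    ∃ (V : Z.Opens) (U₀ : X.Opens), IsAffineOpen V ∧ IsAffineOpen U₀ ∧ genericPoint X ∈ U₀ ∧
      U₀ ≤ U ∧ U₀ ≤ f ⁻¹ᵁ V := by
  have hξU : genericPoint X ∈ U :=
    ((genericPoint_spec X).mem_open_set_iff U.isOpen).mpr (by simpa using hU)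
  obtain ⟨V, hV, hxV, -⟩ :=
    exists_isAffineOpen_mem_and_subset (x := f (genericPoint X)) (U := ⊤) trivial
  obtain ⟨U₀, hU₀, hxU₀, hle⟩ := exists_isAffineOpen_mem_and_subset (x := genericPoint X)
    (U := f ⁻¹ᵁ V ⊓ U) ⟨hxV, hξU⟩
  exact ⟨V, U₀, hV, hU₀, hxU₀, hle.trans inf_le_right, hle.trans inf_le_left⟩

theorem main19520 (k : Type u) [Field k] {X Z : Scheme.{u}}
    (pX : X ⟶ Spec (CommRingCat.of k)) (pZ : Z ⟶ Spec (CommRingCat.of k))
    [LocallyOfFiniteType pX] [LocallyOfFiniteType pZ] [IsIntegral X]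
    (f : X ⟶ Z) (hf : f ≫ pZ = pX)
    (η : Z) (hη : closure {η} = closure (Set.range f.base)) (m : ℕ)
    (hm : topologicalKrullDim (closure (Set.range f.base)) = m)
    (hsep : GeometricallyReduced (pullback.snd f (Z.fromSpecResidueField η)))
    (ΩZ : Z.Modules) (dZ : OmegaSh.Der pZ ΩZ) (hdZ : OmegaSh.IsUniversal dZ)
    (ΩX : X.Modules) (dX : OmegaSh.Der pX ΩX) (hdX : OmegaSh.IsUniversal dX)
    (c : (Scheme.Modules.pullback f).obj ΩZ ⟶ ΩX) (hc : OmegaSh.IsDiffCompat f dZ dX c)
    (d : ℕ) (Φ : (Scheme.Modules.pullback f).obj ΩZ ≅ FlatMod.freeMod X d) (U : X.Opens) :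
    ∃ s : Fin m → ΩX.val.obj (Opposite.op U),
      LinearIndependent (X.ringCatSheaf.obj.obj (Opposite.op U)) s := by
  subst hf
  haveI : LocallyOfFiniteType f := locallyOfFiniteType_of_comp f pZ
  obtain rfl := map_genericPoint_eq f η hη
  by_cases hU : (U : Set X).Nonempty
  · obtain ⟨V, U₀, hV, hU₀, hξ, hU₀U, hU₀V⟩ := exists_chart f U hU
    rw [← hη] at hm
    obtain ⟨L, _, ρ, hρ, N, _, _, ψ, hψ, σ, hσ⟩ := Groth.Agent.Lib.R2LeadDiffGenE.core k pZ f m hm
      hsep ΩZ dZ hdZ ΩX dX hdX c hc d Φ hU₀ hξ hV hU₀V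
    refine ⟨fun j => c.app U (Φ.inv.app U (stdSec d U (σ j))), ?_⟩
    haveI : Nonempty U₀ := ⟨⟨_, hξ⟩⟩
    have hinj : Function.Injective (X.presheaf.map (homOfLE hU₀U).op).hom :=
      map_injective_of_isIntegral X (homOfLE hU₀U)
    refine Groth.Agent.Lib.R2LeadDiffGenE.linearIndependent_of_semilinear
      (R₁ := Γ(X, U)) (M₁ := Γ(ΩX, U))
      (ρ.comp (X.presheaf.map (homOfLE hU₀U).op).hom) (hρ.comp hinj)
      (ψ.comp (ΩX.presheaf.map (homOfLE hU₀U).op).hom) ?_ _ ?_
    · intro r x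
      change ψ (ΩX.presheaf.map (homOfLE hU₀U).op (r • x)) = _
      rw [Scheme.Modules.map_smul, hψ]
      rfl
    · convert hσ using 2 with j
      change ψ (ΩX.presheaf.map (homOfLE hU₀U).op (c.app U (Φ.inv.app U (stdSec d U (σ j))))) = _
      rw [← Groth.Agent.Lib.Helper23.Extend.app_map, ← Groth.Agent.Lib.Helper23.Extend.app_map,
        map_stdSec]
  · have hbot : U = ⊥ := by
      ext x
      simp only [Opens.coe_bot, Set.mem_empty_iff_false, iff_false]
      exact fun hx => hU ⟨x, hx⟩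
    subst hbot
    haveI : Subsingleton (X.ringCatSheaf.obj.obj (Opposite.op (⊥ : X.Opens))) :=
      inferInstanceAs (Subsingleton Γ(X, ⊥))
    exact ⟨fun _ => 0, linearIndependent_of_subsingleton⟩

end Groth.Agent.Lib.R2LeadDiffGenF
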