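import Mathlib
import Groth.Agent.Lib.R2LeadDiffGenF
import Groth.Agent.Lib.R2H2DetTriv
import Groth.Agent.Lib.Helper5GenSmooth
import Groth.Agent.Lib.Helper20FlatDesc

/-!
# S19524: a nonzero section of `Ω^m` over the smooth locus
-/

set_option autoImplicit false
set_option linter.style.haveILetI false
universe u

namespace Groth.Agent.Lib.R2LeadDiffGenG

open CategoryTheory AlgebraicGeometry Limits TensorProduct TopologicalSpace Opposite
open Groth.Agent.Lib.R2H2.KoszLCI Groth.Agent.Lib.R2H2.DetTriv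
open Groth.Agent.Lib.Helper23.GenLocus Groth.Agent.Lib.Helper23.Extend

section Alg

/-- a wedge is nonzero as soon as the images of its factors under a semilinear map to a vector
space are linearly independent -/
theorem ιMulti_ne_zero {B M L N : Type*} [CommRing B] [AddCommGroup M] [Module B M] [Field L]
    [AddCommGroup N] [Module L N] (ρ : B →+* L) (ψ : M →+ N)
    (hψ : ∀ (b : B) (x : M), ψ (b • x) = ρ b • ψ x) {m : ℕ} (v : Fin m → M)
    (hli : LinearIndependent L (fun j => ψ (v j))) : exteriorPower.ιMulti B m v ≠ 0 := by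
  classical
  letI := ρ.toAlgebra
  letI : Module B N := Module.compHom N ρ
  haveI : IsScalarTower B L N :=
    ⟨fun b l n => by change (ρ b * l) • n = ρ b • (l • n); rw [mul_smul]⟩
  let ψ' : M →ₗ[B] N := { toFun := ψ, map_add' := map_add ψ, map_smul' := fun b x => hψ b x }
  let F : (Fin m → L) →ₗ[L] N := Fintype.linearCombination L (fun j => ψ (v j))
  have hF : Function.Injective F := hli.fintypeLinearCombination_injective
  obtain ⟨π, hπ⟩ := LinearMap.exists_leftInverse_of_injective F (LinearMap.ker_eq_bot.mpr hF)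
  let Δ₀ : MultilinearMap B (fun _ : Fin m => M) L :=
    ((Matrix.detRowAlternating (R := L) (n := Fin m)).toMultilinearMap.restrictScalars
      B).compLinearMap (fun _ => (π.restrictScalars B) ∘ₗ ψ')
  let Δ : M [⋀^Fin m]→ₗ[B] L :=
    { Δ₀ with
      map_eq_zero_of_eq' := fun x i j hx hij =>
        (Matrix.detRowAlternating (R := L) (n := Fin m)).map_eq_zero_of_eq
          (fun i => π (ψ (x i))) (by rw [hx]) hij }
  have hΔ : Δ v = 1 := by
    change Matrix.det (fun i => π (ψ (v i))) = 1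
    have h2 : (fun i => π (ψ (v i))) = (1 : Matrix (Fin m) (Fin m) L) := by
      funext i
      have h1 : ψ (v i) = F (Pi.single i 1) := by
        simp [F, Fintype.linearCombination_apply_single]
      rw [h1]
      have h3 := LinearMap.congr_fun hπ (Pi.single i 1)
      simp only [LinearMap.coe_comp, Function.comp_apply, LinearMap.id_coe, id_eq] at h3
      rw [h3]
      ext j
      simp [Matrix.one_apply, Pi.single_apply, eq_comm]
    rw [h2, Matrix.det_one]
  intro h0
  have h4 := exteriorPower.alternatingMapLinearEquiv_apply_ιMulti Δ v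
  rw [h0, map_zero, hΔ] at h4
  exact zero_ne_one h4

end Alg

/-- if the base change of `X` to the algebraic closure is reduced, the smooth locus is nonempty -/
theorem exists_mem_smoothLocus (k : Type u) [Field k] {X : Scheme.{u}}
    (pX : X ⟶ Spec (CommRingCat.of k)) [LocallyOfFiniteType pX] [Nonempty X]
    (hred : IsReduced (pullback pX
      (Spec.map (CommRingCat.ofHom (algebraMap k (AlgebraicClosure k)))))) :
    ∃ x : X, x ∈ pX.smoothLocus := by
  haveI : LocallyOfFinitePresentation pX := inferInstance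
  let g0 : Spec (CommRingCat.of (AlgebraicClosure k)) ⟶ Spec (CommRingCat.of k) :=
    Spec.map (CommRingCat.ofHom (algebraMap k (AlgebraicClosure k)))
  have : Subsingleton ↥(Spec (CommRingCat.of k)) :=
    inferInstanceAs (Subsingleton (PrimeSpectrum k))
  have : Flat g0 := inferInstance
  have hsurj : Surjective g0 := ⟨fun x => ⟨Classical.arbitrary _, Subsingleton.elim _ _⟩⟩
  have : Surjective (pullback.fst pX g0) :=
    MorphismProperty.pullback_fst (P := @Surjective) _ _ hsurj
  obtain ⟨z⟩ := (inferInstance : Nonempty X)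
  obtain ⟨w₀, hw₀⟩ := (pullback.fst pX g0).surjective z
  haveI := hred
  obtain ⟨w, hw, hwsm⟩ := Groth.Agent.Lib.Helper5.GenSmooth.exists_specializes_mem_smoothLocus
    (pullback.snd pX g0) w₀
  exact ⟨pullback.fst pX g0 w,
    Groth.Agent.Lib.Helper20.FlatDesc.formallySmooth_stalkMap_of_flat_baseChange pX g0 w hwsm⟩

theorem main19524 (k : Type u) [Field k] {X Z : Scheme.{u}}
    (pX : X ⟶ Spec (CommRingCat.of k)) (pZ : Z ⟶ Spec (CommRingCat.of k))
    [LocallyOfFiniteType pX] [LocallyOfFiniteType pZ] [IsIntegral X]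
    (hgn : IsReduced (pullback pX
      (Spec.map (CommRingCat.ofHom (algebraMap k (AlgebraicClosure k))))))
    (f : X ⟶ Z) (hf : f ≫ pZ = pX)
    (η : Z) (hη : closure {η} = closure (Set.range f.base)) (m : ℕ)
    (hm : topologicalKrullDim (closure (Set.range f.base)) = m)
    (hsep : GeometricallyReduced (pullback.snd f (Z.fromSpecResidueField η)))
    (ΩZ : Z.Modules) (dZ : OmegaSh.Der pZ ΩZ) (hdZ : OmegaSh.IsUniversal dZ)
    (ΩX : X.Modules) (dX : OmegaSh.Der pX ΩX) (hdX : OmegaSh.IsUniversal dX)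
    (c : (Scheme.Modules.pullback f).obj ΩZ ⟶ ΩX) (hc : OmegaSh.IsDiffCompat f dZ dX c)
    (d : ℕ) (Φ : (Scheme.Modules.pullback f).obj ΩZ ≅ FlatMod.freeMod X d) (U : X.Opens)
    (hUmax : ∀ V : X.Opens, Smooth (V.ι ≫ pX) → V ≤ U)
    (Ωm : X.Modules) (hΩm : ExtPow.IsExtPow m ΩX Ωm) :
    ∃ s : Ωm.val.obj (Opposite.op U), s ≠ 0 := by
  -- `U` is nonempty
  have hU : (U : Set X).Nonempty := by
    obtain ⟨x, hx⟩ := exists_mem_smoothLocus k pX hgn
    have hsm : Smooth (pX.smoothLocus.ι ≫ pX) := by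
      rw [← Scheme.Hom.smoothLocus_eq_top_iff, ← Scheme.Hom.preimage_smoothLocus_eq]
      exact Scheme.Opens.ι_preimage_self _
    exact ⟨x, hUmax _ hsm hx⟩
  subst hf
  haveI : LocallyOfFiniteType f := locallyOfFiniteType_of_comp f pZ
  obtain rfl := Groth.Agent.Lib.R2LeadDiffGenF.map_genericPoint_eq f η hη
  obtain ⟨V, U₀, hV, hU₀, hξ, hU₀U, hU₀V⟩ := Groth.Agent.Lib.R2LeadDiffGenF.exists_chart f U hU
  rw [← hη] at hm
  obtain ⟨L, _, ρ, hρ, N, _, _, ψ, hψ, σ, hσ⟩ := Groth.Agent.Lib.R2LeadDiffGenE.core k pZ f m hm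
    hsep ΩZ dZ hdZ ΩX dX hdX c hc d Φ hU₀ hξ hV hU₀V
  obtain ⟨D⟩ := nonempty_EPData hΩm
  let s' : Fin m → (Coh.structureModule X ⟶ ΩX) := fun j => inj d (σ j) ≫ Φ.inv ≫ c
  refine ⟨(wedge D s').app U (toS U 1), fun h0 => ?_⟩
  have h1 : Ωm.presheaf.map (homOfLE hU₀U).op ((wedge D s').app U (toS U 1)) =
      wloc D s' ⟨U₀, hU₀⟩ := by
    rw [← app_map, map_toS, map_one]
    exact (wedge_app D s' (⟨U₀, hU₀⟩ : X.affineOpens) (toS U₀ 1)).trans
      (by rw [ofS_toS]; exact one_smul _ _)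
  have h1' : wloc D s' ⟨U₀, hU₀⟩ = 0 := by
    rw [← h1, h0]
    exact map_zero (Ωm.presheaf.map (homOfLE hU₀U).op).hom
  have h2 : exteriorPower.ιMulti Γ(X, U₀) m (secs s' U₀) = 0 := by
    have h3 : (D.φ ⟨U₀, hU₀⟩).symm (exteriorPower.ιMulti Γ(X, U₀) m (secs s' U₀)) = 0 := h1'
    exact (LinearEquiv.map_eq_zero_iff _).mp h3
  exact ιMulti_ne_zero ρ ψ hψ (secs s' U₀) hσ h2

end Groth.Agent.Lib.R2LeadDiffGenG
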