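import Mathlib
import Groth.Prelude.Def_LieS

/-!
# Additivity of tangent vectors (points over the dual numbers) for monoid schemes

Lead seat, round 2.  Main results:
* `hom_ext_of_jointly_injective`: if `π₁ : C → C₁`, `π₂ : C → C₂` are jointly injective ring maps
  and `Spec π₁` is surjective, then `Spec π₁`, `Spec π₂` are jointly epimorphic on morphisms
  from `Spec C` to an arbitrary scheme.
* `scale_mul_scale`: for a monoid scheme `X` over `S` and a point `v` of `X` over the dual numbers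
  `I_T` restricting to the unit along the zero section,
  `(scale a ≫ v) * (scale b ≫ v) = scale (a + b) ≫ v`.
-/

set_option autoImplicit false
universe u
open CategoryTheory AlgebraicGeometry

namespace Groth.Agent.Lib.R2Lead.DualNumAdd

theorem joint_inj_away {C C₁ C₂ : Type u} [CommRing C] [CommRing C₁] [CommRing C₂]
    (π₁ : C →+* C₁) (π₂ : C →+* C₂) (hinj : ∀ x, π₁ x = 0 → π₂ x = 0 → x = 0) (c : C)
    (z : Localization.Away c) (h1 : Localization.awayMap π₁ c z = 0)
    (h2 : Localization.awayMap π₂ c z = 0) : z = 0 := by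
  obtain ⟨x, s, rfl⟩ := IsLocalization.exists_mk'_eq (Submonoid.powers c) z
  rw [IsLocalization.mk'_eq_zero_iff]
  simp only [Localization.awayMap, IsLocalization.Away.map, IsLocalization.map_mk'] at h1 h2
  rw [IsLocalization.mk'_eq_zero_iff] at h1 h2
  obtain ⟨⟨_, m₁, rfl⟩, hm₁⟩ := h1
  obtain ⟨⟨_, m₂, rfl⟩, hm₂⟩ := h2
  refine ⟨⟨c ^ (m₁ + m₂), _, rfl⟩, hinj _ ?_ ?_⟩
  · show π₁ (c ^ (m₁ + m₂) * x) = 0
    have : (π₁ c) ^ m₁ * π₁ x = 0 := hm₁
    rw [map_mul, map_pow, pow_add, mul_comm (π₁ c ^ m₁), _root_.mul_assoc, this, mul_zero]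
  · show π₂ (c ^ (m₁ + m₂) * x) = 0
    have : (π₂ c) ^ m₂ * π₂ x = 0 := hm₂
    rw [map_mul, map_pow, pow_add, _root_.mul_assoc, this, mul_zero]

theorem hom_ext_of_jointly_injective {C C₁ C₂ : Type u} [CommRing C] [CommRing C₁] [CommRing C₂]
    (π₁ : C →+* C₁) (π₂ : C →+* C₂) (hinj : ∀ x, π₁ x = 0 → π₂ x = 0 → x = 0)
    (hsurj : ∀ y : Spec (CommRingCat.of C), ∃ y₁ : Spec (CommRingCat.of C₁),
      (Spec.map (CommRingCat.ofHom π₁)) y₁ = y)
    {X : Scheme.{u}} (g g' : Spec (CommRingCat.of C) ⟶ X)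
    (h1 : Spec.map (CommRingCat.ofHom π₁) ≫ g = Spec.map (CommRingCat.ofHom π₁) ≫ g')
    (h2 : Spec.map (CommRingCat.ofHom π₂) ≫ g = Spec.map (CommRingCat.ofHom π₂) ≫ g') :
    g = g' := by
  have hpts : ∀ y, g y = g' y := by
    intro y
    obtain ⟨y₁, rfl⟩ := hsurj y
    rw [← Scheme.Hom.comp_apply, ← Scheme.Hom.comp_apply, h1]
  apply Scheme.hom_ext_of_forall
  intro y
  let 𝒰 := X.affineOpenCover
  obtain ⟨a, za, hza⟩ := 𝒰.openCover.exists_eq (g y)
  let jA : Spec (𝒰.X a) ⟶ X := 𝒰.f a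
  have hy : y ∈ g ⁻¹ᵁ jA.opensRange := ⟨za, hza⟩
  obtain ⟨_, ⟨c, rfl⟩, hyc, hcU⟩ :=
    PrimeSpectrum.isTopologicalBasis_basic_opens.exists_subset_of_mem_open
      (a := (y : PrimeSpectrum C)) (u := (g ⁻¹ᵁ jA.opensRange).1) hy (g ⁻¹ᵁ jA.opensRange).2
  let v : Spec (CommRingCat.of (Localization.Away c)) ⟶ Spec (CommRingCat.of C) :=
    Spec.map (CommRingCat.ofHom (algebraMap C (Localization.Away c)))
  haveI : IsOpenImmersion v := IsOpenImmersion.of_isLocalization c
  have hrange : Set.range v = (PrimeSpectrum.basicOpen c : Set (PrimeSpectrum C)) :=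
    PrimeSpectrum.localization_away_comap_range (Localization.Away c) c
  have hyU : y ∈ v.opensRange := by
    show y ∈ Set.range v
    rw [hrange]; exact hyc
  refine ⟨v.opensRange, hyU, ?_⟩
  suffices hv : v ≫ g = v ≫ g' by
    rw [← v.isoOpensRange_inv_comp, Category.assoc, Category.assoc, hv]
  have hvU : ∀ w, g (v w) ∈ Set.range jA := by
    intro w
    have : v w ∈ (PrimeSpectrum.basicOpen c : Set (PrimeSpectrum C)) := by
      rw [← hrange]; exact ⟨w, rfl⟩
    exact hcU this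
  have hrg : Set.range (v ≫ g) ⊆ Set.range jA := by
    rintro _ ⟨w, rfl⟩
    rw [Scheme.Hom.comp_apply]; exact hvU w
  have hrg' : Set.range (v ≫ g') ⊆ Set.range jA := by
    rintro _ ⟨w, rfl⟩
    rw [Scheme.Hom.comp_apply, ← hpts]; exact hvU w
  let lft1 := IsOpenImmersion.lift jA (v ≫ g) hrg
  let lft2 := IsOpenImmersion.lift jA (v ≫ g') hrg'
  have hlft1 : lft1 ≫ jA = v ≫ g := IsOpenImmersion.lift_fac _ _ _
  have hlft2 : lft2 ≫ jA = v ≫ g' := IsOpenImmersion.lift_fac _ _ _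
  suffices hrr : lft1 = lft2 by rw [← hlft1, ← hlft2, hrr]
  obtain ⟨rr, hrr⟩ := Spec.map_surjective lft1
  obtain ⟨ss, hss⟩ := Spec.map_surjective lft2
  rw [← hrr, ← hss]
  congr 1
  -- compatibility with the localised projections
  have hcompat : ∀ {C' : Type u} [CommRing C'] (π : C →+* C'),
      Spec.map (CommRingCat.ofHom π) ≫ g = Spec.map (CommRingCat.ofHom π) ≫ g' →
      rr ≫ CommRingCat.ofHom (Localization.awayMap π c) =
        ss ≫ CommRingCat.ofHom (Localization.awayMap π c) := by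
    intro C' _ π hπ
    apply Spec.map_injective
    rw [Spec.map_comp, Spec.map_comp, hrr, hss, ← cancel_mono jA, Category.assoc, Category.assoc,
      hlft1, hlft2]
    have hsq : Spec.map (CommRingCat.ofHom (Localization.awayMap π c)) ≫ v =
        Spec.map (CommRingCat.ofHom (algebraMap C' (Localization.Away (π c)))) ≫
          Spec.map (CommRingCat.ofHom π) := by
      show Spec.map _ ≫ Spec.map _ = _
      rw [← Spec.map_comp, ← Spec.map_comp, ← CommRingCat.ofHom_comp, ← CommRingCat.ofHom_comp]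
      congr 2
      exact IsLocalization.map_comp _
    rw [← Category.assoc, hsq, Category.assoc, hπ, ← Category.assoc, ← hsq, Category.assoc]
  have e1 := hcompat π₁ h1
  have e2 := hcompat π₂ h2
  ext t
  apply sub_eq_zero.mp
  apply joint_inj_away π₁ π₂ hinj c
  · rw [map_sub, sub_eq_zero]
    exact congrArg (fun m => m.hom t) e1
  · rw [map_sub, sub_eq_zero]
    exact congrArg (fun m => m.hom t) e2


section LieS

open MonObj

variable {S : Scheme.{u}} {B : Type u} [CommRing B] (f : Spec (CommRingCat.of B) ⟶ S)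

/-- `Spec R` as an `S`-scheme, for a `B`-algebra `R` (structure map through `f : Spec B ⟶ S`). -/
noncomputable abbrev ovr (R : Type u) [CommRing R] [Algebra B R] : Over S :=
  Over.mk (Spec.map (CommRingCat.ofHom (algebraMap B R)) ≫ f)

/-- The morphism of `S`-schemes induced by a `B`-algebra map. -/
noncomputable def ovrMap {R₁ R₂ : Type u} [CommRing R₁] [CommRing R₂] [Algebra B R₁] [Algebra B R₂]
    (φ : R₁ →ₐ[B] R₂) : ovr f R₂ ⟶ ovr f R₁ :=
  Over.homMk (Spec.map (CommRingCat.ofHom φ.toRingHom)) (by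
    have hc : φ.toRingHom.comp (algebraMap B R₁) = algebraMap B R₂ :=
      RingHom.ext fun b => φ.commutes b
    change Spec.map _ ≫ Spec.map _ ≫ f = Spec.map _ ≫ f
    rw [← Category.assoc, LieS.specMap_comp, hc])

theorem ovrMap_comp {R₁ R₂ R₃ : Type u} [CommRing R₁] [CommRing R₂] [CommRing R₃]
    [Algebra B R₁] [Algebra B R₂] [Algebra B R₃] (φ : R₁ →ₐ[B] R₂) (ψ : R₂ →ₐ[B] R₃) :
    ovrMap f ψ ≫ ovrMap f φ = ovrMap f (ψ.comp φ) := by
  apply Over.OverMorphism.ext
  change Spec.map _ ≫ Spec.map _ = Spec.map _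
  rw [LieS.specMap_comp]
  rfl

theorem ovrMap_comp_assoc {R₁ R₂ R₃ : Type u} [CommRing R₁] [CommRing R₂] [CommRing R₃]
    [Algebra B R₁] [Algebra B R₂] [Algebra B R₃] (φ : R₁ →ₐ[B] R₂) (ψ : R₂ →ₐ[B] R₃)
    {Z : Over S} (h : ovr f R₁ ⟶ Z) :
    ovrMap f ψ ≫ ovrMap f φ ≫ h = ovrMap f (ψ.comp φ) ≫ h := by
  rw [← Category.assoc, ovrMap_comp]

theorem ovrMap_id (R : Type u) [CommRing R] [Algebra B R] :
    ovrMap f (AlgHom.id B R) = 𝟙 _ := by
  apply Over.OverMorphism.ext
  change Spec.map (CommRingCat.ofHom (RingHom.id R)) = 𝟙 _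
  rw [CommRingCat.ofHom_id]; erw [Spec.map_id]

/-- the two projections `B ⊕ (B × B) → B[ε]` are jointly injective. -/
theorem pr_jointly_injective (x : TrivSqZeroExt B (B × B))
    (h1 : TrivSqZeroExt.map (LinearMap.fst B B B) x = 0)
    (h2 : TrivSqZeroExt.map (LinearMap.snd B B B) x = 0) : x = 0 := by
  have e0 : x.fst = 0 := by simpa using congrArg TrivSqZeroExt.fst h1
  have e1 : x.snd.1 = 0 := by simpa using congrArg TrivSqZeroExt.snd h1
  have e2 : x.snd.2 = 0 := by simpa using congrArg TrivSqZeroExt.snd h2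
  exact TrivSqZeroExt.ext e0 (Prod.ext e1 e2)

/-- the first projection `B ⊕ (B × B) → B[ε]` is surjective on prime spectra. -/
theorem comap_pr1 (P : PrimeSpectrum (TrivSqZeroExt B (B × B))) :
    PrimeSpectrum.comap (TrivSqZeroExt.map (LinearMap.fst B B B)).toRingHom
      (PrimeSpectrum.comap (TrivSqZeroExt.map (LinearMap.inl B B B)).toRingHom P) = P := by
  apply PrimeSpectrum.ext
  ext x
  simp only [PrimeSpectrum.comap_asIdeal, Ideal.mem_comap]
  set ex : TrivSqZeroExt B (B × B) := (TrivSqZeroExt.map (LinearMap.inl B B B)).toRingHom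
    ((TrivSqZeroExt.map (LinearMap.fst B B B)).toRingHom x) with hex
  have hd : (x - ex).fst = 0 := by simp [hex]
  have hsq : (x - ex) * (x - ex) = 0 := by
    apply TrivSqZeroExt.ext
    · rw [TrivSqZeroExt.fst_mul, hd, mul_zero, TrivSqZeroExt.fst_zero]
    · rw [TrivSqZeroExt.snd_mul, hd, zero_smul, MulOpposite.op_zero, zero_smul, add_zero,
        TrivSqZeroExt.snd_zero]
  have hmem : x - ex ∈ P.asIdeal := by
    have h2 : (x - ex) ^ 2 ∈ P.asIdeal := by rw [pow_two, hsq]; exact zero_mem _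
    exact P.isPrime.mem_of_pow_mem 2 h2
  constructor
  · intro h
    have := add_mem h hmem
    simpa using this
  · intro h
    have := sub_mem h hmem
    simpa using this

theorem scale_eq (b : B) :
    LieS.scale B f b = ovrMap f (TrivSqZeroExt.map (b • (LinearMap.id : B →ₗ[B] B))) := by
  apply Over.OverMorphism.ext
  change Spec.map _ = Spec.map _
  congr 2
  refine RingHom.ext fun x => TrivSqZeroExt.ext ?_ ?_
  · simp [LieS.scaleHom, TrivSqZeroExt.algebraMap_eq_inl]
  · simp [LieS.scaleHom, TrivSqZeroExt.algebraMap_eq_inl, mul_comm]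

theorem ovrMap_zero :
    ovrMap f (TrivSqZeroExt.map (0 : B →ₗ[B] B)) = LieS.proj B f ≫ LieS.zeroSec B f := by
  apply Over.OverMorphism.ext
  change Spec.map _ = Spec.map _ ≫ Spec.map _
  rw [LieS.specMap_comp]
  congr 2
  refine RingHom.ext fun x => TrivSqZeroExt.ext ?_ ?_
  · simp [TrivSqZeroExt.algebraMap_eq_inl]
  · simp [TrivSqZeroExt.algebraMap_eq_inl]

variable {X : Over S} [MonObj X]

theorem add_aux (v : ovr f (DualNumber B) ⟶ X)
    (hv : ovrMap f (TrivSqZeroExt.map (0 : B →ₗ[B] B)) ≫ v = 1) :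
    (ovrMap f (TrivSqZeroExt.map (LinearMap.inl B B B)) ≫ v) *
      (ovrMap f (TrivSqZeroExt.map (LinearMap.inr B B B)) ≫ v) =
    ovrMap f (TrivSqZeroExt.map (LinearMap.prod LinearMap.id LinearMap.id)) ≫ v := by
  have hid : ovrMap f (TrivSqZeroExt.map (LinearMap.id : B →ₗ[B] B)) ≫ v = v := by
    rw [TrivSqZeroExt.map_id, ovrMap_id, Category.id_comp]
  have k1 : ovrMap f (TrivSqZeroExt.map (LinearMap.fst B B B)) ≫
        ((ovrMap f (TrivSqZeroExt.map (LinearMap.inl B B B)) ≫ v) *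
          (ovrMap f (TrivSqZeroExt.map (LinearMap.inr B B B)) ≫ v)) =
      ovrMap f (TrivSqZeroExt.map (LinearMap.fst B B B)) ≫
        ovrMap f (TrivSqZeroExt.map (LinearMap.prod LinearMap.id LinearMap.id)) ≫ v := by
    rw [MonObj.comp_mul, ovrMap_comp_assoc, ovrMap_comp_assoc, ovrMap_comp_assoc,
      ← TrivSqZeroExt.map_comp_map, ← TrivSqZeroExt.map_comp_map, ← TrivSqZeroExt.map_comp_map,
      LinearMap.fst_comp_inl, LinearMap.fst_comp_inr, LinearMap.fst_prod, hid, hv, _root_.mul_one]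
  have k2 : ovrMap f (TrivSqZeroExt.map (LinearMap.snd B B B)) ≫
        ((ovrMap f (TrivSqZeroExt.map (LinearMap.inl B B B)) ≫ v) *
          (ovrMap f (TrivSqZeroExt.map (LinearMap.inr B B B)) ≫ v)) =
      ovrMap f (TrivSqZeroExt.map (LinearMap.snd B B B)) ≫
        ovrMap f (TrivSqZeroExt.map (LinearMap.prod LinearMap.id LinearMap.id)) ≫ v := by
    rw [MonObj.comp_mul, ovrMap_comp_assoc, ovrMap_comp_assoc, ovrMap_comp_assoc,
      ← TrivSqZeroExt.map_comp_map, ← TrivSqZeroExt.map_comp_map, ← TrivSqZeroExt.map_comp_map,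
      LinearMap.snd_comp_inl, LinearMap.snd_comp_inr, LinearMap.snd_prod, hid, hv, _root_.one_mul]
  apply Over.OverMorphism.ext
  refine hom_ext_of_jointly_injective
    (TrivSqZeroExt.map (LinearMap.fst B B B)).toRingHom
    (TrivSqZeroExt.map (LinearMap.snd B B B)).toRingHom
    (fun x h1 h2 => pr_jointly_injective x h1 h2)
    (fun y => ⟨_, comap_pr1 y⟩) _ _ ?_ ?_
  · exact congrArg (fun m => m.left) k1
  · exact congrArg (fun m => m.left) k2

theorem add_aux2 (v : ovr f (DualNumber B) ⟶ X)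
    (hv : ovrMap f (TrivSqZeroExt.map (0 : B →ₗ[B] B)) ≫ v = 1) (a b : B) :
    (ovrMap f (TrivSqZeroExt.map (a • (LinearMap.id : B →ₗ[B] B))) ≫ v) *
      (ovrMap f (TrivSqZeroExt.map (b • (LinearMap.id : B →ₗ[B] B))) ≫ v) =
    ovrMap f (TrivSqZeroExt.map ((a + b) • (LinearMap.id : B →ₗ[B] B))) ≫ v := by
  have hsum : (LinearMap.coprod (a • (LinearMap.id : B →ₗ[B] B)) (b • (LinearMap.id : B →ₗ[B] B))).comp
      (LinearMap.prod LinearMap.id LinearMap.id) = (a + b) • (LinearMap.id : B →ₗ[B] B) := by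
    apply LinearMap.ext
    intro x
    simp [add_mul]
  have h : ovrMap f (TrivSqZeroExt.map (LinearMap.coprod (a • (LinearMap.id : B →ₗ[B] B))
        (b • (LinearMap.id : B →ₗ[B] B)))) ≫
        ((ovrMap f (TrivSqZeroExt.map (LinearMap.inl B B B)) ≫ v) *
          (ovrMap f (TrivSqZeroExt.map (LinearMap.inr B B B)) ≫ v)) =
      ovrMap f (TrivSqZeroExt.map (LinearMap.coprod (a • (LinearMap.id : B →ₗ[B] B))
        (b • (LinearMap.id : B →ₗ[B] B)))) ≫
        ovrMap f (TrivSqZeroExt.map (LinearMap.prod LinearMap.id LinearMap.id)) ≫ v := by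
    rw [add_aux f v hv]
  rw [MonObj.comp_mul, ovrMap_comp_assoc, ovrMap_comp_assoc, ovrMap_comp_assoc,
    ← TrivSqZeroExt.map_comp_map, ← TrivSqZeroExt.map_comp_map, ← TrivSqZeroExt.map_comp_map,
    LinearMap.coprod_inl, LinearMap.coprod_inr, hsum] at h
  exact h

theorem ovrMap_zero_comp (v : LieS.dpt B f ⟶ X) (hv : LieS.zeroSec B f ≫ v = 1) :
    ovrMap f (TrivSqZeroExt.map (0 : B →ₗ[B] B)) ≫ v = 1 := by
  have e := ovrMap_zero f
  calc ovrMap f (TrivSqZeroExt.map (0 : B →ₗ[B] B)) ≫ v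
      = (LieS.proj B f ≫ LieS.zeroSec B f) ≫ v :=
        congrArg (fun m : LieS.dpt B f ⟶ LieS.dpt B f => m ≫ v) e
    _ = 1 := by rw [Category.assoc, hv, MonObj.comp_one]

/-- **Additivity of tangent vectors**: for a monoid scheme `X` over `S` and a point `v` of `X`
over the dual numbers restricting to the unit along the zero section. -/
theorem scale_mul_scale (v : LieS.dpt B f ⟶ X) (hv : LieS.zeroSec B f ≫ v = 1) (a b : B) :
    (LieS.scale B f a ≫ v) * (LieS.scale B f b ≫ v) = LieS.scale B f (a + b) ≫ v := by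
  rw [scale_eq, scale_eq, scale_eq]
  exact add_aux2 f v (ovrMap_zero_comp f v hv) a b

theorem scale_zero_comp (v : LieS.dpt B f ⟶ X) (hv : LieS.zeroSec B f ≫ v = 1) :
    LieS.scale B f 0 ≫ v = 1 := by
  rw [scale_eq, zero_smul]
  exact ovrMap_zero_comp f v hv

theorem scale_one : LieS.scale B f 1 = 𝟙 _ := by
  rw [scale_eq, one_smul, TrivSqZeroExt.map_id, ovrMap_id]
  rfl

theorem scale_one_comp (v : LieS.dpt B f ⟶ X) : LieS.scale B f 1 ≫ v = v := by
  rw [scale_one, Category.id_comp]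

/-- A point over the dual numbers of a monoid scheme that restricts to the unit is invertible. -/
theorem isUnit_of_zeroSec_comp_eq_one (v : LieS.dpt B f ⟶ X) (hv : LieS.zeroSec B f ≫ v = 1) :
    IsUnit v := by
  have h1 : LieS.scale B f 1 ≫ v = v := scale_one_comp f v
  have h0 : LieS.scale B f 0 ≫ v = 1 := scale_zero_comp f v hv
  refine isUnit_iff_exists.mpr ⟨LieS.scale B f (-1) ≫ v, ?_, ?_⟩
  · have := scale_mul_scale f v hv 1 (-1)
    rwa [h1, add_neg_cancel, h0] at this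
  · have := scale_mul_scale f v hv (-1) 1
    rwa [h1, neg_add_cancel, h0] at this

/-- `a ↦ scale a ≫ v` as a monoid homomorphism from the additive group of `B`. -/
noncomputable def scaleMonoidHom (v : LieS.dpt B f ⟶ X) (hv : LieS.zeroSec B f ≫ v = 1) :
    Multiplicative B →* (LieS.dpt B f ⟶ X) where
  toFun a := LieS.scale B f (Multiplicative.toAdd a) ≫ v
  map_one' := scale_zero_comp f v hv
  map_mul' a b := (scale_mul_scale f v hv _ _).symm

theorem scaleMonoidHom_apply (v : LieS.dpt B f ⟶ X) (hv : LieS.zeroSec B f ≫ v = 1)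
    (a : Multiplicative B) :
    scaleMonoidHom f v hv a = LieS.scale B f (Multiplicative.toAdd a) ≫ v := rfl

end LieS

end Groth.Agent.Lib.R2Lead.DualNumAdd
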