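import Mathlib
import Groth.Agent.Lib.R2H3ChowApprox
import Groth.Agent.Lib.Helper4DVRSch
import Groth.Agent.Lib.Helper4DVREx
import Groth.Agent.Lib.Helper11RedCl
import Groth.Agent.Lib.Helper10RedInd
import Groth.Agent.S9705

/-!
# EGA IV 15.7.1 for the closure of a subset (lead)
-/

set_option autoImplicit false
universe u
open CategoryTheory Limits AlgebraicGeometry TopologicalSpace Opposite IsLocalRing

namespace Groth.Agent.Lib.R2LeadDvrClosure

/-- In a Noetherian quasi-sober space, every point is a specialization of a point of any dense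
subset stable under generization. -/
theorem exists_specializes_of_dense {S : Type*} [TopologicalSpace S] [NoetherianSpace S]
    [QuasiSober S] (D : Set S) (hD : Dense D) (hgen : ∀ x y : S, x ⤳ y → y ∈ D → x ∈ D) (z : S) :
    ∃ ξ ∈ D, ξ ⤳ z := by
  have hfin : (irreducibleComponents S).Finite := NoetherianSpace.finite_irreducibleComponents
  let 𝒞 : Set (Set S) := {C ∈ irreducibleComponents S | (C ∩ D).Nonempty}
  have h𝒞fin : 𝒞.Finite := hfin.subset fun C hC => hC.1
  have hF : IsClosed (⋃ C ∈ 𝒞, C) :=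
    h𝒞fin.isClosed_biUnion fun C hC => isClosed_of_mem_irreducibleComponents C hC.1
  have hDF : D ⊆ ⋃ C ∈ 𝒞, C := by
    intro d hd
    refine Set.mem_biUnion (x := irreducibleComponent d) ⟨irreducibleComponent_mem_irreducibleComponents d, d, mem_irreducibleComponent, hd⟩ mem_irreducibleComponent
  have hz : z ∈ ⋃ C ∈ 𝒞, C := by
    have : closure D ⊆ ⋃ C ∈ 𝒞, C := closure_minimal hDF hF
    exact this (hD z)
  obtain ⟨C, ⟨hC, d, hdC, hdD⟩, hzC⟩ := Set.mem_iUnion₂.mp hz
  obtain ⟨ξ, hξ⟩ := QuasiSober.sober hC.1 (isClosed_of_mem_irreducibleComponents C hC)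
  have h1 : ξ ⤳ d := by
    rw [specializes_iff_mem_closure, hξ.def]; exact hdC
  refine ⟨ξ, hgen ξ d h1 hdD, ?_⟩
  rw [specializes_iff_mem_closure, hξ.def]; exact hzC

/-- The image of the closed point under an injective map from a domain to a field is the generic
point. -/
theorem specMap_closedPoint_eq_genericPoint {A : Type u} [CommRing A] [IsDomain A] {K : Type u}
    [Field K] (φ : A →+* K) (hφ : Function.Injective φ) :
    (Spec.map (CommRingCat.ofHom φ)) (closedPoint K) = genericPoint (Spec (CommRingCat.of A)) := by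
  rw [genericPoint_eq_bot_of_affine]
  apply PrimeSpectrum.ext
  change Ideal.comap φ (maximalIdeal K) = ⊥
  rw [IsLocalRing.maximalIdeal_eq_bot, ← RingHom.ker_eq_comap_bot]
  exact (RingHom.injective_iff_ker_eq_bot φ).mp hφ


/-- The residue field at the image of `Spec K → Spec A` is `K` when `K` is the fraction field. -/
theorem bijective_desc_of_isFractionRing {A : Type u} [CommRing A] [IsDomain A] {K : Type u}
    [Field K] [Algebra A K] [IsFractionRing A K]
    (i : Spec (CommRingCat.of K) ⟶ Spec (CommRingCat.of A))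
    (hi : i = Spec.map (CommRingCat.ofHom (algebraMap A K))) :
    Function.Bijective (Scheme.descResidueField (Scheme.stalkClosedPointTo i)).hom := by
  set d := Scheme.descResidueField (Scheme.stalkClosedPointTo i) with hd
  refine ⟨d.hom.injective, fun k => ?_⟩
  let p := i (closedPoint K)
  let ρ : CommRingCat.of A ⟶ (Spec (CommRingCat.of A)).residueField p :=
    ((Scheme.ΓSpecIso (CommRingCat.of A)).inv ≫
      (Spec (CommRingCat.of A)).presheaf.germ ⊤ p trivial) ≫ (Spec (CommRingCat.of A)).residue p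
  have hρ : ρ ≫ d = CommRingCat.ofHom (algebraMap A K) := by
    apply Spec.map_injective
    rw [Spec.map_comp, ← hi]
    have h1 := Scheme.descResidueField_stalkClosedPointTo_fromSpecResidueField K _ i
    rw [Scheme.fromSpecResidueField, Spec.fromSpecStalk_eq, ← Spec.map_comp] at h1
    exact h1
  obtain ⟨a, b, hb, rfl⟩ := IsFractionRing.div_surjective (A := A) k
  refine ⟨ρ.hom a / ρ.hom b, ?_⟩
  rw [map_div₀]
  have e : ∀ c : A, d.hom (ρ.hom c) = algebraMap A K c := fun c => by
    have := congrArg (fun m => m.hom c) hρ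
    simpa using this
  rw [e, e]

/-- Bijectivity of the residue field map at the image of a field-valued point. -/
theorem bijective_residueFieldMap {X' B : Scheme.{u}} (q : X' ⟶ B) {L : Type u} [Field L]
    (σ : Spec (CommRingCat.of L) ⟶ X')
    (hd : Function.Bijective (Scheme.descResidueField (Scheme.stalkClosedPointTo (σ ≫ q))).hom) :
    Function.Bijective (q.residueFieldMap (σ (closedPoint L))).hom := by
  have key := Scheme.descResidueField_stalkClosedPointTo_comp q σ
  refine ⟨(q.residueFieldMap (σ (closedPoint L))).hom.injective, fun b => ?_⟩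
  obtain ⟨c, hc⟩ := hd.2 ((Scheme.descResidueField (Scheme.stalkClosedPointTo σ)).hom b)
  refine ⟨c, ?_⟩
  apply (Scheme.descResidueField (Scheme.stalkClosedPointTo σ)).hom.injective
  rw [← hc]
  have := congrArg (fun m => m.hom c) key
  exact this.symm

/-- Two field-valued points through the same point with trivial residue extension over the base
coincide as soon as their images in the base coincide. -/
theorem eq_of_bijective_residueFieldMap {X' B : Scheme.{u}} (q : X' ⟶ B) {L : Type u} [Field L]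
    (u₁ u₂ : Spec (CommRingCat.of L) ⟶ X') (x' : X') (h₁ : u₁ (closedPoint L) = x')
    (h₂ : u₂ (closedPoint L) = x') (hq : u₁ ≫ q = u₂ ≫ q)
    (hbij : Function.Bijective (q.residueFieldMap x').hom) : u₁ = u₂ := by
  have fac : ∀ (u : Spec (CommRingCat.of L) ⟶ X') (x : X'), u (closedPoint L) = x →
      ∃ v : Spec (CommRingCat.of L) ⟶ Spec (X'.residueField x),
        u = v ≫ X'.fromSpecResidueField x := by
    rintro u _ rfl
    exact ⟨_, (Scheme.descResidueField_stalkClosedPointTo_fromSpecResidueField L X' u).symm⟩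
  obtain ⟨v₁, rfl⟩ := fac u₁ x' h₁
  obtain ⟨v₂, rfl⟩ := fac u₂ x' h₂
  have hiso : IsIso (q.residueFieldMap x') :=
    (ConcreteCategory.isIso_iff_bijective _).mpr hbij
  have : IsIso (Spec.map (q.residueFieldMap x')) := inferInstance
  rw [Category.assoc, Category.assoc,
    ← Scheme.Hom.SpecMap_residueFieldMap_fromSpecResidueField, ← Category.assoc,
    ← Category.assoc, cancel_mono, cancel_mono] at hq
  rw [hq]


/-- A discrete valuation ring through a proper specialization of a point in the image. -/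
theorem dvr_through' {Xb X' : Scheme.{u}} [IsLocallyNoetherian Xb] (t : X' ⟶ Xb)
    [LocallyOfFiniteType t] (x' : X') (z : Xb) (h : t x' ⤳ z) (hne : t x' ≠ z) :
    ∃ (L : Type u) (_ : Field L) (V : ValuationSubring L) (_ : IsDiscreteValuationRing V)
      (a' : Spec (CommRingCat.of L) ⟶ X') (gV : Spec (CommRingCat.of V) ⟶ Xb),
      Spec.map (CommRingCat.ofHom V.subtype) ≫ gV = a' ≫ t ∧ gV (closedPoint V) = z ∧
        a' (closedPoint L) = x' := by
  obtain ⟨V, hV, gV, hg1, hg2⟩ := Groth.Agent.Lib.Helper4.DVRSch.exists_dvr_hom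
    (L := X'.residueField x') h hne (t.residueFieldMap x')
    (RingHom.EssFiniteType.residueFieldMap (LocallyOfFiniteType.stalkMap t x'))
  refine ⟨X'.residueField x', inferInstance, V, hV, X'.fromSpecResidueField x', gV, ?_, hg2, ?_⟩
  · exact hg1.trans (Scheme.Hom.SpecMap_residueFieldMap_fromSpecResidueField t x')
  · exact Scheme.fromSpecResidueField_apply _ _

/-- Every point of a quasi-sober space is a specialization of a point without proper
generizations. -/
theorem exists_maximal_specializes {S : Type*} [TopologicalSpace S] [QuasiSober S] [T0Space S]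
    (x : S) : ∃ η : S, (∀ η' : S, η' ⤳ η → η' = η) ∧ η ⤳ x := by
  obtain ⟨η, hη⟩ := QuasiSober.sober (isIrreducible_irreducibleComponent (x := x))
    isClosed_irreducibleComponent
  refine ⟨η, fun η' h => ?_, ?_⟩
  · have h1 : closure {η} ⊆ closure {η'} := specializes_iff_closure_subset.mp h
    have h2 : closure ({η'} : Set S) = irreducibleComponent x := by
      refine eq_irreducibleComponent isIrreducible_singleton.closure.isPreirreducible ?_
      rw [← hη.def]
      exact h1
    have h3 : closure ({η'} : Set S) = closure {η} := by rw [h2, hη.def]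
    exact ((inseparable_iff_closure_eq).mpr h3).eq
  · rw [specializes_iff_mem_closure, hη.def]
    exact mem_irreducibleComponent

/-- Core statement over a Noetherian base, in lifting form, testing only points whose image
lies in a set containing all maximal points. -/
theorem core' {X Y : Scheme.{u}} [IsNoetherian Y] (f : X ⟶ Y) [IsSeparated f]
    [LocallyOfFiniteType f] [QuasiCompact f] (y : Y) (Z₀ : Set X)
    (hM : ∀ η : X, (∀ η' : X, η' ⤳ η → η' = η) → η ∈ Z₀)
    (H : ∀ (L : Type u) [Field L] (V : ValuationSubring L), IsDiscreteValuationRing V →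
      ∀ (a : Spec (CommRingCat.of L) ⟶ X) (g : Spec (CommRingCat.of V) ⟶ Y),
        a ≫ f = Spec.map (CommRingCat.ofHom V.subtype) ≫ g → g (closedPoint V) = y →
        a (closedPoint L) ∈ Z₀ →
        ∃ l : Spec (CommRingCat.of V) ⟶ X, l ≫ f = g ∧
          Spec.map (CommRingCat.ofHom V.subtype) ≫ l = a) :
    ∃ U : Y.Opens, y ∈ U ∧ IsProper (f ∣_ U) := by
  obtain ⟨n, X₁, π₁, j₁, hj₁, hcomm₁, hπ₁, hπ₁s⟩ :=
    Groth.Agent.Lib.R2H3.ChowApprox.chow_noeth f
  -- refine the Chow cover
  let M : Set X := {η | ∀ η' : X, η' ⤳ η → η' = η}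
  have hMgen : ∀ x y : X, x ⤳ y → y ∈ M → x ∈ M := by
    intro x y hxy hy
    rw [hy x hxy]; exact hy
  let W : Closeds X₁ := ⟨closure (π₁ ⁻¹' M), isClosed_closure⟩
  let I := Scheme.IdealSheafData.vanishingIdeal W
  let X' : Scheme.{u} := I.subscheme
  let π : X' ⟶ X := I.subschemeι ≫ π₁
  let j : X' ⟶ CohB1.ProjSpaceOver n Y := I.subschemeι ≫ j₁
  have hrW : Set.range I.subschemeι = closure (π₁ ⁻¹' M) :=
    Groth.Agent.Lib.Helper11RedCl.range_subschemeι_vanishingIdeal W
  have hj : IsImmersion j := inferInstance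
  have hπ : IsProper π := inferInstance
  have hcomm : j ≫ CohB1.ProjSpaceOver.toBase n Y = π ≫ f := by
    rw [Category.assoc, hcomm₁, Category.assoc]
  have hπs : Surjective π := by
    refine ⟨fun x => ?_⟩
    obtain ⟨η, hη, hηx⟩ := exists_maximal_specializes x
    obtain ⟨x₁, hx₁⟩ := π₁.surjective η
    have hx₁W : x₁ ∈ Set.range I.subschemeι := by
      rw [hrW]; exact subset_closure (by show π₁ x₁ ∈ M; rw [hx₁]; exact hη)
    obtain ⟨x', hx'⟩ := hx₁W
    have hcl : IsClosed (Set.range π) := π.isClosedMap.isClosed_range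
    have hmem : η ∈ Set.range π := ⟨x', by
      show (I.subschemeι ≫ π₁) x' = η
      rw [Scheme.Hom.comp_apply, hx', hx₁]⟩
    exact hηx.mem_closed hcl hmem
  have hE : Dense (π ⁻¹' M) := by
    have hind : Topology.IsInducing I.subschemeι := I.subschemeι.isClosedEmbedding.isInducing
    intro x
    rw [hind.closure_eq_preimage_closure_image]
    have : I.subschemeι '' (π ⁻¹' M) = π₁ ⁻¹' M := by
      ext w
      constructor
      · rintro ⟨v, hv, rfl⟩; exact hv
      · intro hw
        have : w ∈ Set.range I.subschemeι := by rw [hrW]; exact subset_closure hw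
        obtain ⟨v, rfl⟩ := this
        exact ⟨v, hw, rfl⟩
    rw [this, ← hrW]
    exact ⟨x, rfl⟩
  have hpY := Groth.Agent.S9705.isProper_toBase n Y
  have hX'ln : IsLocallyNoetherian X' := LocallyOfFiniteType.isLocallyNoetherian (π ≫ f)
  have hX'c : CompactSpace X' := QuasiCompact.compactSpace_of_compactSpace (π ≫ f)
  have hX'n : IsNoetherian X' := {}
  have hjqc : QuasiCompact j := inferInstance
  let p : j.image ⟶ Y := j.imageι ≫ CohB1.ProjSpaceOver.toBase n Y
  have hp : IsProper p := inferInstance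
  have htp : j.toImage ≫ p = π ≫ f := by
    rw [← hcomm, ← Category.assoc, Scheme.Hom.toImage_imageι]
  have hIln : IsLocallyNoetherian j.image := LocallyOfFiniteType.isLocallyNoetherian p
  have hIc : CompactSpace j.image := QuasiCompact.compactSpace_of_compactSpace p
  have hIn : IsNoetherian j.image := {}
  -- the bad closed set
  have hZc : IsClosed (Set.range j.toImage)ᶜ :=
    j.toImage.isOpenEmbedding.isOpen_range.isClosed_compl
  have hCc : IsClosed (p '' (Set.range j.toImage)ᶜ) := p.isClosedMap _ hZc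
  let U : Y.Opens := ⟨(p '' (Set.range j.toImage)ᶜ)ᶜ, hCc.isOpen_compl⟩
  have hyU : y ∈ U := by
    rintro ⟨z, hz, hzy⟩
    -- a point of `X'` over a maximal point of `X` generizing `z`
    have hDd : Dense (j.toImage '' (π ⁻¹' M)) :=
      j.toImage.denseRange.dense_image j.toImage.continuous hE
    have hDg : ∀ a b : j.image, a ⤳ b → b ∈ j.toImage '' (π ⁻¹' M) →
        a ∈ j.toImage '' (π ⁻¹' M) := by
      rintro a _ hab ⟨e, he, rfl⟩
      have ha : a ∈ Set.range j.toImage :=
        hab.mem_open j.toImage.isOpenEmbedding.isOpen_range ⟨e, rfl⟩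
      obtain ⟨e₁, rfl⟩ := ha
      have h1 : e₁ ⤳ e := j.toImage.isOpenEmbedding.isInducing.specializes_iff.mp hab
      exact ⟨e₁, hMgen _ _ (h1.map π.continuous) he, rfl⟩
    obtain ⟨_, ⟨x', hx'M, rfl⟩, hx'⟩ := exists_specializes_of_dense _ hDd hDg z
    have hne : j.toImage x' ≠ z := fun h => hz ⟨x', h⟩
    obtain ⟨L, _, V, hV, a', gV, hg1, hg2, ha'⟩ :=
      dvr_through' j.toImage x' z hx' hne
    have := hV
    obtain ⟨l, hl1, hl2⟩ := H L V hV (a' ≫ π) (gV ≫ p) (by
        rw [Category.assoc, ← htp, ← Category.assoc, ← hg1, Category.assoc]) (by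
        rw [Scheme.Hom.comp_apply, hg2, hzy]) (by
        rw [Scheme.Hom.comp_apply, ha']; exact hM _ hx'M)
    -- lift through π
    have hex : ValuativeCriterion.Existence π :=
      ((UniversallyClosed.eq_valuativeCriterion ▸ (inferInstance : UniversallyClosed π) :
        (ValuativeCriterion.Existence ⊓ @QuasiCompact) π)).1
    have hsq : CommSq a' (Spec.map (CommRingCat.ofHom (algebraMap V L))) π l := ⟨hl2.symm⟩
    obtain ⟨⟨l', hl'1, hl'2⟩⟩ := (hex ⟨V, L, _, _, hsq⟩).exists_lift
    -- uniqueness in the image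
    have huq : ValuativeCriterion.Uniqueness p := IsSeparated.valuativeCriterion p
    have hsq2 : CommSq (a' ≫ j.toImage) (Spec.map (CommRingCat.ofHom (algebraMap V L))) p
        (gV ≫ p) :=
      ⟨by rw [← Category.assoc (Spec.map _), ← hg1]; rfl⟩
    have hss := huq ⟨V, L, _, _, hsq2⟩
    have e : (⟨l' ≫ j.toImage, by rw [← Category.assoc, hl'1],
        by rw [Category.assoc, htp, ← Category.assoc, hl'2, hl1]⟩ : hsq2.LiftStruct) =
        ⟨gV, hg1, rfl⟩ := Subsingleton.elim _ _
    have e' : l' ≫ j.toImage = gV := congrArg CommSq.LiftStruct.l e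
    apply hz
    refine ⟨l' (closedPoint V), ?_⟩
    rw [← hg2, ← e', Scheme.Hom.comp_apply]
  refine ⟨U, hyU, ?_⟩
  -- properness over `U`
  have hsurj : Surjective (j.toImage ∣_ (p ⁻¹ᵁ U)) := by
    refine ⟨fun v => ?_⟩
    have hv : v.1 ∈ Set.range j.toImage := by
      by_contra hv
      exact v.2 ⟨v.1, hv, rfl⟩
    obtain ⟨w, hw⟩ := hv
    have hwU : w ∈ j.toImage ⁻¹ᵁ (p ⁻¹ᵁ U) := by
      show j.toImage w ∈ p ⁻¹ᵁ U
      rw [hw]; exact v.2
    refine ⟨⟨w, hwU⟩, ?_⟩
    apply (p ⁻¹ᵁ U).ι.isOpenEmbedding.injective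
    rw [← Scheme.Hom.comp_apply, morphismRestrict_ι]
    exact hw
  have hiso : IsIso (j.toImage ∣_ (p ⁻¹ᵁ U)) := by
    apply isIso_of_isOpenImmersion_of_opensRange_eq_top
    ext v
    simp only [Scheme.Hom.coe_opensRange, Opens.coe_top, Set.mem_univ, iff_true]
    exact (j.toImage ∣_ (p ⁻¹ᵁ U)).surjective v
  have hpU : IsProper (p ∣_ U) := IsZariskiLocalAtTarget.restrict (P := @IsProper) hp U
  have h1 : IsProper ((π ≫ f) ∣_ U) := by
    rw [← htp, morphismRestrict_comp]
    have : IsClosedImmersion (j.toImage ∣_ (p ⁻¹ᵁ U)) := inferInstance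
    have : IsProper (j.toImage ∣_ (p ⁻¹ᵁ U)) := inferInstance
    exact MorphismProperty.comp_mem (W := @IsProper) _ _ this hpU
  rw [morphismRestrict_comp] at h1
  have hπU : Surjective (π ∣_ (f ⁻¹ᵁ U)) :=
    IsZariskiLocalAtTarget.restrict (P := @Surjective) hπs _
  have h1' : UniversallyClosed (π ∣_ (f ⁻¹ᵁ U) ≫ f ∣_ U) := h1.toUniversallyClosed
  have huc : UniversallyClosed (f ∣_ U) :=
    UniversallyClosed.of_comp_surjective (π ∣_ (f ⁻¹ᵁ U)) (f ∣_ U)
  have hs : IsSeparated (f ∣_ U) :=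
    IsZariskiLocalAtTarget.restrict (P := @IsSeparated) inferInstance U
  have hft : LocallyOfFiniteType (f ∣_ U) :=
    IsZariskiLocalAtTarget.restrict (P := @LocallyOfFiniteType) inferInstance U
  have hqc : QuasiCompact (f ∣_ U) :=
    IsZariskiLocalAtTarget.restrict (P := @QuasiCompact) inferInstance U
  exact { }


/-- A point over the generic point with trivial residue field extension is the image of a point
with values in the fraction field. -/
theorem exists_point_of_bijective {X' : Scheme.{u}} {A : Type u} [CommRing A] [IsDomain A]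
    {K : Type u} [Field K] [Algebra A K] [IsFractionRing A K]
    (q : X' ⟶ Spec (CommRingCat.of A)) (x' : X')
    (hη : q x' = genericPoint (Spec (CommRingCat.of A)))
    (hbij : Function.Bijective (q.residueFieldMap x').hom) :
    ∃ σ : Spec (CommRingCat.of K) ⟶ X',
      σ (closedPoint K) = x' ∧ σ ≫ q = Spec.map (CommRingCat.ofHom (algebraMap A K)) := by
  have he : q x' = (Spec.map (CommRingCat.ofHom (algebraMap A K))) (closedPoint K) :=
    hη.trans (specMap_closedPoint_eq_genericPoint _ (IsFractionRing.injective A K)).symm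
  have hiso : IsIso (q.residueFieldMap x') := (ConcreteCategory.isIso_iff_bijective _).mpr hbij
  let d := Scheme.descResidueField (Scheme.stalkClosedPointTo
    (Spec.map (CommRingCat.ofHom (algebraMap A K))))
  let ψ : X'.residueField x' ⟶ CommRingCat.of K :=
    inv (q.residueFieldMap x') ≫ ((Spec (CommRingCat.of A)).residueFieldCongr he).hom ≫ d
  refine ⟨Spec.map ψ ≫ X'.fromSpecResidueField x', ?_, ?_⟩
  · have h0 : (Spec.map ψ ≫ X'.fromSpecResidueField x') (closedPoint K) ∈
        Set.range (X'.fromSpecResidueField x') :=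
      ⟨Spec.map ψ (closedPoint K), (Scheme.Hom.comp_apply _ _ _).symm⟩
    rw [Scheme.range_fromSpecResidueField] at h0
    exact h0
  have h1 : q.residueFieldMap x' ≫ ψ =
      ((Spec (CommRingCat.of A)).residueFieldCongr he).hom ≫ d := by
    simp only [ψ, IsIso.hom_inv_id_assoc]
  have h2 : Spec.map ψ ≫ Spec.map (q.residueFieldMap x') =
      Spec.map d ≫ Spec.map ((Spec (CommRingCat.of A)).residueFieldCongr he).hom := by
    rw [← Spec.map_comp, ← Spec.map_comp, h1]
  have h3 := Scheme.descResidueField_stalkClosedPointTo_fromSpecResidueField K _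
    (Spec.map (CommRingCat.ofHom (algebraMap A K)))
  calc (Spec.map ψ ≫ X'.fromSpecResidueField x') ≫ q
      = Spec.map ψ ≫ (X'.fromSpecResidueField x' ≫ q) := Category.assoc _ _ _
    _ = Spec.map ψ ≫ (Spec.map (q.residueFieldMap x') ≫
          (Spec (CommRingCat.of A)).fromSpecResidueField (q x')) := by
        rw [Scheme.Hom.SpecMap_residueFieldMap_fromSpecResidueField]
    _ = (Spec.map d ≫ Spec.map ((Spec (CommRingCat.of A)).residueFieldCongr he).hom) ≫
          (Spec (CommRingCat.of A)).fromSpecResidueField (q x') := by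
        rw [← Category.assoc, h2]
    _ = Spec.map d ≫ (Spec (CommRingCat.of A)).fromSpecResidueField _ := by
        rw [Category.assoc, Scheme.residueFieldCongr_fromSpecResidueField]
    _ = _ := h3

open Scheme.IdealSheafData in
/-- The forward direction. -/
theorem forward_aux {X Y : Scheme.{u}} (f : X ⟶ Y) (Z : Set X) (y : Y) (U : Y.Opens) (hyU : y ∈ U)
    (CU : Closeds ((f ⁻¹ᵁ U).toScheme))
    (hCU : (CU : Set ((f ⁻¹ᵁ U).toScheme)) = (f ⁻¹ᵁ U).ι ⁻¹' closure Z)
    (hprop : IsProper ((vanishingIdeal CU).subschemeι ≫ (f ∣_ U)))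
    (A' : Type u) [CommRing A'] [IsDomain A'] [IsDiscreteValuationRing A']
    (K : Type u) [Field K] [Algebra A' K] [IsFractionRing A' K]
    (g : Spec (CommRingCat.of A') ⟶ Y) (hg : g (closedPoint A') = y)
    (x' : ↥(pullback f g)) (hxZ : (pullback.fst f g) x' ∈ Z)
    (hxη : (pullback.snd f g) x' = genericPoint (Spec (CommRingCat.of A')))
    (hbij : Function.Bijective ((pullback.snd f g).residueFieldMap x').hom) :
    ∃ s : Spec (CommRingCat.of A') ⟶ pullback f g, s ≫ pullback.snd f g = 𝟙 _ ∧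
      x' ∈ Set.range s := by
  obtain ⟨σ, hσ1, hσ2⟩ := exists_point_of_bijective (K := K) (pullback.snd f g) x' hxη hbij
  set i := Spec.map (CommRingCat.ofHom (algebraMap A' (K))) with hi
  -- `g` lands in `U`
  have hgU : Set.range g ⊆ Set.range U.ι := by
    rintro _ ⟨v, rfl⟩
    rw [Scheme.Opens.range_ι]
    have h1 : v ⤳ closedPoint A' := IsLocalRing.specializes_closedPoint v
    have h2 : g v ⤳ g (closedPoint A') := h1.map g.continuous
    rw [hg] at h2
    exact h2.mem_open U.2 hyU
  let gU : Spec (CommRingCat.of A') ⟶ U.toScheme := IsOpenImmersion.lift U.ι g hgU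
  have hgU' : gU ≫ U.ι = g := IsOpenImmersion.lift_fac _ _ _
  have ha₀ : (σ ≫ pullback.fst f g) ≫ f = i ≫ g := by
    rw [Category.assoc, pullback.condition, ← Category.assoc, hσ2]
  have hr₀ : Set.range (σ ≫ pullback.fst f g) ⊆ Set.range (f ⁻¹ᵁ U).ι := by
    rintro _ ⟨v, rfl⟩
    rw [Scheme.Opens.range_ι]
    show f ((σ ≫ pullback.fst f g) v) ∈ U
    have e : f ((σ ≫ pullback.fst f g) v) = (i ≫ g) v := by
      rw [← Scheme.Hom.comp_apply, ha₀]
    rw [e, Scheme.Hom.comp_apply]
    have := hgU ⟨i v, rfl⟩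
    rwa [Scheme.Opens.range_ι] at this
  let a₁ : Spec (CommRingCat.of (K)) ⟶ (f ⁻¹ᵁ U).toScheme :=
    IsOpenImmersion.lift (f ⁻¹ᵁ U).ι (σ ≫ pullback.fst f g) hr₀
  have ha₁ : a₁ ≫ (f ⁻¹ᵁ U).ι = σ ≫ pullback.fst f g := IsOpenImmersion.lift_fac _ _ _
  have hr₁ : Set.range a₁ ⊆ (CU : Set ((f ⁻¹ᵁ U).toScheme)) := by
    rintro _ ⟨v, rfl⟩
    rw [hCU]
    show (f ⁻¹ᵁ U).ι (a₁ v) ∈ closure Z
    rw [← Scheme.Hom.comp_apply, ha₁]
    have hv : v = closedPoint (K) := Subsingleton.elim _ _
    rw [hv]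
    have e1 : (σ ≫ pullback.fst f g) (closedPoint K) = (pullback.fst f g) (σ (closedPoint K)) :=
      Scheme.Hom.comp_apply _ _ _
    rw [e1, hσ1]
    exact subset_closure hxZ
  obtain ⟨a₂, ha₂⟩ := Groth.Agent.Lib.Helper11RedCl.exists_lift_of_range_subset a₁ CU hr₁
  -- the valuative square
  have hsq_w : a₂ ≫ (vanishingIdeal CU).subschemeι ≫ (f ∣_ U) = i ≫ gU := by
    apply (cancel_mono U.ι).mp
    calc (a₂ ≫ (vanishingIdeal CU).subschemeι ≫ (f ∣_ U)) ≫ U.ι
        = (a₂ ≫ (vanishingIdeal CU).subschemeι) ≫ ((f ∣_ U) ≫ U.ι) := by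
          simp only [Category.assoc]
      _ = a₁ ≫ ((f ⁻¹ᵁ U).ι ≫ f) := by rw [ha₂, morphismRestrict_ι]
      _ = (σ ≫ pullback.fst f g) ≫ f := by rw [← Category.assoc, ha₁]
      _ = i ≫ g := ha₀
      _ = (i ≫ gU) ≫ U.ι := by rw [Category.assoc, hgU']
  have hsq : CommSq a₂ i ((vanishingIdeal CU).subschemeι ≫ (f ∣_ U)) gU := ⟨hsq_w⟩
  have hex : ValuativeCriterion.Existence ((vanishingIdeal CU).subschemeι ≫ (f ∣_ U)) :=
    ((UniversallyClosed.eq_valuativeCriterion ▸
      (inferInstance : UniversallyClosed ((vanishingIdeal CU).subschemeι ≫ (f ∣_ U))) :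
        (ValuativeCriterion.Existence ⊓ @QuasiCompact) _)).1
  obtain ⟨⟨l, hl1, hl2⟩⟩ := (hex ⟨A', K, _, _, hsq⟩).exists_lift
  have hl₀ : (l ≫ (vanishingIdeal CU).subschemeι ≫ (f ⁻¹ᵁ U).ι) ≫ f = g := by
    rw [Category.assoc, Category.assoc, ← morphismRestrict_ι, ← Category.assoc,
      ← Category.assoc, Category.assoc l, hl2, hgU']
  refine ⟨pullback.lift (l ≫ (vanishingIdeal CU).subschemeι ≫ (f ⁻¹ᵁ U).ι) (𝟙 _)
    (by rw [hl₀, Category.id_comp]), pullback.lift_snd _ _ _, ?_⟩
  have hs : i ≫ pullback.lift (l ≫ (vanishingIdeal CU).subschemeι ≫ (f ⁻¹ᵁ U).ι) (𝟙 _)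
      (by rw [hl₀, Category.id_comp]) = σ := by
    apply pullback.hom_ext
    · rw [Category.assoc, pullback.lift_fst, ← Category.assoc, hl1, ← Category.assoc, ha₂, ha₁]
    · rw [Category.assoc, pullback.lift_snd, Category.comp_id, hσ2]
  refine ⟨i (closedPoint (K)), ?_⟩
  rw [← hσ1, ← hs]
  exact (Scheme.Hom.comp_apply _ _ _).symm




open Scheme.IdealSheafData in
/-- The backward direction. -/
theorem backward {X Y : Scheme.{u}} [IsNoetherian Y] (f : X ⟶ Y) [IsSeparated f]
    [LocallyOfFiniteType f] [QuasiCompact f] (Z : Set X)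
    (hZ : ∀ z ∈ closure Z, (∀ z' ∈ closure Z, z ∈ closure {z'} → z' = z) → z ∈ Z) (y : Y)
    (h : ∀ (A' : Type u) [CommRing A'] [IsDomain A'] [IsDiscreteValuationRing A']
      (g : Spec (CommRingCat.of A') ⟶ Y), g (closedPoint A') = y →
        ∀ x' : ↥(pullback f g), (pullback.fst f g) x' ∈ Z →
          (pullback.snd f g) x' = genericPoint (Spec (CommRingCat.of A')) →
          Function.Bijective ((pullback.snd f g).residueFieldMap x').hom →
          ∃ s : Spec (CommRingCat.of A') ⟶ pullback f g, s ≫ pullback.snd f g = 𝟙 _ ∧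
            x' ∈ Set.range s) :
    ∃ U : Y.Opens, y ∈ U ∧ ∀ (CU : Closeds ((f ⁻¹ᵁ U).toScheme)),
      (CU : Set ((f ⁻¹ᵁ U).toScheme)) = (f ⁻¹ᵁ U).ι ⁻¹' closure Z →
        IsProper ((vanishingIdeal CU).subschemeι ≫ (f ∣_ U)) := by
  let Zc : Closeds X := ⟨closure Z, isClosed_closure⟩
  let ιT := (vanishingIdeal Zc).subschemeι
  have hrT : Set.range ιT = closure Z :=
    Groth.Agent.Lib.Helper11RedCl.range_subschemeι_vanishingIdeal Zc
  have hM : ∀ η : (vanishingIdeal Zc).subscheme, (∀ η', η' ⤳ η → η' = η) → η ∈ ιT ⁻¹' Z := by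
    intro η hη
    apply hZ (ιT η) (by rw [← hrT]; exact ⟨η, rfl⟩)
    intro z' hz' hspec
    rw [← hrT] at hz'
    obtain ⟨η', rfl⟩ := hz'
    have h1 : η' ⤳ η :=
      (ιT.isClosedEmbedding.isInducing.specializes_iff).mp (specializes_iff_mem_closure.mpr hspec)
    rw [hη η' h1]
  have H : ∀ (L : Type u) [Field L] (V : ValuationSubring L), IsDiscreteValuationRing V →
      ∀ (a : Spec (CommRingCat.of L) ⟶ (vanishingIdeal Zc).subscheme)
        (g : Spec (CommRingCat.of V) ⟶ Y),
        a ≫ ιT ≫ f = Spec.map (CommRingCat.ofHom V.subtype) ≫ g → g (closedPoint V) = y →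
        a (closedPoint L) ∈ ιT ⁻¹' Z →
        ∃ l : Spec (CommRingCat.of V) ⟶ (vanishingIdeal Zc).subscheme, l ≫ ιT ≫ f = g ∧
          Spec.map (CommRingCat.ofHom V.subtype) ≫ l = a := by
    intro L _ V hV a g hag hgy haZ
    have := hV
    have hcond : (a ≫ ιT) ≫ f = Spec.map (CommRingCat.ofHom V.subtype) ≫ g := by
      rw [Category.assoc]; exact hag
    have hσ1 : pullback.lift (a ≫ ιT) (Spec.map (CommRingCat.ofHom V.subtype)) hcond ≫
        pullback.fst f g = a ≫ ιT := pullback.lift_fst _ _ _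
    have hσ2 : pullback.lift (a ≫ ιT) (Spec.map (CommRingCat.ofHom V.subtype)) hcond ≫
        pullback.snd f g = Spec.map (CommRingCat.ofHom V.subtype) := pullback.lift_snd _ _ _
    generalize pullback.lift (a ≫ ιT) (Spec.map (CommRingCat.ofHom V.subtype)) hcond = σ
      at hσ1 hσ2
    have e1 : (pullback.fst f g) (σ (closedPoint L)) = (a ≫ ιT) (closedPoint L) := by
      rw [← hσ1]; exact (Scheme.Hom.comp_apply _ _ _).symm
    have e2 : (pullback.snd f g) (σ (closedPoint L)) =
        (Spec.map (CommRingCat.ofHom V.subtype)) (closedPoint L) := by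
      rw [← hσ2]; exact (Scheme.Hom.comp_apply _ _ _).symm
    have h1 : (pullback.fst f g) (σ (closedPoint L)) ∈ Z := by
      rw [e1]; exact haZ
    have h2 : (pullback.snd f g) (σ (closedPoint L)) =
        genericPoint (Spec (CommRingCat.of V)) := by
      rw [e2]; exact specMap_closedPoint_eq_genericPoint V.subtype Subtype.val_injective
    have h3 : Function.Bijective
        ((pullback.snd f g).residueFieldMap (σ (closedPoint L))).hom := by
      apply bijective_residueFieldMap (pullback.snd f g) σ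
      exact bijective_desc_of_isFractionRing (A := V) (K := L) (σ ≫ pullback.snd f g) hσ2
    obtain ⟨s, hs1, v, hv⟩ := h V g hgy (σ (closedPoint L)) h1 h2 h3
    have hv' : v = (Spec.map (CommRingCat.ofHom V.subtype)) (closedPoint L) := by
      have e3 : (pullback.snd f g) (s v) = (s ≫ pullback.snd f g) v :=
        (Scheme.Hom.comp_apply _ _ _).symm
      rw [hs1, hv, e2] at e3
      exact e3.symm
    have hs3 : Spec.map (CommRingCat.ofHom V.subtype) ≫ s = σ := by
      refine eq_of_bijective_residueFieldMap (pullback.snd f g) _ σ (σ (closedPoint L)) ?_ rfl ?_ h3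
      · rw [← hv, hv']
        exact Scheme.Hom.comp_apply _ _ _
      · rw [Category.assoc, hs1, Category.comp_id, hσ2]
    have hl₀f : (s ≫ pullback.fst f g) ≫ f = g := by
      rw [Category.assoc, pullback.condition, ← Category.assoc, hs1, Category.id_comp]
    have hrange : Set.range (s ≫ pullback.fst f g) ⊆ (Zc : Set X) := by
      rintro _ ⟨w, rfl⟩
      show (s ≫ pullback.fst f g) w ∈ closure Z
      have hgen : genericPoint (Spec (CommRingCat.of V)) ⤳ w := genericPoint_specializes w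
      have h4 := hgen.map (s ≫ pullback.fst f g).continuous
      have h5 : (s ≫ pullback.fst f g) (genericPoint (Spec (CommRingCat.of V))) ∈ Z := by
        rw [← h2, e2, ← hv']
        have e6 : (s ≫ pullback.fst f g) v = (pullback.fst f g) (s v) :=
          Scheme.Hom.comp_apply _ _ _
        rw [e6, hv]; exact h1
      exact h4.mem_closed isClosed_closure (subset_closure h5)
    obtain ⟨l, hl⟩ := Groth.Agent.Lib.Helper11RedCl.exists_lift_of_range_subset
      (s ≫ pullback.fst f g) Zc hrange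
    refine ⟨l, ?_, ?_⟩
    · rw [← Category.assoc, hl, hl₀f]
    · rw [← cancel_mono ιT, Category.assoc, hl, ← Category.assoc, hs3, hσ1]
  obtain ⟨U, hyU, hU⟩ := core' (ιT ≫ f) y (ιT ⁻¹' Z) hM H
  refine ⟨U, hyU, fun CU hCU => ?_⟩
  rw [morphismRestrict_comp] at hU
  have hrange : Set.range (ιT ∣_ (f ⁻¹ᵁ U)) = Set.range (vanishingIdeal CU).subschemeι := by
    rw [Groth.Agent.Lib.Helper11RedCl.range_subschemeι_vanishingIdeal, hCU]
    ext v
    constructor
    · rintro ⟨w, rfl⟩
      show (f ⁻¹ᵁ U).ι ((ιT ∣_ (f ⁻¹ᵁ U)) w) ∈ closure Z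
      have e : (f ⁻¹ᵁ U).ι ((ιT ∣_ (f ⁻¹ᵁ U)) w) = ιT ((ιT ⁻¹ᵁ (f ⁻¹ᵁ U)).ι w) := by
        rw [← Scheme.Hom.comp_apply, morphismRestrict_ι, Scheme.Hom.comp_apply]
      rw [e, ← hrT]
      exact ⟨_, rfl⟩
    · intro hv
      have hv' : (f ⁻¹ᵁ U).ι v ∈ Set.range ιT := by rw [hrT]; exact hv
      obtain ⟨t, ht⟩ := hv'
      have htU : t ∈ ιT ⁻¹ᵁ (f ⁻¹ᵁ U) := by
        show ιT t ∈ f ⁻¹ᵁ U
        rw [ht]; exact v.2
      refine ⟨⟨t, htU⟩, ?_⟩
      apply (f ⁻¹ᵁ U).ι.isOpenEmbedding.injective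
      rw [← Scheme.Hom.comp_apply, morphismRestrict_ι, Scheme.Hom.comp_apply]
      exact ht
  obtain ⟨e, he⟩ := Groth.Agent.Lib.Helper10.RedInd.exists_iso_of_isClosedImmersion
    (ιT ∣_ (f ⁻¹ᵁ U)) (vanishingIdeal CU).subschemeι hrange
  have e2 : (vanishingIdeal CU).subschemeι ≫ f ∣_ U =
      e.inv ≫ (ιT ∣_ (f ⁻¹ᵁ U) ≫ f ∣_ U) := by
    rw [← he, Category.assoc, Iso.inv_hom_id_assoc]
  rw [e2]
  exact (MorphismProperty.cancel_left_of_respectsIso @IsProper e.inv _).mpr hU


/-- EGA IV 15.7.1 for the closure of `Z`. -/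
theorem main {X Y : Scheme.{u}} [IsNoetherian Y] (f : X ⟶ Y) [IsSeparated f]
    [LocallyOfFiniteType f] [QuasiCompact f] (Z : Set X)
    (hZ : ∀ z ∈ closure Z, (∀ z' ∈ closure Z, z ∈ closure {z'} → z' = z) → z ∈ Z) (y : Y) :
    (∃ U : Y.Opens, y ∈ U ∧ ∃ hC : IsClosed ((f ⁻¹ᵁ U).ι.base ⁻¹' closure Z),
      IsProper ((Scheme.IdealSheafData.vanishingIdeal
        (⟨(f ⁻¹ᵁ U).ι.base ⁻¹' closure Z, hC⟩ : TopologicalSpace.Closeds ↥(f ⁻¹ᵁ U))).subschemeι ≫ (f ∣_ U))) ↔
      ∀ (A' : Type u) [CommRing A'] [IsDomain A'] [IsDiscreteValuationRing A'] (g : Spec (CommRingCat.of A') ⟶ Y),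
        g.base (IsLocalRing.closedPoint A') = y →
        ∀ x' : ↥(pullback f g), (pullback.fst f g).base x' ∈ Z →
          (pullback.snd f g).base x' = genericPoint (Spec (CommRingCat.of A')) →
          Function.Bijective ((pullback.snd f g).residueFieldMap x').hom →
          ∃ s : Spec (CommRingCat.of A') ⟶ pullback f g, s ≫ pullback.snd f g = 𝟙 _ ∧ x' ∈ Set.range s.base := by
  constructor
  · rintro ⟨U, hyU, hC, hprop⟩ A' _ _ _ g hg x' hxZ hxη hbij
    exact forward_aux f Z y U hyU ⟨_, hC⟩ rfl hprop A' (FractionRing A') g hg x' hxZ hxη hbij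
  · intro h
    obtain ⟨U, hyU, hU⟩ := backward f Z hZ y h
    exact ⟨U, hyU, isClosed_closure.preimage (f ⁻¹ᵁ U).ι.continuous, hU ⟨_, _⟩ rfl⟩

end Groth.Agent.Lib.R2LeadDvrClosure
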