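import Mathlib
import Groth.Agent.Lib.R2LeadDvrClosure
import Groth.Agent.Lib.Helper4DVRDom

/-!
# EGA IV 15.7: properness near a point via discrete valuation rings of the function field (lead)
-/

set_option autoImplicit false
universe u
open CategoryTheory Limits AlgebraicGeometry TopologicalSpace Opposite IsLocalRing

namespace Groth.Agent.Lib.R2LeadDvrFunField

/-- The trace of a discrete valuation ring on a subfield is principal. -/
theorem isPrincipalIdealRing_comap {K L : Type*} [Field K] [Field L] (θ : K →+* L)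
    (V : ValuationSubring L) [IsDiscreteValuationRing V] :
    IsPrincipalIdealRing (V.comap θ) := by
  refine ⟨fun I => ?_⟩
  by_cases hI : I = ⊥
  · exact ⟨0, by rw [hI]; simp⟩
  obtain ⟨b₀, hb₀I, hb₀⟩ : ∃ b ∈ I, b ≠ 0 := by
    by_contra hcon
    push_neg at hcon
    exact hI ((Submodule.eq_bot_iff _).mpr hcon)
  let T : Set V := {c | ∃ a ∈ I, a ≠ 0 ∧ (c : L) = θ a}
  have hT : T.Nonempty := ⟨⟨θ b₀, b₀.2⟩, b₀, hb₀I, hb₀, rfl⟩
  obtain ⟨c, ⟨a, haI, ha0, hca⟩, hmin⟩ :=
    (IsWellFounded.wf (r := (DvdNotUnit : V → V → Prop))).has_min T hT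
  refine ⟨a, le_antisymm (fun b hb => ?_) ?_⟩
  · by_cases hb0 : b = 0
    · rw [hb0]; exact zero_mem _
    let cb : V := ⟨θ b, b.2⟩
    have hcb : cb ∈ T := ⟨b, hb, hb0, rfl⟩
    have hc0 : c ≠ 0 := by
      intro h
      have : θ (a : K) = 0 := by rw [← hca, h]; rfl
      exact ha0 (Subtype.ext ((map_eq_zero θ).mp this))
    have hdvd : c ∣ cb := by
      rcases ValuationRing.dvd_total c cb with h | h
      · exact h
      · by_contra hn
        apply hmin cb hcb
        obtain ⟨d, hd⟩ := h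
        refine ⟨fun h0 => ?_, d, fun hu => hn ?_, hd⟩
        · rw [h0] at hd; simp at hd; exact hc0 hd
        · obtain ⟨u, rfl⟩ := hu
          exact ⟨↑u⁻¹, by rw [hd]; simp [mul_assoc]⟩
    obtain ⟨d, hd⟩ := hdvd
    have hd' : (d : L) = θ ((b : K) / (a : K)) := by
      have h1 : (cb : L) = (c : L) * (d : L) := congrArg Subtype.val hd
      have hcL : (c : L) ≠ 0 := fun h => hc0 (Subtype.ext h)
      rw [map_div₀, ← hca]
      field_simp
      rw [mul_comm]; exact h1.symm
    have hmem : (b : K) / (a : K) ∈ V.comap θ := by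
      show θ ((b : K) / (a : K)) ∈ V
      rw [← hd']; exact d.2
    rw [Ideal.mem_span_singleton]
    refine ⟨⟨_, hmem⟩, Subtype.ext ?_⟩
    have ha0' : (a : K) ≠ 0 := fun h => ha0 (Subtype.ext h)
    show (b : K) = (a : K) * ((b : K) / (a : K))
    field_simp
  · rw [Ideal.span_le]
    rintro _ rfl
    exact haI

/-- The trace of a discrete valuation ring on a subfield is a discrete valuation ring or the whole
subfield. -/
theorem isDiscreteValuationRing_comap {K L : Type*} [Field K] [Field L] (θ : K →+* L)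
    (V : ValuationSubring L) [IsDiscreteValuationRing V] (hne : V.comap θ ≠ ⊤) :
    IsDiscreteValuationRing (V.comap θ) := by
  have := isPrincipalIdealRing_comap θ V
  have hN : IsNoetherianRing (V.comap θ) := inferInstance
  obtain ⟨k, hk⟩ : ∃ k : K, k ∉ V.comap θ := by
    by_contra hcon
    push_neg at hcon
    exact hne (eq_top_iff.mpr fun k _ => hcon k)
  have hk0 : k ≠ 0 := fun h => hk (h ▸ zero_mem _)
  refine Groth.Agent.Lib.Helper4.DVRDom.isDiscreteValuationRing_of_isNoetherianRing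
    (V.comap θ) (x := k⁻¹) ?_ (inv_ne_zero hk0)
  rw [ValuationSubring.mem_nonunits_iff_exists_mem_maximalIdeal]
  have hkinv : k⁻¹ ∈ V.comap θ := ((V.comap θ).mem_or_inv_mem k).resolve_left hk
  refine ⟨hkinv, ?_⟩
  rw [mem_maximalIdeal, mem_nonunits_iff]
  intro hu
  obtain ⟨u, hu⟩ := hu
  apply hk
  have h1 : ((↑u⁻¹ : V.comap θ) : K) = k := by
    have h2 : (u : V.comap θ) * ↑u⁻¹ = 1 := u.mul_inv
    have h3 : ((u : V.comap θ) : K) * ((↑u⁻¹ : V.comap θ) : K) = 1 := congrArg Subtype.val h2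
    rw [hu] at h3
    have : k⁻¹ * k = 1 := inv_mul_cancel₀ hk0
    exact mul_left_cancel₀ (inv_ne_zero hk0) (h3.trans this.symm)
  rw [← h1]
  exact (↑u⁻¹ : V.comap θ).2


/-- A morphism from a local spectrum factors through the spectrum of the local ring at the image
of the closed point. -/
theorem exists_fac_fromSpecStalk {Y : Scheme.{u}} {R : Type u} [CommRing R] [IsLocalRing R]
    (l : Spec (CommRingCat.of R) ⟶ Y) (y : Y) (h : l (closedPoint R) = y) :
    ∃ ψ : Y.presheaf.stalk y ⟶ CommRingCat.of R, IsLocalHom ψ.hom ∧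
      l = Spec.map ψ ≫ Y.fromSpecStalk y := by
  subst h
  exact ⟨Scheme.stalkClosedPointTo l, inferInstance,
    (Scheme.Spec_stalkClosedPointTo_fromSpecStalk l).symm⟩

/-- Two morphisms from the spectrum of a valuation subring which agree on the generic point and
send the closed point to the same point coincide. -/
theorem hom_ext_of_closedPoint {Y : Scheme.{u}} {L : Type u} [Field L] (V : ValuationSubring L)
    (l₁ l₂ : Spec (CommRingCat.of V) ⟶ Y) (y : Y) (h₁ : l₁ (closedPoint V) = y)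
    (h₂ : l₂ (closedPoint V) = y)
    (hi : Spec.map (CommRingCat.ofHom V.subtype) ≫ l₁ =
      Spec.map (CommRingCat.ofHom V.subtype) ≫ l₂) : l₁ = l₂ := by
  obtain ⟨ψ₁, -, rfl⟩ := exists_fac_fromSpecStalk l₁ y h₁
  obtain ⟨ψ₂, -, rfl⟩ := exists_fac_fromSpecStalk l₂ y h₂
  rw [← Category.assoc, ← Category.assoc, cancel_mono, ← Spec.map_comp, ← Spec.map_comp] at hi
  have h3 := Spec.map_injective hi
  have h4 : ψ₁ = ψ₂ := by
    ext r
    have := congrArg (fun m => m.hom r) h3
    exact this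
  rw [h4]

/-- Proper over a neighbourhood of `y` gives liftings for valuative squares centred at `y`. -/
theorem lift_of_proper_nhd {X Y : Scheme.{u}} (f : X ⟶ Y) (y : Y) (U : Y.Opens) (hyU : y ∈ U)
    [UniversallyClosed (f ∣_ U)] {R K : Type u} [CommRing R] [IsDomain R] [ValuationRing R]
    [Field K] [Algebra R K] [IsFractionRing R K] (a : Spec (CommRingCat.of K) ⟶ X)
    (g : Spec (CommRingCat.of R) ⟶ Y)
    (hag : a ≫ f = Spec.map (CommRingCat.ofHom (algebraMap R K)) ≫ g)
    (hg : g (closedPoint R) = y) :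
    ∃ l : Spec (CommRingCat.of R) ⟶ X, l ≫ f = g ∧
      Spec.map (CommRingCat.ofHom (algebraMap R K)) ≫ l = a := by
  have hgU : Set.range g ⊆ Set.range U.ι := by
    rintro _ ⟨v, rfl⟩
    rw [Scheme.Opens.range_ι]
    have h1 : v ⤳ closedPoint R := IsLocalRing.specializes_closedPoint v
    have h2 : g v ⤳ g (closedPoint R) := h1.map g.continuous
    rw [hg] at h2
    exact h2.mem_open U.2 hyU
  have hgU' : IsOpenImmersion.lift U.ι g hgU ≫ U.ι = g := IsOpenImmersion.lift_fac _ _ _
  generalize IsOpenImmersion.lift U.ι g hgU = gU at hgU'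
  have hr₀ : Set.range a ⊆ Set.range (f ⁻¹ᵁ U).ι := by
    rintro _ ⟨v, rfl⟩
    rw [Scheme.Opens.range_ι]
    show f (a v) ∈ U
    have e : f (a v) = (Spec.map (CommRingCat.ofHom (algebraMap R K)) ≫ g) v := by
      rw [← hag]; exact (Scheme.Hom.comp_apply _ _ _).symm
    rw [e]
    have := hgU ⟨(Spec.map (CommRingCat.ofHom (algebraMap R K))) v,
      (Scheme.Hom.comp_apply _ _ _).symm⟩
    rwa [Scheme.Opens.range_ι] at this
  have ha₁ : IsOpenImmersion.lift (f ⁻¹ᵁ U).ι a hr₀ ≫ (f ⁻¹ᵁ U).ι = a :=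
    IsOpenImmersion.lift_fac _ _ _
  generalize IsOpenImmersion.lift (f ⁻¹ᵁ U).ι a hr₀ = a₁ at ha₁
  have hsq_w : a₁ ≫ (f ∣_ U) = Spec.map (CommRingCat.ofHom (algebraMap R K)) ≫ gU := by
    apply (cancel_mono U.ι).mp
    rw [Category.assoc, morphismRestrict_ι, ← Category.assoc, ha₁, hag, Category.assoc, hgU']
  have hex : ValuativeCriterion.Existence (f ∣_ U) :=
    ((UniversallyClosed.eq_valuativeCriterion ▸
      (inferInstance : UniversallyClosed (f ∣_ U)) :
        (ValuativeCriterion.Existence ⊓ @QuasiCompact) _)).1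
  obtain ⟨⟨l, hl1, hl2⟩⟩ := (hex ⟨R, K, a₁, gU, ⟨hsq_w⟩⟩).exists_lift
  refine ⟨l ≫ (f ⁻¹ᵁ U).ι, ?_, ?_⟩
  · rw [Category.assoc, ← morphismRestrict_ι, ← Category.assoc, hl2, hgU']
  · rw [← Category.assoc, hl1, ha₁]

/-- `core'` over a locally Noetherian base. -/
theorem core'' {X Y : Scheme.{u}} [IsLocallyNoetherian Y] (f : X ⟶ Y) [IsSeparated f]
    [LocallyOfFiniteType f] [QuasiCompact f] (y : Y) (Z₀ : Set X)
    (hM : ∀ η : X, (∀ η' : X, η' ⤳ η → η' = η) → η ∈ Z₀)
    (H : ∀ (L : Type u) [Field L] (V : ValuationSubring L), IsDiscreteValuationRing V →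
      ∀ (a : Spec (CommRingCat.of L) ⟶ X) (g : Spec (CommRingCat.of V) ⟶ Y),
        a ≫ f = Spec.map (CommRingCat.ofHom V.subtype) ≫ g → g (closedPoint V) = y →
        a (closedPoint L) ∈ Z₀ →
        ∃ l : Spec (CommRingCat.of V) ⟶ X, l ≫ f = g ∧
          Spec.map (CommRingCat.ofHom V.subtype) ≫ l = a) :
    ∃ U : Y.Opens, y ∈ U ∧ IsProper (f ∣_ U) := by
  obtain ⟨Y₀, hY₀, hyY₀, -⟩ := exists_isAffineOpen_mem_and_subset (U := ⊤) (x := y) (by simp)
  have : IsAffine Y₀.toScheme := hY₀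
  have : IsNoetherian Y₀.toScheme := {}
  have hs : IsSeparated (f ∣_ Y₀) :=
    IsZariskiLocalAtTarget.restrict (P := @IsSeparated) inferInstance Y₀
  have hft : LocallyOfFiniteType (f ∣_ Y₀) :=
    IsZariskiLocalAtTarget.restrict (P := @LocallyOfFiniteType) inferInstance Y₀
  have hqc : QuasiCompact (f ∣_ Y₀) :=
    IsZariskiLocalAtTarget.restrict (P := @QuasiCompact) inferInstance Y₀
  have hM₀ : ∀ η : (f ⁻¹ᵁ Y₀).toScheme, (∀ η', η' ⤳ η → η' = η) →
      η ∈ (f ⁻¹ᵁ Y₀).ι ⁻¹' Z₀ := by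
    intro η hη
    apply hM
    intro x hx
    have hxU : x ∈ Set.range (f ⁻¹ᵁ Y₀).ι :=
      hx.mem_open (f ⁻¹ᵁ Y₀).ι.isOpenEmbedding.isOpen_range ⟨η, rfl⟩
    obtain ⟨η', rfl⟩ := hxU
    have h1 : η' ⤳ η := (f ⁻¹ᵁ Y₀).ι.isOpenEmbedding.isInducing.specializes_iff.mp hx
    rw [hη η' h1]
  have Hc : ∀ (L : Type u) [Field L] (V : ValuationSubring L), IsDiscreteValuationRing V →
      ∀ (a : Spec (CommRingCat.of L) ⟶ (f ⁻¹ᵁ Y₀).toScheme)
        (g : Spec (CommRingCat.of V) ⟶ Y₀.toScheme),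
        a ≫ (f ∣_ Y₀) = Spec.map (CommRingCat.ofHom V.subtype) ≫ g →
        g (closedPoint V) = ⟨y, hyY₀⟩ → a (closedPoint L) ∈ (f ⁻¹ᵁ Y₀).ι ⁻¹' Z₀ →
        ∃ l : Spec (CommRingCat.of V) ⟶ (f ⁻¹ᵁ Y₀).toScheme, l ≫ (f ∣_ Y₀) = g ∧
          Spec.map (CommRingCat.ofHom V.subtype) ≫ l = a := by
    intro L _ V hV a g hag hgy haZ
    obtain ⟨l₀, hl1, hl2⟩ := H L V hV (a ≫ (f ⁻¹ᵁ Y₀).ι) (g ≫ Y₀.ι) (by
        rw [Category.assoc, ← morphismRestrict_ι, ← Category.assoc, hag, Category.assoc]) (by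
        have e : (g ≫ Y₀.ι) (closedPoint V) = Y₀.ι (g (closedPoint V)) :=
          Scheme.Hom.comp_apply _ _ _
        rw [e, hgy]; rfl) (by
        have e : (a ≫ (f ⁻¹ᵁ Y₀).ι) (closedPoint L) = (f ⁻¹ᵁ Y₀).ι (a (closedPoint L)) :=
          Scheme.Hom.comp_apply _ _ _
        rw [e]; exact haZ)
    have hrange : Set.range l₀ ⊆ Set.range (f ⁻¹ᵁ Y₀).ι := by
      rintro _ ⟨v, rfl⟩
      rw [Scheme.Opens.range_ι]
      show f (l₀ v) ∈ Y₀
      have e : f (l₀ v) = (g ≫ Y₀.ι) v := by
        rw [← hl1]; exact (Scheme.Hom.comp_apply _ _ _).symm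
      have e' : (g ≫ Y₀.ι) v = Y₀.ι (g v) := Scheme.Hom.comp_apply _ _ _
      rw [e, e']
      exact (g v).2
    refine ⟨IsOpenImmersion.lift (f ⁻¹ᵁ Y₀).ι l₀ hrange, ?_, ?_⟩
    · rw [← cancel_mono Y₀.ι, Category.assoc, morphismRestrict_ι, ← Category.assoc,
        IsOpenImmersion.lift_fac, hl1]
    · rw [← cancel_mono (f ⁻¹ᵁ Y₀).ι, Category.assoc, IsOpenImmersion.lift_fac, hl2]
  obtain ⟨U₀, hyU₀, hU₀⟩ := Groth.Agent.Lib.R2LeadDvrClosure.core' (f ∣_ Y₀) ⟨y, hyY₀⟩
    ((f ⁻¹ᵁ Y₀).ι ⁻¹' Z₀) hM₀ Hc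
  refine ⟨Y₀.ι ''ᵁ U₀, ⟨⟨y, hyY₀⟩, hyU₀, rfl⟩, ?_⟩
  exact (MorphismProperty.arrow_mk_iso_iff @IsProper (morphismRestrictRestrict f Y₀ U₀)).mp hU₀


/-- Non-units of the trace of a valuation subring. -/
theorem mem_nonunits_comap_iff {K L : Type*} [Field K] [Field L] (θ : K →+* L)
    (V : ValuationSubring L) (k : K) : k ∈ (V.comap θ).nonunits ↔ θ k ∈ V.nonunits := by
  rw [ValuationSubring.mem_nonunits_iff_or, ValuationSubring.mem_nonunits_iff_or,
    ValuationSubring.mem_comap, map_inv₀, map_eq_zero]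

/-- A ring map into a field, landing in a valuation subring and sending the maximal ideal to
non-units, corestricts to a local homomorphism. -/
theorem isLocalHom_codRestrict {R : Type*} [CommRing R] [IsLocalRing R] {L : Type*} [Field L]
    (V : ValuationSubring L) (φ : R →+* L) (h1 : ∀ r, φ r ∈ V)
    (h2 : ∀ r ∈ maximalIdeal R, φ r ∈ V.nonunits) :
    IsLocalHom (φ.codRestrict V h1) := by
  refine ⟨fun r hr => ?_⟩
  by_contra hnu
  have hm : r ∈ maximalIdeal R := (mem_maximalIdeal r).mpr hnu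
  obtain ⟨ha, hmem⟩ := ValuationSubring.mem_nonunits_iff_exists_mem_maximalIdeal.mp (h2 r hm)
  exact ((mem_maximalIdeal _).mp hmem) hr

/-- The forward direction. -/
theorem forward {X Y : Scheme.{u}} [IsIntegral X] (f : X ⟶ Y) (y : Y)
    (hξ : f (genericPoint X) ⤳ y) (U : Y.Opens) (hyU : y ∈ U) [UniversallyClosed (f ∣_ U)]
    (A : ValuationSubring X.functionField)
    (h1 : ∀ r : Y.presheaf.stalk y,
      A.valuation ((Y.presheaf.stalkSpecializes hξ ≫ f.stalkMap (genericPoint X)) r) ≤ 1)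
    (h2 : ∀ r ∈ IsLocalRing.maximalIdeal (Y.presheaf.stalk y),
      A.valuation ((Y.presheaf.stalkSpecializes hξ ≫ f.stalkMap (genericPoint X)) r) < 1) :
    ∃ x : X, f x = y ∧
      (∀ r : X.presheaf.stalk x,
        A.valuation (X.presheaf.stalkSpecializes (genericPoint_specializes x) r) ≤ 1) ∧
      (∀ r ∈ IsLocalRing.maximalIdeal (X.presheaf.stalk x),
        A.valuation (X.presheaf.stalkSpecializes (genericPoint_specializes x) r) < 1) := by
  set φy := Y.presheaf.stalkSpecializes hξ ≫ f.stalkMap (genericPoint X) with hφy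
  have hmem : ∀ r, φy.hom r ∈ A := fun r => (A.valuation_le_one_iff _).mp (h1 r)
  let ψ : Y.presheaf.stalk y ⟶ CommRingCat.of A := CommRingCat.ofHom (φy.hom.codRestrict A hmem)
  have hψloc : IsLocalHom ψ.hom :=
    isLocalHom_codRestrict A φy.hom hmem (fun r hr => (ValuationSubring.mem_nonunits_iff (A := A)).mpr (h2 r hr))
  have hψsub : ψ ≫ CommRingCat.ofHom (algebraMap A X.functionField) = φy := by
    ext r; rfl
  let g : Spec (CommRingCat.of A) ⟶ Y := Spec.map ψ ≫ Y.fromSpecStalk y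
  have hg : g (closedPoint A) = y := by
    have e : g (closedPoint A) = Y.fromSpecStalk y (Spec.map ψ (closedPoint A)) :=
      Scheme.Hom.comp_apply _ _ _
    rw [e]
    have e2 : Spec.map ψ (closedPoint A) = closedPoint (Y.presheaf.stalk y) :=
      IsLocalRing.comap_closedPoint ψ.hom
    rw [e2, Scheme.fromSpecStalk_closedPoint]
  let a : Spec (CommRingCat.of X.functionField) ⟶ X := X.fromSpecStalk (genericPoint X)
  have hag : a ≫ f = Spec.map (CommRingCat.ofHom (algebraMap A X.functionField)) ≫ g := by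
    show X.fromSpecStalk (genericPoint X) ≫ f = _ ≫ Spec.map ψ ≫ Y.fromSpecStalk y
    rw [← Category.assoc, ← Spec.map_comp, hψsub, hφy, Spec.map_comp, Category.assoc,
      Scheme.SpecMap_stalkSpecializes_fromSpecStalk, Scheme.SpecMap_stalkMap_fromSpecStalk]
  obtain ⟨l, hl1, hl2⟩ := lift_of_proper_nhd f y U hyU (R := A) (K := X.functionField) a g hag hg
  refine ⟨l (closedPoint A), ?_, ?_⟩
  · have e : f (l (closedPoint A)) = (l ≫ f) (closedPoint A) := (Scheme.Hom.comp_apply _ _ _).symm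
    rw [e, hl1, hg]
  set x := l (closedPoint A) with hx
  let ψx : X.presheaf.stalk x ⟶ CommRingCat.of A := Scheme.stalkClosedPointTo l
  have hψx : Spec.map ψx ≫ X.fromSpecStalk x = l := Scheme.Spec_stalkClosedPointTo_fromSpecStalk l
  have hψxloc : IsLocalHom ψx.hom := inferInstance
  have hkey : ψx ≫ CommRingCat.ofHom (algebraMap A X.functionField) =
      X.presheaf.stalkSpecializes (genericPoint_specializes x) := by
    apply Spec.map_injective
    apply (cancel_mono (X.fromSpecStalk x)).mp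
    rw [Spec.map_comp, Category.assoc, hψx, hl2, Scheme.SpecMap_stalkSpecializes_fromSpecStalk]
  have hval : ∀ r : X.presheaf.stalk x,
      (X.presheaf.stalkSpecializes (genericPoint_specializes x)) r = ((ψx.hom r : A) : X.functionField) := by
    intro r
    rw [← hkey]; rfl
  refine ⟨fun r => ?_, fun r hr => ?_⟩
  · rw [hval r]; exact A.valuation_le_one _
  · rw [hval r]
    exact (A.valuation_lt_one_iff _).mp (map_nonunit ψx.hom r hr)


/-- The lifting step of the backward direction. -/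
theorem backward_lift {X Y : Scheme.{u}} [IsIntegral X] (f : X ⟶ Y) (y : Y)
    (hξ : f (genericPoint X) ⤳ y)
    (Hyp : ∀ A : ValuationSubring X.functionField, IsDiscreteValuationRing A →
      (∀ r : Y.presheaf.stalk y,
        A.valuation ((Y.presheaf.stalkSpecializes hξ ≫ f.stalkMap (genericPoint X)) r) ≤ 1) →
      (∀ r ∈ IsLocalRing.maximalIdeal (Y.presheaf.stalk y),
        A.valuation ((Y.presheaf.stalkSpecializes hξ ≫ f.stalkMap (genericPoint X)) r) < 1) →
      ∃ x : X, f x = y ∧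
        (∀ r : X.presheaf.stalk x,
          A.valuation (X.presheaf.stalkSpecializes (genericPoint_specializes x) r) ≤ 1) ∧
        (∀ r ∈ IsLocalRing.maximalIdeal (X.presheaf.stalk x),
          A.valuation (X.presheaf.stalkSpecializes (genericPoint_specializes x) r) < 1))
    (L : Type u) [Field L] (V : ValuationSubring L) (hV : IsDiscreteValuationRing V)
    (a : Spec (CommRingCat.of L) ⟶ X) (g : Spec (CommRingCat.of V) ⟶ Y)
    (hag : a ≫ f = Spec.map (CommRingCat.ofHom V.subtype) ≫ g) (hgy : g (closedPoint V) = y)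
    (haξ : a (closedPoint L) = genericPoint X) :
    ∃ l : Spec (CommRingCat.of V) ⟶ X, l ≫ f = g ∧
      Spec.map (CommRingCat.ofHom V.subtype) ≫ l = a := by
  set φy := Y.presheaf.stalkSpecializes hξ ≫ f.stalkMap (genericPoint X) with hφy
  obtain ⟨θ, -, hθ⟩ := exists_fac_fromSpecStalk a (genericPoint X) haξ
  obtain ⟨ψy, hψyloc, hψy⟩ := exists_fac_fromSpecStalk g y hgy
  have hφyX : Spec.map φy ≫ Y.fromSpecStalk y = X.fromSpecStalk (genericPoint X) ≫ f := by
    rw [hφy, Spec.map_comp, Category.assoc, Scheme.SpecMap_stalkSpecializes_fromSpecStalk,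
      Scheme.SpecMap_stalkMap_fromSpecStalk]
  -- the key identity
  have hkey : φy ≫ θ = ψy ≫ CommRingCat.ofHom V.subtype := by
    apply Spec.map_injective
    apply (cancel_mono (Y.fromSpecStalk y)).mp
    rw [Spec.map_comp, Category.assoc, hφyX, ← Category.assoc, ← hθ, hag, hψy, Spec.map_comp,
      Category.assoc]
  have hkey' : ∀ r : Y.presheaf.stalk y, θ.hom (φy.hom r) = ((ψy.hom r : V) : L) := by
    intro r
    have := congrArg (fun m => m.hom r) hkey
    exact this
  by_cases htop : V.comap θ.hom = ⊤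
  · -- the generic point itself lifts
    have hmem : ∀ k, θ.hom k ∈ V := by
      intro k
      have : k ∈ V.comap θ.hom := by rw [htop]; trivial
      exact this
    let θ' : X.functionField ⟶ CommRingCat.of V := CommRingCat.ofHom (θ.hom.codRestrict V hmem)
    have hθ' : θ' ≫ CommRingCat.ofHom V.subtype = θ := by
      ext r; rfl
    have hφθ' : φy ≫ θ' = ψy := by
      ext r
      exact hkey' r
    refine ⟨Spec.map θ' ≫ X.fromSpecStalk (genericPoint X), ?_, ?_⟩
    · rw [Category.assoc, ← hφyX, ← Category.assoc, ← Spec.map_comp, hφθ', hψy]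
    · rw [← Category.assoc, ← Spec.map_comp, hθ', hθ]
  · have hdvr : IsDiscreteValuationRing (V.comap θ.hom) :=
      isDiscreteValuationRing_comap θ.hom V htop
    obtain ⟨x, hfx, hx1, hx2⟩ := Hyp (V.comap θ.hom) hdvr (fun r => by
        rw [ValuationSubring.valuation_le_one_iff, ValuationSubring.mem_comap]
        show θ.hom (φy.hom r) ∈ V
        rw [hkey' r]; exact (ψy.hom r).2) (fun r hr => by
        rw [← ValuationSubring.mem_nonunits_iff, mem_nonunits_comap_iff]
        show θ.hom (φy.hom r) ∈ V.nonunits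
        rw [hkey' r]
        exact ValuationSubring.mem_nonunits_iff_exists_mem_maximalIdeal.mpr
          ⟨(ψy.hom r).2, map_nonunit ψy.hom r hr⟩)
    set spx := X.presheaf.stalkSpecializes (genericPoint_specializes x) with hspx
    have hmem : ∀ r, (spx ≫ θ).hom r ∈ V := by
      intro r
      have := (ValuationSubring.valuation_le_one_iff _ _).mp (hx1 r)
      exact this
    let ψx : X.presheaf.stalk x ⟶ CommRingCat.of V :=
      CommRingCat.ofHom ((spx ≫ θ).hom.codRestrict V hmem)
    have hψxloc : IsLocalHom ψx.hom :=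
      isLocalHom_codRestrict V (spx ≫ θ).hom hmem (fun r hr => by
        have := hx2 r hr
        rw [← ValuationSubring.mem_nonunits_iff, mem_nonunits_comap_iff] at this
        exact this)
    have hψxsub : ψx ≫ CommRingCat.ofHom V.subtype = spx ≫ θ := by
      ext r; rfl
    let l : Spec (CommRingCat.of V) ⟶ X := Spec.map ψx ≫ X.fromSpecStalk x
    have hlx : l (closedPoint V) = x := by
      have e : l (closedPoint V) = X.fromSpecStalk x (Spec.map ψx (closedPoint V)) :=
        Scheme.Hom.comp_apply _ _ _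
      rw [e]
      have e2 : Spec.map ψx (closedPoint V) = closedPoint (X.presheaf.stalk x) :=
        IsLocalRing.comap_closedPoint ψx.hom
      rw [e2, Scheme.fromSpecStalk_closedPoint]
    have hil : Spec.map (CommRingCat.ofHom V.subtype) ≫ l = a := by
      show _ ≫ Spec.map ψx ≫ X.fromSpecStalk x = a
      rw [← Category.assoc, ← Spec.map_comp, hψxsub, Spec.map_comp, Category.assoc, hspx,
        Scheme.SpecMap_stalkSpecializes_fromSpecStalk, hθ]
    refine ⟨l, ?_, hil⟩
    apply hom_ext_of_closedPoint V (l ≫ f) g y ?_ hgy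
    · rw [← Category.assoc, hil, hag]
    · have e : (l ≫ f) (closedPoint V) = f (l (closedPoint V)) := Scheme.Hom.comp_apply _ _ _
      rw [e, hlx, hfx]

/-- EGA IV 15.7.? : properness near `y` tested by discrete valuation rings of the function
field. -/
theorem main {X Y : Scheme.{u}} [IsIntegral X] [IsIntegral Y] [IsLocallyNoetherian Y]
    (f : X ⟶ Y) [IsSeparated f] [IsDominant f] [LocallyOfFiniteType f] [QuasiCompact f] (y : Y)
    (hξ : f.base (genericPoint X) ⤳ y) :
    (∃ U : Y.Opens, y ∈ U ∧ IsProper (f ∣_ U)) ↔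
      ∀ A : ValuationSubring X.functionField, IsDiscreteValuationRing A →
        (∀ r : Y.presheaf.stalk y, A.valuation ((Y.presheaf.stalkSpecializes hξ ≫ f.stalkMap (genericPoint X)) r) ≤ 1) →
        (∀ r ∈ IsLocalRing.maximalIdeal (Y.presheaf.stalk y),
            A.valuation ((Y.presheaf.stalkSpecializes hξ ≫ f.stalkMap (genericPoint X)) r) < 1) →
        ∃ x : X, f.base x = y ∧
          (∀ r : X.presheaf.stalk x, A.valuation (X.presheaf.stalkSpecializes (genericPoint_specializes x) r) ≤ 1) ∧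
          (∀ r ∈ IsLocalRing.maximalIdeal (X.presheaf.stalk x),
            A.valuation (X.presheaf.stalkSpecializes (genericPoint_specializes x) r) < 1) := by
  constructor
  · rintro ⟨U, hyU, hprop⟩ A _ h1 h2
    have : UniversallyClosed (f ∣_ U) := hprop.toUniversallyClosed
    exact forward f y hξ U hyU A h1 h2
  · intro Hyp
    refine core'' f y {genericPoint X} ?_ ?_
    · intro η hη
      exact (hη _ (genericPoint_specializes η)).symm
    · intro L _ V hV a g hag hgy haZ
      exact backward_lift f y hξ Hyp L V hV a g hag hgy haZ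

end Groth.Agent.Lib.R2LeadDvrFunField
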