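import Mathlib
import Groth.Agent.Lib.R2H3ChowApprox
import Groth.Agent.Lib.Helper4DVRSch
import Groth.Agent.Lib.Helper4DVREx
import Groth.Agent.S9705

/-!
# EGA IV 15.7.1: properness near a point from sections over discrete valuation rings (lead)
-/

set_option autoImplicit false
universe u
open CategoryTheory Limits AlgebraicGeometry TopologicalSpace Opposite IsLocalRing

namespace Groth.Agent.Lib.R2LeadDvrSections

/-- A discrete valuation ring through a proper specialization of a point in the image. -/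
theorem dvr_through {Xb X' : Scheme.{u}} [IsLocallyNoetherian Xb] (t : X' ⟶ Xb)
    [LocallyOfFiniteType t] (x' : X') (z : Xb) (h : t x' ⤳ z) (hne : t x' ≠ z) :
    ∃ (L : Type u) (_ : Field L) (V : ValuationSubring L) (_ : IsDiscreteValuationRing V)
      (a' : Spec (CommRingCat.of L) ⟶ X') (gV : Spec (CommRingCat.of V) ⟶ Xb),
      Spec.map (CommRingCat.ofHom V.subtype) ≫ gV = a' ≫ t ∧ gV (closedPoint V) = z := by
  obtain ⟨V, hV, gV, hg1, hg2⟩ := Groth.Agent.Lib.Helper4.DVRSch.exists_dvr_hom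
    (L := X'.residueField x') h hne (t.residueFieldMap x')
    (RingHom.EssFiniteType.residueFieldMap (LocallyOfFiniteType.stalkMap t x'))
  refine ⟨X'.residueField x', inferInstance, V, hV, X'.fromSpecResidueField x', gV, ?_, hg2⟩
  exact hg1.trans (Scheme.Hom.SpecMap_residueFieldMap_fromSpecResidueField t x')

/-- Core statement over a Noetherian base, in lifting form. -/
theorem core {X Y : Scheme.{u}} [IsNoetherian Y] (f : X ⟶ Y) [IsSeparated f]
    [LocallyOfFiniteType f] [QuasiCompact f] (y : Y)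
    (H : ∀ (L : Type u) [Field L] (V : ValuationSubring L), IsDiscreteValuationRing V →
      ∀ (a : Spec (CommRingCat.of L) ⟶ X) (g : Spec (CommRingCat.of V) ⟶ Y),
        a ≫ f = Spec.map (CommRingCat.ofHom V.subtype) ≫ g → g (closedPoint V) = y →
        ∃ l : Spec (CommRingCat.of V) ⟶ X, l ≫ f = g ∧
          Spec.map (CommRingCat.ofHom V.subtype) ≫ l = a) :
    ∃ U : Y.Opens, y ∈ U ∧ IsProper (f ∣_ U) := by
  obtain ⟨n, X', π, j, hj, hcomm, hπ, hπs⟩ := Groth.Agent.Lib.R2H3.ChowApprox.chow_noeth f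
  have hpY := Groth.Agent.S9705.isProper_toBase n Y
  have hX'ln : IsLocallyNoetherian X' := LocallyOfFiniteType.isLocallyNoetherian (π ≫ f)
  have hX'c : CompactSpace X' := QuasiCompact.compactSpace_of_compactSpace (π ≫ f)
  have hX'n : IsNoetherian X' := {}
  have hjqc : QuasiCompact j := inferInstance
  let p : j.image ⟶ Y := j.imageι ≫ CohB1.ProjSpaceOver.toBase n Y
  have hp : IsProper p := inferInstance
  have htp : j.toImage ≫ p = π ≫ f := by
    rw [← hcomm, ← Category.assoc, Scheme.Hom.toImage_imageι]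
  have hIln : IsLocallyNoetherian j.image := LocallyOfFiniteType.isLocallyNoetherian p
  -- the bad closed set
  have hZc : IsClosed (Set.range j.toImage)ᶜ :=
    j.toImage.isOpenEmbedding.isOpen_range.isClosed_compl
  have hCc : IsClosed (p '' (Set.range j.toImage)ᶜ) := p.isClosedMap _ hZc
  let U : Y.Opens := ⟨(p '' (Set.range j.toImage)ᶜ)ᶜ, hCc.isOpen_compl⟩
  have hyU : y ∈ U := by
    rintro ⟨z, hz, hzy⟩
    have hzcl : z ∈ closure (Set.range j.toImage) := by
      rw [j.toImage.denseRange.closure_range]; trivial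
    obtain ⟨x', hx'⟩ :=
      Groth.Agent.Lib.Helper4.DVRSch.exists_specializes_of_mem_closure_range j.toImage hzcl
    have hne : j.toImage x' ≠ z := fun h => hz ⟨x', h⟩
    obtain ⟨L, _, V, hV, a', gV, hg1, hg2⟩ := dvr_through j.toImage x' z hx' hne
    have := hV
    obtain ⟨l, hl1, hl2⟩ := H L V hV (a' ≫ π) (gV ≫ p) (by
        rw [Category.assoc, ← htp, ← Category.assoc, ← hg1, Category.assoc]) (by
        rw [Scheme.Hom.comp_apply, hg2, hzy])
    -- lift through π
    have hex : ValuativeCriterion.Existence π :=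
      ((UniversallyClosed.eq_valuativeCriterion ▸ (inferInstance : UniversallyClosed π) :
        (ValuativeCriterion.Existence ⊓ @QuasiCompact) π)).1
    have hsq : CommSq a' (Spec.map (CommRingCat.ofHom (algebraMap V L))) π l := ⟨hl2.symm⟩
    obtain ⟨⟨l', hl'1, hl'2⟩⟩ := (hex ⟨V, L, _, _, hsq⟩).exists_lift
    -- uniqueness in the image
    have huq : ValuativeCriterion.Uniqueness p := IsSeparated.valuativeCriterion p
    have hsq2 : CommSq (a' ≫ j.toImage) (Spec.map (CommRingCat.ofHom (algebraMap V L))) p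
        (gV ≫ p) :=
      ⟨by rw [← Category.assoc (Spec.map _), ← hg1]; rfl⟩
    have hss := huq ⟨V, L, _, _, hsq2⟩
    have e : (⟨l' ≫ j.toImage, by rw [← Category.assoc, hl'1],
        by rw [Category.assoc, htp, ← Category.assoc, hl'2, hl1]⟩ : hsq2.LiftStruct) =
        ⟨gV, hg1, rfl⟩ := Subsingleton.elim _ _
    have e' : l' ≫ j.toImage = gV := congrArg CommSq.LiftStruct.l e
    apply hz
    refine ⟨l' (closedPoint V), ?_⟩
    rw [← hg2, ← e', Scheme.Hom.comp_apply]
  refine ⟨U, hyU, ?_⟩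
  -- properness over `U`
  have hsurj : Surjective (j.toImage ∣_ (p ⁻¹ᵁ U)) := by
    refine ⟨fun v => ?_⟩
    have hv : v.1 ∈ Set.range j.toImage := by
      by_contra hv
      exact v.2 ⟨v.1, hv, rfl⟩
    obtain ⟨w, hw⟩ := hv
    have hwU : w ∈ j.toImage ⁻¹ᵁ (p ⁻¹ᵁ U) := by
      show j.toImage w ∈ p ⁻¹ᵁ U
      rw [hw]; exact v.2
    refine ⟨⟨w, hwU⟩, ?_⟩
    apply (p ⁻¹ᵁ U).ι.isOpenEmbedding.injective
    rw [← Scheme.Hom.comp_apply, morphismRestrict_ι]
    exact hw
  have hiso : IsIso (j.toImage ∣_ (p ⁻¹ᵁ U)) := by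
    apply isIso_of_isOpenImmersion_of_opensRange_eq_top
    ext v
    simp only [Scheme.Hom.coe_opensRange, Opens.coe_top, Set.mem_univ, iff_true]
    exact (j.toImage ∣_ (p ⁻¹ᵁ U)).surjective v
  have hpU : IsProper (p ∣_ U) := IsZariskiLocalAtTarget.restrict (P := @IsProper) hp U
  have h1 : IsProper ((π ≫ f) ∣_ U) := by
    rw [← htp, morphismRestrict_comp]
    have : IsClosedImmersion (j.toImage ∣_ (p ⁻¹ᵁ U)) := inferInstance
    have : IsProper (j.toImage ∣_ (p ⁻¹ᵁ U)) := inferInstance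
    exact MorphismProperty.comp_mem (W := @IsProper) _ _ this hpU
  rw [morphismRestrict_comp] at h1
  have hπU : Surjective (π ∣_ (f ⁻¹ᵁ U)) :=
    IsZariskiLocalAtTarget.restrict (P := @Surjective) hπs _
  have h1' : UniversallyClosed (π ∣_ (f ⁻¹ᵁ U) ≫ f ∣_ U) := h1.toUniversallyClosed
  have huc : UniversallyClosed (f ∣_ U) :=
    UniversallyClosed.of_comp_surjective (π ∣_ (f ⁻¹ᵁ U)) (f ∣_ U)
  have hs : IsSeparated (f ∣_ U) :=
    IsZariskiLocalAtTarget.restrict (P := @IsSeparated) inferInstance U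
  have hft : LocallyOfFiniteType (f ∣_ U) :=
    IsZariskiLocalAtTarget.restrict (P := @LocallyOfFiniteType) inferInstance U
  have hqc : QuasiCompact (f ∣_ U) :=
    IsZariskiLocalAtTarget.restrict (P := @QuasiCompact) inferInstance U
  exact { }


/-- EGA IV 15.7.1, b) ⇒ a). -/
theorem main {X Y : Scheme.{u}} [IsLocallyNoetherian Y]
    (f : X ⟶ Y) [IsSeparated f] [LocallyOfFiniteType f] [QuasiCompact f] (y : Y)
    (h : ∀ (A : Type u) [CommRing A] [IsDomain A] [IsDiscreteValuationRing A]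
      (g : Spec (CommRingCat.of A) ⟶ Y), g.base (IsLocalRing.closedPoint A) = y →
      ∀ σ : Spec (CommRingCat.of (FractionRing A)) ⟶ pullback f g,
        σ ≫ pullback.snd f g = Spec.map (CommRingCat.ofHom (algebraMap A (FractionRing A))) →
        ∃ s : Spec (CommRingCat.of A) ⟶ pullback f g, s ≫ pullback.snd f g = 𝟙 _ ∧
          Spec.map (CommRingCat.ofHom (algebraMap A (FractionRing A))) ≫ s = σ) :
    ∃ U : Y.Opens, y ∈ U ∧ IsProper (f ∣_ U) := by
  obtain ⟨Y₀, hY₀, hyY₀, -⟩ := exists_isAffineOpen_mem_and_subset (U := ⊤) (x := y) (by simp)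
  have : IsAffine Y₀.toScheme := hY₀
  have : IsNoetherian Y₀.toScheme := {}
  have hs : IsSeparated (f ∣_ Y₀) :=
    IsZariskiLocalAtTarget.restrict (P := @IsSeparated) inferInstance Y₀
  have hft : LocallyOfFiniteType (f ∣_ Y₀) :=
    IsZariskiLocalAtTarget.restrict (P := @LocallyOfFiniteType) inferInstance Y₀
  have hqc : QuasiCompact (f ∣_ Y₀) :=
    IsZariskiLocalAtTarget.restrict (P := @QuasiCompact) inferInstance Y₀
  have Hc : ∀ (L : Type u) [Field L] (V : ValuationSubring L), IsDiscreteValuationRing V →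
      ∀ (a : Spec (CommRingCat.of L) ⟶ (f ⁻¹ᵁ Y₀).toScheme)
        (g : Spec (CommRingCat.of V) ⟶ Y₀.toScheme),
        a ≫ (f ∣_ Y₀) = Spec.map (CommRingCat.ofHom V.subtype) ≫ g →
        g (closedPoint V) = ⟨y, hyY₀⟩ →
        ∃ l : Spec (CommRingCat.of V) ⟶ (f ⁻¹ᵁ Y₀).toScheme, l ≫ (f ∣_ Y₀) = g ∧
          Spec.map (CommRingCat.ofHom V.subtype) ≫ l = a := by
    intro L _ V hV a g hag hgy
    have := hV
    obtain ⟨ab, bb, hab, hba, ha, hb⟩ := Groth.Agent.Lib.Helper4.DVREx.dvr_bridge V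
    have hcond : (Spec.map ab ≫ a ≫ (f ⁻¹ᵁ Y₀).ι) ≫ f =
        Spec.map (CommRingCat.ofHom (algebraMap V (FractionRing V))) ≫ g ≫ Y₀.ι := by
      rw [Category.assoc, Category.assoc, ← morphismRestrict_ι, ← Category.assoc a, hag,
        Category.assoc, ← Category.assoc (Spec.map ab), ← Spec.map_comp, ha]
    obtain ⟨s, hs1, hs2⟩ := h V (g ≫ Y₀.ι) (by
        show (g ≫ Y₀.ι) (closedPoint V) = y
        rw [Scheme.Hom.comp_apply, hgy]
        rfl) (pullback.lift _ _ hcond) (pullback.lift_snd _ _ _)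
    have hl₀f : (s ≫ pullback.fst f (g ≫ Y₀.ι)) ≫ f = g ≫ Y₀.ι := by
      rw [Category.assoc, pullback.condition, ← Category.assoc, hs1, Category.id_comp]
    have hrange : Set.range (s ≫ pullback.fst f (g ≫ Y₀.ι)) ⊆ Set.range (f ⁻¹ᵁ Y₀).ι := by
      rintro _ ⟨v, rfl⟩
      rw [Scheme.Opens.range_ι]
      show f ((s ≫ pullback.fst f (g ≫ Y₀.ι)) v) ∈ Y₀
      have e : f ((s ≫ pullback.fst f (g ≫ Y₀.ι)) v) = (g ≫ Y₀.ι) v := by
        rw [← Scheme.Hom.comp_apply, hl₀f]
      rw [e, Scheme.Hom.comp_apply]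
      exact (g v).2
    refine ⟨IsOpenImmersion.lift (f ⁻¹ᵁ Y₀).ι _ hrange, ?_, ?_⟩
    · rw [← cancel_mono Y₀.ι, Category.assoc, morphismRestrict_ι, ← Category.assoc,
        IsOpenImmersion.lift_fac, hl₀f]
    · rw [← cancel_mono (f ⁻¹ᵁ Y₀).ι, Category.assoc, IsOpenImmersion.lift_fac]
      have h3 : Spec.map (CommRingCat.ofHom (algebraMap V (FractionRing V))) ≫
          s ≫ pullback.fst f (g ≫ Y₀.ι) = Spec.map ab ≫ a ≫ (f ⁻¹ᵁ Y₀).ι := by
        rw [← Category.assoc, hs2, pullback.lift_fst]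
      rw [← hb, Spec.map_comp, Category.assoc, h3, ← Category.assoc, ← Spec.map_comp, hab,
        Spec.map_id, Category.id_comp]
  obtain ⟨U₀, hyU₀, hU₀⟩ := core (f ∣_ Y₀) ⟨y, hyY₀⟩ Hc
  refine ⟨Y₀.ι ''ᵁ U₀, ⟨⟨y, hyY₀⟩, hyU₀, rfl⟩, ?_⟩
  exact (MorphismProperty.arrow_mk_iso_iff @IsProper (morphismRestrictRestrict f Y₀ U₀)).mp hU₀

end Groth.Agent.Lib.R2LeadDvrSections
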