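import Mathlib
import Groth.Agent.Lib.R2H7SatA

/-!
# Kernels over a regular local ring of dimension at most two (lead)

`free_ker`: `R` regular local of dimension `≤ 2`, `0 → K → F → N` exact with `F` flat, `K` finite,
and `N` such that every element outside an ideal `I` not containing the maximal ideal (when
`dim R = 2`) acts injectively: then `K` is free.
-/

set_option autoImplicit false
set_option linter.style.haveILetI false

universe u

namespace Groth.Agent.Lib.R2LeadElemTrA

open IsLocalRing RingTheory.Sequence TensorProduct

variable {R : Type u} [CommRing R] [IsRegularLocalRing R]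
  {K F N : Type u} [AddCommGroup K] [Module R K] [Module.Finite R K]
  [AddCommGroup F] [Module R F] [Module.Flat R F]
  [AddCommGroup N] [Module R N]

theorem isWeaklyRegular_flat {l : List R} (h : IsWeaklyRegular R l) : IsWeaklyRegular F l := by
  have h1 : IsWeaklyRegular (F ⊗[R] R) l := h.isWeaklyRegular_lTensor (M₂ := F)
  exact ((TensorProduct.rid R F).isWeaklyRegular_congr l).mp h1

theorem free_ker (hdim : ringKrullDim R ≤ 2) (ι : K →ₗ[R] F) (φ : F →ₗ[R] N)
    (hι : Function.Injective ι) (hex : Function.Exact ι φ)
    (I : Ideal R) (hI : ringKrullDim R = (2 : ℕ) → ¬ maximalIdeal R ≤ I)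
    (hN : ∀ a : R, a ∉ I → ∀ n : N, a • n = 0 → n = 0) : Module.Free R K := by
  obtain ⟨d, hd⟩ := Groth.Agent.Lib.Helper5.exists_nat_ringKrullDim_eq R
  have hd2 : d ≤ 2 := by
    rw [hd] at hdim
    exact_mod_cast hdim
  obtain ⟨z, hz⟩ := Groth.Agent.Lib.Helper5.HilbertRLR.exists_regular_system (A := R) hd
  interval_cases d
  · -- dimension zero
    apply Groth.Agent.Lib.R2H7.Sat.free_of_maximalIdeal_eq_bot
    rw [← hz]
    have : (Set.range fun i : Fin 0 => ((z i : maximalIdeal R) : R)) = ∅ := Set.range_eq_empty _
    rw [this, Ideal.span_empty]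
  · -- dimension one
    have hr : (Set.range fun i : Fin 1 => ((z i : maximalIdeal R) : R)) = {((z 0 : maximalIdeal R) : R)} := by
      ext w
      constructor
      · rintro ⟨i, rfl⟩
        rw [Subsingleton.elim i 0]
        rfl
      · intro h
        exact ⟨0, h.symm⟩
    rw [hr] at hz
    obtain ⟨a, ha, hza⟩ : ∃ a : R, a ∈ maximalIdeal R ∧ Ideal.span {a} = maximalIdeal R :=
      ⟨_, (z 0).2, hz⟩
    clear hz hr z
    have hreg : IsWeaklyRegular R [a] := by
      refine Groth.Agent.Lib.R2H7.NormLength.isWeaklyRegular_of_par (n := 1) hd _ rfl ?_ ?_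
      · intro w hw
        simp only [List.mem_cons, List.not_mem_nil, or_false] at hw
        rw [hw]
        exact ha
      · refine le_trans ?_ Ideal.le_radical
        rw [← hza, Ideal.span_le]
        intro w hw
        rw [Set.mem_singleton_iff] at hw
        rw [hw]
        exact Ideal.subset_span (by simp)
    have hregF : IsWeaklyRegular F [a] := isWeaklyRegular_flat hreg
    have h1 : IsSMulRegular F a :=
      ((isWeaklyRegular_cons_iff F _ []).mp hregF).1
    refine Groth.Agent.Lib.R2H7.Sat.free_of_regular_single _ hza.symm ?_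
    intro v hv
    apply hι
    apply h1
    change a • ι v = a • ι 0
    rw [← map_smul, hv, map_zero, smul_zero]
  · -- dimension two
    have hr : (Set.range fun i : Fin 2 => ((z i : maximalIdeal R) : R)) =
        {((z 0 : maximalIdeal R) : R), ((z 1 : maximalIdeal R) : R)} := by
      ext w
      constructor
      · rintro ⟨i, rfl⟩
        fin_cases i
        · exact Or.inl rfl
        · exact Or.inr rfl
      · rintro (h | h)
        · exact ⟨0, h.symm⟩
        · exact ⟨1, h.symm⟩
    rw [hr] at hz
    obtain ⟨a₀, a₁, ha₀, ha₁, hza⟩ : ∃ a₀ a₁ : R, a₀ ∈ maximalIdeal R ∧ a₁ ∈ maximalIdeal R ∧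
        Ideal.span {a₀, a₁} = maximalIdeal R := ⟨_, _, (z 0).2, (z 1).2, hz⟩
    clear hz hr z
    -- choose the order
    have key : ∀ a b : R, a ∈ maximalIdeal R → b ∈ maximalIdeal R →
        maximalIdeal R = Ideal.span {a, b} → a ∉ I → Module.Free R K := by
      intro a b ha hb hab haI
      have hreg : IsWeaklyRegular R [a, b] := by
        refine Groth.Agent.Lib.R2H7.NormLength.isWeaklyRegular_of_par (n := 2) hd _ rfl ?_ ?_
        · intro w hw
          simp only [List.mem_cons, List.not_mem_nil, or_false] at hw
          rcases hw with rfl | rfl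
          · exact ha
          · exact hb
        · refine le_trans ?_ Ideal.le_radical
          rw [hab, Ideal.span_le]
          intro w hw
          rcases hw with rfl | hw
          · exact Ideal.subset_span (by simp)
          · rw [Set.mem_singleton_iff] at hw
            rw [hw]
            exact Ideal.subset_span (by simp)
      have hregF : IsWeaklyRegular F [a, b] := isWeaklyRegular_flat hreg
      have h1 : IsSMulRegular F a := Groth.Agent.Lib.R2H7.Sat.isSMulRegular_of_pair hregF
      refine Groth.Agent.Lib.R2H7.Sat.free_of_regular_pair a b hab ?_ ?_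
      · intro v hv
        apply hι
        apply h1
        change a • ι v = a • ι 0
        rw [← map_smul, hv, map_zero, smul_zero]
      · intro v w hvw
        have h2 : b • ι v = a • ι w := by rw [← map_smul, ← map_smul, hvw]
        obtain ⟨e, he⟩ := Groth.Agent.Lib.R2H7.Sat.exists_eq_smul_of_pair hregF h2
        have h3 : a • φ e = 0 := by
          rw [← map_smul, ← he]
          exact (hex (ι v)).2 ⟨v, rfl⟩
        have h4 : φ e = 0 := hN a haI _ h3
        obtain ⟨e', he'⟩ := (hex e).1 h4
        refine ⟨e', hι ?_⟩
        rw [map_smul, he', he]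
    by_cases h0 : a₀ ∈ I
    · by_cases h1 : a₁ ∈ I
      · exfalso
        apply hI hd
        rw [← hza, Ideal.span_le]
        intro w hw
        rcases hw with rfl | hw
        · exact h0
        · rw [Set.mem_singleton_iff] at hw
          rw [hw]
          exact h1
      · refine key _ _ ha₁ ha₀ ?_ h1
        rw [← hza, Set.pair_comm]
    · exact key _ _ ha₀ ha₁ hza.symm h0

end Groth.Agent.Lib.R2LeadElemTrA
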