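import Mathlib
import Groth.Prelude.Def_TorSh
import Groth.Agent.Lib.R2LeadElemTrA
import Groth.Agent.Lib.H6xPushStalk
import Groth.Agent.Lib.R2H4CurveOnSurf
import Groth.Agent.Lib.R2H2ClosedPn
import Groth.Agent.Lib.R2H2DevE
import Groth.Agent.Lib.Helper6SmRegSch
import Groth.Agent.Lib.R2LeadReflC
import Groth.Agent.Lib.R2LeadReflB
import Groth.Agent.Lib.Helper23StalkLin
import Groth.Agent.Lib.R2H2HomLimE
import Groth.Agent.Lib.R2H2PdSheaf
import Groth.Agent.Lib.Helper4FibDimL
import Groth.Agent.Lib.Helper2LocFree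

/-!
# Elementary transformations on a smooth surface (lead)

`main`: `S` a smooth integral surface over a field, `j : C → S` an integral closed curve, `M` a
coherent torsion-free `O_C`-module, `F` finite locally free on `S`, `f : F → j_* M` an epimorphism:
the kernel of `f` is finite locally free.
-/

set_option autoImplicit false
set_option linter.style.haveILetI false
universe u

open AlgebraicGeometry CategoryTheory CategoryTheory.Limits TopologicalSpace Opposite

namespace Groth.Agent.Lib.R2LeadElemTrB

open Groth.Agent.Lib.Helper4.NormDelta Groth.Agent.Lib.Helper23.StalkLin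
open Groth.Agent.Lib.Helper4.DimFormula

theorem main (k : Type u) [Field k] (S : Scheme.{u}) (p : S ⟶ Spec (CommRingCat.of k))
    [IsIntegral S] [Smooth p] (hdim : topologicalKrullDim S = 2)
    (C : Scheme.{u}) (j : C ⟶ S) [IsClosedImmersion j] [IsIntegral C]
    (hC : topologicalKrullDim C = 1)
    (M : C.Modules) (hM : Coh.IsCoh M) (hMtf : TorSh.IsTorsionFree M)
    (F : S.Modules) (hF : FlatMod.IsFinLocFree F)
    (f : F ⟶ (Coh.push j).obj M) [Epi f] :
    FlatMod.IsFinLocFree (kernel f) := by
  haveI : IsLocallyNoetherian S := LocallyOfFiniteType.isLocallyNoetherian p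
  have hFc := Groth.Agent.Lib.R2H2.HomLimE.isCoh_of_isFinLocFree F hF
  have hNc : Coh.IsCoh ((Coh.push j).obj M) := Groth.Agent.Lib.R2H2.ClosedPn.isCoh_push j M hM
  have hKc : Coh.IsCoh (kernel f) := Groth.Agent.Lib.R2H2.PdSheaf.isCoh_kernel hFc hNc f
  let T : ShortComplex S.Modules := ShortComplex.mk (kernel.ι f) f (kernel.condition f)
  have hT : T.ShortExact :=
    { exact := ShortComplex.exact_kernel f
      mono_f := inferInstanceAs (Mono (kernel.ι f))
      epi_g := inferInstanceAs (Epi f) }
  intro x
  haveI hreg : IsRegularLocalRing (S.presheaf.stalk x) :=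
    Groth.Agent.Lib.Helper6.SmRegSch.isRegularLocalRing_stalk_of_smooth_over_field k S p x
  haveI : Module.Finite (S.presheaf.stalk x) ((kernel f).presheaf.stalk x) :=
    Groth.Agent.Lib.R2Lead.ReflC.finite_stalk _ hKc x
  haveI : F.IsQuasicoherent := hFc.1
  haveI : Module.Flat (S.presheaf.stalk x) (F.presheaf.stalk x) :=
    Groth.Agent.Lib.Helper2.LocFree.isFlat_of_isFinLocFree F hF x
  have hd : ringKrullDim (S.presheaf.stalk x) ≤ 2 :=
    (Groth.Agent.Lib.Helper4.FibDim.ringKrullDim_stalk_le_topologicalKrullDim S x).trans hdim.le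
  have hex : Function.Exact (stalkLin (kernel.ι f) x) (stalkLin f x) := stalkLin_exact T hT x
  obtain ⟨I, hI, hN⟩ : ∃ I : Ideal (S.presheaf.stalk x),
      (ringKrullDim (S.presheaf.stalk x) = (2 : ℕ) →
        ¬ IsLocalRing.maximalIdeal (S.presheaf.stalk x) ≤ I) ∧
      ∀ a : S.presheaf.stalk x, a ∉ I →
        ∀ n : ((Coh.push j).obj M).presheaf.stalk x, a • n = 0 → n = 0 := by
    by_cases hx : x ∈ Set.range j
    · obtain ⟨x', rfl⟩ := hx
      refine ⟨RingHom.ker (j.stalkMap x').hom, ?_, ?_⟩
      · intro hd2 hle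
        have hsurj : Function.Surjective (j.stalkMap x').hom := j.stalkMap_surjective x'
        have hmax : IsLocalRing.maximalIdeal (C.presheaf.stalk x') = ⊥ := by
          rw [eq_bot_iff]
          intro c hc
          obtain ⟨r, rfl⟩ := hsurj c
          have hr : r ∈ IsLocalRing.maximalIdeal (S.presheaf.stalk (j x')) := by
            rw [IsLocalRing.mem_maximalIdeal, mem_nonunits_iff] at hc ⊢
            intro hu
            exact hc (hu.map _)
          exact RingHom.mem_ker.mp (hle hr)
        have h4 : ringKrullDim (C.presheaf.stalk x') = 0 :=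
          ringKrullDim_eq_zero_of_isField (IsLocalRing.isField_iff_maximalIdeal_eq.mpr hmax)
        have h1 := Groth.Agent.Lib.Helper5.MiracleSch.stalk_add_ptTrdeg_of_equidim k p 2
          (Groth.Agent.Lib.R2H4CurveOnSurf.equidim_of_irreducible _ (by rw [hdim]; rfl)) (j x')
        have h2 := Groth.Agent.Lib.Helper5.MiracleSch.stalk_add_ptTrdeg_of_equidim k (j ≫ p) 1
          (Groth.Agent.Lib.R2H4CurveOnSurf.equidim_of_irreducible _ (by rw [hC]; rfl)) x'
        have h3 := ptTrdeg_comp_of_isPreimmersion j p x'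
        rw [h4, h3, zero_add] at h2
        have h5 : ptTrdeg p (j x') = 1 := by exact_mod_cast h2
        rw [h5, hd2] at h1
        have h6 : ((2 : ℕ) : WithBot ℕ∞) + ((1 : ℕ) : WithBot ℕ∞) = ((3 : ℕ) : WithBot ℕ∞) := by
          norm_cast
        rw [h6] at h1
        have h7 : (3 : ℕ) = 2 := by exact_mod_cast h1
        omega
      · intro a ha n hn
        have hinj := (Groth.Agent.Lib.H6xPushStalk.θ_bijective j x' j.isClosedEmbedding.isInducing M).1
        have h1 := Groth.Agent.Lib.H6xPushStalk.θ_smul j x' M a n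
        have h1' : Groth.Agent.Lib.H6xPushStalk.θ j x' M (a • n) = 0 := by
          have : (a • n : ((Coh.push j).obj M).presheaf.stalk (j x')) = 0 := hn
          rw [this]
          exact map_zero _
        let m' : M.presheaf.stalk x' := Groth.Agent.Lib.H6xPushStalk.θ j x' M n
        have h2 : (j.stalkMap x').hom a • m' = 0 := h1.symm.trans h1'
        haveI : Module.IsTorsionFree (C.presheaf.stalk x') (M.presheaf.stalk x') := hMtf x'
        have hne : (j.stalkMap x').hom a ≠ 0 := fun h0 => ha (RingHom.mem_ker.mpr h0)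
        have h0 : m' = 0 := (smul_eq_zero.mp h2).resolve_left hne
        exact hinj (h0.trans (map_zero _).symm)
    · refine ⟨⊥, ?_, ?_⟩
      · intro hd2 hle
        have hmax : IsLocalRing.maximalIdeal (S.presheaf.stalk x) = ⊥ := le_bot_iff.mp hle
        have h4 : ringKrullDim (S.presheaf.stalk x) = 0 :=
          ringKrullDim_eq_zero_of_isField (IsLocalRing.isField_iff_maximalIdeal_eq.mpr hmax)
        rw [h4] at hd2
        have : (0 : ℕ) = 2 := by exact_mod_cast hd2
        omega
      · intro a _ n _
        have hsub : Subsingleton (((Coh.push j).obj M).presheaf.stalk x) := by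
          by_contra hns
          exact hx (Groth.Agent.Lib.R2H2.DevE.support_push_subset j M hns)
        exact Subsingleton.elim _ _
  haveI : Module.Free (S.presheaf.stalk x) ((kernel f).presheaf.stalk x) :=
    Groth.Agent.Lib.R2LeadElemTrA.free_ker hd (stalkLin (kernel.ι f) x) (stalkLin f x)
      (stalkLin_injective (kernel.ι f) x) hex I hI hN
  have hflat : FlatMod.IsFlatAt (kernel f) x := Module.Flat.of_free
  have hfp : CohB1.IsFP (kernel f) := Groth.Agent.Lib.R2Lead.ReflB.isFP_of_isCoh _ hKc
  obtain ⟨D, m, hxD, he⟩ :=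
    @Groth.Agent.Lib.Helper2.LocFree.exists_restrict_iso_freeMod_of_isFlatAt S (kernel f) hKc.1 hfp
      x hflat
  exact ⟨D, m, hxD, he⟩

end Groth.Agent.Lib.R2LeadElemTrB
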