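import Mathlib
import Groth.Prelude.Def_PBC
import Groth.Agent.Lib.Helper3IndEtFP
import Groth.Agent.Lib.Helper3IndEtFlat

set_option autoImplicit false

open TensorProduct MvPolynomial

universe u

namespace Groth.Agent.Lib.R2LeadInfTensor

open Groth.Agent.Lib.Helper3.IndEt

section construction

variable (A : Type u) [CommRing A] {ι : Type u} (n : ι → ℕ)
  (J : ∀ i, Ideal (MvPolynomial (Fin (n i)) A))

/-- the variables of the subfamily indexed by `s` -/
abbrev Var (s : Set ι) : Type u := Σ i : s, Fin (n i)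

/-- the polynomial ring of the subfamily indexed by `s` -/
abbrev Pol (s : Set ι) : Type u := MvPolynomial (Var n s) A

/-- inclusion of the `i`-th polynomial ring -/
noncomputable def inJ (s : Set ι) (i : s) : MvPolynomial (Fin (n i)) A →ₐ[A] Pol A n s :=
  rename (fun k => (⟨i, k⟩ : Var n s))

/-- the ideal of relations -/
noncomputable def rel (s : Set ι) : Ideal (Pol A n s) := ⨆ i : s, (J i).map (inJ A n s i)

/-- the (possibly infinite) tensor product of the subfamily indexed by `s` -/
abbrev T (s : Set ι) : Type u := Pol A n s ⧸ rel A n J s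

/-- the members of the family -/
abbrev E (i : ι) : Type u := MvPolynomial (Fin (n i)) A ⧸ J i

variable {A n J}

/-- the canonical maps into the tensor product -/
noncomputable def ιhom (s : Set ι) (i : s) : E A n J i →ₐ[A] T A n J s :=
  Ideal.quotientMapₐ (rel A n J s) (inJ A n s i) (by
    rw [← Ideal.map_le_iff_le_comap]
    exact le_iSup (fun i : s => (J i).map (inJ A n s i)) i)

theorem ιhom_mk (s : Set ι) (i : s) (p : MvPolynomial (Fin (n i)) A) :
    ιhom (J := J) s i (Ideal.Quotient.mk _ p) = Ideal.Quotient.mk _ (inJ A n s i p) := rfl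

variable {B : Type*} [CommRing B] [Algebra A B]

/-- the polynomial-level lift -/
noncomputable def liftPol (s : Set ι) (g : ∀ i : s, E A n J i →ₐ[A] B) : Pol A n s →ₐ[A] B :=
  aeval (fun x : Var n s => g x.1 (Ideal.Quotient.mk _ (X x.2)))

theorem liftPol_inJ (s : Set ι) (g : ∀ i : s, E A n J i →ₐ[A] B) (i : s)
    (p : MvPolynomial (Fin (n i)) A) :
    liftPol s g (inJ A n s i p) = g i (Ideal.Quotient.mk _ p) := by
  have : (liftPol s g).comp (inJ A n s i) = (g i).comp (Ideal.Quotient.mkₐ A (J i)) := by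
    apply MvPolynomial.algHom_ext
    intro k
    simp [liftPol, inJ]
  exact congr($this p)

theorem rel_le_ker_liftPol (s : Set ι) (g : ∀ i : s, E A n J i →ₐ[A] B) :
    ∀ p ∈ rel A n J s, liftPol s g p = 0 := by
  have : rel A n J s ≤ RingHom.ker (liftPol s g) := by
    apply iSup_le
    intro i
    rw [Ideal.map_le_iff_le_comap]
    intro p hp
    show liftPol s g (inJ A n s i p) = 0
    rw [liftPol_inJ, Ideal.Quotient.eq_zero_iff_mem.mpr hp, map_zero]
  exact fun p hp => this hp

/-- the universal property: lift -/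
noncomputable def lift (s : Set ι) (g : ∀ i : s, E A n J i →ₐ[A] B) : T A n J s →ₐ[A] B :=
  Ideal.Quotient.liftₐ (rel A n J s) (liftPol s g) (rel_le_ker_liftPol s g)

theorem lift_mk (s : Set ι) (g : ∀ i : s, E A n J i →ₐ[A] B) (p : Pol A n s) :
    lift s g (Ideal.Quotient.mk _ p) = liftPol s g p := rfl

theorem lift_ιhom (s : Set ι) (g : ∀ i : s, E A n J i →ₐ[A] B) (i : s) :
    (lift s g).comp (ιhom s i) = g i := by
  apply Ideal.Quotient.algHom_ext
  apply AlgHom.ext
  intro p
  show lift s g (ιhom s i (Ideal.Quotient.mk _ p)) = g i (Ideal.Quotient.mk _ p)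
  rw [ιhom_mk, lift_mk, liftPol_inJ]

theorem hom_ext (s : Set ι) {f f' : T A n J s →ₐ[A] B}
    (h : ∀ i : s, f.comp (ιhom s i) = f'.comp (ιhom s i)) : f = f' := by
  apply Ideal.Quotient.algHom_ext
  apply MvPolynomial.algHom_ext
  rintro ⟨i, k⟩
  have := congr($(h i) (Ideal.Quotient.mk _ (X k)))
  simp only [AlgHom.comp_apply, ιhom_mk, inJ, rename_X] at this
  exact this

theorem formallyEtale (s : Set ι) (h : ∀ i : s, Algebra.FormallyEtale A (E A n J i)) :
    Algebra.FormallyEtale A (T A n J s) := by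
  rw [Algebra.FormallyEtale.iff_comp_bijective]
  intro B _ _ I hI
  constructor
  · intro f f' hff'
    apply hom_ext
    intro i
    haveI := h i
    apply (Algebra.FormallyEtale.comp_bijective A (E A n J i) I hI).1
    show (Ideal.Quotient.mkₐ A I).comp (f.comp _) = (Ideal.Quotient.mkₐ A I).comp (f'.comp _)
    rw [← AlgHom.comp_assoc, ← AlgHom.comp_assoc]
    exact congrArg (fun φ => AlgHom.comp φ (ιhom s i)) hff'
  · intro f
    choose g hg using fun i : s =>
      (haveI := h i;
        (Algebra.FormallyEtale.comp_bijective A (E A n J i) I hI).2 (f.comp (ιhom s i)))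
    refine ⟨lift s g, ?_⟩
    apply hom_ext
    intro i
    rw [AlgHom.comp_assoc, lift_ιhom]
    exact hg i

theorem finitePresentation (s : Set ι) [Finite s]
    (h : ∀ i : s, Algebra.FinitePresentation A (E A n J i)) :
    Algebra.FinitePresentation A (T A n J s) := by
  apply Algebra.FinitePresentation.quotient
  unfold rel
  apply Submodule.fg_iSup
  intro i
  apply Ideal.FG.map
  haveI := h i
  have := Algebra.FinitePresentation.ker_fG_of_surjective (Ideal.Quotient.mkₐ A (J i))
    (Ideal.Quotient.mkₐ_surjective A (J i))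
  have hk : RingHom.ker (Ideal.Quotient.mkₐ A (J i)).toRingHom = J i := Ideal.mk_ker
  rwa [hk] at this

theorem etale (s : Set ι) [Finite s] (h : ∀ i : s, Algebra.Etale A (E A n J i)) :
    Algebra.Etale A (T A n J s) :=
  { formallyEtale := formallyEtale s (fun i => (h i).formallyEtale)
    finitePresentation := finitePresentation s (fun i => (h i).finitePresentation) }

/-- transition maps -/
noncomputable def τ {s t : Set ι} (h : s ⊆ t) : T A n J s →ₐ[A] T A n J t :=
  lift s (fun i => ιhom t ⟨i, h i.2⟩)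

/-- inclusion of variables -/
def inc {s t : Set ι} (h : s ⊆ t) : Var n s → Var n t := fun x => ⟨⟨x.1, h x.1.2⟩, x.2⟩

theorem τ_ιhom {s t : Set ι} (h : s ⊆ t) (i : s) :
    (τ (J := J) h).comp (ιhom s i) = ιhom t ⟨i, h i.2⟩ := lift_ιhom _ _ _

theorem τ_mk {s t : Set ι} (h : s ⊆ t) (p : Pol A n s) :
    τ (J := J) h (Ideal.Quotient.mk _ p) = Ideal.Quotient.mk _ (rename (inc (n := n) h) p) := by
  have : (τ (J := J) h).comp (Ideal.Quotient.mkₐ A _) =
      (Ideal.Quotient.mkₐ A _).comp (rename (inc (n := n) h)) := by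
    apply MvPolynomial.algHom_ext
    rintro ⟨i, k⟩
    show τ h (Ideal.Quotient.mk _ (X ⟨i, k⟩)) = Ideal.Quotient.mk _ (rename (inc (n := n) h) (X ⟨i, k⟩))
    rw [rename_X]
    show lift s _ (Ideal.Quotient.mk _ (X ⟨i, k⟩)) = _
    rw [lift_mk]
    simp only [liftPol, aeval_X, ιhom_mk, inJ, rename_X]
    rfl
  exact congr($this p)

theorem τ_τ {s t r : Set ι} (h₁ : s ⊆ t) (h₂ : t ⊆ r) (x : T A n J s) :
    τ h₂ (τ h₁ x) = τ (h₁.trans h₂) x := by
  have : (τ (J := J) h₂).comp (τ h₁) = τ (h₁.trans h₂) := by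
    apply hom_ext
    intro i
    rw [AlgHom.comp_assoc, τ_ιhom, τ_ιhom, τ_ιhom]
  exact congr($this x)

open Classical in
/-- the retraction killing the variables outside `s` -/
noncomputable def ρ (s t : Set ι) : Pol A n t →ₐ[A] Pol A n s :=
  aeval (fun x : Var n t =>
    if hx : (x.1 : ι) ∈ s then X (⟨⟨x.1, hx⟩, x.2⟩ : Var n s) else 0)

theorem ρ_rename_inc {s t : Set ι} (h : s ⊆ t) (p : Pol A n s) :
    ρ s t (rename (inc (n := n) h) p) = p := by
  have : (ρ (A := A) (n := n) s t).comp (rename (inc (n := n) h)) = AlgHom.id A _ := by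
    apply MvPolynomial.algHom_ext
    rintro ⟨⟨i, hi⟩, k⟩
    simp only [AlgHom.comp_apply, rename_X, ρ, aeval_X, inc, AlgHom.id_apply]
    rw [dif_pos hi]
  exact congr($this p)

theorem ρ_inJ (s t : Set ι) (i : t) (hi : (i : ι) ∈ s) (p : MvPolynomial (Fin (n i)) A) :
    ρ s t (inJ A n t i p) = inJ A n s ⟨i, hi⟩ p := by
  have : (ρ (A := A) (n := n) s t).comp (inJ A n t i) = inJ A n s ⟨i, hi⟩ := by
    apply MvPolynomial.algHom_ext
    intro k
    simp only [AlgHom.comp_apply, inJ, rename_X, ρ, aeval_X]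
    rw [dif_pos hi]
  exact congr($this p)

theorem exists_τ_eq_zero (F : Finset ι) (y : T A n J (↑F : Set ι))
    (hy : τ (Set.subset_univ _) y = 0) :
    ∃ G : Finset ι, ∃ h : F ≤ G, τ (Finset.coe_subset.mpr h) y = 0 := by
  classical
  obtain ⟨p, rfl⟩ := Ideal.Quotient.mk_surjective y
  rw [τ_mk, Ideal.Quotient.eq_zero_iff_mem, rel, Submodule.mem_iSup_iff_exists_finset] at hy
  obtain ⟨s₀, hs₀⟩ := hy
  refine ⟨F ∪ s₀.image (fun i : (Set.univ : Set ι) => (i : ι)), Finset.subset_union_left, ?_⟩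
  rw [τ_mk, Ideal.Quotient.eq_zero_iff_mem]
  set G : Finset ι := F ∪ s₀.image (fun i : (Set.univ : Set ι) => (i : ι)) with hG
  have hFG : (↑F : Set ι) ⊆ ↑G := Finset.coe_subset.mpr Finset.subset_union_left
  have h1 : ρ (↑G : Set ι) Set.univ (rename (inc (n := n) (Set.subset_univ (↑F : Set ι))) p) =
      rename (inc (n := n) hFG) p := by
    have : inc (n := n) (Set.subset_univ (↑F : Set ι)) =
        inc (n := n) (Set.subset_univ (↑G : Set ι)) ∘ inc (n := n) hFG := rfl
    rw [this, ← rename_rename, ρ_rename_inc]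
  rw [← h1]
  have h2 : Ideal.map (ρ (A := A) (n := n) (↑G : Set ι) Set.univ)
      (⨆ i ∈ s₀, (J i).map (inJ A n Set.univ i)) ≤ rel A n J (↑G : Set ι) := by
    rw [Ideal.map_iSup]
    apply iSup_le
    intro i
    rw [Ideal.map_iSup]
    apply iSup_le
    intro hi
    have hiG : (i : ι) ∈ (↑G : Set ι) := by
      rw [Finset.mem_coe, hG]
      exact Finset.mem_union_right _ (Finset.mem_image_of_mem _ hi)
    rw [Ideal.map_le_iff_le_comap, Ideal.map_le_iff_le_comap]
    intro q hq
    show ρ (↑G : Set ι) Set.univ (inJ A n Set.univ i q) ∈ rel A n J (↑G : Set ι)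
    rw [ρ_inJ _ _ i hiG]
    exact (le_iSup (fun j : (↑G : Set ι) => (J j).map (inJ A n (↑G : Set ι) j)) ⟨i, hiG⟩)
      (Ideal.mem_map_of_mem _ hq)
  exact h2 (Ideal.mem_map_of_mem _ hs₀)

theorem exists_τ_eq (x : T A n J Set.univ) :
    ∃ F : Finset ι, ∃ y : T A n J (↑F : Set ι), τ (Set.subset_univ _) y = x := by
  classical
  obtain ⟨p, rfl⟩ := Ideal.Quotient.mk_surjective x
  obtain ⟨s₀, q, rfl⟩ := exists_finset_rename p
  let F : Finset ι := s₀.image (fun x => ((x.1 : (Set.univ : Set ι)) : ι))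
  have hF : ∀ v : {x // x ∈ s₀}, ((v.1.1 : (Set.univ : Set ι)) : ι) ∈ (↑F : Set ι) := fun v =>
    Finset.mem_coe.mpr (Finset.mem_image_of_mem _ v.2)
  refine ⟨F, Ideal.Quotient.mk _
    (rename (fun v : {x // x ∈ s₀} => (⟨⟨v.1.1, hF v⟩, v.1.2⟩ : Var n (↑F : Set ι))) q), ?_⟩
  rw [τ_mk, rename_rename]
  rfl

theorem factor (hE : ∀ i, Algebra.Etale A (E A n J i)) : Obj.Factor A (T A n J Set.univ) := by
  intro P _ _ _ ψ
  classical
  obtain ⟨F, ψF, h⟩ := exists_factor_of_directed (R := A) (K := Finset ι)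
    (fun F => T A n J (↑F : Set ι))
    (fun F G h => τ (J := J) (Finset.coe_subset.mpr h))
    (fun F => τ (J := J) (Set.subset_univ _))
    (fun F G h x => τ_τ _ _ x)
    (fun F G H h1 h2 x => τ_τ _ _ x)
    (fun x => exists_τ_eq x)
    (fun F y hy => exists_τ_eq_zero F y hy) ψ
  haveI : Algebra.Etale A (T A n J (↑F : Set ι)) := etale _ (fun i => hE i)
  exact ⟨T A n J (↑F : Set ι), inferInstance, inferInstance, inferInstance, ψF, τ _, h⟩

theorem isIndEtale (hE : ∀ i, Algebra.Etale A (E A n J i)) :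
    EtPBC.IsIndEtale A (T A n J Set.univ) :=
  isIndEtale_of_factor (factor hE)

end construction

section points

/-- a faithfully flat étale algebra has a point in every separably closed field -/
theorem exists_algHom_of_sepClosed (A : Type u) [CommRing A] (k : Type u) [Field k] [IsSepClosed k]
    [Algebra A k] (E : Type u) [CommRing E] [Algebra A E] [Algebra.Etale A E]
    [Module.FaithfullyFlat A E] : Nonempty (E →ₐ[A] k) := by
  haveI : Nontrivial (k ⊗[A] E) := Module.FaithfullyFlat.rTensor_nontrivial A E k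
  let e := Algebra.FormallyEtale.equivPiOfIsSepClosed k (k ⊗[A] E)
  obtain ⟨p⟩ := (inferInstance : Nonempty (PrimeSpectrum (k ⊗[A] E)))
  exact ⟨(((Pi.evalAlgHom k _ p).comp e.toAlgHom).restrictScalars A).comp
    Algebra.TensorProduct.includeRight⟩

end points

section ff

variable {A : Type u} [CommRing A] {ι : Type u} {n : ι → ℕ}
  {J : ∀ i, Ideal (MvPolynomial (Fin (n i)) A)}

theorem faithfullyFlat (hE : ∀ i, Algebra.Etale A (E A n J i))
    (hff : ∀ i, Module.FaithfullyFlat A (E A n J i)) :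
    Module.FaithfullyFlat A (T A n J Set.univ) := by
  haveI : Module.Flat A (T A n J Set.univ) := flat_of_factor' (factor hE)
  apply Module.FaithfullyFlat.of_comap_surjective
  intro p
  have hg : ∀ i : (Set.univ : Set ι),
      Nonempty (E A n J i →ₐ[A] AlgebraicClosure p.asIdeal.ResidueField) := fun i => by
    haveI := hE i
    haveI := hff i
    exact exists_algHom_of_sepClosed A _ _
  choose g _ using fun i => (hg i).elim (fun g => (⟨g, trivial⟩ : ∃ _ : _ →ₐ[A] _, True))
  let f := lift (J := J) Set.univ g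
  refine ⟨⟨RingHom.ker f, RingHom.ker_isPrime f⟩, ?_⟩
  ext a
  show f (algebraMap A _ a) = 0 ↔ a ∈ p.asIdeal
  rw [f.commutes, IsScalarTower.algebraMap_apply A p.asIdeal.ResidueField
    (AlgebraicClosure p.asIdeal.ResidueField), map_eq_zero_iff _ (RingHom.injective _),
    Ideal.algebraMap_residueField_eq_zero]

end ff

section T1

variable (A : Type u) [CommRing A]

/-- index set: presented faithfully flat étale algebras -/
def Idx : Type u :=
  Σ n : ℕ, {J : Ideal (MvPolynomial (Fin n) A) //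
    Algebra.Etale A (MvPolynomial (Fin n) A ⧸ J) ∧
      Module.FaithfullyFlat A (MvPolynomial (Fin n) A ⧸ J)}

/-- number of variables -/
abbrev idxN (i : Idx A) : ℕ := i.1

/-- the ideal -/
abbrev idxJ (i : Idx A) : Ideal (MvPolynomial (Fin (idxN A i)) A) := i.2.1

/-- the tensor product of all faithfully flat étale algebras -/
def T1 : Type u := T A (idxN A) (idxJ A) Set.univ

noncomputable instance : CommRing (T1 A) := inferInstanceAs (CommRing (T A (idxN A) (idxJ A) Set.univ))

noncomputable instance (R : Type*) [CommRing R] [Algebra R A] : Algebra R (T1 A) :=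
  inferInstanceAs (Algebra R (T A (idxN A) (idxJ A) Set.univ))

instance (R : Type*) [CommRing R] [Algebra R A] : IsScalarTower R A (T1 A) :=
  inferInstanceAs (IsScalarTower R A (T A (idxN A) (idxJ A) Set.univ))

theorem T1_isIndEtale : EtPBC.IsIndEtale A (T1 A) :=
  isIndEtale (A := A) (n := idxN A) (J := idxJ A) (fun i => i.2.2.1)

theorem T1_faithfullyFlat : Module.FaithfullyFlat A (T1 A) :=
  faithfullyFlat (A := A) (n := idxN A) (J := idxJ A) (fun i => i.2.2.1) (fun i => i.2.2.2)

theorem T1_exists_algHom (E : Type u) [CommRing E] [Algebra A E] [Algebra.Etale A E]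
    [Module.FaithfullyFlat A E] : Nonempty (E →ₐ[A] T1 A) := by
  obtain ⟨n, f, hf, -⟩ := Algebra.FinitePresentation.out (R := A) (A := E)
  let e := Ideal.quotientKerAlgEquivOfSurjective hf
  let j : Idx A := ⟨n, RingHom.ker f, Algebra.Etale.of_equiv e.symm,
    Module.FaithfullyFlat.of_linearEquiv A E e.toLinearEquiv⟩
  let φ : E →ₐ[A] R2LeadInfTensor.E A (idxN A) (idxJ A) j := e.symm.toAlgHom
  exact ⟨(ιhom (A := A) (n := idxN A) (J := idxJ A) Set.univ ⟨j, trivial⟩).comp φ⟩

end T1

end Groth.Agent.Lib.R2LeadInfTensor
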