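import Mathlib

set_option autoImplicit false

open TensorProduct

namespace Groth.Agent.Lib.R2LeadPrimeTensor

/-- field-valued points of `S` and `T` with the same kernel on `R` glue to a prime of `S ⊗[R] T` -/
theorem exists_prime_of_fields {R S T K₁ K₂ : Type*} [CommRing R] [CommRing S] [CommRing T]
    [Algebra R S] [Algebra R T] [Field K₁] [Field K₂] (φ₁ : S →+* K₁) (φ₂ : T →+* K₂)
    (p : Ideal R) [p.IsPrime]
    (hp₁ : ∀ r, φ₁ (algebraMap R S r) = 0 ↔ r ∈ p)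
    (hp₂ : ∀ r, φ₂ (algebraMap R T r) = 0 ↔ r ∈ p) :
    ∃ 𝔓 : PrimeSpectrum (S ⊗[R] T),
      ∀ s, s ⊗ₜ[R] (1 : T) ∈ 𝔓.asIdeal ↔ φ₁ s = 0 := by
  let ψ₁ : R ⧸ p →+* K₁ :=
    Ideal.Quotient.lift p (φ₁.comp (algebraMap R S)) (fun r hr => (hp₁ r).mpr hr)
  let ψ₂ : R ⧸ p →+* K₂ :=
    Ideal.Quotient.lift p (φ₂.comp (algebraMap R T)) (fun r hr => (hp₂ r).mpr hr)
  have hψ₁ : Function.Injective ψ₁ := by
    rw [injective_iff_map_eq_zero]
    intro x hx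
    obtain ⟨r, rfl⟩ := Ideal.Quotient.mk_surjective x
    rw [Ideal.Quotient.eq_zero_iff_mem]
    exact (hp₁ r).mp hx
  have hψ₂ : Function.Injective ψ₂ := by
    rw [injective_iff_map_eq_zero]
    intro x hx
    obtain ⟨r, rfl⟩ := Ideal.Quotient.mk_surjective x
    rw [Ideal.Quotient.eq_zero_iff_mem]
    exact (hp₂ r).mp hx
  letI : Algebra (R ⧸ p) K₁ := ψ₁.toAlgebra
  letI : Algebra (R ⧸ p) K₂ := ψ₂.toAlgebra
  haveI : FaithfulSMul (R ⧸ p) K₂ := (faithfulSMul_iff_algebraMap_injective _ _).mpr hψ₂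
  letI := FractionRing.liftAlgebra (R ⧸ p) K₂
  haveI := FractionRing.isScalarTower_liftAlgebra (R ⧸ p) K₂
  haveI : Module.Flat (R ⧸ p) K₂ := Module.Flat.trans (R ⧸ p) (FractionRing (R ⧸ p)) K₂
  haveI : Nontrivial (K₁ ⊗[R ⧸ p] K₂) :=
    Algebra.TensorProduct.nontrivial_of_algebraMap_injective_of_flat_right
      (R := R ⧸ p) (A := K₁) (B := K₂) hψ₁
  obtain ⟨𝔪, h𝔪⟩ := Ideal.exists_maximal (K₁ ⊗[R ⧸ p] K₂)
  let f : S →+* (K₁ ⊗[R ⧸ p] K₂) ⧸ 𝔪 :=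
    ((Ideal.Quotient.mk 𝔪).comp Algebra.TensorProduct.includeLeftRingHom).comp φ₁
  let g : T →+* (K₁ ⊗[R ⧸ p] K₂) ⧸ 𝔪 :=
    ((Ideal.Quotient.mk 𝔪).comp
      (Algebra.TensorProduct.includeRight : K₂ →ₐ[R ⧸ p] _).toRingHom).comp φ₂
  have hfg : ∀ r, g (algebraMap R T r) = f (algebraMap R S r) := by
    intro r
    show Ideal.Quotient.mk 𝔪 ((1 : K₁) ⊗ₜ[R ⧸ p] φ₂ (algebraMap R T r)) =
      Ideal.Quotient.mk 𝔪 (φ₁ (algebraMap R S r) ⊗ₜ[R ⧸ p] (1 : K₂))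
    have e1 : φ₂ (algebraMap R T r) = (Ideal.Quotient.mk p r) • (1 : K₂) := by
      rw [Algebra.smul_def, mul_one]
      rfl
    have e2 : φ₁ (algebraMap R S r) = (Ideal.Quotient.mk p r) • (1 : K₁) := by
      rw [Algebra.smul_def, mul_one]
      rfl
    rw [e1, e2, TensorProduct.tmul_smul, TensorProduct.smul_tmul']
  letI : Algebra R ((K₁ ⊗[R ⧸ p] K₂) ⧸ 𝔪) := (f.comp (algebraMap R S)).toAlgebra
  let fA : S →ₐ[R] (K₁ ⊗[R ⧸ p] K₂) ⧸ 𝔪 := { f with commutes' := fun r => rfl }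
  let gA : T →ₐ[R] (K₁ ⊗[R ⧸ p] K₂) ⧸ 𝔪 := { g with commutes' := fun r => hfg r }
  let F := Algebra.TensorProduct.lift fA gA (fun _ _ => Commute.all _ _)
  letI := Ideal.Quotient.field 𝔪
  refine ⟨⟨RingHom.ker F, RingHom.ker_isPrime F⟩, ?_⟩
  intro s
  show F (s ⊗ₜ[R] (1 : T)) = 0 ↔ _
  rw [Algebra.TensorProduct.lift_tmul, map_one, mul_one]
  show ((Ideal.Quotient.mk 𝔪).comp Algebra.TensorProduct.includeLeftRingHom) (φ₁ s) = 0 ↔ _
  rw [map_eq_zero_iff _ (RingHom.injective _)]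

/-- primes `P` of `S` and `Q` of `T` over the same prime of `R` come from a prime of `S ⊗[R] T` -/
theorem exists_prime_tensor {R S T : Type*} [CommRing R] [CommRing S] [CommRing T]
    [Algebra R S] [Algebra R T] (P : PrimeSpectrum S) (Q : PrimeSpectrum T)
    (h : PrimeSpectrum.comap (algebraMap R S) P = PrimeSpectrum.comap (algebraMap R T) Q) :
    ∃ 𝔓 : PrimeSpectrum (S ⊗[R] T),
      PrimeSpectrum.comap (Algebra.TensorProduct.includeLeftRingHom) 𝔓 = P := by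
  have hφ₁ : ∀ s, (algebraMap S P.asIdeal.ResidueField) s = 0 ↔ s ∈ P.asIdeal := fun s =>
    Ideal.algebraMap_residueField_eq_zero
  have hφ₂ : ∀ s, (algebraMap T Q.asIdeal.ResidueField) s = 0 ↔ s ∈ Q.asIdeal := fun s =>
    Ideal.algebraMap_residueField_eq_zero
  obtain ⟨𝔓, h𝔓⟩ := exists_prime_of_fields (R := R) (algebraMap S P.asIdeal.ResidueField)
    (algebraMap T Q.asIdeal.ResidueField) (PrimeSpectrum.comap (algebraMap R S) P).asIdeal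
    (fun r => hφ₁ _)
    (fun r => by
      rw [hφ₂, h]
      rfl)
  refine ⟨𝔓, ?_⟩
  ext s
  show s ⊗ₜ[R] (1 : T) ∈ 𝔓.asIdeal ↔ _
  rw [h𝔓, hφ₁]

end Groth.Agent.Lib.R2LeadPrimeTensor
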