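import Mathlib
import Groth.Prelude.Def_PBC
import Groth.Prelude.Def_ProEtW
import Groth.Agent.Lib.Helper3IndEtFP
import Groth.Agent.Lib.Helper3IndEtFlat
import Groth.Agent.Lib.Helper3IndEtComp
import Groth.Agent.Lib.R2LeadPrimeTensor

set_option autoImplicit false

open TensorProduct

universe u

namespace Groth.Agent.Lib.R2LeadSeqColim

open Groth.Agent.Lib.Helper3.IndEt

section unitIdeal

variable (R : Type u) [CommRing R] (t : Finset R)

/-- the universal `R`-algebra in which `t` generates the unit ideal -/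
abbrev UI : Type u :=
  MvPolynomial t R ⧸ Ideal.span
    {(∑ i : t, MvPolynomial.X i * MvPolynomial.C (i : R) - 1 : MvPolynomial t R)}

instance : Algebra.FinitePresentation R (UI R t) :=
  Algebra.FinitePresentation.quotient
    ⟨{(∑ i : t, MvPolynomial.X i * MvPolynomial.C (i : R) - 1 : MvPolynomial t R)}, by simp⟩

variable {R t}

/-- maps out of `UI` -/
noncomputable def UI.lift {D : Type*} [CommRing D] [Algebra R D] (c : t → D)
    (hc : ∑ i : t, c i * algebraMap R D i = 1) : UI R t →ₐ[R] D :=
  Ideal.Quotient.liftₐ _ (MvPolynomial.aeval c) (by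
    intro a ha
    obtain ⟨z, rfl⟩ := Ideal.mem_span_singleton'.mp ha
    rw [map_mul, map_sub, map_sum, map_one]
    simp only [map_mul, MvPolynomial.aeval_X, MvPolynomial.aeval_C]
    rw [hc, sub_self, mul_zero])

theorem UI.sum_eq_one : ∑ i : t, (Ideal.Quotient.mk _ (MvPolynomial.X i) : UI R t) *
    algebraMap R (UI R t) i = 1 := by
  have h : (Ideal.Quotient.mk (Ideal.span
      {(∑ i : t, MvPolynomial.X i * MvPolynomial.C (i : R) - 1 : MvPolynomial t R)}))
      (∑ i : t, MvPolynomial.X i * MvPolynomial.C (i : R) - 1) = 0 :=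
    Ideal.Quotient.eq_zero_iff_mem.mpr (Ideal.subset_span rfl)
  rw [map_sub, map_sum, map_one, sub_eq_zero] at h
  rw [← h]
  refine Finset.sum_congr rfl (fun i _ => ?_)
  rw [map_mul]
  rfl

theorem UI.map_eq_top {D : Type*} [CommRing D] (φ : UI R t →+* D) (I : Ideal R)
    (ht : ∀ i ∈ t, i ∈ I) : I.map (φ.comp (algebraMap R (UI R t))) = ⊤ := by
  rw [Ideal.eq_top_iff_one]
  have h := congr(φ $(UI.sum_eq_one (R := R) (t := t)))
  rw [map_sum, map_one] at h
  rw [← h]
  refine Ideal.sum_mem _ (fun i _ => ?_)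
  rw [map_mul]
  exact Ideal.mul_mem_left _ _ (Ideal.mem_map_of_mem _ (ht i i.2))

/-- if `I` generates the unit ideal in an `R`-algebra `D`, there is a finite subset of `I` and a map
from the corresponding `UI` to `D` -/
theorem UI.exists_of_map_eq_top {D : Type*} [CommRing D] [Algebra R D] (I : Ideal R)
    (h : I.map (algebraMap R D) = ⊤) :
    ∃ t : Finset R, (∀ i ∈ t, i ∈ I) ∧ Nonempty (UI R t →ₐ[R] D) := by
  classical
  have h1 : (1 : D) ∈ Submodule.span D ((algebraMap R D) '' (I : Set R)) := by
    have : (1 : D) ∈ I.map (algebraMap R D) := by rw [h]; trivial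
    exact this
  rw [Submodule.mem_span_image_iff_exists_fun] at h1
  obtain ⟨t, ht, c, hc⟩ := h1
  refine ⟨t, fun i hi => ht hi, ⟨UI.lift c ?_⟩⟩
  rw [← hc]
  rfl

end unitIdeal

section basic

variable (A : Type u) [CommRing A] (G : ℕ → Type u) [∀ n, CommRing (G n)] [∀ n, Algebra A (G n)]
  (step : ∀ n, G n →ₐ[A] G (n + 1))

/-- transition maps of the sequence -/
noncomputable def trans (i j : ℕ) (h : i ≤ j) : G i →ₐ[A] G j :=
  Nat.leRecOn h (fun {k} g => (step k).comp g) (AlgHom.id A _)

theorem trans_self (i : ℕ) (h : i ≤ i) : trans A G step i i h = AlgHom.id A _ :=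
  Nat.leRecOn_self _

theorem trans_succ (i j : ℕ) (h : i ≤ j) (h' : i ≤ j + 1) :
    trans A G step i (j + 1) h' = (step j).comp (trans A G step i j h) :=
  Nat.leRecOn_succ h _

theorem trans_trans (i j k : ℕ) (hij : i ≤ j) (hjk : j ≤ k) (x : G i) :
    trans A G step j k hjk (trans A G step i j hij x) = trans A G step i k (hij.trans hjk) x := by
  induction k, hjk using Nat.le_induction with
  | base => rw [trans_self]; rfl
  | succ k hjk ih =>
    rw [trans_succ A G step j k hjk, trans_succ A G step i k (hij.trans hjk)]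
    simp only [AlgHom.comp_apply, ih]

instance : DirectedSystem G (fun i j h => ⇑(trans A G step i j h)) where
  map_self i x := by rw [trans_self]; rfl
  map_map k j i hij hjk x := trans_trans A G step i j k hij hjk x

/-- the colimit of the sequence -/
abbrev C : Type u := DirectLimit G (trans A G step)

/-- the canonical maps to the colimit -/
noncomputable def of (n : ℕ) : G n →ₐ[A] C A G step := DirectLimit.Algebra.of G (trans A G step) n

theorem of_trans (i j : ℕ) (h : i ≤ j) (x : G i) :
    of A G step j (trans A G step i j h x) = of A G step i x :=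
  DirectLimit.Algebra.of_f h x

theorem of_surj (x : C A G step) : ∃ n y, of A G step n y = x := by
  obtain ⟨n, y, rfl⟩ := DirectLimit.exists_eq_mk (trans A G step) x
  exact ⟨n, y, rfl⟩

theorem of_eq_zero (n : ℕ) (y : G n) (h : of A G step n y = 0) :
    ∃ m, ∃ h : n ≤ m, trans A G step n m h y = 0 := by
  have h' : (⟦⟨n, y⟩⟧ : C A G step) = 0 := h
  rw [DirectLimit.exists_eq_zero] at h'
  exact h'

/-- maps from finitely presented `A`-algebras factor through a stage -/
theorem exists_factor {P : Type u} [CommRing P] [Algebra A P] [Algebra.FinitePresentation A P]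
    (ψ : P →ₐ[A] C A G step) : ∃ n, ∃ ψn : P →ₐ[A] G n, (of A G step n).comp ψn = ψ :=
  exists_factor_of_directed (R := A) (K := ℕ) G (fun i j h => trans A G step i j h)
    (fun n => of A G step n) (fun i j h x => of_trans A G step i j h x)
    (fun i j k h1 h2 x => trans_trans A G step i j k h1 h2 x)
    (fun x => of_surj A G step x) (fun n y hy => of_eq_zero A G step n y hy) ψ

/-- maps from finitely presented `ℤ`-algebras factor through a stage -/
theorem exists_factor_int {P : Type u} [CommRing P] [inst : Algebra ℤ P]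
    [Algebra.FinitePresentation ℤ P]
    (ψ : P →+* C A G step) : ∃ n, ∃ ψn : P →+* G n, (of A G step n).toRingHom.comp ψn = ψ := by
  have hinst : inst = Ring.toIntAlgebra P := Subsingleton.elim _ _
  subst hinst
  obtain ⟨n, ψn, h⟩ := exists_factor_of_directed (R := ℤ) (K := ℕ) G
    (fun i j h => (trans A G step i j h).restrictScalars ℤ)
    (fun n => (of A G step n).restrictScalars ℤ) (fun i j h x => of_trans A G step i j h x)
    (fun i j k h1 h2 x => trans_trans A G step i j k h1 h2 x)
    (fun x => of_surj A G step x) (fun n y hy => of_eq_zero A G step n y hy) ψ.toIntAlgHom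
  refine ⟨n, ψn.toRingHom, ?_⟩
  ext x
  exact congr($h x)

/-- every stage is ind-étale if the steps are -/
theorem isIndEtale_stage (h0 : EtPBC.IsIndEtale A (G 0))
    (hs : ∀ n, letI := (step n).toRingHom.toAlgebra; EtPBC.IsIndEtale (G n) (G (n + 1))) (n : ℕ) :
    EtPBC.IsIndEtale A (G n) := by
  induction n with
  | zero => exact h0
  | succ n ih =>
    letI := (step n).toRingHom.toAlgebra
    haveI : IsScalarTower A (G n) (G (n + 1)) :=
      IsScalarTower.of_algebraMap_eq (fun a => ((step n).commutes a).symm)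
    exact isIndEtale_comp A (G n) (G (n + 1)) ih (hs n)

/-- the colimit is ind-étale if the steps are -/
theorem isIndEtale (h0 : EtPBC.IsIndEtale A (G 0))
    (hs : ∀ n, letI := (step n).toRingHom.toAlgebra; EtPBC.IsIndEtale (G n) (G (n + 1))) :
    EtPBC.IsIndEtale A (C A G step) := by
  apply isIndEtale_of_factor
  intro P _ _ _ ψ
  obtain ⟨n, ψn, h⟩ := exists_factor A G step ψ
  obtain ⟨E, _, _, _, f, g, hfg⟩ :=
    factor_of_isIndEtale (isIndEtale_stage A G step h0 hs n) P ψn
  exact ⟨E, inferInstance, inferInstance, inferInstance, f, (of A G step n).comp g, by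
    rw [AlgHom.comp_assoc, hfg, h]⟩

/-- every stage is faithfully flat if the steps are -/
theorem faithfullyFlat_stage (h0 : Module.FaithfullyFlat A (G 0))
    (hs : ∀ n, letI := (step n).toRingHom.toAlgebra; Module.FaithfullyFlat (G n) (G (n + 1)))
    (n : ℕ) : Module.FaithfullyFlat A (G n) := by
  induction n with
  | zero => exact h0
  | succ n ih =>
    letI := (step n).toRingHom.toAlgebra
    haveI : IsScalarTower A (G n) (G (n + 1)) :=
      IsScalarTower.of_algebraMap_eq (fun a => ((step n).commutes a).symm)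
    haveI := ih
    haveI := hs n
    exact Module.FaithfullyFlat.trans A (G n) (G (n + 1))

/-- the colimit is faithfully flat if the steps are faithfully flat and ind-étale -/
theorem faithfullyFlat (h0 : EtPBC.IsIndEtale A (G 0))
    (hs : ∀ n, letI := (step n).toRingHom.toAlgebra; EtPBC.IsIndEtale (G n) (G (n + 1)))
    (h0' : Module.FaithfullyFlat A (G 0))
    (hs' : ∀ n, letI := (step n).toRingHom.toAlgebra; Module.FaithfullyFlat (G n) (G (n + 1))) :
    Module.FaithfullyFlat A (C A G step) := by
  haveI : Module.Flat A (C A G step) :=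
    flat_of_factor' (factor_of_isIndEtale (isIndEtale A G step h0 hs))
  refine ⟨fun m hm htop => ?_⟩
  rw [Ideal.smul_top_eq_map, Submodule.restrictScalars_eq_top_iff] at htop
  obtain ⟨t, ht, ⟨φ⟩⟩ := UI.exists_of_map_eq_top m htop
  obtain ⟨n, φn, -⟩ := exists_factor A G step φ
  have h1 : m.map (algebraMap A (G n)) = ⊤ := by
    have := UI.map_eq_top φn.toRingHom m ht
    have h3 : φn.toRingHom.comp (algebraMap A (UI A t)) = algebraMap A (G n) :=
      φn.comp_algebraMap
    rwa [h3] at this
  have h2 := (faithfullyFlat_stage A G step h0' hs' n).submodule_ne_top hm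
  apply h2
  rw [Ideal.smul_top_eq_map, h1]
  rfl

theorem of_step (n : ℕ) (x : G n) : of A G step (n + 1) (step n x) = of A G step n x := by
  have h := of_trans A G step n (n + 1) (Nat.le_succ n) x
  rw [trans_succ A G step n n le_rfl, trans_self] at h
  exact h

open PrimeSpectrum in
set_option maxHeartbeats 1600000 in
/-- if faithfully flat étale algebras over each stage have sections into the next stage, then
faithfully flat étale algebras over the colimit have retractions -/
theorem hasEtaleRetractions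
    (H : ∀ (n : ℕ) (E : Type u) [CommRing E] [Algebra (G n) E], Algebra.Etale (G n) E →
      Module.FaithfullyFlat (G n) E →
      ∃ ρ : E →+* G (n + 1), ρ.comp (algebraMap (G n) E) = (step n).toRingHom) :
    ProEtW.HasEtaleRetractions (C A G step) := by
  intro B _ _ hff het
  obtain ⟨A₀, E₀, _, _, hfg, _, ⟨e⟩⟩ := Algebra.Etale.exists_subalgebra_fg ℤ (C A G step) B
  haveI : Algebra.FiniteType ℤ A₀ := (Subalgebra.fg_iff_finiteType A₀).mp hfg
  haveI : Algebra.FinitePresentation ℤ A₀ :=
    Algebra.FinitePresentation.of_finiteType.mp inferInstance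
  -- the open image of `Spec E₀`
  have hWo : IsOpen (Set.range (comap (algebraMap A₀ E₀))) :=
    (isOpenMap_comap_of_hasGoingDown_of_finitePresentation (R := A₀) (S := E₀)).isOpen_range
  obtain ⟨𝔟₀, h𝔟₀⟩ := (isClosed_iff_zeroLocus_ideal _).mp hWo.isClosed_compl
  let σ : E₀ →+* B := (e.symm : C A G step ⊗[A₀] E₀ →+* B).comp
    (Algebra.TensorProduct.includeRight : E₀ →ₐ[A₀] C A G step ⊗[A₀] E₀).toRingHom
  have hσ : σ.comp (algebraMap A₀ E₀) =
      (algebraMap (C A G step) B).comp (algebraMap A₀ (C A G step)) := by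
    ext a
    show e.symm ((Algebra.TensorProduct.includeRight : E₀ →ₐ[A₀] C A G step ⊗[A₀] E₀)
      (algebraMap A₀ E₀ a)) = _
    rw [AlgHom.commutes, Algebra.TensorProduct.algebraMap_apply]
    have : (algebraMap A₀ (C A G step) a) ⊗ₜ[A₀] (1 : E₀) =
        algebraMap (C A G step) (C A G step ⊗[A₀] E₀) (algebraMap A₀ (C A G step) a) := by
      rw [Algebra.TensorProduct.algebraMap_apply]
      rfl
    rw [this, e.symm.commutes]
    rfl
  have htop : 𝔟₀.map (algebraMap A₀ (C A G step)) = ⊤ := by
    by_contra hne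
    obtain ⟨q, hq, hle⟩ := Ideal.exists_le_maximal _ hne
    obtain ⟨q', hq'⟩ := PrimeSpectrum.comap_surjective_of_faithfullyFlat (A := C A G step) (B := B)
      ⟨q, hq.isPrime⟩
    have h1 : comap (algebraMap A₀ (C A G step)) ⟨q, hq.isPrime⟩ ∈
        Set.range (comap (algebraMap A₀ E₀)) :=
      ⟨comap σ q', by rw [← PrimeSpectrum.comap_comp_apply, hσ, PrimeSpectrum.comap_comp_apply, hq']⟩
    have h2 : comap (algebraMap A₀ (C A G step)) ⟨q, hq.isPrime⟩ ∈ zeroLocus (𝔟₀ : Set A₀) :=
      fun b hb => hle (Ideal.mem_map_of_mem _ hb)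
    rw [← h𝔟₀] at h2
    exact h2 h1
  obtain ⟨t, ht, ⟨φ⟩⟩ := UI.exists_of_map_eq_top 𝔟₀ htop
  haveI : Algebra.FinitePresentation ℤ (UI A₀ t) := Algebra.FinitePresentation.trans ℤ A₀ (UI A₀ t)
  obtain ⟨m, φm, hφm⟩ := exists_factor_int A G step φ.toRingHom
  letI algA₀Gm : Algebra A₀ (G m) := (φm.comp (algebraMap A₀ (UI A₀ t))).toAlgebra
  have hm : 𝔟₀.map (algebraMap A₀ (G m)) = ⊤ := UI.map_eq_top φm 𝔟₀ ht
  have hcompat : ∀ a : A₀, of A G step m (algebraMap A₀ (G m) a) = algebraMap A₀ (C A G step) a := by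
    intro a
    show of A G step m (φm (algebraMap A₀ (UI A₀ t) a)) = _
    have := congr($hφm (algebraMap A₀ (UI A₀ t) a))
    rw [RingHom.comp_apply] at this
    refine this.trans ?_
    exact φ.commutes a
  haveI hffm : Module.FaithfullyFlat (G m) (G m ⊗[A₀] E₀) := by
    apply Module.FaithfullyFlat.of_comap_surjective
    intro P₁
    have hP : comap (algebraMap A₀ (G m)) P₁ ∈ Set.range (comap (algebraMap A₀ E₀)) := by
      by_contra hcon
      have h1 : comap (algebraMap A₀ (G m)) P₁ ∈ zeroLocus (𝔟₀ : Set A₀) := by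
        rw [← h𝔟₀]; exact hcon
      have hle : 𝔟₀.map (algebraMap A₀ (G m)) ≤ P₁.asIdeal := Ideal.map_le_iff_le_comap.mpr h1
      rw [hm] at hle
      exact P₁.isPrime.ne_top (top_le_iff.mp hle)
    obtain ⟨Q₀, hQ₀⟩ := hP
    obtain ⟨𝔓, h𝔓⟩ := R2LeadPrimeTensor.exists_prime_tensor (R := A₀) P₁ Q₀ hQ₀.symm
    exact ⟨𝔓, h𝔓⟩
  obtain ⟨ρ, hρ⟩ := H m (G m ⊗[A₀] E₀) inferInstance hffm
  let ρ₀ : E₀ →ₐ[A₀] C A G step :=
    { toRingHom := ((of A G step (m + 1)).toRingHom.comp ρ).comp
        (Algebra.TensorProduct.includeRight : E₀ →ₐ[A₀] G m ⊗[A₀] E₀).toRingHom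
      commutes' := fun a => by
        show of A G step (m + 1) (ρ ((Algebra.TensorProduct.includeRight :
          E₀ →ₐ[A₀] G m ⊗[A₀] E₀) (algebraMap A₀ E₀ a))) = _
        rw [AlgHom.commutes, IsScalarTower.algebraMap_apply A₀ (G m) (G m ⊗[A₀] E₀)]
        have := congr($hρ (algebraMap A₀ (G m) a))
        rw [RingHom.comp_apply] at this
        rw [this]
        show of A G step (m + 1) (step m (algebraMap A₀ (G m) a)) = _
        rw [of_step, hcompat] }
  exact ⟨(Algebra.TensorProduct.lift (AlgHom.id (C A G step) (C A G step)) ρ₀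
    (fun _ _ => Commute.all _ _)).comp (e : B →ₐ[C A G step] C A G step ⊗[A₀] E₀)⟩

end basic

end Groth.Agent.Lib.R2LeadSeqColim
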