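import Mathlib
import Groth.Prelude.Def_PBC
import Groth.Prelude.Def_ProEtW
import Groth.Agent.Lib.R2LeadInfTensor
import Groth.Agent.Lib.R2LeadSeqColim

set_option autoImplicit false

open TensorProduct

universe u

namespace Groth.Agent.Lib.R2LeadEtRetrCover

open Groth.Agent.Lib.Helper3.IndEt Groth.Agent.Lib.R2LeadInfTensor

noncomputable section

/-- bundled commutative algebras -/
structure AlgObj (A : Type u) [CommRing A] where
  carrier : Type u
  [cr : CommRing carrier]
  [alg : Algebra A carrier]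

variable (A : Type u) [CommRing A]

/-- the tower `A → T1 A → T1 (T1 A) → ⋯` -/
noncomputable def Tn : ℕ → AlgObj A
  | 0 => ⟨A⟩
  | n + 1 =>
    letI := (Tn n).cr
    letI := (Tn n).alg
    ⟨T1 (Tn n).carrier⟩

/-- the stages of the tower -/
abbrev G (n : ℕ) : Type u := (Tn A n).carrier

noncomputable instance (n : ℕ) : CommRing (G A n) := (Tn A n).cr

noncomputable instance (n : ℕ) : Algebra A (G A n) := (Tn A n).alg

/-- the steps of the tower -/
noncomputable def step (n : ℕ) : G A n →ₐ[A] G A (n + 1) :=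
  IsScalarTower.toAlgHom A (G A n) (T1 (G A n))

theorem step_toAlgebra_eq (n : ℕ) :
    (step A n).toRingHom.toAlgebra = (inferInstanceAs (Algebra (G A n) (T1 (G A n)))) :=
  Algebra.algebra_ext _ _ (fun _ => rfl)

theorem hs (n : ℕ) :
    letI := (step A n).toRingHom.toAlgebra; EtPBC.IsIndEtale (G A n) (G A (n + 1)) := by
  show @EtPBC.IsIndEtale (G A n) (G A (n + 1)) _ _ ((step A n).toRingHom.toAlgebra)
  rw [step_toAlgebra_eq]
  exact T1_isIndEtale (G A n)

theorem hs' (n : ℕ) :
    letI := (step A n).toRingHom.toAlgebra; Module.FaithfullyFlat (G A n) (G A (n + 1)) := by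
  show @Module.FaithfullyFlat (G A n) (G A (n + 1)) _ _ ((step A n).toRingHom.toAlgebra).toModule
  rw [step_toAlgebra_eq]
  exact T1_faithfullyFlat (G A n)

theorem h0 : EtPBC.IsIndEtale A (G A 0) := isIndEtale_of_etale A A

theorem h0' : Module.FaithfullyFlat A (G A 0) := inferInstanceAs (Module.FaithfullyFlat A A)

theorem hH (n : ℕ) (E : Type u) [CommRing E] [Algebra (G A n) E] (_ : Algebra.Etale (G A n) E)
    (_ : Module.FaithfullyFlat (G A n) E) :
    ∃ ρ : E →+* G A (n + 1), ρ.comp (algebraMap (G A n) E) = (step A n).toRingHom := by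
  obtain ⟨ρ⟩ := T1_exists_algHom (G A n) E
  exact ⟨ρ.toRingHom, ρ.comp_algebraMap⟩

/-- **Main theorem**: every ring has a faithfully flat ind-étale extension all of whose faithfully
flat étale algebras have retractions. -/
theorem main : ∃ (C : Type u) (_ : CommRing C) (_ : Algebra A C),
    Module.FaithfullyFlat A C ∧ EtPBC.IsIndEtale A C ∧ ProEtW.HasEtaleRetractions C :=
  ⟨R2LeadSeqColim.C A (G A) (step A), inferInstance, inferInstance,
    R2LeadSeqColim.faithfullyFlat A (G A) (step A) (h0 A) (hs A) (h0' A) (hs' A),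
    R2LeadSeqColim.isIndEtale A (G A) (step A) (h0 A) (hs A),
    R2LeadSeqColim.hasEtaleRetractions A (G A) (step A) (hH A)⟩

end

end Groth.Agent.Lib.R2LeadEtRetrCover
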