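import Mathlib
import Groth.Prelude.Def_ProEtW
import Groth.Prelude.Def_PBC
import Groth.Agent.Lib.Helper3IndEtFP

set_option autoImplicit false

open TensorProduct PrimeSpectrum

universe u

namespace Groth.Agent.Lib.R2LeadEtRetrLoc

open Groth.Agent.Lib.Helper3.IndEt

section prod

/-- a two-member family -/
def Fam (X Y : Type u) : Bool → Type u
  | true => X
  | false => Y

variable (A X Y : Type u) [CommRing A] [CommRing X] [CommRing Y] [Algebra A X] [Algebra A Y]

instance instCR : ∀ b, CommRing (Fam X Y b)
  | true => inferInstanceAs (CommRing X)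
  | false => inferInstanceAs (CommRing Y)

instance instAlg : ∀ b, Algebra A (Fam X Y b)
  | true => inferInstanceAs (Algebra A X)
  | false => inferInstanceAs (Algebra A Y)

instance instEt [Algebra.Etale A X] [Algebra.Etale A Y] : ∀ b, Algebra.Etale A (Fam X Y b)
  | true => inferInstanceAs (Algebra.Etale A X)
  | false => inferInstanceAs (Algebra.Etale A Y)

/-- the family product is the binary product -/
def famEquiv : (∀ b, Fam X Y b) ≃ₐ[A] X × Y where
  toFun f := (f true, f false)
  invFun p := fun b => match b with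
    | true => p.1
    | false => p.2
  left_inv f := by funext b; cases b <;> rfl
  right_inv p := rfl
  map_mul' _ _ := rfl
  map_add' _ _ := rfl
  commutes' a := rfl

theorem etale_prod [Algebra.Etale A X] [Algebra.Etale A Y] : Algebra.Etale A (X × Y) :=
  Algebra.Etale.of_equiv (famEquiv A X Y)

end prod

section main

/-- an idempotent lying in every prime is zero -/
theorem idem_eq_zero_of_forall_mem {R : Type*} [CommRing R] (e : R) (he : IsIdempotentElem e)
    (h : ∀ p : PrimeSpectrum R, e ∈ p.asIdeal) : e = 0 := by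
  have hn : IsNilpotent e := by
    rw [← mem_nilradical, nilradical_eq_sInf, Ideal.mem_sInf]
    intro p hp
    exact h ⟨p, hp⟩
  obtain ⟨n, hn⟩ := hn
  rcases n with _ | n
  · have h1 : (1 : R) = 0 := by simpa using hn
    calc e = e * 1 := (mul_one e).symm
    _ = 0 := by rw [h1, mul_zero]
  · rwa [he.pow_succ_eq] at hn

set_option maxHeartbeats 1600000 in
theorem main (A B : Type u) [CommRing A] [CommRing B]
    [Algebra A B] (S : Submonoid A) [IsLocalization S B] (I : Ideal A)
    (hB : Set.range (PrimeSpectrum.comap (algebraMap A B)) =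
      {x | ∃ z : PrimeSpectrum A, z ∈ PrimeSpectrum.zeroLocus (R := A) I ∧ x ⤳ z})
    (hA : ProEtW.HasEtaleRetractions A) : ProEtW.HasEtaleRetractions B := by
  intro B' _ _ hff het
  obtain ⟨A₀, E₀, _, _, hfg, _, ⟨e⟩⟩ := Algebra.Etale.exists_subalgebra_fg ℤ B B'
  haveI : Algebra.FiniteType ℤ A₀ := (Subalgebra.fg_iff_finiteType A₀).mp hfg
  haveI : Algebra.FinitePresentation ℤ A₀ :=
    Algebra.FinitePresentation.of_finiteType.mp inferInstance
  obtain ⟨s, ψs, hψs⟩ :=
    exists_factor_localization (R := ℤ) (C := A) (L := B) S (P := A₀) A₀.val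
  letI algAsB : Algebra (Localization.Away (s : A)) B :=
    (awayTo (R := A) (L := B) S s).toRingHom.toAlgebra
  haveI : IsScalarTower A (Localization.Away (s : A)) B :=
    IsScalarTower.of_algebraMap_eq (fun a => ((awayTo (R := A) (L := B) S s).commutes a).symm)
  letI algA₀As : Algebra A₀ (Localization.Away (s : A)) := ψs.toRingHom.toAlgebra
  haveI : IsScalarTower A₀ (Localization.Away (s : A)) B :=
    IsScalarTower.of_algebraMap_eq (fun a₀ => by
      have := congr($hψs a₀)
      exact this.symm)
  haveI : IsScalarTower A (Localization.Away (s : A)) (Localization.Away (s : A) ⊗[A₀] E₀) :=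
    inferInstance
  haveI : Algebra.Etale A (Localization.Away (s : A) ⊗[A₀] E₀) :=
    Algebra.Etale.comp A (Localization.Away (s : A)) _
  -- the map `Es → B'`
  let σ : (Localization.Away (s : A) ⊗[A₀] E₀) →+* B' :=
    (e.symm : B ⊗[A₀] E₀ →+* B').comp
      (Algebra.TensorProduct.map (IsScalarTower.toAlgHom A₀ (Localization.Away (s : A)) B)
        (AlgHom.id A₀ E₀)).toRingHom
  have hσ : σ.comp (algebraMap A (Localization.Away (s : A) ⊗[A₀] E₀)) =
      (algebraMap B B').comp (algebraMap A B) := by
    ext a
    show e.symm (Algebra.TensorProduct.map (IsScalarTower.toAlgHom A₀ (Localization.Away (s : A)) B)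
        (AlgHom.id A₀ E₀) ((algebraMap A (Localization.Away (s : A)) a) ⊗ₜ[A₀] (1 : E₀))) = _
    rw [Algebra.TensorProduct.map_tmul]
    show e.symm ((algebraMap (Localization.Away (s : A)) B (algebraMap A (Localization.Away (s : A)) a))
      ⊗ₜ[A₀] (1 : E₀)) = _
    rw [← IsScalarTower.algebraMap_apply A (Localization.Away (s : A)) B]
    have : (algebraMap A B a) ⊗ₜ[A₀] (1 : E₀) = algebraMap B (B ⊗[A₀] E₀) (algebraMap A B a) := by
      rw [Algebra.TensorProduct.algebraMap_apply]
      rfl
    rw [this, e.symm.commutes]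
    rfl
  -- the open image
  have hUo : IsOpen (Set.range (comap (algebraMap A (Localization.Away (s : A) ⊗[A₀] E₀)))) :=
    (isOpenMap_comap_of_hasGoingDown_of_finitePresentation (R := A)
      (S := Localization.Away (s : A) ⊗[A₀] E₀)).isOpen_range
  have hZU : zeroLocus (I : Set A) ⊆
      Set.range (comap (algebraMap A (Localization.Away (s : A) ⊗[A₀] E₀))) := by
    intro z hz
    have hz' : z ∈ Set.range (PrimeSpectrum.comap (algebraMap A B)) := by
      rw [hB]
      exact ⟨z, hz, specializes_rfl⟩
    obtain ⟨q, rfl⟩ := hz'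
    obtain ⟨q', rfl⟩ := PrimeSpectrum.comap_surjective_of_faithfullyFlat (A := B) (B := B') q
    refine ⟨comap σ q', ?_⟩
    rw [← PrimeSpectrum.comap_comp_apply, hσ, PrimeSpectrum.comap_comp_apply]
  obtain ⟨𝔟, h𝔟⟩ := (isClosed_iff_zeroLocus_ideal _).mp hUo.isClosed_compl
  have htop : 𝔟 ⊔ I = ⊤ := by
    rw [← zeroLocus_empty_iff_eq_top, zeroLocus_sup, ← h𝔟]
    rw [Set.eq_empty_iff_forall_notMem]
    rintro x ⟨hx1, hx2⟩
    exact hx1 (hZU hx2)
  obtain ⟨b, hb, i, hi, hbi⟩ := Submodule.mem_sup.mp (htop ▸ Submodule.mem_top : (1 : A) ∈ 𝔟 ⊔ I)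
  -- the faithfully flat étale cover `Es × A_i`
  haveI hetP : Algebra.Etale A ((Localization.Away (s : A) ⊗[A₀] E₀) × Localization.Away i) :=
    etale_prod A _ _
  haveI hffP : Module.FaithfullyFlat A
      ((Localization.Away (s : A) ⊗[A₀] E₀) × Localization.Away i) := by
    apply Module.FaithfullyFlat.of_comap_surjective
    intro p
    by_cases hp : p ∈ Set.range (comap (algebraMap A (Localization.Away (s : A) ⊗[A₀] E₀)))
    · obtain ⟨q, rfl⟩ := hp
      refine ⟨comap (RingHom.fst _ _) q, ?_⟩
      rw [← PrimeSpectrum.comap_comp_apply]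
      rfl
    · have hp' : p ∈ zeroLocus (𝔟 : Set A) := by rw [← h𝔟]; exact hp
      have hbp : b ∈ p.asIdeal := hp' hb
      have hip : i ∉ p.asIdeal := by
        intro hip
        apply p.isPrime.ne_top
        rw [Ideal.eq_top_iff_one, ← hbi]
        exact Ideal.add_mem _ hbp hip
      have : p ∈ Set.range (comap (algebraMap A (Localization.Away i))) := by
        rw [PrimeSpectrum.localization_away_comap_range (S := Localization.Away i) (r := i)]
        exact hip
      obtain ⟨q, rfl⟩ := this
      refine ⟨comap (RingHom.snd _ _) q, ?_⟩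
      rw [← PrimeSpectrum.comap_comp_apply]
      rfl
  obtain ⟨r⟩ := hA _ hffP hetP
  -- the idempotent `e₂ = r (0, 1)` lies in `I`
  have he₂I : r ((0 : Localization.Away (s : A) ⊗[A₀] E₀), (1 : Localization.Away i)) ∈ I := by
    have h1 : ((0 : Localization.Away (s : A) ⊗[A₀] E₀), (1 : Localization.Away i)) =
        algebraMap A ((Localization.Away (s : A) ⊗[A₀] E₀) × Localization.Away i) i *
          ((0 : Localization.Away (s : A) ⊗[A₀] E₀), IsLocalization.Away.invSelf (S := Localization.Away i) i) := by
      rw [Prod.algebraMap_apply, Prod.mk_mul_mk, mul_zero, IsLocalization.Away.mul_invSelf]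
    rw [h1, map_mul, r.commutes]
    exact I.mul_mem_right _ hi
  have he₂idem : IsIdempotentElem
      (r ((0 : Localization.Away (s : A) ⊗[A₀] E₀), (1 : Localization.Away i))) := by
    show _ * _ = _
    rw [← map_mul, Prod.mk_mul_mk, mul_zero, mul_one]
  have hε : algebraMap A B
      (r ((0 : Localization.Away (s : A) ⊗[A₀] E₀), (1 : Localization.Away i))) = 0 := by
    apply idem_eq_zero_of_forall_mem _ (he₂idem.map (algebraMap A B))
    intro q
    have hq : comap (algebraMap A B) q ∈ Set.range (PrimeSpectrum.comap (algebraMap A B)) := ⟨q, rfl⟩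
    rw [hB] at hq
    obtain ⟨z, hz, hxz⟩ := hq
    rw [← PrimeSpectrum.le_iff_specializes] at hxz
    by_contra hcon
    have hcon' : r ((0 : Localization.Away (s : A) ⊗[A₀] E₀), (1 : Localization.Away i)) ∉
        (comap (algebraMap A B) q).asIdeal := hcon
    have h0 : r ((0 : Localization.Away (s : A) ⊗[A₀] E₀), (1 : Localization.Away i)) *
        (1 - r ((0 : Localization.Away (s : A) ⊗[A₀] E₀), (1 : Localization.Away i))) ∈
        (comap (algebraMap A B) q).asIdeal := by
      rw [mul_sub, mul_one, he₂idem.eq, sub_self]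
      exact Ideal.zero_mem _
    have h1 := ((comap (algebraMap A B) q).isPrime.mem_or_mem h0).resolve_left hcon'
    have h2 : (1 : A) ∈ z.asIdeal := by
      have := z.asIdeal.add_mem (hxz h1) (hz he₂I)
      rwa [sub_add_cancel] at this
    exact z.isPrime.ne_top ((Ideal.eq_top_iff_one _).mpr h2)
  -- the map `ρ : Es → B`
  let ρ : (Localization.Away (s : A) ⊗[A₀] E₀) →ₐ[A] B :=
    { toFun := fun x => algebraMap A B (r (x, (0 : Localization.Away i)))
      map_one' := by
        have h1 : ((1 : Localization.Away (s : A) ⊗[A₀] E₀), (0 : Localization.Away i)) =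
            1 - ((0 : Localization.Away (s : A) ⊗[A₀] E₀), (1 : Localization.Away i)) := by
          ext <;> simp
        rw [h1, map_sub, map_sub, hε, map_one, map_one, sub_zero]
      map_mul' := fun x y => by
        rw [← map_mul, ← map_mul, Prod.mk_mul_mk, mul_zero]
      map_zero' := by
        have : ((0 : Localization.Away (s : A) ⊗[A₀] E₀), (0 : Localization.Away i)) = 0 := rfl
        rw [this, map_zero, map_zero]
      map_add' := fun x y => by
        rw [← map_add, ← map_add, Prod.mk_add_mk, add_zero]
      commutes' := fun a => by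
        have h1 : (algebraMap A (Localization.Away (s : A) ⊗[A₀] E₀) a, (0 : Localization.Away i)) =
            algebraMap A ((Localization.Away (s : A) ⊗[A₀] E₀) × Localization.Away i) a *
              ((1 : Localization.Away (s : A) ⊗[A₀] E₀), (0 : Localization.Away i)) := by
          rw [Prod.algebraMap_apply, Prod.mk_mul_mk, mul_one, mul_zero]
        have h2 : ((1 : Localization.Away (s : A) ⊗[A₀] E₀), (0 : Localization.Away i)) =
            1 - ((0 : Localization.Away (s : A) ⊗[A₀] E₀), (1 : Localization.Away i)) := by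
          ext <;> simp
        show algebraMap A B (r _) = _
        rw [h1, map_mul, r.commutes, h2, map_sub, map_one, map_mul, map_sub, hε, map_one,
          sub_zero, mul_one]
        rfl }
  have hρAs : ∀ x : Localization.Away (s : A),
      ρ (algebraMap (Localization.Away (s : A)) (Localization.Away (s : A) ⊗[A₀] E₀) x) =
        algebraMap (Localization.Away (s : A)) B x := by
    intro x
    have : (ρ.toRingHom.comp
        (algebraMap (Localization.Away (s : A)) (Localization.Away (s : A) ⊗[A₀] E₀))) =
        algebraMap (Localization.Away (s : A)) B := by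
      apply IsLocalization.ringHom_ext (Submonoid.powers (s : A))
      ext a
      show ρ (algebraMap (Localization.Away (s : A)) (Localization.Away (s : A) ⊗[A₀] E₀)
        (algebraMap A (Localization.Away (s : A)) a)) =
        algebraMap (Localization.Away (s : A)) B (algebraMap A (Localization.Away (s : A)) a)
      rw [← IsScalarTower.algebraMap_apply A (Localization.Away (s : A)) B,
        ← IsScalarTower.algebraMap_apply A (Localization.Away (s : A)), ρ.commutes]
    exact congr($this x)
  let ρ₀ : E₀ →ₐ[A₀] B :=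
    { toRingHom := ρ.toRingHom.comp
        (Algebra.TensorProduct.includeRight : E₀ →ₐ[A₀] Localization.Away (s : A) ⊗[A₀] E₀).toRingHom
      commutes' := fun a₀ => by
        show ρ ((Algebra.TensorProduct.includeRight :
          E₀ →ₐ[A₀] Localization.Away (s : A) ⊗[A₀] E₀) (algebraMap A₀ E₀ a₀)) = _
        rw [AlgHom.commutes, IsScalarTower.algebraMap_apply A₀ (Localization.Away (s : A))
          (Localization.Away (s : A) ⊗[A₀] E₀), hρAs,
          ← IsScalarTower.algebraMap_apply A₀ (Localization.Away (s : A)) B] }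
  exact ⟨(Algebra.TensorProduct.lift (AlgHom.id B B) ρ₀ (fun _ _ => Commute.all _ _)).comp
    (e : B' →ₐ[B] B ⊗[A₀] E₀)⟩

end main

end Groth.Agent.Lib.R2LeadEtRetrLoc
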