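import Mathlib

set_option autoImplicit false
open TensorProduct

namespace Groth.Agent.Lib.R2LeadEtSplitA

universe u

section PIG
variable {R S : Type*} [CommRing R] [CommRing S] [Algebra R S]

/-- generation criterion for pure inseparability of residue field extensions -/
theorem isPurelyInseparable_residueField_of_generators
    (p : Ideal R) [p.IsPrime] (r : Ideal S) [r.IsPrime] (hr : p = r.comap (algebraMap R S))
    (G : Set S) (hG : Algebra.adjoin R G = ⊤) (q : ℕ) [ExpChar p.ResidueField q]
    (h : ∀ s ∈ G, ∃ n : ℕ, (algebraMap S r.ResidueField s) ^ q ^ n ∈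
      (Ideal.ResidueField.map p r (algebraMap R S) hr).range) :
    letI := (Ideal.ResidueField.map p r (algebraMap R S) hr).toAlgebra
    IsPurelyInseparable p.ResidueField r.ResidueField := by
  letI := (Ideal.ResidueField.map p r (algebraMap R S) hr).toAlgebra
  rw [isPurelyInseparable_iff_perfectClosure_eq_top]
  have halg : algebraMap p.ResidueField r.ResidueField =
      Ideal.ResidueField.map p r (algebraMap R S) hr := rfl
  -- the image of `S` lies in the perfect closure
  have hS : ∀ s : S, algebraMap S r.ResidueField s ∈ perfectClosure p.ResidueField r.ResidueField := by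
    intro s
    have hs : s ∈ Algebra.adjoin R G := by rw [hG]; trivial
    induction hs using Algebra.adjoin_induction with
    | mem x hx =>
      rw [mem_perfectClosure_iff_pow_mem q]
      obtain ⟨n, hn⟩ := h x hx
      exact ⟨n, by rwa [halg]⟩
    | algebraMap c =>
      have : algebraMap S r.ResidueField (algebraMap R S c) =
          algebraMap p.ResidueField r.ResidueField (algebraMap R p.ResidueField c) := by
        rw [halg, Ideal.ResidueField.map_algebraMap]
      rw [this]
      exact (perfectClosure p.ResidueField r.ResidueField).algebraMap_mem _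
    | add x y _ _ hx hy => rw [map_add]; exact add_mem hx hy
    | mul x y _ _ hx hy => rw [map_mul]; exact mul_mem hx hy
  rw [eq_top_iff]
  intro x _
  obtain ⟨a, b, hb, rfl⟩ := IsFractionRing.div_surjective (A := S ⧸ r) x
  obtain ⟨a, rfl⟩ := Ideal.Quotient.mk_surjective a
  obtain ⟨b, rfl⟩ := Ideal.Quotient.mk_surjective b
  exact div_mem (hS a) (hS b)

/-- transfer of pure inseparability of residue fields along a base change-like situation. -/
theorem isPurelyInseparable_residueField_of_generated
    {R' A : Type*} [CommRing R'] [Algebra R R'] [CommRing A] [Algebra R' A] [Algebra R A]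
    [IsScalarTower R R' A] (φ : S →ₐ[R] A) (hφ : Algebra.adjoin R' (Set.range φ) = ⊤)
    (p : Ideal R) [p.IsPrime] (P : Ideal R') [P.IsPrime] (hP : p = P.comap (algebraMap R R'))
    (r : Ideal A) [r.IsPrime] (hr : P = r.comap (algebraMap R' A))
    (hpi : ∀ (q : Ideal S) [q.IsPrime] (hq : p = q.comap (algebraMap R S)),
      letI := (Ideal.ResidueField.map p q (algebraMap R S) hq).toAlgebra
      IsPurelyInseparable p.ResidueField q.ResidueField) :
    letI := (Ideal.ResidueField.map P r (algebraMap R' A) hr).toAlgebra
    IsPurelyInseparable P.ResidueField r.ResidueField := by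
  let q₀ := ringExpChar p.ResidueField
  haveI : ExpChar p.ResidueField q₀ := ringExpChar.expChar _
  haveI : ExpChar P.ResidueField q₀ :=
    expChar_of_injective_ringHom (Ideal.ResidueField.map p P (algebraMap R R') hP).injective q₀
  refine isPurelyInseparable_residueField_of_generators P r hr (Set.range φ) hφ q₀ ?_
  rintro _ ⟨s, rfl⟩
  let q : Ideal S := r.comap φ.toRingHom
  have hq : p = q.comap (algebraMap R S) := by
    rw [Ideal.comap_comap, hP, hr, Ideal.comap_comap]
    congr 1
    ext x
    simp [← IsScalarTower.algebraMap_apply]
  letI := (Ideal.ResidueField.map p q (algebraMap R S) hq).toAlgebra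
  have hpi' : IsPurelyInseparable p.ResidueField q.ResidueField := hpi q hq
  rw [isPurelyInseparable_iff_pow_mem p.ResidueField q₀] at hpi'
  obtain ⟨n, c, hc⟩ := hpi' (algebraMap S q.ResidueField s)
  refine ⟨n, Ideal.ResidueField.map p P (algebraMap R R') hP c, ?_⟩
  have hcomp : (Ideal.ResidueField.map P r (algebraMap R' A) hr).comp
      (Ideal.ResidueField.map p P (algebraMap R R') hP) =
      (Ideal.ResidueField.map q r φ.toRingHom rfl).comp
        (Ideal.ResidueField.map p q (algebraMap R S) hq) := by
    apply Ideal.ResidueField.ringHom_ext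
    ext x
    simp only [RingHom.comp_apply, Ideal.ResidueField.map_algebraMap]
    congr 1
    rw [← IsScalarTower.algebraMap_apply]
    exact (φ.commutes x).symm
  have h1 := congrArg (fun f => f c) hcomp
  simp only [RingHom.comp_apply] at h1
  rw [h1]
  have h2 : Ideal.ResidueField.map p q (algebraMap R S) hq c =
      (algebraMap S q.ResidueField s) ^ q₀ ^ n := hc
  rw [h2, map_pow, Ideal.ResidueField.map_algebraMap]
  rfl

end PIG

end Groth.Agent.Lib.R2LeadEtSplitA
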