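import Mathlib
import Groth.Agent.Lib.R2LeadEtSplitA

set_option autoImplicit false
set_option linter.style.haveILetI false
open TensorProduct

namespace Groth.Agent.Lib.R2LeadEtSplitB

open Groth.Agent.Lib.R2LeadEtSplitA

universe u

section Merge

variable {T : Type*} [CommRing T]

/-- merge the last idempotent into the first. -/
theorem merge_coi {k : ℕ} (ε : Fin (k + 2) → T) (hε : CompleteOrthogonalIdempotents ε) :
    CompleteOrthogonalIdempotents
      (fun j : Fin (k + 1) => ε j.castSucc + if j = 0 then ε (Fin.last (k + 1)) else 0) := by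
  have hort : ∀ i j : Fin (k + 2), i ≠ j → ε i * ε j = 0 := fun i j hij => hε.ortho hij
  have hid : ∀ i, ε i * ε i = ε i := fun i => hε.idem i
  have hcl : ∀ j : Fin (k + 1), j.castSucc ≠ Fin.last (k + 1) := fun j => (Fin.castSucc_lt_last j).ne
  refine ⟨⟨fun j => ?_, fun i j hij => ?_⟩, ?_⟩
  · change (_ + _) * (_ + _) = _ + _
    split_ifs with h
    · have h1 := hort _ _ (hcl j)
      have h2 := hort _ _ (hcl j).symm
      have h3 := hid j.castSucc
      have h4 := hid (Fin.last (k + 1))
      linear_combination h1 + h2 + h3 + h4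
    · simp [hid]
  · change (_ + _) * (_ + _) = 0
    have hij' : i.castSucc ≠ j.castSucc := fun h => hij (Fin.castSucc_injective _ h)
    have h0 := hort _ _ hij'
    have h1 := hort _ _ (hcl i)
    have h2 := hort _ _ (hcl j).symm
    by_cases hi : i = 0
    · have hj : j ≠ 0 := fun h => hij (hi.trans h.symm)
      simp only [hi, if_true, hj, if_false, add_zero]
      subst hi
      linear_combination h0 + h2
    · by_cases hj : j = 0
      · simp only [hi, if_false, hj, if_true, add_zero]
        subst hj
        linear_combination h0 + h1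
      · simp only [hi, hj, if_false, add_zero]
        exact h0
  · have := hε.complete
    rw [Fin.sum_univ_castSucc] at this
    rw [Finset.sum_add_distrib, Finset.sum_ite_eq' Finset.univ (0 : Fin (k + 1))]
    simpa using this

end Merge

section Sep

variable {R S : Type u} [CommRing R] [CommRing S] [Algebra R S] [Algebra.IsIntegral R S]

/-- distinct primes over the same prime are incomparable (integral case). -/
theorem exists_mem_not_mem (p : Ideal R) (q q' : Ideal S) [q.IsPrime] [q'.IsPrime]
    (hq : q.comap (algebraMap R S) = p) (hq' : q'.comap (algebraMap R S) = p) (hne : q ≠ q') :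
    ∃ s ∈ q, s ∉ q' := by
  by_contra hcon
  push_neg at hcon
  have hle : q ≤ q' := hcon
  have hlt : q < q' := lt_of_le_of_ne hle hne
  obtain ⟨x, hx, hx'⟩ := SetLike.exists_of_lt hlt
  have := Ideal.comap_lt_comap_of_integral_mem_sdiff hle ⟨hx, hx'⟩ (Algebra.IsIntegral.isIntegral (R := R) x)
  rw [hq, hq'] at this
  exact lt_irrefl _ this

/-- a finite subalgebra separating finitely many primes over `p`. -/
theorem exists_separating_subalgebra (p : Ideal R) (hfin : (p.primesOver S).Finite) :
    ∃ Sl : Subalgebra R S, Module.Finite R Sl ∧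
      ∀ (q q' : Ideal S) [q.IsPrime] [q'.IsPrime], q.comap (algebraMap R S) = p →
        q'.comap (algebraMap R S) = p →
        q.comap (algebraMap Sl S) = q'.comap (algebraMap Sl S) → q = q' := by
  classical
  have key : ∀ (a b : p.primesOver S), a ≠ b → ∃ s ∈ a.1, s ∉ b.1 := by
    intro a b hab
    haveI := a.2.1
    haveI := b.2.1
    exact exists_mem_not_mem p a.1 b.1 (a.2.2.over.symm) (b.2.2.over.symm)
      (fun h => hab (Subtype.ext h))
  haveI : Fintype (p.primesOver S) := hfin.fintype
  let f : (p.primesOver S) × (p.primesOver S) → S := fun ab =>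
    if h : ab.1 ≠ ab.2 then (key ab.1 ab.2 h).choose else 0
  let F : Finset S := Finset.univ.image f
  refine ⟨Algebra.adjoin R (F : Set S), ?_, ?_⟩
  · haveI : Algebra.FiniteType R (Algebra.adjoin R (F : Set S)) :=
      (Subalgebra.fg_iff_finiteType _).mp (Subalgebra.fg_adjoin_finset F)
    haveI : Algebra.IsIntegral R (Algebra.adjoin R (F : Set S)) :=
      ⟨fun x => (isIntegral_algHom_iff (Algebra.adjoin R (F : Set S)).val Subtype.val_injective).mp
        (Algebra.IsIntegral.isIntegral _)⟩
    exact Algebra.IsIntegral.finite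
  · intro q q' _ _ hq hq' heq
    by_contra hne
    let a : p.primesOver S := ⟨q, ‹_›, ⟨hq.symm⟩⟩
    let b : p.primesOver S := ⟨q', ‹_›, ⟨hq'.symm⟩⟩
    have hab : a ≠ b := fun h => hne (congrArg Subtype.val h)
    have hs := (key a b hab).choose_spec
    have hfab : f (a, b) = (key a b hab).choose := dif_pos hab
    have hmem : f (a, b) ∈ Algebra.adjoin R (F : Set S) :=
      Algebra.subset_adjoin (Finset.mem_coe.mpr (Finset.mem_image_of_mem f (Finset.mem_univ _)))
    have h1 : (⟨f (a, b), hmem⟩ : Algebra.adjoin R (F : Set S)) ∈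
        q.comap (algebraMap (Algebra.adjoin R (F : Set S)) S) := by
      rw [Ideal.mem_comap]
      change f (a, b) ∈ q
      rw [hfab]; exact hs.1
    rw [heq, Ideal.mem_comap] at h1
    change f (a, b) ∈ q' at h1
    rw [hfab] at h1
    exact hs.2 h1

end Sep

section Claims

variable {R S R' : Type u} [CommRing R] [CommRing S] [Algebra R S] [Algebra.IsIntegral R S]
  [CommRing R'] [Algebra R R'] (Sl : Subalgebra R S)

/-- the comparison map `R' ⊗ Sl → R' ⊗ S`. -/
noncomputable def iota : R' ⊗[R] Sl →ₐ[R'] R' ⊗[R] S :=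
  Algebra.TensorProduct.map (AlgHom.id R' R') Sl.val

theorem iota_injective [Module.Flat R R'] : Function.Injective (iota (R' := R') Sl) := by
  have := Module.Flat.lTensor_preserves_injective_linearMap (M := R') Sl.val.toLinearMap
    Subtype.val_injective
  intro x y h
  apply this
  exact h

theorem iota_includeRight (s : Sl) :
    iota (R' := R') Sl (Algebra.TensorProduct.includeRight s) =
      Algebra.TensorProduct.includeRight (s : S) := by
  simp [iota]

/-- contraction along iota of a prime over `P` is a prime over `P`. -/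
theorem liesOver_comap_iota (P : Ideal R') (r : Ideal (R' ⊗[R] S)) [r.LiesOver P] :
    (r.comap (iota (R' := R') Sl).toRingHom).LiesOver P := by
  constructor
  have h := ‹r.LiesOver P›.over
  rw [h]
  ext x
  simp only [Ideal.under, Ideal.mem_comap]
  change _ ↔ (iota Sl) (algebraMap R' _ x) ∈ r
  rw [AlgHom.commutes]

variable [Module.Flat R R'] (p : Ideal R) [p.IsPrime] (P : Ideal R') [P.IsPrime] [P.LiesOver p]
  (hsep : ∀ (q q' : Ideal S) [q.IsPrime] [q'.IsPrime], q.comap (algebraMap R S) = p →
        q'.comap (algebraMap R S) = p →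
        q.comap (algebraMap Sl S) = q'.comap (algebraMap Sl S) → q = q')
  (hbij : Function.Bijective (Ideal.ResidueField.mapₐ p P (Algebra.ofId _ _) (P.over_def p)))
  {n : ℕ} (e : Fin (n + 1) → R' ⊗[R] Sl) (P' : Fin n → Ideal (R' ⊗[R] Sl))
  [hP'prime : ∀ i, (P' i).IsPrime] [hP'lies : ∀ i, (P' i).LiesOver P]
  (heP' : ∀ i, e i.castSucc ∉ P' i)
  (H : ∀ (P'' : Ideal (R' ⊗[R] Sl)), P''.IsPrime → P''.LiesOver P →
        e (.last n) ∈ P'' ∧ ∀ i, e i.castSucc ∉ P'' → P'' = P' i)

include H in
theorem claim_a (r : Ideal (R' ⊗[R] S)) [r.IsPrime] [r.LiesOver P] :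
    iota Sl (e (.last n)) ∈ r := by
  haveI := liesOver_comap_iota Sl P r
  exact (H (r.comap (iota (R' := R') Sl).toRingHom) inferInstance inferInstance).1

include H hsep hbij in
theorem claim_b (r r' : Ideal (R' ⊗[R] S)) [r.IsPrime] [r'.IsPrime] [r.LiesOver P] [r'.LiesOver P]
    (i : Fin n) (hr : iota Sl (e i.castSucc) ∉ r) (hr' : iota Sl (e i.castSucc) ∉ r') : r = r' := by
  haveI := liesOver_comap_iota Sl P r
  haveI := liesOver_comap_iota Sl P r'
  have h1 := (H (r.comap (iota (R' := R') Sl).toRingHom) inferInstance inferInstance).2 i hr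
  have h2 := (H (r'.comap (iota (R' := R') Sl).toRingHom) inferInstance inferInstance).2 i hr'
  have h3 : r.comap (iota (R' := R') Sl).toRingHom = r'.comap (iota (R' := R') Sl).toRingHom :=
    h1.trans h2.symm
  refine Ideal.eq_of_comap_eq_comap_of_bijective_residueFieldMap hbij r r' ?_
  -- contractions to `S`
  have hover : ∀ (t : Ideal (R' ⊗[R] S)) [t.IsPrime] [t.LiesOver P],
      (t.comap (Algebra.TensorProduct.includeRight (R := R) (A := R') (B := S)).toRingHom).comap
        (algebraMap R S) = p := by
    intro t _ _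
    rw [Ideal.comap_comap]
    have : (Algebra.TensorProduct.includeRight (R := R) (A := R') (B := S)).toRingHom.comp
        (algebraMap R S) = (algebraMap R' (R' ⊗[R] S)).comp (algebraMap R R') := by
      ext x
      simp [Algebra.TensorProduct.includeRight_apply, Algebra.algebraMap_eq_smul_one,
        TensorProduct.smul_tmul]
    rw [this, ← Ideal.comap_comap]
    have h1 : t.comap (algebraMap R' (R' ⊗[R] S)) = P := (‹t.LiesOver P›.over).symm
    rw [h1]
    exact (‹P.LiesOver p›.over).symm
  refine hsep _ _ (hover r) (hover r') ?_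
  ext s
  simp only [Ideal.mem_comap]
  have hs : ∀ (t : Ideal (R' ⊗[R] S)),
      (Algebra.TensorProduct.includeRight (R := R) (A := R') (B := S)).toRingHom
        (algebraMap Sl S s) ∈ t ↔ Algebra.TensorProduct.includeRight s ∈
          t.comap (iota (R' := R') Sl).toRingHom := by
    intro t
    rw [Ideal.mem_comap]
    change _ ↔ iota Sl (Algebra.TensorProduct.includeRight s) ∈ t
    rw [iota_includeRight]
    rfl
  rw [hs r, hs r', h3]

include heP' in
theorem claim_c (i : Fin n) :
    ∃ (r : Ideal (R' ⊗[R] S)) (_ : r.IsPrime) (_ : r.LiesOver P), iota Sl (e i.castSucc) ∉ r := by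
  letI : Algebra (R' ⊗[R] Sl) (R' ⊗[R] S) := (iota (R' := R') Sl).toRingHom.toAlgebra
  haveI : IsScalarTower R' (R' ⊗[R] Sl) (R' ⊗[R] S) :=
    IsScalarTower.of_algebraMap_eq' (iota (R' := R') Sl).comp_algebraMap.symm
  haveI : Algebra.IsIntegral (R' ⊗[R] Sl) (R' ⊗[R] S) :=
    Algebra.IsIntegral.tower_top (R := R')
  have hker : (⊥ : Ideal (R' ⊗[R] S)).comap (algebraMap (R' ⊗[R] Sl) (R' ⊗[R] S)) ≤ P' i := by
    intro x hx
    rw [Ideal.mem_comap, Ideal.mem_bot] at hx
    have : x = 0 := iota_injective Sl (by rw [map_zero]; exact hx)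
    rw [this]; exact zero_mem _
  obtain ⟨Q, -, hQ, hQc⟩ := Ideal.exists_ideal_over_prime_of_isIntegral (P' i)
    (⊥ : Ideal (R' ⊗[R] S)) hker
  refine ⟨Q, hQ, ⟨?_⟩, ?_⟩
  · rw [(hP'lies i).over, ← hQc]
    simp only [Ideal.under, Ideal.comap_comap]
    congr 1
  · intro hmem
    apply heP' i
    rw [← hQc, Ideal.mem_comap]
    exact hmem

end Claims

section Main

variable {R S : Type u} [CommRing R] [CommRing S] [Algebra R S] [Algebra.IsIntegral R S]

theorem adjoin_range_quotient_eq_top {R' : Type u} [CommRing R'] [Algebra R R']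
    (I : Ideal (R' ⊗[R] S)) :
    Algebra.adjoin R' (Set.range ((Ideal.Quotient.mkₐ R I).comp
      (Algebra.TensorProduct.includeRight (R := R) (A := R') (B := S)))) = ⊤ := by
  rw [eq_top_iff]
  rintro x -
  obtain ⟨t, rfl⟩ := Ideal.Quotient.mk_surjective x
  induction t using TensorProduct.induction_on with
  | zero => rw [map_zero]; exact zero_mem _
  | tmul a s =>
    have : (Ideal.Quotient.mk I) (a ⊗ₜ[R] s) =
        a • ((Ideal.Quotient.mkₐ R I).comp
          (Algebra.TensorProduct.includeRight (R := R) (A := R') (B := S))) s := by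
      change _ = a • (Ideal.Quotient.mk I) ((1 : R') ⊗ₜ[R] s)
      rw [← Ideal.Quotient.mkₐ_eq_mk R', ← map_smul, TensorProduct.smul_tmul', smul_eq_mul, mul_one]
    rw [this]
    exact Subalgebra.smul_mem _ (Algebra.subset_adjoin (Set.mem_range_self s)) a
  | add x y hx hy => rw [map_add]; exact add_mem hx hy

theorem thmB (p : Ideal R) [p.IsPrime] (hfin : (p.primesOver S).Finite)
    (hpi : ∀ (q : Ideal S) [q.IsPrime] (hq : p = q.comap (algebraMap R S)),
      letI := (Ideal.ResidueField.map p q (algebraMap R S) hq).toAlgebra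
      IsPurelyInseparable p.ResidueField q.ResidueField) :
    ∃ (R' : Type u) (_ : CommRing R') (_ : Algebra R R') (p' : Ideal R') (_ : p'.IsPrime),
      Algebra.Etale R R' ∧ p'.comap (algebraMap R R') = p ∧
      ∃ (m : ℕ) (A : Fin m → Type u) (_ : ∀ j, CommRing (A j)) (_ : ∀ j, Algebra R' (A j))
        (_ : R' ⊗[R] S ≃ₐ[R'] (Π j, A j)),
        ∀ j, Algebra.IsIntegral R' (A j) ∧ ∃ (r : Ideal (A j)) (_ : r.IsPrime)
          (hr : p' = r.comap (algebraMap R' (A j))),
          (∀ (r' : Ideal (A j)) [r'.IsPrime], r'.comap (algebraMap R' (A j)) = p' → r' = r) ∧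
          letI := (Ideal.ResidueField.map p' r (algebraMap R' (A j)) hr).toAlgebra
          IsPurelyInseparable p'.ResidueField r.ResidueField := by
  classical
  obtain ⟨Sl, hSlfin, hsep⟩ := exists_separating_subalgebra p hfin
  obtain ⟨R', _, _, hR'et, P, hPprime, hPlies, n, e, he, P', hP'prime, hP'lies, hbij, heP', H⟩ :=
    Algebra.exists_etale_completeOrthogonalIdempotents_forall_liesOver_eq (R := R) (S := Sl) p
  haveI : Module.Flat R R' := inferInstance
  have hPp : P.comap (algebraMap R R') = p := hPlies.over.symm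
  rcases n with _ | k
  · -- no primes over `P`
    have he1 : e (Fin.last 0) = 1 := by
      have := he.complete
      simpa using this
    have hno : ∀ (r : Ideal (R' ⊗[R] S)) [r.IsPrime], ¬ r.LiesOver P := by
      intro r _ hr
      have := claim_a Sl P e P' H r
      rw [he1, map_one] at this
      exact ‹r.IsPrime›.ne_top ((Ideal.eq_top_iff_one _).mpr this)
    have hker : ¬ RingHom.ker (algebraMap R' (R' ⊗[R] S)) ≤ P := by
      intro hle
      obtain ⟨Q, -, hQ, hQc⟩ := Ideal.exists_ideal_over_prime_of_isIntegral P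
        (⊥ : Ideal (R' ⊗[R] S)) (by rwa [← RingHom.ker_eq_comap_bot])
      exact hno Q ⟨hQc.symm⟩
    obtain ⟨g, hgker, hgP⟩ := SetLike.not_le_iff_exists.mp hker
    have hdisj : Disjoint (Submonoid.powers g : Set R') (P : Set R') :=
      (Ideal.disjoint_powers_iff_notMem g hPprime.isRadical).mpr hgP
    let R'' := Localization.Away g
    let p'' : Ideal R'' := P.map (algebraMap R' R'')
    have hp''prime : p''.IsPrime :=
      IsLocalization.isPrime_of_isPrime_disjoint (Submonoid.powers g) R'' P hPprime hdisj
    have hp''c : p''.comap (algebraMap R' R'') = P :=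
      IsLocalization.under_map_of_isPrime_disjoint (Submonoid.powers g) R'' hPprime hdisj
    haveI : Subsingleton (R'' ⊗[R] S) := by
      refine subsingleton_of_zero_eq_one ?_
      symm
      have h0 : (algebraMap R' R'' g) ⊗ₜ[R] (1 : S) = (0 : R'' ⊗[R] S) := by
        have h1 : (g ⊗ₜ[R] (1 : S) : R' ⊗[R] S) = 0 := by
          have := (RingHom.mem_ker).mp hgker
          rwa [Algebra.TensorProduct.algebraMap_apply, Algebra.algebraMap_self_apply] at this
        have h2 := congrArg (Algebra.TensorProduct.map (IsScalarTower.toAlgHom R R' R'')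
          (AlgHom.id R S)) h1
        simpa using h2
      have hu : IsLocalization.Away.invSelf (S := R'') g * algebraMap R' R'' g = 1 := by
        rw [mul_comm]; exact IsLocalization.Away.mul_invSelf g
      calc (1 : R'' ⊗[R] S) = (IsLocalization.Away.invSelf (S := R'') g * algebraMap R' R'' g) ⊗ₜ[R] (1 : S) := by
            rw [hu]; rfl
        _ = IsLocalization.Away.invSelf (S := R'') g • ((algebraMap R' R'' g) ⊗ₜ[R] (1 : S)) := by
            rw [TensorProduct.smul_tmul', smul_eq_mul]
        _ = 0 := by rw [h0, smul_zero]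
    refine ⟨R'', inferInstance, inferInstance, p'', hp''prime, Algebra.Etale.comp R R' R'', ?_, 0,
      fun _ => PUnit.{u+1}, fun _ => inferInstance, fun _ => inferInstance, ?_, fun j => j.elim0⟩
    · rw [IsScalarTower.algebraMap_eq R R' R'', ← Ideal.comap_comap, hp''c, hPp]
    · exact
        { toFun := fun _ _ => PUnit.unit
          invFun := fun _ => 0
          left_inv := fun _ => Subsingleton.elim _ _
          right_inv := fun _ => Subsingleton.elim _ _
          map_mul' := fun _ _ => Subsingleton.elim _ _
          map_add' := fun _ _ => Subsingleton.elim _ _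
          commutes' := fun _ => Subsingleton.elim _ _ }
  · -- at least one prime: merge the garbage factor into the first one
    let T := R' ⊗[R] S
    let ε : Fin (k + 2) → T := fun i => iota Sl (e i)
    have hε : CompleteOrthogonalIdempotents ε := he.map (iota (R' := R') Sl).toRingHom
    let η : Fin (k + 1) → T :=
      fun j => ε j.castSucc + if j = 0 then ε (Fin.last (k + 1)) else 0
    have hη : CompleteOrthogonalIdempotents η := merge_coi ε hε
    have hlast : ∀ (r : Ideal T) [r.IsPrime] [r.LiesOver P], ε (Fin.last (k + 1)) ∈ r :=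
      fun r _ _ => claim_a Sl P e P' H r
    have hηε : ∀ (r : Ideal T) [r.IsPrime] [r.LiesOver P] (j : Fin (k + 1)),
        η j ∈ r ↔ ε j.castSucc ∈ r := by
      intro r _ _ j
      have h1 := hlast r
      have h2 : (if j = 0 then ε (Fin.last (k + 1)) else 0) ∈ r := by
        split_ifs
        · exact h1
        · exact zero_mem _
      constructor
      · intro h
        have := sub_mem h h2
        simpa [η] using this
      · intro h
        exact add_mem h h2
    refine ⟨R', inferInstance, inferInstance, P, hPprime, hR'et, hPp, k + 1,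
      fun j => T ⧸ Ideal.span {1 - η j}, fun j => inferInstance, fun j => inferInstance,
      AlgEquiv.ofBijective (Pi.algHom R' (fun j => T ⧸ Ideal.span {1 - η j})
        (fun j => Ideal.Quotient.mkₐ R' (Ideal.span {1 - η j}))) hη.bijective_pi, ?_⟩
    intro j
    refine ⟨inferInstance, ?_⟩
    obtain ⟨Q, hQprime, hQlies, hQε⟩ := claim_c Sl P e P' heP' j
    have hQη : η j ∉ Q := fun h => hQε ((hηε Q j).mp h)
    have hidem : η j * (1 - η j) = 0 := by
      have := hη.idem j
      rw [mul_sub, mul_one, this.eq, sub_self]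
    have h1η : 1 - η j ∈ Q := by
      have : η j * (1 - η j) ∈ Q := by rw [hidem]; exact zero_mem _
      exact (hQprime.mem_or_mem this).resolve_left hQη
    have hle : Ideal.span {1 - η j} ≤ Q := (Ideal.span_singleton_le_iff_mem _).mpr h1η
    let I := Ideal.span {1 - η j}
    let r : Ideal (T ⧸ I) := Q.map (Ideal.Quotient.mk I)
    have hrprime : r.IsPrime :=
      Ideal.map_isPrime_of_surjective Ideal.Quotient.mk_surjective (by rwa [Ideal.mk_ker])
    have hrc : r.comap (Ideal.Quotient.mk I) = Q := Ideal.comap_map_mk hle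
    have halg : algebraMap R' (T ⧸ I) = (Ideal.Quotient.mk I).comp (algebraMap R' T) := rfl
    have hr : P = r.comap (algebraMap R' (T ⧸ I)) := by
      rw [halg, ← Ideal.comap_comap, hrc]
      exact hQlies.over
    refine ⟨r, hrprime, hr, ?_, ?_⟩
    · intro r' _ hr'
      let Q' : Ideal T := r'.comap (Ideal.Quotient.mk I)
      haveI : Q'.IsPrime := Ideal.comap_isPrime _ _
      haveI : Q'.LiesOver P := ⟨by
        change P = (r'.comap (Ideal.Quotient.mk I)).comap (algebraMap R' T)
        rw [Ideal.comap_comap, ← halg, hr']⟩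
      have h1 : 1 - η j ∈ Q' := by
        change Ideal.Quotient.mk I (1 - η j) ∈ r'
        have h0 : Ideal.Quotient.mk I (1 - η j) = 0 :=
          Ideal.Quotient.eq_zero_iff_mem.mpr (Ideal.subset_span rfl)
        rw [h0]
        exact zero_mem _
      have h2 : η j ∉ Q' := by
        intro h
        have : (1 : T) ∈ Q' := by
          have := add_mem h1 h
          simpa using this
        exact ‹Q'.IsPrime›.ne_top ((Ideal.eq_top_iff_one _).mpr this)
      have h3 : ε j.castSucc ∉ Q' := fun h => h2 ((hηε Q' j).mpr h)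
      have hQQ : Q' = Q := claim_b Sl p P hsep hbij e P' H Q' Q j h3 hQε
      rw [← Ideal.map_comap_of_surjective (Ideal.Quotient.mk I) Ideal.Quotient.mk_surjective r']
      change Q'.map _ = _
      rw [hQQ]
    · exact isPurelyInseparable_residueField_of_generated
        ((Ideal.Quotient.mkₐ R I).comp
          (Algebra.TensorProduct.includeRight (R := R) (A := R') (B := S)))
        (adjoin_range_quotient_eq_top I) p P hPlies.over r hr hpi

end Main

end Groth.Agent.Lib.R2LeadEtSplitB
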