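import Mathlib
import Groth.Agent.Lib.R2LeadEtSplitB
import Groth.Agent.Lib.Helper20EtResExt

set_option autoImplicit false
set_option linter.style.haveILetI false
open TensorProduct

namespace Groth.Agent.Lib.R2LeadEtSplitC

open Groth.Agent.Lib.R2LeadEtSplitA Groth.Agent.Lib.R2LeadEtSplitB

universe u

section Alg

variable {R S : Type*} [CommRing R] [CommRing S] [Algebra R S] [Algebra.IsIntegral R S]

/-- residue field extensions of an integral algebra are algebraic. -/
theorem isAlgebraic_residueField (p : Ideal R) [p.IsPrime] (q : Ideal S) [q.IsPrime]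
    (hq : p = q.comap (algebraMap R S)) :
    letI := (Ideal.ResidueField.map p q (algebraMap R S) hq).toAlgebra
    Algebra.IsAlgebraic p.ResidueField q.ResidueField := by
  letI := (Ideal.ResidueField.map p q (algebraMap R S) hq).toAlgebra
  have halg : algebraMap p.ResidueField q.ResidueField =
      Ideal.ResidueField.map p q (algebraMap R S) hq := rfl
  have hS : ∀ s : S, IsIntegral p.ResidueField (algebraMap S q.ResidueField s) := by
    intro s
    refine IsIntegral.map_of_comp_eq (algebraMap R p.ResidueField) (algebraMap S q.ResidueField) ?_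
      (Algebra.IsIntegral.isIntegral (R := R) s)
    ext x
    simp [halg]
  suffices Algebra.IsIntegral p.ResidueField q.ResidueField from inferInstance
  refine ⟨fun x => ?_⟩
  obtain ⟨a, b, hb, rfl⟩ := IsFractionRing.div_surjective (A := S ⧸ q) x
  obtain ⟨a, rfl⟩ := Ideal.Quotient.mk_surjective a
  obtain ⟨b, rfl⟩ := Ideal.Quotient.mk_surjective b
  rw [div_eq_mul_inv]
  exact (hS a).mul (hS b).inv

end Alg

section Fin

/-- finite ring maps with finite source spectrum have finite target spectrum. -/
theorem finite_primeSpectrum_of_finite {D D' : Type*} [CommRing D] [CommRing D'] [Algebra D D']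
    [Module.Finite D D'] [Finite (PrimeSpectrum D)] : Finite (PrimeSpectrum D') := by
  have hfib : ∀ c : PrimeSpectrum D, (c.asIdeal.primesOver D').Finite := fun c =>
    Algebra.QuasiFinite.finite_primesOver c.asIdeal
  have hcover : (Set.univ : Set (PrimeSpectrum D')) ⊆
      ⋃ c : PrimeSpectrum D, {x | x.asIdeal ∈ c.asIdeal.primesOver D'} := by
    intro x _
    refine Set.mem_iUnion.mpr ⟨⟨x.asIdeal.comap (algebraMap D D'), inferInstance⟩, ?_⟩
    exact ⟨x.2, ⟨rfl⟩⟩
  have hfin : (⋃ c : PrimeSpectrum D, {x : PrimeSpectrum D' |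
      x.asIdeal ∈ c.asIdeal.primesOver D'}).Finite := by
    refine Set.finite_iUnion fun c => ?_
    exact (hfib c).preimage (fun x _ y _ h => PrimeSpectrum.ext h)
  exact Set.finite_univ_iff.mp (hfin.subset hcover)

variable {R S R₁ : Type u} [CommRing R] [CommRing S] [Algebra R S] [CommRing R₁] [Algebra R R₁]

theorem finite_primesOver_baseChange (p : Ideal R) [p.IsPrime] (p₁ : Ideal R₁) [p₁.IsPrime]
    (hp₁ : p = p₁.comap (algebraMap R R₁))
    (hfinres : (Ideal.ResidueField.map p p₁ (algebraMap R R₁) hp₁).Finite)
    (hfin : (p.primesOver S).Finite) : (p₁.primesOver (R₁ ⊗[R] S)).Finite := by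
  letI := (Ideal.ResidueField.map p p₁ (algebraMap R R₁) hp₁).toAlgebra
  haveI : Module.Finite p.ResidueField p₁.ResidueField := hfinres
  haveI : IsScalarTower R p.ResidueField p₁.ResidueField := by
    refine IsScalarTower.of_algebraMap_eq fun x => ?_
    change _ = Ideal.ResidueField.map p p₁ (algebraMap R R₁) hp₁ (algebraMap R p.ResidueField x)
    rw [Ideal.ResidueField.map_algebraMap, ← IsScalarTower.algebraMap_apply]
  haveI : Finite (PrimeSpectrum (p.Fiber S)) :=
    (PrimeSpectrum.primesOverOrderIsoFiber R S p).toEquiv.finite_iff.mp hfin.to_subtype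
  -- `D' = D ⊗[κ(p)] κ(p₁)` is finite over `D = κ(p) ⊗ S`
  haveI : Finite (PrimeSpectrum ((p.Fiber S) ⊗[p.ResidueField] p₁.ResidueField)) := by
    have h := finite_primeSpectrum_of_finite (D := p.Fiber S)
      (D' := (p.Fiber S) ⊗[p.ResidueField] p₁.ResidueField)
    convert h
  let e1 : p₁.Fiber (R₁ ⊗[R] S) ≃ₐ[p₁.ResidueField] p₁.ResidueField ⊗[R] S :=
    Algebra.TensorProduct.cancelBaseChange R R₁ p₁.ResidueField p₁.ResidueField S
  let e2 : p₁.ResidueField ⊗[p.ResidueField] (p.Fiber S) ≃ₐ[p₁.ResidueField]
      p₁.ResidueField ⊗[R] S :=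
    Algebra.TensorProduct.cancelBaseChange R p.ResidueField p₁.ResidueField p₁.ResidueField S
  let e3 : (p.Fiber S) ⊗[p.ResidueField] p₁.ResidueField ≃ₐ[p.ResidueField]
      p₁.ResidueField ⊗[p.ResidueField] (p.Fiber S) :=
    Algebra.TensorProduct.comm _ _ _
  let e := (e1.toRingEquiv.trans e2.symm.toRingEquiv).trans e3.symm.toRingEquiv
  haveI : Finite (PrimeSpectrum (p₁.Fiber (R₁ ⊗[R] S))) :=
    (PrimeSpectrum.comapEquiv (R := p₁.Fiber (R₁ ⊗[R] S))
      (S := (p.Fiber S) ⊗[p.ResidueField] p₁.ResidueField) e).toEquiv.finite_iff.mpr inferInstance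
  exact Set.finite_coe_iff.mp
    ((PrimeSpectrum.primesOverOrderIsoFiber R₁ (R₁ ⊗[R] S) p₁).toEquiv.finite_iff.mpr inferInstance)

end Fin

section PI

variable {R S R₁ : Type u} [CommRing R] [CommRing S] [Algebra R S] [Algebra.IsIntegral R S]
  [CommRing R₁] [Algebra R R₁]

theorem adjoin_range_includeRight_eq_top :
    Algebra.adjoin R₁ (Set.range (Algebra.TensorProduct.includeRight (R := R) (A := R₁) (B := S))) =
      ⊤ := by
  rw [eq_top_iff]
  rintro t -
  induction t using TensorProduct.induction_on with
  | zero => exact zero_mem _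
  | tmul a s =>
    have : a ⊗ₜ[R] s = a • (Algebra.TensorProduct.includeRight (R := R) (A := R₁) (B := S)) s := by
      rw [Algebra.TensorProduct.includeRight_apply, TensorProduct.smul_tmul', smul_eq_mul, mul_one]
    rw [this]
    exact Subalgebra.smul_mem _ (Algebra.subset_adjoin (Set.mem_range_self s)) a
  | add x y hx hy => exact add_mem hx hy

theorem pi_after_baseChange (p : Ideal R) [p.IsPrime] (p₁ : Ideal R₁) [p₁.IsPrime]
    (hp₁ : p = p₁.comap (algebraMap R R₁))
    (hsplit : ∀ (q : Ideal S) [q.IsPrime] (hq : p = q.comap (algebraMap R S)),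
      letI := (Ideal.ResidueField.map p q (algebraMap R S) hq).toAlgebra
      ∀ x ∈ separableClosure p.ResidueField q.ResidueField,
        ((minpoly p.ResidueField x).map
          (Ideal.ResidueField.map p p₁ (algebraMap R R₁) hp₁)).Splits)
    (r : Ideal (R₁ ⊗[R] S)) [r.IsPrime] (hr : p₁ = r.comap (algebraMap R₁ (R₁ ⊗[R] S))) :
    letI := (Ideal.ResidueField.map p₁ r (algebraMap R₁ (R₁ ⊗[R] S)) hr).toAlgebra
    IsPurelyInseparable p₁.ResidueField r.ResidueField := by
  let q₀ := ringExpChar p.ResidueField
  haveI : ExpChar p.ResidueField q₀ := ringExpChar.expChar _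
  haveI : ExpChar p₁.ResidueField q₀ :=
    expChar_of_injective_ringHom (Ideal.ResidueField.map p p₁ (algebraMap R R₁) hp₁).injective q₀
  refine isPurelyInseparable_residueField_of_generators p₁ r hr _
    adjoin_range_includeRight_eq_top q₀ ?_
  rintro _ ⟨s, rfl⟩
  let incl : S →+* R₁ ⊗[R] S :=
    (Algebra.TensorProduct.includeRight (R := R) (A := R₁) (B := S)).toRingHom
  let q : Ideal S := r.comap incl
  have hcomm : incl.comp (algebraMap R S) = (algebraMap R₁ (R₁ ⊗[R] S)).comp (algebraMap R R₁) := by
    ext x
    simp [incl, Algebra.TensorProduct.includeRight_apply, Algebra.algebraMap_eq_smul_one,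
      TensorProduct.smul_tmul]
  have hq : p = q.comap (algebraMap R S) := by
    rw [Ideal.comap_comap, hcomm, ← Ideal.comap_comap, ← hr, ← hp₁]
  letI := (Ideal.ResidueField.map p q (algebraMap R S) hq).toAlgebra
  haveI : Algebra.IsAlgebraic p.ResidueField q.ResidueField := isAlgebraic_residueField p q hq
  haveI : ExpChar (separableClosure p.ResidueField q.ResidueField) q₀ :=
    expChar_of_injective_algebraMap
      (algebraMap p.ResidueField (separableClosure p.ResidueField q.ResidueField)).injective q₀
  have hpi : IsPurelyInseparable (separableClosure p.ResidueField q.ResidueField) q.ResidueField :=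
    inferInstance
  rw [isPurelyInseparable_iff_pow_mem (separableClosure p.ResidueField q.ResidueField) q₀] at hpi
  obtain ⟨n, y, hy⟩ := hpi (algebraMap S q.ResidueField s)
  -- `y` is separable over `κ(p)`, its minimal polynomial splits in `κ(p₁)`
  have hsp := hsplit q hq (y : q.ResidueField) y.2
  set f := minpoly p.ResidueField (y : q.ResidueField) with hf
  let σ := Ideal.ResidueField.map p₁ r (algebraMap R₁ (R₁ ⊗[R] S)) hr
  let ψ := Ideal.ResidueField.map q r incl rfl
  have hcomp : σ.comp (Ideal.ResidueField.map p p₁ (algebraMap R R₁) hp₁) =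
      ψ.comp (Ideal.ResidueField.map p q (algebraMap R S) hq) := by
    apply Ideal.ResidueField.ringHom_ext
    ext x
    simp only [σ, ψ, RingHom.comp_apply, Ideal.ResidueField.map_algebraMap]
    congr 1
    exact (congrArg (fun g => g x) hcomm).symm
  have hf0 : f ≠ 0 := minpoly.ne_zero (Algebra.IsIntegral.isIntegral _)
  have hroot : ((f.map (Ideal.ResidueField.map p p₁ (algebraMap R R₁) hp₁)).map σ).IsRoot
      (ψ (y : q.ResidueField)) := by
    rw [Polynomial.map_map, hcomp, ← Polynomial.map_map, Polynomial.IsRoot.def,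
      Polynomial.eval_map, Polynomial.eval₂_hom]
    have : Polynomial.eval₂ (Ideal.ResidueField.map p q (algebraMap R S) hq) (y : q.ResidueField)
        f = 0 := minpoly.aeval p.ResidueField (y : q.ResidueField)
    rw [Polynomial.eval_map, this, map_zero]
  have hne : (f.map (Ideal.ResidueField.map p p₁ (algebraMap R R₁) hp₁)).map σ ≠ 0 := by
    rw [Polynomial.map_map]
    exact (Polynomial.map_ne_zero_iff (RingHom.injective _)).mpr hf0
  have hmem : ψ (y : q.ResidueField) ∈
      ((f.map (Ideal.ResidueField.map p p₁ (algebraMap R R₁) hp₁)).map σ).roots :=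
    (Polynomial.mem_roots hne).mpr hroot
  rw [hsp.roots_map_of_injective σ.injective, Multiset.mem_map] at hmem
  obtain ⟨c, -, hc⟩ := hmem
  refine ⟨n, c, ?_⟩
  change σ c = _
  rw [hc]
  have h2 : (y : q.ResidueField) = (algebraMap S q.ResidueField s) ^ q₀ ^ n := hy
  rw [h2, map_pow]
  congr 1
  simp only [ψ, Ideal.ResidueField.map_algebraMap]
  rfl

end PI

section Main

variable {R S : Type u} [CommRing R] [CommRing S] [Algebra R S] [Algebra.IsIntegral R S]

/-- a finite Galois-type extension splitting all separable residue data. -/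
theorem exists_splitting_field (p : Ideal R) [p.IsPrime] (hfin : (p.primesOver S).Finite)
    (hsep : ∀ (q : Ideal S) [q.IsPrime] (hq : p = q.comap (algebraMap R S)),
      letI := (Ideal.ResidueField.map p q (algebraMap R S) hq).toAlgebra
      Module.Finite p.ResidueField (separableClosure p.ResidueField q.ResidueField)) :
    ∃ (L : Type u) (_ : Field L) (_ : Algebra p.ResidueField L),
      FiniteDimensional p.ResidueField L ∧ Algebra.IsSeparable p.ResidueField L ∧
      ∀ (q : Ideal S) [q.IsPrime] (hq : p = q.comap (algebraMap R S)),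
        letI := (Ideal.ResidueField.map p q (algebraMap R S) hq).toAlgebra
        ∀ x ∈ separableClosure p.ResidueField q.ResidueField,
          ((minpoly p.ResidueField x).map (algebraMap p.ResidueField L)).Splits := by
  classical
  let k := p.ResidueField
  let Ω := SeparableClosure k
  haveI : Finite (p.primesOver S) := hfin.to_subtype
  let N : p.primesOver S → IntermediateField k Ω := fun a =>
    haveI := a.2.1
    letI := (Ideal.ResidueField.map p a.1 (algebraMap R S) a.2.2.over).toAlgebra
    IntermediateField.normalClosure k (separableClosure k a.1.ResidueField) Ω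
  have hNfin : ∀ a, FiniteDimensional k (N a) := by
    intro a
    haveI := a.2.1
    letI := (Ideal.ResidueField.map p a.1 (algebraMap R S) a.2.2.over).toAlgebra
    haveI : FiniteDimensional k (separableClosure k a.1.ResidueField) := hsep a.1 a.2.2.over
    exact normalClosure.is_finiteDimensional k (separableClosure k a.1.ResidueField) Ω
  have hNnormal : ∀ a, Normal k (N a) := by
    intro a
    haveI := a.2.1
    letI := (Ideal.ResidueField.map p a.1 (algebraMap R S) a.2.2.over).toAlgebra
    exact normalClosure.normal k (separableClosure k a.1.ResidueField) Ω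
  let L : IntermediateField k Ω := ⨆ a, N a
  haveI : FiniteDimensional k L := IntermediateField.finiteDimensional_iSup_of_finite
  haveI : Normal k L := inferInstanceAs (Normal k (⨆ a, N a : IntermediateField k Ω))
  haveI : Algebra.IsSeparable k L := Algebra.isSeparable_tower_bot_of_isSeparable k L Ω
  refine ⟨L, inferInstance, inferInstance, inferInstance, inferInstance, ?_⟩
  intro q _ hq
  letI := (Ideal.ResidueField.map p q (algebraMap R S) hq).toAlgebra
  intro x hx
  let a : p.primesOver S := ⟨q, ‹_›, ⟨hq⟩⟩
  haveI : Algebra.IsSeparable k (separableClosure k q.ResidueField) :=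
    separableClosure.isSeparable k q.ResidueField
  let φ : separableClosure k q.ResidueField →ₐ[k] Ω := IsSepClosed.lift
  let x' : separableClosure k q.ResidueField := ⟨x, hx⟩
  have hyN : φ x' ∈ N a := by
    have h1 : φ.fieldRange ≤ IntermediateField.normalClosure k (separableClosure k q.ResidueField) Ω :=
      φ.fieldRange_le_normalClosure
    exact h1 ⟨x', rfl⟩
  have hyL : φ x' ∈ L := (le_iSup N a) hyN
  have hmin : minpoly k x = minpoly k (⟨φ x', hyL⟩ : L) := by
    rw [IntermediateField.minpoly_eq, minpoly.algHom_eq φ φ.injective x',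
      IntermediateField.minpoly_eq]
  rw [hmin]
  exact Normal.splits inferInstance _

theorem main (p : Ideal R) [p.IsPrime] (hfin : (p.primesOver S).Finite)
    (hsep : ∀ (q : Ideal S) [q.IsPrime] (hq : p = q.comap (algebraMap R S)),
      letI := (Ideal.ResidueField.map p q (algebraMap R S) hq).toAlgebra
      Module.Finite p.ResidueField (separableClosure p.ResidueField q.ResidueField)) :
    ∃ (R' : Type u) (_ : CommRing R') (_ : Algebra R R') (p' : Ideal R') (_ : p'.IsPrime),
      Algebra.Etale R R' ∧ p'.comap (algebraMap R R') = p ∧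
      ∃ (m : ℕ) (A : Fin m → Type u) (_ : ∀ j, CommRing (A j)) (_ : ∀ j, Algebra R' (A j))
        (_ : R' ⊗[R] S ≃ₐ[R'] (Π j, A j)),
        ∀ j, Algebra.IsIntegral R' (A j) ∧ ∃ (r : Ideal (A j)) (_ : r.IsPrime)
          (hr : p' = r.comap (algebraMap R' (A j))),
          (∀ (r' : Ideal (A j)) [r'.IsPrime], r'.comap (algebraMap R' (A j)) = p' → r' = r) ∧
          letI := (Ideal.ResidueField.map p' r (algebraMap R' (A j)) hr).toAlgebra
          IsPurelyInseparable p'.ResidueField r.ResidueField := by
  obtain ⟨L, _, _, hLfin, hLsep, hLsplit⟩ := exists_splitting_field p hfin hsep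
  obtain ⟨R₁, _, _, hR₁et, p₁, hp₁prime, hp₁, e, he⟩ :=
    Groth.Agent.Lib.Helper20.EtResExt.exists_etale_residueField_equiv p L
  -- the residue field map is finite
  have hmapeq : Ideal.ResidueField.map p p₁ (algebraMap R R₁) hp₁ =
      (e.symm : L →+* p₁.ResidueField).comp (algebraMap p.ResidueField L) := by
    rw [← he, ← RingHom.comp_assoc]
    simp
  have hfinres : (Ideal.ResidueField.map p p₁ (algebraMap R R₁) hp₁).Finite := by
    rw [hmapeq]
    exact RingHom.Finite.comp (RingHom.Finite.of_surjective _ e.symm.surjective)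
      (RingHom.finite_algebraMap.mpr hLfin)
  have hfin₁ : (p₁.primesOver (R₁ ⊗[R] S)).Finite :=
    finite_primesOver_baseChange p p₁ hp₁ hfinres hfin
  have hsplit : ∀ (q : Ideal S) [q.IsPrime] (hq : p = q.comap (algebraMap R S)),
      letI := (Ideal.ResidueField.map p q (algebraMap R S) hq).toAlgebra
      ∀ x ∈ separableClosure p.ResidueField q.ResidueField,
        ((minpoly p.ResidueField x).map
          (Ideal.ResidueField.map p p₁ (algebraMap R R₁) hp₁)).Splits := by
    intro q _ hq
    letI := (Ideal.ResidueField.map p q (algebraMap R S) hq).toAlgebra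
    intro x hx
    rw [hmapeq, ← Polynomial.map_map]
    exact (hLsplit q hq x hx).map _
  obtain ⟨R', _, _, p', hp'prime, hR'et, hp'c, m, A, _, _, e₁, hA⟩ :=
    thmB (R := R₁) (S := R₁ ⊗[R] S) p₁ hfin₁
      (fun r _ hr => pi_after_baseChange p p₁ hp₁ hsplit r hr)
  letI : Algebra R R' := ((algebraMap R₁ R').comp (algebraMap R R₁)).toAlgebra
  haveI : IsScalarTower R R₁ R' := IsScalarTower.of_algebraMap_eq' rfl
  refine ⟨R', inferInstance, inferInstance, p', hp'prime, Algebra.Etale.comp R R₁ R', ?_, m, A,
    inferInstance, inferInstance,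
    (Algebra.TensorProduct.cancelBaseChange R R₁ R' R' S).symm.trans e₁, hA⟩
  rw [IsScalarTower.algebraMap_eq R R₁ R', ← Ideal.comap_comap, hp'c, ← hp₁]

end Main

end Groth.Agent.Lib.R2LeadEtSplitC
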