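import Groth.Statements.S11283
import Mathlib
import Groth.Agent.Lib.Helper19ComplNoeth

set_option autoImplicit false
universe u
open Deform

namespace Groth.Agent.Lib.R2LeadExalCompl

section Five

variable {Λ : Type u} [CommRing Λ] {B : Type u} [CommRing B] [Algebra Λ B]
  {L : Type u} [AddCommGroup L] [Module B L]

lemma proj_incl (X : Exal.Ext Λ B L) (z : L) : X.proj (X.incl z) = 0 :=
  (X.isExtension.exact _).2 ⟨z, rfl⟩

/-- a morphism of extensions is an equivalence -/
theorem equiv_of_hom (X Y : Exal.Ext Λ B L) (θ : X.E →ₐ[Λ] Y.E)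
    (hp : ∀ x, Y.proj (θ x) = X.proj x) (hi : ∀ z, θ (X.incl z) = Y.incl z) :
    Nonempty (X.Equiv Y) := by
  have hinj : Function.Injective θ := by
    rw [injective_iff_map_eq_zero]
    intro x hx
    have h0 : X.proj x = 0 := by rw [← hp, hx, map_zero]
    obtain ⟨z, rfl⟩ := (X.isExtension.exact x).1 h0
    rw [hi] at hx
    have : z = 0 := Y.isExtension.incl_injective (by rw [hx, map_zero])
    rw [this, map_zero]
  have hsurj : Function.Surjective θ := by
    intro w
    obtain ⟨x, hx⟩ := X.isExtension.proj_surjective (Y.proj w)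
    have h0 : Y.proj (w - θ x) = 0 := by rw [map_sub, hp, hx, sub_self]
    obtain ⟨z, hz⟩ := (Y.isExtension.exact _).1 h0
    refine ⟨x + X.incl z, ?_⟩
    rw [map_add, hi, hz]
    ring
  exact ⟨⟨AlgEquiv.ofBijective θ ⟨hinj, hsurj⟩, hp, hi⟩⟩

end Five

section QData

variable {Λ C Q : Type u} [CommRing Λ] [CommRing C] [CommRing Q] [Algebra Λ C] [Algebra Λ Q]
  (q : C →ₐ[Λ] Q) (L : Type u) [AddCommGroup L] [Module C L]

/-- an "extension of `Q` by `L`" over `C → Q` -/
structure QData (T : Type u) [CommRing T] [Algebra Λ T] where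
  p : T →ₐ[Λ] Q
  i : L →+ T
  p_surj : Function.Surjective p
  i_inj : Function.Injective i
  exact : ∀ t, p t = 0 ↔ t ∈ Set.range i
  mul_i : ∀ (t : T) (c : C) (z : L), p t = q c → t * i z = i (c • z)

variable {q L}
variable {T : Type u} [CommRing T] [Algebra Λ T] (D : QData q L T)

/-- carrier: the fibre product `T ×_Q C` -/
def QData.E : Subalgebra Λ (T × C) :=
  AlgHom.equalizer (D.p.comp (AlgHom.fst Λ T C)) (q.comp (AlgHom.snd Λ T C))

lemma QData.mem_E (x : T × C) : x ∈ D.E ↔ D.p x.1 = q x.2 := Iff.rfl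

lemma QData.p_i (z : L) : D.p (D.i z) = 0 := (D.exact _).2 ⟨z, rfl⟩

/-- the extension of `C` by `L` on the fibre product -/
noncomputable def QData.ext : Exal.Ext Λ C L where
  E := D.E
  proj := (AlgHom.snd Λ T C).comp D.E.val
  incl :=
    { toFun := fun z => ⟨(D.i z, 0), by rw [QData.mem_E]; simp [D.p_i]⟩
      map_zero' := by
        apply Subtype.ext
        apply Prod.ext <;> simp
      map_add' := fun z z' => by
        apply Subtype.ext
        apply Prod.ext <;> simp }
  isExtension :=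
    { proj_surjective := fun c => by
        obtain ⟨t, ht⟩ := D.p_surj (q c)
        exact ⟨⟨(t, c), ht⟩, rfl⟩
      incl_injective := fun z z' h => by
        have := congrArg (fun e : D.E => e.1.1) h
        exact D.i_inj this
      exact := fun x => by
        obtain ⟨⟨t, c⟩, hx⟩ := x
        have hx' : D.p t = q c := hx
        constructor
        · intro hc
          change c = 0 at hc
          subst hc
          rw [map_zero] at hx'
          obtain ⟨z, rfl⟩ := (D.exact t).1 hx'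
          exact ⟨z, rfl⟩
        · rintro ⟨z, hz⟩
          have := congrArg (fun e : D.E => e.1.2) hz
          exact this.symm
      mul_incl := fun x z => by
        obtain ⟨⟨t, c⟩, hx⟩ := x
        have hx' : D.p t = q c := hx
        apply Subtype.ext
        apply Prod.ext
        · change t * D.i z = D.i (c • z)
          exact D.mul_i t c z hx'
        · change c * 0 = 0
          exact mul_zero _ }

lemma QData.ext_proj (x : D.ext.E) : D.ext.proj x = (x : D.E).1.2 := rfl

variable {T' : Type u} [CommRing T'] [Algebra Λ T'] (D' : QData q L T')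

/-- morphisms of data give equivalent extensions -/
theorem QData.ext_equiv_of_hom (ψ : T →ₐ[Λ] T') (hp : ∀ t, D'.p (ψ t) = D.p t)
    (hi : ∀ z, ψ (D.i z) = D'.i z) : Nonempty (D.ext.Equiv D'.ext) := by
  let θ₀ : D.E →ₐ[Λ] T' × C :=
    ((ψ.comp (AlgHom.fst Λ T C)).prod (AlgHom.snd Λ T C)).comp D.E.val
  have hθ₀ : ∀ x, θ₀ x ∈ D'.E := by
    intro x
    rw [QData.mem_E]
    change D'.p (ψ x.1.1) = q x.1.2
    rw [hp]
    exact x.2
  let θ : D.ext.E →ₐ[Λ] D'.ext.E := θ₀.codRestrict D'.E hθ₀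
  refine equiv_of_hom D.ext D'.ext θ (fun x => rfl) (fun z => ?_)
  apply Subtype.ext
  apply Prod.ext
  · exact hi z
  · rfl

end QData

section Star

open IsLocalRing

variable {Λ : Type u} [CommRing Λ] {B : Type u} [CommRing B] [Algebra Λ B] [IsLocalRing B]
  {L : Type u} [AddCommGroup L] [Module B L]

/-- preimage of the maximal ideal -/
noncomputable def ME (X : Exal.Ext Λ B L) : Ideal X.E := Ideal.comap X.proj (maximalIdeal B)

lemma mem_ME (X : Exal.Ext Λ B L) (a : X.E) : a ∈ ME X ↔ X.proj a ∈ maximalIdeal B := Iff.rfl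

lemma pow_le_ME (X : Exal.Ext Λ B L) {d : ℕ} (hd : 1 ≤ d) : ME X ^ d ≤ ME X :=
  Ideal.pow_le_self (by omega)

lemma map_ME_pow (X : Exal.Ext Λ B L) (d : ℕ) :
    Ideal.map X.proj (ME X ^ d) = maximalIdeal B ^ d := by
  rw [Ideal.map_pow, ME, Ideal.map_comap_of_surjective _ X.isExtension.proj_surjective]

variable (hL : ∀ a ∈ maximalIdeal B, ∀ z : L, a • z = 0) (X : Exal.Ext Λ B L)

include hL in
lemma mul_ker_eq_zero {e κ : X.E} (he : X.proj e ∈ maximalIdeal B) (hκ : X.proj κ = 0) :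
    e * κ = 0 := by
  obtain ⟨z, rfl⟩ := (X.isExtension.exact κ).1 hκ
  rw [X.isExtension.mul_incl, hL _ he, map_zero]

include hL in
lemma exists_repr {ι : Type u} [Fintype ι] (x : ι → B)
    (hx : Ideal.span (Set.range x) = maximalIdeal B)
    (y : ι → X.E) (hy : ∀ i, X.proj (y i) = x i) (d : ℕ) (hd : 1 ≤ d) (ε : X.E)
    (hε : ε ∈ ME X ^ (d + 1)) :
    ∃ e : ι → X.E, (∀ i, e i ∈ ME X ^ d) ∧ ε = ∑ i, e i * y i := by
  rw [pow_succ] at hε
  refine Submodule.mul_induction_on hε ?_ ?_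
  · intro a ha b hb
    have hpb : X.proj b ∈ Ideal.span (Set.range x) := by rw [hx]; exact hb
    obtain ⟨r, hr⟩ := Ideal.mem_span_range_iff_exists_fun.1 hpb
    choose t ht using fun i => X.isExtension.proj_surjective (r i)
    refine ⟨fun i => a * t i, fun i => Ideal.mul_mem_right _ _ ha, ?_⟩
    have hκ : X.proj (b - ∑ i, t i * y i) = 0 := by
      rw [map_sub, map_sum, sub_eq_zero, ← hr]
      refine Finset.sum_congr rfl fun i _ => ?_
      rw [map_mul, ht, hy]
    have h0 := mul_ker_eq_zero hL X (e := a) ((mem_ME X a).1 (pow_le_ME X hd ha)) hκ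
    rw [mul_sub, sub_eq_zero, Finset.mul_sum] at h0
    rw [h0]
    refine Finset.sum_congr rfl fun i _ => ?_
    ring
  · rintro u v ⟨e, he, rfl⟩ ⟨e', he', rfl⟩
    refine ⟨fun i => e i + e' i, fun i => Ideal.add_mem _ (he i) (he' i), ?_⟩
    rw [← Finset.sum_add_distrib]
    refine Finset.sum_congr rfl fun i _ => ?_
    ring

include hL in
lemma sum_eq_zero_of_mem_smul {ι : Type u} [Fintype ι] (x : ι → B)
    (hxm : ∀ i, x i ∈ maximalIdeal B)
    (y : ι → X.E) (hy : ∀ i, X.proj (y i) = x i)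
    (v : ι → B)
    (hv : v ∈ maximalIdeal B • LinearMap.ker (Fintype.linearCombination B x)) :
    ∀ e : ι → X.E, (∀ i, X.proj (e i) = v i) → ∑ i, e i * y i = 0 := by
  refine Submodule.smul_induction_on hv ?_ ?_
  · intro a ha z hz e he
    obtain ⟨a', ha'⟩ := X.isExtension.proj_surjective a
    choose z' hz' using fun i => X.isExtension.proj_surjective (z i)
    have h1 : ∀ i, e i * y i = a' * (z' i * y i) + y i * (e i - a' * z' i) := by
      intro i; ring
    have h2 : ∀ i, y i * (e i - a' * z' i) = 0 := by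
      intro i
      apply mul_ker_eq_zero hL X
      · rw [hy]; exact hxm i
      · rw [map_sub, map_mul, he, ha', hz']
        simp
    have h3 : a' * ∑ i, z' i * y i = 0 := by
      apply mul_ker_eq_zero hL X
      · rw [ha']; exact ha
      · rw [map_sum]
        have : (Fintype.linearCombination B x) z = 0 := LinearMap.mem_ker.1 hz
        rw [Fintype.linearCombination_apply] at this
        rw [← this]
        refine Finset.sum_congr rfl fun i _ => ?_
        rw [map_mul, hz', hy, smul_eq_mul]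
    rw [Finset.sum_congr rfl (fun i _ => h1 i), Finset.sum_add_distrib, ← Finset.mul_sum, h3,
      zero_add]
    exact Finset.sum_eq_zero (fun i _ => h2 i)
  · intro v w hv hw e he
    choose ev hev using fun i => X.isExtension.proj_surjective (v i)
    have h1 := hv ev hev
    have h2 := hw (fun i => e i - ev i) (fun i => by rw [map_sub, he, hev]; simp)
    have : ∀ i, e i * y i = ev i * y i + (e i - ev i) * y i := by intro i; ring
    rw [Finset.sum_congr rfl (fun i _ => this i), Finset.sum_add_distrib, h1, h2, add_zero]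

include hL in
/-- uniform Artin–Rees: a power of the maximal ideal of the middle ring misses the kernel -/
theorem exists_pow [IsNoetherianRing B] :
    ∃ n : ℕ, ∀ m : ℕ, n ≤ m → ∀ X : Exal.Ext Λ B L, ∀ x ∈ ME X ^ (m + 1), X.proj x = 0 → x = 0 := by
  classical
  obtain ⟨s, hs⟩ := (IsNoetherian.noetherian (maximalIdeal B) : (maximalIdeal B).FG)
  let ι : Type u := {a // a ∈ s}
  let x : ι → B := Subtype.val
  have hx : Ideal.span (Set.range x) = maximalIdeal B := by
    rw [← hs]
    congr 1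
    exact Subtype.range_coe
  have hxm : ∀ i, x i ∈ maximalIdeal B := fun i => by
    rw [← hx]; exact Ideal.subset_span ⟨i, rfl⟩
  obtain ⟨c, hc⟩ := Ideal.exists_pow_inf_eq_pow_smul (maximalIdeal B)
    (LinearMap.ker (Fintype.linearCombination B x))
  refine ⟨c + 1, fun m hm X ε hε' hpε => ?_⟩
  have hε : ε ∈ ME X ^ (c + 1 + 1) := Ideal.pow_le_pow_right (by omega) hε'
  choose y hy using fun i => X.isExtension.proj_surjective (x i)
  obtain ⟨e, he, rfl⟩ := exists_repr hL X x hx y hy (c + 1) (by omega) ε hε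
  apply sum_eq_zero_of_mem_smul hL X x hxm y hy (fun i => X.proj (e i)) ?_ e (fun i => rfl)
  have hmem : ∀ i, X.proj (e i) ∈ maximalIdeal B ^ (c + 1) := by
    intro i
    have := Ideal.mem_map_of_mem X.proj (he i)
    rw [Ideal.map_pow] at this
    exact Ideal.pow_right_mono (Ideal.map_comap_le) _ this
  have h1 : (fun i => X.proj (e i)) ∈
      (maximalIdeal B ^ (c + 1) • (⊤ : Submodule B (ι → B))) ⊓
        LinearMap.ker (Fintype.linearCombination B x) := by
    refine ⟨?_, ?_⟩
    · rw [pi_eq_sum_univ (fun i => X.proj (e i))]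
      refine Submodule.sum_mem _ fun i _ => ?_
      exact Submodule.smul_mem_smul (hmem i) Submodule.mem_top
    · rw [SetLike.mem_coe, LinearMap.mem_ker, Fintype.linearCombination_apply]
      have := hpε
      rw [map_sum] at this
      rw [← this]
      refine Finset.sum_congr rfl fun i _ => ?_
      rw [map_mul, hy, smul_eq_mul]
  rw [hc (c + 1) (by omega)] at h1
  have h2 : c + 1 - c = 1 := by omega
  rw [h2, pow_one] at h1
  exact Submodule.smul_mono le_rfl inf_le_right h1

end Star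

section Trunc

open IsLocalRing

variable {Λ C Q : Type u} [CommRing Λ] [CommRing C] [CommRing Q] [Algebra Λ C] [Algebra Λ Q]
  (q : C →ₐ[Λ] Q) {L : Type u} [AddCommGroup L] [Module C L]
  {B : Type u} [CommRing B] [Algebra Λ B] [IsLocalRing B] [Module B L]
  (g : B →ₐ[Λ] Q) (N : ℕ) (hgs : Function.Surjective g)
  (hg : ∀ b, g b = 0 ↔ b ∈ maximalIdeal B ^ (N + 1))
  (hsm : ∀ (b : B) (c : C) (z : L), g b = q c → b • z = c • z)
  (X : Exal.Ext Λ B L) (hX : ∀ x ∈ ME X ^ (N + 1), X.proj x = 0 → x = 0)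

/-- the truncation `X.E / 𝔐^(N+1)` as an extension of `Q` by `L` -/
noncomputable def truncData : QData q L (X.E ⧸ ME X ^ (N + 1)) where
  p := Ideal.Quotient.liftₐ (ME X ^ (N + 1)) (g.comp X.proj) (fun a ha => by
    change g (X.proj a) = 0
    rw [hg, ← map_ME_pow X (N + 1)]
    exact Ideal.mem_map_of_mem _ ha)
  i := (Ideal.Quotient.mk (ME X ^ (N + 1))).toAddMonoidHom.comp X.incl
  p_surj := by
    intro t
    obtain ⟨b, rfl⟩ := hgs t
    obtain ⟨x, rfl⟩ := X.isExtension.proj_surjective b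
    exact ⟨Ideal.Quotient.mk _ x, rfl⟩
  i_inj := by
    rw [injective_iff_map_eq_zero]
    intro z hz
    change Ideal.Quotient.mk _ (X.incl z) = 0 at hz
    rw [Ideal.Quotient.eq_zero_iff_mem] at hz
    have := hX _ hz (proj_incl X z)
    exact X.isExtension.incl_injective (by rw [this, map_zero])
  exact := by
    intro t
    obtain ⟨x, rfl⟩ := Ideal.Quotient.mk_surjective t
    constructor
    · intro h
      change g (X.proj x) = 0 at h
      rw [hg, ← map_ME_pow X (N + 1),
        Ideal.mem_map_iff_of_surjective _ X.isExtension.proj_surjective] at h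
      obtain ⟨w, hw, hwx⟩ := h
      have h0 : X.proj (x - w) = 0 := by rw [map_sub, hwx, sub_self]
      obtain ⟨z, hz⟩ := (X.isExtension.exact _).1 h0
      refine ⟨z, ?_⟩
      change Ideal.Quotient.mk _ (X.incl z) = _
      rw [hz, Ideal.Quotient.eq]
      have : x - w - x = -w := by ring
      rw [this]
      exact Submodule.neg_mem _ hw
    · rintro ⟨z, hz⟩
      rw [← hz]
      change g (X.proj (X.incl z)) = 0
      rw [proj_incl, map_zero]
  mul_i := by
    intro t c z h
    obtain ⟨x, rfl⟩ := Ideal.Quotient.mk_surjective t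
    change g (X.proj x) = q c at h
    change Ideal.Quotient.mk _ x * Ideal.Quotient.mk _ (X.incl z) = Ideal.Quotient.mk _ (X.incl (c • z))
    rw [← map_mul, X.isExtension.mul_incl, hsm _ _ z h]

/-- the extension of `C` attached to the truncation -/
noncomputable def G : Exal.Ext Λ C L := (truncData q g N hgs hg hsm X hX).ext

variable {B' : Type u} [CommRing B'] [Algebra Λ B'] [IsLocalRing B'] [Module B' L]
  (g' : B' →ₐ[Λ] Q) (hgs' : Function.Surjective g')
  (hg' : ∀ b, g' b = 0 ↔ b ∈ maximalIdeal B' ^ (N + 1))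
  (hsm' : ∀ (b : B') (c : C) (z : L), g' b = q c → b • z = c • z)
  (X' : Exal.Ext Λ B' L) (hX' : ∀ x ∈ ME X' ^ (N + 1), X'.proj x = 0 → x = 0)

theorem G_equiv_of_hom (f : X.E →ₐ[Λ] X'.E) (f1 : ∀ x, g' (X'.proj (f x)) = g (X.proj x))
    (f2 : ∀ z, f (X.incl z) = X'.incl z) (f3 : ∀ x ∈ ME X, f x ∈ ME X') :
    Nonempty ((G q g N hgs hg hsm X hX).Equiv (G q g' N hgs' hg' hsm' X' hX')) := by
  have hle : ME X ^ (N + 1) ≤ Ideal.comap f (ME X' ^ (N + 1)) := by
    have h1 : ME X ≤ Ideal.comap f (ME X') := fun x hx => f3 x hx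
    exact (Ideal.pow_right_mono h1 _).trans (Ideal.le_comap_pow _ _)
  refine QData.ext_equiv_of_hom _ _ (Ideal.quotientMapₐ (ME X' ^ (N + 1)) f hle) ?_ ?_
  · intro t
    obtain ⟨x, rfl⟩ := Ideal.Quotient.mk_surjective t
    exact f1 x
  · intro z
    change Ideal.quotientMapₐ (ME X' ^ (N + 1)) f hle (Ideal.Quotient.mk _ (X.incl z)) =
      Ideal.Quotient.mk _ (X'.incl z)
    rw [Ideal.quotientMapₐ, ← f2]
    rfl

end Trunc

section Compare

open IsLocalRing

variable {Λ C Q : Type u} [CommRing Λ] [CommRing C] [CommRing Q] [Algebra Λ C] [Algebra Λ Q]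
  (q : C →ₐ[Λ] Q) {L : Type u} [AddCommGroup L] [Module C L] [IsLocalRing C]
  (N : ℕ) (hqs : Function.Surjective q)
  (hq : ∀ c, q c = 0 ↔ c ∈ maximalIdeal C ^ (N + 1))
  (hsmC : ∀ (b c : C) (z : L), q b = q c → b • z = c • z)

theorem equiv_G_self (X : Exal.Ext Λ C L)
    (hX : ∀ x ∈ ME X ^ (N + 1), X.proj x = 0 → x = 0) :
    Nonempty (X.Equiv (G q q N hqs hq hsmC X hX)) := by
  let D := truncData q q N hqs hq hsmC X hX
  let θ₀ : X.E →ₐ[Λ] (X.E ⧸ ME X ^ (N + 1)) × C :=
    (Ideal.Quotient.mkₐ Λ (ME X ^ (N + 1))).prod X.proj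
  have hθ₀ : ∀ x, θ₀ x ∈ D.E := fun x => rfl
  refine equiv_of_hom X (G q q N hqs hq hsmC X hX) (θ₀.codRestrict D.E hθ₀) (fun x => rfl)
    (fun z => ?_)
  apply Subtype.ext
  apply Prod.ext
  · rfl
  · exact proj_incl X z

variable {R : Type u} [CommRing R] [Algebra Λ R] [IsLocalRing R] [Algebra R C]
  [IsScalarTower Λ R C] [Module R L] [IsScalarTower R C L]
  (g : R →ₐ[Λ] Q) (hgs : Function.Surjective g)
  (hg : ∀ b, g b = 0 ↔ b ∈ maximalIdeal R ^ (N + 1))
  (hsmR : ∀ (b : R) (c : C) (z : L), g b = q c → b • z = c • z)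
  (hgq : ∀ r, q (algebraMap R C r) = g r)

include hgq in
theorem equiv_pullback_G (Y : Exal.Ext Λ R L)
    (hY : ∀ x ∈ ME Y ^ (N + 1), Y.proj x = 0 → x = 0) :
    Nonempty (Y.Equiv ((G q g N hgs hg hsmR Y hY).pullback R)) := by
  let D := truncData q g N hgs hg hsmR Y hY
  let θ₀ : Y.E →ₐ[Λ] (Y.E ⧸ ME Y ^ (N + 1)) × C :=
    (Ideal.Quotient.mkₐ Λ (ME Y ^ (N + 1))).prod ((IsScalarTower.toAlgHom Λ R C).comp Y.proj)
  have hθ₀ : ∀ y, θ₀ y ∈ D.E := fun y => (hgq (Y.proj y)).symm
  let θ₁ : Y.E →ₐ[Λ] (G q g N hgs hg hsmR Y hY).E := θ₀.codRestrict D.E hθ₀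
  let θ₂ : Y.E →ₐ[Λ] (G q g N hgs hg hsmR Y hY).E × R := θ₁.prod Y.proj
  have hθ₂ : ∀ y, θ₂ y ∈ (G q g N hgs hg hsmR Y hY).fiberProd R := fun y => rfl
  refine equiv_of_hom Y ((G q g N hgs hg hsmR Y hY).pullback R)
    (θ₂.codRestrict _ hθ₂) (fun x => rfl) (fun z => ?_)
  apply Subtype.ext
  apply Prod.ext
  · apply Subtype.ext
    apply Prod.ext
    · rfl
    · change algebraMap R C (Y.proj (Y.incl z)) = 0
      rw [proj_incl, map_zero]
  · exact proj_incl Y z

include hgq in
theorem G_pullback_equiv (hι : ∀ r ∈ maximalIdeal R, algebraMap R C r ∈ maximalIdeal C)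
    (X : Exal.Ext Λ C L)
    (hX : ∀ x ∈ ME X ^ (N + 1), X.proj x = 0 → x = 0)
    (hXR : ∀ x ∈ ME (X.pullback R) ^ (N + 1), (X.pullback R).proj x = 0 → x = 0) :
    Nonempty ((G q g N hgs hg hsmR (X.pullback R) hXR).Equiv (G q q N hqs hq hsmC X hX)) := by
  refine G_equiv_of_hom q g N hgs hg hsmR (X.pullback R) hXR q hqs hq hsmC X hX
    ((AlgHom.fst Λ X.E R).comp (X.fiberProd R).val) ?_ (fun z => rfl) ?_
  · rintro ⟨⟨e, r⟩, h⟩
    have h' : X.proj e = algebraMap R C r := h
    change q (X.proj e) = g r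
    rw [h', hgq]
  · rintro ⟨⟨e, r⟩, h⟩ hs
    have h' : X.proj e = algebraMap R C r := h
    change X.proj e ∈ maximalIdeal C
    rw [h']
    exact hι r hs

theorem G_congr (Y Y' : Exal.Ext Λ R L) (e : Y.Equiv Y')
    (hY : ∀ x ∈ ME Y ^ (N + 1), Y.proj x = 0 → x = 0)
    (hY' : ∀ x ∈ ME Y' ^ (N + 1), Y'.proj x = 0 → x = 0) :
    Nonempty ((G q g N hgs hg hsmR Y hY).Equiv (G q g N hgs hg hsmR Y' hY')) := by
  refine G_equiv_of_hom q g N hgs hg hsmR Y hY g hgs hg hsmR Y' hY'
    e.toAlgEquiv.toAlgHom ?_ ?_ ?_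
  · intro x
    change g (Y'.proj (e.toAlgEquiv x)) = _
    rw [e.proj_apply]
  · intro z
    exact e.apply_incl z
  · intro x hx
    change Y'.proj (e.toAlgEquiv x) ∈ maximalIdeal R
    rw [e.proj_apply]
    exact hx

end Compare

section Main

open IsLocalRing

variable {Λ : Type u} [CommRing Λ]
  {R : Type u} [CommRing R] [Algebra Λ R] [IsLocalRing R] [IsNoetherianRing R]
  (L : Type u) [AddCommGroup L] [Module (AdicCompletion (maximalIdeal R) R) L] [Module R L]
  [IsScalarTower R (AdicCompletion (maximalIdeal R) R) L] [IsSimpleModule R L]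

local notation "Cc" => AdicCompletion (maximalIdeal R) R

/-- the truncation map of the completion -/
noncomputable def qN (N : ℕ) : Cc →ₐ[Λ] R ⧸ maximalIdeal R ^ (N + 1) :=
  (AdicCompletion.evalₐ (maximalIdeal R) (N + 1)).restrictScalars Λ

lemma qN_algebraMap (N : ℕ) (r : R) :
    qN (Λ := Λ) N (algebraMap R Cc r) = Ideal.Quotient.mk _ r :=
  (AdicCompletion.evalₐ (maximalIdeal R) (N + 1)).commutes r

lemma qN_surjective (N : ℕ) : Function.Surjective (qN (Λ := Λ) (R := R) N) :=
  AdicCompletion.surjective_evalₐ _ _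

lemma qN_eq_zero_iff (N : ℕ) (c : Cc) :
    qN (Λ := Λ) N c = 0 ↔ c ∈ maximalIdeal Cc ^ (N + 1) := by
  have hfg : (maximalIdeal R).FG := (maximalIdeal R).fg_of_isNoetherianRing
  rw [AdicCompletion.maximalIdeal_eq_map, ← Ideal.map_pow]
  constructor
  · intro h
    have h1 : AdicCompletion.eval (maximalIdeal R) R (N + 1) c = 0 := by
      have hle : maximalIdeal R ^ (N + 1) ≤ maximalIdeal R ^ (N + 1) • (⊤ : Ideal R) := by
        rw [smul_eq_mul, Ideal.mul_top]
      rw [← AdicCompletion.factor_evalₐ_eq_eval (maximalIdeal R) c hle]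
      change Ideal.Quotient.factor hle (qN (Λ := Λ) N c) = 0
      rw [h, map_zero]
    have h2 : c ∈ (maximalIdeal R ^ (N + 1) • ⊤ : Submodule R Cc) := by
      rw [AdicCompletion.pow_smul_top_eq_ker_eval hfg]
      exact h1
    rw [Ideal.smul_top_eq_map] at h2
    exact h2
  · intro h
    have h1 : qN (Λ := Λ) N c ∈ Ideal.map
        (qN (Λ := Λ) (R := R) N : Cc →+* R ⧸ maximalIdeal R ^ (N + 1))
        (Ideal.map (algebraMap R Cc) (maximalIdeal R ^ (N + 1))) :=
      Ideal.mem_map_of_mem (qN (Λ := Λ) (R := R) N : Cc →+* R ⧸ maximalIdeal R ^ (N + 1)) h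
    rw [Ideal.map_map] at h1
    have h2 : ((qN (Λ := Λ) (R := R) N : Cc →+* R ⧸ maximalIdeal R ^ (N + 1)).comp
        (algebraMap R Cc)) = Ideal.Quotient.mk (maximalIdeal R ^ (N + 1)) := by
      ext r
      exact qN_algebraMap (Λ := Λ) N r
    rw [h2, Ideal.map_quotient_self] at h1
    exact h1

lemma smul_eq_zero_R {a : R} (ha : a ∈ maximalIdeal R) (z : L) : a • z = 0 := by
  have hmax : (Module.annihilator R L).IsMaximal := IsSimpleModule.annihilator_isMaximal
  have h1 : Module.annihilator R L = maximalIdeal R := IsLocalRing.eq_maximalIdeal hmax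
  rw [← h1] at ha
  exact Module.mem_annihilator.1 ha z

lemma smul_eq_zero_C {c : Cc} (hc : c ∈ maximalIdeal Cc) (z : L) : c • z = 0 := by
  rw [AdicCompletion.maximalIdeal_eq_map] at hc
  refine Submodule.span_induction ?_ ?_ ?_ ?_ hc
  · rintro _ ⟨a, ha, rfl⟩
    rw [algebraMap_smul]
    exact smul_eq_zero_R L ha z
  · exact zero_smul _ _
  · intro x y _ _ hx hy
    rw [add_smul, hx, hy, add_zero]
  · intro b x _ hx
    rw [smul_eq_mul, mul_smul, hx, smul_zero]

lemma smul_eq_zero_of_qN (N : ℕ) {c : Cc} (hc : qN (Λ := Λ) N c = 0) (z : L) : c • z = 0 := by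
  rw [qN_eq_zero_iff] at hc
  exact smul_eq_zero_C L (Ideal.pow_le_self (by omega) hc) z

theorem main :
    (∀ X X' : Exal.Ext Λ Cc L,
        Nonempty ((X.pullback R).Equiv (X'.pullback R)) → Nonempty (X.Equiv X')) ∧
    (∀ Y : Exal.Ext Λ R L, ∃ X : Exal.Ext Λ Cc L, Nonempty ((X.pullback R).Equiv Y)) := by
  haveI : IsNoetherianRing Cc := Groth.Agent.Lib.Helper19.isNoetherianRing_adicCompletion _
  obtain ⟨nR, hnR⟩ := exists_pow (Λ := Λ) (B := R) (L := L) (fun a ha z => smul_eq_zero_R L ha z)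
  obtain ⟨nC, hnC⟩ := exists_pow (Λ := Λ) (B := Cc) (L := L) (fun a ha z => smul_eq_zero_C L ha z)
  let N := max nR nC
  have hXR := hnR N (le_max_left _ _)
  have hXC := hnC N (le_max_right _ _)
  let q := qN (Λ := Λ) (R := R) N
  let g : R →ₐ[Λ] R ⧸ maximalIdeal R ^ (N + 1) := Ideal.Quotient.mkₐ Λ _
  have hqs : Function.Surjective q := qN_surjective N
  have hq : ∀ c, q c = 0 ↔ c ∈ maximalIdeal Cc ^ (N + 1) := qN_eq_zero_iff N
  have hsmC : ∀ (b c : Cc) (z : L), q b = q c → b • z = c • z := by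
    intro b c z h
    have : q (b - c) = 0 := by rw [map_sub, h, sub_self]
    have := smul_eq_zero_of_qN L N this z
    rwa [sub_smul, sub_eq_zero] at this
  have hgs : Function.Surjective g := Ideal.Quotient.mkₐ_surjective Λ _
  have hg : ∀ b, g b = 0 ↔ b ∈ maximalIdeal R ^ (N + 1) := fun b => Ideal.Quotient.eq_zero_iff_mem
  have hgq : ∀ r, q (algebraMap R Cc r) = g r := fun r => qN_algebraMap N r
  have hsmR : ∀ (b : R) (c : Cc) (z : L), g b = q c → b • z = c • z := by
    intro b c z h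
    rw [← hgq] at h
    rw [← hsmC _ _ z h, algebraMap_smul]
  have hι : ∀ r ∈ maximalIdeal R, algebraMap R Cc r ∈ maximalIdeal Cc := by
    intro r hr
    rw [AdicCompletion.maximalIdeal_eq_map]
    exact Ideal.mem_map_of_mem _ hr
  constructor
  · rintro X X' ⟨e⟩
    obtain ⟨e1⟩ := equiv_G_self q N hqs hq hsmC X (hXC X)
    obtain ⟨e2⟩ := G_pullback_equiv q N hqs hq hsmC g hgs hg hsmR hgq hι X (hXC X)
      (hXR (X.pullback R))
    obtain ⟨e3⟩ := G_congr q N g hgs hg hsmR (X.pullback R) (X'.pullback R) e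
      (hXR (X.pullback R)) (hXR (X'.pullback R))
    obtain ⟨e4⟩ := G_pullback_equiv q N hqs hq hsmC g hgs hg hsmR hgq hι X' (hXC X')
      (hXR (X'.pullback R))
    obtain ⟨e5⟩ := equiv_G_self q N hqs hq hsmC X' (hXC X')
    exact ⟨(((e1.trans e2.symm).trans e3).trans e4).trans e5.symm⟩
  · intro Y
    obtain ⟨e⟩ := equiv_pullback_G q N g hgs hg hsmR hgq Y (hXR Y)
    exact ⟨G q g N hgs hg hsmR Y (hXR Y), ⟨e.symm⟩⟩

end Main

end Groth.Agent.Lib.R2LeadExalCompl
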