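import Groth.Statements.S11287
import Mathlib
import Groth.Agent.Lib.Helper19PsLiftComplete
import Groth.Agent.Lib.Helper28ComplNagata

set_option autoImplicit false
universe u
open Deform

namespace Groth.Agent.Lib.R2LeadExalPS

attribute [local instance] Exal.opModule Exal.isCentralScalar_opModule

section Psi

variable {Λ : Type u} [CommRing Λ] {P : Type u} [CommRing P] [Algebra Λ P] {J : Ideal P}
  {L : Type u} [AddCommGroup L] [Module (P ⧸ J) L] [Module P L] [IsScalarTower P (P ⧸ J) L]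

lemma mk_smul (p : P) (z : L) : Ideal.Quotient.mk J p • z = p • z := by
  rw [← Ideal.Quotient.algebraMap_eq, algebraMap_smul]

variable (X : Exal.Ext Λ (P ⧸ J) L) (u : P →ₐ[Λ] X.E)
  (hu : ∀ p, X.proj (u p) = Ideal.Quotient.mk J p)

lemma proj_incl (z : L) : X.proj (X.incl z) = 0 :=
  (X.isExtension.exact _).2 ⟨z, rfl⟩

lemma incl_mul_incl (z z' : L) : X.incl z * X.incl z' = 0 := by
  rw [X.isExtension.mul_incl, proj_incl, zero_smul, map_zero]

include hu in
lemma u_mul_incl (p : P) (z : L) : u p * X.incl z = X.incl (p • z) := by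
  rw [X.isExtension.mul_incl, hu, mk_smul]

/-- the comparison map from the trivial extension of `P` -/
noncomputable def Psi : TrivSqZeroExt P L →+* X.E where
  toFun t := u t.fst + X.incl t.snd
  map_one' := by simp
  map_zero' := by simp
  map_add' s t := by
    simp only [TrivSqZeroExt.fst_add, TrivSqZeroExt.snd_add, map_add]
    abel
  map_mul' s t := by
    simp only [TrivSqZeroExt.fst_mul, TrivSqZeroExt.snd_mul, map_mul, map_add, op_smul_eq_smul]
    rw [add_mul, mul_add, mul_add, incl_mul_incl, u_mul_incl X u hu, mul_comm (X.incl s.snd),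
      u_mul_incl X u hu]
    abel

lemma Psi_apply (t : TrivSqZeroExt P L) : Psi X u hu t = u t.fst + X.incl t.snd := rfl

lemma Psi_surjective : Function.Surjective (Psi X u hu) := by
  intro e
  obtain ⟨p, hp⟩ := Ideal.Quotient.mk_surjective (X.proj e)
  have h0 : X.proj (e - u p) = 0 := by rw [map_sub, hu, hp, sub_self]
  obtain ⟨z, hz⟩ := (X.isExtension.exact _).1 h0
  refine ⟨TrivSqZeroExt.inl p + TrivSqZeroExt.inr z, ?_⟩
  rw [Psi_apply]
  simp only [TrivSqZeroExt.fst_add, TrivSqZeroExt.fst_inl, TrivSqZeroExt.fst_inr, add_zero,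
    TrivSqZeroExt.snd_add, TrivSqZeroExt.snd_inl, TrivSqZeroExt.snd_inr, zero_add]
  rw [hz]; ring

lemma Psi_eq_zero_iff (t : TrivSqZeroExt P L) :
    Psi X u hu t = 0 ↔ t.fst ∈ J ∧ u t.fst = X.incl (-t.snd) := by
  rw [Psi_apply]
  constructor
  · intro h
    have h1 : u t.fst = X.incl (-t.snd) := by
      rw [map_neg]; exact eq_neg_of_add_eq_zero_left h
    refine ⟨?_, h1⟩
    rw [← Ideal.Quotient.eq_zero_iff_mem, ← hu, h1, proj_incl]
  · rintro ⟨-, h⟩
    rw [h, map_neg, neg_add_cancel]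

end Psi

section PartB

variable {Λ : Type u} [CommRing Λ] {P : Type u} [CommRing P] [Algebra Λ P] {J : Ideal P}
  {L : Type u} [AddCommGroup L] [Module (P ⧸ J) L] [Module P L] [IsScalarTower P (P ⧸ J) L]
  (X X' : Exal.Ext Λ (P ⧸ J) L) (u : P →ₐ[Λ] X.E) (u' : P →ₐ[Λ] X'.E)
  (hu : ∀ p, X.proj (u p) = Ideal.Quotient.mk J p)
  (hu' : ∀ p, X'.proj (u' p) = Ideal.Quotient.mk J p)

include hu hu' in
lemma ker_le (h : ∀ j ∈ J, ∃ z : L, X.incl z = u j ∧ X'.incl z = u' j) :
    RingHom.ker (Psi X u hu) ≤ RingHom.ker (Psi X' u' hu') := by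
  intro t ht
  rw [RingHom.mem_ker, Psi_eq_zero_iff] at ht ⊢
  obtain ⟨z, hz1, hz2⟩ := h _ ht.1
  have hz : z = -t.snd := X.isExtension.incl_injective (hz1.trans ht.2)
  exact ⟨ht.1, by rw [← hz2, hz]⟩

include hu hu' in
theorem equiv_of_agree (h : ∀ j ∈ J, ∃ z : L, X.incl z = u j ∧ X'.incl z = u' j) :
    Nonempty (X.Equiv X') := by
  have hker : RingHom.ker (Psi X u hu) = RingHom.ker (Psi X' u' hu') := by
    refine le_antisymm (ker_le X X' u u' hu hu' h) (ker_le X' X u' u hu' hu ?_)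
    intro j hj
    obtain ⟨z, h1, h2⟩ := h j hj
    exact ⟨z, h2, h1⟩
  let φ : X.E ≃+* X'.E :=
    ((RingHom.quotientKerEquivOfSurjective (Psi_surjective X u hu)).symm.trans
      (Ideal.quotEquivOfEq hker)).trans
      (RingHom.quotientKerEquivOfSurjective (Psi_surjective X' u' hu'))
  have hφ : ∀ t, φ (Psi X u hu t) = Psi X' u' hu' t := by
    intro t
    have h1 : (RingHom.quotientKerEquivOfSurjective (Psi_surjective X u hu)).symm (Psi X u hu t)
        = Ideal.Quotient.mk _ t := by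
      rw [RingEquiv.symm_apply_eq]
      rfl
    change (RingHom.quotientKerEquivOfSurjective (Psi_surjective X' u' hu'))
      ((Ideal.quotEquivOfEq hker)
        ((RingHom.quotientKerEquivOfSurjective (Psi_surjective X u hu)).symm (Psi X u hu t))) = _
    rw [h1, Ideal.quotEquivOfEq_mk]
    rfl
  have hcomm : ∀ a : Λ, φ (algebraMap Λ X.E a) = algebraMap Λ X'.E a := by
    intro a
    have h1 : algebraMap Λ X.E a = Psi X u hu (TrivSqZeroExt.inl (algebraMap Λ P a)) := by
      rw [Psi_apply]; simp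
    have h2 : algebraMap Λ X'.E a = Psi X' u' hu' (TrivSqZeroExt.inl (algebraMap Λ P a)) := by
      rw [Psi_apply]; simp
    rw [h1, h2, hφ]
  refine ⟨⟨AlgEquiv.ofRingEquiv (f := φ) hcomm, ?_, ?_⟩⟩
  · intro x
    obtain ⟨t, rfl⟩ := Psi_surjective X u hu x
    change X'.proj (φ _) = _
    rw [hφ, Psi_apply, Psi_apply, map_add, map_add, hu, hu', proj_incl, proj_incl]
  · intro z
    have h1 : X.incl z = Psi X u hu (TrivSqZeroExt.inr z) := by
      rw [Psi_apply]; simp
    have h2 : X'.incl z = Psi X' u' hu' (TrivSqZeroExt.inr z) := by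
      rw [Psi_apply]; simp
    change φ _ = _
    rw [h1, h2, hφ]

include hu hu' in
theorem agree_of_equiv (I : Ideal P) (hI : ∀ a ∈ I, ∀ z : L, a • z = 0) (hJ : J ≤ I ^ 2)
    (e : X.Equiv X') : ∀ j ∈ J, ∃ z : L, X.incl z = u j ∧ X'.incl z = u' j := by
  have hdiff : ∀ p : P, ∃ z : L, e.toAlgEquiv (u p) = u' p + X'.incl z := by
    intro p
    have h0 : X'.proj (e.toAlgEquiv (u p) - u' p) = 0 := by
      rw [map_sub, e.proj_apply, hu, hu', sub_self]
    obtain ⟨z, hz⟩ := (X'.isExtension.exact _).1 h0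
    exact ⟨z, by rw [hz]; ring⟩
  have hsq : ∀ p ∈ I ^ 2, e.toAlgEquiv (u p) = u' p := by
    intro p hp
    rw [pow_two] at hp
    refine Submodule.mul_induction_on hp ?_ ?_
    · intro a ha b hb
      obtain ⟨za, hza⟩ := hdiff a
      obtain ⟨zb, hzb⟩ := hdiff b
      rw [map_mul, map_mul, hza, hzb, map_mul, add_mul, mul_add, mul_add, incl_mul_incl,
        u_mul_incl X' u' hu', mul_comm (X'.incl za), u_mul_incl X' u' hu', hI a ha, hI b hb,
        map_zero]
      ring
    · intro x y hx hy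
      rw [map_add, map_add, hx, hy, map_add]
  intro j hj
  have h0 : X.proj (u j) = 0 := by rw [hu]; exact Ideal.Quotient.eq_zero_iff_mem.2 hj
  obtain ⟨z, hz⟩ := (X.isExtension.exact _).1 h0
  refine ⟨z, hz, ?_⟩
  rw [← e.apply_incl, hz, hsq j (hJ hj)]

end PartB

section PartC

variable {Λ : Type u} [CommRing Λ] {P : Type u} [CommRing P] [Algebra Λ P] {J : Ideal P}
  {L : Type u} [AddCommGroup L] [Module (P ⧸ J) L] [Module P L] [IsScalarTower P (P ⧸ J) L]
  (δ : J →ₗ[P] L)

lemma smul_eq_zero_of_mem {j : P} (hj : j ∈ J) (z : L) : j • z = 0 := by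
  rw [← mk_smul (J := J), Ideal.Quotient.eq_zero_iff_mem.2 hj, zero_smul]

/-- the graph ideal of `-δ` -/
def K : Ideal (TrivSqZeroExt P L) where
  carrier := {t | ∃ j : J, t = TrivSqZeroExt.inl (j : P) + TrivSqZeroExt.inr (-δ j)}
  zero_mem' := ⟨0, by simp⟩
  add_mem' := by
    rintro _ _ ⟨j, rfl⟩ ⟨j', rfl⟩
    refine ⟨j + j', ?_⟩
    ext <;> simp [neg_add]
    abel
  smul_mem' := by
    rintro c _ ⟨j, rfl⟩
    refine ⟨c.fst • j, ?_⟩
    ext
    · simp
    · simp only [smul_eq_mul, TrivSqZeroExt.snd_mul, TrivSqZeroExt.snd_add, TrivSqZeroExt.snd_inl,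
        TrivSqZeroExt.snd_inr, zero_add, TrivSqZeroExt.fst_add, TrivSqZeroExt.fst_inl,
        TrivSqZeroExt.fst_inr, add_zero, op_smul_eq_smul, map_smul, smul_neg]
      rw [smul_eq_zero_of_mem j.2, add_zero]

lemma mem_K (t : TrivSqZeroExt P L) :
    t ∈ K δ ↔ ∃ j : J, t = TrivSqZeroExt.inl (j : P) + TrivSqZeroExt.inr (-δ j) := Iff.rfl

/-- first projection as a ring hom -/
def fstRingHom : TrivSqZeroExt P L →+* P where
  toFun := TrivSqZeroExt.fst
  map_one' := TrivSqZeroExt.fst_one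
  map_mul' := TrivSqZeroExt.fst_mul
  map_zero' := TrivSqZeroExt.fst_zero
  map_add' := TrivSqZeroExt.fst_add

/-- algebra structure on the quotient -/
noncomputable def algE : Algebra Λ (TrivSqZeroExt P L ⧸ K δ) :=
  ((Ideal.Quotient.mk (K δ)).comp ((TrivSqZeroExt.inlHom P L).comp (algebraMap Λ P))).toAlgebra

/-- the projection ring hom -/
noncomputable def projRing : TrivSqZeroExt P L ⧸ K δ →+* P ⧸ J :=
  Ideal.Quotient.lift (K δ) ((Ideal.Quotient.mk J).comp fstRingHom) (by
    rintro _ ⟨j, rfl⟩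
    change Ideal.Quotient.mk J (TrivSqZeroExt.fst _) = 0
    simp only [TrivSqZeroExt.fst_add, TrivSqZeroExt.fst_inl, TrivSqZeroExt.fst_inr, add_zero]
    exact Ideal.Quotient.eq_zero_iff_mem.2 j.2)

lemma projRing_mk (t : TrivSqZeroExt P L) :
    projRing δ (Ideal.Quotient.mk (K δ) t) = Ideal.Quotient.mk J t.fst := rfl

/-- the inclusion -/
noncomputable def inclE : L →+ TrivSqZeroExt P L ⧸ K δ :=
  (Ideal.Quotient.mk (K δ)).toAddMonoidHom.comp (TrivSqZeroExt.inrHom P L).toAddMonoidHom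

lemma inclE_apply (z : L) : inclE δ z = Ideal.Quotient.mk (K δ) (TrivSqZeroExt.inr z) := rfl

/-- the extension attached to `δ` -/
noncomputable def extOf : Exal.Ext Λ (P ⧸ J) L :=
  letI := algE (Λ := Λ) δ
  { E := TrivSqZeroExt P L ⧸ K δ
    proj := { projRing δ with commutes' := fun a => rfl }
    incl := inclE δ
    isExtension :=
      { proj_surjective := by
          intro b
          obtain ⟨p, rfl⟩ := Ideal.Quotient.mk_surjective b
          exact ⟨Ideal.Quotient.mk (K δ) (TrivSqZeroExt.inl p), rfl⟩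
        incl_injective := by
          rw [injective_iff_map_eq_zero]
          intro z hz
          rw [inclE_apply, Ideal.Quotient.eq_zero_iff_mem, mem_K] at hz
          obtain ⟨j, hj⟩ := hz
          have h1 := congrArg TrivSqZeroExt.fst hj
          have h2 := congrArg TrivSqZeroExt.snd hj
          simp only [TrivSqZeroExt.fst_inr, TrivSqZeroExt.fst_add, TrivSqZeroExt.fst_inl,
            add_zero] at h1
          simp only [TrivSqZeroExt.snd_inr, TrivSqZeroExt.snd_add, TrivSqZeroExt.snd_inl,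
            zero_add] at h2
          have hj0 : j = 0 := Subtype.ext h1.symm
          rw [h2, hj0, map_zero, neg_zero]
        exact := by
          intro x
          obtain ⟨t, rfl⟩ := Ideal.Quotient.mk_surjective x
          change projRing δ _ = 0 ↔ _
          rw [projRing_mk, Ideal.Quotient.eq_zero_iff_mem]
          constructor
          · intro ht
            refine ⟨t.snd + δ ⟨t.fst, ht⟩, ?_⟩
            change inclE δ _ = _
            rw [inclE_apply]
            symm
            rw [Ideal.Quotient.eq, mem_K]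
            refine ⟨⟨t.fst, ht⟩, ?_⟩
            ext <;> simp
          · rintro ⟨z, hz⟩
            change inclE δ z = _ at hz
            rw [inclE_apply, Ideal.Quotient.eq, mem_K] at hz
            obtain ⟨j, hj⟩ := hz
            have h1 := congrArg TrivSqZeroExt.fst hj
            simp only [TrivSqZeroExt.fst_sub, TrivSqZeroExt.fst_inr, zero_sub,
              TrivSqZeroExt.fst_add, TrivSqZeroExt.fst_inl, add_zero] at h1
            have : t.fst = -(j : P) := by rw [← h1, neg_neg]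
            rw [this]
            exact J.neg_mem j.2
        mul_incl := by
          intro x z
          obtain ⟨t, rfl⟩ := Ideal.Quotient.mk_surjective x
          change _ * inclE δ z = inclE δ (projRing δ _ • z)
          rw [projRing_mk, mk_smul, inclE_apply, inclE_apply, ← map_mul]
          congr 1
          ext <;> simp } }

end PartC

section Main

open IsLocalRing

variable {Λ : Type u} [CommRing Λ] [IsLocalRing Λ] [IsNoetherianRing Λ]
  [IsAdicComplete (IsLocalRing.maximalIdeal Λ) Λ]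
  (d : ℕ) (J : Ideal (MvPowerSeries (Fin d) Λ))
  (hJ : J ≤ Ideal.span (Set.range (MvPowerSeries.X : Fin d → MvPowerSeries (Fin d) Λ)) ^ 2)
  (L : Type u) [AddCommGroup L] [Module (MvPowerSeries (Fin d) Λ ⧸ J) L]
  [Module (MvPowerSeries (Fin d) Λ) L]
  [IsScalarTower (MvPowerSeries (Fin d) Λ) (MvPowerSeries (Fin d) Λ ⧸ J) L]
  [IsSimpleModule (MvPowerSeries (Fin d) Λ ⧸ J) L]

lemma span_X_le :
    Ideal.span (Set.range (MvPowerSeries.X : Fin d → MvPowerSeries (Fin d) Λ)) ≤
      maximalIdeal (MvPowerSeries (Fin d) Λ) := by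
  rw [Ideal.span_le]
  rintro _ ⟨s, rfl⟩
  change MvPowerSeries.X s ∈ maximalIdeal _
  rw [IsLocalRing.mem_maximalIdeal, mem_nonunits_iff, MvPowerSeries.isUnit_iff_constantCoeff]
  simp

include hJ in
lemma J_le_max : J ≤ maximalIdeal (MvPowerSeries (Fin d) Λ) :=
  hJ.trans ((Ideal.pow_le_self (by norm_num)).trans (span_X_le d))

include hJ in
lemma J_ne_top : J ≠ ⊤ := fun h => by
  have := J_le_max d J hJ
  rw [h, top_le_iff] at this
  exact (IsLocalRing.maximalIdeal.isMaximal _).ne_top this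

include hJ in
lemma isLocalRing_quot : IsLocalRing (MvPowerSeries (Fin d) Λ ⧸ J) := by
  haveI : Nontrivial (MvPowerSeries (Fin d) Λ ⧸ J) := Ideal.Quotient.nontrivial_iff.2 (J_ne_top d J hJ)
  exact IsLocalRing.of_surjective' (Ideal.Quotient.mk J) Ideal.Quotient.mk_surjective

include hJ in
lemma smul_eq_zero_of_mem_span_X {a : MvPowerSeries (Fin d) Λ}
    (ha : a ∈ Ideal.span (Set.range (MvPowerSeries.X : Fin d → MvPowerSeries (Fin d) Λ))) (z : L) :
    a • z = 0 := by
  haveI := isLocalRing_quot d J hJ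
  rw [← mk_smul (J := J)]
  have hmax : (Module.annihilator (MvPowerSeries (Fin d) Λ ⧸ J) L).IsMaximal :=
    IsSimpleModule.annihilator_isMaximal
  have h1 : Module.annihilator (MvPowerSeries (Fin d) Λ ⧸ J) L =
      maximalIdeal (MvPowerSeries (Fin d) Λ ⧸ J) := IsLocalRing.eq_maximalIdeal hmax
  have h2 : Ideal.Quotient.mk J a ∈ maximalIdeal (MvPowerSeries (Fin d) Λ ⧸ J) := by
    rw [IsLocalRing.mem_maximalIdeal, mem_nonunits_iff]
    intro hunit
    have hloc : IsLocalHom (Ideal.Quotient.mk J) :=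
      IsLocalHom.of_surjective _ Ideal.Quotient.mk_surjective
    have := hloc.map_nonunit a hunit
    exact (IsLocalRing.mem_maximalIdeal _).1 (span_X_le d ha) this
  rw [← h1] at h2
  exact Module.mem_annihilator.1 h2 z

include hJ in
theorem exists_lift (X : Exal.Ext Λ (MvPowerSeries (Fin d) Λ ⧸ J) L) :
    ∃ u : MvPowerSeries (Fin d) Λ →ₐ[Λ] X.E, ∀ p, X.proj (u p) = Ideal.Quotient.mk J p := by
  haveI := isLocalRing_quot d J hJ
  haveI : IsAdicComplete (maximalIdeal (MvPowerSeries (Fin d) Λ)) (MvPowerSeries (Fin d) Λ) :=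
    Groth.Agent.Lib.Helper19.isAdicComplete_mvPowerSeries
  haveI : IsAdicComplete (maximalIdeal (MvPowerSeries (Fin d) Λ ⧸ J)) (MvPowerSeries (Fin d) Λ ⧸ J) :=
    Groth.Agent.Lib.Helper28.isAdicComplete_quotient_local J
  have hker : ∀ x : X.E, x ∈ RingHom.ker X.proj.toRingHom ↔ ∃ z, X.incl z = x := by
    intro x
    rw [RingHom.mem_ker]
    exact X.isExtension.exact x
  have hsq : RingHom.ker X.proj.toRingHom ^ 2 = ⊥ := by
    rw [eq_bot_iff, pow_two, Ideal.mul_le]
    intro a ha b hb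
    obtain ⟨z, rfl⟩ := (hker a).1 ha
    obtain ⟨z', rfl⟩ := (hker b).1 hb
    rw [incl_mul_incl]
    exact Ideal.zero_mem _
  have hfg : (RingHom.ker X.proj.toRingHom).FG := by
    haveI := IsSimpleModule.nontrivial (MvPowerSeries (Fin d) Λ ⧸ J) L
    obtain ⟨z₀, hz₀⟩ := exists_ne (0 : L)
    refine ⟨{X.incl z₀}, ?_⟩
    rw [Finset.coe_singleton]
    refine le_antisymm ?_ ?_
    · rw [Ideal.span_le, Set.singleton_subset_iff]
      exact (hker _).2 ⟨z₀, rfl⟩
    · intro x hx
      obtain ⟨z, rfl⟩ := (hker x).1 hx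
      obtain ⟨r, hr⟩ := IsSimpleModule.toSpanSingleton_surjective (MvPowerSeries (Fin d) Λ ⧸ J) hz₀ z
      obtain ⟨e, rfl⟩ := X.isExtension.proj_surjective r
      rw [LinearMap.toSpanSingleton_apply] at hr
      rw [← hr, ← X.isExtension.mul_incl]
      exact Ideal.mul_mem_left _ _ (Ideal.subset_span rfl)
  obtain ⟨l, hl⟩ := Groth.Agent.Lib.Helper19.exists_mvPowerSeries_lift_of_sqZero
    (Ideal.Quotient.mkₐ Λ J) (Ideal.Quotient.mkₐ_surjective Λ J) X.proj
    X.isExtension.proj_surjective hsq hfg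
  exact ⟨l, fun p => AlgHom.congr_fun hl p⟩

include hJ in
theorem main :
    (∀ X : Exal.Ext Λ (MvPowerSeries (Fin d) Λ ⧸ J) L,
        ∃ u : MvPowerSeries (Fin d) Λ →ₐ[Λ] X.E, ∀ p, X.proj (u p) = Ideal.Quotient.mk J p) ∧
    (∀ (X X' : Exal.Ext Λ (MvPowerSeries (Fin d) Λ ⧸ J) L) (u : MvPowerSeries (Fin d) Λ →ₐ[Λ] X.E) (u' : MvPowerSeries (Fin d) Λ →ₐ[Λ] X'.E),
        (∀ p, X.proj (u p) = Ideal.Quotient.mk J p) → (∀ p, X'.proj (u' p) = Ideal.Quotient.mk J p) →
        (Nonempty (X.Equiv X') ↔ ∀ j ∈ J, ∃ z : L, X.incl z = u j ∧ X'.incl z = u' j)) ∧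
    (∀ δ : J →ₗ[MvPowerSeries (Fin d) Λ] L, ∃ (X : Exal.Ext Λ (MvPowerSeries (Fin d) Λ ⧸ J) L) (u : MvPowerSeries (Fin d) Λ →ₐ[Λ] X.E),
        (∀ p, X.proj (u p) = Ideal.Quotient.mk J p) ∧ ∀ j : J, X.incl (δ j) = u j) := by
  refine ⟨exists_lift d J hJ L, ?_, ?_⟩
  · intro X X' u u' hu hu'
    constructor
    · rintro ⟨e⟩
      exact agree_of_equiv X X' u u' hu hu' _ (fun a ha z => smul_eq_zero_of_mem_span_X d J hJ L ha z)
        hJ e
    · exact equiv_of_agree X X' u u' hu hu'
  · intro δ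
    letI := algE (Λ := Λ) δ
    refine ⟨extOf δ, ?_⟩
    let u : MvPowerSeries (Fin d) Λ →ₐ[Λ] (extOf (Λ := Λ) δ).E :=
      { (Ideal.Quotient.mk (K δ)).comp (TrivSqZeroExt.inlHom _ L) with commutes' := fun a => rfl }
    refine ⟨u, fun p => rfl, fun j => ?_⟩
    change inclE δ (δ j) = Ideal.Quotient.mk (K δ) (TrivSqZeroExt.inl (j : MvPowerSeries (Fin d) Λ))
    rw [inclE_apply]
    symm
    rw [Ideal.Quotient.eq, mem_K]
    refine ⟨j, ?_⟩
    ext <;> simp

end Main

end Groth.Agent.Lib.R2LeadExalPS
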