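import Mathlib
import Groth.Prelude
import Groth.Agent.Lib.Helper8CanonFib4
import Groth.Agent.Lib.R2LeadGenDual
import Groth.Agent.Lib.R2LeadLFHart

set_option backward.isDefEq.respectTransparency.types false
set_option autoImplicit false
set_option linter.style.haveILetI false
set_option linter.unusedSectionVars false
universe u

open CategoryTheory CategoryTheory.Limits AlgebraicGeometry TopologicalSpace Opposite

namespace Groth.Agent.Lib.R2LeadExtPowGen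

open Groth.Agent.Lib.R2H2.DetTriv Groth.Agent.Lib.Helper8CanonFib3 Groth.Agent.Lib.Helper8CanonFib4
open Groth.Agent.Lib.Helper23.SecTw Groth.Agent.Lib.Helper23.GenLocus Groth.Agent.Lib.Helper6
  Groth.Agent.Lib.Helper23.Extend

variable {X : Scheme.{u}}

/-- local form of helper8's `isInvertible_of_isExtPow`: the top exterior power of a module which is
free of rank `n` near `x` has a generator near `x`. -/
theorem exists_isGen_of_isExtPow (E ω : X.Modules) (n : ℕ) (hω : ExtPow.IsExtPow n E ω) (x : X)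
    (T : X.Opens) (hxT : x ∈ T) (ε : E.restrict T.ι ≅ FlatMod.freeMod (↑T : Scheme.{u}) n) :
    ∃ (W : X.Opens) (σ : Γ(ω, W)), x ∈ W ∧ IsGen ω W σ := by
  obtain ⟨D⟩ := nonempty_EPData hω
  obtain ⟨W, hW', hxW, hWT⟩ : ∃ W : X.Opens, W ∈ X.affineOpens ∧ x ∈ W ∧ W ≤ T :=
    (Opens.isBasis_iff_nbhd.1 X.isBasis_affineOpens) hxT
  have hW : IsAffineOpen W := hW'
  obtain ⟨ε'⟩ := Groth.Agent.Lib.Helper1.FLF.nonempty_restrict_iso_freeMod_of_le E hWT ε
  let s : Fin n → (Coh.structureModule (↑W : Scheme.{u}) ⟶ E.restrict W.ι) :=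
    fun j => inj n j ≫ ε'.inv
  have hfr : frame s = ε'.inv := by
    apply Sigma.hom_ext
    intro j
    rw [inj_frame]
  haveI : IsIso (frame s) := by rw [hfr]; infer_instance
  have hW₀ : IsAffineOpen (W.ι ''ᵁ ⊤) := by
    have : W.ι ''ᵁ ⊤ = W := by simp
    rw [this]; exact hW
  let b₀ : Fin n → E.val.obj (op (W.ι ''ᵁ ⊤)) := fun j => secs s ⊤ j
  let σ : Γ(ω, W.ι ''ᵁ ⊤) := (D.φ ⟨W.ι ''ᵁ ⊤, hW₀⟩).symm (exteriorPower.ιMulti _ n b₀)
  refine ⟨W.ι ''ᵁ ⊤, σ, ⟨⟨x, hxW⟩, trivial, rfl⟩,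
    Groth.Agent.Lib.Helper23.PB.isGen_of_affine ω _ σ (fun A hA hAaff => ?_)⟩
  obtain ⟨A', rfl⟩ : ∃ A' : (↑W : Scheme.{u}).Opens, A = W.ι ''ᵁ A' :=
    ⟨W.ι ⁻¹ᵁ A, (Groth.Agent.Lib.Helper23.RestrJ.image_preimage_of_le W.ι
      (hA.trans (by simp))).symm⟩
  let bA : Fin n → E.val.obj (op (W.ι ''ᵁ A')) := fun j => secs s A' j
  have h1 : res ω hA σ = (D.φ ⟨W.ι ''ᵁ A', hAaff⟩).symm (exteriorPower.ιMulti _ n bA) := by
    have h2 := D.compat ⟨W.ι ''ᵁ ⊤, hW₀⟩ ⟨W.ι ''ᵁ A', hAaff⟩ hA b₀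
    refine h2.trans ?_
    congr 2
    funext j
    exact secs_map s (le_top : A' ≤ ⊤) j
  obtain ⟨hli, hsp⟩ := secs_isBasis_of_isIso_frame s A'
  have hli' : @LinearIndependent (Fin n) Γ(X, W.ι ''ᵁ A') (E.val.obj (op (W.ι ''ᵁ A'))) bA _ _
      (ExtPow.secModule E (W.ι ''ᵁ A')) := by
    rw [← secModule_restrict_eq E W A']
    exact hli
  have hsp' : @Submodule.span Γ(X, W.ι ''ᵁ A') (E.val.obj (op (W.ι ''ᵁ A'))) _ _
      (ExtPow.secModule E (W.ι ''ᵁ A')) (Set.range bA) = ⊤ := by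
    rw [← secModule_restrict_eq E W A']
    exact hsp
  let b : Module.Basis (Fin n) Γ(X, W.ι ''ᵁ A') (E.val.obj (op (W.ι ''ᵁ A'))) :=
    Module.Basis.mk hli' (le_of_eq hsp'.symm)
  have hb : ⇑b = bA := Module.Basis.coe_mk hli' _
  have h3 := bijective_smul_wedge n b
  rw [hb] at h3
  have h4 : (fun r : Γ(X, W.ι ''ᵁ A') => r • res ω hA σ) =
      (D.φ ⟨W.ι ''ᵁ A', hAaff⟩).symm ∘
        (fun r : Γ(X, W.ι ''ᵁ A') => r • exteriorPower.ιMulti Γ(X, W.ι ''ᵁ A') n bA) := by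
    funext r
    rw [h1]
    exact ((D.φ ⟨W.ι ''ᵁ A', hAaff⟩).symm.map_smul r _).symm
  rw [h4]
  exact (D.φ ⟨W.ι ''ᵁ A', hAaff⟩).symm.bijective.comp h3

/-- trivialisations over opens of an open subscheme give trivialisations over opens. -/
theorem exists_restrict_iso_freeMod_of_restrict (M : X.Modules) (U : X.Opens) (n : ℕ)
    (hM : FlatMod.IsFinLocFreeOfRank n (M.restrict U.ι)) (x : X) (hx : x ∈ U) :
    ∃ T : X.Opens, x ∈ T ∧ Nonempty (M.restrict T.ι ≅ FlatMod.freeMod (↑T : Scheme.{u}) n) := by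
  obtain ⟨T, hyT, ⟨e⟩⟩ := hM ⟨x, hx⟩
  let g : (↑T : Scheme.{u}) ⟶ X := T.ι ≫ U.ι
  have e1 : M.restrict g ≅ FlatMod.freeMod (↑T : Scheme.{u}) n :=
    (Scheme.Modules.restrictFunctorComp T.ι U.ι).app M ≪≫ e
  refine ⟨g.opensRange, ⟨⟨⟨x, hx⟩, hyT⟩, rfl⟩, ⟨?_⟩⟩
  exact (Scheme.Modules.restrictFunctorCongr g.isoOpensRange_inv_comp.symm).app M ≪≫
    (Scheme.Modules.restrictFunctorComp g.isoOpensRange.inv g).app M ≪≫
    (Scheme.Modules.restrictFunctor g.isoOpensRange.inv).mapIso e1 ≪≫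
    Groth.Agent.Lib.Helper20.LocFree.restrictFreeMod g.isoOpensRange.inv n

theorem main
    (k : Type u) [Field k] (X S : Scheme.{u})
    (a : X ⟶ Spec (CommRingCat.of k)) (b : S ⟶ Spec (CommRingCat.of k))
    [Smooth a] [IsLocallyNoetherian S]
    (F : (pullback a b).Modules)
    (h : ℕ) (U : (pullback a b).Opens)
    (hU : ∀ x : ↥(pullback a b), x ∉ U →
      (2 : WithBot ℕ∞) ≤ ringKrullDim ↑(CInt.fiberStalk (pullback.snd a b) x))
    (hFU : FlatMod.IsFinLocFreeOfRank h (F.restrict U.ι))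
    (L : (pullback a b).Modules) (hL : ExtPow.IsExtPow h F L) :
    IsIso ((Scheme.Modules.restrictAdjunction U.ι).unit.app (RefHull.ddual L)) ∧
      IsIso ((Scheme.Modules.restrictFunctor U.ι).map (RefHull.bidualMap L)) := by
  haveI : Smooth (pullback.snd a b) :=
    MorphismProperty.pullback_snd (P := @Smooth) a b inferInstance
  haveI : IsLocallyNoetherian (pullback a b) :=
    LocallyOfFiniteType.isLocallyNoetherian (pullback.snd a b)
  refine ⟨?_, ?_⟩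
  · exact Groth.Agent.Lib.R2LeadQGorHart.isIso_unit_ddual U
      (fun y hy => Groth.Agent.Lib.R2LeadLFHart.two_le_depth_of_smooth (pullback.snd a b) y
        (hU y hy)) L
  · refine Groth.Agent.Lib.R2LeadGenDual.isIso_restrict_bidualMap L U (fun x hx => ?_)
    obtain ⟨T, hxT, ⟨ε⟩⟩ := exists_restrict_iso_freeMod_of_restrict F U h hFU x hx
    exact exists_isGen_of_isExtPow F L h hL x T hxT ε

end Groth.Agent.Lib.R2LeadExtPowGen
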