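import Groth.Agent.Lib.R2LeadExtSum4
universe u
open ExteriorAlgebra

namespace Groth.Agent.Lib.R2LeadExtSum

section free
variable {R : Type u} [CommRing R] {M : Type u} [AddCommGroup M] [Module R M]

instance uniquePowersetCard (n : ℕ) : Unique (Set.powersetCard (Fin n) n) where
  default := ⟨Finset.univ, by simp [Set.powersetCard]⟩
  uniq := by
    rintro ⟨s, hs⟩
    apply Subtype.ext
    have hs' : s.card = n := hs
    exact Finset.eq_univ_of_card s (by simpa using hs')

lemma isEmpty_powersetCard (n m : ℕ) (h : n < m) : IsEmpty (Set.powersetCard (Fin n) m) := by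
  constructor
  rintro ⟨s, hs⟩
  have hs' : s.card = m := hs
  have := Finset.card_le_univ s
  simp at this
  omega

/-- top exterior power of a free module with a basis indexed by `Fin n` -/
noncomputable def extTopEquiv {n : ℕ} (b : Module.Basis (Fin n) R M) : ⋀[R]^n M ≃ₗ[R] R :=
  (b.exteriorPower n).repr ≪≫ₗ Finsupp.uniqueLinearEquiv R R default

lemma extPow_eq_bot {n : ℕ} (b : Module.Basis (Fin n) R M) (m : ℕ) (h : n < m) :
    VF (B := R) M ^ m = ⊥ := by
  have := isEmpty_powersetCard n m h
  have h1 : Subsingleton (⋀[R]^m M) := (b.exteriorPower m).repr.toEquiv.subsingleton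
  rw [eq_bot_iff]
  intro x hx
  have : (⟨x, hx⟩ : ⋀[R]^m M) = 0 := Subsingleton.elim _ _
  rw [Submodule.mem_bot]
  exact congrArg Subtype.val this

end free

lemma exists_factor {R M N N' : Type*} [CommRing R] [AddCommGroup M] [AddCommGroup N]
    [AddCommGroup N'] [Module R M] [Module R N] [Module R N']
    (π : M →ₗ[R] N) (hπ : Function.Surjective π) (e : M →ₗ[R] N')
    (h : LinearMap.ker π ≤ LinearMap.ker e) :
    ∃ s : N →ₗ[R] N', s ∘ₗ π = e := by
  refine ⟨(Submodule.liftQ _ e h) ∘ₗ (π.quotKerEquivOfSurjective hπ).symm.toLinearMap, ?_⟩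
  ext v
  have : (π.quotKerEquivOfSurjective hπ).symm (π v) = Submodule.Quotient.mk v := by
    rw [LinearEquiv.symm_apply_eq]
    rfl
  simp [this]

end Groth.Agent.Lib.R2LeadExtSum
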