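import Mathlib

/-!
# Exterior powers over `A` of a free module over a quotient `A ⧸ 𝔞` (lead)
-/

set_option autoImplicit false
open exteriorPower

namespace Groth.Agent.Lib.R2LeadKzExtPow

universe u v

variable {A : Type u} [CommRing A] (𝔞 : Ideal A)
  (N : Type v) [AddCommGroup N] [Module A N] [Module (A ⧸ 𝔞) N] [IsScalarTower A (A ⧸ 𝔞) N]
  (n : ℕ)

/-- `ιMulti` over the quotient ring, as an `A`-alternating map. -/
noncomputable def ιA : N [⋀^Fin n]→ₗ[A] (⋀[A ⧸ 𝔞]^n N) :=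
  { (ιMulti (A ⧸ 𝔞) n (M := N)).toMultilinearMap.restrictScalars A with
    map_eq_zero_of_eq' := (ιMulti (A ⧸ 𝔞) n (M := N)).map_eq_zero_of_eq' }

lemma ιA_apply (m : Fin n → N) : ιA 𝔞 N n m = ιMulti (A ⧸ 𝔞) n m := rfl

/-- the comparison map. -/
noncomputable def toB : ⋀[A]^n N →ₗ[A] ⋀[A ⧸ 𝔞]^n N :=
  alternatingMapLinearEquiv (ιA 𝔞 N n)

lemma toB_ιMulti (m : Fin n → N) : toB 𝔞 N n (ιMulti A n m) = ιMulti (A ⧸ 𝔞) n m := by
  rw [toB, alternatingMapLinearEquiv_apply_ιMulti, ιA_apply]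

lemma toB_surjective : Function.Surjective (toB 𝔞 N n) := by
  rw [← LinearMap.range_eq_top, eq_top_iff]
  have h1 : Submodule.span A (Set.range (ιMulti (A ⧸ 𝔞) n (M := N))) ≤
      LinearMap.range (toB 𝔞 N n) := by
    rw [Submodule.span_le]
    rintro _ ⟨m, rfl⟩
    exact ⟨ιMulti A n m, toB_ιMulti 𝔞 N n m⟩
  refine le_trans ?_ h1
  rw [← Submodule.restrictScalars_span A (A ⧸ 𝔞) Ideal.Quotient.mk_surjective, ιMulti_span]
  exact le_of_eq rfl

variable {n}

lemma torsion (hn : 1 ≤ n) : Module.IsTorsionBySet A (⋀[A]^n N) (𝔞 : Set A) := by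
  intro x a
  have hx : x ∈ (⊤ : Submodule A (⋀[A]^n N)) := Submodule.mem_top
  rw [← ιMulti_span] at hx
  induction hx using Submodule.span_induction with
  | mem y hy =>
    obtain ⟨m, rfl⟩ := hy
    have h0 : (⟨0, hn⟩ : Fin n) = ⟨0, hn⟩ := rfl
    have key : (a : A) • ιMulti A n m =
        ιMulti A n (Function.update m ⟨0, hn⟩ ((a : A) • m ⟨0, hn⟩)) := by
      rw [AlternatingMap.map_update_smul, Function.update_eq_self]
    rw [key]
    have ha : (a : A) • m ⟨0, hn⟩ = 0 := by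
      rw [← algebraMap_smul (A ⧸ 𝔞) (a : A) (m ⟨0, hn⟩)]
      have : algebraMap A (A ⧸ 𝔞) (a : A) = 0 := Ideal.Quotient.eq_zero_iff_mem.mpr a.2
      rw [this, zero_smul]
    rw [ha]
    exact AlternatingMap.map_update_zero _ _ _
  | zero => simp
  | add y z _ _ hy hz => rw [smul_add, hy, hz, add_zero]
  | smul c y _ hy => rw [smul_comm, hy, smul_zero]

/-- `ιMulti` over `A`, as an alternating map over the quotient ring. -/
noncomputable def ιB (hn : 1 ≤ n) :
    letI := (torsion 𝔞 N hn).module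
    N [⋀^Fin n]→ₗ[A ⧸ 𝔞] (⋀[A]^n N) :=
  letI := (torsion 𝔞 N hn).module
  { toFun := ιMulti A n
    map_update_add' := fun m i x y => (ιMulti A n).map_update_add m i x y
    map_update_smul' := fun m i c x => by
      obtain ⟨a, rfl⟩ := Ideal.Quotient.mk_surjective c
      have h1 : (Ideal.Quotient.mk 𝔞 a) • x = a • x := by
        rw [← algebraMap_smul (A ⧸ 𝔞) a x]; rfl
      rw [h1, (ιMulti A n).map_update_smul]
      rfl
    map_eq_zero_of_eq' := (ιMulti A n).map_eq_zero_of_eq' }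

theorem toB_injective (hn : 1 ≤ n) : Function.Injective (toB 𝔞 N n) := by
  letI := (torsion 𝔞 N hn).module
  let fromB : ⋀[A ⧸ 𝔞]^n N →ₗ[A ⧸ 𝔞] ⋀[A]^n N := alternatingMapLinearEquiv (ιB 𝔞 N hn)
  have hfrom : ∀ m : Fin n → N, fromB (ιMulti (A ⧸ 𝔞) n m) = ιMulti A n m := fun m => by
    rw [alternatingMapLinearEquiv_apply_ιMulti]; rfl
  have hcomp : ∀ x : ⋀[A]^n N, fromB (toB 𝔞 N n x) = x := by
    intro x
    have hx : x ∈ (⊤ : Submodule A (⋀[A]^n N)) := Submodule.mem_top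
    rw [← ιMulti_span] at hx
    induction hx using Submodule.span_induction with
    | mem y hy =>
      obtain ⟨m, rfl⟩ := hy
      rw [toB_ιMulti, hfrom]
    | zero => simp
    | add y z _ _ hy hz => rw [map_add, map_add, hy, hz]
    | smul c y _ hy =>
      rw [map_smul, ← algebraMap_smul (A ⧸ 𝔞) c (toB 𝔞 N n y), map_smul, hy]
      rfl
  exact Function.LeftInverse.injective hcomp

/-- change of rings for exterior powers along a quotient map, in positive degree. -/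
noncomputable def equivB (hn : 1 ≤ n) : ⋀[A]^n N ≃ₗ[A] ⋀[A ⧸ 𝔞]^n N :=
  LinearEquiv.ofBijective (toB 𝔞 N n) ⟨toB_injective 𝔞 N hn, toB_surjective 𝔞 N n⟩

/-- exterior powers of a linear equivalence -/
noncomputable def mapEquiv {R : Type*} [CommRing R] {M M' : Type*} [AddCommGroup M] [Module R M]
    [AddCommGroup M'] [Module R M'] (e : M ≃ₗ[R] M') (n : ℕ) : ⋀[R]^n M ≃ₗ[R] ⋀[R]^n M' :=
  LinearEquiv.ofLinear (exteriorPower.map n e.toLinearMap) (exteriorPower.map n e.symm.toLinearMap)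
    (by rw [← exteriorPower.map_comp]; simp)
    (by rw [← exteriorPower.map_comp]; simp)

/-- the exterior power of a finite free module over `A ⧸ 𝔞`, over `A`. -/
theorem nonempty_extPow_equiv (r : ℕ) (hn : 1 ≤ n) :
    Nonempty (⋀[A]^n (Fin r → A ⧸ 𝔞) ≃ₗ[A] (Fin (r.choose n) → A ⧸ 𝔞)) := by
  let b := (Pi.basisFun (A ⧸ 𝔞) (Fin r)).exteriorPower (n := n)
  have hcard : Fintype.card (Set.powersetCard (Fin r) n) = r.choose n := by
    rw [← Nat.card_eq_fintype_card, Set.powersetCard.card, Nat.card_eq_fintype_card,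
      Fintype.card_fin]
  let σ : Set.powersetCard (Fin r) n ≃ Fin (r.choose n) := Fintype.equivFinOfCardEq hcard
  let e2 : ⋀[A ⧸ 𝔞]^n (Fin r → A ⧸ 𝔞) ≃ₗ[A ⧸ 𝔞] (Fin (r.choose n) → A ⧸ 𝔞) :=
    b.equivFun.trans (LinearEquiv.funCongrLeft (A ⧸ 𝔞) (A ⧸ 𝔞) σ.symm)
  exact ⟨(equivB 𝔞 (Fin r → A ⧸ 𝔞) hn).trans (e2.restrictScalars A)⟩

end Groth.Agent.Lib.R2LeadKzExtPow
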