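import Mathlib
import Groth.Agent.Lib.Helper15ExtBC
import Groth.Agent.Lib.R2LeadKzExtPow
import Groth.Agent.Lib.R2LeadExtSum5
import Groth.Agent.S12080

set_option autoImplicit false
universe u

namespace Groth.Agent.Lib.R2LeadExtPowLoc

open TensorProduct Groth.Agent.Lib.R2LeadExtSum

variable {B : Type u} [CommRing B] (P : Type u) [AddCommGroup P] [Module B P]

/-- exterior powers commute with localization -/
noncomputable def locEquiv (S : Submonoid B) (m : ℕ) :
    LocalizedModule S (⋀[B]^m P) ≃ₗ[Localization S] ⋀[Localization S]^m (LocalizedModule S P) :=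
  ((IsLocalizedModule.isBaseChange S (Localization S)
      (LocalizedModule.mkLinearMap S (⋀[B]^m P))).equiv).symm ≪≫ₗ
    Groth.Agent.Lib.Helper15ExtBC.bcEquiv B (Localization S) P m ≪≫ₗ
    Groth.Agent.Lib.R2LeadKzExtPow.mapEquiv
      ((IsLocalizedModule.isBaseChange S (Localization S)
        (LocalizedModule.mkLinearMap S P)).equiv) m

variable [Module.Finite B P] [Module.Projective B P]

theorem extPow_eq_bot_of_rank (n : ℕ) (hr : ∀ q : PrimeSpectrum B, Module.rankAtStalk P q = n)
    (m : ℕ) (hm : n < m) : VF (B := B) P ^ m = ⊥ := by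
  have hsub : Subsingleton (⋀[B]^m P) := by
    rw [← Module.support_eq_empty_iff (R := B), Set.eq_empty_iff_forall_notMem]
    intro q
    rw [Module.notMem_support_iff]
    haveI : Module.Free (Localization.AtPrime q.asIdeal) (LocalizedModule q.asIdeal.primeCompl P) :=
      Module.free_of_flat_of_isLocalRing
    let b : Module.Basis (Fin n) (Localization.AtPrime q.asIdeal)
        (LocalizedModule q.asIdeal.primeCompl P) := Module.finBasisOfFinrankEq _ _ (hr q)
    have := isEmpty_powersetCard n m hm
    have h1 : Subsingleton (⋀[Localization.AtPrime q.asIdeal]^m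
        (LocalizedModule q.asIdeal.primeCompl P)) :=
      (b.exteriorPower m).repr.toEquiv.subsingleton
    exact (locEquiv P q.asIdeal.primeCompl m).toEquiv.subsingleton
  rw [eq_bot_iff]
  intro x hx
  have : (⟨x, hx⟩ : ⋀[B]^m P) = 0 := Subsingleton.elim _ _
  rw [Submodule.mem_bot]
  exact congrArg Subtype.val this

theorem invertible_top (r : ℕ) (hr : ∀ q : PrimeSpectrum B, Module.rankAtStalk P q = r) :
    Module.Invertible B (⋀[B]^r P) := by
  let s : Set B := {f | Nonempty (Module.Basis (Fin r) (Localization.Away f) (LocalizedModule.Away f P))}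
  have hs : Ideal.span s = ⊤ := by
    by_contra hne
    obtain ⟨𝔪, hmax, hle⟩ := Ideal.exists_le_maximal _ hne
    haveI := hmax.isPrime
    haveI : Module.FinitePresentation B P := Module.finitePresentation_of_projective B P
    haveI : Module.Free (Localization.AtPrime 𝔪) (LocalizedModule 𝔪.primeCompl P) :=
      Module.free_of_flat_of_isLocalRing
    obtain ⟨f, hf, hfree, hrank⟩ := Module.FinitePresentation.exists_free_localizedModule_powers
      𝔪.primeCompl (LocalizedModule.mkLinearMap 𝔪.primeCompl P) (Localization.AtPrime 𝔪)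
    have hrank' : Module.finrank (Localization.Away f) (LocalizedModule.Away f P) = r :=
      hrank.trans (hr ⟨𝔪, hmax.isPrime⟩)
    haveI : Nontrivial (Localization.Away f) :=
      (show Localization (.powers f) →+* Localization.AtPrime 𝔪 from
        IsLocalization.map (M := .powers f) (T := 𝔪.primeCompl) _
          (RingHom.id _) (Submonoid.powers_le.mpr hf)).domain_nontrivial
    have hfs : f ∈ s := ⟨Module.finBasisOfFinrankEq _ _ hrank'⟩
    exact hf (hle (Ideal.subset_span hfs))
  refine Groth.Agent.S12080.result B (⋀[B]^r P) s hs ?_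
  rintro f ⟨b⟩
  exact ⟨locEquiv P (Submonoid.powers f) r ≪≫ₗ extTopEquiv b⟩

end Groth.Agent.Lib.R2LeadExtPowLoc
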