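import Mathlib

set_option autoImplicit false
universe u

namespace Groth.Agent.Lib.R2LeadExtProj

open CategoryTheory Abelian

section Pull

variable {A : Type u} [CommRing A] (M : ModuleCat.{u} A) (p : ℕ)

/-- pullback on `Ext^p(-, M)` -/
noncomputable def pull {N N' : Type u} [AddCommGroup N] [Module A N] [AddCommGroup N'] [Module A N']
    (f : N →ₗ[A] N') : Ext (ModuleCat.of A N') M p →ₗ[A] Ext (ModuleCat.of A N) M p :=
  Ext.precompOfLinear (Ext.mk₀ (ModuleCat.ofHom f)) A M (zero_add p)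

variable {N N' N'' : Type u} [AddCommGroup N] [Module A N] [AddCommGroup N'] [Module A N']
  [AddCommGroup N''] [Module A N'']

lemma pull_apply (f : N →ₗ[A] N') (ξ : Ext (ModuleCat.of A N') M p) :
    pull M p f ξ = (Ext.mk₀ (ModuleCat.ofHom f)).comp ξ (zero_add p) := rfl

lemma pull_id : pull M p (LinearMap.id : N →ₗ[A] N) = LinearMap.id := by
  ext ξ
  rw [pull_apply, ModuleCat.ofHom_id, Ext.mk₀_id_comp]
  rfl

lemma pull_comp (f : N →ₗ[A] N') (g : N' →ₗ[A] N'') :
    pull M p (g ∘ₗ f) = pull M p f ∘ₗ pull M p g := by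
  ext ξ
  rw [LinearMap.comp_apply, pull_apply, pull_apply, pull_apply, ModuleCat.ofHom_comp,
    ← Ext.mk₀_comp_mk₀_assoc]

lemma pull_add (f g : N →ₗ[A] N') : pull M p (f + g) = pull M p f + pull M p g := by
  ext ξ
  rw [LinearMap.add_apply, pull_apply, pull_apply, pull_apply, ModuleCat.ofHom_add, Ext.mk₀_add,
    Ext.add_comp]

lemma pull_smul (a : A) (f : N →ₗ[A] N') : pull M p (a • f) = a • pull M p f := by
  ext ξ
  have h : ModuleCat.ofHom (a • f) = a • ModuleCat.ofHom f := by
    ext x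
    rfl
  rw [LinearMap.smul_apply, pull_apply, pull_apply, h, Ext.mk₀_smul, Ext.smul_comp]

lemma pull_zero : pull M p (0 : N →ₗ[A] N') = 0 := by
  have := pull_smul M p (0 : A) (0 : N →ₗ[A] N')
  rw [zero_smul, zero_smul] at this
  exact this

lemma pull_sum {ι : Type*} (s : Finset ι) (f : ι → (N →ₗ[A] N')) :
    pull M p (∑ i ∈ s, f i) = ∑ i ∈ s, pull M p (f i) := by
  classical
  induction s using Finset.induction_on with
  | empty => simp [pull_zero]
  | insert a s ha ih => rw [Finset.sum_insert ha, Finset.sum_insert ha, pull_add, ih]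

end Pull

section Phi

variable {A : Type u} [CommRing A] (J : Ideal A) (M : ModuleCat.{u} A) (p : ℕ)
  (N : Type u) [AddCommGroup N] [Module A N] [Module (A ⧸ J) N] [IsScalarTower A (A ⧸ J) N]

/-- the map `B → N`, `b ↦ b • ν` -/
noncomputable def uMap (ν : N) : (A ⧸ J) →ₗ[A] N :=
  (LinearMap.toSpanSingleton (A ⧸ J) N ν).restrictScalars A

lemma uMap_apply (ν : N) (b : A ⧸ J) : uMap J N ν b = b • ν := rfl

/-- the comparison map `Ext^p(N, M) → Hom(N, Ext^p(B, M))` -/
noncomputable def Phi : Ext (ModuleCat.of A N) M p →ₗ[A]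
    (N →ₗ[A] Ext (ModuleCat.of A (A ⧸ J)) M p) where
  toFun ξ :=
    { toFun := fun ν => pull M p (uMap J N ν) ξ
      map_add' := fun ν ν' => by
        have : uMap J N (ν + ν') = uMap J N ν + uMap J N ν' := by
          ext b; simp [uMap_apply]
        rw [this, pull_add, LinearMap.add_apply]
      map_smul' := fun a ν => by
        have : uMap J N (a • ν) = a • uMap J N ν := by
          ext b; simp [uMap_apply, smul_comm]
        rw [this, pull_smul, LinearMap.smul_apply, RingHom.id_apply] }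
  map_add' ξ ξ' := by
    ext ν
    simp
  map_smul' a ξ := by
    ext ν
    simp

lemma Phi_apply (ξ : Ext (ModuleCat.of A N) M p) (ν : N) :
    Phi J M p N ξ ν = pull M p (uMap J N ν) ξ := rfl

theorem Phi_bijective [Module.Finite (A ⧸ J) N] [Module.Projective (A ⧸ J) N] :
    Function.Bijective (Phi J M p N) := by
  classical
  obtain ⟨m, f, g, -, -, hfg⟩ := Module.Finite.exists_comp_eq_id_of_projective (A ⧸ J) N
  let ν : Fin m → N := fun i => f (Pi.single i 1)
  let gi : Fin m → (N →ₗ[A] (A ⧸ J)) := fun i =>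
    ((LinearMap.proj i : (Fin m → A ⧸ J) →ₗ[A ⧸ J] (A ⧸ J)) ∘ₗ g).restrictScalars A
  have hgi : ∀ i x, gi i x = g x i := fun i x => rfl
  have hdec : ∀ x : N, x = ∑ i, g x i • ν i := by
    intro x
    have h1 : f (g x) = x := LinearMap.congr_fun hfg x
    conv_lhs => rw [← h1, pi_eq_sum_univ (g x)]
    rw [map_sum]
    refine Finset.sum_congr rfl fun i _ => ?_
    rw [← map_smul]
    congr 1
    ext j
    simp [Pi.single_apply, eq_comm]
  have hid : (LinearMap.id : N →ₗ[A] N) = ∑ i, uMap J N (ν i) ∘ₗ gi i := by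
    ext x
    rw [LinearMap.id_apply, LinearMap.sum_apply]
    conv_lhs => rw [hdec x]
    rfl
  constructor
  · rw [injective_iff_map_eq_zero]
    intro ξ hξ
    have h1 : ξ = pull M p (LinearMap.id : N →ₗ[A] N) ξ := by rw [pull_id]; rfl
    rw [h1, hid, pull_sum, LinearMap.sum_apply]
    refine Finset.sum_eq_zero fun i _ => ?_
    rw [pull_comp, LinearMap.comp_apply, ← Phi_apply, hξ, LinearMap.zero_apply, map_zero]
  · intro h
    refine ⟨∑ i, pull M p (gi i) (h (ν i)), ?_⟩
    ext x
    rw [Phi_apply, map_sum]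
    have hx : ∀ i, pull M p (uMap J N x) (pull M p (gi i) (h (ν i))) = h (g x i • ν i) := by
      intro i
      obtain ⟨a, ha⟩ := Ideal.Quotient.mk_surjective (g x i)
      have h2 : gi i ∘ₗ uMap J N x = a • (LinearMap.id : (A ⧸ J) →ₗ[A] (A ⧸ J)) := by
        refine LinearMap.ext fun b => ?_
        rw [LinearMap.comp_apply, uMap_apply, hgi, map_smul, Pi.smul_apply, LinearMap.smul_apply,
          LinearMap.id_apply, ← ha, smul_eq_mul, Algebra.smul_def, Ideal.Quotient.algebraMap_eq,
          mul_comm]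
      rw [← LinearMap.comp_apply, ← pull_comp, h2, pull_smul, pull_id, LinearMap.smul_apply,
        LinearMap.id_apply, ← map_smul, ← ha]
      congr 1
      rw [← Ideal.Quotient.algebraMap_eq, algebraMap_smul]
    rw [Finset.sum_congr rfl (fun i _ => hx i), ← map_sum, ← hdec x]

/-- `Ext^p_A(N, M) ≅ Hom_A(N, Ext^p_A(A/J, M))` for a finite projective `A/J`-module `N` -/
noncomputable def PhiEquiv [Module.Finite (A ⧸ J) N] [Module.Projective (A ⧸ J) N] :
    Ext (ModuleCat.of A N) M p ≃ₗ[A] (N →ₗ[A] Ext (ModuleCat.of A (A ⧸ J)) M p) :=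
  LinearEquiv.ofBijective (Phi J M p N) (Phi_bijective J M p N)

end Phi

end Groth.Agent.Lib.R2LeadExtProj
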