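import Mathlib
universe u
open ExteriorAlgebra

namespace Groth.Agent.Lib.R2LeadExtSum

section contraction
variable {B : Type u} [CommRing B] {F : Type u} [AddCommGroup F] [Module B F]

/-- contraction on the exterior algebra -/
noncomputable def con (d : Module.Dual B F) : ExteriorAlgebra B F →ₗ[B] ExteriorAlgebra B F :=
  CliffordAlgebra.contractLeft (Q := (0 : QuadraticForm B F)) d

lemma con_ι_mul (d : Module.Dual B F) (v : F) (w : ExteriorAlgebra B F) :
    con d (ι B v * w) = d v • w - ι B v * con d w :=
  CliffordAlgebra.contractLeft_ι_mul _ _ _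

lemma con_algebraMap (d : Module.Dual B F) (c : B) :
    con d (algebraMap B (ExteriorAlgebra B F) c) = 0 :=
  CliffordAlgebra.contractLeft_algebraMap _ _ _

/-- the product of the `ι` of the second components -/
noncomputable def kap (L : List (Module.Dual B F × F)) : ExteriorAlgebra B F :=
  (L.map fun p => ι B p.2).prod

/-- iterated contraction, first component of the head applied first -/
noncomputable def Psi : List (Module.Dual B F × F) → ExteriorAlgebra B F →ₗ[B] ExteriorAlgebra B F
  | [] => LinearMap.id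
  | p :: L => (Psi L) ∘ₗ con p.1

lemma con_kap_mul (d : Module.Dual B F) (L : List (Module.Dual B F × F))
    (hd : ∀ p ∈ L, d p.2 = 0) (x : ExteriorAlgebra B F) (hx : con d x = 0) :
    con d (kap L * x) = 0 := by
  induction L with
  | nil => simpa [kap] using hx
  | cons p L ih =>
    have h1 : kap (p :: L) * x = ι B p.2 * (kap L * x) := by
      simp [kap, mul_assoc]
    rw [h1, con_ι_mul, hd p (List.mem_cons_self ..), zero_smul,
      ih (fun q hq => hd q (List.mem_cons_of_mem _ hq)), mul_zero, sub_zero]

lemma Psi_kap_mul (L : List (Module.Dual B F × F))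
    (h1 : ∀ p ∈ L, p.1 p.2 = 1) (h2 : L.Pairwise fun p q => p.1 q.2 = 0)
    (x : ExteriorAlgebra B F) (hx : ∀ p ∈ L, con p.1 x = 0) :
    Psi L (kap L * x) = x := by
  induction L with
  | nil => simp [Psi, kap]
  | cons p L ih =>
    have e1 : kap (p :: L) * x = ι B p.2 * (kap L * x) := by
      simp [kap, mul_assoc]
    rw [List.pairwise_cons] at h2
    rw [Psi, LinearMap.comp_apply, e1, con_ι_mul, h1 p (List.mem_cons_self ..), one_smul,
      con_kap_mul p.1 L h2.1 x (hx p (List.mem_cons_self ..)), mul_zero, sub_zero]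
    exact ih (fun q hq => h1 q (List.mem_cons_of_mem _ hq)) h2.2
      (fun q hq => hx q (List.mem_cons_of_mem _ hq))

end contraction

section split
variable {B : Type u} [CommRing B] {F Q : Type u} [AddCommGroup F] [Module B F]
  [AddCommGroup Q] [Module B Q] (s : Q →ₗ[B] F) (π : F →ₗ[B] Q)

lemma con_map_eq_zero (d : Module.Dual B F) (hd : ∀ q, d (s q) = 0) (ω : ExteriorAlgebra B Q) :
    con d (ExteriorAlgebra.map s ω) = 0 := by
  induction ω using CliffordAlgebra.left_induction with
  | algebraMap r => rw [AlgHom.commutes, con_algebraMap]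
  | add x y hx hy => rw [map_add, map_add, hx, hy, add_zero]
  | ι_mul x m hx =>
    rw [map_mul]
    have : ExteriorAlgebra.map s (CliffordAlgebra.ι 0 m) = ι B (s m) := ExteriorAlgebra.map_apply_ι s m
    rw [this, con_ι_mul, hd, zero_smul, hx, mul_zero, sub_zero]

/-- `ω ↦ κ ∧ Λ(s) ω` -/
noncomputable def phi (L : List (Module.Dual B F × F)) : ExteriorAlgebra B Q →ₗ[B] ExteriorAlgebra B F :=
  (LinearMap.mulLeft B (kap L)) ∘ₗ (ExteriorAlgebra.map s).toLinearMap

lemma phi_apply (L : List (Module.Dual B F × F)) (ω : ExteriorAlgebra B Q) :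
    phi s L ω = kap L * ExteriorAlgebra.map s ω := rfl

include π in
lemma phi_injective (hπs : π ∘ₗ s = LinearMap.id) (L : List (Module.Dual B F × F))
    (h1 : ∀ p ∈ L, p.1 p.2 = 1) (h2 : L.Pairwise fun p q => p.1 q.2 = 0)
    (h3 : ∀ p ∈ L, ∀ q, p.1 (s q) = 0) : Function.Injective (phi s L) := by
  have key : ∀ ω, ExteriorAlgebra.map π (Psi L (phi s L ω)) = ω := by
    intro ω
    rw [phi_apply, Psi_kap_mul L h1 h2 _ (fun p hp => con_map_eq_zero s p.1 (h3 p hp) ω)]
    have : (ExteriorAlgebra.map π).comp (ExteriorAlgebra.map s) = AlgHom.id B _ := by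
      rw [ExteriorAlgebra.map_comp_map, hπs, ExteriorAlgebra.map_id]
    exact DFunLike.congr_fun this ω
  intro a b hab
  rw [← key a, ← key b, hab]

end split

end Groth.Agent.Lib.R2LeadExtSum
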