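import Groth.Agent.Lib.R2LeadExtSum1
universe u
open ExteriorAlgebra

namespace Groth.Agent.Lib.R2LeadExtSum

section decomp
variable {B : Type u} [CommRing B] {F Q : Type u} [AddCommGroup F] [Module B F]
  [AddCommGroup Q] [Module B Q] (s : Q →ₗ[B] F) (π : F →ₗ[B] Q) {r : ℕ} (J : Fin r → F)
  (l : Fin r → Module.Dual B F)

/-- the span of the `ι (J a)` -/
noncomputable def Asub : Submodule B (ExteriorAlgebra B F) :=
  Submodule.span B (Set.range fun a => ι B (J a))

/-- the image of `ι ∘ s` -/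
noncomputable def Csub : Submodule B (ExteriorAlgebra B F) :=
  Submodule.span B (Set.range fun q => ι B (s q))

/-- the image of `ι` -/
noncomputable abbrev VF (F : Type u) [AddCommGroup F] [Module B F] : Submodule B (ExteriorAlgebra B F) :=
  LinearMap.range (ι B : F →ₗ[B] ExteriorAlgebra B F)

lemma Asub_le : Asub J ≤ VF (B := B) F := by
  refine Submodule.span_le.2 ?_
  rintro _ ⟨a, rfl⟩
  exact ⟨J a, rfl⟩

lemma Csub_le : Csub s ≤ VF (B := B) F := by
  refine Submodule.span_le.2 ?_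
  rintro _ ⟨a, rfl⟩
  exact ⟨s a, rfl⟩

include π l in
lemma VF_le (hdec : ∀ v, v = ∑ a, l a v • J a + s (π v)) : VF (B := B) F ≤ Asub J ⊔ Csub s := by
  rintro _ ⟨v, rfl⟩
  rw [hdec v, map_add, map_sum]
  refine Submodule.add_mem_sup ?_ (Submodule.subset_span ⟨_, rfl⟩)
  refine Submodule.sum_mem _ fun a _ => ?_
  rw [map_smul]
  exact Submodule.smul_mem _ _ (Submodule.subset_span ⟨a, rfl⟩)

lemma Csub_mul_Asub : Csub s * Asub J ≤ Asub J * Csub s := by
  rw [Csub, Asub, Submodule.span_mul_span, Submodule.span_le]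
  rintro _ ⟨_, ⟨q, rfl⟩, _, ⟨a, rfl⟩, rfl⟩
  have h : ι B (s q) * ι B (J a) = - (ι B (J a) * ι B (s q)) := by
    rw [eq_neg_iff_add_eq_zero]
    exact ExteriorAlgebra.ι_add_mul_swap _ _
  simp only
  rw [h]
  exact neg_mem (Submodule.mul_mem_mul (Submodule.subset_span ⟨a, rfl⟩) (Submodule.subset_span ⟨q, rfl⟩))

lemma Csub_mul_Asub_pow (i : ℕ) : Csub s * Asub J ^ i ≤ Asub J ^ i * Csub s := by
  induction i with
  | zero => simp
  | succ i ih =>
    calc Csub s * Asub J ^ (i + 1) = (Csub s * Asub J) * Asub J ^ i := by rw [pow_succ', mul_assoc]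
      _ ≤ (Asub J * Csub s) * Asub J ^ i := mul_le_mul' (Csub_mul_Asub s J) le_rfl
      _ = Asub J * (Csub s * Asub J ^ i) := by rw [mul_assoc]
      _ ≤ Asub J * (Asub J ^ i * Csub s) := mul_le_mul' le_rfl ih
      _ = Asub J ^ (i + 1) * Csub s := by rw [pow_succ', mul_assoc]

include π l in
lemma VF_pow_le (hdec : ∀ v, v = ∑ a, l a v • J a + s (π v)) (m : ℕ) :
    VF (B := B) F ^ m ≤ ⨆ i, ⨆ j, ⨆ (_ : i + j = m), Asub J ^ i * Csub s ^ j := by
  induction m with
  | zero =>
    refine le_iSup_of_le 0 (le_iSup_of_le 0 (le_iSup_of_le rfl ?_))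
    simp
  | succ m ih =>
    rw [pow_succ']
    refine (mul_le_mul' (VF_le s π J l hdec) ih).trans ?_
    rw [Submodule.mul_iSup]
    refine iSup_le fun i => ?_
    rw [Submodule.mul_iSup]
    refine iSup_le fun j => ?_
    rw [Submodule.mul_iSup]
    refine iSup_le fun h => ?_
    rw [Submodule.sup_mul]
    refine sup_le ?_ ?_
    · refine le_iSup_of_le (i + 1) (le_iSup_of_le j (le_iSup_of_le (by omega) ?_))
      rw [← mul_assoc, ← pow_succ']
    · refine le_iSup_of_le i (le_iSup_of_le (j + 1) (le_iSup_of_le (by omega) ?_))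
      rw [← mul_assoc]
      refine (mul_le_mul' (Csub_mul_Asub_pow s J i) le_rfl).trans ?_
      rw [mul_assoc, ← pow_succ']

end decomp

end Groth.Agent.Lib.R2LeadExtSum
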