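import Groth.Agent.Lib.R2LeadExtSum2
universe u
open ExteriorAlgebra

namespace Groth.Agent.Lib.R2LeadExtSum

section top
variable {B : Type u} [CommRing B] {F Q : Type u} [AddCommGroup F] [Module B F]
  [AddCommGroup Q] [Module B Q] (s : Q →ₗ[B] F) (π : F →ₗ[B] Q) {r : ℕ} (J : Fin r → F)
  (l : Fin r → Module.Dual B F)

lemma mem_Asub_pow_iff (i : ℕ) :
    Asub J ^ i = Submodule.span B (Set.range fun a : Fin i → Fin r => ExteriorAlgebra.ιMulti B i (J ∘ a)) := by
  rw [Asub, Submodule.span_pow]
  congr 1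
  ext x
  rw [Set.mem_pow]
  constructor
  · rintro ⟨f, rfl⟩
    choose a ha using fun k => (f k).2
    refine ⟨a, ?_⟩
    simp only [ExteriorAlgebra.ιMulti_apply, Function.comp_apply, ha]
  · rintro ⟨a, rfl⟩
    refine ⟨fun k => ⟨ι B (J (a k)), ⟨a k, rfl⟩⟩, ?_⟩
    simp only [ExteriorAlgebra.ιMulti_apply, Function.comp_apply]

lemma Asub_pow_eq_bot (i : ℕ) (hi : r < i) : Asub (B := B) J ^ i = ⊥ := by
  rw [mem_Asub_pow_iff, Submodule.span_eq_bot]
  rintro _ ⟨a, rfl⟩
  refine AlternatingMap.map_eq_zero_of_not_injective (ExteriorAlgebra.ιMulti B i (M := F)) _ ?_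
  intro h
  have h2 : Function.Injective a := Function.Injective.of_comp h
  have := Fintype.card_le_of_injective a h2
  simp at this
  omega

lemma Asub_pow_le : Asub J ^ r ≤ Submodule.span B {ExteriorAlgebra.ιMulti B r J} := by
  rw [mem_Asub_pow_iff, Submodule.span_le]
  rintro _ ⟨a, rfl⟩
  simp only [SetLike.mem_coe]
  by_cases h : Function.Injective a
  · have hb : Function.Bijective a := Finite.injective_iff_bijective.1 h
    have : J ∘ a = J ∘ (Equiv.ofBijective a hb) := rfl
    rw [this, AlternatingMap.map_perm]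
    exact Submodule.smul_mem _ _ (Submodule.subset_span rfl)
  · have : ExteriorAlgebra.ιMulti B r (J ∘ a) = 0 := by
      refine AlternatingMap.map_eq_zero_of_not_injective (ExteriorAlgebra.ιMulti B r (M := F)) _ ?_
      intro h'
      exact h (Function.Injective.of_comp h')
    rw [this]
    exact Submodule.zero_mem _

end top

end Groth.Agent.Lib.R2LeadExtSum
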