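import Groth.Agent.S5665
import Groth.Agent.Lib.R2LeadExtProj
import Groth.Agent.Lib.R2LeadExtPowLoc
import Groth.Agent.Lib.R2LeadDetSmG
import Groth.Agent.Lib.H6xCIH
import Groth.Agent.Lib.R2H3KzCotProj

set_option autoImplicit false
universe u
open CategoryTheory TensorProduct

namespace Groth.Agent.Lib.R2LeadExtTopForms

open Groth.Agent.Lib.R2LeadExtSum Groth.Agent.Lib.R2LeadExtProj Groth.Agent.Lib.R2LeadExtPowLoc
  Groth.Agent.Lib.R2LeadDetSmG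

/-- endomorphisms of an invertible module over a quotient ring, over the base ring -/
theorem nonempty_end_equiv {A : Type u} [CommRing A] (J : Ideal A)
    (N : Type u) [AddCommGroup N] [Module A N] [Module (A ⧸ J) N] [IsScalarTower A (A ⧸ J) N]
    [Module.Invertible (A ⧸ J) N] : Nonempty ((N →ₗ[A] N) ≃ₗ[A] (A ⧸ J)) := by
  have hsurj : Function.Surjective (algebraMap A (A ⧸ J)) := Ideal.Quotient.mk_surjective
  let ψ : (A ⧸ J) →ₗ[A] (N →ₗ[A] N) :=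
    { toFun := fun b => (Module.toModuleEnd (A ⧸ J) (S := A ⧸ J) N b).restrictScalars A
      map_add' := fun b b' => by ext x; simp [add_smul]
      map_smul' := fun a b => by ext x; simp }
  have hψ : ∀ b x, ψ b x = b • x := fun b x => rfl
  have hbij := Module.Invertible.toModuleEnd_bijective (R := A ⧸ J) (M := N)
  have hψbij : Function.Bijective ψ := by
    constructor
    · intro b b' h
      apply hbij.1
      ext x
      exact LinearMap.congr_fun h x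
    · intro h
      obtain ⟨b, hb⟩ := hbij.2 (h.extendScalarsOfSurjective hsurj)
      refine ⟨b, ?_⟩
      ext x
      exact LinearMap.congr_fun hb x
  exact ⟨(LinearEquiv.ofBijective ψ hψbij).symm⟩

theorem main (k : Type u) [Field k] (A : Type u) [CommRing A] [Algebra k A]
    [Algebra.FiniteType k A] [Algebra.Smooth k A] (n : ℕ)
    (hn : ∀ q : PrimeSpectrum A, Module.rankAtStalk (Ω[A⁄k]) q = n) (xs : List A)
    (hreg : RingTheory.Sequence.IsWeaklyRegular A xs) [Algebra.Smooth k (A ⧸ Ideal.ofList xs)]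
    (hpn : xs.length ≤ n) :
    Nonempty (Abelian.Ext
      (ModuleCat.of A ↥((⋀[A ⧸ Ideal.ofList xs]^(n - xs.length)
        (Ω[(A ⧸ Ideal.ofList xs)⁄k])).restrictScalars A))
      (ModuleCat.of A ↥(⋀[A]^n (Ω[A⁄k]))) xs.length ≃ₗ[A] (A ⧸ Ideal.ofList xs)) := by
  classical
  set J : Ideal A := Ideal.ofList xs with hJ
  have hsurj : Function.Surjective (algebraMap A (A ⧸ J)) := Ideal.Quotient.mk_surjective
  let F : Fin xs.length → A := xs.get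
  have hFl : List.ofFn F = xs := List.ofFn_get xs
  have hrange : Set.range F = {x | x ∈ xs} := by
    ext x
    simp only [Set.mem_range, Set.mem_setOf_eq, F]
    exact List.mem_iff_get.symm
  have hI : RingHom.ker (algebraMap A (A ⧸ J)) = Ideal.span (Set.range F) := by
    rw [Ideal.Quotient.algebraMap_eq, Ideal.mk_ker, hrange]
  have hH1 := Groth.Agent.Lib.H6xCI.isH1Regular_of_isWeaklyRegular_ofFn F (by rw [hFl]; exact hreg)
  have hind : ∀ p : Fin xs.length → A, ∑ a, p a * F a ∈ (RingHom.ker (algebraMap A (A ⧸ J))) ^ 2 →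
      ∀ a, p a ∈ RingHom.ker (algebraMap A (A ⧸ J)) := by
    intro p hp a
    rw [hI] at hp ⊢
    exact Groth.Agent.Lib.R2H3.KzCotProj.mem_of_sum_mem_sq F hH1 p hp a
  obtain ⟨π, s, Jv, l, hπs, hlJ, hls, hdec, hπJ⟩ :=
    exists_split_data k A (A ⧸ J) hsurj xs.length F hI hind
  -- ranks
  have hrankF : ∀ q : PrimeSpectrum (A ⧸ J),
      Module.rankAtStalk ((A ⧸ J) ⊗[A] Ω[A⁄k]) q = n := by
    intro q
    rw [Module.rankAtStalk_baseChange]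
    exact hn _
  have hF := extPow_eq_bot_of_rank ((A ⧸ J) ⊗[A] Ω[A⁄k]) n hrankF
  obtain ⟨e1⟩ := top_equiv s π Jv l n hF hpn hπs hlJ hls hdec
  obtain ⟨eprod⟩ := nonempty_prod_equiv π s Jv l hπs hlJ hls hdec hπJ
  have hrankΩ : ∀ q : PrimeSpectrum (A ⧸ J),
      Module.rankAtStalk (Ω[(A ⧸ J)⁄k]) q = n - xs.length := by
    intro q
    haveI : Nontrivial (A ⧸ J) := q.nontrivial
    have h1 := Module.rankAtStalk_eq_of_equiv eprod
    have h2 := congrFun h1 q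
    rw [hrankF q, Module.rankAtStalk_prod, Pi.add_apply, Module.rankAtStalk_eq_finrank_of_free] at h2
    simp only [Module.finrank_fintype_fun_eq_card, Fintype.card_fin, Pi.natCast_apply,
      Nat.cast_id] at h2
    omega
  haveI hinv : Module.Invertible (A ⧸ J) (⋀[A ⧸ J]^(n - xs.length) (Ω[(A ⧸ J)⁄k])) :=
    invertible_top _ _ hrankΩ
  -- the module N'
  let eN : ↥((⋀[A ⧸ J]^(n - xs.length) (Ω[(A ⧸ J)⁄k])).restrictScalars A) ≃ₗ[A ⧸ J]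
      ↥(⋀[A ⧸ J]^(n - xs.length) (Ω[(A ⧸ J)⁄k])) :=
    Submodule.restrictScalarsEquiv A (A ⧸ J) _ _
  haveI : Module.Invertible (A ⧸ J)
      ↥((⋀[A ⧸ J]^(n - xs.length) (Ω[(A ⧸ J)⁄k])).restrictScalars A) :=
    Module.Invertible.congr eN.symm
  -- the chain
  obtain ⟨c0⟩ := Groth.Agent.S5665.result A xs hreg ↥(⋀[A]^n (Ω[A⁄k]))
  let c1 : (↥(⋀[A]^n (Ω[A⁄k])) ⧸ (J • (⊤ : Submodule A ↥(⋀[A]^n (Ω[A⁄k]))))) ≃ₗ[A]
      (A ⧸ J) ⊗[A] ↥(⋀[A]^n (Ω[A⁄k])) :=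
    (TensorProduct.quotTensorEquivQuotSMul ↥(⋀[A]^n (Ω[A⁄k])) J).symm
  let c2 : (A ⧸ J) ⊗[A] ↥(⋀[A]^n (Ω[A⁄k])) ≃ₗ[A ⧸ J] ↥(⋀[A ⧸ J]^n ((A ⧸ J) ⊗[A] Ω[A⁄k])) :=
    Groth.Agent.Lib.Helper15ExtBC.bcEquiv A (A ⧸ J) (Ω[A⁄k]) n
  let c3 : (A ⧸ J) ⊗[A] ↥(⋀[A]^n (Ω[A⁄k])) ≃ₗ[A ⧸ J]
      ↥((⋀[A ⧸ J]^(n - xs.length) (Ω[(A ⧸ J)⁄k])).restrictScalars A) :=
    c2 ≪≫ₗ e1.symm ≪≫ₗ eN.symm
  let c4 : Abelian.Ext (ModuleCat.of A (A ⧸ J)) (ModuleCat.of A ↥(⋀[A]^n (Ω[A⁄k]))) xs.length ≃ₗ[A]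
      ↥((⋀[A ⧸ J]^(n - xs.length) (Ω[(A ⧸ J)⁄k])).restrictScalars A) :=
    c0 ≪≫ₗ c1 ≪≫ₗ c3.restrictScalars A
  let c5 := PhiEquiv J (ModuleCat.of A ↥(⋀[A]^n (Ω[A⁄k]))) xs.length
    ↥((⋀[A ⧸ J]^(n - xs.length) (Ω[(A ⧸ J)⁄k])).restrictScalars A)
  obtain ⟨c6⟩ := nonempty_end_equiv J
    ↥((⋀[A ⧸ J]^(n - xs.length) (Ω[(A ⧸ J)⁄k])).restrictScalars A)
  exact ⟨c5 ≪≫ₗ LinearEquiv.congrRight c4 ≪≫ₗ c6⟩

end Groth.Agent.Lib.R2LeadExtTopForms
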