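import Mathlib

/-!
# Limits of towers of "connected" finite algebras over an algebraically closed field (lead)

* `exists_sub_nilpotent`: a nontrivial finite `k`-algebra (`k` algebraically closed) with only
  trivial idempotents is `k + nilpotents`.
* `limit_ext`, `exists_of_compatible`: elements of a limit of a tower of commutative rings.
* `isLocalRing_limit`: the limit of a tower of `k + nilpotents` algebras is a local ring.
-/

set_option autoImplicit false
set_option linter.style.haveILetI false
universe u

open CategoryTheory CategoryTheory.Limits Opposite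

namespace Groth.Agent.Lib.R2LeadFFLocA

section Alg

variable (k : Type u) [Field k] [IsAlgClosed k] (B : Type u) [CommRing B] [Algebra k B]
  [Module.Finite k B] [Nontrivial B]

theorem exists_sub_nilpotent (hidem : ∀ e : B, IsIdempotentElem e → e = 0 ∨ e = 1) (b : B) :
    ∃ c : k, IsNilpotent (b - algebraMap k B c) := by
  haveI : IsArtinianRing B := IsArtinianRing.of_finite k B
  -- the spectrum is connected and discrete, hence a point
  haveI : PreconnectedSpace (PrimeSpectrum B) := by
    refine ⟨isPreconnected_iff_subset_of_fully_disjoint_closed isClosed_univ |>.mpr ?_⟩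
    intro u v hu hv huv hdisj
    have hcl : IsClopen u := by
      refine ⟨hu, ?_⟩
      have : u = vᶜ := by
        ext x
        constructor
        · intro hx hxv
          exact (Set.disjoint_left.mp hdisj hx hxv)
        · intro hx
          rcases huv (Set.mem_univ x) with h | h
          · exact h
          · exact absurd h hx
      rw [this]
      exact hv.isOpen_compl
    obtain ⟨e, he, rfl⟩ := PrimeSpectrum.isClopen_iff.mp hcl
    rcases hidem e he with rfl | rfl
    · right
      intro x _
      rcases huv (Set.mem_univ x) with h | h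
      · simp at h
      · exact h
    · left
      intro x _
      simp
  haveI : Subsingleton (PrimeSpectrum B) := PreconnectedSpace.trivial_of_discrete
  haveI : IsLocalRing B := by
    refine IsLocalRing.of_unique_max_ideal ?_
    obtain ⟨m, hm⟩ := Ideal.exists_maximal B
    refine ⟨m, hm, fun m' hm' => ?_⟩
    have := Subsingleton.elim (⟨m', hm'.isPrime⟩ : PrimeSpectrum B) ⟨m, hm.isPrime⟩
    exact congrArg PrimeSpectrum.asIdeal this
  -- the residue field is `k`
  have hsurj : Function.Surjective (algebraMap k (IsLocalRing.ResidueField B)) := by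
    haveI : Module.Finite k (IsLocalRing.ResidueField B) :=
      Module.Finite.of_surjective (IsScalarTower.toAlgHom k B (IsLocalRing.ResidueField B)).toLinearMap
        (IsLocalRing.residue_surjective)
    haveI : Algebra.IsIntegral k (IsLocalRing.ResidueField B) := Algebra.IsIntegral.of_finite k _
    exact (IsAlgClosed.algebraMap_bijective_of_isIntegral (k := k)).2
  obtain ⟨c, hc⟩ := hsurj (IsLocalRing.residue B b)
  refine ⟨c, ?_⟩
  have hmem : b - algebraMap k B c ∈ IsLocalRing.maximalIdeal B := by
    rw [← IsLocalRing.residue_eq_zero_iff, map_sub, ← hc]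
    rw [IsScalarTower.algebraMap_apply k B (IsLocalRing.ResidueField B)]
    exact sub_self _
  have hnil : IsNilpotent (Ideal.jacobson (⊥ : Ideal B)) := IsArtinianRing.isNilpotent_jacobson_bot
  rw [IsLocalRing.jacobson_eq_maximalIdeal ⊥ bot_ne_top] at hnil
  obtain ⟨n, hn⟩ := hnil
  refine ⟨n, ?_⟩
  have : (b - algebraMap k B c) ^ n ∈ IsLocalRing.maximalIdeal B ^ n := Ideal.pow_mem_pow hmem n
  rw [hn] at this
  exact this

end Alg

section Lim

variable (D : ℕᵒᵖ ⥤ CommRingCat.{u})

theorem limit_ext (a a' : ↑(limit D)) (h : ∀ m : ℕ, (limit.π D (op m)).hom a = (limit.π D (op m)).hom a') :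
    a = a' := by
  apply Concrete.limit_ext
  intro j
  exact h j.unop

theorem exists_of_compatible (b : ∀ m : ℕ, D.obj (op m))
    (hb : ∀ m : ℕ, (D.map (homOfLE (Nat.le_succ m)).op).hom (b (m + 1)) = b m) :
    ∃ a : ↑(limit D), ∀ m : ℕ, (limit.π D (op m)).hom a = b m := by
  have hcompat : ∀ (n m : ℕ) (h : m ≤ n), (D.map (homOfLE h).op).hom (b n) = b m := by
    intro n m h
    induction n, h using Nat.le_induction with
    | base =>
      have : (homOfLE (le_refl m)).op = 𝟙 (op m) := rfl
      rw [this, D.map_id]
      rfl
    | succ n hmn ih =>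
      have : (homOfLE (hmn.trans (Nat.le_succ n))).op =
          (homOfLE (Nat.le_succ n)).op ≫ (homOfLE hmn).op := rfl
      rw [this, D.map_comp]
      change (D.map (homOfLE hmn).op).hom ((D.map (homOfLE (Nat.le_succ n)).op).hom (b (n + 1))) = _
      rw [hb n, ih]
  let s : (D ⋙ forget CommRingCat).sections :=
    ⟨fun j => b j.unop, by
      intro j j' f
      have hle : j'.unop ≤ j.unop := leOfHom f.unop
      have hf : f = (homOfLE hle).op := Subsingleton.elim _ _
      rw [hf]
      exact hcompat j.unop j'.unop hle⟩
  let t := isLimitOfPreserves (forget CommRingCat) (limit.isLimit D)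
  refine ⟨(Types.isLimitEquivSections t).symm s, fun m => ?_⟩
  exact Types.isLimitEquivSections_symm_apply t s (op m)

end Lim

section Tower

variable (k : Type u) [Field k] (D : ℕᵒᵖ ⥤ CommRingCat.{u})
  (ι : ∀ m : ℕ, k →+* D.obj (op m))
  (hι : ∀ m : ℕ, (D.map (homOfLE (Nat.le_succ m)).op).hom.comp (ι (m + 1)) = ι m)
  (hP : ∀ (m : ℕ) (b : D.obj (op m)), ∃ c : k, IsNilpotent (b - ι m c))
  (hnt : ∀ m : ℕ, Nontrivial (D.obj (op m)))

include hι hP hnt

theorem exists_const (a : ↑(limit D)) :
    ∃ c : k, ∀ m : ℕ, IsNilpotent ((limit.π D (op m)).hom a - ι m c) := by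
  choose c hc using fun m => hP m ((limit.π D (op m)).hom a)
  have hinj : ∀ (m : ℕ) (d : k), IsNilpotent (ι m d) → d = 0 := by
    intro m d ⟨n, hn⟩
    haveI := hnt m
    rw [← map_pow] at hn
    have : d ^ n = 0 := by
      by_contra hne
      have hu : IsUnit (d ^ n) := isUnit_iff_ne_zero.mpr hne
      have := hu.map (ι m)
      rw [hn] at this
      exact not_isUnit_zero this
    exact eq_zero_of_pow_eq_zero this
  have hstep : ∀ m, c (m + 1) = c m := by
    intro m
    have h1 : IsNilpotent ((D.map (homOfLE (Nat.le_succ m)).op).hom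
        ((limit.π D (op (m + 1))).hom a - ι (m + 1) (c (m + 1)))) := (hc (m + 1)).map _
    have h2 : (D.map (homOfLE (Nat.le_succ m)).op).hom ((limit.π D (op (m + 1))).hom a) =
        (limit.π D (op m)).hom a := by
      have := limit.w D (homOfLE (Nat.le_succ m)).op
      rw [← this]
      rfl
    rw [map_sub, h2] at h1
    have h3 : (D.map (homOfLE (Nat.le_succ m)).op).hom (ι (m + 1) (c (m + 1))) = ι m (c (m + 1)) := by
      rw [← hι m]
      rfl
    rw [h3] at h1
    have h4 : IsNilpotent (ι m (c m - c (m + 1))) := by
      have h5 : ι m (c m - c (m + 1)) = ((limit.π D (op m)).hom a - ι m (c (m + 1))) -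
          ((limit.π D (op m)).hom a - ι m (c m)) := by
        rw [map_sub]; ring
      rw [h5]
      exact (Commute.all _ _).isNilpotent_sub h1 (hc m)
    have := hinj m _ h4
    exact (sub_eq_zero.mp this).symm
  have hall : ∀ m, c m = c 0 := by
    intro m
    induction m with
    | zero => rfl
    | succ m ih => rw [hstep, ih]
  exact ⟨c 0, fun m => by rw [← hall m]; exact hc m⟩

theorem isUnit_iff (a : ↑(limit D)) :
    IsUnit a ↔ ¬ IsNilpotent ((limit.π D (op 0)).hom a) := by
  constructor
  · intro hu hn
    haveI := hnt 0
    have := hu.map (limit.π D (op 0)).hom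
    obtain ⟨n, hn⟩ := hn
    have h2 := this.pow n
    rw [hn] at h2
    exact not_isUnit_zero h2
  · intro hn
    obtain ⟨c, hc⟩ := exists_const k D ι hι hP hnt a
    have hc0 : c ≠ 0 := by
      rintro rfl
      apply hn
      have := hc 0
      rwa [map_zero, sub_zero] at this
    have hunit : ∀ m, IsUnit ((limit.π D (op m)).hom a) := by
      intro m
      have h1 : IsUnit (ι m c) := (isUnit_iff_ne_zero.mpr hc0).map (ι m)
      have h2 : (limit.π D (op m)).hom a = ι m c + ((limit.π D (op m)).hom a - ι m c) := by ring
      rw [h2]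
      exact (hc m).isUnit_add_left_of_commute h1 (Commute.all _ _)
    choose v hv using fun m => (hunit m).exists_right_inv
    have hvcompat : ∀ m, (D.map (homOfLE (Nat.le_succ m)).op).hom (v (m + 1)) = v m := by
      intro m
      have h2 : (D.map (homOfLE (Nat.le_succ m)).op).hom ((limit.π D (op (m + 1))).hom a) =
          (limit.π D (op m)).hom a := by
        have := limit.w D (homOfLE (Nat.le_succ m)).op
        rw [← this]
        rfl
      have h3 : (limit.π D (op m)).hom a * (D.map (homOfLE (Nat.le_succ m)).op).hom (v (m + 1)) = 1 := by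
        rw [← h2, ← map_mul, hv (m + 1), map_one]
      have h4 := hv m
      -- uniqueness of inverses
      calc (D.map (homOfLE (Nat.le_succ m)).op).hom (v (m + 1))
          = (v m * (limit.π D (op m)).hom a) * (D.map (homOfLE (Nat.le_succ m)).op).hom (v (m + 1)) := by
            rw [mul_comm (v m), h4, one_mul]
        _ = v m * ((limit.π D (op m)).hom a * (D.map (homOfLE (Nat.le_succ m)).op).hom (v (m + 1))) := by
            ring
        _ = v m := by rw [h3, mul_one]
    obtain ⟨a', ha'⟩ := exists_of_compatible D v hvcompat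
    refine isUnit_iff_exists_inv.mpr ⟨a', ?_⟩
    apply limit_ext
    intro m
    rw [map_mul, ha', hv m, map_one]

theorem isLocalRing_limit : IsLocalRing ↑(limit D) := by
  haveI : Nontrivial ↑(limit D) := by
    refine ⟨⟨0, 1, fun h => ?_⟩⟩
    haveI := hnt 0
    have := congrArg (limit.π D (op 0)).hom h
    rw [map_zero, map_one] at this
    exact zero_ne_one this
  refine IsLocalRing.of_nonunits_add ?_
  intro a b ha hb
  rw [mem_nonunits_iff, isUnit_iff k D ι hι hP hnt, not_not] at ha hb ⊢
  rw [map_add]
  exact (Commute.all _ _).isNilpotent_add ha hb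

end Tower

end Groth.Agent.Lib.R2LeadFFLocA
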