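import Groth.Agent.Lib.R2LeadFFLocA
import Groth.Agent.Lib.H9NormFin
import Groth.Agent.Lib.H9HensCouple
import Groth.Prelude.Def_Lef

/-!
# Formal functions along a connected closed subscheme of a proper scheme form a local ring (lead)
-/

set_option autoImplicit false
set_option linter.style.haveILetI false
universe u

open CategoryTheory CategoryTheory.Limits Opposite AlgebraicGeometry TopologicalSpace

namespace Groth.Agent.Lib.R2LeadFFLocB

open Groth.Agent.Lib.R2LeadFFLocA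

/-- idempotent global functions on a connected scheme are trivial -/
theorem idem_trivial (Z : Scheme.{u}) [PreconnectedSpace Z] (e : Γ(Z, ⊤)) (he : IsIdempotentElem e) :
    e = 0 ∨ e = 1 := by
  have hcl := Groth.Agent.Lib.H9HensCouple.isClopen_basicOpen he
  rcases isClopen_iff.mp hcl with h | h
  · left
    apply Groth.Agent.Lib.H9HensCouple.idem_ext he IsIdempotentElem.zero
    rw [Scheme.basicOpen_zero]
    apply SetLike.coe_injective
    rw [h]
    rfl
  · right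
    apply Groth.Agent.Lib.H9HensCouple.idem_ext he IsIdempotentElem.one
    rw [Scheme.basicOpen_of_isUnit _ isUnit_one]
    apply SetLike.coe_injective
    rw [h]
    rfl

section

variable (k : Type u) [Field k] [IsAlgClosed k] (X : Scheme.{u})
    [X.Over (Spec (CommRingCat.of k))] [IsProper (X ↘ (Spec (CommRingCat.of k)))]
    (𝓘 : X.IdealSheafData)

/-- the structure map of the `m`-th thickening -/
noncomputable def str (m : ℕ) : k →+* Γ((𝓘 ^ (m + 1)).subscheme, ⊤) :=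
  ((𝓘 ^ (m + 1)).subschemeι ≫ (X ↘ Spec (CommRingCat.of k))).appTop.hom.comp
    (Scheme.ΓSpecIso (CommRingCat.of k)).inv.hom

theorem str_finite (m : ℕ) : (str k X 𝓘 m).Finite := by
  haveI : IsNoetherianRing Γ(Spec (CommRingCat.of k), ⊤) :=
    isNoetherianRing_of_ringEquiv k
      (Scheme.ΓSpecIso (CommRingCat.of k)).commRingCatIsoToRingEquiv.symm
  have h1 := Groth.Agent.Lib.H9NormFin.finite_appTop_of_isProper
    ((𝓘 ^ (m + 1)).subschemeι ≫ (X ↘ Spec (CommRingCat.of k)))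
  refine RingHom.Finite.comp h1 ?_
  apply RingHom.Finite.of_surjective
  exact (Scheme.ΓSpecIso (CommRingCat.of k)).symm.commRingCatIsoToRingEquiv.surjective

theorem connected_subscheme (hY : _root_.IsConnected (𝓘.support : Set X)) (m : ℕ) :
    ConnectedSpace ↥((𝓘 ^ (m + 1)).subscheme) := by
  have hemb : Topology.IsClosedEmbedding ((𝓘 ^ (m + 1)).subschemeι) :=
    ((𝓘 ^ (m + 1)).subschemeι).isClosedEmbedding
  have hr : Set.range ((𝓘 ^ (m + 1)).subschemeι) = (𝓘.support : Set X) := by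
    rw [Scheme.IdealSheafData.range_subschemeι]
    rfl
  rw [connectedSpace_iff_univ]
  refine ⟨?_, ?_⟩
  · obtain ⟨x, hx⟩ := hY.nonempty
    rw [← hr] at hx
    obtain ⟨y, -⟩ := hx
    exact ⟨y, Set.mem_univ y⟩
  · rw [← hemb.isInducing.isPreconnected_image, Set.image_univ, hr]
    exact hY.isPreconnected

/-- the tower of rings of functions on the thickenings -/
noncomputable abbrev tower : ℕᵒᵖ ⥤ CommRingCat.{u} :=
  Functor.ofOpSequence (X := fun m : ℕ => Γ((𝓘 ^ (m + 1)).subscheme, ⊤))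
    (fun m : ℕ => (Scheme.IdealSheafData.inclusion (Lef.pow_succ_le 𝓘 m)).appTop)

theorem tower_map (m : ℕ) : (tower X 𝓘).map (homOfLE (Nat.le_succ m)).op =
    (Scheme.IdealSheafData.inclusion (Lef.pow_succ_le 𝓘 m)).appTop :=
  Functor.ofOpSequence_map_homOfLE_succ _ m

/-- the structure maps, typed into the tower -/
noncomputable def strT (m : ℕ) : k →+* ↑((tower X 𝓘).obj (op m)) := str k X 𝓘 m

theorem str_compat (m : ℕ) :
    ((tower X 𝓘).map (homOfLE (Nat.le_succ m)).op).hom.comp (strT k X 𝓘 (m + 1)) = strT k X 𝓘 m := by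
  rw [tower_map]
  have h1 : Scheme.IdealSheafData.inclusion (Lef.pow_succ_le 𝓘 m) ≫ (𝓘 ^ (m + 1 + 1)).subschemeι =
      (𝓘 ^ (m + 1)).subschemeι := Scheme.IdealSheafData.inclusion_subschemeι _
  have h2 : ((𝓘 ^ (m + 1)).subschemeι ≫ (X ↘ Spec (CommRingCat.of k))).appTop =
      ((𝓘 ^ (m + 1 + 1)).subschemeι ≫ (X ↘ Spec (CommRingCat.of k))).appTop ≫
        (Scheme.IdealSheafData.inclusion (Lef.pow_succ_le 𝓘 m)).appTop := by
    rw [← Scheme.Hom.comp_appTop, ← Category.assoc, h1]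
  ext c
  change (Scheme.IdealSheafData.inclusion (Lef.pow_succ_le 𝓘 m)).appTop.hom
    (((𝓘 ^ (m + 1 + 1)).subschemeι ≫ (X ↘ Spec (CommRingCat.of k))).appTop.hom
      ((Scheme.ΓSpecIso (CommRingCat.of k)).inv.hom c)) =
    ((𝓘 ^ (m + 1)).subschemeι ≫ (X ↘ Spec (CommRingCat.of k))).appTop.hom
      ((Scheme.ΓSpecIso (CommRingCat.of k)).inv.hom c)
  rw [h2]
  rfl

theorem nontrivial_sub (hY : _root_.IsConnected (𝓘.support : Set X)) (m : ℕ) :
    Nontrivial Γ((𝓘 ^ (m + 1)).subscheme, ⊤) := by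
  haveI := connected_subscheme X 𝓘 hY m
  obtain ⟨y⟩ := (inferInstance : Nonempty ↥((𝓘 ^ (m + 1)).subscheme))
  exact @Scheme.component_nontrivial _ ⊤ ⟨⟨y, trivial⟩⟩

theorem exists_nilp (hY : _root_.IsConnected (𝓘.support : Set X)) (m : ℕ)
    (b : Γ((𝓘 ^ (m + 1)).subscheme, ⊤)) : ∃ c : k, IsNilpotent (b - str k X 𝓘 m c) := by
  haveI := connected_subscheme X 𝓘 hY m
  letI : Algebra k Γ((𝓘 ^ (m + 1)).subscheme, ⊤) := (str k X 𝓘 m).toAlgebra
  haveI : Module.Finite k Γ((𝓘 ^ (m + 1)).subscheme, ⊤) := str_finite k X 𝓘 m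
  haveI : Nontrivial Γ((𝓘 ^ (m + 1)).subscheme, ⊤) := nontrivial_sub X 𝓘 hY m
  exact exists_sub_nilpotent k Γ((𝓘 ^ (m + 1)).subscheme, ⊤)
    (fun e he => idem_trivial _ e he) b

theorem main (hY : _root_.IsConnected (𝓘.support : Set X)) :
    IsLocalRing ↑(limit (tower X 𝓘)) ∧
      ∀ a : ↑(limit (tower X 𝓘)), ∃ c : k, ∀ m : ℕ,
        IsNilpotent (Sub.sub (α := ↑Γ((𝓘 ^ (m + 1)).subscheme, ⊤))
          ((limit.π (tower X 𝓘) (op m)).hom a) (str k X 𝓘 m c)) :=
  ⟨isLocalRing_limit k (tower X 𝓘) (strT k X 𝓘) (str_compat k X 𝓘)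
      (fun m b => exists_nilp k X 𝓘 hY m b) (fun m => nontrivial_sub X 𝓘 hY m),
    R2LeadFFLocA.exists_const k (tower X 𝓘) (strT k X 𝓘) (str_compat k X 𝓘)
      (fun m b => exists_nilp k X 𝓘 hY m b) (fun m => nontrivial_sub X 𝓘 hY m)⟩

end

end Groth.Agent.Lib.R2LeadFFLocB
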