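import Mathlib
import Groth.Prelude.Def_RefHull
import Groth.Prelude.Def_Pi1
import Groth.Prelude.Def_FlatMod2
import Groth.Agent.Lib.Helper28Normal
import Groth.Agent.Lib.R2H1VBSub
import Groth.Agent.Lib.Helper20ZClos

set_option autoImplicit false
set_option linter.style.haveILetI false
universe u

open AlgebraicGeometry CategoryTheory CategoryTheory.Limits TopologicalSpace Opposite

namespace Groth.Agent.Lib.R2LeadFTDepth

theorem le_one_of_not_two_le {d : WithBot ℕ∞} (h : ¬ (2 : WithBot ℕ∞) ≤ d) : d ≤ 1 := by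
  have h1 : d < 2 := lt_of_not_ge h
  have h2 : (2 : WithBot ℕ∞) = Order.succ 1 := by
    rfl
  rw [h2] at h1
  exact Order.le_of_lt_succ h1

theorem two_le_depth_of_not_flat {S : Scheme.{u}} [IsLocallyNoetherian S]
    (hS : Pi1.IsNormalScheme S) (A F : S.Modules) (hAfl : FlatMod.IsFlat A)
    (ι : F ⟶ A) [Mono ι] (s : S) (hs : ¬ FlatMod.IsFlatAt F s) :
    (2 : ℕ∞) ≤ LocCoh.depth (S.presheaf.stalk s) (S.presheaf.stalk s) := by
  obtain ⟨hdom, hic⟩ := hS s
  haveI := hdom
  haveI := hic
  by_cases hdim : 2 ≤ ringKrullDim (S.presheaf.stalk s)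
  · exact Groth.Agent.Lib.Helper28.two_le_depth_of_isIntegrallyClosed_of_two_le_dim hdim
  · exfalso
    apply hs
    have hdim1 : ringKrullDim (S.presheaf.stalk s) ≤ 1 := le_one_of_not_two_le hdim
    haveI : IsRegularLocalRing (S.presheaf.stalk s) :=
      Groth.Agent.Lib.Helper28.isRegularLocalRing_of_isIntegrallyClosed_of_dim_le_one hdim1
    haveI : IsPrincipalIdealRing (S.presheaf.stalk s) :=
      Groth.Agent.Lib.R2H1.VBSub.isPrincipalIdealRing_of_regular_dim_le_one _ hdim1
    haveI : Module.Flat (S.presheaf.stalk s) (A.presheaf.stalk s) := hAfl s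
    have hinj : Function.Injective (RefHull.stalkMapₗ ι s) :=
      (Groth.Agent.Lib.Helper20.ZClosLib.mono_iff_stalk_injective ι).1 inferInstance s
    haveI : Module.IsTorsionFree (S.presheaf.stalk s) (F.presheaf.stalk s) :=
      Function.Injective.moduleIsTorsionFree (RefHull.stalkMapₗ ι s) hinj
        (fun r m => map_smul (RefHull.stalkMapₗ ι s) r m)
    unfold FlatMod.IsFlatAt
    infer_instance

end Groth.Agent.Lib.R2LeadFTDepth
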