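import Mathlib
import Groth.Prelude.Def_RefHull
import Groth.Agent.Lib.Helper23FinType
import Groth.Agent.Lib.Helper23FinTypeLocal
import Groth.Agent.Lib.Helper23QCohAbelian

set_option autoImplicit false
set_option linter.style.haveILetI false
universe u

open AlgebraicGeometry CategoryTheory CategoryTheory.Limits TopologicalSpace Opposite

namespace Groth.Agent.Lib.R2LeadFTSub

variable {X : Scheme.{u}}

/-- a sub-module of finite type of a quasi-coherent module is quasi-coherent. -/
theorem isQuasicoherent_of_mono (A F : X.Modules) [A.IsQuasicoherent] (ι : F ⟶ A) [Mono ι]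
    [hF : SheafOfModules.IsFiniteType (R := X.ringCatSheaf) F] : F.IsQuasicoherent := by
  obtain ⟨I, U, G, hfin, hcov, haff⟩ :=
    Groth.Agent.Lib.Helper23.FinType.exists_isOpenCover_generatingSections F
  refine Groth.Agent.Lib.Helper23.FinType.isQuasicoherent_of_open_cover F U hcov (fun i => ?_)
  haveI := Groth.Agent.Lib.Helper23.QCohLocal.restrictFunctor_isRightAdjoint (U i).ι
  let ιi := (Scheme.Modules.restrictFunctor (U i).ι).map ι
  haveI : Mono ιi := inferInstanceAs (Mono ((Scheme.Modules.restrictFunctor (U i).ι).map ι))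
  haveI : Epi (G i).π := (G i).epi
  haveI hA : ((Scheme.Modules.restrictFunctor (U i).ι).obj A).IsQuasicoherent := inferInstance
  haveI h1 : (cokernel ((G i).π ≫ ιi)).IsQuasicoherent :=
    Groth.Agent.Lib.Helper23.QCohLocal.isQuasicoherent_cokernel _
  haveI h2 : (cokernel ιi).IsQuasicoherent :=
    (SheafOfModules.isQuasicoherent (U i).toScheme.ringCatSheaf).prop_of_iso (cokernelEpiComp (G i).π ιi) h1
  have h3 : (kernel (cokernel.π ιi)).IsQuasicoherent :=
    Groth.Agent.Lib.Helper23.QCohLocal.isQuasicoherent_kernel _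
  exact (SheafOfModules.isQuasicoherent (U i).toScheme.ringCatSheaf).prop_of_iso (asIso (Abelian.factorThruImage ιi)).symm h3

end Groth.Agent.Lib.R2LeadFTSub
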