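import Mathlib
import Groth.Prelude.Def_RefHull
import Groth.Prelude.Def_Pi1
import Groth.Prelude.Def_FlatMod2
import Groth.Agent.Lib.R2LeadFTSub
import Groth.Agent.Lib.R2LeadFTDepth
import Groth.Agent.Lib.R2LeadQGorHart
import Groth.Agent.Lib.R2LeadExtReg
import Groth.Agent.Lib.R2LeadReflC

set_option autoImplicit false
set_option linter.style.haveILetI false
universe u

open AlgebraicGeometry CategoryTheory CategoryTheory.Limits TopologicalSpace Opposite

namespace Groth.Agent.Lib.R2LeadFTBidual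

theorem isIso_restrict_bidualMap {S : Scheme.{u}} [IsLocallyNoetherian S] (F : S.Modules)
    (hF : Coh.IsCoh F) (U : S.Opens) (hU : ∀ s ∈ U, FlatMod.IsFlatAt F s) :
    IsIso ((Scheme.Modules.restrictFunctor U.ι).map (RefHull.bidualMap F)) := by
  refine Groth.Agent.Lib.R2LeadExtReg.isIso_restrict_map_of_stalk_bijective _ U (fun x hx => ?_)
  have hfin : Module.Finite (S.presheaf.stalk x) (F.presheaf.stalk x) :=
    Groth.Agent.Lib.R2Lead.ReflC.finite_stalk F hF x
  haveI : Module.Flat (S.presheaf.stalk x) (F.presheaf.stalk x) := hU x hx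
  haveI : Module.Free (S.presheaf.stalk x) (F.presheaf.stalk x) :=
    Module.free_of_flat_of_isLocalRing
  have hrefl : RefHull.IsReflexiveAt F x := by
    unfold RefHull.IsReflexiveAt
    infer_instance
  exact (Groth.Agent.Lib.R2Lead.ReflB.isReflexiveAt_iff F hF x).1 hrefl

theorem main (S : Scheme.{u}) [IsNoetherian S]
    (hS : Pi1.IsNormalScheme S) (A F : S.Modules) (hA : Coh.IsQCoh A) (hAfl : FlatMod.IsFlat A)
    (ι : F ⟶ A) [Mono ι] (hF : CohB1.IsFT F) (U : S.Opens) (hU : (U : Set S) = {s : S | FlatMod.IsFlatAt F s}) :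
    ∃ e : RefHull.ddual F ≅ (Scheme.Modules.pushforward U.ι).obj (F.restrict U.ι),
      RefHull.bidualMap F ≫ e.hom = (Scheme.Modules.restrictAdjunction U.ι).unit.app F := by
  haveI : A.IsQuasicoherent := hA
  haveI : SheafOfModules.IsFiniteType (R := S.ringCatSheaf) F := hF
  have hFcoh : Coh.IsCoh F := ⟨Groth.Agent.Lib.R2LeadFTSub.isQuasicoherent_of_mono A F ι, hF⟩
  have hmem : ∀ s : S, s ∈ U ↔ FlatMod.IsFlatAt F s := fun s => by
    have : s ∈ (U : Set S) ↔ s ∈ {s : S | FlatMod.IsFlatAt F s} := by rw [hU]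
    exact this
  have hdepth : ∀ s : S, s ∉ U →
      (2 : ℕ∞) ≤ LocCoh.depth (S.presheaf.stalk s) (S.presheaf.stalk s) := fun s hs =>
    Groth.Agent.Lib.R2LeadFTDepth.two_le_depth_of_not_flat hS A F hAfl ι s
      (fun h => hs ((hmem s).2 h))
  haveI h1 := Groth.Agent.Lib.R2LeadQGorHart.isIso_unit_ddual U hdepth F
  haveI h2 := isIso_restrict_bidualMap F hFcoh U (fun s hs => (hmem s).1 hs)
  have hnat := (Scheme.Modules.restrictAdjunction U.ι).unit.naturality (RefHull.bidualMap F)
  refine ⟨asIso ((Scheme.Modules.restrictAdjunction U.ι).unit.app (RefHull.ddual F)) ≪≫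
    ((Scheme.Modules.pushforward U.ι).mapIso
      (asIso ((Scheme.Modules.restrictFunctor U.ι).map (RefHull.bidualMap F)))).symm, ?_⟩
  rw [Iso.trans_hom, asIso_hom, ← Category.assoc]
  rw [Iso.symm_hom, Iso.comp_inv_eq]
  exact hnat

end Groth.Agent.Lib.R2LeadFTBidual
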