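import Groth.Agent.Lib.Helper5FiberStalk
import Groth.Agent.Lib.R2LeadHartD
import Groth.Agent.S5769

/-!
# Relative codimension under a surjective morphism (lead)
-/

set_option autoImplicit false
set_option linter.style.haveILetI false
universe u

open CategoryTheory CategoryTheory.Limits AlgebraicGeometry TopologicalSpace IsLocalRing

namespace Groth.Agent.Lib.R2LeadFibCodimSurj

section Alg

variable {P P' : Type u} [CommRing P] [CommRing P'] [IsLocalRing P] [IsLocalRing P']
  [IsNoetherianRing P] [IsNoetherianRing P']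

/-- dimension inequality for quotients along a local homomorphism with zero-dimensional closed
fibre -/
theorem dim_quot_le (ψ : P →+* P') [IsLocalHom ψ] (I : Ideal P) (hI : I ≠ ⊤)
    (h0 : ringKrullDim (P' ⧸ (maximalIdeal P).map ψ) = 0) :
    ringKrullDim (P' ⧸ I.map ψ) ≤ ringKrullDim (P ⧸ I) := by
  have hIm : I ≤ maximalIdeal P := IsLocalRing.le_maximalIdeal hI
  have hI'm : I.map ψ ≤ maximalIdeal P' :=
    (Ideal.map_mono hIm).trans
      (Ideal.map_le_iff_le_comap.mpr (IsLocalRing.maximalIdeal_comap ψ).ge)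
  have hI' : I.map ψ ≠ ⊤ := fun h => (maximalIdeal.isMaximal P').ne_top (top_le_iff.mp (h ▸ hI'm))
  haveI : IsLocalRing (P ⧸ I) := Groth.Agent.Lib.Helper5.isLocalRing_quotient hI
  haveI : IsLocalRing (P' ⧸ I.map ψ) := Groth.Agent.Lib.Helper5.isLocalRing_quotient hI'
  let φ : (P ⧸ I) →+* (P' ⧸ I.map ψ) := Ideal.quotientMap (I.map ψ) ψ Ideal.le_comap_map
  letI : Algebra (P ⧸ I) (P' ⧸ I.map ψ) := φ.toAlgebra
  have hφ : ∀ p : P, φ (Ideal.Quotient.mk I p) = Ideal.Quotient.mk (I.map ψ) (ψ p) := fun p => by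
    simp [φ]
  haveI : IsLocalHom (algebraMap (P ⧸ I) (P' ⧸ I.map ψ)) := by
    constructor
    intro a ha
    obtain ⟨p, rfl⟩ := Ideal.Quotient.mk_surjective a
    change IsUnit (φ (Ideal.Quotient.mk I p)) at ha
    rw [hφ] at ha
    have h1 : IsUnit (ψ p) := by
      by_contra hnu
      have h2 : ψ p ∈ maximalIdeal P' := (IsLocalRing.mem_maximalIdeal _).mpr hnu
      have h3 : Ideal.Quotient.mk (I.map ψ) (ψ p) ∈ maximalIdeal (P' ⧸ I.map ψ) := by
        rw [IsLocalRing.mem_maximalIdeal]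
        intro hu
        obtain ⟨b, hb⟩ := hu.exists_right_inv
        obtain ⟨b', rfl⟩ := Ideal.Quotient.mk_surjective b
        rw [← map_mul, ← map_one (Ideal.Quotient.mk (I.map ψ)), Ideal.Quotient.eq] at hb
        have h4 : ψ p * b' - 1 ∈ maximalIdeal P' := hI'm hb
        have h5 : (1 : P') ∈ maximalIdeal P' := by
          have := (maximalIdeal P').sub_mem ((maximalIdeal P').mul_mem_right b' h2) h4
          simpa using this
        exact (maximalIdeal.isMaximal P').ne_top ((Ideal.eq_top_iff_one _).mpr h5)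
      exact (IsLocalRing.mem_maximalIdeal _).mp h3 ha
    exact (isUnit_of_map_unit ψ p h1).map _
  have h := Groth.Agent.S5769.result (P ⧸ I) (P' ⧸ I.map ψ)
  refine h.trans ?_
  have hz : ringKrullDim ((P' ⧸ I.map ψ) ⧸
      (maximalIdeal (P ⧸ I)).map (algebraMap (P ⧸ I) (P' ⧸ I.map ψ))) = 0 := by
    -- the quotient is a quotient of `P' ⧸ m_P P'`
    have hmax : maximalIdeal (P ⧸ I) = (maximalIdeal P).map (Ideal.Quotient.mk I) := by
      refine (IsLocalRing.eq_maximalIdeal ?_).symm
      exact Ideal.IsMaximal.map_of_surjective_of_ker_le (m := maximalIdeal P)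
        Ideal.Quotient.mk_surjective (by rw [Ideal.mk_ker]; exact hIm)
    let J : Ideal (P' ⧸ I.map ψ) :=
      (maximalIdeal (P ⧸ I)).map (algebraMap (P ⧸ I) (P' ⧸ I.map ψ))
    have hJ : J = ((maximalIdeal P).map ψ).map (Ideal.Quotient.mk (I.map ψ)) := by
      change (maximalIdeal (P ⧸ I)).map φ = _
      rw [hmax, Ideal.map_map, Ideal.map_map]
      congr 1
    -- surjection `P' ⧸ m_P P' → (P' ⧸ I P') ⧸ J`
    let θ : (P' ⧸ (maximalIdeal P).map ψ) →+* ((P' ⧸ I.map ψ) ⧸ J) :=
      Ideal.Quotient.lift _ ((Ideal.Quotient.mk J).comp (Ideal.Quotient.mk (I.map ψ))) (by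
        intro a ha
        rw [RingHom.comp_apply, Ideal.Quotient.eq_zero_iff_mem, hJ]
        exact Ideal.mem_map_of_mem _ ha)
    have hθ : Function.Surjective θ := by
      intro b
      obtain ⟨b1, rfl⟩ := Ideal.Quotient.mk_surjective b
      obtain ⟨b2, rfl⟩ := Ideal.Quotient.mk_surjective b1
      exact ⟨Ideal.Quotient.mk _ b2, rfl⟩
    have hle := ringKrullDim_le_of_surjective θ hθ
    rw [h0] at hle
    have hJtop : J ≠ ⊤ := by
      have hJle : J ≤ maximalIdeal (P' ⧸ I.map ψ) :=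
        Ideal.map_le_iff_le_comap.mpr
          (IsLocalRing.maximalIdeal_comap (algebraMap (P ⧸ I) (P' ⧸ I.map ψ))).ge
      exact fun h => (maximalIdeal.isMaximal _).ne_top (top_le_iff.mp (h ▸ hJle))
    haveI : Nontrivial ((P' ⧸ I.map ψ) ⧸ J) := Ideal.Quotient.nontrivial_iff.mpr hJtop
    exact le_antisymm hle ringKrullDim_nonneg_of_nontrivial
  rw [hz, add_zero]

end Alg


section Sch

/-- the dimension drops at a proper generization (no integrality needed). -/
theorem ringKrullDim_fromSpecStalk_lt {X : Scheme.{u}} [IsLocallyNoetherian X] (x : X)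
    (p : Ideal (X.presheaf.stalk x)) [hp : p.IsPrime]
    (hpm : p ≠ maximalIdeal (X.presheaf.stalk x)) :
    ringKrullDim (X.presheaf.stalk (X.fromSpecStalk x ⟨p, hp⟩)) <
      ringKrullDim (X.presheaf.stalk x) := by
  have hy : X.fromSpecStalk x ⟨p, hp⟩ ⤳ x :=
    Groth.Agent.Lib.Helper14.fromSpecStalk_specializes X x ⟨p, hp⟩
  have hker : RingHom.ker (Cyc.specMap x _ hy) = p :=
    Groth.Agent.Lib.R2H1.LocQuot.ker_specMap_fromSpecStalk x p hy
  rw [Groth.Agent.Lib.Helper8.LocFact.ringKrullDim_stalk_eq_height_comap X hy,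
    ← IsLocalRing.maximalIdeal_height_eq_ringKrullDim]
  have hcomap : (maximalIdeal (X.presheaf.stalk (X.fromSpecStalk x ⟨p, hp⟩))).comap
      (X.presheaf.stalkSpecializes hy).hom = p := by
    refine Eq.trans ?_ hker
    ext a
    rw [Ideal.mem_comap, RingHom.mem_ker]
    unfold Cyc.specMap
    rw [CommRingCat.hom_comp, RingHom.comp_apply]
    exact (IsLocalRing.residue_eq_zero_iff _).symm
  rw [hcomap]
  have hlt : p < maximalIdeal (X.presheaf.stalk x) :=
    lt_of_le_of_ne (IsLocalRing.le_maximalIdeal hp.ne_top) hpm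
  exact_mod_cast Ideal.height_strict_mono_of_isPrime hlt

/-- the dimension of the local ring drops at a proper generization -/
theorem dim_stalk_lt_of_specializes {X : Scheme.{u}} [IsLocallyNoetherian X] {z' z : X}
    (h : z' ⤳ z) (hne : z' ≠ z) :
    ringKrullDim (X.presheaf.stalk z') < ringKrullDim (X.presheaf.stalk z) := by
  have hmem : z' ∈ Set.range (X.fromSpecStalk z) := by
    rw [Scheme.range_fromSpecStalk]; exact h
  obtain ⟨⟨p, hp⟩, rfl⟩ := hmem
  refine ringKrullDim_fromSpecStalk_lt z p ?_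
  rintro rfl
  exact hne Scheme.fromSpecStalk_closedPoint

variable {X X' S : Scheme.{u}} [IsLocallyNoetherian X] [IsLocallyNoetherian X']

/-- every point has a generization in its fibre which is maximal in the fibre -/
theorem exists_maximal_in_fibre (g : X' ⟶ X) (y₀ : X') :
    ∃ z : X', g z = g y₀ ∧ ∀ z' : X', z' ⤳ z → g z' = g z → z' = z := by
  let T : Set X' := {z | z ⤳ y₀ ∧ g z = g y₀}
  have hT : T.Nonempty := ⟨y₀, specializes_rfl, rfl⟩
  obtain ⟨z, hzT, hzmin⟩ := WellFounded.has_min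
    (r := fun a b : X' => ringKrullDim (X'.presheaf.stalk a) < ringKrullDim (X'.presheaf.stalk b))
    (InvImage.wf _ wellFounded_lt) T hT
  refine ⟨z, hzT.2, fun z' hz' hgz' => ?_⟩
  by_contra hne
  exact hzmin z' ⟨hz'.trans hzT.1, hgz'.trans hzT.2⟩ (dim_stalk_lt_of_specializes hz' hne)

/-- at a point maximal in its `g`-fibre, the fibre local ring of `g ≫ f` has dimension at most that
of `f` at the image -/
theorem dim_fiberStalk_comp_le (f : X ⟶ S) (g : X' ⟶ X) (z : X')
    (hmax : ∀ z' : X', z' ⤳ z → g z' = g z → z' = z) :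
    ringKrullDim (CInt.fiberStalk (g ≫ f) z) ≤ ringKrullDim (CInt.fiberStalk f (g z)) := by
  obtain ⟨e1⟩ := Groth.Agent.Lib.Helper5.FiberStalk.nonempty_stalk_asFiber_equiv (g ≫ f) z
  obtain ⟨e2⟩ := Groth.Agent.Lib.Helper5.FiberStalk.nonempty_stalk_asFiber_equiv f (g z)
  rw [ringKrullDim_eq_of_ringEquiv e1, ringKrullDim_eq_of_ringEquiv e2]
  have hmap : (maximalIdeal (S.presheaf.stalk ((g ≫ f) z))).map ((g ≫ f).stalkMap z).hom =
      ((maximalIdeal (S.presheaf.stalk (f (g z)))).map (f.stalkMap (g z)).hom).map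
        (g.stalkMap z).hom := by
    rw [Ideal.map_map, Scheme.Hom.stalkMap_comp]
    rfl
  rw [hmap]
  refine dim_quot_le (g.stalkMap z).hom _
    (Groth.Agent.Lib.Helper5.FiberStalk.fibIdeal_ne_top f (g z)) ?_
  -- the closed fibre of `O_{X, g z} → O_{X', z}` is zero-dimensional
  set J := (maximalIdeal (X.presheaf.stalk (g z))).map (g.stalkMap z).hom with hJ
  have hJle : J ≤ maximalIdeal (X'.presheaf.stalk z) :=
    Ideal.map_le_iff_le_comap.mpr (IsLocalRing.maximalIdeal_comap (g.stalkMap z).hom).ge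
  have hJtop : J ≠ ⊤ := fun h => (maximalIdeal.isMaximal _).ne_top (top_le_iff.mp (h ▸ hJle))
  have h0 : Ring.KrullDimLE 0 (X'.presheaf.stalk z ⧸ J) := by
    refine Ring.KrullDimLE.mk₀ fun q hq => ?_
    set q' := q.comap (Ideal.Quotient.mk J) with hq'
    have hq'p : q'.IsPrime := Ideal.comap_isPrime _ _
    have hJq' : J ≤ q' := by
      intro a ha
      rw [hq', Ideal.mem_comap, Ideal.Quotient.eq_zero_iff_mem.mpr ha]
      exact q.zero_mem
    have hq'max : q' = maximalIdeal (X'.presheaf.stalk z) := by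
      have hz' : X'.fromSpecStalk z ⟨q', hq'p⟩ ⤳ z := by
        have : X'.fromSpecStalk z ⟨q', hq'p⟩ ∈ Set.range (X'.fromSpecStalk z) := ⟨_, rfl⟩
        rwa [Scheme.range_fromSpecStalk] at this
      have hgz' : g (X'.fromSpecStalk z ⟨q', hq'p⟩) = g z := by
        have h1 : g (X'.fromSpecStalk z ⟨q', hq'p⟩) =
            (X.fromSpecStalk (g z)) (Spec.map (g.stalkMap z) ⟨q', hq'p⟩) := by
          rw [← Scheme.Hom.comp_apply, ← Scheme.Hom.comp_apply,
            Scheme.SpecMap_stalkMap_fromSpecStalk]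
        rw [h1]
        have h2 : (Spec.map (g.stalkMap z)) ⟨q', hq'p⟩ =
            closedPoint (X.presheaf.stalk (g z)) := by
          apply PrimeSpectrum.ext
          change q'.comap (g.stalkMap z).hom = maximalIdeal _
          exact ((maximalIdeal.isMaximal _).eq_of_le (Ideal.comap_ne_top _ hq'p.ne_top)
            (Ideal.map_le_iff_le_comap.mp hJq')).symm
        rw [h2, Scheme.fromSpecStalk_closedPoint]
      have h3 := hmax _ hz' hgz'
      have hinj : Function.Injective (X'.fromSpecStalk z) :=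
        (Scheme.Hom.isEmbedding (X'.fromSpecStalk z)).injective
      have h4 : (⟨q', hq'p⟩ : PrimeSpectrum (X'.presheaf.stalk z)) =
          closedPoint (X'.presheaf.stalk z) :=
        hinj (h3.trans Scheme.fromSpecStalk_closedPoint.symm)
      exact congrArg PrimeSpectrum.asIdeal h4
    have hq : q = (maximalIdeal (X'.presheaf.stalk z)).map (Ideal.Quotient.mk J) := by
      rw [← hq'max, hq', Ideal.map_comap_of_surjective _ Ideal.Quotient.mk_surjective]
    rw [hq]
    exact Ideal.IsMaximal.map_of_surjective_of_ker_le (m := maximalIdeal (X'.presheaf.stalk z))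
      Ideal.Quotient.mk_surjective (by rw [Ideal.mk_ker]; exact hJle)
  haveI : Nontrivial (X'.presheaf.stalk z ⧸ J) := Ideal.Quotient.nontrivial_iff.mpr hJtop
  exact le_antisymm (Ring.krullDimLE_iff.mp h0) ringKrullDim_nonneg_of_nontrivial

theorem main [IsLocallyNoetherian S] (f : X ⟶ S) (g : X' ⟶ X) [Surjective g]
    (Y : Set ↥X) (hY : IsClosed Y) :
    (⨅ y' : (fun x' => g x') ⁻¹' Y, ringKrullDim ↑(CInt.fiberStalk (g ≫ f) y'.1)) ≤
      ⨅ y : Y, ringKrullDim ↑(CInt.fiberStalk f y.1) := by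
  refine le_iInf fun ⟨y, hy⟩ => ?_
  obtain ⟨y₀, rfl⟩ := g.surjective y
  obtain ⟨z, hz, hzmax⟩ := exists_maximal_in_fibre g y₀
  have hzY : z ∈ (fun x' => g x') ⁻¹' Y := by
    change g z ∈ Y
    rw [hz]; exact hy
  refine (iInf_le _ ⟨z, hzY⟩).trans ?_
  have h := dim_fiberStalk_comp_le f g z hzmax
  rw [hz] at h
  exact h

end Sch

end Groth.Agent.Lib.R2LeadFibCodimSurj
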