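import Mathlib

/-!
# Kernel/range/cokernel conditions after localization
-/

set_option autoImplicit false

namespace Groth.Agent.Lib.R2Lead.FibExact

section Loc

variable {S : Type*} [CommRing S] (p : Submonoid S) {A : Type*} [CommRing A] [Algebra S A]
  [IsLocalization p A]
  {Mc Mb Ma Nc Nb Na : Type*} [AddCommGroup Mc] [AddCommGroup Mb] [AddCommGroup Ma]
  [AddCommGroup Nc] [AddCommGroup Nb] [AddCommGroup Na]
  [Module S Mc] [Module S Mb] [Module S Ma] [Module S Nc] [Module S Nb] [Module S Na]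
  [Module A Nc] [Module A Nb] [Module A Na]
  [IsScalarTower S A Nc] [IsScalarTower S A Nb] [IsScalarTower S A Na]
  (fc : Mc →ₗ[S] Nc) (fb : Mb →ₗ[S] Nb) (fa : Ma →ₗ[S] Na)
  [IsLocalizedModule p fc] [IsLocalizedModule p fb] [IsLocalizedModule p fa]
  (φ : Mb →ₗ[S] Ma) (φ' : Mc →ₗ[S] Mb) (ψ : Nb →ₗ[A] Na) (ψ' : Nc →ₗ[A] Nb)

include p in
omit [IsLocalization p A] in
theorem mem_of_smul_mem [IsLocalization p A] {N : Type*} [AddCommGroup N] [Module S N]
    [Module A N] [IsScalarTower S A N] (W : Submodule A N) (s : p) (z : N)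
    (h : (s : S) • z ∈ W) : z ∈ W := by
  obtain ⟨u, hu⟩ := IsLocalization.map_units A s
  have h1 : z = ((u⁻¹ : Aˣ) : A) • ((s : S) • z) := by
    rw [← algebraMap_smul A (s : S) z, ← hu, smul_smul, Units.inv_mul, one_smul]
  rw [h1]
  exact W.smul_mem _ h

include fc fb fa in
theorem ker_le_range_iff (h : ∀ x, ψ (fb x) = fa (φ x)) (h' : ∀ x, ψ' (fc x) = fb (φ' x)) :
    LinearMap.ker ψ ≤ LinearMap.range ψ' ↔
      ∀ x ∈ LinearMap.ker φ, ∃ s : p, (s : S) • x ∈ LinearMap.range φ' := by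
  constructor
  · intro hle x hx
    have h1 : fb x ∈ LinearMap.ker ψ := by
      rw [LinearMap.mem_ker, h, LinearMap.mem_ker.mp hx, map_zero]
    obtain ⟨z, hz⟩ := hle h1
    obtain ⟨⟨y, t⟩, hyt⟩ := IsLocalizedModule.surj p fc z
    have h2 : fb ((t : S) • x) = fb (φ' y) := by
      rw [map_smul, ← hz, ← h', ← hyt, Submonoid.smul_def, LinearMap.map_smul_of_tower]
    obtain ⟨c, hc⟩ := IsLocalizedModule.exists_of_eq (S := p) h2
    refine ⟨c * t, (c : S) • y, ?_⟩
    rw [map_smul]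
    rw [Submonoid.smul_def, Submonoid.smul_def] at hc
    rw [← hc, Submonoid.coe_mul, mul_smul]
  · intro hall z hz
    obtain ⟨⟨x, t⟩, hxt⟩ := IsLocalizedModule.surj p fb z
    have hxt' : (t : S) • z = fb x := hxt
    have h1 : fa (φ x) = 0 := by
      rw [← h, ← hxt', LinearMap.map_smul_of_tower, LinearMap.mem_ker.mp hz, smul_zero]
    obtain ⟨s, hs⟩ := (IsLocalizedModule.eq_zero_iff p fa).mp h1
    have h2 : (s : S) • x ∈ LinearMap.ker φ := by
      rw [LinearMap.mem_ker, map_smul]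
      exact hs
    obtain ⟨s', y, hy⟩ := hall _ h2
    apply mem_of_smul_mem p (LinearMap.range ψ') (s' * s * t) z
    refine ⟨fc y, ?_⟩
    rw [h', hy, map_smul, map_smul, ← hxt', Submonoid.coe_mul, Submonoid.coe_mul, mul_smul,
      mul_smul]

include fb fa in
theorem injective_iff (h : ∀ x, ψ (fb x) = fa (φ x)) :
    Function.Injective ψ ↔ ∀ x ∈ LinearMap.ker φ, ∃ s : p, (s : S) • x = 0 := by
  constructor
  · intro hinj x hx
    have h1 : fb x = 0 := by
      apply hinj
      rw [h, LinearMap.mem_ker.mp hx, map_zero, map_zero]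
    exact (IsLocalizedModule.eq_zero_iff p fb).mp h1
  · intro hall
    rw [injective_iff_map_eq_zero]
    intro z hz
    obtain ⟨⟨x, t⟩, hxt⟩ := IsLocalizedModule.surj p fb z
    have hxt' : (t : S) • z = fb x := hxt
    have h1 : fa (φ x) = 0 := by
      rw [← h, ← hxt', LinearMap.map_smul_of_tower, hz, smul_zero]
    obtain ⟨s, hs⟩ := (IsLocalizedModule.eq_zero_iff p fa).mp h1
    have h2 : (s : S) • x ∈ LinearMap.ker φ := by
      rw [LinearMap.mem_ker, map_smul]
      exact hs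
    obtain ⟨s', hs'⟩ := hall _ h2
    have h3 : z ∈ (⊥ : Submodule A Nb) := by
      apply mem_of_smul_mem p ⊥ (s' * s * t) z
      rw [Submodule.mem_bot, Submonoid.coe_mul, Submonoid.coe_mul, mul_smul, mul_smul, hxt',
        ← map_smul, ← map_smul, hs', map_zero]
    exact (Submodule.mem_bot A).mp h3

include fb fa in
theorem localized'_range_eq (h : ∀ x, ψ (fb x) = fa (φ x)) :
    (LinearMap.range φ).localized' A p fa = LinearMap.range ψ := by
  ext y
  rw [Submodule.mem_localized']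
  constructor
  · rintro ⟨_, ⟨x, rfl⟩, s, hs⟩
    rw [IsLocalizedModule.mk'_eq_iff] at hs
    apply mem_of_smul_mem p (LinearMap.range ψ) s y
    refine ⟨fb x, ?_⟩
    rw [h, hs]
    rfl
  · rintro ⟨z, rfl⟩
    obtain ⟨⟨x, t⟩, hxt⟩ := IsLocalizedModule.surj p fb z
    have hxt' : (t : S) • z = fb x := hxt
    refine ⟨φ x, LinearMap.mem_range_self φ x, t, ?_⟩
    rw [IsLocalizedModule.mk'_eq_iff, ← h, ← hxt', LinearMap.map_smul_of_tower]
    rfl

include fb fa in
theorem flat_quot_range_iff (R : Type*) [CommRing R] [Algebra R S] [Algebra R A]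
    [IsScalarTower R S A] [Module R Ma] [IsScalarTower R S Ma] [Module R Na]
    [IsScalarTower R A Na] [IsScalarTower R S Na]
    (h : ∀ x, ψ (fb x) = fa (φ x)) :
    Module.Flat R (Na ⧸ LinearMap.range ψ) ↔
      Module.Flat R (LocalizedModule p (Ma ⧸ LinearMap.range φ)) := by
  have hr := localized'_range_eq p fb fa φ ψ h
  let e1 : LocalizedModule p (Ma ⧸ LinearMap.range φ) ≃ₗ[S]
      Na ⧸ (LinearMap.range φ).localized' A p fa :=
    IsLocalizedModule.iso p ((LinearMap.range φ).toLocalizedQuotient' A p fa)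
  let e2 : (Na ⧸ (LinearMap.range φ).localized' A p fa) ≃ₗ[A] Na ⧸ LinearMap.range ψ :=
    Submodule.quotEquivOfEq _ _ hr
  let e : LocalizedModule p (Ma ⧸ LinearMap.range φ) ≃ₗ[R] Na ⧸ LinearMap.range ψ :=
    (e1.restrictScalars R).trans (e2.restrictScalars R)
  exact (Module.Flat.equiv_iff e).symm

end Loc

end Groth.Agent.Lib.R2Lead.FibExact
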