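import Mathlib
import Groth.Agent.Lib.Helper5LocalFlat2
import Groth.Agent.Lib.Helper22FlatExact
import Groth.Agent.Lib.Helper22PoMapAlg2

/-!
# Fibrewise exactness of a complex of finite flat modules (local form)
-/

set_option autoImplicit false
universe u v w

namespace Groth.Agent.Lib.R2Lead.FibExact

section General

variable {R : Type*} [CommRing R] {A : Type*} [CommRing A] [Algebra R A]

/-- membership in `I A • ⊤` (over `A`) versus `I • ⊤` (over `R`). -/
theorem mem_map_smul_top_iff {N : Type*} [AddCommGroup N] [Module A N] [Module R N]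
    [IsScalarTower R A N] (I : Ideal R) (n : N) :
    n ∈ (I.map (algebraMap R A) • ⊤ : Submodule A N) ↔ n ∈ (I • ⊤ : Submodule R N) := by
  have h := Ideal.smul_restrictScalars (S := A) I (⊤ : Submodule A N)
  rw [Submodule.restrictScalars_top] at h
  rw [← h, Submodule.restrictScalars_mem]

/-- up step: if `L₀ / range f` is `R`-flat, then `f x ∈ I L₀` implies `x ∈ ker f + I L₁`. -/
theorem exists_sub_mem_ker_of_flat {L₁ L₀ : Type*} [AddCommGroup L₁] [AddCommGroup L₀]
    [Module A L₁] [Module A L₀] [Module R L₁] [Module R L₀] [IsScalarTower R A L₁]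
    [IsScalarTower R A L₀] (f : L₁ →ₗ[A] L₀) [Module.Flat R (L₀ ⧸ LinearMap.range f)]
    (I : Ideal R) (x : L₁)
    (hx : f x ∈ (I.map (algebraMap R A) • ⊤ : Submodule A L₀)) :
    ∃ y ∈ (I.map (algebraMap R A) • ⊤ : Submodule A L₁), f (x - y) = 0 := by
  rw [mem_map_smul_top_iff] at hx
  let π : L₀ →ₗ[R] (L₀ ⧸ LinearMap.range f) := (LinearMap.range f).mkQ.restrictScalars R
  have hπ : Function.Surjective π := Submodule.mkQ_surjective _
  have h0 : π (f x) = 0 := by
    change (LinearMap.range f).mkQ (f x) = 0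
    rw [Submodule.mkQ_apply, Submodule.Quotient.mk_eq_zero]
    exact LinearMap.mem_range_self f x
  have h1 := Groth.Agent.Lib.Helper22.PoMap2.mem_smul_ker_of_flat π hπ I (f x) h0 hx
  have hker : LinearMap.ker π = LinearMap.range (f.restrictScalars R) := by
    ext z
    rw [LinearMap.mem_ker]
    change (LinearMap.range f).mkQ z = 0 ↔ _
    rw [Submodule.mkQ_apply, Submodule.Quotient.mk_eq_zero]
    rfl
  rw [hker, LinearMap.range_eq_map, ← Submodule.map_smul''] at h1
  obtain ⟨y, hy, hyx⟩ := h1
  refine ⟨y, (mem_map_smul_top_iff I y).mpr hy, ?_⟩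
  rw [map_sub, sub_eq_zero]
  exact hyx.symm

/-- flatness of the next cokernel. -/
theorem flat_quot_range_succ {L₂ L₁ L₀ : Type*} [AddCommGroup L₂] [AddCommGroup L₁]
    [AddCommGroup L₀] [Module A L₂] [Module A L₁] [Module A L₀] [Module R L₁] [Module R L₀]
    [IsScalarTower R A L₁] [IsScalarTower R A L₀] (g : L₂ →ₗ[A] L₁) (f : L₁ →ₗ[A] L₀)
    (hex : LinearMap.ker f = LinearMap.range g) [Module.Flat R L₀]
    [Module.Flat R (L₀ ⧸ LinearMap.range f)] : Module.Flat R (L₁ ⧸ LinearMap.range g) := by
  have h1 : Module.Flat R (LinearMap.range f) :=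
    Groth.Agent.Lib.Helper22.flat_of_exact_of_flat_flat
      ((LinearMap.range f).subtype.restrictScalars R)
      ((LinearMap.range f).mkQ.restrictScalars R) (Submodule.subtype_injective _)
      (Submodule.mkQ_surjective _) (LinearMap.exact_subtype_mkQ _)
  have e1 : (L₁ ⧸ LinearMap.range g) ≃ₗ[A] LinearMap.range f :=
    (Submodule.quotEquivOfEq _ _ hex.symm).trans f.quotKerEquivRange
  exact Module.Flat.of_linearEquiv (e1.restrictScalars R)

end General

section Local

variable {R : Type*} [CommRing R] [IsLocalRing R] {A : Type*} [CommRing A] [IsLocalRing A]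
  [IsNoetherianRing A] [Algebra R A] [IsLocalHom (algebraMap R A)]

/-- down step (Stacks 00ME applied to `L₁ / range g → L₀`). -/
theorem ker_le_range_and_flat {L₂ L₁ L₀ : Type*} [AddCommGroup L₂] [AddCommGroup L₁]
    [AddCommGroup L₀] [Module A L₂] [Module A L₁] [Module A L₀] [Module R L₁] [Module R L₀]
    [IsScalarTower R A L₁] [IsScalarTower R A L₀] [Module.Finite A L₁] [Module.Flat R L₀]
    (g : L₂ →ₗ[A] L₁) (f : L₁ →ₗ[A] L₀) (hfg : f ∘ₗ g = 0)
    (h : ∀ x : L₁, f x ∈ ((IsLocalRing.maximalIdeal R).map (algebraMap R A) • ⊤ : Submodule A L₀) →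
      ∃ y : L₂, x - g y ∈
        ((IsLocalRing.maximalIdeal R).map (algebraMap R A) • ⊤ : Submodule A L₁)) :
    LinearMap.ker f ≤ LinearMap.range g ∧ Module.Flat R (L₀ ⧸ LinearMap.range f) := by
  have hle : LinearMap.range g ≤ LinearMap.ker f := by
    rintro _ ⟨y, rfl⟩
    rw [LinearMap.mem_ker, ← LinearMap.comp_apply, hfg, LinearMap.zero_apply]
  let uA : (L₁ ⧸ LinearMap.range g) →ₗ[A] L₀ := (LinearMap.range g).liftQ f hle
  let u : (L₁ ⧸ LinearMap.range g) →ₗ[R] L₀ := uA.restrictScalars R
  have hu : Function.Injective (u.lTensor (R ⧸ IsLocalRing.maximalIdeal R)) := by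
    rw [Groth.Agent.Lib.Helper5.lTensor_quotient_injective_iff]
    intro n hn
    obtain ⟨x, rfl⟩ := Submodule.Quotient.mk_surjective _ n
    have hn' : f x ∈ (IsLocalRing.maximalIdeal R • ⊤ : Submodule R L₀) := hn
    rw [← mem_map_smul_top_iff (A := A)] at hn'
    obtain ⟨y, hy⟩ := h x hn'
    rw [← mem_map_smul_top_iff (A := A)]
    have h2 : (Submodule.Quotient.mk x : L₁ ⧸ LinearMap.range g)
        = (LinearMap.range g).mkQ (x - g y) := by
      rw [Submodule.mkQ_apply, Submodule.Quotient.eq]
      rw [sub_sub_cancel]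
      exact LinearMap.mem_range_self g y
    rw [h2]
    have h3 : ((IsLocalRing.maximalIdeal R).map (algebraMap R A) • ⊤ : Submodule A L₁).map
        (LinearMap.range g).mkQ ≤
        ((IsLocalRing.maximalIdeal R).map (algebraMap R A) • ⊤ :
          Submodule A (L₁ ⧸ LinearMap.range g)) := by
      rw [Submodule.map_smul'']
      exact Submodule.smul_mono le_rfl le_top
    exact h3 (Submodule.mem_map_of_mem hy)
  obtain ⟨hinj, hflat⟩ :=
    Groth.Agent.Lib.Helper5.injective_and_flat_of_lTensor_residue_injective A u hu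
  constructor
  · intro x hx
    have : u (Submodule.Quotient.mk x) = 0 := hx
    have h2 := hinj (this.trans (map_zero u).symm)
    exact (Submodule.Quotient.mk_eq_zero _).mp h2
  · have hr : LinearMap.range u = (LinearMap.range f).restrictScalars R := by
      ext z
      constructor
      · rintro ⟨n, rfl⟩
        obtain ⟨x, rfl⟩ := Submodule.Quotient.mk_surjective _ n
        exact LinearMap.mem_range_self f x
      · rintro ⟨x, rfl⟩
        exact ⟨Submodule.Quotient.mk x, rfl⟩
    have e1 : (L₀ ⧸ LinearMap.range u) ≃ₗ[R] (L₀ ⧸ LinearMap.range f) :=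
      (Submodule.quotEquivOfEq _ _ hr).trans
        (Submodule.Quotient.restrictScalarsEquiv R (LinearMap.range f))
    exact Module.Flat.of_linearEquiv e1.symm

end Local

section Family

variable {R : Type*} [CommRing R] [IsLocalRing R] {A : Type*} [CommRing A] [IsLocalRing A]
  [IsNoetherianRing A] [Algebra R A] [IsLocalHom (algebraMap R A)]
  (L : ℕ → Type*) [∀ i, AddCommGroup (L i)] [∀ i, Module A (L i)] [∀ i, Module R (L i)]
  [∀ i, IsScalarTower R A (L i)] [∀ i, Module.Finite A (L i)] [∀ i, Module.Flat R (L i)]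
  (d : ∀ i, L (i + 1) →ₗ[A] L i)

/-- Local form: for a complex `0 → L (e'+1) → ⋯ → L 1 → L 0` of finite `A`-modules flat over
`R`, exactness modulo `m_R A` in degrees `1, …, e'+1` is equivalent to exactness in these degrees
together with `R`-flatness of the cokernel of `L 1 → L 0`. -/
theorem local_iff (e' : ℕ) (hd : ∀ i, i < e' → d i ∘ₗ d (i + 1) = 0) :
    ((∀ i, i < e' → ∀ x : L (i + 1),
        d i x ∈ ((IsLocalRing.maximalIdeal R).map (algebraMap R A) • ⊤ : Submodule A (L i)) →
        ∃ y : L (i + 1 + 1), x - d (i + 1) y ∈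
          ((IsLocalRing.maximalIdeal R).map (algebraMap R A) • ⊤ : Submodule A (L (i + 1)))) ∧
     (∀ x : L (e' + 1),
        d e' x ∈ ((IsLocalRing.maximalIdeal R).map (algebraMap R A) • ⊤ : Submodule A (L e')) →
        x ∈ ((IsLocalRing.maximalIdeal R).map (algebraMap R A) • ⊤ :
          Submodule A (L (e' + 1))))) ↔
    ((∀ i, i < e' → LinearMap.ker (d i) ≤ LinearMap.range (d (i + 1))) ∧
      Function.Injective (d e') ∧ Module.Flat R (L 0 ⧸ LinearMap.range (d 0))) := by
  constructor
  · rintro ⟨hA, hB⟩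
    have hlast := ker_le_range_and_flat (R := R) (0 : L (e' + 1) →ₗ[A] L (e' + 1)) (d e')
      (LinearMap.comp_zero _) (fun x hx => ⟨0, by
        rw [LinearMap.zero_apply, sub_zero]
        exact hB x hx⟩)
    refine ⟨fun i hi => (ker_le_range_and_flat (R := R) (d (i + 1)) (d i) (hd i hi) (hA i hi)).1,
      ?_, ?_⟩
    · rw [← LinearMap.ker_eq_bot, eq_bot_iff]
      refine hlast.1.trans ?_
      rw [LinearMap.range_zero]
    · rcases Nat.eq_zero_or_pos e' with h0 | hpos
      · subst h0
        exact hlast.2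
      · exact (ker_le_range_and_flat (R := R) (d (0 + 1)) (d 0) (hd 0 hpos) (hA 0 hpos)).2
  · rintro ⟨hA, hB, hC⟩
    have hflat : ∀ i, i ≤ e' → Module.Flat R (L i ⧸ LinearMap.range (d i)) := by
      intro i
      induction i with
      | zero => exact fun _ => hC
      | succ i ih =>
        intro hi
        haveI := ih (Nat.le_of_succ_le hi)
        have hex : LinearMap.ker (d i) = LinearMap.range (d (i + 1)) := by
          apply le_antisymm (hA i hi)
          rintro _ ⟨y, rfl⟩
          rw [LinearMap.mem_ker, ← LinearMap.comp_apply, hd i hi, LinearMap.zero_apply]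
        exact flat_quot_range_succ (R := R) (d (i + 1)) (d i) hex
    constructor
    · intro i hi x hx
      haveI := hflat i hi.le
      obtain ⟨y, hy, hxy⟩ := exists_sub_mem_ker_of_flat (R := R) (d i) _ x hx
      obtain ⟨z, hz⟩ := hA i hi hxy
      refine ⟨z, ?_⟩
      rw [hz, sub_sub_cancel]
      exact hy
    · intro x hx
      haveI := hflat e' le_rfl
      obtain ⟨y, hy, hxy⟩ := exists_sub_mem_ker_of_flat (R := R) (d e') _ x hx
      have h0 : x - y = 0 := hB (hxy.trans (map_zero _).symm)
      rw [sub_eq_zero.mp h0]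
      exact hy

end Family

end Groth.Agent.Lib.R2Lead.FibExact
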