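import Mathlib

/-!
# Matrices modulo an ideal
-/

set_option autoImplicit false

namespace Groth.Agent.Lib.R2Lead.FibExact

section Mat

variable {A : Type*} [CommRing A]

/-- `ρ ∘ (M *ᵥ x) = M.map ρ *ᵥ (ρ ∘ x)`. -/
theorem comp_mulVec {B : Type*} [CommRing B] (ρ : A →+* B) {a b : ℕ}
    (ψ : Matrix (Fin a) (Fin b) A) (x : Fin b → A) :
    (ψ.map ρ).mulVec (ρ ∘ x) = ρ ∘ (ψ.mulVec x) := by
  funext i
  exact (RingHom.map_mulVec ρ ψ x i).symm

theorem mem_smul_top_pi_iff (J : Ideal A) (k : ℕ) (x : Fin k → A) :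
    x ∈ (J • ⊤ : Submodule A (Fin k → A)) ↔ ∀ j, x j ∈ J := by
  constructor
  · intro hx
    refine Submodule.smul_induction_on hx ?_ ?_
    · intro r hr n _ j
      rw [Pi.smul_apply, smul_eq_mul]
      exact J.mul_mem_right _ hr
    · intro y z hy hz j
      rw [Pi.add_apply]
      exact J.add_mem (hy j) (hz j)
  · intro hx
    rw [pi_eq_sum_univ x]
    refine Submodule.sum_mem _ fun j _ => ?_
    exact Submodule.smul_mem_smul (hx j) Submodule.mem_top

theorem mk_comp_eq_zero_iff (J : Ideal A) (k : ℕ) (x : Fin k → A) :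
    (Ideal.Quotient.mk J) ∘ x = 0 ↔ x ∈ (J • ⊤ : Submodule A (Fin k → A)) := by
  rw [mem_smul_top_pi_iff]
  constructor
  · intro h j
    have := congrFun h j
    rwa [Function.comp_apply, Pi.zero_apply, Ideal.Quotient.eq_zero_iff_mem] at this
  · intro h
    funext j
    rw [Function.comp_apply, Pi.zero_apply, Ideal.Quotient.eq_zero_iff_mem]
    exact h j

theorem exists_mk_comp_eq (J : Ideal A) (k : ℕ) (v : Fin k → A ⧸ J) :
    ∃ x : Fin k → A, (Ideal.Quotient.mk J) ∘ x = v := by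
  choose x hx using fun j => Ideal.Quotient.mk_surjective (v j)
  exact ⟨x, funext hx⟩

/-- exactness modulo `J` in terms of lifts. -/
theorem ker_eq_range_mod_iff (J : Ideal A) {a b c : ℕ} (ψ : Matrix (Fin a) (Fin b) A)
    (ψ' : Matrix (Fin b) (Fin c) A) (h0 : ψ * ψ' = 0) :
    LinearMap.ker (Matrix.mulVecLin (ψ.map (Ideal.Quotient.mk J))) =
        LinearMap.range (Matrix.mulVecLin (ψ'.map (Ideal.Quotient.mk J))) ↔
      ∀ x : Fin b → A, Matrix.mulVecLin ψ x ∈ (J • ⊤ : Submodule A (Fin a → A)) →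
        ∃ y : Fin c → A, x - Matrix.mulVecLin ψ' y ∈ (J • ⊤ : Submodule A (Fin b → A)) := by
  constructor
  · intro h x hx
    have h1 : (Ideal.Quotient.mk J) ∘ x ∈
        LinearMap.ker (Matrix.mulVecLin (ψ.map (Ideal.Quotient.mk J))) := by
      rw [LinearMap.mem_ker, Matrix.mulVecLin_apply, comp_mulVec, mk_comp_eq_zero_iff]
      exact hx
    rw [h] at h1
    obtain ⟨v, hv⟩ := h1
    obtain ⟨y, rfl⟩ := exists_mk_comp_eq J c v
    refine ⟨y, ?_⟩
    rw [← mk_comp_eq_zero_iff]
    rw [Matrix.mulVecLin_apply, comp_mulVec] at hv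
    funext j
    have := congrFun hv j
    simp only [Function.comp_apply, Pi.sub_apply, Pi.zero_apply, map_sub, Matrix.mulVecLin_apply]
      at this ⊢
    rw [this, sub_self]
  · intro h
    apply le_antisymm
    · intro v hv
      obtain ⟨x, rfl⟩ := exists_mk_comp_eq J b v
      rw [LinearMap.mem_ker, Matrix.mulVecLin_apply, comp_mulVec, mk_comp_eq_zero_iff] at hv
      obtain ⟨y, hy⟩ := h x hv
      refine ⟨(Ideal.Quotient.mk J) ∘ y, ?_⟩
      rw [Matrix.mulVecLin_apply, comp_mulVec]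
      rw [← mk_comp_eq_zero_iff] at hy
      funext j
      have := congrFun hy j
      simp only [Function.comp_apply, Pi.sub_apply, Pi.zero_apply, map_sub,
        Matrix.mulVecLin_apply] at this ⊢
      exact (sub_eq_zero.mp this).symm
    · rintro _ ⟨v, rfl⟩
      rw [LinearMap.mem_ker, ← LinearMap.comp_apply, ← Matrix.mulVecLin_mul, ← Matrix.map_mul,
        h0, Matrix.map_zero _ (map_zero _), Matrix.mulVecLin_zero, LinearMap.zero_apply]

/-- injectivity modulo `J` in terms of lifts. -/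
theorem injective_mod_iff (J : Ideal A) {a b : ℕ} (ψ : Matrix (Fin a) (Fin b) A) :
    Function.Injective (Matrix.mulVecLin (ψ.map (Ideal.Quotient.mk J))) ↔
      ∀ x : Fin b → A, Matrix.mulVecLin ψ x ∈ (J • ⊤ : Submodule A (Fin a → A)) →
        x ∈ (J • ⊤ : Submodule A (Fin b → A)) := by
  rw [injective_iff_map_eq_zero]
  constructor
  · intro h x hx
    rw [← mk_comp_eq_zero_iff]
    apply h
    rw [Matrix.mulVecLin_apply, comp_mulVec, mk_comp_eq_zero_iff]
    exact hx
  · intro h v hv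
    obtain ⟨x, rfl⟩ := exists_mk_comp_eq J b v
    rw [Matrix.mulVecLin_apply, comp_mulVec, mk_comp_eq_zero_iff] at hv
    rw [mk_comp_eq_zero_iff]
    exact h x hv

end Mat

end Groth.Agent.Lib.R2Lead.FibExact
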