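import Mathlib
import Groth.Agent.Lib.R2LeadFibExactLocal
import Groth.Agent.Lib.R2LeadFibExactMat
import Groth.Agent.Lib.R2LeadFibExactLoc
import Groth.Agent.S0387
import Groth.Prelude.Def_EGA4b

set_option autoImplicit false
universe u

namespace Groth.Agent.Lib.R2Lead.FibExact

section OpenSub

theorem isOpen_setOf_forall_exists_smul_mem {S M : Type*} [CommRing S] [AddCommGroup M]
    [Module S M] (K W : Submodule S M) (hK : K.FG) :
    IsOpen {q : PrimeSpectrum S | ∀ x ∈ K, ∃ s : q.asIdeal.primeCompl, (s : S) • x ∈ W} := by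
  classical
  rw [isOpen_iff_forall_mem_open]
  intro q hq
  obtain ⟨t, ht⟩ := hK
  have hex : ∀ x : M, ∃ s : S, s ∉ q.asIdeal ∧ (x ∈ t → s • x ∈ W) := by
    intro x
    by_cases hx : x ∈ t
    · obtain ⟨s, hs⟩ := hq x (ht ▸ Submodule.subset_span hx)
      exact ⟨s, s.2, fun _ => hs⟩
    · exact ⟨1, (Ideal.ne_top_iff_one _).mp q.2.ne_top, fun h => absurd h hx⟩
  choose g hg1 hg2 using hex
  set s : S := ∏ x ∈ t, g x with hs
  have hsq : s ∉ q.asIdeal := by
    rw [hs, Ideal.IsPrime.prod_mem_iff]
    push_neg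
    exact fun x _ => hg1 x
  refine ⟨(PrimeSpectrum.basicOpen s : Set (PrimeSpectrum S)), ?_, (PrimeSpectrum.basicOpen s).2,
    hsq⟩
  intro q' hq' x hx
  refine ⟨⟨s, hq'⟩, ?_⟩
  have hle : K ≤ W.comap (LinearMap.lsmul S M s) := by
    rw [← ht, Submodule.span_le]
    intro y hy
    rw [SetLike.mem_coe, Submodule.mem_comap, LinearMap.lsmul_apply, hs,
      ← Finset.mul_prod_erase t g hy, mul_comm, mul_smul]
    exact W.smul_mem _ (hg2 y hy)
  exact hle hx

end OpenSub

end Groth.Agent.Lib.R2Lead.FibExact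

namespace Groth.Agent.Lib.R2Lead.FibExact

section VecLoc

variable {S : Type*} [CommRing S] (A : Type*) [CommRing A] [Algebra S A]

/-- the coordinatewise map `S^k → A^k`. -/
noncomputable def vecLoc (k : ℕ) : (Fin k → S) →ₗ[S] (Fin k → A) :=
  LinearMap.pi fun j => Algebra.linearMap S A ∘ₗ LinearMap.proj j

instance (p : Submonoid S) [IsLocalization p A] (k : ℕ) : IsLocalizedModule p (vecLoc A k) :=
  IsLocalizedModule.pi p fun _ => Algebra.linearMap S A

theorem vecLoc_apply (k : ℕ) (x : Fin k → S) : vecLoc A k x = algebraMap S A ∘ x := rfl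

theorem mulVecLin_map_vecLoc {a b : ℕ} (φ : Matrix (Fin a) (Fin b) S) (x : Fin b → S) :
    Matrix.mulVecLin (φ.map (algebraMap S A)) (vecLoc A b x) =
      vecLoc A a (Matrix.mulVecLin φ x) := by
  rw [vecLoc_apply, vecLoc_apply, Matrix.mulVecLin_apply, Matrix.mulVecLin_apply]
  exact comp_mulVec (algebraMap S A) φ x

end VecLoc

end Groth.Agent.Lib.R2Lead.FibExact

namespace Groth.Agent.Lib.R2Lead.FibExact

section PerPrime

variable {R S : Type u} [CommRing R] [CommRing S] [Algebra R S] [IsNoetherianRing S]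
  [Module.Flat R S] (q : PrimeSpectrum S) (e' : ℕ) (n : ℕ → ℕ)
  (φ : (i : ℕ) → Matrix (Fin (n i)) (Fin (n (i + 1))) S)

theorem fibre_cond_iff (hφ : ∀ i, i < e' → φ i * φ (i + 1) = 0) :
    ((∀ i, i < e' →
        LinearMap.ker (Matrix.mulVecLin
          ((φ i).map (algebraMap S (EGA4.FibLocRing R S q.asIdeal)))) =
        LinearMap.range (Matrix.mulVecLin
          ((φ (i + 1)).map (algebraMap S (EGA4.FibLocRing R S q.asIdeal))))) ∧
      Function.Injective (Matrix.mulVecLin
        ((φ e').map (algebraMap S (EGA4.FibLocRing R S q.asIdeal))))) ↔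
    ((∀ i, i < e' → ∀ x ∈ LinearMap.ker (Matrix.mulVecLin (φ i)),
        ∃ s : q.asIdeal.primeCompl, (s : S) • x ∈ LinearMap.range (Matrix.mulVecLin (φ (i + 1)))) ∧
     (∀ x ∈ LinearMap.ker (Matrix.mulVecLin (φ e')),
        ∃ s : q.asIdeal.primeCompl, (s : S) • x = 0) ∧
     Module.Flat R (LocalizedModule q.asIdeal.primeCompl
        ((Fin (n 0) → S) ⧸ LinearMap.range (Matrix.mulVecLin (φ 0))))) := by
  set Q : Ideal S := q.asIdeal with hQ
  set P : Ideal R := Q.comap (algebraMap R S) with hP
  have hlies : Q.LiesOver P := ⟨rfl⟩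
  letI alg := Localization.AtPrime.algebraOfLiesOver P Q
  have hloc : IsLocalHom (algebraMap (Localization.AtPrime P) (Localization.AtPrime Q)) := by
    rw [RingHom.algebraMap_toAlgebra]
    exact Localization.isLocalHom_localRingHom P Q (algebraMap R S) Ideal.LiesOver.over
  have hflatB : Module.Flat S (Localization.AtPrime Q) := IsLocalization.flat _ Q.primeCompl
  have hflatA : Module.Flat R (Localization.AtPrime Q) := Module.Flat.trans R S _
  have hflat : Module.Flat (Localization.AtPrime P) (Localization.AtPrime Q) :=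
    (Module.flat_iff_of_isLocalization (Localization.AtPrime P) P.primeCompl _).mpr hflatA
  have hJ : P.map (algebraMap R (Localization.AtPrime Q)) =
      (IsLocalRing.maximalIdeal (Localization.AtPrime P)).map
        (algebraMap (Localization.AtPrime P) (Localization.AtPrime Q)) := by
    rw [← IsLocalization.AtPrime.map_eq_maximalIdeal P (Localization.AtPrime P), Ideal.map_map,
      ← IsScalarTower.algebraMap_eq]
  have hnoeth : IsNoetherianRing (Localization.AtPrime Q) :=
    IsLocalization.isNoetherianRing Q.primeCompl _ inferInstance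
  set A := Localization.AtPrime Q with hA
  set Rp := Localization.AtPrime P with hRp
  set ψ : (i : ℕ) → Matrix (Fin (n i)) (Fin (n (i + 1))) A :=
    fun i => (φ i).map (algebraMap S A) with hψdef
  have hmap : ∀ i, (φ i).map (algebraMap S (EGA4.FibLocRing R S Q)) =
      (ψ i).map (Ideal.Quotient.mk (P.map (algebraMap R A))) := by
    intro i
    rw [hψdef, Matrix.map_map]
    rfl
  have hψ : ∀ i, i < e' → ψ i * ψ (i + 1) = 0 := by
    intro i hi
    rw [hψdef, ← Matrix.map_mul, hφ i hi, Matrix.map_zero _ (map_zero _)]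
  haveI : ∀ i, Module.Flat Rp (Fin (n i) → A) := fun i => Module.Flat.trans Rp A _
  have step1 : ((∀ i, i < e' →
        LinearMap.ker (Matrix.mulVecLin
          ((φ i).map (algebraMap S (EGA4.FibLocRing R S Q)))) =
        LinearMap.range (Matrix.mulVecLin
          ((φ (i + 1)).map (algebraMap S (EGA4.FibLocRing R S Q))))) ∧
      Function.Injective (Matrix.mulVecLin
        ((φ e').map (algebraMap S (EGA4.FibLocRing R S Q))))) ↔
      ((∀ i, i < e' → ∀ x : Fin (n (i + 1)) → A,
        Matrix.mulVecLin (ψ i) x ∈ (P.map (algebraMap R A) • ⊤ : Submodule A (Fin (n i) → A)) →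
        ∃ y : Fin (n (i + 1 + 1)) → A, x - Matrix.mulVecLin (ψ (i + 1)) y ∈
          (P.map (algebraMap R A) • ⊤ : Submodule A (Fin (n (i + 1)) → A))) ∧
      (∀ x : Fin (n (e' + 1)) → A,
        Matrix.mulVecLin (ψ e') x ∈ (P.map (algebraMap R A) • ⊤ : Submodule A (Fin (n e') → A)) →
        x ∈ (P.map (algebraMap R A) • ⊤ : Submodule A (Fin (n (e' + 1)) → A)))) := by
    refine and_congr (forall_congr' fun i => forall_congr' fun hi => ?_) ?_
    · rw [hmap, hmap]
      exact ker_eq_range_mod_iff _ _ _ (hψ i hi)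
    · rw [hmap]
      exact injective_mod_iff _ _
  have step2 := local_iff (R := Rp) (A := A) (fun i => Fin (n i) → A)
    (fun i => Matrix.mulVecLin (ψ i)) e' (by
      intro i hi
      rw [← Matrix.mulVecLin_mul, hψ i hi, Matrix.mulVecLin_zero])
  rw [← hJ] at step2
  rw [step1]
  refine step2.trans ?_
  refine and_congr (forall_congr' fun i => forall_congr' fun hi => ?_) (and_congr ?_ ?_)
  · exact ker_le_range_iff Q.primeCompl (vecLoc A (n (i + 1 + 1))) (vecLoc A (n (i + 1)))
      (vecLoc A (n i)) (Matrix.mulVecLin (φ i)) (Matrix.mulVecLin (φ (i + 1)))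
      (Matrix.mulVecLin (ψ i)) (Matrix.mulVecLin (ψ (i + 1)))
      (mulVecLin_map_vecLoc A (φ i)) (mulVecLin_map_vecLoc A (φ (i + 1)))
  · exact injective_iff Q.primeCompl (vecLoc A (n (e' + 1))) (vecLoc A (n e'))
      (Matrix.mulVecLin (φ e')) (Matrix.mulVecLin (ψ e')) (mulVecLin_map_vecLoc A (φ e'))
  · rw [Module.flat_iff_of_isLocalization Rp P.primeCompl]
    exact flat_quot_range_iff Q.primeCompl (vecLoc A (n (0 + 1))) (vecLoc A (n 0))
      (Matrix.mulVecLin (φ 0)) (Matrix.mulVecLin (ψ 0)) R (mulVecLin_map_vecLoc A (φ 0))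

end PerPrime

end Groth.Agent.Lib.R2Lead.FibExact

namespace Groth.Agent.Lib.R2Lead.FibExact

section Main

theorem main (R S : Type u) [CommRing R] [IsNoetherianRing R] [CommRing S]
    [Algebra R S] [Algebra.FiniteType R S] [Module.Flat R S]
    (e : ℕ) (n : ℕ → ℕ) (φ : (i : ℕ) → Matrix (Fin (n i)) (Fin (n (i + 1))) S)
    (hφ : ∀ i, i + 2 ≤ e → φ i * φ (i + 1) = 0) :
    IsOpen {q : PrimeSpectrum S |
      (∀ i, i + 2 ≤ e →
        LinearMap.ker (Matrix.mulVecLin ((φ i).map (algebraMap S (EGA4.FibLocRing R S q.asIdeal)))) =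
          LinearMap.range (Matrix.mulVecLin ((φ (i + 1)).map (algebraMap S (EGA4.FibLocRing R S q.asIdeal))))) ∧
      (1 ≤ e → Function.Injective
        (Matrix.mulVecLin ((φ (e - 1)).map (algebraMap S (EGA4.FibLocRing R S q.asIdeal)))))} := by
  rcases e with _ | e'
  · convert isOpen_univ
    ext q
    simp
  · haveI : IsNoetherianRing S := Algebra.FiniteType.isNoetherianRing R S
    haveI : Algebra.FinitePresentation R S := Algebra.FinitePresentation.of_finiteType.mp ‹_›
    have hset : {q : PrimeSpectrum S |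
      (∀ i, i + 2 ≤ e' + 1 →
        LinearMap.ker (Matrix.mulVecLin ((φ i).map (algebraMap S (EGA4.FibLocRing R S q.asIdeal)))) =
          LinearMap.range (Matrix.mulVecLin ((φ (i + 1)).map (algebraMap S (EGA4.FibLocRing R S q.asIdeal))))) ∧
      (1 ≤ e' + 1 → Function.Injective
        (Matrix.mulVecLin ((φ (e' + 1 - 1)).map (algebraMap S (EGA4.FibLocRing R S q.asIdeal)))))} =
      {q : PrimeSpectrum S | ((∀ i, i < e' → ∀ x ∈ LinearMap.ker (Matrix.mulVecLin (φ i)),
        ∃ s : q.asIdeal.primeCompl, (s : S) • x ∈ LinearMap.range (Matrix.mulVecLin (φ (i + 1)))) ∧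
       (∀ x ∈ LinearMap.ker (Matrix.mulVecLin (φ e')),
        ∃ s : q.asIdeal.primeCompl, (s : S) • x = 0) ∧
       Module.Flat R (LocalizedModule q.asIdeal.primeCompl
        ((Fin (n 0) → S) ⧸ LinearMap.range (Matrix.mulVecLin (φ 0)))))} := by
      ext q
      simp only [Set.mem_setOf_eq]
      rw [← fibre_cond_iff q e' n φ (fun i hi => hφ i (by omega))]
      refine and_congr (forall_congr' fun i => ?_) ?_
      · constructor <;> intro h hi <;> exact h (by omega)
      · constructor
        · intro h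
          exact h (by omega)
        · intro h _
          exact h
    rw [hset]
    have h1 : ∀ i, IsOpen {q : PrimeSpectrum S | ∀ x ∈ LinearMap.ker (Matrix.mulVecLin (φ i)),
        ∃ s : q.asIdeal.primeCompl,
          (s : S) • x ∈ LinearMap.range (Matrix.mulVecLin (φ (i + 1)))} := fun i =>
      isOpen_setOf_forall_exists_smul_mem _ _ (IsNoetherian.noetherian _)
    have h2 : IsOpen {q : PrimeSpectrum S | ∀ x ∈ LinearMap.ker (Matrix.mulVecLin (φ e')),
        ∃ s : q.asIdeal.primeCompl, (s : S) • x = 0} := by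
      have := isOpen_setOf_forall_exists_smul_mem (LinearMap.ker (Matrix.mulVecLin (φ e'))) ⊥
        (IsNoetherian.noetherian _)
      simpa only [Submodule.mem_bot] using this
    haveI : Module.FinitePresentation S
        ((Fin (n 0) → S) ⧸ LinearMap.range (Matrix.mulVecLin (φ 0))) :=
      Module.finitePresentation_of_finite S _
    have h3 : IsOpen {q : PrimeSpectrum S | Module.Flat R (LocalizedModule q.asIdeal.primeCompl
        ((Fin (n 0) → S) ⧸ LinearMap.range (Matrix.mulVecLin (φ 0))))} :=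
      Groth.Agent.S0387.result (R := R) (S := S)
        (M := (Fin (n 0) → S) ⧸ LinearMap.range (Matrix.mulVecLin (φ 0)))
    have hfin : IsOpen (⋂ i ∈ Finset.range e', {q : PrimeSpectrum S |
        ∀ x ∈ LinearMap.ker (Matrix.mulVecLin (φ i)), ∃ s : q.asIdeal.primeCompl,
          (s : S) • x ∈ LinearMap.range (Matrix.mulVecLin (φ (i + 1)))}) :=
      isOpen_biInter_finset fun i _ => h1 i
    convert (hfin.inter h2).inter h3 using 1
    ext q
    simp only [Set.mem_setOf_eq, Set.mem_inter_iff, Set.mem_iInter, Finset.mem_range, and_assoc]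

end Main

end Groth.Agent.Lib.R2Lead.FibExact
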