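import Mathlib
import Groth.Agent.Lib.R2H3FibrePd
import Groth.Agent.Lib.Helper13Devissage

set_option autoImplicit false
set_option linter.unusedVariables false
set_option linter.unusedSectionVars false
universe u
open CategoryTheory Limits TensorProduct

namespace Groth.Agent.Lib.R2Lead.FibUSC

open Groth.Agent.Lib.R2H3.FibrePd Groth.Agent.Lib.R2H3.FlatSyz

attribute [local instance] Algebra.TensorProduct.rightAlgebra

section inj

variable (A : Type u) {B : Type u} [CommRing A] [CommRing B] [Algebra A B]
  (q : Ideal B) [q.IsPrime]

/-- the local ring of the fibre at `q`. -/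
abbrev Rq : Type u := Localization.AtPrime q ⧸ Jq A q

variable {K F M : Type u} [AddCommGroup K] [Module B K]
  [AddCommGroup F] [Module B F]
  [AddCommGroup M] [Module B M] [Module A M] [IsScalarTower A B M] [Module.Flat A M]

theorem flat_loc_tensor : Module.Flat A (Localization.AtPrime q ⊗[B] M) := by
  haveI : Module.Flat A (LocalizedModule q.primeCompl M) :=
    Groth.Agent.Lib.Helper28.flat_localizedModule_of_flat q.primeCompl
  have e := (IsLocalizedModule.isBaseChange q.primeCompl (Localization.AtPrime q)
        (LocalizedModule.mkLinearMap q.primeCompl M)).equiv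
  exact Module.Flat.of_linearEquiv (e.restrictScalars A)


/-- Base change to the local ring of the fibre keeps `ker → F` injective when the cokernel is
`A`-flat. -/
theorem baseChange_Rq_injective (g : K →ₗ[B] F) (f : F →ₗ[B] M) (hg : Function.Injective g)
    (hf : Function.Surjective f) (hex : Function.Exact g f) :
    Function.Injective (g.baseChange (Rq A q)) := by
  let T := Localization.AtPrime q
  let S' := T ⊗[A] (A ⧸ q.under A)
  let e : Rq A q ≃ₐ[T] S' := Algebra.TensorProduct.quotIdealMapEquivTensorQuot T (q.under A)
  let gT : T ⊗[B] K →ₗ[T] T ⊗[B] F := g.baseChange T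
  let fT : T ⊗[B] F →ₗ[T] T ⊗[B] M := f.baseChange T
  have hgT : Function.Injective gT :=
    Module.Flat.lTensor_preserves_injective_linearMap (M := T) g hg
  have hfT : Function.Surjective fT := LinearMap.lTensor_surjective T hf
  have hexT : Function.Exact gT fT := lTensor_exact T hex hf
  haveI : Module.Flat A (T ⊗[B] M) := flat_loc_tensor A q
  have h1 : Function.Injective (gT.lTensor S') :=
    lTensor_injective_of_flat_coker A (A ⧸ q.under A) T S' gT fT hgT hfT hexT
  have h2 : Function.Injective (gT.lTensor (Rq A q)) := by
    have hsq : (gT.lTensor S') ∘ₗ (e.toLinearEquiv.toLinearMap.rTensor (T ⊗[B] K)) =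
        (e.toLinearEquiv.toLinearMap.rTensor (T ⊗[B] F)) ∘ₗ (gT.lTensor (Rq A q)) := by
      rw [LinearMap.lTensor_comp_rTensor, LinearMap.rTensor_comp_lTensor]
    have hinj : Function.Injective (e.toLinearEquiv.toLinearMap.rTensor (T ⊗[B] K)) :=
      (LinearEquiv.rTensor (T ⊗[B] K) e.toLinearEquiv).injective
    refine Function.Injective.of_comp (f := e.toLinearEquiv.toLinearMap.rTensor (T ⊗[B] F)) ?_
    rw [← LinearMap.coe_comp, ← hsq]
    exact h1.comp hinj
  let cK := AlgebraTensorModule.cancelBaseChange B T (Rq A q) (Rq A q) K
  let cF := AlgebraTensorModule.cancelBaseChange B T (Rq A q) (Rq A q) F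
  have hnat : ∀ x, cF (gT.lTensor (Rq A q) x) = g.baseChange (Rq A q) (cK x) := by
    intro x
    induction x using TensorProduct.induction_on with
    | zero => simp
    | tmul s y =>
      induction y using TensorProduct.induction_on with
      | zero => simp
      | tmul t k => simp [cK, cF, gT]
      | add y z hy hz => simp only [TensorProduct.tmul_add, map_add, hy, hz]
    | add x y hx hy => simp only [map_add, hx, hy]
  intro x y hxy
  obtain ⟨x', rfl⟩ := cK.surjective x
  obtain ⟨y', rfl⟩ := cK.surjective y
  rw [← hnat, ← hnat] at hxy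
  rw [h2 (cF.injective hxy)]

end inj

section ses

variable (A : Type u) {B : Type u} [CommRing A] [CommRing B] [Algebra A B]
  (q : Ideal B) [q.IsPrime]

/-- the fibre stalk module as an object. -/
noncomputable abbrev fibSt (M : Type u) [AddCommGroup M] [Module B M] : ModuleCat.{u} (Rq A q) :=
  ModuleCat.of (Rq A q) (Rq A q ⊗[B] M)

theorem ses_fibSt {M : Type u} [AddCommGroup M] [Module B M] [Module A M]
    [IsScalarTower A B M] [Module.Flat A M] {k : ℕ} (π : (Fin k → B) →ₗ[B] M)
    (hπ : Function.Surjective π) :
    (ShortComplex.mk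
      (ModuleCat.ofHom ((LinearMap.ker π).subtype.baseChange (Rq A q)))
      (ModuleCat.ofHom (π.baseChange (Rq A q)))
      (by
        apply ModuleCat.hom_ext
        apply LinearMap.ext
        intro x
        have h := (lTensor_exact (Rq A q) (LinearMap.exact_subtype_ker_map π)
          hπ).apply_apply_eq_zero x
        exact h)).ShortExact := by
  refine Groth.Agent.Helper13Devissage.shortExact_mk (A := Rq A q) _ _ ?_ ?_ ?_
  · exact baseChange_Rq_injective A q (LinearMap.ker π).subtype π (Submodule.injective_subtype _) hπ
      (LinearMap.exact_subtype_ker_map π)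
  · exact LinearMap.lTensor_surjective _ hπ
  · exact lTensor_exact (Rq A q) (LinearMap.exact_subtype_ker_map π) hπ

theorem projective_fibSt_free (k : ℕ) : Projective (fibSt A q (Fin k → B)) :=
  (IsProjective.iff_projective _).1
    (inferInstanceAs (Module.Projective (Rq A q) ((Rq A q) ⊗[B] (Fin k → B))))

theorem pdLT_succ_succ_iff {M : Type u} [AddCommGroup M] [Module B M] [Module A M]
    [IsScalarTower A B M] [Module.Flat A M] {k : ℕ} (π : (Fin k → B) →ₗ[B] M)
    (hπ : Function.Surjective π) (n : ℕ) :
    HasProjectiveDimensionLT (fibSt A q M) (n + 2) ↔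
      HasProjectiveDimensionLT (fibSt A q (LinearMap.ker π)) (n + 1) :=
  (ses_fibSt A q π hπ).hasProjectiveDimensionLT_X₃_iff n (projective_fibSt_free A q k)

end ses

section lowcases

variable (A : Type u) {B : Type u} [CommRing A] [CommRing B] [Algebra A B]
  (q : Ideal B) [q.IsPrime] (M : Type u) [AddCommGroup M] [Module B M]

theorem subsingleton_tensor_of_subsingleton_loc
    (h : Subsingleton (LocalizedModule q.primeCompl M)) : Subsingleton (Rq A q ⊗[B] M) :=
  (quotEquiv A q M).injective.subsingleton

theorem subsingleton_loc_of_subsingleton_tensor [Module.Finite B M]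
    (h : Subsingleton (Rq A q ⊗[B] M)) : Subsingleton (LocalizedModule q.primeCompl M) := by
  have h1 : Subsingleton (LocalizedModule q.primeCompl M ⧸
        Jq A q • (⊤ : Submodule (Localization.AtPrime q) (LocalizedModule q.primeCompl M))) :=
    (quotEquiv A q M).symm.injective.subsingleton
  have htop : Jq A q • (⊤ : Submodule (Localization.AtPrime q) (LocalizedModule q.primeCompl M)) =
      ⊤ := Submodule.Quotient.subsingleton_iff.1 h1
  have hfg : (⊤ : Submodule (Localization.AtPrime q) (LocalizedModule q.primeCompl M)).FG :=
    Module.finite_def.1 inferInstance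
  have hbot : (⊤ : Submodule (Localization.AtPrime q) (LocalizedModule q.primeCompl M)) = ⊥ :=
    Submodule.eq_bot_of_le_smul_of_le_jacobson_bot (Jq A q) ⊤ hfg (le_of_eq htop.symm)
      (le_trans (Jq_le_maximalIdeal A q) (IsLocalRing.maximalIdeal_le_jacobson ⊥))
  have : Subsingleton (Submodule (Localization.AtPrime q) (LocalizedModule q.primeCompl M)) :=
    subsingleton_iff_bot_eq_top.1 hbot.symm
  exact (Submodule.subsingleton_iff (Localization.AtPrime q)).1 this

theorem pdLT_zero_iff [Module.Finite B M] :
    HasProjectiveDimensionLT (fibSt A q M) 0 ↔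
      (⟨q, inferInstance⟩ : PrimeSpectrum B) ∉ Module.support B M := by
  rw [hasProjectiveDimensionLT_zero_iff_isZero, Module.notMem_support_iff]
  constructor
  · intro hz
    exact subsingleton_loc_of_subsingleton_tensor A q M (ModuleCat.subsingleton_of_isZero hz)
  · intro h
    haveI := subsingleton_tensor_of_subsingleton_loc A q M h
    exact ModuleCat.isZero_of_subsingleton _

variable [Module A M] [IsScalarTower A B M]

theorem pdLT_one_iff [Module.FinitePresentation B M] [Module.Flat A M] :
    HasProjectiveDimensionLT (fibSt A q M) 1 ↔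
      (⟨q, inferInstance⟩ : PrimeSpectrum B) ∈ Module.freeLocus B M := by
  rw [← projective_iff_hasProjectiveDimensionLT_one]
  constructor
  · intro hP
    haveI : Module.Projective (Rq A q) (Rq A q ⊗[B] M) :=
      (IsProjective.iff_projective (fibSt A q M)).2 hP
    rw [Module.mem_freeLocus]
    haveI : Module.Flat A (LocalizedModule q.primeCompl M) :=
      Groth.Agent.Lib.Helper28.flat_localizedModule_of_flat q.primeCompl
    have hflat : Module.Flat (Localization.AtPrime q ⧸ Jq A q)
      (LocalizedModule q.primeCompl M ⧸
        Jq A q • (⊤ : Submodule (Localization.AtPrime q) (LocalizedModule q.primeCompl M))) :=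
      Module.Flat.of_linearEquiv (quotEquiv A q M).symm
    exact Groth.Agent.Lib.Helper3.FibreFree.free_of_flat_of_flat_quotient (q.under A)
        (Jq_le_maximalIdeal A q) hflat
  · intro h
    rw [Module.mem_freeLocus_iff_tensor _ (Localization.AtPrime q)] at h
    haveI := h
    have e := AlgebraTensorModule.cancelBaseChange B (Localization.AtPrime q) (Rq A q) (Rq A q) M
    haveI : Module.Free (Rq A q) (Rq A q ⊗[B] M) := Module.Free.of_equiv e
    exact (IsProjective.iff_projective (fibSt A q M)).1 inferInstance

end lowcases

section main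

variable (A B : Type u) [CommRing A] [CommRing B] [Algebra A B]
  [Algebra.FinitePresentation A B] [Module.Flat A B]

theorem step (K : Type u) [AddCommGroup K] [Module B K] [Module A K] [IsScalarTower A B K]
    [Module.FinitePresentation B K] [Module.Flat A K] :
    ∃ (k : ℕ) (π : (Fin k → B) →ₗ[B] K), Function.Surjective π ∧
      Module.FinitePresentation B (LinearMap.ker π) ∧ Module.Flat A (LinearMap.ker π) := by
  obtain ⟨k, π, hπ, hker⟩ := Groth.Agent.Lib.R2H3.FlatSyz.exists_surjective_fp_ker A B K
  refine ⟨k, π, hπ, hker, ?_⟩
  have : Module.Flat A (Fin k → B) :=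
    Module.Flat.of_linearEquiv (DirectSum.linearEquivFunOnFintype A (Fin k) (fun _ => B)).symm
  exact Groth.Agent.Lib.Helper1.Tor.flat_ker (R := A)
    (((LinearMap.ker π).subtype).restrictScalars A) (π.restrictScalars A)
    (Submodule.injective_subtype _) hπ (LinearMap.exact_subtype_ker_map π)

theorem isOpen_pdLT (n : ℕ) : ∀ (M : Type u) [AddCommGroup M] [Module B M] [Module A M]
    [IsScalarTower A B M] [Module.FinitePresentation B M] [Module.Flat A M],
    IsOpen {P : PrimeSpectrum B | HasProjectiveDimensionLT (fibSt A P.asIdeal M) n} := by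
  induction n using Nat.strong_induction_on with
  | _ n ih =>
    intro M _ _ _ _ _ _
    match n, ih with
    | 0, _ =>
      have : {P : PrimeSpectrum B | HasProjectiveDimensionLT (fibSt A P.asIdeal M) 0} =
          (Module.support B M)ᶜ := by
        ext P
        exact pdLT_zero_iff A P.asIdeal M
      rw [this, isOpen_compl_iff, Module.support_eq_zeroLocus]
      exact PrimeSpectrum.isClosed_zeroLocus _
    | 1, _ =>
      have : {P : PrimeSpectrum B | HasProjectiveDimensionLT (fibSt A P.asIdeal M) 1} =
          Module.freeLocus B M := by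
        ext P
        exact pdLT_one_iff A P.asIdeal M
      rw [this]
      exact Module.isOpen_freeLocus
    | (m + 2), ih =>
      obtain ⟨k, π, hπ, hfp, hflat⟩ := step A B M
      have : {P : PrimeSpectrum B | HasProjectiveDimensionLT (fibSt A P.asIdeal M) (m + 2)} =
          {P : PrimeSpectrum B |
            HasProjectiveDimensionLT (fibSt A P.asIdeal (LinearMap.ker π)) (m + 1)} := by
        ext P
        exact pdLT_succ_succ_iff A P.asIdeal π hπ m
      rw [this]
      exact ih (m + 1) (by omega) (LinearMap.ker π)

theorem usc (M : Type u) [AddCommGroup M] [Module B M] [Module A M]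
    [IsScalarTower A B M] [Module.FinitePresentation B M] [Module.Flat A M] :
    UpperSemicontinuous fun P : PrimeSpectrum B => projectiveDimension (fibSt A P.asIdeal M) := by
  intro P y hy
  have key : ∀ n : ℕ, projectiveDimension (fibSt A P.asIdeal M) < n →
      ∀ᶠ P' in nhds P, projectiveDimension (fibSt A P'.asIdeal M) < n := by
    intro n hn
    have hopen := isOpen_pdLT A B n M
    have hmem : P ∈ {P : PrimeSpectrum B | HasProjectiveDimensionLT (fibSt A P.asIdeal M) n} :=
      projectiveDimension_lt_iff.1 hn
    filter_upwards [hopen.mem_nhds hmem] with P' hP'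
    exact projectiveDimension_lt_iff.2 hP'
  induction y using WithBot.recBotCoe with
  | bot => exact absurd hy (not_lt_bot)
  | coe y =>
    induction y using ENat.recTopCoe with
    | top =>
      -- some natural number bound works
      have hne : projectiveDimension (fibSt A P.asIdeal M) ≠ ⊤ := ne_of_lt hy
      obtain ⟨n, hn⟩ := (projectiveDimension_ne_top_iff _).1 hne
      have hlt : projectiveDimension (fibSt A P.asIdeal M) < ((n + 1 : ℕ) : WithBot ℕ∞) :=
        projectiveDimension_lt_iff.2 hn
      filter_upwards [key (n + 1) hlt] with P' hP'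
      exact lt_of_lt_of_le hP' le_top
    | coe m => exact key m hy

end main

end Groth.Agent.Lib.R2Lead.FibUSC
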