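import Mathlib
import Groth.Prelude
import Groth.Agent.Lib.R2H3TowerC
import Groth.Agent.Lib.R2H2FibreCoh
import Groth.Agent.Lib.R2H2FibreVanish
import Groth.Agent.Lib.R2H2StalkVanish
import Groth.Agent.Lib.R2LeadCohFormalA
import Groth.Agent.Lib.Helper23PB
import Groth.Agent.Lib.Helper23RestrTensor
import Groth.Agent.Lib.R2H4SSDescent
import Groth.Agent.Lib.R2H3AmpleSV
set_option backward.isDefEq.respectTransparency.types false

/-!
# Ampleness on a fibre kills the stalks of higher direct images of high twists (lead, round 2; EGA III 4.7.1 first half)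

* `thickTower π J`: the tower of thickenings `X₁ ×_A Spec (A/J^(k+1))` of a scheme over `Spec A`.
* `exists_uniform_vanishing_modPow`: if `L` restricted to `X₁ ×_A Spec (A/J)` is ample, then `H^q(X₁, (N ⊗ L^n)/J^(k+1)) = 0`
  for all `n ≥ n₀`, all `k` and all `q > 0`.
* `main`: the stalk of `R^p f_* (M ⊗ L^d)` at `y` vanishes for `d ≫ 0`, `p > 0` when `L` is ample on the fibre at `y`.
-/

set_option autoImplicit false
set_option linter.unusedSectionVars false
set_option linter.style.haveILetI false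
universe u
open CategoryTheory CategoryTheory.Limits AlgebraicGeometry TopologicalSpace Opposite

noncomputable section

namespace Groth.Agent.Lib.R2Lead.FibreAmple

open Scheme.Modules Groth.Agent.Lib.R2H3.TowerB Groth.Agent.Lib.R2H3.TowerC Groth.Agent.Lib.R2H2.FlatDev
  Groth.Agent.Lib.R2Lead.CohFormalA

section Tower

variable {A : Type u} [CommRing A] {X₁ : Scheme.{u}} (π : X₁ ⟶ Spec (CommRingCat.of A)) (J : Ideal A)

theorem thickTrans_thickι (k : ℕ) :
    CohB1.thickTrans π J k ≫ CohB1.thickι π J (k + 1) = CohB1.thickι π J k := by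
  unfold CohB1.thickTrans CohB1.thickι
  exact (pullback.lift_fst _ _ _).trans (Category.comp_id _)

theorem thickTrans_toBase (k : ℕ) :
    CohB1.thickTrans π J k ≫ CohB1.thickToBase π J (k + 1) =
      CohB1.thickToBase π J k ≫ CohB1.specQuotTrans J k := by
  unfold CohB1.thickTrans CohB1.thickToBase
  exact pullback.lift_snd _ _ _

theorem isPullback_thickTrans (k : ℕ) :
    IsPullback (CohB1.thickTrans π J k) (CohB1.thickToBase π J k) (CohB1.thickToBase π J (k + 1))
      (CohB1.specQuotTrans J k) := by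
  refine IsPullback.of_right ?_ (thickTrans_toBase π J k)
    (IsPullback.of_hasPullback π (CohB1.specQuot J (k + 1)))
  rw [thickTrans_thickι, CohB1.specQuotTrans_specQuot]
  exact IsPullback.of_hasPullback π (CohB1.specQuot J k)

/-- the tower of thickenings of `X₁` along `J` -/
def thickTower : Tower J where
  Xs k := CohB1.thick π J k
  p k := CohB1.thickToBase π J k
  i k := CohB1.thickTrans π J k
  hcart := isPullback_thickTrans π J

/-- the system of pullbacks of a quasi-coherent module -/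
def qsys (N : X₁.Modules) [N.IsQuasicoherent] : QSys (thickTower π J) where
  F k := (Scheme.Modules.pullback (CohB1.thickι π J k)).obj N
  hF k := Groth.Agent.Lib.Helper2.PullbackSec.isQuasicoherent_pullback _ N
  ψ k := (pullbackComp (CohB1.thickTrans π J k) (CohB1.thickι π J (k + 1))).app N ≪≫
    (pullbackCongr (thickTrans_thickι π J k)).app N

/-- the system of pullbacks of an invertible module -/
def lsys (L : X₁.Modules) (hL : PicF.IsInvertible L) : LSys (thickTower π J) where
  L k := (Scheme.Modules.pullback (CohB1.thickι π J k)).obj L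
  hL k := Groth.Agent.Lib.Helper23.PB.isInvertible_pullback _ L hL
  φ k := (pullbackComp (CohB1.thickTrans π J k) (CohB1.thickι π J (k + 1))).app L ≪≫
    (pullbackCongr (thickTrans_thickι π J k)).app L

end Tower

section Uniform

variable {A : Type u} [CommRing A] [IsNoetherianRing A] {X₁ : Scheme.{u}}
  [X₁.Over (Spec (CommRingCat.of A))] (J : Ideal A)

/-- uniform vanishing of the cohomology of the truncations of the twists, when `L` is ample on the closed fibre -/
theorem exists_uniform_vanishing_modJ [IsProper (X₁ ↘ Spec (CommRingCat.of A))] (L : X₁.Modules)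
    (hL : PicF.IsInvertible L)
    (hamp : CohB1.IsAmple
      ((Scheme.Modules.pullback (CohB1.thickι (X₁ ↘ Spec (CommRingCat.of A)) J 0)).obj L))
    (N : X₁.Modules) (hN : Coh.IsCoh N) :
    ∃ n₀ : ℕ, ∀ n : ℕ, n₀ ≤ n → ∀ k q : ℕ, 0 < q →
      Subsingleton (Coh.HH X₁ (modJ (J ^ (k + 1)) (CohB1.tensorMod N (CohB1.tensorPow L n))) q) := by
  set π := (X₁ ↘ Spec (CommRingCat.of A)) with hπ
  haveI : N.IsQuasicoherent := hN.1
  let T := thickTower π J
  have hp : IsProper (T.p 0) := inferInstanceAs (IsProper (pullback.snd π (CohB1.specQuot J 0)))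
  obtain ⟨n₀, hn₀⟩ := uniform_vanishing_tower T hp (lsys π J L hL) hamp (qsys π J N)
    (Groth.Agent.Lib.R2H4SSDescent.isCoh_pullback _ N hN)
  refine ⟨n₀, fun n hn k q hq => ?_⟩
  have h1 := (hn₀ n hn k q hq).1
  obtain ⟨e1⟩ := Groth.Agent.Lib.Helper23.PB.nonempty_pullback_tensorPow_iso (CohB1.thickι π J k) L hL n
  have e2 : (Scheme.Modules.pullback (CohB1.thickι π J k)).obj
        (CohB1.tensorMod N (CohB1.tensorPow L n)) ≅
      CohB1.tensorMod ((qsys π J N).F k) (CohB1.tensorPow ((lsys π J L hL).L k) n) :=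
    Groth.Agent.Lib.Helper23.RestrTensor.pullbackTensorIso N (CohB1.tensorPow L n) (CohB1.thickι π J k) ≪≫
      Groth.Agent.Lib.Helper23.AmpleIso.tensorModIso (Iso.refl _) e1
  have h2 : Subsingleton (Coh.HH (CohB1.thick π J k)
      ((Scheme.Modules.pullback (CohB1.thickι π J k)).obj
        (CohB1.tensorMod N (CohB1.tensorPow L n))) q) :=
    Groth.Agent.Lib.R2H2.PnSerre.subsingleton_HH_of_iso e2.symm q h1
  haveI : (CohB1.tensorMod N (CohB1.tensorPow L n)).IsQuasicoherent :=
    (Groth.Agent.Lib.R2H3.AmpleSV.isCoh_tensorMod_invertible _ _ hN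
      (Groth.Agent.Lib.Helper23.SecTw.isInvertible_tensorPow hL n)).1
  exact Groth.Agent.Lib.R2H2.FibreCoh.subsingleton_HH_modJ_of_fibre (A := A) (B := A ⧸ J ^ (k + 1))
    (CohB1.thickToBase π J k) (CohB1.thickι π J k)
    (IsPullback.of_hasPullback π (CohB1.specQuot J k)) _ Ideal.Quotient.mk_surjective (J ^ (k + 1))
    (fun a ha => Ideal.Quotient.eq_zero_iff_mem.2 ha) (fun a ha => Ideal.Quotient.eq_zero_iff_mem.1 ha) q h2

end Uniform

section Fibre

open Groth.Agent.Lib.R2H2.FibreVanish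

variable {X Y : Scheme.{u}} (f : X ⟶ Y) (y : Y)

/-- `O_y / 𝔪^(0+1) ≃ κ(y)` -/
def ρ : (Y.presheaf.stalk y ⧸ IsLocalRing.maximalIdeal (Y.presheaf.stalk y) ^ (0 + 1)) ≃+*
    IsLocalRing.ResidueField (Y.presheaf.stalk y) :=
  Ideal.quotEquivOfEq (by rw [zero_add, pow_one])

/-- `Spec κ(y) ≅ Spec (O_y / 𝔪^(0+1))` -/
def σ : Spec (Y.residueField y) ≅
    Spec (CommRingCat.of (Y.presheaf.stalk y ⧸ IsLocalRing.maximalIdeal (Y.presheaf.stalk y) ^ (0 + 1))) :=
  Scheme.Spec.mapIso (show CommRingCat.of (Y.presheaf.stalk y ⧸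
      IsLocalRing.maximalIdeal (Y.presheaf.stalk y) ^ (0 + 1)) ≅ Y.residueField y from
    (ρ y).toCommRingCatIso).op

theorem σ_specQuot :
    (σ y).hom ≫ CohB1.specQuot (IsLocalRing.maximalIdeal (Y.presheaf.stalk y)) 0 =
      Spec.map (Y.residue y) := by
  have h : CommRingCat.ofHom (Ideal.Quotient.mk (IsLocalRing.maximalIdeal (Y.presheaf.stalk y) ^ (0 + 1))) ≫
      (show CommRingCat.of (Y.presheaf.stalk y ⧸
        IsLocalRing.maximalIdeal (Y.presheaf.stalk y) ^ (0 + 1)) ≅ Y.residueField y from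
      (ρ y).toCommRingCatIso).hom = Y.residue y :=
    CommRingCat.hom_ext (RingHom.ext fun x => rfl)
  rw [← h, Spec.map_comp]
  rfl

theorem isPullback₀' :
    IsPullback (g₀ f y) (f.fiberToSpecResidueField y ≫ (σ y).hom) (f₁ f y)
      (CohB1.specQuot (IsLocalRing.maximalIdeal (Y.presheaf.stalk y)) 0) :=
  IsPullback.of_iso (isPullback₀ f y) (Iso.refl _) (Iso.refl _) (σ y) (Iso.refl _)
    (by simp) (by simp) (by simp) (by simp [σ_specQuot])

/-- the fibre is the zeroth thickening of `X₁` -/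
def e₀ : f.fiber y ≅ CohB1.thick (f₁ f y) (IsLocalRing.maximalIdeal (Y.presheaf.stalk y)) 0 :=
  IsPullback.isoIsPullback _ _ (isPullback₀' f y)
    (IsPullback.of_hasPullback (f₁ f y) (CohB1.specQuot (IsLocalRing.maximalIdeal (Y.presheaf.stalk y)) 0))

theorem e₀_hom_thickι :
    (e₀ f y).hom ≫ CohB1.thickι (f₁ f y) (IsLocalRing.maximalIdeal (Y.presheaf.stalk y)) 0 = g₀ f y :=
  IsPullback.isoIsPullback_hom_fst _ _ _ _

theorem isAmple_thick_zero (L : X.Modules)
    (hy : CohB1.IsAmple ((Scheme.Modules.pullback (f.fiberι y)).obj L)) :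
    CohB1.IsAmple ((Scheme.Modules.pullback
      (CohB1.thickι (f₁ f y) (IsLocalRing.maximalIdeal (Y.presheaf.stalk y)) 0)).obj
        ((Scheme.Modules.pullback (g₁ f y)).obj L)) := by
  haveI : CompactSpace (f.fiber y) := hy.2.1
  haveI : CompactSpace (CohB1.thick (f₁ f y) (IsLocalRing.maximalIdeal (Y.presheaf.stalk y)) 0) :=
    (Scheme.homeoOfIso (e₀ f y)).compactSpace
  have h1 := Groth.Agent.Lib.Helper23.PB.isAmple_pullback_of_isEmbedding (e₀ f y).inv
    ((e₀ f y).inv.isOpenEmbedding.isEmbedding) _ hy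
  have hcomp : (e₀ f y).inv ≫ f.fiberι y =
      CohB1.thickι (f₁ f y) (IsLocalRing.maximalIdeal (Y.presheaf.stalk y)) 0 ≫ g₁ f y := by
    rw [← g₀_g₁, ← e₀_hom_thickι, Category.assoc, Iso.inv_hom_id_assoc]
  refine Groth.Agent.Lib.Helper23.AmpleIso.isAmple_of_iso ?_ h1
  exact (pullbackComp (e₀ f y).inv (f.fiberι y)).app L ≪≫ (pullbackCongr hcomp).app L ≪≫
    ((pullbackComp (CohB1.thickι (f₁ f y) (IsLocalRing.maximalIdeal (Y.presheaf.stalk y)) 0)
      (g₁ f y)).app L).symm

/-- **EGA III 4.7.1 (vanishing part)**: ampleness on the fibre at `y` kills the stalks at `y` of the higher direct images of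
high twists -/
theorem main [IsProper f] [IsNoetherian Y] (L : X.Modules) (hL : PicF.IsInvertible L) (M : X.Modules)
    (hM : Coh.IsCoh M) (hy : CohB1.IsAmple ((Scheme.Modules.pullback (f.fiberι y)).obj L)) :
    ∃ d₀ : ℕ, ∀ d : ℕ, d₀ ≤ d → ∀ p : ℕ, 0 < p →
      Limits.IsZero (TopCat.Presheaf.stalk
        ((Coh.RpushAb f p).obj (Coh.toAb (CohB1.tensorMod M (CohB1.tensorPow L d)))).obj y) := by
  haveI := Groth.Agent.Lib.R2H3.RpushRestrict.hasInjectiveResolutions_modules X
  letI : (X₁ f y).Over (Spec (CommRingCat.of (Y.presheaf.stalk y))) := ⟨f₁ f y⟩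
  have hsq : IsPullback (g₁ f y) ((X₁ f y) ↘ Spec (CommRingCat.of (Y.presheaf.stalk y))) f
      (Y.fromSpecStalk y) := IsPullback.of_hasPullback _ _
  haveI : IsProper ((X₁ f y) ↘ Spec (CommRingCat.of (Y.presheaf.stalk y))) :=
    inferInstanceAs (IsProper (pullback.snd f (Y.fromSpecStalk y)))
  have hL₁ := Groth.Agent.Lib.Helper23.PB.isInvertible_pullback (g₁ f y) L hL
  have hM₁ := Groth.Agent.Lib.R2H4SSDescent.isCoh_pullback (g₁ f y) M hM
  obtain ⟨n₀, hn₀⟩ := exists_uniform_vanishing_modJ (IsLocalRing.maximalIdeal (Y.presheaf.stalk y))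
    ((Scheme.Modules.pullback (g₁ f y)).obj L) hL₁ (isAmple_thick_zero f y L hy)
    ((Scheme.Modules.pullback (g₁ f y)).obj M) hM₁
  refine ⟨n₀, fun d hd p hp => ?_⟩
  have hN : Coh.IsCoh (CohB1.tensorMod M (CohB1.tensorPow L d)) :=
    Groth.Agent.Lib.R2H3.AmpleSV.isCoh_tensorMod_invertible _ _ hM
      (Groth.Agent.Lib.Helper23.SecTw.isInvertible_tensorPow hL d)
  obtain ⟨hfin, ⟨e⟩⟩ := Groth.Agent.S4467.result f _ hN y p (X₁ f y) (g₁ f y) hsq
  obtain ⟨e1⟩ := Groth.Agent.Lib.Helper23.PB.nonempty_pullback_tensorPow_iso (g₁ f y) L hL d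
  let e2 : (Scheme.Modules.pullback (g₁ f y)).obj (CohB1.tensorMod M (CohB1.tensorPow L d)) ≅
      CohB1.tensorMod ((Scheme.Modules.pullback (g₁ f y)).obj M)
        (CohB1.tensorPow ((Scheme.Modules.pullback (g₁ f y)).obj L) d) :=
    Groth.Agent.Lib.Helper23.RestrTensor.pullbackTensorIso M (CohB1.tensorPow L d) (g₁ f y) ≪≫
      Groth.Agent.Lib.Helper23.AmpleIso.tensorModIso (Iso.refl _) e1
  have hsub : Subsingleton (Formal.HHlim (IsLocalRing.maximalIdeal (Y.presheaf.stalk y))
      ((Scheme.Modules.pullback (g₁ f y)).obj (CohB1.tensorMod M (CohB1.tensorPow L d))) p) := by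
    refine ⟨fun a b => Subtype.ext (funext fun k => ?_)⟩
    have h3 := hn₀ d hd k p hp
    let e3 : modJ (IsLocalRing.maximalIdeal (Y.presheaf.stalk y) ^ (k + 1))
          ((Scheme.Modules.pullback (g₁ f y)).obj (CohB1.tensorMod M (CohB1.tensorPow L d))) ≅
        modJ (IsLocalRing.maximalIdeal (Y.presheaf.stalk y) ^ (k + 1))
          (CohB1.tensorMod ((Scheme.Modules.pullback (g₁ f y)).obj M)
            (CohB1.tensorPow ((Scheme.Modules.pullback (g₁ f y)).obj L) d)) :=
      { hom := modJMap _ e2.hom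
        inv := modJMap _ e2.inv
        hom_inv_id := by rw [← modJMap_comp, e2.hom_inv_id, modJMap_id]
        inv_hom_id := by rw [← modJMap_comp, e2.inv_hom_id, modJMap_id] }
    haveI : Subsingleton (Coh.HH (X₁ f y) (modJ (IsLocalRing.maximalIdeal (Y.presheaf.stalk y) ^ (k + 1))
          ((Scheme.Modules.pullback (g₁ f y)).obj (CohB1.tensorMod M (CohB1.tensorPow L d)))) p) :=
      Groth.Agent.Lib.R2H2.PnSerre.subsingleton_HH_of_iso e3.symm p h3
    exact Subsingleton.elim (α := Coh.HH (X₁ f y)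
      (modJ (IsLocalRing.maximalIdeal (Y.presheaf.stalk y) ^ (k + 1))
        ((Scheme.Modules.pullback (g₁ f y)).obj (CohB1.tensorMod M (CohB1.tensorPow L d)))) p) _ _
  haveI := hfin
  have hcomp : Subsingleton (AdicCompletion (IsLocalRing.maximalIdeal (Y.presheaf.stalk y))
      (((Coh.Rpush f p).obj (CohB1.tensorMod M (CohB1.tensorPow L d))).presheaf.stalk y)) :=
    e.injective.subsingleton
  have hN' : Subsingleton (((Coh.Rpush f p).obj (CohB1.tensorMod M (CohB1.tensorPow L d))).presheaf.stalk y) :=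
    (AdicCompletion.of_injective (I := IsLocalRing.maximalIdeal (Y.presheaf.stalk y))
      (M := ((Coh.Rpush f p).obj (CohB1.tensorMod M (CohB1.tensorPow L d))).presheaf.stalk y)).subsingleton
  obtain ⟨ι⟩ := Groth.Agent.Lib.Helper23.ModAbBridge.nonempty_toAb_Rpush_iso f
    (CohB1.tensorMod M (CohB1.tensorPow L d)) p
  have hz : IsZero (TopCat.Presheaf.stalk
      (Coh.toAb ((Coh.Rpush f p).obj (CohB1.tensorMod M (CohB1.tensorPow L d)))).obj y) :=
    @AddCommGrpCat.isZero_of_subsingleton _ hN'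
  exact hz.of_iso ((TopCat.Presheaf.stalkFunctor _ y).mapIso ((sheafToPresheaf _ _).mapIso ι.symm))

end Fibre

end Groth.Agent.Lib.R2Lead.FibreAmple
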