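import Mathlib
import Groth.Prelude
import Groth.Agent.Lib.R2LeadFibreAmple
import Groth.Agent.S0051
import Groth.Agent.S0059
import Groth.Agent.S0002
set_option backward.isDefEq.respectTransparency.types false

/-!
# Ampleness on the fibre gives ampleness over the local ring (lead, round 2; EGA III 4.7.1, second step)

`isAmple_pullback_specStalk`: `f : X → Y` proper, `Y` Noetherian, `L` invertible on `X`, ample on the fibre at `y` ⇒ the pullback of
`L` to `X ×_Y Spec O_{Y,y}` is ample.
-/

set_option autoImplicit false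
set_option linter.unusedSectionVars false
set_option linter.style.haveILetI false
universe u
open CategoryTheory CategoryTheory.Limits AlgebraicGeometry TopologicalSpace Opposite

noncomputable section

namespace Groth.Agent.Lib.R2Lead.FibreAmpleLoc

open Scheme.Modules Groth.Agent.Lib.R2H2.FlatDev Groth.Agent.Lib.R2H2.FibreVanish
  Groth.Agent.Lib.R2Lead.FibreAmple

variable {X Y : Scheme.{u}} (f : X ⟶ Y) (y : Y)

/-- vanishing of cohomology from vanishing of all truncations (formal functions + finiteness), over a Noetherian local ring -/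
theorem subsingleton_HH_of_modJ {A : Type u} [CommRing A] [IsNoetherianRing A] [IsLocalRing A]
    {Z : Scheme.{u}} [Z.Over (Spec (CommRingCat.of A))] [IsProper (Z ↘ Spec (CommRingCat.of A))]
    (N : Z.Modules) (hN : Coh.IsCoh N) (p : ℕ)
    (h : ∀ k : ℕ, Subsingleton (Coh.HH Z (modJ (IsLocalRing.maximalIdeal A ^ (k + 1)) N) p)) :
    Subsingleton (Coh.HH Z N p) := by
  obtain ⟨e⟩ := Groth.Agent.S0059.result A (IsLocalRing.maximalIdeal A) Z N hN p
  haveI hfin : Module.Finite A (Coh.HH Z N p) := Groth.Agent.S0002.result A Z N hN p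
  have hsub : Subsingleton (Formal.HHlim (IsLocalRing.maximalIdeal A) N p) := by
    refine ⟨fun a b => Subtype.ext (funext fun k => ?_)⟩
    haveI := h k
    exact Subsingleton.elim (α := Coh.HH Z (modJ (IsLocalRing.maximalIdeal A ^ (k + 1)) N) p) _ _
  have hcomp : Subsingleton (AdicCompletion (IsLocalRing.maximalIdeal A) (Coh.HH Z N p)) :=
    e.injective.subsingleton
  exact (AdicCompletion.of_injective (I := IsLocalRing.maximalIdeal A) (M := Coh.HH Z N p)).subsingleton

/-- **ampleness over the local ring**: if `L` is ample on the fibre at `y`, its pullback to `X ×_Y Spec O_{Y,y}` is ample -/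
theorem isAmple_pullback_specStalk [IsProper f] [IsNoetherian Y] (L : X.Modules)
    (hL : PicF.IsInvertible L) (hy : CohB1.IsAmple ((Scheme.Modules.pullback (f.fiberι y)).obj L)) :
    CohB1.IsAmple ((Scheme.Modules.pullback (g₁ f y)).obj L) := by
  letI : (X₁ f y).Over (Spec (CommRingCat.of (Y.presheaf.stalk y))) := ⟨f₁ f y⟩
  haveI : IsProper ((X₁ f y) ↘ Spec (CommRingCat.of (Y.presheaf.stalk y))) :=
    inferInstanceAs (IsProper (pullback.snd f (Y.fromSpecStalk y)))
  haveI : IsProper (f₁ f y) := inferInstanceAs (IsProper (pullback.snd f (Y.fromSpecStalk y)))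
  have hL₁ := Groth.Agent.Lib.Helper23.PB.isInvertible_pullback (g₁ f y) L hL
  rw [Groth.Agent.S0051.result (Y.presheaf.stalk y) (X₁ f y) (f₁ f y)
    ((Scheme.Modules.pullback (g₁ f y)).obj L) hL₁]
  intro M hM
  obtain ⟨n₀, hn₀⟩ := exists_uniform_vanishing_modJ (IsLocalRing.maximalIdeal (Y.presheaf.stalk y))
    ((Scheme.Modules.pullback (g₁ f y)).obj L) hL₁ (isAmple_thick_zero f y L hy) M hM
  refine ⟨n₀, fun n hn p hp => ?_⟩
  have hN : Coh.IsCoh (CohB1.tensorMod M
      (CohB1.tensorPow ((Scheme.Modules.pullback (g₁ f y)).obj L) n)) :=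
    Groth.Agent.Lib.R2H3.AmpleSV.isCoh_tensorMod_invertible _ _ hM
      (Groth.Agent.Lib.Helper23.SecTw.isInvertible_tensorPow hL₁ n)
  exact subsingleton_HH_of_modJ _ hN p (fun k => hn₀ n hn k p hp)

end Groth.Agent.Lib.R2Lead.FibreAmpleLoc
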