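import Mathlib
import Groth.Agent.Lib.R2H3FlatSyz

set_option autoImplicit false
universe u
open CategoryTheory Limits

namespace Groth.Agent.Lib.R2Lead.FinFreeRes

section generic

variable {R : Type u} [CommRing R] {M : Type u} [AddCommGroup M] [Module R M]

/-- data of a resolution by finite free modules, in linear-algebra form -/
structure FreeResData (R : Type u) [CommRing R] (M : Type u) [AddCommGroup M] [Module R M] where
  rk : ℕ → ℕ
  dLin : ∀ i, (Fin (rk (i + 1)) → R) →ₗ[R] (Fin (rk i) → R)
  augLin : (Fin (rk 0) → R) →ₗ[R] M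
  aug_surjective : Function.Surjective augLin
  exact_zero : LinearMap.ker augLin = LinearMap.range (dLin 0)
  exact_succ : ∀ i, LinearMap.ker (dLin i) = LinearMap.range (dLin (i + 1))

variable (F : FreeResData R M)

theorem dLin_comp (i : ℕ) (v : Fin (F.rk (i + 1 + 1)) → R) : F.dLin i (F.dLin (i + 1) v) = 0 := by
  have : F.dLin (i + 1) v ∈ LinearMap.ker (F.dLin i) := by
    rw [F.exact_succ i]
    exact ⟨v, rfl⟩
  exact this

theorem aug_dLin (v : Fin (F.rk 1) → R) : F.augLin (F.dLin 0 v) = 0 := by
  have : F.dLin 0 v ∈ LinearMap.ker F.augLin := by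
    rw [F.exact_zero]
    exact ⟨v, rfl⟩
  exact this

/-- the complex of free modules -/
noncomputable def cx : ChainComplex (ModuleCat.{u} R) ℕ :=
  ChainComplex.of (fun i => ModuleCat.of R (Fin (F.rk i) → R))
    (fun i => ModuleCat.ofHom (F.dLin i))
    (fun i => by
      apply ModuleCat.hom_ext
      apply LinearMap.ext
      intro v
      exact dLin_comp F i v)

theorem cx_d (i : ℕ) : (cx F).d (i + 1) i = ModuleCat.ofHom (F.dLin i) := by
  show ChainComplex.of.d (fun i => ModuleCat.of R (Fin (F.rk i) → R))
    (fun i => ModuleCat.ofHom (F.dLin i)) (i + 1) i = _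
  rw [ChainComplex.of_d]

theorem cx_exactAt_succ (n : ℕ) : (cx F).ExactAt (n + 1) := by
  rw [HomologicalComplex.exactAt_iff' _ (n + 2) (n + 1) n (by simp) (by simp),
    ShortComplex.moduleCat_exact_iff]
  intro x hx
  have hx' : ((cx F).d (n + 1) n).hom x = 0 := hx
  rw [cx_d] at hx'
  have hmem : (show Fin (F.rk (n + 1)) → R from x) ∈ LinearMap.ker (F.dLin n) := hx'
  rw [F.exact_succ n] at hmem
  obtain ⟨y, hy⟩ := hmem
  refine ⟨y, ?_⟩
  show ((cx F).d (n + 1 + 1) (n + 1)).hom y = x
  rw [cx_d]
  exact hy

theorem d_aug : (cx F).d 1 0 ≫ ModuleCat.ofHom F.augLin = 0 := by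
  rw [cx_d]
  apply ModuleCat.hom_ext
  apply LinearMap.ext
  intro v
  exact aug_dLin F v

theorem aug_exact : (ShortComplex.mk ((cx F).d 1 0) (ModuleCat.ofHom F.augLin) (d_aug F)).Exact := by
  rw [ShortComplex.moduleCat_exact_iff]
  intro x hx
  have hmem : (show Fin (F.rk 0) → R from x) ∈ LinearMap.ker F.augLin := hx
  rw [F.exact_zero] at hmem
  obtain ⟨y, hy⟩ := hmem
  refine ⟨y, ?_⟩
  show ((cx F).d (0 + 1) 0).hom y = x
  rw [cx_d]
  exact hy

instance aug_epi : Epi (ModuleCat.ofHom F.augLin) := by
  rw [ModuleCat.epi_iff_surjective]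
  exact F.aug_surjective

/-- the projective resolution of `M` attached to a free resolution -/
noncomputable def res : ProjectiveResolution (ModuleCat.of R M) where
  complex := cx F
  projective n := by
    show Projective (ModuleCat.of R (Fin (F.rk n) → R))
    exact (IsProjective.iff_projective _).1 inferInstance
  π := (ChainComplex.toSingle₀Equiv _ _).symm ⟨ModuleCat.ofHom F.augLin, d_aug F⟩
  quasiIso := ⟨fun n => by
    cases n with
    | zero =>
      rw [ChainComplex.quasiIsoAt₀_iff]
      have hg₁ : ((HomologicalComplex.shortComplexFunctor' (ModuleCat.{u} R)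
          (ComplexShape.down ℕ) 1 0 0).obj (cx F)).g = 0 := by
        show (cx F).d 0 0 = 0
        exact HomologicalComplex.shape _ _ _ (by simp)
      rw [ShortComplex.quasiIso_iff_of_zeros' _ hg₁ rfl rfl]
      have hτ : ((ChainComplex.toSingle₀Equiv (cx F) (ModuleCat.of R M)).symm
          ⟨ModuleCat.ofHom F.augLin, d_aug F⟩).f 0 = ModuleCat.ofHom F.augLin :=
        ChainComplex.toSingle₀Equiv_symm_apply_f_zero _ _
      refine ⟨?_, ?_⟩
      · refine ShortComplex.exact_of_iso ?_ (aug_exact F)
        refine ShortComplex.isoMk (Iso.refl _) (Iso.refl _) (Iso.refl _) ?_ ?_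
        · show 𝟙 _ ≫ (cx F).d 1 0 = (cx F).d 1 0 ≫ 𝟙 _
          rw [Category.id_comp, Category.comp_id]
        · show 𝟙 _ ≫ ((ChainComplex.toSingle₀Equiv (cx F) (ModuleCat.of R M)).symm
            ⟨ModuleCat.ofHom F.augLin, d_aug F⟩).f 0 = ModuleCat.ofHom F.augLin ≫ 𝟙 _
          rw [hτ, Category.id_comp, Category.comp_id]
      · show Epi (((ChainComplex.toSingle₀Equiv (cx F) (ModuleCat.of R M)).symm
            ⟨ModuleCat.ofHom F.augLin, d_aug F⟩).f 0)
        rw [hτ]
        exact aug_epi F
    | succ n =>
      rw [quasiIsoAt_iff_exactAt']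
      · exact cx_exactAt_succ F n
      · apply ChainComplex.exactAt_succ_single_obj⟩

theorem res_X (n : ℕ) : (res F).complex.X n = ModuleCat.of R (Fin (F.rk n) → R) := rfl

end generic

section build

variable (A B : Type u) [CommRing A] [CommRing B] [Algebra A B]

/-- a `B`-module which is finitely presented over `B` and flat over `A`. -/
def Good (K : ModuleCat.{u} B) : Prop :=
  Module.FinitePresentation B K ∧
    ∃ (_ : Module A K) (_ : IsScalarTower A B K), Module.Flat A K

variable [Algebra.FinitePresentation A B] [Module.Flat A B]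

theorem good_step (K : ModuleCat.{u} B) (hK : Good A B K) :
    ∃ (k : ℕ) (π : (Fin k → B) →ₗ[B] K), Function.Surjective π ∧
      Good A B (ModuleCat.of B (LinearMap.ker π)) := by
  obtain ⟨hfp, instA, instT, hflat⟩ := hK
  obtain ⟨k, π, hπ, hker⟩ := Groth.Agent.Lib.R2H3.FlatSyz.exists_surjective_fp_ker A B K
  refine ⟨k, π, hπ, hker, inferInstance, inferInstance, ?_⟩
  have : Module.Flat A (Fin k → B) :=
    Module.Flat.of_linearEquiv (DirectSum.linearEquivFunOnFintype A (Fin k) (fun _ => B)).symm
  exact Groth.Agent.Lib.Helper1.Tor.flat_ker (R := A)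
    (((LinearMap.ker π).subtype).restrictScalars A) (π.restrictScalars A)
    (Submodule.injective_subtype _) hπ (LinearMap.exact_subtype_ker_map π)

/-- the state of the recursion -/
abbrev State : Type (u + 1) := {K : ModuleCat.{u} B // Good A B K}

noncomputable def stepRk (s : State A B) : ℕ := (good_step A B s.1 s.2).choose

noncomputable def stepπ (s : State A B) : (Fin (stepRk A B s) → B) →ₗ[B] s.1 :=
  (good_step A B s.1 s.2).choose_spec.choose

theorem stepπ_surjective (s : State A B) : Function.Surjective (stepπ A B s) :=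
  (good_step A B s.1 s.2).choose_spec.choose_spec.1

noncomputable def next (s : State A B) : State A B :=
  ⟨ModuleCat.of B (LinearMap.ker (stepπ A B s)), (good_step A B s.1 s.2).choose_spec.choose_spec.2⟩

noncomputable def seq (s₀ : State A B) : ℕ → State A B
  | 0 => s₀
  | n + 1 => next A B (seq s₀ n)

variable (s₀ : State A B)

noncomputable def rk (n : ℕ) : ℕ := stepRk A B (seq A B s₀ n)

noncomputable def pr (n : ℕ) : (Fin (rk A B s₀ n) → B) →ₗ[B] (seq A B s₀ n).1 :=
  stepπ A B (seq A B s₀ n)

/-- the projection onto the next syzygy, with its target identified -/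
noncomputable def pr' (n : ℕ) : (Fin (rk A B s₀ (n + 1)) → B) →ₗ[B] LinearMap.ker (pr A B s₀ n) :=
  pr A B s₀ (n + 1)

theorem pr'_surjective (n : ℕ) : Function.Surjective (pr' A B s₀ n) :=
  stepπ_surjective A B (seq A B s₀ (n + 1))

noncomputable def dL (n : ℕ) : (Fin (rk A B s₀ (n + 1)) → B) →ₗ[B] (Fin (rk A B s₀ n) → B) :=
  (LinearMap.ker (pr A B s₀ n)).subtype ∘ₗ pr' A B s₀ n

theorem range_dL (n : ℕ) : LinearMap.range (dL A B s₀ n) = LinearMap.ker (pr A B s₀ n) := by
  unfold dL
  rw [LinearMap.range_comp, LinearMap.range_eq_top.2 (pr'_surjective A B s₀ n), Submodule.map_top,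
    Submodule.range_subtype]

theorem ker_dL (n : ℕ) : LinearMap.ker (dL A B s₀ n) = LinearMap.ker (pr A B s₀ (n + 1)) := by
  ext x
  simp only [dL, LinearMap.mem_ker, LinearMap.comp_apply]
  constructor
  · intro h
    have h' : ((pr' A B s₀ n x : LinearMap.ker (pr A B s₀ n)) : Fin (rk A B s₀ n) → B) = 0 := h
    have h2 : pr' A B s₀ n x = 0 := Subtype.ext h'
    exact h2
  · intro h
    have h2 : pr' A B s₀ n x = 0 := h
    rw [h2]
    rfl

end build


section final

variable (A B M : Type u) [CommRing A] [CommRing B] [Algebra A B]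
  [Algebra.FinitePresentation A B] [Module.Flat A B] [AddCommGroup M] [Module B M] [Module A M]
  [IsScalarTower A B M] [Module.FinitePresentation B M] [Module.Flat A M]

/-- the initial state -/
noncomputable def init : State A B :=
  ⟨ModuleCat.of B M, ‹Module.FinitePresentation B M›, ‹Module A M›, ‹IsScalarTower A B M›,
    ‹Module.Flat A M›⟩

/-- the free resolution data -/
noncomputable def data : FreeResData B M where
  rk := rk A B (init A B M)
  dLin := dL A B (init A B M)
  augLin := pr A B (init A B M) 0
  aug_surjective := stepπ_surjective A B (seq A B (init A B M) 0)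
  exact_zero := (range_dL A B (init A B M) 0).symm
  exact_succ := fun i => by
    rw [ker_dL, range_dL]

end final

theorem exists_finite_free_resolution (A B M : Type u) [CommRing A] [CommRing B] [Algebra A B]
    [Algebra.FinitePresentation A B] [Module.Flat A B] [AddCommGroup M] [Module B M] [Module A M]
    [IsScalarTower A B M] [Module.FinitePresentation B M] [Module.Flat A M] :
    ∃ P : ProjectiveResolution (ModuleCat.of B M),
      ∀ n : ℕ, Module.Finite B (P.complex.X n) ∧ Module.Free B (P.complex.X n) := by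
  refine ⟨res (data A B M), fun n => ?_⟩
  show Module.Finite B (Fin ((data A B M).rk n) → B) ∧ Module.Free B (Fin ((data A B M).rk n) → B)
  exact ⟨inferInstance, inferInstance⟩


end Groth.Agent.Lib.R2Lead.FinFreeRes
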