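import Mathlib
import Groth.Prelude.Def_Wider
import Groth.Agent.Lib.Helper5LocalFlat
import Groth.Agent.Lib.Helper8Matlis

/-!
# A linear self-equivalence of finite length modules is the identity (lead)
-/

set_option autoImplicit false
set_option linter.style.haveILetI false
set_option linter.unusedVariables false
set_option linter.unusedSectionVars false
universe u

namespace Groth.Agent.Lib.R2LeadFinLenEq

open CategoryTheory IsLocalRing

variable {A : Type u} [CommRing A] [IsLocalRing A] [IsNoetherianRing A]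

/-- objects of `FinLen` -/
noncomputable def mkObj (M : Type u) [AddCommGroup M] [Module A M] (h : IsFiniteLength A M) :
    Dual.FinLen A := ⟨ModuleCat.of A M, h⟩

/-- morphisms of `FinLen` -/
noncomputable def mkHom {X Y : Dual.FinLen A} (f : X.obj →ₗ[A] Y.obj) : X ⟶ Y :=
  ObjectProperty.homMk (ModuleCat.ofHom f)

@[simp] lemma mkHom_apply {X Y : Dual.FinLen A} (f : X.obj →ₗ[A] Y.obj) (x : X.obj) :
    (mkHom f).hom.hom x = f x := rfl

lemma hom_ext' {X Y : Dual.FinLen A} {f g : X ⟶ Y} (h : ∀ x, f.hom.hom x = g.hom.hom x) : f = g := by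
  apply ObjectProperty.hom_ext
  apply ModuleCat.hom_ext
  exact LinearMap.ext h

lemma comp_apply' {X Y Z : Dual.FinLen A} (f : X ⟶ Y) (g : Y ⟶ Z) (x : X.obj) :
    (f ≫ g).hom.hom x = g.hom.hom (f.hom.hom x) := rfl

lemma id_apply' {X : Dual.FinLen A} (x : X.obj) : (𝟙 X : X ⟶ X).hom.hom x = x := rfl

lemma add_apply' {X Y : Dual.FinLen A} (f g : X ⟶ Y) (x : X.obj) :
    (f + g).hom.hom x = f.hom.hom x + g.hom.hom x := rfl

lemma smul_apply' {X Y : Dual.FinLen A} (a : A) (f : X ⟶ Y) (x : X.obj) :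
    (a • f).hom.hom x = a • f.hom.hom x := rfl

lemma zero_apply' {X Y : Dual.FinLen A} (x : X.obj) :
    (0 : X ⟶ Y).hom.hom x = 0 := rfl

lemma surjective_of_epi {X Y : Dual.FinLen A} (f : X ⟶ Y) [Epi f] :
    Function.Surjective f.hom.hom := by
  let N : Submodule A Y.obj := LinearMap.range f.hom.hom
  have hfl : IsFiniteLength A (Y.obj ⧸ N) := by
    obtain ⟨h1, h2⟩ := isFiniteLength_iff_isNoetherian_isArtinian.mp Y.property
    haveI := h1
    haveI := h2
    exact isFiniteLength_iff_isNoetherian_isArtinian.mpr ⟨inferInstance, inferInstance⟩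
  let Z : Dual.FinLen A := mkObj (Y.obj ⧸ N) hfl
  let q : Y ⟶ Z := mkHom N.mkQ
  have h0 : f ≫ q = f ≫ 0 := by
    apply hom_ext'
    intro x
    rw [comp_apply', comp_apply', zero_apply']
    show N.mkQ (f.hom.hom x) = 0
    rw [Submodule.mkQ_apply, Submodule.Quotient.mk_eq_zero]
    exact LinearMap.mem_range_self _ x
  have hq : q = 0 := (cancel_epi f).mp h0
  rw [← LinearMap.range_eq_top, eq_top_iff]
  intro y _
  have : q.hom.hom y = 0 := by rw [hq, zero_apply']
  have h1 : N.mkQ y = 0 := this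
  rwa [Submodule.mkQ_apply, Submodule.Quotient.mk_eq_zero] at h1

section P

variable (A)

/-- `A/m^n` as an object -/
noncomputable def P (n : ℕ) : Dual.FinLen A :=
  mkObj (A ⧸ maximalIdeal A ^ n)
    (Groth.Agent.Lib.Helper5.isFiniteLength_quotient_of_pow_le _ n le_rfl)

variable {A}

/-- the underlying module of `P n` -/
noncomputable def toP (n : ℕ) : (A ⧸ maximalIdeal A ^ n) ≃ₗ[A] (P A n).obj := LinearEquiv.refl _ _

/-- the class of `1` -/
noncomputable def one (n : ℕ) : (P A n).obj := toP n (Ideal.Quotient.mk (maximalIdeal A ^ n) 1)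

lemma mk_eq_smul (n : ℕ) (a : A) :
    (Ideal.Quotient.mk (maximalIdeal A ^ n) a) = a • (Ideal.Quotient.mk (maximalIdeal A ^ n) 1) := by
  rw [← Ideal.Quotient.mk_eq_mk, ← Ideal.Quotient.mk_eq_mk, ← Submodule.Quotient.mk_smul,
    smul_eq_mul, mul_one]

lemma P_span (n : ℕ) (y : (P A n).obj) : ∃ a : A, y = a • one n := by
  obtain ⟨a, ha⟩ := Ideal.Quotient.mk_surjective ((toP n).symm y)
  refine ⟨a, ?_⟩
  rw [one, ← map_smul, ← mk_eq_smul, ha, LinearEquiv.apply_symm_apply]

lemma smul_one_eq_zero (n : ℕ) (a : A) : a • one (A := A) n = 0 ↔ a ∈ maximalIdeal A ^ n := by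
  rw [one, ← map_smul, ← mk_eq_smul, LinearEquiv.map_eq_zero_iff, Ideal.Quotient.eq_zero_iff_mem]

/-- the map `A/m^n → X`, `1 ↦ x`, for `x` killed by `m^n` -/
noncomputable def fX {X : Dual.FinLen A} (n : ℕ) (x : X.obj)
    (hx : ∀ a ∈ maximalIdeal A ^ n, a • x = 0) : P A n ⟶ X :=
  mkHom ((Submodule.liftQ _ (LinearMap.toSpanSingleton A X.obj x) (by
    intro a ha
    rw [LinearMap.mem_ker, LinearMap.toSpanSingleton_apply]
    exact hx a ha)) ∘ₗ (toP n).symm.toLinearMap)

lemma fX_one {X : Dual.FinLen A} (n : ℕ) (x : X.obj)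
    (hx : ∀ a ∈ maximalIdeal A ^ n, a • x = 0) : (fX n x hx).hom.hom (one n) = x := by
  rw [fX, mkHom_apply, LinearMap.comp_apply, one, LinearEquiv.coe_coe, LinearEquiv.symm_apply_apply,
    ← Ideal.Quotient.mk_eq_mk, Submodule.liftQ_apply, LinearMap.toSpanSingleton_apply, one_smul]

lemma hom_P_ext {X : Dual.FinLen A} (n : ℕ) {f g : P A n ⟶ X}
    (h : f.hom.hom (one n) = g.hom.hom (one n)) : f = g := by
  apply hom_ext'
  intro y
  obtain ⟨a, rfl⟩ := P_span n y
  rw [map_smul, map_smul, h]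

/-- the transition map -/
noncomputable def π (n : ℕ) : P A (n + 1) ⟶ P A n :=
  fX (n + 1) (one n) (by
    intro a ha
    rw [smul_one_eq_zero]
    exact Ideal.pow_le_pow_right (Nat.le_succ n) ha)

lemma π_one (n : ℕ) : (π (A := A) n).hom.hom (one (n + 1)) = one n := fX_one _ _ _

end P

section Functional

/-- from a functional on `X/mX` and an element `w₀` killed by `m`, a morphism `X ⟶ W` -/
noncomputable def gf {X W : Dual.FinLen A}
    (f : (X.obj ⧸ (maximalIdeal A • ⊤ : Submodule A X.obj)) →ₗ[A] (A ⧸ maximalIdeal A))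
    (w₀ : W.obj) (hw : ∀ a ∈ maximalIdeal A, a • w₀ = 0) : X ⟶ W :=
  mkHom ((Submodule.liftQ _ (LinearMap.toSpanSingleton A W.obj w₀) (by
    intro a ha
    rw [LinearMap.mem_ker, LinearMap.toSpanSingleton_apply]
    exact hw a ha)) ∘ₗ f ∘ₗ (Submodule.mkQ _))

lemma gf_apply {X W : Dual.FinLen A}
    (f : (X.obj ⧸ (maximalIdeal A • ⊤ : Submodule A X.obj)) →ₗ[A] (A ⧸ maximalIdeal A))
    (w₀ : W.obj) (hw : ∀ a ∈ maximalIdeal A, a • w₀ = 0) (x : X.obj) (a : A)
    (ha : f (Submodule.Quotient.mk x) = Ideal.Quotient.mk _ a) :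
    (gf f w₀ hw).hom.hom x = a • w₀ := by
  rw [gf, mkHom_apply, LinearMap.comp_apply, LinearMap.comp_apply, Submodule.mkQ_apply, ha,
    ← Ideal.Quotient.mk_eq_mk, Submodule.liftQ_apply, LinearMap.toSpanSingleton_apply]

end Functional

section Fun

variable (G : Dual.FinLen A ⥤ Dual.FinLen A) [G.Additive] [G.Linear A]

/-- a linear functor preserves annihilation by scalars -/
lemma smul_eq_zero_map {X : Dual.FinLen A} (a : A) (hX : ∀ x : X.obj, a • x = 0)
    (y : (G.obj X).obj) : a • y = 0 := by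
  have h0 : a • 𝟙 X = 0 := by
    apply hom_ext'
    intro x
    rw [smul_apply', id_apply', zero_apply', hX]
  have h1 : a • 𝟙 (G.obj X) = 0 := by
    rw [← G.map_id, ← Functor.map_smul, h0, G.map_zero]
  have h2 : (a • 𝟙 (G.obj X)).hom.hom y = (0 : G.obj X ⟶ G.obj X).hom.hom y := by rw [h1]
  rwa [smul_apply', id_apply', zero_apply'] at h2

/-- a faithful linear functor reflects annihilation by scalars -/
lemma smul_eq_zero_of_map [G.Faithful] {X : Dual.FinLen A} (a : A)
    (hX : ∀ y : (G.obj X).obj, a • y = 0) (x : X.obj) : a • x = 0 := by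
  have h1 : a • 𝟙 (G.obj X) = 0 := by
    apply hom_ext'
    intro y
    rw [smul_apply', id_apply', zero_apply', hX]
  have h0 : a • 𝟙 X = 0 := by
    apply G.map_injective
    rw [Functor.map_smul, G.map_id, h1, G.map_zero]
  have h2 : (a • 𝟙 X).hom.hom x = (0 : X ⟶ X).hom.hom x := by rw [h0]
  rwa [smul_apply', id_apply', zero_apply'] at h2

lemma P_killed (n : ℕ) (a : A) (ha : a ∈ maximalIdeal A ^ n) (y : (P A n).obj) : a • y = 0 := by
  obtain ⟨b, rfl⟩ := P_span n y
  rw [smul_comm, (smul_one_eq_zero n a).mpr ha, smul_zero]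

lemma Q_killed (n : ℕ) (a : A) (ha : a ∈ maximalIdeal A ^ n) (y : (G.obj (P A n)).obj) :
    a • y = 0 :=
  smul_eq_zero_map G a (P_killed n a ha) y

lemma mem_of_Q_killed [G.Faithful] (n : ℕ) (a : A) (h : ∀ y : (G.obj (P A n)).obj, a • y = 0) :
    a ∈ maximalIdeal A ^ n := by
  rw [← smul_one_eq_zero n a]
  exact smul_eq_zero_of_map G a h _

/-- the projection `A/m^n → A/m` -/
noncomputable def proj (n : ℕ) (hn : 1 ≤ n) : P A n ⟶ P A 1 :=
  fX n (one 1) (by
    intro a ha
    rw [smul_one_eq_zero]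
    exact Ideal.pow_le_pow_right hn ha)

lemma proj_one (n : ℕ) (hn : 1 ≤ n) : (proj (A := A) n hn).hom.hom (one n) = one 1 := fX_one _ _ _

/-- every morphism `G(A/m^n) ⟶ G(A/m)` is a multiple of `G(proj)` -/
lemma factH [G.Full] (n : ℕ) (hn : 1 ≤ n) (g : G.obj (P A n) ⟶ G.obj (P A 1)) :
    ∃ c : A, g = c • G.map (proj n hn) := by
  obtain ⟨g', rfl⟩ := G.map_surjective g
  obtain ⟨c, hc⟩ := P_span 1 (g'.hom.hom (one n))
  refine ⟨c, ?_⟩
  rw [← Functor.map_smul]
  congr 1
  apply hom_P_ext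
  rw [hc, smul_apply', proj_one]

end Fun

section Dual

lemma exists_functional {X : Dual.FinLen A} (x₀ x : X.obj)
    (h : ∀ c : A, x - c • x₀ ∉ (maximalIdeal A • ⊤ : Submodule A X.obj)) :
    ∃ f : (X.obj ⧸ (maximalIdeal A • ⊤ : Submodule A X.obj)) →ₗ[A] (A ⧸ maximalIdeal A),
      f (Submodule.Quotient.mk x₀) = 0 ∧
        ∃ u : A, u ∉ maximalIdeal A ∧ f (Submodule.Quotient.mk x) = Ideal.Quotient.mk _ u := by
  letI : Field (A ⧸ maximalIdeal A) := Ideal.Quotient.field _
  let V := X.obj ⧸ (maximalIdeal A • ⊤ : Submodule A X.obj)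
  let v₀ : V := Submodule.Quotient.mk x₀
  let v : V := Submodule.Quotient.mk x
  let p : Submodule (A ⧸ maximalIdeal A) V := Submodule.span _ {v₀}
  have hv : v ∉ p := by
    intro hvp
    obtain ⟨cbar, hc⟩ := Submodule.mem_span_singleton.mp hvp
    obtain ⟨c, rfl⟩ := Ideal.Quotient.mk_surjective cbar
    have h1 : (Ideal.Quotient.mk (maximalIdeal A) c) • v₀ = c • v₀ :=
      Module.IsTorsionBySet.mk_smul (Module.isTorsionBySet_quotient_ideal_smul X.obj
        (maximalIdeal A)) c v₀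
    rw [h1] at hc
    apply h c
    rw [← Submodule.Quotient.mk_eq_zero, Submodule.Quotient.mk_sub, Submodule.Quotient.mk_smul]
    show v - c • v₀ = 0
    rw [hc, sub_self]
  obtain ⟨f₀, hf₀v, hf₀p⟩ := Submodule.exists_dual_map_eq_bot_of_notMem hv inferInstance
  refine ⟨f₀.restrictScalars A, ?_, ?_⟩
  · have h1 : f₀ v₀ ∈ Submodule.map f₀ p :=
      Submodule.mem_map_of_mem (Submodule.mem_span_singleton_self v₀)
    rw [hf₀p, Submodule.mem_bot] at h1
    exact h1
  · obtain ⟨u, hu⟩ := Ideal.Quotient.mk_surjective (f₀ v)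
    refine ⟨u, ?_, hu.symm⟩
    intro hum
    apply hf₀v
    rw [← hu]
    exact Ideal.Quotient.eq_zero_iff_mem.mpr hum

end Dual

section Cyclic

variable (G : Dual.FinLen A ⥤ Dual.FinLen A) [G.Additive] [G.Linear A] [G.Full] [G.Faithful]
  [G.PreservesEpimorphisms]

lemma epi_of_surjective {X Y : Dual.FinLen A} (f : X ⟶ Y) (hf : Function.Surjective f.hom.hom) :
    Epi f := by
  constructor
  intro Z g₁ g₂ h
  apply hom_ext'
  intro y
  obtain ⟨x, rfl⟩ := hf y
  have := congrArg (fun t => t.hom.hom x) h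
  exact this

lemma unit_smul_ne_zero {X : Dual.FinLen A} (u : A) (hu : u ∉ maximalIdeal A) (w : X.obj)
    (hw : w ≠ 0) : u • w ≠ 0 := by
  intro h
  have hu' : IsUnit u := by
    by_contra hnu
    exact hu ((mem_maximalIdeal u).mpr hnu)
  obtain ⟨v, hv⟩ := hu'.exists_left_inv
  apply hw
  rw [← one_smul A w, ← hv, mul_smul, h, smul_zero]

lemma W_killed (a : A) (ha : a ∈ maximalIdeal A) (y : (G.obj (P A 1)).obj) : a • y = 0 :=
  Q_killed G 1 a (by rwa [pow_one]) y

lemma W_smul_top : (maximalIdeal A • ⊤ : Submodule A (G.obj (P A 1)).obj) = ⊥ := by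
  rw [eq_bot_iff, Submodule.smul_le]
  intro a ha y _
  rw [Submodule.mem_bot]
  exact W_killed G a ha y

lemma proj_one_eq_id : proj (A := A) 1 le_rfl = 𝟙 (P A 1) := by
  apply hom_P_ext
  rw [proj_one, id_apply']

lemma W_cyclic (w₀ w : (G.obj (P A 1)).obj) (hw₀ : w₀ ≠ 0) : ∃ c : A, w = c • w₀ := by
  by_contra hcon
  push_neg at hcon
  have h : ∀ c : A, w - c • w₀ ∉ (maximalIdeal A • ⊤ : Submodule A (G.obj (P A 1)).obj) := by
    intro c hc
    rw [W_smul_top, Submodule.mem_bot, sub_eq_zero] at hc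
    exact hcon c hc
  obtain ⟨f, hf0, u, hu, hfu⟩ := exists_functional w₀ w h
  let g : G.obj (P A 1) ⟶ G.obj (P A 1) := gf f w₀ (fun a ha => W_killed G a ha w₀)
  have hg0 : g.hom.hom w₀ = 0 := by
    have := gf_apply f w₀ (fun a ha => W_killed G a ha w₀) w₀ 0 (by rw [hf0, map_zero])
    rw [this, zero_smul]
  have hgw : g.hom.hom w = u • w₀ := gf_apply f w₀ (fun a ha => W_killed G a ha w₀) w u hfu
  obtain ⟨c, hc⟩ := factH G 1 le_rfl g
  rw [proj_one_eq_id, G.map_id] at hc
  have hcy : ∀ y, g.hom.hom y = c • y := by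
    intro y
    rw [hc, smul_apply', id_apply']
  have hcm : c ∈ maximalIdeal A := by
    by_contra hcm
    exact unit_smul_ne_zero c hcm w₀ hw₀ ((hcy w₀).symm.trans hg0)
  have h1 : g.hom.hom w = 0 := by rw [hcy, W_killed G c hcm]
  exact unit_smul_ne_zero u hu w₀ hw₀ (hgw.symm.trans h1)

lemma exists_W_ne_zero : ∃ w₀ : (G.obj (P A 1)).obj, w₀ ≠ 0 := by
  by_contra hcon
  push_neg at hcon
  have h1 : (1 : A) ∈ maximalIdeal A ^ 1 := mem_of_Q_killed G 1 1 (fun y => by rw [hcon y, smul_zero])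
  rw [pow_one] at h1
  exact (Ideal.ne_top_iff_one _).mp (maximalIdeal.isMaximal A).ne_top h1

lemma proj_surjective (n : ℕ) (hn : 1 ≤ n) : Function.Surjective (proj (A := A) n hn).hom.hom := by
  intro y
  obtain ⟨a, rfl⟩ := P_span 1 y
  exact ⟨a • one n, by rw [map_smul, proj_one]⟩

lemma Q_cyclic (n : ℕ) (hn : 1 ≤ n) :
    ∃ e : (G.obj (P A n)).obj, ∀ y : (G.obj (P A n)).obj, ∃ c : A, y = c • e := by
  haveI : Epi (proj (A := A) n hn) := epi_of_surjective _ (proj_surjective n hn)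
  haveI : Epi (G.map (proj (A := A) n hn)) := G.map_epi _
  have hρ := surjective_of_epi (G.map (proj (A := A) n hn))
  obtain ⟨w₀, hw₀⟩ := exists_W_ne_zero G
  obtain ⟨e, he⟩ := hρ w₀
  have hker : ∀ y : (G.obj (P A n)).obj, (G.map (proj n hn)).hom.hom y = 0 →
      y ∈ (maximalIdeal A • ⊤ : Submodule A (G.obj (P A n)).obj) := by
    intro y hy
    by_contra hym
    have h : ∀ c : A, y - c • (0 : (G.obj (P A n)).obj) ∉
        (maximalIdeal A • ⊤ : Submodule A (G.obj (P A n)).obj) := by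
      intro c
      rwa [smul_zero, sub_zero]
    obtain ⟨f, -, u, hu, hfu⟩ := exists_functional 0 y h
    let g : G.obj (P A n) ⟶ G.obj (P A 1) := gf f w₀ (fun a ha => W_killed G a ha w₀)
    have hgy : g.hom.hom y = u • w₀ := gf_apply f w₀ (fun a ha => W_killed G a ha w₀) y u hfu
    obtain ⟨c, hc⟩ := factH G n hn g
    have h1 : g.hom.hom y = 0 := by rw [hc, smul_apply', hy, smul_zero]
    exact unit_smul_ne_zero u hu w₀ hw₀ (hgy.symm.trans h1)
  refine ⟨e, ?_⟩
  have hfin : Module.Finite A (G.obj (P A n)).obj := by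
    obtain ⟨h1, -⟩ := isFiniteLength_iff_isNoetherian_isArtinian.mp (G.obj (P A n)).property
    haveI := h1
    infer_instance
  have hle : (⊤ : Submodule A (G.obj (P A n)).obj) ≤
      Submodule.span A {e} ⊔ maximalIdeal A • ⊤ := by
    intro q _
    obtain ⟨a, ha⟩ := W_cyclic G w₀ ((G.map (proj n hn)).hom.hom q) hw₀
    have h1 : (G.map (proj n hn)).hom.hom (q - a • e) = 0 := by
      rw [map_sub, map_smul, he, ha, sub_self]
    have h2 := hker _ h1
    have h3 : q = a • e + (q - a • e) := by abel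
    rw [h3]
    exact Submodule.add_mem_sup (Submodule.smul_mem _ _ (Submodule.mem_span_singleton_self e)) h2
  have hN := Submodule.le_of_le_smul_of_le_jacobson_bot (N := Submodule.span A {e})
    hfin.fg_top (by rw [IsLocalRing.jacobson_eq_maximalIdeal ⊥ bot_ne_top]) hle
  intro y
  have hy : y ∈ Submodule.span A {e} := hN Submodule.mem_top
  obtain ⟨c, hc⟩ := Submodule.mem_span_singleton.mp hy
  exact ⟨c, hc.symm⟩

/-- the morphism `A/m^n ⟶ G(A/m^n)`, `1 ↦ e` -/
noncomputable def φ (n : ℕ) (e : (G.obj (P A n)).obj) : P A n ⟶ G.obj (P A n) :=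
  fX n e (fun a ha => Q_killed G n a ha e)

lemma φ_one (n : ℕ) (e : (G.obj (P A n)).obj) : (φ G n e).hom.hom (one n) = e := fX_one _ _ _

/-- `e` is a basis of `G(A/m^n)` over `A/m^n` -/
def IsGood (n : ℕ) (e : (G.obj (P A n)).obj) : Prop := Function.Bijective (φ G n e).hom.hom

lemma isGood_of_span (n : ℕ) (e : (G.obj (P A n)).obj)
    (h : ∀ y : (G.obj (P A n)).obj, ∃ c : A, y = c • e) : IsGood G n e := by
  constructor
  · rw [injective_iff_map_eq_zero]
    intro z hz
    obtain ⟨a, rfl⟩ := P_span n z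
    rw [map_smul, φ_one] at hz
    have ha : a ∈ maximalIdeal A ^ n := by
      apply mem_of_Q_killed G n a
      intro y
      obtain ⟨c, rfl⟩ := h y
      rw [smul_comm, hz, smul_zero]
    exact (smul_one_eq_zero n a).mpr ha
  · intro y
    obtain ⟨c, rfl⟩ := h y
    exact ⟨c • one n, by rw [map_smul, φ_one]⟩

lemma IsGood.span {n : ℕ} {e : (G.obj (P A n)).obj} (h : IsGood G n e)
    (y : (G.obj (P A n)).obj) : ∃ c : A, y = c • e := by
  obtain ⟨z, rfl⟩ := h.2 y
  obtain ⟨a, rfl⟩ := P_span n z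
  exact ⟨a, by rw [map_smul, φ_one]⟩

lemma IsGood.mem {n : ℕ} {e : (G.obj (P A n)).obj} (h : IsGood G n e) (a : A) (ha : a • e = 0) :
    a ∈ maximalIdeal A ^ n := by
  apply mem_of_Q_killed G n a
  intro y
  obtain ⟨c, rfl⟩ := h.span G y
  rw [smul_comm, ha, smul_zero]

lemma Q_zero_eq (y : (G.obj (P A 0)).obj) : y = 0 := by
  have h1 : (1 : A) ∈ maximalIdeal A ^ 0 := by
    rw [pow_zero, Ideal.one_eq_top]
    exact Submodule.mem_top
  have := Q_killed G 0 1 h1 y
  rwa [one_smul] at this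

lemma exists_good (n : ℕ) : ∃ e : (G.obj (P A n)).obj, IsGood G n e := by
  rcases Nat.eq_zero_or_pos n with rfl | hn
  · exact ⟨0, isGood_of_span G 0 0 (fun y => ⟨1, by rw [smul_zero]; exact Q_zero_eq G y⟩)⟩
  · obtain ⟨e, he⟩ := Q_cyclic G n hn
    exact ⟨e, isGood_of_span G n e he⟩

lemma π_surjective (n : ℕ) : Function.Surjective (π (A := A) n).hom.hom := by
  intro y
  obtain ⟨a, rfl⟩ := P_span n y
  exact ⟨a • one (n + 1), by rw [map_smul, π_one]⟩

lemma exists_good_lift (n : ℕ) (e : (G.obj (P A n)).obj) (he : IsGood G n e) :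
    ∃ e' : (G.obj (P A (n + 1))).obj, IsGood G (n + 1) e' ∧ (G.map (π n)).hom.hom e' = e := by
  rcases Nat.eq_zero_or_pos n with rfl | hn
  · obtain ⟨e', he'⟩ := exists_good G 1
    exact ⟨e', he', (Q_zero_eq G _).trans (Q_zero_eq G e).symm⟩
  · haveI : Epi (π (A := A) n) := epi_of_surjective _ (π_surjective n)
    haveI : Epi (G.map (π (A := A) n)) := G.map_epi _
    have hρ := surjective_of_epi (G.map (π (A := A) n))
    obtain ⟨y, hy⟩ := hρ e
    obtain ⟨e'', he''⟩ := exists_good G (n + 1)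
    obtain ⟨b, hb⟩ := he''.span G y
    obtain ⟨c, hc⟩ := he.span G ((G.map (π n)).hom.hom e'')
    have h1 : (1 - b * c) • e = 0 := by
      rw [sub_smul, one_smul, mul_smul, ← hc, ← map_smul, ← hb, hy, sub_self]
    have h2 : 1 - b * c ∈ maximalIdeal A :=
      Ideal.pow_le_self (Nat.pos_iff_ne_zero.mp hn) (he.mem G _ h1)
    have hbu : IsUnit b := by
      by_contra hnu
      have hbm : b ∈ maximalIdeal A := (mem_maximalIdeal b).mpr hnu
      have : (1 : A) ∈ maximalIdeal A := by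
        have := Ideal.add_mem _ h2 (Ideal.mul_mem_right c _ hbm)
        rwa [sub_add_cancel] at this
      exact (Ideal.ne_top_iff_one _).mp (maximalIdeal.isMaximal A).ne_top this
    obtain ⟨b', hb'⟩ := hbu.exists_left_inv
    refine ⟨y, isGood_of_span G (n + 1) y ?_, hy⟩
    intro z
    obtain ⟨d, rfl⟩ := he''.span G z
    refine ⟨d * b', ?_⟩
    rw [hb, mul_smul, ← mul_smul b' b, hb', one_smul]

/-- a compatible system of bases -/
noncomputable def eSeq : (n : ℕ) → {e : (G.obj (P A n)).obj // IsGood G n e}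
  | 0 => ⟨(exists_good G 0).choose, (exists_good G 0).choose_spec⟩
  | n + 1 => ⟨(exists_good_lift G n (eSeq n).1 (eSeq n).2).choose,
      (exists_good_lift G n (eSeq n).1 (eSeq n).2).choose_spec.1⟩

lemma eSeq_succ (n : ℕ) : (G.map (π n)).hom.hom (eSeq G (n + 1)).1 = (eSeq G n).1 :=
  (exists_good_lift G n (eSeq G n).1 (eSeq G n).2).choose_spec.2

section Val

/-- the value at `x` (killed by `m^n`) -/
noncomputable def val {X : Dual.FinLen A} (n : ℕ) (x : X.obj)
    (hx : ∀ a ∈ maximalIdeal A ^ n, a • x = 0) : (G.obj X).obj :=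
  (G.map (fX n x hx)).hom.hom (eSeq G n).1

lemma val_succ {X : Dual.FinLen A} (n : ℕ) (x : X.obj)
    (hx : ∀ a ∈ maximalIdeal A ^ n, a • x = 0) (hx' : ∀ a ∈ maximalIdeal A ^ (n + 1), a • x = 0) :
    val G (n + 1) x hx' = val G n x hx := by
  have h1 : fX (n + 1) x hx' = π n ≫ fX n x hx := by
    apply hom_P_ext
    rw [fX_one, comp_apply', π_one, fX_one]
  rw [val, val, h1, G.map_comp, comp_apply', eSeq_succ]

lemma val_add_le {X : Dual.FinLen A} (n k : ℕ) (x : X.obj)
    (hx : ∀ a ∈ maximalIdeal A ^ n, a • x = 0) (hx' : ∀ a ∈ maximalIdeal A ^ (n + k), a • x = 0) :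
    val G (n + k) x hx' = val G n x hx := by
  induction k with
  | zero => rfl
  | succ k ih =>
    have hk : ∀ a ∈ maximalIdeal A ^ (n + k), a • x = 0 := fun a ha =>
      hx a (Ideal.pow_le_pow_right (Nat.le_add_right n k) ha)
    rw [← ih hk]
    exact val_succ G (n + k) x hk hx'

lemma val_indep {X : Dual.FinLen A} (n n' : ℕ) (x : X.obj)
    (hx : ∀ a ∈ maximalIdeal A ^ n, a • x = 0) (hx' : ∀ a ∈ maximalIdeal A ^ n', a • x = 0) :
    val G n x hx = val G n' x hx' := by
  have h1 : ∀ a ∈ maximalIdeal A ^ (n + n'), a • x = 0 := fun a ha =>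
    hx a (Ideal.pow_le_pow_right (Nat.le_add_right n n') ha)
  have h2 : ∀ a ∈ maximalIdeal A ^ (n' + n), a • x = 0 := fun a ha =>
    hx' a (Ideal.pow_le_pow_right (Nat.le_add_right n' n) ha)
  rw [← val_add_le G n n' x hx h1, ← val_add_le G n' n x hx' h2]
  congr 1
  exact Nat.add_comm n n'

lemma val_add {X : Dual.FinLen A} (n : ℕ) (x y : X.obj)
    (hx : ∀ a ∈ maximalIdeal A ^ n, a • x = 0) (hy : ∀ a ∈ maximalIdeal A ^ n, a • y = 0)
    (hxy : ∀ a ∈ maximalIdeal A ^ n, a • (x + y) = 0) :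
    val G n (x + y) hxy = val G n x hx + val G n y hy := by
  have h1 : fX n (x + y) hxy = fX n x hx + fX n y hy := by
    apply hom_P_ext
    rw [fX_one, add_apply', fX_one, fX_one]
  rw [val, val, val, h1, G.map_add, add_apply']

lemma val_smul {X : Dual.FinLen A} (n : ℕ) (c : A) (x : X.obj)
    (hx : ∀ a ∈ maximalIdeal A ^ n, a • x = 0)
    (hcx : ∀ a ∈ maximalIdeal A ^ n, a • (c • x) = 0) :
    val G n (c • x) hcx = c • val G n x hx := by
  have h1 : fX n (c • x) hcx = c • fX n x hx := by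
    apply hom_P_ext
    rw [fX_one, smul_apply', fX_one]
  rw [val, val, h1, Functor.map_smul, smul_apply']

lemma val_map {X Y : Dual.FinLen A} (g : X ⟶ Y) (n : ℕ) (x : X.obj)
    (hx : ∀ a ∈ maximalIdeal A ^ n, a • x = 0)
    (hgx : ∀ a ∈ maximalIdeal A ^ n, a • g.hom.hom x = 0) :
    (G.map g).hom.hom (val G n x hx) = val G n (g.hom.hom x) hgx := by
  have h1 : fX n (g.hom.hom x) hgx = fX n x hx ≫ g := by
    apply hom_P_ext
    rw [fX_one, comp_apply', fX_one]
  rw [val, val, h1, G.map_comp, comp_apply']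

lemma val_eq_zero {X : Dual.FinLen A} (n : ℕ) (x : X.obj)
    (hx : ∀ a ∈ maximalIdeal A ^ n, a • x = 0) (h : val G n x hx = 0) : x = 0 := by
  have h1 : G.map (fX n x hx) = 0 := by
    apply hom_ext'
    intro y
    obtain ⟨c, rfl⟩ := (eSeq G n).2.span G y
    rw [map_smul, zero_apply']
    show c • val G n x hx = 0
    rw [h, smul_zero]
  have h2 : fX n x hx = 0 := by
    apply G.map_injective
    rw [h1, G.map_zero]
  rw [← fX_one n x hx, h2, zero_apply']

lemma val_surjective {X : Dual.FinLen A} (n : ℕ)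
    (hX : ∀ a ∈ maximalIdeal A ^ n, ∀ x : X.obj, a • x = 0) (y : (G.obj X).obj) :
    ∃ x : X.obj, val G n x (fun a ha => hX a ha x) = y := by
  have hy : ∀ a ∈ maximalIdeal A ^ n, a • y = 0 := fun a ha =>
    smul_eq_zero_map G a (hX a ha) y
  let E := LinearEquiv.ofBijective (φ G n (eSeq G n).1).hom.hom (eSeq G n).2
  let h : G.obj (P A n) ⟶ G.obj X := mkHom ((fX n y hy).hom.hom ∘ₗ E.symm.toLinearMap)
  have he : h.hom.hom (eSeq G n).1 = y := by
    have h1 : E.symm (eSeq G n).1 = one n := by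
      rw [LinearEquiv.symm_apply_eq]
      exact (φ_one G n _).symm
    rw [mkHom_apply, LinearMap.comp_apply, LinearEquiv.coe_coe, h1, fX_one]
  obtain ⟨h', hh'⟩ := G.map_surjective h
  refine ⟨h'.hom.hom (one n), ?_⟩
  have h2 : fX n (h'.hom.hom (one n)) (fun a ha => hX a ha _) = h' := by
    apply hom_P_ext
    rw [fX_one]
  rw [val, h2, hh', he]

end Val

section Eta

open Groth.Agent.Lib.Helper8.Matlis in
lemma exists_killing (X : Dual.FinLen A) :
    ∃ k : ℕ, ∀ a ∈ maximalIdeal A ^ k, ∀ x : X.obj, a • x = 0 :=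
  exists_pow_smul_eq_zero_of_isFiniteLength X.obj X.property

/-- a killing exponent -/
noncomputable def N (X : Dual.FinLen A) : ℕ := (exists_killing X).choose

lemma N_spec (X : Dual.FinLen A) : ∀ a ∈ maximalIdeal A ^ N X, ∀ x : X.obj, a • x = 0 :=
  (exists_killing X).choose_spec

/-- the comparison map `X → G X` -/
noncomputable def η (X : Dual.FinLen A) : X.obj →ₗ[A] (G.obj X).obj where
  toFun x := val G (N X) x (fun a ha => N_spec X a ha x)
  map_add' x y := val_add G (N X) x y _ _ _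
  map_smul' c x := val_smul G (N X) c x _ _

lemma η_apply (X : Dual.FinLen A) (x : X.obj) :
    η G X x = val G (N X) x (fun a ha => N_spec X a ha x) := rfl

lemma η_bijective (X : Dual.FinLen A) : Function.Bijective (η G X) := by
  constructor
  · rw [injective_iff_map_eq_zero]
    intro x hx
    exact val_eq_zero G (N X) x _ hx
  · intro y
    obtain ⟨x, hx⟩ := val_surjective G (N X) (N_spec X) y
    exact ⟨x, hx⟩

lemma η_natural {X Y : Dual.FinLen A} (g : X ⟶ Y) (x : X.obj) :
    (G.map g).hom.hom (η G X x) = η G Y (g.hom.hom x) := by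
  rw [η_apply, η_apply, val_map G g (N X) x _ (fun a ha => by rw [← map_smul, N_spec X a ha x, map_zero])]
  exact val_indep G _ _ _ _ _

/-- the natural isomorphism -/
noncomputable def natIso : 𝟭 (Dual.FinLen A) ≅ G :=
  NatIso.ofComponents (fun X =>
    { hom := mkHom (η G X)
      inv := mkHom (LinearEquiv.ofBijective (η G X) (η_bijective G X)).symm.toLinearMap
      hom_inv_id := by
        apply hom_ext'
        intro x
        rw [comp_apply', mkHom_apply, mkHom_apply, id_apply']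
        exact (LinearEquiv.ofBijective (η G X) (η_bijective G X)).symm_apply_apply x
      inv_hom_id := by
        apply hom_ext'
        intro y
        rw [comp_apply', mkHom_apply, mkHom_apply, id_apply']
        exact (LinearEquiv.ofBijective (η G X) (η_bijective G X)).apply_symm_apply y })
    (by
      intro X Y g
      apply hom_ext'
      intro x
      rw [comp_apply', comp_apply', mkHom_apply, mkHom_apply]
      exact (η_natural G g x).symm)

end Eta

end Cyclic

theorem main (F : Dual.FinLen A ≌ Dual.FinLen A) [F.functor.Additive] [F.functor.Linear A] :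
    Nonempty (F.functor ≅ 𝟭 (Dual.FinLen A)) :=
  ⟨(natIso F.functor).symm⟩

end Groth.Agent.Lib.R2LeadFinLenEq
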