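import Mathlib

/-!
# General lemmas for "H-projective ⇒ projective" (lead)

* `appLE_mem_comap` : sections of an ideal sheaf pull back into the pulled back ideal sheaf;
* `ext_of_comap_eq` : ideal sheaves agreeing after pullback to a jointly surjective family of
  open immersions agree;
* `comapGr` : transport of an `ℕ`-grading along a ring isomorphism, as `AddSubgroup`s;
* `isLocalizationAway_quotient` : localization of quotient rings;
* `eq_sum_of_isHomogeneous_one` : linear forms.
-/

set_option autoImplicit false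
universe u

open CategoryTheory CategoryTheory.Limits AlgebraicGeometry TopologicalSpace Opposite

namespace Groth.Agent.Lib.R2LeadHProjA

section IdealSheaf

variable {X Y : Scheme.{u}}

/-- sections of an ideal sheaf pull back into the pulled back ideal sheaf -/
theorem appLE_mem_comap (m : X ⟶ Y) (I : Y.IdealSheafData) (W : Y.affineOpens)
    (W' : X.affineOpens) (h : W'.1 ≤ m ⁻¹ᵁ W.1) (x : Γ(Y, W.1)) (hx : x ∈ I.ideal W) :
    (m.appLE W.1 W'.1 h).hom x ∈ (I.comap m).ideal W' := by
  unfold Scheme.IdealSheafData.comap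
  rw [Scheme.Hom.ker_apply, RingHom.mem_ker]
  have hx0 : (I.subschemeι.app W.1).hom x = 0 := by
    have h1 : x ∈ (I.subschemeι.ker).ideal W := by rw [I.ker_subschemeι]; exact hx
    rwa [Scheme.Hom.ker_apply, RingHom.mem_ker] at h1
  have hcond := pullback.condition (f := m) (g := I.subschemeι)
  have e1 : pullback.fst m I.subschemeι ⁻¹ᵁ W'.1 ≤
      (pullback.fst m I.subschemeι ≫ m) ⁻¹ᵁ W.1 := by
    rw [Scheme.Hom.comp_preimage]
    exact (pullback.fst m I.subschemeι).preimage_mono h
  have h2 : m.appLE W.1 W'.1 h ≫ (pullback.fst m I.subschemeι).app W'.1 =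
      (pullback.fst m I.subschemeι ≫ m).appLE W.1 (pullback.fst m I.subschemeι ⁻¹ᵁ W'.1) e1 := by
    rw [Scheme.Hom.comp_appLE, Scheme.Hom.appLE, Scheme.Hom.appLE, Category.assoc,
      Scheme.Hom.naturality]
    rfl
  have e2 : pullback.fst m I.subschemeι ⁻¹ᵁ W'.1 ≤
      (pullback.snd m I.subschemeι ≫ I.subschemeι) ⁻¹ᵁ W.1 := by
    rw [← hcond]; exact e1
  have h3 : (pullback.fst m I.subschemeι ≫ m).appLE W.1
      (pullback.fst m I.subschemeι ⁻¹ᵁ W'.1) e1 =
      (pullback.snd m I.subschemeι ≫ I.subschemeι).appLE W.1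
        (pullback.fst m I.subschemeι ⁻¹ᵁ W'.1) e2 := by
    congr 1
  have h4 := congrArg (fun t : Γ(Y, W.1) ⟶ _ => t.hom x) (h2.trans h3)
  simp only [CommRingCat.hom_comp, RingHom.comp_apply] at h4
  rw [h4, Scheme.Hom.comp_appLE, CommRingCat.hom_comp, RingHom.comp_apply, hx0, map_zero]

/-- ideal sheaves that agree after pullback to a jointly surjective family of open immersions
agree -/
theorem le_of_comap_le {ι : Type*} {Z : ι → Scheme.{u}} (c : ∀ k, Z k ⟶ Y)
    [∀ k, IsOpenImmersion (c k)] (hc : ∀ y : Y, ∃ k, y ∈ Set.range (c k))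
    {I J : Y.IdealSheafData} (h : ∀ k, I.comap (c k) ≤ J.comap (c k)) : I ≤ J := by
  refine Scheme.IdealSheafData.le_of_iSup_eq_top
    (ι := Σ k, (Z k).affineOpens)
    (fun p => ⟨c p.1 ''ᵁ p.2.1, p.2.2.image_of_isOpenImmersion (c p.1)⟩) ?_ ?_
  · rw [eq_top_iff]
    intro y _
    obtain ⟨k, z, rfl⟩ := hc y
    obtain ⟨_, ⟨W, hW, rfl⟩, hzW, -⟩ := (Z k).isBasis_affineOpens.exists_subset_of_mem_open
      (Set.mem_univ z) isOpen_univ
    refine Opens.mem_iSup.mpr ⟨⟨k, ⟨W, hW⟩⟩, ?_⟩
    exact ⟨z, hzW, rfl⟩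
  · rintro ⟨k, W⟩
    have h1 := h k W
    rw [Scheme.IdealSheafData.ideal_comap_of_isOpenImmersion,
      Scheme.IdealSheafData.ideal_comap_of_isOpenImmersion] at h1
    intro x hx
    have hbij : Function.Bijective ((c k).appIso W.1).inv.hom :=
      ConcreteCategory.bijective_of_isIso ((c k).appIso W.1).inv
    obtain ⟨x', rfl⟩ := hbij.2 x
    exact h1 hx

theorem ext_of_comap_eq {ι : Type*} {Z : ι → Scheme.{u}} (c : ∀ k, Z k ⟶ Y)
    [∀ k, IsOpenImmersion (c k)] (hc : ∀ y : Y, ∃ k, y ∈ Set.range (c k))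
    {I J : Y.IdealSheafData} (h : ∀ k, I.comap (c k) = J.comap (c k)) : I = J :=
  le_antisymm (le_of_comap_le c hc fun k => (h k).le) (le_of_comap_le c hc fun k => (h k).ge)

end IdealSheaf

noncomputable section Transport

open DirectSum

variable {A B : Type*} [CommRing A] [CommRing B] (e : A ≃+* B) {σ : Type*} [SetLike σ B]
  [AddSubgroupClass σ B] (ℬ : ℕ → σ)

/-- the grading transported along a ring isomorphism, by additive subgroups -/
def comapGr (d : ℕ) : AddSubgroup A :=
  AddSubgroup.comap e.toRingHom.toAddMonoidHom (AddSubgroup.ofClass (ℬ d))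

theorem mem_comapGr {d : ℕ} {a : A} : a ∈ comapGr e ℬ d ↔ e a ∈ ℬ d := Iff.rfl

/-- the pieces -/
def piece (d : ℕ) : ↥(ℬ d) →+ ↥(comapGr e ℬ d) where
  toFun b := ⟨e.symm b.1, by rw [mem_comapGr, RingEquiv.apply_symm_apply]; exact b.2⟩
  map_zero' := Subtype.ext (map_zero e.symm)
  map_add' a b := Subtype.ext (map_add e.symm a.1 b.1)

theorem coe_map_piece (z : ⨁ i, ℬ i) :
    DirectSum.coeAddMonoidHom (comapGr e ℬ) (DirectSum.map (piece e ℬ) z) =
      e.symm (DirectSum.coeAddMonoidHom ℬ z) := by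
  classical
  induction z using DirectSum.induction_on with
  | zero => rw [map_zero, map_zero, map_zero, map_zero]
  | of g x =>
    rw [DirectSum.map_of, DirectSum.coeAddMonoidHom_of, DirectSum.coeAddMonoidHom_of]
    rfl
  | add x y hx hy => rw [map_add, map_add, map_add, map_add, hx, hy]

variable [GradedRing ℬ]

/-- the decomposition of the transported grading -/
@[instance_reducible]
def comapGrDecomposition : DirectSum.Decomposition (comapGr e ℬ) :=
  DirectSum.Decomposition.ofAddHom (comapGr e ℬ)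
    ((DirectSum.map (piece e ℬ)).comp
      ((DirectSum.decomposeAddEquiv ℬ).toAddMonoidHom.comp e.toRingHom.toAddMonoidHom))
    (by
      apply AddMonoidHom.ext
      intro m
      rw [AddMonoidHom.comp_apply, AddMonoidHom.comp_apply, AddMonoidHom.comp_apply,
        coe_map_piece]
      change e.symm (DirectSum.coeAddMonoidHom ℬ (DirectSum.decompose ℬ (e m))) = m
      have h1 : DirectSum.coeAddMonoidHom ℬ (DirectSum.decompose ℬ (e m)) = e m :=
        DirectSum.Decomposition.left_inv (e m)
      rw [h1, RingEquiv.symm_apply_apply])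
    (by
      apply DirectSum.addHom_ext
      rintro g ⟨y, hy⟩
      rw [AddMonoidHom.comp_apply, AddMonoidHom.comp_apply, DirectSum.coeAddMonoidHom_of,
        AddMonoidHom.id_apply]
      change DirectSum.map (piece e ℬ) (DirectSum.decompose ℬ (e y)) = _
      rw [DirectSum.decompose_of_mem ℬ ((mem_comapGr e ℬ).mp hy), DirectSum.map_of]
      congr 1
      exact Subtype.ext (e.symm_apply_apply y))

instance comapGr_gradedRing : GradedRing (comapGr e ℬ) :=
  { comapGrDecomposition e ℬ with
    one_mem := by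
      rw [mem_comapGr, map_one]
      exact SetLike.GradedOne.one_mem (A := ℬ)
    mul_mem := by
      intro i j a b ha hb
      rw [mem_comapGr, map_mul]
      exact SetLike.GradedMul.mul_mem (A := ℬ) ha hb }

end Transport

section LocQuot

variable {A A' : Type*} [CommRing A] [CommRing A'] [Algebra A A'] (r : A)
  [IsLocalization.Away r A'] (J : Ideal A) (J' : Ideal A')

/-- the quotient of a localization `A_r` by an ideal `J'` is the localization of `A ⧸ J` whenever `J'` is
"generated by `J` up to powers of `r`" -/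
theorem isLocalizationAway_quotient [Algebra (A ⧸ J) (A' ⧸ J')]
    (halg : ∀ a : A, algebraMap (A ⧸ J) (A' ⧸ J') (Ideal.Quotient.mk J a) =
      Ideal.Quotient.mk J' (algebraMap A A' a))
    (hker : ∀ x : A, algebraMap A A' x ∈ J' → ∃ n : ℕ, r ^ n * x ∈ J) :
    IsLocalization.Away (Ideal.Quotient.mk J r) (A' ⧸ J') where
  map_units := by
    rintro ⟨_, n, rfl⟩
    change IsUnit (algebraMap (A ⧸ J) (A' ⧸ J') (Ideal.Quotient.mk J r ^ n))
    rw [← map_pow, halg, map_pow, map_pow]
    exact ((IsLocalization.Away.algebraMap_isUnit (S := A') r).map (Ideal.Quotient.mk J')).pow n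
  surj := by
    intro z
    obtain ⟨z', rfl⟩ := Ideal.Quotient.mk_surjective z
    obtain ⟨n, a, ha⟩ := IsLocalization.Away.surj r z'
    refine ⟨(Ideal.Quotient.mk J a, ⟨Ideal.Quotient.mk J r ^ n, n, rfl⟩), ?_⟩
    change Ideal.Quotient.mk J' z' * algebraMap (A ⧸ J) (A' ⧸ J') (Ideal.Quotient.mk J r ^ n) =
      algebraMap (A ⧸ J) (A' ⧸ J') (Ideal.Quotient.mk J a)
    rw [← map_pow, halg, halg, ← map_mul, map_pow, ha]
  exists_of_eq := by
    intro x y hxy
    obtain ⟨a, rfl⟩ := Ideal.Quotient.mk_surjective x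
    obtain ⟨b, rfl⟩ := Ideal.Quotient.mk_surjective y
    rw [halg, halg, Ideal.Quotient.eq, ← map_sub] at hxy
    obtain ⟨n, hn⟩ := hker _ hxy
    refine ⟨⟨Ideal.Quotient.mk J r ^ n, n, rfl⟩, ?_⟩
    change Ideal.Quotient.mk J r ^ n * Ideal.Quotient.mk J a =
      Ideal.Quotient.mk J r ^ n * Ideal.Quotient.mk J b
    rw [← map_pow, ← map_mul, ← map_mul, Ideal.Quotient.eq, ← mul_sub]
    exact hn

end LocQuot

end Groth.Agent.Lib.R2LeadHProjA
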