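import Groth.Agent.Lib.R2LeadHProj0
import Groth.Agent.Lib.Helper13ProjQuotIdeal
import Groth.Agent.Lib.Helper13RLb
import Groth.Agent.Lib.Helper13ProjExist
import Groth.Agent.Lib.R2LeadHProjA
set_option backward.isDefEq.respectTransparency.types false

/-!
# The homogeneous ideals of a closed subscheme of `P^n_S` over the affine opens of `S` (lead)
-/

set_option autoImplicit false
universe u

open CategoryTheory CategoryTheory.Limits AlgebraicGeometry TopologicalSpace Opposite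
open HomogeneousLocalization
open scoped HomogeneousIdeal
open Scheme.AffineZariskiSite Groth.Agent.Lib.R2LeadHProj0 Groth.Agent.Helper13ProjQuotIdeal
  Groth.Agent.Helper13Dehom Groth.Agent.Helper13GradedQuot

namespace Groth.Agent.Lib.R2LeadHProjB

noncomputable section

variable (n : ℕ)

section Poly

variable {R R' R'' : Type u} [CommRing R] [CommRing R'] [CommRing R''] (ρ : R →+* R')
  (ρ' : R' →+* R'')

/-- the graded ring hom `R[T] → R'[T]` induced by `ρ : R → R'` -/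
def phiρ : CohB1.polyGrading n R →+*ᵍ CohB1.polyGrading n R' where
  toRingHom := MvPolynomial.map ρ
  map_mem := fun {i x} hx => by
    have h1 : x.IsHomogeneous i := (MvPolynomial.mem_homogeneousSubmodule _ _).mp hx
    exact (MvPolynomial.mem_homogeneousSubmodule _ _).mpr (h1.map ρ)

theorem phiρ_apply (x : MvPolynomial (Fin (n + 1)) R) : phiρ n ρ x = MvPolynomial.map ρ x := rfl

theorem phiρ_eq_phi : letI := ρ.toAlgebra; phiρ n ρ = phi n R R' := rfl

theorem irrelevant_le_map_phiρ :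
    (CohB1.polyGrading n R')₊ ≤ ((CohB1.polyGrading n R)₊).map (phiρ n ρ) := by
  letI := ρ.toAlgebra
  exact irrelevant_le_map n R R'

/-- the structure morphism of `P^n_R`, with source written as a `Proj` -/
def toSpecP (R : Type u) [CommRing R] :
    Proj (CohB1.polyGrading n R) ⟶ Spec (CommRingCat.of R) :=
  CohB1.ProjSpace.toSpec n R

theorem isPullback_phiρ :
    IsPullback (Proj.map (phiρ n ρ) (irrelevant_le_map_phiρ n ρ)) (toSpecP n R')
      (toSpecP n R) (Spec.map (CommRingCat.ofHom ρ)) := by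
  letI := ρ.toAlgebra
  exact isPullback_phi n R R'

theorem phiρ_comp : (phiρ n ρ').comp (phiρ n ρ) = phiρ n (ρ'.comp ρ) := by
  ext x : 1
  change MvPolynomial.map ρ' (MvPolynomial.map ρ x) = MvPolynomial.map (ρ'.comp ρ) x
  rw [MvPolynomial.map_map]

end Poly

section ProjLevel

variable {R A : Type u} [CommRing R] [CommRing A] [Algebra R A] {𝒜 : ℕ → Submodule R A}
  [GradedAlgebra 𝒜]
variable {R' B : Type u} [CommRing R'] [CommRing B] [Algebra R' B] {ℬ : ℕ → Submodule R' B}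
  [GradedAlgebra ℬ]
variable (φ : 𝒜 →+*ᵍ ℬ)
  (hφ : HomogeneousIdeal.irrelevant ℬ ≤ (HomogeneousIdeal.irrelevant 𝒜).map φ)

/-- dehomogenization commutes with `Proj.map` -/
theorem appLE_dehom {g : A} (hg : g ∈ 𝒜 1) {k : ℕ} {a : A} (ha : a ∈ 𝒜 k) :
    ((Proj.map φ hφ).appLE (Proj.basicOpen 𝒜 g) (Proj.basicOpen ℬ (φ g)) (by rfl)).hom
      (dehom hg a) = dehom (Graded.map_mem φ hg) (φ a) := by
  have ha' : a ∈ 𝒜 (k • 1) := by simpa using ha
  have hg' : φ g ∈ ℬ 1 := Graded.map_mem φ hg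
  rw [dehom_eq_awayToSection hg ha', dehom_eq_awayToSection hg' (Graded.map_mem φ ha')]
  have h1 := Proj.awayToSection_comp_appLE φ hφ hg
  have h2 := CategoryTheory.congr_fun h1 (Away.mk 𝒜 hg k a ha')
  rw [ConcreteCategory.comp_apply, ConcreteCategory.comp_apply] at h2
  refine h2.trans ?_
  exact congrArg _ (Away.map_mk φ g hg k a ha')

variable {ι : Type u} {f : ι → A} (hf : ∀ i, f i ∈ 𝒜 1) (I : (Proj 𝒜).IdealSheafData)

theorem dehom_map_mem (i : ι) {k : ℕ} {a : A} (ha : a ∈ 𝒜 k)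
    (h : dehom (hf i) a ∈ I.ideal (Uaff hf i)) :
    dehom (Graded.map_mem φ (hf i)) (φ a) ∈
      (I.comap (Proj.map φ hφ)).ideal (Uaff (fun i => Graded.map_mem φ (hf i)) i) := by
  rw [← appLE_dehom φ hφ (hf i) ha]
  exact Groth.Agent.Lib.R2LeadHProjA.appLE_mem_comap (Proj.map φ hφ) I (Uaff hf i)
    (Uaff (fun i => Graded.map_mem φ (hf i)) i) (by rfl) _ h

/-- **functoriality** of the homogeneous ideal of an ideal sheaf -/
theorem J_le_comap :
    (J hf I).toIdeal ≤ Ideal.comap (φ : A →+* B)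
      (J (fun i => Graded.map_mem φ (hf i)) (I.comap (Proj.map φ hφ))).toIdeal := by
  classical
  intro x hx
  rw [Ideal.mem_comap]
  rw [← DirectSum.sum_support_decompose 𝒜 x, map_sum]
  refine Ideal.sum_mem _ fun d _ => ?_
  have hxd : (DirectSum.decompose 𝒜 x d : A) ∈ (J hf I).toIdeal := (J hf I).isHomogeneous d hx
  have hd : (DirectSum.decompose 𝒜 x d : A) ∈ 𝒜 d := SetLike.coe_mem _
  rw [mem_J_iff hf I hd] at hxd
  change φ (DirectSum.decompose 𝒜 x d : A) ∈ _
  rw [mem_J_iff _ _ (Graded.map_mem φ hd)]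
  intro i
  exact dehom_map_mem φ hφ hf I i hd (hxd i)

/-- the non-vanishing locus of a degree zero element on `D₊(g)` -/
theorem basicOpen_dehom_zero {g : A} (hg : g ∈ 𝒜 1) {c : A} (hc : c ∈ 𝒜 0) :
    (Proj 𝒜).basicOpen (dehom hg c) = Proj.basicOpen 𝒜 c ⊓ Proj.basicOpen 𝒜 g := by
  ext y
  have hc' : c ∈ 𝒜 (0 • 1) := by simpa using hc
  rw [dehom_eq_awayToSection hg (j := 0) hc']
  refine (Groth.Agent.Lib.Helper27GrTildeSect.mem_basicOpen_awayToSection_iff hg 0 c hc' y).trans ?_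
  rw [← Proj.basicOpen_mul]
  rfl

/-- **localization** of the homogeneous ideal of an ideal sheaf: if `Proj.map φ` is an open immersion onto
the locus `c ≠ 0`, `c` of degree zero, then membership in the ideal of the pulled back ideal sheaf can be tested
after multiplication by a power of `c` -/
theorem exists_pow_mul_dehom_mem [IsOpenImmersion (Proj.map φ hφ)] {c : A} (hc : c ∈ 𝒜 0)
    (hrange : (Proj.map φ hφ).opensRange = Proj.basicOpen 𝒜 c)
    (i : ι) {k : ℕ} {a : A} (ha : a ∈ 𝒜 k)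
    (h : dehom (Graded.map_mem φ (hf i)) (φ a) ∈
      (I.comap (Proj.map φ hφ)).ideal (Uaff (fun i => Graded.map_mem φ (hf i)) i)) :
    ∃ e : ℕ, dehom (hf i) (c ^ e * a) ∈ I.ideal (Uaff hf i) := by
  set m := Proj.map φ hφ with hm
  set W' := Uaff (fun i => Graded.map_mem φ (hf i)) i with hW'
  rw [Scheme.IdealSheafData.ideal_comap_of_isOpenImmersion] at h
  replace h : (m.appIso W'.1).inv.hom (dehom (Graded.map_mem φ (hf i)) (φ a)) ∈
      I.ideal ⟨m ''ᵁ W'.1, W'.2.image_of_isOpenImmersion m⟩ := h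
  rw [← appLE_dehom φ hφ (hf i) ha] at h
  have hle : m ''ᵁ W'.1 ≤ Proj.basicOpen 𝒜 (f i) := by
    have : W'.1 = m ⁻¹ᵁ Proj.basicOpen 𝒜 (f i) := rfl
    rw [this, Scheme.Hom.image_preimage_eq_opensRange_inf]
    exact inf_le_right
  have h2 : (m.appIso W'.1).inv.hom ((m.appLE (Proj.basicOpen 𝒜 (f i)) W'.1 (by rfl)).hom
      (dehom (hf i) a)) = ((Proj 𝒜).presheaf.map (homOfLE hle).op).hom (dehom (hf i) a) := by
    have := Scheme.Hom.appLE_appIso_inv m (U := Proj.basicOpen 𝒜 (f i)) (V := W'.1) (by rfl)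
    exact congrArg (fun t : Γ(Proj 𝒜, Proj.basicOpen 𝒜 (f i)) ⟶ _ => t.hom (dehom (hf i) a)) this
  have h3 : ((Proj 𝒜).presheaf.map (homOfLE hle).op).hom (dehom (hf i) a) ∈
      I.ideal ⟨m ''ᵁ W'.1, W'.2.image_of_isOpenImmersion m⟩ := by
    rw [← h2]; exact h
  have hV : m ''ᵁ W'.1 = (Proj 𝒜).basicOpen (dehom (hf i) c) := by
    have : W'.1 = m ⁻¹ᵁ Proj.basicOpen 𝒜 (f i) := rfl
    rw [this, Scheme.Hom.image_preimage_eq_opensRange_inf, hrange, basicOpen_dehom_zero (hf i) hc]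
  obtain ⟨e, he⟩ := exists_pow_mul_mem I (Uaff hf i) (dehom (hf i) c)
    ⟨m ''ᵁ W'.1, W'.2.image_of_isOpenImmersion m⟩ hV hle (dehom (hf i) a) h3
  refine ⟨e, ?_⟩
  rw [map_mul, map_pow]
  exact he

end ProjLevel

section Range

variable {R R' : Type u} [CommRing R] [CommRing R'] (ρ : R →+* R')

theorem toSpecP_preimage_basicOpen (r : R) :
    (toSpecP n R) ⁻¹ᵁ (PrimeSpectrum.basicOpen r) =
      Proj.basicOpen (CohB1.polyGrading n R) (MvPolynomial.C r) := by
  ext z
  have h1 := Groth.Agent.Helper13RL.toSpecZero_mem_basicOpen (CohB1.polyGrading n R) z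
    (algebraMap R (CohB1.polyGrading n R 0) r)
  refine Iff.trans ?_ h1
  change (Proj.toSpecZero (CohB1.polyGrading n R) ≫
    Spec.map (CommRingCat.ofHom (algebraMap R (CohB1.polyGrading n R 0)))).base z ∈
      PrimeSpectrum.basicOpen r ↔ _
  rw [Scheme.Hom.comp_base, TopCat.comp_app]
  change PrimeSpectrum.comap (algebraMap R (CohB1.polyGrading n R 0))
    ((Proj.toSpecZero (CohB1.polyGrading n R)).base z) ∈ PrimeSpectrum.basicOpen r ↔ _
  exact Iff.rfl

theorem isOpenImmersion_map_phiρ_of_away (r : R)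
    (hloc : letI := ρ.toAlgebra; IsLocalization.Away r R') :
    IsOpenImmersion (Proj.map (phiρ n ρ) (irrelevant_le_map_phiρ n ρ)) := by
  letI := ρ.toAlgebra
  have : IsOpenImmersion (Spec.map (CommRingCat.ofHom ρ)) :=
    IsOpenImmersion.of_isLocalization (S := R') r
  exact MorphismProperty.of_isPullback (P := @IsOpenImmersion) (isPullback_phiρ n ρ).flip this

theorem opensRange_map_phiρ (r : R)
    (hloc : letI := ρ.toAlgebra; IsLocalization.Away r R')
    [IsOpenImmersion (Proj.map (phiρ n ρ) (irrelevant_le_map_phiρ n ρ))] :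
    (Proj.map (phiρ n ρ) (irrelevant_le_map_phiρ n ρ)).opensRange =
      Proj.basicOpen (CohB1.polyGrading n R) (MvPolynomial.C r) := by
  letI := ρ.toAlgebra
  rw [← toSpecP_preimage_basicOpen]
  apply TopologicalSpace.Opens.ext
  have h := Scheme.image_preimage_eq_of_isPullback (isPullback_phiρ n ρ).flip Set.univ
  rw [Set.preimage_univ, Set.image_univ, Set.image_univ] at h
  refine h.trans ?_
  have h2 : Set.range (Spec.map (CommRingCat.ofHom ρ)).base =
      (PrimeSpectrum.basicOpen r : Set (PrimeSpectrum R)) :=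
    PrimeSpectrum.localization_away_comap_range R' r
  rw [h2]
  rfl

end Range

section Base

variable {S : Scheme.{u}}

/-- restriction of functions between affine opens, as a ring hom -/
def resρ {U V : S.AffineZariskiSite} (i : V ⟶ U) : Γ(S, U.1) →+* Γ(S, V.1) :=
  (S.presheaf.map (homOfLE (toOpens_mono i.le)).op).hom

attribute [local instance] algZ

/-- the chart `P^n_{O(U)} ⟶ P^n_S` over an affine open `U` -/
def aU (U : S.AffineZariskiSite) :
    Proj (CohB1.polyGrading n Γ(S, U.1)) ⟶ CohB1.ProjSpaceOver n S :=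
  a n Γ(S, U.1) U.2.fromSpec


/-- the projection `P^n_S ⟶ P^n_ℤ` -/
def fstZ (S : Scheme.{u}) : CohB1.ProjSpaceOver n S ⟶ Proj (CohB1.polyGrading n (ULift.{u} ℤ)) :=
  pullback.fst (CohB1.ProjSpace.toSpec n (ULift.{u} ℤ)) (specULiftZIsTerminal.from S)

theorem fstZ_toSpec (S : Scheme.{u}) :
    fstZ n S ≫ CohB1.ProjSpace.toSpec n (ULift.{u} ℤ) =
      CohB1.ProjSpaceOver.toBase n S ≫ specULiftZIsTerminal.from S :=
  pullback.condition

theorem hom_ext_over {Z : Scheme.{u}} {f g : Z ⟶ CohB1.ProjSpaceOver n S}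
    (h1 : f ≫ fstZ n S = g ≫ fstZ n S)
    (h2 : f ≫ CohB1.ProjSpaceOver.toBase n S = g ≫ CohB1.ProjSpaceOver.toBase n S) : f = g :=
  pullback.hom_ext h1 h2

/-- morphisms into `P^n_S` -/
def liftOver {Z : Scheme.{u}} (g : Z ⟶ Proj (CohB1.polyGrading n (ULift.{u} ℤ))) (p : Z ⟶ S)
    (h : g ≫ CohB1.ProjSpace.toSpec n (ULift.{u} ℤ) = p ≫ specULiftZIsTerminal.from S) :
    Z ⟶ CohB1.ProjSpaceOver n S :=
  pullback.lift g p h

theorem liftOver_fstZ {Z : Scheme.{u}} (g : Z ⟶ Proj (CohB1.polyGrading n (ULift.{u} ℤ)))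
    (p : Z ⟶ S)
    (h : g ≫ CohB1.ProjSpace.toSpec n (ULift.{u} ℤ) = p ≫ specULiftZIsTerminal.from S) :
    liftOver n g p h ≫ fstZ n S = g := pullback.lift_fst _ _ _

theorem liftOver_toBase {Z : Scheme.{u}} (g : Z ⟶ Proj (CohB1.polyGrading n (ULift.{u} ℤ)))
    (p : Z ⟶ S)
    (h : g ≫ CohB1.ProjSpace.toSpec n (ULift.{u} ℤ) = p ≫ specULiftZIsTerminal.from S) :
    liftOver n g p h ≫ CohB1.ProjSpaceOver.toBase n S = p := pullback.lift_snd _ _ _

instance (U : S.AffineZariskiSite) : IsOpenImmersion (aU n U) :=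
  isOpenImmersion_a n Γ(S, U.1) U.2.fromSpec

theorem aU_toBase (U : S.AffineZariskiSite) :
    aU n U ≫ CohB1.ProjSpaceOver.toBase n S = toSpecP n Γ(S, U.1) ≫ U.2.fromSpec :=
  a_toBase n Γ(S, U.1) U.2.fromSpec

theorem opensRange_aU (U : S.AffineZariskiSite) :
    (aU n U).opensRange = CohB1.ProjSpaceOver.toBase n S ⁻¹ᵁ U.1 :=
  (opensRange_a n Γ(S, U.1) U.2.fromSpec).trans (by rw [U.2.opensRange_fromSpec])

theorem aU_fstZ (U : S.AffineZariskiSite) :
    aU n U ≫ fstZ n S =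
    Proj.map (phi n (ULift.{u} ℤ) Γ(S, U.1)) (irrelevant_le_map n (ULift.{u} ℤ) Γ(S, U.1)) :=
  a_fst n Γ(S, U.1) U.2.fromSpec

theorem aU_res {U V : S.AffineZariskiSite} (i : V ⟶ U) :
    Proj.map (phiρ n (resρ i)) (irrelevant_le_map_phiρ n (resρ i)) ≫ aU n U = aU n V := by
  apply hom_ext_over
  · rw [Category.assoc, aU_fstZ, aU_fstZ, ← Proj.map_comp]
    apply Groth.Agent.Helper13ProjBC.projMap_congr
    ext x : 1
    change MvPolynomial.map (resρ i) (MvPolynomial.map (algebraMap (ULift.{u} ℤ) Γ(S, U.1)) x) =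
      MvPolynomial.map (algebraMap (ULift.{u} ℤ) Γ(S, V.1)) x
    rw [MvPolynomial.map_map]
    congr 2
    ext z
    change (resρ i) (((z.down : ℤ) : Γ(S, U.1))) = ((z.down : ℤ) : Γ(S, V.1))
    rw [map_intCast]
  · rw [Category.assoc, aU_toBase, aU_toBase, ← Category.assoc]
    have h1 := (isPullback_phiρ n (resρ i)).w
    rw [h1, Category.assoc]
    congr 1
    exact U.2.map_fromSpec V.2 (homOfLE (toOpens_mono i.le)).op

end Base

section Ideals

variable {S : Scheme.{u}} (𝓘 : (CohB1.ProjSpaceOver n S).IdealSheafData)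

/-- the coordinates -/
def fX (R : Type u) [CommRing R] : ULift.{u} (Fin (n + 1)) → MvPolynomial (Fin (n + 1)) R :=
  fun j => MvPolynomial.X j.down

theorem hfX (R : Type u) [CommRing R] (j : ULift.{u} (Fin (n + 1))) :
    fX n R j ∈ CohB1.polyGrading n R 1 :=
  (MvPolynomial.mem_homogeneousSubmodule _ _).mpr (MvPolynomial.isHomogeneous_X _ _)

/-- the ideal sheaf over an affine open of the base -/
def IU (U : S.AffineZariskiSite) : (Proj (CohB1.polyGrading n Γ(S, U.1))).IdealSheafData :=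
  𝓘.comap (aU n U)

theorem IU_res {U V : S.AffineZariskiSite} (i : V ⟶ U) :
    (IU n 𝓘 U).comap (Proj.map (phiρ n (resρ i)) (irrelevant_le_map_phiρ n (resρ i))) =
      IU n 𝓘 V := by
  unfold IU
  rw [← Scheme.IdealSheafData.comap_comp, aU_res]

/-- the homogeneous ideal over an affine open of the base -/
def JU (U : S.AffineZariskiSite) : HomogeneousIdeal (CohB1.polyGrading n Γ(S, U.1)) :=
  J (hfX n Γ(S, U.1)) (IU n 𝓘 U)

theorem J_congr {R A : Type u} [CommRing R] [CommRing A] [Algebra R A] {𝒜 : ℕ → Submodule R A}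
    [GradedAlgebra 𝒜] {ι : Type u} {f f' : ι → A} (h : f = f') (hf : ∀ i, f i ∈ 𝒜 1)
    (hf' : ∀ i, f' i ∈ 𝒜 1) {I I' : (Proj 𝒜).IdealSheafData} (hI : I = I') :
    J hf I = J hf' I' := by
  subst h; subst hI; rfl

theorem phiρ_fX {R R' : Type u} [CommRing R] [CommRing R'] (ρ : R →+* R') :
    (fun j => phiρ n ρ (fX n R j)) = fX n R' := by
  funext j
  exact MvPolynomial.map_X ρ j.down

theorem J_phiρ {U V : S.AffineZariskiSite} (i : V ⟶ U) :
    J (fun j => Graded.map_mem (phiρ n (resρ i)) (hfX n Γ(S, U.1) j))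
      ((IU n 𝓘 U).comap (Proj.map (phiρ n (resρ i)) (irrelevant_le_map_phiρ n (resρ i)))) =
      JU n 𝓘 V :=
  J_congr (phiρ_fX n (resρ i)) _ _ (IU_res n 𝓘 i)

/-- **Theorem B**: the homogeneous ideals are compatible with restriction -/
theorem JU_le_comap {U V : S.AffineZariskiSite} (i : V ⟶ U) :
    (JU n 𝓘 U).toIdeal ≤ Ideal.comap (MvPolynomial.map (resρ i)) (JU n 𝓘 V).toIdeal := by
  have h := J_le_comap (phiρ n (resρ i)) (irrelevant_le_map_phiρ n (resρ i))
    (hfX n Γ(S, U.1)) (IU n 𝓘 U)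
  rw [J_phiρ] at h
  exact h

theorem C_mem_zero {R : Type u} [CommRing R] (r : R) :
    (MvPolynomial.C r : MvPolynomial (Fin (n + 1)) R) ∈ CohB1.polyGrading n R 0 :=
  (MvPolynomial.mem_homogeneousSubmodule _ _).mpr (MvPolynomial.isHomogeneous_C _ r)

theorem C_pow_mul_mem {R : Type u} [CommRing R] (r : R) (N : ℕ) {d : ℕ}
    {x : MvPolynomial (Fin (n + 1)) R} (hx : x ∈ CohB1.polyGrading n R d) :
    MvPolynomial.C r ^ N * x ∈ CohB1.polyGrading n R d := by
  have h1 : (MvPolynomial.C r : MvPolynomial (Fin (n + 1)) R) ^ N ∈ CohB1.polyGrading n R 0 := by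
    have := SetLike.pow_mem_graded N (C_mem_zero n r)
    simpa using this
  have := SetLike.mul_mem_graded h1 hx
  simpa using this

/-- **Theorem C** (kernel part): over a basic open `D(r) ⊆ U`, membership in the homogeneous ideal can be tested
after multiplication by a power of `r` -/
theorem exists_pow_mul_mem_JU (U : S.AffineZariskiSite) (r : Γ(S, U.1))
    (x : MvPolynomial (Fin (n + 1)) Γ(S, U.1))
    (hx : MvPolynomial.map (resρ (homOfLE (U.basicOpen_le r))) x ∈
      (JU n 𝓘 (U.basicOpen r)).toIdeal) :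
    ∃ N : ℕ, MvPolynomial.C r ^ N * x ∈ (JU n 𝓘 U).toIdeal := by
  classical
  set i : U.basicOpen r ⟶ U := homOfLE (U.basicOpen_le r) with hi
  set φ := phiρ n (resρ i) with hφdef
  have hloc : letI := (resρ i).toAlgebra; IsLocalization.Away r Γ(S, (U.basicOpen r).1) :=
    U.2.isLocalization_basicOpen r
  haveI : IsOpenImmersion (Proj.map φ (irrelevant_le_map_phiρ n (resρ i))) :=
    isOpenImmersion_map_phiρ_of_away n (resρ i) r hloc
  have hrange := opensRange_map_phiρ n (resρ i) r hloc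
  rw [← J_phiρ n 𝓘 i] at hx
  -- componentwise
  have key : ∀ d : ℕ, ∀ j : ULift.{u} (Fin (n + 1)), ∃ e : ℕ,
      dehom (hfX n Γ(S, U.1) j)
        (MvPolynomial.C r ^ e * (DirectSum.decompose (CohB1.polyGrading n Γ(S, U.1)) x d :
          MvPolynomial (Fin (n + 1)) Γ(S, U.1))) ∈ (IU n 𝓘 U).ideal (Uaff (hfX n Γ(S, U.1)) j) := by
    intro d j
    have hd : (DirectSum.decompose (CohB1.polyGrading n Γ(S, U.1)) x d :
        MvPolynomial (Fin (n + 1)) Γ(S, U.1)) ∈ CohB1.polyGrading n Γ(S, U.1) d :=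
      SetLike.coe_mem _
    have h1 := (J (fun j => Graded.map_mem φ (hfX n Γ(S, U.1) j))
      ((IU n 𝓘 U).comap (Proj.map φ (irrelevant_le_map_phiρ n (resρ i))))).isHomogeneous d hx
    have h2 : (DirectSum.decompose (CohB1.polyGrading n Γ(S, (U.basicOpen r).1))
        (MvPolynomial.map (resρ i) x) d : MvPolynomial (Fin (n + 1)) Γ(S, (U.basicOpen r).1)) =
        φ (DirectSum.decompose (CohB1.polyGrading n Γ(S, U.1)) x d :
          MvPolynomial (Fin (n + 1)) Γ(S, U.1)) :=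
      (GradedRingHom.map_directSumDecompose (𝒜 := CohB1.polyGrading n Γ(S, U.1))
        (ℬ := CohB1.polyGrading n Γ(S, (U.basicOpen r).1)) φ (x := x) (i := d)).symm
    rw [h2, mem_J_iff _ _ (Graded.map_mem φ hd)] at h1
    exact exists_pow_mul_dehom_mem φ (irrelevant_le_map_phiρ n (resρ i)) (hfX n Γ(S, U.1))
      (IU n 𝓘 U) (C_mem_zero n r) hrange j hd (h1 j)
  obtain ⟨N, hN⟩ := exists_uniform'
    (κ := ↥(DirectSum.decompose (CohB1.polyGrading n Γ(S, U.1)) x).support ×
      ULift.{u} (Fin (n + 1)))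
    (p := fun dj e => dehom (hfX n Γ(S, U.1) dj.2)
      (MvPolynomial.C r ^ e * (DirectSum.decompose (CohB1.polyGrading n Γ(S, U.1)) x dj.1.1 :
        MvPolynomial (Fin (n + 1)) Γ(S, U.1))) ∈
          (IU n 𝓘 U).ideal (Uaff (hfX n Γ(S, U.1)) dj.2))
    (by
      intro dj e e' hee' he
      obtain ⟨c, rfl⟩ := Nat.exists_eq_add_of_le hee'
      have : ∀ y : MvPolynomial (Fin (n + 1)) Γ(S, U.1),
          MvPolynomial.C r ^ (e + c) * y = MvPolynomial.C r ^ c * (MvPolynomial.C r ^ e * y) := by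
        intro y; ring
      rw [this, map_mul]
      exact Ideal.mul_mem_left _ _ he)
    (fun dj => key dj.1.1 dj.2)
  refine ⟨N, ?_⟩
  rw [← DirectSum.sum_support_decompose (CohB1.polyGrading n Γ(S, U.1)) x, Finset.mul_sum]
  refine Ideal.sum_mem _ fun d hd => ?_
  rw [JU, mem_J_iff _ _ (C_pow_mul_mem n r N (SetLike.coe_mem _))]
  intro j
  exact hN (⟨d, hd⟩, j)

end Ideals

end

end Groth.Agent.Lib.R2LeadHProjB
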