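import Groth.Agent.Lib.R2LeadGrOfAffine
import Groth.Agent.Lib.R2LeadHProjB
import Groth.Agent.Lib.Helper13ProjExist
import Groth.Agent.Lib.Helper13RelProjA
import Groth.Agent.Lib.Helper27ProjSpaceZero
set_option backward.isDefEq.respectTransparency.types false

/-!
# Finite morphisms are projective (lead)

For an affine morphism `f : X ⟶ Y` we build the quasi-coherent graded algebra `f_* O_X [T]` and identify
its relative homogeneous spectrum with `X`.
-/

set_option autoImplicit false
universe u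

open CategoryTheory CategoryTheory.Limits AlgebraicGeometry TopologicalSpace Opposite
open scoped HomogeneousIdeal
open Scheme.AffineZariskiSite Groth.Agent.Helper13QCAlgOfAffine Groth.Agent.Lib.R2LeadHProjA
  Groth.Agent.Lib.R2LeadHProjB Groth.Agent.Lib.R2LeadGrOfAffine Groth.Agent.Helper13ProjBC
  Groth.Agent.Helper13RelProj

namespace Groth.Agent.Lib.R2LeadFinProj

noncomputable section

variable {X Y : Scheme.{u}} (f : X ⟶ Y)

/-- functions on the preimage of an affine open -/
abbrev BU (U : Y.AffineZariskiSite) : Type u := Γ(X, f ⁻¹ᵁ U.1)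

/-- restriction maps -/
def resB {U V : Y.AffineZariskiSite} (i : V ⟶ U) : BU f U →+* BU f V :=
  (X.presheaf.map (homOfLE (f.preimage_mono (toOpens_mono i.le))).op).hom

theorem resB_id (U : Y.AffineZariskiSite) : resB f (𝟙 U) = RingHom.id (BU f U) := by
  unfold resB
  have : (homOfLE (f.preimage_mono (toOpens_mono (𝟙 U : U ⟶ U).le))).op = 𝟙 (op (f ⁻¹ᵁ U.1)) := rfl
  rw [this, X.presheaf.map_id]
  rfl

theorem resB_comp {U V W : Y.AffineZariskiSite} (i : V ⟶ U) (j : W ⟶ V) :
    resB f (j ≫ i) = (resB f j).comp (resB f i) := by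
  unfold resB
  have : (homOfLE (f.preimage_mono (toOpens_mono (j ≫ i).le))).op =
      (homOfLE (f.preimage_mono (toOpens_mono i.le))).op ≫
        (homOfLE (f.preimage_mono (toOpens_mono j.le))).op := rfl
  rw [this, X.presheaf.map_comp]
  rfl

/-- the polynomial rings -/
abbrev PU (U : Y.AffineZariskiSite) : Type u := MvPolynomial (Fin 1) (BU f U)

/-- the functor `U ↦ Γ(f⁻¹U)[T]` -/
def F : Y.AffineZariskiSiteᵒᵖ ⥤ CommRingCat.{u} where
  obj U := CommRingCat.of (PU f U.unop)
  map i := CommRingCat.ofHom (MvPolynomial.map (resB f i.unop))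
  map_id U := by
    refine CommRingCat.hom_ext (RingHom.ext fun x => ?_)
    change MvPolynomial.map (resB f (𝟙 U.unop)) x = x
    rw [resB_id, MvPolynomial.map_id]
  map_comp {U V W} i j := by
    refine CommRingCat.hom_ext (RingHom.ext fun x => ?_)
    change MvPolynomial.map (resB f (j.unop ≫ i.unop)) x =
      MvPolynomial.map (resB f j.unop) (MvPolynomial.map (resB f i.unop) x)
    rw [resB_comp, MvPolynomial.map_map]

/-- the structure maps -/
def αapp (U : Y.AffineZariskiSite) : Γ(Y, U.1) →+* PU f U :=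
  MvPolynomial.C.comp (f.app U.1).hom

/-- the structure map of the functor -/
def α : (toOpensFunctor Y).op ⋙ Y.presheaf ⟶ F f where
  app U := CommRingCat.ofHom (αapp f U.unop)
  naturality U V i := by
    refine CommRingCat.hom_ext (RingHom.ext fun x => ?_)
    change αapp f V.unop (resρ i.unop x) = MvPolynomial.map (resB f i.unop) (αapp f U.unop x)
    unfold αapp
    rw [RingHom.comp_apply, RingHom.comp_apply, MvPolynomial.map_C]
    congr 1
    have h := f.naturality (homOfLE (toOpens_mono i.unop.le)).op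
    exact congrArg (fun t : Γ(Y, U.unop.1) ⟶ _ => t.hom x) h

variable [IsAffineHom f]

theorem hfU (U : Y.AffineZariskiSite) : IsAffineOpen (f ⁻¹ᵁ U.1) := U.2.preimage f

theorem coequifibered_α : (α f).Coequifibered := by
  refine coequifibered_iff_forall_isLocalizationAway.mpr fun U r => ?_
  set i : U.basicOpen r ⟶ U := homOfLE (U.basicOpen_le r) with hi
  letI : Algebra (BU f U) (BU f (U.basicOpen r)) := (resB f i).toAlgebra
  haveI hloc : IsLocalization.Away ((f.app U.1).hom r) (BU f (U.basicOpen r)) :=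
    (hfU f U).isLocalization_of_eq_basicOpen ((f.app U.1).hom r)
      (homOfLE (f.preimage_mono (toOpens_mono i.le))) (Scheme.preimage_basicOpen f r)
  letI : Algebra (PU f U) (PU f (U.basicOpen r)) := MvPolynomial.algebraMvPolynomial
  have h := MvPolynomial.isLocalization (σ := Fin 1) (Submonoid.powers ((f.app U.1).hom r))
    (BU f (U.basicOpen r))
  rw [Submonoid.map_powers] at h
  exact h

/-- the grading of the polynomial rings, by additive subgroups -/
def gr (U : Y.AffineZariskiSite) : ℕ → AddSubgroup (PU f U) :=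
  comapGr (RingEquiv.refl (PU f U)) (CohB1.polyGrading 0 (BU f U))

theorem mem_gr {U : Y.AffineZariskiSite} {d : ℕ} {x : PU f U} :
    x ∈ gr f U d ↔ x ∈ CohB1.polyGrading 0 (BU f U) d := Iff.rfl

@[instance_reducible]
def grI (U : Y.AffineZariskiSite) : GradedRing (gr f U) :=
  comapGr_gradedRing (RingEquiv.refl (PU f U)) (CohB1.polyGrading 0 (BU f U))

theorem hmap {U V : Y.AffineZariskiSite} (i : V ⟶ U) {d : ℕ} {b : PU f U}
    (hb : b ∈ gr f U d) : MvPolynomial.map (resB f i) b ∈ gr f V d :=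
  Graded.map_mem (phiρ 0 (resB f i)) hb

theorem hstr (U : Y.AffineZariskiSite) (r : Γ(Y, U.1)) : αapp f U r ∈ gr f U 0 :=
  C_mem_zero 0 _

/-- the quasi-coherent graded algebra `f_* O_X [T]` -/
def 𝒮 : RelProj.QCGrAlg Y :=
  grAlg (coequifibered_α f) (fun U => gr f U) (fun U => grI f U)
    (fun {U V} i {d b} hb => hmap f i hb) (fun U r => hstr f U r)

/-- the identification of sections -/
def γU (U : Y.AffineZariskiSite) : (𝒮 f).presheaf.obj (op U.1) ≃+* PU f U :=
  γ (coequifibered_α f) U.1 U.2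

theorem mem_deg_iff {U : Y.AffineZariskiSite} {d : ℕ} {x : (𝒮 f).presheaf.obj (op U.1)} :
    x ∈ (𝒮 f).deg U.1 U.2 d ↔ γU f U x ∈ CohB1.polyGrading 0 (BU f U) d := Iff.rfl

theorem γU_res {U V : Y.AffineZariskiSite} (i : V ⟶ U) (x : (𝒮 f).presheaf.obj (op U.1)) :
    γU f V (((𝒮 f).presheaf.map (homOfLE (toOpens_mono i.le)).op).hom x) =
      MvPolynomial.map (resB f i) (γU f U x) :=
  γ_res (coequifibered_α f) i x

theorem γU_str (U : Y.AffineZariskiSite) (r : Γ(Y, U.1)) :
    γU f U (((𝒮 f).str.app (op U.1)).hom r) = MvPolynomial.C ((f.app U.1).hom r) :=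
  γ_str (coequifibered_α f) U.1 U.2 r

/-- the inverse of `γU` as a graded ring hom -/
def ψU (U : Y.AffineZariskiSite) : CohB1.polyGrading 0 (BU f U) →+*ᵍ (𝒮 f).deg U.1 U.2 where
  toRingHom := (γU f U).symm.toRingHom
  map_mem := fun {i x} hx => by
    change γU f U ((γU f U).symm x) ∈ CohB1.polyGrading 0 (BU f U) i
    rw [RingEquiv.apply_symm_apply]
    exact hx

theorem ψU_apply (U : Y.AffineZariskiSite) (x : PU f U) : ψU f U x = (γU f U).symm x := rfl

theorem ψU_bijective (U : Y.AffineZariskiSite) : Function.Bijective (ψU f U) :=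
  (γU f U).symm.bijective

theorem hirrψ (U : Y.AffineZariskiSite) :
    ((𝒮 f).deg U.1 U.2)₊ ≤ ((CohB1.polyGrading 0 (BU f U))₊).map (ψU f U) := by
  rw [HomogeneousIdeal.irrelevant_le]
  intro i hi b hb
  obtain ⟨a, ha, rfl⟩ := exists_mem_of_surjective (ψU f U) (ψU_bijective f U).2 hb
  exact Ideal.mem_map_of_mem _ (HomogeneousIdeal.mem_irrelevant_of_mem _ hi ha)

instance isIso_map_ψU (U : Y.AffineZariskiSite) :
    IsIso (Proj.map (ψU f U) (hirrψ f U)) := by
  apply isIso_map_of_bijOn_pos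
  intro d _
  refine ⟨fun x hx => Graded.map_mem (ψU f U) hx, (ψU_bijective f U).1.injOn, ?_⟩
  intro y hy
  refine ⟨γU f U y, hy, ?_⟩
  rw [ψU_apply, RingEquiv.symm_apply_apply]

/-- the chart maps to `X` -/
def gU (U : Y.AffineZariskiSite) : Proj ((𝒮 f).deg U.1 U.2) ⟶ X :=
  Proj.map (ψU f U) (hirrψ f U) ≫ toSpecP 0 (BU f U) ≫ (hfU f U).fromSpec

instance (U : Y.AffineZariskiSite) : IsIso (toSpecP 0 (BU f U)) :=
  Groth.Agent.Lib.Helper27ProjSpaceSurj.isIso_toSpec (BU f U)

instance (U : Y.AffineZariskiSite) : IsOpenImmersion (gU f U) := by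
  unfold gU
  infer_instance

theorem res_comp_ψU {U V : Y.AffineZariskiSite} (i : V ⟶ U) :
    ((𝒮 f).res U.2 V.2 (toOpens_mono i.le)).comp (ψU f U) =
      (ψU f V).comp (phiρ 0 (resB f i)) := by
  ext x : 1
  change ((𝒮 f).presheaf.map (homOfLE (toOpens_mono i.le)).op).hom ((γU f U).symm x) =
    (γU f V).symm (MvPolynomial.map (resB f i) x)
  apply (γU f V).injective
  rw [γU_res, RingEquiv.apply_symm_apply, RingEquiv.apply_symm_apply]

theorem gU_res {U V : Y.AffineZariskiSite} (i : V ⟶ U) :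
    Proj.map ((𝒮 f).res U.2 V.2 (toOpens_mono i.le)) (hirr_res (𝒮 f) i) ≫ gU f U = gU f V := by
  unfold gU
  have h1 : Proj.map ((𝒮 f).res U.2 V.2 (toOpens_mono i.le)) (hirr_res (𝒮 f) i) ≫
      Proj.map (ψU f U) (hirrψ f U) =
      Proj.map (ψU f V) (hirrψ f V) ≫
        Proj.map (phiρ 0 (resB f i)) (irrelevant_le_map_phiρ 0 (resB f i)) := by
    rw [← Proj.map_comp, ← Proj.map_comp]
    exact projMap_congr (res_comp_ψU f i) _ _
  have h2 : Proj.map (phiρ 0 (resB f i)) (irrelevant_le_map_phiρ 0 (resB f i)) ≫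
      toSpecP 0 (BU f U) = toSpecP 0 (BU f V) ≫ Spec.map (CommRingCat.ofHom (resB f i)) :=
    (isPullback_phiρ 0 (resB f i)).w
  have h3 : Spec.map (CommRingCat.ofHom (resB f i)) ≫ (hfU f U).fromSpec = (hfU f V).fromSpec :=
    (hfU f U).map_fromSpec (hfU f V) (homOfLE (f.preimage_mono (toOpens_mono i.le))).op
  rw [← Category.assoc, h1, Category.assoc, ← Category.assoc _ (toSpecP 0 (BU f U)), h2,
    Category.assoc, h3]

/-- the morphism `Proj(𝒮) ⟶ X` -/
def jX : relProj (𝒮 f) ⟶ X :=
  colimit.desc (projGluingData (𝒮 f)).functor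
    { pt := X
      ι :=
        { app := fun U => gU f U
          naturality := fun V U i => (gU_res f i).trans (Category.comp_id _).symm } }

theorem ι_jX (U : Y.AffineZariskiSite) : relProjι (𝒮 f) U ≫ jX f = gU f U :=
  colimit.ι_desc _ _

theorem strZero_eq (U : Y.AffineZariskiSite) :
    (𝒮 f).strZero U.1 U.2 = f.app U.1 ≫
      CommRingCat.ofHom (algebraMap (BU f U) (CohB1.polyGrading 0 (BU f U) 0)) ≫
      CommRingCat.ofHom (ψU f U).gradedZeroRingHom := by
  refine CommRingCat.hom_ext (RingHom.ext fun r => ?_)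
  apply Subtype.ext
  change ((𝒮 f).str.app (op U.1)).hom r = (γU f U).symm (MvPolynomial.C ((f.app U.1).hom r))
  rw [← γU_str, RingEquiv.symm_apply_apply]

theorem gU_f (U : Y.AffineZariskiSite) :
    gU f U ≫ f = Proj.toSpecZero ((𝒮 f).deg U.1 U.2) ≫ Spec.map ((𝒮 f).strZero U.1 U.2) ≫
      U.2.fromSpec := by
  unfold gU
  have h1 : (hfU f U).fromSpec ≫ f = Spec.map (f.app U.1) ≫ U.2.fromSpec := by
    rw [← IsAffineOpen.SpecMap_appLE_fromSpec f U.2 (hfU f U) le_rfl, Scheme.Hom.appLE_eq_app]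
  have h2 : toSpecP 0 (BU f U) = Proj.toSpecZero (CohB1.polyGrading 0 (BU f U)) ≫
      Spec.map (CommRingCat.ofHom (algebraMap (BU f U) (CohB1.polyGrading 0 (BU f U) 0))) := rfl
  rw [Category.assoc, Category.assoc, h1, h2, Category.assoc, map_toSpecZero_assoc, strZero_eq,
    Spec.map_comp, Spec.map_comp]
  simp only [Category.assoc]

theorem jX_f : jX f ≫ f = relProjπ (𝒮 f) := by
  apply colimit.hom_ext
  intro U
  change relProjι (𝒮 f) U ≫ jX f ≫ f = relProjι (𝒮 f) U ≫ relProjπ (𝒮 f)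
  rw [← Category.assoc, ι_jX, gU_f, ← (isPullback_relProjι (𝒮 f) U).w, toBaseU_ι]

theorem opensRange_relProjι (U : Y.AffineZariskiSite) :
    (relProjι (𝒮 f) U).opensRange = relProjπ (𝒮 f) ⁻¹ᵁ U.1 := by
  have h := (projGluingData (𝒮 f)).toBase_preimage_eq_opensRange_ι U
  simpa using! h.symm

theorem isPullback_jX (U : Y.AffineZariskiSite) :
    IsPullback (Proj.map (ψU f U) (hirrψ f U) ≫ toSpecP 0 (BU f U)) (relProjι (𝒮 f) U)
      (hfU f U).fromSpec (jX f) := by
  refine IsOpenImmersion.isPullback _ _ _ _ ?_ ?_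
  · rw [ι_jX, Category.assoc]
    rfl
  · rw [(hfU f U).opensRange_fromSpec, ← Scheme.Hom.comp_preimage, jX_f, opensRange_relProjι]

theorem exists_fromSpec_eq (x : X) :
    ∃ (U : Y.AffineZariskiSite) (y : Spec Γ(X, f ⁻¹ᵁ U.1)), (hfU f U).fromSpec y = x := by
  obtain ⟨_, ⟨W, hW, rfl⟩, hxW, -⟩ := Y.isBasis_affineOpens.exists_subset_of_mem_open
    (Set.mem_univ (f x)) isOpen_univ
  have hx : x ∈ (hfU f (⟨W, hW⟩ : Y.AffineZariskiSite)).fromSpec.opensRange := by
    rw [(hfU f (⟨W, hW⟩ : Y.AffineZariskiSite)).opensRange_fromSpec]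
    exact hxW
  obtain ⟨y, hy⟩ := hx
  exact ⟨⟨W, hW⟩, y, hy⟩

/-- the open cover of `X` by the preimages of the affine opens of `Y` -/
def coverX : X.OpenCover :=
  Scheme.Cover.mkOfCovers Y.AffineZariskiSite (fun U => Spec Γ(X, f ⁻¹ᵁ U.1))
    (fun U => (hfU f U).fromSpec) (exists_fromSpec_eq f) (fun U => by infer_instance)

instance isIso_jX : IsIso (jX f) := by
  refine IsZariskiLocalAtTarget.of_openCover (P := MorphismProperty.isomorphisms Scheme.{u})
    (coverX f) fun U => ?_
  have hpb := (isPullback_jX f U).flip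
  have h1 : hpb.isoPullback.inv ≫ (Proj.map (ψU f U) (hirrψ f U) ≫ toSpecP 0 (BU f U)) =
      pullback.snd (jX f) (hfU f U).fromSpec := hpb.isoPullback_inv_snd
  change IsIso (pullback.snd (jX f) (hfU f U).fromSpec)
  rw [← h1]
  infer_instance

/-- the class of a polynomial as a section -/
def cls (U : Y.AffineZariskiSite) (p : PU f U) : (𝒮 f).presheaf.obj (op U.1) := (γU f U).symm p

theorem γU_cls (U : Y.AffineZariskiSite) (p : PU f U) : γU f U (cls f U p) = p :=
  RingEquiv.apply_symm_apply _ _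

theorem cls_γU (U : Y.AffineZariskiSite) (x : (𝒮 f).presheaf.obj (op U.1)) :
    cls f U (γU f U x) = x := RingEquiv.symm_apply_apply _ _

theorem cls_mem (U : Y.AffineZariskiSite) {d : ℕ} {p : PU f U}
    (hp : p ∈ CohB1.polyGrading 0 (BU f U) d) : cls f U p ∈ (𝒮 f).deg U.1 U.2 d := by
  rw [mem_deg_iff, γU_cls]
  exact hp

theorem isGenDegOne : (𝒮 f).IsGenDegOne := by
  intro U hU
  rw [eq_top_iff]
  intro x _
  let U' : Y.AffineZariskiSite := ⟨U, hU⟩
  have hx : x = cls f U' (γU f U' x) := (cls_γU f U' x).symm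
  rw [hx]
  generalize γU f U' x = p
  induction p using MvPolynomial.induction_on with
  | C a =>
    exact Subring.subset_closure (Or.inl (cls_mem f U' (C_mem_zero 0 a)))
  | add p q hp hq =>
    have : cls f U' (p + q) = cls f U' p + cls f U' q := map_add (γU f U').symm p q
    rw [this]
    exact add_mem hp hq
  | mul_X p j hp =>
    have : cls f U' (p * MvPolynomial.X j) = cls f U' p * cls f U' (MvPolynomial.X j) :=
      map_mul (γU f U').symm p _
    rw [this]
    exact mul_mem hp (Subring.subset_closure (Or.inr (cls_mem f U'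
      ((MvPolynomial.mem_homogeneousSubmodule _ _).mpr (MvPolynomial.isHomogeneous_X _ j)))))

theorem isFTDeg_one [IsFinite f] : (𝒮 f).IsFTDeg 1 := by
  classical
  intro U hU
  let U' : Y.AffineZariskiSite := ⟨U, hU⟩
  have hfin : (f.app U).hom.Finite := IsFinite.finite_app f U hU
  letI : Algebra Γ(Y, U) (BU f U') := (f.app U).hom.toAlgebra
  haveI : Module.Finite Γ(Y, U) (BU f U') := hfin
  obtain ⟨G, hG⟩ := (Module.Finite.fg_top : (⊤ : Submodule Γ(Y, U) (BU f U')).FG)
  set tg : BU f U' → (𝒮 f).presheaf.obj (op U) :=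
    fun b => cls f U' (MvPolynomial.C b * MvPolynomial.X 0) with htg
  refine ⟨G.image tg, ?_, ?_⟩
  · intro t ht
    rw [Finset.coe_image] at ht
    obtain ⟨b, -, rfl⟩ := ht
    exact cls_mem f U' ((MvPolynomial.mem_homogeneousSubmodule _ _).mpr
      (MvPolynomial.isHomogeneous_C_mul_X b 0))
  · intro x hx
    have hp : γU f U' x ∈ MvPolynomial.homogeneousSubmodule (Fin 1) (BU f U') 1 := hx
    rw [MvPolynomial.homogeneousSubmodule_one_eq_span_X] at hp
    obtain ⟨c, hc⟩ := (Submodule.mem_span_range_iff_exists_fun _).mp hp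
    have hb : c 0 ∈ Submodule.span Γ(Y, U) (G : Set (BU f U')) := by rw [hG]; trivial
    obtain ⟨r, -, hr⟩ := Submodule.mem_span_finset.mp hb
    refine ⟨fun t => ∑ g ∈ G.filter (fun g => tg g = t), r g, ?_⟩
    have h1 : x = ∑ g ∈ G, ((𝒮 f).str.app (op U)).hom (r g) * tg g := by
      apply (γU f U').injective
      rw [map_sum, ← hc, Fin.sum_univ_one, MvPolynomial.smul_eq_C_mul, ← hr, map_sum,
        Finset.sum_mul]
      refine Finset.sum_congr rfl fun g _ => ?_
      rw [map_mul, γU_str f U' (r g), htg, γU_cls, Algebra.smul_def, map_mul, mul_assoc]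
      rfl
    rw [h1, ← Finset.sum_fiberwise_of_maps_to (s := G) (t := G.image tg)
      (g := tg) (fun g hg => Finset.mem_image_of_mem tg hg)]
    refine Finset.sum_congr rfl fun t _ => ?_
    rw [map_sum, Finset.sum_mul]
    refine Finset.sum_congr rfl fun g hg => ?_
    rw [(Finset.mem_filter.mp hg).2]

/-- **finite morphisms are projective.** -/
theorem isProjective_of_isFinite [IsFinite f] : RelProj.IsProjective f := by
  refine ⟨𝒮 f, relProj (𝒮 f), relProjπ (𝒮 f), relProjChart (𝒮 f), (asIso (jX f)).symm,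
    isGenDegOne f, isFTDeg_one f, isRelProj_relProj (𝒮 f), ?_⟩
  rw [Iso.symm_hom, asIso_inv, IsIso.inv_comp_eq, jX_f]

end

end Groth.Agent.Lib.R2LeadFinProj
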