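import Groth.Agent.Lib.R2LeadDetSm1
import Groth.Agent.Lib.Helper18Fitt29
import Groth.Agent.Lib.Helper18Fitt30
import Groth.Agent.Lib.R2H7GrLDExt
universe u
open TensorProduct KaehlerDifferential CategoryTheory

namespace Groth.Agent.Lib.R2LeadFittT1

open Groth.Agent.Lib.R2LeadExtSum Groth.Agent.Helper18Fitt

section main
variable (A P B : Type u) [CommRing A] [CommRing P] [CommRing B] [Algebra A P] [Algebra P B]
  [Algebra A B] [IsScalarTower A P B]

theorem fitt_eq_general (hsurj : Function.Surjective (algebraMap P B))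
    (hinj : Function.Injective (kerCotangentToTensor A P B))
    (r c : ℕ) (bΩ : Module.Basis (Fin r) P Ω[P⁄A]) (F : Fin c → P)
    (hI : RingHom.ker (algebraMap P B) = Ideal.span (Set.range F))
    (hind : ∀ p : Fin c → P, ∑ a, p a * F a ∈ (RingHom.ker (algebraMap P B)) ^ 2 →
      ∀ a, p a ∈ RingHom.ker (algebraMap P B)) :
    Fitt.ideal B Ω[B⁄A] (r - c) =
      Fitt.ideal B (Abelian.Ext.{u} (ModuleCat.of B Ω[B⁄A]) (ModuleCat.of B B) 1) 0 := by
  classical
  obtain ⟨χ, hχbij, -⟩ := exists_cotEquiv (B := B) F (RingHom.ker (algebraMap P B)) hsurj rfl hI hind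
  let χe : (RingHom.ker (algebraMap P B)).Cotangent ≃ₗ[P] (Fin c → B) := LinearEquiv.ofBijective χ hχbij
  let β : B ⊗[P] Ω[P⁄A] ≃ₗ[B] (Fin r → B) := (bΩ.baseChange B).equivFun
  let π : B ⊗[P] Ω[P⁄A] →ₗ[B] Ω[B⁄A] := KaehlerDifferential.mapBaseChange A P B
  have hπsurj : Function.Surjective π := KaehlerDifferential.mapBaseChange_surjective A P B hsurj
  have hex := KaehlerDifferential.exact_kerCotangentToTensor_mapBaseChange A P B hsurj
  let σ : (Fin c → B) →ₗ[B] (Fin r → B) :=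
    (((β.toLinearMap.restrictScalars P) ∘ₗ (kerCotangentToTensor A P B)) ∘ₗ
      χe.symm.toLinearMap).extendScalarsOfSurjective hsurj
  have hσ : ∀ v, σ v = β (kerCotangentToTensor A P B (χe.symm v)) := fun v => rfl
  have hσinj : Function.Injective σ := by
    intro v w hvw
    rw [hσ, hσ] at hvw
    exact χe.symm.injective (hinj (β.injective hvw))
  let g : (Fin r → B) →ₗ[B] Ω[B⁄A] := π ∘ₗ β.symm.toLinearMap
  have hg : Function.Surjective g := hπsurj.comp β.symm.surjective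
  have hexσ : Function.Exact σ g := by
    intro w
    constructor
    · intro hw
      have h1 : π (β.symm w) = 0 := hw
      obtain ⟨x, hx⟩ := (hex _).1 h1
      refine ⟨χe x, ?_⟩
      rw [hσ, LinearEquiv.symm_apply_apply, hx, LinearEquiv.apply_symm_apply]
    · rintro ⟨v, rfl⟩
      show π (β.symm (σ v)) = 0
      rw [hσ, LinearEquiv.symm_apply_apply]
      exact (hex _).2 ⟨_, rfl⟩
  -- Ω ≃ coker σ
  have hker : LinearMap.ker g = LinearMap.range σ := LinearMap.exact_iff.1 hexσ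
  let e1 : Ω[B⁄A] ≃ₗ[B] ((Fin r → B) ⧸ LinearMap.range σ) :=
    (g.quotKerEquivOfSurjective hg).symm ≪≫ₗ Submodule.quotEquivOfEq _ _ hker
  -- Ext¹ ≃ coker σᵀ
  obtain ⟨dl, hdlsurj, hdl⟩ := Groth.Agent.Lib.R2H7.GrLDExt.exists_ext_one_coker (A := B) B σ g hσinj hg hexσ
  have hkerdl : LinearMap.ker dl = LinearMap.range σ.dualMap := by
    ext φ
    rw [LinearMap.mem_ker, hdl, LinearMap.mem_range]
    constructor
    · rintro ⟨ψ, rfl⟩
      exact ⟨ψ, rfl⟩
    · rintro ⟨ψ, rfl⟩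
      exact ⟨ψ, rfl⟩
  let e2 : Abelian.Ext.{u} (ModuleCat.of B Ω[B⁄A]) (ModuleCat.of B B) 1 ≃ₗ[B]
      (Module.Dual B (Fin c → B) ⧸ LinearMap.range σ.dualMap) :=
    (dl.quotKerEquivOfSurjective hdlsurj).symm ≪≫ₗ Submodule.quotEquivOfEq _ _ hkerdl
  rw [fitt_congr' e1, fitt_congr' e2]
  have := (main_S14347 B c r σ hσinj).1 0
  rwa [add_zero] at this

end main

end Groth.Agent.Lib.R2LeadFittT1
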