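import Mathlib
import Groth.Prelude.Def_LCI2
import Groth.Prelude.Def_EGA4b
import Groth.Agent.Lib.Helper5GorFlat
import Groth.Agent.Lib.Helper5GorRing
import Groth.Agent.Lib.Helper5KoszulBC
import Groth.Agent.Lib.Helper8AssDense
import Groth.Agent.Lib.R2H3KzCotProj
import Groth.Agent.Lib.Helper28FlatNormal
import Groth.Agent.S0341

/-!
# H₁ of the naive cotangent complex of a flat lci algebra with generically smooth fibres (lead)
-/

set_option autoImplicit false
set_option linter.style.haveILetI false
set_option linter.unusedVariables false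
set_option linter.unusedSectionVars false
universe u

namespace Groth.Agent.Lib.R2LeadLciH1

open IsLocalRing TensorProduct Algebra
open Groth.Agent.Lib.Helper5.GorFlat Groth.Agent.Lib.Helper5.GorRing

section DepthZero

/-- if the maximal ideal is an associated prime of the ring then the depth is zero -/
theorem depth_zero_of_ass (R : Type u) [CommRing R] [IsLocalRing R] [IsNoetherianRing R]
    (h : maximalIdeal R ∈ associatedPrimes R R) : LocCoh.depth R R = 0 := by
  apply depth_eq_zero_of_no_regular
  rintro ⟨x, hx, hreg⟩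
  obtain ⟨hp, y, hy⟩ := h
  have hy0 : y ≠ 0 := by
    rintro rfl
    apply hp.ne_top
    rw [hy, Ideal.radical_eq_top]
    ext r
    simp [Submodule.mem_colon_singleton]
  rw [hy, Ideal.mem_radical_iff] at hx
  obtain ⟨n, hn⟩ := hx
  rw [Submodule.mem_colon_singleton, Submodule.mem_bot] at hn
  exact hy0 ((hreg.pow n).right_eq_zero_of_smul hn)

end DepthZero

section Fib

variable {A P : Type u} [CommRing A] [CommRing P] [IsNoetherianRing A] [IsNoetherianRing P]
  [Algebra A P] [Module.Flat A P]

/-- fibres of a flat lci algebra are Gorenstein -/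
theorem gor_fiber (hl : LCI.IsLCI A P) (p : Ideal A) [p.IsPrime] : LocCoh.IsGorensteinRing (p.Fiber P) := by
  haveI := Groth.Agent.Lib.Helper5.KoszulBC.gorRing_tensor_field_of_flat_isLCI A P hl p.ResidueField
  exact gorRing_of_ringEquiv (Algebra.TensorProduct.comm A P p.ResidueField).toRingEquiv

theorem fib_dim_zero (hl : LCI.IsLCI A P) (Q : Ideal P) [Q.IsPrime]
    (hass : maximalIdeal (Localization.AtPrime Q) ∈
      associatedPrimes (Localization.AtPrime Q) (Localization.AtPrime Q)) :
    ringKrullDim (EGA4.FibLocRing A P Q) = 0 := by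
  obtain ⟨alg, hloc, hflat, hmap⟩ :=
    Groth.Agent.Lib.Helper28.exists_algebra_localization_flat (A := A) (B := P) Q
  letI := alg
  haveI := hloc
  haveI := hflat
  haveI : IsLocalRing (EGA4.FibLocRing A P Q) :=
    Groth.Agent.Lib.Helper28.isLocalRing_fibLocRing (A := A) Q
  have hG : LocCoh.IsGorensteinLocalRing (EGA4.FibLocRing A P Q) :=
    (forall_gor_fiber_iff (A := A) (B := P)).mp (fun p _ => gor_fiber hl p) Q
  haveI : LocCoh.IsCohenMacaulayLocalRing (EGA4.FibLocRing A P Q) := Groth.Agent.S0341.result _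
  have hd := depth_formula (A := Localization.AtPrime (Q.comap (algebraMap A P)))
    (B := Localization.AtPrime Q) (F := EGA4.FibLocRing A P Q)
    (Ideal.Quotient.mk _) Ideal.Quotient.mk_surjective (by rw [Ideal.mk_ker]; exact hmap)
  rw [depth_zero_of_ass _ hass] at hd
  apply dim_zero_of_cm_depth_zero
  have := hd.symm
  rw [add_eq_zero] at this
  exact this.2

omit [IsNoetherianRing A] [IsNoetherianRing P] [Module.Flat A P] in
theorem eq_of_le_of_comap_eq (Q Q' : Ideal P) [hQ : Q.IsPrime] [hQ' : Q'.IsPrime] (hle : Q' ≤ Q)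
    (hc : Q'.comap (algebraMap A P) = Q.comap (algebraMap A P))
    (hdim : ringKrullDim (EGA4.FibLocRing A P Q) = 0) : Q' = Q := by
  set L := Localization.AtPrime Q with hL
  set I : Ideal L := (Q.comap (algebraMap A P)).map (algebraMap A L) with hI
  haveI : IsLocalRing (L ⧸ I) :=
    Groth.Agent.Lib.Helper28.isLocalRing_fibLocRing (A := A) Q
  haveI : Ring.KrullDimLE 0 (L ⧸ I) := ringKrullDimZero_iff_ringKrullDim_eq_zero.mpr hdim
  have hdisj : Disjoint (Q.primeCompl : Set P) (Q' : Set P) := by
    rw [Set.disjoint_left]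
    intro x hx hx'
    exact hx (hle hx')
  have hQ'L : (Q'.map (algebraMap P L)).IsPrime :=
    IsLocalization.isPrime_of_isPrime_disjoint Q.primeCompl L Q' hQ' hdisj
  have hcm : (Q'.map (algebraMap P L)).comap (algebraMap P L) = Q' :=
    IsLocalization.comap_map_of_isPrime_disjoint Q.primeCompl L hQ' hdisj
  have hIle : I ≤ Q'.map (algebraMap P L) := by
    rw [hI, Ideal.map_le_iff_le_comap]
    intro a ha
    rw [Ideal.mem_comap, IsScalarTower.algebraMap_apply A P L]
    apply Ideal.mem_map_of_mem
    rw [← hc] at ha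
    exact ha
  have hsurj : Function.Surjective (Ideal.Quotient.mk I) := Ideal.Quotient.mk_surjective
  have hq1 : ((Q'.map (algebraMap P L)).map (Ideal.Quotient.mk I)).IsPrime :=
    Ideal.map_isPrime_of_surjective hsurj (by rw [Ideal.mk_ker]; exact hIle)
  have hq1m := IsLocalRing.eq_maximalIdeal hq1.isMaximal'
  have hIle2 : I ≤ maximalIdeal L := hIle.trans (IsLocalRing.le_maximalIdeal hQ'L.ne_top)
  have hq2 : ((maximalIdeal L).map (Ideal.Quotient.mk I)).IsPrime :=
    Ideal.map_isPrime_of_surjective hsurj (by rw [Ideal.mk_ker]; exact hIle2)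
  have hq2m := IsLocalRing.eq_maximalIdeal hq2.isMaximal'
  have hmax : maximalIdeal L ≤ Q'.map (algebraMap P L) := by
    intro x hx
    have h1 : Ideal.Quotient.mk I x ∈ (Q'.map (algebraMap P L)).map (Ideal.Quotient.mk I) := by
      rw [hq1m, ← hq2m]
      exact Ideal.mem_map_of_mem _ hx
    obtain ⟨y, hy, hyx⟩ := (Ideal.mem_map_iff_of_surjective _ hsurj).mp h1
    have h2 : y - x ∈ I := by
      rw [← Ideal.Quotient.eq]
      exact hyx
    have h3 : x = y - (y - x) := by ring
    rw [h3]
    exact Ideal.sub_mem _ hy (hIle h2)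
  have heq : Q'.map (algebraMap P L) = maximalIdeal L :=
    le_antisymm (IsLocalRing.le_maximalIdeal hQ'L.ne_top) hmax
  rw [← hcm, heq]
  exact Localization.AtPrime.comap_maximalIdeal

end Fib

open Groth.Agent.Lib.R2H3.KzCotProj in
theorem main (A : Type u) [CommRing A] [IsNoetherianRing A]
    (P : Type u) [CommRing P] [Algebra A P] [Module.Flat A P] (hlci : LCI.IsLCI A P)
    (hgs : ∀ 𝔓 : PrimeSpectrum P,
      (∀ 𝔔 : PrimeSpectrum P, 𝔔 ≤ 𝔓 →
          𝔔.asIdeal.comap (algebraMap A P) = 𝔓.asIdeal.comap (algebraMap A P) → 𝔔 = 𝔓) →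
        𝔓 ∈ Algebra.smoothLocus A P) :
    Subsingleton (Algebra.H1Cotangent A P) := by
  obtain ⟨hft, n, f, hf, hK⟩ := hlci
  haveI := hft
  haveI : IsNoetherianRing P := Algebra.FiniteType.isNoetherianRing A P
  let G : Generators A P (Fin n) := Generators.ofAlgHom f hf
  have hker : G.toExtension.ker = RingHom.ker f.toRingHom := Generators.ker_ofAlgHom f hf
  obtain ⟨hfin, hproj⟩ := cotangent_finite_projective G.toExtension (hker ▸ hK)
  haveI := hfin
  haveI := hproj
  have key : ∀ x : G.toExtension.H1Cotangent, x = 0 := by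
    intro x
    apply Extension.h1Cotangentι_injective
    rw [map_zero]
    haveI : Module.Flat P G.toExtension.Cotangent := Module.Flat.of_projective
    apply Groth.Agent.Lib.Helper8AssDense.eq_zero_of_ass (A := P)
    intro Q hQ hass
    have hdim := fib_dim_zero (A := A) ⟨hft, n, f, hf, hK⟩ Q hass
    have hsm : (⟨Q, hQ⟩ : PrimeSpectrum P) ∈ Algebra.smoothLocus A P := by
      apply hgs
      intro 𝔔 hle hc
      ext1
      exact eq_of_le_of_comap_eq (A := A) Q 𝔔.asIdeal hle hc hdim
    rw [Algebra.smoothLocus_eq_compl_support_inter] at hsm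
    have hns := hsm.1
    rw [Set.mem_compl_iff, Module.notMem_support_iff'] at hns
    obtain ⟨r, hr, hrx⟩ := hns (G.equivH1Cotangent x)
    refine ⟨r, hr, ?_⟩
    rw [← map_smul] at hrx
    have h0 : r • x = 0 := by
      apply G.equivH1Cotangent.injective
      rw [hrx, map_zero]
    rw [← map_smul, h0, map_zero]
  refine ⟨fun a b => ?_⟩
  apply G.equivH1Cotangent.symm.injective
  rw [key (G.equivH1Cotangent.symm a), key (G.equivH1Cotangent.symm b)]

end Groth.Agent.Lib.R2LeadLciH1
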