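import Groth.Agent.Lib.R2LeadFittT1
import Groth.Agent.Lib.H6xCIH
import Groth.Agent.Lib.R2H3KzCotProj
import Groth.Agent.Lib.R2LeadLciH1
import Groth.Agent.Lib.R2LeadSyntF
import Groth.Agent.S15821
universe u
open TensorProduct KaehlerDifferential CategoryTheory

namespace Groth.Agent.Lib.R2LeadFittT1

theorem main
    (k : Type u) [Field k] [IsAlgClosed k] (r c : ℕ)
    (B : Type u) [CommRing B] [Algebra k B] [IsReduced B]
    (φ : MvPolynomial (Fin r) k →ₐ[k] B) (hφ : Function.Surjective φ)
    (a : Fin c → MvPolynomial (Fin r) k)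
    (ha : RingTheory.Sequence.IsRegular (MvPolynomial (Fin r) k) (List.ofFn a))
    (hker : RingHom.ker φ.toRingHom = Ideal.span (Set.range a)) :
    Fitt.ideal B (KaehlerDifferential k B) (r - c) =
      Fitt.ideal B (Abelian.Ext.{u} (ModuleCat.of B (KaehlerDifferential k B)) (ModuleCat.of B B) 1) 0 := by
  classical
  letI : Algebra (MvPolynomial (Fin r) k) B := φ.toRingHom.toAlgebra
  haveI : IsScalarTower k (MvPolynomial (Fin r) k) B := IsScalarTower.of_algebraMap_eq' φ.comp_algebraMap.symm
  have hsurj : Function.Surjective (algebraMap (MvPolynomial (Fin r) k) B) := hφ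
  have hker' : RingHom.ker (algebraMap (MvPolynomial (Fin r) k) B) = Ideal.span (Set.range a) := hker
  have hH1 := Groth.Agent.Lib.H6xCI.isH1Regular_of_isWeaklyRegular_ofFn a ha.toIsWeaklyRegular
  have hind : ∀ p : Fin c → MvPolynomial (Fin r) k,
      ∑ i, p i * a i ∈ (RingHom.ker (algebraMap (MvPolynomial (Fin r) k) B)) ^ 2 →
      ∀ i, p i ∈ RingHom.ker (algebraMap (MvPolynomial (Fin r) k) B) := by
    intro p hp i
    rw [hker'] at hp ⊢
    exact Groth.Agent.Lib.R2H3.KzCotProj.mem_of_sum_mem_sq a hH1 p hp i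
  -- lci
  have hlci : LCI.IsLCI k B := by
    refine ⟨Algebra.FiniteType.of_surjective φ hφ, r, φ, hφ, ?_⟩
    have hof : Ideal.ofList (List.ofFn a) = Ideal.span (Set.range a) := by
      rw [Ideal.ofList]
      congr 1
      ext x
      exact List.mem_ofFn' a x
    rw [hker, ← hof]
    exact Groth.Agent.Lib.R2LeadSyntF.isKoszulRegularIdeal_ofList _
      (Groth.Agent.S15821.result _ _ ha.toIsWeaklyRegular).1
  -- generic smoothness
  have hgs : ∀ 𝔓 : PrimeSpectrum B,
      (∀ 𝔔 : PrimeSpectrum B, 𝔔 ≤ 𝔓 →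
          𝔔.asIdeal.comap (algebraMap k B) = 𝔓.asIdeal.comap (algebraMap k B) → 𝔔 = 𝔓) →
        𝔓 ∈ Algebra.smoothLocus k B := by
    intro 𝔓 hmin
    have hcomap : ∀ 𝔔 : PrimeSpectrum B, 𝔔.asIdeal.comap (algebraMap k B) = ⊥ := by
      intro 𝔔
      have : (𝔔.asIdeal.comap (algebraMap k B)).IsPrime := inferInstance
      rcases Ideal.eq_bot_or_top (𝔔.asIdeal.comap (algebraMap k B)) with h | h
      · exact h
      · exact absurd h this.ne_top
    have hmem : 𝔓.asIdeal ∈ minimalPrimes B := by
      rw [minimalPrimes_eq_minimals]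
      refine ⟨𝔓.isPrime, ?_⟩
      intro Q hQ hle
      have := hmin ⟨Q, hQ⟩ hle ((hcomap _).trans (hcomap _).symm)
      rw [← this]
    have : Ring.KrullDimLE 0 (Localization.AtPrime 𝔓.asIdeal) := .of_isLocalization _ hmem _
    let _ : Field (Localization.AtPrime 𝔓.asIdeal) := Ring.KrullDimLE.isField_of_isReduced.toField
    have : Algebra.FiniteType k B := Algebra.FiniteType.of_surjective φ hφ
    have : Algebra.EssFiniteType k (Localization.AtPrime 𝔓.asIdeal) :=
      Algebra.EssFiniteType.comp k B _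
    show Algebra.FormallySmooth k (Localization.AtPrime 𝔓.asIdeal)
    infer_instance
  have hsub := Groth.Agent.Lib.R2LeadLciH1.main k B hlci hgs
  have hinj : Function.Injective (kerCotangentToTensor k (MvPolynomial (Fin r) k) B) :=
    (Algebra.FormallySmooth.kerCotangentToTensor_injective_iff hsurj).2 hsub
  exact fitt_eq_general k (MvPolynomial (Fin r) k) B hsurj hinj r c
    (KaehlerDifferential.mvPolynomialBasis k (Fin r)) a hker' hind

end Groth.Agent.Lib.R2LeadFittT1
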