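import Mathlib

/-!
# Reduction modulo an ideal, elementwise (lead)

`(R ⧸ I) ⊗ -` applied to a pair of composable maps is exact iff an elementwise condition on
`I • ⊤` holds; consequently exactness of `(A ⧸ I) ⊗_A -` and of `(B ⧸ I B) ⊗_B -` agree on
`B`-linear maps.
-/

set_option autoImplicit false

namespace Groth.Agent.Lib.R2LeadFlatLocRegA

open TensorProduct

section ClaimA

variable {R : Type*} [CommRing R] (I : Ideal R) {M N P : Type*} [AddCommGroup M] [AddCommGroup N]
  [AddCommGroup P] [Module R M] [Module R N] [Module R P]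

lemma smul_top_le_comap (f : M →ₗ[R] N) :
    I • (⊤ : Submodule R M) ≤ (I • (⊤ : Submodule R N)).comap f := by
  rw [Submodule.smul_le]
  intro r hr x _
  rw [Submodule.mem_comap, map_smul]
  exact Submodule.smul_mem_smul hr Submodule.mem_top

lemma quot_nat (f : M →ₗ[R] N) :
    (Submodule.mapQ _ _ f (smul_top_le_comap I f)) ∘ₗ (quotTensorEquivQuotSMul M I).toLinearMap =
      (quotTensorEquivQuotSMul N I).toLinearMap ∘ₗ f.lTensor (R ⧸ I) := by
  refine TensorProduct.ext' fun r x => ?_
  obtain ⟨r, rfl⟩ := Ideal.Quotient.mk_surjective r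
  simp [quotTensorEquivQuotSMul_mk_tmul]

theorem exact_lTensor_quot_iff (f : M →ₗ[R] N) (g : N →ₗ[R] P) :
    Function.Exact (f.lTensor (R ⧸ I)) (g.lTensor (R ⧸ I)) ↔
      ∀ y : N, g y ∈ I • (⊤ : Submodule R P) ↔ ∃ x : M, y - f x ∈ I • (⊤ : Submodule R N) := by
  rw [← Function.Exact.iff_of_ladder_linearEquiv (quot_nat I f) (quot_nat I g)]
  have key : ∀ y : N, (∃ xb, Submodule.mapQ _ _ f (smul_top_le_comap I f) xb =
      Submodule.Quotient.mk y) ↔ ∃ x : M, y - f x ∈ I • (⊤ : Submodule R N) := by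
    intro y
    constructor
    · rintro ⟨xb, hx⟩
      obtain ⟨x, rfl⟩ := Submodule.Quotient.mk_surjective _ xb
      refine ⟨x, ?_⟩
      rw [Submodule.mapQ_apply, eq_comm, Submodule.Quotient.eq] at hx
      exact hx
    · rintro ⟨x, hx⟩
      refine ⟨Submodule.Quotient.mk x, ?_⟩
      rw [Submodule.mapQ_apply, eq_comm, Submodule.Quotient.eq]
      exact hx
  constructor
  · intro h y
    have h1 := h (Submodule.Quotient.mk y)
    rw [Submodule.mapQ_apply, Submodule.Quotient.mk_eq_zero] at h1
    rw [h1]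
    exact key y
  · intro h yb
    obtain ⟨y, rfl⟩ := Submodule.Quotient.mk_surjective _ yb
    rw [Submodule.mapQ_apply, Submodule.Quotient.mk_eq_zero, h y]
    exact (key y).symm

end ClaimA

section Transfer

variable {A B : Type*} [CommRing A] [CommRing B] [Algebra A B] (I : Ideal A)

lemma mem_smul_top_iff {X : Type*} [AddCommGroup X] [Module A X] [Module B X]
    [IsScalarTower A B X] (x : X) :
    x ∈ I • (⊤ : Submodule A X) ↔ x ∈ (I.map (algebraMap A B)) • (⊤ : Submodule B X) := by
  have h := Ideal.smul_restrictScalars I (⊤ : Submodule B X)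
  rw [Submodule.restrictScalars_top] at h
  rw [← h]
  rfl

variable {M N P : Type*} [AddCommGroup M] [AddCommGroup N] [AddCommGroup P]
  [Module A M] [Module A N] [Module A P] [Module B M] [Module B N] [Module B P]
  [IsScalarTower A B M] [IsScalarTower A B N] [IsScalarTower A B P]

theorem exact_lTensor_quot_transfer (f : M →ₗ[A] N) (g : N →ₗ[A] P) (f' : M →ₗ[B] N)
    (g' : N →ₗ[B] P) (hf : ∀ x, f x = f' x) (hg : ∀ x, g x = g' x) :
    Function.Exact (f.lTensor (A ⧸ I)) (g.lTensor (A ⧸ I)) ↔
      Function.Exact (f'.lTensor (B ⧸ I.map (algebraMap A B)))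
        (g'.lTensor (B ⧸ I.map (algebraMap A B))) := by
  rw [exact_lTensor_quot_iff, exact_lTensor_quot_iff]
  simp only [hf, hg, mem_smul_top_iff (B := B) I]

end Transfer

end Groth.Agent.Lib.R2LeadFlatLocRegA
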