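import Groth.Prelude.Def_DRing2
import Groth.Prelude.Def_DDual2
import Mathlib
import Groth.Agent.Lib.Helper1LocalCx
import Groth.Agent.Lib.Helper1RelBC
import Groth.Agent.Lib.Helper1TorN
import Groth.Agent.Lib.Helper5Syzygy
import Groth.Agent.S7073
import Groth.Agent.S0563
import Groth.Agent.Lib.R2LeadFlatLocRegA

set_option autoImplicit false
universe u
open CategoryTheory CategoryTheory.Limits
attribute [local instance] HasDerivedCategory.standard
open DRing

namespace Groth.Agent.Lib.R2LeadFlatLocRegB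

open Groth.Agent.Lib.Helper1.LDer Groth.Agent.Lib.Helper1.PC Groth.Agent.Lib.Helper1.Tor
open Groth.Agent.Lib.Helper1.Cone Groth.Agent.Lib.Helper1.ProjRes DerivedCategory
open Groth.Agent.Lib.Helper1.LocalCx Groth.Agent.Lib.Helper1.Extend
open Groth.Agent.Lib.R2LeadFlatLocRegA

section Step3

variable {A B : Type u} [CommRing A] [CommRing B] [Algebra A B] (I : Ideal A)

/-- exactness of `(A ⧸ I) ⊗_A F|_A` versus `(B ⧸ I B) ⊗_B F` -/
theorem exactAt_TC_quot_iff (F : DRing.Cx B) (j : ℤ) :
    ((TC (ModuleCat.of A (A ⧸ I))).obj ((DRing.restrictCx (algebraMap A B)).obj F)).ExactAt j ↔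
      ((TC (ModuleCat.of B (B ⧸ I.map (algebraMap A B)))).obj F).ExactAt j := by
  rw [exactAt_TC_iff _ _ (j - 1) j (j + 1) (by lia) rfl,
    exactAt_TC_iff _ _ (j - 1) j (j + 1) (by lia) rfl]
  letI : ∀ i, Module A (F.X i) := fun i => Module.compHom (F.X i) (algebraMap A B)
  haveI : ∀ i, IsScalarTower A B (F.X i) := fun i =>
    IsScalarTower.of_algebraMap_smul (fun r m => rfl)
  let f : F.X (j - 1) →ₗ[A] F.X j :=
    ((ModuleCat.restrictScalars.{u} (algebraMap A B)).map (F.d (j - 1) j)).hom
  let g : F.X j →ₗ[A] F.X (j + 1) :=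
    ((ModuleCat.restrictScalars.{u} (algebraMap A B)).map (F.d j (j + 1))).hom
  exact exact_lTensor_quot_transfer I f g
    (F.d (j - 1) j).hom (F.d j (j + 1)).hom (fun _ => rfl) (fun _ => rfl)

end Step3


section Main

open Groth.Agent.Lib.Helper1.Restrict Groth.Agent.Lib.Helper1.TorN Groth.Agent.Lib.Helper1.TorM
open Groth.Agent.Lib.Helper21.PdLoc

variable {A B : Type u} [CommRing A] [CommRing B] [IsLocalRing A] [Algebra A B]

/-- Step 3 packaged -/
theorem exactAt_bc_residue_iff (F : DRing.Cx B) (j : ℤ) :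
    ((bcCx (IsLocalRing.residue A)).obj ((DRing.restrictCx (algebraMap A B)).obj F)).ExactAt j ↔
      ((bcCx (Ideal.Quotient.mk ((IsLocalRing.maximalIdeal A).map (algebraMap A B)))).obj
        F).ExactAt j := by
  rw [exactAt_bc_iff_TC, exactAt_bc_iff_TC]
  let eκ : (ModuleCat.restrictScalars.{u} (IsLocalRing.residue A)).obj
      (ModuleCat.of (IsLocalRing.ResidueField A) (IsLocalRing.ResidueField A)) ≅
      ModuleCat.of A (A ⧸ IsLocalRing.maximalIdeal A) :=
    (e₀ (A := A) (IsLocalRing.ResidueField A)).toModuleIso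
  let eB : (ModuleCat.restrictScalars.{u}
      (Ideal.Quotient.mk ((IsLocalRing.maximalIdeal A).map (algebraMap A B)))).obj
      (ModuleCat.of (B ⧸ (IsLocalRing.maximalIdeal A).map (algebraMap A B))
        (B ⧸ (IsLocalRing.maximalIdeal A).map (algebraMap A B))) ≅
      ModuleCat.of B (B ⧸ (IsLocalRing.maximalIdeal A).map (algebraMap A B)) :=
    (e₀ (A := B) (B ⧸ (IsLocalRing.maximalIdeal A).map (algebraMap A B))).toModuleIso
  rw [exactAt_TC_congr eκ, exactAt_TC_congr eB]
  exact exactAt_TC_quot_iff (IsLocalRing.maximalIdeal A) F j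



/-- Steps 1–2: the fibre complex is exact outside `[a, b]` -/
theorem exactAt_fibre [Module.Flat A B] [DRing.HasLBaseChange (IsLocalRing.residue A)]
    (F : DRing.Cx B) (bF : ℤ) (hFb : DRing.VanishesAbove F bF) (hFf : DRing.TermwiseFiniteFree F)
    (K : Dual.D B) (e : DRing.toD F ≅ K) (i : ℤ)
    (h : Subsingleton (Dual.HD (IsLocalRing.ResidueField A)
      ((DRing.LBaseChange (IsLocalRing.residue A)).obj
        ((DRing.restrictD (algebraMap A B)).obj K)) i)) :
    ((bcCx (Ideal.Quotient.mk ((IsLocalRing.maximalIdeal A).map (algebraMap A B)))).obj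
        F).ExactAt i := by
  rw [← exactAt_bc_residue_iff]
  set G := (DRing.restrictCx (algebraMap A B)).obj F with hG
  have hGb : DRing.VanishesAbove G bF := fun i hi =>
    (ModuleCat.restrictScalars.{u} (algebraMap A B)).map_isZero (hFb i hi)
  have hGf : DRing.TermwiseFlat G := fun i => by
    have := (hFf i).2
    have : Module.Flat B (F.X i) := inferInstance
    exact Groth.Agent.S7073.flat_restrictScalars A B (F.X i)
  have eG : Q.obj G ≅ (DRing.restrictD (algebraMap A B)).obj K :=
    (restrictQIso _ F).symm ≪≫ (DRing.restrictD (algebraMap A B)).mapIso e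
  have hGle : G.IsStrictlyLE bF := by
    rw [CochainComplex.isStrictlyLE_iff]
    exact hGb
  obtain ⟨P, p, hp, hPproj, hPle⟩ := exists_proj_res G bF
  have hKP : P.IsKProjective := CochainComplex.isKProjective_of_projective P bF
  have hpi : IsIso (Q.map p) := (DerivedCategory.isIso_Q_map_iff_quasiIso (φ := p)).2 hp
  have hPb : DRing.VanishesAbove P bF := fun j hj => P.isZero_of_isStrictlyLE bF j hj
  have hPf : DRing.TermwiseFlat P := fun j => by
    have := hPproj j
    have : Module.Projective A (P.X j) := (IsProjective.iff_projective (R := A) (P := P.X j)).2 this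
    infer_instance
  have hbc : IsIso (Q.map ((bcCx (IsLocalRing.residue A)).map p)) :=
    isIso_Q_map_bc (IsLocalRing.residue A) p bF bF hPb hGb hPf hGf hpi
  have e' : (DRing.LBaseChange (IsLocalRing.residue A)).obj
      ((DRing.restrictD (algebraMap A B)).obj K) ≅
        Q.obj ((bcCx (IsLocalRing.residue A)).obj G) :=
    (DRing.LBaseChange (IsLocalRing.residue A)).mapIso (eG.symm ≪≫ (asIso (Q.map p)).symm) ≪≫
      lbcIso (IsLocalRing.residue A) P ≪≫ asIso (Q.map ((bcCx (IsLocalRing.residue A)).map p))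
  rw [exactAt_iff_isZero_H]
  exact (ModuleCat.isZero_of_subsingleton _).of_iso
    ((homologyFunctor (ModuleCat.{u} (IsLocalRing.ResidueField A)) i).mapIso e'.symm)

end Main


section GlDim

open Groth.Agent.Lib.Helper21.PdLoc

variable {R : Type u} [CommRing R]

/-- Step 4: over a ring of global dimension `≤ d`, a bounded above complex of projectives
exact outside `[a, b]` has tor amplitude in `[a - d, b]`. -/
theorem hasTorAmp_of_gldim (d : ℕ)
    (hgl : ∀ (M : Type u) [AddCommGroup M] [Module R M],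
      HasProjectiveDimensionLT (ModuleCat.of R M) (d + 1))
    (E : DRing.Cx R) (bE : ℤ) (hEb : DRing.VanishesAbove E bE)
    (hEp : ∀ i, Module.Projective R (E.X i)) (a b : ℤ)
    (hex : ∀ i : ℤ, (i < a ∨ b < i) → E.ExactAt i) :
    DRing.HasTorAmplitudeIn R (a - d) b (DRing.toD E) := by
  have hEflat : DRing.TermwiseFlat E := fun i =>
    have := hEp i
    inferInstance
  set c : ℤ := a - d with hc
  have hflat0 : Module.Flat R (E.opcycles (c + ((0 : ℕ) : ℤ))) := by
    rcases Nat.eq_zero_or_pos d with hd0 | hdpos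
    · subst hd0
      have := (pdLT_one_iff (E.opcycles (c + ((0 : ℕ) : ℤ)))).mp (hgl _)
      infer_instance
    · let N : ℕ → Type u := fun i => E.X (c + (i : ℤ))
      let dd : ∀ i, N i →ₗ[R] N (i + 1) := fun i => (E.d (c + (i : ℤ)) (c + ((i + 1 : ℕ) : ℤ))).hom
      have hexd : ∀ i : ℕ, i + 1 < d → Function.Exact (dd i) (dd (i + 1)) := by
        intro i hi
        exact (exactAt_iff_fexact E (c + (i : ℤ)) (c + ((i + 1 : ℕ) : ℤ))
          (c + ((i + 1 + 1 : ℕ) : ℤ)) (by push_cast; ring) (by push_cast; ring)).1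
          (hex _ (Or.inl (by push_cast; lia)))
      have h1 := Groth.Agent.Lib.Helper5.Syzygy.pdLT_range N dd d
        (fun i _ _ => hEp _) (fun i hi => (LinearMap.exact_iff.1 (hexd i hi)).symm) hgl (d - 1) 0
        (by omega)
      have h2 : Module.Projective R (LinearMap.range (dd 0)) := (pdLT_one_iff _).mp h1
      -- identify the opcycles with the range
      have hsurj : Function.Surjective (E.pOpcycles (c + ((0 : ℕ) : ℤ))).hom :=
        (ModuleCat.epi_iff_surjective _).1 inferInstance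
      have hexp := fexact_d_pOpcycles E (c + ((0 : ℕ) : ℤ))
      have hex0 : Function.Exact (E.d (c + ((0 : ℕ) : ℤ) - 1) (c + ((0 : ℕ) : ℤ))).hom (dd 0) :=
        (exactAt_iff_fexact E (c + ((0 : ℕ) : ℤ) - 1) (c + ((0 : ℕ) : ℤ))
          (c + ((0 + 1 : ℕ) : ℤ)) (by ring) (by push_cast; ring)).1
          (hex _ (Or.inl (by push_cast; lia)))
      have hker : LinearMap.ker (E.pOpcycles (c + ((0 : ℕ) : ℤ))).hom = LinearMap.ker (dd 0) := by
        rw [LinearMap.exact_iff.1 hexp, LinearMap.exact_iff.1 hex0]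
      let e : E.opcycles (c + ((0 : ℕ) : ℤ)) ≃ₗ[R] LinearMap.range (dd 0) :=
        ((E.pOpcycles (c + ((0 : ℕ) : ℤ))).hom.quotKerEquivOfSurjective hsurj).symm ≪≫ₗ
          Submodule.quotEquivOfEq _ _ hker ≪≫ₗ (dd 0).quotKerEquivRange
      have : Module.Projective R (E.opcycles (c + ((0 : ℕ) : ℤ))) :=
        Module.Projective.of_equiv e.symm
      infer_instance
  have hc0 : c + ((0 : ℕ) : ℤ) = c := by simp
  rw [hc0] at hflat0
  exact Groth.Agent.Lib.Helper1.Tor.hasTorAmp_of_flat_opcycles E bE hEb hEflat c b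
    (fun i hi => hex i (Or.inl (by lia))) (fun i hi => hex i (Or.inr hi)) hflat0

end GlDim


section Final

open Groth.Agent.Lib.Helper1.Restrict Groth.Agent.Lib.Helper1.TorN Groth.Agent.Lib.Helper1.TorM

theorem main {A B : Type u} [CommRing A] [CommRing B] [IsLocalRing A]
    [IsLocalRing B] [Algebra A B] [IsLocalHom (algebraMap A B)] [Module.Flat A B] (d : ℕ)
    [IsRegularLocalRing (B ⧸ (IsLocalRing.maximalIdeal A).map (algebraMap A B))]
    (hd : ringKrullDim (B ⧸ (IsLocalRing.maximalIdeal A).map (algebraMap A B)) = d)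
    [DRing.HasLBaseChange (IsLocalRing.residue A)] (a b : ℤ) (K : Dual.D B)
    (hK : DRing.IsPseudoCoherent' B K)
    (h : ∀ i : ℤ, (i < a ∨ b < i) → Subsingleton (Dual.HD (IsLocalRing.ResidueField A)
      ((DRing.LBaseChange (IsLocalRing.residue A)).obj
        ((DRing.restrictD (algebraMap A B)).obj K)) i)) :
    DRing.IsPerfect B K ∧ DRing.HasTorAmplitudeIn B (a - d) b K := by
  obtain ⟨F, bF, hFb, hFf, ⟨e⟩⟩ := hK
  set I := (IsLocalRing.maximalIdeal A).map (algebraMap A B) with hI
  have hIle : I ≤ IsLocalRing.maximalIdeal B :=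
    IsLocalRing.map_maximalIdeal_le (algebraMap A B)
  set Fb := (bcCx (Ideal.Quotient.mk I)).obj F with hFb'
  have hFbb : DRing.VanishesAbove Fb bF := vanishesAbove_bc _ F bF hFb
  have hFbf : DRing.TermwiseFiniteFree Fb := termwiseFiniteFree_bc _ F hFf
  have hFbflat : DRing.TermwiseFlat Fb := fun i =>
    have := (hFbf i).2
    inferInstance
  have hFbex : ∀ i : ℤ, (i < a ∨ b < i) → Fb.ExactAt i := fun i hi =>
    exactAt_fibre F bF hFb hFf K e i (h i hi)
  -- Step 4
  obtain ⟨E₀, hE₀, hE₀f, ⟨e₀⟩⟩ := hasTorAmp_of_gldim d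
    (fun M _ _ => Groth.Agent.S0563.result (B ⧸ I) d hd M) Fb bF hFbb
    (fun i => by
      have := (hFbf i).2
      infer_instance) a b hFbex
  have hTV : TorVan Fb (a - d) b := torVan_of_iso Fb E₀ bF hFbb hFbflat (a - d) b hE₀ hE₀f e₀
  -- Step 5
  have hN : ∀ r ∈ I, ∀ x : IsLocalRing.ResidueField B, r • x = 0 := by
    intro r hr x
    rw [Algebra.smul_def]
    have : algebraMap B (IsLocalRing.ResidueField B) r = 0 :=
      (IsLocalRing.residue_eq_zero_iff r).2 (hIle hr)
    rw [this, zero_mul]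
  have htors : Module.IsTorsionBySet B (IsLocalRing.ResidueField B) (I : Set B) :=
    fun x a => hN a a.2 x
  letI : Module (B ⧸ I) (IsLocalRing.ResidueField B) := Module.IsTorsionBySet.module htors
  have hTC : ∀ i : ℤ, (i < a - d ∨ b < i) →
      ((TC (ModuleCat.of B (IsLocalRing.ResidueField B))).obj F).ExactAt i := by
    intro i hi
    have h1 := hTV (ModuleCat.of (B ⧸ I) (IsLocalRing.ResidueField B)) i hi
    have h2 := exactAt_TC_restrict_of_exactAt_TC_ext (Ideal.Quotient.mk I)
      (ModuleCat.of (B ⧸ I) (IsLocalRing.ResidueField B)) F i h1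
    let eN : (ModuleCat.restrictScalars (Ideal.Quotient.mk I)).obj
        (ModuleCat.of (B ⧸ I) (IsLocalRing.ResidueField B)) ≅
        ModuleCat.of B (IsLocalRing.ResidueField B) :=
      LinearEquiv.toModuleIso
        { toFun := fun x => x
          invFun := fun x => x
          map_add' := fun _ _ => rfl
          map_smul' := fun r x => Module.IsTorsionBySet.mk_smul htors r x
          left_inv := fun _ => rfl
          right_inv := fun _ => rfl }
    exact exactAt_TC_of_iso eN F i h2
  have hta := hasTorAmp_of_exactAt_TC_residueField F bF hFb hFf (a - d) b hTC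
  obtain ⟨E, hE, hEfp, ⟨eE⟩⟩ := exists_finiteProjective_of_pc_of_torAmp (Q.obj F)
    ⟨F, bF, hFb, hFf, ⟨Iso.refl _⟩⟩ (a - d) b hta
  exact ⟨⟨E, a - d, b, hE, hEfp, ⟨eE ≪≫ e⟩⟩, hasTorAmp_of_iso e hta⟩

end Final

end Groth.Agent.Lib.R2LeadFlatLocRegB
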