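import Groth.Prelude.Def_DRing2
import Groth.Prelude.Def_DDual2
import Mathlib
import Groth.Agent.Lib.Helper1Fibres
import Groth.Agent.Lib.R2LeadFlatLocRegB

set_option autoImplicit false
universe u
open CategoryTheory CategoryTheory.Limits
attribute [local instance] HasDerivedCategory.standard
open DRing

namespace Groth.Agent.Lib.R2LeadFlatFibGl

open Groth.Agent.Lib.Helper1.LDer Groth.Agent.Lib.Helper1.PC Groth.Agent.Lib.Helper1.Tor
open Groth.Agent.Lib.Helper1.Cone Groth.Agent.Lib.Helper1.ProjRes DerivedCategory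
open Groth.Agent.Lib.Helper1.LocalCx Groth.Agent.Lib.Helper1.Extend
open Groth.Agent.Lib.Helper1.Restrict Groth.Agent.Lib.Helper1.TorN Groth.Agent.Lib.Helper1.TorM
open Groth.Agent.Lib.Helper1.RelBC Groth.Agent.Lib.R2LeadFlatLocRegB
open TensorProduct

attribute [local instance] Algebra.TensorProduct.rightAlgebra

section

variable {A B : Type u} [CommRing A] [CommRing B] [Algebra A B]

/-- the fibre map `κ(p) ⊗_A B → κ(m)` for a prime `m` of `B` over `p` -/
noncomputable def rho (m : Ideal B) [m.IsPrime] (p : Ideal A) [p.IsPrime]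
    (hp : p = m.comap (algebraMap A B)) : p.ResidueField ⊗[A] B →ₐ[A] m.ResidueField :=
  Algebra.TensorProduct.lift (Ideal.ResidueField.mapₐ p m (Algebra.ofId A B) hp)
    (IsScalarTower.toAlgHom A B m.ResidueField) (fun _ _ => Commute.all _ _)

lemma rho_inr (m : Ideal B) [m.IsPrime] (p : Ideal A) [p.IsPrime]
    (hp : p = m.comap (algebraMap A B)) (y : B) :
    rho m p hp (inr A p.ResidueField B y) = algebraMap B m.ResidueField y := by
  show rho m p hp (1 ⊗ₜ y) = _
  simp [rho]

theorem exactAt_fibre_maximal [Module.Flat A B] (d : ℕ)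
    (hgl : ∀ (p : PrimeSpectrum A) (M : Type u) [AddCommGroup M]
      [Module (TensorProduct A p.asIdeal.ResidueField B) M],
      HasProjectiveDimensionLT (ModuleCat.of (TensorProduct A p.asIdeal.ResidueField B) M) (d + 1))
    (a b : ℤ) (F : DRing.Cx B) (bF : ℤ) (hFb : DRing.VanishesAbove F bF)
    (hFf : DRing.TermwiseFiniteFree F)
    (htv : TorVan ((DRing.restrictCx (algebraMap A B)).obj F) a b)
    (m : Ideal B) [m.IsMaximal] (i : ℤ) (hi : i < a - d ∨ b < i) :
    ((bcCx (Ideal.Quotient.mk m)).obj F).ExactAt i := by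
  let pp : PrimeSpectrum A := ⟨m.comap (algebraMap A B), inferInstance⟩
  let κ := pp.asIdeal.ResidueField
  let C := κ ⊗[A] B
  have htv' := torVan_res_bc (R := A) (R' := κ) (A := B) F a b htv
  set F' := (bcCx (inr A κ B)).obj F with hF'
  have hF'b : DRing.VanishesAbove F' bF := vanishesAbove_bc _ F bF hFb
  have hF'f : DRing.TermwiseFiniteFree F' := termwiseFiniteFree_bc _ F hFf
  have hF'flat : DRing.TermwiseFlat F' := fun i =>
    have := (hF'f i).2
    inferInstance
  have hF'ex : ∀ i : ℤ, (i < a ∨ b < i) → F'.ExactAt i := fun i hi =>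
    (exactAt_restrict_iff _ F' i).1 (htv'.exactAt i hi)
  obtain ⟨E₀, hE₀, hE₀f, ⟨eE₀⟩⟩ := hasTorAmp_of_gldim d (fun M _ _ => hgl pp M) F' bF hF'b
    (fun i => by
      have := (hF'f i).2
      infer_instance) a b hF'ex
  have hTV : TorVan F' (a - d) b := torVan_of_iso F' E₀ bF hF'b hF'flat (a - d) b hE₀ hE₀f eE₀
  -- the module `κ(m)` over the fibre ring
  let ρ : C →+* m.ResidueField := (rho m pp.asIdeal rfl).toRingHom
  letI : Module C m.ResidueField := Module.compHom _ ρ
  have h1 := hTV (ModuleCat.of C m.ResidueField) i hi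
  have h2 := exactAt_TC_restrict_of_exactAt_TC_ext (inr A κ B) (ModuleCat.of C m.ResidueField) F i h1
  let l : (B ⧸ m) →ₗ[B] m.ResidueField :=
    (Algebra.linearMap (B ⧸ m) m.ResidueField).restrictScalars B
  have hl : Function.Bijective l := Ideal.bijective_algebraMap_quotient_residueField m
  let eN : (ModuleCat.restrictScalars (inr A κ B)).obj (ModuleCat.of C m.ResidueField) ≅
      ModuleCat.of B (B ⧸ m) :=
    LinearEquiv.toModuleIso
      (({ toFun := fun x => x
          invFun := fun x => x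
          map_add' := fun _ _ => rfl
          map_smul' := fun r x => by
            refine Eq.trans (b := ρ (inr A κ B r) * (show m.ResidueField from x)) rfl ?_
            rw [show ρ (inr A κ B r) = algebraMap B m.ResidueField r from
              rho_inr m pp.asIdeal rfl r, RingHom.id_apply, Algebra.smul_def]
          left_inv := fun _ => rfl
          right_inv := fun _ => rfl } :
        ↑((ModuleCat.restrictScalars (inr A κ B)).obj (ModuleCat.of C m.ResidueField)) ≃ₗ[B]
          m.ResidueField) ≪≫ₗ (LinearEquiv.ofBijective l hl).symm)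
  have h3 := exactAt_TC_of_iso eN F i h2
  rw [exactAt_bc_iff_TC]
  let eB : (ModuleCat.restrictScalars.{u} (Ideal.Quotient.mk m)).obj
      (ModuleCat.of (B ⧸ m) (B ⧸ m)) ≅ ModuleCat.of B (B ⧸ m) :=
    (e₀ (A := B) (B ⧸ m)).toModuleIso
  exact (exactAt_TC_congr eB F i).2 h3


theorem main [Module.Flat A B] (d : ℕ)
    (hgl : ∀ (p : PrimeSpectrum A) (M : Type u) [AddCommGroup M]
      [Module (TensorProduct A p.asIdeal.ResidueField B) M],
      HasProjectiveDimensionLT (ModuleCat.of (TensorProduct A p.asIdeal.ResidueField B) M) (d + 1))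
    (a b : ℤ) (K : Dual.D B)
    (hK : DRing.IsPseudoCoherent' B K)
    (hKa : DRing.HasTorAmplitudeIn A a b ((DRing.restrictD (algebraMap A B)).obj K)) :
    DRing.IsPerfect B K ∧ DRing.HasTorAmplitudeIn B (a - d) b K := by
  obtain ⟨F, bF, hFb, hFf, ⟨e⟩⟩ := hK
  obtain ⟨E₀, hE₀, hE₀f, ⟨eE₀⟩⟩ := hKa
  set G := (DRing.restrictCx (algebraMap A B)).obj F with hG
  have hGb : DRing.VanishesAbove G bF := fun i hi =>
    (ModuleCat.restrictScalars.{u} (algebraMap A B)).map_isZero (hFb i hi)
  have hGf : DRing.TermwiseFlat G := fun i => by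
    have := (hFf i).2
    have : Module.Flat B (F.X i) := inferInstance
    exact Groth.Agent.S7073.flat_restrictScalars A B (F.X i)
  have eG : Q.obj G ≅ (DRing.restrictD (algebraMap A B)).obj K :=
    (restrictQIso _ F).symm ≪≫ (DRing.restrictD (algebraMap A B)).mapIso e
  have htv : TorVan G a b := torVan_of_iso G E₀ bF hGb hGf a b hE₀ hE₀f (eE₀ ≪≫ eG.symm)
  have hta : DRing.HasTorAmplitudeIn B (a - d) b (DRing.toD F) :=
    hasTorAmp_of_fibres F bF hFb hFf (a - d) b (fun m _ i hi =>
      exactAt_fibre_maximal d hgl a b F bF hFb hFf htv m i hi)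
  obtain ⟨E, hE, hEfp, ⟨eE⟩⟩ := exists_finiteProjective_of_pc_of_torAmp (Q.obj F)
    ⟨F, bF, hFb, hFf, ⟨Iso.refl _⟩⟩ (a - d) b hta
  exact ⟨⟨E, a - d, b, hE, hEfp, ⟨eE ≪≫ e⟩⟩, hasTorAmp_of_iso e hta⟩

end

end Groth.Agent.Lib.R2LeadFlatFibGl
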