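import Mathlib
import Groth.Agent.Lib.Helper13TorMore
import Groth.Agent.Lib.Helper13TorAR
import Groth.Agent.Lib.Helper13TorBC2
import Groth.Agent.Lib.Helper13TorColim
import Groth.Agent.Lib.Helper13Devissage
import Groth.Agent.Lib.Helper8TorFlip

set_option autoImplicit false
universe u
open CategoryTheory CategoryTheory.Limits MonoidalCategory

namespace Groth.Agent.Lib.R2Lead.FlatTor

open Groth.Agent.Helper13Tor

variable {A : Type u} [CommRing A]

/-- `T M p N`: `Tor_p(M, N) = 0`. -/
abbrev T (M : ModuleCat.{u} A) (p : ℕ) (N : ModuleCat.{u} A) : Prop :=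
  IsZero (((Tor (ModuleCat.{u} A) p).obj M).obj N)

theorem T_of_iso (M : ModuleCat.{u} A) (p : ℕ) {N N' : ModuleCat.{u} A} (e : N ≅ N')
    (h : T M p N) : T M p N' :=
  IsZero.of_iso h (((Tor (ModuleCat.{u} A) p).obj M).mapIso e.symm)

theorem T_of_isZero (M : ModuleCat.{u} A) (p : ℕ) (hp : 0 < p) {N : ModuleCat.{u} A}
    (hN : IsZero N) : T M p N := by
  have : Subsingleton N := ModuleCat.subsingleton_of_isZero hN
  have : Module.Flat A N := inferInstance
  exact isZero_tor_of_flat_right M N p hp

theorem T_flip (M N : ModuleCat.{u} A) (p : ℕ) (h : T N p M) : T M p N :=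
  IsZero.of_iso h (((Groth.Agent.Lib.Helper8.TorFlip.torFlipIso (R := A) p).app M).app N)

theorem T_sigma (M : ModuleCat.{u} A) (p : ℕ) {α : Type u} (f : α → ModuleCat.{u} A)
    (h : ∀ a, T M p (f a)) : T M p (∐ f) := by
  apply T_flip
  have h0 := Groth.Agent.Helper13TorAR.tor_map_eq_zero_sigma f (𝟙 M) p
    (fun a => (T_flip _ _ p (h a)).eq_of_src _ _)
  rw [CategoryTheory.Functor.map_id] at h0
  exact (IsZero.iff_id_eq_zero _).2 h0


section tensor
open TensorProduct

/-- If `A/I ⊗ M` is flat over `A/I`, then `M ⊗ -` preserves injections between `A`-modules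
killed by `I`. -/
theorem lTensor_injective_of_killed (I : Ideal A) (M : Type u) [AddCommGroup M] [Module A M]
    (hflat : Module.Flat (A ⧸ I) ((A ⧸ I) ⊗[A] M))
    {K F : Type u} [AddCommGroup K] [Module A K] [AddCommGroup F] [Module A F]
    (hK : ∀ a ∈ I, ∀ x : K, a • x = 0) (hF : ∀ a ∈ I, ∀ x : F, a • x = 0)
    (ι : K →ₗ[A] F) (hι : Function.Injective ι) :
    Function.Injective (LinearMap.lTensor M ι) := by
  rw [LinearMap.lTensor_inj_iff_rTensor_inj]
  have tK : Module.IsTorsionBySet A K I := fun x a => hK a.1 a.2 x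
  have tF : Module.IsTorsionBySet A F I := fun x a => hF a.1 a.2 x
  letI mK : Module (A ⧸ I) K := tK.module
  letI mF : Module (A ⧸ I) F := tF.module
  haveI : IsScalarTower A (A ⧸ I) K := tK.isScalarTower
  haveI : IsScalarTower A (A ⧸ I) F := tF.isScalarTower
  let ι' : K →ₗ[A ⧸ I] F :=
    { toFun := ι
      map_add' := ι.map_add
      map_smul' := by
        intro q x
        obtain ⟨a, rfl⟩ := Ideal.Quotient.mk_surjective q
        show ι (Ideal.Quotient.mk I a • x) = Ideal.Quotient.mk I a • ι x
        rw [tK.mk_smul, tF.mk_smul, ι.map_smul] }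
  have h1 : Function.Injective (LinearMap.rTensor ((A ⧸ I) ⊗[A] M) ι') :=
    Module.Flat.rTensor_preserves_injective_linearMap ι' hι
  let cK := TensorProduct.AlgebraTensorModule.cancelBaseChange A (A ⧸ I) (A ⧸ I) K M
  let cF := TensorProduct.AlgebraTensorModule.cancelBaseChange A (A ⧸ I) (A ⧸ I) F M
  have comm : ∀ z, cF (LinearMap.rTensor ((A ⧸ I) ⊗[A] M) ι' z) = LinearMap.rTensor M ι (cK z) := by
    intro z
    induction z using TensorProduct.induction_on with
    | zero => simp
    | add z₁ z₂ h₁ h₂ => simp only [map_add, h₁, h₂]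
    | tmul k p =>
      induction p using TensorProduct.induction_on with
      | zero => simp
      | add p₁ p₂ h₁ h₂ => simp only [TensorProduct.tmul_add, map_add, h₁, h₂]
      | tmul a m =>
        show cF (ι' k ⊗ₜ (a ⊗ₜ m)) = LinearMap.rTensor M ι (cK (k ⊗ₜ (a ⊗ₜ m)))
        rw [TensorProduct.AlgebraTensorModule.cancelBaseChange_tmul,
          TensorProduct.AlgebraTensorModule.cancelBaseChange_tmul, LinearMap.rTensor_tmul,
          ← ι'.map_smul]
        rfl
  intro x y hxy
  obtain ⟨x', rfl⟩ := cK.surjective x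
  obtain ⟨y', rfl⟩ := cK.surjective y
  rw [← comm, ← comm] at hxy
  rw [h1 (cF.injective hxy)]

end tensor

section killed

variable (I : Ideal A) (M : ModuleCat.{u} A)

/-- Step A: if `Tor_q(M, A/I) = 0` for `1 ≤ q ≤ m` and `A/I ⊗ M` is `A/I`-flat, then
`Tor_p(M, N) = 0` for `1 ≤ p ≤ m` and every `N` killed by `I`. -/
theorem T_of_killed (m : ℕ)
    (hflat : Module.Flat (A ⧸ I) (TensorProduct A (A ⧸ I) M))
    (h3 : ∀ q, 1 ≤ q → q ≤ m → T M q (ModuleCat.of A (A ⧸ I))) :
    ∀ p, 1 ≤ p → p ≤ m → ∀ N : ModuleCat.{u} A, (∀ a ∈ I, ∀ x : N, a • x = 0) → T M p N := by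
  intro p
  induction p with
  | zero => intro h; omega
  | succ p ih =>
    intro _ hpm N hN
    obtain ⟨α, π, hπ, hK⟩ := Groth.Agent.Helper13TorAR.exists_presentation_of_killed I N hN
    let S : ShortComplex (ModuleCat.{u} A) := ShortComplex.mk (kernel.ι π) π (kernel.condition π)
    have hS : S.ShortExact :=
      { exact := ShortComplex.exact_of_f_is_kernel _ (kernelIsKernel π)
        mono_f := inferInstance
        epi_g := hπ }
    have hFq : ∀ q, 1 ≤ q → q ≤ m → T M q (∐ fun _ : α => ModuleCat.of A (A ⧸ I)) :=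
      fun q h1 h2 => T_sigma M q _ (fun _ => h3 q h1 h2)
    have hFk : ∀ a ∈ I, ∀ x : (∐ fun _ : α => ModuleCat.of A (A ⧸ I) : ModuleCat.{u} A),
        a • x = 0 := by
      intro a ha y
      have h0 : (ModuleCat.ofHom (LinearMap.lsmul A _ a) :
          (∐ fun _ : α => ModuleCat.of A (A ⧸ I)) ⟶ (∐ fun _ : α => ModuleCat.of A (A ⧸ I))) = 0 := by
        refine Sigma.hom_ext _ _ (fun x => ?_)
        rw [comp_zero]
        apply ModuleCat.hom_ext
        apply LinearMap.ext
        intro n
        simp only [ModuleCat.hom_comp, LinearMap.comp_apply, ModuleCat.hom_ofHom,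
          ModuleCat.hom_zero, LinearMap.zero_apply]
        show a • (ModuleCat.Hom.hom (Sigma.ι (fun _ : α => ModuleCat.of A (A ⧸ I)) x)) n = 0
        rw [← LinearMap.map_smul]
        have hn : a • n = 0 := by
          obtain ⟨r, rfl⟩ := Submodule.Quotient.mk_surjective _ n
          rw [← Submodule.Quotient.mk_smul, Submodule.Quotient.mk_eq_zero]
          exact I.mul_mem_right _ ha
        rw [hn, map_zero]
      have := congr_arg (fun t => t.hom y) h0
      simp only [ModuleCat.hom_ofHom, ModuleCat.hom_zero, LinearMap.zero_apply] at this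
      exact this
    rcases Nat.eq_zero_or_pos p with hp0 | hp0
    · subst hp0
      have h2 : T M 1 S.X₂ := hFq 1 le_rfl hpm
      refine (isZero_tor_one_iff_lTensor_injective M S hS h2).2 ?_
      exact lTensor_injective_of_killed I M hflat hK hFk (kernel.ι π).hom
        ((ModuleCat.mono_iff_injective _).1 inferInstance)
    · have h2 : T M (p + 1) S.X₂ := hFq (p + 1) (by omega) hpm
      have h1 : T M p S.X₁ := ih (by omega) (by omega) (kernel π) hK
      exact isZero_tor₂_X₃ M S hS p h2 h1

end killed


section pow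

variable (I : Ideal A) (M : ModuleCat.{u} A)

/-- Step B: modules killed by a power of `I`. -/
theorem T_of_killed_pow (m : ℕ)
    (hflat : Module.Flat (A ⧸ I) (TensorProduct A (A ⧸ I) M))
    (h3 : ∀ q, 1 ≤ q → q ≤ m → T M q (ModuleCat.of A (A ⧸ I))) :
    ∀ (n : ℕ) (N : ModuleCat.{u} A), (∀ a ∈ I ^ n, ∀ x : N, a • x = 0) →
      ∀ p, 1 ≤ p → p ≤ m → T M p N := by
  intro n
  induction n with
  | zero =>
    intro N hN p hp _
    have : Subsingleton N := ⟨fun x y => by
      have hx := hN 1 (by simp) x
      have hy := hN 1 (by simp) y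
      rw [one_smul] at hx hy
      rw [hx, hy]⟩
    exact T_of_isZero M p (by omega) (ModuleCat.isZero_of_subsingleton N)
  | succ n ih =>
    intro N hN p hp hpm
    let N' : Submodule A N := I • (⊤ : Submodule A N)
    have hS := Groth.Agent.Helper13Devissage.shortExact_mk (A := A) N'.subtype N'.mkQ
      N'.injective_subtype N'.mkQ_surjective
      (by
        intro y
        constructor
        · intro hy
          exact ⟨⟨y, (Submodule.Quotient.mk_eq_zero N').1 hy⟩, rfl⟩
        · rintro ⟨z, rfl⟩
          exact (Submodule.Quotient.mk_eq_zero N').2 z.2)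
    have h1 : T M p (ModuleCat.of A N') := by
      refine ih (ModuleCat.of A N') ?_ p hp hpm
      intro b hb y
      apply Subtype.ext
      show b • (y : N) = 0
      have hy : (y : N) ∈ I • (⊤ : Submodule A N) := y.2
      refine Submodule.smul_induction_on hy ?_ ?_
      · intro a ha x _
        rw [smul_smul]
        exact hN (b * a) (by rw [pow_succ]; exact Ideal.mul_mem_mul hb ha) x
      · intro x y hx hy
        rw [smul_add, hx, hy, add_zero]
    have h3' : T M p (ModuleCat.of A (N ⧸ N')) := by
      refine T_of_killed I M m hflat h3 p hp hpm (ModuleCat.of A (N ⧸ N')) ?_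
      intro a ha x
      obtain ⟨x, rfl⟩ := Submodule.Quotient.mk_surjective N' x
      show a • Submodule.Quotient.mk x = 0
      rw [← Submodule.Quotient.mk_smul, Submodule.Quotient.mk_eq_zero]
      exact Submodule.smul_mem_smul ha Submodule.mem_top
    exact isZero_tor₂_X₂ M _ hS p h1 h3'

/-- Step C: modules all of whose elements are killed by powers of the generators of `I`. -/
theorem T_of_torsion {r : ℕ} (f : Fin r → A) (hI : I = Ideal.span (Set.range f)) (m : ℕ)
    (hflat : Module.Flat (A ⧸ I) (TensorProduct A (A ⧸ I) M))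
    (h3 : ∀ q, 1 ≤ q → q ≤ m → T M q (ModuleCat.of A (A ⧸ I)))
    (N : ModuleCat.{u} A) (hN : ∀ (x : N) (i : Fin r), ∃ n : ℕ, f i ^ n • x = 0) :
    ∀ p, 1 ≤ p → p ≤ m → T M p N := by
  intro p hp hpm
  refine Groth.Agent.Helper13Devissage.isZero_of_fg ((Tor (ModuleCat.{u} A) p).obj M)
    (fun J _ _ => preservesColimitsOfShape_tor M p J) N ?_
  intro N' hfg
  -- a power of `I` kills `N'`
  have hrad : I ≤ (Module.annihilator A N').radical := by
    rw [hI, Ideal.span_le]
    rintro _ ⟨i, rfl⟩
    obtain ⟨S, hS⟩ := hfg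
    choose e he using fun x : N => hN x i
    refine ⟨∑ s ∈ S, e s, ?_⟩
    rw [Module.mem_annihilator]
    intro y
    apply Subtype.ext
    show f i ^ (∑ s ∈ S, e s) • (y : N) = 0
    have hy : (y : N) ∈ Submodule.span A (S : Set N) := hS ▸ y.2
    refine Submodule.span_induction ?_ ?_ ?_ ?_ hy
    · intro s hs
      have hle : e s ≤ ∑ s ∈ S, e s := Finset.single_le_sum (fun _ _ => Nat.zero_le _) hs
      obtain ⟨k, hk⟩ := Nat.exists_eq_add_of_le hle
      rw [hk, add_comm, pow_add, mul_smul, he s, smul_zero]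
    · exact smul_zero _
    · intro x y _ _ hx hy
      rw [smul_add, hx, hy, add_zero]
    · intro a x _ hx
      rw [smul_comm, hx, smul_zero]
  have hIfg : I.FG := by
    rw [hI]
    exact Submodule.fg_span (Set.finite_range f)
  obtain ⟨n, hn⟩ := Ideal.exists_pow_le_of_le_radical_of_fg hrad hIfg
  refine T_of_killed_pow I M m hflat h3 n (ModuleCat.of A N') ?_ p hp hpm
  intro a ha x
  exact Module.mem_annihilator.1 (hn ha) x

end pow


section loc

variable (M : ModuleCat.{u} A) (f : A)

/-- `Tor_p(M, N_f) = 0` for `p > 0` when `M_f` is flat over `A_f`. -/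
theorem T_localized
    (hflat : Module.Flat (Localization.Away f) (LocalizedModule (Submonoid.powers f) M))
    (N : Type u) [AddCommGroup N] [Module A N] (p : ℕ) (hp : 0 < p) :
    T M p (ModuleCat.of A (LocalizedModule (Submonoid.powers f) N)) := by
  have hTor : ∀ q : ℕ, 0 < q →
      IsZero (((Tor (ModuleCat.{u} A) q).obj M).obj (ModuleCat.of A (Localization.Away f))) :=
    fun q hq => by
      haveI : Module.Flat A (ModuleCat.of A (Localization.Away f)) :=
        inferInstanceAs (Module.Flat A (Localization.Away f))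
      exact isZero_tor_of_flat_right M _ q hq
  obtain ⟨e⟩ := Groth.Agent.Helper13TorBC.nonempty_restrict_tor_iso (Localization.Away f)
    (LocalizedModule (Submonoid.powers f) N) M hTor p
  refine IsZero.of_iso ?_ e.symm
  have hE : Module.Flat (Localization.Away f)
      ((Groth.Agent.Helper13TorBC.E A (Localization.Away f)).obj M) := by
    have e1 := Groth.Agent.S2380.bridge A (Localization.Away f) M
    have e2 : TensorProduct A (Localization.Away f) M ≃ₗ[Localization.Away f]
        LocalizedModule (Submonoid.powers f) M :=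
      (IsLocalizedModule.isBaseChange (Submonoid.powers f) (Localization.Away f)
        (LocalizedModule.mkLinearMap (Submonoid.powers f) M)).equiv
    exact Module.Flat.of_linearEquiv (e1 ≪≫ₗ e2)
  have hz := isZero_tor_of_flat (R := Localization.Away f)
    (ModuleCat.of (Localization.Away f) (LocalizedModule (Submonoid.powers f) N))
    ((Groth.Agent.Helper13TorBC.E A (Localization.Away f)).obj M) p hp
  exact (Groth.Agent.Helper13TorBC.ρ A (Localization.Away f)).map_isZero hz

end loc


section main

variable {r : ℕ} (f : Fin r → A) (M : ModuleCat.{u} A)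

/-- the inductive property: modules which are `f i`-power torsion for `i < s` have vanishing
`Tor_p(M, -)` for `1 ≤ p ≤ s + 1`. -/
def P (s : ℕ) : Prop :=
  ∀ N : ModuleCat.{u} A, (∀ (x : N) (i : Fin r), i.val < s → ∃ n : ℕ, f i ^ n • x = 0) →
    ∀ p, 1 ≤ p → p ≤ s + 1 → T M p N

theorem P_step
    (h1 : ∀ i, Module.Flat (Localization.Away (f i)) (LocalizedModule (Submonoid.powers (f i)) M))
    (s : ℕ) (hs : s < r) (hP : P f M (s + 1)) : P f M s := by
  intro N hN p hp hps
  let g : A := f ⟨s, hs⟩
  let ℓ : N →ₗ[A] LocalizedModule (Submonoid.powers g) N :=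
    LocalizedModule.mkLinearMap (Submonoid.powers g) N
  let K : Submodule A N := LinearMap.ker ℓ
  let R : Submodule A (LocalizedModule (Submonoid.powers g) N) := LinearMap.range ℓ
  have hS1 := Groth.Agent.Helper13Devissage.shortExact_mk (A := A) K.subtype ℓ.rangeRestrict
    K.injective_subtype ℓ.surjective_rangeRestrict
    (by
      intro y
      constructor
      · intro hy
        refine ⟨⟨y, ?_⟩, rfl⟩
        have := congr_arg Subtype.val hy
        exact this
      · rintro ⟨z, rfl⟩
        apply Subtype.ext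
        exact z.2)
  have hS2 := Groth.Agent.Helper13Devissage.shortExact_mk (A := A) R.subtype R.mkQ
    R.injective_subtype R.mkQ_surjective
    (by
      intro y
      constructor
      · intro hy
        exact ⟨⟨y, (Submodule.Quotient.mk_eq_zero R).1 hy⟩, rfl⟩
      · rintro ⟨z, rfl⟩
        exact (Submodule.Quotient.mk_eq_zero R).2 z.2)
  -- torsion of K
  have hK : ∀ (x : (ModuleCat.of A K : ModuleCat.{u} A)) (i : Fin r), i.val < s + 1 →
      ∃ n : ℕ, f i ^ n • x = 0 := by
    intro x i hi
    rcases Nat.lt_succ_iff_lt_or_eq.1 hi with hlt | heq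
    · obtain ⟨n, hn⟩ := hN (x : K).1 i hlt
      exact ⟨n, Subtype.ext hn⟩
    · have hig : f i = g := by
        show f i = f ⟨s, hs⟩
        congr 1
        exact Fin.ext heq
      have hx : ℓ (x : K).1 = 0 := (x : K).2
      obtain ⟨t, ht⟩ := (IsLocalizedModule.eq_zero_iff (Submonoid.powers g) ℓ).1 hx
      obtain ⟨n, hn⟩ := t.2
      refine ⟨n, Subtype.ext ?_⟩
      show f i ^ n • (x : K).1 = 0
      rw [hig]
      have : (t : A) • (x : K).1 = 0 := ht
      rw [← hn] at this
      exact this
  -- torsion of C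
  have hC : ∀ (x : (ModuleCat.of A (LocalizedModule (Submonoid.powers g) N ⧸ R) : ModuleCat.{u} A))
      (i : Fin r), i.val < s + 1 → ∃ n : ℕ, f i ^ n • x = 0 := by
    intro x i hi
    obtain ⟨y, rfl⟩ := Submodule.Quotient.mk_surjective R x
    induction y using LocalizedModule.induction_on with
    | h z t =>
      rcases Nat.lt_succ_iff_lt_or_eq.1 hi with hlt | heq
      · obtain ⟨n, hn⟩ := hN z i hlt
        refine ⟨n, ?_⟩
        show f i ^ n • Submodule.Quotient.mk (LocalizedModule.mk z t) = 0
        rw [← Submodule.Quotient.mk_smul, LocalizedModule.smul'_mk, hn, LocalizedModule.zero_mk,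
          Submodule.Quotient.mk_zero]
      · have hig : f i = g := by
          show f i = f ⟨s, hs⟩
          congr 1
          exact Fin.ext heq
        obtain ⟨n, hn⟩ := t.2
        refine ⟨n, ?_⟩
        show f i ^ n • Submodule.Quotient.mk (LocalizedModule.mk z t) = 0
        rw [← Submodule.Quotient.mk_smul, Submodule.Quotient.mk_eq_zero, hig]
        refine ⟨z, ?_⟩
        show LocalizedModule.mk z 1 = g ^ n • LocalizedModule.mk z t
        have hn' : g ^ n = (t : A) := hn
        rw [hn', LocalizedModule.smul'_mk]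
        exact (LocalizedModule.mk_cancel t z).symm
  have hTloc : T M p (ModuleCat.of A (LocalizedModule (Submonoid.powers g) N)) :=
    T_localized M g (h1 ⟨s, hs⟩) N p (by omega)
  have hTC : T M (p + 1) (ModuleCat.of A (LocalizedModule (Submonoid.powers g) N ⧸ R)) :=
    hP _ hC (p + 1) (by omega) (by omega)
  have hTR : T M p (ModuleCat.of A R) := isZero_tor₂_X₁ M _ hS2 p hTC hTloc
  have hTK : T M p (ModuleCat.of A K) := hP _ hK p hp (by omega)
  exact isZero_tor₂_X₂ M _ hS1 p hTK hTR

theorem P_zero
    (h1 : ∀ i, Module.Flat (Localization.Away (f i)) (LocalizedModule (Submonoid.powers (f i)) M))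
    (h2 : Module.Flat (A ⧸ Ideal.span (Set.range f))
      (TensorProduct A (A ⧸ Ideal.span (Set.range f)) M))
    (h3 : ∀ q, 1 ≤ q → q ≤ r + 1 → T M q (ModuleCat.of A (A ⧸ Ideal.span (Set.range f)))) :
    P f M 0 := by
  have key : ∀ k, k ≤ r → P f M (r - k) := by
    intro k
    induction k with
    | zero =>
      intro _ N hN p hp hpr
      exact T_of_torsion (Ideal.span (Set.range f)) M f rfl (r + 1) h2 h3 N
        (fun x i => hN x i i.2) p hp hpr
    | succ k ih =>
      intro hk
      have h := ih (by omega)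
      have e : r - k = (r - (k + 1)) + 1 := by omega
      rw [e] at h
      exact P_step f M h1 (r - (k + 1)) (by omega) h
  have := key r le_rfl
  rwa [Nat.sub_self] at this

end main

/-- **Flatness criterion.** -/
theorem flat_of_flat_away_of_flat_mod_of_tor {r : ℕ} (f : Fin r → A) (M : Type u)
    [AddCommGroup M] [Module A M]
    (h1 : ∀ i, Module.Flat (Localization.Away (f i)) (LocalizedModule (Submonoid.powers (f i)) M))
    (h2 : Module.Flat (A ⧸ Ideal.span (Set.range f))
      (TensorProduct A (A ⧸ Ideal.span (Set.range f)) M))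
    (h3 : ∀ q : ℕ, 1 ≤ q → q ≤ r + 1 →
      IsZero (((Tor (ModuleCat.{u} A) q).obj (ModuleCat.of A M)).obj
        (ModuleCat.of A (A ⧸ Ideal.span (Set.range f))))) :
    Module.Flat A M := by
  have hP := P_zero f (ModuleCat.of A M) h1 h2 h3
  rw [Module.Flat.iff_lTensor_injective']
  intro J
  have hS := Groth.Agent.Helper13Devissage.shortExact_mk (A := A) J.subtype (Submodule.mkQ J)
    J.injective_subtype (Submodule.mkQ_surjective J)
    (by
      intro y
      constructor
      · intro hy
        exact ⟨⟨y, (Submodule.Quotient.mk_eq_zero J).1 hy⟩, rfl⟩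
      · rintro ⟨z, rfl⟩
        exact (Submodule.Quotient.mk_eq_zero J).2 z.2)
  have h2' : T (ModuleCat.of A M) 1 (ModuleCat.of A A) := by
    haveI : Module.Flat A (ModuleCat.of A A) := inferInstanceAs (Module.Flat A A)
    exact isZero_tor_of_flat_right _ _ 1 (by omega)
  have hT : T (ModuleCat.of A M) 1 (ModuleCat.of A (A ⧸ J)) :=
    hP _ (fun _ i hi => absurd hi (Nat.not_lt_zero _)) 1 le_rfl le_rfl
  exact (isZero_tor_one_iff_lTensor_injective (ModuleCat.of A M) _ hS h2').1 hT

end Groth.Agent.Lib.R2Lead.FlatTor
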