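import Groth.Prelude.Def_Formal2
import Groth.Agent.Lib.R2LeadFormSys1
import Groth.Agent.Lib.H6xMilnorKer
import Groth.Agent.Lib.H6xQcTruncA
import Groth.Agent.Lib.R2H2ExtUnitNat
import Groth.Agent.Lib.Helper23FinTypeLocal

set_option autoImplicit false
set_option linter.style.haveILetI false
universe w w' v u u'
open CategoryTheory CategoryTheory.Limits AlgebraicGeometry Opposite

namespace Groth.Agent.Lib.R2LeadFormSys2

section Abs
open DerivedCategory Abelian
variable {A : Type u'} [Category.{v} A] [Abelian A] [HasExt.{w'} A] [HasDerivedCategory.{w} A]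

theorem milnor_pack (P : A) (F : ℕ → A) (t : ∀ n, F (n + 1) ⟶ F n)
    [HasProduct fun n => (singleFunctor A 0).obj (F n)] (M : A) (π : ∀ n, M ⟶ F n)
    (hπ : ∀ n, π (n + 1) ≫ t n = π n)
    (hL : CohCx.IsRlimVia (fun n => (singleFunctor A 0).obj (F n))
      (fun n => (singleFunctor A 0).map (t n)) ((singleFunctor A 0).obj M)
      (fun n => (singleFunctor A 0).map (π n))) (p : ℕ) :
    ∃ (α : Formal2.limOne (fun n => Ext.{w'} P (F n) p)
          (fun n => (Ext.mk₀ (t n)).postcomp P (add_zero p)) →+ Ext.{w'} P M (p + 1))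
      (β : Ext.{w'} P M (p + 1) →+ Formal2.limZero (fun n => Ext.{w'} P (F n) (p + 1))
          (fun n => (Ext.mk₀ (t n)).postcomp P (add_zero (p + 1)))),
      Function.Injective α ∧ Function.Surjective β ∧ α.range = β.ker ∧
      ∀ (x : Ext.{w'} P M (p + 1)) (n : ℕ), (β x : ∀ n, Ext.{w'} P (F n) (p + 1)) n =
        (Ext.mk₀ (π n)).postcomp P (add_zero (p + 1)) x := by
  obtain ⟨e⟩ := Groth.Agent.Lib.H6xMilnorKer.milnor_ext_ker P F t M π hL (p + 1) p rfl
  have hm := (Groth.Agent.Lib.H6xMilnorTop.milnor_ext P F t M π hL (p + 1) p rfl).1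
  let Pm : Ext.{w'} P M (p + 1) →+ ∀ n, Ext.{w'} P (F n) (p + 1) :=
    AddMonoidHom.pi fun n => (Ext.mk₀ (π n)).postcomp P (add_zero (p + 1))
  have hPm : ∀ x, Pm x ∈ Formal2.limZero (fun n => Ext.{w'} P (F n) (p + 1))
      (fun n => (Ext.mk₀ (t n)).postcomp P (add_zero (p + 1))) := by
    intro x
    rw [AddMonoidHom.mem_ker]
    funext n
    change (Ext.mk₀ (π n)).postcomp P (add_zero (p + 1)) x -
      (Ext.mk₀ (t n)).postcomp P (add_zero (p + 1))
        ((Ext.mk₀ (π (n + 1))).postcomp P (add_zero (p + 1)) x) = 0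
    rw [sub_eq_zero]
    change x.comp (Ext.mk₀ (π n)) (add_zero (p + 1)) =
      (x.comp (Ext.mk₀ (π (n + 1))) (add_zero (p + 1))).comp (Ext.mk₀ (t n)) (add_zero (p + 1))
    rw [Ext.comp_assoc_of_third_deg_zero, Ext.mk₀_comp_mk₀, hπ]
  let β := Pm.codRestrict (Formal2.limZero (fun n => Ext.{w'} P (F n) (p + 1))
      (fun n => (Ext.mk₀ (t n)).postcomp P (add_zero (p + 1)))) hPm
  let α : Formal2.limOne (fun n => Ext.{w'} P (F n) p)
          (fun n => (Ext.mk₀ (t n)).postcomp P (add_zero p)) →+ Ext.{w'} P M (p + 1) :=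
    (AddSubgroup.subtype _).comp e.symm.toAddMonoidHom
  refine ⟨α, β, ?_, ?_, ?_, fun x n => rfl⟩
  · exact Subtype.val_injective.comp e.symm.injective
  · rintro ⟨y, hy⟩
    rw [AddMonoidHom.mem_ker] at hy
    obtain ⟨η, hη⟩ := hm y (fun n => by
      have := congrFun hy n
      change y n - _ = 0 at this
      exact (sub_eq_zero.1 this).symm)
    exact ⟨η, Subtype.ext (funext hη)⟩
  · ext x
    constructor
    · rintro ⟨z, rfl⟩
      rw [AddMonoidHom.mem_ker]
      apply Subtype.ext
      exact (e.symm z).2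
    · intro hx
      rw [AddMonoidHom.mem_ker] at hx
      have h0 : Pm x = 0 := congrArg Subtype.val hx
      refine ⟨e ⟨x, h0⟩, ?_⟩
      change ((e.symm (e ⟨x, h0⟩)) : Ext.{w'} P M (p + 1)) = x
      rw [AddEquiv.symm_apply_apply]

end Abs

section Sch
open DerivedCategory Abelian TopologicalSpace Groth.Agent.Lib.R2LeadFormSys1
  Groth.Agent.Lib.Helper17.Hyp

variable {X : Scheme.{u}}

theorem milnor_formal {A : Type u} [CommRing A] (I : Ideal A) [X.Over (Spec (CommRingCat.of A))]
    (G : ℕᵒᵖ ⥤ X.Modules) (hG : Formal2.IsQCohFormal I G) (p : ℕ) :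
    ∃ (α : Formal2.limOne (fun n => Coh.HH X (G.obj (op n)) p) (Formal2.HHsysMap G p) →+
        Coh.HH X (limit G) (p + 1))
      (β : Coh.HH X (limit G) (p + 1) →+
        Formal2.limZero (fun n => Coh.HH X (G.obj (op n)) (p + 1)) (Formal2.HHsysMap G (p + 1))),
      Function.Injective α ∧ Function.Surjective β ∧ α.range = β.ker ∧
      ∀ (x : Coh.HH X (limit G) (p + 1)) (n : ℕ),
        (β x : ∀ n, Coh.HH X (G.obj (op n)) (p + 1)) n =
          Sheaf.H.map ((SheafOfModules.toSheaf _).map (limit.π G (op n))) (p + 1) x := by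
  letI : HasDerivedCategory.{u} (Sheaf (Opens.grothendieckTopology X) AddCommGrpCat.{u}) :=
    Groth.Agent.Lib.Helper17.DBrown.hasDerivedCategorySmall _
  haveI := Groth.Agent.Lib.H6xDerLim.hasLimitsOfShape_nat (J := Opens.grothendieckTopology X)
  let T : X.Modules ⥤ Sheaf (Opens.grothendieckTopology X) AddCommGrpCat.{u} :=
    SheafOfModules.toSheaf X.ringCatSheaf
  let F : ℕᵒᵖ ⥤ Sheaf (Opens.grothendieckTopology X) AddCommGrpCat.{u} := G ⋙ T
  have hL0 := Groth.Agent.Lib.H6xMilnorKer.isRlimVia_limit_top (X := X.carrier) F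
    {V : X.Opens | IsAffineOpen V} X.isBasis_affineOpens
    (fun U hU k i hi => by
      haveI : (G.obj (op k)).IsQuasicoherent := hG.1 k
      exact Groth.Agent.Lib.H6xQcTrunc.subsingleton_HU_of_affine U hU (G.obj (op k)) i hi)
    (fun U hU k => by
      haveI : (G.obj (op (k + 1))).IsQuasicoherent := hG.1 (k + 1)
      haveI : (G.obj (op k)).IsQuasicoherent := hG.1 k
      haveI := epi_tr I G hG k
      exact Groth.Agent.Lib.Helper23.FinType.surjective_app_of_epi (tr G k) hU)
  haveI : PreservesLimitsOfSize.{0, 0} T :=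
    (Groth.Agent.Lib.Helper21.FreeAb.freeShRAdj X.ringCatSheaf).rightAdjoint_preservesLimits
  let L : X.Modules := limit G
  let e : T.obj L ≅ limit F := preservesLimitIso T G
  have hL := isRlimVia_of_iso hL0
    ((singleFunctor (Sheaf (Opens.grothendieckTopology X) AddCommGrpCat.{u}) 0).map e.hom)
    (fun n => (singleFunctor (Sheaf (Opens.grothendieckTopology X) AddCommGrpCat.{u}) 0).map
      (T.map (limit.π G (op n))))
    (fun n => by
      rw [← Functor.map_comp]
      exact congrArg _ (preservesLimitIso_hom_π T G (op n)))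
  exact milnor_pack.{u, u}
    ((constantSheaf (Opens.grothendieckTopology X) AddCommGrpCat.{u}).obj
      (AddCommGrpCat.of (ULift.{u} ℤ)))
    (fun n => F.obj (op n)) (fun n => F.map (homOfLE (Nat.le_succ n)).op)
    (T.obj L) (fun n => T.map (limit.π G (op n)))
    (fun n => by
      change T.map _ ≫ T.map _ = _
      rw [← Functor.map_comp, limit.w]) hL p

end Sch

end Groth.Agent.Lib.R2LeadFormSys2
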