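import Mathlib

/-!
# A filtered completeness lemma (lead)

`L` a module with a decreasing filtration `N m`, complete and separated for it, with
`𝔟^(m+1) L ≤ N m ≤ 𝔟^(m+1) L + N (m+1)` and `𝔟` finitely generated.  Then `N n = 𝔟^(n+1) L`.
-/

set_option autoImplicit false
universe u v

namespace Groth.Agent.Lib.R2LeadFormSys3a

open Submodule

variable {B : Type u} [CommRing B] {L : Type v} [AddCommGroup L] [Module B L]

/-- the map `(y_l) ↦ ∑ a_l y_l` -/
noncomputable def Phi {k : ℕ} (a : Fin k → B) : (Fin k → L) →ₗ[B] L :=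
  LinearMap.lsum B (fun _ => L) B (fun l => a l • LinearMap.id)

lemma Phi_apply {k : ℕ} (a : Fin k → B) (y : Fin k → L) : Phi a y = ∑ l, a l • y l := by
  simp [Phi, LinearMap.lsum_apply]

lemma Phi_mem {k : ℕ} (a : Fin k → B) (P : Submodule B L) (y : Fin k → L) (hy : ∀ l, y l ∈ P) :
    Phi a y ∈ P := by
  rw [Phi_apply]
  exact Submodule.sum_mem _ (fun l _ => P.smul_mem _ (hy l))

/-- elements of `span(a) • P` are of the form `∑ a_l v_l` with `v_l ∈ P`. -/
lemma exists_of_mem_span_smul {k : ℕ} (a : Fin k → B) (P : Submodule B L) (z : L)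
    (hz : z ∈ (Ideal.span (Set.range a)) • P) :
    ∃ v : Fin k → L, (∀ l, v l ∈ P) ∧ Phi a v = z := by
  have key : (Ideal.span (Set.range a)) • P ≤
      Submodule.map (Phi a) (Submodule.pi Set.univ (fun _ : Fin k => P)) := by
    rw [Submodule.smul_le]
    intro r hr p hp
    obtain ⟨c, rfl⟩ := (Submodule.mem_span_range_iff_exists_fun B).1 hr
    refine ⟨fun l => c l • p, ?_, ?_⟩
    · intro l _
      exact P.smul_mem _ hp
    · rw [Phi_apply, Finset.sum_smul]
      refine Finset.sum_congr rfl (fun l _ => ?_)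
      rw [smul_eq_mul, mul_smul, smul_comm]
  obtain ⟨v, hv, rfl⟩ := key hz
  exact ⟨v, fun l => hv l (Set.mem_univ l), rfl⟩

theorem le_pow_smul_top (𝔟 : Ideal B) (h𝔟 : 𝔟.FG) (N : ℕ → Submodule B L)
    (h0 : ∀ m, N (m + 1) ≤ N m)
    (h1 : ∀ m, 𝔟 ^ (m + 1) • (⊤ : Submodule B L) ≤ N m)
    (h2 : ∀ m, N m ≤ 𝔟 ^ (m + 1) • (⊤ : Submodule B L) ⊔ N (m + 1))
    (h3 : ∀ u : ℕ → L, (∀ r, u (r + 1) - u r ∈ N r) → ∃ x, ∀ r, x - u r ∈ N r)
    (h4 : ∀ x : L, (∀ r, x ∈ N r) → x = 0) (n : ℕ) :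
    N n ≤ 𝔟 ^ (n + 1) • (⊤ : Submodule B L) := by
  classical
  intro x hx
  -- generators of `𝔟^(n+1)`
  obtain ⟨S, hS⟩ := Ideal.FG.pow (n := n + 1) h𝔟
  obtain ⟨k, a, ha⟩ : ∃ (k : ℕ) (a : Fin k → B), Ideal.span (Set.range a) = 𝔟 ^ (n + 1) := by
    refine ⟨S.card, fun i => (S.equivFin.symm i : B), ?_⟩
    rw [← hS]
    congr 1
    ext b
    constructor
    · rintro ⟨i, rfl⟩
      exact (S.equivFin.symm i).2
    · intro hb
      exact ⟨S.equivFin ⟨b, hb⟩, by simp⟩
  have hanti : ∀ m m', m ≤ m' → N m' ≤ N m := by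
    intro m m' hmm
    obtain ⟨r, rfl⟩ := Nat.exists_eq_add_of_le hmm
    induction r with
    | zero => exact le_rfl
    | succ r ih => exact (h0 (m + r)).trans (ih (Nat.le_add_right m r))
  -- the step
  have step : ∀ (i : ℕ) (z : L), z ∈ N (n + i) →
      ∃ v : Fin k → L, (∀ l, v l ∈ 𝔟 ^ i • (⊤ : Submodule B L)) ∧ z - Phi a v ∈ N (n + i + 1) := by
    intro i z hz
    obtain ⟨j, hj, z', hz', hjz⟩ := Submodule.mem_sup.1 (h2 (n + i) hz)
    have hj' : j ∈ (Ideal.span (Set.range a)) • (𝔟 ^ i • (⊤ : Submodule B L)) := by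
      rw [ha, ← Submodule.mul_smul, ← pow_add]
      have : n + 1 + i = n + i + 1 := by omega
      rw [this]
      exact hj
    obtain ⟨v, hv, hvj⟩ := exists_of_mem_span_smul a _ j hj'
    refine ⟨v, hv, ?_⟩
    rw [hvj, ← hjz, add_sub_cancel_left]
    exact hz'
  -- the recursion
  let X : (i : ℕ) → {z : L // z ∈ N (n + i)} := fun i =>
    Nat.rec (motive := fun i => {z : L // z ∈ N (n + i)}) ⟨x, hx⟩
      (fun i z => ⟨z.1 - Phi a (Classical.choose (step i z.1 z.2)),
        (Classical.choose_spec (step i z.1 z.2)).2⟩) i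
  let v : ℕ → (Fin k → L) := fun i => Classical.choose (step i (X i).1 (X i).2)
  have hv : ∀ i l, v i l ∈ 𝔟 ^ i • (⊤ : Submodule B L) := fun i =>
    (Classical.choose_spec (step i (X i).1 (X i).2)).1
  have hX0 : (X 0).1 = x := rfl
  have hXs : ∀ i, (X (i + 1)).1 = (X i).1 - Phi a (v i) := fun i => rfl
  -- partial sums
  let V : ℕ → (Fin k → L) := fun r => ∑ i ∈ Finset.range r, v i
  have hV : ∀ r, Phi a (V r) = x - (X r).1 := by
    intro r
    induction r with
    | zero => simp [V, hX0]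
    | succ r ih =>
      have : V (r + 1) = V r + v r := Finset.sum_range_succ _ _
      rw [this, map_add, ih, hXs]
      abel
  -- the limit of the partial sums, componentwise
  have hy : ∀ l : Fin k, ∃ y : L, ∀ r, y - V (r + 1) l ∈ N r := by
    intro l
    refine h3 (fun r => V (r + 1) l) (fun r => ?_)
    have : V (r + 1 + 1) l - V (r + 1) l = v (r + 1) l := by
      have : V (r + 1 + 1) = V (r + 1) + v (r + 1) := Finset.sum_range_succ _ _
      rw [this]
      simp
    rw [this]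
    exact h1 r (hv (r + 1) l)
  choose y hy using hy
  have hfin : x = Phi a y := by
    have : Phi a y - x = 0 := by
      apply h4
      intro r
      have e : Phi a y - x = Phi a (fun l => y l - V (r + 1) l) - (X (r + 1)).1 := by
        have : (fun l => y l - V (r + 1) l) = y - V (r + 1) := rfl
        rw [this, map_sub, hV]
        abel
      rw [e]
      refine (N r).sub_mem (Phi_mem a (N r) _ (fun l => hy l r)) ?_
      exact hanti r (n + (r + 1)) (by omega) (X (r + 1)).2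
    exact (sub_eq_zero.1 this).symm
  rw [hfin, ← ha]
  rw [Phi_apply]
  refine Submodule.sum_mem _ (fun l _ => ?_)
  exact Submodule.smul_mem_smul (Ideal.subset_span ⟨l, rfl⟩) Submodule.mem_top

/-- the tower version -/
theorem ker_le_pow_smul_top {M : ℕ → Type v} [∀ m, AddCommGroup (M m)] [∀ m, Module B (M m)]
    (𝔟 : Ideal B) (h𝔟 : 𝔟.FG) (pr : ∀ m, L →ₗ[B] M m) (t : ∀ m, M (m + 1) →ₗ[B] M m)
    (hc : ∀ m x, t m (pr (m + 1) x) = pr m x)
    (hext : ∀ x : L, (∀ m, pr m x = 0) → x = 0)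
    (hex : ∀ y : ∀ m, M m, (∀ m, t m (y (m + 1)) = y m) → ∃ x : L, ∀ m, pr m x = y m)
    (hsurj : ∀ m, Function.Surjective (pr m))
    (hker : ∀ m, LinearMap.ker (t m) ≤ 𝔟 ^ (m + 1) • (⊤ : Submodule B (M (m + 1))))
    (hkill : ∀ m, ∀ b ∈ 𝔟 ^ (m + 1), ∀ y : M m, b • y = 0) (n : ℕ) :
    LinearMap.ker (pr n) ≤ 𝔟 ^ (n + 1) • (⊤ : Submodule B L) := by
  refine le_pow_smul_top 𝔟 h𝔟 (fun m => LinearMap.ker (pr m)) ?_ ?_ ?_ ?_ ?_ n
  · intro m x hx
    rw [LinearMap.mem_ker] at hx ⊢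
    rw [← hc, hx, map_zero]
  · intro m
    rw [Submodule.smul_le]
    intro b hb x _
    rw [LinearMap.mem_ker, map_smul]
    exact hkill m b hb _
  · intro m x hx
    rw [LinearMap.mem_ker] at hx
    have h1 : pr (m + 1) x ∈ LinearMap.ker (t m) := by
      rw [LinearMap.mem_ker, hc, hx]
    have h2 : pr (m + 1) x ∈ Submodule.map (pr (m + 1)) (𝔟 ^ (m + 1) • (⊤ : Submodule B L)) := by
      rw [Submodule.map_smul'', Submodule.map_top, LinearMap.range_eq_top.2 (hsurj (m + 1))]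
      exact hker m h1
    obtain ⟨w, hw, hwx⟩ := h2
    refine Submodule.mem_sup.2 ⟨w, hw, x - w, ?_, by abel⟩
    rw [LinearMap.mem_ker, map_sub, hwx, sub_self]
  · intro u hu
    obtain ⟨x, hx⟩ := hex (fun r => pr r (u r)) (fun r => by
      have := hu r
      rw [LinearMap.mem_ker, map_sub, sub_eq_zero] at this
      rw [hc, this])
    refine ⟨x, fun r => ?_⟩
    rw [LinearMap.mem_ker, map_sub, hx, sub_self]
  · intro x hx
    exact hext x (fun m => LinearMap.mem_ker.1 (hx m))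

end Groth.Agent.Lib.R2LeadFormSys3a
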