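import Mathlib
import Groth.Prelude.Def_Desc
import Groth.Agent.Lib.H5bDDGenA

set_option autoImplicit false
universe u

namespace Groth.Agent.Lib.R2LeadFpqcCov

open CategoryTheory CategoryTheory.Limits AlgebraicGeometry Groth.Agent.Lib.H5bDDGen

/-- a single morphism that is an fpqc covering (not necessarily quasi-compact). -/
def IsFpqcCov {X S : Scheme.{u}} (p : X ⟶ S) : Prop :=
  Presieve.ofArrows (fun _ : PUnit.{u + 1} => X) (fun _ => p) ∈ Scheme.fpqcPrecoverage S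

variable {X S : Scheme.{u}} {p : X ⟶ S}

lemma IsFpqcCov.of_isPullback {X' S' : Scheme.{u}} {a : X' ⟶ X} {p' : X' ⟶ S'} {b : S' ⟶ S}
    (sq : IsPullback a p' p b) (hp : IsFpqcCov p) : IsFpqcCov p' :=
  Precoverage.mem_coverings_of_isPullback (fun _ : PUnit.{u + 1} => p) hp b (fun _ => p')
    (fun _ => a) (fun _ => sq.flip)

lemma IsFpqcCov.flat (hp : IsFpqcCov p) : Flat p := by
  have hg2 : Presieve.ofArrows (fun _ : PUnit.{u + 1} => X) (fun _ => p) ∈
    Scheme.precoverage @Flat S := hp.2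
  rw [Scheme.ofArrows_mem_precoverage_iff] at hg2
  exact hg2.2 PUnit.unit

lemma IsFpqcCov.surjective (hp : IsFpqcCov p) : Surjective p := by
  have hg2 : Presieve.ofArrows (fun _ : PUnit.{u + 1} => X) (fun _ => p) ∈
    Scheme.precoverage @Flat S := hp.2
  rw [Scheme.ofArrows_mem_precoverage_iff] at hg2
  exact ⟨fun s => by obtain ⟨_, hx⟩ := hg2.1 s; exact hx⟩

lemma IsFpqcCov.exists_compact (hp : IsFpqcCov p) (V : S.Opens) (hV : IsCompact (V : Set S)) :
    ∃ X₀ : X.Opens, IsCompact (X₀ : Set X) ∧ p '' (X₀ : Set X) = (V : Set S) := by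
  have hg1 : Presieve.ofArrows (fun _ : PUnit.{u + 1} => X) (fun _ => p) ∈
    Scheme.qcPrecoverage S := hp.1
  let E : PreZeroHypercover.{u} S := ⟨PUnit.{u + 1}, fun _ => X, fun _ => p⟩
  have hE : QuasiCompactCover E := Scheme.presieve₀_mem_qcPrecoverage_iff.mp hg1
  obtain ⟨n, f, W, hW, hWU⟩ := QuasiCompactCover.exists_isAffineOpen_of_isCompact E (U := V) hV
  let W' : Fin n → X.Opens := fun k => W k
  have hW' : ∀ k, IsAffineOpen (W' k) := hW
  have hWU' : ⋃ k, p '' (W' k : Set X) = (V : Set S) := hWU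
  refine ⟨⨆ k : Fin n, W' k, ?_, ?_⟩
  · rw [TopologicalSpace.Opens.coe_iSup]
    exact isCompact_iUnion fun k => (hW' k).isCompact
  · rw [TopologicalSpace.Opens.coe_iSup, Set.image_iUnion]
    exact hWU'

lemma IsFpqcCov.effectiveEpi (hp : IsFpqcCov p) : EffectiveEpi p := by
  rw [← Sieve.effectiveEpimorphic_singleton, Presieve.EffectiveEpimorphic,
    Sieve.EffectiveEpimorphic.iff_forall_isSheafFor_yoneda]
  intro W
  have hmem : Sieve.generate (Presieve.singleton p) ∈ Scheme.fpqcTopology S := by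
    apply Precoverage.generate_mem_toGrothendieck
    have := hp
    rw [IsFpqcCov, Presieve.ofArrows_pUnit] at this
    exact this
  exact (GrothendieckTopology.Subcanonical.isSheaf_of_isRepresentable (J := Scheme.fpqcTopology)
    (yoneda.obj W)) _ hmem

/-- local domination of an fpqc covering by a quasi-compact one. -/
lemma IsFpqcCov.exists_qc (hp : IsFpqcCov p) (V : S.Opens) (hV : IsAffineOpen V) :
    ∃ (X₀ : X.Opens) (hle : X₀ ≤ p ⁻¹ᵁ V), Surjective (p.resLE V X₀ hle) ∧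
      Flat (p.resLE V X₀ hle) ∧ QuasiCompact (p.resLE V X₀ hle) := by
  obtain ⟨X₀, hc, himg⟩ := hp.exists_compact V hV.isCompact
  have hle : X₀ ≤ p ⁻¹ᵁ V := by
    intro x hx
    change p x ∈ (V : Set S)
    rw [← himg]
    exact ⟨x, hx, rfl⟩
  haveI := hp.flat
  refine ⟨X₀, hle, ⟨fun s => ?_⟩, inferInstance, ?_⟩
  · obtain ⟨x, hx, hxs⟩ : s.1 ∈ p '' (X₀ : Set X) := by rw [himg]; exact s.2
    refine ⟨⟨x, hx⟩, Subtype.ext ?_⟩
    rw [Scheme.Hom.coe_resLE_apply]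
    exact hxs
  · haveI : CompactSpace ↥(X₀ : Scheme.{u}) := isCompact_iff_compactSpace.mp hc
    haveI : IsAffine (V : Scheme.{u}) := hV
    exact quasiCompact_of_compactSpace _

/-- descent of a Zariski-local property along an fpqc covering from descent along quasi-compact
ones. -/
theorem IsFpqcCov.descends (hp : IsFpqcCov p) (Q : MorphismProperty Scheme.{u})
    [IsZariskiLocalAtTarget Q] [Q.IsStableUnderBaseChange]
    [Q.DescendsAlong (@Surjective ⊓ @Flat ⊓ @QuasiCompact : MorphismProperty Scheme.{u})]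
    {Y P : Scheme.{u}} {g : Y ⟶ S} {fst : P ⟶ X} {snd : P ⟶ Y} (H : IsPullback fst snd p g)
    (hfst : Q fst) : Q g := by
  refine IsZariskiLocalAtTarget.of_iSup_eq_top (fun V : S.affineOpens => (V : S.Opens))
    (iSup_affineOpens_eq_top S) fun V => ?_
  obtain ⟨X₀, hle, h1, h2, h3⟩ := hp.exists_qc V.1 V.2
  let p₀ := p.resLE V.1 X₀ hle
  have hp₀ : p₀ ≫ V.1.ι = X₀.ι ≫ p := Scheme.Hom.resLE_comp_ι _ _
  let fst' := pullback.fst p₀ (g ∣_ V.1)
  let snd' := pullback.snd p₀ (g ∣_ V.1)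
  have H1 : IsPullback fst' snd' p₀ (g ∣_ V.1) := IsPullback.of_hasPullback _ _
  have H2 : IsPullback (g ⁻¹ᵁ V.1).ι (g ∣_ V.1) g V.1.ι := (isPullback_morphismRestrict g V.1).flip
  have big : IsPullback (snd' ≫ (g ⁻¹ᵁ V.1).ι) fst' g (p₀ ≫ V.1.ι) := H1.flip.paste_horiz H2
  rw [hp₀] at big
  let l : pullback p₀ (g ∣_ V.1) ⟶ P := H.lift (fst' ≫ X₀.ι) (snd' ≫ (g ⁻¹ᵁ V.1).ι) (by
    rw [Category.assoc, ← big.w])
  have hl1 : l ≫ fst = fst' ≫ X₀.ι := H.lift_fst _ _ _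
  have hl2 : l ≫ snd = snd' ≫ (g ⁻¹ᵁ V.1).ι := H.lift_snd _ _ _
  rw [← hl2] at big
  have left : IsPullback l fst' fst X₀.ι := IsPullback.of_right big hl1 H.flip
  have hQ : Q fst' := Q.of_isPullback left hfst
  exact MorphismProperty.of_isPullback_of_descendsAlong (P := Q)
    (Q := (@Surjective ⊓ @Flat ⊓ @QuasiCompact : MorphismProperty Scheme.{u})) H1
    ⟨⟨h1, h2⟩, h3⟩ hQ

lemma IsFpqcCov.isQuotientMap (hp : IsFpqcCov p) : Topology.IsQuotientMap p := by
  haveI := hp.surjective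
  rw [Topology.isQuotientMap_iff]
  refine ⟨.of_isOpen_preimage_iff_isOpen fun A =>
    ⟨fun hA => ?_, fun hA => hA.preimage p.continuous⟩, p.surjective⟩
  ·
    rw [isOpen_iff_forall_mem_open]
    intro s hs
    obtain ⟨_, ⟨V₀, hV₀, rfl⟩, hsV, -⟩ :=
      S.isBasis_affineOpens.exists_subset_of_mem_open (Set.mem_univ s) isOpen_univ
    obtain ⟨V, rfl⟩ : ∃ V : S.Opens, V = V₀ := ⟨V₀, rfl⟩
    have hV : IsAffineOpen V := hV₀
    obtain ⟨X₀, hle, h1, h2, h3⟩ := hp.exists_qc V hV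
    have hq : Topology.IsQuotientMap (p.resLE V X₀ hle) := Flat.isQuotientMap_of_surjective _
    have hp₀ : p.resLE V X₀ hle ≫ V.ι = X₀.ι ≫ p := Scheme.Hom.resLE_comp_ι _ _
    have hopen : IsOpen ((p.resLE V X₀ hle) ⁻¹' (V.ι ⁻¹' A)) := by
      have : (p.resLE V X₀ hle) ⁻¹' (V.ι ⁻¹' A) = X₀.ι ⁻¹' (p ⁻¹' A) := by
        ext x
        simp only [Set.mem_preimage]
        rw [← Scheme.Hom.comp_apply, ← Scheme.Hom.comp_apply, hp₀]
      rw [this]
      exact hA.preimage X₀.ι.continuous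
    have hAV : IsOpen (V.ι ⁻¹' A) := hq.isOpen_preimage.mp hopen
    refine ⟨V.ι '' (V.ι ⁻¹' A), ?_, V.ι.isOpenEmbedding.isOpenMap _ hAV, ⟨⟨s, hsV⟩, hs, rfl⟩⟩
    rintro _ ⟨x, hx, rfl⟩
    exact hx

theorem IsFpqcCov.goodEpi (hp : IsFpqcCov p) : GoodEpi p where
  effectiveEpi := hp.effectiveEpi
  quotient := hp.isQuotientMap
  descIso := fun sq h => hp.descends (MorphismProperty.isomorphisms Scheme.{u}) sq h
  descOpen := fun sq h => hp.descends @IsOpenImmersion sq h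

theorem IsFpqcCov.uGood (hp : IsFpqcCov p) : UGood p :=
  fun _ _ _ _ _ sq => (hp.of_isPullback sq).goodEpi

theorem IsFpqcCov.isDescCover (hp : IsFpqcCov p) : IsDescCover p := ⟨hp.uGood⟩

end Groth.Agent.Lib.R2LeadFpqcCov
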