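import Mathlib
import Groth.Prelude.Def_Disc
import Groth.Prelude.Def_CAlg
import Groth.Agent.Lib.Helper5GorArt
import Groth.Agent.S0345

/-!
# Finite-dimensional commutative algebras over a field: Gorenstein iff Frobenius (lead)

For a field `κ` and a finite-dimensional commutative `κ`-algebra `C`, with
`ω = Disc.Omega κ C = Hom_κ(C, κ)`:

* `omega_baer`: `ω` is an injective `C`-module (Baer's criterion).
* `bijective_of_injective`: if `c ↦ c • μ` is injective for some `μ : ω`, it is bijective.
* `gor_of_exists`: if such a `μ` exists, `C` is a Gorenstein ring.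
* `exists_of_gor`: conversely, a Gorenstein `C` admits such a `μ`.
-/

set_option autoImplicit false
universe u

namespace Groth.Agent.Lib.R2LeadFrobAlg
open Groth.Agent.Lib.Helper5.GorArt IsLocalRing CategoryTheory

variable {κ C : Type u} [Field κ] [CommRing C] [Algebra κ C]

/-- `Hom_κ(C, κ)` satisfies Baer's criterion over `C`. -/
theorem omega_baer : Module.Baer C (Disc.Omega κ C) := by
  intro I g
  let g0 : ↥(I.restrictScalars κ) →ₗ[κ] κ :=
    { toFun := fun x => (g ⟨x.1, x.2⟩).toLinearMap 1
      map_add' := fun x y => by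
        have : (⟨(x + y).1, (x + y).2⟩ : I) = ⟨x.1, x.2⟩ + ⟨y.1, y.2⟩ := rfl
        rw [this, map_add, Disc.Omega.add_toLinearMap, LinearMap.add_apply]
      map_smul' := fun k x => by
        have : (⟨(k • x).1, (k • x).2⟩ : I) = (algebraMap κ C k) • (⟨x.1, x.2⟩ : I) := by
          apply Subtype.ext
          show k • x.1 = algebraMap κ C k • x.1
          rw [Algebra.smul_def, smul_eq_mul]
        rw [this, map_smul, Disc.Omega.smul_toLinearMap_apply, mul_one, RingHom.id_apply,
          ← mul_one (algebraMap κ C k), ← Algebra.smul_def, map_smul] }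
  obtain ⟨G0, hG0⟩ := LinearMap.exists_extend g0
  refine ⟨LinearMap.toSpanSingleton C (Disc.Omega κ C) ⟨G0⟩, fun x hx => ?_⟩
  rw [LinearMap.toSpanSingleton_apply]
  apply Disc.Omega.ext
  apply LinearMap.ext
  intro y
  rw [Disc.Omega.smul_toLinearMap_apply]
  have hxy : x * y ∈ I := I.mul_mem_right y hx
  have h1 : G0 (x * y) = g0 ⟨x * y, hxy⟩ := by
    rw [← hG0]
    rfl
  rw [h1]
  show (g ⟨x * y, hxy⟩).toLinearMap 1 = _
  have h2 : (⟨x * y, hxy⟩ : I) = y • (⟨x, hx⟩ : I) := by
    apply Subtype.ext
    show x * y = y • x
    rw [smul_eq_mul, mul_comm]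
  rw [h2, map_smul, Disc.Omega.smul_toLinearMap_apply, mul_one]

variable [Module.Finite κ C]

/-- If `c ↦ c • μ` is injective then it is bijective (dimension count). -/
theorem bijective_of_injective (μ : Disc.Omega κ C)
    (h : Function.Injective (fun c : C => c • μ)) : Function.Bijective (fun c : C => c • μ) := by
  refine ⟨h, ?_⟩
  let L : C →ₗ[κ] Module.Dual κ C :=
    { toFun := fun c => (c • μ).toLinearMap
      map_add' := fun c d => by rw [add_smul, Disc.Omega.add_toLinearMap]
      map_smul' := fun k c => by
        apply LinearMap.ext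
        intro y
        rw [RingHom.id_apply, LinearMap.smul_apply, Disc.Omega.smul_toLinearMap_apply,
          Disc.Omega.smul_toLinearMap_apply, smul_mul_assoc, map_smul] }
  have hL : Function.Injective L := fun c d hcd => h (Disc.Omega.toLinearMap_injective hcd)
  have hfr : Module.finrank κ C = Module.finrank κ (Module.Dual κ C) :=
    (Subspace.dual_finrank_eq).symm
  have hsurj : Function.Surjective L :=
    (LinearMap.injective_iff_surjective_of_finrank_eq_finrank hfr).mp hL
  intro ψ
  obtain ⟨c, hc⟩ := hsurj ψ.toLinearMap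
  exact ⟨c, Disc.Omega.toLinearMap_injective hc⟩

/-- A finite-dimensional algebra with a Frobenius form is Gorenstein. -/
theorem gor_of_exists (h : ∃ μ : Disc.Omega κ C, Function.Injective (fun c : C => c • μ)) :
    LocCoh.IsGorensteinRing C := by
  obtain ⟨μ, hμ⟩ := h
  have hb := bijective_of_injective μ hμ
  let e : C ≃ₗ[C] Disc.Omega κ C :=
    LinearEquiv.ofBijective (LinearMap.toSpanSingleton C (Disc.Omega κ C) μ) hb
  have hB : Module.Baer C C := Module.Baer.of_equiv e.symm omega_baer
  haveI : Module.Injective C C := hB.injective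
  haveI : IsNoetherianRing C := IsNoetherianRing.of_finite κ C
  have hobj : CategoryTheory.Injective (ModuleCat.of C C) :=
    Module.injective_object_of_injective_module C C
  exact ((Groth.Agent.S0345.result C).mp
    ⟨1, injective_iff_hasInjectiveDimensionLT_one.mp hobj⟩).1

/-- A finite-dimensional Gorenstein algebra has a Frobenius form. -/
theorem exists_of_gor (hG : LocCoh.IsGorensteinRing C) :
    ∃ μ : Disc.Omega κ C, Function.Injective (fun c : C => c • μ) := by
  classical
  haveI : IsArtinianRing C := IsArtinianRing.of_finite κ C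
  haveI : Finite (PrimeSpectrum C) := inferInstance
  letI := Fintype.ofFinite (PrimeSpectrum C)
  have hT : ∀ m : PrimeSpectrum C, T1 (Localization.AtPrime m.asIdeal) := fun m => by
    haveI := hG.isGorensteinLocalRing_localization m.asIdeal
    exact T1_of_gor _
  choose s hs0 hs using hT
  have hlam : ∀ m : PrimeSpectrum C, ∃ l : Localization.AtPrime m.asIdeal →ₗ[κ] κ, l (s m) ≠ 0 := by
    intro m
    by_contra hcon
    push_neg at hcon
    exact hs0 m ((Module.forall_dual_apply_eq_zero_iff κ (s m)).mp hcon)
  choose l hl using hlam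
  let μ0 : C →ₗ[κ] κ := ∑ m : PrimeSpectrum C,
    (l m) ∘ₗ (Algebra.linearMap C (Localization.AtPrime m.asIdeal)).restrictScalars κ
  have hμ0 : ∀ x : C, μ0 x = ∑ m : PrimeSpectrum C,
      l m (algebraMap C (Localization.AtPrime m.asIdeal) x) := by
    intro x
    simp only [μ0, LinearMap.sum_apply, LinearMap.comp_apply, LinearMap.restrictScalars_apply,
      Algebra.linearMap_apply]
  refine ⟨⟨μ0⟩, ?_⟩
  have key : ∀ d : C, d • (⟨μ0⟩ : Disc.Omega κ C) = 0 → d = 0 := by
    intro d hd
    by_contra hd0
    -- a prime where `d` survives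
    obtain ⟨m, hm⟩ : ∃ m : PrimeSpectrum C,
        algebraMap C (Localization.AtPrime m.asIdeal) d ≠ 0 := by
      by_contra hcon
      push_neg at hcon
      apply hd0
      apply PrimeSpectrum.toPiLocalization_injective C
      funext m
      show algebraMap C (Localization.AtPrime m.asIdeal) d =
        algebraMap C (Localization.AtPrime m.asIdeal) 0
      rw [hcon m, map_zero]
    -- the socle generator is a multiple of the image of `d`
    have hI : Ideal.span {algebraMap C (Localization.AtPrime m.asIdeal) d} ≠ ⊥ := by
      intro h0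
      apply hm
      have : algebraMap C (Localization.AtPrime m.asIdeal) d ∈
          Ideal.span {algebraMap C (Localization.AtPrime m.asIdeal) d} :=
        Ideal.subset_span rfl
      rw [h0] at this
      exact (Submodule.mem_bot _).mp this
    obtain ⟨z, hzI, hz0, hzs⟩ := exists_mem_soc _ hI
    rw [hs m] at hzs
    obtain ⟨r, hr⟩ := Ideal.mem_span_singleton'.mp hzs
    have hru : IsUnit r := by
      by_contra hnu
      have hrm : r ∈ maximalIdeal (Localization.AtPrime m.asIdeal) :=
        (mem_maximalIdeal r).mpr hnu
      have hsm : s m ∈ soc (Localization.AtPrime m.asIdeal) := by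
        rw [hs m]
        exact Ideal.subset_span rfl
      apply hz0
      rw [← hr]
      exact hsm r hrm
    have hsI : s m ∈ Ideal.span {algebraMap C (Localization.AtPrime m.asIdeal) d} := by
      obtain ⟨r', hr'⟩ := hru.exists_left_inv
      have : s m = r' * z := by rw [← hr, ← mul_assoc, hr', one_mul]
      rw [this]
      exact Ideal.mul_mem_left _ _ hzI
    obtain ⟨t, ht⟩ := Ideal.mem_span_singleton'.mp hsI
    obtain ⟨c'', hc''⟩ := IsArtinianRing.localization_surjective m.asIdeal.primeCompl
      (Localization.AtPrime m.asIdeal) t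
    obtain ⟨e, he⟩ := (PrimeSpectrum.toPiLocalization_bijective (R := C)).2 (Pi.single m 1)
    have he' : ∀ m' : PrimeSpectrum C, algebraMap C (Localization.AtPrime m'.asIdeal) e =
        (Pi.single m 1 : PrimeSpectrum.PiLocalization C) m' := fun m' => by
      rw [← he]
      rfl
    have hval : μ0 (d * (c'' * e)) = l m (s m) := by
      rw [hμ0]
      rw [Finset.sum_eq_single m]
      · rw [RingHom.map_mul, RingHom.map_mul, he' m, Pi.single_eq_same, mul_one, hc'', mul_comm, ht]
      · intro m' _ hm'
        rw [RingHom.map_mul, RingHom.map_mul, he' m', Pi.single_eq_of_ne hm', mul_zero, mul_zero,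
          map_zero]
      · intro h
        exact absurd (Finset.mem_univ m) h
    have hzero : μ0 (d * (c'' * e)) = 0 := by
      have := congrArg (fun ψ : Disc.Omega κ C => ψ.toLinearMap (c'' * e)) hd
      simpa [Disc.Omega.smul_toLinearMap_apply] using this
    exact hl m (hval ▸ hzero)
  intro c c' hcc
  have : (c - c') • (⟨μ0⟩ : Disc.Omega κ C) = 0 := by
    rw [sub_smul]
    exact sub_eq_zero.mpr hcc
  exact sub_eq_zero.mp (key _ this)

end Groth.Agent.Lib.R2LeadFrobAlg
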