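import Mathlib
import Groth.Prelude
import Groth.Agent.Lib.R2LeadAmpleSpread
import Groth.Agent.Lib.Helper23GG
import Groth.Agent.Lib.Helper23LocGen
import Groth.Agent.Lib.Helper23RestrTensor
set_option backward.isDefEq.respectTransparency.types false

/-!
# Global generation spreads from `X ×_Y Spec O_{Y,y}` to a neighbourhood of `y` (lead, round 2)
-/

set_option autoImplicit false
set_option linter.unusedSectionVars false
set_option linter.style.haveILetI false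
universe u
open CategoryTheory CategoryTheory.Limits AlgebraicGeometry TopologicalSpace Opposite

noncomputable section

namespace Groth.Agent.Lib.R2Lead.GGSpread

open Scheme.Modules Groth.Agent.Lib.Helper23.GenLocus Groth.Agent.Lib.Helper6 Groth.Agent.Lib.Helper23.AmpleIso
  Groth.Agent.Lib.Helper23.Extend Groth.Agent.Lib.Helper23.SecTw Groth.Agent.Helper13PullbackUnit
  Groth.Agent.Lib.Helper23.PB Groth.Agent.Lib.R2H2.FibreVanish Groth.Agent.Lib.R2Lead.AffSpread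
  Groth.Agent.Lib.R2Lead.GenLocusPB Groth.Agent.Lib.R2Lead.AmpleSpread

variable {X Y : Scheme.{u}} (f : X ⟶ Y) (y : Y) {V₀ : Y.Opens} (hV₀ : IsAffineOpen V₀) (hy₀ : y ∈ V₀)

/-- a section of `φ₀^* M₀` has the same generating locus as the pullback of a section over `f⁻¹V₀` -/
theorem exists_section_spread' [QuasiCompact f] [QuasiSeparated f] (M₀ : (f ⁻¹ᵁ V₀).toScheme.Modules)
    (hM₀ : PicF.IsInvertible M₀)
    (s : Coh.structureModule (X₁ f y) ⟶ (Scheme.Modules.pullback (φ₀ f y hV₀ hy₀)).obj M₀) :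
    ∃ t : Coh.structureModule (f ⁻¹ᵁ V₀).toScheme ⟶ M₀,
      φ₀ f y hV₀ hy₀ ⁻¹ᵁ CohB1.genLocus _ t = CohB1.genLocus _ s := by
  haveI : M₀.IsQuasicoherent := isQuasicoherent_of_isInvertible _ hM₀
  obtain ⟨α', τ, hα, h⟩ := exists_spread_stalk f y hV₀ hy₀ M₀ (sv s ⊤)
  exact ⟨secHom _ τ, (genLocus_of_smul_eq_unitSec (φ₀ f y hV₀ hy₀) _ hM₀ τ s α' hα h).symm⟩

/-- **global generation spreads out** -/
theorem exists_nhd_isGloballyGenerated_restrict [IsProper f] (L : X.Modules) (hL : PicF.IsInvertible L)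
    (hgg : Curv2.IsGloballyGenerated ((Scheme.Modules.pullback (g₁ f y)).obj L)) :
    ∃ V : Y.Opens, y ∈ V ∧ Curv2.IsGloballyGenerated (L.restrict (f ⁻¹ᵁ V).ι) := by
  obtain ⟨_, ⟨V₀, hV₀, rfl⟩, hy₀, -⟩ :=
    Y.isBasis_affineOpens.exists_subset_of_mem_open (Set.mem_univ y) isOpen_univ
  have hL₀ : PicF.IsInvertible ((Scheme.Modules.pullback (f ⁻¹ᵁ V₀).ι).obj L) :=
    isInvertible_pullback _ L hL
  have e₁ : (Scheme.Modules.pullback (φ₀ f y hV₀ hy₀)).obj ((Scheme.Modules.pullback (f ⁻¹ᵁ V₀).ι).obj L) ≅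
      (Scheme.Modules.pullback (g₁ f y)).obj L :=
    (pullbackComp (φ₀ f y hV₀ hy₀) (f ⁻¹ᵁ V₀).ι).app L ≪≫ (pullbackCongr (φ₀_ι f y hV₀ hy₀)).app L
  have hgg₀ := Groth.Agent.Lib.Helper23.RestrTensor.isGloballyGenerated_of_iso e₁.symm hgg
  have hL₁ := isInvertible_pullback (φ₀ f y hV₀ hy₀) _ hL₀
  haveI : IsProper (f₁ f y) := inferInstanceAs (IsProper (pullback.snd f (Y.fromSpecStalk y)))
  haveI : CompactSpace (X₁ f y) := QuasiCompact.compactSpace_of_compactSpace (f₁ f y)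
  choose s hxs using fun x₁ =>
    Groth.Agent.Lib.Helper23.GG.exists_section_mem_genLocus _ hL₁ hgg₀ x₁
  choose t ht using fun x₁ => exists_section_spread' f y hV₀ hy₀ _ hL₀ (s x₁)
  obtain ⟨T, hT⟩ := CompactSpace.elim_nhds_subcover
    (fun x₁ => ((φ₀ f y hV₀ hy₀ ⁻¹ᵁ CohB1.genLocus _ (t x₁) : (X₁ f y).Opens) : Set (X₁ f y)))
    (fun x₁ => (Opens.isOpen _).mem_nhds (by rw [ht]; exact hxs x₁))
  let UU : X.Opens := ⨆ j : T, (f ⁻¹ᵁ V₀).ι ''ᵁ CohB1.genLocus _ (t j.1)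
  have hUU : ∀ x₁ : X₁ f y, (g₁ f y) x₁ ∈ UU := by
    intro x₁
    have hx₁ : x₁ ∈ ⋃ j ∈ T, ((φ₀ f y hV₀ hy₀ ⁻¹ᵁ CohB1.genLocus _ (t j) : (X₁ f y).Opens) :
        Set (X₁ f y)) := hT ▸ Set.mem_univ x₁
    obtain ⟨j, hjT, hj⟩ := Set.mem_iUnion₂.1 hx₁
    refine Opens.mem_iSup.2 ⟨⟨j, hjT⟩, ?_⟩
    refine ⟨φ₀ f y hV₀ hy₀ x₁, hj, ?_⟩
    change (φ₀ f y hV₀ hy₀ ≫ (f ⁻¹ᵁ V₀).ι) x₁ = _
    rw [φ₀_ι]
  obtain ⟨VD, hyVD, hVD⟩ := exists_nhd_preimage_le f y UU hUU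
  refine ⟨VD ⊓ V₀, ⟨hyVD, hy₀⟩, ?_⟩
  have hWV₀ : VD ⊓ V₀ ≤ V₀ := inf_le_right
  have e₂ : (Scheme.Modules.pullback (X.homOfLE (f.preimage_mono hWV₀))).obj
      ((Scheme.Modules.pullback (f ⁻¹ᵁ V₀).ι).obj L) ≅ L.restrict (f ⁻¹ᵁ (VD ⊓ V₀)).ι :=
    (pullbackComp (X.homOfLE (f.preimage_mono hWV₀)) (f ⁻¹ᵁ V₀).ι).app L ≪≫
      (pullbackCongr (X.homOfLE_ι _)).app L ≪≫
      ((restrictFunctorIsoPullback (f ⁻¹ᵁ (VD ⊓ V₀)).ι).app L).symm
  refine Groth.Agent.Lib.Helper23.RestrTensor.isGloballyGenerated_of_iso e₂ ?_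
  refine Groth.Agent.Lib.Helper23.LocGen.isGloballyGenerated_of_locGen _ (fun x => ?_)
  have hx : (f ⁻¹ᵁ (VD ⊓ V₀)).ι x ∈ UU := hVD (x.2.1)
  obtain ⟨⟨j, hjT⟩, p, hp, hpx⟩ := Opens.mem_iSup.1 hx
  have hpj : X.homOfLE (f.preimage_mono hWV₀) x = p := by
    apply (f ⁻¹ᵁ V₀).ι.isOpenEmbedding.injective
    refine Eq.trans ?_ hpx.symm
    change (X.homOfLE (f.preimage_mono hWV₀) ≫ (f ⁻¹ᵁ V₀).ι) x = _
    rw [X.homOfLE_ι]
  refine ⟨_, ?_, Groth.Agent.Lib.Helper23.LocGen.locGen_genLocus _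
    ((pullbackUnitIso (X.homOfLE (f.preimage_mono hWV₀))).symm.hom ≫
      (Scheme.Modules.pullback (X.homOfLE (f.preimage_mono hWV₀))).map (t j))⟩
  rw [genLocus_pullback _ _ hL₀ (t j) (pullbackUnitIso _).symm]
  show X.homOfLE (f.preimage_mono hWV₀) x ∈ CohB1.genLocus _ (t j)
  rw [hpj]
  exact hp

end Groth.Agent.Lib.R2Lead.GGSpread
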