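import Mathlib
import Groth.Prelude.Def_W4c5qcohlocdualityLoc

/-!
# Localizing closure of a class closed under subobjects and quotients, and closed objects

Core result: in a Grothendieck abelian category, if `P` is closed under subobjects and quotients
and `M` is `P`-closed (`Hom(X, M) = 0` and `Ext¹(X, M) = 0` for `X ∈ P`), then `M` is closed for the
localizing closure of `P`.
-/

set_option autoImplicit false

universe w v u

open CategoryTheory CategoryTheory.Limits ZeroObject

namespace Groth.Agent.Lib.R2Lead.GabLoc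

variable {C : Type u} [Category.{v} C] [Abelian C]

attribute [local instance] IsFiltered.isConnected

/-- A copy of `Shrink α` which does not inherit the category instance of `Shrink`. -/
def ShrinkOrd (α : Type*) [Small.{w} α] : Type w := Shrink.{w} α

noncomputable instance (α : Type*) [Small.{w} α] [Preorder α] : Preorder (ShrinkOrd.{w} α) :=
  inferInstanceAs (Preorder (Shrink.{w} α))

/-- The order isomorphism with the shrunk copy. -/
noncomputable def orderIsoShrinkOrd (α : Type*) [Small.{w} α] [Preorder α] :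
    α ≃o ShrinkOrd.{w} α := orderIsoShrink α

section Zorn

variable [IsGrothendieckAbelian.{w} C]

/-- Zorn: for a morphism `π : N ⟶ N'`, there is a maximal subobject `L` of `N` such that
`L.arrow ≫ π` is a monomorphism. -/
lemma exists_maximal_mono {N N' : C} (π : N ⟶ N') :
    ∃ L : Subobject N, Mono (L.arrow ≫ π) ∧
      ∀ L' : Subobject N, L ≤ L' → Mono (L'.arrow ≫ π) → L' = L := by
  obtain ⟨m, hm⟩ := zorn_le₀ {L : Subobject N | Mono (L.arrow ≫ π)} (by
    intro c hcs hc
    by_cases hne : c.Nonempty
    · haveI : Small.{w} c := small_subtype (Subobject N) (· ∈ c)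
      let e : c ≃o ShrinkOrd.{w} c := orderIsoShrinkOrd c
      let J := ShrinkOrd.{w} c
      haveI : Nonempty J := ⟨e ⟨hne.some, hne.some_mem⟩⟩
      haveI : IsDirected J (· ≤ ·) := ⟨fun a b => by
        rcases hc.total (e.symm a).2 (e.symm b).2 with h | h
        · exact ⟨b, e.symm.le_iff_le.mp h, le_rfl⟩
        · exact ⟨a, le_rfl, e.symm.le_iff_le.mp h⟩⟩
      haveI : IsFiltered J := isFiltered_of_directed_le_nonempty J
      let G : J ⥤ Subobject N :=
        Monotone.functor (f := fun j : J => ((e.symm j : c) : Subobject N))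
          (fun a b hab => e.symm.le_iff_le.mpr hab)
      let F : J ⥤ MonoOver N := G ⋙ Subobject.representative
      let f : colimit (F ⋙ MonoOver.forget N ⋙ Over.forget N) ⟶ N :=
        colimit.desc _ (Cocone.mk N
          { app j := (F.obj j).obj.hom
            naturality {j j'} g := by simp [MonoOver.forget] })
      have hf : ∀ j, colimit.ι (F ⋙ MonoOver.forget N ⋙ Over.forget N) j ≫ f =
          (F.obj j).obj.hom := fun j => by
        dsimp only [f]
        rw [colimit.ι_desc]
      haveI hfm : Mono f :=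
        IsGrothendieckAbelian.mono_of_isColimit_monoOver F (colimit.isColimit _) f hf
      haveI hfπ : Mono (f ≫ π) := by
        let α : F ⋙ MonoOver.forget N ⋙ Over.forget N ⟶ (Functor.const J).obj N' :=
          { app j := (F.obj j).obj.hom ≫ π
            naturality {j j'} g := by
              have h := MonoOver.w (F.map g)
              change ((F.map g).hom.left ≫ (F.obj j').obj.hom ≫ π) =
                ((F.obj j).obj.hom ≫ π) ≫ 𝟙 N'
              rw [Category.comp_id, ← Category.assoc]
              exact congrArg (· ≫ π) h }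
        haveI : ∀ j, Mono (α.app j) := fun j => hcs (e.symm j).2
        haveI := NatTrans.mono_of_mono_app α
        exact colim.map_mono' α (colimit.isColimit _) (isColimitConstCocone J N') (f ≫ π)
          (fun j => by
            have h1 : colimit.ι (F ⋙ MonoOver.forget N ⋙ Over.forget N) j ≫
                f ≫ π = (F.obj j).obj.hom ≫ π :=
              (Category.assoc _ _ _).symm.trans (congrArg (· ≫ π) (hf j))
            exact h1.trans (Category.comp_id _).symm)
      refine ⟨Subobject.mk f, ?_, ?_⟩
      · show Mono ((Subobject.mk f).arrow ≫ π)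
        rw [← Subobject.underlyingIso_hom_comp_eq_mk f, Category.assoc]
        infer_instance
      · intro z hz
        obtain ⟨j, rfl⟩ : ∃ j : J, ((e.symm j : c) : Subobject N) = z :=
          ⟨e ⟨z, hz⟩, by simp⟩
        exact Subobject.le_mk_of_comm
          (colimit.ι (F ⋙ MonoOver.forget N ⋙ Over.forget N) j) (hf j)
    · refine ⟨⊥, ?_, ?_⟩
      · show Mono ((⊥ : Subobject N).arrow ≫ π)
        rw [Subobject.bot_arrow, zero_comp]
        haveI : IsZero ((⊥ : Subobject N) : C) :=
          (isZero_zero C).of_iso Subobject.botCoeIsoZero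
        exact ⟨fun g h _ => (this.eq_of_tgt g h)⟩
      · intro z hz
        exact absurd ⟨z, hz⟩ hne)
  refine ⟨m, hm.prop, fun L' hle hL' => le_antisymm (hm.le_of_ge hL' hle) hle⟩

end Zorn

section Torsion

variable (P : ObjectProperty C)

/-- The torsion class generated by `P`: every nonzero quotient has a nonzero `P`-subobject. -/
def T : ObjectProperty C :=
  fun Y => ∀ ⦃Q : C⦄ (q : Y ⟶ Q), Epi q → ¬ IsZero Q →
    ∃ (X : C) (j : X ⟶ Q), Mono j ∧ P X ∧ ¬ IsZero X

variable {P}

lemma T_image_step {Y Q : C} (hY : T P Y) (h : Y ⟶ Q) (hne : h ≠ 0) :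
    ∃ (X : C) (j : X ⟶ Q), Mono j ∧ P X ∧ ¬ IsZero X := by
  have hI : ¬ IsZero (Limits.image h) := by
    intro hz
    apply hne
    rw [← Limits.image.fac h, hz.eq_of_tgt (factorThruImage h) 0, zero_comp]
  obtain ⟨X, j, hj, hX, hXne⟩ := hY (factorThruImage h) inferInstance hI
  exact ⟨X, j ≫ Limits.image.ι h, mono_comp _ _, hX, hXne⟩

lemma le_T [P.IsClosedUnderQuotients] : P ≤ T P := by
  intro X hX Q q hq hQ
  exact ⟨Q, 𝟙 Q, inferInstance, P.prop_of_epi q hX, hQ⟩

instance T_isClosedUnderQuotients : (T P).IsClosedUnderQuotients where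
  prop_of_epi {Y Y''} f _ hY := by
    intro Q q hq hQ
    exact hY (f ≫ q) (epi_comp _ _) hQ

instance T_containsZero : (T P).ContainsZero where
  exists_zero := ⟨0, isZero_zero C, fun Q q hq hQ => absurd (IsZero.of_epi q (isZero_zero C)) hQ⟩

instance T_isClosedUnderExtensions : (T P).IsClosedUnderExtensions where
  prop_X₂_of_shortExact {S} hS h₁ h₃ := by
    intro Q q hq hQ
    by_cases h0 : S.f ≫ q = 0
    · haveI := hS.epi_g
      haveI := hS.mono_f
      let q'' : S.X₃ ⟶ Q := hS.exact.desc q h0
      have hq'' : S.g ≫ q'' = q := hS.exact.g_desc q h0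
      haveI : Epi q'' := by
        haveI : Epi (S.g ≫ q'') := by rw [hq'']; exact hq
        exact epi_of_epi S.g q''
      exact h₃ q'' inferInstance hQ
    · exact T_image_step h₁ (S.f ≫ q) h0

lemma T_isClosedUnderCoproducts (J : Type w) :
    (T P).IsClosedUnderColimitsOfShape (Discrete J) where
  colimitsOfShape_le := by
    rintro X ⟨h⟩ Q q hq hQ
    by_cases h0 : ∀ j, h.ι.app j ≫ q = 0
    · exfalso
      apply hQ
      have : q = 0 := h.isColimit.hom_ext (fun j => by simpa using h0 j)
      exact IsZero.of_epi_eq_zero q this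
    · push Not at h0
      obtain ⟨j, hj⟩ := h0
      exact T_image_step (h.prop_diag_obj j) _ hj

end Torsion

section Main

variable [IsGrothendieckAbelian.{w} C] {P : ObjectProperty C}

/-- Claim A0: a nonzero subobject of an object of `T P` contains a nonzero `P`-subobject. -/
lemma exists_sub_of_T [P.IsClosedUnderSubobjects] {Y Y' : C} (hY : T P Y) (ι : Y' ⟶ Y) [Mono ι]
    (hY' : ¬ IsZero Y') : ∃ (X : C) (j : X ⟶ Y'), Mono j ∧ P X ∧ ¬ IsZero X := by
  obtain ⟨L, hL, hLmax⟩ := exists_maximal_mono.{w} (cokernel.π ι)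
  haveI := hL
  haveI hιc : Mono (ι ≫ cokernel.π L.arrow) := by
    apply Preadditive.mono_of_cancel_zero
    intro W z hz
    have h1 : (z ≫ ι) ≫ cokernel.π L.arrow = 0 := by rw [Category.assoc]; exact hz
    obtain ⟨l, hl⟩ : ∃ l : W ⟶ (L : C), l ≫ L.arrow = z ≫ ι :=
      ⟨Abelian.monoLift L.arrow (z ≫ ι) h1, Abelian.monoLift_comp _ _ _⟩
    have h2 : l ≫ (L.arrow ≫ cokernel.π ι) = 0 := by
      rw [← Category.assoc, hl, Category.assoc, cokernel.condition, comp_zero]
    have h3 : l = 0 := by
      rw [← cancel_mono (L.arrow ≫ cokernel.π ι), h2, zero_comp]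
    have h4 : z ≫ ι = 0 := by rw [← hl, h3, zero_comp]
    rw [← cancel_mono ι, h4, zero_comp]
  have hYbar : ¬ IsZero (cokernel L.arrow) := by
    intro hz
    apply hY'
    exact IsZero.of_mono_eq_zero (ι ≫ cokernel.π L.arrow) (hz.eq_of_tgt _ _)
  obtain ⟨X, j, hj, hX, hXne⟩ := hY (cokernel.π L.arrow) inferInstance hYbar
  haveI := hj
  refine ⟨pullback j (ι ≫ cokernel.π L.arrow), pullback.snd j (ι ≫ cokernel.π L.arrow),
    inferInstance, P.prop_of_mono (pullback.fst j (ι ≫ cokernel.π L.arrow)) hX, ?_⟩
  intro hzero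
  have hLL' : L ≤ Subobject.mk (pullback.snd j (cokernel.π L.arrow)) :=
    Subobject.le_mk_of_comm
      (pullback.lift (0 : (L : C) ⟶ X) L.arrow (by rw [zero_comp, cokernel.condition]))
      (pullback.lift_snd _ _ _)
  have hL'mono : Mono ((Subobject.mk (pullback.snd j (cokernel.π L.arrow))).arrow ≫
      cokernel.π ι) := by
    haveI : Mono (pullback.snd j (cokernel.π L.arrow) ≫ cokernel.π ι) := by
      apply Preadditive.mono_of_cancel_zero
      intro W z hz
      have h1 : (z ≫ pullback.snd j (cokernel.π L.arrow)) ≫ cokernel.π ι = 0 := by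
        rw [Category.assoc]; exact hz
      obtain ⟨y', hy'⟩ : ∃ y' : W ⟶ Y', y' ≫ ι = z ≫ pullback.snd j (cokernel.π L.arrow) :=
        ⟨Abelian.monoLift ι (z ≫ pullback.snd j (cokernel.π L.arrow)) h1,
          Abelian.monoLift_comp _ _ _⟩
      have hcomm : (z ≫ pullback.fst j (cokernel.π L.arrow)) ≫ j =
          y' ≫ (ι ≫ cokernel.π L.arrow) := by
        rw [Category.assoc, pullback.condition, ← Category.assoc, ← hy', Category.assoc]
      obtain ⟨u, hu1, hu2⟩ : ∃ u : W ⟶ pullback j (ι ≫ cokernel.π L.arrow),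
          u ≫ pullback.fst j (ι ≫ cokernel.π L.arrow) =
            z ≫ pullback.fst j (cokernel.π L.arrow) ∧
          u ≫ pullback.snd j (ι ≫ cokernel.π L.arrow) = y' :=
        ⟨pullback.lift _ _ hcomm, pullback.lift_fst _ _ _, pullback.lift_snd _ _ _⟩
      have hu : u = 0 := hzero.eq_of_tgt _ _
      have h2 : z ≫ pullback.fst j (cokernel.π L.arrow) = 0 := by
        rw [← hu1, hu, zero_comp]
      have h3 : y' = 0 := by
        rw [← hu2, hu, zero_comp]
      have h4 : z ≫ pullback.snd j (cokernel.π L.arrow) = 0 := by rw [← hy', h3, zero_comp]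
      apply pullback.hom_ext
      · rw [h2, zero_comp]
      · rw [h4, zero_comp]
    rw [← Subobject.underlyingIso_hom_comp_eq_mk, Category.assoc]
    infer_instance
  have hEq := hLmax _ hLL' hL'mono
  have hle : Subobject.mk (pullback.snd j (cokernel.π L.arrow)) ≤ L := hEq.le
  have ht : Subobject.ofMkLE (pullback.snd j (cokernel.π L.arrow)) L hle ≫ L.arrow =
      pullback.snd j (cokernel.π L.arrow) := Subobject.ofMkLE_arrow hle
  have h5 : pullback.fst j (cokernel.π L.arrow) ≫ j = 0 := by
    rw [pullback.condition, ← ht, Category.assoc, cokernel.condition, comp_zero]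
  have h6 : pullback.fst j (cokernel.π L.arrow) = 0 := by
    rw [← cancel_mono j, h5, zero_comp]
  exact hXne (IsZero.of_epi_eq_zero (pullback.fst j (cokernel.π L.arrow)) h6)

lemma T_isClosedUnderSubobjects [P.IsClosedUnderSubobjects] :
    (T P).IsClosedUnderSubobjects where
  prop_of_mono {Y' Y} ι _ hY := by
    intro Q' q' hq' hQ'
    haveI := hq'
    obtain ⟨ιbar, hιbar⟩ : ∃ ιbar : Q' ⟶ cokernel (kernel.ι q' ≫ ι),
        q' ≫ ιbar = ι ≫ cokernel.π (kernel.ι q' ≫ ι) :=
      ⟨Abelian.epiDesc q' (ι ≫ cokernel.π (kernel.ι q' ≫ ι))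
        (by rw [← Category.assoc, cokernel.condition]), Abelian.comp_epiDesc _ _ _⟩
    haveI : Mono ιbar := by
      apply Preadditive.mono_of_cancel_zero
      intro W z hz
      obtain ⟨W', e, he, z', hz'⟩ := surjective_up_to_refinements_of_epi q' z
      have h1 : (z' ≫ ι) ≫ cokernel.π (kernel.ι q' ≫ ι) = 0 := by
        rw [Category.assoc, ← hιbar, ← Category.assoc, ← hz', Category.assoc, hz, comp_zero]
      obtain ⟨k', hk'⟩ : ∃ k' : W' ⟶ kernel q', k' ≫ (kernel.ι q' ≫ ι) = z' ≫ ι :=
        ⟨Abelian.monoLift _ _ h1, Abelian.monoLift_comp _ _ _⟩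
      have h2 : k' ≫ kernel.ι q' = z' := by
        rw [← cancel_mono ι, Category.assoc, hk']
      have h3 : e ≫ z = 0 := by
        rw [hz', ← h2, Category.assoc, kernel.condition, comp_zero]
      rw [← cancel_epi e, h3, comp_zero]
    have hYbar : T P (cokernel (kernel.ι q' ≫ ι)) :=
      (T P).prop_of_epi (cokernel.π (kernel.ι q' ≫ ι)) hY
    exact exists_sub_of_T.{w} hYbar ιbar hQ'

/-- Claim B: a `P`-closed object is `T P`-closed. -/
theorem isClosedFor_T {M : C} (hM : _root_.GabLoc.IsClosedFor P M) :
    _root_.GabLoc.IsClosedFor (T P) M := by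
  refine ⟨?_, ?_⟩
  · intro Y hY f
    by_contra hf
    obtain ⟨X, j, hj, hX, hXne⟩ := T_image_step hY f hf
    haveI := hj
    exact hXne (IsZero.of_mono_eq_zero j (hM.1 hX j))
  · intro N Y i p hp hY hS
    haveI : Mono i := hS.mono_f
    haveI : Epi p := hS.epi_g
    obtain ⟨L, hL, hLmax⟩ := exists_maximal_mono.{w} p
    haveI := hL
    by_cases hepi : Epi (L.arrow ≫ p)
    · haveI := hepi
      haveI : IsIso (L.arrow ≫ p) := isIso_of_mono_of_epi _
      have hs : (inv (L.arrow ≫ p) ≫ L.arrow) ≫ p = 𝟙 Y := by
        rw [Category.assoc, IsIso.inv_hom_id]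
      let spl := ShortComplex.Splitting.ofExactOfSection (ShortComplex.mk i p hp) hS.exact
        (inv (L.arrow ≫ p) ≫ L.arrow) hs hS.mono_f
      exact IsSplitMono.mk' ⟨spl.r, spl.f_r⟩
    · exfalso
      have hQ : ¬ IsZero (cokernel (L.arrow ≫ p)) :=
        fun hz => hepi (Preadditive.epi_of_isZero_cokernel _ hz)
      obtain ⟨X, j, hj, hX, hXne⟩ := hY (cokernel.π (L.arrow ≫ p)) inferInstance hQ
      haveI := hj
      obtain ⟨d, hd⟩ : ∃ d : cokernel L.arrow ⟶ cokernel (L.arrow ≫ p),
          cokernel.π L.arrow ≫ d = p ≫ cokernel.π (L.arrow ≫ p) :=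
        ⟨cokernel.desc L.arrow (p ≫ cokernel.π (L.arrow ≫ p))
          (by rw [← Category.assoc, cokernel.condition]), cokernel.π_desc _ _ _⟩
      haveI hdepi : Epi d := by
        haveI : Epi (cokernel.π L.arrow ≫ d) := by rw [hd]; infer_instance
        exact epi_of_epi (cokernel.π L.arrow) d
      haveI hibar : Mono (i ≫ cokernel.π L.arrow) := by
        apply Preadditive.mono_of_cancel_zero
        intro W z hz
        have h1 : (z ≫ i) ≫ cokernel.π L.arrow = 0 := by rw [Category.assoc]; exact hz
        obtain ⟨l, hl⟩ : ∃ l : W ⟶ (L : C), l ≫ L.arrow = z ≫ i :=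
          ⟨Abelian.monoLift _ _ h1, Abelian.monoLift_comp _ _ _⟩
        have h2 : l ≫ (L.arrow ≫ p) = 0 := by
          rw [← Category.assoc, hl, Category.assoc, hp, comp_zero]
        have h3 : l = 0 := by rw [← cancel_mono (L.arrow ≫ p), h2, zero_comp]
        have h4 : z ≫ i = 0 := by rw [← hl, h3, zero_comp]
        rw [← cancel_mono i, h4, zero_comp]
      have hcomm0 : (i ≫ cokernel.π L.arrow) ≫ d = (0 : M ⟶ X) ≫ j := by
        rw [Category.assoc, hd, ← Category.assoc, hp, zero_comp, zero_comp]
      obtain ⟨iX, hiX1, hiX2⟩ : ∃ iX : M ⟶ pullback d j,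
          iX ≫ pullback.fst d j = i ≫ cokernel.π L.arrow ∧ iX ≫ pullback.snd d j = 0 :=
        ⟨pullback.lift _ _ hcomm0, pullback.lift_fst _ _ _, pullback.lift_snd _ _ _⟩
      haveI : Mono iX := by
        haveI : Mono (iX ≫ pullback.fst d j) := by rw [hiX1]; infer_instance
        exact mono_of_mono iX (pullback.fst d j)
      have hSX : (ShortComplex.mk iX (pullback.snd d j) hiX2).ShortExact := by
        refine ShortComplex.ShortExact.mk' ?_ inferInstance inferInstance
        rw [ShortComplex.exact_iff_exact_up_to_refinements]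
        intro W y hy
        dsimp at y hy ⊢
        have h1 : (y ≫ pullback.fst d j) ≫ d = 0 := by
          rw [Category.assoc, pullback.condition, ← Category.assoc, hy, zero_comp]
        obtain ⟨W₁, e₁, he₁, n, hn⟩ :=
          surjective_up_to_refinements_of_epi (cokernel.π L.arrow) (y ≫ pullback.fst d j)
        have h2 : (n ≫ p) ≫ cokernel.π (L.arrow ≫ p) = 0 := by
          rw [Category.assoc, ← hd, ← Category.assoc, ← hn, Category.assoc, h1, comp_zero]
        obtain ⟨l, hl⟩ : ∃ l : W₁ ⟶ (L : C), l ≫ (L.arrow ≫ p) = n ≫ p :=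
          ⟨Abelian.monoLift _ _ h2, Abelian.monoLift_comp _ _ _⟩
        have h3 : (n - l ≫ L.arrow) ≫ p = 0 := by
          rw [Preadditive.sub_comp, Category.assoc, hl, sub_self]
        obtain ⟨m, hm⟩ : ∃ m : W₁ ⟶ M, m ≫ i = n - l ≫ L.arrow :=
          ⟨hS.exact.lift _ h3, hS.exact.lift_f _ h3⟩
        refine ⟨W₁, e₁, he₁, m, ?_⟩
        apply pullback.hom_ext
        · rw [Category.assoc, hn, Category.assoc, hiX1, ← Category.assoc, hm,
            Preadditive.sub_comp, Category.assoc, cokernel.condition, comp_zero, sub_zero]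
        · rw [Category.assoc, hy, comp_zero, Category.assoc, hiX2, comp_zero]
      haveI hsplit : IsSplitMono iX := hM.2 iX (pullback.snd d j) hiX2 hX hSX
      obtain ⟨r, hr⟩ : ∃ r : pullback d j ⟶ M, iX ≫ r = 𝟙 M :=
        ⟨retraction iX, IsSplitMono.id iX⟩
      haveI hκf : Mono (kernel.ι r ≫ pullback.fst d j) := mono_comp _ _
      have hLL' : L ≤ Subobject.mk (pullback.snd (kernel.ι r ≫ pullback.fst d j)
          (cokernel.π L.arrow)) :=
        Subobject.le_mk_of_comm
          (pullback.lift (0 : (L : C) ⟶ kernel r) L.arrow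
            (by rw [zero_comp, cokernel.condition]))
          (pullback.lift_snd _ _ _)
      have hL'mono : Mono ((Subobject.mk (pullback.snd (kernel.ι r ≫ pullback.fst d j)
          (cokernel.π L.arrow))).arrow ≫ p) := by
        haveI : Mono (pullback.snd (kernel.ι r ≫ pullback.fst d j) (cokernel.π L.arrow) ≫ p) := by
          apply Preadditive.mono_of_cancel_zero
          intro W z hz
          have h1 : (z ≫ pullback.snd (kernel.ι r ≫ pullback.fst d j)
              (cokernel.π L.arrow)) ≫ p = 0 := by rw [Category.assoc]; exact hz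
          obtain ⟨m, hm⟩ : ∃ m : W ⟶ M, m ≫ i =
              z ≫ pullback.snd (kernel.ι r ≫ pullback.fst d j) (cokernel.π L.arrow) :=
            ⟨hS.exact.lift _ h1, hS.exact.lift_f _ h1⟩
          have h2 : (z ≫ pullback.fst (kernel.ι r ≫ pullback.fst d j) (cokernel.π L.arrow) ≫
              kernel.ι r) ≫ pullback.fst d j = (m ≫ iX) ≫ pullback.fst d j := by
            rw [Category.assoc, Category.assoc, pullback.condition, ← Category.assoc, ← hm,
              Category.assoc, Category.assoc, hiX1]
          have h3 : z ≫ pullback.fst (kernel.ι r ≫ pullback.fst d j) (cokernel.π L.arrow) ≫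
              kernel.ι r = m ≫ iX := (cancel_mono (pullback.fst d j)).mp h2
          have h4 : m = 0 := by
            have := congrArg (· ≫ r) h3
            simp only [Category.assoc, kernel.condition, comp_zero, hr, Category.comp_id] at this
            exact this.symm
          have h5 : z ≫ pullback.snd (kernel.ι r ≫ pullback.fst d j) (cokernel.π L.arrow) = 0 := by
            rw [← hm, h4, zero_comp]
          have h6 : z ≫ pullback.fst (kernel.ι r ≫ pullback.fst d j) (cokernel.π L.arrow) = 0 := by
            rw [← cancel_mono (kernel.ι r), Category.assoc, h3, h4, zero_comp, zero_comp]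
          apply pullback.hom_ext
          · rw [h6, zero_comp]
          · rw [h5, zero_comp]
        rw [← Subobject.underlyingIso_hom_comp_eq_mk, Category.assoc]
        infer_instance
      have hEq := hLmax _ hLL' hL'mono
      have hle : Subobject.mk (pullback.snd (kernel.ι r ≫ pullback.fst d j)
          (cokernel.π L.arrow)) ≤ L := hEq.le
      have ht := Subobject.ofMkLE_arrow hle
      have h7 : pullback.fst (kernel.ι r ≫ pullback.fst d j) (cokernel.π L.arrow) ≫
          (kernel.ι r ≫ pullback.fst d j) = 0 := by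
        rw [pullback.condition, ← ht, Category.assoc, cokernel.condition, comp_zero]
      have h8 : kernel.ι r ≫ pullback.fst d j = 0 := by
        rw [← cancel_epi (pullback.fst (kernel.ι r ≫ pullback.fst d j) (cokernel.π L.arrow)),
          h7, comp_zero]
      have h9 : kernel.ι r = 0 := by rw [← cancel_mono (pullback.fst d j), h8, zero_comp]
      haveI : Mono r := Preadditive.mono_of_kernel_zero h9
      have h10 : r ≫ iX = 𝟙 _ := by
        rw [← cancel_mono r, Category.assoc, hr, Category.comp_id, Category.id_comp]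
      have h11 : pullback.snd d j = 0 := by
        rw [← Category.id_comp (pullback.snd d j), ← h10, Category.assoc, hiX2, comp_zero]
      exact hXne (IsZero.of_epi_eq_zero (pullback.snd d j) h11)

/-- Core theorem: if `P` is closed under subobjects and quotients, then a `P`-closed object is
closed for the localizing closure of `P`. -/
theorem isClosedFor_locClosure [P.IsClosedUnderSubobjects] [P.IsClosedUnderQuotients] {M : C}
    (hM : _root_.GabLoc.IsClosedFor P M) :
    _root_.GabLoc.IsClosedFor (_root_.GabLoc.locClosure.{w} P) M := by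
  have hT := isClosedFor_T.{w} hM
  have hloc : _root_.GabLoc.IsLocalizing.{w} (T P) := by
    haveI := T_isClosedUnderSubobjects.{w} (P := P)
    exact ⟨{ }, fun J => T_isClosedUnderCoproducts J⟩
  have hle : _root_.GabLoc.locClosure.{w} P ≤ T P := fun X hX => hX (T P) hloc le_T
  exact ⟨fun Y hY f => hT.1 (hle Y hY) f, fun N Y i p hp hY hS => hT.2 i p hp (hle Y hY) hS⟩

end Main

end Groth.Agent.Lib.R2Lead.GabLoc
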