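import Groth.Agent.Lib.Helper23TensorMap
import Groth.Agent.Lib.Helper23FinTypeLocal
import Groth.Prelude.Def_FlatMod2

set_option autoImplicit false
set_option linter.style.haveILetI false
universe u
open CategoryTheory CategoryTheory.Limits AlgebraicGeometry Opposite

namespace Groth.Agent.Lib.R2LeadGenCov

open Groth.Agent.Lib.Helper23.SecTw Groth.Agent.Lib.Helper23.GenLocus Groth.Agent.Lib.Helper6
  Groth.Agent.Lib.Helper23.LocGen Groth.Agent.Lib.Helper23.Serre Groth.Agent.Lib.Helper23.TensorMap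

section span
variable {X : Scheme.{u}}

attribute [local instance] Abelian.hasFiniteBiproducts

/-- the image of a morphism from a finite free module lies in the span of the images of the
basis sections -/
theorem app_mem_span_of_freeMod {k : ℕ} {N : X.Modules} (p : FlatMod.freeMod X k ⟶ N) (B : X.Opens)
    (a : Γ(FlatMod.freeMod X k, B)) :
    p.app B a ∈ Submodule.span Γ(X, B) (Set.range fun i : Fin k =>
      sv (Sigma.ι (fun _ : Fin k => Coh.structureModule X) i ≫ p) B) := by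
  let O : X.Modules := Coh.structureModule X
  let e : (⨁ fun _ : Fin k => O) ≅ ∐ fun _ : Fin k => O := biproduct.isoCoproduct _
  let p' : (⨁ fun _ : Fin k => O) ⟶ N := e.hom ≫ p
  let σ : Fin k → (O ⟶ N) := fun i => Sigma.ι (fun _ : Fin k => O) i ≫ p
  have hp' : ∀ i, biproduct.ι (fun _ : Fin k => O) i ≫ p' = σ i := by
    intro i
    change biproduct.ι (fun _ : Fin k => O) i ≫ (biproduct.isoCoproduct _).hom ≫ p = _
    rw [biproduct.isoCoproduct_hom, biproduct.ι_desc_assoc]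
  have hsum : p' = ∑ i, biproduct.π (fun _ : Fin k => O) i ≫ σ i := by
    have h1 : p' = (∑ i, biproduct.π (fun _ : Fin k => O) i ≫
        biproduct.ι (fun _ : Fin k => O) i) ≫ p' := by
      rw [biproduct.total, Category.id_comp]
    rw [h1, Preadditive.sum_comp]
    refine Finset.sum_congr rfl (fun i _ => ?_)
    rw [Category.assoc, hp']
  let a' : Γ((⨁ fun _ : Fin k => O : X.Modules), B) := e.inv.app B a
  have h2 : p.app B a = p'.app B a' := by
    have h3 : e.inv ≫ p' = p := by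
      change e.inv ≫ e.hom ≫ p = _
      rw [Iso.inv_hom_id_assoc]
    exact (congrArg (fun φ : (∐ fun _ : Fin k => O) ⟶ N => φ.app B a) h3).symm
  have h4 : p'.app B a' = ∑ i, (σ i).app B ((biproduct.π (fun _ : Fin k => O) i).app B a') := by
    have := congrArg (evalHom (N := N) B a') hsum
    rw [map_sum] at this
    exact this
  rw [h2, h4]
  refine Submodule.sum_mem _ (fun i _ => ?_)
  rw [app_eq_smul_sv]
  exact Submodule.smul_mem _ _ (Submodule.subset_span ⟨i, rfl⟩)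

end span

section loc
variable (R : CommRingCat.{u}) (M : ModuleCat.{u} R)

lemma exists_pow_smul_eq_algebraMap (a : R) (O : (Spec R).Opens)
    (hO : O = PrimeSpectrum.basicOpen a) (ρ : Γ(Spec R, O)) :
    ∃ (e : ℕ) (c : R), a ^ e • ρ = algebraMap R Γ(Spec R, O) c := by
  subst hO
  haveI : IsLocalization.Away a Γ(Spec R, PrimeSpectrum.basicOpen a) := inferInstance
  obtain ⟨⟨c, ⟨_, e, rfl⟩⟩, h⟩ := IsLocalization.surj (Submonoid.powers a) ρ
  refine ⟨e, c, ?_⟩
  rw [← h, Algebra.smul_def, map_pow, mul_comm]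

lemma exists_pow_smul_eq_toOpen (a : R) (O : (Spec R).Opens)
    (hO : O = PrimeSpectrum.basicOpen a) (y : Γ(tilde M, O)) :
    ∃ (e : ℕ) (x : M), a ^ e • y = (tilde.toOpen M O).hom x := by
  subst hO
  haveI : IsLocalizedModule (Submonoid.powers a)
      (tilde.toOpen M (PrimeSpectrum.basicOpen a)).hom := inferInstance
  obtain ⟨⟨x, ⟨_, e, rfl⟩⟩, h⟩ := IsLocalizedModule.surj (Submonoid.powers a)
    (tilde.toOpen M (PrimeSpectrum.basicOpen a)).hom y
  exact ⟨e, x, h⟩

lemma exists_pow_smul_eq_of_toOpen_eq (a : R) (O : (Spec R).Opens)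
    (hO : O = PrimeSpectrum.basicOpen a) (x x' : M)
    (h : (tilde.toOpen M O).hom x = (tilde.toOpen M O).hom x') :
    ∃ e : ℕ, a ^ e • x = a ^ e • x' := by
  subst hO
  haveI : IsLocalizedModule (Submonoid.powers a)
      (tilde.toOpen M (PrimeSpectrum.basicOpen a)).hom := inferInstance
  obtain ⟨⟨_, e, rfl⟩, hc⟩ := (IsLocalizedModule.eq_iff_exists (Submonoid.powers a)
    (tilde.toOpen M (PrimeSpectrum.basicOpen a)).hom).1 h
  exact ⟨e, hc⟩

end loc

section alg

/-- pure algebra: elements of an `S`-module that, up to a power of `a`, come from a submodule `T`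
of `M` through an `R`-linear map form an `S`-submodule, when `S` is a localisation of `R` at `a`.-/
def subP {R S N M : Type*} [CommRing R] [CommRing S] [Algebra R S] [AddCommGroup N] [Module R N]
    [Module S N] [IsScalarTower R S N] [AddCommGroup M] [Module R M] (ℓ : M →ₗ[R] N) (a : R)
    (T : Submodule R M) (hS : ∀ ρ : S, ∃ (e : ℕ) (c : R), a ^ e • ρ = algebraMap R S c) :
    Submodule S N where
  carrier := {z | ∃ e : ℕ, ∃ x' ∈ T, a ^ e • z = ℓ x'}
  zero_mem' := ⟨0, 0, T.zero_mem, by rw [map_zero, smul_zero]⟩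
  add_mem' := by
    rintro z1 z2 ⟨e1, x1, hx1, h1⟩ ⟨e2, x2, hx2, h2⟩
    refine ⟨e1 + e2, a ^ e2 • x1 + a ^ e1 • x2,
      T.add_mem (T.smul_mem _ hx1) (T.smul_mem _ hx2), ?_⟩
    rw [smul_add, map_add, map_smul, map_smul, ← h1, ← h2, smul_smul, smul_smul, ← pow_add,
      ← pow_add, add_comm e2 e1]
  smul_mem' := by
    rintro ρ z ⟨e, x', hx', h⟩
    obtain ⟨e', c, hc⟩ := hS ρ
    refine ⟨e' + e, c • x', T.smul_mem _ hx', ?_⟩
    rw [pow_add, mul_smul, smul_comm (a ^ e) ρ z, h, ← smul_assoc, hc, algebraMap_smul, map_smul]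

theorem mem_subP {R S N M : Type*} [CommRing R] [CommRing S] [Algebra R S] [AddCommGroup N]
    [Module R N] [Module S N] [IsScalarTower R S N] [AddCommGroup M] [Module R M] (ℓ : M →ₗ[R] N)
    (a : R) (T : Submodule R M) (hS : ∀ ρ : S, ∃ (e : ℕ) (c : R), a ^ e • ρ = algebraMap R S c)
    (z : N) : z ∈ subP ℓ a T hS ↔ ∃ e : ℕ, ∃ x' ∈ T, a ^ e • z = ℓ x' := Iff.rfl

end alg

section main
variable (R : CommRingCat.{u}) (M : ModuleCat.{u} R)

/-- generators of `M~` over an open `U` give, on each basic open inside `U`, generators of `M` up to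
powers. -/
theorem exists_local_generators (U : (Spec R).Opens) (n : ℕ)
    (φ : FlatMod.freeMod (↑U) n ⟶ (AlgebraicGeometry.tilde M).restrict U.ι) [Epi φ] (a : R)
    (ha : (PrimeSpectrum.basicOpen a : (Spec R).Opens) ≤ U) :
    ∃ x : Fin n → M, ∀ y : M, ∃ e : ℕ, a ^ e • y ∈ Submodule.span R (Set.range x) := by
  let W : (↑U : Scheme.{u}).Opens := U.ι ⁻¹ᵁ (PrimeSpectrum.basicOpen a : (Spec R).Opens)
  have hO : U.ι ''ᵁ W = (PrimeSpectrum.basicOpen a : (Spec R).Opens) := by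
    rw [Scheme.Hom.image_preimage_eq_opensRange_inf, Scheme.Opens.opensRange_ι]
    exact inf_eq_right.mpr ha
  have hWaff : IsAffineOpen W := by
    refine IsAffineOpen.preimage_of_isOpenImmersion (IsAffineOpen.Spec_basicOpen a) U.ι ?_
    rw [Scheme.Opens.opensRange_ι]; exact ha
  haveI : (FlatMod.freeMod (↑U : Scheme.{u}) n).IsQuasicoherent := isQuasicoherent_freeMod n
  haveI : ((AlgebraicGeometry.tilde M).restrict U.ι).IsQuasicoherent :=
    Scheme.Modules.isQuasicoherent_restrictFunctor U.ι _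
  have hsurj := Groth.Agent.Lib.Helper23.FinType.surjective_app_of_epi φ hWaff
  let toT : Γ((AlgebraicGeometry.tilde M).restrict U.ι, W) →
    Γ(AlgebraicGeometry.tilde M, U.ι ''ᵁ W) := fun z => z
  let t : Fin n → Γ(AlgebraicGeometry.tilde M, U.ι ''ᵁ W) := fun k =>
    toT (sv (Sigma.ι (fun _ : Fin n => Coh.structureModule (↑U : Scheme.{u})) k ≫ φ) W)
  have hx : ∀ k, ∃ (e : ℕ) (x : M), a ^ e • t k = (tilde.toOpen M (U.ι ''ᵁ W)).hom x :=
    fun k => exists_pow_smul_eq_toOpen R M a _ hO (t k)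
  choose ex x hx using hx
  refine ⟨x, ?_⟩
  let T : Submodule R M := Submodule.span R (Set.range x)
  haveI hST : IsScalarTower R Γ(Spec R, U.ι ''ᵁ W) Γ(AlgebraicGeometry.tilde M, U.ι ''ᵁ W) :=
    inferInstance
  let P' : Submodule Γ(Spec R, U.ι ''ᵁ W) Γ(AlgebraicGeometry.tilde M, U.ι ''ᵁ W) :=
    @subP R Γ(Spec R, U.ι ''ᵁ W) Γ(AlgebraicGeometry.tilde M, U.ι ''ᵁ W) M _ _ _ _ _ _ hST _ _
      (tilde.toOpen M (U.ι ''ᵁ W)).hom a T (exists_pow_smul_eq_algebraMap R a _ hO)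
  let P : Submodule Γ((↑U : Scheme.{u}), W) Γ((AlgebraicGeometry.tilde M).restrict U.ι, W) :=
    { carrier := {z | toT z ∈ P'}
      zero_mem' := P'.zero_mem
      add_mem' := fun {z1 z2} h1 h2 => P'.add_mem h1 h2
      smul_mem' := fun r z hz => P'.smul_mem ((U.ι.appIso W).inv.hom r) hz }
  have ht : ∀ k, sv (Sigma.ι (fun _ : Fin n => Coh.structureModule (↑U : Scheme.{u})) k ≫ φ) W ∈ P :=
    fun k => show toT _ ∈ P' from
      (mem_subP _ _ _ _ _).2 ⟨ex k, x k, Submodule.subset_span ⟨k, rfl⟩, hx k⟩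
  intro y
  obtain ⟨b, hb⟩ := hsurj ((tilde.toOpen M (U.ι ''ᵁ W)).hom y)
  have hmem : φ.app W b ∈ P := by
    refine (Submodule.span_le.2 ?_) (app_mem_span_of_freeMod φ W b)
    rintro _ ⟨k, rfl⟩
    exact ht k
  rw [hb] at hmem
  have hmem' : toT ((tilde.toOpen M (U.ι ''ᵁ W)).hom y) ∈ P' := hmem
  obtain ⟨e, x', hx', h⟩ := (mem_subP _ _ _ _ _).1 hmem'
  have h' : (tilde.toOpen M (U.ι ''ᵁ W)).hom (a ^ e • y) = (tilde.toOpen M (U.ι ''ᵁ W)).hom x' := by
    rw [map_smul]; exact h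
  obtain ⟨e2, h2⟩ := exists_pow_smul_eq_of_toOpen_eq R M a _ hO _ _ h'
  refine ⟨e2 + e, ?_⟩
  rw [pow_add, mul_smul, h2]
  exact T.smul_mem _ hx'

end main

section cover
variable (R : CommRingCat.{u})

/-- a finite open cover of `Spec R` is refined by basic opens `D(a i) ⊆ U i` with the `a i`
generating the unit ideal. -/
theorem exists_partition {m : ℕ} (U : Fin m → (Spec R).Opens) (hU : ⨆ i, U i = ⊤) :
    ∃ a : Fin m → R, (∀ i, (PrimeSpectrum.basicOpen (a i) : (Spec R).Opens) ≤ U i) ∧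
      Ideal.span (Set.range a) = ⊤ := by
  let J : Fin m → Ideal R := fun i => PrimeSpectrum.vanishingIdeal ((U i).1 : Set (PrimeSpectrum R))ᶜ
  have hJ : ∀ i (f : R), f ∈ J i → (PrimeSpectrum.basicOpen f : (Spec R).Opens) ≤ U i := by
    intro i f hf p hp
    by_contra hpU
    exact hp ((PrimeSpectrum.mem_vanishingIdeal _ _).1 hf p hpU)
  have htop : ⨆ i, J i = ⊤ := by
    by_contra hne
    obtain ⟨𝔪, h𝔪, hle⟩ := Ideal.exists_le_maximal _ hne
    let p : PrimeSpectrum R := ⟨𝔪, h𝔪.isPrime⟩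
    have hp : p ∈ (⨆ i, U i : (Spec R).Opens) := by rw [hU]; trivial
    obtain ⟨i, hi⟩ := TopologicalSpace.Opens.mem_iSup.1 hp
    obtain ⟨_, ⟨_, ⟨f, rfl⟩, rfl⟩, hpf, hfU⟩ :=
      PrimeSpectrum.isBasis_basic_opens.exists_subset_of_mem_open hi (U i).2
    have hfJ : f ∈ J i := by
      rw [PrimeSpectrum.mem_vanishingIdeal]
      intro q hq
      by_contra hfq
      exact hq (hfU hfq)
    exact hpf (hle ((le_iSup J i) hfJ))
  have h1 : (1 : R) ∈ ⨆ i, J i := by rw [htop]; trivial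
  obtain ⟨f, hf, hsum⟩ := (Submodule.mem_iSup_iff_exists_finsupp J 1).1 h1
  refine ⟨fun i => f i, fun i => hJ i _ (hf i), ?_⟩
  rw [Ideal.eq_top_iff_one, ← hsum, Finsupp.sum_fintype _ _ (fun _ => rfl)]
  exact Ideal.sum_mem _ (fun i _ => Ideal.subset_span ⟨i, rfl⟩)

end cover

theorem main (R : CommRingCat.{u}) (M : ModuleCat.{u} R)
    (n m : ℕ) (U : Fin m → (Spec R).Opens) (hU : ⨆ i, U i = ⊤)
    (hgen : ∀ i, ∃ φ : FlatMod.freeMod (↑(U i)) n ⟶ (AlgebraicGeometry.tilde M).restrict (U i).ι, Epi φ) :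
    ∃ s : Fin (n * m) → M, Submodule.span R (Set.range s) = ⊤ := by
  obtain ⟨a, haU, hspan⟩ := exists_partition R U hU
  have hloc : ∀ i, ∃ x : Fin n → M, ∀ y : M, ∃ e : ℕ,
      a i ^ e • y ∈ Submodule.span R (Set.range x) := by
    intro i
    obtain ⟨φ, hφ⟩ := hgen i
    exact exists_local_generators R M (U i) n φ (a i) (haU i)
  choose x hx using hloc
  refine ⟨fun j => x (finProdFinEquiv.symm j).2 (finProdFinEquiv.symm j).1, ?_⟩
  rw [eq_top_iff]
  intro y _
  refine Submodule.mem_of_span_eq_top_of_smul_pow_mem _ (Set.range a) hspan y ?_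
  rintro ⟨_, i, rfl⟩
  obtain ⟨e, he⟩ := hx i y
  refine ⟨e, (Submodule.span_mono ?_) he⟩
  rintro _ ⟨k, rfl⟩
  exact ⟨finProdFinEquiv (k, i), by simp⟩

end Groth.Agent.Lib.R2LeadGenCov
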