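import Mathlib
import Groth.Agent.Lib.Helper24GB
import Groth.Agent.Lib.Helper2GenFree

/-!
# Generic freeness over a reduced ring (witness form)

We generalise `Helper2GenFree` (generic freeness over a domain via pseudo-Gröbner bases) to reduced
base rings: for every nonzero `g` there is a nonzero multiple `F` of `g` such that after inverting
`F` the ideal has a Gröbner basis with unit leading coefficients.
-/

set_option autoImplicit false

namespace Groth.Agent.Lib.R2Lead.GenFreeRed

open MvPolynomial MonomialOrder TrivSqZeroExt TensorProduct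
open scoped MonomialOrder
open Groth.Agent.Lib.Helper24GB
open Groth.Agent.Lib.Helper2.GenFree

section core
variable {σ : Type*} (m : MonomialOrder σ) {R : Type*} [CommRing R]

/-- `c` is killed by a power of `f`. -/
def Tors (f c : R) : Prop := ∃ k : ℕ, f ^ k * c = 0

/-- `p` has "leading term" `f ^ k • x ^ α`. -/
def FM (f : R) (p : MvPolynomial σ R) (α : σ →₀ ℕ) : Prop :=
  (∃ k : ℕ, coeff α p = f ^ k) ∧ ∀ β, α ≺[m] β → coeff β p = 0

/-- exponents of leading terms of the form `f ^ k • x ^ α` of elements of `I`. -/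
def LE (I : Ideal (MvPolynomial σ R)) (f : R) : Set (σ →₀ ℕ) :=
  {α | ∃ p ∈ I, FM m f p α}

/-- every "leading exponent modulo `f`-torsion" of an element of `I` lies in `LE m I f`. -/
def TProp (I : Ideal (MvPolynomial σ R)) (f : R) : Prop :=
  ∀ p ∈ I, ∀ α, ¬ Tors f (coeff α p) → (∀ β, α ≺[m] β → Tors f (coeff β p)) → α ∈ LE m I f

theorem LE_upward {I : Ideal (MvPolynomial σ R)} {f : R} {α β : σ →₀ ℕ} (hα : α ∈ LE m I f)
    (hle : α ≤ β) : β ∈ LE m I f := by
  classical
  obtain ⟨p, hpI, ⟨k, hk⟩, hhigh⟩ := hα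
  refine ⟨monomial (β - α) 1 * p, I.mul_mem_left _ hpI, ⟨k, ?_⟩, ?_⟩
  · rw [coeff_monomial_mul', if_pos tsub_le_self, tsub_tsub_cancel_of_le hle, one_mul, hk]
  · intro γ hγ
    rw [coeff_monomial_mul']
    split_ifs with h
    · rw [one_mul]
      apply hhigh
      have h1 : γ - (β - α) + (β - α) = γ := tsub_add_cancel_of_le h
      have h2 : α + (β - α) = β := add_tsub_cancel_of_le hle
      have key : m.toSyn (α + (β - α)) < m.toSyn ((γ - (β - α)) + (β - α)) := by
        rw [h1, h2]; exact hγ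
      rw [map_add, map_add] at key
      exact lt_of_add_lt_add_right key
    · rfl

theorem LE_mono {I : Ideal (MvPolynomial σ R)} {f f' : R} (h : f ∣ f') :
    LE m I f ⊆ LE m I f' := by
  rintro α ⟨p, hpI, ⟨k, hk⟩, hhigh⟩
  obtain ⟨u, rfl⟩ := h
  refine ⟨u ^ k • p, Submodule.smul_of_tower_mem I _ hpI, ⟨k, ?_⟩, ?_⟩
  · rw [coeff_smul, hk, smul_eq_mul, mul_pow, mul_comm]
  · intro β hβ
    rw [coeff_smul, hhigh β hβ, smul_zero]

theorem step {I : Ideal (MvPolynomial σ R)} {f : R} (hT : ¬ TProp m I f) :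
    ∃ f' : R, f ∣ f' ∧ f' ≠ 0 ∧ ∃ α, α ∈ LE m I f' ∧ α ∉ LE m I f := by
  classical
  by_contra hcon
  apply hT
  intro p hpI α hα hhigh
  by_contra hnot
  apply hcon
  have hhigh' : ∀ β, α ≺[m] β → ∃ k : ℕ, f ^ k * coeff β p = 0 := hhigh
  have hK : ∃ K : ℕ, ∀ β, α ≺[m] β → f ^ K * coeff β p = 0 := by
    choose! k hk using hhigh'
    refine ⟨p.support.sup k, fun β hβ => ?_⟩
    by_cases hs : β ∈ p.support
    · have hle : k β ≤ p.support.sup k := Finset.le_sup hs
      obtain ⟨d, hd⟩ := Nat.exists_eq_add_of_le hle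
      rw [hd, pow_add, mul_comm (f ^ k β), mul_assoc, hk β hβ, mul_zero]
    · rw [notMem_support_iff.mp hs, mul_zero]
  obtain ⟨K, hK⟩ := hK
  refine ⟨f ^ (K + 1) * coeff α p, (dvd_pow_self f (Nat.succ_ne_zero K)).mul_right _,
    fun h0 => hα ⟨K + 1, h0⟩, α, ?_, hnot⟩
  refine ⟨f ^ (K + 1) • p, Submodule.smul_of_tower_mem I _ hpI, ⟨1, ?_⟩, fun β hβ => ?_⟩
  · rw [coeff_smul, smul_eq_mul, pow_one]
  · rw [coeff_smul, smul_eq_mul, pow_succ', mul_assoc, hK β hβ, mul_zero]

theorem exists_TProp [Finite σ] (I : Ideal (MvPolynomial σ R)) (g : R) (hg : g ≠ 0) :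
    ∃ F : R, g ∣ F ∧ F ≠ 0 ∧ TProp m I F := by
  classical
  by_contra hcon
  have hcon' : ∀ F, g ∣ F → F ≠ 0 → ¬ TProp m I F := fun F h1 h2 h3 => hcon ⟨F, h1, h2, h3⟩
  have hstep : ∀ x : {F : R // g ∣ F ∧ F ≠ 0}, ∃ y : {F : R // g ∣ F ∧ F ≠ 0},
      x.1 ∣ y.1 ∧ ∃ α, α ∈ LE m I y.1 ∧ α ∉ LE m I x.1 := by
    intro x
    obtain ⟨f', hdvd, hne, α, h1, h2⟩ := step m (hcon' x.1 x.2.1 x.2.2)
    exact ⟨⟨f', x.2.1.trans hdvd, hne⟩, hdvd, α, h1, h2⟩
  choose nxt hdvd a ha1 ha2 using hstep
  let s : ℕ → {F : R // g ∣ F ∧ F ≠ 0} := fun n => nxt^[n] ⟨g, dvd_rfl, hg⟩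
  have hs : ∀ n, s (n + 1) = nxt (s n) := fun n => Function.iterate_succ_apply' nxt n _
  have hmono : ∀ i j, i ≤ j → (s i).1 ∣ (s j).1 := by
    intro i j hij
    induction j, hij using Nat.le_induction with
    | base => exact dvd_rfl
    | succ j _ ih => rw [hs]; exact ih.trans (hdvd _)
  obtain ⟨i, j, hij, hle⟩ := wellQuasiOrdered_le (fun n => a (s n))
  have h1 : a (s i) ∈ LE m I (s j).1 := by
    have : a (s i) ∈ LE m I (s (i + 1)).1 := by rw [hs]; exact ha1 _
    exact LE_mono m (hmono (i + 1) j hij) this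
  exact ha2 (s j) (LE_upward m h1 hle)

theorem FM.degree_eq [IsReduced R] {f : R} (hf : f ≠ 0) {p : MvPolynomial σ R} {α : σ →₀ ℕ}
    (h : FM m f p α) : m.degree p = α ∧ ∃ k : ℕ, m.leadingCoeff p = f ^ k := by
  obtain ⟨⟨k, hk⟩, hhigh⟩ := h
  have hne : coeff α p ≠ 0 := by
    rw [hk]
    intro h0
    exact hf (IsNilpotent.eq_zero ⟨k, h0⟩)
  have hp0 : p ≠ 0 := fun h0 => hne (by rw [h0, coeff_zero])
  have hsupp : α ∈ p.support := mem_support_iff.mpr hne
  have h1 : α ≼[m] m.degree p := m.le_degree hsupp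
  have h2 : m.degree p ≼[m] α := by
    by_contra hlt
    have hlt' : α ≺[m] m.degree p := not_le.mp hlt
    exact (m.leadingCoeff_ne_zero_iff.mpr hp0) (hhigh _ hlt')
  have hdeg : m.degree p = α := m.toSyn.injective (le_antisymm h2 h1)
  refine ⟨hdeg, k, ?_⟩
  rw [← hk, ← hdeg]
  rfl

/-- Gröbner data over a reduced ring, after inverting a nonzero multiple `F` of a given nonzero
element `g`. -/
theorem exists_groebner_red [Finite σ] [IsReduced R] (I : Ideal (MvPolynomial σ R)) (g : R)
    (hg : g ≠ 0) :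
    ∃ (F : R) (G : Finset (MvPolynomial σ R)), g ∣ F ∧ F ≠ 0 ∧ (∀ p ∈ G, p ∈ I) ∧
      (∀ p, ∃ (n : ℕ) (r : MvPolynomial σ R), Reduced m (G : Set (MvPolynomial σ R)) r ∧
        F ^ n • p - r ∈ Ideal.span (G : Set (MvPolynomial σ R))) ∧
      (∀ r ∈ I, Reduced m (G : Set (MvPolynomial σ R)) r → ∃ k : ℕ, F ^ k • r = 0) := by
  classical
  obtain ⟨F, hgF, hF0, hT⟩ := exists_TProp m I g hg
  set A : Set (σ →₀ ℕ) := LE m I F with hA
  set Dmin : Set (σ →₀ ℕ) := {d | Minimal (· ∈ A) d} with hDmin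
  have hanti : IsAntichain (· ≤ ·) Dmin := by
    intro a ha b hb hab hle
    exact hab (le_antisymm hle (hb.2 ha.1 hle))
  have hfin : Dmin.Finite := WellQuasiOrderedLE.finite_of_isAntichain hanti
  have hch : ∀ d : Dmin, ∃ p ∈ I, FM m F p d.1 := fun d => d.2.1
  choose x hxI hxFM using hch
  haveI := hfin.fintype
  have hGdeg : ∀ d : Dmin, m.degree (x d) = d.1 ∧ ∃ k : ℕ, m.leadingCoeff (x d) = F ^ k :=
    fun d => (hxFM d).degree_eq m hF0
  refine ⟨F, Finset.univ.image x, hgF, hF0, ?_, ?_, ?_⟩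
  · intro p hp
    obtain ⟨d, -, rfl⟩ := Finset.mem_image.mp hp
    exact hxI d
  · have hlc : ∀ p ∈ (Finset.univ.image x), ∃ k : ℕ, m.leadingCoeff p = F ^ k := by
      intro p hp
      obtain ⟨d, -, rfl⟩ := Finset.mem_image.mp hp
      exact (hGdeg d).2
    choose! kf hkf using hlc
    intro p
    obtain ⟨n, r, hr, hmem⟩ := exists_pseudo_reduced m
      ((Finset.univ.image x : Finset (MvPolynomial σ R)) : Set (MvPolynomial σ R))
      (F ^ ((Finset.univ.image x).sup kf)) (fun q hq => by
        rw [hkf q (Finset.mem_coe.mp hq)]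
        exact pow_dvd_pow F (Finset.le_sup (Finset.mem_coe.mp hq))) p
    refine ⟨((Finset.univ.image x).sup kf) * n, r, hr, ?_⟩
    rwa [pow_mul]
  · intro r hrI hred
    have hall : ∀ β, Tors F (coeff β r) := by
      by_contra hcon
      have hcon' : ∃ β, ¬ Tors F (coeff β r) := by
        by_contra hh
        exact hcon fun β => by
          by_contra hβ
          exact hh ⟨β, hβ⟩
      set Sbad := r.support.filter (fun β => ¬ Tors F (coeff β r)) with hSbad
      have hmemS : ∀ β, ¬ Tors F (coeff β r) → β ∈ Sbad := by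
        intro β hβ
        refine Finset.mem_filter.mpr ⟨?_, hβ⟩
        rw [mem_support_iff]
        intro h0
        exact hβ ⟨0, by rw [h0, mul_zero]⟩
      have hne : Sbad.Nonempty := by
        obtain ⟨β, hβ⟩ := hcon'
        exact ⟨β, hmemS β hβ⟩
      obtain ⟨α, hαmem, hαmax⟩ := Finset.exists_max_image Sbad (fun β => m.toSyn β) hne
      have hα := Finset.mem_filter.mp hαmem
      have hαA : α ∈ A := by
        refine hT r hrI α hα.2 fun β hβ => ?_
        by_contra hnt
        exact absurd (hαmax β (hmemS β hnt)) (not_le.mpr hβ)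
      obtain ⟨b, hb, hbmin⟩ := (Set.isPWO_of_wellQuasiOrderedLE A).exists_le_minimal hαA
      have hdeg := (hGdeg ⟨b, hbmin⟩).1
      refine hred α hα.1 (x ⟨b, hbmin⟩) ?_ ?_
      · simp
      · rw [hdeg]; exact hb
    have hall' : ∀ β, ∃ k : ℕ, F ^ k * coeff β r = 0 := hall
    choose k hk using hall'
    refine ⟨r.support.sup k, ?_⟩
    ext β
    rw [coeff_smul, coeff_zero, smul_eq_mul]
    by_cases hs : β ∈ r.support
    · obtain ⟨d, hd⟩ := Nat.exists_eq_add_of_le (Finset.le_sup (f := k) hs)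
      rw [hd, pow_add, mul_comm (F ^ k β), mul_assoc, hk β, mul_zero]
    · rw [notMem_support_iff.mp hs, mul_zero]

end core

section torsIndep
variable {R : Type*} [CommRing R]

/-- linear independence up to `f`-power torsion of the coefficients. -/
def TorsIndep (f : R) {ι : Type*} {T : Type*} [AddCommGroup T] [Module R T] (v : ι → T) : Prop :=
  ∀ l : ι →₀ R, Finsupp.linearCombination R v l = 0 → ∀ i, ∃ k : ℕ, f ^ k * l i = 0

variable {ι : Type*} {T : Type*} [AddCommGroup T] [Module R T]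

theorem TorsIndep.of_dvd {f f' : R} {v : ι → T} (h : TorsIndep f v) (hd : f ∣ f') :
    TorsIndep f' v := by
  intro l hl i
  obtain ⟨k, hk⟩ := h l hl i
  obtain ⟨u, rfl⟩ := hd
  exact ⟨k, by rw [mul_pow, mul_comm (f ^ k), mul_assoc, hk, mul_zero]⟩

theorem TorsIndep.finset {f : R} {v : ι → T} (h : TorsIndep f v) (t : Finset ι) (c : ι → R)
    (hc : ∑ i ∈ t, c i • v i = 0) : ∀ i ∈ t, ∃ k : ℕ, f ^ k * c i = 0 := by
  classical
  intro i hi
  let l : ι →₀ R := Finsupp.onFinset t (fun i => if i ∈ t then c i else 0)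
    (fun i hi => by by_contra hn; exact hi (if_neg hn))
  have hl : Finsupp.linearCombination R v l = 0 := by
    rw [Finsupp.linearCombination_apply, Finsupp.sum_of_support_subset l
      Finsupp.support_onFinset_subset (fun i a => a • v i) (fun i _ => zero_smul _ _), ← hc]
    refine Finset.sum_congr rfl fun j hj => ?_
    have : l j = c j := by simp [l, hj]
    rw [this]
  obtain ⟨k, hk⟩ := h l hl i
  refine ⟨k, ?_⟩
  have : l i = c i := by simp [l, hi]
  rwa [this] at hk

end torsIndep

section data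
variable {σ : Type*} [Finite σ] {R : Type*} [CommRing R] [IsReduced R]

/-- Gröbner data for a ring homomorphism out of a polynomial ring over a reduced ring. -/
theorem exists_data_red (m : MonomialOrder σ) {T : Type*} [CommRing T] [Module R T]
    (φ : MvPolynomial σ R →+* T) (hlin : ∀ (c : R) (p : MvPolynomial σ R), φ (c • p) = c • φ p)
    (g : R) (hg : g ≠ 0) :
    ∃ (F : R) (G : Finset (MvPolynomial σ R)), g ∣ F ∧ F ≠ 0 ∧ (∀ p ∈ G, φ p = 0) ∧
      TorsIndep F (fun b : Std m (G : Set (MvPolynomial σ R)) => φ (monomial b.1 1)) ∧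
      (∀ p, ∃ n : ℕ, F ^ n • φ p ∈ Submodule.span R
        (Set.range fun b : Std m (G : Set (MvPolynomial σ R)) => φ (monomial b.1 1))) ∧
      (∀ p, φ p = 0 → ∃ n : ℕ, F ^ n • p ∈ Ideal.span (G : Set (MvPolynomial σ R))) := by
  classical
  obtain ⟨F, G, hgF, hF0, hGI, hdiv, htors⟩ := exists_groebner_red m (RingHom.ker φ) g hg
  let φL : MvPolynomial σ R →ₗ[R] T :=
    { toFun := φ, map_add' := map_add φ, map_smul' := fun c p => hlin c p }
  have hspanle : Ideal.span (G : Set (MvPolynomial σ R)) ≤ RingHom.ker φ :=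
    Ideal.span_le.mpr fun g hg => hGI g hg
  refine ⟨F, G, hgF, hF0, fun p hp => (RingHom.mem_ker).mp (hGI p hp), ?_, ?_, ?_⟩
  · intro l hl b
    set r : MvPolynomial σ R := Finsupp.linearCombination R
      (fun b : Std m (G : Set (MvPolynomial σ R)) => monomial b.1 (1 : R)) l with hr
    have hφr : φL r = 0 := by
      rw [hr, Finsupp.apply_linearCombination]
      exact hl
    have hred : Reduced m (G : Set (MvPolynomial σ R)) r := by
      intro e he g hg
      rw [hr, Finsupp.linearCombination_apply, Finsupp.sum] at he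
      obtain ⟨b, -, hb⟩ := Finset.mem_biUnion.mp (MvPolynomial.support_sum he)
      have hb' := MvPolynomial.support_smul hb
      have : e = b.1 := by
        have := support_monomial_subset hb'
        simpa using this
      subst this
      exact b.2 g hg
    obtain ⟨k, hk⟩ := htors r ((RingHom.mem_ker).mpr hφr) hred
    have hli : LinearIndependent R
        (fun b : Std m (G : Set (MvPolynomial σ R)) => monomial b.1 (1 : R)) :=
      ((basisMonomials σ R).linearIndependent.comp _ Subtype.val_injective)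
    have h0 : Finsupp.linearCombination R
        (fun b : Std m (G : Set (MvPolynomial σ R)) => monomial b.1 (1 : R)) (F ^ k • l) = 0 := by
      rw [map_smul, ← hr, hk]
    have h1 := (linearIndependent_iff.mp hli) _ h0
    refine ⟨k, ?_⟩
    have h2 := DFunLike.congr_fun h1 b
    simpa using h2
  · intro p
    obtain ⟨n, r, hr, hmem⟩ := hdiv p
    refine ⟨n, ?_⟩
    have h0 : φ (F ^ n • p - r) = 0 := (RingHom.mem_ker).mp (hspanle hmem)
    rw [map_sub, sub_eq_zero, hlin] at h0
    rw [h0]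
    exact reduced_mem_span m φL hr
  · intro p hp
    obtain ⟨n, r, hr, hmem⟩ := hdiv p
    have hrI : r ∈ RingHom.ker φ := by
      have h0 : φ (F ^ n • p - r) = 0 := (RingHom.mem_ker).mp (hspanle hmem)
      rw [map_sub, hlin, hp, smul_zero, zero_sub, neg_eq_zero] at h0
      exact (RingHom.mem_ker).mpr h0
    obtain ⟨k, hk⟩ := htors r hrI hr
    refine ⟨k + n, ?_⟩
    have : F ^ (k + n) • p = F ^ k • (F ^ n • p - r) + F ^ k • r := by
      rw [pow_add, mul_smul, smul_sub]; abel
    rw [this, hk, add_zero]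
    exact Submodule.smul_of_tower_mem _ _ hmem

end data

section freeAway
variable {R : Type*} [CommRing R]

/-- `M` becomes free after inverting `f`, witnessed by a subset of `M` which is linearly independent
up to `f`-power torsion and spans `M` up to powers of `f`. -/
def FreeAway' (f : R) (M : Type*) [AddCommGroup M] [Module R M] : Prop :=
  ∃ B : Set M, TorsIndep f ((↑) : B → M) ∧
    ∀ x : M, ∃ n : ℕ, f ^ n • x ∈ Submodule.span R B

variable {M : Type*} [AddCommGroup M] [Module R M]

theorem FreeAway'.of_dvd {f f' : R} (h : FreeAway' f M) (hd : f ∣ f') : FreeAway' f' M := by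
  obtain ⟨B, hB, hs⟩ := h
  refine ⟨B, hB.of_dvd hd, fun x => ?_⟩
  obtain ⟨n, hn⟩ := hs x
  obtain ⟨u, rfl⟩ := hd
  refine ⟨n, ?_⟩
  rw [mul_pow, mul_comm, mul_smul]
  exact Submodule.smul_mem _ _ hn

/-- A module which is free away from `f` becomes free over `R_f` after localization. -/
theorem FreeAway'.free {f : R} (h : FreeAway' f M) (A : Type*) [CommRing A] [Algebra R A]
    [IsLocalization.Away f A] {M' : Type*} [AddCommGroup M'] [Module R M'] [Module A M']
    [IsScalarTower R A M'] (g : M →ₗ[R] M') [IsLocalizedModule (Submonoid.powers f) g] :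
    Module.Free A M' := by
  classical
  obtain ⟨B, hB, hs⟩ := h
  have hli : LinearIndependent A (g ∘ ((↑) : B → M)) := by
    rw [linearIndependent_iff']
    intro t c hc b hb
    obtain ⟨s, hs'⟩ := IsLocalization.exist_integer_multiples (Submonoid.powers f) t c
    have hch : ∀ i : B, ∃ r : R, i ∈ t → algebraMap R A r = (s : R) • c i := by
      intro i
      by_cases hi : i ∈ t
      · obtain ⟨r, hr⟩ := RingHom.mem_rangeS.mp (hs' i hi)
        exact ⟨r, fun _ => hr⟩
      · exact ⟨0, fun h => absurd h hi⟩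
    choose r hr using hch
    have h1 : g (∑ i ∈ t, r i • (i : M)) = 0 := by
      rw [map_sum]
      have hterm : ∀ i ∈ t, g (r i • (i : M)) = (s : R) • (c i • g (i : M)) := by
        intro i hi
        rw [map_smul, ← algebraMap_smul A (r i), hr i hi, smul_assoc]
      rw [Finset.sum_congr rfl hterm, ← Finset.smul_sum]
      have hc' : ∑ i ∈ t, c i • g (i : M) = 0 := hc
      rw [hc', smul_zero]
    obtain ⟨u, hu⟩ := (IsLocalizedModule.eq_zero_iff (Submonoid.powers f) g).mp h1
    have h2 : ∑ i ∈ t, ((u : R) * r i) • (i : M) = 0 := by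
      have h3 : (u : R) • ∑ i ∈ t, r i • (i : M) = 0 := hu
      rw [Finset.smul_sum] at h3
      rw [← h3]
      refine Finset.sum_congr rfl fun i _ => ?_
      rw [mul_smul]
    obtain ⟨k, hk⟩ := hB.finset t (fun i => (u : R) * r i) h2 b hb
    have h3 : algebraMap R A (r b) = 0 := by
      rw [IsLocalization.map_eq_zero_iff (Submonoid.powers f)]
      refine ⟨⟨f ^ k, k, rfl⟩ * u, ?_⟩
      rw [Submonoid.coe_mul, mul_assoc]
      exact hk
    rw [hr b hb, Algebra.smul_def] at h3
    exact ((IsLocalization.map_units A s).mul_right_eq_zero).mp h3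
  have hspan : ⊤ ≤ Submodule.span A (Set.range (g ∘ ((↑) : B → M))) := by
    intro x' _
    obtain ⟨⟨x, s⟩, hxs⟩ := IsLocalizedModule.surj (Submonoid.powers f) g x'
    obtain ⟨n, hn⟩ := hs x
    have h1 : g (f ^ n • x) ∈ Submodule.span A (Set.range (g ∘ ((↑) : B → M))) := by
      have : g (f ^ n • x) ∈ (Submodule.span R (B : Set M)).map g := Submodule.mem_map_of_mem hn
      rw [Submodule.map_span] at this
      have hle : Submodule.span R (g '' B) ≤
          (Submodule.span A (Set.range (g ∘ ((↑) : B → M)))).restrictScalars R := by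
        rw [Submodule.span_le]
        rintro _ ⟨b, hb, rfl⟩
        exact Submodule.subset_span ⟨⟨b, hb⟩, rfl⟩
      exact hle this
    have hu : IsUnit (algebraMap R A (f ^ n * (s : R))) := by
      rw [map_mul]
      exact (IsLocalization.map_units A (⟨f ^ n, n, rfl⟩ : Submonoid.powers f)).mul
        (IsLocalization.map_units A s)
    have h2 : algebraMap R A (f ^ n * (s : R)) • x' = g (f ^ n • x) := by
      rw [algebraMap_smul, mul_smul, map_smul, ← hxs]
      rfl
    rw [← h2] at h1
    have := Submodule.smul_mem _ (↑hu.unit⁻¹ : A) h1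
    rwa [smul_smul, IsUnit.val_inv_mul, one_smul] at this
  exact Module.Free.of_basis (Module.Basis.mk hli hspan)

/-- Splitting lemma for `FreeAway'`. -/
theorem FreeAway'.of_retract {f : R} {T Q : Type*} [AddCommGroup T] [Module R T] [AddCommGroup Q]
    [Module R Q] {ι : Type*} (v : ι → T) (hv : TorsIndep f v)
    (hs : ∀ x : T, ∃ n : ℕ, f ^ n • x ∈ Submodule.span R (Set.range v))
    (i : Q →ₗ[R] T) (π : T →ₗ[R] Q) (hπi : ∀ q, π (i q) = q)
    (hcase : ∀ b, v b ∈ Set.range i ∨ π (v b) = 0) : FreeAway' f Q := by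
  classical
  have hinj : Function.Injective i := fun a b hab => by rw [← hπi a, hab, hπi]
  set BQ : Set Q := {q | i q ∈ Set.range v} with hBQ
  have hch : ∀ q : BQ, ∃ b, v b = i q.1 := fun q => q.2
  choose j hj using hch
  have hjinj : Function.Injective j := by
    intro a b hab
    apply Subtype.ext
    apply hinj
    rw [← hj a, ← hj b, hab]
  refine ⟨BQ, ?_, ?_⟩
  · intro l hl q
    have h1 : Finsupp.linearCombination R v (Finsupp.mapDomain j l) = 0 := by
      rw [Finsupp.linearCombination_mapDomain]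
      have h2 : (v ∘ j) = i ∘ ((↑) : BQ → Q) := funext fun q => hj q
      rw [h2, ← Finsupp.apply_linearCombination, hl, map_zero]
    obtain ⟨k, hk⟩ := hv _ h1 (j q)
    rw [Finsupp.mapDomain_apply hjinj] at hk
    exact ⟨k, hk⟩
  · intro x
    obtain ⟨n, hn⟩ := hs (i x)
    refine ⟨n, ?_⟩
    have h1 : π (f ^ n • i x) ∈ (Submodule.span R (Set.range v)).map π :=
      Submodule.mem_map_of_mem hn
    rw [map_smul, hπi, Submodule.map_span] at h1
    refine (Submodule.span_le.mpr ?_) h1
    rintro _ ⟨_, ⟨b, rfl⟩, rfl⟩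
    rcases hcase b with ⟨q, hq⟩ | h0
    · rw [← hq, hπi]
      exact Submodule.subset_span (show i q ∈ Set.range v from ⟨b, hq.symm⟩)
    · rw [h0]; exact Submodule.zero_mem _

end freeAway

end Groth.Agent.Lib.R2Lead.GenFreeRed
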