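import Mathlib
import Groth.Agent.Lib.Helper24GB
import Groth.Agent.Lib.Helper2GenFree
import Groth.Agent.Lib.R2LeadGenFreeRed

/-!
# Generic freeness over a reduced ring: modules, wrap-up and `awayMap`
-/

set_option autoImplicit false

namespace Groth.Agent.Lib.R2Lead.GenFreeRed

open MvPolynomial MonomialOrder TrivSqZeroExt TensorProduct
open scoped MonomialOrder
open Groth.Agent.Lib.Helper24GB
open Groth.Agent.Lib.Helper2.GenFree

section module

variable {R : Type*} [CommRing R] [IsReduced R] {S : Type*} [CommRing S] [Algebra R S]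
  {M : Type*} [AddCommGroup M] [Module S M] [Module R M] [IsScalarTower R S M]
  [Module Sᵐᵒᵖ M] [IsCentralScalar S M]

theorem exists_module_data_red {n r : ℕ} (φS : MvPolynomial (Fin n) R →ₐ[R] S)
    (hφS : Function.Surjective φS) (mgen : Fin r → M)
    (hgen : Submodule.span S (Set.range mgen) = ⊤) (g : R) (hg : g ≠ 0) :
    ∃ f : R, g ∣ f ∧ f ≠ 0 ∧ FreeAway' f S ∧ FreeAway' f M ∧
      ∃ V : Finset (Fin r → S), (∀ a ∈ V, ∑ j, a j • mgen j = 0) ∧
        ∀ a : Fin r → S, ∑ j, a j • mgen j = 0 →
          ∃ k : ℕ, f ^ k • a ∈ Submodule.span S (V : Set (Fin r → S)) := by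
  classical
  -- the universal and the actual trivial square zero extensions
  let π : (Fin r → S) →ₗ[S] M := Fintype.linearCombination S mgen
  have hπ : ∀ a, π a = ∑ j, a j • mgen j := fun a => Fintype.linearCombination_apply S mgen a
  have hπsurj : Function.Surjective π := by
    rw [← LinearMap.range_eq_top, Fintype.range_linearCombination, hgen]
  let ρ : TrivSqZeroExt S (Fin r → S) →ₐ[S] TrivSqZeroExt S M := TrivSqZeroExt.map π
  let c₀ : R →+* TrivSqZeroExt S (Fin r → S) := (inlHom S (Fin r → S)).comp (algebraMap R S)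
  let gens : Fin (n + r) → TrivSqZeroExt S (Fin r → S) :=
    Fin.addCases (fun i => inl (φS (X i))) (fun j => inr (Pi.single j 1))
  let φu : MvPolynomial (Fin (n + r)) R →+* TrivSqZeroExt S (Fin r → S) := eval₂Hom c₀ gens
  let φ' : MvPolynomial (Fin (n + r)) R →+* TrivSqZeroExt S M := (ρ : _ →+* _).comp φu
  have hφuC : ∀ c : R, φu (C c) = inl (algebraMap R S c) := fun c => by
    simp [φu, c₀]
  have hφuXl : ∀ i : Fin n, φu (X (Fin.castAdd r i)) = inl (φS (X i)) := fun i => by
    simp [φu, gens]
  have hφuXr : ∀ j : Fin r, φu (X (Fin.natAdd n j)) = inr (Pi.single j 1) := fun j => by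
    simp [φu, gens]
  have hlinu : ∀ (c : R) (p : MvPolynomial (Fin (n + r)) R), φu (c • p) = c • φu p := by
    intro c p
    rw [smul_eq_C_mul, map_mul, hφuC, inl_mul_eq_smul, tsze_algebraMap_smul]
  have hρlin : ∀ (c : R) (z : TrivSqZeroExt S (Fin r → S)), ρ (c • z) = c • ρ z := by
    intro c z
    rw [← tsze_algebraMap_smul, map_smul, tsze_algebraMap_smul]
  have hlin' : ∀ (c : R) (p : MvPolynomial (Fin (n + r)) R), φ' (c • p) = c • φ' p := by
    intro c p
    change ρ (φu (c • p)) = c • ρ (φu p)
    rw [hlinu, hρlin]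
  -- `φu` restricted to the first block of variables
  have h_inl : ∀ p : MvPolynomial (Fin n) R, φu (rename (Fin.castAdd r) p) = inl (φS p) := by
    intro p
    have : (φu.comp (rename (Fin.castAdd r) : MvPolynomial (Fin n) R →ₐ[R] _).toRingHom) =
        (inlHom S (Fin r → S)).comp φS.toRingHom := by
      apply MvPolynomial.ringHom_ext
      · intro c
        simp only [RingHom.coe_comp, Function.comp_apply, AlgHom.toRingHom_eq_coe, RingHom.coe_coe,
          rename_C, hφuC, inlHom_apply]
        rw [← MvPolynomial.algebraMap_eq, AlgHom.commutes]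
      · intro i
        simp only [RingHom.coe_comp, Function.comp_apply, AlgHom.toRingHom_eq_coe, RingHom.coe_coe,
          rename_X, hφuXl, inlHom_apply]
    exact congrArg (fun h => h p) this
  have hφusurj : Function.Surjective φu := by
    intro z
    obtain ⟨p, hp⟩ := hφS z.fst
    choose q hq using fun j => hφS (z.snd j)
    refine ⟨rename (Fin.castAdd r) p + ∑ j, rename (Fin.castAdd r) (q j) * X (Fin.natAdd n j), ?_⟩
    rw [map_add, map_sum, h_inl, hp]
    have : ∀ j, φu (rename (Fin.castAdd r) (q j) * X (Fin.natAdd n j)) =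
        inr (Pi.single j (z.snd j)) := by
      intro j
      rw [map_mul, h_inl, hφuXr, hq, inl_mul_inr]
      congr 1
      ext k
      simp [Pi.single_apply]
    simp_rw [this]
    rw [← inr_sum]
    apply TrivSqZeroExt.ext
    · simp
    · simp only [snd_add, snd_inl, snd_inr, zero_add]
      ext k
      simp [Finset.sum_apply, Pi.single_apply]
  have hρsurj : Function.Surjective ρ := by
    intro z
    obtain ⟨a, ha⟩ := hπsurj z.snd
    refine ⟨inl z.fst + inr a, ?_⟩
    apply TrivSqZeroExt.ext
    · simp [ρ]
    · simp [ρ, ha]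
  have hφ'surj : Function.Surjective φ' := hρsurj.comp hφusurj
  -- Gröbner data
  obtain ⟨f, G, hgf, hf, hG0, hLI, hspan, hker⟩ :=
    exists_data_red (MonomialOrder.lex) φ' hlin' g hg
  -- each standard monomial lands in `inl S` or `inr M`
  have hcases : ∀ b : Fin (n + r) →₀ ℕ, (∃ s : S, φ' (monomial b 1) = inl s) ∨
      (∃ x : M, φ' (monomial b 1) = inr x) := by
    intro b
    by_cases h : ∃ j : Fin r, b (Fin.natAdd n j) ≠ 0
    · right
      obtain ⟨j, hj⟩ := h
      have hle : Finsupp.single (Fin.natAdd n j) 1 ≤ b := by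
        rw [Finsupp.single_le_iff]
        exact Nat.one_le_iff_ne_zero.mpr hj
      have hb : b = Finsupp.single (Fin.natAdd n j) 1 + (b - Finsupp.single (Fin.natAdd n j) 1) :=
        (add_tsub_cancel_of_le hle).symm
      rw [hb, monomial_single_add, pow_one, map_mul]
      change ∃ x, ρ (φu (X (Fin.natAdd n j))) * _ = inr x
      rw [hφuXr]
      simp only [ρ, map_inr]
      rw [tsze_inr_mul]
      exact ⟨_, rfl⟩
    · left
      push Not at h
      have hmem : φ' (monomial b 1) ∈ (inlHom S M).range := by
        rw [monomial_eq, map_mul, map_finsuppProd]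
        refine Subring.mul_mem _ ?_ (Subring.prod_mem _ fun k _ => ?_)
        · rw [C_1, map_one]; exact Subring.one_mem _
        · change φ' (X k ^ b k) ∈ _
          refine Fin.addCases (fun i => ?_) (fun j => ?_) k
          · rw [map_pow]
            refine Subring.pow_mem _ ?_ _
            refine ⟨φS (X i), ?_⟩
            change _ = ρ (φu (X (Fin.castAdd r i)))
            rw [hφuXl]
            simp [ρ, map_inl]
          · rw [h j, pow_zero, map_one]
            exact Subring.one_mem _
      obtain ⟨s, hs⟩ := hmem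
      exact ⟨s, hs.symm⟩
  have hsT : ∀ x : TrivSqZeroExt S M, ∃ k : ℕ, f ^ k • x ∈ Submodule.span R
      (Set.range fun b : Std MonomialOrder.lex (G : Set (MvPolynomial (Fin (n + r)) R)) =>
        φ' (monomial b.1 1)) := by
    intro x
    obtain ⟨p, rfl⟩ := hφ'surj x
    exact hspan p
  -- linear maps in and out of the extension
  let iS : S →ₗ[R] TrivSqZeroExt S M :=
    { toFun := inl, map_add' := inl_add M, map_smul' := fun c s => inl_smul M c s }
  let pS : TrivSqZeroExt S M →ₗ[R] S :=
    { toFun := fst, map_add' := fst_add, map_smul' := fun c z => fst_smul c z }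
  let iM : M →ₗ[R] TrivSqZeroExt S M :=
    { toFun := inr, map_add' := inr_add S, map_smul' := fun c x => inr_smul S c x }
  let pM : TrivSqZeroExt S M →ₗ[R] M :=
    { toFun := snd, map_add' := snd_add, map_smul' := fun c z => snd_smul c z }
  have hFS : FreeAway' f S := by
    refine FreeAway'.of_retract _ hLI hsT iS pS (fun s => fst_inl M s) fun b => ?_
    rcases hcases b.1 with ⟨s, hs⟩ | ⟨x, hx⟩
    · exact Or.inl ⟨s, hs.symm⟩
    · right
      change (φ' (monomial b.1 1)).fst = 0
      rw [hx, fst_inr]
  have hFM : FreeAway' f M := by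
    refine FreeAway'.of_retract _ hLI hsT iM pM (fun x => snd_inr S x) fun b => ?_
    rcases hcases b.1 with ⟨s, hs⟩ | ⟨x, hx⟩
    · right
      change (φ' (monomial b.1 1)).snd = 0
      rw [hs, snd_inl]
    · exact Or.inl ⟨x, hx.symm⟩
  refine ⟨f, hgf, hf, hFS, hFM, G.image (fun g => (φu g).snd), ?_, ?_⟩
  · intro a ha
    obtain ⟨g, hg, rfl⟩ := Finset.mem_image.mp ha
    have h0 : ρ (φu g) = 0 := hG0 g hg
    have := congrArg snd h0
    rw [snd_map, snd_zero, hπ] at this
    exact this
  · intro a ha
    obtain ⟨y, hy⟩ := hφusurj (inr a)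
    have hy' : φ' y = 0 := by
      change ρ (φu y) = 0
      rw [hy]
      simp only [ρ, map_inr]
      rw [hπ, ha, inr_zero]
    obtain ⟨k, hk⟩ := hker y hy'
    refine ⟨k, ?_⟩
    have key : ∀ p ∈ Ideal.span (G : Set (MvPolynomial (Fin (n + r)) R)),
        (φu p).fst = 0 ∧ (φu p).snd ∈ Submodule.span S
          ((G.image (fun g => (φu g).snd) : Finset (Fin r → S)) : Set (Fin r → S)) := by
      intro p hp
      induction hp using Submodule.span_induction with
      | mem g hg =>
        refine ⟨?_, Submodule.subset_span (Finset.mem_coe.mpr (Finset.mem_image_of_mem _ hg))⟩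
        have h0 : ρ (φu g) = 0 := hG0 g hg
        have := congrArg fst h0
        rwa [fst_map, fst_zero] at this
      | zero => simp
      | add p q _ _ hp hq =>
        refine ⟨by rw [map_add, fst_add, hp.1, hq.1, add_zero], ?_⟩
        rw [map_add, snd_add]
        exact Submodule.add_mem _ hp.2 hq.2
      | smul q p _ hp =>
        rw [smul_eq_mul, map_mul]
        refine ⟨by rw [fst_mul, hp.1, mul_zero], ?_⟩
        rw [tsze_snd_mul, hp.1, zero_smul, add_zero]
        exact Submodule.smul_mem _ _ hp.2
    have := (key _ hk).2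
    rwa [hlinu, snd_smul, hy, snd_inr] at this

end module

section wrap

/-- **Generic freeness over a reduced ring** (witness form): for a reduced ring `R`, a finite type
`R`-algebra `S`, a finite `S`-module `M` and a nonzero `g : R` there is a nonzero multiple `f` of
`g` such that `S` and `M` are free away from `f`; moreover the kernel of a presentation of `S`
(resp. of `M`) is finitely generated up to powers of `f`. -/
theorem exists_freeAway_red (R : Type*) [CommRing R] [IsReduced R] (S : Type*) [CommRing S]
    [Algebra R S] [Algebra.FiniteType R S] (M : Type*) [AddCommGroup M] [Module S M] [Module R M]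
    [IsScalarTower R S M] [Module.Finite S M] (g : R) (hg : g ≠ 0) :
    ∃ f : R, g ∣ f ∧ f ≠ 0 ∧ FreeAway' f S ∧ FreeAway' f M ∧
      (∃ (n : ℕ) (φ : MvPolynomial (Fin n) R →ₐ[R] S) (G : Finset (MvPolynomial (Fin n) R)),
        Function.Surjective φ ∧ (∀ g ∈ G, φ g = 0) ∧
        ∀ p, φ p = 0 → ∃ k : ℕ, f ^ k • p ∈ Ideal.span (G : Set (MvPolynomial (Fin n) R))) ∧
      (∃ (r : ℕ) (mgen : Fin r → M) (V : Finset (Fin r → S)),
        Submodule.span S (Set.range mgen) = ⊤ ∧ (∀ a ∈ V, ∑ j, a j • mgen j = 0) ∧
        ∀ a : Fin r → S, ∑ j, a j • mgen j = 0 →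
          ∃ k : ℕ, f ^ k • a ∈ Submodule.span S (V : Set (Fin r → S))) := by
  classical
  letI : Module Sᵐᵒᵖ M := Module.compHom M ((RingHom.id S).fromOpposite fun _ _ => mul_comm _ _)
  haveI : IsCentralScalar S M := ⟨fun s m => rfl⟩
  obtain ⟨n, φ, hφ⟩ := Algebra.FiniteType.iff_quotient_mvPolynomial''.mp
    (inferInstance : Algebra.FiniteType R S)
  obtain ⟨r, mgen, hgen⟩ := Module.Finite.exists_fin (R := S) (M := M)
  obtain ⟨f₁, G, hgf₁, hf₁, hG0, -, -, hker⟩ := exists_data_red (MonomialOrder.lex) φ.toRingHom
    (fun c p => map_smul φ c p) g hg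
  obtain ⟨f₂, hf₁₂, hf₂, hS, hM, V, hV0, hV⟩ := exists_module_data_red φ hφ mgen hgen f₁ hf₁
  refine ⟨f₂, hgf₁.trans hf₁₂, hf₂, hS, hM,
    ⟨n, φ, G, hφ, hG0, fun p hp => ?_⟩, ⟨r, mgen, V, hgen, hV0, hV⟩⟩
  obtain ⟨k, hk⟩ := hker p hp
  obtain ⟨u, rfl⟩ := hf₁₂
  refine ⟨k, ?_⟩
  rw [mul_pow, mul_comm, mul_smul]
  exact Submodule.smul_of_tower_mem _ _ hk

end wrap

section awayMap

attribute [local instance] Algebra.TensorProduct.rightAlgebra in
/-- Finite presentation of `R_f → S_f` from that of `R_f → R_f ⊗[R] S`. -/
theorem awayMap_finitePresentation {R S : Type*} [CommRing R] [CommRing S] [Algebra R S] (f : R)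
    (h : Algebra.FinitePresentation (Localization.Away f) (Localization.Away f ⊗[R] S)) :
    (Localization.awayMap (algebraMap R S) f).FinitePresentation := by
  let e : Localization.Away f ⊗[R] S ≃ₐ[S] Localization.Away (algebraMap R S f) :=
    IsLocalization.Away.tensorRightEquiv S f (Localization.Away f)
  have hcomm : ∀ a : Localization.Away f,
      e (a ⊗ₜ[R] (1 : S)) = Localization.awayMap (algebraMap R S) f a := by
    intro a
    have hh : ((e : Localization.Away f ⊗[R] S →+* Localization.Away (algebraMap R S f)).comp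
        (Algebra.TensorProduct.includeLeftRingHom :
          Localization.Away f →+* Localization.Away f ⊗[R] S)) =
        Localization.awayMap (algebraMap R S) f := by
      apply IsLocalization.ringHom_ext (Submonoid.powers f)
      ext r
      have h1 : (algebraMap R (Localization.Away f) r) ⊗ₜ[R] (1 : S) =
          algebraMap S (Localization.Away f ⊗[R] S) (algebraMap R S r) := by
        rw [Algebra.TensorProduct.right_algebraMap_apply, Algebra.algebraMap_eq_smul_one,
          TensorProduct.smul_tmul, ← Algebra.algebraMap_eq_smul_one]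
      have h2 : Localization.awayMap (algebraMap R S) f (algebraMap R (Localization.Away f) r) =
          algebraMap S (Localization.Away (algebraMap R S f)) (algebraMap R S r) := by
        rw [Localization.awayMap, IsLocalization.Away.map, IsLocalization.map_eq]
      show e ((algebraMap R (Localization.Away f) r) ⊗ₜ[R] (1 : S)) =
        Localization.awayMap (algebraMap R S) f (algebraMap R (Localization.Away f) r)
      rw [h1, h2, AlgEquiv.commutes]
    exact congrArg (fun h => h a) hh
  letI algB : Algebra (Localization.Away f) (Localization.Away (algebraMap R S f)) :=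
    (Localization.awayMap (algebraMap R S) f).toAlgebra
  let e' : Localization.Away f ⊗[R] S ≃ₐ[Localization.Away f]
      Localization.Away (algebraMap R S f) :=
    { e.toRingEquiv with
      commutes' := fun a => by
        show e (algebraMap (Localization.Away f) (Localization.Away f ⊗[R] S) a) =
          Localization.awayMap (algebraMap R S) f a
        rw [Algebra.TensorProduct.algebraMap_apply, Algebra.algebraMap_self, RingHom.id_apply]
        exact hcomm a }
  exact Algebra.FinitePresentation.equiv e'

end awayMap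

section key

/-- The local statement behind generic freeness over a reduced ring. -/
theorem key (R : Type*) [CommRing R] [IsReduced R] (S : Type*) [CommRing S]
    [Algebra R S] [Algebra.FiniteType R S] (M : Type*) [AddCommGroup M] [Module S M] [Module R M]
    [IsScalarTower R S M] [Module.Finite S M] (g : R) (hg : g ≠ 0) :
    ∃ f : R, g ∣ f ∧ f ≠ 0 ∧
      Module.Free (Localization.Away f) (LocalizedModule (Submonoid.powers f) M) ∧
      Module.Free (Localization.Away f) (LocalizedModule (Submonoid.powers f) S) ∧
      (Localization.awayMap (algebraMap R S) f).FinitePresentation ∧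
      Module.FinitePresentation (Localization.Away (algebraMap R S f))
        (LocalizedModule (Submonoid.powers (algebraMap R S f)) M) := by
  classical
  obtain ⟨f, hgf, hf, hS, hM, ⟨n, φ, G, hφ, hG0, hker⟩, ⟨r, mgen, V, hgen, hV0, hV⟩⟩ :=
    exists_freeAway_red R S M g hg
  refine ⟨f, hgf, hf, ?_, ?_, ?_, ?_⟩
  · exact hM.free (Localization.Away f) (LocalizedModule.mkLinearMap (Submonoid.powers f) M)
  · exact hS.free (Localization.Away f) (LocalizedModule.mkLinearMap (Submonoid.powers f) S)
  · exact awayMap_finitePresentation f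
      (finitePresentation_tensor φ hφ f G hG0 hker (Localization.Away f))
  · refine finitePresentation_localizedModule (algebraMap R S f) mgen hgen V hV0 fun a ha => ?_
    obtain ⟨k, hk⟩ := hV a ha
    refine ⟨k, ?_⟩
    rw [← map_pow, algebraMap_smul]
    exact hk

end key

end Groth.Agent.Lib.R2Lead.GenFreeRed
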