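import Mathlib
import Groth.Agent.Lib.R2LeadGenFreeRed2

/-!
# Generic freeness over a reduced ring: model independent form for localisation maps,
and finite families of ring maps.
-/

set_option autoImplicit false
universe u

namespace Groth.Agent.Lib.R2Lead.GenFreeRed

open TensorProduct
open Groth.Agent.Lib.Helper2.GenFree

section props

attribute [local instance] Algebra.TensorProduct.rightAlgebra in
/-- Flatness and finite presentation of `R_f → S_f` (any models of the localisations) from those of
`R_f → R_f ⊗[R] S`. -/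
theorem away_map_props {R S : Type*} [CommRing R] [CommRing S] [Algebra R S] (f : R)
    (A : Type*) [CommRing A] [Algebra R A] [IsLocalization.Away f A]
    (B' : Type*) [CommRing B'] [Algebra S B'] [IsLocalization.Away (algebraMap R S f) B']
    (hfp : Algebra.FinitePresentation A (A ⊗[R] S)) (hflat : Module.Flat A (A ⊗[R] S)) :
    (IsLocalization.Away.map A B' (algebraMap R S) f).Flat ∧
      (IsLocalization.Away.map A B' (algebraMap R S) f).FinitePresentation := by
  let e : A ⊗[R] S ≃ₐ[S] B' :=
    IsLocalization.algEquiv (Submonoid.powers (algebraMap R S f)) (A ⊗[R] S) B'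
  have hcomm : ∀ a : A,
      e (a ⊗ₜ[R] (1 : S)) = IsLocalization.Away.map A B' (algebraMap R S) f a := by
    intro a
    have hh : ((e : A ⊗[R] S →+* B').comp
        (Algebra.TensorProduct.includeLeftRingHom : A →+* A ⊗[R] S)) =
        IsLocalization.Away.map A B' (algebraMap R S) f := by
      apply IsLocalization.ringHom_ext (Submonoid.powers f)
      ext r
      have h1 : (algebraMap R A r) ⊗ₜ[R] (1 : S) =
          algebraMap S (A ⊗[R] S) (algebraMap R S r) := by
        rw [Algebra.TensorProduct.right_algebraMap_apply, Algebra.algebraMap_eq_smul_one,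
          TensorProduct.smul_tmul, ← Algebra.algebraMap_eq_smul_one]
      have h2 : IsLocalization.Away.map A B' (algebraMap R S) f (algebraMap R A r) =
          algebraMap S B' (algebraMap R S r) := by
        rw [IsLocalization.Away.map, IsLocalization.map_eq]
      show e ((algebraMap R A r) ⊗ₜ[R] (1 : S)) =
        IsLocalization.Away.map A B' (algebraMap R S) f (algebraMap R A r)
      rw [h1, h2, AlgEquiv.commutes]
    exact congrArg (fun h => h a) hh
  letI algB : Algebra A B' := (IsLocalization.Away.map A B' (algebraMap R S) f).toAlgebra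
  let e' : A ⊗[R] S ≃ₐ[A] B' :=
    { e.toRingEquiv with
      commutes' := fun a => by
        show e (algebraMap A (A ⊗[R] S) a) = IsLocalization.Away.map A B' (algebraMap R S) f a
        rw [Algebra.TensorProduct.algebraMap_apply, Algebra.algebraMap_self, RingHom.id_apply]
        exact hcomm a }
  refine ⟨?_, Algebra.FinitePresentation.equiv e'⟩
  show Module.Flat A B'
  exact Module.Flat.of_linearEquiv e'.toLinearEquiv.symm

end props

section good

/-- `R_F → B_{φ F}` is flat and finitely presented, for all models of the localisations. -/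
def GoodAt {R B : Type u} [CommRing R] [CommRing B] (φ : R →+* B) (F : R) : Prop :=
  ∀ (R' B' : Type u) [CommRing R'] [CommRing B'] [Algebra R R'] [Algebra B B']
    [IsLocalization.Away F R'] [IsLocalization.Away (φ F) B'],
    (IsLocalization.Away.map R' B' φ F).Flat ∧
      (IsLocalization.Away.map R' B' φ F).FinitePresentation

theorem exists_goodAt {R B : Type u} [CommRing R] [IsReduced R] [CommRing B] (φ : R →+* B)
    (hφ : φ.FiniteType) (g : R) (hg : g ≠ 0) :
    ∃ F : R, g ∣ F ∧ F ≠ 0 ∧ ∀ F', F ∣ F' → GoodAt φ F' := by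
  classical
  letI : Algebra R B := φ.toAlgebra
  haveI : Algebra.FiniteType R B := hφ
  obtain ⟨f, hgf, hf, hS, -, ⟨n, ψ, G, hψ, hG0, hker⟩, -⟩ := exists_freeAway_red R B B g hg
  refine ⟨f, hgf, hf, ?_⟩
  intro F' hF' R' B' _ _ _ _ hR' hB'
  have hS' := hS.of_dvd hF'
  have hker' : ∀ p, ψ p = 0 →
      ∃ k : ℕ, F' ^ k • p ∈ Ideal.span (G : Set (MvPolynomial (Fin n) R)) := by
    intro p hp
    obtain ⟨k, hk⟩ := hker p hp
    obtain ⟨u, rfl⟩ := hF'
    refine ⟨k, ?_⟩
    rw [mul_pow, mul_comm, mul_smul]
    exact Submodule.smul_of_tower_mem _ _ hk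
  haveI hfree : Module.Free R' (R' ⊗[R] B) := hS'.free R' (TensorProduct.mk R R' B 1)
  have hfp := finitePresentation_tensor ψ hψ F' G hG0 hker' R'
  haveI : IsLocalization.Away (algebraMap R B F') B' := hB'
  exact away_map_props F' R' B' hfp inferInstance

theorem exists_goodAt_family {R : Type u} [CommRing R] [IsReduced R] {ι : Type*} (s : Finset ι)
    (B : ι → Type u) [∀ i, CommRing (B i)] (φ : ∀ i, R →+* B i)
    (hφ : ∀ i ∈ s, (φ i).FiniteType) (g : R) (hg : g ≠ 0) :
    ∃ F : R, g ∣ F ∧ F ≠ 0 ∧ ∀ i ∈ s, ∀ F', F ∣ F' → GoodAt (φ i) F' := by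
  classical
  induction s using Finset.induction_on with
  | empty => exact ⟨g, dvd_rfl, hg, fun i hi => absurd hi (Finset.notMem_empty i)⟩
  | insert a s ha ih =>
    obtain ⟨F₁, hgF₁, hF₁, h₁⟩ := ih (fun i hi => hφ i (Finset.mem_insert_of_mem hi))
    obtain ⟨F₂, hF₁₂, hF₂, h₂⟩ :=
      exists_goodAt (φ a) (hφ a (Finset.mem_insert_self a s)) F₁ hF₁
    refine ⟨F₂, hgF₁.trans hF₁₂, hF₂, fun i hi F' hF' => ?_⟩
    rcases Finset.mem_insert.mp hi with rfl | hi'
    · exact h₂ F' hF'
    · exact h₁ i hi' F' (hF₁₂.trans hF')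

end good

end Groth.Agent.Lib.R2Lead.GenFreeRed
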