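import Mathlib
import Groth.Prelude.Def_EGA4b
import Groth.Agent.Lib.Helper26StalkLim
import Groth.Agent.Lib.R2H3ProperDesc
import Groth.Agent.Lib.Helper12Descent
import Groth.Agent.Lib.Helper19Jacobson
import Groth.Agent.Lib.Helper6LfpComp

/-!
# Spreading out properness from the completed local ring (lead)
-/

set_option autoImplicit false
universe u
open CategoryTheory Limits AlgebraicGeometry TopologicalSpace Opposite

namespace Groth.Agent.Lib.R2LeadNhdProper

open Groth.Agent.Lib.Helper26.StalkLim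

/-- If `f'` is a base change of `f` along `h`, and `f''` is a base change of `f` along `k ≫ h`,
then `f''` is a base change of `f'` along `k`. -/
theorem isProper_of_factors {X Y X' Y' X'' Y'' : Scheme.{u}} (f : X ⟶ Y) (h : Y' ⟶ Y)
    (f' : X' ⟶ Y') (p : X' ⟶ X) (hpb : IsPullback p f' f h) [IsProper f'] (k : Y'' ⟶ Y')
    (f'' : X'' ⟶ Y'') (p'' : X'' ⟶ X) (hpb'' : IsPullback p'' f'' f (k ≫ h)) : IsProper f'' := by
  let l : X'' ⟶ X' := hpb.lift p'' (f'' ≫ k) (by rw [Category.assoc, hpb''.w])
  have hl1 : l ≫ p = p'' := hpb.lift_fst _ _ _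
  have hl2 : l ≫ f' = f'' ≫ k := hpb.lift_snd _ _ _
  have : IsPullback l f'' f' k := by
    refine IsPullback.of_right ?_ hl2 hpb
    rw [hl1]
    exact hpb''
  exact MorphismProperty.of_isPullback (P := @IsProper) this inferInstance

/-- fpqc descent of properness from the completion of a Noetherian local ring. -/
theorem isProper_of_completion {A : CommRingCat.{u}} [IsLocalRing A] [IsNoetherianRing A]
    {X Y : Scheme.{u}} (f : X ⟶ Y) (g : Y ⟶ Spec A)
    {X' Y' : Scheme.{u}} (f' : X' ⟶ Y') (g' : Y' ⟶ Spec (CommRingCat.of (EGA4.Cpl A)))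
    (qY : Y' ⟶ Y) (qX : X' ⟶ X)
    (hY : IsPullback qY g' g (Spec.map (CommRingCat.ofHom (algebraMap A (EGA4.Cpl A)))))
    (hX : IsPullback qX f' f qY) [IsProper f'] : IsProper f := by
  have hff : Module.FaithfullyFlat A (EGA4.Cpl A) := by
    apply Groth.Agent.Lib.Helper19.faithfullyFlat_adicCompletion_of_le_jacobson
    apply Groth.Agent.Lib.Helper19.le_jacobson_bot_of_forall_maximal
    intro m hm
    rw [IsLocalRing.eq_maximalIdeal hm]
  have h1 := (flat_and_surjective_SpecMap_iff
    (CommRingCat.ofHom (algebraMap A (EGA4.Cpl A)))).mpr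
    ((RingHom.faithfullyFlat_algebraMap_iff).mpr hff)
  have hfl : Flat (Spec.map (CommRingCat.ofHom (algebraMap A (EGA4.Cpl A)))) := h1.1
  have hsj : Surjective (Spec.map (CommRingCat.ofHom (algebraMap A (EGA4.Cpl A)))) := h1.2
  have hflq : Flat qY := MorphismProperty.of_isPullback (P := @Flat) hY.flip inferInstance
  have hsjq : Surjective qY := MorphismProperty.of_isPullback (P := @Surjective) hY.flip inferInstance
  have hqcq : QuasiCompact qY :=
    MorphismProperty.of_isPullback (P := @QuasiCompact) hY.flip inferInstance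
  have := Groth.Agent.Lib.Helper12.descendsAlong_isProper.{u}
  exact MorphismProperty.of_isPullback_of_descendsAlong (P := @IsProper)
    (Q := (@Surjective ⊓ @Flat ⊓ @QuasiCompact : MorphismProperty Scheme.{u}))
    hX.flip ⟨⟨hsjq, hflq⟩, hqcq⟩ inferInstance


section paste

variable {X Y S T T' : Scheme.{u}} (f : X ⟶ Y) (g : Y ⟶ S) (b : T ⟶ S) (c : T' ⟶ T)

/-- comparison of base changes of `Y` -/
noncomputable def qY : pullback g (c ≫ b) ⟶ pullback g b :=
  pullback.lift (pullback.fst g (c ≫ b)) (pullback.snd g (c ≫ b) ≫ c)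
    (by rw [Category.assoc, pullback.condition])

lemma qY_fst : qY g b c ≫ pullback.fst g b = pullback.fst g (c ≫ b) := pullback.lift_fst _ _ _

lemma qY_snd : qY g b c ≫ pullback.snd g b = pullback.snd g (c ≫ b) ≫ c :=
  pullback.lift_snd _ _ _

lemma isPullback_qY :
    IsPullback (qY g b c) (pullback.snd g (c ≫ b)) (pullback.snd g b) c := by
  refine IsPullback.of_right ?_ (qY_snd g b c) (IsPullback.of_hasPullback g b)
  rw [qY_fst]
  exact IsPullback.of_hasPullback g (c ≫ b)

/-- comparison of base changes of `X` -/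
noncomputable def qX : pullback f (pullback.fst g (c ≫ b)) ⟶ pullback f (pullback.fst g b) :=
  pullback.lift (pullback.fst f _) (pullback.snd f _ ≫ qY g b c)
    (by rw [Category.assoc, qY_fst, pullback.condition])

lemma isPullback_qX :
    IsPullback (qX f g b c) (pullback.snd f (pullback.fst g (c ≫ b)))
      (pullback.snd f (pullback.fst g b)) (qY g b c) := by
  refine IsPullback.of_right ?_ (pullback.lift_snd _ _ _)
    (IsPullback.of_hasPullback f (pullback.fst g b))
  rw [show qX f g b c ≫ pullback.fst f (pullback.fst g b) = pullback.fst f _ from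
    pullback.lift_fst _ _ _, qY_fst]
  exact IsPullback.of_hasPullback f _

end paste

/-- Step 1 in pullback form. -/
theorem step1 {A : CommRingCat.{u}} [IsLocalRing A] [IsNoetherianRing A]
    {X Y S : Scheme.{u}} (f : X ⟶ Y) (g : Y ⟶ S) (b : Spec A ⟶ S)
    (hR : IsProper (pullback.snd f (pullback.fst g
      (Spec.map (CommRingCat.ofHom (algebraMap A (EGA4.Cpl A))) ≫ b)))) :
    IsProper (pullback.snd f (pullback.fst g b)) :=
  isProper_of_completion (pullback.snd f (pullback.fst g b)) (pullback.snd g b)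
    (pullback.snd f (pullback.fst g
      (Spec.map (CommRingCat.ofHom (algebraMap A (EGA4.Cpl A))) ≫ b)))
    (pullback.snd g _) (qY g b _) (qX f g b _) (isPullback_qY g b _) (isPullback_qX f g b _)

theorem main (S : Scheme.{u}) [CompactSpace S]
    (hS : ∀ U : S.affineOpens, EGA4.IsExcellent Γ(S, U.1))
    {X Y : Scheme.{u}} (f : X ⟶ Y) (g : Y ⟶ S)
    [QuasiCompact g] [QuasiSeparated g] [LocallyOfFinitePresentation g]
    [QuasiCompact (f ≫ g)] [QuasiSeparated (f ≫ g)] [LocallyOfFinitePresentation (f ≫ g)]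
    (s : S)
    (hR : IsProper (Limits.pullback.snd f (Limits.pullback.fst g
      (Spec.map (CommRingCat.ofHom (algebraMap (S.presheaf.stalk s)
        (EGA4.Cpl (S.presheaf.stalk s)))) ≫ S.fromSpecStalk s)))) :
    ∃ W : S.Opens, s ∈ W ∧ IsProper (f ∣_ (g ⁻¹ᵁ W)) := by
  have : IsLocallyNoetherian S := ⟨fun U => (hS U).1⟩
  have : IsNoetherianRing (S.presheaf.stalk s) := inferInstance
  haveI : IsFiltered (AffNhd s) := isFiltered_of_directed_le_nonempty _
  obtain ⟨i₀⟩ : Nonempty (AffNhd s)ᵒᵖ := inferInstance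
  have hπ : (specCone s).π.app i₀ ≫ toX s i₀ = S.fromSpecStalk s := π_toX s i₀
  rw [← hπ] at hR
  have hA : IsProper (pullback.snd f (pullback.fst g ((specCone s).π.app i₀ ≫ toX s i₀))) :=
    step1 (A := S.presheaf.stalk s) f g ((specCone s).π.app i₀ ≫ toX s i₀) hR
  have : CompactSpace ↥(pullback g (toX s i₀)) :=
    QuasiCompact.compactSpace_of_compactSpace (pullback.snd g (toX s i₀))
  have : QuasiSeparatedSpace ↥(pullback g (toX s i₀)) :=
    quasiSeparatedSpace_of_quasiSeparated (pullback.snd g (toX s i₀))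
  have hX₀ : IsPullback (pullback.fst f (pullback.fst g (toX s i₀)))
      (pullback.snd f (pullback.fst g (toX s i₀)) ≫ pullback.snd g (toX s i₀)) (f ≫ g)
      (toX s i₀) :=
    (IsPullback.of_hasPullback f (pullback.fst g (toX s i₀))).paste_vert
      (IsPullback.of_hasPullback g (toX s i₀))
  have : QuasiCompact
      (pullback.snd f (pullback.fst g (toX s i₀)) ≫ pullback.snd g (toX s i₀)) :=
    MorphismProperty.of_isPullback (P := @QuasiCompact) hX₀ inferInstance
  have : QuasiSeparated
      (pullback.snd f (pullback.fst g (toX s i₀)) ≫ pullback.snd g (toX s i₀)) :=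
    MorphismProperty.of_isPullback (P := @QuasiSeparated) hX₀ inferInstance
  have : CompactSpace ↥(pullback f (pullback.fst g (toX s i₀))) :=
    QuasiCompact.compactSpace_of_compactSpace
      (pullback.snd f (pullback.fst g (toX s i₀)) ≫ pullback.snd g (toX s i₀))
  have : QuasiSeparatedSpace ↥(pullback f (pullback.fst g (toX s i₀))) :=
    quasiSeparatedSpace_of_quasiSeparated
      (pullback.snd f (pullback.fst g (toX s i₀)) ≫ pullback.snd g (toX s i₀))
  have : LocallyOfFiniteType (f ≫ g) := inferInstance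
  have : LocallyOfFiniteType f := locallyOfFiniteType_of_comp f g
  obtain ⟨i, φ, Xi, Yi, fi, gi, pY, pX, h1, h2, hfi⟩ :=
    Groth.Agent.Lib.R2H3.ProperDesc.proper_descend (specDiagram s) (specCone s) (specIsLimit s)
      i₀ (pullback.snd f (pullback.fst g (toX s i₀))) (pullback.snd g (toX s i₀))
      (pullback.snd f (pullback.fst g ((specCone s).π.app i₀ ≫ toX s i₀)))
      (pullback.snd g ((specCone s).π.app i₀ ≫ toX s i₀))
      (qY g (toX s i₀) ((specCone s).π.app i₀)) (qX f g (toX s i₀) ((specCone s).π.app i₀))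
      (isPullback_qY g (toX s i₀) ((specCone s).π.app i₀))
      (isPullback_qX f g (toX s i₀) ((specCone s).π.app i₀))
  refine ⟨i.unop.U, i.unop.mem, ?_⟩
  have hpaste : IsPullback (pY ≫ pullback.fst g (toX s i₀)) gi g (toX s i) := by
    have := h1.paste_horiz (IsPullback.of_hasPullback g (toX s i₀))
    rwa [map_toX] at this
  have hopen : IsOpenImmersion (pY ≫ pullback.fst g (toX s i₀)) :=
    MorphismProperty.of_isPullback (P := @IsOpenImmersion) hpaste.flip inferInstance
  have hXi : IsPullback (pX ≫ pullback.fst f (pullback.fst g (toX s i₀))) fi f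
      (pY ≫ pullback.fst g (toX s i₀)) :=
    h2.paste_horiz (IsPullback.of_hasPullback f (pullback.fst g (toX s i₀)))
  have hrange : Set.range (g ⁻¹ᵁ i.unop.U).ι ⊆ Set.range (pY ≫ pullback.fst g (toX s i₀)) := by
    rintro _ ⟨y, rfl⟩
    have hy : g ((g ⁻¹ᵁ i.unop.U).ι y) ∈ (i.unop.U : Set S) := y.2
    rw [← range_toX s i] at hy
    obtain ⟨z, hz⟩ := hy
    obtain ⟨p, hp, -⟩ := Scheme.exists_preimage_of_isPullback hpaste _ z hz.symm
    exact ⟨p, hp⟩
  let k : (g ⁻¹ᵁ i.unop.U).toScheme ⟶ Yi :=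
    IsOpenImmersion.lift (pY ≫ pullback.fst g (toX s i₀)) (g ⁻¹ᵁ i.unop.U).ι hrange
  have hk : k ≫ (pY ≫ pullback.fst g (toX s i₀)) = (g ⁻¹ᵁ i.unop.U).ι :=
    IsOpenImmersion.lift_fac _ _ _
  refine isProper_of_factors f (pY ≫ pullback.fst g (toX s i₀)) fi _ hXi k
    (f ∣_ (g ⁻¹ᵁ i.unop.U)) (f ⁻¹ᵁ (g ⁻¹ᵁ i.unop.U)).ι ?_
  rw [hk]
  exact (isPullback_morphismRestrict f _).flip

end Groth.Agent.Lib.R2LeadNhdProper
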