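import Mathlib
import Groth.Agent.Lib.R2LeadNhdProper
import Groth.Agent.Lib.R2LeadAdicSplit
import Groth.Agent.Lib.Helper19ComplNoeth
import Groth.Agent.Lib.H9ZarLocal

/-!
# Properness near a point from properness of the closed fibre (EGA IV 15.7.10 etc.) (lead)
-/

set_option autoImplicit false
universe u
open CategoryTheory Limits AlgebraicGeometry TopologicalSpace Opposite

namespace Groth.Agent.Lib.R2LeadNhdProper2

open Groth.Agent.Lib.Helper26.StalkLim Groth.Agent.Lib.R2LeadNhdProper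

/-- `R2LeadNhdProper.main` over a locally Noetherian (quasi-compact) base. -/
theorem main' (S : Scheme.{u}) [CompactSpace S] [IsLocallyNoetherian S]
    {X Y : Scheme.{u}} (f : X ⟶ Y) (g : Y ⟶ S)
    [QuasiCompact g] [QuasiSeparated g] [LocallyOfFinitePresentation g]
    [QuasiCompact (f ≫ g)] [QuasiSeparated (f ≫ g)] [LocallyOfFinitePresentation (f ≫ g)]
    (s : S)
    (hR : IsProper (Limits.pullback.snd f (Limits.pullback.fst g
      (Spec.map (CommRingCat.ofHom (algebraMap (S.presheaf.stalk s)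
        (EGA4.Cpl (S.presheaf.stalk s)))) ≫ S.fromSpecStalk s)))) :
    ∃ W : S.Opens, s ∈ W ∧ IsProper (f ∣_ (g ⁻¹ᵁ W)) := by
  have : IsNoetherianRing (S.presheaf.stalk s) := inferInstance
  haveI : IsFiltered (AffNhd s) := isFiltered_of_directed_le_nonempty _
  obtain ⟨i₀⟩ : Nonempty (AffNhd s)ᵒᵖ := inferInstance
  have hπ : (specCone s).π.app i₀ ≫ toX s i₀ = S.fromSpecStalk s := π_toX s i₀
  rw [← hπ] at hR
  have hA : IsProper (pullback.snd f (pullback.fst g ((specCone s).π.app i₀ ≫ toX s i₀))) :=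
    step1 (A := S.presheaf.stalk s) f g ((specCone s).π.app i₀ ≫ toX s i₀) hR
  have : CompactSpace ↥(pullback g (toX s i₀)) :=
    QuasiCompact.compactSpace_of_compactSpace (pullback.snd g (toX s i₀))
  have : QuasiSeparatedSpace ↥(pullback g (toX s i₀)) :=
    quasiSeparatedSpace_of_quasiSeparated (pullback.snd g (toX s i₀))
  have hX₀ : IsPullback (pullback.fst f (pullback.fst g (toX s i₀)))
      (pullback.snd f (pullback.fst g (toX s i₀)) ≫ pullback.snd g (toX s i₀)) (f ≫ g)
      (toX s i₀) :=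
    (IsPullback.of_hasPullback f (pullback.fst g (toX s i₀))).paste_vert
      (IsPullback.of_hasPullback g (toX s i₀))
  have : QuasiCompact
      (pullback.snd f (pullback.fst g (toX s i₀)) ≫ pullback.snd g (toX s i₀)) :=
    MorphismProperty.of_isPullback (P := @QuasiCompact) hX₀ inferInstance
  have : QuasiSeparated
      (pullback.snd f (pullback.fst g (toX s i₀)) ≫ pullback.snd g (toX s i₀)) :=
    MorphismProperty.of_isPullback (P := @QuasiSeparated) hX₀ inferInstance
  have : CompactSpace ↥(pullback f (pullback.fst g (toX s i₀))) :=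
    QuasiCompact.compactSpace_of_compactSpace
      (pullback.snd f (pullback.fst g (toX s i₀)) ≫ pullback.snd g (toX s i₀))
  have : QuasiSeparatedSpace ↥(pullback f (pullback.fst g (toX s i₀))) :=
    quasiSeparatedSpace_of_quasiSeparated
      (pullback.snd f (pullback.fst g (toX s i₀)) ≫ pullback.snd g (toX s i₀))
  have : LocallyOfFiniteType (f ≫ g) := inferInstance
  have : LocallyOfFiniteType f := locallyOfFiniteType_of_comp f g
  obtain ⟨i, φ, Xi, Yi, fi, gi, pY, pX, h1, h2, hfi⟩ :=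
    Groth.Agent.Lib.R2H3.ProperDesc.proper_descend (specDiagram s) (specCone s) (specIsLimit s)
      i₀ (pullback.snd f (pullback.fst g (toX s i₀))) (pullback.snd g (toX s i₀))
      (pullback.snd f (pullback.fst g ((specCone s).π.app i₀ ≫ toX s i₀)))
      (pullback.snd g ((specCone s).π.app i₀ ≫ toX s i₀))
      (qY g (toX s i₀) ((specCone s).π.app i₀)) (qX f g (toX s i₀) ((specCone s).π.app i₀))
      (isPullback_qY g (toX s i₀) ((specCone s).π.app i₀))
      (isPullback_qX f g (toX s i₀) ((specCone s).π.app i₀))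
  refine ⟨i.unop.U, i.unop.mem, ?_⟩
  have hpaste : IsPullback (pY ≫ pullback.fst g (toX s i₀)) gi g (toX s i) := by
    have := h1.paste_horiz (IsPullback.of_hasPullback g (toX s i₀))
    rwa [map_toX] at this
  have hopen : IsOpenImmersion (pY ≫ pullback.fst g (toX s i₀)) :=
    MorphismProperty.of_isPullback (P := @IsOpenImmersion) hpaste.flip inferInstance
  have hXi : IsPullback (pX ≫ pullback.fst f (pullback.fst g (toX s i₀))) fi f
      (pY ≫ pullback.fst g (toX s i₀)) :=
    h2.paste_horiz (IsPullback.of_hasPullback f (pullback.fst g (toX s i₀)))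
  have hrange : Set.range (g ⁻¹ᵁ i.unop.U).ι ⊆ Set.range (pY ≫ pullback.fst g (toX s i₀)) := by
    rintro _ ⟨y, rfl⟩
    have hy : g ((g ⁻¹ᵁ i.unop.U).ι y) ∈ (i.unop.U : Set S) := y.2
    rw [← range_toX s i] at hy
    obtain ⟨z, hz⟩ := hy
    obtain ⟨p, hp, -⟩ := Scheme.exists_preimage_of_isPullback hpaste _ z hz.symm
    exact ⟨p, hp⟩
  let k : (g ⁻¹ᵁ i.unop.U).toScheme ⟶ Yi :=
    IsOpenImmersion.lift (pY ≫ pullback.fst g (toX s i₀)) (g ⁻¹ᵁ i.unop.U).ι hrange
  have hk : k ≫ (pY ≫ pullback.fst g (toX s i₀)) = (g ⁻¹ᵁ i.unop.U).ι :=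
    IsOpenImmersion.lift_fac _ _ _
  refine isProper_of_factors f (pY ≫ pullback.fst g (toX s i₀)) fi _ hXi k
    (f ∣_ (g ⁻¹ᵁ i.unop.U)) (f ⁻¹ᵁ (g ⁻¹ᵁ i.unop.U)).ι ?_
  rw [hk]
  exact (isPullback_morphismRestrict f _).flip



/-- The morphism from the spectrum of the completed local ring of an open subscheme at a point. -/
noncomputable def bCpl {Y : Scheme.{u}} (Y₀ : Y.Opens) (y₀ : Y₀.toScheme) :
    Spec (CommRingCat.of (EGA4.Cpl (Y₀.toScheme.presheaf.stalk y₀))) ⟶ Y :=
  Spec.map (CommRingCat.ofHom (algebraMap (Y₀.toScheme.presheaf.stalk y₀)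
    (EGA4.Cpl (Y₀.toScheme.presheaf.stalk y₀)))) ≫ Y₀.toScheme.fromSpecStalk y₀ ≫ Y₀.ι

/-- If the base change of `f` to the completed local ring at `y` is proper, then `f` is proper over
a neighbourhood of `y`. -/
theorem exists_nhd_proper {X Y : Scheme.{u}} [IsLocallyNoetherian Y] (f : X ⟶ Y) [IsSeparated f]
    [LocallyOfFiniteType f] [QuasiCompact f] (Y₀ : Y.Opens) (hY₀ : IsAffineOpen Y₀)
    (y₀ : Y₀.toScheme) (hR : IsProper (pullback.snd f (bCpl Y₀ y₀))) :
    ∃ U : Y.Opens, y₀.1 ∈ U ∧ IsProper (f ∣_ U) := by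
  have : IsAffine Y₀.toScheme := hY₀
  have hs : IsSeparated (f ∣_ Y₀) :=
    IsZariskiLocalAtTarget.restrict (P := @IsSeparated) inferInstance Y₀
  have hft : LocallyOfFiniteType (f ∣_ Y₀) :=
    IsZariskiLocalAtTarget.restrict (P := @LocallyOfFiniteType) inferInstance Y₀
  have hqc : QuasiCompact (f ∣_ Y₀) :=
    IsZariskiLocalAtTarget.restrict (P := @QuasiCompact) inferInstance Y₀
  have h1 : QuasiCompact ((f ∣_ Y₀) ≫ 𝟙 Y₀.toScheme) := by rw [Category.comp_id]; infer_instance
  have h2 : QuasiSeparated ((f ∣_ Y₀) ≫ 𝟙 Y₀.toScheme) := by rw [Category.comp_id]; infer_instance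
  have h3 : LocallyOfFinitePresentation ((f ∣_ Y₀) ≫ 𝟙 Y₀.toScheme) := by
    rw [Category.comp_id]; infer_instance
  set b₀ := Spec.map (CommRingCat.ofHom (algebraMap (Y₀.toScheme.presheaf.stalk y₀)
    (EGA4.Cpl (Y₀.toScheme.presheaf.stalk y₀)))) ≫ Y₀.toScheme.fromSpecStalk y₀ with hb₀
  have hb : bCpl Y₀ y₀ = b₀ ≫ Y₀.ι := by
    simp only [bCpl, hb₀, Category.assoc]
  set c := pullback.fst (𝟙 Y₀.toScheme) b₀ with hc
  set k := pullback.snd (𝟙 Y₀.toScheme) b₀ with hk
  have hck : c ≫ Y₀.ι = k ≫ bCpl Y₀ y₀ := by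
    rw [hb, ← Category.assoc, ← pullback.condition, Category.comp_id]
  have hpb'' : IsPullback (pullback.fst (f ∣_ Y₀) c ≫ (f ⁻¹ᵁ Y₀).ι) (pullback.snd (f ∣_ Y₀) c) f
      (k ≫ bCpl Y₀ y₀) := by
    rw [← hck]
    exact (IsPullback.of_hasPullback (f ∣_ Y₀) c).paste_horiz
      (isPullback_morphismRestrict f Y₀).flip
  have hR' : IsProper (pullback.snd (f ∣_ Y₀) c) :=
    isProper_of_factors f (bCpl Y₀ y₀) (pullback.snd f (bCpl Y₀ y₀)) (pullback.fst f (bCpl Y₀ y₀))
      (IsPullback.of_hasPullback f (bCpl Y₀ y₀)) k (pullback.snd (f ∣_ Y₀) c) _ hpb''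
  obtain ⟨W, hyW, hW⟩ := main' Y₀.toScheme (f ∣_ Y₀) (𝟙 Y₀.toScheme) y₀ hR'
  refine ⟨Y₀.ι ''ᵁ ((𝟙 Y₀.toScheme) ⁻¹ᵁ W), ⟨y₀, hyW, rfl⟩, ?_⟩
  exact (MorphismProperty.arrow_mk_iso_iff @IsProper (morphismRestrictRestrict f Y₀ _)).mp hW


open IsLocalRing

/-- A morphism from the spectrum of a field with image `y` factors through the residue field. -/
theorem exists_fac_fromSpecResidueField {Y : Scheme.{u}} {K : Type u} [Field K]
    (g : Spec (CommRingCat.of K) ⟶ Y) (y : Y) (h : g (closedPoint K) = y) :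
    ∃ φ : Y.residueField y ⟶ CommRingCat.of K, g = Spec.map φ ≫ Y.fromSpecResidueField y := by
  subst h
  exact ⟨_, (Scheme.descResidueField_stalkClosedPointTo_fromSpecResidueField K Y g).symm⟩

theorem bCpl_closedPoint {Y : Scheme.{u}} [IsLocallyNoetherian Y] (Y₀ : Y.Opens)
    (y₀ : Y₀.toScheme) :
    bCpl Y₀ y₀ (closedPoint (EGA4.Cpl (Y₀.toScheme.presheaf.stalk y₀))) = y₀.1 := by
  unfold bCpl
  have e1 : (Spec.map (CommRingCat.ofHom (algebraMap (Y₀.toScheme.presheaf.stalk y₀)
      (EGA4.Cpl (Y₀.toScheme.presheaf.stalk y₀)))) ≫ Y₀.toScheme.fromSpecStalk y₀ ≫ Y₀.ι)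
      (closedPoint (EGA4.Cpl (Y₀.toScheme.presheaf.stalk y₀))) =
      (Y₀.toScheme.fromSpecStalk y₀ ≫ Y₀.ι) ((Spec.map (CommRingCat.ofHom
        (algebraMap (Y₀.toScheme.presheaf.stalk y₀)
      (EGA4.Cpl (Y₀.toScheme.presheaf.stalk y₀))))) (closedPoint _)) :=
    Scheme.Hom.comp_apply _ _ _
  rw [e1]
  have e2 : (Spec.map (CommRingCat.ofHom (algebraMap (Y₀.toScheme.presheaf.stalk y₀)
      (EGA4.Cpl (Y₀.toScheme.presheaf.stalk y₀))))) (closedPoint _) =
      closedPoint (Y₀.toScheme.presheaf.stalk y₀) :=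
    IsLocalRing.comap_closedPoint (algebraMap (Y₀.toScheme.presheaf.stalk y₀)
      (EGA4.Cpl (Y₀.toScheme.presheaf.stalk y₀)))
  rw [e2]
  have e3 : (Y₀.toScheme.fromSpecStalk y₀ ≫ Y₀.ι) (closedPoint (Y₀.toScheme.presheaf.stalk y₀)) =
      Y₀.ι (Y₀.toScheme.fromSpecStalk y₀ (closedPoint (Y₀.toScheme.presheaf.stalk y₀))) :=
    Scheme.Hom.comp_apply _ _ _
  rw [e3, Scheme.fromSpecStalk_closedPoint]
  rfl


/-- Points of the spectrum of the residue field of a local ring map to the closed point. -/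
theorem specMap_mk_maximalIdeal (B : Type u) [CommRing B] [IsLocalRing B]
    (t : Spec (CommRingCat.of (B ⧸ maximalIdeal B))) :
    (Spec.map (CommRingCat.ofHom (Ideal.Quotient.mk (maximalIdeal B)))) t = closedPoint B := by
  apply PrimeSpectrum.ext
  have hle : maximalIdeal B ≤
      ((Spec.map (CommRingCat.ofHom (Ideal.Quotient.mk (maximalIdeal B)))) t).asIdeal := by
    intro x hx
    show (Ideal.Quotient.mk (maximalIdeal B)) x ∈ t.asIdeal
    rw [Ideal.Quotient.eq_zero_iff_mem.mpr hx]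
    exact zero_mem _
  exact ((maximalIdeal.isMaximal B).eq_of_le (Ideal.IsPrime.ne_top inferInstance) hle).symm

/-- The closed fibre of the base change to the completion is proper if the fibre at `y` is. -/
theorem isProper_closedFibre {X Y : Scheme.{u}} [IsLocallyNoetherian Y] (f : X ⟶ Y)
    (Y₀ : Y.Opens) (y₀ : Y₀.toScheme) (hy : IsProper (f.fiberToSpecResidueField y₀.1)) :
    IsProper (pullback.snd (pullback.snd f (bCpl Y₀ y₀))
      (Spec.map (CommRingCat.ofHom (Ideal.Quotient.mk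
        (maximalIdeal (EGA4.Cpl (Y₀.toScheme.presheaf.stalk y₀))))))) := by
  letI : Field (EGA4.Cpl (Y₀.toScheme.presheaf.stalk y₀) ⧸
      maximalIdeal (EGA4.Cpl (Y₀.toScheme.presheaf.stalk y₀))) := Ideal.Quotient.field _
  have hpt : (Spec.map (CommRingCat.ofHom (Ideal.Quotient.mk
        (maximalIdeal (EGA4.Cpl (Y₀.toScheme.presheaf.stalk y₀))))) ≫ bCpl Y₀ y₀)
      (closedPoint _) = y₀.1 := by
    have e : (Spec.map (CommRingCat.ofHom (Ideal.Quotient.mk
        (maximalIdeal (EGA4.Cpl (Y₀.toScheme.presheaf.stalk y₀))))) ≫ bCpl Y₀ y₀)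
      (closedPoint _) = bCpl Y₀ y₀ ((Spec.map (CommRingCat.ofHom (Ideal.Quotient.mk
        (maximalIdeal (EGA4.Cpl (Y₀.toScheme.presheaf.stalk y₀)))))) (closedPoint _)) :=
      Scheme.Hom.comp_apply _ _ _
    rw [e, specMap_mk_maximalIdeal, bCpl_closedPoint]
  obtain ⟨φ, hφ⟩ := exists_fac_fromSpecResidueField _ y₀.1 hpt
  have hpb'' := (IsPullback.of_hasPullback (pullback.snd f (bCpl Y₀ y₀))
    (Spec.map (CommRingCat.ofHom (Ideal.Quotient.mk
        (maximalIdeal (EGA4.Cpl (Y₀.toScheme.presheaf.stalk y₀))))))).paste_horiz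
    (IsPullback.of_hasPullback f (bCpl Y₀ y₀))
  rw [hφ] at hpb''
  exact isProper_of_factors f (Y.fromSpecResidueField y₀.1) (f.fiberToSpecResidueField y₀.1)
    (f.fiberι y₀.1) (IsPullback.of_hasPullback _ _) (Spec.map φ) _ _ hpb''


/-- Over a complete local Noetherian base: a separated morphism of finite type with proper closed
fibre, which is a topological quotient map with connected fibres, is proper. -/
theorem isProper_of_complete_local (B : Type u) [CommRing B] [IsNoetherianRing B] [IsLocalRing B]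
    [IsAdicComplete (maximalIdeal B) B] {X : Scheme.{u}} (g : X ⟶ Spec (CommRingCat.of B))
    [IsSeparated g] [LocallyOfFiniteType g] [QuasiCompact g]
    (h0 : IsProper (pullback.snd g (Spec.map (CommRingCat.ofHom
      (Ideal.Quotient.mk (maximalIdeal B))))))
    (hq : Topology.IsQuotientMap g.base)
    (hc : ∀ t : Spec (CommRingCat.of B), _root_.IsPreconnected (g.base ⁻¹' {t})) : IsProper g := by
  obtain ⟨U, hUcl, hUp, hUV, -⟩ :=
    Groth.Agent.Lib.R2LeadAdicSplit.exists_clopen_proper_top B (maximalIdeal B) g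
  have hUclopen : IsClopen (U : Set X) := ⟨hUcl, U.2⟩
  -- `U` is saturated
  have hsat : ∀ x x' : X, g.base x = g.base x' → x ∈ U → x' ∈ U := by
    intro x x' hxx' hx
    have h1 : g.base ⁻¹' {g.base x} ⊆ (U : Set X) :=
      (hc (g.base x)).subset_isClopen hUclopen ⟨x, rfl, hx⟩
    exact h1 hxx'.symm
  have hpre : g.base ⁻¹' (g.base '' (U : Set X)) = (U : Set X) := by
    ext x
    constructor
    · rintro ⟨u, hu, hux⟩
      exact hsat u x hux hu
    · intro hx
      exact ⟨x, hx, rfl⟩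
  have hEcl : IsClosed (g.base '' (U : Set X))ᶜ := by
    rw [← hq.isClosed_preimage, Set.preimage_compl, hpre]
    exact U.2.isClosed_compl
  have hm : closedPoint B ∈ g.base '' (U : Set X) := by
    obtain ⟨x, hx⟩ := hq.surjective (closedPoint B)
    refine ⟨x, hUV ?_, hx⟩
    rw [Groth.Agent.Lib.R2LeadAdicSplit.range_fst]
    show maximalIdeal B ≤ (g.base x).asIdeal
    rw [hx]
    exact le_refl _
  have hE : g.base '' (U : Set X) = Set.univ := by
    by_contra hne
    obtain ⟨t, ht⟩ := (Set.ne_univ_iff_exists_notMem _).mp hne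
    have h1 : t ⤳ closedPoint B := IsLocalRing.specializes_closedPoint t
    exact (h1.mem_closed hEcl ht) hm
  have hUtop : (U : Set X) = Set.univ := by
    rw [← hpre, hE, Set.preimage_univ]
  have hs : Surjective U.ι := by
    refine ⟨fun x => ?_⟩
    have : x ∈ Set.range U.ι.base := by rw [Scheme.Opens.range_ι, hUtop]; trivial
    exact this
  have huc' : UniversallyClosed (U.ι ≫ g) := hUp.toUniversallyClosed
  have huc : UniversallyClosed g := UniversallyClosed.of_comp_surjective U.ι g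
  exact { }

/-- EGA IV 15.7.10. -/
theorem main_2569 {X Y : Scheme.{u}} [IsLocallyNoetherian Y] (f : X ⟶ Y)
    [IsSeparated f] [LocallyOfFiniteType f] [QuasiCompact f]
    (hsub : MorphismProperty.universally (topologically fun g => Topology.IsQuotientMap g) f)
    (hconn : ∀ y : Y, GeometricallyConnected (f.fiberToSpecResidueField y))
    (y : Y) (hy : IsProper (f.fiberToSpecResidueField y)) :
    ∃ U : Y.Opens, y ∈ U ∧ IsProper (f ∣_ U) := by
  obtain ⟨Y₀, hY₀, hyY₀, -⟩ := exists_isAffineOpen_mem_and_subset (U := ⊤) (x := y) (by simp)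
  have hgc : GeometricallyConnected f :=
    (GeometricallyConnected.iff_geometricallyConnected_fiber f).mpr hconn
  let y₀ : Y₀.toScheme := ⟨y, hyY₀⟩
  have hN : IsNoetherianRing (EGA4.Cpl (Y₀.toScheme.presheaf.stalk y₀)) :=
    Groth.Agent.Lib.Helper19.isNoetherianRing_adicCompletion _
  have hq : Topology.IsQuotientMap (pullback.snd f (bCpl Y₀ y₀)).base :=
    hsub _ _ _ (IsPullback.of_hasPullback f (bCpl Y₀ y₀)).flip
  have hR : IsProper (pullback.snd f (bCpl Y₀ y₀)) :=
    isProper_of_complete_local _ _ (isProper_closedFibre f Y₀ y₀ hy) hq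
      (fun t => ((pullback.snd f (bCpl Y₀ y₀)).isConnected_preimage_singleton t).isPreconnected)
  exact exists_nhd_proper f Y₀ hY₀ y₀ hR


/-- The fibres of a base change of `f` over points whose image has geometrically connected fibre
are connected. -/
theorem isPreconnected_preimage_of_isPullback {X Y X' T : Scheme.{u}} (f : X ⟶ Y) (b : T ⟶ Y)
    (g : X' ⟶ T) (p : X' ⟶ X) (hpb : IsPullback p g f b) (t : T)
    (hc : GeometricallyConnected (f.fiberToSpecResidueField (b t))) :
    _root_.IsPreconnected (g.base ⁻¹' {t}) := by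
  have hpt : (T.fromSpecResidueField t ≫ b) (closedPoint (T.residueField t)) = b t := by
    have e : (T.fromSpecResidueField t ≫ b) (closedPoint (T.residueField t)) =
        b (T.fromSpecResidueField t (closedPoint (T.residueField t))) :=
      Scheme.Hom.comp_apply _ _ _
    rw [e, Scheme.fromSpecResidueField_apply]
  obtain ⟨φ, hφ⟩ := exists_fac_fromSpecResidueField (K := T.residueField t)
    (T.fromSpecResidueField t ≫ b) (b t) hpt
  have big : IsPullback (g.fiberι t ≫ p) (g.fiberToSpecResidueField t) f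
      (T.fromSpecResidueField t ≫ b) :=
    (IsPullback.of_hasPullback g (T.fromSpecResidueField t)).paste_horiz hpb
  have right : IsPullback (f.fiberι (b t)) (f.fiberToSpecResidueField (b t)) f
      (Y.fromSpecResidueField (b t)) := IsPullback.of_hasPullback _ _
  have hw : (g.fiberι t ≫ p) ≫ f =
      (g.fiberToSpecResidueField t ≫ Spec.map φ) ≫ Y.fromSpecResidueField (b t) := by
    rw [Category.assoc _ (Spec.map φ), ← hφ]
    exact big.w
  let l := right.lift (g.fiberι t ≫ p) (g.fiberToSpecResidueField t ≫ Spec.map φ) hw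
  have hl1 : l ≫ f.fiberι (b t) = g.fiberι t ≫ p := right.lift_fst _ _ _
  have hl2 : l ≫ f.fiberToSpecResidueField (b t) = g.fiberToSpecResidueField t ≫ Spec.map φ :=
    right.lift_snd _ _ _
  have left : IsPullback l (g.fiberToSpecResidueField t) (f.fiberToSpecResidueField (b t))
      (Spec.map φ) := by
    refine IsPullback.of_right ?_ hl2 right
    rw [hl1, ← hφ]
    exact big
  have hcs : ConnectedSpace (g.fiber t) :=
    hc.geometrically_connectedSpace (K := T.residueField t) (Spec.map φ) l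
      (g.fiberToSpecResidueField t) left
  rw [← g.range_fiberι, ← Set.image_univ]
  exact (isConnected_univ.image _ (g.fiberι _).continuous.continuousOn).isPreconnected

theorem flat_bCpl {Y : Scheme.{u}} [IsLocallyNoetherian Y] (Y₀ : Y.Opens) (y₀ : Y₀.toScheme) :
    Flat (bCpl Y₀ y₀) := by
  have hff : Module.FaithfullyFlat (Y₀.toScheme.presheaf.stalk y₀)
      (EGA4.Cpl (Y₀.toScheme.presheaf.stalk y₀)) := by
    apply Groth.Agent.Lib.Helper19.faithfullyFlat_adicCompletion_of_le_jacobson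
    apply Groth.Agent.Lib.Helper19.le_jacobson_bot_of_forall_maximal
    intro m hm
    rw [IsLocalRing.eq_maximalIdeal hm]
  have h1 := (flat_and_surjective_SpecMap_iff
    (CommRingCat.ofHom (algebraMap (Y₀.toScheme.presheaf.stalk y₀)
      (EGA4.Cpl (Y₀.toScheme.presheaf.stalk y₀))))).mpr
    ((RingHom.faithfullyFlat_algebraMap_iff).mpr hff)
  have hfl : Flat (Spec.map (CommRingCat.ofHom (algebraMap (Y₀.toScheme.presheaf.stalk y₀)
      (EGA4.Cpl (Y₀.toScheme.presheaf.stalk y₀))))) := h1.1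
  have := Groth.Agent.Lib.H9ZarLocal.flat_fromSpecStalk Y₀.toScheme y₀
  unfold bCpl
  infer_instance

/-- Flat variant of EGA IV 15.7.10: fibres over maximal points geometrically connected. -/
theorem main_19656 {X S : Scheme.{u}} [IsLocallyNoetherian S] (f : X ⟶ S)
    [Flat f] [IsSeparated f] [LocallyOfFiniteType f] [QuasiCompact f]
    (hgen : ∀ η : S, (∀ η' : S, η' ⤳ η → η' = η) → Nonempty ↥(f.fiber η) →
      GeometricallyConnected (f.fiberToSpecResidueField η))
    (s : S) [Nonempty ↥(f.fiber s)] (hs : IsProper (f.fiberToSpecResidueField s)) :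
    ∃ U : S.Opens, s ∈ U ∧ IsProper (f ∣_ U) := by
  obtain ⟨Y₀, hY₀, hyY₀, -⟩ := exists_isAffineOpen_mem_and_subset (U := ⊤) (x := s) (by simp)
  let y₀ : Y₀.toScheme := ⟨s, hyY₀⟩
  have hN : IsNoetherianRing (EGA4.Cpl (Y₀.toScheme.presheaf.stalk y₀)) :=
    Groth.Agent.Lib.Helper19.isNoetherianRing_adicCompletion _
  have hbfl : Flat (bCpl Y₀ y₀) := flat_bCpl Y₀ y₀
  set B := EGA4.Cpl (Y₀.toScheme.presheaf.stalk y₀) with hB
  set b := bCpl Y₀ y₀ with hb
  set g := pullback.snd f b with hg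
  have h0 : IsProper (pullback.snd g (Spec.map (CommRingCat.ofHom
      (Ideal.Quotient.mk (maximalIdeal B))))) := isProper_closedFibre f Y₀ y₀ hs
  obtain ⟨U, hUcl, hUp, hUV, -⟩ :=
    Groth.Agent.Lib.R2LeadAdicSplit.exists_clopen_proper_top B (maximalIdeal B) g
  have hUclopen : IsClopen (U : Set ↥(pullback f b)) := ⟨hUcl, U.2⟩
  have hopen : IsOpenMap g.base := g.isOpenMap
  -- the closed fibre is nonempty
  obtain ⟨x₀, hx₀⟩ : ∃ x₀ : X, f x₀ = s := by
    obtain ⟨z⟩ := ‹Nonempty ↥(f.fiber s)›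
    have : f.fiberι s z ∈ f.base ⁻¹' {s} := by rw [← f.range_fiberι]; exact ⟨z, rfl⟩
    exact ⟨_, this⟩
  have hbm : b (closedPoint B) = s := bCpl_closedPoint Y₀ y₀
  obtain ⟨z₀, hz₀1, hz₀2⟩ := Scheme.Pullback.exists_preimage_pullback (f := f) (g := b) x₀
    (closedPoint B) (hx₀.trans hbm.symm)
  have hz₀U : z₀ ∈ U := by
    apply hUV
    rw [Groth.Agent.Lib.R2LeadAdicSplit.range_fst]
    show maximalIdeal B ≤ (g.base z₀).asIdeal
    rw [hz₀2]
    exact le_refl _
  -- the image of `U` is everything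
  have hgU : ∀ t : Spec (CommRingCat.of B), ∃ u ∈ U, g u = t := by
    intro t
    have h1 : t ⤳ closedPoint B := IsLocalRing.specializes_closedPoint t
    have h2 : closedPoint B ∈ g.base '' (U : Set ↥(pullback f b)) := ⟨z₀, hz₀U, hz₀2⟩
    obtain ⟨u, hu, hut⟩ := h1.mem_open (hopen _ U.2) h2
    exact ⟨u, hu, hut⟩
  have hUtop : (U : Set ↥(pullback f b)) = Set.univ := by
    by_contra hne
    obtain ⟨w, hw⟩ := (Set.ne_univ_iff_exists_notMem _).mp hne
    -- a minimal prime below `g w`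
    obtain ⟨P, hP, hPle⟩ := Ideal.exists_minimalPrimes_le (I := ⊥) (J := (g.base w).asIdeal)
      bot_le
    have hPp : P.IsPrime := hP.1.1
    let t : Spec (CommRingCat.of B) := ⟨P, hPp⟩
    have htw : t ⤳ g.base w := (PrimeSpectrum.le_iff_specializes t (g.base w)).mp hPle
    have hgW : IsOpen (g.base '' (U : Set ↥(pullback f b))ᶜ) := hopen _ hUclopen.compl.2
    obtain ⟨w', hw', hw't⟩ := htw.mem_open hgW ⟨w, hw, rfl⟩
    obtain ⟨u, hu, hut⟩ := hgU t
    -- `b t` is a maximal point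
    have hmax : ∀ η' : S, η' ⤳ b t → η' = b t := by
      intro η' hη'
      obtain ⟨t', ht't, ht'η⟩ := (Flat.generalizingMap b) hη'
      have : t' = t := by
        apply PrimeSpectrum.ext
        have h1 : t'.asIdeal ≤ P := (PrimeSpectrum.le_iff_specializes t' t).mpr ht't
        exact le_antisymm h1 (hP.2 ⟨t'.2, bot_le⟩ h1)
      rw [← ht'η, this]
    have hne' : Nonempty ↥(f.fiber (b t)) := by
      have h1 : (pullback.fst f b) u ∈ f.base ⁻¹' {b t} := by
        show f ((pullback.fst f b) u) = b t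
        rw [← hut, ← Scheme.Hom.comp_apply, ← Scheme.Hom.comp_apply, pullback.condition]
      rw [← f.range_fiberι] at h1
      obtain ⟨z, -⟩ := h1
      exact ⟨z⟩
    have hc := isPreconnected_preimage_of_isPullback f b g (pullback.fst f b)
      (IsPullback.of_hasPullback f b) t (hgen (b t) hmax hne')
    have hsub : g.base ⁻¹' {t} ⊆ (U : Set ↥(pullback f b)) := hc.subset_isClopen hUclopen ⟨u, hut, hu⟩
    exact hw' (hsub hw't)
  have hsurj : Surjective U.ι := by
    refine ⟨fun x => ?_⟩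
    have : x ∈ Set.range U.ι.base := by rw [Scheme.Opens.range_ι, hUtop]; trivial
    exact this
  have huc' : UniversallyClosed (U.ι ≫ g) := hUp.toUniversallyClosed
  have huc : UniversallyClosed g := UniversallyClosed.of_comp_surjective U.ι g
  have hR : IsProper g := { }
  exact exists_nhd_proper f Y₀ hY₀ y₀ hR

end Groth.Agent.Lib.R2LeadNhdProper2
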