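import Mathlib
import Groth.Agent.Lib.R2LeadNhdProper2
import Groth.Agent.Lib.H9GcFlat

/-!
# Properness and geometric connectedness from fibres (EGA IV 15.7.10 variants) (lead)
-/

set_option autoImplicit false
universe u
open CategoryTheory Limits AlgebraicGeometry TopologicalSpace Opposite IsLocalRing

namespace Groth.Agent.Lib.R2LeadGeomConnProper

open Groth.Agent.Lib.R2LeadNhdProper2

theorem isProper_of_fibres {X S : Scheme.{u}} [IsLocallyNoetherian S] (f : X ⟶ S)
    [Surjective f] [Flat f] [IsSeparated f] [LocallyOfFiniteType f] [QuasiCompact f]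
    (hpr : ∀ s : S, IsProper (f.fiberToSpecResidueField s))
    (hgen : ∀ η : S, (∀ η' : S, η' ⤳ η → η' = η) →
      GeometricallyConnected (f.fiberToSpecResidueField η)) : IsProper f := by
  apply IsZariskiLocalAtTarget.of_forall_exists_morphismRestrict (P := @IsProper)
  intro s
  have : Nonempty ↥(f.fiber s) := by
    obtain ⟨x, hx⟩ := f.surjective s
    have : x ∈ Set.range (f.fiberι s) := by rw [f.range_fiberι]; exact hx
    obtain ⟨z, -⟩ := this
    exact ⟨z⟩
  exact main_19656 f (fun η hη _ => hgen η hη) s (hpr s)

theorem geometricallyConnected_of_maximal {X S : Scheme.{u}} [IsLocallyNoetherian S] (f : X ⟶ S)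
    [IsProper f] [Flat f] [Surjective f]
    (hgen : ∀ η : S, (∀ η' : S, η' ⤳ η → η' = η) →
      GeometricallyConnected (f.fiberToSpecResidueField η)) : GeometricallyConnected f := by
  have hloc : IsZariskiLocalAtTarget @GeometricallyConnected := by
    rw [GeometricallyConnected.eq_geometrically]; infer_instance
  apply IsZariskiLocalAtTarget.of_forall_exists_morphismRestrict (P := @GeometricallyConnected)
  intro s
  obtain ⟨U, hU, hsU, -⟩ := exists_isAffineOpen_mem_and_subset (U := ⊤) (x := s) (by simp)
  refine ⟨U, hsU, ?_⟩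
  have : IsAffine U.toScheme := hU
  have : IsNoetherian U.toScheme := {}
  have hp : IsProper (f ∣_ U) := IsZariskiLocalAtTarget.restrict (P := @IsProper) inferInstance U
  have hfl : Flat (f ∣_ U) := IsZariskiLocalAtTarget.restrict (P := @Flat) inferInstance U
  have hsj : Surjective (f ∣_ U) :=
    IsZariskiLocalAtTarget.restrict (P := @Surjective) inferInstance U
  apply Groth.Agent.Lib.H9GcFlat.main
  intro Z η hZ hη
  have hmax : ∀ η' : S, η' ⤳ U.ι η → η' = U.ι η := by
    intro η' h
    have hη'U : η' ∈ Set.range U.ι := h.mem_open U.ι.isOpenEmbedding.isOpen_range ⟨η, rfl⟩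
    obtain ⟨η'', rfl⟩ := hη'U
    have h1 : η'' ⤳ η := U.ι.isOpenEmbedding.isInducing.specializes_iff.mp h
    congr 1
    have h2 : closure {η} ⊆ closure {η''} := specializes_iff_closure_subset.mp h1
    rw [hη.def] at h2
    have h3 : closure ({η''} : Set U.toScheme) ⊆ Z :=
      hZ.2 isIrreducible_singleton.closure h2
    have h4 : closure ({η''} : Set U.toScheme) = closure {η} := by
      rw [hη.def]; exact le_antisymm h3 h2
    exact ((inseparable_iff_closure_eq).mpr h4).eq
  have hc := hgen (U.ι η) hmax
  exact MorphismProperty.of_isPullback (P := @GeometricallyConnected)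
    (isPullback_fiberToSpecResidueField_of_isPullback (isPullback_morphismRestrict f U).flip η) hc

/-- S19657. -/
theorem main_19657 {X S : Scheme.{u}} [IsLocallyNoetherian S] (f : X ⟶ S)
    [Surjective f] [Flat f] [IsSeparated f] [LocallyOfFinitePresentation f] [QuasiCompact f]
    (hsm : ∀ s : S, Smooth (f.fiberToSpecResidueField s))
    (hpr : ∀ s : S, IsProper (f.fiberToSpecResidueField s))
    (hgen : ∀ η : S, (∀ η' : S, η' ⤳ η → η' = η) → GeometricallyConnected (f.fiberToSpecResidueField η)) :
    IsProper f ∧ Smooth f ∧ GeometricallyConnected f := by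
  have hp := isProper_of_fibres f hpr hgen
  exact ⟨hp, Smooth.of_smooth_fiberToSpecResidueField f hsm,
    geometricallyConnected_of_maximal f hgen⟩

/-- S19653. -/
theorem main_19653 (R : Type u) [CommRing R] [IsDomain R] [IsDiscreteValuationRing R]
    (X : Scheme.{u}) (f : X ⟶ Spec (CommRingCat.of R))
    [Flat f] [IsSeparated f] [LocallyOfFiniteType f] [QuasiCompact f]
    [IsProper (f.fiberToSpecResidueField (IsLocalRing.closedPoint R))]
    [Nonempty ↥(f.fiber (IsLocalRing.closedPoint R))]
    [GeometricallyConnected (f.fiberToSpecResidueField (genericPoint ↥(Spec (CommRingCat.of R))))] :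
    IsProper f ∧ GeometricallyConnected (f.fiberToSpecResidueField (IsLocalRing.closedPoint R)) := by
  have hgen : ∀ η : Spec (CommRingCat.of R), (∀ η' : Spec (CommRingCat.of R), η' ⤳ η → η' = η) →
      GeometricallyConnected (f.fiberToSpecResidueField η) := by
    intro η hη
    have h : genericPoint ↥(Spec (CommRingCat.of R)) = η := hη _ (genericPoint_specializes η)
    subst h
    infer_instance
  obtain ⟨U, hU, hpU⟩ := main_19656 f (fun η hη _ => hgen η hη) (closedPoint R) inferInstance
  have hmem : ∀ t : Spec (CommRingCat.of R), t ∈ U := fun t =>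
    (IsLocalRing.specializes_closedPoint t).mem_open U.2 hU
  have hp : IsProper f :=
    IsZariskiLocalAtTarget.of_forall_exists_morphismRestrict (P := @IsProper)
      (fun t => ⟨U, hmem t, hpU⟩)
  have hsurj : Surjective f := by
    refine ⟨fun t => ?_⟩
    obtain ⟨z⟩ := ‹Nonempty ↥(f.fiber (IsLocalRing.closedPoint R))›
    have hz : f.fiberι (closedPoint R) z ∈ Set.range (f.fiberι (closedPoint R)) := ⟨z, rfl⟩
    rw [f.range_fiberι] at hz
    have hz' : f (f.fiberι (closedPoint R) z) = closedPoint R := hz
    have ht : t ⤳ f (f.fiberι (closedPoint R) z) := by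
      rw [hz']; exact IsLocalRing.specializes_closedPoint t
    obtain ⟨x', -, hx'⟩ := (Flat.generalizingMap f) ht
    exact ⟨x', hx'⟩
  have hgc := geometricallyConnected_of_maximal f hgen
  exact ⟨hp, (GeometricallyConnected.iff_geometricallyConnected_fiber f).mp hgc _⟩

end Groth.Agent.Lib.R2LeadGeomConnProper
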