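import Groth.Agent.Lib.R2H2NodalAlg
import Groth.Agent.Lib.Helper19PsDim
import Groth.Agent.Lib.Helper5GorRing
import Groth.Agent.Lib.Helper5FiberRing
import Groth.Agent.Lib.Helper29GorAnn
import Groth.Agent.Lib.Helper29HLVT
import Groth.Agent.S0342

/-!
# Ordinary double points are Gorenstein (lead)
-/

set_option autoImplicit false
set_option linter.style.haveILetI false
universe u

open IsLocalRing

namespace Groth.Agent.Lib.R2LeadGorNodalA

open LocCoh MvPowerSeries

/-- `K[[x, y]]/(xy)` is a Gorenstein local ring -/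
theorem gor_quot (K : Type u) [Field K] :
    IsGorensteinLocalRing (MvPowerSeries (Fin 2) K ⧸
      Ideal.span {(X 0 * X 1 : MvPowerSeries (Fin 2) K)}) := by
  haveI : IsRegularLocalRing (MvPowerSeries (Fin 2) K) :=
    Groth.Agent.Lib.Helper19.isRegularLocalRing_mvPowerSeries K 2
  haveI : IsGorensteinLocalRing (MvPowerSeries (Fin 2) K) := Groth.Agent.S0342.result _
  haveI : IsGorensteinRing (MvPowerSeries (Fin 2) K) :=
    Groth.Agent.Lib.Helper29.GorAnn.isGorensteinRing_of_isGorensteinLocalRing _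
  have p0 := Groth.Agent.Lib.R2H2.NodalAlg.prime_X (R := K) (0 : Fin 2)
  have p1 := Groth.Agent.Lib.R2H2.NodalAlg.prime_X (R := K) (1 : Fin 2)
  have hb0 : (X 0 * X 1 : MvPowerSeries (Fin 2) K) ≠ 0 := mul_ne_zero p0.ne_zero p1.ne_zero
  have hb : IsSMulRegular (MvPowerSeries (Fin 2) K) (X 0 * X 1 : MvPowerSeries (Fin 2) K) :=
    (isRegular_of_ne_zero hb0).left.isSMulRegular
  haveI := Groth.Agent.Lib.Helper5.GorRing.gorRing_quotient_of_regular _ hb
  have hne : Ideal.span {(X 0 * X 1 : MvPowerSeries (Fin 2) K)} ≠ ⊤ := by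
    intro h
    rw [Ideal.span_singleton_eq_top] at h
    exact p0.not_unit (isUnit_of_mul_isUnit_left h)
  haveI : Nontrivial (MvPowerSeries (Fin 2) K ⧸
      Ideal.span {(X 0 * X 1 : MvPowerSeries (Fin 2) K)}) := Ideal.Quotient.nontrivial_iff.mpr hne
  haveI : IsLocalRing (MvPowerSeries (Fin 2) K ⧸
      Ideal.span {(X 0 * X 1 : MvPowerSeries (Fin 2) K)}) :=
    IsLocalRing.of_surjective' _ Ideal.Quotient.mk_surjective
  exact Groth.Agent.Lib.Helper29.HLVT.gorLocal_of_gorRing _

/-- a Noetherian local ring which is an ordinary double point is Gorenstein -/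
theorem gor_of_isOrdDoublePt (K : Type u) [Field K] (A : Type u) [CommRing A] [Algebra K A]
    [IsLocalRing A] [IsNoetherianRing A] (h : Curv2.IsOrdDoublePt K A) :
    IsGorensteinLocalRing A := by
  obtain ⟨e, -⟩ := h
  haveI := gor_quot K
  haveI hG : IsGorensteinLocalRing (AdicCompletion (maximalIdeal A) A) :=
    Groth.Agent.Lib.Helper5.GorRing.gorLocal_of_ringEquiv e.symm
  haveI : IsNoetherianRing (AdicCompletion (maximalIdeal A) A) := inferInstance
  set F := AdicCompletion (maximalIdeal A) A ⧸ maximalIdeal (AdicCompletion (maximalIdeal A) A)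
  letI : Field F := Ideal.Quotient.field _
  have hiff := Groth.Agent.Lib.Helper5.FiberRing.flatLocalIff_gor A
    (AdicCompletion (maximalIdeal A) A) F (Ideal.Quotient.mk _) Ideal.Quotient.mk_surjective
    (by rw [Ideal.mk_ker]; exact AdicCompletion.maximalIdeal_eq_map)
  exact (hiff.mp hG).1

end Groth.Agent.Lib.R2LeadGorNodalA
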