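import Groth.Agent.Lib.R2LeadGorNodalA
import Groth.Agent.Lib.R2H2NodalRed
import Groth.Agent.Lib.Helper6SmRegSch

/-!
# At-worst-nodal curves are Gorenstein and geometrically reduced (lead)
-/

set_option autoImplicit false
set_option linter.style.haveILetI false
universe u

open CategoryTheory CategoryTheory.Limits AlgebraicGeometry TopologicalSpace IsLocalRing

namespace Groth.Agent.Lib.R2LeadGorNodalB

open LocCoh Groth.Agent.Lib.R2H2.NodalRed Groth.Agent.Lib.R2LeadGorNodalA

section Spec

/-- Gorenstein descends along flat local homomorphisms of Noetherian local rings -/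
theorem gor_of_flat_local (A B : Type u) [CommRing A] [CommRing B] [IsLocalRing A]
    [IsNoetherianRing A] [IsLocalRing B] [IsNoetherianRing B] [Algebra A B]
    [IsLocalHom (algebraMap A B)] [Module.Flat A B] (hB : IsGorensteinLocalRing B) :
    IsGorensteinLocalRing A := by
  set I := (maximalIdeal A).map (algebraMap A B) with hIdef
  have hI : I ≤ maximalIdeal B := by
    rw [hIdef, Ideal.map_le_iff_le_comap, IsLocalRing.maximalIdeal_comap]
  have hne : I ≠ ⊤ := fun h => (maximalIdeal.isMaximal B).ne_top (top_le_iff.mp (h ▸ hI))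
  haveI : Nontrivial (B ⧸ I) := Ideal.Quotient.nontrivial_iff.mpr hne
  haveI : IsLocalRing (B ⧸ I) := IsLocalRing.of_surjective' _ Ideal.Quotient.mk_surjective
  have hiff := Groth.Agent.Lib.Helper5.FiberRing.flatLocalIff_gor A B (B ⧸ I)
    (Ideal.Quotient.mk I) Ideal.Quotient.mk_surjective Ideal.mk_ker
  exact (hiff.mp hB).1

/-- Gorenstein passes to generizations -/
theorem gor_stalk_of_specializes {X : Scheme.{u}} [IsLocallyNoetherian X] (x x₀ : X)
    (h : x ⤳ x₀) (hG : IsGorensteinLocalRing (X.presheaf.stalk x₀)) :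
    IsGorensteinLocalRing (X.presheaf.stalk x) := by
  obtain ⟨_, ⟨U, hU : IsAffineOpen U, rfl⟩, hx₀U, -⟩ :=
    X.isBasis_affineOpens.exists_subset_of_mem_open (Set.mem_univ x₀) isOpen_univ
  have hxU : x ∈ U := h.mem_open U.2 hx₀U
  letI : Algebra Γ(X, U) (X.presheaf.stalk x₀) := X.presheaf.algebra_section_stalk ⟨x₀, hx₀U⟩
  letI : Algebra Γ(X, U) (X.presheaf.stalk x) := X.presheaf.algebra_section_stalk ⟨x, hxU⟩
  haveI : IsLocalization.AtPrime (X.presheaf.stalk x₀) (hU.primeIdealOf ⟨x₀, hx₀U⟩).asIdeal :=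
    hU.isLocalization_stalk ⟨x₀, hx₀U⟩
  haveI : IsLocalization.AtPrime (X.presheaf.stalk x) (hU.primeIdealOf ⟨x, hxU⟩).asIdeal :=
    hU.isLocalization_stalk ⟨x, hxU⟩
  set p₀ := (hU.primeIdealOf ⟨x₀, hx₀U⟩).asIdeal with hp₀
  set p := (hU.primeIdealOf ⟨x, hxU⟩).asIdeal with hp
  have hle : p ≤ p₀ := by
    have h1 : hU.primeIdealOf ⟨x, hxU⟩ ⤳ hU.primeIdealOf ⟨x₀, hx₀U⟩ := by
      have h2 : (⟨x, hxU⟩ : U) ⤳ ⟨x₀, hx₀U⟩ := (subtype_specializes_iff _ _).mpr h
      exact h2.map (hU.isoSpec.hom.base.hom.continuous)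
    exact (PrimeSpectrum.le_iff_specializes _ _).mpr h1
  have hdisj : Disjoint (p₀.primeCompl : Set Γ(X, U)) (p : Set Γ(X, U)) := by
    rw [Set.disjoint_left]
    intro a ha hap
    exact ha (hle hap)
  set q := p.map (algebraMap Γ(X, U) (X.presheaf.stalk x₀)) with hq
  haveI hqp : q.IsPrime :=
    IsLocalization.isPrime_of_isPrime_disjoint p₀.primeCompl _ p inferInstance hdisj
  have hcomap : q.comap (algebraMap Γ(X, U) (X.presheaf.stalk x₀)) = p :=
    IsLocalization.comap_map_of_isPrime_disjoint p₀.primeCompl _ inferInstance hdisj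
  haveI := hG
  haveI : IsGorensteinRing (X.presheaf.stalk x₀) :=
    Groth.Agent.Lib.Helper29.GorAnn.isGorensteinRing_of_isGorensteinLocalRing _
  haveI hGq : IsGorensteinLocalRing (Localization.AtPrime q) :=
    IsGorensteinRing.isGorensteinLocalRing_localization q
  haveI : IsScalarTower Γ(X, U) (X.presheaf.stalk x₀) (Localization.AtPrime q) := inferInstance
  haveI hloc : IsLocalization.AtPrime (Localization.AtPrime q)
      (q.comap (algebraMap Γ(X, U) (X.presheaf.stalk x₀))) :=
    IsLocalization.isLocalization_isLocalization_atPrime_isLocalization p₀.primeCompl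
      (Localization.AtPrime q) q
  have hsub : (q.comap (algebraMap Γ(X, U) (X.presheaf.stalk x₀))).primeCompl = p.primeCompl := by
    ext a
    show a ∉ q.comap (algebraMap Γ(X, U) (X.presheaf.stalk x₀)) ↔ a ∉ p
    rw [hcomap]
  have hloc' : IsLocalization p.primeCompl (Localization.AtPrime q) := by
    have h1 : IsLocalization (q.comap (algebraMap Γ(X, U) (X.presheaf.stalk x₀))).primeCompl
        (Localization.AtPrime q) := hloc
    rw [hsub] at h1
    exact h1
  haveI := hloc'
  exact Groth.Agent.Lib.Helper5.GorRing.gorLocal_of_ringEquiv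
    (IsLocalization.algEquiv p.primeCompl (Localization.AtPrime q)
      (X.presheaf.stalk x)).toRingEquiv

end Spec

section Jac

/-- a Jacobson scheme whose local rings at the closed points are reduced is reduced -/
theorem isReduced_of_closedPoints' (Y : Scheme.{u}) [JacobsonSpace Y]
    (h : ∀ y : Y, IsClosed ({y} : Set Y) → _root_.IsReduced (Y.presheaf.stalk y)) :
    AlgebraicGeometry.IsReduced Y := by
  haveI : ∀ y : Y, _root_.IsReduced (Y.presheaf.stalk y) := by
    intro y
    obtain ⟨y₀, hy₀, hcl⟩ := nonempty_inter_closedPoints (Z := closure ({y} : Set Y))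
      ⟨y, subset_closure rfl⟩ isClosed_closure.isLocallyClosed
    obtain ⟨_, ⟨U, hU : IsAffineOpen U, rfl⟩, hy₀U, -⟩ :=
      Y.isBasis_affineOpens.exists_subset_of_mem_open (Set.mem_univ y₀) isOpen_univ
    have hspec : y ⤳ y₀ := specializes_iff_mem_closure.mpr hy₀
    have hyU : y ∈ U := hspec.mem_open U.2 hy₀U
    haveI := h y₀ hcl
    letI : Algebra Γ(Y, U) (Y.presheaf.stalk y₀) := Y.presheaf.algebra_section_stalk ⟨y₀, hy₀U⟩
    letI : Algebra Γ(Y, U) (Y.presheaf.stalk y) := Y.presheaf.algebra_section_stalk ⟨y, hyU⟩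
    haveI : IsLocalization.AtPrime (Y.presheaf.stalk y₀) (hU.primeIdealOf ⟨y₀, hy₀U⟩).asIdeal :=
      hU.isLocalization_stalk ⟨y₀, hy₀U⟩
    haveI : IsLocalization.AtPrime (Y.presheaf.stalk y) (hU.primeIdealOf ⟨y, hyU⟩).asIdeal :=
      hU.isLocalization_stalk ⟨y, hyU⟩
    refine isReduced_of_le (A := Γ(Y, U)) (B := Y.presheaf.stalk y₀) (C := Y.presheaf.stalk y)
      (hU.primeIdealOf ⟨y₀, hy₀U⟩).asIdeal (hU.primeIdealOf ⟨y, hyU⟩).asIdeal ?_
    have h1 : hU.primeIdealOf ⟨y, hyU⟩ ⤳ hU.primeIdealOf ⟨y₀, hy₀U⟩ := by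
      have h2 : (⟨y, hyU⟩ : U) ⤳ ⟨y₀, hy₀U⟩ := (subtype_specializes_iff _ _).mpr hspec
      exact h2.map (hU.isoSpec.hom.base.hom.continuous)
    exact (PrimeSpectrum.le_iff_specializes _ _).mpr h1
  exact isReduced_of_isReduced_stalk Y

end Jac

section Main

attribute [local instance] Curv2.stalkAlgebra

variable (k : Type u) [Field k] (X : Scheme.{u}) [X.Over (Spec (CommRingCat.of k))]
  [LocallyOfFiniteType (X ↘ Spec (CommRingCat.of k))]

theorem flat_bcFst (K : Type u) [Field K] [Algebra k K] : Flat (Curv2.bcFst k X K) := by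
  haveI : Flat (Spec.map (CommRingCat.ofHom (algebraMap k K))) := by
    rw [HasRingHomProperty.Spec_iff (P := @Flat)]
    exact RingHom.Flat.of_isField (Field.toIsField k) _
  unfold Curv2.bcFst
  infer_instance

/-- the local ring at a node is Gorenstein -/
theorem gor_stalk_of_isNode (x : X) (hx : Curv2.IsNode k X x) :
    IsGorensteinLocalRing (X.presheaf.stalk x) := by
  obtain ⟨-, xb, hxb, hodp⟩ := hx
  haveI := isLocallyNoetherian_bc k X (AlgebraicClosure k)
  haveI : IsLocallyNoetherian X :=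
    LocallyOfFiniteType.isLocallyNoetherian (X ↘ Spec (CommRingCat.of k))
  have hGb : IsGorensteinLocalRing ((Curv2.bc k X (AlgebraicClosure k)).presheaf.stalk xb) :=
    @gor_of_isOrdDoublePt (AlgebraicClosure k) _ _ _ _ _ _ hodp
  subst hxb
  haveI := flat_bcFst k X (AlgebraicClosure k)
  have hflat := Flat.stalkMap (Curv2.bcFst k X (AlgebraicClosure k)) xb
  algebraize [((Curv2.bcFst k X (AlgebraicClosure k)).stalkMap xb).hom]
  haveI : IsLocalHom (algebraMap (X.presheaf.stalk (Curv2.bcFst k X (AlgebraicClosure k) xb))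
      ((Curv2.bc k X (AlgebraicClosure k)).presheaf.stalk xb)) :=
    inferInstanceAs (IsLocalHom ((Curv2.bcFst k X (AlgebraicClosure k)).stalkMap xb).hom)
  exact gor_of_flat_local _ _ hGb

/-- the local rings at the closed points of an at-worst-nodal scheme are Gorenstein -/
theorem gor_stalk_closed (h : Curv2.AtWorstNodal k X) (x : X) (hx : IsClosed ({x} : Set X)) :
    IsGorensteinLocalRing (X.presheaf.stalk x) := by
  rcases h x hx with ⟨U, hxU, hU⟩ | hnode
  · haveI := hU
    haveI : IsRegularLocalRing ((U : Scheme.{u}).presheaf.stalk ⟨x, hxU⟩) :=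
      Groth.Agent.Lib.Helper6.SmRegSch.isRegularLocalRing_stalk_of_smooth_over_field k U
        (U.ι ≫ (X ↘ Spec (CommRingCat.of k))) ⟨x, hxU⟩
    haveI : IsGorensteinLocalRing ((U : Scheme.{u}).presheaf.stalk ⟨x, hxU⟩) :=
      Groth.Agent.S0342.result _
    haveI : IsIso (U.ι.stalkMap ⟨x, hxU⟩) := inferInstance
    exact Groth.Agent.Lib.Helper5.GorRing.gorLocal_of_ringEquiv
      (asIso (U.ι.stalkMap ⟨x, hxU⟩)).commRingCatIsoToRingEquiv.symm
  · exact gor_stalk_of_isNode k X x hnode

theorem main (hX : Curv2.AtWorstNodal k X) :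
    (∀ x : X, IsGorensteinLocalRing (X.presheaf.stalk x)) ∧
      GeometricallyReduced (X ↘ (Spec (CommRingCat.of k))) := by
  haveI : IsLocallyNoetherian X :=
    LocallyOfFiniteType.isLocallyNoetherian (X ↘ Spec (CommRingCat.of k))
  haveI : JacobsonSpace X :=
    LocallyOfFiniteType.jacobsonSpace (X ↘ Spec (CommRingCat.of k))
  refine ⟨fun x => ?_, ?_⟩
  · obtain ⟨x₀, hx₀, hcl⟩ := nonempty_inter_closedPoints (Z := closure ({x} : Set X))
      ⟨x, subset_closure rfl⟩ isClosed_closure.isLocallyClosed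
    exact gor_stalk_of_specializes x x₀ (specializes_iff_mem_closure.mpr hx₀)
      (gor_stalk_closed k X hX x₀ hcl)
  · haveI : IsIntegralHom (Spec.map (CommRingCat.ofHom (algebraMap k (AlgebraicClosure k)))) := by
      rw [IsIntegralHom.SpecMap_iff]
      exact algebraMap_isIntegral_iff.mpr inferInstance
    haveI : IsIntegralHom (Curv2.bcFst k X (AlgebraicClosure k)) :=
      MorphismProperty.pullback_fst (P := @IsIntegralHom) _ _ inferInstance
    haveI : LocallyOfFiniteType (Curv2.bcSnd k X (AlgebraicClosure k)) := by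
      unfold Curv2.bcSnd; infer_instance
    haveI : JacobsonSpace (Curv2.bc k X (AlgebraicClosure k)) :=
      LocallyOfFiniteType.jacobsonSpace (Curv2.bcSnd k X (AlgebraicClosure k))
    haveI : AlgebraicGeometry.IsReduced (Curv2.bc k X (AlgebraicClosure k)) := by
      refine isReduced_of_closedPoints' _ (fun y hy => ?_)
      have hcl : IsClosed ({Curv2.bcFst k X (AlgebraicClosure k) y} : Set X) := by
        have := (Curv2.bcFst k X (AlgebraicClosure k)).isClosedMap _ hy
        rwa [Set.image_singleton] at this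
      rcases hX _ hcl with ⟨U, hxU, hU⟩ | hnode
      · exact isReduced_stalk_of_smooth k X (AlgebraicClosure k) U hU y hxU
      · haveI := isGeometricallyReduced_stalk_of_isNode k X _ hnode
        exact Groth.Agent.Lib.Helper6.BcRed.isGeomReducedAt_of_isGeometricallyReduced_stalk k X _
          (AlgebraicClosure k) y rfl
    exact Groth.Agent.Lib.Helper6.BcRed.geometricallyReduced_of_isReduced_bc_perfect k X
      (AlgebraicClosure k)

end Main

end Groth.Agent.Lib.R2LeadGorNodalB
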