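import Mathlib
import Groth.Agent.Lib.Helper2GenFree

/-!
# Graded generic freeness and affine stratifications with flat graded quotients (lead, round 2)

Rees-module construction + generic freeness (`Helper2GenFree.exists_freeAway`) gives: for a Noetherian
domain `D` over `A₀` there is `f ≠ 0` such that all graded pieces of the `J₀`-adic filtration on
`A'' ⊗ M₀` are flat over every localization `A'' = D_{fg}`.  Then a Noetherian induction produces the
stratification of `Spec A₀` (`main`), used for S12134.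
-/

set_option autoImplicit false
universe u v w

namespace Groth.Agent.Lib.R2Lead.GrFlat
open Polynomial TensorProduct
open Groth.Agent.Lib.Helper2.GenFree

noncomputable section

section Rees
variable {R : Type u} [CommRing R]
  {B : Type v} [CommRing B] [Algebra R B] (J : Ideal B)
  (N : Type w) [AddCommGroup N] [Module B N] [Module R N] [IsScalarTower R B N]

abbrev RM : Submodule (reesAlgebra J) (PolynomialModule B N) :=
  (J.stableFiltration (⊤ : Submodule B N)).submodule

abbrev JR : Ideal (reesAlgebra J) := J.map (algebraMap B (reesAlgebra J))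

instance instACG : AddCommGroup ↥(RM J N) := inferInstance

abbrev GG : Type w := ↥(RM J N) ⧸ (JR J • (⊤ : Submodule (reesAlgebra J) ↥(RM J N)))

theorem mem_RM (f : PolynomialModule B N) :
    f ∈ RM J N ↔ ∀ i, f.coeff i ∈ (J ^ i • ⊤ : Submodule B N) := Iff.rfl

theorem finite_GG [IsNoetherianRing B] [Module.Finite B N] :
    Module.Finite (reesAlgebra J) (GG J N) := by
  have h1 : (RM J N).FG := by
    rw [Ideal.Filtration.submodule_fg_iff_stable]
    · exact J.stableFiltration_stable ⊤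
    · intro i; exact IsNoetherian.noetherian _
  haveI : Module.Finite (reesAlgebra J) ↥(RM J N) := Module.Finite.iff_fg.mpr h1
  infer_instance

theorem finiteType_rees [IsNoetherianRing B] [Algebra.FiniteType R B] :
    Algebra.FiniteType R (reesAlgebra J) :=
  Algebra.FiniteType.trans (inferInstance : Algebra.FiniteType R B) inferInstance

theorem exists_freeAway_GG [IsDomain R] [IsNoetherianRing R] [Algebra.FiniteType R B]
    [Module.Finite B N] :
    ∃ f : R, f ≠ 0 ∧ FreeAway R f (GG J N) := by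
  haveI : IsNoetherianRing B := Algebra.FiniteType.isNoetherianRing R B
  haveI := finiteType_rees (R := R) J
  haveI := finite_GG J N
  obtain ⟨f, hf, -, hM, -, -⟩ := exists_freeAway R (reesAlgebra J) (GG J N)
  exact ⟨f, hf, hM⟩

theorem coe_smulR (r : R) (f : ↥(RM J N)) : ((r • f : ↥(RM J N)) : PolynomialModule B N) = r • f.1 := rfl

theorem coeff_smulR (r : R) (p : PolynomialModule B N) (n : ℕ) :
    (r • p).coeff n = r • p.coeff n := rfl

def coeffR (n : ℕ) : ↥(RM J N) →ₗ[R] N where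
  toFun f := f.1.coeff n
  map_add' f g := by simp
  map_smul' r f := by
    simp only [RingHom.id_apply]
    rw [coe_smulR, coeff_smulR]

theorem pow_succ_smul_top (n : ℕ) :
    (J ^ (n + 1) • ⊤ : Submodule B N) = J • (J ^ n • ⊤ : Submodule B N) := by
  rw [pow_succ', mul_smul]

theorem algebraMap_smul_RM (b : B) (g : ↥(RM J N)) :
    ((algebraMap B (reesAlgebra J) b • g : ↥(RM J N)) : PolynomialModule B N) = b • g.1 := by
  rw [algebraMap_smul]
  rfl

theorem coeff_mem_of_mem_JR_smul (n : ℕ) (f : ↥(RM J N))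
    (hf : f ∈ JR J • (⊤ : Submodule (reesAlgebra J) ↥(RM J N))) :
    f.1.coeff n ∈ (J ^ (n + 1) • ⊤ : Submodule B N) := by
  refine Submodule.smul_induction_on hf ?_ ?_
  · intro r hr g _
    have key : ∀ g : ↥(RM J N), (r • g).1.coeff n ∈ (J ^ (n + 1) • ⊤ : Submodule B N) := by
      refine Submodule.span_induction (p := fun r _ => ∀ g : ↥(RM J N),
        (r • g).1.coeff n ∈ (J ^ (n + 1) • ⊤ : Submodule B N)) ?_ ?_ ?_ ?_ hr
      · rintro _ ⟨b, hb, rfl⟩ g
        rw [algebraMap_smul_RM, coeff_smulR, pow_succ_smul_top]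
        exact Submodule.smul_mem_smul hb (g.2 n)
      · intro g
        rw [zero_smul]
        exact Submodule.zero_mem _
      · intro x y _ _ hx hy g
        rw [add_smul]
        exact Submodule.add_mem _ (hx g) (hy g)
      · intro a x _ hx g
        rw [smul_eq_mul, mul_comm, mul_smul]
        exact hx (a • g)
    exact key g
  · intro x y hx hy
    exact Submodule.add_mem _ hx hy

theorem single_mem (n : ℕ) (x : N) (hx : x ∈ (J ^ n • ⊤ : Submodule B N)) :
    PolynomialModule.single B n x ∈ RM J N := by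
  intro i
  rw [PolynomialModule.coeff_single, Finsupp.single_apply]
  split_ifs with h
  · subst h; exact hx
  · exact Submodule.zero_mem _

theorem single_smulR (n : ℕ) (r : R) (x : N) :
    PolynomialModule.single B n (r • x) = r • PolynomialModule.single B n x := by
  rw [← algebraMap_smul B r x, PolynomialModule.single_smul, algebraMap_smul]

def sgl (n : ℕ) : ↥((J ^ n • (⊤ : Submodule B N)).restrictScalars R) →ₗ[R] GG J N where
  toFun x := Submodule.Quotient.mk ⟨PolynomialModule.single B n x.1, single_mem J N n x.1 x.2⟩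
  map_add' x y := by
    rw [← Submodule.Quotient.mk_add]
    congr 1
    apply Subtype.ext
    simp [PolynomialModule.single_add]
  map_smul' r x := by
    rw [RingHom.id_apply, ← Submodule.Quotient.mk_smul]
    congr 1
    apply Subtype.ext
    rw [coe_smulR]
    exact single_smulR N n r x.1

theorem single_mem_JR_smul (n : ℕ) (y : N) (hy : y ∈ J • (J ^ n • ⊤ : Submodule B N)) :
    (⟨PolynomialModule.single B n y, single_mem J N n y (Submodule.smul_le_right hy)⟩ : ↥(RM J N)) ∈
      JR J • (⊤ : Submodule (reesAlgebra J) ↥(RM J N)) := by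
  refine Submodule.smul_induction_on' (p := fun y hy =>
    (⟨PolynomialModule.single B n y, single_mem J N n y (Submodule.smul_le_right hy)⟩ : ↥(RM J N)) ∈
      JR J • (⊤ : Submodule (reesAlgebra J) ↥(RM J N))) hy ?_ ?_
  · intro b hb z hz
    have h1 : (⟨PolynomialModule.single B n (b • z),
        single_mem J N n (b • z) (Submodule.smul_le_right (Submodule.smul_mem_smul hb hz))⟩ : ↥(RM J N)) =
        algebraMap B (reesAlgebra J) b • ⟨PolynomialModule.single B n z, single_mem J N n z hz⟩ := by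
      apply Subtype.ext
      rw [algebraMap_smul_RM]
      exact PolynomialModule.single_smul n b z
    rw [h1]
    exact Submodule.smul_mem_smul (Ideal.mem_map_of_mem _ hb) Submodule.mem_top
  · intro y1 hy1 y2 hy2 h1 h2
    have h3 : (⟨PolynomialModule.single B n (y1 + y2),
        single_mem J N n (y1 + y2) (Submodule.smul_le_right (Submodule.add_mem _ hy1 hy2))⟩ : ↥(RM J N)) =
        ⟨PolynomialModule.single B n y1, single_mem J N n y1 (Submodule.smul_le_right hy1)⟩ +
        ⟨PolynomialModule.single B n y2, single_mem J N n y2 (Submodule.smul_le_right hy2)⟩ := by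
      apply Subtype.ext
      simp [PolynomialModule.single_add]
    rw [h3]
    exact Submodule.add_mem _ h1 h2

theorem sgl_eq_zero (n : ℕ) (x : ↥((J ^ n • (⊤ : Submodule B N)).restrictScalars R))
    (hx : x.1 ∈ (J ^ (n + 1) • ⊤ : Submodule B N)) : sgl (R := R) J N n x = 0 := by
  rw [pow_succ_smul_top] at hx
  exact (Submodule.Quotient.mk_eq_zero _).mpr (single_mem_JR_smul J N n x.1 hx)

section maps
variable (R) (n : ℕ)

abbrev Qn : Submodule R N := (J ^ n • (⊤ : Submodule B N)).restrictScalars R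
abbrev Pn : Submodule R N := (J ^ (n + 1) • (⊤ : Submodule B N)).restrictScalars R

def psi : ↥(Qn R J N n) →ₗ[R] N ⧸ Pn R J N n := (Pn R J N n).mkQ ∘ₗ (Qn R J N n).subtype

theorem range_psi : LinearMap.range (psi R J N n) = Submodule.map (Pn R J N n).mkQ (Qn R J N n) := by
  rw [psi, LinearMap.range_comp, Submodule.range_subtype]

theorem ker_psi_le : LinearMap.ker (psi R J N n) ≤ LinearMap.ker (sgl (R := R) J N n) := by
  intro x hx
  rw [LinearMap.mem_ker] at hx ⊢
  apply sgl_eq_zero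
  have : (Pn R J N n).mkQ x.1 = 0 := hx
  rw [Submodule.mkQ_apply, Submodule.Quotient.mk_eq_zero] at this
  exact this

def iMap : ↥(Submodule.map (Pn R J N n).mkQ (Qn R J N n)) →ₗ[R] GG J N :=
  (Submodule.liftQ (LinearMap.ker (psi R J N n)) (sgl (R := R) J N n) (ker_psi_le R J N n)) ∘ₗ
    ((psi R J N n).quotKerEquivRange.symm.toLinearMap ∘ₗ
      (LinearEquiv.ofEq _ _ (range_psi R J N n).symm).toLinearMap)

theorem iMap_mk (x : N) (hx : x ∈ Qn R J N n) :
    iMap R J N n ⟨(Pn R J N n).mkQ x, Submodule.mem_map_of_mem hx⟩ = sgl (R := R) J N n ⟨x, hx⟩ := by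
  have h1 : (LinearEquiv.ofEq _ _ (range_psi R J N n).symm)
      ⟨(Pn R J N n).mkQ x, Submodule.mem_map_of_mem hx⟩ =
      ⟨psi R J N n ⟨x, hx⟩, LinearMap.mem_range_self _ _⟩ := rfl
  rw [iMap, LinearMap.comp_apply, LinearMap.comp_apply, LinearEquiv.coe_coe, LinearEquiv.coe_coe, h1,
    LinearMap.quotKerEquivRange_symm_apply_image, Submodule.mkQ_apply, Submodule.liftQ_apply]

theorem coeffR_mem_Pn (f : ↥(RM J N))
    (hf : f ∈ (JR J • (⊤ : Submodule (reesAlgebra J) ↥(RM J N))).restrictScalars R) :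
    f ∈ LinearMap.ker ((Pn R J N n).mkQ ∘ₗ coeffR (R := R) J N n) := by
  rw [LinearMap.mem_ker, LinearMap.comp_apply, Submodule.mkQ_apply, Submodule.Quotient.mk_eq_zero]
  exact coeff_mem_of_mem_JR_smul J N n f hf

def rho : GG J N →ₗ[R] N ⧸ Pn R J N n :=
  (Submodule.liftQ ((JR J • (⊤ : Submodule (reesAlgebra J) ↥(RM J N))).restrictScalars R)
    ((Pn R J N n).mkQ ∘ₗ coeffR (R := R) J N n) (coeffR_mem_Pn R J N n)) ∘ₗ
    (Submodule.Quotient.restrictScalarsEquiv R
      (JR J • (⊤ : Submodule (reesAlgebra J) ↥(RM J N)))).symm.toLinearMap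

theorem rho_mk (f : ↥(RM J N)) :
    rho R J N n (Submodule.Quotient.mk f) = (Pn R J N n).mkQ (f.1.coeff n) := rfl

theorem rho_mem (g : GG J N) : rho R J N n g ∈ Submodule.map (Pn R J N n).mkQ (Qn R J N n) := by
  obtain ⟨f, rfl⟩ := Submodule.Quotient.mk_surjective _ g
  rw [rho_mk]
  exact Submodule.mem_map_of_mem (f.2 n)

def rMap : GG J N →ₗ[R] ↥(Submodule.map (Pn R J N n).mkQ (Qn R J N n)) :=
  LinearMap.codRestrict _ (rho R J N n) (rho_mem R J N n)

theorem rMap_comp_iMap : rMap R J N n ∘ₗ iMap R J N n = LinearMap.id := by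
  ext ⟨y, hy⟩
  obtain ⟨x, hx, rfl⟩ := hy
  rw [LinearMap.comp_apply, iMap_mk R J N n x hx]
  simp only [LinearMap.id_coe, id_eq]
  show (rho R J N n (sgl (R := R) J N n ⟨x, hx⟩)) = _
  show rho R J N n (Submodule.Quotient.mk ⟨PolynomialModule.single B n x, _⟩) = _
  rw [rho_mk]
  simp

end maps

end Rees

end

end Groth.Agent.Lib.R2Lead.GrFlat

namespace Groth.Agent.Lib.R2Lead.GrFlat
open Polynomial TensorProduct
open Groth.Agent.Lib.Helper2.GenFree

noncomputable section

section consumer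

theorem flat_of_freeAway {R : Type*} [CommRing R] {G : Type*} [AddCommGroup G] [Module R G]
    {f : R} (hG : FreeAway R f G) (g : R)
    {Gr : Type*} [AddCommGroup Gr] [Module R Gr] (i : Gr →ₗ[R] G) (r : G →ₗ[R] Gr)
    (hri : r ∘ₗ i = LinearMap.id)
    (A : Type*) [CommRing A] [Algebra R A] [IsLocalization.Away (f * g) A]
    {Gr' : Type*} [AddCommGroup Gr'] [Module R Gr'] [Module A Gr'] [IsScalarTower R A Gr']
    (γ : Gr →ₗ[R] Gr') [IsLocalizedModule (Submonoid.powers (f * g)) γ] : Module.Flat A Gr' := by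
  have hfree : Module.Free A (A ⊗[R] G) :=
    (hG.mul_right g).free A (TensorProduct.mk R A G 1)
  let I' : Gr' →ₗ[R] A ⊗[R] G :=
    IsLocalizedModule.map (Submonoid.powers (f * g)) γ (TensorProduct.mk R A G 1) i
  let R' : A ⊗[R] G →ₗ[R] Gr' :=
    IsLocalizedModule.map (Submonoid.powers (f * g)) (TensorProduct.mk R A G 1) γ r
  have hcomp : R' ∘ₗ I' = LinearMap.id := by
    rw [← IsLocalizedModule.map_comp', hri, IsLocalizedModule.map_id]
  have hcomp' : (R'.extendScalarsOfIsLocalization (Submonoid.powers (f * g)) A) ∘ₗ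
      (I'.extendScalarsOfIsLocalization (Submonoid.powers (f * g)) A) = LinearMap.id := by
    ext x
    exact LinearMap.congr_fun hcomp x
  haveI : Module.Projective A Gr' := Module.Projective.of_split _ _ hcomp'
  infer_instance

end consumer

section compat

theorem exists_isLocalizedModule_subquotient {R : Type*} [CommRing R] (S : Submonoid R)
    (Rp : Type*) [CommRing Rp] [Algebra R Rp] [IsLocalization S Rp]
    {M N : Type*} [AddCommGroup M] [Module R M] [AddCommGroup N] [Module R N] [Module Rp N]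
    [IsScalarTower R Rp N]
    (f : M →ₗ[R] N) [IsLocalizedModule S f] (P Q : Submodule R M) (P' Q' : Submodule Rp N)
    (hP : P' = P.localized' Rp S f) (hQ : Q' = Q.localized' Rp S f) :
    ∃ γ : ↥(Submodule.map P.mkQ Q) →ₗ[R] ↥(Submodule.map P'.mkQ Q'), IsLocalizedModule S γ := by
  subst hP hQ
  have claim : (Submodule.map P.mkQ Q).localized' Rp S (P.toLocalizedQuotient' Rp S f) =
      Submodule.map (P.localized' Rp S f).mkQ (Q.localized' Rp S f) := by
    rw [Submodule.localized'_eq_span Rp S (P.toLocalizedQuotient' Rp S f) (Submodule.map P.mkQ Q),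
      Submodule.localized'_eq_span Rp S f Q, Submodule.map_span]
    congr 1
    ext y
    constructor
    · rintro ⟨_, ⟨x, hx, rfl⟩, rfl⟩
      exact ⟨f x, ⟨x, hx, rfl⟩, rfl⟩
    · rintro ⟨_, ⟨x, hx, rfl⟩, rfl⟩
      exact ⟨P.mkQ x, ⟨x, hx, rfl⟩, rfl⟩
  refine ⟨((LinearEquiv.ofEq _ _ claim).restrictScalars R).toLinearMap ∘ₗ
    (Submodule.map P.mkQ Q).toLocalized' Rp S (P.toLocalizedQuotient' Rp S f), ?_⟩
  exact IsLocalizedModule.of_linearEquiv S _ _

end compat

end

end Groth.Agent.Lib.R2Lead.GrFlat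

namespace Groth.Agent.Lib.R2Lead.GrFlat
open Polynomial TensorProduct
open Groth.Agent.Lib.Helper2.GenFree

noncomputable section

section Fil
variable {A₀ : Type u} [CommRing A₀] {B₀ : Type u} [CommRing B₀] [Algebra A₀ B₀] (J₀ : Ideal B₀)
  (M₀ : Type u) [AddCommGroup M₀] [Module B₀ M₀] [Module A₀ M₀] [IsScalarTower A₀ B₀ M₀]

variable (A₀) in
/-- The filtration of the statement. -/
def Fil (A' : Type u) [CommRing A'] [Algebra A₀ A'] (n : ℕ) : Submodule A' (A' ⊗[A₀] M₀) :=
  LinearMap.range (LinearMap.baseChange A'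
    ((J₀ ^ n • (⊤ : Submodule B₀ M₀)).restrictScalars A₀).subtype)

theorem Fil_eq_span (A' : Type u) [CommRing A'] [Algebra A₀ A'] (n : ℕ) :
    Fil A₀ J₀ M₀ A' n = Submodule.span A'
      ((TensorProduct.mk A₀ A' M₀ 1) '' ((J₀ ^ n • ⊤ : Submodule B₀ M₀) : Set M₀)) := by
  apply le_antisymm
  · rintro _ ⟨z, rfl⟩
    induction z using TensorProduct.induction_on with
    | zero => simp
    | tmul a y =>
      rw [LinearMap.baseChange_tmul]
      have : a ⊗ₜ[A₀] (y : M₀) = a • (TensorProduct.mk A₀ A' M₀ 1 (y : M₀)) := by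
        simp [TensorProduct.smul_tmul']
      show a ⊗ₜ[A₀] (y : M₀) ∈ _
      rw [this]
      exact Submodule.smul_mem _ _ (Submodule.subset_span ⟨y.1, y.2, rfl⟩)
    | add x y hx hy =>
      rw [map_add]
      exact Submodule.add_mem _ hx hy
  · rw [Submodule.span_le]
    rintro _ ⟨x, hx, rfl⟩
    exact ⟨1 ⊗ₜ ⟨x, hx⟩, by simp⟩

section compat
variable (A' : Type u) [CommRing A'] [Algebra A₀ A'] (A'' : Type u) [CommRing A''] [Algebra A₀ A'']
  [Algebra A' A''] [IsScalarTower A₀ A' A''] (h : A') [IsLocalization.Away h A'']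

variable (A₀) in
def lam : A' ⊗[A₀] M₀ →ₗ[A'] A'' ⊗[A₀] M₀ :=
  AlgebraTensorModule.rTensor A₀ M₀ (Algebra.linearMap A' A'')

instance : IsLocalizedModule (Submonoid.powers h) (lam A₀ M₀ A' A'') := by
  unfold lam
  infer_instance

theorem lam_one_tmul (x : M₀) : lam A₀ M₀ A' A'' ((1 : A') ⊗ₜ[A₀] x) = (1 : A'') ⊗ₜ[A₀] x := by
  simp [lam]

theorem Fil_localized (n : ℕ) :
    Fil A₀ J₀ M₀ A'' n = (Fil A₀ J₀ M₀ A' n).localized' A'' (Submonoid.powers h) (lam A₀ M₀ A' A'') := by
  rw [Fil_eq_span, Fil_eq_span, Submodule.localized'_span, Set.image_image]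
  congr 1
  ext y
  constructor
  · rintro ⟨x, hx, rfl⟩
    exact ⟨x, hx, by simp [lam_one_tmul]⟩
  · rintro ⟨x, hx, rfl⟩
    exact ⟨x, hx, by simp [lam_one_tmul]⟩

theorem exists_gamma (n : ℕ) :
    ∃ γ : ↥(Submodule.map (Fil A₀ J₀ M₀ A' (n + 1)).mkQ (Fil A₀ J₀ M₀ A' n)) →ₗ[A']
        ↥(Submodule.map (Fil A₀ J₀ M₀ A'' (n + 1)).mkQ (Fil A₀ J₀ M₀ A'' n)),
      IsLocalizedModule (Submonoid.powers h) γ :=
  exists_isLocalizedModule_subquotient (Submonoid.powers h) A'' (lam A₀ M₀ A' A'')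
    (Fil A₀ J₀ M₀ A' (n + 1)) (Fil A₀ J₀ M₀ A' n) (Fil A₀ J₀ M₀ A'' (n + 1)) (Fil A₀ J₀ M₀ A'' n)
    (Fil_localized J₀ M₀ A' A'' h (n + 1)) (Fil_localized J₀ M₀ A' A'' h n)

end compat

end Fil

end

end Groth.Agent.Lib.R2Lead.GrFlat

namespace Groth.Agent.Lib.R2Lead.GrFlat
open Polynomial TensorProduct
open Groth.Agent.Lib.Helper2.GenFree

noncomputable section

section RightMod
variable {A₀ : Type u} [CommRing A₀] {B₀ : Type u} [CommRing B₀] [Algebra A₀ B₀] (J₀ : Ideal B₀)
  (M₀ : Type u) [AddCommGroup M₀] [Module B₀ M₀] [Module A₀ M₀] [IsScalarTower A₀ B₀ M₀]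
  (D : Type u) [CommRing D] [Algebra A₀ D]

variable (A₀ B₀) in
/-- The action of `D ⊗ B₀` on `D ⊗ M₀`, as an algebra hom to endomorphisms. -/
def actHom : D ⊗[A₀] B₀ →ₐ[D] Module.End D (D ⊗[A₀] M₀) :=
  Algebra.TensorProduct.lift (Algebra.ofId D (Module.End D (D ⊗[A₀] M₀)))
    ((Module.End.baseChangeHom A₀ D M₀).comp (Algebra.lsmul A₀ A₀ M₀))
    (fun x _ => Algebra.commute_algebraMap_left x _)

theorem actHom_tmul (a : D) (b : B₀) (a' : D) (m : M₀) :
    actHom A₀ B₀ M₀ D (a ⊗ₜ[A₀] b) (a' ⊗ₜ[A₀] m) = (a * a') ⊗ₜ[A₀] (b • m) := by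
  rw [actHom, Algebra.TensorProduct.lift_tmul, Module.End.mul_apply, Algebra.ofId_apply,
    Module.algebraMap_end_apply, AlgHom.comp_apply]
  show a • (LinearMap.baseChange D ((Algebra.lsmul A₀ A₀ M₀) b)) (a' ⊗ₜ[A₀] m) = _
  rw [LinearMap.baseChange_tmul, TensorProduct.smul_tmul', smul_eq_mul]
  rfl

instance rightModule : Module (D ⊗[A₀] B₀) (D ⊗[A₀] M₀) :=
  Module.compHom _ (actHom A₀ B₀ M₀ D : D ⊗[A₀] B₀ →+* Module.End D (D ⊗[A₀] M₀))

theorem smul_def' (b : D ⊗[A₀] B₀) (x : D ⊗[A₀] M₀) : b • x = actHom A₀ B₀ M₀ D b x := rfl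

theorem tmul_smul_tmul (a : D) (b : B₀) (a' : D) (m : M₀) :
    (a ⊗ₜ[A₀] b) • (a' ⊗ₜ[A₀] m) = (a * a') ⊗ₜ[A₀] (b • m) :=
  actHom_tmul M₀ D a b a' m

instance : IsScalarTower D (D ⊗[A₀] B₀) (D ⊗[A₀] M₀) := by
  constructor
  intro d b x
  rw [smul_def', smul_def', map_smul]
  rfl

theorem finite_rightModule [Module.Finite B₀ M₀] : Module.Finite (D ⊗[A₀] B₀) (D ⊗[A₀] M₀) := by
  classical
  obtain ⟨s, hs⟩ := (Module.Finite.fg_top : (⊤ : Submodule B₀ M₀).FG)
  refine ⟨⟨s.image (TensorProduct.mk A₀ D M₀ 1), ?_⟩⟩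
  rw [eq_top_iff]
  have key : ∀ m ∈ Submodule.span B₀ (s : Set M₀), ∀ a : D,
      a ⊗ₜ[A₀] m ∈ Submodule.span (D ⊗[A₀] B₀) ((s.image (TensorProduct.mk A₀ D M₀ 1) : Finset _) : Set (D ⊗[A₀] M₀)) := by
    intro m hm
    refine Submodule.span_induction (p := fun m _ => ∀ a : D, a ⊗ₜ[A₀] m ∈
      Submodule.span (D ⊗[A₀] B₀) ((s.image (TensorProduct.mk A₀ D M₀ 1) : Finset _) : Set (D ⊗[A₀] M₀))) ?_ ?_ ?_ ?_ hm
    · intro m hm a
      have : a ⊗ₜ[A₀] m = (a ⊗ₜ[A₀] (1 : B₀)) • ((1 : D) ⊗ₜ[A₀] m) := by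
        rw [tmul_smul_tmul, mul_one, one_smul]
      rw [this]
      refine Submodule.smul_mem _ _ (Submodule.subset_span ?_)
      rw [Finset.coe_image]
      exact ⟨m, hm, rfl⟩
    · intro a
      rw [TensorProduct.tmul_zero]
      exact Submodule.zero_mem _
    · intro x y _ _ hx hy a
      rw [TensorProduct.tmul_add]
      exact Submodule.add_mem _ (hx a) (hy a)
    · intro b x _ hx a
      have : a ⊗ₜ[A₀] (b • x) = ((1 : D) ⊗ₜ[A₀] b) • (a ⊗ₜ[A₀] x) := by
        rw [tmul_smul_tmul, one_mul]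
      rw [this]
      exact Submodule.smul_mem _ _ (hx a)
  intro x _
  induction x using TensorProduct.induction_on with
  | zero => exact Submodule.zero_mem _
  | tmul a m => exact key m (by rw [hs]; trivial) a
  | add x y hx hy => exact Submodule.add_mem _ (hx trivial) (hy trivial)

variable (A₀) in
/-- The extended ideal. -/
def Jext : Ideal (D ⊗[A₀] B₀) :=
  J₀.map (Algebra.TensorProduct.includeRight : B₀ →ₐ[A₀] D ⊗[A₀] B₀)

theorem Jext_pow (n : ℕ) : Jext A₀ J₀ D ^ n =
    (J₀ ^ n).map (Algebra.TensorProduct.includeRight : B₀ →ₐ[A₀] D ⊗[A₀] B₀) := by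
  rw [Jext, Ideal.map_pow]

theorem Fil_eq_restrictScalars (n : ℕ) :
    Fil A₀ J₀ M₀ D n =
      ((Jext A₀ J₀ D ^ n • (⊤ : Submodule (D ⊗[A₀] B₀) (D ⊗[A₀] M₀))).restrictScalars D) := by
  apply le_antisymm
  · rw [Fil_eq_span, Submodule.span_le]
    rintro _ ⟨x, hx, rfl⟩
    show (1 : D) ⊗ₜ[A₀] x ∈ (Jext A₀ J₀ D ^ n • (⊤ : Submodule (D ⊗[A₀] B₀) (D ⊗[A₀] M₀)))
    refine Submodule.smul_induction_on hx ?_ ?_
    · intro j hj m _
      have : (1 : D) ⊗ₜ[A₀] (j • m) = ((1 : D) ⊗ₜ[A₀] j) • ((1 : D) ⊗ₜ[A₀] m) := by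
        rw [tmul_smul_tmul, one_mul]
      rw [this]
      refine Submodule.smul_mem_smul ?_ Submodule.mem_top
      rw [Jext_pow]
      exact Ideal.mem_map_of_mem _ hj
    · intro x y hx hy
      rw [TensorProduct.tmul_add]
      exact Submodule.add_mem _ hx hy
  · intro y hy
    have hy' : y ∈ (Jext A₀ J₀ D ^ n • (⊤ : Submodule (D ⊗[A₀] B₀) (D ⊗[A₀] M₀))) := hy
    refine Submodule.smul_induction_on hy' ?_ ?_
    · intro r hr y _
      rw [Jext_pow] at hr
      have key : ∀ y : D ⊗[A₀] M₀, r • y ∈ Fil A₀ J₀ M₀ D n := by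
        refine Submodule.span_induction (p := fun r _ => ∀ y : D ⊗[A₀] M₀, r • y ∈ Fil A₀ J₀ M₀ D n)
          ?_ ?_ ?_ ?_ hr
        · rintro _ ⟨j, hj, rfl⟩ y
          induction y using TensorProduct.induction_on with
          | zero => rw [smul_zero]; exact Submodule.zero_mem _
          | tmul a m =>
            show ((1 : D) ⊗ₜ[A₀] j) • (a ⊗ₜ[A₀] m) ∈ _
            rw [tmul_smul_tmul, one_mul, Fil_eq_span]
            have : a ⊗ₜ[A₀] (j • m) = a • (TensorProduct.mk A₀ D M₀ 1 (j • m)) := by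
              simp [TensorProduct.smul_tmul']
            rw [this]
            refine Submodule.smul_mem _ _ (Submodule.subset_span ⟨j • m, ?_, rfl⟩)
            exact Submodule.smul_mem_smul hj Submodule.mem_top
          | add x y hx hy => rw [smul_add]; exact Submodule.add_mem _ hx hy
        · intro y
          rw [zero_smul]
          exact Submodule.zero_mem _
        · intro r1 r2 _ _ h1 h2 y
          rw [add_smul]
          exact Submodule.add_mem _ (h1 y) (h2 y)
        · intro b r' _ hr' y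
          rw [smul_eq_mul, mul_comm, mul_smul]
          exact hr' (b • y)
      exact key y
    · intro x y hx hy
      exact Submodule.add_mem _ hx hy

end RightMod

end

end Groth.Agent.Lib.R2Lead.GrFlat

namespace Groth.Agent.Lib.R2Lead.GrFlat
open Polynomial TensorProduct
open Groth.Agent.Lib.Helper2.GenFree

noncomputable section

section Good
variable {A₀ : Type u} [CommRing A₀] {B₀ : Type u} [CommRing B₀] [Algebra A₀ B₀] (J₀ : Ideal B₀)
  (M₀ : Type u) [AddCommGroup M₀] [Module B₀ M₀] [Module A₀ M₀] [IsScalarTower A₀ B₀ M₀]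

theorem flat_aux (D : Type u) [CommRing D] [Algebra A₀ D]
    {f : D} (hG : FreeAway D f (GG (Jext A₀ J₀ D) (D ⊗[A₀] M₀))) (g : D)
    (A'' : Type u) [CommRing A''] [Algebra D A''] [IsLocalization.Away (f * g) A'']
    {Gr' : Type u} [AddCommGroup Gr'] [Module D Gr'] [Module A'' Gr'] [IsScalarTower D A'' Gr']
    (n : ℕ) (P Q : Submodule D (D ⊗[A₀] M₀))
    (hP : P = Pn D (Jext A₀ J₀ D) (D ⊗[A₀] M₀) n) (hQ : Q = Qn D (Jext A₀ J₀ D) (D ⊗[A₀] M₀) n)
    (γ : ↥(Submodule.map P.mkQ Q) →ₗ[D] Gr') [IsLocalizedModule (Submonoid.powers (f * g)) γ] :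
    Module.Flat A'' Gr' := by
  subst hP hQ
  exact flat_of_freeAway hG g (iMap D (Jext A₀ J₀ D) (D ⊗[A₀] M₀) n)
    (rMap D (Jext A₀ J₀ D) (D ⊗[A₀] M₀) n) (rMap_comp_iMap D (Jext A₀ J₀ D) (D ⊗[A₀] M₀) n) A'' γ

theorem good_of_domain [Algebra.FiniteType A₀ B₀] [Module.Finite B₀ M₀]
    (D : Type u) [CommRing D] [IsDomain D] [Algebra A₀ D] [IsNoetherianRing D] :
    ∃ f : D, f ≠ 0 ∧ ∀ (g : D) (A'' : Type u) [CommRing A''] [Algebra D A''] [Algebra A₀ A'']
      [IsScalarTower A₀ D A''] [IsLocalization.Away (f * g) A''] (n : ℕ),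
      Module.Flat A'' ↥(Submodule.map (Fil A₀ J₀ M₀ A'' (n + 1)).mkQ (Fil A₀ J₀ M₀ A'' n)) := by
  haveI := finite_rightModule (A₀ := A₀) (B₀ := B₀) M₀ D
  obtain ⟨f, hf, hG⟩ := exists_freeAway_GG (R := D) (Jext A₀ J₀ D) (D ⊗[A₀] M₀)
  refine ⟨f, hf, ?_⟩
  intro g A'' _ _ _ _ _ n
  obtain ⟨γ, hγ⟩ := exists_gamma (A₀ := A₀) J₀ M₀ D A'' (f * g) n
  exact flat_aux J₀ M₀ D hG g A'' n (Fil A₀ J₀ M₀ D (n + 1)) (Fil A₀ J₀ M₀ D n)
    (Fil_eq_restrictScalars J₀ M₀ D (n + 1)) (Fil_eq_restrictScalars J₀ M₀ D n) γ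

end Good

end

end Groth.Agent.Lib.R2Lead.GrFlat

namespace Groth.Agent.Lib.R2Lead.GrFlat
open Polynomial TensorProduct
open Groth.Agent.Lib.Helper2.GenFree

noncomputable section

section Strat
variable {A₀ : Type u} [CommRing A₀]

open PrimeSpectrum AlgebraicGeometry CategoryTheory

/-- the stratum set `V(p) ∩ D(h)` -/
def Sset (d : Ideal A₀ × A₀) : Set (PrimeSpectrum A₀) :=
  zeroLocus (d.1 : Set A₀) ∩ (basicOpen d.2 : Set (PrimeSpectrum A₀))

theorem mem_Sset (d : Ideal A₀ × A₀) (x : PrimeSpectrum A₀) :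
    x ∈ Sset d ↔ d.1 ≤ x.asIdeal ∧ d.2 ∉ x.asIdeal := by
  rw [Sset, Set.mem_inter_iff, mem_zeroLocus, SetLike.coe_subset_coe]
  rfl

/-- the stratum ring `(A₀/p)_h` -/
abbrev Str (d : Ideal A₀ × A₀) : Type u := Localization.Away (Ideal.Quotient.mk d.1 d.2)

example (d : Ideal A₀ × A₀) : Algebra A₀ (Str d) := inferInstance
example (d : Ideal A₀ × A₀) : IsScalarTower A₀ (A₀ ⧸ d.1) (Str d) := inferInstance

theorem range_comap_Str (d : Ideal A₀ × A₀) :
    Set.range (PrimeSpectrum.comap (algebraMap A₀ (Str d))) = Sset d := by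
  have h1 : algebraMap A₀ (Str d) =
      (algebraMap (A₀ ⧸ d.1) (Str d)).comp (Ideal.Quotient.mk d.1) :=
    IsScalarTower.algebraMap_eq A₀ (A₀ ⧸ d.1) (Str d)
  ext x
  rw [mem_Sset]
  constructor
  · rintro ⟨Q, rfl⟩
    constructor
    · intro a ha
      show algebraMap A₀ (Str d) a ∈ Q.asIdeal
      rw [h1, RingHom.comp_apply, Ideal.Quotient.eq_zero_iff_mem.mpr ha, map_zero]
      exact Q.asIdeal.zero_mem
    · intro hmem
      have hmem' : algebraMap A₀ (Str d) d.2 ∈ Q.asIdeal := hmem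
      have hu : IsUnit (algebraMap A₀ (Str d) d.2) := by
        rw [h1, RingHom.comp_apply]
        exact IsLocalization.Away.algebraMap_isUnit (Ideal.Quotient.mk d.1 d.2)
      exact Q.isPrime.ne_top (Ideal.eq_top_of_isUnit_mem _ hmem' hu)
  · rintro ⟨hle, hnot⟩
    have hx : x ∈ Set.range (PrimeSpectrum.comap (Ideal.Quotient.mk d.1)) := by
      rw [range_comap_of_surjective _ _ Ideal.Quotient.mk_surjective, mem_zeroLocus,
        Ideal.mk_ker]
      exact hle
    obtain ⟨Q, rfl⟩ := hx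
    have hQ : Q ∈ Set.range (PrimeSpectrum.comap (algebraMap (A₀ ⧸ d.1) (Str d))) := by
      rw [localization_away_comap_range (Str d) (Ideal.Quotient.mk d.1 d.2)]
      exact hnot
    obtain ⟨Q', rfl⟩ := hQ
    refine ⟨Q', ?_⟩
    rw [h1]
    rfl

theorem range_Spec_Str (d : Ideal A₀ × A₀) :
    (Set.range (Spec.map (CommRingCat.ofHom (algebraMap A₀ (Str d)))) : Set (PrimeSpectrum A₀)) =
      Sset d := by
  rw [← range_comap_Str]
  rfl

theorem isImmersion_Str (d : Ideal A₀ × A₀) :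
    IsImmersion (Spec.map (CommRingCat.ofHom (algebraMap A₀ (Str d)))) := by
  have h1 : CommRingCat.ofHom (algebraMap A₀ (Str d)) =
      CommRingCat.ofHom (Ideal.Quotient.mk d.1) ≫
        CommRingCat.ofHom (algebraMap (A₀ ⧸ d.1) (Str d)) := by
    rw [← CommRingCat.ofHom_comp]
  rw [h1, Spec.map_comp]
  haveI : IsOpenImmersion (Spec.map (CommRingCat.ofHom (algebraMap (A₀ ⧸ d.1) (Str d)))) :=
    IsOpenImmersion.of_isLocalization (Ideal.Quotient.mk d.1 d.2)
  haveI : IsClosedImmersion (Spec.map (CommRingCat.ofHom (Ideal.Quotient.mk d.1))) :=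
    IsClosedImmersion.spec_of_surjective _ Ideal.Quotient.mk_surjective
  infer_instance

theorem strat_induction [IsNoetherianRing A₀] (Good : Ideal A₀ × A₀ → Prop)
    (step : ∀ I : Ideal A₀, I ≠ ⊤ → ∃ d : Ideal A₀ × A₀, Good d ∧ d.2 ∉ I ∧
      Sset d = zeroLocus (I : Set A₀) ∩ (basicOpen d.2 : Set (PrimeSpectrum A₀))) :
    ∀ I : Ideal A₀, ∃ (m : ℕ) (d : Fin m → Ideal A₀ × A₀),
      (∀ i, Good (d i)) ∧ (∀ i j, i < j → Disjoint (Sset (d i)) (Sset (d j))) ∧
      (⋃ i, Sset (d i) = zeroLocus (I : Set A₀)) ∧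
      (∀ i, (basicOpen (d i).2 : Set (PrimeSpectrum A₀)) ∩ (⋃ j, ⋃ (_ : i ≤ j), Sset (d j)) =
        Sset (d i)) := by
  intro I
  induction I using WellFoundedGT.induction with
  | ind I ih =>
  by_cases hI : I = ⊤
  · refine ⟨0, Fin.elim0, fun i => i.elim0, fun i => i.elim0, ?_, fun i => i.elim0⟩
    rw [hI]
    simp
  · obtain ⟨d₀, hgood, hnot, hS⟩ := step I hI
    have hlt : I < I ⊔ Ideal.span {d₀.2} := by
      refine lt_of_le_of_ne le_sup_left ?_
      intro h
      apply hnot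
      rw [h]
      exact Ideal.mem_sup_right (Ideal.subset_span rfl)
    obtain ⟨m, d, hG, hD, hU, hT⟩ := ih _ hlt
    have hzl : zeroLocus ((I ⊔ Ideal.span {d₀.2} : Ideal A₀) : Set A₀) =
        zeroLocus (I : Set A₀) ∩ zeroLocus {d₀.2} := by
      rw [zeroLocus_sup, zeroLocus_span]
    have hsub : ∀ j, Sset (d j) ⊆ zeroLocus (I : Set A₀) ∩ zeroLocus {d₀.2} := by
      intro j
      rw [← hzl, ← hU]
      exact Set.subset_iUnion (fun i => Sset (d i)) j
    have hunion : ⋃ i, Sset ((Fin.cons d₀ d : Fin (m + 1) → Ideal A₀ × A₀) i) =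
        zeroLocus (I : Set A₀) := by
      ext x
      simp only [Set.mem_iUnion]
      constructor
      · rintro ⟨i, hi⟩
        induction i using Fin.cases with
        | zero =>
          rw [Fin.cons_zero, hS] at hi
          exact hi.1
        | succ i =>
          rw [Fin.cons_succ] at hi
          exact (hsub i hi).1
      · intro hx
        by_cases hx2 : x ∈ (basicOpen d₀.2 : Set (PrimeSpectrum A₀))
        · refine ⟨0, ?_⟩
          rw [Fin.cons_zero, hS]
          exact ⟨hx, hx2⟩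
        · have : x ∈ ⋃ i, Sset (d i) := by
            rw [hU, hzl]
            refine ⟨hx, ?_⟩
            rw [mem_zeroLocus, Set.singleton_subset_iff]
            by_contra hc
            exact hx2 hc
          obtain ⟨i, hi⟩ := Set.mem_iUnion.mp this
          exact ⟨i.succ, by rw [Fin.cons_succ]; exact hi⟩
    refine ⟨m + 1, Fin.cons d₀ d, ?_, ?_, hunion, ?_⟩
    · intro i
      induction i using Fin.cases with
      | zero => rw [Fin.cons_zero]; exact hgood
      | succ i => rw [Fin.cons_succ]; exact hG i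
    · intro i j hij
      induction j using Fin.cases with
      | zero => exact absurd hij (Fin.not_lt_zero _)
      | succ j =>
        induction i using Fin.cases with
        | zero =>
          rw [Fin.cons_zero, Fin.cons_succ, Set.disjoint_left]
          intro x hx1 hx2
          rw [hS] at hx1
          have h3 := (hsub j hx2).2
          rw [mem_zeroLocus, Set.singleton_subset_iff] at h3
          exact hx1.2 h3
        | succ i =>
          rw [Fin.cons_succ, Fin.cons_succ]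
          exact hD i j (Fin.succ_lt_succ_iff.mp hij)
    · intro i
      induction i using Fin.cases with
      | zero =>
        have : (⋃ j, ⋃ (_ : (0 : Fin (m + 1)) ≤ j),
            Sset ((Fin.cons d₀ d : Fin (m + 1) → Ideal A₀ × A₀) j)) =
            ⋃ i, Sset ((Fin.cons d₀ d : Fin (m + 1) → Ideal A₀ × A₀) i) := by
          ext x
          simp only [Set.mem_iUnion, Fin.zero_le, exists_true_left]
        rw [this, hunion, Fin.cons_zero, hS, Set.inter_comm]
      | succ i =>
        have : (⋃ j, ⋃ (_ : i.succ ≤ j),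
            Sset ((Fin.cons d₀ d : Fin (m + 1) → Ideal A₀ × A₀) j)) =
            ⋃ j, ⋃ (_ : i ≤ j), Sset (d j) := by
          ext x
          simp only [Set.mem_iUnion]
          constructor
          · rintro ⟨j, hj, hx⟩
            induction j using Fin.cases with
            | zero => exact absurd hj (by simp [Fin.succ_ne_zero])
            | succ j =>
              rw [Fin.cons_succ] at hx
              exact ⟨j, Fin.succ_le_succ_iff.mp hj, hx⟩
          · rintro ⟨j, hj, hx⟩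
            exact ⟨j.succ, Fin.succ_le_succ_iff.mpr hj, by rw [Fin.cons_succ]; exact hx⟩
        rw [this, Fin.cons_succ]
        exact hT i

end Strat

end

end Groth.Agent.Lib.R2Lead.GrFlat

namespace Groth.Agent.Lib.R2Lead.GrFlat
open Polynomial TensorProduct
open Groth.Agent.Lib.Helper2.GenFree

noncomputable section

section Final
variable {A₀ : Type u} [CommRing A₀] [IsNoetherianRing A₀]
  {B₀ : Type u} [CommRing B₀] [Algebra A₀ B₀] [Algebra.FiniteType A₀ B₀] (J₀ : Ideal B₀)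
  (M₀ : Type u) [AddCommGroup M₀] [Module B₀ M₀] [Module A₀ M₀] [IsScalarTower A₀ B₀ M₀]
  [Module.Finite B₀ M₀]

open PrimeSpectrum AlgebraicGeometry CategoryTheory

/-- an element in all other minimal primes but not in `p` -/
theorem exists_sep (I : Ideal A₀) (p : Ideal A₀) (hp : p ∈ I.minimalPrimes) :
    ∃ g : A₀, g ∉ p ∧ ∀ q ∈ I.minimalPrimes, q ≠ p → g ∈ q := by
  classical
  have hfin : I.minimalPrimes.Finite := Ideal.finite_minimalPrimes_of_isNoetherianRing A₀ I
  haveI : p.IsPrime := hp.1.1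
  set T := hfin.toFinset.erase p with hT
  have hnot : ¬ T.inf id ≤ p := by
    intro hle
    rw [Ideal.IsPrime.inf_le' (inferInstance : p.IsPrime)] at hle
    obtain ⟨q, hqT, hqp⟩ := hle
    rw [hT, Finset.mem_erase, Set.Finite.mem_toFinset] at hqT
    have : p ≤ q := hp.2 hqT.2.1 hqp
    exact hqT.1 (le_antisymm hqp this)
  obtain ⟨g, hg, hgp⟩ := SetLike.not_le_iff_exists.mp hnot
  refine ⟨g, hgp, fun q hq hne => ?_⟩
  have hqT : q ∈ T := by
    rw [hT, Finset.mem_erase, Set.Finite.mem_toFinset]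
    exact ⟨hne, hq⟩
  exact (Finset.inf_le hqT : T.inf id ≤ id q) hg

/-- the goodness predicate -/
def Good (d : Ideal A₀ × A₀) : Prop :=
  ∀ n : ℕ, Module.Flat (Str d)
    ↥(Submodule.map (Fil A₀ J₀ M₀ (Str d) (n + 1)).mkQ (Fil A₀ J₀ M₀ (Str d) n))

theorem step (I : Ideal A₀) (hI : I ≠ ⊤) :
    ∃ d : Ideal A₀ × A₀, Good J₀ M₀ d ∧ d.2 ∉ I ∧
      Sset d = zeroLocus (I : Set A₀) ∩ (basicOpen d.2 : Set (PrimeSpectrum A₀)) := by
  obtain ⟨p, hp⟩ := Ideal.nonempty_minimalPrimes hI
  haveI : p.IsPrime := hp.1.1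
  have hIp : I ≤ p := hp.1.2
  obtain ⟨g, hgp, hgq⟩ := exists_sep I p hp
  obtain ⟨f, hf, hgood⟩ := good_of_domain (A₀ := A₀) J₀ M₀ (A₀ ⧸ p)
  obtain ⟨f', rfl⟩ := Ideal.Quotient.mk_surjective f
  have hf' : f' ∉ p := fun h => hf (Ideal.Quotient.eq_zero_iff_mem.mpr h)
  have hprod : f' * g ∉ p := fun h => (Ideal.IsPrime.mem_or_mem inferInstance h).elim hf' hgp
  refine ⟨(p, f' * g), ?_, fun h => hprod (hIp h), ?_⟩
  · intro n
    haveI : IsLocalization.Away (Ideal.Quotient.mk p f' * Ideal.Quotient.mk p g)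
        (Str ((p, f' * g) : Ideal A₀ × A₀)) := by
      rw [← map_mul]
      infer_instance
    exact hgood (Ideal.Quotient.mk p g) (Str ((p, f' * g) : Ideal A₀ × A₀)) n
  · ext x
    rw [mem_Sset, Set.mem_inter_iff, mem_zeroLocus, SetLike.coe_subset_coe]
    constructor
    · rintro ⟨h1, h2⟩
      exact ⟨hIp.trans h1, h2⟩
    · rintro ⟨h1, h2⟩
      have h2' : f' * g ∉ x.asIdeal := h2
      refine ⟨?_, h2'⟩
      obtain ⟨q, hq, hqx⟩ := Ideal.exists_minimalPrimes_le h1
      by_cases hqp : q = p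
      · rw [← hqp]; exact hqx
      · exfalso
        exact h2' (Ideal.mul_mem_left _ _ (hqx (hgq q hq hqp)))

theorem main :
    ∃ (m : ℕ) (A : Fin m → Type u) (_ : ∀ i, CommRing (A i)) (_ : ∀ i, Algebra A₀ (A i)),
      (∀ i, IsImmersion (Spec.map (CommRingCat.ofHom (algebraMap A₀ (A i))))) ∧
      (∀ i j, i ≠ j → Disjoint (Set.range (Spec.map (CommRingCat.ofHom (algebraMap A₀ (A i)))))
        (Set.range (Spec.map (CommRingCat.ofHom (algebraMap A₀ (A j)))))) ∧
      (⋃ i, Set.range (Spec.map (CommRingCat.ofHom (algebraMap A₀ (A i)))) = Set.univ) ∧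
      (∀ i, ∃ U : Set (Spec (CommRingCat.of A₀)), IsOpen U ∧
        U ∩ (⋃ j, ⋃ (_ : i ≤ j), Set.range (Spec.map (CommRingCat.ofHom (algebraMap A₀ (A j))))) =
          Set.range (Spec.map (CommRingCat.ofHom (algebraMap A₀ (A i))))) ∧
      ∀ i (n : ℕ), Module.Flat (A i)
        ↥(Submodule.map
            (LinearMap.range (LinearMap.baseChange (A i)
              ((J₀ ^ (n + 1) • (⊤ : Submodule B₀ M₀)).restrictScalars A₀).subtype)).mkQ
            (LinearMap.range (LinearMap.baseChange (A i)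
              ((J₀ ^ n • (⊤ : Submodule B₀ M₀)).restrictScalars A₀).subtype))) := by
  obtain ⟨m, d, hG, hD, hU, hT⟩ := strat_induction (Good J₀ M₀) (step J₀ M₀) (⊥ : Ideal A₀)
  have h3 : ∀ i, (Set.range (Spec.map (CommRingCat.ofHom (algebraMap A₀ (Str (d i))))) :
      Set (PrimeSpectrum A₀)) = Sset (d i) := fun i => range_Spec_Str (d i)
  refine ⟨m, fun i => Str (d i), fun i => inferInstance, fun i => inferInstance, ?_, ?_, ?_, ?_, ?_⟩
  · intro i
    exact isImmersion_Str (d i)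
  · intro i j hij
    have key : ∀ i j : Fin m, i < j →
        Disjoint (Set.range (Spec.map (CommRingCat.ofHom (algebraMap A₀ (Str (d i))))))
          (Set.range (Spec.map (CommRingCat.ofHom (algebraMap A₀ (Str (d j)))))) := by
      intro i j hij
      have := hD i j hij
      rw [← range_Spec_Str, ← range_Spec_Str] at this
      exact this
    rcases lt_or_gt_of_ne hij with h | h
    · exact key i j h
    · exact (key j i h).symm
  · show (⋃ i, (Set.range (Spec.map (CommRingCat.ofHom (algebraMap A₀ (Str (d i))))) :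
      Set (PrimeSpectrum A₀))) = (Set.univ : Set (PrimeSpectrum A₀))
    simp only [h3]
    rw [hU]
    simp
  · intro i
    refine ⟨(basicOpen (d i).2 : Set (PrimeSpectrum A₀)), (basicOpen (d i).2).isOpen, ?_⟩
    show (basicOpen (d i).2 : Set (PrimeSpectrum A₀)) ∩ (⋃ j, ⋃ (_ : i ≤ j),
      (Set.range (Spec.map (CommRingCat.ofHom (algebraMap A₀ (Str (d j))))) :
        Set (PrimeSpectrum A₀))) =
      (Set.range (Spec.map (CommRingCat.ofHom (algebraMap A₀ (Str (d i))))) :
        Set (PrimeSpectrum A₀))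
    simp only [h3]
    exact hT i
  · intro i n
    exact hG i n

end Final

end

end Groth.Agent.Lib.R2Lead.GrFlat
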