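import Mathlib
open DirectSum

namespace Groth.Agent.Lib.R2Lead.GrNak
universe u
variable {R : Type u} [CommRing R] {σ : Type u} [SetLike σ R] [AddSubmonoidClass σ R]
  (𝒜 : ℤ → σ) [GradedRing 𝒜]
variable {M : Type u} [AddCommGroup M] [Module R M] {τ : Type u} [SetLike τ M]
  [AddSubmonoidClass τ M] (ℳ : ℤ → τ) [DirectSum.Decomposition ℳ] [SetLike.GradedSMul 𝒜 ℳ]

/-- Component of `r • x` for `x` homogeneous of degree `e`. -/
theorem comp_smul {x : M} {e : ℤ} (hx : x ∈ ℳ e) (r : R) (d : ℤ) :
    ((decompose ℳ (r • x)) d : M) = ((decompose 𝒜 r) (d - e) : R) • x := by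
  classical
  have hr : r = ∑ i ∈ (decompose 𝒜 r).support, (decompose 𝒜 r i : R) :=
    (DirectSum.sum_support_decompose 𝒜 r).symm
  have hmem : ∀ i, (decompose 𝒜 r i : R) • x ∈ ℳ (i + e) := fun i =>
    SetLike.GradedSMul.smul_mem (decompose 𝒜 r i).2 hx
  conv_lhs => rw [hr, Finset.sum_smul, decompose_sum]
  rw [DFinsupp.finsetSum_apply, AddSubmonoidClass.coe_finsetSum]
  have : ∀ i ∈ (decompose 𝒜 r).support,
      (((decompose ℳ ((decompose 𝒜 r i : R) • x)) d : ℳ d) : M) =
        if i = d - e then ((decompose 𝒜 r) (d - e) : R) • x else 0 := by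
    intro i _
    rw [decompose_of_mem ℳ (hmem i), DirectSum.coe_of_apply]
    by_cases h : i = d - e
    · subst h; simp
    · rw [if_neg h, if_neg (by intro h'; apply h; omega)]; rfl
  rw [Finset.sum_congr rfl this, Finset.sum_ite_eq']
  split_ifs with h
  · rfl
  · rw [DFinsupp.notMem_support_iff] at h
    rw [h]; simp

open scoped Classical in
/-- Component of a product. -/
theorem comp_mul (x y : R) (d : ℤ) :
    ((decompose 𝒜 (x * y)) d : R) =
      ∑ j ∈ (decompose 𝒜 y).support, ((decompose 𝒜 x) (d - j) : R) * ((decompose 𝒜 y) j : R) := by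
  classical
  have hy : y = ∑ i ∈ (decompose 𝒜 y).support, (decompose 𝒜 y i : R) :=
    (DirectSum.sum_support_decompose 𝒜 y).symm
  conv_lhs => rw [hy, Finset.mul_sum, decompose_sum]
  rw [DFinsupp.finsetSum_apply, AddSubmonoidClass.coe_finsetSum]
  refine Finset.sum_congr rfl fun j _ => ?_
  have := comp_smul 𝒜 𝒜 (x := (decompose 𝒜 y j : R)) (e := j) (decompose 𝒜 y j).2 x d
  rw [smul_eq_mul] at this
  rw [this, smul_eq_mul]

section
variable (hneg : ∀ i : ℤ, i < 0 → ∀ x ∈ 𝒜 i, x = 0)
include hneg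

theorem comp_mul_eq_zero {x y : R} {b d : ℤ}
    (hy : ∀ j < b, ((decompose 𝒜 y) j : R) = 0) (hd : d < b) :
    ((decompose 𝒜 (x * y)) d : R) = 0 := by
  classical
  rw [comp_mul]
  refine Finset.sum_eq_zero fun j hj => ?_
  rw [DFinsupp.mem_support_iff] at hj
  have hjb : b ≤ j := by
    by_contra h
    apply hj
    ext
    simpa using hy j (not_le.mp h)
  rw [hneg (d - j) (by omega) _ ((decompose 𝒜 x) (d - j)).2, zero_mul]

/-- The ideal of elements all of whose components of degree `< n` vanish. -/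
def Rge (n : ℤ) : Ideal R where
  carrier := {r | ∀ d < n, ((decompose 𝒜 r) d : R) = 0}
  add_mem' := by
    intro a b ha hb d hd
    simp [decompose_add, ha d hd, hb d hd]
  zero_mem' := by intro d _; simp
  smul_mem' := by
    intro c r hr d hd
    rw [smul_eq_mul]
    exact comp_mul_eq_zero 𝒜 hneg hr hd

theorem mem_Rge {n : ℤ} {r : R} :
    r ∈ Rge 𝒜 hneg n ↔ ∀ d < n, ((decompose 𝒜 r) d : R) = 0 := Iff.rfl

theorem Rge_mul_le (a b : ℤ) : Rge 𝒜 hneg a * Rge 𝒜 hneg b ≤ Rge 𝒜 hneg (a + b) := by
  classical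
  rw [Ideal.mul_le]
  intro x hx y hy d hd
  rw [comp_mul]
  refine Finset.sum_eq_zero fun j hj => ?_
  by_cases hjb : j < b
  · rw [hy j hjb, mul_zero]
  · rw [hx (d - j) (by omega), zero_mul]

theorem eq_zero_of_forall_mem_Rge {r : R} (h : ∀ n : ℕ, r ∈ Rge 𝒜 hneg n) : r = 0 := by
  classical
  apply (decompose 𝒜).injective
  rw [decompose_zero]
  ext d
  have := h (d.toNat + 1) d (by push_cast; omega)
  simpa using this

end

omit [SetLike.GradedSMul 𝒜 ℳ] in
theorem exists_homog_gens [Module.Finite R M] :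
    ∃ s : Finset M, (∀ x ∈ s, SetLike.IsHomogeneousElem ℳ x) ∧
      Submodule.span R (s : Set M) = ⊤ := by
  classical
  obtain ⟨t, ht⟩ := (Module.Finite.fg_top : (⊤ : Submodule R M).FG)
  refine ⟨t.biUnion fun x => (decompose ℳ x).support.image
    fun d => ((decompose ℳ x d : ℳ d) : M), ?_, ?_⟩
  · intro x hx
    simp only [Finset.mem_biUnion, Finset.mem_image] at hx
    obtain ⟨y, _, d, _, rfl⟩ := hx
    exact ⟨d, (decompose ℳ y d).2⟩
  · rw [eq_top_iff, ← ht, Submodule.span_le]
    intro x hx
    rw [← DirectSum.sum_support_decompose ℳ x]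
    refine Submodule.sum_mem _ fun d hd => Submodule.subset_span ?_
    simp only [Finset.coe_biUnion, Finset.coe_image, Set.mem_iUnion, Set.mem_image]
    exact ⟨x, hx, d, hd, rfl⟩

theorem mem_of_mem_smul_top {ι : Type*} (I : Ideal R) {g : ι → R}
    (hg : g ∈ I • (⊤ : Submodule R (ι → R))) (i : ι) : g i ∈ I := by
  refine Submodule.smul_induction_on (p := fun g => g i ∈ I) hg ?_ ?_
  · intro r hr f _
    simpa using I.mul_mem_right _ hr
  · intro x y hx hy
    simpa using I.add_mem hx hy

theorem exists_homogeneous_basis {k : Type u} [Field k] [Algebra k R]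
    (hneg : ∀ i : ℤ, i < 0 → ∀ x ∈ 𝒜 i, x = 0)
    (h0 : ∀ x ∈ 𝒜 0, ∃ c : k, algebraMap k R c = x)
    [Module.Finite R M] [Module.Projective R M] :
    ∃ (ι : Type u) (b : Module.Basis ι R M), ∀ i : ι, SetLike.IsHomogeneousElem ℳ (b i) := by
  classical
  -- minimal homogeneous generating set
  have hex : ∃ n : ℕ, ∃ s : Finset M, s.card = n ∧ (∀ x ∈ s, SetLike.IsHomogeneousElem ℳ x) ∧
      Submodule.span R (s : Set M) = ⊤ := by
    obtain ⟨s, hs, hs'⟩ := exists_homog_gens (R := R) ℳ
    exact ⟨_, s, rfl, hs, hs'⟩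
  obtain ⟨s, hcard, hhom, hspan⟩ := Nat.find_spec hex
  have hmin : ∀ s' : Finset M, (∀ x ∈ s', SetLike.IsHomogeneousElem ℳ x) →
      Submodule.span R (s' : Set M) = ⊤ → s.card ≤ s'.card := by
    intro s' h1 h2
    rw [hcard]
    exact Nat.find_min' hex ⟨s', rfl, h1, h2⟩
  choose! deg hdeg using hhom
  set v : s → M := Subtype.val with hv
  set π : (s → R) →ₗ[R] M := Fintype.linearCombination R v with hπ
  have hπapp : ∀ g, π g = ∑ j, g j • v j := fun g => Fintype.linearCombination_apply R v g
  have hrange : Submodule.span R (Set.range v) = ⊤ := by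
    rw [hv, Subtype.range_val]; exact hspan
  have hsurj : Function.Surjective π := by
    rw [← LinearMap.range_eq_top, hπ, Fintype.range_linearCombination, hrange]
  -- Claim 1
  have claim1 : ∀ g ∈ LinearMap.ker π, ∀ i, g i ∈ Rge 𝒜 hneg 1 := by
    intro g hg i
    rw [LinearMap.mem_ker, hπapp] at hg
    by_contra hgi
    -- the degree-zero component of g i is nonzero
    have hgi0 : ((decompose 𝒜 (g i)) 0 : R) ≠ 0 := by
      intro h
      apply hgi
      intro d hd
      rcases lt_or_eq_of_le (show d ≤ 0 by omega) with h' | h'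
      · exact hneg d h' _ (decompose 𝒜 (g i) d).2
      · rw [h']; exact h
    set c : s → R := fun j => ((decompose 𝒜 (g j)) (deg i - deg j) : R) with hc
    have hrel : ∑ j, c j • v j = 0 := by
      have h1 : ((decompose ℳ (∑ j, g j • v j)) (deg i) : M) = ∑ j, c j • v j := by
        rw [decompose_sum, DFinsupp.finsetSum_apply, AddSubmonoidClass.coe_finsetSum]
        refine Finset.sum_congr rfl fun j _ => ?_
        rw [comp_smul 𝒜 ℳ (hdeg j j.2)]
      rw [← h1, hg, decompose_zero]; rfl
    have hci : c i = ((decompose 𝒜 (g i)) 0 : R) := by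
      show ((decompose 𝒜 (g i)) (deg i - deg i) : R) = _
      rw [sub_self]
    obtain ⟨a, ha⟩ := h0 _ ((decompose 𝒜 (g i)) 0).2
    have ha0 : a ≠ 0 := by
      rintro rfl
      apply hgi0
      rw [← ha, map_zero]
    have hunit : IsUnit (c i) := by
      rw [hci, ← ha]
      exact (IsUnit.mk0 a ha0).map (algebraMap k R)
    have hmem : v i ∈ Submodule.span R ((s.erase (i : M) : Finset M) : Set M) := by
      have h1 : c i • v i = - ∑ j ∈ Finset.univ.erase i, c j • v j := by
        rw [eq_neg_iff_add_eq_zero]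
        exact (Finset.add_sum_erase Finset.univ (fun j => c j • v j) (Finset.mem_univ i)).trans hrel
      have h2 : c i • v i ∈ Submodule.span R ((s.erase (i : M) : Finset M) : Set M) := by
        rw [h1]
        refine Submodule.neg_mem _ (Submodule.sum_mem _ fun j hj => Submodule.smul_mem _ _ ?_)
        apply Submodule.subset_span
        rw [Finset.mem_erase] at hj
        simp only [Finset.coe_erase, Set.mem_diff, Finset.mem_coe, Set.mem_singleton_iff]
        exact ⟨j.2, fun h => hj.1 (Subtype.ext h)⟩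
      obtain ⟨u, hu⟩ := hunit
      have : v i = (↑u⁻¹ : R) • (c i • v i) := by
        rw [← hu, smul_smul, Units.inv_mul, one_smul]
      rw [this]
      exact Submodule.smul_mem _ _ h2
    have hspan' : Submodule.span R ((s.erase (i : M) : Finset M) : Set M) = ⊤ := by
      rw [eq_top_iff, ← hspan, Submodule.span_le]
      intro x hx
      by_cases hxi : x = (i : M)
      · rw [hxi]; exact hmem
      · apply Submodule.subset_span
        simp only [Finset.coe_erase, Set.mem_diff, Finset.mem_coe, Set.mem_singleton_iff]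
        exact ⟨hx, hxi⟩
    have := hmin (s.erase (i : M)) (fun x hx => ⟨deg x, hdeg x (Finset.mem_of_mem_erase hx)⟩) hspan'
    have := Finset.card_erase_lt_of_mem i.2
    omega
  -- splitting
  obtain ⟨sec, hsec⟩ := Module.projective_lifting_property π LinearMap.id hsurj
  set p : (s → R) →ₗ[R] (s → R) := LinearMap.id - sec ∘ₗ π with hp
  have hpK : ∀ f, p f ∈ LinearMap.ker π := by
    intro f
    have : π (sec (π f)) = π f := congrArg (fun φ => φ (π f)) hsec
    simp [hp, this]
  have hpid : ∀ g ∈ LinearMap.ker π, p g = g := by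
    intro g hg
    rw [LinearMap.mem_ker] at hg
    simp [hp, hg]
  have hK1 : LinearMap.ker π ≤ Rge 𝒜 hneg 1 • (⊤ : Submodule R (s → R)) := by
    intro g hg
    rw [pi_eq_sum_univ g]
    refine Submodule.sum_mem _ fun i _ => ?_
    exact Submodule.smul_mem_smul (claim1 g hg i) Submodule.mem_top
  have hKn : ∀ n : ℕ, LinearMap.ker π ≤ Rge 𝒜 hneg n • (⊤ : Submodule R (s → R)) := by
    intro n
    induction n with
    | zero =>
      intro g _
      rw [pi_eq_sum_univ g]
      refine Submodule.sum_mem _ fun i _ => ?_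
      refine Submodule.smul_mem_smul ?_ Submodule.mem_top
      intro d hd
      exact hneg d (by simpa using hd) _ (decompose 𝒜 (g i) d).2
    | succ n ih =>
      intro g hg
      have h1 : p g ∈ Submodule.map p (Rge 𝒜 hneg 1 • (⊤ : Submodule R (s → R))) :=
        Submodule.mem_map_of_mem (hK1 hg)
      rw [Submodule.map_smul''] at h1
      have h2 : Submodule.map p ⊤ ≤ LinearMap.ker π := by
        rintro _ ⟨f, _, rfl⟩
        exact hpK f
      have h3 := Submodule.smul_mono (le_refl (Rge 𝒜 hneg 1)) (h2.trans ih) h1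
      rw [← Submodule.mul_smul] at h3
      rw [← hpid g hg]
      refine Submodule.smul_mono_left ?_ h3
      have := Rge_mul_le 𝒜 hneg 1 n
      rwa [add_comm, ← Nat.cast_one, ← Nat.cast_add] at this
  have hker : ∀ g ∈ LinearMap.ker π, g = 0 := by
    intro g hg
    funext i
    exact eq_zero_of_forall_mem_Rge 𝒜 hneg fun n => mem_of_mem_smul_top _ (hKn n hg) i
  have hli : LinearIndependent R v := by
    rw [Fintype.linearIndependent_iff]
    intro g hg i
    have := hker g (by rw [LinearMap.mem_ker, hπapp]; exact hg)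
    rw [this]; rfl
  refine ⟨s, Module.Basis.mk hli (by rw [hrange]), fun i => ?_⟩
  rw [Module.Basis.mk_apply]
  exact ⟨deg i, hdeg i i.2⟩

end Groth.Agent.Lib.R2Lead.GrNak
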