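import Groth.Agent.Lib.Helper13QCAlgOfAffine
import Groth.Agent.Lib.R2LeadHProjA
import Groth.Prelude.Def_RelProj
set_option backward.isDefEq.respectTransparency.types false

/-!
# A quasi-coherent graded algebra from graded data on the affine opens (lead)

Given a functor `F` on the affine Zariski site with a coequifibered structure map `α` from the
structure sheaf, gradings of the rings `F(U)` preserved by the transition maps, and `α` landing in
degree zero, we build the quasi-coherent graded algebra with sections `F(U)` over affine opens.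
-/

set_option autoImplicit false
universe u

open CategoryTheory CategoryTheory.Limits AlgebraicGeometry TopologicalSpace Opposite
open Scheme.AffineZariskiSite Groth.Agent.Helper13QCAlgOfAffine Groth.Agent.Lib.R2LeadHProjA

namespace Groth.Agent.Lib.R2LeadGrOfAffine

noncomputable section

variable {S : Scheme.{u}} {F : S.AffineZariskiSiteᵒᵖ ⥤ CommRingCat.{u}}
  {α : (toOpensFunctor S).op ⋙ S.presheaf ⟶ F} (H : α.Coequifibered)
  (gr : ∀ U : S.AffineZariskiSite, ℕ → AddSubgroup (F.obj (op U)))
  (grI : ∀ U : S.AffineZariskiSite, GradedRing (gr U))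
  (hmap : ∀ {U V : S.AffineZariskiSite} (i : V ⟶ U) {d : ℕ} {b : F.obj (op U)},
    b ∈ gr U d → (F.map i.op).hom b ∈ gr V d)
  (hstr : ∀ (U : S.AffineZariskiSite) (r : Γ(S, U.1)), (α.app (op U)).hom r ∈ gr U 0)

/-- the quasi-coherent algebra -/
def Alg : RelSpec.QCAlg S := qcAlg H

/-- the identification of the sections over an affine open -/
def γ (U : S.Opens) (hU : IsAffineOpen U) :
    (Alg H).presheaf.obj (op U) ≃+* F.obj (op (⟨U, hU⟩ : S.AffineZariskiSite)) :=
  (asIso (gammaAff H U hU)).commRingCatIsoToRingEquiv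

theorem γ_res {U V : S.AffineZariskiSite} (i : V ⟶ U) (x : (Alg H).presheaf.obj (op U.1)) :
    γ H V.1 V.2 (((Alg H).presheaf.map (homOfLE (toOpens_mono i.le)).op).hom x) =
      (F.map i.op).hom (γ H U.1 U.2 x) := by
  have h := gammaAff_naturality H i
  exact congrArg (fun t : (Alg H).presheaf.obj (op U.1) ⟶ _ => t.hom x) h

theorem γ_str (U : S.Opens) (hU : IsAffineOpen U) (r : Γ(S, U)) :
    γ H U hU (((Alg H).str.app (op U)).hom r) =
      (α.app (op (⟨U, hU⟩ : S.AffineZariskiSite))).hom r := by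
  have h := π_app_gammaAff H U hU
  exact congrArg (fun t : Γ(S, U) ⟶ _ => t.hom r) h

/-- the degrees -/
def degA (U : S.Opens) (hU : IsAffineOpen U) (d : ℕ) : AddSubgroup ((Alg H).presheaf.obj (op U)) :=
  comapGr (γ H U hU) (gr ⟨U, hU⟩) d

include grI in
@[instance_reducible]
def degA_gradedRing (U : S.Opens) (hU : IsAffineOpen U) : GradedRing (degA H gr U hU) :=
  @comapGr_gradedRing _ _ _ _ (γ H U hU) _ _ _ (gr ⟨U, hU⟩) (grI ⟨U, hU⟩)

theorem mem_degA {U : S.Opens} {hU : IsAffineOpen U} {d : ℕ} {x : (Alg H).presheaf.obj (op U)} :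
    x ∈ degA H gr U hU d ↔ γ H U hU x ∈ gr ⟨U, hU⟩ d := Iff.rfl

include hmap in
theorem map_mem_site {U V : S.AffineZariskiSite} (i : V ⟶ U) {d : ℕ}
    {x : (Alg H).presheaf.obj (op U.1)} (hx : x ∈ degA H gr U.1 U.2 d) :
    ((Alg H).presheaf.map (homOfLE (toOpens_mono i.le)).op).hom x ∈ degA H gr V.1 V.2 d := by
  rw [mem_degA, γ_res]
  exact hmap i hx

include hmap in
theorem map_mem_basic {U : S.Opens} (hU : IsAffineOpen U) (f : Γ(S, U)) {W : S.Opens}
    (hW : IsAffineOpen W) (hWf : S.basicOpen f = W) (hWU : W ≤ U) {d : ℕ}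
    {x : (Alg H).presheaf.obj (op U)} (hx : x ∈ degA H gr U hU d) :
    ((Alg H).presheaf.map (homOfLE hWU).op).hom x ∈ degA H gr W hW d := by
  subst hWf
  exact map_mem_site H gr hmap
    (homOfLE (Scheme.AffineZariskiSite.basicOpen_le (⟨U, hU⟩ : S.AffineZariskiSite) f)) hx

/-- restriction to a basic open as a graded ring hom -/
def resGr {U : S.Opens} (hU : IsAffineOpen U) (f : Γ(S, U)) {W : S.Opens}
    (hW : IsAffineOpen W) (hWf : S.basicOpen f = W) (hWU : W ≤ U) :
    degA H gr U hU →+*ᵍ degA H gr W hW :=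
  { ((Alg H).presheaf.map (homOfLE hWU).op).hom with
    map_mem := fun hx => map_mem_basic H gr hmap hU f hW hWf hWU hx }

theorem eq_zero_of_locally {V : S.Opens} (y : (Alg H).presheaf.obj (op V))
    (h : ∀ p ∈ V, ∃ (W : S.Opens) (hWV : W ≤ V), p ∈ W ∧
      ((Alg H).presheaf.map (homOfLE hWV).op).hom y = 0) : y = 0 := by
  choose W hWV hpW hy using h
  refine TopCat.Sheaf.eq_of_locally_eq' ⟨(Alg H).presheaf, (Alg H).isSheaf⟩
    (fun p : V => W p.1 p.2) V (fun p => homOfLE (hWV p.1 p.2)) ?_ y 0 ?_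
  · intro p hp
    exact Opens.mem_iSup.mpr ⟨⟨p, hp⟩, hpW p hp⟩
  · intro p
    rw [map_zero]
    exact hy p.1 p.2

include grI hmap in
theorem map_mem_general {U V : S.Opens} (hU : IsAffineOpen U) (hV : IsAffineOpen V) (i : V ≤ U)
    {d : ℕ} {x : (Alg H).presheaf.obj (op U)} (hx : x ∈ degA H gr U hU d) :
    ((Alg H).presheaf.map (homOfLE i).op).hom x ∈ degA H gr V hV d := by
  classical
  letI := fun (U : S.Opens) (hU : IsAffineOpen U) => degA_gradedRing H gr grI U hU
  set y := ((Alg H).presheaf.map (homOfLE i).op).hom x with hy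
  have key : ∀ e : ℕ, e ≠ d → (DirectSum.decompose (degA H gr V hV) y e :
      (Alg H).presheaf.obj (op V)) = 0 := by
    intro e hed
    apply eq_zero_of_locally
    intro p hp
    obtain ⟨f, g, hfg, hpf⟩ := exists_basicOpen_le_affine_inter hU hV p ⟨i hp, hp⟩
    have hW : IsAffineOpen (S.basicOpen g) := hV.basicOpen g
    refine ⟨S.basicOpen g, S.basicOpen_le g, hfg ▸ hpf, ?_⟩
    have h1 := GradedRingHom.map_directSumDecompose (𝒜 := degA H gr V hV)
      (ℬ := degA H gr (S.basicOpen g) hW)
      (resGr H gr hmap hV g hW rfl (S.basicOpen_le g)) (x := y) (i := e)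
    change ((Alg H).presheaf.map (homOfLE (S.basicOpen_le g)).op).hom
      (DirectSum.decompose (degA H gr V hV) y e : (Alg H).presheaf.obj (op V)) = 0
    refine h1.trans ?_
    have h2 : (resGr H gr hmap hV g hW rfl (S.basicOpen_le g)) y ∈
        degA H gr (S.basicOpen g) hW d := by
      have hle : S.basicOpen g ≤ U := (S.basicOpen_le g).trans i
      have h3 := map_mem_basic H gr hmap hU f hW hfg hle hx
      have h4 : ((Alg H).presheaf.map (homOfLE hle).op).hom x =
          ((Alg H).presheaf.map (homOfLE (S.basicOpen_le g)).op).hom y := by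
        rw [hy, ← CommRingCat.comp_apply, ← Functor.map_comp]
        rfl
      rw [h4] at h3
      exact h3
    rw [DirectSum.decompose_of_mem_ne _ h2 hed.symm]
  have hsum := DirectSum.sum_support_decompose (degA H gr V hV) y
  rw [Finset.sum_eq_single d (fun e _ hed => key e hed) (fun hd => by
    rw [DFinsupp.notMem_support_iff] at hd
    rw [hd]; rfl)] at hsum
  rw [← hsum]
  exact SetLike.coe_mem _

/-- the quasi-coherent graded algebra with sections `F(U)` over the affine opens -/
def grAlg : RelProj.QCGrAlg S where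
  toQCAlg := Alg H
  deg := degA H gr
  graded := degA_gradedRing H gr grI
  map_mem := fun hU hV i => map_mem_general H gr grI hmap hU hV i
  str_mem U hU r := by
    rw [mem_degA, γ_str]
    exact hstr ⟨U, hU⟩ r

theorem mem_deg {U : S.Opens} {hU : IsAffineOpen U} {d : ℕ}
    {x : (Alg H).presheaf.obj (op U)} :
    x ∈ (grAlg H gr grI hmap hstr).deg U hU d ↔ γ H U hU x ∈ gr ⟨U, hU⟩ d := Iff.rfl

end

end Groth.Agent.Lib.R2LeadGrOfAffine
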