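import Mathlib
open DirectSum

/-! Graded sections of graded surjections onto graded projective modules, and graded matrices. -/

namespace Groth.Agent.Lib.R2Lead.GrProj
universe u v w
set_option linter.unusedSectionVars false
variable {ιd : Type*} [AddCommGroup ιd] [DecidableEq ιd]
variable {R : Type u} [CommRing R] {A : Type v} [CommRing A] [Algebra R A]
  (𝒜 : ιd → Submodule R A) [GradedAlgebra 𝒜]
variable {P : Type w} [AddCommGroup P] [Module A P] [Module R P] [IsScalarTower R A P]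
  (ℳ : ιd → Submodule R P) [DirectSum.Decomposition ℳ] [SetLike.GradedSMul 𝒜 ℳ]

/-- Component of `a • x` for `x` homogeneous of degree `e`. -/
theorem comp_smul {x : P} {e : ιd} (hx : x ∈ ℳ e) (a : A) (d : ιd) :
    ((decompose ℳ (a • x)) d : P) = ((decompose 𝒜 a) (d - e) : A) • x := by
  classical
  have hr : a = ∑ i ∈ (decompose 𝒜 a).support, (decompose 𝒜 a i : A) :=
    (DirectSum.sum_support_decompose 𝒜 a).symm
  have hmem : ∀ i, (decompose 𝒜 a i : A) • x ∈ ℳ (i + e) := fun i =>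
    SetLike.GradedSMul.smul_mem (decompose 𝒜 a i).2 hx
  conv_lhs => rw [hr, Finset.sum_smul, decompose_sum]
  rw [DFinsupp.finsetSum_apply, AddSubmonoidClass.coe_finsetSum]
  have : ∀ i ∈ (decompose 𝒜 a).support,
      (((decompose ℳ ((decompose 𝒜 a i : A) • x)) d : ℳ d) : P) =
        if i = d - e then ((decompose 𝒜 a) (d - e) : A) • x else 0 := by
    intro i _
    rw [decompose_of_mem ℳ (hmem i), DirectSum.coe_of_apply]
    by_cases h : i = d - e
    · subst h; simp
    · rw [if_neg h, if_neg (by intro h'; apply h; rw [← h']; abel)]; rfl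
  rw [Finset.sum_congr rfl this, Finset.sum_ite_eq']
  split_ifs with h
  · rfl
  · rw [DFinsupp.notMem_support_iff] at h
    rw [h]; simp

variable {ι : Type*} [Fintype ι] (g : ι → P) (e : ι → ιd)

/-- The `l`-th coordinate of the degree-preserving part of `σ₁`, as an additive map. -/
noncomputable def grSecCoord (σ₁ : P →ₗ[A] (ι → A)) (l : ι) : P →+ A :=
  (DirectSum.toAddMonoid (fun d : ιd =>
      ((GradedRing.proj 𝒜 (d - e l)).comp ((Pi.evalAddMonoidHom (fun _ : ι => A) l).comp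
        σ₁.toAddMonoidHom)).comp (ℳ d).subtype.toAddMonoidHom)).comp
    (decomposeAddEquiv ℳ).toAddMonoidHom

theorem grSecCoord_of_mem (σ₁ : P →ₗ[A] (ι → A)) (l : ι) {q : P} {d : ιd} (hq : q ∈ ℳ d) :
    grSecCoord 𝒜 ℳ e σ₁ l q = ((decompose 𝒜 (σ₁ q l)) (d - e l) : A) := by
  unfold grSecCoord
  simp only [AddMonoidHom.coe_comp, Function.comp_apply, AddEquiv.toAddMonoidHom_eq_coe,
    AddMonoidHom.coe_coe, decomposeAddEquiv_apply]
  rw [decompose_of_mem ℳ hq, DirectSum.toAddMonoid_of]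
  simp [GradedRing.proj_apply]

theorem grSecCoord_smul (σ₁ : P →ₗ[A] (ι → A)) (l : ι) (a : A) (q : P) :
    grSecCoord 𝒜 ℳ e σ₁ l (a • q) = a * grSecCoord 𝒜 ℳ e σ₁ l q := by
  classical
  induction q using DirectSum.Decomposition.inductionOn ℳ with
  | zero => simp
  | add q q' hq hq' => rw [smul_add, map_add, map_add, hq, hq', mul_add]
  | homogeneous q =>
    rename_i d
    induction a using DirectSum.Decomposition.inductionOn 𝒜 with
    | zero => simp
    | add a a' ha ha' => rw [add_smul, map_add, ha, ha', add_mul]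
    | homogeneous a =>
      rename_i c
      have h1 : (a : A) • (q : P) ∈ ℳ (c + d) := SetLike.GradedSMul.smul_mem a.2 q.2
      rw [grSecCoord_of_mem 𝒜 ℳ e σ₁ l h1, grSecCoord_of_mem 𝒜 ℳ e σ₁ l q.2, map_smul]
      have h2 : c + d - e l = c + (d - e l) := by abel
      rw [h2, Pi.smul_apply, smul_eq_mul]
      exact DirectSum.coe_decompose_mul_add_of_left_mem 𝒜 a.2

/-- The degree-preserving part of a section. -/
noncomputable def grSec (σ₁ : P →ₗ[A] (ι → A)) : P →ₗ[A] (ι → A) where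
  toFun q l := grSecCoord 𝒜 ℳ e σ₁ l q
  map_add' q q' := by ext l; simp
  map_smul' a q := by ext l; simp [grSecCoord_smul]

theorem grSec_of_mem (σ₁ : P →ₗ[A] (ι → A)) (l : ι) {q : P} {d : ιd} (hq : q ∈ ℳ d) :
    grSec 𝒜 ℳ e σ₁ q l = ((decompose 𝒜 (σ₁ q l)) (d - e l) : A) :=
  grSecCoord_of_mem 𝒜 ℳ e σ₁ l hq

theorem grSec_mem (σ₁ : P →ₗ[A] (ι → A)) (l : ι) {q : P} {d : ιd} (hq : q ∈ ℳ d) :
    grSec 𝒜 ℳ e σ₁ q l ∈ 𝒜 (d - e l) := by
  rw [grSec_of_mem 𝒜 ℳ e σ₁ l hq]
  exact ((decompose 𝒜 (σ₁ q l)) (d - e l)).2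

theorem grSec_section (hg : ∀ l, g l ∈ ℳ (e l)) (σ₁ : P →ₗ[A] (ι → A))
    (hσ : ∀ q, Fintype.linearCombination A g (σ₁ q) = q) (q : P) :
    Fintype.linearCombination A g (grSec 𝒜 ℳ e σ₁ q) = q := by
  classical
  induction q using DirectSum.Decomposition.inductionOn ℳ with
  | zero => simp
  | add q q' hq hq' => rw [map_add, map_add, hq, hq']
  | homogeneous q =>
    rename_i d
    rw [Fintype.linearCombination_apply]
    have h1 : ∀ l, grSec 𝒜 ℳ e σ₁ (q : P) l • g l =
        ((decompose ℳ ((σ₁ (q : P) l) • g l)) d : P) := by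
      intro l
      rw [grSec_of_mem 𝒜 ℳ e σ₁ l q.2, comp_smul 𝒜 ℳ (hg l)]
    rw [Finset.sum_congr rfl (fun l _ => h1 l)]
    have h2 := hσ (q : P)
    rw [Fintype.linearCombination_apply] at h2
    have h3 : ((decompose ℳ (∑ l, (σ₁ (q : P) l) • g l)) d : P) = (q : P) := by
      rw [h2, decompose_coe, DirectSum.of_eq_same]
    rw [decompose_sum, DFinsupp.finsetSum_apply, AddSubmonoidClass.coe_finsetSum] at h3
    exact h3

section Mat
variable [DecidableEq ι]

/-- A square matrix is graded (for the shifts `e`) when its `(l, j)` entry has degree `e j - e l`. -/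
def IsGr (X : Matrix ι ι A) : Prop := ∀ l j, X l j ∈ 𝒜 (e j - e l)

theorem IsGr.one : IsGr 𝒜 e (1 : Matrix ι ι A) := by
  intro l j
  by_cases h : l = j
  · subst h; rw [Matrix.one_apply_eq, sub_self]; exact SetLike.GradedOne.one_mem
  · rw [Matrix.one_apply_ne h]; exact Submodule.zero_mem _

theorem IsGr.add {X Y : Matrix ι ι A} (hX : IsGr 𝒜 e X) (hY : IsGr 𝒜 e Y) : IsGr 𝒜 e (X + Y) :=
  fun l j => Submodule.add_mem _ (hX l j) (hY l j)

theorem IsGr.sub {X Y : Matrix ι ι A} (hX : IsGr 𝒜 e X) (hY : IsGr 𝒜 e Y) : IsGr 𝒜 e (X - Y) :=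
  fun l j => Submodule.sub_mem _ (hX l j) (hY l j)

theorem IsGr.mul {X Y : Matrix ι ι A} (hX : IsGr 𝒜 e X) (hY : IsGr 𝒜 e Y) : IsGr 𝒜 e (X * Y) := by
  intro l j
  rw [Matrix.mul_apply]
  refine Submodule.sum_mem _ (fun k _ => ?_)
  have := SetLike.mul_mem_graded (hX l k) (hY k j)
  have h2 : e k - e l + (e j - e k) = e j - e l := by abel
  rwa [h2] at this

theorem IsGr.det_mem {X : Matrix ι ι A} (hX : IsGr 𝒜 e X) : X.det ∈ 𝒜 0 := by
  rw [Matrix.det_apply]
  refine Submodule.sum_mem _ (fun π _ => ?_)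
  have h1 : ∏ i, X (π i) i ∈ 𝒜 (∑ i, (e i - e (π i))) :=
    SetLike.prod_mem_graded 𝒜 (fun i => e i - e (π i)) (fun i => X (π i) i) (fun i _ => hX (π i) i)
  have h2 : ∑ i, (e i - e (π i)) = 0 := by
    rw [Finset.sum_sub_distrib, Equiv.sum_comp π e, sub_self]
  rw [h2] at h1
  rcases Int.units_eq_one_or (Equiv.Perm.sign π) with h | h
  · rw [h, one_smul]; exact h1
  · rw [h, Units.neg_smul, one_smul]; exact Submodule.neg_mem _ h1

end Mat

section EMat
variable [DecidableEq ι]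

/-- The matrix of `σ ∘ π`. -/
def eMat (σ₀ : P →ₗ[A] (ι → A)) : Matrix ι ι A := fun l j => σ₀ (g j) l

theorem sec_lc (σ₀ : P →ₗ[A] (ι → A)) (u : ι → A) :
    σ₀ (Fintype.linearCombination A g u) = (eMat g σ₀).mulVec u := by
  ext l
  rw [Fintype.linearCombination_apply, map_sum, Finset.sum_apply, Matrix.mulVec, dotProduct]
  refine Finset.sum_congr rfl (fun j _ => ?_)
  rw [map_smul, Pi.smul_apply, smul_eq_mul, mul_comm]
  rfl

theorem lc_mulVec (X : Matrix ι ι A) (z : ι → A) :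
    Fintype.linearCombination A g (X.mulVec z) =
      ∑ j, z j • Fintype.linearCombination A g (fun l => X l j) := by
  simp only [Fintype.linearCombination_apply, Matrix.mulVec, dotProduct, Finset.sum_smul,
    Finset.smul_sum]
  rw [Finset.sum_comm]
  refine Finset.sum_congr rfl (fun j _ => Finset.sum_congr rfl (fun l _ => ?_))
  rw [smul_smul, mul_comm]

theorem eMat_mulVec_sec (σ₀ : P →ₗ[A] (ι → A))
    (hσ : ∀ q, Fintype.linearCombination A g (σ₀ q) = q) (q : P) :
    (eMat g σ₀).mulVec (σ₀ q) = σ₀ q := by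
  rw [← sec_lc, hσ]

theorem eMat_idem (σ₀ : P →ₗ[A] (ι → A))
    (hσ : ∀ q, Fintype.linearCombination A g (σ₀ q) = q) :
    eMat g σ₀ * eMat g σ₀ = eMat g σ₀ := by
  ext l j
  rw [Matrix.mul_apply]
  have := congrFun (eMat_mulVec_sec g σ₀ hσ (g j)) l
  rw [Matrix.mulVec, dotProduct] at this
  exact this

theorem lc_eMat_mulVec (σ₀ : P →ₗ[A] (ι → A))
    (hσ : ∀ q, Fintype.linearCombination A g (σ₀ q) = q) (u : ι → A) :
    Fintype.linearCombination A g ((eMat g σ₀).mulVec u) = Fintype.linearCombination A g u := by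
  rw [← sec_lc, hσ]

end EMat

section Gens

theorem exists_homogeneous_generators [Module.Finite A P] :
    ∃ S : Finset P, (∀ x ∈ S, ∃ d, x ∈ ℳ d) ∧ Submodule.span A (S : Set P) = ⊤ := by
  classical
  obtain ⟨S, hS⟩ := (Module.Finite.fg_top : (⊤ : Submodule A P).FG)
  refine ⟨S.biUnion (fun q => (decompose ℳ q).support.image
    (fun d => ((decompose ℳ q d : ℳ d) : P))), ?_, ?_⟩
  · intro x hx
    simp only [Finset.mem_biUnion, Finset.mem_image] at hx
    obtain ⟨q, _, d, _, rfl⟩ := hx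
    exact ⟨d, (decompose ℳ q d).2⟩
  · rw [eq_top_iff, ← hS, Submodule.span_le]
    intro q hq
    rw [← DirectSum.sum_support_decompose ℳ q]
    refine Submodule.sum_mem _ (fun d hd => Submodule.subset_span ?_)
    simp only [Finset.coe_biUnion, Finset.coe_image, Set.mem_iUnion, Set.mem_image]
    exact ⟨q, hq, d, hd, rfl⟩

end Gens

end Groth.Agent.Lib.R2Lead.GrProj
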