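import Mathlib
import Groth.Agent.Lib.R2LeadDefT3
import Groth.Agent.Lib.Helper5RegImm
import Groth.Agent.Lib.Helper5RegSeq
import Groth.Agent.Lib.Helper6SmRegSch
import Groth.Agent.Lib.Helper28PolyCM
import Groth.Agent.S11449
import Groth.Agent.S12907

/-! # Local Hilbert–Burch presentations spread out to an affine neighbourhood -/

set_option autoImplicit false
universe u

namespace Groth.Agent.Lib.R2LeadHBSpread

open CategoryTheory AlgebraicGeometry Matrix
open Groth.Agent.Lib.R2Lead.DefT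
open Groth.Agent.Lib.Helper5.RegSeq

/-- algebraic core: local data -/
theorem local_data (R : Type u) [CommRing R] [IsRegularLocalRing R] (I : Ideal R)
    [LocCoh.IsCohenMacaulayLocalRing (R ⧸ I)]
    (hcodim : ringKrullDim (R ⧸ I) + 2 = ringKrullDim R) :
    ∃ (r : ℕ) (φ : Matrix (Fin (r + 1)) (Fin r) R),
      Ideal.span (Set.range (sm φ)) = I ∧
      ∃ x y : R, x ∈ I ∧ y ∈ I ∧ RegOn (⊥ : Ideal R) [x, y] := by
  classical
  obtain ⟨r, φ, h1', -, h3, h4⟩ := Groth.Agent.S11449.result R I hcodim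
  have h1 : Ideal.span (Set.range (sm φ)) = I := h1'
  refine ⟨r, φ, h1, ?_⟩
  have hIne : I ≠ ⊥ := by
    rintro rfl
    have e : (R ⧸ (⊥ : Ideal R)) ≃+* R := RingEquiv.quotientBot R
    rw [ringKrullDim_eq_of_ringEquiv e] at hcodim
    have hfin : ringKrullDim R ≠ ⊤ := ringKrullDim_ne_top
    have hbot : ringKrullDim R ≠ ⊥ := ringKrullDim_ne_bot
    obtain ⟨n, hn⟩ : ∃ n : ℕ, ringKrullDim R = n := by
      cases h : ringKrullDim R using WithBot.recBotCoe with
      | bot => exact absurd h hbot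
      | coe a =>
        cases a using ENat.recTopCoe with
        | top => exact absurd h hfin
        | coe n => exact ⟨n, rfl⟩
    rw [hn] at hcodim
    have : ((n + 2 : ℕ) : WithBot ℕ∞) = (n : ℕ) := by exact_mod_cast hcodim
    have h2 : (n + 2 : ℕ) = n := by exact_mod_cast this
    omega
  have hItop : I ≠ ⊤ := Ideal.Quotient.nontrivial_iff.mp inferInstance
  have hdepth := (Groth.Agent.S12907.result r (r + 1) φ
    (Fintype.linearCombination R (sm φ))
    (LinearMap.ker_eq_bot.mpr h3) h4.symm (by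
      rw [Fintype.range_linearCombination]
      change Ideal.span (Set.range (sm φ)) ≠ ⊥
      rw [h1]
      exact hIne)).2.2
  rw [← span_sm, h1] at hdepth
  unfold LocCoh.idealDepth at hdepth
  split_ifs at hdepth with htop
  · exfalso
    apply hItop
    rw [smul_eq_mul, Ideal.mul_top] at htop
    exact htop
  · obtain ⟨rs, hreg, hmem, hlen⟩ : ∃ rs : List R, RingTheory.Sequence.IsWeaklyRegular R rs ∧
        (∀ r ∈ rs, r ∈ I) ∧ 2 ≤ rs.length := by
      by_contra hcon
      push Not at hcon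
      have h1 : (⨆ (rs : List R) (_ : RingTheory.Sequence.IsWeaklyRegular R rs ∧
          ∀ r ∈ rs, r ∈ I), (rs.length : ℕ∞)) ≤ 1 := by
        refine iSup₂_le (fun rs h => ?_)
        have := hcon rs h.1 h.2
        exact_mod_cast (by omega : rs.length ≤ 1)
      have h2 := hdepth.trans h1
      norm_num at h2
    match rs, hreg, hmem, hlen with
    | x :: y :: rest, hreg, hmem, _ =>
      refine ⟨x, y, hmem x (by simp), hmem y (by simp), ?_⟩
      rw [isWeaklyRegular_iff_regOn] at hreg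
      have := (regOn_append ⊥ [x, y] rest).mp (by simpa using hreg)
      exact this.1

theorem regOn_unit_mul {R : Type u} [CommRing R] (L : Ideal R) (x y u v : R)
    (hu : IsUnit u) (hv : IsUnit v) (h : RegOn L [x, y]) : RegOn L [x * u, y * v] := by
  rw [regOn_cons, regOn_cons] at h ⊢
  obtain ⟨h1, h2, -⟩ := h
  have hspan : Ideal.span {x * u} = Ideal.span ({x} : Set R) :=
    Ideal.span_singleton_mul_right_unit hu x
  refine ⟨fun c hc => ?_, ?_, trivial⟩
  · have : c * (x * u) = (c * u) * x := by ring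
    rw [this] at hc
    exact (Ideal.mul_unit_mem_iff_mem _ hu).mp (h1 _ hc)
  · rw [hspan]
    intro c hc
    have : c * (y * v) = (c * v) * y := by ring
    rw [this] at hc
    exact (Ideal.mul_unit_mem_iff_mem _ hv).mp (h2 _ hc)

theorem sm_smul {R : Type u} [CommRing R] {r : ℕ} (φ : Matrix (Fin (r + 1)) (Fin r) R) (u : R)
    (i : Fin (r + 1)) : sm (u • φ) i = u ^ r * sm φ i := by
  unfold sm
  have : (u • φ).submatrix i.succAbove id = u • (φ.submatrix i.succAbove id) := rfl
  rw [this, Matrix.det_smul, Fintype.card_fin]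
  ring

/-- spreading out -/
theorem spread (A : Type u) [CommRing A] [IsNoetherianRing A] (p : Ideal A) [p.IsPrime]
    (R : Type u) [CommRing R] [Algebra A R] [IsLocalization.AtPrime R p] (I : Ideal A)
    (r : ℕ) (φ : Matrix (Fin (r + 1)) (Fin r) R)
    (h1 : Ideal.span (Set.range (sm φ)) = I.map (algebraMap A R))
    (x y : R) (hx : x ∈ I.map (algebraMap A R)) (hy : y ∈ I.map (algebraMap A R))
    (hreg : RegOn (⊥ : Ideal R) [x, y]) :
    ∃ s : A, s ∉ p ∧ ∀ (S : Type u) [CommRing S] [Algebra A S] [IsLocalization.Away s S],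
      ∃ φ' : Matrix (Fin (r + 1)) (Fin r) S,
        Ideal.span (Set.range (sm φ')) = I.map (algebraMap A S) ∧
        Function.Injective φ'.mulVecLin ∧
        LinearMap.range φ'.mulVecLin = LinearMap.ker (Fintype.linearCombination S (sm φ')) := by
  classical
  -- clear denominators in φ
  obtain ⟨t, ht⟩ := IsLocalization.exist_integer_multiples_of_finite p.primeCompl
    (fun ij : Fin (r + 1) × Fin r => φ ij.1 ij.2)
  choose a ha using ht
  let φ₀ : Matrix (Fin (r + 1)) (Fin r) A := Matrix.of fun i j => a (i, j)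
  have hu : IsUnit (algebraMap A R (t : A)) := IsLocalization.map_units R t
  have hφ₀ : φ₀.map (algebraMap A R) = (algebraMap A R (t : A)) • φ := by
    ext i j
    rw [Matrix.map_apply, Matrix.smul_apply, smul_eq_mul]
    have := ha (i, j)
    rw [Algebra.smul_def] at this
    exact this
  have hsm : ∀ i, algebraMap A R (sm φ₀ i) = (algebraMap A R (t : A)) ^ r * sm φ i := by
    intro i
    rw [← sm_map, hφ₀, sm_smul]
  set J₀ : Ideal A := Ideal.span (Set.range (sm φ₀)) with hJ₀
  have hJ₀map : J₀.map (algebraMap A R) = I.map (algebraMap A R) := by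
    rw [← h1, hJ₀, Ideal.map_span]
    apply le_antisymm
    · rw [Ideal.span_le]
      rintro _ ⟨_, ⟨i, rfl⟩, rfl⟩
      rw [hsm]
      exact Ideal.mul_mem_left _ _ (Ideal.subset_span ⟨i, rfl⟩)
    · rw [Ideal.span_le]
      rintro _ ⟨i, rfl⟩
      have hur : IsUnit ((algebraMap A R (t : A)) ^ r) := hu.pow r
      refine (Ideal.unit_mul_mem_iff_mem _ hur).mp ?_
      rw [← hsm]
      exact Ideal.subset_span ⟨_, ⟨i, rfl⟩, rfl⟩
  have hJ₀fg : J₀.FG := ⟨(Finset.univ.image (sm φ₀)), by rw [hJ₀]; simp⟩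
  obtain ⟨g₁, hg₁, H₁⟩ := exists_notMem_forall_map_le.{u, u} p R hJ₀fg hJ₀map.le
  obtain ⟨g₂, hg₂, H₂⟩ := exists_notMem_forall_map_le.{u, u} p R
    (IsNoetherian.noetherian I) hJ₀map.ge
  -- lift the regular sequence
  rw [IsLocalization.mem_map_algebraMap_iff p.primeCompl R] at hx hy
  obtain ⟨⟨ax, tx⟩, hax⟩ := hx
  obtain ⟨⟨ay, ty⟩, hay⟩ := hy
  have hreg' : RegOn ((⊥ : Ideal A).map (algebraMap A R))
      ([(ax : A), (ay : A)].map (algebraMap A R)) := by
    rw [Ideal.map_bot]
    simp only [List.map_cons, List.map_nil]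
    rw [← hax, ← hay]
    exact regOn_unit_mul ⊥ x y _ _ (IsLocalization.map_units R tx) (IsLocalization.map_units R ty) hreg
  obtain ⟨g₃, hg₃, H₃⟩ := exists_notMem_forall_regOn.{u, u} p R [(ax : A), (ay : A)] ⊥ hreg'
  refine ⟨g₁ * g₂ * g₃, ?_, ?_⟩
  · intro hmem
    rcases Ideal.IsPrime.mem_or_mem inferInstance hmem with h | h
    · rcases Ideal.IsPrime.mem_or_mem inferInstance h with h' | h'
      · exact hg₁ h'
      · exact hg₂ h'
    · exact hg₃ h
  · intro S _ _ _
    have hfu : IsUnit (algebraMap A S (g₁ * g₂ * g₃)) := IsLocalization.Away.algebraMap_isUnit _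
    rw [map_mul, map_mul] at hfu
    have hu₃ : IsUnit (algebraMap A S g₃) := isUnit_of_mul_isUnit_right hfu
    have hu₁₂ := isUnit_of_mul_isUnit_left hfu
    have hu₁ : IsUnit (algebraMap A S g₁) := isUnit_of_mul_isUnit_left hu₁₂
    have hu₂ : IsUnit (algebraMap A S g₂) := isUnit_of_mul_isUnit_right hu₁₂
    have hIS : Ideal.span (Set.range (sm (φ₀.map (algebraMap A S)))) = I.map (algebraMap A S) := by
      have h2 : J₀.map (algebraMap A S) = I.map (algebraMap A S) :=
        le_antisymm (H₁ S hu₁) (H₂ S hu₂)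
      rw [← h2, hJ₀, Ideal.map_span]
      congr 1
      ext z
      constructor
      · rintro ⟨i, rfl⟩
        exact ⟨_, ⟨i, rfl⟩, (sm_map _ _ _).symm⟩
      · rintro ⟨_, ⟨i, rfl⟩, rfl⟩
        exact ⟨i, sm_map _ _ _⟩
    refine ⟨φ₀.map (algebraMap A S), hIS, ?_⟩
    have hR := H₃ (Submonoid.powers (g₁ * g₂ * g₃)) S hu₃
    rw [Ideal.map_bot] at hR
    simp only [List.map_cons, List.map_nil] at hR
    rw [← isWeaklyRegular_iff_regOn, RingTheory.Sequence.isWeaklyRegular_cons_iff] at hR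
    obtain ⟨hxreg, hR'⟩ := hR
    rw [RingTheory.Sequence.isWeaklyRegular_cons_iff] at hR'
    have hmemI : ∀ z : I, algebraMap A S (z : A) ∈
        CAlgX.minorIdeal (φ₀.map (algebraMap A S)) r := by
      intro z
      rw [← span_sm, hIS]
      exact Ideal.mem_map_of_mem _ z.2
    have hone : (1 : S) ∈ nonZeroDivisors S := one_mem _
    have key := Groth.Agent.Helper13HBurch.exact_of_regular (φ₀.map (algebraMap A S)) 1 hone
      (algebraMap A S ax) (algebraMap A S ay)
      (Groth.Agent.Helper13HBurch.minorIdeal_le_good _ 1 hone (hmemI ax))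
      (Groth.Agent.Helper13HBurch.minorIdeal_le_good _ 1 hone (hmemI ay)) hxreg hR'.1
    have hδ : Groth.Agent.Helper13HBurch.δ (φ₀.map (algebraMap A S)) 1 =
        Fintype.linearCombination S (sm (φ₀.map (algebraMap A S))) := by
      unfold Groth.Agent.Helper13HBurch.δ
      congr 1
      funext i
      rw [one_mul]
      rfl
    rw [hδ] at key
    exact ⟨LinearMap.ker_eq_bot.mp key.1, key.2.symm⟩

theorem main (k : Type u) [Field k]
    (X Y : Scheme.{u}) (f : X ⟶ Spec (CommRingCat.of k)) [Smooth f] (ι : Y ⟶ X) [IsClosedImmersion ι]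
    (hCM : ∀ y : Y, LocCoh.IsCohenMacaulayLocalRing (Y.presheaf.stalk y))
    (hcodim : ∀ y : Y, ringKrullDim (Y.presheaf.stalk y) + 2 = ringKrullDim (X.presheaf.stalk (ι.base y)))
    (y : Y) :
    ∃ U : X.affineOpens, ι.base y ∈ (U : X.Opens) ∧ ∃ (r : ℕ) (φ : Matrix (Fin (r + 1)) (Fin r) Γ(X, U)),
      (Ideal.span (Set.range (fun i : Fin (r + 1) => (-1 : Γ(X, U)) ^ (i : ℕ) * ((φ).submatrix i.succAbove id).det)) = ι.ker.ideal U ∧
        Function.Injective (φ).mulVecLin ∧
        LinearMap.range (φ).mulVecLin = LinearMap.ker (Fintype.linearCombination Γ(X, U) (fun i : Fin (r + 1) => (-1 : Γ(X, U)) ^ (i : ℕ) * ((φ).submatrix i.succAbove id).det))) := by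
  haveI : IsLocallyNoetherian X := LocallyOfFiniteType.isLocallyNoetherian f
  obtain ⟨U, hU, hx, -⟩ := exists_isAffineOpen_mem_and_subset (X := X) (x := ι.base y)
    (U := ⊤) trivial
  haveI : IsNoetherianRing Γ(X, U) := IsLocallyNoetherian.component_noetherian ⟨U, hU⟩
  letI alg := (X.presheaf.germ U (ι.base y) hx).hom.toAlgebra
  haveI loc : IsLocalization.AtPrime (X.presheaf.stalk (ι.base y))
      (hU.primeIdealOf ⟨ι.base y, hx⟩).asIdeal := hU.isLocalization_stalk ⟨ι.base y, hx⟩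
  haveI : IsRegularLocalRing (X.presheaf.stalk (ι.base y)) :=
    Groth.Agent.Lib.Helper6.SmRegSch.isRegularLocalRing_stalk_of_smooth_over_field k X f _
  let e : (X.presheaf.stalk (ι.base y) ⧸ RingHom.ker (ι.stalkMap y).hom) ≃+* Y.presheaf.stalk y :=
    RingHom.quotientKerEquivOfSurjective (ι.stalkMap_surjective y)
  haveI : LocCoh.IsCohenMacaulayLocalRing
      (X.presheaf.stalk (ι.base y) ⧸ RingHom.ker (ι.stalkMap y).hom) :=
    haveI := hCM y
    Groth.Agent.Lib.Helper28.isCohenMacaulayLocalRing_of_ringEquiv e.symm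
  have hcd : ringKrullDim (X.presheaf.stalk (ι.base y) ⧸ RingHom.ker (ι.stalkMap y).hom) + 2 =
      ringKrullDim (X.presheaf.stalk (ι.base y)) := by
    rw [ringKrullDim_eq_of_ringEquiv e]
    exact hcodim y
  obtain ⟨r, φ, h1, x', y', hx', hy', hreg⟩ := local_data _ _ hcd
  have hker : RingHom.ker (ι.stalkMap y).hom =
      (ι.ker.ideal ⟨U, hU⟩).map (algebraMap Γ(X, U) (X.presheaf.stalk (ι.base y))) :=
    Groth.Agent.Lib.Helper5.RegImm.ker_stalkMap_eq_map_ker ι y U hU hx
  rw [hker] at h1 hx' hy'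
  obtain ⟨s, hs, H⟩ := spread Γ(X, U) (hU.primeIdealOf ⟨ι.base y, hx⟩).asIdeal
    (X.presheaf.stalk (ι.base y)) (ι.ker.ideal ⟨U, hU⟩) r φ h1 x' y' hx' hy' hreg
  haveI : IsLocalization.Away s Γ(X, X.basicOpen s) := hU.isLocalization_basicOpen s
  obtain ⟨φ', hφ1, hφ2, hφ3⟩ := H Γ(X, X.basicOpen s)
  refine ⟨X.affineBasicOpen (U := ⟨U, hU⟩) s, ?_, r, φ', ?_, hφ2, hφ3⟩
  · change ι.base y ∈ X.basicOpen s
    rw [X.mem_basicOpen s (ι.base y) hx]
    exact (IsLocalization.AtPrime.isUnit_to_map_iff (X.presheaf.stalk (ι.base y))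
      (hU.primeIdealOf ⟨ι.base y, hx⟩).asIdeal s).mpr hs
  · have h2 := ι.ker.map_ideal_basicOpen ⟨U, hU⟩ s
    rw [← h2]
    exact hφ1

end Groth.Agent.Lib.R2LeadHBSpread
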