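import Groth.Agent.Lib.Helper13ProjBC2
import Groth.Prelude.Def_CohB1
set_option backward.isDefEq.respectTransparency.types false

/-!
# Projective space over a scheme, locally on the base (light copy of the relevant part of
`R2H2ProjOver`, to keep import closures small)

* `phi`, `isPullback_phi` : `P^r_R = P^r_{R'} ×_{R'} R`;
* `a j : P^r_R ⟶ P^r_Y` over `j : Spec R ⟶ Y`, `isPullback_a`, `opensRange_a`.
-/

set_option autoImplicit false
universe u

namespace Groth.Agent.Lib.R2LeadHProj0

open CategoryTheory CategoryTheory.Limits AlgebraicGeometry TopologicalSpace Opposite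
open scoped HomogeneousIdeal

section Poly

variable (r : ℕ) (R' R : Type u) [CommRing R'] [CommRing R] [Algebra R' R]
attribute [local instance] MvPolynomial.algebraMvPolynomial

theorem isPushout_poly : IsPushout (CommRingCat.ofHom (algebraMap R' R))
    (CommRingCat.ofHom (algebraMap R' (MvPolynomial (Fin (r + 1)) R')))
    (CommRingCat.ofHom (algebraMap R (MvPolynomial (Fin (r + 1)) R)))
    (CommRingCat.ofHom (algebraMap (MvPolynomial (Fin (r + 1)) R')
      (MvPolynomial (Fin (r + 1)) R))) :=
  CommRingCat.isPushout_of_isPushout _ _ _ _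

/-- the graded base change map `R'[x] → R[x]` -/
noncomputable def phi : CohB1.polyGrading r R' →+*ᵍ CohB1.polyGrading r R where
  toRingHom := algebraMap (MvPolynomial (Fin (r + 1)) R') (MvPolynomial (Fin (r + 1)) R)
  map_mem := fun {i x} hx => by
    have h1 : x.IsHomogeneous i := (MvPolynomial.mem_homogeneousSubmodule _ _).mp hx
    exact (MvPolynomial.mem_homogeneousSubmodule _ _).mpr (h1.map (algebraMap R' R))

theorem irrelevant_le_map :
    (CohB1.polyGrading r R)₊ ≤ ((CohB1.polyGrading r R')₊).map (phi r R' R) :=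
  Groth.Agent.Helper13ProjBC.irrelevant_le_map_cat (isPushout_poly r R' R) (phi r R' R)
    (fun _ => rfl) (fun a => (MvPolynomial.mem_homogeneousSubmodule _ _).mpr
      (MvPolynomial.isHomogeneous_C _ a))

theorem isPullback_phi :
    IsPullback (Proj.map (phi r R' R) (irrelevant_le_map r R' R)) (CohB1.ProjSpace.toSpec r R)
      (CohB1.ProjSpace.toSpec r R') (Spec.map (CommRingCat.ofHom (algebraMap R' R))) :=
  Groth.Agent.Helper13ProjBC.isPullback_proj_cat (isPushout_poly r R' R) (phi r R' R)
    (fun _ => rfl) (irrelevant_le_map r R' R)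
    (CommRingCat.ofHom (algebraMap R' (CohB1.polyGrading r R' 0))) (fun _ => rfl)
    (CommRingCat.ofHom (algebraMap R (CohB1.polyGrading r R 0))) (fun _ => rfl)

end Poly

section Over

variable (r : ℕ) (R : Type u) [CommRing R]

/-- `R` as an algebra over (a universe lift of) `ℤ` -/
@[instance_reducible] noncomputable def algZ : Algebra (ULift.{u} ℤ) R :=
  ((Int.castRingHom R).comp (ULift.ringEquiv : ULift.{u} ℤ ≃+* ℤ).toRingHom).toAlgebra

attribute [local instance] algZ

variable {Y : Scheme.{u}} (j : Spec (CommRingCat.of R) ⟶ Y)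

theorem a_comm :
    Proj.map (phi r (ULift.{u} ℤ) R) (irrelevant_le_map r (ULift.{u} ℤ) R) ≫
      CohB1.ProjSpace.toSpec r (ULift.{u} ℤ) =
    (CohB1.ProjSpace.toSpec r R ≫ j) ≫ specULiftZIsTerminal.from Y := by
  rw [(isPullback_phi r (ULift.{u} ℤ) R).w, Category.assoc]
  congr 1
  exact specULiftZIsTerminal.hom_ext _ _

/-- the canonical morphism `P^r_R ⟶ P^r_Y` over `j : Spec R ⟶ Y` -/
noncomputable def a : CohB1.ProjSpace r R ⟶ CohB1.ProjSpaceOver r Y :=
  pullback.lift (Proj.map (phi r (ULift.{u} ℤ) R) (irrelevant_le_map r (ULift.{u} ℤ) R))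
    (CohB1.ProjSpace.toSpec r R ≫ j) (a_comm r R j)

theorem a_fst : a r R j ≫ pullback.fst (CohB1.ProjSpace.toSpec r (ULift.{u} ℤ))
    (specULiftZIsTerminal.from Y) =
    Proj.map (phi r (ULift.{u} ℤ) R) (irrelevant_le_map r (ULift.{u} ℤ) R) :=
  pullback.lift_fst _ _ _

theorem a_toBase : a r R j ≫ CohB1.ProjSpaceOver.toBase r Y = CohB1.ProjSpace.toSpec r R ≫ j :=
  pullback.lift_snd _ _ _

theorem isPullback_a :
    IsPullback (a r R j) (CohB1.ProjSpace.toSpec r R) (CohB1.ProjSpaceOver.toBase r Y) j := by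
  have hbig : IsPullback (a r R j ≫ pullback.fst (CohB1.ProjSpace.toSpec r (ULift.{u} ℤ))
      (specULiftZIsTerminal.from Y)) (CohB1.ProjSpace.toSpec r R)
      (CohB1.ProjSpace.toSpec r (ULift.{u} ℤ)) (j ≫ specULiftZIsTerminal.from Y) := by
    rw [a_fst]
    have h2 : j ≫ specULiftZIsTerminal.from Y =
        Spec.map (CommRingCat.ofHom (algebraMap (ULift.{u} ℤ) R)) :=
      specULiftZIsTerminal.hom_ext _ _
    rw [h2]
    exact isPullback_phi r (ULift.{u} ℤ) R
  exact IsPullback.of_right hbig (a_toBase r R j)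
    (IsPullback.of_hasPullback (CohB1.ProjSpace.toSpec r (ULift.{u} ℤ))
      (specULiftZIsTerminal.from Y))

instance isOpenImmersion_a [IsOpenImmersion j] : IsOpenImmersion (a r R j) :=
  MorphismProperty.of_isPullback (P := @IsOpenImmersion) (isPullback_a r R j).flip inferInstance

theorem opensRange_a [IsOpenImmersion j] :
    (a r R j).opensRange = CohB1.ProjSpaceOver.toBase r Y ⁻¹ᵁ j.opensRange := by
  apply TopologicalSpace.Opens.ext
  have h := Scheme.image_preimage_eq_of_isPullback (isPullback_a r R j).flip Set.univ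
  rw [Set.preimage_univ, Set.image_univ, Set.image_univ] at h
  exact h

end Over

end Groth.Agent.Lib.R2LeadHProj0
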