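import Groth.Agent.Lib.R2LeadHProjB
import Groth.Agent.Lib.Helper13QCAlgOfAffine
set_option backward.isDefEq.respectTransparency.types false

/-!
# The quasi-coherent graded algebra of a closed subscheme of `P^n_S` (lead)
-/

set_option autoImplicit false
universe u

open CategoryTheory CategoryTheory.Limits AlgebraicGeometry TopologicalSpace Opposite
open HomogeneousLocalization
open scoped HomogeneousIdeal
open Scheme.AffineZariskiSite Groth.Agent.Lib.R2LeadHProj0 Groth.Agent.Helper13ProjQuotIdeal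
  Groth.Agent.Helper13Dehom Groth.Agent.Helper13GradedQuot Groth.Agent.Lib.R2LeadHProjB

namespace Groth.Agent.Lib.R2LeadHProjC

noncomputable section

variable (n : ℕ) {S : Scheme.{u}} (𝓘 : (CohB1.ProjSpaceOver n S).IdealSheafData)

/-- the homogeneous coordinate ring over an affine open -/
abbrev BU (U : S.AffineZariskiSite) : Type u :=
  MvPolynomial (Fin (n + 1)) Γ(S, U.1) ⧸ (JU n 𝓘 U).toIdeal

/-- the restriction maps of the homogeneous coordinate rings -/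
def Bmap {U V : S.AffineZariskiSite} (i : V ⟶ U) : BU n 𝓘 U →+* BU n 𝓘 V :=
  Ideal.quotientMap (JU n 𝓘 V).toIdeal (MvPolynomial.map (resρ i)) (JU_le_comap n 𝓘 i)

theorem Bmap_mk {U V : S.AffineZariskiSite} (i : V ⟶ U)
    (x : MvPolynomial (Fin (n + 1)) Γ(S, U.1)) :
    Bmap n 𝓘 i (Ideal.Quotient.mk _ x) = Ideal.Quotient.mk _ (MvPolynomial.map (resρ i) x) :=
  Ideal.quotientMap_mk

theorem resρ_id (U : S.AffineZariskiSite) : resρ (𝟙 U) = RingHom.id Γ(S, U.1) := by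
  unfold resρ
  have : (homOfLE (toOpens_mono (𝟙 U : U ⟶ U).le)).op = 𝟙 (op U.1) := rfl
  rw [this, S.presheaf.map_id]
  rfl

theorem resρ_comp {U V W : S.AffineZariskiSite} (i : V ⟶ U) (j : W ⟶ V) :
    resρ (j ≫ i) = (resρ j).comp (resρ i) := by
  unfold resρ
  have : (homOfLE (toOpens_mono (j ≫ i).le)).op =
      (homOfLE (toOpens_mono i.le)).op ≫ (homOfLE (toOpens_mono j.le)).op := rfl
  rw [this, S.presheaf.map_comp]
  rfl

/-- the functor of homogeneous coordinate rings -/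
def F : S.AffineZariskiSiteᵒᵖ ⥤ CommRingCat.{u} where
  obj U := CommRingCat.of (BU n 𝓘 U.unop)
  map i := CommRingCat.ofHom (Bmap n 𝓘 i.unop)
  map_id U := by
    refine CommRingCat.hom_ext (RingHom.ext fun x => ?_)
    obtain ⟨x, rfl⟩ := Ideal.Quotient.mk_surjective x
    change Bmap n 𝓘 (𝟙 U.unop) (Ideal.Quotient.mk _ x) = Ideal.Quotient.mk _ x
    rw [Bmap_mk, resρ_id, MvPolynomial.map_id]
  map_comp {U V W} i j := by
    refine CommRingCat.hom_ext (RingHom.ext fun x => ?_)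
    obtain ⟨x, rfl⟩ := Ideal.Quotient.mk_surjective x
    change Bmap n 𝓘 (j.unop ≫ i.unop) (Ideal.Quotient.mk _ x) =
      Bmap n 𝓘 j.unop (Bmap n 𝓘 i.unop (Ideal.Quotient.mk _ x))
    rw [Bmap_mk, Bmap_mk, Bmap_mk, resρ_comp, MvPolynomial.map_map]

/-- the structure maps -/
def αapp (U : S.AffineZariskiSite) : Γ(S, U.1) →+* BU n 𝓘 U :=
  (Ideal.Quotient.mk _).comp MvPolynomial.C

/-- the structure map of the functor of homogeneous coordinate rings -/
def α : (toOpensFunctor S).op ⋙ S.presheaf ⟶ F n 𝓘 where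
  app U := CommRingCat.ofHom (αapp n 𝓘 U.unop)
  naturality U V i := by
    refine CommRingCat.hom_ext (RingHom.ext fun x => ?_)
    change αapp n 𝓘 V.unop (resρ i.unop x) = Bmap n 𝓘 i.unop (αapp n 𝓘 U.unop x)
    unfold αapp
    rw [RingHom.comp_apply, RingHom.comp_apply, Bmap_mk, MvPolynomial.map_C]

theorem coequifibered_α : (α n 𝓘).Coequifibered := by
  refine coequifibered_iff_forall_isLocalizationAway.mpr fun U r => ?_
  set i : U.basicOpen r ⟶ U := homOfLE (U.basicOpen_le r) with hi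
  letI : Algebra Γ(S, U.1) Γ(S, (U.basicOpen r).1) := (resρ i).toAlgebra
  haveI hloc : IsLocalization.Away r Γ(S, (U.basicOpen r).1) := U.2.isLocalization_basicOpen r
  letI : Algebra (MvPolynomial (Fin (n + 1)) Γ(S, U.1))
      (MvPolynomial (Fin (n + 1)) Γ(S, (U.basicOpen r).1)) := MvPolynomial.algebraMvPolynomial
  haveI : IsLocalization.Away (MvPolynomial.C r : MvPolynomial (Fin (n + 1)) Γ(S, U.1))
      (MvPolynomial (Fin (n + 1)) Γ(S, (U.basicOpen r).1)) := by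
    have h := MvPolynomial.isLocalization (σ := Fin (n + 1)) (Submonoid.powers r)
      Γ(S, (U.basicOpen r).1)
    rw [Submonoid.map_powers] at h
    exact h
  letI : Algebra (BU n 𝓘 U) (BU n 𝓘 (U.basicOpen r)) := (Bmap n 𝓘 i).toAlgebra
  exact Groth.Agent.Lib.R2LeadHProjA.isLocalizationAway_quotient (MvPolynomial.C r)
    (JU n 𝓘 U).toIdeal (JU n 𝓘 (U.basicOpen r)).toIdeal (fun a => Bmap_mk n 𝓘 i a)
    (fun x hx => exists_pow_mul_mem_JU n 𝓘 U r x hx)

open Groth.Agent.Helper13QCAlgOfAffine Groth.Agent.Lib.R2LeadHProjA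

/-- the grading of the homogeneous coordinate ring -/
abbrev gr (U : S.AffineZariskiSite) : ℕ → Submodule Γ(S, U.1) (BU n 𝓘 U) :=
  qgr (CohB1.polyGrading n Γ(S, U.1)) (JU n 𝓘 U).toIdeal

/-- the graded structure of the homogeneous coordinate ring -/
@[instance_reducible]
def grInst (U : S.AffineZariskiSite) : GradedAlgebra (gr n 𝓘 U) :=
  gradedAlgebraQuot _ _ (JU n 𝓘 U).isHomogeneous

instance (U : S.AffineZariskiSite) : GradedAlgebra (gr n 𝓘 U) := grInst n 𝓘 U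

theorem Bmap_mem {U V : S.AffineZariskiSite} (i : V ⟶ U) {d : ℕ} {b : BU n 𝓘 U}
    (hb : b ∈ gr n 𝓘 U d) : Bmap n 𝓘 i b ∈ gr n 𝓘 V d := by
  obtain ⟨a, ha, rfl⟩ := hb
  refine ⟨MvPolynomial.map (resρ i) a, ?_, ?_⟩
  · exact Graded.map_mem (phiρ n (resρ i)) ha
  · exact (Bmap_mk n 𝓘 i a).symm

/-- the quasi-coherent algebra -/
def Alg : RelSpec.QCAlg S := qcAlg (coequifibered_α n 𝓘)

/-- the identification of the sections over an affine open -/
def γ (U : S.Opens) (hU : IsAffineOpen U) :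
    (Alg n 𝓘).presheaf.obj (op U) ≃+* BU n 𝓘 ⟨U, hU⟩ :=
  (asIso (gammaAff (coequifibered_α n 𝓘) U hU)).commRingCatIsoToRingEquiv

theorem γ_res {U V : S.AffineZariskiSite} (i : V ⟶ U) (x : (Alg n 𝓘).presheaf.obj (op U.1)) :
    γ n 𝓘 V.1 V.2 (((Alg n 𝓘).presheaf.map (homOfLE (toOpens_mono i.le)).op).hom x) =
      Bmap n 𝓘 i (γ n 𝓘 U.1 U.2 x) := by
  have h := gammaAff_naturality (coequifibered_α n 𝓘) i
  exact congrArg (fun t : (Alg n 𝓘).presheaf.obj (op U.1) ⟶ _ => t.hom x) h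

theorem γ_str (U : S.Opens) (hU : IsAffineOpen U) (r : Γ(S, U)) :
    γ n 𝓘 U hU (((Alg n 𝓘).str.app (op U)).hom r) = αapp n 𝓘 ⟨U, hU⟩ r := by
  have h := π_app_gammaAff (coequifibered_α n 𝓘) U hU
  exact congrArg (fun t : Γ(S, U) ⟶ _ => t.hom r) h

/-- the degrees -/
def degA (U : S.Opens) (hU : IsAffineOpen U) (d : ℕ) : AddSubgroup ((Alg n 𝓘).presheaf.obj (op U)) :=
  comapGr (γ n 𝓘 U hU) (gr n 𝓘 ⟨U, hU⟩) d

instance degA_gradedRing (U : S.Opens) (hU : IsAffineOpen U) : GradedRing (degA n 𝓘 U hU) :=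
  @comapGr_gradedRing _ _ _ _ (γ n 𝓘 U hU) _ _ _ (gr n 𝓘 ⟨U, hU⟩) (grInst n 𝓘 ⟨U, hU⟩)

theorem mem_degA {U : S.Opens} {hU : IsAffineOpen U} {d : ℕ} {x : (Alg n 𝓘).presheaf.obj (op U)} :
    x ∈ degA n 𝓘 U hU d ↔ γ n 𝓘 U hU x ∈ gr n 𝓘 ⟨U, hU⟩ d := Iff.rfl

theorem map_mem_site {U V : S.AffineZariskiSite} (i : V ⟶ U) {d : ℕ}
    {x : (Alg n 𝓘).presheaf.obj (op U.1)} (hx : x ∈ degA n 𝓘 U.1 U.2 d) :
    ((Alg n 𝓘).presheaf.map (homOfLE (toOpens_mono i.le)).op).hom x ∈ degA n 𝓘 V.1 V.2 d := by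
  rw [mem_degA, γ_res]
  exact Bmap_mem n 𝓘 i hx

theorem map_mem_basic {U : S.Opens} (hU : IsAffineOpen U) (f : Γ(S, U)) {W : S.Opens}
    (hW : IsAffineOpen W) (hWf : S.basicOpen f = W) (hWU : W ≤ U) {d : ℕ}
    {x : (Alg n 𝓘).presheaf.obj (op U)} (hx : x ∈ degA n 𝓘 U hU d) :
    ((Alg n 𝓘).presheaf.map (homOfLE hWU).op).hom x ∈ degA n 𝓘 W hW d := by
  subst hWf
  exact map_mem_site n 𝓘
    (homOfLE (Scheme.AffineZariskiSite.basicOpen_le (⟨U, hU⟩ : S.AffineZariskiSite) f)) hx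

/-- restriction to a basic open as a graded ring hom -/
def resGr {U : S.Opens} (hU : IsAffineOpen U) (f : Γ(S, U)) {W : S.Opens}
    (hW : IsAffineOpen W) (hWf : S.basicOpen f = W) (hWU : W ≤ U) :
    degA n 𝓘 U hU →+*ᵍ degA n 𝓘 W hW :=
  { ((Alg n 𝓘).presheaf.map (homOfLE hWU).op).hom with
    map_mem := fun hx => map_mem_basic n 𝓘 hU f hW hWf hWU hx }

theorem eq_zero_of_locally {V : S.Opens} (y : (Alg n 𝓘).presheaf.obj (op V))
    (h : ∀ p ∈ V, ∃ (W : S.Opens) (hWV : W ≤ V), p ∈ W ∧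
      ((Alg n 𝓘).presheaf.map (homOfLE hWV).op).hom y = 0) : y = 0 := by
  choose W hWV hpW hy using h
  refine TopCat.Sheaf.eq_of_locally_eq' ⟨(Alg n 𝓘).presheaf, (Alg n 𝓘).isSheaf⟩
    (fun p : V => W p.1 p.2) V (fun p => homOfLE (hWV p.1 p.2)) ?_ y 0 ?_
  · intro p hp
    exact Opens.mem_iSup.mpr ⟨⟨p, hp⟩, hpW p hp⟩
  · intro p
    rw [map_zero]
    exact hy p.1 p.2

theorem map_mem_general {U V : S.Opens} (hU : IsAffineOpen U) (hV : IsAffineOpen V) (i : V ≤ U)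
    {d : ℕ} {x : (Alg n 𝓘).presheaf.obj (op U)} (hx : x ∈ degA n 𝓘 U hU d) :
    ((Alg n 𝓘).presheaf.map (homOfLE i).op).hom x ∈ degA n 𝓘 V hV d := by
  classical
  set y := ((Alg n 𝓘).presheaf.map (homOfLE i).op).hom x with hy
  have key : ∀ e : ℕ, e ≠ d → (DirectSum.decompose (degA n 𝓘 V hV) y e :
      (Alg n 𝓘).presheaf.obj (op V)) = 0 := by
    intro e hed
    apply eq_zero_of_locally
    intro p hp
    obtain ⟨f, g, hfg, hpf⟩ := exists_basicOpen_le_affine_inter hU hV p ⟨i hp, hp⟩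
    have hW : IsAffineOpen (S.basicOpen g) := hV.basicOpen g
    refine ⟨S.basicOpen g, S.basicOpen_le g, hfg ▸ hpf, ?_⟩
    have h1 := GradedRingHom.map_directSumDecompose (𝒜 := degA n 𝓘 V hV)
      (ℬ := degA n 𝓘 (S.basicOpen g) hW)
      (resGr n 𝓘 hV g hW rfl (S.basicOpen_le g)) (x := y) (i := e)
    change ((Alg n 𝓘).presheaf.map (homOfLE (S.basicOpen_le g)).op).hom
      (DirectSum.decompose (degA n 𝓘 V hV) y e : (Alg n 𝓘).presheaf.obj (op V)) = 0
    refine h1.trans ?_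
    have h2 : (resGr n 𝓘 hV g hW rfl (S.basicOpen_le g)) y ∈
        degA n 𝓘 (S.basicOpen g) hW d := by
      have hle : S.basicOpen g ≤ U := (S.basicOpen_le g).trans i
      have h3 := map_mem_basic n 𝓘 hU f hW hfg hle hx
      have h4 : ((Alg n 𝓘).presheaf.map (homOfLE hle).op).hom x =
          ((Alg n 𝓘).presheaf.map (homOfLE (S.basicOpen_le g)).op).hom y := by
        rw [hy, ← CommRingCat.comp_apply, ← Functor.map_comp]
        rfl
      rw [h4] at h3
      exact h3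
    rw [DirectSum.decompose_of_mem_ne _ h2 hed.symm]
  have hsum := DirectSum.sum_support_decompose (degA n 𝓘 V hV) y
  rw [Finset.sum_eq_single d (fun e _ hed => key e hed) (fun hd => by
    rw [DFinsupp.notMem_support_iff] at hd
    rw [hd]; rfl)] at hsum
  rw [← hsum]
  exact SetLike.coe_mem _


/-- the quasi-coherent graded algebra of the closed subscheme of `P^n_S` cut out by `𝓘` -/
def grAlg : RelProj.QCGrAlg S where
  toQCAlg := Alg n 𝓘
  deg := degA n 𝓘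
  graded := degA_gradedRing n 𝓘
  map_mem := fun hU hV i => map_mem_general n 𝓘 hU hV i
  str_mem U hU r := by
    rw [mem_degA, γ_str]
    exact ⟨MvPolynomial.C r, C_mem_zero n r, rfl⟩

/-- the class of a polynomial as a section -/
def cls (U : S.Opens) (hU : IsAffineOpen U) (p : MvPolynomial (Fin (n + 1)) Γ(S, U)) :
    (Alg n 𝓘).presheaf.obj (op U) :=
  (γ n 𝓘 U hU).symm (Ideal.Quotient.mk _ p)

theorem γ_cls (U : S.Opens) (hU : IsAffineOpen U) (p : MvPolynomial (Fin (n + 1)) Γ(S, U)) :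
    γ n 𝓘 U hU (cls n 𝓘 U hU p) = Ideal.Quotient.mk _ p :=
  (γ n 𝓘 U hU).apply_symm_apply _

theorem cls_add (U : S.Opens) (hU : IsAffineOpen U) (p q : MvPolynomial (Fin (n + 1)) Γ(S, U)) :
    cls n 𝓘 U hU (p + q) = cls n 𝓘 U hU p + cls n 𝓘 U hU q := by
  unfold cls; rw [map_add, map_add]

theorem cls_mul (U : S.Opens) (hU : IsAffineOpen U) (p q : MvPolynomial (Fin (n + 1)) Γ(S, U)) :
    cls n 𝓘 U hU (p * q) = cls n 𝓘 U hU p * cls n 𝓘 U hU q := by
  unfold cls; rw [map_mul, map_mul]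

theorem cls_sum (U : S.Opens) (hU : IsAffineOpen U) {κ : Type*} (s : Finset κ)
    (p : κ → MvPolynomial (Fin (n + 1)) Γ(S, U)) :
    cls n 𝓘 U hU (∑ k ∈ s, p k) = ∑ k ∈ s, cls n 𝓘 U hU (p k) := by
  unfold cls; rw [map_sum, map_sum]

theorem cls_C (U : S.Opens) (hU : IsAffineOpen U) (r : Γ(S, U)) :
    cls n 𝓘 U hU (MvPolynomial.C r) = ((Alg n 𝓘).str.app (op U)).hom r := by
  apply (γ n 𝓘 U hU).injective
  rw [γ_cls, γ_str]
  rfl

theorem cls_surjective (U : S.Opens) (hU : IsAffineOpen U) (x : (Alg n 𝓘).presheaf.obj (op U)) :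
    ∃ p, cls n 𝓘 U hU p = x := by
  obtain ⟨p, hp⟩ := Ideal.Quotient.mk_surjective (γ n 𝓘 U hU x)
  refine ⟨p, ?_⟩
  unfold cls
  rw [hp, RingEquiv.symm_apply_apply]

theorem cls_mem (U : S.Opens) (hU : IsAffineOpen U) {d : ℕ}
    {p : MvPolynomial (Fin (n + 1)) Γ(S, U)} (hp : p ∈ CohB1.polyGrading n Γ(S, U) d) :
    cls n 𝓘 U hU p ∈ degA n 𝓘 U hU d := by
  rw [mem_degA, γ_cls]
  exact ⟨p, hp, rfl⟩

theorem exists_cls_of_mem (U : S.Opens) (hU : IsAffineOpen U) {d : ℕ}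
    {x : (Alg n 𝓘).presheaf.obj (op U)} (hx : x ∈ degA n 𝓘 U hU d) :
    ∃ p ∈ CohB1.polyGrading n Γ(S, U) d, cls n 𝓘 U hU p = x := by
  obtain ⟨p, hp, hpx⟩ := hx
  refine ⟨p, hp, ?_⟩
  apply (γ n 𝓘 U hU).injective
  rw [γ_cls]
  exact hpx

theorem isGenDegOne_grAlg : (grAlg n 𝓘).IsGenDegOne := by
  intro U hU
  rw [eq_top_iff]
  intro x hx
  clear hx
  obtain ⟨p, rfl⟩ := cls_surjective n 𝓘 U hU x
  induction p using MvPolynomial.induction_on with
  | C a =>
    exact Subring.subset_closure (Or.inl (cls_mem n 𝓘 U hU (C_mem_zero n a)))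
  | add p q hp hq =>
    rw [cls_add]
    exact add_mem hp hq
  | mul_X p j hp =>
    rw [cls_mul]
    refine mul_mem hp (Subring.subset_closure (Or.inr ?_))
    exact cls_mem n 𝓘 U hU ((MvPolynomial.mem_homogeneousSubmodule _ _).mpr
      (MvPolynomial.isHomogeneous_X _ j))

theorem isFTDeg_one_grAlg : (grAlg n 𝓘).IsFTDeg 1 := by
  classical
  intro U hU
  set tj : Fin (n + 1) → (Alg n 𝓘).presheaf.obj (op U) :=
    fun j => cls n 𝓘 U hU (MvPolynomial.X j) with htj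
  refine ⟨Finset.univ.image tj, ?_, ?_⟩
  · intro t ht
    rw [Finset.coe_image] at ht
    obtain ⟨j, -, rfl⟩ := ht
    exact cls_mem n 𝓘 U hU ((MvPolynomial.mem_homogeneousSubmodule _ _).mpr
      (MvPolynomial.isHomogeneous_X _ j))
  · intro x hx
    obtain ⟨p, hp, rfl⟩ := exists_cls_of_mem n 𝓘 U hU hx
    have hp' : p ∈ Submodule.span Γ(S, U) (Set.range (MvPolynomial.X (R := Γ(S, U))
        (σ := Fin (n + 1)))) := by
      rw [← MvPolynomial.homogeneousSubmodule_one_eq_span_X]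
      exact hp
    obtain ⟨c, hc⟩ := (Submodule.mem_span_range_iff_exists_fun _).mp hp'
    refine ⟨fun t => ∑ j ∈ Finset.univ.filter (fun j => tj j = t), c j, ?_⟩
    have h1 : cls n 𝓘 U hU p =
        ∑ j, ((Alg n 𝓘).str.app (op U)).hom (c j) * tj j := by
      rw [← hc, cls_sum]
      refine Finset.sum_congr rfl fun j _ => ?_
      rw [MvPolynomial.smul_eq_C_mul, cls_mul, cls_C]
    rw [h1, ← Finset.sum_fiberwise_of_maps_to (s := Finset.univ) (t := Finset.univ.image tj)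
      (g := tj) (fun j _ => Finset.mem_image_of_mem tj (Finset.mem_univ j))]
    refine Finset.sum_congr rfl fun t _ => ?_
    rw [map_sum, Finset.sum_mul]
    refine Finset.sum_congr rfl fun j hj => ?_
    rw [(Finset.mem_filter.mp hj).2]
    rfl

end

end Groth.Agent.Lib.R2LeadHProjC
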