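import Mathlib
import Groth.Agent.Lib.Helper22Hartogs2
import Groth.Agent.Lib.Helper28Normal
import Groth.Agent.Lib.Helper28DepthFlat2
import Groth.Agent.Lib.Helper28DepthBC
import Groth.Agent.Lib.Helper28DimFormula
import Groth.Agent.Lib.Helper5RLR

/-! # Hartogs extension for a flat algebra over a local Artinian ring with normal special fibre -/

set_option autoImplicit false
universe u

namespace Groth.Agent.Lib.R2LeadHartFlat

open CategoryTheory AlgebraicGeometry IsLocalRing

section Core

variable (C : Type u) [CommRing C] [IsLocalRing C] [IsArtinianRing C]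

theorem exists_pow_maximalIdeal_eq_bot : ∃ n : ℕ, (maximalIdeal C) ^ n = ⊥ := by
  have h := IsArtinianRing.isNilpotent_jacobson_bot (R := C)
  rw [IsLocalRing.jacobson_eq_maximalIdeal ⊥ bot_ne_top] at h
  exact h

theorem map_le_nilradical (S : Type u) [CommRing S] [Algebra C S] :
    (maximalIdeal C).map (algebraMap C S) ≤ nilradical S := by
  obtain ⟨n, hn⟩ := exists_pow_maximalIdeal_eq_bot C
  rw [Ideal.map_le_iff_le_comap]
  intro c hc
  rw [Ideal.mem_comap, mem_nilradical]
  refine ⟨n, ?_⟩
  have : c ^ n ∈ (maximalIdeal C) ^ n := Ideal.pow_mem_pow hc n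
  rw [hn, Ideal.mem_bot] at this
  rw [← map_pow, this, map_zero]

theorem isLocalHom_algebraMap (S : Type u) [CommRing S] [Nontrivial S] [Algebra C S] :
    IsLocalHom (algebraMap C S) := by
  constructor
  intro c hc
  by_contra hnu
  have hcm : c ∈ maximalIdeal C := hnu
  have h1 : algebraMap C S c ∈ nilradical S :=
    map_le_nilradical C S (Ideal.mem_map_of_mem _ hcm)
  rw [mem_nilradical] at h1
  exact h1.not_isUnit hc

theorem core (S : Type u) [CommRing S] [IsLocalRing S] [IsNoetherianRing S] [Algebra C S]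
    [Module.Flat C S]
    (hD : IsDomain (S ⧸ (maximalIdeal C).map (algebraMap C S)))
    (hIC : IsIntegrallyClosed (S ⧸ (maximalIdeal C).map (algebraMap C S)))
    (hdim : 2 ≤ ringKrullDim S) : (2 : ℕ∞) ≤ LocCoh.depth S S := by
  haveI := isLocalHom_algebraMap C S
  set J := (maximalIdeal C).map (algebraMap C S) with hJ
  have hJtop : J ≠ ⊤ := Ideal.Quotient.nontrivial_iff.mp inferInstance
  haveI : IsLocalRing (S ⧸ J) := Groth.Agent.Lib.Helper5.isLocalRing_quotient hJtop
  have hdimF : 2 ≤ ringKrullDim (S ⧸ J) := by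
    rw [Groth.Agent.Lib.Helper28.ringKrullDim_quotient_eq_of_le_nilradical J
      (map_le_nilradical C S)]
    exact hdim
  have h1 : (2 : ℕ∞) ≤ LocCoh.depth (S ⧸ J) (S ⧸ J) :=
    Groth.Agent.Lib.Helper28.two_le_depth_of_isIntegrallyClosed_of_two_le_dim hdimF
  haveI : IsLocalHom (algebraMap S (S ⧸ J)) := by
    constructor
    intro s hs
    by_contra hnu
    have hsm : s ∈ maximalIdeal S := hnu
    have : algebraMap S (S ⧸ J) s ∈ maximalIdeal (S ⧸ J) := by
      have hle : (maximalIdeal S).map (Ideal.Quotient.mk J) ≤ maximalIdeal (S ⧸ J) := by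
        apply IsLocalRing.le_maximalIdeal
        intro htop
        have := Ideal.comap_map_of_surjective (Ideal.Quotient.mk J)
          Ideal.Quotient.mk_surjective (maximalIdeal S)
        rw [htop, Ideal.comap_top, ← RingHom.ker_eq_comap_bot, Ideal.mk_ker,
          sup_eq_left.mpr (IsLocalRing.le_maximalIdeal hJtop)] at this
        exact (maximalIdeal.isMaximal S).ne_top this.symm
      exact hle (Ideal.mem_map_of_mem _ hsm)
    exact this hs
  have h2 : LocCoh.depth S (S ⧸ J) = LocCoh.depth (S ⧸ J) (S ⧸ J) :=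
    Groth.Agent.Lib.Helper28.depth_eq_depth_of_isLocalHom_of_finite
  have h3 : LocCoh.depth S (S ⧸ (J • ⊤ : Submodule S S)) = LocCoh.depth S (S ⧸ J) := by
    have hJJ : (J • ⊤ : Submodule S S) = J := by
      rw [smul_eq_mul, Ideal.mul_top]
    exact Groth.Agent.Lib.Helper28.idealDepth_congr (Submodule.quotEquivOfEq _ _ hJJ) _
  rw [Groth.Agent.Lib.Helper28.depth_eq_depth_add_depth_fibre (R := C) (S := S), h3, h2]
  exact le_add_left h1

end Core

section Bridge

variable (C : Type u) [CommRing C] [IsLocalRing C] [IsArtinianRing C]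
  (A : Type u) [CommRing A] [Algebra C A]

/-- the closed fibre of the localization at `p` is the localization of the closed fibre. -/
theorem nonempty_fibre_equiv (p : Ideal A) [p.IsPrime]
    [hp₀ : (p.map (Ideal.Quotient.mk ((maximalIdeal C).map (algebraMap C A)))).IsPrime] :
    Nonempty ((Localization.AtPrime p ⧸ (maximalIdeal C).map (algebraMap C (Localization.AtPrime p)))
      ≃+* Localization.AtPrime
        (p.map (Ideal.Quotient.mk ((maximalIdeal C).map (algebraMap C A))))) := by
  set I := (maximalIdeal C).map (algebraMap C A) with hI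
  set S := Localization.AtPrime p with hS
  set J := (maximalIdeal C).map (algebraMap C S) with hJ
  have hIp : I ≤ p := (map_le_nilradical C A).trans (nilradical_le_prime p)
  have hJI : J = I.map (algebraMap A S) := by
    rw [hI, Ideal.map_map, ← IsScalarTower.algebraMap_eq]
  have hle : I ≤ J.comap (algebraMap A S) := by
    rw [hJI]; exact Ideal.le_comap_map
  letI alg : Algebra (A ⧸ I) (S ⧸ J) := (Ideal.quotientMap J (algebraMap A S) hle).toAlgebra
  have hloc : IsLocalization (p.primeCompl.map (Ideal.Quotient.mk I)) (S ⧸ J) := by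
    refine IsLocalization.of_surjective p.primeCompl S (Ideal.Quotient.mk I)
      Ideal.Quotient.mk_surjective (Ideal.Quotient.mk J) Ideal.Quotient.mk_surjective ?_ ?_
    · ext a
      rfl
    · rw [Ideal.mk_ker, Ideal.mk_ker, hJI]
  have hM : p.primeCompl.map (Ideal.Quotient.mk I) =
      (p.map (Ideal.Quotient.mk I)).primeCompl := by
    ext z
    obtain ⟨a, rfl⟩ := Ideal.Quotient.mk_surjective z
    constructor
    · rintro ⟨b, hb, hab⟩
      intro hmem
      rw [← hab] at hmem
      exact hb ((Ideal.mem_quotient_iff_mem hIp).mp hmem)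
    · intro ha
      refine ⟨a, ?_, rfl⟩
      intro hmem
      exact ha (Ideal.mem_map_of_mem _ hmem)
  rw [hM] at hloc
  haveI : IsLocalization.AtPrime (S ⧸ J) (p.map (Ideal.Quotient.mk I)) := hloc
  exact ⟨(IsLocalization.algEquiv (p.map (Ideal.Quotient.mk I)).primeCompl (S ⧸ J)
    (Localization.AtPrime (p.map (Ideal.Quotient.mk I)))).toRingEquiv⟩

theorem main [IsNoetherianRing A] [Module.Flat C A]
    (hnorm : Pi1.IsNormalScheme (Spec (CommRingCat.of (A ⧸ (IsLocalRing.maximalIdeal C).map (algebraMap C A)))))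
    (U : (Spec (CommRingCat.of A)).Opens)
    (hU : ∀ p : ↥(Spec (CommRingCat.of A)), p ∉ U → (2 : ℕ∞) ≤ p.asIdeal.height) :
    Function.Bijective ((Spec (CommRingCat.of A)).presheaf.map (homOfLE (le_top : U ≤ ⊤)).op) := by
  refine Groth.Agent.Lib.Helper22.Hartogs.bijective_res_of_depth U ?_ ⊤ U le_top inf_le_right le_rfl
  intro x hx
  have hht := hU x hx
  let e := (Spec.stalkIso (CommRingCat.of A) x).commRingCatIsoToRingEquiv
  rw [Groth.Agent.Lib.Helper28.depth_self_eq_of_ringEquiv e]
  haveI : x.asIdeal.IsPrime := x.2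
  have hIp : (maximalIdeal C).map (algebraMap C A) ≤ x.asIdeal :=
    (map_le_nilradical C A).trans (nilradical_le_prime _)
  haveI hp₀ : (x.asIdeal.map (Ideal.Quotient.mk ((maximalIdeal C).map (algebraMap C A)))).IsPrime :=
    Ideal.map_isPrime_of_surjective Ideal.Quotient.mk_surjective (by rwa [Ideal.mk_ker])
  obtain ⟨ε⟩ := nonempty_fibre_equiv C A x.asIdeal
  let x₀ : PrimeSpectrum (A ⧸ (maximalIdeal C).map (algebraMap C A)) := ⟨_, hp₀⟩
  let e₀ := (Spec.stalkIso (CommRingCat.of (A ⧸ (maximalIdeal C).map (algebraMap C A))) x₀).commRingCatIsoToRingEquiv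
  obtain ⟨hD, hIC⟩ := hnorm x₀
  haveI : Module.Flat C (Localization.AtPrime x.asIdeal) := Module.Flat.trans C A _
  refine core C (Localization.AtPrime x.asIdeal) ?_ ?_ ?_
  · exact (ε.trans e₀.symm).toMulEquiv.isDomain _
  · exact IsIntegrallyClosed.of_equiv (ε.trans e₀.symm).symm
  · rw [IsLocalization.AtPrime.ringKrullDim_eq_height x.asIdeal]
    have h2 : ((2 : ℕ∞) : WithBot ℕ∞) ≤ (x.asIdeal.height : WithBot ℕ∞) :=
      WithBot.coe_le_coe.mpr hht
    exact h2

end Bridge

end Groth.Agent.Lib.R2LeadHartFlat
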