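import Mathlib
import Groth.Agent.Lib.Helper14WEFlat
import Groth.Agent.Lib.Helper14WEField

set_option autoImplicit false

open TensorProduct

universe u

namespace Groth.Agent.Lib.R2LeadVNR

/-- von Neumann regular (absolutely flat) commutative rings -/
def IsVNR (R : Type*) [CommRing R] : Prop := ∀ x : R, ∃ y : R, x = x * x * y

section basic

variable {R : Type u} [CommRing R]

/-- a reduced ring in which every prime is maximal is von Neumann regular -/
theorem isVNR_of_isReduced_of_forall_isMaximal [IsReduced R]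
    (h : ∀ p : Ideal R, p.IsPrime → p.IsMaximal) : IsVNR R := by
  intro x
  let 𝔞 : Ideal R := (Ideal.span {x}).annihilator ⊔ Ideal.span {x}
  have htop : 𝔞 = ⊤ := by
    by_contra hne
    obtain ⟨m, hm, hle⟩ := Ideal.exists_le_maximal 𝔞 hne
    haveI : m.IsPrime := hm.isPrime
    have hx : x ∈ m := hle (Ideal.mem_sup_right (Ideal.subset_span rfl))
    have hmin : m ∈ (⊥ : Ideal R).minimalPrimes := by
      refine ⟨⟨hm.isPrime, bot_le⟩, ?_⟩
      rintro p ⟨hp, -⟩ hpm
      exact ((h p hp).eq_of_le hm.ne_top hpm).ge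
    have hrad := IsLocalization.AtPrime.radical_map_of_mem_minimalPrimes
      (A := Localization.AtPrime m) m ⊥ hmin
    rw [Ideal.map_bot] at hrad
    rw [Ideal.radical_bot_of_isReduced] at hrad
    have h0 : algebraMap R (Localization.AtPrime m) x = 0 := by
      have : algebraMap R (Localization.AtPrime m) x ∈ Ideal.map (algebraMap R _) m :=
        Ideal.mem_map_of_mem _ hx
      rw [← hrad] at this
      exact this
    obtain ⟨s, hs⟩ := (IsLocalization.map_eq_zero_iff m.primeCompl _ _).mp h0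
    apply s.2
    apply hle
    apply Ideal.mem_sup_left
    rw [Submodule.mem_annihilator_span_singleton]
    exact hs
  have h1 : (1 : R) ∈ 𝔞 := by rw [htop]; trivial
  obtain ⟨a, ha, z, hz, haz⟩ := Submodule.mem_sup.mp h1
  obtain ⟨y, rfl⟩ := Ideal.mem_span_singleton'.mp hz
  rw [Submodule.mem_annihilator_span_singleton] at ha
  refine ⟨y, ?_⟩
  have ha' : a * x = 0 := ha
  calc x = (a + y * x) * x := by rw [haz, one_mul]
    _ = x * x * y := by rw [add_mul, ha', zero_add]; ring

end basic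

section consequences

variable {R : Type u} [CommRing R]

theorem IsVNR.exists_idempotent (h : IsVNR R) (x : R) :
    ∃ e : R, e * e = e ∧ x = x * e ∧ ∃ y, e = x * y := by
  obtain ⟨y, hy⟩ := h x
  refine ⟨x * y, ?_, ?_, y, rfl⟩
  · calc (x * y) * (x * y) = (x * x * y) * y := by ring
      _ = x * y := by rw [← hy]
  · calc x = x * x * y := hy
      _ = x * (x * y) := by ring

theorem IsVNR.isMaximal_of_isPrime (h : IsVNR R) (p : Ideal R) [hp : p.IsPrime] : p.IsMaximal := by
  rw [Ideal.isMaximal_iff]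
  refine ⟨fun h1 => hp.ne_top ((Ideal.eq_top_iff_one p).mpr h1), ?_⟩
  intro J x hpJ hxp hxJ
  obtain ⟨y, hy⟩ := h x
  have h0 : x * (1 - x * y) = 0 := by
    calc x * (1 - x * y) = x - x * x * y := by ring
      _ = 0 := by rw [← hy, sub_self]
  have h1 : 1 - x * y ∈ p := by
    have : x * (1 - x * y) ∈ p := by rw [h0]; exact p.zero_mem
    exact (hp.mem_or_mem this).resolve_left hxp
  have h2 : (1 : R) = (1 - x * y) + x * y := by ring
  rw [h2]
  exact J.add_mem (hpJ h1) (J.mul_mem_right _ hxJ)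

theorem IsVNR.exists_idempotent_sep (h : IsVNR R) (m₁ m₂ : Ideal R) [hm₁ : m₁.IsMaximal]
    [hm₂ : m₂.IsMaximal] (hne : m₁ ≠ m₂) : ∃ e : R, e * e = e ∧ e ∈ m₁ ∧ e ∉ m₂ := by
  have : ¬ m₁ ≤ m₂ := fun hle => hne (hm₁.eq_of_le hm₂.ne_top hle)
  obtain ⟨x, hx1, hx2⟩ := Set.not_subset.mp this
  obtain ⟨e, he, hxe, y, rfl⟩ := h.exists_idempotent x
  refine ⟨x * y, he, m₁.mul_mem_right _ hx1, fun h2 => hx2 ?_⟩
  rw [hxe]
  exact m₂.mul_mem_left _ h2

theorem IsVNR.exists_idempotent_span (h : IsVNR R) (I : Ideal R) (hI : I.FG) :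
    ∃ e : R, e * e = e ∧ I = Ideal.span {e} := by
  induction I, hI using Submodule.fg_induction with
  | singleton x =>
    obtain ⟨e, he, hxe, y, rfl⟩ := h.exists_idempotent x
    refine ⟨x * y, he, le_antisymm ?_ ?_⟩
    · rw [Submodule.span_singleton_le_iff_mem]
      exact Ideal.mem_span_singleton'.mpr ⟨x, hxe.symm⟩
    · rw [Ideal.span_le, Set.singleton_subset_iff]
      exact Ideal.mem_span_singleton'.mpr ⟨y, by rw [mul_comm]⟩
  | sup I₁ I₂ _ _ h1 h2 =>
    obtain ⟨e₁, he₁, rfl⟩ := h1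
    obtain ⟨e₂, he₂, rfl⟩ := h2
    refine ⟨e₁ + e₂ - e₁ * e₂, ?_, le_antisymm ?_ ?_⟩
    · have : (e₁ + e₂ - e₁ * e₂) * (e₁ + e₂ - e₁ * e₂) =
          e₁ * e₁ + e₂ * e₂ + 2 * (e₁ * e₂) - 2 * (e₁ * e₁) * e₂ - 2 * e₁ * (e₂ * e₂)
            + (e₁ * e₁) * (e₂ * e₂) := by ring
      rw [this, he₁, he₂]
      ring
    · rw [sup_le_iff, Ideal.span_le, Ideal.span_le, Set.singleton_subset_iff,
        Set.singleton_subset_iff]
      constructor
      · refine Ideal.mem_span_singleton'.mpr ⟨e₁, ?_⟩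
        calc e₁ * (e₁ + e₂ - e₁ * e₂) = e₁ * e₁ + e₁ * e₂ - (e₁ * e₁) * e₂ := by ring
          _ = e₁ := by rw [he₁]; ring
      · refine Ideal.mem_span_singleton'.mpr ⟨e₂, ?_⟩
        calc e₂ * (e₁ + e₂ - e₁ * e₂) = e₂ * e₂ + e₁ * e₂ - e₁ * (e₂ * e₂) := by ring
          _ = e₂ := by rw [he₂]; ring
    · rw [Ideal.span_le, Set.singleton_subset_iff]
      refine Ideal.sub_mem _ (Ideal.add_mem _ (Ideal.mem_sup_left (Ideal.subset_span rfl))
        (Ideal.mem_sup_right (Ideal.subset_span rfl))) ?_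
      exact Ideal.mem_sup_left (Ideal.mul_mem_right _ _ (Ideal.subset_span rfl))

/-- every module over a von Neumann regular ring is flat -/
theorem IsVNR.flat (h : IsVNR R) (M : Type u) [AddCommGroup M] [Module R M] : Module.Flat R M := by
  rw [Module.Flat.iff_rTensor_injective]
  intro I hI
  obtain ⟨e, he, rfl⟩ := h.exists_idempotent_span I hI
  let ρ : R →ₗ[R] (Ideal.span {e} : Ideal R) :=
    LinearMap.codRestrict _ (LinearMap.mulRight R e) (fun r =>
      Ideal.mem_span_singleton'.mpr ⟨r, rfl⟩)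
  have hρ : ρ.comp (Ideal.span {e} : Ideal R).subtype = LinearMap.id := by
    apply LinearMap.ext
    rintro ⟨i, hi⟩
    apply Subtype.ext
    obtain ⟨c, rfl⟩ := Ideal.mem_span_singleton'.mp hi
    show c * e * e = c * e
    rw [mul_assoc, he]
  have h2 : (ρ.rTensor M).comp ((Ideal.span {e} : Ideal R).subtype.rTensor M) = LinearMap.id := by
    rw [← LinearMap.rTensor_comp, hρ, LinearMap.rTensor_id]
  exact Function.LeftInverse.injective (g := ρ.rTensor M) (fun x => by
    have := congrArg (fun f => f x) h2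
    exact this)

/-- von Neumann regularity ascends along weakly étale maps -/
theorem IsVNR.of_weaklyEtale (h : IsVNR R) (S : Type u) [CommRing S] [Algebra R S]
    [Algebra.WeaklyEtale R S] : IsVNR S := by
  intro x
  haveI : Module.Flat R (S ⧸ Ideal.span {x}) := h.flat _
  haveI : Module.Flat S (S ⧸ Ideal.span {x}) :=
    Groth.Agent.Lib.Helper14.WEFlat.flat_of_flat_of_weaklyEtale R S _
  obtain ⟨e, he, hex⟩ := Groth.Agent.Lib.Helper14.WEField.exists_mul_eq_of_flat_quotient
    (Ideal.span {x}) (t := x) (Ideal.subset_span rfl)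
  obtain ⟨y, rfl⟩ := Ideal.mem_span_singleton'.mp he
  exact ⟨y, by rw [mul_comm (x * x) y, ← mul_assoc]; exact hex.symm⟩

end consequences

end Groth.Agent.Lib.R2LeadVNR
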