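import Mathlib
import Groth.Prelude.Def_ProEtW
import Groth.Prelude.Def_EtBase
import Groth.Agent.Lib.R2LeadVNR
import Groth.Agent.S0526
import Groth.Agent.Lib.H9HensSub1
import Groth.Agent.Lib.Helper2CoeffField
import Groth.Agent.Lib.Helper3ShQuot

set_option autoImplicit false

open Polynomial

universe u

namespace Groth.Agent.Lib.R2LeadHensVNR

open Groth.Agent.Lib.R2LeadVNR

section idem

variable {C : Type u} [CommRing C] (𝔍 : Ideal C) [hH : HenselianRing C 𝔍]

include hH in
/-- lifting idempotents along a henselian pair -/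
theorem exists_idempotent_lift (a : C) (ha : a * a - a ∈ 𝔍) :
    ∃ e : C, e * e = e ∧ e - a ∈ 𝔍 := by
  rcases subsingleton_or_nontrivial C with hs | hn
  · exact ⟨0, by simp, by rw [Subsingleton.elim (0 - a) 0]; exact 𝔍.zero_mem⟩
  have hmonic : (X ^ 2 - X : C[X]).Monic :=
    Polynomial.monic_X_pow_sub (by rw [Polynomial.degree_X]; norm_num)
  have h1 : (derivative (X ^ 2 - X : C[X])).eval a = 2 * a - 1 := by
    simp
    ring
  obtain ⟨e, he, hea⟩ := hH.is_henselian (X ^ 2 - X : C[X]) hmonic a (by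
      simp only [eval_sub, eval_pow, eval_X]; rw [pow_two]; exact ha) (by
      rw [h1]
      apply IsUnit.of_mul_eq_one (Ideal.Quotient.mk 𝔍 (2 * a - 1))
      rw [← map_mul, ← map_one (Ideal.Quotient.mk 𝔍), Ideal.Quotient.eq]
      have : (2 * a - 1) * (2 * a - 1) - 1 = 4 * (a * a - a) := by ring
      rw [this]; exact 𝔍.mul_mem_left _ ha)
  refine ⟨e, ?_, hea⟩
  have h2 : e ^ 2 - e = 0 := by simpa [IsRoot] using he
  rw [pow_two] at h2; exact sub_eq_zero.mp h2

end idem

section main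

variable {C Cb : Type u} [CommRing C] [CommRing Cb] (𝔍 : Ideal C) [hH : HenselianRing C 𝔍]
  (θ : C →+* Cb) (hθ : Function.Surjective θ) (hker : RingHom.ker θ = 𝔍) (hV : IsVNR Cb)

include hH in
theorem le_of_isMaximal (m : Ideal C) [hm : m.IsMaximal] : 𝔍 ≤ m :=
  hH.jac.trans (sInf_le ⟨bot_le, hm⟩)

include hθ hker hV in
theorem isMaximal_of_le (p : Ideal C) [hp : p.IsPrime] (hle : 𝔍 ≤ p) : p.IsMaximal := by
  haveI : (p.map θ).IsPrime := Ideal.map_isPrime_of_surjective hθ (hker.le.trans hle)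
  haveI : (p.map θ).IsMaximal := hV.isMaximal_of_isPrime _
  have h1 : (p.map θ).comap θ = p := by
    rw [Ideal.comap_map_of_surjective θ hθ]
    have : Ideal.comap θ ⊥ = RingHom.ker θ := rfl
    rw [this, hker]
    exact sup_eq_left.mpr hle
  rw [← h1]
  exact Ideal.comap_isMaximal_of_surjective θ hθ

include hH hθ hker hV in
theorem closedPoints_eq :
    ProEtW.closedPoints (PrimeSpectrum C) = PrimeSpectrum.zeroLocus (𝔍 : Set C) := by
  ext x
  show IsClosed ({x} : Set (PrimeSpectrum C)) ↔ _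
  rw [PrimeSpectrum.isClosed_singleton_iff_isMaximal, PrimeSpectrum.mem_zeroLocus]
  constructor
  · intro hx
    haveI := hx
    exact le_of_isMaximal 𝔍 x.asIdeal
  · intro hx
    exact isMaximal_of_le 𝔍 θ hθ hker hV x.asIdeal hx

include hH hθ hker hV in
/-- two distinct maximal ideals are separated by an idempotent -/
theorem exists_idempotent_sep (m₁ m₂ : Ideal C) [hm₁ : m₁.IsMaximal] [hm₂ : m₂.IsMaximal]
    (hne : m₁ ≠ m₂) : ∃ e : C, e * e = e ∧ e ∈ m₁ ∧ e ∉ m₂ := by
  have hk₁ : RingHom.ker θ ≤ m₁ := hker.le.trans (le_of_isMaximal 𝔍 m₁)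
  have hk₂ : RingHom.ker θ ≤ m₂ := hker.le.trans (le_of_isMaximal 𝔍 m₂)
  have hc : ∀ m : Ideal C, RingHom.ker θ ≤ m → (m.map θ).comap θ = m := by
    intro m hm
    rw [Ideal.comap_map_of_surjective θ hθ]
    have : Ideal.comap θ ⊥ = RingHom.ker θ := rfl
    rw [this]
    exact sup_eq_left.mpr hm
  haveI : (m₁.map θ).IsMaximal := by
    rcases Ideal.map_eq_top_or_isMaximal_of_surjective θ hθ hm₁ with h | h
    · exfalso
      have := hc m₁ hk₁
      rw [h, Ideal.comap_top] at this
      exact hm₁.ne_top this.symm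
    · exact h
  haveI : (m₂.map θ).IsMaximal := by
    rcases Ideal.map_eq_top_or_isMaximal_of_surjective θ hθ hm₂ with h | h
    · exfalso
      have := hc m₂ hk₂
      rw [h, Ideal.comap_top] at this
      exact hm₂.ne_top this.symm
    · exact h
  have hne' : m₁.map θ ≠ m₂.map θ := by
    intro h
    apply hne
    rw [← hc m₁ hk₁, ← hc m₂ hk₂, h]
  obtain ⟨eb, heb, heb1, heb2⟩ := hV.exists_idempotent_sep _ _ hne'
  obtain ⟨a, rfl⟩ := hθ eb
  have ha : a * a - a ∈ 𝔍 := by
    rw [← hker, RingHom.mem_ker, map_sub, map_mul, heb, sub_self]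
  obtain ⟨e, he, hea⟩ := exists_idempotent_lift 𝔍 a ha
  have hθe : θ e = θ a := by
    have : e - a ∈ RingHom.ker θ := hker ▸ hea
    rw [RingHom.mem_ker, map_sub, sub_eq_zero] at this
    exact this
  refine ⟨e, he, ?_, ?_⟩
  · have : e ∈ (m₁.map θ).comap θ := by
      rw [Ideal.mem_comap, hθe]; exact heb1
    rwa [hc m₁ hk₁] at this
  · intro h
    apply heb2
    rw [← hθe]
    exact Ideal.mem_map_of_mem θ h

include hH hθ hker hV in
theorem isWLocal : ProEtW.IsWLocal (PrimeSpectrum C) := by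
  refine ⟨inferInstance, ?_, ?_⟩
  · have := closedPoints_eq 𝔍 θ hθ hker hV
    show IsClosed (ProEtW.closedPoints (PrimeSpectrum C))
    rw [this]
    exact PrimeSpectrum.isClosed_zeroLocus _
  · intro x
    obtain ⟨M, hM, hxM⟩ := Ideal.exists_le_maximal x.asIdeal x.2.ne_top
    refine ⟨⟨M, hM.isPrime⟩, ⟨?_, ?_⟩, ?_⟩
    · rw [PrimeSpectrum.isClosed_singleton_iff_isMaximal]; exact hM
    · rw [← PrimeSpectrum.le_iff_specializes]; exact hxM
    · rintro y ⟨hy1, hy2⟩
      rw [PrimeSpectrum.isClosed_singleton_iff_isMaximal] at hy1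
      rw [← PrimeSpectrum.le_iff_specializes] at hy2
      by_contra hne
      haveI := hy1
      haveI := hM
      have hne' : y.asIdeal ≠ M := fun h => hne (PrimeSpectrum.ext h)
      obtain ⟨e, he, he1, he2⟩ := exists_idempotent_sep 𝔍 θ hθ hker hV y.asIdeal M hne'
      have h0 : e * (1 - e) = 0 := by rw [mul_sub, mul_one, he, sub_self]
      have h1 : e * (1 - e) ∈ x.asIdeal := by rw [h0]; exact x.asIdeal.zero_mem
      rcases x.2.mem_or_mem h1 with h | h
      · exact he2 (hxM h)
      · have h2 : 1 - e ∈ y.asIdeal := hy2 h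
        have : (1 : C) ∈ y.asIdeal := by
          have := y.asIdeal.add_mem h2 he1
          rwa [sub_add_cancel] at this
        exact hy1.ne_top ((Ideal.eq_top_iff_one _).mpr this)

include hθ hker hV in
theorem isRadical : 𝔍.IsRadical := by
  rw [← hker]
  intro x hx
  obtain ⟨n, hn⟩ := hx
  rw [RingHom.mem_ker] at hn ⊢
  rw [map_pow] at hn
  generalize θ x = z at hn
  induction n with
  | zero =>
    rw [pow_zero] at hn
    rw [← mul_one z, hn, mul_zero]
  | succ n ih =>
    rcases Nat.eq_zero_or_pos n with rfl | hpos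
    · simpa using hn
    · apply ih
      obtain ⟨y, hy⟩ := hV z
      obtain ⟨k, rfl⟩ : ∃ k, n = k + 1 := ⟨n - 1, by omega⟩
      calc z ^ (k + 1) = z ^ k * z := pow_succ _ _
        _ = z ^ k * (z * z * y) := by rw [← hy]
        _ = z ^ (k + 1 + 1) * y := by ring
        _ = 0 := by rw [hn, zero_mul]

end main

section loc

open IsLocalRing

theorem isStrictlyHenselian_of_ringEquiv {A B : Type u} [CommRing A] [CommRing B] (e : A ≃+* B)
    (h : EtCoh.IsStrictlyHenselianLocalRing A) : EtCoh.IsStrictlyHenselianLocalRing B := by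
  obtain ⟨hH, hS⟩ := h
  haveI := hH
  haveI := hS
  haveI : Nontrivial B := e.injective.nontrivial
  haveI hB : HenselianLocalRing B :=
    Groth.Agent.Lib.Helper2.henselianLocalRing_of_surjective (e : A →+* B) e.surjective
  exact ⟨hB, Groth.Agent.Lib.Helper3.ShQuot.isSepClosed_of_ringEquiv
    (IsLocalRing.ResidueField.mapEquiv e)⟩

variable {C Cb : Type u} [CommRing C] [CommRing Cb] (𝔍 : Ideal C) [hH : HenselianRing C 𝔍]
  (θ : C →+* Cb) (hθ : Function.Surjective θ) (hker : RingHom.ker θ = 𝔍) (hV : IsVNR Cb)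
  (m : Ideal C) [hm : m.IsMaximal]

/-- the ideal generated by the idempotents in `m` -/
def idemIdeal : Ideal C := Ideal.span {e | e * e = e ∧ e ∈ m}

omit hm in
theorem idemIdeal_le : idemIdeal m ≤ m := Ideal.span_le.mpr (fun _ he => he.2)

theorem exists_mul_eq_zero_of_mem {x : C} (hx : x ∈ idemIdeal m) : ∃ s, s ∉ m ∧ s * x = 0 := by
  unfold idemIdeal at hx
  induction hx using Submodule.span_induction with
  | mem e he =>
    refine ⟨1 - e, ?_, ?_⟩
    · intro h
      have := m.add_mem h he.2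
      rw [sub_add_cancel] at this
      exact hm.ne_top ((Ideal.eq_top_iff_one _).mpr this)
    · rw [sub_mul, one_mul, he.1, sub_self]
  | zero => exact ⟨1, (Ideal.ne_top_iff_one m).mp hm.ne_top, by simp⟩
  | add x y _ _ hx hy =>
    obtain ⟨s, hs, hsx⟩ := hx
    obtain ⟨t, ht, hty⟩ := hy
    refine ⟨s * t, ?_, ?_⟩
    · intro h
      rcases hm.isPrime.mem_or_mem h with h | h
      · exact hs h
      · exact ht h
    · calc s * t * (x + y) = t * (s * x) + s * (t * y) := by ring
        _ = 0 := by rw [hsx, hty, mul_zero, mul_zero, add_zero]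
  | smul a x _ hx =>
    obtain ⟨s, hs, hsx⟩ := hx
    exact ⟨s, hs, by rw [smul_eq_mul, mul_left_comm, hsx, mul_zero]⟩

include hH hθ hker hV in
theorem idemIdeal_sup : idemIdeal m ⊔ 𝔍 = m := by
  apply le_antisymm (sup_le (idemIdeal_le m) (le_of_isMaximal 𝔍 m))
  intro x hx
  obtain ⟨y, hy⟩ := hV (θ x)
  obtain ⟨y', rfl⟩ := hθ y
  have ha : (x * y') * (x * y') - x * y' ∈ 𝔍 := by
    rw [← hker, RingHom.mem_ker, map_sub, map_mul, map_mul, sub_eq_zero]
    calc θ x * θ y' * (θ x * θ y') = (θ x * θ x * θ y') * θ y' := by ring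
      _ = θ x * θ y' := by rw [← hy]
  obtain ⟨e, he, hea⟩ := exists_idempotent_lift 𝔍 (x * y') ha
  have hem : e ∈ m := by
    have : e = (e - x * y') + x * y' := by ring
    rw [this]
    exact m.add_mem (le_of_isMaximal 𝔍 m hea) (m.mul_mem_right _ hx)
  have hθe : θ e = θ x * θ y' := by
    have : e - x * y' ∈ RingHom.ker θ := hker ▸ hea
    rw [RingHom.mem_ker, map_sub, sub_eq_zero, map_mul] at this
    exact this
  have h1 : x - x * e ∈ 𝔍 := by
    rw [← hker, RingHom.mem_ker, map_sub, map_mul, hθe, sub_eq_zero, ← mul_assoc]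
    exact hy
  have : x = x * e + (x - x * e) := by ring
  rw [this]
  exact Ideal.add_mem _ (Ideal.mem_sup_left (Ideal.mul_mem_left _ _
    (Ideal.subset_span ⟨he, hem⟩))) (Ideal.mem_sup_right h1)

include hH hθ hker hV in
theorem eq_of_isMaximal_of_le (n : Ideal C) [hn : n.IsMaximal] (hle : idemIdeal m ≤ n) :
    n = m := by
  have : m ≤ n := by
    rw [← idemIdeal_sup 𝔍 θ hθ hker hV m]
    exact sup_le hle (le_of_isMaximal 𝔍 n)
  exact (hm.eq_of_le hn.ne_top this).symm

include hH hθ hker hV in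
theorem isLocalization_quot :
    haveI := hm.isPrime
    IsLocalization.AtPrime (C ⧸ idemIdeal m) m := by
  haveI := hm.isPrime
  refine (isLocalization_iff _ _).mpr ⟨?_, ?_, ?_⟩
  · rintro ⟨y, hy⟩
    by_contra hnu
    obtain ⟨N, hN, hyN⟩ := exists_max_ideal_of_mem_nonunits hnu
    haveI := hN
    haveI hcomap : (N.comap (Ideal.Quotient.mk (idemIdeal m))).IsMaximal :=
      Ideal.comap_isMaximal_of_surjective _ Ideal.Quotient.mk_surjective
    have hle : idemIdeal m ≤ N.comap (Ideal.Quotient.mk (idemIdeal m)) := by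
      intro z hz
      rw [Ideal.mem_comap, Ideal.Quotient.eq_zero_iff_mem.mpr hz]
      exact N.zero_mem
    have := eq_of_isMaximal_of_le 𝔍 θ hθ hker hV m _ hle
    apply hy
    rw [← this]
    exact hyN
  · intro z
    obtain ⟨x, rfl⟩ := Ideal.Quotient.mk_surjective z
    exact ⟨(x, 1), by simp⟩
  · intro x y hxy
    have : x - y ∈ idemIdeal m := Ideal.Quotient.eq.mp hxy
    obtain ⟨s, hs, hs0⟩ := exists_mul_eq_zero_of_mem m this
    exact ⟨⟨s, hs⟩, by rw [mul_sub, sub_eq_zero] at hs0; exact hs0⟩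

include hH hθ hker hV in
theorem isStrictlyHenselian_localization
    (hsc : letI := Ideal.Quotient.field m; IsSepClosed (C ⧸ m)) :
    haveI := hm.isPrime
    EtCoh.IsStrictlyHenselianLocalRing (Localization.AtPrime m) := by
  haveI := hm.isPrime
  haveI hloc : IsLocalization.AtPrime (C ⧸ idemIdeal m) m :=
    isLocalization_quot 𝔍 θ hθ hker hV m
  haveI : IsLocalRing (C ⧸ idemIdeal m) := IsLocalization.AtPrime.isLocalRing (C ⧸ idemIdeal m) m
  haveI : Algebra.IsIntegral C (C ⧸ idemIdeal m) :=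
    Algebra.isIntegral_of_surjective Ideal.Quotient.mk_surjective
  have h1 : HenselianRing (C ⧸ idemIdeal m) (𝔍.map (algebraMap C (C ⧸ idemIdeal m))) :=
    Groth.Agent.S0526.result C 𝔍 (C ⧸ idemIdeal m)
  -- the map to the residue field
  letI := Ideal.Quotient.field m
  let φ : C ⧸ idemIdeal m →+* C ⧸ m := Ideal.Quotient.factor (idemIdeal_le m)
  have hφ : Function.Surjective φ := Ideal.Quotient.factor_surjective _
  have hkφ : maximalIdeal (C ⧸ idemIdeal m) = RingHom.ker φ := by
    haveI : (RingHom.ker φ).IsMaximal := RingHom.ker_isMaximal_of_surjective φ hφ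
    exact (IsLocalRing.eq_maximalIdeal inferInstance).symm
  have h2 : 𝔍.map (algebraMap C (C ⧸ idemIdeal m)) = maximalIdeal (C ⧸ idemIdeal m) := by
    rw [hkφ]
    apply le_antisymm
    · rw [Ideal.map_le_iff_le_comap]
      intro x hx
      rw [Ideal.mem_comap, RingHom.mem_ker]
      show φ (Ideal.Quotient.mk _ x) = 0
      rw [Ideal.Quotient.factor_mk, Ideal.Quotient.eq_zero_iff_mem]
      exact le_of_isMaximal 𝔍 m hx
    · intro z hz
      obtain ⟨x, rfl⟩ := Ideal.Quotient.mk_surjective z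
      rw [RingHom.mem_ker, Ideal.Quotient.factor_mk, Ideal.Quotient.eq_zero_iff_mem,
        ← idemIdeal_sup 𝔍 θ hθ hker hV m] at hz
      obtain ⟨a, ha, b, hb, rfl⟩ := Submodule.mem_sup.mp hz
      rw [map_add, Ideal.Quotient.eq_zero_iff_mem.mpr ha, zero_add]
      exact Ideal.mem_map_of_mem _ hb
  rw [h2] at h1
  haveI := h1
  haveI hHL : HenselianLocalRing (C ⧸ idemIdeal m) :=
    Groth.Agent.Lib.H9HensSub1.henselianLocalRing_of_henselianRing _
  -- residue field
  let e : ResidueField (C ⧸ idemIdeal m) ≃+* C ⧸ m :=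
    (Ideal.quotEquivOfEq hkφ).trans (RingHom.quotientKerEquivOfSurjective hφ)
  haveI := hsc
  have hS : IsSepClosed (ResidueField (C ⧸ idemIdeal m)) :=
    Groth.Agent.Lib.Helper3.ShQuot.isSepClosed_of_ringEquiv e.symm
  have hQ : EtCoh.IsStrictlyHenselianLocalRing (C ⧸ idemIdeal m) := ⟨hHL, hS⟩
  exact isStrictlyHenselian_of_ringEquiv
    (IsLocalization.algEquiv m.primeCompl (C ⧸ idemIdeal m) (Localization.AtPrime m)).toRingEquiv hQ

end loc

end Groth.Agent.Lib.R2LeadHensVNR
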