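import Mathlib
import Groth.Prelude.Def_RefHull
import Groth.Prelude.Def_TorSh
import Groth.Prelude.Def_CInt
import Groth.Agent.S2821
import Groth.Agent.Lib.H9FreeFib
import Groth.Agent.Lib.Helper18Strict6
import Groth.Agent.Lib.Helper6SmRegSch
import Groth.Agent.Lib.R2H1VBSub
import Groth.Agent.Lib.Helper2LocFree

set_option autoImplicit false
set_option linter.style.haveILetI false
universe u

open AlgebraicGeometry CategoryTheory CategoryTheory.Limits TopologicalSpace Opposite

namespace Groth.Agent.Lib.R2LeadRhoFree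

/-- a finitely presented module, flat over the base of a smooth morphism and torsion-free on the
fibres, is free near every point whose fibre local ring has dimension at most one. -/
theorem main {X S : Scheme.{u}} (f : X ⟶ S) [Smooth f] (F : X.Modules) (hfp : CohB1.IsFP F)
    (hfl : FlatMod.IsFlatOver f F)
    (htf : ∀ s : ↥S, TorSh.IsTorsionFree ((Scheme.Modules.pullback (f.fiberι s)).obj F))
    (x : X) (hx : ringKrullDim ↑(CInt.fiberStalk f x) ≤ 1) :
    ∃ (V : X.Opens) (n : ℕ), x ∈ V ∧ Nonempty (F.restrict V.ι ≅ FlatMod.freeMod (↑V) n) := by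
  haveI : SheafOfModules.IsFinitePresentation (R := X.ringCatSheaf) F := hfp
  haveI : F.IsQuasicoherent := Groth.Agent.Helper18Strict.isQCoh_of_isFP F hfp
  haveI : Smooth (f.fiberToSpecResidueField (f x)) := by
    dsimp only [Scheme.Hom.fiberToSpecResidueField]
    exact MorphismProperty.pullback_snd (P := @Smooth) f _ inferInstance
  haveI hreg : IsRegularLocalRing ((f.fiber (f x)).presheaf.stalk (f.asFiber x)) :=
    Groth.Agent.Lib.Helper6.SmRegSch.isRegularLocalRing_stalk_of_smooth_over_field
      (S.residueField (f x)) (f.fiber (f x)) (f.fiberToSpecResidueField (f x)) (f.asFiber x)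
  obtain ⟨hdom, -⟩ := Groth.Agent.S2821.result ((f.fiber (f x)).presheaf.stalk (f.asFiber x))
  haveI := hdom
  haveI : IsPrincipalIdealRing ((f.fiber (f x)).presheaf.stalk (f.asFiber x)) :=
    Groth.Agent.Lib.R2H1.VBSub.isPrincipalIdealRing_of_regular_dim_le_one _ hx
  set G := (Scheme.Modules.pullback (f.fiberι (f x))).obj F with hG
  have hGfp : CohB1.IsFP G := Groth.Agent.Helper18Strict.isFP_pullback _ F hfp
  haveI : SheafOfModules.IsFinitePresentation (R := (f.fiber (f x)).ringCatSheaf) G := hGfp
  haveI : G.IsQuasicoherent := Groth.Agent.Helper18Strict.isQCoh_of_isFP G hGfp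
  haveI : Module.FinitePresentation ((f.fiber (f x)).presheaf.stalk (f.asFiber x))
      (G.presheaf.stalk (f.asFiber x)) :=
    Groth.Agent.Lib.H9FreeFib.finitePresentation_stalk G (f.asFiber x)
  haveI : Module.IsTorsionFree ((f.fiber (f x)).presheaf.stalk (f.asFiber x))
      (G.presheaf.stalk (f.asFiber x)) := htf (f x) (f.asFiber x)
  have hfreeG : Module.Free ((f.fiber (f x)).presheaf.stalk (f.asFiber x))
      (G.presheaf.stalk (f.asFiber x)) := Module.free_of_finite_type_torsion_free'
  have hz : f.fiberι (f x) (f.asFiber x) = x := f.fiberι_asFiber x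
  have hfree := (Groth.Agent.Lib.H9FreeFib.free_stalk_iff_fiber f F (f x) (f.asFiber x)
    (hfl _)).2 hfreeG
  rw [hz] at hfree
  haveI := hfree
  have hflat : FlatMod.IsFlatAt F x := Module.Flat.of_free
  exact Groth.Agent.Lib.Helper2.LocFree.exists_restrict_iso_freeMod_of_isFlatAt F x hflat

end Groth.Agent.Lib.R2LeadRhoFree
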