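import Mathlib
import Groth.Prelude.Def_RefHull
import Groth.Prelude.Def_TorSh
import Groth.Prelude.Def_CInt
import Groth.Agent.Lib.R2LeadRhoFree
import Groth.Agent.Lib.R2LeadLFHart
import Groth.Agent.Lib.R2LeadFTDepth
import Groth.Agent.Lib.R2LeadReflB

set_option autoImplicit false
set_option linter.style.haveILetI false
universe u

open AlgebraicGeometry CategoryTheory CategoryTheory.Limits TopologicalSpace Opposite

namespace Groth.Agent.Lib.R2LeadHomExt

/-- abstract: if the unit at `F` of an adjunction `L ⊣ R` is an isomorphism, every morphism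
`L E ⟶ L F` is `L φ` for a unique `φ : E ⟶ F`. -/
theorem existsUnique_of_isIso_unit {C D : Type*} [Category C] [Category D] {L : C ⥤ D} {R : D ⥤ C}
    (adj : L ⊣ R) (E F : C) [IsIso (adj.unit.app F)] (ψ : L.obj E ⟶ L.obj F) :
    ∃! φ : E ⟶ F, L.map φ = ψ := by
  have hcounit : L.map (inv (adj.unit.app F)) = adj.counit.app (L.obj F) := by
    have h1 : L.map (adj.unit.app F) ≫ adj.counit.app (L.obj F) = 𝟙 _ :=
      adj.left_triangle_components F
    rw [Functor.map_inv, IsIso.inv_eq_of_hom_inv_id h1]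
  refine ⟨adj.homEquiv E (L.obj F) ψ ≫ inv (adj.unit.app F), ?_, ?_⟩
  · change L.map (adj.homEquiv E (L.obj F) ψ ≫ inv (adj.unit.app F)) = ψ
    rw [Functor.map_comp, hcounit]
    have := (adj.homEquiv E (L.obj F)).symm_apply_apply ψ
    rw [Adjunction.homEquiv_counit] at this
    exact this
  · intro φ hφ
    have hnat := adj.unit.naturality φ
    have h2 : φ ≫ adj.unit.app F = adj.homEquiv E (L.obj F) ψ := by
      rw [Adjunction.homEquiv_unit, ← hφ]
      exact hnat
    rw [← h2, Category.assoc, IsIso.hom_inv_id, Category.comp_id]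

theorem main {X S : Scheme.{u}} (f : X ⟶ S) [Smooth f] [IsLocallyNoetherian S]
    (E F : X.Modules) (hEcoh : Coh.IsCoh E)
    (hEfl : FlatMod.IsFlatOver f E)
    (hEtf : ∀ s : ↥S, TorSh.IsTorsionFree ((Scheme.Modules.pullback (f.fiberι s)).obj E))
    (hF : FlatMod.IsFinLocFree F)
    (U : X.Opens)
    (hU : ∀ x : ↥X, x ∈ U ↔
      ∃ (V : X.Opens) (n : ℕ), x ∈ V ∧ Nonempty (E.restrict V.ι ≅ FlatMod.freeMod (↑V) n))
    (ψ : E.restrict U.ι ⟶ F.restrict U.ι) :
    ∃! φ : E ⟶ F, (Scheme.Modules.restrictFunctor U.ι).map φ = ψ := by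
  haveI : IsLocallyNoetherian X := LocallyOfFiniteType.isLocallyNoetherian f
  have hfp : CohB1.IsFP E := Groth.Agent.Lib.R2Lead.ReflB.isFP_of_isCoh E hEcoh
  haveI : IsIso ((Scheme.Modules.restrictAdjunction U.ι).unit.app F) := by
    refine Groth.Agent.Lib.R2LeadLFHart.isIso_unit_of_isReflexive U (fun y hy => ?_) F
      (Groth.Agent.Lib.R2LeadLFHart.isReflexive_of_isFinLocFree F hF)
    apply Groth.Agent.Lib.R2LeadLFHart.two_le_depth_of_smooth f y
    by_contra hdim
    exact hy ((hU y).2 (Groth.Agent.Lib.R2LeadRhoFree.main f E hfp hEfl hEtf y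
      (Groth.Agent.Lib.R2LeadFTDepth.le_one_of_not_two_le hdim)))
  exact existsUnique_of_isIso_unit (Scheme.Modules.restrictAdjunction U.ι) E F ψ

end Groth.Agent.Lib.R2LeadHomExt
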