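import Mathlib
import Groth.Agent.Lib.R2LeadIndZarA
import Groth.Agent.Lib.Helper10Pi0

namespace Groth.Agent.Lib.R2LeadIndZarB

universe u

open CategoryTheory CategoryTheory.Limits

variable {A : Type u} [CommRing A]

/-- idempotents whose basic open contains `Z`. -/
def Idem (Z : Set (PrimeSpectrum A)) : Type u :=
  {e : A // IsIdempotentElem e ∧ Z ⊆ (PrimeSpectrum.basicOpen e : Set (PrimeSpectrum A))}

namespace Idem

variable {Z : Set (PrimeSpectrum A)}

/-- the ideal `(1 - e)`. -/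
def ideal (e : Idem Z) : Ideal A := Ideal.span {1 - e.1}

instance : Preorder (Idem Z) := Preorder.lift ideal

theorem le_def (e e' : Idem Z) : e ≤ e' ↔ e.ideal ≤ e'.ideal := Iff.rfl

/-- product of two idempotents. -/
def mul (e e' : Idem Z) : Idem Z :=
  ⟨e.1 * e'.1, e.2.1.mul e'.2.1, fun x hx => by
    have h1 := e.2.2 hx
    have h2 := e'.2.2 hx
    rw [PrimeSpectrum.basicOpen_mul]
    exact ⟨h1, h2⟩⟩

theorem le_mul_left (e e' : Idem Z) : e ≤ mul e e' := by
  rw [le_def, ideal, Ideal.span_singleton_le_iff_mem, ideal, Ideal.mem_span_singleton']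
  refine ⟨1 - e.1, ?_⟩
  change (1 - e.1) * (1 - e.1 * e'.1) = 1 - e.1
  have := e.2.1.eq
  linear_combination e'.1 * this

theorem le_mul_right (e e' : Idem Z) : e' ≤ mul e e' := by
  rw [le_def, ideal, Ideal.span_singleton_le_iff_mem, ideal, Ideal.mem_span_singleton']
  refine ⟨1 - e'.1, ?_⟩
  change (1 - e'.1) * (1 - e.1 * e'.1) = 1 - e'.1
  have := e'.2.1.eq
  linear_combination e.1 * this

instance : IsDirected (Idem Z) (· ≤ ·) := ⟨fun e e' => ⟨mul e e', le_mul_left e e', le_mul_right e e'⟩⟩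

instance : Nonempty (Idem Z) := ⟨⟨1, IsIdempotentElem.one, fun x _ => by simp⟩⟩

instance (e : Idem Z) : Algebra.IsLocalIso A (A ⧸ e.ideal) := by
  haveI : IsLocalization.Away e.1 (A ⧸ e.ideal) :=
    IsLocalization.Away.quotient_of_isIdempotentElem e.2.1
  haveI : Algebra.IsStandardOpenImmersion A (A ⧸ e.ideal) := ⟨e.1, inferInstance⟩
  infer_instance

end Idem

/-- the union of the ideals `(1 - e)`. -/
def bigIdeal (Z : Set (PrimeSpectrum A)) : Ideal A := ⨆ e : Idem Z, e.ideal

theorem mem_bigIdeal {Z : Set (PrimeSpectrum A)} {a : A} :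
    a ∈ bigIdeal Z ↔ ∃ e : Idem Z, a ∈ e.ideal := by
  unfold bigIdeal
  rw [Submodule.mem_iSup_of_directed]
  intro e e'
  exact ⟨Idem.mul e e', Idem.le_mul_left e e', Idem.le_mul_right e e'⟩

theorem isIndZariski_quot (Z : Set (PrimeSpectrum A)) :
    EtPBC.IsIndZariski A (A ⧸ bigIdeal Z) := by
  refine Groth.Agent.Lib.R2LeadIndZarA.isIndZariski_of_filtered (J := Idem Z)
    (fun e => A ⧸ e.ideal)
    (fun {j k} f => Ideal.Quotient.factorₐ A (leOfHom f))
    (fun j => ?_) (fun {j k l} f g => ?_)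
    (fun e => Ideal.Quotient.factorₐ A (le_iSup (fun e : Idem Z => e.ideal) e))
    (fun {j k} g x => ?_) (fun b => ?_) (fun j x hx => ?_)
  · refine AlgHom.ext fun x => ?_
    obtain ⟨a, rfl⟩ := Ideal.Quotient.mk_surjective x
    rfl
  · refine AlgHom.ext fun x => ?_
    obtain ⟨a, rfl⟩ := Ideal.Quotient.mk_surjective x
    rfl
  · obtain ⟨a, rfl⟩ := Ideal.Quotient.mk_surjective x
    rfl
  · obtain ⟨a, rfl⟩ := Ideal.Quotient.mk_surjective b
    exact ⟨Classical.arbitrary _, Ideal.Quotient.mk _ a, rfl⟩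
  · obtain ⟨a, rfl⟩ := Ideal.Quotient.mk_surjective x
    have ha : a ∈ bigIdeal Z := Ideal.Quotient.eq_zero_iff_mem.mp hx
    obtain ⟨e', he'⟩ := mem_bigIdeal.mp ha
    refine ⟨Idem.mul j e', homOfLE (Idem.le_mul_left j e'), ?_⟩
    change Ideal.Quotient.mk _ a = 0
    rw [Ideal.Quotient.eq_zero_iff_mem]
    exact (Idem.le_mul_right j e') he'

theorem main (T : Set (_root_.ConnectedComponents (PrimeSpectrum A))) (hT : IsClosed T) :
    ∃ (B : Type u) (_ : CommRing B) (_ : Algebra A B),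
      EtPBC.IsIndZariski A B ∧ Function.Surjective (algebraMap A B) ∧
      Topology.IsEmbedding (PrimeSpectrum.comap (algebraMap A B)) ∧
      Set.range (PrimeSpectrum.comap (algebraMap A B)) = _root_.ConnectedComponents.mk ⁻¹' T := by
  classical
  haveI : T2Space (_root_.ConnectedComponents (PrimeSpectrum A)) :=
    Groth.Agent.Lib.Helper10.Pi0.t2Space_connectedComponents
  refine ⟨A ⧸ bigIdeal (_root_.ConnectedComponents.mk ⁻¹' T), inferInstance, inferInstance,
    isIndZariski_quot _, Ideal.Quotient.mk_surjective,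
    (PrimeSpectrum.isClosedEmbedding_comap_of_surjective _ _ Ideal.Quotient.mk_surjective).isEmbedding,
    ?_⟩
  change Set.range (PrimeSpectrum.comap (Ideal.Quotient.mk (bigIdeal (_root_.ConnectedComponents.mk ⁻¹' T)))) = _
  rw [_root_.range_comap_of_surjective _ _ Ideal.Quotient.mk_surjective]
  rw [Ideal.mk_ker, bigIdeal, PrimeSpectrum.zeroLocus_iSup]
  apply Set.Subset.antisymm
  · intro x hx
    by_contra hxT
    have hxT' : _root_.ConnectedComponents.mk x ∈ Tᶜ := hxT
    obtain ⟨V, hV, hxV, hVT⟩ := compact_exists_isClopen_in_isOpen hT.isOpen_compl hxT'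
    have hW : IsClopen (_root_.ConnectedComponents.mk ⁻¹' Vᶜ : Set (PrimeSpectrum A)) :=
      hV.compl.preimage _root_.ConnectedComponents.continuous_coe
    obtain ⟨e, he, hWe⟩ := PrimeSpectrum.exists_idempotent_basicOpen_eq_of_isClopen hW
    have hZe : _root_.ConnectedComponents.mk ⁻¹' T ⊆ (PrimeSpectrum.basicOpen e : Set (PrimeSpectrum A)) := by
      rw [← hWe]
      intro y hy hyV
      exact hVT hyV hy
    have h1 := Set.mem_iInter.mp hx ⟨e, he, hZe⟩
    change x ∈ PrimeSpectrum.zeroLocus ((Ideal.span {1 - e} : Ideal A) : Set A) at h1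
    rw [PrimeSpectrum.zeroLocus_span, ← PrimeSpectrum.basicOpen_eq_zeroLocus_of_isIdempotentElem e he,
      ← hWe] at h1
    exact h1 hxV
  · intro x hx
    refine Set.mem_iInter.mpr fun e => ?_
    change x ∈ PrimeSpectrum.zeroLocus ((Ideal.span {1 - e.1} : Ideal A) : Set A)
    rw [PrimeSpectrum.zeroLocus_span, ← PrimeSpectrum.basicOpen_eq_zeroLocus_of_isIdempotentElem e.1 e.2.1]
    exact e.2.2 hx

end Groth.Agent.Lib.R2LeadIndZarB
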