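import Mathlib
import Groth.Prelude.Def_PBC
import Groth.Agent.Lib.Helper10LocImm

namespace Groth.Agent.Lib.R2LeadIndZarLoc

universe u

open CategoryTheory CategoryTheory.Limits
open Groth.Agent.Lib.Helper10.LocImmLib

section LocalIso

variable {A R : Type u} [CommRing A] [CommRing R] [Algebra A R]

theorem bij_of_eq {A B : Type u} [CommRing A] [CommRing B] [Algebra A B] (S : Submonoid A)
    [IsLocalization S B] (q : Ideal B) [q.IsPrime] (φ : A →+* B) (hφ : φ = algebraMap A B) :
    Function.Bijective (Localization.localRingHom (q.comap φ) q φ rfl) := by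
  subst hφ
  exact bijective_localRingHom_of_isLocalization S q

theorem bij_transport (f : A →+* R) (q J : Ideal R) [q.IsPrime] [J.IsPrime] (hJ : J = q)
    (h : Function.Bijective (Localization.localRingHom (J.comap f) J f rfl)) :
    Function.Bijective (Localization.localRingHom (q.comap f) q f rfl) := by
  subst hJ
  exact h

/-- a local isomorphism identifies local rings. -/
theorem bijective_localRingHom_of_isLocalIso [Algebra.IsLocalIso A R] (q : Ideal R) [q.IsPrime] :
    Function.Bijective (Localization.localRingHom (q.comap (algebraMap A R)) q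
      (algebraMap A R) rfl) := by
  obtain ⟨g, hgq, hstd⟩ := Algebra.IsLocalIso.exists_notMem_isStandardOpenImmersion (R := A) q
  obtain ⟨r, hr⟩ := hstd.exists_away
  have hdisj : Disjoint (Submonoid.powers g : Set R) (q : Set R) := by
    rw [Set.disjoint_left]
    rintro x ⟨n, rfl⟩ hx
    exact hgq (Ideal.IsPrime.mem_of_pow_mem inferInstance n hx)
  let K : Ideal (Localization.Away g) := q.map (algebraMap R (Localization.Away g))
  haveI hK : K.IsPrime := IsLocalization.isPrime_of_isPrime_disjoint (Submonoid.powers g) _ q inferInstance hdisj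
  have hKq : K.comap (algebraMap R (Localization.Away g)) = q :=
    IsLocalization.comap_map_of_isPrime_disjoint (Submonoid.powers g) _ inferInstance hdisj
  haveI : (K.comap (algebraMap R (Localization.Away g))).IsPrime := by
    rw [hKq]; infer_instance
  have h2 : Function.Bijective (Localization.localRingHom (K.comap (algebraMap R (Localization.Away g))) K
      (algebraMap R (Localization.Away g)) rfl) :=
    bijective_localRingHom_of_isLocalization (Submonoid.powers g) K
  have h1 : Function.Bijective (Localization.localRingHom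
      (K.comap ((algebraMap R (Localization.Away g)).comp (algebraMap A R))) K
      ((algebraMap R (Localization.Away g)).comp (algebraMap A R)) rfl) :=
    bij_of_eq (Submonoid.powers r) K _ (IsScalarTower.algebraMap_eq A R (Localization.Away g)).symm
  have hcomp := Localization.localRingHom_comp
    (I := K.comap ((algebraMap R (Localization.Away g)).comp (algebraMap A R)))
    (K.comap (algebraMap R (Localization.Away g))) K (algebraMap A R) rfl
    (algebraMap R (Localization.Away g)) rfl
  rw [hcomp] at h1
  have h3 : Function.Bijective (Localization.localRingHom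
      ((K.comap (algebraMap R (Localization.Away g))).comap (algebraMap A R))
      (K.comap (algebraMap R (Localization.Away g))) (algebraMap A R) rfl) := by
    rw [RingHom.coe_comp] at h1
    exact (Function.Bijective.of_comp_iff' h2 _).mp h1
  exact bij_transport (algebraMap A R) q _ hKq h3

theorem bijective_localRingHom_of_isLocalIso' [Algebra.IsLocalIso A R] (q : Ideal R) [q.IsPrime]
    (p : Ideal A) [p.IsPrime] (hp : p = q.comap (algebraMap A R)) :
    Function.Bijective (Localization.localRingHom p q (algebraMap A R) hp) := by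
  subst hp
  exact bijective_localRingHom_of_isLocalIso q

end LocalIso

section Directed

variable {A B : Type u} [CommRing A] [CommRing B] [Algebra A B]
  {J : Type u} [SmallCategory J] [IsFiltered J]
  (R : J → Type u) [∀ j, CommRing (R j)] [∀ j, Algebra A (R j)]
  [∀ j, Algebra.IsLocalIso A (R j)]
  (t : ∀ {j k : J}, (j ⟶ k) → (R j →ₐ[A] R k)) (ι : ∀ j, R j →ₐ[A] B)
  (compat : ∀ {j k : J} (g : j ⟶ k) (x : R j), ι k (t g x) = ι j x)
  (surj : ∀ b : B, ∃ j x, ι j x = b)
  (inj : ∀ j (x : R j), ι j x = 0 → ∃ k, ∃ g : j ⟶ k, t g x = 0)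

include compat surj inj in
theorem identifiesLocalRings_of_directed : EtPBC.IdentifiesLocalRings A B := by
  intro q
  set p := q.asIdeal.comap (algebraMap A B) with hp
  haveI : p.IsPrime := Ideal.comap_isPrime _ _
  -- the local homs of the stages
  have hpj : ∀ j, p = (q.asIdeal.comap (ι j).toRingHom).comap (algebraMap A (R j)) := by
    intro j
    rw [hp, Ideal.comap_comap]
    congr 1
    exact (ι j).comp_algebraMap.symm
  have hLj : ∀ j, Function.Bijective (Localization.localRingHom p
      (q.asIdeal.comap (ι j).toRingHom) (algebraMap A (R j)) (hpj j)) := by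
    intro j
    exact bijective_localRingHom_of_isLocalIso' (A := A) (q.asIdeal.comap (ι j).toRingHom) p (hpj j)
  -- factorisation
  have hfac : ∀ j, Localization.localRingHom p q.asIdeal (algebraMap A B) rfl =
      (Localization.localRingHom (q.asIdeal.comap (ι j).toRingHom) q.asIdeal (ι j).toRingHom rfl).comp
        (Localization.localRingHom p (q.asIdeal.comap (ι j).toRingHom) (algebraMap A (R j)) (hpj j)) := by
    intro j
    rw [← Localization.localRingHom_comp]
    congr 1
    exact (ι j).comp_algebraMap.symm
  constructor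
  · rw [injective_iff_map_eq_zero]
    intro x hx
    obtain ⟨a, s, rfl⟩ := IsLocalization.exists_mk'_eq p.primeCompl x
    rw [Localization.localRingHom_mk', IsLocalization.mk'_eq_zero_iff] at hx
    obtain ⟨⟨b, hb⟩, hba⟩ := hx
    change b * algebraMap A B a = 0 at hba
    obtain ⟨j, bj, rfl⟩ := surj b
    have h0 : ι j (bj * algebraMap A (R j) a) = 0 := by
      rw [map_mul, AlgHom.commutes]
      exact hba
    obtain ⟨k, g, hg⟩ := inj j _ h0
    rw [map_mul, AlgHom.commutes] at hg
    have hbk : t g bj ∈ (q.asIdeal.comap (ι k).toRingHom).primeCompl := by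
      intro hmem
      apply hb
      have : ι k (t g bj) ∈ q.asIdeal := hmem
      rwa [compat] at this
    have h1 : Localization.localRingHom p (q.asIdeal.comap (ι k).toRingHom) (algebraMap A (R k)) (hpj k)
        (algebraMap A _ a) = 0 := by
      rw [Localization.localRingHom_to_map, IsLocalization.map_eq_zero_iff
        (q.asIdeal.comap (ι k).toRingHom).primeCompl]
      exact ⟨⟨t g bj, hbk⟩, hg⟩
    have h2 : algebraMap A (Localization.AtPrime p) a = 0 := by
      apply (hLj k).1
      rw [h1, map_zero]
    rw [IsLocalization.mk'_eq_mul_mk'_one, h2, zero_mul]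
  · intro y
    obtain ⟨b, s, rfl⟩ := IsLocalization.exists_mk'_eq q.asIdeal.primeCompl y
    obtain ⟨j1, b1, hb1⟩ := surj b
    obtain ⟨j2, s2, hs2⟩ := surj s.1
    let k := IsFiltered.max j1 j2
    let bk : R k := t (IsFiltered.leftToMax j1 j2) b1
    let sk : R k := t (IsFiltered.rightToMax j1 j2) s2
    have hbk : ι k bk = b := by rw [compat]; exact hb1
    have hsk : ι k sk = s.1 := by rw [compat]; exact hs2
    have hskq : sk ∈ (q.asIdeal.comap (ι k).toRingHom).primeCompl := by
      intro hmem
      apply s.2
      have : ι k sk ∈ q.asIdeal := hmem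
      rwa [hsk] at this
    obtain ⟨x, hx⟩ := (hLj k).2 (IsLocalization.mk' _ bk ⟨sk, hskq⟩)
    refine ⟨x, ?_⟩
    rw [hfac k, RingHom.comp_apply, hx, Localization.localRingHom_mk']
    congr 1
    exact Subtype.ext hsk

end Directed

/-- Elementary description of an ind-Zariski algebra. -/
theorem exists_directed_of_isIndZariski {A B : Type u} [CommRing A] [CommRing B] [Algebra A B]
    (h : EtPBC.IsIndZariski A B) :
    ∃ (J : Type u) (_ : SmallCategory J) (_ : IsFiltered J) (R : J → Type u)
      (_ : ∀ j, CommRing (R j)) (_ : ∀ j, Algebra A (R j)) (_ : ∀ j, Algebra.IsLocalIso A (R j))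
      (t : ∀ {j k : J}, (j ⟶ k) → (R j →ₐ[A] R k)) (ι : ∀ j, R j →ₐ[A] B),
      (∀ {j k : J} (g : j ⟶ k) (x : R j), ι k (t g x) = ι j x) ∧
      (∀ b : B, ∃ j x, ι j x = b) ∧
      (∀ j (x : R j), ι j x = 0 → ∃ k, ∃ g : j ⟶ k, t g x = 0) := by
  obtain ⟨J, _, _, D, c, hc, hD, ⟨e⟩⟩ := h
  let _ : ∀ j, Algebra A (D.obj j).right := fun j => (D.obj j).hom.hom.toAlgebra
  let c' : Cocone (D ⋙ Under.forget _) := (Under.forget _).mapCocone c
  have hc' : IsColimit c' := isColimitOfPreserves _ hc
  have hι : ∀ j (x : (D.obj j).right), c'.ι.app j x = (c.ι.app j).right x := fun j x => rfl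
  have hinv : ∀ y : c.pt.right, e.inv.right.hom (e.hom.right.hom y) = y := fun y => by
    have := congr($(e.hom_inv_id).right.hom y)
    exact this
  have hinv' : ∀ b : B, e.hom.right.hom (e.inv.right.hom b) = b := fun b => by
    have := congr($(e.inv_hom_id).right.hom b)
    exact this
  refine ⟨J, inferInstance, inferInstance, fun j => (D.obj j).right, inferInstance, inferInstance,
    hD, fun {j k} g => ⟨(D.map g).right.hom, fun a => ?_⟩,
    fun j => ⟨(c.ι.app j ≫ e.hom).right.hom, fun a => ?_⟩, ?_, ?_, ?_⟩
  · exact congr($(Under.w (D.map g)).hom a)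
  · exact congr($(Under.w (c.ι.app j ≫ e.hom)).hom a)
  · intro j k g x
    have := congr($(c.w g).right x)
    simp only [Under.comp_right, CommRingCat.comp_apply] at this
    simp [this]
  · intro b
    obtain ⟨j, y, hy⟩ := Concrete.isColimit_exists_rep _ hc' (e.inv.right b)
    refine ⟨j, y, ?_⟩
    have hy' : (c.ι.app j).right.hom y = e.inv.right.hom b := hy
    show e.hom.right.hom ((c.ι.app j).right.hom y) = b
    rw [hy', hinv']
  · intro j x hx
    have hx' : (c.ι.app j).right.hom x = 0 := by
      have := congr(e.inv.right.hom $hx)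
      rw [map_zero] at this
      rw [← this]
      exact (hinv _).symm
    have h2 : c'.ι.app j x = c'.ι.app j 0 := by
      show (c.ι.app j).right.hom x = (c.ι.app j).right.hom 0
      rw [map_zero]
      exact hx'
    obtain ⟨k, g, hk⟩ := (IsColimit.eq_iff' hc' x 0).1 h2
    exact ⟨k, g, hk.trans (map_zero (D.map g).right.hom)⟩

/-- ind-Zariski algebras identify local rings. -/
theorem identifiesLocalRings_of_isIndZariski {A B : Type u} [CommRing A] [CommRing B] [Algebra A B]
    (h : EtPBC.IsIndZariski A B) : EtPBC.IdentifiesLocalRings A B := by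
  obtain ⟨J, _, _, R, _, _, _, t, ι, compat, surj, inj⟩ := exists_directed_of_isIndZariski h
  exact identifiesLocalRings_of_directed R t ι compat surj inj

/-- ind-Zariski is invariant under isomorphism. -/
theorem isIndZariski_of_algEquiv {A B B' : Type u} [CommRing A] [CommRing B] [CommRing B']
    [Algebra A B] [Algebra A B'] (h : EtPBC.IsIndZariski A B) (e : B ≃ₐ[A] B') :
    EtPBC.IsIndZariski A B' := by
  obtain ⟨J, i1, i2, D, c, hc, hD, ⟨e'⟩⟩ := h
  letI : Algebra (CommRingCat.of A) B := inferInstanceAs (Algebra A B)
  letI : Algebra (CommRingCat.of A) B' := inferInstanceAs (Algebra A B')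
  exact ⟨J, i1, i2, D, c, hc, hD, ⟨e' ≪≫ AlgEquiv.toUnder (R := CommRingCat.of A) e⟩⟩

end Groth.Agent.Lib.R2LeadIndZarLoc
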