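import Mathlib

namespace Groth.Agent.Lib.R2LeadLCToRing

universe u

variable {A B : Type u} [CommRing A] [CommRing B] [Algebra A B]

theorem algebraMap_idem_of_notMem {e : B} (he : IsIdempotentElem e) (y : Ideal B) [y.IsPrime]
    (hey : e ∉ y) : algebraMap B (Localization.AtPrime y) e = 1 := by
  have h0 : algebraMap B (Localization.AtPrime y) (1 - e) = 0 := by
    rw [IsLocalization.map_eq_zero_iff y.primeCompl]
    refine ⟨⟨e, hey⟩, ?_⟩
    change e * (1 - e) = 0
    have := he.eq
    linear_combination (-1 : B) * this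
  rw [map_sub, map_one, sub_eq_zero] at h0
  exact h0.symm

theorem algebraMap_idem_of_mem {e : B} (he : IsIdempotentElem e) (y : Ideal B) [hy : y.IsPrime]
    (hey : e ∈ y) : algebraMap B (Localization.AtPrime y) e = 0 := by
  rw [IsLocalization.map_eq_zero_iff y.primeCompl]
  refine ⟨⟨1 - e, fun h => hy.one_notMem (by simpa using add_mem h hey)⟩, ?_⟩
  change (1 - e) * e = 0
  have := he.eq
  linear_combination (-1 : B) * this

variable (A B)

/-- the graph of the map `LC(π₀ Spec B, A) → B`. -/
def graph : Subalgebra A (LocallyConstant (ConnectedComponents (PrimeSpectrum B)) A × B) where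
  carrier := {x | ∀ y : PrimeSpectrum B, algebraMap B (Localization.AtPrime y.asIdeal) x.2 =
    algebraMap A (Localization.AtPrime y.asIdeal) (x.1 (ConnectedComponents.mk y))}
  mul_mem' := by
    intro x x' hx hx' y
    change algebraMap B _ (x.2 * x'.2) = algebraMap A _ (x.1 _ * x'.1 _)
    rw [map_mul, map_mul, hx y, hx' y]
  one_mem' := by
    intro y
    change algebraMap B _ 1 = algebraMap A _ 1
    rw [map_one, map_one]
  add_mem' := by
    intro x x' hx hx' y
    change algebraMap B _ (x.2 + x'.2) = algebraMap A _ (x.1 _ + x'.1 _)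
    rw [map_add, map_add, hx y, hx' y]
  zero_mem' := by
    intro y
    change algebraMap B _ 0 = algebraMap A _ 0
    rw [map_zero, map_zero]
  algebraMap_mem' := by
    intro r y
    change algebraMap B _ (algebraMap A B r) = algebraMap A _ r
    rw [← IsScalarTower.algebraMap_apply]

variable {A B}

theorem mem_graph (x : LocallyConstant (ConnectedComponents (PrimeSpectrum B)) A × B) :
    x ∈ graph A B ↔ ∀ y : PrimeSpectrum B, algebraMap B (Localization.AtPrime y.asIdeal) x.2 =
      algebraMap A (Localization.AtPrime y.asIdeal) (x.1 (ConnectedComponents.mk y)) := Iff.rfl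

theorem exists_mem_graph (f : LocallyConstant (ConnectedComponents (PrimeSpectrum B)) A) :
    ∃ b : B, (f, b) ∈ graph A B := by
  classical
  have hfin : (Set.range f).Finite := f.range_finite
  have hU : ∀ a : A, IsClopen ((ConnectedComponents.mk : PrimeSpectrum B → _) ⁻¹' (f ⁻¹' {a})) :=
    fun a => (f.isLocallyConstant.isClopen_fiber a).preimage ConnectedComponents.continuous_coe
  choose ε hε hεU using fun a => PrimeSpectrum.exists_idempotent_basicOpen_eq_of_isClopen (hU a)
  refine ⟨∑ a ∈ hfin.toFinset, algebraMap A B a * ε a, fun y => ?_⟩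
  change algebraMap B _ (∑ a ∈ hfin.toFinset, algebraMap A B a * ε a) = _
  rw [map_sum, Finset.sum_eq_single (f (ConnectedComponents.mk y))]
  · rw [map_mul, algebraMap_idem_of_notMem (hε _) y.asIdeal, mul_one,
      ← IsScalarTower.algebraMap_apply]
    have : y ∈ (PrimeSpectrum.basicOpen (ε (f (ConnectedComponents.mk y))) : Set (PrimeSpectrum B)) := by
      rw [← hεU]
      rfl
    exact this
  · intro a _ hne
    rw [map_mul, algebraMap_idem_of_mem (hε _) y.asIdeal, mul_zero]
    by_contra hmem
    have : y ∈ (PrimeSpectrum.basicOpen (ε a) : Set (PrimeSpectrum B)) := hmem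
    rw [← hεU] at this
    exact hne this.symm
  · intro h
    exact absurd (hfin.mem_toFinset.mpr ⟨_, rfl⟩) h

theorem eq_of_mem_graph {f : LocallyConstant (ConnectedComponents (PrimeSpectrum B)) A} {b b' : B}
    (h : (f, b) ∈ graph A B) (h' : (f, b') ∈ graph A B) : b = b' := by
  rw [← sub_eq_zero]
  apply eq_zero_of_localization
  intro J hJ
  have h1 := h ⟨J, hJ.isPrime⟩
  have h2 := h' ⟨J, hJ.isPrime⟩
  rw [map_sub, sub_eq_zero]
  exact h1.trans h2.symm

/-- the first projection from the graph is bijective. -/
theorem bijective_fst :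
    Function.Bijective ((AlgHom.fst A _ B).comp (graph A B).val) := by
  constructor
  · intro x x' h
    have h1 : x.1.1 = x'.1.1 := h
    apply Subtype.ext
    refine Prod.ext h1 ?_
    have hx : (x.1.1, x.1.2) ∈ graph A B := x.2
    have hx' : (x.1.1, x'.1.2) ∈ graph A B := by
      rw [h1]
      exact x'.2
    exact eq_of_mem_graph hx hx'
  · intro f
    obtain ⟨b, hb⟩ := exists_mem_graph f
    exact ⟨⟨(f, b), hb⟩, rfl⟩

/-- the ring map `LC(π₀ Spec B, A) → B`. -/
noncomputable def ρ : LocallyConstant (ConnectedComponents (PrimeSpectrum B)) A →ₐ[A] B :=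
  ((AlgHom.snd A _ B).comp (graph A B).val).comp
    (AlgEquiv.ofBijective _ (bijective_fst (A := A) (B := B))).symm.toAlgHom

theorem algebraMap_ρ (f : LocallyConstant (ConnectedComponents (PrimeSpectrum B)) A)
    (y : PrimeSpectrum B) :
    algebraMap B (Localization.AtPrime y.asIdeal) (ρ f) =
      algebraMap A (Localization.AtPrime y.asIdeal) (f (ConnectedComponents.mk y)) := by
  set e := AlgEquiv.ofBijective _ (bijective_fst (A := A) (B := B)) with he
  set x := e.symm f with hx
  have h1 : x.1.1 = f := by
    have : e x = f := e.apply_symm_apply f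
    exact this
  have h2 := x.2 y
  rw [h1] at h2
  exact h2

theorem ρ_mem_iff (f : LocallyConstant (ConnectedComponents (PrimeSpectrum B)) A)
    (y : PrimeSpectrum B) :
    ρ f ∈ y.asIdeal ↔ f (ConnectedComponents.mk y) ∈ y.asIdeal.comap (algebraMap A B) := by
  rw [← IsLocalization.AtPrime.to_map_mem_maximal_iff (Localization.AtPrime y.asIdeal) y.asIdeal,
    algebraMap_ρ, IsScalarTower.algebraMap_apply A B (Localization.AtPrime y.asIdeal),
    IsLocalization.AtPrime.to_map_mem_maximal_iff (Localization.AtPrime y.asIdeal) y.asIdeal]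
  rfl

end Groth.Agent.Lib.R2LeadLCToRing
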