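import Mathlib
import Groth.Agent.Lib.R2LeadIndZarB

namespace Groth.Agent.Lib.R2LeadLCIndZar

universe u

open CategoryTheory CategoryTheory.Limits
open Groth.Agent.Lib.R2LeadIndZarB

variable {A : Type u} [CommRing A] {T : Type u} [TopologicalSpace T]

theorem mem_span_one_sub_iff {R : Type*} [CommRing R] {e : R} (he : IsIdempotentElem e) (x : R) :
    x ∈ Ideal.span {1 - e} ↔ x * e = 0 := by
  rw [Ideal.mem_span_singleton']
  constructor
  · rintro ⟨c, rfl⟩
    have := he.eq
    linear_combination (-c) * this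
  · intro h
    exact ⟨x, by linear_combination (-1 : R) * h⟩

/-- pulling back a function on a discrete quotient. -/
noncomputable def pull (S : DiscreteQuotient T) : (S → A) →ₐ[A] LocallyConstant T A :=
  { toFun := fun f => ⟨f ∘ S.proj, (IsLocallyConstant.of_discrete f).comp_continuous S.proj_continuous⟩
    map_one' := rfl
    map_mul' := fun _ _ => rfl
    map_zero' := rfl
    map_add' := fun _ _ => rfl
    commutes' := fun _ => rfl }

theorem pull_apply (S : DiscreteQuotient T) (f : S → A) (t : T) : pull S f t = f (S.proj t) := rfl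

theorem pull_injective (S : DiscreteQuotient T) : Function.Injective (pull (A := A) S) := by
  intro f g h
  funext s
  obtain ⟨t, rfl⟩ := S.proj_surjective s
  have := congrArg (fun F : LocallyConstant T A => F t) h
  exact this

/-- functions factoring through `S`. -/
noncomputable def sub (S : DiscreteQuotient T) : Subalgebra A (LocallyConstant T A) :=
  (pull S).range

theorem mem_sub_iff (S : DiscreteQuotient T) (f : LocallyConstant T A) :
    f ∈ sub S ↔ ∀ t t', S.proj t = S.proj t' → f t = f t' := by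
  constructor
  · rintro ⟨g, rfl⟩ t t' h
    change g (S.proj t) = g (S.proj t')
    rw [h]
  · intro h
    refine ⟨fun s => f (Quotient.out s), ?_⟩
    refine LocallyConstant.ext fun t => ?_
    change f (Quotient.out (S.proj t)) = f t
    apply h
    exact Quotient.out_eq _

theorem sub_mono {S S' : DiscreteQuotient T} (h : S' ≤ S) : sub (A := A) S ≤ sub S' := by
  intro f hf
  rw [mem_sub_iff] at hf ⊢
  intro t t' htt'
  apply hf
  rw [← DiscreteQuotient.ofLE_proj h, ← DiscreteQuotient.ofLE_proj h, htt']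

theorem mem_sub_discreteQuotient (f : LocallyConstant T A) : f ∈ sub f.discreteQuotient :=
  ⟨f.lift, LocallyConstant.ext fun _ => rfl⟩

variable [CompactSpace T]

instance (S : DiscreteQuotient T) : Algebra.IsLocalIso A (sub (A := A) S) := by
  haveI : Algebra.IsLocalIso A (S → A) := Algebra.IsLocalIso.pi_of_finite A (fun _ : S => A)
  exact Algebra.IsLocalIso.of_algEquiv (AlgEquiv.ofInjective (pull S) (pull_injective S))

variable (Z : Set (PrimeSpectrum (LocallyConstant T A)))

/-- the index category. -/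
structure Idx where
  S : DiscreteQuotient T
  e : LocallyConstant T A
  mem : e ∈ sub S
  idem : IsIdempotentElem e
  sub : Z ⊆ (PrimeSpectrum.basicOpen e : Set (PrimeSpectrum (LocallyConstant T A)))

namespace Idx

variable {Z}

instance : Preorder (Idx Z) where
  le j k := k.S ≤ j.S ∧ (1 - j.e) * k.e = 0
  le_refl j := ⟨le_rfl, by have := j.idem.eq; linear_combination (-1 : LocallyConstant T A) * this⟩
  le_trans j k l h1 h2 := ⟨h2.1.trans h1.1, by
    linear_combination l.e * h1.2 + (1 - j.e) * h2.2⟩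

/-- product -/
noncomputable def mul (j : Idx Z) (S' : DiscreteQuotient T) (e' : LocallyConstant T A) (he' : e' ∈ Groth.Agent.Lib.R2LeadLCIndZar.sub S')
    (hidem : IsIdempotentElem e')
    (hsub : Z ⊆ (PrimeSpectrum.basicOpen e' : Set (PrimeSpectrum (LocallyConstant T A)))) : Idx Z where
  S := j.S ⊓ S'
  e := j.e * e'
  mem := mul_mem (sub_mono inf_le_left j.mem) (sub_mono inf_le_right he')
  idem := j.idem.mul hidem
  sub := fun x hx => by
    rw [PrimeSpectrum.basicOpen_mul]
    exact ⟨j.sub hx, hsub hx⟩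

theorem le_mul (j : Idx Z) (S' : DiscreteQuotient T) (e' : LocallyConstant T A) (he' : e' ∈ Groth.Agent.Lib.R2LeadLCIndZar.sub S')
    (hidem : IsIdempotentElem e')
    (hsub : Z ⊆ (PrimeSpectrum.basicOpen e' : Set (PrimeSpectrum (LocallyConstant T A)))) :
    j ≤ j.mul S' e' he' hidem hsub :=
  ⟨inf_le_left, by
    change (1 - j.e) * (j.e * e') = 0
    have := j.idem.eq
    linear_combination (-e') * this⟩

theorem le_mul' (j k : Idx Z) : k ≤ j.mul k.S k.e k.mem k.idem k.sub :=
  ⟨inf_le_right, by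
    change (1 - k.e) * (j.e * k.e) = 0
    have := k.idem.eq
    linear_combination (-j.e) * this⟩

instance : IsDirected (Idx Z) (· ≤ ·) :=
  ⟨fun j k => ⟨j.mul k.S k.e k.mem k.idem k.sub, le_mul _ _ _ _ _ _, le_mul' j k⟩⟩

instance : Nonempty (Idx Z) :=
  ⟨⟨⊤, 1, one_mem _, IsIdempotentElem.one, fun x _ => by simp⟩⟩

/-- the element of the subalgebra. -/
noncomputable def e' (j : Idx Z) : Groth.Agent.Lib.R2LeadLCIndZar.sub (A := A) j.S := ⟨j.e, j.mem⟩

theorem idem' (j : Idx Z) : IsIdempotentElem j.e' := Subtype.ext j.idem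

/-- the ideal -/
noncomputable def ideal (j : Idx Z) : Ideal (Groth.Agent.Lib.R2LeadLCIndZar.sub (A := A) j.S) := Ideal.span {1 - j.e'}

theorem mem_ideal_iff (j : Idx Z) (x : Groth.Agent.Lib.R2LeadLCIndZar.sub (A := A) j.S) :
    x ∈ j.ideal ↔ x.1 * j.e = 0 := by
  rw [ideal, mem_span_one_sub_iff j.idem']
  constructor
  · intro h
    exact congrArg Subtype.val h
  · intro h
    exact Subtype.ext h

instance (j : Idx Z) : Algebra.IsLocalIso A (Groth.Agent.Lib.R2LeadLCIndZar.sub (A := A) j.S ⧸ j.ideal) := by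
  haveI : IsLocalization.Away j.e' (Groth.Agent.Lib.R2LeadLCIndZar.sub (A := A) j.S ⧸ j.ideal) :=
    IsLocalization.Away.quotient_of_isIdempotentElem j.idem'
  haveI : Algebra.IsStandardOpenImmersion (Groth.Agent.Lib.R2LeadLCIndZar.sub (A := A) j.S)
      (Groth.Agent.Lib.R2LeadLCIndZar.sub (A := A) j.S ⧸ j.ideal) := ⟨j.e', inferInstance⟩
  exact Algebra.IsLocalIso.trans A (Groth.Agent.Lib.R2LeadLCIndZar.sub (A := A) j.S) _

theorem ideal_le_comap {j k : Idx Z} (h : j ≤ k) :
    j.ideal ≤ k.ideal.comap (Subalgebra.inclusion (sub_mono h.1)) := by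
  intro x hx
  rw [Ideal.mem_comap, mem_ideal_iff]
  rw [mem_ideal_iff] at hx
  change x.1 * k.e = 0
  have := h.2
  linear_combination k.e * hx + x.1 * this

/-- transition maps -/
noncomputable def t {j k : Idx Z} (h : j ≤ k) :
    (Groth.Agent.Lib.R2LeadLCIndZar.sub (A := A) j.S ⧸ j.ideal) →ₐ[A]
      (Groth.Agent.Lib.R2LeadLCIndZar.sub (A := A) k.S ⧸ k.ideal) :=
  Ideal.quotientMapₐ k.ideal (Subalgebra.inclusion (sub_mono h.1)) (ideal_le_comap h)

theorem ideal_le_comap_big (j : Idx Z) :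
    j.ideal ≤ (bigIdeal Z).comap (Groth.Agent.Lib.R2LeadLCIndZar.sub (A := A) j.S).val := by
  intro x hx
  rw [Ideal.mem_comap, mem_bigIdeal]
  rw [mem_ideal_iff] at hx
  refine ⟨⟨j.e, j.idem, j.sub⟩, ?_⟩
  change x.1 ∈ Ideal.span {1 - j.e}
  rw [mem_span_one_sub_iff j.idem]
  exact hx

/-- maps to the colimit -/
noncomputable def ι (j : Idx Z) :
    (Groth.Agent.Lib.R2LeadLCIndZar.sub (A := A) j.S ⧸ j.ideal) →ₐ[A] (LocallyConstant T A ⧸ bigIdeal Z) :=
  Ideal.quotientMapₐ (bigIdeal Z) (Groth.Agent.Lib.R2LeadLCIndZar.sub (A := A) j.S).val (ideal_le_comap_big j)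

end Idx

theorem isIndZariski_quot :
    EtPBC.IsIndZariski A (LocallyConstant T A ⧸ bigIdeal Z) := by
  refine Groth.Agent.Lib.R2LeadIndZarA.isIndZariski_of_filtered (J := Idx Z)
    (fun j => sub (A := A) j.S ⧸ j.ideal)
    (fun {j k} f => Idx.t (leOfHom f))
    (fun j => ?_) (fun {j k l} f g => ?_)
    (fun j => j.ι)
    (fun {j k} g x => ?_) (fun b => ?_) (fun j x hx => ?_)
  · refine AlgHom.ext fun x => ?_
    obtain ⟨a, rfl⟩ := Ideal.Quotient.mk_surjective x
    rfl
  · refine AlgHom.ext fun x => ?_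
    obtain ⟨a, rfl⟩ := Ideal.Quotient.mk_surjective x
    rfl
  · obtain ⟨a, rfl⟩ := Ideal.Quotient.mk_surjective x
    rfl
  · obtain ⟨f, rfl⟩ := Ideal.Quotient.mk_surjective b
    refine ⟨⟨f.discreteQuotient, 1, one_mem _, IsIdempotentElem.one, fun x _ => by simp⟩,
      Ideal.Quotient.mk _ ⟨f, mem_sub_discreteQuotient f⟩, rfl⟩
  · obtain ⟨a, rfl⟩ := Ideal.Quotient.mk_surjective x
    have ha : a.1 ∈ bigIdeal Z := Ideal.Quotient.eq_zero_iff_mem.mp hx
    obtain ⟨ε, hε⟩ := mem_bigIdeal.mp ha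
    change a.1 ∈ Ideal.span {1 - ε.1} at hε
    rw [mem_span_one_sub_iff ε.2.1] at hε
    refine ⟨j.mul ε.1.discreteQuotient ε.1 (mem_sub_discreteQuotient _) ε.2.1 ε.2.2,
      homOfLE (Idx.le_mul _ _ _ _ _ _), ?_⟩
    change Ideal.Quotient.mk _ _ = 0
    rw [Ideal.Quotient.eq_zero_iff_mem, Idx.mem_ideal_iff]
    change a.1 * (j.e * ε.1) = 0
    linear_combination j.e * hε

end Groth.Agent.Lib.R2LeadLCIndZar
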