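import Mathlib

/-! # The spectrum of the ring of locally constant functions on a profinite space -/

set_option autoImplicit false
universe u

namespace Groth.Agent.Lib.R2LeadLCSpec

open TopologicalSpace

variable {A : Type u} [CommRing A] {T : Type u} [TopologicalSpace T]

/-- the map `Spec A × T → Spec (LC(T, A))`. -/
noncomputable def Ψ (pt : PrimeSpectrum A × T) : PrimeSpectrum (LocallyConstant T A) :=
  PrimeSpectrum.comap (LocallyConstant.evalRingHom pt.2) pt.1

theorem mem_Ψ (pt : PrimeSpectrum A × T) (f : LocallyConstant T A) :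
    f ∈ (Ψ pt).asIdeal ↔ f pt.2 ∈ pt.1.asIdeal := Iff.rfl

theorem charFn_apply_of_mem {V : Set T} (hV : IsClopen V) {t : T} (ht : t ∈ V) :
    LocallyConstant.charFn A hV t = 1 := by
  rw [LocallyConstant.coe_charFn, Set.indicator_of_mem ht]
  rfl

theorem charFn_apply_of_notMem {V : Set T} (hV : IsClopen V) {t : T} (ht : t ∉ V) :
    LocallyConstant.charFn A hV t = 0 := by
  rw [LocallyConstant.coe_charFn, Set.indicator_of_notMem ht]

theorem continuous_Ψ : Continuous (Ψ : PrimeSpectrum A × T → _) := by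
  rw [PrimeSpectrum.isTopologicalBasis_basic_opens.continuous_iff]
  rintro _ ⟨f, rfl⟩
  rw [isOpen_iff_forall_mem_open]
  rintro ⟨p, t⟩ hpt
  have hpt' : f t ∉ p.asIdeal := hpt
  refine ⟨(PrimeSpectrum.basicOpen (f t) : Set (PrimeSpectrum A)) ×ˢ (f ⁻¹' {f t}), ?_, ?_, ?_⟩
  · rintro ⟨p', t'⟩ ⟨hp', ht'⟩
    change f t' ∉ p'.asIdeal
    rw [Set.mem_preimage, Set.mem_singleton_iff] at ht'
    rw [ht']
    exact hp'
  · exact (PrimeSpectrum.basicOpen (f t)).isOpen.prod (f.isLocallyConstant.isOpen_fiber _)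
  · exact ⟨hpt', rfl⟩

variable [CompactSpace T] [T2Space T] [TotallyDisconnectedSpace T]

theorem injective_Ψ : Function.Injective (Ψ : PrimeSpectrum A × T → _) := by
  rintro ⟨p, t⟩ ⟨p', t'⟩ h
  have ht : t = t' := by
    by_contra hne
    obtain ⟨V, hV, htV, ht'V⟩ := exists_isClopen_of_totally_separated hne
    have h1 : LocallyConstant.charFn A hV ∈ (Ψ (p', t')).asIdeal := by
      rw [mem_Ψ]
      change LocallyConstant.charFn A hV t' ∈ _
      rw [charFn_apply_of_notMem hV ht'V]
      exact zero_mem _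
    rw [← h, mem_Ψ] at h1
    change LocallyConstant.charFn A hV t ∈ _ at h1
    rw [charFn_apply_of_mem hV htV] at h1
    exact p.2.ne_top ((Ideal.eq_top_iff_one _).mpr h1)
  subst ht
  congr 1
  ext a
  have h1 : LocallyConstant.const T a ∈ (Ψ (p, t)).asIdeal ↔
      LocallyConstant.const T a ∈ (Ψ (p', t)).asIdeal := by rw [h]
  exact h1

/-- every prime has a centre. -/
theorem exists_centre (P : PrimeSpectrum (LocallyConstant T A)) :
    ∃ t : T, ∀ (V : Set T) (hV : IsClopen V), t ∈ V → LocallyConstant.charFn A hV ∉ P.asIdeal := by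
  classical
  by_contra hcon
  push Not at hcon
  choose V hV htV hP using hcon
  obtain ⟨s, hs⟩ := isCompact_univ.elim_finite_subcover V (fun t => (hV t).isOpen)
    (fun t _ => Set.mem_iUnion.mpr ⟨t, htV t⟩)
  have hprod : ∏ t ∈ s, (1 - LocallyConstant.charFn A (hV t)) = 0 := by
    ext x
    obtain ⟨t, hts, hxt⟩ : ∃ t ∈ s, x ∈ V t := by
      have := hs (Set.mem_univ x)
      simpa using this
    have : (∏ t ∈ s, (1 - LocallyConstant.charFn A (hV t))) x =
        ∏ t ∈ s, (1 - LocallyConstant.charFn A (hV t) x) := by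
      rw [← LocallyConstant.evalRingHom_apply x, map_prod]
      rfl
    rw [this]
    exact Finset.prod_eq_zero hts (by rw [charFn_apply_of_mem (hV t) hxt, sub_self])
  have h0 : ∏ t ∈ s, (1 - LocallyConstant.charFn A (hV t)) ∈ P.asIdeal := by
    rw [hprod]; exact zero_mem _
  haveI := P.2
  obtain ⟨t, -, ht⟩ := Ideal.IsPrime.prod_mem_iff.mp h0
  have h1 := Ideal.add_mem _ ht (hP t)
  rw [sub_add_cancel] at h1
  exact P.2.ne_top ((Ideal.eq_top_iff_one _).mpr h1)

theorem surjective_Ψ : Function.Surjective (Ψ : PrimeSpectrum A × T → _) := by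
  intro P
  obtain ⟨t, ht⟩ := exists_centre P
  refine ⟨(PrimeSpectrum.comap (LocallyConstant.constRingHom (X := T)) P, t), ?_⟩
  ext f
  rw [mem_Ψ]
  change LocallyConstant.const T (f t) ∈ P.asIdeal ↔ f ∈ P.asIdeal
  have hV : IsClopen (f ⁻¹' {f t}) := f.isLocallyConstant.isClopen_fiber _
  have hχ := ht _ hV rfl
  have hmul : f * LocallyConstant.charFn A hV =
      LocallyConstant.const T (f t) * LocallyConstant.charFn A hV := by
    ext x
    rw [LocallyConstant.mul_apply, LocallyConstant.mul_apply]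
    by_cases hx : x ∈ f ⁻¹' {f t}
    · rw [charFn_apply_of_mem hV hx, mul_one, mul_one]
      exact hx
    · rw [charFn_apply_of_notMem hV hx, mul_zero, mul_zero]
  haveI := P.2
  constructor
  · intro h
    have h1 : f * LocallyConstant.charFn A hV ∈ P.asIdeal := by
      rw [hmul]; exact Ideal.mul_mem_right _ _ h
    exact (Ideal.IsPrime.mem_or_mem inferInstance h1).resolve_right hχ
  · intro h
    have h1 : LocallyConstant.const T (f t) * LocallyConstant.charFn A hV ∈ P.asIdeal := by
      rw [← hmul]; exact Ideal.mul_mem_right _ _ h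
    exact (Ideal.IsPrime.mem_or_mem inferInstance h1).resolve_right hχ

theorem isOpenMap_Ψ : IsOpenMap (Ψ : PrimeSpectrum A × T → _) := by
  rw [(PrimeSpectrum.isTopologicalBasis_basic_opens.prod
    (isTopologicalBasis_isClopen (X := T))).isOpenMap_iff]
  rintro _ ⟨_, ⟨a, rfl⟩, V, hV, rfl⟩
  have hV' : IsClopen V := hV
  have : Ψ '' ((PrimeSpectrum.basicOpen a : Set (PrimeSpectrum A)) ×ˢ V) =
      (PrimeSpectrum.basicOpen (LocallyConstant.const T a * LocallyConstant.charFn A hV') :
        Set (PrimeSpectrum (LocallyConstant T A))) := by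
    ext P
    constructor
    · rintro ⟨⟨p, t⟩, ⟨hp, ht⟩, rfl⟩
      change ¬ (_ ∈ (Ψ (p, t)).asIdeal)
      rw [mem_Ψ]
      change ¬ (LocallyConstant.const T a t * LocallyConstant.charFn A hV' t ∈ p.asIdeal)
      rw [charFn_apply_of_mem hV' ht, mul_one]
      exact hp
    · intro hP
      obtain ⟨⟨p, t⟩, rfl⟩ := surjective_Ψ P
      have hP' : ¬ (LocallyConstant.const T a t * LocallyConstant.charFn A hV' t ∈ p.asIdeal) := hP
      refine ⟨(p, t), ⟨?_, ?_⟩, rfl⟩
      · intro ha
        exact hP' (Ideal.mul_mem_right _ _ ha)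
      · by_contra htV
        rw [charFn_apply_of_notMem hV' htV, mul_zero] at hP'
        exact hP' (zero_mem _)
  rw [this]
  exact (PrimeSpectrum.basicOpen _).isOpen

/-- `Spec A × T ≃ₜ Spec LC(T, A)`. -/
noncomputable def homeo : PrimeSpectrum A × T ≃ₜ PrimeSpectrum (LocallyConstant T A) :=
  (Equiv.ofBijective Ψ ⟨injective_Ψ, surjective_Ψ⟩).toHomeomorphOfContinuousOpen
    continuous_Ψ isOpenMap_Ψ

theorem homeo_apply (pt : PrimeSpectrum A × T) : homeo pt = Ψ pt := rfl

theorem homeo_symm_fst (P : PrimeSpectrum (LocallyConstant T A)) :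
    (homeo.symm P).1 = PrimeSpectrum.comap (LocallyConstant.constRingHom (X := T)) P := by
  obtain ⟨⟨p, t⟩, rfl⟩ := (homeo (A := A) (T := T)).surjective P
  rw [Homeomorph.symm_apply_apply]
  ext a
  rfl

end Groth.Agent.Lib.R2LeadLCSpec
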