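import Mathlib
import Groth.Agent.Lib.R2LeadLCSpec
import Groth.Agent.Lib.R2LeadLCIndZar
import Groth.Agent.Lib.Helper10Pi0

namespace Groth.Agent.Lib.R2LeadProfReal

universe u

open Groth.Agent.Lib.R2LeadIndZarB Groth.Agent.Lib.R2LeadLCSpec Groth.Agent.Lib.Helper10.Pi0

/-- a homeomorphism induces a homeomorphism on connected components. -/
noncomputable def connCompHomeo {X Y : Type*} [TopologicalSpace X] [TopologicalSpace Y] (h : X ≃ₜ Y) :
    ConnectedComponents X ≃ₜ ConnectedComponents Y where
  toFun := h.continuous.connectedComponentsMap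
  invFun := h.symm.continuous.connectedComponentsMap
  left_inv := by
    intro a
    obtain ⟨x, rfl⟩ := ConnectedComponents.surjective_coe a
    rw [Continuous.connectedComponentsMap_mk, Continuous.connectedComponentsMap_mk,
      Homeomorph.symm_apply_apply]
  right_inv := by
    intro a
    obtain ⟨x, rfl⟩ := ConnectedComponents.surjective_coe a
    rw [Continuous.connectedComponentsMap_mk, Continuous.connectedComponentsMap_mk,
      Homeomorph.apply_symm_apply]
  continuous_toFun := h.continuous.connectedComponentsMap_continuous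
  continuous_invFun := h.symm.continuous.connectedComponentsMap_continuous

theorem connCompHomeo_mk {X Y : Type*} [TopologicalSpace X] [TopologicalSpace Y] (h : X ≃ₜ Y) (x : X) :
    connCompHomeo h (ConnectedComponents.mk x) = ConnectedComponents.mk (h x) :=
  Continuous.connectedComponentsMap_mk h.continuous x

variable {A : Type u} [CommRing A] {T : Type u} [TopologicalSpace T] [CompactSpace T] [T2Space T]
  [TotallyDisconnectedSpace T] (g : C(T, ConnectedComponents (PrimeSpectrum A)))

/-- the fibre product as a set -/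
def fp : Set (PrimeSpectrum A × T) := {p | ConnectedComponents.mk p.1 = g p.2}

/-- its image in `Spec LC(T, A)` -/
noncomputable def Z : Set (PrimeSpectrum (LocallyConstant T A)) := homeo '' fp g

theorem zeroLocus_bigIdeal :
    PrimeSpectrum.zeroLocus (bigIdeal (Z g) : Set (LocallyConstant T A)) = Z g := by
  haveI : T2Space (ConnectedComponents (PrimeSpectrum A)) := t2Space_connectedComponents
  rw [bigIdeal, PrimeSpectrum.zeroLocus_iSup]
  apply Set.Subset.antisymm
  · intro P hP
    by_contra hPZ
    obtain ⟨⟨x, t⟩, rfl⟩ := (homeo (A := A) (T := T)).surjective P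
    have hne : ConnectedComponents.mk x ≠ g t := fun h => hPZ ⟨(x, t), h, rfl⟩
    have hopen : IsOpen ({g t}ᶜ : Set (ConnectedComponents (PrimeSpectrum A))) :=
      isClosed_singleton.isOpen_compl
    obtain ⟨V, hV, hxV, hVg⟩ := compact_exists_isClopen_in_isOpen hopen (x := ConnectedComponents.mk x) hne
    have hgV : g t ∉ V := fun h => hVg h rfl
    have c1 : Continuous (fun p : PrimeSpectrum A × T => ConnectedComponents.mk p.1) :=
      ConnectedComponents.continuous_coe.comp continuous_fst
    have c2 : Continuous (fun p : PrimeSpectrum A × T => g p.2) :=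
      g.continuous.comp continuous_snd
    let W' : Set (PrimeSpectrum A × T) :=
      ((fun p : PrimeSpectrum A × T => ConnectedComponents.mk p.1) ⁻¹' V ∩
        (fun p : PrimeSpectrum A × T => g p.2) ⁻¹' V) ∪
      ((fun p : PrimeSpectrum A × T => ConnectedComponents.mk p.1) ⁻¹' Vᶜ ∩
        (fun p : PrimeSpectrum A × T => g p.2) ⁻¹' Vᶜ)
    have hW' : IsClopen W' :=
      ((hV.preimage c1).inter (hV.preimage c2)).union ((hV.compl.preimage c1).inter (hV.compl.preimage c2))
    have hW : IsClopen ((homeo (A := A) (T := T)) '' W') := ⟨(homeo (A := A) (T := T)).isClosed_image.mpr hW'.1, (homeo (A := A) (T := T)).isOpen_image.mpr hW'.2⟩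
    obtain ⟨e, he, hWe⟩ := PrimeSpectrum.exists_idempotent_basicOpen_eq_of_isClopen hW
    have hZe : Z g ⊆ (PrimeSpectrum.basicOpen e : Set (PrimeSpectrum (LocallyConstant T A))) := by
      rw [← hWe]
      rintro _ ⟨p, hp, rfl⟩
      refine ⟨p, ?_, rfl⟩
      have hp' : ConnectedComponents.mk p.1 = g p.2 := hp
      by_cases hpV : g p.2 ∈ V
      · left
        refine ⟨?_, hpV⟩
        change ConnectedComponents.mk p.1 ∈ V
        rw [hp']
        exact hpV
      · right
        refine ⟨?_, hpV⟩
        change ConnectedComponents.mk p.1 ∉ V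
        rw [hp']
        exact hpV
    have h1 := Set.mem_iInter.mp hP ⟨e, he, hZe⟩
    change _ ∈ PrimeSpectrum.zeroLocus ((Ideal.span {1 - e} : Ideal (LocallyConstant T A)) : Set (LocallyConstant T A)) at h1
    rw [PrimeSpectrum.zeroLocus_span, ← PrimeSpectrum.basicOpen_eq_zeroLocus_of_isIdempotentElem e he,
      ← hWe] at h1
    obtain ⟨p, hp, hpe⟩ := h1
    have := homeo.injective hpe
    subst this
    rcases hp with ⟨_, h2⟩ | ⟨h1, _⟩
    · exact hgV h2
    · exact h1 hxV
  · intro x hx
    refine Set.mem_iInter.mpr fun e => ?_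
    change x ∈ PrimeSpectrum.zeroLocus ((Ideal.span {1 - e.1} : Ideal (LocallyConstant T A)) : Set (LocallyConstant T A))
    rw [PrimeSpectrum.zeroLocus_span, ← PrimeSpectrum.basicOpen_eq_zeroLocus_of_isIdempotentElem e.1 e.2.1]
    exact e.2.2 hx

/-- the ring `B`. -/
abbrev B : Type u := LocallyConstant T A ⧸ bigIdeal (Z g)

/-- the map `Spec B → Spec A × T`. -/
noncomputable def φ (y : PrimeSpectrum (B g)) : PrimeSpectrum A × T :=
  homeo.symm (PrimeSpectrum.comap (Ideal.Quotient.mk (bigIdeal (Z g))) y)

theorem isEmbedding_φ : Topology.IsEmbedding (φ g) :=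
  (homeo (A := A) (T := T)).symm.isEmbedding.comp
    (PrimeSpectrum.isClosedEmbedding_comap_of_surjective _ _ Ideal.Quotient.mk_surjective).isEmbedding

theorem range_φ : Set.range (φ g) = fp g := by
  have h1 : Set.range (φ g) = (homeo (A := A) (T := T)).symm ''
      Set.range (PrimeSpectrum.comap (Ideal.Quotient.mk (bigIdeal (Z g)))) := by
    rw [← Set.range_comp]
    rfl
  rw [h1, _root_.range_comap_of_surjective _ _ Ideal.Quotient.mk_surjective, Ideal.mk_ker,
    zeroLocus_bigIdeal, Z]
  ext p
  constructor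
  · rintro ⟨_, ⟨q, hq, rfl⟩, rfl⟩
    rw [Homeomorph.symm_apply_apply]
    exact hq
  · intro hp
    exact ⟨homeo p, ⟨p, hp, rfl⟩, Homeomorph.symm_apply_apply _ _⟩

theorem φ_fst (y : PrimeSpectrum (B g)) :
    (φ g y).1 = PrimeSpectrum.comap (algebraMap A (B g)) y := by
  rw [φ, homeo_symm_fst]
  rfl

theorem main :
    ∃ (B : Type u) (_ : CommRing B) (_ : Algebra A B) (e : _root_.ConnectedComponents (PrimeSpectrum B) ≃ₜ T),
      EtPBC.IsIndZariski A B ∧
      (∀ y : PrimeSpectrum B,
        g (e (_root_.ConnectedComponents.mk y)) = _root_.ConnectedComponents.mk (PrimeSpectrum.comap (algebraMap A B) y)) ∧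
      Topology.IsEmbedding (fun y : PrimeSpectrum B =>
        (PrimeSpectrum.comap (algebraMap A B) y, e (_root_.ConnectedComponents.mk y))) ∧
      Set.range (fun y : PrimeSpectrum B =>
        (PrimeSpectrum.comap (algebraMap A B) y, e (_root_.ConnectedComponents.mk y))) =
        {p : PrimeSpectrum A × T | _root_.ConnectedComponents.mk p.1 = g p.2} := by
  classical
  -- the homeomorphism onto the fibre product
  have hmem : ∀ y, φ g y ∈ fp g := fun y => by
    rw [← range_φ]
    exact ⟨y, rfl⟩
  let φ' : PrimeSpectrum (B g) → {p : PrimeSpectrum A × T // ConnectedComponents.mk p.1 = g p.2} :=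
    fun y => ⟨φ g y, hmem y⟩
  have hφ'emb : Topology.IsEmbedding φ' := (isEmbedding_φ g).codRestrict _ hmem
  have hφ'surj : Function.Surjective φ' := by
    rintro ⟨p, hp⟩
    have : p ∈ Set.range (φ g) := by
      rw [range_φ]
      exact hp
    obtain ⟨y, rfl⟩ := this
    exact ⟨y, rfl⟩
  let ψ : PrimeSpectrum (B g) ≃ₜ {p : PrimeSpectrum A × T // ConnectedComponents.mk p.1 = g p.2} :=
    hφ'emb.toHomeomorphOfSurjective hφ'surj
  obtain ⟨e₀, he₀⟩ := exists_homeomorph_fp (PrimeSpectrum A) T g
  let e : ConnectedComponents (PrimeSpectrum (B g)) ≃ₜ T := (connCompHomeo ψ).trans e₀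
  have he : ∀ y, e (ConnectedComponents.mk y) = (φ g y).2 := by
    intro y
    change e₀ (connCompHomeo ψ (ConnectedComponents.mk y)) = _
    rw [connCompHomeo_mk, he₀]
    rfl
  have hfun : (fun y : PrimeSpectrum (B g) =>
      (PrimeSpectrum.comap (algebraMap A (B g)) y, e (ConnectedComponents.mk y))) = φ g := by
    funext y
    refine Prod.ext ?_ ?_
    · exact (φ_fst g y).symm
    · exact he y
  refine ⟨B g, inferInstance, inferInstance, e, Groth.Agent.Lib.R2LeadLCIndZar.isIndZariski_quot (Z g),
    fun y => ?_, ?_, ?_⟩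
  · rw [he, ← φ_fst]
    exact (hmem y).symm
  · rw [hfun]
    exact isEmbedding_φ g
  · rw [hfun]
    exact range_φ g

end Groth.Agent.Lib.R2LeadProfReal
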