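import Mathlib
import Groth.Agent.Lib.R2LeadProfReal
import Groth.Agent.Lib.Helper10ProCons
import Groth.Agent.Lib.R2LeadIndZarLoc
import Groth.Agent.Lib.R2LeadLCToRing
import Groth.Agent.S0699
import Groth.Agent.S0704

namespace Groth.Agent.Lib.R2LeadIndZarWLoc

universe u

open Groth.Agent.Lib.R2LeadIndZarB Groth.Agent.Lib.R2LeadLCSpec Groth.Agent.Lib.R2LeadProfReal
  Groth.Agent.Lib.R2LeadLCToRing Groth.Agent.Lib.R2LeadIndZarLoc Groth.Agent.Lib.Helper10.Pi0

/-- w-locality transports along homeomorphisms. -/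
theorem isWLocal_of_homeomorph {X Y : Type u} [TopologicalSpace X] [TopologicalSpace Y]
    [SpectralSpace X] (h : X ≃ₜ Y) (hY : ProEtW.IsWLocal Y) : ProEtW.IsWLocal X := by
  obtain ⟨_, hcl, hsp⟩ := hY
  have hiff : ∀ x : X, IsClosed ({h x} : Set Y) ↔ IsClosed ({x} : Set X) := by
    intro x
    rw [← Set.image_singleton, h.isClosed_image]
  refine ⟨inferInstance, ?_, fun x => ?_⟩
  · have : {x : X | IsClosed ({x} : Set X)} = h ⁻¹' {y : Y | IsClosed ({y} : Set Y)} := by
      ext x
      exact (hiff x).symm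
    rw [this]
    exact hcl.preimage h.continuous
  · obtain ⟨y', ⟨hy'c, hy's⟩, huniq⟩ := hsp (h x)
    refine ⟨h.symm y', ⟨?_, ?_⟩, ?_⟩
    · rw [← hiff, h.apply_symm_apply]
      exact hy'c
    · rw [← h.isInducing.specializes_iff, h.apply_symm_apply]
      exact hy's
    · rintro x' ⟨hx'c, hx's⟩
      have := huniq (h x') ⟨(hiff x').mpr hx'c, h.isInducing.specializes_iff.mpr hx's⟩
      rw [← this, h.symm_apply_apply]

variable (A B : Type u) [CommRing A] [CommRing B] [Algebra A B]

instance : T2Space (ConnectedComponents (PrimeSpectrum B)) := t2Space_connectedComponents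

/-- the induced map on connected components -/
noncomputable def g : C(ConnectedComponents (PrimeSpectrum B), ConnectedComponents (PrimeSpectrum A)) :=
  ⟨(PrimeSpectrum.continuous_comap (algebraMap A B)).connectedComponentsMap,
    Continuous.connectedComponentsMap_continuous _⟩

theorem g_mk (y : PrimeSpectrum B) :
    g A B (ConnectedComponents.mk y) = ConnectedComponents.mk (PrimeSpectrum.comap (algebraMap A B) y) :=
  Continuous.connectedComponentsMap_mk (PrimeSpectrum.continuous_comap (algebraMap A B)) y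

theorem comap_ρ (y : PrimeSpectrum B) :
    PrimeSpectrum.comap (ρ (A := A) (B := B)).toRingHom y =
      homeo (PrimeSpectrum.comap (algebraMap A B) y, ConnectedComponents.mk y) := by
  ext f
  rw [homeo_apply]
  change (ρ f ∈ y.asIdeal) ↔ _
  rw [ρ_mem_iff]
  rfl

theorem comap_ρ_mem_Z (y : PrimeSpectrum B) :
    PrimeSpectrum.comap (ρ (A := A) (B := B)).toRingHom y ∈ Z (g A B) :=
  ⟨(PrimeSpectrum.comap (algebraMap A B) y, ConnectedComponents.mk y), (g_mk A B y).symm,
    (comap_ρ A B y).symm⟩

theorem ρ_idem (ε : Idem (Z (g A B))) : ρ (A := A) (B := B) ε.1 = 1 := by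
  have hidem : IsIdempotentElem (ρ (A := A) (B := B) ε.1) := ε.2.1.map ρ
  have hunit : IsUnit (ρ (A := A) (B := B) ε.1) := by
    by_contra h
    obtain ⟨M, hM, hmem⟩ := exists_max_ideal_of_mem_nonunits h
    let y : PrimeSpectrum B := ⟨M, hM.isPrime⟩
    have : PrimeSpectrum.comap (ρ (A := A) (B := B)).toRingHom y ∈
        (PrimeSpectrum.basicOpen ε.1 : Set _) := ε.2.2 (comap_ρ_mem_Z A B y)
    exact this hmem
  exact hunit.mul_left_cancel (by rw [hidem.eq, mul_one])

theorem ρ_eq_zero {a : LocallyConstant (ConnectedComponents (PrimeSpectrum B)) A}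
    (ha : a ∈ bigIdeal (Z (g A B))) : ρ (A := A) (B := B) a = 0 := by
  obtain ⟨ε, hε⟩ := mem_bigIdeal.mp ha
  change a ∈ Ideal.span {1 - ε.1} at hε
  rw [Groth.Agent.Lib.R2LeadLCIndZar.mem_span_one_sub_iff ε.2.1] at hε
  have := congrArg (ρ (A := A) (B := B)) hε
  rw [map_mul, ρ_idem, mul_one, map_zero] at this
  exact this

/-- the comparison map -/
noncomputable def ρbar : Groth.Agent.Lib.R2LeadProfReal.B (g A B) →ₐ[A] B :=
  Ideal.Quotient.liftₐ (bigIdeal (Z (g A B))) ρ (fun a ha => ρ_eq_zero A B ha)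

theorem ρbar_mk (a : LocallyConstant (ConnectedComponents (PrimeSpectrum B)) A) :
    ρbar A B (Ideal.Quotient.mk _ a) = ρ a := rfl

theorem φ_comap_ρbar (y : PrimeSpectrum B) :
    φ (g A B) (PrimeSpectrum.comap (ρbar A B).toRingHom y) =
      (PrimeSpectrum.comap (algebraMap A B) y, ConnectedComponents.mk y) := by
  rw [φ]
  have : PrimeSpectrum.comap (Ideal.Quotient.mk (bigIdeal (Z (g A B))))
      (PrimeSpectrum.comap (ρbar A B).toRingHom y) =
      PrimeSpectrum.comap (ρ (A := A) (B := B)).toRingHom y := by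
    ext f
    rfl
  rw [this, comap_ρ, Homeomorph.symm_apply_apply]

theorem bij_of_eq' (h1 : EtPBC.IdentifiesLocalRings A B) (q : PrimeSpectrum B)
    (φ' : A →+* B) (hφ' : φ' = algebraMap A B) :
    Function.Bijective (Localization.localRingHom (q.asIdeal.comap φ') q.asIdeal φ' rfl) := by
  subst hφ'
  exact h1 q

theorem main (h1 : EtPBC.IdentifiesLocalRings A B) (h2 : ProEtW.IsWLocal (PrimeSpectrum A))
    (h3 : ProEtW.IsWLocal (PrimeSpectrum B))
    (h4 : ProEtW.IsWLocalMap (PrimeSpectrum.comap (algebraMap A B))) :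
    EtPBC.IsIndZariski A B := by
  classical
  let C := Groth.Agent.Lib.R2LeadProfReal.B (g A B)
  have hCind : EtPBC.IsIndZariski A C := Groth.Agent.Lib.R2LeadLCIndZar.isIndZariski_quot (Z (g A B))
  letI : Algebra C B := (ρbar A B).toRingHom.toAlgebra
  haveI : IsScalarTower A C B := IsScalarTower.of_algebraMap_eq (fun a => ((ρbar A B).commutes a).symm)
  have halg : algebraMap C B = (ρbar A B).toRingHom := rfl
  -- the homeomorphism onto the fibre product
  have hmem : ∀ c, φ (g A B) c ∈ fp (g A B) := fun c => by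
    rw [← range_φ]
    exact ⟨c, rfl⟩
  let φ' : PrimeSpectrum C →
      {p : PrimeSpectrum A × ConnectedComponents (PrimeSpectrum B) //
        ConnectedComponents.mk p.1 = g A B p.2} :=
    fun c => ⟨φ (g A B) c, hmem c⟩
  have hφ'emb : Topology.IsEmbedding φ' := (isEmbedding_φ (g A B)).codRestrict _ hmem
  have hφ'surj : Function.Surjective φ' := by
    rintro ⟨p, hp⟩
    have : p ∈ Set.range (φ (g A B)) := by
      rw [range_φ]
      exact hp
    obtain ⟨c, rfl⟩ := this
    exact ⟨c, rfl⟩
  let ψ : PrimeSpectrum C ≃ₜ {p : PrimeSpectrum A × ConnectedComponents (PrimeSpectrum B) //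
        ConnectedComponents.mk p.1 = g A B p.2} :=
    hφ'emb.toHomeomorphOfSurjective hφ'surj
  have hψ : ∀ c, (ψ c).1 = φ (g A B) c := fun c => rfl
  obtain ⟨hfpW, hfpMap, hfpCl⟩ := Groth.Agent.S0704.result (PrimeSpectrum A)
    (ConnectedComponents (PrimeSpectrum B)) h2 (g A B)
  -- (2) Spec C is w-local
  have hCW : ProEtW.IsWLocal (PrimeSpectrum C) := isWLocal_of_homeomorph ψ hfpW
  -- closed points of Spec C
  have hclC : ∀ c : PrimeSpectrum C, IsClosed ({c} : Set (PrimeSpectrum C)) ↔
      IsClosed ({PrimeSpectrum.comap (algebraMap A C) c} : Set (PrimeSpectrum A)) := by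
    intro c
    have e1 : IsClosed ({ψ c} : Set _) ↔ IsClosed ({c} : Set (PrimeSpectrum C)) := by
      rw [← Set.image_singleton, ψ.isClosed_image]
    rw [← e1]
    have e2 : ψ c ∈ ProEtW.closedPoints _ ↔ (ψ c).1.1 ∈ ProEtW.closedPoints (PrimeSpectrum A) := by
      rw [hfpCl]
      rfl
    have e3 : (ψ c).1.1 = PrimeSpectrum.comap (algebraMap A C) c := by
      rw [hψ, φ_fst]
    rw [e3] at e2
    exact e2
  -- (1) identifies local rings
  have hCB : EtPBC.IdentifiesLocalRings C B := by
    intro q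
    have hA := bij_of_eq' A B h1 q ((algebraMap C B).comp (algebraMap A C))
      (IsScalarTower.algebraMap_eq A C B).symm
    have hC := identifiesLocalRings_of_isIndZariski hCind
      ⟨q.asIdeal.comap (algebraMap C B), Ideal.comap_isPrime _ _⟩
    have hcomp := Localization.localRingHom_comp
      (I := q.asIdeal.comap ((algebraMap C B).comp (algebraMap A C)))
      (q.asIdeal.comap (algebraMap C B)) q.asIdeal (algebraMap A C) rfl
      (algebraMap C B) rfl
    rw [hcomp, RingHom.coe_comp] at hA
    exact (Function.Bijective.of_comp_iff _ hC).mp hA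
  -- (4) w-local map
  have hmap : ProEtW.IsWLocalMap (PrimeSpectrum.comap (algebraMap C B)) := by
    refine ⟨Groth.Agent.Lib.Helper10.ProCons.isSpectralMap_comap _, fun y hy => ?_⟩
    rw [hclC]
    have : PrimeSpectrum.comap (algebraMap A C) (PrimeSpectrum.comap (algebraMap C B) y) =
        PrimeSpectrum.comap (algebraMap A B) y := by
      rw [← PrimeSpectrum.comap_comp_apply, ← IsScalarTower.algebraMap_eq]
    rw [this]
    exact h4.2 y hy
  -- (5) bijective on π₀
  obtain ⟨e₀, he₀⟩ := exists_homeomorph_fp (PrimeSpectrum A) (ConnectedComponents (PrimeSpectrum B)) (g A B)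
  let e : ConnectedComponents (PrimeSpectrum C) ≃ₜ ConnectedComponents (PrimeSpectrum B) :=
    (connCompHomeo ψ).trans e₀
  have he : ∀ c, e (ConnectedComponents.mk c) = (φ (g A B) c).2 := by
    intro c
    change e₀ (connCompHomeo ψ (ConnectedComponents.mk c)) = _
    rw [connCompHomeo_mk, he₀]
    rfl
  have hπ : (PrimeSpectrum.continuous_comap (algebraMap C B)).connectedComponentsMap = e.symm := by
    funext a
    obtain ⟨y, rfl⟩ := ConnectedComponents.surjective_coe a
    apply e.injective
    rw [Homeomorph.apply_symm_apply]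
    change e ((PrimeSpectrum.continuous_comap (algebraMap C B)).connectedComponentsMap
      (ConnectedComponents.mk y)) = _
    rw [Continuous.connectedComponentsMap_mk, he, halg, φ_comap_ρbar]
  have hbij : Function.Bijective (algebraMap C B) := by
    refine Groth.Agent.S0699.result C B hCB hCW h3 hmap ?_
    rw [hπ]
    exact e.symm.bijective
  exact isIndZariski_of_algEquiv hCind (AlgEquiv.ofBijective (ρbar A B) hbij)

end Groth.Agent.Lib.R2LeadIndZarWLoc
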