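import Mathlib
import Groth.Agent.Lib.R2LeadIndZarA

namespace Groth.Agent.Lib.R2LeadLocDirected

universe u

open CategoryTheory CategoryTheory.Limits

variable {A A' : Type u} [CommRing A] [CommRing A'] [Algebra A A']
  {I : Type u} [Preorder I] [IsDirected I (· ≤ ·)] [Nonempty I]
  (sub : I →o Subalgebra A A') (hcov : ∀ a, ∃ i, a ∈ sub i)
  (M : Submonoid A')

/-- the index category. -/
structure Idx where
  i : I
  f : A'
  hf : f ∈ sub i
  hM : f ∈ M

namespace Idx

variable {sub M}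

/-- the element of the subalgebra -/
def f' (j : Idx sub M) : sub j.i := ⟨j.f, j.hf⟩

instance : Preorder (Idx sub M) where
  le j k := j.i ≤ k.i ∧ ∃ c, c ∈ sub k.i ∧ k.f = j.f * c
  le_refl j := ⟨le_rfl, 1, one_mem _, (mul_one _).symm⟩
  le_trans j k l h1 h2 := by
    obtain ⟨c, hc, hck⟩ := h1.2
    obtain ⟨c', hc', hcl⟩ := h2.2
    exact ⟨h1.1.trans h2.1, c * c', mul_mem (sub.monotone h2.1 hc) hc', by rw [hcl, hck, mul_assoc]⟩

end Idx

theorem Idx.exists_ge (j k : Idx sub M) : ∃ l : Idx sub M, j ≤ l ∧ k ≤ l := by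
  obtain ⟨i, hi1, hi2⟩ := exists_ge_ge j.i k.i
  refine ⟨⟨i, j.f * k.f, mul_mem (sub.monotone hi1 j.hf) (sub.monotone hi2 k.hf), mul_mem j.hM k.hM⟩,
    ⟨hi1, k.f, sub.monotone hi2 k.hf, rfl⟩, ⟨hi2, j.f, sub.monotone hi1 j.hf, mul_comm _ _⟩⟩

/-- the stages -/
abbrev R (j : Idx sub M) : Type u := Localization.Away j.f'

instance (j : Idx sub M) [Algebra.IsLocalIso A (sub j.i)] : Algebra.IsLocalIso A (R sub M j) := by
  haveI : Algebra.IsStandardOpenImmersion (sub j.i) (R sub M j) := ⟨j.f', inferInstance⟩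
  exact Algebra.IsLocalIso.trans A (sub j.i) _

variable {sub M}

theorem isUnit_of_le {j k : Idx sub M} (h : j ≤ k) :
    IsUnit (algebraMap (sub k.i) (R sub M k) (Subalgebra.inclusion (sub.monotone h.1) j.f')) := by
  obtain ⟨c, hc, hck⟩ := h.2
  have h1 : Subalgebra.inclusion (sub.monotone h.1) j.f' * ⟨c, hc⟩ = k.f' := Subtype.ext hck.symm
  have h2 : IsUnit (algebraMap (sub k.i) (R sub M k) k.f') :=
    IsLocalization.Away.algebraMap_isUnit _
  have h3 : algebraMap (sub k.i) (R sub M k) (Subalgebra.inclusion (sub.monotone h.1) j.f') *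
      algebraMap (sub k.i) (R sub M k) ⟨c, hc⟩ = algebraMap (sub k.i) (R sub M k) k.f' := by
    rw [← map_mul, h1]
  rw [← h3] at h2
  exact isUnit_of_mul_isUnit_left h2

/-- transition maps -/
noncomputable def t {j k : Idx sub M} (h : j ≤ k) : R sub M j →ₐ[A] R sub M k :=
  IsLocalization.Away.liftAlgHom j.f'
    (f := (IsScalarTower.toAlgHom A (sub k.i) (R sub M k)).comp (Subalgebra.inclusion (sub.monotone h.1)))
    (isUnit_of_le h)

theorem t_algebraMap {j k : Idx sub M} (h : j ≤ k) (a : sub j.i) :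
    t h (algebraMap (sub j.i) (R sub M j) a) =
      algebraMap (sub k.i) (R sub M k) (Subalgebra.inclusion (sub.monotone h.1) a) := by
  rw [t, IsLocalization.Away.liftAlgHom_apply, IsLocalization.Away.lift_eq]
  rfl

theorem isUnit_big (j : Idx sub M) :
    IsUnit (algebraMap A' (Localization M) ((sub j.i).val j.f')) :=
  IsLocalization.map_units _ (⟨j.f, j.hM⟩ : M)

/-- maps to the localization -/
noncomputable def ι (j : Idx sub M) : R sub M j →ₐ[A] Localization M :=
  IsLocalization.Away.liftAlgHom j.f'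
    (f := (IsScalarTower.toAlgHom A A' (Localization M)).comp (sub j.i).val)
    (isUnit_big j)

theorem ι_algebraMap (j : Idx sub M) (a : sub j.i) :
    ι j (algebraMap (sub j.i) (R sub M j) a) = algebraMap A' (Localization M) a.1 := by
  rw [ι, IsLocalization.Away.liftAlgHom_apply, IsLocalization.Away.lift_eq]
  rfl

theorem algHom_ext_away {j : Idx sub M} {P : Type*} [CommRing P] [Algebra A P]
    (φ ψ : R sub M j →ₐ[A] P)
    (h : ∀ a : sub j.i, φ (algebraMap _ _ a) = ψ (algebraMap _ _ a)) : φ = ψ := by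
  apply AlgHom.coe_ringHom_injective
  apply IsLocalization.ringHom_ext (Submonoid.powers j.f')
  exact RingHom.ext h

include hcov in
theorem isIndZariski_localization [∀ i, Algebra.IsLocalIso A (sub i)] :
    EtPBC.IsIndZariski A (Localization M) := by
  haveI : IsDirected (Idx sub M) (· ≤ ·) := ⟨fun j k => Idx.exists_ge sub M j k⟩
  haveI : Nonempty (Idx sub M) := ⟨⟨Classical.arbitrary I, 1, one_mem _, one_mem _⟩⟩
  refine Groth.Agent.Lib.R2LeadIndZarA.isIndZariski_of_filtered (J := Idx sub M)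
    (fun j => R sub M j)
    (fun {j k} f => t (leOfHom f))
    (fun j => ?_) (fun {j k l} f g => ?_)
    (fun j => ι j)
    (fun {j k} g x => ?_) (fun b => ?_) (fun j x hx => ?_)
  · apply algHom_ext_away
    intro a
    rw [t_algebraMap]
    rfl
  · apply algHom_ext_away
    intro a
    rw [AlgHom.comp_apply, t_algebraMap, t_algebraMap, t_algebraMap]
    rfl
  · have : (ι k).comp (t (leOfHom g)) = ι j := by
      apply algHom_ext_away
      intro a
      rw [AlgHom.comp_apply, t_algebraMap, ι_algebraMap, ι_algebraMap]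
      rfl
    exact congrArg (fun φ => φ x) this
  · obtain ⟨a, m, rfl⟩ := IsLocalization.exists_mk'_eq M b
    obtain ⟨i1, hi1⟩ := hcov a
    obtain ⟨i2, hi2⟩ := hcov m.1
    obtain ⟨i, h1, h2⟩ := exists_ge_ge i1 i2
    let j : Idx sub M := ⟨i, m.1, sub.monotone h2 hi2, m.2⟩
    refine ⟨j, IsLocalization.mk' _ (⟨a, sub.monotone h1 hi1⟩ : sub i)
      (⟨j.f', Submonoid.mem_powers _⟩ : Submonoid.powers j.f'), ?_⟩
    rw [IsLocalization.eq_mk'_iff_mul_eq]
    have h3 : algebraMap A' (Localization M) m.1 = ι j (algebraMap _ _ j.f') := by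
      rw [ι_algebraMap]
      rfl
    rw [h3, ← map_mul, IsLocalization.mk'_spec, ι_algebraMap]
  · obtain ⟨n, a, hna⟩ := IsLocalization.Away.surj j.f' x
    have h0 : algebraMap A' (Localization M) a.1 = 0 := by
      rw [← ι_algebraMap, ← hna, map_mul, hx, zero_mul]
    rw [IsLocalization.map_eq_zero_iff M] at h0
    obtain ⟨m, hm⟩ := h0
    obtain ⟨i2, hi2⟩ := hcov m.1
    obtain ⟨i, h1, h2⟩ := exists_ge_ge j.i i2
    let k : Idx sub M := ⟨i, j.f * m.1, mul_mem (sub.monotone h1 j.hf) (sub.monotone h2 hi2), mul_mem j.hM m.2⟩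
    have hjk : j ≤ k := ⟨h1, m.1, sub.monotone h2 hi2, rfl⟩
    refine ⟨k, homOfLE hjk, ?_⟩
    change t hjk x = 0
    have h4 : t hjk x * t hjk (algebraMap _ _ j.f') ^ n = 0 := by
      rw [← map_pow, ← map_mul, hna, t_algebraMap, IsLocalization.map_eq_zero_iff (Submonoid.powers k.f')]
      refine ⟨⟨k.f', Submonoid.mem_powers _⟩, ?_⟩
      apply Subtype.ext
      change (j.f * m.1) * a.1 = 0
      rw [mul_assoc, hm, mul_zero]
    have hu : IsUnit (t hjk (algebraMap _ _ j.f') ^ n) := by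
      apply IsUnit.pow
      rw [t_algebraMap]
      exact isUnit_of_le hjk
    exact (hu.mul_left_eq_zero).mp h4

end Groth.Agent.Lib.R2LeadLocDirected
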