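import Mathlib
import Groth.Prelude.Def_ProEtW
import Groth.Agent.Lib.R2LeadLCSpec
import Groth.Agent.Lib.R2LeadLCIndZar
import Groth.Agent.Lib.Helper10Pi0
import Groth.Agent.Lib.R2LeadLocDirected

namespace Groth.Agent.Lib.R2LeadWLocCons

universe u

open Groth.Agent.Lib.R2LeadLCSpec Groth.Agent.Lib.Helper10.Pi0

variable {A : Type u} [CommRing A] {Z : Type u} [TopologicalSpace Z]
  (h : C(Z, PrimeSpectrum A))

/-- the multiplicative set of functions nonvanishing along the graph of `h`. -/
def Mh : Submonoid (LocallyConstant Z A) where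
  carrier := {f | ∀ z, f z ∉ (h z).asIdeal}
  one_mem' := fun z => (h z).2.one_notMem
  mul_mem' := by
    intro f g hf hg z hfg
    rcases (h z).2.mem_or_mem hfg with h1 | h1
    · exact hf z h1
    · exact hg z h1

theorem mem_Mh (f : LocallyConstant Z A) : f ∈ Mh h ↔ ∀ z, f z ∉ (h z).asIdeal := Iff.rfl

/-- the ring -/
abbrev Bh : Type u := Localization (Mh h)

section IndZar

variable [CompactSpace Z]

/-- the directed family of subalgebras. -/
noncomputable def subOD : (DiscreteQuotient Z)ᵒᵈ →o Subalgebra A (LocallyConstant Z A) where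
  toFun S := Groth.Agent.Lib.R2LeadLCIndZar.sub (OrderDual.ofDual S)
  monotone' := fun _ _ hST => Groth.Agent.Lib.R2LeadLCIndZar.sub_mono hST

instance (S : (DiscreteQuotient Z)ᵒᵈ) : Algebra.IsLocalIso A (subOD (A := A) (Z := Z) S) :=
  inferInstanceAs (Algebra.IsLocalIso A (Groth.Agent.Lib.R2LeadLCIndZar.sub (A := A) (OrderDual.ofDual S)))

theorem isIndZariski : EtPBC.IsIndZariski A (Bh h) :=
  Groth.Agent.Lib.R2LeadLocDirected.isIndZariski_localization (sub := subOD (A := A) (Z := Z))
    (M := Mh h) (fun f => ⟨OrderDual.toDual f.discreteQuotient,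
      Groth.Agent.Lib.R2LeadLCIndZar.mem_sub_discreteQuotient f⟩)

end IndZar

variable [CompactSpace Z] [T2Space Z] [TotallyDisconnectedSpace Z]

/-- the map `Spec Bh → Spec A × Z`. -/
noncomputable def σ (y : PrimeSpectrum (Bh h)) : PrimeSpectrum A × Z :=
  homeo.symm (PrimeSpectrum.comap (algebraMap (LocallyConstant Z A) (Bh h)) y)

theorem isEmbedding_σ : Topology.IsEmbedding (σ h) :=
  (homeo (A := A) (T := Z)).symm.isEmbedding.comp
    (PrimeSpectrum.localization_comap_isEmbedding (Bh h) (Mh h))

theorem σ_fst (y : PrimeSpectrum (Bh h)) :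
    (σ h y).1 = PrimeSpectrum.comap (algebraMap A (Bh h)) y := by
  rw [σ, homeo_symm_fst]
  rfl

theorem disjoint_iff (p : PrimeSpectrum A × Z) :
    Disjoint (Mh h : Set (LocallyConstant Z A)) (homeo p).asIdeal ↔ p.1 ⤳ h p.2 := by
  obtain ⟨x, z⟩ := p
  rw [← PrimeSpectrum.le_iff_specializes]
  constructor
  · intro hd
    by_contra hle
    have hle' : ¬ x.asIdeal ≤ (h z).asIdeal := hle
    obtain ⟨a, hax, hahz⟩ := SetLike.not_le_iff_exists.mp hle'
    -- a clopen neighbourhood of `z` on which `a ∉ h z'`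
    have hopen : IsOpen (h ⁻¹' (PrimeSpectrum.basicOpen a : Set (PrimeSpectrum A))) :=
      (PrimeSpectrum.basicOpen a).isOpen.preimage h.continuous
    obtain ⟨U, hU, hzU, hUa⟩ := compact_exists_isClopen_in_isOpen hopen (x := z) hahz
    let f : LocallyConstant Z A :=
      LocallyConstant.const Z a * LocallyConstant.charFn A hU + LocallyConstant.charFn A hU.compl
    have hfM : f ∈ Mh h := by
      intro z'
      by_cases hz' : z' ∈ U
      · have : f z' = a := by
          change a * LocallyConstant.charFn A hU z' + LocallyConstant.charFn A hU.compl z' = a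
          rw [charFn_apply_of_mem hU hz', charFn_apply_of_notMem hU.compl (fun hc => hc hz')]
          ring
        rw [this]
        exact hUa hz'
      · have : f z' = 1 := by
          change a * LocallyConstant.charFn A hU z' + LocallyConstant.charFn A hU.compl z' = 1
          rw [charFn_apply_of_notMem hU hz', charFn_apply_of_mem hU.compl hz']
          ring
        rw [this]
        exact (h z').2.one_notMem
    have hfP : f ∈ (homeo (x, z)).asIdeal := by
      rw [homeo_apply, mem_Ψ]
      have : f z = a := by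
        change a * LocallyConstant.charFn A hU z + LocallyConstant.charFn A hU.compl z = a
        rw [charFn_apply_of_mem hU hzU, charFn_apply_of_notMem hU.compl (fun hc => hc hzU)]
        ring
      change f z ∈ x.asIdeal
      rw [this]
      exact hax
    exact Set.disjoint_left.mp hd hfM hfP
  · intro hle
    rw [Set.disjoint_left]
    intro f hfM hfP
    rw [SetLike.mem_coe, homeo_apply, mem_Ψ] at hfP
    exact hfM z (hle hfP)

theorem range_σ : Set.range (σ h) = {p | p.1 ⤳ h p.2} := by
  have h1 : Set.range (σ h) = (homeo (A := A) (T := Z)).symm ''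
      Set.range (PrimeSpectrum.comap (algebraMap (LocallyConstant Z A) (Bh h))) := by
    rw [← Set.range_comp]
    rfl
  rw [h1, PrimeSpectrum.localization_comap_range (Bh h) (Mh h)]
  ext p
  constructor
  · rintro ⟨_, hq, rfl⟩
    obtain ⟨q, rfl⟩ := (homeo (A := A) (T := Z)).surjective ‹_›
    rw [Homeomorph.symm_apply_apply]
    exact (disjoint_iff h q).mp hq
  · intro hp
    exact ⟨homeo p, (disjoint_iff h p).mpr hp, Homeomorph.symm_apply_apply _ _⟩

theorem σ_mem (y : PrimeSpectrum (Bh h)) : (σ h y).1 ⤳ h (σ h y).2 := by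
  have : σ h y ∈ Set.range (σ h) := ⟨y, rfl⟩
  rw [range_σ] at this
  exact this

theorem exists_σ_eq {p : PrimeSpectrum A × Z} (hp : p.1 ⤳ h p.2) : ∃ y, σ h y = p := by
  have : p ∈ Set.range (σ h) := by
    rw [range_σ]
    exact hp
  exact this

theorem specializes_iff (y y' : PrimeSpectrum (Bh h)) :
    y ⤳ y' ↔ (σ h y).1 ⤳ (σ h y').1 ∧ (σ h y).2 = (σ h y').2 := by
  rw [← (isEmbedding_σ h).isInducing.specializes_iff]
  have : ∀ p p' : PrimeSpectrum A × Z, p ⤳ p' ↔ p.1 ⤳ p'.1 ∧ p.2 = p'.2 := by
    rintro ⟨x, z⟩ ⟨x', z'⟩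
    simp only [specializes_prod, specializes_iff_eq]
  exact this _ _

/-- the closed point attached to `z`. -/
noncomputable def c (z : Z) : PrimeSpectrum (Bh h) :=
  (exists_σ_eq h (p := (h z, z)) specializes_rfl).choose

theorem σ_c (z : Z) : σ h (c h z) = (h z, z) :=
  (exists_σ_eq h (p := (h z, z)) specializes_rfl).choose_spec

theorem specializes_c (y : PrimeSpectrum (Bh h)) : y ⤳ c h (σ h y).2 := by
  rw [specializes_iff, σ_c]
  exact ⟨σ_mem h y, rfl⟩

theorem isClosed_singleton_iff (y : PrimeSpectrum (Bh h)) :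
    IsClosed ({y} : Set (PrimeSpectrum (Bh h))) ↔ (σ h y).1 = h (σ h y).2 := by
  rw [isClosed_singleton_iff_forall_specializes]
  constructor
  · intro hy
    have := hy _ (specializes_c h y)
    have h2 := congrArg (fun y => (σ h y).1) this
    simp only [σ_c] at h2
    exact h2.symm
  · intro hy y' hyy'
    rw [specializes_iff] at hyy'
    apply (isEmbedding_σ h).injective
    refine Prod.ext ?_ hyy'.2.symm
    have h1 := σ_mem h y'
    rw [← hyy'.2, ← hy] at h1
    exact (h1.antisymm hyy'.1).eq

theorem isClosed_singleton_c (z : Z) : IsClosed ({c h z} : Set (PrimeSpectrum (Bh h))) := by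
  rw [isClosed_singleton_iff, σ_c]

theorem eq_c_of_isClosed {y : PrimeSpectrum (Bh h)} (hy : IsClosed ({y} : Set (PrimeSpectrum (Bh h)))) :
    y = c h (σ h y).2 := by
  apply (isEmbedding_σ h).injective
  rw [σ_c]
  exact Prod.ext ((isClosed_singleton_iff h y).mp hy) rfl

theorem isWLocal (hcl : ∀ a : A, IsClosed (h ⁻¹' (PrimeSpectrum.basicOpen a : Set (PrimeSpectrum A)))) :
    ProEtW.IsWLocal (PrimeSpectrum (Bh h)) := by
  refine ⟨inferInstance, ?_, fun y => ?_⟩
  · rw [← isOpen_compl_iff, isOpen_iff_forall_mem_open]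
    intro y hy
    have hy' : ¬ (σ h y).1 = h (σ h y).2 := fun hc => hy ((isClosed_singleton_iff h y).mpr hc)
    have hnle : ¬ ((h (σ h y).2).asIdeal ≤ (σ h y).1.asIdeal) := fun hc =>
      hy' (((PrimeSpectrum.le_iff_specializes (h (σ h y).2) (σ h y).1).mp hc).antisymm (σ_mem h y)).eq.symm
    obtain ⟨a, hah, hax⟩ := SetLike.not_le_iff_exists.mp hnle
    have c1 : Continuous (fun y => (σ h y).1) := continuous_fst.comp (isEmbedding_σ h).continuous
    have c2 : Continuous (fun y => (σ h y).2) := continuous_snd.comp (isEmbedding_σ h).continuous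
    refine ⟨(fun y => (σ h y).1) ⁻¹' (PrimeSpectrum.basicOpen a : Set (PrimeSpectrum A)) ∩
      (fun y => (σ h y).2) ⁻¹' (h ⁻¹' (PrimeSpectrum.basicOpen a : Set (PrimeSpectrum A)))ᶜ, ?_,
      ((PrimeSpectrum.basicOpen a).isOpen.preimage c1).inter ((hcl a).isOpen_compl.preimage c2),
      ⟨show a ∉ (σ h y).1.asIdeal from hax,
        fun hc => (show a ∉ (h (σ h y).2).asIdeal from hc) hah⟩⟩
    rintro y' ⟨h1, h2⟩ hy'c
    have := (isClosed_singleton_iff h y').mp hy'c
    apply h2
    change h (σ h y').2 ∈ (PrimeSpectrum.basicOpen a : Set (PrimeSpectrum A))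
    rw [← this]
    exact h1
  · refine ⟨c h (σ h y).2, ⟨isClosed_singleton_c h _, specializes_c h y⟩, ?_⟩
    rintro y' ⟨hy'c, hyy'⟩
    rw [eq_c_of_isClosed h hy'c]
    congr 1
    exact ((specializes_iff h y y').mp hyy').2.symm

theorem closedPoints_eq :
    ProEtW.closedPoints (PrimeSpectrum (Bh h)) = {y | (σ h y).1 = h (σ h y).2} := by
  ext y
  exact isClosed_singleton_iff h y

/-- `π₀(Spec Bh) ≃ₜ Z`. -/
theorem exists_homeomorph :
    ∃ e : ConnectedComponents (PrimeSpectrum (Bh h)) ≃ₜ Z,
      ∀ y, e (ConnectedComponents.mk y) = (σ h y).2 := by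
  let q : PrimeSpectrum (Bh h) → Z := fun y => (σ h y).2
  have hq : Continuous q := continuous_snd.comp (isEmbedding_σ h).continuous
  have hinj : Function.Injective hq.connectedComponentsLift := by
    intro a b hab
    obtain ⟨y₁, rfl⟩ := ConnectedComponents.surjective_coe a
    obtain ⟨y₂, rfl⟩ := ConnectedComponents.surjective_coe b
    rw [hq.connectedComponentsLift_apply_coe, hq.connectedComponentsLift_apply_coe] at hab
    have h1 := mk_eq_of_specializes _ (specializes_c h y₁)
    have h2 := mk_eq_of_specializes _ (specializes_c h y₂)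
    change (σ h y₁).2 = (σ h y₂).2 at hab
    rw [hab] at h1
    exact h1.symm.trans h2
  have hsurj : Function.Surjective hq.connectedComponentsLift := by
    intro z
    refine ⟨ConnectedComponents.mk (c h z), ?_⟩
    rw [hq.connectedComponentsLift_apply_coe]
    change (σ h (c h z)).2 = z
    rw [σ_c]
  let e := Equiv.ofBijective _ ⟨hinj, hsurj⟩
  have hec : Continuous e := hq.connectedComponentsLift_continuous
  exact ⟨hec.homeoOfEquivCompactToT2, fun y => hq.connectedComponentsLift_apply_coe y⟩

end Groth.Agent.Lib.R2LeadWLocCons
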