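import Mathlib
import Groth.Agent.Lib.R2LeadWLocCons
import Groth.Agent.Lib.R2LeadIndZarLoc
import Groth.Agent.Lib.Helper1IndEtale
import Groth.Agent.Lib.Helper10Spectral

namespace Groth.Agent.Lib.R2LeadWLocalization

universe u

open Groth.Agent.Lib.R2LeadWLocCons Groth.Agent.Lib.Helper10.Spectral

theorem flat_of_isLocalIso {A R : Type u} [CommRing A] [CommRing R] [Algebra A R]
    [Algebra.IsLocalIso A R] : Module.Flat A R := by
  rw [← RingHom.flat_algebraMap_iff]
  apply RingHom.Flat.ofLocalizationSpanTarget (algebraMap A R)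
    {g : R | Algebra.IsStandardOpenImmersion A (Localization.Away g)}
    (Algebra.IsLocalIso.span_isStandardOpenImmersion_eq_top A R)
  rintro ⟨g, hg⟩
  rw [← IsScalarTower.algebraMap_eq, RingHom.flat_algebraMap_iff]
  obtain ⟨r, hr⟩ := hg.exists_away
  exact IsLocalization.flat _ (Submonoid.powers r)

theorem flat_of_isIndZariski {A B : Type u} [CommRing A] [CommRing B] [Algebra A B]
    (h : EtPBC.IsIndZariski A B) : Module.Flat A B := by
  obtain ⟨J, _, _, R, _, _, _, t, ι, compat, surj, inj⟩ :=
    Groth.Agent.Lib.R2LeadIndZarLoc.exists_directed_of_isIndZariski h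
  haveI : ∀ j, Module.Flat A (R j) := fun j => flat_of_isLocalIso
  exact Groth.Agent.Lib.Helper1.IndEtale.flat_of_directed R t ι compat surj inj

section General

variable {A : Type u} [CommRing A] {Z : Type u} [TopologicalSpace Z]
  [CompactSpace Z] [T2Space Z] [TotallyDisconnectedSpace Z] (h : C(Z, PrimeSpectrum A))

theorem comap_c (z : Z) : PrimeSpectrum.comap (algebraMap A (Bh h)) (c h z) = h z := by
  rw [← σ_fst, σ_c]

theorem faithfullyFlat (hsurj : Function.Surjective h) : Module.FaithfullyFlat A (Bh h) := by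
  haveI : Module.Flat A (Bh h) := flat_of_isIndZariski (isIndZariski h)
  apply Module.FaithfullyFlat.of_comap_surjective
  intro x
  obtain ⟨z, rfl⟩ := hsurj x
  exact ⟨c h z, comap_c h z⟩

theorem bijOn (hbij : Function.Bijective h) :
    Set.BijOn (PrimeSpectrum.comap (algebraMap A (Bh h))) (ProEtW.closedPoints (PrimeSpectrum (Bh h)))
      Set.univ := by
  refine ⟨fun _ _ => trivial, ?_, ?_⟩
  · intro y hy y' hy' hyy'
    have h1 := (isClosed_singleton_iff h y).mp hy
    have h2 := (isClosed_singleton_iff h y').mp hy'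
    rw [← σ_fst, ← σ_fst, h1, h2] at hyy'
    have h3 := hbij.1 hyy'
    apply (isEmbedding_σ h).injective
    refine Prod.ext ?_ h3
    rw [h1, h2, h3]
  · intro x _
    obtain ⟨z, rfl⟩ := hbij.2 x
    exact ⟨c h z, isClosed_singleton_c h z, comap_c h z⟩

end General

variable (A : Type u) [CommRing A]

/-- the constructible topology map -/
noncomputable def hcons : C(WithConstructibleTopology (PrimeSpectrum A), PrimeSpectrum A) :=
  ⟨WithTopology.ofTopology, continuous_ofTopology_orig⟩

theorem hcons_bijective : Function.Bijective (hcons A) :=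
  WithTopology.ofTopology_bijective _

theorem isClosed_hcons_preimage (a : A) :
    IsClosed (hcons A ⁻¹' (PrimeSpectrum.basicOpen a : Set (PrimeSpectrum A))) :=
  isClosed_withConstr_iff.mpr
    (isClosed_constr_of_isCompact_isOpen (PrimeSpectrum.basicOpen a).isOpen
      (PrimeSpectrum.isCompact_basicOpen a))

theorem main :
    ∃ (Aw : Type u) (_ : CommRing Aw) (_ : Algebra A Aw),
      Module.FaithfullyFlat A Aw ∧ EtPBC.IsIndZariski A Aw ∧ ProEtW.IsWLocal (PrimeSpectrum Aw) ∧
      Set.BijOn (PrimeSpectrum.comap (algebraMap A Aw)) (ProEtW.closedPoints (PrimeSpectrum Aw))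
        Set.univ :=
  ⟨Bh (hcons A), inferInstance, inferInstance, faithfullyFlat _ (hcons_bijective A).2,
    isIndZariski _, isWLocal _ (isClosed_hcons_preimage A), bijOn _ (hcons_bijective A)⟩

end Groth.Agent.Lib.R2LeadWLocalization
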