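import Mathlib
import Groth.Agent.Lib.R2LeadWLocalization

namespace Groth.Agent.Lib.R2LeadWLocExtr

universe u

open Groth.Agent.Lib.R2LeadWLocCons Groth.Agent.Lib.Helper10.Spectral Groth.Agent.Lib.R2LeadWLocalization

variable (A : Type u) [CommRing A]

instance : ExtremallyDisconnected (Ultrafilter (PrimeSpectrum A)) := by
  have h1 : CategoryTheory.Projective (CompHaus.of (Ultrafilter (PrimeSpectrum A))) :=
    CompHaus.projective_ultrafilter (PrimeSpectrum A)
  exact @CompHaus.instExtremallyDisconnectedCarrierToTopTrueOfProjective
    (CompHaus.of (Ultrafilter (PrimeSpectrum A))) h1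

/-- the map from the Stone–Čech compactification of the discrete spectrum. -/
noncomputable def hult : C(Ultrafilter (PrimeSpectrum A), PrimeSpectrum A) :=
  (hcons A).comp ⟨Ultrafilter.extend (WithTopology.toTopology (constructibleTopology (PrimeSpectrum A))),
    continuous_ultrafilter_extend _⟩

theorem hult_pure (x : PrimeSpectrum A) : hult A (pure x) = x := by
  change WithTopology.ofTopology (Ultrafilter.extend
    (WithTopology.toTopology (constructibleTopology (PrimeSpectrum A))) (pure x)) = x
  rw [ultrafilter_extend_pure]

theorem hult_surjective : Function.Surjective (hult A) := fun x => ⟨pure x, hult_pure A x⟩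

theorem isClosed_hult_preimage (a : A) :
    IsClosed (hult A ⁻¹' (PrimeSpectrum.basicOpen a : Set (PrimeSpectrum A))) :=
  (isClosed_hcons_preimage A a).preimage (continuous_ultrafilter_extend _)

theorem main :
    ∃ (B : Type u) (_ : CommRing B) (_ : Algebra A B),
      Module.FaithfullyFlat A B ∧ EtPBC.IsIndZariski A B ∧ ProEtW.IsWLocal (PrimeSpectrum B) ∧
        ExtremallyDisconnected (_root_.ConnectedComponents (PrimeSpectrum B)) := by
  obtain ⟨e, -⟩ := exists_homeomorph (hult A)
  exact ⟨Bh (hult A), inferInstance, inferInstance, faithfullyFlat _ (hult_surjective A),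
    isIndZariski _, isWLocal _ (isClosed_hult_preimage A), extremallyDisconnected_of_homeo e.symm⟩

end Groth.Agent.Lib.R2LeadWLocExtr
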