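import Mathlib
import Groth.Agent.Lib.R2LeadLCToRing

namespace Groth.Agent.Lib.R2LeadLCToRing2

universe u

open Groth.Agent.Lib.R2LeadLCToRing

variable {A B : Type u} [CommRing A] [CommRing B] [Algebra A B]

variable (A B)

/-- the graph of the map `LC(Spec B, A) → B`. -/
def graph₀ : Subalgebra A (LocallyConstant (PrimeSpectrum B) A × B) where
  carrier := {x | ∀ y : PrimeSpectrum B, algebraMap B (Localization.AtPrime y.asIdeal) x.2 =
    algebraMap A (Localization.AtPrime y.asIdeal) (x.1 y)}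
  mul_mem' := by
    intro x x' hx hx' y
    change algebraMap B _ (x.2 * x'.2) = algebraMap A _ (x.1 _ * x'.1 _)
    rw [map_mul, map_mul, hx y, hx' y]
  one_mem' := by
    intro y
    change algebraMap B _ 1 = algebraMap A _ 1
    rw [map_one, map_one]
  add_mem' := by
    intro x x' hx hx' y
    change algebraMap B _ (x.2 + x'.2) = algebraMap A _ (x.1 _ + x'.1 _)
    rw [map_add, map_add, hx y, hx' y]
  zero_mem' := by
    intro y
    change algebraMap B _ 0 = algebraMap A _ 0
    rw [map_zero, map_zero]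
  algebraMap_mem' := by
    intro r y
    change algebraMap B _ (algebraMap A B r) = algebraMap A _ r
    rw [← IsScalarTower.algebraMap_apply]

variable {A B}

theorem exists_mem_graph₀ (f : LocallyConstant (PrimeSpectrum B) A) :
    ∃ b : B, (f, b) ∈ graph₀ A B := by
  classical
  have hfin : (Set.range f).Finite := f.range_finite
  have hU : ∀ a : A, IsClopen (f ⁻¹' {a}) := fun a => f.isLocallyConstant.isClopen_fiber a
  choose ε hε hεU using fun a => PrimeSpectrum.exists_idempotent_basicOpen_eq_of_isClopen (hU a)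
  refine ⟨∑ a ∈ hfin.toFinset, algebraMap A B a * ε a, fun y => ?_⟩
  change algebraMap B _ (∑ a ∈ hfin.toFinset, algebraMap A B a * ε a) = _
  rw [map_sum, Finset.sum_eq_single (f y)]
  · rw [map_mul, algebraMap_idem_of_notMem (hε _) y.asIdeal, mul_one,
      ← IsScalarTower.algebraMap_apply]
    have : y ∈ (PrimeSpectrum.basicOpen (ε (f y)) : Set (PrimeSpectrum B)) := by
      rw [← hεU]
      rfl
    exact this
  · intro a _ hne
    rw [map_mul, algebraMap_idem_of_mem (hε _) y.asIdeal, mul_zero]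
    by_contra hmem
    have : y ∈ (PrimeSpectrum.basicOpen (ε a) : Set (PrimeSpectrum B)) := hmem
    rw [← hεU] at this
    exact hne this.symm
  · intro h
    exact absurd (hfin.mem_toFinset.mpr ⟨_, rfl⟩) h

theorem eq_of_mem_graph₀ {f : LocallyConstant (PrimeSpectrum B) A} {b b' : B}
    (h : (f, b) ∈ graph₀ A B) (h' : (f, b') ∈ graph₀ A B) : b = b' := by
  rw [← sub_eq_zero]
  apply eq_zero_of_localization
  intro J hJ
  have h1 := h ⟨J, hJ.isPrime⟩
  have h2 := h' ⟨J, hJ.isPrime⟩
  rw [map_sub, sub_eq_zero]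
  exact h1.trans h2.symm

theorem bijective_fst₀ :
    Function.Bijective ((AlgHom.fst A _ B).comp (graph₀ A B).val) := by
  constructor
  · intro x x' h
    have h1 : x.1.1 = x'.1.1 := h
    apply Subtype.ext
    refine Prod.ext h1 ?_
    have hx : (x.1.1, x.1.2) ∈ graph₀ A B := x.2
    have hx' : (x.1.1, x'.1.2) ∈ graph₀ A B := by
      rw [h1]
      exact x'.2
    exact eq_of_mem_graph₀ hx hx'
  · intro f
    obtain ⟨b, hb⟩ := exists_mem_graph₀ f
    exact ⟨⟨(f, b), hb⟩, rfl⟩

/-- the ring map `LC(Spec B, A) → B`. -/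
noncomputable def ρ₀ : LocallyConstant (PrimeSpectrum B) A →ₐ[A] B :=
  ((AlgHom.snd A _ B).comp (graph₀ A B).val).comp
    (AlgEquiv.ofBijective _ (bijective_fst₀ (A := A) (B := B))).symm.toAlgHom

theorem algebraMap_ρ₀ (f : LocallyConstant (PrimeSpectrum B) A) (y : PrimeSpectrum B) :
    algebraMap B (Localization.AtPrime y.asIdeal) (ρ₀ f) =
      algebraMap A (Localization.AtPrime y.asIdeal) (f y) := by
  set e := AlgEquiv.ofBijective _ (bijective_fst₀ (A := A) (B := B)) with he
  set x := e.symm f with hx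
  have h1 : x.1.1 = f := by
    have : e x = f := e.apply_symm_apply f
    exact this
  have h2 := x.2 y
  rw [h1] at h2
  exact h2

theorem ρ₀_mem_iff (f : LocallyConstant (PrimeSpectrum B) A) (y : PrimeSpectrum B) :
    ρ₀ f ∈ y.asIdeal ↔ f y ∈ y.asIdeal.comap (algebraMap A B) := by
  rw [← IsLocalization.AtPrime.to_map_mem_maximal_iff (Localization.AtPrime y.asIdeal) y.asIdeal,
    algebraMap_ρ₀, IsScalarTower.algebraMap_apply A B (Localization.AtPrime y.asIdeal),
    IsLocalization.AtPrime.to_map_mem_maximal_iff (Localization.AtPrime y.asIdeal) y.asIdeal]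
  rfl

theorem isUnit_ρ₀ (f : LocallyConstant (PrimeSpectrum B) A)
    (hf : ∀ y : PrimeSpectrum B, f y ∉ y.asIdeal.comap (algebraMap A B)) : IsUnit (ρ₀ f) := by
  by_contra h
  obtain ⟨M, hM, hmem⟩ := exists_max_ideal_of_mem_nonunits h
  exact hf ⟨M, hM.isPrime⟩ ((ρ₀_mem_iff f ⟨M, hM.isPrime⟩).mp hmem)

theorem exists_of_ρ₀_eq_zero (f : LocallyConstant (PrimeSpectrum B) A) (hf : ρ₀ f = 0)
    (y : PrimeSpectrum B) : ∃ s : B, s ∉ y.asIdeal ∧ s * algebraMap A B (f y) = 0 := by
  have h := algebraMap_ρ₀ f y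
  rw [hf, map_zero, IsScalarTower.algebraMap_apply A B (Localization.AtPrime y.asIdeal)] at h
  obtain ⟨s, hs⟩ := (IsLocalization.map_eq_zero_iff y.asIdeal.primeCompl _ _).mp h.symm
  exact ⟨s.1, s.2, hs⟩

end Groth.Agent.Lib.R2LeadLCToRing2
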