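import Mathlib
import Groth.Agent.Lib.R2LeadWLocCons
import Groth.Agent.Lib.R2LeadLCToRing2

namespace Groth.Agent.Lib.R2LeadWLocClosed

universe u

open Groth.Agent.Lib.R2LeadLCSpec Groth.Agent.Lib.R2LeadWLocCons Groth.Agent.Lib.R2LeadLCToRing2

section Values

variable {A : Type u} [CommRing A] {Z : Type u} [TopologicalSpace Z] [CompactSpace Z]

/-- a locally constant function with values in `I` lies in `I · LC(Z, A)`. -/
theorem mem_map_of_forall_mem (I : Ideal A) (g : LocallyConstant Z A) (hg : ∀ z, g z ∈ I) :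
    g ∈ I.map (algebraMap A (LocallyConstant Z A)) := by
  classical
  have hfin : (Set.range g).Finite := g.range_finite
  have hU : ∀ a : A, IsClopen (g ⁻¹' {a}) := fun a => g.isLocallyConstant.isClopen_fiber a
  have hsum : g = ∑ a ∈ hfin.toFinset,
      algebraMap A (LocallyConstant Z A) a * LocallyConstant.charFn A (hU a) := by
    refine LocallyConstant.ext fun z => ?_
    have : (∑ a ∈ hfin.toFinset,
        algebraMap A (LocallyConstant Z A) a * LocallyConstant.charFn A (hU a)) z =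
        ∑ a ∈ hfin.toFinset, a * LocallyConstant.charFn A (hU a) z := by
      change LocallyConstant.evalRingHom z _ = _
      rw [map_sum]
      rfl
    rw [this, Finset.sum_eq_single (g z)]
    · rw [charFn_apply_of_mem (hU _) (show z ∈ g ⁻¹' {g z} from rfl), mul_one]
    · intro a _ hne
      rw [charFn_apply_of_notMem (hU a) (fun hc => hne (show g z = a from hc).symm), mul_zero]
    · intro hc
      exact absurd (hfin.mem_toFinset.mpr ⟨z, rfl⟩) hc
  rw [hsum]
  refine Ideal.sum_mem _ fun a ha => ?_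
  obtain ⟨z, rfl⟩ := hfin.mem_toFinset.mp ha
  exact Ideal.mul_mem_right _ _ (Ideal.mem_map_of_mem _ (hg z))

end Values

variable {A : Type u} [CommRing A] (I : Ideal A)

/-- the profinite space -/
abbrev ZI : Type u := ↥(PrimeSpectrum.zeroLocus (R := A) (I : Set A))

/-- the inclusion -/
def hI : C(ZI I, PrimeSpectrum A) := ⟨Subtype.val, continuous_subtype_val⟩

section Prof

variable [CompactSpace (ZI I)] [T2Space (ZI I)] [TotallyDisconnectedSpace (ZI I)]

theorem isClosed_preimage_basicOpen (a : A) :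
    IsClosed (hI I ⁻¹' (PrimeSpectrum.basicOpen a : Set (PrimeSpectrum A))) := by
  apply IsCompact.isClosed
  rw [Subtype.isCompact_iff]
  have : (Subtype.val '' (hI I ⁻¹' (PrimeSpectrum.basicOpen a : Set (PrimeSpectrum A)))) =
      PrimeSpectrum.zeroLocus (I : Set A) ∩ (PrimeSpectrum.basicOpen a : Set (PrimeSpectrum A)) :=
    Subtype.image_preimage_coe (PrimeSpectrum.zeroLocus (I : Set A))
      (PrimeSpectrum.basicOpen a : Set (PrimeSpectrum A))
  rw [this]
  exact (PrimeSpectrum.isCompact_basicOpen a).inter_left (PrimeSpectrum.isClosed_zeroLocus _)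

/-- the ring `B`. -/
abbrev BI : Type u := Bh (hI I)

theorem isWLocal : ProEtW.IsWLocal (PrimeSpectrum (BI I)) :=
  Groth.Agent.Lib.R2LeadWLocCons.isWLocal (hI I) (isClosed_preimage_basicOpen I)

theorem isClosed_singleton_of_mem {x : PrimeSpectrum A} (hx : x ∈ PrimeSpectrum.zeroLocus (I : Set A)) :
    IsClosed ({x} : Set (PrimeSpectrum A)) := by
  have h1 : IsClosed ({(⟨x, hx⟩ : ZI I)} : Set (ZI I)) := isClosed_singleton
  have h2 := (PrimeSpectrum.isClosed_zeroLocus (I : Set A)).isClosedEmbedding_subtypeVal.isClosedMap _ h1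
  rwa [Set.image_singleton] at h2

theorem closedPoints_eq :
    ProEtW.closedPoints (PrimeSpectrum (BI I)) =
      PrimeSpectrum.zeroLocus (I.map (algebraMap A (BI I))) := by
  rw [Groth.Agent.Lib.R2LeadWLocCons.closedPoints_eq]
  ext y
  have hiff : y ∈ PrimeSpectrum.zeroLocus ((I.map (algebraMap A (BI I)) : Ideal (BI I)) : Set (BI I)) ↔
      (σ (hI I) y).1 ∈ PrimeSpectrum.zeroLocus (I : Set A) := by
    rw [σ_fst, PrimeSpectrum.mem_zeroLocus, PrimeSpectrum.mem_zeroLocus, SetLike.coe_subset_coe,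
      SetLike.coe_subset_coe, Ideal.map_le_iff_le_comap]
    rfl
  rw [hiff]
  constructor
  · intro hy
    change (σ (hI I) y).1 = ((σ (hI I) y).2 : PrimeSpectrum A) at hy
    rw [hy]
    exact (σ (hI I) y).2.2
  · intro hy
    have hcl := isClosed_singleton_of_mem I hy
    have hsp := σ_mem (hI I) y
    have := hsp.mem_closure
    rw [hcl.closure_eq] at this
    exact this.symm

omit [CompactSpace (ZI I)] [T2Space (ZI I)] [TotallyDisconnectedSpace (ZI I)] in
theorem comap_mk_mem (y : PrimeSpectrum (A ⧸ I)) :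
    PrimeSpectrum.comap (Ideal.Quotient.mk I) y ∈ PrimeSpectrum.zeroLocus (I : Set A) := by
  have : PrimeSpectrum.comap (Ideal.Quotient.mk I) y ∈
      Set.range (PrimeSpectrum.comap (Ideal.Quotient.mk I)) := ⟨y, rfl⟩
  rw [_root_.range_comap_of_surjective _ _ Ideal.Quotient.mk_surjective, Ideal.mk_ker] at this
  exact this

/-- the map `Spec (A/I) → V(I)`. -/
def κ : C(PrimeSpectrum (A ⧸ I), ZI I) :=
  ⟨fun y => ⟨PrimeSpectrum.comap (Ideal.Quotient.mk I) y, comap_mk_mem I y⟩,
    (PrimeSpectrum.continuous_comap _).subtype_mk _⟩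

theorem κ_surjective : Function.Surjective (κ I) := by
  intro z
  have : z.1 ∈ Set.range (PrimeSpectrum.comap (Ideal.Quotient.mk I)) := by
    rw [_root_.range_comap_of_surjective _ _ Ideal.Quotient.mk_surjective, Ideal.mk_ker]
    exact z.2
  obtain ⟨y, hy⟩ := this
  exact ⟨y, Subtype.ext hy⟩

/-- `LC(V(I), A) → A/I`. -/
noncomputable def r₀ : LocallyConstant (ZI I) A →ₐ[A] (A ⧸ I) :=
  (ρ₀ (A := A) (B := A ⧸ I)).comp (LocallyConstant.comapₐ A (κ I))

theorem r₀_mem_iff (f : LocallyConstant (ZI I) A) (y : PrimeSpectrum (A ⧸ I)) :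
    r₀ I f ∈ y.asIdeal ↔ f (κ I y) ∈ (κ I y).1.asIdeal := by
  rw [r₀, AlgHom.comp_apply, ρ₀_mem_iff]
  rfl

theorem isUnit_r₀ (m : Mh (hI I)) : IsUnit (r₀ I m.1) := by
  apply isUnit_ρ₀
  intro y
  exact m.2 (κ I y)

/-- the retraction `B → A/I`. -/
noncomputable def r : BI I →ₐ[A] (A ⧸ I) :=
  IsLocalization.liftAlgHom (M := Mh (hI I)) (f := r₀ I) (isUnit_r₀ I)

theorem r_algebraMap (f : LocallyConstant (ZI I) A) :
    r I (algebraMap (LocallyConstant (ZI I) A) (BI I) f) = r₀ I f := by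
  rw [r, IsLocalization.liftAlgHom_apply, IsLocalization.lift_eq]
  rfl

theorem r_eq_zero_of_mem {b : BI I} (hb : b ∈ I.map (algebraMap A (BI I))) : r I b = 0 := by
  have h1 : r I b ∈ (I.map (algebraMap A (BI I))).map (r I).toRingHom := Ideal.mem_map_of_mem _ hb
  rw [Ideal.map_map] at h1
  have h2 : (r I).toRingHom.comp (algebraMap A (BI I)) = Ideal.Quotient.mk I := by
    ext a
    exact (r I).commutes a
  rw [h2, Ideal.map_quotient_self] at h1
  exact h1

theorem exists_local (f : LocallyConstant (ZI I) A) (hf : r₀ I f = 0) (z : ZI I) :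
    ∃ g : LocallyConstant (ZI I) A, (∀ z', g z' * f z' ∈ I) ∧ g z ∉ z.1.asIdeal := by
  obtain ⟨y₀, rfl⟩ := κ_surjective I z
  obtain ⟨sbar, hs1, hs2⟩ := exists_of_ρ₀_eq_zero (A := A) (B := A ⧸ I)
    (LocallyConstant.comapₐ A (κ I) f) hf y₀
  obtain ⟨s, rfl⟩ := Ideal.Quotient.mk_surjective sbar
  have hs2' : s * f (κ I y₀) ∈ I := by
    rw [← Ideal.Quotient.eq_zero_iff_mem, map_mul]
    exact hs2
  have hU : IsClopen (f ⁻¹' {f (κ I y₀)}) := f.isLocallyConstant.isClopen_fiber _
  refine ⟨LocallyConstant.const _ s * LocallyConstant.charFn A hU, fun z' => ?_, ?_⟩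
  · change s * LocallyConstant.charFn A hU z' * f z' ∈ I
    by_cases hz' : z' ∈ f ⁻¹' {f (κ I y₀)}
    · rw [charFn_apply_of_mem hU hz', mul_one, show f z' = f (κ I y₀) from hz']
      exact hs2'
    · rw [charFn_apply_of_notMem hU hz', mul_zero, zero_mul]
      exact I.zero_mem
  · change s * LocallyConstant.charFn A hU (κ I y₀) ∉ _
    rw [charFn_apply_of_mem hU (show κ I y₀ ∈ f ⁻¹' {f (κ I y₀)} from rfl), mul_one]
    exact hs1

theorem mem_of_r_eq_zero (b : BI I) (hb : r I b = 0) : b ∈ I.map (algebraMap A (BI I)) := by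
  obtain ⟨f, m, rfl⟩ := IsLocalization.exists_mk'_eq (Mh (hI I)) b
  have hf : r₀ I f = 0 := by
    rw [← r_algebraMap, ← IsLocalization.mk'_spec (BI I) f m, map_mul, hb, zero_mul]
  -- the ideal of multipliers
  let 𝔞 : Ideal (LocallyConstant (ZI I) A) :=
    { carrier := {g | ∀ z', g z' * f z' ∈ I}
      add_mem' := by
        intro g g' hg hg' z'
        change (g z' + g' z') * f z' ∈ I
        rw [add_mul]
        exact I.add_mem (hg z') (hg' z')
      zero_mem' := by
        intro z'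
        change (0 : A) * f z' ∈ I
        rw [zero_mul]
        exact I.zero_mem
      smul_mem' := by
        intro c g hg z'
        change (c z' * g z') * f z' ∈ I
        rw [mul_assoc]
        exact I.mul_mem_left _ (hg z') }
  have htop : 𝔞.map (algebraMap (LocallyConstant (ZI I) A) (BI I)) = ⊤ := by
    by_contra hne
    obtain ⟨𝔪, h𝔪, hle⟩ := Ideal.exists_le_maximal _ hne
    let y : PrimeSpectrum (BI I) := ⟨𝔪, h𝔪.isPrime⟩
    have hycl : IsClosed ({y} : Set (PrimeSpectrum (BI I))) :=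
      (PrimeSpectrum.isClosed_singleton_iff_isMaximal y).mpr h𝔪
    have hy1 := (Groth.Agent.Lib.R2LeadWLocCons.isClosed_singleton_iff (hI I) y).mp hycl
    obtain ⟨g, hg𝔞, hgz⟩ := exists_local I f hf (σ (hI I) y).2
    have hg𝔪 : algebraMap _ (BI I) g ∈ 𝔪 := hle (Ideal.mem_map_of_mem _ hg𝔞)
    have hgy : g ∈ (PrimeSpectrum.comap (algebraMap (LocallyConstant (ZI I) A) (BI I)) y).asIdeal := hg𝔪
    have hcomap : PrimeSpectrum.comap (algebraMap (LocallyConstant (ZI I) A) (BI I)) y =
        homeo (σ (hI I) y) := by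
      rw [σ, Homeomorph.apply_symm_apply]
    rw [hcomap, homeo_apply, mem_Ψ, hy1] at hgy
    exact hgz hgy
  have h1 : (1 : BI I) ∈ 𝔞.map (algebraMap (LocallyConstant (ZI I) A) (BI I)) := by
    rw [htop]
    trivial
  rw [IsLocalization.mem_map_algebraMap_iff (Mh (hI I))] at h1
  obtain ⟨⟨g, m'⟩, hgm⟩ := h1
  rw [one_mul, IsLocalization.eq_iff_exists (Mh (hI I))] at hgm
  obtain ⟨c', hc'⟩ := hgm
  -- the element `c' * g = c' * m'` lies in both
  have hmem𝔞 : c'.1 * g.1 ∈ 𝔞 := 𝔞.mul_mem_left _ g.2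
  have hmemM : c'.1 * g.1 ∈ Mh (hI I) := by
    rw [← hc']
    exact mul_mem c'.2 m'.2
  have hval : ∀ z', (c'.1 * g.1 * f) z' ∈ I := fun z' => hmem𝔞 z'
  have h2 : algebraMap (LocallyConstant (ZI I) A) (BI I) (c'.1 * g.1 * f) ∈
      I.map (algebraMap A (BI I)) := by
    have := Ideal.mem_map_of_mem (algebraMap (LocallyConstant (ZI I) A) (BI I))
      (mem_map_of_forall_mem I _ hval)
    rwa [Ideal.map_map, ← IsScalarTower.algebraMap_eq] at this
  have hu1 : IsUnit (algebraMap (LocallyConstant (ZI I) A) (BI I) (c'.1 * g.1)) :=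
    IsLocalization.map_units _ (⟨_, hmemM⟩ : Mh (hI I))
  have hu2 : IsUnit (algebraMap (LocallyConstant (ZI I) A) (BI I) m.1) :=
    IsLocalization.map_units _ m
  rw [map_mul] at h2
  have h3 : algebraMap (LocallyConstant (ZI I) A) (BI I) f ∈ I.map (algebraMap A (BI I)) := by
    have := Ideal.mul_mem_left _ (↑hu1.unit⁻¹ : BI I) h2
    rwa [← mul_assoc, IsUnit.val_inv_mul, one_mul] at this
  have h4 : IsLocalization.mk' (BI I) f m =
      algebraMap (LocallyConstant (ZI I) A) (BI I) f * ↑hu2.unit⁻¹ := by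
    rw [← IsLocalization.mk'_spec (BI I) f m, mul_assoc, IsUnit.mul_val_inv, mul_one]
  rw [h4]
  exact Ideal.mul_mem_right _ _ h3

theorem bijective_quotientMap :
    Function.Bijective (Ideal.quotientMap (I.map (algebraMap A (BI I))) (algebraMap A (BI I))
      Ideal.le_comap_map) := by
  constructor
  · apply Ideal.quotientMap_injective'
    intro a ha
    have := r_eq_zero_of_mem I (Ideal.mem_comap.mp ha)
    rw [AlgHom.commutes] at this
    exact Ideal.Quotient.eq_zero_iff_mem.mp this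
  · intro bbar
    obtain ⟨b, rfl⟩ := Ideal.Quotient.mk_surjective bbar
    obtain ⟨a, ha⟩ := Ideal.Quotient.mk_surjective (r I b)
    refine ⟨Ideal.Quotient.mk I a, ?_⟩
    rw [Ideal.quotientMap_mk, Ideal.Quotient.eq]
    apply mem_of_r_eq_zero
    rw [map_sub, AlgHom.commutes]
    change Ideal.Quotient.mk I a - r I b = 0
    rw [ha, sub_self]

end Prof

theorem main (hprof : ProEtW.IsProfinite (PrimeSpectrum.zeroLocus (R := A) I)) :
    ∃ (B : Type u) (_ : CommRing B) (_ : Algebra A B),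
      EtPBC.IsIndZariski A B ∧ ProEtW.IsWLocal (PrimeSpectrum B) ∧
      ProEtW.closedPoints (PrimeSpectrum B) = PrimeSpectrum.zeroLocus (I.map (algebraMap A B)) ∧
      Function.Bijective (Ideal.quotientMap (I.map (algebraMap A B)) (algebraMap A B)
        Ideal.le_comap_map) := by
  obtain ⟨h1, h2, h3⟩ := hprof
  haveI : CompactSpace (ZI I) := h1
  haveI : T2Space (ZI I) := h2
  haveI : TotallyDisconnectedSpace (ZI I) := h3
  exact ⟨BI I, inferInstance, inferInstance, Groth.Agent.Lib.R2LeadWLocCons.isIndZariski (hI I), isWLocal I,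
    closedPoints_eq I, bijective_quotientMap I⟩

end Groth.Agent.Lib.R2LeadWLocClosed
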