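import Mathlib
import Groth.Agent.S0705
import Groth.Agent.S0701
import Groth.Agent.Lib.Helper10ProCons

namespace Groth.Agent.Lib.R2LeadWLocAlgRes

universe u

variable (A B : Type u) [CommRing A] [CommRing B] [Algebra A B]

theorem isMaximal_of_mem (I : Ideal A)
    (hI0 : PrimeSpectrum.zeroLocus (R := A) I = ProEtW.closedPoints (PrimeSpectrum A))
    (h : ProEtW.AlgebraicResidueExtensions A B) (q : PrimeSpectrum B)
    (hq : q ∈ PrimeSpectrum.zeroLocus (R := B) (I.map (algebraMap A B))) : q.asIdeal.IsMaximal := by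
  have hle : I ≤ q.asIdeal.comap (algebraMap A B) := by
    rw [← Ideal.map_le_iff_le_comap]
    exact hq
  have hp : (PrimeSpectrum.comap (algebraMap A B) q) ∈ PrimeSpectrum.zeroLocus (R := A) I := hle
  rw [hI0] at hp
  have hpmax : (q.asIdeal.comap (algebraMap A B)).IsMaximal :=
    (PrimeSpectrum.isClosed_singleton_iff_isMaximal _).mp hp
  have hfield : IsField (A ⧸ q.asIdeal.comap (algebraMap A B)) :=
    (Ideal.Quotient.maximal_ideal_iff_isField_quotient _).mp hpmax
  haveI := h q.asIdeal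
  letI : Field (A ⧸ q.asIdeal.comap (algebraMap A B)) := hfield.toField
  haveI : Algebra.IsIntegral (A ⧸ q.asIdeal.comap (algebraMap A B)) (B ⧸ q.asIdeal) :=
    Algebra.IsAlgebraic.isIntegral
  exact Ideal.Quotient.maximal_of_isField _ (isField_of_isIntegral_of_isField' hfield)

theorem isProfinite_zeroLocus (J : Ideal B)
    (hJ : ∀ q : PrimeSpectrum B, q ∈ PrimeSpectrum.zeroLocus (R := B) J → q.asIdeal.IsMaximal) :
    ProEtW.IsProfinite (PrimeSpectrum.zeroLocus (R := B) J) := by
  have hmax : ∀ P : Ideal (B ⧸ J), P.IsPrime → P.IsMaximal := by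
    intro P hP
    have h1 : (PrimeSpectrum.comap (Ideal.Quotient.mk J) ⟨P, hP⟩) ∈ PrimeSpectrum.zeroLocus (R := B) J := by
      have : PrimeSpectrum.comap (Ideal.Quotient.mk J) ⟨P, hP⟩ ∈
          Set.range (PrimeSpectrum.comap (Ideal.Quotient.mk J)) := ⟨_, rfl⟩
      rw [_root_.range_comap_of_surjective _ _ Ideal.Quotient.mk_surjective, Ideal.mk_ker] at this
      exact this
    have h2 : (P.comap (Ideal.Quotient.mk J)).IsMaximal := hJ _ h1
    have h3 := Ideal.map_comap_of_surjective _ Ideal.Quotient.mk_surjective P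
    rw [← h3]
    refine (Ideal.map_eq_top_or_isMaximal_of_surjective _ Ideal.Quotient.mk_surjective h2).resolve_left ?_
    rw [h3]
    exact hP.ne_top
  haveI : T2Space (PrimeSpectrum (B ⧸ J)) := Groth.Agent.S0701.t2Space_of_forall_isMaximal hmax
  haveI : TotallyDisconnectedSpace (PrimeSpectrum (B ⧸ J)) := inferInstance
  have hemb := PrimeSpectrum.isClosedEmbedding_comap_of_surjective (B ⧸ J) _
    (Ideal.Quotient.mk_surjective (I := J))
  have hrange : Set.range (PrimeSpectrum.comap (Ideal.Quotient.mk J)) =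
      PrimeSpectrum.zeroLocus (R := B) J := by
    rw [_root_.range_comap_of_surjective _ _ Ideal.Quotient.mk_surjective, Ideal.mk_ker]
  let e : PrimeSpectrum (B ⧸ J) ≃ₜ ↥(PrimeSpectrum.zeroLocus (R := B) (J : Set B)) :=
    hemb.isEmbedding.toHomeomorph.trans (Homeomorph.setCongr hrange)
  exact ⟨e.compactSpace, e.t2Space, e.totallyDisconnectedSpace⟩

theorem main (hA : ProEtW.IsWLocal (PrimeSpectrum A)) (I : Ideal A) (hI : I.IsRadical)
    (hI0 : PrimeSpectrum.zeroLocus (R := A) I = ProEtW.closedPoints (PrimeSpectrum A))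
    (h : ProEtW.AlgebraicResidueExtensions A B) :
    PrimeSpectrum.zeroLocus (R := B) (I.map (algebraMap A B)) ⊆ ProEtW.closedPoints (PrimeSpectrum B) ∧
    ∃ (C : Type u) (_ : CommRing C) (_ : Algebra B C) (_ : Algebra A C) (_ : IsScalarTower A B C),
      EtPBC.IsIndZariski B C ∧
      Function.Bijective (Ideal.quotientMap ((I.map (algebraMap A B)).map (algebraMap B C))
        (algebraMap B C) Ideal.le_comap_map) ∧
      ProEtW.IsWLocal (PrimeSpectrum C) ∧
      ProEtW.IsWLocalMap (PrimeSpectrum.comap (algebraMap A C)) ∧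
      ProEtW.closedPoints (PrimeSpectrum C) =
        PrimeSpectrum.comap (algebraMap A C) ⁻¹' ProEtW.closedPoints (PrimeSpectrum A) := by
  have hmax := isMaximal_of_mem A B I hI0 h
  refine ⟨fun q hq => (PrimeSpectrum.isClosed_singleton_iff_isMaximal q).mpr (hmax q hq), ?_⟩
  obtain ⟨C, _, _, hind, hW, hcl, hbij⟩ := Groth.Agent.S0705.result B (I.map (algebraMap A B))
    (isProfinite_zeroLocus B _ hmax)
  letI : Algebra A C := ((algebraMap B C).comp (algebraMap A B)).toAlgebra
  haveI : IsScalarTower A B C := IsScalarTower.of_algebraMap_eq (fun _ => rfl)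
  have key : ∀ y : PrimeSpectrum C, y ∈ ProEtW.closedPoints (PrimeSpectrum C) ↔
      PrimeSpectrum.comap (algebraMap A C) y ∈ ProEtW.closedPoints (PrimeSpectrum A) := by
    intro y
    rw [hcl, ← hI0, PrimeSpectrum.mem_zeroLocus, PrimeSpectrum.mem_zeroLocus, SetLike.coe_subset_coe,
      SetLike.coe_subset_coe, Ideal.map_map, ← IsScalarTower.algebraMap_eq, Ideal.map_le_iff_le_comap]
    rfl
  refine ⟨C, inferInstance, inferInstance, inferInstance, inferInstance, hind, hbij, hW,
    ⟨Groth.Agent.Lib.Helper10.ProCons.isSpectralMap_comap _, fun y hy => (key y).mp hy⟩, ?_⟩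
  ext y
  exact key y

end Groth.Agent.Lib.R2LeadWLocAlgRes
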