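import Mathlib
import Groth.Agent.S0696
import Groth.Agent.S0737
import Groth.Agent.S0738
import Groth.Agent.S0699
import Groth.Agent.Lib.R2LeadIndZarWLoc
import Groth.Agent.Lib.R2LeadIndZarB

namespace Groth.Agent.Lib.R2LeadIndZarRetr

universe u

open Groth.Agent.Lib.Helper10.Pi0

/-- a retract of a projective compact Hausdorff space is extremally disconnected. -/
theorem extremallyDisconnected_of_retract {T T' : Type u} [TopologicalSpace T] [TopologicalSpace T']
    [CompactSpace T] [T2Space T] [CompactSpace T'] [T2Space T'] [ExtremallyDisconnected T]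
    (i : T' → T) (p : T → T') (hi : Continuous i) (hp : Continuous p) (hpi : ∀ x, p (i x) = x) :
    ExtremallyDisconnected T' := by
  apply CompactT2.Projective.extremallyDisconnected
  intro Y Z _ _ _ _ _ _ f g hf hg hsurj
  obtain ⟨h, hh, hgh⟩ := CompactT2.ExtremallyDisconnected.projective (A := T)
    (hf.comp hp) hg hsurj
  refine ⟨h ∘ i, hh.comp hi, ?_⟩
  funext x
  have := congrFun hgh (i x)
  simp only [Function.comp_apply] at this ⊢
  rw [this, hpi]

variable (A : Type u) [CommRing A]

instance : T2Space (ConnectedComponents (PrimeSpectrum A)) := t2Space_connectedComponents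

theorem forward (h : ProEtW.HasIndZariskiRetractions A) :
    ProEtW.IsWLocal (PrimeSpectrum A) ∧
      ExtremallyDisconnected (_root_.ConnectedComponents (PrimeSpectrum A)) := by
  obtain ⟨B, _, _, hff, hind, hW, hext⟩ := Groth.Agent.S0696.result A
  obtain ⟨r⟩ := h B hff hind
  have hr : Function.Surjective r.toRingHom := fun a => ⟨algebraMap A B a, r.commutes a⟩
  have hemb := PrimeSpectrum.isClosedEmbedding_comap_of_surjective A r.toRingHom hr
  constructor
  · -- closed subset of a w-local space
    have h1 := Groth.Agent.S0738.result (PrimeSpectrum B) hW _ hemb.isClosed_range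
    exact Groth.Agent.Lib.R2LeadIndZarWLoc.isWLocal_of_homeomorph hemb.isEmbedding.toHomeomorph h1
  · haveI := hext
    refine extremallyDisconnected_of_retract
      (T := ConnectedComponents (PrimeSpectrum B)) (T' := ConnectedComponents (PrimeSpectrum A))
      (PrimeSpectrum.continuous_comap r.toRingHom).connectedComponentsMap
      (PrimeSpectrum.continuous_comap (algebraMap A B)).connectedComponentsMap
      (Continuous.connectedComponentsMap_continuous _)
      (Continuous.connectedComponentsMap_continuous _) ?_
    intro a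
    obtain ⟨x, rfl⟩ := ConnectedComponents.surjective_coe a
    rw [Continuous.connectedComponentsMap_mk, Continuous.connectedComponentsMap_mk]
    congr 1
    rw [← PrimeSpectrum.comap_comp_apply]
    have : r.toRingHom.comp (algebraMap A B) = RingHom.id A := RingHom.ext fun a => r.commutes a
    rw [this]
    rfl

end Groth.Agent.Lib.R2LeadIndZarRetr

namespace Groth.Agent.Lib.R2LeadIndZarRetr

universe u

open Groth.Agent.Lib.Helper10.Pi0

section Aux

variable {A B : Type u} [CommRing A] [CommRing B] [Algebra A B]

/-- identifying local rings gives algebraic (indeed trivial) residue field extensions. -/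
theorem algebraicResidueExtensions_of_identifiesLocalRings (h : EtPBC.IdentifiesLocalRings A B) :
    ProEtW.AlgebraicResidueExtensions A B := by
  intro q hq
  refine ⟨fun bbar => ?_⟩
  obtain ⟨b, rfl⟩ := Ideal.Quotient.mk_surjective bbar
  set p := q.comap (algebraMap A B) with hp
  obtain ⟨x, hx⟩ := (h ⟨q, hq⟩).2 (algebraMap B (Localization.AtPrime q) b)
  obtain ⟨a, s, rfl⟩ := IsLocalization.exists_mk'_eq p.primeCompl x
  rw [Localization.localRingHom_mk', IsLocalization.mk'_eq_iff_eq_mul, ← map_mul,
    IsLocalization.eq_iff_exists q.primeCompl] at hx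
  obtain ⟨u, hu⟩ := hx
  have hmem : algebraMap A B a - b * algebraMap A B s.1 ∈ q := by
    have h0 : u.1 * (algebraMap A B a - b * algebraMap A B s.1) = 0 := by
      rw [mul_sub, sub_eq_zero]
      exact hu
    have := hq.mem_or_mem (h0 ▸ q.zero_mem : u.1 * (algebraMap A B a - b * algebraMap A B s.1) ∈ q)
    exact this.resolve_left u.2
  refine ⟨Polynomial.C (Ideal.Quotient.mk p s.1) * Polynomial.X - Polynomial.C (Ideal.Quotient.mk p a),
    ?_, ?_⟩
  · intro h0
    have := congrArg (fun P => Polynomial.coeff P 1) h0
    simp only [Polynomial.coeff_sub, Polynomial.coeff_C_mul, Polynomial.coeff_X_one, mul_one,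
      Polynomial.coeff_C_succ, sub_zero, Polynomial.coeff_zero] at this
    rw [Ideal.Quotient.eq_zero_iff_mem] at this
    exact s.2 this
  · rw [map_sub, map_mul, Polynomial.aeval_C, Polynomial.aeval_X, Polynomial.aeval_C, sub_eq_zero]
    change Ideal.Quotient.mk q (algebraMap A B s.1) * Ideal.Quotient.mk q b =
      Ideal.Quotient.mk q (algebraMap A B a)
    rw [← map_mul, Ideal.Quotient.eq]
    have : algebraMap A B s.1 * b - algebraMap A B a = -(algebraMap A B a - b * algebraMap A B s.1) := by
      ring
    rw [this]
    exact q.neg_mem hmem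

theorem bij_of_eq₂ {A C : Type u} [CommRing A] [CommRing C] [Algebra A C]
    (h1 : EtPBC.IdentifiesLocalRings A C) (q : PrimeSpectrum C)
    (φ' : A →+* C) (hφ' : φ' = algebraMap A C) :
    Function.Bijective (Localization.localRingHom (q.asIdeal.comap φ') q.asIdeal φ' rfl) := by
  subst hφ'
  exact h1 q

theorem bij_of_eq₃ {A C : Type u} [CommRing A] [CommRing C] [Algebra A C]
    (q : PrimeSpectrum C) (φ' : A →+* C) (hφ' : φ' = algebraMap A C)
    (h : Function.Bijective (Localization.localRingHom (q.asIdeal.comap φ') q.asIdeal φ' rfl)) :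
    Function.Bijective (Localization.localRingHom (q.asIdeal.comap (algebraMap A C)) q.asIdeal
      (algebraMap A C) rfl) := by
  subst hφ'
  exact h

theorem identifiesLocalRings_comp {C : Type u} [CommRing C] [Algebra B C] [Algebra A C]
    [IsScalarTower A B C] (h1 : EtPBC.IdentifiesLocalRings A B)
    (h2 : EtPBC.IdentifiesLocalRings B C) : EtPBC.IdentifiesLocalRings A C := by
  intro r
  have hB := h1 ⟨r.asIdeal.comap (algebraMap B C), Ideal.comap_isPrime _ _⟩
  have hC := h2 r
  have hcomp := Localization.localRingHom_comp
    (I := r.asIdeal.comap ((algebraMap B C).comp (algebraMap A B)))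
    (r.asIdeal.comap (algebraMap B C)) r.asIdeal (algebraMap A B) rfl
    (algebraMap B C) rfl
  apply bij_of_eq₃ r _ (IsScalarTower.algebraMap_eq A B C).symm
  rw [hcomp, RingHom.coe_comp]
  exact hC.comp hB

end Aux

section WLocal

variable {R : Type u} [CommRing R]

theorem exists_closed_mk_eq (hR : ProEtW.IsWLocal (PrimeSpectrum R)) (x : PrimeSpectrum R) :
    ∃ y : PrimeSpectrum R, IsClosed ({y} : Set (PrimeSpectrum R)) ∧
      (ConnectedComponents.mk y : ConnectedComponents (PrimeSpectrum R)) = ConnectedComponents.mk x := by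
  obtain ⟨y, ⟨hy, hxy⟩, -⟩ := hR.2.2 x
  exact ⟨y, hy, mk_eq_of_specializes _ hxy⟩

end WLocal

variable (A : Type u) [CommRing A]

set_option maxHeartbeats 800000 in
theorem backward (hA : ProEtW.IsWLocal (PrimeSpectrum A))
    (hext : ExtremallyDisconnected (_root_.ConnectedComponents (PrimeSpectrum A))) :
    ProEtW.HasIndZariskiRetractions A := by
  intro B _ _ hff hind
  classical
  -- the ideal of closed points
  let I : Ideal A := PrimeSpectrum.vanishingIdeal (ProEtW.closedPoints (PrimeSpectrum A))
  have hI : I.IsRadical := PrimeSpectrum.isRadical_vanishingIdeal _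
  have hI0 : PrimeSpectrum.zeroLocus (R := A) I = ProEtW.closedPoints (PrimeSpectrum A) := by
    rw [PrimeSpectrum.zeroLocus_vanishingIdeal_eq_closure]
    exact IsClosed.closure_eq hA.2.1
  have hAB : EtPBC.IdentifiesLocalRings A B :=
    Groth.Agent.Lib.R2LeadIndZarLoc.identifiesLocalRings_of_isIndZariski hind
  obtain ⟨-, C, _, _, _, _, hBCind, hbij, hCW, hACmap, hCcl⟩ :=
    Groth.Agent.S0737.result A B hA I hI hI0 (algebraicResidueExtensions_of_identifiesLocalRings hAB)
  have hBC : EtPBC.IdentifiesLocalRings B C :=
    Groth.Agent.Lib.R2LeadIndZarLoc.identifiesLocalRings_of_isIndZariski hBCind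
  have hAC : EtPBC.IdentifiesLocalRings A C := identifiesLocalRings_comp hAB hBC
  -- surjectivity of Spec C → Spec A on closed points
  have hsurjC : ∀ x : PrimeSpectrum A, IsClosed ({x} : Set (PrimeSpectrum A)) →
      ∃ y : PrimeSpectrum C, PrimeSpectrum.comap (algebraMap A C) y = x := by
    intro x hx
    obtain ⟨q, rfl⟩ := PrimeSpectrum.comap_surjective_of_faithfullyFlat (A := A) (B := B) x
    set J : Ideal B := I.map (algebraMap A B) with hJ
    have hqJ : J ≤ q.asIdeal := by
      rw [hJ, Ideal.map_le_iff_le_comap]
      have : PrimeSpectrum.comap (algebraMap A B) q ∈ PrimeSpectrum.zeroLocus (R := A) I := by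
        rw [hI0]
        exact hx
      exact this
    -- lift along the bijection `B/J → C/JC`
    let e := RingEquiv.ofBijective _ hbij
    have hq' : q ∈ Set.range (PrimeSpectrum.comap (Ideal.Quotient.mk J)) := by
      rw [_root_.range_comap_of_surjective _ _ Ideal.Quotient.mk_surjective, Ideal.mk_ker]
      exact hqJ
    obtain ⟨qbar, rfl⟩ := hq'
    let ybar : PrimeSpectrum (C ⧸ J.map (algebraMap B C)) :=
      PrimeSpectrum.comap (e.symm : (C ⧸ J.map (algebraMap B C)) →+* (B ⧸ J)) qbar
    refine ⟨PrimeSpectrum.comap (Ideal.Quotient.mk (J.map (algebraMap B C))) ybar, ?_⟩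
    rw [IsScalarTower.algebraMap_eq A B C, PrimeSpectrum.comap_comp_apply]
    congr 1
    rw [← PrimeSpectrum.comap_comp_apply, ← PrimeSpectrum.comap_comp_apply]
    have hcomp : ((e.symm : (C ⧸ J.map (algebraMap B C)) →+* (B ⧸ J)).comp
        ((Ideal.Quotient.mk (J.map (algebraMap B C))).comp (algebraMap B C))) =
        Ideal.Quotient.mk J := by
      ext b
      change e.symm (Ideal.Quotient.mk _ (algebraMap B C b)) = _
      have : Ideal.Quotient.mk (J.map (algebraMap B C)) (algebraMap B C b) =
          e (Ideal.Quotient.mk J b) := rfl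
      rw [this, RingEquiv.symm_apply_apply]
    rw [← hcomp]
  -- the map on connected components
  let p : ConnectedComponents (PrimeSpectrum C) → ConnectedComponents (PrimeSpectrum A) :=
    (PrimeSpectrum.continuous_comap (algebraMap A C)).connectedComponentsMap
  have hp : Continuous p := Continuous.connectedComponentsMap_continuous _
  have hpsurj : Function.Surjective p := by
    intro a
    obtain ⟨x, rfl⟩ := ConnectedComponents.surjective_coe a
    obtain ⟨x', hx'c, hx'⟩ := exists_closed_mk_eq hA x
    obtain ⟨y, hy⟩ := hsurjC x' hx'c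
    refine ⟨ConnectedComponents.mk y, ?_⟩
    change (PrimeSpectrum.continuous_comap (algebraMap A C)).connectedComponentsMap
      (ConnectedComponents.mk y) = _
    rw [Continuous.connectedComponentsMap_mk, hy, hx']
  haveI := hext
  obtain ⟨s, hs, hps⟩ := CompactT2.ExtremallyDisconnected.projective
    (A := ConnectedComponents (PrimeSpectrum A)) continuous_id hp hpsurj
  have hps' : ∀ a, p (s a) = a := fun a => congrFun hps a
  have hT : IsClosed (Set.range s) := (isCompact_range hs).isClosed
  obtain ⟨D, _, _, hCDind, hCDsurj, hCDemb, hCDrange⟩ :=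
    Groth.Agent.Lib.R2LeadIndZarB.main (A := C) (Set.range s) hT
  letI : Algebra A D := ((algebraMap C D).comp (algebraMap A C)).toAlgebra
  haveI : IsScalarTower A C D := IsScalarTower.of_algebraMap_eq (fun _ => rfl)
  have hCD : EtPBC.IdentifiesLocalRings C D :=
    Groth.Agent.Lib.R2LeadIndZarLoc.identifiesLocalRings_of_isIndZariski hCDind
  have hAD : EtPBC.IdentifiesLocalRings A D := identifiesLocalRings_comp hAC hCD
  have hemb := PrimeSpectrum.isClosedEmbedding_comap_of_surjective D (algebraMap C D) hCDsurj
  have hDW : ProEtW.IsWLocal (PrimeSpectrum D) := by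
    have h1 := Groth.Agent.S0738.result (PrimeSpectrum C) hCW _ hemb.isClosed_range
    exact Groth.Agent.Lib.R2LeadIndZarWLoc.isWLocal_of_homeomorph hemb.isEmbedding.toHomeomorph h1
  have hcomapAD : ∀ y : PrimeSpectrum D, PrimeSpectrum.comap (algebraMap A D) y =
      PrimeSpectrum.comap (algebraMap A C) (PrimeSpectrum.comap (algebraMap C D) y) := by
    intro y
    rw [← PrimeSpectrum.comap_comp_apply, ← IsScalarTower.algebraMap_eq]
  have hADmap : ProEtW.IsWLocalMap (PrimeSpectrum.comap (algebraMap A D)) := by
    refine ⟨Groth.Agent.Lib.Helper10.ProCons.isSpectralMap_comap _, fun y hy => ?_⟩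
    rw [hcomapAD]
    apply hACmap.2
    have := hemb.isClosedMap _ hy
    rwa [Set.image_singleton] at this
  have hπ : Function.Bijective
      (PrimeSpectrum.continuous_comap (algebraMap A D)).connectedComponentsMap := by
    constructor
    · intro a b hab
      obtain ⟨y₁, rfl⟩ := ConnectedComponents.surjective_coe a
      obtain ⟨y₂, rfl⟩ := ConnectedComponents.surjective_coe b
      rw [Continuous.connectedComponentsMap_mk, Continuous.connectedComponentsMap_mk,
        hcomapAD, hcomapAD] at hab
      set c₁ := PrimeSpectrum.comap (algebraMap C D) y₁ with hc₁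
      set c₂ := PrimeSpectrum.comap (algebraMap C D) y₂ with hc₂
      have hc₁T : ConnectedComponents.mk c₁ ∈ Set.range s := by
        have : c₁ ∈ Set.range (PrimeSpectrum.comap (algebraMap C D)) := ⟨y₁, rfl⟩
        rw [hCDrange] at this
        exact this
      have hc₂T : ConnectedComponents.mk c₂ ∈ Set.range s := by
        have : c₂ ∈ Set.range (PrimeSpectrum.comap (algebraMap C D)) := ⟨y₂, rfl⟩
        rw [hCDrange] at this
        exact this
      obtain ⟨a₁, ha₁⟩ := hc₁T
      obtain ⟨a₂, ha₂⟩ := hc₂T
      have hp₁ : p (ConnectedComponents.mk c₁) =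
          ConnectedComponents.mk (PrimeSpectrum.comap (algebraMap A C) c₁) :=
        Continuous.connectedComponentsMap_mk _ _
      have hp₂ : p (ConnectedComponents.mk c₂) =
          ConnectedComponents.mk (PrimeSpectrum.comap (algebraMap A C) c₂) :=
        Continuous.connectedComponentsMap_mk _ _
      have ha : a₁ = a₂ := by
        rw [← hps' a₁, ← hps' a₂, ha₁, ha₂, hp₁, hp₂]
        exact hab
      have hmk : (ConnectedComponents.mk c₁ : ConnectedComponents (PrimeSpectrum C)) =
          ConnectedComponents.mk c₂ := by
        rw [← ha₁, ← ha₂, ha]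
      -- the connected component of `c₁` lies in the range
      have hK : connectedComponent c₁ ⊆ Set.range (PrimeSpectrum.comap (algebraMap C D)) := by
        intro c hc
        rw [hCDrange]
        change ConnectedComponents.mk c ∈ Set.range s
        rw [ConnectedComponents.coe_eq_coe'.mpr hc]
        exact ⟨a₁, ha₁⟩
      have hpre : IsPreconnected ((PrimeSpectrum.comap (algebraMap C D)) ⁻¹' connectedComponent c₁) := by
        rw [← hemb.isEmbedding.isInducing.isPreconnected_image, Set.image_preimage_eq_of_subset hK]
        exact isPreconnected_connectedComponent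
      have hy₁ : y₁ ∈ (PrimeSpectrum.comap (algebraMap C D)) ⁻¹' connectedComponent c₁ :=
        mem_connectedComponent
      have hy₂ : y₂ ∈ (PrimeSpectrum.comap (algebraMap C D)) ⁻¹' connectedComponent c₁ := by
        change c₂ ∈ connectedComponent c₁
        rw [← ConnectedComponents.coe_eq_coe']
        exact hmk.symm
      have := hpre.subset_connectedComponent hy₁ hy₂
      exact (ConnectedComponents.coe_eq_coe'.mpr this).symm
    · intro a
      obtain ⟨c, hc⟩ := ConnectedComponents.surjective_coe (s a)
      have hcr : c ∈ Set.range (PrimeSpectrum.comap (algebraMap C D)) := by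
        rw [hCDrange]
        change ConnectedComponents.mk c ∈ Set.range s
        rw [hc]
        exact ⟨a, rfl⟩
      obtain ⟨y, rfl⟩ := hcr
      refine ⟨ConnectedComponents.mk y, ?_⟩
      rw [Continuous.connectedComponentsMap_mk, hcomapAD]
      have hp₁ : p (ConnectedComponents.mk (PrimeSpectrum.comap (algebraMap C D) y)) =
          ConnectedComponents.mk (PrimeSpectrum.comap (algebraMap A C)
            (PrimeSpectrum.comap (algebraMap C D) y)) :=
        Continuous.connectedComponentsMap_mk _ _
      rw [← hp₁, hc, hps']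
  have hbijAD : Function.Bijective (algebraMap A D) :=
    Groth.Agent.S0699.result A D hAD hA hDW hADmap hπ
  let e : A ≃ₐ[A] D := AlgEquiv.ofBijective (Algebra.ofId A D) hbijAD
  exact ⟨e.symm.toAlgHom.comp ((IsScalarTower.toAlgHom A C D).comp (IsScalarTower.toAlgHom A B C))⟩

theorem main :
    ProEtW.HasIndZariskiRetractions A ↔
      (ProEtW.IsWLocal (PrimeSpectrum A) ∧
        ExtremallyDisconnected (_root_.ConnectedComponents (PrimeSpectrum A))) :=
  ⟨forward A, fun h => backward A h.1 h.2⟩

end Groth.Agent.Lib.R2LeadIndZarRetr
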