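import Mathlib
import Groth.Agent.Lib.R2LeadWLocalization
import Groth.Agent.Lib.R2LeadIndZarRetr
import Groth.Agent.S0699

namespace Groth.Agent.Lib.R2LeadIdLocCover

universe u

open Groth.Agent.Lib.R2LeadWLocCons Groth.Agent.Lib.R2LeadLCSpec Groth.Agent.Lib.Helper10.Spectral
  Groth.Agent.Lib.R2LeadWLocalization Groth.Agent.Lib.R2LeadIndZarRetr

/-- cancellation for "identifies local rings". -/
theorem identifiesLocalRings_of_comp_left {A C B : Type u} [CommRing A] [CommRing C] [CommRing B]
    [Algebra A C] [Algebra C B] [Algebra A B] [IsScalarTower A C B]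
    (hAC : EtPBC.IdentifiesLocalRings A C) (hAB : EtPBC.IdentifiesLocalRings A B) :
    EtPBC.IdentifiesLocalRings C B := by
  intro q
  have hA := bij_of_eq₂ hAB q ((algebraMap C B).comp (algebraMap A C))
    (IsScalarTower.algebraMap_eq A C B).symm
  have hC := hAC ⟨q.asIdeal.comap (algebraMap C B), Ideal.comap_isPrime _ _⟩
  have hcomp := Localization.localRingHom_comp
    (I := q.asIdeal.comap ((algebraMap C B).comp (algebraMap A C)))
    (q.asIdeal.comap (algebraMap C B)) q.asIdeal (algebraMap A C) rfl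
    (algebraMap C B) rfl
  rw [hcomp, RingHom.coe_comp] at hA
  exact (Function.Bijective.of_comp_iff _ hC).mp hA

variable (A B : Type u) [CommRing A] [CommRing B] [Algebra A B]

/-- the profinite space -/
abbrev Zc : Type u := WithConstructibleTopology (PrimeSpectrum B)

/-- the map to `Spec A`. -/
noncomputable def h' : C(Zc B, PrimeSpectrum A) :=
  (⟨PrimeSpectrum.comap (algebraMap A B), PrimeSpectrum.continuous_comap _⟩ : C(PrimeSpectrum B, PrimeSpectrum A)).comp
    (hcons B)

theorem h'_apply (z : Zc B) : h' A B z = PrimeSpectrum.comap (algebraMap A B) (hcons B z) := rfl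

theorem isClosed_h'_preimage (a : A) :
    IsClosed (h' A B ⁻¹' (PrimeSpectrum.basicOpen a : Set (PrimeSpectrum A))) := by
  have : h' A B ⁻¹' (PrimeSpectrum.basicOpen a : Set (PrimeSpectrum A)) =
      hcons B ⁻¹' (PrimeSpectrum.basicOpen (algebraMap A B a) : Set (PrimeSpectrum B)) := by
    ext z
    rfl
  rw [this]
  exact isClosed_hcons_preimage B _

/-- `C = Bh h'`, an ind-Zariski `A`-algebra -/
abbrev Cc : Type u := Bh (h' A B)

/-- the w-localization of `B` -/
abbrev Bw : Type u := Bh (hcons B)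

/-- the base map `LC(Z, A) → B_w`. -/
noncomputable def ψ₀ : LocallyConstant (Zc B) A →+* Bw B :=
  (algebraMap (LocallyConstant (Zc B) B) (Bw B)).comp (LocallyConstant.mapRingHom (algebraMap A B))

theorem isUnit_ψ₀ (m : Mh (h' A B)) : IsUnit (ψ₀ A B m.1) := by
  have : LocallyConstant.mapRingHom (algebraMap A B) m.1 ∈ Mh (hcons B) := by
    intro z hz
    exact m.2 z hz
  exact IsLocalization.map_units (Bw B) (⟨_, this⟩ : Mh (hcons B))

/-- the comparison map -/
noncomputable def Ψc : Cc A B →+* Bw B :=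
  IsLocalization.lift (M := Mh (h' A B)) (g := ψ₀ A B) (isUnit_ψ₀ A B)

theorem Ψc_comp :
    (Ψc A B).comp (algebraMap (LocallyConstant (Zc B) A) (Cc A B)) = ψ₀ A B :=
  IsLocalization.lift_comp _

theorem comap_map_Ψ (p : PrimeSpectrum B × Zc B) :
    PrimeSpectrum.comap (LocallyConstant.mapRingHom (algebraMap A B)) (homeo p) =
      homeo (PrimeSpectrum.comap (algebraMap A B) p.1, p.2) := by
  ext g
  change (LocallyConstant.mapRingHom (algebraMap A B) g) ∈ (Ψ p).asIdeal ↔
    g ∈ (Ψ (PrimeSpectrum.comap (algebraMap A B) p.1, p.2)).asIdeal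
  rw [mem_Ψ, mem_Ψ]
  rfl

theorem σ_comap_Ψc (y : PrimeSpectrum (Bw B)) :
    σ (h' A B) (PrimeSpectrum.comap (Ψc A B) y) =
      (PrimeSpectrum.comap (algebraMap A B) (σ (hcons B) y).1, (σ (hcons B) y).2) := by
  rw [σ]
  apply (homeo (A := A) (T := Zc B)).injective
  rw [Homeomorph.apply_symm_apply, ← PrimeSpectrum.comap_comp_apply, Ψc_comp, ψ₀,
    PrimeSpectrum.comap_comp_apply, ← comap_map_Ψ]
  congr 1
  rw [σ, Homeomorph.apply_symm_apply]

theorem main (h : EtPBC.IdentifiesLocalRings A B) :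
    ∃ (B' : Type u) (_ : CommRing B') (_ : Algebra B B') (_ : Algebra A B') (_ : IsScalarTower A B B'),
      Module.FaithfullyFlat B B' ∧ EtPBC.IsIndZariski B B' ∧ EtPBC.IsIndZariski A B' := by
  classical
  letI : Algebra (Cc A B) (Bw B) := (Ψc A B).toAlgebra
  haveI : IsScalarTower A (Cc A B) (Bw B) := IsScalarTower.of_algebraMap_eq (R := A) (S := Cc A B)
      (A := Bw B) (fun a => by
    change algebraMap A (Bw B) a = Ψc A B (algebraMap A (Cc A B) a)
    rw [IsScalarTower.algebraMap_apply A (LocallyConstant (Zc B) A) (Cc A B), ← RingHom.comp_apply,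
      Ψc_comp, IsScalarTower.algebraMap_apply A (LocallyConstant (Zc B) B) (Bw B)]
    rfl)
  haveI : IsScalarTower A B (Bw B) := IsScalarTower.of_algebraMap_eq (R := A) (S := B)
      (A := Bw B) (fun a => by
    rw [IsScalarTower.algebraMap_apply A (LocallyConstant (Zc B) B) (Bw B),
      IsScalarTower.algebraMap_apply B (LocallyConstant (Zc B) B) (Bw B)]
    rfl)
  have hBind : EtPBC.IsIndZariski B (Bw B) := isIndZariski (hcons B)
  have hCind : EtPBC.IsIndZariski A (Cc A B) := isIndZariski (h' A B)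
  have hff : Module.FaithfullyFlat B (Bw B) := faithfullyFlat _ (hcons_bijective B).2
  have hAC := Groth.Agent.Lib.R2LeadIndZarLoc.identifiesLocalRings_of_isIndZariski hCind
  have hBB' := Groth.Agent.Lib.R2LeadIndZarLoc.identifiesLocalRings_of_isIndZariski hBind
  have hAB' : EtPBC.IdentifiesLocalRings A (Bw B) := identifiesLocalRings_comp h hBB'
  have hCB' : EtPBC.IdentifiesLocalRings (Cc A B) (Bw B) := identifiesLocalRings_of_comp_left hAC hAB'
  have hCW : ProEtW.IsWLocal (PrimeSpectrum (Cc A B)) := isWLocal _ (isClosed_h'_preimage A B)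
  have hBW : ProEtW.IsWLocal (PrimeSpectrum (Bw B)) := isWLocal _ (isClosed_hcons_preimage B)
  have halg : algebraMap (Cc A B) (Bw B) = Ψc A B := rfl
  have hmap : ProEtW.IsWLocalMap (PrimeSpectrum.comap (algebraMap (Cc A B) (Bw B))) := by
    refine ⟨Groth.Agent.Lib.Helper10.ProCons.isSpectralMap_comap _, fun y hy => ?_⟩
    rw [isClosed_singleton_iff, halg, σ_comap_Ψc]
    rw [isClosed_singleton_iff] at hy
    change _ = h' A B (σ (hcons B) y).2
    rw [h'_apply, ← hy]
  obtain ⟨eC, heC⟩ := exists_homeomorph (h' A B)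
  obtain ⟨eB, heB⟩ := exists_homeomorph (hcons B)
  have hπ : (PrimeSpectrum.continuous_comap (algebraMap (Cc A B) (Bw B))).connectedComponentsMap =
      eC.symm ∘ eB := by
    funext a
    obtain ⟨y, rfl⟩ := ConnectedComponents.surjective_coe a
    apply eC.injective
    rw [Function.comp_apply, Homeomorph.apply_symm_apply, Continuous.connectedComponentsMap_mk, heC,
      heB, halg, σ_comap_Ψc]
  have hbij : Function.Bijective (algebraMap (Cc A B) (Bw B)) := by
    refine Groth.Agent.S0699.result _ _ hCB' hCW hBW hmap ?_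
    rw [hπ]
    exact eC.symm.bijective.comp eB.bijective
  let e : Cc A B ≃ₐ[A] Bw B :=
    AlgEquiv.ofBijective (IsScalarTower.toAlgHom A (Cc A B) (Bw B)) hbij
  exact ⟨Bw B, inferInstance, inferInstance, inferInstance, inferInstance, hff, hBind,
    Groth.Agent.Lib.R2LeadIndZarLoc.isIndZariski_of_algEquiv hCind e⟩

end Groth.Agent.Lib.R2LeadIdLocCover
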