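import Groth.Prelude.Def_Lef
import Groth.Agent.Lib.R2H3NegTwistAll
import Groth.Agent.Lib.R2H1IdealProd
import Groth.Agent.Lib.R2H3AmpleOfVanish
import Groth.Agent.Lib.Helper18Cart1
import Groth.Agent.Lib.R2H2PnMumford
set_option backward.isDefEq.respectTransparency.types false

set_option autoImplicit false
set_option linter.style.haveILetI false
set_option linter.unusedSectionVars false
universe u

open CategoryTheory CategoryTheory.Limits AlgebraicGeometry TopologicalSpace Opposite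

namespace Groth.Agent.Lib.R2LeadIdealPow

open Groth.Agent.Lib.Helper23.SecTw Groth.Agent.Lib.Helper23.GenLocus Groth.Agent.Lib.Helper6
open Groth.Agent.Lib.Helper23.TensorMap Groth.Agent.Lib.R2H1.IdealProd
open Groth.Agent.Lib.R2H3.AmpleOfVanish

variable {X : Scheme.{u}}

theorem mono_tmap {A B : X.Modules} (φ : A ⟶ B) [Mono φ] (N : X.Modules)
    (hN : PicF.IsInvertible N) : Mono (tmap φ N) := by
  have hS : (ShortComplex.mk φ (cokernel.π φ) (cokernel.condition φ)).ShortExact :=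
    { exact := ShortComplex.exact_cokernel φ
      mono_f := inferInstanceAs (Mono φ)
      epi_g := inferInstanceAs (Epi (cokernel.π φ)) }
  exact (Groth.Agent.Lib.R2H2.PnSerre.shortExact_map_twR N hN _ hS).mono_f

theorem mulHom_eq {A : X.Modules} (ι : A ⟶ Coh.structureModule X) (M : X.Modules)
    (hM : PicF.IsInvertible M)
    (Φ : CohB1.tensorMod (Coh.structureModule X) M ≅ M)
    (hΦ : ∀ (W : X.Opens) (e : Γ(M, W)), IsGen M W e →
      ∀ (c : Γ(X, W)), Φ.hom.app W (tm _ M W (toS W c) e) = c • e) :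
    mulHom ι M = tmap ι M ≫ Φ.hom := by
  refine Groth.Agent.Lib.R2H3.NegTwistCalc.hom_ext_frames M hM _ _ ?_
  intro W e he a
  rw [mulHom_tm]
  change _ = Φ.hom.app W ((tmap ι M).app W (tm A M W a e))
  rw [tensorBi_map_app_tm]
  have h1 : ι.app W a = toS W (ofS W (ι.app W a)) := (toS_ofS W _).symm
  rw [h1, hΦ W e he, ofS_toS]

theorem mono_mulHom {A : X.Modules} (ι : A ⟶ Coh.structureModule X) [Mono ι] (M : X.Modules)
    (hM : PicF.IsInvertible M) : Mono (mulHom ι M) := by
  obtain ⟨Φ, hΦ⟩ := exists_unitorL M hM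
  rw [mulHom_eq ι M hM Φ hΦ]
  haveI := mono_tmap ι M hM
  exact mono_comp _ _

variable (I J : X.IdealSheafData)

instance mono_idealModι : Mono (ClSub.idealModι I) :=
  inferInstanceAs (Mono (kernel.ι (ClSub.toSubscheme I)))

/-- the multiplication map is a monomorphism as soon as `J` is invertible (no integrality) -/
theorem mono_idealMulHom' (hJ : PicF.IsInvertible (ClSub.idealMod J)) : Mono (idealMulHom I J) := by
  haveI := mono_mulHom (ClSub.idealModι I) _ hJ
  haveI : Mono (mulι I J) := by unfold mulι; infer_instance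
  haveI : Mono (idealMulHom I J ≫ ClSub.idealModι (I * J)) := by
    rw [idealMulHom_ι]; infer_instance
  exact mono_of_mono (idealMulHom I J) (ClSub.idealModι (I * J))

theorem nonempty_mul_iso (hJ : BlowUp.IsEffCartierIdeal J) :
    Nonempty (CohB1.tensorMod (ClSub.idealMod I) (ClSub.idealMod J) ≅ ClSub.idealMod (I * J)) := by
  have hJi := Groth.Agent.Helper18Cart.isInvertible_of_isEffCartier J hJ
  haveI := mono_idealMulHom' I J hJi
  haveI := epi_idealMulHom I J hJ
  haveI : IsIso (idealMulHom I J) := isIso_of_mono_of_epi _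
  exact ⟨asIso (idealMulHom I J)⟩

theorem nonempty_tensorPow_iso (hI : BlowUp.IsEffCartierIdeal I) (n : ℕ) :
    Nonempty (CohB1.tensorPow (ClSub.idealMod I) (n + 1) ≅ ClSub.idealMod (I ^ (n + 1))) := by
  have hIi := Groth.Agent.Helper18Cart.isInvertible_of_isEffCartier I hI
  induction n with
  | zero =>
    obtain ⟨Φ, -⟩ := exists_unitorL _ hIi
    exact ⟨Φ ≪≫ eqToIso (by rw [zero_add, pow_one])⟩
  | succ n ih =>
    obtain ⟨e⟩ := ih
    obtain ⟨m⟩ := nonempty_mul_iso (I ^ (n + 1)) I hI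
    exact ⟨Groth.Agent.Lib.Helper23.AmpleIso.tensorModIso e (Iso.refl _) ≪≫ m ≪≫
      eqToIso (by rw [← pow_succ])⟩

section Main

open Groth.Agent.Lib.R2H2.HHLin Groth.Agent.Lib.R2H2.PnSerre Groth.Agent.Lib.R2H2.PnMumford

/-- `0 → I → O_X → O_X / I → 0` -/
noncomputable def idealSeq : ShortComplex X.Modules :=
  ShortComplex.mk (ClSub.idealModι I) (ClSub.toSubscheme I) (kernel.condition _)

theorem epi_toSubscheme : Epi (ClSub.toSubscheme I) :=
  (Groth.Agent.Lib.R2H1.DegCartier.idealSeq_shortExact I).epi_g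

theorem idealSeq_shortExact : (idealSeq I).ShortExact :=
  { exact := ShortComplex.exact_kernel (ClSub.toSubscheme I)
    mono_f := inferInstanceAs (Mono (kernel.ι (ClSub.toSubscheme I)))
    epi_g := epi_toSubscheme I }

theorem depth_structureModule (x : X) :
    LocCoh.depth (X.presheaf.stalk x) ((Coh.structureModule X).presheaf.stalk x) =
      LocCoh.depth (X.presheaf.stalk x) (X.presheaf.stalk x) :=
  (Groth.Agent.Lib.Helper28.idealDepth_congr
    (Groth.Agent.Lib.Helper23.UnitStalk.unitStalkEquiv x) _).symm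

theorem main (k : Type u) [Field k] (X : Scheme.{u}) [X.Over (Spec (CommRingCat.of k))]
    [IsProper (X ↘ (Spec (CommRingCat.of k)))] (𝓘 : X.IdealSheafData) (L : X.Modules)
    (hL : ClSub.IsInverseOf L (ClSub.idealMod 𝓘)) (hamp : CohB1.IsAmple L) (n : ℕ)
    (hdepth : ∀ x : X, IsClosed ({x} : Set X) →
      (n : ℕ∞) < LocCoh.depth (X.presheaf.stalk x) (X.presheaf.stalk x)) :
    ∃ m₀ : ℕ, ∀ m : ℕ, m₀ ≤ m →
      (∀ i : ℕ, i < n → Function.Bijective (Sheaf.H.map
        ((SheafOfModules.toSheaf X.ringCatSheaf).map (ClSub.toSubscheme (𝓘 ^ (m + 1)))) i)) ∧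
      Function.Injective (Sheaf.H.map
        ((SheafOfModules.toSheaf X.ringCatSheaf).map (ClSub.toSubscheme (𝓘 ^ (m + 1)))) n) := by
  have hMi : PicF.IsInvertible (ClSub.idealMod 𝓘) :=
    Groth.Agent.Lib.R2H3.NegTwist.isInvertible_of_isInverseOf L _ hL
  have hEC : BlowUp.IsEffCartierIdeal 𝓘 :=
    Groth.Agent.Helper18Cart.isEffCartier_of_isInvertible 𝓘 hMi
  have hO : Coh.IsCoh (Coh.structureModule X) :=
    Groth.Agent.Lib.R2H1.GenusLe.isCoh_structureModule X
  -- vanishing of H^i of the ideal powers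
  have hvan : ∀ i : ℕ, ∃ mi : ℕ, i ≤ n → ∀ m : ℕ, mi ≤ m →
      Subsingleton (Coh.HH X (ClSub.idealMod (𝓘 ^ (m + 1))) i) := by
    intro i
    by_cases hi : i ≤ n
    · obtain ⟨mi, hmi⟩ := Groth.Agent.Lib.R2H3.NegTwistAll.main_all k X L hamp
        (ClSub.idealMod 𝓘) hL i (Coh.structureModule X) hO (fun x hx => by
          rw [depth_structureModule]
          refine le_trans ?_ (Order.add_one_le_of_lt (hdepth x hx))
          exact_mod_cast Nat.succ_le_succ hi)
      refine ⟨mi, fun _ m hm => ?_⟩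
      have h1 := hmi (m + 1) (le_trans hm (Nat.le_succ m))
      obtain ⟨Φ, -⟩ := exists_unitorL (CohB1.tensorPow (ClSub.idealMod 𝓘) (m + 1))
        (Groth.Agent.Lib.Helper23.SecTw.isInvertible_tensorPow hMi (m + 1))
      obtain ⟨e⟩ := nonempty_tensorPow_iso 𝓘 hEC m
      exact subsingleton_HH_of_iso (Φ ≪≫ e) i h1
    · exact ⟨0, fun h => absurd h hi⟩
  choose f hf using hvan
  refine ⟨(Finset.range (n + 1)).sup f, fun m hm => ?_⟩
  have hfm : ∀ i, i ≤ n → Subsingleton (Coh.HH X (ClSub.idealMod (𝓘 ^ (m + 1))) i) := by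
    intro i hi
    exact hf i hi m (le_trans (Finset.le_sup (Finset.mem_range.2 (Nat.lt_succ_of_le hi))) hm)
  have hS := idealSeq_shortExact (𝓘 ^ (m + 1))
  have hinj : ∀ i, i ≤ n → Function.Injective (HmapL (ClSub.toSubscheme (𝓘 ^ (m + 1))) i) := by
    intro i hi
    rw [injective_iff_map_eq_zero]
    intro x hx
    obtain ⟨x₁, rfl⟩ := exact₂ (idealSeq (𝓘 ^ (m + 1))) hS i x hx
    have hss : Subsingleton (Coh.HH X (idealSeq (𝓘 ^ (m + 1))).X₁ i) := hfm i hi
    rw [@Subsingleton.elim _ hss x₁ 0, map_zero]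
    try rfl
  refine ⟨fun i hi => ⟨hinj i hi.le, ?_⟩, hinj n le_rfl⟩
  refine surjective_g_of_injective_f (idealSeq (𝓘 ^ (m + 1))) hS i ?_
  have hss : Subsingleton (Coh.HH X (idealSeq (𝓘 ^ (m + 1))).X₁ (i + 1)) := hfm (i + 1) hi
  intro a b _
  exact @Subsingleton.elim _ hss a b

end Main

end Groth.Agent.Lib.R2LeadIdealPow
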