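import Mathlib

set_option autoImplicit false
universe v u

namespace Groth.Agent.Lib.R2Lead.IndCof

open CategoryTheory CategoryTheory.Limits

section FM

variable {𝒜 : Type u} [Category.{v} 𝒜] [Abelian 𝒜]

variable (𝒜) in
/-- the Freyd–Mitchell ring -/
abbrev FR := Abelian.FreydMitchell.EmbeddingRing 𝒜

variable (𝒜) in
/-- the Freyd–Mitchell embedding -/
noncomputable abbrev Φ : 𝒜 ⥤ ModuleCat.{max u v} (FR 𝒜) := Abelian.FreydMitchell.functor 𝒜

noncomputable instance instAdditiveΦ : (Φ 𝒜).Additive := by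
  haveI : PreservesBinaryBiproducts (Φ 𝒜) := preservesBinaryBiproducts_of_preservesBinaryProducts _
  exact Functor.additive_of_preservesBinaryBiproducts _

/-- FM elements of an object -/
abbrev El (A : 𝒜) := ((Φ 𝒜).obj A : Type _)

/-- action of a morphism on FM elements -/
noncomputable def ap {A B : 𝒜} (f : A ⟶ B) : El A →ₗ[FR 𝒜] El B := ((Φ 𝒜).map f).hom

@[simp] theorem ap_id (A : 𝒜) (x : El A) : ap (𝟙 A) x = x := by
  simp [ap]

@[simp] theorem ap_comp {A B C : 𝒜} (f : A ⟶ B) (g : B ⟶ C) (x : El A) :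
    ap (f ≫ g) x = ap g (ap f x) := by
  simp [ap]

@[simp] theorem ap_zero {A B : 𝒜} (x : El A) : ap (0 : A ⟶ B) x = 0 := by
  simp [ap]

@[simp] theorem ap_add {A B : 𝒜} (f g : A ⟶ B) (x : El A) : ap (f + g) x = ap f x + ap g x := by
  simp [ap, Functor.map_add]

@[simp] theorem ap_sub {A B : 𝒜} (f g : A ⟶ B) (x : El A) : ap (f - g) x = ap f x - ap g x := by
  simp [ap, Functor.map_sub]

@[simp] theorem ap_neg {A B : 𝒜} (f : A ⟶ B) (x : El A) : ap (-f) x = - ap f x := by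
  simp [ap, Functor.map_neg]

@[simp] theorem ap_nsmul {A B : 𝒜} (n : ℕ) (f : A ⟶ B) (x : El A) : ap (n • f) x = n • ap f x := by
  simp [ap, Functor.map_nsmul]

theorem ap_nsmul_id {A : 𝒜} (n : ℕ) (x : El A) : ap (n • 𝟙 A) x = n • x := by
  simp

theorem hom_ext_ap {A B : 𝒜} {f g : A ⟶ B} (h : ∀ x, ap f x = ap g x) : f = g := by
  apply (Φ 𝒜).map_injective
  ext x
  exact h x

theorem eq_zero_of_ap {A B : 𝒜} {f : A ⟶ B} (h : ∀ x, ap f x = 0) : f = 0 :=
  hom_ext_ap (fun x => by rw [h x, ap_zero])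

theorem ap_injective_of_mono {A B : 𝒜} (f : A ⟶ B) [Mono f] : Function.Injective (ap f) :=
  (ModuleCat.mono_iff_injective ((Φ 𝒜).map f)).1 inferInstance

theorem ap_surjective_of_epi {A B : 𝒜} (f : A ⟶ B) [Epi f] : Function.Surjective (ap f) :=
  (ModuleCat.epi_iff_surjective ((Φ 𝒜).map f)).1 inferInstance

theorem mono_of_ap_injective {A B : 𝒜} (f : A ⟶ B) (h : Function.Injective (ap f)) : Mono f :=
  (Φ 𝒜).mono_of_mono_map ((ModuleCat.mono_iff_injective ((Φ 𝒜).map f)).2 h)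

theorem epi_of_ap_surjective {A B : 𝒜} (f : A ⟶ B) (h : Function.Surjective (ap f)) : Epi f :=
  (Φ 𝒜).epi_of_epi_map ((ModuleCat.epi_iff_surjective ((Φ 𝒜).map f)).2 h)

/-- exactness in terms of FM elements -/
theorem exact_iff_ap (S : ShortComplex 𝒜) :
    S.Exact ↔ ∀ x : El S.X₂, ap S.g x = 0 → ∃ y : El S.X₁, ap S.f y = x := by
  rw [← ShortComplex.exact_map_iff_of_faithful S (Φ 𝒜), ShortComplex.moduleCat_exact_iff]
  rfl

/-! ### subobjects -/

/-- FM elements of a subobject, as a submodule -/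
noncomputable def ρ {A : 𝒜} (S : Subobject A) : Submodule (FR 𝒜) (El A) :=
  LinearMap.range (ap S.arrow)

theorem mem_ρ {A : 𝒜} (S : Subobject A) (x : El A) : x ∈ ρ S ↔ ∃ y : El (S : 𝒜), ap S.arrow y = x :=
  Iff.rfl

/-- a morphism factors through a mono iff this holds on FM elements -/
theorem exists_lift_of_range_le {A B P : 𝒜} (f : A ⟶ B) (i : P ⟶ B) [Mono i]
    (h : ∀ x : El A, ∃ y : El P, ap i y = ap f x) : ∃ l : A ⟶ P, l ≫ i = f := by
  -- use the cokernel of `i`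
  have h0 : f ≫ cokernel.π i = 0 := by
    apply eq_zero_of_ap
    intro x
    obtain ⟨y, hy⟩ := h x
    rw [ap_comp, ← hy, ← ap_comp, cokernel.condition, ap_zero]
  let hk := Abelian.monoIsKernelOfCokernel _ (colimit.isColimit (parallelPair i 0))
  exact ⟨hk.lift (KernelFork.ofι f h0), hk.fac (KernelFork.ofι f h0) WalkingParallelPair.zero⟩

theorem factors_iff {A B : 𝒜} (S : Subobject B) (f : A ⟶ B) :
    S.Factors f ↔ ∀ x : El A, ap f x ∈ ρ S := by
  constructor
  · rintro h x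
    refine ⟨ap (S.factorThru f h) x, ?_⟩
    rw [← ap_comp, Subobject.factorThru_arrow]
  · intro h
    obtain ⟨l, hl⟩ := exists_lift_of_range_le f S.arrow (fun x => h x)
    exact (Subobject.factors_iff _ _).2 ⟨l, hl⟩

theorem le_iff_ρ_le {A : 𝒜} (S T : Subobject A) : S ≤ T ↔ ρ S ≤ ρ T := by
  constructor
  · intro h x hx
    obtain ⟨y, rfl⟩ := hx
    refine ⟨ap (Subobject.ofLE S T h) y, ?_⟩
    rw [← ap_comp, Subobject.ofLE_arrow]
  · intro h
    have : T.Factors S.arrow := (factors_iff T S.arrow).2 (fun x => h ⟨x, rfl⟩)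
    exact Subobject.le_of_comm (T.factorThru S.arrow this) (Subobject.factorThru_arrow _ _ _)

theorem eq_iff_ρ_eq {A : 𝒜} (S T : Subobject A) : S = T ↔ ρ S = ρ T := by
  constructor
  · rintro rfl; rfl
  · intro h
    exact le_antisymm ((le_iff_ρ_le S T).2 h.le) ((le_iff_ρ_le T S).2 h.ge)

theorem ρ_mk {A P : 𝒜} (i : P ⟶ A) [Mono i] : ρ (Subobject.mk i) = LinearMap.range (ap i) := by
  ext x
  constructor
  · rintro ⟨y, rfl⟩
    refine ⟨ap (Subobject.underlyingIso i).hom y, ?_⟩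
    rw [← ap_comp, Subobject.underlyingIso_hom_comp_eq_mk]
  · rintro ⟨y, rfl⟩
    refine ⟨ap (Subobject.underlyingIso i).inv y, ?_⟩
    rw [← ap_comp, Subobject.underlyingIso_arrow]

theorem ρ_imageSubobject {A B : 𝒜} (f : A ⟶ B) :
    ρ (imageSubobject f) = LinearMap.range (ap f) := by
  ext x
  constructor
  · rintro ⟨y, rfl⟩
    obtain ⟨z, rfl⟩ := ap_surjective_of_epi (factorThruImageSubobject f) y
    refine ⟨z, ?_⟩
    rw [← ap_comp, imageSubobject_arrow_comp]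
  · rintro ⟨z, rfl⟩
    refine ⟨ap (factorThruImageSubobject f) z, ?_⟩
    rw [← ap_comp, imageSubobject_arrow_comp]

theorem ρ_kernelSubobject {A B : 𝒜} (f : A ⟶ B) :
    ρ (kernelSubobject f) = LinearMap.ker (ap f) := by
  ext x
  constructor
  · rintro ⟨y, rfl⟩
    rw [LinearMap.mem_ker, ← ap_comp, kernelSubobject_arrow_comp, ap_zero]
  · intro hx
    obtain ⟨y, hy⟩ := (exact_iff_ap _).1 (ShortComplex.kernelSequence_exact f) x hx
    refine ⟨ap (kernelSubobjectIso f).inv y, ?_⟩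
    rw [← ap_comp, kernelSubobject_arrow']
    exact hy

theorem ρ_top {A : 𝒜} : ρ (⊤ : Subobject A) = ⊤ := by
  rw [eq_top_iff]
  intro x _
  refine ⟨ap (inv (⊤ : Subobject A).arrow) x, ?_⟩
  rw [← ap_comp, IsIso.inv_hom_id, ap_id]

theorem eq_top_iff_ρ {A : 𝒜} (S : Subobject A) : S = ⊤ ↔ ∀ x : El A, x ∈ ρ S := by
  rw [eq_iff_ρ_eq, ρ_top, eq_top_iff]
  exact ⟨fun h x => h trivial, fun h x _ => h x⟩

end FM

end Groth.Agent.Lib.R2Lead.IndCof
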