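import Mathlib
import Groth.Agent.Lib.R2LeadIndCofA

set_option autoImplicit false
universe v u

namespace Groth.Agent.Lib.R2Lead.IndCof

open CategoryTheory CategoryTheory.Limits ZeroObject

section IndBasic

variable {C : Type v} [SmallCategory C] [Abelian C]

noncomputable instance instAdditiveYoneda : (Ind.yoneda (C := C)).Additive := by
  haveI : PreservesBinaryBiproducts (Ind.yoneda (C := C)) :=
    preservesBinaryBiproducts_of_preservesBinaryProducts _
  exact Functor.additive_of_preservesBinaryBiproducts _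

/-- being isomorphic to an object of `C` -/
abbrev InC (A : Ind C) : Prop := (Ind.yoneda (C := C)).essImage A

theorem inC_of_iso {A B : Ind C} (e : A ≅ B) (h : InC A) : InC B :=
  Functor.essImage.ofIso e h

theorem inC_obj (X : C) : InC ((Ind.yoneda (C := C)).obj X) :=
  Functor.obj_mem_essImage _ _

theorem inC_kernel {P Q : Ind C} (f : P ⟶ Q) (hP : InC P) (hQ : InC Q) : InC (kernel f) := by
  obtain ⟨X, ⟨e1⟩⟩ := hP
  obtain ⟨Z, ⟨e2⟩⟩ := hQ
  obtain ⟨g, hg⟩ := (Ind.yoneda (C := C)).map_surjective (e1.hom ≫ f ≫ e2.inv)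
  have e : kernel ((Ind.yoneda (C := C)).map g) ≅ kernel f :=
    kernel.mapIso _ _ e1 e2 (by rw [hg]; simp)
  exact inC_of_iso ((PreservesKernel.iso (Ind.yoneda (C := C)) g) ≪≫ e) (inC_obj _)

theorem inC_cokernel {P Q : Ind C} (f : P ⟶ Q) (hP : InC P) (hQ : InC Q) : InC (cokernel f) := by
  obtain ⟨X, ⟨e1⟩⟩ := hP
  obtain ⟨Z, ⟨e2⟩⟩ := hQ
  obtain ⟨g, hg⟩ := (Ind.yoneda (C := C)).map_surjective (e1.hom ≫ f ≫ e2.inv)
  have e : cokernel ((Ind.yoneda (C := C)).map g) ≅ cokernel f :=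
    cokernel.mapIso _ _ e1 e2 (by rw [hg]; simp)
  exact inC_of_iso ((PreservesCokernel.iso (Ind.yoneda (C := C)) g) ≪≫ e) (inC_obj _)

theorem inC_zero {Z : Ind C} (hZ : IsZero Z) : InC Z := by
  refine ⟨(0 : C), ⟨?_⟩⟩
  exact ((Ind.yoneda (C := C)).map_isZero (isZero_zero C)).iso hZ

/-- every object of `C` is killed by a positive integer -/
theorem exists_nsmul_eq_zero_of_inC (htor : ∀ X : C, ∃ n : ℕ, 0 < n ∧ n • 𝟙 X = 0)
    {P : Ind C} (hP : InC P) : ∃ n : ℕ, 0 < n ∧ n • 𝟙 P = 0 := by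
  obtain ⟨X, ⟨e⟩⟩ := hP
  obtain ⟨n, hn, h⟩ := htor X
  refine ⟨n, hn, ?_⟩
  have h1 : n • 𝟙 ((Ind.yoneda (C := C)).obj X) = 0 := by
    rw [← CategoryTheory.Functor.map_id, ← Functor.map_nsmul, h, Functor.map_zero]
  have : n • 𝟙 P = e.inv ≫ (n • 𝟙 ((Ind.yoneda (C := C)).obj X)) ≫ e.hom := by
    simp
  rw [this, h1]
  simp

/-- exhaustion: a subobject through which every map from an object of `C` factors is everything -/
theorem eq_top_of_factors_yoneda {A : Ind C} (S : Subobject A)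
    (h : ∀ (X : C) (g : (Ind.yoneda (C := C)).obj X ⟶ A), S.Factors g) : S = ⊤ := by
  have h0 : cokernel.π S.arrow = 0 := by
    apply Ind.isSeparating_range_yoneda (C := C)
    rintro _ ⟨X⟩ g
    rw [comp_zero, ← Subobject.factorThru_arrow S g (h X g), Category.assoc, cokernel.condition,
      comp_zero]
  haveI : Epi S.arrow := Preadditive.epi_of_cokernel_zero h0
  haveI : IsIso S.arrow := isIso_of_mono_of_epi _
  exact Subobject.eq_top_of_isIso_arrow S

/-- exhaustion by torsion subobjects -/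
theorem eq_top_of_forall_torsion_le (htor : ∀ X : C, ∃ n : ℕ, 0 < n ∧ n • 𝟙 X = 0)
    {A : Ind C} (S : Subobject A)
    (h : ∀ n : ℕ, 0 < n → kernelSubobject (n • 𝟙 A) ≤ S) : S = ⊤ := by
  apply eq_top_of_factors_yoneda
  intro X g
  obtain ⟨n, hn, hX⟩ := htor X
  have h1 : n • 𝟙 ((Ind.yoneda (C := C)).obj X) = 0 := by
    rw [← CategoryTheory.Functor.map_id, ← Functor.map_nsmul, hX, Functor.map_zero]
  have h2 : g ≫ (n • 𝟙 A) = 0 := by
    have : g ≫ (n • 𝟙 A) = (n • 𝟙 ((Ind.yoneda (C := C)).obj X)) ≫ g := by simp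
    rw [this, h1, zero_comp]
  exact Subobject.factors_of_le g (h n hn) (kernelSubobject_factors _ g h2)

/-- if `f = e ≫ m` with `e` epi and `m` mono, then the image subobject of `f` is `I` -/
noncomputable def imageSubobjectIsoOfEpiMono {P I A : Ind C} (f : P ⟶ A) (e : P ⟶ I) (m : I ⟶ A)
    [Epi e] [Mono m] (comm : e ≫ m = f) : (imageSubobject f : Ind C) ≅ I :=
  haveI : StrongEpi e := strongEpi_of_epi e
  imageSubobjectIso f ≪≫ (image.isoStrongEpiMono e m comm).symm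

/-- the image of a morphism between objects of `C` is in `C` -/
theorem inC_abelianImage {P Q : Ind C} (u : P ⟶ Q) (hP : InC P) (hQ : InC Q) :
    InC (Abelian.image u) :=
  inC_kernel _ hQ (inC_cokernel u hP hQ)

/-- image subobject of a map `P ⟶ A` that factors through a mono from an object of `C` -/
theorem inC_imageSubobject {P Q A : Ind C} (u : P ⟶ Q) (i : Q ⟶ A) [Mono i] (hP : InC P)
    (hQ : InC Q) : InC (imageSubobject (u ≫ i) : Ind C) := by
  have comm : Abelian.factorThruImage u ≫ (Abelian.image.ι u ≫ i) = u ≫ i := by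
    rw [← Category.assoc, Abelian.image.fac]
  exact inC_of_iso (imageSubobjectIsoOfEpiMono (u ≫ i) _ _ comm).symm (inC_abelianImage u hP hQ)

/-- if `P' ⟶ P ⟶ Q` is exact with `P ⟶ Q` epi and `P', P ∈ C` then `Q ∈ C` -/
theorem inC_of_exact_of_epi (S : ShortComplex (Ind C)) (hS : S.Exact) [Epi S.g] (h1 : InC S.X₁)
    (h2 : InC S.X₂) : InC S.X₃ := by
  have hc := hS.gIsCokernel
  have e : cokernel S.f ≅ S.X₃ :=
    (colimit.isColimit (parallelPair S.f 0)).coconePointUniqueUpToIso hc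
  exact inC_of_iso e (inC_cokernel S.f h1 h2)

section Artinian

variable {A : Ind C} (P0 : Subobject A) {X : C}
  (e : (Ind.yoneda (C := C)).obj X ≅ (P0 : Ind C))

include e in
theorem exists_subobject_repr (S : Subobject A) (hS : S ≤ P0) (hC : InC (S : Ind C)) :
    ∃ (Z : C) (j : Z ⟶ X) (_ : Mono j) (eS : (Ind.yoneda (C := C)).obj Z ≅ (S : Ind C)),
      (Ind.yoneda (C := C)).map j ≫ e.hom = eS.hom ≫ Subobject.ofLE S P0 hS := by
  obtain ⟨Z, ⟨eS⟩⟩ := hC
  obtain ⟨j, hj⟩ := (Ind.yoneda (C := C)).map_surjective (eS.hom ≫ Subobject.ofLE S P0 hS ≫ e.inv)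
  have hm : Mono ((Ind.yoneda (C := C)).map j) := by
    rw [hj]
    infer_instance
  refine ⟨Z, j, (Ind.yoneda (C := C)).mono_of_mono_map hm, eS, ?_⟩
  rw [hj]
  simp

/-- the subobject of `X` attached to a subobject `S ≤ P0` lying in `C` -/
noncomputable def θ (T : {S : Subobject A // S ≤ P0 ∧ InC (S : Ind C)}) : Subobject X :=
  haveI : Mono (exists_subobject_repr P0 e T.1 T.2.1 T.2.2).choose_spec.choose :=
    (exists_subobject_repr P0 e T.1 T.2.1 T.2.2).choose_spec.choose_spec.choose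
  Subobject.mk (exists_subobject_repr P0 e T.1 T.2.1 T.2.2).choose_spec.choose

theorem θ_le_iff (T T' : {S : Subobject A // S ≤ P0 ∧ InC (S : Ind C)}) :
    θ P0 e T ≤ θ P0 e T' ↔ T.1 ≤ T'.1 := by
  obtain ⟨S, hS, hC⟩ := T
  obtain ⟨S', hS', hC'⟩ := T'
  have H := (exists_subobject_repr P0 e S hS hC).choose_spec.choose_spec
  have H' := (exists_subobject_repr P0 e S' hS' hC').choose_spec.choose_spec
  set Z := (exists_subobject_repr P0 e S hS hC).choose
  set j := (exists_subobject_repr P0 e S hS hC).choose_spec.choose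
  set Z' := (exists_subobject_repr P0 e S' hS' hC').choose
  set j' := (exists_subobject_repr P0 e S' hS' hC').choose_spec.choose
  obtain ⟨hm, eS, hj⟩ := H
  obtain ⟨hm', eS', hj'⟩ := H'
  change Subobject.mk j ≤ Subobject.mk j' ↔ S ≤ S'
  constructor
  · intro hle
    have ht : Subobject.ofMkLEMk j j' hle ≫ j' = j := Subobject.ofMkLEMk_comp hle
    refine Subobject.le_of_comm
      (eS.inv ≫ (Ind.yoneda (C := C)).map (Subobject.ofMkLEMk j j' hle) ≫ eS'.hom) ?_
    have h1 : S'.arrow = Subobject.ofLE S' P0 hS' ≫ P0.arrow := (Subobject.ofLE_arrow hS').symm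
    have h2 : S.arrow = Subobject.ofLE S P0 hS ≫ P0.arrow := (Subobject.ofLE_arrow hS).symm
    rw [h1, h2, Category.assoc, Category.assoc, ← Category.assoc eS'.hom, ← hj',
      Category.assoc, ← Category.assoc ((Ind.yoneda (C := C)).map _), ← Functor.map_comp, ht,
      ← Category.assoc ((Ind.yoneda (C := C)).map j), hj]
    simp
  · intro hle
    obtain ⟨t, ht⟩ := (Ind.yoneda (C := C)).map_surjective
      (eS.hom ≫ Subobject.ofLE S S' hle ≫ eS'.inv)
    refine Subobject.mk_le_mk_of_comm t ?_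
    apply (Ind.yoneda (C := C)).map_injective
    rw [← cancel_mono e.hom, Functor.map_comp, ht, Category.assoc, hj', hj]
    simp

end Artinian

/-- Artinian transport: a nonempty family of subobjects of `A` in `C`, all contained in a fixed
subobject in `C`, has a minimal element. -/
theorem exists_minimal_inC (hart : ∀ X : C, IsArtinianObject X) {A : Ind C} (P0 : Subobject A)
    (hP0 : InC (P0 : Ind C)) (𝒮 : Set (Subobject A)) (hne : 𝒮.Nonempty)
    (hle : ∀ S ∈ 𝒮, S ≤ P0) (hC : ∀ S ∈ 𝒮, InC (S : Ind C)) :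
    ∃ S0 ∈ 𝒮, ∀ S ∈ 𝒮, S ≤ S0 → S = S0 := by
  obtain ⟨X, ⟨e⟩⟩ := hP0
  haveI := hart X
  let 𝒯 : Set (Subobject X) := {U | ∃ (S : Subobject A) (hS : S ∈ 𝒮), U = θ P0 e ⟨S, hle S hS, hC S hS⟩}
  have h𝒯 : 𝒯.Nonempty := by
    obtain ⟨S, hS⟩ := hne
    exact ⟨_, S, hS, rfl⟩
  obtain ⟨m, ⟨S0, hS0, rfl⟩, hmin⟩ := WellFounded.has_min (wellFounded_lt (α := Subobject X)) 𝒯 h𝒯
  refine ⟨S0, hS0, fun S hS hSS0 => ?_⟩
  have h1 : θ P0 e ⟨S, hle S hS, hC S hS⟩ ≤ θ P0 e ⟨S0, hle S0 hS0, hC S0 hS0⟩ :=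
    (θ_le_iff P0 e _ _).2 hSS0
  have h2 : ¬ θ P0 e ⟨S, hle S hS, hC S hS⟩ < θ P0 e ⟨S0, hle S0 hS0, hC S0 hS0⟩ :=
    hmin _ ⟨S, hS, rfl⟩
  have h3 : θ P0 e ⟨S0, hle S0 hS0, hC S0 hS0⟩ ≤ θ P0 e ⟨S, hle S hS, hC S hS⟩ := by
    by_contra hcon
    exact h2 (lt_of_le_not_ge h1 hcon)
  exact le_antisymm hSS0 ((θ_le_iff P0 e _ _).1 h3)

end IndBasic

end Groth.Agent.Lib.R2Lead.IndCof
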