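import Mathlib
import Groth.Agent.Lib.R2LeadIndCofB

set_option autoImplicit false
universe v u

namespace Groth.Agent.Lib.R2Lead.IndCof

open CategoryTheory CategoryTheory.Limits

section Tor

variable {𝒜 : Type u} [Category.{v} 𝒜] [Abelian 𝒜]

/-- the `n`-torsion subobject -/
noncomputable def tor (A : 𝒜) (n : ℕ) : Subobject A := kernelSubobject (n • 𝟙 A)

theorem mem_ρ_tor {A : 𝒜} (n : ℕ) (x : El A) : x ∈ ρ (tor A n) ↔ n • x = 0 := by
  rw [tor, ρ_kernelSubobject, LinearMap.mem_ker, ap_nsmul_id]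

/-- `k · S` for a subobject `S` -/
noncomputable def mulSub {A : 𝒜} (k : ℕ) (S : Subobject A) : Subobject A :=
  imageSubobject (S.arrow ≫ (k • 𝟙 A))

theorem mem_ρ_mulSub {A : 𝒜} (k : ℕ) (S : Subobject A) (x : El A) :
    x ∈ ρ (mulSub k S) ↔ ∃ y ∈ ρ S, k • y = x := by
  rw [mulSub, ρ_imageSubobject]
  constructor
  · rintro ⟨z, rfl⟩
    refine ⟨ap S.arrow z, ⟨z, rfl⟩, ?_⟩
    rw [ap_comp, ap_nsmul_id]
  · rintro ⟨y, ⟨z, rfl⟩, rfl⟩
    refine ⟨z, ?_⟩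
    rw [ap_comp, ap_nsmul_id]

theorem mem_ρ_imageSubobject_nsmul {A : 𝒜} (k : ℕ) (x : El A) :
    x ∈ ρ (imageSubobject (k • 𝟙 A)) ↔ ∃ y : El A, k • y = x := by
  rw [ρ_imageSubobject]
  constructor
  · rintro ⟨z, rfl⟩
    exact ⟨z, (ap_nsmul_id k z).symm⟩
  · rintro ⟨y, rfl⟩
    exact ⟨y, ap_nsmul_id k y⟩

theorem mem_ρ_sup {A : 𝒜} (S T : Subobject A) (x : El A) :
    x ∈ ρ (S ⊔ T) ↔ ∃ s ∈ ρ S, ∃ t ∈ ρ T, s + t = x := by
  constructor
  · intro hx
    have hU : S ⊔ T ≤ imageSubobject (biprod.desc S.arrow T.arrow) := by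
      apply sup_le
      · rw [le_iff_ρ_le, ρ_imageSubobject]
        rintro _ ⟨y, rfl⟩
        refine ⟨ap biprod.inl y, ?_⟩
        rw [← ap_comp, biprod.inl_desc]
      · rw [le_iff_ρ_le, ρ_imageSubobject]
        rintro _ ⟨y, rfl⟩
        refine ⟨ap biprod.inr y, ?_⟩
        rw [← ap_comp, biprod.inr_desc]
    have hx' := (le_iff_ρ_le _ _).1 hU hx
    rw [ρ_imageSubobject] at hx'
    obtain ⟨z, rfl⟩ := hx'
    refine ⟨ap S.arrow (ap biprod.fst z), ⟨_, rfl⟩, ap T.arrow (ap biprod.snd z), ⟨_, rfl⟩, ?_⟩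
    rw [biprod.desc_eq, ap_add, ap_comp, ap_comp]
  · rintro ⟨s, hs, t, ht, rfl⟩
    exact Submodule.add_mem _ ((le_iff_ρ_le _ _).1 le_sup_left hs)
      ((le_iff_ρ_le _ _).1 le_sup_right ht)

end Tor

/-- pure algebra: the reduction step -/
theorem tor_decomp {V : Type*} [AddCommGroup V] (m k0 : ℕ) (hm : 0 < m)
    (hstab : ∀ k : ℕ, 0 < k → k0 ∣ k → ∀ y : V, (k * m) • y = 0 →
      ∃ z : V, ((k * m) * m) • z = 0 ∧ (k * m) • z = k • y)
    (hk0 : 0 < k0) :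
    ∀ (N : ℕ), 0 < N → ∀ x : V, (k0 * N) • x = 0 → ∃ t a : V, k0 • t = 0 ∧ x = t + m • a := by
  intro N
  induction N using Nat.strong_induction_on with
  | _ N ih =>
    intro hN x hx
    by_cases hcop : Nat.Coprime N m
    · obtain ⟨a, b, hab⟩ := (Nat.isCoprime_iff_coprime.2 hcop)
      refine ⟨a • ((N : ℤ) • x), b • x, ?_, ?_⟩
      · rw [natCast_zsmul, smul_comm k0 a, ← mul_smul, hx, smul_zero]
      · calc x = (1 : ℤ) • x := (one_smul _ _).symm
          _ = (a * N + b * m) • x := by rw [hab]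
          _ = a • ((N : ℤ) • x) + m • b • x := by
            rw [add_smul, mul_smul, mul_smul, natCast_zsmul x m, smul_comm b m x]
    · have hd1 : Nat.gcd N m ≠ 1 := hcop
      have hdpos : 0 < Nat.gcd N m := Nat.gcd_pos_of_pos_left m hN
      obtain ⟨N', hN'⟩ := Nat.gcd_dvd_left N m
      obtain ⟨m', hm'⟩ := Nat.gcd_dvd_right N m
      set d := Nat.gcd N m with hd
      have hN'pos : 0 < N' := by
        rcases Nat.eq_zero_or_pos N' with h0 | h0
        · rw [h0, mul_zero] at hN'; omega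
        · exact h0
      have hd2 : 2 ≤ d := by omega
      have hlt : N' < N := by
        rw [hN']
        nlinarith
      have hk : 0 < k0 * N' := Nat.mul_pos hk0 hN'pos
      have hx2 : ((k0 * N') * m) • x = 0 := by
        have : (k0 * N') * m = m' * (k0 * N) := by
          rw [hN', hm']; ring
        rw [this, mul_smul, hx, smul_zero]
      obtain ⟨z, -, hz2⟩ := hstab (k0 * N') hk (Dvd.intro _ rfl) x hx2
      have hx3 : (k0 * N') • (x - m • z) = 0 := by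
        rw [smul_sub, ← mul_smul, hz2, sub_self]
      obtain ⟨t, a, ht, hta⟩ := ih N' hlt hN'pos (x - m • z) hx3
      refine ⟨t, a + z, ht, ?_⟩
      rw [smul_add, ← add_assoc, ← hta, sub_add_cancel]

section Core

variable {C : Type v} [SmallCategory C] [Abelian C]

/-- cofinite type (general torsion version) -/
def Cof (A : Ind C) : Prop := ∀ n : ℕ, 0 < n → InC (kernel (n • 𝟙 A))

theorem inC_tor {A : Ind C} (hA : Cof A) (n : ℕ) (hn : 0 < n) : InC (tor A n : Ind C) :=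
  inC_of_iso (kernelSubobjectIso _).symm (hA n hn)

/-- image subobjects landing in a subobject in `C` -/
theorem inC_imageSubobject_of_le {P A : Ind C} (f : P ⟶ A) (T : Subobject A) (hP : InC P)
    (hT : InC (T : Ind C)) (h : imageSubobject f ≤ T) : InC (imageSubobject f : Ind C) := by
  have hf0 : (imageSubobject f).Factors f := by
    have := imageSubobject_factors_comp_self (f := f) (𝟙 P)
    rwa [Category.id_comp] at this
  have hf : T.Factors f := Subobject.factors_of_le f h hf0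
  have := inC_imageSubobject (T.factorThru f hf) T.arrow hP hT
  rwa [Subobject.factorThru_arrow] at this

theorem mulSub_tor_le {A : Ind C} (k m : ℕ) : mulSub k (tor A (k * m)) ≤ tor A m := by
  rw [le_iff_ρ_le]
  intro x hx
  obtain ⟨y, hy, rfl⟩ := (mem_ρ_mulSub _ _ _).1 hx
  rw [mem_ρ_tor] at hy ⊢
  rw [← mul_smul, mul_comm, hy]

theorem inC_mulSub_tor {A : Ind C} (hA : Cof A) (k m : ℕ) (hk : 0 < k) (hm : 0 < m) :
    InC (mulSub k (tor A (k * m)) : Ind C) :=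
  inC_imageSubobject_of_le _ (tor A m) (inC_tor hA _ (Nat.mul_pos hk hm)) (inC_tor hA m hm)
    (mulSub_tor_le k m)

/-- the stable value: existence of `k0` -/
theorem exists_stable (hart : ∀ X : C, IsArtinianObject X) {A : Ind C} (hA : Cof A) (m : ℕ)
    (hm : 0 < m) : ∃ k0 : ℕ, 0 < k0 ∧ ∀ k : ℕ, 0 < k → k0 ∣ k →
      mulSub k (tor A (k * m)) = mulSub k0 (tor A (k0 * m)) := by
  obtain ⟨S0, ⟨k0, hk0, rfl⟩, hmin⟩ := exists_minimal_inC hart (tor A m) (inC_tor hA m hm)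
    {S | ∃ k : ℕ, 0 < k ∧ S = mulSub k (tor A (k * m))} ⟨_, 1, Nat.one_pos, rfl⟩
    (by rintro _ ⟨k, -, rfl⟩; exact mulSub_tor_le k m)
    (by rintro _ ⟨k, hk, rfl⟩; exact inC_mulSub_tor hA k m hk hm)
  refine ⟨k0, hk0, fun k hk hdvd => hmin _ ⟨k, hk, rfl⟩ ?_⟩
  obtain ⟨c, rfl⟩ := hdvd
  rw [le_iff_ρ_le]
  intro x hx
  obtain ⟨y, hy, rfl⟩ := (mem_ρ_mulSub _ _ _).1 hx
  rw [mem_ρ_tor] at hy
  refine (mem_ρ_mulSub _ _ _).2 ⟨c • y, ?_, ?_⟩
  · rw [mem_ρ_tor, ← mul_smul]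
    have : k0 * m * c = k0 * c * m := by ring
    rw [this, hy]
  · rw [← mul_smul]

/-- the core decomposition `A = A[M] + mA` -/
theorem core (hart : ∀ X : C, IsArtinianObject X)
    (htor : ∀ X : C, ∃ n : ℕ, 0 < n ∧ n • 𝟙 X = 0) {A : Ind C} (hA : Cof A) (m : ℕ)
    (hm : 0 < m) : ∃ M : ℕ, 0 < M ∧ tor A M ⊔ imageSubobject (m • 𝟙 A) = ⊤ := by
  obtain ⟨k0, hk0, hst⟩ := exists_stable hart hA m hm
  refine ⟨k0, hk0, eq_top_of_forall_torsion_le htor _ (fun N hN => ?_)⟩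
  have hstab : ∀ k : ℕ, 0 < k → k0 ∣ k → ∀ y : El A, (k * m) • y = 0 →
      ∃ z : El A, ((k * m) * m) • z = 0 ∧ (k * m) • z = k • y := by
    intro k hk hdvd y hy
    have h1 : mulSub k (tor A (k * m)) = mulSub (k * m) (tor A ((k * m) * m)) := by
      rw [hst k hk hdvd, hst (k * m) (Nat.mul_pos hk hm) (Dvd.dvd.mul_right hdvd m)]
    have h2 : k • y ∈ ρ (mulSub k (tor A (k * m))) :=
      (mem_ρ_mulSub _ _ _).2 ⟨y, (mem_ρ_tor _ _).2 hy, rfl⟩
    rw [h1] at h2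
    obtain ⟨z, hz, hz2⟩ := (mem_ρ_mulSub _ _ _).1 h2
    exact ⟨z, (mem_ρ_tor _ _).1 hz, hz2⟩
  rw [le_iff_ρ_le]
  intro x hx
  replace hx : N • x = 0 := (mem_ρ_tor (A := A) N x).1 hx
  have hx' : (k0 * N) • x = 0 := by rw [mul_smul, hx, smul_zero]
  obtain ⟨t, a, ht, rfl⟩ := tor_decomp m k0 hm hstab hk0 N hN x hx'
  exact (mem_ρ_sup _ _ _).2 ⟨t, (mem_ρ_tor _ _).2 ht, m • a,
    (mem_ρ_imageSubobject_nsmul _ _).2 ⟨a, rfl⟩, rfl⟩

/-- `A / mA` lies in `C` for `A` of cofinite type -/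
theorem inC_cokernel_nsmul (hart : ∀ X : C, IsArtinianObject X)
    (htor : ∀ X : C, ∃ n : ℕ, 0 < n ∧ n • 𝟙 X = 0) {A : Ind C} (hA : Cof A) (m : ℕ)
    (hm : 0 < m) : InC (cokernel (m • 𝟙 A)) := by
  obtain ⟨M, hM, htop⟩ := core hart htor hA m hm
  -- the map `A[mM] ⟶ A[M]` induced by `m`
  have hu0 : ((tor A (m * M)).arrow ≫ (m • 𝟙 A)) ≫ (M • 𝟙 A) = 0 := by
    apply eq_zero_of_ap
    intro x
    rw [ap_comp, ap_comp, ap_nsmul_id, ap_nsmul_id, ← mul_smul, mul_comm]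
    exact (mem_ρ_tor _ _).1 ⟨x, rfl⟩
  let u : (tor A (m * M) : Ind C) ⟶ (tor A M : Ind C) :=
    factorThruKernelSubobject (M • 𝟙 A) _ hu0
  have hu : u ≫ (tor A M).arrow = (tor A (m * M)).arrow ≫ (m • 𝟙 A) :=
    factorThruKernelSubobject_comp_arrow _ _ _
  let c : (tor A M : Ind C) ⟶ cokernel (m • 𝟙 A) := (tor A M).arrow ≫ cokernel.π (m • 𝟙 A)
  have huc : u ≫ c = 0 := by
    change u ≫ (tor A M).arrow ≫ cokernel.π (m • 𝟙 A) = 0
    rw [← Category.assoc, hu, Category.assoc, cokernel.condition, comp_zero]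
  haveI : Epi c := by
    apply epi_of_ap_surjective
    intro q
    obtain ⟨x, rfl⟩ := ap_surjective_of_epi (cokernel.π (m • 𝟙 A)) q
    have hx : x ∈ ρ (tor A M ⊔ imageSubobject (m • 𝟙 A)) := by
      rw [htop, ρ_top]; trivial
    obtain ⟨t, ⟨t', rfl⟩, s, hs, rfl⟩ := (mem_ρ_sup _ _ _).1 hx
    obtain ⟨a, rfl⟩ := (mem_ρ_imageSubobject_nsmul _ _).1 hs
    refine ⟨t', ?_⟩
    have h0 : ap (cokernel.π (m • 𝟙 A)) (m • a) = 0 := by
      rw [← ap_nsmul_id, ← ap_comp, cokernel.condition, ap_zero]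
    change ap ((tor A M).arrow ≫ cokernel.π (m • 𝟙 A)) t' = _
    rw [map_add, h0, add_zero, ap_comp]
  have hex : (ShortComplex.mk u c huc).Exact := by
    rw [exact_iff_ap]
    intro t' ht'
    change ap ((tor A M).arrow ≫ cokernel.π (m • 𝟙 A)) t' = 0 at ht'
    rw [ap_comp] at ht'
    obtain ⟨a0, ha0⟩ := (exact_iff_ap _).1 (ShortComplex.cokernelSequence_exact (m • 𝟙 A)) _ ht'
    obtain ⟨a, rfl⟩ : ∃ a : El A, a = a0 := ⟨a0, rfl⟩
    have ha : m • a = ap (tor A M).arrow t' := by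
      rw [← ap_nsmul_id]; exact ha0
    have hMt : M • ap (tor A M).arrow t' = 0 := (mem_ρ_tor _ _).1 ⟨t', rfl⟩
    have ha2 : a ∈ ρ (tor A (m * M)) := by
      rw [mem_ρ_tor, mul_comm, mul_smul, ha, hMt]
    obtain ⟨a', rfl⟩ := ha2
    refine ⟨a', ?_⟩
    apply ap_injective_of_mono (tor A M).arrow
    change ap (tor A M).arrow (ap u a') = _
    rw [← ap_comp, hu, ap_comp, ap_nsmul_id, ha]
  exact inC_of_exact_of_epi (ShortComplex.mk u c huc) hex
    (inC_tor hA _ (Nat.mul_pos hm hM)) (inC_tor hA M hM)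

end Core

end Groth.Agent.Lib.R2Lead.IndCof
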