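import Mathlib
import Groth.Agent.Lib.R2LeadIndCofC

set_option autoImplicit false
universe v u

namespace Groth.Agent.Lib.R2Lead.IndCof

open CategoryTheory CategoryTheory.Limits

section Prime

variable {C : Type v} [SmallCategory C] [Abelian C]

theorem nsmul_id_yoneda_eq_zero {X : C} {n : ℕ} (h : n • 𝟙 X = 0) :
    n • 𝟙 ((Ind.yoneda (C := C)).obj X) = 0 := by
  rw [← CategoryTheory.Functor.map_id, ← Functor.map_nsmul, h, Functor.map_zero]

/-- in the `p`-primary situation, integers prime to `p` act injectively -/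
theorem mono_nsmul_of_coprime (p : ℕ) (htor : ∀ X : C, ∃ n : ℕ, (p ^ n) • 𝟙 X = 0)
    (B : Ind C) (n' : ℕ) (hcop : Nat.Coprime n' p) : Mono (n' • 𝟙 B) := by
  apply Preadditive.mono_of_kernel_zero
  apply Ind.isSeparating_range_yoneda (C := C)
  rintro _ ⟨X⟩ g
  rw [comp_zero]
  obtain ⟨k, hk⟩ := htor X
  set h := g ≫ kernel.ι (n' • 𝟙 B) with hh
  have h1 : n' • h = 0 := by
    have : n' • h = h ≫ (n' • 𝟙 B) := by simp
    rw [this, hh, Category.assoc, kernel.condition, comp_zero]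
  have h2 : (p ^ k) • h = 0 := by
    have : (p ^ k) • h = ((p ^ k) • 𝟙 ((Ind.yoneda (C := C)).obj X)) ≫ h := by simp
    rw [this, nsmul_id_yoneda_eq_zero hk, zero_comp]
  obtain ⟨a, b, hab⟩ := Nat.isCoprime_iff_coprime.2 (Nat.Coprime.pow_right k hcop)
  calc h = (1 : ℤ) • h := (one_smul _ _).symm
    _ = (a * n' + b * ((p ^ k : ℕ) : ℤ)) • h := by rw [hab]
    _ = 0 := by
      rw [add_smul, mul_smul, mul_smul, natCast_zsmul, natCast_zsmul, h1, h2, smul_zero, smul_zero,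
        add_zero]

/-- `p`-primary cofinite type implies cofinite type -/
theorem cof_of_prime (p : ℕ) (hp : p.Prime) (htor : ∀ X : C, ∃ n : ℕ, (p ^ n) • 𝟙 X = 0)
    {A : Ind C} (hA : ∀ n : ℕ, InC (kernel ((p ^ n) • 𝟙 A))) : Cof A := by
  intro n hn
  obtain ⟨e, n', hn', rfl⟩ := Nat.exists_eq_pow_mul_and_not_dvd hn.ne' p hp.ne_one
  have hcop : Nat.Coprime n' p := (Nat.Coprime.symm ((Nat.Prime.coprime_iff_not_dvd hp).2 hn'))
  haveI := mono_nsmul_of_coprime p htor A n' hcop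
  have heq : tor A (p ^ e * n') = tor A (p ^ e) := by
    rw [eq_iff_ρ_eq]
    ext x
    rw [mem_ρ_tor, mem_ρ_tor]
    constructor
    · intro hx
      apply ap_injective_of_mono (n' • 𝟙 A)
      rw [ap_nsmul_id, map_zero, ← mul_smul, mul_comm, hx]
    · intro hx
      rw [mul_comm, mul_smul, hx, smul_zero]
  have e1 : kernel ((p ^ e * n') • 𝟙 A) ≅ (tor A (p ^ e * n') : Ind C) := (kernelSubobjectIso _).symm
  have e2 : (tor A (p ^ e) : Ind C) ≅ kernel ((p ^ e) • 𝟙 A) := kernelSubobjectIso _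
  have e3 : (tor A (p ^ e * n') : Ind C) ≅ (tor A (p ^ e) : Ind C) := eqToIso (by rw [heq])
  exact inC_of_iso (e1 ≪≫ e3 ≪≫ e2).symm (hA e)

theorem htor_of_prime (p : ℕ) (hp : p.Prime) (htor : ∀ X : C, ∃ n : ℕ, (p ^ n) • 𝟙 X = 0) :
    ∀ X : C, ∃ n : ℕ, 0 < n ∧ n • 𝟙 X = 0 := by
  intro X
  obtain ⟨k, hk⟩ := htor X
  exact ⟨p ^ k, pow_pos hp.pos k, hk⟩

end Prime

end Groth.Agent.Lib.R2Lead.IndCof
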