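import Mathlib
import Groth.Agent.Lib.R2LeadIndCofD

set_option autoImplicit false
universe v u

namespace Groth.Agent.Lib.R2Lead.IndCof

open CategoryTheory CategoryTheory.Limits

section KerCoker

variable {C : Type v} [SmallCategory C] [Abelian C]

/-- if `0 ⟶ X₁ ⟶ X₂ ⟶ X₃` is exact with `X₂, X₃ ∈ C` then `X₁ ∈ C` -/
theorem inC_of_exact_of_mono (S : ShortComplex (Ind C)) (hS : S.Exact) [Mono S.f] (h2 : InC S.X₂)
    (h3 : InC S.X₃) : InC S.X₁ := by
  have hc := hS.fIsKernel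
  have e : kernel S.g ≅ S.X₁ :=
    (limit.isLimit (parallelPair S.g 0)).conePointUniqueUpToIso hc
  exact inC_of_iso e (inC_kernel S.g h2 h3)

/-- the map on torsion subobjects induced by a morphism -/
noncomputable def torMap {A B : Ind C} (f : A ⟶ B) (n : ℕ) :
    (tor A n : Ind C) ⟶ (tor B n : Ind C) :=
  factorThruKernelSubobject (n • 𝟙 B) ((tor A n).arrow ≫ f) (by
    apply eq_zero_of_ap
    intro x
    rw [ap_comp, ap_comp, ap_nsmul_id, ← map_nsmul]
    have : n • ap (tor A n).arrow x = 0 := (mem_ρ_tor _ _).1 ⟨x, rfl⟩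
    rw [this, map_zero])

theorem torMap_arrow {A B : Ind C} (f : A ⟶ B) (n : ℕ) :
    torMap f n ≫ (tor B n).arrow = (tor A n).arrow ≫ f :=
  factorThruKernelSubobject_comp_arrow _ _ _

theorem nsmul_arrow_tor {A : Ind C} (n : ℕ) (x : El (tor A n : Ind C)) :
    n • ap (tor A n).arrow x = 0 := (mem_ρ_tor _ _).1 ⟨x, rfl⟩

/-- the kernel of a morphism between cofinite type objects is of cofinite type -/
theorem cof_kernel {A B : Ind C} (hA : Cof A) (hB : Cof B) (f : A ⟶ B) : Cof (kernel f) := by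
  intro n hn
  -- the map `K[n] ⟶ A[n]`
  have hj0 : (kernel.ι (n • 𝟙 (kernel f)) ≫ kernel.ι f) ≫ (n • 𝟙 A) = 0 := by
    have : (kernel.ι (n • 𝟙 (kernel f)) ≫ kernel.ι f) ≫ (n • 𝟙 A) =
        (kernel.ι (n • 𝟙 (kernel f)) ≫ (n • 𝟙 (kernel f))) ≫ kernel.ι f := by simp
    rw [this, kernel.condition, zero_comp]
  let j : kernel (n • 𝟙 (kernel f)) ⟶ (tor A n : Ind C) :=
    factorThruKernelSubobject (n • 𝟙 A) _ hj0
  have hj : j ≫ (tor A n).arrow = kernel.ι (n • 𝟙 (kernel f)) ≫ kernel.ι f :=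
    factorThruKernelSubobject_comp_arrow _ _ _
  have hz : j ≫ torMap f n = 0 := by
    rw [← cancel_mono (tor B n).arrow, Category.assoc, torMap_arrow, ← Category.assoc, hj,
      Category.assoc, kernel.condition, comp_zero, zero_comp]
  haveI : Mono j := mono_of_mono_fac hj
  have hex : (ShortComplex.mk j (torMap f n) hz).Exact := by
    rw [exact_iff_ap]
    intro t ht
    change ap (torMap f n) t = 0 at ht
    have hx1 : ap f (ap (tor A n).arrow t) = 0 := by
      rw [← ap_comp, ← torMap_arrow, ap_comp, ht, map_zero]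
    obtain ⟨k0, hk0⟩ := (exact_iff_ap _).1 (ShortComplex.kernelSequence_exact f) _ hx1
    obtain ⟨k, rfl⟩ : ∃ k : El (kernel f), k = k0 := ⟨k0, rfl⟩
    replace hk0 : ap (kernel.ι f) k = ap (tor A n).arrow t := hk0
    have hk1 : ap (n • 𝟙 (kernel f)) k = 0 := by
      apply ap_injective_of_mono (kernel.ι f)
      rw [ap_nsmul_id, map_nsmul, hk0, nsmul_arrow_tor, map_zero]
    obtain ⟨k1, hk1'⟩ := (exact_iff_ap _).1
      (ShortComplex.kernelSequence_exact (n • 𝟙 (kernel f))) _ hk1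
    obtain ⟨k', rfl⟩ : ∃ k' : El (kernel (n • 𝟙 (kernel f))), k' = k1 := ⟨k1, rfl⟩
    replace hk1' : ap (kernel.ι (n • 𝟙 (kernel f))) k' = k := hk1'
    refine ⟨k', ?_⟩
    apply ap_injective_of_mono (tor A n).arrow
    change ap (tor A n).arrow (ap j k') = _
    rw [← ap_comp, hj, ap_comp, hk1', hk0]
  exact inC_of_exact_of_mono (ShortComplex.mk j (torMap f n) hz) hex (inC_tor hA n hn)
    (inC_tor hB n hn)

theorem exists_add_nsmul_of_sup_top {A : Ind C} {M m : ℕ}
    (htop : tor A M ⊔ imageSubobject (m • 𝟙 A) = ⊤) (x : El A) :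
    ∃ t a : El A, M • t = 0 ∧ x = t + m • a := by
  have hx : x ∈ ρ (tor A M ⊔ imageSubobject (m • 𝟙 A)) := by
    rw [htop, ρ_top]; trivial
  obtain ⟨t, ht, s, hs, rfl⟩ := (mem_ρ_sup _ _ _).1 hx
  obtain ⟨a, rfl⟩ := (mem_ρ_imageSubobject_nsmul _ _).1 hs
  exact ⟨t, a, (mem_ρ_tor _ _).1 ht, rfl⟩

theorem exists_of_ap_kernel {A B : Ind C} (f : A ⟶ B) (x : El A) (hx : ap f x = 0) :
    ∃ k : El (kernel f), ap (kernel.ι f) k = x :=
  (exact_iff_ap _).1 (ShortComplex.kernelSequence_exact f) x hx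

theorem exists_of_ap_cokernel {A B : Ind C} (f : A ⟶ B) (y : El B)
    (hy : ap (cokernel.π f) y = 0) : ∃ a : El A, ap f a = y :=
  (exact_iff_ap _).1 (ShortComplex.cokernelSequence_exact f) y hy

theorem exists_of_mem_tor {A : Ind C} (n : ℕ) (x : El A) (hx : n • x = 0) :
    ∃ y : El (tor A n : Ind C), ap (tor A n).arrow y = x :=
  (mem_ρ_tor n x).2 hx

/-- the cokernel of a morphism between cofinite type objects is of cofinite type -/
theorem cof_cokernel (hart : ∀ X : C, IsArtinianObject X)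
    (htor : ∀ X : C, ∃ n : ℕ, 0 < n ∧ n • 𝟙 X = 0) {A B : Ind C} (hA : Cof A) (hB : Cof B)
    (f : A ⟶ B) : Cof (cokernel f) := by
  intro n hn
  obtain ⟨M, hM, htopA⟩ := core hart htor hA n hn
  have hK : Cof (kernel f) := cof_kernel hA hB f
  have hN0 : 0 < n * M := Nat.mul_pos hn hM
  obtain ⟨M', hM', htopK⟩ := core hart htor hK (n * M) hN0
  have hN1 : 0 < n * M * M' := Nat.mul_pos hN0 hM'
  -- the auxiliary object `A'`
  let g : (tor A (n * M * M') : Ind C) ⟶ (tor B (n * M * M') : Ind C) :=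
    torMap f (n * M * M') ≫ ((n * M) • 𝟙 _)
  have hA' : InC (kernel g) := inC_kernel g (inC_tor hA _ hN1) (inC_tor hB _ hN1)
  let u0 : kernel g ⟶ B := kernel.ι g ≫ torMap f (n * M * M') ≫ (tor B (n * M * M')).arrow
  have hu0 : u0 ≫ ((n * M) • 𝟙 B) = 0 := by
    apply eq_zero_of_ap
    intro x
    change ap ((kernel.ι g ≫ torMap f (n * M * M') ≫ (tor B (n * M * M')).arrow) ≫
      ((n * M) • 𝟙 B)) x = 0
    have h1 : ap g (ap (kernel.ι g) x) = 0 := by
      rw [← ap_comp, kernel.condition, ap_zero]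
    change ap (torMap f (n * M * M') ≫ ((n * M) • 𝟙 _)) (ap (kernel.ι g) x) = 0 at h1
    rw [ap_comp, ap_nsmul_id] at h1
    rw [ap_comp, ap_comp, ap_comp, ap_nsmul_id, ← map_nsmul, h1, map_zero]
  let u : kernel g ⟶ (tor B (n * M) : Ind C) := factorThruKernelSubobject ((n * M) • 𝟙 B) u0 hu0
  have hu : u ≫ (tor B (n * M)).arrow = u0 := factorThruKernelSubobject_comp_arrow _ _ _
  let w : (tor B (n * M) : Ind C) ⟶ cokernel f := (tor B (n * M)).arrow ≫ cokernel.π f
  let c : (tor B (n * M) : Ind C) ⟶ (imageSubobject w : Ind C) := factorThruImageSubobject w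
  have hc : c ≫ (imageSubobject w).arrow = w := imageSubobject_arrow_comp w
  have huw : u ≫ w = 0 := by
    change u ≫ (tor B (n * M)).arrow ≫ cokernel.π f = 0
    rw [← Category.assoc, hu]
    change (kernel.ι g ≫ torMap f (n * M * M') ≫ (tor B (n * M * M')).arrow) ≫ cokernel.π f = 0
    rw [torMap_arrow]
    simp
  have huc : u ≫ c = 0 := by
    rw [← cancel_mono (imageSubobject w).arrow, Category.assoc, hc, huw, zero_comp]
  have hex : (ShortComplex.mk u c huc).Exact := by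
    rw [exact_iff_ap]
    intro b' hb'
    change ap c b' = 0 at hb'
    have hb1 : ap (cokernel.π f) (ap (tor B (n * M)).arrow b') = 0 := by
      have : ap w b' = 0 := by rw [← hc, ap_comp, hb', map_zero]
      rwa [ap_comp] at this
    obtain ⟨a, ha⟩ := exists_of_ap_cokernel f _ hb1
    have hb2 : (n * M) • ap (tor B (n * M)).arrow b' = 0 := nsmul_arrow_tor _ _
    have ha2 : ap f ((n * M) • a) = 0 := by rw [map_nsmul, ha, hb2]
    obtain ⟨κ0, hκ0⟩ := exists_of_ap_kernel f _ ha2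
    obtain ⟨s, κ, hs, rfl⟩ := exists_add_nsmul_of_sup_top htopK κ0
    have ha3 : (n * M * M') • (a - ap (kernel.ι f) κ) = 0 := by
      have h1 : (n * M) • (a - ap (kernel.ι f) κ) = ap (kernel.ι f) s := by
        rw [smul_sub, ← hκ0, map_add, map_nsmul, add_sub_cancel_right]
      rw [mul_comm, mul_smul, h1, ← map_nsmul, hs, map_zero]
    obtain ⟨a3, ha3'⟩ := exists_of_mem_tor _ _ ha3
    have hfa : ap f (a - ap (kernel.ι f) κ) = ap (tor B (n * M)).arrow b' := by
      rw [map_sub, ha, ← ap_comp, kernel.condition, ap_zero, sub_zero]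
    have hg : ap g a3 = 0 := by
      apply ap_injective_of_mono (tor B (n * M * M')).arrow
      change ap (tor B (n * M * M')).arrow
        (ap (torMap f (n * M * M') ≫ ((n * M) • 𝟙 _)) a3) = _
      rw [ap_comp, ap_nsmul_id, map_nsmul, ← ap_comp, torMap_arrow, ap_comp, ha3', hfa, hb2,
        map_zero]
    obtain ⟨a4, ha4⟩ := exists_of_ap_kernel g _ hg
    refine ⟨a4, ?_⟩
    apply ap_injective_of_mono (tor B (n * M)).arrow
    change ap (tor B (n * M)).arrow (ap u a4) = _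
    rw [← ap_comp, hu]
    change ap (kernel.ι g ≫ torMap f (n * M * M') ≫ (tor B (n * M * M')).arrow) a4 = _
    rw [ap_comp, ha4, torMap_arrow, ap_comp, ha3', hfa]
  have hQ0 : InC (imageSubobject w : Ind C) :=
    inC_of_exact_of_epi (ShortComplex.mk u c huc) hex hA' (inC_tor hB _ hN0)
  -- compare the `n`-torsion of `Q0` and of `Q`
  have hj0 : (kernel.ι (n • 𝟙 (imageSubobject w : Ind C)) ≫ (imageSubobject w).arrow) ≫
      (n • 𝟙 (cokernel f)) = 0 := by
    have : (kernel.ι (n • 𝟙 (imageSubobject w : Ind C)) ≫ (imageSubobject w).arrow) ≫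
        (n • 𝟙 (cokernel f)) = (kernel.ι (n • 𝟙 (imageSubobject w : Ind C)) ≫
        (n • 𝟙 (imageSubobject w : Ind C))) ≫ (imageSubobject w).arrow := by simp
    rw [this, kernel.condition, zero_comp]
  let j : kernel (n • 𝟙 (imageSubobject w : Ind C)) ⟶ kernel (n • 𝟙 (cokernel f)) :=
    kernel.lift _ _ hj0
  have hj : j ≫ kernel.ι (n • 𝟙 (cokernel f)) =
      kernel.ι (n • 𝟙 (imageSubobject w : Ind C)) ≫ (imageSubobject w).arrow := kernel.lift_ι _ _ _
  haveI : Mono j := mono_of_mono_fac hj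
  haveI : Epi j := by
    apply epi_of_ap_surjective
    intro q'
    have hq : n • ap (kernel.ι (n • 𝟙 (cokernel f))) q' = 0 := by
      rw [← ap_nsmul_id, ← ap_comp, kernel.condition, ap_zero]
    obtain ⟨b, hb⟩ := ap_surjective_of_epi (cokernel.π f) (ap (kernel.ι (n • 𝟙 (cokernel f))) q')
    have hb1 : ap (cokernel.π f) (n • b) = 0 := by rw [map_nsmul, hb, hq]
    obtain ⟨a, ha⟩ := exists_of_ap_cokernel f _ hb1
    obtain ⟨t, a', ht, rfl⟩ := exists_add_nsmul_of_sup_top htopA a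
    have hb2 : (n * M) • (b - ap f a') = 0 := by
      have h1 : n • (b - ap f a') = ap f t := by
        rw [smul_sub, ← ha, map_add, map_nsmul, add_sub_cancel_right]
      rw [mul_comm, mul_smul, h1, ← map_nsmul, ht, map_zero]
    obtain ⟨b1', hb1'⟩ := exists_of_mem_tor _ _ hb2
    have hq2 : ap (imageSubobject w).arrow (ap c b1') = ap (kernel.ι (n • 𝟙 (cokernel f))) q' := by
      rw [← ap_comp, hc]
      change ap ((tor B (n * M)).arrow ≫ cokernel.π f) b1' = _
      rw [ap_comp, hb1', map_sub, hb, ← ap_comp, cokernel.condition, ap_zero, sub_zero]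
    have hq3 : ap (n • 𝟙 (imageSubobject w : Ind C)) (ap c b1') = 0 := by
      apply ap_injective_of_mono (imageSubobject w).arrow
      rw [ap_nsmul_id, map_nsmul, hq2, hq, map_zero]
    obtain ⟨q0', hq0'⟩ := exists_of_ap_kernel _ _ hq3
    refine ⟨q0', ?_⟩
    apply ap_injective_of_mono (kernel.ι (n • 𝟙 (cokernel f)))
    rw [← ap_comp, hj, ap_comp, hq0', hq2]
  haveI : IsIso j := isIso_of_mono_of_epi j
  exact inC_of_iso (asIso j) (inC_kernel _ hQ0 hQ0)

end KerCoker

end Groth.Agent.Lib.R2Lead.IndCof
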