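import Mathlib
import Groth.Agent.Lib.R2LeadIndCofE

set_option autoImplicit false
universe v u

namespace Groth.Agent.Lib.R2Lead.IndCof

open CategoryTheory CategoryTheory.Limits

section PowStab

/-- pure algebra: divisibility step for `p`-power torsion elements -/
theorem pow_stab_alg {V : Type*} [AddCommGroup V] (p N0 : ℕ)
    (hstab : ∀ j, N0 ≤ j → ∀ a : V, (p ^ j * p) • a = 0 →
      ∃ b : V, (p ^ (j + 1) * p) • b = 0 ∧ p ^ (j + 1) • b = p ^ j • a)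
    (n : ℕ) (hn : N0 ≤ n) :
    ∀ (j : ℕ) (a : V), p ^ j • a = 0 → ∃ y : V, p ^ (n + 1) • y = p ^ n • a := by
  intro j
  induction j with
  | zero =>
    intro a ha
    rw [pow_zero, one_smul] at ha
    exact ⟨0, by rw [ha, smul_zero, smul_zero]⟩
  | succ j ih =>
    intro a ha
    by_cases h : j + 1 ≤ n
    · refine ⟨0, ?_⟩
      obtain ⟨c, rfl⟩ := Nat.exists_eq_add_of_le h
      rw [smul_zero, pow_add, mul_comm, mul_smul, ha, smul_zero]
    · have hj : N0 ≤ j := by omega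
      obtain ⟨b, -, hb⟩ := hstab j hj a (by rw [← pow_succ]; exact ha)
      have ha' : p ^ j • (a - p • b) = 0 := by
        rw [smul_sub, ← mul_smul, ← pow_succ, hb, sub_self]
      obtain ⟨y', hy'⟩ := ih (a - p • b) ha'
      refine ⟨y' + b, ?_⟩
      rw [smul_add, hy', smul_sub, ← mul_smul, ← pow_succ, sub_add_cancel]

/-- pure algebra: the same for arbitrary torsion elements -/
theorem pow_stab_alg2 {V : Type*} [AddCommGroup V] (p N0 : ℕ) (hp : p.Prime)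
    (hstab : ∀ j, N0 ≤ j → ∀ a : V, (p ^ j * p) • a = 0 →
      ∃ b : V, (p ^ (j + 1) * p) • b = 0 ∧ p ^ (j + 1) • b = p ^ j • a)
    (n : ℕ) (hn : N0 ≤ n) (N : ℕ) (hN : 0 < N) (a : V) (ha : N • a = 0) :
    ∃ y : V, p ^ (n + 1) • y = p ^ n • a := by
  obtain ⟨j, N', hN', rfl⟩ := Nat.exists_eq_pow_mul_and_not_dvd hN.ne' p hp.ne_one
  have hcop : Nat.Coprime p N' := (Nat.Prime.coprime_iff_not_dvd hp).2 hN'
  obtain ⟨α, β, hαβ⟩ := Nat.isCoprime_iff_coprime.2 (Nat.Coprime.pow_left j hcop)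
  obtain ⟨γ, δ, hγδ⟩ := Nat.isCoprime_iff_coprime.2 (Nat.Coprime.pow_left (n + 1) hcop)
  -- decompose `a = a1 + a2`
  have h1 : p ^ j • (β • (N' • a)) = 0 := by
    rw [smul_comm, ← mul_smul, ha, smul_zero]
  have h2 : N' • (α • (p ^ j • a)) = 0 := by
    rw [smul_comm, ← mul_smul, mul_comm, ha, smul_zero]
  have hsum : a = β • (N' • a) + α • (p ^ j • a) := by
    calc a = (1 : ℤ) • a := (one_smul _ _).symm
      _ = (α * ((p ^ j : ℕ) : ℤ) + β * (N' : ℤ)) • a := by rw [hαβ]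
      _ = β • (N' • a) + α • (p ^ j • a) := by
        rw [add_smul, mul_smul, mul_smul, natCast_zsmul, natCast_zsmul, add_comm]
  obtain ⟨y1, hy1⟩ := pow_stab_alg p N0 hstab n hn j _ h1
  have h3 : α • (p ^ j • a) = p ^ (n + 1) • (γ • (α • (p ^ j • a))) := by
    calc α • (p ^ j • a) = (1 : ℤ) • (α • (p ^ j • a)) := (one_smul _ _).symm
      _ = (γ * ((p ^ (n + 1) : ℕ) : ℤ) + δ * (N' : ℤ)) • (α • (p ^ j • a)) := by rw [hγδ]
      _ = p ^ (n + 1) • (γ • (α • (p ^ j • a))) := by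
        rw [add_smul, mul_smul, mul_smul, natCast_zsmul, natCast_zsmul, h2, smul_zero, add_zero,
          smul_comm]
  refine ⟨y1 + p ^ n • (γ • (α • (p ^ j • a))), ?_⟩
  rw [smul_add, hy1, smul_comm (p ^ (n + 1)) (p ^ n), ← h3, ← smul_add, ← hsum]

end PowStab

section PowStabCat

variable {C : Type v} [SmallCategory C] [Abelian C]

theorem exists_stable_pow (hart : ∀ X : C, IsArtinianObject X) {A : Ind C} (hA : Cof A) (p : ℕ)
    (hp : 0 < p) : ∃ N0 : ℕ, ∀ n : ℕ, N0 ≤ n →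
      mulSub (p ^ n) (tor A (p ^ n * p)) = mulSub (p ^ N0) (tor A (p ^ N0 * p)) := by
  obtain ⟨S0, ⟨N0, rfl⟩, hmin⟩ := exists_minimal_inC hart (tor A p) (inC_tor hA p hp)
    {S | ∃ n : ℕ, S = mulSub (p ^ n) (tor A (p ^ n * p))} ⟨_, 0, rfl⟩
    (by rintro _ ⟨n, rfl⟩; exact mulSub_tor_le (p ^ n) p)
    (by rintro _ ⟨n, rfl⟩; exact inC_mulSub_tor hA (p ^ n) p (pow_pos hp n) hp)
  refine ⟨N0, fun n hn => hmin _ ⟨n, rfl⟩ ?_⟩
  obtain ⟨c, rfl⟩ := Nat.exists_eq_add_of_le hn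
  rw [le_iff_ρ_le]
  intro x hx
  obtain ⟨y, hy, rfl⟩ := (mem_ρ_mulSub _ _ _).1 hx
  rw [mem_ρ_tor] at hy
  refine (mem_ρ_mulSub _ _ _).2 ⟨p ^ c • y, ?_, ?_⟩
  · rw [mem_ρ_tor, ← mul_smul]
    have : p ^ N0 * p * p ^ c = p ^ (N0 + c) * p := by rw [pow_add]; ring
    rw [this, hy]
  · rw [← mul_smul, ← pow_add]

/-- the subobject of those `x` with `p^n x ∈ p^(n+1) A` -/
noncomputable def divSub (A : Ind C) (p n : ℕ) : Subobject A :=
  kernelSubobject ((p ^ n • 𝟙 A) ≫ cokernel.π (p ^ (n + 1) • 𝟙 A))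

theorem mem_ρ_divSub {A : Ind C} (p n : ℕ) (x : El A) :
    x ∈ ρ (divSub A p n) ↔ ∃ y : El A, p ^ (n + 1) • y = p ^ n • x := by
  rw [divSub, ρ_kernelSubobject, LinearMap.mem_ker, ap_comp, ap_nsmul_id]
  constructor
  · intro h
    obtain ⟨y, hy⟩ := exists_of_ap_cokernel _ _ h
    exact ⟨y, by rw [← ap_nsmul_id]; exact hy⟩
  · rintro ⟨y, hy⟩
    rw [← hy, ← ap_nsmul_id, ← ap_comp, cokernel.condition, ap_zero]

/-- the images of `p^n` on an object of cofinite type stabilise -/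
theorem exists_pow_stable (hart : ∀ X : C, IsArtinianObject X)
    (htor : ∀ X : C, ∃ n : ℕ, 0 < n ∧ n • 𝟙 X = 0) {A : Ind C} (hA : Cof A) (p : ℕ)
    (hp : p.Prime) : ∃ N0 : ℕ, ∀ n : ℕ, N0 ≤ n →
      imageSubobject (p ^ n • 𝟙 A) = imageSubobject (p ^ N0 • 𝟙 A) := by
  obtain ⟨N0, hN0⟩ := exists_stable_pow hart hA p hp.pos
  have hstab : ∀ j, N0 ≤ j → ∀ a : El A, (p ^ j * p) • a = 0 →
      ∃ b : El A, (p ^ (j + 1) * p) • b = 0 ∧ p ^ (j + 1) • b = p ^ j • a := by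
    intro j hj a ha
    have h1 : mulSub (p ^ j) (tor A (p ^ j * p)) = mulSub (p ^ (j + 1)) (tor A (p ^ (j + 1) * p)) := by
      rw [hN0 j hj, hN0 (j + 1) (by omega)]
    have h2 : p ^ j • a ∈ ρ (mulSub (p ^ j) (tor A (p ^ j * p))) :=
      (mem_ρ_mulSub _ _ _).2 ⟨a, (mem_ρ_tor _ _).2 ha, rfl⟩
    rw [h1] at h2
    obtain ⟨b, hb, hb2⟩ := (mem_ρ_mulSub _ _ _).1 h2
    exact ⟨b, (mem_ρ_tor _ _).1 hb, hb2⟩
  have hstep : ∀ n : ℕ, N0 ≤ n → ∀ x : El A, ∃ y : El A, p ^ (n + 1) • y = p ^ n • x := by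
    intro n hn
    have htop : divSub A p n = ⊤ := by
      apply eq_top_of_forall_torsion_le htor
      intro N hN
      rw [le_iff_ρ_le]
      intro a ha
      replace ha : N • a = 0 := (mem_ρ_tor (A := A) N a).1 ha
      exact (mem_ρ_divSub p n a).2 (pow_stab_alg2 p N0 hp hstab n hn N hN a ha)
    intro x
    exact (mem_ρ_divSub p n x).1 (by rw [htop, ρ_top]; trivial)
  have hle : ∀ c : ℕ, imageSubobject (p ^ N0 • 𝟙 A) ≤ imageSubobject (p ^ (N0 + c) • 𝟙 A) := by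
    intro c
    induction c with
    | zero => exact le_rfl
    | succ c ih =>
      refine ih.trans ?_
      rw [le_iff_ρ_le]
      intro x hx
      obtain ⟨z, rfl⟩ := (mem_ρ_imageSubobject_nsmul _ _).1 hx
      obtain ⟨y, hy⟩ := hstep (N0 + c) (by omega) z
      exact (mem_ρ_imageSubobject_nsmul _ _).2 ⟨y, hy⟩
  refine ⟨N0, fun n hn => ?_⟩
  obtain ⟨c, rfl⟩ := Nat.exists_eq_add_of_le hn
  refine le_antisymm ?_ (hle c)
  rw [le_iff_ρ_le]
  intro x hx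
  obtain ⟨z, rfl⟩ := (mem_ρ_imageSubobject_nsmul _ _).1 hx
  exact (mem_ρ_imageSubobject_nsmul _ _).2 ⟨p ^ c • z, by rw [← mul_smul, ← pow_add]⟩

end PowStabCat

end Groth.Agent.Lib.R2Lead.IndCof
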