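import Mathlib
import Groth.Agent.Lib.R2LeadIndCofF

set_option autoImplicit false
universe v u

namespace Groth.Agent.Lib.R2Lead.IndCof

open CategoryTheory CategoryTheory.Limits

section General

variable {𝒜 : Type u} [Category.{v} 𝒜] [Abelian 𝒜]

/-- the `m`-torsion of a subobject `S`, as a subobject of the ambient object -/
noncomputable def torSub {A : 𝒜} (S : Subobject A) (m : ℕ) : Subobject A :=
  Subobject.mk (kernel.ι (m • 𝟙 (S : 𝒜)) ≫ S.arrow)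

theorem mem_ρ_torSub {A : 𝒜} (S : Subobject A) (m : ℕ) (x : El A) :
    x ∈ ρ (torSub S m) ↔ x ∈ ρ S ∧ m • x = 0 := by
  rw [torSub, ρ_mk]
  constructor
  · rintro ⟨k, rfl⟩
    refine ⟨⟨ap (kernel.ι _) k, by rw [ap_comp]⟩, ?_⟩
    have h1 : ap (m • 𝟙 (S : 𝒜)) (ap (kernel.ι (m • 𝟙 (S : 𝒜))) k) = 0 := by
      rw [← ap_comp, kernel.condition, ap_zero]
    rw [ap_nsmul_id] at h1
    rw [ap_comp, ← map_nsmul, h1, map_zero]
  · rintro ⟨⟨s, rfl⟩, hx⟩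
    have hs : ap (m • 𝟙 (S : 𝒜)) s = 0 := by
      apply ap_injective_of_mono S.arrow
      rw [ap_nsmul_id, map_nsmul, hx, map_zero]
    obtain ⟨k, hk⟩ := (exact_iff_ap _).1 (ShortComplex.kernelSequence_exact (m • 𝟙 (S : 𝒜))) s hs
    refine ⟨k, ?_⟩
    rw [ap_comp]
    exact congrArg _ hk

/-- the underlying object of `torSub S m` is the kernel of `m` on `S` -/
noncomputable def torSubIso {A : 𝒜} (S : Subobject A) (m : ℕ) :
    (torSub S m : 𝒜) ≅ kernel (m • 𝟙 (S : 𝒜)) :=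
  Subobject.underlyingIso _

theorem epi_nsmul_iff {A : 𝒜} (S : Subobject A) (k : ℕ) :
    Epi (k • 𝟙 (S : 𝒜)) ↔ ∀ x ∈ ρ S, ∃ y ∈ ρ S, k • y = x := by
  constructor
  · intro h x hx
    obtain ⟨s, rfl⟩ := hx
    obtain ⟨s', hs'⟩ := ap_surjective_of_epi (k • 𝟙 (S : 𝒜)) s
    refine ⟨ap S.arrow s', ⟨s', rfl⟩, ?_⟩
    rw [← map_nsmul, ← ap_nsmul_id, hs']
  · intro h
    apply epi_of_ap_surjective
    intro s
    obtain ⟨y, ⟨s', rfl⟩, hy⟩ := h (ap S.arrow s) ⟨s, rfl⟩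
    refine ⟨s', ?_⟩
    apply ap_injective_of_mono S.arrow
    rw [ap_nsmul_id, map_nsmul, hy]

end General

section DivPart

variable {C : Type v} [SmallCategory C] [Abelian C]

theorem nsmul_id_eq_zero_of_iso {X : C} {P : Ind C} (e : (Ind.yoneda (C := C)).obj X ≅ P) {n : ℕ}
    (h : n • 𝟙 X = 0) : n • 𝟙 P = 0 := by
  have h1 := nsmul_id_yoneda_eq_zero (C := C) h
  have : n • 𝟙 P = e.inv ≫ (n • 𝟙 ((Ind.yoneda (C := C)).obj X)) ≫ e.hom := by simp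
  rw [this, h1]
  simp

/-- iterate divisibility by `p` -/
theorem exists_pow_smul_of_div {V : Type*} [AddCommGroup V] (P : V → Prop) (p : ℕ)
    (h : ∀ x, P x → ∃ y, P y ∧ p • y = x) (e : ℕ) : ∀ x, P x → ∃ y, P y ∧ p ^ e • y = x := by
  induction e with
  | zero => intro x hx; exact ⟨x, hx, by rw [pow_zero, one_smul]⟩
  | succ e ih =>
    intro x hx
    obtain ⟨y, hy, rfl⟩ := ih x hx
    obtain ⟨z, hz, rfl⟩ := h y hy
    exact ⟨z, hz, by rw [pow_succ, mul_smul]⟩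

variable (hart : ∀ X : C, IsArtinianObject X) (p : ℕ) (hp : p.Prime)
  (htor : ∀ X : C, ∃ n : ℕ, (p ^ n) • 𝟙 X = 0) (A : Ind C)

include hp htor in
theorem divPart_cof (hA : ∀ n : ℕ, InC (kernel ((p ^ n) • 𝟙 A))) (N : ℕ) (n : ℕ) :
    InC (kernel ((p ^ n) • 𝟙 ((imageSubobject ((p ^ N) • 𝟙 A) : Subobject A) : Ind C))) := by
  have hcof := cof_of_prime p hp htor hA
  have hT : InC (mulSub (p ^ N) (tor A (p ^ N * p ^ n)) : Ind C) :=
    inC_mulSub_tor hcof _ _ (pow_pos hp.pos N) (pow_pos hp.pos n)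
  have heq : torSub (imageSubobject ((p ^ N) • 𝟙 A)) (p ^ n) =
      mulSub (p ^ N) (tor A (p ^ N * p ^ n)) := by
    rw [eq_iff_ρ_eq]
    ext x
    rw [mem_ρ_torSub, mem_ρ_mulSub, mem_ρ_imageSubobject_nsmul]
    constructor
    · rintro ⟨⟨a, rfl⟩, hx⟩
      refine ⟨a, ?_, rfl⟩
      rw [mem_ρ_tor, mul_comm, mul_smul, hx]
    · rintro ⟨y, hy, rfl⟩
      rw [mem_ρ_tor] at hy
      exact ⟨⟨y, rfl⟩, by rw [← mul_smul, mul_comm, hy]⟩
  refine inC_of_iso (torSubIso _ _) ?_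
  rw [heq]
  exact hT

theorem divPart_epi (N : ℕ)
    (hN : ∀ n : ℕ, N ≤ n → imageSubobject ((p ^ n) • 𝟙 A) = imageSubobject ((p ^ N) • 𝟙 A)) :
    Epi (p • 𝟙 ((imageSubobject ((p ^ N) • 𝟙 A) : Subobject A) : Ind C)) := by
  rw [epi_nsmul_iff]
  intro x hx
  rw [← hN (N + 1) (by omega)] at hx
  obtain ⟨a, rfl⟩ := (mem_ρ_imageSubobject_nsmul _ _).1 hx
  exact ⟨p ^ N • a, (mem_ρ_imageSubobject_nsmul _ _).2 ⟨a, rfl⟩, by rw [← mul_smul, ← pow_succ']⟩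

theorem divPart_largest (N : ℕ) (D : Subobject A) (hD : Epi (p • 𝟙 (D : Ind C))) :
    D ≤ imageSubobject ((p ^ N) • 𝟙 A) := by
  rw [epi_nsmul_iff] at hD
  rw [le_iff_ρ_le]
  intro x hx
  obtain ⟨y, -, rfl⟩ := exists_pow_smul_of_div (fun x => x ∈ ρ D) p hD N x hx
  exact (mem_ρ_imageSubobject_nsmul _ _).2 ⟨y, rfl⟩

include htor in
theorem divPart_quot (N : ℕ)
    (hN : ∀ n : ℕ, N ≤ n → imageSubobject ((p ^ n) • 𝟙 A) = imageSubobject ((p ^ N) • 𝟙 A))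
    (Q : Ind C) (q : A ⟶ Q) (hQ : InC Q) :
    (imageSubobject ((p ^ N) • 𝟙 A)).arrow ≫ q = 0 := by
  obtain ⟨X, ⟨e⟩⟩ := hQ
  obtain ⟨k, hk⟩ := htor X
  have hQ0 : (p ^ k) • 𝟙 Q = 0 := nsmul_id_eq_zero_of_iso e hk
  apply eq_zero_of_ap
  intro d
  have hx : ∀ x ∈ ρ (imageSubobject ((p ^ N) • 𝟙 A)), ap q x = 0 := by
    intro x hx
    rw [← hN (N + k) (by omega)] at hx
    obtain ⟨a, rfl⟩ := (mem_ρ_imageSubobject_nsmul _ _).1 hx
    rw [map_nsmul, pow_add, mul_smul, ← ap_nsmul_id (p ^ k), hQ0, ap_zero, smul_zero]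
  rw [ap_comp]
  exact hx _ ⟨d, rfl⟩

end DivPart

end Groth.Agent.Lib.R2Lead.IndCof
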