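import Mathlib
import Groth.Agent.Lib.R2LeadIndCofG

set_option autoImplicit false
universe v u

namespace Groth.Agent.Lib.R2Lead.IndCof

open CategoryTheory CategoryTheory.Limits

section Chain

variable {C : Type v} [SmallCategory C] [Abelian C]

/-- if `X₁ ⟶ X₂ ⟶ X₃` is exact with the second map epi and `coker (X₁ ⟶ X₂) ∈ C`
then `X₃ ∈ C` -/
theorem inC_of_exact_of_epi' (S : ShortComplex (Ind C)) (hS : S.Exact) [Epi S.g]
    (h : InC (cokernel S.f)) : InC S.X₃ := by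
  have hc := hS.gIsCokernel
  have e : cokernel S.f ≅ S.X₃ :=
    (colimit.isColimit (parallelPair S.f 0)).coconePointUniqueUpToIso hc
  exact inC_of_iso e h

/-- pure algebra: a divisible subgroup with the same `p`-torsion contains all `p`-power torsion -/
theorem le_of_div_of_torsion {V : Type*} [AddCommGroup V] (PD PD' : AddSubgroup V) (p : ℕ)
    (hdiv : ∀ x ∈ PD', ∃ y ∈ PD', p • y = x) (hle : PD' ≤ PD)
    (htors : ∀ x ∈ PD, p • x = 0 → x ∈ PD') :
    ∀ (j : ℕ) (x : V), x ∈ PD → p ^ j • x = 0 → x ∈ PD' := by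
  intro j
  induction j with
  | zero =>
    intro x _ hx0
    rw [pow_zero, one_smul] at hx0
    rw [hx0]; exact PD'.zero_mem
  | succ j ih =>
    intro x hx hx0
    have h1 : p ^ j • x ∈ PD' := by
      apply htors _ (PD.nsmul_mem hx _)
      rw [← mul_smul, ← pow_succ']; exact hx0
    obtain ⟨x', hx', hx'2⟩ := exists_pow_smul_of_div (fun x => x ∈ PD') p hdiv j _ h1
    have h2 : x - x' ∈ PD' := by
      apply ih _ (PD.sub_mem hx (hle hx'))
      rw [smul_sub, hx'2, sub_self]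
    have : x = (x - x') + x' := by abel
    rw [this]
    exact PD'.add_mem h2 hx'

/-- stabilisation of `p^n S` for a subobject `S` of cofinite type -/
theorem exists_stableAt (hart : ∀ X : C, IsArtinianObject X)
    (htor : ∀ X : C, ∃ n : ℕ, 0 < n ∧ n • 𝟙 X = 0) {A : Ind C} (S : Subobject A)
    (hS : Cof (S : Ind C)) (p : ℕ) (hp : p.Prime) :
    ∃ N : ℕ, ∀ n : ℕ, N ≤ n → ∀ y ∈ ρ S, ∃ y' ∈ ρ S, p ^ n • y' = p ^ N • y := by
  obtain ⟨N, hN⟩ := exists_pow_stable hart htor hS p hp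
  refine ⟨N, fun n hn y hy => ?_⟩
  obtain ⟨s, rfl⟩ := hy
  have h1 : p ^ N • s ∈ ρ (imageSubobject (p ^ N • 𝟙 (S : Ind C))) :=
    (mem_ρ_imageSubobject_nsmul _ _).2 ⟨s, rfl⟩
  rw [← hN n hn] at h1
  obtain ⟨s', hs'⟩ := (mem_ρ_imageSubobject_nsmul _ _).1 h1
  exact ⟨ap S.arrow s', ⟨s', rfl⟩, by rw [← map_nsmul, hs', map_nsmul]⟩

/-- a `p`-divisible subobject with the same `p`-torsion as a bigger one is equal to it -/
theorem le_of_divisible_of_torsion (p : ℕ) (hp : p.Prime)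
    (htor : ∀ X : C, ∃ n : ℕ, (p ^ n) • 𝟙 X = 0) {A : Ind C} (D D' : Subobject A)
    (hle : D' ≤ D) (hdiv : ∀ x ∈ ρ D', ∃ y ∈ ρ D', p • y = x)
    (htors : ∀ x ∈ ρ D, p • x = 0 → x ∈ ρ D') : D ≤ D' := by
  have htop : kernelSubobject (D.arrow ≫ cokernel.π D'.arrow) = ⊤ := by
    apply eq_top_of_forall_torsion_le (htor_of_prime p hp htor)
    intro N' hN'
    rw [le_iff_ρ_le]
    intro d hd
    replace hd : N' • d = 0 := (mem_ρ_tor (A := (D : Ind C)) N' d).1 hd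
    rw [ρ_kernelSubobject, LinearMap.mem_ker, ap_comp]
    obtain ⟨j, n', hn', rfl⟩ := Nat.exists_eq_pow_mul_and_not_dvd hN'.ne' p hp.ne_one
    have hcop : Nat.Coprime n' p := (Nat.Coprime.symm ((Nat.Prime.coprime_iff_not_dvd hp).2 hn'))
    haveI := mono_nsmul_of_coprime p htor A n' hcop
    have hx0 : p ^ j • ap D.arrow d = 0 := by
      apply ap_injective_of_mono (n' • 𝟙 A)
      rw [ap_nsmul_id, map_zero, ← mul_smul, mul_comm, ← map_nsmul, hd, map_zero]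
    have hx : ap D.arrow d ∈ ρ D' :=
      le_of_div_of_torsion (ρ D).toAddSubgroup (ρ D').toAddSubgroup p hdiv
        ((le_iff_ρ_le _ _).1 hle) htors j _ ⟨d, rfl⟩ hx0
    obtain ⟨d', hd'⟩ := hx
    rw [← hd', ← ap_comp, cokernel.condition, ap_zero]
  rw [le_iff_ρ_le]
  rintro _ ⟨d, rfl⟩
  have hd : d ∈ ρ (kernelSubobject (D.arrow ≫ cokernel.π D'.arrow)) := by
    rw [htop, ρ_top]; trivial
  rw [ρ_kernelSubobject, LinearMap.mem_ker, ap_comp] at hd
  obtain ⟨d', hd'⟩ := exists_of_ap_cokernel _ _ hd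
  exact ⟨d', hd'⟩

/-- descending chains of cofinite type subobjects of a cofinite type object stabilise -/
theorem chain_stable (hart : ∀ X : C, IsArtinianObject X) (p : ℕ) (hp : p.Prime)
    (htor : ∀ X : C, ∃ n : ℕ, (p ^ n) • 𝟙 X = 0) (A : Ind C)
    (hA : ∀ n : ℕ, InC (kernel ((p ^ n) • 𝟙 A))) (S : ℕ → Subobject A) (hS : Antitone S)
    (hcof : ∀ m n : ℕ, InC (kernel ((p ^ n) • 𝟙 ((S m : Subobject A) : Ind C)))) :
    ∃ N : ℕ, ∀ m : ℕ, N ≤ m → S m = S N := by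
  have htor' := htor_of_prime p hp htor
  have hcofA : Cof A := cof_of_prime p hp htor hA
  have hcofS : ∀ m, Cof (S m : Ind C) := fun m => cof_of_prime p hp htor (hcof m)
  choose Nm hNm using fun m => exists_stableAt hart htor' (S m) (hcofS m) p hp
  -- the divisible parts
  let D : ℕ → Subobject A := fun m => mulSub (p ^ Nm m) (S m)
  have hDmem : ∀ m x, x ∈ ρ (D m) ↔ ∃ y ∈ ρ (S m), p ^ Nm m • y = x :=
    fun m x => mem_ρ_mulSub _ _ _
  have hDle : ∀ m, D m ≤ S m := by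
    intro m
    rw [le_iff_ρ_le]
    intro x hx
    obtain ⟨y, hy, rfl⟩ := (hDmem m x).1 hx
    exact nsmul_mem hy _
  have hDdiv : ∀ m, ∀ x ∈ ρ (D m), ∃ y ∈ ρ (D m), p • y = x := by
    intro m x hx
    obtain ⟨y, hy, rfl⟩ := (hDmem m x).1 hx
    obtain ⟨y', hy', h⟩ := hNm m (Nm m + 1) (by omega) y hy
    exact ⟨p ^ Nm m • y', (hDmem m _).2 ⟨y', hy', rfl⟩, by rw [← mul_smul, ← pow_succ', h]⟩
  have hDlargest : ∀ m (D' : Subobject A), D' ≤ S m →
      (∀ x ∈ ρ D', ∃ y ∈ ρ D', p • y = x) → D' ≤ D m := by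
    intro m D' hle hdiv
    rw [le_iff_ρ_le]
    intro x hx
    obtain ⟨y, hy, rfl⟩ := exists_pow_smul_of_div (fun x => x ∈ ρ D') p hdiv (Nm m) x hx
    exact (hDmem m _).2 ⟨y, (le_iff_ρ_le _ _).1 hle hy, rfl⟩
  have hDanti : Antitone D := by
    apply antitone_nat_of_succ_le
    intro m
    exact hDlargest m (D (m + 1)) ((hDle (m + 1)).trans (hS (Nat.le_succ m))) (hDdiv (m + 1))
  -- the `p`-torsion of the divisible parts
  let E : ℕ → Subobject A := fun m => mulSub (p ^ Nm m) (torSub (S m) (p ^ (Nm m + 1)))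
  have hEmem : ∀ m x, x ∈ ρ (E m) ↔ x ∈ ρ (D m) ∧ p • x = 0 := by
    intro m x
    rw [hDmem]
    change x ∈ ρ (mulSub (p ^ Nm m) (torSub (S m) (p ^ (Nm m + 1)))) ↔ _
    rw [mem_ρ_mulSub]
    constructor
    · rintro ⟨y, hy, rfl⟩
      rw [mem_ρ_torSub] at hy
      exact ⟨⟨y, hy.1, rfl⟩, by rw [← mul_smul, ← pow_succ']; exact hy.2⟩
    · rintro ⟨⟨y, hy, rfl⟩, hx⟩
      refine ⟨y, (mem_ρ_torSub _ _ _).2 ⟨hy, ?_⟩, rfl⟩
      rw [pow_succ', mul_smul]; exact hx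
  have hEle : ∀ m, E m ≤ tor A p := by
    intro m
    rw [le_iff_ρ_le]
    intro x hx
    exact (mem_ρ_tor _ _).2 ((hEmem m x).1 hx).2
  have hEinC : ∀ m, InC (E m : Ind C) := by
    intro m
    refine inC_imageSubobject_of_le _ (tor A p) ?_ (inC_tor hcofA p hp.pos) (hEle m)
    exact inC_of_iso (torSubIso _ _).symm (hcof m (Nm m + 1))
  have hEanti : ∀ m m', m ≤ m' → E m' ≤ E m := by
    intro m m' hmm'
    rw [le_iff_ρ_le]
    intro x hx
    obtain ⟨h1, h2⟩ := (hEmem m' x).1 hx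
    exact (hEmem m x).2 ⟨(le_iff_ρ_le _ _).1 (hDanti hmm') h1, h2⟩
  obtain ⟨_, ⟨m0, rfl⟩, hmin⟩ := exists_minimal_inC hart (tor A p) (inC_tor hcofA p hp.pos)
    {T | ∃ m, T = E m} ⟨_, 0, rfl⟩ (by rintro _ ⟨m, rfl⟩; exact hEle m)
    (by rintro _ ⟨m, rfl⟩; exact hEinC m)
  have hE : ∀ m, m0 ≤ m → E m = E m0 := fun m hm => hmin _ ⟨m, rfl⟩ (hEanti m0 m hm)
  have hDeq : ∀ m, m0 ≤ m → D m = D m0 := by
    intro m hm
    apply le_antisymm (hDanti hm)
    apply le_of_divisible_of_torsion p hp htor (D m0) (D m) (hDanti hm) (hDdiv m)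
    intro x hx hpx
    have h1 : x ∈ ρ (E m0) := (hEmem m0 x).2 ⟨hx, hpx⟩
    rw [← hE m hm] at h1
    exact ((hEmem m x).1 h1).1
  -- pass to the quotient by the common divisible part
  let Im : ℕ → Subobject (cokernel (D m0).arrow) :=
    fun m => imageSubobject ((S m).arrow ≫ cokernel.π (D m0).arrow)
  have hImmem : ∀ m q, q ∈ ρ (Im m) ↔ ∃ y ∈ ρ (S m), ap (cokernel.π (D m0).arrow) y = q := by
    intro m q
    change q ∈ ρ (imageSubobject ((S m).arrow ≫ cokernel.π (D m0).arrow)) ↔ _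
    rw [ρ_imageSubobject]
    constructor
    · rintro ⟨s, rfl⟩
      exact ⟨ap (S m).arrow s, ⟨s, rfl⟩, by rw [ap_comp]⟩
    · rintro ⟨y, ⟨s, rfl⟩, rfl⟩
      exact ⟨s, by rw [ap_comp]⟩
  have hIminC : ∀ m, m0 ≤ m → InC (Im m : Ind C) := by
    intro m hm
    have hc : factorThruImageSubobject ((S m).arrow ≫ cokernel.π (D m0).arrow) ≫ (Im m).arrow =
        (S m).arrow ≫ cokernel.π (D m0).arrow := imageSubobject_arrow_comp _
    have hzero : ((p ^ Nm m) • 𝟙 (S m : Ind C)) ≫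
        factorThruImageSubobject ((S m).arrow ≫ cokernel.π (D m0).arrow) = 0 := by
      rw [← cancel_mono (Im m).arrow, Category.assoc, hc, zero_comp]
      apply eq_zero_of_ap
      intro s
      rw [ap_comp, ap_comp, ap_nsmul_id, map_nsmul]
      have h1 : p ^ Nm m • ap (S m).arrow s ∈ ρ (D m0) := by
        rw [← hDeq m hm]
        exact (hDmem m _).2 ⟨_, ⟨s, rfl⟩, rfl⟩
      obtain ⟨d, hd⟩ := h1
      rw [← hd, ← ap_comp, cokernel.condition, ap_zero]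
    have hex : (ShortComplex.mk _ _ hzero).Exact := by
      rw [exact_iff_ap]
      intro s hs
      change ap (factorThruImageSubobject ((S m).arrow ≫ cokernel.π (D m0).arrow)) s = 0 at hs
      have h1 : ap (cokernel.π (D m0).arrow) (ap (S m).arrow s) = 0 := by
        rw [← ap_comp, ← hc, ap_comp, hs, map_zero]
      obtain ⟨d, hd⟩ := exists_of_ap_cokernel _ _ h1
      have h2 : ap (S m).arrow s ∈ ρ (D m) := by
        rw [hDeq m hm]; exact ⟨d, hd⟩
      obtain ⟨y, ⟨s', rfl⟩, hy⟩ := (hDmem m _).1 h2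
      refine ⟨s', ?_⟩
      apply ap_injective_of_mono (S m).arrow
      change ap (S m).arrow (ap ((p ^ Nm m) • 𝟙 (S m : Ind C)) s') = _
      rw [ap_nsmul_id, map_nsmul, hy]
    exact inC_of_exact_of_epi' (ShortComplex.mk _ _ hzero) hex
      (inC_cokernel_nsmul hart htor' (hcofS m) _ (pow_pos hp.pos _))
  have hImanti : ∀ m m', m ≤ m' → Im m' ≤ Im m := by
    intro m m' hmm'
    rw [le_iff_ρ_le]
    intro q hq
    obtain ⟨y, hy, rfl⟩ := (hImmem m' q).1 hq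
    exact (hImmem m _).2 ⟨y, (le_iff_ρ_le _ _).1 (hS hmm') hy, rfl⟩
  obtain ⟨_, ⟨m1, hm1, rfl⟩, hmin2⟩ := exists_minimal_inC hart (Im m0) (hIminC m0 le_rfl)
    {T | ∃ m, m0 ≤ m ∧ T = Im m} ⟨_, m0, le_rfl, rfl⟩
    (by rintro _ ⟨m, hm, rfl⟩; exact hImanti m0 m hm)
    (by rintro _ ⟨m, hm, rfl⟩; exact hIminC m hm)
  refine ⟨m1, fun m hm => ?_⟩
  have hIm : Im m = Im m1 := hmin2 _ ⟨m, hm1.trans hm, rfl⟩ (hImanti m1 m hm)
  apply le_antisymm (hS hm)
  rw [le_iff_ρ_le]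
  intro y hy
  have h1 : ap (cokernel.π (D m0).arrow) y ∈ ρ (Im m1) := (hImmem m1 _).2 ⟨y, hy, rfl⟩
  rw [← hIm] at h1
  obtain ⟨y', hy', hyy'⟩ := (hImmem m _).1 h1
  have h0 : ap (cokernel.π (D m0).arrow) (y - y') = 0 := by rw [map_sub, hyy', sub_self]
  obtain ⟨d, hd⟩ := exists_of_ap_cokernel _ _ h0
  have hdm : y - y' ∈ ρ (S m) := by
    have h2 : D m0 ≤ S m := by rw [← hDeq m (hm1.trans hm)]; exact hDle m
    exact (le_iff_ρ_le _ _).1 h2 ⟨d, hd⟩
  have h3 : y = (y - y') + y' := by abel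
  rw [h3]
  exact Submodule.add_mem _ hdm hy'

end Chain

end Groth.Agent.Lib.R2Lead.IndCof
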