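import Mathlib
import Groth.Agent.Lib.R2LeadIndCofH

set_option autoImplicit false
universe v u

namespace Groth.Agent.Lib.R2Lead.IndCof

open CategoryTheory CategoryTheory.Limits

section Largest

variable {C : Type v} [SmallCategory C] [Abelian C]

theorem mulSub_mono {A : Ind C} (k : ℕ) {S T : Subobject A} (h : S ≤ T) :
    mulSub k S ≤ mulSub k T := by
  rw [le_iff_ρ_le]
  intro x hx
  obtain ⟨y, hy, rfl⟩ := (mem_ρ_mulSub _ _ _).1 hx
  exact (mem_ρ_mulSub _ _ _).2 ⟨y, (le_iff_ρ_le _ _).1 h hy, rfl⟩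

/-- divisibility of a subobject in lattice terms -/
theorem epi_nsmul_iff_le_mulSub {A : Ind C} (S : Subobject A) (k : ℕ) :
    Epi (k • 𝟙 (S : Ind C)) ↔ S ≤ mulSub k S := by
  rw [epi_nsmul_iff, le_iff_ρ_le]
  constructor
  · intro h x hx
    obtain ⟨y, hy, rfl⟩ := h x hx
    exact (mem_ρ_mulSub _ _ _).2 ⟨y, hy, rfl⟩
  · intro h x hx
    obtain ⟨y, hy, rfl⟩ := (mem_ρ_mulSub _ _ _).1 (h hx)
    exact ⟨y, hy, rfl⟩

/-- a supremum of divisible subobjects is divisible -/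
theorem epi_nsmul_sSup {A : Ind C} (𝒟 : Set (Subobject A)) (k : ℕ)
    (h : ∀ D' ∈ 𝒟, Epi (k • 𝟙 (D' : Ind C))) : Epi (k • 𝟙 ((sSup 𝒟 : Subobject A) : Ind C)) := by
  rw [epi_nsmul_iff_le_mulSub]
  apply sSup_le
  intro D' hD'
  exact ((epi_nsmul_iff_le_mulSub D' k).1 (h D' hD')).trans (mulSub_mono k (le_sSup hD'))

/-- the `n`-torsion of the quotient by an `n`-divisible subobject -/
theorem inC_kernel_nsmul_cokernel {A : Ind C} (D : Subobject A) (n : ℕ)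
    (hdiv : Epi (n • 𝟙 (D : Ind C))) (h1 : InC (torSub D n : Ind C))
    (h2 : InC (tor A n : Ind C)) : InC (kernel (n • 𝟙 (cokernel D.arrow))) := by
  have hle : torSub D n ≤ tor A n := by
    rw [le_iff_ρ_le]
    intro x hx
    exact (mem_ρ_tor _ _).2 ((mem_ρ_torSub _ _ _).1 hx).2
  have hu : Subobject.ofLE _ _ hle ≫ (tor A n).arrow = (torSub D n).arrow :=
    Subobject.ofLE_arrow hle
  have hc0 : ((tor A n).arrow ≫ cokernel.π D.arrow) ≫ (n • 𝟙 (cokernel D.arrow)) = 0 := by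
    apply eq_zero_of_ap
    intro t
    rw [ap_comp, ap_comp, ap_nsmul_id, ← map_nsmul, nsmul_arrow_tor, map_zero]
  have hc : kernel.lift (n • 𝟙 (cokernel D.arrow)) _ hc0 ≫ kernel.ι _ =
      (tor A n).arrow ≫ cokernel.π D.arrow := kernel.lift_ι _ _ _
  have huc : Subobject.ofLE _ _ hle ≫ kernel.lift (n • 𝟙 (cokernel D.arrow)) _ hc0 = 0 := by
    rw [← cancel_mono (kernel.ι (n • 𝟙 (cokernel D.arrow))), Category.assoc, hc, ← Category.assoc,
      hu, zero_comp]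
    apply eq_zero_of_ap
    intro s
    have h3 : ap (torSub D n).arrow s ∈ ρ D := ((mem_ρ_torSub _ _ _).1 ⟨s, rfl⟩).1
    obtain ⟨d, hd⟩ := h3
    rw [ap_comp, ← hd, ← ap_comp, cokernel.condition, ap_zero]
  haveI : Epi (kernel.lift (n • 𝟙 (cokernel D.arrow)) _ hc0) := by
    apply epi_of_ap_surjective
    intro q'
    have hq : n • ap (kernel.ι (n • 𝟙 (cokernel D.arrow))) q' = 0 := by
      rw [← ap_nsmul_id, ← ap_comp, kernel.condition, ap_zero]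
    obtain ⟨a, ha⟩ := ap_surjective_of_epi (cokernel.π D.arrow)
      (ap (kernel.ι (n • 𝟙 (cokernel D.arrow))) q')
    have h3 : ap (cokernel.π D.arrow) (n • a) = 0 := by rw [map_nsmul, ha, hq]
    obtain ⟨d, hd⟩ := exists_of_ap_cokernel _ _ h3
    obtain ⟨d', hd'⟩ := ap_surjective_of_epi (n • 𝟙 (D : Ind C)) d
    rw [ap_nsmul_id] at hd'
    have h4 : n • (a - ap D.arrow d') = 0 := by
      rw [smul_sub, ← map_nsmul, hd', hd, sub_self]
    obtain ⟨t, ht⟩ := exists_of_mem_tor _ _ h4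
    refine ⟨t, ?_⟩
    apply ap_injective_of_mono (kernel.ι (n • 𝟙 (cokernel D.arrow)))
    rw [← ap_comp, hc, ap_comp, ht, map_sub, ha, ← ap_comp, cokernel.condition, ap_zero, sub_zero]
  have hex : (ShortComplex.mk _ _ huc).Exact := by
    rw [exact_iff_ap]
    intro t ht
    change ap (kernel.lift (n • 𝟙 (cokernel D.arrow)) _ hc0) t = 0 at ht
    have h3 : ap (cokernel.π D.arrow) (ap (tor A n).arrow t) = 0 := by
      rw [← ap_comp, ← hc, ap_comp, ht, map_zero]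
    obtain ⟨d, hd⟩ := exists_of_ap_cokernel _ _ h3
    have h4 : ap (tor A n).arrow t ∈ ρ (torSub D n) :=
      (mem_ρ_torSub _ _ _).2 ⟨⟨d, hd⟩, nsmul_arrow_tor _ _⟩
    obtain ⟨s, hs⟩ := h4
    refine ⟨s, ?_⟩
    apply ap_injective_of_mono (tor A n).arrow
    change ap (tor A n).arrow (ap (Subobject.ofLE _ _ hle) s) = _
    rw [← ap_comp, hu, hs]
  exact inC_of_exact_of_epi (ShortComplex.mk _ _ huc) hex h1 h2

/-- the largest divisible subobject -/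
theorem exists_largest_divisible (hart : ∀ X : C, IsArtinianObject X)
    (htor : ∀ X : C, ∃ n : ℕ, 0 < n ∧ n • 𝟙 X = 0) (A : Ind C) (hA : Cof A) :
    ∃ D : Subobject A, (∀ k : ℕ, 0 < k → Epi (k • 𝟙 (D : Ind C))) ∧
      (∀ D' : Subobject A, (∀ k : ℕ, 0 < k → Epi (k • 𝟙 (D' : Ind C))) → D' ≤ D) ∧
      (∀ n : ℕ, 0 < n → InC (kernel (n • 𝟙 (D : Ind C)))) ∧
      (∀ n : ℕ, 0 < n → InC (kernel (n • 𝟙 (cokernel D.arrow)))) := by
  let 𝒟 : Set (Subobject A) := {D' | ∀ k : ℕ, 0 < k → Epi (k • 𝟙 (D' : Ind C))}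
  have hDdiv : ∀ k : ℕ, 0 < k → Epi (k • 𝟙 ((sSup 𝒟 : Subobject A) : Ind C)) :=
    fun k hk => epi_nsmul_sSup 𝒟 k (fun D' hD' => hD' k hk)
  have hDlargest : ∀ D' : Subobject A, (∀ k : ℕ, 0 < k → Epi (k • 𝟙 (D' : Ind C))) →
      D' ≤ sSup 𝒟 := fun D' hD' => le_sSup hD'
  -- the stable values
  choose kk hkk using fun n : {n : ℕ // 0 < n} => exists_stable hart hA n.1 n.2
  let J : {n : ℕ // 0 < n} → Subobject A := fun n => mulSub (kk n) (tor A (kk n * n.1))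
  have hJmem : ∀ (n : {n : ℕ // 0 < n}) (k : ℕ), 0 < k → kk n ∣ k → ∀ x, x ∈ ρ (J n) ↔
      ∃ y : El A, (k * n.1) • y = 0 ∧ k • y = x := by
    intro n k hk hdvd x
    change x ∈ ρ (mulSub (kk n) (tor A (kk n * n.1))) ↔ _
    rw [← (hkk n).2 k hk hdvd, mem_ρ_mulSub]
    constructor
    · rintro ⟨y, hy, rfl⟩
      exact ⟨y, (mem_ρ_tor _ _).1 hy, rfl⟩
    · rintro ⟨y, hy, rfl⟩
      exact ⟨y, (mem_ρ_tor _ _).2 hy, rfl⟩
  have hJstep : ∀ (n : {n : ℕ // 0 < n}) (k : ℕ) (hk : 0 < k),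
      J n ≤ mulSub k (J ⟨n.1 * k, Nat.mul_pos n.2 hk⟩) := by
    intro n k hk
    rw [le_iff_ρ_le]
    intro x hx
    set n' : {n : ℕ // 0 < n} := ⟨n.1 * k, Nat.mul_pos n.2 hk⟩ with hn'
    have hpos : 0 < kk n * kk n' := Nat.mul_pos (hkk n).1 (hkk n').1
    obtain ⟨a, ha, rfl⟩ := (hJmem n (k * (kk n * kk n')) (Nat.mul_pos hk hpos)
      (Dvd.dvd.mul_left (Dvd.intro _ rfl) k) x).1 hx
    refine (mem_ρ_mulSub _ _ _).2 ⟨(kk n * kk n') • a, ?_, ?_⟩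
    · refine (hJmem n' (kk n * kk n') hpos (Dvd.intro_left _ rfl) _).2 ⟨a, ?_, rfl⟩
      have : kk n * kk n' * (n.1 * k) = k * (kk n * kk n') * n.1 := by ring
      change (kk n * kk n' * (n.1 * k)) • a = 0
      rw [this, ha]
    · rw [← mul_smul]
  -- the union of the stable values is divisible
  have hJdiv : ∀ k : ℕ, 0 < k → Epi (k • 𝟙 ((⨆ n, J n : Subobject A) : Ind C)) := by
    intro k hk
    rw [epi_nsmul_iff_le_mulSub]
    apply iSup_le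
    intro n
    exact (hJstep n k hk).trans (mulSub_mono k (le_iSup J _))
  have hJle : ∀ n, J n ≤ sSup 𝒟 := fun n => (le_iSup J n).trans (hDlargest _ hJdiv)
  have htorD : ∀ n : {n : ℕ // 0 < n}, torSub (sSup 𝒟) n.1 = J n := by
    intro n
    rw [eq_iff_ρ_eq]
    ext x
    rw [mem_ρ_torSub, hJmem n (kk n) (hkk n).1 dvd_rfl]
    constructor
    · rintro ⟨hx, hnx⟩
      obtain ⟨y, hy, rfl⟩ := (epi_nsmul_iff _ _).1 (hDdiv (kk n) (hkk n).1) x hx
      exact ⟨y, by rw [mul_comm, mul_smul]; exact hnx, rfl⟩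
    · rintro ⟨y, hy, rfl⟩
      have h1 : kk n • y ∈ ρ (J n) := (hJmem n (kk n) (hkk n).1 dvd_rfl _).2 ⟨y, hy, rfl⟩
      exact ⟨(le_iff_ρ_le _ _).1 (hJle n) h1, by rw [← mul_smul, mul_comm]; exact hy⟩
  have hDcof : ∀ n : ℕ, 0 < n → InC (kernel (n • 𝟙 ((sSup 𝒟 : Subobject A) : Ind C))) := by
    intro n hn
    refine inC_of_iso (torSubIso _ _) ?_
    rw [htorD ⟨n, hn⟩]
    exact inC_mulSub_tor hA _ _ (hkk ⟨n, hn⟩).1 hn
  refine ⟨sSup 𝒟, hDdiv, hDlargest, hDcof, fun n hn => ?_⟩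
  refine inC_kernel_nsmul_cokernel (sSup 𝒟) n (hDdiv n hn) ?_ (inC_tor hA n hn)
  rw [htorD ⟨n, hn⟩]
  exact inC_mulSub_tor hA _ _ (hkk ⟨n, hn⟩).1 hn

end Largest

end Groth.Agent.Lib.R2Lead.IndCof
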