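import Mathlib
import Groth.Agent.Lib.R2LeadIndCofI

set_option autoImplicit false
universe v u

namespace Groth.Agent.Lib.R2Lead.IndCof

open CategoryTheory CategoryTheory.Limits

section DivML

variable {C : Type v} [SmallCategory C] [Abelian C]

/-- the quotient by the image of `M` is `A / MA` -/
theorem inC_cokernel_of_ρ_eq (hart : ∀ X : C, IsArtinianObject X)
    (htor : ∀ X : C, ∃ n : ℕ, 0 < n ∧ n • 𝟙 X = 0) {A : Ind C} (hA : Cof A)
    (B' : Subobject A) (M : ℕ) (hM : 0 < M)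
    (h : ∀ x : El A, x ∈ ρ B' ↔ ∃ a : El A, M • a = x) : InC (cokernel B'.arrow) := by
  have hzero : (M • 𝟙 A) ≫ cokernel.π B'.arrow = 0 := by
    apply eq_zero_of_ap
    intro a
    obtain ⟨b, hb⟩ := (h (M • a)).2 ⟨a, rfl⟩
    rw [ap_comp, ap_nsmul_id, ← hb, ← ap_comp, cokernel.condition, ap_zero]
  have hex : (ShortComplex.mk _ _ hzero).Exact := by
    rw [exact_iff_ap]
    intro x hx
    change ap (cokernel.π B'.arrow) x = 0 at hx
    obtain ⟨b, hb⟩ := exists_of_ap_cokernel _ _ hx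
    obtain ⟨a, ha⟩ := (h x).1 ⟨b, hb⟩
    exact ⟨a, by rw [← ha]; exact ap_nsmul_id M a⟩
  haveI : Epi (ShortComplex.mk _ _ hzero).g := by
    change Epi (cokernel.π B'.arrow)
    infer_instance
  exact inC_of_exact_of_epi' (ShortComplex.mk _ _ hzero) hex (inC_cokernel_nsmul hart htor hA M hM)

/-- a divisible subobject with bounded-torsion quotient has quotient in `C` -/
theorem inC_cokernel_of_divisible_of_killed (hart : ∀ X : C, IsArtinianObject X)
    (htor : ∀ X : C, ∃ n : ℕ, 0 < n ∧ n • 𝟙 X = 0) {A : Ind C} (hA : Cof A)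
    (B' : Subobject A) (hdiv : ∀ k : ℕ, 0 < k → Epi (k • 𝟙 (B' : Ind C))) (M : ℕ) (hM : 0 < M)
    (hkill : M • 𝟙 (cokernel B'.arrow) = 0) : InC (cokernel B'.arrow) := by
  apply inC_cokernel_of_ρ_eq hart htor hA B' M hM
  intro x
  constructor
  · intro hx
    obtain ⟨y, -, hy⟩ := (epi_nsmul_iff B' M).1 (hdiv M hM) x hx
    exact ⟨y, hy⟩
  · rintro ⟨a, rfl⟩
    have h0 : ap (cokernel.π B'.arrow) (M • a) = 0 := by
      rw [map_nsmul, ← ap_nsmul_id, hkill, ap_zero]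
    obtain ⟨b, hb⟩ := exists_of_ap_cokernel _ _ h0
    exact ⟨b, hb⟩

/-- primes not dividing an exponent of the quotient act surjectively -/
theorem epi_nsmul_of_coprime {A : Ind C} (B' : Subobject A)
    (hdiv : ∀ k : ℕ, 0 < k → Epi (k • 𝟙 (B' : Ind C))) (M : ℕ)
    (hkill : M • 𝟙 (cokernel B'.arrow) = 0) (p : ℕ) (hp : 0 < p) (hcop : Nat.Coprime p M) :
    Epi (p • 𝟙 A) := by
  apply epi_of_ap_surjective
  intro a
  obtain ⟨α, β, hαβ⟩ := Nat.isCoprime_iff_coprime.2 hcop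
  have h1 : a = p • (α • a) + β • (M • a) := by
    calc a = (1 : ℤ) • a := (one_smul _ _).symm
      _ = (α * (p : ℤ) + β * (M : ℤ)) • a := by rw [hαβ]
      _ = p • (α • a) + β • (M • a) := by
        rw [add_smul, mul_smul, mul_smul, natCast_zsmul, natCast_zsmul, smul_comm α p a]
  have h2 : ap (cokernel.π B'.arrow) (β • (M • a)) = 0 := by
    rw [map_zsmul, map_nsmul, ← ap_nsmul_id, hkill, ap_zero, smul_zero]
  obtain ⟨b, hb⟩ := exists_of_ap_cokernel _ _ h2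
  haveI := hdiv p hp
  obtain ⟨b', hb'⟩ := ap_surjective_of_epi (p • 𝟙 (B' : Ind C)) b
  rw [ap_nsmul_id] at hb'
  refine ⟨α • a + ap B'.arrow b', ?_⟩
  rw [ap_nsmul_id, smul_add, ← map_nsmul, hb', hb, ← h1]

theorem finite_bad_primes {A : Ind C} (B' : Subobject A)
    (hdiv : ∀ k : ℕ, 0 < k → Epi (k • 𝟙 (B' : Ind C))) (M : ℕ) (hM : 0 < M)
    (hkill : M • 𝟙 (cokernel B'.arrow) = 0) :
    {p : ℕ | p.Prime ∧ ¬ Epi (p • 𝟙 A)}.Finite := by
  apply Set.Finite.subset (Nat.divisors M).finite_toSet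
  rintro p ⟨hp, hne⟩
  rw [Finset.mem_coe, Nat.mem_divisors]
  refine ⟨?_, hM.ne'⟩
  by_contra hnd
  exact hne (epi_nsmul_of_coprime B' hdiv M hkill p hp.pos ((Nat.Prime.coprime_iff_not_dvd hp).2 hnd))

theorem exists_divisible_of_finite_bad (hart : ∀ X : C, IsArtinianObject X)
    (htor : ∀ X : C, ∃ n : ℕ, 0 < n ∧ n • 𝟙 X = 0) {A : Ind C} (hA : Cof A)
    (hfin : {p : ℕ | p.Prime ∧ ¬ Epi (p • 𝟙 A)}.Finite) :
    ∃ B' : Subobject A, (∀ k : ℕ, 0 < k → Epi (k • 𝟙 (B' : Ind C))) ∧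
      InC (cokernel B'.arrow) := by
  classical
  let e : ℕ → ℕ := fun p => if h : p.Prime then
    Classical.choose (exists_pow_stable hart htor hA p h) else 0
  have he : ∀ p (h : p.Prime) (n : ℕ), e p ≤ n →
      imageSubobject (p ^ n • 𝟙 A) = imageSubobject (p ^ e p • 𝟙 A) := by
    intro p h n hn
    have h1 : e p = Classical.choose (exists_pow_stable hart htor hA p h) := dif_pos h
    rw [h1] at hn ⊢
    exact Classical.choose_spec (exists_pow_stable hart htor hA p h) n hn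
  let F : Finset ℕ := hfin.toFinset
  have hF : ∀ q : ℕ, q.Prime → ¬ Epi (q • 𝟙 A) → q ∈ F := fun q hq hne =>
    (Set.Finite.mem_toFinset hfin).2 ⟨hq, hne⟩
  have hFp : ∀ q ∈ F, q.Prime := fun q hq => ((Set.Finite.mem_toFinset hfin).1 hq).1
  let M : ℕ := ∏ q ∈ F, q ^ e q
  have hM : 0 < M := Finset.prod_pos (fun q hq => pow_pos (hFp q hq).pos _)
  have hρ : ∀ x : El A, x ∈ ρ (imageSubobject (M • 𝟙 A)) ↔ ∃ a : El A, M • a = x :=
    fun x => mem_ρ_imageSubobject_nsmul M x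
  refine ⟨imageSubobject (M • 𝟙 A), ?_, inC_cokernel_of_ρ_eq hart htor hA _ M hM hρ⟩
  have hprime : ∀ q : ℕ, q.Prime → ∀ x ∈ ρ (imageSubobject (M • 𝟙 A)),
      ∃ y ∈ ρ (imageSubobject (M • 𝟙 A)), q • y = x := by
    intro q hq x hx
    obtain ⟨a, rfl⟩ := (hρ x).1 hx
    by_cases hepi : Epi (q • 𝟙 A)
    · obtain ⟨a', ha'⟩ := ap_surjective_of_epi (q • 𝟙 A) a
      rw [ap_nsmul_id] at ha'
      exact ⟨M • a', (hρ _).2 ⟨a', rfl⟩, by rw [smul_comm, ha']⟩
    · have hqF : q ∈ F := hF q hq hepi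
      have hMq : M = q ^ e q * ∏ r ∈ F.erase q, r ^ e r := (Finset.mul_prod_erase F _ hqF).symm
      have h1 : q ^ e q • a ∈ ρ (imageSubobject (q ^ e q • 𝟙 A)) :=
        (mem_ρ_imageSubobject_nsmul _ _).2 ⟨a, rfl⟩
      rw [← he q hq (e q + 1) (by omega)] at h1
      obtain ⟨a', ha'⟩ := (mem_ρ_imageSubobject_nsmul _ _).1 h1
      refine ⟨M • a', (hρ _).2 ⟨a', rfl⟩, ?_⟩
      rw [hMq, mul_comm (q ^ e q), mul_smul, mul_smul, ← ha', smul_comm q, pow_succ', mul_smul]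
  have hall : ∀ k : ℕ, k ≠ 0 → ∀ x ∈ ρ (imageSubobject (M • 𝟙 A)),
      ∃ y ∈ ρ (imageSubobject (M • 𝟙 A)), k • y = x := by
    intro k
    induction k using induction_on_primes with
    | zero => intro h; exact absurd rfl h
    | one => intro _ x hx; exact ⟨x, hx, one_smul _ _⟩
    | prime_mul q a hq ih =>
      intro _ x hx
      by_cases ha : a = 0
      · subst ha; simp at *
      · obtain ⟨y, hy, rfl⟩ := ih ha x hx
        obtain ⟨z, hz, rfl⟩ := hprime q hq y hy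
        exact ⟨z, hz, by rw [mul_comm, mul_smul]⟩
  intro k hk
  rw [epi_nsmul_iff]
  exact hall k hk.ne'

end DivML

end Groth.Agent.Lib.R2Lead.IndCof
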