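import Mathlib
import Groth.Prelude.Def_PBC
import Groth.Agent.Lib.Helper3IndEt
import Groth.Agent.Lib.Helper3IndEtComp
import Groth.Agent.S9436

set_option autoImplicit false

open CategoryTheory CategoryTheory.Limits TensorProduct

universe u

namespace Groth.Agent.Lib.R2LeadIndEtLift

open Groth.Agent.Lib.Helper3.IndEt

section coeq

/-- a copy of a ring, used to avoid instance diamonds -/
def Copy (R : Type u) : Type u := R

instance (R : Type u) [CommRing R] : CommRing (Copy R) := inferInstanceAs (CommRing R)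

instance (A R : Type u) [CommRing A] [CommRing R] [Algebra A R] : Algebra A (Copy R) :=
  inferInstanceAs (Algebra A R)

instance (A R : Type u) [CommRing A] [CommRing R] [Algebra A R] [Algebra.Etale A R] :
    Algebra.Etale A (Copy R) := inferInstanceAs (Algebra.Etale A R)

variable (A : Type u) [CommRing A] (E F : Type u) [CommRing E] [CommRing F] [Algebra A E]
  [Algebra A F] [Algebra.Etale A E] [Algebra.Etale A F]

set_option maxHeartbeats 1600000 in
/-- coequalizers of étale algebras are étale -/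
theorem exists_coeq_aux (f g : E →ₐ[A] F) :
    ∃ (L : Type u) (_ : CommRing L) (_ : Algebra A L) (_ : Algebra.Etale A L) (h : F →ₐ[A] L),
      (∀ x, h (f x) = h (g x)) ∧
      ∀ (B : Type u) [CommRing B] [Algebra A B] (φ : F →ₐ[A] B), (∀ x, φ (f x) = φ (g x)) →
        ∃ ψ : L →ₐ[A] B, ψ.comp h = φ := by
  let S := E ⊗[A] E
  let μ : S →+* Copy E :=
    (Algebra.TensorProduct.lmul' A : E ⊗[A] E →ₐ[A] E).toRingHom
  have hμ : ∀ x y : E, μ (x ⊗ₜ[A] y) = (x * y : E) := fun x y =>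
    Algebra.TensorProduct.lmul'_apply_tmul x y
  letI algSj : Algebra S (Copy E) := μ.toAlgebra
  haveI : IsScalarTower E S (Copy E) :=
    IsScalarTower.of_algebraMap_eq (R := E) (S := S) (A := Copy E) (fun x => by
      show (x : E) = μ (x ⊗ₜ[A] (1 : E))
      rw [hμ, mul_one])
  haveI : Algebra.Etale S (Copy E) :=
    Algebra.Etale.of_restrictScalars E S (Copy E)
  letI algSk : Algebra S F :=
    (Algebra.TensorProduct.productMap f g).toRingHom.toAlgebra
  haveI : IsScalarTower A S F := IsScalarTower.of_algebraMap_eq (fun a => by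
    show algebraMap A F a = Algebra.TensorProduct.productMap f g (algebraMap A S a)
    rw [AlgHom.commutes])
  haveI : IsScalarTower A S (Copy E) := IsScalarTower.of_algebraMap_eq (fun a => by
    show algebraMap A E a = (Algebra.TensorProduct.lmul' A : E ⊗[A] E →ₐ[A] E) (algebraMap A S a)
    rw [AlgHom.commutes])
  -- the coequalizer `L = F ⊗[S] E`
  haveI : Algebra.Etale A (F ⊗[S] Copy E) :=
    Algebra.Etale.comp A F (F ⊗[S] Copy E)
  let h0 : F →ₐ[A] (F ⊗[S] Copy E) := IsScalarTower.toAlgHom A F _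
  have hcoeq : ∀ x : E, h0 (f x) = h0 (g x) := by
    intro x
    have h1 : f x = algebraMap S F (x ⊗ₜ[A] (1 : E)) := by
      show f x = Algebra.TensorProduct.productMap f g (x ⊗ₜ[A] (1 : E))
      rw [Algebra.TensorProduct.productMap_apply_tmul, map_one, mul_one]
    have h2 : g x = algebraMap S F ((1 : E) ⊗ₜ[A] x) := by
      show g x = Algebra.TensorProduct.productMap f g ((1 : E) ⊗ₜ[A] x)
      rw [Algebra.TensorProduct.productMap_apply_tmul, map_one, one_mul]
    have h3 : ∀ s : S,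
        (algebraMap S F s) ⊗ₜ[S] (1 : Copy E) =
        (1 : F) ⊗ₜ[S] (algebraMap S (Copy E) s) := fun s => by
      rw [Algebra.algebraMap_eq_smul_one, TensorProduct.smul_tmul, ← Algebra.algebraMap_eq_smul_one]
    show (f x) ⊗ₜ[S] (1 : Copy E) = (g x) ⊗ₜ[S] (1 : Copy E)
    rw [h1, h2, h3, h3]
    congr 1
    show μ (x ⊗ₜ[A] (1 : E)) = μ ((1 : E) ⊗ₜ[A] x)
    rw [hμ, hμ, mul_one, one_mul]
  refine ⟨F ⊗[S] Copy E, inferInstance, inferInstance, inferInstance, h0, hcoeq, ?_⟩
  intro B _ _ φ hφ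
  letI algSB : Algebra S B :=
    (φ.comp (Algebra.TensorProduct.productMap f g)).toRingHom.toAlgebra
  let kφ : F →ₐ[S] B :=
    { φ.toRingHom with
      commutes' := fun s => rfl }
  let jφ : Copy E →ₐ[S] B :=
    { (φ.comp f).toRingHom with
      commutes' := fun s => by
        show φ (f (Algebra.TensorProduct.lmul' A s)) = φ (Algebra.TensorProduct.productMap f g s)
        refine TensorProduct.induction_on (R := A) (M := E) (N := E) s ?_ ?_ ?_
        · simp
        · intro x y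
          rw [Algebra.TensorProduct.lmul'_apply_tmul,
            Algebra.TensorProduct.productMap_apply_tmul, map_mul, map_mul, map_mul, hφ y]
        · intro x y hx hy
          rw [map_add, map_add, map_add, map_add, map_add, hx, hy] }
  let φl : (F ⊗[S] Copy E) →ₐ[A] B :=
    { (Algebra.TensorProduct.lift kφ jφ (fun _ _ => Commute.all _ _)).toRingHom with
      commutes' := fun a => by
        show Algebra.TensorProduct.lift kφ jφ (fun _ _ => Commute.all _ _)
          ((algebraMap A F a) ⊗ₜ[S] (1 : Copy E)) = _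
        rw [Algebra.TensorProduct.lift_tmul, map_one, mul_one]
        exact φ.commutes a }
  refine ⟨φl, ?_⟩
  apply AlgHom.ext
  intro x
  show Algebra.TensorProduct.lift kφ jφ (fun _ _ => Commute.all _ _)
      (x ⊗ₜ[S] (1 : Copy E)) = _
  rw [Algebra.TensorProduct.lift_tmul, map_one, mul_one]
  rfl

end coeq

section filtered

variable (A B : Type u) [CommRing A] [CommRing B] [Algebra A B]

theorem isFiltered : IsFiltered (Obj A B) := by
  haveI : Nonempty (Obj A B) := by
    obtain ⟨j, -, -⟩ := Obj.exists_obj A (Algebra.ofId A B)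
    exact ⟨j⟩
  haveI : IsFilteredOrEmpty (Obj A B) := by
    refine ⟨fun j k => ?_, fun j k f g => ?_⟩
    · haveI := etale_tensor A j.E k.E
      obtain ⟨l, e, he⟩ := Obj.exists_obj A (E := j.E ⊗[A] k.E)
        (Algebra.TensorProduct.productMap j.φ k.φ)
      refine ⟨l, ⟨(e.symm : j.E ⊗[A] k.E →ₐ[A] l.E).comp Algebra.TensorProduct.includeLeft, ?_⟩,
        ⟨(e.symm : j.E ⊗[A] k.E →ₐ[A] l.E).comp Algebra.TensorProduct.includeRight, ?_⟩, trivial⟩
      · rw [← he]
        ext x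
        simp
      · rw [← he]
        ext x
        simp
    · obtain ⟨L, _, _, _, h, hh, huniv⟩ := exists_coeq_aux A j.E k.E f.1 g.1
      obtain ⟨ψ, hψ⟩ := huniv B k.φ (fun x => by
        have h1 := congr($(f.2) x)
        have h2 := congr($(g.2) x)
        rw [AlgHom.comp_apply] at h1 h2
        rw [h1, h2])
      obtain ⟨l, e, he⟩ := Obj.exists_obj A ψ
      refine ⟨l, ⟨(e.symm : L →ₐ[A] l.E).comp h, ?_⟩, Subtype.ext ?_⟩
      · rw [← he, ← hψ]
        apply AlgHom.ext
        intro x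
        show ψ (e (e.symm (h x))) = ψ (h x)
        rw [e.apply_symm_apply]
      · rw [Obj.comp_val, Obj.comp_val]
        apply AlgHom.ext
        intro x
        show (e.symm : L →ₐ[A] l.E) (h (f.1 x)) = (e.symm : L →ₐ[A] l.E) (h (g.1 x))
        rw [hh]
  exact {}

end filtered

section colim

variable {A : Type u} [CommRing A] {J : Type u} [SmallCategory J] [IsFiltered J]
  (R : J → Type u) [∀ j, CommRing (R j)] [∀ j, Algebra A (R j)]
  (t : ∀ {j k : J}, (j ⟶ k) → (R j →ₐ[A] R k))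
  (t_id : ∀ j, t (𝟙 j) = AlgHom.id A (R j))
  (t_comp : ∀ {j k l : J} (f : j ⟶ k) (g : k ⟶ l), t (f ≫ g) = (t g).comp (t f))

include t_id t_comp in
theorem exists_colimit : ∃ (C : Type u) (_ : CommRing C) (_ : Algebra A C) (ι : ∀ j, R j →ₐ[A] C),
    (∀ {j k : J} (g : j ⟶ k) (x : R j), ι k (t g x) = ι j x) ∧
    (∀ c : C, ∃ j x, ι j x = c) ∧
    (∀ j (x : R j), ι j x = 0 → ∃ k, ∃ g : j ⟶ k, t g x = 0) ∧
    (∀ (B : Type u) [CommRing B] [Algebra A B] (φ : ∀ j, R j →ₐ[A] B),
      (∀ {j k : J} (g : j ⟶ k) (x : R j), φ k (t g x) = φ j x) →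
      ∃ Φ : C →ₐ[A] B, ∀ j x, Φ (ι j x) = φ j x) := by
  let F : J ⥤ CommRingCat.{u} :=
    { obj := fun j => CommRingCat.of (R j)
      map := fun {j k} g => CommRingCat.ofHom (t g).toRingHom
      map_id := fun j => by
        rw [t_id]
        rfl
      map_comp := fun {j k l} f g => by
        rw [t_comp]
        rfl }
  haveI : PreservesColimit F (forget CommRingCat) :=
    (PreservesFilteredColimitsOfSize.preserves_filtered_colimits
      (F := forget CommRingCat.{u}) J).preservesColimit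
  let ιr : ∀ j, R j →+* (colimit F : CommRingCat.{u}) := fun j => (colimit.ι F j).hom
  have hw : ∀ {j k : J} (g : j ⟶ k) (x : R j), ιr k (t g x) = ιr j x := by
    intro j k g x
    have := colimit.w F g
    exact congr($(this).hom x)
  obtain ⟨j0⟩ := IsFiltered.nonempty (C := J)
  letI algC : Algebra A (colimit F : CommRingCat.{u}) :=
    ((ιr j0).comp (algebraMap A (R j0))).toAlgebra
  have halg : ∀ j a, ιr j (algebraMap A (R j) a) = algebraMap A (colimit F : CommRingCat.{u}) a := by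
    intro j a
    show _ = ιr j0 (algebraMap A (R j0) a)
    rw [← hw (IsFiltered.leftToMax j j0), ← hw (IsFiltered.rightToMax j j0), AlgHom.commutes,
      AlgHom.commutes]
  let ι : ∀ j, R j →ₐ[A] (colimit F : CommRingCat.{u}) := fun j =>
    { ιr j with commutes' := halg j }
  refine ⟨(colimit F : CommRingCat.{u}), inferInstance, algC, ι, fun g x => hw g x, ?_, ?_, ?_⟩
  · intro c
    obtain ⟨j, y, hy⟩ := Concrete.colimit_exists_rep F c
    exact ⟨j, y, hy⟩
  · intro j x hx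
    have h0 : colimit.ι F j x = colimit.ι F j (0 : R j) := by
      rw [map_zero]
      exact hx
    obtain ⟨k, f, g, hfg⟩ := (Concrete.colimit_rep_eq_iff_exists (F := F) (x : R j) (0 : R j)).mp h0
    refine ⟨k, f, ?_⟩
    have h1 : t f x = t g 0 := hfg
    rw [h1, map_zero]
  · intro B _ _ φ hφ
    let s : Cocone F :=
      { pt := CommRingCat.of B
        ι :=
          { app := fun j => CommRingCat.ofHom (φ j).toRingHom
            naturality := fun j k g => by
              apply CommRingCat.hom_ext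
              apply RingHom.ext
              intro x
              exact hφ g x } }
    have hdesc : ∀ j (x : R j), (colimit.desc F s).hom (ιr j x) = φ j x := by
      intro j x
      have := colimit.ι_desc s j
      exact congr($(this).hom x)
    refine ⟨{ (colimit.desc F s).hom with
      commutes' := fun a => ?_ }, fun j x => hdesc j x⟩
    show (colimit.desc F s).hom (ιr j0 (algebraMap A (R j0) a)) = _
    rw [hdesc, AlgHom.commutes]

end colim

section lift

/-- lifting étale algebras along a quotient, with the projection -/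
theorem lift_surj (R : Type u) [CommRing R] (𝔞 : Ideal R) (Eb : Type u) [CommRing Eb]
    [Algebra R Eb] [Algebra (R ⧸ 𝔞) Eb] [IsScalarTower R (R ⧸ 𝔞) Eb]
    [Algebra.Etale (R ⧸ 𝔞) Eb] :
    ∃ (E : Type u) (_ : CommRing E) (_ : Algebra R E) (_ : Algebra.Etale R E) (π : E →ₐ[R] Eb),
      Function.Surjective π ∧ RingHom.ker π = 𝔞.map (algebraMap R E) := by
  obtain ⟨E, _, _, hE, ⟨θ⟩⟩ := Groth.Agent.S9436.result R 𝔞 Eb
  let π : E →ₐ[R] Eb :=
    (θ.restrictScalars R).toAlgHom.comp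
      (Algebra.TensorProduct.includeRight : E →ₐ[R] (R ⧸ 𝔞) ⊗[R] E)
  have hπ : ∀ x, π x = θ (1 ⊗ₜ x) := fun x => rfl
  refine ⟨E, inferInstance, inferInstance, hE, π, ?_, ?_⟩
  · intro y
    obtain ⟨z, rfl⟩ := θ.surjective y
    obtain ⟨w, rfl⟩ := (Algebra.TensorProduct.quotIdealMapEquivQuotTensor E 𝔞).surjective z
    obtain ⟨x, rfl⟩ := Ideal.Quotient.mk_surjective w
    exact ⟨x, by rw [hπ, Algebra.TensorProduct.quotIdealMapEquivQuotTensor_mk]⟩
  · ext x
    rw [RingHom.mem_ker, hπ, ← Ideal.Quotient.eq_zero_iff_mem,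
      ← Algebra.TensorProduct.quotIdealMapEquivQuotTensor_mk,
      map_eq_zero_iff _ θ.injective,
      map_eq_zero_iff _ (Algebra.TensorProduct.quotIdealMapEquivQuotTensor E 𝔞).injective]

end lift

section liftOver

theorem lift_over (A : Type u) [CommRing A] (I : Ideal A) (R : Type u) [CommRing R] [Algebra A R]
    [Algebra.Etale A R] (Eb : Type u) [CommRing Eb] [Algebra A Eb] [Algebra R Eb]
    [IsScalarTower A R Eb] [Algebra (A ⧸ I) Eb] [IsScalarTower A (A ⧸ I) Eb]
    [Algebra.Etale (A ⧸ I) Eb] :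
    ∃ (E : Type u) (_ : CommRing E) (_ : Algebra A E) (_ : Algebra.Etale A E)
      (u : R →ₐ[A] E) (π : E →ₐ[A] Eb),
      Function.Surjective π ∧ (∀ r, π (u r) = algebraMap R Eb r) ∧
      RingHom.ker π = I.map (algebraMap A E) := by
  let 𝔞 : Ideal R := I.map (algebraMap A R)
  have hkill : ∀ x ∈ 𝔞, algebraMap R Eb x = 0 := by
    intro x hx
    have hle : 𝔞 ≤ RingHom.ker (algebraMap R Eb) := by
      rw [Ideal.map_le_iff_le_comap]
      intro a ha
      rw [Ideal.mem_comap, RingHom.mem_ker, ← IsScalarTower.algebraMap_apply A R Eb,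
        IsScalarTower.algebraMap_apply A (A ⧸ I) Eb, Ideal.Quotient.algebraMap_eq,
        Ideal.Quotient.eq_zero_iff_mem.mpr ha, map_zero]
    exact hle hx
  letI algRb : Algebra (R ⧸ 𝔞) Eb := (Ideal.Quotient.lift 𝔞 (algebraMap R Eb) hkill).toAlgebra
  haveI : IsScalarTower R (R ⧸ 𝔞) Eb := IsScalarTower.of_algebraMap_eq (fun r => rfl)
  haveI : IsScalarTower (A ⧸ I) (R ⧸ 𝔞) Eb := IsScalarTower.of_algebraMap_eq (fun x => by
    obtain ⟨a, rfl⟩ := Ideal.Quotient.mk_surjective x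
    show _ = Ideal.Quotient.lift 𝔞 (algebraMap R Eb) hkill
      (Ideal.Quotient.mk 𝔞 (algebraMap A R a))
    rw [Ideal.Quotient.lift_mk, ← IsScalarTower.algebraMap_apply A R Eb,
      IsScalarTower.algebraMap_apply A (A ⧸ I) Eb, Ideal.Quotient.algebraMap_eq])
  haveI : Algebra.Etale (A ⧸ I) (R ⧸ 𝔞) :=
    Algebra.Etale.of_equiv (Algebra.TensorProduct.quotIdealMapEquivQuotTensor R I).symm
  haveI : Algebra.Etale (R ⧸ 𝔞) Eb := Algebra.Etale.of_restrictScalars (A ⧸ I) (R ⧸ 𝔞) Eb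
  obtain ⟨E, _, _, hE, π, hπs, hπk⟩ := lift_surj R 𝔞 Eb
  letI algAE : Algebra A E := ((algebraMap R E).comp (algebraMap A R)).toAlgebra
  haveI : IsScalarTower A R E := IsScalarTower.of_algebraMap_eq (fun a => rfl)
  haveI : Algebra.Etale A E := Algebra.Etale.comp A R E
  refine ⟨E, inferInstance, algAE, inferInstance, IsScalarTower.toAlgHom A R E,
    π.restrictScalars A, hπs, fun r => ?_, ?_⟩
  · show π (algebraMap R E r) = _
    exact π.commutes r
  · show RingHom.ker π = _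
    rw [hπk]
    show Ideal.map (algebraMap R E) (Ideal.map (algebraMap A R) I) = _
    rw [Ideal.map_map]
    rfl

end liftOver

section main

theorem key (A : Type u) [CommRing A] (I : Ideal A) (Cb : Type u)
    [CommRing Cb] [Algebra (A ⧸ I) Cb] [Algebra A Cb] [IsScalarTower A (A ⧸ I) Cb]
    (hF : Obj.Factor (A ⧸ I) Cb) (R : Type u) [CommRing R] [Algebra A R] [Algebra.Etale A R]
    (φ : R →ₐ[A] Cb) (P : Type u) [CommRing P] [Algebra (A ⧸ I) P]
    [Algebra.FinitePresentation (A ⧸ I) P] (ρ : R →+* P)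
    (hρ : ∀ a, ρ (algebraMap A R a) = algebraMap (A ⧸ I) P (Ideal.Quotient.mk I a))
    (ψ : P →ₐ[A ⧸ I] Cb) (hψ : ∀ x, ψ (ρ x) = φ x) :
    ∃ (E : Type u) (_ : CommRing E) (_ : Algebra A E) (_ : Algebra.Etale A E)
      (u : R →ₐ[A] E) (β : E →ₐ[A] Cb), β.comp u = φ ∧
      (∀ x, ρ x = 0 → u x ∈ I.map (algebraMap A E)) ∧ ∀ p : P, ∃ y : E, β y = ψ p := by
  obtain ⟨Eb, _, _, _, f', g', hfg⟩ := hF P ψ
  letI algAEb : Algebra A Eb := ((algebraMap (A ⧸ I) Eb).comp (Ideal.Quotient.mk I)).toAlgebra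
  haveI : IsScalarTower A (A ⧸ I) Eb := IsScalarTower.of_algebraMap_eq (fun a => rfl)
  letI algREb : Algebra R Eb := (f'.toRingHom.comp ρ).toAlgebra
  haveI : IsScalarTower A R Eb := IsScalarTower.of_algebraMap_eq (fun a => by
    show _ = f' (ρ (algebraMap A R a))
    rw [hρ, AlgHom.commutes]
    rfl)
  obtain ⟨E, _, _, _, u, π, hπs, hπu, hπk⟩ := lift_over A I R Eb
  let β : E →ₐ[A] Cb := (g'.restrictScalars A).comp π
  have hg'f' : ∀ p, g' (f' p) = ψ p := fun p => congr($hfg p)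
  refine ⟨E, inferInstance, inferInstance, inferInstance, u, β, ?_, ?_, ?_⟩
  · apply AlgHom.ext
    intro x
    show g' (π (u x)) = φ x
    rw [hπu]
    show g' (f' (ρ x)) = _
    rw [hg'f', hψ]
  · intro x hx
    rw [← hπk, RingHom.mem_ker, hπu]
    show f' (ρ x) = 0
    rw [hx, map_zero]
  · intro p
    obtain ⟨y, hy⟩ := hπs (f' p)
    refine ⟨y, ?_⟩
    show g' (π y) = _
    rw [hy, hg'f']

theorem key2 (A : Type u) [CommRing A] (I : Ideal A) (Cb : Type u)
    [CommRing Cb] [Algebra (A ⧸ I) Cb] [Algebra A Cb] [IsScalarTower A (A ⧸ I) Cb]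
    (hF : Obj.Factor (A ⧸ I) Cb) (R : Type u) [CommRing R] [Algebra A R] [Algebra.Etale A R]
    (φ : R →ₐ[A] Cb) (e : R) (he : φ e = 0) :
    ∃ (E : Type u) (_ : CommRing E) (_ : Algebra A E) (_ : Algebra.Etale A E)
      (u : R →ₐ[A] E) (β : E →ₐ[A] Cb), β.comp u = φ ∧ u e ∈ I.map (algebraMap A E) := by
  let 𝔞 : Ideal R := I.map (algebraMap A R)
  haveI : Algebra.Etale (A ⧸ I) (R ⧸ 𝔞) :=
    Algebra.Etale.of_equiv (Algebra.TensorProduct.quotIdealMapEquivQuotTensor R I).symm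
  let K : Ideal (R ⧸ 𝔞) := Ideal.span {Ideal.Quotient.mk 𝔞 e}
  haveI : Algebra.FinitePresentation (A ⧸ I) ((R ⧸ 𝔞) ⧸ K) :=
    Algebra.FinitePresentation.quotient ⟨{Ideal.Quotient.mk 𝔞 e}, by simp [K]⟩
  have hkill : ∀ x ∈ 𝔞, φ x = 0 := by
    intro x hx
    have hle : 𝔞 ≤ RingHom.ker φ.toRingHom := by
      rw [Ideal.map_le_iff_le_comap]
      intro a ha
      rw [Ideal.mem_comap, RingHom.mem_ker]
      show φ (algebraMap A R a) = 0
      rw [AlgHom.commutes, IsScalarTower.algebraMap_apply A (A ⧸ I) Cb,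
        Ideal.Quotient.algebraMap_eq, Ideal.Quotient.eq_zero_iff_mem.mpr ha, map_zero]
    exact hle hx
  let φ1 : (R ⧸ 𝔞) →ₐ[A] Cb := Ideal.Quotient.liftₐ 𝔞 φ hkill
  let φ2 : (R ⧸ 𝔞) →ₐ[A ⧸ I] Cb :=
    AlgHom.extendScalarsOfSurjective Ideal.Quotient.mk_surjective φ1
  have hK : ∀ x ∈ K, φ2 x = 0 := by
    intro x hx
    obtain ⟨z, rfl⟩ := Ideal.mem_span_singleton'.mp hx
    rw [map_mul]
    have h1 : φ2 (Ideal.Quotient.mk 𝔞 e) = φ e := rfl
    rw [h1, he, mul_zero]
  let ψ : ((R ⧸ 𝔞) ⧸ K) →ₐ[A ⧸ I] Cb := Ideal.Quotient.liftₐ K φ2 hK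
  let ρ : R →+* ((R ⧸ 𝔞) ⧸ K) := (Ideal.Quotient.mk K).comp (Ideal.Quotient.mk 𝔞)
  obtain ⟨E, _, _, _, u, β, hβu, hρ0, -⟩ :=
    key A I Cb hF R φ ((R ⧸ 𝔞) ⧸ K) ρ (fun a => rfl) ψ (fun x => rfl)
  refine ⟨E, inferInstance, inferInstance, inferInstance, u, β, hβu, hρ0 e ?_⟩
  show Ideal.Quotient.mk K (Ideal.Quotient.mk 𝔞 e) = 0
  exact Ideal.Quotient.eq_zero_iff_mem.mpr (Ideal.subset_span rfl)

theorem main (A : Type u) [CommRing A] (I : Ideal A) (Cb : Type u)
    [CommRing Cb] [Algebra (A ⧸ I) Cb] (h : EtPBC.IsIndEtale (A ⧸ I) Cb) :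
    ∃ (C : Type u) (_ : CommRing C) (_ : Algebra A C),
      EtPBC.IsIndEtale A C ∧ Nonempty ((C ⧸ I.map (algebraMap A C)) ≃ₐ[A ⧸ I] Cb) := by
  letI algACb : Algebra A Cb := ((algebraMap (A ⧸ I) Cb).comp (Ideal.Quotient.mk I)).toAlgebra
  haveI : IsScalarTower A (A ⧸ I) Cb := IsScalarTower.of_algebraMap_eq (fun a => rfl)
  have hF := factor_of_isIndEtale h
  haveI := isFiltered A Cb
  obtain ⟨C, _, _, ι, hcompat, hsurj, hinj, huniv⟩ :=
    exists_colimit (A := A) (J := Obj A Cb) (fun j => j.E) (fun {j k} (g : j ⟶ k) => g.1)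
      (fun _ => rfl) (fun _ _ => rfl)
  have hC : EtPBC.IsIndEtale A C :=
    isIndEtale_of_filtered (J := Obj A Cb) (fun j => j.E) (fun {j k} (g : j ⟶ k) => g.1)
      (fun _ => rfl) (fun _ _ => rfl) ι hcompat hsurj hinj
  obtain ⟨Φ, hΦ⟩ := huniv Cb (fun j => j.φ) (fun {j k} (g : j ⟶ k) x => congr($(g.2) x))
  have hΦsurj : Function.Surjective Φ := by
    intro b
    obtain ⟨E, _, _, _, u, β, hβu, -, hp⟩ := key A I Cb hF A (Algebra.ofId A Cb)
      (MvPolynomial (Fin 1) (A ⧸ I))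
      ((algebraMap (A ⧸ I) (MvPolynomial (Fin 1) (A ⧸ I))).comp (Ideal.Quotient.mk I))
      (fun a => rfl) (MvPolynomial.aeval (fun _ => b)) (fun a => by
        show (MvPolynomial.aeval (fun _ => b)) (algebraMap (A ⧸ I) _ (Ideal.Quotient.mk I a)) = _
        rw [AlgHom.commutes]
        rfl)
    obtain ⟨y, hy⟩ := hp (MvPolynomial.X 0)
    obtain ⟨k, e, he⟩ := Obj.exists_obj A β
    refine ⟨ι k (e.symm y), ?_⟩
    rw [hΦ, ← he]
    show β (e (e.symm y)) = b
    rw [e.apply_symm_apply, hy]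
    simp
  have hker : RingHom.ker Φ = I.map (algebraMap A C) := by
    apply le_antisymm
    · intro x hx
      obtain ⟨j, e, rfl⟩ := hsurj x
      rw [RingHom.mem_ker, hΦ] at hx
      obtain ⟨E, _, _, _, u, β, hβu, hue⟩ := key2 A I Cb hF j.E j.φ e hx
      obtain ⟨k, θ, hθ⟩ := Obj.exists_obj A β
      let g : j ⟶ k := ⟨(θ.symm : E →ₐ[A] k.E).comp u, by
        rw [← hθ, ← hβu]
        apply AlgHom.ext
        intro x
        show β (θ (θ.symm (u x))) = β (u x)
        rw [θ.apply_symm_apply]⟩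
      rw [← hcompat g e]
      have h2 : I.map (algebraMap A E) ≤ (I.map (algebraMap A C)).comap
          ((ι k).comp (θ.symm : E →ₐ[A] k.E)) := by
        rw [Ideal.map_le_iff_le_comap]
        intro a ha
        rw [Ideal.mem_comap, Ideal.mem_comap, AlgHom.commutes]
        exact Ideal.mem_map_of_mem _ ha
      exact h2 hue
    · rw [Ideal.map_le_iff_le_comap]
      intro a ha
      rw [Ideal.mem_comap, RingHom.mem_ker, AlgHom.commutes]
      show algebraMap (A ⧸ I) Cb (Ideal.Quotient.mk I a) = 0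
      rw [Ideal.Quotient.eq_zero_iff_mem.mpr ha, map_zero]
  refine ⟨C, inferInstance, inferInstance, hC, ⟨?_⟩⟩
  let e1 : (C ⧸ RingHom.ker Φ) ≃ₐ[A] Cb := Ideal.quotientKerAlgEquivOfSurjective hΦsurj
  let e2 : (C ⧸ I.map (algebraMap A C)) ≃ₐ[A] (C ⧸ RingHom.ker Φ) :=
    Ideal.quotientEquivAlgOfEq A hker.symm
  exact AlgEquiv.extendScalarsOfSurjective Ideal.Quotient.mk_surjective (e2.trans e1)

end main

end Groth.Agent.Lib.R2LeadIndEtLift
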