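import Groth.Agent.Lib.R2H1RelDimBC
import Groth.Agent.Lib.R2LeadDimCompB
import Groth.Agent.Lib.Helper5MiracleSch
import Groth.Agent.Lib.Helper28FlatNormal

/-!
# Products of equidimensional schemes over a field are equidimensional (lead)
-/

set_option autoImplicit false
set_option linter.style.haveILetI false
universe u

open CategoryTheory CategoryTheory.Limits AlgebraicGeometry TopologicalSpace

namespace Groth.Agent.Lib.R2LeadIntDimA

open Groth.Agent.Lib.Helper4.DimFormula Groth.Agent.Lib.R2LeadDimCompA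
  Groth.Agent.Lib.R2LeadDimCompB

theorem hasRelDim_of_equidim (k : Type u) [Field k] {B : Scheme.{u}}
    (b : B ⟶ Spec (CommRingCat.of k)) (s : ℕ)
    (hB : ∀ Z ∈ irreducibleComponents (B : Type u), topologicalKrullDim Z = s) :
    Cyc.HasRelDim b s := by
  intro y
  haveI : Subsingleton ↥(Spec (CommRingCat.of k)) :=
    (inferInstance : Subsingleton (PrimeSpectrum k))
  have hpre : b ⁻¹' {y} = Set.univ := by
    ext z
    simp only [Set.mem_preimage, Set.mem_singleton_iff, Set.mem_univ, iff_true]
    exact Subsingleton.elim _ _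
  let φ : ↥(b.fiber y) ≃ₜ B :=
    (b.fiberHomeo y).trans ((Homeomorph.setCongr hpre).trans (Homeomorph.Set.univ B))
  exact Groth.Agent.Lib.Helper5.MiracleSch.irreducibleComponents_dim_of_homeomorph φ s hB

theorem flat_of_field (k : Type u) [Field k] {B : Scheme.{u}}
    (b : B ⟶ Spec (CommRingCat.of k)) : Flat b := by
  haveI : Subsingleton ↥(Spec (CommRingCat.of k)) :=
    (inferInstance : Subsingleton (PrimeSpectrum k))
  infer_instance

theorem eq_zero_of_zero_eq_add (a b : WithBot ℕ∞) (h : (0 : WithBot ℕ∞) = a + b) (hb : 0 ≤ b) :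
    b = 0 := by
  induction a using WithBot.recBotCoe with
  | bot => simp at h
  | coe a =>
    induction b using WithBot.recBotCoe with
    | bot => simp at hb
    | coe b =>
      have h' : (0 : ℕ∞) = a + b := by exact_mod_cast h
      have := (add_eq_zero.mp h'.symm).2
      rw [this]; rfl

/-- for a flat morphism, a point whose local ring has dimension zero maps to such a point -/
theorem dim_stalk_eq_zero_of_flat {X Y : Scheme.{u}} (f : X ⟶ Y) [Flat f] [IsLocallyNoetherian X]
    [IsLocallyNoetherian Y] (ξ : X) (h0 : ringKrullDim (X.presheaf.stalk ξ) = 0) :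
    ringKrullDim (Y.presheaf.stalk (f ξ)) = 0 := by
  have hflat := Flat.stalkMap f ξ
  algebraize [(f.stalkMap ξ).hom]
  haveI : IsLocalHom (algebraMap (Y.presheaf.stalk (f ξ)) (X.presheaf.stalk ξ)) :=
    inferInstanceAs (IsLocalHom (f.stalkMap ξ).hom)
  have h := Groth.Agent.Lib.Helper28.ringKrullDim_eq_add_of_flat
    (R := Y.presheaf.stalk (f ξ)) (S := X.presheaf.stalk ξ) _ rfl
  rw [h0] at h
  exact eq_zero_of_zero_eq_add _ _ h ringKrullDim_nonneg_of_nontrivial

theorem equidim_pullback (k : Type u) [Field k] {A B : Scheme.{u}}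
    (a : A ⟶ Spec (CommRingCat.of k)) (b : B ⟶ Spec (CommRingCat.of k))
    [LocallyOfFiniteType a] [LocallyOfFiniteType b] (r s : ℕ)
    (hA : ∀ Z ∈ irreducibleComponents (A : Type u), topologicalKrullDim Z = r)
    (hB : ∀ Z ∈ irreducibleComponents (B : Type u), topologicalKrullDim Z = s) :
    ∀ T ∈ irreducibleComponents ↥(pullback a b), topologicalKrullDim T = ((r + s : ℕ) : WithBot ℕ∞) := by
  intro T hT
  obtain ⟨ξ, hξT, hξmax⟩ := exists_generic_of_mem_irreducibleComponents T hT
  have hrel : Cyc.HasRelDim (pullback.fst a b) s :=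
    Groth.Agent.Lib.R2H1.RelDimBC.hasRelDim_of_isPullback (IsPullback.of_hasPullback a b) s
      (hasRelDim_of_equidim k b s hB)
  have h1 : ptTrdeg (pullback.fst a b) ξ = s :=
    Groth.Agent.Lib.R2H1.FlatDivSum.ptTrdeg_eq_of_maximal _ s hrel ξ (fun x' _ hx' => hξmax x' hx')
  haveI : Flat b := flat_of_field k b
  haveI : Flat (pullback.fst a b) := inferInstance
  haveI : IsLocallyNoetherian A := LocallyOfFiniteType.isLocallyNoetherian a
  haveI : LocallyOfFiniteType (pullback.fst a b ≫ a) := inferInstance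
  haveI : IsLocallyNoetherian (pullback a b) :=
    LocallyOfFiniteType.isLocallyNoetherian (pullback.fst a b ≫ a)
  have h0 := Groth.Agent.Lib.Helper5.StalkSpec.ringKrullDim_stalk_eq_zero_of_maximal _ ξ hξmax
  have h2 := dim_stalk_eq_zero_of_flat (pullback.fst a b) ξ h0
  have h3 := Groth.Agent.Lib.Helper5.MiracleSch.stalk_add_ptTrdeg_of_equidim k a r hA
    (pullback.fst a b ξ)
  rw [h2, zero_add] at h3
  have h3' : ptTrdeg a (pullback.fst a b ξ) = r := by exact_mod_cast h3
  have h4 := ptTrdeg_comp (pullback.fst a b) a ξ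
  have h5 := dim_closure_eq_ptTrdeg k (pullback.fst a b ≫ a) ξ
  rw [hξT] at h5
  rw [h5, h4]
  congr 1
  change ptTrdeg a (pullback.fst a b ξ) + ptTrdeg (pullback.fst a b) ξ = r + s
  rw [h3', h1]

end Groth.Agent.Lib.R2LeadIntDimA
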