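import Mathlib
import Groth.Agent.Lib.R2H4RelGCIJac

set_option autoImplicit false
universe u

namespace Groth.Agent.Lib.R2LeadJacA

open TensorProduct KaehlerDifferential MvPolynomial Algebra Module

variable {R B : Type u} [CommRing R] [CommRing B] [Algebra R B] {n : ℕ}
  (π : MvPolynomial (Fin n) R →ₐ[R] B) (hπ : Function.Surjective π)
  (K : Type u) [Field K] [Algebra B K]

/-- the generators attached to a surjection from a polynomial ring. -/
noncomputable def gens : Generators R B (Fin n) :=
  Generators.ofSurjective (fun i => π (X i)) (by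
    have h : (MvPolynomial.aeval fun i => π (X i)) = π := by
      apply MvPolynomial.algHom_ext
      intro i
      simp
    rw [h]
    exact hπ)

theorem gens_val (i : Fin n) : (gens π hπ).val i = π (X i) := rfl

theorem algebraMap_gens (p : MvPolynomial (Fin n) R) :
    algebraMap (gens π hπ).toExtension.Ring B p = π p := by
  have h : (MvPolynomial.aeval fun i => π (X i)) = π := by
    apply MvPolynomial.algHom_ext
    intro i
    simp
  change MvPolynomial.aeval (fun i => π (X i)) p = π p
  exact congrArg (fun φ : MvPolynomial (Fin n) R →ₐ[R] B => φ p) h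

theorem aeval_gens (p : MvPolynomial (Fin n) R) :
    MvPolynomial.aeval (gens π hπ).val p = π p := algebraMap_gens π hπ p

noncomputable def ccK : K ⊗[B] (gens π hπ).toExtension.Cotangent →ₗ[K]
    K ⊗[B] (gens π hπ).toExtension.CotangentSpace :=
  (gens π hπ).toExtension.cotangentComplex.baseChange K

noncomputable def tkK : K ⊗[B] (gens π hπ).toExtension.CotangentSpace →ₗ[K] K ⊗[B] Ω[B⁄R] :=
  (gens π hπ).toExtension.toKaehler.baseChange K

theorem exact_ccK_tkK : Function.Exact (ccK π hπ K) (tkK π hπ K) :=
  lTensor_exact K (gens π hπ).toExtension.exact_cotangentComplex_toKaehler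
    (gens π hπ).toExtension.toKaehler_surjective

theorem tkK_surjective : Function.Surjective (tkK π hπ K) :=
  LinearMap.baseChange_surjective K (gens π hπ).toExtension.toKaehler_surjective

noncomputable def basisK : Basis (Fin n) K (K ⊗[B] (gens π hπ).toExtension.CotangentSpace) :=
  (gens π hπ).cotangentSpaceBasis.baseChange K

theorem finrank_add :
    finrank K (K ⊗[B] Ω[B⁄R]) + finrank K (LinearMap.range (ccK π hπ K)) = n := by
  haveI : Module.Finite K (K ⊗[B] (gens π hπ).toExtension.CotangentSpace) :=
    Module.Finite.of_basis (basisK π hπ K)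
  have h1 := LinearMap.finrank_range_add_finrank_ker (tkK π hπ K)
  rw [LinearMap.range_eq_top.mpr (tkK_surjective π hπ K), finrank_top,
    (LinearMap.exact_iff.mp (exact_ccK_tkK π hπ K))] at h1
  rw [h1, finrank_eq_card_basis (basisK π hπ K)]
  simp

noncomputable def v (x : (gens π hπ).toExtension.ker) :
    K ⊗[B] (gens π hπ).toExtension.CotangentSpace :=
  (1 : K) ⊗ₜ[B] (gens π hπ).toExtension.cotangentComplex (Extension.Cotangent.mk x)

theorem basisK_repr_v (x : (gens π hπ).toExtension.ker) (i : Fin n) :
    (basisK π hπ K).repr (v π hπ K x) i =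
      algebraMap B K (π (pderiv i (x.1 : MvPolynomial (Fin n) R))) := by
  rw [v, Extension.cotangentComplex_mk, basisK, Basis.baseChange_repr_tmul,
    Generators.cotangentSpaceBasis_repr_one_tmul, Algebra.smul_def, mul_one, aeval_gens]

theorem range_ccK_eq_span :
    LinearMap.range (ccK π hπ K) = Submodule.span K (Set.range (v π hπ K)) := by
  apply le_antisymm
  · rintro _ ⟨z, rfl⟩
    induction z using TensorProduct.induction_on with
    | zero => simp
    | tmul a m =>
      obtain ⟨y, rfl⟩ := Extension.Cotangent.mk_surjective m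
      have : ccK π hπ K (a ⊗ₜ Extension.Cotangent.mk y) = a • v π hπ K y := by
        simp [ccK, v, TensorProduct.smul_tmul']
      rw [this]
      exact Submodule.smul_mem _ _ (Submodule.subset_span ⟨y, rfl⟩)
    | add a b ha hb => rw [map_add]; exact Submodule.add_mem _ ha hb
  · rw [Submodule.span_le]
    rintro _ ⟨y, rfl⟩
    exact ⟨1 ⊗ₜ Extension.Cotangent.mk y, by simp [ccK, v]⟩

include hπ in
theorem exists_minor (c : ℕ) (hc : c + finrank K (K ⊗[B] Ω[B⁄R]) ≤ n) :
    ∃ (F : Fin c → MvPolynomial (Fin n) R) (I : Fin c ↪ Fin n), (∀ j, π (F j) = 0) ∧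
      algebraMap B K (π (Matrix.det (Matrix.of fun j i => pderiv (I i) (F j)))) ≠ 0 := by
  classical
  obtain ⟨κ, a, ha, hsp, hli⟩ := exists_linearIndependent' K (v π hπ K)
  haveI : Module.Finite K (K ⊗[B] (gens π hπ).toExtension.CotangentSpace) :=
    Module.Finite.of_basis (basisK π hπ K)
  haveI : Finite κ := hli.finite
  haveI := Fintype.ofFinite κ
  have hcard : Fintype.card κ = finrank K (LinearMap.range (ccK π hπ K)) := by
    rw [range_ccK_eq_span, ← hsp, finrank_span_eq_card hli]
  have hc' : c ≤ Fintype.card κ := by have := finrank_add π hπ K; omega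
  obtain ⟨e⟩ : Nonempty (Fin c ↪ κ) := Function.Embedding.nonempty_of_card_le (by simpa using hc')
  let F : Fin c → MvPolynomial (Fin n) R := fun j => (a (e j)).1
  have hF : ∀ j, π (F j) = 0 := fun j => by
    have h := (a (e j)).2
    rw [← algebraMap_gens π hπ]
    exact (RingHom.mem_ker).mp h
  let M : Matrix (Fin n) (Fin c) K := Matrix.of fun i j => algebraMap B K (π (pderiv i (F j)))
  have hM : ∀ w : Fin c → K, M.mulVec w = 0 → w = 0 := by
    intro w hw
    have hli2 : LinearIndependent K (v π hπ K ∘ a ∘ e) := hli.comp e e.injective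
    rw [Fintype.linearIndependent_iff] at hli2
    apply _root_.funext
    apply hli2
    apply (basisK π hπ K).repr.injective
    ext i
    have h3 := congrFun hw i
    simp only [Matrix.mulVec, dotProduct, M, Matrix.of_apply, Pi.zero_apply] at h3
    simp only [map_sum, map_smul, Finsupp.coe_finset_sum, Finsupp.coe_smul, Finset.sum_apply,
      Pi.smul_apply, Function.comp_apply, basisK_repr_v, map_zero, Finsupp.coe_zero,
      Pi.zero_apply, smul_eq_mul]
    rw [← h3]
    exact Finset.sum_congr rfl fun j _ => mul_comm _ _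
  obtain ⟨I, hI⟩ := R2H4.RelGCIJac.exists_minor_ne_zero M hM
  refine ⟨F, I, hF, ?_⟩
  have h4 : algebraMap B K (π (Matrix.det (Matrix.of fun j i => pderiv (I i) (F j)))) =
      (M.submatrix I id).det := by
    rw [← Matrix.det_transpose (M.submatrix I id)]
    have h5 := RingHom.map_det ((algebraMap B K).comp π.toRingHom)
      (Matrix.of fun j i => pderiv (I i) (F j))
    simp only [RingHom.coe_comp, Function.comp_apply, AlgHom.toRingHom_eq_coe,
      RingHom.coe_coe] at h5
    rw [h5]
    congr 1
  rw [h4]
  exact hI

end Groth.Agent.Lib.R2LeadJacA
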