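import Mathlib
import Groth.Agent.Lib.R2H4RelGCIJac

set_option autoImplicit false
universe u

namespace Groth.Agent.Lib.R2LeadJacB

open MvPolynomial

variable (R : Type u) [CommRing R] (n c : ℕ) (F : Fin c → MvPolynomial (Fin n) R)

/-- the image of the `I`-minor of the Jacobian matrix in the quotient ring. -/
noncomputable def minor (I : Fin c ↪ Fin n) : Synt.RelGCIRing R n c F :=
  Ideal.Quotient.mk (Ideal.span (Set.range F))
    (Matrix.det (Matrix.of fun j i => MvPolynomial.pderiv (I i) (F j)))

theorem isStandardSmoothOfRelativeDimension_away (I : Fin c ↪ Fin n) :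
    Algebra.IsStandardSmoothOfRelativeDimension (n - c) R
      (Localization.Away (minor R n c F I)) := by
  classical
  let P₀ : Algebra.PreSubmersivePresentation R (Synt.RelGCIRing R n c F) (Fin n) (Fin c) :=
    Algebra.PreSubmersivePresentation.naive (v := F) I I.injective
  set gS : Synt.RelGCIRing R n c F := minor R n c F I with hg
  have hjac : P₀.jacobian = gS := by
    rw [Algebra.PreSubmersivePresentation.jacobian_eq_jacobiMatrix_det]
    have h1 : P₀.jacobiMatrix =
        (Matrix.of fun j i => MvPolynomial.pderiv (I i) (F j)).transpose := by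
      refine Matrix.ext fun i j => ?_
      exact Algebra.PreSubmersivePresentation.jacobiMatrix_naive (R := R) (v := F) I I.injective
        _ _ i j
    rw [h1, Matrix.det_transpose]
    rfl
  let Q := Algebra.PreSubmersivePresentation.localizationAway (Localization.Away gS) gS
  have hunit : IsUnit (Q.comp P₀).jacobian := by
    rw [Algebra.PreSubmersivePresentation.comp_jacobian_eq_jacobian_smul_jacobian,
      Algebra.PreSubmersivePresentation.localizationAway_jacobian, hjac, Algebra.smul_def]
    exact (IsLocalization.Away.algebraMap_isUnit gS).mul (IsLocalization.Away.algebraMap_isUnit gS)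
  let SP : Algebra.SubmersivePresentation R (Localization.Away gS) _ _ := ⟨Q.comp P₀, hunit⟩
  refine SP.isStandardSmoothOfRelativeDimension ?_
  change Nat.card (Unit ⊕ Fin n) - Nat.card (Unit ⊕ Fin c) = n - c
  simp only [Nat.card_eq_fintype_card, Fintype.card_sum, Fintype.card_unique, Fintype.card_fin]
  omega

end Groth.Agent.Lib.R2LeadJacB
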