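import Mathlib
import Groth.Agent.Lib.Helper3SmDim
import Groth.Agent.Lib.R2H3SmPure
import Groth.Agent.Lib.H6xFibIso
import Groth.Agent.Lib.Helper14LocalDimB

set_option autoImplicit false
universe u

namespace Groth.Agent.Lib.R2LeadJacC

open AlgebraicGeometry CategoryTheory

/-- local dimension of the spectrum of an algebra standard smooth of relative dimension `m` over a
field. -/
theorem localDim_of_standardSmooth {k T : Type u} [Field k] [CommRing T] [Algebra k T] (m : ℕ)
    [Algebra.IsStandardSmoothOfRelativeDimension m k T] (z : PrimeSpectrum T) :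
    FlatMor.localDim (PrimeSpectrum T) z = (m : WithBot ℕ∞) := by
  let f : CommRingCat.of k ⟶ CommRingCat.of T := CommRingCat.ofHom (algebraMap k T)
  have hf : f.hom.IsStandardSmoothOfRelativeDimension m := by
    rw [RingHom.IsStandardSmoothOfRelativeDimension]
    convert ‹Algebra.IsStandardSmoothOfRelativeDimension m k T›
    exact Algebra.algebra_ext _ _ fun _ => rfl
  have h1 := Groth.Agent.Lib.Helper3.SmDim.fibreDimAt_SpecMap_of_isStandardSmoothOfRelativeDimension
    f m hf z
  haveI : Subsingleton ↥(Spec (CommRingCat.of k)) :=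
    inferInstanceAs (Subsingleton (PrimeSpectrum k))
  rw [Groth.Agent.Lib.R2H3.SmPure.fibreDimAt_eq_localDim] at h1
  exact h1

theorem localDim_of_away_standardSmooth {k T : Type u} [Field k] [CommRing T] [Algebra k T] (g : T)
    (m : ℕ) [Algebra.IsStandardSmoothOfRelativeDimension m k (Localization.Away g)]
    (z : PrimeSpectrum T) (hz : g ∉ z.asIdeal) :
    FlatMor.localDim (PrimeSpectrum T) z = (m : WithBot ℕ∞) := by
  have hemb := PrimeSpectrum.localization_away_isOpenEmbedding (Localization.Away g) g
  have hr : z ∈ Set.range (PrimeSpectrum.comap (algebraMap T (Localization.Away g))) := by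
    rw [PrimeSpectrum.localization_away_comap_range (Localization.Away g) g]
    exact hz
  obtain ⟨z', rfl⟩ := hr
  rw [← Groth.Agent.Lib.H6xFibIso.localDim_eq_of_isOpenEmbedding hemb z']
  exact localDim_of_standardSmooth (k := k) m z'

end Groth.Agent.Lib.R2LeadJacC
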