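import Mathlib
import Groth.Agent.Lib.R2LeadJacA
import Groth.Agent.Lib.R2LeadJacB
import Groth.Agent.Lib.R2LeadJacC
import Groth.Agent.Lib.Helper6SmReg
import Groth.Agent.Lib.Helper5RLR

set_option autoImplicit false
universe u

namespace Groth.Agent.Lib.R2LeadJacD

open TensorProduct KaehlerDifferential MvPolynomial Algebra Module

/-- a surjection from a domain onto a ring of at least the same (finite) dimension is injective. -/
theorem injective_of_dim_le {A C : Type*} [CommRing A] [CommRing C] [IsDomain A]
    (φ : A →+* C) (hφ : Function.Surjective φ) (a a' : ℕ) (hA : ringKrullDim A = a')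
    (hC : ringKrullDim C = a) (h : a' ≤ a) : Function.Injective φ := by
  rw [injective_iff_map_eq_zero]
  intro r hr
  by_contra hne
  have h1 : ringKrullDim (A ⧸ Ideal.span {r}) + 1 ≤ ringKrullDim A :=
    ringKrullDim_quotient_succ_le_of_nonZeroDivisor (mem_nonZeroDivisors_of_ne_zero hne)
  have h2 : ringKrullDim C ≤ ringKrullDim (A ⧸ Ideal.span {r}) :=
    ringKrullDim_le_of_surjective (Ideal.Quotient.lift (Ideal.span {r}) φ (by
      intro x hx
      obtain ⟨y, rfl⟩ := Ideal.mem_span_singleton'.mp hx
      simp [hr])) (Ideal.Quotient.lift_surjective_of_surjective _ _ hφ)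
  rw [hA] at h1
  rw [hC] at h2
  have h3 : ((a : ℕ) : WithBot ℕ∞) + 1 ≤ a' := (add_le_add_left h2 1).trans h1
  have h4 : ((a + 1 : ℕ) : WithBot ℕ∞) ≤ ((a' : ℕ) : WithBot ℕ∞) := by
    push_cast
    exact h3
  have h5 : a + 1 ≤ a' := by exact_mod_cast h4
  omega

variable {k S : Type u} [Field k] [CommRing S] [Algebra k S] [Algebra.FiniteType k S]

theorem isSmoothAt_of_finrank_le (q : Ideal S) [q.IsPrime]
    (h : ((finrank q.ResidueField (q.ResidueField ⊗[S] Ω[S⁄k]) : ℕ∞) : WithBot ℕ∞) ≤
      FlatMor.localDim (PrimeSpectrum S) ⟨q, inferInstance⟩) :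
    Algebra.IsSmoothAt k q := by
  obtain ⟨n, π, hπ⟩ := Algebra.FiniteType.iff_quotient_mvPolynomial''.mp ‹Algebra.FiniteType k S›
  set r := finrank q.ResidueField (q.ResidueField ⊗[S] Ω[S⁄k]) with hr
  have hrn : r ≤ n := by
    have := R2LeadJacA.finrank_add π hπ q.ResidueField
    omega
  obtain ⟨F, I, hF, hdet⟩ := R2LeadJacA.exists_minor π hπ q.ResidueField (n - r) (by omega)
  have hker : ∀ a ∈ Ideal.span (Set.range F), π a = 0 := by
    intro a ha
    have hle : Ideal.span (Set.range F) ≤ RingHom.ker π.toRingHom := by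
      rw [Ideal.span_le]
      rintro _ ⟨j, rfl⟩
      exact hF j
    exact hle ha
  let ρ : Synt.RelGCIRing k n (n - r) F →ₐ[k] S :=
    Ideal.Quotient.liftₐ (Ideal.span (Set.range F)) π hker
  have hρ : Function.Surjective ρ := Ideal.Quotient.lift_surjective_of_surjective _ _ hπ
  set g : Synt.RelGCIRing k n (n - r) F := R2LeadJacB.minor k n (n - r) F I with hg
  have hρg : ρ g = π (Matrix.det (Matrix.of fun j i => pderiv (I i) (F j))) := rfl
  set q' : Ideal (Synt.RelGCIRing k n (n - r) F) := q.comap ρ.toRingHom with hq'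
  haveI : q'.IsPrime := Ideal.comap_isPrime _ _
  have hgq' : g ∉ q' := by
    intro hmem
    apply hdet
    rw [← hρg]
    exact (Ideal.algebraMap_residueField_eq_zero).mpr hmem
  haveI : Algebra.IsSmoothAt k q' :=
    R2H4.RelGCIJac.isSmoothAt_of_minor_notMem k n (n - r) F q' I hgq'
  haveI := R2LeadJacB.isStandardSmoothOfRelativeDimension_away k n (n - r) F I
  have hld' : FlatMor.localDim (PrimeSpectrum (Synt.RelGCIRing k n (n - r) F)) ⟨q', inferInstance⟩ =
      ((n - (n - r) : ℕ) : WithBot ℕ∞) :=
    R2LeadJacC.localDim_of_away_standardSmooth (k := k) g (n - (n - r)) ⟨q', inferInstance⟩ hgq'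
  obtain ⟨a, e, ha, he, -, he'⟩ := Helper14.LocalDim.exists_dims (k := k) q
  obtain ⟨a', e1, ha', he1, -, he1'⟩ := Helper14.LocalDim.exists_dims (k := k) q'
  have h1 := Helper14.LocalDim.localDim_eq (k := k) q a e ha he he'
  have h2 := Helper14.LocalDim.localDim_eq (k := k) q' a' e1 ha' he1 he1'
  have hee : e1 = e := by
    let f : Synt.RelGCIRing k n (n - r) F →+* S ⧸ q := (Ideal.Quotient.mk q).comp ρ.toRingHom
    have hf : Function.Surjective f := Ideal.Quotient.mk_surjective.comp hρ
    have hkf : RingHom.ker f = q' := by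
      rw [hq', ← RingHom.comap_ker, Ideal.mk_ker]
    have hdim : ringKrullDim (Synt.RelGCIRing k n (n - r) F ⧸ q') = ringKrullDim (S ⧸ q) :=
      ringKrullDim_eq_of_ringEquiv
        ((Ideal.quotEquivOfEq hkf.symm).trans (RingHom.quotientKerEquivOfSurjective hf))
    rw [he, he1] at hdim
    exact_mod_cast hdim
  have haa : a' ≤ a := by
    rw [h1] at h
    rw [hld'] at h2
    have h3 : n - (n - r) = a' + e1 := by exact_mod_cast h2
    have h4 : r ≤ a + e := by exact_mod_cast h
    omega
  haveI : Algebra.FinitePresentation k (Synt.RelGCIRing k n (n - r) F) :=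
    Algebra.FinitePresentation.quotient
      (Submodule.fg_span (Set.finite_range F))
  haveI : IsRegularLocalRing (Localization.AtPrime q') :=
    Helper6.SmReg.isRegularLocalRing_of_isSmoothAt (R := k) q'
  haveI : IsDomain (Localization.AtPrime q') :=
    Helper5.isDomain_of_isRegularLocalRing (Localization.AtPrime q')
  let φ := Localization.localRingHom q' q ρ.toRingHom rfl
  have hφs : Function.Surjective φ :=
    RingHom.surjective_localRingHom_of_surjective ρ.toRingHom hρ q
  have hφi : Function.Injective φ := injective_of_dim_le φ hφs a a'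
    (by rw [IsLocalization.AtPrime.ringKrullDim_eq_height q' (Localization.AtPrime q'), ha']; rfl)
    (by rw [IsLocalization.AtPrime.ringKrullDim_eq_height q (Localization.AtPrime q), ha]; rfl) haa
  let ψ : Localization.AtPrime q' →ₐ[k] Localization.AtPrime q :=
    { φ with
      commutes' := fun c => by
        change φ (algebraMap k (Localization.AtPrime q') c) = _
        rw [IsScalarTower.algebraMap_apply k (Synt.RelGCIRing k n (n - r) F)
          (Localization.AtPrime q'), Localization.localRingHom_to_map]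
        change algebraMap S _ (ρ (algebraMap k _ c)) = _
        rw [ρ.commutes, ← IsScalarTower.algebraMap_apply] }
  have hψ : Function.Bijective ψ := ⟨hφi, hφs⟩
  let eqv : Localization.AtPrime q' ≃ₐ[k] Localization.AtPrime q := AlgEquiv.ofBijective ψ hψ
  exact Algebra.FormallySmooth.of_equiv (R := k) (A := Localization.AtPrime q')
    (B := Localization.AtPrime q) eqv

end Groth.Agent.Lib.R2LeadJacD
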