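import Mathlib
import Groth.Agent.Lib.R2LeadJacC

set_option autoImplicit false
universe u

namespace Groth.Agent.Lib.R2LeadJacE

open TensorProduct KaehlerDifferential Algebra Module

variable {k S : Type u} [Field k] [CommRing S] [Algebra k S] [Algebra.FiniteType k S]

/-- residue rank of differentials of an algebra standard smooth of relative dimension `m`. -/
theorem finrank_tensor_of_standardSmooth {R T : Type u} [CommRing R] [CommRing T] [Algebra R T]
    (m : ℕ) [Algebra.IsStandardSmoothOfRelativeDimension m R T]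
    (K : Type u) [Field K] [Algebra T K] :
    finrank K (K ⊗[T] Ω[T⁄R]) = m := by
  obtain ⟨ι, σ, _, _, P, hP⟩ := ‹Algebra.IsStandardSmoothOfRelativeDimension m R T›.out
  haveI : Nontrivial T := (algebraMap T K).domain_nontrivial
  haveI : Module.Free T Ω[T⁄R] := P.free_kaehlerDifferential
  have h1 : Module.rank T Ω[T⁄R] = m := by rw [P.rank_kaehlerDifferential, hP]
  rw [Module.finrank_baseChange]
  exact Module.finrank_eq_of_rank_eq h1

theorem finrank_eq_localDim_of_isSmoothAt (q : Ideal S) [q.IsPrime] [Algebra.IsSmoothAt k q] :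
    ((finrank q.ResidueField (q.ResidueField ⊗[S] Ω[S⁄k]) : ℕ∞) : WithBot ℕ∞) =
      FlatMor.localDim (PrimeSpectrum S) ⟨q, inferInstance⟩ := by
  haveI : Algebra.FinitePresentation k S := Algebra.FinitePresentation.of_finiteType.mp inferInstance
  obtain ⟨f, hf, hstd⟩ := Algebra.IsSmoothAt.exists_notMem_isStandardSmooth k q
  obtain ⟨ι, σ, _, _, ⟨P⟩⟩ := hstd
  haveI : Algebra.IsStandardSmoothOfRelativeDimension P.dimension k (Localization.Away f) :=
    ⟨_, _, ‹_›, ‹_›, P, rfl⟩
  rw [R2LeadJacC.localDim_of_away_standardSmooth (k := k) f P.dimension ⟨q, inferInstance⟩ hf]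
  have hu : IsUnit (algebraMap S q.ResidueField f) := by
    rw [isUnit_iff_ne_zero, Ne, Ideal.algebraMap_residueField_eq_zero]
    exact hf
  letI : Algebra (Localization.Away f) q.ResidueField :=
    (IsLocalization.Away.lift f hu).toAlgebra
  haveI : IsScalarTower S (Localization.Away f) q.ResidueField :=
    IsScalarTower.of_algebraMap_eq fun x => (IsLocalization.Away.lift_eq f hu x).symm
  haveI : Algebra.FormallyEtale S (Localization.Away f) :=
    Algebra.FormallyEtale.of_isLocalization (Submonoid.powers f)
  have h1 := finrank_tensor_of_standardSmooth (R := k) (T := Localization.Away f) P.dimension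
    q.ResidueField
  let e1 : q.ResidueField ⊗[Localization.Away f] (Localization.Away f ⊗[S] Ω[S⁄k]) ≃ₗ[q.ResidueField]
      q.ResidueField ⊗[S] Ω[S⁄k] :=
    TensorProduct.AlgebraTensorModule.cancelBaseChange S (Localization.Away f) q.ResidueField
      q.ResidueField Ω[S⁄k]
  let e2 : q.ResidueField ⊗[Localization.Away f] (Localization.Away f ⊗[S] Ω[S⁄k]) ≃ₗ[q.ResidueField]
      q.ResidueField ⊗[Localization.Away f] Ω[Localization.Away f⁄k] :=
    TensorProduct.AlgebraTensorModule.congr (LinearEquiv.refl _ _)
      (KaehlerDifferential.tensorKaehlerEquivOfFormallyEtale k S (Localization.Away f))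
  rw [← (e1.symm.trans e2).finrank_eq.symm, h1]
  rfl

end Groth.Agent.Lib.R2LeadJacE
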