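import Mathlib
import Groth.Prelude.Def_LCI2

/-!
# The Jacobian determinant and the naive cotangent complex: linear algebra (lead)

For `B = A[x_1..x_n]/(f_1..f_m)` and the `m × m` Jacobian minor `g`, a `B`-linear map
`s : B ⊗ Ω → I/I²` with `s ∘ d = g` on `I/I²`, and `d ∘ s = g` when `n = m`.
-/

set_option autoImplicit false
set_option linter.style.haveILetI false
set_option linter.unusedVariables false
set_option linter.unusedSectionVars false
universe u

namespace Groth.Agent.Lib.R2LeadJacExt1

open Algebra MvPolynomial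

variable {A : Type u} [CommRing A] {n m : ℕ} (hmn : m ≤ n) (f : Fin m → MvPolynomial (Fin n) A)

/-- the quotient ring -/
abbrev Bq : Type u := MvPolynomial (Fin n) A ⧸ Ideal.span (Set.range f)

/-- the generators `x_i` of the quotient -/
noncomputable def gens : Generators A (Bq f) (Fin n) :=
  Generators.ofAlgHom (Ideal.Quotient.mkₐ A (Ideal.span (Set.range f)))
    (Ideal.Quotient.mkₐ_surjective A _)

lemma algebraMap_gens (p : MvPolynomial (Fin n) A) :
    algebraMap (gens f).toExtension.Ring (Bq f) p = Ideal.Quotient.mk (Ideal.span (Set.range f)) p := by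
  have h : aeval (gens f).val = Ideal.Quotient.mkₐ A (Ideal.span (Set.range f)) := by
    ext i
    simp [gens, Generators.ofAlgHom, Generators.ofSurjective]
  show aeval (gens f).val p = _
  rw [h]
  rfl

lemma mem_ker_iff (p : (gens f).toExtension.Ring) :
    p ∈ (gens f).toExtension.ker ↔ (p : MvPolynomial (Fin n) A) ∈ Ideal.span (Set.range f) := by
  have h1 : p ∈ (gens f).toExtension.ker ↔
      algebraMap (gens f).toExtension.Ring (Bq f) p = 0 := RingHom.mem_ker
  rw [h1, algebraMap_gens, Ideal.Quotient.eq_zero_iff_mem]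
  exact Iff.rfl

/-- the relations as elements of the kernel -/
noncomputable def kgen (j : Fin m) : (gens f).toExtension.ker :=
  ⟨f j, (mem_ker_iff f (f j)).mpr (Ideal.subset_span ⟨j, rfl⟩)⟩

/-- `B^m → I/I²` -/
noncomputable def piMap : (Fin m → Bq f) →ₗ[Bq f] (gens f).toExtension.Cotangent :=
  Fintype.linearCombination (Bq f) (fun j => Extension.Cotangent.mk (kgen f j))

lemma piMap_surjective : Function.Surjective (piMap f) := by
  intro x
  obtain ⟨⟨p, hp⟩, rfl⟩ := Extension.Cotangent.mk_surjective x
  have hp' : (p : MvPolynomial (Fin n) A) ∈ Ideal.span (Set.range f) := (mem_ker_iff f p).mp hp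
  obtain ⟨c, hc⟩ := (Ideal.mem_span_range_iff_exists_fun (R := MvPolynomial (Fin n) A)).mp hp'
  refine ⟨fun j => Ideal.Quotient.mk _ (c j), ?_⟩
  let c' : Fin m → (gens f).toExtension.Ring := c
  have h1 : (⟨p, hp⟩ : (gens f).toExtension.ker) = ∑ j, c' j • kgen f j := by
    apply Subtype.ext
    rw [AddSubmonoidClass.coe_finsetSum]
    exact hc.symm
  rw [h1, map_sum, piMap, Fintype.linearCombination_apply]
  refine Finset.sum_congr rfl fun j _ => ?_
  rw [map_smul, ← algebraMap_gens, algebraMap_smul]

/-- the first `m` coordinates `B ⊗ Ω → B^m` -/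
noncomputable def prMap : (gens f).toExtension.CotangentSpace →ₗ[Bq f] (Fin m → Bq f) :=
  (LinearMap.funLeft (Bq f) (Bq f) (Fin.castLE hmn)) ∘ₗ
    ((gens f).cotangentSpaceBasis.equivFun : _ ≃ₗ[Bq f] (Fin n → Bq f)).toLinearMap

/-- the Jacobian minor -/
noncomputable def jac : Matrix (Fin m) (Fin m) (Bq f) :=
  Matrix.of fun i j => Ideal.Quotient.mk (Ideal.span (Set.range f)) (pderiv (Fin.castLE hmn i) (f j))

lemma det_jac : (jac hmn f).det = Ideal.Quotient.mk (Ideal.span (Set.range f))
    (Matrix.det (Matrix.of (fun i j : Fin m => pderiv (Fin.castLE hmn i) (f j)))) := by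
  rw [RingHom.map_det]
  rfl

lemma pr_d_pi (v : Fin m → Bq f) :
    prMap hmn f ((gens f).toExtension.cotangentComplex (piMap f v)) = (jac hmn f).mulVec v := by
  rw [piMap, Fintype.linearCombination_apply, map_sum, map_sum]
  ext i
  rw [Finset.sum_apply, Matrix.mulVec, dotProduct]
  refine Finset.sum_congr rfl fun j _ => ?_
  rw [map_smul, map_smul, Pi.smul_apply, smul_eq_mul, mul_comm]
  congr 1
  rw [Extension.cotangentComplex_mk]
  show (gens f).cotangentSpaceBasis.repr _ (Fin.castLE hmn i) = _
  rw [Generators.cotangentSpaceBasis_repr_one_tmul, jac, Matrix.of_apply, ← algebraMap_gens]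
  rfl

/-- the contracting map -/
noncomputable def sMap : (gens f).toExtension.CotangentSpace →ₗ[Bq f] (gens f).toExtension.Cotangent :=
  piMap f ∘ₗ Matrix.toLin' (jac hmn f).adjugate ∘ₗ prMap hmn f

theorem s_comp_d (x : (gens f).toExtension.Cotangent) :
    sMap hmn f ((gens f).toExtension.cotangentComplex x) = (jac hmn f).det • x := by
  obtain ⟨v, rfl⟩ := piMap_surjective f x
  rw [sMap, LinearMap.comp_apply, LinearMap.comp_apply, pr_d_pi, Matrix.toLin'_apply,
    Matrix.mulVec_mulVec, Matrix.adjugate_mul, Matrix.smul_mulVec, Matrix.one_mulVec, map_smul]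

theorem d_comp_s (hnm : n = m) (y : (gens f).toExtension.CotangentSpace) :
    (gens f).toExtension.cotangentComplex (sMap hmn f y) = (jac hmn f).det • y := by
  have hinj : Function.Injective (prMap hmn f) := by
    rw [prMap, LinearMap.coe_comp]
    refine Function.Injective.comp ?_ (LinearEquiv.injective _)
    apply LinearMap.funLeft_injective_of_surjective
    subst hnm
    intro i
    exact ⟨i, by ext; rfl⟩
  apply hinj
  rw [sMap, LinearMap.comp_apply, LinearMap.comp_apply, pr_d_pi, Matrix.toLin'_apply,
    Matrix.mulVec_mulVec, Matrix.mul_adjugate, Matrix.smul_mulVec, Matrix.one_mulVec, map_smul]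

end Groth.Agent.Lib.R2LeadJacExt1
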