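import Mathlib
import Groth.Prelude.Def_LCI2
import Groth.Agent.Lib.R2H3NLHtpy
import Groth.Agent.Lib.Helper1TwoTerm

/-!
# Contracting homotopies on the naive cotangent complex (lead)
-/

set_option autoImplicit false
set_option linter.style.haveILetI false
set_option linter.unusedVariables false
set_option linter.unusedSectionVars false
universe u

namespace Groth.Agent.Lib.R2LeadJacExt2

open CategoryTheory CategoryTheory.Limits HomologicalComplex Algebra Algebra.Extension
open Groth.Agent.Lib.R2H3.NLHtpy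

attribute [local instance] HasDerivedCategory.standard

variable {R S : Type u} [CommRing R] [CommRing S] [Algebra R S] (P : Extension.{u} R S)
  (g : S) (s : P.CotangentSpace →ₗ[S] P.Cotangent)

lemma ofHom_smul_id (M : Type u) [AddCommGroup M] [Module S M] :
    ModuleCat.ofHom (g • (LinearMap.id : M →ₗ[S] M)) = g • 𝟙 (ModuleCat.of S M) := rfl

/-- the null-homotopy of `g • 𝟙` -/
noncomputable def nullHomotopy (hsd : ∀ x, s (P.cotangentComplex x) = g • x)
    (hds : ∀ y, P.cotangentComplex (s y) = g • y) :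
    Homotopy (g • 𝟙 (NLCx.cx P)) 0 := by
  refine homotopyOfDouble (d := ModuleCat.ofHom P.cotangentComplex) _
    (ModuleCat.ofHom s ≫ (iso₀ P).inv) ?_ ?_
  · have h1 : ModuleCat.ofHom P.cotangentComplex ≫ ModuleCat.ofHom s =
        g • 𝟙 (ModuleCat.of S P.Cotangent) := by
      rw [← ofHom_smul_id]
      apply ModuleCat.hom_ext
      apply LinearMap.ext
      intro x
      exact hsd x
    refine Eq.trans ?_ (add_zero _).symm
    change g • 𝟙 _ =
      (iso₀ P).hom ≫ ModuleCat.ofHom P.cotangentComplex ≫ ModuleCat.ofHom s ≫ (iso₀ P).inv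
    rw [← Category.assoc (ModuleCat.ofHom P.cotangentComplex), h1, Linear.smul_comp,
      Linear.comp_smul, Category.id_comp, Iso.hom_inv_id]
  · have h1 : ModuleCat.ofHom s ≫ ModuleCat.ofHom P.cotangentComplex =
        g • 𝟙 (ModuleCat.of S P.CotangentSpace) := by
      rw [← ofHom_smul_id]
      apply ModuleCat.hom_ext
      apply LinearMap.ext
      intro y
      exact hds y
    refine Eq.trans ?_ (add_zero _).symm
    change g • 𝟙 _ = (iso₁ P).hom ≫ (ModuleCat.ofHom s ≫ (iso₀ P).inv) ≫ (NLCx.cx P).d (-1) 0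
    rw [cx_d, Category.assoc, Iso.inv_hom_id_assoc, ← Category.assoc (ModuleCat.ofHom s), h1,
      Linear.smul_comp, Linear.comp_smul, Category.id_comp, Iso.hom_inv_id]

theorem smul_id_eq_zero (hsd : ∀ x, s (P.cotangentComplex x) = g • x)
    (hds : ∀ y, P.cotangentComplex (s y) = g • y) :
    g • 𝟙 (DRing.toD (NLCx.cx P)) = 0 := by
  have h := DerivedCategory.Q_map_eq_of_homotopy _ (nullHomotopy P g s hsd hds)
  rw [CategoryTheory.Functor.map_smul, CategoryTheory.Functor.map_id, CategoryTheory.Functor.map_zero] at h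
  exact h

open CategoryTheory.Pretriangulated DerivedCategory in
theorem smul_hom_eq_zero [Module.Projective S P.CotangentSpace]
    (hsd : ∀ x, s (P.cotangentComplex x) = g • x)
    (N : Type u) [AddCommGroup N] [Module S N]
    (φ : DRing.toD (NLCx.cx P) ⟶ (Dual.inD S N)⟦(1 : ℤ)⟧) : g • φ = 0 := by
  have hE : ∀ i : ℤ, i ≠ -1 → i ≠ 0 → IsZero ((NLCx.cx P).X i) :=
    fun i h₀ h₁ => isZero_cx_X P i h₀ h₁
  obtain ⟨i, p, hT, hi⟩ := Groth.Agent.Lib.Helper1.TwoTerm.exists_triangle (NLCx.cx P) hE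
  -- the degree 0 term is projective
  haveI hproj : Projective ((NLCx.cx P).X 0) :=
    Projective.of_iso (iso₁ P).symm
      ((IsProjective.iff_projective (R := S) (P := P.CotangentSpace)).mp inferInstance)
  -- `i ≫ φ = 0`
  have h0 : i ≫ φ = 0 := by
    let β := ((DerivedCategory.singleFunctors (ModuleCat.{u} S)).shiftIso 1 (-1) 0 (by simp)).app
      (ModuleCat.of S N)
    rw [← cancel_mono β.hom, zero_comp]
    exact DerivedCategory.from_singleFunctor_obj_eq_zero_of_projective
      (L := (CochainComplex.singleFunctor (ModuleCat.{u} S) (-1)).obj (ModuleCat.of S N))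
      ((i ≫ φ) ≫ β.hom) (-1) (by decide)
  obtain ⟨ψ', hψ'⟩ := Triangle.yoneda_exact₂ _ hT φ h0
  dsimp only [Triangle.mk] at ψ' hψ'
  obtain ⟨ψ, rfl⟩ := (shiftFunctor (DerivedCategory (ModuleCat.{u} S)) (1 : ℤ)).map_surjective ψ'
  obtain ⟨ψ₀, rfl⟩ := (DerivedCategory.singleFunctor (ModuleCat.{u} S) 0).map_surjective ψ
  let s' : (NLCx.cx P).X 0 ⟶ (NLCx.cx P).X (-1) := (iso₁ P).hom ≫ ModuleCat.ofHom s ≫ (iso₀ P).inv
  have h1 : ModuleCat.ofHom P.cotangentComplex ≫ ModuleCat.ofHom s =
      g • 𝟙 (ModuleCat.of S P.Cotangent) := by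
    rw [← ofHom_smul_id]
    apply ModuleCat.hom_ext
    apply LinearMap.ext
    intro x
    exact hsd x
  have hds' : (NLCx.cx P).d (-1) 0 ≫ s' = g • 𝟙 ((NLCx.cx P).X (-1)) := by
    rw [cx_d]
    simp only [s', Category.assoc, Iso.inv_hom_id_assoc]
    rw [← Category.assoc (ModuleCat.ofHom P.cotangentComplex), h1, Linear.smul_comp,
      Linear.comp_smul, Category.id_comp, Iso.hom_inv_id]
  have h2 : g • ψ₀ = (NLCx.cx P).d (-1) 0 ≫ s' ≫ ψ₀ := by
    rw [← Category.assoc, hds', Linear.smul_comp, Category.id_comp]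
  have h3 := comp_distTriang_mor_zero₂₃ _ hT
  dsimp only [Triangle.mk] at h3
  rw [hψ', ← Linear.comp_smul, ← CategoryTheory.Functor.map_smul, ← CategoryTheory.Functor.map_smul, h2,
    CategoryTheory.Functor.map_comp, CategoryTheory.Functor.map_comp, ← Category.assoc, h3]
  exact zero_comp

end Groth.Agent.Lib.R2LeadJacExt2
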