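import Mathlib
import Groth.Agent.Lib.R2LeadJacA
import Groth.Agent.Lib.R2LeadJacB
import Groth.Agent.Lib.Helper18Fitt13

set_option autoImplicit false
universe u

namespace Groth.Agent.Lib.R2LeadJacF

open TensorProduct KaehlerDifferential MvPolynomial Algebra Module

/-- a quotient of an algebra standard smooth of relative dimension `p` has differentials generated
by `p` elements, so its `p`-th Fitting ideal is the unit ideal. -/
theorem fitt_eq_top_of_surjective {A C B : Type u} [CommRing A] [CommRing C] [CommRing B]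
    [Algebra A C] [Algebra A B] (φ : C →ₐ[A] B) (hφ : Function.Surjective φ) (p : ℕ)
    [Algebra.IsStandardSmoothOfRelativeDimension p A C] :
    Fitt.ideal B Ω[B⁄A] p = ⊤ := by
  by_cases hC : Nontrivial C
  · obtain ⟨ι, σ, _, _, P, hP⟩ := ‹Algebra.IsStandardSmoothOfRelativeDimension p A C›.out
    haveI : Module.Free C Ω[C⁄A] := P.free_kaehlerDifferential
    have h1 : Module.rank C Ω[C⁄A] = p := by rw [P.rank_kaehlerDifferential, hP]
    haveI : Module.Finite C Ω[C⁄A] := Module.finite_of_rank_eq_nat h1
    have h2 : finrank C Ω[C⁄A] = p := Module.finrank_eq_of_rank_eq h1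
    let b : Basis (Fin p) C Ω[C⁄A] := Module.finBasisOfFinrankEq C _ h2
    letI := φ.toRingHom.toAlgebra
    haveI : IsScalarTower A C B := .of_algebraMap_eq (fun a => (φ.commutes a).symm)
    have hs := KaehlerDifferential.map_surjective_of_surjective A A C B hφ
    apply Groth.Agent.Helper18Fitt.fitt_top_of_gens p
      (fun i => KaehlerDifferential.map A A C B (b i))
    rw [_root_.eq_top_iff]
    rintro y -
    obtain ⟨z, rfl⟩ := hs y
    have hz : z ∈ Submodule.span C (Set.range b) := by rw [b.span_eq]; trivial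
    induction hz using Submodule.span_induction with
    | mem w hw =>
      obtain ⟨i, rfl⟩ := hw
      exact Submodule.subset_span ⟨i, rfl⟩
    | zero => simp
    | add u w _ _ hu hw =>
      rw [map_add]
      exact Submodule.add_mem _ hu hw
    | smul c w _ hw =>
      rw [map_smul, ← algebraMap_smul B c]
      exact Submodule.smul_mem _ _ hw
  · haveI : Subsingleton C := not_nontrivial_iff_subsingleton.mp hC
    haveI : Subsingleton B := hφ.subsingleton
    exact Subsingleton.elim _ _

/-- a point where the residue rank of the differentials is at most `p` lies in a principal open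
which is a closed subscheme of a standard smooth scheme of relative dimension `p`. -/
theorem exists_presentation {R B : Type u} [CommRing R] [CommRing B] [Algebra R B]
    [Algebra.FiniteType R B] (q : Ideal B) [q.IsPrime] (p : ℕ)
    (h : finrank q.ResidueField (q.ResidueField ⊗[B] Ω[B⁄R]) ≤ p) :
    ∃ (n c : ℕ) (F : Fin c → MvPolynomial (Fin n) R) (I : Fin c ↪ Fin n)
      (ρ : Synt.RelGCIRing R n c F →ₐ[R] B), Function.Surjective ρ ∧ n - c = p ∧ c ≤ n ∧
        ρ (R2LeadJacB.minor R n c F I) ∉ q := by
  obtain ⟨n₀, π₀, hπ₀⟩ := Algebra.FiniteType.iff_quotient_mvPolynomial''.mp ‹Algebra.FiniteType R B›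
  let v : Fin (n₀ + p) → B := fun i => Fin.addCases (fun j => π₀ (X j)) (fun _ => 0) i
  let π : MvPolynomial (Fin (n₀ + p)) R →ₐ[R] B := MvPolynomial.aeval v
  have hπ : Function.Surjective π := by
    intro b
    obtain ⟨a, rfl⟩ := hπ₀ b
    refine ⟨rename (Fin.castAdd p) a, ?_⟩
    change MvPolynomial.aeval v (rename (Fin.castAdd p) a) = π₀ a
    rw [MvPolynomial.aeval_rename]
    have h1 : (MvPolynomial.aeval (v ∘ Fin.castAdd p) : MvPolynomial (Fin n₀) R →ₐ[R] B) = π₀ := by
      apply MvPolynomial.algHom_ext
      intro j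
      simp [v]
    rw [h1]
  obtain ⟨F, I, hF, hdet⟩ := R2LeadJacA.exists_minor π hπ q.ResidueField n₀ (by omega)
  have hker : ∀ a ∈ Ideal.span (Set.range F), π a = 0 := by
    intro a ha
    have hle : Ideal.span (Set.range F) ≤ RingHom.ker π.toRingHom := by
      rw [Ideal.span_le]
      rintro _ ⟨j, rfl⟩
      exact hF j
    exact hle ha
  let ρ : Synt.RelGCIRing R (n₀ + p) n₀ F →ₐ[R] B :=
    Ideal.Quotient.liftₐ (Ideal.span (Set.range F)) π hker
  have hρ : Function.Surjective ρ := Ideal.Quotient.lift_surjective_of_surjective _ _ hπ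
  refine ⟨n₀ + p, n₀, F, I, ρ, hρ, by omega, by omega, ?_⟩
  intro hmem
  apply hdet
  have hρg : ρ (R2LeadJacB.minor R (n₀ + p) n₀ F I) =
      π (Matrix.det (Matrix.of fun j i => pderiv (I i) (F j))) := rfl
  rw [← hρg]
  exact (Ideal.algebraMap_residueField_eq_zero).mpr hmem

end Groth.Agent.Lib.R2LeadJacF
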