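import Mathlib
import Groth.Agent.Lib.R2LeadJacF
import Groth.Agent.Lib.Helper18FittSh6

set_option autoImplicit false
universe u

namespace Groth.Agent.Lib.R2LeadJacG

open AlgebraicGeometry CategoryTheory TopologicalSpace Groth.Agent.Helper18FittSh Groth.Agent.Helper18Fitt

variable {X Y : Scheme.{u}} (f : X ⟶ Y)

/-- dictionary: the support of the `p`-th Fitting ideal of `Ω_f` on an affine chart. -/
theorem mem_support_iff_chart [LocallyOfFiniteType f] [QuasiSeparated f] (p : ℕ) (x : X)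
    {U : X.Opens} (hU : IsAffineOpen U) {V : Y.Opens} (hV : IsAffineOpen V) (h : U ≤ f ⁻¹ᵁ V)
    (hxU : x ∈ U) :
    letI := (f.appLE V U h).hom.toAlgebra
    x ∈ (Fitt.sheafIdeal (Omega.sheaf f) p).support ↔
      Fitt.ideal Γ(X, U) Ω[Γ(X, U)⁄Γ(Y, V)] p ≤ (hU.primeIdealOf ⟨x, hxU⟩).asIdeal := by
  letI := (f.appLE V U h).hom.toAlgebra
  haveI := Groth.Agent.Lib.Helper20.OmegaQCoh.isQuasicoherent_omega f
  have hfin : ∀ V : X.affineOpens, Module.Finite Γ(X, V.1) Γ(Omega.sheaf f, V.1) := fun V =>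
    Groth.Agent.Lib.Helper20.OmegaQCoh.finite_sections_omega f V.2
  rw [mem_support_iff (Omega.sheaf f) p hfin x ⟨U, hU⟩ hxU]
  obtain ⟨e⟩ := nonempty_sections_omega_equiv f hU hV h
  rw [fitt_congr' e p]

/-- a point in an open which is a closed subscheme of a scheme smooth of relative dimension `p`
is outside the `p`-th Jacobian locus. -/
theorem notMem_support_of_closedImmersion [LocallyOfFiniteType f] [QuasiSeparated f] (p : ℕ)
    (x : X) (U₀ : X.Opens) (U' : Scheme.{u}) (i : (U₀ : Scheme.{u}) ⟶ U') (g : U' ⟶ Y)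
    (hx : x ∈ U₀) [IsClosedImmersion i] [SmoothOfRelativeDimension p g]
    (hig : i ≫ g = U₀.ι ≫ f) :
    x ∉ (Fitt.sheafIdeal (Omega.sheaf f) p).support := by
  obtain ⟨V, hV, W', hW', hxW', e, hstd⟩ :=
    SmoothOfRelativeDimension.exists_isStandardSmoothOfRelativeDimension (n := p) (f := g)
      (i ⟨x, hx⟩)
  have hW₀ : IsAffineOpen (i ⁻¹ᵁ W') := hW'.preimage i
  have hW : IsAffineOpen (U₀.ι ''ᵁ (i ⁻¹ᵁ W')) := hW₀.image_of_isOpenImmersion U₀.ι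
  have hxW : x ∈ U₀.ι ''ᵁ (i ⁻¹ᵁ W') := ⟨⟨x, hx⟩, hxW', rfl⟩
  have hWV : U₀.ι ''ᵁ (i ⁻¹ᵁ W') ≤ f ⁻¹ᵁ V := by
    rintro _ ⟨w, hw, rfl⟩
    change f (U₀.ι w) ∈ V
    have h1 : f (U₀.ι w) = g (i w) := by
      rw [← Scheme.Hom.comp_apply, ← Scheme.Hom.comp_apply, hig]
    rw [h1]
    exact e hw
  rw [mem_support_iff_chart f p x hW hV hWV hxW]
  letI := (f.appLE V (U₀.ι ''ᵁ (i ⁻¹ᵁ W')) hWV).hom.toAlgebra
  letI := (g.appLE V W' e).hom.toAlgebra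
  haveI : Algebra.IsStandardSmoothOfRelativeDimension p Γ(Y, V) Γ(U', W') := hstd
  let φ₀ : Γ(U', W') →+* Γ(X, U₀.ι ''ᵁ (i ⁻¹ᵁ W')) :=
    (i.app W' ≫ (U₀.ι.appIso (i ⁻¹ᵁ W')).inv).hom
  have hφ₀ : Function.Surjective φ₀ := by
    have h1 : Function.Surjective (i.app W') := i.app_surjective W' hW'
    have h2 : Function.Bijective (U₀.ι.appIso (i ⁻¹ᵁ W')).inv :=
      ConcreteCategory.bijective_of_isIso _
    exact h2.2.comp h1
  have hcomm : g.appLE V W' e ≫ i.app W' ≫ (U₀.ι.appIso (i ⁻¹ᵁ W')).inv =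
      f.appLE V (U₀.ι ''ᵁ (i ⁻¹ᵁ W')) hWV := by
    rw [← Category.assoc, Iso.comp_inv_eq, Scheme.Hom.appIso_hom', Scheme.Hom.appLE_comp_appLE,
      Scheme.Hom.app_eq_appLE, Scheme.Hom.appLE_comp_appLE]
    have key : ∀ (k k' : (U₀ : Scheme.{u}) ⟶ Y) (hk : k = k') (e1 : i ⁻¹ᵁ W' ≤ k ⁻¹ᵁ V),
        k.appLE V (i ⁻¹ᵁ W') e1 = k'.appLE V (i ⁻¹ᵁ W') (hk ▸ e1) := by
      rintro k _ rfl _
      rfl
    exact key _ _ hig _
  let φ : Γ(U', W') →ₐ[Γ(Y, V)] Γ(X, U₀.ι ''ᵁ (i ⁻¹ᵁ W')) :=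
    { φ₀ with
      commutes' := fun a => by
        have := congrArg (fun t => t.hom a) hcomm
        exact this }
  have htop := R2LeadJacF.fitt_eq_top_of_surjective φ hφ₀ p
  rw [htop]
  intro hle
  exact (hW.primeIdealOf ⟨x, hxW⟩).2.ne_top (top_le_iff.mp hle)

end Groth.Agent.Lib.R2LeadJacG
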