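import Mathlib
import Groth.Agent.Lib.R2LeadJacG

set_option autoImplicit false
universe u

namespace Groth.Agent.Lib.R2LeadJacH

open AlgebraicGeometry CategoryTheory TopologicalSpace Groth.Agent.Helper18FittSh
  Groth.Agent.Helper18Fitt TensorProduct

variable {X Y : Scheme.{u}} (f : X ⟶ Y)

/-- `Spec` of an algebra standard smooth of relative dimension `p` over an affine open of `Y`. -/
theorem smoothOfRelativeDimension_chart {V : Y.Opens} (hV : IsAffineOpen V) (p : ℕ)
    (T : Type u) [CommRing T] [Algebra Γ(Y, V) T]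
    [Algebra.IsStandardSmoothOfRelativeDimension p Γ(Y, V) T] :
    SmoothOfRelativeDimension p
      (Spec.map (CommRingCat.ofHom (algebraMap Γ(Y, V) T)) ≫ hV.fromSpec) := by
  haveI : SmoothOfRelativeDimension p (Spec.map (CommRingCat.ofHom (algebraMap Γ(Y, V) T))) := by
    rw [HasRingHomProperty.Spec_iff (P := @SmoothOfRelativeDimension p)]
    apply RingHom.locally_of
    · exact RingHom.isStandardSmoothOfRelativeDimension_respectsIso
    · change (algebraMap Γ(Y, V) T).IsStandardSmoothOfRelativeDimension p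
      rw [RingHom.isStandardSmoothOfRelativeDimension_algebraMap]
      infer_instance
  exact inferInstanceAs (SmoothOfRelativeDimension (p + 0) _)

theorem exists_closedImmersion_of_notMem_support [LocallyOfFinitePresentation f]
    [QuasiSeparated f] (p : ℕ) (x : X)
    (hx : x ∉ (Fitt.sheafIdeal (Omega.sheaf f) p).support) :
    ∃ (U : X.Opens) (U' : Scheme.{u}) (i : (U : Scheme.{u}) ⟶ U') (g : U' ⟶ Y),
      x ∈ U ∧ IsClosedImmersion i ∧ SmoothOfRelativeDimension p g ∧ i ≫ g = U.ι ≫ f := by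
  obtain ⟨V, hV, hfxV, -⟩ := exists_isAffineOpen_mem_and_subset (x := f x) (U := ⊤) trivial
  obtain ⟨U, hU, hxU, hUV⟩ := exists_isAffineOpen_mem_and_subset (x := x) (U := f ⁻¹ᵁ V) hfxV
  rw [R2LeadJacG.mem_support_iff_chart f p x hU hV hUV hxU] at hx
  letI := (f.appLE V U hUV).hom.toAlgebra
  haveI : Algebra.FiniteType Γ(Y, V) Γ(X, U) := f.finiteType_appLE hV hU hUV
  set q := (hU.primeIdealOf ⟨x, hxU⟩).asIdeal with hq
  rw [not_le_iff_finrank] at hx
  obtain ⟨n, c, F, I, ρ, hρ, hnc, hcn, hmin⟩ := R2LeadJacF.exists_presentation q p hx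
  set g₀ := R2LeadJacB.minor Γ(Y, V) n c F I with hg₀
  set s : Γ(X, U) := ρ g₀ with hs
  have hxs : x ∈ X.basicOpen s :=
    (Groth.Agent.Lib.Helper2.mem_basicOpen_iff_notMem_primeIdealOf hU x hxU s).mpr hmin
  have hU₁ : IsAffineOpen (X.basicOpen s) := hU.basicOpen s
  haveI hloc : IsLocalization.Away (ρ.toRingHom g₀) Γ(X, X.basicOpen s) :=
    hU.isLocalization_basicOpen s
  haveI hstd : Algebra.IsStandardSmoothOfRelativeDimension p Γ(Y, V) (Localization.Away g₀) := by
    rw [← hnc]
    exact R2LeadJacB.isStandardSmoothOfRelativeDimension_away Γ(Y, V) n c F I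
  let ψ : Localization.Away g₀ →+* Γ(X, X.basicOpen s) :=
    IsLocalization.Away.map (Localization.Away g₀) Γ(X, X.basicOpen s) ρ.toRingHom g₀
  have hψ : Function.Surjective ψ :=
    RingHom.surjective_localizationPreserves.away ρ.toRingHom g₀ (Localization.Away g₀)
      Γ(X, X.basicOpen s) hρ
  haveI : IsClosedImmersion (Spec.map (CommRingCat.ofHom ψ)) :=
    IsClosedImmersion.spec_of_surjective (CommRingCat.ofHom ψ) hψ
  refine ⟨X.basicOpen s, Spec (CommRingCat.of (Localization.Away g₀)),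
    hU₁.isoSpec.hom ≫ Spec.map (CommRingCat.ofHom ψ),
    Spec.map (CommRingCat.ofHom (algebraMap Γ(Y, V) (Localization.Away g₀))) ≫ hV.fromSpec,
    hxs, inferInstance, smoothOfRelativeDimension_chart hV p (Localization.Away g₀), ?_⟩
  have hle : X.basicOpen s ≤ f ⁻¹ᵁ V := (X.basicOpen_le s).trans hUV
  have hcomp : CommRingCat.ofHom (algebraMap Γ(Y, V) (Localization.Away g₀)) ≫ CommRingCat.ofHom ψ =
      f.appLE V (X.basicOpen s) hle := by
    ext a
    change ψ (algebraMap Γ(Y, V) (Localization.Away g₀) a) = _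
    rw [IsScalarTower.algebraMap_apply Γ(Y, V) (Synt.RelGCIRing Γ(Y, V) n c F)
      (Localization.Away g₀)]
    have hme : ψ (algebraMap (Synt.RelGCIRing Γ(Y, V) n c F) (Localization.Away g₀)
        (algebraMap Γ(Y, V) _ a)) = algebraMap Γ(X, U) Γ(X, X.basicOpen s)
          (ρ.toRingHom (algebraMap Γ(Y, V) _ a)) := IsLocalization.map_eq _ _
    rw [hme]
    change algebraMap Γ(X, U) Γ(X, X.basicOpen s) (ρ (algebraMap Γ(Y, V) _ a)) = _
    rw [ρ.commutes]
    change (f.appLE V U hUV ≫ X.presheaf.map (homOfLE (X.basicOpen_le s)).op).hom a = _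
    rw [Scheme.Hom.appLE_map]
  rw [Category.assoc, ← Category.assoc (Spec.map _), ← Spec.map_comp, hcomp,
    IsAffineOpen.SpecMap_appLE_fromSpec f hV hU₁ hle, ← Category.assoc,
    IsAffineOpen.isoSpec_hom_fromSpec]

end Groth.Agent.Lib.R2LeadJacH
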