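import Mathlib
import Groth.Agent.Lib.Helper15ExtBC

set_option autoImplicit false
set_option linter.style.haveILetI false
universe u

namespace Groth.Agent.Lib.R2Lead.JacHypB

open IsLocalRing TensorProduct KaehlerDifferential

/-- top-degree-or-higher exterior powers of a finite dimensional vector space -/
theorem nontrivial_extPow_iff (κ V : Type u) [Field κ] [AddCommGroup V] [Module κ V]
    [Module.Finite κ V] (n : ℕ) : Nontrivial (⋀[κ]^n V) ↔ n ≤ Module.finrank κ V := by
  rw [← Module.finrank_pos_iff (R := κ), exteriorPower.finrank_eq, Nat.pos_iff_ne_zero, Ne,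
    Nat.choose_eq_zero_iff, not_lt]

/-- generic: the kernel of a base-changed surjection whose kernel is cyclic -/
theorem ker_baseChange_le_span (R κ M N : Type u) [CommRing R] [CommRing κ] [Algebra R κ]
    [AddCommGroup M] [AddCommGroup N] [Module R M] [Module R N] (G₀ : M →ₗ[R] N)
    (hG₀surj : Function.Surjective G₀) (w₀ : M)
    (hk : LinearMap.ker G₀ ≤ Submodule.span R {w₀}) :
    LinearMap.ker (G₀.baseChange κ) ≤ Submodule.span κ {(1 : κ) ⊗ₜ[R] w₀} := by
  intro y hy
  have hex : Function.Exact (LinearMap.lTensor κ (LinearMap.ker G₀).subtype)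
      (LinearMap.lTensor κ G₀) :=
    lTensor_exact κ (LinearMap.exact_subtype_ker_map G₀) hG₀surj
  have hy' : LinearMap.lTensor κ G₀ y = 0 := hy
  obtain ⟨z, rfl⟩ := (hex y).mp hy'
  clear hy hy'
  induction z using TensorProduct.induction_on with
  | zero => simp
  | add z₁ z₂ h₁ h₂ =>
    rw [map_add]
    exact add_mem h₁ h₂
  | tmul c k =>
    obtain ⟨k, hk'⟩ := k
    have hk'' := hk hk'
    rw [Submodule.mem_span_singleton] at hk''
    obtain ⟨r, rfl⟩ := hk''
    rw [LinearMap.lTensor_tmul]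
    show c ⊗ₜ[R] (r • w₀) ∈ _
    have : c ⊗ₜ[R] (r • w₀) = (r • c) • ((1 : κ) ⊗ₜ[R] w₀) := by
      rw [TensorProduct.tmul_smul, TensorProduct.smul_tmul', TensorProduct.smul_tmul',
        smul_eq_mul, mul_one]
    rw [this]
    exact Submodule.smul_mem _ _ (Submodule.subset_span rfl)

variable (A B R : Type u) [CommRing A] [CommRing B] [CommRing R] [Algebra A B] [Algebra B R]
  [Algebra A R] [IsScalarTower A B R]

/-- the kernel of `R ⊗ Ω[B/A] → Ω[R/A]` for a hypersurface -/
theorem ker_mapBaseChange_le (g : B) (hsurj : Function.Surjective (algebraMap B R))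
    (hker : RingHom.ker (algebraMap B R) = Ideal.span {g}) :
    LinearMap.ker (mapBaseChange A B R) ≤
      Submodule.span R {(1 : R) ⊗ₜ[B] D A B g} := by
  intro y hy
  obtain ⟨c, rfl⟩ := (KaehlerDifferential.exact_kerCotangentToTensor_mapBaseChange A B R hsurj y).mp hy
  obtain ⟨⟨x, hx⟩, rfl⟩ := Ideal.toCotangent_surjective _ c
  rw [KaehlerDifferential.kerCotangentToTensor_toCotangent]
  have hx' := hx
  rw [hker, Ideal.mem_span_singleton] at hx'
  obtain ⟨b, rfl⟩ := hx'
  have hg0 : algebraMap B R g = 0 := by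
    rw [← RingHom.mem_ker, hker]; exact Ideal.mem_span_singleton_self g
  have : (1 : R) ⊗ₜ[B] D A B (g * b) = (algebraMap B R b) • ((1 : R) ⊗ₜ[B] D A B g) := by
    rw [Derivation.leibniz, TensorProduct.tmul_add, TensorProduct.tmul_smul, TensorProduct.tmul_smul,
      ← algebraMap_smul R g, ← algebraMap_smul R b, hg0, zero_smul, zero_add]
  rw [this]
  exact Submodule.smul_mem _ _ (Submodule.subset_span rfl)


set_option backward.isDefEq.respectTransparency false in
theorem annihilator_le_iff [Algebra.Smooth A B] (n : ℕ)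
    (hn : ∀ p : PrimeSpectrum B, Module.rankAtStalk (Ω[B⁄A]) p = n) (g : B)
    (hsurj : Function.Surjective (algebraMap B R))
    (hker : RingHom.ker (algebraMap B R) = Ideal.span {g}) (p : PrimeSpectrum R) :
    (⋀[R]^n (Ω[R⁄A])).annihilator ≤ p.asIdeal ↔
      (1 : p.asIdeal.ResidueField) ⊗ₜ[B] D A B g = 0 := by
  classical
  haveI : Algebra.FiniteType A R :=
    Algebra.FiniteType.of_surjective (IsScalarTower.toAlgHom A B R) hsurj
  haveI : Module.Finite R Ω[R⁄A] := inferInstance
  haveI : Module.Finite R (⋀[R]^n (Ω[R⁄A])) := inferInstance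
  rw [show (⋀[R]^n (Ω[R⁄A])).annihilator = Module.annihilator R (⋀[R]^n (Ω[R⁄A])) from rfl,
    ← Module.mem_support_iff_of_finite,
    Module.mem_support_iff_nontrivial_residueField_tensorProduct,
    (Groth.Agent.Lib.Helper15ExtBC.bcEquiv R p.asIdeal.ResidueField Ω[R⁄A] n).nontrivial_congr,
    nontrivial_extPow_iff]
  -- the surjection `κ ⊗ (R ⊗ Ω[B/A]) → κ ⊗ Ω[R/A]`
  let G₀ : R ⊗[B] Ω[B⁄A] →ₗ[R] Ω[R⁄A] := mapBaseChange A B R
  have hG₀surj : Function.Surjective G₀ := KaehlerDifferential.mapBaseChange_surjective A B R hsurj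
  let G : p.asIdeal.ResidueField ⊗[R] (R ⊗[B] Ω[B⁄A]) →ₗ[p.asIdeal.ResidueField]
      p.asIdeal.ResidueField ⊗[R] Ω[R⁄A] := G₀.baseChange p.asIdeal.ResidueField
  have hGsurj : Function.Surjective G := LinearMap.lTensor_surjective _ hG₀surj
  let w₀ : R ⊗[B] Ω[B⁄A] := (1 : R) ⊗ₜ[B] D A B g
  let w : p.asIdeal.ResidueField ⊗[R] (R ⊗[B] Ω[B⁄A]) := (1 : p.asIdeal.ResidueField) ⊗ₜ[R] w₀
  have hg0 : algebraMap B R g = 0 := by
    rw [← RingHom.mem_ker, hker]; exact Ideal.mem_span_singleton_self g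
  have hGw : G w = 0 := by
    show (G₀.baseChange p.asIdeal.ResidueField) ((1 : p.asIdeal.ResidueField) ⊗ₜ[R] w₀) = 0
    rw [LinearMap.baseChange_tmul]
    show (1 : p.asIdeal.ResidueField) ⊗ₜ[R] (mapBaseChange A B R ((1 : R) ⊗ₜ[B] D A B g)) = 0
    rw [KaehlerDifferential.mapBaseChange_tmul, one_smul, KaehlerDifferential.map_D, hg0, map_zero,
      TensorProduct.tmul_zero]
  have hkerG : LinearMap.ker G ≤ Submodule.span p.asIdeal.ResidueField {w} :=
    ker_baseChange_le_span R p.asIdeal.ResidueField _ _ G₀ hG₀surj w₀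
      (ker_mapBaseChange_le A B R g hsurj hker)
  -- dimension of the source
  haveI : Module.Finite B Ω[B⁄A] := inferInstance
  haveI : Module.Projective B Ω[B⁄A] := inferInstance
  haveI : Module.Finite R (R ⊗[B] Ω[B⁄A]) := inferInstance
  haveI : Module.Projective R (R ⊗[B] Ω[B⁄A]) := inferInstance
  have hW : Module.finrank p.asIdeal.ResidueField
      (p.asIdeal.ResidueField ⊗[R] (R ⊗[B] Ω[B⁄A])) = n := by
    have h1 := Module.rankAtStalk_eq (M := R ⊗[B] Ω[B⁄A]) p
    rw [Module.rankAtStalk_baseChange, hn] at h1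
    exact h1.symm
  -- comparison with `κ ⊗[B] Ω[B/A]`
  let e := AlgebraTensorModule.cancelBaseChange B R p.asIdeal.ResidueField p.asIdeal.ResidueField
    Ω[B⁄A]
  have hew : e w = (1 : p.asIdeal.ResidueField) ⊗ₜ[B] D A B g := by
    simp [e, w, w₀]
  have hwv : (1 : p.asIdeal.ResidueField) ⊗ₜ[B] D A B g = 0 ↔ w = 0 := by
    rw [← hew, LinearEquiv.map_eq_zero_iff]
  rw [hwv]
  have hrk := LinearMap.finrank_range_add_finrank_ker G
  rw [LinearMap.range_eq_top.mpr hGsurj, finrank_top, hW] at hrk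
  constructor
  · intro hle
    have hk0 : Module.finrank p.asIdeal.ResidueField (LinearMap.ker G) = 0 := by omega
    have hkb : LinearMap.ker G = ⊥ := Submodule.finrank_eq_zero.mp hk0
    have : w ∈ LinearMap.ker G := hGw
    rw [hkb] at this
    exact this
  · intro hw0
    have hkb : LinearMap.ker G = ⊥ := by
      rw [eq_bot_iff]
      refine hkerG.trans ?_
      rw [hw0]
      simp
    rw [hkb, finrank_bot] at hrk
    omega

end Groth.Agent.Lib.R2Lead.JacHypB
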