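import Mathlib
import Groth.Agent.Lib.R2LeadJacI
import Groth.Agent.Lib.R2LeadJacH
import Groth.Agent.Lib.Helper20SmoothDescSch
import Groth.Agent.Lib.Helper4DimFormulaU
import Groth.Agent.Lib.Helper3FlatFibDim
import Groth.Agent.Lib.Helper3SmDim

set_option autoImplicit false
universe u

namespace Groth.Agent.Lib.R2LeadJacJ

open AlgebraicGeometry CategoryTheory TopologicalSpace Groth.Agent.Helper18FittSh
  Groth.Agent.Helper18Fitt Groth.Agent.Lib.Helper4.FibDim

variable {X S : Scheme.{u}} (f : X ⟶ S)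

/-- flat + outside the `d`-th Jacobian locus + fibre of local dimension `d` ⟹ smooth nearby. -/
theorem exists_smooth_nbhd_of_notMem_support [Flat f] [LocallyOfFinitePresentation f]
    [QuasiSeparated f] (d : ℕ) (x : X) (hd : FlatMor.fibreDimAt f x = (d : WithBot ℕ∞))
    (hx : x ∉ (Fitt.sheafIdeal (Omega.sheaf f) d).support) :
    ∃ U : X.Opens, x ∈ U ∧ Smooth (U.ι ≫ f) := by
  obtain ⟨V, hV, hfxV, -⟩ := exists_isAffineOpen_mem_and_subset (x := f x) (U := ⊤) trivial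
  obtain ⟨U, hU, hxU, hUV⟩ := exists_isAffineOpen_mem_and_subset (x := x) (U := f ⁻¹ᵁ V) hfxV
  rw [R2LeadJacG.mem_support_iff_chart f d x hU hV hUV hxU] at hx
  apply Groth.Agent.Lib.Helper20.FlatDesc.exists_smooth_nbhd f x
  rw [formallySmooth_stalkMap_iff V hV U hU hUV hxU]
  letI := (f.appLE V U hUV).hom.toAlgebra
  haveI : Algebra.FinitePresentation Γ(S, V) Γ(X, U) := f.finitePresentation_appLE hV hU hUV
  haveI : Module.Flat Γ(S, V) Γ(X, U) := f.flat_appLE hV hU hUV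
  set z := hU.primeIdealOf ⟨x, hxU⟩ with hz
  have hzx : hU.fromSpec z = x := hU.fromSpec_primeIdealOf ⟨x, hxU⟩
  have hdim : fibLD (PrimeSpectrum.comap (algebraMap Γ(S, V) Γ(X, U))) z = (d : WithBot ℕ∞) := by
    rw [← hd, fibreDimAt_eq_fibLD, ← hzx, fibLD_fromSpec f hU hV hUV z]
    rfl
  exact R2LeadJacI.isSmoothAt_of_fitt z d (Module.Flat.trans Γ(S, V) Γ(X, U) _) hx hdim

/-- smooth near `x` + fibres of local dimension `d` ⟹ outside the `d`-th Jacobian locus. -/
theorem notMem_support_of_smooth_nbhd [LocallyOfFinitePresentation f] [QuasiSeparated f] (d : ℕ)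
    (hd : ∀ y : X, FlatMor.fibreDimAt f y = (d : WithBot ℕ∞)) (x : X) (U : X.Opens) (hxU : x ∈ U)
    [Smooth (U.ι ≫ f)] :
    x ∉ (Fitt.sheafIdeal (Omega.sheaf f) d).support := by
  haveI : SmoothOfRelativeDimension d (U.ι ≫ f) := by
    refine ⟨fun y => ?_⟩
    obtain ⟨V, hV, W, hW, hy, e, hstd⟩ := Smooth.exists_isStandardSmooth (U.ι ≫ f) y
    obtain ⟨m, hm⟩ := Groth.Agent.Lib.Helper3.SmDim.exists_relDim_of_isStandardSmooth _ hstd
    have h1 := Groth.Agent.Lib.Helper3.SmDim.fibreDimAt_eq_of_chart (U.ι ≫ f) m y hV hW hy e hm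
    rw [Groth.Agent.Lib.Helper3.FlatFibDim.fibreDimAt_comp_of_isOpenImmersion U.ι f y, hd] at h1
    have h2 : d = m := by exact_mod_cast h1
    subst h2
    exact ⟨V, hV, W, hW, hy, e, hm⟩
  exact R2LeadJacG.notMem_support_of_closedImmersion f d x U U (𝟙 _) (U.ι ≫ f) hxU
    (Category.id_comp _)

end Groth.Agent.Lib.R2LeadJacJ
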