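import Mathlib

set_option autoImplicit false
universe u

namespace Groth.Agent.Lib.R2LeadJacK

open TensorProduct KaehlerDifferential Algebra Module IsLocalRing

variable {R S : Type u} [CommRing R] [CommRing S] [IsLocalRing S] [Algebra R S]
  (E : Algebra.Extension.{u} R S) {N c : ℕ} (b : Basis (Fin N) E.Ring Ω[E.Ring⁄R])
  (f : Fin c → E.Ring) (hker : Ideal.span (Set.range f) = E.ker)

noncomputable def ccK : ResidueField S ⊗[S] E.Cotangent →ₗ[ResidueField S]
    ResidueField S ⊗[S] E.CotangentSpace :=
  E.cotangentComplex.baseChange (ResidueField S)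

noncomputable def tkK : ResidueField S ⊗[S] E.CotangentSpace →ₗ[ResidueField S]
    ResidueField S ⊗[S] Ω[S⁄R] :=
  E.toKaehler.baseChange (ResidueField S)

theorem exact_ccK_tkK : Function.Exact (ccK E) (tkK E) :=
  lTensor_exact (ResidueField S) E.exact_cotangentComplex_toKaehler E.toKaehler_surjective

theorem tkK_surjective : Function.Surjective (tkK E) :=
  LinearMap.baseChange_surjective (ResidueField S) E.toKaehler_surjective

noncomputable def basisK : Basis (Fin N) (ResidueField S)
    (ResidueField S ⊗[S] E.CotangentSpace) :=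
  (b.baseChange S).baseChange (ResidueField S)

include b in
theorem finrank_add :
    finrank (ResidueField S) (ResidueField S ⊗[S] Ω[S⁄R]) +
      finrank (ResidueField S) (LinearMap.range (ccK E)) = N := by
  haveI : Module.Finite (ResidueField S) (ResidueField S ⊗[S] E.CotangentSpace) :=
    Module.Finite.of_basis (basisK E b)
  have h1 := LinearMap.finrank_range_add_finrank_ker (tkK E)
  rw [LinearMap.range_eq_top.mpr (tkK_surjective E), finrank_top,
    (LinearMap.exact_iff.mp (exact_ccK_tkK E))] at h1
  rw [h1, finrank_eq_card_basis (basisK E b)]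
  simp

/-- the spanning family of the base-changed cotangent module. -/
noncomputable def w (j : Fin c) : ResidueField S ⊗[S] E.Cotangent :=
  (1 : ResidueField S) ⊗ₜ[S]
    Extension.Cotangent.mk ⟨f j, hker.le (Ideal.subset_span ⟨j, rfl⟩)⟩

theorem span_w : Submodule.span (ResidueField S) (Set.range (w E f hker)) = ⊤ := by
  have h0 := Extension.Cotangent.span_eq_top_of_span_eq_ker (P := E) f hker
  rw [_root_.eq_top_iff]
  rintro t -
  induction t using TensorProduct.induction_on with
  | zero => exact zero_mem _
  | tmul a x =>
    have hx : x ∈ Submodule.span S (Set.range fun i =>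
        Extension.Cotangent.mk (P := E) ⟨f i, hker.le (Ideal.subset_span ⟨i, rfl⟩)⟩) := by
      rw [h0]; trivial
    induction hx using Submodule.span_induction with
    | mem y hy =>
      obtain ⟨j, rfl⟩ := hy
      have : a ⊗ₜ[S] Extension.Cotangent.mk (P := E)
          ⟨f j, hker.le (Ideal.subset_span ⟨j, rfl⟩)⟩ = a • w E f hker j := by
        simp [w, TensorProduct.smul_tmul']
      rw [this]
      exact Submodule.smul_mem _ _ (Submodule.subset_span ⟨j, rfl⟩)
    | zero => simp
    | add y z _ _ hy hz =>
      rw [TensorProduct.tmul_add]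
      exact Submodule.add_mem _ hy hz
    | smul s y _ hy =>
      rw [TensorProduct.tmul_smul]
      have : s • (a ⊗ₜ[S] y) = (algebraMap S (ResidueField S) s) • (a ⊗ₜ[S] y) := by
        rw [algebraMap_smul]
      rw [this]
      exact Submodule.smul_mem _ _ hy
  | add t₁ t₂ h₁ h₂ => exact Submodule.add_mem _ h₁ h₂

include f hker in
theorem finite_V : Module.Finite (ResidueField S) (ResidueField S ⊗[S] E.Cotangent) :=
  ⟨by
    rw [← span_w E f hker]
    exact Submodule.fg_span (Set.finite_range _)⟩

include f hker in
theorem finrank_V_le : finrank (ResidueField S) (ResidueField S ⊗[S] E.Cotangent) ≤ c := by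
  have h1 := finrank_range_le_card (R := ResidueField S) (w E f hker)
  rw [Set.finrank, span_w E f hker, finrank_top] at h1
  simpa using h1

include b f hker in
/-- (⟸) few differentials ⟹ formally smooth. -/
theorem formallySmooth_of_finrank_le [Algebra.FormallySmooth R E.Ring]
    (h : finrank (ResidueField S) (ResidueField S ⊗[S] Ω[S⁄R]) + c ≤ N) :
    Algebra.FormallySmooth R S := by
  haveI : Module.Free E.Ring Ω[E.Ring⁄R] := Module.Free.of_basis b
  haveI : Module.Finite E.Ring Ω[E.Ring⁄R] := Module.Finite.of_basis b
  have hfg : E.ker.FG := by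
    rw [← hker]
    exact Submodule.fg_span (Set.finite_range f)
  rw [Algebra.FormallySmooth.iff_injective_lTensor_residueField E hfg]
  haveI := finite_V E f hker
  have h1 := finrank_add E b
  have h2 := LinearMap.finrank_range_add_finrank_ker (ccK E)
  have h3 := finrank_V_le E f hker
  have h4 : finrank (ResidueField S) (LinearMap.ker (ccK E)) = 0 := by omega
  have h5 : LinearMap.ker (ccK E) = ⊥ := Submodule.finrank_eq_zero.mp h4
  have h6 : Function.Injective (ccK E) := LinearMap.ker_eq_bot.mp h5
  exact h6

include b hker in
/-- (⟹) formally smooth + degree-one quasi-regular generators ⟹ the rank of the differentials. -/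
theorem finrank_of_formallySmooth [Algebra.FormallySmooth R E.Ring] [Algebra.FormallySmooth R S]
    (hqr : ∀ a : Fin c → E.Ring, ∑ j, a j * f j ∈ Ideal.span (Set.range f) ^ 2 →
      ∀ j, a j ∈ Ideal.span (Set.range f)) :
    finrank (ResidueField S) (ResidueField S ⊗[S] Ω[S⁄R]) + c = N := by
  haveI : Module.Free E.Ring Ω[E.Ring⁄R] := Module.Free.of_basis b
  haveI : Module.Finite E.Ring Ω[E.Ring⁄R] := Module.Finite.of_basis b
  have hfg : E.ker.FG := by
    rw [← hker]
    exact Submodule.fg_span (Set.finite_range f)
  have hinj := (Algebra.FormallySmooth.iff_injective_lTensor_residueField E hfg).mp inferInstance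
  haveI := finite_V E f hker
  have h1 := finrank_add E b
  have h2 := LinearMap.finrank_range_add_finrank_ker (ccK E)
  have h5 : LinearMap.ker (ccK E) = ⊥ := LinearMap.ker_eq_bot.mpr hinj
  rw [h5, finrank_bot, add_zero] at h2
  -- the cotangent module is free of rank `c`
  let fk : Fin c → E.ker := fun j => ⟨f j, hker.le (Ideal.subset_span ⟨j, rfl⟩)⟩
  have hli : LinearIndependent S (fun j => Extension.Cotangent.mk (P := E) (fk j)) := by
    rw [Fintype.linearIndependent_iff]
    intro s hs j
    choose a ha using fun j => E.algebraMap_surjective (s j)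
    have h6 : Extension.Cotangent.mk (P := E) (∑ j, a j • fk j) = 0 := by
      rw [map_sum, ← hs]
      refine Finset.sum_congr rfl fun j _ => ?_
      rw [map_smul, ← ha j, algebraMap_smul]
    rw [Extension.Cotangent.mk_eq_zero_iff] at h6
    have h7 : (∑ j, a j • fk j : E.ker).val = ∑ j, a j * f j := by
      simp [fk]
    rw [h7, ← hker] at h6
    have h8 := hqr a h6 j
    rw [hker] at h8
    rw [← ha j]
    exact (RingHom.mem_ker).mp h8
  have hsp : ⊤ ≤ Submodule.span S (Set.range fun j => Extension.Cotangent.mk (P := E) (fk j)) :=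
    (Extension.Cotangent.span_eq_top_of_span_eq_ker (P := E) f hker).ge
  let bc : Basis (Fin c) S E.Cotangent := Basis.mk hli hsp
  have h9 : finrank (ResidueField S) (ResidueField S ⊗[S] E.Cotangent) = c := by
    rw [finrank_eq_card_basis (bc.baseChange (ResidueField S))]
    simp
  omega

end Groth.Agent.Lib.R2LeadJacK
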