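import Mathlib
import Groth.Agent.Lib.R2LeadJacK
import Groth.Agent.Lib.H9RegImmPres
import Groth.Agent.Lib.H9RegImmFlatBC
import Groth.Agent.Lib.R2H3KzCotProj
import Groth.Agent.Lib.Helper6OmProjA

set_option autoImplicit false
universe u

namespace Groth.Agent.Lib.R2LeadJacL

open TensorProduct KaehlerDifferential Algebra Module IsLocalRing

variable {R C B : Type u} [CommRing R] [CommRing C] [CommRing B] [Algebra R C] [Algebra R B]
  (φ : C →ₐ[R] B) (hφ : Function.Surjective φ) {N c : ℕ}
  [Algebra.IsStandardSmoothOfRelativeDimension N R C]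
  (fs : Fin c → C) (hker : RingHom.ker φ.toRingHom = Ideal.span (Set.range fs))
  (q : Ideal B) [q.IsPrime]

include hφ hker in
/-- **Jacobian criterion** for a quotient of a standard smooth algebra of relative dimension `N`
by `c` elements, at a prime `q`. -/
theorem main :
    (finrank q.ResidueField (q.ResidueField ⊗[B] Ω[B⁄R]) + c ≤ N → Algebra.IsSmoothAt R q) ∧
    (CAlgX.IsH1Regular fs → Algebra.IsSmoothAt R q →
      finrank q.ResidueField (q.ResidueField ⊗[B] Ω[B⁄R]) + c = N) := by
  classical
  set q' : Ideal C := q.comap φ.toRingHom with hq'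
  haveI : q'.IsPrime := Ideal.comap_isPrime _ _
  let ψ : Localization.AtPrime q' →+* Localization.AtPrime q :=
    Localization.localRingHom q' q φ.toRingHom rfl
  letI : Algebra (Localization.AtPrime q') (Localization.AtPrime q) := ψ.toAlgebra
  haveI : IsScalarTower R (Localization.AtPrime q') (Localization.AtPrime q) :=
    IsScalarTower.of_algebraMap_eq fun r => by
      change _ = ψ _
      rw [IsScalarTower.algebraMap_apply R C (Localization.AtPrime q'),
        Localization.localRingHom_to_map,
        IsScalarTower.algebraMap_apply R B (Localization.AtPrime q)]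
      congr 1
      exact (φ.commutes r).symm
  have hsurj : Function.Surjective
      (algebraMap (Localization.AtPrime q') (Localization.AtPrime q)) :=
    Groth.Agent.Lib.Helper6.OmProj.localRingHom_surjective φ.toRingHom hφ q q' rfl
  let E : Algebra.Extension.{u} R (Localization.AtPrime q) :=
    { Ring := Localization.AtPrime q', σ := Function.surjInv hsurj,
      algebraMap_σ := Function.surjInv_eq hsurj }
  let f : Fin c → Localization.AtPrime q' := fun j => algebraMap C (Localization.AtPrime q') (fs j)
  have hkerE : Ideal.span (Set.range f) = E.ker := by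
    change _ = RingHom.ker ψ
    rw [Groth.Agent.Lib.H9RegImmPres.ker_localRingHom φ.toRingHom hφ q q' rfl, hker,
      Ideal.map_span, ← Set.range_comp]
    rfl
  haveI : Algebra.IsStandardSmooth R C :=
    Algebra.IsStandardSmoothOfRelativeDimension.isStandardSmooth N
  haveI : Algebra.FormallySmooth C (Localization.AtPrime q') :=
    Algebra.FormallySmooth.of_isLocalization q'.primeCompl
  haveI : Algebra.FormallySmooth R (Localization.AtPrime q') :=
    Algebra.FormallySmooth.comp R C (Localization.AtPrime q')
  haveI : Algebra.FormallySmooth R E.Ring := ‹Algebra.FormallySmooth R (Localization.AtPrime q')›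
  haveI : Nontrivial C := ⟨⟨0, 1, fun h => (Ideal.IsPrime.ne_top ‹q'.IsPrime›)
    ((Ideal.eq_top_iff_one _).mpr (h ▸ q'.zero_mem))⟩⟩
  have hrank : Module.rank C Ω[C⁄R] = N :=
    Algebra.IsStandardSmoothOfRelativeDimension.rank_kaehlerDifferential N
  haveI : Module.Free C Ω[C⁄R] := inferInstance
  haveI : Module.Finite C Ω[C⁄R] := Module.finite_of_rank_eq_nat hrank
  let bC : Basis (Fin N) C Ω[C⁄R] :=
    Module.finBasisOfFinrankEq _ _ (Module.finrank_eq_of_rank_eq hrank)
  haveI : Algebra.FormallyEtale C (Localization.AtPrime q') :=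
    Algebra.FormallyEtale.of_isLocalization q'.primeCompl
  let bP : Basis (Fin N) E.Ring Ω[E.Ring⁄R] :=
    (bC.baseChange (Localization.AtPrime q')).map
      (KaehlerDifferential.tensorKaehlerEquivOfFormallyEtale R C (Localization.AtPrime q'))
  haveI : Algebra.FormallyEtale B (Localization.AtPrime q) :=
    Algebra.FormallyEtale.of_isLocalization q.primeCompl
  let Θ : q.ResidueField ⊗[B] Ω[B⁄R] ≃ₗ[q.ResidueField]
      q.ResidueField ⊗[Localization.AtPrime q] Ω[Localization.AtPrime q⁄R] :=
    (AlgebraTensorModule.cancelBaseChange B (Localization.AtPrime q) q.ResidueField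
      q.ResidueField Ω[B⁄R]).symm ≪≫ₗ
    AlgebraTensorModule.congr (LinearEquiv.refl q.ResidueField q.ResidueField)
      (KaehlerDifferential.tensorKaehlerEquivOfFormallyEtale R B (Localization.AtPrime q))
  have hΘ : finrank q.ResidueField (q.ResidueField ⊗[B] Ω[B⁄R]) =
      finrank (ResidueField (Localization.AtPrime q))
        (ResidueField (Localization.AtPrime q) ⊗[Localization.AtPrime q]
          Ω[Localization.AtPrime q⁄R]) := Θ.finrank_eq
  constructor
  · intro h
    rw [hΘ] at h
    exact Groth.Agent.Lib.R2LeadJacK.formallySmooth_of_finrank_le E bP f hkerE h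
  · intro hH1 hsm
    rw [hΘ]
    haveI : Algebra.FormallySmooth R (Localization.AtPrime q) := hsm
    have hH1' : CAlgX.IsH1Regular f :=
      Groth.Agent.Lib.H9RegImmFlatBC.isH1Regular_map (algebraMap C (Localization.AtPrime q'))
        (RingHom.flat_algebraMap_iff.mpr inferInstance) fs hH1
    exact Groth.Agent.Lib.R2LeadJacK.finrank_of_formallySmooth E bP f hkerE
      (fun a ha j => Groth.Agent.Lib.R2H3.KzCotProj.mem_of_sum_mem_sq f hH1' a ha j)

end Groth.Agent.Lib.R2LeadJacL
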