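import Mathlib
import Groth.Agent.Lib.R2LeadJacL
import Groth.Agent.Lib.R2LeadJacJ
import Groth.Agent.Lib.H9KoszulComp
import Groth.Agent.Lib.H9KoszulH1
import Groth.Agent.Lib.H9RegImmStalk

set_option autoImplicit false
universe u

namespace Groth.Agent.Lib.R2LeadJacM

open AlgebraicGeometry CategoryTheory TopologicalSpace Groth.Agent.Helper18FittSh
  Groth.Agent.Helper18Fitt TensorProduct

variable {Y X : Scheme.{u}} (f : Y ⟶ X)

/-- compatibility of chart maps for a factorisation `i ≫ π = U.ι ≫ f`. -/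
theorem chart_comm {P : Scheme.{u}} (U : Y.Opens) (i : (U : Scheme.{u}) ⟶ P) (π : P ⟶ X)
    (hig : i ≫ π = U.ι ≫ f) (V : X.Opens) (W : P.Opens) (e : W ≤ π ⁻¹ᵁ V)
    (hTV : U.ι ''ᵁ (i ⁻¹ᵁ W) ≤ f ⁻¹ᵁ V) :
    π.appLE V W e ≫ i.app W ≫ (U.ι.appIso (i ⁻¹ᵁ W)).inv =
      f.appLE V (U.ι ''ᵁ (i ⁻¹ᵁ W)) hTV := by
  rw [← Category.assoc, Iso.comp_inv_eq, Scheme.Hom.appIso_hom', Scheme.Hom.appLE_comp_appLE,
    Scheme.Hom.app_eq_appLE, Scheme.Hom.appLE_comp_appLE]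
  have key : ∀ (k k' : (U : Scheme.{u}) ⟶ X) (hk : k = k') (e1 : i ⁻¹ᵁ W ≤ k ⁻¹ᵁ V),
      k.appLE V (i ⁻¹ᵁ W) e1 = k'.appLE V (i ⁻¹ᵁ W) (hk ▸ e1) := by
    rintro k _ rfl _
    rfl
  exact key _ _ hig _

theorem main [LocallyOfFinitePresentation f] [QuasiSeparated f] (m : ℕ) (y : Y)
    (hlci : ∃ (U : Y.Opens) (P : Scheme.{u}) (i : (U : Scheme.{u}) ⟶ P) (π : P ⟶ X) (c : ℕ),
      y ∈ U ∧ RegImm.IsRegularImmersionOfCodim RegImm.Kind.koszul c i ∧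
        SmoothOfRelativeDimension (m + c) π ∧ i ≫ π = U.ι ≫ f) :
    (∃ V : Y.Opens, y ∈ V ∧ Smooth (V.ι ≫ f)) ↔
      y ∉ (Fitt.sheafIdeal (Omega.sheaf f) m).support := by
  obtain ⟨U, P, i, π, c, hyU, ⟨-, hreg⟩, hsm, hig⟩ := hlci
  obtain ⟨⟨U₂, hU₂⟩, hzU₂, hcl₂, rs, hlen, hK, hker₂⟩ := hreg ⟨y, hyU⟩
  obtain ⟨V, hV, W', hW', hzW', e', hstd'⟩ :=
    SmoothOfRelativeDimension.exists_isStandardSmoothOfRelativeDimension (n := m + c) (f := π)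
      (i ⟨y, hyU⟩)
  obtain ⟨g, hgle, hzg⟩ := hW'.exists_basicOpen_le (V := W' ⊓ U₂) ⟨i ⟨y, hyU⟩, ⟨hzW', hzU₂⟩⟩ hzW'
  have hW : IsAffineOpen (P.basicOpen g) := hW'.basicOpen g
  have hWU₂ : P.basicOpen g ≤ U₂ := hgle.trans inf_le_right
  have hWW' : P.basicOpen g ≤ W' := P.basicOpen_le g
  have eW : P.basicOpen g ≤ π ⁻¹ᵁ V := hWW'.trans e'
  obtain ⟨hclW, fs', hlen', hK', hkerW⟩ :=
    Groth.Agent.Lib.H9KoszulComp.restrict_data i U₂ hU₂ hcl₂ rs hK hker₂ (P.basicOpen g) hW hWU₂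
  -- standard smoothness of the smaller chart
  have hstdW : (π.appLE V (P.basicOpen g) eW).hom.IsStandardSmoothOfRelativeDimension
      (m + fs'.length) := by
    rw [hlen', hlen]
    have hloc : IsLocalization.Away g Γ(P, P.basicOpen g) := hW'.isLocalization_basicOpen g
    have h1 := (RingHom.isStandardSmoothOfRelativeDimension_stableUnderCompositionWithLocalizationAway
      (m + c)).2 Γ(P, P.basicOpen g) g (π.appLE V W' e').hom hstd'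
    convert h1 using 1
    rw [← Scheme.Hom.appLE_map π e' (homOfLE hWW').op]
    rfl
  haveI : IsAffine (P.basicOpen g).toScheme := hW
  haveI := hclW
  have hT₀ : IsAffineOpen (i ⁻¹ᵁ P.basicOpen g) := isAffine_of_isAffineHom (i ∣_ P.basicOpen g)
  have hT : IsAffineOpen (U.ι ''ᵁ (i ⁻¹ᵁ P.basicOpen g)) := hT₀.image_of_isOpenImmersion U.ι
  have hyT : y ∈ U.ι ''ᵁ (i ⁻¹ᵁ P.basicOpen g) := ⟨⟨y, hyU⟩, hzg, rfl⟩
  have hTV : U.ι ''ᵁ (i ⁻¹ᵁ P.basicOpen g) ≤ f ⁻¹ᵁ V := by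
    rintro _ ⟨w, hw, rfl⟩
    change f (U.ι w) ∈ V
    have h1 : f (U.ι w) = π (i w) := by
      rw [← Scheme.Hom.comp_apply, ← Scheme.Hom.comp_apply, hig]
    rw [h1]
    exact eW hw
  have hsurj := Groth.Agent.Lib.H9RegImmStalk.app_surjective_of_restrict i (P.basicOpen g)
  -- the dictionary
  rw [R2LeadJacG.mem_support_iff_chart f m y hT hV hTV hyT]
  letI := (f.appLE V (U.ι ''ᵁ (i ⁻¹ᵁ P.basicOpen g)) hTV).hom.toAlgebra
  letI := (π.appLE V (P.basicOpen g) eW).hom.toAlgebra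
  haveI : Algebra.IsStandardSmoothOfRelativeDimension (m + fs'.length) Γ(X, V)
      Γ(P, P.basicOpen g) := hstdW
  haveI : Algebra.FiniteType Γ(X, V) Γ(Y, U.ι ''ᵁ (i ⁻¹ᵁ P.basicOpen g)) :=
    f.finiteType_appLE hV hT hTV
  let φ₀ : Γ(P, P.basicOpen g) →+* Γ(Y, U.ι ''ᵁ (i ⁻¹ᵁ P.basicOpen g)) :=
    (i.app (P.basicOpen g) ≫ (U.ι.appIso (i ⁻¹ᵁ P.basicOpen g)).inv).hom
  have hinv : Function.Bijective (U.ι.appIso (i ⁻¹ᵁ P.basicOpen g)).inv.hom :=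
    ConcreteCategory.bijective_of_isIso _
  have hφ₀ : Function.Surjective φ₀ := hinv.2.comp hsurj
  have hcomm := chart_comm f U i π hig V (P.basicOpen g) eW hTV
  let φ : Γ(P, P.basicOpen g) →ₐ[Γ(X, V)] Γ(Y, U.ι ''ᵁ (i ⁻¹ᵁ P.basicOpen g)) :=
    { φ₀ with
      commutes' := fun a => by
        have := congrArg (fun t => t.hom a) hcomm
        exact this }
  have hkerφ : RingHom.ker φ.toRingHom = Ideal.span (Set.range fs'.get) := by
    rw [Set.range_list_get]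
    change RingHom.ker φ₀ = Ideal.ofList fs'
    rw [← hkerW]
    ext a
    simp only [RingHom.mem_ker]
    change (U.ι.appIso (i ⁻¹ᵁ P.basicOpen g)).inv.hom ((i.app (P.basicOpen g)).hom a) = 0 ↔ _
    rw [← map_zero (U.ι.appIso (i ⁻¹ᵁ P.basicOpen g)).inv.hom, hinv.1.eq_iff]
  set q := (hT.primeIdealOf ⟨y, hyT⟩).asIdeal with hq
  obtain ⟨h1, h2⟩ := Groth.Agent.Lib.R2LeadJacL.main (N := m + fs'.length) φ hφ₀ fs'.get hkerφ q
  have hH1 := Groth.Agent.Lib.H9KoszulH1.isH1Regular_of_isKoszulRegularSeq fs' hK'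
  constructor
  · rintro ⟨V', hyV', hsmV'⟩
    have hst := Groth.Agent.Lib.Helper20.FlatDesc.formallySmooth_stalkMap_of_nbhd f y V' hyV'
    have hsmq : Algebra.IsSmoothAt Γ(X, V) q :=
      (formallySmooth_stalkMap_iff V hV _ hT hTV hyT).mp hst
    have h3 := h2 hH1 hsmq
    rw [not_le_iff_finrank]
    omega
  · intro hfitt
    rw [not_le_iff_finrank] at hfitt
    have hsmq : Algebra.IsSmoothAt Γ(X, V) q := h1 (by omega)
    apply Groth.Agent.Lib.Helper20.FlatDesc.exists_smooth_nbhd f y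
    exact (formallySmooth_stalkMap_iff V hV _ hT hTV hyT).mpr hsmq

end Groth.Agent.Lib.R2LeadJacM
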