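import Groth.Prelude.Def_KZero
import Groth.Prelude.Def_DCoh2
import Mathlib.AlgebraicGeometry.Noetherian
import Groth.Agent.Lib.Helper17K0f
import Groth.Agent.Lib.Helper23FinType
import Groth.Agent.Lib.Helper23FinType2
import Groth.Agent.Lib.Helper23FinTypeLocal
import Groth.Agent.Lib.Helper23QCohAbelian

set_option autoImplicit false
set_option linter.style.haveILetI false
universe u
open CategoryTheory CategoryTheory.Limits AlgebraicGeometry
attribute [local instance] HasDerivedCategory.standard
open KZero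

namespace Groth.Agent.Lib.R2Lead.K0Coh

variable (X : Scheme.{u})

/-- coherent modules as an object property -/
def cohP : ObjectProperty X.Modules := fun M => Coh.IsCoh M

theorem isQuasicoherent_of_iso {M N : X.Modules} (e : M ≅ N) (h : M.IsQuasicoherent) :
    N.IsQuasicoherent :=
  (SheafOfModules.isQuasicoherent X.ringCatSheaf).prop_of_iso e h

instance : (cohP X).IsClosedUnderIsomorphisms where
  of_iso := by
    rintro M N e ⟨h1, h2⟩
    exact ⟨isQuasicoherent_of_iso X e h1,
      Groth.Agent.Lib.Helper23.FinType.isFiniteType_of_iso e⟩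

theorem subsingleton_sections_of_isZero {M : X.Modules} (hM : IsZero M) (U : X.Opens) :
    Subsingleton Γ(M, U) := by
  refine ⟨fun x y => ?_⟩
  have h0 : (𝟙 M : M ⟶ M) = 0 := hM.eq_of_src _ _
  have hx : x = (Scheme.Modules.Hom.app (𝟙 M) U) x := by simp
  have hy : y = (Scheme.Modules.Hom.app (𝟙 M) U) y := by simp
  rw [hx, hy, h0]
  simp

theorem isCoh_of_isZero {M : X.Modules} (hM : IsZero M) : Coh.IsCoh M := by
  have hq : M.IsQuasicoherent := by
    have h : (SheafOfModules.free (R := X.ringCatSheaf) PEmpty.{u+1}).IsQuasicoherent := inferInstance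
    have hz : IsZero (SheafOfModules.free (R := X.ringCatSheaf) PEmpty.{u+1}) := by
      rw [IsZero.iff_id_eq_zero]
      refine Cofan.IsColimit.hom_ext (SheafOfModules.isColimitFreeCofan _) _ _ ?_
      intro i
      exact i.elim
    exact isQuasicoherent_of_iso X (hz.iso hM) h
  refine ⟨hq, ?_⟩
  haveI := hq
  refine Groth.Agent.Lib.Helper23.FinType.isFiniteType_of_finite M
    (fun V : X.affineOpens => (V : X.Opens)) (iSup_affineOpens_eq_top X) (fun V => V.2) (fun V => ?_)
  haveI := subsingleton_sections_of_isZero X hM V.1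
  infer_instance

instance : (cohP X).ContainsZero where
  exists_zero := ⟨_, isZero_zero _, isCoh_of_isZero X (isZero_zero _)⟩

instance [IsLocallyNoetherian X] : (cohP X).IsClosedUnderKernels where
  kernels_le := by
    rintro _ ⟨f, k, hk, hf⟩
    refine (cohP X).prop_of_iso (IsLimit.conePointUniqueUpToIso (kernelIsKernel f) hk) ?_
    obtain ⟨⟨h1, h2⟩, ⟨h3, h4⟩⟩ := hf
    haveI := h1
    haveI := h2
    haveI := h3
    haveI := h4
    haveI : (kernel f).IsQuasicoherent := Groth.Agent.Lib.Helper23.QCohLocal.isQuasicoherent_kernel f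
    show Coh.IsCoh (kernel f)
    exact ⟨this, Groth.Agent.Lib.Helper23.FinType.isFiniteType_of_mono (kernel.ι f)⟩

theorem main [IsNoetherian X] :
    ∃ φ : KZero.K0sub (fun M : X.Modules => Coh.IsCoh M) ≃+
        KZero.K0tr (fun K : DCoh.D X => DCoh.IsCohD K ∧ ∃ a b : ℤ, K.IsGE a ∧ K.IsLE b),
      ∀ F : X.Modules, Coh.IsCoh F →
        φ (KZero.clSub (fun M : X.Modules => Coh.IsCoh M) F) =
          KZero.clTr (fun K : DCoh.D X => DCoh.IsCohD K ∧ ∃ a b : ℤ, K.IsGE a ∧ K.IsLE b) (DCoh.inD X F) := by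
  have hQ : (fun K : DCoh.D X => DCoh.IsCohD K ∧ ∃ a b : ℤ, K.IsGE a ∧ K.IsLE b) =
      Groth.Agent.Lib.Helper17.K0c.DbP (cohP X) := by
    funext K
    apply propext
    constructor
    · intro h
      exact ⟨h.1, h.2⟩
    · intro h
      exact ⟨h.1, h.2⟩
  exact Groth.Agent.Lib.Helper17.K0f.exists_equiv_of_eq X.Modules (cohP X) _ hQ

end Groth.Agent.Lib.R2Lead.K0Coh
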