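import Mathlib
import Groth.Prelude.Def_LCI2
import Groth.Prelude.Def_RegImm
import Groth.Agent.Lib.R2LeadKL2
import Groth.Agent.Lib.R2LeadKzDescFin
import Groth.Agent.Lib.R2H3KzLCIComp
import Groth.Agent.Lib.R2H4RegSeqOpen

set_option autoImplicit false
set_option linter.style.haveILetI false
universe u

open TensorProduct

namespace Groth.Agent.Lib.R2LeadKL3

open Groth.Agent.Lib.R2LeadKL2

section Ring

attribute [local instance] Algebra.TensorProduct.rightAlgebra

/-- base change of a flat ring map is flat (right-hand version) -/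
theorem flat_includeRight (k k' F : Type u) [CommRing k] [CommRing k'] [CommRing F]
    [Algebra k k'] [Algebra k F] [Module.Flat k k'] :
    (Algebra.TensorProduct.includeRight : F →ₐ[k] k' ⊗[k] F).toRingHom.Flat := by
  have h := RingHom.Flat.isStableUnderBaseChange k k' F (k' ⊗[k] F)
    (RingHom.flat_algebraMap_iff.mpr inferInstance)
  exact h

variable (A A' B B' : Type u) [CommRing A] [CommRing A'] [CommRing B] [CommRing B']
  [Algebra A A'] [Algebra A B] [Algebra A' B'] [Algebra B B'] [Algebra A B']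
  [IsScalarTower A A' B'] [IsScalarTower A B B'] [Algebra.IsPushout A A' B B']

/-- the prime of the fibre ring over a prime `q` of `S` -/
theorem exists_fibre_prime' (R S : Type u) [CommRing R] [CommRing S] [Algebra R S]
    (q : Ideal S) [hq : q.IsPrime] :
    ∃ (Q : Ideal ((q.comap (algebraMap R S)).Fiber S)) (_ : Q.IsPrime),
      Q.comap (Algebra.TensorProduct.includeRight :
        S →ₐ[R] (q.comap (algebraMap R S)).Fiber S) = q := by
  set p : PrimeSpectrum R := PrimeSpectrum.comap (algebraMap R S) ⟨q, hq⟩ with hp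
  let Q : PrimeSpectrum (p.asIdeal.Fiber S) :=
    PrimeSpectrum.preimageHomeomorphFiber R S p ⟨⟨q, hq⟩, rfl⟩
  have hQq : Q.asIdeal.comap (Algebra.TensorProduct.includeRight : S →ₐ[R] p.asIdeal.Fiber S) = q :=
    congrArg PrimeSpectrum.asIdeal
      (Groth.Agent.Lib.Helper4.FibDim.comap_includeRight_preimageHomeomorphFiber p.asIdeal
        ⟨⟨q, hq⟩, rfl⟩)
  exact ⟨Q.asIdeal, Q.2, hQq⟩

set_option maxHeartbeats 800000 in
/-- **The flat local comparison map of fibre local rings** for a pushout square. -/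
theorem exists_flat_local_fib
    (q' : Ideal B') [q'.IsPrime] (q : Ideal B) [q.IsPrime] (hq : q'.comap (algebraMap B B') = q) :
    ∃ (_ : IsLocalRing (EGA4.FibLocRing A B q)) (_ : IsLocalRing (EGA4.FibLocRing A' B' q'))
      (φ : EGA4.FibLocRing A B q →+* EGA4.FibLocRing A' B' q'), φ.Flat ∧ IsLocalHom φ ∧
      ∀ b : B, φ (algebraMap B (EGA4.FibLocRing A B q) b) =
        algebraMap B' (EGA4.FibLocRing A' B' q') (algebraMap B B' b) := by
  set p : Ideal A := q.comap (algebraMap A B) with hpdef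
  set p' : Ideal A' := q'.comap (algebraMap A' B') with hp'def
  have hp : p = p'.comap (algebraMap A A') := by
    rw [hpdef, hp'def, ← hq, Ideal.comap_comap, Ideal.comap_comap,
      ← IsScalarTower.algebraMap_eq, ← IsScalarTower.algebraMap_eq]
  let σ : p.ResidueField →ₐ[A] p'.ResidueField :=
    Ideal.ResidueField.mapₐ p p' (Algebra.ofId A A') hp
  letI : Algebra p.ResidueField p'.ResidueField := σ.toRingHom.toAlgebra
  haveI : IsScalarTower A p.ResidueField p'.ResidueField :=
    IsScalarTower.of_algebraMap_eq fun a => (σ.commutes a).symm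
  let e1 : p'.ResidueField ⊗[p.ResidueField] (p.ResidueField ⊗[A] B) ≃ₐ[p'.ResidueField]
      p'.ResidueField ⊗[A] B :=
    Algebra.TensorProduct.cancelBaseChange A p.ResidueField p'.ResidueField p'.ResidueField B
  let e2 : p'.ResidueField ⊗[A] B ≃ₐ[p'.ResidueField] p'.ResidueField ⊗[A'] (A' ⊗[A] B) :=
    (Algebra.TensorProduct.cancelBaseChange A A' p'.ResidueField p'.ResidueField B).symm
  let e3 : p'.ResidueField ⊗[A'] (A' ⊗[A] B) ≃ₐ[A'] p'.ResidueField ⊗[A'] B' :=
    Algebra.TensorProduct.congr (AlgEquiv.refl : p'.ResidueField ≃ₐ[A'] p'.ResidueField)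
      (Algebra.IsPushout.equiv A A' B B')
  let ε : p'.ResidueField ⊗[p.ResidueField] (p.Fiber B) ≃+* p'.Fiber B' :=
    e1.toRingEquiv.trans (e2.toRingEquiv.trans e3.toRingEquiv)
  let ψ : p.Fiber B →+* p'.Fiber B' :=
    ε.toRingHom.comp (Algebra.TensorProduct.includeRight :
      p.Fiber B →ₐ[p.ResidueField] p'.ResidueField ⊗[p.ResidueField] (p.Fiber B)).toRingHom
  have hψ : ∀ b : B, ψ (1 ⊗ₜ b) = 1 ⊗ₜ algebraMap B B' b := by
    intro b
    change e3 (e2 (e1 (1 ⊗ₜ (1 ⊗ₜ b)))) = _
    simp [e1, e2, e3, Algebra.IsPushout.equiv_tmul]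
  obtain ⟨εr, hεr⟩ : ∃ εr : p'.ResidueField ⊗[p.ResidueField] (p.Fiber B) →+* p'.Fiber B',
      ∀ y, εr y = ε y :=
    ⟨(ε : p'.ResidueField ⊗[p.ResidueField] (p.Fiber B) →+* p'.Fiber B'), fun _ => rfl⟩
  have hεrbij : Function.Bijective εr := by
    have : (εr : _ → _) = ε := funext hεr
    rw [this]
    exact ε.bijective
  have hψeq : ψ = εr.comp (Algebra.TensorProduct.includeRight :
      p.Fiber B →ₐ[p.ResidueField] p'.ResidueField ⊗[p.ResidueField] (p.Fiber B)).toRingHom :=
    RingHom.ext fun y => (hεr _).symm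
  have hψflat : ψ.Flat := by
    rw [hψeq]
    exact RingHom.Flat.comp (flat_includeRight p.ResidueField p'.ResidueField (p.Fiber B))
      (RingHom.Flat.of_bijective hεrbij)
  obtain ⟨Q', hQ', hQq'⟩ := exists_fibre_prime' A' B' q'
  haveI := hQ'
  haveI hQprime : (Q'.comap ψ).IsPrime := Ideal.IsPrime.comap _
  have hQq : (Q'.comap ψ).comap (Algebra.TensorProduct.includeRight : B →ₐ[A] p.Fiber B) = q := by
    ext b
    rw [Ideal.mem_comap, Ideal.mem_comap]
    change ψ (1 ⊗ₜ b) ∈ Q' ↔ _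
    rw [hψ, ← hq, Ideal.mem_comap]
    exact Ideal.ext_iff.mp hQq' (algebraMap B B' b)
  obtain ⟨εQ, hεQ⟩ := Groth.Agent.Lib.R2H4.RegSeqOpen.exists_equiv p (Q'.comap ψ) q hQq
  obtain ⟨εQ', hεQ'⟩ := Groth.Agent.Lib.R2H4.RegSeqOpen.exists_equiv p' Q' q' hQq'
  haveI l1 : IsLocalRing (EGA4.FibLocRing A B q) := εQ.isLocalRing
  haveI l2 : IsLocalRing (EGA4.FibLocRing A' B' q') := εQ'.isLocalRing
  let lr : Localization.AtPrime (Q'.comap ψ) →+* Localization.AtPrime Q' :=
    Localization.localRingHom (Q'.comap ψ) Q' ψ rfl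
  have hlrflat := RingHom.Flat.localRingHom hψflat Q' (Q'.comap ψ) rfl
  obtain ⟨e1r, he1r⟩ : ∃ e1r : EGA4.FibLocRing A B q →+* Localization.AtPrime (Q'.comap ψ),
      ∀ y, e1r y = εQ.symm y :=
    ⟨(εQ.symm : EGA4.FibLocRing A B q →+* Localization.AtPrime (Q'.comap ψ)), fun _ => rfl⟩
  have he1rbij : Function.Bijective e1r := by
    have : (e1r : _ → _) = εQ.symm := funext he1r
    rw [this]
    exact εQ.symm.bijective
  obtain ⟨e2r, he2r⟩ : ∃ e2r : Localization.AtPrime Q' →+* EGA4.FibLocRing A' B' q',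
      ∀ y, e2r y = εQ' y :=
    ⟨(εQ' : Localization.AtPrime Q' →+* EGA4.FibLocRing A' B' q'), fun _ => rfl⟩
  have he2rbij : Function.Bijective e2r := by
    have : (e2r : _ → _) = εQ' := funext he2r
    rw [this]
    exact εQ'.bijective
  have hφ : ∀ y, (e2r.comp (lr.comp e1r)) y = εQ' (lr (εQ.symm y)) := by
    intro y
    change e2r (lr (e1r y)) = _
    rw [he2r, he1r]
  refine ⟨l1, l2, e2r.comp (lr.comp e1r), ?_, ?_, ?_⟩
  · exact RingHom.Flat.comp (RingHom.Flat.comp (RingHom.Flat.of_bijective he1rbij)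
      hlrflat) (RingHom.Flat.of_bijective he2rbij)
  · constructor
    intro a ha
    rw [hφ] at ha
    have h2 : IsUnit (lr (εQ.symm a)) := by
      obtain ⟨u, hu⟩ := ha
      have h5 : lr (εQ.symm a) = εQ'.symm (u : EGA4.FibLocRing A' B' q') := by
        rw [hu, εQ'.symm_apply_apply]
      rw [h5]
      exact ⟨⟨εQ'.symm u, εQ'.symm ((u⁻¹ : _ˣ) : EGA4.FibLocRing A' B' q'),
        by rw [← map_mul, Units.mul_inv, map_one], by rw [← map_mul, Units.inv_mul, map_one]⟩, rfl⟩
    have h3 : IsUnit (εQ.symm a) := by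
      haveI : IsLocalHom lr := Localization.isLocalHom_localRingHom _ _ _ rfl
      exact IsUnit.of_map lr _ h2
    obtain ⟨u, hu⟩ := h3
    have h6 : a = εQ (u : Localization.AtPrime (Q'.comap ψ)) := by
      rw [hu, εQ.apply_symm_apply]
    rw [h6]
    exact ⟨⟨εQ u, εQ ((u⁻¹ : _ˣ) : Localization.AtPrime (Q'.comap ψ)),
      by rw [← map_mul, Units.mul_inv, map_one], by rw [← map_mul, Units.inv_mul, map_one]⟩, rfl⟩
  · intro b
    rw [hφ, ← hεQ b, εQ.symm_apply_apply]
    have h4 : lr (algebraMap (p.Fiber B) (Localization.AtPrime (Q'.comap ψ)) (1 ⊗ₜ b)) =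
        algebraMap (p'.Fiber B') (Localization.AtPrime Q') (ψ (1 ⊗ₜ b)) :=
      Localization.localRingHom_to_map _ _ _ rfl _
    rw [h4, hψ, hεQ']

/-- **The fibre condition is invariant under arbitrary base change.** -/
theorem fibReg_baseChange_iff (I : Ideal B)
    (q' : Ideal B') [q'.IsPrime] (q : Ideal B) [q.IsPrime] (hq : q'.comap (algebraMap B B') = q) :
    FibReg A I q ↔ FibReg A' (I.map (algebraMap B B')) q' := by
  obtain ⟨l1, l2, φ, hφflat, hφloc, hφ⟩ := exists_flat_local_fib A A' B B' q' q hq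
  have hmap : (I.map (algebraMap B (EGA4.FibLocRing A B q))).map φ =
      (I.map (algebraMap B B')).map (algebraMap B' (EGA4.FibLocRing A' B' q')) := by
    rw [Ideal.map_map, Ideal.map_map]
    congr 1
    exact RingHom.ext hφ
  unfold FibReg
  rw [← hmap]
  constructor
  · intro h
    exact Groth.Agent.Lib.R2H3.KzLCIComp.isKoszulRegularIdeal_map_of_flat φ hφflat _ h
  · intro h
    letI := φ.toAlgebra
    haveI : Module.Flat (EGA4.FibLocRing A B q) (EGA4.FibLocRing A' B' q') := hφflat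
    haveI : IsLocalHom (algebraMap (EGA4.FibLocRing A B q) (EGA4.FibLocRing A' B' q')) := hφloc
    haveI : Module.FaithfullyFlat (EGA4.FibLocRing A B q) (EGA4.FibLocRing A' B' q') :=
      Module.FaithfullyFlat.of_flat_of_isLocalHom
    exact Groth.Agent.Lib.R2LeadKzDescFin.main _ h

end Ring

end Groth.Agent.Lib.R2LeadKL3
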