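import Mathlib
import Groth.Prelude.Def_LCI2
import Groth.Prelude.Def_RegImm
import Groth.Agent.Lib.R2LeadKL3
import Groth.Agent.Lib.R2H4RelGCIFlat

set_option autoImplicit false
set_option linter.style.haveILetI false
universe u

open TensorProduct

namespace Groth.Agent.Lib.R2LeadKL4

open Groth.Agent.Lib.R2LeadKL2 Groth.Agent.Lib.R2LeadKL3

section Ring

variable (A A' B B' : Type u) [CommRing A] [CommRing A'] [CommRing B] [CommRing B']
  [Algebra A A'] [Algebra A B] [Algebra A' B'] [Algebra B B'] [Algebra A B']
  [IsScalarTower A A' B'] [IsScalarTower A B B'] [Algebra.IsPushout A A' B B']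

omit [Algebra A A'] [Algebra A' B'] [IsScalarTower A A' B'] [Algebra.IsPushout A A' B B']
  [CommRing A'] in
theorem tower_quot (I : Ideal B) : IsScalarTower A (B ⧸ I) (B' ⧸ I.map (algebraMap B B')) :=
  IsScalarTower.of_algebraMap_eq fun a => by
    rw [IsScalarTower.algebraMap_apply A B (B ⧸ I), Ideal.Quotient.algebraMap_eq,
      Ideal.Quotient.algebraMap_quotient_map_quotient,
      IsScalarTower.algebraMap_apply A B' (B' ⧸ I.map (algebraMap B B')),
      Ideal.Quotient.algebraMap_eq, ← IsScalarTower.algebraMap_apply A B B']

attribute [local instance] tower_quot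

/-- the quotient by an extended ideal is the base change of the quotient -/
theorem isPushout_quot (I : Ideal B) :
    Algebra.IsPushout A (B ⧸ I) A' (B' ⧸ I.map (algebraMap B B')) := by
  haveI : Algebra.IsPushout A B A' B' := Algebra.IsPushout.symm inferInstance
  rw [Algebra.IsPushout.comp_iff A B A' B']
  exact (Groth.Agent.Lib.R2H4.RelGCIFlat.isPushout_quotient (A := B) (B := B') I).symm

theorem flat_quot_baseChange (I : Ideal B) [Module.Flat A (B ⧸ I)] :
    Module.Flat A' (B' ⧸ I.map (algebraMap B B')) := by
  haveI := isPushout_quot A A' B B' I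
  have h := RingHom.Flat.isStableUnderBaseChange A (B ⧸ I) A' (B' ⧸ I.map (algebraMap B B'))
    (RingHom.flat_algebraMap_iff.mpr inferInstance)
  exact RingHom.flat_algebraMap_iff.mp h

theorem flat_baseChange [Module.Flat A B] : Module.Flat A' B' := by
  haveI : Algebra.IsPushout A B A' B' := Algebra.IsPushout.symm inferInstance
  have h := RingHom.Flat.isStableUnderBaseChange A B A' B'
    (RingHom.flat_algebraMap_iff.mpr inferInstance)
  exact RingHom.flat_algebraMap_iff.mp h

theorem finitePresentation_baseChange [Algebra.FinitePresentation A B] :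
    Algebra.FinitePresentation A' B' := by
  haveI : Algebra.IsPushout A B A' B' := Algebra.IsPushout.symm inferInstance
  have h := RingHom.finitePresentation_isStableUnderBaseChange A B A' B'
    (RingHom.finitePresentation_algebraMap.mpr inferInstance)
  exact RingHom.finitePresentation_algebraMap.mp h

include A' in
/-- **Being Koszul at a point commutes with arbitrary base change** for an ideal with flat
quotient in a flat finitely presented algebra. -/
theorem kzAt_baseChange_iff [Algebra.FinitePresentation A B] [Module.Flat A B] (I : Ideal B)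
    (hfg : I.FG) [Module.Flat A (B ⧸ I)]
    (q' : Ideal B') [q'.IsPrime] (q : Ideal B) [q.IsPrime] (hq : q'.comap (algebraMap B B') = q)
    (hIq : I ≤ q) :
    KzAt I q ↔ KzAt (I.map (algebraMap B B')) q' := by
  haveI := flat_quot_baseChange A A' B B' I
  haveI := flat_baseChange A A' B B'
  haveI := finitePresentation_baseChange A A' B B'
  haveI : Algebra.FiniteType A B := inferInstance
  haveI : Algebra.FiniteType A' B' := inferInstance
  have hfg' : (I.map (algebraMap B B')).FG := hfg.map _
  have hIq' : I.map (algebraMap B B') ≤ q' := by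
    rw [Ideal.map_le_iff_le_comap, hq]
    exact hIq
  constructor
  · intro h
    have h1 := koszul_imp_fib (R := A) q I hfg h hIq
    have h2 := (fibReg_baseChange_iff A A' B B' I q' q hq).mp h1
    exact fib_imp_koszul (R := A') q' _ hfg' hIq' h2
  · intro h
    have h1 := koszul_imp_fib (R := A') q' _ hfg' h hIq'
    have h2 := (fibReg_baseChange_iff A A' B B' I q' q hq).mpr h1
    exact fib_imp_koszul (R := A) q I hfg hIq h2

end Ring

end Groth.Agent.Lib.R2LeadKL4

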