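import Mathlib
import Groth.Prelude.Def_LCI2
import Groth.Prelude.Def_RegImm
import Groth.Agent.Lib.R2LeadKL4
import Groth.Agent.Lib.R2LeadSyntQ
import Groth.Agent.Lib.R2LeadSyntK

set_option autoImplicit false
set_option linter.style.haveILetI false
universe u

open TensorProduct

namespace Groth.Agent.Lib.R2LeadKL5

open Groth.Agent.Lib.R2LeadKL2 Groth.Agent.Lib.R2LeadKL3 Groth.Agent.Lib.R2LeadKL4

section TL

variable (B D : Type u) [CommRing B] [CommRing D] [Algebra B D] (n : ℕ)
  (α : MvPolynomial (Fin n) B →ₐ[B] D) (hα : Function.Surjective α) (q : Ideal D) [q.IsPrime]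

include hα in
/-- **Translation**: being lci on a principal open neighbourhood of `q` is the same as the kernel of
a polynomial presentation being Koszul at the preimage of `q`. -/
theorem lci_nhd_iff_kzAt :
    (∃ c : D, c ∉ q ∧ LCI.IsLCI B (Localization.Away c)) ↔
      KzAt (RingHom.ker α.toRingHom) (q.comap α.toRingHom) := by
  constructor
  · rintro ⟨c, hc, hlci⟩
    obtain ⟨b, rfl⟩ := hα c
    haveI : Algebra.Smooth B (MvPolynomial (Fin n) B) := ⟨inferInstance, inferInstance⟩
    haveI : Algebra.Smooth (MvPolynomial (Fin n) B) (Localization.Away b) :=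
      ⟨inferInstance, inferInstance⟩
    haveI : Algebra.Smooth B (Localization.Away b) :=
      Algebra.Smooth.comp B (MvPolynomial (Fin n) B) (Localization.Away b)
    let ψ : Localization.Away b →ₐ[B] Localization.Away (α b) :=
      IsLocalization.Away.mapₐ (Localization.Away b) (Localization.Away (α b)) α b
    have hψ : Function.Surjective ψ :=
      IsLocalization.Away.mapₐ_surjective_of_surjective (Aₚ := Localization.Away b)
        (Bₚ := Localization.Away (α b)) b hα
    have hT : Submonoid.map α.toRingHom (Submonoid.powers b) = Submonoid.powers (α b) := by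
      rw [Submonoid.map_powers]; rfl
    have hker : RingHom.ker ψ.toRingHom =
        (RingHom.ker α.toRingHom).map
          (algebraMap (MvPolynomial (Fin n) B) (Localization.Away b)) := by
      have := IsLocalization.ker_map (S := Localization.Away b) (Localization.Away (α b))
        α.toRingHom hT
      rw [← this]
      rfl
    have hK := Groth.Agent.Lib.R2LeadSyntK.isKoszulRegularIdeal_ker_of_isLCI ψ hψ hlci
    rw [hker] at hK
    set qP : Ideal (MvPolynomial (Fin n) B) := q.comap α.toRingHom with hqP
    have hbq : b ∉ qP := hc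
    have hdisj : Disjoint (Submonoid.powers b : Set (MvPolynomial (Fin n) B)) (qP : Set _) := by
      rw [Set.disjoint_left]
      rintro _ ⟨k, rfl⟩ hmem
      exact hbq (Ideal.IsPrime.mem_of_pow_mem inferInstance k hmem)
    have hqb : (qP.map (algebraMap (MvPolynomial (Fin n) B) (Localization.Away b))).IsPrime :=
      IsLocalization.isPrime_of_isPrime_disjoint (Submonoid.powers b) _ qP inferInstance hdisj
    have hIq : RingHom.ker α.toRingHom ≤ qP := by
      intro x hx
      rw [hqP, Ideal.mem_comap, RingHom.mem_ker.mp hx]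
      exact Ideal.zero_mem _
    obtain ⟨g', hg', l', hl', hIl'⟩ := hK ⟨_, hqb⟩ (Ideal.map_mono hIq)
    have hass := IsLocalization.Away.associated_sec_fst (S := Localization.Away b) b g'
    set a := (IsLocalization.Away.sec b g').1 with ha
    have haq : a ∉ qP := by
      intro hmem
      apply hg'
      obtain ⟨u, hu⟩ := hass
      change g' ∈ qP.map (algebraMap (MvPolynomial (Fin n) B) (Localization.Away b))
      rw [← hu]
      exact Ideal.mul_mem_right _ _ (Ideal.mem_map_of_mem _ hmem)
    haveI : IsLocalization.Away (b * a) (Localization.Away g') :=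
      IsLocalization.Away.mul_of_associated b a g' hass
    refine kzAt_of_isLocalization _ qP (b * a)
      (fun hmem => (Ideal.IsPrime.mem_or_mem inferInstance hmem).elim hbq haq)
      (Localization.Away g') l' hl' ?_
    rw [IsScalarTower.algebraMap_eq (MvPolynomial (Fin n) B) (Localization.Away b)
      (Localization.Away g'), ← Ideal.map_map]
    exact hIl'
  · rintro ⟨g, hg, l, hl, hIl⟩
    have hK : LCI.IsKoszulRegularIdeal ((RingHom.ker α.toRingHom).map
        (algebraMap (MvPolynomial (Fin n) B) (Localization.Away g))) := by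
      rw [hIl]
      exact Groth.Agent.Lib.R2LeadSyntF.isKoszulRegularIdeal_ofList l hl
    exact ⟨α g, hg, Groth.Agent.Lib.R2LeadSyntQ.isLCI_away B n D α hα g hK⟩

end TL

section Ker

variable (P P' D D' : Type u) [CommRing P] [CommRing P'] [CommRing D] [CommRing D']
  [Algebra P P'] [Algebra P D] [Algebra P' D'] [Algebra D D'] [Algebra P D']
  [IsScalarTower P P' D'] [IsScalarTower P D D'] [Algebra.IsPushout P P' D D']

/-- base change of a surjection: surjective, with the extended kernel -/
theorem ker_of_isPushout (hsurj : Function.Surjective (algebraMap P D)) :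
    Function.Surjective (algebraMap P' D') ∧
      RingHom.ker (algebraMap P' D') = (RingHom.ker (algebraMap P D)).map (algebraMap P P') := by
  have H : Algebra.IsPushout P P' D D' := inferInstance
  constructor
  · intro d'
    refine H.1.inductionOn d' (fun d' => ∃ x : P', algebraMap P' D' x = d') ⟨0, map_zero _⟩
      ?_ ?_ ?_
    · intro m
      obtain ⟨p, rfl⟩ := hsurj m
      refine ⟨algebraMap P P' p, ?_⟩
      change _ = algebraMap D D' (algebraMap P D p)
      rw [← IsScalarTower.algebraMap_apply, ← IsScalarTower.algebraMap_apply]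
    · rintro s n ⟨x, rfl⟩
      exact ⟨s * x, by rw [map_mul, Algebra.smul_def]⟩
    · rintro a b ⟨x, rfl⟩ ⟨y, rfl⟩
      exact ⟨x + y, map_add _ _ _⟩
  · set J := (RingHom.ker (algebraMap P D)).map (algebraMap P P') with hJ
    apply le_antisymm
    · let g : D →ₐ[P] P' ⧸ J := AlgHom.liftOfSurjective (Algebra.ofId P D) hsurj
        (Algebra.ofId P (P' ⧸ J)) (by
          intro x hx
          rw [RingHom.mem_ker] at hx ⊢
          change algebraMap P (P' ⧸ J) x = 0
          rw [IsScalarTower.algebraMap_apply P P' (P' ⧸ J), Ideal.Quotient.algebraMap_eq,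
            Ideal.Quotient.eq_zero_iff_mem]
          exact Ideal.mem_map_of_mem _ hx)
      let ρ : D' →ₐ[P] P' ⧸ J := Algebra.pushoutDesc D' (IsScalarTower.toAlgHom P P' (P' ⧸ J)) g
        (fun _ _ => mul_comm _ _)
      intro x hx
      have h1 : ρ (algebraMap P' D' x) = Ideal.Quotient.mk J x :=
        Algebra.pushoutDesc_left D' (IsScalarTower.toAlgHom P P' (P' ⧸ J)) g _ x
      rw [RingHom.mem_ker] at hx
      rw [hx, map_zero] at h1
      exact Ideal.Quotient.eq_zero_iff_mem.mp h1.symm
    · rw [hJ, Ideal.map_le_iff_le_comap]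
      intro p hp
      rw [Ideal.mem_comap, RingHom.mem_ker, ← IsScalarTower.algebraMap_apply P P' D',
        IsScalarTower.algebraMap_apply P D D', RingHom.mem_ker.mp hp, map_zero]

end Ker

section RT

attribute [local instance] MvPolynomial.algebraMvPolynomial

variable (R R' B B' D D' : Type u) [CommRing R] [CommRing R'] [CommRing B] [CommRing B']
  [CommRing D] [CommRing D']
  [Algebra R R'] [Algebra R B] [Algebra R' B'] [Algebra B B'] [Algebra R B']
  [IsScalarTower R R' B'] [IsScalarTower R B B'] [Algebra.IsPushout R R' B B']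
  [Algebra R D] [Algebra R' D'] [Algebra D D'] [Algebra R D']
  [IsScalarTower R R' D'] [IsScalarTower R D D'] [Algebra.IsPushout R R' D D']
  [Algebra B D] [IsScalarTower R B D] [Algebra B' D'] [IsScalarTower R' B' D']

include R R' in
set_option maxHeartbeats 1600000 in
/-- **Ring form of the main theorem**: for `R → B → D` with `B`, `D` flat of finite presentation
over `R` and an arbitrary base change `R → R'`, the lci locus of `B → D` pulls back to the lci locus
of `B' → D'`. -/
theorem lci_nhd_baseChange_iff
    (hsq : (algebraMap B' D').comp (algebraMap B B') = (algebraMap D D').comp (algebraMap B D))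
    [Module.Flat R B] [Algebra.FinitePresentation R B] [Module.Flat R D]
    [Algebra.FinitePresentation R D]
    (q' : Ideal D') [q'.IsPrime] (q : Ideal D) [q.IsPrime] (hq : q'.comap (algebraMap D D') = q) :
    (∃ c : D, c ∉ q ∧ LCI.IsLCI B (Localization.Away c)) ↔
      (∃ c' : D', c' ∉ q' ∧ LCI.IsLCI B' (Localization.Away c')) := by
  letI aBD' : Algebra B D' := ((algebraMap D D').comp (algebraMap B D)).toAlgebra
  haveI tBDD' : IsScalarTower B D D' := IsScalarTower.of_algebraMap_eq' rfl
  haveI tBB'D' : IsScalarTower B B' D' := IsScalarTower.of_algebraMap_eq' hsq.symm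
  haveI tRBD' : IsScalarTower R B D' := IsScalarTower.of_algebraMap_eq fun r => by
    rw [IsScalarTower.algebraMap_apply R D D', IsScalarTower.algebraMap_apply R B D]
    rfl
  haveI tRB'D' : IsScalarTower R B' D' := IsScalarTower.of_algebraMap_eq fun r => by
    rw [IsScalarTower.algebraMap_apply R B D', IsScalarTower.algebraMap_apply R B B',
      IsScalarTower.algebraMap_apply B B' D']
  -- (i)
  haveI pRB : Algebra.IsPushout R B R' B' := Algebra.IsPushout.symm inferInstance
  have h1 : Algebra.IsPushout B D B' D' := by
    rw [← Algebra.IsPushout.comp_iff R B R' B']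
    exact Algebra.IsPushout.symm inferInstance
  -- (ii) presentation
  haveI : Algebra.FiniteType B D := Algebra.FiniteType.of_restrictScalars_finiteType R B D
  obtain ⟨n, α, hα⟩ := Algebra.FiniteType.iff_quotient_mvPolynomial''.mp
    (inferInstance : Algebra.FiniteType B D)
  let α' : MvPolynomial (Fin n) B' →ₐ[B'] D' :=
    MvPolynomial.aeval (fun i => algebraMap D D' (α (MvPolynomial.X i)))
  have hcompat' : α'.toRingHom.comp (MvPolynomial.map (algebraMap B B')) =
      (algebraMap D D').comp α.toRingHom := by
    apply MvPolynomial.ringHom_ext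
    · intro b
      change α' (MvPolynomial.map (algebraMap B B') (MvPolynomial.C b)) =
        algebraMap D D' (α (MvPolynomial.C b))
      rw [MvPolynomial.map_C, ← MvPolynomial.algebraMap_eq, ← MvPolynomial.algebraMap_eq,
        α'.commutes, α.commutes]
      exact congr($hsq b)
    · intro i
      change α' (MvPolynomial.map (algebraMap B B') (MvPolynomial.X i)) =
        algebraMap D D' (α (MvPolynomial.X i))
      rw [MvPolynomial.map_X]
      exact MvPolynomial.aeval_X _ i
  have hcompat : ∀ x : MvPolynomial (Fin n) B,
      α' (algebraMap (MvPolynomial (Fin n) B) (MvPolynomial (Fin n) B') x) =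
        algebraMap D D' (α x) := fun x => congr($hcompat' x)
  letI aPD : Algebra (MvPolynomial (Fin n) B) D := α.toRingHom.toAlgebra
  letI aP'D' : Algebra (MvPolynomial (Fin n) B') D' := α'.toRingHom.toAlgebra
  letI aPD' : Algebra (MvPolynomial (Fin n) B) D' :=
    ((algebraMap D D').comp α.toRingHom).toAlgebra
  haveI tBPD : IsScalarTower B (MvPolynomial (Fin n) B) D :=
    IsScalarTower.of_algebraMap_eq fun b => (α.commutes b).symm
  haveI tB'P'D' : IsScalarTower B' (MvPolynomial (Fin n) B') D' :=
    IsScalarTower.of_algebraMap_eq fun b => (α'.commutes b).symm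
  haveI tPDD' : IsScalarTower (MvPolynomial (Fin n) B) D D' := IsScalarTower.of_algebraMap_eq' rfl
  haveI tPP'D' : IsScalarTower (MvPolynomial (Fin n) B) (MvPolynomial (Fin n) B') D' :=
    IsScalarTower.of_algebraMap_eq fun x => (hcompat x).symm
  haveI tBP'D' : IsScalarTower B (MvPolynomial (Fin n) B') D' :=
    IsScalarTower.of_algebraMap_eq fun b => by
      rw [IsScalarTower.algebraMap_apply B B' D',
        IsScalarTower.algebraMap_apply B B' (MvPolynomial (Fin n) B')]
      exact (α'.commutes _).symm
  have h2 : Algebra.IsPushout (MvPolynomial (Fin n) B) D (MvPolynomial (Fin n) B') D' :=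
    (Algebra.IsPushout.comp_iff B (MvPolynomial (Fin n) B) B' (MvPolynomial (Fin n) B')).mp h1
  -- (iii) the kernel of `α'`
  set I : Ideal (MvPolynomial (Fin n) B) := RingHom.ker α.toRingHom with hI
  haveI h2' : Algebra.IsPushout (MvPolynomial (Fin n) B) (MvPolynomial (Fin n) B') D D' := h2.symm
  obtain ⟨hα'0, hker'0⟩ := ker_of_isPushout (MvPolynomial (Fin n) B) (MvPolynomial (Fin n) B') D D' hα
  have hα' : Function.Surjective α' := hα'0
  have hker' : RingHom.ker α'.toRingHom =
      I.map (algebraMap (MvPolynomial (Fin n) B) (MvPolynomial (Fin n) B')) := hker'0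
  -- (iv) the pushout square of polynomial rings over `R → R'`
  haveI tRPP' : IsScalarTower R (MvPolynomial (Fin n) B) (MvPolynomial (Fin n) B') :=
    IsScalarTower.of_algebraMap_eq fun r => by
      rw [IsScalarTower.algebraMap_apply R B (MvPolynomial (Fin n) B),
        IsScalarTower.algebraMap_apply R B' (MvPolynomial (Fin n) B'),
        IsScalarTower.algebraMap_apply R B B', MvPolynomial.algebraMap_def,
        MvPolynomial.algebraMap_eq, MvPolynomial.algebraMap_eq, MvPolynomial.map_C]
  have h3 : Algebra.IsPushout R (MvPolynomial (Fin n) B) R' (MvPolynomial (Fin n) B') :=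
    (Algebra.IsPushout.comp_iff R B R' B').mpr inferInstance
  haveI h3' : Algebra.IsPushout R R' (MvPolynomial (Fin n) B) (MvPolynomial (Fin n) B') := h3.symm
  -- (v) finiteness and flatness
  haveI : Algebra.FinitePresentation R (MvPolynomial (Fin n) B) :=
    Algebra.FinitePresentation.trans R B (MvPolynomial (Fin n) B)
  haveI : Module.Flat R (MvPolynomial (Fin n) B) := Module.Flat.trans R B (MvPolynomial (Fin n) B)
  have hfg : I.FG :=
    Algebra.FinitePresentation.ker_fG_of_surjective (α.restrictScalars R) hα
  let eR : (MvPolynomial (Fin n) B ⧸ I) ≃ₐ[R] D :=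
    Ideal.quotientKerAlgEquivOfSurjective (f := α.restrictScalars R) hα
  haveI : Module.Flat R (MvPolynomial (Fin n) B ⧸ I) :=
    Module.Flat.of_linearEquiv eR.toLinearEquiv
  -- (vi) the primes
  have hqP : (q'.comap α'.toRingHom).comap
      (algebraMap (MvPolynomial (Fin n) B) (MvPolynomial (Fin n) B')) = q.comap α.toRingHom := by
    ext x
    rw [Ideal.mem_comap, Ideal.mem_comap, Ideal.mem_comap, ← hq, Ideal.mem_comap]
    change α' (algebraMap _ _ x) ∈ q' ↔ algebraMap D D' (α x) ∈ q'
    rw [hcompat]
  have hIq : I ≤ q.comap α.toRingHom := by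
    intro x hx
    rw [Ideal.mem_comap, RingHom.mem_ker.mp hx]
    exact Ideal.zero_mem _
  have key := kzAt_baseChange_iff R R' (MvPolynomial (Fin n) B) (MvPolynomial (Fin n) B') I hfg
    (q'.comap α'.toRingHom) (q.comap α.toRingHom) hqP hIq
  rw [lci_nhd_iff_kzAt B D n α hα q, lci_nhd_iff_kzAt B' D' n α' hα' q', hker']
  exact key

end RT

end Groth.Agent.Lib.R2LeadKL5
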