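import Mathlib
import Groth.Prelude.Def_LCI2
import Groth.Prelude.Def_RegImm
import Groth.Agent.Lib.R2LeadKL5
import Groth.Agent.Lib.Helper2PullbackSec3
import Groth.Agent.Lib.R2H3KzLCIEquiv
import Groth.Agent.Lib.R2LeadSyntQ

set_option autoImplicit false
set_option linter.style.haveILetI false
universe u

open TensorProduct

namespace Groth.Agent.Lib.R2LeadKL6

open CategoryTheory CategoryTheory.Limits AlgebraicGeometry TopologicalSpace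
open Groth.Agent.Lib.R2H3 Groth.Agent.Lib.R2H3.KzLCIEquiv

section Dict

variable {X Y : Scheme.{u}}

/-- the Koszul locus of a morphism, as in the statement -/
def KLocus (f : X ⟶ Y) : Set X :=
  {x : ↑X | (∃ (U : X.Opens) (V : Y.Opens) (hU : IsAffineOpen U) (hV : IsAffineOpen V)
    (hUV : U ≤ f ⁻¹ᵁ V), x ∈ U ∧
      letI := (f.appLE V U hUV).hom.toAlgebra
      LCI.IsLCI Γ(Y, V) Γ(X, U))}

/-- pointwise form of `R2H3.KzLCIEquiv.isLCI_of_isKoszulAt` -/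
theorem exists_away_of_isKoszulAt (f : X ⟶ Y) (x : X) (hfx : Synt.IsKoszulAt f x) (U : X.Opens)
    (hU : IsAffineOpen U) (V : Y.Opens) (hV : IsAffineOpen V) (e : U ≤ f ⁻¹ᵁ V) (hx : x ∈ U) :
    ∃ c : Γ(X, U), x ∈ X.basicOpen c ∧
      (letI := (f.appLE V U e).hom.toAlgebra
       LCI.IsLCI Γ(Y, V) (Localization.Away c)) := by
  classical
  obtain ⟨Ux, P, i₀, π, hxUx, hlft, hi₀, hπ, hcomm⟩ := hfx
  haveI := hπ
  obtain ⟨c, hcle, hxc⟩ := hU.exists_basicOpen_le (V := U ⊓ Ux) ⟨x, ⟨hx, hxUx⟩⟩ hx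
  refine ⟨c, hxc, ?_⟩
  have hD : IsAffineOpen (X.basicOpen c) := hU.basicOpen c
  have hDU : X.basicOpen c ≤ U := X.basicOpen_le c
  have hDUx : X.basicOpen c ≤ Ux := hcle.trans inf_le_right
  have hDV : X.basicOpen c ≤ f ⁻¹ᵁ V := hDU.trans e
  letI algBD : Algebra Γ(Y, V) Γ(X, X.basicOpen c) := (f.appLE V (X.basicOpen c) hDV).hom.toAlgebra
  have hft : Algebra.FiniteType Γ(Y, V) Γ(X, X.basicOpen c) :=
    finiteType_appLE_of_le f Ux hlft V hV _ hD hDUx hDV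
  obtain ⟨k, γ, hγ⟩ := Algebra.FiniteType.iff_quotient_mvPolynomial''.mp hft
  haveI : IsAffine ((X.basicOpen c : X.Opens) : Scheme.{u}) := hD
  haveI : Smooth (Spec.map (CommRingCat.ofHom
      (algebraMap Γ(Y, V) (MvPolynomial (Fin k) Γ(Y, V))))) := smooth_Spec_mvPolynomial _ k
  haveI : IsClosedImmersion (Spec.map (CommRingCat.ofHom γ.toRingHom)) :=
    IsClosedImmersion.spec_of_surjective _ hγ
  have hi₀' : RegImm.IsRegularImmersion .koszul (X.homOfLE hDUx ≫ i₀) :=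
    koszul_openImmersion_comp _ _ hi₀
  have hcomm' : (X.homOfLE hDUx ≫ i₀) ≫ π =
      (hD.isoSpec.hom ≫ Spec.map (CommRingCat.ofHom γ.toRingHom)) ≫
        (Spec.map (CommRingCat.ofHom (algebraMap Γ(Y, V) (MvPolynomial (Fin k) Γ(Y, V)))) ≫
          hV.fromSpec) := by
    have h1 : Spec.map (CommRingCat.ofHom γ.toRingHom) ≫
        Spec.map (CommRingCat.ofHom (algebraMap Γ(Y, V) (MvPolynomial (Fin k) Γ(Y, V)))) =
        Spec.map (f.appLE V (X.basicOpen c) hDV) := by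
      rw [← Spec.map_comp]
      congr 1
      ext a
      exact γ.commutes a
    rw [Category.assoc, hcomm, ← Category.assoc, X.homOfLE_ι, Category.assoc,
      ← Category.assoc (Spec.map (CommRingCat.ofHom γ.toRingHom)), h1,
      IsAffineOpen.SpecMap_appLE_fromSpec f hV hD hDV, ← Category.assoc,
      IsAffineOpen.isoSpec_hom_fromSpec]
  have hKi := KzLCI.koszul_of_factorization (X.homOfLE hDUx ≫ i₀) π hi₀'
    (Spec.map (CommRingCat.ofHom (algebraMap Γ(Y, V) (MvPolynomial (Fin k) Γ(Y, V)))) ≫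
      hV.fromSpec) (hD.isoSpec.hom ≫ Spec.map (CommRingCat.ofHom γ.toRingHom)) hcomm'
  have hKγ : RegImm.IsRegularImmersion .koszul (Spec.map (CommRingCat.ofHom γ.toRingHom)) := by
    have := koszul_openImmersion_comp hD.isoSpec.inv _ hKi
    rwa [Iso.inv_hom_id_assoc] at this
  have h3 : LCI.IsLCI Γ(Y, V) Γ(X, X.basicOpen c) :=
    ⟨hft, k, γ, hγ, KzSpecDict.ideal_of_isRegularImmersion γ.toRingHom hγ hKγ⟩
  letI algAS : Algebra Γ(Y, V) Γ(X, U) := (f.appLE V U e).hom.toAlgebra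
  letI algSD : Algebra Γ(X, U) Γ(X, X.basicOpen c) :=
    (X.presheaf.map (homOfLE hDU).op).hom.toAlgebra
  haveI : IsLocalization.Away c Γ(X, X.basicOpen c) :=
    hU.isLocalization_of_eq_basicOpen c (homOfLE hDU) rfl
  haveI : IsScalarTower Γ(Y, V) Γ(X, U) Γ(X, X.basicOpen c) :=
    IsScalarTower.of_algebraMap_eq (fun a => by
      have h5 := Scheme.Hom.appLE_map f e (homOfLE hDU).op
      exact (congr($h5 a)).symm)
  let ee : Γ(X, X.basicOpen c) ≃ₐ[Γ(X, U)] Localization.Away c :=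
    IsLocalization.algEquiv (.powers c) _ _
  exact KzLCIComp.isLCI_of_algEquiv (ee.restrictScalars Γ(Y, V)) h3

/-- a point of the Koszul locus has, inside any given affine chart, a principal open neighbourhood
which is lci over the chart of the target -/
theorem exists_away_of_mem (f : X ⟶ Y) (x : X) (hfx : x ∈ KLocus f) (U : X.Opens)
    (hU : IsAffineOpen U) (V : Y.Opens) (hV : IsAffineOpen V) (e : U ≤ f ⁻¹ᵁ V) (hx : x ∈ U) :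
    ∃ c : Γ(X, U), x ∈ X.basicOpen c ∧
      (letI := (f.appLE V U e).hom.toAlgebra
       LCI.IsLCI Γ(Y, V) (Localization.Away c)) := by
  obtain ⟨U₁, V₁, hU₁, hV₁, e₁, hxU₁, hl⟩ := hfx
  exact exists_away_of_isKoszulAt f x
    (isKoszulAt_of_isLCI f U₁ hU₁ V₁ hV₁ e₁ x hxU₁ hl) U hU V hV e hx

/-- conversely, such a principal open neighbourhood puts the point in the Koszul locus -/
theorem mem_of_away (f : X ⟶ Y) (x : X) (U : X.Opens)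
    (hU : IsAffineOpen U) (V : Y.Opens) (hV : IsAffineOpen V) (e : U ≤ f ⁻¹ᵁ V)
    (c : Γ(X, U)) (hxc : x ∈ X.basicOpen c)
    (h : letI := (f.appLE V U e).hom.toAlgebra
         LCI.IsLCI Γ(Y, V) (Localization.Away c)) : x ∈ KLocus f := by
  have hU₁ : IsAffineOpen (X.basicOpen c) := hU.basicOpen c
  have e₁ : X.basicOpen c ≤ f ⁻¹ᵁ V := (X.basicOpen_le c).trans e
  refine ⟨X.basicOpen c, V, hU₁, hV, e₁, hxc, ?_⟩
  letI algAB : Algebra Γ(Y, V) Γ(X, U) := (f.appLE V U e).hom.toAlgebra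
  letI algBC : Algebra Γ(X, U) Γ(X, X.basicOpen c) :=
    (X.presheaf.map (homOfLE (X.basicOpen_le c)).op).hom.toAlgebra
  letI algAU₁ : Algebra Γ(Y, V) Γ(X, X.basicOpen c) := (f.appLE V (X.basicOpen c) e₁).hom.toAlgebra
  haveI : IsScalarTower Γ(Y, V) Γ(X, U) Γ(X, X.basicOpen c) := by
    refine IsScalarTower.of_algebraMap_eq' ?_
    rw [RingHom.algebraMap_toAlgebra, RingHom.algebraMap_toAlgebra,
      RingHom.algebraMap_toAlgebra, ← CommRingCat.hom_comp, Scheme.Hom.appLE_map]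
  haveI : IsLocalization.Away c Γ(X, X.basicOpen c) := hU.isLocalization_basicOpen c
  exact Groth.Agent.Lib.R2LeadSyntQ.isLCI_of_isLocalization Γ(Y, V) Γ(X, U) (Localization.Away c)
    Γ(X, X.basicOpen c) c h

end Dict

section Primes

theorem appLE_congr_hom {X Y : Scheme.{u}} {φ ψ : X ⟶ Y} (h : φ = ψ) (V : Y.Opens) (U : X.Opens)
    (e1 : U ≤ φ ⁻¹ᵁ V) (e2 : U ≤ ψ ⁻¹ᵁ V) : φ.appLE V U e1 = ψ.appLE V U e2 := by
  subst h
  rfl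

/-- the prime ideal of a point of an affine open -/
noncomputable def primeOf {X : Scheme.{u}} (U : X.Opens) (x : X) (hx : x ∈ U) : Ideal Γ(X, U) :=
  (IsLocalRing.maximalIdeal (X.presheaf.stalk x)).comap (X.presheaf.germ U x hx).hom

instance {X : Scheme.{u}} (U : X.Opens) (x : X) (hx : x ∈ U) : (primeOf U x hx).IsPrime :=
  Ideal.IsPrime.comap _

theorem not_mem_primeOf_iff {X : Scheme.{u}} (U : X.Opens) (x : X) (hx : x ∈ U) (c : Γ(X, U)) :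
    c ∉ primeOf U x hx ↔ x ∈ X.basicOpen c := by
  rw [Scheme.mem_basicOpen _ _ x hx]
  unfold primeOf
  rw [Ideal.mem_comap, IsLocalRing.mem_maximalIdeal, mem_nonunits_iff, not_not]

theorem primeOf_comap {X' X : Scheme.{u}} (gX : X' ⟶ X) (U : X.Opens) (U' : X'.Opens)
    (e : U' ≤ gX ⁻¹ᵁ U) (x' : X') (hx' : x' ∈ U') :
    (primeOf U' x' hx').comap (gX.appLE U U' e).hom = primeOf U (gX x') (e hx') := by
  ext c
  rw [Ideal.mem_comap]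
  have h1 := not_mem_primeOf_iff U (gX x') (e hx') c
  have h2 := not_mem_primeOf_iff U' x' hx' ((gX.appLE U U' e).hom c)
  rw [← not_iff_not, h1, h2, Scheme.basicOpen_appLE]
  constructor
  · intro h
    exact h.2
  · intro h
    exact ⟨hx', h⟩

end Primes

section Main

open Groth.Agent.Lib.Helper2.PullbackSec

variable {X Y S X' Y' S' : Scheme.{u}}

set_option maxHeartbeats 1600000 in
/-- **The Koszul locus commutes with arbitrary base change** (pointwise form). -/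
theorem mem_iff (f : X ⟶ Y) (g : Y ⟶ S) [Flat (f ≫ g)] [LocallyOfFinitePresentation (f ≫ g)]
    [Flat g] [LocallyOfFinitePresentation g]
    (h : S' ⟶ S) (gY : Y' ⟶ Y) (g' : Y' ⟶ S') (hY : IsPullback gY g' g h)
    (gX : X' ⟶ X) (f' : X' ⟶ Y') (hX : IsPullback gX (f' ≫ g') (f ≫ g) h)
    (w : gX ≫ f = f' ≫ gY) (x' : X') :
    x' ∈ KLocus f' ↔ gX x' ∈ KLocus f := by
  -- charts
  obtain ⟨_, ⟨(W : S.Opens), hW, rfl⟩, hsW, -⟩ :=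
    S.isBasis_affineOpens.exists_subset_of_mem_open (Set.mem_univ (g (f (gX x')))) isOpen_univ
  obtain ⟨_, ⟨(V : Y.Opens), hV, rfl⟩, hyV, hVW⟩ :=
    Y.isBasis_affineOpens.exists_subset_of_mem_open (show f (gX x') ∈ g ⁻¹ᵁ W from hsW)
      (g ⁻¹ᵁ W).isOpen
  obtain ⟨_, ⟨(U : X.Opens), hU, rfl⟩, hxU, hUV⟩ :=
    X.isBasis_affineOpens.exists_subset_of_mem_open (show gX x' ∈ f ⁻¹ᵁ V from hyV)
      (f ⁻¹ᵁ V).isOpen
  have eV : V ≤ g ⁻¹ᵁ W := hVW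
  have eU : U ≤ f ⁻¹ᵁ V := hUV
  have eUW : U ≤ (f ≫ g) ⁻¹ᵁ W := fun z hz => eV (eU hz)
  have hs' : h (g' (f' x')) = g (f (gX x')) := by
    have := congrArg (fun φ => φ.base x') hX.w
    simpa using this.symm
  obtain ⟨_, ⟨(W' : S'.Opens), hW', rfl⟩, hs'W', hW'W⟩ :=
    S'.isBasis_affineOpens.exists_subset_of_mem_open
      (show g' (f' x') ∈ h ⁻¹ᵁ W from by
        change h (g' (f' x')) ∈ W
        rw [hs']
        exact hsW) (h ⁻¹ᵁ W).isOpen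
  have eW' : W' ≤ h ⁻¹ᵁ W := hW'W
  have hV' : IsAffineOpen (gY ⁻¹ᵁ V ⊓ g' ⁻¹ᵁ W') :=
    isAffineOpen_inf_preimage hY eW' eV hW hW' hV
  have hU' : IsAffineOpen (gX ⁻¹ᵁ U ⊓ (f' ≫ g') ⁻¹ᵁ W') :=
    isAffineOpen_inf_preimage hX eW' eUW hW hW' hU
  have hx'U' : x' ∈ gX ⁻¹ᵁ U ⊓ (f' ≫ g') ⁻¹ᵁ W' := ⟨hxU, hs'W'⟩
  have eU' : gX ⁻¹ᵁ U ⊓ (f' ≫ g') ⁻¹ᵁ W' ≤ f' ⁻¹ᵁ (gY ⁻¹ᵁ V ⊓ g' ⁻¹ᵁ W') := by
    intro z hz
    refine ⟨?_, hz.2⟩
    change gY (f' z) ∈ V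
    have hwz : gY (f' z) = f (gX z) := by
      have := congrArg (fun φ => φ.base z) w
      simpa using this.symm
    rw [hwz]
    exact eU hz.1
  have e1V : gY ⁻¹ᵁ V ⊓ g' ⁻¹ᵁ W' ≤ gY ⁻¹ᵁ V := inf_le_left
  have e2V : gY ⁻¹ᵁ V ⊓ g' ⁻¹ᵁ W' ≤ g' ⁻¹ᵁ W' := inf_le_right
  have e1U : gX ⁻¹ᵁ U ⊓ (f' ≫ g') ⁻¹ᵁ W' ≤ gX ⁻¹ᵁ U := inf_le_left
  have e2U : gX ⁻¹ᵁ U ⊓ (f' ≫ g') ⁻¹ᵁ W' ≤ (f' ≫ g') ⁻¹ᵁ W' := inf_le_right
  -- algebra structures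
  letI aRR' : Algebra Γ(S, W) Γ(S', W') := (h.appLE W W' eW').hom.toAlgebra
  letI aRB : Algebra Γ(S, W) Γ(Y, V) := (g.appLE W V eV).hom.toAlgebra
  letI aR'B' : Algebra Γ(S', W') Γ(Y', gY ⁻¹ᵁ V ⊓ g' ⁻¹ᵁ W') := (g'.appLE W' _ e2V).hom.toAlgebra
  letI aBB' : Algebra Γ(Y, V) Γ(Y', gY ⁻¹ᵁ V ⊓ g' ⁻¹ᵁ W') := (gY.appLE V _ e1V).hom.toAlgebra
  letI aRB' : Algebra Γ(S, W) Γ(Y', gY ⁻¹ᵁ V ⊓ g' ⁻¹ᵁ W') :=
    ((gY.appLE V _ e1V).hom.comp (g.appLE W V eV).hom).toAlgebra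
  letI aRD : Algebra Γ(S, W) Γ(X, U) := ((f ≫ g).appLE W U eUW).hom.toAlgebra
  letI aR'D' : Algebra Γ(S', W') Γ(X', gX ⁻¹ᵁ U ⊓ (f' ≫ g') ⁻¹ᵁ W') :=
    ((f' ≫ g').appLE W' _ e2U).hom.toAlgebra
  letI aDD' : Algebra Γ(X, U) Γ(X', gX ⁻¹ᵁ U ⊓ (f' ≫ g') ⁻¹ᵁ W') :=
    (gX.appLE U _ e1U).hom.toAlgebra
  letI aRD' : Algebra Γ(S, W) Γ(X', gX ⁻¹ᵁ U ⊓ (f' ≫ g') ⁻¹ᵁ W') :=
    ((gX.appLE U _ e1U).hom.comp ((f ≫ g).appLE W U eUW).hom).toAlgebra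
  letI aBD : Algebra Γ(Y, V) Γ(X, U) := (f.appLE V U eU).hom.toAlgebra
  letI aB'D' : Algebra Γ(Y', gY ⁻¹ᵁ V ⊓ g' ⁻¹ᵁ W') Γ(X', gX ⁻¹ᵁ U ⊓ (f' ≫ g') ⁻¹ᵁ W') :=
    (f'.appLE _ _ eU').hom.toAlgebra
  -- towers
  haveI t1 : IsScalarTower Γ(S, W) Γ(Y, V) Γ(Y', gY ⁻¹ᵁ V ⊓ g' ⁻¹ᵁ W') :=
    IsScalarTower.of_algebraMap_eq' rfl
  haveI t2 : IsScalarTower Γ(S, W) Γ(S', W') Γ(Y', gY ⁻¹ᵁ V ⊓ g' ⁻¹ᵁ W') := by
    refine IsScalarTower.of_algebraMap_eq' ?_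
    rw [RingHom.algebraMap_toAlgebra, RingHom.algebraMap_toAlgebra, RingHom.algebraMap_toAlgebra,
      ← CommRingCat.hom_comp, ← CommRingCat.hom_comp, Scheme.Hom.appLE_comp_appLE,
      Scheme.Hom.appLE_comp_appLE]
    congr 1
    exact appLE_congr_hom hY.w _ _ _ _
  haveI t3 : IsScalarTower Γ(S, W) Γ(X, U) Γ(X', gX ⁻¹ᵁ U ⊓ (f' ≫ g') ⁻¹ᵁ W') :=
    IsScalarTower.of_algebraMap_eq' rfl
  haveI t4 : IsScalarTower Γ(S, W) Γ(S', W') Γ(X', gX ⁻¹ᵁ U ⊓ (f' ≫ g') ⁻¹ᵁ W') := by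
    refine IsScalarTower.of_algebraMap_eq' ?_
    rw [RingHom.algebraMap_toAlgebra, RingHom.algebraMap_toAlgebra, RingHom.algebraMap_toAlgebra,
      ← CommRingCat.hom_comp, ← CommRingCat.hom_comp, Scheme.Hom.appLE_comp_appLE,
      Scheme.Hom.appLE_comp_appLE]
    congr 1
    exact appLE_congr_hom hX.w _ _ _ _
  haveI t5 : IsScalarTower Γ(S, W) Γ(Y, V) Γ(X, U) := by
    refine IsScalarTower.of_algebraMap_eq' ?_
    rw [RingHom.algebraMap_toAlgebra, RingHom.algebraMap_toAlgebra, RingHom.algebraMap_toAlgebra,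
      ← CommRingCat.hom_comp, Scheme.Hom.appLE_comp_appLE]
  haveI t6 : IsScalarTower Γ(S', W') Γ(Y', gY ⁻¹ᵁ V ⊓ g' ⁻¹ᵁ W')
      Γ(X', gX ⁻¹ᵁ U ⊓ (f' ≫ g') ⁻¹ᵁ W') := by
    refine IsScalarTower.of_algebraMap_eq' ?_
    rw [RingHom.algebraMap_toAlgebra, RingHom.algebraMap_toAlgebra, RingHom.algebraMap_toAlgebra,
      ← CommRingCat.hom_comp, Scheme.Hom.appLE_comp_appLE]
  -- pushouts
  haveI pB : Algebra.IsPushout Γ(S, W) Γ(S', W') Γ(Y, V) Γ(Y', gY ⁻¹ᵁ V ⊓ g' ⁻¹ᵁ W') :=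
    algebra_isPushout hY eW' eV hW hW' hV e1V e2V
  haveI pD : Algebra.IsPushout Γ(S, W) Γ(S', W') Γ(X, U) Γ(X', gX ⁻¹ᵁ U ⊓ (f' ≫ g') ⁻¹ᵁ W') :=
    algebra_isPushout hX eW' eUW hW hW' hU e1U e2U
  have hsq : (algebraMap Γ(Y', gY ⁻¹ᵁ V ⊓ g' ⁻¹ᵁ W') Γ(X', gX ⁻¹ᵁ U ⊓ (f' ≫ g') ⁻¹ᵁ W')).comp
      (algebraMap Γ(Y, V) Γ(Y', gY ⁻¹ᵁ V ⊓ g' ⁻¹ᵁ W')) =
      (algebraMap Γ(X, U) Γ(X', gX ⁻¹ᵁ U ⊓ (f' ≫ g') ⁻¹ᵁ W')).comp
        (algebraMap Γ(Y, V) Γ(X, U)) := by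
    rw [RingHom.algebraMap_toAlgebra, RingHom.algebraMap_toAlgebra, RingHom.algebraMap_toAlgebra,
      RingHom.algebraMap_toAlgebra, ← CommRingCat.hom_comp, ← CommRingCat.hom_comp,
      Scheme.Hom.appLE_comp_appLE, Scheme.Hom.appLE_comp_appLE]
    congr 1
    exact appLE_congr_hom w.symm _ _ _ _
  -- flatness and finite presentation
  haveI fB : Module.Flat Γ(S, W) Γ(Y, V) :=
    (HasRingHomProperty.appLE (P := @Flat) g inferInstance ⟨W, hW⟩ ⟨V, hV⟩ eV :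
      (g.appLE W V eV).hom.Flat)
  haveI fD : Module.Flat Γ(S, W) Γ(X, U) :=
    (HasRingHomProperty.appLE (P := @Flat) (f ≫ g) inferInstance ⟨W, hW⟩ ⟨U, hU⟩ eUW :
      ((f ≫ g).appLE W U eUW).hom.Flat)
  haveI pfB : Algebra.FinitePresentation Γ(S, W) Γ(Y, V) :=
    (HasRingHomProperty.appLE (P := @LocallyOfFinitePresentation) g inferInstance ⟨W, hW⟩ ⟨V, hV⟩
      eV : (g.appLE W V eV).hom.FinitePresentation)
  haveI pfD : Algebra.FinitePresentation Γ(S, W) Γ(X, U) :=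
    (HasRingHomProperty.appLE (P := @LocallyOfFinitePresentation) (f ≫ g) inferInstance ⟨W, hW⟩
      ⟨U, hU⟩ eUW : ((f ≫ g).appLE W U eUW).hom.FinitePresentation)
  -- primes
  have hq := primeOf_comap gX U _ e1U x' hx'U'
  have key := Groth.Agent.Lib.R2LeadKL5.lci_nhd_baseChange_iff Γ(S, W) Γ(S', W') Γ(Y, V)
    Γ(Y', gY ⁻¹ᵁ V ⊓ g' ⁻¹ᵁ W') Γ(X, U) Γ(X', gX ⁻¹ᵁ U ⊓ (f' ≫ g') ⁻¹ᵁ W') hsq
    (primeOf _ x' hx'U') (primeOf U (gX x') (e1U hx'U')) hq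
  constructor
  · intro hx'
    obtain ⟨c', hc'x, hl'⟩ := exists_away_of_mem f' x' hx' _ hU' _ hV' eU' hx'U'
    obtain ⟨c, hc, hl⟩ := key.mpr ⟨c', (not_mem_primeOf_iff _ x' hx'U' c').mpr hc'x, hl'⟩
    exact mem_of_away f (gX x') U hU V hV eU c ((not_mem_primeOf_iff U _ _ c).mp hc) hl
  · intro hx
    obtain ⟨c, hcx, hl⟩ := exists_away_of_mem f (gX x') hx U hU V hV eU hxU
    obtain ⟨c', hc', hl'⟩ := key.mp ⟨c, (not_mem_primeOf_iff U _ (e1U hx'U') c).mpr hcx, hl⟩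
    exact mem_of_away f' x' _ hU' _ hV' eU' c' ((not_mem_primeOf_iff _ x' hx'U' c').mp hc') hl'

end Main

end Groth.Agent.Lib.R2LeadKL6

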