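import Mathlib
import Groth.Agent.Lib.Helper13KzTor
import Groth.Agent.Lib.Helper13KzLiftH
import Groth.Prelude.Def_LCI2

/-! # Koszul homology of a Koszul-regular sequence computes `Tor(A/(l), -)` -/

set_option autoImplicit false

namespace Groth.Agent.Lib.R2Lead.KzTor
open CategoryTheory CochainComplex MonoidalCategory CohIII Pointwise
open Groth.Agent.Lib.Helper21 Groth.Agent.Helper13Tor Groth.Agent.Helper13Kz
  Groth.Agent.Helper13KzLift
open scoped TensorProduct

universe u
variable {A : Type u} [CommRing A]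

theorem isEffDelta_TK' (l : List A) (hl : LCI.IsKoszulRegularSeq A l) :
    Helper13Delta.IsEffDelta (TK l) where
  exists_δ S hS n := by
    have hf : Function.Injective S.f.hom := (ModuleCat.mono_iff_injective _).mp hS.mono_f
    have hg : Function.Surjective S.g.hom := (ModuleCat.epi_iff_surjective _).mp hS.epi_g
    have hfg : Function.Exact S.f.hom S.g.hom :=
      (ShortComplex.ShortExact.moduleCat_exact_iff_function_exact S).mp hS.exact
    have hK := koszul_shortExact S.f S.g hf hg hfg l
    have hij : (ComplexShape.up ℤ).Rel (-((n + 1 : ℕ) : ℤ)) (-(n : ℤ)) := by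
      show -((n + 1 : ℕ) : ℤ) + 1 = -(n : ℤ)
      push_cast
      ring
    exact ⟨hK.δ _ _ hij, hK.comp_δ _ _ hij, hK.δ_comp _ _ hij, hK.homology_exact₃ _ _ hij,
      hK.homology_exact₁ _ _ hij⟩
  isZero_of_projective X _ n := by
    have : Module.Flat A X := inferInstance
    have h0 : Subsingleton (KH l A (-((n + 1 : ℕ) : ℤ))) :=
      (isKoszulRegularSeq_iff A l).1 hl _ (by push_cast; omega)
    have h1 : Subsingleton (KH l (A ⊗[A] X) (-((n + 1 : ℕ) : ℤ))) :=
      subsingleton_KH_tensor_flat A X l _ h0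
    have h2 : Subsingleton (KH l X (-((n + 1 : ℕ) : ℤ))) :=
      subsingleton_KH_of_equiv l (TensorProduct.lid A X) _ h1
    haveI : Subsingleton ↑((TK l (n + 1)).obj X) := h2
    exact ModuleCat.isZero_of_subsingleton _

/-- for a Koszul-regular sequence `l` on `A`, `Tor_n(A/(l), M) ≅ H^{-n}(K(l; M))`. -/
theorem nonempty_tor_iso_KH' (l : List A) (hl : LCI.IsKoszulRegularSeq A l)
    (M : ModuleCat.{u} A) (n : ℕ) :
    Nonempty (((Tor (ModuleCat.{u} A) n).obj (ModuleCat.of A (A ⧸ Ideal.ofList l))).obj M ≅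
      (koszulCx M l).homology (-(n : ℤ))) := by
  obtain ⟨e⟩ := nonempty_TK_zero_iso (A := A) l
  let P : ProjectiveResolution M := ProjectiveResolution.of M
  obtain ⟨e2⟩ := Helper13Delta.nonempty_iso (isEffDelta_TK' l hl) _ e P n
  exact ⟨torIso P _ n ≪≫ e2.symm⟩

/-- `Tor_i^A(A/(fs), A') = 0` for `i ≥ 1` when `fs` is Koszul-regular in `A` and in `A'`. -/
theorem isZero_tor_quot (A' : Type u) [CommRing A'] [Algebra A A'] (fs : List A)
    (hfs : LCI.IsKoszulRegularSeq A fs)
    (hfs' : LCI.IsKoszulRegularSeq A' (fs.map (algebraMap A A'))) (i : ℕ) (hi : 1 ≤ i) :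
    Limits.IsZero (((Tor (ModuleCat.{u} A) i).obj
      (ModuleCat.of A (A ⧸ Ideal.ofList fs))).obj (ModuleCat.of A A')) := by
  obtain ⟨e⟩ := nonempty_tor_iso_KH' fs hfs (ModuleCat.of A A') i
  refine Limits.IsZero.of_iso ?_ e
  have h1 : Limits.IsZero ((koszulCx (ModuleCat.of A' A') (fs.map (algebraMap A A'))).homology
      (-(i : ℤ))) := by
    have := hfs' (-(i : ℤ)) (by omega)
    rwa [isZero_congr (koszul_eq A' _)] at this
  have h2 := isZero_homology_restrict (algebraMap A A') (ModuleCat.of A' A') fs (-(i : ℤ)) h1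
  let el : ↑((ModuleCat.restrictScalars (algebraMap A A')).obj (ModuleCat.of A' A')) ≃ₗ[A] A' :=
    { AddEquiv.refl A' with
      map_smul' := fun a x => by
        show algebraMap A A' a * (show A' from x) = a • (show A' from x)
        rw [Algebra.smul_def] }
  let ε : (ModuleCat.restrictScalars (algebraMap A A')).obj (ModuleCat.of A' A') ≅
      ModuleCat.of A A' := LinearEquiv.toModuleIso el
  exact Limits.IsZero.of_iso h2
    ((HomologicalComplex.homologyFunctor _ _ (-(i : ℤ))).mapIso ((KF fs).mapIso ε)).symm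

end Groth.Agent.Lib.R2Lead.KzTor
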