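import Mathlib
import Groth.Agent.Lib.R2H3KzGen
import Groth.Agent.Lib.H9KoszulComp
import Groth.Agent.Lib.R2LeadKzTor1
import Groth.Agent.S11917
import Groth.Agent.Lib.R2LeadKzSplit
import Groth.Agent.Lib.R2LeadKzExtPow

/-!
# `Tor_i(A/(f,g), A/(f,h)) ≅ ⋀^i Tor_1` for Koszul-regular `f ++ g`, `f ++ h`, `f ++ g ++ h` (lead)
-/

set_option autoImplicit false
open CategoryTheory CategoryTheory.Limits CochainComplex HomComplex CohIII
open Groth.Agent.Lib.Helper21 Groth.Agent.Helper13Kz Groth.Agent.Helper13KzLift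
open Groth.Agent.Lib.H9KoszulComp

namespace Groth.Agent.Lib.R2LeadKzExtMain

universe u

variable {A : Type u} [CommRing A]

/-- `g` is Koszul-regular on `A/(f,h)`. -/
theorem isZero_KH_quot (f g h : List A) (hfh : LCI.IsKoszulRegularSeq A (f ++ h))
    (hfgh : LCI.IsKoszulRegularSeq A (f ++ g ++ h)) (k : ℤ) (hk : k ≠ 0) :
    IsZero ((koszulCx (ModuleCat.of A (A ⧸ Ideal.span {x | x ∈ f ++ h})) g).homology k) := by
  have h1 : ∀ i : ℤ, i ≠ 0 → IsZero ((koszulCx (ModuleCat.of A A) (h ++ f)).homology i) := by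
    intro i hi
    apply Groth.Agent.Lib.R2H3.KzGen.isZero_swap f h i
    exact (isZero_congr (koszul_eq A (f ++ h)) i).mp (hfh i hi)
  have h2 : ∀ i : ℤ, i ≠ 0 →
      IsZero ((koszulCx (ModuleCat.of A A) (g ++ (h ++ f))).homology i) := by
    intro i hi
    apply Groth.Agent.Lib.R2H3.KzGen.isZero_swap (h ++ f) g i
    rw [List.append_assoc]
    apply Groth.Agent.Lib.R2H3.KzGen.isZero_swap (f ++ g) h i
    exact (isZero_congr (koszul_eq A (f ++ g ++ h)) i).mp (hfgh i hi)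
  obtain ⟨e0⟩ := Groth.Agent.S11917.main A (h ++ f)
  have h' : Ideal.ofList (h ++ f) • (⊤ : Submodule A A) = Ideal.span {x | x ∈ f ++ h} := by
    have : {x | x ∈ h ++ f} = {x | x ∈ f ++ h} := by
      ext x
      simp [or_comm]
    rw [Ideal.ofList, this]
    simp
  let N : ModuleCat.{u} A := ModuleCat.of A (A ⧸ Ideal.span {x | x ∈ f ++ h})
  have e : (koszulCx (ModuleCat.of A A) (h ++ f)).homology 0 ≅ N :=
    (e0.trans (Submodule.quotEquivOfEq _ _ h')).toModuleIso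
  obtain ⟨ε, hε⟩ := exists_quasiIso_single (koszulCx (ModuleCat.of A A) (h ++ f))
    (isZero_koszulCx_X_pos _ (h ++ f) 1 one_pos) h1 N e
  obtain ⟨ψ, hψ⟩ := exists_quasiIso_append (ModuleCat.of A A) N (h ++ f) ε hε g
  haveI := (quasiIsoAt_iff_isIso_homologyMap ψ k).mp (hψ.quasiIsoAt k)
  exact (h2 k hk).of_iso (asIso (HomologicalComplex.homologyMap ψ k)).symm

/-- `H^0(K(g; A/J))` is a cyclic module. -/
theorem exists_cyclic (J : Ideal A) (g : List A) :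
    ∃ 𝔞 : Ideal A, Nonempty (KH g (A ⧸ J) 0 ≃ₗ[A] A ⧸ 𝔞) := by
  obtain ⟨e0⟩ := Groth.Agent.S11917.main (A ⧸ J) g
  let π : A →ₗ[A] KH g (A ⧸ J) 0 :=
    e0.symm.toLinearMap ∘ₗ (Submodule.mkQ _) ∘ₗ (Submodule.mkQ J)
  have hπ : Function.Surjective π := by
    refine e0.symm.surjective.comp ((Submodule.mkQ_surjective _).comp ?_)
    exact Submodule.mkQ_surjective J
  exact ⟨LinearMap.ker π, ⟨(π.quotKerEquivOfSurjective hπ).symm⟩⟩

theorem main (f g h : List A)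
    (hfg : LCI.IsKoszulRegularSeq A (f ++ g)) (hfh : LCI.IsKoszulRegularSeq A (f ++ h))
    (hfgh : LCI.IsKoszulRegularSeq A (f ++ g ++ h)) (i : ℕ) (hi : 1 ≤ i) :
    Nonempty (((CategoryTheory.Tor (ModuleCat.{u} A) i).obj
        (ModuleCat.of A (A ⧸ Ideal.span {x | x ∈ f ++ g}))).obj
        (ModuleCat.of A (A ⧸ Ideal.span {x | x ∈ f ++ h})) ≅
      ModuleCat.of A (⋀[A]^i (((CategoryTheory.Tor (ModuleCat.{u} A) 1).obj
        (ModuleCat.of A (A ⧸ Ideal.span {x | x ∈ f ++ g}))).obj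
        (ModuleCat.of A (A ⧸ Ideal.span {x | x ∈ f ++ h}))))) := by
  set M := A ⧸ Ideal.span {x | x ∈ f ++ h} with hM
  -- vanishing
  have hvan : ∀ k : ℤ, k ≠ 0 → Subsingleton (KH g M k) := fun k hk =>
    ModuleCat.subsingleton_of_isZero (isZero_KH_quot f g h hfh hfgh k hk)
  have hkill : ∀ x ∈ f, ∀ m : M, x • m = 0 := by
    intro x hx m
    obtain ⟨a, rfl⟩ := Ideal.Quotient.mk_surjective m
    rw [← Ideal.Quotient.mk_eq_mk, ← Submodule.Quotient.mk_smul]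
    exact (Submodule.Quotient.mk_eq_zero _).mpr
      (Ideal.mul_mem_right _ _ (Ideal.subset_span (List.mem_append_left _ hx)))
  obtain ⟨𝔞, ⟨ec⟩⟩ := exists_cyclic (Ideal.span {x | x ∈ f ++ h}) g
  set r := f.length with hr
  -- Tor_n as a power of `A ⧸ 𝔞`
  have key : ∀ n : ℕ, Nonempty (((CategoryTheory.Tor (ModuleCat.{u} A) n).obj
        (ModuleCat.of A (A ⧸ Ideal.span {x | x ∈ f ++ g}))).obj (ModuleCat.of A M) ≃ₗ[A]
        (Fin (r.choose n) → A ⧸ 𝔞)) := by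
    intro n
    obtain ⟨e1⟩ := Groth.Agent.Lib.R2Lead.KzTor.nonempty_tor_iso_KH' (f ++ g) hfg
      (ModuleCat.of A M) n
    obtain ⟨e2⟩ := Groth.Agent.Lib.R2LeadKzSplit.KH_append_split M g hvan f hkill (-(n : ℤ))
    rw [neg_neg, Groth.Agent.Lib.R2LeadKzSplit.cz_natCast] at e2
    exact ⟨e1.toLinearEquiv.trans (e2.trans (LinearEquiv.piCongrRight fun _ => ec))⟩
  obtain ⟨ei⟩ := key i
  obtain ⟨e1⟩ := key 1
  rw [Nat.choose_one_right] at e1
  obtain ⟨e3⟩ := Groth.Agent.Lib.R2LeadKzExtPow.nonempty_extPow_equiv 𝔞 r hi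
  exact ⟨(ei.trans (e3.symm.trans
    (Groth.Agent.Lib.R2LeadKzExtPow.mapEquiv e1 i).symm)).toModuleIso⟩

end Groth.Agent.Lib.R2LeadKzExtMain
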