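import Mathlib
import Groth.Agent.Lib.R2LeadKzTor1
import Groth.Agent.Lib.H6xQRegBC
import Groth.Agent.Lib.Helper13Devissage
import Groth.Agent.Lib.H9KoszulH1
import Groth.Agent.S2103

/-! # Tor of powers of a Koszul-regular ideal -/

set_option autoImplicit false

namespace Groth.Agent.Lib.R2Lead.KzTor
open CategoryTheory
open Groth.Agent.Helper13Tor Groth.Agent.Lib.H6xQRegBC

universe u
variable {A : Type u} [CommRing A] (Y : ModuleCat.{u} A)

/-- `Tor_i(M^ι, Y) = 0` for finite `ι` when `Tor_i(M, Y) = 0`. -/
theorem isZero_tor_pi (M : Type u) [AddCommGroup M] [Module A M] (i : ℕ) (hi : 0 < i)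
    (hM : Limits.IsZero (((Tor (ModuleCat.{u} A) i).obj (ModuleCat.of A M)).obj Y))
    (ι : Type) [Finite ι] :
    Limits.IsZero (((Tor (ModuleCat.{u} A) i).obj (ModuleCat.of A (ι → M))).obj Y) := by
  classical
  induction ι using Finite.induction_empty_option with
  | of_equiv e h =>
    refine Limits.IsZero.of_iso h ?_
    exact ((Tor (ModuleCat.{u} A) i).mapIso
      (LinearEquiv.toModuleIso (LinearEquiv.funCongrLeft A M e))).app Y
  | h_empty =>
    haveI : Subsingleton (PEmpty → M) := inferInstance
    haveI : Module.Flat A (ModuleCat.of A (PEmpty → M)) := by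
      show Module.Flat A (PEmpty → M)
      infer_instance
    exact isZero_tor_of_flat Y _ i hi
  | h_option h =>
    rename_i α _
    let f : M →ₗ[A] (Option α → M) := LinearMap.single A (fun _ : Option α => M) none
    let g : (Option α → M) →ₗ[A] (α → M) := LinearMap.funLeft A M some
    have hf : Function.Injective f := Pi.single_injective (M := fun _ : Option α => M) none
    have hg : Function.Surjective g := by
      intro v
      refine ⟨fun o => o.elim 0 v, ?_⟩
      funext a
      rfl
    have hfg : Function.Exact f g := by
      intro v
      constructor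
      · intro hv
        refine ⟨v none, ?_⟩
        funext o
        cases o with
        | none => simp [f]
        | some a =>
          have := congrFun hv a
          simp only [f, LinearMap.coe_single, ne_eq, reduceCtorEq, not_false_eq_true,
            Pi.single_eq_of_ne]
          exact this.symm
      · rintro ⟨m, rfl⟩
        funext a
        simp [f, g, LinearMap.funLeft]
    have hS := Groth.Agent.Helper13Devissage.shortExact_mk f g hf hg hfg
    exact isZero_tor_X₂ _ hS Y i hM h

end Groth.Agent.Lib.R2Lead.KzTor
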