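import Mathlib
import Groth.Agent.Lib.R2LeadKzTor2

/-! # Tor of powers of a Koszul-regular ideal: main -/

set_option autoImplicit false

namespace Groth.Agent.Lib.R2Lead.KzTor
open CategoryTheory
open Groth.Agent.Helper13Tor Groth.Agent.Lib.H6xQRegBC

universe u
variable {A : Type u} [CommRing A] (Y : ModuleCat.{u} A)

/-- `Tor_i(A/J^n, Y) = 0` for a quasi-regular `f` with `Tor_i(A/J, Y) = 0`. -/
theorem isZero_tor_quot_pow {r : ℕ} (f : Fin r → A) (hq : QR f) (i : ℕ) (hi : 0 < i)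
    (h1 : Limits.IsZero (((Tor (ModuleCat.{u} A) i).obj
      (ModuleCat.of A (A ⧸ Ideal.span (Set.range f)))).obj Y)) (n : ℕ) :
    Limits.IsZero (((Tor (ModuleCat.{u} A) i).obj
      (ModuleCat.of A (A ⧸ Ideal.span (Set.range f) ^ n))).obj Y) := by
  induction n with
  | zero =>
    haveI : Subsingleton (A ⧸ Ideal.span (Set.range f) ^ 0) := by
      rw [pow_zero, Ideal.one_eq_top]
      exact Ideal.Quotient.subsingleton_iff.2 rfl
    haveI : Module.Flat A (ModuleCat.of A (A ⧸ Ideal.span (Set.range f) ^ 0)) := by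
      show Module.Flat A (A ⧸ Ideal.span (Set.range f) ^ 0)
      infer_instance
    exact isZero_tor_of_flat Y _ i hi
  | succ n ih =>
    have hS := Groth.Agent.Helper13Devissage.shortExact_mk (psi f n) (prj f n)
      (psi_injective f hq n) (prj_surjective f n) (exact_psi_prj f n)
    exact isZero_tor_X₂ _ hS Y i (isZero_tor_pi Y _ i hi h1 _) ih

/-- `Tor_i(J^n, Y) = 0` -/
theorem isZero_tor_pow (J : Ideal A) (i : ℕ) (hi : 0 < i) (n : ℕ)
    (h : Limits.IsZero (((Tor (ModuleCat.{u} A) (i + 1)).obj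
      (ModuleCat.of A (A ⧸ J ^ n))).obj Y)) :
    Limits.IsZero (((Tor (ModuleCat.{u} A) i).obj (ModuleCat.of A ↥(J ^ n))).obj Y) := by
  have hS := Groth.Agent.Helper13Devissage.shortExact_mk (J ^ n).subtype (Submodule.mkQ (J ^ n))
    (Submodule.injective_subtype _) (Submodule.mkQ_surjective _)
    (LinearMap.exact_subtype_mkQ _)
  haveI : Module.Flat A (ModuleCat.of A A) := by
    show Module.Flat A A
    infer_instance
  exact isZero_tor_X₁ _ hS Y i h (isZero_tor_of_flat Y _ i hi)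

/-- `Tor_i(J^n/J^{n+1}, Y) = 0` -/
theorem isZero_tor_gr (J : Ideal A) (i : ℕ) (n : ℕ)
    (h : Limits.IsZero (((Tor (ModuleCat.{u} A) (i + 1)).obj
      (ModuleCat.of A (A ⧸ J ^ n))).obj Y))
    (h' : Limits.IsZero (((Tor (ModuleCat.{u} A) i).obj
      (ModuleCat.of A (A ⧸ J ^ (n + 1)))).obj Y)) :
    Limits.IsZero (((Tor (ModuleCat.{u} A) i).obj
      (ModuleCat.of A (↥(J ^ n) ⧸ Submodule.comap (J ^ n).subtype (J ^ (n + 1))))).obj Y) := by
  let ι' : (↥(J ^ n) ⧸ Submodule.comap (J ^ n).subtype (J ^ (n + 1))) →ₗ[A] (A ⧸ J ^ (n + 1)) :=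
    Submodule.mapQ _ _ (J ^ n).subtype le_rfl
  let π' : (A ⧸ J ^ (n + 1)) →ₗ[A] (A ⧸ J ^ n) :=
    Submodule.mapQ _ _ LinearMap.id (by
      intro x hx
      exact Ideal.pow_le_pow_right (Nat.le_succ n) hx)
  have hι : Function.Injective ι' := by
    rw [← LinearMap.ker_eq_bot, LinearMap.ker_eq_bot']
    intro y hy
    obtain ⟨x, rfl⟩ := Submodule.Quotient.mk_surjective _ y
    rw [Submodule.mapQ_apply, Submodule.Quotient.mk_eq_zero] at hy
    rw [Submodule.Quotient.mk_eq_zero]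
    exact hy
  have hπ : Function.Surjective π' := by
    intro y
    obtain ⟨b, rfl⟩ := Submodule.Quotient.mk_surjective _ y
    exact ⟨Submodule.Quotient.mk b, rfl⟩
  have hex : Function.Exact ι' π' := by
    intro y
    constructor
    · intro hy
      obtain ⟨b, rfl⟩ := Submodule.Quotient.mk_surjective _ y
      rw [Submodule.mapQ_apply, Submodule.Quotient.mk_eq_zero] at hy
      exact ⟨Submodule.Quotient.mk ⟨b, hy⟩, rfl⟩
    · rintro ⟨x, rfl⟩
      obtain ⟨x, rfl⟩ := Submodule.Quotient.mk_surjective _ x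
      rw [Submodule.mapQ_apply, Submodule.mapQ_apply, Submodule.Quotient.mk_eq_zero]
      exact x.2
  have hS := Groth.Agent.Helper13Devissage.shortExact_mk ι' π' hι hπ hex
  exact isZero_tor_X₁ _ hS Y i h h'

theorem range_get (fs : List A) : Set.range fs.get = {x | x ∈ fs} := by
  ext x
  simp [List.mem_iff_get]

/-- main statement -/
theorem main (A' : Type u) [CommRing A'] [Algebra A A'] (fs : List A)
    (hfs : LCI.IsKoszulRegularSeq A fs)
    (hfs' : LCI.IsKoszulRegularSeq A' (fs.map (algebraMap A A')))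
    (J : Ideal A) (hJ : J = Ideal.span {x | x ∈ fs}) (n i : ℕ) (hi : 1 ≤ i) :
    Limits.IsZero (((Tor (ModuleCat.{u} A) i).obj (ModuleCat.of A ↥(J ^ n))).obj
      (ModuleCat.of A A')) ∧
    Limits.IsZero (((Tor (ModuleCat.{u} A) i).obj
      (ModuleCat.of A (↥(J ^ n) ⧸ Submodule.comap (J ^ n).subtype (J ^ (n + 1))))).obj
      (ModuleCat.of A A')) := by
  have hJ' : J = Ideal.span (Set.range fs.get) := by rw [hJ, range_get]
  subst hJ'
  have hq : QR fs.get := qr_of_isQuasiRegular _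
    (Groth.Agent.S2103.result _ (Groth.Agent.Lib.H9KoszulH1.isH1Regular_of_isKoszulRegularSeq fs hfs))
  have h1 : ∀ j : ℕ, 1 ≤ j → Limits.IsZero (((Tor (ModuleCat.{u} A) j).obj
      (ModuleCat.of A (A ⧸ Ideal.span (Set.range fs.get)))).obj (ModuleCat.of A A')) := by
    intro j hj
    have := isZero_tor_quot A' fs hfs hfs' j hj
    have e : Ideal.ofList fs = Ideal.span (Set.range fs.get) := by
      rw [range_get]
    rwa [e] at this
  have hpow : ∀ (j : ℕ), 1 ≤ j → ∀ m : ℕ, Limits.IsZero (((Tor (ModuleCat.{u} A) j).obj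
      (ModuleCat.of A (A ⧸ Ideal.span (Set.range fs.get) ^ m))).obj (ModuleCat.of A A')) :=
    fun j hj m => isZero_tor_quot_pow _ fs.get hq j hj (h1 j hj) m
  exact ⟨isZero_tor_pow _ _ i hi n (hpow (i + 1) (by omega) n),
    isZero_tor_gr _ _ i n (hpow (i + 1) (by omega) n) (hpow i hi (n + 1))⟩

end Groth.Agent.Lib.R2Lead.KzTor
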