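import Groth.Agent.Lib.Helper1LBC

set_option autoImplicit false
set_option linter.style.haveILetI false
universe u
open CategoryTheory TensorProduct

namespace Groth.Agent.Lib.R2LeadLPicA

/-- a module over a local ring which becomes free of rank one after a faithfully flat base change
is free of rank one. -/
theorem nonempty_linearEquiv_self_of_baseChange {A B : Type u} [CommRing A] [CommRing B]
    [IsLocalRing A] [Algebra A B] [Module.FaithfullyFlat A B] (M : Type u) [AddCommGroup M]
    [Module A M] (e : (B ⊗[A] M) ≃ₗ[B] B) : Nonempty (M ≃ₗ[A] A) := by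
  haveI : Nontrivial B := by
    by_contra h
    rw [not_nontrivial_iff_subsingleton] at h
    exact (Module.FaithfullyFlat.subsingleton_tensorProduct_iff_right A B (N := A)).1
      inferInstance |> fun h' => not_subsingleton A h'
  haveI : Module.Finite B (B ⊗[A] M) := Module.Finite.equiv e.symm
  haveI : Module.Finite A M := Module.Finite.of_finite_tensorProduct_of_faithfullyFlat B
  haveI : Module.Flat B (B ⊗[A] M) := Module.Flat.of_linearEquiv e
  haveI : Module.Flat A M := Module.Flat.of_flat_tensorProduct A M B
  haveI : Module.Free A M := Module.free_of_flat_of_isLocalRing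
  have hrank : Module.finrank A M = 1 := by
    rw [← Module.finrank_baseChange (R := B) (S := A) (M' := M), LinearEquiv.finrank_eq e,
      Module.finrank_self]
  obtain ⟨e2⟩ := Module.nonempty_linearEquiv_of_finrank_eq_one hrank
  exact ⟨e2.symm⟩

theorem nonempty_iso_self_of_extendScalars {A B : Type u} [CommRing A] [CommRing B]
    [IsLocalRing A] (φ : A →+* B) (hφ : φ.FaithfullyFlat) (M : ModuleCat.{u} A)
    (e : (ModuleCat.extendScalars.{u, u, u} φ).obj M ≅ ModuleCat.of B B) :
    Nonempty (M ≅ ModuleCat.of A A) := by
  letI := φ.toAlgebra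
  haveI : Module.FaithfullyFlat A B := hφ
  let e1 : (B ⊗[A] M) ≃ₗ[B] B :=
    (Groth.Agent.Lib.Helper1.LDer.bcEquiv φ M).symm ≪≫ₗ e.toLinearEquiv
  obtain ⟨e2⟩ := nonempty_linearEquiv_self_of_baseChange (A := A) (B := B) M e1
  exact ⟨e2.toModuleIso⟩

end Groth.Agent.Lib.R2LeadLPicA
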