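import Groth.Agent.Lib.R2LeadLPicA
import Groth.Agent.Lib.R2LeadBCSysB
import Groth.Agent.Lib.Helper20OmegaAff
import Groth.Agent.S0291
import Groth.Agent.S2639
import Groth.Agent.Lib.Helper28Normal
import Groth.Agent.Lib.Helper28ComplAss
import Groth.Agent.Lib.Helper19Jacobson
import Groth.Agent.Lib.Helper19ComplNoeth
import Groth.Agent.Lib.Helper23SecTw3
import Groth.Prelude.Def_Formal2

set_option autoImplicit false
set_option linter.style.haveILetI false
universe u
open CategoryTheory CategoryTheory.Limits AlgebraicGeometry Opposite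

namespace Groth.Agent.Lib.R2LeadLPicB

open Groth.Agent.Lib.R2LeadBCSysA Groth.Agent.Lib.R2LeadBCSysB Groth.Agent.Lib.R2LeadAlgzA

section affine
variable {R : Type u} [CommRing R]

/-- a map of quasi-coherent modules on an affine scheme inducing an isomorphism on global sections is
an isomorphism. -/
theorem isIso_of_isIso_Γ {P Q : (Spec (CommRingCat.of R)).Modules} [P.IsQuasicoherent]
    [Q.IsQuasicoherent] (f : P ⟶ Q)
    (h : IsIso ((moduleSpecΓFunctor (R := CommRingCat.of R)).map f)) : IsIso f := by
  haveI hP : IsIso ((Scheme.Modules.fromTildeΓNatTrans (R := CommRingCat.of R)).app P) :=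
    isIso_fromTildeΓNatTrans_app P
  haveI hQ : IsIso ((Scheme.Modules.fromTildeΓNatTrans (R := CommRingCat.of R)).app Q) :=
    isIso_fromTildeΓNatTrans_app Q
  have hnat := (Scheme.Modules.fromTildeΓNatTrans (R := CommRingCat.of R)).naturality f
  have hf : f = inv ((Scheme.Modules.fromTildeΓNatTrans (R := CommRingCat.of R)).app P) ≫
      (tilde.functor (CommRingCat.of R)).map
        ((moduleSpecΓFunctor (R := CommRingCat.of R)).map f) ≫
      (Scheme.Modules.fromTildeΓNatTrans (R := CommRingCat.of R)).app Q := by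
    rw [IsIso.eq_inv_comp]
    exact hnat.symm
  rw [hf]
  infer_instance

lemma bijective_map_of_eq {X : Scheme.{u}} {V V' W : X.Opens} (h : V = V') (hV : V ≤ W)
    (hV' : V' ≤ W) (hb : Function.Bijective (X.presheaf.map (homOfLE hV).op)) :
    Function.Bijective (X.presheaf.map (homOfLE hV').op) := by
  subst h; exact hb

end affine

section unit
variable {R : Type u} [CommRing R] [IsNoetherianRing R]

/-- if restriction of functions to an open `V` of a Noetherian affine scheme is bijective then
`O ⟶ j_* j^* O` is an isomorphism. -/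
theorem isIso_unit_of_bijective (V : (Spec (CommRingCat.of R)).Opens)
    (hb : Function.Bijective ((Spec (CommRingCat.of R)).presheaf.map
      (homOfLE (le_top : V ≤ ⊤)).op)) :
    IsIso ((Scheme.Modules.restrictAdjunction V.ι).unit.app
      (Coh.structureModule (Spec (CommRingCat.of R)))) := by
  haveI : (Coh.structureModule (Spec (CommRingCat.of R))).IsQuasicoherent :=
    Groth.Agent.Lib.Helper20.OmegaAff.isQuasicoherent_structureModule
  haveI : ((Scheme.Modules.restrictFunctor V.ι).obj
      (Coh.structureModule (Spec (CommRingCat.of R)))).IsQuasicoherent :=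
    Scheme.Modules.isQuasicoherent_restrictFunctor V.ι _
  haveI : ((Scheme.Modules.pushforward V.ι).obj ((Scheme.Modules.restrictFunctor V.ι).obj
      (Coh.structureModule (Spec (CommRingCat.of R))))).IsQuasicoherent :=
    Groth.Agent.Lib.Helper23.QCohLocal.isQuasicoherent_pushforward V.ι _
  refine isIso_of_isIso_Γ (P := Coh.structureModule (Spec (CommRingCat.of R)))
    (Q := (Scheme.Modules.pushforward V.ι).obj ((Scheme.Modules.restrictFunctor V.ι).obj
      (Coh.structureModule (Spec (CommRingCat.of R))))) _ ?_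
  rw [ConcreteCategory.isIso_iff_bijective]
  have hV : V.ι ''ᵁ (V.ι ⁻¹ᵁ ⊤) = V := by
    rw [Scheme.Hom.image_preimage_eq_opensRange_inf, Scheme.Opens.opensRange_ι, inf_top_eq]
  exact bijective_map_of_eq hV.symm le_top (V.ι.image_preimage_le ⊤) hb

end unit

section completion
variable (A : Type u) [CommRing A] [IsNoetherianRing A] [IsLocalRing A]

local notation "Â" => AdicCompletion (IsLocalRing.maximalIdeal A) A

instance : IsNoetherianRing Â :=
  Groth.Agent.Lib.Helper19.isNoetherianRing_adicCompletion _

theorem preimage_punctured :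
    (gmap A Â) ⁻¹ᵁ FEt.puncturedSpec A = FEt.puncturedSpec Â := by
  haveI hloc : IsLocalHom (algebraMap A Â) :=
    Groth.Agent.Lib.Helper28.isLocalHom_algebraMap_adicCompletion A
  ext x
  have hx : x ∈ (gmap A Â) ⁻¹ᵁ FEt.puncturedSpec A ↔
      PrimeSpectrum.comap (algebraMap A Â) x ≠ IsLocalRing.closedPoint A := Iff.rfl
  have hx' : x ∈ FEt.puncturedSpec Â ↔ (x : PrimeSpectrum Â) ≠ IsLocalRing.closedPoint Â :=
    Iff.rfl
  refine (hx.trans ?_).trans hx'.symm
  rw [not_iff_not]
  constructor
  · intro h
    have h1 : (IsLocalRing.maximalIdeal A).map (algebraMap A Â) ≤ x.asIdeal := by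
      rw [Ideal.map_le_iff_le_comap]
      have := congrArg PrimeSpectrum.asIdeal h
      exact le_of_eq this.symm
    rw [← AdicCompletion.maximalIdeal_eq_map] at h1
    apply PrimeSpectrum.ext
    exact ((IsLocalRing.maximalIdeal.isMaximal Â).eq_of_le x.2.ne_top h1).symm
  · rintro rfl
    exact IsLocalRing.comap_closedPoint (algebraMap A Â)

theorem bijective_restrict_punctured (hdepth : (2 : ℕ∞) ≤ LocCoh.depth A A) :
    Function.Bijective ((Spec (CommRingCat.of Â)).presheaf.map
      (homOfLE (le_top : FEt.puncturedSpec Â ≤ ⊤)).op) := by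
  have h : ∀ (m : Ideal Â) (_ : m.IsMaximal),
      (2 : ℕ∞) ≤ LocCoh.depth (Localization.AtPrime m) (Localization.AtPrime m) := by
    intro m hm
    have hu : ∀ x : m.primeCompl, IsUnit (x : Â) := by
      intro x
      refine IsLocalRing.notMem_maximalIdeal.1 ?_
      rw [← IsLocalRing.eq_maximalIdeal hm]
      exact x.2
    let e : Â ≃+* Localization.AtPrime m :=
      (IsLocalization.atUnits Â m.primeCompl
        (fun x hx => (IsUnit.mem_submonoid_iff x).2 (hu ⟨x, hx⟩))).toRingEquiv
    rw [← Groth.Agent.Lib.Helper28.depth_self_eq_of_ringEquiv e,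
      Groth.Agent.S2639.depth_adicCompletion_maximalIdeal A]
    exact hdepth
  have hiso := Groth.Agent.S0291.result Â Â h
  have hb := (ConcreteCategory.isIso_iff_bijective _).1 hiso
  have heq : Spec.map (CommRingCat.ofHom (algebraMap Â Â)) ⁻¹ᵁ FEt.puncturedSpec Â =
      FEt.puncturedSpec Â := by
    have : CommRingCat.ofHom (algebraMap Â Â) = 𝟙 (CommRingCat.of Â) := rfl
    rw [this, Spec.map_id]
    rfl
  exact bijective_map_of_eq heq le_top le_top hb

end completion

end Groth.Agent.Lib.R2LeadLPicB
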