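import Groth.Agent.Lib.R2LeadLPicB
import Groth.Agent.Lib.Helper13QcqsBC

set_option autoImplicit false
set_option linter.style.haveILetI false
universe u
open CategoryTheory CategoryTheory.Limits AlgebraicGeometry Opposite

namespace Groth.Agent.Lib.R2LeadLPicC

open Groth.Agent.Lib.R2LeadBCSysA Groth.Agent.Lib.R2LeadBCSysB Groth.Agent.Lib.R2LeadAlgzA
open Groth.Agent.Lib.R2LeadLPicA Groth.Agent.Lib.R2LeadLPicB

variable (A : Type u) [CommRing A] [IsNoetherianRing A] [IsLocalRing A]

local notation "Â" => AdicCompletion (IsLocalRing.maximalIdeal A) A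

theorem main (hdepth : (2 : ℕ∞) ≤ LocCoh.depth A A) :
    Formal2.PicPullbackInjective
      (Spec.map (CommRingCat.ofHom (algebraMap A (AdicCompletion (IsLocalRing.maximalIdeal A) A))) ∣_
        FEt.puncturedSpec A) := by
  intro L hL ⟨τ⟩
  let g := gmap A Â
  let U : (Spec (CommRingCat.of A)).Opens := FEt.puncturedSpec A
  let U' : (Spec (CommRingCat.of Â)).Opens := g ⁻¹ᵁ U
  haveI hLq : L.IsQuasicoherent :=
    Groth.Agent.Lib.Helper23.SecTw.isQuasicoherent_of_isInvertible L hL
  haveI : Flat g := flat_gmap A Â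
  have hpb := isPullback_morphismRestrict g U
  haveI : IsIso (Groth.Agent.Helper13AffBC.bcMap U.ι g (g ∣_ U) U'.ι hpb L) :=
    Groth.Agent.Helper13QcqsBC.isIso_bcMap_of_flat _ _ _ _ _ _
  let e1 := asIso (Groth.Agent.Helper13AffBC.bcMap U.ι g (g ∣_ U) U'.ι hpb L)
  let e2 := (Scheme.Modules.pushforward U'.ι).mapIso τ
  let e3 := (Scheme.Modules.pushforward U'.ι).mapIso (Scheme.Modules.restrictUnitIso U'.ι).symm
  have hb' : Function.Bijective ((Spec (CommRingCat.of Â)).presheaf.map
      (homOfLE (le_top : U' ≤ ⊤)).op) :=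
    bijective_map_of_eq (preimage_punctured A).symm le_top le_top
      (bijective_restrict_punctured A hdepth)
  haveI := isIso_unit_of_bijective U' hb'
  let e4 := asIso ((Scheme.Modules.restrictAdjunction U'.ι).unit.app
      (Coh.structureModule (Spec (CommRingCat.of Â))))
  let E := e1 ≪≫ e2 ≪≫ e3 ≪≫ e4.symm
  haveI : ((Scheme.Modules.pushforward U.ι).obj L).IsQuasicoherent :=
    Groth.Agent.Lib.Helper23.QCohLocal.isQuasicoherent_pushforward U.ι L
  let M : ModuleCat.{u} (CommRingCat.of A) :=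
    (moduleSpecΓFunctor (R := CommRingCat.of A)).obj ((Scheme.Modules.pushforward U.ι).obj L)
  let eM := Groth.Agent.Lib.Helper20.OmegaAff.isoTildeOfΓIso
    ((Scheme.Modules.pushforward U.ι).obj L) M (Iso.refl _)
  let ψ : CommRingCat.of A ⟶ CommRingCat.of Â := CommRingCat.ofHom (algebraMap A Â)
  let e5 := (Groth.Agent.Lib.Helper20.OmegaAff.pullbackTildeObjIso ψ M).symm ≪≫
    (Scheme.Modules.pullback g).mapIso eM.symm ≪≫ E ≪≫ (tildeSelf (R := CommRingCat.of Â)).symm
  let e6 := (tilde.fullyFaithfulFunctor (R := CommRingCat.of Â)).preimageIso e5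
  have hff : ψ.hom.FaithfullyFlat :=
    RingHom.faithfullyFlat_algebraMap_iff.2
      (Groth.Agent.Lib.Helper19.faithfullyFlat_adicCompletion_of_le_jacobson A
        (IsLocalRing.maximalIdeal A) (IsLocalRing.maximalIdeal_le_jacobson ⊥))
  obtain ⟨e7⟩ := nonempty_iso_self_of_extendScalars ψ.hom hff M e6
  exact ⟨(asIso ((Scheme.Modules.restrictAdjunction U.ι).counit.app L)).symm ≪≫
    (Scheme.Modules.restrictFunctor U.ι).mapIso
      (eM ≪≫ (tilde.functor (CommRingCat.of A)).mapIso e7 ≪≫ tildeSelf) ≪≫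
    Scheme.Modules.restrictUnitIso U.ι⟩

end Groth.Agent.Lib.R2LeadLPicC
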