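import Mathlib
import Groth.Agent.Lib.R2LeadLciH1

/-!
# Generic vanishing over a flat algebra with Gorenstein fibres; local splitting (lead)
-/

set_option autoImplicit false
set_option linter.style.haveILetI false
set_option linter.unusedVariables false
set_option linter.unusedSectionVars false
universe u

namespace Groth.Agent.Lib.R2LeadLciT1a

open IsLocalRing TensorProduct Algebra
open Groth.Agent.Lib.Helper5.GorFlat Groth.Agent.Lib.Helper5.GorRing
open Groth.Agent.Lib.R2LeadLciH1

section Generic

variable {A P : Type u} [CommRing A] [CommRing P] [IsNoetherianRing A] [IsNoetherianRing P]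
  [Algebra A P] [Module.Flat A P]

theorem fib_dim_zero' (hG : ∀ (Q : Ideal P) [Q.IsPrime],
      LocCoh.IsGorensteinLocalRing (EGA4.FibLocRing A P Q)) (Q : Ideal P) [Q.IsPrime]
    (hass : maximalIdeal (Localization.AtPrime Q) ∈
      associatedPrimes (Localization.AtPrime Q) (Localization.AtPrime Q)) :
    ringKrullDim (EGA4.FibLocRing A P Q) = 0 := by
  obtain ⟨alg, hloc, hflat, hmap⟩ :=
    Groth.Agent.Lib.Helper28.exists_algebra_localization_flat (A := A) (B := P) Q
  letI := alg
  haveI := hloc
  haveI := hflat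
  haveI : IsLocalRing (EGA4.FibLocRing A P Q) :=
    Groth.Agent.Lib.Helper28.isLocalRing_fibLocRing (A := A) Q
  have hG' : LocCoh.IsGorensteinLocalRing (EGA4.FibLocRing A P Q) := hG Q
  haveI : LocCoh.IsCohenMacaulayLocalRing (EGA4.FibLocRing A P Q) := Groth.Agent.S0341.result _
  have hd := depth_formula (A := Localization.AtPrime (Q.comap (algebraMap A P)))
    (B := Localization.AtPrime Q) (F := EGA4.FibLocRing A P Q)
    (Ideal.Quotient.mk _) Ideal.Quotient.mk_surjective (by rw [Ideal.mk_ker]; exact hmap)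
  rw [depth_zero_of_ass _ hass] at hd
  apply dim_zero_of_cm_depth_zero
  have := hd.symm
  rw [add_eq_zero] at this
  exact this.2

/-- an element of a finite flat module over a flat algebra with Gorenstein fibres vanishes as soon
as it is killed near every prime which is minimal in its fibre -/
theorem eq_zero_of_generic (hG : ∀ (Q : Ideal P) [Q.IsPrime],
      LocCoh.IsGorensteinLocalRing (EGA4.FibLocRing A P Q))
    {M : Type*} [AddCommGroup M] [Module P M] [Module.Finite P M] [Module.Flat P M] (y : M)
    (H : ∀ (Q : Ideal P) [Q.IsPrime],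
      (∀ (Q' : Ideal P) [Q'.IsPrime], Q' ≤ Q →
        Q'.comap (algebraMap A P) = Q.comap (algebraMap A P) → Q' = Q) → ∃ a ∉ Q, a • y = 0) :
    y = 0 := by
  apply Groth.Agent.Lib.Helper8AssDense.eq_zero_of_ass (A := P)
  intro Q hQ hass
  have hdim := fib_dim_zero' (A := A) hG Q hass
  apply H Q
  intro Q' hQ' hle hc
  exact eq_of_le_of_comap_eq (A := A) Q Q' hle hc hdim

end Generic

section Split

variable {R : Type*} [CommRing R] {N F Ω : Type*} [AddCommGroup N] [Module R N]
  [AddCommGroup F] [Module R F] [AddCommGroup Ω] [Module R Ω]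

theorem exists_smul_retraction [Module.FinitePresentation R Ω]
    (c : N →ₗ[R] F) (t : F →ₗ[R] Ω) (hc : Function.Injective c) (hex : Function.Exact c t)
    (ht : Function.Surjective t) (𝔓 : Ideal R) [𝔓.IsPrime]
    (hproj : Module.Projective (Localization.AtPrime 𝔓) (LocalizedModule 𝔓.primeCompl Ω)) :
    ∃ a ∉ 𝔓, ∃ ρ : F →ₗ[R] N, ρ ∘ₗ c = a • LinearMap.id := by
  set S := 𝔓.primeCompl with hS
  let tS := LocalizedModule.map S t
  have htS : Function.Surjective tS := LocalizedModule.map_surjective S t ht
  obtain ⟨σS, hσS⟩ := Module.projective_lifting_property tS LinearMap.id htS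
  let g : Ω →ₗ[R] LocalizedModule S F :=
    (σS.restrictScalars R) ∘ₗ (LocalizedModule.mkLinearMap S Ω)
  obtain ⟨σ₀, s, hσ₀⟩ := Module.FinitePresentation.exists_lift_of_isLocalizedModule S
    (LocalizedModule.mkLinearMap S F) g
  have h1 : (LocalizedModule.mkLinearMap S Ω) ∘ₗ (t ∘ₗ σ₀) =
      (LocalizedModule.mkLinearMap S Ω) ∘ₗ (s • (LinearMap.id : Ω →ₗ[R] Ω)) := by
    ext x
    have h2 : LocalizedModule.mkLinearMap S F (σ₀ x) = s • g x := LinearMap.congr_fun hσ₀ x
    have h3 : LocalizedModule.mkLinearMap S Ω (t (σ₀ x)) =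
        tS (LocalizedModule.mkLinearMap S F (σ₀ x)) := by
      simp [tS, LocalizedModule.map_mk]
    simp only [LinearMap.coe_comp, Function.comp_apply, LinearMap.smul_apply, LinearMap.id_coe,
      id_eq]
    rw [h3, h2]
    have h4 : tS (σS (LocalizedModule.mkLinearMap S Ω x)) = LocalizedModule.mkLinearMap S Ω x :=
      LinearMap.congr_fun hσS _
    have h5 : tS (s • g x) = s • tS (g x) := by
      rw [Submonoid.smul_def, Submonoid.smul_def]
      exact (tS.restrictScalars R).map_smul _ _
    rw [h5]
    simp only [g, LinearMap.coe_comp, Function.comp_apply, LinearMap.coe_restrictScalars]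
    rw [h4, Submonoid.smul_def, Submonoid.smul_def, map_smul]
  obtain ⟨s', hs'⟩ := Module.Finite.exists_smul_of_comp_eq_of_isLocalizedModule S
    (LocalizedModule.mkLinearMap S Ω) _ _ h1
  refine ⟨(s' : R) * (s : R), (s' * s).2, ?_⟩
  let σ₁ : Ω →ₗ[R] F := (s' : R) • σ₀
  have hσ₁ : ∀ x, t (σ₁ x) = ((s' : R) * (s : R)) • x := by
    intro x
    have := LinearMap.congr_fun hs' x
    simp only [LinearMap.smul_apply, LinearMap.coe_comp, Function.comp_apply, LinearMap.id_coe,
      id_eq, Submonoid.smul_def] at this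
    simp only [σ₁, LinearMap.smul_apply, map_smul]
    rw [this, mul_smul]
  let e : F →ₗ[R] F := ((s' : R) * (s : R)) • LinearMap.id - σ₁ ∘ₗ t
  have he : ∀ x, e x ∈ LinearMap.range c := by
    intro x
    rw [← LinearMap.exact_iff.mp hex, LinearMap.mem_ker]
    simp only [e, LinearMap.sub_apply, LinearMap.smul_apply, LinearMap.id_coe, id_eq,
      LinearMap.coe_comp, Function.comp_apply, map_sub, map_smul, hσ₁, sub_self]
  let ρ : F →ₗ[R] N := (LinearEquiv.ofInjective c hc).symm.toLinearMap ∘ₗ
    (e.codRestrict (LinearMap.range c) he)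
  refine ⟨ρ, ?_⟩
  ext n
  apply hc
  have h6 : c (ρ (c n)) = e (c n) := by
    have := (LinearEquiv.ofInjective c hc).apply_symm_apply (e.codRestrict (LinearMap.range c) he (c n))
    exact congrArg Subtype.val this
  simp only [LinearMap.coe_comp, Function.comp_apply, LinearMap.smul_apply, LinearMap.id_coe,
    id_eq]
  rw [h6]
  simp only [e, LinearMap.sub_apply, LinearMap.smul_apply, LinearMap.id_coe, id_eq,
    LinearMap.coe_comp, Function.comp_apply, map_smul]
  rw [hex.apply_apply_eq_zero, map_zero, sub_zero]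

end Split

end Groth.Agent.Lib.R2LeadLciT1a
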