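import Mathlib
import Groth.Agent.Lib.R2H7GrLDExt

/-!
# Base change of duals of finite projective modules and of cokernels of restriction maps (lead)
-/

set_option autoImplicit false
set_option linter.style.haveILetI false
set_option linter.unusedVariables false
set_option linter.unusedSectionVars false

namespace Groth.Agent.Lib.R2LeadLciT1b

open TensorProduct

section Theta

variable {R : Type*} [CommRing R] (S : Type*) [CommRing S] [Algebra R S]
variable (M : Type*) [AddCommGroup M] [Module R M]

/-- the base change map for duals -/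
noncomputable def theta : S ⊗[R] (M →ₗ[R] R) →ₗ[S] (S ⊗[R] M →ₗ[S] S) :=
  (LinearMap.liftBaseChangeEquiv S).toLinearMap ∘ₗ
    (IsBaseChange.linearMapRightBaseChangeHom S M (Algebra.linearMap R S))

lemma theta_tmul (s : S) (φ : M →ₗ[R] R) (s' : S) (m : M) :
    theta S M (s ⊗ₜ φ) (s' ⊗ₜ m) = s' * (s * algebraMap R S (φ m)) := by
  simp [theta, IsBaseChange.linearMapRightBaseChangeHom]
  ring

variable {M}

lemma theta_natural {M₁ M₂ : Type*} [AddCommGroup M₁] [Module R M₁] [AddCommGroup M₂]
    [Module R M₂] (g : M₁ →ₗ[R] M₂) (x : S ⊗[R] (M₂ →ₗ[R] R)) :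
    theta S M₁ ((LinearMap.lcomp R R g).baseChange S x) = (theta S M₂ x) ∘ₗ (g.baseChange S) := by
  induction x using TensorProduct.induction_on with
  | zero => simp
  | add x y hx hy => rw [map_add, map_add, hx, hy, map_add, LinearMap.add_comp]
  | tmul s φ =>
    apply TensorProduct.AlgebraTensorModule.ext
    intro s' m
    rw [LinearMap.baseChange_tmul, theta_tmul, LinearMap.comp_apply, LinearMap.baseChange_tmul,
      theta_tmul]
    rfl

variable (M)

theorem theta_bijective_of_free [Module.Free R M] [Module.Finite R M] :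
    Function.Bijective (theta (R := R) S M) := by
  have h1 : Function.Bijective
      (IsBaseChange.linearMapRightBaseChangeHom S M (Algebra.linearMap R S)) :=
    (IsBaseChange.linearMapRightBaseChangeEquiv M (IsBaseChange.linearMap R S)).bijective
  exact (LinearMap.liftBaseChangeEquiv S).bijective.comp h1

theorem theta_bijective [Module.Finite R M] [Module.Projective R M] :
    Function.Bijective (theta (R := R) S M) := by
  obtain ⟨n, r, i, -, -, hri⟩ := Module.Finite.exists_comp_eq_id_of_projective R M
  have hL := theta_bijective_of_free (R := R) S (Fin n → R)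
  have hT1 : ∀ x : S ⊗[R] (M →ₗ[R] R),
      (LinearMap.lcomp R R i).baseChange S ((LinearMap.lcomp R R r).baseChange S x) = x := by
    intro x
    rw [← LinearMap.comp_apply, ← LinearMap.baseChange_comp]
    have : (LinearMap.lcomp R R i) ∘ₗ (LinearMap.lcomp R R r) =
        (LinearMap.id : (M →ₗ[R] R) →ₗ[R] (M →ₗ[R] R)) := by
      ext φ m
      simp only [LinearMap.coe_comp, Function.comp_apply, LinearMap.lcomp_apply,
        LinearMap.id_coe, id_eq]
      have := LinearMap.congr_fun hri m
      simp only [LinearMap.coe_comp, Function.comp_apply, LinearMap.id_coe, id_eq] at this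
      rw [this]
    rw [this, LinearMap.baseChange_id, LinearMap.id_apply]
  have hbc : (r.baseChange S) ∘ₗ (i.baseChange S) = LinearMap.id := by
    rw [← LinearMap.baseChange_comp, hri, LinearMap.baseChange_id]
  constructor
  · rw [injective_iff_map_eq_zero]
    intro x hx
    have h2 : theta S (Fin n → R) ((LinearMap.lcomp R R r).baseChange S x) = 0 := by
      rw [theta_natural, hx, LinearMap.zero_comp]
    have h3 := hL.1 (h2.trans (map_zero _).symm)
    rw [← hT1 x, h3, map_zero]
  · intro y
    obtain ⟨z, hz⟩ := hL.2 (y ∘ₗ (r.baseChange S))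
    refine ⟨(LinearMap.lcomp R R i).baseChange S z, ?_⟩
    rw [theta_natural, hz, LinearMap.comp_assoc, hbc, LinearMap.comp_id]

end Theta

section Coker

variable {R : Type*} [CommRing R] (S : Type*) [CommRing S] [Algebra R S]
variable {N F : Type*} [AddCommGroup N] [Module R N] [AddCommGroup F] [Module R F]
  [Module.Finite R N] [Module.Projective R N] [Module.Finite R F] [Module.Free R F]

open Groth.Agent.Lib.R2H7.GrLDExt in
theorem coker_compare (c : N →ₗ[R] F)
    {E : Type*} [AddCommGroup E] [Module R E] (dl : (N →ₗ[R] R) →ₗ[R] E)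
    (hdl : Function.Surjective dl)
    (hker : ∀ φ, dl φ = 0 ↔ ∃ ψ : F →ₗ[R] R, ψ ∘ₗ c = φ)
    {E' : Type*} [AddCommGroup E'] [Module S E'] (dl' : (S ⊗[R] N →ₗ[S] S) →ₗ[S] E')
    (hdl' : Function.Surjective dl')
    (hker' : ∀ φ, dl' φ = 0 ↔ ∃ ψ : S ⊗[R] F →ₗ[S] S, ψ ∘ₗ (c.baseChange S) = φ) :
    Nonempty (S ⊗[R] E ≃ₗ[S] E') := by
  have hex : Function.Exact (LinearMap.lcomp R R c) dl := by
    intro φ
    rw [hker φ]
    constructor
    · rintro ⟨ψ, rfl⟩
      exact ⟨ψ, rfl⟩
    · rintro ⟨ψ, rfl⟩
      exact ⟨ψ, rfl⟩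
  have hex' : Function.Exact ((LinearMap.lcomp R R c).baseChange S) (dl.baseChange S) := by
    have := lTensor_exact S hex hdl
    intro x
    exact this x
  have hα : Function.Surjective (dl.baseChange S) := LinearMap.lTensor_surjective S hdl
  have hθN := theta_bijective (R := R) S N
  have hθF := theta_bijective_of_free (R := R) S F
  have hβ : Function.Surjective (dl' ∘ₗ theta S N) := hdl'.comp hθN.2
  refine nonempty_equiv_of_ker_eq (dl.baseChange S) (dl' ∘ₗ theta S N) hα hβ ?_
  ext x
  rw [LinearMap.mem_ker, LinearMap.mem_ker, LinearMap.comp_apply, hker', hex' x]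
  constructor
  · rintro ⟨y, rfl⟩
    exact ⟨theta S F y, (theta_natural S c y).symm⟩
  · rintro ⟨ψ, hψ⟩
    obtain ⟨y, rfl⟩ := hθF.2 ψ
    refine ⟨y, hθN.1 ?_⟩
    rw [theta_natural, hψ]

end Coker

end Groth.Agent.Lib.R2LeadLciT1b
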